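import Mathlib
import Groth.Agent.Lib.Helper3.FCFreeG

set_option autoImplicit false
universe w v₂ u₁ u₂
open CategoryTheory Limits Opposite Simplicial

namespace Groth.Agent.Helper3.CechExtG

open FCFreeG

variable {C : Type u₁} [Category.{w} C] {D : Type u₂} [Category.{v₂} D] (Φ : D ⥤ C)
  (K : SimplicialObject (FormalCoproduct.{w} D))

/-- the chain complex of free abelian presheaves attached to a simplicial formal coproduct -/
noncomputable abbrev freeCx : ChainComplex (Cᵒᵖ ⥤ AddCommGrpCat.{w}) ℕ :=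
  AlgebraicTopology.AlternatingFaceMapComplex.obj (K ⋙ zfree Φ)

variable (M : Cᵒᵖ ⥤ AddCommGrpCat.{w})

/-- evaluation of morphisms at an element, as an additive map -/
def evalAt {X Y : AddCommGrpCat.{w}} (x : X) : (X ⟶ Y) →+ Y where
  toFun φ := φ.hom x
  map_zero' := rfl
  map_add' _ _ := rfl

lemma hom_sum_apply {X Y : AddCommGrpCat.{w}} {ι : Type*} (s : Finset ι) (φ : ι → (X ⟶ Y)) (x : X) :
    (∑ i ∈ s, φ i).hom x = ∑ i ∈ s, (φ i).hom x := map_sum (evalAt x) φ s

lemma hom_zsmul_apply {X Y : AddCommGrpCat.{w}} (c : ℤ) (φ : X ⟶ Y) (x : X) :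
    (c • φ).hom x = c • φ.hom x := map_zsmul (evalAt x) c φ

lemma he (n : ℕ) (f : (zfree Φ).obj (K _⦋n⦌) ⟶ M) :
    homEquiv (Φ := Φ) (K _⦋n + 1⦌) M ((freeCx Φ K).d (n + 1) n ≫ f) =
      (((FormalCoproduct.cochainComplexFunctor K).obj (Φ.op ⋙ M)).d n (n + 1)).hom
        (homEquiv (K _⦋n⦌) M f) := by
  have hL : (freeCx Φ K).d (n + 1) n =
      ∑ j : Fin (n + 2), (-1 : ℤ) ^ (j : ℕ) • SimplicialObject.δ (K ⋙ zfree Φ) j :=
    AlgebraicTopology.AlternatingFaceMapComplex.obj_d_eq _ n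
  have hR : ((FormalCoproduct.cochainComplexFunctor K).obj (Φ.op ⋙ M)).d n (n + 1) =
      ∑ j : Fin (n + 2), (-1 : ℤ) ^ (j : ℕ) •
        CosimplicialObject.δ ((FormalCoproduct.cosimplicialObjectFunctor K).obj (Φ.op ⋙ M)) j := by
    rw [FormalCoproduct.cochainComplexFunctor_obj_d, CochainComplex.of_d]
    rfl
  rw [hL, hR, Preadditive.sum_comp, map_sum]
  refine Eq.trans ?_ (hom_sum_apply _ _ _).symm
  refine Finset.sum_congr rfl fun j _ => ?_
  rw [Preadditive.zsmul_comp, map_zsmul]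
  refine Eq.trans ?_ (hom_zsmul_apply _ _ _).symm
  congr 1
  exact homEquiv_map_comp (K.δ j) M f

variable {Z : Cᵒᵖ ⥤ AddCommGrpCat.{w}}
  (π : freeCx Φ K ⟶ (ChainComplex.single₀ _).obj Z) [QuasiIso π]

include π in
lemma freeCx_exact (n : ℕ) : (ShortComplex.mk ((freeCx Φ K).d (n + 2) (n + 1))
    ((freeCx Φ K).d (n + 1) n) ((freeCx Φ K).d_comp_d _ _ _)).Exact := by
  have h : (freeCx Φ K).ExactAt (n + 1) := by
    rw [← quasiIsoAt_iff_exactAt' π (n + 1) (ChainComplex.exactAt_succ_single_obj _ _)]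
    infer_instance
  exact (HomologicalComplex.exactAt_iff' _ (n + 2) (n + 1) n (by simp) (by simp)).1 h

include π in
/-- Čech cohomology with respect to a simplicial formal coproduct whose free complex is a
resolution vanishes on injective presheaves in positive degrees -/
theorem isZero_homology_of_injective [Injective M] (n : ℕ) :
    IsZero (((FormalCoproduct.cochainComplexFunctor K).obj (Φ.op ⋙ M)).homology (n + 1)) := by
  rw [← HomologicalComplex.exactAt_iff_isZero_homology,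
    HomologicalComplex.exactAt_iff' _ n (n + 1) (n + 2) (by simp) (by simp),
    ShortComplex.ab_exact_iff]
  intro x hx
  change (((FormalCoproduct.cochainComplexFunctor K).obj (Φ.op ⋙ M)).d (n + 1) (n + 2)).hom x = 0
    at hx
  change ∃ y, (((FormalCoproduct.cochainComplexFunctor K).obj (Φ.op ⋙ M)).d n (n + 1)).hom y = x
  obtain ⟨g, rfl⟩ := (homEquiv (Φ := Φ) (K _⦋n + 1⦌) M).surjective x
  rw [← he] at hx
  have hg : (freeCx Φ K).d (n + 2) (n + 1) ≫ g = 0 := by
    apply (homEquiv (Φ := Φ) (K _⦋n + 1 + 1⦌) M).injective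
    exact hx.trans (map_zero _).symm
  let g' := (freeCx_exact Φ K π n).descToInjective g hg
  have hg' : (freeCx Φ K).d (n + 1) n ≫ g' = g := (freeCx_exact Φ K π n).comp_descToInjective g hg
  refine ⟨homEquiv (Φ := Φ) (K _⦋n⦌) M g', ?_⟩
  rw [← he, hg']

end Groth.Agent.Helper3.CechExtG
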