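import Mathlib

set_option autoImplicit false
universe u
open CategoryTheory Limits Opposite Simplicial

namespace Groth.Agent.Helper3.EDType

variable (Aug : SimplicialObject.Augmented (Type u)) {E : Type u} (p : E → Aug.right)
  (β : ∀ n : ℕ, Aug.left _⦋n⦌ → (Fin (n + 1) → E))
  (hnat : ∀ {m n : ℕ} (θ : ⦋m⦌ ⟶ ⦋n⦌) (x : Aug.left _⦋n⦌) (k : Fin (m + 1)),
    β m (Aug.left.map θ.op x) k = β n x (θ.toOrderHom k))
  (hinj : ∀ n, Function.Injective (β n))
  (haug : ∀ n (x : Aug.left _⦋n⦌) (k : Fin (n + 1)), p (β n x k) = Aug.hom.app (op ⦋n⦌) x)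
  (hsurj : ∀ n (e : Fin (n + 1) → E) (b : Aug.right), (∀ k, p (e k) = b) → ∃ x, β n x = e)
  (hp : Function.Surjective p)

include hnat hinj haug hsurj hp in
/-- an augmented simplicial set which is the Čech nerve of a surjection has an extra degeneracy -/
theorem nonempty_extraDegeneracy :
    Nonempty (SimplicialObject.Augmented.ExtraDegeneracy Aug) := by
  classical
  choose sec hsec using hp
  let ε : ∀ n, Aug.left _⦋n⦌ → Aug.right := fun n x => Aug.hom.app (op ⦋n⦌) x
  have hε : ∀ {m n : ℕ} (θ : ⦋m⦌ ⟶ ⦋n⦌) (x : Aug.left _⦋n⦌), ε m (Aug.left.map θ.op x) = ε n x := by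
    intro m n θ x
    exact ConcreteCategory.congr_hom (Aug.hom.naturality θ.op) x
  have h0 : ∀ b : Aug.right, ∃ x, β 0 x = fun _ => sec b := fun b =>
    hsurj 0 _ b (fun _ => hsec b)
  choose s' hs' using h0
  have h1 : ∀ n (x : Aug.left _⦋n⦌), ∃ y, β (n + 1) y = Fin.cons (sec (ε n x)) (β n x) := by
    intro n x
    refine hsurj (n + 1) _ (ε n x) (fun k => ?_)
    refine Fin.cases ?_ (fun j => ?_) k
    · simpa using hsec _
    · simpa using haug n x j
  choose s hs using h1
  refine ⟨{ s' := ↾s', s := fun n => ↾(s n), s'_comp_ε := ?_, s₀_comp_δ₁ := ?_, s_comp_δ₀ := ?_,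
            s_comp_δ := ?_, s_comp_σ := ?_ }⟩
  · refine ConcreteCategory.hom_ext _ _ fun b => ?_
    change ε 0 (s' b) = b
    refine (haug 0 (s' b) 0).symm.trans ?_
    rw [hs']
    exact hsec b
  · refine ConcreteCategory.hom_ext _ _ fun x => ?_
    change Aug.left.map (SimplexCategory.δ 1).op (s 0 x) = s' (ε 0 x)
    apply hinj 0
    funext k
    rw [hnat, hs, hs']
    obtain rfl : k = 0 := Fin.eq_zero k
    rfl
  · intro n
    refine ConcreteCategory.hom_ext _ _ fun x => ?_
    change Aug.left.map (SimplexCategory.δ 0).op (s n x) = x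
    apply hinj n
    funext k
    rw [hnat, hs]
    rfl
  · intro n i
    refine ConcreteCategory.hom_ext _ _ fun x => ?_
    change Aug.left.map (SimplexCategory.δ i.succ).op (s (n + 1) x) =
      s n (Aug.left.map (SimplexCategory.δ i).op x)
    apply hinj (n + 1)
    funext k
    rw [hnat, hs, hs, hε]
    refine Fin.cases ?_ (fun j => ?_) k
    · rfl
    · change Fin.cons (α := fun _ => E) (sec (ε (n + 1) x)) (β (n + 1) x) (Fin.succAbove i.succ j.succ) =
        β n (Aug.left.map (SimplexCategory.δ i).op x) j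
      rw [Fin.succ_succAbove_succ, Fin.cons_succ, hnat]
      rfl
  · intro n i
    refine ConcreteCategory.hom_ext _ _ fun x => ?_
    change Aug.left.map (SimplexCategory.σ i.succ).op (s n x) =
      s (n + 1) (Aug.left.map (SimplexCategory.σ i).op x)
    apply hinj (n + 2)
    funext k
    rw [hnat, hs, hs, hε]
    refine Fin.cases ?_ (fun j => ?_) k
    · rfl
    · change Fin.cons (α := fun _ => E) (sec (ε n x)) (β n x) (Fin.predAbove i.succ j.succ) =
        β (n + 1) (Aug.left.map (SimplexCategory.σ i).op x) j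
      rw [Fin.succ_predAbove_succ, Fin.cons_succ, hnat]
      rfl

end Groth.Agent.Helper3.EDType
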