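import Mathlib
import Groth.Agent.Lib.Helper3.CechNerveResG

/-!
Vanishing of Čech cohomology of (restrictions of) injective presheaves, universe-general version.
-/

set_option autoImplicit false
universe w v₁ v₂ u₁ u₂
open CategoryTheory Limits Opposite

namespace Groth.Agent.Helper3.CechG

variable {C : Type u₁} [Category.{v₁} C] {D : Type u₂} [Category.{v₂} D] [LocallySmall.{w} D]
  (u : C ⥤ D) {X : C} [HasFiniteProducts (Over X)]
  [PreservesFiniteProducts (Over.post (X := X) u)] {ι : Type w} (Y : ι → Over X)
  (M : Dᵒᵖ ⥤ AddCommGrpCat.{w})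

variable (D) in
/-- the category with shrunk homs -/
abbrev D' : Type u₂ := ShrinkHoms D

noncomputable instance : Category.{w} (D' D) := ShrinkHoms.instCategory.{w} D

variable (D) in
/-- the equivalence with a category with `w`-small morphism types -/
noncomputable abbrev e : D ≌ D' D := ShrinkHoms.equivalence.{w} D

/-- the transported presheaf -/
noncomputable abbrev M' : (D' D)ᵒᵖ ⥤ AddCommGrpCat.{w} := (e.{w} D).inverse.op ⋙ M

instance [Injective M] : Injective (M' M) :=
  ((e.{w} D).op.congrLeft (E := AddCommGrpCat.{w})).map_injective_iff M |>.2 inferInstance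

instance : PreservesFiniteProducts (Over.post (X := X) (u ⋙ (e.{w} D).functor)) := by
  have h1 : (Over.post (X := u.obj X) (e.{w} D).functor).IsEquivalence :=
    (Over.postEquiv (u.obj X) (e.{w} D)).isEquivalence_functor
  have h2 : PreservesFiniteProducts (Over.post (X := X) u ⋙
      Over.post (X := u.obj X) (e.{w} D).functor) := inferInstance
  exact ⟨fun n => preservesLimitsOfShape_of_natIso (Over.postComp u (e.{w} D).functor).symm⟩

/-- the comparison of the restricted presheaves -/
noncomputable def presheafIso :
    (Over.forget X).op ⋙ (u ⋙ (e.{w} D).functor).op ⋙ M' M ≅ (Over.forget X).op ⋙ u.op ⋙ M :=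
  NatIso.ofComponents
    (fun W => M.mapIso ((e.{w} D).unitIso.app (u.obj W.unop.left)).op)
    (fun {W W'} f => by
      change M.map ((e.{w} D).inverse.map ((e.{w} D).functor.map (u.map f.unop.left))).op ≫
        M.map (((e.{w} D).unitIso.app (u.obj W'.unop.left)).hom).op =
        M.map (((e.{w} D).unitIso.app (u.obj W.unop.left)).hom).op ≫ M.map (u.map f.unop.left).op
      rw [← M.map_comp, ← M.map_comp, ← op_comp, ← op_comp]
      congr 2
      exact ((e.{w} D).unitIso.hom.naturality (u.map f.unop.left)).symm)

/-- Čech cohomology of the restriction of an injective presheaf vanishes in positive degrees -/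
theorem isZero_cech_of_injective [Injective M] (p : ℕ) :
    IsZero (((cechComplexFunctor Y).obj ((Over.forget X).op ⋙ u.op ⋙ M)).homology (p + 1)) := by
  have h := CechNerveResG.isZero_cech_of_injective (u ⋙ (e.{w} D).functor) Y (M' M) p
  exact IsZero.of_iso h ((HomologicalComplex.homologyFunctor _ _ (p + 1)).mapIso
    ((cechComplexFunctor Y).mapIso (presheafIso u M))).symm

end Groth.Agent.Helper3.CechG
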