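import Mathlib

set_option autoImplicit false
universe w v u
open CategoryTheory Limits Abelian

namespace Groth.Agent.Helper3.AcyClass

variable {A : Type u} [Category.{v} A] [Abelian A] [HasExt.{w} A] [EnoughInjectives A]

/-- dimension shifting: a class of objects stable under cokernels of embeddings into injectives,
and for which `Hom(Z, -)` is exact on such sequences, is `Ext(Z, -)`-acyclic -/
theorem ext_eq_zero (Z : A) (P : A → Prop)
    (hP : ∀ (S : ShortComplex A), S.ShortExact → P S.X₁ → Injective S.X₂ →
      P S.X₃ ∧ ∀ ψ : Z ⟶ S.X₃, ∃ ψ' : Z ⟶ S.X₂, ψ' ≫ S.g = ψ)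
    (n : ℕ) : ∀ (M : A), P M → ∀ (x : Ext Z M (n + 1)), x = 0 := by
  induction n with
  | zero =>
    intro M hM x
    let S : ShortComplex A := ShortComplex.mk (Injective.ι M) (cokernel.π (Injective.ι M))
      (cokernel.condition _)
    have hS : S.ShortExact :=
      { exact := ShortComplex.exact_cokernel _
        mono_f := by dsimp [S]; infer_instance
        epi_g := by dsimp [S]; infer_instance }
    obtain ⟨hQ, hsurj⟩ := hP S hS hM (by dsimp [S]; infer_instance)
    have hx : x.comp (Ext.mk₀ S.f) (add_zero 1) = 0 := by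
      have : Injective S.X₂ := by dsimp [S]; infer_instance
      exact Ext.eq_zero_of_injective _
    obtain ⟨y, hy⟩ := Ext.covariant_sequence_exact₁ Z hS x hx (zero_add 1)
    obtain ⟨ψ, rfl⟩ := (Ext.mk₀_bijective Z S.X₃).2 y
    obtain ⟨ψ', rfl⟩ := hsurj ψ
    rw [← hy, ← Ext.mk₀_comp_mk₀, Ext.comp_assoc_of_second_deg_zero, hS.comp_extClass,
      Ext.comp_zero]
  | succ k ih =>
    intro M hM x
    let S : ShortComplex A := ShortComplex.mk (Injective.ι M) (cokernel.π (Injective.ι M))
      (cokernel.condition _)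
    have hS : S.ShortExact :=
      { exact := ShortComplex.exact_cokernel _
        mono_f := by dsimp [S]; infer_instance
        epi_g := by dsimp [S]; infer_instance }
    obtain ⟨hQ, hsurj⟩ := hP S hS hM (by dsimp [S]; infer_instance)
    have hx : x.comp (Ext.mk₀ S.f) (add_zero (k + 1 + 1)) = 0 := by
      have : Injective S.X₂ := by dsimp [S]; infer_instance
      exact Ext.eq_zero_of_injective _
    obtain ⟨y, hy⟩ := Ext.covariant_sequence_exact₁ Z hS x hx (n₀ := k + 1) rfl
    rw [← hy, ih S.X₃ hQ y, Ext.zero_comp]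

end Groth.Agent.Helper3.AcyClass
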