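import Mathlib
import Groth.Prelude.Def_RDerDelta

/-!
# Injective resolutions of short exact sequences as injective resolutions in `ShortComplex C`
-/

set_option autoImplicit false
universe v u
open CategoryTheory Limits

namespace Groth.Agent.Helper3.RDerS

variable {C : Type u} [Category.{v} C] [Abelian C]

/-- a split short complex with injective ends is an injective object of `ShortComplex C` -/
theorem injective_of_splitting (A : ShortComplex C) (s : A.Splitting) [Injective A.X₁]
    [Injective A.X₃] : Injective A := by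
  constructor
  intro P Q a m hm
  have hm₂ : Mono m.τ₂ := inferInstanceAs (Mono (ShortComplex.π₂.map m))
  have hm₃ : Mono m.τ₃ := inferInstanceAs (Mono (ShortComplex.π₃.map m))
  let β : Q.X₂ ⟶ A.X₁ := Injective.factorThru (a.τ₂ ≫ s.r) m.τ₂
  let b₃ : Q.X₃ ⟶ A.X₃ := Injective.factorThru a.τ₃ m.τ₃
  have hβ : m.τ₂ ≫ β = a.τ₂ ≫ s.r := Injective.comp_factorThru _ _
  have hb₃ : m.τ₃ ≫ b₃ = a.τ₃ := Injective.comp_factorThru _ _
  refine ⟨ShortComplex.Hom.mk (Q.f ≫ β) (β ≫ A.f + Q.g ≫ b₃ ≫ s.s) b₃ ?_ ?_, ?_⟩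
  · rw [Preadditive.comp_add, Category.assoc, Q.zero_assoc, zero_comp, add_zero]
  · rw [Preadditive.add_comp, Category.assoc, A.zero, comp_zero, zero_add, Category.assoc,
      Category.assoc, s.s_g, Category.comp_id]
  · ext
    · change m.τ₁ ≫ Q.f ≫ β = a.τ₁
      rw [← Category.assoc, m.comm₁₂, Category.assoc, hβ, ← Category.assoc, ← a.comm₁₂,
        Category.assoc, s.f_r, Category.comp_id]
    · change m.τ₂ ≫ (β ≫ A.f + Q.g ≫ b₃ ≫ s.s) = a.τ₂
      have e1 : m.τ₂ ≫ β ≫ A.f = a.τ₂ ≫ s.r ≫ A.f := by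
        rw [← Category.assoc, hβ, Category.assoc]
      have e2 : m.τ₂ ≫ Q.g ≫ b₃ ≫ s.s = a.τ₂ ≫ A.g ≫ s.s := by
        rw [← Category.assoc, m.comm₂₃, Category.assoc, ← Category.assoc m.τ₃, hb₃,
          ← Category.assoc, ← a.comm₂₃, Category.assoc]
      rw [Preadditive.comp_add, e1, e2, ← Preadditive.comp_add, s.id, Category.comp_id]
    · exact hb₃

/-- a morphism of short complexes with monomorphic components is a monomorphism -/
theorem mono_of_components {P Q : ShortComplex C} (m : P ⟶ Q) [Mono m.τ₁] [Mono m.τ₂]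
    [Mono m.τ₃] : Mono m := by
  constructor
  intro Z g h e
  ext
  · rw [← cancel_mono m.τ₁]
    exact congrArg ShortComplex.Hom.τ₁ e
  · rw [← cancel_mono m.τ₂]
    exact congrArg ShortComplex.Hom.τ₂ e
  · rw [← cancel_mono m.τ₃]
    exact congrArg ShortComplex.Hom.τ₃ e

/-- auxiliary: exactness is detected by an exact functor on the kernel-cokernel composite -/
lemma map_kernel_cokernel_zero {D : Type*} [Category D] [Abelian D] {E' : Type*} [Category E']
    [Abelian E'] (G : D ⥤ E') [G.PreservesZeroMorphisms] [PreservesFiniteLimits G]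
    [PreservesFiniteColimits G] (E : ShortComplex D) (h : (E.map G).Exact) :
    G.map (kernel.ι E.g ≫ cokernel.π E.f) = 0 := by
  have h0 : kernel.ι (G.map E.g) ≫ cokernel.π (G.map E.f) = 0 :=
    (ShortComplex.exact_iff_kernel_ι_comp_cokernel_π_zero (E.map G)).1 h
  rw [G.map_comp, ← kernelComparison_comp_ι E.g G, ← π_comp_cokernelComparison E.f G,
    Category.assoc, reassoc_of% h0, zero_comp, comp_zero]

/-- a short complex of short complexes is exact as soon as its three components are -/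
theorem exact_of_components (E : ShortComplex (ShortComplex C))
    (h₁ : (E.map ShortComplex.π₁).Exact) (h₂ : (E.map ShortComplex.π₂).Exact)
    (h₃ : (E.map ShortComplex.π₃).Exact) : E.Exact := by
  rw [ShortComplex.exact_iff_kernel_ι_comp_cokernel_π_zero]
  ext
  · exact map_kernel_cokernel_zero ShortComplex.π₁ E h₁
  · exact map_kernel_cokernel_zero ShortComplex.π₂ E h₂
  · exact map_kernel_cokernel_zero ShortComplex.π₃ E h₃

section mkRes

variable {D : Type*} [Category D] [Abelian D]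

/-- constructor for injective resolutions from exactness data -/
noncomputable def mkRes (Z : D) (K : CochainComplex D ℕ) (hinj : ∀ n, Injective (K.X n))
    (η : Z ⟶ K.X 0) [Mono η] (hη : η ≫ K.d 0 1 = 0)
    (h₀ : (ShortComplex.mk η (K.d 0 1) hη).Exact)
    (hs : ∀ n, (ShortComplex.mk (K.d n (n + 1)) (K.d (n + 1) (n + 2))
      (K.d_comp_d _ _ _)).Exact) : InjectiveResolution Z where
  cocomplex := K
  injective := hinj
  ι := (CochainComplex.fromSingle₀Equiv K Z).symm ⟨η, hη⟩
  quasiIso := ⟨fun n => by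
    cases n with
    | zero =>
      rw [CochainComplex.quasiIsoAt₀_iff, ShortComplex.quasiIso_iff_of_zeros]
      · refine (ShortComplex.exact_and_mono_f_iff_of_iso ?_).2 ⟨h₀, inferInstance⟩
        refine ShortComplex.isoMk (Iso.refl _) (Iso.refl _) (Iso.refl _) ?_ ?_
        · change 𝟙 Z ≫ η = ((K.fromSingle₀Equiv Z).symm ⟨η, hη⟩).f 0 ≫ 𝟙 (K.X 0)
          rw [Category.id_comp, Category.comp_id,
            CochainComplex.fromSingle₀Equiv_symm_apply_f_zero η hη]
        · change 𝟙 (K.X 0) ≫ K.d 0 1 = K.d 0 1 ≫ 𝟙 (K.X 1)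
          rw [Category.id_comp, Category.comp_id]
      · rfl
      · rfl
      · exact K.shape 0 0 (by simp)
    | succ n =>
      rw [quasiIsoAt_iff_exactAt]
      · rw [HomologicalComplex.exactAt_iff' _ n (n + 1) (n + 1 + 1) (by simp) (by simp)]
        exact hs n
      · apply CochainComplex.exactAt_succ_single_obj⟩

@[simp]
lemma mkRes_cocomplex (Z : D) (K : CochainComplex D ℕ) (hinj : ∀ n, Injective (K.X n))
    (η : Z ⟶ K.X 0) [Mono η] (hη : η ≫ K.d 0 1 = 0)
    (h₀ : (ShortComplex.mk η (K.d 0 1) hη).Exact)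
    (hs : ∀ n, (ShortComplex.mk (K.d n (n + 1)) (K.d (n + 1) (n + 2))
      (K.d_comp_d _ _ _)).Exact) : (mkRes Z K hinj η hη h₀ hs).cocomplex = K := rfl

lemma mkRes_ι_f_zero (Z : D) (K : CochainComplex D ℕ) (hinj : ∀ n, Injective (K.X n))
    (η : Z ⟶ K.X 0) [Mono η] (hη : η ≫ K.d 0 1 = 0)
    (h₀ : (ShortComplex.mk η (K.d 0 1) hη).Exact)
    (hs : ∀ n, (ShortComplex.mk (K.d n (n + 1)) (K.d (n + 1) (n + 2))
      (K.d_comp_d _ _ _)).Exact) : (mkRes Z K hinj η hη h₀ hs).ι.f 0 = η :=
  CochainComplex.fromSingle₀Equiv_symm_apply_f_zero η hη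

end mkRes

section toRes

variable {S : ShortComplex C} (T : RDer.SESRes S)

/-- the degree `n` term of an injective resolution of a short complex -/
abbrev Kx (n : ℕ) : ShortComplex C :=
  T.cx.map (HomologicalComplex.eval C (ComplexShape.up ℕ) n)

/-- the differential -/
def Kd (i j : ℕ) : Kx T i ⟶ Kx T j where
  τ₁ := T.I₁.cocomplex.d i j
  τ₂ := T.I₂.cocomplex.d i j
  τ₃ := T.I₃.cocomplex.d i j
  comm₁₂ := (T.f.comm i j).symm
  comm₂₃ := (T.g.comm i j).symm

/-- an injective resolution of a short complex as a cochain complex of short complexes -/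
def K : CochainComplex (ShortComplex C) ℕ where
  X := Kx T
  d := Kd T
  shape i j h := by
    ext
    · exact T.I₁.cocomplex.shape i j h
    · exact T.I₂.cocomplex.shape i j h
    · exact T.I₃.cocomplex.shape i j h
  d_comp_d' i j k _ _ := by
    ext
    · exact T.I₁.cocomplex.d_comp_d i j k
    · exact T.I₂.cocomplex.d_comp_d i j k
    · exact T.I₃.cocomplex.d_comp_d i j k

/-- the augmentation -/
def η : S ⟶ (K T).X 0 where
  τ₁ := T.I₁.ι.f 0
  τ₂ := T.I₂.ι.f 0
  τ₃ := T.I₃.ι.f 0
  comm₁₂ := by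
    have h := congrArg (fun φ => φ.f 0) T.ι_f
    simp only [HomologicalComplex.comp_f, CochainComplex.single₀_map_f_zero] at h
    exact h
  comm₂₃ := by
    have h := congrArg (fun φ => φ.f 0) T.ι_g
    simp only [HomologicalComplex.comp_f, CochainComplex.single₀_map_f_zero] at h
    exact h

instance : Mono (η T) := by
  have : Mono (η T).τ₁ := inferInstanceAs (Mono (T.I₁.ι.f 0))
  have : Mono (η T).τ₂ := inferInstanceAs (Mono (T.I₂.ι.f 0))
  have : Mono (η T).τ₃ := inferInstanceAs (Mono (T.I₃.ι.f 0))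
  exact mono_of_components _

lemma η_d : η T ≫ (K T).d 0 1 = 0 := by
  ext
  · exact T.I₁.ι_f_zero_comp_complex_d
  · exact T.I₂.ι_f_zero_comp_complex_d
  · exact T.I₃.ι_f_zero_comp_complex_d

/-- an injective resolution of a short exact sequence is an injective resolution in the category
of short complexes -/
noncomputable def toRes : InjectiveResolution S :=
  mkRes S (K T)
    (fun n => by
      have : Injective (Kx T n).X₁ := T.I₁.injective n
      have : Injective (Kx T n).X₃ := T.I₃.injective n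
      exact injective_of_splitting (Kx T n) (T.splitting n))
    (η T) (η_d T)
    (exact_of_components _ T.I₁.exact₀ T.I₂.exact₀ T.I₃.exact₀)
    (fun n => exact_of_components _ (T.I₁.exact_succ n) (T.I₂.exact_succ n) (T.I₃.exact_succ n))

end toRes

section lift

variable {S S' : ShortComplex C} (φ : S ⟶ S') (T : RDer.SESRes S) (T' : RDer.SESRes S')

lemma toRes_ι_f_zero : (toRes T).ι.f 0 = η T := mkRes_ι_f_zero _ _ _ _ _ _ _

/-- a lift of a morphism of short complexes to the resolutions -/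
noncomputable def lift : K T ⟶ K T' := InjectiveResolution.desc φ (toRes T') (toRes T)

lemma η_lift : η T ≫ (lift φ T T').f 0 = φ ≫ η T' := by
  have h := InjectiveResolution.desc_commutes_zero φ (toRes T') (toRes T)
  rw [toRes_ι_f_zero, toRes_ι_f_zero] at h
  exact h

/-- the components of the lift -/
noncomputable def lift₁ : T.I₁.cocomplex ⟶ T'.I₁.cocomplex where
  f n := ((lift φ T T').f n).τ₁
  comm' i j _ := congrArg ShortComplex.Hom.τ₁ ((lift φ T T').comm i j)

noncomputable def lift₂ : T.I₂.cocomplex ⟶ T'.I₂.cocomplex where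
  f n := ((lift φ T T').f n).τ₂
  comm' i j _ := congrArg ShortComplex.Hom.τ₂ ((lift φ T T').comm i j)

noncomputable def lift₃ : T.I₃.cocomplex ⟶ T'.I₃.cocomplex where
  f n := ((lift φ T T').f n).τ₃
  comm' i j _ := congrArg ShortComplex.Hom.τ₃ ((lift φ T T').comm i j)

lemma lift₁_f : lift₁ φ T T' ≫ T'.f = T.f ≫ lift₂ φ T T' := by
  ext n
  exact ((lift φ T T').f n).comm₁₂

lemma lift₂_g : lift₂ φ T T' ≫ T'.g = T.g ≫ lift₃ φ T T' := by
  ext n
  exact ((lift φ T T').f n).comm₂₃

lemma ι_lift₁ : T.I₁.ι.f 0 ≫ (lift₁ φ T T').f 0 = φ.τ₁ ≫ T'.I₁.ι.f 0 :=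
  congrArg ShortComplex.Hom.τ₁ (η_lift φ T T')

lemma ι_lift₂ : T.I₂.ι.f 0 ≫ (lift₂ φ T T').f 0 = φ.τ₂ ≫ T'.I₂.ι.f 0 :=
  congrArg ShortComplex.Hom.τ₂ (η_lift φ T T')

lemma ι_lift₃ : T.I₃.ι.f 0 ≫ (lift₃ φ T T').f 0 = φ.τ₃ ≫ T'.I₃.ι.f 0 :=
  congrArg ShortComplex.Hom.τ₃ (η_lift φ T T')

/-- the lift as a morphism of short complexes of complexes -/
noncomputable def liftCx : T.cx ⟶ T'.cx where
  τ₁ := lift₁ φ T T'
  τ₂ := lift₂ φ T T'
  τ₃ := lift₃ φ T T'
  comm₁₂ := lift₁_f φ T T'
  comm₂₃ := lift₂_g φ T T'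

end lift

end Groth.Agent.Helper3.RDerS
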