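import Mathlib
import Groth.Prelude.Def_RDerDelta
import Groth.Agent.Lib.Helper3.RDerS

/-!
# The horseshoe lemma
-/

set_option autoImplicit false
universe v u
open CategoryTheory Limits

namespace Groth.Agent.Helper3.RDerH

open Groth.Agent.Helper3.RDerS

variable {C : Type u} [Category.{v} C] [Abelian C]

/-- negating both maps preserves exactness -/
lemma exact_neg {X Y Z : C} (f : X ⟶ Y) (g : Y ⟶ Z) (w : f ≫ g = 0)
    (h : (ShortComplex.mk f g w).Exact) :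
    (ShortComplex.mk (-f) (-g) (by rw [Preadditive.neg_comp, Preadditive.comp_neg, w, neg_zero,
      neg_zero])).Exact := by
  refine (ShortComplex.exact_iff_of_iso ?_).1 h
  refine ShortComplex.isoMk (Iso.refl _) ⟨-𝟙 _, -𝟙 _, by simp, by simp⟩ (Iso.refl _) ?_ ?_
  · simp
  · simp

lemma exact_of_eq {X Y Z : C} {f : X ⟶ Y} {g g' : Y ⟶ Z} (e : g = g') (w : f ≫ g = 0)
    (h : (ShortComplex.mk f g w).Exact) :
    (ShortComplex.mk f g' (by rw [← e, w])).Exact := by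
  subst e
  exact h

section

variable {S : ShortComplex C} (hS : S.ShortExact) (I₁ : InjectiveResolution S.X₁)
  (I₃ : InjectiveResolution S.X₃)

/-- the shifted and negated complex -/
def Kneg : CochainComplex C ℕ where
  X n := I₁.cocomplex.X (n + 1)
  d i j := -I₁.cocomplex.d (i + 1) (j + 1)
  shape i j h := by
    rw [I₁.cocomplex.shape, neg_zero]
    intro h'
    exact h (by simpa using h')
  d_comp_d' i j k _ _ := by
    rw [Preadditive.neg_comp, Preadditive.comp_neg, I₁.cocomplex.d_comp_d, neg_zero, neg_zero]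

/-- the kernel of the second differential -/
noncomputable abbrev Z : C := kernel (-I₁.cocomplex.d 1 2)

/-- the inclusion of the kernel -/
noncomputable def ηZ : Z I₁ ⟶ (Kneg I₁).X 0 := kernel.ι (-I₁.cocomplex.d 1 2)

instance : Mono (ηZ I₁) := inferInstanceAs (Mono (kernel.ι (-I₁.cocomplex.d 1 2)))

/-- the shifted negated complex is an injective resolution of `Z` -/
noncomputable def resZ : InjectiveResolution (Z I₁) :=
  mkRes (Z I₁) (Kneg I₁) (fun n => I₁.injective (n + 1)) (ηZ I₁)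
    (kernel.condition _)
    (ShortComplex.exact_of_f_is_kernel _ (kernelIsKernel _))
    (fun n => exact_neg _ _ _ (I₁.exact_succ (n + 1)))

/-- the augmentation, with its source written as `Z` -/
def aug {Z : C} (I : InjectiveResolution Z) : Z ⟶ I.cocomplex.X 0 := I.ι.f 0

lemma aug_d {Z : C} (I : InjectiveResolution Z) : aug I ≫ I.cocomplex.d 0 1 = 0 :=
  I.ι_f_zero_comp_complex_d

instance {Z : C} (I : InjectiveResolution Z) : Mono (aug I) :=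
  inferInstanceAs (Mono (I.ι.f 0))

lemma aug_exact {Z : C} (I : InjectiveResolution Z) :
    (ShortComplex.mk (aug I) (I.cocomplex.d 0 1) (aug_d I)).Exact := I.exact₀

include hS in
/-- extension of the augmentation of `I₁` to `S.X₂` -/
noncomputable def ε' : S.X₂ ⟶ I₁.cocomplex.X 0 :=
  have := hS.mono_f
  Injective.factorThru (aug I₁) S.f

lemma f_ε' : S.f ≫ ε' hS I₁ = aug I₁ := by
  have := hS.mono_f
  exact Injective.comp_factorThru _ _

/-- the map `X₃ ⟶ I₁¹` -/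
noncomputable def ψ₁ : S.X₃ ⟶ I₁.cocomplex.X 1 :=
  have := hS.epi_g
  hS.exact.desc (-(ε' hS I₁ ≫ I₁.cocomplex.d 0 1)) (by
    rw [Preadditive.comp_neg, ← Category.assoc, f_ε', aug_d, neg_zero])

lemma g_ψ₁ : S.g ≫ ψ₁ hS I₁ = -(ε' hS I₁ ≫ I₁.cocomplex.d 0 1) := by
  have := hS.epi_g
  exact hS.exact.g_desc _ _

lemma ψ₁_d : ψ₁ hS I₁ ≫ (-I₁.cocomplex.d 1 2) = 0 := by
  have := hS.epi_g
  rw [← cancel_epi S.g, ← Category.assoc, g_ψ₁, comp_zero, Preadditive.neg_comp,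
    Preadditive.comp_neg, Category.assoc, I₁.cocomplex.d_comp_d, comp_zero, neg_zero, neg_zero]

/-- the map `X₃ ⟶ Z` -/
noncomputable def ψ : S.X₃ ⟶ Z I₁ := kernel.lift _ (ψ₁ hS I₁) (ψ₁_d hS I₁)

/-- the twisting cochain -/
noncomputable def ρ : I₃.cocomplex ⟶ Kneg I₁ := InjectiveResolution.desc (ψ hS I₁) (resZ I₁) I₃

/-- its components -/
noncomputable def ρf (n : ℕ) : I₃.cocomplex.X n ⟶ I₁.cocomplex.X (n + 1) := (ρ hS I₁ I₃).f n

lemma ρf_comm (n : ℕ) : ρf hS I₁ I₃ n ≫ I₁.cocomplex.d (n + 1) (n + 2) +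
    I₃.cocomplex.d n (n + 1) ≫ ρf hS I₁ I₃ (n + 1) = 0 := by
  have h := (ρ hS I₁ I₃).comm n (n + 1)
  change ρf hS I₁ I₃ n ≫ (-I₁.cocomplex.d (n + 1) (n + 2)) =
    I₃.cocomplex.d n (n + 1) ≫ ρf hS I₁ I₃ (n + 1) at h
  rw [← h, Preadditive.comp_neg, add_neg_cancel]

lemma ι_ρf : aug I₃ ≫ ρf hS I₁ I₃ 0 = ψ₁ hS I₁ := by
  have h := InjectiveResolution.desc_commutes_zero (ψ hS I₁) (resZ I₁) I₃
  have h' : (resZ I₁).ι.f 0 = ηZ I₁ := mkRes_ι_f_zero _ _ _ _ _ _ _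
  rw [h'] at h
  refine h.trans ?_
  exact kernel.lift_ι _ _ _

/-- the differential of the middle complex -/
noncomputable def d₂ (n : ℕ) : I₁.cocomplex.X n ⊞ I₃.cocomplex.X n ⟶
    I₁.cocomplex.X (n + 1) ⊞ I₃.cocomplex.X (n + 1) :=
  biprod.desc (I₁.cocomplex.d n (n + 1) ≫ biprod.inl)
    (ρf hS I₁ I₃ n ≫ biprod.inl + I₃.cocomplex.d n (n + 1) ≫ biprod.inr)

lemma d₂_sq (n : ℕ) : d₂ hS I₁ I₃ n ≫ d₂ hS I₁ I₃ (n + 1) = 0 := by
  apply biprod.hom_ext'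
  · simp [d₂]
  · simp only [d₂, biprod.inr_desc_assoc, Preadditive.add_comp, Category.assoc, biprod.inl_desc,
      biprod.inr_desc, Preadditive.comp_add, comp_zero]
    rw [← Category.assoc, ← Category.assoc, ← Category.assoc, I₃.cocomplex.d_comp_d, zero_comp,
      add_zero, ← Preadditive.add_comp, ρf_comm, zero_comp]

lemma inl_d₂ (n : ℕ) : biprod.inl ≫ d₂ hS I₁ I₃ n = I₁.cocomplex.d n (n + 1) ≫ biprod.inl := by
  simp [d₂]

lemma d₂_snd (n : ℕ) : d₂ hS I₁ I₃ n ≫ biprod.snd = biprod.snd ≫ I₃.cocomplex.d n (n + 1) := by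
  apply biprod.hom_ext'
  · simp [d₂]
  · simp [d₂]

/-- the augmentation of the middle complex -/
noncomputable def ε₂' : S.X₂ ⟶ I₁.cocomplex.X 0 ⊞ I₃.cocomplex.X 0 :=
  biprod.lift (ε' hS I₁) (S.g ≫ aug I₃)

lemma ε₂'_d₂ : ε₂' hS I₁ I₃ ≫ d₂ hS I₁ I₃ 0 = 0 := by
  apply biprod.hom_ext
  · simp only [ε₂', d₂, Category.assoc, zero_comp]
    rw [← Category.assoc, biprod.lift_desc]
    simp only [Preadditive.add_comp, Category.assoc, biprod.inl_fst, biprod.inr_fst,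
      Category.comp_id, comp_zero, add_zero, Preadditive.comp_add]
    rw [ι_ρf, g_ψ₁, add_neg_cancel]
  · simp only [ε₂', d₂, Category.assoc, zero_comp]
    rw [← Category.assoc, biprod.lift_desc]
    simp [aug_d]

lemma ε₂'_fst : ε₂' hS I₁ I₃ ≫ biprod.fst = ε' hS I₁ := biprod.lift_fst _ _

lemma ε₂'_snd : ε₂' hS I₁ I₃ ≫ biprod.snd = S.g ≫ aug I₃ := biprod.lift_snd _ _

lemma f_ε₂' : S.f ≫ ε₂' hS I₁ I₃ = aug I₁ ≫ biprod.inl := by
  apply biprod.hom_ext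
  · rw [Category.assoc, ε₂'_fst, f_ε', Category.assoc, biprod.inl_fst, Category.comp_id]
  · rw [Category.assoc, ε₂'_snd, S.zero_assoc, zero_comp, Category.assoc, biprod.inl_snd,
      comp_zero]

instance mono_ε₂' : Mono (ε₂' hS I₁ I₃) := by
  have := hS.mono_f
  apply Preadditive.mono_of_cancel_zero
  intro A a ha
  have h1 : a ≫ S.g = 0 := by
    rw [← cancel_mono (aug I₃), Category.assoc, ← ε₂'_snd hS I₁ I₃, ← Category.assoc, ha,
      zero_comp, zero_comp]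
  have h2 : hS.exact.lift a h1 = 0 := by
    rw [← cancel_mono (aug I₁), zero_comp, ← f_ε' hS I₁, ← Category.assoc, hS.exact.lift_f,
      ← ε₂'_fst hS I₁ I₃, ← Category.assoc, ha, zero_comp]
  rw [← hS.exact.lift_f a h1, h2, zero_comp]

lemma ε₂'_exact :
    (ShortComplex.mk (ε₂' hS I₁ I₃) (d₂ hS I₁ I₃ 0) (ε₂'_d₂ hS I₁ I₃)).Exact := by
  have := hS.epi_g
  rw [ShortComplex.exact_iff_exact_up_to_refinements]
  intro A x hx
  change x ≫ d₂ hS I₁ I₃ 0 = 0 at hx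
  change ∃ (A' : C) (π : A' ⟶ A) (_ : Epi π) (x₁ : A' ⟶ S.X₂), π ≫ x = x₁ ≫ ε₂' hS I₁ I₃
  have hx₃ : (x ≫ biprod.snd) ≫ I₃.cocomplex.d 0 1 = 0 := by
    rw [Category.assoc, ← d₂_snd hS I₁ I₃, ← Category.assoc, hx, zero_comp]
  obtain ⟨A₁, π₁, hπ₁, y₃, hy₃⟩ := (aug_exact I₃).exact_up_to_refinements (x ≫ biprod.snd) hx₃
  change π₁ ≫ x ≫ biprod.snd = y₃ ≫ aug I₃ at hy₃
  obtain ⟨A₂, π₂, hπ₂, y₂, hy₂⟩ := surjective_up_to_refinements_of_epi S.g y₃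
  have hz : π₂ ≫ π₁ ≫ x - y₂ ≫ ε₂' hS I₁ I₃ =
      (π₂ ≫ π₁ ≫ x ≫ biprod.fst - y₂ ≫ ε' hS I₁) ≫ biprod.inl := by
    apply biprod.hom_ext
    · simp only [Preadditive.sub_comp, Category.assoc, ε₂'_fst, biprod.inl_fst, Category.comp_id]
    · simp only [Preadditive.sub_comp, Category.assoc, ε₂'_snd, biprod.inl_snd, comp_zero]
      rw [hy₃, ← Category.assoc y₂, ← hy₂, Category.assoc, sub_self, sub_zero]
  have hzd : (π₂ ≫ π₁ ≫ x ≫ biprod.fst - y₂ ≫ ε' hS I₁) ≫ I₁.cocomplex.d 0 1 = 0 := by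
    have h1 : ((π₂ ≫ π₁ ≫ x ≫ biprod.fst - y₂ ≫ ε' hS I₁) ≫ biprod.inl) ≫ d₂ hS I₁ I₃ 0 = 0 := by
      rw [← hz, Preadditive.sub_comp, Category.assoc, Category.assoc, hx, comp_zero, comp_zero,
        Category.assoc, ε₂'_d₂, comp_zero, sub_zero]
    rw [Category.assoc, inl_d₂, ← Category.assoc] at h1
    have h2 := congrArg (· ≫ biprod.fst) h1
    simpa using h2
  obtain ⟨A₃, π₃, hπ₃, w, hw⟩ := (aug_exact I₁).exact_up_to_refinements _ hzd
  change π₃ ≫ (π₂ ≫ π₁ ≫ x ≫ biprod.fst - y₂ ≫ ε' hS I₁) = w ≫ aug I₁ at hw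
  refine ⟨A₃, π₃ ≫ π₂ ≫ π₁, inferInstance, π₃ ≫ y₂ + w ≫ S.f, ?_⟩
  have h3 : π₂ ≫ π₁ ≫ x = y₂ ≫ ε₂' hS I₁ I₃ +
      (π₂ ≫ π₁ ≫ x ≫ biprod.fst - y₂ ≫ ε' hS I₁) ≫ biprod.inl := by
    rw [← hz]
    abel
  have h4 : π₃ ≫ (π₂ ≫ π₁ ≫ x ≫ biprod.fst - y₂ ≫ ε' hS I₁) ≫ biprod.inl =
      (w ≫ S.f) ≫ ε₂' hS I₁ I₃ := by
    rw [Category.assoc, f_ε₂', ← Category.assoc, hw, Category.assoc]
  rw [Category.assoc, Category.assoc, h3, Preadditive.comp_add, Preadditive.add_comp, h4,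
    Category.assoc, Category.assoc]

/-- the middle complex -/
noncomputable def K₂ : CochainComplex C ℕ :=
  CochainComplex.of (fun n => I₁.cocomplex.X n ⊞ I₃.cocomplex.X n) (d₂ hS I₁ I₃) (d₂_sq hS I₁ I₃)

lemma K₂_d (n : ℕ) : (K₂ hS I₁ I₃).d n (n + 1) = d₂ hS I₁ I₃ n :=
  CochainComplex.of_d (fun n => I₁.cocomplex.X n ⊞ I₃.cocomplex.X n) (d₂ hS I₁ I₃) n

/-- the inclusion -/
noncomputable def f₂ : I₁.cocomplex ⟶ K₂ hS I₁ I₃ where
  f n := biprod.inl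
  comm' i j h := by
    obtain rfl : i + 1 = j := h
    rw [K₂_d]
    exact inl_d₂ hS I₁ I₃ i

/-- the projection -/
noncomputable def g₂ : K₂ hS I₁ I₃ ⟶ I₃.cocomplex where
  f n := biprod.snd
  comm' i j h := by
    obtain rfl : i + 1 = j := h
    rw [K₂_d]
    exact (d₂_snd hS I₁ I₃ i).symm

lemma f₂_g₂ : f₂ hS I₁ I₃ ≫ g₂ hS I₁ I₃ = 0 := by
  ext n
  exact biprod.inl_snd

lemma shortExact : (ShortComplex.mk (f₂ hS I₁ I₃) (g₂ hS I₁ I₃) (f₂_g₂ hS I₁ I₃)).ShortExact := by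
  apply HomologicalComplex.shortExact_of_degreewise_shortExact
  intro n
  exact (ShortComplex.Splitting.ofHasBinaryBiproduct (I₁.cocomplex.X n)
    (I₃.cocomplex.X n)).shortExact

/-- the augmentation of the middle complex -/
noncomputable def ε₂ : S.X₂ ⟶ (K₂ hS I₁ I₃).X 0 := ε₂' hS I₁ I₃

lemma ε₂_d : ε₂ hS I₁ I₃ ≫ (K₂ hS I₁ I₃).d 0 1 = 0 := by
  rw [K₂_d]
  exact ε₂'_d₂ hS I₁ I₃

instance mono_ε₂ : Mono (ε₂ hS I₁ I₃) := mono_ε₂' hS I₁ I₃

lemma ε₂_exact :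
    (ShortComplex.mk (ε₂ hS I₁ I₃) ((K₂ hS I₁ I₃).d 0 1) (ε₂_d hS I₁ I₃)).Exact :=
  exact_of_eq (K₂_d hS I₁ I₃ 0).symm (ε₂'_d₂ hS I₁ I₃) (ε₂'_exact hS I₁ I₃)

lemma K₂_exact (n : ℕ) : (ShortComplex.mk ((K₂ hS I₁ I₃).d n (n + 1))
    ((K₂ hS I₁ I₃).d (n + 1) (n + 2)) ((K₂ hS I₁ I₃).d_comp_d _ _ _)).Exact := by
  have h := (shortExact hS I₁ I₃).exactAt_X₂ (n + 1) (I₁.cocomplex_exactAt_succ n)
    (I₃.cocomplex_exactAt_succ n)
  exact (HomologicalComplex.exactAt_iff' _ n (n + 1) (n + 2) (by simp) (by simp)).1 h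

/-- the resolution of the middle term -/
noncomputable def I₂ : InjectiveResolution S.X₂ :=
  mkRes S.X₂ (K₂ hS I₁ I₃)
    (fun n => inferInstanceAs (Injective (I₁.cocomplex.X n ⊞ I₃.cocomplex.X n)))
    (ε₂ hS I₁ I₃) (ε₂_d hS I₁ I₃) (ε₂_exact hS I₁ I₃) (K₂_exact hS I₁ I₃)

lemma I₂_ι_f_zero : (I₂ hS I₁ I₃).ι.f 0 = ε₂ hS I₁ I₃ := mkRes_ι_f_zero _ _ _ _ _ _ _

/-- the horseshoe lemma -/
noncomputable def sesRes : RDer.SESRes S where
  I₁ := I₁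
  I₂ := I₂ hS I₁ I₃
  I₃ := I₃
  f := f₂ hS I₁ I₃
  g := g₂ hS I₁ I₃
  zero := f₂_g₂ hS I₁ I₃
  ι_f := by
    apply HomologicalComplex.from_single_hom_ext
    rw [HomologicalComplex.comp_f, HomologicalComplex.comp_f, I₂_ι_f_zero,
      CochainComplex.single₀_map_f_zero]
    exact (f_ε₂' hS I₁ I₃).symm
  ι_g := by
    apply HomologicalComplex.from_single_hom_ext
    rw [HomologicalComplex.comp_f, HomologicalComplex.comp_f, I₂_ι_f_zero,
      CochainComplex.single₀_map_f_zero]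
    exact ε₂'_snd hS I₁ I₃
  shortExact := shortExact hS I₁ I₃

end

/-- the horseshoe lemma: a short exact sequence has an injective resolution -/
theorem nonempty_sesRes [EnoughInjectives C] (S : ShortComplex C) (hS : S.ShortExact) :
    Nonempty (RDer.SESRes S) :=
  ⟨sesRes hS (injectiveResolution S.X₁) (injectiveResolution S.X₃)⟩

end Groth.Agent.Helper3.RDerH
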