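import Mathlib
import Groth.Prelude.Def_RDerDelta
import Groth.Agent.Lib.Helper3.RDerS

set_option autoImplicit false
universe v u v' u'
open CategoryTheory Limits

namespace Groth.Agent.Helper3.RDerS

variable {C : Type u} [Category.{v} C] [Abelian C] [HasInjectiveResolutions C]
  {D : Type u'} [Category.{v'} D] [Abelian D] (F : C ⥤ D) [F.Additive]

/-- naturality of the connecting morphism computed from resolutions -/
theorem delta_natural {S S' : ShortComplex C} (φ : S ⟶ S') (T : RDer.SESRes S)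
    (T' : RDer.SESRes S') (n₀ n₁ : ℕ) (h : n₀ + 1 = n₁) :
    (F.rightDerived n₀).map φ.τ₃ ≫ T'.delta F n₀ n₁ h =
      T.delta F n₀ n₁ h ≫ (F.rightDerived n₁).map φ.τ₁ := by
  have e1 := InjectiveResolution.isoRightDerivedObj_hom_naturality φ.τ₁ T.I₁ T'.I₁
    (lift₁ φ T T') (ι_lift₁ φ T T') F n₁
  have e3 := InjectiveResolution.isoRightDerivedObj_hom_naturality φ.τ₃ T.I₃ T'.I₃
    (lift₃ φ T T') (ι_lift₃ φ T T') F n₀
  have eδ := HomologicalComplex.HomologySequence.δ_naturality
    ((F.mapHomologicalComplex (ComplexShape.up ℕ)).mapShortComplex.map (liftCx φ T T'))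
    (T.map_shortExact F) (T'.map_shortExact F) n₀ n₁ h
  have d := RDer.SESRes.delta_comp_isoRightDerivedObj_hom T F n₀ n₁ h
  have d' := RDer.SESRes.delta_comp_isoRightDerivedObj_hom T' F n₀ n₁ h
  rw [← cancel_mono (T'.I₁.isoRightDerivedObj F n₁).hom, Category.assoc, Category.assoc, d', e1]
  refine Eq.trans ?_ (Category.assoc _ _ _)
  refine Eq.trans ?_ (congrArg (· ≫ _) d.symm)
  refine Eq.trans (Category.assoc _ _ _).symm ?_
  refine Eq.trans (congrArg (· ≫ _) e3) ?_
  refine Eq.trans (Category.assoc _ _ _) ?_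
  refine Eq.trans ?_ (Category.assoc _ _ _).symm
  exact congrArg (_ ≫ ·) eδ.symm

/-- independence of the resolution -/
theorem delta_eq {S : ShortComplex C} (T T' : RDer.SESRes S) (n₀ n₁ : ℕ) (h : n₀ + 1 = n₁) :
    T.delta F n₀ n₁ h = T'.delta F n₀ n₁ h := by
  have := delta_natural F (𝟙 S) T' T n₀ n₁ h
  simpa using this

end Groth.Agent.Helper3.RDerS
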