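import Mathlib
import Groth.Prelude.Def_RDerDelta
import Groth.Agent.Lib.Helper3.RDerN
import Groth.Agent.Lib.Helper3.RDerH

set_option autoImplicit false
universe v u v' u'
open CategoryTheory Limits

namespace Groth.Agent.Helper3.RDerL

open Groth.Agent.Helper3.RDerS Groth.Agent.Helper3.RDerH

variable {C : Type u} [Category.{v} C] [Abelian C] [HasInjectiveResolutions C]
  {D : Type u'} [Category.{v'} D] [Abelian D] (F : C ⥤ D) [F.Additive]

section

variable {S : ShortComplex C} (T : RDer.SESRes S)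

omit [HasInjectiveResolutions C] in
lemma ι_f₀ : T.I₁.ι.f 0 ≫ T.f.f 0 = S.f ≫ T.I₂.ι.f 0 := by
  have h := congrArg (fun φ => φ.f 0) T.ι_f
  simp only [HomologicalComplex.comp_f, CochainComplex.single₀_map_f_zero] at h
  exact h

omit [HasInjectiveResolutions C] in
lemma ι_g₀ : T.I₂.ι.f 0 ≫ T.g.f 0 = S.g ≫ T.I₃.ι.f 0 := by
  have h := congrArg (fun φ => φ.f 0) T.ι_g
  simp only [HomologicalComplex.comp_f, CochainComplex.single₀_map_f_zero] at h
  exact h

lemma nat_f (n : ℕ) : (F.rightDerived n).map S.f ≫ (T.I₂.isoRightDerivedObj F n).hom =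
    (T.I₁.isoRightDerivedObj F n).hom ≫ HomologicalComplex.homologyMap
      ((F.mapHomologicalComplex (ComplexShape.up ℕ)).map T.f) n :=
  InjectiveResolution.isoRightDerivedObj_hom_naturality S.f T.I₁ T.I₂ T.f (ι_f₀ T) F n

lemma nat_g (n : ℕ) : (F.rightDerived n).map S.g ≫ (T.I₃.isoRightDerivedObj F n).hom =
    (T.I₂.isoRightDerivedObj F n).hom ≫ HomologicalComplex.homologyMap
      ((F.mapHomologicalComplex (ComplexShape.up ℕ)).map T.g) n :=
  InjectiveResolution.isoRightDerivedObj_hom_naturality S.g T.I₂ T.I₃ T.g (ι_g₀ T) F n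

include T in
theorem exact₂ (n : ℕ) :
    (ShortComplex.mk ((F.rightDerived n).map S.f) ((F.rightDerived n).map S.g)
      (by rw [← Functor.map_comp, S.zero, Functor.map_zero])).Exact := by
  refine (ShortComplex.exact_iff_of_iso ?_).2 ((T.map_shortExact F).homology_exact₂ n)
  exact ShortComplex.isoMk (T.I₁.isoRightDerivedObj F n) (T.I₂.isoRightDerivedObj F n)
    (T.I₃.isoRightDerivedObj F n) (nat_f F T n).symm (nat_g F T n).symm

theorem comp_δ (n₀ n₁ : ℕ) (h : n₀ + 1 = n₁) :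
    (F.rightDerived n₀).map S.g ≫ T.delta F n₀ n₁ h = 0 := by
  rw [← cancel_mono (T.I₁.isoRightDerivedObj F n₁).hom, Category.assoc,
    RDer.SESRes.delta_comp_isoRightDerivedObj_hom, zero_comp]
  refine Eq.trans (Category.assoc _ _ _).symm ?_
  refine Eq.trans (congrArg (· ≫ _) (nat_g F T n₀)) ?_
  refine Eq.trans (Category.assoc _ _ _) ?_
  refine Eq.trans (congrArg (_ ≫ ·) ((T.map_shortExact F).comp_δ n₀ n₁ h)) ?_
  exact comp_zero

theorem δ_comp (n₀ n₁ : ℕ) (h : n₀ + 1 = n₁) :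
    T.delta F n₀ n₁ h ≫ (F.rightDerived n₁).map S.f = 0 := by
  rw [← cancel_mono (T.I₂.isoRightDerivedObj F n₁).hom, Category.assoc, zero_comp, nat_f]
  refine Eq.trans (Category.assoc _ _ _).symm ?_
  refine Eq.trans (congrArg (· ≫ _)
    (RDer.SESRes.delta_comp_isoRightDerivedObj_hom T F n₀ n₁ h)) ?_
  refine Eq.trans (Category.assoc _ _ _) ?_
  refine Eq.trans (congrArg (_ ≫ ·) ((T.map_shortExact F).δ_comp n₀ n₁ h)) ?_
  exact comp_zero

theorem exact₃ (n₀ n₁ : ℕ) (h : n₀ + 1 = n₁) :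
    (ShortComplex.mk _ _ (comp_δ F T n₀ n₁ h)).Exact := by
  refine (ShortComplex.exact_iff_of_iso ?_).2 ((T.map_shortExact F).homology_exact₃ n₀ n₁ h)
  exact ShortComplex.isoMk (T.I₂.isoRightDerivedObj F n₀) (T.I₃.isoRightDerivedObj F n₀)
    (T.I₁.isoRightDerivedObj F n₁) (nat_g F T n₀).symm
    (RDer.SESRes.delta_comp_isoRightDerivedObj_hom T F n₀ n₁ h).symm

theorem exact₁ (n₀ n₁ : ℕ) (h : n₀ + 1 = n₁) :
    (ShortComplex.mk _ _ (δ_comp F T n₀ n₁ h)).Exact := by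
  refine (ShortComplex.exact_iff_of_iso ?_).2 ((T.map_shortExact F).homology_exact₁ n₀ n₁ h)
  exact ShortComplex.isoMk (T.I₃.isoRightDerivedObj F n₀) (T.I₁.isoRightDerivedObj F n₁)
    (T.I₂.isoRightDerivedObj F n₁)
    (RDer.SESRes.delta_comp_isoRightDerivedObj_hom T F n₀ n₁ h).symm (nat_f F T n₁).symm

end

/-- the long exact sequence of right derived functors -/
noncomputable def derivedLES {C : Type u} [Category.{v} C] [Abelian C] [EnoughInjectives C]
    {D : Type u'} [Category.{v'} D] [Abelian D] (F : C ⥤ D) [F.Additive] :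
    RDer.DerivedLES F where
  δ S hS n₀ n₁ h := (Classical.choice (nonempty_sesRes S hS)).delta F n₀ n₁ h
  δ_eq S hS T n₀ n₁ h := delta_eq F _ T n₀ n₁ h
  δ_natural hS hS' φ n₀ n₁ h := delta_natural F φ _ _ n₀ n₁ h
  exact₂ S hS n := exact₂ F (Classical.choice (nonempty_sesRes S hS)) n
  comp_δ S hS n₀ n₁ h := comp_δ F _ n₀ n₁ h
  exact₃ S hS n₀ n₁ h := exact₃ F _ n₀ n₁ h
  δ_comp S hS n₀ n₁ h := δ_comp F _ n₀ n₁ h
  exact₁ S hS n₀ n₁ h := exact₁ F _ n₀ n₁ h

end Groth.Agent.Helper3.RDerL
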