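import Mathlib

set_option autoImplicit false
universe v v' u u'
open CategoryTheory Limits

namespace Groth.Agent.Helper3.MapExtend

variable {C : Type u} [Category.{v} C] [Preadditive C] [HasZeroObject C]
  {D : Type u'} [Category.{v'} D] [Preadditive D] [HasZeroObject D]
  (F : C ⥤ D) [F.Additive]
  {ι ι' : Type*} {c : ComplexShape ι} {c' : ComplexShape ι'}

/-- components of `mapExtendIso` -/
noncomputable def xIso (K : HomologicalComplex C c) :
    ∀ o : Option ι, F.obj (HomologicalComplex.extend.X K o) ≅
      HomologicalComplex.extend.X ((F.mapHomologicalComplex c).obj K) o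
  | some _ => Iso.refl _
  | none => F.mapZeroObject

lemma xIso_comm (K : HomologicalComplex C c) : ∀ o o' : Option ι,
    F.map (HomologicalComplex.extend.d K o o') ≫ (xIso F K o').hom =
      (xIso F K o).hom ≫ HomologicalComplex.extend.d ((F.mapHomologicalComplex c).obj K) o o'
  | none, o' => by
      rw [HomologicalComplex.extend.d_none_eq_zero _ _ _ rfl,
        HomologicalComplex.extend.d_none_eq_zero _ _ _ rfl, F.map_zero, zero_comp, comp_zero]
  | some i, some j => by
      change F.map (K.d i j) ≫ 𝟙 _ = 𝟙 _ ≫ F.map (K.d i j)
      rw [Category.comp_id, Category.id_comp]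
  | some i, none => by
      rw [HomologicalComplex.extend.d_none_eq_zero' _ _ _ rfl,
        HomologicalComplex.extend.d_none_eq_zero' _ _ _ rfl, F.map_zero, zero_comp, comp_zero]

lemma xIso_naturality {K L : HomologicalComplex C c} (φ : K ⟶ L) : ∀ o : Option ι,
    F.map (HomologicalComplex.extend.mapX φ o) ≫ (xIso F L o).hom =
      (xIso F K o).hom ≫ HomologicalComplex.extend.mapX ((F.mapHomologicalComplex c).map φ) o
  | none => by
      rw [HomologicalComplex.extend.mapX_none _ rfl, HomologicalComplex.extend.mapX_none _ rfl,
        F.map_zero, zero_comp, comp_zero]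
  | some i => by
      change F.map (φ.f i) ≫ 𝟙 _ = 𝟙 _ ≫ F.map (φ.f i)
      rw [Category.comp_id, Category.id_comp]

/-- `F` commutes with the extension of complexes along an embedding of complex shapes. -/
noncomputable def mapExtendIso (K : HomologicalComplex C c) (e : c.Embedding c') :
    (F.mapHomologicalComplex c').obj (K.extend e) ≅
      ((F.mapHomologicalComplex c).obj K).extend e :=
  HomologicalComplex.Hom.isoOfComponents (fun j => xIso F K (e.r j))
    (fun i j _ => (xIso_comm F K (e.r i) (e.r j)).symm)

lemma mapExtendIso_naturality {K L : HomologicalComplex C c} (φ : K ⟶ L) (e : c.Embedding c') :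
    (F.mapHomologicalComplex c').map (HomologicalComplex.extendMap φ e) ≫
        (mapExtendIso F L e).hom =
      (mapExtendIso F K e).hom ≫
        HomologicalComplex.extendMap ((F.mapHomologicalComplex c).map φ) e := by
  ext j
  exact xIso_naturality F φ (e.r j)

end Groth.Agent.Helper3.MapExtend
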