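import Mathlib

set_option autoImplicit false
universe w w' v v' u u'
open CategoryTheory Limits Pretriangulated

namespace Groth.Agent.Helper3.RDPlus

variable {C : Type u} [Category.{v} C] [Abelian C] [HasDerivedCategory.{w} C] [EnoughInjectives C]
  {D : Type u'} [Category.{v'} D] [Abelian D] [HasDerivedCategory.{w'} D]

variable (C) in
/-- The functor `K⁺(Inj C) ⥤ D⁺(C)`. -/
noncomputable abbrev QI : HomotopyCategory.Plus (InjectiveObject C) ⥤ DerivedCategory.Plus C :=
  (InjectiveObject.ι C).mapHomotopyCategoryPlus ⋙ DerivedCategory.Plus.Qh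

lemma QI_essSurj (X : DerivedCategory.Plus C) :
    ∃ I : HomotopyCategory.Plus (InjectiveObject C), Nonempty ((QI C).obj I ≅ X) := by
  obtain ⟨n, hn⟩ := X.2
  haveI : X.IsGE n := (DerivedCategory.Plus.isGE_ι_obj_iff X n).1 hn
  obtain ⟨L, _, ⟨e⟩⟩ := DerivedCategory.Plus.exists_injective_nonempty_iso X n
  exact ⟨(HomotopyCategory.Plus.quotient _).obj L, ⟨e⟩⟩

lemma QI_map_surjective (I J : HomotopyCategory.Plus (InjectiveObject C))
    (f : (QI C).obj I ⟶ (QI C).obj J) : ∃ φ : I ⟶ J, (QI C).map φ = f := by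
  obtain ⟨L, rfl⟩ := HomotopyCategory.Plus.quotient_obj_surjective J
  have hK : CochainComplex.IsKInjective
      (((InjectiveObject.ι C).mapHomotopyCategoryPlus.obj
        ((HomotopyCategory.Plus.quotient _).obj L)).1.as) :=
    inferInstanceAs (CochainComplex.IsKInjective
      (((InjectiveObject.ι C).mapHomologicalComplex (.up ℤ)).obj L.obj))
  obtain ⟨g, hg⟩ := (DerivedCategory.Plus.Qh_map_bijective_of_isKInjective
    ((InjectiveObject.ι C).mapHomotopyCategoryPlus.obj I) _ hK).2 f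
  obtain ⟨φ, hφ⟩ := (InjectiveObject.ι C).mapHomotopyCategoryPlus.map_surjective g
  exact ⟨φ, by rw [Functor.comp_map, hφ, hg]⟩


variable (F : C ⥤ D) [F.Additive]

/-- The functor `K⁺(Inj C) ⥤ D⁺(D)` computing `RF` on injective complexes. -/
noncomputable abbrev GI : HomotopyCategory.Plus (InjectiveObject C) ⥤ DerivedCategory.Plus D :=
  (InjectiveObject.ι C).mapHomotopyCategoryPlus ⋙ F.mapHomotopyCategoryPlus ⋙ DerivedCategory.Plus.Qh

/-- the unit iso on injective complexes -/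
noncomputable def ηI (I : HomotopyCategory.Plus (InjectiveObject C)) :
    (GI F).obj I ≅ F.rightDerivedFunctorPlus.obj ((QI C).obj I) :=
  asIso (F.rightDerivedFunctorPlusUnit.app ((InjectiveObject.ι C).mapHomotopyCategoryPlus.obj I))

lemma ηI_naturality {I J : HomotopyCategory.Plus (InjectiveObject C)} (φ : I ⟶ J) :
    (GI F).map φ ≫ (ηI F J).hom = (ηI F I).hom ≫ F.rightDerivedFunctorPlus.map ((QI C).map φ) :=
  F.rightDerivedFunctorPlusUnit.naturality ((InjectiveObject.ι C).mapHomotopyCategoryPlus.map φ)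

set_option backward.defeqAttrib.useBackward true in
set_option backward.isDefEq.respectTransparency false in
/-- Main lemma: `RF` sends a distinguished triangle of `D⁺(C)` to a diagram isomorphic to
(the first two maps of) a distinguished triangle of `D⁺(D)`. -/
lemma exists_distinguished (T : Triangle (DerivedCategory.Plus C)) (hT : T ∈ distTriang _) :
    ∃ (T' : Triangle (DerivedCategory.Plus D)) (_ : T' ∈ distTriang _)
      (a₁ : T'.obj₁ ≅ F.rightDerivedFunctorPlus.obj T.obj₁)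
      (a₂ : T'.obj₂ ≅ F.rightDerivedFunctorPlus.obj T.obj₂)
      (a₃ : T'.obj₃ ≅ F.rightDerivedFunctorPlus.obj T.obj₃),
      T'.mor₁ ≫ a₂.hom = a₁.hom ≫ F.rightDerivedFunctorPlus.map T.mor₁ ∧
      T'.mor₂ ≫ a₃.hom = a₂.hom ≫ F.rightDerivedFunctorPlus.map T.mor₂ := by
  obtain ⟨I₁, ⟨e₁⟩⟩ := QI_essSurj T.obj₁
  obtain ⟨I₂, ⟨e₂⟩⟩ := QI_essSurj T.obj₂
  obtain ⟨φ, hφ⟩ := QI_map_surjective I₁ I₂ (e₁.hom ≫ T.mor₁ ≫ e₂.inv)
  obtain ⟨I₃, ψ, χ, hT₀⟩ := distinguished_cocone_triangle φ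
  have hQ := (QI C).map_distinguished _ hT₀
  have comm : ((QI C).mapTriangle.obj (Triangle.mk φ ψ χ)).mor₁ ≫ e₂.hom = e₁.hom ≫ T.mor₁ := by
    change (QI C).map φ ≫ e₂.hom = e₁.hom ≫ T.mor₁
    rw [hφ]
    simp
  let θ := isoTriangleOfIso₁₂ _ _ hQ hT e₁ e₂ comm
  let e₃ : (QI C).obj I₃ ≅ T.obj₃ := Triangle.π₃.mapIso θ
  have comm₂ : (QI C).map ψ ≫ e₃.hom = e₂.hom ≫ T.mor₂ := by
    have h1 : θ.hom.hom₂ = e₂.hom := isoTriangleOfIso₁₂_hom_hom₂ _ _ hQ hT e₁ e₂ comm
    have := θ.hom.comm₂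
    rw [h1] at this
    exact this
  refine ⟨(GI F).mapTriangle.obj (Triangle.mk φ ψ χ), (GI F).map_distinguished _ hT₀,
    ηI F I₁ ≪≫ F.rightDerivedFunctorPlus.mapIso e₁,
    ηI F I₂ ≪≫ F.rightDerivedFunctorPlus.mapIso e₂,
    ηI F I₃ ≪≫ F.rightDerivedFunctorPlus.mapIso e₃, ?_, ?_⟩
  · change (GI F).map φ ≫ (ηI F I₂).hom ≫ F.rightDerivedFunctorPlus.map e₂.hom =
      ((ηI F I₁).hom ≫ F.rightDerivedFunctorPlus.map e₁.hom) ≫ F.rightDerivedFunctorPlus.map T.mor₁
    rw [← Category.assoc, ηI_naturality, Category.assoc, Category.assoc, ← Functor.map_comp,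
      ← Functor.map_comp, hφ]
    simp
  · change (GI F).map ψ ≫ (ηI F I₃).hom ≫ F.rightDerivedFunctorPlus.map e₃.hom =
      ((ηI F I₂).hom ≫ F.rightDerivedFunctorPlus.map e₂.hom) ≫ F.rightDerivedFunctorPlus.map T.mor₂
    rw [← Category.assoc, ηI_naturality, Category.assoc, Category.assoc, ← Functor.map_comp,
      ← Functor.map_comp, comm₂]


omit [EnoughInjectives C] in
set_option backward.defeqAttrib.useBackward true in
set_option backward.isDefEq.respectTransparency false in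
/-- For a short exact sequence of bounded below complexes, the images in `D⁺(C)` of `f` and `g` are
the first two maps of a distinguished triangle. -/
lemma exists_triangle_of_ses {X₁ X₂ X₃ : CochainComplex.Plus C} (f : X₁ ⟶ X₂) (g : X₂ ⟶ X₃)
    (zero : f.hom ≫ g.hom = 0) (hS : (ShortComplex.mk f.hom g.hom zero).ShortExact) :
    ∃ (δ : DerivedCategory.Plus.Q.obj X₃ ⟶ (DerivedCategory.Plus.Q.obj X₁)⟦(1 : ℤ)⟧),
      Triangle.mk (DerivedCategory.Plus.Q.map f) (DerivedCategory.Plus.Q.map g) δ ∈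
        distTriang (DerivedCategory.Plus C) := by
  obtain ⟨Z, g', h', hT₁⟩ := distinguished_cocone_triangle (DerivedCategory.Plus.Q.map f)
  have hT₁' := (DerivedCategory.Plus.ι (C := C)).map_distinguished _ hT₁
  have hbig := DerivedCategory.triangleOfSES_distinguished hS
  let u₁ : DerivedCategory.Plus.ι.obj (DerivedCategory.Plus.Q.obj X₁) ≅ DerivedCategory.Q.obj X₁.obj :=
    (DerivedCategory.quotientCompQhIso C).app X₁.obj
  let u₂ : DerivedCategory.Plus.ι.obj (DerivedCategory.Plus.Q.obj X₂) ≅ DerivedCategory.Q.obj X₂.obj :=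
    (DerivedCategory.quotientCompQhIso C).app X₂.obj
  let u₃ : DerivedCategory.Plus.ι.obj (DerivedCategory.Plus.Q.obj X₃) ≅ DerivedCategory.Q.obj X₃.obj :=
    (DerivedCategory.quotientCompQhIso C).app X₃.obj
  have n₁ : DerivedCategory.Plus.ι.map (DerivedCategory.Plus.Q.map f) ≫ u₂.hom =
      u₁.hom ≫ DerivedCategory.Q.map f.hom :=
    (DerivedCategory.quotientCompQhIso C).hom.naturality f.hom
  have n₂ : DerivedCategory.Plus.ι.map (DerivedCategory.Plus.Q.map g) ≫ u₃.hom =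
      u₂.hom ≫ DerivedCategory.Q.map g.hom :=
    (DerivedCategory.quotientCompQhIso C).hom.naturality g.hom
  let θ := isoTriangleOfIso₁₂ _ _ hT₁' hbig u₁ u₂ n₁
  let θ₃ : DerivedCategory.Plus.ι.obj Z ≅ DerivedCategory.Q.obj X₃.obj := Triangle.π₃.mapIso θ
  have c₂ : DerivedCategory.Plus.ι.map g' ≫ θ₃.hom = u₂.hom ≫ DerivedCategory.Q.map g.hom := by
    have h1 : θ.hom.hom₂ = u₂.hom := isoTriangleOfIso₁₂_hom_hom₂ _ _ hT₁' hbig u₁ u₂ n₁
    have := θ.hom.comm₂
    rw [h1] at this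
    exact this
  let ε : Z ≅ DerivedCategory.Plus.Q.obj X₃ :=
    (DerivedCategory.Plus.ι (C := C)).preimageIso (θ₃ ≪≫ u₃.symm)
  have hε : g' ≫ ε.hom = DerivedCategory.Plus.Q.map g := by
    apply (DerivedCategory.Plus.ι (C := C)).map_injective
    rw [Functor.map_comp]
    simp only [ε, Functor.preimageIso_hom, Functor.map_preimage, Iso.trans_hom, Iso.symm_hom]
    rw [← Category.assoc, c₂, ← n₂, Category.assoc, Iso.hom_inv_id, Category.comp_id]
  refine ⟨ε.inv ≫ h', isomorphic_distinguished _ hT₁ _ ?_⟩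
  refine Triangle.isoMk _ _ (Iso.refl _) (Iso.refl _) ε.symm ?_ ?_ ?_
  · simp
  · dsimp
    rw [Category.id_comp, ← hε, Category.assoc, Iso.hom_inv_id, Category.comp_id]
  · dsimp
    simp


/-- The cohomology functors of `RF`. -/
noncomputable abbrev HF (n : ℤ) : DerivedCategory.Plus C ⥤ D :=
  F.rightDerivedFunctorPlus ⋙ DerivedCategory.Plus.ι ⋙ DerivedCategory.homologyFunctor D n

set_option backward.defeqAttrib.useBackward true in
set_option backward.isDefEq.respectTransparency false in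
/-- The long exact cohomology sequence of `RF` applied to a distinguished triangle of `D⁺(C)`. -/
lemma exact_of_distinguished (T : Triangle (DerivedCategory.Plus C)) (hT : T ∈ distTriang _)
    (i j : ℤ) (hij : i + 1 = j) :
    (∃ (w : (HF F i).map T.mor₁ ≫ (HF F i).map T.mor₂ = 0), (ShortComplex.mk _ _ w).Exact) ∧
    ∃ (δ : (HF F i).obj T.obj₃ ⟶ (HF F j).obj T.obj₁)
      (w₁ : (HF F i).map T.mor₂ ≫ δ = 0) (w₂ : δ ≫ (HF F j).map T.mor₁ = 0),
      (ShortComplex.mk _ _ w₁).Exact ∧ (ShortComplex.mk _ _ w₂).Exact := by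
  obtain ⟨T', hT', a₁, a₂, a₃, c₁, c₂⟩ := exists_distinguished F T hT
  have hT'' := (DerivedCategory.Plus.ι (C := D)).map_distinguished _ hT'
  let G (n : ℤ) : DerivedCategory.Plus D ⥤ D :=
    DerivedCategory.Plus.ι ⋙ DerivedCategory.homologyFunctor D n
  have d₁ : ∀ n, (G n).map T'.mor₁ ≫ ((G n).mapIso a₂).hom =
      ((G n).mapIso a₁).hom ≫ (HF F n).map T.mor₁ := by
    intro n
    have := congrArg (G n).map c₁
    rw [Functor.map_comp, Functor.map_comp] at this
    exact this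
  have d₂ : ∀ n, (G n).map T'.mor₂ ≫ ((G n).mapIso a₃).hom =
      ((G n).mapIso a₂).hom ≫ (HF F n).map T.mor₂ := by
    intro n
    have := congrArg (G n).map c₂
    rw [Functor.map_comp, Functor.map_comp] at this
    exact this
  have w : (HF F i).map T.mor₁ ≫ (HF F i).map T.mor₂ = 0 := by
    rw [← cancel_epi ((G i).mapIso a₁).hom, ← Category.assoc, ← d₁ i, Category.assoc, ← d₂ i,
      ← Category.assoc, ← Functor.map_comp, comp_distTriang_mor_zero₁₂ _ hT', Functor.map_zero,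
      zero_comp, comp_zero]
  refine ⟨⟨w, ?_⟩, ?_⟩
  · refine ShortComplex.exact_of_iso ?_
      (DerivedCategory.HomologySequence.exact₂ _ hT'' i)
    exact ShortComplex.isoMk ((G i).mapIso a₁) ((G i).mapIso a₂) ((G i).mapIso a₃)
      (d₁ i).symm (d₂ i).symm
  · let δ₀ := DerivedCategory.HomologySequence.δ
      ((DerivedCategory.Plus.ι (C := D)).mapTriangle.obj T') i j hij
    have w₁₀ := DerivedCategory.HomologySequence.comp_δ _ hT'' i j hij
    have w₂₀ := DerivedCategory.HomologySequence.δ_comp _ hT'' i j hij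
    have e₁₀ := DerivedCategory.HomologySequence.exact₃ _ hT'' i j hij
    have e₂₀ := DerivedCategory.HomologySequence.exact₁ _ hT'' i j hij
    let δ : (HF F i).obj T.obj₃ ⟶ (HF F j).obj T.obj₁ :=
      ((G i).mapIso a₃).inv ≫ δ₀ ≫ ((G j).mapIso a₁).hom
    have k₁ : δ₀ ≫ ((G j).mapIso a₁).hom = ((G i).mapIso a₃).hom ≫ δ := by
      simp only [δ, Iso.hom_inv_id_assoc]
    have w₁ : (HF F i).map T.mor₂ ≫ δ = 0 := by
      rw [← cancel_epi ((G i).mapIso a₂).hom, ← Category.assoc, ← d₂ i, Category.assoc, ← k₁,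
        ← Category.assoc]
      change ((DerivedCategory.homologyFunctor D i).map
        ((DerivedCategory.Plus.ι (C := D)).mapTriangle.obj T').mor₂ ≫ δ₀) ≫ _ = _
      rw [w₁₀, zero_comp, comp_zero]
    have w₂ : δ ≫ (HF F j).map T.mor₁ = 0 := by
      rw [← cancel_epi ((G i).mapIso a₃).hom, ← Category.assoc, ← k₁, Category.assoc, ← d₁ j,
        ← Category.assoc]
      change (δ₀ ≫ (DerivedCategory.homologyFunctor D j).map
        ((DerivedCategory.Plus.ι (C := D)).mapTriangle.obj T').mor₁) ≫ _ = _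
      rw [w₂₀, zero_comp, comp_zero]
    refine ⟨δ, w₁, w₂, ?_, ?_⟩
    · refine ShortComplex.exact_of_iso ?_ e₁₀
      exact ShortComplex.isoMk ((G i).mapIso a₂) ((G i).mapIso a₃) ((G j).mapIso a₁)
        (d₂ i).symm k₁.symm
    · refine ShortComplex.exact_of_iso ?_ e₂₀
      exact ShortComplex.isoMk ((G i).mapIso a₃) ((G j).mapIso a₁) ((G j).mapIso a₂)
        k₁.symm (d₁ j).symm

end Groth.Agent.Helper3.RDPlus
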