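import Mathlib
import Groth.Agent.Lib.Helper3.RDPlus
import Groth.Agent.Lib.Helper3.MapExtend

set_option autoImplicit false
universe w w' v v' u u'
open CategoryTheory Limits Pretriangulated

namespace Groth.Agent.Helper3.RDAcyc

open Groth.Agent.Helper3.RDPlus

variable {C : Type u} [Category.{v} C] [Abelian C] [HasDerivedCategory.{w} C]
  {D : Type u'} [Category.{v'} D] [Abelian D] [HasDerivedCategory.{w'} D]

/-- iso in `D⁺` iff quasi-iso -/
lemma isIso_Qh_quotient_map_iff {K L : CochainComplex.Plus C} (f : K ⟶ L) :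
    IsIso (DerivedCategory.Plus.Qh.map ((HomotopyCategory.Plus.quotient C).map f)) ↔
      QuasiIso f.hom := by
  rw [← isIso_iff_of_reflects_iso _ (DerivedCategory.Plus.ι (C := C))]
  change IsIso (DerivedCategory.Qh.map ((HomotopyCategory.quotient C _).map f.hom)) ↔ _
  rw [DerivedCategory.isIso_Qh_map_iff, HomotopyCategory.quotient_map_mem_quasiIso_iff,
    HomologicalComplex.mem_quasiIso_iff]


omit [HasDerivedCategory.{w} C] [HasDerivedCategory.{w'} D] in
lemma mapHomotopyCategoryPlus_quotient_map (F : C ⥤ D) [F.Additive] {K L : CochainComplex.Plus C}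
    (f : K ⟶ L) :
    F.mapHomotopyCategoryPlus.map ((HomotopyCategory.Plus.quotient C).map f) =
      (HomotopyCategory.Plus.quotient D).map (F.mapCochainComplexPlus.map f) := rfl

variable [EnoughInjectives C] (F : C ⥤ D) [F.Additive]

/-- The unit criterion: the unit of `RF` at `K` is an isomorphism iff `F` preserves the
quasi-isomorphism from `K` to an injective resolution. -/
lemma unit_isIso_iff (K : CochainComplex.Plus C) (J : CochainComplex.Plus (InjectiveObject C))
    (j : K ⟶ (InjectiveObject.ι C).mapCochainComplexPlus.obj J) (hj : QuasiIso j.hom) :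
    IsIso (F.rightDerivedFunctorPlusUnit.app ((HomotopyCategory.Plus.quotient C).obj K)) ↔
      QuasiIso ((F.mapHomologicalComplex (.up ℤ)).map j.hom) := by
  have nat := F.rightDerivedFunctorPlusUnit.naturality ((HomotopyCategory.Plus.quotient C).map j)
  have h1 : IsIso (DerivedCategory.Plus.Qh.map ((HomotopyCategory.Plus.quotient C).map j)) :=
    (isIso_Qh_quotient_map_iff j).2 hj
  have h2 : IsIso ((DerivedCategory.Plus.Qh ⋙ F.rightDerivedFunctorPlus).map
      ((HomotopyCategory.Plus.quotient C).map j)) := by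
    rw [Functor.comp_map]
    infer_instance
  have h3 : IsIso (F.rightDerivedFunctorPlusUnit.app ((HomotopyCategory.Plus.quotient C).obj
      ((InjectiveObject.ι C).mapCochainComplexPlus.obj J))) := inferInstance
  have h4 : IsIso ((F.mapHomotopyCategoryPlus ⋙ DerivedCategory.Plus.Qh).map
      ((HomotopyCategory.Plus.quotient C).map j)) ↔
      QuasiIso ((F.mapHomologicalComplex (.up ℤ)).map j.hom) := by
    exact isIso_Qh_quotient_map_iff (F.mapCochainComplexPlus.map j)
  rw [← h4]
  constructor
  · intro h
    have : IsIso ((F.mapHomotopyCategoryPlus ⋙ DerivedCategory.Plus.Qh).map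
      ((HomotopyCategory.Plus.quotient C).map j) ≫ F.rightDerivedFunctorPlusUnit.app
        ((HomotopyCategory.Plus.quotient C).obj
          ((InjectiveObject.ι C).mapCochainComplexPlus.obj J))) := by
      rw [nat]
      infer_instance
    exact IsIso.of_isIso_comp_right _ (F.rightDerivedFunctorPlusUnit.app
        ((HomotopyCategory.Plus.quotient C).obj
          ((InjectiveObject.ι C).mapCochainComplexPlus.obj J)))
  · intro h
    have : IsIso (F.rightDerivedFunctorPlusUnit.app ((HomotopyCategory.Plus.quotient C).obj K) ≫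
        (DerivedCategory.Plus.Qh ⋙ F.rightDerivedFunctorPlus).map
          ((HomotopyCategory.Plus.quotient C).map j)) := by
      rw [← nat]
      infer_instance
    exact IsIso.of_isIso_comp_right _ ((DerivedCategory.Plus.Qh ⋙ F.rightDerivedFunctorPlus).map
          ((HomotopyCategory.Plus.quotient C).map j))


/-- the complex `X[0]` as an object of `CochainComplex.Plus C` -/
noncomputable abbrev sg (X : C) : CochainComplex.Plus C :=
  ⟨(CochainComplex.singleFunctor C 0).obj X, 0, inferInstance⟩

omit [HasDerivedCategory.{w} C] [EnoughInjectives C] in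
lemma singleFunctor_obj_eq (X : C) :
    (HomotopyCategory.Plus.singleFunctor C 0).obj X = (HomotopyCategory.Plus.quotient C).obj (sg X) :=
  rfl

/-- the `ℤ`-indexed injective resolution as an object of `CochainComplex.Plus (InjectiveObject C)` -/
noncomputable def RJ {X : C} (R : InjectiveResolution X) :
    CochainComplex.Plus (InjectiveObject C) :=
  ⟨HomologicalComplex.liftObjectProperty _ R.cochainComplex inferInstance, 0, by
    rw [← CochainComplex.isStrictlyGE_mapHomologicalComplex_obj_iff _ (InjectiveObject.ι _)]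
    exact inferInstanceAs (R.cochainComplex.IsStrictlyGE 0)⟩

/-- the quasi-isomorphism `X[0] ⟶ R` -/
noncomputable def rj {X : C} (R : InjectiveResolution X) :
    sg X ⟶ (InjectiveObject.ι C).mapCochainComplexPlus.obj (RJ R) :=
  ObjectProperty.homMk R.ι'

omit [HasDerivedCategory.{w} C] [EnoughInjectives C] in
lemma rj_hom {X : C} (R : InjectiveResolution X) : (rj R).hom = R.ι' := rfl

omit [HasDerivedCategory.{w} C] [HasDerivedCategory.{w'} D] [EnoughInjectives C] in
lemma quasiIso_map_extendMap_iff {K L : CochainComplex C ℕ} (φ : K ⟶ L) :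
    QuasiIso ((F.mapHomologicalComplex (.up ℤ)).map
      (HomologicalComplex.extendMap φ ComplexShape.embeddingUpNat)) ↔
      QuasiIso ((F.mapHomologicalComplex (.up ℕ)).map φ) := by
  rw [← quasiIso_iff_comp_right _ (MapExtend.mapExtendIso F L ComplexShape.embeddingUpNat).hom,
    MapExtend.mapExtendIso_naturality, quasiIso_iff_comp_left,
    HomologicalComplex.quasiIso_extendMap_iff]

omit [HasDerivedCategory.{w} C] [HasDerivedCategory.{w'} D] [EnoughInjectives C] in
lemma quasiIso_map_ι'_iff {X : C} (R : InjectiveResolution X) :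
    QuasiIso ((F.mapHomologicalComplex (.up ℤ)).map R.ι') ↔
      QuasiIso ((F.mapHomologicalComplex (.up ℕ)).map R.ι) := by
  let a : (CochainComplex.singleFunctor C 0).obj X ⟶
      ((CochainComplex.single₀ C).obj X).extend ComplexShape.embeddingUpNat :=
    (HomologicalComplex.extendSingleIso ComplexShape.embeddingUpNat X 0 0 (by simp)).inv
  let b : ((CochainComplex.single₀ C).obj X).extend ComplexShape.embeddingUpNat ⟶
      R.cocomplex.extend ComplexShape.embeddingUpNat :=
    HomologicalComplex.extendMap R.ι ComplexShape.embeddingUpNat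
  have ha : IsIso a := by dsimp only [a]; infer_instance
  change QuasiIso ((F.mapHomologicalComplex (.up ℤ)).map (a ≫ b)) ↔ _
  rw [Functor.map_comp, quasiIso_iff_comp_left]
  exact quasiIso_map_extendMap_iff F R.ι

/-- `L2`: the unit at `X[0]` is an isomorphism iff `F` preserves the quasi-isomorphism
from `X[0]` to an (`ℕ`-indexed) injective resolution. -/
lemma unit_single_isIso_iff {X : C} (R : InjectiveResolution X) :
    IsIso (F.rightDerivedFunctorPlusUnit.app ((HomotopyCategory.Plus.singleFunctor C 0).obj X)) ↔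
      QuasiIso ((F.mapHomologicalComplex (.up ℕ)).map R.ι) := by
  rw [← quasiIso_map_ι'_iff]
  exact unit_isIso_iff F (sg X) (RJ R) (rj R) (inferInstanceAs (QuasiIso R.ι'))


omit [HasDerivedCategory.{w} C] [HasDerivedCategory.{w'} D] in
/-- the `ℕ`-indexed analysis of the quasi-isomorphism `F(X[0]) ⟶ F(R)` -/
lemma quasiIso_map_ι_iff {X : C} (R : InjectiveResolution X) :
    QuasiIso ((F.mapHomologicalComplex (.up ℕ)).map R.ι) ↔
      (IsIso (F.toRightDerivedZero.app X) ∧
        ∀ i : ℕ, 0 < i → IsZero ((F.rightDerived i).obj X)) := by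
  let S' : CochainComplex D ℕ :=
    (F.mapHomologicalComplex (.up ℕ)).obj ((CochainComplex.single₀ C).obj X)
  let T : CochainComplex D ℕ := (F.mapHomologicalComplex (.up ℕ)).obj R.cocomplex
  let φ : S' ⟶ T := (F.mapHomologicalComplex (.up ℕ)).map R.ι
  let t : S'.X 0 ⟶ T.cycles 0 := R.toRightDerivedZero' F
  have ht : t ≫ T.iCycles 0 = φ.f 0 := R.toRightDerivedZero'_comp_iCycles F
  -- degree zero
  have hd : S'.d 0 1 = 0 := by
    change F.map (((CochainComplex.single₀ C).obj X).d 0 1) = 0
    rw [HomologicalComplex.single_obj_d, F.map_zero]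
  have hi : IsIso (S'.iCycles 0) := S'.isIso_iCycles 0 1 (by simp) hd
  have hc : S'.iCycles 0 ≫ t = HomologicalComplex.cyclesMap φ 0 := by
    rw [← cancel_mono (T.iCycles 0), Category.assoc, ht, HomologicalComplex.cyclesMap_i]
  have h0 : QuasiIsoAt φ 0 ↔ IsIso (F.toRightDerivedZero.app X) := by
    rw [quasiIsoAt_iff_isIso_homologyMap, R.toRightDerivedZero_eq F]
    have e1 : HomologicalComplex.homologyMap φ 0 =
        S'.isoHomologyπ₀.inv ≫ HomologicalComplex.cyclesMap φ 0 ≫ T.isoHomologyπ₀.hom := by
      rw [← CochainComplex.isoHomologyπ₀_inv_naturality_assoc, Iso.inv_hom_id, Category.comp_id]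
    rw [e1, ← hc]
    change IsIso (S'.isoHomologyπ₀.inv ≫ (S'.iCycles 0 ≫ t) ≫ T.isoHomologyπ₀.hom) ↔
      IsIso (t ≫ T.isoHomologyπ₀.hom ≫ (R.isoRightDerivedObj F 0).inv)
    constructor
    · intro h
      have h2 : IsIso t := by
        have h3 := IsIso.of_isIso_comp_left S'.isoHomologyπ₀.inv
          ((S'.iCycles 0 ≫ t) ≫ T.isoHomologyπ₀.hom)
        have h4 := IsIso.of_isIso_comp_right (S'.iCycles 0 ≫ t)
          T.isoHomologyπ₀.hom
        exact IsIso.of_isIso_comp_left (S'.iCycles 0) t
      infer_instance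
    · intro h
      have h2 : IsIso t :=
        IsIso.of_isIso_comp_right t (T.isoHomologyπ₀.hom ≫ (R.isoRightDerivedObj F 0).inv)
      infer_instance
  -- positive degrees
  have hpos : ∀ m : ℕ, QuasiIsoAt φ (m + 1) ↔ IsZero ((F.rightDerived (m + 1)).obj X) := by
    intro m
    have hz : IsZero (S'.X (m + 1)) :=
      F.map_isZero (HomologicalComplex.isZero_single_obj_X _ _ _ _ (by simp))
    have hS : S'.ExactAt (m + 1) := by
      rw [HomologicalComplex.exactAt_iff]
      exact ShortComplex.exact_of_isZero_X₂ _ hz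
    rw [quasiIsoAt_iff_exactAt φ (m + 1) hS, HomologicalComplex.exactAt_iff_isZero_homology]
    exact ⟨fun h => h.of_iso (R.isoRightDerivedObj F (m + 1)),
      fun h => h.of_iso (R.isoRightDerivedObj F (m + 1)).symm⟩
  change QuasiIso φ ↔ _
  rw [quasiIso_iff]
  constructor
  · intro h
    refine ⟨h0.1 (h 0), ?_⟩
    intro i hi
    obtain ⟨m, rfl⟩ : ∃ m, i = m + 1 := ⟨i - 1, by omega⟩
    exact (hpos m).1 (h (m + 1))
  · rintro ⟨h1, h2⟩ n
    cases n with
    | zero => exact h0.2 h1
    | succ m => exact (hpos m).2 (h2 (m + 1) (by omega))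

end Groth.Agent.Helper3.RDAcyc
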