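import Mathlib
import Groth.Agent.Lib.Helper3.RDAcyc

set_option autoImplicit false
universe w w' v v' u u'
open CategoryTheory Limits Pretriangulated

namespace Groth.Agent.Helper3.RDBridge

open Groth.Agent.Helper3.RDPlus Groth.Agent.Helper3.RDAcyc

variable {C : Type u} [Category.{v} C] [Abelian C] [HasDerivedCategory.{w} C]
  {D : Type u'} [Category.{v'} D] [Abelian D] [HasDerivedCategory.{w'} D]
  (F : C ⥤ D) [F.Additive]

section theta

omit [HasDerivedCategory.{w} C] [HasDerivedCategory.{w'} D]

/-- `Hⁿ` of `F` applied to the `ℕ`-indexed resolution vs the `ℤ`-indexed one. -/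
noncomputable def θ {X : C} (R : InjectiveResolution X) (n : ℕ) :
    ((F.mapHomologicalComplex (.up ℕ)).obj R.cocomplex).homology n ≅
      ((F.mapHomologicalComplex (.up ℤ)).obj R.cochainComplex).homology (n : ℤ) :=
  (HomologicalComplex.extendHomologyIso _ ComplexShape.embeddingUpNat (j := n) (j' := (n : ℤ))
      rfl).symm ≪≫
    (HomologicalComplex.homologyMapIso
      (MapExtend.mapExtendIso F R.cocomplex ComplexShape.embeddingUpNat) (n : ℤ)).symm

lemma θ_naturality {X Y : C} {f : X ⟶ Y} {R : InjectiveResolution X} {R' : InjectiveResolution Y}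
    (φ : InjectiveResolution.Hom R R' f) (n : ℕ) :
    HomologicalComplex.homologyMap ((F.mapHomologicalComplex (.up ℕ)).map φ.hom) n ≫ (θ F R' n).hom =
      (θ F R n).hom ≫
        HomologicalComplex.homologyMap ((F.mapHomologicalComplex (.up ℤ)).map φ.hom') (n : ℤ) := by
  let e := ComplexShape.embeddingUpNat
  let ψ := (F.mapHomologicalComplex (.up ℕ)).map φ.hom
  have h1 : (HomologicalComplex.extendHomologyIso _ e (j := n) (j' := (n : ℤ)) rfl).inv ≫
      HomologicalComplex.homologyMap (HomologicalComplex.extendMap ψ e) (n : ℤ) =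
      HomologicalComplex.homologyMap ψ n ≫
        (HomologicalComplex.extendHomologyIso _ e (j := n) (j' := (n : ℤ)) rfl).inv := by
    rw [Iso.inv_comp_eq, ← Category.assoc, Iso.eq_comp_inv,
      HomologicalComplex.extendHomologyIso_hom_naturality]
  have h2 : (MapExtend.mapExtendIso F R.cocomplex e).inv ≫
      (F.mapHomologicalComplex (.up ℤ)).map (HomologicalComplex.extendMap φ.hom e) =
      HomologicalComplex.extendMap ψ e ≫ (MapExtend.mapExtendIso F R'.cocomplex e).inv := by
    rw [Iso.inv_comp_eq, ← Category.assoc, Iso.eq_comp_inv, MapExtend.mapExtendIso_naturality]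
  have h3 := congrArg (fun g => HomologicalComplex.homologyMap g (n : ℤ)) h2
  simp only [HomologicalComplex.homologyMap_comp] at h3
  change HomologicalComplex.homologyMap ψ n ≫
      (HomologicalComplex.extendHomologyIso _ e (j := n) (j' := (n : ℤ)) rfl).inv ≫
      HomologicalComplex.homologyMap (MapExtend.mapExtendIso F R'.cocomplex e).inv (n : ℤ) =
    ((HomologicalComplex.extendHomologyIso _ e (j := n) (j' := (n : ℤ)) rfl).inv ≫
      HomologicalComplex.homologyMap (MapExtend.mapExtendIso F R.cocomplex e).inv (n : ℤ)) ≫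
      HomologicalComplex.homologyMap ((F.mapHomologicalComplex (.up ℤ)).map
        (HomologicalComplex.extendMap φ.hom e)) (n : ℤ)
  rw [Category.assoc, h3, reassoc_of% h1]

end theta


section kappa

variable [EnoughInjectives C]

/-- the object `ι(R)` of `CochainComplex.Plus C` -/
noncomputable abbrev AJ {X : C} (R : InjectiveResolution X) : CochainComplex.Plus C :=
  (InjectiveObject.ι C).mapCochainComplexPlus.obj (RJ R)

/-- the image of `X[0]` in `D⁺(C)` -/
noncomputable abbrev sgD (X : C) : DerivedCategory.Plus C :=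
  DerivedCategory.Plus.Qh.obj ((HomotopyCategory.Plus.quotient C).obj (sg X))

/-- morphism `X[0] ⟶ Y[0]` -/
noncomputable abbrev sgMap {X Y : C} (f : X ⟶ Y) : sg X ⟶ sg Y :=
  ObjectProperty.homMk ((CochainComplex.singleFunctor C 0).map f)

/-- the morphism induced on resolutions, in `CochainComplex.Plus C` -/
noncomputable abbrev AJMap {X Y : C} {f : X ⟶ Y} {R : InjectiveResolution X}
    {R' : InjectiveResolution Y} (φ : InjectiveResolution.Hom R R' f) : AJ R ⟶ AJ R' :=
  ObjectProperty.homMk φ.hom'

omit [HasDerivedCategory.{w} C] [EnoughInjectives C] in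
lemma rj_comp_AJMap {X Y : C} {f : X ⟶ Y} {R : InjectiveResolution X}
    {R' : InjectiveResolution Y} (φ : InjectiveResolution.Hom R R' f) :
    rj R ≫ AJMap φ = sgMap f ≫ rj R' := by
  ext : 1
  exact InjectiveResolution.Hom.ι'_comp_hom' φ

/-- first part of `κ`: homology of `F(J)` as homology of an object of `D⁺(D)` -/
noncomputable def κ₁ {X : C} (R : InjectiveResolution X) (m : ℤ) :
    ((F.mapHomologicalComplex (.up ℤ)).obj R.cochainComplex).homology m ≅
      (DerivedCategory.Plus.ι ⋙ DerivedCategory.homologyFunctor D m).obj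
        (DerivedCategory.Plus.Qh.obj (F.mapHomotopyCategoryPlus.obj
          ((HomotopyCategory.Plus.quotient C).obj (AJ R)))) :=
  ((DerivedCategory.homologyFunctorFactors D m).app
    ((F.mapHomologicalComplex (.up ℤ)).obj R.cochainComplex)).symm

omit [HasDerivedCategory.{w} C] [EnoughInjectives C] in
lemma κ₁_naturality {X Y : C} {f : X ⟶ Y} {R : InjectiveResolution X}
    {R' : InjectiveResolution Y} (φ : InjectiveResolution.Hom R R' f) (m : ℤ) :
    HomologicalComplex.homologyMap ((F.mapHomologicalComplex (.up ℤ)).map φ.hom') m ≫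
        (κ₁ F R' m).hom =
      (κ₁ F R m).hom ≫ (DerivedCategory.Plus.ι ⋙ DerivedCategory.homologyFunctor D m).map
        (DerivedCategory.Plus.Qh.map (F.mapHomotopyCategoryPlus.map
          ((HomotopyCategory.Plus.quotient C).map (AJMap φ)))) :=
  ((DerivedCategory.homologyFunctorFactors D m).inv.naturality
    ((F.mapHomologicalComplex (.up ℤ)).map φ.hom'))

/-- the bridge: homology of `F(J)` is the homology of `RF(X[0])`. -/
noncomputable def κ {X : C} (R : InjectiveResolution X) (m : ℤ) :
    ((F.mapHomologicalComplex (.up ℤ)).obj R.cochainComplex).homology m ≅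
      (HF F m).obj (sgD X) :=
  κ₁ F R m ≪≫
    (DerivedCategory.Plus.ι ⋙ DerivedCategory.homologyFunctor D m).mapIso
      (asIso (F.rightDerivedFunctorPlusUnit.app ((HomotopyCategory.Plus.quotient C).obj (AJ R)))) ≪≫
    (HF F m).mapIso (@asIso _ _ _ _ (DerivedCategory.Plus.Qh.map
      ((HomotopyCategory.Plus.quotient C).map (rj R)))
      ((isIso_Qh_quotient_map_iff (rj R)).2 (inferInstanceAs (QuasiIso R.ι')))).symm

lemma κ_naturality {X Y : C} {f : X ⟶ Y} {R : InjectiveResolution X}
    {R' : InjectiveResolution Y} (φ : InjectiveResolution.Hom R R' f) (m : ℤ) :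
    HomologicalComplex.homologyMap ((F.mapHomologicalComplex (.up ℤ)).map φ.hom') m ≫
        (κ F R' m).hom =
      (κ F R m).hom ≫ (HF F m).map (DerivedCategory.Plus.Qh.map
        ((HomotopyCategory.Plus.quotient C).map (sgMap f))) := by
  have h1 : IsIso (DerivedCategory.Plus.Qh.map ((HomotopyCategory.Plus.quotient C).map (rj R))) :=
    (isIso_Qh_quotient_map_iff (rj R)).2 (inferInstanceAs (QuasiIso R.ι'))
  have h2 : IsIso (DerivedCategory.Plus.Qh.map ((HomotopyCategory.Plus.quotient C).map (rj R'))) :=
    (isIso_Qh_quotient_map_iff (rj R')).2 (inferInstanceAs (QuasiIso R'.ι'))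
  let H := (DerivedCategory.Plus.ι (C := D)) ⋙ DerivedCategory.homologyFunctor D m
  let q := HomotopyCategory.Plus.quotient C
  let Qh := DerivedCategory.Plus.Qh (C := C)
  have nat := F.rightDerivedFunctorPlusUnit.naturality (q.map (AJMap φ))
  have nat' := congrArg H.map nat
  simp only [Functor.map_comp] at nat'
  have h3 : Qh.map (q.map (rj R)) ≫ Qh.map (q.map (AJMap φ)) =
      Qh.map (q.map (sgMap f)) ≫ Qh.map (q.map (rj R')) := by
    rw [← Functor.map_comp, ← Functor.map_comp, ← Functor.map_comp, ← Functor.map_comp,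
      rj_comp_AJMap]
  have h4 : (HF F m).map (inv (Qh.map (q.map (rj R)))) ≫ (HF F m).map (Qh.map (q.map (sgMap f))) =
      (HF F m).map (Qh.map (q.map (AJMap φ))) ≫ (HF F m).map (inv (Qh.map (q.map (rj R')))) := by
    rw [← Functor.map_comp, ← Functor.map_comp]
    congr 1
    rw [IsIso.inv_comp_eq, ← Category.assoc, IsIso.eq_comp_inv, h3]
  change HomologicalComplex.homologyMap ((F.mapHomologicalComplex (.up ℤ)).map φ.hom') m ≫
      (κ₁ F R' m).hom ≫ H.map (F.rightDerivedFunctorPlusUnit.app (q.obj (AJ R'))) ≫
        (HF F m).map (inv (Qh.map (q.map (rj R')))) =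
    ((κ₁ F R m).hom ≫ H.map (F.rightDerivedFunctorPlusUnit.app (q.obj (AJ R))) ≫
        (HF F m).map (inv (Qh.map (q.map (rj R))))) ≫ (HF F m).map (Qh.map (q.map (sgMap f)))
  rw [← Category.assoc, κ₁_naturality]
  simp only [Category.assoc]
  rw [h4]
  congr 1
  rw [← Category.assoc, ← Category.assoc]
  congr 1

end kappa


section HB

variable [EnoughInjectives C]

/-- the bridge between the classical right derived functors and the cohomology of `RF`. -/
noncomputable def hb {X : C} (R : InjectiveResolution X) (n : ℕ) :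
    (F.rightDerived n).obj X ≅ (HF F (n : ℤ)).obj (sgD X) :=
  R.isoRightDerivedObj F n ≪≫ θ F R n ≪≫ κ F R (n : ℤ)

lemma hb_naturality {X Y : C} {f : X ⟶ Y} {R : InjectiveResolution X}
    {R' : InjectiveResolution Y} (φ : InjectiveResolution.Hom R R' f) (n : ℕ) :
    (F.rightDerived n).map f ≫ (hb F R' n).hom =
      (hb F R n).hom ≫ (HF F (n : ℤ)).map (DerivedCategory.Plus.Qh.map
        ((HomotopyCategory.Plus.quotient C).map (sgMap f))) := by
  have h1 := InjectiveResolution.isoRightDerivedObj_hom_naturality f R R' φ.hom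
    (by simpa using φ.ι_f_zero_comp_hom_f_zero) F n
  have h2 := θ_naturality F φ n
  have h3 := κ_naturality F φ (n : ℤ)
  let b : (F.rightDerived n).obj X ⟶
      ((F.mapHomologicalComplex (.up ℕ)).obj R.cocomplex).homology n :=
    (R.isoRightDerivedObj F n).hom
  let b' : (F.rightDerived n).obj Y ⟶
      ((F.mapHomologicalComplex (.up ℕ)).obj R'.cocomplex).homology n :=
    (R'.isoRightDerivedObj F n).hom
  have h1' : (F.rightDerived n).map f ≫ b' =
      b ≫ HomologicalComplex.homologyMap ((F.mapHomologicalComplex (.up ℕ)).map φ.hom) n := h1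
  change (F.rightDerived n).map f ≫ b' ≫ (θ F R' n).hom ≫ (κ F R' (n : ℤ)).hom =
    (b ≫ (θ F R n).hom ≫ (κ F R (n : ℤ)).hom) ≫ _
  rw [← Category.assoc, h1', Category.assoc, reassoc_of% h2, h3]
  simp only [Category.assoc]

/-- the functor `X ↦ X[0]` to `D⁺(C)` -/
noncomputable abbrev sgDF : C ⥤ DerivedCategory.Plus C :=
  HomotopyCategory.Plus.singleFunctor C 0 ⋙ DerivedCategory.Plus.Qh

/-- The natural isomorphism between the classical right derived functors and the cohomology
of the total right derived functor on `D⁺`. -/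
noncomputable def HB (n : ℕ) : F.rightDerived n ≅ sgDF ⋙ HF F (n : ℤ) :=
  NatIso.ofComponents (fun X => hb F (injectiveResolution X) n) (by
    intro X Y f
    exact hb_naturality F (R := injectiveResolution X) (R' := injectiveResolution Y)
      (InjectiveResolution.Hom.mk (InjectiveResolution.desc f _ _) (by
        simpa using InjectiveResolution.desc_commutes_zero f (injectiveResolution Y)
          (injectiveResolution X))) n)

/-- vanishing in negative degrees -/
lemma isZero_HF_neg (X : C) (m : ℤ) (hm : m < 0) : IsZero ((HF F m).obj (sgD X)) := by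
  refine IsZero.of_iso ?_ (κ F (injectiveResolution X) m).symm
  rw [← HomologicalComplex.exactAt_iff_isZero_homology]
  exact HomologicalComplex.exactAt_of_isSupported _ (ComplexShape.embeddingUpIntGE 0) m
    (by
      intro i
      simp only [ComplexShape.embeddingUpIntGE_f]
      omega)

end HB

end Groth.Agent.Helper3.RDBridge
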