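import Mathlib
import Groth.Agent.Lib.Helper3.RDBridge

set_option autoImplicit false
universe v u
open CategoryTheory Limits Opposite CochainComplex HomComplex

namespace Groth.Agent.Helper3.ExtRD

variable {𝒜 : Type u} [Category.{v} 𝒜] [Abelian 𝒜]

/-- `Hom(A, L^•)` is the Hom complex from `A[0]`. -/
noncomputable def homComplexIso (A : 𝒜) (L : CochainComplex 𝒜 ℤ) :
    ((preadditiveCoyoneda.obj (op A)).mapHomologicalComplex (.up ℤ)).obj L ≅
      CochainComplex.HomComplex ((CochainComplex.singleFunctor 𝒜 0).obj A) L :=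
  HomologicalComplex.Hom.isoOfComponents
    (fun q => (AddEquiv.toAddCommGrpIso (Cochain.fromSingleEquiv (X := A) (K := L) (zero_add q)).symm))
    (by
      intro i j hij
      ext f
      exact Cochain.δ_fromSingleMk (K := L) (X := A) f (zero_add i) j j (zero_add j))

variable [HasExt.{v} 𝒜] [HasInjectiveResolutions 𝒜]

/-- homology of the Hom complex vs. `Ext` -/
noncomputable def homComplexHomologyIso (A N : 𝒜) (R : InjectiveResolution N) (n : ℕ) :
    (CochainComplex.HomComplex ((CochainComplex.singleFunctor 𝒜 0).obj A)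
      R.cochainComplex).homology (n : ℤ) ≅ AddCommGrpCat.of (Abelian.Ext.{v} A N n) :=
  AddEquiv.toAddCommGrpIso
      (X := (CochainComplex.HomComplex ((CochainComplex.singleFunctor 𝒜 0).obj A)
        R.cochainComplex).homology (n : ℤ))
      (Y := AddCommGrpCat.of (CohomologyClass ((CochainComplex.singleFunctor 𝒜 0).obj A)
        R.cochainComplex (n : ℤ)))
      (HomComplex.homologyAddEquiv _ _ (n : ℤ)) ≪≫
    AddEquiv.toAddCommGrpIso
      (X := AddCommGrpCat.of (CohomologyClass ((CochainComplex.singleFunctor 𝒜 0).obj A)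
        R.cochainComplex (n : ℤ)))
      (Y := AddCommGrpCat.of (Abelian.Ext.{v} A N n))
      (R.extAddEquivCohomologyClass (X := A) (n := n)).symm

/-- `Ext` groups are the right derived functors of `Hom(A, -)`. -/
noncomputable def coyonedaRightDerivedIso (A N : 𝒜) (n : ℕ) :
    ((preadditiveCoyoneda.obj (op A)).rightDerived n).obj N ≅
      AddCommGrpCat.of (Abelian.Ext.{v} A N n) :=
  (injectiveResolution N).isoRightDerivedObj (preadditiveCoyoneda.obj (op A)) n ≪≫
    RDBridge.θ (preadditiveCoyoneda.obj (op A)) (injectiveResolution N) n ≪≫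
    (HomologicalComplex.homologyFunctor _ _ (n : ℤ)).mapIso
      (homComplexIso A (injectiveResolution N).cochainComplex) ≪≫
    homComplexHomologyIso A N (injectiveResolution N) n

/-- right derived functors of isomorphic functors are isomorphic -/
noncomputable def rightDerivedNatIso {D : Type*} [Category* D] [Abelian D] {F G : 𝒜 ⥤ D}
    [F.Additive] [G.Additive] (e : F ≅ G) (n : ℕ) : F.rightDerived n ≅ G.rightDerived n where
  hom := NatTrans.rightDerived e.hom n
  inv := NatTrans.rightDerived e.inv n
  hom_inv_id := by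
    rw [← NatTrans.rightDerived_comp, e.hom_inv_id, NatTrans.rightDerived_id]
  inv_hom_id := by
    rw [← NatTrans.rightDerived_comp, e.inv_hom_id, NatTrans.rightDerived_id]

/-- If `S ≅ Hom(A, -)` then `RⁿS(N) ≅ Extⁿ(A, N)`. -/
noncomputable def rightDerivedIsoExt (S : 𝒜 ⥤ AddCommGrpCat.{v}) [S.Additive] (A : 𝒜)
    (e : S ≅ preadditiveCoyoneda.obj (op A)) (N : 𝒜) (n : ℕ) :
    (S.rightDerived n).obj N ≅ AddCommGrpCat.of (Abelian.Ext.{v} A N n) :=
  (rightDerivedNatIso e n).app N ≪≫ coyonedaRightDerivedIso A N n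

end Groth.Agent.Helper3.ExtRD
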