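import Mathlib
import Groth.Prelude.Def_SpSeq

set_option autoImplicit false
universe v u
open CategoryTheory Limits

namespace Groth.Agent.Helper3.AbutIso

variable {C : Type u} [Category.{v} C] [Abelian C]

/-- transport of a subobject along an isomorphism -/
noncomputable def tr {X X' : C} (e : X ≅ X') (S : Subobject X) : Subobject X' :=
  Subobject.mk (S.arrow ≫ e.hom)

lemma tr_mono {X X' : C} (e : X ≅ X') {S S' : Subobject X} (h : S ≤ S') : tr e S ≤ tr e S' :=
  Subobject.mk_le_mk_of_comm (S.ofLE S' h) (by rw [← Category.assoc, Subobject.ofLE_arrow])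

lemma tr_top {X X' : C} (e : X ≅ X') : tr e (⊤ : Subobject X) = ⊤ :=
  Subobject.mk_eq_top_of_isIso _

lemma tr_bot {X X' : C} (e : X ≅ X') : tr e (⊥ : Subobject X) = ⊥ := by
  dsimp only [tr]
  rw [Subobject.mk_eq_bot_iff_zero, Subobject.bot_arrow, zero_comp]

/-- the underlying object -/
noncomputable def trIso {X X' : C} (e : X ≅ X') (S : Subobject X) : (tr e S : C) ≅ (S : C) :=
  Subobject.underlyingIso (S.arrow ≫ e.hom)

lemma trIso_hom_arrow {X X' : C} (e : X ≅ X') (S : Subobject X) :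
    (trIso e S).hom ≫ S.arrow ≫ e.hom = (tr e S).arrow :=
  Subobject.underlyingIso_hom_comp_eq_mk _

lemma nonempty_cokernel_iso {X X' : C} (e : X ≅ X') {S S' : Subobject X} (h : S ≤ S')
    (h' : tr e S ≤ tr e S') :
    Nonempty (cokernel ((tr e S).ofLE (tr e S') h') ≅ cokernel (S.ofLE S' h)) := by
  refine ⟨cokernel.mapIso _ _ (trIso e S) (trIso e S') ?_⟩
  rw [← cancel_mono (S'.arrow ≫ e.hom), Category.assoc, trIso_hom_arrow, Subobject.ofLE_arrow,
    Category.assoc, ← Category.assoc (S.ofLE S' h), Subobject.ofLE_arrow, trIso_hom_arrow]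

/-- Transport of abutment data along isomorphisms of the abutment objects. -/
theorem exists_abutment_of_iso {r₀ : ℤ} {E : CohomologicalSpectralSequence C r₀} {H H' : ℤ → C}
    (a : SpSeq.Abutment E H') (e : ∀ n, H' n ≅ H n) (hfin : ∀ n, a.IsFinite n) :
    ∃ a' : SpSeq.Abutment E H, ∀ n, a'.IsFinite n := by
  refine ⟨{ fil := fun n p => tr (e n) (a.fil n p)
            anti := fun n p p' hpp' => tr_mono (e n) (a.anti n hpp')
            rk := a.rk
            stat := a.stat
            β := fun pq => a.β pq ≪≫ (Classical.choice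
              (nonempty_cokernel_iso (e (pq.1 + pq.2)) _ _)).symm }, ?_⟩
  intro n
  obtain ⟨⟨p, hp⟩, ⟨p', hp'⟩⟩ := hfin n
  refine ⟨⟨p, ?_⟩, ⟨p', ?_⟩⟩
  · change tr (e n) (a.fil n p) = ⊤
    have : a.fil n p = ⊤ := hp
    rw [this, tr_top]
  · change tr (e n) (a.fil n p') = ⊥
    have : a.fil n p' = ⊥ := hp'
    rw [this, tr_bot]

end Groth.Agent.Helper3.AbutIso
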