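import Mathlib

set_option autoImplicit false
universe w v u
open CategoryTheory Limits Pretriangulated

namespace Groth.Agent.Helper3.PlusTrunc

variable {C : Type u} [Category.{v} C] [Abelian C] [HasDerivedCategory.{w} C]

open DerivedCategory

/-- the t-structure on `D⁺(C)` -/
noncomputable abbrev t : Triangulated.TStructure (DerivedCategory.Plus C) := Plus.TStructure.t

/-- homology functor on `D⁺` -/
noncomputable abbrev Hn (n : ℤ) : DerivedCategory.Plus C ⥤ C := Plus.homologyFunctor C n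

lemma exact₂ (T : Triangle (DerivedCategory.Plus C)) (hT : T ∈ distTriang _) (n : ℤ) :
    (ShortComplex.mk ((Hn n).map T.mor₁) ((Hn n).map T.mor₂)
      (by rw [← Functor.map_comp, comp_distTriang_mor_zero₁₂ _ hT, Functor.map_zero])).Exact :=
  (Plus.homologyFunctor C 0).homologySequence_exact₂ T hT n

lemma isIso_homology_truncLTι (W : DerivedCategory.Plus C) (n m : ℤ) (h : m < n) :
    IsIso ((Hn m).map ((t.truncLTι n).app W)) := by
  let F := Plus.homologyFunctor C 0
  have hT := t.triangleLTGE_distinguished n W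
  have hge : Plus.IsGE ((t.truncGE n).obj W) n := inferInstance
  have z₁ : IsZero ((Hn m).obj ((t.truncGE n).obj W)) :=
    Plus.isZero_homology_of_isGE _ n m h
  have z₂ : IsZero ((Hn (m - 1)).obj ((t.truncGE n).obj W)) :=
    Plus.isZero_homology_of_isGE _ n (m - 1) (by lia)
  have e₁ := F.homologySequence_exact₂ _ hT m
  have e₂ := F.homologySequence_exact₁ _ hT (m - 1) m (by lia)
  have : Epi ((F.shift m).map ((t.triangleLTGE n).obj W).mor₁) :=
    e₁.epi_f (z₁.eq_of_tgt _ _)
  have : Mono ((F.shift m).map ((t.triangleLTGE n).obj W).mor₁) :=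
    e₂.mono_g (z₂.eq_of_src _ _)
  exact isIso_of_mono_of_epi ((F.shift m).map ((t.triangleLTGE n).obj W).mor₁)

lemma isIso_homology_truncGEπ (W : DerivedCategory.Plus C) (n m : ℤ) (h : n ≤ m) :
    IsIso ((Hn m).map ((t.truncGEπ n).app W)) := by
  let F := Plus.homologyFunctor C 0
  have hT := t.triangleLTGE_distinguished n W
  have hle : Plus.IsLE ((t.truncLT n).obj W) (n - 1) := inferInstance
  have z₁ : IsZero ((Hn m).obj ((t.truncLT n).obj W)) :=
    Plus.isZero_homology_of_isLE _ (n - 1) m (by lia)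
  have z₂ : IsZero ((Hn (m + 1)).obj ((t.truncLT n).obj W)) :=
    Plus.isZero_homology_of_isLE _ (n - 1) (m + 1) (by lia)
  have e₁ := F.homologySequence_exact₂ _ hT m
  have e₂ := F.homologySequence_exact₃ _ hT m (m + 1) rfl
  have : Mono ((F.shift m).map ((t.triangleLTGE n).obj W).mor₂) :=
    e₁.mono_g (z₁.eq_of_src _ _)
  have : Epi ((F.shift m).map ((t.triangleLTGE n).obj W).mor₂) :=
    e₂.epi_f (z₂.eq_of_tgt _ _)
  exact isIso_of_mono_of_epi ((F.shift m).map ((t.triangleLTGE n).obj W).mor₂)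

/-- homology of a single -/
noncomputable def homologySingleIso (M : C) (q : ℤ) :
    (Hn q).obj ((Plus.singleFunctor C q).obj M) ≅ M :=
  (singleFunctorCompHomologyFunctorIso C q).app M

lemma nonempty_iso_single (Z : DerivedCategory.Plus C) (q : ℤ) [Plus.IsGE Z q] [Plus.IsLE Z q] :
    Nonempty (Z ≅ (Plus.singleFunctor C q).obj ((Hn q).obj Z)) := by
  obtain ⟨M, ⟨e⟩⟩ := exists_iso_singleFunctor_obj_of_isGE_of_isLE (Plus.ι.obj Z) q
  let e' : Z ≅ (Plus.singleFunctor C q).obj M := Plus.ι.preimageIso e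
  let e'' : (Hn q).obj Z ≅ M := (Hn q).mapIso e' ≪≫ homologySingleIso M q
  exact ⟨e' ≪≫ (Plus.singleFunctor C q).mapIso e''.symm⟩

/-- `τ_{≥q} τ_{<q+1} X ≅ H^q(X)[-q]`. -/
lemma nonempty_truncGELT_iso (X : DerivedCategory.Plus C) (q q' : ℤ) (hq : q + 1 = q') :
    Nonempty ((t.truncGE q).obj ((t.truncLT q').obj X) ≅
      (Plus.singleFunctor C q).obj ((Hn q).obj X)) := by
  subst hq
  let W := (t.truncLT (q + 1)).obj X
  let Z := (t.truncGE q).obj W
  have h1 : Plus.IsLE W q := inferInstance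
  have h2 : Plus.IsLE Z q := inferInstance
  have h3 : Plus.IsGE Z q := inferInstance
  obtain ⟨e⟩ := nonempty_iso_single Z q
  have i1 := isIso_homology_truncLTι X (q + 1) q (by lia)
  have i2 := isIso_homology_truncGEπ W q q le_rfl
  let a : (Hn q).obj Z ≅ (Hn q).obj X :=
    (asIso ((Hn q).map ((t.truncGEπ q).app W))).symm ≪≫ asIso ((Hn q).map ((t.truncLTι (q + 1)).app X))
  exact ⟨e ≪≫ (Plus.singleFunctor C q).mapIso a⟩

end Groth.Agent.Helper3.PlusTrunc
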