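import Mathlib
import Groth.Agent.Lib.Helper3.RDPlus

set_option autoImplicit false
universe w w' v v' u u'
open CategoryTheory Limits Pretriangulated

namespace Groth.Agent.Helper3.RDTri

open Groth.Agent.Helper3.RDPlus

variable {C : Type u} [Category.{v} C] [Abelian C] [HasDerivedCategory.{w} C] [EnoughInjectives C]
  {D : Type u'} [Category.{v'} D] [Abelian D] [HasDerivedCategory.{w'} D]

instance : (QI C).Full where
  map_surjective {I J} f := QI_map_surjective I J f

instance : (QI C).Faithful where
  map_injective {I J} f g h := by
    obtain ⟨L, rfl⟩ := HomotopyCategory.Plus.quotient_obj_surjective J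
    have hK : CochainComplex.IsKInjective
        (((InjectiveObject.ι C).mapHomotopyCategoryPlus.obj
          ((HomotopyCategory.Plus.quotient _).obj L)).1.as) :=
      inferInstanceAs (CochainComplex.IsKInjective
        (((InjectiveObject.ι C).mapHomologicalComplex (.up ℤ)).obj L.obj))
    have h1 := (DerivedCategory.Plus.Qh_map_bijective_of_isKInjective
      ((InjectiveObject.ι C).mapHomotopyCategoryPlus.obj I) _ hK).1 h
    exact (InjectiveObject.ι C).mapHomotopyCategoryPlus.map_injective h1

instance : (QI C).IsEquivalence where

variable (C) in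
/-- The class of isomorphisms in `K⁺(Inj C)`. -/
abbrev WI : MorphismProperty (HomotopyCategory.Plus (InjectiveObject C)) :=
  MorphismProperty.isomorphisms _

instance : (QI C).IsLocalization (WI C) :=
  Functor.IsLocalization.of_isEquivalence _ _ (fun _ _ _ h => h)

variable (F : C ⥤ D) [F.Additive]

/-- The natural isomorphism `QI ⋙ RF⁺ ≅ GI F`. -/
noncomputable def ηIso : QI C ⋙ F.rightDerivedFunctorPlus ≅ GI F :=
  (NatIso.ofComponents (fun I => ηI F I) (fun φ => ηI_naturality F φ)).symm

noncomputable instance : Localization.Lifting (QI C) (WI C) (GI F) F.rightDerivedFunctorPlus :=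
  ⟨ηIso F⟩

/-- `RF⁺` commutes with shifts. -/
noncomputable instance commShift : F.rightDerivedFunctorPlus.CommShift ℤ :=
  Functor.commShiftOfLocalization (QI C) (WI C) ℤ (GI F) F.rightDerivedFunctorPlus

instance : NatTrans.CommShift (ηIso F).hom ℤ :=
  NatTrans.commShift_iso_hom_of_localization (QI C) (WI C) ℤ (GI F) F.rightDerivedFunctorPlus

instance isTriangulated : F.rightDerivedFunctorPlus.IsTriangulated :=
  Functor.isTriangulated_of_precomp_iso (ηIso F)

end Groth.Agent.Helper3.RDTri
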