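import Mathlib

set_option autoImplicit false
universe v u
open CategoryTheory Limits

namespace Groth.Agent.Helper3.SubQ

variable {C : Type u} [Category.{v} C] [Abelian C]

/-- Abstract form: `I₁ ⟶ I₂ ⟶ E` is short exact. -/
theorem nonempty_cokernel_iso_aux {P₁ P₂ A B E I₁ I₂ : C} (a₁ : P₁ ⟶ A) (a₂ : P₂ ⟶ A)
    (t : P₁ ⟶ P₂) (ht : t ≫ a₂ = a₁) (b : A ⟶ B) (w : a₁ ≫ b = 0)
    (hex : (ShortComplex.mk a₁ b w).Exact)
    (e : P₂ ⟶ E) [Epi e] (m : E ⟶ B) [Mono m] (hem : e ≫ m = a₂ ≫ b)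
    (p₁ : P₁ ⟶ I₁) (j₁ : I₁ ⟶ A) (p₂ : P₂ ⟶ I₂) (j₂ : I₂ ⟶ A) [Epi p₁] [Epi p₂] [Mono j₂]
    (hp₁ : p₁ ≫ j₁ = a₁) (hp₂ : p₂ ≫ j₂ = a₂) (ι : I₁ ⟶ I₂) (hι : ι ≫ j₂ = j₁) :
    Nonempty (cokernel ι ≅ E) := by
  have hk : kernel.ι p₂ ≫ e = 0 := by
    rw [← cancel_mono m, Category.assoc, hem, zero_comp, ← hp₂, Category.assoc,
      kernel.condition_assoc, zero_comp]
  let hcok := Abelian.epiIsCokernelOfKernel (KernelFork.ofι (kernel.ι p₂) (kernel.condition p₂))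
    (kernelIsKernel p₂)
  let φ : I₂ ⟶ E := hcok.desc (CokernelCofork.ofπ e hk)
  have hφ : p₂ ≫ φ = e := hcok.fac (CokernelCofork.ofπ e hk) WalkingParallelPair.one
  have hφm : φ ≫ m = j₂ ≫ b := by
    rw [← cancel_epi p₂, ← Category.assoc, hφ, hem, ← hp₂, Category.assoc]
  haveI : Epi φ := epi_of_epi_fac hφ
  have hpι : p₁ ≫ ι = t ≫ p₂ := by
    rw [← cancel_mono j₂, Category.assoc, hι, hp₁, Category.assoc, hp₂, ht]
  have hιφ : ι ≫ φ = 0 := by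
    rw [← cancel_epi p₁, ← Category.assoc, hpι, Category.assoc, hφ, comp_zero,
      ← cancel_mono m, Category.assoc, hem, zero_comp, ← Category.assoc, ht, w]
  have hS : (ShortComplex.mk ι φ hιφ).Exact := by
    rw [ShortComplex.exact_iff_exact_up_to_refinements]
    intro W x hx
    dsimp at x hx
    have hx' : (x ≫ j₂) ≫ b = 0 := by
      rw [Category.assoc, ← hφm, ← Category.assoc, hx, zero_comp]
    obtain ⟨W', π, hπ, y, hy⟩ := hex.exact_up_to_refinements (x ≫ j₂) hx'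
    dsimp at y hy
    refine ⟨W', π, hπ, y ≫ p₁, ?_⟩
    dsimp
    rw [← cancel_mono j₂, Category.assoc, Category.assoc, Category.assoc, hι, hp₁, hy]
  exact ⟨IsColimit.coconePointUniqueUpToIso (colimit.isColimit _) hS.gIsCokernel⟩

/-- Subquotient lemma: `im(a₂)/im(a₁) ≅ E` when `E` is the image of `a₂ ≫ b` and `(a₁, b)` is exact. -/
theorem nonempty_cokernel_ofLE_iso {P₁ P₂ A B E : C} (a₁ : P₁ ⟶ A) (a₂ : P₂ ⟶ A) (t : P₁ ⟶ P₂)
    (ht : t ≫ a₂ = a₁) (b : A ⟶ B) (w : a₁ ≫ b = 0) (hex : (ShortComplex.mk a₁ b w).Exact)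
    (e : P₂ ⟶ E) [Epi e] (m : E ⟶ B) [Mono m] (hem : e ≫ m = a₂ ≫ b)
    (h : imageSubobject a₁ ≤ imageSubobject a₂) :
    Nonempty (cokernel ((imageSubobject a₁).ofLE (imageSubobject a₂) h) ≅ E) :=
  nonempty_cokernel_iso_aux a₁ a₂ t ht b w hex e m hem
    (factorThruImageSubobject a₁) (imageSubobject a₁).arrow
    (factorThruImageSubobject a₂) (imageSubobject a₂).arrow
    (imageSubobject_arrow_comp a₁) (imageSubobject_arrow_comp a₂) _ (Subobject.ofLE_arrow h)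

end Groth.Agent.Helper3.SubQ
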