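import Mathlib
import Groth.Prelude.Def_SpSeq
import Groth.Agent.Lib.Helper3.SubQ

set_option autoImplicit false
universe v u
open CategoryTheory Limits ComposableArrows

namespace Groth.Agent.Helper3.SpConv

open CategoryTheory.Abelian

variable {C : Type u} [Category.{v} C] [Abelian C] (Y : SpectralObject C EInt)

/-- The canonical map between arrows of `EInt`. -/
noncomputable def arrMap {i j i' j' : EInt} (h : i ≤ j) (h' : i' ≤ j') (hi : i ≤ i') (hj : j ≤ j') :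
    mk₁ (homOfLE h) ⟶ mk₁ (homOfLE h') :=
  homMk₁ (homOfLE hi) (homOfLE hj) (Subsingleton.elim _ _)

lemma arr_hom_ext {i j i' j' : EInt} {h : i ≤ j} {h' : i' ≤ j'}
    (α β : mk₁ (homOfLE h) ⟶ mk₁ (homOfLE h')) : α = β :=
  hom_ext₁ (Subsingleton.elim _ _) (Subsingleton.elim _ _)

/-- The filtration step: image of `Hⁿ(⊥ ≤ j) ⟶ Hⁿ(⊥ ≤ ⊤)`. -/
noncomputable def filt (n : ℤ) (j : EInt) :
    Subobject ((Y.H n).obj (mk₁ (homOfLE (bot_le : (⊥ : EInt) ≤ ⊤)))) :=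
  imageSubobject ((Y.H n).map (arrMap (bot_le : (⊥ : EInt) ≤ j) (bot_le : (⊥ : EInt) ≤ ⊤) le_rfl le_top))

omit [Abelian C] in
lemma imageSubobject_le_of_fac [HasImages C] {X X' A : C} (f : X ⟶ A) (g : X' ⟶ A) (t : X ⟶ X')
    (h : t ≫ g = f) : imageSubobject f ≤ imageSubobject g := by
  subst h
  exact imageSubobject_comp_le _ _

lemma filt_mono (n : ℤ) {i j : EInt} (hij : i ≤ j) : filt Y n i ≤ filt Y n j := by
  refine imageSubobject_le_of_fac _ _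
    ((Y.H n).map (arrMap (bot_le : (⊥ : EInt) ≤ i) (bot_le : (⊥ : EInt) ≤ j) le_rfl hij)) ?_
  rw [← Functor.map_comp]
  exact congrArg _ (arr_hom_ext _ _)

/-- The `E_∞` term. -/
noncomputable def Einf (n : ℤ) (i j : EInt) (hij : i ≤ j) : C :=
  Y.E (homOfLE (bot_le : (⊥ : EInt) ≤ i)) (homOfLE hij) (homOfLE (le_top : j ≤ ⊤)) (n - 1) n (n + 1)
    (by lia) (by lia)

theorem nonempty_gr_iso (n : ℤ) (i j : EInt) (hij : i ≤ j) (h : filt Y n i ≤ filt Y n j) :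
    Nonempty (cokernel ((filt Y n i).ofLE (filt Y n j) h) ≅ Einf Y n i j hij) := by
  let f₁ : (⊥ : EInt) ⟶ i := homOfLE bot_le
  let f₂ : i ⟶ j := homOfLE hij
  let f₃ : j ⟶ (⊤ : EInt) := homOfLE le_top
  let f₁₂ : (⊥ : EInt) ⟶ j := homOfLE bot_le
  let f₂₃ : i ⟶ (⊤ : EInt) := homOfLE le_top
  let f₁₂₃ : (⊥ : EInt) ⟶ (⊤ : EInt) := homOfLE bot_le
  have h₁₂ : f₁ ≫ f₂ = f₁₂ := Subsingleton.elim _ _
  have h₂₃ : f₂ ≫ f₃ = f₂₃ := Subsingleton.elim _ _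
  have h₁₂₃ : f₁ ≫ f₂₃ = f₁₂₃ := Subsingleton.elim _ _
  let e := Y.toCycles f₁ f₂ f₁₂ h₁₂ n ≫ Y.πE f₁ f₂ f₃ (n - 1) n (n + 1) (by lia) (by lia)
  let m := Y.ιE f₁ f₂ f₃ (n - 1) n (n + 1) (by lia) (by lia) ≫ Y.fromOpcycles f₂ f₃ f₂₃ h₂₃ n
  haveI : Epi e := epi_comp _ _
  haveI : Mono m := mono_comp _ _
  have hex := Y.exact₂ f₁ f₂₃ f₁₂₃ h₁₂₃ n
  have ha₁ : (Y.H n).map (arrMap (bot_le : (⊥ : EInt) ≤ i) (bot_le : (⊥ : EInt) ≤ ⊤) le_rfl le_top) =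
      (Y.H n).map (twoδ₂Toδ₁ f₁ f₂₃ f₁₂₃ h₁₂₃) := congrArg _ (arr_hom_ext _ _)
  refine SubQ.nonempty_cokernel_ofLE_iso _ _
    ((Y.H n).map (arrMap (bot_le : (⊥ : EInt) ≤ i) (bot_le : (⊥ : EInt) ≤ j) le_rfl hij)) ?_
    ((Y.H n).map (twoδ₁Toδ₀ f₁ f₂₃ f₁₂₃ h₁₂₃)) ?_ ?_ e m ?_ h
  · rw [← Functor.map_comp]
    exact congrArg _ (arr_hom_ext _ _)
  · rw [ha₁]
    exact Y.zero₂ f₁ f₂₃ f₁₂₃ h₁₂₃ n
  · have key : ∀ (a : (Y.H n).obj (mk₁ f₁) ⟶ (Y.H n).obj (mk₁ f₁₂₃))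
        (_ : a = (Y.H n).map (twoδ₂Toδ₁ f₁ f₂₃ f₁₂₃ h₁₂₃))
        (w : a ≫ (Y.H n).map (twoδ₁Toδ₀ f₁ f₂₃ f₁₂₃ h₁₂₃) = 0),
        (ShortComplex.mk a _ w).Exact := by
      rintro _ rfl _
      exact hex
    exact key _ ha₁ _
  · have h1 := Y.πE_ιE f₁ f₂ f₃ (n - 1) n (n + 1) (by lia) (by lia)
    have h2 := Y.toCycles_i f₁ f₂ f₁₂ h₁₂ n
    have h3 := Y.p_fromOpcycles f₂ f₃ f₂₃ h₂₃ n
    calc e ≫ m = Y.toCycles f₁ f₂ f₁₂ h₁₂ n ≫
          (Y.πE f₁ f₂ f₃ (n - 1) n (n + 1) (by lia) (by lia) ≫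
            Y.ιE f₁ f₂ f₃ (n - 1) n (n + 1) (by lia) (by lia)) ≫
            Y.fromOpcycles f₂ f₃ f₂₃ h₂₃ n := by simp only [e, m, Category.assoc]
      _ = (Y.toCycles f₁ f₂ f₁₂ h₁₂ n ≫ Y.iCycles f₁ f₂ n) ≫
            (Y.pOpcycles f₂ f₃ n ≫ Y.fromOpcycles f₂ f₃ f₂₃ h₂₃ n) := by
          rw [h1]; simp only [Category.assoc]
      _ = _ := by
          rw [h2, h3, ← Functor.map_comp, ← Functor.map_comp]
          exact congrArg _ (arr_hom_ext _ _)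


lemma imageSubobject_eq_bot_of_isZero {X A : C} (f : X ⟶ A) (h : IsZero X) :
    imageSubobject f = ⊥ := by
  obtain rfl : f = 0 := h.eq_of_src _ _
  exact imageSubobject_zero

lemma imageSubobject_eq_top_of_epi {X A : C} (f : X ⟶ A) [Epi f] :
    imageSubobject f = ⊤ := by
  have h1 : Epi (imageSubobject f).arrow :=
    epi_of_epi_fac (imageSubobject_arrow_comp f)
  have : IsIso (imageSubobject f).arrow := isIso_of_mono_of_epi _
  exact Subobject.eq_top_of_isIso_arrow _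

section FirstQuadrant

variable [Y.IsFirstQuadrant]

open SpectralObject in
/-- For `r` large, the page-`r` term at `(p, q)` is the `E_∞` term. -/
theorem nonempty_page_iso (p q r : ℤ) (hr : 2 ≤ r) (hp : p + 1 ≤ r) (hq : q + 2 ≤ r)
    (i j : EInt) (hi : i = ((q : ℤ) : EInt)) (hj : j = ((q + 1 : ℤ) : EInt)) (hij : i ≤ j)
    (n : ℤ) (hn : n = p + q) :
    Nonempty ((Y.E₂SpectralSequence.page r hr).X (p, q) ≅ Einf Y n i j hij) := by
  let i₀ : EInt := ((q - r + 2 : ℤ) : EInt)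
  let i₃ : EInt := ((q + r - 1 : ℤ) : EInt)
  have h₀₁ : i₀ ≤ i := by
    rw [hi]; exact WithBotTop.coe_le_coe.2 (by lia)
  have h₂₃ : j ≤ i₃ := by
    rw [hj]; exact WithBotTop.coe_le_coe.2 (by lia)
  let e₁ := Y.spectralSequencePageXIso coreE₂Cohomological r hr (p, q) i₀ i j i₃ rfl hi hj rfl
    (n - 1) n (n + 1) hn (by lia) (by lia)
  have z₁ : IsZero ((Y.H (n + 1)).obj (mk₁ (homOfLE (bot_le : (⊥ : EInt) ≤ i₀)))) :=
    Y.isZero₁_of_isFirstQuadrant _ _ _ (WithBotTop.coe_le_coe.2 (by lia)) _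
  have z₂ : IsZero ((Y.H (n - 1)).obj (mk₁ (homOfLE (le_top : i₃ ≤ ⊤)))) :=
    Y.isZero₂_of_isFirstQuadrant _ _ _ _ (WithBotTop.coe_lt_coe.2 (by lia))
  let e₂ := Y.isoMapFourδ₁Toδ₀' ⊥ i₀ i j i₃ bot_le h₀₁ hij h₂₃ (n - 1) n (n + 1) z₁ (by lia) (by lia)
  let e₃ := Y.isoMapFourδ₄Toδ₃' ⊥ i j i₃ ⊤ bot_le hij h₂₃ le_top (n - 1) n (n + 1) z₂ (by lia) (by lia)
  exact ⟨e₁ ≪≫ e₂.symm ≪≫ e₃⟩

open SpectralObject in
lemma isZero_page_of_neg_fst (r : ℤ) (hr : 2 ≤ r) (p q : ℤ) (hp : p < 0) :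
    IsZero ((Y.E₂SpectralSequence.page r hr).X (p, q)) := by
  refine Y.isZero_spectralSequence_page_X_of_isZero_H' coreE₂Cohomological r hr (p, q) ?_
  exact Y.isZero₂_of_isFirstQuadrant _ _ _ _
    (WithBotTop.coe_lt_coe.2 (by simp only [coreE₂Cohomological_deg]; lia))

open SpectralObject in
lemma isZero_page_of_neg_snd (r : ℤ) (hr : 2 ≤ r) (p q : ℤ) (hq : q < 0) :
    IsZero ((Y.E₂SpectralSequence.page r hr).X (p, q)) := by
  refine Y.isZero_spectralSequence_page_X_of_isZero_H' coreE₂Cohomological r hr (p, q) ?_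
  exact Y.isZero₁_of_isFirstQuadrant _ _ _ (WithBotTop.coe_le_coe.2 (by lia)) _

lemma stationaryAt (pq : ℤ × ℤ) (r : ℤ) (hr : 2 ≤ r) (hp : pq.1 + 1 ≤ r) (hq : pq.2 + 2 ≤ r) :
    SpSeq.StationaryAt Y.E₂SpectralSequence pq r := by
  obtain ⟨p, q⟩ := pq
  dsimp at hp hq
  refine ⟨hr, fun r' h₀ hr' => ⟨?_, ?_⟩⟩
  · apply IsZero.eq_of_src
    have : ((p, q) : ℤ × ℤ) - (r', 1 - r') = (p - r', q - (1 - r')) := rfl
    rw [this]
    exact isZero_page_of_neg_fst Y r' h₀ _ _ (by lia)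
  · apply IsZero.eq_of_tgt
    have : ((p, q) : ℤ × ℤ) + (r', 1 - r') = (p + r', q + (1 - r')) := rfl
    rw [this]
    exact isZero_page_of_neg_snd Y r' h₀ _ _ (by lia)

/-- The abutment of the first quadrant `E₂` spectral sequence of a spectral object. -/
noncomputable def abutment : SpSeq.Abutment Y.E₂SpectralSequence
    (fun n => (Y.H n).obj (mk₁ (homOfLE (bot_le : (⊥ : EInt) ≤ ⊤)))) where
  fil n p := filt Y n ((n - p + 1 : ℤ) : EInt)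
  anti n := fun p p' hpp' => filt_mono Y n (WithBotTop.coe_le_coe.2 (by lia))
  rk pq := max (max (pq.1 + 1) (pq.2 + 2)) 2
  stat pq := stationaryAt Y pq _ (le_max_right _ _)
    (le_trans (le_max_left _ _) (le_max_left _ _)) (le_trans (le_max_right _ _) (le_max_left _ _))
  β pq := Classical.choice (by
    have hij : (((pq.1 + pq.2) - (pq.1 + 1) + 1 : ℤ) : EInt) ≤ (((pq.1 + pq.2) - pq.1 + 1 : ℤ) : EInt) :=
      WithBotTop.coe_le_coe.2 (by lia)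
    obtain ⟨e₁⟩ := nonempty_page_iso Y pq.1 pq.2 (max (max (pq.1 + 1) (pq.2 + 2)) 2) (le_max_right _ _)
      (le_trans (le_max_left _ _) (le_max_left _ _)) (le_trans (le_max_right _ _) (le_max_left _ _))
      _ _ (by congr 1; ring) (by congr 1; ring) hij (pq.1 + pq.2) rfl
    obtain ⟨e₂⟩ := nonempty_gr_iso Y (pq.1 + pq.2) _ _ hij (filt_mono Y _ hij)
    exact ⟨e₁ ≪≫ e₂.symm⟩)

lemma abutment_isFinite (n : ℤ) : (abutment Y).IsFinite n := by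
  refine ⟨⟨0, ?_⟩, ⟨n + 1, ?_⟩⟩
  · change filt Y n ((n - 0 + 1 : ℤ) : EInt) = ⊤
    let j : EInt := ((n - 0 + 1 : ℤ) : EInt)
    let f : (⊥ : EInt) ⟶ j := homOfLE bot_le
    let g : j ⟶ (⊤ : EInt) := homOfLE le_top
    let fg : (⊥ : EInt) ⟶ (⊤ : EInt) := homOfLE bot_le
    have hfg : f ≫ g = fg := Subsingleton.elim _ _
    have hz : IsZero ((Y.H n).obj (mk₁ g)) :=
      Y.isZero₂_of_isFirstQuadrant _ _ _ _ (WithBotTop.coe_lt_coe.2 (by lia))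
    have hepi : Epi ((Y.H n).map (twoδ₂Toδ₁ f g fg hfg)) :=
      (Y.exact₂ f g fg hfg n).epi_f (hz.eq_of_tgt _ _)
    have : (Y.H n).map (arrMap (bot_le : (⊥ : EInt) ≤ j) (bot_le : (⊥ : EInt) ≤ ⊤) le_rfl le_top) =
        (Y.H n).map (twoδ₂Toδ₁ f g fg hfg) := congrArg _ (arr_hom_ext _ _)
    have hepi' : Epi ((Y.H n).map
        (arrMap (bot_le : (⊥ : EInt) ≤ j) (bot_le : (⊥ : EInt) ≤ ⊤) le_rfl le_top)) := by
      rw [this]; exact hepi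
    exact imageSubobject_eq_top_of_epi _
  · change filt Y n ((n - (n + 1) + 1 : ℤ) : EInt) = ⊥
    refine imageSubobject_eq_bot_of_isZero _ ?_
    exact Y.isZero₁_of_isFirstQuadrant _ _ _ (WithBotTop.coe_le_coe.2 (by lia)) _

lemma isBounded : SpSeq.IsBounded Y.E₂SpectralSequence := by
  intro n
  refine (Set.finite_Icc (0 : ℤ) n).subset ?_
  intro p hp
  simp only [Set.mem_setOf_eq] at hp
  refine ⟨?_, ?_⟩
  · by_contra h
    exact hp (isZero_page_of_neg_fst Y 2 le_rfl _ _ (by lia))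
  · by_contra h
    exact hp (isZero_page_of_neg_snd Y 2 le_rfl _ _ (by lia))

open SpectralObject in
/-- The `E₂` terms. -/
noncomputable def pageTwoIso (p q : ℤ) (i j : EInt) (hi : i = ((q : ℤ) : EInt))
    (hj : j = ((q + 1 : ℤ) : EInt)) (hij : i ≤ j) (n : ℤ) (hn : n = p + q) :
    (Y.E₂SpectralSequence.page 2 le_rfl).X (p, q) ≅ (Y.H n).obj (mk₁ (homOfLE hij)) :=
  Y.spectralSequenceFirstPageXIso coreE₂Cohomological (p, q) i j hi hj n hn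

/-- Vanishing of the abutment in negative degrees. -/
lemma isZero_abutment_of_neg (n : ℤ) (hn : n < 0) :
    IsZero ((Y.H n).obj (mk₁ (homOfLE (bot_le : (⊥ : EInt) ≤ ⊤)))) := by
  let j : EInt := ((0 : ℤ) : EInt)
  let f : (⊥ : EInt) ⟶ j := homOfLE bot_le
  let g : j ⟶ (⊤ : EInt) := homOfLE le_top
  let fg : (⊥ : EInt) ⟶ (⊤ : EInt) := homOfLE bot_le
  have hfg : f ≫ g = fg := Subsingleton.elim _ _
  have hz₁ : IsZero ((Y.H n).obj (mk₁ f)) :=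
    Y.isZero₁_of_isFirstQuadrant _ _ _ le_rfl _
  have hz₂ : IsZero ((Y.H n).obj (mk₁ g)) :=
    Y.isZero₂_of_isFirstQuadrant _ _ _ _ (WithBotTop.coe_lt_coe.2 hn)
  exact (Y.exact₂ f g fg hfg n).isZero_of_both_zeros (hz₁.eq_of_src _ _) (hz₂.eq_of_tgt _ _)

end FirstQuadrant

end Groth.Agent.Helper3.SpConv
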