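import Mathlib

set_option autoImplicit false
universe v₁ v₂ v₃ u₁ u₂ u₃
open CategoryTheory Limits ComposableArrows Pretriangulated

namespace Groth.Agent.Helper3.SpObjHom

variable {T : Type u₁} [Category.{v₁} T] [HasZeroObject T] [HasShift T ℤ] [Preadditive T]
  [∀ n : ℤ, (shiftFunctor T n).Additive] [Pretriangulated T]
  {A : Type u₂} [Category.{v₂} A] [Abelian A] {ι : Type u₃} [Category.{v₃} ι]
  (X : Triangulated.SpectralObject T ι) (F : T ⥤ A) [F.IsHomological] [F.ShiftSequence ℤ]

/-- The spectral object in an abelian category obtained by applying a homological functor to a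
spectral object in a triangulated category. -/
noncomputable def mapHomological : Abelian.SpectralObject A ι where
  H n := X.ω₁ ⋙ F.shift n
  δ' n₀ n₁ h :=
    { app := fun D => F.homologySequenceδ (X.ω₂.obj D) n₀ n₁ h
      naturality := fun D D' φ => F.homologySequenceδ_naturality _ _ (X.ω₂.map φ) n₀ n₁ h }
  exact₁' n₀ n₁ h D :=
    (F.homologySequence_exact₁ _ (X.ω₂_obj_distinguished D) n₀ n₁ h).exact_toComposableArrows
  exact₂' n D :=
    (F.homologySequence_exact₂ _ (X.ω₂_obj_distinguished D) n).exact_toComposableArrows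
  exact₃' n₀ n₁ h D :=
    (F.homologySequence_exact₃ _ (X.ω₂_obj_distinguished D) n₀ n₁ h).exact_toComposableArrows

@[simp]
lemma mapHomological_H (n : ℤ) : (mapHomological X F).H n = X.ω₁ ⋙ F.shift n := rfl

end Groth.Agent.Helper3.SpObjHom
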