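import Mathlib
import Groth.Agent.Lib.Helper3.RDBridge

set_option autoImplicit false
universe w w' v v' u u'
open CategoryTheory Limits Pretriangulated

namespace Groth.Agent.Helper3.RDTwo

open Groth.Agent.Helper3.RDPlus Groth.Agent.Helper3.RDAcyc Groth.Agent.Helper3.RDBridge

variable {C : Type u} [Category.{v} C] [Abelian C] [HasDerivedCategory.{w} C] [EnoughInjectives C]
  {D : Type u'} [Category.{v'} D] [Abelian D] [HasDerivedCategory.{w'} D]
  (F : C ⥤ D) [F.Additive]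

/-- acyclicity in terms of the cohomology of `RF` -/
def HAcyc (X : C) : Prop := ∀ i : ℤ, 0 < i → IsZero ((HF F i).obj (sgDF.obj X))

lemma hAcyc_iff (X : C) :
    HAcyc F X ↔ ∀ i : ℕ, 0 < i → IsZero ((F.rightDerived i).obj X) := by
  constructor
  · intro h i hi
    exact (h (i : ℤ) (by exact_mod_cast hi)).of_iso (hb F (injectiveResolution X) i)
  · intro h i hi
    obtain ⟨n, rfl⟩ := Int.eq_ofNat_of_zero_le hi.le
    exact (h n (by exact_mod_cast hi)).of_iso (hb F (injectiveResolution X) n).symm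

omit [HasDerivedCategory.{w} C] [EnoughInjectives C] in
lemma shortExact_sg (S : ShortComplex C) (hS : S.ShortExact) :
    (ShortComplex.mk (sgMap S.f).hom (sgMap S.g).hom (by
      change (CochainComplex.singleFunctor C 0).map S.f ≫ (CochainComplex.singleFunctor C 0).map S.g = 0
      rw [← Functor.map_comp, S.zero, Functor.map_zero])).ShortExact :=
  hS.map_of_exact (HomologicalComplex.single C (ComplexShape.up ℤ) 0)

/-- the long exact sequence attached to a short exact sequence of objects -/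
lemma les (S : ShortComplex C) (hS : S.ShortExact) (i j : ℤ) (hij : i + 1 = j) :
    (∃ (w : (HF F i).map (sgDF.map S.f) ≫ (HF F i).map (sgDF.map S.g) = 0),
      (ShortComplex.mk _ _ w).Exact) ∧
    ∃ (δ : (HF F i).obj (sgDF.obj S.X₃) ⟶ (HF F j).obj (sgDF.obj S.X₁))
      (w₁ : (HF F i).map (sgDF.map S.g) ≫ δ = 0) (w₂ : δ ≫ (HF F j).map (sgDF.map S.f) = 0),
      (ShortComplex.mk _ _ w₁).Exact ∧ (ShortComplex.mk _ _ w₂).Exact := by
  obtain ⟨δ₀, hT⟩ := exists_triangle_of_ses (sgMap S.f) (sgMap S.g) _ (shortExact_sg S hS)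
  exact exact_of_distinguished F _ hT i j hij


lemma hAcyc_X₂ (S : ShortComplex C) (hS : S.ShortExact) (h₁ : HAcyc F S.X₁) (h₃ : HAcyc F S.X₃) :
    HAcyc F S.X₂ := by
  intro i hi
  obtain ⟨⟨w, hex⟩, -⟩ := les F S hS i (i + 1) rfl
  exact hex.isZero_X₂ ((h₁ i hi).eq_of_src _ _) ((h₃ i hi).eq_of_tgt _ _)

lemma hAcyc_X₃ (S : ShortComplex C) (hS : S.ShortExact) (h₁ : HAcyc F S.X₁) (h₂ : HAcyc F S.X₂) :
    HAcyc F S.X₃ := by
  intro i hi
  obtain ⟨-, δ, w₁, w₂, hex₁, -⟩ := les F S hS i (i + 1) rfl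
  exact hex₁.isZero_X₂ ((h₂ i hi).eq_of_src _ _) ((h₁ (i + 1) (by omega)).eq_of_tgt _ _)

lemma epi_HF_zero (S : ShortComplex C) (hS : S.ShortExact)
    (h₁ : IsZero ((HF F 1).obj (sgDF.obj S.X₁))) : Epi ((HF F 0).map (sgDF.map S.g)) := by
  obtain ⟨-, δ, w₁, w₂, hex₁, -⟩ := les F S hS 0 1 rfl
  exact hex₁.epi_f (h₁.eq_of_tgt _ _)

lemma hAcyc_X₁ (S : ShortComplex C) (hS : S.ShortExact) (h₂ : HAcyc F S.X₂) (h₃ : HAcyc F S.X₃)
    (hg : Epi ((HF F 0).map (sgDF.map S.g))) : HAcyc F S.X₁ := by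
  intro i hi
  obtain ⟨-, δ, w₁, w₂, hex₁, hex₂⟩ := les F S hS (i - 1) i (by omega)
  refine hex₂.isZero_X₂ ?_ ((h₂ i hi).eq_of_tgt _ _)
  by_cases h1 : i = 1
  · subst h1
    have : Epi ((HF F (1 - 1)).map (sgDF.map S.g)) := hg
    change δ = 0
    rw [← cancel_epi ((HF F (1 - 1)).map (sgDF.map S.g)), w₁, comp_zero]
  · exact (h₃ (i - 1) (by omega)).eq_of_src _ _

section leftExact

variable [PreservesFiniteLimits F]

/-- for a left exact functor, `F ≅ H⁰(RF(-[0]))` -/
noncomputable def τ : F ≅ sgDF ⋙ HF F 0 :=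
  asIso F.toRightDerivedZero ≪≫ HB F 0

lemma epi_map_iff {X Y : C} (g : X ⟶ Y) :
    Epi (F.map g) ↔ Epi ((HF F 0).map (sgDF.map g)) := by
  have h : F.map g ≫ (τ F).hom.app Y = (τ F).hom.app X ≫ (HF F 0).map (sgDF.map g) :=
    (τ F).hom.naturality g
  constructor
  · intro hg
    have : Epi ((τ F).hom.app X ≫ (HF F 0).map (sgDF.map g)) := by
      rw [← h]
      infer_instance
    exact epi_of_epi ((τ F).hom.app X) _
  · intro hg
    have : Epi (F.map g ≫ (τ F).hom.app Y) := by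
      rw [h]
      infer_instance
    have h2 : F.map g = (F.map g ≫ (τ F).hom.app Y) ≫ (τ F).inv.app Y := by
      rw [Category.assoc, Iso.hom_inv_id_app, Category.comp_id]
    rw [h2]
    infer_instance

lemma shortExact_map (S : ShortComplex C) (hS : S.ShortExact)
    (hg : Epi ((HF F 0).map (sgDF.map S.g))) : (S.map F).ShortExact := by
  have := hS.mono_f
  have h1 : (S.map F).Exact ∧ Mono (F.map S.f) :=
    (Functor.preservesFiniteLimits_iff_forall_exact_map_and_mono F).1 inferInstance S hS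
  have h2 : Epi (F.map S.g) := (epi_map_iff F S.g).2 hg
  exact { exact := h1.1, mono_f := h1.2, epi_g := h2 }

/-- two out of three, case (2), in classical form -/
lemma two_of_three (S : ShortComplex C) (hS : S.ShortExact)
    (h₁ : ∀ i : ℕ, 0 < i → IsZero ((F.rightDerived i).obj S.X₁))
    (h₂ : ∀ i : ℕ, 0 < i → IsZero ((F.rightDerived i).obj S.X₂)) :
    (∀ i : ℕ, 0 < i → IsZero ((F.rightDerived i).obj S.X₃)) ∧ (S.map F).ShortExact := by
  rw [← hAcyc_iff] at h₁ h₂ ⊢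
  exact ⟨hAcyc_X₃ F S hS h₁ h₂, shortExact_map F S hS (epi_HF_zero F S hS (h₁ 1 (by omega)))⟩

end leftExact

end Groth.Agent.Helper3.RDTwo
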