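import Mathlib

set_option autoImplicit false
universe v v' u u'
open CategoryTheory Limits

namespace Groth.Agent.Helper3.Splice

variable {C : Type u} [Category.{v} C] [Abelian C]
  {D : Type u'} [Category.{v'} D] [Abelian D] (F : C ⥤ D) [F.Additive]

/-- A class of objects adapted to `F`. -/
structure Adapted (P : C → Prop) : Prop where
  zero : ∀ Z, IsZero Z → P Z
  two : ∀ S : ShortComplex C, S.ShortExact → P S.X₁ → P S.X₂ → P S.X₃ ∧ (S.map F).ShortExact

section cyc

variable (K : CochainComplex C ℤ)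

/-- the short complex `0 → Zⁿ → Kⁿ → Zⁿ⁺¹ → 0` -/
noncomputable def cycSES (n : ℤ) : ShortComplex C :=
  ShortComplex.mk (K.iCycles n) (K.toCycles n (n + 1)) (by
    rw [← cancel_mono (K.iCycles (n + 1)), Category.assoc, HomologicalComplex.toCycles_i,
      HomologicalComplex.iCycles_d, zero_comp])

lemma iCycles_toCycles (n : ℤ) : K.iCycles n ≫ K.toCycles n (n + 1) = 0 := (cycSES K n).zero

lemma epi_toCycles (hac : K.Acyclic) (n : ℤ) : Epi (K.toCycles n (n + 1)) := by
  rw [epi_iff_surjective_up_to_refinements]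
  intro A y
  have hex := (K.exactAt_iff_exact_up_to_refinements n (n + 1) (n + 1 + 1) (by simp) (by simp)).1
    (hac (n + 1))
  obtain ⟨A', π, hπ, x₁, hx₁⟩ := hex (y ≫ K.iCycles (n + 1)) (by simp)
  refine ⟨A', π, hπ, x₁, ?_⟩
  rw [← cancel_mono (K.iCycles (n + 1)), Category.assoc, Category.assoc,
    HomologicalComplex.toCycles_i]
  exact hx₁

lemma cycSES_shortExact (hac : K.Acyclic) (n : ℤ) : (cycSES K n).ShortExact := by
  have : Mono (cycSES K n).f := inferInstanceAs (Mono (K.iCycles n))
  have : Epi (cycSES K n).g := epi_toCycles K hac n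
  refine ShortComplex.ShortExact.mk ?_
  rw [ShortComplex.exact_iff_exact_up_to_refinements]
  intro A (x₂ : A ⟶ K.X n) (h1 : x₂ ≫ K.toCycles n (n + 1) = 0)
  have hx : x₂ ≫ K.d n (n + 1) = 0 := by
    rw [← K.toCycles_i n (n + 1), ← Category.assoc, h1, zero_comp]
  exact ⟨A, 𝟙 A, inferInstance, K.liftCycles x₂ (n + 1) (by simp) hx, by
    change 𝟙 A ≫ x₂ = K.liftCycles x₂ (n + 1) (by simp) hx ≫ K.iCycles n
    rw [Category.id_comp, HomologicalComplex.liftCycles_i]⟩

end cyc


variable {F} {P : C → Prop}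

lemma isZero_cycles_of_le (K : CochainComplex C ℤ) (a : ℤ) [K.IsStrictlyGE a] (hac : K.Acyclic)
    (n : ℤ) (hn : n ≤ a) : IsZero (K.cycles n) := by
  have h0 : IsZero (K.X (n - 1)) := K.isZero_of_isStrictlyGE a (n - 1) (by omega)
  have hepi : Epi (K.toCycles (n - 1) (n - 1 + 1)) := epi_toCycles K hac (n - 1)
  have hn' : n - 1 + 1 = n := by omega
  rw [hn'] at hepi
  rw [IsZero.iff_id_eq_zero, ← cancel_epi (K.toCycles (n - 1) n)]
  exact h0.eq_of_src _ _

lemma P_cycles (hP : Adapted F P) (K : CochainComplex C ℤ) (a : ℤ) [K.IsStrictlyGE a]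
    (hK : ∀ n, P (K.X n)) (hac : K.Acyclic) (n : ℤ) : P (K.cycles n) := by
  by_cases hn : n ≤ a
  · exact hP.zero _ (isZero_cycles_of_le K a hac n hn)
  · have hn' : a ≤ n := by omega
    induction n, hn' using Int.leInduction with
    | base => exact hP.zero _ (isZero_cycles_of_le K a hac a le_rfl)
    | succ m hm ih =>
      have hm' : P (K.cycles m) := by
        by_cases h : m ≤ a
        · exact hP.zero _ (isZero_cycles_of_le K a hac m h)
        · exact ih h
      exact (hP.two (cycSES K m) (cycSES_shortExact K hac m) hm' (hK m)).1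

lemma shortExact_map_cycSES (hP : Adapted F P) (K : CochainComplex C ℤ) (a : ℤ) [K.IsStrictlyGE a]
    (hK : ∀ n, P (K.X n)) (hac : K.Acyclic) (n : ℤ) : ((cycSES K n).map F).ShortExact :=
  (hP.two (cycSES K n) (cycSES_shortExact K hac n) (P_cycles hP K a hK hac n) (hK n)).2

/-- The splicing lemma: `F` sends an acyclic bounded below complex with terms in an adapted
class to an acyclic complex. -/
theorem acyclic_map (hP : Adapted F P) (K : CochainComplex C ℤ) (a : ℤ) [K.IsStrictlyGE a]
    (hK : ∀ n, P (K.X n)) (hac : K.Acyclic) :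
    ((F.mapHomologicalComplex (.up ℤ)).obj K).Acyclic := by
  intro n
  rw [HomologicalComplex.exactAt_iff' _ (n - 1) n (n + 1) (by simp) (by simp)]
  have e0 := shortExact_map_cycSES hP K a hK hac (n - 1)
  have e1 := shortExact_map_cycSES hP K a hK hac n
  have e2 := shortExact_map_cycSES hP K a hK hac (n + 1)
  have hn' : n - 1 + 1 = n := by omega
  -- the three facts
  have hepi : Epi (F.map (K.toCycles (n - 1) n)) := by
    have := e0.epi_g
    change Epi (F.map (K.toCycles (n - 1) (n - 1 + 1))) at this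
    rw [hn'] at this
    exact this
  have hmono : Mono (F.map (K.iCycles (n + 1))) := e2.mono_f
  have hex : (ShortComplex.mk (F.map (K.iCycles n)) (F.map (K.toCycles n (n + 1)))
      (by rw [← F.map_comp, iCycles_toCycles, F.map_zero])).Exact := e1.exact
  -- intermediate complex
  let B : ShortComplex D := ShortComplex.mk (F.map (K.d (n - 1) n)) (F.map (K.toCycles n (n + 1)))
    (by rw [← F.map_comp, HomologicalComplex.d_toCycles, F.map_zero])
  have hB : B.Exact := by
    let φ : B ⟶ ShortComplex.mk (F.map (K.iCycles n)) (F.map (K.toCycles n (n + 1)))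
        (by rw [← F.map_comp, iCycles_toCycles, F.map_zero]) :=
      { τ₁ := F.map (K.toCycles (n - 1) n)
        τ₂ := 𝟙 _
        τ₃ := 𝟙 _
        comm₁₂ := by
          change F.map (K.toCycles (n - 1) n) ≫ F.map (K.iCycles n) =
            F.map (K.d (n - 1) n) ≫ 𝟙 _
          rw [Category.comp_id, ← F.map_comp, HomologicalComplex.toCycles_i]
        comm₂₃ := by
          change 𝟙 _ ≫ F.map (K.toCycles n (n + 1)) = F.map (K.toCycles n (n + 1)) ≫ 𝟙 _
          rw [Category.comp_id, Category.id_comp] }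
    have : Epi φ.τ₁ := hepi
    have : IsIso φ.τ₂ := inferInstanceAs (IsIso (𝟙 (F.obj (K.X n))))
    have : Mono φ.τ₃ := inferInstanceAs (Mono (𝟙 (F.obj (K.cycles (n + 1)))))
    exact (ShortComplex.exact_iff_of_epi_of_isIso_of_mono φ).2 hex
  let ψ : B ⟶ ((F.mapHomologicalComplex (.up ℤ)).obj K).sc' (n - 1) n (n + 1) :=
    { τ₁ := 𝟙 _
      τ₂ := 𝟙 _
      τ₃ := F.map (K.iCycles (n + 1))
      comm₁₂ := by
        change 𝟙 _ ≫ F.map (K.d (n - 1) n) = F.map (K.d (n - 1) n) ≫ 𝟙 _
        rw [Category.comp_id, Category.id_comp]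
      comm₂₃ := by
        change 𝟙 _ ≫ F.map (K.d n (n + 1)) =
          F.map (K.toCycles n (n + 1)) ≫ F.map (K.iCycles (n + 1))
        rw [Category.id_comp, ← F.map_comp, HomologicalComplex.toCycles_i] }
  have : Epi ψ.τ₁ := inferInstanceAs (Epi (𝟙 (F.obj (K.X (n - 1)))))
  have : IsIso ψ.τ₂ := inferInstanceAs (IsIso (𝟙 (F.obj (K.X n))))
  have : Mono ψ.τ₃ := hmono
  exact (ShortComplex.exact_iff_of_epi_of_isIso_of_mono ψ).1 hB


lemma quasiIso_f_of_acyclic_X₃ {S : ShortComplex (CochainComplex C ℤ)} (hS : S.ShortExact)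
    (h : S.X₃.Acyclic) : QuasiIso S.f := by
  rw [quasiIso_iff]
  intro n
  rw [quasiIsoAt_iff_isIso_homologyMap]
  have hz : ∀ m, IsZero (S.X₃.homology m) := fun m =>
    (HomologicalComplex.exactAt_iff_isZero_homology _ _).1 (h m)
  have hm : Mono (HomologicalComplex.homologyMap S.f n) :=
    (hS.homology_exact₁ (n - 1) n (by simp)).mono_g ((hz (n - 1)).eq_of_src _ _)
  have he : Epi (HomologicalComplex.homologyMap S.f n) :=
    (hS.homology_exact₂ n).epi_f ((hz n).eq_of_tgt _ _)
  exact isIso_of_mono_of_epi _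

/-- `F` preserves a termwise monic quasi-isomorphism between bounded below complexes with
terms in an adapted class. -/
theorem quasiIso_map_of_mono (hP : Adapted F P) {K J : CochainComplex C ℤ} (a : ℤ)
    [K.IsStrictlyGE a] [J.IsStrictlyGE a] (j : K ⟶ J) [Mono j] [QuasiIso j]
    (hK : ∀ n, P (K.X n)) (hJ : ∀ n, P (J.X n)) :
    QuasiIso ((F.mapHomologicalComplex (.up ℤ)).map j) := by
  let S : ShortComplex (CochainComplex C ℤ) := ShortComplex.mk j (cokernel.π j) (cokernel.condition j)
  have hS : S.ShortExact :=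
    { exact := ShortComplex.exact_cokernel j
      mono_f := inferInstanceAs (Mono j)
      epi_g := inferInstanceAs (Epi (cokernel.π j)) }
  have hSn : ∀ n : ℤ, (S.map (HomologicalComplex.eval C (.up ℤ) n)).ShortExact := fun n =>
    hS.map_of_exact (HomologicalComplex.eval C (.up ℤ) n)
  have h2 := fun n : ℤ => hP.two _ (hSn n) (hK n) (hJ n)
  have hCge : S.X₃.IsStrictlyGE a := by
    rw [CochainComplex.isStrictlyGE_iff]
    intro n hn
    have : Epi ((cokernel.π j).f n) := (hSn n).epi_g
    have h0 : IsZero (J.X n) := J.isZero_of_isStrictlyGE a n hn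
    change IsZero ((cokernel j).X n)
    rw [IsZero.iff_id_eq_zero, ← cancel_epi ((cokernel.π j).f n)]
    exact h0.eq_of_src _ _
  have hacC : S.X₃.Acyclic := hS.acyclic_X₃ (inferInstanceAs (QuasiIso j))
  have hFC := acyclic_map hP S.X₃ a (fun n => (h2 n).1) hacC
  have hS' : (S.map (F.mapHomologicalComplex (.up ℤ))).ShortExact :=
    HomologicalComplex.shortExact_of_degreewise_shortExact _ (fun n => (h2 n).2)
  exact quasiIso_f_of_acyclic_X₃ hS' hFC

end Groth.Agent.Helper3.Splice
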