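import Mathlib
import Groth.Agent.Lib.Helper3.SpConv
import Groth.Agent.Lib.Helper3.AbutIso
import Groth.Agent.Lib.Helper3.SpObjHom
import Groth.Agent.Lib.Helper3.RDTri
import Groth.Agent.Lib.Helper3.PlusTrunc
import Groth.Agent.Lib.Helper3.RDBridge
import Groth.Agent.S0996

/-!
# The Grothendieck spectral sequence

Construction: for `X ∈ D⁺(C')` cohomologically `≥ 0`, apply the homological functor
`H⁰ ∘ RS⁺` to the spectral object of truncations of `X` for the canonical t-structure;
this is a first quadrant spectral object, whose `E₂` spectral sequence has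
`E₂^{p,q} = R^pS(H^q X)` and abuts to `H^{p+q}(RS⁺ X)`. For `X = RT⁺(A[0])` and `T` sending
injectives to `S`-acyclics one gets the Grothendieck spectral sequence.
-/

set_option autoImplicit false
universe w w' w'' v v' v'' u u' u''
open CategoryTheory Limits Pretriangulated

namespace Groth.Agent.Helper3.GSS

open Groth.Agent.Helper3.RDPlus Groth.Agent.Helper3.RDAcyc Groth.Agent.Helper3.RDBridge

lemma enoughInjectives_of_hasInjectiveResolutions (C : Type u) [Category.{v} C] [Abelian C]
    [HasInjectiveResolutions C] : EnoughInjectives C where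
  presentation X := by
    let I := injectiveResolution X
    exact ⟨⟨I.cocomplex.X 0, inferInstance,
      (HomologicalComplex.singleObjXSelf (ComplexShape.up ℕ) 0 X).inv ≫ I.ι.f 0, inferInstance⟩⟩

section one

variable {C : Type u} [Category.{v} C] [Abelian C] [HasDerivedCategory.{w} C] [EnoughInjectives C]
  {D : Type u'} [Category.{v'} D] [Abelian D] [HasDerivedCategory.{w'} D]
  (F : C ⥤ D) [F.Additive]

/-- `H⁰ ∘ RF⁺` -/
noncomputable abbrev HS : DerivedCategory.Plus C ⥤ D :=
  F.rightDerivedFunctorPlus ⋙ DerivedCategory.Plus.homologyFunctor D 0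

instance : (HS F).IsHomological := inferInstance

noncomputable instance : (HS F).ShiftSequence ℤ := inferInstance

lemma HS_shift (n : ℤ) : (HS F).shift n = HF F n := rfl

omit [EnoughInjectives C] in
lemma isGE_Qh_quotient_obj (K : CochainComplex.Plus C) (m : ℤ) [K.obj.IsStrictlyGE m] :
    (DerivedCategory.Plus.Qh.obj ((HomotopyCategory.Plus.quotient C).obj K)).IsGE m := by
  rw [← DerivedCategory.Plus.isGE_ι_obj_iff]
  change DerivedCategory.IsGE (DerivedCategory.Q.obj K.obj) m
  infer_instance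

lemma isGE_rightDerivedFunctorPlus_obj (Z : DerivedCategory.Plus C) (m : ℤ) [Z.IsGE m] :
    (F.rightDerivedFunctorPlus.obj Z).IsGE m := by
  obtain ⟨L, hL, ⟨e⟩⟩ := DerivedCategory.Plus.exists_injective_nonempty_iso Z m
  let I := (HomotopyCategory.Plus.quotient _).obj L
  have e1 : F.rightDerivedFunctorPlus.obj Z ≅ (GI F).obj I :=
    F.rightDerivedFunctorPlus.mapIso e.symm ≪≫ (ηI F I).symm
  have h : ((GI F).obj I).IsGE m := by
    have : ((F.mapCochainComplexPlus).obj
        ((InjectiveObject.ι C).mapCochainComplexPlus.obj L)).obj.IsStrictlyGE m := by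
      change CochainComplex.IsStrictlyGE ((F.mapHomologicalComplex _).obj
        (((InjectiveObject.ι C).mapHomologicalComplex _).obj L.obj)) m
      infer_instance
    exact isGE_Qh_quotient_obj
      ((F.mapCochainComplexPlus).obj ((InjectiveObject.ι C).mapCochainComplexPlus.obj L)) m
  exact DerivedCategory.Plus.TStructure.t.isGE_of_iso e1.symm m

lemma isZero_HF_of_isGE (Z : DerivedCategory.Plus C) (m : ℤ) [Z.IsGE m] (n : ℤ) (hn : n < m) :
    IsZero ((HF F n).obj Z) := by
  have := isGE_rightDerivedFunctorPlus_obj F Z m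
  exact DerivedCategory.Plus.isZero_homology_of_isGE (F.rightDerivedFunctorPlus.obj Z) m n hn

omit [EnoughInjectives C] in
lemma isGE_sgD (A : C) : (sgD A).IsGE 0 :=
  isGE_Qh_quotient_obj (sg A) 0

/-- single₀ vs sgD -/
noncomputable def singleIsoSgD (M : C) :
    (DerivedCategory.Plus.singleFunctor C 0).obj M ≅ sgD M :=
  DerivedCategory.Plus.ι.preimageIso (Iso.refl _)

/-- `HF F n (single_q M) ≅ HF F p (sgD M)` for n = p + q. -/
noncomputable def HFSingleIso (M : C) (p q n : ℤ) (hn : n = p + q) :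
    (HF F n).obj ((DerivedCategory.Plus.singleFunctor C q).obj M) ≅ (HF F p).obj (sgD M) :=
  (HF F n).mapIso
      (((DerivedCategory.Plus.singleFunctors C).shiftIso (-q) q 0 (by lia)).symm.app M) ≪≫
    ((HS F).shiftIso (-q) n p (by lia)).app _ ≪≫ (HF F p).mapIso (singleIsoSgD M)

variable (X : DerivedCategory.Plus C)

/-- the spectral object -/
noncomputable def Y : Abelian.SpectralObject D EInt :=
  SpObjHom.mapHomological (PlusTrunc.t.spectralObject X) (HS F)

lemma Y_H_obj (n : ℤ) (i j : EInt) (hij : i ≤ j) :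
    ((Y F X).H n).obj (ComposableArrows.mk₁ (homOfLE hij)) =
      (HF F n).obj ((PlusTrunc.t.eTruncGE.obj i).obj ((PlusTrunc.t.eTruncLT.obj j).obj X)) := rfl

instance [X.IsGE 0] : (Y F X).IsFirstQuadrant where
  isZero₁ i j hij hj n := by
    rw [Y_H_obj]
    have h1 : IsZero ((PlusTrunc.t.eTruncLT.obj j).obj X) :=
      PlusTrunc.t.isZero_eTruncLT_obj_obj X 0 j hj
    exact (HF F n).map_isZero ((PlusTrunc.t.eTruncGE.obj i).map_isZero h1)
  isZero₂ i j hij n hi := by
    rw [Y_H_obj]
    have : ((PlusTrunc.t.eTruncGE.obj i).obj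
        ((PlusTrunc.t.eTruncLT.obj j).obj X)).IsGE (n + 1) := by
      refine PlusTrunc.t.isGE_eTruncGE_obj_obj (n + 1) i ?_ _
      induction i using WithBotTop.rec with
      | bot => simp at hi
      | coe i =>
        simp only [WithBotTop.coe_lt_coe] at hi
        simp only [WithBotTop.coe_le_coe]
        lia
      | top => exact le_top
    exact isZero_HF_of_isGE F _ (n + 1) n (by lia)

/-- The `E₂` page. -/
lemma nonempty_pageTwoIso [X.IsGE 0] (p q : ℤ) :
    Nonempty (((Y F X).E₂SpectralSequence.page 2 le_rfl).X (p, q) ≅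
      (HF F p).obj (sgD ((PlusTrunc.Hn q).obj X))) := by
  have hij : ((q : ℤ) : EInt) ≤ ((q + 1 : ℤ) : EInt) := WithBotTop.coe_le_coe.2 (by lia)
  let e1 := SpConv.pageTwoIso (Y F X) p q _ _ rfl rfl hij (p + q) rfl
  obtain ⟨e2⟩ := PlusTrunc.nonempty_truncGELT_iso X q (q + 1) rfl
  let e2' : ((Y F X).H (p + q)).obj (ComposableArrows.mk₁ (homOfLE hij)) ≅
      (HF F (p + q)).obj ((DerivedCategory.Plus.singleFunctor C q).obj ((PlusTrunc.Hn q).obj X)) :=
    (HF F (p + q)).mapIso e2
  exact ⟨e1 ≪≫ e2' ≪≫ HFSingleIso F _ p q (p + q) rfl⟩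

/-- the abutment object -/
lemma Y_H_bot_top (n : ℤ) :
    ((Y F X).H n).obj (ComposableArrows.mk₁ (homOfLE (bot_le : (⊥ : EInt) ≤ ⊤))) =
      (HF F n).obj X := rfl

end one

section comp

variable {C : Type u} [Category.{v} C] [Abelian C] [HasDerivedCategory.{w} C] [EnoughInjectives C]
  {C' : Type u'} [Category.{v'} C'] [Abelian C'] [HasDerivedCategory.{w'} C'] [EnoughInjectives C']
  {C'' : Type u''} [Category.{v''} C''] [Abelian C''] [HasDerivedCategory.{w''} C'']
  (T : C ⥤ C') [T.Additive] (S : C' ⥤ C'') [S.Additive] [PreservesFiniteLimits S]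

/-- `R(S ∘ T) ≅ RS ∘ RT` on an object, computed by an injective resolution. -/
lemma nonempty_compIso
    (hT : ∀ Q : C, Injective Q → ∀ q : ℕ, 0 < q → IsZero ((S.rightDerived q).obj (T.obj Q)))
    {A : C} (R : InjectiveResolution A) :
    Nonempty (DerivedCategory.Plus.Qh.obj ((T ⋙ S).mapHomotopyCategoryPlus.obj
        ((HomotopyCategory.Plus.quotient C).obj (AJ R))) ≅
      S.rightDerivedFunctorPlus.obj (T.rightDerivedFunctorPlus.obj (sgD A))) := by
  let K' : CochainComplex.Plus C' := T.mapCochainComplexPlus.obj (AJ R)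
  have h1 : IsIso (S.rightDerivedFunctorPlusUnit.app
      ((HomotopyCategory.Plus.quotient C').obj K')) := by
    refine Groth.Agent.S0996.result S K' ?_
    intro m i hi
    refine hT _ ?_ i hi
    change Injective (R.cochainComplex.X m)
    infer_instance
  let e1 : DerivedCategory.Plus.Qh.obj ((T ⋙ S).mapHomotopyCategoryPlus.obj
        ((HomotopyCategory.Plus.quotient C).obj (AJ R))) ≅
      DerivedCategory.Plus.Qh.obj (S.mapHomotopyCategoryPlus.obj
        ((HomotopyCategory.Plus.quotient C').obj K')) := Iso.refl _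
  let e2 := asIso (S.rightDerivedFunctorPlusUnit.app ((HomotopyCategory.Plus.quotient C').obj K'))
  let e3 := asIso (T.rightDerivedFunctorPlusUnit.app ((HomotopyCategory.Plus.quotient C).obj (AJ R)))
  let e3' : DerivedCategory.Plus.Qh.obj ((HomotopyCategory.Plus.quotient C').obj K') ≅
      T.rightDerivedFunctorPlus.obj (DerivedCategory.Plus.Qh.obj
        ((HomotopyCategory.Plus.quotient C).obj (AJ R))) := e3
  let e4 : sgD A ≅ DerivedCategory.Plus.Qh.obj ((HomotopyCategory.Plus.quotient C).obj (AJ R)) :=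
    @asIso _ _ _ _ (DerivedCategory.Plus.Qh.map ((HomotopyCategory.Plus.quotient C).map (rj R)))
      ((isIso_Qh_quotient_map_iff (rj R)).2 (inferInstanceAs (QuasiIso R.ι')))
  exact ⟨e1 ≪≫ e2 ≪≫
    S.rightDerivedFunctorPlus.mapIso (e3' ≪≫ T.rightDerivedFunctorPlus.mapIso e4.symm)⟩

/-- The abutment: `Rⁿ(S ∘ T)(A) ≅ Hⁿ(RS⁺(RT⁺(A[0])))`. -/
lemma nonempty_abutIso
    (hT : ∀ Q : C, Injective Q → ∀ q : ℕ, 0 < q → IsZero ((S.rightDerived q).obj (T.obj Q)))
    (A : C) (n : ℕ) :
    Nonempty (((T ⋙ S).rightDerived n).obj A ≅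
      (HF S (n : ℤ)).obj (T.rightDerivedFunctorPlus.obj (sgD A))) := by
  let R := injectiveResolution A
  obtain ⟨e⟩ := nonempty_compIso T S hT R
  exact ⟨R.isoRightDerivedObj (T ⋙ S) n ≪≫ θ (T ⋙ S) R n ≪≫ κ₁ (T ⋙ S) R (n : ℤ) ≪≫
    (DerivedCategory.Plus.ι ⋙ DerivedCategory.homologyFunctor C'' n).mapIso e⟩

omit [PreservesFiniteLimits S] in
/-- The `E₂` terms: `R^pS(R^qT(A))`. -/
lemma nonempty_E2Iso (A : C) (p q : ℕ) :
    haveI : (T.rightDerivedFunctorPlus.obj (sgD A)).IsGE 0 :=
      haveI := isGE_sgD A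
      isGE_rightDerivedFunctorPlus_obj T (sgD A) 0
    Nonempty (((Y S (T.rightDerivedFunctorPlus.obj (sgD A))).E₂SpectralSequence.page 2 le_rfl).X
        ((p : ℤ), (q : ℤ)) ≅ (S.rightDerived p).obj ((T.rightDerived q).obj A)) := by
  have := isGE_sgD A
  have : (T.rightDerivedFunctorPlus.obj (sgD A)).IsGE 0 :=
    isGE_rightDerivedFunctorPlus_obj T (sgD A) 0
  obtain ⟨e⟩ := nonempty_pageTwoIso S (T.rightDerivedFunctorPlus.obj (sgD A)) (p : ℤ) (q : ℤ)
  let a : (T.rightDerived q).obj A ≅
      (PlusTrunc.Hn (q : ℤ)).obj (T.rightDerivedFunctorPlus.obj (sgD A)) :=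
    hb T (injectiveResolution A) q
  exact ⟨e ≪≫ ((HB S p).app _).symm ≪≫ (S.rightDerived p).mapIso a.symm⟩

open scoped ZeroObject in
/-- **The Grothendieck spectral sequence** (existence form). -/
theorem main
    (hT : ∀ Q : C, Injective Q → ∀ q : ℕ, 0 < q → IsZero ((S.rightDerived q).obj (T.obj Q)))
    (A : C) :
    ∃ (E : E₂CohomologicalSpectralSequence C'')
      (a : SpSeq.Abutment E
        (fun n : ℤ => if 0 ≤ n then ((T ⋙ S).rightDerived n.toNat).obj A else 0)),
      (∀ n, a.IsFinite n) ∧ SpSeq.IsBounded E ∧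
      ∀ p q : ℤ, Nonempty ((E.page 2 le_rfl).X (p, q) ≅
        (if 0 ≤ p ∧ 0 ≤ q then (S.rightDerived p.toNat).obj ((T.rightDerived q.toNat).obj A)
          else 0)) := by
  have := isGE_sgD A
  have hX : (T.rightDerivedFunctorPlus.obj (sgD A)).IsGE 0 :=
    isGE_rightDerivedFunctorPlus_obj T (sgD A) 0
  have e : ∀ n : ℤ, Nonempty
      (((Y S (T.rightDerivedFunctorPlus.obj (sgD A))).H n).obj
        (ComposableArrows.mk₁ (homOfLE (bot_le : (⊥ : EInt) ≤ ⊤))) ≅
      (if 0 ≤ n then ((T ⋙ S).rightDerived n.toNat).obj A else 0)) := by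
    intro n
    by_cases hn : 0 ≤ n
    · obtain ⟨k, rfl⟩ := Int.eq_ofNat_of_zero_le hn
      rw [if_pos hn]
      simp only [Int.toNat_natCast]
      exact ⟨(nonempty_abutIso T S hT A k).some.symm⟩
    · rw [if_neg hn]
      exact ⟨(SpConv.isZero_abutment_of_neg _ n (by lia)).isoZero⟩
  obtain ⟨a', ha'⟩ := AbutIso.exists_abutment_of_iso
    (SpConv.abutment (Y S (T.rightDerivedFunctorPlus.obj (sgD A)))) (fun n => (e n).some)
    (SpConv.abutment_isFinite _)
  refine ⟨(Y S (T.rightDerivedFunctorPlus.obj (sgD A))).E₂SpectralSequence, a', ha',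
    SpConv.isBounded _, ?_⟩
  intro p q
  by_cases h : 0 ≤ p ∧ 0 ≤ q
  · rw [if_pos h]
    obtain ⟨k, rfl⟩ := Int.eq_ofNat_of_zero_le h.1
    obtain ⟨l, rfl⟩ := Int.eq_ofNat_of_zero_le h.2
    simp only [Int.toNat_natCast]
    exact nonempty_E2Iso T S A k l
  · rw [if_neg h]
    by_cases hp : 0 ≤ p
    · have hq : q < 0 := by
        by_contra hq
        exact h ⟨hp, by lia⟩
      exact ⟨(SpConv.isZero_page_of_neg_snd _ 2 le_rfl p q hq).isoZero⟩
    · exact ⟨(SpConv.isZero_page_of_neg_fst _ 2 le_rfl p q (by lia)).isoZero⟩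

end comp

section std

variable {C : Type u} [Category.{v} C] [Abelian C] [HasInjectiveResolutions C]
  {C' : Type u'} [Category.{v'} C'] [Abelian C'] [HasInjectiveResolutions C']
  {C'' : Type u''} [Category.{v''} C''] [Abelian C'']
  (T : C ⥤ C') [T.Additive] (S : C' ⥤ C'') [S.Additive] [PreservesFiniteLimits S]

open scoped ZeroObject in
/-- **The Grothendieck spectral sequence** (existence form), with no auxiliary hypotheses. -/
theorem main'
    (hT : ∀ Q : C, Injective Q → ∀ q : ℕ, 0 < q → IsZero ((S.rightDerived q).obj (T.obj Q)))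
    (A : C) :
    ∃ (E : E₂CohomologicalSpectralSequence C'')
      (a : SpSeq.Abutment E
        (fun n : ℤ => if 0 ≤ n then ((T ⋙ S).rightDerived n.toNat).obj A else 0)),
      (∀ n, a.IsFinite n) ∧ SpSeq.IsBounded E ∧
      ∀ p q : ℤ, Nonempty ((E.page 2 le_rfl).X (p, q) ≅
        (if 0 ≤ p ∧ 0 ≤ q then (S.rightDerived p.toNat).obj ((T.rightDerived q.toNat).obj A)
          else 0)) := by
  let _ := HasDerivedCategory.standard C
  let _ := HasDerivedCategory.standard C'
  let _ := HasDerivedCategory.standard C''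
  have := enoughInjectives_of_hasInjectiveResolutions C
  have := enoughInjectives_of_hasInjectiveResolutions C'
  exact main T S hT A

end std

end Groth.Agent.Helper3.GSS
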