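import Mathlib

set_option autoImplicit false
universe v v' u u'
open CategoryTheory CategoryTheory.Limits

namespace Groth.Agent.Helper3.RDAdd

variable {C : Type u} [Category.{v} C] [Abelian C] [HasInjectiveResolutions C]

instance injectiveResolutions_additive : (injectiveResolutions C).Additive where
  map_add {X Y f g} := by
    have h : (HomotopyCategory.quotient C (ComplexShape.up ℕ)).map
        (InjectiveResolution.desc (f + g) (injectiveResolution Y) (injectiveResolution X)) =
        (HomotopyCategory.quotient C (ComplexShape.up ℕ)).map
          (InjectiveResolution.desc f (injectiveResolution Y) (injectiveResolution X) +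
            InjectiveResolution.desc g (injectiveResolution Y) (injectiveResolution X)) := by
      apply HomotopyCategory.eq_of_homotopy
      apply InjectiveResolution.descHomotopy (f + g)
      · simp
      · simp [Functor.map_add]
    exact h.trans (Functor.map_add _)

variable {D : Type u'} [Category.{v'} D] [Abelian D]

instance rightDerived_additive (F : C ⥤ D) [F.Additive] (n : ℕ) : (F.rightDerived n).Additive := by
  dsimp only [Functor.rightDerived, Functor.rightDerivedToHomotopyCategory]
  infer_instance

/-- right derived functors send zero objects to zero objects -/
theorem isZero_rightDerived_obj (F : C ⥤ D) [F.Additive] (n : ℕ) {X : C} (hX : IsZero X) :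
    IsZero ((F.rightDerived n).obj X) :=
  Functor.map_isZero _ hX

end Groth.Agent.Helper3.RDAdd
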