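import Mathlib
import Groth.Prelude.Def_SpSeq
import Groth.Agent.Lib.Helper1.SpSeqL

set_option autoImplicit false
universe v u
open CategoryTheory CategoryTheory.Limits

namespace Groth.Agent.Helper3.SpVan

open Groth.Agent.Helper1

variable {C : Type u} [Category.{v} C] [Abelian C] {r₀ : ℤ}
  (E : CohomologicalSpectralSequence C r₀) {H : ℤ → C} (a : SpSeq.Abutment E H)

/-- if all terms of total degree `n` vanish on some page then the abutment vanishes in degree `n` -/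
theorem isZero_abut (r : ℤ) (hr : r₀ ≤ r) (n : ℤ) (hfin : a.IsFinite n)
    (h : ∀ p : ℤ, IsZero ((E.page r hr).X (p, n - p))) : IsZero (H n) := by
  have hgr : ∀ p, IsZero (SpSeq.grPiece (a.fil n) (a.anti n) p) := by
    intro p
    have h1 := SpSeqL.isZero_grPiece_of_isZero_page E a r hr (p, n - p) (h p)
    exact SpSeqL.isZero_grPiece_congr E a _ n (by simp) p h1
  have hexh : IsLUB (Set.range (a.fil n)) ⊤ := by
    obtain ⟨k, hk⟩ := hfin.1
    refine ⟨fun _ _ => le_top, fun b hb => ?_⟩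
    exact hk ▸ hb ⟨k, rfl⟩
  obtain ⟨h1, h2⟩ := SpSeqL.top_bot_of_single (a.fil n) (a.anti n) 0 (fun p _ => hgr p) hfin.2 hexh
  obtain ⟨e⟩ := SpSeqL.nonempty_iso_grPiece_of_top_bot _ (a.anti n) 0 h1 h2
  exact (hgr 0).of_iso e

/-- a position is stationary if the sources and targets of all differentials vanish on page `r` -/
theorem stationaryAt_of_isZero (r : ℤ) (hr : r₀ ≤ r) (pq : ℤ × ℤ)
    (h1 : ∀ r' : ℤ, r ≤ r' → IsZero ((E.page r hr).X (pq - (r', 1 - r'))))
    (h2 : ∀ r' : ℤ, r ≤ r' → IsZero ((E.page r hr).X (pq + (r', 1 - r')))) :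
    SpSeq.StationaryAt E pq r := by
  refine ⟨hr, fun r' h₀ hrr' => ⟨?_, ?_⟩⟩
  · exact (SpSeqL.isZero_of_le E r hr _ (h1 r' hrr') r' hrr').eq_of_src _ _
  · exact (SpSeqL.isZero_of_le E r hr _ (h2 r' hrr') r' hrr').eq_of_tgt _ _

/-- if only one term of total degree `n` survives and it is stationary, it is the abutment -/
theorem iso_single (r : ℤ) (hr : r₀ ≤ r) (n p : ℤ) (hfin : a.IsFinite n)
    (hz : ∀ p' : ℤ, p' ≠ p → IsZero ((E.page r hr).X (p', n - p')))
    (hst : SpSeq.StationaryAt E (p, n - p) r) :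
    Nonempty (H n ≅ (E.page r hr).X (p, n - p)) := by
  have hexh : IsLUB (Set.range (a.fil n)) ⊤ := by
    obtain ⟨k, hk⟩ := hfin.1
    refine ⟨fun _ _ => le_top, fun b hb => ?_⟩
    exact hk ▸ hb ⟨k, rfl⟩
  refine SpSeqL.nonempty_iso_of_single E a r hr p (n - p) n (by ring) ?_ hfin.2 hexh hst
  intro p' hp'
  have h1 := SpSeqL.isZero_grPiece_of_isZero_page E a r hr (p', n - p') (hz p' hp')
  exact SpSeqL.isZero_grPiece_congr E a _ n (by simp) p' h1

/-- first column: `E₂^{p,q} = 0` for `p ≠ 0` gives `Hⁿ ≅ E₂^{0,n}` -/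
theorem iso_col0 (r : ℤ) (hr : r₀ ≤ r) (hr1 : 1 ≤ r) (n : ℤ) (hfin : a.IsFinite n)
    (hz : ∀ p q : ℤ, p ≠ 0 → IsZero ((E.page r hr).X (p, q))) :
    Nonempty (H n ≅ (E.page r hr).X (0, n)) := by
  have h := iso_single E a r hr n 0 hfin (fun p' hp' => hz p' _ hp')
    (stationaryAt_of_isZero E r hr _ (fun r' hr' => hz _ _ (by
        change (0 : ℤ) - r' ≠ 0
        omega))
      (fun r' hr' => hz _ _ (by
        change (0 : ℤ) + r' ≠ 0
        omega)))
  rwa [sub_zero] at h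

/-- first row: `E₂^{p,q} = 0` for `q ≠ 0` gives `Hⁿ ≅ E₂^{n,0}` -/
theorem iso_row0 (r : ℤ) (hr : r₀ ≤ r) (hr2 : 2 ≤ r) (n : ℤ) (hfin : a.IsFinite n)
    (hz : ∀ p q : ℤ, q ≠ 0 → IsZero ((E.page r hr).X (p, q))) :
    Nonempty (H n ≅ (E.page r hr).X (n, 0)) := by
  have h := iso_single E a r hr n n hfin (fun p' hp' => hz p' _ (by omega))
    (stationaryAt_of_isZero E r hr _ (fun r' hr' => hz _ _ (by
        change (n - n) - (1 - r') ≠ 0
        omega))
      (fun r' hr' => hz _ _ (by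
        change (n - n) + (1 - r') ≠ 0
        omega)))
  rwa [sub_self] at h

end Groth.Agent.Helper3.SpVan
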