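import Mathlib
import Groth.Agent.Lib.Helper3.GSS
import Groth.Agent.Lib.Helper3.SpVan
import Groth.Agent.Lib.Helper3.RDAdd

/-!
# Degenerate cases of the Grothendieck spectral sequence (general form)
-/

set_option autoImplicit false
universe u u' u'' v v' v''
open CategoryTheory CategoryTheory.Limits

namespace Groth.Agent.Helper3.LerayCol3

open Groth.Agent.Helper3

variable {C : Type u} [Category.{v} C] [Abelian C] [HasInjectiveResolutions C]
  {C' : Type u'} [Category.{v'} C'] [Abelian C'] [HasInjectiveResolutions C']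
  {C'' : Type u''} [Category.{v''} C''] [Abelian C'']
  (T : C ⥤ C') [T.Additive] (S : C' ⥤ C'') [S.Additive] [PreservesFiniteLimits S]

/-- column-degenerate Grothendieck spectral sequence: if all `R^q T (A)` are `S`-acyclic then
`R^n (S ∘ T) (A) ≅ S (R^n T (A))`. -/
theorem nonempty_iso_col
    (hT : ∀ Q : C, Injective Q → ∀ q : ℕ, 0 < q → IsZero ((S.rightDerived q).obj (T.obj Q)))
    (A : C)
    (hvan : ∀ q p : ℕ, 0 < p → IsZero ((S.rightDerived p).obj ((T.rightDerived q).obj A)))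
    (n : ℕ) :
    Nonempty (((T ⋙ S).rightDerived n).obj A ≅ S.obj ((T.rightDerived n).obj A)) := by
  obtain ⟨E, a, hfin, hbdd, hE⟩ := GSS.main' T S hT A
  have hz : ∀ p q : ℤ, p ≠ 0 → IsZero ((E.page 2 le_rfl).X (p, q)) := by
    intro p q hp
    obtain ⟨e⟩ := hE p q
    refine IsZero.of_iso ?_ e
    split_ifs with hpq
    · exact hvan q.toNat p.toNat (by omega)
    · exact isZero_zero _
  obtain ⟨e1⟩ := SpVan.iso_col0 E a 2 le_rfl (by norm_num) (n : ℤ) (hfin n) hz
  obtain ⟨e2⟩ := hE 0 (n : ℤ)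
  rw [if_pos (by omega)] at e1
  rw [if_pos (by omega)] at e2
  simp only [Int.toNat_natCast, Int.toNat_zero] at e1 e2
  have e4 : (S.rightDerived 0).obj ((T.rightDerived n).obj A) ≅ S.obj ((T.rightDerived n).obj A) :=
    (S.rightDerivedZeroIsoSelf).app _
  exact ⟨e1 ≪≫ e2 ≪≫ e4⟩

/-- row-degenerate Grothendieck spectral sequence: if `R^q T (A) = 0` for `q > 0` then
`R^n (S ∘ T) (A) ≅ R^n S (T A)`. -/
theorem nonempty_iso_row [PreservesFiniteLimits T]
    (hT : ∀ Q : C, Injective Q → ∀ q : ℕ, 0 < q → IsZero ((S.rightDerived q).obj (T.obj Q)))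
    (A : C)
    (hvan : ∀ q : ℕ, 0 < q → IsZero ((T.rightDerived q).obj A))
    (n : ℕ) :
    Nonempty (((T ⋙ S).rightDerived n).obj A ≅ (S.rightDerived n).obj (T.obj A)) := by
  obtain ⟨E, a, hfin, hbdd, hE⟩ := GSS.main' T S hT A
  have hz : ∀ p q : ℤ, q ≠ 0 → IsZero ((E.page 2 le_rfl).X (p, q)) := by
    intro p q hq
    obtain ⟨e⟩ := hE p q
    refine IsZero.of_iso ?_ e
    split_ifs with hpq
    · exact Functor.map_isZero _ (hvan q.toNat (by omega))
    · exact isZero_zero _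
  obtain ⟨e1⟩ := SpVan.iso_row0 E a 2 le_rfl le_rfl (n : ℤ) (hfin n) hz
  obtain ⟨e2⟩ := hE (n : ℤ) 0
  rw [if_pos (by omega)] at e1
  rw [if_pos (by omega)] at e2
  simp only [Int.toNat_natCast, Int.toNat_zero] at e1 e2
  have e4 : (T.rightDerived 0).obj A ≅ T.obj A := (T.rightDerivedZeroIsoSelf).app _
  exact ⟨e1 ≪≫ e2 ≪≫ (S.rightDerived n).mapIso e4⟩

end Groth.Agent.Helper3.LerayCol3
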