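import Mathlib

set_option autoImplicit false
universe u
open CategoryTheory Limits Opposite

namespace Groth.Agent.Helper3.FCFree

variable {C : Type u} [SmallCategory C] {D : Type u} [SmallCategory D] (Φ : D ⥤ C)

/-- the presheaf of sets `W ↦ Σ i, (W ⟶ Φ (F i))`, the coproduct of the representables -/
def gset (F : FormalCoproduct.{u} D) : Cᵒᵖ ⥤ Type u where
  obj W := Σ i : F.I, (W.unop ⟶ Φ.obj (F.obj i))
  map g := ↾fun x => ⟨x.1, g.unop ≫ x.2⟩
  map_id W := by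
    refine ConcreteCategory.hom_ext _ _ fun x => ?_
    obtain ⟨i, g⟩ := x
    change (⟨i, 𝟙 _ ≫ g⟩ : Σ i : F.I, (W.unop ⟶ Φ.obj (F.obj i))) = ⟨i, g⟩
    rw [Category.id_comp]
  map_comp {W₁ W₂ W₃} f g := by
    refine ConcreteCategory.hom_ext _ _ fun x => ?_
    obtain ⟨i, h⟩ := x
    change (⟨i, (g.unop ≫ f.unop) ≫ h⟩ : Σ i : F.I, (W₃.unop ⟶ Φ.obj (F.obj i))) =
      ⟨i, g.unop ≫ f.unop ≫ h⟩
    rw [Category.assoc]

variable {Φ} in
/-- constructor for sections -/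
abbrev gset.mk {F : FormalCoproduct.{u} D} {W : Cᵒᵖ} (i : F.I) (g : W.unop ⟶ Φ.obj (F.obj i)) :
    (gset Φ F).obj W := ⟨i, g⟩

lemma gset_map_mk {F : FormalCoproduct.{u} D} {W W' : Cᵒᵖ} (a : W ⟶ W') (i : F.I)
    (g : W.unop ⟶ Φ.obj (F.obj i)) :
    (gset Φ F).map a (gset.mk i g) = gset.mk i (a.unop ≫ g) := rfl

/-- functoriality of `gset` -/
def gsetMap {F F' : FormalCoproduct.{u} D} (f : F ⟶ F') : gset Φ F ⟶ gset Φ F' where
  app W := ↾fun x => ⟨f.f x.1, x.2 ≫ Φ.map (f.φ x.1)⟩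
  naturality W W' g := by
    refine ConcreteCategory.hom_ext _ _ fun x => ?_
    obtain ⟨i, h⟩ := x
    change (⟨f.f i, (g.unop ≫ h) ≫ Φ.map (f.φ i)⟩ : Σ i : F'.I, (W'.unop ⟶ Φ.obj (F'.obj i))) =
      ⟨f.f i, g.unop ≫ h ≫ Φ.map (f.φ i)⟩
    rw [Category.assoc]

lemma gsetMap_app_mk {F F' : FormalCoproduct.{u} D} (f : F ⟶ F') {W : Cᵒᵖ} (i : F.I)
    (g : W.unop ⟶ Φ.obj (F.obj i)) :
    (gsetMap Φ f).app W (gset.mk i g) = gset.mk (f.f i) (g ≫ Φ.map (f.φ i)) := rfl

/-- `gset` as a functor -/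
def gsetFunctor : FormalCoproduct.{u} D ⥤ (Cᵒᵖ ⥤ Type u) where
  obj F := gset Φ F
  map f := gsetMap Φ f
  map_id F := by
    refine NatTrans.ext (funext fun W => ConcreteCategory.hom_ext _ _ fun x => ?_)
    obtain ⟨i, g⟩ := x
    change (⟨i, g ≫ Φ.map (𝟙 _)⟩ : Σ i : F.I, (W.unop ⟶ Φ.obj (F.obj i))) = ⟨i, g⟩
    rw [Φ.map_id, Category.comp_id]
  map_comp {F₁ F₂ F₃} f g := by
    refine NatTrans.ext (funext fun W => ConcreteCategory.hom_ext _ _ fun x => ?_)
    obtain ⟨i, h⟩ := x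
    change (⟨g.f (f.f i), h ≫ Φ.map (f.φ i ≫ g.φ (f.f i))⟩ :
      Σ i : F₃.I, (W.unop ⟶ Φ.obj (F₃.obj i))) = ⟨g.f (f.f i), (h ≫ Φ.map (f.φ i)) ≫ Φ.map (g.φ (f.f i))⟩
    rw [Φ.map_comp, Category.assoc]

/-- the free abelian presheaf on the coproduct of representables -/
abbrev zfree : FormalCoproduct.{u} D ⥤ (Cᵒᵖ ⥤ AddCommGrpCat.{u}) :=
  gsetFunctor Φ ⋙ (Functor.whiskeringRight _ _ _).obj AddCommGrpCat.free.{u}

section hom

variable {Φ} (F : FormalCoproduct.{u} D) (M : Cᵒᵖ ⥤ AddCommGrpCat.{u})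

/-- the generator of `ℤ[gset F]` over `Φ (F i)` -/
def gen (i : F.I) : ((zfree Φ).obj F).obj (op (Φ.obj (F.obj i))) :=
  FreeAbelianGroup.of (gset.mk i (𝟙 _))

/-- evaluation on generators -/
def toPi : ((zfree Φ).obj F ⟶ M) →+ (∀ i : F.I, M.obj (op (Φ.obj (F.obj i)))) where
  toFun f i := (f.app (op (Φ.obj (F.obj i)))).hom (gen F i)
  map_zero' := rfl
  map_add' f g := rfl

/-- the morphism determined by a family of sections -/
def ofPi (x : ∀ i : F.I, M.obj (op (Φ.obj (F.obj i)))) : (zfree Φ).obj F ⟶ M where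
  app W := AddCommGrpCat.ofHom (FreeAbelianGroup.lift fun (y : (gset Φ F).obj W) =>
    (M.map y.2.op).hom (x y.1))
  naturality W W' a := by
    apply AddCommGrpCat.hom_ext
    apply FreeAbelianGroup.lift_ext
    rintro ⟨i, g⟩
    change FreeAbelianGroup.lift (fun (y : (gset Φ F).obj W') => (M.map y.2.op).hom (x y.1))
        (FreeAbelianGroup.map ((gset Φ F).map a) (FreeAbelianGroup.of (gset.mk i g))) =
      (M.map a).hom (FreeAbelianGroup.lift (fun (y : (gset Φ F).obj W) => (M.map y.2.op).hom (x y.1))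
        (FreeAbelianGroup.of (gset.mk i g)))
    rw [FreeAbelianGroup.map_of_apply, FreeAbelianGroup.lift_apply_of, FreeAbelianGroup.lift_apply_of,
      gset_map_mk]
    change (M.map (a.unop ≫ g).op).hom (x i) = (M.map a).hom ((M.map g.op).hom (x i))
    rw [op_comp, Quiver.Hom.op_unop, M.map_comp]
    rfl

lemma ofPi_app_of (x : ∀ i : F.I, M.obj (op (Φ.obj (F.obj i)))) {W : Cᵒᵖ} (i : F.I)
    (g : W.unop ⟶ Φ.obj (F.obj i)) :
    ((ofPi F M x).app W).hom (FreeAbelianGroup.of (gset.mk i g)) = (M.map g.op).hom (x i) := by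
  change FreeAbelianGroup.lift _ (FreeAbelianGroup.of (gset.mk i g)) = _
  rw [FreeAbelianGroup.lift_apply_of]

lemma toPi_ofPi (x : ∀ i : F.I, M.obj (op (Φ.obj (F.obj i)))) : toPi F M (ofPi F M x) = x := by
  funext i
  change ((ofPi F M x).app _).hom (FreeAbelianGroup.of (gset.mk i (𝟙 _))) = x i
  rw [ofPi_app_of, op_id, M.map_id]
  rfl

lemma app_of (f : (zfree Φ).obj F ⟶ M) {W : Cᵒᵖ} (i : F.I) (g : W.unop ⟶ Φ.obj (F.obj i)) :
    (f.app W).hom (FreeAbelianGroup.of (gset.mk i g)) = (M.map g.op).hom (toPi F M f i) := by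
  have h := ConcreteCategory.congr_hom (f.naturality g.op) (gen F i)
  refine Eq.trans ?_ h
  change _ = (f.app W).hom (FreeAbelianGroup.map ((gset Φ F).map g.op) (FreeAbelianGroup.of (gset.mk i (𝟙 _))))
  rw [FreeAbelianGroup.map_of_apply, gset_map_mk]
  congr 3
  exact (Category.comp_id _).symm

lemma ofPi_toPi (f : (zfree Φ).obj F ⟶ M) : ofPi F M (toPi F M f) = f := by
  apply NatTrans.ext
  funext W
  apply AddCommGrpCat.hom_ext
  apply FreeAbelianGroup.lift_ext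
  rintro ⟨i, g⟩
  exact (ofPi_app_of F M _ i g).trans (app_of F M f i g).symm

/-- morphisms out of the free presheaf on a formal coproduct are families of sections -/
def homEquivPi : ((zfree Φ).obj F ⟶ M) ≃+ (∀ i : F.I, M.obj (op (Φ.obj (F.obj i)))) :=
  { toPi F M with
    invFun := ofPi F M
    left_inv := ofPi_toPi F M
    right_inv := toPi_ofPi F M }

lemma homEquivPi_apply (f : (zfree Φ).obj F ⟶ M) (i : F.I) :
    homEquivPi F M f i = (f.app (op (Φ.obj (F.obj i)))).hom (gen F i) := rfl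

end hom

section nat

variable {Φ}

lemma homEquivPi_map_comp {F F' : FormalCoproduct.{u} D} (f : F ⟶ F') (M : Cᵒᵖ ⥤ AddCommGrpCat.{u})
    (g : (zfree Φ).obj F' ⟶ M) (i : F.I) :
    homEquivPi F M ((zfree Φ).map f ≫ g) i =
      (M.map (Φ.map (f.φ i)).op).hom (homEquivPi F' M g (f.f i)) := by
  have h := app_of F' M g (W := op (Φ.obj (F.obj i))) (f.f i) (Φ.map (f.φ i))
  refine Eq.trans ?_ h
  change (g.app _).hom (FreeAbelianGroup.map ((gsetMap Φ f).app _) (FreeAbelianGroup.of (gset.mk i (𝟙 _)))) = _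
  rw [FreeAbelianGroup.map_of_apply, gsetMap_app_mk]
  congr 3
  exact Category.id_comp _

lemma homEquivPi_comp (F : FormalCoproduct.{u} D) {M M' : Cᵒᵖ ⥤ AddCommGrpCat.{u}}
    (g : (zfree Φ).obj F ⟶ M) (α : M ⟶ M') (i : F.I) :
    homEquivPi F M' (g ≫ α) i = (α.app _).hom (homEquivPi F M g i) := rfl

instance projective_zfree (F : FormalCoproduct.{u} D) : Projective ((zfree Φ).obj F) where
  factors {M N} f e _ := by
    have hsurj : ∀ W, Function.Surjective (e.app W).hom := fun W =>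
      (AddCommGrpCat.epi_iff_surjective _).1 inferInstance
    choose x hx using fun i => hsurj _ (homEquivPi F N f i)
    refine ⟨(homEquivPi F M).symm x, ?_⟩
    apply (homEquivPi F N).injective
    funext i
    rw [homEquivPi_comp, AddEquiv.apply_symm_apply]
    exact hx i

end nat

section prod

/-- the abstract product in `AddCommGrpCat` is the pi type -/
noncomputable def piIso {J : Type u} (f : J → AddCommGrpCat.{u}) :
    (∏ᶜ f : AddCommGrpCat.{u}) ≅ AddCommGrpCat.of (∀ j, f j) :=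
  (limit.isLimit _).conePointUniqueUpToIso (AddCommGrpCat.HasLimit.productLimitCone f).isLimit

lemma piIso_hom_apply {J : Type u} (f : J → AddCommGrpCat.{u}) (x : (∏ᶜ f : AddCommGrpCat.{u})) (j : J) :
    (piIso f).hom x j = (Pi.π f j).hom x := by
  have h : (piIso f).hom ≫ (AddCommGrpCat.HasLimit.productLimitCone f).cone.π.app ⟨j⟩ = Pi.π f j :=
    IsLimit.conePointUniqueUpToIso_hom_comp _ _ _
  exact ConcreteCategory.congr_hom h x

lemma π_piIso_inv_apply {J : Type u} (f : J → AddCommGrpCat.{u}) (y : ∀ j, f j) (j : J) :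
    (Pi.π f j).hom ((piIso f).inv y) = y j := by
  rw [← piIso_hom_apply]
  have : (piIso f).hom ((piIso f).inv y) = y := by
    change ((piIso f).inv ≫ (piIso f).hom) y = y
    rw [Iso.inv_hom_id]; rfl
  rw [this]

lemma pi_ext {J : Type u} (f : J → AddCommGrpCat.{u}) (x y : (∏ᶜ f : AddCommGrpCat.{u}))
    (h : ∀ j, (Pi.π f j).hom x = (Pi.π f j).hom y) : x = y := by
  have hinj : Function.Injective (piIso f).hom := by
    intro a b hab
    have := congrArg (piIso f).inv hab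
    change ((piIso f).hom ≫ (piIso f).inv) a = ((piIso f).hom ≫ (piIso f).inv) b at this
    simpa using this
  apply hinj
  funext j
  rw [piIso_hom_apply, piIso_hom_apply, h]

variable {Φ}

/-- morphisms out of the free presheaf on a formal coproduct: the evaluation of the presheaf on the
formal coproduct -/
noncomputable def homEquiv (F : FormalCoproduct.{u} D) (M : Cᵒᵖ ⥤ AddCommGrpCat.{u}) :
    ((zfree Φ).obj F ⟶ M) ≃+
      (((FormalCoproduct.evalOp.{u} D AddCommGrpCat.{u}).obj (Φ.op ⋙ M)).obj (op F) : AddCommGrpCat.{u}) :=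
  (homEquivPi F M).trans
    (piIso (fun i : F.I => (Φ.op ⋙ M).obj (op (F.obj i)))).symm.addCommGroupIsoToAddEquiv

lemma π_homEquiv (F : FormalCoproduct.{u} D) (M : Cᵒᵖ ⥤ AddCommGrpCat.{u})
    (g : (zfree Φ).obj F ⟶ M) (i : F.I) :
    (Pi.π (fun i : F.I => (Φ.op ⋙ M).obj (op (F.obj i))) i).hom (homEquiv F M g) =
      homEquivPi F M g i :=
  π_piIso_inv_apply _ _ i

lemma homEquiv_map_comp {F F' : FormalCoproduct.{u} D} (f : F ⟶ F') (M : Cᵒᵖ ⥤ AddCommGrpCat.{u})
    (g : (zfree Φ).obj F' ⟶ M) :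
    homEquiv F M ((zfree Φ).map f ≫ g) =
      (((FormalCoproduct.evalOp.{u} D AddCommGrpCat.{u}).obj (Φ.op ⋙ M)).map f.op).hom
        (homEquiv F' M g) := by
  apply pi_ext
  intro i
  rw [π_homEquiv, homEquivPi_map_comp]
  have h : ((FormalCoproduct.evalOp.{u} D AddCommGrpCat.{u}).obj (Φ.op ⋙ M)).map f.op ≫
      Pi.π (fun i : F.I => (Φ.op ⋙ M).obj (op (F.obj i))) i =
      Pi.π (fun i : F'.I => (Φ.op ⋙ M).obj (op (F'.obj i))) (f.f i) ≫ (Φ.op ⋙ M).map (f.φ i).op := by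
    simp [FormalCoproduct.evalOp]
  refine Eq.symm ?_
  refine (ConcreteCategory.congr_hom h (homEquiv F' M g)).trans ?_
  change ((Φ.op ⋙ M).map (f.φ i).op).hom
    ((Pi.π (fun i : F'.I => (Φ.op ⋙ M).obj (op (F'.obj i))) (f.f i)).hom (homEquiv F' M g)) = _
  rw [π_homEquiv]
  rfl

end prod

end Groth.Agent.Helper3.FCFree
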