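import Mathlib

set_option autoImplicit false
universe u
open CategoryTheory Limits

namespace Groth.Agent.Helper3.HIso

/-- the group-level equivalence -/
noncomputable def quotEquiv (S : ShortComplex AddCommGrpCat.{u}) {G : Type u} [AddCommGroup G]
    (ψ : AddMonoidHom.ker S.g.hom →+ G) (hs : Function.Surjective ψ)
    (hk : ∀ z, ψ z = 0 ↔ z ∈ AddMonoidHom.range S.abToCycles) :
    (AddMonoidHom.ker S.g.hom ⧸ AddMonoidHom.range S.abToCycles) ≃+ G :=
  (QuotientAddGroup.quotientAddEquivOfEq (by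
        ext z
        rw [AddMonoidHom.mem_ker, hk])).trans (QuotientAddGroup.quotientKerEquivOfSurjective ψ hs)

lemma quotEquiv_mk (S : ShortComplex AddCommGrpCat.{u}) {G : Type u} [AddCommGroup G]
    (ψ : AddMonoidHom.ker S.g.hom →+ G) (hs : Function.Surjective ψ)
    (hk : ∀ z, ψ z = 0 ↔ z ∈ AddMonoidHom.range S.abToCycles) (z : AddMonoidHom.ker S.g.hom) :
    quotEquiv S ψ hs hk (QuotientAddGroup.mk z) = ψ z := rfl

/-- homology of a short complex of abelian groups from a surjection on cycles with kernel the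
boundaries -/
noncomputable def iso (S : ShortComplex AddCommGrpCat.{u}) {G : Type u} [AddCommGroup G]
    (ψ : AddMonoidHom.ker S.g.hom →+ G) (hs : Function.Surjective ψ)
    (hk : ∀ z, ψ z = 0 ↔ z ∈ AddMonoidHom.range S.abToCycles) :
    S.homology ≅ AddCommGrpCat.of G :=
  S.abHomologyIso ≪≫ AddEquiv.toAddCommGrpIso
    (X := AddCommGrpCat.of (AddMonoidHom.ker S.g.hom ⧸ AddMonoidHom.range S.abToCycles))
    (Y := AddCommGrpCat.of G) (quotEquiv S ψ hs hk)

lemma iso_hom_π (S : ShortComplex AddCommGrpCat.{u}) {G : Type u} [AddCommGroup G]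
    (ψ : AddMonoidHom.ker S.g.hom →+ G) (hs : Function.Surjective ψ)
    (hk : ∀ z, ψ z = 0 ↔ z ∈ AddMonoidHom.range S.abToCycles) (z : AddMonoidHom.ker S.g.hom) :
    (iso S ψ hs hk).hom (S.homologyπ (S.abCyclesIso.inv z)) = ψ z := by
  have h1 : S.abHomologyIso.hom (S.homologyπ (S.abCyclesIso.inv z)) =
      (QuotientAddGroup.mk z : AddMonoidHom.ker S.g.hom ⧸ AddMonoidHom.range S.abToCycles) := by
    have := S.abLeftHomologyData.homologyπ_comp_homologyIso_hom
    have h2 := congrArg (fun f => f (S.abCyclesIso.inv z)) this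
    simp only [ConcreteCategory.comp_apply] at h2
    erw [h2]
    have h3 : S.abLeftHomologyData.cyclesIso.hom (S.abCyclesIso.inv z) = z := by
      change (S.abCyclesIso.inv ≫ S.abCyclesIso.hom) z = z
      rw [Iso.inv_hom_id]; rfl
    rw [h3]; rfl
  have h4 : (iso S ψ hs hk).hom (S.homologyπ (S.abCyclesIso.inv z)) =
      quotEquiv S ψ hs hk (S.abHomologyIso.hom (S.homologyπ (S.abCyclesIso.inv z))) := rfl
  rw [h4, h1, quotEquiv_mk]

/-- the induced map on cycles -/
def kerMap {S S' : ShortComplex AddCommGrpCat.{u}} (φ : S ⟶ S') :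
    AddMonoidHom.ker S.g.hom →+ AddMonoidHom.ker S'.g.hom where
  toFun z := ⟨φ.τ₂ z.1, by
    rw [AddMonoidHom.mem_ker]
    have h := congrArg (fun f => f z.1) φ.comm₂₃
    simp only [ConcreteCategory.comp_apply] at h
    erw [h]
    have hz : S.g z.1 = 0 := z.2
    rw [hz, map_zero]⟩
  map_zero' := by ext; simp
  map_add' a b := by ext; simp

lemma cyclesMap_abCyclesIso_inv {S S' : ShortComplex AddCommGrpCat.{u}} (φ : S ⟶ S')
    (z : AddMonoidHom.ker S.g.hom) :
    ShortComplex.cyclesMap φ (S.abCyclesIso.inv z) = S'.abCyclesIso.inv (kerMap φ z) := by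
  have hinj : Function.Injective S'.iCycles :=
    (AddCommGrpCat.mono_iff_injective _).1 inferInstance
  apply hinj
  rw [ShortComplex.abCyclesIso_inv_apply_iCycles]
  have h := congrArg (fun f => f (S.abCyclesIso.inv z)) (ShortComplex.cyclesMap_i φ)
  simp only [ConcreteCategory.comp_apply] at h
  erw [h, ShortComplex.abCyclesIso_inv_apply_iCycles]
  rfl

lemma iso_naturality {S S' : ShortComplex AddCommGrpCat.{u}} (φ : S ⟶ S')
    {G G' : Type u} [AddCommGroup G] [AddCommGroup G']
    (ψ : AddMonoidHom.ker S.g.hom →+ G) (hs : Function.Surjective ψ)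
    (hk : ∀ z, ψ z = 0 ↔ z ∈ AddMonoidHom.range S.abToCycles)
    (ψ' : AddMonoidHom.ker S'.g.hom →+ G') (hs' : Function.Surjective ψ')
    (hk' : ∀ z, ψ' z = 0 ↔ z ∈ AddMonoidHom.range S'.abToCycles)
    (γ : G →+ G') (hγ : ∀ z, γ (ψ z) = ψ' (kerMap φ z)) :
    ShortComplex.homologyMap φ ≫ (iso S' ψ' hs' hk').hom =
      (iso S ψ hs hk).hom ≫ AddCommGrpCat.ofHom γ := by
  rw [← cancel_epi S.homologyπ, ← cancel_epi S.abCyclesIso.inv]
  ext z
  simp only [ConcreteCategory.comp_apply]
  erw [iso_hom_π]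
  have h := congrArg (fun f => f (S.abCyclesIso.inv z)) (ShortComplex.homologyπ_naturality φ)
  simp only [ConcreteCategory.comp_apply] at h
  erw [h, cyclesMap_abCyclesIso_inv, iso_hom_π]
  exact (hγ z).symm

section complex

variable {ι : Type*} {c : ComplexShape ι} (K : HomologicalComplex AddCommGrpCat.{u} c)

/-- homology of a complex of abelian groups in degree `j` from a surjection on cycles with kernel
the boundaries -/
noncomputable def cxIso (i j k : ι) (hi : c.prev j = i) (hk : c.next j = k)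
    {G : Type u} [AddCommGroup G]
    (ψ : AddMonoidHom.ker (K.d j k).hom →+ G) (hs : Function.Surjective ψ)
    (hker : ∀ z, ψ z = 0 ↔ ∃ y : K.X i, K.d i j y = z.1) :
    K.homology j ≅ AddCommGrpCat.of G :=
  ShortComplex.homologyMapIso (K.isoSc' i j k hi hk) ≪≫
    iso (K.sc' i j k) ψ hs (by
      intro z
      refine (hker z).trans ?_
      rw [AddMonoidHom.mem_range]
      constructor
      · rintro ⟨y, hy⟩
        exact ⟨y, Subtype.ext hy⟩
      · rintro ⟨y, hy⟩
        exact ⟨y, congrArg Subtype.val hy⟩)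

end complex

section complexnat

variable {ι : Type*} {c : ComplexShape ι} {K K' : HomologicalComplex AddCommGrpCat.{u} c}

/-- the induced map on cycles -/
noncomputable def kerMapCx (f : K ⟶ K') (i j k : ι) :
    AddMonoidHom.ker (K.d j k).hom →+ AddMonoidHom.ker (K'.d j k).hom :=
  kerMap ((HomologicalComplex.shortComplexFunctor' AddCommGrpCat.{u} c i j k).map f)

lemma kerMapCx_coe (f : K ⟶ K') (i j k : ι) (z : AddMonoidHom.ker (K.d j k).hom) :
    (kerMapCx f i j k z).1 = f.f j z.1 := rfl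

lemma cxIso_naturality (f : K ⟶ K') (i j k : ι) (hi : c.prev j = i) (hk : c.next j = k)
    {G G' : Type u} [AddCommGroup G] [AddCommGroup G']
    (ψ : AddMonoidHom.ker (K.d j k).hom →+ G) (hs : Function.Surjective ψ)
    (hker : ∀ z, ψ z = 0 ↔ ∃ y : K.X i, K.d i j y = z.1)
    (ψ' : AddMonoidHom.ker (K'.d j k).hom →+ G') (hs' : Function.Surjective ψ')
    (hker' : ∀ z, ψ' z = 0 ↔ ∃ y : K'.X i, K'.d i j y = z.1)
    (γ : G →+ G') (hγ : ∀ z, γ (ψ z) = ψ' (kerMapCx f i j k z)) :
    HomologicalComplex.homologyMap f j ≫ (cxIso K' i j k hi hk ψ' hs' hker').hom =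
      (cxIso K i j k hi hk ψ hs hker).hom ≫ AddCommGrpCat.ofHom γ := by
  have hnat : (HomologicalComplex.shortComplexFunctor AddCommGrpCat.{u} c j).map f ≫
      (K'.isoSc' i j k hi hk).hom = (K.isoSc' i j k hi hk).hom ≫
        (HomologicalComplex.shortComplexFunctor' AddCommGrpCat.{u} c i j k).map f :=
    (HomologicalComplex.natIsoSc' AddCommGrpCat.{u} c i j k hi hk).hom.naturality f
  have h1 : HomologicalComplex.homologyMap f j ≫
      ShortComplex.homologyMap (K'.isoSc' i j k hi hk).hom =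
      ShortComplex.homologyMap (K.isoSc' i j k hi hk).hom ≫ ShortComplex.homologyMap
        ((HomologicalComplex.shortComplexFunctor' AddCommGrpCat.{u} c i j k).map f) := by
    change ShortComplex.homologyMap _ ≫ _ = _
    rw [← ShortComplex.homologyMap_comp, ← ShortComplex.homologyMap_comp, hnat]
  have h2 := iso_naturality ((HomologicalComplex.shortComplexFunctor' AddCommGrpCat.{u} c i j k).map f)
    (S := K.sc' i j k) (S' := K'.sc' i j k) ψ hs (by
      intro z
      refine (hker z).trans ?_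
      rw [AddMonoidHom.mem_range]
      exact ⟨fun ⟨y, hy⟩ => ⟨y, Subtype.ext hy⟩, fun ⟨y, hy⟩ => ⟨y, congrArg Subtype.val hy⟩⟩)
    ψ' hs' (by
      intro z
      refine (hker' z).trans ?_
      rw [AddMonoidHom.mem_range]
      exact ⟨fun ⟨y, hy⟩ => ⟨y, Subtype.ext hy⟩, fun ⟨y, hy⟩ => ⟨y, congrArg Subtype.val hy⟩⟩)
    γ hγ
  change HomologicalComplex.homologyMap f j ≫
    (ShortComplex.homologyMap (K'.isoSc' i j k hi hk).hom ≫ (iso (K'.sc' i j k) ψ' hs' _).hom) =
    (ShortComplex.homologyMap (K.isoSc' i j k hi hk).hom ≫ (iso (K.sc' i j k) ψ hs _).hom) ≫ _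
  exact (Category.assoc _ _ _).symm.trans ((congrArg (· ≫ _) h1).trans
    ((Category.assoc _ _ _).trans ((congrArg (_ ≫ ·) h2).trans (Category.assoc _ _ _).symm)))

end complexnat

end Groth.Agent.Helper3.HIso
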