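import Mathlib
import Groth.Agent.Lib.Helper3.HIso

set_option autoImplicit false
universe w v u
open CategoryTheory Limits CochainComplex HomComplex Abelian

namespace Groth.Agent.Helper3.ExtProj

variable {𝒜 : Type u} [Category.{v} 𝒜] [Abelian 𝒜] [HasExt.{w} 𝒜] {Z : 𝒜}
  (R : ProjectiveResolution Z) {M : 𝒜}

lemma extMk_zero_eq_zero_iff (f : R.complex.X 0 ⟶ M) (hf : R.complex.d 1 0 ≫ f = 0) :
    R.extMk f 1 rfl hf = 0 ↔ f = 0 := by
  simp only [← R.extEquivCohomologyClass.apply_eq_iff_eq,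
    ProjectiveResolution.extEquivCohomologyClass_extMk,
    ProjectiveResolution.extEquivCohomologyClass_zero,
    CohomologyClass.mk_eq_zero_iff]
  rw [Cocycle.toSingleMk_mem_coboundaries_iff _ _ _ _ _ 1 (by simp)]
  have hz : IsZero (R.cochainComplex.X 1) := CochainComplex.isZero_of_isStrictlyLE _ 0 _ (by lia)
  constructor
  · rintro ⟨g, hg⟩
    rw [hz.eq_of_src g 0, comp_zero] at hg
    rw [← cancel_epi (R.cochainComplexXIso (-(0 : ℕ)) 0 rfl).hom, ← hg, comp_zero]
  · rintro rfl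
    exact ⟨0, by simp⟩

section main

variable (K : CochainComplex AddCommGrpCat.{w} ℕ) (e : ∀ n, (R.complex.X n ⟶ M) ≃+ K.X n)
  (he : ∀ n (f : R.complex.X n ⟶ M), e (n + 1) (R.complex.d (n + 1) n ≫ f) = K.d n (n + 1) (e n f))

include he in
omit [HasExt.{w} 𝒜] in
lemma d_comp_symm (n : ℕ) (z : AddMonoidHom.ker (K.d n (n + 1)).hom) :
    R.complex.d (n + 1) n ≫ (e n).symm z.1 = 0 := by
  apply (e (n + 1)).injective
  rw [he, AddEquiv.apply_symm_apply, map_zero]
  exact z.2

/-- the map from cocycles to `Ext` -/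
noncomputable def ψ (n : ℕ) : AddMonoidHom.ker (K.d n (n + 1)).hom →+ Ext.{w} Z M n where
  toFun z := R.extMk ((e n).symm z.1) (n + 1) rfl (d_comp_symm R K e he n z)
  map_zero' := by
    simp only [ZeroMemClass.coe_zero, map_zero]
    exact R.extMk_zero (n + 1) rfl
  map_add' a b := by
    rw [ProjectiveResolution.add_extMk]
    congr 1
    simp

lemma ψ_apply (n : ℕ) (z : AddMonoidHom.ker (K.d n (n + 1)).hom) :
    ψ R K e he n z = R.extMk ((e n).symm z.1) (n + 1) rfl (d_comp_symm R K e he n z) := rfl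

lemma extMk_congr {n : ℕ} {f f' : R.complex.X n ⟶ M} (h : f = f') (m : ℕ) (hm : n + 1 = m)
    (hf : R.complex.d m n ≫ f = 0) :
    R.extMk f m hm hf = R.extMk f' m hm (h ▸ hf) := by
  subst h; rfl

lemma ψ_surjective (n : ℕ) : Function.Surjective (ψ R K e he n) := by
  intro α
  obtain ⟨f, hf, rfl⟩ := R.extMk_surjective α (n + 1) rfl
  refine ⟨⟨e n f, ?_⟩, ?_⟩
  · rw [AddMonoidHom.mem_ker]
    change K.d n (n + 1) (e n f) = 0
    rw [← he, hf, map_zero]
  · rw [ψ_apply]
    exact extMk_congr R (by simp) _ _ _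

lemma ψ_eq_zero_iff (n : ℕ) (z : AddMonoidHom.ker (K.d n (n + 1)).hom) :
    ψ R K e he n z = 0 ↔ ∃ y : K.X ((ComplexShape.up ℕ).prev n),
      K.d ((ComplexShape.up ℕ).prev n) n y = z.1 := by
  rw [ψ_apply]
  obtain _ | p := n
  · have hp : (ComplexShape.up ℕ).prev 0 = 0 := by simp
    rw [hp, extMk_zero_eq_zero_iff]
    have hd : K.d 0 0 = 0 := K.shape _ _ (by simp)
    constructor
    · intro h
      refine ⟨0, ?_⟩
      rw [map_zero]
      have := congrArg (e 0) h
      simpa using this.symm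
    · rintro ⟨y, hy⟩
      rw [hd] at hy
      have hz : z.1 = 0 := hy.symm
      rw [hz, map_zero]
  · have hp : (ComplexShape.up ℕ).prev (p + 1) = p := by simp
    rw [hp, R.extMk_eq_zero_iff _ _ _ _ p rfl]
    constructor
    · rintro ⟨g, hg⟩
      refine ⟨e p g, ?_⟩
      rw [← he, hg, AddEquiv.apply_symm_apply]
    · rintro ⟨y, hy⟩
      refine ⟨(e p).symm y, ?_⟩
      apply (e (p + 1)).injective
      rw [he, AddEquiv.apply_symm_apply, AddEquiv.apply_symm_apply, hy]

/-- Čech-type computation of `Ext` from a projective resolution -/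
noncomputable def homologyIso (n : ℕ) :
    K.homology n ≅ AddCommGrpCat.of (Ext.{w} Z M n) :=
  HIso.cxIso K ((ComplexShape.up ℕ).prev n) n (n + 1) rfl (by simp) (ψ R K e he n)
    (ψ_surjective R K e he n) (ψ_eq_zero_iff R K e he n)

end main

end Groth.Agent.Helper3.ExtProj
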