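import Mathlib

set_option autoImplicit false
universe u
open CategoryTheory Limits Opposite

namespace Groth.Agent.Helper3.PShInst

variable (C : Type u) [SmallCategory C]

/-- abelian presheaves on a small category form a Grothendieck abelian category -/
lemma isGrothendieckAbelian_psh : IsGrothendieckAbelian.{u} (Cᵒᵖ ⥤ AddCommGrpCat.{u}) :=
  IsGrothendieckAbelian.of_equivalence
    (sheafBotEquivalence (C := C) AddCommGrpCat.{u})

attribute [local instance] isGrothendieckAbelian_psh

example : HasExt.{u} (Cᵒᵖ ⥤ AddCommGrpCat.{u}) := inferInstance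
example : EnoughInjectives (Cᵒᵖ ⥤ AddCommGrpCat.{u}) := inferInstance

/-- presheaves as sheaves for the trivial topology -/
abbrev botF : (Cᵒᵖ ⥤ AddCommGrpCat.{u}) ⥤ Sheaf (⊥ : GrothendieckTopology C) AddCommGrpCat.{u} :=
  (sheafBotEquivalence (C := C) AddCommGrpCat.{u}).inverse

instance : (botF C).Additive where
instance : (botF C).IsEquivalence := inferInstance
instance : PreservesFiniteLimits (botF C) := inferInstance
instance : PreservesFiniteColimits (botF C) := inferInstance
instance : (botF C).PreservesInjectiveObjects :=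
  Functor.preservesInjectiveObjects_of_adjunction_of_preservesMonomorphisms
    (sheafBotEquivalence (C := C) AddCommGrpCat.{u}).toAdjunction

lemma mapExt_bijective (X Y : Cᵒᵖ ⥤ AddCommGrpCat.{u}) (n : ℕ) :
    Function.Bijective ((botF C).mapExtAddHom X Y n) :=
  Functor.mapExt_bijective_of_preservesInjectiveObjects (botF C) X Y n

/-- `Ext` of presheaves computed in sheaves for the trivial topology -/
noncomputable def extBotEquiv (X Y : Cᵒᵖ ⥤ AddCommGrpCat.{u}) (n : ℕ) :
    Abelian.Ext.{u} X Y n ≃+ Abelian.Ext.{u} ((botF C).obj X) ((botF C).obj Y) n :=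
  AddEquiv.ofBijective ((botF C).mapExtAddHom X Y n) (mapExt_bijective C X Y n)

end Groth.Agent.Helper3.PShInst
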