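import Mathlib
import Groth.Agent.Lib.Helper3.FCFree
import Groth.Agent.Lib.Helper3.ExtProj
import Groth.Agent.Lib.Helper3.PShInst

set_option autoImplicit false
universe u
open CategoryTheory Limits Opposite Simplicial

namespace Groth.Agent.Helper3.CechExt

open FCFree

variable {C : Type u} [SmallCategory C] {D : Type u} [SmallCategory D] (Φ : D ⥤ C)
  (K : SimplicialObject (FormalCoproduct.{u} D))

/-- the chain complex of free abelian presheaves attached to a simplicial formal coproduct -/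
noncomputable abbrev freeCx : ChainComplex (Cᵒᵖ ⥤ AddCommGrpCat.{u}) ℕ :=
  AlgebraicTopology.AlternatingFaceMapComplex.obj (K ⋙ zfree Φ)

variable {Z : Cᵒᵖ ⥤ AddCommGrpCat.{u}}
  (π : freeCx Φ K ⟶ (ChainComplex.single₀ _).obj Z) [QuasiIso π]

/-- the projective resolution given by a quasi-isomorphism from the free complex -/
noncomputable def res : ProjectiveResolution Z where
  complex := freeCx Φ K
  projective n := by
    change Projective ((zfree Φ).obj (K _⦋n⦌))
    infer_instance
  π := π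

variable (M : Cᵒᵖ ⥤ AddCommGrpCat.{u})

/-- evaluation of morphisms at an element, as an additive map -/
def evalAt {X Y : AddCommGrpCat.{u}} (x : X) : (X ⟶ Y) →+ Y where
  toFun φ := φ.hom x
  map_zero' := rfl
  map_add' _ _ := rfl

lemma hom_sum_apply {X Y : AddCommGrpCat.{u}} {ι : Type*} (s : Finset ι) (φ : ι → (X ⟶ Y)) (x : X) :
    (∑ i ∈ s, φ i).hom x = ∑ i ∈ s, (φ i).hom x := map_sum (evalAt x) φ s

lemma hom_zsmul_apply {X Y : AddCommGrpCat.{u}} (c : ℤ) (φ : X ⟶ Y) (x : X) :
    (c • φ).hom x = c • φ.hom x := map_zsmul (evalAt x) c φ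

lemma he (n : ℕ) (f : (zfree Φ).obj (K _⦋n⦌) ⟶ M) :
    homEquiv (Φ := Φ) (K _⦋n + 1⦌) M ((freeCx Φ K).d (n + 1) n ≫ f) =
      (((FormalCoproduct.cochainComplexFunctor K).obj (Φ.op ⋙ M)).d n (n + 1)).hom
        (homEquiv (K _⦋n⦌) M f) := by
  have hL : (freeCx Φ K).d (n + 1) n =
      ∑ j : Fin (n + 2), (-1 : ℤ) ^ (j : ℕ) • SimplicialObject.δ (K ⋙ zfree Φ) j :=
    AlgebraicTopology.AlternatingFaceMapComplex.obj_d_eq _ n
  have hR : ((FormalCoproduct.cochainComplexFunctor K).obj (Φ.op ⋙ M)).d n (n + 1) =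
      ∑ j : Fin (n + 2), (-1 : ℤ) ^ (j : ℕ) •
        CosimplicialObject.δ ((FormalCoproduct.cosimplicialObjectFunctor K).obj (Φ.op ⋙ M)) j := by
    rw [FormalCoproduct.cochainComplexFunctor_obj_d, CochainComplex.of_d]
    rfl
  rw [hL, hR, Preadditive.sum_comp, map_sum]
  refine Eq.trans ?_ (hom_sum_apply _ _ _).symm
  refine Finset.sum_congr rfl fun j _ => ?_
  rw [Preadditive.zsmul_comp, map_zsmul]
  refine Eq.trans ?_ (hom_zsmul_apply _ _ _).symm
  congr 1
  exact homEquiv_map_comp (K.δ j) M f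

attribute [local instance] PShInst.isGrothendieckAbelian_psh

/-- Čech cohomology with respect to a simplicial formal coproduct whose free complex resolves `Z`
computes `Ext` out of `Z`. -/
noncomputable def cechExtIso (n : ℕ) :
    ((FormalCoproduct.cochainComplexFunctor K).obj (Φ.op ⋙ M)).homology n ≅
      AddCommGrpCat.of (Abelian.Ext.{u} Z M n) :=
  ExtProj.homologyIso (res Φ K π) _ (fun n => homEquiv (K _⦋n⦌) M) (he Φ K M) n

end Groth.Agent.Helper3.CechExt
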