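import Mathlib

set_option autoImplicit false
universe u
open CategoryTheory Limits Opposite Simplicial AlgebraicTopology

namespace Groth.Agent.Helper3.FreeQI

section general

variable {𝒞 𝒟 : Type*} [Category 𝒞] [Category 𝒟] [Abelian 𝒞] [Abelian 𝒟]
  (F : 𝒞 ⥤ 𝒟) [F.Additive]

/-- `F` applied to the alternating face map complex -/
noncomputable def mapAFMCIso (X : SimplicialObject 𝒞) :
    (F.mapHomologicalComplex _).obj (AlternatingFaceMapComplex.obj X) ≅
      AlternatingFaceMapComplex.obj (((SimplicialObject.whiskering 𝒞 𝒟).obj F).obj X) :=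
  HomologicalComplex.Hom.isoOfComponents (fun n => Iso.refl _) (by
    rintro i j (rfl : j + 1 = i)
    simp only [Iso.refl_hom,
      Functor.mapHomologicalComplex_obj_d, AlternatingFaceMapComplex.obj_d_eq, Functor.map_sum,
      Functor.map_zsmul]
    exact (Category.id_comp _).trans (Category.comp_id _).symm)

lemma quasiIso_ε_of_whiskering (X : SimplicialObject.Augmented 𝒞)
    (h : QuasiIso (AlternatingFaceMapComplex.ε.app
      (((SimplicialObject.Augmented.whiskering 𝒞 𝒟).obj F).obj X))) :
    QuasiIso ((F.mapHomologicalComplex _).map (AlternatingFaceMapComplex.ε.app X)) := by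
  let e₁ := mapAFMCIso F X.left
  let e₂ := (HomologicalComplex.singleMapHomologicalComplex F (ComplexShape.down ℕ) 0).app X.right
  have hsq : (F.mapHomologicalComplex _).map (AlternatingFaceMapComplex.ε.app X) ≫ e₂.hom =
      e₁.hom ≫ AlternatingFaceMapComplex.ε.app
        (((SimplicialObject.Augmented.whiskering 𝒞 𝒟).obj F).obj X) := by
    apply HomologicalComplex.to_single_hom_ext
    simp [e₁, e₂, mapAFMCIso, HomologicalComplex.singleMapHomologicalComplex_hom_app_self]
    erw [Category.id_comp]
    simp [SimplicialObject.Augmented.whiskering, SimplicialObject.Augmented.whiskeringObj]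
    exact Category.comp_id _
  have harrow : Arrow.mk ((F.mapHomologicalComplex _).map (AlternatingFaceMapComplex.ε.app X)) ≅
      Arrow.mk (AlternatingFaceMapComplex.ε.app
        (((SimplicialObject.Augmented.whiskering 𝒞 𝒟).obj F).obj X)) :=
    Arrow.isoMk e₁ e₂ hsq.symm
  exact (_root_.quasiIso_iff_of_arrow_mk_iso _ _ harrow).2 h

end general

section presheaf

variable {C : Type u} [SmallCategory C] (Aset : SimplicialObject.Augmented (Cᵒᵖ ⥤ Type u))

/-- the augmented simplicial abelian presheaf freely generated by an augmented simplicial presheaf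
of sets -/
abbrev freeAug : SimplicialObject.Augmented (Cᵒᵖ ⥤ AddCommGrpCat.{u}) :=
  ((SimplicialObject.Augmented.whiskering _ _).obj
    ((Functor.whiskeringRight Cᵒᵖ _ _).obj AddCommGrpCat.free.{u})).obj Aset

/-- evaluation of an augmented simplicial presheaf of sets -/
abbrev evalAug (W : Cᵒᵖ) : SimplicialObject.Augmented (Type u) :=
  ((SimplicialObject.Augmented.whiskering _ _).obj ((evaluation Cᵒᵖ (Type u)).obj W)).obj Aset

/-- the two ways of evaluating and taking free abelian groups agree -/
noncomputable def evalFreeIso (W : Cᵒᵖ) :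
    ((SimplicialObject.Augmented.whiskering _ _).obj AddCommGrpCat.free.{u}).obj (evalAug Aset W) ≅
      ((SimplicialObject.Augmented.whiskering _ _).obj
        ((evaluation Cᵒᵖ AddCommGrpCat.{u}).obj W)).obj (freeAug Aset) := by
  refine Comma.isoMk ?_ ?_ ?_
  · exact @NatIso.ofComponents SimplexCategoryᵒᵖ _ AddCommGrpCat.{u} _ _ _
      (fun n => Iso.refl (AddCommGrpCat.free.obj ((Aset.left.obj n).obj W))) (by
      intro i j f
      exact (Category.comp_id _).trans (Category.id_comp _).symm)
  · exact Iso.refl (AddCommGrpCat.free.obj (Aset.right.obj W))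
  · apply NatTrans.ext
    funext n
    simp [SimplicialObject.Augmented.whiskering, SimplicialObject.Augmented.whiskeringObj]
    refine (Category.id_comp _).trans (Eq.trans ?_ (Category.comp_id _).symm)
    simp [freeAug, evalAug, SimplicialObject.Augmented.whiskering,
      SimplicialObject.Augmented.whiskeringObj]
    rfl

theorem quasiIso_ε_freeAug
    (h : ∀ W : Cᵒᵖ, Nonempty (SimplicialObject.Augmented.ExtraDegeneracy (evalAug Aset W))) :
    QuasiIso (AlternatingFaceMapComplex.ε.app (freeAug Aset)) := by
  rw [HomologicalComplex.quasiIso_iff_evaluation]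
  intro W
  apply quasiIso_ε_of_whiskering
  have ed := ((h W).some.map AddCommGrpCat.free.{u}).ofIso (evalFreeIso Aset W)
  exact (inferInstance : QuasiIso (SimplicialObject.Augmented.ExtraDegeneracy.homotopyEquiv ed).hom)

end presheaf

end Groth.Agent.Helper3.FreeQI
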