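import Mathlib
import Groth.Agent.Lib.Helper3.FCFree
import Groth.Agent.Lib.Helper3.CechExt
import Groth.Agent.Lib.Helper3.FreeQI
import Groth.Agent.Lib.Helper3.EDType

set_option autoImplicit false
universe u
open CategoryTheory Limits Opposite Simplicial

namespace Groth.Agent.Helper3.CechNerveRes

open FCFree

variable {C : Type u} [SmallCategory C] {X : C} [HasFiniteProducts (Over X)] {ι : Type u}
  (Y : ι → Over X)

/-- the family as a formal coproduct -/
abbrev U : FormalCoproduct.{u} (Over X) := FormalCoproduct.mk ι Y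

/-- the Čech nerve of the family -/
noncomputable abbrev K : SimplicialObject (FormalCoproduct.{u} (Over X)) := (U Y).cech

/-- the sieve generated by the family -/
abbrev S : Sieve X := Sieve.ofArrows (fun i => (Y i).left) (fun i => (Y i).hom)

lemma mem_S {W : C} {α : Type} [Finite α] (i : α → ι) (k : α)
    (g : W ⟶ (∏ᶜ (Y ∘ i)).left) : S Y (g ≫ (∏ᶜ (Y ∘ i)).hom) := by
  have h : g ≫ (∏ᶜ (Y ∘ i)).hom = (g ≫ (Pi.π (Y ∘ i) k).left) ≫ (Y (i k)).hom := by
    rw [Category.assoc]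
    congr 1
    exact (Over.w (Pi.π (Y ∘ i) k)).symm
  rw [h]
  exact Sieve.downward_closed _ (Sieve.ofArrows_mk _ _ (i k)) _

/-- the base map of the `n`-th term of the Čech nerve to the sieve -/
noncomputable def toS (n : SimplexCategoryᵒᵖ) : gset (Over.forget X) ((K Y).obj n) ⟶ (S Y).functor where
  app W := ↾fun x => ⟨x.2 ≫ (∏ᶜ (Y ∘ x.1)).hom, mem_S Y x.1 (0 : Fin (n.unop.len + 1)) x.2⟩
  naturality W W' a := by
    refine ConcreteCategory.hom_ext _ _ fun x => ?_
    obtain ⟨i, g⟩ := x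
    apply Subtype.ext
    exact Category.assoc _ _ _

lemma toS_app_mk (n : SimplexCategoryᵒᵖ) {W : Cᵒᵖ} (i : ((K Y).obj n).I)
    (g : W.unop ⟶ (∏ᶜ (Y ∘ i)).left) :
    ((toS Y n).app W (gset.mk i g)).1 = g ≫ (∏ᶜ (Y ∘ i)).hom := rfl

/-- the augmented simplicial presheaf of sets: Čech nerve over the sieve -/
noncomputable def Aset : SimplicialObject.Augmented (Cᵒᵖ ⥤ Type u) where
  left := K Y ⋙ gsetFunctor (Over.forget X)
  right := (S Y).functor
  hom :=
    { app := fun n => toS Y n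
      naturality := fun n m θ => by
        refine NatTrans.ext (funext fun W => ConcreteCategory.hom_ext _ _ fun x => ?_)
        obtain ⟨i, g⟩ := x
        apply Subtype.ext
        change (g ≫ (((K Y).map θ).φ i).left) ≫ _ = g ≫ _
        rw [Category.assoc]
        congr 1
        exact Over.w (((K Y).map θ).φ i) }

section fixedW

variable (W : Cᵒᵖ)

/-- sections of the coproduct of the family -/
abbrev E : Type u := (gset (Over.forget X) (U Y)).obj W

/-- the structure map to the sieve -/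
def p (x : E Y W) : (S Y).functor.obj W :=
  ⟨x.2 ≫ (Y x.1).hom, Sieve.downward_closed _ (Sieve.ofArrows_mk _ _ x.1) _⟩

lemma p_surjective : Function.Surjective (p Y W) := by
  rintro ⟨g, hg⟩
  obtain ⟨i, a, rfl⟩ := (Sieve.mem_ofArrows_iff _ _ g).1 hg
  exact ⟨⟨i, a⟩, rfl⟩

/-- the components of a section of the `n`-th term of the Čech nerve -/
noncomputable def β (n : ℕ) (x : (gset (Over.forget X) ((K Y) _⦋n⦌)).obj W) (k : Fin (n + 1)) : E Y W :=
  (gsetMap (Over.forget X) ((U Y).powerπ (α := ToType ⦋n⦌) k)).app W x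

lemma β_mk (n : ℕ) (i : Fin (n + 1) → ι) (g : W.unop ⟶ (∏ᶜ (Y ∘ i)).left) (k : Fin (n + 1)) :
    β Y W n (gset.mk (F := (K Y) _⦋n⦌) i g) k = gset.mk (F := U Y) (i k) (g ≫ (Pi.π (Y ∘ i) k).left) := rfl

lemma β_nat {m n : ℕ} (θ : ⦋m⦌ ⟶ ⦋n⦌) (x : (gset (Over.forget X) ((K Y) _⦋n⦌)).obj W)
    (k : Fin (m + 1)) :
    β Y W m ((gsetMap (Over.forget X) ((K Y).map θ.op)).app W x) k = β Y W n x (θ.toOrderHom k) := by
  have h : (K Y).map θ.op ≫ (U Y).powerπ (α := ToType ⦋m⦌) k =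
      (U Y).powerπ (α := ToType ⦋n⦌) (θ.toOrderHom k) :=
    FormalCoproduct.mapPower_π (U Y) _ k
  have h2 := congrArg (fun f => (gsetMap (Over.forget X) f).app W x) h
  refine Eq.trans ?_ h2
  change _ = ((gsetFunctor (Over.forget X)).map ((K Y).map θ.op ≫ (U Y).powerπ (α := ToType ⦋m⦌) k)).app W x
  rw [Functor.map_comp]
  rfl

end fixedW

section fixedW2

variable (W : Cᵒᵖ)

lemma β_mk_injective (n : ℕ) (i i' : Fin (n + 1) → ι) (g : W.unop ⟶ (∏ᶜ (Y ∘ i)).left)
    (g' : W.unop ⟶ (∏ᶜ (Y ∘ i')).left)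
    (h : ∀ k, (gset.mk (F := U Y) (i k) (g ≫ (Pi.π (Y ∘ i) k).left) : E Y W) =
      gset.mk (F := U Y) (i' k) (g' ≫ (Pi.π (Y ∘ i') k).left)) :
    (gset.mk (F := (K Y) _⦋n⦌) i g : (gset (Over.forget X) ((K Y) _⦋n⦌)).obj W) =
      gset.mk (F := (K Y) _⦋n⦌) i' g' := by
  have h1 : i = i' := funext fun k => congrArg Sigma.fst (h k)
  subst h1
  have h2 : ∀ k, g ≫ (Pi.π (Y ∘ i) k).left = g' ≫ (Pi.π (Y ∘ i) k).left := fun k =>
    eq_of_heq (Sigma.mk.inj (h k)).2
  have hφ : g' ≫ (∏ᶜ (Y ∘ i)).hom = g ≫ (∏ᶜ (Y ∘ i)).hom :=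
    (congrArg (g' ≫ ·) (Over.w (Pi.π (Y ∘ i) 0)).symm).trans
      ((Category.assoc _ _ _).symm.trans
        ((congrArg (· ≫ (Y (i 0)).hom) (h2 0).symm).trans
          ((Category.assoc _ _ _).trans (congrArg (g ≫ ·) (Over.w (Pi.π (Y ∘ i) 0))))))
  have h3 : Over.homMk (U := Over.mk (g ≫ (∏ᶜ (Y ∘ i)).hom)) (V := ∏ᶜ (Y ∘ i)) g rfl =
      Over.homMk (U := Over.mk (g ≫ (∏ᶜ (Y ∘ i)).hom)) (V := ∏ᶜ (Y ∘ i)) g' hφ := by
    apply Pi.hom_ext
    intro k
    apply Over.OverMorphism.ext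
    rw [Over.comp_left, Over.comp_left]
    exact h2 k
  have h4 := congrArg CommaMorphism.left h3
  simp only [Over.homMk_left] at h4
  subst h4
  rfl

lemma β_injective (n : ℕ) : Function.Injective (β Y W n) := by
  rintro ⟨i, g⟩ ⟨i', g'⟩ h
  exact β_mk_injective Y W n i i' g g' (fun k => congrFun h k)

lemma β_surj (n : ℕ) (e : Fin (n + 1) → E Y W) (b : (S Y).functor.obj W)
    (h : ∀ k, p Y W (e k) = b) : ∃ x, β Y W n x = e := by
  have hk : ∀ k, (e k).2 ≫ (Y (e k).1).hom = b.1 := fun k => congrArg Subtype.val (h k)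
  let f : ∀ k : Fin (n + 1), Over.mk b.1 ⟶ Y (e k).1 := fun k => Over.homMk (e k).2 (hk k)
  refine ⟨gset.mk (F := (K Y) _⦋n⦌) (fun k => (e k).1)
    (Pi.lift (f := fun k : Fin (n + 1) => Y (e k).1) f).left, ?_⟩
  funext k
  rw [β_mk]
  have h1 : (Pi.lift (f := fun k : Fin (n + 1) => Y (e k).1) f).left ≫
      (Pi.π (Y ∘ fun k => (e k).1) k).left = (e k).2 := by
    rw [← Over.comp_left]
    have : Pi.lift (f := fun k : Fin (n + 1) => Y (e k).1) f ≫ Pi.π (Y ∘ fun k => (e k).1) k = f k :=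
      Pi.lift_π _ _
    rw [this]
    rfl
  exact congrArg (gset.mk (F := U Y) (e k).1) h1

lemma p_β (n : ℕ) (x : (gset (Over.forget X) ((K Y) _⦋n⦌)).obj W) (k : Fin (n + 1)) :
    p Y W (β Y W n x k) = (toS Y (op ⦋n⦌)).app W x := by
  obtain ⟨i, g⟩ := x
  apply Subtype.ext
  change (g ≫ (Pi.π (Y ∘ i) k).left) ≫ (Y (i k)).hom = g ≫ (∏ᶜ (Y ∘ i)).hom
  rw [Category.assoc]
  congr 1
  exact Over.w (Pi.π (Y ∘ i) k)

end fixedW2

theorem nonempty_extraDegeneracy (W : Cᵒᵖ) :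
    Nonempty (SimplicialObject.Augmented.ExtraDegeneracy (FreeQI.evalAug (Aset Y) W)) :=
  EDType.nonempty_extraDegeneracy (FreeQI.evalAug (Aset Y) W) (E := E Y W) (p Y W)
    (fun n => β Y W n) (fun θ x k => β_nat Y W θ x k) (fun n => β_injective Y W n)
    (fun n x k => p_β Y W n x k) (fun n e b h => β_surj Y W n e b h) (p_surjective Y W)

/-- the free abelian presheaf on the sieve generated by the family -/
abbrev ZS : Cᵒᵖ ⥤ AddCommGrpCat.{u} := (S Y).functor ⋙ AddCommGrpCat.free.{u}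

/-- the augmentation of the free complex of the Čech nerve -/
noncomputable def π : CechExt.freeCx (Over.forget X) (K Y) ⟶ (ChainComplex.single₀ _).obj (ZS Y) :=
  AlgebraicTopology.AlternatingFaceMapComplex.ε.app (FreeQI.freeAug (Aset Y))

instance : QuasiIso (π Y) :=
  FreeQI.quasiIso_ε_freeAug (Aset Y) (nonempty_extraDegeneracy Y)

attribute [local instance] PShInst.isGrothendieckAbelian_psh

/-- Čech cohomology of a presheaf with respect to a family is `Ext` out of the free presheaf on the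
sieve generated by the family -/
noncomputable def cechExtIso (M : Cᵒᵖ ⥤ AddCommGrpCat.{u}) (n : ℕ) :
    ((cechComplexFunctor Y).obj ((Over.forget X).op ⋙ M)).homology n ≅
      AddCommGrpCat.of (Abelian.Ext.{u} (ZS Y) M n) :=
  CechExt.cechExtIso (Over.forget X) (K Y) (π Y) M n

end Groth.Agent.Helper3.CechNerveRes
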