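import Mathlib
import Groth.Prelude.Def_CohCx
import Groth.Agent.Lib.Helper3.CechNerveRes

set_option autoImplicit false
universe u
open CategoryTheory Limits Opposite

namespace Groth.Agent.Helper3.CechInj

variable {C : Type u} [SmallCategory C]

attribute [local instance] PShInst.isGrothendieckAbelian_psh

/-- Čech cohomology of an injective presheaf vanishes in positive degrees -/
theorem isZero_cech_of_injective {X : C} [HasFiniteProducts (Over X)] {ι : Type u} (Y : ι → Over X)
    (M : Cᵒᵖ ⥤ AddCommGrpCat.{u}) [Injective M] (p : ℕ) :
    IsZero (((cechComplexFunctor Y).obj ((Over.forget X).op ⋙ M)).homology (p + 1)) := by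
  refine IsZero.of_iso ?_ (CechNerveRes.cechExtIso Y M (p + 1))
  have : Subsingleton (Abelian.Ext.{u} (CechNerveRes.ZS Y) M (p + 1)) :=
    subsingleton_of_forall_eq 0 fun x => Abelian.Ext.eq_zero_of_injective x
  exact AddCommGrpCat.isZero_of_subsingleton _

/-- the underlying presheaf of an injective sheaf is injective -/
instance injective_sheaf_obj (J : GrothendieckTopology C) (I : Sheaf J AddCommGrpCat.{u}) [Injective I] :
    Injective I.obj := by
  have : (sheafToPresheaf J AddCommGrpCat.{u}).PreservesInjectiveObjects :=
    Functor.preservesInjectiveObjects_of_adjunction_of_preservesMonomorphisms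
      (sheafificationAdjunction J AddCommGrpCat.{u})
  exact (sheafToPresheaf J AddCommGrpCat.{u}).injective_obj I

end Groth.Agent.Helper3.CechInj
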