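import Mathlib
import Groth.Prelude.Def_CohCx
import Groth.Agent.Lib.Helper3.FCFree

set_option autoImplicit false
universe u
open CategoryTheory Limits Opposite

namespace Groth.Agent.Helper3.CechLow

variable {C : Type u} [SmallCategory C] [HasPullbacks C] {U : C} {ι : Type u} (Y : ι → Over U)

/-- iterated fibre product over `U` -/
noncomputable abbrev YY {n : ℕ} (a : Fin (n + 1) → ι) : C := (∏ᶜ fun k => Y (a k)).left

/-- the Čech complex of a presheaf with respect to a family over `U` -/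
noncomputable abbrev K (P : Cᵒᵖ ⥤ AddCommGrpCat.{u}) : CochainComplex AddCommGrpCat.{u} ℕ :=
  (cechComplexFunctor Y).obj ((Over.forget U).op ⋙ P)

/-- functoriality of the Čech complex in the presheaf -/
noncomputable abbrev Kmap {P Q : Cᵒᵖ ⥤ AddCommGrpCat.{u}} (φ : P ⟶ Q) : K Y P ⟶ K Y Q :=
  (cechComplexFunctor Y).map (Functor.whiskerLeft (Over.forget U).op φ)

/-- the components of a Čech cochain -/
noncomputable def proj (P : Cᵒᵖ ⥤ AddCommGrpCat.{u}) (n : ℕ) (a : Fin (n + 1) → ι) :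
    (K Y P).X n ⟶ P.obj (op (YY Y a)) :=
  Pi.π (fun a : Fin (n + 1) → ι => P.obj (op (YY Y a))) a

lemma ext (P : Cᵒᵖ ⥤ AddCommGrpCat.{u}) (n : ℕ) (x y : (K Y P).X n)
    (h : ∀ a, (proj Y P n a).hom x = (proj Y P n a).hom y) : x = y :=
  FCFree.pi_ext (fun a : Fin (n + 1) → ι => P.obj (op (YY Y a))) x y h

lemma exists_cochain (P : Cᵒᵖ ⥤ AddCommGrpCat.{u}) (n : ℕ)
    (f : ∀ a : Fin (n + 1) → ι, P.obj (op (YY Y a))) :
    ∃ x : (K Y P).X n, ∀ a, (proj Y P n a).hom x = f a :=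
  ⟨(FCFree.piIso (fun a : Fin (n + 1) → ι => P.obj (op (YY Y a)))).inv f,
    fun a => FCFree.π_piIso_inv_apply _ f a⟩

lemma Kmap_proj {P Q : Cᵒᵖ ⥤ AddCommGrpCat.{u}} (φ : P ⟶ Q) (n : ℕ) (a : Fin (n + 1) → ι) :
    (Kmap Y φ).f n ≫ proj Y Q n a = proj Y P n a ≫ φ.app (op (YY Y a)) := by
  have h : (Kmap Y φ).f n = Limits.Pi.map (fun a : Fin (n + 1) → ι => φ.app (op (YY Y a))) := rfl
  rw [h]
  exact Pi.map_π _ a

lemma Kmap_proj_apply {P Q : Cᵒᵖ ⥤ AddCommGrpCat.{u}} (φ : P ⟶ Q) (n : ℕ) (a : Fin (n + 1) → ι)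
    (x : (K Y P).X n) :
    (proj Y Q n a).hom (((Kmap Y φ).f n).hom x) = (φ.app (op (YY Y a))).hom ((proj Y P n a).hom x) :=
  ConcreteCategory.congr_hom (Kmap_proj Y φ n a) x

/-- the face maps between iterated fibre products -/
noncomputable def face {n : ℕ} (a : Fin (n + 2) → ι) (i : Fin (n + 2)) :
    YY Y a ⟶ YY Y (fun k : Fin (n + 1) => a (i.succAbove k)) :=
  (Pi.lift (fun k : Fin (n + 1) => Pi.π (fun k => Y (a k)) (i.succAbove k))).left

/-- the coface maps of the Čech cosimplicial group -/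
noncomputable abbrev coface (P : Cᵒᵖ ⥤ AddCommGrpCat.{u}) (n : ℕ) (i : Fin (n + 2)) :
    (K Y P).X n ⟶ (K Y P).X (n + 1) :=
  ((FormalCoproduct.cosimplicialObjectFunctor (FormalCoproduct.mk _ Y).cech).obj
    ((Over.forget U).op ⋙ P)).δ i

lemma coface_proj (P : Cᵒᵖ ⥤ AddCommGrpCat.{u}) (n : ℕ) (i : Fin (n + 2)) (a : Fin (n + 2) → ι) :
    coface Y P n i ≫ proj Y P (n + 1) a =
      proj Y P n (fun k => a (i.succAbove k)) ≫ P.map (face Y a i).op := by
  have h : coface Y P n i = Pi.lift (fun (b : Fin (n + 2) → ι) =>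
      Pi.π (fun (c : Fin (n + 1) → ι) => P.obj (op (YY Y c))) (fun k => b (i.succAbove k)) ≫
        P.map (face Y b i).op) := rfl
  rw [h]
  exact Pi.lift_π _ a

lemma d_eq (P : Cᵒᵖ ⥤ AddCommGrpCat.{u}) (n : ℕ) :
    (K Y P).d n (n + 1) = ∑ i : Fin (n + 2), (-1 : ℤ) ^ (i : ℕ) • coface Y P n i := by
  exact CochainComplex.of_d (V := AddCommGrpCat.{u}) _
    (AlgebraicTopology.AlternatingCofaceMapComplex.objD
      ((FormalCoproduct.cosimplicialObjectFunctor (FormalCoproduct.mk _ Y).cech).obj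
        ((Over.forget U).op ⋙ P))) n

lemma d0_proj (P : Cᵒᵖ ⥤ AddCommGrpCat.{u}) (a : Fin 2 → ι) :
    (K Y P).d 0 1 ≫ proj Y P 1 a =
      proj Y P 0 (fun k => a ((0 : Fin 2).succAbove k)) ≫ P.map (face Y a 0).op -
        proj Y P 0 (fun k => a ((1 : Fin 2).succAbove k)) ≫ P.map (face Y a 1).op := by
  rw [d_eq Y P 0, Fin.sum_univ_two, Preadditive.add_comp, Preadditive.zsmul_comp,
    Preadditive.zsmul_comp, coface_proj, coface_proj]
  simp [sub_eq_add_neg]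

lemma d0_apply (P : Cᵒᵖ ⥤ AddCommGrpCat.{u}) (a : Fin 2 → ι) (t : (K Y P).X 0) :
    (proj Y P 1 a).hom (((K Y P).d 0 1).hom t) =
      (P.map (face Y a 0).op).hom ((proj Y P 0 (fun k => a ((0 : Fin 2).succAbove k))).hom t) -
        (P.map (face Y a 1).op).hom ((proj Y P 0 (fun k => a ((1 : Fin 2).succAbove k))).hom t) := by
  have h := ConcreteCategory.congr_hom (d0_proj Y P a) t
  exact h

section glue

/-- a dependent family over `Fin 2` from its two members -/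
def fam2 {β : Fin 2 → Sort*} (x0 : β 0) (x1 : β 1) : ∀ k, β k
  | 0 => x0
  | 1 => x1

variable (J : GrothendieckTopology C) (P : Sheaf J AddCommGrpCat.{u})

/-- the diagonal `Y i ⟶ ∏ (fun _ : Fin 1 => Y i)` -/
noncomputable def dg (i : ι) : (Y i).left ⟶ YY Y (fun _ : Fin 1 => i) :=
  (Pi.lift (fun _ : Fin 1 => 𝟙 (Y i))).left

/-- the projection from the one-fold fibre product -/
noncomputable def pr0 (b : Fin 1 → ι) : YY Y b ⟶ (Y (b 0)).left :=
  (Pi.π (fun k => Y (b k)) 0).left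

lemma pr0_dg (i : ι) : pr0 Y (fun _ : Fin 1 => i) ≫ dg Y i = 𝟙 _ := by
  have h : Pi.π (fun _ : Fin 1 => Y i) 0 ≫ Pi.lift (fun _ : Fin 1 => 𝟙 (Y i)) = 𝟙 _ := by
    apply Pi.hom_ext
    intro k
    obtain rfl : k = 0 := Subsingleton.elim _ _
    simp
  exact congrArg (fun m => m.left) h

/-- the family of sections attached to a 0-cochain -/
noncomputable def sec (Q : Cᵒᵖ ⥤ AddCommGrpCat.{u}) (t : (K Y Q).X 0) (i : ι) : Q.obj (op (Y i).left) :=
  (Q.map (dg Y i).op).hom ((proj Y Q 0 (fun _ => i)).hom t)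

lemma proj_eq_sec (Q : Cᵒᵖ ⥤ AddCommGrpCat.{u}) (t : (K Y Q).X 0) (b : Fin 1 → ι) :
    (proj Y Q 0 b).hom t = (Q.map (pr0 Y b).op).hom (sec Y Q t (b 0)) := by
  obtain ⟨i, rfl⟩ : ∃ i, b = fun _ => i := ⟨b 0, by
    funext k
    obtain rfl : k = 0 := Subsingleton.elim _ _
    rfl⟩
  change _ = (Q.map (pr0 Y (fun _ : Fin 1 => i)).op).hom ((Q.map (dg Y i).op).hom _)
  have h : Q.map (dg Y i).op ≫ Q.map (pr0 Y (fun _ : Fin 1 => i)).op = 𝟙 _ := by
    rw [← Q.map_comp, ← op_comp, pr0_dg, op_id, Q.map_id]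
  exact (ConcreteCategory.congr_hom h _).symm

lemma face_pr0 (a : Fin 2 → ι) (i : Fin 2) :
    face Y a i ≫ pr0 Y (fun k => a (i.succAbove k)) =
      (Pi.π (fun k => Y (a k)) (i.succAbove 0)).left := by
  rw [face, pr0, ← Over.comp_left, Pi.lift_π]

lemma sec_cocycle (Q : Cᵒᵖ ⥤ AddCommGrpCat.{u}) (t : (K Y Q).X 0)
    (ht : ((K Y Q).d 0 1).hom t = 0) (a : Fin 2 → ι) :
    (Q.map (Pi.π (fun k => Y (a k)) 1).left.op).hom (sec Y Q t (a 1)) =
      (Q.map (Pi.π (fun k => Y (a k)) 0).left.op).hom (sec Y Q t (a 0)) := by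
  have h := d0_apply Y Q a t
  rw [ht, map_zero, proj_eq_sec, proj_eq_sec] at h
  have h0 : (Q.map (face Y a 0).op).hom ((Q.map (pr0 Y (fun k => a ((0 : Fin 2).succAbove k))).op).hom
      (sec Y Q t (a ((0 : Fin 2).succAbove 0)))) =
      (Q.map (Pi.π (fun k => Y (a k)) 1).left.op).hom (sec Y Q t (a 1)) := by
    have e := face_pr0 Y a 0
    have e' : Q.map (pr0 Y (fun k => a ((0 : Fin 2).succAbove k))).op ≫ Q.map (face Y a 0).op =
        Q.map (Pi.π (fun k => Y (a k)) ((0 : Fin 2).succAbove 0)).left.op := by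
      rw [← Q.map_comp, ← op_comp, e]
    exact ConcreteCategory.congr_hom e' _
  have h1 : (Q.map (face Y a 1).op).hom ((Q.map (pr0 Y (fun k => a ((1 : Fin 2).succAbove k))).op).hom
      (sec Y Q t (a ((1 : Fin 2).succAbove 0)))) =
      (Q.map (Pi.π (fun k => Y (a k)) 0).left.op).hom (sec Y Q t (a 0)) := by
    have e := face_pr0 Y a 1
    have e' : Q.map (pr0 Y (fun k => a ((1 : Fin 2).succAbove k))).op ≫ Q.map (face Y a 1).op =
        Q.map (Pi.π (fun k => Y (a k)) ((1 : Fin 2).succAbove 0)).left.op := by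
      rw [← Q.map_comp, ← op_comp, e]
    exact ConcreteCategory.congr_hom e' _
  rw [h0, h1] at h
  exact (sub_eq_zero.1 h.symm)

lemma sec_compatible (Q : Cᵒᵖ ⥤ AddCommGrpCat.{u}) (t : (K Y Q).X 0)
    (ht : ((K Y Q).d 0 1).hom t = 0) (i j : ι) (Z : C) (gi : Z ⟶ (Y i).left) (gj : Z ⟶ (Y j).left)
    (w : gi ≫ (Y i).hom = gj ≫ (Y j).hom) :
    (Q.map gi.op).hom (sec Y Q t i) = (Q.map gj.op).hom (sec Y Q t j) := by
  let a : Fin 2 → ι := fam2 (β := fun _ => ι) i j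
  let Z' : Over U := Over.mk (gi ≫ (Y i).hom)
  let m : Z' ⟶ ∏ᶜ fun k => Y (a k) :=
    Pi.lift (fam2 (β := fun k => Z' ⟶ Y (a k)) (Over.homMk gi rfl) (Over.homMk gj w.symm))
  have hm0 : m.left ≫ (Pi.π (fun k => Y (a k)) 0).left = gi := by
    rw [← Over.comp_left, Pi.lift_π]
    rfl
  have hm1 : m.left ≫ (Pi.π (fun k => Y (a k)) 1).left = gj := by
    rw [← Over.comp_left, Pi.lift_π]
    rfl
  have h := congrArg (Q.map m.left.op).hom (sec_cocycle Y Q t ht a)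
  have e0 : Q.map (Pi.π (fun k => Y (a k)) 0).left.op ≫ Q.map m.left.op = Q.map gi.op := by
    rw [← Q.map_comp, ← op_comp]
    exact congrArg (fun g => Q.map (Quiver.Hom.op g)) hm0
  have e1 : Q.map (Pi.π (fun k => Y (a k)) 1).left.op ≫ Q.map m.left.op = Q.map gj.op := by
    rw [← Q.map_comp, ← op_comp]
    exact congrArg (fun g => Q.map (Quiver.Hom.op g)) hm1
  exact ((ConcreteCategory.congr_hom e0 _).symm.trans h.symm).trans (ConcreteCategory.congr_hom e1 _)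

/-- a 0-cocycle of a sheaf for a covering family is the restriction of a unique section -/
theorem glue (hY : Sieve.ofArrows (fun i => (Y i).left) (fun i => (Y i).hom) ∈ J U)
    (t : (K Y P.obj).X 0) (ht : ((K Y P.obj).d 0 1).hom t = 0) :
    ∃ τ : P.obj.obj (op U), ∀ b : Fin 1 → ι,
      (proj Y P.obj 0 b).hom t = (P.obj.map (∏ᶜ fun k => Y (b k)).hom.op).hom τ := by
  have hsh : Presieve.IsSheaf J (P.obj ⋙ forget AddCommGrpCat.{u}) :=
    (isSheaf_iff_isSheaf_of_type J _).1 ((Presheaf.isSheaf_iff_isSheaf_forget J P.obj (forget AddCommGrpCat.{u})).1 P.property)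
  have h1 := hsh _ hY
  rw [Sieve.ofArrows, ← Presieve.isSheafFor_iff_generate, Presieve.isSheafFor_arrows_iff] at h1
  obtain ⟨τ, hτ, -⟩ := h1 (sec Y P.obj t) (fun i j Z gi gj w => sec_compatible Y P.obj t ht i j Z gi gj w)
  refine ⟨τ, fun b => ?_⟩
  rw [proj_eq_sec]
  have e : P.obj.map (Y (b 0)).hom.op ≫ P.obj.map (pr0 Y b).op =
      P.obj.map (∏ᶜ fun k => Y (b k)).hom.op := by
    rw [← P.obj.map_comp, ← op_comp]
    congr 2
    exact Over.w (Pi.π (fun k => Y (b k)) 0)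
  rw [← ConcreteCategory.congr_hom e τ]
  exact congrArg (P.obj.map (pr0 Y b).op).hom (hτ (b 0)).symm

lemma face_hom {n : ℕ} (a : Fin (n + 2) → ι) (i : Fin (n + 2)) :
    face Y a i ≫ (∏ᶜ fun k : Fin (n + 1) => Y (a (i.succAbove k))).hom = (∏ᶜ fun k => Y (a k)).hom :=
  Over.w (Pi.lift (fun k : Fin (n + 1) => Pi.π (fun k => Y (a k)) (i.succAbove k)))

/-- the restriction of a section over `U` to the family is a `0`-cocycle -/
lemma d0_aug (Q : Cᵒᵖ ⥤ AddCommGrpCat.{u}) (τ : Q.obj (op U)) (t : (K Y Q).X 0)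
    (ht : ∀ b : Fin 1 → ι, (proj Y Q 0 b).hom t = (Q.map (∏ᶜ fun k => Y (b k)).hom.op).hom τ) :
    ((K Y Q).d 0 1).hom t = 0 := by
  apply ext Y Q 1
  intro a
  rw [d0_apply, ht, ht, map_zero]
  have e : ∀ i : Fin 2, Q.map (∏ᶜ fun k : Fin 1 => Y (a (i.succAbove k))).hom.op ≫ Q.map (face Y a i).op =
      Q.map (∏ᶜ fun k => Y (a k)).hom.op := by
    intro i
    rw [← Q.map_comp, ← op_comp, face_hom]
  have e0 := ConcreteCategory.congr_hom (e 0) τ
  have e1 := ConcreteCategory.congr_hom (e 1) τ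
  exact sub_eq_zero.2 (e0.trans e1.symm)

lemma dg_hom (i : ι) : dg Y i ≫ (∏ᶜ fun _ : Fin 1 => Y i).hom = (Y i).hom :=
  Over.w (Pi.lift (fun _ : Fin 1 => 𝟙 (Y i)))

/-- sections of a sheaf over `U` are determined by their restrictions to a covering family -/
lemma aug_injective (hY : Sieve.ofArrows (fun i => (Y i).left) (fun i => (Y i).hom) ∈ J U)
    (τ₁ τ₂ : P.obj.obj (op U))
    (h : ∀ b : Fin 1 → ι, (P.obj.map (∏ᶜ fun k => Y (b k)).hom.op).hom τ₁ =
      (P.obj.map (∏ᶜ fun k => Y (b k)).hom.op).hom τ₂) : τ₁ = τ₂ := by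
  have hsh : Presieve.IsSheaf J (P.obj ⋙ forget AddCommGrpCat.{u}) :=
    (isSheaf_iff_isSheaf_of_type J _).1 ((Presheaf.isSheaf_iff_isSheaf_forget J P.obj (forget AddCommGrpCat.{u})).1 P.property)
  have e : ∀ (i : ι) (V : C) (k : V ⟶ (Y i).left) (τ : P.obj.obj (op U)),
      (P.obj.map (k ≫ (Y i).hom).op).hom τ =
      (P.obj.map (k ≫ dg Y i).op).hom ((P.obj.map (∏ᶜ fun _ : Fin 1 => Y i).hom.op).hom τ) := by
    intro i V k τ
    have e' : P.obj.map (∏ᶜ fun _ : Fin 1 => Y i).hom.op ≫ P.obj.map (k ≫ dg Y i).op =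
        P.obj.map (k ≫ (Y i).hom).op := by
      rw [← P.obj.map_comp, ← op_comp, Category.assoc, dg_hom]
    exact (ConcreteCategory.congr_hom e' τ).symm
  refine (hsh _ hY).isSeparatedFor.ext ?_
  rintro V f ⟨W, k, g, hg, rfl⟩
  obtain ⟨i⟩ := hg
  exact (e i _ k τ₁).trans ((congrArg _ (h (fun _ => i))).trans (e i _ k τ₂).symm)

end glue

/-- vanishing of the first Čech cohomology: `1`-cocycles are coboundaries -/
lemma exists_of_isZero_H1 (Q : Cᵒᵖ ⥤ AddCommGrpCat.{u}) (hQ : IsZero (CohCx.cechH Q Y 1))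
    (e : (K Y Q).X 1) (he : ((K Y Q).d 1 2).hom e = 0) :
    ∃ b : (K Y Q).X 0, ((K Y Q).d 0 1).hom b = e := by
  have h1 : (K Y Q).ExactAt 1 := (HomologicalComplex.exactAt_iff_isZero_homology _ _).2 hQ
  rw [(K Y Q).exactAt_iff' 0 1 2 (by simp) (by simp), ShortComplex.ab_exact_iff] at h1
  exact h1 e he

end Groth.Agent.Helper3.CechLow
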