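import Mathlib
import Groth.Prelude.Def_CohCx
import Groth.Agent.Lib.Helper3.CechLow

set_option autoImplicit false
universe u
open CategoryTheory Limits Opposite

namespace Groth.Agent.Helper3.CechLES

open CechLow

variable {C : Type u} [SmallCategory C] [HasPullbacks C] {U : C} {ι : Type u} (Y : ι → Over U)
  {A I Q : Cᵒᵖ ⥤ AddCommGrpCat.{u}} (f : A ⟶ I) (g : I ⟶ Q)

lemma Kmap_comp_zero
    (hzero : ∀ (V : C) (x : A.obj (op V)), (g.app (op V)).hom ((f.app (op V)).hom x) = 0) :
    Kmap Y f ≫ Kmap Y g = 0 := by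
  ext n x
  apply CechLow.ext Y Q n
  intro a
  change (proj Y Q n a).hom (((Kmap Y g).f n).hom (((Kmap Y f).f n).hom x)) = (proj Y Q n a).hom 0
  rw [Kmap_proj_apply, Kmap_proj_apply, hzero, map_zero]

/-- the short complex of Čech complexes attached to a complex of presheaves -/
noncomputable def SC
    (hzero : ∀ (V : C) (x : A.obj (op V)), (g.app (op V)).hom ((f.app (op V)).hom x) = 0) :
    ShortComplex (CochainComplex AddCommGrpCat.{u} ℕ) :=
  ShortComplex.mk (Kmap Y f) (Kmap Y g) (Kmap_comp_zero Y f g hzero)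

lemma SC_shortExact
    (hzero : ∀ (V : C) (x : A.obj (op V)), (g.app (op V)).hom ((f.app (op V)).hom x) = 0)
    (hinj : ∀ (n : ℕ) (a : Fin (n + 1) → ι), Function.Injective (f.app (op (YY Y a))).hom)
    (hex : ∀ (n : ℕ) (a : Fin (n + 1) → ι) (y : I.obj (op (YY Y a))),
      (g.app (op (YY Y a))).hom y = 0 → ∃ x, (f.app (op (YY Y a))).hom x = y)
    (hsurj : ∀ (n : ℕ) (a : Fin (n + 1) → ι), Function.Surjective (g.app (op (YY Y a))).hom) :
    (SC Y f g hzero).ShortExact := by
  apply HomologicalComplex.shortExact_of_degreewise_shortExact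
  intro n
  have hm : Mono ((Kmap Y f).f n) := by
    rw [AddCommGrpCat.mono_iff_injective]
    intro x y hxy
    apply CechLow.ext Y A n
    intro a
    apply hinj n a
    have := congrArg (proj Y I n a).hom hxy
    rw [Kmap_proj_apply, Kmap_proj_apply] at this
    exact this
  have he : Epi ((Kmap Y g).f n) := by
    rw [AddCommGrpCat.epi_iff_surjective]
    intro z
    choose y hy using fun a => hsurj n a ((proj Y Q n a).hom z)
    obtain ⟨w, hw⟩ := exists_cochain Y I n y
    refine ⟨w, ?_⟩
    apply CechLow.ext Y Q n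
    intro a
    have := Kmap_proj_apply Y g n a w
    exact this.trans ((congrArg _ (hw a)).trans (hy a))
  refine ShortComplex.ShortExact.mk' ?_ hm he
  rw [ShortComplex.ab_exact_iff]
  intro y hy
  have hy' : ∀ a, (g.app (op (YY Y a))).hom ((proj Y I n a).hom y) = 0 := by
    intro a
    have h1 := Kmap_proj_apply Y g n a y
    have h2 : ((Kmap Y g).f n).hom y = 0 := hy
    rw [h2, map_zero] at h1
    exact h1.symm
  choose x hx using fun a => hex n a _ (hy' a)
  obtain ⟨w, hw⟩ := exists_cochain Y A n x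
  refine ⟨w, ?_⟩
  apply CechLow.ext Y I n
  intro a
  have := Kmap_proj_apply Y f n a w
  exact this.trans ((congrArg _ (hw a)).trans (hx a))

/-- vanishing of Čech cohomology of the quotient from the long exact sequence -/
theorem isZero_cechH_quotient
    (hzero : ∀ (V : C) (x : A.obj (op V)), (g.app (op V)).hom ((f.app (op V)).hom x) = 0)
    (hinj : ∀ (n : ℕ) (a : Fin (n + 1) → ι), Function.Injective (f.app (op (YY Y a))).hom)
    (hex : ∀ (n : ℕ) (a : Fin (n + 1) → ι) (y : I.obj (op (YY Y a))),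
      (g.app (op (YY Y a))).hom y = 0 → ∃ x, (f.app (op (YY Y a))).hom x = y)
    (hsurj : ∀ (n : ℕ) (a : Fin (n + 1) → ι), Function.Surjective (g.app (op (YY Y a))).hom)
    (p : ℕ) (hI : IsZero (CohCx.cechH I Y p)) (hA : IsZero (CohCx.cechH A Y (p + 1))) :
    IsZero (CohCx.cechH Q Y p) := by
  have hS := SC_shortExact Y f g hzero hinj hex hsurj
  have h3 := hS.homology_exact₃ p (p + 1) (by simp)
  exact h3.isZero_of_both_zeros (hI.eq_of_src _ _) (hA.eq_of_tgt _ _)

end Groth.Agent.Helper3.CechLES
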