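import Mathlib
import Groth.Prelude.Def_FreeSh
import Groth.Prelude.Def_CohSite

set_option autoImplicit false
universe u
open CategoryTheory Limits Opposite

namespace Groth.Agent.Helper3.FreeMono

variable {C : Type u} [SmallCategory C] (J : GrothendieckTopology C)

instance mono_whisker {U V : C} (f : V ⟶ U) [Mono f] :
    Mono (Functor.whiskerRight (yoneda.map f) AddCommGrpCat.free.{u}) := by
  have : ∀ W : Cᵒᵖ, Mono ((Functor.whiskerRight (yoneda.map f) AddCommGrpCat.free.{u}).app W) := by
    intro W
    have : Mono ((yoneda.map f).app W) := by
      rw [mono_iff_injective]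
      intro a b hab
      exact (cancel_mono f).1 hab
    exact AddCommGrpCat.free.map_mono _
  exact NatTrans.mono_of_mono_app _

/-- the free sheaf functor sends monomorphisms to monomorphisms -/
instance mono_freeSheafMap {U V : C} (f : V ⟶ U) [Mono f] : Mono (CohCx.freeSheafMap J f) :=
  (presheafToSheaf J AddCommGrpCat.{u}).map_mono _

/-- sections of an injective sheaf extend along monomorphisms of the site -/
lemma surjective_of_injective (F : Sheaf J AddCommGrpCat.{u}) [Injective F] {U V : C} (f : V ⟶ U)
    [Mono f] : Function.Surjective (F.obj.map f.op) := by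
  intro s
  refine ⟨CohFree.evalGen J U F
    (Injective.factorThru (CohFree.ofSect J V F s) (CohCx.freeSheafMap J f)), ?_⟩
  have h := CohFree.evalGen_freeSheafMap_comp J f F
    (Injective.factorThru (CohFree.ofSect J V F s) (CohCx.freeSheafMap J f))
  rw [Injective.comp_factorThru, CohFree.evalGen_ofSect] at h
  exact h.symm

end Groth.Agent.Helper3.FreeMono
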