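import Mathlib

set_option autoImplicit false
universe u
open CategoryTheory Limits Opposite

namespace Groth.Agent.Helper3.ShSec

variable {C : Type u} [SmallCategory C] {J : GrothendieckTopology C}
  {S : ShortComplex (Sheaf J AddCommGrpCat.{u})}

/-- sections over `V` -/
noncomputable abbrev Γ (J : GrothendieckTopology C) (V : C) : Sheaf J AddCommGrpCat.{u} ⥤ AddCommGrpCat.{u} :=
  sheafToPresheaf J AddCommGrpCat.{u} ⋙ (evaluation Cᵒᵖ AddCommGrpCat.{u}).obj (op V)

instance (V : C) : (Γ J V).Additive where

lemma injective_f (hS : S.ShortExact) (V : C) : Function.Injective (S.f.hom.app (op V)) := by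
  have := hS.mono_f
  have h : Mono ((Γ J V).map S.f) := inferInstance
  exact (AddCommGrpCat.mono_iff_injective _).1 h

lemma zero_apply (V : C) (y : S.X₁.obj.obj (op V)) :
    (S.g.hom.app (op V)).hom ((S.f.hom.app (op V)).hom y) = 0 := by
  have h : (Γ J V).map S.f ≫ (Γ J V).map S.g = 0 := by
    rw [← Functor.map_comp, S.zero, Functor.map_zero]
  exact ConcreteCategory.congr_hom h y

lemma exact_sections (hS : S.ShortExact) (V : C) (x : S.X₂.obj.obj (op V))
    (hx : (S.g.hom.app (op V)).hom x = 0) : ∃ y : S.X₁.obj.obj (op V), (S.f.hom.app (op V)).hom y = x := by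
  have := hS.mono_f
  have h : (S.map (Γ J V)).Exact :=
    hS.exact.map_of_mono_of_preservesKernel (Γ J V) inferInstance inferInstance
  rw [ShortComplex.ab_exact_iff] at h
  exact h x hx

lemma imageSieve_mem (hS : S.ShortExact) {U : C} (s : S.X₃.obj.obj (op U)) :
    Presheaf.imageSieve S.g.hom s ∈ J U := by
  have := hS.epi_g
  have : Sheaf.IsLocallySurjective S.g := (Sheaf.isLocallySurjective_iff_epi' (φ := S.g)).2 inferInstance
  exact Presheaf.imageSieve_mem J S.g.hom s

end Groth.Agent.Helper3.ShSec
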