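import Mathlib
import Groth.Prelude.Def_CohCx
import Groth.Agent.Lib.Helper3.CechLow
import Groth.Agent.Lib.Helper3.ShSec

set_option autoImplicit false
universe u
open CategoryTheory Limits Opposite

namespace Groth.Agent.Helper3.CechSurj

open CechLow

variable {C : Type u} [SmallCategory C] [HasPullbacks C] {J : GrothendieckTopology C}
  {S : ShortComplex (Sheaf J AddCommGrpCat.{u})} {U : C} {ι : Type u} (Y : ι → Over U)

/-- a section of the quotient which lifts on a covering family with vanishing first Čech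
cohomology of the kernel lifts globally -/
theorem exists_lift (hS : S.ShortExact)
    (hY : Sieve.ofArrows (fun i => (Y i).left) (fun i => (Y i).hom) ∈ J U)
    (hH : IsZero (CohCx.cechH S.X₁.obj Y 1)) (s : S.X₃.obj.obj (op U))
    (hs : ∀ i, ∃ t : S.X₂.obj.obj (op (Y i).left),
      (S.g.hom.app (op (Y i).left)).hom t = (S.X₃.obj.map (Y i).hom.op).hom s) :
    ∃ τ : S.X₂.obj.obj (op U), (S.g.hom.app (op U)).hom τ = s := by
  choose ti hti using hs
  -- the 0-cochain of local lifts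
  obtain ⟨t, ht⟩ := exists_cochain Y S.X₂.obj 0
    (fun b => (S.X₂.obj.map (pr0 Y b).op).hom (ti (b 0)))
  -- its image is the restriction of `s`
  have hσ : ∀ b : Fin 1 → ι, (proj Y S.X₃.obj 0 b).hom (((Kmap Y S.g.hom).f 0).hom t) =
      (S.X₃.obj.map (∏ᶜ fun k => Y (b k)).hom.op).hom s := by
    intro b
    rw [Kmap_proj_apply, ht]
    have n1 := ConcreteCategory.congr_hom (S.g.hom.naturality (pr0 Y b).op) (ti (b 0))
    refine n1.trans ?_
    change (S.X₃.obj.map (pr0 Y b).op).hom ((S.g.hom.app (op (Y (b 0)).left)).hom (ti (b 0))) = _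
    rw [hti]
    have e : S.X₃.obj.map (Y (b 0)).hom.op ≫ S.X₃.obj.map (pr0 Y b).op =
        S.X₃.obj.map (∏ᶜ fun k => Y (b k)).hom.op := by
      rw [← S.X₃.obj.map_comp, ← op_comp]
      congr 2
      exact Over.w (Pi.π (fun k => Y (b k)) 0)
    exact ConcreteCategory.congr_hom e s
  have hdσ : ((K Y S.X₃.obj).d 0 1).hom (((Kmap Y S.g.hom).f 0).hom t) = 0 :=
    d0_aug Y S.X₃.obj s _ hσ
  -- so `d t` comes from a 1-cochain of the kernel
  have hgdt : ((Kmap Y S.g.hom).f 1).hom (((K Y S.X₂.obj).d 0 1).hom t) = 0 := by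
    have := ConcreteCategory.congr_hom ((Kmap Y S.g.hom).comm 0 1) t
    exact this.symm.trans hdσ
  have he : ∀ a : Fin 2 → ι, ∃ y : S.X₁.obj.obj (op (YY Y a)),
      (S.f.hom.app (op (YY Y a))).hom y = (proj Y S.X₂.obj 1 a).hom (((K Y S.X₂.obj).d 0 1).hom t) := by
    intro a
    apply ShSec.exact_sections hS
    rw [← Kmap_proj_apply, hgdt, map_zero]
  choose ea hea using he
  obtain ⟨e, he⟩ := exists_cochain Y S.X₁.obj 1 ea
  have hfe : ((Kmap Y S.f.hom).f 1).hom e = ((K Y S.X₂.obj).d 0 1).hom t := by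
    apply ext Y S.X₂.obj 1
    intro a
    rw [Kmap_proj_apply, he, hea]
  -- `e` is a cocycle
  have hinj : ∀ (n : ℕ) (x : (K Y S.X₁.obj).X n), ((Kmap Y S.f.hom).f n).hom x = 0 → x = 0 := by
    intro n x hx
    apply ext Y S.X₁.obj n
    intro a
    apply ShSec.injective_f hS
    rw [map_zero, map_zero, ← Kmap_proj_apply, hx, map_zero]
  have hde : ((K Y S.X₁.obj).d 1 2).hom e = 0 := by
    apply hinj
    have := ConcreteCategory.congr_hom ((Kmap Y S.f.hom).comm 1 2) e
    refine this.symm.trans ?_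
    change ((K Y S.X₂.obj).d 1 2).hom (((Kmap Y S.f.hom).f 1).hom e) = 0
    rw [hfe]
    exact ConcreteCategory.congr_hom ((K Y S.X₂.obj).d_comp_d 0 1 2) t
  obtain ⟨b, hb⟩ := exists_of_isZero_H1 Y S.X₁.obj hH e hde
  -- corrected cochain
  have hd' : ((K Y S.X₂.obj).d 0 1).hom (t - ((Kmap Y S.f.hom).f 0).hom b) = 0 := by
    rw [map_sub]
    have := ConcreteCategory.congr_hom ((Kmap Y S.f.hom).comm 0 1) b
    have h2 : ((K Y S.X₂.obj).d 0 1).hom (((Kmap Y S.f.hom).f 0).hom b) =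
        ((Kmap Y S.f.hom).f 1).hom (((K Y S.X₁.obj).d 0 1).hom b) := this
    rw [h2, hb, hfe, sub_self]
  obtain ⟨τ, hτ⟩ := glue Y J S.X₂ hY _ hd'
  refine ⟨τ, ?_⟩
  apply aug_injective Y J S.X₃ hY
  intro c
  rw [← hσ c]
  have n1 := ConcreteCategory.congr_hom (S.g.hom.naturality (∏ᶜ fun k => Y (c k)).hom.op) τ
  refine n1.symm.trans ?_
  change (S.g.hom.app (op (YY Y c))).hom ((S.X₂.obj.map (∏ᶜ fun k => Y (c k)).hom.op).hom τ) = _
  rw [← hτ c, map_sub, map_sub, Kmap_proj_apply, Kmap_proj_apply, ShSec.zero_apply, sub_zero]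

end Groth.Agent.Helper3.CechSurj
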