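import Mathlib
import Groth.Prelude.Def_CohTop
import Groth.Prelude.Def_CohCx

set_option autoImplicit false
universe u
open CategoryTheory Limits Opposite TopologicalSpace

namespace Groth.Agent.Helper3.TopCech

variable {X : TopCat.{u}} {ι : Type u} (U : ι → Opens X)

/-- the family of opens as objects over their union -/
noncomputable def Y (i : ι) : Over (iSup U) := Over.mk (homOfLE (le_iSup U i))

lemma prod_left_eq {α : Type} [Finite α] [Nonempty α] (a : α → ι) :
    (∏ᶜ fun k => Y U (a k)).left = ∏ᶜ fun k => U (a k) := by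
  apply le_antisymm
  · exact leOfHom (Pi.lift fun k => (Pi.π (fun k => Y U (a k)) k).left)
  · have k₀ : α := Classical.arbitrary α
    have hW : (∏ᶜ fun k => U (a k)) ≤ iSup U :=
      (leOfHom (Pi.π (fun k => U (a k)) k₀)).trans (le_iSup U (a k₀))
    let W : Over (iSup U) := Over.mk (homOfLE hW)
    have f : W ⟶ ∏ᶜ fun k => Y U (a k) :=
      Pi.lift fun k => Over.homMk (Pi.π (fun k => U (a k)) k) (Subsingleton.elim _ _)
    exact leOfHom f.left

lemma prod_eq_iInf {α : Type} [Finite α] (a : α → ι) :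
    (∏ᶜ fun k => U (a k)) = iInf fun k => U (a k) := by
  apply le_antisymm
  · exact le_iInf fun k => leOfHom (Pi.π (fun k => U (a k)) k)
  · exact leOfHom (Pi.lift fun k => homOfLE (iInf_le (fun k => U (a k)) k))

variable (P : (Opens X)ᵒᵖ ⥤ AddCommGrpCat.{u})

/-- the two cosimplicial groups of Čech cochains -/
noncomputable abbrev A : CosimplicialObject AddCommGrpCat.{u} :=
  (FormalCoproduct.cosimplicialObjectFunctor (FormalCoproduct.mk _ U).cech).obj P

noncomputable abbrev B : CosimplicialObject AddCommGrpCat.{u} :=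
  (FormalCoproduct.cosimplicialObjectFunctor (FormalCoproduct.mk _ (Y U)).cech).obj
    ((Over.forget (iSup U)).op ⋙ P)

noncomputable def termIso (n : SimplexCategory) : (A U P).obj n ≅ (B U P).obj n :=
  Pi.mapIso fun (a : ToType n → ι) => P.mapIso (eqToIso (congrArg op (prod_left_eq U a).symm))

lemma termIso_naturality {n m : SimplexCategory} (θ : n ⟶ m) :
    (A U P).map θ ≫ (termIso U P m).hom = (termIso U P n).hom ≫ (B U P).map θ := by
  apply Pi.hom_ext
  intro a
  have hA : (A U P).map θ = Pi.lift (fun (b : ToType m → ι) =>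
      Pi.π (fun (c : ToType n → ι) => P.obj (op (∏ᶜ fun k => U (c k)))) (b ∘ θ.toOrderHom) ≫
        P.map (Pi.lift (fun k => Pi.π (fun k => U (b k)) (θ.toOrderHom k))).op) := rfl
  have hB : (B U P).map θ = Pi.lift (fun (b : ToType m → ι) =>
      Pi.π (fun (c : ToType n → ι) => P.obj (op (∏ᶜ fun k => Y U (c k)).left)) (b ∘ θ.toOrderHom) ≫
        P.map ((Pi.lift (fun k => Pi.π (fun k => Y U (b k)) (θ.toOrderHom k))).left).op) := rfl
  rw [hA, hB]
  have h1 : (termIso U P m).hom ≫ Pi.π _ a =
      Pi.π (fun (c : ToType m → ι) => P.obj (op (∏ᶜ fun k => U (c k)))) a ≫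
        (P.mapIso (eqToIso (congrArg op (prod_left_eq U a).symm))).hom :=
    Pi.mapIso_hom_π _ a
  have h2 : ∀ c : ToType n → ι, (termIso U P n).hom ≫
      Pi.π (fun (c : ToType n → ι) => P.obj (op (∏ᶜ fun k => Y U (c k)).left)) c =
      Pi.π (fun (c : ToType n → ι) => P.obj (op (∏ᶜ fun k => U (c k)))) c ≫
        (P.mapIso (eqToIso (congrArg op (prod_left_eq U c).symm))).hom := fun c =>
    Pi.mapIso_hom_π _ c
  refine (Category.assoc _ _ _).trans ((congrArg (_ ≫ ·) h1).trans ?_)
  refine ((Category.assoc _ _ _).symm.trans (congrArg (· ≫ _) (Pi.lift_π _ a))).trans ?_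
  refine Eq.symm ((Category.assoc _ _ _).trans ((congrArg (_ ≫ ·) (Pi.lift_π _ a)).trans ?_))
  refine ((Category.assoc _ _ _).symm.trans (congrArg (· ≫ _) (h2 _))).trans ?_
  refine (Category.assoc _ _ _).trans (Eq.trans ?_ (Category.assoc _ _ _).symm)
  refine congrArg (_ ≫ ·) ?_
  dsimp only [Functor.mapIso_hom]
  rw [← P.map_comp, ← P.map_comp]
  congr 1

/-- the Čech cosimplicial groups agree -/
noncomputable def cosimpIso : A U P ≅ B U P :=
  NatIso.ofComponents (termIso U P) (fun θ => termIso_naturality U P θ)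

/-- Čech cohomology of a family of opens, computed in `Opens X` or in `Over (iSup U)` -/
noncomputable def cechHIso (p : ℕ) : CohTop.cechH P U p ≅ CohCx.cechH P (Y U) p :=
  (HomologicalComplex.homologyFunctor _ _ p).mapIso
    ((AlgebraicTopology.alternatingCofaceMapComplex AddCommGrpCat.{u}).mapIso (cosimpIso U P))

end Groth.Agent.Helper3.TopCech
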