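import Mathlib
import Groth.Agent.Lib.Helper3.CechSurj
import Groth.Agent.Lib.Helper3.TopCech

set_option autoImplicit false
universe u
open CategoryTheory Limits Opposite TopologicalSpace

namespace Groth.Agent.Helper3.TopCechSurj

variable {X : TopCat.{u}} {S : ShortComplex (CohTop.Ab X)}

lemma covering {ι : Type u} (W : ι → Opens X) :
    Sieve.ofArrows (fun i => (TopCech.Y W i).left) (fun i => (TopCech.Y W i).hom) ∈
      Opens.grothendieckTopology X (iSup W) := by
  intro x hx
  obtain ⟨i, hi⟩ := Opens.mem_iSup.1 hx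
  exact ⟨W i, homOfLE (le_iSup W i), ⟨_, 𝟙 _, _, ⟨i⟩, Category.id_comp _⟩, hi⟩

/-- a section of the quotient over `⋃ W i` lifting on each `W i` lifts globally when the first
Čech cohomology of the kernel vanishes -/
theorem exists_lift (hS : S.ShortExact) {ι : Type u} (W : ι → Opens X)
    (hH : IsZero (CohTop.cechH S.X₁.obj W 1)) (s : S.X₃.obj.obj (op (iSup W)))
    (hs : ∀ i, ∃ t : S.X₂.obj.obj (op (W i)),
      (S.g.hom.app (op (W i))).hom t = (S.X₃.obj.map (homOfLE (le_iSup W i)).op).hom s) :
    ∃ τ : S.X₂.obj.obj (op (iSup W)), (S.g.hom.app (op (iSup W))).hom τ = s :=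
  CechSurj.exists_lift (TopCech.Y W) hS (covering W)
    (hH.of_iso (TopCech.cechHIso W S.X₁.obj 1).symm) s hs

/-- the version with a refinement of the sieve where the section lifts -/
theorem surjective_of_refinement (hS : S.ShortExact) (U : Opens X)
    (h : ∀ (ι : Type u) (V : ι → Opens X), iSup V = U →
      ∃ (κ : Type u) (W : κ → Opens X), iSup W = U ∧ (∀ k, ∃ i, W k ≤ V i) ∧
        IsZero (CohTop.cechH S.X₁.obj W 1)) :
    Function.Surjective (S.g.hom.app (op U)).hom := by
  intro s
  have hT := ShSec.imageSieve_mem hS s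
  let ι : Type u := {V : Opens X // ∃ hV : V ≤ U, (Presheaf.imageSieve S.g.hom s).arrows (homOfLE hV)}
  have hsup : iSup (fun i : ι => i.1) = U := by
    apply le_antisymm
    · exact iSup_le fun i => i.2.1
    · intro x hx
      obtain ⟨V, f, hf, hxV⟩ := hT x hx
      exact Opens.mem_iSup.2 ⟨⟨V, leOfHom f, by
        have : f = homOfLE (leOfHom f) := Subsingleton.elim _ _
        rw [← this]; exact hf⟩, hxV⟩
  obtain ⟨κ, W, hW, hle, hH⟩ := h ι (fun i => i.1) hsup
  subst hW
  refine exists_lift hS W hH s ?_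
  intro k
  obtain ⟨i, hi⟩ := hle k
  obtain ⟨hV, hVT⟩ := i.2
  have h1 := (Presheaf.imageSieve S.g.hom s).downward_closed hVT (homOfLE hi)
  have : homOfLE hi ≫ homOfLE hV = homOfLE (le_iSup W k) := Subsingleton.elim _ _
  rw [this] at h1
  exact h1

end Groth.Agent.Helper3.TopCechSurj
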