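import Mathlib

/-!
# Multiplication by a global function as a natural endomorphism of the identity of `X.Modules`
-/

set_option autoImplicit false
universe u
open CategoryTheory CategoryTheory.Limits AlgebraicGeometry TopologicalSpace Opposite

namespace Groth.Agent.Helper3.ExtReg

variable {X : Scheme.{u}}

/-- restriction of a global function to an open -/
noncomputable def resTop (r : Γ(X, ⊤)) (U : X.Opens) : Γ(X, U) :=
  X.presheaf.map (homOfLE (le_top : U ≤ ⊤)).op r

theorem resTop_map (r : Γ(X, ⊤)) {U V : X.Opens} (i : U ⟶ V) :
    X.presheaf.map i.op (resTop r V) = resTop r U := by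
  unfold resTop
  rw [← ConcreteCategory.comp_apply, ← Functor.map_comp]
  rfl

/-- multiplication by the global function `r` on the module `M` -/
noncomputable def smulHom (r : Γ(X, ⊤)) (M : X.Modules) : M ⟶ M :=
  (⟨PresheafOfModules.homMk
    { app := fun U => M.smul (resTop r U.unop)
      naturality := fun U V i => by
        have h := Scheme.Modules.map_comp_smul (M := M) i.unop (resTop r U.unop)
        rw [resTop_map r i.unop] at h
        exact h.symm }
    (by
      intro U s m
      change resTop r U.unop • ((show Γ(X, U.unop) from s) • (show Γ(M, U.unop) from m)) =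
        (show Γ(X, U.unop) from s) • (resTop r U.unop • (show Γ(M, U.unop) from m))
      exact smul_comm _ _ _)⟩ : SheafOfModules.Hom M M)

@[simp] theorem smulHom_app (r : Γ(X, ⊤)) (M : X.Modules) (U : X.Opens) (m : Γ(M, U)) :
    (smulHom r M).app U m = resTop r U • m := rfl

/-- multiplication by `r` as a natural endomorphism of the identity functor -/
noncomputable def smulNat (r : Γ(X, ⊤)) : 𝟭 X.Modules ⟶ 𝟭 X.Modules where
  app M := smulHom r M
  naturality M N f := by
    apply Scheme.Modules.hom_ext
    intro U
    ext m
    change (smulHom r N).app U (f.app U m) = f.app U ((smulHom r M).app U m)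
    rw [smulHom_app, smulHom_app, Scheme.Modules.Hom.app_smul]

@[simp] theorem smulNat_app (r : Γ(X, ⊤)) (M : X.Modules) : (smulNat r).app M = smulHom r M := rfl

/-- `r` kills `M` -/
def Kills (r : Γ(X, ⊤)) (M : X.Modules) : Prop := smulHom r M = 0

theorem kills_iff (r : Γ(X, ⊤)) (M : X.Modules) :
    Kills r M ↔ ∀ (U : X.Opens) (m : Γ(M, U)), resTop r U • m = 0 := by
  constructor
  · intro h U m
    have := congrArg (fun f : M ⟶ M => f.app U m) h
    simpa using this
  · intro h
    apply Scheme.Modules.hom_ext
    intro U
    ext m
    exact h U m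

end Groth.Agent.Helper3.ExtReg
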