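import Mathlib

/-!
# Homology commutes with exact colimits

If `colim : (J ⥤ A) ⥤ A` is exact, then the homology functors preserve colimits of shape `J`.
-/

namespace Groth.Agent.Helper3.KInjA

open CategoryTheory Limits

universe w' w v u

variable {A : Type u} [Category.{v} A] [Abelian A] {J : Type w} [Category.{w'} J]
  [HasColimitsOfShape J A] [HasExactColimitsOfShape J A]

/-- the natural transformation `ev_j ⟶ colim` -/
noncomputable def ιNat (j : J) : (evaluation J A).obj j ⟶ (colim : (J ⥤ A) ⥤ A) where
  app F := colimit.ι F j
  naturality F G α := by simp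

variable (G : J ⥤ ShortComplex A)

/-- the short complex in the functor category -/
noncomputable abbrev SG : ShortComplex (J ⥤ A) :=
  (ShortComplex.functorEquivalence J A).inverse.obj G

/-- the identification `G j ≅ (SG G).map (ev j)` -/
noncomputable def objIso (j : J) : G.obj j ≅ (SG G).map ((evaluation J A).obj j) :=
  (((ShortComplex.functorEquivalence J A).counitIso.app G).app j).symm

lemma objIso_naturality {j j' : J} (f : j ⟶ j') :
    G.map f ≫ (objIso G j').hom =
      (objIso G j).hom ≫ (SG G).mapNatTrans ((evaluation J A).map f) := by
  have := ((ShortComplex.functorEquivalence J A).counitIso.app G).inv.naturality f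
  exact this

/-- a colimit cocone for `G` -/
noncomputable def cc : Cocone G where
  pt := (SG G).map colim
  ι :=
    { app j := (objIso G j).hom ≫ (SG G).mapNatTrans (ιNat j)
      naturality j j' f := by
        dsimp
        rw [Category.comp_id, ← Category.assoc, objIso_naturality, Category.assoc]
        congr 1
        ext
        · exact (colimit.w (SG G).X₁ f)
        · exact (colimit.w (SG G).X₂ f)
        · exact (colimit.w (SG G).X₃ f) }

noncomputable def isColimitCc : IsColimit (cc G) := by
  refine ShortComplex.isColimitOfIsColimitπ (cc G) ?_ ?_ ?_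
  · exact IsColimit.ofIsoColimit (colimit.isColimit (G ⋙ ShortComplex.π₁))
      (Cocone.ext (Iso.refl _) (fun j => by
        simp [cc, objIso, ιNat, ShortComplex.functorEquivalence]
        exact (Category.comp_id _).trans (Category.id_comp _).symm))
  · exact IsColimit.ofIsoColimit (colimit.isColimit (G ⋙ ShortComplex.π₂))
      (Cocone.ext (Iso.refl _) (fun j => by
        simp [cc, objIso, ιNat, ShortComplex.functorEquivalence]
        exact (Category.comp_id _).trans (Category.id_comp _).symm))
  · exact IsColimit.ofIsoColimit (colimit.isColimit (G ⋙ ShortComplex.π₃))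
      (Cocone.ext (Iso.refl _) (fun j => by
        simp [cc, objIso, ιNat, ShortComplex.functorEquivalence]
        exact (Category.comp_id _).trans (Category.id_comp _).symm))

/-- the homology of `SG G` is pointwise the homology of `G` -/
noncomputable def γ : G ⋙ ShortComplex.homologyFunctor A ≅ (SG G).homology :=
  NatIso.ofComponents
    (fun j => (ShortComplex.homologyFunctor A).mapIso (objIso G j) ≪≫
      (SG G).mapHomologyIso ((evaluation J A).obj j))
    (fun {j j'} f => by
      dsimp
      have h1 := ShortComplex.homologyMap_mapNatTrans (SG G) ((evaluation J A).map f)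
      have h3 : ShortComplex.homologyMap (G.map f) ≫ ShortComplex.homologyMap (objIso G j').hom =
          ShortComplex.homologyMap (objIso G j).hom ≫
            ShortComplex.homologyMap ((SG G).mapNatTrans ((evaluation J A).map f)) := by
        rw [← ShortComplex.homologyMap_comp, ← ShortComplex.homologyMap_comp, objIso_naturality]
      change ShortComplex.homologyMap (G.map f) ≫ (ShortComplex.homologyMap (objIso G j').hom ≫
          ((SG G).mapHomologyIso ((evaluation J A).obj j')).hom) =
        (ShortComplex.homologyMap (objIso G j).hom ≫
          ((SG G).mapHomologyIso ((evaluation J A).obj j)).hom) ≫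
            ((evaluation J A).map f).app (SG G).homology
      rw [← Category.assoc, h3, h1, Category.assoc, Category.assoc, Category.assoc,
        Iso.inv_hom_id, Category.comp_id, Category.assoc])

noncomputable def isColimitHomology :
    IsColimit ((ShortComplex.homologyFunctor A).mapCocone (cc G)) := by
  refine IsColimit.ofIsoColimit
    ((IsColimit.precomposeHomEquiv (γ G) _).symm (colimit.isColimit (SG G).homology))
    (Cocone.ext ((SG G).mapHomologyIso colim).symm (fun j => ?_))
  dsimp [cc, γ]
  have h1 : (ShortComplex.homologyFunctor A).map ((SG G).mapNatTrans (ιNat j)) =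
      ((SG G).mapHomologyIso ((evaluation J A).obj j)).hom ≫
        (ιNat j).app (SG G).homology ≫ ((SG G).mapHomologyIso colim).inv :=
    ShortComplex.homologyMap_mapNatTrans (SG G) (ιNat j)
  rw [Functor.map_comp, h1]
  simp [ιNat]
  rfl

instance : PreservesColimitsOfShape J (ShortComplex.homologyFunctor A) where
  preservesColimit {G} :=
    preservesColimit_of_preserves_colimit_cocone (isColimitCc G) (isColimitHomology G)

section HC

variable {ι : Type*} (c : ComplexShape ι)

noncomputable instance preservesShortComplexFunctor (i : ι) :
    PreservesColimitsOfShape J (HomologicalComplex.shortComplexFunctor A c i) where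
  preservesColimit {G} := ⟨fun {cc} hc => ⟨ShortComplex.isColimitOfIsColimitπ _
    (isColimitOfPreserves (HomologicalComplex.eval A c (c.prev i)) hc)
    (isColimitOfPreserves (HomologicalComplex.eval A c i) hc)
    (isColimitOfPreserves (HomologicalComplex.eval A c (c.next i)) hc)⟩⟩

noncomputable instance preservesHomologyFunctor (i : ι) :
    PreservesColimitsOfShape J (HomologicalComplex.homologyFunctor A c i) :=
  preservesColimitsOfShape_of_natIso (HomologicalComplex.homologyFunctorIso A c i).symm

instance quasiIso_isStableUnderColimitsOfShape :
    (HomologicalComplex.quasiIso A c).IsStableUnderColimitsOfShape J where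
  condition X₁ X₂ c₁ c₂ h₁ h₂ f hf φ hφ := by
    change QuasiIso φ
    rw [quasiIso_iff]
    intro i
    rw [quasiIsoAt_iff_isIso_homologyMap]
    have hf' : ∀ j, QuasiIso (f.app j) := hf
    exact (MorphismProperty.IsStableUnderColimitsOfShape.isomorphisms A J).condition
      (X₁ ⋙ HomologicalComplex.homologyFunctor A c i) (X₂ ⋙ HomologicalComplex.homologyFunctor A c i)
      ((HomologicalComplex.homologyFunctor A c i).mapCocone c₁)
      ((HomologicalComplex.homologyFunctor A c i).mapCocone c₂)
      (isColimitOfPreserves _ h₁) (isColimitOfPreserves _ h₂)
      (Functor.whiskerRight f _)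
      (fun j => by
        change IsIso (HomologicalComplex.homologyMap (f.app j) i)
        infer_instance)
      (HomologicalComplex.homologyMap φ i)
      (fun j => by
        change HomologicalComplex.homologyMap (c₁.ι.app j) i ≫ HomologicalComplex.homologyMap φ i =
          HomologicalComplex.homologyMap (f.app j) i ≫ HomologicalComplex.homologyMap (c₂.ι.app j) i
        rw [← HomologicalComplex.homologyMap_comp, ← HomologicalComplex.homologyMap_comp, hφ])

/-- a colimit (of exact shape) of acyclic complexes is acyclic -/
lemma acyclic_of_isColimit {G : J ⥤ HomologicalComplex A c} {cc : Cocone G} (hc : IsColimit cc)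
    (hG : ∀ j, (G.obj j).Acyclic) : cc.pt.Acyclic := by
  intro i
  rw [HomologicalComplex.exactAt_iff_isZero_homology]
  have h := isColimitOfPreserves (HomologicalComplex.homologyFunctor A c i) hc
  rw [IsZero.iff_id_eq_zero]
  refine h.hom_ext (fun j => ?_)
  have hz : IsZero ((G.obj j).homology i) := by
    rw [← HomologicalComplex.exactAt_iff_isZero_homology]
    exact hG j i
  exact hz.eq_of_src _ _

end HC

section Seq

variable {A : Type u} [Category.{v} A] [Abelian A]
  [HasColimitsOfShape ℕ A] [HasExactColimitsOfShape ℕ A] {ι : Type*} (c : ComplexShape ι)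

/-- a sequential colimit whose transition maps vanish on homology is acyclic -/
lemma acyclic_of_seq {G : ℕ ⥤ HomologicalComplex A c} {cc : Cocone G} (hc : IsColimit cc)
    (hG : ∀ (k : ℕ) (i : ι),
      HomologicalComplex.homologyMap (G.map (homOfLE (Nat.le_succ k))) i = 0) :
    cc.pt.Acyclic := by
  intro i
  rw [HomologicalComplex.exactAt_iff_isZero_homology]
  have h := isColimitOfPreserves (HomologicalComplex.homologyFunctor A c i) hc
  rw [IsZero.iff_id_eq_zero]
  refine h.hom_ext (fun k => ?_)
  have hw := cc.w (homOfLE (Nat.le_succ k))
  change HomologicalComplex.homologyMap (cc.ι.app k) i ≫ 𝟙 _ =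
    HomologicalComplex.homologyMap (cc.ι.app k) i ≫ 0
  rw [← hw, HomologicalComplex.homologyMap_comp, hG, zero_comp, zero_comp, comp_zero]

end Seq

end Groth.Agent.Helper3.KInjA
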