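import Mathlib
import Groth.Agent.Lib.Helper3.KInjA

/-!
# Small acyclic subcomplexes (one step)

Given a morphism `Φ : Q ⟶ M` to an acyclic complex, we enlarge `Q` by disks on the separator `U`
so that the map on images kills homology.
-/

namespace Groth.Agent.Helper3.KInjB

open CategoryTheory Limits

universe v u

variable {A : Type u} [Category.{v} A] [Abelian A]

section Cover

variable {U : A} (hU : IsSeparator U)

include hU in
lemma eq_zero_of_sep {X Y : A} (w : X ⟶ Y) (H : ∀ z : U ⟶ X, z ≫ w = 0) : w = 0 :=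
  hU.def _ _ (fun z => by rw [H z, comp_zero])

include hU in
lemma eq_zero_of_epi_sep {P X Y : A} (e : P ⟶ X) [Epi e] (w : X ⟶ Y)
    (H : ∀ a : U ⟶ P, (a ≫ e) ≫ w = 0) : w = 0 := by
  rw [← cancel_epi e, comp_zero]
  exact eq_zero_of_sep hU _ (fun a => by rw [← Category.assoc]; exact H a)

end Cover

variable (U : A)

/-- the disk complex on `U` in degrees `n`, `n+1` -/
noncomputable def disk (n : ℤ) : CochainComplex A ℤ :=
  HomologicalComplex.double (𝟙 U) (show (ComplexShape.up ℤ).Rel n (n + 1) from rfl)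

/-- morphisms out of a disk -/
noncomputable def diskMap {M : CochainComplex A ℤ} (n : ℤ) (b : U ⟶ M.X n) : disk U n ⟶ M :=
  HomologicalComplex.mkHomFromDouble _ (by lia : n ≠ n + 1) b (b ≫ M.d n (n + 1))
    (by simp) (by intro k _; simp)

/-- the generator of the disk -/
noncomputable def diskGen (n : ℤ) : U ⟶ (disk U n).X n :=
  (HomologicalComplex.doubleXIso₀ (𝟙 U)
    (show (ComplexShape.up ℤ).Rel n (n + 1) from rfl)).inv

@[reassoc (attr := simp)]
lemma diskGen_diskMap {M : CochainComplex A ℤ} (n : ℤ) (b : U ⟶ M.X n) :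
    diskGen U n ≫ (diskMap U n b).f n = b := by
  dsimp only [diskGen, diskMap, disk]
  rw [HomologicalComplex.mkHomFromDouble_f₀, Iso.inv_hom_id_assoc]

/-- the index type of the new cells -/
structure Cell (Q : CochainComplex A ℤ) : Type v where
  j : ℤ
  h : U ⟶ Q.X j
  c : U ⟶ U

variable {U}
variable {Q M : CochainComplex A ℤ} (Φ : Q ⟶ M)

open Classical in
/-- a chosen lift of the cycle `c ≫ h ≫ Φ` along the differential (zero if none exists) -/
noncomputable def lift (s : Cell U Q) : U ⟶ M.X (s.j - 1) :=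
  if h : ∃ b : U ⟶ M.X (s.j - 1), b ≫ M.d (s.j - 1) s.j = s.c ≫ s.h ≫ Φ.f s.j then h.choose else 0

lemma lift_spec (s : Cell U Q)
    (h : ∃ b : U ⟶ M.X (s.j - 1), b ≫ M.d (s.j - 1) s.j = s.c ≫ s.h ≫ Φ.f s.j) :
    lift Φ s ≫ M.d (s.j - 1) s.j = s.c ≫ s.h ≫ Φ.f s.j := by
  rw [lift, dif_pos h]
  exact h.choose_spec

variable [HasCoproducts.{v} A]

instance : HasCoproducts.{v} (CochainComplex A ℤ) := fun _ => inferInstance

variable (U)

/-- the enlarged complex -/
noncomputable abbrev Qnext (Q : CochainComplex A ℤ) : CochainComplex A ℤ :=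
  Q ⊞ ∐ (fun s : Cell U Q => disk U (s.j - 1))

/-- the enlarged map -/
noncomputable def Φnext : Qnext U Q ⟶ M :=
  biprod.desc Φ (Sigma.desc (fun s : Cell U Q => diskMap U (s.j - 1) (lift Φ s)))

@[reassoc (attr := simp)]
lemma inl_Φnext : (biprod.inl : Q ⟶ Qnext U Q) ≫ Φnext U Φ = Φ := by simp [Φnext]

/-- the new generators -/
noncomputable def gen (s : Cell U Q) : U ⟶ (Qnext U Q).X (s.j - 1) :=
  diskGen U (s.j - 1) ≫ (Sigma.ι (fun s : Cell U Q => disk U (s.j - 1)) s).f (s.j - 1) ≫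
    (biprod.inr : _ ⟶ Qnext U Q).f (s.j - 1)

lemma gen_Φnext (s : Cell U Q) : gen U s ≫ (Φnext U Φ).f (s.j - 1) = lift Φ s := by
  have h1 : (biprod.inr : _ ⟶ Qnext U Q) ≫ Φnext U Φ =
      Sigma.desc (fun s : Cell U Q => diskMap U (s.j - 1) (lift Φ s)) := by simp [Φnext]
  have h2 : Sigma.ι (fun s : Cell U Q => disk U (s.j - 1)) s ≫
      Sigma.desc (fun s : Cell U Q => diskMap U (s.j - 1) (lift Φ s)) =
        diskMap U (s.j - 1) (lift Φ s) := Sigma.ι_desc _ _
  rw [gen, Category.assoc, Category.assoc, ← HomologicalComplex.comp_f, h1,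
    ← HomologicalComplex.comp_f, h2, diskGen_diskMap]

/-- the induced map on images -/
noncomputable def ψ : Limits.image Φ ⟶ Limits.image (Φnext U Φ) :=
  image.lift { I := Limits.image (Φnext U Φ)
               m := image.ι (Φnext U Φ)
               e := (biprod.inl : Q ⟶ Qnext U Q) ≫ factorThruImage (Φnext U Φ)
               fac := by rw [Category.assoc, image.fac, inl_Φnext] }

@[reassoc (attr := simp)]
lemma ψ_ι : ψ U Φ ≫ image.ι (Φnext U Φ) = image.ι Φ := image.lift_fac _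

variable {U}

instance (j : ℤ) : Epi ((factorThruImage Φ).f j) :=
  inferInstanceAs (Epi ((HomologicalComplex.eval A _ j).map (factorThruImage Φ)))

instance (j : ℤ) : Mono ((image.ι Φ).f j) :=
  inferInstanceAs (Mono ((HomologicalComplex.eval A _ j).map (image.ι Φ)))

lemma core (j : ℤ) (z : U ⟶ (Limits.image Φ).cycles j) (c₁ c₂ : U ⟶ U) (h : U ⟶ Q.X j)
    (hc₁ : c₁ ≫ z ≫ (Limits.image Φ).iCycles j = h ≫ (factorThruImage Φ).f j)
    (b : U ⟶ M.X (j - 1)) (hb : b ≫ M.d (j - 1) j = c₂ ≫ h ≫ Φ.f j) :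
    c₂ ≫ c₁ ≫ z ≫ HomologicalComplex.cyclesMap (ψ U Φ) j ≫
      (Limits.image (Φnext U Φ)).homologyπ j = 0 := by
  have hΦ : h ≫ Φ.f j = c₁ ≫ z ≫ (Limits.image Φ).iCycles j ≫ (image.ι Φ).f j := by
    have := (factorThruImage Φ ≫ image.ι Φ).f j
    have e : Φ.f j = (factorThruImage Φ).f j ≫ (image.ι Φ).f j := by
      rw [← HomologicalComplex.comp_f, image.fac]
    rw [e, ← Category.assoc, ← hc₁]
    simp only [Category.assoc]
  let s : Cell U Q := ⟨j, h, c₂⟩
  have hs : ∃ b : U ⟶ M.X (s.j - 1), b ≫ M.d (s.j - 1) s.j = s.c ≫ s.h ≫ Φ.f s.j := ⟨b, hb⟩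
  have hl : lift Φ s ≫ M.d (j - 1) j = c₂ ≫ h ≫ Φ.f j := lift_spec Φ s hs
  let y' : U ⟶ (Limits.image (Φnext U Φ)).X (j - 1) :=
    gen U s ≫ (factorThruImage (Φnext U Φ)).f (j - 1)
  have hy' : y' ≫ (image.ι (Φnext U Φ)).f (j - 1) = lift Φ s := by
    dsimp only [y']
    rw [Category.assoc, ← HomologicalComplex.comp_f, image.fac]
    exact gen_Φnext U Φ s
  have key : c₂ ≫ c₁ ≫ z ≫ HomologicalComplex.cyclesMap (ψ U Φ) j =
      y' ≫ (Limits.image (Φnext U Φ)).toCycles (j - 1) j := by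
    rw [← cancel_mono ((Limits.image (Φnext U Φ)).iCycles j),
      ← cancel_mono ((image.ι (Φnext U Φ)).f j)]
    simp only [Category.assoc, HomologicalComplex.cyclesMap_i, HomologicalComplex.toCycles_i]
    rw [← HomologicalComplex.Hom.comm, ← Category.assoc y', hy', hl, hΦ,
      ← HomologicalComplex.comp_f, ψ_ι]
  rw [← Category.assoc z, ← Category.assoc c₁, ← Category.assoc c₂]
  simp only [Category.assoc] at key ⊢
  rw [reassoc_of% key]
  simp

/-- the key lemma: the map on images kills homology -/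
theorem homologyMap_ψ (hU : IsSeparator U) (hM : M.Acyclic) (j : ℤ) :
    HomologicalComplex.homologyMap (ψ U Φ) j = 0 := by
  rw [← cancel_epi ((Limits.image Φ).homologyπ j), comp_zero,
    HomologicalComplex.homologyπ_naturality]
  refine eq_zero_of_sep hU _ (fun z => ?_)
  obtain ⟨P₁, e₁, _, h', hh'⟩ := surjective_up_to_refinements_of_epi ((factorThruImage Φ).f j)
    (z ≫ (Limits.image Φ).iCycles j)
  refine eq_zero_of_epi_sep hU e₁ _ (fun a₁ => ?_)
  have hc₁ : (a₁ ≫ e₁) ≫ z ≫ (Limits.image Φ).iCycles j =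
      (a₁ ≫ h') ≫ (factorThruImage Φ).f j := by
    simp only [Category.assoc, hh']
  have hΦ : (a₁ ≫ h') ≫ Φ.f j =
      (a₁ ≫ e₁) ≫ z ≫ (Limits.image Φ).iCycles j ≫ (image.ι Φ).f j := by
    have e : Φ.f j = (factorThruImage Φ).f j ≫ (image.ι Φ).f j := by
      rw [← HomologicalComplex.comp_f, image.fac]
    rw [e, ← Category.assoc (a₁ ≫ h'), ← hc₁]
    simp only [Category.assoc]
  have hζ : ((a₁ ≫ h') ≫ Φ.f j) ≫ M.d j (j + 1) = 0 := by
    rw [hΦ]
    simp
  have hex := (M.exactAt_iff' (j - 1) j (j + 1) (by simp) (by simp)).1 (hM j)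
  obtain ⟨P₂, e₂, _, b', hb'⟩ := hex.exact_up_to_refinements ((a₁ ≫ h') ≫ Φ.f j) hζ
  refine eq_zero_of_epi_sep hU e₂ _ (fun a₂ => ?_)
  have hb'' : e₂ ≫ ((a₁ ≫ h') ≫ Φ.f j) = b' ≫ M.d (j - 1) j := hb'
  have hb : (a₂ ≫ b') ≫ M.d (j - 1) j = (a₂ ≫ e₂) ≫ (a₁ ≫ h') ≫ Φ.f j := by
    rw [Category.assoc, ← hb'']
    simp only [Category.assoc]
  have := core Φ j z (a₁ ≫ e₁) (a₂ ≫ e₂) (a₁ ≫ h') hc₁ (a₂ ≫ b') hb
  simpa only [Category.assoc] using this

section Seq

variable [IsGrothendieckAbelian.{v} A]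

variable (U) in
/-- the sequence of covering complexes, independent of the target -/
noncomputable def Qseq (j₀ : ℤ) : ℕ → CochainComplex A ℤ
  | 0 => disk U j₀
  | k + 1 => Qnext U (Qseq j₀ k)

variable {j₀ : ℤ} (x : U ⟶ M.X j₀)

/-- the sequence of maps to `M` -/
noncomputable def Φseq : ∀ k, Qseq U j₀ k ⟶ M
  | 0 => diskMap U j₀ x
  | k + 1 => Φnext U (Φseq k)

/-- the images -/
noncomputable abbrev Nseq (k : ℕ) : CochainComplex A ℤ := Limits.image (Φseq x k)

/-- the transition maps -/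
noncomputable def ψseq (k : ℕ) : Nseq x k ⟶ Nseq x (k + 1) := ψ U (Φseq x k)

/-- the inclusions -/
noncomputable def ιseq (k : ℕ) : Nseq x k ⟶ M := image.ι (Φseq x k)

instance (k : ℕ) : Mono (ιseq x k) := (Image.monoFactorisation (Φseq x k)).m_mono

lemma ψseq_ι (k : ℕ) : ψseq x k ≫ ιseq x (k + 1) = ιseq x k := ψ_ι U (Φseq x k)

/-- the sequence of images as a functor -/
noncomputable def F : ℕ ⥤ CochainComplex A ℤ := Functor.ofSequence (ψseq x)

/-- the cocone with point `M` -/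
noncomputable def coconeM : Cocone (F x) where
  pt := M
  ι := NatTrans.ofSequence (F := F x) (G := (Functor.const ℕ).obj M) (fun k => ιseq x k)
    (fun k => by
      dsimp [F]
      rw [Functor.ofSequence_map_homOfLE_succ, Category.comp_id]
      exact ψseq_ι x k)

/-- the union of the images -/
noncomputable abbrev Ninf : CochainComplex A ℤ := colimit (F x)

/-- the inclusion of the union -/
noncomputable def ιinf : Ninf x ⟶ M := colimit.desc (F x) (coconeM x)

@[reassoc (attr := simp)]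
lemma ι_ιinf (k : ℕ) : colimit.ι (F x) k ≫ ιinf x = ιseq x k := by
  simp [ιinf, coconeM]

attribute [local instance] IsFiltered.isConnected in
instance : Mono (ιinf x) := by
  haveI := AB5OfSize_shrink.{0, 0, v, v} (CochainComplex A ℤ)
  let φ : F x ⟶ (Functor.const ℕ).obj M := (coconeM x).ι
  haveI : ∀ k, Mono (φ.app k) := fun k => by
    dsimp only [φ, coconeM]
    rw [NatTrans.ofSequence_app]
    exact inferInstanceAs (Mono (ιseq x k))
  haveI := NatTrans.mono_of_mono_app φ
  exact colim.map_mono' φ (colimit.isColimit (F x)) (isColimitConstCocone ℕ M) (ιinf x)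
    (fun k => by
      dsimp only [φ, coconeM]
      rw [NatTrans.ofSequence_app]
      exact (ι_ιinf x k).trans (Category.comp_id _).symm)

lemma acyclic_Ninf (hU : IsSeparator U) (hM : M.Acyclic) : (Ninf x).Acyclic := by
  haveI := AB5OfSize_shrink.{0, 0, v, v} A
  refine Groth.Agent.Helper3.KInjA.acyclic_of_seq _ (colimit.isColimit (F x)) (fun k i => ?_)
  dsimp [F]
  rw [Functor.ofSequence_map_homOfLE_succ]
  exact homologyMap_ψ _ hU hM i

variable (U) in
/-- the big complex -/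
noncomputable abbrev bigD (j₀ : ℤ) : CochainComplex A ℤ := ∐ (fun k => Qseq U j₀ k)

/-- the covering of the union -/
noncomputable def pinf : bigD U j₀ ⟶ Ninf x :=
  Sigma.desc (fun k => factorThruImage (Φseq x k) ≫ colimit.ι (F x) k)

@[reassoc]
lemma ι_pinf (k : ℕ) : (Sigma.ι (fun k => Qseq U j₀ k) k : _ ⟶ bigD U j₀) ≫ pinf x =
    factorThruImage (Φseq x k) ≫ colimit.ι (F x) k := Sigma.ι_desc _ _

instance : Epi (pinf x) where
  left_cancellation g₁ g₂ h := by
    refine colimit.hom_ext (fun k => ?_)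
    have := (Sigma.ι (fun k => Qseq U j₀ k) k : _ ⟶ bigD U j₀) ≫= h
    rw [ι_pinf_assoc, ι_pinf_assoc] at this
    exact (cancel_epi (factorThruImage (Φseq x k))).1 this

lemma not_isZero_Ninf (hx : x ≠ 0) : ¬ IsZero (Ninf x) := by
  intro h
  apply hx
  have h0 : ιseq x 0 = 0 := by
    rw [← ι_ιinf, h.eq_of_tgt (colimit.ι (F x) 0) 0, zero_comp]
    rfl
  have h1 : Φseq x 0 = 0 := by
    have : Φseq x 0 = factorThruImage (Φseq x 0) ≫ ιseq x 0 := (image.fac _).symm
    rw [this, h0, comp_zero]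
  have h2 := diskGen_diskMap U j₀ x
  change diskGen U j₀ ≫ (Φseq x 0).f j₀ = x at h2
  rw [← h2, h1]
  exact comp_zero

end Seq

section Family

variable [IsGrothendieckAbelian.{v} A] (U)

/-- index type of the family of small acyclic complexes -/
def Idx : Type (max u v) :=
  Σ j₀ : ℤ, {R : Subobject (bigD U j₀) // (cokernel R.arrow).Acyclic}

instance : Small.{v} (Idx U) := by
  unfold Idx
  infer_instance

/-- the family of small acyclic complexes -/
noncomputable def Kfam (i : Idx U) : CochainComplex A ℤ := cokernel i.2.1.arrow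

lemma acyclic_Kfam (i : Idx U) : (Kfam U i).Acyclic := i.2.2

variable {U}

/-- an epimorphism is the cokernel of the subobject given by its kernel -/
noncomputable def cokerIso {X Y : CochainComplex A ℤ} (p : X ⟶ Y) [Epi p] :
    cokernel (Subobject.mk (kernel.ι p)).arrow ≅ Y := by
  have w : (Subobject.mk (kernel.ι p)).arrow ≫ p = 0 := by
    rw [← Subobject.underlyingIso_hom_comp_eq_mk, Category.assoc, kernel.condition, comp_zero]
  have hlim : IsLimit (KernelFork.ofι (Subobject.mk (kernel.ι p)).arrow w) :=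
    IsLimit.ofIsoLimit (kernelIsKernel p)
      (Fork.ext (Subobject.underlyingIso (kernel.ι p)).symm (by
        change (Subobject.underlyingIso (kernel.ι p)).inv ≫ (Subobject.mk (kernel.ι p)).arrow =
          kernel.ι p
        rw [← Subobject.underlyingIso_hom_comp_eq_mk, Iso.inv_hom_id_assoc]))
  exact IsColimit.coconePointUniqueUpToIso (colimit.isColimit _)
    (Abelian.epiIsCokernelOfKernel _ hlim)

theorem exists_sub (hU : IsSeparator U) (M : CochainComplex A ℤ) (hM : M.Acyclic)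
    (hM0 : ¬ IsZero M) :
    ∃ (i : Idx U) (f : Kfam U i ⟶ M), Mono f ∧ ¬ IsZero (Kfam U i) := by
  obtain ⟨j₀, hj₀⟩ : ∃ j₀, ¬ IsZero (M.X j₀) := by
    by_contra h
    push Not at h
    apply hM0
    rw [IsZero.iff_id_eq_zero]
    ext j
    exact (h j).eq_of_src _ _
  obtain ⟨x, hx⟩ : ∃ x : U ⟶ M.X j₀, x ≠ 0 := by
    by_contra h
    push Not at h
    apply hj₀
    rw [IsZero.iff_id_eq_zero]
    exact eq_zero_of_sep hU _ (fun z => by rw [h z, zero_comp])
  let e := cokerIso (pinf x)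
  have hac : (cokernel (Subobject.mk (kernel.ι (pinf x))).arrow).Acyclic :=
    fun i => ((acyclic_Ninf x hU hM) i).of_iso e.symm
  refine ⟨⟨j₀, ⟨Subobject.mk (kernel.ι (pinf x)), hac⟩⟩, e.hom ≫ ιinf x, ?_, ?_⟩
  · infer_instance
  · intro h
    exact not_isZero_Ninf x hx (h.of_iso e.symm)

end Family

end Groth.Agent.Helper3.KInjB
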