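import Mathlib
import Groth.Agent.Lib.Helper3.KInjA

/-!
# Directed unions of subcomplexes in a Grothendieck abelian category
-/

namespace Groth.Agent.Helper3.KInjC

open CategoryTheory Limits

universe v u

variable {A : Type u} [Category.{v} A] [Abelian A]

section Union

variable [IsGrothendieckAbelian.{v} A]

variable {M : CochainComplex A ℤ} {J : Type v} [Preorder J] [IsDirected J (· ≤ ·)] [Nonempty J]
  (N : J → Subobject M) (hN : Monotone N)

/-- the functor to `MonoOver M` -/
noncomputable def FM : J ⥤ MonoOver M where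
  obj j := MonoOver.mk (N j).arrow
  map {j j'} f := MonoOver.homMk (Subobject.ofLE _ _ (hN (leOfHom f)))

/-- the cocone with point the supremum -/
noncomputable def coconeSup : Cocone (FM N hN ⋙ MonoOver.forget M) where
  pt := Over.mk (⨆ j, N j).arrow
  ι :=
    { app j := Over.homMk (Subobject.ofLE (N j) (⨆ j, N j) (le_iSup N j)) (by simp [FM, MonoOver.forget])
      naturality j j' f := by
        ext
        simp [FM, MonoOver.forget] }

instance : Mono (coconeSup N hN).pt.hom := by
  dsimp [coconeSup]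
  infer_instance

/-- the supremum is the colimit -/
noncomputable def isColimitSup : IsColimit ((Over.forget _).mapCocone (coconeSup N hN)) :=
  IsGrothendieckAbelian.isColimitMapCoconeOfSubobjectMkEqISup (FM N hN) (coconeSup N hN) (by
    dsimp [coconeSup, FM]
    simp only [Subobject.mk_arrow])

/-- abbreviation for the inclusion of a member in the supremum -/
noncomputable abbrev inc (j : J) : ((N j : Subobject M) : CochainComplex A ℤ) ⟶
    ((⨆ j, N j : Subobject M) : CochainComplex A ℤ) :=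
  Subobject.ofLE (N j) (⨆ j, N j) (le_iSup N j)

include hN in
lemma acyclic_sup (hac : ∀ j, ((N j : Subobject M) : CochainComplex A ℤ).Acyclic) :
    ((⨆ j, N j : Subobject M) : CochainComplex A ℤ).Acyclic :=
  KInjA.acyclic_of_isColimit (ComplexShape.up ℤ) (isColimitSup N hN) hac

include hN in
lemma glue (p : ℤ) {Y : A} (g : ∀ j, ((N j : Subobject M) : CochainComplex A ℤ).X p ⟶ Y)
    (hg : ∀ j j' (h : j ≤ j'), (Subobject.ofLE (N j) (N j') (hN h)).f p ≫ g j' = g j) :
    ∃ γ : ((⨆ j, N j : Subobject M) : CochainComplex A ℤ).X p ⟶ Y,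
      ∀ j, (inc N j).f p ≫ γ = g j := by
  have hp := isColimitOfPreserves (HomologicalComplex.eval A (ComplexShape.up ℤ) p)
    (isColimitSup N hN)
  let cc : Cocone (((FM N hN ⋙ MonoOver.forget M) ⋙ Over.forget M) ⋙
      HomologicalComplex.eval A (ComplexShape.up ℤ) p) :=
    { pt := Y
      ι := { app j := g j
             naturality j j' f := by
               dsimp
               rw [Category.comp_id]
               exact hg j j' (leOfHom f) } }
  exact ⟨hp.desc cc, fun j => hp.fac cc j⟩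

include hN in
lemma hom_ext_sup (p : ℤ) {Y : A}
    {γ γ' : ((⨆ j, N j : Subobject M) : CochainComplex A ℤ).X p ⟶ Y}
    (h : ∀ j, (inc N j).f p ≫ γ = (inc N j).f p ≫ γ') : γ = γ' := by
  have hp := isColimitOfPreserves (HomologicalComplex.eval A (ComplexShape.up ℤ) p)
    (isColimitSup N hN)
  exact hp.hom_ext h

end Union

section Res

open CochainComplex.HomComplex

variable {N' N M I : CochainComplex A ℤ}

/-- restriction of a cochain along a chain map -/
noncomputable abbrev res (a : N ⟶ M) {n : ℤ} (γ : Cochain M I n) : Cochain N I n :=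
  (Cochain.ofHom a).comp γ (zero_add n)

lemma res_comp (a : N' ⟶ N) (b : N ⟶ M) {n : ℤ} (γ : Cochain M I n) :
    res (a ≫ b) γ = res a (res b γ) := by
  dsimp only [res]
  rw [Cochain.ofHom_comp, Cochain.comp_assoc_of_first_is_zero_cochain]

lemma δ_res (a : N ⟶ M) {n : ℤ} (m : ℤ) (γ : Cochain M I n) :
    δ n m (res a γ) = res a (δ n m γ) := δ_ofHom_comp a γ m

lemma res_ofHom (a : N ⟶ M) (f : M ⟶ I) : res a (Cochain.ofHom f) = Cochain.ofHom (a ≫ f) :=
  (Cochain.ofHom_comp a f).symm

lemma res_add (a : N ⟶ M) {n : ℤ} (γ γ' : Cochain M I n) :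
    res a (γ + γ') = res a γ + res a γ' := Cochain.comp_add _ _ _ _

lemma res_v (a : N ⟶ M) {n : ℤ} (γ : Cochain M I n) (p q : ℤ) (hpq : p + n = q) :
    (res a γ).v p q hpq = a.f p ≫ γ.v p q hpq := by
  simp [res]

end Res

section Zorn

open CochainComplex.HomComplex

variable [IsGrothendieckAbelian.{v} A] {M I : CochainComplex A ℤ} (f : M ⟶ I)

/-- partial null-homotopies of `f` defined on acyclic subcomplexes -/
structure PH : Type v where
  N : Shrink.{v} (Subobject M)
  h : Cochain M I (-1)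
  acyc : ((((equivShrink (Subobject M)).symm N : Subobject M)) : CochainComplex A ℤ).Acyclic
  eq : res ((equivShrink (Subobject M)).symm N).arrow (δ (-1) 0 h) =
    Cochain.ofHom (((equivShrink (Subobject M)).symm N).arrow ≫ f)

variable {f}

/-- the underlying subobject -/
noncomputable def PH.sub (x : PH f) : Subobject M := (equivShrink (Subobject M)).symm x.N

lemma PH.acyc' (x : PH f) : (x.sub : CochainComplex A ℤ).Acyclic := x.acyc

lemma PH.eq' (x : PH f) : res x.sub.arrow (δ (-1) 0 x.h) = Cochain.ofHom (x.sub.arrow ≫ f) := x.eq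

/-- constructor -/
noncomputable def PH.mk' (N : Subobject M) (h : Cochain M I (-1))
    (acyc : (N : CochainComplex A ℤ).Acyclic)
    (eq : res N.arrow (δ (-1) 0 h) = Cochain.ofHom (N.arrow ≫ f)) : PH f where
  N := equivShrink _ N
  h := h
  acyc := by rw [Equiv.symm_apply_apply]; exact acyc
  eq := by rw [Equiv.symm_apply_apply]; exact eq

@[simp]
lemma PH.mk'_sub (N : Subobject M) (h : Cochain M I (-1))
    (acyc : (N : CochainComplex A ℤ).Acyclic)
    (eq : res N.arrow (δ (-1) 0 h) = Cochain.ofHom (N.arrow ≫ f)) :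
    (PH.mk' N h acyc eq).sub = N := Equiv.symm_apply_apply _ _

@[simp]
lemma PH.mk'_h (N : Subobject M) (h : Cochain M I (-1))
    (acyc : (N : CochainComplex A ℤ).Acyclic)
    (eq : res N.arrow (δ (-1) 0 h) = Cochain.ofHom (N.arrow ≫ f)) :
    (PH.mk' N h acyc eq).h = h := rfl

noncomputable instance : Preorder (PH f) where
  le x y := x.sub ≤ y.sub ∧ res x.sub.arrow y.h = res x.sub.arrow x.h
  le_refl x := ⟨le_rfl, rfl⟩
  le_trans x y z hxy hyz := ⟨hxy.1.trans hyz.1, by
    rw [← hxy.2]
    have e : x.sub.arrow = Subobject.ofLE _ _ hxy.1 ≫ y.sub.arrow := (Subobject.ofLE_arrow _).symm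
    rw [e, res_comp, res_comp, hyz.2]⟩

lemma PH.le_def (x y : PH f) :
    x ≤ y ↔ x.sub ≤ y.sub ∧ res x.sub.arrow y.h = res x.sub.arrow x.h := Iff.rfl

instance (N : Subobject M) (p : ℤ) : Mono (N.arrow.f p) :=
  inferInstanceAs (Mono ((HomologicalComplex.eval A _ p).map N.arrow))

omit [IsGrothendieckAbelian.{v} A] in
/-- extension of a cochain along a monomorphism, the target having injective terms -/
lemma exists_extension (hI : ∀ n, Injective (I.X n)) {P : CochainComplex A ℤ} (a : P ⟶ M) [Mono a]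
    {n : ℤ} (κ : Cochain P I n) : ∃ κ' : Cochain M I n, res a κ' = κ := by
  haveI : ∀ p, Mono (a.f p) := fun p =>
    inferInstanceAs (Mono ((HomologicalComplex.eval A _ p).map a))
  refine ⟨Cochain.mk (fun p q hpq => Injective.factorThru (κ.v p q hpq) (a.f p)), ?_⟩
  ext p q hpq
  rw [res_v, Cochain.mk_v, Injective.comp_factorThru]

lemma exists_ub (hI : ∀ n, Injective (I.X n)) (c : Set (PH f)) (hc : IsChain (· ≤ ·) c)
    (hne : c.Nonempty) : ∃ ub : PH f, ∀ z ∈ c, z ≤ ub := by
  haveI : Nonempty c := hne.to_subtype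
  haveI : IsDirected c (· ≤ ·) := ⟨fun a b => by
    rcases hc.total a.2 b.2 with h | h
    · exact ⟨b, h, le_rfl⟩
    · exact ⟨a, le_rfl, h⟩⟩
  let N : c → Subobject M := fun j => j.1.sub
  have hN : Monotone N := fun j j' h => h.1
  have inc_arrow : ∀ j, inc N j ≫ (⨆ j, N j).arrow = (N j).arrow := fun j =>
    Subobject.ofLE_arrow _
  have hglue : ∀ (p q : ℤ) (hpq : p + (-1) = q),
      ∃ γ : ((⨆ j, N j : Subobject M) : CochainComplex A ℤ).X p ⟶ I.X q,
        ∀ j, (inc N j).f p ≫ γ = (N j).arrow.f p ≫ j.1.h.v p q hpq := by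
    intro p q hpq
    refine glue N hN p (fun j => (N j).arrow.f p ≫ j.1.h.v p q hpq) (fun j j' h => ?_)
    have h2 := congrArg (fun z => z.v p q hpq) h.2
    simp only [res_v] at h2
    rw [← Category.assoc, ← HomologicalComplex.comp_f, Subobject.ofLE_arrow]
    exact h2
  choose γ hγ using hglue
  obtain ⟨hs, hhs⟩ := exists_extension hI (⨆ j, N j).arrow (Cochain.mk γ)
  have key : ∀ j : c, res (N j).arrow hs = res (N j).arrow j.1.h := by
    intro j
    conv_lhs => rw [← inc_arrow j, res_comp, hhs]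
    ext p q hpq
    rw [res_v, res_v, Cochain.mk_v, hγ]
  have eqs : res (⨆ j, N j).arrow (δ (-1) 0 hs) = Cochain.ofHom ((⨆ j, N j).arrow ≫ f) := by
    ext p
    refine hom_ext_sup N hN p (fun j => ?_)
    have e1 : res (inc N j) (res (⨆ j, N j).arrow (δ (-1) 0 hs)) =
        Cochain.ofHom ((N j).arrow ≫ f) := by
      rw [← res_comp, inc_arrow, ← δ_res, key j, δ_res]
      exact j.1.eq'
    have e2 : res (inc N j) (Cochain.ofHom ((⨆ j, N j).arrow ≫ f)) =
        Cochain.ofHom ((N j).arrow ≫ f) := by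
      rw [res_ofHom, ← Category.assoc, inc_arrow]
    have := congrArg (fun z => z.v p p (add_zero p)) (e1.trans e2.symm)
    simpa only [res_v] using this
  refine ⟨PH.mk' (⨆ j, N j) hs (acyclic_sup N hN (fun j => j.1.acyc')) eqs, fun z hz => ?_⟩
  rw [PH.le_def, PH.mk'_sub, PH.mk'_h]
  exact ⟨le_iSup N ⟨z, hz⟩, key ⟨z, hz⟩⟩

omit [IsGrothendieckAbelian.{v} A] in
lemma res_sub {N : CochainComplex A ℤ} (a : N ⟶ M) {n : ℤ} (γ γ' : Cochain M I n) :
    res a (γ - γ') = res a γ - res a γ' := Cochain.comp_sub _ _ _ _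

omit [IsGrothendieckAbelian.{v} A] in
lemma res_zero_hom {N : CochainComplex A ℤ} {n : ℤ} (γ : Cochain M I n) :
    res (0 : N ⟶ M) γ = 0 := by
  dsimp only [res]
  rw [Cochain.ofHom_zero, Cochain.zero_comp]

omit [IsGrothendieckAbelian.{v} A] in
lemma res_id {n : ℤ} (γ : Cochain M I n) : res (𝟙 M) γ = γ := by
  exact Cochain.id_comp γ

omit [IsGrothendieckAbelian.{v} A] in
lemma res_injective {N : CochainComplex A ℤ} (a : N ⟶ M) [IsIso a] {n : ℤ}
    {γ γ' : Cochain M I n} (h : res a γ = res a γ') : γ = γ' := by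
  have := congrArg (res (inv a)) h
  rwa [← res_comp, ← res_comp, IsIso.inv_hom_id, res_id, res_id] at this

/-- the base element -/
noncomputable def PH.base : PH f :=
  PH.mk' ⊥ 0
    (HomologicalComplex.acyclic_of_isZero _
      (IsZero.of_iso (isZero_zero _) Subobject.botCoeIsoZero))
    (by rw [Subobject.bot_arrow, res_zero_hom, zero_comp, Cochain.ofHom_zero])

lemma exists_larger (hI : ∀ n, Injective (I.X n)) {ι : Type*} (K : ι → CochainComplex A ℤ)
    (hKac : ∀ i, (K i).Acyclic)
    (hstar : ∀ M' : CochainComplex A ℤ, M'.Acyclic → ¬ IsZero M' →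
      ∃ (i : ι) (k : K i ⟶ M'), Mono k ∧ ¬ IsZero (K i))
    (hkill : ∀ (i : ι) (g : K i ⟶ I), Nonempty (Homotopy g 0))
    (hM : M.Acyclic) (m : PH f) (hm : m.sub ≠ ⊤) :
    ∃ m' : PH f, m ≤ m' ∧ ¬ (m'.sub ≤ m.sub) := by
  -- the quotient
  have hS : (ShortComplex.mk m.sub.arrow (cokernel.π m.sub.arrow)
      (cokernel.condition _)).ShortExact :=
    { exact := ShortComplex.exact_cokernel m.sub.arrow }
  have hqi : QuasiIso m.sub.arrow := by
    rw [quasiIso_iff]
    intro n
    rw [quasiIsoAt_iff_isIso_homologyMap]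
    exact ⟨0, (m.acyc' n).isZero_homology.eq_of_src _ _, (hM n).isZero_homology.eq_of_src _ _⟩
  have hC : (cokernel m.sub.arrow).Acyclic := hS.acyclic_X₃ hqi
  have hC0 : ¬ IsZero (cokernel m.sub.arrow) := by
    intro h
    apply hm
    haveI : Epi m.sub.arrow := Abelian.epi_of_cokernel_π_eq_zero _ (h.eq_of_tgt _ _)
    haveI : IsIso m.sub.arrow := isIso_of_mono_of_epi _
    exact (Subobject.isIso_arrow_iff_eq_top _).1 inferInstance
  obtain ⟨i, k, hk, hKi⟩ := hstar _ hC hC0
  -- the pullback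
  let a := pullback.fst (cokernel.π m.sub.arrow) k
  let b := pullback.snd (cokernel.π m.sub.arrow) k
  have hab : a ≫ cokernel.π m.sub.arrow = b ≫ k := pullback.condition
  let l : (m.sub : CochainComplex A ℤ) ⟶ pullback (cokernel.π m.sub.arrow) k :=
    pullback.lift m.sub.arrow 0 (by simp)
  have hla : l ≫ a = m.sub.arrow := pullback.lift_fst _ _ _
  have hlb : l ≫ b = 0 := pullback.lift_snd _ _ _
  haveI : Mono a := inferInstance
  haveI : Epi b := inferInstance
  haveI : Mono l := mono_of_mono_fac hla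
  have hlim : IsLimit (KernelFork.ofι l hlb) :=
    KernelFork.IsLimit.ofι' l hlb (fun {W} y hy => by
      have hy' : (y ≫ a) ≫ cokernel.π m.sub.arrow = 0 := by
        rw [Category.assoc, hab, ← Category.assoc, hy, zero_comp]
      refine ⟨Abelian.monoLift m.sub.arrow (y ≫ a) hy', ?_⟩
      apply pullback.hom_ext
      · rw [Category.assoc]
        change _ ≫ l ≫ a = y ≫ a
        rw [hla, Abelian.monoLift_comp]
      · rw [Category.assoc]
        change _ ≫ l ≫ b = y ≫ b
        rw [hlb, comp_zero, hy])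
  have hS' : (ShortComplex.mk l b hlb).ShortExact :=
    { exact := ShortComplex.exact_of_f_is_kernel _ hlim }
  have hP : (pullback (cokernel.π m.sub.arrow) k).Acyclic := hS'.acyclic_X₂ m.acyc' (hKac i)
  -- the correction of the homotopy
  let z : Cocycle M I 0 := Cocycle.mk (Cochain.ofHom f - δ (-1) 0 m.h) 1 (zero_add 1) (by
    rw [δ_sub, δ_δ, sub_zero]
    exact (Cocycle.ofHom f).δ_eq_zero 1)
  let g : M ⟶ I := Cocycle.homOf z
  have hg : Cochain.ofHom g = Cochain.ofHom f - δ (-1) 0 m.h :=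
    Cocycle.cochain_ofHom_homOf_eq_coe z
  have hNg : m.sub.arrow ≫ g = 0 := by
    apply Cochain.ofHom_injective
    rw [← res_ofHom, hg, res_sub, m.eq', res_ofHom, sub_self, Cochain.ofHom_zero]
  let gb : cokernel m.sub.arrow ⟶ I := cokernel.desc m.sub.arrow g hNg
  have hgb : cokernel.π m.sub.arrow ≫ gb = g := cokernel.π_desc _ _ _
  obtain ⟨ho⟩ := hkill i (k ≫ gb)
  obtain ⟨κ, hκ⟩ := Cochain.equivHomotopy _ _ ho
  rw [Cochain.ofHom_zero, add_zero] at hκ
  have hκP : δ (-1) 0 (res b κ) = Cochain.ofHom (a ≫ g) := by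
    rw [δ_res, ← hκ, res_ofHom, ← Category.assoc, ← hab, Category.assoc, hgb]
  obtain ⟨kt, hkt⟩ := exists_extension hI a (res b κ)
  have e : res a (δ (-1) 0 (m.h + kt)) = res a (Cochain.ofHom f) := by
    rw [δ_add, res_add, ← δ_res a 0 kt, hkt, hκP, ← res_ofHom a g, hg, res_sub]
    abel
  have harrow : (Subobject.mk a).arrow = (Subobject.underlyingIso a).hom ≫ a :=
    (Subobject.underlyingIso_hom_comp_eq_mk a).symm
  have hac' : ((Subobject.mk a : Subobject M) : CochainComplex A ℤ).Acyclic :=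
    fun n => (hP n).of_iso (Subobject.underlyingIso a).symm
  have heq' : res (Subobject.mk a).arrow (δ (-1) 0 (m.h + kt)) =
      Cochain.ofHom ((Subobject.mk a).arrow ≫ f) := by
    rw [harrow, res_comp, e, ← res_comp, res_ofHom]
  refine ⟨PH.mk' (Subobject.mk a) (m.h + kt) hac' heq', ?_, ?_⟩
  · rw [PH.le_def, PH.mk'_sub, PH.mk'_h]
    refine ⟨Subobject.le_mk_of_comm l hla, ?_⟩
    rw [res_add, ← hla, res_comp l a kt, hkt, ← res_comp, hlb, res_zero_hom, add_zero]
  · rw [PH.mk'_sub]
    intro hle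
    apply hKi
    have ha : a = (Subobject.underlyingIso a).inv ≫ Subobject.ofLE _ _ hle ≫ m.sub.arrow := by
      rw [Subobject.ofLE_arrow, harrow, Iso.inv_hom_id_assoc]
    have haπ : a ≫ cokernel.π m.sub.arrow = 0 := by
      calc a ≫ cokernel.π m.sub.arrow
          = ((Subobject.underlyingIso a).inv ≫ Subobject.ofLE _ _ hle ≫ m.sub.arrow) ≫
              cokernel.π m.sub.arrow := congrArg (fun t => t ≫ cokernel.π m.sub.arrow) ha
        _ = 0 := by simp only [Category.assoc, cokernel.condition, comp_zero]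
    have hb0 : b = 0 := by
      rw [← cancel_mono k, ← hab, haπ, zero_comp]
    exact IsZero.of_epi_eq_zero b hb0

/-- the criterion: a complex with injective terms which kills a family of acyclic complexes
detecting all nonzero acyclic complexes is K-injective -/
theorem isKInjective_of_kills (hI : ∀ n, Injective (I.X n)) {ι : Type*}
    (K : ι → CochainComplex A ℤ) (hKac : ∀ i, (K i).Acyclic)
    (hstar : ∀ M' : CochainComplex A ℤ, M'.Acyclic → ¬ IsZero M' →
      ∃ (i : ι) (k : K i ⟶ M'), Mono k ∧ ¬ IsZero (K i))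
    (hkill : ∀ (i : ι) (g : K i ⟶ I), Nonempty (Homotopy g 0)) : I.IsKInjective := by
  refine ⟨fun {M} f hM => ?_⟩
  obtain ⟨m, hm⟩ := zorn_le (α := PH f) (fun c hc => by
    by_cases hne : c.Nonempty
    · obtain ⟨ub, hub⟩ := exists_ub hI c hc hne
      exact ⟨ub, hub⟩
    · exact ⟨PH.base, fun z hz => (hne ⟨z, hz⟩).elim⟩)
  have htop : m.sub = ⊤ := by
    by_contra hne
    obtain ⟨m', hm', hnot⟩ := exists_larger hI K hKac hstar hkill hM m hne
    exact hnot (hm hm').1
  have heq := m.eq'
  rw [← res_ofHom] at heq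
  have hiso : IsIso m.sub.arrow := by
    rw [htop]
    infer_instance
  have := res_injective m.sub.arrow heq
  exact ⟨(Cochain.equivHomotopy f 0).symm ⟨m.h, by rw [this, Cochain.ofHom_zero, add_zero]⟩⟩

end Zorn

end Groth.Agent.Helper3.KInjC
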