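import Mathlib

set_option autoImplicit false
set_option linter.unusedSectionVars false
universe w v u

open CategoryTheory CategoryTheory.Limits

namespace Groth.Agent.Helper3.DCoprod

section Termwise

variable {A : Type u} [Category.{v} A] [Preadditive A] {J : Type w} [HasCoproductsOfShape J A]

/-- termwise coproduct of a family of cochain complexes -/
noncomputable abbrev cK (K : J → CochainComplex A ℤ) : CochainComplex A ℤ where
  X n := ∐ fun j => (K j).X n
  d n m := Limits.Sigma.map (fun j => (K j).d n m)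
  shape n m h := by
    apply Limits.Sigma.hom_ext
    intro j
    rw [Limits.Sigma.ι_map, (K j).shape n m h, zero_comp, comp_zero]
  d_comp_d' n m l _ _ := by
    apply Limits.Sigma.hom_ext
    intro j
    rw [← Category.assoc, Limits.Sigma.ι_map, Category.assoc, Limits.Sigma.ι_map, ← Category.assoc,
      (K j).d_comp_d, zero_comp, comp_zero]

/-- the inclusion of a summand -/
noncomputable abbrev inK (K : J → CochainComplex A ℤ) (j : J) : K j ⟶ cK K where
  f n := Limits.Sigma.ι (fun j => (K j).X n) j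
  comm' n m _ := by
    change _ ≫ Limits.Sigma.map (fun j => (K j).d n m) = _
    rw [Limits.Sigma.ι_map]

/-- the map out of the termwise coproduct -/
noncomputable abbrev descK {K : J → CochainComplex A ℤ} {L : CochainComplex A ℤ}
    (g : ∀ j, K j ⟶ L) : cK K ⟶ L where
  f n := Limits.Sigma.desc (fun j => (g j).f n)
  comm' n m _ := by
    apply Limits.Sigma.hom_ext
    intro j
    change _ ≫ _ ≫ L.d n m = _ ≫ Limits.Sigma.map (fun j => (K j).d n m) ≫ _
    rw [← Category.assoc, Limits.Sigma.ι_desc, ← Category.assoc, Limits.Sigma.ι_map, Category.assoc,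
      Limits.Sigma.ι_desc, (g j).comm]

lemma inK_descK {K : J → CochainComplex A ℤ} {L : CochainComplex A ℤ}
    (g : ∀ j, K j ⟶ L) (j : J) : inK K j ≫ descK g = g j := by
  ext n
  change Limits.Sigma.ι (fun j => (K j).X n) j ≫ Limits.Sigma.desc (fun j => (g j).f n) = _
  rw [Limits.Sigma.ι_desc]

/-- the map between termwise coproducts -/
noncomputable def mapK {K K' : J → CochainComplex A ℤ} (s : ∀ j, K' j ⟶ K j) : cK K' ⟶ cK K :=
  descK (fun j => s j ≫ inK K j)

lemma inK_mapK {K K' : J → CochainComplex A ℤ} (s : ∀ j, K' j ⟶ K j) (j : J) :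
    inK K' j ≫ mapK s = s j ≫ inK K j := inK_descK _ j

lemma mapK_f {K K' : J → CochainComplex A ℤ} (s : ∀ j, K' j ⟶ K j) (n : ℤ) :
    (mapK s).f n = Limits.Sigma.map (fun j => (s j).f n) := by
  change Limits.Sigma.desc (fun j => (s j ≫ inK K j).f n) = _
  apply Limits.Sigma.hom_ext
  intro j
  rw [Limits.Sigma.ι_map, Limits.Sigma.ι_desc]
  rfl

/-- assembling null-homotopies -/
noncomputable def homotopyK {K : J → CochainComplex A ℤ} {L : CochainComplex A ℤ} (f : cK K ⟶ L)
    (h : ∀ j, Homotopy (inK K j ≫ f) 0) : Homotopy f 0 where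
  hom p q := Limits.Sigma.desc (fun j => (h j).hom p q)
  zero p q hpq := by
    apply Limits.Sigma.hom_ext
    intro j
    rw [Limits.Sigma.ι_desc, (h j).zero p q hpq]
    exact comp_zero.symm
  comm p := by
    apply Limits.Sigma.hom_ext
    intro j
    have hj := (h j).comm p
    rw [dNext_eq _ (show (ComplexShape.up ℤ).Rel p (p + 1) from rfl),
      prevD_eq _ (show (ComplexShape.up ℤ).Rel (p - 1) p by simp)] at hj ⊢
    change Limits.Sigma.ι (fun j => (K j).X p) j ≫ f.f p = _ at hj
    rw [hj]
    simp only [HomologicalComplex.zero_f, add_zero, Preadditive.comp_add]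
    congr 1
    · change _ = _ ≫ Limits.Sigma.map (fun j => (K j).d p (p + 1)) ≫ _
      rw [← Category.assoc, Limits.Sigma.ι_map, Category.assoc, Limits.Sigma.ι_desc]
    · rw [← Category.assoc, Limits.Sigma.ι_desc]

end Termwise

section QIso

variable {A : Type u} [Category.{v} A] [Abelian A] {J : Type w}
  [HasColimitsOfShape (Discrete J) A] [HasExactColimitsOfShape (Discrete J) A]

/-- the family as a complex in the functor category -/
def famCx (K : J → CochainComplex A ℤ) : CochainComplex (Discrete J ⥤ A) ℤ where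
  X n := Discrete.functor (fun j => (K j).X n)
  d n m := Discrete.natTrans (fun j => (K j.as).d n m)
  shape n m h := by
    ext ⟨j⟩
    simp [(K j).shape n m h]
  d_comp_d' n m l _ _ := by
    ext ⟨j⟩
    simp

/-- a family of maps as a map in the functor category -/
def famMap {K K' : J → CochainComplex A ℤ} (s : ∀ j, K' j ⟶ K j) : famCx K' ⟶ famCx K where
  f n := Discrete.natTrans (fun j => (s j.as).f n)
  comm' n m _ := by
    ext ⟨j⟩
    simp [famCx]

lemma quasiIso_famMap {K K' : J → CochainComplex A ℤ} (s : ∀ j, K' j ⟶ K j)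
    (hs : ∀ j, QuasiIso (s j)) : QuasiIso (famMap s) := by
  rw [HomologicalComplex.quasiIso_iff_evaluation]
  rintro ⟨j⟩
  refine (_root_.quasiIso_iff_of_arrow_mk_iso _ (s j) ?_).2 (hs j)
  refine Arrow.isoMk (HomologicalComplex.Hom.isoOfComponents (fun n => Iso.refl _) ?_)
    (HomologicalComplex.Hom.isoOfComponents (fun n => Iso.refl _) ?_) ?_
  · intro n m _
    simp [famCx]
    exact (Category.id_comp _).trans (Category.comp_id _).symm
  · intro n m _
    simp [famCx]
    exact (Category.id_comp _).trans (Category.comp_id _).symm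
  · ext n
    simp [famMap, famCx]
    exact (Category.id_comp _).trans (Category.comp_id _).symm

/-- the termwise coproduct is the image of the family under `colim` -/
noncomputable def colimIso (K : J → CochainComplex A ℤ) :
    ((colim : (Discrete J ⥤ A) ⥤ A).mapHomologicalComplex (ComplexShape.up ℤ)).obj (famCx K) ≅
      cK K :=
  HomologicalComplex.Hom.isoOfComponents (fun n => Iso.refl _) (by
    intro n m _
    exact (Category.id_comp _).trans (Category.comp_id _).symm)

lemma quasiIso_mapK {K K' : J → CochainComplex A ℤ} (s : ∀ j, K' j ⟶ K j)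
    (hs : ∀ j, QuasiIso (s j)) : QuasiIso (mapK s) := by
  have h1 := quasiIso_famMap s hs
  have h2 : QuasiIso (((colim : (Discrete J ⥤ A) ⥤ A).mapHomologicalComplex
      (ComplexShape.up ℤ)).map (famMap s)) := inferInstance
  refine (_root_.quasiIso_iff_of_arrow_mk_iso _ (mapK s) ?_).1 h2
  refine Arrow.isoMk (colimIso K') (colimIso K) ?_
  ext n
  change (𝟙 _ ≫ (mapK s).f n) = colimMap (Discrete.natTrans (fun j => (s j.as).f n)) ≫ 𝟙 _
  rw [mapK_f]
  exact (Category.id_comp _).trans (Category.comp_id _).symm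

end QIso

section Derived

universe w'

variable {A : Type u} [Category.{v} A] [Abelian A] [HasDerivedCategory.{w'} A] {J : Type w}
  [HasColimitsOfShape (Discrete J) A] [HasExactColimitsOfShape (Discrete J) A]

open DerivedCategory

lemma exists_desc (K : J → CochainComplex A ℤ) (L : CochainComplex A ℤ)
    (φ : ∀ j, Q.obj (K j) ⟶ Q.obj L) :
    ∃ Φ : Q.obj (cK K) ⟶ Q.obj L, ∀ j, Q.map (inK K j) ≫ Φ = φ j := by
  have h := fun j => right_fac (φ j)
  choose K' s hs g hg using h
  have hq : ∀ j, QuasiIso (s j) := fun j => (isIso_Q_map_iff_quasiIso A _).1 (hs j)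
  have hS : IsIso (Q.map (mapK s)) := (isIso_Q_map_iff_quasiIso A _).2 (quasiIso_mapK s hq)
  refine ⟨inv (Q.map (mapK s)) ≫ Q.map (descK g), fun j => ?_⟩
  have h1 : Q.map (inK K j) = inv (Q.map (s j)) ≫ Q.map (inK K' j) ≫ Q.map (mapK s) := by
    rw [← Functor.map_comp, inK_mapK, Functor.map_comp, IsIso.inv_hom_id_assoc]
  rw [h1, Category.assoc, Category.assoc, IsIso.hom_inv_id_assoc, ← Functor.map_comp, inK_descK,
    hg]

lemma exists_qis_homotopy {M N : CochainComplex A ℤ} (u : M ⟶ N) (hu : Q.map u = 0) :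
    ∃ (M' : CochainComplex A ℤ) (s : M' ⟶ M), QuasiIso s ∧ Nonempty (Homotopy (s ≫ u) 0) := by
  have h1 : Qh.map ((HomotopyCategory.quotient _ _).map u) =
      Qh.map ((HomotopyCategory.quotient _ _).map (0 : M ⟶ N)) := by
    have h2 := quotientCompQhIso_hom_naturality u
    rw [hu, comp_zero] at h2
    have h3 : Qh.map ((HomotopyCategory.quotient _ _).map u) = 0 := by
      rw [← cancel_mono ((quotientCompQhIso A).hom.app N), h2, zero_comp]
    rw [h3, Functor.map_zero, Functor.map_zero]
  rw [MorphismProperty.map_eq_iff_precomp Qh (HomotopyCategory.quasiIso A (ComplexShape.up ℤ))] at h1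
  obtain ⟨Z, s, hs, hfac⟩ := h1
  obtain ⟨M', rfl⟩ := HomotopyCategory.quotient_obj_surjective Z
  obtain ⟨s, rfl⟩ := (HomotopyCategory.quotient _ _).map_surjective s
  rw [HomotopyCategory.quotient_map_mem_quasiIso_iff] at hs
  rw [← Functor.map_comp, ← Functor.map_comp, comp_zero] at hfac
  exact ⟨M', s, hs, ⟨HomotopyCategory.homotopyOfEq _ _ hfac⟩⟩

lemma eq_zero_of_inK (K : J → CochainComplex A ℤ) (L : CochainComplex A ℤ)
    (Φ : Q.obj (cK K) ⟶ Q.obj L) (hΦ : ∀ j, Q.map (inK K j) ≫ Φ = 0) : Φ = 0 := by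
  obtain ⟨L', g, t, ht, rfl⟩ := left_fac Φ
  have h1 : ∀ j, Q.map (inK K j ≫ g) = 0 := by
    intro j
    have := hΦ j
    rw [← Category.assoc, ← Functor.map_comp] at this
    rw [← cancel_mono (inv (Q.map t)), this, zero_comp]
  have h2 := fun j => exists_qis_homotopy _ (h1 j)
  choose M' s hs hh using h2
  have hS : IsIso (Q.map (mapK s)) := (isIso_Q_map_iff_quasiIso A _).2 (quasiIso_mapK s hs)
  have h3 : Homotopy (mapK s ≫ g) 0 := homotopyK _ (fun j => by
    rw [← Category.assoc, inK_mapK, Category.assoc]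
    exact (hh j).some)
  have h4 : Q.map (mapK s ≫ g) = 0 := by
    rw [Q_map_eq_of_homotopy A h3, Functor.map_zero]
  rw [Functor.map_comp] at h4
  have h5 : Q.map g = 0 := by
    rw [← cancel_epi (Q.map (mapK s)), h4, comp_zero]
  rw [h5, zero_comp]

lemma exists_desc' (K : J → CochainComplex A ℤ) (Y : DerivedCategory A)
    (φ : ∀ j, Q.obj (K j) ⟶ Y) :
    ∃ Φ : Q.obj (cK K) ⟶ Y, ∀ j, Q.map (inK K j) ≫ Φ = φ j := by
  obtain ⟨Φ, hΦ⟩ := exists_desc K (Q.objPreimage Y) (fun j => φ j ≫ (Q.objObjPreimageIso Y).inv)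
  exact ⟨Φ ≫ (Q.objObjPreimageIso Y).hom, fun j => by
    rw [← Category.assoc, hΦ, Category.assoc, Iso.inv_hom_id, Category.comp_id]⟩

lemma eq_zero_of_inK' (K : J → CochainComplex A ℤ) (Y : DerivedCategory A)
    (Φ : Q.obj (cK K) ⟶ Y) (hΦ : ∀ j, Q.map (inK K j) ≫ Φ = 0) : Φ = 0 := by
  have := eq_zero_of_inK K (Q.objPreimage Y) (Φ ≫ (Q.objObjPreimageIso Y).inv) (fun j => by
    rw [← Category.assoc, hΦ, zero_comp])
  rw [← cancel_mono (Q.objObjPreimageIso Y).inv, this, zero_comp]

/-- the image of the termwise coproduct is a coproduct in the derived category -/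
noncomputable def isColimitCofan (K : J → CochainComplex A ℤ) :
    IsColimit (Cofan.mk (Q.obj (cK K)) (fun j => Q.map (inK K j))) :=
  Cofan.IsColimit.mk _ (fun s => (exists_desc' K s.pt (fun j => s.inj j)).choose)
    (fun s j => (exists_desc' K s.pt (fun j => s.inj j)).choose_spec j)
    (fun s m hm => by
      have h := (exists_desc' K s.pt (fun j => s.inj j)).choose_spec
      rw [← sub_eq_zero]
      apply eq_zero_of_inK'
      intro j
      rw [Preadditive.comp_sub]
      have h1 := hm j
      have h2 := h j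
      change Q.map (inK K j) ≫ m = s.inj j at h1
      rw [h1, h2, sub_self])

theorem hasCoproductsOfShape : HasCoproductsOfShape J (DerivedCategory A) := by
  constructor
  intro F
  let K : J → CochainComplex A ℤ := fun j => Q.objPreimage (F.obj ⟨j⟩)
  have : HasColimit (Discrete.functor (fun j => Q.obj (K j))) := ⟨⟨⟨_, isColimitCofan K⟩⟩⟩
  exact hasColimit_of_iso (F := Discrete.functor (fun j => Q.obj (K j)))
    (Discrete.natIso (fun i => (Q.objObjPreimageIso (F.obj i)).symm))

end Derived

end Groth.Agent.Helper3.DCoprod
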