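import Mathlib

/-!
# Functorial injective embeddings in Grothendieck abelian categories

From the functorial factorisation (mono, rlp of monos) given by the small object argument.
-/

open CategoryTheory Limits MorphismProperty ZeroObject
universe w v u

namespace Groth.Agent.Helper3.FInj

variable {A : Type u} [Category.{v} A] [Abelian A] [IsGrothendieckAbelian.{w} A]

/-- the functor `X ↦ (X ⟶ 0)` -/
noncomputable def toZero : A ⥤ Arrow A where
  obj X := Arrow.mk (0 : X ⟶ (0 : A))
  map {X Y} f := Arrow.homMk (u := f) (v := 𝟙 (0 : A)) ((isZero_zero A).eq_of_tgt _ _)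
  map_id X := by ext <;> simp
  map_comp f g := by ext <;> simp

theorem exists_functorial_injective :
    ∃ (J : A ⥤ A) (j : 𝟭 A ⟶ J), ∀ X : A, Injective (J.obj X) ∧ Mono (j.app X) := by
  let data := functorialFactorizationData (monomorphisms A) (monomorphisms A).rlp
  let j : 𝟭 A ⟶ toZero ⋙ data.Z :=
    { app := fun X => data.i.app (toZero.obj X)
      naturality := fun X Y f => data.i.naturality (toZero.map f) }
  refine ⟨toZero ⋙ data.Z, j, fun X => ⟨?_, ?_⟩⟩
  · have hp := data.hp (toZero.obj X)
    have h0 : data.p.app (toZero.obj X) = 0 := (isZero_zero A).eq_of_tgt _ _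
    rw [h0] at hp
    exact (injective_iff_rlp_monomorphisms_zero _).2 hp
  · exact data.hi (toZero.obj X)

/-- presheaves of abelian groups on a small category form a Grothendieck abelian category -/
theorem isGrothendieckAbelian_presheafAb {C : Type u} [SmallCategory C] :
    IsGrothendieckAbelian.{u} (Cᵒᵖ ⥤ AddCommGrpCat.{u}) :=
  haveI : AB5OfSize.{u,u} (Cᵒᵖ ⥤ AddCommGrpCat.{u}) := ⟨fun _ _ _ => inferInstance⟩
  {}

/-- presheaves of modules on a small category form a Grothendieck abelian category -/
theorem isGrothendieckAbelian_presheafOfModules {C : Type u} [SmallCategory C]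
    (O : Cᵒᵖ ⥤ RingCat.{u}) : IsGrothendieckAbelian.{u} (PresheafOfModules.{u} O) :=
  haveI : AB5OfSize.{u,u} (PresheafOfModules.{u} O) :=
    ⟨fun J _ _ => HasExactColimitsOfShape.domain_of_functor J (PresheafOfModules.toPresheaf.{u} O)⟩
  haveI : HasSeparator (PresheafOfModules.{u} O) :=
    ⟨⟨_, ObjectProperty.IsSeparating.isSeparator_coproduct
      (f := (yoneda ⋙ PresheafOfModules.free O).obj) (PresheafOfModules.freeYoneda.isSeparating O)⟩⟩
  {}

end Groth.Agent.Helper3.FInj
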