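import Mathlib
import Groth.Agent.Lib.Helper3.FInj

/-!
# Functorial termwise-mono quasi-isomorphic embeddings of complexes
-/

open CategoryTheory Limits CochainComplex HomComplex

universe w v u

namespace Groth.Agent.Helper3.QisEmb

variable {A : Type u} [Category.{v} A] [Abelian A]

/-- In a short exact sequence of complexes with acyclic third term, the first map is a
quasi-isomorphism. -/
theorem quasiIso_f_of_acyclic_X₃ {S : ShortComplex (CochainComplex A ℤ)} (hS : S.ShortExact)
    (h₃ : ∀ n, IsZero (S.X₃.homology n)) : QuasiIso S.f := by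
  rw [quasiIso_iff]
  intro n
  rw [quasiIsoAt_iff_isIso_homologyMap]
  have hm : Mono (HomologicalComplex.homologyMap S.f n) :=
    (hS.homology_exact₁ (n - 1) n (by simp)).mono_g ((h₃ _).eq_of_src _ _)
  have he : Epi (HomologicalComplex.homologyMap S.f n) :=
    (hS.homology_exact₂ n).epi_f ((h₃ _).eq_of_tgt _ _)
  exact isIso_of_mono_of_epi _

/-- a complex with a null-homotopic identity is acyclic -/
theorem isZero_homology_of_homotopy {K : CochainComplex A ℤ} (h : Homotopy (𝟙 K) 0) (n : ℤ) :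
    IsZero (K.homology n) := by
  rw [IsZero.iff_id_eq_zero, ← HomologicalComplex.homologyMap_id, h.homologyMap_eq n,
    HomologicalComplex.homologyMap_zero]

lemma inl_v_map_f {K₁ L₁ K₂ L₂ : CochainComplex A ℤ} (φ₁ : K₁ ⟶ L₁) (φ₂ : K₂ ⟶ L₂)
    (a : K₁ ⟶ K₂) (b : L₁ ⟶ L₂) (comm : φ₁ ≫ b = a ≫ φ₂) (p q : ℤ) (hpq : p + -1 = q) :
    (mappingCone.inl φ₁).v p q hpq ≫ (mappingCone.map φ₁ φ₂ a b comm).f q =
      a.f p ≫ (mappingCone.inl φ₂).v p q hpq := by
  simp [mappingCone.map]

section Fiber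

variable (S : ShortComplex (CochainComplex A ℤ))

lemma jHom_aux (a b c d : ℤ) (hab : a + -1 = b) (hcd : c + -1 = d) (hac : a + 1 = c) :
    S.f.f a ≫ (mappingCone.inl S.g).v a b hab ≫ (mappingCone S.g).d b d =
      -(S.X₁.d a c ≫ S.f.f c ≫ (mappingCone.inl S.g).v c d hcd) := by
  obtain rfl : a = d := by omega
  subst hab hac
  rw [mappingCone.inl_v_d S.g a (a + -1) (a + 1) rfl (by omega)]
  have h1 : S.f.f a ≫ S.g.f a = 0 := by
    rw [← HomologicalComplex.comp_f, S.zero, HomologicalComplex.zero_f]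
  simp [Preadditive.comp_sub, reassoc_of% h1]

/-- the canonical map from the kernel term to the (shifted) mapping cone of `S.g` -/
noncomputable def jHom : S.X₁ ⟶ (mappingCone S.g)⟦(-1 : ℤ)⟧ where
  f n := S.f.f n ≫ (mappingCone.inl S.g).v n (n + -1) rfl
  comm' i j hij := by
    have hij' : i + 1 = j := hij
    change (S.f.f i ≫ (mappingCone.inl S.g).v i (i + -1) rfl) ≫
      ((-1 : ℤ).negOnePow • (mappingCone S.g).d (i + -1) (j + -1)) = _
    rw [Linear.comp_units_smul, Category.assoc,
      jHom_aux S i (i + -1) j (j + -1) rfl rfl hij']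
    simp

/-- the map from the cone of `S.g` to the cone of the identity of `S.X₃` -/
noncomputable def pHom : mappingCone S.g ⟶ mappingCone (𝟙 S.X₃) :=
  mappingCone.map S.g (𝟙 S.X₃) S.g (𝟙 S.X₃) (by simp)

@[reassoc]
lemma inl_pHom (a b : ℤ) (hab : a + -1 = b) :
    (mappingCone.inl S.g).v a b hab ≫ (pHom S).f b =
      S.g.f a ≫ (mappingCone.inl (𝟙 S.X₃)).v a b hab := by
  simp [pHom, mappingCone.map]

@[reassoc]
lemma inr_pHom (b : ℤ) :
    (mappingCone.inr S.g).f b ≫ (pHom S).f b = (mappingCone.inr (𝟙 S.X₃)).f b := by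
  simp [pHom, mappingCone.map]

@[reassoc]
lemma pHom_fst (b a : ℤ) (hba : b + 1 = a) :
    (pHom S).f b ≫ (mappingCone.fst (𝟙 S.X₃)).1.v b a hba =
      (mappingCone.fst S.g).1.v b a hba ≫ S.g.f a := by
  apply mappingCone.ext_from S.g a b hba
  · rw [inl_pHom_assoc S a b (by omega)]
    simp
  · rw [inr_pHom_assoc]
    simp

@[reassoc]
lemma pHom_snd (b : ℤ) :
    (pHom S).f b ≫ (mappingCone.snd (𝟙 S.X₃)).v b b (add_zero b) =
      (mappingCone.snd S.g).v b b (add_zero b) := by
  apply mappingCone.ext_from S.g (b + 1) b rfl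
  · rw [inl_pHom_assoc S (b + 1) b (by omega)]
    simp
  · rw [inr_pHom_assoc]
    simp

variable {S}

lemma degreewise_shortExact (hS : S.ShortExact) (a b : ℤ) (hab : a + -1 = b) :
    (ShortComplex.mk (S.f.f a ≫ (mappingCone.inl S.g).v a b hab) ((pHom S).f b) (by
      have h1 : S.f.f a ≫ S.g.f a = 0 := by
        rw [← HomologicalComplex.comp_f, S.zero, HomologicalComplex.zero_f]
      rw [Category.assoc, inl_pHom, reassoc_of% h1, zero_comp])).ShortExact := by
  have hba : b + 1 = a := by omega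
  have hSa := hS.map_of_exact (HomologicalComplex.eval A (ComplexShape.up ℤ) a)
  have h1 : S.f.f a ≫ S.g.f a = 0 := by
    rw [← HomologicalComplex.comp_f, S.zero, HomologicalComplex.zero_f]
  have hmf : Mono (S.f.f a) := hSa.mono_f
  have heg : Epi (S.g.f a) := hSa.epi_g
  have hminl : Mono ((mappingCone.inl S.g).v a b hab) :=
    mono_of_mono_fac (mappingCone.inl_v_fst_v S.g a b hba)
  refine ShortComplex.ShortExact.mk' ?_ ?_ ?_
  · rw [ShortComplex.exact_iff_exact_up_to_refinements]
    intro W x hx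
    dsimp at x hx ⊢
    have hy : (x ≫ (mappingCone.fst S.g).1.v b a hba) ≫ S.g.f a = 0 := by
      rw [Category.assoc, ← pHom_fst, reassoc_of% hx, zero_comp]
    obtain ⟨W', π, hπ, x₁, hx₁⟩ : ∃ (W' : A) (π : W' ⟶ W) (_ : Epi π) (x₁ : W' ⟶ S.X₁.X a),
        π ≫ x ≫ (mappingCone.fst S.g).1.v b a hba = x₁ ≫ S.f.f a :=
      hSa.exact.exact_up_to_refinements _ hy
    refine ⟨W', π, hπ, x₁, ?_⟩
    apply mappingCone.ext_to S.g b a hba
    · refine (Category.assoc _ _ _).trans (hx₁.trans ?_)
      simp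
    · have : x ≫ (mappingCone.snd S.g).v b b (add_zero b) = 0 := by
        rw [← pHom_snd, reassoc_of% hx, zero_comp]
      simp [this]
  · dsimp
    exact mono_comp _ _
  · dsimp
    constructor
    intro Z u v huv
    apply mappingCone.ext_from (𝟙 S.X₃) a b hba
    · rw [← cancel_epi (S.g.f a), ← inl_pHom_assoc, ← inl_pHom_assoc, huv]
    · rw [← inr_pHom_assoc, ← inr_pHom_assoc, huv]

lemma jHom_pHom : jHom S ≫ (pHom S)⟦(-1 : ℤ)⟧' = 0 := by
  ext n
  have h1 : S.f.f n ≫ S.g.f n = 0 := by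
    rw [← HomologicalComplex.comp_f, S.zero, HomologicalComplex.zero_f]
  change (S.f.f n ≫ (mappingCone.inl S.g).v n (n + -1) rfl) ≫ (pHom S).f (n + -1) = 0
  rw [Category.assoc, inl_pHom, reassoc_of% h1, zero_comp]

lemma shortExact_jHom (hS : S.ShortExact) :
    (ShortComplex.mk (jHom S) ((pHom S)⟦(-1 : ℤ)⟧') jHom_pHom).ShortExact :=
  HomologicalComplex.shortExact_of_degreewise_shortExact _
    (fun n => degreewise_shortExact hS n (n + -1) rfl)

theorem quasiIso_jHom (hS : S.ShortExact) : QuasiIso (jHom S) := by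
  refine quasiIso_f_of_acyclic_X₃ (shortExact_jHom hS) (fun n => ?_)
  have h := (mappingCone.homotopyToZeroOfId S.X₃).shift (-1 : ℤ)
  refine isZero_homology_of_homotopy ((Homotopy.ofEq ?_).trans (h.trans (Homotopy.ofEq ?_))) n
  · exact (CategoryTheory.Functor.map_id _ _).symm
  · exact Functor.map_zero _ _ _

end Fiber

section Emb

variable (J : A ⥤ A) (ι : 𝟭 A ⟶ J)

/-- the cofree-type complex on the graded object `J (M^n)` -/
noncomputable abbrev EObj (M : CochainComplex A ℤ) : CochainComplex A ℤ :=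
  CochainComplex.of (fun n => J.obj (M.X n) ⊞ J.obj (M.X (n + 1)))
    (fun n => biprod.snd ≫ biprod.inl) (fun n => by simp)

lemma EObj_d (M : CochainComplex A ℤ) (n : ℤ) :
    (EObj J M).d n (n + 1) = biprod.snd ≫ biprod.inl :=
  CochainComplex.of_d (fun n => J.obj (M.X n) ⊞ J.obj (M.X (n + 1)))
    (fun n => biprod.snd ≫ biprod.inl) n

/-- functoriality of `EObj` -/
noncomputable def EMap {M M' : CochainComplex A ℤ} (f : M ⟶ M') : EObj J M ⟶ EObj J M' :=
  CochainComplex.ofHom
    (fun n => biprod.map (J.map (f.f n)) (J.map (f.f (n + 1)))) (fun n => by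
      rw [EObj_d, EObj_d]; simp)

lemma EMap_f {M M' : CochainComplex A ℤ} (f : M ⟶ M') (n : ℤ) :
    (EMap J f).f n = biprod.map (J.map (f.f n)) (J.map (f.f (n + 1))) := rfl

/-- `EObj` as a functor -/
noncomputable def EFunctor : CochainComplex A ℤ ⥤ CochainComplex A ℤ where
  obj := EObj J
  map f := EMap J f
  map_id M := by
    refine HomologicalComplex.hom_ext _ _ (fun n => ?_)
    rw [EMap_f]
    change _ = 𝟙 (J.obj (M.X n) ⊞ J.obj (M.X (n + 1)))
    ext <;> simp
  map_comp f g := by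
    refine HomologicalComplex.hom_ext _ _ (fun n => ?_)
    rw [HomologicalComplex.comp_f, EMap_f, EMap_f, EMap_f]
    ext <;> simp

/-- the embedding `M ⟶ EObj M` -/
noncomputable def eApp (M : CochainComplex A ℤ) : M ⟶ EObj J M where
  f n := biprod.lift (ι.app (M.X n)) (M.d n (n + 1) ≫ ι.app (M.X (n + 1)))
  comm' i j hij := by
    obtain rfl : i + 1 = j := hij
    rw [EObj_d]
    ext <;> simp

/-- the embedding as a natural transformation -/
noncomputable def eNat : 𝟭 (CochainComplex A ℤ) ⟶ EFunctor J where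
  app M := eApp J ι M
  naturality M M' f := by
    refine HomologicalComplex.hom_ext _ _ (fun n => ?_)
    change f.f n ≫ (eApp J ι M').f n = (eApp J ι M).f n ≫ (EMap J f).f n
    rw [EMap_f]
    have h1 := ι.naturality (f.f n)
    have h2 := ι.naturality (f.f (n + 1))
    dsimp at h1 h2
    ext
    · simp [eApp, h1]
    · simp [eApp, h2]

end Emb

section Main

variable (J : A ⥤ A) (ι : 𝟭 A ⟶ J)

lemma eApp_f_fst (M : CochainComplex A ℤ) (n : ℤ) :
    (eApp J ι M).f n ≫ biprod.fst = ι.app (M.X n) := by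
  simp [eApp]

/-- the short complex `𝟭 ⟶ E ⟶ cokernel` of endofunctors of cochain complexes -/
noncomputable def sesFunctor : ShortComplex (CochainComplex A ℤ ⥤ CochainComplex A ℤ) :=
  ShortComplex.mk (eNat J ι) (cokernel.π (eNat J ι)) (cokernel.condition _)

variable {J ι}

lemma mono_eApp_f (hι : ∀ X, Mono (ι.app X)) (M : CochainComplex A ℤ) (n : ℤ) :
    Mono ((eApp J ι M).f n) := by
  have := hι (M.X n)
  exact mono_of_mono_fac (eApp_f_fst J ι M n)

lemma sesFunctor_shortExact (hι : ∀ X, Mono (ι.app X)) : (sesFunctor J ι).ShortExact := by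
  have : Mono (eNat J ι) := by
    have : ∀ M, Mono ((eNat J ι).app M) := fun M =>
      HomologicalComplex.mono_of_mono_f _ (fun n => mono_eApp_f hι M n)
    exact NatTrans.mono_of_mono_app _
  have : Epi (cokernel.π (eNat J ι)) := inferInstance
  exact ShortComplex.ShortExact.mk' (ShortComplex.exact_cokernel _) ‹_› ‹_›

variable (J ι)

/-- evaluation of `sesFunctor` at a complex -/
noncomputable def sesApp (M : CochainComplex A ℤ) : ShortComplex (CochainComplex A ℤ) :=
  (sesFunctor J ι).map ((evaluation _ _).obj M)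

variable {J ι}

lemma sesApp_shortExact (hι : ∀ X, Mono (ι.app X)) (M : CochainComplex A ℤ) :
    (sesApp J ι M).ShortExact :=
  (sesFunctor_shortExact hι).map_of_exact _

variable (J ι)

/-- `M ↦ (E M ⟶ Q M)` -/
noncomputable def arrowFunctor : CochainComplex A ℤ ⥤ Arrow (CochainComplex A ℤ) where
  obj M := Arrow.mk ((cokernel.π (eNat J ι)).app M)
  map f := Arrow.homMk ((EFunctor J).map f) ((cokernel (eNat J ι)).map f)
    ((cokernel.π (eNat J ι)).naturality f)

/-- the mapping cone as a functor on the arrow category -/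
noncomputable def coneFunctor : Arrow (CochainComplex A ℤ) ⥤ CochainComplex A ℤ where
  obj f := mappingCone f.hom
  map φ := mappingCone.map _ _ φ.left φ.right φ.w.symm
  map_id f := mappingCone.map_id _
  map_comp φ ψ := mappingCone.map_comp _ _ _ _ _ _ _ _ _

/-- the functor `N` -/
noncomputable def NFunctor : CochainComplex A ℤ ⥤ CochainComplex A ℤ :=
  arrowFunctor J ι ⋙ coneFunctor ⋙ shiftFunctor (CochainComplex A ℤ) (-1 : ℤ)

/-- the natural transformation `𝟭 ⟶ N` -/
noncomputable def jNat : 𝟭 (CochainComplex A ℤ) ⟶ NFunctor J ι where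
  app M := jHom (sesApp J ι M)
  naturality M M' f := by
    refine HomologicalComplex.hom_ext _ _ (fun n => ?_)
    have h1 : f.f n ≫ (eApp J ι M').f n = (eApp J ι M).f n ≫ (EMap J f).f n := by
      have := congrArg (fun φ => φ.f n) ((eNat J ι).naturality f)
      exact this
    change f.f n ≫ (eApp J ι M').f n ≫
        (mappingCone.inl ((cokernel.π (eNat J ι)).app M')).v n (n + -1) rfl =
      ((eApp J ι M).f n ≫ (mappingCone.inl ((cokernel.π (eNat J ι)).app M)).v n (n + -1) rfl) ≫
        (mappingCone.map ((cokernel.π (eNat J ι)).app M) ((cokernel.π (eNat J ι)).app M')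
          (EMap J f) ((cokernel (eNat J ι)).map f)
          ((cokernel.π (eNat J ι)).naturality f).symm).f (n + -1)
    have h2 := inl_v_map_f ((cokernel.π (eNat J ι)).app M) ((cokernel.π (eNat J ι)).app M')
      (EMap J f) ((cokernel (eNat J ι)).map f) ((cokernel.π (eNat J ι)).naturality f).symm
      n (n + -1) rfl
    refine (Category.assoc _ _ _).symm.trans ?_
    refine (congrArg (fun x => x ≫
      (mappingCone.inl ((cokernel.π (eNat J ι)).app M')).v n (n + -1) rfl) h1).trans ?_
    refine (Category.assoc _ _ _).trans ?_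
    refine (congrArg (fun x => (eApp J ι M).f n ≫ x) h2.symm).trans ?_
    exact (Category.assoc _ _ _).symm

lemma jNat_app_f (M : CochainComplex A ℤ) (n : ℤ) :
    ((jNat J ι).app M).f n = (eApp J ι M).f n ≫
      (mappingCone.inl ((cokernel.π (eNat J ι)).app M)).v n (n + -1) rfl := rfl

variable {J ι}

theorem jNat_spec (hι : ∀ X, Mono (ι.app X)) (hJ : ∀ X, Injective (J.obj X))
    (M : CochainComplex A ℤ) :
    (∀ n : ℤ, Mono (((jNat J ι).app M).f n)) ∧ QuasiIso ((jNat J ι).app M) ∧
      ∀ n : ℤ, ∃ (I : A) (_ : Injective I) (a : M.X n ⟶ I) (b : I ⟶ ((NFunctor J ι).obj M).X n),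
        Mono b ∧ a ≫ b = ((jNat J ι).app M).f n := by
  have hinl : ∀ n : ℤ, Mono ((mappingCone.inl ((cokernel.π (eNat J ι)).app M)).v n (n + -1) rfl) :=
    fun n => mono_of_mono_fac (mappingCone.inl_v_fst_v _ n (n + -1) (by omega))
  refine ⟨fun n => ?_, quasiIso_jHom (sesApp_shortExact hι M), fun n => ?_⟩
  · rw [jNat_app_f]
    exact @mono_comp _ _ _ _ _ _ (mono_eApp_f hι M n) _ (hinl n)
  · have h1 := hJ (M.X n)
    have h2 := hJ (M.X (n + 1))
    refine ⟨J.obj (M.X n) ⊞ J.obj (M.X (n + 1)), inferInstance, (eApp J ι M).f n,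
      (mappingCone.inl ((cokernel.π (eNat J ι)).app M)).v n (n + -1) rfl, hinl n, rfl⟩

end Main

/-- S0918: functorial termwise-mono quasi-isomorphic embedding with injective factorisations -/
theorem exists_functorial_qis_embedding [IsGrothendieckAbelian.{w} A] :
    ∃ (N : CochainComplex A ℤ ⥤ CochainComplex A ℤ) (j : 𝟭 _ ⟶ N),
      ∀ M : CochainComplex A ℤ, (∀ n : ℤ, Mono ((j.app M).f n)) ∧ QuasiIso (j.app M) ∧
        ∀ n : ℤ, ∃ (I : A) (_ : Injective I) (a : M.X n ⟶ I) (b : I ⟶ (N.obj M).X n),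
          Mono b ∧ a ≫ b = (j.app M).f n := by
  obtain ⟨J, ι, h⟩ := FInj.exists_functorial_injective.{w} (A := A)
  exact ⟨NFunctor J ι, jNat J ι, fun M => jNat_spec (fun X => (h X).2) (fun X => (h X).1) M⟩

end Groth.Agent.Helper3.QisEmb
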