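import Mathlib
import Groth.Agent.Lib.Helper3.DCoprod
import Groth.Agent.Lib.Helper3.QisEmb

/-!
# Killing maps from a small family of acyclic complexes, functorially
-/

open CategoryTheory Limits CochainComplex HomComplex ZeroObject

universe w v u

namespace Groth.Agent.Helper3.KillAcyclic

open Groth.Agent.Helper3.DCoprod Groth.Agent.Helper3.QisEmb

variable {A : Type u} [Category.{v} A] [Abelian A]

/-- the inclusion into the cone of a map from an acyclic complex is a quasi-isomorphism -/
theorem quasiIso_inr_of_acyclic {P M : CochainComplex A ℤ} (φ : P ⟶ M)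
    (hP : ∀ n, IsZero (P.homology n)) : QuasiIso (mappingCone.inr φ) := by
  rw [← HomologicalComplex.mem_quasiIso_iff, ← HomotopyCategory.quotient_map_mem_quasiIso_iff,
    HomotopyCategory.quasiIso_eq_trW_subcategoryAcyclic]
  refine ObjectProperty.trW.mk' (P := HomotopyCategory.subcategoryAcyclic A)
    (T := mappingCone.triangleh φ)
    (HomotopyCategory.mappingCone_triangleh_distinguished φ) ?_
  change HomotopyCategory.subcategoryAcyclic A ((HomotopyCategory.quotient _ _).obj P)
  rw [HomotopyCategory.quotient_obj_mem_subcategoryAcyclic_iff_acyclic]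
  intro n
  rw [HomologicalComplex.exactAt_iff_isZero_homology]
  exact hP n

section cK

variable {J : Type w} [HasCoproductsOfShape J A]

lemma cK_hom_ext {K : J → CochainComplex A ℤ} {L : CochainComplex A ℤ} {f g : cK K ⟶ L}
    (h : ∀ j, inK K j ≫ f = inK K j ≫ g) : f = g := by
  refine HomologicalComplex.hom_ext _ _ (fun n => ?_)
  apply Limits.Sigma.hom_ext
  intro j
  exact congrArg (fun φ => φ.f n) (h j)

end cK

section Acyclic

variable {J : Type w} [HasColimitsOfShape (Discrete J) A] [HasExactColimitsOfShape (Discrete J) A]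

lemma quasiIso_of_acyclic {K L : CochainComplex A ℤ} (f : K ⟶ L)
    (hK : ∀ n, IsZero (K.homology n)) (hL : ∀ n, IsZero (L.homology n)) : QuasiIso f := by
  rw [quasiIso_iff]
  intro n
  rw [quasiIsoAt_iff_isIso_homologyMap]
  exact ⟨0, (hK n).eq_of_src _ _, (hL n).eq_of_src _ _⟩

lemma acyclic_cK (K : J → CochainComplex A ℤ) (hK : ∀ j n, IsZero ((K j).homology n)) (n : ℤ) :
    IsZero ((cK K).homology n) := by
  let Z : J → CochainComplex A ℤ := fun _ => 0
  have hZ0 : ∀ m, IsZero ((0 : CochainComplex A ℤ).homology m) := fun m =>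
    isZero_homology_of_homotopy (Homotopy.ofEq ((isZero_zero _).eq_of_src _ _)) m
  have h1 : QuasiIso (mapK (K := Z) (K' := K) (fun j => 0)) :=
    quasiIso_mapK _ (fun j => quasiIso_of_acyclic _ (hK j) hZ0)
  have h2 : IsZero ((cK Z).homology n) := by
    refine isZero_homology_of_homotopy (Homotopy.ofEq ?_) n
    apply cK_hom_ext
    intro j
    exact (isZero_zero (CochainComplex A ℤ)).eq_of_src _ _
  exact h2.of_iso (asIso (HomologicalComplex.homologyMap (mapK (K := Z) (K' := K) (fun j => 0)) n))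

end Acyclic

section Main

variable {ι : Type v} (K : ι → CochainComplex A ℤ) [HasCoproducts.{v} A]

/-- index type: all maps from members of the family into `M` -/
abbrev T (M : CochainComplex A ℤ) : Type v := Σ i : ι, (K i ⟶ M)

/-- the family indexed by `T K M` -/
abbrev fam (M : CochainComplex A ℤ) : T K M → CochainComplex A ℤ := fun x => K x.1

/-- the sum of all `K i` over all maps `K i ⟶ M` -/
noncomputable abbrev PObj (M : CochainComplex A ℤ) : CochainComplex A ℤ := cK (fam K M)

/-- the evaluation map -/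
noncomputable def ev (M : CochainComplex A ℤ) : PObj K M ⟶ M :=
  descK (K := fam K M) (fun x => x.2)

/-- functoriality of `PObj` -/
noncomputable def PMap {M M' : CochainComplex A ℤ} (f : M ⟶ M') : PObj K M ⟶ PObj K M' :=
  descK (K := fam K M) (fun x => inK (fam K M') ⟨x.1, x.2 ≫ f⟩)

lemma inK_ev (M : CochainComplex A ℤ) (x : T K M) : inK (fam K M) x ≫ ev K M = x.2 :=
  inK_descK _ x

lemma inK_PMap {M M' : CochainComplex A ℤ} (f : M ⟶ M') (x : T K M) :
    inK (fam K M) x ≫ PMap K f = inK (fam K M') ⟨x.1, x.2 ≫ f⟩ :=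
  inK_descK _ x

lemma inK_mk_congr (M : CochainComplex A ℤ) (i : ι) (w w' : K i ⟶ M) (h : w = w') :
    inK (fam K M) ⟨i, w⟩ = inK (fam K M) ⟨i, w'⟩ := by
  subst h
  rfl

lemma PMap_ev {M M' : CochainComplex A ℤ} (f : M ⟶ M') : PMap K f ≫ ev K M' = ev K M ≫ f := by
  apply cK_hom_ext
  intro x
  rw [← Category.assoc, inK_PMap, inK_ev, ← Category.assoc, inK_ev]

lemma PMap_id (M : CochainComplex A ℤ) : PMap K (𝟙 M) = 𝟙 _ := by
  apply cK_hom_ext
  intro x
  rw [inK_PMap]
  refine Eq.trans ?_ (Category.comp_id _).symm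
  obtain ⟨i, w⟩ := x
  exact inK_mk_congr K M i _ _ (Category.comp_id _)

lemma PMap_comp {M M' M'' : CochainComplex A ℤ} (f : M ⟶ M') (g : M' ⟶ M'') :
    PMap K (f ≫ g) = PMap K f ≫ PMap K g := by
  apply cK_hom_ext
  intro x
  rw [inK_PMap]
  refine Eq.trans ?_ (Category.assoc _ _ _)
  rw [inK_PMap]
  refine Eq.trans ?_ (inK_PMap K g ⟨x.1, x.2 ≫ f⟩).symm
  exact inK_mk_congr K M'' x.1 _ _ (Category.assoc _ _ _).symm

/-- `M ↦ (ev : PObj M ⟶ M)` -/
noncomputable def arrowFunctor : CochainComplex A ℤ ⥤ Arrow (CochainComplex A ℤ) where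
  obj M := Arrow.mk (ev K M)
  map f := Arrow.homMk (PMap K f) f (PMap_ev K f)
  map_id M := by
    refine Arrow.hom_ext _ _ ?_ rfl
    exact PMap_id K M
  map_comp f g := by
    refine Arrow.hom_ext _ _ ?_ rfl
    exact PMap_comp K f g

/-- the functor `N` -/
noncomputable def NFunctor : CochainComplex A ℤ ⥤ CochainComplex A ℤ :=
  arrowFunctor K ⋙ coneFunctor

/-- the natural transformation `𝟭 ⟶ N` -/
noncomputable def jNat : 𝟭 (CochainComplex A ℤ) ⟶ NFunctor K where
  app M := mappingCone.inr (ev K M)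
  naturality M M' f := by
    change f ≫ mappingCone.inr (ev K M') = mappingCone.inr (ev K M) ≫
      mappingCone.map (ev K M) (ev K M') (PMap K f) f (PMap_ev K f).symm
    simp [mappingCone.map]

theorem jNat_spec [∀ (J : Type v), HasExactColimitsOfShape (Discrete J) A]
    (hK : ∀ i (n : ℤ), IsZero ((K i).homology n)) (M : CochainComplex A ℤ) :
    (∀ n : ℤ, Mono (((jNat K).app M).f n)) ∧ QuasiIso ((jNat K).app M) ∧
      ∀ (i : ι) (w : K i ⟶ M), Nonempty (Homotopy (w ≫ (jNat K).app M) 0) := by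
  refine ⟨fun n => ?_, ?_, fun i w => ?_⟩
  · have : Mono (𝟙 (M.X n)) := inferInstance
    exact mono_of_mono_fac (mappingCone.inr_f_snd_v (ev K M) n)
  · exact quasiIso_inr_of_acyclic (ev K M) (acyclic_cK (fam K M) (fun x n => hK x.1 n))
  · have h0 : Homotopy (ev K M ≫ mappingCone.inr (ev K M)) 0 :=
      HomologicalComplex.homotopyCofiber.inrCompHomotopy (ev K M) (fun j => ⟨j - 1, by simp⟩)
    have h1 := h0.compLeft (inK (fam K M) ⟨i, w⟩)
    refine ⟨(Homotopy.ofEq ?_).trans (h1.trans (Homotopy.ofEq ?_))⟩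
    · change w ≫ mappingCone.inr (ev K M) = _
      rw [← Category.assoc, inK_ev]
    · exact comp_zero

end Main

/-- S0917 -/
theorem exists_functorial_kill [IsGrothendieckAbelian.{v} A] {ι : Type v}
    (K : ι → CochainComplex A ℤ) (hK : ∀ i (n : ℤ), IsZero ((K i).homology n)) :
    ∃ (N : CochainComplex A ℤ ⥤ CochainComplex A ℤ) (j : 𝟭 _ ⟶ N),
      ∀ M : CochainComplex A ℤ, (∀ n : ℤ, Mono ((j.app M).f n)) ∧ QuasiIso (j.app M) ∧
        ∀ (i : ι) (w : K i ⟶ M), Nonempty (Homotopy (w ≫ j.app M) 0) := by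
  have : ∀ (J : Type v), HasExactColimitsOfShape (Discrete J) A := fun J => inferInstance
  exact ⟨NFunctor K, jNat K, fun M => jNat_spec K hK M⟩

end Groth.Agent.Helper3.KillAcyclic
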