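import Mathlib
import Groth.Agent.Lib.Helper3.KInjA
import Groth.Agent.Lib.Helper3.KInjB
import Groth.Agent.Lib.Helper3.KInjC
import Groth.Agent.Lib.Helper3.KillAcyclic

/-!
# K-injective resolutions in Grothendieck abelian categories
-/

namespace Groth.Agent.Helper3.KInjD

open CategoryTheory Limits Groth.Agent.Helper3.KInjB

universe v u

variable {A : Type u} [Category.{v} A] [Abelian A]

section Disk

variable (X : A) (n : ℤ)

lemma disk_d_eq : (disk X n).d n (n + 1) =
    (HomologicalComplex.doubleXIso₀ (𝟙 X) (show (ComplexShape.up ℤ).Rel n (n + 1) from rfl)).hom ≫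
      (HomologicalComplex.doubleXIso₁ (𝟙 X) (show (ComplexShape.up ℤ).Rel n (n + 1) from rfl)
        (by lia : n ≠ n + 1)).inv := by
  dsimp only [disk]
  rw [HomologicalComplex.double_d _ _ (by lia : n ≠ n + 1), Category.id_comp]

instance : IsIso ((disk X n).d n (n + 1)) := by
  rw [disk_d_eq]
  exact ((HomologicalComplex.doubleXIso₀ (𝟙 X)
    (show (ComplexShape.up ℤ).Rel n (n + 1) from rfl)) ≪≫
      (HomologicalComplex.doubleXIso₁ (𝟙 X) (show (ComplexShape.up ℤ).Rel n (n + 1) from rfl)
        (by lia : n ≠ n + 1)).symm).isIso_hom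

instance : Mono (diskGen X n) := by
  dsimp only [diskGen]
  exact (HomologicalComplex.doubleXIso₀ (𝟙 X)
    (show (ComplexShape.up ℤ).Rel n (n + 1) from rfl)).symm.isIso_hom.mono_of_iso

lemma acyclic_disk : (disk X n).Acyclic := by
  intro k
  by_cases h0 : k = n
  · subst h0
    rw [HomologicalComplex.exactAt_iff' _ (k - 1) k (k + 1) (by simp) (by simp)]
    have hf : ((disk X k).sc' (k - 1) k (k + 1)).f = 0 :=
      HomologicalComplex.double_d_eq_zero₀ (𝟙 X)
        (show (ComplexShape.up ℤ).Rel k (k + 1) from rfl) (k - 1) k (by lia)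
    rw [ShortComplex.exact_iff_mono _ hf]
    exact inferInstanceAs (Mono ((disk X k).d k (k + 1)))
  · by_cases h1 : k = n + 1
    · subst h1
      rw [HomologicalComplex.exactAt_iff' _ n (n + 1) (n + 1 + 1) (by simp) (by simp)]
      have hg : ((disk X n).sc' n (n + 1) (n + 1 + 1)).g = 0 :=
        HomologicalComplex.double_d_eq_zero₀ (𝟙 X)
          (show (ComplexShape.up ℤ).Rel n (n + 1) from rfl) (n + 1) (n + 1 + 1) (by lia)
      rw [ShortComplex.exact_iff_epi _ hg]
      exact inferInstanceAs (Epi ((disk X n).d n (n + 1)))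
    · exact ShortComplex.exact_of_isZero_X₂ _ (HomologicalComplex.isZero_double_X (𝟙 X)
        (show (ComplexShape.up ℤ).Rel n (n + 1) from rfl) k h0 h1)

variable {X} {Y : A} (g : X ⟶ Y)

/-- the map of disks induced by a morphism -/
noncomputable def diskHom : disk X n ⟶ disk Y n := diskMap X n (g ≫ diskGen Y n)

@[reassoc (attr := simp)]
lemma diskGen_diskHom : diskGen X n ≫ (diskHom n g).f n = g ≫ diskGen Y n :=
  diskGen_diskMap _ _ _

instance [Mono g] : Mono (diskHom n g) := by
  refine HomologicalComplex.mono_of_mono_f _ (fun k => ?_)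
  by_cases h0 : k = n
  · subst h0
    dsimp only [diskHom, diskMap]
    rw [HomologicalComplex.mkHomFromDouble_f₀]
    haveI : Mono (g ≫ diskGen Y k) := mono_comp _ _
    exact mono_comp _ _
  · by_cases h1 : k = n + 1
    · subst h1
      dsimp only [diskHom, diskMap]
      rw [HomologicalComplex.mkHomFromDouble_f₁]
      haveI : Mono (g ≫ diskGen Y n) := mono_comp _ _
      haveI : Mono ((g ≫ diskGen Y n) ≫ (disk Y n).d n (n + 1)) := mono_comp _ _
      exact mono_comp _ _
    · exact ⟨fun _ _ _ => (HomologicalComplex.isZero_double_X (𝟙 X)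
        (show (ComplexShape.up ℤ).Rel n (n + 1) from rfl) k h0 h1).eq_of_tgt _ _⟩

lemma quasiIso_of_acyclic {K L : CochainComplex A ℤ} (f : K ⟶ L) (hK : K.Acyclic)
    (hL : L.Acyclic) : QuasiIso f := by
  rw [quasiIso_iff]
  intro n
  rw [quasiIsoAt_iff_isIso_homologyMap]
  exact ⟨0, (hK n).isZero_homology.eq_of_src _ _, (hL n).isZero_homology.eq_of_src _ _⟩

instance : QuasiIso (diskHom n g) :=
  quasiIso_of_acyclic _ (acyclic_disk X n) (acyclic_disk Y n)

end Disk

section W

open MorphismProperty

variable (A)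

/-- monic quasi-isomorphisms -/
def W : MorphismProperty (CochainComplex A ℤ) := fun _ _ f => Mono f ∧ QuasiIso f

variable {A}

lemma W_iff {K L : CochainComplex A ℤ} (f : K ⟶ L) : W A f ↔ Mono f ∧ QuasiIso f := Iff.rfl

instance : (W A).IsMultiplicative where
  id_mem K := ⟨inferInstance, inferInstance⟩
  comp_mem f g hf hg := by
    obtain ⟨_, _⟩ := hf
    obtain ⟨_, _⟩ := hg
    exact ⟨mono_comp f g, inferInstance⟩

instance : (W A).RespectsIso :=
  RespectsIso.of_respects_arrow_iso _ (fun f g e hf => by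
    obtain ⟨h1, h2⟩ := hf
    exact ⟨((monomorphisms _).arrow_iso_iff e).1 h1,
      ((HomologicalComplex.quasiIso A (ComplexShape.up ℤ)).arrow_iso_iff e).1 h2⟩)

instance : (W A).IsStableUnderRetracts where
  of_retract h hg := by
    obtain ⟨h1, h2⟩ := hg
    exact ⟨(monomorphisms _).of_retract h h1,
      (HomologicalComplex.quasiIso A (ComplexShape.up ℤ)).of_retract h h2⟩

instance : (W A).IsStableUnderCobaseChange where
  of_isPushout {K K' L L' f g f' g'} sq hf := by
    obtain ⟨h1, h2⟩ := hf
    haveI : Mono f' := (monomorphisms _).of_isPushout sq h1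
    refine ⟨inferInstance, ?_⟩
    -- the cokernel of `f'` is the cokernel of `f`
    let c' : L' ⟶ cokernel f := sq.desc 0 (cokernel.π f) (by simp)
    have hg'c' : g' ≫ c' = cokernel.π f := sq.inr_desc _ _ _
    have hf'c' : f' ≫ c' = 0 := sq.inl_desc _ _ _
    haveI : Epi c' := epi_of_epi_fac hg'c'
    have hcolim : IsColimit (CokernelCofork.ofπ c' hf'c') :=
      CokernelCofork.IsColimit.ofπ' c' hf'c' (fun {T} t ht => by
        have h0 : f ≫ g' ≫ t = 0 := by
          rw [← Category.assoc, ← sq.w, Category.assoc, ht, comp_zero]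
        refine ⟨cokernel.desc f (g' ≫ t) h0, ?_⟩
        apply sq.hom_ext
        · rw [← Category.assoc, hf'c', zero_comp, ht]
        · rw [← Category.assoc, hg'c', cokernel.π_desc])
    have hS : (ShortComplex.mk f' c' hf'c').ShortExact :=
      { exact := ShortComplex.exact_of_g_is_cokernel _ hcolim }
    have hS0 : (ShortComplex.mk f (cokernel.π f) (cokernel.condition f)).ShortExact :=
      { exact := ShortComplex.exact_cokernel f }
    have hac : (cokernel f).Acyclic := hS0.acyclic_X₃ h2
    exact Groth.Agent.Helper3.QisEmb.quasiIso_f_of_acyclic_X₃ hS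
      (fun n => (hac n).isZero_homology)

lemma W_isStableUnderColimitsOfShape (J : Type*) [Category J] [HasColimitsOfShape J A]
    [HasExactColimitsOfShape J A]
    [(monomorphisms (CochainComplex A ℤ)).IsStableUnderColimitsOfShape J] :
    (W A).IsStableUnderColimitsOfShape J where
  condition X₁ X₂ c₁ c₂ h₁ h₂ f hf φ hφ :=
    ⟨IsStableUnderColimitsOfShape.condition (W := monomorphisms (CochainComplex A ℤ))
        X₁ X₂ c₁ c₂ h₁ h₂ f (fun j => (hf j).1) φ hφ,
      IsStableUnderColimitsOfShape.condition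
        (W := HomologicalComplex.quasiIso A (ComplexShape.up ℤ))
        X₁ X₂ c₁ c₂ h₁ h₂ f (fun j => (hf j).2) φ hφ⟩

variable [IsGrothendieckAbelian.{v} A]

instance : IsStableUnderCoproducts.{v} (W A) where
  isStableUnderCoproductsOfShape J := W_isStableUnderColimitsOfShape (Discrete J)

instance : IsStableUnderFilteredColimits.{v, v} (W A) where
  isStableUnderColimitsOfShape J _ _ := W_isStableUnderColimitsOfShape J

instance : IsStableUnderTransfiniteComposition.{v} (W A) := inferInstance

end W

section Gen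

open MorphismProperty CochainComplex

variable [IsGrothendieckAbelian.{v} A] (U : A) {ι : Type v} (K : ι → CochainComplex A ℤ)

/-- sources of the generating trivial cofibrations -/
noncomputable def gsrc : (ℤ × Subobject U) ⊕ ι → CochainComplex A ℤ
  | .inl ⟨n, S⟩ => disk (S : A) n
  | .inr i => K i

/-- targets of the generating trivial cofibrations -/
noncomputable def gtgt : (ℤ × Subobject U) ⊕ ι → CochainComplex A ℤ
  | .inl ⟨n, _⟩ => disk U n
  | .inr i => mappingCone (𝟙 (K i))

/-- the generating trivial cofibrations -/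
noncomputable def ghom : ∀ t : (ℤ × Subobject U) ⊕ ι, gsrc U K t ⟶ gtgt U K t
  | .inl ⟨n, S⟩ => diskHom n S.arrow
  | .inr i => mappingCone.inr (𝟙 (K i))

/-- the class of generating trivial cofibrations -/
noncomputable def J₀ : MorphismProperty (CochainComplex A ℤ) := ofHoms (ghom U K)

instance : IsSmall.{v} (J₀ U K) := by
  dsimp only [J₀]
  infer_instance

variable {K} in
lemma J₀_le_W (hK : ∀ i, (K i).Acyclic) : J₀ U K ≤ W A := by
  rintro _ _ _ ⟨t⟩
  rcases t with ⟨n, S⟩ | i
  · exact ⟨inferInstanceAs (Mono (diskHom n S.arrow)),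
      inferInstanceAs (QuasiIso (diskHom n S.arrow))⟩
  · refine ⟨?_, ?_⟩
    · change Mono (mappingCone.inr (𝟙 (K i)))
      refine HomologicalComplex.mono_of_mono_f _ (fun n => ?_)
      have : Mono (𝟙 ((K i).X n)) := inferInstance
      exact mono_of_mono_fac (mappingCone.inr_f_snd_v (𝟙 (K i)) n)
    · exact Groth.Agent.Helper3.KillAcyclic.quasiIso_inr_of_acyclic (𝟙 (K i))
        (fun n => (hK i n).isZero_homology)

variable {K} in
lemma J₀_le_mono (hK : ∀ i, (K i).Acyclic) : J₀ U K ≤ monomorphisms _ :=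
  fun _ _ f hf => (J₀_le_W U hK f hf).1

variable {K} in
lemma hasSmallObjectArgument (hK : ∀ i, (K i).Acyclic) :
    HasSmallObjectArgument.{v} (J₀ U K) := by
  obtain ⟨κ, hκ', hκ⟩ := HasCardinalLT.exists_regular_cardinal_forall.{v}
    (fun t : (ℤ × Subobject U) ⊕ ι => Subobject (gsrc U K t))
  have : Fact κ.IsRegular := ⟨hκ'⟩
  have : Nonempty κ.ord.ToType := by simpa using hκ'.ne_zero
  have := WellFoundedLT.toOrderBot κ.ord.ToType
  exact ⟨κ, inferInstance, inferInstance,
    { preservesColimit {X₀ Y₀ X Y} i hi f hf := by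
        let hf' : (monomorphisms (CochainComplex A ℤ)).TransfiniteCompositionOfShape
            κ.ord.ToType f :=
          { toTransfiniteCompositionOfShape := hf.toTransfiniteCompositionOfShape
            map_mem j hj := by
              have := (hf.attachCells j hj).pushouts_coproducts
              simp only [ofHoms_homFamily] at this
              refine (?_ : _ ≤ monomorphisms (CochainComplex A ℤ)) _ this
              simp only [pushouts_le_iff, coproducts_le_iff]
              exact J₀_le_mono U hK }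
        have (j j' : κ.ord.ToType) (φ : j ⟶ j') : Mono (hf'.F.map φ) := hf'.mem_map φ
        apply IsGrothendieckAbelian.preservesColimit_coyoneda_obj_of_mono (Y := hf'.F) (κ := κ)
        obtain ⟨t⟩ := hi
        exact hκ t }⟩

variable {K} in
lemma llp_rlp_le (hK : ∀ i, (K i).Acyclic) : (J₀ U K).rlp.llp ≤ W A := by
  haveI := hasSmallObjectArgument U hK
  rw [llp_rlp_of_hasSmallObjectArgument]
  simp only [retracts_le_iff, transfiniteCompositions_le_iff, pushouts_le_iff, coproducts_le_iff]
  exact J₀_le_W U hK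

variable {U K}

lemma injective_of_rlp (hU : IsSeparator U) {I Z : CochainComplex A ℤ} (p : I ⟶ Z)
    (hZ : IsZero Z) (hp : (J₀ U K).rlp p) (n : ℤ) : Injective (I.X n) := by
  rw [injective_iff_rlp_monomorphisms_zero, ← IsGrothendieckAbelian.generatingMonomorphisms_rlp hU]
  rintro _ _ _ ⟨S⟩
  refine ⟨fun {t b} sq => ?_⟩
  have hl : HasLiftingProperty (diskHom n S.arrow) p :=
    hp _ (⟨Sum.inl (n, S)⟩ : J₀ U K (ghom U K (Sum.inl (n, S))))
  have sq' : CommSq (diskMap (S : A) n t) (diskHom n S.arrow) p 0 := ⟨hZ.eq_of_tgt _ _⟩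
  refine ⟨⟨{ l := diskGen U n ≫ sq'.lift.f n
             fac_left := ?_
             fac_right := (isZero_zero _).eq_of_tgt _ _ }⟩⟩
  have h1 := sq'.fac_left
  have h2 := congrArg (fun φ => diskGen (S : A) n ≫ φ.f n) h1
  simp only [HomologicalComplex.comp_f, diskGen_diskHom_assoc, diskGen_diskMap] at h2
  exact h2

lemma kills_of_rlp {I Z : CochainComplex A ℤ} (p : I ⟶ Z) (hZ : IsZero Z)
    (hp : (J₀ U K).rlp p) (i : ι) (g : K i ⟶ I) : Nonempty (Homotopy g 0) := by
  have hl : HasLiftingProperty (mappingCone.inr (𝟙 (K i))) p :=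
    hp _ (⟨Sum.inr i⟩ : J₀ U K (ghom U K (Sum.inr i)))
  have sq : CommSq g (mappingCone.inr (𝟙 (K i))) p 0 := ⟨hZ.eq_of_tgt _ _⟩
  have h0 : Homotopy (𝟙 (K i) ≫ mappingCone.inr (𝟙 (K i))) 0 :=
    HomologicalComplex.homotopyCofiber.inrCompHomotopy (𝟙 (K i)) (fun j => ⟨j - 1, by simp⟩)
  have h1 := h0.compRight sq.lift
  refine ⟨(Homotopy.ofEq ?_).trans (h1.trans (Homotopy.ofEq ?_))⟩
  · rw [Category.id_comp]
    exact sq.fac_left.symm
  · exact zero_comp

end Gen

section Main

open ZeroObject

variable [IsGrothendieckAbelian.{v} A]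

/-- Every complex in a Grothendieck abelian category admits a termwise monic quasi-isomorphism
to a K-injective complex with injective terms. -/
theorem exists_kInjective_resolution (M : CochainComplex A ℤ) :
    ∃ (I : CochainComplex A ℤ) (f : M ⟶ I), I.IsKInjective ∧ QuasiIso f ∧
      (∀ n, Mono (f.f n)) ∧ ∀ n, Injective (I.X n) := by
  have hU := isSeparator_separator A
  let K : Shrink.{v} (Idx (separator A)) → CochainComplex A ℤ :=
    fun i => Kfam (separator A) ((equivShrink _).symm i)
  have hK : ∀ i, (K i).Acyclic := fun i => acyclic_Kfam _ _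
  haveI := hasSmallObjectArgument (separator A) hK
  let fac := MorphismProperty.factorizationData (J₀ (separator A) K).rlp.llp
    (J₀ (separator A) K).rlp (0 : M ⟶ 0)
  have hi : W A fac.i := llp_rlp_le (separator A) hK _ fac.hi
  have hinj := injective_of_rlp hU fac.p (isZero_zero _) fac.hp
  have hkill := kills_of_rlp fac.p (isZero_zero _) fac.hp
  refine ⟨fac.Z, fac.i, ?_, hi.2, fun n => ?_, hinj⟩
  · refine Groth.Agent.Helper3.KInjC.isKInjective_of_kills hinj K hK (fun M' hM' hM'0 => ?_) hkill
    obtain ⟨i, k, hk, hi0⟩ := exists_sub hU M' hM' hM'0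
    exact ⟨equivShrink _ i, by
      dsimp only [K]
      rw [Equiv.symm_apply_apply]
      exact ⟨k, hk, hi0⟩⟩
  · haveI := hi.1
    exact inferInstanceAs (Mono ((HomologicalComplex.eval A _ n).map fac.i))

end Main

end Groth.Agent.Helper3.KInjD
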