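import Mathlib
import Groth.Agent.Lib.Helper3.KInjD

/-!
# K-injective complexes form a right derivability structure

For a Grothendieck abelian category `A`, the inclusion of the K-injective objects into the homotopy
category `K(A)` is a right derivability structure for the quasi-isomorphisms. Consequently every
functor on `K(A)` has a right derived functor, whose unit is an isomorphism on K-injective
complexes.
-/

set_option autoImplicit false
universe w v u

open CategoryTheory Limits

namespace Groth.Agent.Helper3.KInjDer

section General

variable (A : Type u) [Category.{v} A] [Abelian A]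

/-- K-injective objects of the homotopy category -/
def kInj : ObjectProperty (HomotopyCategory A (ComplexShape.up ℤ)) :=
  fun X => CochainComplex.IsKInjective X.as

/-- quasi-isomorphisms in the homotopy category -/
abbrev W₂ : MorphismProperty (HomotopyCategory A (ComplexShape.up ℤ)) :=
  HomotopyCategory.quasiIso A (ComplexShape.up ℤ)

instance : (W₂ A).IsMultiplicative where
  id_mem X := by
    intro n
    rw [CategoryTheory.Functor.map_id]
    infer_instance
  comp_mem f g hf hg := by
    intro n
    have := hf n
    have := hg n
    rw [Functor.map_comp]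
    infer_instance

instance : (W₂ A).HasTwoOutOfThreeProperty where
  of_postcomp f g hg hfg := by
    intro n
    have := hg n
    have := hfg n
    rw [Functor.map_comp] at this
    exact IsIso.of_isIso_comp_right _ ((HomotopyCategory.homologyFunctor A _ n).map g)
  of_precomp f g hf hfg := by
    intro n
    have := hf n
    have := hfg n
    rw [Functor.map_comp] at this
    exact IsIso.of_isIso_comp_left ((HomotopyCategory.homologyFunctor A _ n).map f) _

variable {A}

attribute [local instance] HasDerivedCategory.standard in
/-- maps into a K-injective object extend uniquely along quasi-isomorphisms -/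
lemma bijective_precomp {X X' : HomotopyCategory A (ComplexShape.up ℤ)} (s : X ⟶ X')
    (hs : W₂ A s) (I : HomotopyCategory A (ComplexShape.up ℤ)) (hI : kInj A I) :
    Function.Bijective (fun g : X' ⟶ I => s ≫ g) := by
  have : CochainComplex.IsKInjective I.as := hI
  have hs' : IsIso (DerivedCategory.Qh.map s) := (DerivedCategory.isIso_Qh_map_iff s).2 hs
  have hb : ∀ Y : HomotopyCategory A (ComplexShape.up ℤ),
      Function.Bijective (DerivedCategory.Qh.map : (Y ⟶ I) → _) := fun Y =>
    CochainComplex.IsKInjective.Qh_map_bijective Y I.as
  constructor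
  · intro g₁ g₂ h
    dsimp only at h
    apply (hb X').1
    have h' := congrArg DerivedCategory.Qh.map h
    rw [Functor.map_comp, Functor.map_comp] at h'
    exact (cancel_epi _).1 h'
  · intro g
    obtain ⟨g', hg'⟩ := (hb X').2 (inv (DerivedCategory.Qh.map s) ≫ DerivedCategory.Qh.map g)
    refine ⟨g', ?_⟩
    apply (hb X).1
    dsimp only
    rw [Functor.map_comp, hg', IsIso.hom_inv_id_assoc]

/-- a quasi-isomorphism between K-injective objects is an isomorphism -/
lemma isIso_of_kInj {X Y : HomotopyCategory A (ComplexShape.up ℤ)} (s : X ⟶ Y) (hs : W₂ A s)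
    (hX : kInj A X) (hY : kInj A Y) : IsIso s := by
  obtain ⟨r, hr⟩ := (bijective_precomp s hs X hX).2 (𝟙 X)
  dsimp only at hr
  refine ⟨r, hr, ?_⟩
  apply (bijective_precomp s hs Y hY).1
  dsimp only
  rw [← Category.assoc, hr, Category.id_comp, Category.comp_id]

end General

section Grothendieck

variable (A : Type u) [Category.{v} A] [Abelian A] [IsGrothendieckAbelian.{v} A]

lemma exists_resolution (X : HomotopyCategory A (ComplexShape.up ℤ)) :
    ∃ (I : (kInj A).FullSubcategory) (i : X ⟶ I.obj), W₂ A i := by
  obtain ⟨I, f, hI, hf, -, -⟩ := KInjD.exists_kInjective_resolution X.as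
  refine ⟨⟨(HomotopyCategory.quotient A _).obj I, hI⟩, (HomotopyCategory.quotient A _).map f, ?_⟩
  exact (HomotopyCategory.quotient_map_mem_quasiIso_iff f).2 hf

/-- the chosen resolution -/
noncomputable def ρobj (X : HomotopyCategory A (ComplexShape.up ℤ)) :
    (kInj A).FullSubcategory := (exists_resolution A X).choose

/-- the chosen resolution map -/
noncomputable def iapp (X : HomotopyCategory A (ComplexShape.up ℤ)) : X ⟶ (ρobj A X).obj :=
  (exists_resolution A X).choose_spec.choose

lemma iapp_mem (X : HomotopyCategory A (ComplexShape.up ℤ)) : W₂ A (iapp A X) :=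
  (exists_resolution A X).choose_spec.choose_spec

/-- the action of the resolution functor on morphisms -/
noncomputable def ρmap {X Y : HomotopyCategory A (ComplexShape.up ℤ)} (g : X ⟶ Y) :
    (ρobj A X).obj ⟶ (ρobj A Y).obj :=
  ((bijective_precomp (iapp A X) (iapp_mem A X) (ρobj A Y).obj (ρobj A Y).property).2
    (g ≫ iapp A Y)).choose

lemma iapp_ρmap {X Y : HomotopyCategory A (ComplexShape.up ℤ)} (g : X ⟶ Y) :
    iapp A X ≫ ρmap A g = g ≫ iapp A Y :=
  ((bijective_precomp (iapp A X) (iapp_mem A X) (ρobj A Y).obj (ρobj A Y).property).2
    (g ≫ iapp A Y)).choose_spec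

lemma ρmap_unique {X Y : HomotopyCategory A (ComplexShape.up ℤ)} (g : X ⟶ Y)
    (g' : (ρobj A X).obj ⟶ (ρobj A Y).obj) (h : iapp A X ≫ g' = g ≫ iapp A Y) :
    g' = ρmap A g :=
  (bijective_precomp (iapp A X) (iapp_mem A X) (ρobj A Y).obj (ρobj A Y).property).1
    (h.trans (iapp_ρmap A g).symm)

/-- the resolution functor -/
noncomputable def ρ : HomotopyCategory A (ComplexShape.up ℤ) ⥤ (kInj A).FullSubcategory where
  obj := ρobj A
  map g := ObjectProperty.homMk (ρmap A g)
  map_id X := by
    ext : 1
    symm
    apply ρmap_unique
    change iapp A X ≫ 𝟙 _ = _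
    rw [Category.comp_id, Category.id_comp]
  map_comp f g := by
    ext : 1
    symm
    apply ρmap_unique
    change iapp A _ ≫ ρmap A f ≫ ρmap A g = _
    rw [← Category.assoc, iapp_ρmap, Category.assoc, iapp_ρmap, Category.assoc]

/-- the localizer morphism -/
def Φ : LocalizerMorphism ((W₂ A).inverseImage (kInj A).ι) (W₂ A) where
  functor := (kInj A).ι
  map := le_refl _

/-- the resolution natural transformation -/
noncomputable def ires : 𝟭 (HomotopyCategory A (ComplexShape.up ℤ)) ⟶ ρ A ⋙ (Φ A).functor where
  app X := iapp A X
  naturality _ _ g := (iapp_ρmap A g).symm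

instance : (Φ A).functor.Full := inferInstanceAs (kInj A).ι.Full
instance : (Φ A).functor.Faithful := inferInstanceAs (kInj A).ι.Faithful

instance isRightDerivabilityStructure : (Φ A).IsRightDerivabilityStructure :=
  (Φ A).isRightDerivabilityStructure_of_functorial_resolutions (ires A) (iapp_mem A) rfl

variable {A} {H : Type*} [Category H] (F : HomotopyCategory A (ComplexShape.up ℤ) ⥤ H)

omit [IsGrothendieckAbelian.{v} A] in
lemma derives : (Φ A).Derives F := by
  intro X Y f hf
  have : IsIso ((kInj A).ι.map f) := isIso_of_kInj _ hf X.property Y.property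
  exact inferInstanceAs (IsIso (F.map ((kInj A).ι.map f)))

/-- every functor on the homotopy category has a right derived functor -/
theorem hasRightDerivedFunctor : F.HasRightDerivedFunctor (W₂ A) := by
  have := (derives F).hasPointwiseRightDerivedFunctor
  infer_instance

/-- the unit of a right derived functor is an isomorphism on K-injective complexes -/
theorem isIso_unit_app {D : Type*} [Category D] {L : HomotopyCategory A (ComplexShape.up ℤ) ⥤ D}
    [L.IsLocalization (W₂ A)] {RF : D ⥤ H} (α : F ⟶ L ⋙ RF) [RF.IsRightDerivedFunctor α (W₂ A)]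
    (I : CochainComplex A ℤ) [hI : I.IsKInjective] :
    IsIso (α.app ((HomotopyCategory.quotient A (ComplexShape.up ℤ)).obj I)) :=
  (derives F).isIso_of_isRightDerivedFunctor α ⟨(HomotopyCategory.quotient A _).obj I, hI⟩

end Grothendieck

end Groth.Agent.Helper3.KInjDer
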