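import Mathlib
import Groth.Agent.Lib.Helper6.PshModInj

/-!
# Sheaves of modules on a small site form a Grothendieck abelian category
-/

set_option autoImplicit false
universe u

open CategoryTheory Limits

namespace Groth.Agent.Helper3.ModGroth

/-- a left adjoint with faithful right adjoint preserves separators -/
lemma isSeparator_of_adjunction {C D : Type*} [Category C] [Category D] {L : C ⥤ D} {G : D ⥤ C}
    (adj : L ⊣ G) [G.Faithful] {S : C} (hS : IsSeparator S) : IsSeparator (L.obj S) := by
  rw [isSeparator_def] at hS ⊢
  intro X Y f g h
  apply G.map_injective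
  apply hS
  intro a
  apply (adj.homEquiv _ _).symm.injective
  rw [Adjunction.homEquiv_naturality_right_symm, Adjunction.homEquiv_naturality_right_symm]
  exact h _

variable {C : Type u} [SmallCategory C] (J : GrothendieckTopology C) (R : Sheaf J RingCat.{u})

instance isGrothendieckAbelian : IsGrothendieckAbelian.{u} (SheafOfModules.{u} R) := by
  let adj := PresheafOfModules.sheafificationAdjunction (𝟙 R.obj)
  have hsep : HasSeparator (SheafOfModules.{u} R) :=
    ⟨_, isSeparator_of_adjunction adj (isSeparator_separator (PresheafOfModules.{u} R.obj))⟩
  have hab5 : AB5OfSize.{u, u} (SheafOfModules.{u} R) :=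
    ⟨fun K _ _ => adj.hasExactColimitsOfShape K⟩
  exact { }

end Groth.Agent.Helper3.ModGroth
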