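import Mathlib

set_option autoImplicit false
universe v₁ v₂ u₁ u₂
open CategoryTheory CategoryTheory.Limits

namespace Groth.Agent.Helper3.AdjHtpyPlus

variable {A : Type u₁} {B : Type u₂} [Category.{v₁} A] [Category.{v₂} B] [Preadditive A] [Preadditive B]
  {L : A ⥤ B} {R : B ⥤ A} (adj : L ⊣ R) [L.Additive] [R.Additive]
  {ι : Type*} (c : ComplexShape ι)

/-- termwise unit -/
@[simps]
def unitC (K : HomologicalComplex A c) :
    K ⟶ (R.mapHomologicalComplex c).obj ((L.mapHomologicalComplex c).obj K) where
  f i := adj.unit.app (K.X i)
  comm' i j _ := (adj.unit.naturality (K.d i j)).symm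

/-- termwise counit -/
@[simps]
def counitC (K : HomologicalComplex B c) :
    (L.mapHomologicalComplex c).obj ((R.mapHomologicalComplex c).obj K) ⟶ K where
  f i := adj.counit.app (K.X i)
  comm' i j _ := (adj.counit.naturality (K.d i j)).symm

lemma unitC_naturality {K K' : HomologicalComplex A c} (f : K ⟶ K') :
    f ≫ unitC adj c K' =
      unitC adj c K ≫ (R.mapHomologicalComplex c).map ((L.mapHomologicalComplex c).map f) := by
  ext i
  dsimp
  exact adj.unit.naturality (f.f i)

lemma counitC_naturality {K K' : HomologicalComplex B c} (f : K ⟶ K') :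
    (L.mapHomologicalComplex c).map ((R.mapHomologicalComplex c).map f) ≫ counitC adj c K' =
      counitC adj c K ≫ f := by
  ext i
  dsimp
  exact adj.counit.naturality (f.f i)

lemma left_triangleC (K : HomologicalComplex A c) :
    (L.mapHomologicalComplex c).map (unitC adj c K) ≫
      counitC adj c ((L.mapHomologicalComplex c).obj K) = 𝟙 _ := by
  ext i
  dsimp
  exact adj.left_triangle_components (K.X i)

lemma right_triangleC (K : HomologicalComplex B c) :
    unitC adj c ((R.mapHomologicalComplex c).obj K) ≫
      (R.mapHomologicalComplex c).map (counitC adj c K) = 𝟙 _ := by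
  ext i
  dsimp
  exact adj.right_triangle_components (K.X i)


section Plus

variable {A : Type u₁} {B : Type u₂} [Category.{v₁} A] [Category.{v₂} B] [Preadditive A] [Preadditive B]
  {L : A ⥤ B} {R : B ⥤ A} (adj : L ⊣ R) [L.Additive] [R.Additive]

/-- unit on `K⁺` -/
noncomputable def unitP (X : HomotopyCategory.Plus A) :
    X ⟶ R.mapHomotopyCategoryPlus.obj (L.mapHomotopyCategoryPlus.obj X) :=
  ObjectProperty.homMk ((HomotopyCategory.quotient _ _).map (unitC adj (ComplexShape.up ℤ) X.obj.as))

/-- counit on `K⁺` -/
noncomputable def counitP (X : HomotopyCategory.Plus B) :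
    L.mapHomotopyCategoryPlus.obj (R.mapHomotopyCategoryPlus.obj X) ⟶ X :=
  ObjectProperty.homMk ((HomotopyCategory.quotient _ _).map (counitC adj (ComplexShape.up ℤ) X.obj.as))

lemma unitP_naturality {X Y : HomotopyCategory.Plus A} (f : X ⟶ Y) :
    f ≫ unitP adj Y = unitP adj X ≫
      R.mapHomotopyCategoryPlus.map (L.mapHomotopyCategoryPlus.map f) := by
  obtain ⟨X, rfl⟩ := HomotopyCategory.Plus.quotient_obj_surjective X
  obtain ⟨Y, rfl⟩ := HomotopyCategory.Plus.quotient_obj_surjective Y
  obtain ⟨f, rfl⟩ := (HomotopyCategory.Plus.quotient A).map_surjective f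
  ext
  exact (HomotopyCategory.quotient _ _).congr_map (unitC_naturality adj (ComplexShape.up ℤ) f.hom)

lemma counitP_naturality {X Y : HomotopyCategory.Plus B} (f : X ⟶ Y) :
    L.mapHomotopyCategoryPlus.map (R.mapHomotopyCategoryPlus.map f) ≫ counitP adj Y =
      counitP adj X ≫ f := by
  obtain ⟨X, rfl⟩ := HomotopyCategory.Plus.quotient_obj_surjective X
  obtain ⟨Y, rfl⟩ := HomotopyCategory.Plus.quotient_obj_surjective Y
  obtain ⟨f, rfl⟩ := (HomotopyCategory.Plus.quotient B).map_surjective f
  ext
  exact (HomotopyCategory.quotient _ _).congr_map (counitC_naturality adj (ComplexShape.up ℤ) f.hom)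

/-- The adjunction on bounded below homotopy categories induced by an adjunction of additive functors. -/
noncomputable def adjPlus : L.mapHomotopyCategoryPlus ⊣ R.mapHomotopyCategoryPlus :=
  Adjunction.mkOfUnitCounit
    { unit := { app := unitP adj, naturality := fun _ _ f => unitP_naturality adj f }
      counit := { app := counitP adj, naturality := fun _ _ f => counitP_naturality adj f }
      left_triangle := by
        ext X
        obtain ⟨X, rfl⟩ := HomotopyCategory.Plus.quotient_obj_surjective X
        dsimp
        rw [Category.id_comp]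
        exact ((HomotopyCategory.quotient _ _).map_comp _ _).symm.trans
          (((HomotopyCategory.quotient _ _).congr_map (left_triangleC adj (ComplexShape.up ℤ) X.obj)).trans
            ((HomotopyCategory.quotient _ _).map_id _))
      right_triangle := by
        ext X
        obtain ⟨X, rfl⟩ := HomotopyCategory.Plus.quotient_obj_surjective X
        dsimp
        rw [Category.id_comp]
        exact ((HomotopyCategory.quotient _ _).map_comp _ _).symm.trans
          (((HomotopyCategory.quotient _ _).congr_map (right_triangleC adj (ComplexShape.up ℤ) X.obj)).trans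
            ((HomotopyCategory.quotient _ _).map_id _)) }

lemma adjPlus_unit_app (X : HomotopyCategory.Plus A) : (adjPlus adj).unit.app X = unitP adj X := rfl

lemma adjPlus_counit_app (X : HomotopyCategory.Plus B) : (adjPlus adj).counit.app X = counitP adj X := rfl

end Plus

end Groth.Agent.Helper3.AdjHtpyPlus
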