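import Mathlib
import Groth.Prelude.Def_CohSite

set_option autoImplicit false
universe u
open CategoryTheory Limits Opposite

namespace Groth.Agent.Helper3.HTerm

variable {C : Type u} [SmallCategory C] (J : GrothendieckTopology C)

/-- morphisms to a terminal object -/
@[reducible] def uniq {T : C} (hT : IsTerminal T) (V : C) : Unique (V ⟶ T) :=
  ⟨⟨hT.from V⟩, fun _ => hT.hom_ext _ _⟩

/-- the free abelian presheaf on the presheaf represented by a terminal object is the constant
presheaf `ℤ` -/
noncomputable def freeYonedaIso {T : C} (hT : IsTerminal T) :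
    yoneda.obj T ⋙ AddCommGrpCat.free ≅
      (Functor.const Cᵒᵖ).obj (AddCommGrpCat.of (ULift.{u} ℤ)) :=
  NatIso.ofComponents (fun V =>
    letI : Unique (V.unop ⟶ T) := uniq hT _
    (AddEquiv.toAddCommGrpIso
      ((FreeAbelianGroup.uniqueEquiv (V.unop ⟶ T)).trans AddEquiv.ulift.symm)))
    (by
      intro V W f
      let _ : Unique (V.unop ⟶ T) := uniq hT _
      let _ : Unique (W.unop ⟶ T) := uniq hT _
      apply AddCommGrpCat.hom_ext
      refine FreeAbelianGroup.lift_ext _ _ (fun x => ?_)
      apply ULift.ext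
      change (FreeAbelianGroup.uniqueEquiv (unop W ⟶ T))
        (FreeAbelianGroup.map _ (FreeAbelianGroup.of x)) =
        (FreeAbelianGroup.uniqueEquiv (unop V ⟶ T)) (FreeAbelianGroup.of x)
      rw [FreeAbelianGroup.map_of_apply]
      simp [FreeAbelianGroup.uniqueEquiv])

/-- the free abelian sheaf on a terminal object is the constant sheaf `ℤ` -/
noncomputable def sheafIso {T : C} (hT : IsTerminal T) :
    (presheafToSheaf J AddCommGrpCat.{u}).obj (yoneda.obj T ⋙ AddCommGrpCat.free) ≅
      (constantSheaf J AddCommGrpCat.{u}).obj (AddCommGrpCat.of (ULift.{u} ℤ)) :=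
  (presheafToSheaf J _).mapIso (freeYonedaIso hT)

/-- global cohomology is the cohomology of a terminal object -/
noncomputable def HEquiv {T : C} (hT : IsTerminal T) (F : Sheaf J AddCommGrpCat.{u}) (n : ℕ) :
    Sheaf.H F n ≃+ CohSite.HU F n T :=
  (((Abelian.extFunctor n).mapIso (sheafIso J hT).op).app F).addCommGroupIsoToAddEquiv

end Groth.Agent.Helper3.HTerm
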