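import Mathlib
import Groth.Prelude.Def_FreeSh
import Groth.Prelude.Def_CohSite

set_option autoImplicit false
universe u
open CategoryTheory Limits Opposite

namespace Groth.Agent.Helper3.H0Iso

variable {C : Type u} [SmallCategory C] (J : GrothendieckTopology C) (F : Sheaf J AddCommGrpCat.{u})

/-- `H^0(U, F) = F(U)` -/
noncomputable def compEquiv (U : C) :
    ((F.cohomologyPresheaf 0).obj (op U) : Type u) ≃+ F.obj.obj (op U) :=
  (Abelian.Ext.addEquiv₀ (X := CohCx.freeSheaf J U) (Y := F)).trans (CohFree.homEquivSect J U F)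

lemma compEquiv_naturality {U V : C} (g : V ⟶ U) (x : ((F.cohomologyPresheaf 0).obj (op U) : Type u)) :
    compEquiv J F V (((F.cohomologyPresheaf 0).map g.op).hom x) =
      (F.obj.map g.op).hom (compEquiv J F U x) := by
  have h4 : ((F.cohomologyPresheaf 0).map g.op).hom x =
      (Abelian.Ext.mk₀ (CohCx.freeSheafMap J g)).comp x (zero_add 0) := rfl
  obtain ⟨φ, rfl⟩ := (Abelian.Ext.mk₀_bijective (CohCx.freeSheaf J U) F).2 x
  rw [h4, Abelian.Ext.mk₀_comp_mk₀]
  change CohFree.evalGen J V F (Abelian.Ext.addEquiv₀ (Abelian.Ext.mk₀ _)) =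
    (F.obj.map g.op).hom (CohFree.evalGen J U F (Abelian.Ext.addEquiv₀ (Abelian.Ext.mk₀ φ)))
  have e1 : ∀ {X Y : Sheaf J AddCommGrpCat.{u}} (f : X ⟶ Y),
      Abelian.Ext.addEquiv₀ (Abelian.Ext.mk₀ f) = f := by
    intro X Y f
    apply (Abelian.Ext.mk₀_bijective X Y).1
    delta Abelian.Ext.addEquiv₀
    simp
  rw [e1, e1]
  exact CohFree.evalGen_freeSheafMap_comp J g F φ

/-- the zeroth cohomology presheaf of a sheaf is its underlying presheaf -/
noncomputable def iso : F.cohomologyPresheaf 0 ≅ F.obj :=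
  NatIso.ofComponents (fun U => (compEquiv J F U.unop).toAddCommGrpIso) (by
    intro U V φ
    obtain ⟨g, rfl⟩ : ∃ g : V.unop ⟶ U.unop, φ = g.op := ⟨φ.unop, rfl⟩
    ext x
    exact compEquiv_naturality J F g x)

end Groth.Agent.Helper3.H0Iso
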