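import Mathlib
import Groth.Prelude.Def_CohCx
import Groth.Agent.Lib.Helper3.CechNerveRes

set_option autoImplicit false
universe u
open CategoryTheory Limits Opposite

namespace Groth.Agent.Helper3.CechBot

variable {C : Type u} [SmallCategory C]

/-- sheafification for the trivial topology does nothing -/
noncomputable def sheafifyBotIso (P : Cᵒᵖ ⥤ AddCommGrpCat.{u}) :
    (presheafToSheaf (⊥ : GrothendieckTopology C) AddCommGrpCat.{u}).obj P ≅ (PShInst.botF C).obj P :=
  @asIso _ _ _ _ _ (isIso_sheafificationAdjunction_counit (J := (⊥ : GrothendieckTopology C))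
    (D := AddCommGrpCat.{u}) ((PShInst.botF C).obj P))

attribute [local instance] PShInst.isGrothendieckAbelian_psh

/-- `Ext` of presheaves as `Ext` in sheaves for the trivial topology, out of the sheafification -/
noncomputable def extIso (P M : Cᵒᵖ ⥤ AddCommGrpCat.{u}) (n : ℕ) :
    AddCommGrpCat.of (Abelian.Ext.{u} P M n) ≅
      AddCommGrpCat.of (Abelian.Ext.{u}
        ((presheafToSheaf (⊥ : GrothendieckTopology C) AddCommGrpCat.{u}).obj P)
        (⟨M, Presheaf.isSheaf_bot _⟩ : Sheaf (⊥ : GrothendieckTopology C) AddCommGrpCat.{u}) n) :=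
  (PShInst.extBotEquiv C P M n).toAddCommGrpIso ≪≫
    ((Abelian.extFunctor n).mapIso (sheafifyBotIso P).op).app _

variable [HasPullbacks C]

theorem cechH_iso (M : Cᵒᵖ ⥤ AddCommGrpCat.{u}) {X : C} {ι : Type u} (Y : ι → Over X) (q : ℕ) :
    Nonempty (CohCx.cechH M Y q ≅ AddCommGrpCat.of (CohCx.HK (J := (⊥ : GrothendieckTopology C))
      ⟨(Sieve.ofArrows (fun i => (Y i).left) (fun i => (Y i).hom)).functor, Presheaf.isSheaf_bot _⟩
      ⟨M, Presheaf.isSheaf_bot _⟩ q)) :=
  ⟨CechNerveRes.cechExtIso Y M q ≪≫ extIso (CechNerveRes.ZS Y) M q⟩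

end Groth.Agent.Helper3.CechBot
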