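import Mathlib
import Groth.Prelude.Def_SpSeq
import Groth.Agent.Lib.Helper3.AbutIso

set_option autoImplicit false
universe u
open CategoryTheory Limits
open scoped ZeroObject

namespace Groth.Agent.Helper3.AbutIf

/-- transport of abutment data (with `0` in negative degrees) to abelian groups given objectwise
isomorphisms, replacing the zero object by `PUnit`. -/
theorem exists_abutment_if {r₀ : ℤ} {E : CohomologicalSpectralSequence AddCommGrpCat.{u} r₀}
    (H G : ℕ → AddCommGrpCat.{u})
    (a : SpSeq.Abutment E (fun n : ℤ => if 0 ≤ n then H n.toNat else 0))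
    (hfin : ∀ n, a.IsFinite n) (e : ∀ k, Nonempty (H k ≅ G k)) :
    ∃ a' : SpSeq.Abutment E
      (fun n : ℤ => if 0 ≤ n then G n.toNat else AddCommGrpCat.of PUnit.{u + 1}),
      ∀ n, a'.IsFinite n := by
  have e' : ∀ n : ℤ, Nonempty
      ((if 0 ≤ n then H n.toNat else 0) ≅
        (if 0 ≤ n then G n.toNat else AddCommGrpCat.of PUnit.{u + 1})) := by
    intro n
    by_cases hn : 0 ≤ n
    · rw [if_pos hn, if_pos hn]
      exact e _
    · rw [if_neg hn, if_neg hn]
      exact ⟨(isZero_zero _).iso (AddCommGrpCat.isZero_of_subsingleton _)⟩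
  exact AbutIso.exists_abutment_of_iso a (fun n => (e' n).some) hfin

/-- the same for the `E₂` terms -/
theorem nonempty_iso_if {X A B : AddCommGrpCat.{u}} (c : Prop) [Decidable c]
    (i : Nonempty (X ≅ if c then A else 0)) (e : Nonempty (A ≅ B)) :
    Nonempty (X ≅ if c then B else AddCommGrpCat.of PUnit.{u + 1}) := by
  obtain ⟨i⟩ := i
  by_cases h : c
  · rw [if_pos h] at i ⊢
    exact ⟨i ≪≫ e.some⟩
  · rw [if_neg h] at i ⊢
    exact ⟨i ≪≫ (isZero_zero _).iso (AddCommGrpCat.isZero_of_subsingleton _)⟩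

end Groth.Agent.Helper3.AbutIf
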