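import Mathlib
import Groth.Agent.Lib.Helper3.HIso

set_option autoImplicit false
universe w v u
open CategoryTheory Limits CochainComplex HomComplex Abelian

namespace Groth.Agent.Helper3.ExtInj

variable {𝒜 : Type u} [Category.{v} 𝒜] [Abelian 𝒜] [HasExt.{w} 𝒜] {N : 𝒜}
  (R : InjectiveResolution N) {A : 𝒜}

lemma extMk_zero_eq_zero_iff (f : A ⟶ R.cocomplex.X 0) (hf : f ≫ R.cocomplex.d 0 1 = 0) :
    R.extMk f 1 rfl hf = 0 ↔ f = 0 := by
  simp only [← R.extEquivCohomologyClass.apply_eq_iff_eq,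
    InjectiveResolution.extEquivCohomologyClass_extMk,
    InjectiveResolution.extEquivCohomologyClass_zero,
    CohomologyClass.mk_eq_zero_iff]
  rw [Cocycle.fromSingleMk_mem_coboundaries_iff _ _ _ _ _ (-1) (by simp)]
  have hz : IsZero (R.cochainComplex.X (-1)) := CochainComplex.isZero_of_isStrictlyGE _ 0 _ (by lia)
  constructor
  · rintro ⟨g, hg⟩
    rw [hz.eq_of_tgt g 0, zero_comp] at hg
    rw [← cancel_mono (R.cochainComplexXIso ((0 : ℕ) : ℤ) 0 rfl).inv, ← hg, zero_comp]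
  · rintro rfl
    exact ⟨0, by simp⟩

lemma extMk_congr {n : ℕ} {f f' : A ⟶ R.cocomplex.X n} (h : f = f') (m : ℕ) (hm : n + 1 = m)
    (hf : f ≫ R.cocomplex.d n m = 0) :
    R.extMk f m hm hf = R.extMk f' m hm (h ▸ hf) := by
  subst h; rfl

section main

variable (A) (K : CochainComplex AddCommGrpCat.{w} ℕ) (e : ∀ n, (A ⟶ R.cocomplex.X n) ≃+ K.X n)
  (he : ∀ n (f : A ⟶ R.cocomplex.X n), e (n + 1) (f ≫ R.cocomplex.d n (n + 1)) = K.d n (n + 1) (e n f))

include he in
omit [HasExt.{w} 𝒜] in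
lemma symm_comp_d (n : ℕ) (z : AddMonoidHom.ker (K.d n (n + 1)).hom) :
    (e n).symm z.1 ≫ R.cocomplex.d n (n + 1) = 0 := by
  apply (e (n + 1)).injective
  rw [he, AddEquiv.apply_symm_apply, map_zero]
  exact z.2

/-- the map from cocycles to `Ext` -/
noncomputable def ψ (n : ℕ) : AddMonoidHom.ker (K.d n (n + 1)).hom →+ Ext.{w} A N n where
  toFun z := R.extMk ((e n).symm z.1) (n + 1) rfl (symm_comp_d R A K e he n z)
  map_zero' := by
    simp only [ZeroMemClass.coe_zero, map_zero]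
    exact R.extMk_zero (n + 1) rfl
  map_add' a b := by
    rw [InjectiveResolution.add_extMk]
    congr 1
    simp

lemma ψ_apply (n : ℕ) (z : AddMonoidHom.ker (K.d n (n + 1)).hom) :
    ψ R A K e he n z = R.extMk ((e n).symm z.1) (n + 1) rfl (symm_comp_d R A K e he n z) := rfl

lemma ψ_surjective (n : ℕ) : Function.Surjective (ψ R A K e he n) := by
  intro α
  obtain ⟨f, hf, rfl⟩ := R.extMk_surjective α (n + 1) rfl
  refine ⟨⟨e n f, ?_⟩, ?_⟩
  · rw [AddMonoidHom.mem_ker]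
    change K.d n (n + 1) (e n f) = 0
    rw [← he, hf, map_zero]
  · rw [ψ_apply]
    exact extMk_congr R (by simp) _ _ _

lemma ψ_eq_zero_iff (n : ℕ) (z : AddMonoidHom.ker (K.d n (n + 1)).hom) :
    ψ R A K e he n z = 0 ↔ ∃ y : K.X ((ComplexShape.up ℕ).prev n),
      K.d ((ComplexShape.up ℕ).prev n) n y = z.1 := by
  rw [ψ_apply]
  obtain _ | p := n
  · have hp : (ComplexShape.up ℕ).prev 0 = 0 := by simp
    rw [hp, extMk_zero_eq_zero_iff]
    have hd : K.d 0 0 = 0 := K.shape _ _ (by simp)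
    constructor
    · intro h
      refine ⟨0, ?_⟩
      rw [map_zero]
      have := congrArg (e 0) h
      simpa using this.symm
    · rintro ⟨y, hy⟩
      rw [hd] at hy
      have hz : z.1 = 0 := hy.symm
      rw [hz, map_zero]
  · have hp : (ComplexShape.up ℕ).prev (p + 1) = p := by simp
    rw [hp, R.extMk_eq_zero_iff _ _ _ _ p rfl]
    constructor
    · rintro ⟨g, hg⟩
      refine ⟨e p g, ?_⟩
      rw [← he, hg, AddEquiv.apply_symm_apply]
    · rintro ⟨y, hy⟩
      refine ⟨(e p).symm y, ?_⟩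
      apply (e (p + 1)).injective
      rw [he, AddEquiv.apply_symm_apply, AddEquiv.apply_symm_apply, hy]

/-- computation of `Ext` from an injective resolution of the second variable -/
noncomputable def homologyIso (n : ℕ) :
    K.homology n ≅ AddCommGrpCat.of (Ext.{w} A N n) :=
  HIso.cxIso K ((ComplexShape.up ℕ).prev n) n (n + 1) rfl (by simp) (ψ R A K e he n)
    (ψ_surjective R A K e he n) (ψ_eq_zero_iff R A K e he n)

end main

section nat

variable {A' : 𝒜} (g : A' ⟶ A) {K K' : CochainComplex AddCommGrpCat.{w} ℕ} (κ : K ⟶ K')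
  (e : ∀ n, (A ⟶ R.cocomplex.X n) ≃+ K.X n)
  (he : ∀ n (f : A ⟶ R.cocomplex.X n), e (n + 1) (f ≫ R.cocomplex.d n (n + 1)) = K.d n (n + 1) (e n f))
  (e' : ∀ n, (A' ⟶ R.cocomplex.X n) ≃+ K'.X n)
  (he' : ∀ n (f : A' ⟶ R.cocomplex.X n),
    e' (n + 1) (f ≫ R.cocomplex.d n (n + 1)) = K'.d n (n + 1) (e' n f))
  (hc : ∀ n (f : A ⟶ R.cocomplex.X n), e' n (g ≫ f) = κ.f n (e n f))

include hc in
lemma homologyIso_naturality (n : ℕ) :
    HomologicalComplex.homologyMap κ n ≫ (homologyIso R A' K' e' he' n).hom =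
      (homologyIso R A K e he n).hom ≫
        AddCommGrpCat.ofHom ((Ext.mk₀ g).precomp N (zero_add n)) := by
  refine HIso.cxIso_naturality κ _ n (n + 1) rfl (by simp) _ _ _ _ _ _ _ ?_
  intro z
  rw [ψ_apply, ψ_apply]
  change (Ext.mk₀ g).comp _ (zero_add n) = _
  rw [InjectiveResolution.mk₀_comp_extMk]
  refine extMk_congr R ?_ _ _ _
  apply (e' n).injective
  rw [hc, AddEquiv.apply_symm_apply, AddEquiv.apply_symm_apply]
  rfl

end nat

end Groth.Agent.Helper3.ExtInj
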