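import Mathlib
import Groth.Prelude.Def_FreeSh
import Groth.Prelude.Def_CohSite
import Groth.Agent.Lib.Helper3.ExtInj
import Groth.Agent.Lib.Helper3.PShInst

set_option autoImplicit false
universe u
open CategoryTheory Limits Opposite

namespace Groth.Agent.Helper3.CohPre

variable {C : Type u} [SmallCategory C] (J : GrothendieckTopology C) {M : Sheaf J AddCommGrpCat.{u}}
  (I : InjectiveResolution M)

/-- the complex of presheaves underlying an injective resolution -/
noncomputable abbrev KP : CochainComplex (Cᵒᵖ ⥤ AddCommGrpCat.{u}) ℕ :=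
  ((sheafToPresheaf J AddCommGrpCat.{u}).mapHomologicalComplex _).obj I.cocomplex

/-- sections over `U` of the injective resolution -/
noncomputable abbrev KU (U : C) : CochainComplex AddCommGrpCat.{u} ℕ :=
  (((evaluation Cᵒᵖ AddCommGrpCat.{u}).obj (op U)).mapHomologicalComplex _).obj (KP J I)

/-- restriction of sections of the injective resolution -/
noncomputable abbrev res {U V : C} (f : V ⟶ U) : KU J I U ⟶ KU J I V :=
  (NatTrans.mapHomologicalComplex ((evaluation Cᵒᵖ AddCommGrpCat.{u}).map f.op) _).app (KP J I)

/-- sections of the terms of the resolution as morphisms from the free sheaf -/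
noncomputable def e (U : C) (n : ℕ) : (CohCx.freeSheaf J U ⟶ I.cocomplex.X n) ≃+ (KU J I U).X n :=
  CohFree.homEquivSect J U (I.cocomplex.X n)

lemma he (U : C) (n : ℕ) (f : CohCx.freeSheaf J U ⟶ I.cocomplex.X n) :
    e J I U (n + 1) (f ≫ I.cocomplex.d n (n + 1)) = (KU J I U).d n (n + 1) (e J I U n f) := rfl

lemma hc {U V : C} (g : V ⟶ U) (n : ℕ) (f : CohCx.freeSheaf J U ⟶ I.cocomplex.X n) :
    e J I V n (CohCx.freeSheafMap J g ≫ f) = (res J I g).f n (e J I U n f) :=
  CohFree.evalGen_freeSheafMap_comp J g _ f

/-- cohomology of the sections of an injective resolution is `Ext` out of the free sheaf -/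
noncomputable def cU (U : C) (q : ℕ) :
    (KU J I U).homology q ≅ AddCommGrpCat.of (Abelian.Ext.{u} (CohCx.freeSheaf J U) M q) :=
  ExtInj.homologyIso I (CohCx.freeSheaf J U) (KU J I U) (e J I U) (he J I U) q

lemma cU_naturality {U V : C} (g : V ⟶ U) (q : ℕ) :
    HomologicalComplex.homologyMap (res J I g) q ≫ (cU J I V q).hom =
      (cU J I U q).hom ≫ AddCommGrpCat.ofHom
        ((Abelian.Ext.mk₀ (CohCx.freeSheafMap J g)).precomp M (zero_add q)) :=
  ExtInj.homologyIso_naturality I (CohCx.freeSheafMap J g) (res J I g) (e J I U) (he J I U)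
    (e J I V) (he J I V) (hc J I g) q

section evalHomology

variable (K : CochainComplex (Cᵒᵖ ⥤ AddCommGrpCat.{u}) ℕ)

/-- homology of a complex of presheaves is computed objectwise -/
noncomputable def evH (U : C) (q : ℕ) :
    ((((evaluation Cᵒᵖ AddCommGrpCat.{u}).obj (op U)).mapHomologicalComplex _).obj K).homology q ≅
      (K.homology q).obj (op U) :=
  (K.sc q).mapHomologyIso ((evaluation Cᵒᵖ AddCommGrpCat.{u}).obj (op U))

lemma evH_naturality {U V : C} (g : V ⟶ U) (q : ℕ) :
    HomologicalComplex.homologyMap
      ((NatTrans.mapHomologicalComplex ((evaluation Cᵒᵖ AddCommGrpCat.{u}).map g.op) _).app K) q ≫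
        (evH K V q).hom = (evH K U q).hom ≫ (K.homology q).map g.op := by
  have h := (K.sc q).homologyMap_mapNatTrans ((evaluation Cᵒᵖ AddCommGrpCat.{u}).map g.op)
  change ShortComplex.homologyMap
    ((K.sc q).mapNatTrans ((evaluation Cᵒᵖ AddCommGrpCat.{u}).map g.op)) ≫ _ = _
  rw [h, Category.assoc, Category.assoc]
  erw [Iso.inv_hom_id, Category.comp_id]
  rfl

end evalHomology

/-- the cohomology presheaf of the underlying complex of presheaves of an injective resolution is
the presheaf `U ↦ H^q(U, M)` -/
noncomputable def presheafIso (q : ℕ) : (KP J I).homology q ≅ M.cohomologyPresheaf q :=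
  NatIso.ofComponents (fun U => (evH (KP J I) U.unop q).symm ≪≫ cU J I U.unop q) (by
    intro U V φ
    obtain ⟨g, rfl⟩ : ∃ g : V.unop ⟶ U.unop, φ = g.op := ⟨φ.unop, rfl⟩
    have h1 := evH_naturality (KP J I) g q
    have h2 := cU_naturality J I g q
    have h3 : (evH (KP J I) U.unop q).inv ≫ HomologicalComplex.homologyMap (res J I g) q =
        ((KP J I).homology q).map g.op ≫ (evH (KP J I) V.unop q).inv := by
      rw [Iso.inv_comp_eq, ← Category.assoc, Iso.eq_comp_inv]
      exact h1
    have h4 : (M.cohomologyPresheaf q).map g.op = AddCommGrpCat.ofHom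
        ((Abelian.Ext.mk₀ (CohCx.freeSheafMap J g)).precomp M (zero_add q)) := by
      ext α
      rfl
    change ((KP J I).homology q).map g.op ≫
      ((evH (KP J I) V.unop q).inv ≫ (cU J I V.unop q).hom) =
      ((evH (KP J I) U.unop q).inv ≫ (cU J I U.unop q).hom) ≫ (M.cohomologyPresheaf q).map g.op
    exact (Category.assoc _ _ _).symm.trans ((congrArg (· ≫ (cU J I V.unop q).hom) h3.symm).trans
      ((Category.assoc _ _ _).trans ((congrArg ((evH (KP J I) U.unop q).inv ≫ ·) h2).trans
        ((Category.assoc _ _ _).symm.trans (congrArg (_ ≫ ·) h4.symm))))))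

section derived

variable (C) in
/-- the inclusion of `J`-sheaves into sheaves for the trivial topology (that is, presheaves) -/
noncomputable abbrev T : Sheaf J AddCommGrpCat.{u} ⥤ Sheaf (⊥ : GrothendieckTopology C) AddCommGrpCat.{u} :=
  sheafToPresheaf J AddCommGrpCat.{u} ⋙ PShInst.botF C

instance : (T C J).Additive := inferInstance

/-- the right derived functors of the inclusion of sheaves into presheaves are the cohomology
presheaves -/
noncomputable def rightDerivedIso (M : Sheaf J AddCommGrpCat.{u}) (q : ℕ) :
    ((T C J).rightDerived q).obj M ≅ (PShInst.botF C).obj (M.cohomologyPresheaf q) :=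
  (injectiveResolution M).isoRightDerivedObj (T C J) q ≪≫
    ((KP J (injectiveResolution M)).sc q).mapHomologyIso (PShInst.botF C) ≪≫
    (PShInst.botF C).mapIso (presheafIso J (injectiveResolution M) q)

end derived

end Groth.Agent.Helper3.CohPre
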