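import Mathlib
import Groth.Prelude.Def_SpSeq
import Groth.Agent.Lib.Helper3.GSS
import Groth.Agent.Lib.Helper3.ExtRD
import Groth.Agent.Lib.Helper3.AbutIf
import Groth.Agent.Lib.Helper3.CohPre

set_option autoImplicit false
universe u
open CategoryTheory Limits Opposite

namespace Groth.Agent.Helper3.CechSS

variable {C : Type u} [SmallCategory C] (J : GrothendieckTopology C)

/-- the left adjoint of the inclusion of sheaves into presheaves (as trivial sheaves) -/
noncomputable abbrev L : Sheaf (⊥ : GrothendieckTopology C) AddCommGrpCat.{u} ⥤ Sheaf J AddCommGrpCat.{u} :=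
  sheafToPresheaf (⊥ : GrothendieckTopology C) AddCommGrpCat.{u} ⋙ presheafToSheaf J AddCommGrpCat.{u}

/-- the adjunction between sheafification and the inclusion -/
noncomputable def adj : L J ⊣ CohPre.T C J :=
  (sheafBotEquivalence (C := C) AddCommGrpCat.{u}).toAdjunction.comp
    (sheafificationAdjunction J AddCommGrpCat.{u})

instance : (CohPre.T C J).PreservesInjectiveObjects :=
  Functor.preservesInjectiveObjects_of_adjunction_of_preservesMonomorphisms (adj J)

/-- `Hom(X, T -) ≅ Hom(L X, -)` -/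
noncomputable def coyonedaAdjIso (X : Sheaf (⊥ : GrothendieckTopology C) AddCommGrpCat.{u}) :
    CohPre.T C J ⋙ preadditiveCoyoneda.obj (op X) ≅ preadditiveCoyoneda.obj (op ((L J).obj X)) :=
  NatIso.ofComponents (fun Y => ((adj J).homAddEquiv X Y).symm.toAddCommGrpIso) (by
    intro Y Y' f
    ext x
    exact (adj J).homEquiv_naturality_right_symm x f)

/-- the free abelian sheaf for the trivial topology on a presheaf of sets -/
noncomputable abbrev Abot (P : Cᵒᵖ ⥤ Type u) : Sheaf (⊥ : GrothendieckTopology C) AddCommGrpCat.{u} :=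
  (presheafToSheaf (⊥ : GrothendieckTopology C) AddCommGrpCat.{u}).obj (P ⋙ AddCommGrpCat.free.{u})

/-- `L` of the free trivial sheaf is the free `J`-sheaf -/
noncomputable def LAbotIso (P : Cᵒᵖ ⥤ Type u) :
    (L J).obj (Abot P) ≅ (presheafToSheaf J AddCommGrpCat.{u}).obj (P ⋙ AddCommGrpCat.free.{u}) :=
  (presheafToSheaf J AddCommGrpCat.{u}).mapIso
    (@asIso _ _ _ _ _ (isIso_toSheafify (⊥ : GrothendieckTopology C)
      (Presheaf.isSheaf_bot (P ⋙ AddCommGrpCat.free.{u})))).symm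

open scoped ZeroObject in
/-- the spectral sequence `Ext^p_{PSh}(ℤ[P], H^q(M)) ⇒ Ext^{p+q}(B, M)` for `B ≅ ℤ[P]^#` -/
theorem main (P : Cᵒᵖ ⥤ Type u) (B : Sheaf J AddCommGrpCat.{u})
    (eB : B ≅ (presheafToSheaf J AddCommGrpCat.{u}).obj (P ⋙ AddCommGrpCat.free.{u}))
    (M : Sheaf J AddCommGrpCat.{u}) :
    ∃ (E : E₂CohomologicalSpectralSequence AddCommGrpCat.{u})
      (a : SpSeq.Abutment E (fun n : ℤ =>
        if 0 ≤ n then AddCommGrpCat.of (Abelian.Ext.{u} B M n.toNat)
        else AddCommGrpCat.of PUnit.{u + 1})),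
      (∀ n, a.IsFinite n) ∧ SpSeq.IsBounded E ∧
      ∀ p q : ℤ, Nonempty ((E.page 2 le_rfl).X (p, q) ≅
        (if 0 ≤ p ∧ 0 ≤ q then
          AddCommGrpCat.of (Abelian.Ext.{u} (Abot P)
            ((PShInst.botF C).obj (M.cohomologyPresheaf q.toNat)) p.toNat)
         else AddCommGrpCat.of PUnit.{u + 1})) := by
  let S := preadditiveCoyoneda.obj (op (Abot P))
  have hT : ∀ Q : Sheaf J AddCommGrpCat.{u}, Injective Q → ∀ q : ℕ, 0 < q →
      IsZero ((S.rightDerived q).obj ((CohPre.T C J).obj Q)) := by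
    intro Q hQ q hq
    have : Injective ((CohPre.T C J).obj Q) := (CohPre.T C J).injective_obj_of_injective hQ
    obtain ⟨m, rfl⟩ : ∃ m, q = m + 1 := ⟨q - 1, by omega⟩
    exact S.isZero_rightDerived_obj_injective_succ m _
  obtain ⟨E, a, hfin, hbdd, hE⟩ := GSS.main' (CohPre.T C J) S hT M
  let compIso : CohPre.T C J ⋙ S ≅ preadditiveCoyoneda.obj (op B) :=
    coyonedaAdjIso J (Abot P) ≪≫ preadditiveCoyoneda.mapIso (eB ≪≫ (LAbotIso J P).symm).op
  obtain ⟨a', ha'⟩ := AbutIf.exists_abutment_if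
    (fun k => ((CohPre.T C J ⋙ S).rightDerived k).obj M)
    (fun k => AddCommGrpCat.of (Abelian.Ext.{u} B M k)) a hfin
    (fun k => ⟨ExtRD.rightDerivedIsoExt (CohPre.T C J ⋙ S) B compIso M k⟩)
  refine ⟨E, a', ha', hbdd, ?_⟩
  intro p q
  refine AbutIf.nonempty_iso_if _ (hE p q) ⟨?_⟩
  exact ExtRD.rightDerivedIsoExt S (Abot P) (Iso.refl _) _ p.toNat ≪≫
    (Abelian.extFunctorObj (Abot P) p.toNat).mapIso (CohPre.rightDerivedIso J M q.toNat)

end Groth.Agent.Helper3.CechSS
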