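import Mathlib

set_option autoImplicit false
universe u
open CategoryTheory Limits Opposite

namespace Groth.Agent.Helper3.WFree

variable {C : Type u} [SmallCategory C] (J : GrothendieckTopology C)

/-- the free abelian presheaf functor sends local isomorphisms to local isomorphisms -/
lemma W_whiskerRight_free {P Q : Cᵒᵖ ⥤ Type u} (g : P ⟶ Q) (hg : J.W g) :
    J.W (Functor.whiskerRight g AddCommGrpCat.free.{u}) := by
  intro Z hZ
  have hZ' : Presheaf.IsSheaf J (Z ⋙ forget AddCommGrpCat.{u}) :=
    Presheaf.isSheaf_comp_of_isSheaf J Z (forget AddCommGrpCat.{u}) hZ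
  have h := hg (Z ⋙ forget AddCommGrpCat.{u}) hZ'
  exact ((Adjunction.whiskerRight Cᵒᵖ AddCommGrpCat.adj.{u}).map_comp_bijective_iff g Z).2 h

/-- sheafification of the free abelian presheaf only depends on the associated sheaf of sets -/
noncomputable def sheafifyFreeIso {P Q : Cᵒᵖ ⥤ Type u} (g : P ⟶ Q) (hg : J.W g) :
    (presheafToSheaf J AddCommGrpCat.{u}).obj (P ⋙ AddCommGrpCat.free.{u}) ≅
      (presheafToSheaf J AddCommGrpCat.{u}).obj (Q ⋙ AddCommGrpCat.free.{u}) :=
  have := (J.W_iff _).1 (W_whiskerRight_free J g hg)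
  asIso ((presheafToSheaf J AddCommGrpCat.{u}).map (Functor.whiskerRight g AddCommGrpCat.free.{u}))

end Groth.Agent.Helper3.WFree
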