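import Mathlib
import Groth.Agent.Lib.Helper3.WFree

set_option autoImplicit false
universe u
open CategoryTheory Limits Opposite

namespace Groth.Agent.Helper3.CovW

variable {C : Type u} [SmallCategory C] (J : GrothendieckTopology C)

/-- the inclusion of a covering sieve into the representable presheaf is a local isomorphism -/
lemma W_functorInclusion {X : C} (S : Sieve X) (hS : S ∈ J X) :
    J.W (A := Type u) S.functorInclusion := by
  intro Z hZ
  rw [isSheaf_iff_isSheaf_of_type] at hZ
  have h := (Presieve.isSheafFor_iff_yonedaSheafCondition (P := Z) (S := S)).1 (hZ S hS)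
  constructor
  · intro g₁ g₂ h12
    obtain ⟨g, _, hg⟩ := h (S.functorInclusion ≫ g₁)
    exact (hg g₁ rfl).trans (hg g₂ h12.symm).symm
  · intro f
    obtain ⟨g, hg, _⟩ := h f
    exact ⟨g, hg⟩

/-- the free abelian sheaf on a covering sieve is the free abelian sheaf on the object -/
noncomputable def freeSieveIso {X : C} (S : Sieve X) (hS : S ∈ J X) :
    (presheafToSheaf J AddCommGrpCat.{u}).obj (S.functor ⋙ AddCommGrpCat.free.{u}) ≅
      (presheafToSheaf J AddCommGrpCat.{u}).obj (yoneda.obj X ⋙ AddCommGrpCat.free.{u}) :=
  WFree.sheafifyFreeIso J S.functorInclusion (W_functorInclusion J S hS)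

end Groth.Agent.Helper3.CovW
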