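import Mathlib

set_option autoImplicit false
universe u
open CategoryTheory Limits Opposite TopologicalSpace

namespace Groth.Agent.Helper3.SpecCov

variable {X : TopCat.{u}}

lemma prod_left_eq_iInf {V : Opens X} {κ : Type u} (Y : κ → Over V) {n : ℕ} (a : Fin (n + 1) → κ) :
    (∏ᶜ fun k => Y (a k)).left = ⨅ k, (Y (a k)).left := by
  apply le_antisymm
  · exact le_iInf fun k => leOfHom (Pi.π (fun k => Y (a k)) k).left
  · have hW : (⨅ k, (Y (a k)).left) ≤ V :=
      (iInf_le (fun k => (Y (a k)).left) 0).trans (leOfHom (Y (a 0)).hom)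
    let W : Over V := Over.mk (homOfLE hW)
    have f : W ⟶ ∏ᶜ fun k => Y (a k) :=
      Pi.lift fun k => Over.homMk (homOfLE (iInf_le (fun k => (Y (a k)).left) k))
        (Subsingleton.elim _ _)
    exact leOfHom f.left

lemma isCompact_iInf_fin [QuasiSeparatedSpace X] (n : ℕ) (f : Fin (n + 1) → Opens X)
    (hf : ∀ k, IsCompact (f k : Set X)) : IsCompact ((⨅ k, f k : Opens X) : Set X) := by
  induction n with
  | zero =>
    have : (⨅ k, f k) = f 0 := by
      apply le_antisymm (iInf_le _ 0)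
      exact le_iInf fun k => by
        have hk : k = 0 := Fin.ext (by have := k.2; omega)
        rw [hk]
    rw [this]
    exact hf 0
  | succ n ih =>
    have e : (⨅ k, f k) = f 0 ⊓ ⨅ k : Fin (n + 1), f k.succ := by
      apply le_antisymm
      · exact le_inf (iInf_le _ 0) (le_iInf fun k => iInf_le _ k.succ)
      · exact le_iInf (Fin.cases inf_le_left (fun k => inf_le_right.trans (iInf_le _ k)))
    rw [e, Opens.coe_inf]
    exact QuasiSeparatedSpace.inter_isCompact _ _ (f 0).2 (hf 0) (⨅ k : Fin (n + 1), f k.succ).2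
      (ih (fun k => f k.succ) (fun k => hf k.succ))

lemma exists_finite_refinement [PrespectralSpace X] (V : Opens X) (hV : IsCompact (V : Set X))
    (T : Sieve V) (hT : T ∈ Opens.grothendieckTopology X V) :
    ∃ (κ : Type u) (Y : κ → Over V), Finite κ ∧ (∀ k, IsCompact ((Y k).left : Set X)) ∧
      Sieve.ofArrows (fun k => (Y k).left) (fun k => (Y k).hom) ∈ Opens.grothendieckTopology X V ∧
      ∀ k, T.arrows (Y k).hom := by
  have hpt : ∀ x : V, ∃ (K : Opens X) (hle : K ≤ V), IsCompact (K : Set X) ∧ x.1 ∈ K ∧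
      T.arrows (homOfLE hle) := by
    intro x
    obtain ⟨W, f, hf, hxW⟩ := hT x.1 x.2
    obtain ⟨K, hK, hxK, hKW⟩ := (Opens.isBasis_iff_nbhd.1 (PrespectralSpace.isBasis_opens X)) hxW
    refine ⟨K, hKW.trans (leOfHom f), hK, hxK, ?_⟩
    have : homOfLE (hKW.trans (leOfHom f)) = homOfLE hKW ≫ f := Subsingleton.elim _ _
    rw [this]
    exact T.downward_closed hf _
  choose K hle hKc hxK hKT using hpt
  obtain ⟨t, ht⟩ := hV.elim_finite_subcover (fun x : V => (K x : Set X)) (fun x => (K x).2)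
    (fun x hx => Set.mem_iUnion.2 ⟨⟨x, hx⟩, hxK ⟨x, hx⟩⟩)
  refine ⟨t, fun k => Over.mk (homOfLE (hle k.1)), inferInstance, fun k => hKc k.1, ?_, fun k => hKT k.1⟩
  intro x hx
  obtain ⟨y, hy⟩ := Set.mem_iUnion.1 (ht hx)
  obtain ⟨hyt, hxy⟩ := Set.mem_iUnion.1 hy
  exact ⟨K y, homOfLE (hle y), Sieve.ofArrows_mk _ _ (⟨y, hyt⟩ : t), hxy⟩

end Groth.Agent.Helper3.SpecCov
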