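import Mathlib
import Groth.Prelude.Def_DeltaF

set_option autoImplicit false
open CategoryTheory CategoryTheory.Limits

universe v u v' u'

namespace Groth.Agent.Helper3.DeltaEff

open DeltaF

variable {A : Type u} [Category.{v} A] [Abelian A] {B : Type u'} [Category.{v'} B] [Abelian B]

/-- the short complex `X ⟶ Y ⟶ coker u`. -/
noncomputable abbrev sc {X Y : A} (u : X ⟶ Y) : ShortComplex A :=
  ShortComplex.mk u (cokernel.π u) (cokernel.condition u)

lemma sc_shortExact {X Y : A} (u : X ⟶ Y) [Mono u] : (sc u).ShortExact :=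
  ShortComplex.ShortExact.mk' (ShortComplex.exact_cokernel u) (by dsimp [sc]; infer_instance)
    (by dsimp [sc]; infer_instance)

variable (T T' : CohDeltaFunctor A B ℕ) (n : ℕ) (τ : T.F n ⟶ T'.F n)

lemma epi_δ (S : ShortComplex A) (hS : S.ShortExact) (hf : (T.F (n + 1)).map S.f = 0) :
    Epi (T.δ S hS n (n + 1) rfl) :=
  (T.exact₁ S hS n (n + 1) rfl).epi_f hf

lemma desc_cond (S : ShortComplex A) (hS : S.ShortExact) :
    (T.F n).map S.g ≫ τ.app S.X₃ ≫ T'.δ S hS n (n + 1) rfl = 0 := by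
  rw [τ.naturality_assoc, T'.comp_δ, comp_zero]

/-- the candidate next component attached to an effacing short exact sequence -/
noncomputable def aS (S : ShortComplex A) (hS : S.ShortExact)
    (hf : (T.F (n + 1)).map S.f = 0) :
    (T.F (n + 1)).obj S.X₁ ⟶ (T'.F (n + 1)).obj S.X₁ :=
  haveI : Epi (ShortComplex.mk _ _ (T.comp_δ S hS n (n + 1) rfl)).g := epi_δ T n S hS hf
  (T.exact₃ S hS n (n + 1) rfl).desc (τ.app S.X₃ ≫ T'.δ S hS n (n + 1) rfl)
    (desc_cond T T' n τ S hS)

lemma δ_aS (S : ShortComplex A) (hS : S.ShortExact)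
    (hf : (T.F (n + 1)).map S.f = 0) :
    T.δ S hS n (n + 1) rfl ≫ aS T T' n τ S hS hf = τ.app S.X₃ ≫ T'.δ S hS n (n + 1) rfl := by
  have : Epi (ShortComplex.mk _ _ (T.comp_δ S hS n (n + 1) rfl)).g := epi_δ T n S hS hf
  exact (T.exact₃ S hS n (n + 1) rfl).g_desc (τ.app S.X₃ ≫ T'.δ S hS n (n + 1) rfl)
    (desc_cond T T' n τ S hS)

/-- Lemma A: compatibility along a morphism of short exact sequences. -/
lemma lemmaA {S S' : ShortComplex A} (hS : S.ShortExact) (hS' : S'.ShortExact) (φ : S ⟶ S')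
    (hf : (T.F (n + 1)).map S.f = 0)
    (a : (T.F (n + 1)).obj S.X₁ ⟶ (T'.F (n + 1)).obj S.X₁)
    (a' : (T.F (n + 1)).obj S'.X₁ ⟶ (T'.F (n + 1)).obj S'.X₁)
    (ha : T.δ S hS n (n + 1) rfl ≫ a = τ.app S.X₃ ≫ T'.δ S hS n (n + 1) rfl)
    (ha' : T.δ S' hS' n (n + 1) rfl ≫ a' = τ.app S'.X₃ ≫ T'.δ S' hS' n (n + 1) rfl) :
    a ≫ (T'.F (n + 1)).map φ.τ₁ = (T.F (n + 1)).map φ.τ₁ ≫ a' := by
  have := epi_δ T n S hS hf
  rw [← cancel_epi (T.δ S hS n (n + 1) rfl)]
  rw [reassoc_of% ha, ← T'.δ_natural hS hS' φ n (n + 1) rfl, ← τ.naturality_assoc, ← ha',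
    reassoc_of% (T.δ_natural hS hS' φ n (n + 1) rfl)]


lemma map_lift_eq_zero (F : A ⥤ B) [F.Additive] {X Y Z : A} (f : X ⟶ Y) (g : X ⟶ Z)
    (hf : F.map f = 0) (hg : F.map g = 0) : F.map (biprod.lift f g) = 0 := by
  rw [biprod.lift_eq, F.map_add, F.map_comp, F.map_comp, hf, hg, zero_comp, zero_comp, add_zero]

instance mono_lift_left {X Y Z : A} (f : X ⟶ Y) (g : X ⟶ Z) [Mono f] : Mono (biprod.lift f g) :=
  mono_of_mono_fac (biprod.lift_fst f g)

instance mono_lift_right {X Y Z : A} (f : X ⟶ Y) (g : X ⟶ Z) [Mono g] : Mono (biprod.lift f g) :=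
  mono_of_mono_fac (biprod.lift_snd f g)

variable (hT : T.IsEffaceable)

/-- chosen effacing target -/
noncomputable def effY (X : A) : A := (hT n X).choose

/-- chosen effacing mono -/
noncomputable def effU (X : A) : X ⟶ effY T n hT X := (hT n X).choose_spec.choose

instance effU_mono (X : A) : Mono (effU T n hT X) := (hT n X).choose_spec.choose_spec.1

lemma effU_zero (X : A) : (T.F (n + 1)).map (effU T n hT X) = 0 :=
  (hT n X).choose_spec.choose_spec.2

/-- the next component on objects -/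
noncomputable def nextApp (X : A) : (T.F (n + 1)).obj X ⟶ (T'.F (n + 1)).obj X :=
  aS T T' n τ (sc (effU T n hT X)) (sc_shortExact _) (effU_zero T n hT X)

/-- Lemma B: the chosen component is compatible with every effacing sequence. -/
lemma lemmaB (S : ShortComplex A) (hS : S.ShortExact) (hf : (T.F (n + 1)).map S.f = 0) :
    T.δ S hS n (n + 1) rfl ≫ nextApp T T' n τ hT S.X₁ =
      τ.app S.X₃ ≫ T'.δ S hS n (n + 1) rfl := by
  have := hS.mono_f
  have := hS.epi_g
  let u := effU T n hT S.X₁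
  let w : S.X₁ ⟶ S.X₂ ⊞ effY T n hT S.X₁ := biprod.lift S.f u
  have hw : (T.F (n + 1)).map w = 0 := map_lift_eq_zero _ _ _ hf (effU_zero T n hT S.X₁)
  let φ : sc w ⟶ S :=
    { τ₁ := 𝟙 _
      τ₂ := biprod.fst
      τ₃ := cokernel.desc w (biprod.fst ≫ S.g) (by simp [w])
      comm₁₂ := by simp [sc, w]
      comm₂₃ := by simp [sc, w] }
  let ψ : sc w ⟶ sc u :=
    { τ₁ := 𝟙 _
      τ₂ := biprod.snd
      τ₃ := cokernel.desc w (biprod.snd ≫ cokernel.π u) (by
        rw [biprod.lift_snd_assoc]; exact cokernel.condition u)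
      comm₁₂ := by simp [sc, w]
      comm₂₃ := by simp [sc, w] }
  have h1 := lemmaA T T' n τ (sc_shortExact w) (sc_shortExact u) ψ hw
    (aS T T' n τ (sc w) (sc_shortExact w) hw) (nextApp T T' n τ hT S.X₁)
    (δ_aS T T' n τ _ _ hw) (δ_aS T T' n τ _ _ _)
  have h2 := lemmaA T T' n τ (sc_shortExact w) hS φ hw
    (aS T T' n τ (sc w) (sc_shortExact w) hw) (aS T T' n τ S hS hf)
    (δ_aS T T' n τ _ _ hw) (δ_aS T T' n τ _ _ _)
  simp only [φ, ψ, CategoryTheory.Functor.map_id, Category.comp_id, Category.id_comp] at h1 h2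
  have h3 : nextApp T T' n τ hT S.X₁ = aS T T' n τ S hS hf := by
    rw [← h2]; exact h1.symm
  rw [h3]
  exact δ_aS T T' n τ S hS hf

/-- Lemma C: naturality. -/
lemma lemmaC {X X' : A} (f : X ⟶ X') :
    (T.F (n + 1)).map f ≫ nextApp T T' n τ hT X' =
      nextApp T T' n τ hT X ≫ (T'.F (n + 1)).map f := by
  let u := effU T n hT X
  let u' := effU T n hT X'
  let w : X ⟶ effY T n hT X ⊞ effY T n hT X' := biprod.lift u (f ≫ u')
  have hw : (T.F (n + 1)).map w = 0 :=
    map_lift_eq_zero _ _ _ (effU_zero T n hT X)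
      (by rw [Functor.map_comp, effU_zero T n hT X', comp_zero])
  let ψ : sc w ⟶ sc u' :=
    { τ₁ := f
      τ₂ := biprod.snd
      τ₃ := cokernel.desc w (biprod.snd ≫ cokernel.π u') (by
        rw [biprod.lift_snd_assoc, Category.assoc, cokernel.condition u', comp_zero])
      comm₁₂ := by simp [sc, w]
      comm₂₃ := by simp [sc, w] }
  have h1 := lemmaA T T' n τ (sc_shortExact w) (sc_shortExact u') ψ hw
    (nextApp T T' n τ hT X) (nextApp T T' n τ hT X')
    (lemmaB T T' n τ hT (sc w) (sc_shortExact w) hw)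
    (lemmaB T T' n τ hT (sc u') (sc_shortExact u') (effU_zero T n hT X'))
  exact h1.symm

/-- the next natural transformation -/
noncomputable def next : T.F (n + 1) ⟶ T'.F (n + 1) where
  app X := nextApp T T' n τ hT X
  naturality _ _ f := lemmaC T T' n τ hT f

/-- Lemma D: compatibility with all connecting morphisms. -/
lemma lemmaD (S : ShortComplex A) (hS : S.ShortExact) :
    T.δ S hS n (n + 1) rfl ≫ (next T T' n τ hT).app S.X₁ =
      τ.app S.X₃ ≫ T'.δ S hS n (n + 1) rfl := by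
  have := hS.mono_f
  have := hS.epi_g
  let v := effU T n hT S.X₂
  let w : S.X₁ ⟶ effY T n hT S.X₂ := S.f ≫ v
  have hw : (T.F (n + 1)).map w = 0 := by
    rw [Functor.map_comp, effU_zero T n hT S.X₂, comp_zero]
  let φ : S ⟶ sc w :=
    { τ₁ := 𝟙 _
      τ₂ := v
      τ₃ := hS.exact.desc (v ≫ cokernel.π w) (by
        rw [← Category.assoc]; exact cokernel.condition w)
      comm₁₂ := by simp [sc, w]
      comm₂₃ := by simp [sc, w] }
  have hB := lemmaB T T' n τ hT (sc w) (sc_shortExact w) hw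
  have n1 := T.δ_natural hS (sc_shortExact w) φ n (n + 1) rfl
  have n2 := T'.δ_natural hS (sc_shortExact w) φ n (n + 1) rfl
  simp only [φ, CategoryTheory.Functor.map_id, Category.comp_id] at n1 n2
  change T.δ S hS n (n + 1) rfl ≫ nextApp T T' n τ hT S.X₁ = _
  rw [← n1, ← n2, Category.assoc]
  erw [hB]
  rw [τ.naturality_assoc]


/-- the family of natural transformations extending `t`. -/
noncomputable def fam (t : T.F 0 ⟶ T'.F 0) : (m : ℕ) → (T.F m ⟶ T'.F m)
  | 0 => t
  | (m + 1) => next T T' m (fam t m) hT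

/-- the morphism of delta-functors extending `t`. -/
noncomputable def extend (t : T.F 0 ⟶ T'.F 0) : T ⟶ T' where
  app m := fam T T' hT t m
  comm S hS n₀ n₁ h := by
    subst h
    exact lemmaD T T' n₀ (fam T T' hT t n₀) hT S hS

lemma extend_app_zero (t : T.F 0 ⟶ T'.F 0) : (extend T T' hT t).app 0 = t := rfl

include hT in
lemma app_eq_of_app_zero_eq (σ σ' : T ⟶ T') (h0 : σ.app 0 = σ'.app 0) (m : ℕ) :
    σ.app m = σ'.app m := by
  induction m with
  | zero => exact h0
  | succ m ih =>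
    ext X
    let u := effU T m hT X
    have hu := effU_zero T m hT X
    have := epi_δ T m (sc u) (sc_shortExact u) hu
    rw [← cancel_epi (T.δ (sc u) (sc_shortExact u) m (m + 1) rfl)]
    have e1 := σ.comm (sc u) (sc_shortExact u) m (m + 1) rfl
    have e2 := σ'.comm (sc u) (sc_shortExact u) m (m + 1) rfl
    dsimp only at e1 e2 ⊢
    rw [e1, e2, ih]

include hT in
theorem isUniversal : T.IsUniversal := by
  intro T' t
  refine ⟨extend T T' hT t, extend_app_zero T T' hT t, fun σ hσ => ?_⟩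
  apply CohDeltaFunctor.hom_ext
  intro m
  exact app_eq_of_app_zero_eq T T' hT σ _ (hσ.trans (extend_app_zero T T' hT t).symm) m

end Groth.Agent.Helper3.DeltaEff
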