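import Mathlib
import Groth.Prelude.Def_DeltaF
import Groth.Agent.Lib.Helper3.DeltaEff

set_option autoImplicit false
universe v u v' u'
open CategoryTheory Limits DeltaF

namespace Groth.Agent.Helper3.DeltaIso2

variable {A : Type u} [Category.{v} A] [Abelian A] {B : Type u'} [Category.{v'} B] [Abelian B]
  (T T' : CohDeltaFunctor A B ℕ) (hT : T.IsEffaceable) (hT' : T'.IsEffaceable)

/-- two effaceable δ-functors which agree in degree zero agree in all degrees -/
noncomputable def isoOfZero (t : T.F 0 ≅ T'.F 0) (p : ℕ) : T.F p ≅ T'.F p where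
  hom := (DeltaEff.extend T T' hT t.hom).app p
  inv := (DeltaEff.extend T' T hT' t.inv).app p
  hom_inv_id := by
    have h := DeltaEff.app_eq_of_app_zero_eq T T hT
      (DeltaEff.extend T T' hT t.hom ≫ DeltaEff.extend T' T hT' t.inv) (𝟙 T)
      (by
        rw [CohDeltaFunctor.comp_app, DeltaEff.extend_app_zero, DeltaEff.extend_app_zero,
          CohDeltaFunctor.id_app, Iso.hom_inv_id]) p
    rw [CohDeltaFunctor.comp_app, CohDeltaFunctor.id_app] at h
    exact h
  inv_hom_id := by
    have h := DeltaEff.app_eq_of_app_zero_eq T' T' hT'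
      (DeltaEff.extend T' T hT' t.inv ≫ DeltaEff.extend T T' hT t.hom) (𝟙 T')
      (by
        rw [CohDeltaFunctor.comp_app, DeltaEff.extend_app_zero, DeltaEff.extend_app_zero,
          CohDeltaFunctor.id_app, Iso.inv_hom_id]) p
    rw [CohDeltaFunctor.comp_app, CohDeltaFunctor.id_app] at h
    exact h

end Groth.Agent.Helper3.DeltaIso2
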