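import Mathlib
import Groth.Prelude.Def_CechEdge
import Groth.Prelude.Def_DeltaF
import Groth.Agent.Lib.Helper3.CechLow
import Groth.Agent.Lib.Helper3.CechInj
import Groth.Agent.Lib.Helper3.CechLES
import Groth.Agent.Lib.Helper3.DeltaEff

set_option autoImplicit false
universe u
open CategoryTheory Limits Opposite

namespace Groth.Agent.Helper3.CechDelta

open CechLow DeltaF

variable {C : Type u} [SmallCategory C] [HasPullbacks C] {U : C} {ι : Type u} (Y : ι → Over U)

/-- `cxFunctor.map` is `Kmap` -/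
lemma cx_map_eq {P Q : Cᵒᵖ ⥤ AddCommGrpCat.{u}} (φ : P ⟶ Q) :
    (CechEdge.cxFunctor Y).map φ = Kmap Y φ := rfl

instance additive_cx : (CechEdge.cxFunctor (C := C) Y).Additive where
  map_add {P Q} f g := by
    ext n x
    apply CechLow.ext Y Q n
    intro a
    change (proj Y Q n a).hom (((Kmap Y (f + g)).f n).hom x) =
      (proj Y Q n a).hom (((Kmap Y f).f n).hom x + ((Kmap Y g).f n).hom x)
    rw [map_add, Kmap_proj_apply, Kmap_proj_apply, Kmap_proj_apply]
    rfl

/-- evaluation of a short exact sequence of presheaves -/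
lemma eval_shortExact (S : ShortComplex (Cᵒᵖ ⥤ AddCommGrpCat.{u})) (hS : S.ShortExact) (V : Cᵒᵖ) :
    (S.map ((evaluation Cᵒᵖ AddCommGrpCat.{u}).obj V)).ShortExact :=
  hS.map_of_exact _

lemma cx_shortExact (S : ShortComplex (Cᵒᵖ ⥤ AddCommGrpCat.{u})) (hS : S.ShortExact) :
    (S.map (CechEdge.cxFunctor Y)).ShortExact := by
  have key := CechLES.SC_shortExact Y S.f S.g
    (fun V x => by
      have h := ConcreteCategory.congr_hom (NatTrans.congr_app S.zero (op V)) x
      exact h)
    (fun n a => by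
      have h := eval_shortExact S hS (op (YY Y a))
      exact (AddCommGrpCat.mono_iff_injective _).1 h.mono_f)
    (fun n a y hy => by
      have h := eval_shortExact S hS (op (YY Y a))
      exact (ShortComplex.ab_exact_iff _).1 h.exact y hy)
    (fun n a => by
      have h := eval_shortExact S hS (op (YY Y a))
      exact (AddCommGrpCat.epi_iff_surjective _).1 h.epi_g)
  exact key

/-- Čech cohomology with respect to a family, as a cohomological δ-functor on abelian presheaves -/
noncomputable def cechDelta : CohDeltaFunctor (Cᵒᵖ ⥤ AddCommGrpCat.{u}) AddCommGrpCat.{u} ℕ where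
  F n := CechEdge.cxFunctor Y ⋙ HomologicalComplex.homologyFunctor _ _ n
  additive n := inferInstance
  δ S hS n₀ n₁ h := (cx_shortExact Y S hS).δ n₀ n₁ h
  δ_natural {S S'} hS hS' φ n₀ n₁ h :=
    (HomologicalComplex.HomologySequence.δ_naturality ((CechEdge.cxFunctor Y).mapShortComplex.map φ)
      (cx_shortExact Y S hS) (cx_shortExact Y S' hS') n₀ n₁ h).symm
  exact₂ S hS n := (cx_shortExact Y S hS).homology_exact₂ n
  comp_δ S hS n₀ n₁ h := (cx_shortExact Y S hS).comp_δ n₀ n₁ h
  exact₃ S hS n₀ n₁ h := (cx_shortExact Y S hS).homology_exact₃ n₀ n₁ h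
  δ_comp S hS n₀ n₁ h := (cx_shortExact Y S hS).δ_comp n₀ n₁ h
  exact₁ S hS n₀ n₁ h := (cx_shortExact Y S hS).homology_exact₁ n₀ n₁ h

attribute [local instance] PShInst.isGrothendieckAbelian_psh

lemma cechDelta_effaceable : (cechDelta Y).IsEffaceable := by
  intro n X
  refine ⟨Injective.under X, Injective.ι X, inferInstance, ?_⟩
  exact (CechInj.isZero_cech_of_injective Y (Injective.under X) n).eq_of_tgt _ _

section Aux
open Abelian
variable {𝒜 : Type*} [Category 𝒜] [Abelian 𝒜] [HasExt.{u} 𝒜] {X : 𝒜} {S : ShortComplex 𝒜}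
  (hS : S.ShortExact) {n₀ n₁ : ℕ} (h : n₀ + 1 = n₁)

lemma comp_g_comp_extClass (x : Ext X S.X₂ n₀) :
    (x.comp (Ext.mk₀ S.g) (add_zero n₀)).comp hS.extClass h = 0 := by
  rw [Ext.comp_assoc_of_second_deg_zero, ShortComplex.ShortExact.comp_extClass, Ext.comp_zero]

lemma comp_extClass_comp_f (x : Ext X S.X₃ n₀) :
    (x.comp hS.extClass h).comp (Ext.mk₀ S.f) (add_zero n₁) = 0 := by
  rw [Ext.comp_assoc_of_third_deg_zero, ShortComplex.ShortExact.extClass_comp, Ext.comp_zero]

end Aux

section Sh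

variable (J : GrothendieckTopology C) (U)

/-- the functor `P ↦ H^n(U, P^#)` -/
noncomputable abbrev shF (n : ℕ) : (Cᵒᵖ ⥤ AddCommGrpCat.{u}) ⥤ AddCommGrpCat.{u} :=
  presheafToSheaf J AddCommGrpCat.{u} ⋙ Abelian.extFunctorObj (CohCx.freeSheaf J U) n

lemma shF_map_hom {P Q : Cᵒᵖ ⥤ AddCommGrpCat.{u}} (φ : P ⟶ Q) (n : ℕ) :
    ((shF U J n).map φ).hom = CechEdge.HUmap (CechEdge.shfMap J φ) n U := rfl

/-- the sheafified short exact sequence -/
lemma shf_shortExact (S : ShortComplex (Cᵒᵖ ⥤ AddCommGrpCat.{u})) (hS : S.ShortExact) :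
    (S.map (presheafToSheaf J AddCommGrpCat.{u})).ShortExact :=
  hS.map_of_exact _

open Abelian in
/-- `P ↦ H^•(U, P^#)` as a cohomological δ-functor on abelian presheaves -/
noncomputable def shDelta : CohDeltaFunctor (Cᵒᵖ ⥤ AddCommGrpCat.{u}) AddCommGrpCat.{u} ℕ where
  F n := shF U J n
  additive n := inferInstance
  δ S hS n₀ n₁ h := AddCommGrpCat.ofHom ((shf_shortExact J S hS).extClass.postcomp (CohCx.freeSheaf J U) h)
  δ_natural {S S'} hS hS' φ n₀ n₁ h := by
    ext x
    have e := ShortComplex.ShortExact.extClass_naturality (shf_shortExact J S hS) (shf_shortExact J S' hS')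
      ((presheafToSheaf J AddCommGrpCat.{u}).mapShortComplex.map φ)
    change (x.comp (Ext.mk₀ _) (add_zero n₀)).comp (shf_shortExact J S' hS').extClass h =
      (x.comp (shf_shortExact J S hS).extClass h).comp (Ext.mk₀ _) (add_zero n₁)
    rw [Ext.comp_assoc_of_second_deg_zero, Ext.comp_assoc_of_third_deg_zero]
    exact congrArg (fun z => x.comp z h) e.symm
  exact₂ S hS n := Ext.covariant_sequence_exact₂' _ (shf_shortExact J S hS) n
  comp_δ S hS n₀ n₁ h := by
    ext x
    exact comp_g_comp_extClass (shf_shortExact J S hS) h x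
  exact₃ S hS n₀ n₁ h := Ext.covariant_sequence_exact₃' _ (shf_shortExact J S hS) n₀ n₁ h
  δ_comp S hS n₀ n₁ h := by
    ext x
    exact comp_extClass_comp_f (shf_shortExact J S hS) h x
  exact₁ S hS n₀ n₁ h := Ext.covariant_sequence_exact₁' _ (shf_shortExact J S hS) n₀ n₁ h

end Sh

end Groth.Agent.Helper3.CechDelta
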