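import Mathlib

set_option autoImplicit false
universe v u
open CategoryTheory CategoryTheory.Limits

namespace Groth.Agent.Helper3.RDKer

variable {A : Type u} [Category.{v} A] [Abelian A]
  (T H : A ⥤ A) [T.Additive] [H.Additive] (τ : T ⟶ 𝟭 A) (η : 𝟭 A ⟶ H)

/-- the hypotheses: `T` is the kernel of `η`, and `η` is epi on injectives -/
structure Hyp : Prop where
  zero : ∀ X, τ.app X ≫ η.app X = 0
  exact : ∀ X, (ShortComplex.mk (τ.app X) (η.app X) (zero X)).Exact
  mono : ∀ X, Mono (τ.app X)
  epi : ∀ Q, Injective Q → Epi (η.app Q)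

variable {T H τ η}

/-- the short complex of complexes `T K ⟶ K ⟶ H K` -/
noncomputable def SC (h : Hyp T H τ η) (K : CochainComplex A ℕ) : ShortComplex (CochainComplex A ℕ) :=
  ShortComplex.mk ((NatTrans.mapHomologicalComplex τ _).app K)
    ((NatTrans.mapHomologicalComplex η _).app K) (by
      ext n
      exact h.zero (K.X n))

lemma SC_shortExact (h : Hyp T H τ η) (K : CochainComplex A ℕ) (hK : ∀ n, Injective (K.X n)) :
    (SC h K).ShortExact := by
  apply HomologicalComplex.shortExact_of_degreewise_shortExact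
  intro n
  have := h.mono (K.X n)
  have := h.epi (K.X n) (hK n)
  exact ShortComplex.ShortExact.mk' (h.exact (K.X n)) (h.mono (K.X n)) (h.epi (K.X n) (hK n))

/-- functoriality of `SC` -/
noncomputable def SCmap (h : Hyp T H τ η) {K K' : CochainComplex A ℕ} (φ : K ⟶ K') :
    SC h K ⟶ SC h K' :=
  ShortComplex.homMk ((T.mapHomologicalComplex _).map φ) (((𝟭 A).mapHomologicalComplex _).map φ)
    ((H.mapHomologicalComplex _).map φ)
    ((NatTrans.mapHomologicalComplex τ _).naturality φ)
    ((NatTrans.mapHomologicalComplex η _).naturality φ)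

/-- `𝟭` applied to a complex -/
noncomputable def idIso (K : CochainComplex A ℕ) :
    ((𝟭 A).mapHomologicalComplex (ComplexShape.up ℕ)).obj K ≅ K :=
  HomologicalComplex.Hom.isoOfComponents (fun _ => Iso.refl _) (by
    intros
    exact (Category.id_comp _).trans (Category.comp_id _).symm)

lemma isZero_homology_X₂ (h : Hyp T H τ η) {X : A} (I : InjectiveResolution X) (n : ℕ) :
    IsZero ((SC h I.cocomplex).X₂.homology (n + 1)) := by
  refine IsZero.of_iso ?_ ((HomologicalComplex.homologyFunctor A _ (n + 1)).mapIso (idIso I.cocomplex))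
  exact (HomologicalComplex.exactAt_iff_isZero_homology _ _).1 (I.cocomplex_exactAt_succ n)

variable [HasInjectiveResolutions A]

section partB

variable (h : Hyp T H τ η)

/-- the connecting isomorphism for an injective resolution -/
noncomputable def δI {X : A} (I : InjectiveResolution X) (i : ℕ) :
    ((H.mapHomologicalComplex _).obj I.cocomplex).homology (i + 1) ≅
      ((T.mapHomologicalComplex _).obj I.cocomplex).homology (i + 1 + 1) :=
  (SC_shortExact h I.cocomplex I.injective).δIso (i + 1) (i + 1 + 1) rfl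
    (isZero_homology_X₂ h I i) (isZero_homology_X₂ h I (i + 1))

lemma δI_naturality {X X' : A} (I : InjectiveResolution X) (I' : InjectiveResolution X')
    (φ : I.cocomplex ⟶ I'.cocomplex) (i : ℕ) :
    (δI h I i).hom ≫ HomologicalComplex.homologyMap ((T.mapHomologicalComplex _).map φ) (i + 1 + 1) =
      HomologicalComplex.homologyMap ((H.mapHomologicalComplex _).map φ) (i + 1) ≫ (δI h I' i).hom :=
  HomologicalComplex.HomologySequence.δ_naturality (SCmap h φ)
    (SC_shortExact h I.cocomplex I.injective) (SC_shortExact h I'.cocomplex I'.injective)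
    (i + 1) (i + 1 + 1) rfl

/-- objectwise `Rⁱ⁺¹H X ≅ Rⁱ⁺²T X` -/
noncomputable def objIso (X : A) (i : ℕ) :
    (H.rightDerived (i + 1)).obj X ≅ (T.rightDerived (i + 1 + 1)).obj X :=
  (injectiveResolution X).isoRightDerivedObj H (i + 1) ≪≫ δI h (injectiveResolution X) i ≪≫
    ((injectiveResolution X).isoRightDerivedObj T (i + 1 + 1)).symm

/-- `Rⁱ⁺¹H ≅ Rⁱ⁺²T` -/
noncomputable def natIso (i : ℕ) : H.rightDerived (i + 1) ≅ T.rightDerived (i + 1 + 1) :=
  NatIso.ofComponents (fun X => objIso h X i) (by
    intro X X' f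
    let I := injectiveResolution X
    let I' := injectiveResolution X'
    let φ : I.cocomplex ⟶ I'.cocomplex := InjectiveResolution.desc f I' I
    have hφ : I.ι.f 0 ≫ φ.f 0 = f ≫ I'.ι.f 0 := InjectiveResolution.desc_commutes_zero f I' I
    let a := I.isoRightDerivedObj H (i + 1)
    let a' := I'.isoRightDerivedObj H (i + 1)
    let c := I.isoRightDerivedObj T (i + 1 + 1)
    let c' := I'.isoRightDerivedObj T (i + 1 + 1)
    let Hm1 := HomologicalComplex.homologyMap ((H.mapHomologicalComplex _).map φ) (i + 1)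
    let Hm2 := HomologicalComplex.homologyMap ((T.mapHomologicalComplex _).map φ) (i + 1 + 1)
    let b := (δI h I i).hom
    let b' := (δI h I' i).hom
    have h1' : (H.rightDerived (i + 1)).map f ≫ a'.hom = a.hom ≫ Hm1 :=
      InjectiveResolution.isoRightDerivedObj_hom_naturality f I I' φ hφ H (i + 1)
    have h2' : (T.rightDerived (i + 1 + 1)).map f ≫ c'.hom = c.hom ≫ Hm2 :=
      InjectiveResolution.isoRightDerivedObj_hom_naturality f I I' φ hφ T (i + 1 + 1)
    have h3' : Hm1 ≫ b' = b ≫ Hm2 := (δI_naturality h I I' φ i).symm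
    have h2'' : c.inv ≫ (T.rightDerived (i + 1 + 1)).map f = Hm2 ≫ c'.inv := by
      have e1 : c.inv ≫ ((T.rightDerived (i + 1 + 1)).map f ≫ c'.hom) = Hm2 :=
        (congrArg (c.inv ≫ ·) h2').trans ((Category.assoc _ _ _).symm.trans
          ((congrArg (· ≫ Hm2) c.inv_hom_id).trans (Category.id_comp _)))
      have e2 : (c.inv ≫ (T.rightDerived (i + 1 + 1)).map f) ≫ c'.hom = Hm2 :=
        (Category.assoc _ _ _).trans e1
      exact ((Category.comp_id _).symm.trans ((congrArg ((c.inv ≫ (T.rightDerived (i + 1 + 1)).map f) ≫ ·)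
        c'.hom_inv_id).symm.trans (Category.assoc _ _ _).symm)).trans (congrArg (· ≫ c'.inv) e2)
    change (H.rightDerived (i + 1)).map f ≫ (a'.hom ≫ b' ≫ c'.inv) =
      (a.hom ≫ b ≫ c.inv) ≫ (T.rightDerived (i + 1 + 1)).map f
    refine (Category.assoc _ _ _).symm.trans ?_
    refine (congrArg (· ≫ (b' ≫ c'.inv)) h1').trans ?_
    refine (Category.assoc _ _ _).trans ?_
    refine (congrArg (a.hom ≫ ·) (Category.assoc _ _ _).symm).trans ?_
    refine (congrArg (fun t => a.hom ≫ (t ≫ c'.inv)) h3').trans ?_
    refine (congrArg (a.hom ≫ ·) (Category.assoc _ _ _)).trans ?_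
    refine (congrArg (fun t => a.hom ≫ (b ≫ t)) h2''.symm).trans ?_
    refine (congrArg (a.hom ≫ ·) (Category.assoc _ _ _).symm).trans ?_
    exact (Category.assoc _ _ _).symm)

end partB

section partA

/-- the canonical map `F X ⟶ H⁰(F I^•)` -/
noncomputable def θ (F : A ⥤ A) [F.Additive] {X : A} (I : InjectiveResolution X) :
    F.obj X ⟶ ((F.mapHomologicalComplex _).obj I.cocomplex).homology 0 :=
  I.toRightDerivedZero' F ≫ (CochainComplex.isoHomologyπ₀ _).hom

instance (F : A ⥤ A) [F.Additive] [PreservesFiniteLimits F] {X : A} (I : InjectiveResolution X) :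
    IsIso (θ F I) := by
  unfold θ
  infer_instance

lemma θ_naturality (F : A ⥤ A) [F.Additive] {X X' : A} (f : X ⟶ X') (I : InjectiveResolution X)
    (I' : InjectiveResolution X') (φ : I.cocomplex ⟶ I'.cocomplex)
    (comm : I.ι.f 0 ≫ φ.f 0 = f ≫ I'.ι.f 0) :
    F.map f ≫ θ F I' = θ F I ≫ HomologicalComplex.homologyMap ((F.mapHomologicalComplex _).map φ) 0 := by
  unfold θ
  rw [← Category.assoc, InjectiveResolution.toRightDerivedZero'_naturality f I I' φ comm F,
    Category.assoc, Category.assoc]
  congr 1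
  exact (HomologicalComplex.homologyπ_naturality _ 0).symm

lemma θ_naturality_η {X : A} (I : InjectiveResolution X) :
    η.app X ≫ θ H I = θ (𝟭 A) I ≫
      HomologicalComplex.homologyMap ((NatTrans.mapHomologicalComplex η _).app I.cocomplex) 0 := by
  have h1 : η.app X ≫ I.toRightDerivedZero' H = I.toRightDerivedZero' (𝟭 A) ≫
      HomologicalComplex.cyclesMap ((NatTrans.mapHomologicalComplex η _).app I.cocomplex) 0 := by
    rw [← cancel_mono (HomologicalComplex.iCycles _ _), Category.assoc, Category.assoc,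
      InjectiveResolution.toRightDerivedZero'_comp_iCycles, HomologicalComplex.cyclesMap_i,
      InjectiveResolution.toRightDerivedZero'_comp_iCycles_assoc]
    exact (η.naturality (I.ι.f 0)).symm
  unfold θ
  rw [← Category.assoc, h1, Category.assoc, Category.assoc]
  congr 1
  exact (HomologicalComplex.homologyπ_naturality _ 0).symm

variable (h : Hyp T H τ η)

/-- the connecting map in degree zero -/
noncomputable def δ0 {X : A} (I : InjectiveResolution X) :
    ((H.mapHomologicalComplex _).obj I.cocomplex).homology 0 ⟶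
      ((T.mapHomologicalComplex _).obj I.cocomplex).homology 1 :=
  (SC_shortExact h I.cocomplex I.injective).δ 0 1 rfl

lemma δ0_naturality {X X' : A} (I : InjectiveResolution X) (I' : InjectiveResolution X')
    (φ : I.cocomplex ⟶ I'.cocomplex) :
    δ0 h I ≫ HomologicalComplex.homologyMap ((T.mapHomologicalComplex _).map φ) 1 =
      HomologicalComplex.homologyMap ((H.mapHomologicalComplex _).map φ) 0 ≫ δ0 h I' :=
  HomologicalComplex.HomologySequence.δ_naturality (SCmap h φ)
    (SC_shortExact h I.cocomplex I.injective) (SC_shortExact h I'.cocomplex I'.injective) 0 1 rfl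

instance {X : A} (I : InjectiveResolution X) : Epi (δ0 h I) :=
  (SC_shortExact h I.cocomplex I.injective).epi_δ 0 1 rfl (isZero_homology_X₂ h I 0)

/-- the natural transformation `H ⟶ R¹T` -/
noncomputable def β : H ⟶ T.rightDerived 1 where
  app X := θ H (injectiveResolution X) ≫ δ0 h (injectiveResolution X) ≫
    ((injectiveResolution X).isoRightDerivedObj T 1).inv
  naturality X X' f := by
    let I := injectiveResolution X
    let I' := injectiveResolution X'
    let φ : I.cocomplex ⟶ I'.cocomplex := InjectiveResolution.desc f I' I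
    have hφ : I.ι.f 0 ≫ φ.f 0 = f ≫ I'.ι.f 0 := InjectiveResolution.desc_commutes_zero f I' I
    let c := I.isoRightDerivedObj T 1
    let c' := I'.isoRightDerivedObj T 1
    let Hm1 := HomologicalComplex.homologyMap ((H.mapHomologicalComplex _).map φ) 0
    let Hm2 := HomologicalComplex.homologyMap ((T.mapHomologicalComplex _).map φ) 1
    have h1' : H.map f ≫ θ H I' = θ H I ≫ Hm1 := θ_naturality H f I I' φ hφ
    have h2' : (T.rightDerived 1).map f ≫ c'.hom = c.hom ≫ Hm2 :=
      InjectiveResolution.isoRightDerivedObj_hom_naturality f I I' φ hφ T 1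
    have h3' : Hm1 ≫ δ0 h I' = δ0 h I ≫ Hm2 := (δ0_naturality h I I' φ).symm
    have h2'' : c.inv ≫ (T.rightDerived 1).map f = Hm2 ≫ c'.inv := by
      have e1 : c.inv ≫ ((T.rightDerived 1).map f ≫ c'.hom) = Hm2 :=
        (congrArg (c.inv ≫ ·) h2').trans ((Category.assoc _ _ _).symm.trans
          ((congrArg (· ≫ Hm2) c.inv_hom_id).trans (Category.id_comp _)))
      have e2 : (c.inv ≫ (T.rightDerived 1).map f) ≫ c'.hom = Hm2 :=
        (Category.assoc _ _ _).trans e1
      exact ((Category.comp_id _).symm.trans ((congrArg ((c.inv ≫ (T.rightDerived 1).map f) ≫ ·)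
        c'.hom_inv_id).symm.trans (Category.assoc _ _ _).symm)).trans (congrArg (· ≫ c'.inv) e2)
    change H.map f ≫ (θ H I' ≫ δ0 h I' ≫ c'.inv) = (θ H I ≫ δ0 h I ≫ c.inv) ≫ (T.rightDerived 1).map f
    refine (Category.assoc _ _ _).symm.trans ?_
    refine (congrArg (· ≫ (δ0 h I' ≫ c'.inv)) h1').trans ?_
    refine (Category.assoc _ _ _).trans ?_
    refine (congrArg (θ H I ≫ ·) (Category.assoc _ _ _).symm).trans ?_
    refine (congrArg (fun t => θ H I ≫ (t ≫ c'.inv)) h3').trans ?_
    refine (congrArg (θ H I ≫ ·) (Category.assoc _ _ _)).trans ?_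
    refine (congrArg (fun t => θ H I ≫ (δ0 h I ≫ t)) h2''.symm).trans ?_
    refine (congrArg (θ H I ≫ ·) (Category.assoc _ _ _).symm).trans ?_
    exact (Category.assoc _ _ _).symm

lemma η_β_app (X : A) : η.app X ≫ (β h).app X = 0 := by
  change η.app X ≫ (θ H (injectiveResolution X) ≫ δ0 h (injectiveResolution X) ≫ _) = 0
  rw [← Category.assoc, θ_naturality_η, Category.assoc]
  have : HomologicalComplex.homologyMap
      ((NatTrans.mapHomologicalComplex η _).app (injectiveResolution X).cocomplex) 0 ≫
      δ0 h (injectiveResolution X) = 0 :=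
    (SC_shortExact h _ (injectiveResolution X).injective).comp_δ 0 1 rfl
  rw [reassoc_of% this]
  exact (congrArg (θ (𝟭 A) (injectiveResolution X) ≫ ·) zero_comp).trans comp_zero

lemma η_β : η ≫ β h = 0 := by
  ext X
  exact η_β_app h X

/-- a short complex of functors is exact if it is pointwise exact -/
lemma exact_of_app {B : Type*} [Category* B] (S : ShortComplex (B ⥤ A))
    (hS : ∀ X : B, (S.map ((evaluation B A).obj X)).Exact) : S.Exact := by
  rw [ShortComplex.exact_iff_isZero_homology]
  apply Functor.isZero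
  intro X
  refine IsZero.of_iso ?_ (S.mapHomologyIso ((evaluation B A).obj X)).symm
  exact (ShortComplex.exact_iff_isZero_homology _).1 (hS X)

variable [PreservesFiniteLimits H]

lemma epi_β_app (X : A) : Epi ((β h).app X) := by
  change Epi (θ H (injectiveResolution X) ≫ δ0 h (injectiveResolution X) ≫
    ((injectiveResolution X).isoRightDerivedObj T 1).inv)
  infer_instance

lemma exact_app (X : A) : (ShortComplex.mk (η.app X) ((β h).app X) (η_β_app h X)).Exact := by
  let I := injectiveResolution X
  have hex := (SC_shortExact h I.cocomplex I.injective).homology_exact₃ 0 1 rfl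
  let e1 : X ≅ (((𝟭 A).mapHomologicalComplex _).obj I.cocomplex).homology 0 := asIso (θ (𝟭 A) I)
  let e2 : H.obj X ≅ ((H.mapHomologicalComplex _).obj I.cocomplex).homology 0 := asIso (θ H I)
  refine ShortComplex.exact_of_iso ?_ hex
  refine ShortComplex.isoMk e1.symm e2.symm (I.isoRightDerivedObj T 1).symm ?_ ?_
  · change e1.inv ≫ η.app X = HomologicalComplex.homologyMap (SC h I.cocomplex).g 0 ≫ e2.inv
    have hn : η.app X ≫ e2.hom = e1.hom ≫ HomologicalComplex.homologyMap (SC h I.cocomplex).g 0 :=
      θ_naturality_η I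
    have e3 : e1.inv ≫ (η.app X ≫ e2.hom) = HomologicalComplex.homologyMap (SC h I.cocomplex).g 0 :=
      (congrArg (e1.inv ≫ ·) hn).trans ((Category.assoc _ _ _).symm.trans
        ((congrArg (· ≫ HomologicalComplex.homologyMap (SC h I.cocomplex).g 0) e1.inv_hom_id).trans
          (Category.id_comp _)))
    have e4 : (e1.inv ≫ η.app X) ≫ e2.hom = HomologicalComplex.homologyMap (SC h I.cocomplex).g 0 :=
      (Category.assoc _ _ _).trans e3
    exact ((Category.comp_id _).symm.trans ((congrArg ((e1.inv ≫ η.app X) ≫ ·)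
      e2.hom_inv_id).symm.trans (Category.assoc _ _ _).symm)).trans (congrArg (· ≫ e2.inv) e4)
  · change e2.inv ≫ (e2.hom ≫ δ0 h I ≫ (I.isoRightDerivedObj T 1).inv) =
      δ0 h I ≫ (I.isoRightDerivedObj T 1).inv
    rw [Iso.inv_hom_id_assoc]

/-- the short complex of functors `𝟭 ⟶ H ⟶ R¹T` -/
noncomputable def SF : ShortComplex (A ⥤ A) := ShortComplex.mk η (β h) (η_β h)

lemma SF_exact : (SF h).Exact :=
  exact_of_app (SF h) (fun X => exact_app h X)

instance : Epi (SF h).g := by
  change Epi (β h)
  rw [NatTrans.epi_iff_epi_app]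
  exact fun X => epi_β_app h X

/-- `R¹T` is the cokernel of `η` -/
noncomputable def cokernelIso : cokernel η ≅ T.rightDerived 1 :=
  IsColimit.coconePointUniqueUpToIso (cokernelIsCokernel η) (SF_exact h).gIsCokernel

end partA

end Groth.Agent.Helper3.RDKer
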