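import Mathlib
import Groth.Prelude.Def_CohSite
import Groth.Prelude.Def_DeltaF
import Groth.Prelude.Def_FreeSh
import Groth.Agent.Lib.Helper3.RDKer
import Groth.Agent.Lib.Helper3.CechDelta

set_option autoImplicit false
universe v u v' u' v'' u''
open CategoryTheory Limits Opposite DeltaF

namespace Groth.Agent.Helper3.HPDelta

section Comp

variable {A : Type u} [Category.{v} A] [Abelian A] {B : Type u'} [Category.{v'} B] [Abelian B]
  {B' : Type u''} [Category.{v''} B'] [Abelian B']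

/-- postcomposition of a δ-functor with an exact functor -/
noncomputable def compExact (T : CohDeltaFunctor A B ℕ) (G : B ⥤ B') [G.Additive]
    [PreservesFiniteLimits G] [PreservesFiniteColimits G] : CohDeltaFunctor A B' ℕ where
  F n := T.F n ⋙ G
  additive n := inferInstance
  δ S hS n₀ n₁ h := G.map (T.δ S hS n₀ n₁ h)
  δ_natural {S S'} hS hS' φ n₀ n₁ h := by
    change G.map _ ≫ G.map _ = G.map _ ≫ G.map _
    rw [← G.map_comp, ← G.map_comp, T.δ_natural hS hS' φ n₀ n₁ h]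
  exact₂ S hS n := (T.exact₂ S hS n).map G
  comp_δ S hS n₀ n₁ h := by
    change G.map _ ≫ G.map _ = 0
    rw [← G.map_comp, T.comp_δ S hS n₀ n₁ h, G.map_zero]
  exact₃ S hS n₀ n₁ h := (T.exact₃ S hS n₀ n₁ h).map G
  δ_comp S hS n₀ n₁ h := by
    change G.map _ ≫ G.map _ = 0
    rw [← G.map_comp, T.δ_comp S hS n₀ n₁ h, G.map_zero]
  exact₁ S hS n₀ n₁ h := (T.exact₁ S hS n₀ n₁ h).map G

end Comp

section HP

variable {C : Type u} [SmallCategory C] (J : GrothendieckTopology C)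

open Abelian

/-- the cohomology presheaf functor (wrapped, to keep the kernel from unfolding it) -/
noncomputable def hpF (n : ℕ) : Sheaf J AddCommGrpCat.{u} ⥤ (Cᵒᵖ ⥤ AddCommGrpCat.{u}) :=
  Sheaf.cohomologyPresheafFunctor.{u} J n

lemma hpF_eq (n : ℕ) : hpF J n = Sheaf.cohomologyPresheafFunctor.{u} J n := rfl

instance (n : ℕ) : (hpF J n).Additive where
  map_add {F G f g} := by
    ext U x
    change x.comp (Ext.mk₀ (f + g)) (add_zero n) = x.comp (Ext.mk₀ f) (add_zero n) + x.comp (Ext.mk₀ g) (add_zero n)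
    rw [Ext.mk₀_add, Ext.comp_add]

/-- the connecting map on cohomology presheaves -/
noncomputable def hpδ (S : ShortComplex (Sheaf J AddCommGrpCat.{u})) (hS : S.ShortExact) (n₀ n₁ : ℕ)
    (h : n₀ + 1 = n₁) :
    (hpF J n₀).obj S.X₃ ⟶ (hpF J n₁).obj S.X₁ where
  app U := AddCommGrpCat.ofHom (hS.extClass.postcomp _ h)
  naturality U V g := by
    ext x
    change ((Ext.mk₀ _).comp x (zero_add n₀)).comp hS.extClass h = (Ext.mk₀ _).comp (x.comp hS.extClass h) (zero_add n₁)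
    exact Ext.comp_assoc _ _ _ _ _ (by omega)

/-- a short complex of presheaves built from pointwise data is exact if pointwise exact -/
lemma exact_of_pointwise (S : ShortComplex (Cᵒᵖ ⥤ AddCommGrpCat.{u}))
    (h : ∀ U : Cᵒᵖ, (ShortComplex.mk (S.f.app U) (S.g.app U)
      (by rw [← NatTrans.comp_app, S.zero]; rfl)).Exact) : S.Exact :=
  RDKer.exact_of_app S (fun U => h U)

lemma ex2 (S : ShortComplex (Sheaf J AddCommGrpCat.{u})) (hS : S.ShortExact) (n : ℕ) :
    (ShortComplex.mk ((hpF J n).map S.f) ((hpF J n).map S.g)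
      (by rw [← Functor.map_comp, S.zero, Functor.map_zero])).Exact := by
  apply exact_of_pointwise
  intro U
  exact Ext.covariant_sequence_exact₂' _ hS n

lemma comp_hpδ (S : ShortComplex (Sheaf J AddCommGrpCat.{u})) (hS : S.ShortExact) (n₀ n₁ : ℕ)
    (h : n₀ + 1 = n₁) : (hpF J n₀).map S.g ≫ hpδ J S hS n₀ n₁ h = 0 := by
  ext U x
  exact CechDelta.comp_g_comp_extClass hS h x

lemma hpδ_comp (S : ShortComplex (Sheaf J AddCommGrpCat.{u})) (hS : S.ShortExact) (n₀ n₁ : ℕ)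
    (h : n₀ + 1 = n₁) : hpδ J S hS n₀ n₁ h ≫ (hpF J n₁).map S.f = 0 := by
  ext U x
  exact CechDelta.comp_extClass_comp_f hS h x

lemma ex3 (S : ShortComplex (Sheaf J AddCommGrpCat.{u})) (hS : S.ShortExact) (n₀ n₁ : ℕ)
    (h : n₀ + 1 = n₁) : (ShortComplex.mk _ _ (comp_hpδ J S hS n₀ n₁ h)).Exact := by
  apply exact_of_pointwise
  intro U
  exact Ext.covariant_sequence_exact₃' _ hS n₀ n₁ h

lemma ex1 (S : ShortComplex (Sheaf J AddCommGrpCat.{u})) (hS : S.ShortExact) (n₀ n₁ : ℕ)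
    (h : n₀ + 1 = n₁) : (ShortComplex.mk _ _ (hpδ_comp J S hS n₀ n₁ h)).Exact := by
  apply exact_of_pointwise
  intro U
  exact Ext.covariant_sequence_exact₁' _ hS n₀ n₁ h

lemma hpδ_natural {S S' : ShortComplex (Sheaf J AddCommGrpCat.{u})} (hS : S.ShortExact) (hS' : S'.ShortExact)
    (φ : S ⟶ S') (n₀ n₁ : ℕ) (h : n₀ + 1 = n₁) :
    (hpF J n₀).map φ.τ₃ ≫ hpδ J S' hS' n₀ n₁ h =
      hpδ J S hS n₀ n₁ h ≫ (hpF J n₁).map φ.τ₁ := by
  ext U x
  have e := ShortComplex.ShortExact.extClass_naturality hS hS' φ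
  change (x.comp (Ext.mk₀ _) (add_zero n₀)).comp hS'.extClass h =
    (x.comp hS.extClass h).comp (Ext.mk₀ _) (add_zero n₁)
  rw [Ext.comp_assoc_of_second_deg_zero, Ext.comp_assoc_of_third_deg_zero]
  exact congrArg (fun z => x.comp z h) e.symm

/-- the cohomology presheaves form a δ-functor on abelian sheaves -/
noncomputable def hpDelta : CohDeltaFunctor (Sheaf J AddCommGrpCat.{u}) (Cᵒᵖ ⥤ AddCommGrpCat.{u}) ℕ where
  F := hpF J
  additive n := inferInstance
  δ S hS n₀ n₁ h := hpδ J S hS n₀ n₁ h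
  δ_natural {S S'} hS hS' φ n₀ n₁ h := hpδ_natural J hS hS' φ n₀ n₁ h
  exact₂ S hS n := ex2 J S hS n
  comp_δ S hS n₀ n₁ h := comp_hpδ J S hS n₀ n₁ h
  exact₃ S hS n₀ n₁ h := ex3 J S hS n₀ n₁ h
  δ_comp S hS n₀ n₁ h := hpδ_comp J S hS n₀ n₁ h
  exact₁ S hS n₀ n₁ h := ex1 J S hS n₀ n₁ h

end HP

end Groth.Agent.Helper3.HPDelta
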