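import Mathlib

set_option autoImplicit false
universe u
open CategoryTheory Limits Opposite

namespace Groth.Agent.Helper3.ShHom

variable {D : Type u} [SmallCategory D] (K : GrothendieckTopology D)

/-- a short complex of sheaves is the sheafification of its underlying complex of presheaves -/
noncomputable def scIso (S : ShortComplex (Sheaf K AddCommGrpCat.{u})) :
    S ≅ (S.map (sheafToPresheaf K AddCommGrpCat.{u})).map (presheafToSheaf K AddCommGrpCat.{u}) :=
  ShortComplex.isoMk
    ((asIso ((sheafificationAdjunction K AddCommGrpCat.{u}).counit.app S.X₁)).symm)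
    ((asIso ((sheafificationAdjunction K AddCommGrpCat.{u}).counit.app S.X₂)).symm)
    ((asIso ((sheafificationAdjunction K AddCommGrpCat.{u}).counit.app S.X₃)).symm)
    (by
      have h := (sheafificationAdjunction K AddCommGrpCat.{u}).counit.naturality S.f
      change inv ((sheafificationAdjunction K AddCommGrpCat.{u}).counit.app S.X₁) ≫
        (presheafToSheaf _ _).map ((sheafToPresheaf _ _).map S.f) =
        S.f ≫ inv ((sheafificationAdjunction K AddCommGrpCat.{u}).counit.app S.X₂)
      rw [IsIso.inv_comp_eq, ← Category.assoc, IsIso.eq_comp_inv]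
      exact h)
    (by
      have h := (sheafificationAdjunction K AddCommGrpCat.{u}).counit.naturality S.g
      change inv ((sheafificationAdjunction K AddCommGrpCat.{u}).counit.app S.X₂) ≫
        (presheafToSheaf _ _).map ((sheafToPresheaf _ _).map S.g) =
        S.g ≫ inv ((sheafificationAdjunction K AddCommGrpCat.{u}).counit.app S.X₃)
      rw [IsIso.inv_comp_eq, ← Category.assoc, IsIso.eq_comp_inv]
      exact h)

/-- homology of a complex of sheaves is the sheafification of the homology of the underlying
complex of presheaves -/
noncomputable def homologyIsoSheafify (L : CochainComplex (Sheaf K AddCommGrpCat.{u}) ℕ) (i : ℕ) :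
    L.homology i ≅ (presheafToSheaf K AddCommGrpCat.{u}).obj
      ((((sheafToPresheaf K AddCommGrpCat.{u}).mapHomologicalComplex _).obj L).homology i) :=
  ShortComplex.homologyMapIso (scIso K (L.sc i)) ≪≫
    ((L.sc i).map (sheafToPresheaf K AddCommGrpCat.{u})).mapHomologyIso
      (presheafToSheaf K AddCommGrpCat.{u})

end Groth.Agent.Helper3.ShHom
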