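import Mathlib
import Groth.Prelude.Def_CohSite
import Groth.Agent.Lib.Helper3.ShHom
import Groth.Agent.Lib.Helper3.CohPre

set_option autoImplicit false
universe u
open CategoryTheory Limits Opposite

namespace Groth.Agent.Helper3.RPush

variable {C D : Type u} [SmallCategory C] [SmallCategory D]
  (J : GrothendieckTopology C) (K : GrothendieckTopology D) (u : D ⥤ C) [u.IsContinuous K J]

/-- restriction of presheaves along `u` -/
noncomputable abbrev W : (Cᵒᵖ ⥤ AddCommGrpCat.{u}) ⥤ (Dᵒᵖ ⥤ AddCommGrpCat.{u}) :=
  (Functor.whiskeringLeft _ _ _).obj u.op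

instance : (W u).Additive where

/-- the higher direct images of a sheaf are the sheafified pulled-back cohomology presheaves -/
noncomputable def rpushIso (F : Sheaf J AddCommGrpCat.{u}) (i : ℕ) :
    (CohSite.Rpush J K u i).obj F ≅
      (presheafToSheaf K AddCommGrpCat.{u}).obj (u.op ⋙ F.cohomologyPresheaf i) :=
  (injectiveResolution F).isoRightDerivedObj (CohSite.push J K u) i ≪≫
    ShHom.homologyIsoSheafify K _ i ≪≫
    (presheafToSheaf K AddCommGrpCat.{u}).mapIso
      (((CohPre.KP J (injectiveResolution F)).sc i).mapHomologyIso (W u) ≪≫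
        (W u).mapIso (CohPre.presheafIso J (injectiveResolution F) i))

end Groth.Agent.Helper3.RPush
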