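import Mathlib
import Groth.Prelude.Def_CohSite
import Groth.Prelude.Def_DeltaF
import Groth.Prelude.Def_FreeSh
import Groth.Prelude.Def_RDerDelta
import Groth.Agent.Lib.Helper3.HPDelta
import Groth.Agent.Lib.Helper3.RPush
import Groth.Agent.Lib.Helper3.H0Iso
import Groth.Agent.Lib.Helper3.RDerL
import Groth.Agent.Lib.Helper3.DeltaIso2

set_option autoImplicit false
universe u
open CategoryTheory Limits Opposite DeltaF

namespace Groth.Agent.Helper3.RPushNat

variable {C D : Type u} [SmallCategory C] [SmallCategory D]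
  (J : GrothendieckTopology C) (K : GrothendieckTopology D) (u : D ⥤ C) [u.IsContinuous K J]

/-- restrict along `u`, then sheafify -/
noncomputable abbrev G : (Cᵒᵖ ⥤ AddCommGrpCat.{u}) ⥤ Sheaf K AddCommGrpCat.{u} :=
  RPush.W u ⋙ presheafToSheaf K AddCommGrpCat.{u}

instance : PreservesFiniteLimits (G K u) := inferInstance
instance : PreservesFiniteColimits (G K u) := inferInstance
instance : (G K u).Additive := inferInstance

instance : PreservesFiniteLimits (CohSite.push J K u) := inferInstance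

/-- the δ-functor `F ↦ (V ↦ H^•(u V, F))^#` -/
noncomputable def T' : CohDeltaFunctor (Sheaf J AddCommGrpCat.{u}) (Sheaf K AddCommGrpCat.{u}) ℕ :=
  HPDelta.compExact (HPDelta.hpDelta J) (G K u)

/-- the δ-functor of higher direct images -/
noncomputable def T : CohDeltaFunctor (Sheaf J AddCommGrpCat.{u}) (Sheaf K AddCommGrpCat.{u}) ℕ :=
  (RDerL.derivedLES (CohSite.push J K u)).toCohDeltaFunctor

lemma T_eff : (T J K u).IsEffaceable := by
  intro n X
  refine ⟨Injective.under X, Injective.ι X, inferInstance, ?_⟩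
  exact (Functor.isZero_rightDerived_obj_injective_succ (CohSite.push J K u) n (Injective.under X)).eq_of_tgt _ _

lemma isZero_hpF_injective (I : Sheaf J AddCommGrpCat.{u}) [Injective I] (n : ℕ) :
    IsZero ((HPDelta.hpF J (n + 1)).obj I) := by
  apply Functor.isZero
  intro U
  have : Subsingleton (Abelian.Ext ((yoneda ⋙ (Functor.whiskeringRight _ _ _).obj
      AddCommGrpCat.free ⋙ presheafToSheaf J AddCommGrpCat.{u}).obj U.unop) I (n + 1)) :=
    ⟨fun a b => (Abelian.Ext.eq_zero_of_injective a).trans (Abelian.Ext.eq_zero_of_injective b).symm⟩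
  exact @AddCommGrpCat.isZero_of_subsingleton _ this

lemma T'_eff : (T' J K u).IsEffaceable := by
  intro n X
  refine ⟨Injective.under X, Injective.ι X, inferInstance, ?_⟩
  exact ((G K u).map_isZero (isZero_hpF_injective J (Injective.under X) n)).eq_of_tgt _ _

lemma compEquiv_natural {F F' : Sheaf J AddCommGrpCat.{u}} (φ : F ⟶ F') (U : C)
    (x : ((F.cohomologyPresheaf 0).obj (op U) : Type u)) :
    H0Iso.compEquiv J F' U (x.comp (Abelian.Ext.mk₀ φ) (add_zero 0)) =
      (φ.hom.app (op U)).hom (H0Iso.compEquiv J F U x) := by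
  obtain ⟨ψ, rfl⟩ := (Abelian.Ext.mk₀_bijective (CohCx.freeSheaf J U) F).2 x
  rw [Abelian.Ext.mk₀_comp_mk₀]
  have e1 : ∀ {X Y : Sheaf J AddCommGrpCat.{u}} (f : X ⟶ Y),
      Abelian.Ext.addEquiv₀ (Abelian.Ext.mk₀ f) = f := by
    intro X Y f
    apply (Abelian.Ext.mk₀_bijective X Y).1
    delta Abelian.Ext.addEquiv₀
    simp
  change CohFree.evalGen J U F' (Abelian.Ext.addEquiv₀ (Abelian.Ext.mk₀ _)) =
    (φ.hom.app (op U)).hom (CohFree.evalGen J U F (Abelian.Ext.addEquiv₀ (Abelian.Ext.mk₀ ψ)))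
  rw [e1, e1]
  rfl

/-- `H^0(-, F) = F`, naturally in `F` -/
noncomputable def h0Nat : HPDelta.hpF J 0 ≅ sheafToPresheaf J AddCommGrpCat.{u} :=
  NatIso.ofComponents (fun F => H0Iso.iso J F) (by
    intro F F' φ
    ext U x
    exact compEquiv_natural J φ U.unop x)

/-- degree zero comparison -/
noncomputable def t0 : (T J K u).F 0 ≅ (T' J K u).F 0 :=
  (CohSite.push J K u).rightDerivedZeroIsoSelf ≪≫
    (Functor.rightUnitor _).symm ≪≫
    Functor.isoWhiskerLeft (CohSite.push J K u) (sheafificationNatIso K AddCommGrpCat.{u}) ≪≫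
    (Functor.associator _ _ _).symm ≪≫
    Functor.isoWhiskerRight (Iso.refl _ : CohSite.push J K u ⋙ sheafToPresheaf K AddCommGrpCat.{u} ≅
      sheafToPresheaf J AddCommGrpCat.{u} ⋙ RPush.W u) (presheafToSheaf K AddCommGrpCat.{u}) ≪≫
    Functor.associator _ _ _ ≪≫
    Functor.isoWhiskerRight (h0Nat J).symm (G K u)

/-- the higher direct images are, naturally, the sheafified restricted cohomology presheaves -/
noncomputable def rpushNatIso (p : ℕ) :
    CohSite.Rpush J K u p ≅ Sheaf.cohomologyPresheafFunctor.{u} J p ⋙ G K u :=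
  DeltaIso2.isoOfZero (T J K u) (T' J K u) (T_eff J K u) (T'_eff J K u) (t0 J K u) p

end Groth.Agent.Helper3.RPushNat
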