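import Mathlib
import Groth.Prelude.Def_CohSite
import Groth.Agent.Lib.Helper3.RPushNat

set_option autoImplicit false
universe u
open CategoryTheory Limits Opposite

namespace Groth.Agent.Helper3.RPushColim

lemma isIso_of_isColimit {ι C : Type*} [Category ι] [Category C] {F : ι ⥤ C} {c1 c2 : Cocone F}
    (h1 : IsColimit c1) (h2 : IsColimit c2) (f : c1.pt ⟶ c2.pt)
    (hf : ∀ i, c1.ι.app i ≫ f = c2.ι.app i) : IsIso f := by
  have : f = (h1.coconePointUniqueUpToIso h2).hom :=
    h1.hom_ext (fun i => by rw [hf, IsColimit.comp_coconePointUniqueUpToIso_hom])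
  rw [this]
  infer_instance

variable {C D : Type u} [SmallCategory C] [SmallCategory D]
  (J : GrothendieckTopology C) (K : GrothendieckTopology D) (u : D ⥤ C)
  {ι : Type u} [SmallCategory ι] (F : ι ⥤ Sheaf J AddCommGrpCat.{u}) (p : ℕ)

/-- `F ↦ (V ↦ H^p(u V, F))` -/
noncomputable abbrev Φ : Sheaf J AddCommGrpCat.{u} ⥤ (Dᵒᵖ ⥤ AddCommGrpCat.{u}) :=
  Sheaf.cohomologyPresheafFunctor.{u} J p ⋙ RPush.W u

/-- the comparison map from the colimit of the cohomology presheaves -/
noncomputable def d : colimit (F ⋙ Φ J u p) ⟶ (Φ J u p).obj (colimit F) :=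
  colimit.desc (F ⋙ Φ J u p) ((Φ J u p).mapCocone (colimit.cocone F))

lemma isIso_d_app (W : D)
    (hW : PreservesColimit F
      ((Sheaf.cohomologyPresheafFunctor.{u} J p).flip.obj (op (u.obj W)))) :
    IsIso ((d J u F p).app (op W)) := by
  let ev := (evaluation Dᵒᵖ AddCommGrpCat.{u}).obj (op W)
  have h1 : IsColimit (ev.mapCocone (colimit.cocone (F ⋙ Φ J u p))) :=
    isColimitOfPreserves ev (colimit.isColimit _)
  have h2 : IsColimit (ev.mapCocone ((Φ J u p).mapCocone (colimit.cocone F))) :=
    isColimitOfPreserves ((Sheaf.cohomologyPresheafFunctor.{u} J p).flip.obj (op (u.obj W)))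
      (colimit.isColimit F)
  refine isIso_of_isColimit h1 h2 _ (fun i => ?_)
  change (colimit.ι (F ⋙ Φ J u p) i).app (op W) ≫ (d J u F p).app (op W) = _
  rw [← NatTrans.comp_app, d, colimit.ι_desc]
  rfl

/-- a morphism of presheaves which is bijective on a covering family of every object is inverted
by sheafification -/
lemma isIso_sheafify_of_local {P Q : Dᵒᵖ ⥤ AddCommGrpCat.{u}} (φ : P ⟶ Q)
    (h : ∀ V : D, ∃ (κ : Type u) (Y : κ → D) (g : ∀ k, Y k ⟶ V), Sieve.ofArrows Y g ∈ K V ∧
      ∀ k, IsIso (φ.app (op (Y k)))) :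
    IsIso ((presheafToSheaf K AddCommGrpCat.{u}).map φ) := by
  rw [← GrothendieckTopology.W_iff]
  have : Presheaf.IsLocallyInjective K φ := by
    constructor
    intro X x y hxy
    obtain ⟨κ, Yk, g, hcov, hiso⟩ := h X.unop
    refine K.superset_covering ((Sieve.generate_le_iff _ _).2 ?_) hcov
    intro Z f hf
    obtain ⟨k⟩ := hf
    change P.map (g k).op x = P.map (g k).op y
    have := hiso k
    have hinj : Function.Injective (φ.app (op (Yk k))) :=
      (ConcreteCategory.bijective_of_isIso (φ.app (op (Yk k)))).1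
    apply hinj
    rw [NatTrans.naturality_apply, NatTrans.naturality_apply, hxy]
  have : Presheaf.IsLocallySurjective K φ := by
    constructor
    intro U s
    obtain ⟨κ, Yk, g, hcov, hiso⟩ := h U
    refine K.superset_covering ((Sieve.generate_le_iff _ _).2 ?_) hcov
    intro Z f hf
    obtain ⟨k⟩ := hf
    have := hiso k
    exact (ConcreteCategory.bijective_of_isIso (φ.app (op (Yk k)))).2 _
  exact K.W_of_isLocallyBijective φ

variable [u.IsContinuous K J]

theorem main
    (h : ∀ V : D, ∃ (κ : Type u) (Y : κ → D) (g : ∀ k, Y k ⟶ V), Sieve.ofArrows Y g ∈ K V ∧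
      ∀ k, PreservesColimit F
        ((Sheaf.cohomologyPresheafFunctor.{u} J p).flip.obj (op (u.obj (Y k))))) :
    PreservesColimit F (CohSite.Rpush J K u p) := by
  have key : PreservesColimit F (Sheaf.cohomologyPresheafFunctor.{u} J p ⋙ RPushNat.G K u) := by
    let L := presheafToSheaf K AddCommGrpCat.{u}
    have hL : IsIso (L.map (d J u F p)) := by
      apply isIso_sheafify_of_local
      intro V
      obtain ⟨κ, Y, g, hcov, hY⟩ := h V
      exact ⟨κ, Y, g, hcov, fun k => isIso_d_app J u F p (Y k) (hY k)⟩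
    have hc' : IsColimit (L.mapCocone (colimit.cocone (F ⋙ Φ J u p))) :=
      isColimitOfPreserves L (colimit.isColimit _)
    have hdesc : hc'.desc (L.mapCocone ((Φ J u p).mapCocone (colimit.cocone F))) =
        L.map (d J u F p) := by
      apply hc'.hom_ext
      intro i
      rw [hc'.fac]
      change L.map _ = L.map _ ≫ L.map _
      rw [← L.map_comp]
      congr 1
      exact (colimit.ι_desc _ _).symm
    have hiso : IsIso (hc'.desc (L.mapCocone ((Φ J u p).mapCocone (colimit.cocone F)))) := by
      rw [hdesc]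
      exact hL
    have hfin : IsColimit (L.mapCocone ((Φ J u p).mapCocone (colimit.cocone F))) :=
      IsColimit.ofPointIso hc'
    exact preservesColimit_of_preserves_colimit_cocone (colimit.isColimit F) hfin
  exact preservesColimit_of_natIso F (RPushNat.rpushNatIso J K u p).symm

end Groth.Agent.Helper3.RPushColim
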