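import Mathlib

set_option autoImplicit false
universe u
open CategoryTheory Limits

namespace Groth.Agent.Helper3.FiltAb

variable {I : Type u} [SmallCategory I] [IsFiltered I] (G : I ⥤ AddCommGrpCat.{u})

/-- elements of a filtered colimit of abelian groups come from some stage -/
lemma exists_rep {t : Cocone G} (ht : IsColimit t) (x : t.pt) :
    ∃ (i : I) (y : G.obj i), (t.ι.app i).hom y = x :=
  Concrete.isColimit_exists_rep G ht x

/-- an element dying in a filtered colimit of abelian groups dies at a later stage -/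
lemma exists_map_eq_zero {t : Cocone G} (ht : IsColimit t) (i : I) (y : G.obj i)
    (h : (t.ι.app i).hom y = 0) : ∃ (j : I) (f : i ⟶ j), (G.map f).hom y = 0 := by
  have h' : (t.ι.app i).hom y = (t.ι.app i).hom 0 := by rw [h, map_zero]
  obtain ⟨k, f, g, hk⟩ := Concrete.isColimit_exists_of_rep_eq G ht y 0 h'
  exact ⟨k, f, hk.trans (map_zero _)⟩

/-- two elements agreeing in a filtered colimit of abelian groups agree at a later stage -/
lemma exists_map_eq {t : Cocone G} (ht : IsColimit t) (i : I) (y z : G.obj i)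
    (h : (t.ι.app i).hom y = (t.ι.app i).hom z) : ∃ (j : I) (f : i ⟶ j), (G.map f).hom y = (G.map f).hom z := by
  obtain ⟨j, f, hf⟩ := exists_map_eq_zero G ht i (y - z) (by rw [map_sub, h, sub_self])
  exact ⟨j, f, sub_eq_zero.1 (by rw [← map_sub]; exact hf)⟩

/-- recognition of filtered colimits of abelian groups -/
lemma isColimit_of (t : Cocone G) (hsurj : ∀ x : t.pt, ∃ (i : I) (y : G.obj i), (t.ι.app i).hom y = x)
    (hinj : ∀ (i : I) (y : G.obj i), (t.ι.app i).hom y = 0 → ∃ (j : I) (f : i ⟶ j), (G.map f).hom y = 0) :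
    Nonempty (IsColimit t) := by
  have := reflectsColimit_of_reflectsIsomorphisms G (forget AddCommGrpCat.{u})
  refine ⟨isColimitOfReflects (forget AddCommGrpCat.{u}) ?_⟩
  apply Types.FilteredColimit.isColimitOf'
  · intro x
    obtain ⟨i, y, hy⟩ := hsurj x
    exact ⟨i, y, hy.symm⟩
  · intro i (x : G.obj i) (y : G.obj i) h
    have h' : (t.ι.app i).hom x = (t.ι.app i).hom y := h
    obtain ⟨j, f, hf⟩ := hinj i (x - y) (by
      rw [map_sub]
      exact sub_eq_zero.2 h')
    refine ⟨j, f, ?_⟩
    rw [map_sub] at hf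
    exact sub_eq_zero.1 hf

end Groth.Agent.Helper3.FiltAb
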