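import Mathlib

set_option autoImplicit false
universe v u
open CategoryTheory Limits

namespace Groth.Agent.Helper3.FiltFin

variable {I : Type u} [Category.{v} I] [IsFiltered I]

/-- finitely many eventually true properties of objects hold simultaneously somewhere -/
lemma exists_common_obj {κ : Type*} [Finite κ] (P : κ → I → Prop)
    (hmono : ∀ (k : κ) (i j : I) (_ : i ⟶ j), P k i → P k j) (hex : ∀ k, ∃ i, P k i) :
    ∃ i, ∀ k, P k i := by
  classical
  haveI := Fintype.ofFinite κ
  have key : ∀ s : Finset κ, ∃ i, ∀ k ∈ s, P k i := by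
    intro s
    induction s using Finset.induction_on with
    | empty => exact ⟨Classical.choice IsFiltered.nonempty, fun k hk => absurd hk (Finset.notMem_empty k)⟩
    | insert a s ha ih =>
      obtain ⟨i, hi⟩ := ih
      obtain ⟨j, hj⟩ := hex a
      refine ⟨IsFiltered.max i j, fun k hk => ?_⟩
      rcases Finset.mem_insert.1 hk with rfl | hk
      · exact hmono _ _ _ (IsFiltered.rightToMax i j) hj
      · exact hmono _ _ _ (IsFiltered.leftToMax i j) (hi k hk)
  obtain ⟨i, hi⟩ := key Finset.univ
  exact ⟨i, fun k => hi k (Finset.mem_univ k)⟩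

/-- finitely many eventually true properties of arrows out of `i` hold simultaneously somewhere -/
lemma exists_common_arrow {κ : Type*} [Finite κ] (i : I) (P : κ → ∀ j : I, (i ⟶ j) → Prop)
    (hmono : ∀ (k : κ) (j l : I) (f : i ⟶ j) (g : j ⟶ l), P k j f → P k l (f ≫ g))
    (hex : ∀ k, ∃ (j : I) (f : i ⟶ j), P k j f) :
    ∃ (j : I) (f : i ⟶ j), ∀ k, P k j f := by
  classical
  haveI := Fintype.ofFinite κ
  have key : ∀ s : Finset κ, ∃ (j : I) (f : i ⟶ j), ∀ k ∈ s, P k j f := by
    intro s
    induction s using Finset.induction_on with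
    | empty => exact ⟨i, 𝟙 i, fun k hk => absurd hk (Finset.notMem_empty k)⟩
    | insert a s ha ih =>
      obtain ⟨j, f, hf⟩ := ih
      obtain ⟨j', f', hf'⟩ := hex a
      obtain ⟨l, g, g', hl⟩ := IsFiltered.span f f'
      refine ⟨l, f ≫ g, fun k hk => ?_⟩
      rcases Finset.mem_insert.1 hk with rfl | hk
      · rw [hl]
        exact hmono _ _ _ f' g' hf'
      · exact hmono _ _ _ f g (hf k hk)
  obtain ⟨j, f, hf⟩ := key Finset.univ
  exact ⟨j, f, fun k => hf k (Finset.mem_univ k)⟩

end Groth.Agent.Helper3.FiltFin
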