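import Mathlib
import Groth.Prelude.Def_CohCx
import Groth.Agent.Lib.Helper3.FiltAb
import Groth.Agent.Lib.Helper3.FiltFin
import Groth.Agent.Lib.Helper3.CechLow

set_option autoImplicit false
universe u
open CategoryTheory Limits Opposite

namespace Groth.Agent.Helper3.QcSect

variable {C : Type u} [SmallCategory C] [HasPullbacks C] (J : GrothendieckTopology C)

section Sheaf

variable (G : Sheaf J AddCommGrpCat.{u}) {U : C} {ι : Type u} (Y : ι → Over U)
  (hY : Sieve.ofArrows (fun i => (Y i).left) (fun i => (Y i).hom) ∈ J U)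

include hY in
/-- sections of a sheaf are determined on a covering family -/
lemma sep (τ₁ τ₂ : G.obj.obj (op U))
    (h : ∀ k, (G.obj.map (Y k).hom.op).hom τ₁ = (G.obj.map (Y k).hom.op).hom τ₂) : τ₁ = τ₂ := by
  have hsh : Presieve.IsSheaf J (G.obj ⋙ forget AddCommGrpCat.{u}) :=
    (isSheaf_iff_isSheaf_of_type J _).1
      ((Presheaf.isSheaf_iff_isSheaf_forget J G.obj (forget AddCommGrpCat.{u})).1 G.property)
  have e : ∀ (i : ι) (V : C) (k : V ⟶ (Y i).left) (τ : G.obj.obj (op U)),
      (G.obj.map (k ≫ (Y i).hom).op).hom τ =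
      (G.obj.map k.op).hom ((G.obj.map (Y i).hom.op).hom τ) := by
    intro i V k τ
    rw [op_comp, G.obj.map_comp]
    rfl
  refine (hsh _ hY).isSeparatedFor.ext ?_
  rintro V f ⟨W, k, g, hg, rfl⟩
  obtain ⟨i⟩ := hg
  exact (e i _ k τ₁).trans ((congrArg _ (h i)).trans (e i _ k τ₂).symm)

include hY in
/-- gluing a family of sections which agree on the double fibre products -/
lemma glue_family (x : ∀ k, G.obj.obj (op (Y k).left))
    (hx : ∀ a : Fin 2 → ι,
      (G.obj.map (Pi.π (fun k => Y (a k)) 0).left.op).hom (x (a 0)) =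
        (G.obj.map (Pi.π (fun k => Y (a k)) 1).left.op).hom (x (a 1))) :
    ∃ τ : G.obj.obj (op U), ∀ k, (G.obj.map (Y k).hom.op).hom τ = x k := by
  have hsh : Presieve.IsSheaf J (G.obj ⋙ forget AddCommGrpCat.{u}) :=
    (isSheaf_iff_isSheaf_of_type J _).1
      ((Presheaf.isSheaf_iff_isSheaf_forget J G.obj (forget AddCommGrpCat.{u})).1 G.property)
  have h1 := hsh _ hY
  rw [Sieve.ofArrows, ← Presieve.isSheafFor_iff_generate, Presieve.isSheafFor_arrows_iff] at h1
  have hc : Presieve.Arrows.Compatible (G.obj ⋙ forget AddCommGrpCat.{u})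
      (fun i => (Y i).hom) x := by
    intro i j Z gi gj w
    let a : Fin 2 → ι := CechLow.fam2 (β := fun _ => ι) i j
    let Z' : Over U := Over.mk (gi ≫ (Y i).hom)
    let m : Z' ⟶ ∏ᶜ fun k => Y (a k) :=
      Pi.lift (CechLow.fam2 (β := fun k => Z' ⟶ Y (a k)) (Over.homMk gi rfl) (Over.homMk gj w.symm))
    have hm0 : m.left ≫ (Pi.π (fun k => Y (a k)) 0).left = gi := by
      rw [← Over.comp_left, Pi.lift_π]
      rfl
    have hm1 : m.left ≫ (Pi.π (fun k => Y (a k)) 1).left = gj := by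
      rw [← Over.comp_left, Pi.lift_π]
      rfl
    have h := congrArg (G.obj.map m.left.op).hom (hx a)
    have e0 : G.obj.map (Pi.π (fun k => Y (a k)) 0).left.op ≫ G.obj.map m.left.op = G.obj.map gi.op := by
      rw [← G.obj.map_comp, ← op_comp]
      exact congrArg (fun g => G.obj.map (Quiver.Hom.op g)) hm0
    have e1 : G.obj.map (Pi.π (fun k => Y (a k)) 1).left.op ≫ G.obj.map m.left.op = G.obj.map gj.op := by
      rw [← G.obj.map_comp, ← op_comp]
      exact congrArg (fun g => G.obj.map (Quiver.Hom.op g)) hm1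
    exact ((ConcreteCategory.congr_hom e0 _).symm.trans h).trans (ConcreteCategory.congr_hom e1 _)
  obtain ⟨τ, hτ, -⟩ := h1 x hc
  exact ⟨τ, hτ⟩

end Sheaf

section Colim

variable {I : Type u} [SmallCategory I] [IsFiltered I] (F : I ⥤ Sheaf J AddCommGrpCat.{u})

/-- the underlying diagram of presheaves -/
noncomputable abbrev D : I ⥤ (Cᵒᵖ ⥤ AddCommGrpCat.{u}) := F ⋙ sheafToPresheaf J AddCommGrpCat.{u}

/-- the presheaf colimit -/
noncomputable abbrev P : Cᵒᵖ ⥤ AddCommGrpCat.{u} := colimit (D J F)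

/-- the inclusions into the presheaf colimit -/
noncomputable abbrev inc (i : I) : (F.obj i).obj ⟶ P J F := colimit.ι (D J F) i

/-- the presheaf colimit is computed sectionwise -/
noncomputable def isColimitEval (W : C) :
    IsColimit (((evaluation Cᵒᵖ AddCommGrpCat.{u}).obj (op W)).mapCocone (colimit.cocone (D J F))) :=
  isColimitOfPreserves _ (colimit.isColimit _)

lemma rep (W : C) (s : (P J F).obj (op W)) :
    ∃ (i : I) (x : (F.obj i).obj.obj (op W)), ((inc J F i).app (op W)).hom x = s :=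
  FiltAb.exists_rep (D J F ⋙ (evaluation Cᵒᵖ AddCommGrpCat.{u}).obj (op W)) (isColimitEval J F W) s

lemma zero_of (W : C) (i : I) (x : (F.obj i).obj.obj (op W))
    (h : ((inc J F i).app (op W)).hom x = 0) :
    ∃ (j : I) (f : i ⟶ j), ((F.map f).hom.app (op W)).hom x = 0 :=
  FiltAb.exists_map_eq_zero (D J F ⋙ (evaluation Cᵒᵖ AddCommGrpCat.{u}).obj (op W))
    (isColimitEval J F W) i x h

lemma inc_map {i j : I} (f : i ⟶ j) (W : C) (x : (F.obj i).obj.obj (op W)) :
    ((inc J F j).app (op W)).hom (((F.map f).hom.app (op W)).hom x) =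
      ((inc J F i).app (op W)).hom x := by
  have h : (D J F).map f ≫ inc J F j = inc J F i := colimit.w (D J F) f
  exact ConcreteCategory.congr_hom (NatTrans.congr_app h (op W)) x

lemma inc_res (i : I) {W W' : C} (g : W' ⟶ W) (x : (F.obj i).obj.obj (op W)) :
    ((P J F).map g.op).hom (((inc J F i).app (op W)).hom x) =
      ((inc J F i).app (op W')).hom (((F.obj i).obj.map g.op).hom x) :=
  (ConcreteCategory.congr_hom ((inc J F i).naturality g.op) x).symm

lemma map_res {i j : I} (f : i ⟶ j) {W W' : C} (g : W' ⟶ W) (x : (F.obj i).obj.obj (op W)) :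
    ((F.obj j).obj.map g.op).hom (((F.map f).hom.app (op W)).hom x) =
      ((F.map f).hom.app (op W')).hom (((F.obj i).obj.map g.op).hom x) :=
  (ConcreteCategory.congr_hom ((F.map f).hom.naturality g.op) x).symm

/-- the sheafification map of the presheaf colimit -/
noncomputable abbrev θ : P J F ⟶ sheafify J (P J F) := toSheafify J (P J F)

/-- the sheafified colimit as a sheaf -/
noncomputable abbrev Ps : Sheaf J AddCommGrpCat.{u} :=
  (presheafToSheaf J AddCommGrpCat.{u}).obj (P J F)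

lemma map_comp_app {i j l : I} (f : i ⟶ j) (g : j ⟶ l) (W : C) (x : (F.obj i).obj.obj (op W)) :
    ((F.map (f ≫ g)).hom.app (op W)).hom x =
      ((F.map g).hom.app (op W)).hom (((F.map f).hom.app (op W)).hom x) := by
  rw [F.map_comp]
  rfl

variable (B : Set C) (Cov : ∀ (U : C) (ι : Type u), (ι → Over U) → Prop)
  (h1 : ∀ (U : C) (ι : Type u) (Y : ι → Over U), Cov U ι Y → Finite ι ∧ U ∈ B ∧
      Sieve.ofArrows (fun i => (Y i).left) (fun i => (Y i).hom) ∈ J U ∧
      ∀ (p : ℕ) (a : Fin (p + 1) → ι), (∏ᶜ fun k => Y (a k)).left ∈ B)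
  (h2 : ∀ U ∈ B, ∀ T ∈ J U, ∃ (ι : Type u) (Y : ι → Over U), Cov U ι Y ∧ ∀ i, T.arrows (Y i).hom)

include h1 h2 in
lemma inj_B (U : C) (hU : U ∈ B) (s : (P J F).obj (op U))
    (hs : ((θ J F).app (op U)).hom s = 0) : s = 0 := by
  have hli : Presheaf.equalizerSieve (F := P J F) s 0 ∈ J U :=
    Presheaf.equalizerSieve_mem J (θ J F) s 0 (hs.trans (map_zero _).symm)
  obtain ⟨ι, Y, hcov, hY⟩ := h2 U hU _ hli
  obtain ⟨hfin, -, hcover, -⟩ := h1 U ι Y hcov
  obtain ⟨i, x, rfl⟩ := rep J F U s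
  have hk : ∀ k : ι, ∃ (j : I) (f : i ⟶ j),
      ((F.obj j).obj.map (Y k).hom.op).hom (((F.map f).hom.app (op U)).hom x) = 0 := by
    intro k
    have e : ((P J F).map (Y k).hom.op).hom (((inc J F i).app (op U)).hom x) = 0 :=
      (hY k).trans (map_zero _)
    rw [inc_res] at e
    obtain ⟨j, f, hf⟩ := zero_of J F _ i _ e
    exact ⟨j, f, (map_res J F f (Y k).hom x).trans hf⟩
  obtain ⟨j, f, hjf⟩ := FiltFin.exists_common_arrow i
    (fun k j f => ((F.obj j).obj.map (Y k).hom.op).hom (((F.map f).hom.app (op U)).hom x) = 0)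
    (by
      intro k j l f g hP
      change ((F.obj l).obj.map (Y k).hom.op).hom (((F.map (f ≫ g)).hom.app (op U)).hom x) = 0
      rw [map_comp_app, map_res, hP, map_zero]) hk
  have h0 : ((F.map f).hom.app (op U)).hom x = 0 :=
    sep J (F.obj j) Y hcover _ 0 (fun k => (hjf k).trans (map_zero _).symm)
  rw [← inc_map J F f U x, h0, map_zero]

lemma θ_res {W W' : C} (g : W' ⟶ W) (s : (P J F).obj (op W)) :
    ((sheafify J (P J F)).map g.op).hom (((θ J F).app (op W)).hom s) =
      ((θ J F).app (op W')).hom (((P J F).map g.op).hom s) :=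
  (ConcreteCategory.congr_hom ((θ J F).naturality g.op) s).symm

include h1 h2 in
lemma surj_B (U : C) (hU : U ∈ B) (t : (sheafify J (P J F)).obj (op U)) :
    ∃ s : (P J F).obj (op U), ((θ J F).app (op U)).hom s = t := by
  have hls : Presheaf.imageSieve (θ J F) t ∈ J U := Presheaf.imageSieve_mem J (θ J F) t
  obtain ⟨ι, Y, hcov, hY⟩ := h2 U hU _ hls
  obtain ⟨hfin, -, hcover, hprod⟩ := h1 U ι Y hcov
  choose sk hsk using hY
  have hrep : ∃ i, ∀ k, ∃ x : (F.obj i).obj.obj (op (Y k).left),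
      ((inc J F i).app (op (Y k).left)).hom x = sk k :=
    FiltFin.exists_common_obj
      (fun k i => ∃ x : (F.obj i).obj.obj (op (Y k).left),
        ((inc J F i).app (op (Y k).left)).hom x = sk k)
      (fun k i j f ⟨x, hx⟩ => ⟨((F.map f).hom.app _).hom x, (inc_map J F f _ x).trans hx⟩)
      (fun k => by
        obtain ⟨i, x, hx⟩ := rep J F _ (sk k)
        exact ⟨i, x, hx⟩)
  obtain ⟨i, hi⟩ := hrep
  choose x hx using hi
  have hpair : ∀ a : Fin 2 → ι, ∃ (j : I) (f : i ⟶ j),
      ((F.obj j).obj.map (Pi.π (fun k => Y (a k)) 0).left.op).hom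
        (((F.map f).hom.app (op (Y (a 0)).left)).hom (x (a 0))) =
      ((F.obj j).obj.map (Pi.π (fun k => Y (a k)) 1).left.op).hom
        (((F.map f).hom.app (op (Y (a 1)).left)).hom (x (a 1))) := by
    intro a
    have hW : (∏ᶜ fun k => Y (a k)).left ∈ B := hprod 1 a
    have hp : (Pi.π (fun k => Y (a k)) 0).left ≫ (Y (a 0)).hom =
        (Pi.π (fun k => Y (a k)) 1).left ≫ (Y (a 1)).hom :=
      (Over.w _).trans (Over.w _).symm
    have hd : ((inc J F i).app (op (∏ᶜ fun k => Y (a k)).left)).hom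
        (((F.obj i).obj.map (Pi.π (fun k => Y (a k)) 0).left.op).hom (x (a 0)) -
          ((F.obj i).obj.map (Pi.π (fun k => Y (a k)) 1).left.op).hom (x (a 1))) = 0 := by
      apply inj_B J F B Cov h1 h2 _ hW
      rw [map_sub, map_sub, ← inc_res, ← inc_res, hx, hx, ← θ_res, ← θ_res, hsk, hsk]
      have e : ∀ (k : ι) (g : (∏ᶜ fun k => Y (a k)).left ⟶ (Y k).left),
          ((sheafify J (P J F)).map g.op).hom (((sheafify J (P J F)).map (Y k).hom.op).hom t) =
          ((sheafify J (P J F)).map (g ≫ (Y k).hom).op).hom t := by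
        intro k g
        rw [op_comp, (sheafify J (P J F)).map_comp]
        rfl
      rw [e, e, hp, sub_self]
    obtain ⟨j, f, hf⟩ := zero_of J F _ i _ hd
    refine ⟨j, f, ?_⟩
    rw [map_sub, ← map_res, ← map_res] at hf
    exact sub_eq_zero.1 hf
  obtain ⟨j, f, hjf⟩ := FiltFin.exists_common_arrow i
    (fun (a : Fin 2 → ι) j f =>
      ((F.obj j).obj.map (Pi.π (fun k => Y (a k)) 0).left.op).hom
        (((F.map f).hom.app (op (Y (a 0)).left)).hom (x (a 0))) =
      ((F.obj j).obj.map (Pi.π (fun k => Y (a k)) 1).left.op).hom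
        (((F.map f).hom.app (op (Y (a 1)).left)).hom (x (a 1))))
    (by
      intro a j l f g hP
      change ((F.obj l).obj.map (Pi.π (fun k => Y (a k)) 0).left.op).hom
          (((F.map (f ≫ g)).hom.app (op (Y (a 0)).left)).hom (x (a 0))) =
        ((F.obj l).obj.map (Pi.π (fun k => Y (a k)) 1).left.op).hom
          (((F.map (f ≫ g)).hom.app (op (Y (a 1)).left)).hom (x (a 1)))
      rw [map_comp_app, map_comp_app, map_res J F g, map_res J F g, hP]) hpair
  obtain ⟨τ, hτ⟩ := glue_family J (F.obj j) Y hcover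
    (fun k => ((F.map f).hom.app (op (Y k).left)).hom (x k)) hjf
  refine ⟨((inc J F j).app (op U)).hom τ, ?_⟩
  apply sep J (Ps J F) Y hcover
  intro k
  refine Eq.trans ?_ (hsk k)
  refine (θ_res J F (Y k).hom _).trans ?_
  rw [inc_res, hτ, inc_map, hx]

/-- the sheafified colimit cocone -/
noncomputable abbrev c₀ : Cocone F := Sheaf.sheafifyCocone (colimit.cocone (D J F))

/-- it is a colimit -/
noncomputable def hc₀ : IsColimit (c₀ J F) := Sheaf.isColimitSheafifyCocone _ (colimit.isColimit _)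

lemma c₀_ι_apply (i : I) (W : C) (x : (F.obj i).obj.obj (op W)) :
    (((c₀ J F).ι.app i).hom.app (op W)).hom x =
      ((θ J F).app (op W)).hom (((inc J F i).app (op W)).hom x) := by
  have h := Sheaf.sheafifyCocone_ι_app_val (colimit.cocone (D J F)) i
  exact ConcreteCategory.congr_hom (NatTrans.congr_app h (op W)) x

include h1 h2 in
theorem preservesColimit_sections (U : C) (hU : U ∈ B) :
    PreservesColimit F (sheafToPresheaf J AddCommGrpCat.{u} ⋙
      (evaluation Cᵒᵖ AddCommGrpCat.{u}).obj (op U)) := by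
  refine preservesColimit_of_preserves_colimit_cocone (hc₀ J F) ?_
  refine (FiltAb.isColimit_of _ _ ?_ ?_).some
  · intro t
    obtain ⟨s, hs⟩ := surj_B J F B Cov h1 h2 U hU t
    obtain ⟨i, x, hx⟩ := rep J F U s
    refine ⟨i, x, ?_⟩
    refine (c₀_ι_apply J F i U x).trans ?_
    rw [hx, hs]
  · intro i x hx
    have h3 : ((θ J F).app (op U)).hom (((inc J F i).app (op U)).hom x) = 0 :=
      (c₀_ι_apply J F i U x).symm.trans hx
    exact zero_of J F U i x (inj_B J F B Cov h1 h2 U hU _ h3)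

include h1 h2 in
lemma rep_colim (W : C) (hW : W ∈ B) (s : (colimit F).obj.obj (op W)) :
    ∃ (i : I) (x : (F.obj i).obj.obj (op W)), ((colimit.ι F i).hom.app (op W)).hom x = s := by
  haveI := preservesColimit_sections J F B Cov h1 h2 W hW
  exact FiltAb.exists_rep _ (isColimitOfPreserves (sheafToPresheaf J AddCommGrpCat.{u} ⋙
      (evaluation Cᵒᵖ AddCommGrpCat.{u}).obj (op W)) (colimit.isColimit F)) s

include h1 h2 in
lemma zero_colim (W : C) (hW : W ∈ B) (i : I) (x : (F.obj i).obj.obj (op W))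
    (h : ((colimit.ι F i).hom.app (op W)).hom x = 0) :
    ∃ (j : I) (f : i ⟶ j), ((F.map f).hom.app (op W)).hom x = 0 := by
  haveI := preservesColimit_sections J F B Cov h1 h2 W hW
  exact FiltAb.exists_map_eq_zero _ (isColimitOfPreserves (sheafToPresheaf J AddCommGrpCat.{u} ⋙
      (evaluation Cᵒᵖ AddCommGrpCat.{u}).obj (op W)) (colimit.isColimit F)) i x h

end Colim

end Groth.Agent.Helper3.QcSect
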