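import Mathlib
import Groth.Prelude.Def_CohCx
import Groth.Agent.Lib.Helper3.QcSect
import Groth.Agent.Lib.Helper3.CechInj

set_option autoImplicit false
universe u
open CategoryTheory Limits Opposite

namespace Groth.Agent.Helper3.CechColim

open CechLow

variable {C : Type u} [SmallCategory C] [HasPullbacks C] (J : GrothendieckTopology C)
  {I : Type u} [SmallCategory I] [IsFiltered I] (E : I ⥤ Sheaf J AddCommGrpCat.{u})
  (B : Set C) (Cov : ∀ (U : C) (ι : Type u), (ι → Over U) → Prop)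
  (h1 : ∀ (U : C) (ι : Type u) (Y : ι → Over U), Cov U ι Y → Finite ι ∧ U ∈ B ∧
      Sieve.ofArrows (fun i => (Y i).left) (fun i => (Y i).hom) ∈ J U ∧
      ∀ (p : ℕ) (a : Fin (p + 1) → ι), (∏ᶜ fun k => Y (a k)).left ∈ B)
  (h2 : ∀ U ∈ B, ∀ T ∈ J U, ∃ (ι : Type u) (Y : ι → Over U), Cov U ι Y ∧ ∀ i, T.arrows (Y i).hom)

/-- the presheaf maps to the colimit -/
noncomputable abbrev lam (i : I) : (E.obj i).obj ⟶ (colimit E).obj := (colimit.ι E i).hom

lemma lam_map {i j : I} (f : i ⟶ j) (W : C) (x : (E.obj i).obj.obj (op W)) :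
    ((lam J E j).app (op W)).hom (((E.map f).hom.app (op W)).hom x) =
      ((lam J E i).app (op W)).hom x := by
  have h : E.map f ≫ colimit.ι E j = colimit.ι E i := colimit.w E f
  have h' : (E.map f).hom ≫ (colimit.ι E j).hom = (colimit.ι E i).hom :=
    congrArg (fun m => m.hom) h
  exact ConcreteCategory.congr_hom (NatTrans.congr_app h' (op W)) x

variable {U : C} {ι : Type u} (Y : ι → Over U)

lemma Kmap_d {P Q : Cᵒᵖ ⥤ AddCommGrpCat.{u}} (φ : P ⟶ Q) (n : ℕ) (c : (K Y P).X n) :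
    ((K Y Q).d n (n + 1)).hom (((Kmap Y φ).f n).hom c) =
      ((Kmap Y φ).f (n + 1)).hom (((K Y P).d n (n + 1)).hom c) :=
  ConcreteCategory.congr_hom ((Kmap Y φ).comm n (n + 1)) c

include h1 h2 in
/-- lifting a cochain of the colimit to a finite stage -/
lemma exists_lift (hcov : Cov U ι Y) (n : ℕ) (c : (K Y (colimit E).obj).X n) :
    ∃ (i : I) (ci : (K Y (E.obj i).obj).X n), ((Kmap Y (lam J E i)).f n).hom ci = c := by
  obtain ⟨hfin, -, -, hprod⟩ := h1 U ι Y hcov
  have hrep : ∃ i, ∀ a : Fin (n + 1) → ι, ∃ x : (E.obj i).obj.obj (op (YY Y a)),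
      ((lam J E i).app (op (YY Y a))).hom x = (proj Y (colimit E).obj n a).hom c :=
    FiltFin.exists_common_obj
      (fun (a : Fin (n + 1) → ι) i => ∃ x : (E.obj i).obj.obj (op (YY Y a)),
        ((lam J E i).app (op (YY Y a))).hom x = (proj Y (colimit E).obj n a).hom c)
      (fun a i j f ⟨x, hx⟩ => ⟨((E.map f).hom.app _).hom x, (lam_map J E f _ x).trans hx⟩)
      (fun a => by
        obtain ⟨i, x, hx⟩ := QcSect.rep_colim J E B Cov h1 h2 _ (hprod n a) ((proj Y (colimit E).obj n a).hom c)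
        exact ⟨i, x, hx⟩)
  obtain ⟨i, hi⟩ := hrep
  choose x hx using hi
  obtain ⟨ci, hci⟩ := exists_cochain Y (E.obj i).obj n x
  refine ⟨i, ci, ?_⟩
  apply CechLow.ext Y (colimit E).obj n
  intro a
  rw [Kmap_proj_apply, hci, hx]

include h1 h2 in
/-- a cochain dying in the colimit dies at a later stage -/
lemma exists_zero (hcov : Cov U ι Y) (n : ℕ) (i : I) (ci : (K Y (E.obj i).obj).X n)
    (h0 : ((Kmap Y (lam J E i)).f n).hom ci = 0) :
    ∃ (j : I) (f : i ⟶ j), ((Kmap Y (E.map f).hom).f n).hom ci = 0 := by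
  obtain ⟨hfin, -, -, hprod⟩ := h1 U ι Y hcov
  have hk : ∀ a : Fin (n + 1) → ι, ∃ (j : I) (f : i ⟶ j),
      ((E.map f).hom.app (op (YY Y a))).hom ((proj Y (E.obj i).obj n a).hom ci) = 0 := by
    intro a
    apply QcSect.zero_colim J E B Cov h1 h2 _ (hprod n a)
    have := Kmap_proj_apply Y (lam J E i) n a ci
    rw [h0, map_zero] at this
    exact this.symm
  obtain ⟨j, f, hjf⟩ := FiltFin.exists_common_arrow i
    (fun (a : Fin (n + 1) → ι) j f =>
      ((E.map f).hom.app (op (YY Y a))).hom ((proj Y (E.obj i).obj n a).hom ci) = 0)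
    (by
      intro a j l f g hP
      change ((E.map (f ≫ g)).hom.app (op (YY Y a))).hom ((proj Y (E.obj i).obj n a).hom ci) = 0
      rw [QcSect.map_comp_app, hP, map_zero]) hk
  refine ⟨j, f, ?_⟩
  apply CechLow.ext Y (E.obj j).obj n
  intro a
  rw [Kmap_proj_apply, hjf, map_zero]

/-- exactness of the Čech complex of an injective sheaf in positive degrees, elementwise -/
lemma exists_of_injective (G : Sheaf J AddCommGrpCat.{u}) [Injective G] (n : ℕ)
    (c : (K Y G.obj).X (n + 1)) (hc : ((K Y G.obj).d (n + 1) (n + 2)).hom c = 0) :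
    ∃ b : (K Y G.obj).X n, ((K Y G.obj).d n (n + 1)).hom b = c := by
  have hz : IsZero ((K Y G.obj).homology (n + 1)) := CechInj.isZero_cech_of_injective Y G.obj n
  have h1 : (K Y G.obj).ExactAt (n + 1) := (HomologicalComplex.exactAt_iff_isZero_homology _ _).2 hz
  rw [(K Y G.obj).exactAt_iff' n (n + 1) (n + 2) (by simp) (by simp), ShortComplex.ab_exact_iff] at h1
  exact h1 c hc

include h1 h2 in
theorem isZero_cechH (hE : ∀ i, Injective (E.obj i)) (hcov : Cov U ι Y) (n : ℕ) :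
    IsZero (CohCx.cechH (colimit E).obj Y (n + 1)) := by
  change IsZero ((K Y (colimit E).obj).homology (n + 1))
  rw [← HomologicalComplex.exactAt_iff_isZero_homology,
    (K Y (colimit E).obj).exactAt_iff' n (n + 1) (n + 2) (by simp) (by simp), ShortComplex.ab_exact_iff]
  intro c hc
  change ((K Y (colimit E).obj).d (n + 1) (n + 2)).hom c = 0 at hc
  -- lift to a finite stage
  obtain ⟨i, ci, hci⟩ := exists_lift J E B Cov h1 h2 Y hcov (n + 1) c
  have hd : ((Kmap Y (lam J E i)).f (n + 2)).hom (((K Y (E.obj i).obj).d (n + 1) (n + 2)).hom ci) = 0 := by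
    rw [← Kmap_d, hci, hc]
  obtain ⟨j, f, hjf⟩ := exists_zero J E B Cov h1 h2 Y hcov (n + 2) i _ hd
  haveI := hE j
  obtain ⟨bj, hbj⟩ := exists_of_injective J Y (E.obj j) n (((Kmap Y (E.map f).hom).f (n + 1)).hom ci)
    (by rw [Kmap_d, hjf])
  refine ⟨((Kmap Y (lam J E j)).f n).hom bj, ?_⟩
  change ((K Y (colimit E).obj).d n (n + 1)).hom _ = c
  rw [Kmap_d, hbj, ← hci]
  apply CechLow.ext Y (colimit E).obj (n + 1)
  intro a
  rw [Kmap_proj_apply, Kmap_proj_apply, Kmap_proj_apply, lam_map]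

end Groth.Agent.Helper3.CechColim
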