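import Mathlib

set_option autoImplicit false
universe w v₁ u₁
open CategoryTheory Limits

namespace Groth.Agent.Helper3.DiagInj

variable {𝒜 : Type u₁} [Category.{v₁} 𝒜] [Abelian 𝒜] [EnoughInjectives 𝒜] [HasProducts.{w} 𝒜]
  {I : Type w} [SmallCategory I] (F : I ⥤ 𝒜)

/-- the family of injective hulls indexed by arrows out of `j` -/
noncomputable abbrev fam (j : I) : (Σ i : I, (j ⟶ i)) → 𝒜 := fun s => Injective.under (F.obj s.1)

/-- the product of the injective hulls of all `F i` for `j ⟶ i` -/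
noncomputable def Eobj (j : I) : 𝒜 := ∏ᶜ (fam F j)

/-- projections -/
noncomputable def π' (j i : I) (a : j ⟶ i) : Eobj F j ⟶ Injective.under (F.obj i) :=
  Pi.π (fam F j) ⟨i, a⟩

/-- lifts -/
noncomputable def lift' {X : 𝒜} (j : I) (f : ∀ (i : I) (_ : j ⟶ i), X ⟶ Injective.under (F.obj i)) :
    X ⟶ Eobj F j :=
  Pi.lift (fun s : Σ i : I, (j ⟶ i) => f s.1 s.2)

lemma lift'_π' {X : 𝒜} (j : I) (f : ∀ (i : I) (_ : j ⟶ i), X ⟶ Injective.under (F.obj i))
    (i : I) (a : j ⟶ i) : lift' F j f ≫ π' F j i a = f i a :=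
  Pi.lift_π _ _

lemma hom_ext' {X : 𝒜} (j : I) (f g : X ⟶ Eobj F j)
    (h : ∀ (i : I) (a : j ⟶ i), f ≫ π' F j i a = g ≫ π' F j i a) : f = g := by
  apply Pi.hom_ext
  rintro ⟨i, a⟩
  exact h i a

/-- a diagram of injective objects receiving `F` -/
noncomputable def E : I ⥤ 𝒜 where
  obj j := Eobj F j
  map {j j'} g := lift' F j' (fun i a => π' F j i (g ≫ a))
  map_id j := by
    apply hom_ext'
    intro i a
    rw [lift'_π', Category.id_comp, Category.id_comp]
  map_comp {j j' j''} g g' := by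
    apply hom_ext'
    intro i a
    rw [lift'_π', Category.assoc, Category.assoc, lift'_π', lift'_π']

/-- projections of `E` -/
noncomputable def π (j i : I) (a : j ⟶ i) : (E F).obj j ⟶ Injective.under (F.obj i) := π' F j i a

lemma hom_ext {X : 𝒜} (j : I) (f g : X ⟶ (E F).obj j)
    (h : ∀ (i : I) (a : j ⟶ i), f ≫ π F j i a = g ≫ π F j i a) : f = g :=
  hom_ext' F j f g h

lemma E_map_π {j j' : I} (g : j ⟶ j') (i : I) (a : j' ⟶ i) :
    (E F).map g ≫ π F j' i a = π F j i (g ≫ a) :=
  lift'_π' F j' (fun i a => π' F j i (g ≫ a)) i a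

/-- components of the embedding -/
noncomputable def αapp (j : I) : F.obj j ⟶ (E F).obj j :=
  lift' F j (fun i a => F.map a ≫ Injective.ι (F.obj i))

lemma αapp_π (j : I) (i : I) (a : j ⟶ i) :
    αapp F j ≫ π F j i a = F.map a ≫ Injective.ι (F.obj i) :=
  lift'_π' F j _ i a

/-- the embedding of `F` in the diagram of injectives -/
noncomputable def α : F ⟶ E F where
  app j := αapp F j
  naturality {j j'} g := by
    apply hom_ext
    intro i a
    rw [Category.assoc, Category.assoc, E_map_π, αapp_π, αapp_π, ← Category.assoc, ← F.map_comp]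

instance injective_E (j : I) : Injective ((E F).obj j) := by
  change Injective (∏ᶜ (fam F j))
  infer_instance

instance mono_α_app (j : I) : Mono ((α F).app j) := by
  have h : αapp F j ≫ π F j j (𝟙 j) = Injective.ι (F.obj j) := by
    rw [αapp_π, F.map_id, Category.id_comp]
  exact mono_of_mono_fac h

instance mono_α : Mono (α F) := NatTrans.mono_of_mono_app _

end Groth.Agent.Helper3.DiagInj
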