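import Mathlib
import Groth.Prelude.Def_DeltaF
import Groth.Agent.Lib.Helper3.FiltAb
import Groth.Agent.Lib.Helper3.DiagInj

set_option autoImplicit false
universe w v₁ u₁
open CategoryTheory Limits DeltaF

namespace Groth.Agent.Helper3.ColimDelta

variable {𝒜 : Type u₁} [Category.{v₁} 𝒜] [Abelian 𝒜]
  {I : Type w} [SmallCategory I] [IsFiltered I] [HasColimitsOfShape I 𝒜]
  (T : CohDeltaFunctor 𝒜 AddCommGrpCat.{w} ℕ)

/-- elementwise form of "`T^p` commutes with the colimit of `F`" -/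
structure Elem (p : ℕ) (F : I ⥤ 𝒜) : Prop where
  surj : ∀ y : (T.F p).obj (colimit F), ∃ (i : I) (x : (T.F p).obj (F.obj i)),
    ((T.F p).map (colimit.ι F i)).hom x = y
  inj : ∀ (i : I) (x : (T.F p).obj (F.obj i)), ((T.F p).map (colimit.ι F i)).hom x = 0 →
    ∃ (j : I) (f : i ⟶ j), ((T.F p).map (F.map f)).hom x = 0

lemma elem_iff (p : ℕ) (F : I ⥤ 𝒜) : Elem T p F ↔ PreservesColimit F (T.F p) := by
  constructor
  · intro h
    exact preservesColimit_of_preserves_colimit_cocone (colimit.isColimit F)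
      (FiltAb.isColimit_of (F ⋙ T.F p) ((T.F p).mapCocone (colimit.cocone F)) h.surj h.inj).some
  · intro h
    have hc : IsColimit ((T.F p).mapCocone (colimit.cocone F)) :=
      isColimitOfPreserves (T.F p) (colimit.isColimit F)
    exact ⟨fun y => FiltAb.exists_rep (F ⋙ T.F p) hc y,
      fun i x hx => FiltAb.exists_map_eq_zero (F ⋙ T.F p) hc i x hx⟩

section Step

variable [EnoughInjectives 𝒜] [HasProducts.{w} 𝒜] [HasExactColimitsOfShape I 𝒜]

lemma map_comp_apply (H : 𝒜 ⥤ AddCommGrpCat.{w}) {X Y Z : 𝒜} (f : X ⟶ Y) (g : Y ⟶ Z) (x : H.obj X) :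
    (H.map (f ≫ g)).hom x = (H.map g).hom ((H.map f).hom x) := by
  rw [H.map_comp]
  rfl

variable (F : I ⥤ 𝒜)

/-- the short exact sequence of diagrams `0 → F → E → Q → 0` -/
noncomputable def S : ShortComplex (I ⥤ 𝒜) :=
  ShortComplex.mk (DiagInj.α F) (cokernel.π (DiagInj.α F)) (cokernel.condition _)

lemma hS : (S F).ShortExact :=
  { exact := ShortComplex.exact_cokernel _
    mono_f := DiagInj.mono_α F
    epi_g := inferInstanceAs (Epi (cokernel.π (DiagInj.α F))) }

/-- the cokernel diagram -/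
noncomputable abbrev Q : I ⥤ 𝒜 := cokernel (DiagInj.α F)

/-- evaluation at `i` -/
noncomputable abbrev Si (i : I) : ShortComplex 𝒜 := (S F).map ((evaluation I 𝒜).obj i)

lemma hSi (i : I) : (Si F i).ShortExact := (hS F).map_of_exact _

/-- the colimit sequence -/
noncomputable abbrev Sc : ShortComplex 𝒜 := (S F).map (colim : (I ⥤ 𝒜) ⥤ 𝒜)

lemma hSc : (Sc F).ShortExact := (hS F).map_of_exact _

/-- the map from the `i`-th sequence to the colimit sequence -/
noncomputable def φ (i : I) : Si F i ⟶ Sc F where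
  τ₁ := colimit.ι F i
  τ₂ := colimit.ι (DiagInj.E F) i
  τ₃ := colimit.ι (Q F) i
  comm₁₂ := ι_colimMap (DiagInj.α F) i
  comm₂₃ := ι_colimMap (cokernel.π (DiagInj.α F)) i

/-- transition maps -/
noncomputable def ψ {i j : I} (f : i ⟶ j) : Si F i ⟶ Si F j where
  τ₁ := F.map f
  τ₂ := (DiagInj.E F).map f
  τ₃ := (Q F).map f
  comm₁₂ := (DiagInj.α F).naturality f
  comm₂₃ := (cokernel.π (DiagInj.α F)).naturality f

lemma eq_zero_of_isZero {X : AddCommGrpCat.{w}} (h : IsZero X) (x : X) : x = 0 := by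
  have := AddCommGrpCat.subsingleton_of_isZero h
  exact Subsingleton.elim _ _

variable (p : ℕ)

theorem step_surj (hp : ∀ G : I ⥤ 𝒜, Elem T p G)
    (hb : ∀ E : I ⥤ 𝒜, (∀ i, Injective (E.obj i)) → IsZero ((T.F (p + 1)).obj (colimit E)))
    (y : (T.F (p + 1)).obj (colimit F)) :
    ∃ (i : I) (x : (T.F (p + 1)).obj (F.obj i)), ((T.F (p + 1)).map (colimit.ι F i)).hom x = y := by
  have ex1 := (ShortComplex.ab_exact_iff _).1 (T.exact₁ (Sc F) (hSc F) p (p + 1) rfl)
  obtain ⟨w, hw⟩ := ex1 y (eq_zero_of_isZero (hb (DiagInj.E F) (fun i => DiagInj.injective_E F i)) _)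
  obtain ⟨i, x, hx⟩ := (hp (Q F)).surj w
  refine ⟨i, (T.δ (Si F i) (hSi F i) p (p + 1) rfl).hom x, ?_⟩
  have hn := ConcreteCategory.congr_hom (T.δ_natural (hSi F i) (hSc F) (φ F i) p (p + 1) rfl) x
  refine Eq.trans ?_ hw
  refine Eq.trans hn.symm ?_
  exact congrArg (T.δ (Sc F) (hSc F) p (p + 1) rfl).hom hx

theorem step_inj (hp : ∀ G : I ⥤ 𝒜, Elem T p G)
    (hinj : ∀ X : 𝒜, Injective X → IsZero ((T.F (p + 1)).obj X))
    (i : I) (x : (T.F (p + 1)).obj (F.obj i))
    (hx : ((T.F (p + 1)).map (colimit.ι F i)).hom x = 0) :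
    ∃ (j : I) (f : i ⟶ j), ((T.F (p + 1)).map (F.map f)).hom x = 0 := by
  -- write x = δ_i w
  have ex1 := (ShortComplex.ab_exact_iff _).1 (T.exact₁ (Si F i) (hSi F i) p (p + 1) rfl)
  obtain ⟨w, hw⟩ := ex1 x (eq_zero_of_isZero (hinj _ (DiagInj.injective_E F i)) _)
  -- δ∞ (ι w) = 0
  have hn := ConcreteCategory.congr_hom (T.δ_natural (hSi F i) (hSc F) (φ F i) p (p + 1) rfl) w
  have h1 : (T.δ (Sc F) (hSc F) p (p + 1) rfl).hom (((T.F p).map (colimit.ι (Q F) i)).hom w) = 0 := by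
    refine hn.trans ?_
    refine Eq.trans ?_ hx
    exact congrArg ((T.F (p + 1)).map (colimit.ι F i)).hom hw
  have ex3 := (ShortComplex.ab_exact_iff _).1 (T.exact₃ (Sc F) (hSc F) p (p + 1) rfl)
  obtain ⟨z, hz⟩ := ex3 _ h1
  obtain ⟨j, zj, hzj⟩ := (hp (DiagInj.E F)).surj z
  let k := IsFiltered.max i j
  let f : i ⟶ k := IsFiltered.leftToMax i j
  let g : j ⟶ k := IsFiltered.rightToMax i j
  let πk : (DiagInj.E F).obj k ⟶ (Q F).obj k := (cokernel.π (DiagInj.α F)).app k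
  let w' : (T.F p).obj ((Q F).obj k) :=
    ((T.F p).map ((Q F).map f)).hom w - ((T.F p).map πk).hom (((T.F p).map ((DiagInj.E F).map g)).hom zj)
  have e : ((DiagInj.E F).map g ≫ πk) ≫ colimit.ι (Q F) k =
      colimit.ι (DiagInj.E F) j ≫ colimMap (cokernel.π (DiagInj.α F)) := by
    rw [ι_colimMap]
    change ((DiagInj.E F).map g ≫ (cokernel.π (DiagInj.α F)).app k) ≫ _ = _
    rw [(cokernel.π (DiagInj.α F)).naturality g, Category.assoc, colimit.w]
  have hw' : ((T.F p).map (colimit.ι (Q F) k)).hom w' = 0 := by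
    change ((T.F p).map (colimit.ι (Q F) k)).hom (_ - _) = 0
    rw [map_sub]
    have a1 : ((T.F p).map (colimit.ι (Q F) k)).hom (((T.F p).map ((Q F).map f)).hom w) =
        ((T.F p).map (colimit.ι (Q F) i)).hom w := by
      rw [← map_comp_apply, colimit.w]
    have a2 : ((T.F p).map (colimit.ι (Q F) k)).hom
        (((T.F p).map πk).hom (((T.F p).map ((DiagInj.E F).map g)).hom zj)) =
        ((T.F p).map (colimit.ι (Q F) i)).hom w := by
      have e' : (DiagInj.E F).map g ≫ πk ≫ colimit.ι (Q F) k =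
          colimit.ι (DiagInj.E F) j ≫ colimMap (cokernel.π (DiagInj.α F)) := by
        rw [← Category.assoc]
        exact e
      rw [← map_comp_apply, ← map_comp_apply, e', map_comp_apply, hzj]
      exact hz
    rw [a1, a2, sub_self]
  obtain ⟨l, h, hl⟩ := (hp (Q F)).inj k w' hw'
  refine ⟨l, f ≫ h, ?_⟩
  have hn2 := ConcreteCategory.congr_hom
    (T.δ_natural (hSi F i) (hSi F l) (ψ F (f ≫ h)) p (p + 1) rfl) w
  have hx2 : ((T.F (p + 1)).map (F.map (f ≫ h))).hom x =
      (T.δ (Si F l) (hSi F l) p (p + 1) rfl).hom (((T.F p).map ((Q F).map (f ≫ h))).hom w) := by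
    refine Eq.trans ?_ hn2.symm
    exact congrArg ((T.F (p + 1)).map (F.map (f ≫ h))).hom hw.symm
  rw [hx2]
  let πl : (DiagInj.E F).obj l ⟶ (Q F).obj l := (cokernel.π (DiagInj.α F)).app l
  have hq : ((T.F p).map ((Q F).map (f ≫ h))).hom w =
      ((T.F p).map πl).hom (((T.F p).map ((DiagInj.E F).map h)).hom
        (((T.F p).map ((DiagInj.E F).map g)).hom zj)) := by
    have b1 : ((T.F p).map ((Q F).map h)).hom w' =
        ((T.F p).map ((Q F).map h)).hom (((T.F p).map ((Q F).map f)).hom w) -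
        ((T.F p).map ((Q F).map h)).hom
          (((T.F p).map πk).hom (((T.F p).map ((DiagInj.E F).map g)).hom zj)) := map_sub _ _ _
    rw [hl] at b1
    have b2 := sub_eq_zero.1 b1.symm
    rw [(Q F).map_comp, map_comp_apply, b2, ← map_comp_apply, ← map_comp_apply]
    have e2 : πk ≫ (Q F).map h = (DiagInj.E F).map h ≫ πl :=
      ((cokernel.π (DiagInj.α F)).naturality h).symm
    rw [e2, map_comp_apply, map_comp_apply]
  rw [hq]
  exact ConcreteCategory.congr_hom (T.comp_δ (Si F l) (hSi F l) p (p + 1) rfl) _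

theorem main (h0 : ∀ G : I ⥤ 𝒜, PreservesColimit G (T.F 0))
    (hb : ∀ (q : ℕ) (E : I ⥤ 𝒜), (∀ i, Injective (E.obj i)) →
      IsZero ((T.F (q + 1)).obj (colimit E)))
    (hinj : ∀ (q : ℕ) (X : 𝒜), Injective X → IsZero ((T.F (q + 1)).obj X))
    (p : ℕ) (F : I ⥤ 𝒜) : PreservesColimit F (T.F p) := by
  rw [← elem_iff]
  induction p generalizing F with
  | zero => exact (elem_iff T 0 F).2 (h0 F)
  | succ p ih =>
    exact ⟨fun y => step_surj T F p ih (hb p) y, fun i x hx => step_inj T F p ih (hinj p) i x hx⟩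

end Step

end Groth.Agent.Helper3.ColimDelta
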