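import Mathlib
import Groth.Prelude.Def_DeltaF

set_option autoImplicit false
universe w v₁ u₁
open CategoryTheory Limits DeltaF Abelian

namespace Groth.Agent.Helper3.ExtDelta

variable {𝒜 : Type u₁} [Category.{v₁} 𝒜] [Abelian 𝒜] [HasExt.{w} 𝒜] (Z : 𝒜)

section Aux
variable {X : 𝒜} {S : ShortComplex 𝒜} (hS : S.ShortExact) {n₀ n₁ : ℕ} (h : n₀ + 1 = n₁)

lemma comp_g_comp_extClass (x : Ext X S.X₂ n₀) :
    (x.comp (Ext.mk₀ S.g) (add_zero n₀)).comp hS.extClass h = 0 := by
  rw [Ext.comp_assoc_of_second_deg_zero, ShortComplex.ShortExact.comp_extClass, Ext.comp_zero]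

lemma comp_extClass_comp_f (x : Ext X S.X₃ n₀) :
    (x.comp hS.extClass h).comp (Ext.mk₀ S.f) (add_zero n₁) = 0 := by
  rw [Ext.comp_assoc_of_third_deg_zero, ShortComplex.ShortExact.extClass_comp, Ext.comp_zero]

end Aux

/-- `Ext^•(Z, -)` as a cohomological δ-functor -/
noncomputable def extDelta : CohDeltaFunctor 𝒜 AddCommGrpCat.{w} ℕ where
  F n := extFunctorObj Z n
  additive n := inferInstance
  δ S hS n₀ n₁ h := AddCommGrpCat.ofHom (hS.extClass.postcomp Z h)
  δ_natural {S S'} hS hS' φ n₀ n₁ h := by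
    ext x
    have e := ShortComplex.ShortExact.extClass_naturality hS hS' φ
    change (x.comp (Ext.mk₀ _) (add_zero n₀)).comp hS'.extClass h =
      (x.comp hS.extClass h).comp (Ext.mk₀ _) (add_zero n₁)
    rw [Ext.comp_assoc_of_second_deg_zero, Ext.comp_assoc_of_third_deg_zero]
    exact congrArg (fun z => x.comp z h) e.symm
  exact₂ S hS n := Ext.covariant_sequence_exact₂' _ hS n
  comp_δ S hS n₀ n₁ h := by
    ext x
    exact comp_g_comp_extClass hS h x
  exact₃ S hS n₀ n₁ h := Ext.covariant_sequence_exact₃' _ hS n₀ n₁ h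
  δ_comp S hS n₀ n₁ h := by
    ext x
    exact comp_extClass_comp_f hS h x
  exact₁ S hS n₀ n₁ h := Ext.covariant_sequence_exact₁' _ hS n₀ n₁ h

lemma extDelta_F (n : ℕ) : (extDelta Z).F n = extFunctorObj Z n := rfl

lemma isZero_of_injective (X : 𝒜) [Injective X] (q : ℕ) : IsZero (((extDelta Z).F (q + 1)).obj X) := by
  have : Subsingleton (Ext Z X (q + 1)) :=
    ⟨fun a b => (Ext.eq_zero_of_injective a).trans (Ext.eq_zero_of_injective b).symm⟩
  exact @AddCommGrpCat.isZero_of_subsingleton _ this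

end Groth.Agent.Helper3.ExtDelta
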