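import Mathlib
import Groth.Prelude.Def_LambdaSp

open PowerSeries Finset

namespace Groth.Agent.Helper3.LambdaLib

universe u

open LambdaRing

section Basic

variable {K : Type u} [CommRing K] [LambdaRing.LambdaOps K]

theorem coeff_lamSeries (n : ℕ) (x : K) : coeff n (lamSeries x) = LambdaOps.lam n x := by
  simp [lamSeries]

theorem constantCoeff_lamSeries (x : K) : constantCoeff (lamSeries x) = 1 := by
  rw [← coeff_zero_eq_constantCoeff_apply, coeff_lamSeries, LambdaOps.lam_zero]

theorem lamSeries_add (x y : K) : lamSeries (x + y) = lamSeries x * lamSeries y := by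
  ext n
  rw [coeff_lamSeries, coeff_mul, LambdaOps.lam_add,
    Finset.Nat.sum_antidiagonal_eq_sum_range_succ_mk]
  simp [coeff_lamSeries]

theorem isUnit_lamSeries (x : K) : IsUnit (lamSeries x) :=
  isUnit_iff_constantCoeff.2 (by rw [constantCoeff_lamSeries]; exact isUnit_one)

theorem lamSeries_zero : lamSeries (0 : K) = 1 := by
  have h := lamSeries_add (0 : K) 0
  rw [add_zero] at h
  have hu := isUnit_lamSeries (0 : K)
  exact (hu.mul_left_cancel (by rw [mul_one]; exact h)).symm

theorem lamSeries_neg_mul (x : K) : lamSeries (-x) * lamSeries x = 1 := by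
  rw [← lamSeries_add, neg_add_cancel, lamSeries_zero]

theorem lamSeries_sub_mul (x y : K) : lamSeries (x - y) * lamSeries y = lamSeries x := by
  rw [← lamSeries_add, sub_add_cancel]

theorem lamSeries_one (h1 : ∀ k : ℕ, 2 ≤ k → LambdaOps.lam k (1 : K) = 0) :
    lamSeries (1 : K) = 1 + X := by
  ext n
  rw [coeff_lamSeries]
  rcases n with _ | _ | n
  · simp [LambdaOps.lam_zero]
  · simp [LambdaOps.lam_one]
  · rw [h1 (n + 2) (by omega)]
    simp [coeff_one, coeff_X]

theorem lamSeries_natCast (h1 : ∀ k : ℕ, 2 ≤ k → LambdaOps.lam k (1 : K) = 0) (n : ℕ) :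
    lamSeries (n : K) = (1 + X) ^ n := by
  induction n with
  | zero => simp [lamSeries_zero]
  | succ n ih => rw [Nat.cast_succ, lamSeries_add, ih, lamSeries_one h1, pow_succ]

/-- the alternating series `1 - X + X^2 - ...` -/
noncomputable def altSeries (R : Type*) [CommRing R] : PowerSeries R :=
  PowerSeries.mk fun j => (-1 : R) ^ j

theorem altSeries_mul (R : Type*) [CommRing R] : altSeries R * (1 + X) = 1 := by
  ext n
  rw [mul_add, mul_one, map_add]
  rcases n with _ | n
  · simp [altSeries]
  · rw [coeff_succ_mul_X]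
    simp [altSeries, coeff_one, pow_succ]

theorem coeff_one_add_X_pow (R : Type*) [CommRing R] (m j : ℕ) :
    coeff j ((1 + X : PowerSeries R) ^ m) = (m.choose j : R) := by
  have : ((1 + X : PowerSeries R) ^ m) = (((1 + Polynomial.X : Polynomial R) ^ m : Polynomial R) :
      PowerSeries R) := by
    simp
  rw [this, Polynomial.coeff_coe, Polynomial.coeff_one_add_X_pow]

theorem lam_sub_one_eq (h1 : ∀ k : ℕ, 2 ≤ k → LambdaOps.lam k (1 : K) = 0) (n : ℕ) (y : K) :
    LambdaOps.lam n (y - 1) =
      (-1 : K) ^ n * ∑ i ∈ range (n + 1), (-1 : K) ^ i * LambdaOps.lam i y := by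
  have h : lamSeries (y - 1) = lamSeries y * altSeries K := by
    have h2 := lamSeries_sub_mul y 1
    rw [lamSeries_one h1] at h2
    calc lamSeries (y - 1) = lamSeries (y - 1) * ((1 + X) * altSeries K) := by
          rw [mul_comm (1 + X), altSeries_mul, mul_one]
      _ = lamSeries y * altSeries K := by rw [← mul_assoc, h2]
  rw [← coeff_lamSeries, h, coeff_mul, Finset.Nat.sum_antidiagonal_eq_sum_range_succ_mk,
    Finset.mul_sum]
  refine Finset.sum_congr rfl fun i hi => ?_
  have hi' : i ≤ n := Nat.lt_succ_iff.1 (Finset.mem_range.1 hi)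
  rw [coeff_lamSeries, altSeries, coeff_mk]
  have : (-1 : K) ^ (n - i) = (-1) ^ n * (-1) ^ i := by
    have h3 : (-1 : K) ^ n = (-1) ^ (n - i) * (-1) ^ i := by
      rw [← pow_add, Nat.sub_add_cancel hi']
    rw [h3, mul_assoc, ← pow_add, ← two_mul, pow_mul]
    simp
  rw [this]
  ring

theorem gamma_eq_lam (h1 : ∀ k : ℕ, 2 ≤ k → LambdaOps.lam k (1 : K) = 0) (n : ℕ) (x : K) :
    gamma n x = LambdaOps.lam n (x + (n : K) - 1) := by
  rcases n with _ | m
  · simp [gamma, LambdaOps.lam_zero]
  · have hx : x + ((m + 1 : ℕ) : K) - 1 = x + (m : K) := by push_cast; ring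
    rw [hx, ← coeff_lamSeries, lamSeries_add, lamSeries_natCast h1, coeff_mul,
      Finset.Nat.sum_antidiagonal_eq_sum_range_succ_mk]
    rw [gamma, if_neg (Nat.succ_ne_zero m)]
    refine Finset.sum_congr rfl fun i hi => ?_
    have hi' : i ≤ m + 1 := Nat.lt_succ_iff.1 (Finset.mem_range.1 hi)
    rw [coeff_lamSeries, coeff_one_add_X_pow]
    rcases i with _ | i
    · simp
    · rw [if_neg (Nat.succ_ne_zero i)]
      have : m + 1 - (i + 1) = m - i := by omega
      rw [this, Nat.add_sub_cancel, Nat.add_sub_cancel, Nat.choose_symm (by omega), mul_comm]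

end Basic

end Groth.Agent.Helper3.LambdaLib
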