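import Mathlib
import Groth.Prelude.Def_CechEdge
import Groth.Agent.Lib.Helper3.CechDelta

set_option autoImplicit false
universe u
open CategoryTheory Limits Opposite

namespace Groth.Agent.Helper3.CechEdgeA

open CechLow DeltaF CechDelta

variable {C : Type u} [SmallCategory C] [HasPullbacks C] {U : C} {ι : Type u} (Y : ι → Over U)

/-- components of the restriction cochain -/
lemma proj_toCech₀ (P : Cᵒᵖ ⥤ AddCommGrpCat.{u}) (b : Fin 1 → ι) (s : P.obj (op U)) :
    (proj Y P 0 b).hom ((CechEdge.toCech₀ P Y).hom s) = (P.map (∏ᶜ fun k => Y (b k)).hom.op).hom s := by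
  have h : CechEdge.toCech₀ P Y ≫ proj Y P 0 b = P.map (∏ᶜ fun k => Y (b k)).hom.op :=
    Pi.lift_π _ b
  exact ConcreteCategory.congr_hom h s

lemma toCech₀_naturality {P Q : Cᵒᵖ ⥤ AddCommGrpCat.{u}} (φ : P ⟶ Q) :
    CechEdge.toCech₀ P Y ≫ (Kmap Y φ).f 0 = φ.app (op U) ≫ CechEdge.toCech₀ Q Y := by
  ext s
  apply CechLow.ext Y Q 0
  intro b
  change (proj Y Q 0 b).hom (((Kmap Y φ).f 0).hom ((CechEdge.toCech₀ P Y).hom s)) =
    (proj Y Q 0 b).hom ((CechEdge.toCech₀ Q Y).hom ((φ.app (op U)).hom s))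
  rw [Kmap_proj_apply, proj_toCech₀, proj_toCech₀]
  exact ConcreteCategory.congr_hom (φ.naturality (∏ᶜ fun k => Y (b k)).hom.op) s

lemma toCycles_naturality {P Q : Cᵒᵖ ⥤ AddCommGrpCat.{u}} (φ : P ⟶ Q) :
    CechEdge.toCycles P Y ≫ HomologicalComplex.cyclesMap (Kmap Y φ) 0 =
      φ.app (op U) ≫ CechEdge.toCycles Q Y := by
  rw [← cancel_mono ((CechEdge.cx Q Y).iCycles 0), Category.assoc, Category.assoc,
    HomologicalComplex.cyclesMap_i, CechEdge.toCycles_i, ← Category.assoc, CechEdge.toCycles_i]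
  exact toCech₀_naturality Y φ

/-- naturality of `toCech` in the presheaf -/
lemma toCech_naturality {P Q : Cᵒᵖ ⥤ AddCommGrpCat.{u}} (φ : P ⟶ Q) (s : P.obj (op U)) :
    CechEdge.cechHMap Y φ 0 (CechEdge.toCech Y P s) = CechEdge.toCech Y Q ((φ.app (op U)).hom s) := by
  have h : (CechEdge.toCycles P Y ≫ (CechEdge.cx P Y).homologyπ 0) ≫
      HomologicalComplex.homologyMap (Kmap Y φ) 0 =
      φ.app (op U) ≫ (CechEdge.toCycles Q Y ≫ (CechEdge.cx Q Y).homologyπ 0) := by
    rw [Category.assoc, HomologicalComplex.homologyπ_naturality, ← Category.assoc,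
      toCycles_naturality, Category.assoc]
  exact ConcreteCategory.congr_hom h s

section Sheaf

variable (J : GrothendieckTopology C) (F : Sheaf J AddCommGrpCat.{u})
  (hY : Sieve.ofArrows (fun i => (Y i).left) (fun i => (Y i).hom) ∈ J U)

include hY in
lemma toCech_injective : Function.Injective (CechEdge.toCech Y F.obj) := by
  rw [injective_iff_map_eq_zero]
  intro s hs
  have h1 : ((CechEdge.cx F.obj Y).homologyπ 0).hom ((CechEdge.toCycles F.obj Y).hom s) = 0 := hs
  have hinj : Function.Injective ((CechEdge.cx F.obj Y).homologyπ 0).hom :=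
    (ConcreteCategory.bijective_of_isIso ((CechEdge.cx F.obj Y).homologyπ 0)).1
  have h2 : (CechEdge.toCycles F.obj Y).hom s = 0 := hinj (h1.trans (map_zero _).symm)
  have h3 : (CechEdge.toCech₀ F.obj Y).hom s = 0 := by
    have := ConcreteCategory.congr_hom (CechEdge.toCycles_i F.obj Y) s
    rw [← this]
    change ((CechEdge.cx F.obj Y).iCycles 0).hom ((CechEdge.toCycles F.obj Y).hom s) = 0
    rw [h2, map_zero]
  apply aug_injective Y J F hY
  intro b
  rw [← proj_toCech₀, ← proj_toCech₀, h3, map_zero, map_zero, map_zero]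

include hY in
lemma toCech_surjective : Function.Surjective (CechEdge.toCech Y F.obj) := by
  intro x
  have hsurj : Function.Surjective ((CechEdge.cx F.obj Y).homologyπ 0).hom :=
    (ConcreteCategory.bijective_of_isIso ((CechEdge.cx F.obj Y).homologyπ 0)).2
  obtain ⟨z, rfl⟩ := hsurj x
  have hd : ((K Y F.obj).d 0 1).hom (((CechEdge.cx F.obj Y).iCycles 0).hom z) = 0 :=
    ConcreteCategory.congr_hom ((CechEdge.cx F.obj Y).iCycles_d 0 1) z
  obtain ⟨τ, hτ⟩ := glue Y J F hY _ hd
  refine ⟨τ, ?_⟩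
  have hz : (CechEdge.toCycles F.obj Y).hom τ = z := by
    have hm : Function.Injective ((CechEdge.cx F.obj Y).iCycles 0).hom :=
      (AddCommGrpCat.mono_iff_injective _).1 inferInstance
    apply hm
    have := ConcreteCategory.congr_hom (CechEdge.toCycles_i F.obj Y) τ
    refine this.trans ?_
    apply CechLow.ext Y F.obj 0
    intro b
    rw [proj_toCech₀, hτ]
  change ((CechEdge.cx F.obj Y).homologyπ 0).hom ((CechEdge.toCycles F.obj Y).hom τ) = _
  rw [hz]

/-- for a sheaf and a covering family, sections are Čech 0-classes -/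
noncomputable def toCechEquiv : F.obj.obj (op U) ≃+ CohCx.cechH F.obj Y 0 :=
  AddEquiv.ofBijective (CechEdge.toCech Y F.obj) ⟨toCech_injective Y J F hY, toCech_surjective Y J F hY⟩

lemma toCechEquiv_apply (s : F.obj.obj (op U)) :
    toCechEquiv Y J F hY s = CechEdge.toCech Y F.obj s := rfl

end Sheaf

section H0

variable (J : GrothendieckTopology C) (U)

open Abelian in
lemma sectH0_apply (F : Sheaf J AddCommGrpCat.{u}) (s : F.obj.obj (op U)) :
    CechEdge.sectH0 J U F s = Ext.mk₀ (CohFree.ofSect J U F s) := rfl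

lemma ofSect_comp {F G : Sheaf J AddCommGrpCat.{u}} (ψ : F ⟶ G) (s : F.obj.obj (op U)) :
    CohFree.ofSect J U F s ≫ ψ = CohFree.ofSect J U G ((ψ.hom.app (op U)).hom s) := by
  apply (CohFree.homEquivSect J U G).injective
  rw [CohFree.homEquivSect_apply, CohFree.homEquivSect_apply, CohFree.evalGen_ofSect]
  change (ψ.hom.app (op U)).hom (CohFree.evalGen J U F (CohFree.ofSect J U F s)) = _
  rw [CohFree.evalGen_ofSect]

open Abelian in
/-- naturality of `sectH0` -/
lemma sectH0_naturality {F G : Sheaf J AddCommGrpCat.{u}} (ψ : F ⟶ G) (s : F.obj.obj (op U)) :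
    CechEdge.HUmap ψ 0 U (CechEdge.sectH0 J U F s) = CechEdge.sectH0 J U G ((ψ.hom.app (op U)).hom s) := by
  rw [sectH0_apply, sectH0_apply, ← ofSect_comp]
  change (Ext.mk₀ (CohFree.ofSect J U F s)).comp (Ext.mk₀ ψ) (add_zero 0) = _
  rw [Ext.mk₀_comp_mk₀]

lemma HUmap_bijective_of_isIso {F G : Sheaf J AddCommGrpCat.{u}} (ψ : F ⟶ G) [IsIso ψ] (p : ℕ) :
    Function.Bijective (CechEdge.HUmap ψ p U) := by
  have : IsIso ((Abelian.extFunctorObj (CohCx.freeSheaf J U) p).map ψ) := inferInstance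
  exact ConcreteCategory.bijective_of_isIso ((Abelian.extFunctorObj (CohCx.freeSheaf J U) p).map ψ)

instance isIso_shfMap_toSheafify (P : Cᵒᵖ ⥤ AddCommGrpCat.{u}) :
    IsIso (CechEdge.shfMap J (toSheafify J P)) := by
  have h := (sheafificationAdjunction J AddCommGrpCat.{u}).left_triangle_components P
  have : IsIso ((sheafificationAdjunction J AddCommGrpCat.{u}).counit.app
      ((presheafToSheaf J AddCommGrpCat.{u}).obj P)) := inferInstance
  exact IsIso.of_isIso_fac_right h

end H0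

lemma cechHMap_comp {P Q R : Cᵒᵖ ⥤ AddCommGrpCat.{u}} (φ : P ⟶ Q) (ψ : Q ⟶ R) (p : ℕ)
    (x : CohCx.cechH P Y p) :
    CechEdge.cechHMap Y (φ ≫ ψ) p x = CechEdge.cechHMap Y ψ p (CechEdge.cechHMap Y φ p x) := by
  have h : HomologicalComplex.homologyMap ((CechEdge.cxFunctor Y).map (φ ≫ ψ)) p =
      HomologicalComplex.homologyMap ((CechEdge.cxFunctor Y).map φ) p ≫
        HomologicalComplex.homologyMap ((CechEdge.cxFunctor Y).map ψ) p := by
    rw [Functor.map_comp, HomologicalComplex.homologyMap_comp]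
  exact ConcreteCategory.congr_hom h x

section T0

variable (J : GrothendieckTopology C)
  (hY : Sieve.ofArrows (fun i => (Y i).left) (fun i => (Y i).hom) ∈ J U)

/-- the degree-zero comparison map `Ȟ⁰(Y, P) → H⁰(U, P^#)` -/
noncomputable def t0App (P : Cᵒᵖ ⥤ AddCommGrpCat.{u}) :
    CohCx.cechH P Y 0 →+ CohSite.HU (CechEdge.shf J P) 0 U :=
  ((CechEdge.sectH0 J U (CechEdge.shf J P)).toAddMonoidHom.comp
    (toCechEquiv Y J (CechEdge.shf J P) hY).symm.toAddMonoidHom).comp
    (CechEdge.cechHMap Y (toSheafify J P) 0)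

lemma t0App_apply (P : Cᵒᵖ ⥤ AddCommGrpCat.{u}) (x : CohCx.cechH P Y 0) :
    t0App Y J hY P x = CechEdge.sectH0 J U (CechEdge.shf J P)
      ((toCechEquiv Y J (CechEdge.shf J P) hY).symm (CechEdge.cechHMap Y (toSheafify J P) 0 x)) := rfl

lemma t0App_toCech (P : Cᵒᵖ ⥤ AddCommGrpCat.{u}) (s : P.obj (op U)) :
    t0App Y J hY P (CechEdge.toCech Y P s) =
      CechEdge.sectH0 J U (CechEdge.shf J P) (((toSheafify J P).app (op U)).hom s) := by
  rw [t0App_apply, toCech_naturality, ← toCechEquiv_apply Y J (CechEdge.shf J P) hY,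
    AddEquiv.symm_apply_apply]

lemma t0App_naturality {P P' : Cᵒᵖ ⥤ AddCommGrpCat.{u}} (φ : P ⟶ P') (x : CohCx.cechH P Y 0) :
    t0App Y J hY P' (CechEdge.cechHMap Y φ 0 x) =
      CechEdge.HUmap (CechEdge.shfMap J φ) 0 U (t0App Y J hY P x) := by
  rw [t0App_apply, t0App_apply, sectH0_naturality, ← cechHMap_comp]
  have e : φ ≫ toSheafify J P' = toSheafify J P ≫ (CechEdge.shfMap J φ).hom :=
    toSheafify_naturality J φ
  rw [e, cechHMap_comp]
  obtain ⟨s, hs⟩ := (toCechEquiv Y J (CechEdge.shf J P) hY).surjective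
    (CechEdge.cechHMap Y (toSheafify J P) 0 x)
  rw [← hs, AddEquiv.symm_apply_apply, toCechEquiv_apply, toCech_naturality,
    ← toCechEquiv_apply Y J (CechEdge.shf J P') hY, AddEquiv.symm_apply_apply]

/-- the degree-zero comparison as a natural transformation -/
noncomputable def t0 : (cechDelta Y).F 0 ⟶ (shDelta U J).F 0 where
  app P := AddCommGrpCat.ofHom (t0App Y J hY P)
  naturality {P P'} φ := by
    ext x
    exact t0App_naturality Y J hY φ x

end T0

section Edge

variable (J : GrothendieckTopology C)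

/-- the morphism of δ-functors extending the degree-zero comparison -/
noncomputable def τ (hY : Sieve.ofArrows (fun i => (Y i).left) (fun i => (Y i).hom) ∈ J U) :
    cechDelta Y ⟶ shDelta U J :=
  DeltaEff.extend (cechDelta Y) (shDelta U J) (cechDelta_effaceable Y) (t0 Y J hY)

/-- the edge family -/
noncomputable def edge (hY : Sieve.ofArrows (fun i => (Y i).left) (fun i => (Y i).hom) ∈ J U)
    (P : Cᵒᵖ ⥤ AddCommGrpCat.{u}) (p : ℕ) :
    CohCx.cechH P Y p →+ CohSite.HU (CechEdge.shf J P) p U :=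
  (((τ Y J hY).app p).app P).hom

theorem isEdge_edge (hY : Sieve.ofArrows (fun i => (Y i).left) (fun i => (Y i).hom) ∈ J U) :
    CechEdge.IsEdge J Y (edge Y J hY) where
  cover := hY
  zero P s := t0App_toCech Y J hY P s
  natural P Q φ p x :=
    ConcreteCategory.congr_hom (((τ Y J hY).app p).naturality φ) x
  delta S hS hC p x :=
    ConcreteCategory.congr_hom ((τ Y J hY).comm S hS p (p + 1) rfl) x

/-- an edge family as a morphism of δ-functors -/
noncomputable def ofEdge
    (e : ∀ (P : Cᵒᵖ ⥤ AddCommGrpCat.{u}) (p : ℕ), CohCx.cechH P Y p →+ CohSite.HU (CechEdge.shf J P) p U)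
    (he : CechEdge.IsEdge J Y e) : cechDelta Y ⟶ shDelta U J where
  app p :=
    { app := fun P => AddCommGrpCat.ofHom (e P p)
      naturality := fun {P Q} φ => by
        ext x
        exact he.natural P Q φ p x }
  comm S hS n₀ n₁ h := by
    subst h
    ext x
    exact he.delta S hS (cx_shortExact Y S hS) n₀ x

/-- the degree-zero part of an edge family is determined -/
lemma edge_zero_unique
    (e e' : ∀ (P : Cᵒᵖ ⥤ AddCommGrpCat.{u}) (p : ℕ), CohCx.cechH P Y p →+ CohSite.HU (CechEdge.shf J P) p U)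
    (he : CechEdge.IsEdge J Y e) (he' : CechEdge.IsEdge J Y e') (P : Cᵒᵖ ⥤ AddCommGrpCat.{u})
    (x : CohCx.cechH P Y 0) : e P 0 x = e' P 0 x := by
  apply (HUmap_bijective_of_isIso U J (CechEdge.shfMap J (toSheafify J P)) 0).1
  rw [← he.natural, ← he'.natural]
  obtain ⟨s, hs⟩ := toCech_surjective Y J (CechEdge.shf J P) he.cover
    (CechEdge.cechHMap Y (toSheafify J P) 0 x)
  rw [← hs]
  exact (he.zero _ s).trans (he'.zero _ s).symm

theorem edge_unique
    (e e' : ∀ (P : Cᵒᵖ ⥤ AddCommGrpCat.{u}) (p : ℕ), CohCx.cechH P Y p →+ CohSite.HU (CechEdge.shf J P) p U)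
    (he : CechEdge.IsEdge J Y e) (he' : CechEdge.IsEdge J Y e') : e = e' := by
  funext P p
  have h0 : (ofEdge Y J e he).app 0 = (ofEdge Y J e' he').app 0 := by
    ext P x
    exact edge_zero_unique Y J e e' he he' P x
  have h := DeltaEff.app_eq_of_app_zero_eq (cechDelta Y) (shDelta U J) (cechDelta_effaceable Y)
    (ofEdge Y J e he) (ofEdge Y J e' he') h0 p
  ext x
  exact ConcreteCategory.congr_hom (NatTrans.congr_app h P) x

end Edge

end Groth.Agent.Helper3.CechEdgeA
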