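import Mathlib
import Groth.Prelude.Def_DeltaF
import Groth.Agent.Lib.Helper3.DeltaEff

set_option autoImplicit false
open CategoryTheory CategoryTheory.Limits

universe w v u

namespace Groth.Agent.Helper3.DeltaElt

open DeltaF Groth.Agent.Helper3.DeltaEff

variable {C : Type u} [Category.{v} C] [Abelian C]
variable (T T' : CohDeltaFunctor C AddCommGrpCat.{w} ℕ) (φ : T ⟶ T')

/-- naturality, elementwise -/
lemma nat_apply (q : ℕ) {A B : C} (f : A ⟶ B) (x : (T.F q).obj A) :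
    (φ.app q).app B ((T.F q).map f x) = (T'.F q).map f ((φ.app q).app A x) := by
  rw [← ConcreteCategory.comp_apply, ← ConcreteCategory.comp_apply, (φ.app q).naturality]

/-- compatibility with δ, elementwise -/
lemma comm_apply (S : ShortComplex C) (hS : S.ShortExact) (q : ℕ) (x : (T.F q).obj S.X₃) :
    (φ.app (q + 1)).app S.X₁ (T.δ S hS q (q + 1) rfl x) =
      T'.δ S hS q (q + 1) rfl ((φ.app q).app S.X₃ x) := by
  rw [← ConcreteCategory.comp_apply, ← ConcreteCategory.comp_apply, φ.comm S hS q (q + 1) rfl]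

lemma exact₁_apply (S : ShortComplex C) (hS : S.ShortExact) (q : ℕ) (x : (T.F (q + 1)).obj S.X₁)
    (hx : (T.F (q + 1)).map S.f x = 0) : ∃ y, T.δ S hS q (q + 1) rfl y = x :=
  (ShortComplex.ab_exact_iff _).1 (T.exact₁ S hS q (q + 1) rfl) x hx

lemma exact₂_apply (S : ShortComplex C) (hS : S.ShortExact) (q : ℕ) (x : (T.F q).obj S.X₂)
    (hx : (T.F q).map S.g x = 0) : ∃ y, (T.F q).map S.f y = x :=
  (ShortComplex.ab_exact_iff _).1 (T.exact₂ S hS q) x hx

lemma exact₃_apply (S : ShortComplex C) (hS : S.ShortExact) (q : ℕ) (x : (T.F q).obj S.X₃)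
    (hx : T.δ S hS q (q + 1) rfl x = 0) : ∃ y, (T.F q).map S.g y = x :=
  (ShortComplex.ab_exact_iff _).1 (T.exact₃ S hS q (q + 1) rfl) x hx

lemma comp_δ_apply (S : ShortComplex C) (hS : S.ShortExact) (q : ℕ) (x : (T.F q).obj S.X₂) :
    T.δ S hS q (q + 1) rfl ((T.F q).map S.g x) = 0 := by
  rw [← ConcreteCategory.comp_apply, T.comp_δ]; rfl

lemma map_comp_apply (q : ℕ) {A B D : C} (f : A ⟶ B) (g : B ⟶ D) (x : (T.F q).obj A) :
    (T.F q).map g ((T.F q).map f x) = (T.F q).map (f ≫ g) x := by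
  rw [Functor.map_comp, ConcreteCategory.comp_apply]

lemma map_zero_apply (q : ℕ) {A B : C} (x : (T.F q).obj A) :
    (T.F q).map (0 : A ⟶ B) x = 0 := by
  rw [Functor.map_zero]; rfl

/-- injectivity criterion -/
lemma injective_iff {X Y : AddCommGrpCat.{w}} (f : X ⟶ Y) :
    Function.Injective f ↔ ∀ x, f x = 0 → x = 0 :=
  injective_iff_map_eq_zero f.hom

def Eff : Prop := ∀ (q : ℕ) (A : C) (α : (T.F (q + 1)).obj A),
  ∃ (M : C) (u : A ⟶ M), Mono u ∧ (T.F (q + 1)).map u α = 0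

include φ in
/-- (L1) injectivity in the next degree -/
lemma injective_succ (hT : Eff T) (q : ℕ)
    (hs : ∀ Z, Function.Surjective ((φ.app q).app Z))
    (hi : ∀ Z, Function.Injective ((φ.app q).app Z)) (A : C) :
    Function.Injective ((φ.app (q + 1)).app A) := by
  rw [injective_iff]
  intro α hα
  obtain ⟨M, u, hu, h0⟩ := hT q A α
  have hS := sc_shortExact u
  obtain ⟨β, hβ⟩ := exact₁_apply T (sc u) hS q α h0
  have h1 : T'.δ (sc u) hS q (q + 1) rfl ((φ.app q).app _ β) = 0 := by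
    rw [← comm_apply T T' φ (sc u) hS q β, hβ, hα]
  obtain ⟨γ', hγ'⟩ := exact₃_apply T' (sc u) hS q _ h1
  obtain ⟨γ, rfl⟩ := hs M γ'
  have h2 : (T.F q).map (sc u).g γ = β := by
    apply hi
    rw [nat_apply T T' φ q, hγ']
  rw [← hβ, ← h2, comp_δ_apply]

include φ in
/-- (L2) effaced elements of `T'` are hit -/
lemma mem_range_succ (q : ℕ) (hs : ∀ Z, Function.Surjective ((φ.app q).app Z)) (A : C)
    (α' : (T'.F (q + 1)).obj A)
    (h : ∃ (M : C) (u : A ⟶ M), Mono u ∧ (T'.F (q + 1)).map u α' = 0) :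
    ∃ α, (φ.app (q + 1)).app A α = α' := by
  obtain ⟨M, u, hu, h0⟩ := h
  have hS := sc_shortExact u
  obtain ⟨β', hβ'⟩ := exact₁_apply T' (sc u) hS q α' h0
  obtain ⟨β, rfl⟩ := hs _ β'
  exact ⟨T.δ (sc u) hS q (q + 1) rfl β, by rw [comm_apply T T' φ (sc u) hS q β, hβ']⟩


lemma isIso_iff_bijective {X Y : AddCommGrpCat.{w}} (f : X ⟶ Y) :
    IsIso f ↔ Function.Bijective f :=
  ConcreteCategory.isIso_iff_bijective f

include φ in
/-- (iii) ⇒ (i) -/
lemma bijective_of_eff (hT : Eff T) (hT' : Eff T')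
    (h0 : ∀ A, Function.Bijective ((φ.app 0).app A)) :
    ∀ (q : ℕ) (A : C), Function.Bijective ((φ.app q).app A) := by
  intro q
  induction q with
  | zero => exact h0
  | succ q ih =>
    intro A
    refine ⟨injective_succ T T' φ hT q (fun Z => (ih Z).2) (fun Z => (ih Z).1) A, fun α' => ?_⟩
    exact mem_range_succ T T' φ q (fun Z => (ih Z).2) A α' (hT' q A α')

include φ in
/-- (i) ⇒ effaceability of `T'` -/
lemma eff_of_bijective (hT : Eff T)
    (h : ∀ (q : ℕ) (A : C), Function.Bijective ((φ.app q).app A)) : Eff T' := by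
  intro q A α'
  obtain ⟨α, rfl⟩ := (h (q + 1) A).2 α'
  obtain ⟨M, u, hu, h0⟩ := hT q A α
  refine ⟨M, u, hu, ?_⟩
  rw [← nat_apply T T' φ (q + 1), h0, map_zero]

include φ in
/-- (ii) ⇒ (i) -/
lemma bijective_of_class (hT0 : T.ZeroMono) (hT'0 : T'.ZeroMono) (hT : Eff T)
    (E : ObjectProperty C) (hE : ∀ A : C, ∃ (M : C) (i : A ⟶ M), Mono i ∧ E M)
    (h0 : ∀ M, E M → Function.Bijective ((φ.app 0).app M))
    (hs : ∀ (q : ℕ) (M : C), E M → Function.Surjective ((φ.app (q + 1)).app M)) :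
    ∀ (q : ℕ) (A : C), Function.Bijective ((φ.app q).app A) := by
  -- degree zero: injectivity for all objects
  have inj0 : ∀ A, Function.Injective ((φ.app 0).app A) := by
    intro A
    rw [injective_iff]
    intro α hα
    obtain ⟨M, i, hi, hM⟩ := hE A
    have hS := sc_shortExact i
    have m1 : Function.Injective ((T.F 0).map i) :=
      (AddCommGrpCat.mono_iff_injective _).1 (hT0 (sc i) hS)
    apply m1
    apply (h0 M hM).1
    rw [nat_apply T T' φ 0, hα, map_zero, map_zero, map_zero]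
  intro q
  induction q with
  | zero =>
    intro A
    refine ⟨inj0 A, fun α' => ?_⟩
    obtain ⟨M, i, hi, hM⟩ := hE A
    have hS := sc_shortExact i
    obtain ⟨μ, hμ⟩ := (h0 M hM).2 ((T'.F 0).map i α')
    have h1 : (T.F 0).map (sc i).g μ = 0 := by
      apply inj0
      rw [nat_apply T T' φ 0, hμ, map_zero]
      change (T'.F 0).map (cokernel.π i) ((T'.F 0).map i α') = 0
      rw [map_comp_apply, cokernel.condition, map_zero_apply]
    obtain ⟨α, hα⟩ := exact₂_apply T (sc i) hS 0 μ h1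
    refine ⟨α, ?_⟩
    have m1 : Function.Injective ((T'.F 0).map i) :=
      (AddCommGrpCat.mono_iff_injective _).1 (hT'0 (sc i) hS)
    apply m1
    rw [← nat_apply T T' φ 0]
    change (φ.app 0).app M ((T.F 0).map (sc i).f α) = _
    rw [hα, hμ]
  | succ q ih =>
    have injs : ∀ A, Function.Injective ((φ.app (q + 1)).app A) :=
      injective_succ T T' φ hT q (fun Z => (ih Z).2) (fun Z => (ih Z).1)
    intro A
    refine ⟨injs A, fun α' => ?_⟩
    obtain ⟨M, i, hi, hM⟩ := hE A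
    have hS := sc_shortExact i
    obtain ⟨μ, hμ⟩ := hs q M hM ((T'.F (q + 1)).map i α')
    have h1 : (T.F (q + 1)).map (sc i).g μ = 0 := by
      apply injs
      rw [nat_apply T T' φ (q + 1), hμ, map_zero]
      change (T'.F (q + 1)).map (cokernel.π i) ((T'.F (q + 1)).map i α') = 0
      rw [map_comp_apply, cokernel.condition, map_zero_apply]
    obtain ⟨α₁, hα₁⟩ := exact₂_apply T (sc i) hS (q + 1) μ h1
    have h2 : (T'.F (q + 1)).map (sc i).f (α' - (φ.app (q + 1)).app A α₁) = 0 := by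
      rw [map_sub, ← nat_apply T T' φ (q + 1), hα₁, hμ]
      exact sub_self _
    obtain ⟨β', hβ'⟩ := exact₁_apply T' (sc i) hS q _ h2
    obtain ⟨β, rfl⟩ := (ih _).2 β'
    refine ⟨α₁ + T.δ (sc i) hS q (q + 1) rfl β, ?_⟩
    rw [map_add, comm_apply T T' φ (sc i) hS q β, hβ']
    abel

theorem main (hT0 : T.ZeroMono) (hT'0 : T'.ZeroMono)
    (hT : ∀ (q : ℕ) (A : C) (α : (T.F (q + 1)).obj A),
      ∃ (M : C) (u : A ⟶ M), Mono u ∧ (T.F (q + 1)).map u α = 0)
    (E : ObjectProperty C)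
    (hE : ∀ A : C, ∃ (M : C) (i : A ⟶ M), Mono i ∧ E M) :
    ((∀ (q : ℕ) (A : C), IsIso ((φ.app q).app A)) ↔
      ((∀ M : C, E M → IsIso ((φ.app 0).app M)) ∧
        ∀ (q : ℕ) (M : C), E M → Epi ((φ.app (q + 1)).app M))) ∧
    ((∀ (q : ℕ) (A : C), IsIso ((φ.app q).app A)) ↔
      ((∀ A : C, IsIso ((φ.app 0).app A)) ∧
        ∀ (q : ℕ) (A : C) (α : (T'.F (q + 1)).obj A),
          ∃ (M : C) (u : A ⟶ M), Mono u ∧ (T'.F (q + 1)).map u α = 0)) := by
  refine ⟨⟨?_, ?_⟩, ⟨?_, ?_⟩⟩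
  · intro h
    refine ⟨fun M _ => h 0 M, fun q M _ => ?_⟩
    have := h (q + 1) M
    infer_instance
  · rintro ⟨h1, h2⟩ q A
    rw [isIso_iff_bijective]
    refine bijective_of_class T T' φ hT0 hT'0 hT E hE
      (fun M hM => (isIso_iff_bijective _).1 (h1 M hM))
      (fun q M hM => (AddCommGrpCat.epi_iff_surjective _).1 (h2 q M hM)) q A
  · intro h
    refine ⟨fun A => h 0 A, ?_⟩
    exact eff_of_bijective T T' φ hT (fun q A => (isIso_iff_bijective _).1 (h q A))
  · rintro ⟨h1, h2⟩ q A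
    rw [isIso_iff_bijective]
    exact bijective_of_eff T T' φ hT h2 (fun A => (isIso_iff_bijective _).1 (h1 A)) q A

end Groth.Agent.Helper3.DeltaElt
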