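import Mathlib
import Groth.Prelude.Def_CechEdge
import Groth.Agent.Lib.Helper3.CechEdgeA
import Groth.Agent.Lib.Helper3.DeltaElt

set_option autoImplicit false
universe w v u
open CategoryTheory Limits Opposite

namespace Groth.Agent.Helper3.CechEdgeC

open DeltaF DeltaElt

section Abstract

variable {A : Type u} [Category.{v} A] [Abelian A]
variable (T T' : CohDeltaFunctor A AddCommGrpCat.{w} ℕ) (φ : T ⟶ T')

include φ in
/-- four lemma, injectivity part, for one short exact sequence -/
lemma inj_succ_of (S : ShortComplex A) (hS : S.ShortExact) (q : ℕ)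
    (h2 : ∀ x : (T.F (q + 1)).obj S.X₂, x = 0)
    (hs2 : Function.Surjective ((φ.app q).app S.X₂))
    (hi3 : Function.Injective ((φ.app q).app S.X₃)) :
    Function.Injective ((φ.app (q + 1)).app S.X₁) := by
  rw [injective_iff]
  intro α hα
  obtain ⟨β, hβ⟩ := exact₁_apply T S hS q α (h2 _)
  have h1 : T'.δ S hS q (q + 1) rfl ((φ.app q).app _ β) = 0 := by
    rw [← comm_apply T T' φ S hS q β, hβ, hα]
  obtain ⟨γ', hγ'⟩ := exact₃_apply T' S hS q _ h1
  obtain ⟨γ, rfl⟩ := hs2 γ'
  have h2 : (T.F q).map S.g γ = β := by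
    apply hi3
    rw [nat_apply T T' φ q, hγ']
  rw [← hβ, ← h2, comp_δ_apply]

include φ in
/-- four lemma, surjectivity part, for one short exact sequence -/
lemma surj_succ_of (S : ShortComplex A) (hS : S.ShortExact) (q : ℕ)
    (h2' : ∀ x : (T'.F (q + 1)).obj S.X₂, x = 0)
    (hs3 : Function.Surjective ((φ.app q).app S.X₃)) :
    Function.Surjective ((φ.app (q + 1)).app S.X₁) := by
  intro α'
  obtain ⟨β', hβ'⟩ := exact₁_apply T' S hS q α' (h2' _)
  obtain ⟨β, rfl⟩ := hs3 β'
  exact ⟨T.δ S hS q (q + 1) rfl β, by rw [comm_apply T T' φ S hS q β, hβ']⟩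

end Abstract

section Sep

variable {C : Type u} [SmallCategory C] (J : GrothendieckTopology C)

/-- evaluation of the cokernel sequence of a monomorphism of presheaves -/
lemma eval_sc_shortExact {P Q : Cᵒᵖ ⥤ AddCommGrpCat.{u}} (f : P ⟶ Q) [Mono f] (V : Cᵒᵖ) :
    ((DeltaEff.sc f).map ((evaluation Cᵒᵖ AddCommGrpCat.{u}).obj V)).ShortExact :=
  (DeltaEff.sc_shortExact f).map_of_exact _

instance mono_hom_of_mono {F G : Sheaf J AddCommGrpCat.{u}} (u : F ⟶ G) [Mono u] : Mono u.hom :=
  inferInstanceAs (Mono ((sheafToPresheaf J AddCommGrpCat.{u}).map u))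

/-- the presheaf cokernel of a monomorphism of sheaves is a separated presheaf -/
lemma coker_isSeparated {F G : Sheaf J AddCommGrpCat.{u}} (u : F ⟶ G) [Mono u] :
    Presieve.IsSeparated J (cokernel u.hom ⋙ forget AddCommGrpCat.{u}) := by
  have hF : Presieve.IsSheaf J (F.obj ⋙ forget AddCommGrpCat.{u}) :=
    (isSheaf_iff_isSheaf_of_type J _).1
      ((Presheaf.isSheaf_iff_isSheaf_forget J F.obj (forget AddCommGrpCat.{u})).1 F.property)
  have hG : Presieve.IsSheaf J (G.obj ⋙ forget AddCommGrpCat.{u}) :=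
    (isSheaf_iff_isSheaf_of_type J _).1
      ((Presheaf.isSheaf_iff_isSheaf_forget J G.obj (forget AddCommGrpCat.{u})).1 G.property)
  intro V S hS x t₁ t₂ h₁ h₂
  -- notation
  let π := cokernel.π u.hom
  have hπnat : ∀ {W W' : Cᵒᵖ} (g : W ⟶ W') (a : G.obj.obj W),
      (π.app W').hom ((G.obj.map g).hom a) = ((cokernel u.hom).map g).hom ((π.app W).hom a) :=
    fun g a => ConcreteCategory.congr_hom (π.naturality g) a
  have hunat : ∀ {W W' : Cᵒᵖ} (g : W ⟶ W') (b : F.obj.obj W),
      (u.hom.app W').hom ((F.obj.map g).hom b) = (G.obj.map g).hom ((u.hom.app W).hom b) :=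
    fun g b => ConcreteCategory.congr_hom (u.hom.naturality g) b
  have hsurj : Function.Surjective (π.app (op V)).hom :=
    (AddCommGrpCat.epi_iff_surjective _).1 (eval_sc_shortExact u.hom (op V)).epi_g
  have hinj : ∀ W : Cᵒᵖ, Function.Injective (u.hom.app W).hom := fun W =>
    (AddCommGrpCat.mono_iff_injective _).1 (eval_sc_shortExact u.hom W).mono_f
  have hex : ∀ (W : Cᵒᵖ) (a : G.obj.obj W), (π.app W).hom a = 0 → ∃ b, (u.hom.app W).hom b = a :=
    fun W a ha => (ShortComplex.ab_exact_iff _).1 (eval_sc_shortExact u.hom W).exact a ha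
  have hzero : ∀ (W : Cᵒᵖ) (b : F.obj.obj W), (π.app W).hom ((u.hom.app W).hom b) = 0 :=
    fun W b => ConcreteCategory.congr_hom (NatTrans.congr_app (cokernel.condition u.hom) W) b
  -- the difference
  let s₁ : (cokernel u.hom).obj (op V) := t₁
  let s₂ : (cokernel u.hom).obj (op V) := t₂
  change s₁ = s₂
  obtain ⟨a, ha⟩ := hsurj (s₁ - s₂)
  have hd : ∀ {W : C} (f : W ⟶ V), S f → (π.app (op W)).hom ((G.obj.map f.op).hom a) = 0 := by
    intro W f hf
    rw [hπnat, ha, map_sub]
    exact sub_eq_zero.2 ((h₁ f hf).trans (h₂ f hf).symm)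
  choose b hb using fun {W : C} (f : W ⟶ V) (hf : S f) => hex (op W) _ (hd f hf)
  let xb : Presieve.FamilyOfElements (F.obj ⋙ forget AddCommGrpCat.{u}) S.arrows :=
    fun W f hf => b f hf
  have hcomp : xb.Compatible := by
    intro W₁ W₂ Z g₁ g₂ f₁ f₂ hf₁ hf₂ hfg
    apply hinj (op Z)
    change (u.hom.app (op Z)).hom ((F.obj.map g₁.op).hom (b f₁ hf₁)) =
      (u.hom.app (op Z)).hom ((F.obj.map g₂.op).hom (b f₂ hf₂))
    rw [hunat, hunat, hb, hb]
    have e₁ : (G.obj.map g₁.op).hom ((G.obj.map f₁.op).hom a) = (G.obj.map (g₁ ≫ f₁).op).hom a := by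
      rw [op_comp, G.obj.map_comp]; rfl
    have e₂ : (G.obj.map g₂.op).hom ((G.obj.map f₂.op).hom a) = (G.obj.map (g₂ ≫ f₂).op).hom a := by
      rw [op_comp, G.obj.map_comp]; rfl
    rw [e₁, e₂, hfg]
  obtain ⟨β, hβ, -⟩ := hF S hS xb hcomp
  have hua : (u.hom.app (op V)).hom β = a := by
    refine (hG S hS).isSeparatedFor.ext ?_
    intro W f hf
    change (G.obj.map f.op).hom ((u.hom.app (op V)).hom β) = (G.obj.map f.op).hom a
    rw [← hunat, ← hb f hf]
    exact congrArg _ (hβ f hf)
  have h0 : s₁ - s₂ = 0 := by rw [← ha, ← hua, hzero]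
  exact sub_eq_zero.1 h0

lemma coker_toSheafify_injective {F G : Sheaf J AddCommGrpCat.{u}} (u : F ⟶ G) [Mono u] (V : Cᵒᵖ) :
    Function.Injective ((toSheafify J (cokernel u.hom)).app V).hom :=
  (Presheaf.isLocallyInjective_iff_injective_of_separated J _ (coker_isSeparated J u)).1
    inferInstance V

end Sep

section Site

open CechLow CechDelta CechEdgeA

variable {C : Type u} [SmallCategory C] [HasPullbacks C] {U : C} {ι : Type u} (Y : ι → Over U)
  (J : GrothendieckTopology C)

lemma cechHMap_bijective_of_isIso {P Q : Cᵒᵖ ⥤ AddCommGrpCat.{u}} (φ : P ⟶ Q) [IsIso φ] (p : ℕ) :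
    Function.Bijective (CechEdge.cechHMap Y φ p) := by
  have : IsIso (((cechDelta Y).F p).map φ) := inferInstance
  exact ConcreteCategory.bijective_of_isIso (((cechDelta Y).F p).map φ)

/-- `Ȟ⁰` is left exact: objectwise injective maps induce injections -/
lemma cechHMap_zero_injective {P Q : Cᵒᵖ ⥤ AddCommGrpCat.{u}} (φ : P ⟶ Q)
    (h : ∀ b : Fin 1 → ι, Function.Injective (φ.app (op (YY Y b))).hom) :
    Function.Injective (CechEdge.cechHMap Y φ 0) := by
  rw [injective_iff_map_eq_zero]
  intro x hx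
  obtain ⟨z, rfl⟩ := (ConcreteCategory.bijective_of_isIso ((CechEdge.cx P Y).homologyπ 0)).2 x
  have h1 := ConcreteCategory.congr_hom (HomologicalComplex.homologyπ_naturality (Kmap Y φ) 0) z
  have h2 : ((CechEdge.cx Q Y).homologyπ 0).hom ((HomologicalComplex.cyclesMap (Kmap Y φ) 0).hom z) = 0 :=
    h1.symm.trans hx
  have h3 : (HomologicalComplex.cyclesMap (Kmap Y φ) 0).hom z = 0 :=
    (ConcreteCategory.bijective_of_isIso ((CechEdge.cx Q Y).homologyπ 0)).1 (h2.trans (map_zero _).symm)
  have h4 : ((Kmap Y φ).f 0).hom (((CechEdge.cx P Y).iCycles 0).hom z) = 0 := by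
    have := ConcreteCategory.congr_hom (HomologicalComplex.cyclesMap_i (Kmap Y φ) 0) z
    refine this.symm.trans ?_
    change ((CechEdge.cx Q Y).iCycles 0).hom ((HomologicalComplex.cyclesMap (Kmap Y φ) 0).hom z) = 0
    rw [h3, map_zero]
  have h5 : ((CechEdge.cx P Y).iCycles 0).hom z = 0 := by
    apply CechLow.ext Y P 0
    intro b
    apply h b
    rw [← Kmap_proj_apply, h4, map_zero, map_zero, map_zero]
  have hm : Function.Injective ((CechEdge.cx P Y).iCycles 0).hom :=
    (AddCommGrpCat.mono_iff_injective _).1 inferInstance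
  have h6 : z = 0 := hm (h5.trans (map_zero _).symm)
  rw [h6, map_zero]

variable (e : ∀ (P : Cᵒᵖ ⥤ AddCommGrpCat.{u}) (p : ℕ),
  CohCx.cechH P Y p →+ CohSite.HU (CechEdge.shf J P) p U) (he : CechEdge.IsEdge J Y e)

include he in
/-- the degree-zero part of any edge family -/
lemma edge_zero_eq (P : Cᵒᵖ ⥤ AddCommGrpCat.{u}) (x : CohCx.cechH P Y 0) :
    e P 0 x = t0App Y J he.cover P x :=
  edge_zero_unique Y J e (edge Y J he.cover) he (isEdge_edge Y J he.cover) P x

include he in
lemma edge_zero_injective (P : Cᵒᵖ ⥤ AddCommGrpCat.{u})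
    (h : ∀ b : Fin 1 → ι, Function.Injective ((toSheafify J P).app (op (YY Y b))).hom) :
    Function.Injective (e P 0) := by
  intro x y hxy
  rw [edge_zero_eq Y J e he, edge_zero_eq Y J e he, t0App_apply, t0App_apply] at hxy
  exact cechHMap_zero_injective Y _ h
    ((toCechEquiv Y J (CechEdge.shf J P) he.cover).symm.injective
      ((CechEdge.sectH0 J U (CechEdge.shf J P)).injective hxy))

include he in
lemma edge_zero_bijective_sheaf (G : Sheaf J AddCommGrpCat.{u}) :
    Function.Bijective (e G.obj 0) := by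
  have : IsIso (toSheafify J G.obj) := isIso_toSheafify J G.property
  have hb := cechHMap_bijective_of_isIso Y (toSheafify J G.obj) 0
  have h : ⇑(e G.obj 0) = ⇑(CechEdge.sectH0 J U (CechEdge.shf J G.obj)) ∘
      ⇑(toCechEquiv Y J (CechEdge.shf J G.obj) he.cover).symm ∘
      ⇑(CechEdge.cechHMap Y (toSheafify J G.obj) 0) := by
    funext x
    exact edge_zero_eq Y J e he G.obj x
  rw [h]
  exact (CechEdge.sectH0 J U _).bijective.comp
    ((toCechEquiv Y J _ he.cover).symm.bijective.comp hb)

section Shift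

variable (F : Sheaf J AddCommGrpCat.{u})

/-- the presheaf short exact sequence `0 → F → I → I/F → 0` with `I` an injective sheaf -/
noncomputable abbrev Sp : ShortComplex (Cᵒᵖ ⥤ AddCommGrpCat.{u}) :=
  DeltaEff.sc (Injective.ι F).hom

lemma Sp_shortExact : (Sp J F).ShortExact := DeltaEff.sc_shortExact _

lemma cech_under_eq_zero (q : ℕ) (x : ((cechDelta Y).F (q + 1)).obj (Sp J F).X₂) : x = 0 := by
  have hz : IsZero (((cechDelta Y).F (q + 1)).obj (Sp J F).X₂) :=
    CechInj.isZero_cech_of_injective Y (Injective.under F).obj q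
  have : Subsingleton (((cechDelta Y).F (q + 1)).obj (Sp J F).X₂) :=
    AddCommGrpCat.subsingleton_of_isZero hz
  exact Subsingleton.elim _ _

lemma sh_under_eq_zero (q : ℕ) (x : ((shDelta U J).F (q + 1)).obj (Sp J F).X₂) : x = 0 := by
  have hI : Injective ((presheafToSheaf J AddCommGrpCat.{u}).obj (Injective.under F).obj) :=
    Injective.of_iso (asIso ((sheafificationAdjunction J AddCommGrpCat.{u}).counit.app
      (Injective.under F))).symm inferInstance
  exact Abelian.Ext.eq_zero_of_injective x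

include he in
/-- the comparison map in degree one is injective -/
theorem edge_one_injective : Function.Injective (e F.obj 1) := by
  have h := inj_succ_of (cechDelta Y) (shDelta U J) (ofEdge Y J e he) (Sp J F) (Sp_shortExact J F) 0
    (cech_under_eq_zero Y J F 0)
    (edge_zero_bijective_sheaf Y J e he (Injective.under F)).2
    (edge_zero_injective Y J e he _ (fun b => coker_toSheafify_injective J (Injective.ι F) _))
  exact h

end Shift

end Site

end Groth.Agent.Helper3.CechEdgeC
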