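import Mathlib
import Groth.Prelude.Def_CechEdge
import Groth.Agent.Lib.Helper3.CechEdgeC

set_option autoImplicit false
universe u
open CategoryTheory Limits Opposite

namespace Groth.Agent.Helper3.CechEdgeD

open DeltaF DeltaElt CechLow CechDelta CechEdgeA CechEdgeC

variable {C : Type u} [SmallCategory C] [HasPullbacks C] {U : C} {ι : Type u} (Y : ι → Over U)
  (J : GrothendieckTopology C)

/-- acyclicity on all iterated fibre products of the family -/
def Acy (F : Sheaf J AddCommGrpCat.{u}) : Prop :=
  ∀ (p : ℕ) (a : Fin (p + 1) → ι) (q : ℕ), Subsingleton (CohSite.HU F (q + 1) (YY Y a))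

lemma subsingleton_HU_of_iso {F G : Sheaf J AddCommGrpCat.{u}} (ψ : F ⟶ G) [IsIso ψ] (p : ℕ) (V : C)
    (h : Subsingleton (CohSite.HU G p V)) : Subsingleton (CohSite.HU F p V) :=
  (HUmap_bijective_of_isIso V J ψ p).1.subsingleton

/-- a degreewise bijective morphism of presheaves on the fibre products induces bijections on Čech
cohomology -/
lemma cechHMap_bijective_of_bijective {P Q : Cᵒᵖ ⥤ AddCommGrpCat.{u}} (φ : P ⟶ Q)
    (h : ∀ (n : ℕ) (a : Fin (n + 1) → ι), Function.Bijective (φ.app (op (YY Y a))).hom) (p : ℕ) :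
    Function.Bijective (CechEdge.cechHMap Y φ p) := by
  have hiso : ∀ (n : ℕ) (a : Fin (n + 1) → ι), IsIso (φ.app (op (YY Y a))) := fun n a =>
    (ConcreteCategory.isIso_iff_bijective _).2 (h n a)
  have hf : ∀ n, IsIso ((Kmap Y φ).f n) := by
    intro n
    have e : (Kmap Y φ).f n = (Limits.Pi.mapIso (fun a : Fin (n + 1) → ι =>
        @asIso _ _ _ _ (φ.app (op (YY Y a))) (hiso n a))).hom := rfl
    rw [e]
    infer_instance
  have : IsIso (Kmap Y φ) := HomologicalComplex.Hom.isIso_of_components _
  have : IsIso (HomologicalComplex.homologyMap (Kmap Y φ) p) := inferInstance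
  exact ConcreteCategory.bijective_of_isIso (HomologicalComplex.homologyMap (Kmap Y φ) p)

section Shift

variable (F : Sheaf J AddCommGrpCat.{u})

/-- the sheaf quotient `I/F` (sheafification of the presheaf cokernel) -/
noncomputable abbrev Qs : Sheaf J AddCommGrpCat.{u} := CechEdge.shf J (Sp J F).X₃

lemma sh_X₁_eq_zero (V : C) (q : ℕ) (hV : Subsingleton (CohSite.HU F q V))
    (x : ((shDelta V J).F q).obj (Sp J F).X₁) : x = 0 := by
  have : Subsingleton (CohSite.HU (CechEdge.shf J F.obj) q V) :=
    subsingleton_HU_of_iso J ((sheafificationAdjunction J AddCommGrpCat.{u}).counit.app F) q V hV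
  exact Subsingleton.elim (α := CohSite.HU (CechEdge.shf J F.obj) q V) _ _

lemma sh_under_eq_zero' (V : C) (q : ℕ) (x : ((shDelta V J).F (q + 1)).obj (Sp J F).X₂) : x = 0 := by
  have hI : Injective ((presheafToSheaf J AddCommGrpCat.{u}).obj (Injective.under F).obj) :=
    Injective.of_iso (asIso ((sheafificationAdjunction J AddCommGrpCat.{u}).counit.app
      (Injective.under F))).symm inferInstance
  exact Abelian.Ext.eq_zero_of_injective x

/-- the quotient sheaf is again acyclic on the fibre products -/
lemma acy_Qs (hF : Acy Y J F) : Acy Y J (Qs J F) := by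
  intro p a q
  refine ⟨fun x y => ?_⟩
  have key : ∀ z : ((shDelta (YY Y a) J).F (q + 1)).obj (Sp J F).X₃, z = 0 := by
    intro z
    have h1 : (shDelta (YY Y a) J).δ (Sp J F) (Sp_shortExact J F) (q + 1) (q + 1 + 1) rfl z = 0 :=
      sh_X₁_eq_zero J F _ _ (hF p a (q + 1)) _
    obtain ⟨w, hw⟩ := exact₃_apply (shDelta (YY Y a) J) (Sp J F) (Sp_shortExact J F) (q + 1) z h1
    rw [← hw, sh_under_eq_zero' J F _ q w, map_zero]
  exact (key x).trans (key y).symm

/-- on an object where `H¹(-, F)` vanishes, the presheaf quotient agrees with the sheaf quotient -/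
lemma toSheafify_coker_surjective (V : C) (hV : Subsingleton (CohSite.HU F 1 V)) :
    Function.Surjective ((toSheafify J (Sp J F).X₃).app (op V)).hom := by
  intro t
  let x : ((shDelta V J).F 0).obj (Sp J F).X₃ := CechEdge.sectH0 J V (Qs J F) t
  have h1 : (shDelta V J).δ (Sp J F) (Sp_shortExact J F) 0 1 rfl x = 0 :=
    sh_X₁_eq_zero J F V 1 hV _
  obtain ⟨y, hy⟩ := exact₃_apply (shDelta V J) (Sp J F) (Sp_shortExact J F) 0 x h1
  obtain ⟨i', hi'⟩ := (CechEdge.sectH0 J V (CechEdge.shf J (Injective.under F).obj)).surjective y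
  have : IsIso (toSheafify J (Injective.under F).obj) := isIso_toSheafify J (Injective.under F).property
  have hb : Function.Bijective ((toSheafify J (Injective.under F).obj).app (op V)).hom :=
    ConcreteCategory.bijective_of_isIso ((toSheafify J (Injective.under F).obj).app (op V))
  obtain ⟨i, hi⟩ := hb.2 i'
  refine ⟨((Sp J F).g.app (op V)).hom i, ?_⟩
  apply (CechEdge.sectH0 J V (Qs J F)).injective
  change _ = x
  rw [← hy, ← hi', ← hi]
  have e1 : CechEdge.HUmap (CechEdge.shfMap J (Sp J F).g) 0 V
      (CechEdge.sectH0 J V _ (((toSheafify J (Injective.under F).obj).app (op V)).hom i)) =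
      CechEdge.sectH0 J V (Qs J F) (((CechEdge.shfMap J (Sp J F).g).hom.app (op V)).hom
        (((toSheafify J (Injective.under F).obj).app (op V)).hom i)) :=
    sectH0_naturality V J _ _
  refine Eq.trans ?_ e1.symm
  congr 1
  exact ConcreteCategory.congr_hom (NatTrans.congr_app (toSheafify_naturality J (Sp J F).g) (op V)) i

end Shift

section Main

variable (e : ∀ (P : Cᵒᵖ ⥤ AddCommGrpCat.{u}) (p : ℕ),
  CohCx.cechH P Y p →+ CohSite.HU (CechEdge.shf J P) p U) (he : CechEdge.IsEdge J Y e)

include he in
theorem edge_bijective_of_acy (p : ℕ) :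
    ∀ (F : Sheaf J AddCommGrpCat.{u}), Acy Y J F → Function.Bijective (e F.obj p) := by
  induction p with
  | zero => exact fun F _ => edge_zero_bijective_sheaf Y J e he F
  | succ p ih =>
    intro F hF
    -- the comparison for the presheaf quotient is bijective
    have hη : ∀ (n : ℕ) (a : Fin (n + 1) → ι),
        Function.Bijective ((toSheafify J (Sp J F).X₃).app (op (YY Y a))).hom := fun n a =>
      ⟨coker_toSheafify_injective J (Injective.ι F) _,
        toSheafify_coker_surjective J F _ (hF n a 0)⟩
    have h3 : Function.Bijective (e (Sp J F).X₃ p) := by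
      have hnat : ⇑(e (Qs J F).obj p) ∘ ⇑(CechEdge.cechHMap Y (toSheafify J (Sp J F).X₃) p) =
          ⇑(CechEdge.HUmap (CechEdge.shfMap J (toSheafify J (Sp J F).X₃)) p U) ∘ ⇑(e (Sp J F).X₃ p) := by
        funext x
        exact he.natural _ _ (toSheafify J (Sp J F).X₃) p x
      have hL : Function.Bijective
          (⇑(e (Qs J F).obj p) ∘ ⇑(CechEdge.cechHMap Y (toSheafify J (Sp J F).X₃) p)) :=
        (ih (Qs J F) (acy_Qs Y J F hF)).comp (cechHMap_bijective_of_bijective Y _ hη p)
      rw [hnat] at hL
      exact (Function.Bijective.of_comp_iff'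
        (HUmap_bijective_of_isIso U J (CechEdge.shfMap J (toSheafify J (Sp J F).X₃)) p) _).1 hL
    have hs2 : Function.Surjective (e (Sp J F).X₂ p) := by
      cases p with
      | zero => exact (edge_zero_bijective_sheaf Y J e he (Injective.under F)).2
      | succ q =>
        intro y
        exact ⟨0, (map_zero _).trans (sh_under_eq_zero (U := U) J F q y).symm⟩
    exact ⟨inj_succ_of (cechDelta Y) (shDelta U J) (ofEdge Y J e he) (Sp J F) (Sp_shortExact J F) p
        (cech_under_eq_zero Y J F p) hs2 h3.1,
      surj_succ_of (cechDelta Y) (shDelta U J) (ofEdge Y J e he) (Sp J F) (Sp_shortExact J F) p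
        (sh_under_eq_zero (U := U) J F p) h3.2⟩

end Main

end Groth.Agent.Helper3.CechEdgeD
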