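import Mathlib
import Groth.Prelude.Def_Fitting
import Groth.Agent.Lib.Helper4.Fitting15
import Groth.Agent.Lib.Lead.FittAlg

/-!
# Finite flat modules: Fitting ideals are locally trivial; projectivity from rank strata (helper3)
-/

set_option autoImplicit false
universe u

namespace Groth.Agent.Helper3.FlatFLF

open Groth.Agent.Helper4.Fitting TensorProduct

variable {R : Type u} [CommRing R] {N : Type u} [AddCommGroup N] [Module R N]

/-- Fitting ideals of a base change along an abstract `IsBaseChange` -/
theorem fitt_isBaseChange [Module.Finite R N] {R' : Type u} [CommRing R'] [Algebra R R']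
    {N' : Type u} [AddCommGroup N'] [Module R N'] [Module R' N'] [IsScalarTower R R' N']
    (g : N →ₗ[R] N') (hg : IsBaseChange R' g) (k : ℕ) :
    Fitt.ideal R' N' k = (Fitt.ideal R N k).map (algebraMap R R') := by
  rw [← ideal_congr hg.equiv k, ideal_baseChange]

/-- the key local statement: at a prime where the localization is flat, a Fitting ideal contained
in the prime dies in the local ring -/
theorem exists_mul_eq_zero_of_flat [Module.Finite R N] (p : Ideal R) [p.IsPrime]
    (A : Type u) [CommRing A] [Algebra R A] [IsLocalization.AtPrime A p]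
    (N' : Type u) [AddCommGroup N'] [Module R N'] [Module A N'] [IsScalarTower R A N']
    (g : N →ₗ[R] N') [IsLocalizedModule p.primeCompl g] [Module.Flat A N']
    (k : ℕ) (hk : Fitt.ideal R N k ≤ p) (a : R) (ha : a ∈ Fitt.ideal R N k) :
    ∃ s ∉ p, s * a = 0 := by
  haveI : IsLocalRing A := IsLocalization.AtPrime.isLocalRing A p
  haveI : Module.Finite A N' := Module.Finite.of_isLocalizedModule p.primeCompl g
  haveI : Module.Free A N' := Module.free_of_flat_of_isLocalRing
  let ι := Module.Free.ChooseBasisIndex A N'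
  let b : Module.Basis (Fin (Fintype.card ι)) A N' :=
    (Module.Free.chooseBasis A N').reindex (Fintype.equivFin ι)
  have hF : Fitt.ideal A N' k = (Fitt.ideal R N k).map (algebraMap R A) :=
    fitt_isBaseChange g (IsLocalizedModule.isBaseChange p.primeCompl A g) k
  by_cases hmk : Fintype.card ι ≤ k
  · exfalso
    have h1 : Fitt.ideal A N' k = ⊤ := ideal_eq_top_of_span b b.span_eq k hmk
    rw [hF] at h1
    have h2 : (Fitt.ideal R N k).map (algebraMap R A) ≤ IsLocalRing.maximalIdeal A := by
      rw [← IsLocalization.AtPrime.map_eq_maximalIdeal p A]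
      exact Ideal.map_mono hk
    rw [h1] at h2
    exact (IsLocalRing.maximalIdeal.isMaximal A).ne_top (top_le_iff.1 h2)
  · have h1 : Fitt.ideal A N' k = ⊥ :=
      ideal_eq_bot_of_linearIndependent b b.span_eq b.linearIndependent k (not_le.1 hmk)
    rw [hF] at h1
    have h2 : algebraMap R A a = 0 := by
      have : algebraMap R A a ∈ (Fitt.ideal R N k).map (algebraMap R A) :=
        Ideal.mem_map_of_mem _ ha
      rw [h1] at this
      exact this
    obtain ⟨s, hs⟩ := (IsLocalization.map_eq_zero_iff p.primeCompl A a).1 h2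
    exact ⟨s.1, s.2, hs⟩

/-- the conclusion of the previous lemma as a predicate on the module -/
def FittPure (R : Type u) [CommRing R] (N : Type u) [AddCommGroup N] [Module R N] : Prop :=
  ∀ (p : Ideal R) [p.IsPrime] (k : ℕ), Fitt.ideal R N k ≤ p →
    ∀ a ∈ Fitt.ideal R N k, ∃ s ∉ p, s * a = 0

theorem FittPure.le_of_le (h : FittPure R N) {p q : Ideal R} [p.IsPrime] [q.IsPrime] (hqp : q ≤ p)
    (k : ℕ) (hk : Fitt.ideal R N k ≤ p) : Fitt.ideal R N k ≤ q := by
  intro a ha
  obtain ⟨s, hs, hsa⟩ := h p k hk a ha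
  have : s * a ∈ q := by rw [hsa]; exact q.zero_mem
  exact (Ideal.IsPrime.mem_or_mem inferInstance this).resolve_left (fun hsq => hs (hqp hsq))

theorem FittPure.stable (h : FittPure R N) (k : ℕ) :
    StableUnderGeneralization (PrimeSpectrum.zeroLocus (Fitt.ideal R N k : Set R)) := by
  intro p q hqp hp
  rw [PrimeSpectrum.mem_zeroLocus, SetLike.coe_subset_coe] at hp ⊢
  exact h.le_of_le ((PrimeSpectrum.le_iff_specializes q p).2 hqp) k hp

/-- projectivity over a basic open on which the rank strata are constant -/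
theorem projective_of_fittPure [Module.Finite R N] (h : FittPure R N) (f : R) (r : ℕ)
    (h1 : ∀ (q : Ideal R) [q.IsPrime], f ∉ q → ∀ k, k < r → Fitt.ideal R N k ≤ q)
    (h2 : ∀ (q : Ideal R) [q.IsPrime], f ∉ q → ¬ Fitt.ideal R N r ≤ q)
    (R' : Type u) [CommRing R'] [Algebra R R'] [IsLocalization.Away f R']
    (N' : Type u) [AddCommGroup N'] [Module R N'] [Module R' N'] [IsScalarTower R R' N']
    [Module.Finite R' N'] (g : N →ₗ[R] N') (hg : IsBaseChange R' g) :
    Module.Projective R' N' := by
  have hF := fun k => fitt_isBaseChange g hg k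
  refine ((Groth.Agent.Lead.FittAlg.conditions_iff (R := R') N' r).2 ⟨?_, ?_⟩).1
  · intro k hk
    rw [hF k, eq_bot_iff, Ideal.map_le_iff_le_comap]
    intro a ha
    rw [Ideal.mem_comap, Ideal.mem_bot]
    -- `f` lies in the radical of the annihilator of `a`
    let J : Ideal R := LinearMap.ker (LinearMap.toSpanSingleton R R a)
    have hJ : ∀ s, s ∈ J ↔ s * a = 0 := fun s => by
      simp [J, LinearMap.mem_ker, LinearMap.toSpanSingleton_apply]
    have hfJ : f ∈ J.radical := by
      rw [Ideal.radical_eq_sInf, Ideal.mem_sInf]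
      rintro q ⟨hJq, hq⟩
      by_contra hfq
      haveI := hq
      obtain ⟨s, hs, hsa⟩ := h q k (h1 q hfq k hk) a ha
      exact hs (hJq ((hJ s).2 hsa))
    obtain ⟨n, hn⟩ := hfJ
    rw [hJ] at hn
    rw [IsLocalization.map_eq_zero_iff (Submonoid.powers f) R' a]
    exact ⟨⟨f ^ n, n, rfl⟩, hn⟩
  · intro k hk
    rw [hF k, eq_top_iff]
    refine le_trans ?_ (Ideal.map_mono (ideal_mono hk))
    rw [top_le_iff]
    by_contra hne
    obtain ⟨m, hm, hle⟩ := Ideal.exists_le_maximal _ hne
    haveI := hm.isPrime
    have hfm : f ∉ m.comap (algebraMap R R') := by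
      intro hfm
      rw [Ideal.mem_comap] at hfm
      exact hm.ne_top (Ideal.eq_top_of_isUnit_mem _ hfm (IsLocalization.Away.algebraMap_isUnit f))
    exact h2 (m.comap (algebraMap R R')) hfm (Ideal.map_le_iff_le_comap.1 hle)

end Groth.Agent.Helper3.FlatFLF
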