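import Mathlib

/-!
# Pure ideals and closed subsets stable under generalization (helper3)
-/

set_option autoImplicit false
universe u

namespace Groth.Agent.Helper3.PureSub

open PrimeSpectrum

variable {R : Type u} [CommRing R]

/-- the elementwise criterion for purity -/
def Idem (I : Ideal R) : Prop := ∀ x ∈ I, ∃ y ∈ I, x = x * y

theorem idem_of_pure (I : Ideal R) [I.Pure] : Idem I :=
  fun _ hx => Ideal.exists_eq_mul_of_pure hx

theorem pure_of_idem {I : Ideal R} (h : Idem I) : I.Pure := by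
  apply Ideal.Pure.of_inf_eq_mul
  intro J _
  apply le_antisymm
  · rintro x ⟨hxI, hxJ⟩
    obtain ⟨y, hy, hxy⟩ := h x hxI
    have h1 : y * x ∈ I * J := Ideal.mul_mem_mul hy hxJ
    have h2 : y * x = x := by rw [mul_comm y x, ← hxy]
    rwa [h2] at h1
  · exact Ideal.mul_le_inf

theorem pure_iff_idem {I : Ideal R} : I.Pure ↔ Idem I :=
  ⟨fun h => @idem_of_pure _ _ I h, pure_of_idem⟩

/-- the closure formula -/
theorem add_eq_add_mul {x y f g : R} (hx : x = x * f) (hy : y = y * g) :
    x + y = (x + y) * (f + g - f * g) := by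
  have h1 : x * f * g = x * g := by rw [← hx]
  have h2 : y * f * g = y * f := by
    rw [mul_assoc, mul_comm f g, ← mul_assoc, ← hy]
  calc x + y = x * f + y * g := by rw [← hx, ← hy]
    _ = (x + y) * (f + g - f * g) := by
        have e : (x + y) * (f + g - f * g) =
            x * f + (x * g - x * f * g) + (y * f - y * f * g) + y * g := by ring
        rw [e, h1, h2]; ring

/-- zero loci of idempotent-type ideals are stable under generalization -/
theorem idem_mem_of_le {I : Ideal R} (h : Idem I) {p q : Ideal R} [p.IsPrime] [q.IsPrime]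
    (hp : I ≤ p) (hqp : q ≤ p) : I ≤ q := by
  intro x hx
  obtain ⟨y, hy, hxy⟩ := h x hx
  have h0 : x * (1 - y) = 0 := by rw [mul_sub, mul_one, ← hxy, sub_self]
  have h1 : (1 - y) ∉ q := by
    intro hq
    have : (1 : R) ∈ p := by
      have := p.add_mem (hqp hq) (hp hy)
      simpa using this
    exact (Ideal.IsPrime.ne_top inferInstance) ((Ideal.eq_top_iff_one p).2 this)
  have : x * (1 - y) ∈ q := by rw [h0]; exact q.zero_mem
  exact ((Ideal.IsPrime.mem_or_mem inferInstance this).resolve_right h1)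

theorem stable_of_idem {I : Ideal R} (h : Idem I) :
    StableUnderGeneralization (zeroLocus (I : Set R)) := by
  intro p q hqp hp
  rw [mem_zeroLocus, SetLike.coe_subset_coe] at hp ⊢
  exact idem_mem_of_le h hp ((le_iff_specializes q p).2 hqp)

/-- the image of an idempotent-type ideal is of idempotent type -/
theorem idem_map {S : Type u} [CommRing S] (f : R →+* S) {I : Ideal R} (h : Idem I) :
    Idem (I.map f) := by
  intro x hx
  refine Submodule.span_induction (p := fun x _ => ∃ y ∈ I.map f, x = x * y) ?_ ?_ ?_ ?_ hx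
  · rintro _ ⟨a, ha, rfl⟩
    obtain ⟨y, hy, hay⟩ := h a ha
    exact ⟨f y, Ideal.mem_map_of_mem f hy, by rw [← map_mul, ← hay]⟩
  · exact ⟨0, Ideal.zero_mem _, by simp⟩
  · rintro a b _ _ ⟨y, hy, hay⟩ ⟨z, hz, hbz⟩
    exact ⟨y + z - y * z, Ideal.sub_mem _ (Ideal.add_mem _ hy hz) (Ideal.mul_mem_left _ _ hz),
      add_eq_add_mul hay hbz⟩
  · rintro a b _ ⟨y, hy, hby⟩
    refine ⟨y, hy, ?_⟩
    rw [smul_eq_mul, mul_assoc, ← hby]

/-- idempotent-type ideals with the same zero locus coincide -/
theorem idem_ext {I J : Ideal R} (hI : Idem I) (hJ : Idem J)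
    (h : zeroLocus (I : Set R) = zeroLocus (J : Set R)) : I = J := by
  haveI := pure_of_idem hI
  haveI := pure_of_idem hJ
  exact Ideal.zeroLocus_inj_of_pure.1 h

/-- the ideal attached to a radical ideal `J` -/
def idemIdeal (J : Ideal R) : Ideal R where
  carrier := {x | ∃ y ∈ J, x = x * y}
  zero_mem' := ⟨0, J.zero_mem, by simp⟩
  add_mem' := by
    rintro a b ⟨y, hy, hay⟩ ⟨z, hz, hbz⟩
    exact ⟨y + z - y * z, Ideal.sub_mem _ (Ideal.add_mem _ hy hz) (Ideal.mul_mem_left _ _ hz),
      add_eq_add_mul hay hbz⟩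
  smul_mem' := by
    rintro c a ⟨y, hy, hay⟩
    refine ⟨y, hy, ?_⟩
    rw [smul_eq_mul, mul_assoc, ← hay]

theorem mem_idemIdeal {J : Ideal R} {x : R} : x ∈ idemIdeal J ↔ ∃ y ∈ J, x = x * y := Iff.rfl

theorem idemIdeal_le (J : Ideal R) : idemIdeal J ≤ J := by
  rintro x ⟨y, hy, hxy⟩
  rw [hxy]
  exact J.mul_mem_left _ hy

/-- Stacks 04PU, the key point -/
theorem zeroLocus_idemIdeal {J : Ideal R}
    (hZ : StableUnderGeneralization (zeroLocus (J : Set R))) :
    zeroLocus (idemIdeal J : Set R) = zeroLocus (J : Set R) := by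
  apply Set.Subset.antisymm
  · intro p hp
    rw [mem_zeroLocus, SetLike.coe_subset_coe] at hp
    -- the multiplicative set `(R ∖ p)(1 + J)`
    let S : Submonoid R :=
      { carrier := {s | ∃ a ∉ p.asIdeal, ∃ j ∈ J, s = a * (1 + j)}
        one_mem' := ⟨1, (Ideal.ne_top_iff_one _).1 p.2.ne_top, 0, J.zero_mem, by simp⟩
        mul_mem' := by
          rintro _ _ ⟨a, ha, j, hj, rfl⟩ ⟨b, hb, k, hk, rfl⟩
          refine ⟨a * b, fun h => (p.2.mem_or_mem h).elim ha hb, j + k + j * k,
            J.add_mem (J.add_mem hj hk) (J.mul_mem_left _ hk), by ring⟩ }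
    have hS0 : (0 : R) ∉ S := by
      rintro ⟨a, ha, j, hj, h0⟩
      apply ha
      apply hp
      refine ⟨-j, J.neg_mem hj, ?_⟩
      have : a * (1 + j) = 0 := h0.symm
      linear_combination this
    have hdisj : Disjoint ((⊥ : Ideal R) : Set R) (S : Set R) := by
      rw [Set.disjoint_left]
      intro x hx hxS
      rw [SetLike.mem_coe, Ideal.mem_bot] at hx
      subst hx
      exact hS0 hxS
    obtain ⟨q, hq, -, hqS⟩ := Ideal.exists_le_prime_disjoint ⊥ S hdisj
    rw [Set.disjoint_left] at hqS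
    have hqp : q ≤ p.asIdeal := by
      intro x hx
      by_contra hxp
      exact hqS hx ⟨x, hxp, 0, J.zero_mem, by simp⟩
    have hqJ : q ⊔ J ≠ ⊤ := by
      intro htop
      have h1 : (1 : R) ∈ q ⊔ J := by rw [htop]; trivial
      obtain ⟨a, ha, j, hj, haj⟩ := Submodule.mem_sup.1 h1
      refine hqS ha ⟨1, (Ideal.ne_top_iff_one _).1 p.2.ne_top, -j, J.neg_mem hj, ?_⟩
      linear_combination haj
    obtain ⟨m, hm, hle⟩ := Ideal.exists_le_maximal _ hqJ
    haveI := hm.isPrime
    have hmZ : (⟨m, hm.isPrime⟩ : PrimeSpectrum R) ∈ zeroLocus (J : Set R) := by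
      rw [mem_zeroLocus, SetLike.coe_subset_coe]
      exact le_sup_right.trans hle
    have hqZ : (⟨q, hq⟩ : PrimeSpectrum R) ∈ zeroLocus (J : Set R) := by
      refine hZ ?_ hmZ
      rw [← le_iff_specializes]
      exact le_sup_left.trans hle
    rw [mem_zeroLocus, SetLike.coe_subset_coe] at hqZ ⊢
    exact hqZ.trans hqp
  · exact zeroLocus_anti_mono (by exact_mod_cast idemIdeal_le J)

theorem idem_idemIdeal {J : Ideal R} (hJ : J.IsRadical)
    (hZ : StableUnderGeneralization (zeroLocus (J : Set R))) : Idem (idemIdeal J) := by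
  intro x hx
  obtain ⟨y, hy, hxy⟩ := hx
  have hrad : J = (idemIdeal J).radical := by
    rw [← vanishingIdeal_zeroLocus_eq_radical, zeroLocus_idemIdeal hZ,
      vanishingIdeal_zeroLocus_eq_radical, hJ.radical]
  rw [hrad] at hy
  obtain ⟨n, hn⟩ := hy
  refine ⟨y ^ n, hn, ?_⟩
  clear hn
  induction n with
  | zero => simp
  | succ n ih => rw [pow_succ, ← mul_assoc, ← ih, ← hxy]

/-- Stacks 04PU: closed subsets stable under generalization are zero loci of pure ideals -/
theorem exists_idem_zeroLocus_eq {Z : Set (PrimeSpectrum R)} (hZc : IsClosed Z)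
    (hZ : StableUnderGeneralization Z) : ∃ I : Ideal R, Idem I ∧ zeroLocus (I : Set R) = Z := by
  have hJ : zeroLocus (vanishingIdeal Z : Set R) = Z := by
    rw [zeroLocus_vanishingIdeal_eq_closure, hZc.closure_eq]
  have hZ' : StableUnderGeneralization (zeroLocus (vanishingIdeal Z : Set R)) := by
    rw [hJ]; exact hZ
  refine ⟨idemIdeal (vanishingIdeal Z), idem_idemIdeal (isRadical_vanishingIdeal Z) hZ', ?_⟩
  rw [zeroLocus_idemIdeal hZ', hJ]

/-- elements of an idempotent-type ideal die in the localization at a prime of its zero locus -/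
theorem idem_le_ker {I : Ideal R} (h : Idem I) {p : Ideal R} [p.IsPrime] (hle : I ≤ p)
    {A : Type u} [CommRing A] [Algebra R A] [IsLocalization.AtPrime A p] :
    I ≤ RingHom.ker (algebraMap R A) := by
  intro x hx
  obtain ⟨y, hy, heq⟩ := h x hx
  have hu : IsUnit (algebraMap R A (1 - y)) := by
    apply IsLocalization.map_units A (⟨1 - y, ?_⟩ : p.primeCompl)
    intro hz
    apply (Ideal.ne_top_iff_one p).1 (Ideal.IsPrime.ne_top inferInstance)
    have := p.add_mem hz (hle hy)
    simpa using this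
  have hzero : x * (1 - y) = 0 := by rw [mul_sub, mul_one, ← heq, sub_self]
  rw [RingHom.mem_ker, ← hu.mul_left_eq_zero, ← map_mul, hzero, map_zero]

end Groth.Agent.Helper3.PureSub
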