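import Mathlib
import Groth.Agent.Lib.Helper3.PureSub1

/-!
# Flat closed subschemes and closed subsets stable under generalization (helper3)
-/

set_option autoImplicit false
universe u

open AlgebraicGeometry CategoryTheory TopologicalSpace

namespace Groth.Agent.Helper3.PureSub

section Alg

variable {R S : Type u} [CommRing R] [CommRing S]

theorem pure_ker_of_flat_of_surjective (φ : R →+* S) (hφ : φ.Flat)
    (hs : Function.Surjective φ) : (RingHom.ker φ).Pure := by
  algebraize [φ]
  let e : (R ⧸ RingHom.ker (Algebra.ofId R S)) ≃ₗ[R] S :=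
    (Ideal.quotientKerAlgEquivOfSurjective (f := Algebra.ofId R S) hs).toLinearEquiv
  exact Module.Flat.of_linearEquiv e

theorem flat_of_pure_ker_of_surjective (φ : R →+* S) (hφ : (RingHom.ker φ).Pure)
    (hs : Function.Surjective φ) : φ.Flat := by
  algebraize [φ]
  let e : (R ⧸ RingHom.ker (Algebra.ofId R S)) ≃ₗ[R] S :=
    (Ideal.quotientKerAlgEquivOfSurjective (f := Algebra.ofId R S) hs).toLinearEquiv
  haveI : Module.Flat R (R ⧸ RingHom.ker (Algebra.ofId R S)) := hφ
  exact Module.Flat.of_linearEquiv e.symm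

end Alg

variable {X : Scheme.{u}}

theorem flat_app_of_flat (I : X.IdealSheafData) (hfl : Flat I.subschemeι) (U : X.affineOpens) :
    (I.subschemeι.app U).hom.Flat := by
  have hV : IsAffineOpen (I.subschemeι ⁻¹ᵁ U.1) := U.2.preimage I.subschemeι
  have := HasRingHomProperty.appLE (P := @Flat) I.subschemeι hfl U ⟨_, hV⟩ le_rfl
  rwa [← Scheme.Hom.app_eq_appLE] at this

theorem idem_ideal_of_flat (I : X.IdealSheafData) (hfl : Flat I.subschemeι) (U : X.affineOpens) :
    Idem (I.ideal U) := by
  have h := pure_ker_of_flat_of_surjective _ (flat_app_of_flat I hfl U)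
    (I.subschemeι_app_surjective U)
  rw [I.ker_subschemeι_app U] at h
  exact @idem_of_pure _ _ _ h

theorem flat_res (Z : Scheme.{u}) {V W : Z.Opens} (hV : IsAffineOpen V) (hW : IsAffineOpen W)
    (e : V ≤ W) : (Z.presheaf.map (homOfLE e).op).hom.Flat := by
  have h := HasRingHomProperty.appLE (P := @Flat) (𝟙 Z) inferInstance ⟨W, hW⟩ ⟨V, hV⟩ e
  have e1 : (𝟙 Z : Z ⟶ Z).appLE W V e = Z.presheaf.map (homOfLE e).op := by
    rw [Scheme.Hom.appLE, Scheme.Hom.id_app]
    exact Category.id_comp _
  rwa [e1] at h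

theorem flat_of_idem_ideal (I : X.IdealSheafData) (h : ∀ U, Idem (I.ideal U)) :
    Flat I.subschemeι := by
  rw [HasRingHomProperty.iff_appLE (P := @Flat)]
  intro U V e
  have hW : IsAffineOpen (I.subschemeι ⁻¹ᵁ U.1) := U.2.preimage I.subschemeι
  have h1 : (I.subschemeι.app U).hom.Flat := by
    apply flat_of_pure_ker_of_surjective _ _ (I.subschemeι_app_surjective U)
    rw [I.ker_subschemeι_app U]
    exact pure_of_idem (h U)
  have h2 := flat_res I.subscheme V.2 hW e
  have : (I.subschemeι.appLE U V e).hom =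
      (I.subscheme.presheaf.map (homOfLE e).op).hom.comp (I.subschemeι.app U).hom := rfl
  rw [this]
  exact h1.comp h2

/-- zero locus of the ideal on an affine chart in terms of the support -/
theorem zeroLocus_ideal_eq (I : X.IdealSheafData) (U : X.affineOpens) :
    PrimeSpectrum.zeroLocus (I.ideal U : Set Γ(X, U)) = U.2.fromSpec ⁻¹' (I.support : Set X) := by
  rw [← U.2.fromSpec_preimage_zeroLocus]
  ext p
  have hp : U.2.fromSpec p ∈ U.1 := by
    rw [← SetLike.mem_coe, ← U.2.range_fromSpec]; exact ⟨p, rfl⟩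
  rw [Set.mem_preimage, Set.mem_preimage, SetLike.mem_coe, I.mem_support_iff_of_mem hp]

theorem injOn_support (I I' : X.IdealSheafData) (hI : Flat I.subschemeι)
    (hI' : Flat I'.subschemeι) (h : I.support = I'.support) : I = I' := by
  apply Scheme.IdealSheafData.ext
  funext U
  apply idem_ext (idem_ideal_of_flat I hI U) (idem_ideal_of_flat I' hI' U)
  rw [zeroLocus_ideal_eq, zeroLocus_ideal_eq, h]

theorem stable_support (I : X.IdealSheafData) (hI : Flat I.subschemeι) :
    StableUnderGeneralization (I.support : Set X) := by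
  rw [← I.range_subschemeι]
  exact (Flat.generalizingMap I.subschemeι).stableUnderGeneralization_range

section Surj

variable (Z : Closeds X) (hZ : StableUnderGeneralization (Z : Set X))

include hZ in
theorem exists_idem_chart (U : X.affineOpens) :
    ∃ J : Ideal Γ(X, U), Idem J ∧
      PrimeSpectrum.zeroLocus (J : Set Γ(X, U)) = U.2.fromSpec ⁻¹' (Z : Set X) :=
  exists_idem_zeroLocus_eq (Z.isClosed.preimage U.2.fromSpec.continuous)
    (hZ.preimage U.2.fromSpec.continuous)

/-- the chartwise ideals -/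
noncomputable def chartIdeal (U : X.affineOpens) : Ideal Γ(X, U) :=
  (exists_idem_chart Z hZ U).choose

theorem idem_chartIdeal (U : X.affineOpens) : Idem (chartIdeal Z hZ U) :=
  (exists_idem_chart Z hZ U).choose_spec.1

theorem zeroLocus_chartIdeal (U : X.affineOpens) :
    PrimeSpectrum.zeroLocus (chartIdeal Z hZ U : Set Γ(X, U)) = U.2.fromSpec ⁻¹' (Z : Set X) :=
  (exists_idem_chart Z hZ U).choose_spec.2

theorem map_chartIdeal (U : X.affineOpens) (f : Γ(X, U)) :
    (chartIdeal Z hZ U).map (X.presheaf.map (homOfLE <| X.basicOpen_le f).op).hom =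
      chartIdeal Z hZ (X.affineBasicOpen f) := by
  have h1 : Idem ((chartIdeal Z hZ U).map
      (X.presheaf.map (homOfLE <| X.basicOpen_le f).op).hom) :=
    idem_map _ (idem_chartIdeal Z hZ U)
  have h2 := idem_chartIdeal Z hZ (X.affineBasicOpen f)
  have e1 := zeroLocus_chartIdeal Z hZ U
  have e2 := zeroLocus_chartIdeal Z hZ (X.affineBasicOpen f)
  have e3 : PrimeSpectrum.zeroLocus (((chartIdeal Z hZ U).map
      (X.presheaf.map (homOfLE <| X.basicOpen_le f).op).hom : Ideal Γ(X, X.basicOpen f)) :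
        Set Γ(X, X.basicOpen f)) =
      (X.affineBasicOpen f).2.fromSpec ⁻¹' (Z : Set X) := by
    rw [Ideal.map, PrimeSpectrum.zeroLocus_span, ← PrimeSpectrum.preimage_comap_zeroLocus, e1]
    have := U.2.map_fromSpec (X.affineBasicOpen f).2 (homOfLE <| X.basicOpen_le f).op
    ext p
    have hp : U.2.fromSpec (PrimeSpectrum.comap
        (X.presheaf.map (homOfLE <| X.basicOpen_le f).op).hom p) =
        (X.affineBasicOpen f).2.fromSpec p :=
      congrArg (fun g : Spec Γ(X, X.basicOpen f) ⟶ X => g p) this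
    show U.2.fromSpec (PrimeSpectrum.comap _ p) ∈ (Z : Set X) ↔
      (X.affineBasicOpen f).2.fromSpec p ∈ (Z : Set X)
    rw [hp]
  exact idem_ext h1 h2 (e3.trans e2.symm)

/-- the flat ideal sheaf with given support -/
noncomputable def idealOf : X.IdealSheafData :=
  Scheme.IdealSheafData.mkOfMemSupportIff (chartIdeal Z hZ) (map_chartIdeal Z hZ) (Z : Set X) (by
    intro U x hx
    have h1 := U.2.fromSpec_primeIdealOf ⟨x, hx⟩
    have h2 := zeroLocus_chartIdeal Z hZ U
    rw [← U.2.fromSpec_preimage_zeroLocus] at h2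
    have h3 : (U.2.fromSpec (U.2.primeIdealOf ⟨x, hx⟩) ∈
        X.zeroLocus (U := U.1) (chartIdeal Z hZ U : Set Γ(X, U))) ↔
        (U.2.fromSpec (U.2.primeIdealOf ⟨x, hx⟩) ∈ (Z : Set X)) :=
      Set.ext_iff.1 h2 (U.2.primeIdealOf ⟨x, hx⟩)
    rw [h1] at h3
    exact h3.symm)

theorem support_idealOf : (idealOf Z hZ).support = Z := by
  apply Closeds.ext
  rfl

theorem flat_idealOf : Flat (idealOf Z hZ).subschemeι :=
  flat_of_idem_ideal _ (fun U => idem_chartIdeal Z hZ U)

end Surj

/-- the factorization property -/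
theorem exists_lift (I : X.IdealSheafData) (hI : Flat I.subschemeι) (Y : Scheme.{u}) (g : Y ⟶ X)
    (hg : Set.range g.base ⊆ (I.support : Set X)) :
    ∃ g' : Y ⟶ I.subscheme, g' ≫ I.subschemeι = g := by
  have hle : I ≤ g.ker := by
    rw [Scheme.Hom.ker, Scheme.IdealSheafData.le_ofIdeals_iff]
    intro U s hs
    rw [RingHom.mem_ker]
    apply TopCat.Presheaf.section_ext Y.sheaf
    intro y hy
    have hy' : g y ∈ U.1 := hy
    have hsupp : g y ∈ I.support := hg ⟨y, rfl⟩
    -- the germ of `s` at `g y` vanishes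
    have hgerm : X.presheaf.germ U.1 (g y) hy' s = 0 := by
      letI := TopCat.Presheaf.algebra_section_stalk X.presheaf (⟨g y, hy'⟩ : U.1)
      haveI := U.2.isLocalization_stalk ⟨g y, hy'⟩
      have hp : I.ideal U ≤ (U.2.primeIdealOf ⟨g y, hy'⟩).asIdeal := by
        have : U.2.primeIdealOf ⟨g y, hy'⟩ ∈ PrimeSpectrum.zeroLocus (I.ideal U : Set Γ(X, U)) := by
          rw [zeroLocus_ideal_eq]
          show U.2.fromSpec (U.2.primeIdealOf ⟨g y, hy'⟩) ∈ (I.support : Set X)
          rw [U.2.fromSpec_primeIdealOf]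
          exact hsupp
        exact this
      have := idem_le_ker (idem_ideal_of_flat I hI U) hp (A := X.presheaf.stalk (g y)) hs
      exact RingHom.mem_ker.1 this
    have h4 := Scheme.Hom.germ_stalkMap_apply g U.1 y hy' s
    rw [hgerm, map_zero] at h4
    exact h4.symm.trans (map_zero _).symm
  refine ⟨IsClosedImmersion.lift I.subschemeι g (by rw [I.ker_subschemeι]; exact hle), ?_⟩
  exact IsClosedImmersion.lift_fac _ _ _

/-- S9351 -/
theorem S9351_main (X : Scheme.{u}) :
    Set.BijOn (fun I : X.IdealSheafData => I.support) {I : X.IdealSheafData | Flat I.subschemeι}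
        {Z : TopologicalSpace.Closeds ↑X | StableUnderGeneralization (Z : Set ↑X)} ∧
      ∀ I : X.IdealSheafData, Flat I.subschemeι → ∀ (Y : Scheme.{u}) (g : Y ⟶ X),
        Set.range g.base ⊆ (I.support : Set ↑X) → ∃ g' : Y ⟶ I.subscheme, g' ≫ I.subschemeι = g := by
  refine ⟨⟨?_, ?_, ?_⟩, fun I hI Y g hg => exists_lift I hI Y g hg⟩
  · intro I hI
    exact stable_support I hI
  · intro I hI I' hI' h
    exact injOn_support I I' hI hI' h
  · intro Z hZ
    exact ⟨idealOf Z hZ, flat_idealOf Z hZ, support_idealOf Z hZ⟩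

end Groth.Agent.Helper3.PureSub
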