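import Mathlib
import Groth.Prelude.Def_Fitting
import Groth.Prelude.Def_Coh
import Groth.Prelude.Def_CohB1
import Groth.Prelude.Def_FlatMod2
import Groth.Agent.Lib.Lead.FittSh
import Groth.Agent.Lib.Lead.FLF7
import Groth.Agent.Lib.Lead.SD2
import Groth.Agent.Lib.Helper3.FlatFLF1
import Groth.Agent.Lib.Helper3.PureSub2

/-!
# Finite type flat quasi-coherent modules are finite locally free when closed subsets stable under
generalization are open (helper3)
-/

set_option autoImplicit false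
universe u
open CategoryTheory CategoryTheory.Limits AlgebraicGeometry TopologicalSpace
set_option backward.isDefEq.respectTransparency.types false

namespace Groth.Agent.Helper3.FlatFLF

open Scheme.Modules Groth.Agent.Lead.SD Groth.Agent.Lead.FLF Groth.Agent.Lead.FittSh
  Groth.Agent.Helper4.Fitting Groth.Agent.Helper3.PureSub

variable {X : Scheme.{u}}

attribute [local instance] Groth.Agent.Lead.SD.stalkModule
attribute [local instance] Groth.Agent.Lead.SD.basicOpenModule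

theorem primeIdealOf_fromSpec {U : X.Opens} (hU : IsAffineOpen U) (q : PrimeSpectrum Γ(X, U))
    (hy : hU.fromSpec q ∈ U) : hU.primeIdealOf ⟨hU.fromSpec q, hy⟩ = q := by
  apply hU.fromSpec.isOpenEmbedding.injective
  exact hU.fromSpec_primeIdealOf ⟨_, hy⟩

theorem fromSpec_mem {U : X.Opens} (hU : IsAffineOpen U) (q : PrimeSpectrum Γ(X, U)) :
    hU.fromSpec q ∈ U := by
  rw [← SetLike.mem_coe, ← hU.range_fromSpec]; exact ⟨q, rfl⟩

theorem stable_of_charts (Z : Set X)
    (h : ∀ (U : X.Opens) (hU : IsAffineOpen U), StableUnderGeneralization (hU.fromSpec ⁻¹' Z)) :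
    StableUnderGeneralization Z := by
  intro x x' hx'x hx
  obtain ⟨_, ⟨U, hU0, rfl⟩, hxU, -⟩ := X.isBasis_affineOpens.exists_subset_of_mem_open
    (Set.mem_univ x) isOpen_univ
  have hU : IsAffineOpen U := hU0
  have hx'U : x' ∈ U := hx'x.mem_open U.2 hxU
  have e := hU.fromSpec_primeIdealOf ⟨x, hxU⟩
  have e' := hU.fromSpec_primeIdealOf ⟨x', hx'U⟩
  have hs : hU.primeIdealOf ⟨x', hx'U⟩ ⤳ hU.primeIdealOf ⟨x, hxU⟩ :=
    (hU.fromSpec.isOpenEmbedding.isInducing.specializes_iff).1 (by rw [e, e']; exact hx'x)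
  have h1 : hU.primeIdealOf ⟨x, hxU⟩ ∈ hU.fromSpec ⁻¹' Z := by
    show hU.fromSpec _ ∈ Z
    rw [e]; exact hx
  have h2 : hU.fromSpec (hU.primeIdealOf ⟨x', hx'U⟩) ∈ Z := h U hU hs h1
  rwa [e'] at h2

variable (F : X.Modules)

theorem fittPure_sections [F.IsQuasicoherent] (hft : CohB1.IsFT F) (hfl : FlatMod.IsFlat F)
    {U : X.Opens} (hU : IsAffineOpen U) : FittPure Γ(X, U) Γ(F, U) := by
  intro p hp k hk a ha
  haveI := ft_sections F hft hU
  let q : PrimeSpectrum Γ(X, U) := ⟨p, hp⟩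
  obtain ⟨x, hxdef⟩ : ∃ x : U, x = ⟨hU.fromSpec q, fromSpec_mem hU q⟩ := ⟨_, rfl⟩
  have hx : hU.primeIdealOf x = q := by
    rw [hxdef]; exact primeIdealOf_fromSpec hU q _
  haveI := hU.isLocalization_stalk x
  haveI := isLocalizedModule_germ F hU x
  haveI : Module.Flat (X.presheaf.stalk x.1) (F.presheaf.stalk x.1) := hfl x.1
  have hk' : Fitt.ideal Γ(X, U) Γ(F, U) k ≤ (hU.primeIdealOf x).asIdeal := by
    rw [hx]; exact hk
  have := exists_mul_eq_zero_of_flat (hU.primeIdealOf x).asIdeal (X.presheaf.stalk x.1)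
    (F.presheaf.stalk x.1) (germₗ F x) k hk' a ha
  rw [hx] at this
  exact this

/-- the rank strata -/
noncomputable def stratum (k : ℕ) : Closeds X := (Fitt.sheafIdeal F k).support

theorem zeroLocus_fitt_eq [F.IsQuasicoherent] (hft : CohB1.IsFT F) {U : X.Opens}
    (hU : IsAffineOpen U) (k : ℕ) :
    PrimeSpectrum.zeroLocus (Fitt.ideal Γ(X, U) Γ(F, U) k : Set Γ(X, U)) =
      hU.fromSpec ⁻¹' (stratum F k : Set X) := by
  rw [← sheafIdeal_ideal F hft k ⟨U, hU⟩]
  exact zeroLocus_ideal_eq _ ⟨U, hU⟩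

theorem isFinLocFree_of_flat
    (H : ∀ Z : Set X, IsClosed Z → StableUnderGeneralization Z → IsOpen Z)
    (hq : Coh.IsQCoh F) (hft : CohB1.IsFT F) (hfl : FlatMod.IsFlat F) :
    FlatMod.IsFinLocFree F := by
  haveI : F.IsQuasicoherent := hq
  have hpure := fun (U : X.Opens) (hU : IsAffineOpen U) => fittPure_sections F hft hfl hU
  have hstable : ∀ k, StableUnderGeneralization ((stratum F k : Closeds X) : Set X) := by
    intro k
    apply stable_of_charts
    intro U hU
    rw [← zeroLocus_fitt_eq F hft hU k]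
    exact (hpure U hU).stable k
  have hopen : ∀ k, IsOpen ((stratum F k : Closeds X) : Set X) :=
    fun k => H _ (stratum F k).isClosed (hstable k)
  apply Groth.Agent.Lead.FLF.isFinLocFree_of_affine_nhds
  intro x
  obtain ⟨_, ⟨U, hU0, rfl⟩, hxU, -⟩ := X.isBasis_affineOpens.exists_subset_of_mem_open
    (Set.mem_univ x) isOpen_univ
  have hU : IsAffineOpen U := hU0
  haveI := ft_sections F hft hU
  have hex : ∃ k, x ∉ (stratum F k : Set X) := by
    obtain ⟨n, g, hg⟩ := Module.Finite.exists_fin (R := Γ(X, U)) (M := Γ(F, U))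
    refine ⟨n, fun hx => ?_⟩
    have h1 : Fitt.ideal Γ(X, U) Γ(F, U) n = ⊤ := ideal_eq_top_of_span g hg n le_rfl
    have h2 : hU.primeIdealOf ⟨x, hxU⟩ ∈
        PrimeSpectrum.zeroLocus (Fitt.ideal Γ(X, U) Γ(F, U) n : Set Γ(X, U)) := by
      rw [zeroLocus_fitt_eq F hft hU n]
      show hU.fromSpec (hU.primeIdealOf ⟨x, hxU⟩) ∈ (stratum F n : Set X)
      rw [hU.fromSpec_primeIdealOf]; exact hx
    rw [h1] at h2
    simp at h2
  classical
  let r := Nat.find hex
  have hr : x ∉ (stratum F r : Set X) := Nat.find_spec hex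
  have hlt : ∀ k, k < r → x ∈ (stratum F k : Set X) := fun k hk =>
    not_not.1 (Nat.find_min hex hk : ¬ x ∉ (stratum F k : Set X))
  let W : Set X := (⋂ k ∈ Finset.range r, (stratum F k : Set X)) ∩ (stratum F r : Set X)ᶜ
  have hW : IsOpen W :=
    (isOpen_biInter_finset (fun k _ => hopen k)).inter (stratum F r).isClosed.isOpen_compl
  have hxW : x ∈ W := ⟨Set.mem_iInter₂.2 (fun k hk => hlt k (Finset.mem_range.1 hk)), hr⟩
  obtain ⟨f, hfW, hxf⟩ := hU.exists_basicOpen_le (V := ⟨W, hW⟩) ⟨x, hxW⟩ hxU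
  haveI := ft_sections F hft (hU.basicOpen f)
  haveI := hU.isLocalization_basicOpen f
  refine ⟨X.basicOpen f, hU.basicOpen f, hxf, inferInstance, ?_⟩
  have hpt : ∀ (q : PrimeSpectrum Γ(X, U)), f ∉ q.asIdeal → hU.fromSpec q ∈ W := by
    intro q hfq
    apply hfW
    have : q ∈ hU.fromSpec ⁻¹ᵁ X.basicOpen f := by
      rw [hU.fromSpec_preimage_basicOpen]; exact hfq
    exact this
  exact projective_of_fittPure (hpure U hU) f r
    (fun q hq hfq k hk => by
      have h1 := (hpt ⟨q, hq⟩ hfq).1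
      have h2 : hU.fromSpec ⟨q, hq⟩ ∈ (stratum F k : Set X) :=
        Set.mem_iInter₂.1 h1 k (Finset.mem_range.2 hk)
      have h3 : (⟨q, hq⟩ : PrimeSpectrum Γ(X, U)) ∈
          PrimeSpectrum.zeroLocus (Fitt.ideal Γ(X, U) Γ(F, U) k : Set Γ(X, U)) := by
        rw [zeroLocus_fitt_eq F hft hU k]; exact h2
      exact h3)
    (fun q hq hfq hle => by
      apply (hpt ⟨q, hq⟩ hfq).2
      have h3 : (⟨q, hq⟩ : PrimeSpectrum Γ(X, U)) ∈ hU.fromSpec ⁻¹' (stratum F r : Set X) := by
        rw [← zeroLocus_fitt_eq F hft hU r]; exact hle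
      exact h3)
    Γ(X, X.basicOpen f) Γ(F, X.basicOpen f) (resₗ F f) (isBaseChange_res F hU f)

end Groth.Agent.Helper3.FlatFLF
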