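import Mathlib
import Groth.Prelude.Def_ClSub2
import Groth.Agent.Lib.Helper1.IdealModL
import Groth.Agent.Lib.Helper1.PureId
import Groth.Agent.Lib.Helper3.FlatFLF2

/-!
# The converse direction of S9352 and the main statement (helper3)
-/

set_option autoImplicit false
universe u
open CategoryTheory CategoryTheory.Limits AlgebraicGeometry TopologicalSpace
set_option backward.isDefEq.respectTransparency.types false

namespace Groth.Agent.Helper3.FlatFLF

open Scheme.Modules Groth.Agent.Lead.SD Groth.Agent.Lead.FLF Groth.Agent.Helper3.PureSub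

variable {X : Scheme.{u}}

attribute [local instance] Groth.Agent.Lead.SD.stalkModule

section Conv

variable (I : X.IdealSheafData)

/-- the quotient map on sections as a linear map from the ring -/
noncomputable def quotLin (U : X.Opens) : Γ(X, U) →ₗ[Γ(X, U)] Γ(ClSub.quotMod I, U) where
  toFun r := (ClSub.toSubscheme I).app U (show Γ(Coh.structureModule X, U) from r)
  map_add' a b := map_add ((ClSub.toSubscheme I).app U).hom
    (show Γ(Coh.structureModule X, U) from a) (show Γ(Coh.structureModule X, U) from b)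
  map_smul' r s := Scheme.Modules.Hom.app_smul (ClSub.toSubscheme I) r
    (show Γ(Coh.structureModule X, U) from s)

theorem quotLin_apply (U : X.Opens) (r : Γ(X, U)) :
    quotLin I U r = (I.subschemeι.app U).hom r := rfl

theorem quotLin_surjective (U : X.affineOpens) : Function.Surjective (quotLin I U.1) :=
  I.subschemeι_app_surjective U

theorem ker_quotLin (U : X.affineOpens) : LinearMap.ker (quotLin I U.1) = I.ideal U := by
  ext r
  rw [LinearMap.mem_ker]
  show (I.subschemeι.app U.1).hom r = 0 ↔ r ∈ I.ideal U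
  rw [← RingHom.mem_ker, I.ker_subschemeι_app U]

/-- sections of the quotient module over an affine open -/
noncomputable def quotEquiv (U : X.affineOpens) :
    (Γ(X, U.1) ⧸ I.ideal U) ≃ₗ[Γ(X, U.1)] Γ(ClSub.quotMod I, U.1) :=
  (Submodule.quotEquivOfEq _ _ (ker_quotLin I U).symm).trans
    ((quotLin I U.1).quotKerEquivOfSurjective (quotLin_surjective I U))

theorem finite_quot (U : X.affineOpens) : Module.Finite Γ(X, U.1) Γ(ClSub.quotMod I, U.1) :=
  Module.Finite.of_surjective (quotLin I U.1) (quotLin_surjective I U)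

theorem isFT_quotMod : CohB1.IsFT (ClSub.quotMod I) :=
  isFT_of_ft_sections _ (fun U hU => finite_quot I ⟨U, hU⟩)

theorem isFlat_quotMod (h : ∀ U : X.affineOpens, Idem (I.ideal U)) :
    FlatMod.IsFlat (ClSub.quotMod I) := by
  intro x
  obtain ⟨_, ⟨U, hU0, rfl⟩, hxU, -⟩ := X.isBasis_affineOpens.exists_subset_of_mem_open
    (Set.mem_univ x) isOpen_univ
  have hU : IsAffineOpen U := hU0
  haveI : (I.ideal ⟨U, hU⟩).Pure := pure_of_idem (h ⟨U, hU⟩)
  haveI : Module.Flat Γ(X, U) Γ(ClSub.quotMod I, U) :=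
    Module.Flat.of_linearEquiv (quotEquiv I ⟨U, hU⟩).symm
  obtain ⟨y, hy⟩ : ∃ y : U, y.1 = x := ⟨⟨x, hxU⟩, rfl⟩
  subst hy
  haveI := hU.isLocalization_stalk y
  haveI := isLocalizedModule_germ (ClSub.quotMod I) hU y
  exact Module.Flat.of_isLocalizedModule (X.presheaf.stalk y.1)
    (hU.primeIdealOf y).asIdeal.primeCompl (germₗ (ClSub.quotMod I) y)

end Conv

/-- the converse direction -/
theorem isOpen_of_flf
    (hP : ∀ F : X.Modules, Coh.IsQCoh F → CohB1.IsFT F → FlatMod.IsFlat F → FlatMod.IsFinLocFree F)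
    (Z : Set X) (hZc : IsClosed Z) (hZ : StableUnderGeneralization Z) : IsOpen Z := by
  let Zc : Closeds X := ⟨Z, hZc⟩
  have hZ' : StableUnderGeneralization (Zc : Set X) := hZ
  let I := idealOf Zc hZ'
  have hI : ∀ U : X.affineOpens, Idem (I.ideal U) := fun U => idem_chartIdeal Zc hZ' U
  have hsupp : (I.support : Set X) = Z := congrArg (fun c : Closeds X => (c : Set X))
    (support_idealOf Zc hZ')
  have hflf := hP (ClSub.quotMod I) (Groth.Agent.Helper1.IdealModL.isQuasicoherent_quotMod I)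
    (isFT_quotMod I) (isFlat_quotMod I hI)
  rw [isFinLocFree_iff_affineOpens] at hflf
  -- `Z ∩ U` is open for every affine open `U`
  rw [isOpen_iff_forall_mem_open]
  intro x hx
  obtain ⟨_, ⟨U, hU0, rfl⟩, hxU, -⟩ := X.isBasis_affineOpens.exists_subset_of_mem_open
    (Set.mem_univ x) isOpen_univ
  have hU : IsAffineOpen U := hU0
  obtain ⟨-, hproj⟩ := hflf U hU
  have hproj' : Module.Projective Γ(X, U) (Γ(X, U) ⧸ I.ideal ⟨U, hU⟩) :=
    Module.Projective.of_equiv (quotEquiv I ⟨U, hU⟩).symm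
  have h32 : Module.Projective Γ(X, U) (Γ(X, U) ⧸ I.ideal ⟨U, hU⟩) →
      (I.ideal ⟨U, hU⟩).Pure ∧
        IsOpen (PrimeSpectrum.zeroLocus (I.ideal ⟨U, hU⟩ : Set Γ(X, U))) :=
    ((Groth.Agent.Helper1.PureId.S6354 Γ(X, U) (I.ideal ⟨U, hU⟩)).out 3 2).1
  have hopen : IsOpen (PrimeSpectrum.zeroLocus (I.ideal ⟨U, hU⟩ : Set Γ(X, U))) :=
    (h32 hproj').2
  rw [zeroLocus_ideal_eq I ⟨U, hU⟩, hsupp] at hopen
  refine ⟨hU.fromSpec '' (hU.fromSpec ⁻¹' Z), ?_, hU.fromSpec.isOpenEmbedding.isOpenMap _ hopen, ?_⟩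
  · rintro _ ⟨p, hp, rfl⟩
    exact hp
  · refine ⟨hU.primeIdealOf ⟨x, hxU⟩, ?_, hU.fromSpec_primeIdealOf ⟨x, hxU⟩⟩
    show hU.fromSpec (hU.primeIdealOf ⟨x, hxU⟩) ∈ Z
    rw [hU.fromSpec_primeIdealOf]; exact hx

/-- S9352 -/
theorem S9352_main (X : Scheme.{u}) :
    (∀ F : X.Modules, Coh.IsQCoh F → CohB1.IsFT F → FlatMod.IsFlat F → FlatMod.IsFinLocFree F) ↔
      ∀ Z : Set ↑X, IsClosed Z → StableUnderGeneralization Z → IsOpen Z :=
  ⟨fun hP Z hZc hZ => isOpen_of_flf hP Z hZc hZ,
    fun H F hq hft hfl => isFinLocFree_of_flat F H hq hft hfl⟩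

end Groth.Agent.Helper3.FlatFLF
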