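import Mathlib
import Groth.Prelude.Def_ArtFun2
import Groth.Prelude.Def_ArtFun3

set_option linter.style.haveILetI false

universe u v

open CategoryTheory

namespace Groth.Agent.Helper3.ArtFunLib

open ArtFun ArtFun.Art

section Length

variable {Λ : Type u} {k : Type u} [CommRing Λ] [Field k] [Algebra Λ k]

/-- `k` has finite length over `Λ` when `Λ → k` is finite. -/
theorem isFiniteLength_base [Module.Finite Λ k] : IsFiniteLength Λ k := by
  have hint : Algebra.IsIntegral Λ k := inferInstance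
  let I : Ideal Λ := (⊥ : Ideal k).comap (algebraMap Λ k)
  have : (⊥ : Ideal k).IsMaximal := Ideal.bot_isMaximal
  have hI : I.IsMaximal := Ideal.isMaximal_comap_of_isIntegral_of_isMaximal (R := Λ) (S := k) ⊥
  have htors : Module.IsTorsionBySet Λ k (I : Set Λ) := by
    intro x a
    have ha : algebraMap Λ k a = 0 := Ideal.mem_bot.1 (Ideal.mem_comap.1 a.2)
    rw [Algebra.smul_def, ha, zero_mul]
  let _ := Ideal.Quotient.field I
  let _ : Module (Λ ⧸ I) k := htors.module
  have : IsScalarTower Λ (Λ ⧸ I) k := htors.isScalarTower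
  have : Module.Finite (Λ ⧸ I) k := Module.Finite.of_restrictScalars_finite Λ (Λ ⧸ I) k
  rw [← Module.length_ne_top_iff, Module.length_eq_of_surjective (R := Λ ⧸ I) (S := Λ)
    Ideal.Quotient.mk_surjective]
  exact Module.length_ne_top

section Formula

variable (A : Type u) [CommRing A] [Algebra Λ A] [IsLocalRing A] [Algebra A k] [IsScalarTower Λ A k]

include A in
/-- a simple `A`-module is `Λ`-linearly isomorphic to `k` -/
theorem simple_equiv_base (hres : Function.Surjective (algebraMap A k))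
    (Q : Type v) [AddCommGroup Q] [Module A Q] [Module Λ Q] [IsScalarTower Λ A Q]
    [IsSimpleModule A Q] : Nonempty (Q ≃ₗ[Λ] k) := by
  obtain ⟨I, hI, ⟨e⟩⟩ := isSimpleModule_iff_quot_maximal.1 (show IsSimpleModule A Q from inferInstance)
  have hI' : I = IsLocalRing.maximalIdeal A := IsLocalRing.eq_maximalIdeal hI
  have hker : LinearMap.ker (Algebra.linearMap A k) = I := by
    have hmax : (RingHom.ker (algebraMap A k)).IsMaximal :=
      RingHom.ker_isMaximal_of_surjective (algebraMap A k) hres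
    rw [hI', ← IsLocalRing.eq_maximalIdeal hmax]
    rfl
  let e2 : (A ⧸ I) ≃ₗ[A] k :=
    (Submodule.quotEquivOfEq _ _ hker.symm).trans
      ((Algebra.linearMap A k).quotKerEquivOfSurjective hres)
  exact ⟨(e.trans e2).restrictScalars Λ⟩

theorem length_formula_aux (hres : Function.Surjective (algebraMap A k))
    {M : Type v} [AddCommGroup M] [Module A M] (h : IsFiniteLength A M) :
    ∀ [Module Λ M] [IsScalarTower Λ A M],
      Module.length Λ k * Module.length A M = Module.length Λ M := by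
  induction h with
  | @of_subsingleton M _ _ _ =>
    intro _ _
    rw [Module.length_eq_zero (R := A) (M := M), Module.length_eq_zero (R := Λ) (M := M), mul_zero]
  | @of_simple_quotient M _ _ N _ hN ih =>
    intro _ _
    have h1 : Module.length Λ M = Module.length Λ N + Module.length Λ (M ⧸ N) :=
      Module.length_eq_add_of_exact (N.subtype.restrictScalars Λ) (N.mkQ.restrictScalars Λ)
        (Submodule.subtype_injective _) (Submodule.mkQ_surjective _)
        (LinearMap.exact_subtype_mkQ N)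
    have h2 : Module.length A M = Module.length A N + Module.length A (M ⧸ N) :=
      Module.length_eq_add_of_exact N.subtype N.mkQ
        (Submodule.subtype_injective _) (Submodule.mkQ_surjective _)
        (LinearMap.exact_subtype_mkQ N)
    obtain ⟨e⟩ := simple_equiv_base (Λ := Λ) (k := k) A hres (M ⧸ N)
    rw [h1, h2, Module.length_eq_one A (M ⧸ N), mul_add, mul_one, ih, e.length_eq]

theorem length_formula (hres : Function.Surjective (algebraMap A k))
    (M : Type v) [AddCommGroup M] [Module A M] [Module Λ M] [IsScalarTower Λ A M] :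
    Module.length Λ k * Module.length A M = Module.length Λ M := by
  by_cases h : IsFiniteLength A M
  · exact length_formula_aux A hres h
  · have h1 : Module.length A M = ⊤ := by
      by_contra h'
      exact h (Module.length_ne_top_iff.1 h')
    have h2 : Module.length A M ≤ Module.length Λ M := by
      have := Submodule.length_le_length_restrictScalars Λ (⊤ : Submodule A M)
      rwa [Module.length_top, Submodule.restrictScalars_top, Module.length_top] at this
    have h3 : Module.length Λ k ≠ 0 := by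
      rw [Ne, Module.length_eq_zero_iff]
      exact not_subsingleton k
    rw [h1] at h2
    rw [h1, ENat.mul_top h3, eq_comm, ← top_le_iff]
    exact h2

end Formula

end Length

section Objects

variable {Λ : Type u} {k : Type u} [CommRing Λ] [Field k] [Algebra Λ k]

/-- every object of `Art Λ k` has finite length over `Λ` (for `Λ → k` finite) -/
theorem isFiniteLength_art [Module.Finite Λ k] (A : Art Λ k) : IsFiniteLength Λ A := by
  letI : Algebra A k := A.res.toRingHom.toAlgebra
  haveI : IsScalarTower Λ A k := IsScalarTower.of_algebraMap_eq (fun r => (A.res.commutes r).symm)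
  have h := length_formula (Λ := Λ) (k := k) A A.res_surjective A
  rw [← Module.length_ne_top_iff, ← h]
  exact WithTop.mul_ne_top (Module.length_ne_top_iff.2 isFiniteLength_base) Module.length_ne_top

theorem isArtinian_art [Module.Finite Λ k] (A : Art Λ k) : IsArtinian Λ A :=
  (isFiniteLength_iff_isNoetherian_isArtinian.1 (isFiniteLength_art A)).2

/-- A bijective morphism of `Art Λ k` is an isomorphism. -/
theorem isIso_of_bijective {A B : Art Λ k} (f : A ⟶ B) (hf : Function.Bijective f) : IsIso f := by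
  let e : A ≃ₐ[Λ] B := AlgEquiv.ofBijective f.toAlgHom hf
  refine ⟨⟨⟨(e.symm : B →ₐ[Λ] A), ?_⟩, ?_, ?_⟩⟩
  · apply AlgHom.ext
    intro b
    obtain ⟨a, rfl⟩ := hf.2 b
    change A.res (e.symm (e a)) = B.res (f a)
    rw [e.symm_apply_apply, Art.res_app]
  · apply Art.hom_ext
    apply AlgHom.ext
    intro a
    exact e.symm_apply_apply a
  · apply Art.hom_ext
    apply AlgHom.ext
    intro b
    exact e.apply_symm_apply b

theorem bijective_of_isIso {A B : Art Λ k} (f : A ⟶ B) [IsIso f] : Function.Bijective f := by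
  refine ⟨fun a a' h => ?_, fun b => ⟨inv f b, ?_⟩⟩
  · have : (f ≫ inv f) a = (f ≫ inv f) a' := by
      rw [Art.comp_apply, Art.comp_apply, h]
    rwa [IsIso.hom_inv_id, Art.id_apply, Art.id_apply] at this
  · have : (inv f ≫ f) b = b := by rw [IsIso.inv_hom_id, Art.id_apply]
    exact this

end Objects

section FibreProd

variable {Λ : Type u} {k : Type u} [CommRing Λ] [Field k] [Algebra Λ k]
variable {A A₁ A₂ : Art Λ k}

/-- The fibre product `A₁ ×_A A₂` as an object, for `f₂` surjective. -/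
noncomputable def fibreProd [Module.Finite Λ k] (f₁ : A₁ ⟶ A) (f₂ : A₂ ⟶ A)
    (hf₂ : Function.Surjective f₂) : Art Λ k :=
  haveI : IsLocalHom f₂.toAlgHom := Art.isLocalHom f₂
  haveI : IsLocalRing (AlgHom.pullback f₁.toAlgHom f₂.toAlgHom) :=
    AlgHom.isLocalRing_pullback f₁.toAlgHom f₂.toAlgHom
  haveI : IsArtinian Λ A₁ := isArtinian_art A₁
  haveI : IsArtinian Λ A₂ := isArtinian_art A₂
  haveI : IsArtinian Λ (AlgHom.pullback f₁.toAlgHom f₂.toAlgHom) :=
    isArtinian_of_injective (AlgHom.pullback f₁.toAlgHom f₂.toAlgHom).val.toLinearMap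
      Subtype.val_injective
  { carrier := AlgHom.pullback f₁.toAlgHom f₂.toAlgHom
    isArtinianRing := isArtinian_of_tower Λ inferInstance
    res := A₁.res.comp (AlgHom.pullbackFst f₁.toAlgHom f₂.toAlgHom)
    res_surjective := A₁.res_surjective.comp
      (AlgHom.surjective_pullbackFst_of_surjective f₁.toAlgHom f₂.toAlgHom hf₂) }

variable [Module.Finite Λ k] (f₁ : A₁ ⟶ A) (f₂ : A₂ ⟶ A) (hf₂ : Function.Surjective f₂)

/-- first projection -/
noncomputable def fibreProdFst : fibreProd f₁ f₂ hf₂ ⟶ A₁ :=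
  ⟨AlgHom.pullbackFst f₁.toAlgHom f₂.toAlgHom, rfl⟩

/-- second projection -/
noncomputable def fibreProdSnd : fibreProd f₁ f₂ hf₂ ⟶ A₂ :=
  ⟨AlgHom.pullbackSnd f₁.toAlgHom f₂.toAlgHom, by
    apply AlgHom.ext
    intro (x : AlgHom.pullback f₁.toAlgHom f₂.toAlgHom)
    change A₂.res (x : A₁ × A₂).2 = A₁.res (x : A₁ × A₂).1
    have hx : f₁ (x : A₁ × A₂).1 = f₂ (x : A₁ × A₂).2 := x.2
    rw [← Art.res_app f₂, ← hx, Art.res_app]⟩

theorem isFibreProd_fibreProd :
    IsFibreProd (fibreProdFst f₁ f₂ hf₂) (fibreProdSnd f₁ f₂ hf₂) f₁ f₂ where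
  w := by
    apply Art.hom_ext
    exact AlgHom.pullback_comm_sq f₁.toAlgHom f₂.toAlgHom
  inj b₁ b₂ h₁ h₂ := Subtype.ext (Prod.ext h₁ h₂)
  surj a' a'' h := ⟨⟨(a', a''), h⟩, rfl, rfl⟩

end FibreProd

section Lift

variable {Λ : Type u} {k : Type u} [CommRing Λ] [Field k] [Algebra Λ k]
variable {B A A' A'' C : Art Λ k} {p' : B ⟶ A'} {p'' : B ⟶ A''} {f' : A' ⟶ A} {f'' : A'' ⟶ A}

/-- the universal property of a pinned fibre product (existence part) -/
theorem IsFibreProd.exists_lift (h : IsFibreProd p' p'' f' f'') (g' : C ⟶ A') (g'' : C ⟶ A'')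
    (hg : g' ≫ f' = g'' ≫ f'') : ∃ g : C ⟶ B, g ≫ p' = g' ∧ g ≫ p'' = g'' := by
  have hc : ∀ c : C, f' (g' c) = f'' (g'' c) := fun c => by
    change (g' ≫ f') c = (g'' ≫ f'') c
    rw [hg]
  choose φ hφ₁ hφ₂ using fun c => h.surj (g' c) (g'' c) (hc c)
  have hext : ∀ b₁ b₂ : B, p' b₁ = p' b₂ → p'' b₁ = p'' b₂ → b₁ = b₂ := h.inj
  let φa : C →ₐ[Λ] B :=
    { toFun := φ
      map_one' := hext _ _ (by rw [hφ₁, map_one, map_one]) (by rw [hφ₂, map_one, map_one])
      map_mul' := fun x y => hext _ _ (by rw [hφ₁, map_mul, map_mul, hφ₁, hφ₁])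
        (by rw [hφ₂, map_mul, map_mul, hφ₂, hφ₂])
      map_zero' := hext _ _ (by rw [hφ₁, map_zero, map_zero]) (by rw [hφ₂, map_zero, map_zero])
      map_add' := fun x y => hext _ _ (by rw [hφ₁, map_add, map_add, hφ₁, hφ₁])
        (by rw [hφ₂, map_add, map_add, hφ₂, hφ₂])
      commutes' := fun r => hext _ _
        (by rw [hφ₁]; exact (g'.toAlgHom.commutes r).trans (p'.toAlgHom.commutes r).symm)
        (by rw [hφ₂]; exact (g''.toAlgHom.commutes r).trans (p''.toAlgHom.commutes r).symm) }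
  refine ⟨⟨φa, ?_⟩, ?_, ?_⟩
  · apply AlgHom.ext
    intro c
    change B.res (φ c) = C.res c
    rw [← Art.res_app p', hφ₁, Art.res_app]
  · apply Art.hom_ext
    apply AlgHom.ext
    intro c
    exact hφ₁ c
  · apply Art.hom_ext
    apply AlgHom.ext
    intro c
    exact hφ₂ c

theorem IsFibreProd.hom_ext (h : IsFibreProd p' p'' f' f'') {g₁ g₂ : C ⟶ B}
    (h₁ : g₁ ≫ p' = g₂ ≫ p') (h₂ : g₁ ≫ p'' = g₂ ≫ p'') : g₁ = g₂ := by
  apply Art.hom_ext
  apply AlgHom.ext
  intro c
  apply h.inj
  · change (g₁ ≫ p') c = (g₂ ≫ p') c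
    rw [h₁]
  · change (g₁ ≫ p'') c = (g₂ ≫ p'') c
    rw [h₂]

end Lift

section SmallInduction

variable {Λ : Type u} {k : Type u} [CommRing Λ] [Field k] [Algebra Λ k]

theorem ker_le_maximalIdeal {A B : Art Λ k} (f : B ⟶ A) :
    RingHom.ker f.toAlgHom ≤ IsLocalRing.maximalIdeal B := by
  intro x hx
  rw [Art.mem_maximalIdeal_iff, ← Art.res_app f]
  have : f x = 0 := hx
  rw [this, map_zero]

theorem exists_pow_maximalIdeal_eq_bot (B : Art Λ k) :
    ∃ n : ℕ, IsLocalRing.maximalIdeal B ^ n = ⊥ := by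
  have h := IsArtinianRing.isNilpotent_jacobson_bot (R := B)
  rw [IsLocalRing.jacobson_eq_maximalIdeal ⊥ bot_ne_top] at h
  obtain ⟨n, hn⟩ := h
  exact ⟨n, hn⟩

/-- socle element between two ideals -/
theorem exists_socle (B : Art Λ k) {K I : Ideal B} (hKI : K < I) :
    ∃ x ∈ I, x ∉ K ∧ ∀ y ∈ IsLocalRing.maximalIdeal B, y * x ∈ K := by
  classical
  obtain ⟨N, hN⟩ := exists_pow_maximalIdeal_eq_bot B
  have hex : ∃ n : ℕ, IsLocalRing.maximalIdeal B ^ n * I ≤ K := ⟨N, by rw [hN, Ideal.bot_mul]; exact bot_le⟩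
  have hfind := Nat.find_spec hex
  have hmin := fun m => Nat.find_min hex (m := m)
  cases hn : Nat.find hex with
  | zero =>
    rw [hn, pow_zero, one_mul] at hfind
    exact absurd hfind (not_le_of_gt hKI)
  | succ n =>
    have h1 : ¬ IsLocalRing.maximalIdeal B ^ n * I ≤ K := hmin n (by rw [hn]; exact Nat.lt_succ_self n)
    obtain ⟨x, hx, hxK⟩ := SetLike.not_le_iff_exists.1 h1
    refine ⟨x, Ideal.mul_le_right hx, hxK, fun y hy => ?_⟩
    rw [hn] at hfind
    apply hfind
    rw [pow_succ', mul_assoc]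
    exact Ideal.mul_mem_mul hy hx

theorem quotMk_eq_zero_iff (B : Art Λ k) (K : Ideal B) (hK : K ≤ IsLocalRing.maximalIdeal B) (b : B) :
    Art.quotMk B K hK b = 0 ↔ b ∈ K :=
  Ideal.Quotient.eq_zero_iff_mem

theorem ker_quotMk (B : Art Λ k) (K : Ideal B) (hK : K ≤ IsLocalRing.maximalIdeal B) :
    RingHom.ker (Art.quotMk B K hK).toAlgHom = K := by
  ext x
  exact quotMk_eq_zero_iff B K hK x

theorem quotFactor_quotMk {C D : Art Λ k} {K : Ideal C} (hK : K ≤ IsLocalRing.maximalIdeal C)
    (p : C ⟶ D) (hp : K ≤ RingHom.ker p.toAlgHom) (c : C) :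
    Art.quotFactor hK p hp (Art.quotMk C K hK c) = p c := rfl

/-- the step map `B/K → B/K'` for `K ≤ K'` -/
noncomputable def quotQuot (B : Art Λ k) {K K' : Ideal B} (hK' : K' ≤ IsLocalRing.maximalIdeal B)
    (hKK' : K ≤ K') : Art.quot B K (hKK'.trans hK') ⟶ Art.quot B K' hK' :=
  Art.quotFactor (hKK'.trans hK') (Art.quotMk B K' hK') (by rw [ker_quotMk]; exact hKK')

theorem quotQuot_quotMk (B : Art Λ k) {K K' : Ideal B} (hK' : K' ≤ IsLocalRing.maximalIdeal B)
    (hKK' : K ≤ K') (b : B) :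
    quotQuot B hK' hKK' (Art.quotMk B K (hKK'.trans hK') b) = Art.quotMk B K' hK' b := rfl

theorem mem_maximalIdeal_quot {B : Art Λ k} {K : Ideal B} (hK : K ≤ IsLocalRing.maximalIdeal B)
    (b : B) : Art.quotMk B K hK b ∈ IsLocalRing.maximalIdeal (Art.quot B K hK) ↔
      b ∈ IsLocalRing.maximalIdeal B := by
  rw [Art.mem_maximalIdeal_iff, Art.mem_maximalIdeal_iff, Art.res_app]

theorem isSmallExt_quotQuot (B : Art Λ k) {K : Ideal B} (hK : K ≤ IsLocalRing.maximalIdeal B)
    {x : B} (hx : x ∈ IsLocalRing.maximalIdeal B) (hxK : x ∉ K)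
    (hmx : ∀ y ∈ IsLocalRing.maximalIdeal B, y * x ∈ K) :
    IsSmallExt (quotQuot B (K' := K ⊔ Ideal.span {x})
      (sup_le hK ((Ideal.span_singleton_le_iff_mem _).2 hx)) le_sup_left) := by
  have hK' : K ⊔ Ideal.span {x} ≤ IsLocalRing.maximalIdeal B :=
    sup_le hK ((Ideal.span_singleton_le_iff_mem _).2 hx)
  have hker : RingHom.ker (quotQuot B hK' le_sup_left).toAlgHom =
      Ideal.span {Art.quotMk B K hK x} := by
    apply le_antisymm
    · intro z hz
      obtain ⟨b, rfl⟩ := Art.quotMk_surjective B K hK z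
      have hb : b ∈ K ⊔ Ideal.span {x} := by
        have : Art.quotMk B _ hK' b = 0 := hz
        exact (quotMk_eq_zero_iff B _ hK' b).1 this
      obtain ⟨c, hc, d, hd, rfl⟩ := Submodule.mem_sup.1 hb
      obtain ⟨r, rfl⟩ := Ideal.mem_span_singleton'.1 hd
      have e1 : Art.quotMk B K hK (c + r * x) = Art.quotMk B K hK r * Art.quotMk B K hK x := by
        rw [map_add, map_mul, (quotMk_eq_zero_iff B K hK c).2 hc, zero_add]
      rw [e1]
      exact Ideal.mul_mem_left _ _ (Ideal.subset_span rfl)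
    · rw [Ideal.span_singleton_le_iff_mem, RingHom.mem_ker]
      change Art.quotMk B _ hK' x = 0
      exact (quotMk_eq_zero_iff B _ hK' x).2 (le_sup_right (a := K) (Ideal.subset_span rfl))
  refine ⟨?_, ?_, ?_, ?_⟩
  · intro z
    obtain ⟨b, rfl⟩ := Art.quotMk_surjective B _ hK' z
    exact ⟨Art.quotMk B K hK b, rfl⟩
  · rw [hker, Ne, Ideal.span_singleton_eq_bot]
    exact fun h => hxK ((quotMk_eq_zero_iff B K hK x).1 h)
  · rw [hker]
    exact ⟨⟨_, rfl⟩⟩
  · rw [hker, eq_bot_iff, Ideal.mul_le]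
    intro y hy z hz
    obtain ⟨y₀, rfl⟩ := Art.quotMk_surjective B K hK y
    obtain ⟨r, rfl⟩ := Ideal.mem_span_singleton'.1 hz
    obtain ⟨r₀, rfl⟩ := Art.quotMk_surjective B K hK r
    rw [mem_maximalIdeal_quot] at hy
    rw [Ideal.mem_bot, ← map_mul, ← map_mul, quotMk_eq_zero_iff]
    have : y₀ * (r₀ * x) = r₀ * (y₀ * x) := by ring
    rw [this]
    exact Ideal.mul_mem_left _ _ (hmx y₀ hy)

theorem smallExt_induction
    (P : ∀ ⦃A B : Art Λ k⦄, (B ⟶ A) → Prop)
    (hiso : ∀ ⦃A B : Art Λ k⦄ (e : B ⟶ A), IsIso e → P e)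
    (hsmall : ∀ ⦃A B : Art Λ k⦄ (p : B ⟶ A), IsSmallExt p → P p)
    (hcomp : ∀ ⦃A B C : Art Λ k⦄ (p : C ⟶ B) (q : B ⟶ A), P p → P q → P (p ≫ q))
    ⦃A B : Art Λ k⦄ (f : B ⟶ A) (hf : Function.Surjective f) : P f := by
  have hkm := ker_le_maximalIdeal f
  have key : ∀ K : Ideal B, ∀ hK : K ≤ RingHom.ker f.toAlgHom,
      P (Art.quotFactor (hK.trans hkm) f hK) := by
    intro K
    induction K using WellFoundedGT.induction with
    | ind K ih =>
      intro hK
      rcases eq_or_lt_of_le hK with heq | hlt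
      · -- bijective
        apply hiso
        apply isIso_of_bijective
        constructor
        · rw [injective_iff_map_eq_zero]
          intro z hz
          obtain ⟨b, rfl⟩ := Art.quotMk_surjective B K (hK.trans hkm) z
          have hb : f b = 0 := hz
          have : b ∈ K := by rw [heq]; exact hb
          exact (quotMk_eq_zero_iff B K _ b).2 this
        · intro a
          obtain ⟨b, rfl⟩ := hf a
          exact ⟨Art.quotMk B K (hK.trans hkm) b, rfl⟩
      · obtain ⟨x, hxI, hxK, hmx⟩ := exists_socle B hlt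
        have hxm : x ∈ IsLocalRing.maximalIdeal B := hkm hxI
        have hK'le : K ⊔ Ideal.span {x} ≤ RingHom.ker f.toAlgHom :=
          sup_le hK ((Ideal.span_singleton_le_iff_mem _).2 hxI)
        have hlt' : K < K ⊔ Ideal.span {x} := by
          refine lt_of_le_of_ne le_sup_left (fun h => hxK ?_)
          rw [h]
          exact le_sup_right (a := K) (Ideal.subset_span rfl)
        have h1 := ih _ hlt' hK'le
        have h2 := hsmall _ (isSmallExt_quotQuot B (hK.trans hkm) hxm hxK hmx)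
        have h3 := hcomp _ _ h2 h1
        convert h3 using 1
        apply Art.hom_ext
        apply AlgHom.ext
        intro z
        obtain ⟨b, rfl⟩ := Art.quotMk_surjective B K (hK.trans hkm) z
        rfl
  have h0 := key ⊥ bot_le
  have hmk : P (Art.quotMk B ⊥ (bot_le)) := by
    apply hiso
    apply isIso_of_bijective
    constructor
    · rw [injective_iff_map_eq_zero]
      intro b hb
      exact Ideal.mem_bot.1 ((quotMk_eq_zero_iff B ⊥ bot_le b).1 hb)
    · exact Art.quotMk_surjective _ _ _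
  have := hcomp _ _ hmk h0
  rwa [Art.quotMk_quotFactor] at this

end SmallInduction

end Groth.Agent.Helper3.ArtFunLib
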