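import Mathlib
import Groth.Agent.Lib.Helper3.ArtFunA

set_option linter.style.haveILetI false

universe u v w

open CategoryTheory

namespace Groth.Agent.Helper3.ArtFunLib

open ArtFun ArtFun.Art

variable {Λ : Type u} {k : Type u} [CommRing Λ] [Field k] [Algebra Λ k]

theorem map_comp_app (F : Art Λ k ⥤ Type v) {X Y Z : Art Λ k} (f : X ⟶ Y) (g : Y ⟶ Z)
    (a : F.obj X) : F.map (f ≫ g) a = F.map g (F.map f a) := by
  rw [F.map_comp]; rfl

theorem map_id_app (F : Art Λ k ⥤ Type v) {X : Art Λ k} (a : F.obj X) : F.map (𝟙 X) a = a := by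
  rw [F.map_id]; rfl

theorem map_inv_map (F : Art Λ k ⥤ Type v) {X Y : Art Λ k} (e : X ⟶ Y) [IsIso e] (a : F.obj Y) :
    F.map e (F.map (inv e) a) = a := by
  rw [← map_comp_app, IsIso.inv_hom_id, map_id_app]

theorem map_map_inv (F : Art Λ k ⥤ Type v) {X Y : Art Λ k} (e : X ⟶ Y) [IsIso e] (a : F.obj X) :
    F.map (inv e) (F.map e a) = a := by
  rw [← map_comp_app, IsIso.hom_inv_id, map_id_app]

section Smooth

variable {F G H : Art Λ k ⥤ Type v}

theorem isSmooth_comp (φ : F ⟶ G) (ψ : G ⟶ H) (hφ : IsSmooth φ) (hψ : IsSmooth ψ) :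
    IsSmooth (φ ≫ ψ) := by
  intro B A μ hμ ⟨⟨x, w⟩, hxw⟩
  have hxw' : ψ.app A (φ.app A x) = H.map μ w := hxw
  obtain ⟨y, hy⟩ := hψ μ hμ ⟨(φ.app A x, w), hxw'⟩
  have hy1 : G.map μ y = φ.app A x := congrArg (fun t => t.1.1) hy
  have hy2 : ψ.app B y = w := congrArg (fun t => t.1.2) hy
  obtain ⟨z, hz⟩ := hφ μ hμ ⟨(x, y), hy1.symm⟩
  have hz1 : F.map μ z = x := congrArg (fun t => t.1.1) hz
  have hz2 : φ.app B z = y := congrArg (fun t => t.1.2) hz
  refine ⟨z, Subtype.ext (Prod.ext hz1 ?_)⟩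
  change ψ.app B (φ.app B z) = w
  rw [hz2, hy2]

theorem isSmooth_of_comp_of_surjective (φ : F ⟶ G) (ψ : G ⟶ H)
    (hφ : ∀ A : Art Λ k, Function.Surjective (φ.app A)) (h : IsSmooth (φ ≫ ψ)) : IsSmooth ψ := by
  intro B A μ hμ ⟨⟨y, w⟩, hyw⟩
  have hyw' : ψ.app A y = H.map μ w := hyw
  obtain ⟨x, rfl⟩ := hφ A y
  obtain ⟨z, hz⟩ := h μ hμ ⟨(x, w), hyw'⟩
  have hz1 : F.map μ z = x := congrArg (fun t => t.1.1) hz
  have hz2 : ψ.app B (φ.app B z) = w := congrArg (fun t => t.1.2) hz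
  refine ⟨φ.app B z, Subtype.ext (Prod.ext ?_ hz2)⟩
  change G.map μ (φ.app B z) = φ.app A x
  rw [← NatTrans.naturality_apply, hz1]

theorem surjective_toBase (A : Art Λ k) : Function.Surjective (toBase A) := A.res_surjective

theorem surjective_app_of_isSmooth (η : F ⟶ G) (hη : IsSmooth η)
    (h0 : Function.Surjective (η.app (base Λ k))) (A : Art Λ k) :
    Function.Surjective (η.app A) := by
  intro y
  obtain ⟨x₀, hx₀⟩ := h0 (G.map (toBase A) y)
  obtain ⟨z, hz⟩ := hη (toBase A) (surjective_toBase A) ⟨(x₀, y), hx₀⟩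
  exact ⟨z, congrArg (fun t => t.1.2) hz⟩

theorem isSmooth_of_smallExt (η : F ⟶ G)
    (h : ∀ ⦃B A : Art Λ k⦄ (μ : B ⟶ A), IsSmallExt μ → Function.Surjective (relCmp η μ)) :
    IsSmooth η := by
  intro B A μ hμ
  refine smallExt_induction (fun A B μ => Function.Surjective (relCmp η μ)) ?_
    (fun A B p hp => h p hp) ?_ μ hμ
  · intro A B e he ⟨⟨x, y⟩, hxy⟩
    have hxy' : η.app A x = G.map e y := hxy
    refine ⟨F.map (inv e) x, Subtype.ext (Prod.ext ?_ ?_)⟩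
    · change F.map e (F.map (inv e) x) = x
      rw [← map_comp_app, IsIso.inv_hom_id, map_id_app]
    · change η.app B (F.map (inv e) x) = y
      rw [NatTrans.naturality_apply, hxy', ← map_comp_app, IsIso.hom_inv_id,
        map_id_app]
  · intro A B C p q hp hq ⟨⟨x, y⟩, hxy⟩
    have hxy' : η.app A x = G.map (p ≫ q) y := hxy
    rw [map_comp_app] at hxy'
    obtain ⟨z', hz'⟩ := hq ⟨(x, G.map p y), hxy'⟩
    have hz'1 : F.map q z' = x := congrArg (fun t => t.1.1) hz'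
    have hz'2 : η.app B z' = G.map p y := congrArg (fun t => t.1.2) hz'
    obtain ⟨z, hz⟩ := hp ⟨(z', y), hz'2⟩
    have hz1 : F.map p z = z' := congrArg (fun t => t.1.1) hz
    have hz2 : η.app C z = y := congrArg (fun t => t.1.2) hz
    refine ⟨z, Subtype.ext (Prod.ext ?_ hz2)⟩
    change F.map (p ≫ q) z = x
    rw [map_comp_app, hz1, hz'1]

end Smooth

section Coef

variable {A' : Art Λ k}

/-- coefficient of `j` with respect to a socle generator `t`: `coef t (r * t) = res r` -/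
noncomputable def coef (t : A') (j : A') : k :=
  open Classical in if h : ∃ r : A', r * t = j then A'.res (Classical.choose h) else 0

theorem coef_mul {t : A'} (ht : t ≠ 0) (r : A') :
    coef t (r * t) = A'.res r := by
  have h : ∃ r' : A', r' * t = r * t := ⟨r, rfl⟩
  rw [coef, dif_pos h]
  have hc := Classical.choose_spec h
  set r' := Classical.choose h
  have h0 : (r' - r) * t = 0 := by rw [sub_mul, hc, sub_self]
  have hmem : r' - r ∈ IsLocalRing.maximalIdeal A' := by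
    by_contra hnot
    have hu : IsUnit (r' - r) := by
      by_contra hnu
      exact hnot ((IsLocalRing.mem_maximalIdeal _).2 hnu)
    exact ht ((hu.mul_right_eq_zero).1 h0)
  rw [Art.mem_maximalIdeal_iff, map_sub, sub_eq_zero] at hmem
  exact hmem

theorem coef_zero {t : A'} (ht : t ≠ 0) : coef t 0 = 0 := by
  have := coef_mul ht 0
  rwa [zero_mul, map_zero] at this

theorem coef_add {t : A'} (ht : t ≠ 0) {j j' : A'} (hj : j ∈ Ideal.span {t})
    (hj' : j' ∈ Ideal.span {t}) : coef t (j + j') = coef t j + coef t j' := by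
  obtain ⟨r, rfl⟩ := Ideal.mem_span_singleton'.1 hj
  obtain ⟨r', rfl⟩ := Ideal.mem_span_singleton'.1 hj'
  rw [← add_mul, coef_mul ht, coef_mul ht, coef_mul ht, map_add]

theorem coef_smul {t : A'} (ht : t ≠ 0) (a : A') {j : A'} (hj : j ∈ Ideal.span {t}) :
    coef t (a * j) = A'.res a * coef t j := by
  obtain ⟨r, rfl⟩ := Ideal.mem_span_singleton'.1 hj
  rw [← mul_assoc, coef_mul ht, coef_mul ht, map_mul]

theorem coef_neg {t : A'} (ht : t ≠ 0) {j : A'} (hj : j ∈ Ideal.span {t}) :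
    coef t (-j) = - coef t j := by
  obtain ⟨r, rfl⟩ := Ideal.mem_span_singleton'.1 hj
  rw [← neg_mul, coef_mul ht, coef_mul ht, map_neg]

theorem eq_zero_of_coef_eq_zero {t : A'} (ht : t ≠ 0)
    (hm : ∀ y ∈ IsLocalRing.maximalIdeal A', y * t = 0) {j : A'} (hj : j ∈ Ideal.span {t})
    (h : coef t j = 0) : j = 0 := by
  obtain ⟨r, rfl⟩ := Ideal.mem_span_singleton'.1 hj
  rw [coef_mul ht] at h
  exact hm r ((Art.mem_maximalIdeal_iff A' r).2 h)

theorem exists_coef_eq {t : A'} (ht : t ≠ 0) (c : k) : ∃ j ∈ Ideal.span {t}, coef t j = c := by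
  obtain ⟨r, rfl⟩ := A'.res_surjective c
  exact ⟨r * t, Ideal.mul_mem_left _ _ (Ideal.subset_span rfl), coef_mul ht r⟩

end Coef

section Theta

variable {A' A P Q : Art Λ k} {μ : A' ⟶ A} {p₁ p₂ : P ⟶ A'}

/-- the "difference" morphism `A' ×_A A' → k[ε]`, `(a, b) ↦ res a + coef (b - a) ε` -/
noncomputable def diffHom (hP : IsFibreProd p₁ p₂ μ μ) {t : A'} (ht : t ≠ 0)
    (hker : RingHom.ker μ.toAlgHom = Ideal.span {t}) : P ⟶ dual Λ k := by
  have hmem : ∀ x : P, p₂ x - p₁ x ∈ Ideal.span {t} := fun x => by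
    rw [← hker, RingHom.mem_ker, map_sub, sub_eq_zero]
    exact (hP.w_apply x).symm
  have hres : ∀ x : P, A'.res (p₂ x) = A'.res (p₁ x) := fun x => by
    rw [Art.res_app, Art.res_app]
  refine ⟨{ toFun := fun x => (A'.res (p₁ x), coef t (p₂ x - p₁ x))
            map_one' := ?_, map_mul' := ?_, map_zero' := ?_, map_add' := ?_, commutes' := ?_ }, ?_⟩
  · refine TrivSqZeroExt.ext ?_ ?_
    · change A'.res (p₁ 1) = 1
      rw [map_one, map_one]
    · change coef t (p₂ 1 - p₁ 1) = 0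
      rw [map_one, map_one, sub_self, coef_zero ht]
  · intro x y
    refine TrivSqZeroExt.ext ?_ ?_
    · change A'.res (p₁ (x * y)) = A'.res (p₁ x) * A'.res (p₁ y)
      rw [map_mul, map_mul]
    · change coef t (p₂ (x * y) - p₁ (x * y)) =
        A'.res (p₁ x) • coef t (p₂ y - p₁ y) + MulOpposite.op (A'.res (p₁ y)) • coef t (p₂ x - p₁ x)
      have e : p₂ (x * y) - p₁ (x * y) = p₂ x * (p₂ y - p₁ y) + p₁ y * (p₂ x - p₁ x) := by
        rw [map_mul, map_mul]; ring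
      rw [e, coef_add ht (Ideal.mul_mem_left _ _ (hmem y)) (Ideal.mul_mem_left _ _ (hmem x)),
        coef_smul ht _ (hmem y), coef_smul ht _ (hmem x), hres x]
      simp only [smul_eq_mul, MulOpposite.smul_eq_mul_unop, MulOpposite.unop_op]
      ring
  · refine TrivSqZeroExt.ext ?_ ?_
    · change A'.res (p₁ 0) = 0
      rw [map_zero, map_zero]
    · change coef t (p₂ 0 - p₁ 0) = 0
      rw [map_zero, map_zero, sub_self, coef_zero ht]
  · intro x y
    refine TrivSqZeroExt.ext ?_ ?_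
    · change A'.res (p₁ (x + y)) = A'.res (p₁ x) + A'.res (p₁ y)
      rw [map_add, map_add]
    · change coef t (p₂ (x + y) - p₁ (x + y)) = coef t (p₂ x - p₁ x) + coef t (p₂ y - p₁ y)
      have e : p₂ (x + y) - p₁ (x + y) = (p₂ x - p₁ x) + (p₂ y - p₁ y) := by
        rw [map_add, map_add]; ring
      rw [e, coef_add ht (hmem x) (hmem y)]
  · intro r
    refine TrivSqZeroExt.ext ?_ ?_
    · change A'.res (p₁ (algebraMap Λ P r)) = (algebraMap Λ (DualNumber k) r).fst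
      rw [TrivSqZeroExt.algebraMap_eq_inl', TrivSqZeroExt.fst_inl]
      exact (congrArg A'.res (p₁.toAlgHom.commutes r)).trans (A'.res.commutes r)
    · change coef t (p₂ (algebraMap Λ P r) - p₁ (algebraMap Λ P r)) = (algebraMap Λ (DualNumber k) r).snd
      rw [TrivSqZeroExt.algebraMap_eq_inl', TrivSqZeroExt.snd_inl]
      have : p₂ (algebraMap Λ P r) - p₁ (algebraMap Λ P r) = 0 := by
        rw [sub_eq_zero]
        exact (p₂.toAlgHom.commutes r).trans (p₁.toAlgHom.commutes r).symm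
      rw [this, coef_zero ht]
  · apply AlgHom.ext
    intro x
    change A'.res (p₁ x) = P.res x
    rw [Art.res_app]

theorem diffHom_fst (hP : IsFibreProd p₁ p₂ μ μ) {t : A'} (ht : t ≠ 0)
    (hker : RingHom.ker μ.toAlgHom = Ideal.span {t}) (x : P) :
    (diffHom hP ht hker x : DualNumber k).fst = A'.res (p₁ x) := rfl

theorem diffHom_snd (hP : IsFibreProd p₁ p₂ μ μ) {t : A'} (ht : t ≠ 0)
    (hker : RingHom.ker μ.toAlgHom = Ideal.span {t}) (x : P) :
    (diffHom hP ht hker x : DualNumber k).snd = coef t (p₂ x - p₁ x) := rfl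

variable {q₁ : Q ⟶ A'} {q₂ : Q ⟶ dual Λ k}

theorem baseToDual_apply (c : k) :
    ((baseToDual : base Λ k ⟶ dual Λ k) c : DualNumber k) = TrivSqZeroExt.inl c := rfl

/-- For a small extension `μ : A' → A`: `A' ×_A A' ≅ A' ×_k k[ε]` compatibly with the first
projections, and the diagonal goes to the zero tangent vector. -/
theorem exists_theta (hμ : IsSmallExt μ) (hP : IsFibreProd p₁ p₂ μ μ)
    (hQ : IsFibreProd q₁ q₂ (toBase A') (toBase (dual Λ k))) :
    ∃ (θ : P ⟶ Q) (δ : A' ⟶ P), IsIso θ ∧ θ ≫ q₁ = p₁ ∧ δ ≫ p₁ = 𝟙 A' ∧ δ ≫ p₂ = 𝟙 A' ∧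
      δ ≫ θ ≫ q₂ = toBase A' ≫ baseToDual := by
  obtain ⟨hsurj, hne, hprin, hmk⟩ := hμ
  obtain ⟨t, ht'⟩ := hprin.principal
  have hker : RingHom.ker μ.toAlgHom = Ideal.span {t} := ht'
  have ht : t ≠ 0 := by
    rintro rfl
    apply hne
    rw [hker]
    exact Ideal.span_singleton_eq_bot.2 rfl
  have hm : ∀ y ∈ IsLocalRing.maximalIdeal A', y * t = 0 := by
    intro y hy
    have : y * t ∈ IsLocalRing.maximalIdeal A' * RingHom.ker μ.toAlgHom :=
      Ideal.mul_mem_mul hy (by rw [hker]; exact Ideal.subset_span rfl)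
    rw [hmk] at this
    exact Ideal.mem_bot.1 this
  let d := diffHom hP ht hker
  obtain ⟨θ, hθ₁, hθ₂⟩ := IsFibreProd.exists_lift hQ p₁ d
    (by rw [eq_toBase (p₁ ≫ toBase A'), eq_toBase (d ≫ toBase _)])
  obtain ⟨δ, hδ₁, hδ₂⟩ := IsFibreProd.exists_lift hP (𝟙 A') (𝟙 A') rfl
  have hθ₁' : ∀ x : P, q₁ (θ x) = p₁ x := fun x => by
    change (θ ≫ q₁) x = p₁ x
    rw [hθ₁]
  have hθ₂' : ∀ x : P, q₂ (θ x) = d x := fun x => by
    change (θ ≫ q₂) x = d x
    rw [hθ₂]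
  have hδ₁' : ∀ a : A', p₁ (δ a) = a := fun a => by
    change (δ ≫ p₁) a = a
    rw [hδ₁]; rfl
  have hδ₂' : ∀ a : A', p₂ (δ a) = a := fun a => by
    change (δ ≫ p₂) a = a
    rw [hδ₂]; rfl
  have hmem : ∀ x : P, p₂ x - p₁ x ∈ Ideal.span {t} := fun x => by
    rw [← hker, RingHom.mem_ker, map_sub, sub_eq_zero]
    exact (hP.w_apply x).symm
  refine ⟨θ, δ, ?_, hθ₁, hδ₁, hδ₂, ?_⟩
  · apply isIso_of_bijective
    constructor
    · intro x y hxy
      have h1 : p₁ x = p₁ y := by rw [← hθ₁', ← hθ₁', hxy]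
      have h2 : d x = d y := by rw [← hθ₂', ← hθ₂', hxy]
      have h3 : coef t (p₂ x - p₁ x) = coef t (p₂ y - p₁ y) := congrArg TrivSqZeroExt.snd h2
      have h4 : coef t ((p₂ x - p₁ x) + -(p₂ y - p₁ y)) = 0 := by
        rw [coef_add ht (hmem x) (neg_mem (hmem y)), coef_neg ht (hmem y), h3, add_neg_cancel]
      have h5 := eq_zero_of_coef_eq_zero ht hm (add_mem (hmem x) (neg_mem (hmem y))) h4
      apply hP.inj _ _ h1
      rw [h1] at h5
      have : p₂ x - p₂ y = 0 := by rw [← h5]; ring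
      exact sub_eq_zero.1 this
    · intro z
      obtain ⟨j, hj, hjc⟩ := exists_coef_eq ht ((q₂ z : DualNumber k).snd)
      have hjk : μ j = 0 := by
        have : j ∈ RingHom.ker μ.toAlgHom := by rw [hker]; exact hj
        exact this
      obtain ⟨x, hx₁, hx₂⟩ := hP.surj (q₁ z) (q₁ z + j) (by rw [map_add, hjk, add_zero])
      refine ⟨x, ?_⟩
      apply hQ.inj
      · rw [hθ₁', hx₁]
      · rw [hθ₂']
        refine TrivSqZeroExt.ext ?_ ?_
        · change A'.res (p₁ x) = (q₂ z : DualNumber k).fst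
          rw [hx₁]
          exact hQ.w_apply z
        · change coef t (p₂ x - p₁ x) = (q₂ z : DualNumber k).snd
          rw [hx₁, hx₂, add_sub_cancel_left, hjc]
  · apply Art.hom_ext
    apply AlgHom.ext
    intro a
    change q₂ (θ (δ a)) = baseToDual (toBase A' a)
    rw [hθ₂']
    refine TrivSqZeroExt.ext ?_ ?_
    · change A'.res (p₁ (δ a)) = _
      rw [hδ₁']
      rfl
    · change coef t (p₂ (δ a) - p₁ (δ a)) = _
      rw [hδ₁', hδ₂', sub_self, coef_zero ht]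
      rfl

end Theta

section NatFamSec

/-- a natural family of maps between two set-valued functors (possibly in different universes) -/
structure NatFam (F' : Art Λ k ⥤ Type w) (F : Art Λ k ⥤ Type v) where
  /-- the components -/
  app : ∀ A, F'.obj A → F.obj A
  natural : ∀ {A B : Art Λ k} (f : A ⟶ B) (x : F'.obj A), app B (F'.map f x) = F.map f (app A x)

/-- from a natural transformation -/
def NatFam.ofNatTrans {F G : Art Λ k ⥤ Type v} (φ : F ⟶ G) : NatFam F G :=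
  ⟨fun A x => φ.app A x, fun f x => NatTrans.naturality_apply φ f x⟩

/-- from a family -/
def NatFam.ofFamily {R : Type u} [CommRing R] [Algebra Λ R] {resR : R →ₐ[Λ] k}
    {F : Art Λ k ⥤ Type v} (ξ : Family R resR F) : NatFam (hR R resR) F :=
  ⟨fun A φ => ξ.app A φ, fun f φ => ξ.natural f φ⟩

variable {F' : Art Λ k ⥤ Type w} {F : Art Λ k ⥤ Type v}

/-- the lifting property of `η` along `μ` -/
def NatFam.Lifts (η : NatFam F' F) {B A : Art Λ k} (μ : B ⟶ A) : Prop :=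
  ∀ (x : F'.obj A) (y : F.obj B), F.map μ y = η.app A x →
    ∃ z : F'.obj B, F'.map μ z = x ∧ η.app B z = y

theorem NatFam.lifts_of_small (η : NatFam F' F)
    (h : ∀ ⦃B A : Art Λ k⦄ (μ : B ⟶ A), IsSmallExt μ → η.Lifts μ)
    ⦃B A : Art Λ k⦄ (μ : B ⟶ A) (hμ : Function.Surjective μ) : η.Lifts μ := by
  refine smallExt_induction (fun A B μ => η.Lifts μ) ?_ (fun A B p hp => h p hp) ?_ μ hμ
  · intro A B e he x y hxy
    refine ⟨F'.map (inv e) x, map_inv_map F' e x, ?_⟩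
    rw [η.natural, ← hxy, map_map_inv]
  · intro A B C p q hp hq x y hxy
    rw [map_comp_app] at hxy
    obtain ⟨z', hz'1, hz'2⟩ := hq x (F.map p y) hxy
    obtain ⟨z, hz1, hz2⟩ := hp z' y hz'2.symm
    exact ⟨z, by rw [map_comp_app, hz1, hz'1], hz2⟩

/-- Core lemma: lifting along small extensions from tangent surjectivity and unobstructed lifting. -/
theorem NatFam.lifts_small_of_tangent [Module.Finite Λ k] (η : NatFam F' F)
    (hF'Q : ∀ ⦃Q A' : Art Λ k⦄ (q₁ : Q ⟶ A') (q₂ : Q ⟶ dual Λ k)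
      (hQ : IsFibreProd q₁ q₂ (toBase A') (toBase (dual Λ k))), Function.Surjective (cmp F' hQ))
    (hFP : ∀ ⦃P A' A : Art Λ k⦄ (p₁ p₂ : P ⟶ A') (μ : A' ⟶ A) (hP : IsFibreProd p₁ p₂ μ μ),
      IsSmallExt μ → Function.Surjective (cmp F hP))
    (hFQ : ∀ ⦃Q A' : Art Λ k⦄ (q₁ : Q ⟶ A') (q₂ : Q ⟶ dual Λ k)
      (hQ : IsFibreProd q₁ q₂ (toBase A') (toBase (dual Λ k))), Function.Injective (cmp F hQ))
    (htan : ∀ t : F.obj (dual Λ k), ∃ s : F'.obj (dual Λ k), η.app _ s = t)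
    (hF'0 : Subsingleton (F'.obj (base Λ k)))
    ⦃A' A : Art Λ k⦄ (μ : A' ⟶ A) (hμ : IsSmallExt μ)
    (hlift : ∀ (x : F'.obj A) (y' : F.obj A'), F.map μ y' = η.app A x → ∃ x₁, F'.map μ x₁ = x) :
    η.Lifts μ := by
  intro x y' hxy
  obtain ⟨x₁, hx₁⟩ := hlift x y' hxy
  -- the two fibre products
  let P := fibreProd μ μ hμ.1
  let p₁ : P ⟶ A' := fibreProdFst μ μ hμ.1
  let p₂ : P ⟶ A' := fibreProdSnd μ μ hμ.1
  have hP : IsFibreProd p₁ p₂ μ μ := isFibreProd_fibreProd μ μ hμ.1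
  let Q := fibreProd (toBase A') (toBase (dual Λ k)) (surjective_toBase _)
  let q₁ : Q ⟶ A' := fibreProdFst _ _ (surjective_toBase _)
  let q₂ : Q ⟶ dual Λ k := fibreProdSnd _ _ (surjective_toBase _)
  have hQ : IsFibreProd q₁ q₂ (toBase A') (toBase (dual Λ k)) := isFibreProd_fibreProd _ _ _
  obtain ⟨θ, δ, hθiso, hθ₁, hδ₁, hδ₂, hδθ⟩ := exists_theta hμ hP hQ
  -- step 2
  have hy₁ : F.map μ (η.app A' x₁) = F.map μ y' := by
    rw [← η.natural, hx₁, hxy]
  obtain ⟨w, hw⟩ := hFP p₁ p₂ μ hP hμ ⟨(η.app A' x₁, y'), hy₁⟩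
  have hw₁ : F.map p₁ w = η.app A' x₁ := congrArg (fun t => t.1.1) hw
  have hw₂ : F.map p₂ w = y' := congrArg (fun t => t.1.2) hw
  -- step 3
  obtain ⟨s, hs⟩ := htan (F.map q₂ (F.map θ w))
  -- step 5
  obtain ⟨u, hu⟩ := hF'Q q₁ q₂ hQ ⟨(x₁, s), Subsingleton.elim _ _⟩
  have hu₁ : F'.map q₁ u = x₁ := congrArg (fun t => t.1.1) hu
  have hu₂ : F'.map q₂ u = s := congrArg (fun t => t.1.2) hu
  -- step 6
  have h6 : η.app Q u = F.map θ w := by
    apply hFQ q₁ q₂ hQ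
    apply FibProd.ext
    · change F.map q₁ (η.app Q u) = F.map q₁ (F.map θ w)
      rw [← η.natural, hu₁, ← map_comp_app, hθ₁, hw₁]
    · change F.map q₂ (η.app Q u) = F.map q₂ (F.map θ w)
      rw [← η.natural, hu₂, hs]
  -- step 7
  refine ⟨F'.map (inv θ ≫ p₂) u, ?_, ?_⟩
  · have e1 : (inv θ ≫ p₂) ≫ μ = q₁ ≫ μ := by
      rw [Category.assoc, ← hP.w, ← hθ₁, ← Category.assoc, ← Category.assoc, IsIso.inv_hom_id,
        Category.id_comp]
    rw [← map_comp_app, e1, map_comp_app, hu₁, hx₁]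
  · rw [η.natural, h6, map_comp_app, map_map_inv, hw₂]

theorem isSmooth_iff_lifts {F G : Art Λ k ⥤ Type v} (φ : F ⟶ G) :
    IsSmooth φ ↔ ∀ ⦃B A : Art Λ k⦄ (μ : B ⟶ A), Function.Surjective μ →
      (NatFam.ofNatTrans φ).Lifts μ := by
  constructor
  · intro h B A μ hμ x y hxy
    obtain ⟨z, hz⟩ := h μ hμ ⟨(x, y), hxy.symm⟩
    exact ⟨z, congrArg (fun t => t.1.1) hz, congrArg (fun t => t.1.2) hz⟩
  · intro h B A μ hμ ⟨⟨x, y⟩, hxy⟩
    obtain ⟨z, hz1, hz2⟩ := h μ hμ x y (Eq.symm hxy)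
    exact ⟨z, Subtype.ext (Prod.ext hz1 hz2)⟩

theorem isVersal_iff_lifts {R : Type u} [CommRing R] [Algebra Λ R] {resR : R →ₐ[Λ] k}
    {F : Art Λ k ⥤ Type v} (ξ : Family R resR F) :
    IsVersal ξ ↔ ∀ ⦃B A : Art Λ k⦄ (μ : B ⟶ A), Function.Surjective μ →
      (NatFam.ofFamily ξ).Lifts μ := by
  constructor
  · intro h B A μ hμ x y hxy
    exact h μ hμ x y hxy
  · intro h B A μ hμ x y hxy
    exact h μ hμ x y hxy

/-- (RS) : bijectivity of comparison maps for `A'' → A` surjective -/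
def RS (F : Art Λ k ⥤ Type v) : Prop :=
  ∀ ⦃B A A' A'' : Art Λ k⦄ (p' : B ⟶ A') (p'' : B ⟶ A'') (f' : A' ⟶ A) (f'' : A'' ⟶ A)
    (h : IsFibreProd p' p'' f' f''), Function.Surjective f'' → Function.Bijective (cmp F h)

theorem isSmooth_of_tangent_surjective_of_lifts [Module.Finite Λ k] {F G : Art Λ k ⥤ Type v}
    (hF0 : H0 F) (hF : RS F) (hG : RS G) (f : F ⟶ G)
    (htan : Function.Surjective (TangentSpace.map f))
    (hlift : ∀ ⦃A' A : Art Λ k⦄ (μ : A' ⟶ A), IsSmallExt μ → ∀ x : F.obj A,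
          (∃ y' : G.obj A', G.map μ y' = f.app A x) → ∃ x' : F.obj A', F.map μ x' = x) :
    IsSmooth f := by
  rw [isSmooth_iff_lifts]
  apply NatFam.lifts_of_small
  intro A' A μ hμ
  apply NatFam.lifts_small_of_tangent (NatFam.ofNatTrans f)
  · intro Q A' q₁ q₂ hQ
    exact (hF q₁ q₂ _ _ hQ (surjective_toBase _)).2
  · intro P A' A p₁ p₂ μ hP hμ
    exact (hG p₁ p₂ μ μ hP hμ.1).2
  · intro Q A' q₁ q₂ hQ
    exact (hG q₁ q₂ _ _ hQ (surjective_toBase _)).1
  · exact htan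
  · exact hF0.2
  · exact hμ
  · intro x y' hxy
    exact hlift μ hμ x ⟨y', hxy⟩

end NatFamSec

end Groth.Agent.Helper3.ArtFunLib
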