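import Mathlib
import Groth.Agent.Lib.Helper3.ArtFunB

set_option linter.style.haveILetI false

universe u v w

open CategoryTheory

namespace Groth.Agent.Helper3.ArtFunLib

open ArtFun ArtFun.Art

variable {Λ : Type u} {k : Type u} [CommRing Λ] [Field k] [Algebra Λ k]

section HomSetLift

variable {B A A' A'' : Art Λ k} {p' : B ⟶ A'} {p'' : B ⟶ A''} {f' : A' ⟶ A} {f'' : A'' ⟶ A}
variable {R : Type u} [CommRing R] [Algebra Λ R] {resR : R →ₐ[Λ] k}

theorem IsFibreProd.exists_lift_homSet (h : IsFibreProd p' p'' f' f'')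
    (φ' : HomSet R resR A') (φ'' : HomSet R resR A'')
    (hφ : HomSet.map f' φ' = HomSet.map f'' φ'') :
    ∃ χ : HomSet R resR B, HomSet.map p' χ = φ' ∧ HomSet.map p'' χ = φ'' := by
  have hc : ∀ c : R, f' (φ'.1 c) = f'' (φ''.1 c) := fun c => by
    have := congrArg (fun t : HomSet R resR A => t.1 c) hφ
    exact this
  choose φ hφ₁ hφ₂ using fun c => h.surj (φ'.1 c) (φ''.1 c) (hc c)
  have hext : ∀ b₁ b₂ : B, p' b₁ = p' b₂ → p'' b₁ = p'' b₂ → b₁ = b₂ := h.inj
  let φa : R →ₐ[Λ] B :=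
    { toFun := φ
      map_one' := hext _ _ (by rw [hφ₁, map_one, map_one]) (by rw [hφ₂, map_one, map_one])
      map_mul' := fun x y => hext _ _ (by rw [hφ₁, map_mul, map_mul, hφ₁, hφ₁])
        (by rw [hφ₂, map_mul, map_mul, hφ₂, hφ₂])
      map_zero' := hext _ _ (by rw [hφ₁, map_zero, map_zero]) (by rw [hφ₂, map_zero, map_zero])
      map_add' := fun x y => hext _ _ (by rw [hφ₁, map_add, map_add, hφ₁, hφ₁])
        (by rw [hφ₂, map_add, map_add, hφ₂, hφ₂])
      commutes' := fun r => hext _ _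
        (by rw [hφ₁]; exact (φ'.1.commutes r).trans (p'.toAlgHom.commutes r).symm)
        (by rw [hφ₂]; exact (φ''.1.commutes r).trans (p''.toAlgHom.commutes r).symm) }
  refine ⟨⟨φa, ?_⟩, ?_, ?_⟩
  · apply AlgHom.ext
    intro c
    change B.res (φ c) = resR c
    rw [← Art.res_app p', hφ₁]
    exact congrArg (fun g : R →ₐ[Λ] k => g c) φ'.2
  · apply Subtype.ext
    apply AlgHom.ext
    intro c
    exact hφ₁ c
  · apply Subtype.ext
    apply AlgHom.ext
    intro c
    exact hφ₂ c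

theorem hR_map_apply {A B : Art Λ k} (f : A ⟶ B) (φ : HomSet R resR A) :
    (hR R resR).map f φ = HomSet.map f φ := rfl

/-- `h_R` is left exact -/
theorem hR_cmp_bijective (h : IsFibreProd p' p'' f' f'') :
    Function.Bijective (cmp (hR R resR) h) := by
  constructor
  · intro χ₁ χ₂ hχ
    have h1 : HomSet.map p' χ₁ = HomSet.map p' χ₂ := congrArg (fun t => t.1.1) hχ
    have h2 : HomSet.map p'' χ₁ = HomSet.map p'' χ₂ := congrArg (fun t => t.1.2) hχ
    apply Subtype.ext
    apply AlgHom.ext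
    intro c
    apply h.inj
    · exact congrArg (fun t : HomSet R resR A' => t.1 c) h1
    · exact congrArg (fun t : HomSet R resR A'' => t.1 c) h2
  · rintro ⟨⟨φ', φ''⟩, hφ⟩
    obtain ⟨χ, h1, h2⟩ := IsFibreProd.exists_lift_homSet h φ' φ'' hφ
    exact ⟨χ, Subtype.ext (Prod.ext h1 h2)⟩

theorem subsingleton_hR_base : Subsingleton ((hR R resR).obj (base Λ k)) := by
  constructor
  intro φ ψ
  apply Subtype.ext
  have h1 : φ.1 = resR := (AlgHom.id_comp _).symm.trans φ.2
  have h2 : ψ.1 = resR := (AlgHom.id_comp _).symm.trans ψ.2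
  exact h1.trans h2.symm

/-- the canonical point of `h_R(k)` -/
def hRBasePt : HomSet R resR (base Λ k) := ⟨resR, AlgHom.id_comp _⟩

end HomSetLift

section Versal

variable {R : Type u} [CommRing R] [Algebra Λ R] {resR : R →ₐ[Λ] k} {F : Art Λ k ⥤ Type v}

theorem surjective_app_of_isVersal (h0 : H0 F) (ξ : Family R resR F) (hξ : IsVersal ξ)
    (A : Art Λ k) : Function.Surjective (ξ.app A) := by
  intro y
  haveI := h0.2
  obtain ⟨ψ, _, hψ⟩ := hξ (toBase A) (surjective_toBase A) hRBasePt y (Subsingleton.elim _ _)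
  exact ⟨ψ, hψ⟩

theorem s1_of_isVersal (h0 : H0 F) (ξ : Family R resR F) (hξ : IsVersal ξ) : S1 F := by
  intro B A A' A'' p' p'' f' f'' h hf'' ⟨⟨x', x''⟩, hx⟩
  have hx' : F.map f' x' = F.map f'' x'' := hx
  obtain ⟨φ', hφ'⟩ := surjective_app_of_isVersal h0 ξ hξ A' x'
  obtain ⟨ψ'', hψ''1, hψ''2⟩ := hξ f'' hf'' (HomSet.map f' φ') x''
    (by rw [ξ.natural, hφ']; exact hx'.symm)
  obtain ⟨χ, hχ1, hχ2⟩ := IsFibreProd.exists_lift_homSet h φ' ψ'' hψ''1.symm
  refine ⟨ξ.app B χ, FibProd.ext ?_ ?_⟩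
  · change F.map p' (ξ.app B χ) = x'
    rw [← ξ.natural, hχ1, hφ']
  · change F.map p'' (ξ.app B χ) = x''
    rw [← ξ.natural, hχ2, hψ''2]

theorem isVersal_of_tangent_surjective_of_lift [Module.Finite Λ k]
    (h1 : S1 F) (h2 : Heps F) (ξ : Family R resR F)
    (htan : Function.Surjective (TangentSpace.ofFamily ξ))
    (hlift : ∀ ⦃B A : Art Λ k⦄ (μ : B ⟶ A), IsSmallExt μ →
          ∀ (φ : HomSet R resR A) (y : F.obj B), F.map μ y = ξ.app A φ →
            ∃ ψ : HomSet R resR B, HomSet.map μ ψ = φ) : IsVersal ξ := by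
  rw [isVersal_iff_lifts]
  apply NatFam.lifts_of_small
  intro A' A μ hμ
  apply NatFam.lifts_small_of_tangent (NatFam.ofFamily ξ)
  · intro Q A' q₁ q₂ hQ
    exact (hR_cmp_bijective hQ).2
  · intro P A' A p₁ p₂ μ hP hμ
    exact h1 p₁ p₂ μ μ hP hμ.1
  · intro Q A' q₁ q₂ hQ
    exact (h2 q₁ q₂ hQ).1
  · exact htan
  · exact subsingleton_hR_base
  · exact hμ
  · intro x y' hxy
    exact hlift μ hμ x y' hxy

end Versal

section Injective

variable {F G : Art Λ k ⥤ Type v}

theorem injective_app_of_tangent_injective [Module.Finite Λ k] (hF0 : H0 F) (hF : RS F) (hG : RS G)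
    (φ : F ⟶ G) (hd : Function.Injective (TangentSpace.map φ)) (A : Art Λ k) :
    Function.Injective (φ.app A) := by
  have key : ∀ ⦃A B : Art Λ k⦄ (μ : B ⟶ A), Function.Surjective μ →
      Function.Injective (φ.app A) → Function.Injective (φ.app B) := by
    intro A B μ hμ
    refine smallExt_induction (fun A B μ => Function.Injective (φ.app A) →
      Function.Injective (φ.app B)) ?_ ?_ ?_ μ hμ
    · intro A B e he hA x x' hxx'
      have : φ.app A (F.map e x) = φ.app A (F.map e x') := by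
        rw [NatTrans.naturality_apply, NatTrans.naturality_apply, hxx']
      have h2 := hA this
      have := congrArg (F.map (inv e)) h2
      rwa [map_map_inv, map_map_inv] at this
    · intro A A' μ hμ hA x' x'' hxx
      -- images in F(A) agree
      have hx : F.map μ x' = F.map μ x'' := by
        apply hA
        rw [NatTrans.naturality_apply, NatTrans.naturality_apply, hxx]
      let P := fibreProd μ μ hμ.1
      let p₁ : P ⟶ A' := fibreProdFst μ μ hμ.1
      let p₂ : P ⟶ A' := fibreProdSnd μ μ hμ.1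
      have hP : IsFibreProd p₁ p₂ μ μ := isFibreProd_fibreProd μ μ hμ.1
      let Q := fibreProd (toBase A') (toBase (dual Λ k)) (surjective_toBase _)
      let q₁ : Q ⟶ A' := fibreProdFst _ _ (surjective_toBase _)
      let q₂ : Q ⟶ dual Λ k := fibreProdSnd _ _ (surjective_toBase _)
      have hQ : IsFibreProd q₁ q₂ (toBase A') (toBase (dual Λ k)) := isFibreProd_fibreProd _ _ _
      obtain ⟨θ, δ, hθiso, hθ₁, hδ₁, hδ₂, hδθ⟩ := exists_theta hμ hP hQ
      obtain ⟨z, hz⟩ := (hF p₁ p₂ μ μ hP hμ.1).2 ⟨(x', x''), hx⟩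
      have hz₁ : F.map p₁ z = x' := congrArg (fun t => t.1.1) hz
      have hz₂ : F.map p₂ z = x'' := congrArg (fun t => t.1.2) hz
      -- in G
      have hGz : φ.app P z = G.map δ (φ.app A' x') := by
        apply (hG p₁ p₂ μ μ hP hμ.1).1
        apply FibProd.ext
        · change G.map p₁ (φ.app P z) = G.map p₁ (G.map δ (φ.app A' x'))
          rw [← NatTrans.naturality_apply, hz₁, ← map_comp_app, hδ₁, map_id_app]
        · change G.map p₂ (φ.app P z) = G.map p₂ (G.map δ (φ.app A' x'))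
          rw [← NatTrans.naturality_apply, hz₂, ← map_comp_app, hδ₂, map_id_app, hxx]
      have hs : F.map q₂ (F.map θ z) = F.map (δ ≫ θ ≫ q₂) x' := by
        apply hd
        change φ.app _ (F.map q₂ (F.map θ z)) = φ.app _ (F.map (δ ≫ θ ≫ q₂) x')
        rw [NatTrans.naturality_apply, NatTrans.naturality_apply, hGz, NatTrans.naturality_apply,
          map_comp_app, map_comp_app]
      have hw : F.map θ z = F.map (δ ≫ θ) x' := by
        apply (hF q₁ q₂ _ _ hQ (surjective_toBase _)).1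
        apply FibProd.ext
        · change F.map q₁ (F.map θ z) = F.map q₁ (F.map (δ ≫ θ) x')
          rw [← map_comp_app, hθ₁, hz₁, ← map_comp_app, Category.assoc, hθ₁, hδ₁, map_id_app]
        · change F.map q₂ (F.map θ z) = F.map q₂ (F.map (δ ≫ θ) x')
          rw [hs, ← map_comp_app, Category.assoc]
      have hz' : z = F.map δ x' := by
        have := congrArg (F.map (inv θ)) hw
        rwa [map_map_inv, map_comp_app, map_map_inv] at this
      rw [← hz₂, hz', ← map_comp_app, hδ₂, map_id_app]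
    · intro A B C p q hp hq hA
      exact hp (hq hA)
  apply key (toBase A) (surjective_toBase A)
  intro x x' _
  haveI := hF0.2
  exact Subsingleton.elim _ _

theorem bijective_app_of_isSmooth_of_tangent_bijective [Module.Finite Λ k]
    (hF0 : H0 F) (hF : RS F) (hG0 : H0 G) (hG : RS G) (φ : F ⟶ G) (hφ : IsSmooth φ)
    (hd : Function.Bijective (TangentSpace.map φ)) (A : Art Λ k) :
    Function.Bijective (φ.app A) := by
  refine ⟨injective_app_of_tangent_injective hF0 hF hG φ hd.1 A,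
    surjective_app_of_isSmooth φ hφ ?_ A⟩
  intro y
  obtain ⟨x⟩ := hF0.1
  haveI := hG0.2
  exact ⟨x, Subsingleton.elim _ _⟩

end Injective

section Paste

variable {B A A' C B₀ B₁ : Art Λ k}

/-- pasting of fibre-product squares -/
theorem isFibreProd_paste {p' : B ⟶ A'} {p'' : B ⟶ C} {f' : A' ⟶ A} {p : C ⟶ B₀} {q : B₀ ⟶ A}
    (h : IsFibreProd p' p'' f' (p ≫ q)) {π' : B₁ ⟶ A'} {π'' : B₁ ⟶ B₀}
    (h₁ : IsFibreProd π' π'' f' q) (l : B ⟶ B₁) (hl₁ : l ≫ π' = p') (hl₂ : l ≫ π'' = p'' ≫ p) :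
    IsFibreProd l p'' π'' p where
  w := hl₂
  inj b₁ b₂ e₁ e₂ := by
    apply h.inj _ _ _ e₂
    have : (l ≫ π') b₁ = (l ≫ π') b₂ := by
      rw [Art.comp_apply, Art.comp_apply, e₁]
    rwa [hl₁] at this
  surj β c hβc := by
    have hc : f' (π' β) = (p ≫ q) c := by
      rw [h₁.w_apply β, hβc]; rfl
    obtain ⟨b, hb₁, hb₂⟩ := h.surj (π' β) c hc
    refine ⟨b, ?_, hb₂⟩
    apply h₁.inj
    · have : (l ≫ π') b = π' β := by rw [hl₁, hb₁]
      exact this
    · have : (l ≫ π'') b = π'' β := by rw [hl₂, Art.comp_apply, hb₂, hβc]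
      exact this

end Paste

section Induct

variable (F : Art Λ k ⥤ Type v)

theorem cmp_surjective_of_small [Module.Finite Λ k] (hs : Hbar F) : S1 F := by
  intro B A A' A'' p' p'' f' f'' h hf''
  revert B A' p' p'' f' h
  refine smallExt_induction (fun A A'' f'' => Function.Surjective f'' ∧
    ∀ ⦃B A' : Art Λ k⦄ (p' : B ⟶ A') (p'' : B ⟶ A'') (f' : A' ⟶ A)
      (h : IsFibreProd p' p'' f' f''), Function.Surjective (cmp F h)) ?_ ?_ ?_ f'' hf'' |>.2
  · intro A A'' e he
    refine ⟨(bijective_of_isIso e).2, ?_⟩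
    intro B A' p' p'' f' h ⟨⟨x', x''⟩, hx⟩
    have hx' : F.map f' x' = F.map e x'' := hx
    have hp' : Function.Bijective p' := by
      constructor
      · intro b₁ b₂ hb
        apply h.inj _ _ hb
        apply (bijective_of_isIso e).1
        rw [← h.w_apply, ← h.w_apply, hb]
      · intro a'
        obtain ⟨a'', ha''⟩ := (bijective_of_isIso e).2 (f' a')
        obtain ⟨b, hb, _⟩ := h.surj a' a'' ha''.symm
        exact ⟨b, hb⟩
    haveI := isIso_of_bijective p' hp'
    refine ⟨F.map (inv p') x', FibProd.ext (map_inv_map F p' x') ?_⟩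
    change F.map p'' (F.map (inv p') x') = x''
    have h1 : F.map e (F.map p'' (F.map (inv p') x')) = F.map e x'' := by
      rw [← map_comp_app, ← h.w, map_comp_app, map_inv_map, hx']
    have := congrArg (F.map (inv e)) h1
    rwa [map_map_inv, map_map_inv] at this
  · intro A A'' f'' hf''
    exact ⟨hf''.1, fun B A' p' p'' f' h => hs p' p'' f' f'' h hf''⟩
  · intro A B₀ C p q ⟨hps, hp⟩ ⟨hqs, hq⟩
    refine ⟨hqs.comp hps, ?_⟩
    intro B A' p' p'' f' h ⟨⟨x', x''⟩, hx⟩
    have hx' : F.map f' x' = F.map (p ≫ q) x'' := hx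
    let B₁ := fibreProd f' q hqs
    let π' : B₁ ⟶ A' := fibreProdFst f' q hqs
    let π'' : B₁ ⟶ B₀ := fibreProdSnd f' q hqs
    have h₁ : IsFibreProd π' π'' f' q := isFibreProd_fibreProd f' q hqs
    obtain ⟨l, hl₁, hl₂⟩ := IsFibreProd.exists_lift h₁ p' (p'' ≫ p)
      (by rw [h.w, Category.assoc])
    have h₂ := isFibreProd_paste h h₁ l hl₁ hl₂
    obtain ⟨z₁, hz₁⟩ := hq π' π'' f' h₁ ⟨(x', F.map p x''), by
      change F.map f' x' = F.map q (F.map p x'')
      rw [hx', map_comp_app]⟩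
    have hz₁1 : F.map π' z₁ = x' := congrArg (fun t => t.1.1) hz₁
    have hz₁2 : F.map π'' z₁ = F.map p x'' := congrArg (fun t => t.1.2) hz₁
    obtain ⟨z, hz⟩ := hp l p'' π'' h₂ ⟨(z₁, x''), hz₁2⟩
    have hz1 : F.map l z = z₁ := congrArg (fun t => t.1.1) hz
    have hz2 : F.map p'' z = x'' := congrArg (fun t => t.1.2) hz
    refine ⟨z, FibProd.ext ?_ hz2⟩
    change F.map p' z = x'
    rw [← hl₁, map_comp_app, hz1, hz₁1]

theorem cmp_injective_of_small [Module.Finite Λ k]
    (hi : ∀ ⦃B A A' A'' : Art Λ k⦄ (p' : B ⟶ A') (p'' : B ⟶ A'') (f' : A' ⟶ A) (f'' : A'' ⟶ A)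
      (h : IsFibreProd p' p'' f' f''), IsSmallExt f'' → Function.Injective (cmp F h))
    ⦃B A A' A'' : Art Λ k⦄ (p' : B ⟶ A') (p'' : B ⟶ A'') (f' : A' ⟶ A) (f'' : A'' ⟶ A)
    (h : IsFibreProd p' p'' f' f'') (hf'' : Function.Surjective f'') :
    Function.Injective (cmp F h) := by
  revert B A' p' p'' f' h
  refine smallExt_induction (fun A A'' f'' => Function.Surjective f'' ∧
    ∀ ⦃B A' : Art Λ k⦄ (p' : B ⟶ A') (p'' : B ⟶ A'') (f' : A' ⟶ A)
      (h : IsFibreProd p' p'' f' f''), Function.Injective (cmp F h)) ?_ ?_ ?_ f'' hf'' |>.2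
  · intro A A'' e he
    refine ⟨(bijective_of_isIso e).2, ?_⟩
    intro B A' p' p'' f' h z z' hzz
    have h1 : F.map p' z = F.map p' z' := congrArg (fun t => t.1.1) hzz
    have hp' : Function.Bijective p' := by
      constructor
      · intro b₁ b₂ hb
        apply h.inj _ _ hb
        apply (bijective_of_isIso e).1
        rw [← h.w_apply, ← h.w_apply, hb]
      · intro a'
        obtain ⟨a'', ha''⟩ := (bijective_of_isIso e).2 (f' a')
        obtain ⟨b, hb, _⟩ := h.surj a' a'' ha''.symm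
        exact ⟨b, hb⟩
    haveI := isIso_of_bijective p' hp'
    have := congrArg (F.map (inv p')) h1
    rwa [map_map_inv, map_map_inv] at this
  · intro A A'' f'' hf''
    exact ⟨hf''.1, fun B A' p' p'' f' h => hi p' p'' f' f'' h hf''⟩
  · intro A B₀ C p q ⟨hps, hp⟩ ⟨hqs, hq⟩
    refine ⟨hqs.comp hps, ?_⟩
    intro B A' p' p'' f' h z z' hzz
    have hz1 : F.map p' z = F.map p' z' := congrArg (fun t => t.1.1) hzz
    have hz2 : F.map p'' z = F.map p'' z' := congrArg (fun t => t.1.2) hzz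
    let B₁ := fibreProd f' q hqs
    let π' : B₁ ⟶ A' := fibreProdFst f' q hqs
    let π'' : B₁ ⟶ B₀ := fibreProdSnd f' q hqs
    have h₁ : IsFibreProd π' π'' f' q := isFibreProd_fibreProd f' q hqs
    obtain ⟨l, hl₁, hl₂⟩ := IsFibreProd.exists_lift h₁ p' (p'' ≫ p)
      (by rw [h.w, Category.assoc])
    have h₂ := isFibreProd_paste h h₁ l hl₁ hl₂
    have hl : F.map l z = F.map l z' := by
      apply hq π' π'' f' h₁
      apply FibProd.ext
      · change F.map π' (F.map l z) = F.map π' (F.map l z')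
        rw [← map_comp_app, ← map_comp_app, hl₁, hz1]
      · change F.map π'' (F.map l z) = F.map π'' (F.map l z')
        rw [← map_comp_app, ← map_comp_app, hl₂, map_comp_app, map_comp_app, hz2]
    apply hp l p'' π'' h₂
    exact FibProd.ext hl hz2

theorem rs_of_rs_small [Module.Finite Λ k]
    (h : ∀ ⦃B A A' A'' : Art Λ k⦄ (p' : B ⟶ A') (p'' : B ⟶ A'') (f' : A' ⟶ A) (f'' : A'' ⟶ A)
      (h : IsFibreProd p' p'' f' f''), IsSmallExt f'' → Function.Bijective (cmp F h)) : RS F := by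
  intro B A A' A'' p' p'' f' f'' hsq hf''
  exact ⟨cmp_injective_of_small F (fun _ _ _ _ p' p'' f' f'' hsq hs => (h p' p'' f' f'' hsq hs).1)
      p' p'' f' f'' hsq hf'',
    cmp_surjective_of_small F (fun _ _ _ _ p' p'' f' f'' hsq hs => (h p' p'' f' f'' hsq hs).2)
      p' p'' f' f'' hsq hf''⟩

end Induct

section SmallPullback

variable {B A A₁ A₂ : Art Λ k} {p₁ : B ⟶ A₁} {p₂ : B ⟶ A₂} {f₁ : A₁ ⟶ A} {f₂ : A₂ ⟶ A}

theorem isSmallExt_fst_of_isFibreProd (h : IsFibreProd p₁ p₂ f₁ f₂) (hf₂ : IsSmallExt f₂) :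
    IsSmallExt p₁ := by
  obtain ⟨hsurj, hne, hprin, hmk⟩ := hf₂
  obtain ⟨t, ht'⟩ := hprin.principal
  have hker : RingHom.ker f₂.toAlgHom = Ideal.span {t} := ht'
  have ht : t ≠ 0 := by
    rintro rfl
    apply hne
    rw [hker]
    exact Ideal.span_singleton_eq_bot.2 rfl
  have htk : f₂ t = 0 := by
    have : t ∈ RingHom.ker f₂.toAlgHom := by rw [hker]; exact Ideal.subset_span rfl
    exact this
  have hm : ∀ y ∈ IsLocalRing.maximalIdeal A₂, y * t = 0 := by
    intro y hy
    have : y * t ∈ IsLocalRing.maximalIdeal A₂ * RingHom.ker f₂.toAlgHom :=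
      Ideal.mul_mem_mul hy (by rw [hker]; exact Ideal.subset_span rfl)
    rw [hmk] at this
    exact Ideal.mem_bot.1 this
  obtain ⟨bt, hbt₁, hbt₂⟩ := h.surj 0 t (by rw [map_zero, htk])
  have hkerp : RingHom.ker p₁.toAlgHom = Ideal.span {bt} := by
    apply le_antisymm
    · intro b hb
      have hb₁ : p₁ b = 0 := hb
      have hb₂ : p₂ b ∈ Ideal.span {t} := by
        rw [← hker, RingHom.mem_ker]
        rw [← h.w_apply, hb₁, map_zero]
      obtain ⟨r, hr⟩ := Ideal.mem_span_singleton'.1 hb₂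
      obtain ⟨r', hr'⟩ := B.res_surjective (A₂.res r)
      have hrr : (p₂ r' - r) * t = 0 := by
        apply hm
        rw [Art.mem_maximalIdeal_iff, map_sub, Art.res_app, hr', sub_self]
      have hb' : b = r' * bt := by
        apply h.inj
        · rw [map_mul, hbt₁, mul_zero, hb₁]
        · rw [map_mul, hbt₂, ← hr]
          rw [sub_mul, sub_eq_zero] at hrr
          exact hrr.symm
      rw [hb']
      exact Ideal.mul_mem_left _ _ (Ideal.subset_span rfl)
    · rw [Ideal.span_singleton_le_iff_mem, RingHom.mem_ker]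
      exact hbt₁
  refine ⟨?_, ?_, ?_, ?_⟩
  · intro a₁
    obtain ⟨a₂, ha₂⟩ := hsurj (f₁ a₁)
    obtain ⟨b, hb, _⟩ := h.surj a₁ a₂ ha₂.symm
    exact ⟨b, hb⟩
  · rw [hkerp, Ne, Ideal.span_singleton_eq_bot]
    rintro rfl
    rw [map_zero] at hbt₂
    exact ht hbt₂.symm
  · rw [hkerp]
    exact ⟨⟨_, rfl⟩⟩
  · rw [eq_bot_iff, Ideal.mul_le]
    intro y hy b hb
    rw [Ideal.mem_bot]
    have hb₁ : p₁ b = 0 := hb
    have hb₂ : p₂ b ∈ RingHom.ker f₂.toAlgHom := by
      rw [RingHom.mem_ker]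
      rw [← h.w_apply, hb₁, map_zero]
    apply h.inj
    · rw [map_mul, hb₁, mul_zero, map_zero]
    · rw [map_mul, map_zero]
      have hy₂ : p₂ y ∈ IsLocalRing.maximalIdeal A₂ := by
        rw [Art.mem_maximalIdeal_iff, Art.res_app, ← Art.mem_maximalIdeal_iff]
        exact hy
      have : p₂ y * p₂ b ∈ IsLocalRing.maximalIdeal A₂ * RingHom.ker f₂.toAlgHom :=
        Ideal.mul_mem_mul hy₂ hb₂
      rw [hmk] at this
      exact Ideal.mem_bot.1 this

end SmallPullback

section Tangent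

variable {F G : Art Λ k ⥤ Type v}

theorem exists_linearMap_eq_tangentMap [TangentStr F] [TangentStr G]
    (hF0 : H0 F) (hF2 : Heps F) (φ : F ⟶ G) :
    ∃ f : TangentSpace F →ₗ[k] TangentSpace G, ⇑f = TangentSpace.map φ := by
  refine ⟨{ toFun := TangentSpace.map φ, map_add' := ?_, map_smul' := ?_ }, rfl⟩
  · intro x y
    haveI := hF0.2
    obtain ⟨z, hz⟩ := (hF2 pr₁ pr₂ isFibreProd_dual2).2 ⟨(x, y), Subsingleton.elim _ _⟩
    have hz₁ : F.map pr₁ z = x := congrArg (fun t => t.1.1) hz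
    have hz₂ : F.map pr₂ z = y := congrArg (fun t => t.1.2) hz
    have e1 : x + y = F.map plus z := by
      rw [← hz₁, ← hz₂]
      exact TangentStr.add_eq z
    have e2 : TangentSpace.map φ x + TangentSpace.map φ y = G.map plus (φ.app _ z) := by
      rw [← TangentStr.add_eq (F := G)]
      congr 1
      · change φ.app _ x = G.map pr₁ (φ.app _ z)
        rw [← NatTrans.naturality_apply, hz₁]
      · change φ.app _ y = G.map pr₂ (φ.app _ z)
        rw [← NatTrans.naturality_apply, hz₂]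
    rw [e2, e1]
    exact NatTrans.naturality_apply φ plus z
  · intro c x
    have e1 : c • x = F.map (scale c) x := TangentStr.smul_eq c x
    rw [e1]
    change φ.app _ (F.map (scale c) x) = c • TangentSpace.map φ x
    rw [NatTrans.naturality_apply]
    exact (TangentStr.smul_eq (F := G) c _).symm

theorem exists_section_iff_exists_tangent_lift (h2 : Heps F)
    {B A : Art Λ k} (p' : B ⟶ A) (p'' : B ⟶ dual Λ k)
    (h : IsFibreProd p' p'' (toBase A) (toBase (dual Λ k))) (y : F.obj B) :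
    (∃ σ : A ⟶ B, σ ≫ p' = 𝟙 A ∧ F.map σ (F.map p' y) = y) ↔
      ∃ τ : A ⟶ dual Λ k, F.map τ (F.map p' y) = F.map p'' y := by
  constructor
  · rintro ⟨σ, hσ, hy⟩
    refine ⟨σ ≫ p'', ?_⟩
    rw [map_comp_app, hy]
  · rintro ⟨τ, hτ⟩
    obtain ⟨σ, hσ₁, hσ₂⟩ := IsFibreProd.exists_lift h (𝟙 A) τ
      (by rw [eq_toBase (𝟙 A ≫ toBase A), eq_toBase (τ ≫ toBase _)])
    refine ⟨σ, hσ₁, ?_⟩
    apply (h2 p' p'' h).1
    apply FibProd.ext
    · change F.map p' (F.map σ (F.map p' y)) = F.map p' y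
      rw [← map_comp_app, hσ₁, map_id_app]
    · change F.map p'' (F.map σ (F.map p' y)) = F.map p'' y
      rw [← map_comp_app, hσ₂, hτ]

end Tangent

end Groth.Agent.Helper3.ArtFunLib
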