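import Mathlib
import Groth.Agent.Lib.Helper3.ArtFunC
import Groth.Prelude.Def_ArtFun5
import Groth.Prelude.Def_W4sfdMinVersal

set_option linter.style.haveILetI false

universe u v w

open CategoryTheory

namespace Groth.Agent.Helper3.ArtFunLib

open ArtFun ArtFun.Art

section PureAlg

variable {S : Type u} {k : Type v} [CommRing S] [IsLocalRing S] [Field k]

theorem ker_eq_maximalIdeal (res : S →+* k) (hres : Function.Surjective res) :
    RingHom.ker res = IsLocalRing.maximalIdeal S :=
  IsLocalRing.eq_maximalIdeal (RingHom.ker_isMaximal_of_surjective res hres)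

theorem mem_maximalIdeal_iff_res (res : S →+* k) (hres : Function.Surjective res) (s : S) :
    s ∈ IsLocalRing.maximalIdeal S ↔ res s = 0 := by
  rw [← ker_eq_maximalIdeal res hres, RingHom.mem_ker]

/-- existence of a nonzero functional on `m` killing a proper subideal `J ⊇ m²`-/
theorem exists_functional [IsNoetherianRing S] (res : S →+* k) (hres : Function.Surjective res)
    (J : Ideal S) (hJ : J < IsLocalRing.maximalIdeal S) :
    ∃ lam : S → k, (∀ z ∈ IsLocalRing.maximalIdeal S, ∀ w ∈ IsLocalRing.maximalIdeal S,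
        lam (z + w) = lam z + lam w) ∧
      (∀ s : S, ∀ z ∈ IsLocalRing.maximalIdeal S, lam (s * z) = res s * lam z) ∧
      (∀ j ∈ J, lam j = 0) ∧ (∃ z ∈ IsLocalRing.maximalIdeal S, lam z ≠ 0) := by
  classical
  letI : Algebra S k := res.toAlgebra
  set m := IsLocalRing.maximalIdeal S with hm
  let P : Submodule S m := Submodule.comap m.subtype J
  have hP : P ≠ ⊤ := by
    intro h
    apply hJ.not_ge
    intro z hz
    have : (⟨z, hz⟩ : m) ∈ P := h ▸ Submodule.mem_top
    exact this
  haveI : Module.Finite S m := Module.Finite.of_fg (IsNoetherian.noetherian m)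
  obtain ⟨N, hN, hPN⟩ := (eq_top_or_exists_le_coatom P).resolve_left hP
  haveI : IsSimpleModule S (m ⧸ N) := isSimpleModule_iff_isCoatom.2 hN
  obtain ⟨I, hI, ⟨e⟩⟩ := isSimpleModule_iff_quot_maximal.1 (inferInstance : IsSimpleModule S (m ⧸ N))
  have hIm : I = m := IsLocalRing.eq_maximalIdeal hI
  have hker : ∀ s : S, s ∈ I ↔ res s = 0 := fun s => by
    rw [hIm]; exact mem_maximalIdeal_iff_res res hres s
  let ρ : (S ⧸ I) →ₗ[S] k := Submodule.liftQ I (Algebra.linearMap S k) (fun s hs => by
    rw [LinearMap.mem_ker]; exact (hker s).1 hs)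
  have hρ : ∀ s : S, ρ (Submodule.Quotient.mk s) = res s := fun s => rfl
  have hρinj : Function.Injective ρ := by
    rw [← LinearMap.ker_eq_bot, LinearMap.ker_eq_bot']
    intro x hx
    obtain ⟨s, rfl⟩ := Submodule.Quotient.mk_surjective I x
    rw [hρ] at hx
    exact (Submodule.Quotient.mk_eq_zero I).2 ((hker s).2 hx)
  let L : m →ₗ[S] k := ρ.comp (e.toLinearMap.comp N.mkQ)
  refine ⟨fun z => if h : z ∈ m then L ⟨z, h⟩ else 0, ?_, ?_, ?_, ?_⟩
  · intro z hz w hw
    simp only [dif_pos hz, dif_pos hw, dif_pos (m.add_mem hz hw)]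
    rw [← map_add]; rfl
  · intro s z hz
    simp only [dif_pos hz, dif_pos (m.mul_mem_left s hz)]
    have : (⟨s * z, m.mul_mem_left s hz⟩ : m) = s • ⟨z, hz⟩ := rfl
    rw [this, map_smul]; rfl
  · intro j hj
    have hjm : j ∈ m := hJ.le hj
    simp only [dif_pos hjm]
    have : (⟨j, hjm⟩ : m) ∈ N := hPN (show (⟨j, hjm⟩ : m) ∈ P from hj)
    change ρ (e (N.mkQ ⟨j, hjm⟩)) = 0
    have h0 : N.mkQ ⟨j, hjm⟩ = 0 := (Submodule.Quotient.mk_eq_zero N).2 this
    rw [h0, map_zero, map_zero]
  · by_contra hcon
    push Not at hcon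
    apply hN.1
    rw [eq_top_iff]
    rintro ⟨z, hz⟩ -
    have h0 := hcon z hz
    simp only [dif_pos hz] at h0
    have h1 : e (N.mkQ ⟨z, hz⟩) = 0 := hρinj (by rw [map_zero]; exact h0)
    have h2 : N.mkQ ⟨z, hz⟩ = 0 := e.injective (by rw [h1, map_zero])
    exact (Submodule.Quotient.mk_eq_zero N).1 h2

/-- a nonzero "derivation" `S → k` vanishing on the image of `f` and on `J` -/
theorem exists_deriv [IsNoetherianRing S] (res : S →+* k) (hres : Function.Surjective res)
    {R : Type w} [CommRing R] (f : R →+* S) (hf : Function.Surjective (res.comp f))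
    (J : Ideal S) (hJ : J < IsLocalRing.maximalIdeal S)
    (hfJ : ∀ r, res (f r) = 0 → f r ∈ J) :
    ∃ δ : S → k, (∀ x y, δ (x + y) = δ x + δ y) ∧
      (∀ x y, δ (x * y) = res x * δ y + res y * δ x) ∧
      (∀ r, δ (f r) = 0) ∧ (∀ j ∈ J, δ j = 0) ∧ ∃ z, δ z ≠ 0 := by
  obtain ⟨lam, hadd, hsmul, hlamJ, z₀, hz₀m, hz₀⟩ := exists_functional res hres J hJ
  set m := IsLocalRing.maximalIdeal S with hm
  have hmem : ∀ s : S, s ∈ m ↔ res s = 0 := mem_maximalIdeal_iff_res res hres
  have hJm : ∀ j ∈ J, res j = 0 := fun j hj => (hmem j).1 (hJ.le hj)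
  -- lam is constant on J-cosets inside m
  have hcos : ∀ z ∈ m, ∀ w ∈ m, z - w ∈ J → lam z = lam w := by
    intro z hz w hw hzw
    have h1 : z = w + (z - w) := by ring
    rw [h1, hadd w hw (z - w) (hJ.le hzw), hlamJ _ hzw, add_zero]
  let σ : k → R := Function.surjInv hf
  have hσ : ∀ c, res (f (σ c)) = c := fun c => Function.surjInv_eq hf c
  let τ : S → S := fun y => f (σ (res y))
  have hτ : ∀ y, res (τ y) = res y := fun y => hσ (res y)
  have hτm : ∀ y, y - τ y ∈ m := fun y => by rw [hmem, map_sub, hτ, sub_self]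
  have hfJ' : ∀ r, res (f r) = 0 → f r ∈ J := hfJ
  refine ⟨fun y => lam (y - τ y), ?_, ?_, ?_, ?_, ?_⟩
  · intro x y
    change lam (x + y - τ (x + y)) = lam (x - τ x) + lam (y - τ y)
    rw [← hadd _ (hτm x) _ (hτm y)]
    apply hcos _ (hτm _) _ (m.add_mem (hτm x) (hτm y))
    have h1 : x + y - τ (x + y) - (x - τ x + (y - τ y)) =
        f (σ (res x) + σ (res y) - σ (res (x + y))) := by
      simp only [τ, map_add, map_sub]; ring
    rw [h1]
    apply hfJ'
    simp only [map_sub, map_add, hσ, sub_self]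
  · intro x y
    change lam (x * y - τ (x * y)) = res x * lam (y - τ y) + res y * lam (x - τ x)
    have h2 : lam (x * y - τ (x * y)) = lam (y * (x - τ x) + τ x * (y - τ y)) := by
      apply hcos _ (hτm _) _ (m.add_mem (m.mul_mem_left _ (hτm x)) (m.mul_mem_left _ (hτm y)))
      have h1 : x * y - τ (x * y) - (y * (x - τ x) + τ x * (y - τ y)) =
          f (σ (res x) * σ (res y) - σ (res (x * y))) := by
        simp only [τ, map_mul, map_sub]; ring
      rw [h1]
      apply hfJ'
      simp only [map_sub, map_mul, hσ, sub_self]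
    rw [h2, hadd _ (m.mul_mem_left _ (hτm x)) _ (m.mul_mem_left _ (hτm y)),
      hsmul _ _ (hτm x), hsmul _ _ (hτm y), hτ]
    ring
  · intro r
    change lam (f r - τ (f r)) = 0
    apply hlamJ
    have h1 : f r - τ (f r) = f (r - σ (res (f r))) := by
      simp only [τ, map_sub]
    rw [h1]
    apply hfJ'
    simp only [map_sub, hσ, sub_self]
  · intro j hj
    change lam (j - τ j) = 0
    apply hlamJ
    refine J.sub_mem hj ?_
    apply hfJ'
    rw [hσ]; exact hJm j hj
  · refine ⟨z₀, ?_⟩
    change lam (z₀ - τ z₀) ≠ 0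
    have : lam (z₀ - τ z₀) = lam z₀ := by
      apply hcos _ (hτm _) _ hz₀m
      have h1 : z₀ - τ z₀ - z₀ = - τ z₀ := by ring
      rw [h1]
      apply J.neg_mem
      apply hfJ'
      rw [hσ]; exact (hmem z₀).1 hz₀m
    rw [this]; exact hz₀

end PureAlg

section Surj

variable {R : Type u} {S : Type v} [CommRing R] [CommRing S] [IsLocalRing R] [IsLocalRing S]

theorem map_maximalIdeal_eq_of_sup_sq [IsNoetherianRing S] (f : R →+* S)
    (h : Ideal.map f (IsLocalRing.maximalIdeal R) ⊔ IsLocalRing.maximalIdeal S ^ 2 =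
      IsLocalRing.maximalIdeal S) :
    Ideal.map f (IsLocalRing.maximalIdeal R) = IsLocalRing.maximalIdeal S := by
  apply le_antisymm
  · rw [← h]; exact le_sup_left
  · apply Submodule.le_of_le_smul_of_le_jacobson_bot (I := IsLocalRing.maximalIdeal S)
      (IsNoetherian.noetherian _)
    · rw [IsLocalRing.jacobson_eq_maximalIdeal ⊥ bot_ne_top]
    · rw [smul_eq_mul, ← pow_two, h]

theorem surjective_of_map_maximalIdeal_eq (f : R →+* S)
    [IsPrecomplete (IsLocalRing.maximalIdeal R) R] [IsHausdorff (IsLocalRing.maximalIdeal S) S]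
    (hres : ∀ s : S, ∃ r : R, s - f r ∈ IsLocalRing.maximalIdeal S)
    (h : Ideal.map f (IsLocalRing.maximalIdeal R) = IsLocalRing.maximalIdeal S) :
    Function.Surjective f := by
  haveI : IsHausdorff ((IsLocalRing.maximalIdeal R).map f) S := by rw [h]; infer_instance
  apply surjective_of_mk_map_comp_surjective (I := IsLocalRing.maximalIdeal R) f
  intro x
  obtain ⟨s, rfl⟩ := Ideal.Quotient.mk_surjective x
  obtain ⟨r, hr⟩ := hres s
  refine ⟨r, ?_⟩
  rw [RingHom.comp_apply]
  symm
  rw [Ideal.Quotient.eq, h]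
  exact hr

theorem ring_surjective_of_map_sup_sq [IsNoetherianRing S] (f : R →+* S)
    [IsPrecomplete (IsLocalRing.maximalIdeal R) R] [IsHausdorff (IsLocalRing.maximalIdeal S) S]
    (hres : ∀ s : S, ∃ r : R, s - f r ∈ IsLocalRing.maximalIdeal S)
    (h : Ideal.map f (IsLocalRing.maximalIdeal R) ⊔ IsLocalRing.maximalIdeal S ^ 2 =
      IsLocalRing.maximalIdeal S) :
    Function.Surjective f :=
  surjective_of_map_maximalIdeal_eq f hres (map_maximalIdeal_eq_of_sup_sq f h)

end Surj

section Nilp

theorem isPrecomplete_of_pow_eq_bot {R : Type u} [CommRing R] (I : Ideal R) {n : ℕ}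
    (h : I ^ n = ⊥) : IsPrecomplete I R := by
  refine ⟨fun f hf => ⟨f n, fun m => ?_⟩⟩
  rcases le_total m n with hmn | hmn
  · exact hf hmn
  · have h1 := hf hmn
    rw [h, Submodule.bot_smul] at h1
    have h2 : f n = f m := by
      rw [SModEq.def, Submodule.Quotient.eq] at h1
      exact sub_eq_zero.1 ((Submodule.mem_bot R).1 h1)
    rw [h2]

theorem isHausdorff_of_pow_eq_bot {R : Type u} [CommRing R] (I : Ideal R) {n : ℕ}
    (h : I ^ n = ⊥) : IsHausdorff I R := by
  refine ⟨fun x hx => ?_⟩
  have h1 := hx n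
  rw [h, Submodule.bot_smul, SModEq.def, Submodule.Quotient.eq] at h1
  simpa using (Submodule.mem_bot R).1 h1

end Nilp

section RingLevel

variable {R : Type u} {S : Type v} {k : Type w} [CommRing R] [CommRing S] [IsLocalRing R]
  [IsLocalRing S] [Field k] (resR : R →+* k) (resS : S →+* k) (f : R →+* S)

include resR resS in
theorem ring_map_maximalIdeal_le (hf : resS.comp f = resR) (hR : Function.Surjective resR)
    (hS : Function.Surjective resS) :
    Ideal.map f (IsLocalRing.maximalIdeal R) ≤ IsLocalRing.maximalIdeal S := by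
  rw [Ideal.map_le_iff_le_comap]
  intro a ha
  rw [Ideal.mem_comap, mem_maximalIdeal_iff_res resS hS]
  rw [mem_maximalIdeal_iff_res resR hR] at ha
  rw [← ha, ← hf]; rfl

omit [IsLocalRing R] in
include resR resS in
theorem ring_exists_sub_mem (hf : resS.comp f = resR) (hR : Function.Surjective resR)
    (hS : Function.Surjective resS) (s : S) :
    ∃ r : R, s - f r ∈ IsLocalRing.maximalIdeal S := by
  obtain ⟨r, hr⟩ := hR (resS s)
  refine ⟨r, ?_⟩
  rw [mem_maximalIdeal_iff_res resS hS, map_sub, ← hr, ← hf]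
  simp

include resR resS in
theorem ring_map_maximalIdeal_eq_of_surjective (hf : resS.comp f = resR)
    (hR : Function.Surjective resR) (hS : Function.Surjective resS)
    (hsurj : Function.Surjective f) :
    Ideal.map f (IsLocalRing.maximalIdeal R) = IsLocalRing.maximalIdeal S := by
  apply le_antisymm (ring_map_maximalIdeal_le resR resS f hf hR hS)
  intro b hb
  obtain ⟨a, rfl⟩ := hsurj b
  apply Ideal.mem_map_of_mem
  rw [mem_maximalIdeal_iff_res resS hS] at hb
  rw [mem_maximalIdeal_iff_res resR hR, ← hf]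
  exact hb

include resR in
/-- if `f` is not surjective there is a nonzero derivation-like map killing the image -/
theorem ring_exists_deriv_of_not_surjective [IsNoetherianRing S]
    [IsPrecomplete (IsLocalRing.maximalIdeal R) R] [IsHausdorff (IsLocalRing.maximalIdeal S) S]
    (hf : resS.comp f = resR) (hR : Function.Surjective resR)
    (hS : Function.Surjective resS) (hns : ¬ Function.Surjective f) :
    ∃ δ : S → k, (∀ x y, δ (x + y) = δ x + δ y) ∧
      (∀ x y, δ (x * y) = resS x * δ y + resS y * δ x) ∧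
      (∀ r, δ (f r) = 0) ∧ ∃ z, δ z ≠ 0 := by
  set J : Ideal S := Ideal.map f (IsLocalRing.maximalIdeal R) ⊔
    IsLocalRing.maximalIdeal S ^ 2 with hJdef
  have hJle : J ≤ IsLocalRing.maximalIdeal S :=
    sup_le (ring_map_maximalIdeal_le resR resS f hf hR hS) (Ideal.pow_le_self two_ne_zero)
  have hJne : J ≠ IsLocalRing.maximalIdeal S := fun hJ =>
    hns (ring_surjective_of_map_sup_sq f (ring_exists_sub_mem resR resS f hf hR hS) hJ)
  have hJlt : J < IsLocalRing.maximalIdeal S := lt_of_le_of_ne hJle hJne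
  obtain ⟨δ, hadd, hleib, hδf, -, z, hz⟩ := exists_deriv resS hS f (by rw [hf]; exact hR) J hJlt
    (fun r hr => by
      apply le_sup_left (a := Ideal.map f (IsLocalRing.maximalIdeal R))
      apply Ideal.mem_map_of_mem
      rw [mem_maximalIdeal_iff_res resR hR, ← hf]
      exact hr)
  exact ⟨δ, hadd, hleib, hδf, z, hz⟩

end RingLevel

section ArtLevel

variable {Λ : Type u} {k : Type u} [CommRing Λ] [Field k] [Algebra Λ k]

theorem Art.isPrecomplete (A : Art Λ k) : IsPrecomplete (IsLocalRing.maximalIdeal A) A := by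
  obtain ⟨n, hn⟩ := exists_pow_maximalIdeal_eq_bot A
  exact isPrecomplete_of_pow_eq_bot _ hn

theorem Art.isHausdorff (A : Art Λ k) : IsHausdorff (IsLocalRing.maximalIdeal A) A := by
  obtain ⟨n, hn⟩ := exists_pow_maximalIdeal_eq_bot A
  exact isHausdorff_of_pow_eq_bot _ hn

theorem Art.exists_sub_mem {A B : Art Λ k} (f : A ⟶ B) (s : B) :
    ∃ r : A, s - f r ∈ IsLocalRing.maximalIdeal B := by
  obtain ⟨r, hr⟩ := A.res_surjective (B.res s)
  refine ⟨r, ?_⟩
  rw [Art.mem_maximalIdeal_iff, map_sub, Art.res_app, hr, sub_self]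

theorem Art.surjective_of_map_sup_sq {A B : Art Λ k} (f : A ⟶ B)
    (h : Ideal.map f.toAlgHom (IsLocalRing.maximalIdeal A) ⊔ IsLocalRing.maximalIdeal B ^ 2 =
      IsLocalRing.maximalIdeal B) : Function.Surjective f := by
  haveI := Art.isPrecomplete A
  haveI := Art.isHausdorff B
  exact ring_surjective_of_map_sup_sq (f.toAlgHom : A →+* B) (Art.exists_sub_mem f) h

theorem Art.map_maximalIdeal_eq_of_surjective {A B : Art Λ k} (f : A ⟶ B)
    (hf : Function.Surjective f) :
    Ideal.map f.toAlgHom (IsLocalRing.maximalIdeal A) = IsLocalRing.maximalIdeal B := by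
  apply le_antisymm
  · rw [Ideal.map_le_iff_le_comap]
    intro a ha
    rw [Ideal.mem_comap, Art.mem_maximalIdeal_iff]
    rw [Art.mem_maximalIdeal_iff] at ha
    rw [Art.res_app, ha]
  · intro b hb
    obtain ⟨a, rfl⟩ := hf b
    apply Ideal.mem_map_of_mem
    rw [Art.mem_maximalIdeal_iff] at hb ⊢
    rw [← hb]; exact (Art.res_app f a).symm

/-- the morphism `A → k[ε]` attached to a derivation-like map -/
noncomputable def homOfDeriv (A : Art Λ k) (δ : A → k) (hadd : ∀ x y, δ (x + y) = δ x + δ y)
    (hleib : ∀ x y, δ (x * y) = A.res x * δ y + A.res y * δ x)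
    (hΛ : ∀ l : Λ, δ (algebraMap Λ A l) = 0) : A ⟶ dual Λ k :=
  ⟨{ toFun := fun y => (⟨A.res y, δ y⟩ : TrivSqZeroExt k k)
     map_one' := by
       have h1 : δ 1 = 0 := by simpa using hΛ 1
       apply TrivSqZeroExt.ext
       · exact map_one A.res
       · exact h1
     map_mul' := fun x y => by
       apply TrivSqZeroExt.ext
       · exact map_mul A.res x y
       · change δ (x * y) = A.res x • δ y + MulOpposite.op (A.res y) • δ x
         rw [hleib]; simp [mul_comm]
     map_zero' := by
       have h0 : δ 0 = 0 := by simpa using hΛ 0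
       apply TrivSqZeroExt.ext
       · exact map_zero A.res
       · exact h0
     map_add' := fun x y => by
       apply TrivSqZeroExt.ext
       · exact map_add A.res x y
       · exact hadd x y
     commutes' := fun l => by
       apply TrivSqZeroExt.ext
       · change A.res (algebraMap Λ A l) = (algebraMap Λ (TrivSqZeroExt k k) l).fst
         rw [TrivSqZeroExt.algebraMap_eq_inl', TrivSqZeroExt.fst_inl, AlgHom.commutes]
       · change δ (algebraMap Λ A l) = (algebraMap Λ (TrivSqZeroExt k k) l).snd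
         rw [TrivSqZeroExt.algebraMap_eq_inl', TrivSqZeroExt.snd_inl, hΛ] },
   AlgHom.ext fun _ => rfl⟩

theorem homOfDeriv_snd (A : Art Λ k) (δ : A → k) (hadd : ∀ x y, δ (x + y) = δ x + δ y)
    (hleib : ∀ x y, δ (x * y) = A.res x * δ y + A.res y * δ x)
    (hΛ : ∀ l : Λ, δ (algebraMap Λ A l) = 0) (y : A) :
    TrivSqZeroExt.snd (homOfDeriv A δ hadd hleib hΛ y) = δ y := rfl

theorem homOfDeriv_fst (A : Art Λ k) (δ : A → k) (hadd : ∀ x y, δ (x + y) = δ x + δ y)
    (hleib : ∀ x y, δ (x * y) = A.res x * δ y + A.res y * δ x)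
    (hΛ : ∀ l : Λ, δ (algebraMap Λ A l) = 0) (y : A) :
    TrivSqZeroExt.fst (homOfDeriv A δ hadd hleib hΛ y) = A.res y := rfl

/-- key lemma: a morphism which is "mono on dual-number points" is surjective -/
theorem Art.surjective_of_dual_cancel {A B : Art Λ k} (f : B ⟶ A)
    (h : ∀ a b : A ⟶ dual Λ k, f ≫ a = f ≫ b → a = b) : Function.Surjective f := by
  by_contra hns
  set J : Ideal A := Ideal.map f.toAlgHom (IsLocalRing.maximalIdeal B) ⊔
    IsLocalRing.maximalIdeal A ^ 2 with hJdef
  have hJle : J ≤ IsLocalRing.maximalIdeal A := by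
    refine sup_le ?_ (Ideal.pow_le_self two_ne_zero)
    rw [Ideal.map_le_iff_le_comap]
    intro a ha
    rw [Ideal.mem_comap, Art.mem_maximalIdeal_iff]
    rw [Art.mem_maximalIdeal_iff] at ha
    rw [Art.res_app, ha]
  have hJne : J ≠ IsLocalRing.maximalIdeal A := fun hJ =>
    hns (Art.surjective_of_map_sup_sq f hJ)
  have hJlt : J < IsLocalRing.maximalIdeal A := lt_of_le_of_ne hJle hJne
  obtain ⟨δ, hadd, hleib, hδf, -, z, hz⟩ := exists_deriv (A.res : A →+* k) A.res_surjective
    (f.toAlgHom : B →+* A) (fun c => by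
      obtain ⟨b, hb⟩ := B.res_surjective c
      exact ⟨b, by rw [← hb]; exact Art.res_app f b⟩) J hJlt (fun r hr => by
      apply le_sup_left (a := Ideal.map f.toAlgHom (IsLocalRing.maximalIdeal B))
      apply Ideal.mem_map_of_mem
      rw [Art.mem_maximalIdeal_iff, ← Art.res_app f]
      exact hr)
  have hΛ : ∀ l : Λ, δ (algebraMap Λ A l) = 0 := fun l => by
    have : algebraMap Λ A l = f (algebraMap Λ B l) := (f.toAlgHom.commutes l).symm
    rw [this]; exact hδf _
  have hab := h (homOfDeriv A δ hadd hleib hΛ)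
    (homOfDeriv A (fun _ => 0) (fun _ _ => by simp) (fun _ _ => by simp) (fun _ => rfl)) (by
      apply Art.hom_ext
      apply AlgHom.ext
      intro b
      apply TrivSqZeroExt.ext
      · rfl
      · exact hδf b)
  apply hz
  have := congrArg (fun g : A ⟶ dual Λ k => TrivSqZeroExt.snd (g z)) hab
  exact this

end ArtLevel

section KerLe

variable {Λ : Type u} {k : Type u} [CommRing Λ] [Field k] [Algebra Λ k]

theorem map_ker_le_map_maximalIdeal {R S : Type u} [CommRing R] [CommRing S] [Algebra Λ R]
    [Algebra Λ S] [IsLocalRing R] (resR : R →ₐ[Λ] k) (hresR : Function.Surjective resR)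
    (f : R →ₐ[Λ] S) :
    Ideal.map (algebraMap Λ S) (RingHom.ker (algebraMap Λ k)) ≤
      Ideal.map f (IsLocalRing.maximalIdeal R) := by
  rw [Ideal.map_le_iff_le_comap]
  intro l hl
  rw [Ideal.mem_comap, ← f.commutes l]
  apply Ideal.mem_map_of_mem
  rw [mem_maximalIdeal_iff_res (resR : R →+* k) hresR]
  change resR (algebraMap Λ R l) = 0
  rw [AlgHom.commutes]
  exact hl

theorem sup_map_ker_eq {R S : Type u} [CommRing R] [CommRing S] [Algebra Λ R]
    [Algebra Λ S] [IsLocalRing R] (resR : R →ₐ[Λ] k) (hresR : Function.Surjective resR)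
    (f : R →ₐ[Λ] S) (I : Ideal S) :
    Ideal.map (algebraMap Λ S) (RingHom.ker (algebraMap Λ k)) ⊔
      Ideal.map f (IsLocalRing.maximalIdeal R) ⊔ I =
    Ideal.map f (IsLocalRing.maximalIdeal R) ⊔ I := by
  rw [sup_eq_right.2 (map_ker_le_map_maximalIdeal resR hresR f)]

end KerLe

section Trunc

variable {Λ : Type u} {k : Type u} [CommRing Λ] [Field k] [Algebra Λ k]

theorem homSet_map_maximalIdeal_le (R : CRing Λ k) {A : Art Λ k}
    (a : HomSet R.carrier R.res A) :
    Ideal.map a.1 (IsLocalRing.maximalIdeal R.carrier) ≤ IsLocalRing.maximalIdeal A := by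
  have hf' : (A.res : A →+* k).comp (a.1 : R.carrier →+* A) = (R.res : R.carrier →+* k) := by
    ext x
    exact congrArg (fun g : R.carrier →ₐ[Λ] k => g x) a.2
  exact ring_map_maximalIdeal_le (R.res : R.carrier →+* k) (A.res : A →+* k)
    (a.1 : R.carrier →+* A) hf' R.res_surjective A.res_surjective

theorem homSet_apply_eq_zero (R : CRing Λ k) {A : Art Λ k} {n : ℕ}
    (hn : IsLocalRing.maximalIdeal A ^ (n + 1) = ⊥) (a : HomSet R.carrier R.res A)
    (x : R.carrier) (hx : x ∈ CRing.mpow R n) : a.1 x = 0 := by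
  have h1 : Ideal.map a.1 (CRing.mpow R n) ≤ ⊥ := by
    rw [CRing.mpow, Ideal.map_pow, ← hn]
    exact Ideal.pow_right_mono (homSet_map_maximalIdeal_le R a) _
  exact (Submodule.mem_bot A).1 (h1 (Ideal.mem_map_of_mem _ hx))

/-- a point of `h_R` with values in `A`, `m_A^(n+1) = 0`, factors through the `n`-th truncation -/
noncomputable def factorTrunc (R : CRing Λ k) {A : Art Λ k} {n : ℕ}
    (hn : IsLocalRing.maximalIdeal A ^ (n + 1) = ⊥) (a : HomSet R.carrier R.res A) :
    R.trunc n ⟶ A :=
  ⟨Ideal.Quotient.liftₐ (CRing.mpow R n) a.1 (homSet_apply_eq_zero R hn a), by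
    apply AlgHom.ext
    intro x
    obtain ⟨r, rfl⟩ := Ideal.Quotient.mk_surjective x
    exact congrArg (fun g : R.carrier →ₐ[Λ] k => g r) a.2⟩

theorem map_factorTrunc (R : CRing Λ k) {A : Art Λ k} {n : ℕ}
    (hn : IsLocalRing.maximalIdeal A ^ (n + 1) = ⊥) (a : HomSet R.carrier R.res A) :
    HomSet.map (factorTrunc R hn a) (R.truncHom n) = a :=
  Subtype.ext (AlgHom.ext fun _ => rfl)

theorem truncHom_cancel (R : CRing Λ k) {A : Art Λ k} {n : ℕ} {p q : R.trunc n ⟶ A}
    (h : HomSet.map p (R.truncHom n) = HomSet.map q (R.truncHom n)) : p = q := by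
  apply Art.hom_ext
  apply AlgHom.ext
  intro x
  obtain ⟨r, rfl⟩ := Ideal.Quotient.mk_surjective x
  exact congrArg (fun g : HomSet R.carrier R.res A => g.1 r) h

theorem homSet_map_comp {R : Type u} [CommRing R] [Algebra Λ R] {resR : R →ₐ[Λ] k}
    {A B C : Art Λ k} (f : A ⟶ B) (g : B ⟶ C) (a : HomSet R resR A) :
    HomSet.map (f ≫ g) a = HomSet.map g (HomSet.map f a) :=
  Subtype.ext (AlgHom.ext fun _ => rfl)

theorem homSet_map_id {R : Type u} [CommRing R] [Algebra Λ R] {resR : R →ₐ[Λ] k}
    {A : Art Λ k} (a : HomSet R resR A) : HomSet.map (𝟙 A) a = a :=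
  Subtype.ext (AlgHom.ext fun _ => rfl)

theorem Art.bijective_of_surjective_endo [Module.Finite Λ k] {A : Art Λ k} (f : A ⟶ A)
    (hf : Function.Surjective f) : Function.Bijective f := by
  haveI : IsNoetherian Λ A :=
    (isFiniteLength_iff_isNoetherian_isArtinian.1 (isFiniteLength_art A)).1
  exact ⟨IsNoetherian.injective_of_surjective_endomorphism f.toAlgHom.toLinearMap hf, hf⟩

/-- an endomorphism of `h_R` which is injective on the tangent space is bijective -/
theorem hR_endo_bijective [Module.Finite Λ k] (R : CRing Λ k)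
    (ψ : ∀ A : Art Λ k, HomSet R.carrier R.res A → HomSet R.carrier R.res A)
    (hnat : ∀ {A B : Art Λ k} (f : A ⟶ B) (a : HomSet R.carrier R.res A),
      ψ B (HomSet.map f a) = HomSet.map f (ψ A a))
    (hinj : Function.Injective (ψ (dual Λ k))) (A : Art Λ k) : Function.Bijective (ψ A) := by
  -- the endomorphisms of the truncations
  have key : ∀ n : ℕ, ∃ g : R.trunc n ⟶ R.trunc n,
      HomSet.map g (R.truncHom n) = ψ _ (R.truncHom n) ∧ Function.Bijective g := by
    intro n
    have hn : IsLocalRing.maximalIdeal (R.trunc n) ^ (n + 1) = ⊥ := by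
      rw [← le_bot_iff]
      calc IsLocalRing.maximalIdeal (R.carrier ⧸ CRing.mpow R n) ^ (n + 1)
          ≤ ((IsLocalRing.maximalIdeal R.carrier).map (Ideal.Quotient.mk (CRing.mpow R n))) ^ (n + 1) :=
            Ideal.pow_right_mono (CRing.maximalIdeal_quot_le R n) _
        _ = (CRing.mpow R n).map (Ideal.Quotient.mk (CRing.mpow R n)) := by rw [← Ideal.map_pow]
        _ = ⊥ := Ideal.map_quotient_self _
        _ ≤ ⊥ := le_rfl
    refine ⟨factorTrunc R hn (ψ _ (R.truncHom n)), map_factorTrunc R hn _, ?_⟩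
    apply Art.bijective_of_surjective_endo
    apply Art.surjective_of_dual_cancel
    intro a b hab
    apply truncHom_cancel R
    apply hinj
    rw [hnat, hnat, ← map_factorTrunc R hn (ψ _ (R.truncHom n)), ← homSet_map_comp,
      ← homSet_map_comp, hab]
  obtain ⟨n, hn⟩ : ∃ n, IsLocalRing.maximalIdeal A ^ (n + 1) = ⊥ := by
    obtain ⟨n, hn⟩ := exists_pow_maximalIdeal_eq_bot A
    refine ⟨n, ?_⟩
    rw [pow_succ, hn, Ideal.bot_mul]
  obtain ⟨g, hg, hgbij⟩ := key n
  haveI : IsIso g := isIso_of_bijective g hgbij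
  constructor
  · intro a a' haa'
    rw [← map_factorTrunc R hn a, ← map_factorTrunc R hn a', hnat, hnat, ← hg,
      ← homSet_map_comp, ← homSet_map_comp] at haa'
    have h1 := truncHom_cancel R haa'
    have h2 : factorTrunc R hn a = factorTrunc R hn a' := (cancel_epi g).1 h1
    rw [← map_factorTrunc R hn a, ← map_factorTrunc R hn a', h2]
  · intro b
    refine ⟨HomSet.map (inv g ≫ factorTrunc R hn b) (R.truncHom n), ?_⟩
    rw [hnat, ← hg, ← homSet_map_comp, ← Category.assoc, IsIso.hom_inv_id, Category.id_comp,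
      map_factorTrunc]

end Trunc

section MinVersal

variable {Λ : Type u} {k : Type u} [CommRing Λ] [Field k] [Algebra Λ k]

/-- the point of `h_R(k[ε])` attached to a derivation-like map -/
noncomputable def homSetOfDeriv {R : Type u} [CommRing R] [Algebra Λ R] (resR : R →ₐ[Λ] k)
    (δ : R → k) (hadd : ∀ x y, δ (x + y) = δ x + δ y)
    (hleib : ∀ x y, δ (x * y) = resR x * δ y + resR y * δ x)
    (hΛ : ∀ l : Λ, δ (algebraMap Λ R l) = 0) : HomSet R resR (dual Λ k) :=
  ⟨{ toFun := fun y => (⟨resR y, δ y⟩ : TrivSqZeroExt k k)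
     map_one' := by
       have h1 : δ 1 = 0 := by simpa using hΛ 1
       apply TrivSqZeroExt.ext
       · exact map_one resR
       · exact h1
     map_mul' := fun x y => by
       apply TrivSqZeroExt.ext
       · exact map_mul resR x y
       · change δ (x * y) = resR x • δ y + MulOpposite.op (resR y) • δ x
         rw [hleib]; simp [mul_comm]
     map_zero' := by
       have h0 : δ 0 = 0 := by simpa using hΛ 0
       apply TrivSqZeroExt.ext
       · exact map_zero resR
       · exact h0
     map_add' := fun x y => by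
       apply TrivSqZeroExt.ext
       · exact map_add resR x y
       · exact hadd x y
     commutes' := fun l => by
       apply TrivSqZeroExt.ext
       · change resR (algebraMap Λ R l) = (algebraMap Λ (TrivSqZeroExt k k) l).fst
         rw [TrivSqZeroExt.algebraMap_eq_inl', TrivSqZeroExt.fst_inl, AlgHom.commutes]
       · change δ (algebraMap Λ R l) = (algebraMap Λ (TrivSqZeroExt k k) l).snd
         rw [TrivSqZeroExt.algebraMap_eq_inl', TrivSqZeroExt.snd_inl, hΛ] },
   AlgHom.ext fun _ => rfl⟩

theorem tsze_mul_eq_zero {x y : TrivSqZeroExt k k} (hx : x.fst = 0) (hy : y.fst = 0) :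
    x * y = 0 := by
  apply TrivSqZeroExt.ext
  · rw [TrivSqZeroExt.fst_mul, hx, zero_mul, TrivSqZeroExt.fst_zero]
  · rw [TrivSqZeroExt.snd_mul, hx, hy]; simp

theorem maximalIdeal_dual_sq : IsLocalRing.maximalIdeal (dual Λ k) ^ (1 + 1) = ⊥ := by
  rw [← le_bot_iff, pow_two, Ideal.mul_le]
  intro x hx y hy
  rw [Art.mem_maximalIdeal_iff] at hx hy
  rw [Submodule.mem_bot]
  exact tsze_mul_eq_zero (k := k) hx hy

/-- if the tangent map of a family over `R` is injective, then any morphism `R' → R` along which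
some formal element pushes forward to the formal element of the family is surjective -/
theorem surjective_of_push_eq {F : Art Λ k ⥤ Type v} {R R' : CRing Λ k}
    (ξ : Family R.carrier R.res F) (hξ : Function.Injective (ξ.app (dual Λ k)))
    (u : FormalElt F R') (f : R'.carrier →ₐ[Λ] R.carrier) (hf : R.res.comp f = R'.res)
    (hpush : u.push f hf = ξ.toFormalElt) : Function.Surjective f := by
  by_contra hns
  have hf' : (R.res : R.carrier →+* k).comp (f : R'.carrier →+* R.carrier) =
      (R'.res : R'.carrier →+* k) := by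
    ext x
    exact congrArg (fun g : R'.carrier →ₐ[Λ] k => g x) hf
  have : IsPrecomplete (IsLocalRing.maximalIdeal R'.carrier) R'.carrier :=
    R'.isAdicComplete.toIsPrecomplete
  have : IsHausdorff (IsLocalRing.maximalIdeal R.carrier) R.carrier :=
    R.isAdicComplete.toIsHausdorff
  obtain ⟨δ, hadd, hleib, hδf, z, hz⟩ :=
    ring_exists_deriv_of_not_surjective
      (R'.res : R'.carrier →+* k) (R.res : R.carrier →+* k) (f : R'.carrier →+* R.carrier) hf'
      R'.res_surjective R.res_surjective hns
  have hΛ : ∀ l : Λ, δ (algebraMap Λ R.carrier l) = 0 := fun l => by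
    have : algebraMap Λ R.carrier l = f (algebraMap Λ R'.carrier l) := (f.commutes l).symm
    rw [this]; exact hδf _
  set a := homSetOfDeriv R.res δ hadd hleib hΛ with ha
  set b := homSetOfDeriv R.res (fun _ => 0) (fun _ _ => by simp) (fun _ _ => by simp)
    (fun _ => rfl) with hb
  have hn := maximalIdeal_dual_sq (Λ := Λ) (k := k)
  have hlev := congrArg (fun w : FormalElt F R => w.elt 1) hpush
  change F.map (CRing.truncMapOfHom f hf 1) (u.elt 1) = ξ.app _ (R.truncHom 1) at hlev
  have hcomp : CRing.truncMapOfHom f hf 1 ≫ factorTrunc R hn a =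
      CRing.truncMapOfHom f hf 1 ≫ factorTrunc R hn b := by
    apply Art.hom_ext
    apply AlgHom.ext
    intro x
    obtain ⟨r, rfl⟩ := Ideal.Quotient.mk_surjective x
    change a.1 (f r) = b.1 (f r)
    apply TrivSqZeroExt.ext
    · rfl
    · exact hδf r
  have hab : ξ.app _ a = ξ.app _ b := by
    rw [← map_factorTrunc R hn a, ← map_factorTrunc R hn b, ξ.natural, ξ.natural, ← hlev,
      ← map_comp_app, ← map_comp_app, hcomp]
  have := hξ hab
  apply hz
  have h2 := congrArg (fun g : HomSet R.carrier R.res (dual Λ k) => TrivSqZeroExt.snd (g.1 z)) this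
  exact h2

end MinVersal

section DualHelpers

variable {Λ : Type u} {k : Type u} [CommRing Λ] [Field k] [Algebra Λ k]

/-- first component of a dual number (as element of the object `dual`) -/
def dfst (x : (dual Λ k).carrier) : k := TrivSqZeroExt.fst (show TrivSqZeroExt k k from x)

/-- second component of a dual number (as element of the object `dual`) -/
def dsnd (x : (dual Λ k).carrier) : k := TrivSqZeroExt.snd (show TrivSqZeroExt k k from x)

theorem dual_ext {x y : (dual Λ k).carrier} (h1 : dfst x = dfst y) (h2 : dsnd x = dsnd y) :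
    x = y := TrivSqZeroExt.ext h1 h2

theorem dfst_eq_res (x : (dual Λ k).carrier) : dfst x = (dual Λ k).res x := rfl

theorem dsnd_add (x y : (dual Λ k).carrier) : dsnd (x + y) = dsnd x + dsnd y := rfl

theorem dsnd_smul (l : Λ) (x : (dual Λ k).carrier) : dsnd (l • x) = l • dsnd x := rfl

theorem dsnd_mul (x y : (dual Λ k).carrier) :
    dsnd (x * y) = dfst x * dsnd y + dfst y * dsnd x := by
  change TrivSqZeroExt.snd ((show TrivSqZeroExt k k from x) * (show TrivSqZeroExt k k from y)) = _
  rw [TrivSqZeroExt.snd_mul]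
  simp only [dfst, dsnd, smul_eq_mul, MulOpposite.smul_eq_mul_unop, MulOpposite.unop_op]
  ring

theorem dsnd_homSetOfDeriv {R : Type u} [CommRing R] [Algebra Λ R] (resR : R →ₐ[Λ] k)
    (δ : R → k) (hadd : ∀ x y, δ (x + y) = δ x + δ y)
    (hleib : ∀ x y, δ (x * y) = resR x * δ y + resR y * δ x)
    (hΛ : ∀ l : Λ, δ (algebraMap Λ R l) = 0) (y : R) :
    dsnd ((homSetOfDeriv resR δ hadd hleib hΛ).1 y) = δ y := rfl

theorem dfst_homSet {R : Type u} [CommRing R] [Algebra Λ R] {resR : R →ₐ[Λ] k}
    (a : HomSet R resR (dual Λ k)) (y : R) : dfst (a.1 y) = resR y :=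
  congrArg (fun g : R →ₐ[Λ] k => g y) a.2

theorem dsnd_scale (c : k) (x : (dual Λ k).carrier) : dsnd (scale c x) = c * dsnd x := rfl

theorem dfst_hom (f : dual Λ k ⟶ dual Λ k) (x : (dual Λ k).carrier) : dfst (f x) = dfst x :=
  Art.res_app f x

end DualHelpers

section DerFinite

variable {Λ : Type u} {k : Type u} [CommRing Λ] [Field k] [Algebra Λ k]

theorem finite_derivation [IsNoetherianRing Λ] [Module.Finite Λ k]
    (S : Type u) [CommRing S] [Algebra Λ S] [IsLocalRing S] [IsNoetherianRing S]
    [IsAdicComplete (IsLocalRing.maximalIdeal S) S] [Algebra S k] [IsScalarTower Λ S k]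
    (hres : Function.Surjective (algebraMap S k)) :
    Module.Finite k (Derivation Λ S k) := by
  classical
  let R : ArtFun.CRing Λ k :=
    { carrier := S
      res := IsScalarTower.toAlgHom Λ S k
      res_surjective := hres
      isAdicComplete := inferInstance }
  have hfl := isFiniteLength_art (R.trunc 1)
  have : IsNoetherian Λ (R.trunc 1) := (isFiniteLength_iff_isNoetherian_isArtinian.1 hfl).1
  have : Module.Finite Λ (S ⧸ ArtFun.CRing.mpow R 1) :=
    (inferInstance : Module.Finite Λ (R.trunc 1))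
  obtain ⟨n, s, hs⟩ := Module.Finite.exists_fin (R := Λ) (M := S ⧸ ArtFun.CRing.mpow R 1)
  choose t ht using fun i => Ideal.Quotient.mk_surjective (s i)
  -- derivations kill m^2
  have hm : ∀ x : S, x ∈ IsLocalRing.maximalIdeal S → algebraMap S k x = 0 := fun x hx =>
    (mem_maximalIdeal_iff_res (algebraMap S k) hres x).1 hx
  have hkill : ∀ (D : Derivation Λ S k) (y : S), y ∈ ArtFun.CRing.mpow R 1 → D y = 0 := by
    intro D y hy
    have hy' : y ∈ IsLocalRing.maximalIdeal S * IsLocalRing.maximalIdeal S := by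
      have : ArtFun.CRing.mpow R 1 = IsLocalRing.maximalIdeal S * IsLocalRing.maximalIdeal S :=
        pow_two _
      rw [← this]; exact hy
    refine Submodule.mul_induction_on hy' ?_ ?_
    · intro a ha b hb
      rw [Derivation.leibniz, Algebra.smul_def, Algebra.smul_def, hm a ha, hm b hb, zero_mul,
        zero_mul, add_zero]
    · intro a b ha hb
      rw [map_add, ha, hb, add_zero]
  let Ψ : Derivation Λ S k →ₗ[k] (Fin n → k) :=
    { toFun := fun D i => D (t i)
      map_add' := fun D D' => rfl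
      map_smul' := fun c D => rfl }
  have hΨ : Function.Injective Ψ := by
    rw [← LinearMap.ker_eq_bot, LinearMap.ker_eq_bot']
    intro D hD
    have hDt : ∀ i, D (t i) = 0 := fun i => congrFun hD i
    ext x
    have hx : (Ideal.Quotient.mk (ArtFun.CRing.mpow R 1) x) ∈
        Submodule.span Λ (Set.range s) := by rw [hs]; exact Submodule.mem_top
    obtain ⟨c, hc⟩ := (Submodule.mem_span_range_iff_exists_fun Λ).1 hx
    have h1 : x - ∑ i, c i • t i ∈ ArtFun.CRing.mpow R 1 := by
      rw [← Ideal.Quotient.eq, ← hc, map_sum]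
      refine Finset.sum_congr rfl (fun i _ => ?_)
      rw [← ht i]
      rfl
    have h2 := hkill D _ h1
    rw [map_sub, map_sum, sub_eq_zero] at h2
    rw [h2]
    simp [hDt]
  exact Module.Finite.of_injective Ψ hΨ


/-- a family over a complete local Noetherian ring which is surjective on tangent spaces forces
finite-dimensionality of the tangent space -/
theorem hfin_of_tangent_surjective [IsNoetherianRing Λ] [Module.Finite Λ k]
    {F : Art Λ k ⥤ Type v} [TangentStr F] (R : CRing Λ k) (ξ : Family R.carrier R.res F)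
    (hsurj : Function.Surjective (ξ.app (dual Λ k))) : Hfin F := by
  letI : Algebra R.carrier k := R.res.toRingHom.toAlgebra
  haveI : IsScalarTower Λ R.carrier k :=
    IsScalarTower.of_algebraMap_eq (fun l => (R.res.commutes l).symm)
  haveI := R.isAdicComplete
  have hfin : Module.Finite k (Derivation Λ R.carrier k) :=
    finite_derivation R.carrier R.res_surjective
  let pt : Derivation Λ R.carrier k → HomSet R.carrier R.res (dual Λ k) := fun D =>
    homSetOfDeriv R.res D (map_add D) (fun x y => by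
      rw [Derivation.leibniz]; rfl) (fun l => D.map_algebraMap l)
  have hpt_snd : ∀ D y, dsnd ((pt D).1 y) = D y := fun _ _ => rfl
  let Φ : Derivation Λ R.carrier k →ₗ[k] TangentSpace F :=
    { toFun := fun D => ξ.app _ (pt D)
      map_add' := fun D D' => by
        obtain ⟨χ, h1, h2⟩ := IsFibreProd.exists_lift_homSet (isFibreProd_dual2 (Λ := Λ) (k := k))
          (pt D) (pt D') (Subsingleton.elim (h := subsingleton_hR_base) _ _)
        have e := TangentStr.add_eq (F := F) (ξ.app _ χ)
        rw [← ξ.natural, ← ξ.natural, ← ξ.natural, h1, h2] at e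
        have e3 : HomSet.map plus χ = pt (D + D') := by
          apply Subtype.ext
          apply AlgHom.ext
          intro y
          have hy1 := congrArg (fun t : HomSet R.carrier R.res (dual Λ k) => t.1 y) h1
          have hy2 := congrArg (fun t : HomSet R.carrier R.res (dual Λ k) => t.1 y) h2
          apply dual_ext
          · rw [dfst_homSet, dfst_homSet]
          · have a1 : dsnd (pr₁ (χ.1 y)) = D y := congrArg dsnd hy1
            have a2 : dsnd (pr₂ (χ.1 y)) = D' y := congrArg dsnd hy2
            change dsnd (pr₁ (χ.1 y)) + dsnd (pr₂ (χ.1 y)) = D y + D' y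
            rw [a1, a2]
        rw [e3] at e
        exact e.symm
      map_smul' := fun c D => by
        have e1 : pt (c • D) = HomSet.map (scale c) (pt D) :=
          Subtype.ext (AlgHom.ext fun y => dual_ext rfl rfl)
        change ξ.app _ (pt (c • D)) = c • (show TangentSpace F from ξ.app _ (pt D))
        rw [e1, ξ.natural]
        exact (TangentStr.smul_eq (F := F) c _).symm }
  have hΦ : Function.Surjective Φ := by
    intro x
    obtain ⟨a, ha⟩ := hsurj x
    let Dl : R.carrier →ₗ[Λ] k :=
      { toFun := fun y => dsnd (a.1 y)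
        map_add' := fun y y' => by rw [map_add, dsnd_add]
        map_smul' := fun l y => by
          rw [map_smul, dsnd_smul]; rfl }
    let D : Derivation Λ R.carrier k := Derivation.mk' Dl (fun y y' => by
      change dsnd (a.1 (y * y')) = y • dsnd (a.1 y') + y' • dsnd (a.1 y)
      rw [map_mul, dsnd_mul, dfst_homSet, dfst_homSet]
      rfl)
    refine ⟨D, ?_⟩
    change ξ.app _ (pt D) = x
    rw [← ha]
    congr 1
    apply Subtype.ext
    apply AlgHom.ext
    intro y
    exact dual_ext ((dfst_homSet _ y).trans (dfst_homSet a y).symm) rfl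
  exact Module.Finite.of_surjective Φ hΦ

end DerFinite

end Groth.Agent.Helper3.ArtFunLib
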