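import Mathlib
import Groth.Agent.Lib.Helper3.ArtFunD
import Groth.Prelude.Def_CAlgX

set_option linter.style.haveILetI false

universe u v w

open CategoryTheory

namespace Groth.Agent.Helper3.ArtFunLib

open ArtFun ArtFun.Art

section FormallySmooth

variable {Λ : Type u} {k : Type u} [CommRing Λ] [Field k] [Algebra Λ k]

theorem trunc_pow_eq_bot (R : CRing Λ k) (n : ℕ) :
    IsLocalRing.maximalIdeal (R.trunc n) ^ (n + 1) = ⊥ := by
  rw [← le_bot_iff]
  calc IsLocalRing.maximalIdeal (R.carrier ⧸ CRing.mpow R n) ^ (n + 1)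
      ≤ ((IsLocalRing.maximalIdeal R.carrier).map (Ideal.Quotient.mk (CRing.mpow R n))) ^ (n + 1) :=
        Ideal.pow_right_mono (CRing.maximalIdeal_quot_le R n) _
    _ = (CRing.mpow R n).map (Ideal.Quotient.mk (CRing.mpow R n)) := by rw [← Ideal.map_pow]
    _ = ⊥ := Ideal.map_quotient_self _
    _ ≤ ⊥ := le_rfl

/-- `h_R` is smooth if `Λ → R` is formally smooth for the adic topology -/
theorem isSmoothFunctor_hR_of_formallySmooth [Module.Finite Λ k] (R : CRing Λ k)
    (h : CAlgX.IsAdicFormallySmooth Λ R.carrier (IsLocalRing.maximalIdeal R.carrier)) :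
    IsSmoothFunctor (hR R.carrier R.res) := by
  intro B A μ hμ
  refine smallExt_induction
    (fun A B μ => Function.Surjective ((hR R.carrier R.res).map μ)) ?_ ?_ ?_ μ hμ
  · intro A B e he a
    haveI := he
    refine ⟨HomSet.map (inv e) a, ?_⟩
    change HomSet.map e (HomSet.map (inv e) a) = a
    rw [← homSet_map_comp, IsIso.inv_hom_id, homSet_map_id]
  · intro A B μ hμ a
    have hJ2 : RingHom.ker μ.toAlgHom ^ 2 = ⊥ := by
      rw [← le_bot_iff, pow_two, ← hμ.2.2.2]
      exact Ideal.mul_mono_left (ker_le_maximalIdeal μ)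
    obtain ⟨n, hn⟩ : ∃ n, IsLocalRing.maximalIdeal A ^ (n + 1) = ⊥ := by
      obtain ⟨n, hn⟩ := exists_pow_maximalIdeal_eq_bot A
      exact ⟨n, by rw [pow_succ, hn, Ideal.bot_mul]⟩
    let e := Ideal.quotientKerAlgEquivOfSurjective (f := μ.toAlgHom) hμ.1
    obtain ⟨χ, hχ⟩ := h B (RingHom.ker μ.toAlgHom) hJ2 (e.symm.toAlgHom.comp a.1)
      ⟨n + 1, fun x hx => by
        change e.symm (a.1 x) = 0
        rw [homSet_apply_eq_zero R hn a x hx, map_zero]⟩
    have hμχ : ∀ r, μ (χ r) = a.1 r := by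
      intro r
      have h1 := congrArg (fun g : R.carrier →ₐ[Λ] B ⧸ RingHom.ker μ.toAlgHom => e (g r)) hχ
      change e (Ideal.Quotient.mk _ (χ r)) = e (e.symm (a.1 r)) at h1
      rw [AlgEquiv.apply_symm_apply] at h1
      rw [← h1]
      rfl
    refine ⟨⟨χ, ?_⟩, ?_⟩
    · apply AlgHom.ext
      intro r
      change B.res (χ r) = R.res r
      rw [← Art.res_app μ, hμχ]
      exact congrArg (fun g : R.carrier →ₐ[Λ] k => g r) a.2
    · apply Subtype.ext
      apply AlgHom.ext
      intro r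
      exact hμχ r
  · intro A B C p q hp hq a
    obtain ⟨b, hb⟩ := hq a
    obtain ⟨c, hc⟩ := hp b
    refine ⟨c, ?_⟩
    change HomSet.map (p ≫ q) c = a
    rw [homSet_map_comp]
    change HomSet.map p c = b at hc
    rw [hc]
    exact hb

end FormallySmooth

section Thickening

variable {Λ : Type u} {k : Type u} [CommRing Λ] [Field k] [Algebra Λ k]
variable (T : Art Λ k) {n : ℕ} (s : Fin n → T)

/-- the polynomial presentation of `T` attached to module generators -/
noncomputable def polyMap : MvPolynomial (Fin n) Λ →ₐ[Λ] T := MvPolynomial.aeval s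

theorem polyMap_surjective (hs : Submodule.span Λ (Set.range s) = ⊤) :
    Function.Surjective (polyMap T s) := by
  intro t
  have ht : t ∈ Submodule.span Λ (Set.range s) := by rw [hs]; exact Submodule.mem_top
  have hle : Submodule.span Λ (Set.range s) ≤
      Subalgebra.toSubmodule (polyMap T s).range := by
    rw [Submodule.span_le]
    rintro _ ⟨i, rfl⟩
    exact ⟨MvPolynomial.X i, by simp [polyMap]⟩
  obtain ⟨p, hp⟩ := hle ht
  exact ⟨p, hp⟩

/-- the square-zero thickening `P / (ker γ)^2` -/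
abbrev Thick : Type u := MvPolynomial (Fin n) Λ ⧸ (RingHom.ker (polyMap T s)) ^ 2

/-- the projection of the thickening onto `T` -/
noncomputable def thickToT : Thick T s →ₐ[Λ] T :=
  Ideal.Quotient.liftₐ _ (polyMap T s) (fun _ hp =>
    Ideal.pow_le_self two_ne_zero hp)

theorem thickToT_mk (p : MvPolynomial (Fin n) Λ) :
    thickToT T s (Ideal.Quotient.mk _ p) = polyMap T s p := rfl

theorem thickToT_surjective (hs : Submodule.span Λ (Set.range s) = ⊤) :
    Function.Surjective (thickToT T s) := by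
  intro t
  obtain ⟨p, hp⟩ := polyMap_surjective T s hs t
  exact ⟨Ideal.Quotient.mk _ p, hp⟩

theorem thick_ker_mul {x y : Thick T s} (hx : thickToT T s x = 0) (hy : thickToT T s y = 0) :
    x * y = 0 := by
  obtain ⟨p, rfl⟩ := Ideal.Quotient.mk_surjective x
  obtain ⟨q, rfl⟩ := Ideal.Quotient.mk_surjective y
  rw [← map_mul, Ideal.Quotient.eq_zero_iff_mem, pow_two]
  exact Ideal.mul_mem_mul hx hy

theorem isLocalHom_thickToT (hs : Submodule.span Λ (Set.range s) = ⊤) :
    IsLocalHom (thickToT T s : Thick T s →+* T) := by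
  refine ⟨fun x hx => ?_⟩
  obtain ⟨t', ht'⟩ := hx.exists_right_inv
  obtain ⟨y, rfl⟩ := thickToT_surjective T s hs t'
  have h0 : thickToT T s (x * y - 1) = 0 := by
    rw [map_sub, map_mul, map_one, sub_eq_zero]; exact ht'
  have hnil : IsNilpotent (x * y - 1) := ⟨2, by rw [pow_two]; exact thick_ker_mul T s h0 h0⟩
  have hu : IsUnit (x * y) := by
    have := hnil.isUnit_add_one
    rwa [sub_add_cancel] at this
  exact isUnit_of_mul_isUnit_left hu

theorem isLocalRing_thick (hs : Submodule.span Λ (Set.range s) = ⊤) : IsLocalRing (Thick T s) := by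
  haveI := isLocalHom_thickToT T s hs
  exact RingHom.domain_isLocalRing (thickToT T s : Thick T s →+* T)

theorem thickToT_eq_zero_of_mem_pow (hs : Submodule.span Λ (Set.range s) = ⊤)
    [IsLocalRing (Thick T s)] {N : ℕ}
    (hN : IsLocalRing.maximalIdeal T ^ (N + 1) = ⊥) (x : Thick T s)
    (hx : x ∈ IsLocalRing.maximalIdeal (Thick T s) ^ (N + 1)) : thickToT T s x = 0 := by
  haveI := isLocalHom_thickToT T s hs
  have h1 : Ideal.map (thickToT T s : Thick T s →+* T) (IsLocalRing.maximalIdeal (Thick T s)) ≤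
      IsLocalRing.maximalIdeal T := by
    rw [Ideal.map_le_iff_le_comap]
    intro y hy
    rw [Ideal.mem_comap, IsLocalRing.mem_maximalIdeal, mem_nonunits_iff]
    intro hu
    exact (IsLocalRing.mem_maximalIdeal y).1 hy
      (isUnit_of_map_unit (thickToT T s : Thick T s →+* T) y hu)
  have h2 : Ideal.map (thickToT T s : Thick T s →+* T)
      (IsLocalRing.maximalIdeal (Thick T s) ^ (N + 1)) ≤ ⊥ := by
    rw [Ideal.map_pow, ← hN]
    exact Ideal.pow_right_mono h1 _
  exact (Submodule.mem_bot T).1 (h2 (Ideal.mem_map_of_mem _ hx))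

theorem isArtinianRing_thick [IsNoetherianRing Λ] (hs : Submodule.span Λ (Set.range s) = ⊤)
    [IsLocalRing (Thick T s)] : IsArtinianRing (Thick T s) := by
  rw [isArtinianRing_iff_isNilpotent_maximalIdeal]
  obtain ⟨N, hN⟩ : ∃ N, IsLocalRing.maximalIdeal T ^ (N + 1) = ⊥ := by
    obtain ⟨n, hn⟩ := exists_pow_maximalIdeal_eq_bot T
    exact ⟨n, by rw [pow_succ, hn, Ideal.bot_mul]⟩
  refine ⟨(N + 1) + (N + 1), ?_⟩
  rw [Ideal.zero_eq_bot, ← le_bot_iff, pow_add, Ideal.mul_le]
  intro x hx y hy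
  rw [Submodule.mem_bot]
  exact thick_ker_mul T s (thickToT_eq_zero_of_mem_pow T s hs hN x hx)
    (thickToT_eq_zero_of_mem_pow T s hs hN y hy)

/-- the thickening as an object of `Art` -/
noncomputable def thickArt [IsNoetherianRing Λ] (hs : Submodule.span Λ (Set.range s) = ⊤) :
    Art Λ k :=
  letI := isLocalRing_thick T s hs
  { carrier := Thick T s
    isLocalRing := isLocalRing_thick T s hs
    isArtinianRing := isArtinianRing_thick T s hs
    res := T.res.comp (thickToT T s)
    res_surjective := T.res_surjective.comp (thickToT_surjective T s hs) }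

/-- the projection as a morphism of `Art` -/
noncomputable def thickHom [IsNoetherianRing Λ] (hs : Submodule.span Λ (Set.range s) = ⊤) :
    thickArt T s hs ⟶ T :=
  ⟨thickToT T s, rfl⟩

theorem thickHom_surjective [IsNoetherianRing Λ] (hs : Submodule.span Λ (Set.range s) = ⊤) :
    Function.Surjective (thickHom T s hs) := thickToT_surjective T s hs

/-- mapping out of the thickening -/
noncomputable def thickLift {A : Type u} [CommRing A] [Algebra Λ A] (J : Ideal A) (hJ : J ^ 2 = ⊥)
    (α : MvPolynomial (Fin n) Λ →ₐ[Λ] A)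
    (hα : ∀ p, polyMap T s p = 0 → α p ∈ J) : Thick T s →ₐ[Λ] A :=
  Ideal.Quotient.liftₐ _ α (fun p hp => by
    have h1 : Ideal.map α (RingHom.ker (polyMap T s) ^ 2) ≤ ⊥ := by
      rw [Ideal.map_pow, ← hJ]
      apply Ideal.pow_right_mono
      rw [Ideal.map_le_iff_le_comap]
      intro q hq
      exact hα q hq
    exact (Submodule.mem_bot A).1 (h1 (Ideal.mem_map_of_mem _ hp)))

theorem thickLift_mk {A : Type u} [CommRing A] [Algebra Λ A] (J : Ideal A) (hJ : J ^ 2 = ⊥)
    (α : MvPolynomial (Fin n) Λ →ₐ[Λ] A)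
    (hα : ∀ p, polyMap T s p = 0 → α p ∈ J) (p : MvPolynomial (Fin n) Λ) :
    thickLift T s J hJ α hα (Ideal.Quotient.mk _ p) = α p := rfl

end Thickening

section FormallySmooth2

variable {Λ : Type u} {k : Type u} [CommRing Λ] [Field k] [Algebra Λ k]

/-- `Λ → R` is formally smooth for the adic topology if `h_R` is smooth -/
theorem formallySmooth_of_isSmoothFunctor_hR [IsNoetherianRing Λ] [Module.Finite Λ k]
    (R : CRing Λ k) (h : IsSmoothFunctor (hR R.carrier R.res)) :
    CAlgX.IsAdicFormallySmooth Λ R.carrier (IsLocalRing.maximalIdeal R.carrier) := by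
  intro A _ _ J hJ ψ hψ
  obtain ⟨N, hN⟩ := hψ
  have hN' : ∀ x ∈ CRing.mpow R N, ψ x = 0 := fun x hx =>
    hN x (Ideal.pow_le_pow_right (Nat.le_succ N) hx)
  let ψ' : R.trunc N →ₐ[Λ] A ⧸ J := Ideal.Quotient.liftₐ (CRing.mpow R N) ψ hN'
  have hψ' : ∀ r : R.carrier, ψ' ((R.truncHom N).1 r) = ψ r := fun r => rfl
  have hfl := isFiniteLength_art (R.trunc N)
  have : IsNoetherian Λ (R.trunc N) := (isFiniteLength_iff_isNoetherian_isArtinian.1 hfl).1
  have : Module.Finite Λ (R.trunc N) := inferInstance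
  obtain ⟨n, s, hs⟩ := Module.Finite.exists_fin (R := Λ) (M := R.trunc N)
  choose a ha using fun i => Ideal.Quotient.mk_surjective (ψ' (s i))
  let α : MvPolynomial (Fin n) Λ →ₐ[Λ] A := MvPolynomial.aeval a
  have hαγ : (Ideal.Quotient.mkₐ Λ J).comp α = ψ'.comp (polyMap (R.trunc N) s) := by
    apply MvPolynomial.algHom_ext
    intro i
    simp only [AlgHom.comp_apply, α, polyMap, MvPolynomial.aeval_X]
    exact ha i
  have hαγ' : ∀ p, Ideal.Quotient.mk J (α p) = ψ' (polyMap (R.trunc N) s p) := fun p =>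
    congrArg (fun g : MvPolynomial (Fin n) Λ →ₐ[Λ] A ⧸ J => g p) hαγ
  have hα : ∀ p, polyMap (R.trunc N) s p = 0 → α p ∈ J := by
    intro p hp
    rw [← Ideal.Quotient.eq_zero_iff_mem, hαγ', hp, map_zero]
  obtain ⟨b, hb⟩ := h (thickHom (R.trunc N) s hs) (thickHom_surjective (R.trunc N) s hs)
    (R.truncHom N)
  have hb' : ∀ r, thickToT (R.trunc N) s (b.1 r) = (R.truncHom N).1 r := fun r =>
    congrArg (fun g : HomSet R.carrier R.res (R.trunc N) => g.1 r) hb
  refine ⟨(thickLift (R.trunc N) s J hJ α hα).comp b.1, ?_⟩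
  apply AlgHom.ext
  intro r
  change Ideal.Quotient.mk J (thickLift (R.trunc N) s J hJ α hα (b.1 r)) = ψ r
  obtain ⟨p, hp⟩ := Ideal.Quotient.mk_surjective (b.1 r)
  rw [← hp, thickLift_mk, hαγ', ← thickToT_mk, hp, hb', hψ']

end FormallySmooth2

end Groth.Agent.Helper3.ArtFunLib
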