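import Mathlib
import Groth.Agent.Lib.Helper3.ArtFunD

set_option linter.style.haveILetI false

universe u v w

open CategoryTheory
open scoped TensorProduct

namespace Groth.Agent.Helper3.ArtFunLib

open ArtFun ArtFun.Art

section SubArt

variable {Λ : Type u} {k : Type u} [CommRing Λ] [Field k] [Algebra Λ k] [Module.Finite Λ k]
variable (B : Art Λ k) (C : Subalgebra Λ B)

theorem isArtinianRing_sub : IsArtinianRing C := by
  haveI : IsArtinian Λ B := isArtinian_art B
  haveI : IsArtinian Λ C :=
    isArtinian_of_injective (Subalgebra.toSubmodule C).subtype Subtype.val_injective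
  exact isArtinian_of_tower Λ (inferInstance : IsArtinian Λ C)

theorem isLocalHom_sub : IsLocalHom (C.val : C →+* B) := by
  haveI := isArtinianRing_sub B C
  refine ⟨fun x hx => ?_⟩
  rw [IsArtinianRing.isUnit_iff_isRightRegular]
  have hreg : IsRegular (C.val x) := hx.isRegular
  intro y z hyz
  apply Subtype.ext
  apply hreg.2
  have := congrArg (C.val : C → B) hyz
  simpa using this

theorem isLocalRing_sub : IsLocalRing C := by
  haveI := isLocalHom_sub B C
  exact RingHom.domain_isLocalRing (C.val : C →+* B)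

/-- a subalgebra with full residue field as an object of `Art` -/
noncomputable def subArt (hC : ∀ x : k, ∃ c ∈ C, B.res c = x) : Art Λ k :=
  { carrier := C
    isLocalRing := isLocalRing_sub B C
    isArtinianRing := isArtinianRing_sub B C
    res := B.res.comp C.val
    res_surjective := fun x => by
      obtain ⟨c, hc, hx⟩ := hC x
      exact ⟨⟨c, hc⟩, hx⟩ }

/-- the inclusion of the subalgebra -/
noncomputable def subArtHom (hC : ∀ x : k, ∃ c ∈ C, B.res c = x) : subArt B C hC ⟶ B :=
  ⟨C.val, rfl⟩

theorem subArtHom_apply (hC : ∀ x : k, ∃ c ∈ C, B.res c = x) (c : C) :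
    subArtHom B C hC c = (c : B) := rfl

theorem subArtHom_mem (hC : ∀ x : k, ∃ c ∈ C, B.res c = x) (c : subArt B C hC) :
    subArtHom B C hC c ∈ C := Subtype.property (show C from c)

end SubArt

section Essential

variable {Λ : Type u} {k : Type u} [CommRing Λ] [Field k] [Algebra Λ k]

/-- derivation-like maps `B → k` over `Λ` -/
structure IsDeriv (B : Art Λ k) (δ : B → k) : Prop where
  add : ∀ x y, δ (x + y) = δ x + δ y
  leib : ∀ x y, δ (x * y) = B.res x * δ y + B.res y * δ x
  alg : ∀ l : Λ, δ (algebraMap Λ B l) = 0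

theorem IsDeriv.sub {B : Art Λ k} {δ : B → k} (h : IsDeriv B δ) (x y : B) :
    δ (x - y) = δ x - δ y := by
  have := h.add (x - y) y
  rw [sub_add_cancel] at this
  rw [this, add_sub_cancel_right]

theorem IsDeriv.zero {B : Art Λ k} {δ : B → k} (h : IsDeriv B δ) : δ 0 = 0 := by
  simpa using h.alg 0

/-- the subalgebra of elements killed by a derivation -/
def derivKer {B : Art Λ k} {δ : B → k} (h : IsDeriv B δ) : Subalgebra Λ B where
  carrier := {b | δ b = 0}
  mul_mem' := fun {x y} hx hy => by
    change δ (x * y) = 0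
    rw [h.leib, show δ x = 0 from hx, show δ y = 0 from hy, mul_zero, mul_zero, add_zero]
  add_mem' := fun {x y} hx hy => by
    change δ (x + y) = 0
    rw [h.add, show δ x = 0 from hx, show δ y = 0 from hy, add_zero]
  algebraMap_mem' := fun l => h.alg l

theorem mem_derivKer {B : Art Λ k} {δ : B → k} (h : IsDeriv B δ) (b : B) :
    b ∈ derivKer h ↔ δ b = 0 := Iff.rfl

theorem deriv_correct {A B : Art Λ k} (f : B ⟶ A) {δ : B → k} (hδ : IsDeriv B δ)
    {x₀ : B} (hx₀ : f x₀ = 0) (hne : δ x₀ ≠ 0) (b : B) :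
    ∃ b' : B, δ b' = 0 ∧ B.res b' = B.res b ∧ f b' = f b := by
  have hx₀m : B.res x₀ = 0 := by rw [← Art.res_app f, hx₀, map_zero]
  obtain ⟨c, hc⟩ := B.res_surjective (δ b / δ x₀)
  refine ⟨b - c * x₀, ?_, ?_, ?_⟩
  · rw [hδ.sub, hδ.leib, hx₀m, zero_mul, add_zero, hc, div_mul_cancel₀ _ hne, sub_self]
  · rw [map_sub, map_mul, hx₀m, mul_zero, sub_zero]
  · rw [map_sub, map_mul, hx₀, mul_zero, sub_zero]

theorem derivKer_res_surj {A B : Art Λ k} (f : B ⟶ A) {δ : B → k} (hδ : IsDeriv B δ)
    {x₀ : B} (hx₀ : f x₀ = 0) (hne : δ x₀ ≠ 0) (x : k) :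
    ∃ c ∈ derivKer hδ, B.res c = x := by
  obtain ⟨b, hb⟩ := B.res_surjective x
  obtain ⟨b', h1, h2, -⟩ := deriv_correct f hδ hx₀ hne b
  exact ⟨b', h1, h2.trans hb⟩

theorem derivKer_comp_surjective [Module.Finite Λ k] {A B : Art Λ k} (f : B ⟶ A)
    (hf : Function.Surjective f) {δ : B → k} (hδ : IsDeriv B δ)
    {x₀ : B} (hx₀ : f x₀ = 0) (hne : δ x₀ ≠ 0) :
    Function.Surjective
      (subArtHom B (derivKer hδ) (derivKer_res_surj f hδ hx₀ hne) ≫ f) := by
  intro a
  obtain ⟨b, hb⟩ := hf a
  obtain ⟨b', h1, -, h3⟩ := deriv_correct f hδ hx₀ hne b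
  exact ⟨⟨b', h1⟩, h3.trans hb⟩

/-- a surjection is essential iff every derivation of the source into `k` kills its kernel -/
theorem essential_iff_deriv [Module.Finite Λ k] {A B : Art Λ k} (f : B ⟶ A)
    (hf : Function.Surjective f) :
    (∀ (C : Art Λ k) (g : C ⟶ B), Function.Surjective (g ≫ f) → Function.Surjective g) ↔
      ∀ δ : B → k, IsDeriv B δ → ∀ x, f x = 0 → δ x = 0 := by
  constructor
  · intro hE δ hδ x₀ hx₀
    by_contra hne
    obtain ⟨c, hc⟩ := hE _ _ (derivKer_comp_surjective f hf hδ hx₀ hne) x₀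
    apply hne
    have := subArtHom_mem B (derivKer hδ) (derivKer_res_surj f hδ hx₀ hne) c
    rw [hc] at this
    exact this
  · intro hD C g hgf
    by_contra hns
    have hf' : (B.res : B →+* k).comp (g.toAlgHom : C →+* B) = (C.res : C →+* k) := by
      ext x
      exact Art.res_app g x
    haveI := Art.isPrecomplete C
    haveI := Art.isHausdorff B
    obtain ⟨δ, hadd, hleib, hδg, z, hz⟩ :=
      ring_exists_deriv_of_not_surjective (C.res : C →+* k) (B.res : B →+* k)
        (g.toAlgHom : C →+* B) hf' C.res_surjective B.res_surjective hns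
    have hδ : IsDeriv B δ := ⟨hadd, hleib, fun l => by
      have : algebraMap Λ B l = g (algebraMap Λ C l) := (g.toAlgHom.commutes l).symm
      rw [this]; exact hδg _⟩
    apply hz
    obtain ⟨c, hc⟩ := hgf (f z)
    have h1 : f (z - g c) = 0 := by
      rw [map_sub, sub_eq_zero]; exact hc.symm
    have h2 := hD δ hδ _ h1
    rw [hδ.sub, sub_eq_zero] at h2
    rw [h2]
    exact hδg c

theorem exists_section_of_small [Module.Finite Λ k] {A B : Art Λ k} (f : B ⟶ A)
    (hf : IsSmallExt f) {δ : B → k} (hδ : IsDeriv B δ) {x₀ : B} (hx₀ : f x₀ = 0)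
    (hne : δ x₀ ≠ 0) : ∃ s : A ⟶ B, s ≫ f = 𝟙 A := by
  have hC := derivKer_res_surj f hδ hx₀ hne
  have hsurj := derivKer_comp_surjective f hf.1 hδ hx₀ hne
  haveI := hf.2.2.1
  set t := Submodule.IsPrincipal.generator (RingHom.ker f.toAlgHom) with ht
  have htker : t ∈ RingHom.ker f.toAlgHom := Submodule.IsPrincipal.generator_mem _
  have htm : B.res t = 0 := by
    rw [← Art.mem_maximalIdeal_iff]; exact ker_le_maximalIdeal f htker
  have hmem : ∀ x : B, f x = 0 → ∃ r : B, x = r * t := by
    intro x hx
    obtain ⟨r, hr⟩ := (Submodule.IsPrincipal.mem_iff_eq_smul_generator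
      (RingHom.ker f.toAlgHom)).1 (show x ∈ RingHom.ker f.toAlgHom from hx)
    exact ⟨r, hr⟩
  have hδt : δ t ≠ 0 := by
    obtain ⟨r₀, hr₀⟩ := hmem x₀ hx₀
    intro h0
    apply hne
    rw [hr₀, hδ.leib, h0, mul_zero, htm, zero_mul, add_zero]
  have hinj : Function.Injective (subArtHom B (derivKer hδ) hC ≫ f) := by
    rw [injective_iff_map_eq_zero]
    intro c hc
    have hc' : f (subArtHom B (derivKer hδ) hC c) = 0 := hc
    obtain ⟨r, hr⟩ := hmem _ hc'
    have hδc : δ (subArtHom B (derivKer hδ) hC c) = 0 := subArtHom_mem B (derivKer hδ) hC c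
    rw [hr, hδ.leib, htm, zero_mul, add_zero] at hδc
    have hrm : r ∈ IsLocalRing.maximalIdeal B := by
      rw [Art.mem_maximalIdeal_iff]
      exact (mul_eq_zero.1 hδc).resolve_right hδt
    have h0 : r * t ∈ IsLocalRing.maximalIdeal B * RingHom.ker f.toAlgHom :=
      Ideal.mul_mem_mul hrm htker
    rw [hf.2.2.2] at h0
    have h1 : subArtHom B (derivKer hδ) hC c = 0 := by rw [hr]; exact Ideal.mem_bot.1 h0
    apply Subtype.ext
    exact h1
  haveI := isIso_of_bijective (subArtHom B (derivKer hδ) hC ≫ f) ⟨hinj, hsurj⟩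
  exact ⟨inv (subArtHom B (derivKer hδ) hC ≫ f) ≫ subArtHom B (derivKer hδ) hC, by
    rw [Category.assoc, IsIso.inv_hom_id]⟩

end Essential

section Kaehler

variable {Λ : Type u} {k : Type u} [CommRing Λ] [Field k] [Algebra Λ k]
variable (S : Type u) [CommRing S] [Algebra Λ S] [Algebra S k] [IsScalarTower Λ S k]

/-- `k`-linear version of the equivalence between linear maps out of Kähler differentials and
derivations -/
noncomputable def kaehlerDerEquiv : (Ω[S⁄Λ] →ₗ[S] k) ≃ₗ[k] Derivation Λ S k :=
  { (KaehlerDifferential.linearMapEquivDerivation Λ S (M := k)).toEquiv with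
    map_add' := fun l l' => (KaehlerDifferential.linearMapEquivDerivation Λ S (M := k)).map_add l l'
    map_smul' := fun c l => by
      apply Derivation.ext
      intro x
      rfl }

theorem finrank_kaehler_eq :
    Module.finrank k (k ⊗[S] Ω[S⁄Λ]) = Module.finrank k (Derivation Λ S k) := by
  rw [← Subspace.dual_finrank_eq]
  exact ((LinearMap.liftBaseChangeEquiv (R := S) (M := Ω[S⁄Λ]) (N := k) k).symm.trans
    (kaehlerDerEquiv S)).finrank_eq

end Kaehler

section K2

variable {Λ : Type u} {k : Type u} [CommRing Λ] [Field k] [Algebra Λ k]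
variable {S T : Type u} [CommRing S] [Algebra Λ S] [Algebra S k] [IsScalarTower Λ S k]
  [CommRing T] [Algebra Λ T] [Algebra T k] [IsScalarTower Λ T k]

/-- restriction of derivations along a compatible algebra map -/
noncomputable def derRestrict (f : S →ₐ[Λ] T)
    (hc : ∀ s, algebraMap T k (f s) = algebraMap S k s) :
    Derivation Λ T k →ₗ[k] Derivation Λ S k where
  toFun D := Derivation.mk' ((D : T →ₗ[Λ] k).comp f.toLinearMap) (fun a b => by
    change D (f (a * b)) = a • D (f b) + b • D (f a)
    rw [map_mul, Derivation.leibniz, Algebra.smul_def, Algebra.smul_def, Algebra.smul_def,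
      Algebra.smul_def, hc, hc])
  map_add' D D' := by
    apply Derivation.ext
    intro x
    rfl
  map_smul' c D := by
    apply Derivation.ext
    intro x
    rfl

omit [IsScalarTower Λ S k] [IsScalarTower Λ T k] in
theorem derRestrict_apply (f : S →ₐ[Λ] T)
    (hc : ∀ s, algebraMap T k (f s) = algebraMap S k s) (D : Derivation Λ T k) (s : S) :
    derRestrict f hc D s = D (f s) := rfl

omit [IsScalarTower Λ S k] [IsScalarTower Λ T k] in
theorem derRestrict_injective (f : S →ₐ[Λ] T)
    (hc : ∀ s, algebraMap T k (f s) = algebraMap S k s) (hf : Function.Surjective f) :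
    Function.Injective (derRestrict f hc) := by
  rw [← LinearMap.ker_eq_bot, LinearMap.ker_eq_bot']
  intro D hD
  apply Derivation.ext
  intro t
  obtain ⟨s, rfl⟩ := hf t
  have := congrArg (fun E : Derivation Λ S k => E s) hD
  exact this

omit [IsScalarTower Λ S k] [IsScalarTower Λ T k] in
theorem mem_range_derRestrict (f : S →ₐ[Λ] T)
    (hc : ∀ s, algebraMap T k (f s) = algebraMap S k s) (hf : Function.Surjective f)
    (D : Derivation Λ S k) (hD : ∀ s, f s = 0 → D s = 0) :
    ∃ E : Derivation Λ T k, derRestrict f hc E = D := by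
  have hk : ∀ b b' : S, f b = f b' → D b = D b' := by
    intro b b' hbb'
    have := hD (b - b') (by rw [map_sub, hbb', sub_self])
    rw [map_sub, sub_eq_zero] at this
    exact this
  let σ : T → S := Function.surjInv hf
  have hσ : ∀ t, f (σ t) = t := Function.surjInv_eq hf
  let El : T →ₗ[Λ] k :=
    { toFun := fun t => D (σ t)
      map_add' := fun t t' => by
        rw [← map_add]
        apply hk
        rw [map_add, hσ, hσ, hσ]
      map_smul' := fun l t => by
        rw [RingHom.id_apply, ← Derivation.map_smul]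
        apply hk
        rw [map_smul, hσ, hσ] }
  refine ⟨Derivation.mk' El (fun a b => ?_), ?_⟩
  · change D (σ (a * b)) = a • D (σ b) + b • D (σ a)
    have h1 : D (σ (a * b)) = D (σ a * σ b) := hk _ _ (by rw [map_mul, hσ, hσ, hσ])
    rw [h1, Derivation.leibniz, Algebra.smul_def, Algebra.smul_def, Algebra.smul_def,
      Algebra.smul_def, ← hc, ← hc, hσ, hσ]
  · apply Derivation.ext
    intro s
    change D (σ (f s)) = D s
    exact hk _ _ (hσ _)

omit [IsScalarTower Λ S k] [IsScalarTower Λ T k] in
theorem finrank_der_eq_iff [FiniteDimensional k (Derivation Λ S k)] (f : S →ₐ[Λ] T)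
    (hc : ∀ s, algebraMap T k (f s) = algebraMap S k s) (hf : Function.Surjective f) :
    Module.finrank k (Derivation Λ S k) = Module.finrank k (Derivation Λ T k) ↔
      ∀ D : Derivation Λ S k, ∀ s, f s = 0 → D s = 0 := by
  haveI : FiniteDimensional k (Derivation Λ T k) :=
    Module.Finite.of_injective (derRestrict f hc) (derRestrict_injective f hc hf)
  constructor
  · intro h D s hs
    have hsurj : Function.Surjective (derRestrict f hc) :=
      (LinearMap.injective_iff_surjective_of_finrank_eq_finrank h.symm).1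
        (derRestrict_injective f hc hf)
    obtain ⟨E, rfl⟩ := hsurj D
    rw [derRestrict_apply, hs, map_zero]
  · intro h
    have hbij : Function.Bijective (derRestrict f hc) :=
      ⟨derRestrict_injective f hc hf, fun D => mem_range_derRestrict f hc hf D (h D)⟩
    exact (LinearEquiv.ofBijective (derRestrict f hc) hbij).finrank_eq.symm

end K2


end Groth.Agent.Helper3.ArtFunLib
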