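import Mathlib
import Groth.Agent.Lib.Helper3.ArtFunF

set_option linter.style.haveILetI false

universe u v w

open CategoryTheory Polynomial

namespace Groth.Agent.Helper3.ArtFunLib

open ArtFun ArtFun.Art

section Hensel

variable {Λ : Type u} {k : Type u} [CommRing Λ] [Field k] [Algebra Λ k]

/-- every element of `k` is a simple root of a monic polynomial over `Λ` (separable case) -/
theorem exists_monic_simple_root [Algebra.IsSeparable (↥(algebraMap Λ k).range) k] (x : k) :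
    ∃ P : Λ[X], P.Monic ∧ aeval x P = 0 ∧ aeval x (derivative P) ≠ 0 := by
  let φ : Λ →+* ↥(algebraMap Λ k).range := (algebraMap Λ k).rangeRestrict
  have hφ : Function.Surjective φ := (algebraMap Λ k).rangeRestrict_surjective
  have hint : IsIntegral (↥(algebraMap Λ k).range) x := Algebra.IsSeparable.isIntegral _ x
  have hsep : (minpoly (↥(algebraMap Λ k).range) x).Separable :=
    Algebra.IsSeparable.isSeparable _ x
  obtain ⟨P, hPmap, -, hPmonic⟩ := lifts_and_natDegree_eq_and_monic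
    ((mem_lifts _).2 (map_surjective φ hφ (minpoly (↥(algebraMap Λ k).range) x)))
    (minpoly.monic hint)
  have hcomp : algebraMap Λ k = (algebraMap (↥(algebraMap Λ k).range) k).comp φ := by
    ext l; rfl
  have key : ∀ Q : Λ[X], aeval x Q = aeval x (Q.map φ) := by
    intro Q
    rw [aeval_def, aeval_def, eval₂_map, ← hcomp]
  refine ⟨P, hPmonic, ?_, ?_⟩
  · rw [key, hPmap, minpoly.aeval]
  · rw [key, ← derivative_map, hPmap]
    exact hsep.aeval_derivative_ne_zero (minpoly.aeval _ x)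

theorem Art.isAdicComplete (A : Art Λ k) : IsAdicComplete (IsLocalRing.maximalIdeal A) A :=
  { toIsHausdorff := Art.isHausdorff A
    toIsPrecomplete := Art.isPrecomplete A }

theorem res_aeval (A : Art Λ k) (a : A) (P : Λ[X]) : A.res (aeval a P) = aeval (A.res a) P :=
  (aeval_algHom_apply A.res a P).symm

/-- Hensel lifting in an Artinian local algebra -/
theorem Art.exists_root (A : Art Λ k) (P : Λ[X]) (hP : P.Monic) (x : k) (h0 : aeval x P = 0)
    (h1 : aeval x (derivative P) ≠ 0) : ∃ a : A, aeval a P = 0 ∧ A.res a = x := by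
  haveI := Art.isAdicComplete A
  obtain ⟨a₀, ha₀⟩ := A.res_surjective x
  have hH := HenselianRing.is_henselian (R := A) (I := IsLocalRing.maximalIdeal A)
    (P.map (algebraMap Λ A)) (hP.map _) a₀ (by
      rw [Polynomial.eval_map, ← aeval_def, Art.mem_maximalIdeal_iff, res_aeval, ha₀, h0]) (by
      apply IsUnit.map
      rw [derivative_map, Polynomial.eval_map, ← aeval_def]
      by_contra hnu
      have : aeval a₀ (derivative P) ∈ IsLocalRing.maximalIdeal A :=
        (IsLocalRing.mem_maximalIdeal _).2 hnu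
      rw [Art.mem_maximalIdeal_iff, res_aeval, ha₀] at this
      exact h1 this)
  obtain ⟨a, ha, haa₀⟩ := hH
  refine ⟨a, ?_, ?_⟩
  · rw [IsRoot.def, Polynomial.eval_map, ← aeval_def] at ha
    exact ha
  · rw [Art.mem_maximalIdeal_iff, map_sub, ha₀, sub_eq_zero] at haa₀
    exact haa₀

/-- uniqueness of Hensel lifts -/
theorem Art.root_unique (A : Art Λ k) (P : Λ[X]) (x : k)
    (h1 : aeval x (derivative P) ≠ 0) {a a' : A} (ha : aeval a P = 0) (ha' : aeval a' P = 0)
    (hx : A.res a = x) (hx' : A.res a' = x) : a = a' := by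
  apply IsLocalRing.eq_of_eval_eq_zero_of_not_isUnit_sub (f := P.map (algebraMap Λ A))
  · rw [Polynomial.eval_map, ← aeval_def]; exact ha
  · rw [Polynomial.eval_map, ← aeval_def]; exact ha'
  · rw [← mem_nonunits_iff, ← IsLocalRing.mem_maximalIdeal, Art.mem_maximalIdeal_iff, map_sub,
      hx, hx', sub_self]
  · rw [derivative_map, Polynomial.eval_map, ← aeval_def]
    by_contra hnu
    have : aeval a (derivative P) ∈ IsLocalRing.maximalIdeal A :=
      (IsLocalRing.mem_maximalIdeal _).2 hnu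
    rw [Art.mem_maximalIdeal_iff, res_aeval, hx] at this
    exact h1 this

end Hensel

section FibreProdGen

variable {Λ : Type u} {k : Type u} [CommRing Λ] [Field k] [Algebra Λ k] [Module.Finite Λ k]
variable {A A₁ A₂ : Art Λ k} (f₁ : A₁ ⟶ A) (f₂ : A₂ ⟶ A)

theorem isArtinianRing_pullback :
    IsArtinianRing (AlgHom.pullback f₁.toAlgHom f₂.toAlgHom) := by
  haveI : IsArtinian Λ A₁ := isArtinian_art A₁
  haveI : IsArtinian Λ A₂ := isArtinian_art A₂
  haveI : IsArtinian Λ (AlgHom.pullback f₁.toAlgHom f₂.toAlgHom) :=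
    isArtinian_of_injective (AlgHom.pullback f₁.toAlgHom f₂.toAlgHom).val.toLinearMap
      Subtype.val_injective
  exact isArtinian_of_tower Λ inferInstance

theorem isLocalHom_pullbackFst :
    IsLocalHom (AlgHom.pullbackFst f₁.toAlgHom f₂.toAlgHom :
      AlgHom.pullback f₁.toAlgHom f₂.toAlgHom →+* A₁) := by
  haveI := isArtinianRing_pullback f₁ f₂
  refine ⟨fun x hx => ?_⟩
  have hx12 : f₁ (x : A₁ × A₂).1 = f₂ (x : A₁ × A₂).2 := x.2
  have hu1 : IsUnit (x : A₁ × A₂).1 := hx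
  have hu2 : IsUnit (x : A₁ × A₂).2 := by
    by_contra hnu
    have h2 : (x : A₁ × A₂).2 ∈ IsLocalRing.maximalIdeal A₂ := (IsLocalRing.mem_maximalIdeal _).2 hnu
    rw [Art.mem_maximalIdeal_iff, ← Art.res_app f₂, ← hx12, Art.res_app,
      ← Art.mem_maximalIdeal_iff] at h2
    exact (IsLocalRing.mem_maximalIdeal _).1 h2 hu1
  rw [IsArtinianRing.isUnit_iff_isRightRegular]
  intro y z hyz
  have h := congrArg (fun w : AlgHom.pullback f₁.toAlgHom f₂.toAlgHom => (w : A₁ × A₂)) hyz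
  have e1 : (y : A₁ × A₂).1 * (x : A₁ × A₂).1 = (z : A₁ × A₂).1 * (x : A₁ × A₂).1 :=
    congrArg Prod.fst h
  have e2 : (y : A₁ × A₂).2 * (x : A₁ × A₂).2 = (z : A₁ × A₂).2 * (x : A₁ × A₂).2 :=
    congrArg Prod.snd h
  apply Subtype.ext
  exact Prod.ext (hu1.mul_left_injective e1) (hu2.mul_left_injective e2)

/-- the fibre product as an object, given that its residue map is onto -/
noncomputable def fibreProdGen
    (hres : ∀ x : k, ∃ (a₁ : A₁) (a₂ : A₂), f₁ a₁ = f₂ a₂ ∧ A₁.res a₁ = x) : Art Λ k :=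
  haveI := isLocalHom_pullbackFst f₁ f₂
  { carrier := AlgHom.pullback f₁.toAlgHom f₂.toAlgHom
    isLocalRing := RingHom.domain_isLocalRing
      (AlgHom.pullbackFst f₁.toAlgHom f₂.toAlgHom :
        AlgHom.pullback f₁.toAlgHom f₂.toAlgHom →+* A₁)
    isArtinianRing := isArtinianRing_pullback f₁ f₂
    res := A₁.res.comp (AlgHom.pullbackFst f₁.toAlgHom f₂.toAlgHom)
    res_surjective := fun x => by
      obtain ⟨a₁, a₂, h12, hx⟩ := hres x
      exact ⟨⟨(a₁, a₂), h12⟩, hx⟩ }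

variable (hres : ∀ x : k, ∃ (a₁ : A₁) (a₂ : A₂), f₁ a₁ = f₂ a₂ ∧ A₁.res a₁ = x)

/-- first projection -/
noncomputable def fibreProdGenFst : fibreProdGen f₁ f₂ hres ⟶ A₁ :=
  ⟨AlgHom.pullbackFst f₁.toAlgHom f₂.toAlgHom, rfl⟩

/-- second projection -/
noncomputable def fibreProdGenSnd : fibreProdGen f₁ f₂ hres ⟶ A₂ :=
  ⟨AlgHom.pullbackSnd f₁.toAlgHom f₂.toAlgHom, by
    apply AlgHom.ext
    intro (x : AlgHom.pullback f₁.toAlgHom f₂.toAlgHom)
    change A₂.res (x : A₁ × A₂).2 = A₁.res (x : A₁ × A₂).1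
    have hx : f₁ (x : A₁ × A₂).1 = f₂ (x : A₁ × A₂).2 := x.2
    rw [← Art.res_app f₂, ← hx, Art.res_app]⟩

theorem isFibreProd_fibreProdGen :
    IsFibreProd (fibreProdGenFst f₁ f₂ hres) (fibreProdGenSnd f₁ f₂ hres) f₁ f₂ where
  w := by
    apply Art.hom_ext
    exact AlgHom.pullback_comm_sq f₁.toAlgHom f₂.toAlgHom
  inj b₁ b₂ h₁ h₂ := Subtype.ext (Prod.ext h₁ h₂)
  surj a' a'' h := ⟨⟨(a', a''), h⟩, rfl, rfl⟩

end FibreProdGen

section SepFibreProd

variable {Λ : Type u} {k : Type u} [CommRing Λ] [Field k] [Algebra Λ k] [Module.Finite Λ k]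

theorem exists_isFibreProd_of_isSeparable [Algebra.IsSeparable (↥(algebraMap Λ k).range) k]
    {A A₁ A₂ : Art Λ k} (f₁ : A₁ ⟶ A) (f₂ : A₂ ⟶ A) :
    ∃ (B : Art Λ k) (p₁ : B ⟶ A₁) (p₂ : B ⟶ A₂), IsFibreProd p₁ p₂ f₁ f₂ := by
  have hres : ∀ x : k, ∃ (a₁ : A₁) (a₂ : A₂), f₁ a₁ = f₂ a₂ ∧ A₁.res a₁ = x := by
    intro x
    obtain ⟨P, hP, h0, h1⟩ := exists_monic_simple_root (Λ := Λ) x
    obtain ⟨a₁, ha₁, hx₁⟩ := Art.exists_root A₁ P hP x h0 h1
    obtain ⟨a₂, ha₂, hx₂⟩ := Art.exists_root A₂ P hP x h0 h1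
    refine ⟨a₁, a₂, ?_, hx₁⟩
    apply Art.root_unique A P x h1
    · have := aeval_algHom_apply f₁.toAlgHom a₁ P
      rw [ha₁, map_zero] at this
      exact this
    · have := aeval_algHom_apply f₂.toAlgHom a₂ P
      rw [ha₂, map_zero] at this
      exact this
    · rw [Art.res_app, hx₁]
    · rw [Art.res_app, hx₂]
  exact ⟨fibreProdGen f₁ f₂ hres, fibreProdGenFst f₁ f₂ hres, fibreProdGenSnd f₁ f₂ hres,
    isFibreProd_fibreProdGen f₁ f₂ hres⟩

end SepFibreProd

section Primitive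

variable {Λ : Type u} {k : Type u} [CommRing Λ] [Field k] [Algebra Λ k]

theorem finite_range [Module.Finite Λ k] : Module.Finite (↥(algebraMap Λ k).range) k := by
  letI : Algebra Λ (↥(algebraMap Λ k).range) := (algebraMap Λ k).rangeRestrict.toAlgebra
  haveI : IsScalarTower Λ (↥(algebraMap Λ k).range) k :=
    IsScalarTower.of_algebraMap_eq (fun _ => rfl)
  exact Module.Finite.of_restrictScalars_finite Λ _ k

theorem isField_range [Module.Finite Λ k] : IsField (↥(algebraMap Λ k).range) := by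
  haveI := finite_range (Λ := Λ) (k := k)
  haveI : Algebra.IsIntegral (↥(algebraMap Λ k).range) k := Algebra.IsIntegral.of_finite _ _
  exact isField_of_isIntegral_of_isField (S := k) Subtype.val_injective (Field.toIsField k)

theorem exists_prim [Module.Finite Λ k] [Algebra.IsSeparable (↥(algebraMap Λ k).range) k] :
    ∃ θ : k, ∀ y : k, ∃ Q : (↥(algebraMap Λ k).range)[X], aeval θ Q = y := by
  letI : Field (↥(algebraMap Λ k).range) := (isField_range (Λ := Λ) (k := k)).toField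
  haveI := finite_range (Λ := Λ) (k := k)
  obtain ⟨θ, hθ⟩ := Field.exists_primitive_element (↥(algebraMap Λ k).range) k
  refine ⟨θ, fun y => ?_⟩
  have hint : IsIntegral (↥(algebraMap Λ k).range) θ := Algebra.IsSeparable.isIntegral _ θ
  have hy : y ∈ (IntermediateField.adjoin (↥(algebraMap Λ k).range) {θ}).toSubalgebra := by
    rw [hθ]; trivial
  rw [IntermediateField.adjoin_simple_toSubalgebra_of_isAlgebraic hint.isAlgebraic,
    Algebra.adjoin_singleton_eq_range_aeval] at hy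
  obtain ⟨Q, hQ⟩ := hy
  exact ⟨Q, hQ⟩

theorem minpoly_dvd_range [Module.Finite Λ k] (θ : k) (Q : (↥(algebraMap Λ k).range)[X])
    (hQ : aeval θ Q = 0) : minpoly (↥(algebraMap Λ k).range) θ ∣ Q := by
  letI : Field (↥(algebraMap Λ k).range) := (isField_range (Λ := Λ) (k := k)).toField
  exact minpoly.dvd _ θ hQ

/-- primitive element with a monic lift of its minimal polynomial to `Λ` -/
theorem exists_primitive_lift [Module.Finite Λ k]
    [Algebra.IsSeparable (↥(algebraMap Λ k).range) k] :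
    ∃ (θ : k) (P : Λ[X]), P.Monic ∧ aeval θ P = 0 ∧ aeval θ (derivative P) ≠ 0 ∧
      (∀ y : k, ∃ Q : Λ[X], aeval θ Q = y) ∧
      (∀ Q : Λ[X], aeval θ Q = 0 → ∃ H : Λ[X], (Q - P * H).map (algebraMap Λ k) = 0) := by
  obtain ⟨θ, hθ⟩ := exists_prim (Λ := Λ) (k := k)
  let φ : Λ →+* ↥(algebraMap Λ k).range := (algebraMap Λ k).rangeRestrict
  have hφ : Function.Surjective φ := (algebraMap Λ k).rangeRestrict_surjective
  have hint : IsIntegral (↥(algebraMap Λ k).range) θ := Algebra.IsSeparable.isIntegral _ θ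
  have hsep : (minpoly (↥(algebraMap Λ k).range) θ).Separable :=
    Algebra.IsSeparable.isSeparable _ θ
  obtain ⟨P, hPmap, -, hPmonic⟩ := lifts_and_natDegree_eq_and_monic
    ((mem_lifts _).2 (map_surjective φ hφ (minpoly (↥(algebraMap Λ k).range) θ)))
    (minpoly.monic hint)
  have hcomp : algebraMap Λ k = (algebraMap (↥(algebraMap Λ k).range) k).comp φ := by
    ext l; rfl
  have key : ∀ Q : Λ[X], aeval θ Q = aeval θ (Q.map φ) := by
    intro Q
    rw [aeval_def, aeval_def, eval₂_map, ← hcomp]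
  refine ⟨θ, P, hPmonic, ?_, ?_, ?_, ?_⟩
  · rw [key, hPmap, minpoly.aeval]
  · rw [key, ← derivative_map, hPmap]
    exact hsep.aeval_derivative_ne_zero (minpoly.aeval _ θ)
  · intro y
    obtain ⟨Q₀, hQ₀⟩ := hθ y
    obtain ⟨Q, hQ⟩ := map_surjective φ hφ Q₀
    exact ⟨Q, by rw [key, hQ, hQ₀]⟩
  · intro Q hQ
    rw [key] at hQ
    obtain ⟨h₀, hh₀⟩ := minpoly_dvd_range θ _ hQ
    obtain ⟨H, hH⟩ := map_surjective φ hφ h₀
    refine ⟨H, ?_⟩
    have h1 : (Q - P * H).map φ = 0 := by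
      rw [Polynomial.map_sub, Polynomial.map_mul, hPmap, hH, hh₀, sub_self]
    rw [hcomp, ← Polynomial.map_map, h1, Polynomial.map_zero]

end Primitive

section DerivAt

variable {S : Type u} {k : Type v} [CommRing S] [IsLocalRing S] [Field k]

theorem exists_coatom_avoiding [IsNoetherianRing S] (J : Ideal S)
    (hJm : J ≤ IsLocalRing.maximalIdeal S)
    (hJ2 : IsLocalRing.maximalIdeal S * IsLocalRing.maximalIdeal S ≤ J) (x : S)
    (hxm : x ∈ IsLocalRing.maximalIdeal S) (hxJ : x ∉ J) :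
    ∃ N : Ideal S, J ≤ N ∧ N < IsLocalRing.maximalIdeal S ∧ x ∉ N ∧
      ∀ y ∈ IsLocalRing.maximalIdeal S, ∃ n ∈ N, ∃ s : S, y = n + s * x := by
  set m := IsLocalRing.maximalIdeal S with hm
  let 𝒮 : Set (Ideal S) := {N | J ≤ N ∧ N ≤ m ∧ x ∉ N}
  have hne : 𝒮.Nonempty := ⟨J, le_rfl, hJm, hxJ⟩
  obtain ⟨N, hN𝒮, hNmax⟩ := (IsWellFounded.wf (r := ((· > ·) : Ideal S → Ideal S → Prop))).has_min
    𝒮 hne
  obtain ⟨hJN, hNm, hxN⟩ := hN𝒮
  refine ⟨N, hJN, lt_of_le_of_ne hNm (fun h => hxN (h ▸ hxm)), hxN, ?_⟩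
  intro y hy
  by_cases hyN : y ∈ N
  · exact ⟨y, hyN, 0, by ring⟩
  · have hlt : N < N ⊔ Ideal.span {y} := by
      refine lt_of_le_of_ne le_sup_left (fun h => hyN ?_)
      rw [h]
      exact le_sup_right (a := N) (Ideal.subset_span rfl)
    have hx' : x ∈ N ⊔ Ideal.span {y} := by
      by_contra hcon
      exact hNmax (N ⊔ Ideal.span {y}) ⟨hJN.trans le_sup_left,
        sup_le hNm ((Ideal.span_singleton_le_iff_mem _).2 hy), hcon⟩ hlt
    obtain ⟨n, hn, z, hz, hnz⟩ := Submodule.mem_sup.1 hx'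
    obtain ⟨s, rfl⟩ := Ideal.mem_span_singleton'.1 hz
    have hsu : IsUnit s := by
      by_contra hsnu
      have hsm : s ∈ m := (IsLocalRing.mem_maximalIdeal _).2 hsnu
      apply hxN
      rw [← hnz]
      exact N.add_mem hn (hJN (hJ2 (Ideal.mul_mem_mul hsm hy)))
    obtain ⟨u, rfl⟩ := hsu
    refine ⟨-(↑u⁻¹ * n), N.neg_mem (N.mul_mem_left _ hn), ↑u⁻¹, ?_⟩
    rw [← hnz]
    have : (↑u⁻¹ : S) * (n + ↑u * y) = ↑u⁻¹ * n + y := by
      rw [mul_add, ← mul_assoc, Units.inv_mul, one_mul]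
    rw [this]; ring

/-- a derivation-like map, vanishing on the image of `f` and on `J`, and nonzero at a prescribed
element `x ∈ m ∖ J` -/
theorem exists_deriv_at [IsNoetherianRing S] (res : S →+* k) (hres : Function.Surjective res)
    {R : Type w} [CommRing R] (f : R →+* S) (hf : Function.Surjective (res.comp f))
    (J : Ideal S) (hJm : J ≤ IsLocalRing.maximalIdeal S)
    (hJ2 : IsLocalRing.maximalIdeal S * IsLocalRing.maximalIdeal S ≤ J)
    (hfJ : ∀ r, res (f r) = 0 → f r ∈ J) (x : S)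
    (hxm : x ∈ IsLocalRing.maximalIdeal S) (hxJ : x ∉ J) :
    ∃ δ : S → k, (∀ x y, δ (x + y) = δ x + δ y) ∧
      (∀ x y, δ (x * y) = res x * δ y + res y * δ x) ∧
      (∀ r, δ (f r) = 0) ∧ (∀ j ∈ J, δ j = 0) ∧ δ x ≠ 0 := by
  obtain ⟨N, hJN, hNm, hxN, hdec⟩ := exists_coatom_avoiding J hJm hJ2 x hxm hxJ
  obtain ⟨δ, hadd, hleib, hδf, hδN, z, hz⟩ := exists_deriv res hres f hf N hNm
    (fun r hr => hJN (hfJ r hr))
  refine ⟨δ, hadd, hleib, hδf, fun j hj => hδN j (hJN hj), ?_⟩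
  intro hδx
  apply hz
  obtain ⟨r, hr⟩ := hf (res z)
  have hym : z - f r ∈ IsLocalRing.maximalIdeal S := by
    rw [mem_maximalIdeal_iff_res res hres, map_sub, sub_eq_zero]
    exact hr.symm
  obtain ⟨n, hn, s, hs⟩ := hdec _ hym
  have hxres : res x = 0 := (mem_maximalIdeal_iff_res res hres x).1 hxm
  have hz' : z = f r + (n + s * x) := by rw [← hs]; ring
  rw [hz', hadd, hadd, hδf, hδN n hn, hleib, hδx, hxres]
  ring

end DerivAt

section RelCotangent

variable {Λ : Type u} {k : Type u} [CommRing Λ] [Field k] [Algebra Λ k]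

/-- the ideal `m_Λ B + m_B²` -/
noncomputable def relIdeal (B : Art Λ k) : Ideal B :=
  Ideal.map (algebraMap Λ B) (RingHom.ker (algebraMap Λ k)) ⊔ IsLocalRing.maximalIdeal B ^ 2

theorem map_ker_le_maximalIdeal (B : Art Λ k) :
    Ideal.map (algebraMap Λ B) (RingHom.ker (algebraMap Λ k)) ≤ IsLocalRing.maximalIdeal B := by
  rw [Ideal.map_le_iff_le_comap]
  intro l hl
  rw [Ideal.mem_comap, Art.mem_maximalIdeal_iff, AlgHom.commutes]
  exact hl

theorem relIdeal_le (B : Art Λ k) : relIdeal B ≤ IsLocalRing.maximalIdeal B :=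
  sup_le (map_ker_le_maximalIdeal B) (Ideal.pow_le_self two_ne_zero)

theorem map_relIdeal {A B : Art Λ k} (f : B ⟶ A) (hf : Function.Surjective f) :
    Ideal.map f.toAlgHom (relIdeal B) = relIdeal A := by
  rw [relIdeal, relIdeal, Ideal.map_sup, Ideal.map_pow,
    Art.map_maximalIdeal_eq_of_surjective f hf]
  congr 1
  change Ideal.map (f.toAlgHom : B →+* A) (Ideal.map (algebraMap Λ B) _) = _
  rw [Ideal.map_map]
  congr 1
  ext l
  exact f.toAlgHom.commutes l

theorem aeval_mem_map_ker (B : Art Λ k) (θ : B) (Q : Λ[X])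
    (hQ : Q.map (algebraMap Λ k) = 0) :
    aeval θ Q ∈ Ideal.map (algebraMap Λ B) (RingHom.ker (algebraMap Λ k)) := by
  rw [aeval_eq_sum_range]
  refine Ideal.sum_mem _ (fun i _ => ?_)
  rw [Algebra.smul_def]
  apply Ideal.mul_mem_right
  apply Ideal.mem_map_of_mem
  rw [RingHom.mem_ker]
  have := congrArg (fun p : k[X] => p.coeff i) hQ
  simpa using this

/-- essential surjections are injective on relative cotangent spaces (separable residue field) -/
theorem relCotangent_injective_of_essential [Module.Finite Λ k]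
    [Algebra.IsSeparable (↥(algebraMap Λ k).range) k] {A B : Art Λ k} (f : B ⟶ A)
    (hf : Function.Surjective f)
    (hE : ∀ δ : B → k, IsDeriv B δ → ∀ x, f x = 0 → δ x = 0)
    (b : B) (hb : b ∈ IsLocalRing.maximalIdeal B) (hfb : f b ∈ relIdeal A) :
    b ∈ relIdeal B := by
  by_contra hbJ
  rw [← map_relIdeal f hf] at hfb
  obtain ⟨y, hy, hfy⟩ := (Ideal.mem_map_iff_of_surjective f.toAlgHom hf).1 hfb
  have hxker : f (b - y) = 0 := by
    rw [map_sub, sub_eq_zero]; exact hfy.symm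
  have hxm : b - y ∈ IsLocalRing.maximalIdeal B :=
    (IsLocalRing.maximalIdeal B).sub_mem hb (relIdeal_le B hy)
  have hxJ : b - y ∉ relIdeal B := fun h => hbJ (by
    have := (relIdeal B).add_mem h hy
    rwa [sub_add_cancel] at this)
  obtain ⟨θ, P, hP, h0, h1, hgen, hker⟩ := exists_primitive_lift (Λ := Λ) (k := k)
  obtain ⟨θB, hθB, hθres⟩ := Art.exists_root B P hP θ h0 h1
  haveI : IsNoetherianRing B := inferInstance
  obtain ⟨δ, hadd, hleib, hδf, -, hδx⟩ := exists_deriv_at (B.res : B →+* k) B.res_surjective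
    ((aeval θB : Λ[X] →ₐ[Λ] B) : Λ[X] →+* B) (by
      intro c
      obtain ⟨Q, hQ⟩ := hgen c
      refine ⟨Q, ?_⟩
      change B.res (aeval θB Q) = c
      rw [res_aeval, hθres, hQ]) (relIdeal B) (relIdeal_le B) (by
      rw [← pow_two]; exact le_sup_right) (by
      intro Q hQ
      change B.res (aeval θB Q) = 0 at hQ
      change aeval θB Q ∈ relIdeal B
      rw [res_aeval, hθres] at hQ
      obtain ⟨H, hH⟩ := hker Q hQ
      have h2 : aeval θB Q = aeval θB (Q - P * H) := by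
        rw [map_sub, map_mul, hθB, zero_mul, sub_zero]
      rw [h2]
      exact le_sup_left (a := Ideal.map (algebraMap Λ B) (RingHom.ker (algebraMap Λ k)))
        (aeval_mem_map_ker B θB _ hH)) (b - y) hxm hxJ
  have hδ : IsDeriv B δ := ⟨hadd, hleib, fun l => by
    have : algebraMap Λ B l = aeval θB (C l : Λ[X]) := (aeval_C θB l).symm
    rw [this]; exact hδf _⟩
  exact hδx (hE δ hδ _ hxker)

end RelCotangent

end Groth.Agent.Helper3.ArtFunLib
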