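import Mathlib
import Groth.Agent.Lib.Helper3.ArtFunD
import Groth.Prelude.Def_W4sfdMinVersal

set_option linter.style.haveILetI false

universe u v w

open CategoryTheory

namespace Groth.Agent.Helper3.ArtFunLib

open ArtFun ArtFun.Art

section Compatible

variable {Λ : Type u} {k : Type u} [CommRing Λ] [Field k] [Algebra Λ k]

/-- a compatible system of points of `h_R` over the truncations of `S` comes from a morphism -/
theorem exists_hom_of_compatible (R S : CRing Λ k)
    (a : ∀ n, HomSet R.carrier R.res (S.trunc n))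
    (ha : ∀ n, HomSet.map (S.truncMap n) (a (n + 1)) = a n) :
    ∃ g : R.carrier →ₐ[Λ] S.carrier, S.res.comp g = R.res ∧
      ∀ n r, (S.truncHom n).1 (g r) = (a n).1 r := by
  haveI := S.isAdicComplete
  set I := IsLocalRing.maximalIdeal S.carrier with hI
  -- representatives
  have hsurj : ∀ n (r : R.carrier), ∃ s : S.carrier,
      Ideal.Quotient.mk (CRing.mpow S n) s = (a n).1 r :=
    fun n r => Ideal.Quotient.mk_surjective _
  choose s hs using hsurj
  have hsucc : ∀ n r, s (n + 1) r - s n r ∈ I ^ (n + 1) := by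
    intro n r
    have h1 := congrArg (fun t : HomSet R.carrier R.res (S.trunc n) => t.1 r) (ha n)
    change S.truncMap n ((a (n + 1)).1 r) = (a n).1 r at h1
    rw [← hs, ← hs] at h1
    have h2 : S.truncMap n (Ideal.Quotient.mk (CRing.mpow S (n + 1)) (s (n + 1) r)) =
        Ideal.Quotient.mk (CRing.mpow S n) (s (n + 1) r) := rfl
    rw [h2] at h1
    have h1' : @Eq (S.carrier ⧸ CRing.mpow S n) (Ideal.Quotient.mk (CRing.mpow S n) (s (n + 1) r))
        (Ideal.Quotient.mk (CRing.mpow S n) (s n r)) := h1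
    exact Ideal.Quotient.eq.1 h1'
  have hle : ∀ m n, m ≤ n → ∀ r, s n r - s m r ∈ I ^ (m + 1) := by
    intro m n hmn r
    induction n, hmn using Nat.le_induction with
    | base => rw [sub_self]; exact Ideal.zero_mem _
    | succ n hmn ih =>
      have h1 := hsucc n r
      have h2 : I ^ (n + 1) ≤ I ^ (m + 1) := Ideal.pow_le_pow_right (Nat.succ_le_succ hmn)
      have : s (n + 1) r - s m r = (s (n + 1) r - s n r) + (s n r - s m r) := by ring
      rw [this]
      exact Ideal.add_mem _ (h2 h1) ih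
  let f : (n : ℕ) → R.carrier →ₐ[Λ] S.carrier ⧸ I ^ n := fun n =>
    (Ideal.Quotient.factorₐ Λ (Ideal.pow_le_pow_right (Nat.le_succ n))).comp (a n).1
  have hf_apply : ∀ n r, f n r = Ideal.Quotient.mk (I ^ n) (s n r) := by
    intro n r
    change Ideal.Quotient.factorₐ Λ (Ideal.pow_le_pow_right (Nat.le_succ n)) ((a n).1 r) = _
    rw [← hs]
    rfl
  have hf : ∀ {m n : ℕ} (hmn : m ≤ n),
      (Ideal.Quotient.factorₐ Λ (Ideal.pow_le_pow_right hmn)).comp (f n) = f m := by
    intro m n hmn
    apply AlgHom.ext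
    intro r
    change Ideal.Quotient.factorₐ Λ (Ideal.pow_le_pow_right hmn) (f n r) = f m r
    rw [hf_apply, hf_apply]
    change Ideal.Quotient.mk (I ^ m) (s n r) = Ideal.Quotient.mk (I ^ m) (s m r)
    rw [Ideal.Quotient.eq]
    exact Ideal.pow_le_pow_right (Nat.le_succ m) (hle m n hmn r)
  let g : R.carrier →ₐ[Λ] S.carrier := IsAdicComplete.liftAlgHom I f hf
  have hg : ∀ n r, (S.truncHom n).1 (g r) = (a n).1 r := by
    intro n r
    have h1 := IsAdicComplete.mk_liftAlgHom I f hf (n + 1) r
    rw [hf_apply] at h1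
    change Ideal.Quotient.mk (CRing.mpow S n) (g r) = (a n).1 r
    rw [← hs]
    have h2 : Ideal.Quotient.mk (I ^ (n + 1)) (g r) = Ideal.Quotient.mk (I ^ (n + 1)) (s (n + 1) r) :=
      h1
    rw [Ideal.Quotient.eq] at h2 ⊢
    have h3 := hsucc n r
    have : g r - s n r = (g r - s (n + 1) r) + (s (n + 1) r - s n r) := by ring
    rw [this]
    exact Ideal.add_mem _ h2 h3
  refine ⟨g, ?_, hg⟩
  apply AlgHom.ext
  intro r
  have h0 := hg 0 r
  have h1 : (S.trunc 0).res ((S.truncHom 0).1 (g r)) = S.res (g r) := rfl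
  change S.res (g r) = R.res r
  rw [← h1, h0]
  exact congrArg (fun t : R.carrier →ₐ[Λ] k => t r) (a 0).2

end Compatible

section Induced

variable {Λ : Type u} {k : Type u} [CommRing Λ] [Field k] [Algebra Λ k]

theorem truncMap_surjective (S : CRing Λ k) (n : ℕ) : Function.Surjective (S.truncMap n) := by
  intro x
  obtain ⟨s, rfl⟩ := Ideal.Quotient.mk_surjective x
  exact ⟨Ideal.Quotient.mk _ s, rfl⟩

/-- every formal element is induced from a versal family -/
theorem formalElt_induced {F : Art Λ k ⥤ Type v} (h0 : H0 F) (R : CRing Λ k)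
    (ξ : Family R.carrier R.res F) (hξ : IsVersal ξ) (S : CRing Λ k) (η : FormalElt F S) :
    ∃ (g : R.carrier →ₐ[Λ] S.carrier) (hg : S.res.comp g = R.res),
      (ξ.along g hg).toFormalElt = η := by
  obtain ⟨a0, ha0⟩ := surjective_app_of_isVersal h0 ξ hξ (S.trunc 0) (η.elt 0)
  have hstep : ∀ n (a : {a : HomSet R.carrier R.res (S.trunc n) // ξ.app _ a = η.elt n}),
      ∃ ψ : HomSet R.carrier R.res (S.trunc (n + 1)),
        HomSet.map (S.truncMap n) ψ = a.1 ∧ ξ.app _ ψ = η.elt (n + 1) := fun n a =>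
    hξ (S.truncMap n) (truncMap_surjective S n) a.1 (η.elt (n + 1)) (by rw [η.compat, a.2])
  let step : ∀ n, {a : HomSet R.carrier R.res (S.trunc n) // ξ.app _ a = η.elt n} →
      {a : HomSet R.carrier R.res (S.trunc (n + 1)) // ξ.app _ a = η.elt (n + 1)} :=
    fun n a => ⟨Classical.choose (hstep n a), (Classical.choose_spec (hstep n a)).2⟩
  let seq : ∀ n, {a : HomSet R.carrier R.res (S.trunc n) // ξ.app _ a = η.elt n} :=
    fun n => Nat.rec ⟨a0, ha0⟩ step n
  have hseq : ∀ n, HomSet.map (S.truncMap n) (seq (n + 1)).1 = (seq n).1 := fun n =>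
    (Classical.choose_spec (hstep n (seq n))).1
  obtain ⟨g, hg, hgn⟩ := exists_hom_of_compatible R S (fun n => (seq n).1) hseq
  refine ⟨g, hg, ?_⟩
  apply FormalElt.ext'
  intro n
  change ξ.app _ _ = η.elt n
  rw [← (seq n).2]
  congr 1
  apply Subtype.ext
  apply AlgHom.ext
  intro r
  exact hgn n r

end Induced

section NoethEndo

theorem ringHom_injective_of_surjective_endo {R : Type u} [CommRing R] [IsNoetherianRing R]
    (φ : R →+* R) (hφ : Function.Surjective φ) : Function.Injective φ := by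
  have hpow_succ : ∀ (n : ℕ) (x : R), (φ ^ (n + 1) : R →+* R) x = φ ((φ ^ n : R →+* R) x) := by
    intro n x
    rw [pow_succ']; rfl
  let K : ℕ →o Ideal R :=
    { toFun := fun n => RingHom.ker (φ ^ n : R →+* R)
      monotone' := by
        apply monotone_nat_of_le_succ
        intro n x hx
        rw [RingHom.mem_ker] at hx ⊢
        rw [hpow_succ, hx, map_zero] }
  obtain ⟨n, hn⟩ := monotone_stabilizes_iff_noetherian.2 (inferInstance : IsNoetherian R R) K
  have hsurjn : ∀ n : ℕ, Function.Surjective ((φ ^ n : R →+* R) : R → R) := by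
    intro n
    induction n with
    | zero => intro x; exact ⟨x, rfl⟩
    | succ n ih =>
      intro x
      obtain ⟨y, rfl⟩ := hφ x
      obtain ⟨z, rfl⟩ := ih y
      exact ⟨z, hpow_succ n z⟩
  rw [injective_iff_map_eq_zero]
  intro x hx
  obtain ⟨y, rfl⟩ := hsurjn n x
  have h1 : y ∈ K (n + 1) := by
    change y ∈ RingHom.ker (φ ^ (n + 1) : R →+* R)
    rw [RingHom.mem_ker, hpow_succ]; exact hx
  rw [← hn (n + 1) (Nat.le_succ n)] at h1
  exact h1

end NoethEndo

section MinVersalUnique

variable {Λ : Type u} {k : Type u} [CommRing Λ] [Field k] [Algebra Λ k]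

theorem along_toFormalElt {F : Art Λ k ⥤ Type v} {R S : CRing Λ k}
    (ξ : Family R.carrier R.res F) (g : R.carrier →ₐ[Λ] S.carrier) (hg : S.res.comp g = R.res) :
    (ξ.along g hg).toFormalElt = ξ.toFormalElt.push g hg := by
  apply FormalElt.ext'
  intro n
  change ξ.app _ _ = F.map (CRing.truncMapOfHom g hg n) (ξ.app _ (R.truncHom n))
  rw [← ξ.natural]
  congr 1

end MinVersalUnique

end Groth.Agent.Helper3.ArtFunLib
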