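import Mathlib
import Groth.Agent.Lib.Helper3.ArtFunC

set_option linter.style.haveILetI false

universe u v w

open CategoryTheory

namespace Groth.Agent.Helper3.ArtFunLib

open ArtFun ArtFun.Art

variable {Λ : Type u} {k : Type u} [CommRing Λ] [Field k] [Algebra Λ k]

section DiffFibre

variable {A' A P : Art Λ k} {μ : A' ⟶ A} {p₁ p₂ : P ⟶ A'}

/-- `(p₁, diffHom)` exhibits `A' ×_A A'` as `A' ×_k k[ε]` -/
theorem isFibreProd_diffHom (hP : IsFibreProd p₁ p₂ μ μ) {t : A'} (ht : t ≠ 0)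
    (hker : RingHom.ker μ.toAlgHom = Ideal.span {t})
    (hm : ∀ y ∈ IsLocalRing.maximalIdeal A', y * t = 0) :
    IsFibreProd p₁ (diffHom hP ht hker) (toBase A') (toBase (dual Λ k)) where
  w := by rw [eq_toBase (p₁ ≫ toBase A'), eq_toBase (diffHom hP ht hker ≫ toBase _)]
  inj := by
    intro x y h1 h2
    have hmem : ∀ x : P, p₂ x - p₁ x ∈ Ideal.span {t} := fun x => by
      rw [← hker, RingHom.mem_ker, map_sub, sub_eq_zero]
      exact (hP.w_apply x).symm
    have h3 : coef t (p₂ x - p₁ x) = coef t (p₂ y - p₁ y) := congrArg TrivSqZeroExt.snd h2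
    have h4 : coef t ((p₂ x - p₁ x) + -(p₂ y - p₁ y)) = 0 := by
      rw [coef_add ht (hmem x) (neg_mem (hmem y)), coef_neg ht (hmem y), h3, add_neg_cancel]
    have h5 := eq_zero_of_coef_eq_zero ht hm (add_mem (hmem x) (neg_mem (hmem y))) h4
    apply hP.inj _ _ h1
    rw [h1] at h5
    have : p₂ x - p₂ y = 0 := by rw [← h5]; ring
    exact sub_eq_zero.1 this
  surj := by
    intro a z haz
    obtain ⟨j, hj, hjc⟩ := exists_coef_eq ht ((z : DualNumber k).snd)
    have hjk : μ j = 0 := by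
      have : j ∈ RingHom.ker μ.toAlgHom := by rw [hker]; exact hj
      exact this
    obtain ⟨x, hx₁, hx₂⟩ := hP.surj a (a + j) (by rw [map_add, hjk, add_zero])
    refine ⟨x, hx₁, ?_⟩
    refine TrivSqZeroExt.ext ?_ ?_
    · change A'.res (p₁ x) = (z : DualNumber k).fst
      rw [hx₁]
      exact haz
    · change coef t (p₂ x - p₁ x) = (z : DualNumber k).snd
      rw [hx₁, hx₂, add_sub_cancel_left, hjc]

/-- the diagonal of `A' ×_A A'` and its image under `diffHom` -/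
theorem exists_diag (hP : IsFibreProd p₁ p₂ μ μ) {t : A'} (ht : t ≠ 0)
    (hker : RingHom.ker μ.toAlgHom = Ideal.span {t}) :
    ∃ δ : A' ⟶ P, δ ≫ p₁ = 𝟙 A' ∧ δ ≫ p₂ = 𝟙 A' ∧
      δ ≫ diffHom hP ht hker = toBase A' ≫ baseToDual := by
  obtain ⟨δ, hδ₁, hδ₂⟩ := IsFibreProd.exists_lift hP (𝟙 A') (𝟙 A') rfl
  have hδ₁' : ∀ a : A', p₁ (δ a) = a := fun a => by
    change (δ ≫ p₁) a = a
    rw [hδ₁]; rfl
  have hδ₂' : ∀ a : A', p₂ (δ a) = a := fun a => by
    change (δ ≫ p₂) a = a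
    rw [hδ₂]; rfl
  refine ⟨δ, hδ₁, hδ₂, ?_⟩
  apply Art.hom_ext
  apply AlgHom.ext
  intro a
  change diffHom hP ht hker (δ a) = baseToDual (toBase A' a)
  refine TrivSqZeroExt.ext ?_ ?_
  · change A'.res (p₁ (δ a)) = _
    rw [hδ₁']
    rfl
  · change coef t (p₂ (δ a) - p₁ (δ a)) = _
    rw [hδ₁', hδ₂', sub_self, coef_zero ht]
    rfl

/-- data of a small extension: a generator of the kernel -/
theorem IsSmallExt.exists_gen (hμ : IsSmallExt μ) :
    ∃ t : A', t ≠ 0 ∧ RingHom.ker μ.toAlgHom = Ideal.span {t} ∧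
      ∀ y ∈ IsLocalRing.maximalIdeal A', y * t = 0 := by
  obtain ⟨hsurj, hne, hprin, hmk⟩ := hμ
  obtain ⟨t, ht'⟩ := hprin.principal
  have hker : RingHom.ker μ.toAlgHom = Ideal.span {t} := ht'
  have ht : t ≠ 0 := by
    rintro rfl
    apply hne
    rw [hker]
    exact Ideal.span_singleton_eq_bot.2 rfl
  refine ⟨t, ht, hker, ?_⟩
  intro y hy
  have : y * t ∈ IsLocalRing.maximalIdeal A' * RingHom.ker μ.toAlgHom :=
    Ideal.mul_mem_mul hy (by rw [hker]; exact Ideal.subset_span rfl)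
  rw [hmk] at this
  exact Ideal.mem_bot.1 this

end DiffFibre

section Action

variable (F : Art Λ k ⥤ Type v)

/-- Under (H2), two lifts of the same element along a small extension which are related by
an element of `F(A' ×_A A')` whose tangent component is trivial coincide. -/
theorem eq_of_lift_of_tangent_trivial (h2 : Heps F) {A' A P : Art Λ k} {μ : A' ⟶ A}
    {p₁ p₂ : P ⟶ A'} (hP : IsFibreProd p₁ p₂ μ μ)
    {t : A'} (ht : t ≠ 0) (hker : RingHom.ker μ.toAlgHom = Ideal.span {t})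
    (hm : ∀ y ∈ IsLocalRing.maximalIdeal A', y * t = 0)
    (w : F.obj P)
    (hw : F.map (diffHom hP ht hker) w = F.map (toBase A' ≫ baseToDual) (F.map p₁ w)) :
    F.map p₂ w = F.map p₁ w := by
  obtain ⟨δ, hδ₁, hδ₂, hδ₃⟩ := exists_diag hP ht hker
  have hQ := isFibreProd_diffHom hP ht hker hm
  have h3 : w = F.map δ (F.map p₁ w) := by
    apply (h2 p₁ (diffHom hP ht hker) hQ).1
    apply FibProd.ext
    · change F.map p₁ w = F.map p₁ (F.map δ (F.map p₁ w))
      rw [← map_comp_app, hδ₁, map_id_app]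
    · change F.map (diffHom hP ht hker) w = F.map (diffHom hP ht hker) (F.map δ (F.map p₁ w))
      rw [← map_comp_app F δ, hδ₃, hw]
  conv_lhs => rw [h3]
  rw [← map_comp_app, hδ₂, map_id_app]

end Action


section OnePoint

variable (F : Art Λ k ⥤ Type v)

/-- under (H1), (H2): a trivial tangent space forces all fibres of `F(B) → F(A)` along surjections
to be subsingletons -/
theorem subsingleton_of_tangent_subsingleton [Module.Finite Λ k] (h1 : Hbar F) (h2 : Heps F)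
    (ht : Subsingleton (F.obj (dual Λ k))) ⦃A B : Art Λ k⦄ (f : B ⟶ A)
    (hf : Function.Surjective f) (hA : Subsingleton (F.obj A)) : Subsingleton (F.obj B) := by
  revert hA
  refine (smallExt_induction (fun A B f => Function.Surjective f ∧
    (Subsingleton (F.obj A) → Subsingleton (F.obj B))) ?_ ?_ ?_ f hf).2
  · intro A B e he
    refine ⟨(bijective_of_isIso e).2, fun hA => ⟨fun y y' => ?_⟩⟩
    have h := congrArg (F.map (inv e)) (hA.elim (F.map e y) (F.map e y'))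
    rwa [map_map_inv, map_map_inv] at h
  · intro A B μ hμ
    refine ⟨hμ.1, fun hA => ⟨fun y y' => ?_⟩⟩
    obtain ⟨t, ht0, hker, hm⟩ := IsSmallExt.exists_gen hμ
    have hP := isFibreProd_fibreProd μ μ hμ.1
    obtain ⟨w, hw⟩ := h1 _ _ μ μ hP hμ ⟨(y, y'), hA.elim _ _⟩
    have hw1 : F.map (fibreProdFst μ μ hμ.1) w = y := congrArg (fun z => z.1.1) hw
    have hw2 : F.map (fibreProdSnd μ μ hμ.1) w = y' := congrArg (fun z => z.1.2) hw
    have h3 := eq_of_lift_of_tangent_trivial F h2 hP ht0 hker hm w (ht.elim _ _)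
    rw [hw1, hw2] at h3
    exact h3.symm
  · intro A B C p q ⟨hp, hp'⟩ ⟨hq, hq'⟩
    exact ⟨hq.comp hp, fun hA => hp' (hq' hA)⟩

end OnePoint


section Homog

variable (F : Art Λ k ⥤ Type v)

/-- compatibility of the difference morphisms of `B → A'` and `A'' → A` in a fibre square -/
theorem diffHom_compat {B A A' A'' PB PA : Art Λ k} {p' : B ⟶ A'} {p'' : B ⟶ A''} {f' : A' ⟶ A}
    {f'' : A'' ⟶ A} (h : IsFibreProd p' p'' f' f'')
    {b₁ b₂ : PB ⟶ B} (hPB : IsFibreProd b₁ b₂ p' p')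
    {a₁ a₂ : PA ⟶ A''} (hPA : IsFibreProd a₁ a₂ f'' f'')
    (π : PB ⟶ PA) (hπ₁ : π ≫ a₁ = b₁ ≫ p'') (hπ₂ : π ≫ a₂ = b₂ ≫ p'')
    {bt : B} (hbt : bt ≠ 0) (hkerB : RingHom.ker p'.toAlgHom = Ideal.span {bt})
    (ht : p'' bt ≠ 0) (hkerA : RingHom.ker f''.toAlgHom = Ideal.span {p'' bt}) :
    π ≫ diffHom hPA ht hkerA = diffHom hPB hbt hkerB := by
  apply Art.hom_ext
  apply AlgHom.ext
  intro x
  change diffHom hPA ht hkerA (π x) = diffHom hPB hbt hkerB x
  have hπ₁' : a₁ (π x) = p'' (b₁ x) := by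
    change (π ≫ a₁) x = (b₁ ≫ p'') x
    rw [hπ₁]
  have hπ₂' : a₂ (π x) = p'' (b₂ x) := by
    change (π ≫ a₂) x = (b₂ ≫ p'') x
    rw [hπ₂]
  refine TrivSqZeroExt.ext ?_ ?_
  · change A''.res (a₁ (π x)) = B.res (b₁ x)
    rw [hπ₁', Art.res_app]
  · change coef (p'' bt) (a₂ (π x) - a₁ (π x)) = coef bt (b₂ x - b₁ x)
    have hmem : b₂ x - b₁ x ∈ Ideal.span {bt} := by
      rw [← hkerB, RingHom.mem_ker, map_sub, sub_eq_zero]
      exact (hPB.w_apply x).symm
    obtain ⟨r, hr⟩ := Ideal.mem_span_singleton'.1 hmem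
    rw [hπ₁', hπ₂', ← map_sub, ← hr, map_mul, coef_mul ht, coef_mul hbt, Art.res_app]

/-- Schlessinger: (H1), (H2), (H4) imply injectivity of the comparison map for fibre products
along small extensions -/
theorem cmp_injective_of_hSq [Module.Finite Λ k] (h1 : Hbar F) (h2 : Heps F) (h4 : HSq F)
    ⦃B A A' A'' : Art Λ k⦄ (p' : B ⟶ A') (p'' : B ⟶ A'') (f' : A' ⟶ A) (f'' : A'' ⟶ A)
    (h : IsFibreProd p' p'' f' f'') (hf : IsSmallExt f'') : Function.Injective (cmp F h) := by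
  intro z z' hzz
  have hz1 : F.map p' z = F.map p' z' := congrArg (fun t => t.1.1) hzz
  have hz2 : F.map p'' z = F.map p'' z' := congrArg (fun t => t.1.2) hzz
  have hp' : IsSmallExt p' := isSmallExt_fst_of_isFibreProd h hf
  obtain ⟨bt, hbt, hkerB, hmB⟩ := IsSmallExt.exists_gen hp'
  obtain ⟨t₀, ht₀, hker₀, hm₀⟩ := IsSmallExt.exists_gen hf
  have hpbt : p' bt = 0 := by
    have : bt ∈ RingHom.ker p'.toAlgHom := by rw [hkerB]; exact Ideal.subset_span rfl
    exact this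
  have hft₀ : f'' t₀ = 0 := by
    have : t₀ ∈ RingHom.ker f''.toAlgHom := by rw [hker₀]; exact Ideal.subset_span rfl
    exact this
  -- `p'' bt` generates the kernel of `f''`
  have hmemk : p'' bt ∈ RingHom.ker f''.toAlgHom := by
    rw [RingHom.mem_ker]
    change f'' (p'' bt) = 0
    rw [← h.w_apply, hpbt, map_zero]
  obtain ⟨bt₀, hbt₀1, hbt₀2⟩ := h.surj 0 t₀ (by rw [map_zero, hft₀])
  have hbt₀mem : bt₀ ∈ Ideal.span {bt} := by
    rw [← hkerB]; exact hbt₀1
  obtain ⟨r, hr⟩ := Ideal.mem_span_singleton'.1 hbt₀mem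
  have ht₀eq : t₀ = p'' r * p'' bt := by rw [← hbt₀2, ← hr, map_mul]
  have hkerA : RingHom.ker f''.toAlgHom = Ideal.span {p'' bt} := by
    apply le_antisymm
    · rw [hker₀, Ideal.span_singleton_le_iff_mem, ht₀eq]
      exact Ideal.mul_mem_left _ _ (Ideal.subset_span rfl)
    · rw [Ideal.span_singleton_le_iff_mem]; exact hmemk
  have ht : p'' bt ≠ 0 := by
    intro h0
    apply ht₀
    rw [ht₀eq, h0, mul_zero]
  have hmA : ∀ y ∈ IsLocalRing.maximalIdeal A'', y * p'' bt = 0 := by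
    intro y hy
    rw [hker₀] at hmemk
    obtain ⟨c, hc⟩ := Ideal.mem_span_singleton'.1 hmemk
    rw [← hc, ← mul_assoc, mul_comm y c, mul_assoc, hm₀ y hy, mul_zero]
  -- the two self fibre products
  have hPB := isFibreProd_fibreProd p' p' hp'.1
  have hPA := isFibreProd_fibreProd f'' f'' hf.1
  set b₁ := fibreProdFst p' p' hp'.1
  set b₂ := fibreProdSnd p' p' hp'.1
  set a₁ := fibreProdFst f'' f'' hf.1
  set a₂ := fibreProdSnd f'' f'' hf.1
  obtain ⟨π, hπ₁, hπ₂⟩ := IsFibreProd.exists_lift hPA (b₁ ≫ p'') (b₂ ≫ p'') (by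
    rw [Category.assoc, Category.assoc, ← h.w, ← Category.assoc, ← Category.assoc, hPB.w])
  have hcompat := diffHom_compat h hPB hPA π hπ₁ hπ₂ hbt hkerB ht hkerA
  obtain ⟨w, hw⟩ := h1 b₁ b₂ p' p' hPB hp' ⟨(z, z'), hz1⟩
  have hw1 : F.map b₁ w = z := congrArg (fun t => t.1.1) hw
  have hw2 : F.map b₂ w = z' := congrArg (fun t => t.1.2) hw
  obtain ⟨δ, hδ₁, hδ₂, hδ₃⟩ := exists_diag hPA ht hkerA
  have hπw : F.map π w = F.map δ (F.map p'' z) := by
    apply (h4 a₁ a₂ f'' hPA hf).1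
    apply FibProd.ext
    · change F.map a₁ (F.map π w) = F.map a₁ (F.map δ (F.map p'' z))
      rw [← map_comp_app, hπ₁, map_comp_app, hw1, ← map_comp_app F δ, hδ₁, map_id_app]
    · change F.map a₂ (F.map π w) = F.map a₂ (F.map δ (F.map p'' z))
      rw [← map_comp_app, hπ₂, map_comp_app, hw2, ← map_comp_app F δ, hδ₂, map_id_app, hz2]
  have htriv : F.map (diffHom hPB hbt hkerB) w =
      F.map (toBase B ≫ baseToDual) (F.map b₁ w) := by
    rw [← hcompat, map_comp_app, hπw, ← map_comp_app F δ, hδ₃, hw1, ← map_comp_app F p'',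
      ← Category.assoc, eq_toBase (p'' ≫ toBase A'')]
  have := eq_of_lift_of_tangent_trivial F h2 hPB hbt hkerB hmB w htriv
  rw [hw1, hw2] at this
  exact this.symm

theorem rs_of_h124 [Module.Finite Λ k] (h1 : Hbar F) (h2 : Heps F) (h4 : HSq F) : RS F :=
  rs_of_rs_small F fun _ _ _ _ p' p'' f' f'' h hf =>
    ⟨cmp_injective_of_hSq F h1 h2 h4 p' p'' f' f'' h hf, h1 p' p'' f' f'' h hf⟩

end Homog

end Groth.Agent.Helper3.ArtFunLib
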