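import Mathlib
import Groth.Agent.Lib.Helper3.ArtFunI

set_option linter.style.haveILetI false

universe u v w

open CategoryTheory

namespace Groth.Agent.Helper3.ArtFunLib

open ArtFun ArtFun.Art

variable {Λ : Type u} {k : Type u} [CommRing Λ] [Field k] [Algebra Λ k]

section VersalSurj

variable {R : Type u} [CommRing R] [Algebra Λ R] {resR : R →ₐ[Λ] k} {F : Art Λ k ⥤ Type v}

theorem h0_of_surjective_app (ξ : Family R resR F)
    (hsurj : Function.Surjective (ξ.app (base Λ k))) : H0 F := by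
  refine ⟨⟨ξ.app _ hRBasePt⟩, ⟨fun x y => ?_⟩⟩
  obtain ⟨φ, rfl⟩ := hsurj x
  obtain ⟨ψ, rfl⟩ := hsurj y
  rw [(subsingleton_hR_base (R := R) (resR := resR)).elim φ ψ]

theorem heps_of_isMiniversal (ξ : Family R resR F) (hξ : IsMiniversal ξ)
    (hsurj : ∀ A : Art Λ k, Function.Surjective (ξ.app A)) : Heps F := by
  have h0 : H0 F := h0_of_surjective_app ξ (hsurj _)
  intro B A' p' p'' h
  refine ⟨?_, s1_of_isVersal h0 ξ hξ.1 p' p'' _ _ h (surjective_toBase _)⟩
  intro z₁ z₂ hz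
  have hz1 : F.map p' z₁ = F.map p' z₂ := congrArg (fun t => t.1.1) hz
  have hz2 : F.map p'' z₁ = F.map p'' z₂ := congrArg (fun t => t.1.2) hz
  -- p' is surjective
  have hp' : Function.Surjective p' := by
    intro a'
    obtain ⟨d, hd⟩ := surjective_toBase (dual Λ k) (toBase A' a')
    obtain ⟨b, hb, _⟩ := h.surj a' d hd.symm
    exact ⟨b, hb⟩
  obtain ⟨v, hv⟩ := hsurj A' (F.map p' z₁)
  obtain ⟨u₁, hu₁1, hu₁2⟩ := hξ.1 p' hp' v z₁ hv.symm
  obtain ⟨u₂, hu₂1, hu₂2⟩ := hξ.1 p' hp' v z₂ (by rw [← hz1]; exact hv.symm)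
  have hw : HomSet.map p'' u₁ = HomSet.map p'' u₂ := by
    apply hξ.2.1
    rw [ξ.natural, ξ.natural, hu₁2, hu₂2, hz2]
  have hu : u₁ = u₂ := by
    apply (hR_cmp_bijective (R := R) (resR := resR) h).1
    apply FibProd.ext
    · change HomSet.map p' u₁ = HomSet.map p' u₂
      rw [hu₁1, hu₂1]
    · exact hw
  rw [← hu₁2, ← hu₂2, hu]

end VersalSurj

end Groth.Agent.Helper3.ArtFunLib
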