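import Mathlib
import Groth.Agent.Lib.Helper3.ArtFunC

universe u v w w'
open CategoryTheory Limits

namespace Groth.Agent.Helper3.ArtFunLib

section PB

variable {C : Type w} [Category.{w'} C] {F G H : C ⥤ Type v} (f : H ⟶ F) (g : G ⟶ F)

theorem pullback_condition_app (X : C) (z : (pullback f g).obj X) :
    f.app X ((pullback.fst f g).app X z) = g.app X ((pullback.snd f g).app X z) := by
  have := congrArg (fun t => t.app X z) (pullback.condition (f := f) (g := g))
  simpa using this

theorem pullbackObjIso_hom_fst_apply (X : C) (z : (pullback f g).obj X) :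
    pullback.fst (f.app X) (g.app X) ((pullbackObjIso f g X).hom z) =
      (pullback.fst f g).app X z := by
  have := ConcreteCategory.congr_hom (pullbackObjIso_hom_comp_fst f g X) z
  exact this

theorem pullbackObjIso_hom_snd_apply (X : C) (z : (pullback f g).obj X) :
    pullback.snd (f.app X) (g.app X) ((pullbackObjIso f g X).hom z) =
      (pullback.snd f g).app X z := by
  have := ConcreteCategory.congr_hom (pullbackObjIso_hom_comp_snd f g X) z
  exact this

theorem pullback_app_ext (X : C) (z z' : (pullback f g).obj X)
    (h1 : (pullback.fst f g).app X z = (pullback.fst f g).app X z')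
    (h2 : (pullback.snd f g).app X z = (pullback.snd f g).app X z') : z = z' := by
  have e1 : Function.Injective (pullbackObjIso f g X).hom :=
    (isIso_iff_bijective _).1 inferInstance |>.1
  apply e1
  have e2 : Function.Injective (Types.pullbackIsoPullback (f.app X) (g.app X)).hom :=
    (isIso_iff_bijective _).1 inferInstance |>.1
  apply e2
  apply Subtype.ext
  apply Prod.ext
  · rw [Types.pullbackIsoPullback_hom_fst, Types.pullbackIsoPullback_hom_fst,
      pullbackObjIso_hom_fst_apply, pullbackObjIso_hom_fst_apply, h1]
  · rw [Types.pullbackIsoPullback_hom_snd, Types.pullbackIsoPullback_hom_snd,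
      pullbackObjIso_hom_snd_apply, pullbackObjIso_hom_snd_apply, h2]

theorem pullback_app_exists (X : C) (h : H.obj X) (g' : G.obj X) (hh : f.app X h = g.app X g') :
    ∃ z : (pullback f g).obj X, (pullback.fst f g).app X z = h ∧
      (pullback.snd f g).app X z = g' := by
  let w : Types.PullbackObj (f.app X) (g.app X) := ⟨(h, g'), hh⟩
  let z := (pullbackObjIso f g X).inv ((Types.pullbackIsoPullback (f.app X) (g.app X)).inv w)
  refine ⟨z, ?_, ?_⟩
  · rw [← pullbackObjIso_hom_fst_apply]
    simp only [z, Iso.inv_hom_id_apply]
    exact Types.pullbackIsoPullback_inv_fst_apply (f.app X) (g.app X) w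
  · rw [← pullbackObjIso_hom_snd_apply]
    simp only [z, Iso.inv_hom_id_apply]
    exact Types.pullbackIsoPullback_inv_snd_apply (f.app X) (g.app X) w

end PB

section RSPullback

open ArtFun ArtFun.Art

variable {Λ : Type u} {k : Type u} [CommRing Λ] [Field k] [Algebra Λ k]

theorem rs_pullback {F G H : Art Λ k ⥤ Type v} (f : H ⟶ F) (g : G ⟶ F)
    (hF : RS F) (hG : RS G) (hH : RS H) : RS (pullback f g) := by
  intro B A A' A'' p' p'' f' f'' h hf''
  set P := pullback f g with hP
  set π₁ := pullback.fst f g with hπ₁
  set π₂ := pullback.snd f g with hπ₂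
  constructor
  · intro z z' hzz'
    have e1 : P.map p' z = P.map p' z' := congrArg (fun t => t.1.1) hzz'
    have e2 : P.map p'' z = P.map p'' z' := congrArg (fun t => t.1.2) hzz'
    apply pullback_app_ext f g B
    · apply (hH p' p'' f' f'' h hf'').1
      apply FibProd.ext
      · change H.map p' (π₁.app B z) = H.map p' (π₁.app B z')
        rw [← NatTrans.naturality_apply, ← NatTrans.naturality_apply, e1]
      · change H.map p'' (π₁.app B z) = H.map p'' (π₁.app B z')
        rw [← NatTrans.naturality_apply, ← NatTrans.naturality_apply, e2]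
    · apply (hG p' p'' f' f'' h hf'').1
      apply FibProd.ext
      · change G.map p' (π₂.app B z) = G.map p' (π₂.app B z')
        rw [← NatTrans.naturality_apply, ← NatTrans.naturality_apply, e1]
      · change G.map p'' (π₂.app B z) = G.map p'' (π₂.app B z')
        rw [← NatTrans.naturality_apply, ← NatTrans.naturality_apply, e2]
  · rintro ⟨⟨z', z''⟩, hz⟩
    have hz' : P.map f' z' = P.map f'' z'' := hz
    obtain ⟨x, hx⟩ := (hH p' p'' f' f'' h hf'').2 ⟨(π₁.app A' z', π₁.app A'' z''), by
      change H.map f' (π₁.app A' z') = H.map f'' (π₁.app A'' z'')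
      rw [← NatTrans.naturality_apply, ← NatTrans.naturality_apply, hz']⟩
    have hx1 : H.map p' x = π₁.app A' z' := congrArg (fun t => t.1.1) hx
    have hx2 : H.map p'' x = π₁.app A'' z'' := congrArg (fun t => t.1.2) hx
    obtain ⟨y, hy⟩ := (hG p' p'' f' f'' h hf'').2 ⟨(π₂.app A' z', π₂.app A'' z''), by
      change G.map f' (π₂.app A' z') = G.map f'' (π₂.app A'' z'')
      rw [← NatTrans.naturality_apply, ← NatTrans.naturality_apply, hz']⟩
    have hy1 : G.map p' y = π₂.app A' z' := congrArg (fun t => t.1.1) hy
    have hy2 : G.map p'' y = π₂.app A'' z'' := congrArg (fun t => t.1.2) hy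
    have hxy : f.app B x = g.app B y := by
      apply (hF p' p'' f' f'' h hf'').1
      apply FibProd.ext
      · change F.map p' (f.app B x) = F.map p' (g.app B y)
        rw [← NatTrans.naturality_apply, ← NatTrans.naturality_apply, hx1, hy1]
        exact pullback_condition_app f g A' z'
      · change F.map p'' (f.app B x) = F.map p'' (g.app B y)
        rw [← NatTrans.naturality_apply, ← NatTrans.naturality_apply, hx2, hy2]
        exact pullback_condition_app f g A'' z''
    obtain ⟨z, hz1, hz2⟩ := pullback_app_exists f g B x y hxy
    refine ⟨z, ?_⟩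
    apply FibProd.ext
    · change P.map p' z = z'
      apply pullback_app_ext f g A'
      · change π₁.app A' (P.map p' z) = π₁.app A' z'
        rw [NatTrans.naturality_apply, hz1, hx1]
      · change π₂.app A' (P.map p' z) = π₂.app A' z'
        rw [NatTrans.naturality_apply, hz2, hy1]
    · change P.map p'' z = z''
      apply pullback_app_ext f g A''
      · change π₁.app A'' (P.map p'' z) = π₁.app A'' z''
        rw [NatTrans.naturality_apply, hz1, hx2]
      · change π₂.app A'' (P.map p'' z) = π₂.app A'' z''
        rw [NatTrans.naturality_apply, hz2, hy2]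

end RSPullback

end Groth.Agent.Helper3.ArtFunLib
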