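import Mathlib
import Groth.Agent.Lib.Helper3.ArtFunJ
import Groth.Agent.Lib.Helper3.ArtFunPB

set_option linter.style.haveILetI false

universe u v w w'

open CategoryTheory Limits

namespace Groth.Agent.Helper3.ArtFunLib

section ProdAPI

variable {C : Type w} [Category.{w'} C] (F G : C ⥤ Type v)

/-- the objectwise iso `(F ⨯ G)(X) ≅ F(X) × G(X)` -/
noncomputable def prodObjEquiv (X : C) : (F ⨯ G).obj X ≅ F.obj X × G.obj X :=
  PreservesLimitPair.iso ((evaluation C (Type v)).obj X) F G ≪≫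
    Types.binaryProductIso (F.obj X) (G.obj X)

theorem prodObjEquiv_hom_fst (X : C) (z : (F ⨯ G).obj X) :
    ((prodObjEquiv F G X).hom z).1 = (prod.fst : F ⨯ G ⟶ F).app X z := by
  unfold prodObjEquiv
  rw [Iso.trans_hom, types_comp_apply, Types.binaryProductIso_hom_comp_fst_apply,
    PreservesLimitPair.iso_hom]
  have := ConcreteCategory.congr_hom
    (prodComparison_fst ((evaluation C (Type v)).obj X) F G) z
  exact this

theorem prodObjEquiv_hom_snd (X : C) (z : (F ⨯ G).obj X) :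
    ((prodObjEquiv F G X).hom z).2 = (prod.snd : F ⨯ G ⟶ G).app X z := by
  unfold prodObjEquiv
  rw [Iso.trans_hom, types_comp_apply, Types.binaryProductIso_hom_comp_snd_apply,
    PreservesLimitPair.iso_hom]
  have := ConcreteCategory.congr_hom
    (prodComparison_snd ((evaluation C (Type v)).obj X) F G) z
  exact this

theorem prod_app_ext (X : C) (z z' : (F ⨯ G).obj X)
    (h1 : (prod.fst : F ⨯ G ⟶ F).app X z = (prod.fst : F ⨯ G ⟶ F).app X z')
    (h2 : (prod.snd : F ⨯ G ⟶ G).app X z = (prod.snd : F ⨯ G ⟶ G).app X z') : z = z' := by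
  have e1 : Function.Injective (prodObjEquiv F G X).hom :=
    (isIso_iff_bijective _).1 inferInstance |>.1
  apply e1
  apply Prod.ext
  · rw [prodObjEquiv_hom_fst, prodObjEquiv_hom_fst, h1]
  · rw [prodObjEquiv_hom_snd, prodObjEquiv_hom_snd, h2]

theorem prod_app_exists (X : C) (x : F.obj X) (y : G.obj X) :
    ∃ z : (F ⨯ G).obj X, (prod.fst : F ⨯ G ⟶ F).app X z = x ∧
      (prod.snd : F ⨯ G ⟶ G).app X z = y := by
  refine ⟨(prodObjEquiv F G X).inv (x, y), ?_, ?_⟩
  · rw [← prodObjEquiv_hom_fst]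
    simp
  · rw [← prodObjEquiv_hom_snd]
    simp

end ProdAPI

open ArtFun ArtFun.Art

variable {Λ : Type u} {k : Type u} [CommRing Λ] [Field k] [Algebra Λ k]

section SmoothMor

variable {F G H : Art Λ k ⥤ Type v}

theorem isSmooth_pullback_snd (η : F ⟶ G) (θ : H ⟶ G) (hη : IsSmooth η) :
    IsSmooth (pullback.snd η θ) := by
  intro B A μ hμ
  rintro ⟨⟨w, h⟩, hwh⟩
  have hwh' : (pullback.snd η θ).app A w = H.map μ h := hwh
  -- x = fst w ∈ F(A), g = θ h ∈ G(B)
  have hc : η.app A ((pullback.fst η θ).app A w) = G.map μ (θ.app B h) := by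
    rw [pullback_condition_app, hwh', NatTrans.naturality_apply]
  obtain ⟨z, hz⟩ := hη μ hμ ⟨((pullback.fst η θ).app A w, θ.app B h), hc⟩
  have hz1 : F.map μ z = (pullback.fst η θ).app A w := congrArg (fun t => t.1.1) hz
  have hz2 : η.app B z = θ.app B h := congrArg (fun t => t.1.2) hz
  obtain ⟨q, hq1, hq2⟩ := pullback_app_exists η θ B z h hz2
  refine ⟨q, Subtype.ext (Prod.ext ?_ ?_)⟩
  · change (pullback η θ).map μ q = w
    apply pullback_app_ext η θ A
    · rw [NatTrans.naturality_apply, hq1, hz1]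
    · rw [NatTrans.naturality_apply, hq2, hwh']
  · exact hq2

theorem isSmoothFunctor_iff_of_isSmooth (η : F ⟶ G) (hη : IsSmooth η)
    (hF : H0 F) (hG : H0 G) : IsSmoothFunctor F ↔ IsSmoothFunctor G := by
  have hs : ∀ A, Function.Surjective (η.app A) := by
    refine surjective_app_of_isSmooth η hη ?_
    intro y
    obtain ⟨x⟩ := hF.1
    haveI := hG.2
    exact ⟨x, Subsingleton.elim _ _⟩
  constructor
  · intro sF B A μ hμ y
    obtain ⟨x, rfl⟩ := hs A y
    obtain ⟨z, rfl⟩ := sF μ hμ x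
    exact ⟨η.app B z, (NatTrans.naturality_apply η μ z).symm⟩
  · intro sG B A μ hμ x
    obtain ⟨y', hy'⟩ := sG μ hμ (η.app A x)
    obtain ⟨z, hz⟩ := hη μ hμ ⟨(x, y'), hy'.symm⟩
    exact ⟨z, congrArg (fun t => t.1.1) hz⟩

theorem isSmoothFunctor_prod (sF : IsSmoothFunctor F) (sG : IsSmoothFunctor G) :
    IsSmoothFunctor (F ⨯ G) := by
  intro B A μ hμ w
  obtain ⟨x, hx⟩ := sF μ hμ ((prod.fst : F ⨯ G ⟶ F).app A w)
  obtain ⟨y, hy⟩ := sG μ hμ ((prod.snd : F ⨯ G ⟶ G).app A w)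
  obtain ⟨z, hz1, hz2⟩ := prod_app_exists F G B x y
  refine ⟨z, ?_⟩
  apply prod_app_ext F G A
  · rw [NatTrans.naturality_apply, hz1, hx]
  · rw [NatTrans.naturality_apply, hz2, hy]

end SmoothMor

end Groth.Agent.Helper3.ArtFunLib
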