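import Mathlib
import Groth.Agent.Lib.Helper3.ArtFunK
import Groth.Agent.Lib.Helper3.ArtFunH
import Groth.Agent.Lib.Helper3.ArtFunE
import Groth.Agent.Lib.Helper3.ArtFunG

set_option linter.style.haveILetI false

universe u v w

open CategoryTheory

namespace Groth.Agent.Helper3.ArtFunLib

open ArtFun ArtFun.Art

section General

variable {Λ : Type u} {k : Type u} [CommRing Λ] [Field k] [Algebra Λ k]

/-- every point of `h_R` factors through a truncation -/
theorem exists_factor (R : CRing Λ k) (A : Art Λ k) (a : HomSet R.carrier R.res A) :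
    ∃ (n : ℕ) (p : R.trunc n ⟶ A), HomSet.map p (R.truncHom n) = a := by
  obtain ⟨n, hn⟩ : ∃ n, IsLocalRing.maximalIdeal A ^ (n + 1) = ⊥ := by
    obtain ⟨n, hn⟩ := exists_pow_maximalIdeal_eq_bot A
    refine ⟨n, ?_⟩
    rw [pow_succ, hn, Ideal.bot_mul]
  exact ⟨n, factorTrunc R hn a, map_factorTrunc R hn a⟩

/-- a family is determined by its formal element -/
theorem family_app_eq_of_formalElt {F : Art Λ k ⥤ Type v} (R : CRing Λ k)
    (ξ : Family R.carrier R.res F) (A : Art Λ k) (a : HomSet R.carrier R.res A) :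
    ∃ (n : ℕ) (p : R.trunc n ⟶ A), ξ.app A a = F.map p (ξ.toFormalElt.elt n) ∧
      HomSet.map p (R.truncHom n) = a := by
  obtain ⟨n, p, hp⟩ := exists_factor R A a
  refine ⟨n, p, ?_, hp⟩
  rw [← hp, ξ.natural]
  rfl

/-- lifting a morphism of functors to a versal family -/
theorem exists_lift_morphism {F₁ F₂ : Art Λ k ⥤ Type v} (f : F₁ ⟶ F₂)
    (R₁ : CRing Λ k) (ξ₁ : Family R₁.carrier R₁.res F₁)
    (R₂ : CRing Λ k) (ξ₂ : Family R₂.carrier R₂.res F₂) (hξ₂ : IsVersal ξ₂)
    (h0 : H0 F₂) :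
    ∃ (φ : R₂.carrier →ₐ[Λ] R₁.carrier) (hφ : R₁.res.comp φ = R₂.res),
      ∀ (A : Art Λ k) (u : HomSet R₁.carrier R₁.res A),
        (ξ₂.along φ hφ).app A u = f.app A (ξ₁.app A u) := by
  obtain ⟨g, hg, hgη⟩ := formalElt_induced h0 R₂ ξ₂ hξ₂ R₁ (ξ₁.toFormalElt.map f)
  refine ⟨g, hg, ?_⟩
  intro A u
  obtain ⟨n, p, h1, hp⟩ := family_app_eq_of_formalElt R₁ (ξ₂.along g hg) A u
  rw [h1, hgη]
  change F₂.map p (f.app _ (ξ₁.app _ (R₁.truncHom n))) = _
  rw [← NatTrans.naturality_apply, ← ξ₁.natural, hp]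

/-- an endomorphism of a pair `(R, ξ)` with `ξ` injective on the tangent space is an
automorphism -/
theorem endo_bijective {F : Art Λ k ⥤ Type v} (R : CRing Λ k)
    (ξ : Family R.carrier R.res F) (hinj : Function.Injective (ξ.app (dual Λ k)))
    (α : R.carrier →ₐ[Λ] R.carrier) (hα : R.res.comp α = R.res) (hξ : ξ.along α hα = ξ) :
    Function.Bijective α := by
  have hs : Function.Surjective α := by
    apply surjective_of_push_eq ξ hinj ξ.toFormalElt α hα
    rw [← along_toFormalElt, hξ]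
  refine ⟨?_, hs⟩
  exact ringHom_injective_of_surjective_endo (α : R.carrier →+* R.carrier) hs

/-- universal families detect morphisms -/
theorem eq_of_isUniversal {F : Art Λ k ⥤ Type v} (R : CRing Λ k)
    (ξ : Family R.carrier R.res F) (hξ : IsUniversal ξ)
    (S : CRing Λ k) (g₁ g₂ : R.carrier →ₐ[Λ] S.carrier)
    (hg₁ : S.res.comp g₁ = R.res) (hg₂ : S.res.comp g₂ = R.res)
    (h : (ξ.along g₁ hg₁).toFormalElt = (ξ.along g₂ hg₂).toFormalElt) :
    g₁ = g₂ := by
  have hn : ∀ n, (S.truncHom n).1.comp g₁ = (S.truncHom n).1.comp g₂ := by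
    intro n
    have h1 := congrArg (fun w : FormalElt F S => w.elt n) h
    change ξ.app _ _ = ξ.app _ _ at h1
    have h2 := (hξ _).1 h1
    exact congrArg Subtype.val h2
  haveI := S.isAdicComplete
  apply AlgHom.ext
  intro r
  rw [← sub_eq_zero]
  apply IsHausdorff.haus (inferInstance : IsHausdorff (IsLocalRing.maximalIdeal S.carrier) S.carrier)
  intro n
  rw [SModEq.zero, smul_eq_mul, Ideal.mul_top]
  have h3 : g₁ r - g₂ r ∈ IsLocalRing.maximalIdeal S.carrier ^ (n + 1) := by
    have h4 := congrArg (fun t : R.carrier →ₐ[Λ] (S.trunc n).carrier => t r) (hn n)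
    change Ideal.Quotient.mk (CRing.mpow S n) (g₁ r) = Ideal.Quotient.mk (CRing.mpow S n) (g₂ r) at h4
    exact Ideal.Quotient.eq.1 h4
  exact Ideal.pow_le_pow_right (Nat.le_succ n) h3

end General

section OverField

variable {k : Type u} [Field k]

theorem exists_dual_sep (A : Art k k) (hA : IsLocalRing.maximalIdeal A ^ 2 = ⊥) (x : A)
    (hxm : x ∈ IsLocalRing.maximalIdeal A) (hx : x ≠ 0) :
    ∃ q : A ⟶ dual k k, q x ≠ 0 := by
  haveI : IsNoetherianRing A := inferInstance
  obtain ⟨δ, hadd, hleib, hδf, -, hδx⟩ := exists_deriv_at (S := A) (k := k)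
    (A.res : A →+* k) A.res_surjective (algebraMap k A)
    (fun c => ⟨c, by simp⟩)
    ⊥ bot_le (by rw [← pow_two, hA]) (fun r hr => by
      have : r = 0 := by simpa using hr
      rw [this, map_zero]; exact Ideal.zero_mem _) x hxm (by
      rw [Ideal.mem_bot]; exact hx)
  refine ⟨homOfDeriv A δ hadd hleib hδf, ?_⟩
  intro h
  apply hδx
  have := congrArg TrivSqZeroExt.snd h
  rwa [homOfDeriv_snd] at this

/-- a family injective on the tangent space is injective on all objects with `m² = 0` -/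
theorem injective_app_of_sq_zero {F : Art k k ⥤ Type v} {R : Type u} [CommRing R] [Algebra k R]
    {resR : R →ₐ[k] k} (ξ : Family R resR F) (hinj : Function.Injective (ξ.app (dual k k)))
    (A : Art k k) (hA : IsLocalRing.maximalIdeal A ^ 2 = ⊥) :
    Function.Injective (ξ.app A) := by
  intro t₁ t₂ h
  by_contra hne
  have : ∃ r, t₁.1 r ≠ t₂.1 r := by
    by_contra hcon
    push Not at hcon
    exact hne (Subtype.ext (AlgHom.ext hcon))
  obtain ⟨r, hr⟩ := this
  have hxm : t₁.1 r - t₂.1 r ∈ IsLocalRing.maximalIdeal A := by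
    rw [Art.mem_maximalIdeal_iff, map_sub, sub_eq_zero]
    have e1 := congrArg (fun g : R →ₐ[k] k => g r) t₁.2
    have e2 := congrArg (fun g : R →ₐ[k] k => g r) t₂.2
    exact e1.trans e2.symm
  obtain ⟨q, hq⟩ := exists_dual_sep A hA _ hxm (sub_ne_zero.2 hr)
  apply hq
  have h1 : HomSet.map q t₁ = HomSet.map q t₂ := by
    apply hinj
    rw [ξ.natural, ξ.natural, h]
  have h2 := congrArg (fun g : HomSet R resR (dual k k) => g.1 r) h1
  change q (t₁.1 r) = q (t₂.1 r) at h2
  change q.toAlgHom (t₁.1 r - t₂.1 r) = 0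
  rw [map_sub, sub_eq_zero]
  exact h2

theorem truncOne_comp_eq {F : Art k k ⥤ Type v} (R : CRing k k)
    (ξ : Family R.carrier R.res F) (hinj : Function.Injective (ξ.app (dual k k)))
    (S : CRing k k) (g₁ g₂ : R.carrier →ₐ[k] S.carrier)
    (hg₁ : S.res.comp g₁ = R.res) (hg₂ : S.res.comp g₂ = R.res)
    (h : (ξ.along g₁ hg₁).toFormalElt = (ξ.along g₂ hg₂).toFormalElt) :
    (S.truncHom 1).1.comp g₁ = (S.truncHom 1).1.comp g₂ := by
  have h1 := congrArg (fun w : FormalElt F S => w.elt 1) h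
  change ξ.app _ _ = ξ.app _ _ at h1
  have h2 := injective_app_of_sq_zero ξ hinj (S.trunc 1) (trunc_pow_eq_bot S 1) h1
  exact congrArg Subtype.val h2

end OverField

end Groth.Agent.Helper3.ArtFunLib
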