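import Mathlib
import Groth.Agent.Lib.Helper3.ArtFunL
import Groth.Prelude.Def_ArtFun3

set_option linter.style.haveILetI false

universe u v w

open CategoryTheory
open scoped TensorProduct

namespace Groth.Agent.Helper3.ArtFunLib

open ArtFun ArtFun.Art

section LinAlg

variable {k : Type u} [Field k] {V : Type v} {J : Type w} [AddCommGroup V] [Module k V]
  [AddCommGroup J] [Module k J]

theorem mem_range_rTensor_of_forall_functional (Ω : Submodule k V) (x : V ⊗[k] J)
    (h : ∀ lam : J →ₗ[k] k, TensorProduct.rid k V (LinearMap.lTensor V lam x) ∈ Ω) :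
    x ∈ LinearMap.range (LinearMap.rTensor J Ω.subtype) := by
  classical
  let b := Module.Basis.ofVectorSpace k J
  set c := TensorProduct.equivFinsuppOfBasisRight b x with hc
  have hx : x = c.sum fun i m => m ⊗ₜ b i := by
    rw [← TensorProduct.equivFinsuppOfBasisRight_symm_apply, hc, LinearEquiv.symm_apply_apply]
  have hci : ∀ i, c i ∈ Ω := fun i => by
    rw [hc, TensorProduct.equivFinsuppOfBasisRight_apply]; exact h _
  rw [hx]
  apply Submodule.sum_mem
  intro i _
  exact ⟨(⟨c i, hci i⟩ : Ω) ⊗ₜ b i, rfl⟩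

end LinAlg

section Obs

variable {k : Type u} [Field k] {C' C : Art k k} (p : C' ⟶ C) (hp : IsSemismallExt p)

include hp in
theorem mul_eq_res_smul (c' : C') (j : C') (hj : j ∈ RingHom.ker p.toAlgHom) :
    c' * j = C'.res c' • j := by
  have h1 : c' - algebraMap k C' (C'.res c') ∈ IsLocalRing.maximalIdeal C' := by
    rw [Art.mem_maximalIdeal_iff, map_sub, AlgHom.commutes]
    simp
  have h2 : (c' - algebraMap k C' (C'.res c')) * j ∈
      IsLocalRing.maximalIdeal C' * RingHom.ker p.toAlgHom := Ideal.mul_mem_mul h1 hj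
  rw [hp.2, Ideal.mem_bot, sub_mul, sub_eq_zero] at h2
  rw [h2, Algebra.smul_def]

/-- the kernel of a functional on `ker p`, as an ideal -/
def kerIdeal (lam : ↥(RingHom.ker p.toAlgHom) →ₗ[k] k) : Ideal C' where
  carrier := {c | ∃ h : c ∈ RingHom.ker p.toAlgHom, lam ⟨c, h⟩ = 0}
  add_mem' := by
    rintro a b ⟨ha, hla⟩ ⟨hb, hlb⟩
    refine ⟨Ideal.add_mem _ ha hb, ?_⟩
    have : (⟨a + b, Ideal.add_mem _ ha hb⟩ : ↥(RingHom.ker p.toAlgHom)) = ⟨a, ha⟩ + ⟨b, hb⟩ := rfl
    rw [this, map_add, hla, hlb, add_zero]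
  zero_mem' := ⟨Ideal.zero_mem _, by
    have : (⟨0, Ideal.zero_mem _⟩ : ↥(RingHom.ker p.toAlgHom)) = 0 := rfl
    rw [this, map_zero]⟩
  smul_mem' := by
    rintro c' c ⟨h, hl⟩
    refine ⟨Ideal.mul_mem_left _ c' h, ?_⟩
    have : (⟨c' • c, Ideal.mul_mem_left _ c' h⟩ : ↥(RingHom.ker p.toAlgHom)) =
        C'.res c' • ⟨c, h⟩ := Subtype.ext (mul_eq_res_smul p hp c' c h)
    rw [this, map_smul, hl, smul_zero]

theorem mem_kerIdeal_iff (lam : ↥(RingHom.ker p.toAlgHom) →ₗ[k] k) (c : C') :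
    c ∈ kerIdeal p hp lam ↔ ∃ h : c ∈ RingHom.ker p.toAlgHom, lam ⟨c, h⟩ = 0 := Iff.rfl

theorem obs_mem_range {F : Art k k ⥤ Type v} {V : Type u} [AddCommGroup V] [Module k V]
    (T : ObsTheory F V) (u : F.obj C) :
    T.obs p hp u ∈ LinearMap.range (LinearMap.rTensor (↥(RingHom.ker p.toAlgHom))
      (Submodule.span k {v : V | ∃ (B' B : Art k k) (t : B' ⟶ B) (ht : IsSmallExt t)
          (w : F.obj B) (φ : ↥(RingHom.ker t.toAlgHom) ≃ₗ[k] k),
          v = TensorProduct.rid k V (LinearMap.lTensor V φ.toLinearMap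
            (T.obs t ht.isSemismallExt w))}).subtype) := by
  apply mem_range_rTensor_of_forall_functional
  intro lam
  by_cases hlam : lam = 0
  · rw [hlam, LinearMap.lTensor_zero, LinearMap.zero_apply, map_zero]
    exact Submodule.zero_mem _
  apply Submodule.subset_span
  obtain ⟨j₀, hj₀⟩ : ∃ j₀, lam j₀ = 1 := by
    obtain ⟨j, hj⟩ : ∃ j, lam j ≠ 0 := by
      by_contra h
      push Not at h
      exact hlam (LinearMap.ext h)
    exact ⟨(lam j)⁻¹ • j, by rw [map_smul, smul_eq_mul, inv_mul_cancel₀ hj]⟩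
  set K := kerIdeal p hp lam with hKdef
  have hKJ : K ≤ RingHom.ker p.toAlgHom := fun c hc => hc.1
  have hJm : RingHom.ker p.toAlgHom ≤ IsLocalRing.maximalIdeal C' := ker_le_maximalIdeal p
  have hK : K ≤ IsLocalRing.maximalIdeal C' := hKJ.trans hJm
  set q := quotFactor hK p hKJ with hqdef
  -- the generator of ker q
  set e₀ : ↥(RingHom.ker q.toAlgHom) := kerToQuot hK p hKJ j₀ with he₀
  -- decomposition
  have hdec : ∀ j : ↥(RingHom.ker p.toAlgHom), kerToQuot hK p hKJ j = lam j • e₀ := by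
    intro j
    rw [he₀, ← map_smul]
    apply Subtype.ext
    change Ideal.Quotient.mk K (j : C') = Ideal.Quotient.mk K ((lam j • j₀ : ↥(RingHom.ker p.toAlgHom)) : C')
    rw [Ideal.Quotient.eq]
    refine ⟨Ideal.sub_mem _ j.2 (lam j • j₀).2, ?_⟩
    have : (⟨(j : C') - ((lam j • j₀ : ↥(RingHom.ker p.toAlgHom)) : C'),
        Ideal.sub_mem _ j.2 (lam j • j₀).2⟩ : ↥(RingHom.ker p.toAlgHom)) = j - lam j • j₀ := rfl
    rw [this, map_sub, map_smul, hj₀, smul_eq_mul, mul_one, sub_self]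
  have hsurjK : ∀ y : ↥(RingHom.ker q.toAlgHom), ∃ j, kerToQuot hK p hKJ j = y := by
    rintro ⟨y, hy⟩
    obtain ⟨c, rfl⟩ := Ideal.Quotient.mk_surjective y
    have hc : c ∈ RingHom.ker p.toAlgHom := by
      rw [RingHom.mem_ker] at hy ⊢
      exact hy
    exact ⟨⟨c, hc⟩, rfl⟩
  have he₀ne : e₀ ≠ 0 := by
    intro h0
    have h1 : Ideal.Quotient.mk K (j₀ : C') = 0 := congrArg Subtype.val h0
    rw [Ideal.Quotient.eq_zero_iff_mem] at h1
    obtain ⟨h, hl⟩ := h1
    have : (⟨(j₀ : C'), h⟩ : ↥(RingHom.ker p.toAlgHom)) = j₀ := rfl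
    rw [this, hj₀] at hl
    exact one_ne_zero hl
  -- q is a small extension
  have hq : IsSmallExt q := by
    refine ⟨?_, ?_, ?_, ?_⟩
    · intro c
      obtain ⟨c', rfl⟩ := hp.1 c
      exact ⟨Ideal.Quotient.mk K c', rfl⟩
    · intro hbot
      apply he₀ne
      apply Subtype.ext
      have h1 : (e₀ : (quot C' K hK)) ∈ RingHom.ker q.toAlgHom := e₀.2
      have h2 : (e₀ : (quot C' K hK)) ∈ (⊥ : Ideal (quot C' K hK)) := hbot ▸ h1
      exact (Ideal.mem_bot.1 h2)
    · refine ⟨⟨(e₀ : (quot C' K hK)), ?_⟩⟩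
      apply le_antisymm
      · intro y hy
        obtain ⟨j, hj⟩ := hsurjK ⟨y, hy⟩
        have h1 := hdec j
        rw [hj] at h1
        have h2 : y = lam j • (e₀ : (quot C' K hK)) := congrArg Subtype.val h1
        rw [h2, Algebra.smul_def]
        exact Ideal.mul_mem_left _ _ (Ideal.subset_span rfl)
      · rw [Ideal.submodule_span_eq, Ideal.span_le, Set.singleton_subset_iff]
        exact e₀.2
    · rw [← le_bot_iff, Ideal.mul_le]
      intro y hy z hz
      obtain ⟨c', rfl⟩ := Ideal.Quotient.mk_surjective y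
      obtain ⟨j, hj⟩ := hsurjK ⟨z, hz⟩
      have hz' : z = Ideal.Quotient.mk K (j : C') := (congrArg Subtype.val hj).symm
      have hc' : c' ∈ IsLocalRing.maximalIdeal C' := by
        rw [Art.mem_maximalIdeal_iff] at hy ⊢
        exact hy
      have h3 : c' * (j : C') ∈ IsLocalRing.maximalIdeal C' * RingHom.ker p.toAlgHom :=
        Ideal.mul_mem_mul hc' j.2
      rw [hp.2, Ideal.mem_bot] at h3
      rw [hz', Ideal.mem_bot]
      have h4 : Ideal.Quotient.mk K c' * Ideal.Quotient.mk K (j : C') =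
          Ideal.Quotient.mk K (c' * (j : C')) := (map_mul _ _ _).symm
      rw [h3, map_zero] at h4
      exact h4
  -- the iso
  let ψ : k →ₗ[k] ↥(RingHom.ker q.toAlgHom) := LinearMap.toSpanSingleton k _ e₀
  have hψ : Function.Bijective ψ := by
    constructor
    · rw [← LinearMap.ker_eq_bot, LinearMap.ker_eq_bot']
      intro c hc
      change c • e₀ = 0 at hc
      rcases smul_eq_zero.1 hc with h | h
      · exact h
      · exact absurd h he₀ne
    · intro y
      obtain ⟨j, hj⟩ := hsurjK y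
      exact ⟨lam j, by rw [← hj, hdec j]; rfl⟩
  let φ : ↥(RingHom.ker q.toAlgHom) ≃ₗ[k] k := (LinearEquiv.ofBijective ψ hψ).symm
  have hφ : φ.toLinearMap.comp ((kerToQuot hK p hKJ).restrictScalars k) = lam := by
    apply LinearMap.ext
    intro j
    change φ (kerToQuot hK p hKJ j) = lam j
    rw [LinearEquiv.symm_apply_eq]
    change _ = lam j • e₀
    exact hdec j
  refine ⟨quot C' K hK, C, q, hq, u, φ, ?_⟩
  rw [T.obs_quot p hp K hK hKJ hq.isSemismallExt u, ← LinearMap.comp_apply,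
    ← LinearMap.lTensor_comp, hφ]

end Obs

end Groth.Agent.Helper3.ArtFunLib
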