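import Mathlib
import Groth.Agent.Lib.Helper3.ArtFunM

set_option linter.style.haveILetI false

universe u v w

open CategoryTheory

namespace Groth.Agent.Helper3.ArtFunLib

open ArtFun ArtFun.Art

variable {Λ : Type u} {k : Type u} [CommRing Λ] [Field k] [Algebra Λ k]

section Injective'

variable {F G : Art Λ k ⥤ Type v}

/-- injectivity on tangent spaces propagates, the source being only semi-homogeneous -/
theorem injective_app_of_tangent_injective' [Module.Finite Λ k] (hF0 : H0 F) (hF1 : S1 F)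
    (hF2 : Heps F) (hG : RS G)
    (φ : F ⟶ G) (hd : Function.Injective (TangentSpace.map φ)) (A : Art Λ k) :
    Function.Injective (φ.app A) := by
  have key : ∀ ⦃A B : Art Λ k⦄ (μ : B ⟶ A), Function.Surjective μ →
      Function.Injective (φ.app A) → Function.Injective (φ.app B) := by
    intro A B μ hμ
    refine smallExt_induction (fun A B μ => Function.Injective (φ.app A) →
      Function.Injective (φ.app B)) ?_ ?_ ?_ μ hμ
    · intro A B e he hA x x' hxx'
      have : φ.app A (F.map e x) = φ.app A (F.map e x') := by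
        rw [NatTrans.naturality_apply, NatTrans.naturality_apply, hxx']
      have h2 := hA this
      have := congrArg (F.map (inv e)) h2
      rwa [map_map_inv, map_map_inv] at this
    · intro A A' μ hμ hA x' x'' hxx
      have hx : F.map μ x' = F.map μ x'' := by
        apply hA
        rw [NatTrans.naturality_apply, NatTrans.naturality_apply, hxx]
      let P := fibreProd μ μ hμ.1
      let p₁ : P ⟶ A' := fibreProdFst μ μ hμ.1
      let p₂ : P ⟶ A' := fibreProdSnd μ μ hμ.1
      have hP : IsFibreProd p₁ p₂ μ μ := isFibreProd_fibreProd μ μ hμ.1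
      let Q := fibreProd (toBase A') (toBase (dual Λ k)) (surjective_toBase _)
      let q₁ : Q ⟶ A' := fibreProdFst _ _ (surjective_toBase _)
      let q₂ : Q ⟶ dual Λ k := fibreProdSnd _ _ (surjective_toBase _)
      have hQ : IsFibreProd q₁ q₂ (toBase A') (toBase (dual Λ k)) := isFibreProd_fibreProd _ _ _
      obtain ⟨θ, δ, hθiso, hθ₁, hδ₁, hδ₂, hδθ⟩ := exists_theta hμ hP hQ
      obtain ⟨z, hz⟩ := hF1 p₁ p₂ μ μ hP hμ.1 ⟨(x', x''), hx⟩
      have hz₁ : F.map p₁ z = x' := congrArg (fun t => t.1.1) hz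
      have hz₂ : F.map p₂ z = x'' := congrArg (fun t => t.1.2) hz
      have hGz : φ.app P z = G.map δ (φ.app A' x') := by
        apply (hG p₁ p₂ μ μ hP hμ.1).1
        apply FibProd.ext
        · change G.map p₁ (φ.app P z) = G.map p₁ (G.map δ (φ.app A' x'))
          rw [← NatTrans.naturality_apply, hz₁, ← map_comp_app, hδ₁, map_id_app]
        · change G.map p₂ (φ.app P z) = G.map p₂ (G.map δ (φ.app A' x'))
          rw [← NatTrans.naturality_apply, hz₂, ← map_comp_app, hδ₂, map_id_app, hxx]
      have hs : F.map q₂ (F.map θ z) = F.map (δ ≫ θ ≫ q₂) x' := by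
        apply hd
        change φ.app _ (F.map q₂ (F.map θ z)) = φ.app _ (F.map (δ ≫ θ ≫ q₂) x')
        rw [NatTrans.naturality_apply, NatTrans.naturality_apply, hGz, NatTrans.naturality_apply,
          map_comp_app, map_comp_app]
      have hw : F.map θ z = F.map (δ ≫ θ) x' := by
        apply (hF2 q₁ q₂ hQ).1
        apply FibProd.ext
        · change F.map q₁ (F.map θ z) = F.map q₁ (F.map (δ ≫ θ) x')
          rw [← map_comp_app, hθ₁, hz₁, ← map_comp_app, Category.assoc, hθ₁, hδ₁, map_id_app]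
        · change F.map q₂ (F.map θ z) = F.map q₂ (F.map (δ ≫ θ) x')
          rw [hs, ← map_comp_app, Category.assoc]
      have hz' : z = F.map δ x' := by
        have := congrArg (F.map (inv θ)) hw
        rwa [map_map_inv, map_comp_app, map_map_inv] at this
      rw [← hz₂, hz', ← map_comp_app, hδ₂, map_id_app]
    · intro A B C p q hp hq hA
      exact hp (hq hA)
  apply key (toBase A) (surjective_toBase A)
  intro x x' _
  haveI := hF0.2
  exact Subsingleton.elim _ _

/-- `φ ≫ ψ` smooth iff both smooth, when `ψ` is injective on tangent spaces -/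
theorem isSmooth_comp_iff [Module.Finite Λ k] {F G H : Art Λ k ⥤ Type v} (φ : F ⟶ G) (ψ : G ⟶ H)
    (hF : H0 F) (hG : H0 G ∧ S1 G ∧ Heps G) (hH0 : H0 H) (hH : RS H)
    (hψ : Function.Injective (TangentSpace.map ψ)) :
    IsSmooth (φ ≫ ψ) ↔ (IsSmooth φ ∧ IsSmooth ψ) := by
  constructor
  · intro hc
    have hinj : ∀ A, Function.Injective (ψ.app A) :=
      injective_app_of_tangent_injective' hG.1 hG.2.1 hG.2.2 hH ψ hψ
    have hsurj : ∀ A, Function.Surjective ((φ ≫ ψ).app A) := by
      refine surjective_app_of_isSmooth (φ ≫ ψ) hc ?_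
      intro y
      obtain ⟨x⟩ := hF.1
      haveI := hH0.2
      exact ⟨x, Subsingleton.elim _ _⟩
    constructor
    · intro B A μ hμ
      rintro ⟨⟨x, y'⟩, hxy⟩
      have hxy' : φ.app A x = G.map μ y' := hxy
      obtain ⟨x', hx'⟩ := hc μ hμ ⟨(x, ψ.app B y'), by
        change (φ ≫ ψ).app A x = H.map μ (ψ.app B y')
        rw [← NatTrans.naturality_apply, ← hxy']
        rfl⟩
      have h1 : F.map μ x' = x := congrArg (fun t => t.1.1) hx'
      have h2 : (φ ≫ ψ).app B x' = ψ.app B y' := congrArg (fun t => t.1.2) hx'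
      refine ⟨x', Subtype.ext (Prod.ext h1 ?_)⟩
      exact hinj B h2
    · intro B A μ hμ
      rintro ⟨⟨y, h'⟩, hyh⟩
      have hyh' : ψ.app A y = H.map μ h' := hyh
      obtain ⟨x, hx⟩ := hsurj A (ψ.app A y)
      have hxy : φ.app A x = y := hinj A hx
      obtain ⟨x', hx'⟩ := hc μ hμ ⟨(x, h'), by
        change (φ ≫ ψ).app A x = H.map μ h'
        rw [hx, hyh']⟩
      have h1 : F.map μ x' = x := congrArg (fun t => t.1.1) hx'
      have h2 : (φ ≫ ψ).app B x' = h' := congrArg (fun t => t.1.2) hx'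
      refine ⟨φ.app B x', Subtype.ext (Prod.ext ?_ h2)⟩
      change G.map μ (φ.app B x') = y
      rw [← NatTrans.naturality_apply, h1, hxy]
  · rintro ⟨h1, h2⟩ B A μ hμ
    rintro ⟨⟨x, h'⟩, hxh⟩
    have hxh' : ψ.app A (φ.app A x) = H.map μ h' := hxh
    obtain ⟨y', hy'⟩ := h2 μ hμ ⟨(φ.app A x, h'), hxh'⟩
    have e1 : G.map μ y' = φ.app A x := congrArg (fun t => t.1.1) hy'
    have e2 : ψ.app B y' = h' := congrArg (fun t => t.1.2) hy'
    obtain ⟨x', hx'⟩ := h1 μ hμ ⟨(x, y'), e1.symm⟩
    have e3 : F.map μ x' = x := congrArg (fun t => t.1.1) hx'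
    have e4 : φ.app B x' = y' := congrArg (fun t => t.1.2) hx'
    refine ⟨x', Subtype.ext (Prod.ext e3 ?_)⟩
    change ψ.app B (φ.app B x') = h'
    rw [e4, e2]

end Injective'

section Point

/-- the one-point functor -/
def ptFun : Art Λ k ⥤ Type u := (Functor.const (Art Λ k)).obj PUnit.{u+1}

theorem rs_ptFun : RS (ptFun (Λ := Λ) (k := k)) := by
  intro B A A' A'' p' p'' f' f'' h _
  constructor
  · intro x y _
    exact Subsingleton.elim (α := PUnit.{u+1}) x y
  · rintro ⟨⟨x, y⟩, hxy⟩
    exact ⟨PUnit.unit, Subtype.ext (Prod.ext (Subsingleton.elim (α := PUnit.{u+1}) _ _)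
      (Subsingleton.elim (α := PUnit.{u+1}) _ _))⟩

theorem rs_hR {R : Type u} [CommRing R] [Algebra Λ R] (resR : R →ₐ[Λ] k) : RS (hR R resR) := by
  intro B A A' A'' p' p'' f' f'' h _
  exact hR_cmp_bijective h

theorem h0_hR {R : Type u} [CommRing R] [Algebra Λ R] (resR : R →ₐ[Λ] k) : H0 (hR R resR) :=
  ⟨⟨hRBasePt⟩, subsingleton_hR_base⟩

theorem subsingleton_homSet_of_dual [Module.Finite Λ k] {R : Type u} [CommRing R] [Algebra Λ R]
    (resR : R →ₐ[Λ] k) (hd : Subsingleton (HomSet R resR (dual Λ k))) (A : Art Λ k) :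
    Subsingleton (HomSet R resR A) := by
  let φ : hR R resR ⟶ ptFun (Λ := Λ) (k := k) :=
    { app := fun A => ↾fun _ => PUnit.unit
      naturality := fun A B f => rfl }
  have := injective_app_of_tangent_injective (h0_hR resR) (rs_hR resR) rs_ptFun φ
    (fun x y _ => hd.elim x y) A
  exact ⟨fun x y => this (Subsingleton.elim (α := PUnit.{u+1}) _ _)⟩

end Point

section OnePoint

variable {k' : Type u} [Field k']

theorem onePoint_of_hull (F : Art k' k' ⥤ Type v) (h0 : H0 F) (hF : HasHull F)
    (ht : Subsingleton (TangentSpace F)) (A : Art k' k') :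
    Nonempty (F.obj A) ∧ Subsingleton (F.obj A) := by
  obtain ⟨⟨R, ξ, hξ⟩⟩ := hF
  have hsurj := surjective_app_of_isVersal h0 ξ hξ.1
  have hd : Subsingleton (HomSet R.carrier R.res (dual k' k')) :=
    ⟨fun x y => hξ.2.1 (ht.elim _ _)⟩
  have hA := subsingleton_homSet_of_dual R.res hd A
  constructor
  · obtain ⟨x⟩ := h0.1
    exact ⟨F.map (Art.homMk (Algebra.ofId k' A) (by
      apply AlgHom.ext
      intro c
      change A.res (algebraMap k' A c) = c
      rw [AlgHom.commutes]
      rfl)) x⟩
  · constructor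
    intro x y
    obtain ⟨a, rfl⟩ := hsurj A x
    obtain ⟨b, rfl⟩ := hsurj A y
    rw [hA.elim a b]

end OnePoint

section FormalBij

variable {F : Art Λ k ⥤ Type v} (R : CRing Λ k)

theorem exists_pow_succ_eq_bot (A : Art Λ k) : ∃ n, IsLocalRing.maximalIdeal A ^ (n + 1) = ⊥ := by
  obtain ⟨n, hn⟩ := exists_pow_maximalIdeal_eq_bot A
  refine ⟨n, ?_⟩
  rw [pow_succ, hn, Ideal.bot_mul]

/-- the value at a point computed through the `n`-th truncation -/
noncomputable def FormalElt.val (η : FormalElt F R) {A : Art Λ k} (n : ℕ)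
    (hn : IsLocalRing.maximalIdeal A ^ (n + 1) = ⊥) (a : HomSet R.carrier R.res A) : F.obj A :=
  F.map (factorTrunc R hn a) (η.elt n)

theorem FormalElt.val_succ (η : FormalElt F R) {A : Art Λ k} (n : ℕ)
    (hn : IsLocalRing.maximalIdeal A ^ (n + 1) = ⊥)
    (hn' : IsLocalRing.maximalIdeal A ^ (n + 1 + 1) = ⊥) (a : HomSet R.carrier R.res A) :
    FormalElt.val R η (n + 1) hn' a = FormalElt.val R η n hn a := by
  unfold FormalElt.val
  have h1 : factorTrunc R hn' a = R.truncMap n ≫ factorTrunc R hn a := by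
    apply truncHom_cancel R
    rw [map_factorTrunc, homSet_map_comp, CRing.truncMap_truncHom, map_factorTrunc]
  rw [h1, map_comp_app, η.compat]

theorem FormalElt.val_le (η : FormalElt F R) {A : Art Λ k} (n n' : ℕ) (hnn' : n ≤ n')
    (hn : IsLocalRing.maximalIdeal A ^ (n + 1) = ⊥)
    (hn' : IsLocalRing.maximalIdeal A ^ (n' + 1) = ⊥) (a : HomSet R.carrier R.res A) :
    FormalElt.val R η n' hn' a = FormalElt.val R η n hn a := by
  induction n', hnn' using Nat.le_induction with
  | base => rfl
  | succ m hm ih =>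
    have hm' : IsLocalRing.maximalIdeal A ^ (m + 1) = ⊥ := by
      rw [← le_bot_iff, ← hn]
      exact Ideal.pow_le_pow_right (Nat.succ_le_succ hm)
    rw [FormalElt.val_succ R η m hm' hn' a, ih hm']

theorem FormalElt.val_indep (η : FormalElt F R) {A : Art Λ k} (n n' : ℕ)
    (hn : IsLocalRing.maximalIdeal A ^ (n + 1) = ⊥)
    (hn' : IsLocalRing.maximalIdeal A ^ (n' + 1) = ⊥) (a : HomSet R.carrier R.res A) :
    FormalElt.val R η n' hn' a = FormalElt.val R η n hn a := by
  have hN : IsLocalRing.maximalIdeal A ^ (max n n' + 1) = ⊥ := by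
    rw [← le_bot_iff, ← hn]
    exact Ideal.pow_le_pow_right (Nat.succ_le_succ (le_max_left _ _))
  rw [← FormalElt.val_le R η n' (max n n') (le_max_right _ _) hn' hN a,
    ← FormalElt.val_le R η n (max n n') (le_max_left _ _) hn hN a]

theorem FormalElt.val_map (η : FormalElt F R) {A B : Art Λ k} (f : A ⟶ B) (n : ℕ)
    (hnA : IsLocalRing.maximalIdeal A ^ (n + 1) = ⊥)
    (hnB : IsLocalRing.maximalIdeal B ^ (n + 1) = ⊥) (a : HomSet R.carrier R.res A) :
    FormalElt.val R η n hnB (HomSet.map f a) = F.map f (FormalElt.val R η n hnA a) := by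
  unfold FormalElt.val
  have h1 : factorTrunc R hnB (HomSet.map f a) = factorTrunc R hnA a ≫ f := by
    apply truncHom_cancel R
    rw [map_factorTrunc, homSet_map_comp, map_factorTrunc]
  rw [h1, map_comp_app]

/-- the family attached to a formal element -/
noncomputable def FormalElt.toFamily (η : FormalElt F R) : Family R.carrier R.res F where
  app A a := FormalElt.val R η (Classical.choose (exists_pow_succ_eq_bot A))
    (Classical.choose_spec (exists_pow_succ_eq_bot A)) a
  natural := by
    intro A B f a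
    set nA := Classical.choose (exists_pow_succ_eq_bot A) with hnA
    set nB := Classical.choose (exists_pow_succ_eq_bot B) with hnB
    have hA := Classical.choose_spec (exists_pow_succ_eq_bot A)
    have hB := Classical.choose_spec (exists_pow_succ_eq_bot B)
    have hNA : IsLocalRing.maximalIdeal A ^ (max nA nB + 1) = ⊥ := by
      rw [← le_bot_iff, ← hA]
      exact Ideal.pow_le_pow_right (Nat.succ_le_succ (le_max_left _ _))
    have hNB : IsLocalRing.maximalIdeal B ^ (max nA nB + 1) = ⊥ := by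
      rw [← le_bot_iff, ← hB]
      exact Ideal.pow_le_pow_right (Nat.succ_le_succ (le_max_right _ _))
    rw [FormalElt.val_indep R η (max nA nB) nB hNB hB, FormalElt.val_indep R η (max nA nB) nA hNA hA,
      FormalElt.val_map R η f (max nA nB) hNA hNB]

theorem FormalElt.toFamily_toFormalElt (η : FormalElt F R) :
    (FormalElt.toFamily R η).toFormalElt = η := by
  apply FormalElt.ext'
  intro n
  change FormalElt.val R η _ _ (R.truncHom n) = η.elt n
  rw [FormalElt.val_indep R η n _ (trunc_pow_eq_bot R n)]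
  unfold FormalElt.val
  have h1 : factorTrunc R (trunc_pow_eq_bot R n) (R.truncHom n) = 𝟙 _ := by
    apply truncHom_cancel R
    rw [map_factorTrunc, homSet_map_id]
  rw [h1, map_id_app]

theorem family_ext_of_toFormalElt {ξ ξ' : Family R.carrier R.res F}
    (h : ξ.toFormalElt = ξ'.toFormalElt) : ξ = ξ' := by
  have happ : ∀ A a, ξ.app A a = ξ'.app A a := by
    intro A a
    obtain ⟨n, p, h1, hp⟩ := family_app_eq_of_formalElt R ξ A a
    rw [h1, h, ← hp, ξ'.natural]
    rfl
  cases ξ with
  | mk app nat =>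
    cases ξ' with
    | mk app' nat' =>
      have : app = app' := funext fun A => funext fun a => happ A a
      subst this
      rfl

theorem toFormalElt_bijective :
    Function.Bijective (fun ξ : Family R.carrier R.res F => ξ.toFormalElt) :=
  ⟨fun _ _ h => family_ext_of_toFormalElt R h,
    fun η => ⟨FormalElt.toFamily R η, FormalElt.toFamily_toFormalElt R η⟩⟩

end FormalBij

section ProRepUnique

variable {F : Art Λ k ⥤ Type v}

theorem h0_of_isUniversal {R : Type u} [CommRing R] [Algebra Λ R] {resR : R →ₐ[Λ] k}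
    (ξ : Family R resR F) (hξ : IsUniversal ξ) : H0 F := by
  refine ⟨⟨ξ.app _ hRBasePt⟩, ⟨fun x y => ?_⟩⟩
  obtain ⟨a, rfl⟩ := (hξ _).2 x
  obtain ⟨b, rfl⟩ := (hξ _).2 y
  rw [(subsingleton_hR_base (R := R) (resR := resR)).elim a b]

theorem isVersal_of_isUniversal {R : Type u} [CommRing R] [Algebra Λ R] {resR : R →ₐ[Λ] k}
    (ξ : Family R resR F) (hξ : IsUniversal ξ) : IsVersal ξ := by
  intro B A μ hμ φ y hy
  obtain ⟨ψ, rfl⟩ := (hξ B).2 y
  refine ⟨ψ, ?_, rfl⟩
  apply (hξ A).1
  rw [ξ.natural, hy]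

theorem along_along {R S T : Type u} [CommRing R] [Algebra Λ R] {resR : R →ₐ[Λ] k}
    [CommRing S] [Algebra Λ S] {resS : S →ₐ[Λ] k} [CommRing T] [Algebra Λ T] {resT : T →ₐ[Λ] k}
    (ξ : Family R resR F) (g : R →ₐ[Λ] S) (hg : resS.comp g = resR) (g' : S →ₐ[Λ] T)
    (hg' : resT.comp g' = resS) :
    (ξ.along g hg).along g' hg' = ξ.along (g'.comp g)
      (by rw [← AlgHom.comp_assoc, hg', hg]) := rfl

theorem along_id {R : Type u} [CommRing R] [Algebra Λ R] {resR : R →ₐ[Λ] k}
    (ξ : Family R resR F) : ξ.along (AlgHom.id Λ R) (AlgHom.comp_id _) = ξ := rfl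

theorem prorep_unique (P Q : ProRep F) :
    ∃! e : P.ring.carrier ≃ₐ[Λ] Q.ring.carrier,
      ∃ he : Q.ring.res.comp e.toAlgHom = P.ring.res, P.family.along e.toAlgHom he = Q.family := by
  have h0 : H0 F := h0_of_isUniversal P.family P.universal
  obtain ⟨g, hg, hgη⟩ := formalElt_induced h0 P.ring P.family
    (isVersal_of_isUniversal _ P.universal) Q.ring Q.family.toFormalElt
  obtain ⟨g', hg', hgη'⟩ := formalElt_induced h0 Q.ring Q.family
    (isVersal_of_isUniversal _ Q.universal) P.ring P.family.toFormalElt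
  have e1 : P.family.along g hg = Q.family := family_ext_of_toFormalElt Q.ring hgη
  have e2 : Q.family.along g' hg' = P.family := family_ext_of_toFormalElt P.ring hgη'
  have hc1 : g'.comp g = AlgHom.id Λ _ := by
    apply eq_of_isUniversal P.ring P.family P.universal P.ring (g'.comp g) (AlgHom.id Λ _)
      (by rw [← AlgHom.comp_assoc, hg', hg]) (AlgHom.comp_id _)
    rw [← along_along P.family g hg g' hg', e1, e2, along_id]
  have hc2 : g.comp g' = AlgHom.id Λ _ := by
    apply eq_of_isUniversal Q.ring Q.family Q.universal Q.ring (g.comp g') (AlgHom.id Λ _)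
      (by rw [← AlgHom.comp_assoc, hg, hg']) (AlgHom.comp_id _)
    rw [← along_along Q.family g' hg' g hg, e2, e1, along_id]
  refine ⟨AlgEquiv.ofAlgHom g g' hc2 hc1, ⟨hg, e1⟩, ?_⟩
  rintro e ⟨he, hee⟩
  apply AlgEquiv.coe_toAlgHom_injective
  change e.toAlgHom = g
  apply eq_of_isUniversal P.ring P.family P.universal Q.ring e.toAlgHom g he hg
  rw [hee, e1]

end ProRepUnique

end Groth.Agent.Helper3.ArtFunLib
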