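import Mathlib
import Groth.Agent.Lib.Helper3.ArtFunN

set_option linter.style.haveILetI false

universe u v w

open CategoryTheory

namespace Groth.Agent.Helper3.ArtFunLib

open ArtFun ArtFun.Art

variable {Λ : Type u} {k : Type u} [CommRing Λ] [Field k] [Algebra Λ k]

section QuotAPI

variable {B A : Art Λ k}

/-- the transition `B/J ⟶ B/J'` for `J ≤ J'` -/
noncomputable def quotTrans (B : Art Λ k) {J J' : Ideal B} (hJ : J ≤ IsLocalRing.maximalIdeal B)
    (hJ' : J' ≤ IsLocalRing.maximalIdeal B) (hle : J ≤ J') : quot B J hJ ⟶ quot B J' hJ' :=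
  quotFactor hJ (quotMk B J' hJ') (fun x hx => by
    rw [RingHom.mem_ker]
    exact Ideal.Quotient.eq_zero_iff_mem.2 (hle hx))

theorem quotTrans_mk (B : Art Λ k) {J J' : Ideal B} (hJ : J ≤ IsLocalRing.maximalIdeal B)
    (hJ' : J' ≤ IsLocalRing.maximalIdeal B) (hle : J ≤ J') (b : B) :
    quotTrans B hJ hJ' hle (Ideal.Quotient.mk J b) = Ideal.Quotient.mk J' b := rfl

theorem quotFactor_mk {J : Ideal B} (hJ : J ≤ IsLocalRing.maximalIdeal B) (p : B ⟶ A)
    (hp : J ≤ RingHom.ker p.toAlgHom) (b : B) :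
    quotFactor hJ p hp (Ideal.Quotient.mk J b) = p b := rfl

theorem quotTrans_quotFactor {J J' : Ideal B} (hJ : J ≤ IsLocalRing.maximalIdeal B)
    (hJ' : J' ≤ IsLocalRing.maximalIdeal B) (hle : J ≤ J') (p : B ⟶ A)
    (hp' : J' ≤ RingHom.ker p.toAlgHom) :
    quotTrans B hJ hJ' hle ≫ quotFactor hJ' p hp' = quotFactor hJ p (hle.trans hp') := by
  apply Art.hom_ext
  apply AlgHom.ext
  intro x
  obtain ⟨b, rfl⟩ := Ideal.Quotient.mk_surjective x
  rfl

theorem quot_hom_cancel {J : Ideal B} (hJ : J ≤ IsLocalRing.maximalIdeal B)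
    {f g : quot B J hJ ⟶ A} (h : quotMk B J hJ ≫ f = quotMk B J hJ ≫ g) : f = g := by
  apply Art.hom_ext
  apply AlgHom.ext
  intro x
  obtain ⟨b, rfl⟩ := Ideal.Quotient.mk_surjective x
  have := congrArg (fun t : B ⟶ A => t b) h
  exact this

theorem quotFactor_bijective_of_ker_eq {J : Ideal B} (hJ : J ≤ IsLocalRing.maximalIdeal B)
    (p : B ⟶ A) (hp : Function.Surjective p) (hker : J = RingHom.ker p.toAlgHom) :
    Function.Bijective (quotFactor hJ p (le_of_eq hker)) := by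
  constructor
  · rw [injective_iff_map_eq_zero]
    intro x hx
    obtain ⟨b, rfl⟩ := Ideal.Quotient.mk_surjective x
    refine (Ideal.Quotient.eq_zero_iff_mem (I := J)).2 ?_
    rw [hker, RingHom.mem_ker]
    exact hx
  · intro a
    obtain ⟨b, rfl⟩ := hp a
    exact ⟨Ideal.Quotient.mk J b, rfl⟩

end QuotAPI

section Least

variable [IsNoetherianRing Λ] [Module.Finite Λ k] {F : Art Λ k ⥤ Type v} {B A : Art Λ k}

/-- the set of ideals along which `x` lifts -/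
def LiftSet (F : Art Λ k ⥤ Type v) (p : B ⟶ A) (x : F.obj A) : Set (Ideal B) :=
  {J | ∃ (hJ : J ≤ RingHom.ker p.toAlgHom) (hJ' : J ≤ IsLocalRing.maximalIdeal B),
    ∃ y : F.obj (quot B J hJ'), F.map (quotFactor hJ' p hJ) y = x}

omit [IsNoetherianRing Λ] [Module.Finite Λ k] in
theorem ker_mem_liftSet (p : B ⟶ A) (hp : Function.Surjective p) (x : F.obj A) :
    RingHom.ker p.toAlgHom ∈ LiftSet F p x := by
  have hb := quotFactor_bijective_of_ker_eq (ker_le_maximalIdeal p) p hp rfl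
  haveI := isIso_of_bijective _ hb
  exact ⟨le_rfl, ker_le_maximalIdeal p, F.map (inv (quotFactor (ker_le_maximalIdeal p) p le_rfl)) x,
    map_inv_map F _ x⟩

omit [IsNoetherianRing Λ] [Module.Finite Λ k] in
theorem liftSet_mono (p : B ⟶ A) (x : F.obj A) {J J' : Ideal B} (hJ : J ∈ LiftSet F p x)
    (hle : J ≤ J') (hJ' : J' ≤ RingHom.ker p.toAlgHom) : J' ∈ LiftSet F p x := by
  obtain ⟨h1, h2, y, hy⟩ := hJ
  have h2' : J' ≤ IsLocalRing.maximalIdeal B := hJ'.trans (ker_le_maximalIdeal p)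
  refine ⟨hJ', h2', F.map (quotTrans B h2 h2' hle) y, ?_⟩
  rw [← map_comp_app, quotTrans_quotFactor, hy]

omit [IsNoetherianRing Λ] [Module.Finite Λ k] in
/-- `B/(J₁ ⊓ J₂)` is the fibre product of `B/J₁` and `B/J₂` over `A` when `J₁ ⊔ J₂ = ker p` -/
theorem isFibreProd_quot_inf (p : B ⟶ A) {J₁ J₂ : Ideal B}
    (h1 : J₁ ≤ RingHom.ker p.toAlgHom) (h2 : J₂ ≤ RingHom.ker p.toAlgHom)
    (hsup : J₁ ⊔ J₂ = RingHom.ker p.toAlgHom) :
    IsFibreProd
      (quotTrans B ((inf_le_left.trans h1).trans (ker_le_maximalIdeal p))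
        (h1.trans (ker_le_maximalIdeal p)) (inf_le_left : J₁ ⊓ J₂ ≤ J₁))
      (quotTrans B ((inf_le_left.trans h1).trans (ker_le_maximalIdeal p))
        (h2.trans (ker_le_maximalIdeal p)) (inf_le_right : J₁ ⊓ J₂ ≤ J₂))
      (quotFactor (h1.trans (ker_le_maximalIdeal p)) p h1)
      (quotFactor (h2.trans (ker_le_maximalIdeal p)) p h2) where
  w := by rw [quotTrans_quotFactor, quotTrans_quotFactor]
  inj b₁ b₂ e₁ e₂ := by
    obtain ⟨c₁, rfl⟩ := Ideal.Quotient.mk_surjective b₁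
    obtain ⟨c₂, rfl⟩ := Ideal.Quotient.mk_surjective b₂
    rw [quotTrans_mk, quotTrans_mk] at e₁ e₂
    have e₁' : c₁ - c₂ ∈ J₁ := (Ideal.Quotient.eq (I := J₁)).1 e₁
    have e₂' : c₁ - c₂ ∈ J₂ := (Ideal.Quotient.eq (I := J₂)).1 e₂
    exact (Ideal.Quotient.eq (I := J₁ ⊓ J₂)).2 ⟨e₁', e₂'⟩
  surj a' a'' h := by
    obtain ⟨c₁, rfl⟩ := Ideal.Quotient.mk_surjective a'
    obtain ⟨c₂, rfl⟩ := Ideal.Quotient.mk_surjective a''
    rw [quotFactor_mk, quotFactor_mk] at h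
    have hk : c₁ - c₂ ∈ RingHom.ker p.toAlgHom := by
      rw [RingHom.mem_ker, map_sub, sub_eq_zero]; exact h
    rw [← hsup] at hk
    obtain ⟨j₁, hj₁, j₂, hj₂, hj⟩ := Submodule.mem_sup.1 hk
    refine ⟨Ideal.Quotient.mk _ (c₁ - j₁), ?_, ?_⟩
    · rw [quotTrans_mk]
      refine (Ideal.Quotient.eq (I := J₁)).2 ?_
      have : c₁ - j₁ - c₁ = -j₁ := by ring
      rw [this]; exact neg_mem hj₁
    · rw [quotTrans_mk]
      refine (Ideal.Quotient.eq (I := J₂)).2 ?_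
      have : c₁ - j₁ - c₂ = j₂ := by
        have : c₁ - c₂ - j₁ = j₂ := by rw [← hj]; ring
        rw [← this]; ring
      rw [this]; exact hj₂

omit [IsNoetherianRing Λ] [Module.Finite Λ k] in
theorem liftSet_inf (h1 : S1 F) (p : B ⟶ A) (hp : IsSemismallExt p) (x : F.obj A)
    {J₁ J₂ : Ideal B} (hJ₁ : J₁ ∈ LiftSet F p x) (hJ₂ : J₂ ∈ LiftSet F p x) :
    J₁ ⊓ J₂ ∈ LiftSet F p x := by
  classical
  haveI : IsNoetherianRing B := inferInstance
  set K := RingHom.ker p.toAlgHom with hK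
  -- maximal enlargement of J₂
  let 𝒮 : Set (Ideal B) := {J'' | J₂ ≤ J'' ∧ J'' ≤ K ∧ J₁ ⊓ J'' = J₁ ⊓ J₂}
  have hne : 𝒮.Nonempty := ⟨J₂, le_rfl, hJ₂.1, rfl⟩
  obtain ⟨J₂', hJ₂'𝒮, hmax⟩ :=
    (IsWellFounded.wf (r := ((· > ·) : Ideal B → Ideal B → Prop))).has_min 𝒮 hne
  obtain ⟨hle, hJ₂'K, hinf⟩ := hJ₂'𝒮
  have hsup : J₁ ⊔ J₂' = K := by
    apply le_antisymm (sup_le hJ₁.1 hJ₂'K)
    intro x₀ hx₀
    by_contra hx₀n
    let J'' := J₂' ⊔ Ideal.span {x₀}
    have hJ''mem : J'' ∈ 𝒮 := by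
      refine ⟨hle.trans le_sup_left, sup_le hJ₂'K
        ((Ideal.span_singleton_le_iff_mem _).2 hx₀), ?_⟩
      apply le_antisymm
      · rw [← hinf]
        intro y hy
        obtain ⟨hy1, hy2⟩ := hy
        refine ⟨hy1, ?_⟩
        obtain ⟨j, hj, z, hz, hjz⟩ := Submodule.mem_sup.1 hy2
        obtain ⟨b, rfl⟩ := Ideal.mem_span_singleton'.1 hz
        by_cases hb : b ∈ IsLocalRing.maximalIdeal B
        · have : b * x₀ ∈ IsLocalRing.maximalIdeal B * K := Ideal.mul_mem_mul hb hx₀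
          rw [hp.2, Ideal.mem_bot] at this
          rw [this, add_zero] at hjz
          rw [← hjz]; exact hj
        · exfalso
          apply hx₀n
          have hbu : IsUnit b := by
            by_contra hnu
            exact hb ((IsLocalRing.mem_maximalIdeal _).2 hnu)
          obtain ⟨u, rfl⟩ := hbu
          have hx₀eq : x₀ = ↑u⁻¹ * (y - j) := by
            rw [← hjz, add_sub_cancel_left, ← mul_assoc, Units.inv_mul, one_mul]
          rw [hx₀eq]
          apply Ideal.mul_mem_left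
          exact Ideal.sub_mem _ (le_sup_left (a := J₁) hy1) (le_sup_right (a := J₁) hj)
      · exact inf_le_inf_left _ (hle.trans le_sup_left)
    have hlt : J₂' < J'' := by
      refine lt_of_le_of_ne le_sup_left (fun h => hx₀n ?_)
      have : x₀ ∈ J'' := le_sup_right (a := J₂') (Ideal.subset_span rfl)
      rw [← h] at this
      exact le_sup_right (a := J₁) this
    exact hmax J'' hJ''mem hlt
  have hJ₂'mem : J₂' ∈ LiftSet F p x := liftSet_mono p x hJ₂ hle hJ₂'K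
  obtain ⟨a1, a2, y₁, hy₁⟩ := hJ₁
  obtain ⟨b1, b2, y₂, hy₂⟩ := hJ₂'mem
  have hfp := isFibreProd_quot_inf p a1 b1 hsup
  obtain ⟨z, hz⟩ := h1 _ _ _ _ hfp (by
    intro a
    obtain ⟨b, rfl⟩ := hp.1 a
    exact ⟨Ideal.Quotient.mk _ b, rfl⟩) ⟨(y₁, y₂), hy₁.trans hy₂.symm⟩
  have hz1 : F.map _ z = y₁ := congrArg (fun t => t.1.1) hz
  rw [← hinf]
  refine ⟨inf_le_left.trans a1, (inf_le_left.trans a1).trans (ker_le_maximalIdeal p), z, ?_⟩
  rw [← hy₁, ← hz1, ← map_comp_app, quotTrans_quotFactor]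

omit [IsNoetherianRing Λ] [Module.Finite Λ k] in
/-- the least ideal along which `x` lifts -/
theorem exists_least_liftSet (h1 : S1 F) (p : B ⟶ A) (hp : IsSemismallExt p) (x : F.obj A) :
    ∃ J₀ ∈ LiftSet F p x, ∀ J ∈ LiftSet F p x, J₀ ≤ J := by
  have hne : (LiftSet F p x).Nonempty := ⟨_, ker_mem_liftSet p hp.1 x⟩
  obtain ⟨J₀, hJ₀, hmin⟩ :=
    (IsWellFounded.wf (r := ((· < ·) : Ideal B → Ideal B → Prop))).has_min _ hne
  refine ⟨J₀, hJ₀, fun J hJ => ?_⟩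
  have hinf := liftSet_inf h1 p hp x hJ₀ hJ
  by_contra hle
  apply hmin (J₀ ⊓ J) hinf
  refine lt_of_le_of_ne inf_le_left (fun h => hle ?_)
  rw [← h]; exact inf_le_right

end Least

end Groth.Agent.Helper3.ArtFunLib
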