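import Mathlib
import Groth.Agent.Lib.Helper3.SchlC

set_option linter.style.haveILetI false

universe u v w

open CategoryTheory

namespace Groth.Agent.Helper3.ArtFunLib

open ArtFun ArtFun.Art

section Precomplete

variable {R : Type*} [CommRing R] (I : Ideal R) {M N : Type*} [AddCommGroup M] [Module R M]
  [AddCommGroup N] [Module R N]

theorem map_pow_smul_top (f : M →ₗ[R] N) (hf : Function.Surjective f) (n : ℕ) :
    Submodule.map f (I ^ n • (⊤ : Submodule R M)) = I ^ n • (⊤ : Submodule R N) := by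
  rw [Submodule.map_smul'', Submodule.map_top, LinearMap.range_eq_top.2 hf]

theorem isPrecomplete_of_surjective (f : M →ₗ[R] N) (hf : Function.Surjective f)
    [IsPrecomplete I M] : IsPrecomplete I N := by
  refine ⟨fun y hy => ?_⟩
  have hstep : ∀ n (x : M), f x = y n →
      ∃ x' : M, f x' = y (n + 1) ∧ x' - x ∈ (I ^ n • ⊤ : Submodule R M) := by
    intro n x hx
    have h1 : y (n + 1) - y n ∈ (I ^ n • ⊤ : Submodule R N) :=
      SModEq.sub_mem.1 (hy (Nat.le_succ n)).symm
    rw [← map_pow_smul_top I f hf n] at h1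
    obtain ⟨z, hz, hfz⟩ := h1
    refine ⟨x + z, ?_, ?_⟩
    · rw [map_add, hx, hfz]; abel
    · rwa [add_sub_cancel_left]
  obtain ⟨x0, hx0⟩ := hf (y 0)
  let seq : ∀ n, {x : M // f x = y n} := fun n =>
    Nat.rec ⟨x0, hx0⟩ (fun n x => ⟨Classical.choose (hstep n x.1 x.2),
      (Classical.choose_spec (hstep n x.1 x.2)).1⟩) n
  have hseq : ∀ n, (seq (n + 1)).1 - (seq n).1 ∈ (I ^ n • ⊤ : Submodule R M) := fun n =>
    (Classical.choose_spec (hstep n (seq n).1 (seq n).2)).2
  have hcauchy : ∀ {m n}, m ≤ n → (seq m).1 ≡ (seq n).1 [SMOD (I ^ m • ⊤ : Submodule R M)] := by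
    intro m n hmn
    induction n, hmn using Nat.le_induction with
    | base => exact SModEq.refl _
    | succ n hmn ih =>
      refine ih.trans ?_
      rw [SModEq.sub_mem]
      have h2 : (I ^ n • ⊤ : Submodule R M) ≤ I ^ m • ⊤ :=
        Submodule.smul_mono_left (Ideal.pow_le_pow_right hmn)
      have h3 := h2 (hseq n)
      have : (seq n).1 - (seq (n + 1)).1 = -((seq (n + 1)).1 - (seq n).1) := by abel
      rw [this]
      exact Submodule.neg_mem _ h3
  obtain ⟨L, hL⟩ := IsPrecomplete.prec ‹IsPrecomplete I M› hcauchy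
  refine ⟨f L, fun n => ?_⟩
  rw [SModEq.sub_mem, ← (seq n).2, ← map_sub, ← map_pow_smul_top I f hf n]
  exact ⟨_, SModEq.sub_mem.1 (hL n), rfl⟩

end Precomplete

variable {Λ : Type u} {k : Type u} [CommRing Λ] [Field k] [Algebra Λ k]

section QuotCRing

variable (P : CRing Λ k) (J : Ideal P.carrier) (hJ : J ≤ IsLocalRing.maximalIdeal P.carrier)

include hJ in
theorem cring_quot_ne_top : J ≠ ⊤ :=
  fun h => (IsLocalRing.maximalIdeal.isMaximal P.carrier).ne_top (top_le_iff.1 (h ▸ hJ))

/-- the augmentation of a quotient -/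
noncomputable def quotRes : (P.carrier ⧸ J) →ₐ[Λ] k :=
  Ideal.Quotient.liftₐ J P.res (fun a ha => (CRing.mem_maximalIdeal_iff P a).1 (hJ ha))

theorem quotRes_mk (a : P.carrier) : quotRes P J hJ (Ideal.Quotient.mk J a) = P.res a := rfl

theorem quotRes_surjective : Function.Surjective (quotRes P J hJ) := fun c => by
  obtain ⟨a, ha⟩ := P.res_surjective c
  exact ⟨Ideal.Quotient.mk J a, ha⟩

include hJ in
theorem isLocalRing_cring_quot : IsLocalRing (P.carrier ⧸ J) :=
  haveI : Nontrivial (P.carrier ⧸ J) := Ideal.Quotient.nontrivial_iff.2 (cring_quot_ne_top P J hJ)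
  IsLocalRing.of_surjective' (Ideal.Quotient.mk J) Ideal.Quotient.mk_surjective

theorem maximalIdeal_cring_quot :
    haveI := isLocalRing_cring_quot P J hJ
    IsLocalRing.maximalIdeal (P.carrier ⧸ J) =
      (IsLocalRing.maximalIdeal P.carrier).map (algebraMap P.carrier (P.carrier ⧸ J)) := by
  haveI := isLocalRing_cring_quot P J hJ
  have hker := ker_eq_maximalIdeal (S := P.carrier ⧸ J) (k := k)
    (quotRes P J hJ : (P.carrier ⧸ J) →+* k) (quotRes_surjective P J hJ)
  rw [← hker]
  ext x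
  obtain ⟨a, rfl⟩ := Ideal.Quotient.mk_surjective x
  rw [RingHom.mem_ker]
  constructor
  · intro h
    have ha : a ∈ IsLocalRing.maximalIdeal P.carrier :=
      (CRing.mem_maximalIdeal_iff P a).2 h
    exact Ideal.mem_map_of_mem _ ha
  · intro h
    obtain ⟨b, hb, hbe⟩ := (Ideal.mem_map_iff_of_surjective _
      (Ideal.Quotient.mk_surjective (I := J))).1 h
    have : quotRes P J hJ (Ideal.Quotient.mk J a) = quotRes P J hJ (Ideal.Quotient.mk J b) := by
      rw [← hbe]
    change quotRes P J hJ (Ideal.Quotient.mk J a) = 0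
    rw [this, quotRes_mk]
    exact (CRing.mem_maximalIdeal_iff P b).1 hb

theorem isAdicComplete_cring_quot :
    haveI := isLocalRing_cring_quot P J hJ
    IsAdicComplete (IsLocalRing.maximalIdeal (P.carrier ⧸ J)) (P.carrier ⧸ J) := by
  haveI := isLocalRing_cring_quot P J hJ
  rw [maximalIdeal_cring_quot P J hJ, IsAdicComplete.map_algebraMap_iff]
  haveI := P.isAdicComplete
  haveI : IsPrecomplete (IsLocalRing.maximalIdeal P.carrier) (P.carrier ⧸ J) :=
    isPrecomplete_of_surjective _ (Submodule.mkQ J) (Submodule.mkQ_surjective J)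
  exact { }

/-- the quotient of a complete local Noetherian ring by a proper ideal -/
noncomputable def quotCRing : CRing Λ k :=
  { carrier := P.carrier ⧸ J
    isLocalRing := isLocalRing_cring_quot P J hJ
    res := quotRes P J hJ
    res_surjective := quotRes_surjective P J hJ
    isAdicComplete := isAdicComplete_cring_quot P J hJ }

/-- the quotient map -/
noncomputable def quotCRingHom : P.carrier →ₐ[Λ] (quotCRing P J hJ).carrier :=
  Ideal.Quotient.mkₐ Λ J

theorem quotCRingHom_res : (quotCRing P J hJ).res.comp (quotCRingHom P J hJ) = P.res :=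
  AlgHom.ext fun _ => rfl

theorem quotCRingHom_surjective : Function.Surjective (quotCRingHom P J hJ) :=
  Ideal.Quotient.mk_surjective

theorem ker_quotCRingHom : RingHom.ker (quotCRingHom P J hJ) = J := Ideal.mk_ker

end QuotCRing

section QuoArt

variable (P : CRing Λ k)

/-- admissible ideals: inside the maximal ideal and containing a power of it -/
def Adm (𝔞 : Ideal P.carrier) : Prop :=
  𝔞 ≤ IsLocalRing.maximalIdeal P.carrier ∧ ∃ N : ℕ, IsLocalRing.maximalIdeal P.carrier ^ N ≤ 𝔞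

variable {P}

theorem isArtinianRing_quot_of_adm {𝔞 : Ideal P.carrier} (h : Adm P 𝔞) :
    IsArtinianRing (P.carrier ⧸ 𝔞) := by
  obtain ⟨N, hN⟩ := h.2
  have hle : CRing.mpow P N ≤ 𝔞 := (Ideal.pow_le_pow_right (Nat.le_succ N)).trans hN
  haveI := CRing.isArtinianRing_quot_mpow P N
  exact (Ideal.Quotient.factor_surjective hle).isArtinianRing

/-- the Artinian quotient by an admissible ideal -/
noncomputable def quoArt (𝔞 : Ideal P.carrier) (h : Adm P 𝔞) : Art Λ k :=
  { carrier := P.carrier ⧸ 𝔞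
    isLocalRing := isLocalRing_cring_quot P 𝔞 h.1
    isArtinianRing := isArtinianRing_quot_of_adm h
    res := quotRes P 𝔞 h.1
    res_surjective := quotRes_surjective P 𝔞 h.1 }

/-- the quotient point -/
noncomputable def quoPt (𝔞 : Ideal P.carrier) (h : Adm P 𝔞) :
    HomSet P.carrier P.res (quoArt 𝔞 h) :=
  ⟨Ideal.Quotient.mkₐ Λ 𝔞, AlgHom.ext fun _ => rfl⟩

theorem quoPt_surjective (𝔞 : Ideal P.carrier) (h : Adm P 𝔞) :
    Function.Surjective (quoPt 𝔞 h).1 := Ideal.Quotient.mk_surjective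

theorem ker_quoPt (𝔞 : Ideal P.carrier) (h : Adm P 𝔞) :
    RingHom.ker (quoPt 𝔞 h).1 = 𝔞 := Ideal.mk_ker

/-- the kernel of a point is admissible -/
theorem adm_ker {A : Art Λ k} (a : HomSet P.carrier P.res A) : Adm P (RingHom.ker a.1) := by
  constructor
  · intro x hx
    rw [CRing.mem_maximalIdeal_iff]
    have h1 := congrArg (fun g : P.carrier →ₐ[Λ] k => g x) a.2
    change A.res (a.1 x) = P.res x at h1
    rw [← h1, (RingHom.mem_ker.1 hx : a.1 x = 0), map_zero]
  · obtain ⟨n, hn⟩ := exists_pow_succ_eq_bot A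
    exact ⟨n + 1, fun x hx => RingHom.mem_ker.2 (homSet_apply_eq_zero P hn a x hx)⟩

theorem adm_mono {𝔞 𝔟 : Ideal P.carrier} (h : Adm P 𝔞) (hle : 𝔞 ≤ 𝔟)
    (h𝔟 : 𝔟 ≤ IsLocalRing.maximalIdeal P.carrier) : Adm P 𝔟 :=
  ⟨h𝔟, h.2.imp fun _ hN => hN.trans hle⟩

theorem adm_mul {𝔞 : Ideal P.carrier} (h : Adm P 𝔞) :
    Adm P (IsLocalRing.maximalIdeal P.carrier * 𝔞) := by
  refine ⟨Ideal.mul_le_right.trans h.1, ?_⟩
  obtain ⟨N, hN⟩ := h.2
  exact ⟨N + 1, by rw [pow_succ']; exact Ideal.mul_mono_right hN⟩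

/-- factorisation through a surjective point -/
theorem exists_factor_of_surjective {A₁ A : Art Λ k} (π : HomSet P.carrier P.res A₁)
    (hπ : Function.Surjective π.1) (b : HomSet P.carrier P.res A)
    (hker : RingHom.ker π.1 ≤ RingHom.ker b.1) :
    ∃ g : A₁ ⟶ A, HomSet.map g π = b := by
  let e := Ideal.quotientKerAlgEquivOfSurjective hπ
  have hb0 : ∀ x ∈ RingHom.ker π.1, b.1 x = 0 := fun x hx => RingHom.mem_ker.1 (hker hx)
  let g₀ : A₁ →ₐ[Λ] A := (Ideal.Quotient.liftₐ (RingHom.ker π.1) b.1 hb0).comp e.symm.toAlgHom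
  have hg₀ : ∀ x, g₀ (π.1 x) = b.1 x := by
    intro x
    change Ideal.Quotient.liftₐ (RingHom.ker π.1) b.1 hb0 (e.symm (π.1 x)) = b.1 x
    have : e.symm (π.1 x) = Ideal.Quotient.mk _ x := by
      rw [AlgEquiv.symm_apply_eq]
      rfl
    rw [this]
    rfl
  refine ⟨⟨g₀, ?_⟩, ?_⟩
  · apply AlgHom.ext
    intro y
    obtain ⟨x, rfl⟩ := hπ y
    change A.res (g₀ (π.1 x)) = A₁.res (π.1 x)
    rw [hg₀]
    have h1 := congrArg (fun g : P.carrier →ₐ[Λ] k => g x) b.2
    have h2 := congrArg (fun g : P.carrier →ₐ[Λ] k => g x) π.2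
    exact h1.trans h2.symm
  · apply Subtype.ext
    apply AlgHom.ext
    intro x
    exact hg₀ x

theorem factor_unique_of_surjective {A₁ A : Art Λ k} (π : HomSet P.carrier P.res A₁)
    (hπ : Function.Surjective π.1) {g g' : A₁ ⟶ A} (h : HomSet.map g π = HomSet.map g' π) :
    g = g' := by
  apply Art.hom_ext
  apply AlgHom.ext
  intro y
  obtain ⟨x, rfl⟩ := hπ y
  exact congrArg (fun t : HomSet P.carrier P.res A => t.1 x) h

/-- the chosen factorisation -/
noncomputable def factorOf {A₁ A : Art Λ k} (π : HomSet P.carrier P.res A₁)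
    (hπ : Function.Surjective π.1) (b : HomSet P.carrier P.res A)
    (hker : RingHom.ker π.1 ≤ RingHom.ker b.1) : A₁ ⟶ A :=
  Classical.choose (exists_factor_of_surjective π hπ b hker)

theorem map_factorOf {A₁ A : Art Λ k} (π : HomSet P.carrier P.res A₁)
    (hπ : Function.Surjective π.1) (b : HomSet P.carrier P.res A)
    (hker : RingHom.ker π.1 ≤ RingHom.ker b.1) :
    HomSet.map (factorOf π hπ b hker) π = b :=
  Classical.choose_spec (exists_factor_of_surjective π hπ b hker)

theorem factorOf_surjective {A₁ A : Art Λ k} (π : HomSet P.carrier P.res A₁)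
    (hπ : Function.Surjective π.1) (b : HomSet P.carrier P.res A)
    (hker : RingHom.ker π.1 ≤ RingHom.ker b.1) (hb : Function.Surjective b.1) :
    Function.Surjective (factorOf π hπ b hker) := by
  intro y
  obtain ⟨x, rfl⟩ := hb y
  refine ⟨π.1 x, ?_⟩
  exact congrArg (fun t : HomSet P.carrier P.res A => t.1 x) (map_factorOf π hπ b hker)

theorem factorOf_bijective {A₁ A : Art Λ k} (π : HomSet P.carrier P.res A₁)
    (hπ : Function.Surjective π.1) (b : HomSet P.carrier P.res A)
    (hker : RingHom.ker π.1 = RingHom.ker b.1) (hb : Function.Surjective b.1) :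
    Function.Bijective (factorOf π hπ b (le_of_eq hker)) := by
  refine ⟨?_, factorOf_surjective π hπ b (le_of_eq hker) hb⟩
  rw [injective_iff_map_eq_zero]
  intro y hy
  obtain ⟨x, rfl⟩ := hπ y
  have h1 : factorOf π hπ b (le_of_eq hker) (π.1 x) = b.1 x :=
    congrArg (fun t : HomSet P.carrier P.res A => t.1 x) (map_factorOf π hπ b (le_of_eq hker))
  rw [h1] at hy
  have : x ∈ RingHom.ker π.1 := by rw [hker]; exact RingHom.mem_ker.2 hy
  exact RingHom.mem_ker.1 this

theorem ker_map_of_factor {A₁ A : Art Λ k} (π : HomSet P.carrier P.res A₁) (g : A₁ ⟶ A) :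
    RingHom.ker π.1 ≤ RingHom.ker (HomSet.map g π).1 := by
  intro x hx
  rw [RingHom.mem_ker] at hx ⊢
  change g (π.1 x) = 0
  rw [hx, map_zero]

end QuoArt

end Groth.Agent.Helper3.ArtFunLib
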