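import Mathlib
import Groth.Agent.Lib.Helper3.SchlB

set_option linter.style.haveILetI false

universe u v w

open CategoryTheory

namespace Groth.Agent.Helper3.ArtFunLib

open ArtFun ArtFun.Art

section PowerSeriesLemmas

open MvPowerSeries

variable {σ : Type*} [Finite σ] {R : Type*} [CommRing R]

/-- the ideal of power series generated by the variables -/
noncomputable def varsIdeal (σ : Type*) (R : Type*) [CommRing R] : Ideal (MvPowerSeries σ R) :=
  Ideal.span (Set.range MvPowerSeries.X)

theorem map_varsIdeal :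
    Ideal.map (toAdicCompletionAlgEquiv σ R).toRingEquiv (varsIdeal σ R) =
      (MvPolynomial.idealOfVars σ R).map (algebraMap (MvPolynomial σ R)
        (AdicCompletion (MvPolynomial.idealOfVars σ R) (MvPolynomial σ R))) := by
  unfold varsIdeal
  simp_rw [Ideal.map_span, ← Set.range_comp]
  congr 2; ext1
  simp [AdicCompletion.algebraMap_apply, ← MvPolynomial.coe_X, toAdicCompletion_coe]

theorem sub_truncTotal_mem (n : ℕ) (f : MvPowerSeries σ R) :
    f - ((truncTotal n f : MvPolynomial σ R) : MvPowerSeries σ R) ∈ varsIdeal σ R ^ n := by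
  set I₀ := MvPolynomial.idealOfVars σ R with hI₀
  set e := toAdicCompletionAlgEquiv σ R with he
  set g := f - ((truncTotal n f : MvPolynomial σ R) : MvPowerSeries σ R) with hg
  have h1 : (e g).val n = 0 := by
    rw [hg, map_sub, he, toAdicCompletionAlgEquiv_apply, toAdicCompletionAlgEquiv_apply,
      toAdicCompletion_coe]
    change (toAdicCompletion σ R f).val n - (AdicCompletion.of I₀ _ _).val n = 0
    rw [toAdicCompletion_apply_eq_mk_truncTotal, AdicCompletion.of_apply, sub_eq_zero]
    rfl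
  have h2 : e g ∈ LinearMap.ker (AdicCompletion.eval I₀ (MvPolynomial σ R) n) := h1
  rw [← AdicCompletion.pow_smul_top_eq_ker_eval (MvPolynomial.idealOfVars_fg σ R),
    Ideal.smul_top_eq_map, Submodule.restrictScalars_mem, Ideal.map_pow, ← map_varsIdeal,
    ← Ideal.map_pow] at h2
  obtain ⟨x, hx, hxe⟩ := (Ideal.mem_map_of_equiv _ _).1 h2
  have : x = g := (toAdicCompletionAlgEquiv σ R).injective hxe
  rw [← this]; exact hx

theorem mem_varsIdeal_of_constantCoeff_eq_zero (f : MvPowerSeries σ R)
    (h : constantCoeff f = 0) : f ∈ varsIdeal σ R := by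
  have h1 := sub_truncTotal_mem 1 f
  have h2 : truncTotal 1 f = 0 := by
    ext d
    rw [coeff_truncTotal_eq_ite]
    split_ifs with hd
    · have : d = 0 := by
        rw [Nat.lt_one_iff] at hd
        exact (Finsupp.degree_eq_zero_iff d).1 hd
      rw [this, MvPolynomial.coeff_zero]
      exact h
    · rw [MvPolynomial.coeff_zero]
  rw [h2, MvPolynomial.coe_zero, sub_zero, pow_one] at h1
  exact h1

end PowerSeriesLemmas

section Free

open MvPowerSeries

variable {Λ : Type u} {k : Type u} [CommRing Λ] [Field k] [Algebra Λ k]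
variable {n : ℕ} (a : Fin n → Λ) (r : ℕ)

/-- the augmentation of the power series ring -/
noncomputable def psRes (σ : Type) : MvPowerSeries σ Λ →ₐ[Λ] k :=
  { (algebraMap Λ k).comp (constantCoeff (σ := σ) (R := Λ)) with
    commutes' := fun c => by
      simp [MvPowerSeries.algebraMap_apply] }

theorem psRes_apply (σ : Type) (f : MvPowerSeries σ Λ) :
    psRes (k := k) σ f = algebraMap Λ k (constantCoeff f) := rfl

/-- the relations `Y_i = a_i` -/
noncomputable def freeRel : Ideal (MvPowerSeries (Fin n ⊕ Fin r) Λ) :=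
  Ideal.span (Set.range fun i : Fin n => X (Sum.inl i) - C (a i))

/-- the free complete ring (as a type) -/
abbrev FreeRing : Type u := MvPowerSeries (Fin n ⊕ Fin r) Λ ⧸ freeRel a r

variable (ha : ∀ i, algebraMap Λ k (a i) = 0)

include ha in
theorem freeRel_le_ker :
    ∀ f ∈ freeRel a r, psRes (k := k) (Fin n ⊕ Fin r) f = 0 := by
  intro f hf
  have : freeRel a r ≤ RingHom.ker (psRes (k := k) (Fin n ⊕ Fin r)) := by
    unfold freeRel
    rw [Ideal.span_le]
    rintro _ ⟨i, rfl⟩
    change psRes (k := k) _ _ = 0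
    rw [psRes_apply, map_sub, constantCoeff_X, constantCoeff_C, zero_sub, map_neg, ha, neg_zero]
  exact this hf

/-- the augmentation of the free ring -/
noncomputable def freeRes : FreeRing a r →ₐ[Λ] k :=
  Ideal.Quotient.liftₐ (freeRel a r) (psRes (Fin n ⊕ Fin r)) (freeRel_le_ker a r ha)

theorem freeRes_mk (f : MvPowerSeries (Fin n ⊕ Fin r) Λ) :
    freeRes a r ha (Ideal.Quotient.mk _ f) = algebraMap Λ k (constantCoeff f) := rfl

/-- the image of the ideal of variables -/
noncomputable def freeVars : Ideal (FreeRing a r) :=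
  (varsIdeal (Fin n ⊕ Fin r) Λ).map (algebraMap (MvPowerSeries (Fin n ⊕ Fin r) Λ) (FreeRing a r))

variable (hspan : Ideal.span (Set.range a) = RingHom.ker (algebraMap Λ k))

include hspan in
theorem C_mem_of_mem_ker (c : Λ) (hc : algebraMap Λ k c = 0) :
    (C c : MvPowerSeries (Fin n ⊕ Fin r) Λ) ∈ varsIdeal (Fin n ⊕ Fin r) Λ ⊔ freeRel a r := by
  have hc' : c ∈ Ideal.span (Set.range a) := by rw [hspan]; exact hc
  have hle : Ideal.span (Set.range a) ≤
      Ideal.comap (C : Λ →+* MvPowerSeries (Fin n ⊕ Fin r) Λ)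
        (varsIdeal (Fin n ⊕ Fin r) Λ ⊔ freeRel a r) := by
    rw [Ideal.span_le]
    rintro _ ⟨i, rfl⟩
    change (C (a i) : MvPowerSeries (Fin n ⊕ Fin r) Λ) ∈
      varsIdeal (Fin n ⊕ Fin r) Λ ⊔ freeRel a r
    have : (C (a i) : MvPowerSeries (Fin n ⊕ Fin r) Λ) =
        X (Sum.inl i) - (X (Sum.inl i) - C (a i)) := by ring
    rw [this]
    apply Ideal.sub_mem
    · exact le_sup_left (a := varsIdeal (Fin n ⊕ Fin r) Λ)
        (Ideal.subset_span ⟨Sum.inl i, rfl⟩)
    · exact le_sup_right (a := varsIdeal (Fin n ⊕ Fin r) Λ)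
        (Ideal.subset_span ⟨i, rfl⟩)
  exact hle hc'

include hspan in
theorem ker_freeRes : RingHom.ker (freeRes a r ha) = freeVars a r := by
  apply le_antisymm
  · intro x hx
    obtain ⟨f, rfl⟩ := Ideal.Quotient.mk_surjective x
    rw [RingHom.mem_ker] at hx
    change algebraMap Λ k (constantCoeff f) = 0 at hx
    have h1 : f - C (constantCoeff f) ∈ varsIdeal (Fin n ⊕ Fin r) Λ := by
      apply mem_varsIdeal_of_constantCoeff_eq_zero
      rw [map_sub, constantCoeff_C, sub_self]
    have h2 := C_mem_of_mem_ker a r hspan _ hx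
    have h3 : f ∈ varsIdeal (Fin n ⊕ Fin r) Λ ⊔ freeRel a r := by
      have : f = (f - C (constantCoeff f)) + C (constantCoeff f) := by ring
      rw [this]
      exact Ideal.add_mem _ (le_sup_left (a := varsIdeal (Fin n ⊕ Fin r) Λ) h1) h2
    obtain ⟨v, hv, w, hw, hvw⟩ := Submodule.mem_sup.1 h3
    unfold freeVars
    rw [← hvw, map_add]
    have hw0 : Ideal.Quotient.mk (freeRel a r) w = 0 := Ideal.Quotient.eq_zero_iff_mem.2 hw
    rw [hw0, add_zero]
    exact Ideal.mem_map_of_mem _ hv
  · unfold freeVars varsIdeal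
    rw [Ideal.map_span, Ideal.span_le]
    rintro _ ⟨_, ⟨s, rfl⟩, rfl⟩
    change freeRes a r ha (Ideal.Quotient.mk _ (X s)) = 0
    rw [freeRes_mk, constantCoeff_X, map_zero]

end Free

section FreeCRing

open MvPowerSeries

variable {Λ : Type u} {k : Type u} [CommRing Λ] [Field k] [Algebra Λ k] [IsNoetherianRing Λ]
variable {n : ℕ} (a : Fin n → Λ) (r : ℕ)
variable (ha : ∀ i, algebraMap Λ k (a i) = 0)
variable (hspan : Ideal.span (Set.range a) = RingHom.ker (algebraMap Λ k))
variable (hk : Function.Surjective (algebraMap Λ k))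

omit [IsNoetherianRing Λ] in
theorem isAdicComplete_ps (σ : Type) [Finite σ] :
    IsAdicComplete (varsIdeal σ Λ) (MvPowerSeries σ Λ) := by
  unfold varsIdeal; infer_instance

theorem isAdicComplete_free : IsAdicComplete (freeVars a r) (FreeRing a r) := by
  unfold freeVars
  rw [IsAdicComplete.map_algebraMap_iff]
  haveI := isAdicComplete_ps (Λ := Λ) (Fin n ⊕ Fin r)
  haveI : IsPrecomplete (varsIdeal (Fin n ⊕ Fin r) Λ) (FreeRing a r) :=
    isPrecomplete_of_surjective _ (Submodule.mkQ (freeRel a r)) (Submodule.mkQ_surjective _)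
  haveI : IsHausdorff (varsIdeal (Fin n ⊕ Fin r) Λ) (FreeRing a r) :=
    IsHausdorff.of_le_jacobson _ _ (IsAdicComplete.le_jacobson_bot _)
  exact { }

include hk in
omit [IsNoetherianRing Λ] in
theorem freeRes_surjective : Function.Surjective (freeRes a r ha) := by
  intro c
  obtain ⟨l, rfl⟩ := hk c
  exact ⟨algebraMap Λ _ l, AlgHom.commutes _ l⟩

include ha hk hspan in
theorem isLocalRing_free : IsLocalRing (FreeRing a r) := by
  haveI : Nontrivial (FreeRing a r) :=
    (freeRes a r ha : FreeRing a r →+* k).domain_nontrivial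
  haveI := isAdicComplete_free (Λ := Λ) a r
  have hjac : freeVars a r ≤ Ideal.jacobson ⊥ := IsAdicComplete.le_jacobson_bot _
  refine IsLocalRing.of_isUnit_or_isUnit_one_sub_self fun x => ?_
  by_cases hx : freeRes a r ha x = 0
  · right
    have hx' : x ∈ freeVars a r := by
      rw [← ker_freeRes a r ha hspan]; exact hx
    have := (Ideal.mem_jacobson_bot.1 (hjac hx')) (-1)
    have e : x * -1 + 1 = 1 - x := by ring
    rwa [e] at this
  · left
    obtain ⟨y, hy⟩ := freeRes_surjective a r ha hk (freeRes a r ha x)⁻¹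
    have h1 : 1 - x * y ∈ freeVars a r := by
      rw [← ker_freeRes a r ha hspan, RingHom.mem_ker, map_sub, map_one, map_mul]
      change 1 - freeRes a r ha x * freeRes a r ha y = 0
      rw [hy, mul_inv_cancel₀ hx, sub_self]
    have := (Ideal.mem_jacobson_bot.1 (hjac h1)) (-1)
    have e : (1 - x * y) * -1 + 1 = x * y := by ring
    rw [e] at this
    exact isUnit_of_mul_isUnit_left this

/-- the free complete local Noetherian `Λ`-algebra on `r` generators -/
noncomputable def freeCRing : CRing Λ k :=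
  { carrier := FreeRing a r
    isLocalRing := isLocalRing_free a r ha hspan hk
    res := freeRes a r ha
    res_surjective := freeRes_surjective a r ha hk
    isAdicComplete := by
      haveI := isLocalRing_free a r ha hspan hk
      have h1 := ker_eq_maximalIdeal (S := FreeRing a r) (k := k)
        (freeRes a r ha : FreeRing a r →+* k) (freeRes_surjective a r ha hk)
      have h2 : RingHom.ker (freeRes a r ha : FreeRing a r →+* k) = freeVars a r :=
        ker_freeRes a r ha hspan
      rw [← h1, h2]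
      exact isAdicComplete_free a r }

end FreeCRing

section Eval

open MvPowerSeries

variable {Λ : Type u} {k : Type u} [CommRing Λ] [Field k] [Algebra Λ k]
variable {σ : Type} [Finite σ]

/-- algebra maps out of a power series ring into an Artinian object which agree on the variables
(sent into the maximal ideal) are equal -/
theorem ps_algHom_ext (A : Art Λ k) (φ φ' : MvPowerSeries σ Λ →ₐ[Λ] A)
    (hm : ∀ s, φ (X s) ∈ IsLocalRing.maximalIdeal A) (h : ∀ s, φ (X s) = φ' (X s)) : φ = φ' := by
  obtain ⟨N, hN⟩ := exists_pow_succ_eq_bot A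
  have hkill : ∀ ψ : MvPowerSeries σ Λ →ₐ[Λ] A, (∀ s, ψ (X s) ∈ IsLocalRing.maximalIdeal A) →
      ∀ g ∈ varsIdeal σ Λ ^ (N + 1), ψ g = 0 := by
    intro ψ hψ g hg
    have h1 : Ideal.map ψ (varsIdeal σ Λ) ≤ IsLocalRing.maximalIdeal A := by
      unfold varsIdeal
      rw [Ideal.map_span, Ideal.span_le]
      rintro _ ⟨_, ⟨s, rfl⟩, rfl⟩
      exact hψ s
    have h2 : Ideal.map ψ (varsIdeal σ Λ ^ (N + 1)) ≤ ⊥ := by
      rw [Ideal.map_pow, ← hN]
      exact Ideal.pow_right_mono h1 _
    exact (Submodule.mem_bot A).1 (h2 (Ideal.mem_map_of_mem _ hg))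
  have hpoly : ∀ p : MvPolynomial σ Λ, φ (p : MvPowerSeries σ Λ) = φ' (p : MvPowerSeries σ Λ) := by
    intro p
    induction p using MvPolynomial.induction_on with
    | C c =>
      rw [MvPolynomial.coe_C]
      have : (C c : MvPowerSeries σ Λ) = algebraMap Λ _ c := by
        rw [MvPowerSeries.algebraMap_apply]; rfl
      rw [this, AlgHom.commutes, AlgHom.commutes]
    | add p q hp hq => rw [MvPolynomial.coe_add, map_add, map_add, hp, hq]
    | mul_X p s hp => rw [MvPolynomial.coe_mul, MvPolynomial.coe_X, map_mul, map_mul, hp, h s]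
  apply AlgHom.ext
  intro f
  have hf := sub_truncTotal_mem (N + 1) f
  have e1 := hkill φ hm _ hf
  have e2 := hkill φ' (fun s => by rw [← h s]; exact hm s) _ hf
  rw [map_sub, sub_eq_zero] at e1 e2
  rw [e1, e2, hpoly]

/-- evaluation of power series at elements of the maximal ideal of an Artinian object -/
theorem exists_ps_eval (A : Art Λ k) (β : σ → A) (hβ : ∀ s, β s ∈ IsLocalRing.maximalIdeal A) :
    ∃ φ : MvPowerSeries σ Λ →ₐ[Λ] A, ∀ p : MvPolynomial σ Λ,
      φ (p : MvPowerSeries σ Λ) = MvPolynomial.aeval β p := by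
  obtain ⟨N, hN⟩ := exists_pow_succ_eq_bot A
  have hkill : ∀ p ∈ MvPolynomial.idealOfVars σ Λ ^ (N + 1), MvPolynomial.aeval β p = 0 := by
    intro p hp
    have h1 : Ideal.map (MvPolynomial.aeval β : MvPolynomial σ Λ →ₐ[Λ] A)
        (MvPolynomial.idealOfVars σ Λ) ≤ IsLocalRing.maximalIdeal A := by
      rw [MvPolynomial.idealOfVars, Ideal.map_span, Ideal.span_le]
      rintro _ ⟨_, ⟨s, rfl⟩, rfl⟩
      rw [MvPolynomial.aeval_X]
      exact hβ s
    have h2 : Ideal.map (MvPolynomial.aeval β : MvPolynomial σ Λ →ₐ[Λ] A)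
        (MvPolynomial.idealOfVars σ Λ ^ (N + 1)) ≤ ⊥ := by
      rw [Ideal.map_pow, ← hN]
      exact Ideal.pow_right_mono h1 _
    exact (Submodule.mem_bot A).1 (h2 (Ideal.mem_map_of_mem _ hp))
  refine ⟨(Ideal.Quotient.liftₐ (MvPolynomial.idealOfVars σ Λ ^ (N + 1))
    (MvPolynomial.aeval β) hkill).comp ((truncTotalAlgHom σ Λ (N + 1)).restrictScalars Λ), ?_⟩
  intro p
  have h1 : truncTotalAlgHom σ Λ (N + 1) (p : MvPowerSeries σ Λ) = Ideal.Quotient.mk _ p :=
    (truncTotalAlgHom σ Λ (N + 1)).commutes p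
  change Ideal.Quotient.liftₐ _ (MvPolynomial.aeval β) hkill
    (truncTotalAlgHom σ Λ (N + 1) (p : MvPowerSeries σ Λ)) = _
  rw [h1]
  rfl

end Eval

section FreeDataSec

open MvPowerSeries

variable {Λ : Type u} {k : Type u} [CommRing Λ] [Field k] [Algebra Λ k]

/-- a complete local ring freely generated by `r` elements of its maximal ideal, as far as points
with values in Artinian objects are concerned -/
structure FreeData (P : CRing Λ k) (r : ℕ) where
  /-- the generators -/
  gen : Fin r → P.carrier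
  gen_mem : ∀ j, gen j ∈ IsLocalRing.maximalIdeal P.carrier
  exists_point : ∀ (A : Art Λ k) (α : Fin r → A), (∀ j, α j ∈ IsLocalRing.maximalIdeal A) →
    ∃ φ : HomSet P.carrier P.res A, ∀ j, φ.1 (gen j) = α j
  point_ext : ∀ (A : Art Λ k) (φ φ' : HomSet P.carrier P.res A),
    (∀ j, φ.1 (gen j) = φ'.1 (gen j)) → φ = φ'

variable [IsNoetherianRing Λ]
variable {n : ℕ} (a : Fin n → Λ) (r : ℕ)
variable (ha : ∀ i, algebraMap Λ k (a i) = 0)
variable (hspan : Ideal.span (Set.range a) = RingHom.ker (algebraMap Λ k))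
variable (hk : Function.Surjective (algebraMap Λ k))

omit [IsNoetherianRing Λ] in
theorem mk_X_inl (i : Fin n) :
    (Ideal.Quotient.mk (freeRel a r) (X (Sum.inl i)) : FreeRing a r) =
      algebraMap Λ (FreeRing a r) (a i) := by
  have h1 : (X (Sum.inl i) : MvPowerSeries (Fin n ⊕ Fin r) Λ) - C (a i) ∈ freeRel a r :=
    Ideal.subset_span ⟨i, rfl⟩
  have h2 := Ideal.Quotient.eq.2 h1
  rw [h2]
  have : (C (a i) : MvPowerSeries (Fin n ⊕ Fin r) Λ) = algebraMap Λ _ (a i) := by
    rw [MvPowerSeries.algebraMap_apply]; rfl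
  rw [this]
  rfl

include ha in
omit [IsNoetherianRing Λ] in
theorem point_mk_X_mem {A : Art Λ k} (φ : FreeRing a r →ₐ[Λ] A)
    (hφ : A.res.comp φ = freeRes a r ha) (s : Fin n ⊕ Fin r) :
    φ (Ideal.Quotient.mk (freeRel a r) (X s)) ∈ IsLocalRing.maximalIdeal A := by
  rw [Art.mem_maximalIdeal_iff]
  have := congrArg (fun g : FreeRing a r →ₐ[Λ] k => g (Ideal.Quotient.mk (freeRel a r) (X s))) hφ
  change A.res (φ _) = freeRes a r ha _ at this
  rw [this, freeRes_mk, constantCoeff_X, map_zero]

/-- the free data of the free ring -/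
noncomputable def freeData : FreeData (freeCRing a r ha hspan hk) r where
  gen j := Ideal.Quotient.mk (freeRel a r) (X (Sum.inr j))
  gen_mem j := by
    rw [CRing.mem_maximalIdeal_iff]
    change freeRes a r ha _ = 0
    rw [freeRes_mk, constantCoeff_X, map_zero]
  exists_point A α hα := by
    let β : Fin n ⊕ Fin r → A := Sum.elim (fun i => algebraMap Λ A (a i)) α
    have hβ : ∀ s, β s ∈ IsLocalRing.maximalIdeal A := by
      rintro (i | j)
      · change algebraMap Λ A (a i) ∈ _
        rw [Art.mem_maximalIdeal_iff, AlgHom.commutes, ha]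
      · exact hα j
    obtain ⟨φ₀, hφ₀⟩ := exists_ps_eval A β hβ
    have hX : ∀ s, φ₀ (X s) = β s := fun s => by
      rw [← MvPolynomial.coe_X, hφ₀, MvPolynomial.aeval_X]
    have hC : ∀ c, φ₀ (C c) = algebraMap Λ A c := fun c => by
      rw [← MvPolynomial.coe_C, hφ₀, MvPolynomial.aeval_C]
    have hkill : ∀ f ∈ freeRel a r, φ₀ f = 0 := by
      intro f hf
      have : freeRel a r ≤ RingHom.ker φ₀ := by
        unfold freeRel
        rw [Ideal.span_le]
        rintro _ ⟨i, rfl⟩
        change φ₀ _ = 0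
        rw [map_sub, hX, hC]
        exact sub_self _
      exact this hf
    let φ : FreeRing a r →ₐ[Λ] A := Ideal.Quotient.liftₐ (freeRel a r) φ₀ hkill
    have hres : A.res.comp φ = freeRes a r ha := by
      apply Ideal.Quotient.algHom_ext
      have := ps_algHom_ext (base Λ k) (A.res.comp φ₀) (psRes (k := k) (Fin n ⊕ Fin r))
        (fun s => by
          change A.res (φ₀ (X s)) ∈ IsLocalRing.maximalIdeal k
          rw [hX, (Art.mem_maximalIdeal_iff A _).1 (hβ s)]
          exact Ideal.zero_mem _)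
        (fun s => by
          change A.res (φ₀ (X s)) = algebraMap Λ k (constantCoeff (X s))
          rw [hX, (Art.mem_maximalIdeal_iff A _).1 (hβ s), constantCoeff_X, map_zero])
      exact this
    exact ⟨⟨φ, hres⟩, fun j => hX (Sum.inr j)⟩
  point_ext A φ φ' h := by
    apply Subtype.ext
    apply Ideal.Quotient.algHom_ext
    apply ps_algHom_ext A
    · intro s
      exact point_mk_X_mem a r ha φ.1 φ.2 s
    · rintro (i | j)
      · change φ.1 (Ideal.Quotient.mk _ (X (Sum.inl i))) = φ'.1 (Ideal.Quotient.mk _ (X (Sum.inl i)))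
        rw [mk_X_inl]
        exact (φ.1.commutes (a i)).trans (φ'.1.commutes (a i)).symm
      · exact h j

end FreeDataSec

section ExistsFree

variable {Λ : Type u} {k : Type u} [CommRing Λ] [Field k] [Algebra Λ k] [IsNoetherianRing Λ]

theorem exists_freeCRing (hk : Function.Surjective (algebraMap Λ k)) (r : ℕ) :
    ∃ P : CRing Λ k, Nonempty (FreeData P r) := by
  obtain ⟨n, a, hspan⟩ := Submodule.fg_iff_exists_fin_generating_family.1
    (IsNoetherian.noetherian (RingHom.ker (algebraMap Λ k)))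
  have hspan' : Ideal.span (Set.range a) = RingHom.ker (algebraMap Λ k) := hspan
  have ha : ∀ i, algebraMap Λ k (a i) = 0 := fun i => by
    have : a i ∈ RingHom.ker (algebraMap Λ k) := by
      rw [← hspan']; exact Ideal.subset_span ⟨i, rfl⟩
    exact this
  exact ⟨freeCRing a r ha hspan' hk, ⟨freeData a r ha hspan' hk⟩⟩

end ExistsFree

end Groth.Agent.Helper3.ArtFunLib
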