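import Mathlib
import Groth.Agent.Lib.Helper3.SchlA

set_option linter.style.haveILetI false

universe u v w

open CategoryTheory

namespace Groth.Agent.Helper3.ArtFunLib

open ArtFun ArtFun.Art

variable {Λ : Type u} {k : Type u} [CommRing Λ] [Field k] [Algebra Λ k]

section Tsz

variable (Λ k)

/-- the object `k ⊕ k^r` -/
def tsz (r : ℕ) : Art Λ k :=
  { carrier := TrivSqZeroExt k (Fin r → k)
    isLocalRing := isLocalRing_tsze k (Fin r → k)
    isArtinianRing := isArtinianRing_tsze k (Fin r → k)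
    res := TrivSqZeroExt.fstHom Λ k (Fin r → k)
    res_surjective := fun a => ⟨TrivSqZeroExt.inl a, rfl⟩ }

variable {Λ k}

/-- the morphism induced by a linear map -/
def tszLin {r s : ℕ} (L : (Fin r → k) →ₗ[k] (Fin s → k)) : tsz Λ k r ⟶ tsz Λ k s :=
  ⟨tszeMap L, AlgHom.ext fun _ => rfl⟩

/-- the morphism to the dual numbers induced by a functional -/
def tszToDual {r : ℕ} (L : (Fin r → k) →ₗ[k] k) : tsz Λ k r ⟶ dual Λ k :=
  ⟨tszeMap L, AlgHom.ext fun _ => rfl⟩

/-- the morphism to `k[ε₁, ε₂]` induced by a pair of functionals -/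
def tszToDual2 {r : ℕ} (L : (Fin r → k) →ₗ[k] k × k) : tsz Λ k r ⟶ dual2 Λ k :=
  ⟨tszeMap L, AlgHom.ext fun _ => rfl⟩

theorem tszToDual_apply {r : ℕ} (L : (Fin r → k) →ₗ[k] k) (x : tsz Λ k r) :
    (tszToDual (Λ := Λ) L x : TrivSqZeroExt k k) =
      (⟨(x : TrivSqZeroExt k (Fin r → k)).fst, L (x : TrivSqZeroExt k (Fin r → k)).snd⟩ :
        TrivSqZeroExt k k) := rfl

theorem tszToDual2_pr₁ {r : ℕ} (L : (Fin r → k) →ₗ[k] k × k) :
    tszToDual2 (Λ := Λ) L ≫ pr₁ = tszToDual ((LinearMap.fst k k k).comp L) :=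
  Art.hom_ext (AlgHom.ext fun _ => rfl)

theorem tszToDual2_pr₂ {r : ℕ} (L : (Fin r → k) →ₗ[k] k × k) :
    tszToDual2 (Λ := Λ) L ≫ pr₂ = tszToDual ((LinearMap.snd k k k).comp L) :=
  Art.hom_ext (AlgHom.ext fun _ => rfl)

theorem tszToDual2_plus {r : ℕ} (L : (Fin r → k) →ₗ[k] k × k) :
    tszToDual2 (Λ := Λ) L ≫ plus =
      tszToDual ((LinearMap.fst k k k + LinearMap.snd k k k).comp L) :=
  Art.hom_ext (AlgHom.ext fun _ => rfl)

theorem tszToDual_scale {r : ℕ} (L : (Fin r → k) →ₗ[k] k) (c : k) :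
    tszToDual (Λ := Λ) L ≫ scale c = tszToDual (c • L) :=
  Art.hom_ext (AlgHom.ext fun _ => rfl)

theorem tszLin_tszToDual {r s : ℕ} (M : (Fin r → k) →ₗ[k] (Fin s → k))
    (L : (Fin s → k) →ₗ[k] k) :
    tszLin (Λ := Λ) M ≫ tszToDual L = tszToDual (L.comp M) :=
  Art.hom_ext (AlgHom.ext fun _ => rfl)

end Tsz

section TangentLinear

variable {F : Art Λ k ⥤ Type v} [TangentStr F]

/-- the tangent vectors obtained from an element over `k ⊕ k^r` depend linearly on the
functional -/
noncomputable def tszTangent {r : ℕ} (ξ : F.obj (tsz Λ k r)) :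
    ((Fin r → k) →ₗ[k] k) →ₗ[k] TangentSpace F where
  toFun L := F.map (tszToDual L) ξ
  map_add' L L' := by
    have e := TangentStr.add_eq (F := F) (F.map (tszToDual2 (L.prod L')) ξ)
    rw [← map_comp_app, ← map_comp_app, ← map_comp_app, tszToDual2_pr₁, tszToDual2_pr₂,
      tszToDual2_plus] at e
    have h1 : (LinearMap.fst k k k).comp (L.prod L') = L := LinearMap.fst_prod L L'
    have h2 : (LinearMap.snd k k k).comp (L.prod L') = L' := LinearMap.snd_prod L L'
    have h3 : (LinearMap.fst k k k + LinearMap.snd k k k).comp (L.prod L') = L + L' := by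
      rw [LinearMap.add_comp, h1, h2]
    rw [h1, h2, h3] at e
    exact e.symm
  map_smul' c L := by
    have e := TangentStr.smul_eq (F := F) c (F.map (tszToDual L) ξ)
    rw [← map_comp_app, tszToDual_scale] at e
    exact e.symm

theorem tszTangent_apply {r : ℕ} (ξ : F.obj (tsz Λ k r)) (L : (Fin r → k) →ₗ[k] k) :
    tszTangent ξ L = F.map (tszToDual L) ξ := rfl

end TangentLinear

section ExistsElt

variable {F : Art Λ k ⥤ Type v}

/-- the inclusion `k → k ⊕ k^r` -/
def baseToTsz (r : ℕ) : base Λ k ⟶ tsz Λ k r :=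
  ⟨(Algebra.ofId k (TrivSqZeroExt k (Fin r → k))).restrictScalars Λ, AlgHom.ext fun _ => rfl⟩

/-- forgetting the last coordinate -/
def tszInit (r : ℕ) : tsz Λ k (r + 1) ⟶ tsz Λ k r :=
  tszLin (LinearMap.funLeft k k Fin.castSucc)

theorem isFibreProd_tsz_succ (r : ℕ) :
    IsFibreProd (tszInit (Λ := Λ) (k := k) r)
      (tszToDual (LinearMap.proj (Fin.last r))) (toBase _) (toBase _) where
  w := by rw [eq_toBase (tszInit r ≫ toBase _), eq_toBase (tszToDual _ ≫ toBase _)]
  inj b₁ b₂ h₁ h₂ := by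
    have e₁ : (b₁ : TrivSqZeroExt k (Fin (r + 1) → k)).fst =
        (b₂ : TrivSqZeroExt k (Fin (r + 1) → k)).fst := by
      have e := congrArg TrivSqZeroExt.fst h₁; exact e
    have e₂ : ∀ i : Fin r, (b₁ : TrivSqZeroExt k (Fin (r + 1) → k)).snd i.castSucc =
        (b₂ : TrivSqZeroExt k (Fin (r + 1) → k)).snd i.castSucc := fun i => by
      have e := congrFun (congrArg TrivSqZeroExt.snd h₁) i; exact e
    have e₃ : (b₁ : TrivSqZeroExt k (Fin (r + 1) → k)).snd (Fin.last r) =
        (b₂ : TrivSqZeroExt k (Fin (r + 1) → k)).snd (Fin.last r) := by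
      have e := congrArg TrivSqZeroExt.snd h₂; exact e
    refine TrivSqZeroExt.ext e₁ (funext fun j => ?_)
    refine Fin.lastCases e₃ (fun i => e₂ i) j
  surj a' a'' h := by
    have h' : (a' : TrivSqZeroExt k (Fin r → k)).fst = (a'' : TrivSqZeroExt k k).fst := h
    refine ⟨((a' : TrivSqZeroExt k (Fin r → k)).fst,
      Fin.snoc (α := fun _ => k) (a' : TrivSqZeroExt k (Fin r → k)).snd
        (a'' : TrivSqZeroExt k k).snd), ?_, ?_⟩
    · refine TrivSqZeroExt.ext rfl (funext fun i => ?_)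
      change Fin.snoc (α := fun _ => k) _ _ i.castSucc = _
      rw [Fin.snoc_castSucc]
    · refine TrivSqZeroExt.ext h' ?_
      change Fin.snoc (α := fun _ => k) _ _ (Fin.last r) = _
      rw [Fin.snoc_last]

theorem exists_tsz_elt (h0 : H0 F) (h2 : Heps F) :
    ∀ (r : ℕ) (v : Fin r → F.obj (dual Λ k)), ∃ ξ : F.obj (tsz Λ k r),
      ∀ j, F.map (tszToDual (LinearMap.proj j)) ξ = v j := by
  intro r
  induction r with
  | zero =>
    intro v
    obtain ⟨x₀⟩ := h0.1
    exact ⟨F.map (baseToTsz 0) x₀, fun j => j.elim0⟩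
  | succ r ih =>
    intro v
    obtain ⟨ξr, hξr⟩ := ih (fun i => v i.castSucc)
    haveI := h0.2
    obtain ⟨ξ, hξ⟩ := (h2 _ _ (isFibreProd_tsz_succ (Λ := Λ) (k := k) r)).2
      ⟨(ξr, v (Fin.last r)), Subsingleton.elim _ _⟩
    have e1 : F.map (tszInit r) ξ = ξr := congrArg (fun t => t.1.1) hξ
    have e2 : F.map (tszToDual (LinearMap.proj (Fin.last r))) ξ = v (Fin.last r) :=
      congrArg (fun t => t.1.2) hξ
    refine ⟨ξ, fun j => ?_⟩
    refine Fin.lastCases e2 (fun i => ?_) j
    have e3 : tszToDual (Λ := Λ) (LinearMap.proj (R := k) (φ := fun _ : Fin (r + 1) => k)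
        i.castSucc) = tszInit r ≫ tszToDual (LinearMap.proj i) := by
      unfold tszInit
      rw [tszLin_tszToDual]
      rfl
    rw [e3, map_comp_app, e1, hξr]

end ExistsElt

section FirstStage

variable {F : Art Λ k ⥤ Type v} [TangentStr F]

theorem functional_eq_sum {r : ℕ} (L : (Fin r → k) →ₗ[k] k) :
    L = ∑ j, L (Pi.single j 1) • LinearMap.proj (R := k) (φ := fun _ : Fin r => k) j := by
  apply LinearMap.ext
  intro w
  rw [LinearMap.pi_apply_eq_sum_univ L w, LinearMap.sum_apply]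
  refine Finset.sum_congr rfl fun j _ => ?_
  rw [LinearMap.smul_apply, LinearMap.proj_apply, smul_eq_mul, smul_eq_mul, mul_comm]
  congr 2
  ext i
  rw [Pi.single_apply]
  simp [eq_comm]

theorem tszTangent_bijective {r : ℕ} (ξ₀ : F.obj (tsz Λ k r))
    (v : Module.Basis (Fin r) k (TangentSpace F))
    (hv : ∀ j, F.map (tszToDual (LinearMap.proj j)) ξ₀ = v j) :
    Function.Bijective (tszTangent ξ₀) := by
  have hval : ∀ L : (Fin r → k) →ₗ[k] k,
      tszTangent ξ₀ L = ∑ j, L (Pi.single j 1) • v j := by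
    intro L
    conv_lhs => rw [functional_eq_sum L]
    rw [map_sum]
    refine Finset.sum_congr rfl fun j _ => ?_
    rw [map_smul, tszTangent_apply, hv]
  constructor
  · rw [← LinearMap.ker_eq_bot, LinearMap.ker_eq_bot']
    intro L hL
    rw [hval] at hL
    have hli := v.linearIndependent
    rw [Fintype.linearIndependent_iff] at hli
    have h0 := hli _ hL
    rw [functional_eq_sum L]
    refine Finset.sum_eq_zero fun j _ => ?_
    rw [h0 j, zero_smul]
  · intro t
    refine ⟨∑ j, v.repr t j • LinearMap.proj (R := k) (φ := fun _ : Fin r => k) j, ?_⟩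
    rw [hval]
    conv_rhs => rw [← v.sum_repr t]
    refine Finset.sum_congr rfl fun j _ => ?_
    congr 1
    rw [LinearMap.sum_apply]
    simp only [LinearMap.smul_apply, LinearMap.proj_apply, smul_eq_mul]
    rw [Finset.sum_eq_single j]
    · rw [Pi.single_eq_same, mul_one]
    · intro i _ hij
      rw [Pi.single_eq_of_ne hij, mul_zero]
    · intro h; exact absurd (Finset.mem_univ j) h

end FirstStage

section FirstStage2

variable {F : Art Λ k ⥤ Type v} [TangentStr F]

open TrivSqZeroExt in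
theorem tsze_decomp {r : ℕ} (y : TrivSqZeroExt k (Fin r → k)) :
    y = inl y.fst + ∑ j, inl (y.snd j) * (inr (Pi.single j 1) : TrivSqZeroExt k (Fin r → k)) := by
  apply TrivSqZeroExt.ext
  · rw [fst_add, fst_inl, fst_sum]
    have : ∀ j ∈ Finset.univ,
        (inl (y.snd j) * (inr (Pi.single j 1) : TrivSqZeroExt k (Fin r → k))).fst = 0 := by
      intro j _
      rw [fst_mul, fst_inl, fst_inr, mul_zero]
    rw [Finset.sum_eq_zero this, add_zero]
  · rw [snd_add, snd_inl, zero_add, snd_sum]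
    have : ∀ j ∈ Finset.univ,
        (inl (y.snd j) * (inr (Pi.single j 1) : TrivSqZeroExt k (Fin r → k))).snd =
          Pi.single j (y.snd j) := by
      intro j _
      rw [snd_mul, fst_inl, snd_inl, snd_inr, fst_inr]
      rw [smul_zero, add_zero]
      ext i
      simp [Pi.single_apply]
    rw [Finset.sum_congr rfl this, Finset.univ_sum_single]

open TrivSqZeroExt in
theorem tsze_mem_subalgebra (hk : Function.Surjective (algebraMap Λ k)) {r : ℕ}
    (S : Subalgebra Λ (TrivSqZeroExt k (Fin r → k)))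
    (hS : ∀ j, (inr (Pi.single j 1) : TrivSqZeroExt k (Fin r → k)) ∈ S)
    (y : TrivSqZeroExt k (Fin r → k)) : y ∈ S := by
  rw [tsze_decomp y]
  have hinl : ∀ c : k, (inl c : TrivSqZeroExt k (Fin r → k)) ∈ S := fun c => by
    obtain ⟨l, rfl⟩ := hk c
    rw [← TrivSqZeroExt.algebraMap_eq_inl']
    exact S.algebraMap_mem l
  exact S.add_mem (hinl _) (S.sum_mem fun j _ => S.mul_mem (hinl _) (hS j))

/-- the basic tangent vector of `k ⊕ k^r` -/
def tszEps {r : ℕ} (j : Fin r) : tsz Λ k r :=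
  (TrivSqZeroExt.inr (Pi.single j 1) : TrivSqZeroExt k (Fin r → k))

theorem tszEps_mem {r : ℕ} (j : Fin r) :
    tszEps (Λ := Λ) (k := k) j ∈ IsLocalRing.maximalIdeal (tsz Λ k r) := by
  rw [Art.mem_maximalIdeal_iff]; rfl

/-- the functional attached to a point of the free ring with values in the dual numbers -/
noncomputable def ptFunctional {P : CRing Λ k} {r : ℕ} (fd : FreeData P r)
    (b : HomSet P.carrier P.res (dual Λ k)) : (Fin r → k) →ₗ[k] k :=
  ∑ j, dsnd (b.1 (fd.gen j)) • LinearMap.proj (R := k) (φ := fun _ : Fin r => k) j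

theorem ptFunctional_single {P : CRing Λ k} {r : ℕ} (fd : FreeData P r)
    (b : HomSet P.carrier P.res (dual Λ k)) (j : Fin r) :
    ptFunctional fd b (Pi.single j 1) = dsnd (b.1 (fd.gen j)) := by
  unfold ptFunctional
  rw [LinearMap.sum_apply]
  simp only [LinearMap.smul_apply, LinearMap.proj_apply, smul_eq_mul]
  rw [Finset.sum_eq_single j]
  · rw [Pi.single_eq_same, mul_one]
  · intro i _ hij
    rw [Pi.single_eq_of_ne hij, mul_zero]
  · intro h; exact absurd (Finset.mem_univ j) h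

theorem exists_first_stage (hk : Function.Surjective (algebraMap Λ k)) (h0 : H0 F) (h2 : Heps F)
    {P : CRing Λ k} {r : ℕ} (fd : FreeData P r) (v : Module.Basis (Fin r) k (TangentSpace F)) :
    ∃ (R₀ : Art Λ k) (π₀ : HomSet P.carrier P.res R₀) (ξ₀ : F.obj R₀),
      Function.Surjective π₀.1 ∧
      (∀ b : HomSet P.carrier P.res (dual Λ k), RingHom.ker π₀.1 ≤ RingHom.ker b.1) ∧
      Function.Bijective (fun g : R₀ ⟶ dual Λ k => F.map g ξ₀) := by
  obtain ⟨ξ₀, hξ₀⟩ := exists_tsz_elt h0 h2 r (fun j => v j)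
  obtain ⟨π₀, hπ₀⟩ := fd.exists_point (tsz Λ k r) (fun j => tszEps j) (fun j => tszEps_mem j)
  have hbij := tszTangent_bijective ξ₀ v hξ₀
  -- surjectivity of π₀
  have hsurj : Function.Surjective π₀.1 := by
    intro y
    exact tsze_mem_subalgebra hk π₀.1.range (fun j => ⟨fd.gen j, hπ₀ j⟩) y
  -- every tangent point factors
  have hfac : ∀ b : HomSet P.carrier P.res (dual Λ k),
      HomSet.map (tszToDual (ptFunctional fd b)) π₀ = b := by
    intro b
    apply fd.point_ext
    intro j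
    change tszToDual (ptFunctional fd b) (π₀.1 (fd.gen j)) = b.1 (fd.gen j)
    rw [hπ₀ j]
    apply dual_ext
    · change (0 : k) = dfst (b.1 (fd.gen j))
      rw [dfst_homSet]
      exact ((CRing.mem_maximalIdeal_iff P _).1 (fd.gen_mem j)).symm
    · change ptFunctional fd b (Pi.single j 1) = dsnd (b.1 (fd.gen j))
      exact ptFunctional_single fd b j
  refine ⟨tsz Λ k r, π₀, ξ₀, hsurj, ?_, ?_⟩
  · intro b
    rw [← hfac b]
    exact ker_map_of_factor π₀ _
  · have hg : ∀ g : tsz Λ k r ⟶ dual Λ k, g = tszToDual (ptFunctional fd (HomSet.map g π₀)) :=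
      fun g => factor_unique_of_surjective π₀ hsurj (hfac (HomSet.map g π₀)).symm
    constructor
    · intro g g' hgg'
      change F.map g ξ₀ = F.map g' ξ₀ at hgg'
      rw [hg g, hg g'] at hgg' ⊢
      have := hbij.1 hgg'
      rw [this]
    · intro t
      obtain ⟨L, hL⟩ := hbij.2 t
      exact ⟨tszToDual L, hL⟩

end FirstStage2

end Groth.Agent.Helper3.ArtFunLib
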