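import Mathlib
import Groth.Agent.Lib.Helper3.SchlD

set_option linter.style.haveILetI false

universe u v w

open CategoryTheory

namespace Groth.Agent.Helper3.ArtFunLib

open ArtFun ArtFun.Art

variable {Λ : Type u} {k : Type u} [CommRing Λ] [Field k] [Algebra Λ k]

section FactorAPI

variable {P : CRing Λ k}

theorem factorOf_eq {A₁ A : Art Λ k} (π : HomSet P.carrier P.res A₁)
    (hπ : Function.Surjective π.1) (b : HomSet P.carrier P.res A)
    (hker : RingHom.ker π.1 ≤ RingHom.ker b.1) (g : A₁ ⟶ A) (hg : HomSet.map g π = b) :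
    factorOf π hπ b hker = g :=
  factor_unique_of_surjective π hπ ((map_factorOf π hπ b hker).trans hg.symm)

theorem factorOf_comp {A₁ A₂ A : Art Λ k} (π₁ : HomSet P.carrier P.res A₁)
    (hπ₁ : Function.Surjective π₁.1) (π₂ : HomSet P.carrier P.res A₂)
    (hπ₂ : Function.Surjective π₂.1) (b : HomSet P.carrier P.res A)
    (h12 : RingHom.ker π₁.1 ≤ RingHom.ker π₂.1) (h2 : RingHom.ker π₂.1 ≤ RingHom.ker b.1) :
    factorOf π₁ hπ₁ π₂ h12 ≫ factorOf π₂ hπ₂ b h2 = factorOf π₁ hπ₁ b (h12.trans h2) := by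
  symm
  apply factorOf_eq
  rw [homSet_map_comp, map_factorOf, map_factorOf]

theorem factorOf_map {A₁ A A' : Art Λ k} (π : HomSet P.carrier P.res A₁)
    (hπ : Function.Surjective π.1) (b : HomSet P.carrier P.res A)
    (hker : RingHom.ker π.1 ≤ RingHom.ker b.1) (f : A ⟶ A') :
    factorOf π hπ (HomSet.map f b) (hker.trans (ker_map_of_factor b f)) =
      factorOf π hπ b hker ≫ f := by
  apply factorOf_eq
  rw [homSet_map_comp, map_factorOf]

theorem factorOf_apply {A₁ A : Art Λ k} (π : HomSet P.carrier P.res A₁)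
    (hπ : Function.Surjective π.1) (b : HomSet P.carrier P.res A)
    (hker : RingHom.ker π.1 ≤ RingHom.ker b.1) (x : P.carrier) :
    factorOf π hπ b hker (π.1 x) = b.1 x :=
  congrArg (fun t : HomSet P.carrier P.res A => t.1 x) (map_factorOf π hπ b hker)

theorem homSet_mem_maximalIdeal {A : Art Λ k} (b : HomSet P.carrier P.res A) {x : P.carrier}
    (hx : x ∈ IsLocalRing.maximalIdeal P.carrier) : b.1 x ∈ IsLocalRing.maximalIdeal A := by
  rw [Art.mem_maximalIdeal_iff]
  have h1 := congrArg (fun g : P.carrier →ₐ[Λ] k => g x) b.2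
  change A.res (b.1 x) = P.res x at h1
  rw [h1]
  exact (CRing.mem_maximalIdeal_iff P x).1 hx

theorem homSet_mem_maximalIdeal_iff {A : Art Λ k} (b : HomSet P.carrier P.res A) (x : P.carrier) :
    b.1 x ∈ IsLocalRing.maximalIdeal A ↔ x ∈ IsLocalRing.maximalIdeal P.carrier := by
  rw [Art.mem_maximalIdeal_iff, CRing.mem_maximalIdeal_iff]
  have h1 := congrArg (fun g : P.carrier →ₐ[Λ] k => g x) b.2
  change A.res (b.1 x) = P.res x at h1
  rw [h1]

end FactorAPI

section Stage

variable (P : CRing Λ k) (F : Art Λ k ⥤ Type v)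

/-- a stage of the construction: an Artinian quotient of `P` with an element of `F` over it -/
structure Stage where
  /-- the quotient -/
  obj : Art Λ k
  /-- the quotient map -/
  pt : HomSet P.carrier P.res obj
  surj : Function.Surjective pt.1
  /-- the element -/
  elt : F.obj obj

variable {P F}

/-- the kernel of a stage -/
def Stage.K (s : Stage P F) : Ideal P.carrier := RingHom.ker s.pt.1

/-- `s'` is a minimal lift of `s` -/
structure IsStep (s s' : Stage P F) : Prop where
  le : s'.K ≤ s.K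
  elt : F.map (factorOf s'.pt s'.surj s.pt le) s'.elt = s.elt
  mul_le : IsLocalRing.maximalIdeal P.carrier * s.K ≤ s'.K
  least : ∀ (T : Art Λ k) (τ : HomSet P.carrier P.res T) (hτ : Function.Surjective τ.1)
    (hle : RingHom.ker τ.1 ≤ s.K) (z : F.obj T), F.map (factorOf τ hτ s.pt hle) z = s.elt →
    IsLocalRing.maximalIdeal P.carrier * s.K ≤ RingHom.ker τ.1 → s'.K ≤ RingHom.ker τ.1

theorem exists_step (h1 : S1 F) (s : Stage P F) : ∃ s' : Stage P F, IsStep s s' := by
  have hadm : Adm P (IsLocalRing.maximalIdeal P.carrier * s.K) := adm_mul (adm_ker s.pt)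
  set B := quoArt (IsLocalRing.maximalIdeal P.carrier * s.K) hadm with hB
  set β := quoPt (IsLocalRing.maximalIdeal P.carrier * s.K) hadm with hβdef
  have hβ : Function.Surjective β.1 := quoPt_surjective _ hadm
  have hkerβ : RingHom.ker β.1 = IsLocalRing.maximalIdeal P.carrier * s.K := ker_quoPt _ hadm
  have hle : RingHom.ker β.1 ≤ RingHom.ker s.pt.1 := by
    rw [hkerβ]; exact Ideal.mul_le_right
  set p : B ⟶ s.obj := factorOf β hβ s.pt hle with hpdef
  have hp : HomSet.map p β = s.pt := map_factorOf β hβ s.pt hle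
  have hpsurj : Function.Surjective p := factorOf_surjective β hβ s.pt hle s.surj
  have hsemi : IsSemismallExt p := by
    refine ⟨hpsurj, ?_⟩
    rw [eq_bot_iff, Ideal.mul_le]
    intro m hm x hx
    obtain ⟨m', rfl⟩ := hβ m
    obtain ⟨x', rfl⟩ := hβ x
    have hm' : m' ∈ IsLocalRing.maximalIdeal P.carrier := (homSet_mem_maximalIdeal_iff β m').1 hm
    have hx' : x' ∈ s.K := by
      change s.pt.1 x' = 0
      rw [← factorOf_apply β hβ s.pt hle x']
      exact hx
    rw [Ideal.mem_bot, ← map_mul]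
    have : m' * x' ∈ RingHom.ker β.1 := by
      rw [hkerβ]; exact Ideal.mul_mem_mul hm' hx'
    exact this
  obtain ⟨J₀, hJ₀, hleast⟩ := exists_least_liftSet h1 p hsemi s.elt
  obtain ⟨hJ₀ker, hJ₀max, y, hy⟩ := hJ₀
  let s' : Stage P F :=
    ⟨quot B J₀ hJ₀max, HomSet.map (quotMk B J₀ hJ₀max) β,
      (quotMk_surjective B J₀ hJ₀max).comp hβ, y⟩
  have hfac : HomSet.map (quotFactor hJ₀max p hJ₀ker) s'.pt = s.pt := by
    change HomSet.map (quotFactor hJ₀max p hJ₀ker) (HomSet.map (quotMk B J₀ hJ₀max) β) = s.pt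
    rw [← homSet_map_comp, quotMk_quotFactor, hp]
  have hle' : s'.K ≤ s.K := by
    have := ker_map_of_factor s'.pt (quotFactor hJ₀max p hJ₀ker)
    rw [hfac] at this
    exact this
  refine ⟨s', hle', ?_, ?_, ?_⟩
  · rw [factorOf_eq s'.pt s'.surj s.pt hle' _ hfac]
    exact hy
  · rw [← hkerβ]
    exact ker_map_of_factor β (quotMk B J₀ hJ₀max)
  · intro T τ hτ hleT z hz hmK
    have hβτ : RingHom.ker β.1 ≤ RingHom.ker τ.1 := by rw [hkerβ]; exact hmK
    set w : B ⟶ T := factorOf β hβ τ hβτ with hwdef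
    have hw : HomSet.map w β = τ := map_factorOf β hβ τ hβτ
    have hwsurj : Function.Surjective w := factorOf_surjective β hβ τ hβτ hτ
    set u : T ⟶ s.obj := factorOf τ hτ s.pt hleT with hudef
    have hwu : w ≫ u = p := factorOf_comp β hβ τ hτ s.pt hβτ hleT
    have hJT : RingHom.ker w.toAlgHom ∈ LiftSet F p s.elt := by
      have hJTker : RingHom.ker w.toAlgHom ≤ RingHom.ker p.toAlgHom := by
        intro x hx
        rw [RingHom.mem_ker] at hx ⊢
        rw [← hwu]
        change u (w x) = 0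
        have hx' : w x = 0 := hx
        rw [hx', map_zero]
      have hb := quotFactor_bijective_of_ker_eq (ker_le_maximalIdeal w) w hwsurj rfl
      haveI := isIso_of_bijective _ hb
      refine ⟨hJTker, ker_le_maximalIdeal w,
        F.map (inv (quotFactor (ker_le_maximalIdeal w) w le_rfl)) z, ?_⟩
      have hq : quotFactor (ker_le_maximalIdeal w) p hJTker =
          quotFactor (ker_le_maximalIdeal w) w le_rfl ≫ u := by
        apply quot_hom_cancel
        rw [quotMk_quotFactor, ← Category.assoc, quotMk_quotFactor, hwu]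
      rw [hq, ← map_comp_app, ← Category.assoc, IsIso.inv_hom_id, Category.id_comp]
      exact hz
    have hJ₀le := hleast _ hJT
    intro x hx
    have hx1 : Ideal.Quotient.mk J₀ (β.1 x) = 0 := hx
    have hx2 : β.1 x ∈ J₀ := (Ideal.Quotient.eq_zero_iff_mem (I := J₀)).1 hx1
    have hx3 : w (β.1 x) = 0 := hJ₀le hx2
    rw [RingHom.mem_ker, ← factorOf_apply β hβ τ hβτ x]
    exact hx3

end Stage

section Cauchy

theorem le_iInf_sup_pow_of_step {R : Type*} [CommRing R] [IsLocalRing R] [IsNoetherianRing R]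
    [IsAdicComplete (IsLocalRing.maximalIdeal R) R] (K : ℕ → Ideal R) (hK : Antitone K)
    (h5 : ∀ q, K q ≤ K (q + 1) ⊔ IsLocalRing.maximalIdeal R ^ (q + 1)) (q : ℕ) :
    K q ≤ (⨅ i, K i) ⊔ IsLocalRing.maximalIdeal R ^ (q + 1) := by
  intro x hx
  set 𝔪 := IsLocalRing.maximalIdeal R with h𝔪
  have hstep : ∀ j (y : R), y ∈ K (q + j) → ∃ y' : R, y' ∈ K (q + (j + 1)) ∧
      y - y' ∈ 𝔪 ^ (q + j + 1) := by
    intro j y hy
    obtain ⟨y', hy', m, hm, hsum⟩ := Submodule.mem_sup.1 (h5 (q + j) hy)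
    refine ⟨y', hy', ?_⟩
    rw [← hsum, add_sub_cancel_left]
    exact hm
  let seq : ∀ j, {y : R // y ∈ K (q + j)} := fun j =>
    Nat.rec (motive := fun j => {y : R // y ∈ K (q + j)}) ⟨x, hx⟩
      (fun j y => ⟨Classical.choose (hstep j y.1 y.2),
        (Classical.choose_spec (hstep j y.1 y.2)).1⟩) j
  have hseq0 : (seq 0).1 = x := rfl
  have hseq : ∀ j, (seq j).1 - (seq (j + 1)).1 ∈ 𝔪 ^ (q + j + 1) := fun j =>
    (Classical.choose_spec (hstep j (seq j).1 (seq j).2)).2
  have hdiff : ∀ j, x - (seq j).1 ∈ 𝔪 ^ (q + 1) := by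
    intro j
    induction j with
    | zero => rw [hseq0, sub_self]; exact zero_mem _
    | succ j ih =>
      have h1 : x - (seq (j + 1)).1 = (x - (seq j).1) + ((seq j).1 - (seq (j + 1)).1) := by ring
      rw [h1]
      exact add_mem ih (Ideal.pow_le_pow_right (by omega) (hseq j))
  have hcauchy : ∀ {m n}, m ≤ n → (seq m).1 - (seq n).1 ∈ 𝔪 ^ m := by
    intro m n hmn
    induction n, hmn using Nat.le_induction with
    | base => rw [sub_self]; exact zero_mem _
    | succ n hmn ih =>
      have h1 : (seq m).1 - (seq (n + 1)).1 =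
          ((seq m).1 - (seq n).1) + ((seq n).1 - (seq (n + 1)).1) := by ring
      rw [h1]
      exact add_mem ih (Ideal.pow_le_pow_right (by omega) (hseq n))
  have hsmul : ∀ n, (𝔪 ^ n • ⊤ : Submodule R R) = 𝔪 ^ n := fun n => by
    rw [smul_eq_mul, Ideal.mul_top]
  obtain ⟨L, hL⟩ := IsPrecomplete.prec (I := 𝔪) (M := R) inferInstance (f := fun j => (seq j).1)
    (fun {m n} hmn => by
      rw [SModEq.sub_mem, hsmul]
      exact hcauchy hmn)
  have hL' : ∀ n, (seq n).1 - L ∈ 𝔪 ^ n := fun n => by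
    have := hL n
    rw [SModEq.sub_mem, hsmul] at this
    exact this
  have hLmem : ∀ i, L ∈ K i := by
    intro i
    have hH : IsHausdorff 𝔪 (R ⧸ K i) := inferInstance
    have h0 : (Ideal.Quotient.mk (K i) L : R ⧸ K i) = 0 := by
      apply IsHausdorff.haus (I := 𝔪) hH
      intro n
      rw [SModEq.sub_mem, sub_zero]
      have hj : (seq (max n i)).1 ∈ K i := hK (by omega) (seq (max n i)).2
      have hd : L - (seq (max n i)).1 ∈ 𝔪 ^ n := by
        have := hL' (max n i)
        have h2 : L - (seq (max n i)).1 = -((seq (max n i)).1 - L) := by ring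
        rw [h2]
        exact neg_mem (Ideal.pow_le_pow_right (le_max_left n i) this)
      have h3 : (Ideal.Quotient.mk (K i) L : R ⧸ K i) =
          (L - (seq (max n i)).1) • (Ideal.Quotient.mk (K i) 1 : R ⧸ K i) := by
        rw [Algebra.smul_def, map_one, mul_one]
        change _ = Ideal.Quotient.mk (K i) (L - (seq (max n i)).1)
        rw [map_sub, (Ideal.Quotient.eq_zero_iff_mem (I := K i)).2 hj, sub_zero]
      rw [h3]
      exact Submodule.smul_mem_smul hd Submodule.mem_top
    exact (Ideal.Quotient.eq_zero_iff_mem (I := K i)).1 h0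
  have hx' : x = L + (x - L) := by ring
  rw [hx']
  refine Submodule.add_mem_sup (Ideal.mem_iInf.2 hLmem) ?_
  have h4 : x - L = (x - (seq (q + 1)).1) + ((seq (q + 1)).1 - L) := by ring
  rw [h4]
  exact add_mem (hdiff (q + 1)) (hL' (q + 1))

end Cauchy

section Tower

variable {P : CRing Λ k} {F : Art Λ k ⥤ Type v}
variable (t : ℕ → Stage P F) (ht : ∀ q, IsStep (t q) (t (q + 1)))

include ht in
theorem tower_K_le_add (q d : ℕ) : (t (q + d)).K ≤ (t q).K := by
  induction d with
  | zero => exact le_rfl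
  | succ d ih => exact (ht (q + d)).le.trans ih

include ht in
theorem tower_K_le {q q' : ℕ} (h : q ≤ q') : (t q').K ≤ (t q).K := by
  obtain ⟨d, rfl⟩ := Nat.exists_eq_add_of_le h
  exact tower_K_le_add t ht q d

include ht in
theorem tower_K_antitone : Antitone fun q => (t q).K := fun _ _ h => tower_K_le t ht h

theorem tower_elt_add (q d : ℕ) :
    F.map (factorOf (t (q + d)).pt (t (q + d)).surj (t q).pt (tower_K_le_add t ht q d))
      (t (q + d)).elt = (t q).elt := by
  induction d with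
  | zero =>
    have h1 : factorOf (t q).pt (t q).surj (t q).pt le_rfl = 𝟙 _ :=
      factorOf_eq _ _ _ _ _ (homSet_map_id _)
    change F.map (factorOf (t q).pt (t q).surj (t q).pt le_rfl) (t q).elt = (t q).elt
    rw [h1, F.map_id]
    rfl
  | succ d ih =>
    have h1 := factorOf_comp (t (q + d + 1)).pt (t (q + d + 1)).surj (t (q + d)).pt
      (t (q + d)).surj (t q).pt (ht (q + d)).le (tower_K_le_add t ht q d)
    change F.map (factorOf (t (q + d + 1)).pt (t (q + d + 1)).surj (t q).pt _)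
      (t (q + d + 1)).elt = (t q).elt
    rw [← h1, map_comp_app, (ht (q + d)).elt, ih]

theorem tower_elt {q q' : ℕ} (h : q ≤ q') :
    F.map (factorOf (t q').pt (t q').surj (t q).pt (tower_K_le t ht h)) (t q').elt =
      (t q).elt := by
  obtain ⟨d, rfl⟩ := Nat.exists_eq_add_of_le h
  exact tower_elt_add t ht q d

include ht in
theorem tower_step_le (q q' : ℕ) (h : q + 1 ≤ q') :
    (t (q + 1)).K ≤ (t q').K ⊔ IsLocalRing.maximalIdeal P.carrier * (t q).K := by
  set I' := (t q').K ⊔ IsLocalRing.maximalIdeal P.carrier * (t q).K with hI'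
  have hq : q ≤ q' := by omega
  have hI'le : I' ≤ (t q).K := sup_le (tower_K_le t ht hq) Ideal.mul_le_right
  have hadm : Adm P I' := adm_mono (adm_mul (adm_ker (t q).pt)) le_sup_right
    (hI'le.trans (adm_ker (t q).pt).1)
  have hkerτ : RingHom.ker (quoPt I' hadm).1 = I' := ker_quoPt I' hadm
  have hτ := quoPt_surjective I' hadm
  have hle : RingHom.ker (quoPt I' hadm).1 ≤ (t q).K := by rw [hkerτ]; exact hI'le
  have hle' : RingHom.ker (t q').pt.1 ≤ RingHom.ker (quoPt I' hadm).1 := by
    rw [hkerτ]; exact le_sup_left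
  have hz : F.map (factorOf (quoPt I' hadm) hτ (t q).pt hle)
      (F.map (factorOf (t q').pt (t q').surj (quoPt I' hadm) hle') (t q').elt) = (t q).elt := by
    rw [← map_comp_app, factorOf_comp]
    exact tower_elt t ht hq
  have := (ht q).least _ (quoPt I' hadm) hτ hle _ hz (by rw [hkerτ]; exact le_sup_right)
  rw [hkerτ] at this
  exact this

include ht in
theorem tower_F5 (q : ℕ) : ∀ d, (t q).K ≤ (t (q + d)).K ⊔
    IsLocalRing.maximalIdeal P.carrier ^ (q + 1) := by
  induction q with
  | zero =>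
    intro d
    refine le_sup_of_le_right ?_
    rw [zero_add, pow_one]
    exact (adm_ker (t 0).pt).1
  | succ q ih =>
    intro d
    refine (tower_step_le t ht q (q + 1 + d) (by omega)).trans (sup_le le_sup_left ?_)
    have h1 : (t q).K ≤ (t (q + 1 + d)).K ⊔ IsLocalRing.maximalIdeal P.carrier ^ (q + 1) := by
      have := ih (1 + d)
      rwa [← add_assoc] at this
    calc IsLocalRing.maximalIdeal P.carrier * (t q).K
        ≤ IsLocalRing.maximalIdeal P.carrier *
            ((t (q + 1 + d)).K ⊔ IsLocalRing.maximalIdeal P.carrier ^ (q + 1)) :=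
          Ideal.mul_mono_right h1
      _ = IsLocalRing.maximalIdeal P.carrier * (t (q + 1 + d)).K ⊔
            IsLocalRing.maximalIdeal P.carrier * IsLocalRing.maximalIdeal P.carrier ^ (q + 1) :=
          Ideal.mul_sup _ _ _
      _ ≤ (t (q + 1 + d)).K ⊔ IsLocalRing.maximalIdeal P.carrier ^ (q + 1 + 1) := by
          refine sup_le_sup Ideal.mul_le_right ?_
          rw [← pow_succ']

/-- the intersection of the kernels -/
def towerJ : Ideal P.carrier := ⨅ q, (t q).K

theorem towerJ_le (q : ℕ) : towerJ t ≤ (t q).K := iInf_le _ q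

theorem towerJ_le_maximalIdeal : towerJ t ≤ IsLocalRing.maximalIdeal P.carrier :=
  (towerJ_le t 0).trans (adm_ker (t 0).pt).1

include ht in
theorem tower_F6 (q : ℕ) :
    (t q).K ≤ towerJ t ⊔ IsLocalRing.maximalIdeal P.carrier ^ (q + 1) := by
  haveI := P.isAdicComplete
  exact le_iInf_sup_pow_of_step (fun q => (t q).K) (tower_K_antitone t ht)
    (fun q => tower_F5 t ht q 1) q

include ht in
theorem tower_cofinal {A : Art Λ k} (b : HomSet P.carrier P.res A)
    (hb : towerJ t ≤ RingHom.ker b.1) : ∃ q, (t q).K ≤ RingHom.ker b.1 := by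
  obtain ⟨N, hN⟩ := (adm_ker b).2
  exact ⟨N, (tower_F6 t ht N).trans (sup_le hb ((Ideal.pow_le_pow_right (Nat.le_succ N)).trans hN))⟩

end Tower

section Value

variable {P : CRing Λ k} {F : Art Λ k ⥤ Type v}
variable (t : ℕ → Stage P F) (ht : ∀ q, IsStep (t q) (t (q + 1)))

/-- the value of the tower at a point, computed at level `q` -/
noncomputable def towerValAt {A : Art Λ k} (b : HomSet P.carrier P.res A) (q : ℕ)
    (hq : (t q).K ≤ RingHom.ker b.1) : F.obj A :=
  F.map (factorOf (t q).pt (t q).surj b hq) (t q).elt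

include ht in
theorem towerValAt_le {A : Art Λ k} (b : HomSet P.carrier P.res A) {q q' : ℕ} (h : q ≤ q')
    (hq : (t q).K ≤ RingHom.ker b.1) (hq' : (t q').K ≤ RingHom.ker b.1) :
    towerValAt t b q hq = towerValAt t b q' hq' := by
  unfold towerValAt
  rw [← factorOf_comp (t q').pt (t q').surj (t q).pt (t q).surj b (tower_K_le t ht h) hq,
    map_comp_app, tower_elt t ht h]

include ht in
theorem towerValAt_indep {A : Art Λ k} (b : HomSet P.carrier P.res A) {q q' : ℕ}
    (hq : (t q).K ≤ RingHom.ker b.1) (hq' : (t q').K ≤ RingHom.ker b.1) :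
    towerValAt t b q hq = towerValAt t b q' hq' := by
  rcases le_total q q' with h | h
  · exact towerValAt_le t ht b h hq hq'
  · exact (towerValAt_le t ht b h hq' hq).symm

/-- the value of the tower at a point killing some stage -/
noncomputable def towerVal {A : Art Λ k} (b : HomSet P.carrier P.res A)
    (h : ∃ q, (t q).K ≤ RingHom.ker b.1) : F.obj A :=
  towerValAt t b (Classical.choose h) (Classical.choose_spec h)

include ht in
theorem towerVal_eq {A : Art Λ k} (b : HomSet P.carrier P.res A)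
    (h : ∃ q, (t q).K ≤ RingHom.ker b.1) (q : ℕ) (hq : (t q).K ≤ RingHom.ker b.1) :
    towerVal t b h = towerValAt t b q hq :=
  towerValAt_indep t ht b _ hq

theorem towerVal_congr {A : Art Λ k} {b b' : HomSet P.carrier P.res A} (hb : b = b')
    (h : ∃ q, (t q).K ≤ RingHom.ker b.1) (h' : ∃ q, (t q).K ≤ RingHom.ker b'.1) :
    towerVal t b h = towerVal t b' h' := by
  subst hb
  rfl

include ht in
theorem towerVal_map {A A' : Art Λ k} (f : A ⟶ A') (b : HomSet P.carrier P.res A)
    (h : ∃ q, (t q).K ≤ RingHom.ker b.1) (h' : ∃ q, (t q).K ≤ RingHom.ker (HomSet.map f b).1) :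
    towerVal t (HomSet.map f b) h' = F.map f (towerVal t b h) := by
  obtain ⟨q, hq⟩ := h
  rw [towerVal_eq t ht b ⟨q, hq⟩ q hq,
    towerVal_eq t ht (HomSet.map f b) h' q (hq.trans (ker_map_of_factor b f))]
  unfold towerValAt
  rw [factorOf_map, map_comp_app]

end Value

section QuotPoints

variable {P : CRing Λ k} {J : Ideal P.carrier} {hJ : J ≤ IsLocalRing.maximalIdeal P.carrier}

/-- a point of the quotient, regarded as a point of `P` -/
noncomputable def toP {A : Art Λ k}
    (a : HomSet (quotCRing P J hJ).carrier (quotCRing P J hJ).res A) :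
    HomSet P.carrier P.res A :=
  ⟨a.1.comp (quotCRingHom P J hJ), by rw [← AlgHom.comp_assoc, a.2, quotCRingHom_res]⟩

theorem toP_apply {A : Art Λ k}
    (a : HomSet (quotCRing P J hJ).carrier (quotCRing P J hJ).res A) (x : P.carrier) :
    (toP a).1 x = a.1 (Ideal.Quotient.mk J x) := rfl

theorem le_ker_toP {A : Art Λ k}
    (a : HomSet (quotCRing P J hJ).carrier (quotCRing P J hJ).res A) :
    J ≤ RingHom.ker (toP a).1 := by
  intro x hx
  rw [RingHom.mem_ker, toP_apply, (Ideal.Quotient.eq_zero_iff_mem (I := J)).2 hx]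
  exact map_zero a.1

theorem toP_map {A A' : Art Λ k} (f : A ⟶ A')
    (a : HomSet (quotCRing P J hJ).carrier (quotCRing P J hJ).res A) :
    toP (HomSet.map f a) = HomSet.map f (toP a) :=
  Subtype.ext (AlgHom.ext fun _ => rfl)

theorem toP_injective {A : Art Λ k} :
    Function.Injective (toP (P := P) (J := J) (hJ := hJ) (A := A)) := by
  intro a a' h
  apply Subtype.ext
  apply AlgHom.ext
  intro y
  obtain ⟨x, rfl⟩ := Ideal.Quotient.mk_surjective (I := J) y
  exact congrArg (fun t : HomSet P.carrier P.res A => t.1 x) h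

theorem exists_toP_eq {A : Art Λ k} (b : HomSet P.carrier P.res A)
    (hb : J ≤ RingHom.ker b.1) :
    ∃ a : HomSet (quotCRing P J hJ).carrier (quotCRing P J hJ).res A, toP a = b := by
  refine ⟨⟨Ideal.Quotient.liftₐ J b.1 (fun x hx => RingHom.mem_ker.1 (hb hx)), ?_⟩, ?_⟩
  · apply AlgHom.ext
    intro y
    obtain ⟨x, rfl⟩ := Ideal.Quotient.mk_surjective (I := J) y
    exact congrArg (fun g : P.carrier →ₐ[Λ] k => g x) b.2
  · exact Subtype.ext (AlgHom.ext fun _ => rfl)

end QuotPoints

section TowerFamily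

variable {P : CRing Λ k} {F : Art Λ k ⥤ Type v}
variable (t : ℕ → Stage P F) (ht : ∀ q, IsStep (t q) (t (q + 1)))

/-- the limit ring of the tower -/
noncomputable abbrev towerRing : CRing Λ k :=
  quotCRing P (towerJ t) (towerJ_le_maximalIdeal t)

/-- the family over the limit ring -/
noncomputable def towerFamily : Family (towerRing t).carrier (towerRing t).res F where
  app A a := towerVal t (toP a) (tower_cofinal t ht (toP a) (le_ker_toP a))
  natural {A B} f a := by
    rw [← towerVal_map t ht f (toP a) _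
      (tower_cofinal t ht _ ((le_ker_toP a).trans (ker_map_of_factor _ f)))]
    exact towerVal_congr t (toP_map f a) _ _

theorem towerFamily_app {A : Art Λ k} (a : HomSet (towerRing t).carrier (towerRing t).res A)
    (q : ℕ) (hq : (t q).K ≤ RingHom.ker (toP a).1) :
    (towerFamily t ht).app A a = F.map (factorOf (t q).pt (t q).surj (toP a) hq) (t q).elt :=
  towerVal_eq t ht _ _ q hq

end TowerFamily

section Smoothness

variable {P : CRing Λ k}

/-- points of a freely generated ring lift along surjections -/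
theorem FreeData.exists_lift {r : ℕ} (fd : FreeData P r) {B A : Art Λ k} (μ : B ⟶ A)
    (hμ : Function.Surjective μ) (b : HomSet P.carrier P.res A) :
    ∃ χ : HomSet P.carrier P.res B, HomSet.map μ χ = b := by
  choose β hβ using fun j => hμ (b.1 (fd.gen j))
  have hβmem : ∀ j, β j ∈ IsLocalRing.maximalIdeal B := by
    intro j
    rw [Art.mem_maximalIdeal_iff, ← Art.res_app μ, hβ j, ← Art.mem_maximalIdeal_iff]
    exact homSet_mem_maximalIdeal b (fd.gen_mem j)
  obtain ⟨χ, hχ⟩ := fd.exists_point B β hβmem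
  refine ⟨χ, fd.point_ext A _ _ (fun j => ?_)⟩
  change μ (χ.1 (fd.gen j)) = b.1 (fd.gen j)
  rw [hχ j, hβ j]

end Smoothness

section Hull

variable {P : CRing Λ k} {F : Art Λ k ⥤ Type v}
variable (t : ℕ → Stage P F) (ht : ∀ q, IsStep (t q) (t (q + 1)))

theorem towerFamily_tangent_bijective
    (hf1 : ∀ b : HomSet P.carrier P.res (dual Λ k), (t 0).K ≤ RingHom.ker b.1)
    (hf2 : Function.Bijective (fun g : (t 0).obj ⟶ dual Λ k => F.map g (t 0).elt)) :
    Function.Bijective ((towerFamily t ht).app (dual Λ k)) := by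
  have hfun : (towerFamily t ht).app (dual Λ k) =
      (fun g : (t 0).obj ⟶ dual Λ k => F.map g (t 0).elt) ∘
        (fun a => factorOf (t 0).pt (t 0).surj (toP a) (hf1 (toP a))) := by
    funext a
    exact towerFamily_app t ht a 0 (hf1 (toP a))
  rw [hfun]
  refine hf2.comp ⟨?_, ?_⟩
  · intro a a' h
    apply toP_injective
    have h1 := map_factorOf (t 0).pt (t 0).surj (toP a) (hf1 (toP a))
    have h2 := map_factorOf (t 0).pt (t 0).surj (toP a') (hf1 (toP a'))
    have h' : factorOf (t 0).pt (t 0).surj (toP a) (hf1 (toP a)) =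
        factorOf (t 0).pt (t 0).surj (toP a') (hf1 (toP a')) := h
    rw [← h1, ← h2, h']
  · intro g
    have hb : towerJ t ≤ RingHom.ker (HomSet.map g (t 0).pt).1 :=
      (towerJ_le t 0).trans (ker_map_of_factor (t 0).pt g)
    obtain ⟨a, ha⟩ := exists_toP_eq (hJ := towerJ_le_maximalIdeal t) _ hb
    refine ⟨a, ?_⟩
    exact factorOf_eq _ _ _ _ g ha.symm

theorem towerFamily_lift [Module.Finite Λ k] (h1 : S1 F)
    (hsm : ∀ ⦃B A : Art Λ k⦄ (μ : B ⟶ A), IsSmallExt μ → ∀ b : HomSet P.carrier P.res A,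
      ∃ χ : HomSet P.carrier P.res B, HomSet.map μ χ = b)
    ⦃B A : Art Λ k⦄ (μ : B ⟶ A) (hμ : IsSmallExt μ)
    (a : HomSet (towerRing t).carrier (towerRing t).res A) (y : F.obj B)
    (hy : F.map μ y = (towerFamily t ht).app A a) :
    ∃ ψ : HomSet (towerRing t).carrier (towerRing t).res B, HomSet.map μ ψ = a := by
  obtain ⟨q, hq⟩ := tower_cofinal t ht (toP a) (le_ker_toP a)
  rw [towerFamily_app t ht a q hq] at hy
  set g := factorOf (t q).pt (t q).surj (toP a) hq with hg
  have hgmap : HomSet.map g (t q).pt = toP a := map_factorOf _ _ _ _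
  obtain ⟨χ, hχ⟩ := hsm μ hμ (toP a)
  -- it suffices that `χ` kills the intersection
  have hdone : towerJ t ≤ RingHom.ker χ.1 →
      ∃ ψ : HomSet (towerRing t).carrier (towerRing t).res B, HomSet.map μ ψ = a := by
    intro hJ
    obtain ⟨ψ, hψ⟩ := exists_toP_eq (hJ := towerJ_le_maximalIdeal t) χ hJ
    refine ⟨ψ, toP_injective ?_⟩
    rw [toP_map, hψ, hχ]
  by_cases hcase : (t q).K ≤ RingHom.ker χ.1
  · exact hdone ((towerJ_le t q).trans hcase)
  · apply hdone
    refine (towerJ_le t (q + 1)).trans ?_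
    obtain ⟨x₀, hx₀K, hx₀⟩ := Set.not_subset.1 hcase
    have hx₀' : χ.1 x₀ ≠ 0 := hx₀
    have hfp := isFibreProd_fibreProd g μ hμ.1
    obtain ⟨τ, hτ1, hτ2⟩ := IsFibreProd.exists_lift_homSet hfp (t q).pt χ (by rw [hgmap, hχ])
    obtain ⟨z, hz⟩ := h1 _ _ _ _ hfp hμ.1 ⟨((t q).elt, y), hy.symm⟩
    have hz1 : F.map (fibreProdFst g μ hμ.1) z = (t q).elt := congrArg (fun t => t.1.1) hz
    have hτfst : ∀ x, fibreProdFst g μ hμ.1 (τ.1 x) = (t q).pt.1 x := fun x =>
      congrArg (fun t : HomSet P.carrier P.res (t q).obj => t.1 x) hτ1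
    have hτsnd : ∀ x, fibreProdSnd g μ hμ.1 (τ.1 x) = χ.1 x := fun x =>
      congrArg (fun t : HomSet P.carrier P.res B => t.1 x) hτ2
    -- elements of `K q` go to the kernel of `μ`
    have hkerμ : ∀ x ∈ (t q).K, χ.1 x ∈ RingHom.ker μ.toAlgHom := by
      intro x hx
      rw [RingHom.mem_ker]
      have e1 : μ (χ.1 x) = (toP a).1 x :=
        congrArg (fun t : HomSet P.carrier P.res A => t.1 x) hχ
      have e2 : (toP a).1 x = 0 := RingHom.mem_ker.1 (hq hx)
      exact e1.trans e2
    have hann : ∀ m ∈ IsLocalRing.maximalIdeal B, ∀ c ∈ RingHom.ker μ.toAlgHom, m * c = 0 := by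
      intro m hm c hc
      have : m * c ∈ IsLocalRing.maximalIdeal B * RingHom.ker μ.toAlgHom :=
        Ideal.mul_mem_mul hm hc
      rw [hμ.2.2.2] at this
      exact this
    -- `τ` is surjective
    have hτsurj : Function.Surjective τ.1 := by
      obtain ⟨t₀, ht₀⟩ := hμ.2.2.1.principal
      have hspan : RingHom.ker μ.toAlgHom ≤ Ideal.span {t₀} := le_of_eq ht₀
      have hspan' : Ideal.span {t₀} ≤ RingHom.ker μ.toAlgHom := le_of_eq ht₀.symm
      obtain ⟨c, hc⟩ := Ideal.mem_span_singleton'.1 (hspan (hkerμ x₀ hx₀K))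
      have ht₀mem : t₀ ∈ RingHom.ker μ.toAlgHom := hspan' (Ideal.subset_span rfl)
      have hcu : IsUnit c := by
        by_contra hnu
        have hcm : c ∈ IsLocalRing.maximalIdeal B := (IsLocalRing.mem_maximalIdeal c).2 hnu
        exact hx₀' (hc ▸ hann c hcm t₀ ht₀mem)
      obtain ⟨cu, rfl⟩ := hcu
      intro e
      obtain ⟨p₁, hp₁⟩ := (t q).surj (fibreProdFst g μ hμ.1 e)
      have he'fst : fibreProdFst g μ hμ.1 (e - τ.1 p₁) = 0 := by
        rw [map_sub, hτfst, hp₁, sub_self]
      have he'ker : fibreProdSnd g μ hμ.1 (e - τ.1 p₁) ∈ RingHom.ker μ.toAlgHom := by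
        rw [RingHom.mem_ker]
        have := hfp.w_apply (e - τ.1 p₁)
        rw [he'fst, map_zero] at this
        exact this.symm
      obtain ⟨c', hc'⟩ := Ideal.mem_span_singleton'.1 (hspan he'ker)
      obtain ⟨p₂, hp₂⟩ := P.res_surjective (B.res (c' * ↑cu⁻¹))
      have hdiffmem : χ.1 p₂ - c' * ↑cu⁻¹ ∈ IsLocalRing.maximalIdeal B := by
        rw [Art.mem_maximalIdeal_iff, map_sub, ← hp₂, sub_eq_zero]
        exact congrArg (fun g : P.carrier →ₐ[Λ] k => g p₂) χ.2
      have hmul : χ.1 (p₂ * x₀) = c' * t₀ := by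
        have h0 := hann _ hdiffmem _ (hkerμ x₀ hx₀K)
        rw [sub_mul, sub_eq_zero] at h0
        rw [map_mul, h0, ← hc, mul_assoc, ← mul_assoc (↑cu⁻¹ : B), Units.inv_mul, one_mul]
      refine ⟨p₁ + p₂ * x₀, ?_⟩
      apply hfp.inj
      · rw [hτfst, map_add, map_mul, (RingHom.mem_ker.1 hx₀K : (t q).pt.1 x₀ = 0), mul_zero,
          add_zero, hp₁]
      · rw [hτsnd, map_add, hmul, hc']
        rw [map_sub, hτsnd]
        ring
    have hleT : RingHom.ker τ.1 ≤ (t q).K := by
      have := ker_map_of_factor τ (fibreProdFst g μ hμ.1)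
      rw [hτ1] at this
      exact this
    have hfac : factorOf τ hτsurj (t q).pt hleT = fibreProdFst g μ hμ.1 :=
      factorOf_eq _ _ _ _ _ hτ1
    have hmK : IsLocalRing.maximalIdeal P.carrier * (t q).K ≤ RingHom.ker τ.1 := by
      rw [Ideal.mul_le]
      intro m hm x hx
      rw [RingHom.mem_ker]
      apply hfp.inj
      · rw [hτfst, map_zero, map_mul, (RingHom.mem_ker.1 hx : (t q).pt.1 x = 0), mul_zero]
      · rw [hτsnd, map_zero, map_mul]
        exact hann _ (homSet_mem_maximalIdeal χ hm) _ (hkerμ x hx)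
    have hlast := (ht q).least _ τ hτsurj hleT z (by rw [hfac]; exact hz1) hmK
    refine hlast.trans ?_
    have := ker_map_of_factor τ (fibreProdSnd g μ hμ.1)
    rw [hτ2] at this
    exact this

theorem towerFamily_isVersal [Module.Finite Λ k] (h1 : S1 F) (h2 : Heps F)
    (hsm : ∀ ⦃B A : Art Λ k⦄ (μ : B ⟶ A), IsSmallExt μ → ∀ b : HomSet P.carrier P.res A,
      ∃ χ : HomSet P.carrier P.res B, HomSet.map μ χ = b)
    (hf2 : Function.Surjective (fun g : (t 0).obj ⟶ dual Λ k => F.map g (t 0).elt)) :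
    IsVersal (towerFamily t ht) := by
  refine isVersal_of_tangent_surjective_of_lift h1 h2 _ ?_ ?_
  · intro τ
    obtain ⟨g, hg⟩ := hf2 τ
    have hb : towerJ t ≤ RingHom.ker (HomSet.map g (t 0).pt).1 :=
      (towerJ_le t 0).trans (ker_map_of_factor (t 0).pt g)
    obtain ⟨a, ha⟩ := exists_toP_eq (hJ := towerJ_le_maximalIdeal t) _ hb
    refine ⟨a, ?_⟩
    have hK : (t 0).K ≤ RingHom.ker (toP a).1 := by
      rw [ha]; exact ker_map_of_factor (t 0).pt g
    change (towerFamily t ht).app (dual Λ k) a = τ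
    rw [towerFamily_app t ht a 0 hK, factorOf_eq _ _ _ _ g ha.symm]
    exact hg
  · intro B A μ hμ φ y hy
    exact towerFamily_lift t ht h1 hsm μ hμ φ y hy

theorem towerFamily_isMiniversal [Module.Finite Λ k] (h1 : S1 F) (h2 : Heps F)
    (hsm : ∀ ⦃B A : Art Λ k⦄ (μ : B ⟶ A), IsSmallExt μ → ∀ b : HomSet P.carrier P.res A,
      ∃ χ : HomSet P.carrier P.res B, HomSet.map μ χ = b)
    (hf1 : ∀ b : HomSet P.carrier P.res (dual Λ k), (t 0).K ≤ RingHom.ker b.1)
    (hf2 : Function.Bijective (fun g : (t 0).obj ⟶ dual Λ k => F.map g (t 0).elt)) :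
    IsMiniversal (towerFamily t ht) := by
  have hbij := towerFamily_tangent_bijective t ht hf1 hf2
  refine ⟨isVersal_of_tangent_surjective_of_lift h1 h2 _ hbij.2 ?_, hbij⟩
  intro B A μ hμ φ y hy
  exact towerFamily_lift t ht h1 hsm μ hμ φ y hy

end Hull

section Existence

variable {F : Art Λ k ⥤ Type v}

/-- the tower generated by a first stage -/
noncomputable def mkTower {P : CRing Λ k} (h1 : S1 F) (s₀ : Stage P F) : ℕ → Stage P F
  | 0 => s₀
  | q + 1 => Classical.choose (exists_step h1 (mkTower h1 s₀ q))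

theorem mkTower_step {P : CRing Λ k} (h1 : S1 F) (s₀ : Stage P F) (q : ℕ) :
    IsStep (mkTower h1 s₀ q) (mkTower h1 s₀ (q + 1)) :=
  Classical.choose_spec (exists_step h1 (mkTower h1 s₀ q))

/-- existence of hulls (the hull criterion, sufficiency) -/
theorem hasHull_of_conditions [IsNoetherianRing Λ] (hk : Function.Surjective (algebraMap Λ k))
    [TangentStr F] (h0 : H0 F) (h1 : S1 F) (h2 : Heps F) (h3 : Hfin F) : HasHull F := by
  haveI : Module.Finite Λ k := Module.Finite.of_surjective (Algebra.linearMap Λ k) hk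
  haveI : Module.Finite k (TangentSpace F) := h3
  let v := Module.finBasis k (TangentSpace F)
  obtain ⟨P, ⟨fd⟩⟩ := exists_freeCRing hk (Module.finrank k (TangentSpace F))
  obtain ⟨R₀, π₀, ξ₀, hsurj, hf1, hf2⟩ := exists_first_stage hk h0 h2 fd v
  let s₀ : Stage P F := ⟨R₀, π₀, hsurj, ξ₀⟩
  let t := mkTower h1 s₀
  have ht : ∀ q, IsStep (t q) (t (q + 1)) := mkTower_step h1 s₀
  exact ⟨⟨towerRing t, towerFamily t ht, towerFamily_isMiniversal t ht h1 h2
    (fun _ _ μ hμ b => fd.exists_lift μ hμ.1 b) hf1 hf2⟩⟩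

end Existence

end Groth.Agent.Helper3.ArtFunLib
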