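import Mathlib
import Groth.Agent.Lib.Helper3.SchlE

set_option linter.style.haveILetI false

universe u v w

open CategoryTheory

namespace Groth.Agent.Helper3.ArtFunLib

open ArtFun ArtFun.Art

variable {Λ : Type u} {k : Type u} [CommRing Λ] [Field k] [Algebra Λ k]

section InjectiveFam

variable {F : Art Λ k ⥤ Type w} {G : Art Λ k ⥤ Type v}

/-- injectivity on tangent spaces propagates along a natural family (universe-heterogeneous) -/
theorem NatFam.injective_of_tangent_injective [Module.Finite Λ k]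
    (hF0 : Subsingleton (F.obj (base Λ k))) (hF1 : S1 F)
    (hF2 : Heps F)
    (hG : ∀ ⦃B A A' : Art Λ k⦄ (p₁ p₂ : B ⟶ A') (f : A' ⟶ A) (h : IsFibreProd p₁ p₂ f f),
      IsSmallExt f → Function.Injective (cmp G h))
    (φ : NatFam F G) (hd : Function.Injective (φ.app (dual Λ k))) (A : Art Λ k) :
    Function.Injective (φ.app A) := by
  have key : ∀ ⦃A B : Art Λ k⦄ (μ : B ⟶ A), Function.Surjective μ →
      Function.Injective (φ.app A) → Function.Injective (φ.app B) := by
    intro A B μ hμ
    refine smallExt_induction (fun A B μ => Function.Injective (φ.app A) →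
      Function.Injective (φ.app B)) ?_ ?_ ?_ μ hμ
    · intro A B e he hA x x' hxx'
      have : φ.app A (F.map e x) = φ.app A (F.map e x') := by
        rw [φ.natural, φ.natural, hxx']
      have h2 := hA this
      have := congrArg (F.map (inv e)) h2
      rwa [map_map_inv, map_map_inv] at this
    · intro A A' μ hμ hA x' x'' hxx
      have hx : F.map μ x' = F.map μ x'' := by
        apply hA
        rw [φ.natural, φ.natural, hxx]
      let P := fibreProd μ μ hμ.1
      let p₁ : P ⟶ A' := fibreProdFst μ μ hμ.1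
      let p₂ : P ⟶ A' := fibreProdSnd μ μ hμ.1
      have hP : IsFibreProd p₁ p₂ μ μ := isFibreProd_fibreProd μ μ hμ.1
      let Q := fibreProd (toBase A') (toBase (dual Λ k)) (surjective_toBase _)
      let q₁ : Q ⟶ A' := fibreProdFst _ _ (surjective_toBase _)
      let q₂ : Q ⟶ dual Λ k := fibreProdSnd _ _ (surjective_toBase _)
      have hQ : IsFibreProd q₁ q₂ (toBase A') (toBase (dual Λ k)) := isFibreProd_fibreProd _ _ _
      obtain ⟨θ, δ, hθiso, hθ₁, hδ₁, hδ₂, hδθ⟩ := exists_theta hμ hP hQ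
      obtain ⟨z, hz⟩ := hF1 p₁ p₂ μ μ hP hμ.1 ⟨(x', x''), hx⟩
      have hz₁ : F.map p₁ z = x' := congrArg (fun t => t.1.1) hz
      have hz₂ : F.map p₂ z = x'' := congrArg (fun t => t.1.2) hz
      have hGz : φ.app P z = G.map δ (φ.app A' x') := by
        apply hG p₁ p₂ μ hP hμ
        apply FibProd.ext
        · change G.map p₁ (φ.app P z) = G.map p₁ (G.map δ (φ.app A' x'))
          rw [← φ.natural, hz₁, ← map_comp_app, hδ₁, map_id_app]
        · change G.map p₂ (φ.app P z) = G.map p₂ (G.map δ (φ.app A' x'))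
          rw [← φ.natural, hz₂, ← map_comp_app, hδ₂, map_id_app, hxx]
      have hs : F.map q₂ (F.map θ z) = F.map (δ ≫ θ ≫ q₂) x' := by
        apply hd
        rw [φ.natural, φ.natural, hGz, φ.natural, map_comp_app, map_comp_app]
      have hw : F.map θ z = F.map (δ ≫ θ) x' := by
        apply (hF2 q₁ q₂ hQ).1
        apply FibProd.ext
        · change F.map q₁ (F.map θ z) = F.map q₁ (F.map (δ ≫ θ) x')
          rw [← map_comp_app, hθ₁, hz₁, ← map_comp_app, Category.assoc, hθ₁, hδ₁, map_id_app]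
        · change F.map q₂ (F.map θ z) = F.map q₂ (F.map (δ ≫ θ) x')
          rw [hs, ← map_comp_app, Category.assoc]
      have hz' : z = F.map δ x' := by
        have := congrArg (F.map (inv θ)) hw
        rwa [map_map_inv, map_comp_app, map_map_inv] at this
      rw [← hz₂, hz', ← map_comp_app, hδ₂, map_id_app]
    · intro A B C p q hp hq hA
      exact hp (hq hA)
  apply key (toBase A) (surjective_toBase A)
  intro x x' _
  exact Subsingleton.elim _ _

end InjectiveFam

section Universal

variable {R : Type u} [CommRing R] [Algebra Λ R] {resR : R →ₐ[Λ] k} {F : Art Λ k ⥤ Type v}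

theorem hR_s1 : S1 (hR R resR) := fun _ _ _ _ _ _ _ _ h _ => (hR_cmp_bijective h).2

theorem hR_heps : Heps (hR R resR) := fun _ _ _ _ h => hR_cmp_bijective h

/-- a miniversal family of a functor satisfying the injectivity half of `HSq` is universal -/
theorem isUniversal_of_isMiniversal [Module.Finite Λ k] (h0 : H0 F)
    (h4 : ∀ ⦃B A A' : Art Λ k⦄ (p₁ p₂ : B ⟶ A') (f : A' ⟶ A) (h : IsFibreProd p₁ p₂ f f),
      IsSmallExt f → Function.Injective (cmp F h))
    (ξ : Family R resR F) (hξ : IsMiniversal ξ) : IsUniversal ξ := by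
  intro A
  refine ⟨?_, surjective_app_of_isVersal h0 ξ hξ.1 A⟩
  exact NatFam.injective_of_tangent_injective subsingleton_hR_base hR_s1 hR_heps h4
    (NatFam.ofFamily ξ) hξ.2.1 A

/-- a functor with a universal family is left exact -/
theorem isLeftExact_of_isUniversal (ξ : Family R resR F) (hξ : IsUniversal ξ) :
    IsLeftExact F := by
  intro B A A' A'' p' p'' f' f'' h
  constructor
  · intro z z' hzz
    obtain ⟨ψ, rfl⟩ := (hξ B).2 z
    obtain ⟨ψ', rfl⟩ := (hξ B).2 z'
    have h1 : F.map p' (ξ.app B ψ) = F.map p' (ξ.app B ψ') := congrArg (fun t => t.1.1) hzz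
    have h2 : F.map p'' (ξ.app B ψ) = F.map p'' (ξ.app B ψ') := congrArg (fun t => t.1.2) hzz
    rw [← ξ.natural, ← ξ.natural] at h1 h2
    have e1 := (hξ A').1 h1
    have e2 := (hξ A'').1 h2
    congr 1
    apply (hR_cmp_bijective h).1
    exact FibProd.ext e1 e2
  · rintro ⟨⟨x', x''⟩, hx⟩
    have hx' : F.map f' x' = F.map f'' x'' := hx
    obtain ⟨φ', rfl⟩ := (hξ A').2 x'
    obtain ⟨φ'', rfl⟩ := (hξ A'').2 x''
    rw [← ξ.natural, ← ξ.natural] at hx'
    have e := (hξ A).1 hx'
    obtain ⟨χ, h1, h2⟩ := IsFibreProd.exists_lift_homSet h φ' φ'' e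
    refine ⟨ξ.app B χ, FibProd.ext ?_ ?_⟩
    · change F.map p' (ξ.app B χ) = ξ.app A' φ'
      rw [← ξ.natural, h1]
    · change F.map p'' (ξ.app B χ) = ξ.app A'' φ''
      rw [← ξ.natural, h2]

end Universal

section Criteria

variable {F : Art Λ k ⥤ Type v} [TangentStr F]

/-- Schlessinger's criterion, sufficiency for pro-representability -/
theorem isProrepresentable_of_conditions [IsNoetherianRing Λ]
    (hk : Function.Surjective (algebraMap Λ k)) (h0 : H0 F) (h1 : Hbar F) (h2 : Heps F)
    (h3 : Hfin F)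
    (h4 : ∀ ⦃B A A' : Art Λ k⦄ (p₁ p₂ : B ⟶ A') (f : A' ⟶ A) (h : IsFibreProd p₁ p₂ f f),
      IsSmallExt f → Function.Injective (cmp F h)) : IsProrepresentable F := by
  haveI : Module.Finite Λ k := Module.Finite.of_surjective (Algebra.linearMap Λ k) hk
  obtain ⟨⟨R, ξ, hξ⟩⟩ := hasHull_of_conditions hk h0 (cmp_surjective_of_small F h1) h2 h3
  exact ⟨⟨R, ξ, isUniversal_of_isMiniversal h0 h4 ξ hξ⟩⟩

/-- necessity -/
theorem conditions_of_isProrepresentable [IsNoetherianRing Λ] [Module.Finite Λ k]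
    (h : IsProrepresentable F) : IsLeftExact F ∧ Hfin F := by
  obtain ⟨⟨R, ξ, hξ⟩⟩ := h
  exact ⟨isLeftExact_of_isUniversal ξ hξ, hfin_of_tangent_surjective R ξ (hξ _).2⟩

end Criteria

end Groth.Agent.Helper3.ArtFunLib
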