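import Mathlib
import Groth.Agent.Lib.Helper3.SchlF

set_option linter.style.haveILetI false

universe u v w

open CategoryTheory

namespace Groth.Agent.Helper3.ArtFunLib

open ArtFun ArtFun.Art

variable {Λ : Type u} {k : Type u} [CommRing Λ] [Field k] [Algebra Λ k]

section HullBasics

variable {R : Type u} [CommRing R] [Algebra Λ R] {resR : R →ₐ[Λ] k} {F : Art Λ k ⥤ Type v}

/-- a family which is surjective on tangent spaces forces `F(k)` to be a point -/
theorem h0_of_tangent_surjective (ξ : Family R resR F)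
    (h : Function.Surjective (ξ.app (dual Λ k))) : H0 F := by
  apply h0_of_surjective_app ξ
  intro x
  obtain ⟨ψ, hψ⟩ := h (F.map baseToDual x)
  refine ⟨HomSet.map (toBase _) ψ, ?_⟩
  rw [ξ.natural, hψ, ← map_comp_app]
  have e : (baseToDual ≫ toBase (dual Λ k) : base Λ k ⟶ base Λ k) = 𝟙 _ :=
    (eq_toBase _).trans (eq_toBase _).symm
  rw [e, map_id_app]

theorem conditions_of_isMiniversal (ξ : Family R resR F) (hξ : IsMiniversal ξ) :
    H0 F ∧ S1 F ∧ Heps F := by
  have h0 := h0_of_tangent_surjective ξ hξ.2.2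
  exact ⟨h0, s1_of_isVersal h0 ξ hξ.1,
    heps_of_isMiniversal ξ hξ (surjective_app_of_isVersal h0 ξ hξ.1)⟩

end HullBasics

section PowerSeriesSmooth

open MvPowerSeries

/-- points of a power series ring over `Λ` lift along surjections -/
theorem exists_lift_of_powerSeries (R : CRing Λ k) (n : ℕ)
    (e : R.carrier ≃ₐ[Λ] MvPowerSeries (Fin n) Λ) {B A : Art Λ k} (μ : B ⟶ A)
    (hμ : Function.Surjective μ) (φ : HomSet R.carrier R.res A) :
    ∃ ψ : HomSet R.carrier R.res B, HomSet.map μ ψ = φ := by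
  haveI : Nontrivial Λ := by
    refine ⟨⟨0, 1, fun h => ?_⟩⟩
    have := congrArg (algebraMap Λ k) h
    rw [map_zero, map_one] at this
    exact zero_ne_one this
  have hx : ∀ i, e.symm (X i) ∈ IsLocalRing.maximalIdeal R.carrier := by
    intro i
    rw [IsLocalRing.mem_maximalIdeal, mem_nonunits_iff]
    intro hu
    have hu' : IsUnit (e (e.symm (X i))) := hu.map e
    rw [AlgEquiv.apply_symm_apply, MvPowerSeries.isUnit_iff_constantCoeff,
      MvPowerSeries.constantCoeff_X] at hu'
    exact not_isUnit_zero hu'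
  choose β hβ using fun i => hμ (φ.1 (e.symm (X i)))
  have hβmem : ∀ i, β i ∈ IsLocalRing.maximalIdeal B := by
    intro i
    rw [Art.mem_maximalIdeal_iff, ← Art.res_app μ, hβ i, ← Art.mem_maximalIdeal_iff]
    exact homSet_mem_maximalIdeal φ (hx i)
  obtain ⟨ψ', hψ'⟩ := exists_ps_eval B β hβmem
  have hψ'X : ∀ i, ψ' (X i) = β i := by
    intro i
    have := hψ' (MvPolynomial.X i)
    rwa [MvPolynomial.coe_X, MvPolynomial.aeval_X] at this
  -- compatibility with the augmentations
  have hres : B.res.comp ψ' = R.res.comp e.symm.toAlgHom := by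
    refine ps_algHom_ext (base Λ k) (B.res.comp ψ') (R.res.comp e.symm.toAlgHom) ?_ ?_
    · intro i
      change B.res (ψ' (X i)) ∈ _
      rw [hψ'X, (Art.mem_maximalIdeal_iff B _).1 (hβmem i)]
      exact zero_mem _
    · intro i
      change B.res (ψ' (X i)) = R.res (e.symm (X i))
      rw [hψ'X, (Art.mem_maximalIdeal_iff B _).1 (hβmem i),
        (CRing.mem_maximalIdeal_iff R _).1 (hx i)]
  have hμψ : μ.toAlgHom.comp ψ' = φ.1.comp e.symm.toAlgHom := by
    refine ps_algHom_ext A _ _ ?_ ?_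
    · intro i
      change μ (ψ' (X i)) ∈ _
      rw [hψ'X, hβ i]
      exact homSet_mem_maximalIdeal φ (hx i)
    · intro i
      change μ (ψ' (X i)) = φ.1 (e.symm (X i))
      rw [hψ'X, hβ i]
  refine ⟨⟨ψ'.comp e.toAlgHom, ?_⟩, ?_⟩
  · rw [← AlgHom.comp_assoc, hres]
    apply AlgHom.ext
    intro x
    change R.res (e.symm (e x)) = R.res x
    rw [AlgEquiv.symm_apply_apply]
  · apply Subtype.ext
    change μ.toAlgHom.comp (ψ'.comp e.toAlgHom) = φ.1
    rw [← AlgHom.comp_assoc, hμψ]
    apply AlgHom.ext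
    intro x
    change φ.1 (e.symm (e x)) = φ.1 x
    rw [AlgEquiv.symm_apply_apply]

end PowerSeriesSmooth

end Groth.Agent.Helper3.ArtFunLib
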