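import Mathlib
import Groth.Agent.Lib.Helper3.SchlG

set_option linter.style.haveILetI false

universe u v w

open CategoryTheory

namespace Groth.Agent.Helper3.ArtFunLib

open ArtFun ArtFun.Art

section BaseChange

variable {Λ Λ₁ k : Type u} [CommRing Λ] [CommRing Λ₁] [Field k] [Algebra Λ Λ₁] [Algebra Λ k]
  [Algebra Λ₁ k] [IsScalarTower Λ Λ₁ k]

/-- an object over `Λ` with a compatible `Λ₁`-structure, as an object over `Λ₁` -/
noncomputable def extendArt (A : Art Λ k) (j : Λ₁ →ₐ[Λ] A)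
    (hj : ∀ p, A.res (j p) = algebraMap Λ₁ k p) : Art Λ₁ k :=
  letI : Algebra Λ₁ A.carrier := j.toRingHom.toAlgebra
  { carrier := A.carrier
    res := { A.res.toRingHom with commutes' := hj }
    res_surjective := A.res_surjective }

/-- a coefficient ring over `Λ₁`, regarded over `Λ` -/
noncomputable abbrev restrictCRing (P₁ : CRing Λ₁ k) : CRing Λ k :=
  letI : Algebra Λ P₁.carrier := Algebra.compHom P₁.carrier (algebraMap Λ Λ₁)
  haveI : IsScalarTower Λ Λ₁ P₁.carrier := IsScalarTower.of_algebraMap_eq (fun _ => rfl)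
  { carrier := P₁.carrier
    res := P₁.res.restrictScalars Λ
    res_surjective := P₁.res_surjective
    isAdicComplete := P₁.isAdicComplete }

theorem restrictCRing_algebraMap (P₁ : CRing Λ₁ k) (l : Λ) :
    algebraMap Λ (restrictCRing (Λ := Λ) P₁).carrier l =
      algebraMap Λ₁ P₁.carrier (algebraMap Λ Λ₁ l) := rfl

theorem restrictCRing_res (P₁ : CRing Λ₁ k) (x : P₁.carrier) :
    (restrictCRing (Λ := Λ) P₁).res x = P₁.res x := rfl

/-- points of the restricted ring lift along surjections when `Λ₁` is free enough -/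
theorem restrict_smooth
    (hfree : ∀ ⦃B A : Art Λ k⦄ (μ : B ⟶ A), Function.Surjective μ → ∀ j : Λ₁ →ₐ[Λ] A,
      ∃ j' : Λ₁ →ₐ[Λ] B, ∀ p, μ (j' p) = j p)
    (P₁ : CRing Λ₁ k)
    (hsm₁ : ∀ ⦃B₁ A₁ : Art Λ₁ k⦄ (μ₁ : B₁ ⟶ A₁), Function.Surjective μ₁ →
      ∀ b : HomSet P₁.carrier P₁.res A₁, ∃ χ : HomSet P₁.carrier P₁.res B₁, HomSet.map μ₁ χ = b)
    ⦃B A : Art Λ k⦄ (μ : B ⟶ A) (hμ : Function.Surjective μ)
    (b : HomSet (restrictCRing (Λ := Λ) P₁).carrier (restrictCRing (Λ := Λ) P₁).res A) :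
    ∃ χ : HomSet (restrictCRing (Λ := Λ) P₁).carrier (restrictCRing (Λ := Λ) P₁).res B,
      HomSet.map μ χ = b := by
  have hbres : ∀ x : P₁.carrier, A.res (b.1 x) = P₁.res x := fun x =>
    congrArg (fun g : (restrictCRing (Λ := Λ) P₁).carrier →ₐ[Λ] k => g x) b.2
  let jA : Λ₁ →ₐ[Λ] A :=
    { toFun := fun p => b.1 (algebraMap Λ₁ P₁.carrier p)
      map_one' := by rw [map_one, map_one]
      map_mul' := fun p q => by rw [map_mul, map_mul]
      map_zero' := by rw [map_zero, map_zero]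
      map_add' := fun p q => by rw [map_add, map_add]
      commutes' := fun l => by
        rw [← restrictCRing_algebraMap P₁ l]
        exact b.1.commutes l }
  have hjA : ∀ p, A.res (jA p) = algebraMap Λ₁ k p := fun p => by
    change A.res (b.1 (algebraMap Λ₁ P₁.carrier p)) = _
    rw [hbres]
    exact P₁.res.commutes p
  obtain ⟨jB, hjB⟩ := hfree μ hμ jA
  have hjB' : ∀ p, B.res (jB p) = algebraMap Λ₁ k p := fun p => by
    rw [← Art.res_app μ, hjB, hjA]
  let A₁ : Art Λ₁ k := extendArt A jA hjA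
  let B₁ : Art Λ₁ k := extendArt B jB hjB'
  let μ₁ : B₁ ⟶ A₁ :=
    ⟨{ μ.toAlgHom.toRingHom with commutes' := fun p => hjB p },
      AlgHom.ext fun x => Art.res_app μ x⟩
  let b₁ : HomSet P₁.carrier P₁.res A₁ :=
    ⟨{ b.1.toRingHom with commutes' := fun p => rfl }, AlgHom.ext fun x => hbres x⟩
  obtain ⟨χ₁, hχ₁⟩ := hsm₁ μ₁ hμ b₁
  have hχres : ∀ x : P₁.carrier, B.res (χ₁.1 x) = P₁.res x := fun x =>
    congrArg (fun g : P₁.carrier →ₐ[Λ₁] k => g x) χ₁.2
  refine ⟨⟨{ χ₁.1.toRingHom with commutes' := fun l => ?_ }, AlgHom.ext fun x => hχres x⟩, ?_⟩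
  · rw [restrictCRing_algebraMap P₁ l]
    have h1 : χ₁.1 (algebraMap Λ₁ P₁.carrier (algebraMap Λ Λ₁ l)) = jB (algebraMap Λ Λ₁ l) :=
      χ₁.1.commutes (algebraMap Λ Λ₁ l)
    exact h1.trans (jB.commutes l)
  · apply Subtype.ext
    apply AlgHom.ext
    intro x
    exact congrArg (fun t : HomSet P₁.carrier P₁.res A₁ => t.1 x) hχ₁

end BaseChange

section General

variable {Λ : Type u} {k : Type u} [CommRing Λ] [Field k] [Algebra Λ k]

/-- for `Λ` Noetherian and `Λ → k` finite there is a coefficient ring with smooth functor of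
points and a surjection onto `k ⊕ k^r` -/
theorem exists_smooth_cring [IsNoetherianRing Λ] [Module.Finite Λ k] (r : ℕ) :
    ∃ P : CRing Λ k,
      (∀ ⦃B A : Art Λ k⦄ (μ : B ⟶ A), Function.Surjective μ → ∀ b : HomSet P.carrier P.res A,
        ∃ χ : HomSet P.carrier P.res B, HomSet.map μ χ = b) ∧
      ∃ π₀ : HomSet P.carrier P.res (tsz Λ k r), Function.Surjective π₀.1 := by
  obtain ⟨s, c, hc⟩ := Module.Finite.exists_fin (R := Λ) (M := k)
  letI alg₁ : Algebra (MvPolynomial (Fin s) Λ) k :=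
    (MvPolynomial.aeval c : MvPolynomial (Fin s) Λ →ₐ[Λ] k).toRingHom.toAlgebra
  have halg : ∀ p : MvPolynomial (Fin s) Λ, algebraMap (MvPolynomial (Fin s) Λ) k p =
      MvPolynomial.aeval c p := fun _ => rfl
  haveI : IsScalarTower Λ (MvPolynomial (Fin s) Λ) k :=
    IsScalarTower.of_algebraMap_eq (fun l => by
      rw [halg, MvPolynomial.algebraMap_eq, MvPolynomial.aeval_C])
  have hk₁ : Function.Surjective (algebraMap (MvPolynomial (Fin s) Λ) k) := by
    intro y
    have h1 : Submodule.span Λ (Set.range c) ≤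
        Subalgebra.toSubmodule (MvPolynomial.aeval c : MvPolynomial (Fin s) Λ →ₐ[Λ] k).range := by
      rw [Submodule.span_le]
      rintro _ ⟨i, rfl⟩
      exact ⟨MvPolynomial.X i, MvPolynomial.aeval_X c i⟩
    have h2 : y ∈ Submodule.span Λ (Set.range c) := by rw [hc]; exact Submodule.mem_top
    obtain ⟨p, hp⟩ := h1 h2
    exact ⟨p, hp⟩
  obtain ⟨P₁, ⟨fd⟩⟩ := exists_freeCRing hk₁ r
  refine ⟨restrictCRing P₁, ?_, ?_⟩
  · apply restrict_smooth ?_ P₁ (fun _ _ μ₁ hμ₁ b => fd.exists_lift μ₁ hμ₁ b)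
    intro B A μ hμ j
    choose β hβ using fun i => hμ (j (MvPolynomial.X i))
    refine ⟨MvPolynomial.aeval β, ?_⟩
    intro p
    have h3 : μ.toAlgHom.comp (MvPolynomial.aeval β) = j := by
      apply MvPolynomial.algHom_ext
      intro i
      change μ (MvPolynomial.aeval β (MvPolynomial.X i)) = j (MvPolynomial.X i)
      rw [MvPolynomial.aeval_X, hβ]
    exact congrArg (fun g : MvPolynomial (Fin s) Λ →ₐ[Λ] A => g p) h3
  · obtain ⟨π₁, hπ₁⟩ := fd.exists_point (tsz (MvPolynomial (Fin s) Λ) k r)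
      (fun j => tszEps j) (fun j => tszEps_mem j)
    have hsurj : Function.Surjective π₁.1 := fun y =>
      tsze_mem_subalgebra hk₁ π₁.1.range (fun j => ⟨fd.gen j, hπ₁ j⟩) y
    have hπres : ∀ x : P₁.carrier, TrivSqZeroExt.fst (π₁.1 x : TrivSqZeroExt k (Fin r → k)) =
        P₁.res x := fun x =>
      congrArg (fun g : P₁.carrier →ₐ[MvPolynomial (Fin s) Λ] k => g x) π₁.2
    let π₀ : (restrictCRing (Λ := Λ) P₁).carrier →ₐ[Λ] (tsz Λ k r) :=
      { toFun := fun x => (π₁.1 x : TrivSqZeroExt k (Fin r → k))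
        map_one' := map_one π₁.1
        map_mul' := map_mul π₁.1
        map_zero' := map_zero π₁.1
        map_add' := map_add π₁.1
        commutes' := fun l => by
          have h4 : π₁.1 (algebraMap (MvPolynomial (Fin s) Λ) P₁.carrier
              (algebraMap Λ (MvPolynomial (Fin s) Λ) l)) =
              algebraMap (MvPolynomial (Fin s) Λ) (TrivSqZeroExt k (Fin r → k))
                (algebraMap Λ (MvPolynomial (Fin s) Λ) l) :=
            π₁.1.commutes _
          have h5 : algebraMap (MvPolynomial (Fin s) Λ) (TrivSqZeroExt k (Fin r → k))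
              (algebraMap Λ (MvPolynomial (Fin s) Λ) l) =
              algebraMap Λ (TrivSqZeroExt k (Fin r → k)) l := by
            rw [TrivSqZeroExt.algebraMap_eq_inl', TrivSqZeroExt.algebraMap_eq_inl',
              ← IsScalarTower.algebraMap_apply]
          exact h4.trans h5 }
    refine ⟨⟨π₀, ?_⟩, hsurj⟩
    apply AlgHom.ext
    intro x
    exact hπres x

end General

section VersalExistence

variable {Λ : Type u} {k : Type u} [CommRing Λ] [Field k] [Algebra Λ k]
variable {F : Art Λ k ⥤ Type v}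

/-- existence of versal families for `Λ → k` finite -/
theorem hasVersal_of_conditions [IsNoetherianRing Λ] [Module.Finite Λ k] [TangentStr F]
    (h0 : H0 F) (h1 : S1 F) (h2 : Heps F) (h3 : Hfin F) : HasVersal F := by
  haveI : Module.Finite k (TangentSpace F) := h3
  let v := Module.finBasis k (TangentSpace F)
  obtain ⟨P, hsm, π₀, hπ₀⟩ :=
    exists_smooth_cring (Λ := Λ) (k := k) (Module.finrank k (TangentSpace F))
  obtain ⟨ξ₀, hξ₀⟩ := exists_tsz_elt h0 h2 _ (fun j => v j)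
  have hbij := tszTangent_bijective ξ₀ v hξ₀
  let s₀ : Stage P F := ⟨tsz Λ k _, π₀, hπ₀, ξ₀⟩
  let t := mkTower h1 s₀
  have ht : ∀ q, IsStep (t q) (t (q + 1)) := mkTower_step h1 s₀
  refine ⟨⟨towerRing t, towerFamily t ht,
    towerFamily_isVersal t ht h1 h2 (fun _ _ μ hμ b => hsm μ hμ.1 b) ?_⟩⟩
  intro τ
  obtain ⟨L, hL⟩ := hbij.2 τ
  exact ⟨tszToDual L, hL⟩

/-- the one-point functor -/
theorem exists_smooth_hR [IsNoetherianRing Λ] [Module.Finite Λ k] :
    ∃ R : CRing Λ k, IsSmoothFunctor (hR R.carrier R.res) := by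
  obtain ⟨P, hsm, -⟩ := exists_smooth_cring (Λ := Λ) (k := k) 0
  exact ⟨P, fun B A μ hμ b => hsm μ hμ b⟩

end VersalExistence

end Groth.Agent.Helper3.ArtFunLib
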