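import Mathlib
import Groth.Agent.Lib.Helper3.SchlH

set_option linter.style.haveILetI false

universe u v w

open CategoryTheory

namespace Groth.Agent.Helper3.ArtFunLib

open ArtFun ArtFun.Art

variable {Λ : Type u} {k : Type u} [CommRing Λ] [Field k] [Algebra Λ k]

section TangentPoints

variable {R : Type u} [CommRing R] [Algebra Λ R] {resR : R →ₐ[Λ] k}

/-- the trivial tangent point -/
def zeroPt : HomSet R resR (dual Λ k) := HomSet.map baseToDual hRBasePt

theorem dsnd_zeroPt (r : R) : dsnd ((zeroPt (R := R) (resR := resR) (Λ := Λ)).1 r) = 0 := rfl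

theorem eq_zeroPt_of_dsnd (D : HomSet R resR (dual Λ k)) (h : ∀ r, dsnd (D.1 r) = 0) :
    D = zeroPt := by
  apply Subtype.ext
  apply AlgHom.ext
  intro r
  exact dual_ext ((dfst_homSet D r).trans (dfst_homSet zeroPt r).symm) (h r)

theorem homSet_dual_ext {D D' : HomSet R resR (dual Λ k)}
    (h : ∀ r, dsnd (D.1 r) = dsnd (D'.1 r)) : D = D' := by
  apply Subtype.ext
  apply AlgHom.ext
  intro r
  exact dual_ext ((dfst_homSet D r).trans (dfst_homSet D' r).symm) (h r)

/-- the morphism `k[ε₁, ε₂] → k[ε]` induced by a functional -/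
def dual2Lin (L : k × k →ₗ[k] k) : dual2 Λ k ⟶ dual Λ k :=
  ⟨tszeMap L, AlgHom.ext fun _ => rfl⟩

theorem exists_pair (D₁ D₂ : HomSet R resR (dual Λ k)) :
    ∃ χ : HomSet R resR (dual2 Λ k), HomSet.map pr₁ χ = D₁ ∧ HomSet.map pr₂ χ = D₂ :=
  IsFibreProd.exists_lift_homSet (isFibreProd_dual2 (Λ := Λ) (k := k)) D₁ D₂
    (Subsingleton.elim (h := subsingleton_hR_base) _ _)

theorem dsnd_dual2Lin (L : k × k →ₗ[k] k) (χ : HomSet R resR (dual2 Λ k)) (r : R) :
    dsnd ((HomSet.map (dual2Lin L) χ).1 r) =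
      L (dsnd ((HomSet.map pr₁ χ).1 r), dsnd ((HomSet.map pr₂ χ).1 r)) := rfl

variable {F : Art Λ k ⥤ Type v}

theorem family_dual2_congr (h2 : Heps F) (ξ : Family R resR F) (χ χ' : HomSet R resR (dual2 Λ k))
    (h₁ : ξ.app _ (HomSet.map pr₁ χ) = ξ.app _ (HomSet.map pr₁ χ'))
    (h₂ : ξ.app _ (HomSet.map pr₂ χ) = ξ.app _ (HomSet.map pr₂ χ'))
    (m : dual2 Λ k ⟶ dual Λ k) :
    ξ.app _ (HomSet.map m χ) = ξ.app _ (HomSet.map m χ') := by
  have h : ξ.app _ χ = ξ.app _ χ' := by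
    apply (h2 pr₁ pr₂ (isFibreProd_dual2 (Λ := Λ) (k := k))).1
    apply FibProd.ext
    · change F.map pr₁ (ξ.app _ χ) = F.map pr₁ (ξ.app _ χ')
      rw [← ξ.natural, ← ξ.natural, h₁]
    · change F.map pr₂ (ξ.app _ χ) = F.map pr₂ (ξ.app _ χ')
      rw [← ξ.natural, ← ξ.natural, h₂]
  rw [ξ.natural, ξ.natural, h]

/-- the difference of two tangent points with the same image lies in the kernel -/
theorem exists_sub_pt (h2 : Heps F) (ξ : Family R resR F) (D₁ D₂ : HomSet R resR (dual Λ k))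
    (h : ξ.app _ D₁ = ξ.app _ D₂) :
    ∃ D : HomSet R resR (dual Λ k), ξ.app _ D = ξ.app _ zeroPt ∧
      ∀ r, dsnd (D.1 r) = dsnd (D₁.1 r) - dsnd (D₂.1 r) := by
  obtain ⟨χ, hχ1, hχ2⟩ := exists_pair D₁ D₂
  obtain ⟨χ', hχ'1, hχ'2⟩ := exists_pair D₂ D₂
  let m : dual2 Λ k ⟶ dual Λ k := dual2Lin (LinearMap.fst k k k - LinearMap.snd k k k)
  refine ⟨HomSet.map m χ, ?_, ?_⟩
  · rw [family_dual2_congr h2 ξ χ χ' (by rw [hχ1, hχ'1, h]) (by rw [hχ2, hχ'2]) m]
    congr 1
    apply eq_zeroPt_of_dsnd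
    intro r
    rw [dsnd_dual2Lin, hχ'1, hχ'2]
    simp
  · intro r
    rw [dsnd_dual2Lin, hχ1, hχ2]
    simp

/-- translating by a multiple of a kernel point does not change the image -/
theorem exists_add_smul_pt (h2 : Heps F) (ξ : Family R resR F) (D D' : HomSet R resR (dual Λ k))
    (h : ξ.app _ D = ξ.app _ zeroPt) (c : k) :
    ∃ D'' : HomSet R resR (dual Λ k), ξ.app _ D'' = ξ.app _ D' ∧
      ∀ r, dsnd (D''.1 r) = dsnd (D'.1 r) + c * dsnd (D.1 r) := by
  obtain ⟨χ, hχ1, hχ2⟩ := exists_pair D' D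
  obtain ⟨χ', hχ'1, hχ'2⟩ := exists_pair D' (zeroPt (R := R) (resR := resR))
  let m : dual2 Λ k ⟶ dual Λ k := dual2Lin (LinearMap.fst k k k + c • LinearMap.snd k k k)
  refine ⟨HomSet.map m χ, ?_, ?_⟩
  · rw [family_dual2_congr h2 ξ χ χ' (by rw [hχ1, hχ'1]) (by rw [hχ2, hχ'2, h]) m]
    congr 1
    apply homSet_dual_ext
    intro r
    rw [dsnd_dual2Lin, hχ'1, hχ'2, dsnd_zeroPt]
    simp
  · intro r
    rw [dsnd_dual2Lin, hχ1, hχ2]
    simp

end TangentPoints

section Separation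

variable (R : CRing Λ k)

/-- if `k` has no nonzero `Λ`-derivation, a nontrivial tangent point of `R` is nonzero on the
maximal ideal -/
theorem exists_mem_maximalIdeal_dsnd_ne_zero (hDer : Subsingleton (Derivation Λ k k))
    (D : HomSet R.carrier R.res (dual Λ k)) (hD : D ≠ zeroPt) :
    ∃ x ∈ IsLocalRing.maximalIdeal R.carrier, dsnd (D.1 x) ≠ 0 := by
  by_contra hcon
  have hcon : ∀ x ∈ IsLocalRing.maximalIdeal R.carrier, dsnd (D.1 x) = 0 := fun x hx => by
    by_contra hne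
    exact hcon ⟨x, hx, hne⟩
  apply hD
  let σ : k → R.carrier := Function.surjInv R.res_surjective
  have hσ : ∀ c, R.res (σ c) = c := Function.surjInv_eq R.res_surjective
  have hdiff : ∀ r r' : R.carrier, R.res r = R.res r' → dsnd (D.1 r) = dsnd (D.1 r') := by
    intro r r' h
    have h1 : r - r' ∈ IsLocalRing.maximalIdeal R.carrier := by
      rw [CRing.mem_maximalIdeal_iff, map_sub, h, sub_self]
    have h2 := hcon _ h1
    rw [map_sub] at h2
    have h3 : dsnd (D.1 r - D.1 r') = dsnd (D.1 r) - dsnd (D.1 r') := rfl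
    rw [h3, sub_eq_zero] at h2
    exact h2
  have hΛ : ∀ l : Λ, dsnd (D.1 (algebraMap Λ R.carrier l)) = 0 := by
    intro l
    rw [D.1.commutes]
    change (algebraMap Λ (TrivSqZeroExt k k) l).snd = 0
    rw [TrivSqZeroExt.algebraMap_eq_inl', TrivSqZeroExt.snd_inl]
  let Dl : k →ₗ[Λ] k :=
    { toFun := fun c => dsnd (D.1 (σ c))
      map_add' := fun c c' => by
        rw [hdiff (σ (c + c')) (σ c + σ c') (by rw [map_add, hσ, hσ, hσ]), map_add, dsnd_add]
      map_smul' := fun l c => by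
        rw [hdiff (σ (l • c)) (algebraMap Λ R.carrier l * σ c) (by
          rw [map_mul, hσ, hσ, AlgHom.commutes, Algebra.smul_def]), map_mul, dsnd_mul, hΛ,
          mul_zero, add_zero, dfst_homSet, AlgHom.commutes, RingHom.id_apply, Algebra.smul_def] }
  let Dk : Derivation Λ k k := Derivation.mk' Dl (fun c c' => by
    change dsnd (D.1 (σ (c * c'))) = c • dsnd (D.1 (σ c')) + c' • dsnd (D.1 (σ c))
    rw [hdiff (σ (c * c')) (σ c * σ c') (by rw [map_mul, hσ, hσ, hσ]), map_mul, dsnd_mul,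
      dfst_homSet, dfst_homSet, hσ, hσ]
    rfl)
  have hDk : Dk = 0 := Subsingleton.elim _ _
  apply eq_zeroPt_of_dsnd
  intro r
  rw [hdiff r (σ (R.res r)) (hσ _).symm]
  have := congrArg (fun d : Derivation Λ k k => d (R.res r)) hDk
  exact this

end Separation

section Twist

variable {R : Type u} [CommRing R] [Algebra Λ R] {resR : R →ₐ[Λ] k}

/-- twisting a point by a tangent vector along a small extension -/
theorem exists_twist {B A : Art Λ k} (μ : B ⟶ A) (hμ : IsSmallExt μ) {t : B}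
    (ht : t ∈ RingHom.ker μ.toAlgHom)
    (ψ : HomSet R resR B) (D : HomSet R resR (dual Λ k)) :
    ∃ ψ' : HomSet R resR B, HomSet.map μ ψ' = HomSet.map μ ψ ∧
      ∀ (r : R) (b : B), B.res b = dsnd (D.1 r) → ψ'.1 r = ψ.1 r + b * t := by
  have hann : ∀ m ∈ IsLocalRing.maximalIdeal B, m * t = 0 := by
    intro m hm
    have : m * t ∈ IsLocalRing.maximalIdeal B * RingHom.ker μ.toAlgHom :=
      Ideal.mul_mem_mul hm ht
    rw [hμ.2.2.2] at this
    exact this
  have htm : t ∈ IsLocalRing.maximalIdeal B := ker_le_maximalIdeal μ ht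
  let σ : k → B := Function.surjInv B.res_surjective
  have hσ : ∀ c, B.res (σ c) = c := Function.surjInv_eq B.res_surjective
  have hkt : ∀ (c : k) (b : B), B.res b = c → b * t = σ c * t := by
    intro c b hb
    have h1 : b - σ c ∈ IsLocalRing.maximalIdeal B := by
      rw [Art.mem_maximalIdeal_iff, map_sub, hb, hσ, sub_self]
    have h2 := hann _ h1
    rw [sub_mul, sub_eq_zero] at h2
    exact h2
  have hψres : ∀ r, B.res (ψ.1 r) = resR r := fun r =>
    congrArg (fun g : R →ₐ[Λ] k => g r) ψ.2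
  have hμt : μ t = 0 := ht
  let δ : R → k := fun r => dsnd (D.1 r)
  have hδadd : ∀ r r', δ (r + r') = δ r + δ r' := fun r r' => by
    change dsnd (D.1 (r + r')) = _
    rw [map_add, dsnd_add]
  have hδmul : ∀ r r', δ (r * r') = resR r * δ r' + resR r' * δ r := fun r r' => by
    change dsnd (D.1 (r * r')) = _
    rw [map_mul, dsnd_mul, dfst_homSet, dfst_homSet]
  have hδΛ : ∀ l : Λ, δ (algebraMap Λ R l) = 0 := by
    intro l
    change dsnd (D.1 (algebraMap Λ R l)) = 0
    rw [D.1.commutes]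
    change (algebraMap Λ (TrivSqZeroExt k k) l).snd = 0
    rw [TrivSqZeroExt.algebraMap_eq_inl', TrivSqZeroExt.snd_inl]
  have hδ0 : δ 0 = 0 := by
    have := hδadd 0 0
    rw [add_zero] at this
    exact (add_eq_left.1 this.symm)
  have hδ1 : δ 1 = 0 := by
    have := hδΛ 1
    rwa [map_one] at this
  let ψ' : R →ₐ[Λ] B :=
    { toFun := fun r => ψ.1 r + σ (δ r) * t
      map_one' := by
        rw [hδ1, ← hkt 0 0 (map_zero _), zero_mul, add_zero, map_one]
      map_mul' := fun r r' => by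
        rw [map_mul, hδmul]
        have e1 : σ (resR r * δ r' + resR r' * δ r) * t =
            ψ.1 r * (σ (δ r') * t) + ψ.1 r' * (σ (δ r) * t) := by
          rw [← hkt _ (ψ.1 r * σ (δ r') + ψ.1 r' * σ (δ r)) (by
            rw [map_add, map_mul, map_mul, hψres, hψres, hσ, hσ])]
          ring
        have e2 : σ (δ r) * t * (σ (δ r') * t) = 0 := by
          have : t * t = 0 := hann t htm
          calc σ (δ r) * t * (σ (δ r') * t) = σ (δ r) * σ (δ r') * (t * t) := by ring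
            _ = 0 := by rw [this, mul_zero]
        rw [e1]
        have : (ψ.1 r + σ (δ r) * t) * (ψ.1 r' + σ (δ r') * t) =
            ψ.1 r * ψ.1 r' + (ψ.1 r * (σ (δ r') * t) + ψ.1 r' * (σ (δ r) * t)) +
              σ (δ r) * t * (σ (δ r') * t) := by ring
        rw [this, e2, add_zero]
      map_zero' := by
        rw [hδ0, ← hkt 0 0 (map_zero _), zero_mul, add_zero, map_zero]
      map_add' := fun r r' => by
        rw [map_add, hδadd, ← hkt _ (σ (δ r) + σ (δ r')) (by rw [map_add, hσ, hσ])]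
        ring
      commutes' := fun l => by
        rw [hδΛ, ← hkt 0 0 (map_zero _), zero_mul, add_zero]
        exact ψ.1.commutes l }
  refine ⟨⟨ψ', ?_⟩, ?_, ?_⟩
  · apply AlgHom.ext
    intro r
    change B.res (ψ.1 r + σ (δ r) * t) = resR r
    rw [map_add, map_mul, (Art.mem_maximalIdeal_iff B t).1 htm, mul_zero, add_zero, hψres]
  · apply Subtype.ext
    apply AlgHom.ext
    intro r
    change μ (ψ.1 r + σ (δ r) * t) = μ (ψ.1 r)
    rw [map_add, map_mul, hμt, mul_zero, add_zero]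
  · intro r b hb
    change ψ.1 r + σ (δ r) * t = ψ.1 r + b * t
    rw [hkt _ b hb]

end Twist

section Cut

variable {F : Art Λ k ⥤ Type v}

/-- the restriction of a family to a quotient of the coefficient ring -/
noncomputable def quoFam {R : CRing Λ k} (ξ : Family R.carrier R.res F) (J : Ideal R.carrier)
    (hJ : J ≤ IsLocalRing.maximalIdeal R.carrier) :
    Family (quotCRing R J hJ).carrier (quotCRing R J hJ).res F :=
  ξ.along (quotCRingHom R J hJ) (quotCRingHom_res R J hJ)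

theorem quoFam_app {R : CRing Λ k} (ξ : Family R.carrier R.res F) (J : Ideal R.carrier)
    (hJ : J ≤ IsLocalRing.maximalIdeal R.carrier) (A : Art Λ k)
    (a : HomSet (quotCRing R J hJ).carrier (quotCRing R J hJ).res A) :
    (quoFam ξ J hJ).app A a = ξ.app A (toP a) := rfl

theorem mem_ker_of_dsnd {R : CRing Λ k} (D : HomSet R.carrier R.res (dual Λ k)) {r : R.carrier}
    (hr : r ∈ IsLocalRing.maximalIdeal R.carrier) (h : dsnd (D.1 r) = 0) :
    r ∈ RingHom.ker D.1 := by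
  rw [RingHom.mem_ker]
  refine dual_ext ?_ h
  rw [dfst_homSet]
  exact (CRing.mem_maximalIdeal_iff R r).1 hr

theorem dsnd_eq_zero_of_mem_ker {R : CRing Λ k} (D : HomSet R.carrier R.res (dual Λ k))
    {r : R.carrier} (h : r ∈ RingHom.ker D.1) : dsnd (D.1 r) = 0 := by
  rw [RingHom.mem_ker.1 h]
  rfl

/-- one cutting step: dividing by an element on which a kernel tangent vector is nonzero keeps
versality -/
theorem isVersal_quoFam_sup [Module.Finite Λ k] (h0 : H0 F) (h1 : S1 F) (h2 : Heps F)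
    (R : CRing Λ k) (ξ : Family R.carrier R.res F) (J : Ideal R.carrier)
    (hJ : J ≤ IsLocalRing.maximalIdeal R.carrier) (hv : IsVersal (quoFam ξ J hJ))
    (D : HomSet R.carrier R.res (dual Λ k)) (hDJ : J ≤ RingHom.ker D.1)
    (hD : ξ.app _ D = ξ.app _ zeroPt) (x : R.carrier)
    (hx : x ∈ IsLocalRing.maximalIdeal R.carrier) (hDx : dsnd (D.1 x) ≠ 0)
    (hJ' : J ⊔ Ideal.span {x} ≤ IsLocalRing.maximalIdeal R.carrier) :
    IsVersal (quoFam ξ (J ⊔ Ideal.span {x}) hJ') := by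
  refine isVersal_of_tangent_surjective_of_lift h1 h2 _ ?_ ?_
  · intro τ
    obtain ⟨a', ha'⟩ := surjective_app_of_isVersal h0 _ hv (dual Λ k) τ
    have ha'' : ξ.app _ (toP a') = τ := ha'
    obtain ⟨D'', hD''1, hD''2⟩ :=
      exists_add_smul_pt h2 ξ D (toP a') hD (-(dsnd ((toP a').1 x)) / dsnd (D.1 x))
    have hle : J ⊔ Ideal.span {x} ≤ RingHom.ker D''.1 := by
      refine sup_le ?_ ?_
      · intro r hr
        apply mem_ker_of_dsnd D'' (hJ hr)
        rw [hD''2, dsnd_eq_zero_of_mem_ker _ (le_ker_toP a' hr),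
          dsnd_eq_zero_of_mem_ker _ (hDJ hr), mul_zero, add_zero]
      · rw [Ideal.span_le, Set.singleton_subset_iff]
        apply mem_ker_of_dsnd D'' hx
        rw [hD''2]
        field_simp
        ring
    obtain ⟨b, hb⟩ := exists_toP_eq (hJ := hJ') D'' hle
    refine ⟨b, ?_⟩
    change ξ.app _ (toP b) = τ
    rw [hb, hD''1, ha'']
  · intro B A μ hμ φ' y hy
    have hy' : F.map μ y = ξ.app A (toP φ') := hy
    obtain ⟨φJ, hφJ⟩ := exists_toP_eq (hJ := hJ) (toP φ') (le_sup_left.trans (le_ker_toP φ'))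
    obtain ⟨ψJ, hψ1, hψ2⟩ := hv μ hμ.1 φJ y (by
      change F.map μ y = ξ.app A (toP φJ)
      rw [hφJ]; exact hy')
    have hψμ : HomSet.map μ (toP ψJ) = toP φ' := by
      rw [← toP_map, hψ1, hφJ]
    obtain ⟨t₀, ht₀⟩ := hμ.2.2.1.principal
    have hspan : RingHom.ker μ.toAlgHom ≤ Ideal.span {t₀} := le_of_eq ht₀
    have ht₀mem : t₀ ∈ RingHom.ker μ.toAlgHom := (le_of_eq ht₀.symm) (Ideal.subset_span rfl)
    have hxker : (toP ψJ).1 x ∈ RingHom.ker μ.toAlgHom := by
      rw [RingHom.mem_ker]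
      have e1 : μ ((toP ψJ).1 x) = (toP φ').1 x :=
        congrArg (fun t : HomSet R.carrier R.res A => t.1 x) hψμ
      rw [e1]
      exact RingHom.mem_ker.1 (le_ker_toP φ' (le_sup_right (a := J)
        (Ideal.subset_span (Set.mem_singleton x))))
    obtain ⟨b₀, hb₀⟩ := Ideal.mem_span_singleton'.1 (hspan hxker)
    obtain ⟨ψ', hψ'1, hψ'2⟩ := exists_twist μ hμ ht₀mem (toP ψJ)
      (HomSet.map (scale (-(B.res b₀) / dsnd (D.1 x))) D)
    have hDc : ∀ r, dsnd ((HomSet.map (scale (-(B.res b₀) / dsnd (D.1 x))) D).1 r) =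
        (-(B.res b₀) / dsnd (D.1 x)) * dsnd (D.1 r) := fun r => rfl
    have hle : J ⊔ Ideal.span {x} ≤ RingHom.ker ψ'.1 := by
      refine sup_le ?_ ?_
      · intro r hr
        rw [RingHom.mem_ker, hψ'2 r 0 (by
          rw [map_zero, hDc, dsnd_eq_zero_of_mem_ker _ (hDJ hr), mul_zero]), zero_mul, add_zero]
        exact RingHom.mem_ker.1 (le_ker_toP ψJ hr)
      · rw [Ideal.span_le, Set.singleton_subset_iff]
        change x ∈ RingHom.ker ψ'.1
        rw [RingHom.mem_ker, hψ'2 x (-b₀) (by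
          rw [map_neg, hDc]
          field_simp), ← hb₀]
        ring
    obtain ⟨a, ha⟩ := exists_toP_eq (hJ := hJ') ψ' hle
    refine ⟨a, toP_injective ?_⟩
    rw [toP_map, ha, hψ'1, hψμ]

/-- a versal family can be cut down to a miniversal one, when kernel tangent vectors are detected
on the maximal ideal -/
theorem exists_miniversal_quotient [Module.Finite Λ k] (h0 : H0 F) (h2 : Heps F)
    (R : CRing Λ k) (ξ : Family R.carrier R.res F) (hξ : IsVersal ξ)
    (hsep : ∀ D : HomSet R.carrier R.res (dual Λ k), ξ.app _ D = ξ.app _ zeroPt → D ≠ zeroPt →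
      ∃ x ∈ IsLocalRing.maximalIdeal R.carrier, dsnd (D.1 x) ≠ 0) :
    ∃ (J : Ideal R.carrier) (hJ : J ≤ IsLocalRing.maximalIdeal R.carrier),
      IsMiniversal (quoFam ξ J hJ) := by
  have h1 : S1 F := s1_of_isVersal h0 ξ hξ
  let S : Set (Ideal R.carrier) :=
    {J | ∃ hJ : J ≤ IsLocalRing.maximalIdeal R.carrier, IsVersal (quoFam ξ J hJ)}
  have hbot : (⊥ : Ideal R.carrier) ∈ S := by
    refine ⟨bot_le, ?_⟩
    intro B A μ hμ φ' y hy
    obtain ⟨ψ, hψ1, hψ2⟩ := hξ μ hμ (toP φ') y hy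
    obtain ⟨a, ha⟩ := exists_toP_eq (hJ := (bot_le : (⊥ : Ideal R.carrier) ≤ _)) ψ bot_le
    refine ⟨a, toP_injective ?_, ?_⟩
    · rw [toP_map, ha, hψ1]
    · change ξ.app B (toP a) = y
      rw [ha, hψ2]
  obtain ⟨J, ⟨hJ, hv⟩, hmax⟩ :=
    (set_has_maximal_iff_noetherian (R := R.carrier) (M := R.carrier)).2 inferInstance S ⟨⊥, hbot⟩
  refine ⟨J, hJ, hv, ?_, surjective_app_of_isVersal h0 _ hv (dual Λ k)⟩
  intro a₁ a₂ h
  by_contra hne
  have h' : ξ.app _ (toP a₁) = ξ.app _ (toP a₂) := h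
  obtain ⟨D, hD1, hD2⟩ := exists_sub_pt h2 ξ (toP a₁) (toP a₂) h'
  have hDne : D ≠ zeroPt := by
    intro hD0
    apply hne
    apply toP_injective
    apply homSet_dual_ext
    intro r
    have := hD2 r
    rw [hD0, dsnd_zeroPt] at this
    exact (sub_eq_zero.1 this.symm)
  have hDJ : J ≤ RingHom.ker D.1 := by
    intro r hr
    apply mem_ker_of_dsnd D (hJ hr)
    rw [hD2, dsnd_eq_zero_of_mem_ker _ (le_ker_toP a₁ hr),
      dsnd_eq_zero_of_mem_ker _ (le_ker_toP a₂ hr), sub_zero]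
  obtain ⟨x, hx, hDx⟩ := hsep D hD1 hDne
  have hJ' : J ⊔ Ideal.span {x} ≤ IsLocalRing.maximalIdeal R.carrier :=
    sup_le hJ (by rw [Ideal.span_le, Set.singleton_subset_iff]; exact hx)
  have hmem : J ⊔ Ideal.span {x} ∈ S :=
    ⟨hJ', isVersal_quoFam_sup h0 h1 h2 R ξ J hJ hv D hDJ hD1 x hx hDx hJ'⟩
  apply hmax _ hmem
  refine lt_of_le_of_ne le_sup_left (fun heq => hDx ?_)
  have hxJ : x ∈ J := by
    rw [heq]
    exact le_sup_right (a := J) (Ideal.subset_span (Set.mem_singleton x))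
  exact dsnd_eq_zero_of_mem_ker D (hDJ hxJ)

end Cut

section GeneralCriteria

variable {F : Art Λ k ⥤ Type v}

/-- existence of hulls when `k` has no nonzero `Λ`-derivation -/
theorem hasHull_of_conditions_of_subsingleton_derivation [IsNoetherianRing Λ]
    [Module.Finite Λ k] (hDer : Subsingleton (Derivation Λ k k)) [TangentStr F]
    (h0 : H0 F) (h1 : S1 F) (h2 : Heps F) (h3 : Hfin F) : HasHull F := by
  obtain ⟨⟨R, ξ, hξ⟩⟩ := hasVersal_of_conditions h0 h1 h2 h3
  obtain ⟨J, hJ, hm⟩ := exists_miniversal_quotient h0 h2 R ξ hξ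
    (fun D _ hD => exists_mem_maximalIdeal_dsnd_ne_zero R hDer D hD)
  exact ⟨⟨quotCRing R J hJ, quoFam ξ J hJ, hm⟩⟩

/-- pro-representability criterion for `Λ → k` finite -/
theorem isProrepresentable_iff_general [IsNoetherianRing Λ] [Module.Finite Λ k] [TangentStr F] :
    IsProrepresentable F ↔
      ((H0 F ∧ RS F) ∧ Hfin F ∧
        ∀ x₀ : F.obj (base Λ k),
          Function.Injective (fun σ : base Λ k ⟶ dual Λ k => F.map σ x₀)) := by
  constructor
  · rintro ⟨⟨R, ξ, hξ⟩⟩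
    have h0 := h0_of_isUniversal ξ hξ
    refine ⟨⟨h0, fun B A A' A'' p' p'' f' f'' h _ =>
      isLeftExact_of_isUniversal ξ hξ p' p'' f' f'' h⟩,
      hfin_of_tangent_surjective R ξ (hξ _).2, ?_⟩
    intro x₀ σ σ' hσ
    haveI := h0.2
    have hx₀ : x₀ = ξ.app _ hRBasePt := Subsingleton.elim _ _
    have hσ' : F.map σ x₀ = F.map σ' x₀ := hσ
    rw [hx₀, ← ξ.natural, ← ξ.natural] at hσ'
    have := (hξ _).1 hσ'
    exact factor_unique_of_surjective (P := R) hRBasePt R.res_surjective this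
  · rintro ⟨⟨h0, hRS⟩, h3, hc⟩
    have h1 : S1 F := fun B A A' A'' p' p'' f' f'' h hf => (hRS p' p'' f' f'' h hf).2
    have h2 : Heps F := fun B A' p' p'' h => hRS p' p'' _ _ h (surjective_toBase _)
    obtain ⟨⟨R, ξ, hξ⟩⟩ := hasVersal_of_conditions h0 h1 h2 h3
    obtain ⟨J, hJ, hm⟩ := exists_miniversal_quotient h0 h2 R ξ hξ (by
      intro D hD hDne
      by_contra hcon
      have hcon' : ∀ x ∈ IsLocalRing.maximalIdeal R.carrier, dsnd (D.1 x) = 0 := fun x hx => by
        by_contra hne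
        exact hcon ⟨x, hx, hne⟩
      have hker : RingHom.ker (hRBasePt (R := R.carrier) (resR := R.res) (Λ := Λ)).1 ≤
          RingHom.ker D.1 := by
        intro x hx
        have hx' : x ∈ IsLocalRing.maximalIdeal R.carrier :=
          (CRing.mem_maximalIdeal_iff R x).2 hx
        exact mem_ker_of_dsnd D hx' (hcon' x hx')
      obtain ⟨g, hg⟩ := exists_factor_of_surjective (P := R) hRBasePt R.res_surjective D hker
      apply hDne
      have e1 : F.map g (ξ.app _ hRBasePt) = F.map baseToDual (ξ.app _ hRBasePt) := by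
        rw [← ξ.natural, ← ξ.natural, hg, hD]
        rfl
      have e2 : g = baseToDual := hc _ e1
      rw [← hg, e2]
      rfl)
    exact ⟨⟨quotCRing R J hJ, quoFam ξ J hJ, isUniversal_of_isMiniversal h0
      (fun B A A' p₁ p₂ f h hf => (hRS p₁ p₂ f f h hf.1).1) _ hm⟩⟩

end GeneralCriteria

end Groth.Agent.Helper3.ArtFunLib
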