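import Mathlib
import Groth.Agent.Lib.Helper3.SchlI

set_option linter.style.haveILetI false

universe u v w

open CategoryTheory

namespace Groth.Agent.Helper3.ArtFunLib

open ArtFun ArtFun.Art

variable {Λ : Type u} {k : Type u} [CommRing Λ] [Field k] [Algebra Λ k]

section DualSmall

theorem ker_toBase (A : Art Λ k) :
    RingHom.ker (toBase A).toAlgHom = IsLocalRing.maximalIdeal A := by
  ext x
  rw [RingHom.mem_ker, Art.mem_maximalIdeal_iff]
  rfl

variable (Λ k) in
/-- `ε` -/
def dualEps : (dual Λ k).carrier := (TrivSqZeroExt.inr (1 : k) : TrivSqZeroExt k k)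

theorem dfst_dualEps : dfst (dualEps Λ k) = 0 := rfl

theorem dsnd_dualEps : dsnd (dualEps Λ k) = 1 := rfl

theorem dfst_mul (x y : (dual Λ k).carrier) : dfst (x * y) = dfst x * dfst y := rfl

variable (Λ) in
/-- constants -/
def dualInl (c : k) : (dual Λ k).carrier := (TrivSqZeroExt.inl c : TrivSqZeroExt k k)

theorem dfst_dualInl (c : k) : dfst (dualInl Λ c) = c := rfl

theorem dsnd_dualInl (c : k) : dsnd (dualInl Λ c) = 0 := rfl

theorem mem_maximalIdeal_dual_iff (x : (dual Λ k).carrier) :
    x ∈ IsLocalRing.maximalIdeal (dual Λ k) ↔ dfst x = 0 :=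
  Art.mem_maximalIdeal_iff _ x

/-- `k[ε] → k` is a small extension -/
theorem isSmallExt_toBase_dual : IsSmallExt (toBase (dual Λ k)) := by
  have hker := ker_toBase (dual Λ k)
  have hε : dualEps Λ k ∈ IsLocalRing.maximalIdeal (dual Λ k) :=
    (mem_maximalIdeal_dual_iff _).2 dfst_dualEps
  refine ⟨surjective_toBase _, ?_, ?_, ?_⟩
  · rw [hker]
    intro h
    rw [h, Ideal.mem_bot] at hε
    have h1 := congrArg dsnd hε
    rw [dsnd_dualEps] at h1
    exact one_ne_zero h1
  · rw [hker]
    refine ⟨⟨dualEps Λ k, ?_⟩⟩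
    apply le_antisymm
    · intro x hx
      rw [mem_maximalIdeal_dual_iff] at hx
      rw [Ideal.submodule_span_eq, Ideal.mem_span_singleton']
      refine ⟨dualInl Λ (dsnd x), ?_⟩
      apply dual_ext
      · rw [dfst_mul, dfst_dualEps, mul_zero, hx]
      · rw [dsnd_mul, dfst_dualInl, dsnd_dualEps, dsnd_dualInl, dfst_dualEps, mul_one, zero_mul,
          add_zero]
    · rw [Ideal.submodule_span_eq, Ideal.span_le, Set.singleton_subset_iff]
      exact hε
  · rw [hker, ← pow_two]
    exact maximalIdeal_dual_sq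

end DualSmall

end Groth.Agent.Helper3.ArtFunLib
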