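import Mathlib
import Groth.Agent.Lib.Helper3.SchlJ

set_option linter.style.haveILetI false

universe u v w

open CategoryTheory

namespace Groth.Agent.Helper3.ArtFunLib

open ArtFun ArtFun.Art

variable {Λ : Type u} {k : Type u} [CommRing Λ] [Field k] [Algebra Λ k]

section FormalLift

variable {F : Art Λ k ⥤ Type v}

/-- the point of the `n`-th truncation of `A` induced by a morphism `R → A` -/
noncomputable def truncPt {R A : CRing Λ k} (φ : R.carrier →ₐ[Λ] A.carrier)
    (hφ : A.res.comp φ = R.res) (n : ℕ) : HomSet R.carrier R.res (A.trunc n) :=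
  ⟨(A.truncHom n).1.comp φ, by rw [← AlgHom.comp_assoc, (A.truncHom n).2, hφ]⟩

theorem truncPt_apply {R A : CRing Λ k} (φ : R.carrier →ₐ[Λ] A.carrier)
    (hφ : A.res.comp φ = R.res) (n : ℕ) (r : R.carrier) :
    (truncPt φ hφ n).1 r = Ideal.Quotient.mk (CRing.mpow A n) (φ r) := rfl

theorem truncMap_truncPt {R A : CRing Λ k} (φ : R.carrier →ₐ[Λ] A.carrier)
    (hφ : A.res.comp φ = R.res) (n : ℕ) :
    HomSet.map (A.truncMap n) (truncPt φ hφ (n + 1)) = truncPt φ hφ n :=
  Subtype.ext (AlgHom.ext fun _ => rfl)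

theorem along_toFormalElt_elt {R A : CRing Λ k} (ξ : Family R.carrier R.res F)
    (φ : R.carrier →ₐ[Λ] A.carrier) (hφ : A.res.comp φ = R.res) (n : ℕ) :
    (ξ.along φ hφ).toFormalElt.elt n = ξ.app _ (truncPt φ hφ n) := rfl

/-- surjectivity of the comparison `A'/m^(n+2) → A'/m^(n+1) ×_{A/m^(n+1)} A/m^(n+2)` -/
theorem exists_trunc_lift {A' A : CRing Λ k} (g : A'.carrier →ₐ[Λ] A.carrier)
    (hg : A.res.comp g = A'.res) (hgs : Function.Surjective g) (n : ℕ)
    (x' : A'.trunc n) (y : A.trunc (n + 1))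
    (h : CRing.truncMapOfHom g hg n x' = A.truncMap n y) :
    ∃ z : A'.trunc (n + 1), A'.truncMap n z = x' ∧ CRing.truncMapOfHom g hg (n + 1) z = y := by
  obtain ⟨s', rfl⟩ := Ideal.Quotient.mk_surjective x'
  obtain ⟨s, rfl⟩ := Ideal.Quotient.mk_surjective y
  have h1 : Ideal.Quotient.mk (CRing.mpow A n) (g s') = Ideal.Quotient.mk (CRing.mpow A n) s := h
  have h2 : s - g s' ∈ CRing.mpow A n := by
    have := (Ideal.Quotient.eq (I := CRing.mpow A n)).1 h1.symm
    exact this
  have hmap : Ideal.map g (IsLocalRing.maximalIdeal A'.carrier) =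
      IsLocalRing.maximalIdeal A.carrier := by
    have hf' : (A.res : A.carrier →+* k).comp (g : A'.carrier →+* A.carrier) =
        (A'.res : A'.carrier →+* k) := by
      ext x
      exact congrArg (fun t : A'.carrier →ₐ[Λ] k => t x) hg
    exact ring_map_maximalIdeal_eq_of_surjective (A'.res : A'.carrier →+* k)
      (A.res : A.carrier →+* k) (g : A'.carrier →+* A.carrier) hf' A'.res_surjective
      A.res_surjective hgs
  have h3 : s - g s' ∈ Ideal.map g (CRing.mpow A' n) := by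
    rw [CRing.mpow, Ideal.map_pow, hmap]
    exact h2
  obtain ⟨m, hm, hgm⟩ := (Ideal.mem_map_iff_of_surjective g hgs).1 h3
  refine ⟨Ideal.Quotient.mk _ (s' + m), ?_, ?_⟩
  · change Ideal.Quotient.mk (CRing.mpow A' n) (s' + m) = Ideal.Quotient.mk (CRing.mpow A' n) s'
    refine (Ideal.Quotient.eq (I := CRing.mpow A' n)).2 ?_
    rw [add_sub_cancel_left]
    exact hm
  · change Ideal.Quotient.mk (CRing.mpow A (n + 1)) (g (s' + m)) =
      Ideal.Quotient.mk (CRing.mpow A (n + 1)) s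
    rw [map_add, hgm, add_sub_cancel]

end FormalLift

section FormalLift2

variable {F : Art Λ k ⥤ Type v}

theorem truncMapOfHom_surjective {A' A : CRing Λ k} (g : A'.carrier →ₐ[Λ] A.carrier)
    (hg : A.res.comp g = A'.res) (hgs : Function.Surjective g) (n : ℕ) :
    Function.Surjective (CRing.truncMapOfHom g hg n) := by
  intro y
  obtain ⟨s, rfl⟩ := Ideal.Quotient.mk_surjective y
  obtain ⟨s', rfl⟩ := hgs s
  exact ⟨Ideal.Quotient.mk _ s', rfl⟩

theorem truncMapOfHom_truncPt {R A' A : CRing Λ k} (g : A'.carrier →ₐ[Λ] A.carrier)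
    (hg : A.res.comp g = A'.res) (ψ : R.carrier →ₐ[Λ] A'.carrier) (hψ : A'.res.comp ψ = R.res)
    (n : ℕ) :
    HomSet.map (CRing.truncMapOfHom g hg n) (truncPt ψ hψ n) =
      truncPt (g.comp ψ) (by rw [← AlgHom.comp_assoc, hg, hψ]) n :=
  Subtype.ext (AlgHom.ext fun _ => rfl)

/-- versal families lift formal elements along surjections of coefficient rings -/
theorem exists_formal_lift [Module.Finite Λ k] (hRS : RS F)
    (R : CRing Λ k) (ξ : Family R.carrier R.res F) (hξ : IsVersal ξ)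
    (A' A : CRing Λ k) (g : A'.carrier →ₐ[Λ] A.carrier) (hg : A.res.comp g = A'.res)
    (hgs : Function.Surjective g) (η' : FormalElt F A')
    (φ : R.carrier →ₐ[Λ] A.carrier) (hφ : A.res.comp φ = R.res)
    (hsq : (ξ.along φ hφ).toFormalElt = η'.push g hg) :
    ∃ (ψ : R.carrier →ₐ[Λ] A'.carrier) (hψ : A'.res.comp ψ = R.res),
      g.comp ψ = φ ∧ (ξ.along ψ hψ).toFormalElt = η' := by
  have hlev : ∀ n, ξ.app _ (truncPt φ hφ n) = F.map (CRing.truncMapOfHom g hg n) (η'.elt n) :=
    fun n => congrArg (fun w : FormalElt F A => w.elt n) hsq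
  let Good : ∀ n, HomSet R.carrier R.res (A'.trunc n) → Prop := fun n a =>
    ξ.app _ a = η'.elt n ∧ HomSet.map (CRing.truncMapOfHom g hg n) a = truncPt φ hφ n
  -- base
  obtain ⟨a0, ha0⟩ : ∃ a, Good 0 a := by
    obtain ⟨a, h1, h2⟩ := hξ (CRing.truncMapOfHom g hg 0) (truncMapOfHom_surjective g hg hgs 0)
      (truncPt φ hφ 0) (η'.elt 0) (hlev 0).symm
    exact ⟨a, h2, h1⟩
  -- step
  have hstep : ∀ n (a : {a // Good n a}), ∃ b : HomSet R.carrier R.res (A'.trunc (n + 1)),
      Good (n + 1) b ∧ HomSet.map (A'.truncMap n) b = a.1 := by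
    rintro n ⟨a, ha1, ha2⟩
    have hs2 := truncMap_surjective A n
    let T := fibreProd (CRing.truncMapOfHom g hg n) (A.truncMap n) hs2
    have hT := isFibreProd_fibreProd (CRing.truncMapOfHom g hg n) (A.truncMap n) hs2
    obtain ⟨μ, hμ1, hμ2⟩ := IsFibreProd.exists_lift hT (A'.truncMap n)
      (CRing.truncMapOfHom g hg (n + 1)) (CRing.truncMapOfHom_truncMap g hg n).symm
    have hμs : Function.Surjective μ := by
      intro e
      obtain ⟨z, hz1, hz2⟩ := exists_trunc_lift g hg hgs n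
        (fibreProdFst _ _ hs2 e) (fibreProdSnd _ _ hs2 e) (hT.w_apply e)
      refine ⟨z, hT.inj _ _ ?_ ?_⟩
      · rw [← hz1, ← hμ1]; rfl
      · rw [← hz2, ← hμ2]; rfl
    obtain ⟨χ, hχ1, hχ2⟩ := IsFibreProd.exists_lift_homSet hT a (truncPt φ hφ (n + 1))
      (by rw [ha2, truncMap_truncPt])
    have hy : F.map μ (η'.elt (n + 1)) = ξ.app _ χ := by
      apply (hRS _ _ _ _ hT hs2).1
      apply FibProd.ext
      · change F.map (fibreProdFst _ _ hs2) (F.map μ (η'.elt (n + 1))) =
          F.map (fibreProdFst _ _ hs2) (ξ.app _ χ)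
        rw [← map_comp_app, hμ1, η'.compat, ← ξ.natural, hχ1, ha1]
      · change F.map (fibreProdSnd _ _ hs2) (F.map μ (η'.elt (n + 1))) =
          F.map (fibreProdSnd _ _ hs2) (ξ.app _ χ)
        rw [← map_comp_app, hμ2, ← ξ.natural, hχ2, hlev]
    obtain ⟨b, hb1, hb2⟩ := hξ μ hμs χ (η'.elt (n + 1)) hy
    refine ⟨b, ⟨hb2, ?_⟩, ?_⟩
    · rw [← hμ2, homSet_map_comp, hb1, hχ2]
    · rw [← hμ1, homSet_map_comp, hb1, hχ1]
  let step : ∀ n, {a // Good n a} → {a // Good (n + 1) a} := fun n a =>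
    ⟨Classical.choose (hstep n a), (Classical.choose_spec (hstep n a)).1⟩
  let seq : ∀ n, {a // Good n a} := fun n => Nat.rec ⟨a0, ha0⟩ step n
  have hseq : ∀ n, HomSet.map (A'.truncMap n) (seq (n + 1)).1 = (seq n).1 := fun n =>
    (Classical.choose_spec (hstep n (seq n))).2
  obtain ⟨ψ, hψ, hψn⟩ := exists_hom_of_compatible R A' (fun n => (seq n).1) hseq
  have hpt : ∀ n, truncPt ψ hψ n = (seq n).1 := fun n =>
    Subtype.ext (AlgHom.ext fun r => hψn n r)
  refine ⟨ψ, hψ, ?_, ?_⟩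
  · haveI := A.isAdicComplete
    apply AlgHom.ext
    intro r
    have hn : ∀ n, g (ψ r) - φ r ∈ CRing.mpow A n := by
      intro n
      have h1 := truncMapOfHom_truncPt g hg ψ hψ n
      rw [hpt, (seq n).2.2] at h1
      have h2 := congrArg (fun t : HomSet R.carrier R.res (A.trunc n) => t.1 r) h1
      have h3 : Ideal.Quotient.mk (CRing.mpow A n) (φ r) =
          Ideal.Quotient.mk (CRing.mpow A n) (g (ψ r)) := h2
      exact (Ideal.Quotient.eq (I := CRing.mpow A n)).1 h3.symm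
    have h0 : g (ψ r) - φ r = 0 := by
      apply IsHausdorff.haus (I := IsLocalRing.maximalIdeal A.carrier) inferInstance
      intro n
      rw [SModEq.sub_mem, sub_zero, smul_eq_mul, Ideal.mul_top]
      exact Ideal.pow_le_pow_right (Nat.le_succ n) (hn n)
    exact sub_eq_zero.1 h0
  · apply FormalElt.ext'
    intro n
    rw [along_toFormalElt_elt, hpt]
    exact (seq n).2.1

end FormalLift2

end Groth.Agent.Helper3.ArtFunLib
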