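import Mathlib
import Groth.Agent.Lib.Helper3.SchlK

set_option linter.style.haveILetI false

universe u v w

open CategoryTheory

namespace Groth.Agent.Helper3.ArtFunLib

open ArtFun ArtFun.Art

section MinGens

variable {R : Type*} [CommRing R]

theorem gens_succAbove {r : ℕ} (I : Ideal R) (x d : Fin (r + 1) → R) (j0 : Fin (r + 1))
    (hu : IsUnit (d j0)) (hd : ∑ j, d j * x j ∈ I) :
    Ideal.span (Set.range x) ⊔ I ≤ Ideal.span (Set.range (x ∘ j0.succAbove)) ⊔ I := by
  apply sup_le _ le_sup_right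
  rw [Ideal.span_le]
  rintro _ ⟨j, rfl⟩
  rcases eq_or_ne j j0 with rfl | hne
  · rw [Fin.sum_univ_succAbove _ j] at hd
    have h1 : d j * x j ∈ Ideal.span (Set.range (x ∘ j.succAbove)) ⊔ I := by
      have : d j * x j = (d j * x j + ∑ i, d (j.succAbove i) * x (j.succAbove i)) -
          ∑ i, d (j.succAbove i) * x (j.succAbove i) := by ring
      rw [this]
      refine Ideal.sub_mem _ (le_sup_right (a := Ideal.span (Set.range (x ∘ j.succAbove))) hd)
        (le_sup_left (b := I) ?_)
      exact Ideal.sum_mem _ fun i _ => Ideal.mul_mem_left _ _ (Ideal.subset_span ⟨i, rfl⟩)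
    obtain ⟨v, hv⟩ := hu.exists_left_inv
    have : x j = v * (d j * x j) := by rw [← mul_assoc, hv, one_mul]
    rw [this]; exact Ideal.mul_mem_left _ _ h1
  · obtain ⟨i, rfl⟩ := Fin.exists_succAbove_eq hne
    exact le_sup_left (b := I) (Ideal.subset_span ⟨i, rfl⟩)

theorem exists_min_gens [IsLocalRing R] [IsNoetherianRing R] (I : Ideal R) :
    ∃ (r : ℕ) (x : Fin r → R), (∀ j, x j ∈ IsLocalRing.maximalIdeal R) ∧
      IsLocalRing.maximalIdeal R ≤ Ideal.span (Set.range x) ⊔ I ∧
      ∀ d : Fin r → R, ∑ j, d j * x j ∈ I → ∀ j, d j ∈ IsLocalRing.maximalIdeal R := by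
  classical
  let Pr : ℕ → Prop := fun r => ∃ x : Fin r → R, (∀ j, x j ∈ IsLocalRing.maximalIdeal R) ∧
      IsLocalRing.maximalIdeal R ≤ Ideal.span (Set.range x) ⊔ I
  have hex : ∃ r, Pr r := by
    obtain ⟨n, a, ha⟩ := Submodule.fg_iff_exists_fin_generating_family.1
      (IsNoetherian.noetherian (IsLocalRing.maximalIdeal R))
    have ha' : Ideal.span (Set.range a) = IsLocalRing.maximalIdeal R := ha
    refine ⟨n, a, fun j => ?_, ?_⟩
    · rw [← ha']; exact Ideal.subset_span ⟨j, rfl⟩
    · rw [ha']; exact le_sup_left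
  obtain ⟨r, ⟨x, hxm, hx⟩, hmin⟩ : ∃ r, Pr r ∧ ∀ r' < r, ¬ Pr r' :=
    ⟨Nat.find hex, Nat.find_spec hex, fun r' hr' => Nat.find_min hex hr'⟩
  refine ⟨r, x, hxm, hx, ?_⟩
  intro d hd j0
  by_contra hj0
  have hu : IsUnit (d j0) := by
    by_contra h; exact hj0 ((IsLocalRing.mem_maximalIdeal _).2 h)
  cases r with
  | zero => exact j0.elim0
  | succ r' =>
    apply hmin r' (Nat.lt_succ_self r')
    exact ⟨x ∘ j0.succAbove, fun i => hxm _, hx.trans (gens_succAbove I x d j0 hu hd)⟩

end MinGens

section FreeMax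

open MvPowerSeries

variable {Λ : Type u} {k : Type u} [CommRing Λ] [Field k] [Algebra Λ k] [IsNoetherianRing Λ]
  [IsLocalRing Λ]
variable {n : ℕ} (a : Fin n → Λ) (r : ℕ)
variable (ha : ∀ i, algebraMap Λ k (a i) = 0)
variable (hspan : Ideal.span (Set.range a) = RingHom.ker (algebraMap Λ k))
variable (hk : Function.Surjective (algebraMap Λ k))

theorem maximalIdeal_freeCRing_le :
    IsLocalRing.maximalIdeal (freeCRing a r ha hspan hk).carrier ≤
      Ideal.span (Set.range (freeData a r ha hspan hk).gen) ⊔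
        (IsLocalRing.maximalIdeal Λ).map
          (algebraMap Λ (freeCRing a r ha hspan hk).carrier) := by
  intro p hp
  rw [CRing.mem_maximalIdeal_iff] at hp
  have hp' : p ∈ freeVars a r := by rw [← ker_freeRes a r ha hspan]; exact hp
  unfold freeVars varsIdeal at hp'
  rw [Ideal.map_span] at hp'
  refine (Ideal.span_le.2 ?_) hp'
  rintro _ ⟨_, ⟨s, rfl⟩, rfl⟩
  rcases s with i | j
  · apply le_sup_right (a := Ideal.span (Set.range (freeData a r ha hspan hk).gen))
    change (Ideal.Quotient.mk (freeRel a r) (X (Sum.inl i)) : FreeRing a r) ∈ _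
    rw [mk_X_inl]
    apply Ideal.mem_map_of_mem
    rw [IsLocalRing.mem_maximalIdeal, mem_nonunits_iff]
    intro hu
    have := hu.map (algebraMap Λ k)
    rw [ha i] at this
    exact not_isUnit_zero this
  · exact le_sup_left (b := (IsLocalRing.maximalIdeal Λ).map
      (algebraMap Λ (freeCRing a r ha hspan hk).carrier)) (Ideal.subset_span ⟨j, rfl⟩)

end FreeMax

section ExistsFree'

variable {Λ : Type u} {k : Type u} [CommRing Λ] [Field k] [Algebra Λ k] [IsNoetherianRing Λ]
  [IsLocalRing Λ]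

theorem exists_freeCRing' (hk : Function.Surjective (algebraMap Λ k)) (r : ℕ) :
    ∃ (P : CRing Λ k) (fd : FreeData P r), IsLocalRing.maximalIdeal P.carrier ≤
      Ideal.span (Set.range fd.gen) ⊔
        (IsLocalRing.maximalIdeal Λ).map (algebraMap Λ P.carrier) := by
  obtain ⟨n, a, hspan⟩ := Submodule.fg_iff_exists_fin_generating_family.1
    (IsNoetherian.noetherian (RingHom.ker (algebraMap Λ k)))
  have hspan' : Ideal.span (Set.range a) = RingHom.ker (algebraMap Λ k) := hspan
  have ha : ∀ i, algebraMap Λ k (a i) = 0 := fun i => by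
    have : a i ∈ RingHom.ker (algebraMap Λ k) := by
      rw [← hspan']; exact Ideal.subset_span ⟨i, rfl⟩
    exact this
  exact ⟨freeCRing a r ha hspan' hk, freeData a r ha hspan' hk,
    maximalIdeal_freeCRing_le a r ha hspan' hk⟩

omit [IsNoetherianRing Λ] in
theorem algebraMap_mem_maximalIdeal_cring (hk : Function.Surjective (algebraMap Λ k))
    (P : CRing Λ k) {c : Λ} (hc : c ∈ IsLocalRing.maximalIdeal Λ) :
    algebraMap Λ P.carrier c ∈ IsLocalRing.maximalIdeal P.carrier := by
  rw [CRing.mem_maximalIdeal_iff, AlgHom.commutes]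
  rw [← ker_eq_maximalIdeal (algebraMap Λ k) hk] at hc
  exact hc

theorem exists_minimal_presentation (hk : Function.Surjective (algebraMap Λ k)) (R : Art Λ k) :
    ∃ (r : ℕ) (P : CRing Λ k) (_ : FreeData P r) (π : HomSet P.carrier P.res R),
      Function.Surjective π.1 ∧
      ∀ p ∈ IsLocalRing.maximalIdeal P.carrier,
        π.1 p ∈ IsLocalRing.maximalIdeal (R : Type u) ^ 2 ⊔
          (IsLocalRing.maximalIdeal Λ).map (algebraMap Λ R) →
        p ∈ IsLocalRing.maximalIdeal P.carrier ^ 2 ⊔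
          (IsLocalRing.maximalIdeal Λ).map (algebraMap Λ P.carrier) := by
  set I : Ideal R := IsLocalRing.maximalIdeal (R : Type u) ^ 2 ⊔
          (IsLocalRing.maximalIdeal Λ).map (algebraMap Λ R) with hI
  obtain ⟨r, x, hxm, hx, hmin⟩ := exists_min_gens I
  obtain ⟨P, fd, hfd⟩ := exists_freeCRing' hk r
  obtain ⟨π, hπ⟩ := fd.exists_point R x hxm
  have hΛ : (IsLocalRing.maximalIdeal Λ).map (algebraMap Λ R) ≤
      Ideal.map (π.1 : P.carrier →+* R) (IsLocalRing.maximalIdeal P.carrier) := by
    rw [Ideal.map_le_iff_le_comap]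
    intro c hc
    rw [Ideal.mem_comap]
    have : algebraMap Λ R c = (π.1 : P.carrier →+* R) (algebraMap Λ P.carrier c) :=
      (π.1.commutes c).symm
    rw [this]
    exact Ideal.mem_map_of_mem _ (algebraMap_mem_maximalIdeal_cring hk P hc)
  have hsurj : Function.Surjective π.1 := by
    haveI : IsPrecomplete (IsLocalRing.maximalIdeal P.carrier) P.carrier :=
      P.isAdicComplete.toIsPrecomplete
    haveI := Art.isHausdorff R
    apply ring_surjective_of_map_sup_sq (π.1 : P.carrier →+* R)
    · intro s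
      obtain ⟨l, hl⟩ := hk (R.res s)
      refine ⟨algebraMap Λ P.carrier l, ?_⟩
      rw [Art.mem_maximalIdeal_iff, map_sub]
      change R.res s - R.res (π.1 (algebraMap Λ P.carrier l)) = 0
      rw [π.1.commutes, R.res.commutes, hl, sub_self]
    · apply le_antisymm
      · apply sup_le _ (Ideal.pow_le_self two_ne_zero)
        rw [Ideal.map_le_iff_le_comap]
        intro p hp
        exact homSet_mem_maximalIdeal π hp
      · refine hx.trans (sup_le ?_ (sup_le le_sup_right (hΛ.trans le_sup_left)))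
        refine le_trans ?_ le_sup_left
        rw [Ideal.span_le]
        rintro _ ⟨j, rfl⟩
        rw [← hπ j]
        exact Ideal.mem_map_of_mem (π.1 : P.carrier →+* R) (fd.gen_mem j)
  refine ⟨r, P, fd, π, hsurj, ?_⟩
  intro p hp hpI
  obtain ⟨v, hv, w, hw, rfl⟩ := Submodule.mem_sup.1 (hfd hp)
  obtain ⟨c, rfl⟩ := (Ideal.mem_span_range_iff_exists_fun).1 hv
  have hwI : π.1 w ∈ I := by
    apply le_sup_right (a := IsLocalRing.maximalIdeal (R : Type u) ^ 2)
    have : Ideal.map (π.1 : P.carrier →+* R)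
        ((IsLocalRing.maximalIdeal Λ).map (algebraMap Λ P.carrier)) =
        (IsLocalRing.maximalIdeal Λ).map (algebraMap Λ R) := by
      rw [Ideal.map_map]
      congr 1
      exact π.1.comp_algebraMap
    rw [← this]
    exact Ideal.mem_map_of_mem _ hw
  have hsum : ∑ j, π.1 (c j) * x j ∈ I := by
    have h1 : π.1 (∑ j, c j * fd.gen j + w) = ∑ j, π.1 (c j) * x j + π.1 w := by
      rw [map_add, map_sum]
      congr 1
      apply Finset.sum_congr rfl
      intro j _
      rw [map_mul, hπ j]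
    rw [h1] at hpI
    have := I.sub_mem hpI hwI
    rwa [add_sub_cancel_right] at this
  have hc : ∀ j, c j ∈ IsLocalRing.maximalIdeal P.carrier := fun j =>
    (homSet_mem_maximalIdeal_iff π (c j)).1 (hmin _ hsum j)
  refine Ideal.add_mem _ (le_sup_left (b := (IsLocalRing.maximalIdeal Λ).map
    (algebraMap Λ P.carrier)) ?_) (le_sup_right (a := IsLocalRing.maximalIdeal P.carrier ^ 2) hw)
  refine Ideal.sum_mem _ fun j _ => ?_
  rw [pow_two]
  exact Ideal.mul_mem_mul (hc j) (fd.gen_mem j)

end ExistsFree'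

end Groth.Agent.Helper3.ArtFunLib
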