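import Mathlib
import Groth.Agent.Lib.Helper3.SchlL

set_option linter.style.haveILetI false

universe u v w

open CategoryTheory

namespace Groth.Agent.Helper3.ArtFunLib

open ArtFun ArtFun.Art

section FreeHom

variable {Λ : Type u} {k : Type u} [CommRing Λ] [Field k] [Algebra Λ k]

/-- maps out of a freely generated complete ring into a complete ring -/
theorem FreeData.exists_hom {P : CRing Λ k} {r : ℕ} (fd : FreeData P r) (S : CRing Λ k)
    (x : Fin r → S.carrier) (hx : ∀ j, x j ∈ IsLocalRing.maximalIdeal S.carrier) :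
    ∃ g : P.carrier →ₐ[Λ] S.carrier, S.res.comp g = P.res ∧ ∀ j, g (fd.gen j) = x j := by
  have hmem : ∀ n j, (S.truncHom n).1 (x j) ∈ IsLocalRing.maximalIdeal (S.trunc n) := fun n j =>
    homSet_mem_maximalIdeal (S.truncHom n) (hx j)
  choose a ha using fun n => fd.exists_point (S.trunc n) (fun j => (S.truncHom n).1 (x j)) (hmem n)
  have hcompat : ∀ n, HomSet.map (S.truncMap n) (a (n + 1)) = a n := by
    intro n
    apply fd.point_ext
    intro j
    change S.truncMap n ((a (n + 1)).1 (fd.gen j)) = (a n).1 (fd.gen j)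
    rw [ha, ha]
    rfl
  obtain ⟨g, hg, hgn⟩ := exists_hom_of_compatible P S a hcompat
  refine ⟨g, hg, fun j => ?_⟩
  rw [← sub_eq_zero, ← Ideal.mem_bot,
    ← Ideal.iInf_pow_eq_bot_of_isLocalRing (IsLocalRing.maximalIdeal S.carrier)
      (IsLocalRing.maximalIdeal.isMaximal _).ne_top, Ideal.mem_iInf]
  intro n
  apply Ideal.pow_le_pow_right (Nat.le_succ n)
  have h1 := hgn n (fd.gen j)
  rw [ha n j] at h1
  exact (Ideal.Quotient.eq (I := CRing.mpow S n)).1 h1

end FreeHom

section MinPresCRing

variable {Λ : Type u} {k : Type u} [CommRing Λ] [Field k] [Algebra Λ k] [IsNoetherianRing Λ]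
  [IsLocalRing Λ]

omit [IsNoetherianRing Λ] [IsLocalRing Λ] in
theorem cring_hom_mem_maximalIdeal_iff {P R : CRing Λ k} (g : P.carrier →ₐ[Λ] R.carrier)
    (hg : R.res.comp g = P.res) (p : P.carrier) :
    g p ∈ IsLocalRing.maximalIdeal R.carrier ↔ p ∈ IsLocalRing.maximalIdeal P.carrier := by
  rw [CRing.mem_maximalIdeal_iff, CRing.mem_maximalIdeal_iff]
  have h1 := congrArg (fun f : P.carrier →ₐ[Λ] k => f p) hg
  change R.res (g p) = P.res p at h1
  rw [h1]

theorem exists_minimal_presentation_cring (hk : Function.Surjective (algebraMap Λ k))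
    (R : CRing Λ k) :
    ∃ (r : ℕ) (P : CRing Λ k) (_ : FreeData P r) (g : P.carrier →ₐ[Λ] R.carrier),
      R.res.comp g = P.res ∧ Function.Surjective g ∧
      ∀ p ∈ IsLocalRing.maximalIdeal P.carrier,
        g p ∈ IsLocalRing.maximalIdeal R.carrier ^ 2 ⊔
          (IsLocalRing.maximalIdeal Λ).map (algebraMap Λ R.carrier) →
        p ∈ IsLocalRing.maximalIdeal P.carrier ^ 2 ⊔
          (IsLocalRing.maximalIdeal Λ).map (algebraMap Λ P.carrier) := by
  set I : Ideal R.carrier := IsLocalRing.maximalIdeal R.carrier ^ 2 ⊔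
          (IsLocalRing.maximalIdeal Λ).map (algebraMap Λ R.carrier) with hI
  obtain ⟨r, x, hxm, hx, hmin⟩ := exists_min_gens I
  obtain ⟨P, fd, hfd⟩ := exists_freeCRing' hk r
  obtain ⟨g, hg, hgx⟩ := fd.exists_hom R x hxm
  have hΛ : (IsLocalRing.maximalIdeal Λ).map (algebraMap Λ R.carrier) ≤
      Ideal.map (g : P.carrier →+* R.carrier) (IsLocalRing.maximalIdeal P.carrier) := by
    rw [Ideal.map_le_iff_le_comap]
    intro c hc
    rw [Ideal.mem_comap]
    have : algebraMap Λ R.carrier c = (g : P.carrier →+* R.carrier) (algebraMap Λ P.carrier c) :=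
      (g.commutes c).symm
    rw [this]
    exact Ideal.mem_map_of_mem _ (algebraMap_mem_maximalIdeal_cring hk P hc)
  have hsurj : Function.Surjective g := by
    haveI : IsPrecomplete (IsLocalRing.maximalIdeal P.carrier) P.carrier :=
      P.isAdicComplete.toIsPrecomplete
    haveI : IsHausdorff (IsLocalRing.maximalIdeal R.carrier) R.carrier :=
      R.isAdicComplete.toIsHausdorff
    apply ring_surjective_of_map_sup_sq (g : P.carrier →+* R.carrier)
    · intro s
      obtain ⟨l, hl⟩ := hk (R.res s)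
      refine ⟨algebraMap Λ P.carrier l, ?_⟩
      rw [CRing.mem_maximalIdeal_iff, map_sub]
      change R.res s - R.res (g (algebraMap Λ P.carrier l)) = 0
      rw [g.commutes, R.res.commutes, hl, sub_self]
    · apply le_antisymm
      · apply sup_le _ (Ideal.pow_le_self two_ne_zero)
        rw [Ideal.map_le_iff_le_comap]
        intro p hp
        exact (cring_hom_mem_maximalIdeal_iff g hg p).2 hp
      · refine hx.trans (sup_le ?_ (sup_le le_sup_right (hΛ.trans le_sup_left)))
        refine le_trans ?_ le_sup_left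
        rw [Ideal.span_le]
        rintro _ ⟨j, rfl⟩
        rw [← hgx j]
        exact Ideal.mem_map_of_mem (g : P.carrier →+* R.carrier) (fd.gen_mem j)
  refine ⟨r, P, fd, g, hg, hsurj, ?_⟩
  intro p hp hpI
  obtain ⟨v, hv, w, hw, rfl⟩ := Submodule.mem_sup.1 (hfd hp)
  obtain ⟨c, rfl⟩ := (Ideal.mem_span_range_iff_exists_fun).1 hv
  have hwI : g w ∈ I := by
    apply le_sup_right (a := IsLocalRing.maximalIdeal R.carrier ^ 2)
    have : Ideal.map (g : P.carrier →+* R.carrier)
        ((IsLocalRing.maximalIdeal Λ).map (algebraMap Λ P.carrier)) =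
        (IsLocalRing.maximalIdeal Λ).map (algebraMap Λ R.carrier) := by
      rw [Ideal.map_map]
      congr 1
      exact g.comp_algebraMap
    rw [← this]
    exact Ideal.mem_map_of_mem _ hw
  have hsum : ∑ j, g (c j) * x j ∈ I := by
    have h1 : g (∑ j, c j * fd.gen j + w) = ∑ j, g (c j) * x j + g w := by
      rw [map_add, map_sum]
      congr 1
      apply Finset.sum_congr rfl
      intro j _
      rw [map_mul, hgx j]
    rw [h1] at hpI
    have := I.sub_mem hpI hwI
    rwa [add_sub_cancel_right] at this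
  have hc : ∀ j, c j ∈ IsLocalRing.maximalIdeal P.carrier := fun j =>
    (cring_hom_mem_maximalIdeal_iff g hg (c j)).1 (hmin _ hsum j)
  refine Ideal.add_mem _ (le_sup_left (b := (IsLocalRing.maximalIdeal Λ).map
    (algebraMap Λ P.carrier)) ?_) (le_sup_right (a := IsLocalRing.maximalIdeal P.carrier ^ 2) hw)
  refine Ideal.sum_mem _ fun j _ => ?_
  rw [pow_two]
  exact Ideal.mul_mem_mul (hc j) (fd.gen_mem j)

end MinPresCRing

section Agree

variable {Λ : Type u} {k : Type u} [CommRing Λ] [Field k] [Algebra Λ k]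

/-- two lifts of a point along an extension with kernel killed by the maximal ideal agree on
the square of the maximal ideal -/
theorem lifts_agree_on_sq {P : CRing Λ k} {C' C : Art Λ k} (p : C' ⟶ C)
    (hp : IsLocalRing.maximalIdeal (C' : Type u) * RingHom.ker p.toAlgHom = ⊥)
    (χ χ' : HomSet P.carrier P.res C') (h : HomSet.map p χ = HomSet.map p χ')
    {x : P.carrier} (hx : x ∈ IsLocalRing.maximalIdeal P.carrier ^ 2) : χ.1 x = χ'.1 x := by
  have hker : ∀ y, χ.1 y - χ'.1 y ∈ RingHom.ker p.toAlgHom := by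
    intro y
    rw [RingHom.mem_ker, map_sub, sub_eq_zero]
    exact congrArg (fun t : HomSet P.carrier P.res C => t.1 y) h
  have hzero : ∀ {m z : C'}, m ∈ IsLocalRing.maximalIdeal (C' : Type u) →
      z ∈ RingHom.ker p.toAlgHom → m * z = 0 := by
    intro m z hm hz
    have := Ideal.mul_mem_mul hm hz
    rw [hp] at this
    exact this
  rw [pow_two] at hx
  refine Submodule.mul_induction_on hx ?_ ?_
  · intro a ha b hb
    have e1 : χ.1 (a * b) - χ'.1 (a * b) =
        χ.1 a * (χ.1 b - χ'.1 b) + χ'.1 b * (χ.1 a - χ'.1 a) := by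
      rw [map_mul, map_mul]; ring
    have e2 : χ.1 (a * b) - χ'.1 (a * b) = 0 := by
      rw [e1, hzero (homSet_mem_maximalIdeal χ ha) (hker b),
        hzero (homSet_mem_maximalIdeal χ' hb) (hker a), add_zero]
    exact sub_eq_zero.1 e2
  · intro a b ha hb
    rw [map_add, map_add, ha, hb]

end Agree

section TensorSum

open scoped TensorProduct

variable {k : Type*} [Field k] {V : Type*} [AddCommGroup V] [Module k V]
  {M : Type*} [AddCommGroup M] [Module k M] {n : ℕ}

theorem sum_tmul_eq_zero_iff (e : Module.Basis (Fin n) k V) (a : Fin n → M) :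
    ∑ i, e i ⊗ₜ[k] a i = 0 ↔ ∀ i, a i = 0 := by
  constructor
  · intro h i
    have h1 := congrArg (fun t => TensorProduct.lid k M (LinearMap.rTensor M (e.coord i) t)) h
    simp only [map_sum, LinearMap.rTensor_tmul, TensorProduct.lid_tmul, map_zero] at h1
    rw [Finset.sum_eq_single i] at h1
    · rw [Module.Basis.coord_apply, Module.Basis.repr_self, Finsupp.single_eq_same, one_smul] at h1
      exact h1
    · intro l _ hl
      rw [Module.Basis.coord_apply, Module.Basis.repr_self, Finsupp.single_eq_of_ne hl.symm, zero_smul]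
    · intro hi; exact absurd (Finset.mem_univ i) hi
  · intro h
    apply Finset.sum_eq_zero
    intro i _
    rw [h i, TensorProduct.tmul_zero]

end TensorSum

section Obs

open scoped TensorProduct

variable {k : Type u} [Field k]
variable {P : CRing k k} {r : ℕ} (fd : FreeData P r) (R : CRing k k)
  (g : P.carrier →ₐ[k] R.carrier) (hg : R.res.comp g = P.res)
  {F : Art k k ⥤ Type v} (ξ : Family R.carrier R.res F) (hξ : IsUniversal ξ)

/-- points of `R` give points of `P` -/
def pullPt {C : Art k k} (v : HomSet R.carrier R.res C) : HomSet P.carrier P.res C :=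
  ⟨v.1.comp g, by rw [← AlgHom.comp_assoc, v.2, hg]⟩

theorem pullPt_apply {C : Art k k} (v : HomSet R.carrier R.res C) (x : P.carrier) :
    (pullPt R g hg v).1 x = v.1 (g x) := rfl

theorem pullPt_map {C' C : Art k k} (p : C' ⟶ C) (v : HomSet R.carrier R.res C') :
    pullPt R g hg (HomSet.map p v) = HomSet.map p (pullPt R g hg v) :=
  Subtype.ext (AlgHom.ext fun _ => rfl)

theorem pullPt_injective (hgs : Function.Surjective g) {C : Art k k} :
    Function.Injective (pullPt R g hg (C := C)) := by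
  intro v v' h
  apply Subtype.ext
  apply AlgHom.ext
  intro y
  obtain ⟨x, rfl⟩ := hgs y
  exact congrArg (fun t : HomSet P.carrier P.res C => t.1 x) h

/-- factoring a point of `P` killing the kernel through `R` -/
theorem exists_pullPt_eq (hgs : Function.Surjective g) {C : Art k k}
    (χ : HomSet P.carrier P.res C) (hker : RingHom.ker g ≤ RingHom.ker χ.1) :
    ∃ v : HomSet R.carrier R.res C, pullPt R g hg v = χ := by
  let e := Ideal.quotientKerAlgEquivOfSurjective hgs
  have hb0 : ∀ x ∈ RingHom.ker g, χ.1 x = 0 := fun x hx => RingHom.mem_ker.1 (hker hx)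
  let v₀ : R.carrier →ₐ[k] C := (Ideal.Quotient.liftₐ (RingHom.ker g) χ.1 hb0).comp e.symm.toAlgHom
  have hv₀ : ∀ x, v₀ (g x) = χ.1 x := by
    intro x
    change Ideal.Quotient.liftₐ (RingHom.ker g) χ.1 hb0 (e.symm (g x)) = χ.1 x
    have : e.symm (g x) = Ideal.Quotient.mk _ x := by
      rw [AlgEquiv.symm_apply_eq]
      rfl
    rw [this]
    rfl
  refine ⟨⟨v₀, ?_⟩, ?_⟩
  · apply AlgHom.ext
    intro y
    obtain ⟨x, rfl⟩ := hgs y
    change C.res (v₀ (g x)) = R.res (g x)
    rw [hv₀]
    have h1 := congrArg (fun f : P.carrier →ₐ[k] k => f x) χ.2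
    have h2 := congrArg (fun f : P.carrier →ₐ[k] k => f x) hg
    exact h1.trans h2.symm
  · apply Subtype.ext
    apply AlgHom.ext
    intro x
    exact hv₀ x

/-- the point of `R` corresponding to an element -/
noncomputable def ptOf {C : Art k k} (u : F.obj C) : HomSet R.carrier R.res C :=
  Classical.choose ((hξ C).2 u)

theorem app_ptOf {C : Art k k} (u : F.obj C) : ξ.app C (ptOf R ξ hξ u) = u :=
  Classical.choose_spec ((hξ C).2 u)

/-- the chosen lift to `C'` of the point of `P` under `u` -/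
noncomputable def obsLift {C' C : Art k k} (p : C' ⟶ C) (hp : Function.Surjective p)
    (u : F.obj C) : HomSet P.carrier P.res C' :=
  Classical.choose (fd.exists_lift p hp (pullPt R g hg (ptOf R ξ hξ u)))

theorem map_obsLift {C' C : Art k k} (p : C' ⟶ C) (hp : Function.Surjective p) (u : F.obj C) :
    HomSet.map p (obsLift fd R g hg ξ hξ p hp u) = pullPt R g hg (ptOf R ξ hξ u) :=
  Classical.choose_spec (fd.exists_lift p hp (pullPt R g hg (ptOf R ξ hξ u)))

theorem obsLift_mem_ker {C' C : Art k k} (p : C' ⟶ C) (hp : Function.Surjective p) (u : F.obj C)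
    {x : P.carrier} (hx : x ∈ RingHom.ker g) :
    (obsLift fd R g hg ξ hξ p hp u).1 x ∈ RingHom.ker p.toAlgHom := by
  rw [RingHom.mem_ker]
  have h1 := congrArg (fun t : HomSet P.carrier P.res C => t.1 x) (map_obsLift fd R g hg ξ hξ p hp u)
  change p ((obsLift fd R g hg ξ hξ p hp u).1 x) = (ptOf R ξ hξ u).1 (g x) at h1
  rw [RingHom.mem_ker.1 hx, map_zero] at h1
  exact h1

variable {n : ℕ} (j : Fin n → P.carrier) (hjJ : ∀ i, j i ∈ RingHom.ker g)
  {V : Type u} [AddCommGroup V] [Module k V] (e : Module.Basis (Fin n) k V)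

/-- the obstruction element -/
noncomputable def obsElt {C' C : Art k k} (p : C' ⟶ C) (hp : IsSemismallExt p) (u : F.obj C) :
    V ⊗[k] ↥(RingHom.ker p.toAlgHom) :=
  ∑ i, e i ⊗ₜ[k] (⟨(obsLift fd R g hg ξ hξ p hp.1 u).1 (j i),
    obsLift_mem_ker fd R g hg ξ hξ p hp.1 u (hjJ i)⟩ : ↥(RingHom.ker p.toAlgHom))

variable (hgs : Function.Surjective g)
  (hJ : RingHom.ker g ≤ IsLocalRing.maximalIdeal P.carrier ^ 2)
  (hspan : RingHom.ker g ≤ Ideal.span (Set.range j) ⊔
    IsLocalRing.maximalIdeal P.carrier * RingHom.ker g)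

include hgs hJ hspan in
theorem obsElt_eq_zero_iff {C' C : Art k k} (p : C' ⟶ C) (hp : IsSemismallExt p) (u : F.obj C) :
    obsElt fd R g hg ξ hξ j hjJ e p hp u = 0 ↔ ∃ u' : F.obj C', F.map p u' = u := by
  unfold obsElt
  rw [sum_tmul_eq_zero_iff]
  set χ := obsLift fd R g hg ξ hξ p hp.1 u with hχ
  have hχmap : HomSet.map p χ = pullPt R g hg (ptOf R ξ hξ u) := map_obsLift fd R g hg ξ hξ p hp.1 u
  constructor
  · intro h
    have hj0 : ∀ i, χ.1 (j i) = 0 := fun i => congrArg Subtype.val (h i)
    have hker : RingHom.ker g ≤ RingHom.ker χ.1 := by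
      refine hspan.trans (sup_le ?_ ?_)
      · rw [Ideal.span_le]
        rintro _ ⟨i, rfl⟩
        exact hj0 i
      · rw [Ideal.mul_le]
        intro m hm y hy
        rw [RingHom.mem_ker, map_mul]
        have h1 := Ideal.mul_mem_mul (homSet_mem_maximalIdeal χ hm)
          (obsLift_mem_ker fd R g hg ξ hξ p hp.1 u hy)
        exact Ideal.mem_bot.1 (le_of_eq hp.2 h1)
    obtain ⟨v', hv'⟩ := exists_pullPt_eq R g hg hgs χ hker
    refine ⟨ξ.app C' v', ?_⟩
    rw [← ξ.natural]
    have : HomSet.map p v' = ptOf R ξ hξ u := by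
      apply pullPt_injective R g hg hgs
      rw [pullPt_map, hv', hχmap]
    rw [this, app_ptOf]
  · rintro ⟨u', hu'⟩ i
    apply Subtype.ext
    change χ.1 (j i) = 0
    set v' := ptOf R ξ hξ u' with hv'
    have hv'map : HomSet.map p v' = ptOf R ξ hξ u := by
      apply (hξ C).1
      rw [ξ.natural, app_ptOf, app_ptOf, hu']
    have hagree := lifts_agree_on_sq p hp.2 χ (pullPt R g hg v')
      (by rw [hχmap, ← pullPt_map, hv'map]) (hJ (hjJ i))
    rw [hagree, pullPt_apply, RingHom.mem_ker.1 (hjJ i), map_zero]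

include hJ in
theorem obsElt_quot {C' C : Art k k} (p : C' ⟶ C) (hp : IsSemismallExt p) (K : Ideal C')
    (hK : K ≤ IsLocalRing.maximalIdeal C') (hKJ : K ≤ RingHom.ker p.toAlgHom)
    (hq : IsSemismallExt (quotFactor hK p hKJ)) (u : F.obj C) :
    obsElt fd R g hg ξ hξ j hjJ e (quotFactor hK p hKJ) hq u =
      LinearMap.lTensor V ((kerToQuot hK p hKJ).restrictScalars k)
        (obsElt fd R g hg ξ hξ j hjJ e p hp u) := by
  unfold obsElt
  rw [map_sum]
  apply Finset.sum_congr rfl
  intro i _
  rw [LinearMap.lTensor_tmul]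
  congr 1
  apply Subtype.ext
  change (obsLift fd R g hg ξ hξ (quotFactor hK p hKJ) hq.1 u).1 (j i) =
    (HomSet.map (quotMk C' K hK) (obsLift fd R g hg ξ hξ p hp.1 u)).1 (j i)
  apply lifts_agree_on_sq (quotFactor hK p hKJ) hq.2 _ _ _ (hJ (hjJ i))
  rw [map_obsLift, ← homSet_map_comp, quotMk_quotFactor, map_obsLift]

include fd g hg ξ hξ j hjJ e hgs hJ hspan in
/-- a functor pro-represented by `R = P/J` with `P` free and `J ≤ m²` generated by `n` elements
has an obstruction theory with values in an `n`-dimensional space -/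
theorem hasObsTheory_of_presentation : HasObsTheory F V :=
  ⟨{ obs := fun p hp u => obsElt fd R g hg ξ hξ j hjJ e p hp u
     obs_eq_zero_iff := fun p hp u => obsElt_eq_zero_iff fd R g hg ξ hξ j hjJ e hgs hJ hspan p hp u
     obs_quot := fun p hp K hK hKJ hq u => obsElt_quot fd R g hg ξ hξ j hjJ e hJ p hp K hK hKJ hq u }⟩

end Obs

end Groth.Agent.Helper3.ArtFunLib
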