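import Mathlib
import Groth.Agent.Lib.Helper3.SchlM

set_option linter.style.haveILetI false

universe u v w

open CategoryTheory

namespace Groth.Agent.Helper3.ArtFunLib

open ArtFun ArtFun.Art

section PsCRing

open MvPowerSeries

variable (k : Type u) [Field k] (d : ℕ)

theorem maximalIdeal_ps :
    IsLocalRing.maximalIdeal (MvPowerSeries (Fin d) k) = varsIdeal (Fin d) k := by
  apply le_antisymm
  · intro f hf
    apply mem_varsIdeal_of_constantCoeff_eq_zero
    rw [IsLocalRing.mem_maximalIdeal, mem_nonunits_iff] at hf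
    by_contra h
    exact hf (MvPowerSeries.isUnit_iff_constantCoeff.2 (IsUnit.mk0 _ h))
  · unfold varsIdeal
    rw [Ideal.span_le]
    rintro _ ⟨s, rfl⟩
    rw [SetLike.mem_coe, IsLocalRing.mem_maximalIdeal, mem_nonunits_iff]
    intro hu
    have := MvPowerSeries.isUnit_iff_constantCoeff.1 hu
    rw [constantCoeff_X] at this
    exact not_isUnit_zero this

/-- the power series ring over a field as a coefficient ring -/
noncomputable def psCRing : CRing k k :=
  { carrier := MvPowerSeries (Fin d) k
    res := psRes (k := k) (Fin d)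
    res_surjective := fun c => ⟨C c, by rw [psRes_apply, constantCoeff_C]; rfl⟩
    isAdicComplete := by rw [maximalIdeal_ps]; exact isAdicComplete_ps (Fin d) }

/-- the power series ring is freely generated by the variables -/
noncomputable def psFreeData : FreeData (psCRing k d) d where
  gen j := (X j : MvPowerSeries (Fin d) k)
  gen_mem j := by
    rw [CRing.mem_maximalIdeal_iff]
    change psRes (k := k) (Fin d) _ = 0
    rw [psRes_apply, constantCoeff_X, map_zero]
  exists_point A α hα := by
    obtain ⟨φ₀, hφ₀⟩ := exists_ps_eval A α hα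
    have hX : ∀ s, φ₀ (X s) = α s := fun s => by
      rw [← MvPolynomial.coe_X, hφ₀, MvPolynomial.aeval_X]
    have hres : A.res.comp φ₀ = psRes (k := k) (Fin d) := by
      have := ps_algHom_ext (base k k) (A.res.comp φ₀) (psRes (k := k) (Fin d))
        (fun s => by
          change A.res (φ₀ (X s)) ∈ IsLocalRing.maximalIdeal k
          rw [hX, (Art.mem_maximalIdeal_iff A _).1 (hα s)]
          exact Ideal.zero_mem _)
        (fun s => by
          change A.res (φ₀ (X s)) = algebraMap k k (constantCoeff (X s))
          rw [hX, (Art.mem_maximalIdeal_iff A _).1 (hα s), constantCoeff_X, map_zero])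
      exact this
    exact ⟨⟨φ₀, hres⟩, fun j => hX j⟩
  point_ext A φ φ' h := by
    apply Subtype.ext
    apply ps_algHom_ext A
    · intro s
      rw [Art.mem_maximalIdeal_iff]
      have := congrArg (fun g : MvPowerSeries (Fin d) k →ₐ[k] k => g (X s)) φ.2
      change A.res (φ.1 (X s)) = psRes (k := k) (Fin d) (X s) at this
      refine this.trans ?_
      rw [psRes_apply, constantCoeff_X, map_zero]
    · exact h

/-- a `k`-algebra map from the power series ring to `k` is the constant coefficient -/
theorem ps_algHom_eq_psRes (φ : MvPowerSeries (Fin d) k →ₐ[k] k) :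
    φ = psRes (k := k) (Fin d) := by
  have hm : ∀ m ∈ IsLocalRing.maximalIdeal (MvPowerSeries (Fin d) k), φ m = 0 := by
    intro m hm
    by_contra hne
    have hu : IsUnit (m - C (φ m)) := by
      rw [MvPowerSeries.isUnit_iff_constantCoeff, map_sub, constantCoeff_C]
      have h0 : constantCoeff m = 0 := by
        by_contra h
        rw [IsLocalRing.mem_maximalIdeal, mem_nonunits_iff] at hm
        exact hm (MvPowerSeries.isUnit_iff_constantCoeff.2 (IsUnit.mk0 _ h))
      rw [h0, zero_sub]
      exact (IsUnit.mk0 _ hne).neg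
    have h1 : φ (m - C (φ m)) = 0 := by
      have : (C (φ m) : MvPowerSeries (Fin d) k) = algebraMap k _ (φ m) := by
        rw [MvPowerSeries.algebraMap_apply]; rfl
      rw [map_sub, this, AlgHom.commutes]
      exact sub_self _
    have := hu.map φ
    rw [h1] at this
    exact not_isUnit_zero this
  apply AlgHom.ext
  intro f
  have hf : f - C (constantCoeff f) ∈ IsLocalRing.maximalIdeal (MvPowerSeries (Fin d) k) := by
    rw [maximalIdeal_ps]
    apply mem_varsIdeal_of_constantCoeff_eq_zero
    rw [map_sub, constantCoeff_C, sub_self]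
  have h1 := hm _ hf
  have hC : (C (constantCoeff f) : MvPowerSeries (Fin d) k) = algebraMap k _ (constantCoeff f) := by
    rw [MvPowerSeries.algebraMap_apply]; rfl
  rw [map_sub, hC, AlgHom.commutes, sub_eq_zero] at h1
  rw [h1, psRes_apply]

end PsCRing

section DualBasis

variable {k : Type u} [Field k] (P : CRing k k) (J : Ideal P.carrier)

/-- the `k`-vector space `J / m J` -/
abbrev relQuot : Type u :=
  ↥J ⧸ (IsLocalRing.maximalIdeal P.carrier • (⊤ : Submodule P.carrier ↥J))

theorem relQuot_smul_mk (f : P.carrier) (y : ↥J) :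
    f • (Submodule.Quotient.mk y : relQuot P J) =
      P.res f • (Submodule.Quotient.mk y : relQuot P J) := by
  have hm : f - algebraMap k P.carrier (P.res f) ∈ IsLocalRing.maximalIdeal P.carrier := by
    rw [CRing.mem_maximalIdeal_iff, map_sub, AlgHom.commutes]
    exact sub_self _
  have h1 : (f - algebraMap k P.carrier (P.res f)) • (Submodule.Quotient.mk y : relQuot P J) = 0 := by
    rw [← Submodule.Quotient.mk_smul, Submodule.Quotient.mk_eq_zero]
    exact Submodule.smul_mem_smul hm Submodule.mem_top
  rw [sub_smul, sub_eq_zero, algebraMap_smul] at h1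
  exact h1

theorem relQuot_mk_sum {ι : Type*} (t : Finset ι) (z : ι → ↥J) :
    (Submodule.Quotient.mk (∑ i ∈ t, z i) : relQuot P J) =
      ∑ i ∈ t, (Submodule.Quotient.mk (z i) : relQuot P J) :=
  map_sum (Submodule.mkQ (IsLocalRing.maximalIdeal P.carrier • (⊤ : Submodule P.carrier ↥J))) _ _

instance relQuot_finite : Module.Finite k (relQuot P J) := by
  classical
  obtain ⟨m, a, ha⟩ := Submodule.fg_iff_exists_fin_generating_family.1
    (IsNoetherian.noetherian J)
  have ha' : Ideal.span (Set.range a) = J := ha
  have haJ : ∀ i, a i ∈ J := fun i => by rw [← ha']; exact Ideal.subset_span ⟨i, rfl⟩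
  let y : Fin m → relQuot P J := fun i => Submodule.Quotient.mk ⟨a i, haJ i⟩
  refine ⟨⟨Finset.univ.image y, ?_⟩⟩
  rw [Finset.coe_image, Finset.coe_univ, Set.image_univ, eq_top_iff]
  rintro q -
  obtain ⟨⟨x, hx⟩, rfl⟩ := Submodule.Quotient.mk_surjective _ q
  have hx' : x ∈ Ideal.span (Set.range a) := by rw [ha']; exact hx
  obtain ⟨f, hf⟩ := (Ideal.mem_span_range_iff_exists_fun).1 hx'
  have e1 : (⟨x, hx⟩ : ↥J) = ∑ i, f i • (⟨a i, haJ i⟩ : ↥J) := by
    apply Subtype.ext
    rw [Submodule.coe_sum]
    simp only [Submodule.coe_smul, smul_eq_mul]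
    exact hf.symm
  rw [e1, relQuot_mk_sum]
  refine Submodule.sum_mem _ fun i _ => ?_
  rw [Submodule.Quotient.mk_smul, relQuot_smul_mk]
  exact Submodule.smul_mem _ _ (Submodule.subset_span ⟨i, rfl⟩)

theorem exists_basis_dual_relQuot :
    ∃ (n : ℕ) (j : Fin n → P.carrier) (_ : Module.Basis (Fin n) k (Module.Dual k (relQuot P J))),
      (∀ i, j i ∈ J) ∧
      J ≤ Ideal.span (Set.range j) ⊔ IsLocalRing.maximalIdeal P.carrier * J := by
  classical
  let b := Module.finBasis k (relQuot P J)
  choose j' hj' using fun i => Submodule.Quotient.mk_surjective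
    (IsLocalRing.maximalIdeal P.carrier • (⊤ : Submodule P.carrier ↥J)) (b i)
  refine ⟨_, fun i => (j' i : P.carrier), b.dualBasis, fun i => (j' i).2, ?_⟩
  intro x hx
  set c := b.repr (Submodule.Quotient.mk ⟨x, hx⟩) with hc
  have h1 : (Submodule.Quotient.mk ⟨x, hx⟩ : relQuot P J) = ∑ i, c i • b i := (b.sum_repr _).symm
  have h2 : (⟨x, hx⟩ : ↥J) - ∑ i, algebraMap k P.carrier (c i) • j' i ∈
      IsLocalRing.maximalIdeal P.carrier • (⊤ : Submodule P.carrier ↥J) := by
    rw [← Submodule.Quotient.mk_eq_zero, Submodule.Quotient.mk_sub, relQuot_mk_sum, h1,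
      sub_eq_zero]
    apply Finset.sum_congr rfl
    intro i _
    rw [Submodule.Quotient.mk_smul, hj' i, algebraMap_smul]
  have h3 := (Submodule.mem_smul_top_iff _ _ _).1 h2
  rw [Submodule.coe_sub, Submodule.coe_sum] at h3
  simp only [Submodule.coe_smul, smul_eq_mul] at h3
  have h4 : ∑ i, algebraMap k P.carrier (c i) * (j' i : P.carrier) ∈
      Ideal.span (Set.range fun i => (j' i : P.carrier)) :=
    Ideal.sum_mem _ fun i _ => Ideal.mul_mem_left _ _ (Ideal.subset_span ⟨i, rfl⟩)
  have h5 : x = ∑ i, algebraMap k P.carrier (c i) * (j' i : P.carrier) +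
      (x - ∑ i, algebraMap k P.carrier (c i) * (j' i : P.carrier)) := by ring
  rw [h5]
  exact Ideal.add_mem _ (le_sup_left (b := IsLocalRing.maximalIdeal P.carrier * J) h4)
    (le_sup_right (a := Ideal.span (Set.range fun i => (j' i : P.carrier))) h3)

end DualBasis

section HRObs

variable {k : Type u} [Field k]

/-- the tautological family over `R` for `h_R` -/
def idFamily (R : CRing k k) : Family R.carrier R.res (hR R.carrier R.res) where
  app _ φ := φ
  natural _ _ := rfl

theorem idFamily_isUniversal (R : CRing k k) : IsUniversal (idFamily R) :=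
  fun _ => Function.bijective_id

theorem hasObsTheory_hR_quot (P : CRing k k) {r : ℕ} (fd : FreeData P r) (J : Ideal P.carrier)
    (hJ : J ≤ IsLocalRing.maximalIdeal P.carrier ^ 2) :
    HasObsTheory (hR (P.carrier ⧸ J)
        (quotRes P J (hJ.trans (Ideal.pow_le_self two_ne_zero))))
      (Module.Dual k (relQuot P J)) := by
  have hJ' : J ≤ IsLocalRing.maximalIdeal P.carrier := hJ.trans (Ideal.pow_le_self two_ne_zero)
  obtain ⟨n, j, e, hjJ, hspan⟩ := exists_basis_dual_relQuot P J
  have hker : RingHom.ker (quotCRingHom P J hJ') = J := ker_quotCRingHom P J hJ'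
  exact hasObsTheory_of_presentation fd (quotCRing P J hJ') (quotCRingHom P J hJ')
    (quotCRingHom_res P J hJ') (idFamily (quotCRing P J hJ'))
    (idFamily_isUniversal (quotCRing P J hJ')) j (fun i => by rw [hker]; exact hjJ i) e
    (quotCRingHom_surjective P J hJ') (by rw [hker]; exact hJ) (by rw [hker]; exact hspan)

end HRObs

end Groth.Agent.Helper3.ArtFunLib
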