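import Mathlib
import Groth.Agent.Lib.Helper3.SchlN

set_option linter.style.haveILetI false

universe u v w

open CategoryTheory

namespace Groth.Agent.Helper3.ArtFunLib

section PSComplete

open MvPowerSeries

variable {R : Type*} [CommRing R] {σ : Type*} (I : Ideal R)

/-- power series whose coefficient of a monomial of degree `e` lies in `I ^ (N - e)` -/
def coeffIdeal (N : ℕ) : Ideal (MvPowerSeries σ R) where
  carrier := {f | ∀ d : σ →₀ ℕ, coeff d f ∈ I ^ (N - Finsupp.degree d)}
  zero_mem' := fun d => by rw [map_zero]; exact Ideal.zero_mem _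
  add_mem' := fun {f g} hf hg d => by rw [map_add]; exact Ideal.add_mem _ (hf d) (hg d)
  smul_mem' := fun s f hf d => by
    classical
    rw [smul_eq_mul, coeff_mul]
    refine Ideal.sum_mem _ fun p hp => ?_
    have hp' : p.1 + p.2 = d := Finset.HasAntidiagonal.mem_antidiagonal.1 hp
    have hdeg : Finsupp.degree p.2 ≤ Finsupp.degree d := by
      rw [← hp', map_add]; exact Nat.le_add_left _ _
    exact Ideal.mul_mem_left _ _
      (Ideal.pow_le_pow_right (Nat.sub_le_sub_left hdeg N) (hf p.2))

theorem mem_coeffIdeal {N : ℕ} {f : MvPowerSeries σ R} :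
    f ∈ coeffIdeal (σ := σ) I N ↔ ∀ d : σ →₀ ℕ, coeff d f ∈ I ^ (N - Finsupp.degree d) := Iff.rfl

theorem coeffIdeal_zero : coeffIdeal (σ := σ) I 0 = ⊤ := by
  rw [eq_top_iff]
  intro f _ d
  rw [Nat.zero_sub, pow_zero, Ideal.one_eq_top]
  exact Submodule.mem_top

theorem coeffIdeal_mul_le (a b : ℕ) :
    coeffIdeal (σ := σ) I a * coeffIdeal I b ≤ coeffIdeal I (a + b) := by
  classical
  rw [Ideal.mul_le]
  intro f hf g hg d
  rw [coeff_mul]
  refine Ideal.sum_mem _ fun p hp => ?_
  have hp' : p.1 + p.2 = d := Finset.HasAntidiagonal.mem_antidiagonal.1 hp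
  have hdeg : Finsupp.degree d = Finsupp.degree p.1 + Finsupp.degree p.2 := by
    rw [← hp', map_add]
  have h1 := Ideal.mul_mem_mul (hf p.1) (hg p.2)
  rw [← pow_add] at h1
  refine Ideal.pow_le_pow_right ?_ h1
  omega

section Local

variable [IsLocalRing R]

theorem maximalIdeal_le_coeffIdeal_one :
    IsLocalRing.maximalIdeal (MvPowerSeries σ R) ≤
      coeffIdeal (σ := σ) (IsLocalRing.maximalIdeal R) 1 := by
  intro f hf d
  by_cases hd : Finsupp.degree d = 0
  · rw [hd, Nat.sub_zero, pow_one]
    have hd0 : d = 0 := (Finsupp.degree_eq_zero_iff d).1 hd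
    rw [hd0, IsLocalRing.mem_maximalIdeal, mem_nonunits_iff]
    rw [IsLocalRing.mem_maximalIdeal, mem_nonunits_iff] at hf
    intro hu
    exact hf (MvPowerSeries.isUnit_iff_constantCoeff.2 hu)
  · have : 1 - Finsupp.degree d = 0 := by omega
    rw [this, pow_zero, Ideal.one_eq_top]
    exact Submodule.mem_top

theorem maximalIdeal_pow_le_coeffIdeal (N : ℕ) :
    IsLocalRing.maximalIdeal (MvPowerSeries σ R) ^ N ≤
      coeffIdeal (σ := σ) (IsLocalRing.maximalIdeal R) N := by
  induction N with
  | zero => rw [coeffIdeal_zero]; exact le_top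
  | succ N ih =>
    rw [pow_succ]
    exact (Ideal.mul_mono ih (maximalIdeal_le_coeffIdeal_one)).trans (coeffIdeal_mul_le _ N 1)

theorem X_mem_maximalIdeal_ps (s : σ) :
    (X s : MvPowerSeries σ R) ∈ IsLocalRing.maximalIdeal (MvPowerSeries σ R) := by
  rw [IsLocalRing.mem_maximalIdeal, mem_nonunits_iff]
  intro hu
  have := MvPowerSeries.isUnit_iff_constantCoeff.1 hu
  rw [constantCoeff_X] at this
  exact not_isUnit_zero this

theorem C_mem_maximalIdeal_ps {a : R} (ha : a ∈ IsLocalRing.maximalIdeal R) :
    (C a : MvPowerSeries σ R) ∈ IsLocalRing.maximalIdeal (MvPowerSeries σ R) := by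
  rw [IsLocalRing.mem_maximalIdeal, mem_nonunits_iff]
  intro hu
  have := MvPowerSeries.isUnit_iff_constantCoeff.1 hu
  rw [constantCoeff_C] at this
  exact ha this

theorem C_mem_maximalIdeal_pow_ps {a : R} {j : ℕ} (ha : a ∈ IsLocalRing.maximalIdeal R ^ j) :
    (C a : MvPowerSeries σ R) ∈ IsLocalRing.maximalIdeal (MvPowerSeries σ R) ^ j := by
  have h1 : Ideal.map (C : R →+* MvPowerSeries σ R) (IsLocalRing.maximalIdeal R) ≤
      IsLocalRing.maximalIdeal (MvPowerSeries σ R) := by
    rw [Ideal.map_le_iff_le_comap]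
    intro a ha
    exact C_mem_maximalIdeal_ps ha
  have h2 := Ideal.mem_map_of_mem (C : R →+* MvPowerSeries σ R) ha
  rw [Ideal.map_pow] at h2
  exact Ideal.pow_right_mono h1 j h2

theorem coeffIdeal_le_maximalIdeal_pow [Finite σ] (N : ℕ) :
    coeffIdeal (σ := σ) (IsLocalRing.maximalIdeal R) N ≤
      IsLocalRing.maximalIdeal (MvPowerSeries σ R) ^ N := by
  classical
  intro f hf
  have hvars : varsIdeal σ R ≤ IsLocalRing.maximalIdeal (MvPowerSeries σ R) := by
    unfold varsIdeal
    rw [Ideal.span_le]
    rintro _ ⟨s, rfl⟩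
    exact X_mem_maximalIdeal_ps s
  have h1 : f - ((truncTotal N f : MvPolynomial σ R) : MvPowerSeries σ R) ∈
      IsLocalRing.maximalIdeal (MvPowerSeries σ R) ^ N :=
    Ideal.pow_right_mono hvars N (sub_truncTotal_mem N f)
  have h2 : ((truncTotal N f : MvPolynomial σ R) : MvPowerSeries σ R) ∈
      IsLocalRing.maximalIdeal (MvPowerSeries σ R) ^ N := by
    change MvPolynomial.coeToMvPowerSeries.ringHom (truncTotal N f) ∈ _
    rw [← MvPolynomial.support_sum_monomial_coeff (truncTotal N f), map_sum]
    refine Ideal.sum_mem _ fun v hv => ?_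
    have hne : MvPolynomial.coeff v (truncTotal N f) ≠ 0 := MvPolynomial.mem_support_iff.1 hv
    rw [coeff_truncTotal_eq_ite] at hne ⊢
    by_cases hlt : Finsupp.degree v < N
    · rw [if_pos hlt, MvPolynomial.monomial_eq, map_mul]
      have e1 : MvPolynomial.coeToMvPowerSeries.ringHom (MvPolynomial.C (coeff v f)) =
          (C (coeff v f) : MvPowerSeries σ R) := MvPolynomial.coe_C _
      have e2 : MvPolynomial.coeToMvPowerSeries.ringHom
          (v.prod fun n e => (MvPolynomial.X n : MvPolynomial σ R) ^ e) =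
          v.prod fun n e => (X n : MvPowerSeries σ R) ^ e := by
        rw [Finsupp.prod, map_prod, Finsupp.prod]
        apply Finset.prod_congr rfl
        intro n _
        rw [map_pow]
        congr 1
        exact MvPolynomial.coe_X n
      rw [e1, e2]
      have h3 : (C (coeff v f) : MvPowerSeries σ R) ∈
          IsLocalRing.maximalIdeal (MvPowerSeries σ R) ^ (N - Finsupp.degree v) :=
        C_mem_maximalIdeal_pow_ps (hf v)
      have h4 : (v.prod fun n e => (X n : MvPowerSeries σ R) ^ e) ∈
          IsLocalRing.maximalIdeal (MvPowerSeries σ R) ^ (Finsupp.degree v) := by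
        have h5 : (v.prod fun n e => (X n : MvPowerSeries σ R) ^ e) ∈
            ∏ n ∈ v.support, IsLocalRing.maximalIdeal (MvPowerSeries σ R) ^ (v n) :=
          Ideal.prod_mem_prod fun n _ => Ideal.pow_mem_pow (X_mem_maximalIdeal_ps n) _
        rw [Finset.prod_pow_eq_pow_sum] at h5
        exact h5
      have h6 := Ideal.mul_mem_mul h3 h4
      rw [← pow_add, Nat.sub_add_cancel hlt.le] at h6
      exact h6
    · rw [if_neg hlt] at hne
      exact absurd rfl hne
  have h3 : f = (f - ((truncTotal N f : MvPolynomial σ R) : MvPowerSeries σ R)) +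
      ((truncTotal N f : MvPolynomial σ R) : MvPowerSeries σ R) := by ring
  rw [h3]
  exact Ideal.add_mem _ h1 h2

theorem isPrecomplete_ps_local [Finite σ] [IsPrecomplete (IsLocalRing.maximalIdeal R) R] :
    IsPrecomplete (IsLocalRing.maximalIdeal (MvPowerSeries σ R)) (MvPowerSeries σ R) := by
  refine ⟨fun f hf => ?_⟩
  have hf' : ∀ {m n : ℕ}, m ≤ n →
      f m - f n ∈ coeffIdeal (σ := σ) (IsLocalRing.maximalIdeal R) m := by
    intro m n h
    apply maximalIdeal_pow_le_coeffIdeal
    have := SModEq.sub_mem.1 (hf h)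
    rwa [smul_eq_mul, Ideal.mul_top] at this
  have hc : ∀ d : σ →₀ ℕ, ∃ L : R, ∀ j : ℕ,
      coeff d (f (j + Finsupp.degree d)) - L ∈ IsLocalRing.maximalIdeal R ^ j := by
    intro d
    obtain ⟨L, hL⟩ := IsPrecomplete.prec' (I := IsLocalRing.maximalIdeal R) (M := R)
      (fun j => coeff d (f (j + Finsupp.degree d))) (by
        intro m n hmn
        rw [SModEq.sub_mem, smul_eq_mul, Ideal.mul_top, ← map_sub]
        have := hf' (Nat.add_le_add_right hmn (Finsupp.degree d)) d
        rwa [Nat.add_sub_cancel] at this)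
    refine ⟨L, fun j => ?_⟩
    have := SModEq.sub_mem.1 (hL j)
    rwa [smul_eq_mul, Ideal.mul_top] at this
  choose L hL using hc
  refine ⟨(fun d => L d : MvPowerSeries σ R), fun N => ?_⟩
  rw [SModEq.sub_mem, smul_eq_mul, Ideal.mul_top]
  apply coeffIdeal_le_maximalIdeal_pow
  intro d
  rw [map_sub]
  by_cases h : Finsupp.degree d ≤ N
  · obtain ⟨j, rfl⟩ := Nat.exists_eq_add_of_le h
    have := hL d j
    rw [Nat.add_sub_cancel_left]
    rwa [Nat.add_comm] at this
  · have : N - Finsupp.degree d = 0 := by omega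
    rw [this, pow_zero, Ideal.one_eq_top]
    exact Submodule.mem_top

theorem isAdicComplete_ps_local [Finite σ] [IsNoetherianRing R]
    [IsAdicComplete (IsLocalRing.maximalIdeal R) R] :
    IsAdicComplete (IsLocalRing.maximalIdeal (MvPowerSeries σ R)) (MvPowerSeries σ R) := by
  haveI := isPrecomplete_ps_local (R := R) (σ := σ)
  exact { }

end Local

end PSComplete

section PsOver

open MvPowerSeries ArtFun ArtFun.Art

variable {Λ : Type u} {k : Type u} [CommRing Λ] [Field k] [Algebra Λ k]

/-- the constant coefficient as an algebra map -/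
noncomputable def constantCoeffₐ (σ : Type*) (R : Type*) [CommRing R] [Algebra Λ R] :
    MvPowerSeries σ R →ₐ[Λ] R :=
  { (constantCoeff (σ := σ) (R := R)) with
    commutes' := fun c => by
      change constantCoeff (algebraMap Λ (MvPowerSeries σ R) c) = algebraMap Λ R c
      rw [MvPowerSeries.algebraMap_apply, constantCoeff_C] }

theorem constantCoeffₐ_apply (σ : Type*) (R : Type*) [CommRing R] [Algebra Λ R]
    (f : MvPowerSeries σ R) : constantCoeffₐ (Λ := Λ) σ R f = constantCoeff f := rfl

/-- power series over a coefficient ring form a coefficient ring -/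
noncomputable abbrev psOver (R : CRing Λ k) (n : ℕ) : CRing Λ k :=
  { carrier := MvPowerSeries (Fin n) R.carrier
    res := R.res.comp (constantCoeffₐ (Fin n) R.carrier)
    res_surjective := fun c => by
      obtain ⟨a, ha⟩ := R.res_surjective c
      refine ⟨C a, ?_⟩
      change R.res (constantCoeff (C a)) = c
      rw [constantCoeff_C, ha]
    isAdicComplete := by
      haveI := R.isAdicComplete
      exact isAdicComplete_ps_local }

theorem psOver_res_apply (R : CRing Λ k) (n : ℕ) (f : MvPowerSeries (Fin n) R.carrier) :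
    (psOver R n).res f = R.res (constantCoeff f) := rfl

end PsOver

section MinPresGen

open ArtFun ArtFun.Art

variable {Λ : Type u} {k : Type u} [CommRing Λ] [Field k] [Algebra Λ k] [IsLocalRing Λ]

/-- a free ring on minimal generators gives a minimal presentation -/
theorem minimal_presentation_of_gens (hk : Function.Surjective (algebraMap Λ k))
    {P : CRing Λ k} {r : ℕ} (fd : FreeData P r)
    (hfd : IsLocalRing.maximalIdeal P.carrier ≤ Ideal.span (Set.range fd.gen) ⊔
        (IsLocalRing.maximalIdeal Λ).map (algebraMap Λ P.carrier))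
    (R : CRing Λ k) (x : Fin r → R.carrier)
    (hxm : ∀ j, x j ∈ IsLocalRing.maximalIdeal R.carrier)
    (hx : IsLocalRing.maximalIdeal R.carrier ≤ Ideal.span (Set.range x) ⊔
      (IsLocalRing.maximalIdeal R.carrier ^ 2 ⊔
          (IsLocalRing.maximalIdeal Λ).map (algebraMap Λ R.carrier)))
    (hmin : ∀ d : Fin r → R.carrier, ∑ j, d j * x j ∈
      (IsLocalRing.maximalIdeal R.carrier ^ 2 ⊔
          (IsLocalRing.maximalIdeal Λ).map (algebraMap Λ R.carrier)) →
      ∀ j, d j ∈ IsLocalRing.maximalIdeal R.carrier) :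
    ∃ g : P.carrier →ₐ[Λ] R.carrier,
      R.res.comp g = P.res ∧ Function.Surjective g ∧ (∀ j, g (fd.gen j) = x j) ∧
      ∀ p ∈ IsLocalRing.maximalIdeal P.carrier,
        g p ∈ IsLocalRing.maximalIdeal R.carrier ^ 2 ⊔
          (IsLocalRing.maximalIdeal Λ).map (algebraMap Λ R.carrier) →
        p ∈ IsLocalRing.maximalIdeal P.carrier ^ 2 ⊔
          (IsLocalRing.maximalIdeal Λ).map (algebraMap Λ P.carrier) := by
  set I : Ideal R.carrier := IsLocalRing.maximalIdeal R.carrier ^ 2 ⊔
          (IsLocalRing.maximalIdeal Λ).map (algebraMap Λ R.carrier) with hI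
  obtain ⟨g, hg, hgx⟩ := fd.exists_hom R x hxm
  have hΛ : (IsLocalRing.maximalIdeal Λ).map (algebraMap Λ R.carrier) ≤
      Ideal.map (g : P.carrier →+* R.carrier) (IsLocalRing.maximalIdeal P.carrier) := by
    rw [Ideal.map_le_iff_le_comap]
    intro c hc
    rw [Ideal.mem_comap]
    have : algebraMap Λ R.carrier c = (g : P.carrier →+* R.carrier) (algebraMap Λ P.carrier c) :=
      (g.commutes c).symm
    rw [this]
    exact Ideal.mem_map_of_mem _ (algebraMap_mem_maximalIdeal_cring hk P hc)
  have hsurj : Function.Surjective g := by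
    haveI : IsPrecomplete (IsLocalRing.maximalIdeal P.carrier) P.carrier :=
      P.isAdicComplete.toIsPrecomplete
    haveI : IsHausdorff (IsLocalRing.maximalIdeal R.carrier) R.carrier :=
      R.isAdicComplete.toIsHausdorff
    apply ring_surjective_of_map_sup_sq (g : P.carrier →+* R.carrier)
    · intro s
      obtain ⟨l, hl⟩ := hk (R.res s)
      refine ⟨algebraMap Λ P.carrier l, ?_⟩
      rw [CRing.mem_maximalIdeal_iff, map_sub]
      change R.res s - R.res (g (algebraMap Λ P.carrier l)) = 0
      rw [g.commutes, R.res.commutes, hl, sub_self]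
    · apply le_antisymm
      · apply sup_le _ (Ideal.pow_le_self two_ne_zero)
        rw [Ideal.map_le_iff_le_comap]
        intro p hp
        exact (cring_hom_mem_maximalIdeal_iff g hg p).2 hp
      · refine hx.trans (sup_le ?_ (sup_le le_sup_right (hΛ.trans le_sup_left)))
        refine le_trans ?_ le_sup_left
        rw [Ideal.span_le]
        rintro _ ⟨j, rfl⟩
        rw [← hgx j]
        exact Ideal.mem_map_of_mem (g : P.carrier →+* R.carrier) (fd.gen_mem j)
  refine ⟨g, hg, hsurj, hgx, ?_⟩
  intro p hp hpI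
  obtain ⟨v, hv, w, hw, rfl⟩ := Submodule.mem_sup.1 (hfd hp)
  obtain ⟨c, rfl⟩ := (Ideal.mem_span_range_iff_exists_fun).1 hv
  have hwI : g w ∈ I := by
    apply le_sup_right (a := IsLocalRing.maximalIdeal R.carrier ^ 2)
    have : Ideal.map (g : P.carrier →+* R.carrier)
        ((IsLocalRing.maximalIdeal Λ).map (algebraMap Λ P.carrier)) =
        (IsLocalRing.maximalIdeal Λ).map (algebraMap Λ R.carrier) := by
      rw [Ideal.map_map]
      congr 1
      exact g.comp_algebraMap
    rw [← this]
    exact Ideal.mem_map_of_mem _ hw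
  have hsum : ∑ j, g (c j) * x j ∈ I := by
    have h1 : g (∑ j, c j * fd.gen j + w) = ∑ j, g (c j) * x j + g w := by
      rw [map_add, map_sum]
      congr 1
      apply Finset.sum_congr rfl
      intro j _
      rw [map_mul, hgx j]
    rw [h1] at hpI
    have := I.sub_mem hpI hwI
    rwa [add_sub_cancel_right] at this
  have hc : ∀ j, c j ∈ IsLocalRing.maximalIdeal P.carrier := fun j =>
    (cring_hom_mem_maximalIdeal_iff g hg (c j)).1 (hmin _ hsum j)
  refine Ideal.add_mem _ (le_sup_left (b := (IsLocalRing.maximalIdeal Λ).map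
    (algebraMap Λ P.carrier)) ?_) (le_sup_right (a := IsLocalRing.maximalIdeal P.carrier ^ 2) hw)
  refine Ideal.sum_mem _ fun j _ => ?_
  rw [pow_two]
  exact Ideal.mul_mem_mul (hc j) (fd.gen_mem j)

end MinPresGen

section SmoothInjective

open ArtFun ArtFun.Art

variable {Λ : Type u} {k : Type u} [CommRing Λ] [Field k] [Algebra Λ k] [IsLocalRing Λ]

/-- a minimal surjection onto `R` with `h_R` smooth is injective -/
theorem injective_of_smooth_of_minimal (hk : Function.Surjective (algebraMap Λ k))
    {P R : CRing Λ k} (g : P.carrier →ₐ[Λ] R.carrier) (hg : R.res.comp g = P.res)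
    (hgs : Function.Surjective g)
    (hker : RingHom.ker g ≤ IsLocalRing.maximalIdeal P.carrier ^ 2 ⊔
      (IsLocalRing.maximalIdeal Λ).map (algebraMap Λ P.carrier))
    (hsm : IsSmoothFunctor (hR R.carrier R.res)) : Function.Injective g := by
  rw [injective_iff_map_eq_zero]
  intro x hx
  have hmem : ∀ N, x ∈ CRing.mpow P N := by
    intro N
    set A := P.trunc N with hA
    set gbar := CRing.truncMapOfHom g hg N with hgbar
    have hgbars : Function.Surjective gbar := truncMapOfHom_surjective g hg hgs N
    obtain ⟨a, ha⟩ := hsm gbar hgbars (R.truncHom N)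
    have ha' : HomSet.map gbar a = R.truncHom N := ha
    -- the point `a ∘ g`
    let t : HomSet P.carrier P.res A := ⟨a.1.comp g, by rw [← AlgHom.comp_assoc, a.2, hg]⟩
    have ht : ∀ p, t.1 p = a.1 (g p) := fun p => rfl
    have hcmp : ∀ p, gbar (t.1 p) = gbar ((P.truncHom N).1 p) := by
      intro p
      have h1 := congrArg (fun s : HomSet R.carrier R.res (R.trunc N) => s.1 (g p)) ha'
      change gbar (a.1 (g p)) = (R.truncHom N).1 (g p) at h1
      rw [ht, h1]
      rfl
    have hmapg : Ideal.map (g : P.carrier →+* R.carrier) (IsLocalRing.maximalIdeal P.carrier) =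
        IsLocalRing.maximalIdeal R.carrier :=
      ring_map_maximalIdeal_eq_of_surjective (P.res : P.carrier →+* k) (R.res : R.carrier →+* k)
        (g : P.carrier →+* R.carrier) (by ext y; exact CRing.res_comp_apply g hg y)
        P.res_surjective R.res_surjective hgs
    have hΛA : (IsLocalRing.maximalIdeal Λ).map (algebraMap Λ A) ≤
        Ideal.map (t.1 : P.carrier →+* A) (IsLocalRing.maximalIdeal P.carrier) := by
      rw [Ideal.map_le_iff_le_comap]
      intro c hc
      rw [Ideal.mem_comap]
      have : algebraMap Λ A c = (t.1 : P.carrier →+* A) (algebraMap Λ P.carrier c) :=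
        (t.1.commutes c).symm
      rw [this]
      exact Ideal.mem_map_of_mem _ (algebraMap_mem_maximalIdeal_cring hk P hc)
    have hkergbar : RingHom.ker gbar.toAlgHom ≤ IsLocalRing.maximalIdeal (A : Type u) ^ 2 ⊔
        (IsLocalRing.maximalIdeal Λ).map (algebraMap Λ A) := by
      intro y hy
      obtain ⟨p, rfl⟩ := Ideal.Quotient.mk_surjective y
      have h1 : Ideal.Quotient.mk (CRing.mpow R N) (g p) = 0 := hy
      have h2 : g p ∈ CRing.mpow R N := Ideal.Quotient.eq_zero_iff_mem.1 h1
      rw [CRing.mpow, ← hmapg, ← Ideal.map_pow] at h2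
      obtain ⟨p', hp', hpe⟩ := (Ideal.mem_map_iff_of_surjective
        (g : P.carrier →+* R.carrier) hgs).1 h2
      have h3 : p - p' ∈ RingHom.ker g := by
        rw [RingHom.mem_ker, map_sub, sub_eq_zero]
        exact hpe.symm
      have h4 : (Ideal.Quotient.mk (CRing.mpow P N) p : P.carrier ⧸ CRing.mpow P N) =
          Ideal.Quotient.mk (CRing.mpow P N) (p - p') := by
        rw [map_sub, Ideal.Quotient.eq_zero_iff_mem.2 hp', sub_zero]
      obtain ⟨v, hv, w, hw, hvw⟩ := Submodule.mem_sup.1 (hker h3)
      change (Ideal.Quotient.mk (CRing.mpow P N) p : P.carrier ⧸ CRing.mpow P N) ∈ _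
      rw [h4, ← hvw]
      have hpt : ∀ z : P.carrier, (Ideal.Quotient.mk (CRing.mpow P N) z :
          P.carrier ⧸ CRing.mpow P N) = (P.truncHom N).1 z := fun z => rfl
      rw [hpt, map_add]
      refine Ideal.add_mem _
        (le_sup_left (b := (IsLocalRing.maximalIdeal Λ).map (algebraMap Λ A)) ?_)
        (le_sup_right (a := IsLocalRing.maximalIdeal (A : Type u) ^ 2) ?_)
      · have h5 : Ideal.map ((P.truncHom N).1 : P.carrier →+* A)
            (IsLocalRing.maximalIdeal P.carrier ^ 2) ≤
            IsLocalRing.maximalIdeal (A : Type u) ^ 2 := by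
          rw [Ideal.map_pow]
          refine Ideal.pow_right_mono ?_ 2
          rw [Ideal.map_le_iff_le_comap]
          intro z hz
          exact homSet_mem_maximalIdeal (P.truncHom N) hz
        exact h5 (Ideal.mem_map_of_mem _ hv)
      · have h6 : Ideal.map ((P.truncHom N).1 : P.carrier →+* A)
            ((IsLocalRing.maximalIdeal Λ).map (algebraMap Λ P.carrier)) =
            (IsLocalRing.maximalIdeal Λ).map (algebraMap Λ A) := by
          rw [Ideal.map_map]
          congr 1
        rw [← h6]
        exact Ideal.mem_map_of_mem _ hw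
    -- `t` is surjective
    have htsurj : Function.Surjective t.1 := by
      haveI : IsPrecomplete (IsLocalRing.maximalIdeal P.carrier) P.carrier :=
        P.isAdicComplete.toIsPrecomplete
      haveI := Art.isHausdorff A
      apply ring_surjective_of_map_sup_sq (t.1 : P.carrier →+* A)
      · intro s
        obtain ⟨l, hl⟩ := hk (A.res s)
        refine ⟨algebraMap Λ P.carrier l, ?_⟩
        rw [Art.mem_maximalIdeal_iff, map_sub]
        change A.res s - A.res (t.1 (algebraMap Λ P.carrier l)) = 0
        rw [t.1.commutes, A.res.commutes, hl, sub_self]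
      · apply le_antisymm
        · apply sup_le _ (Ideal.pow_le_self two_ne_zero)
          rw [Ideal.map_le_iff_le_comap]
          intro p hp
          exact homSet_mem_maximalIdeal t hp
        · intro y hy
          obtain ⟨p, rfl⟩ := Ideal.Quotient.mk_surjective y
          have hp : p ∈ IsLocalRing.maximalIdeal P.carrier :=
            (homSet_mem_maximalIdeal_iff (P.truncHom N) p).1 hy
          have h1 : (P.truncHom N).1 p - t.1 p ∈ RingHom.ker gbar.toAlgHom := by
            rw [RingHom.mem_ker, map_sub, sub_eq_zero]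
            exact (hcmp p).symm
          have h2 := hkergbar h1
          have h3 : (Ideal.Quotient.mk (CRing.mpow P N) p : P.carrier ⧸ CRing.mpow P N) =
              t.1 p + ((P.truncHom N).1 p - t.1 p) := by
            change (P.truncHom N).1 p = _
            ring
          rw [h3]
          refine Ideal.add_mem _ (le_sup_left (b := IsLocalRing.maximalIdeal (A : Type u) ^ 2)
            (Ideal.mem_map_of_mem _ hp)) ?_
          obtain ⟨v, hv, w, hw, hvw⟩ := Submodule.mem_sup.1 h2
          rw [← hvw]
          exact Ideal.add_mem _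
            (le_sup_right (a := Ideal.map (t.1 : P.carrier →+* A)
              (IsLocalRing.maximalIdeal P.carrier)) hv)
            (le_sup_left (b := IsLocalRing.maximalIdeal (A : Type u) ^ 2) (hΛA hw))
    -- the induced endomorphism of `A`
    have hn := trunc_pow_eq_bot P N
    set e := factorTrunc P hn t with he
    have hemap : HomSet.map e (P.truncHom N) = t := map_factorTrunc P hn t
    have hesurj : Function.Surjective e := by
      intro y
      obtain ⟨p, rfl⟩ := htsurj y
      refine ⟨(P.truncHom N).1 p, ?_⟩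
      exact congrArg (fun s : HomSet P.carrier P.res A => s.1 p) hemap
    have heinj : Function.Injective e :=
      ringHom_injective_of_surjective_endo (e.toAlgHom : (A : Type u) →+* A) hesurj
    have h1 : e ((P.truncHom N).1 x) = 0 := by
      have := congrArg (fun s : HomSet P.carrier P.res A => s.1 x) hemap
      change e ((P.truncHom N).1 x) = t.1 x at this
      rw [this, ht, hx, map_zero]
    have h2 : (P.truncHom N).1 x = 0 := heinj (by rw [h1, map_zero])
    exact Ideal.Quotient.eq_zero_iff_mem.1 h2
  rw [← Ideal.mem_bot, ← Ideal.iInf_pow_eq_bot_of_isLocalRing (IsLocalRing.maximalIdeal P.carrier)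
      (IsLocalRing.maximalIdeal.isMaximal _).ne_top, Ideal.mem_iInf]
  intro n
  exact Ideal.pow_le_pow_right (Nat.le_succ n) (hmem n)

end SmoothInjective

section BasePS

open MvPowerSeries ArtFun ArtFun.Art

variable {Λ : Type u} {k : Type u} [CommRing Λ] [Field k] [Algebra Λ k] [IsLocalRing Λ]
  [IsNoetherianRing Λ] [IsAdicComplete (IsLocalRing.maximalIdeal Λ) Λ]

/-- a complete local Noetherian base ring as a coefficient ring over itself -/
noncomputable abbrev baseCRing (hk : Function.Surjective (algebraMap Λ k)) : CRing Λ k :=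
  { carrier := Λ
    res := Algebra.ofId Λ k
    res_surjective := hk
    isAdicComplete := inferInstance }

variable (hk : Function.Surjective (algebraMap Λ k)) (n : ℕ)

theorem psOver_base_res_apply (f : MvPowerSeries (Fin n) Λ) :
    (psOver (baseCRing hk) n).res f = algebraMap Λ k (constantCoeff f) := rfl

/-- power series over the base are freely generated by the variables -/
noncomputable def psBaseFreeData : FreeData (psOver (baseCRing hk) n) n where
  gen j := (X j : MvPowerSeries (Fin n) Λ)
  gen_mem j := by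
    rw [CRing.mem_maximalIdeal_iff]
    change algebraMap Λ k (constantCoeff (X j : MvPowerSeries (Fin n) Λ)) = 0
    rw [constantCoeff_X, map_zero]
  exists_point A α hα := by
    obtain ⟨φ₀, hφ₀⟩ := exists_ps_eval A α hα
    have hX : ∀ s, φ₀ (X s) = α s := fun s => by
      rw [← MvPolynomial.coe_X, hφ₀, MvPolynomial.aeval_X]
    have hres : A.res.comp φ₀ = psRes (k := k) (Fin n) := by
      have := ps_algHom_ext (base Λ k) (A.res.comp φ₀) (psRes (k := k) (Fin n))
        (fun s => by
          change A.res (φ₀ (X s)) ∈ IsLocalRing.maximalIdeal k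
          rw [hX, (Art.mem_maximalIdeal_iff A _).1 (hα s)]
          exact Ideal.zero_mem _)
        (fun s => by
          change A.res (φ₀ (X s)) = algebraMap Λ k (constantCoeff (X s))
          rw [hX, (Art.mem_maximalIdeal_iff A _).1 (hα s), constantCoeff_X, map_zero])
      exact this
    refine ⟨⟨φ₀, ?_⟩, fun j => hX j⟩
    rw [hres]
    exact AlgHom.ext fun _ => rfl
  point_ext A φ φ' h := by
    apply Subtype.ext
    apply ps_algHom_ext A
    · intro s
      rw [Art.mem_maximalIdeal_iff]
      have := congrArg (fun g : MvPowerSeries (Fin n) Λ →ₐ[Λ] k => g (X s)) φ.2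
      change A.res (φ.1 (X s)) = algebraMap Λ k (constantCoeff (X s : MvPowerSeries (Fin n) Λ)) at this
      refine this.trans ?_
      rw [constantCoeff_X, map_zero]
    · exact h

theorem psBase_maximalIdeal_le :
    IsLocalRing.maximalIdeal (psOver (baseCRing hk) n).carrier ≤
      Ideal.span (Set.range (psBaseFreeData hk n).gen) ⊔
        (IsLocalRing.maximalIdeal Λ).map (algebraMap Λ (psOver (baseCRing hk) n).carrier) := by
  intro f hf
  rw [CRing.mem_maximalIdeal_iff] at hf
  have hf0 : algebraMap Λ k (constantCoeff (f : MvPowerSeries (Fin n) Λ)) = 0 := hf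
  have h1 : (f : MvPowerSeries (Fin n) Λ) - C (constantCoeff f) ∈ varsIdeal (Fin n) Λ := by
    apply mem_varsIdeal_of_constantCoeff_eq_zero
    rw [map_sub, constantCoeff_C, sub_self]
  have h2 : constantCoeff (f : MvPowerSeries (Fin n) Λ) ∈ IsLocalRing.maximalIdeal Λ := by
    rw [← ker_eq_maximalIdeal (algebraMap Λ k) hk]
    exact hf0
  have h3 : (f : MvPowerSeries (Fin n) Λ) = (f - C (constantCoeff f)) + C (constantCoeff f) := by
    ring
  rw [h3]
  refine Ideal.add_mem _ (le_sup_left (b := (IsLocalRing.maximalIdeal Λ).map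
      (algebraMap Λ (psOver (baseCRing hk) n).carrier)) h1)
    (le_sup_right (a := Ideal.span (Set.range (psBaseFreeData hk n).gen)) ?_)
  have : (C (constantCoeff f) : MvPowerSeries (Fin n) Λ) =
      algebraMap Λ (MvPowerSeries (Fin n) Λ) (constantCoeff f) := by
    rw [MvPowerSeries.algebraMap_apply]; rfl
  rw [this]
  exact Ideal.mem_map_of_mem _ h2

include hk in
/-- if `h_R` is smooth then `R` is a power series ring over the (complete) base -/
theorem exists_algEquiv_powerSeries_of_smooth (R : CRing Λ k)
    (hsm : IsSmoothFunctor (hR R.carrier R.res)) :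
    ∃ n : ℕ, Nonempty (R.carrier ≃ₐ[Λ] MvPowerSeries (Fin n) Λ) := by
  obtain ⟨r, x, hxm, hx, hmin⟩ := exists_min_gens (IsLocalRing.maximalIdeal R.carrier ^ 2 ⊔
          (IsLocalRing.maximalIdeal Λ).map (algebraMap Λ R.carrier))
  obtain ⟨g, hg, hgs, -, hgmin⟩ := minimal_presentation_of_gens hk (psBaseFreeData hk r)
    (psBase_maximalIdeal_le hk r) R x hxm hx hmin
  have hker : RingHom.ker g ≤ IsLocalRing.maximalIdeal (psOver (baseCRing hk) r).carrier ^ 2 ⊔
      (IsLocalRing.maximalIdeal Λ).map (algebraMap Λ (psOver (baseCRing hk) r).carrier) := by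
    intro p hp
    have hpm : p ∈ IsLocalRing.maximalIdeal (psOver (baseCRing hk) r).carrier := by
      rw [← cring_hom_mem_maximalIdeal_iff g hg, RingHom.mem_ker.1 hp]
      exact Ideal.zero_mem _
    exact hgmin p hpm (by rw [RingHom.mem_ker.1 hp]; exact Ideal.zero_mem _)
  have hinj := injective_of_smooth_of_minimal hk g hg hgs hker hsm
  exact ⟨r, ⟨(AlgEquiv.ofBijective g ⟨hinj, hgs⟩).symm⟩⟩

end BasePS

end Groth.Agent.Helper3.ArtFunLib
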