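import Mathlib

set_option autoImplicit false
universe v u
open CategoryTheory Limits

namespace Groth.Agent.Helper3.CechAcy

variable {𝒜 : Type u} [Category.{v} 𝒜] [Abelian 𝒜]

/-- exactness of `Hom(P_•, M)` in degree `m + 1` -/
def CExact (P : ChainComplex 𝒜 ℕ) (M : 𝒜) (m : ℕ) : Prop :=
  ∀ x : P.X (m + 1) ⟶ M, P.d (m + 2) (m + 1) ≫ x = 0 → ∃ y : P.X m ⟶ M, P.d (m + 1) m ≫ y = x

section

variable (P : ChainComplex 𝒜 ℕ) (Z : 𝒜) (π : P ⟶ (ChainComplex.single₀ 𝒜).obj Z)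

lemma d_comp_π : P.d 1 0 ≫ π.f 0 = 0 := by
  rw [← π.comm 1 0]
  simp only [ChainComplex.single₀_obj_zero, HomologicalComplex.single_obj_d]
  exact comp_zero

variable [QuasiIso π]

set_option backward.defeqAttrib.useBackward true in
open HomologicalComplex ChainComplex in
/-- `Z` is the cokernel of `P₁ ⟶ P₀` for a resolution `P ⟶ Z` -/
noncomputable def isColimitCokernelCofork :
    IsColimit (CokernelCofork.ofπ (π.f 0) (d_comp_π P Z π)) := by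
  refine IsColimit.ofIsoColimit (P.opcyclesIsCokernel 1 0 (by simp)) ?_
  refine Cofork.ext (P.isoHomologyι₀.symm ≪≫ isoOfQuasiIsoAt π 0 ≪≫
    singleObjHomologySelfIso _ _ _) ?_
  rw [← cancel_mono (singleObjHomologySelfIso (ComplexShape.down ℕ) 0 _).inv,
    ← cancel_mono (isoHomologyι₀ _).hom]
  dsimp
  simp only [isoHomologyι₀_inv_naturality_assoc, p_opcyclesMap_assoc, ChainComplex.single₀_obj_zero,
    Category.assoc,
    Iso.hom_inv_id, Category.comp_id, isoHomologyι_inv_hom_id, singleObjHomologySelfIso_inv_homologyι,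
    singleObjOpcyclesSelfIso_hom, ChainComplex.single₀ObjXSelf, Iso.refl_inv, Category.id_comp]

lemma epi_π : Epi (π.f 0) :=
  epi_of_isColimit_cofork (isColimitCokernelCofork P Z π)

/-- lifting a morphism `Z ⟶ S.X₃` along `S.g` from a lift on `P₀`, given exactness of `Hom(P, S.X₁)`
in degree one -/
theorem lift_of_cexact (S : ShortComplex 𝒜) (hS : S.ShortExact)
    (h1 : CExact P S.X₁ 0) (ψ : Z ⟶ S.X₃) (t₀ : P.X 0 ⟶ S.X₂) (ht₀ : t₀ ≫ S.g = π.f 0 ≫ ψ) :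
    ∃ ψ' : Z ⟶ S.X₂, ψ' ≫ S.g = ψ := by
  have := hS.mono_f
  let c₁ := hS.exact.lift (P.d 1 0 ≫ t₀) (by
    rw [Category.assoc, ht₀, ← Category.assoc, d_comp_π, zero_comp])
  have hc₁ : c₁ ≫ S.f = P.d 1 0 ≫ t₀ := hS.exact.lift_f _ _
  have hc₁d : P.d 2 1 ≫ c₁ = 0 := by
    rw [← cancel_mono S.f, Category.assoc, hc₁, ← Category.assoc, P.d_comp_d, zero_comp, zero_comp]
  obtain ⟨c₀, hc₀⟩ := h1 c₁ hc₁d
  have ht'd : P.d 1 0 ≫ (t₀ - c₀ ≫ S.f) = 0 := by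
    rw [Preadditive.comp_sub, ← Category.assoc, hc₀, hc₁, sub_self]
  let ψ' := (isColimitCokernelCofork P Z π).desc (CokernelCofork.ofπ (t₀ - c₀ ≫ S.f) ht'd)
  have hψ' : π.f 0 ≫ ψ' = t₀ - c₀ ≫ S.f :=
    (isColimitCokernelCofork P Z π).fac (CokernelCofork.ofπ (t₀ - c₀ ≫ S.f) ht'd)
      WalkingParallelPair.one
  refine ⟨ψ', ?_⟩
  have := epi_π P Z π
  have key : π.f 0 ≫ (ψ' ≫ S.g) = π.f 0 ≫ ψ := by
    rw [← Category.assoc, hψ', Preadditive.sub_comp, Category.assoc, S.zero,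
      comp_zero, sub_zero, ht₀]
  exact (cancel_epi (π.f 0)).1 key

end

/-- the two-out-of-three property of exactness of `Hom(P, -)` along a short exact sequence
with enough lifts -/
theorem cexact_of_ses (P : ChainComplex 𝒜 ℕ) (S : ShortComplex 𝒜) (hS : S.ShortExact) (m : ℕ)
    (hlift : ∀ x₃ : P.X (m + 1) ⟶ S.X₃, ∃ x₂ : P.X (m + 1) ⟶ S.X₂, x₂ ≫ S.g = x₃)
    (h1 : CExact P S.X₁ (m + 1)) (h2 : CExact P S.X₂ m) : CExact P S.X₃ m := by
  have := hS.mono_f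
  intro x₃ hx₃
  obtain ⟨x₂, hx₂⟩ := hlift x₃
  let z₁ := hS.exact.lift (P.d (m + 2) (m + 1) ≫ x₂) (by
    rw [Category.assoc, hx₂, hx₃])
  have hz₁ : z₁ ≫ S.f = P.d (m + 2) (m + 1) ≫ x₂ := hS.exact.lift_f _ _
  have hz₁d : P.d (m + 1 + 2) (m + 1 + 1) ≫ z₁ = 0 := by
    rw [← cancel_mono S.f, Category.assoc, hz₁, ← Category.assoc, P.d_comp_d, zero_comp, zero_comp]
  obtain ⟨w₁, hw₁⟩ := h1 z₁ hz₁d
  have hx₂' : P.d (m + 2) (m + 1) ≫ (x₂ - w₁ ≫ S.f) = 0 := by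
    rw [Preadditive.comp_sub, ← Category.assoc, hw₁, hz₁, sub_self]
  obtain ⟨v₂, hv₂⟩ := h2 (x₂ - w₁ ≫ S.f) hx₂'
  refine ⟨v₂ ≫ S.g, ?_⟩
  rw [← Category.assoc, hv₂, Preadditive.sub_comp, Category.assoc, S.zero, comp_zero, sub_zero, hx₂]

end Groth.Agent.Helper3.CechAcy
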