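import Mathlib
import Groth.Agent.Lib.Helper3.FreeQI
import Groth.Agent.Lib.Helper3.EDType
import Groth.Agent.Lib.Helper3.WFree

set_option autoImplicit false
universe u
open CategoryTheory Limits Opposite Simplicial AlgebraicTopology

namespace Groth.Agent.Helper3.NerveRes

variable {C : Type u} [SmallCategory C] (J : GrothendieckTopology C)
  {K' K : Sheaf J (Type u)} (f : K' ⟶ K)

/-- the inclusion of the presheaf image of an epimorphism of sheaves is a local isomorphism -/
lemma W_range_ι [Epi f] : J.W (A := Type u) (Subfunctor.range f.hom).ι := by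
  rw [J.W_iff_isLocallyBijective]
  constructor
  · exact Presheaf.isLocallyInjective_of_injective J _ (fun X => Subtype.val_injective)
  · have : Sheaf.IsLocallySurjective f := (Sheaf.isLocallySurjective_iff_epi f).2 inferInstance
    exact Presheaf.isLocallySurjective_of_isLocallySurjective_fac J (Subfunctor.toRange_ι f.hom)

/-- the underlying simplicial presheaf of the Čech nerve -/
noncomputable abbrev leftP : SimplicialObject (Cᵒᵖ ⥤ Type u) :=
  (Arrow.mk f).cechNerve ⋙ sheafToPresheaf J (Type u)

/-- the projections of the Čech nerve -/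
noncomputable abbrev pr (n : ℕ) (k : Fin (n + 1)) : (leftP J f).obj (op ⦋n⦌) ⟶ K'.obj :=
  (WidePullback.π (fun _ : Fin (n + 1) => (Arrow.mk f).hom) k).hom

lemma pr_f (n : ℕ) (k : Fin (n + 1)) :
    pr J f n k ≫ f.hom = (WidePullback.base (fun _ : Fin (n + 1) => (Arrow.mk f).hom)).hom := by
  have h := WidePullback.π_arrow (fun _ : Fin (n + 1) => (Arrow.mk f).hom) k
  exact congrArg (fun m => m.hom) h

lemma map_pr {m n : ℕ} (θ : ⦋m⦌ ⟶ ⦋n⦌) (k : Fin (m + 1)) :
    (leftP J f).map θ.op ≫ pr J f m k = pr J f n (θ.toOrderHom k) := by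
  have h : (Arrow.mk f).cechNerve.map θ.op ≫ WidePullback.π (fun _ : Fin (m + 1) => (Arrow.mk f).hom) k =
      WidePullback.π (fun _ : Fin (n + 1) => (Arrow.mk f).hom) (θ.toOrderHom k) := by
    exact WidePullback.lift_π _ _ _ _ _
  exact congrArg (fun m => m.hom) h

lemma pr_toRange (n : ℕ) (k l : Fin (n + 1)) :
    pr J f n k ≫ Subfunctor.toRange f.hom = pr J f n l ≫ Subfunctor.toRange f.hom := by
  have : Mono (Subfunctor.range f.hom).ι := inferInstance
  rw [← cancel_mono (Subfunctor.range f.hom).ι, Category.assoc, Category.assoc,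
    Subfunctor.toRange_ι, pr_f, pr_f]

/-- the Čech nerve augmented towards the presheaf image -/
noncomputable def AugIm : SimplicialObject.Augmented (Cᵒᵖ ⥤ Type u) where
  left := leftP J f
  right := (Subfunctor.range f.hom).toFunctor
  hom :=
    { app := fun n => pr J f n.unop.len 0 ≫ Subfunctor.toRange f.hom
      naturality := by
        intro n m θ
        obtain ⟨n⟩ := n
        obtain ⟨m⟩ := m
        induction n using SimplexCategory.rec with | _ n => ?_
        induction m using SimplexCategory.rec with | _ m => ?_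
        obtain ⟨θ, rfl⟩ : ∃ θ' : ⦋m⦌ ⟶ ⦋n⦌, θ = θ'.op := ⟨θ.unop, rfl⟩
        change (leftP J f).map θ.op ≫ pr J f m 0 ≫ Subfunctor.toRange f.hom =
          (pr J f n 0 ≫ Subfunctor.toRange f.hom) ≫ 𝟙 _
        rw [Category.comp_id, ← Category.assoc, map_pr]
        exact pr_toRange J f n _ _ }

section sections

variable (W : Cᵒᵖ) (n : ℕ)

/-- the wide cospan whose limit is the `n`-th term of the Čech nerve -/
noncomputable abbrev D : WidePullbackShape (Fin (n + 1)) ⥤ Sheaf J (Type u) :=
  WidePullbackShape.wideCospan K (fun _ : Fin (n + 1) => K') (fun _ => f)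

/-- sections over `W` -/
noncomputable abbrev GW : Sheaf J (Type u) ⥤ Type u :=
  sheafToPresheaf J (Type u) ⋙ (evaluation Cᵒᵖ (Type u)).obj W

noncomputable def hl : IsLimit ((GW J W).mapCone (limit.cone (D J f n))) :=
  isLimitOfPreserves (GW J W) (limit.isLimit (D J f n))

lemma pr_injective (x y : ((leftP J f).obj (op ⦋n⦌)).obj W)
    (h : ∀ k, (pr J f n k).app W x = (pr J f n k).app W y) : x = y := by
  apply (Types.isLimitEquivSections (hl J f W n)).injective
  apply Subtype.ext
  funext j
  rw [Types.isLimitEquivSections_apply, Types.isLimitEquivSections_apply]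
  cases j with
  | none =>
    have hb := NatTrans.congr_app (pr_f J f n 0) W
    have hx := ConcreteCategory.congr_hom hb x
    have hy := ConcreteCategory.congr_hom hb y
    exact hx.symm.trans ((congrArg (f.hom.app W) (h 0)).trans hy)
  | some k => exact h k

lemma pr_surjective (e : Fin (n + 1) → K'.obj.obj W) (b : K.obj.obj W)
    (h : ∀ k, f.hom.app W (e k) = b) :
    ∃ x : ((leftP J f).obj (op ⦋n⦌)).obj W, ∀ k, (pr J f n k).app W x = e k := by
  let s : (D J f n ⋙ GW J W).sections :=
    ⟨fun j => match j with
      | none => b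
      | some k => e k, by
      intro j j' φ
      obtain - | k := φ
      · exact ConcreteCategory.congr_hom (CategoryTheory.Functor.map_id (D J f n ⋙ GW J W) j) _
      · exact h k⟩
  refine ⟨(Types.isLimitEquivSections (hl J f W n)).symm s, fun k => ?_⟩
  exact Types.isLimitEquivSections_symm_apply (hl J f W n) s (some k)

end sections

/-- objectwise extra degeneracy of the Čech nerve augmented to the presheaf image -/
theorem nonempty_extraDegeneracy (W : Cᵒᵖ) :
    Nonempty (SimplicialObject.Augmented.ExtraDegeneracy (FreeQI.evalAug (AugIm J f) W)) := by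
  refine EDType.nonempty_extraDegeneracy (FreeQI.evalAug (AugIm J f) W)
    (E := K'.obj.obj W) (fun x => (Subfunctor.toRange f.hom).app W x)
    (fun n x k => (pr J f n k).app W x) ?_ ?_ ?_ ?_ ?_
  · intro m n θ x k
    exact ConcreteCategory.congr_hom (NatTrans.congr_app (map_pr J f θ k) W) x
  · intro n x y h
    exact pr_injective J f W n x y (fun k => congrFun h k)
  · intro n x k
    exact ConcreteCategory.congr_hom (NatTrans.congr_app (pr_toRange J f n k 0) W) x
  · intro n e b h
    obtain ⟨x, hx⟩ := pr_surjective J f W n e b.1 (fun k => congrArg Subtype.val (h k))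
    exact ⟨x, funext hx⟩
  · rintro ⟨b, x, rfl⟩
    exact ⟨x, rfl⟩

/-- the free abelian presheaves on the Čech nerve resolve the free abelian presheaf on the image -/
theorem quasiIso_presheaf : QuasiIso (AlternatingFaceMapComplex.ε.app (FreeQI.freeAug (AugIm J f))) :=
  FreeQI.quasiIso_ε_freeAug (AugIm J f) (nonempty_extraDegeneracy J f)

section sheafify

/-- the augmented simplicial abelian sheaf of the statement -/
noncomputable abbrev Xs : SimplicialObject.Augmented (Sheaf J AddCommGrpCat.{u}) :=
  ((SimplicialObject.Augmented.whiskering _ _).obj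
    (Sheaf.composeAndSheafify J AddCommGrpCat.free.{u})).obj (Arrow.mk f).augmentedCechNerve

/-- the sheafification of the presheaf-level augmented object -/
noncomputable abbrev Xa : SimplicialObject.Augmented (Sheaf J AddCommGrpCat.{u}) :=
  ((SimplicialObject.Augmented.whiskering _ _).obj
    (presheafToSheaf J AddCommGrpCat.{u})).obj (FreeQI.freeAug (AugIm J f))

noncomputable def augIso [Epi f] : Xa J f ≅ Xs J f :=
  Comma.isoMk (Iso.refl _)
    (WFree.sheafifyFreeIso J (Subfunctor.range f.hom).ι (W_range_ι J f)) (by
      apply NatTrans.ext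
      funext n
      dsimp [Xa, Xs, SimplicialObject.Augmented.whiskering, SimplicialObject.Augmented.whiskeringObj,
        FreeQI.freeAug, AugIm, WFree.sheafifyFreeIso]
      erw [Category.id_comp, Category.comp_id, Category.comp_id]
      erw [Category.comp_id]
      have key : Functor.whiskerRight (pr J f (unop n).len 0 ≫ Subfunctor.toRange f.hom)
          AddCommGrpCat.free.{u} ≫ Functor.whiskerRight (Subfunctor.range f.hom).ι AddCommGrpCat.free.{u} =
          Functor.whiskerRight (WidePullback.base (fun _ : Fin ((unop n).len + 1) => (Arrow.mk f).hom)).hom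
            AddCommGrpCat.free.{u} := by
        rw [← Functor.whiskerRight_comp, Category.assoc, Subfunctor.toRange_ι, pr_f]
      exact (congrArg (presheafToSheaf J AddCommGrpCat.{u}).map key).symm.trans
        ((presheafToSheaf J AddCommGrpCat.{u}).map_comp _ _))

end sheafify

section general

variable {𝒞 𝒟 : Type*} [Category 𝒞] [Category 𝒟] [Abelian 𝒞] [Abelian 𝒟]
  (F : 𝒞 ⥤ 𝒟) [F.Additive]

lemma quasiIso_ε_whiskering_iff (X : SimplicialObject.Augmented 𝒞) :
    QuasiIso ((F.mapHomologicalComplex _).map (AlternatingFaceMapComplex.ε.app X)) ↔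
      QuasiIso (AlternatingFaceMapComplex.ε.app
        (((SimplicialObject.Augmented.whiskering 𝒞 𝒟).obj F).obj X)) := by
  let e₁ := FreeQI.mapAFMCIso F X.left
  let e₂ := (HomologicalComplex.singleMapHomologicalComplex F (ComplexShape.down ℕ) 0).app X.right
  have hsq : (F.mapHomologicalComplex _).map (AlternatingFaceMapComplex.ε.app X) ≫ e₂.hom =
      e₁.hom ≫ AlternatingFaceMapComplex.ε.app
        (((SimplicialObject.Augmented.whiskering 𝒞 𝒟).obj F).obj X) := by
    apply HomologicalComplex.to_single_hom_ext
    simp [e₁, e₂, FreeQI.mapAFMCIso, HomologicalComplex.singleMapHomologicalComplex_hom_app_self]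
    erw [Category.id_comp]
    simp [SimplicialObject.Augmented.whiskering, SimplicialObject.Augmented.whiskeringObj]
    exact Category.comp_id _
  have harrow : Arrow.mk ((F.mapHomologicalComplex _).map (AlternatingFaceMapComplex.ε.app X)) ≅
      Arrow.mk (AlternatingFaceMapComplex.ε.app
        (((SimplicialObject.Augmented.whiskering 𝒞 𝒟).obj F).obj X)) :=
    Arrow.isoMk e₁ e₂ hsq.symm
  exact _root_.quasiIso_iff_of_arrow_mk_iso _ _ harrow

/-- the augmentation of the alternating face map complex only depends on the augmented object up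
to isomorphism -/
lemma quasiIso_ε_of_iso {X₁ X₂ : SimplicialObject.Augmented 𝒟} (e : X₁ ≅ X₂)
    (h : QuasiIso (AlternatingFaceMapComplex.ε.app X₁)) :
    QuasiIso (AlternatingFaceMapComplex.ε.app X₂) := by
  have harrow : Arrow.mk (AlternatingFaceMapComplex.ε.app X₁) ≅
      Arrow.mk (AlternatingFaceMapComplex.ε.app X₂) :=
    Arrow.isoMk ((SimplicialObject.Augmented.drop ⋙ alternatingFaceMapComplex 𝒟).mapIso e)
      ((SimplicialObject.Augmented.point ⋙ ChainComplex.single₀ 𝒟).mapIso e)
      (AlternatingFaceMapComplex.ε.naturality e.hom)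
  exact (_root_.quasiIso_iff_of_arrow_mk_iso _ _ harrow).1 h

end general

/-- the Čech nerve of an epimorphism of sheaves of sets gives a resolution of the free abelian
sheaf on the target by free abelian sheaves -/
theorem quasiIso_sheaf [Epi f] : QuasiIso (AlternatingFaceMapComplex.ε.app (Xs J f)) := by
  apply quasiIso_ε_of_iso (augIso J f)
  rw [← quasiIso_ε_whiskering_iff]
  have := quasiIso_presheaf J f
  infer_instance

end Groth.Agent.Helper3.NerveRes
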