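import Mathlib

set_option autoImplicit false
universe u
open CategoryTheory Limits Opposite

namespace Groth.Agent.Helper3.ShPb

variable {C : Type u} [SmallCategory C] {J : GrothendieckTopology C}
  {K M N : Sheaf J (Type u)} (s : K ⟶ N) (g : M ⟶ N)

lemma s_nat {U V : Cᵒᵖ} (i : U ⟶ V) (k : K.obj.obj U) :
    s.hom.app V (K.obj.map i k) = N.obj.map i (s.hom.app U k) :=
  ConcreteCategory.congr_hom (s.hom.naturality i) k

/-- the explicit fibre product of sheaves of sets, as a presheaf -/
def pbP : Cᵒᵖ ⥤ Type u where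
  obj U := {p : K.obj.obj U × M.obj.obj U // s.hom.app U p.1 = g.hom.app U p.2}
  map {U V} i := TypeCat.ofHom fun p => ⟨(K.obj.map i p.1.1, M.obj.map i p.1.2), by
    change s.hom.app V (K.obj.map i p.1.1) = g.hom.app V (M.obj.map i p.1.2)
    rw [s_nat, s_nat, p.2]⟩
  map_id U := by
    ext p
    · exact ConcreteCategory.congr_hom (K.obj.map_id U) p.1.1
    · exact ConcreteCategory.congr_hom (M.obj.map_id U) p.1.2
  map_comp {U V W} i j := by
    ext p
    · exact ConcreteCategory.congr_hom (K.obj.map_comp i j) p.1.1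
    · exact ConcreteCategory.congr_hom (M.obj.map_comp i j) p.1.2

/-- first projection -/
def fstP : pbP s g ⟶ K.obj where
  app U := TypeCat.ofHom fun p => p.1.1
  naturality U V i := rfl

/-- second projection -/
def sndP : pbP s g ⟶ M.obj where
  app U := TypeCat.ofHom fun p => p.1.2
  naturality U V i := rfl

lemma condP : fstP s g ≫ s.hom = sndP s g ≫ g.hom := by
  ext U p
  exact p.2

theorem isSheaf : Presheaf.IsSheaf J (pbP s g) := by
  rw [isSheaf_iff_isSheaf_of_type]
  have hK := (isSheaf_iff_isSheaf_of_type J K.obj).1 K.property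
  have hM := (isSheaf_iff_isSheaf_of_type J M.obj).1 M.property
  have hN := (isSheaf_iff_isSheaf_of_type J N.obj).1 N.property
  intro X S hS x hx
  obtain ⟨k, hk, hk'⟩ := hK S hS (fun Y f hf => (x f hf).1.1) (by
    intro Y₁ Y₂ Z g₁ g₂ f₁ f₂ h₁ h₂ e
    exact congrArg (fun p => p.1.1) (hx g₁ g₂ h₁ h₂ e))
  obtain ⟨m, hm, hm'⟩ := hM S hS (fun Y f hf => (x f hf).1.2) (by
    intro Y₁ Y₂ Z g₁ g₂ f₁ f₂ h₁ h₂ e
    exact congrArg (fun p => p.1.2) (hx g₁ g₂ h₁ h₂ e))
  have hkm : s.hom.app (op X) k = g.hom.app (op X) m := by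
    refine (hN S hS).isSeparatedFor.ext ?_
    intro Y f hf
    rw [← s_nat, ← s_nat]
    have h1 : K.obj.map f.op k = (x f hf).1.1 := hk f hf
    have h2 : M.obj.map f.op m = (x f hf).1.2 := hm f hf
    rw [h1, h2]
    exact (x f hf).2
  refine ⟨⟨(k, m), hkm⟩, ?_, ?_⟩
  · intro Y f hf
    apply Subtype.ext
    apply Prod.ext
    · exact hk f hf
    · exact hm f hf
  · intro t ht
    apply Subtype.ext
    apply Prod.ext
    · apply hk'
      intro Y f hf
      exact congrArg (fun p => p.1.1) (ht f hf)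
    · apply hm'
      intro Y f hf
      exact congrArg (fun p => p.1.2) (ht f hf)

/-- the fibre product as a sheaf -/
def pb : Sheaf J (Type u) := ⟨pbP s g, isSheaf s g⟩

/-- first projection -/
def fst : pb s g ⟶ K := ⟨fstP s g⟩

/-- second projection -/
def snd : pb s g ⟶ M := ⟨sndP s g⟩

lemma cond : fst s g ≫ s = snd s g ≫ g := by
  ext : 1
  exact condP s g

instance [Presheaf.IsLocallySurjective J g.hom] : Presheaf.IsLocallySurjective J (fst s g).hom where
  imageSieve_mem {U} k := by
    refine J.superset_covering ?_ (Presheaf.imageSieve_mem J g.hom (s.hom.app (op U) k))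
    intro V f hf
    obtain ⟨m, hm⟩ := hf
    refine ⟨⟨(K.obj.map f.op k, m), ?_⟩, rfl⟩
    change s.hom.app _ (K.obj.map f.op k) = g.hom.app _ m
    rw [s_nat, hm]

theorem epi_fst [Presheaf.IsLocallySurjective J g.hom] : Epi (fst s g) :=
  (Sheaf.isLocallySurjective_iff_epi (fst s g)).1 (inferInstanceAs (Presheaf.IsLocallySurjective J (fst s g).hom))

end Groth.Agent.Helper3.ShPb
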