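import Mathlib

set_option autoImplicit false
universe w v u
open CategoryTheory Limits Abelian

namespace Groth.Agent.Helper3.AcyRes

variable {𝒜 : Type u} [Category.{v} 𝒜] [Abelian 𝒜]

section opcycles

variable (P : ChainComplex 𝒜 ℕ)

lemma mono_fromOpcycles (n : ℕ) (h : P.ExactAt (n + 1)) : Mono (P.fromOpcycles (n + 1) n) := by
  have hn : (ComplexShape.down ℕ).next (n + 1) = n := by simp
  have h1 : Mono (P.sc (n + 1)).fromOpcycles := ((P.sc (n + 1)).exact_iff_mono_fromOpcycles).1 h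
  have h2 : P.fromOpcycles (n + 1) n = (P.sc (n + 1)).fromOpcycles ≫ (P.XIsoOfEq hn).hom := by
    rw [← cancel_epi (P.pOpcycles (n + 1)), P.p_fromOpcycles]
    change _ = (P.sc (n + 1)).pOpcycles ≫ _
    rw [ShortComplex.p_fromOpcycles_assoc]
    exact (P.d_comp_XIsoOfEq_hom hn (n + 1)).symm
  rw [h2]
  exact mono_comp' h1 inferInstance

/-- the short complex `opcycles (n+1) ⟶ X n ⟶ opcycles n` -/
noncomputable def S (n : ℕ) : ShortComplex 𝒜 :=
  ShortComplex.mk (P.fromOpcycles (n + 1) n) (P.pOpcycles n) (by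
    rw [← cancel_epi (P.pOpcycles (n + 1)), P.p_fromOpcycles_assoc, P.d_pOpcycles, comp_zero])

lemma S_shortExact (n : ℕ) (h : P.ExactAt (n + 1)) : (S P n).ShortExact := by
  have hm : Mono (S P n).f := mono_fromOpcycles P n h
  have he : Epi (S P n).g := by dsimp [S]; infer_instance
  refine ShortComplex.ShortExact.mk' ?_ hm he
  apply ShortComplex.exact_of_g_is_cokernel
  have hc := P.opcyclesIsCokernel (n + 1) n (by simp)
  refine CokernelCofork.IsColimit.ofπ _ _
    (fun {W'} g' eq' => hc.desc (CokernelCofork.ofπ g' (by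
      have : P.d (n + 1) n = P.pOpcycles (n + 1) ≫ P.fromOpcycles (n + 1) n := (P.p_fromOpcycles _ _).symm
      rw [this, Category.assoc]
      have e : P.fromOpcycles (n + 1) n ≫ g' = 0 := eq'
      rw [e, comp_zero])))
    (fun {W'} g' eq' => hc.fac _ WalkingParallelPair.one)
    (fun {W'} g' eq' m hm => by
      apply Cofork.IsColimit.hom_ext hc
      exact Eq.trans hm (hc.fac (CokernelCofork.ofπ g' _) WalkingParallelPair.one).symm)

end opcycles

section ext

variable [HasExt.{w} 𝒜] (P : ChainComplex 𝒜 ℕ) (Z : 𝒜)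
  (π : P ⟶ (ChainComplex.single₀ 𝒜).obj Z) [QuasiIso π] (F : 𝒜)

include π in
lemma exactAt_succ (n : ℕ) : P.ExactAt (n + 1) :=
  (_root_.quasiIsoAt_iff_exactAt' π (n + 1)
    (HomologicalComplex.exactAt_single_obj _ _ _ _ (by simp))).1 inferInstance

/-- the zeroth opcycles of a resolution is the resolved object -/
noncomputable def opcyclesZeroIso : P.opcycles 0 ≅ Z :=
  P.isoHomologyι₀.symm ≪≫ asIso (HomologicalComplex.homologyMap π 0) ≪≫
    HomologicalComplex.singleObjHomologySelfIso (ComplexShape.down ℕ) 0 Z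

include π in
lemma ext_opcycles_eq_zero
    (hP : ∀ (n q : ℕ) (x : Ext.{w} (P.X n) F (q + 1)), x = 0)
    (hZ : ∀ (q : ℕ) (x : Ext.{w} Z F (q + 1)), x = 0) :
    ∀ (n q : ℕ) (x : Ext.{w} (P.opcycles n) F (q + 1)), x = 0 := by
  intro n
  induction n with
  | zero =>
    intro q x
    have e := opcyclesZeroIso P Z π
    have h1 : (Ext.mk₀ e.hom).comp ((Ext.mk₀ e.inv).comp x (zero_add _)) (zero_add _) = x := by
      rw [← Ext.comp_assoc_of_second_deg_zero, Ext.mk₀_comp_mk₀, e.hom_inv_id, Ext.mk₀_id_comp]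
    rw [← h1, hZ q ((Ext.mk₀ e.inv).comp x (zero_add _)), Ext.comp_zero]
  | succ n ih =>
    intro q x
    have hS := S_shortExact P n (exactAt_succ P Z π n)
    have h0 : hS.extClass.comp x (show 1 + (q + 1) = q + 1 + 1 by ring) = 0 := ih (q + 1) _
    obtain ⟨y, hy⟩ := Ext.contravariant_sequence_exact₁ hS F x _ h0
    have hy0 : y = 0 := hP n q y
    rw [← hy, hy0, Ext.comp_zero]
    rfl

include π in
/-- the complex `Hom(P_•, F)` is exact in positive degrees when `P_•` is a resolution of `Z` by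
objects without higher `Ext` into `F` and `Z` has no higher `Ext` into `F` -/
theorem exists_lift
    (hP : ∀ (n q : ℕ) (x : Ext.{w} (P.X n) F (q + 1)), x = 0)
    (hZ : ∀ (q : ℕ) (x : Ext.{w} Z F (q + 1)), x = 0)
    (n : ℕ) (φ : P.X (n + 1) ⟶ F) (hφ : P.d (n + 2) (n + 1) ≫ φ = 0) :
    ∃ χ : P.X n ⟶ F, P.d (n + 1) n ≫ χ = φ := by
  let ψ : P.opcycles (n + 1) ⟶ F := P.descOpcycles φ (n + 2) (by simp) hφ
  have hS := S_shortExact P n (exactAt_succ P Z π n)
  have h0 : hS.extClass.comp (Ext.mk₀ ψ) (add_zero 1) = 0 :=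
    ext_opcycles_eq_zero P Z π F hP hZ n 0 _
  obtain ⟨y, hy⟩ := Ext.contravariant_sequence_exact₁ hS F (Ext.mk₀ ψ) _ h0
  obtain ⟨χ, rfl⟩ := (Ext.mk₀_bijective _ _).2 y
  refine ⟨χ, ?_⟩
  rw [Ext.mk₀_comp_mk₀] at hy
  have h1 : P.fromOpcycles (n + 1) n ≫ χ = ψ := (Ext.mk₀_bijective _ _).1 hy
  rw [← P.p_fromOpcycles (n + 1) n, Category.assoc, h1]
  exact P.p_descOpcycles _ _ _ _

end ext

end Groth.Agent.Helper3.AcyRes
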