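import Mathlib
import Groth.Prelude.Def_CohCx
import Groth.Agent.Lib.Helper3.NerveRes
import Groth.Agent.Lib.Helper3.CechAcy
import Groth.Agent.Lib.Helper3.ShPb
import Groth.Agent.Lib.Helper3.AcyClass
import Groth.Agent.S6151

set_option autoImplicit false
universe u
open CategoryTheory Limits Opposite

namespace Groth.Agent.Helper3.TCech

open CechAcy

variable {C : Type u} [SmallCategory C] {J : GrothendieckTopology C}

/-- the free abelian sheaf functor on sheaves of sets -/
noncomputable abbrev L : Sheaf J (Type u) ⥤ Sheaf J AddCommGrpCat.{u} :=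
  Sheaf.composeAndSheafify J AddCommGrpCat.free.{u}

/-- free ⊣ forget on sheaves -/
noncomputable abbrev adjF : L (J := J) ⊣ sheafCompose J (forget AddCommGrpCat.{u}) :=
  Sheaf.adjunction J AddCommGrpCat.adj.{u}

/-- the Čech chain complex of free abelian sheaves of a morphism of sheaves of sets -/
noncomputable abbrev PP {K' K : Sheaf J (Type u)} (f : K' ⟶ K) :
    ChainComplex (Sheaf J AddCommGrpCat.{u}) ℕ :=
  AlgebraicTopology.AlternatingFaceMapComplex.obj (NerveRes.Xs J f).left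

/-- Čech acyclicity in terms of maps out of the Čech chain complex -/
lemma cexact_iff (F : Sheaf J AddCommGrpCat.{u}) {K' K : Sheaf J (Type u)} (f : K' ⟶ K) (m : ℕ) :
    IsZero ((CohCx.cechNerveCx F f).homology (m + 1)) ↔ CExact (PP f) F m := by
  rw [← HomologicalComplex.exactAt_iff_isZero_homology,
    (CohCx.cechNerveCx F f).exactAt_iff' m (m + 1) (m + 2) (by simp) (by simp),
    ShortComplex.ab_exact_iff]
  constructor
  · intro h x hx
    obtain ⟨y, hy⟩ := h x ((Groth.Agent.S6151.cechNerveCx_d F f (m + 1) x).trans hx)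
    exact ⟨y, (Groth.Agent.S6151.cechNerveCx_d F f m y).symm.trans hy⟩
  · intro h x hx
    obtain ⟨y, hy⟩ := h x ((Groth.Agent.S6151.cechNerveCx_d F f (m + 1) x).symm.trans hx)
    exact ⟨y, (Groth.Agent.S6151.cechNerveCx_d F f m y).trans hy⟩

/-- sections of the quotient lift when the first Čech cohomology of the kernel vanishes -/
theorem exists_lift (S : ShortComplex (Sheaf J AddCommGrpCat.{u})) (hS : S.ShortExact)
    (h1 : ∀ (K' K : Sheaf J (Type u)) (f : K' ⟶ K), Epi f → CExact (PP f) S.X₁ 0)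
    (K : Sheaf J (Type u)) (ψ : L.obj K ⟶ S.X₃) : ∃ ψ' : L.obj K ⟶ S.X₂, ψ' ≫ S.g = ψ := by
  let s : K ⟶ (sheafCompose J (forget AddCommGrpCat.{u})).obj S.X₃ := adjF.homEquiv K S.X₃ ψ
  let g' := (sheafCompose J (forget AddCommGrpCat.{u})).map S.g
  have := hS.epi_g
  have hls0 : Sheaf.IsLocallySurjective S.g := (Sheaf.isLocallySurjective_iff_epi' (φ := S.g)).2 inferInstance
  have hls : Presheaf.IsLocallySurjective J g'.hom :=
    inferInstanceAs (Sheaf.IsLocallySurjective ((sheafCompose J (forget AddCommGrpCat.{u})).map S.g))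
  let f := ShPb.fst s g'
  have hf : Epi f := ShPb.epi_fst s g'
  have hqi := NerveRes.quasiIso_sheaf J f
  let N₀ := (Arrow.mk f).cechNerve.obj (op (SimplexCategory.mk 0))
  let π₀ : N₀ ⟶ ShPb.pb s g' := WidePullback.π (fun _ : Fin (0 + 1) => (Arrow.mk f).hom) 0
  let base : N₀ ⟶ K := WidePullback.base (fun _ : Fin (0 + 1) => (Arrow.mk f).hom)
  have hπb : π₀ ≫ f = base := WidePullback.π_arrow _ _
  let t₀ : (PP f).X 0 ⟶ S.X₂ := (adjF.homEquiv N₀ S.X₂).symm (π₀ ≫ ShPb.snd s g')
  refine @lift_of_cexact _ _ _ (PP f) (L.obj K)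
    (AlgebraicTopology.AlternatingFaceMapComplex.ε.app (NerveRes.Xs J f)) hqi S hS (h1 _ _ f hf) ψ t₀ ?_
  have e1 : t₀ ≫ S.g = (adjF.homEquiv N₀ S.X₃).symm ((π₀ ≫ ShPb.snd s g') ≫ g') :=
    (adjF.homEquiv_naturality_right_symm _ _).symm
  have e2 : (π₀ ≫ ShPb.snd s g') ≫ g' = base ≫ s := by
    rw [Category.assoc, ← ShPb.cond, ← Category.assoc, hπb]
  have e3 : (adjF.homEquiv N₀ S.X₃).symm (base ≫ s) = L.map base ≫ (adjF.homEquiv K S.X₃).symm s :=
    adjF.homEquiv_naturality_left_symm _ _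
  rw [e1, e2, e3, Equiv.symm_apply_apply]
  rfl

/-- the class of Čech-acyclic abelian sheaves -/
def Pc (M : Sheaf J AddCommGrpCat.{u}) : Prop :=
  ∀ (K' K : Sheaf J (Type u)) (f : K' ⟶ K), Epi f → ∀ m : ℕ, CExact (PP f) M m

lemma pc_of_injective (M : Sheaf J AddCommGrpCat.{u}) [Injective M] : Pc M := by
  intro K' K f hf m
  rw [← cexact_iff]
  refine Groth.Agent.S6151.result M ?_ f m
  intro K p
  exact subsingleton_of_forall_eq 0 fun x => Abelian.Ext.eq_zero_of_injective x

/-- Čech-acyclic sheaves are totally acyclic -/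
theorem totallyAcyclic_of_pc (F : Sheaf J AddCommGrpCat.{u}) (hF : Pc F) :
    CohCx.IsTotallyAcyclic F := by
  intro K p
  refine ⟨fun x y => ?_⟩
  have h := AcyClass.ext_eq_zero (L.obj K) (Pc (J := J)) (by
    intro S hS h1 h2
    have hlift := exists_lift S hS (fun K' K f hf => h1 K' K f hf 0)
    refine ⟨?_, hlift K⟩
    intro K' K₁ f hf m
    refine cexact_of_ses (PP f) S hS m ?_ (h1 K' K₁ f hf (m + 1)) (pc_of_injective S.X₂ K' K₁ f hf m)
    intro x₃
    exact hlift ((Arrow.mk f).cechNerve.obj (op (SimplexCategory.mk (m + 1)))) x₃) p F hF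
  exact (h x).trans (h y).symm

end Groth.Agent.Helper3.TCech
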