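import Mathlib
import Groth.Prelude.Def_FreeSh
import Groth.Prelude.Def_CohSite
import Groth.Agent.Lib.Helper3.ExtRD

set_option autoImplicit false
universe u
open CategoryTheory Limits Opposite

namespace Groth.Agent.Helper3.SiteSec

variable {C : Type u} [SmallCategory C] (J : GrothendieckTopology C)

/-- sections over `X` -/
noncomputable abbrev Γ (X : C) : Sheaf J AddCommGrpCat.{u} ⥤ AddCommGrpCat.{u} :=
  (sheafSections J AddCommGrpCat.{u}).obj (op X)

instance (X : C) : (Γ J X).Additive where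

/-- `Hom(ℤ_X, -) ≅ Γ(X, -)` -/
noncomputable def coyonedaIsoΓ (X : C) :
    preadditiveCoyoneda.obj (op (CohCx.freeSheaf J X)) ≅ Γ J X :=
  NatIso.ofComponents (fun F => AddEquiv.toAddCommGrpIso
      (X := AddCommGrpCat.of (CohCx.freeSheaf J X ⟶ F)) (Y := F.obj.obj (op X))
      (CohFree.homEquivSect J X F))
    (fun {F G} φ => by
      ext ψ
      rfl)

/-- `RⁿΓ(X, -)(F) ≅ Hⁿ(X, F)` -/
noncomputable def rightDerivedΓIso (X : C) (F : Sheaf J AddCommGrpCat.{u}) (n : ℕ) :
    ((Γ J X).rightDerived n).obj F ≅ AddCommGrpCat.of (CohSite.HU F n X) :=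
  ExtRD.rightDerivedIsoExt (Γ J X) (CohCx.freeSheaf J X) (coyonedaIsoΓ J X).symm F n

end Groth.Agent.Helper3.SiteSec
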