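import Mathlib
import Groth.Prelude.Def_CohTop
import Groth.Agent.Lib.Helper3.SiteSec
import Groth.Agent.Lib.Helper3.ExtRD

set_option autoImplicit false
universe u
open CategoryTheory Limits Opposite TopologicalSpace

namespace Groth.Agent.Helper3.ConstG

variable (X : TopCat.{u})

/-- the constant sheaf `ℤ` -/
noncomputable abbrev ZZ : CohTop.Ab X := CohTop.const X (ULift.{u} ℤ)

/-- global sections -/
noncomputable abbrev G : CohTop.Ab X ⥤ AddCommGrpCat.{u} :=
  SiteSec.Γ (Opens.grothendieckTopology X) (⊤ : Opens X)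

/-- `Hom(ℤ_X, F) ≃+ F(X)` -/
noncomputable def homEquiv (F : CohTop.Ab X) : (ZZ X ⟶ F) ≃+ F.obj.obj (op (⊤ : Opens X)) :=
  ((constantSheafAdj (Opens.grothendieckTopology X) AddCommGrpCat.{u}
      (Limits.isTerminalTop (α := Opens X))).homAddEquiv _ F).trans
    (AddCommGrpCat.uliftZMultiplesAddEquiv _)

/-- `Hom(ℤ_X, -) ≅ Γ(X, -)` -/
noncomputable def coyonedaIsoG : preadditiveCoyoneda.obj (op (ZZ X)) ≅ G X :=
  NatIso.ofComponents (fun F => AddEquiv.toAddCommGrpIso
      (X := AddCommGrpCat.of (ZZ X ⟶ F)) (Y := F.obj.obj (op ⊤)) (homEquiv X F))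
    (fun {F G} φ => by
      ext ψ
      rfl)

/-- `RⁿΓ(X, -)(F) ≅ Hⁿ(X, F)` -/
noncomputable def rightDerivedGIso (F : CohTop.Ab X) (n : ℕ) :
    ((G X).rightDerived n).obj F ≅ AddCommGrpCat.of (CohTop.H F n) :=
  ExtRD.rightDerivedIsoExt (G X) (ZZ X) (coyonedaIsoG X).symm F n

instance : PreservesFiniteLimits (G X) :=
  preservesFiniteLimits_of_natIso (coyonedaIsoG X)

end Groth.Agent.Helper3.ConstG
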