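import Mathlib
import Groth.Prelude.Def_CohTop
import Groth.Agent.Lib.Helper3.ConstG
import Groth.Agent.Lib.Helper3.GSS
import Groth.Agent.Lib.Helper3.SpVan
import Groth.Agent.Lib.Helper3.RDAdd
import Groth.Agent.S0453
import Groth.Agent.S0454

/-!
# Cohomology of a direct image when the higher direct images vanish
-/

set_option autoImplicit false
universe u
open CategoryTheory CategoryTheory.Limits Opposite TopologicalSpace

namespace Groth.Agent.Helper3.PushIso

/-- if the higher direct images of `F` vanish then `H^p(X, F) ≅ H^p(Y, f_* F)` -/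
theorem main {X Y : TopCat.{u}} (f : X ⟶ Y) (F : CohTop.Ab X)
    (hR : ∀ m : ℕ, IsZero ((CohTop.Rpush f (m + 1)).obj F)) (p : ℕ) :
    Nonempty (CohTop.H F p ≃+ CohTop.H ((CohTop.push f).obj F) p) := by
  let T := CohTop.push f
  let S := ConstG.G Y
  have hT : ∀ Q : CohTop.Ab X, Injective Q → ∀ q : ℕ, 0 < q →
      IsZero ((S.rightDerived q).obj (T.obj Q)) := by
    intro Q hQ q hq
    obtain ⟨m, rfl⟩ : ∃ m, q = m + 1 := ⟨q - 1, by omega⟩
    have h1 : TopCat.Sheaf.IsFlasque Q := Groth.Agent.S0454.result Q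
    have h2 : TopCat.Sheaf.IsFlasque (T.obj Q) :=
      TopCat.Sheaf.IsFlasque.pushforward_isFlasque Q f
    have h3 : Subsingleton (CohTop.H (T.obj Q) (m + 1)) := Groth.Agent.S0453.result (T.obj Q) m
    refine IsZero.of_iso ?_ (ConstG.rightDerivedGIso Y (T.obj Q) (m + 1))
    exact @AddCommGrpCat.isZero_of_subsingleton _ h3
  obtain ⟨E, a, hfin, hbdd, hE⟩ := GSS.main' T S hT F
  have hz : ∀ p q : ℤ, q ≠ 0 → IsZero ((E.page 2 le_rfl).X (p, q)) := by
    intro p q hq
    obtain ⟨e⟩ := hE p q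
    refine IsZero.of_iso ?_ e
    split_ifs with hpq
    · obtain ⟨m, rfl⟩ : ∃ m : ℕ, q = (m : ℤ) + 1 := ⟨(q - 1).toNat, by omega⟩
      have : ((m : ℤ) + 1).toNat = m + 1 := by omega
      rw [this]
      exact RDAdd.isZero_rightDerived_obj _ _ (hR m)
    · exact isZero_zero _
  obtain ⟨e1⟩ := SpVan.iso_row0 E a 2 le_rfl le_rfl (p : ℤ) (hfin p) hz
  obtain ⟨e2⟩ := hE (p : ℤ) 0
  rw [if_pos (by omega)] at e1
  rw [if_pos (by omega)] at e2
  simp only [Int.toNat_natCast, Int.toNat_zero] at e1 e2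
  have e3 : ((T ⋙ S).rightDerived p).obj F ≅ AddCommGrpCat.of (CohTop.H F p) :=
    ExtRD.rightDerivedIsoExt (T ⋙ S) (ConstG.ZZ X) (ConstG.coyonedaIsoG X).symm F p
  haveI : T.IsRightAdjoint :=
    (TopCat.Sheaf.pullbackPushforwardAdjunction AddCommGrpCat.{u} f).isRightAdjoint
  haveI : PreservesFiniteLimits T := inferInstance
  have e4 := (S.rightDerived p).mapIso ((T.rightDerivedZeroIsoSelf).app F)
  have e5 := ConstG.rightDerivedGIso Y (T.obj F) p
  exact ⟨(e3.symm ≪≫ e1 ≪≫ e2 ≪≫ e4 ≪≫ e5).addCommGroupIsoToAddEquiv⟩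

end Groth.Agent.Helper3.PushIso
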