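import Mathlib
import Groth.Prelude.Def_CohTop

/-!
# Sections of abelian sheaves on a space: restriction, germs, gluing
-/

set_option autoImplicit false
set_option backward.isDefEq.respectTransparency false
open CategoryTheory Limits Opposite TopologicalSpace TopCat

universe u
namespace Groth.Agent.Helper3.PB3

variable {X : TopCat.{u}} (F : CohTop.Ab X)

/-- restriction of sections -/
noncomputable abbrev res {U V : Opens X} (h : V ≤ U) (s : F.obj.obj (op U)) : F.obj.obj (op V) :=
  F.obj.map (homOfLE h).op s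

lemma res_res {U V W : Opens X} (h : V ≤ U) (h' : W ≤ V) (s : F.obj.obj (op U)) :
    res F h' (res F h s) = res F (h'.trans h) s := by
  change (F.obj.map (homOfLE h).op ≫ F.obj.map (homOfLE h').op) s = _
  rw [← F.obj.map_comp]
  rfl

lemma res_self {U : Opens X} (s : F.obj.obj (op U)) : res F le_rfl s = s := by
  change F.obj.map (𝟙 (op U)) s = s
  rw [F.obj.map_id]
  rfl

lemma res_add {U V : Opens X} (h : V ≤ U) (s t : F.obj.obj (op U)) :
    res F h (s + t) = res F h s + res F h t := map_add _ _ _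

lemma res_sub {U V : Opens X} (h : V ≤ U) (s t : F.obj.obj (op U)) :
    res F h (s - t) = res F h s - res F h t := map_sub _ _ _

lemma res_zero {U V : Opens X} (h : V ≤ U) : res F h (0 : F.obj.obj (op U)) = 0 := map_zero _

/-- germs -/
noncomputable abbrev gm {U : Opens X} (x : X) (hx : x ∈ U) (s : F.obj.obj (op U)) :
    CohTop.stalk F x :=
  Presheaf.germ (C := AddCommGrpCat.{u}) F.obj U x hx s

lemma gm_res {U V : Opens X} (h : V ≤ U) (x : X) (hx : x ∈ V) (s : F.obj.obj (op U)) :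
    gm F x hx (res F h s) = gm F x (h hx) s :=
  Presheaf.germ_res_apply F.obj (homOfLE h) x hx s

lemma exists_res_eq_of_gm_eq {U V : Opens X} (x : X) (hxU : x ∈ U) (hxV : x ∈ V)
    (s : F.obj.obj (op U)) (t : F.obj.obj (op V)) (h : gm F x hxU s = gm F x hxV t) :
    ∃ (W : Opens X) (_ : x ∈ W) (hU : W ≤ U) (hV : W ≤ V), res F hU s = res F hV t := by
  obtain ⟨W, hxW, iU, iV, hW⟩ := Presheaf.germ_eq F.obj x hxU hxV s t h
  exact ⟨W, hxW, iU.le, iV.le, hW⟩

lemma section_ext {U : Opens X} (s t : F.obj.obj (op U))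
    (h : ∀ x (hx : x ∈ U), gm F x hx s = gm F x hx t) : s = t :=
  Presheaf.section_ext F U s t (fun x hx => h x hx)

lemma exists_gm_eq (x : X) (σ : CohTop.stalk F x) :
    ∃ (U : Opens X) (hx : x ∈ U) (s : F.obj.obj (op U)), gm F x hx s = σ := by
  obtain ⟨U, hx, s, hs⟩ := Presheaf.exists_germ_eq F.obj σ
  exact ⟨U, hx, s, hs⟩

/-- sections are determined locally -/
lemma eq_of_locally_eq {U : Opens X} (s t : F.obj.obj (op U))
    (h : ∀ x ∈ U, ∃ (W : Opens X) (_ : x ∈ W) (hW : W ≤ U), res F hW s = res F hW t) : s = t := by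
  apply section_ext
  intro x hx
  obtain ⟨W, hxW, hW, e⟩ := h x hx
  rw [← gm_res F hW x hxW s, ← gm_res F hW x hxW t, e]

/-- gluing of two sections -/
lemma glue2 {U₁ U₂ : Opens X} (s₁ : F.obj.obj (op U₁)) (s₂ : F.obj.obj (op U₂))
    (h : res F (inf_le_left : U₁ ⊓ U₂ ≤ U₁) s₁ = res F (inf_le_right : U₁ ⊓ U₂ ≤ U₂) s₂) :
    ∃ s : F.obj.obj (op (U₁ ⊔ U₂)), res F le_sup_left s = s₁ ∧ res F le_sup_right s = s₂ := by
  let U : Bool → Opens X := fun b => cond b U₁ U₂
  let sf : ∀ b : Bool, F.obj.obj (op (U b)) := fun b =>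
    match b with
    | true => s₁
    | false => s₂
  have hcomp : Presheaf.IsCompatible F.obj U sf := by
    rintro (_ | _) (_ | _)
    · rfl
    · change res F (inf_le_left : U₂ ⊓ U₁ ≤ U₂) s₂ = res F (inf_le_right : U₂ ⊓ U₁ ≤ U₁) s₁
      have h1 : U₂ ⊓ U₁ ≤ U₁ ⊓ U₂ := le_of_eq (inf_comm _ _)
      have := congrArg (res F h1) h
      rw [res_res, res_res] at this
      exact this.symm
    · exact h
    · rfl
  obtain ⟨s, hs, -⟩ := TopCat.Sheaf.existsUnique_gluing' F U (U₁ ⊔ U₂)
    (fun b => match b with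
      | true => homOfLE le_sup_left
      | false => homOfLE le_sup_right)
    (by
      rw [sup_le_iff]
      exact ⟨le_iSup U true, le_iSup U false⟩) sf hcomp
  exact ⟨s, hs true, hs false⟩

end Groth.Agent.Helper3.PB3
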