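import Mathlib

/-!
# The soberification of a topological space
-/

set_option autoImplicit false
open TopologicalSpace Topology Set Order

universe u
namespace Groth.Agent.Helper3.SobA

/-- the soberification: the set of irreducible closed subsets -/
def Sob (X : Type u) [TopologicalSpace X] : Type u := IrreducibleCloseds X

namespace Sob

variable {X : Type u} [TopologicalSpace X]

/-- the underlying irreducible closed subset -/
def carrier (Z : Sob X) : Set X := IrreducibleCloseds.carrier Z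

lemma isIrreducible (Z : Sob X) : IsIrreducible Z.carrier := IrreducibleCloseds.isIrreducible' Z

lemma isClosed (Z : Sob X) : IsClosed Z.carrier := IrreducibleCloseds.isClosed' Z

/-- constructor -/
def mk (C : Set X) (h1 : IsIrreducible C) (h2 : IsClosed C) : Sob X :=
  (⟨C, h1, h2⟩ : IrreducibleCloseds X)

@[simp] lemma carrier_mk (C : Set X) (h1 : IsIrreducible C) (h2 : IsClosed C) :
    (mk C h1 h2).carrier = C := rfl

lemma carrier_injective : Function.Injective (carrier : Sob X → Set X) := by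
  intro Z₁ Z₂ h
  cases Z₁; cases Z₂
  cases h
  rfl

/-- the irreducible closed subsets meeting `U` -/
def tilde (U : Set X) : Set (Sob X) := {Z | (Z.carrier ∩ U).Nonempty}

lemma mem_tilde {U : Set X} {Z : Sob X} : Z ∈ tilde U ↔ (Z.carrier ∩ U).Nonempty := Iff.rfl

lemma tilde_mono {U V : Set X} (h : U ⊆ V) : tilde U ⊆ tilde V :=
  fun _ ⟨x, hxZ, hxU⟩ => ⟨x, hxZ, h hxU⟩

lemma tilde_inter {U V : Set X} (hU : IsOpen U) (hV : IsOpen V) :
    tilde (U ∩ V) = tilde U ∩ tilde V := by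
  ext Z
  constructor
  · rintro ⟨x, hxZ, hxU, hxV⟩
    exact ⟨⟨x, hxZ, hxU⟩, ⟨x, hxZ, hxV⟩⟩
  · rintro ⟨hU', hV'⟩
    exact Z.isIrreducible.isPreirreducible U V hU hV hU' hV'

lemma tilde_iUnion {ι : Sort*} (U : ι → Set X) : tilde (⋃ i, U i) = ⋃ i, tilde (U i) := by
  ext Z
  simp only [mem_tilde, mem_iUnion, Set.Nonempty, mem_inter_iff]
  constructor
  · rintro ⟨x, hxZ, i, hxU⟩
    exact ⟨i, x, hxZ, hxU⟩
  · rintro ⟨i, x, hxZ, hxU⟩
    exact ⟨x, hxZ, i, hxU⟩

lemma tilde_univ : tilde (univ : Set X) = univ := by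
  ext Z
  simp only [mem_tilde, inter_univ, mem_univ, iff_true]
  exact Z.isIrreducible.nonempty

instance : TopologicalSpace (Sob X) where
  IsOpen s := ∃ U : Set X, IsOpen U ∧ s = tilde U
  isOpen_univ := ⟨univ, isOpen_univ, tilde_univ.symm⟩
  isOpen_inter := by
    rintro s t ⟨U, hU, rfl⟩ ⟨V, hV, rfl⟩
    exact ⟨U ∩ V, hU.inter hV, (tilde_inter hU hV).symm⟩
  isOpen_sUnion := by
    intro S hS
    choose! U hU using hS
    refine ⟨⋃ s : S, U s.1, isOpen_iUnion (fun s => (hU s.1 s.2).1), ?_⟩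
    rw [tilde_iUnion, sUnion_eq_iUnion]
    exact iUnion_congr (fun s => (hU s.1 s.2).2)

lemma isOpen_iff {s : Set (Sob X)} : IsOpen s ↔ ∃ U : Set X, IsOpen U ∧ s = tilde U := Iff.rfl

lemma isOpen_tilde {U : Set X} (hU : IsOpen U) : IsOpen (tilde U) := ⟨U, hU, rfl⟩

/-- the canonical map to the soberification -/
def eta (x : X) : Sob X := mk (closure {x}) isIrreducible_singleton.closure isClosed_closure

@[simp] lemma carrier_eta (x : X) : (eta x).carrier = closure {x} := rfl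

lemma eta_preimage_tilde {U : Set X} (hU : IsOpen U) : eta ⁻¹' (tilde U) = U := by
  ext x
  constructor
  · rintro ⟨y, hy, hyU⟩
    obtain ⟨z, hzU, hz⟩ := mem_closure_iff.1 hy U hU hyU
    rw [mem_singleton_iff] at hz
    subst hz
    exact hzU
  · intro hx
    exact ⟨x, subset_closure rfl, hx⟩

lemma continuous_eta : Continuous (eta : X → Sob X) := by
  constructor
  rintro s ⟨U, hU, rfl⟩
  rw [eta_preimage_tilde hU]
  exact hU

lemma tilde_preimage {s : Set (Sob X)} (hs : IsOpen s) : tilde (eta ⁻¹' s) = s := by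
  obtain ⟨U, hU, rfl⟩ := hs
  rw [eta_preimage_tilde hU]

/-- the closed subset of the soberification attached to a closed subset -/
def hat (C : Set X) : Set (Sob X) := {Z | Z.carrier ⊆ C}

lemma hat_eq_compl (C : Set X) : hat C = (tilde Cᶜ)ᶜ := by
  ext Z
  simp only [hat, mem_setOf_eq, mem_compl_iff, mem_tilde, not_nonempty_iff_eq_empty]
  rw [← disjoint_iff_inter_eq_empty, disjoint_compl_right_iff_subset]

lemma isClosed_hat {C : Set X} (hC : IsClosed C) : IsClosed (hat C) := by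
  rw [hat_eq_compl]
  exact (isOpen_tilde hC.isOpen_compl).isClosed_compl

lemma eta_preimage_hat {C : Set X} (hC : IsClosed C) : eta ⁻¹' (hat C) = C := by
  rw [hat_eq_compl, preimage_compl, eta_preimage_tilde hC.isOpen_compl, compl_compl]

lemma hat_preimage {T : Set (Sob X)} (hT : IsClosed T) : hat (eta ⁻¹' T) = T := by
  rw [hat_eq_compl, ← preimage_compl, tilde_preimage hT.isOpen_compl, compl_compl]

lemma isIrreducible_preimage {T : Set (Sob X)} (hT : IsIrreducible T) (hTc : IsClosed T) :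
    IsIrreducible (eta ⁻¹' T) := by
  have hC : IsClosed (eta ⁻¹' T) := hTc.preimage continuous_eta
  have hmem : ∀ x, x ∈ eta ⁻¹' T → eta x ∈ T := fun x hx => hx
  refine ⟨?_, ?_⟩
  · obtain ⟨Z, hZ⟩ := hT.nonempty
    rw [← hat_preimage hTc] at hZ
    obtain ⟨x, hx⟩ := Z.isIrreducible.nonempty
    exact ⟨x, hZ hx⟩
  · intro u v hu hv ⟨x, hxC, hxu⟩ ⟨y, hyC, hyv⟩
    have h1 : (T ∩ tilde u).Nonempty := ⟨eta x, hxC, x, subset_closure rfl, hxu⟩
    have h2 : (T ∩ tilde v).Nonempty := ⟨eta y, hyC, y, subset_closure rfl, hyv⟩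
    obtain ⟨Z, hZT, hZ⟩ := hT.isPreirreducible (tilde u) (tilde v) (isOpen_tilde hu) (isOpen_tilde hv)
      h1 h2
    rw [← tilde_inter hu hv] at hZ
    obtain ⟨z, hzZ, hz⟩ := hZ
    rw [← hat_preimage hTc] at hZT
    exact ⟨z, hZT hzZ, hz⟩

instance : T0Space (Sob X) := by
  constructor
  intro Z₁ Z₂ h
  rw [inseparable_iff_forall_isOpen] at h
  have key : ∀ Z₁ Z₂ : Sob X, (∀ s, IsOpen s → (Z₁ ∈ s ↔ Z₂ ∈ s)) → Z₁.carrier ⊆ Z₂.carrier := by
    intro Z₁ Z₂ h
    have h2 : Z₂ ∉ tilde (Z₂.carrierᶜ) := by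
      rintro ⟨x, hx, hx'⟩
      exact hx' hx
    have h1 : Z₁ ∉ tilde (Z₂.carrierᶜ) := fun h' => h2 ((h _ (isOpen_tilde Z₂.isClosed.isOpen_compl)).1 h')
    intro x hx
    by_contra hx'
    exact h1 ⟨x, hx, hx'⟩
  exact carrier_injective (Subset.antisymm (key Z₁ Z₂ h) (key Z₂ Z₁ (fun s hs => (h s hs).symm)))

instance : QuasiSober (Sob X) := by
  constructor
  intro T hT hTc
  have hC : IsClosed (eta ⁻¹' T) := hTc.preimage continuous_eta
  refine ⟨mk (eta ⁻¹' T) (isIrreducible_preimage hT hTc) hC, ?_⟩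
  have hmemT : mk (eta ⁻¹' T) (isIrreducible_preimage hT hTc) hC ∈ T :=
    (hat_preimage hTc).subset (by
      show (mk (eta ⁻¹' T) (isIrreducible_preimage hT hTc) hC).carrier ⊆ eta ⁻¹' T
      exact subset_rfl)
  change closure _ = T
  refine Subset.antisymm (closure_minimal (singleton_subset_iff.2 hmemT) hTc) ?_
  intro Z hZ
  rw [mem_closure_iff]
  rintro s ⟨u, hu, rfl⟩ ⟨x, hxZ, hxu⟩
  rw [← hat_preimage hTc] at hZ
  exact ⟨mk (eta ⁻¹' T) (isIrreducible_preimage hT hTc) hC, ⟨x, hZ hxZ, hxu⟩, rfl⟩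

instance [NoetherianSpace X] : NoetherianSpace (Sob X) := by
  rw [noetherianSpace_iff_opens]
  intro s
  obtain ⟨U, hU, hs⟩ := s.isOpen
  rw [hs]
  apply isCompact_of_finite_subcover
  intro ι W hW hsub
  choose V hV using hW
  have hUV : U ⊆ ⋃ i, V i := by
    intro x hx
    have : eta x ∈ tilde U := ⟨x, subset_closure rfl, hx⟩
    obtain ⟨i, hi⟩ := mem_iUnion.1 (hsub this)
    rw [(hV i).2] at hi
    have : x ∈ eta ⁻¹' (tilde (V i)) := hi
    rw [eta_preimage_tilde (hV i).1] at this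
    exact mem_iUnion.2 ⟨i, this⟩
  obtain ⟨t, ht⟩ := (NoetherianSpace.isCompact U).elim_finite_subcover V (fun i => (hV i).1) hUV
  refine ⟨t, ?_⟩
  rintro Z ⟨x, hxZ, hxU⟩
  obtain ⟨i, hi⟩ := mem_iUnion.1 (ht hxU)
  obtain ⟨hit, hxi⟩ := mem_iUnion.1 hi
  refine mem_iUnion.2 ⟨i, mem_iUnion.2 ⟨hit, ?_⟩⟩
  rw [(hV i).2]
  exact ⟨x, hxZ, hxi⟩

instance [NoetherianSpace X] : SpectralSpace (Sob X) where
  inter_isCompact _ _ _ _ _ _ := NoetherianSpace.isCompact _

/-- the dimension does not grow -/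
theorem dim_le : topologicalKrullDim (Sob X) ≤ topologicalKrullDim X := by
  unfold topologicalKrullDim
  let φ : IrreducibleCloseds (Sob X) → IrreducibleCloseds X := fun T =>
    ⟨eta ⁻¹' (T : Set (Sob X)), isIrreducible_preimage T.isIrreducible' T.isClosed',
      T.isClosed'.preimage continuous_eta⟩
  refine krullDim_le_of_strictMono φ ?_
  apply Monotone.strictMono_of_injective
  · intro T₁ T₂ h
    show eta ⁻¹' (T₁ : Set (Sob X)) ⊆ eta ⁻¹' (T₂ : Set (Sob X))
    exact preimage_mono (SetLike.coe_subset_coe.2 h)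
  · intro T₁ T₂ h
    have h' : eta ⁻¹' (T₁ : Set (Sob X)) = eta ⁻¹' (T₂ : Set (Sob X)) :=
      congrArg (fun Z : IrreducibleCloseds X => (Z : Set X)) h
    apply SetLike.coe_injective
    have e1 : hat (eta ⁻¹' (T₁ : Set (Sob X))) = (T₁ : Set (Sob X)) := hat_preimage T₁.isClosed'
    have e2 : hat (eta ⁻¹' (T₂ : Set (Sob X))) = (T₂ : Set (Sob X)) := hat_preimage T₂.isClosed'
    rw [← e1, ← e2, h']

end Sob

end Groth.Agent.Helper3.SobA
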