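import Mathlib
import Groth.Prelude.Def_CohTop
import Groth.Agent.Lib.Helper3.SobA
import Groth.Agent.Lib.Helper3.PB3
import Groth.Agent.Lib.Helper5.Misc.RDExact

/-!
# Direct image along the map to the soberification is exact
-/

set_option autoImplicit false
set_option backward.isDefEq.respectTransparency false
open CategoryTheory Limits Opposite TopologicalSpace TopCat

universe u
namespace Groth.Agent.Helper3.SobC

open SobA PB3

section general

variable {X : TopCat.{u}} {F G : CohTop.Ab X}

lemma hom_res (φ : F ⟶ G) {U V : Opens X} (h : V ≤ U) (s : F.obj.obj (op U)) :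
    (φ.hom.app (op V)).hom (res F h s) = res G h ((φ.hom.app (op U)).hom s) := by
  have := congrArg (fun f => f.hom s) (φ.hom.naturality (homOfLE h).op)
  exact this

end general

variable (X : TopCat.{u})

/-- the soberification -/
def SobT : TopCat.{u} := TopCat.of (Sob X)

/-- the canonical map -/
def etaT : X ⟶ SobT X := TopCat.ofHom ⟨Sob.eta, Sob.continuous_eta⟩

instance [NoetherianSpace X] : SpectralSpace (SobT X) :=
  (inferInstance : SpectralSpace (Sob X))

theorem dim_le : topologicalKrullDim (SobT X) ≤ topologicalKrullDim X :=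
  (Sob.dim_le : topologicalKrullDim (Sob X) ≤ topologicalKrullDim X)

variable {X}

/-- the open of the soberification attached to an open -/
def tildeO (V : Opens X) : Opens (SobT X) := ⟨Sob.tilde (V : Set X), Sob.isOpen_tilde V.isOpen⟩

lemma map_tildeO (V : Opens X) : (Opens.map (etaT X)).obj (tildeO V) = V := by
  apply Opens.ext
  exact Sob.eta_preimage_tilde V.isOpen

lemma tildeO_map (U' : Opens (SobT X)) : tildeO ((Opens.map (etaT X)).obj U') = U' := by
  apply Opens.ext
  exact Sob.tilde_preimage U'.isOpen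

lemma tildeO_mono {V W : Opens X} (h : V ≤ W) : tildeO V ≤ tildeO W :=
  Sob.tilde_mono h

lemma epi_push {F G : CohTop.Ab X} (φ : F ⟶ G) [Epi φ] :
    Epi ((CohTop.push (etaT X)).map φ) := by
  have hφ : Sheaf.IsLocallySurjective φ :=
    (Sheaf.isLocallySurjective_iff_epi' (φ := φ)).2 inferInstance
  rw [← Sheaf.isLocallySurjective_iff_epi']
  constructor
  intro U' s
  intro Z hZ
  obtain ⟨U₀, hU₀, hU'⟩ := U'.isOpen
  have hZ' : Z ∈ Sob.tilde U₀ := by
    rw [← hU']
    exact hZ
  obtain ⟨x, hxZ, hxU₀⟩ := hZ'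
  have hx : x ∈ (Opens.map (etaT X)).obj U' := by
    show Sob.eta x ∈ (U' : Set (SobT X))
    rw [hU']
    exact ⟨x, subset_closure rfl, hxU₀⟩
  obtain ⟨V, f, ⟨t, ht⟩, hxV⟩ := Presheaf.imageSieve_mem (Opens.grothendieckTopology X) φ.hom
    (s : G.obj.obj (op ((Opens.map (etaT X)).obj U'))) x hx
  have hle : tildeO V ≤ U' := by
    rw [← tildeO_map U']
    exact tildeO_mono f.le
  have hle2 : (Opens.map (etaT X)).obj (tildeO V) ≤ (Opens.map (etaT X)).obj U' :=
    fun y hy => hle hy
  refine ⟨tildeO V, homOfLE hle, ⟨res F (le_of_eq (map_tildeO V)) t, ?_⟩, ⟨x, hxZ, hxV⟩⟩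
  change (φ.hom.app (op ((Opens.map (etaT X)).obj (tildeO V)))).hom
    (res F (le_of_eq (map_tildeO V)) t) = res G hle2 s
  rw [hom_res]
  have ht' : (φ.hom.app (op V)).hom t = res G f.le s := ht
  rw [ht', res_res]
  rfl

instance : (CohTop.push (etaT X)).IsRightAdjoint :=
  (TopCat.Sheaf.pullbackPushforwardAdjunction AddCommGrpCat.{u} (etaT X)).isRightAdjoint

lemma preservesFiniteColimits_push : PreservesFiniteColimits (CohTop.push (etaT X)) := by
  haveI : PreservesFiniteLimits (CohTop.push (etaT X)) := inferInstance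
  rw [Functor.preservesFiniteColimits_iff_forall_exact_map_and_epi]
  intro S hS
  refine ⟨((Functor.preservesFiniteLimits_iff_forall_exact_map_and_mono _).1 inferInstance S hS).1, ?_⟩
  haveI := hS.epi_g
  exact epi_push S.g

theorem isZero_Rpush (F : CohTop.Ab X) (q : ℕ) :
    IsZero ((CohTop.Rpush (etaT X) (q + 1)).obj F) := by
  haveI : PreservesFiniteLimits (CohTop.push (etaT X)) := inferInstance
  haveI := preservesFiniteColimits_push (X := X)
  exact Groth.Agent.Lib.Helper5.Misc.RDExact.isZero_rightDerived_succ (CohTop.push (etaT X)) F q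

end Groth.Agent.Helper3.SobC
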