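import Mathlib
import Groth.Prelude.Def_CohTop
import Groth.Prelude.Def_FreeSh

/-!
# Mayer–Vietoris for the cohomology of opens, elementwise
-/

set_option autoImplicit false
set_option backward.isDefEq.respectTransparency false
open CategoryTheory Limits Opposite TopologicalSpace TopCat

universe u
namespace Groth.Agent.Helper3.MVel

variable {X : TopCat.{u}} (F : CohTop.Ab X)

lemma res_res (n : ℕ) {U V W : Opens X} (h : V ≤ U) (h' : W ≤ V) (ξ : CohTop.HU F n U) :
    CohTop.res F n h' (CohTop.res F n h ξ) = CohTop.res F n (h'.trans h) ξ := by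
  change ((Sheaf.cohomologyPresheaf.{u} F n).map (homOfLE h).op ≫
    (Sheaf.cohomologyPresheaf.{u} F n).map (homOfLE h').op).hom ξ = _
  rw [← Functor.map_comp]
  rfl

lemma res_self (n : ℕ) {U : Opens X} (ξ : CohTop.HU F n U) : CohTop.res F n le_rfl ξ = ξ := by
  have h : (Sheaf.cohomologyPresheaf.{u} F n).map (homOfLE (le_refl U)).op = 𝟙 _ := by
    have h0 : (homOfLE (le_refl U)).op = 𝟙 (op U) := rfl
    rw [h0]
    exact (Sheaf.cohomologyPresheaf.{u} F n).map_id _
  change ((Sheaf.cohomologyPresheaf.{u} F n).map (homOfLE (le_refl U)).op).hom ξ = ξ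
  rw [h]
  rfl

lemma map_eq_res (n : ℕ) {A B : Opens X} (f : op A ⟶ op B) (ξ : CohTop.HU F n A) :
    ((Sheaf.cohomologyPresheaf.{u} F n).map f).hom ξ = CohTop.res F n f.unop.le ξ := by
  have : f = (homOfLE f.unop.le).op := by
    apply Quiver.Hom.unop_inj
    exact Subsingleton.elim _ _
  rw [this]

variable (A B : Opens X)

/-- the connecting map -/
noncomputable def δ (n : ℕ) : CohTop.HU F n (A ⊓ B) →+ CohTop.HU F (n + 1) (A ⊔ B) :=
  ((Opens.mayerVietorisSquare A B).δ F n (n + 1) rfl).hom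

theorem exact_mid (n : ℕ) (a : CohTop.HU F n A) (b : CohTop.HU F n B)
    (hab : CohTop.res F n (inf_le_left : A ⊓ B ≤ A) a = CohTop.res F n (inf_le_right : A ⊓ B ≤ B) b) :
    ∃ c : CohTop.HU F n (A ⊔ B), CohTop.res F n (le_sup_left : A ≤ A ⊔ B) c = a ∧
      CohTop.res F n (le_sup_right : B ≤ A ⊔ B) c = b := by
  let S := Opens.mayerVietorisSquare A B
  have hex := (S.sequence_exact F n (n + 1) rfl).exact 0
  rw [ShortComplex.ab_exact_iff] at hex
  obtain ⟨c, hc⟩ := hex ((AddCommGrpCat.biprodIsoProd _ _).inv ⟨a, b⟩) (by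
    change (S.fromBiprod F n) ((AddCommGrpCat.biprodIsoProd _ _).inv ⟨a, b⟩) = 0
    rw [GrothendieckTopology.MayerVietorisSquare.fromBiprod_biprodIsoProd_inv_apply, sub_eq_zero]
    exact hab)
  refine ⟨c, ?_, ?_⟩
  · have h1 : (S.toBiprod F n) c = (AddCommGrpCat.biprodIsoProd _ _).inv ⟨a, b⟩ := hc
    rw [GrothendieckTopology.MayerVietorisSquare.toBiprod_apply] at h1
    have h2 := (AddCommGrpCat.biprodIsoProd _ _).addCommGroupIsoToAddEquiv.symm.injective h1
    exact congrArg Prod.fst h2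
  · have h1 : (S.toBiprod F n) c = (AddCommGrpCat.biprodIsoProd _ _).inv ⟨a, b⟩ := hc
    rw [GrothendieckTopology.MayerVietorisSquare.toBiprod_apply] at h1
    have h2 := (AddCommGrpCat.biprodIsoProd _ _).addCommGroupIsoToAddEquiv.symm.injective h1
    exact congrArg Prod.snd h2

theorem exact_left (n : ℕ) (c : CohTop.HU F (n + 1) (A ⊔ B))
    (ha : CohTop.res F (n + 1) (le_sup_left : A ≤ A ⊔ B) c = 0)
    (hb : CohTop.res F (n + 1) (le_sup_right : B ≤ A ⊔ B) c = 0) :
    ∃ e : CohTop.HU F n (A ⊓ B), δ F A B n e = c := by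
  let S := Opens.mayerVietorisSquare A B
  have hex := (S.sequence_exact F n (n + 1) rfl).exact 2
  rw [ShortComplex.ab_exact_iff] at hex
  obtain ⟨e, he⟩ := hex c (by
    change (S.toBiprod F (n + 1)) c = 0
    rw [GrothendieckTopology.MayerVietorisSquare.toBiprod_apply]
    have : ((⟨((Sheaf.cohomologyPresheaf.{u} F (n + 1)).map S.f₂₄.op).hom c,
        ((Sheaf.cohomologyPresheaf.{u} F (n + 1)).map S.f₃₄.op).hom c⟩ :
        ↑(F.H' (n + 1) S.X₂) × ↑(F.H' (n + 1) S.X₃))) = 0 := Prod.ext ha hb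
    erw [this]
    exact map_zero _)
  exact ⟨e, he⟩

theorem δ_res (n : ℕ) (a : CohTop.HU F n A) :
    δ F A B n (CohTop.res F n (inf_le_left : A ⊓ B ≤ A) a) = 0 := by
  let S := Opens.mayerVietorisSquare A B
  have h := ConcreteCategory.congr_hom (S.fromBiprod_δ F n (n + 1) rfl)
    ((AddCommGrpCat.biprodIsoProd _ _).inv ⟨a, 0⟩)
  rw [ConcreteCategory.comp_apply,
    GrothendieckTopology.MayerVietorisSquare.fromBiprod_biprodIsoProd_inv_apply, map_zero,
    sub_zero] at h
  exact h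

end Groth.Agent.Helper3.MVel
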