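import Mathlib
import Groth.Prelude.Def_CohTop

/-!
# Stalks of the inverse image of a sheaf, compatibly with germs
-/

set_option autoImplicit false
set_option backward.isDefEq.respectTransparency false
open CategoryTheory Limits Opposite TopologicalSpace TopCat

universe u
namespace Groth.Agent.Helper3.PB2

variable {Z X : TopCat.{u}} (i : Z ⟶ X) (F : CohTop.Ab X)

/-- the adjunction between inverse and direct image -/
noncomputable abbrev adj : CohTop.pull i ⊣ CohTop.push i :=
  Sheaf.pullbackPushforwardAdjunction AddCommGrpCat.{u} i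

/-- the inverse image -/
noncomputable abbrev G : CohTop.Ab Z := (CohTop.pull i).obj F

/-- the unit of the adjunction -/
noncomputable abbrev η : F ⟶ (CohTop.push i).obj (G i F) := (adj i).unit.app F

/-- the map induced by the unit on sections -/
noncomputable abbrev ηU (U : Opens X) : F.obj.obj (op U) ⟶ (G i F).obj.obj (op ((Opens.map i).obj U)) :=
  (η i F).hom.app (op U)

/-- the comparison of stalks -/
noncomputable def φ (z : Z) : Presheaf.stalk F.obj (i z) ⟶ Presheaf.stalk (G i F).obj z :=
  (Presheaf.stalkFunctor AddCommGrpCat.{u} (i z)).map (η i F).hom ≫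
    Presheaf.stalkPushforward AddCommGrpCat.{u} i (G i F).obj z

lemma germ_φ (z : Z) (U : Opens X) (hU : i z ∈ U) :
    Presheaf.germ F.obj U (i z) hU ≫ φ i F z =
      ηU i F U ≫ Presheaf.germ (G i F).obj ((Opens.map i).obj U) z hU := by
  unfold φ
  rw [Presheaf.stalkFunctor_map_germ_assoc]
  erw [Presheaf.stalkPushforward_germ]
  rfl

/-- decidability of membership, on the source -/
noncomputable def instZ (z : Z) : ∀ U : Opens Z, Decidable (z ∈ U) := fun _ => Classical.dec _

/-- decidability of membership, on the target, chosen so that the direct image of a skyscraper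
sheaf is a skyscraper sheaf by definition -/
noncomputable def instX (z : Z) : ∀ U : Opens X, Decidable (i z ∈ U) :=
  fun U => Classical.dec (z ∈ (Opens.map i).obj U)

/-- the composite adjunction -/
noncomputable def adjL (z : Z) : CohTop.pull i ⋙ (Sheaf.forget AddCommGrpCat.{u} Z ⋙
      Presheaf.stalkFunctor AddCommGrpCat.{u} z) ⊣
    @skyscraperSheafFunctor X (i z) (instX i z) AddCommGrpCat.{u} _ _ :=
  (adj i).comp (@stalkSkyscraperSheafAdjunction Z z (instZ z) AddCommGrpCat.{u} _ _ _)

/-- the adjunction between the stalk and the skyscraper sheaf -/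
noncomputable def adjR (z : Z) :
    (Sheaf.forget AddCommGrpCat.{u} X ⋙ Presheaf.stalkFunctor AddCommGrpCat.{u} (i z)) ⊣
      @skyscraperSheafFunctor X (i z) (instX i z) AddCommGrpCat.{u} _ _ :=
  @stalkSkyscraperSheafAdjunction X (i z) (instX i z) AddCommGrpCat.{u} _ _ _

/-- the abstract identification of the stalks -/
noncomputable def e (z : Z) :
    Presheaf.stalk (G i F).obj z ≅ Presheaf.stalk F.obj (i z) :=
  ((adjL i z).leftAdjointUniq (adjR i z)).app F

section sky

variable {Y : TopCat.{u}} (p : Y) [∀ U : Opens Y, Decidable (p ∈ U)]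

lemma unit_app_eqToHom (𝓕 : TopCat.Sheaf AddCommGrpCat.{u} Y) (U : Opens Y) (hU : p ∈ U) :
    ((stalkSkyscraperSheafAdjunction p).unit.app 𝓕).hom.app (op U) ≫ eqToHom (if_pos hU) =
      Presheaf.germ 𝓕.obj U p hU := by
  change (StalkSkyscraperPresheafAdjunctionAuxs.toSkyscraperPresheaf p (𝟙 _)).app (op U) ≫ _ = _
  rw [comp_eqToHom_iff, StalkSkyscraperPresheafAdjunctionAuxs.toSkyscraperPresheaf_app,
    dif_pos hU, Category.id_comp]
  rfl

lemma sky_map_eqToHom {a b : AddCommGrpCat.{u}} (f : a ⟶ b) (U : Opens Y) (hU : p ∈ U) :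
    ((skyscraperSheafFunctor p).map f).hom.app (op U) ≫ eqToHom (if_pos hU) =
      eqToHom (if_pos hU) ≫ f := by
  change (SkyscraperPresheafFunctor.map' p f).app (op U) ≫ _ = _
  rw [comp_eqToHom_iff, SkyscraperPresheafFunctor.map'_app, dif_pos hU, Category.assoc]

end sky

lemma φ_e (z : Z) : φ i F z ≫ (e i F z).hom = 𝟙 _ := by
  refine Presheaf.stalk_hom_ext _ fun U hU => ?_
  rw [Category.comp_id, ← Category.assoc, germ_φ, Category.assoc]
  have key := Adjunction.unit_leftAdjointUniq_hom_app (adjL i z) (adjR i z) F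
  have key' := congrArg (fun m => m.hom.app (op U)) key
  letI := instX i z
  letI := instZ z
  have hU' : z ∈ (Opens.map i).obj U := hU
  simp only [adjL, adjR, Adjunction.comp_unit_app] at key'
  have key'' := congrArg (fun m => m ≫ eqToHom (if_pos hU)) key'
  simp only at key''
  have hA := unit_app_eqToHom ((ConcreteCategory.hom i) z) F U hU
  have hA' := unit_app_eqToHom z (G i F) ((Opens.map i).obj U) hU'
  have hB := sky_map_eqToHom ((ConcreteCategory.hom i) z) (e i F z).hom U hU
  refine Eq.trans ?_ (key''.trans hA)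
  symm
  let B_U := ((stalkSkyscraperSheafAdjunction z).unit.app (G i F)).hom.app
    (op ((Opens.map i).obj U))
  let C_U := ((skyscraperSheafFunctor ((ConcreteCategory.hom i) z)).map (e i F z).hom).hom.app (op U)
  have hB' : C_U ≫ eqToHom (if_pos hU) = eqToHom (if_pos hU) ≫ (e i F z).hom := hB
  have hA'' : B_U ≫ eqToHom (if_pos hU') =
      Presheaf.germ (G i F).obj ((Opens.map i).obj U) z hU := hA'
  change ((ηU i F U ≫ B_U) ≫ C_U) ≫ eqToHom (if_pos hU) = _
  calc ((ηU i F U ≫ B_U) ≫ C_U) ≫ eqToHom (if_pos hU)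
      = ηU i F U ≫ (B_U ≫ (C_U ≫ eqToHom (if_pos hU))) := by
        simp only [Category.assoc]
    _ = ηU i F U ≫ (B_U ≫ (eqToHom (if_pos hU) ≫ (e i F z).hom)) := by rw [hB']
    _ = ηU i F U ≫ ((B_U ≫ eqToHom (if_pos hU')) ≫ (e i F z).hom) := by
        rw [Category.assoc]
    _ = ηU i F U ≫ (Presheaf.germ (G i F).obj ((Opens.map i).obj U) z hU ≫ (e i F z).hom) := by
        rw [hA'']

instance isIso_φ (z : Z) : IsIso (φ i F z) := by
  have h : φ i F z = (e i F z).inv := by
    rw [← cancel_mono (e i F z).hom, φ_e, Iso.inv_hom_id]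
  rw [h]
  infer_instance

end Groth.Agent.Helper3.PB2
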