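import Mathlib

/-!
# Separation of compact sets whose points are pairwise separated by open sets
-/

set_option autoImplicit false
open TopologicalSpace Topology Set

universe u
namespace Groth.Agent.Helper3.PB1

variable {X : Type u} [TopologicalSpace X]

/-- two points are separated by disjoint open sets -/
def Sep (x y : X) : Prop := ∃ U V : Set X, IsOpen U ∧ IsOpen V ∧ x ∈ U ∧ y ∈ V ∧ Disjoint U V

lemma Sep.symm {x y : X} (h : Sep x y) : Sep y x := by
  obtain ⟨U, V, hU, hV, hx, hy, hd⟩ := h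
  exact ⟨V, U, hV, hU, hy, hx, hd.symm⟩

/-- a point is separated from a compact set all of whose points are separated from it -/
lemma sep_point_compact {K : Set X} (hK : IsCompact K) (a : X) (h : ∀ b ∈ K, Sep a b) :
    ∃ U V : Set X, IsOpen U ∧ IsOpen V ∧ a ∈ U ∧ K ⊆ V ∧ Disjoint U V := by
  refine hK.induction_on (p := fun B => ∃ U V : Set X, IsOpen U ∧ IsOpen V ∧ a ∈ U ∧ B ⊆ V ∧
    Disjoint U V) ?_ ?_ ?_ ?_
  · exact ⟨univ, ∅, isOpen_univ, isOpen_empty, mem_univ _, subset_rfl, disjoint_empty _⟩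
  · rintro B B' hBB' ⟨U, V, hU, hV, ha, hB', hd⟩
    exact ⟨U, V, hU, hV, ha, hBB'.trans hB', hd⟩
  · rintro B B' ⟨U, V, hU, hV, ha, hB, hd⟩ ⟨U', V', hU', hV', ha', hB', hd'⟩
    refine ⟨U ∩ U', V ∪ V', hU.inter hU', hV.union hV', ⟨ha, ha'⟩, union_subset_union hB hB', ?_⟩
    rw [disjoint_union_right]
    exact ⟨hd.mono_left inter_subset_left, hd'.mono_left inter_subset_right⟩
  · intro b hb
    obtain ⟨U, V, hU, hV, ha, hbV, hd⟩ := h b hb
    exact ⟨V, mem_nhdsWithin_of_mem_nhds (hV.mem_nhds hbV), U, V, hU, hV, ha, subset_rfl, hd⟩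

/-- two compact sets whose points are pairwise separated are separated -/
lemma sep_compact_compact {K L : Set X} (hK : IsCompact K) (hL : IsCompact L)
    (h : ∀ a ∈ K, ∀ b ∈ L, Sep a b) :
    ∃ U V : Set X, IsOpen U ∧ IsOpen V ∧ K ⊆ U ∧ L ⊆ V ∧ Disjoint U V := by
  refine hK.induction_on (p := fun B => ∃ U V : Set X, IsOpen U ∧ IsOpen V ∧ B ⊆ U ∧ L ⊆ V ∧
    Disjoint U V) ?_ ?_ ?_ ?_
  · exact ⟨∅, univ, isOpen_empty, isOpen_univ, subset_rfl, subset_univ _, empty_disjoint _⟩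
  · rintro B B' hBB' ⟨U, V, hU, hV, hB', hL', hd⟩
    exact ⟨U, V, hU, hV, hBB'.trans hB', hL', hd⟩
  · rintro B B' ⟨U, V, hU, hV, hB, hLV, hd⟩ ⟨U', V', hU', hV', hB', hLV', hd'⟩
    refine ⟨U ∪ U', V ∩ V', hU.union hU', hV.inter hV', union_subset_union hB hB',
      subset_inter hLV hLV', ?_⟩
    rw [disjoint_union_left]
    exact ⟨hd.mono_right inter_subset_left, hd'.mono_right inter_subset_right⟩
  · intro a ha
    obtain ⟨U, V, hU, hV, haU, hLV, hd⟩ := sep_point_compact hL a (h a ha)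
    exact ⟨U, mem_nhdsWithin_of_mem_nhds (hU.mem_nhds haU), U, V, hU, hV, subset_rfl, hLV, hd⟩

/-- in a compact set whose points are pairwise separated, every point has a compact neighbourhood
(relative to the set) inside any given open neighbourhood -/
lemma exists_compact_nhdsWithin {A : Set X} (hA : IsCompact A)
    (hsep : ∀ a ∈ A, ∀ b ∈ A, a ≠ b → Sep a b) (a : X) (ha : a ∈ A) (W : Set X) (hW : IsOpen W)
    (haW : a ∈ W) : ∃ K : Set X, IsCompact K ∧ K ⊆ A ∧ K ⊆ W ∧ K ∈ 𝓝[A] a := by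
  have hc : IsCompact (A ∩ Wᶜ) := hA.inter_right hW.isClosed_compl
  obtain ⟨U, V, hU, hV, haU, hKV, hd⟩ := sep_point_compact hc a (fun b hb =>
    hsep a ha b hb.1 (fun hab => hb.2 (hab ▸ haW)))
  refine ⟨A ∩ Vᶜ, hA.inter_right hV.isClosed_compl, inter_subset_left, ?_, ?_⟩
  · intro x hx
    by_contra hxW
    exact hx.2 (hKV ⟨hx.1, hxW⟩)
  · have h1 : U ∈ 𝓝[A] a := mem_nhdsWithin_of_mem_nhds (hU.mem_nhds haU)
    have h2 : A ∈ 𝓝[A] a := self_mem_nhdsWithin
    refine Filter.mem_of_superset (Filter.inter_mem h2 h1) ?_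
    intro x hx
    exact ⟨hx.1, fun hxV => (disjoint_left.1 hd) hx.2 hxV⟩

end Groth.Agent.Helper3.PB1
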