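import Mathlib
import Groth.Prelude.Def_CohTop
import Groth.Agent.Lib.Helper3.PB1
import Groth.Agent.Lib.Helper3.PB3

/-!
# Extension of sections from a compact subspace to a neighbourhood (Godement)
-/

set_option autoImplicit false
set_option backward.isDefEq.respectTransparency false
open CategoryTheory Limits Opposite TopologicalSpace TopCat

universe u
namespace Groth.Agent.Helper3.PB4

open PB1 PB3

section glue

variable {X : TopCat.{u}} (F : CohTop.Ab X)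

/-- gluing two sections defined near two compact sets which agree near the intersection -/
lemma glue_near {B₁ B₂ : Set X} (hB₁ : IsCompact B₁) (hB₂ : IsCompact B₂)
    (hsep : ∀ a ∈ B₁, ∀ b ∈ B₂, a ≠ b → Sep a b)
    {U₁ U₂ W : Opens X} (h₁ : B₁ ⊆ U₁) (h₂ : B₂ ⊆ U₂) (hW : B₁ ∩ B₂ ⊆ W) (hW₁ : W ≤ U₁) (hW₂ : W ≤ U₂)
    (s₁ : F.obj.obj (op U₁)) (s₂ : F.obj.obj (op U₂)) (hs : res F hW₁ s₁ = res F hW₂ s₂) :
    ∃ (U₁' U₂' : Opens X) (h₁' : U₁' ≤ U₁) (h₂' : U₂' ≤ U₂) (s : F.obj.obj (op (U₁' ⊔ U₂'))),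
      B₁ ⊆ U₁' ∧ B₂ ⊆ U₂' ∧ res F le_sup_left s = res F h₁' s₁ ∧ res F le_sup_right s = res F h₂' s₂ := by
  have hc₁ : IsCompact (B₁ ∩ (W : Set X)ᶜ) := hB₁.inter_right W.isOpen.isClosed_compl
  have hc₂ : IsCompact (B₂ ∩ (W : Set X)ᶜ) := hB₂.inter_right W.isOpen.isClosed_compl
  obtain ⟨O₁, O₂, hO₁, hO₂, hL₁, hL₂, hd⟩ := sep_compact_compact hc₁ hc₂ (by
    rintro a ⟨ha, haW⟩ b ⟨hb, hbW⟩
    refine hsep a ha b hb ?_
    rintro rfl
    exact haW (hW ⟨ha, hb⟩))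
  let P₁ : Opens X := ⟨O₁, hO₁⟩
  let P₂ : Opens X := ⟨O₂, hO₂⟩
  have hle : (U₁ ⊓ (P₁ ⊔ W)) ⊓ (U₂ ⊓ (P₂ ⊔ W)) ≤ W := by
    rintro x ⟨⟨-, hx₁⟩, ⟨-, hx₂⟩⟩
    rcases hx₁ with hx₁ | hx₁
    · rcases hx₂ with hx₂ | hx₂
      · exact ((Set.disjoint_left.1 hd) hx₁ hx₂).elim
      · exact hx₂
    · exact hx₁
  have hcompat : res F (inf_le_left : (U₁ ⊓ (P₁ ⊔ W)) ⊓ (U₂ ⊓ (P₂ ⊔ W)) ≤ U₁ ⊓ (P₁ ⊔ W))
      (res F (inf_le_left : U₁ ⊓ (P₁ ⊔ W) ≤ U₁) s₁) =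
      res F (inf_le_right : (U₁ ⊓ (P₁ ⊔ W)) ⊓ (U₂ ⊓ (P₂ ⊔ W)) ≤ U₂ ⊓ (P₂ ⊔ W))
      (res F (inf_le_left : U₂ ⊓ (P₂ ⊔ W) ≤ U₂) s₂) := by
    rw [res_res, res_res]
    have := congrArg (res F hle) hs
    rw [res_res, res_res] at this
    exact this
  obtain ⟨s, hs₁, hs₂⟩ := glue2 F _ _ hcompat
  refine ⟨U₁ ⊓ (P₁ ⊔ W), U₂ ⊓ (P₂ ⊔ W), inf_le_left, inf_le_left, s, ?_, ?_, hs₁, hs₂⟩
  · intro x hx
    refine ⟨h₁ hx, ?_⟩
    by_cases hxW : x ∈ (W : Set X)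
    · exact Or.inr hxW
    · exact Or.inl (hL₁ ⟨hx, hxW⟩)
  · intro x hx
    refine ⟨h₂ hx, ?_⟩
    by_cases hxW : x ∈ (W : Set X)
    · exact Or.inr hxW
    · exact Or.inl (hL₂ ⟨hx, hxW⟩)

end glue

variable {Z X : TopCat.{u}} (i : Z ⟶ X) {F : CohTop.Ab X} {G : CohTop.Ab Z}
  (θ : F ⟶ (CohTop.push i).obj G)

/-- the map on sections -/
noncomputable abbrev θU (U : Opens X) (s : F.obj.obj (op U)) : G.obj.obj (op ((Opens.map i).obj U)) :=
  θ.hom.app (op U) s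

lemma pre_mono {U U' : Opens X} (h : U' ≤ U) : (Opens.map i).obj U' ≤ (Opens.map i).obj U :=
  fun _ hx => h hx

lemma θU_res {U U' : Opens X} (h : U' ≤ U) (s : F.obj.obj (op U)) :
    θU i θ U' (res F h s) = res G (pre_mono i h) (θU i θ U s) := by
  have := congrArg (fun f => f s) (congrArg (fun f => f.hom) (θ.hom.naturality (homOfLE h).op))
  exact this

lemma θU_sub (U : Opens X) (s s' : F.obj.obj (op U)) :
    θU i θ U (s - s') = θU i θ U s - θU i θ U s' := map_sub _ _ _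

/-- the map `θ` is locally bijective over `i` -/
structure LocIso : Prop where
  surj : ∀ (z : Z) (V : Opens Z) (_ : z ∈ V) (t : G.obj.obj (op V)),
    ∃ (U : Opens X) (_ : i z ∈ U) (s : F.obj.obj (op U)) (W : Opens Z) (_ : z ∈ W) (hWV : W ≤ V)
      (hWU : W ≤ (Opens.map i).obj U), res G hWU (θU i θ U s) = res G hWV t
  inj : ∀ (z : Z) (U : Opens X) (_ : i z ∈ U) (s : F.obj.obj (op U)) (W : Opens Z) (_ : z ∈ W)
      (hWU : W ≤ (Opens.map i).obj U), res G hWU (θU i θ U s) = 0 →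
      ∃ (U' : Opens X) (_ : i z ∈ U') (h : U' ≤ U), res F h s = 0

variable {i θ}

/-- sections with vanishing image near a set vanish near the image of the set -/
lemma LocIso.exists_res_eq_zero (hθ : LocIso i θ) (A : Set Z) (U : Opens X) (s : F.obj.obj (op U))
    (W : Opens Z) (hAW : A ⊆ W) (hWU : W ≤ (Opens.map i).obj U)
    (h0 : res G hWU (θU i θ U s) = 0) :
    ∃ (U' : Opens X) (h : U' ≤ U), (∀ a ∈ A, i a ∈ U') ∧ res F h s = 0 := by
  choose! U' hU' hle h0' using fun (a : Z) (ha : a ∈ A) =>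
    hθ.inj a U (hWU (hAW ha)) s W (hAW ha) hWU h0
  let T : Opens X := ⨆ a : A, U' a.1 ⊓ U
  have hT : T ≤ U := iSup_le fun a => inf_le_right
  refine ⟨T, hT, ?_, ?_⟩
  · intro a ha
    exact Opens.mem_iSup.2 ⟨⟨a, ha⟩, hU' a ha, hWU (hAW ha)⟩
  · rw [← res_zero F hT]
    apply eq_of_locally_eq
    intro x hx
    obtain ⟨a, hxa⟩ := Opens.mem_iSup.1 hx
    refine ⟨U' a.1 ⊓ U, hxa, le_iSup (fun a : A => U' a.1 ⊓ U) a, ?_⟩
    rw [res_res, res_res, res_zero]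
    have := congrArg (res F (inf_le_left : U' a.1 ⊓ U ≤ U' a.1)) (h0' a.1 a.2)
    rw [res_res, res_zero] at this
    exact this

lemma sep_of_sep_image {a b : Z} (h : Sep (i a) (i b)) : Sep a b := by
  obtain ⟨U, V, hU, hV, ha, hb, hd⟩ := h
  exact ⟨i ⁻¹' U, i ⁻¹' V, hU.preimage i.hom.continuous, hV.preimage i.hom.continuous, ha, hb,
    hd.preimage _⟩

/-- **Godement's extension theorem**: a section of `G` near a compact set `A`, whose image has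
pairwise separated points, comes from a section of `F` near the image of `A` -/
theorem LocIso.exists_extension (hθ : LocIso i θ) (hi : Function.Injective i) {A : Set Z}
    (hA : IsCompact A) (hsep : ∀ a ∈ A, ∀ b ∈ A, a ≠ b → Sep (i a) (i b))
    (V : Opens Z) (hAV : A ⊆ V) (t : G.obj.obj (op V)) :
    ∃ (U : Opens X) (s : F.obj.obj (op U)) (W : Opens Z) (hWV : W ≤ V)
      (hWU : W ≤ (Opens.map i).obj U), A ⊆ W ∧ res G hWU (θU i θ U s) = res G hWV t := by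
  have hsepZ : ∀ a ∈ A, ∀ b ∈ A, a ≠ b → Sep a b := fun a ha b hb hab =>
    sep_of_sep_image (hsep a ha b hb hab)
  let Q : Set Z → Prop := fun K => ∃ (U : Opens X) (s : F.obj.obj (op U)) (W : Opens Z) (hWV : W ≤ V)
      (hWU : W ≤ (Opens.map i).obj U), K ⊆ W ∧ res G hWU (θU i θ U s) = res G hWV t
  suffices h : ∃ K, IsCompact K ∧ A ⊆ K ∧ K ⊆ A ∧ Q K by
    obtain ⟨K, -, hAK, -, U, s, W, hWV, hWU, hKW, e⟩ := h
    exact ⟨U, s, W, hWV, hWU, hAK.trans hKW, e⟩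
  refine hA.induction_on (p := fun B => ∃ K, IsCompact K ∧ B ⊆ K ∧ K ⊆ A ∧ Q K) ?_ ?_ ?_ ?_
  · refine ⟨∅, isCompact_empty, subset_rfl, Set.empty_subset _, ⊥, 0, ⊥, bot_le, bot_le,
      Set.empty_subset _, ?_⟩
    apply eq_of_locally_eq
    intro x hx
    exact hx.elim
  · rintro B B' hBB' ⟨K, hK, hB'K, hKA, hQ⟩
    exact ⟨K, hK, hBB'.trans hB'K, hKA, hQ⟩
  · rintro B₁ B₂ ⟨K₁, hK₁, hB₁, hK₁A, U₁, s₁, W₁, hW₁V, hW₁U, hKW₁, e₁⟩
      ⟨K₂, hK₂, hB₂, hK₂A, U₂, s₂, W₂, hW₂V, hW₂U, hKW₂, e₂⟩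
    refine ⟨K₁ ∪ K₂, hK₁.union hK₂, Set.union_subset_union hB₁ hB₂, Set.union_subset hK₁A hK₂A, ?_⟩
    -- the two sections agree near the image of the intersection
    have hd0 : res G (show W₁ ⊓ W₂ ≤ (Opens.map i).obj (U₁ ⊓ U₂) from
        fun x hx => ⟨hW₁U hx.1, hW₂U hx.2⟩)
        (θU i θ (U₁ ⊓ U₂) (res F inf_le_left s₁ - res F inf_le_right s₂)) = 0 := by
      rw [θU_sub, res_sub, θU_res, θU_res, res_res, res_res, sub_eq_zero]
      have a₁ := congrArg (res G (inf_le_left : W₁ ⊓ W₂ ≤ W₁)) e₁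
      have a₂ := congrArg (res G (inf_le_right : W₁ ⊓ W₂ ≤ W₂)) e₂
      rw [res_res, res_res] at a₁ a₂
      exact a₁.trans a₂.symm
    obtain ⟨T, hT, hCT, hT0⟩ := hθ.exists_res_eq_zero (K₁ ∩ K₂) (U₁ ⊓ U₂) _ (W₁ ⊓ W₂)
      (fun x hx => ⟨hKW₁ hx.1, hKW₂ hx.2⟩) _ hd0
    have hT0' : res F (hT.trans inf_le_left) s₁ = res F (hT.trans inf_le_right) s₂ := by
      rw [res_sub, res_res, res_res, sub_eq_zero] at hT0
      exact hT0
    obtain ⟨U₁', U₂', h₁', h₂', s, hL₁, hL₂, hs₁, hs₂⟩ := glue_near F (hK₁.image i.hom.continuous)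
      (hK₂.image i.hom.continuous) (by
        rintro _ ⟨a, ha, rfl⟩ _ ⟨b, hb, rfl⟩ hab
        exact hsep a (hK₁A ha) b (hK₂A hb) (fun h => hab (h ▸ rfl)))
      (U₁ := U₁) (U₂ := U₂) (W := T)
      (by rintro _ ⟨a, ha, rfl⟩; exact hW₁U (hKW₁ ha))
      (by rintro _ ⟨a, ha, rfl⟩; exact hW₂U (hKW₂ ha))
      (by
        rintro _ ⟨⟨a, ha, rfl⟩, ⟨b, hb, hab⟩⟩
        have : b = a := hi hab
        subst this
        exact hCT b ⟨ha, hb⟩)
      (hT.trans inf_le_left) (hT.trans inf_le_right) s₁ s₂ hT0'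
    let Wa : Opens Z := W₁ ⊓ (Opens.map i).obj U₁'
    let Wb : Opens Z := W₂ ⊓ (Opens.map i).obj U₂'
    have hWaU : Wa ≤ (Opens.map i).obj (U₁' ⊔ U₂') := fun x hx => Or.inl hx.2
    have hWbU : Wb ≤ (Opens.map i).obj (U₁' ⊔ U₂') := fun x hx => Or.inr hx.2
    have hWaV : Wa ≤ V := inf_le_left.trans hW₁V
    have hWbV : Wb ≤ V := inf_le_left.trans hW₂V
    have ea : res G hWaU (θU i θ _ s) = res G hWaV t := by
      have h1 := congrArg (θU i θ U₁') hs₁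
      rw [θU_res, θU_res] at h1
      have h2 := congrArg (res G (show Wa ≤ (Opens.map i).obj U₁' from inf_le_right)) h1
      rw [res_res, res_res] at h2
      refine h2.trans ?_
      have h3 := congrArg (res G (inf_le_left : Wa ≤ W₁)) e₁
      rw [res_res, res_res] at h3
      exact h3
    have eb : res G hWbU (θU i θ _ s) = res G hWbV t := by
      have h1 := congrArg (θU i θ U₂') hs₂
      rw [θU_res, θU_res] at h1
      have h2 := congrArg (res G (show Wb ≤ (Opens.map i).obj U₂' from inf_le_right)) h1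
      rw [res_res, res_res] at h2
      refine h2.trans ?_
      have h3 := congrArg (res G (inf_le_left : Wb ≤ W₂)) e₂
      rw [res_res, res_res] at h3
      exact h3
    refine ⟨U₁' ⊔ U₂', s, Wa ⊔ Wb, sup_le hWaV hWbV, sup_le hWaU hWbU, ?_, ?_⟩
    · rintro x (hx | hx)
      · exact Or.inl ⟨hKW₁ hx, hL₁ ⟨x, hx, rfl⟩⟩
      · exact Or.inr ⟨hKW₂ hx, hL₂ ⟨x, hx, rfl⟩⟩
    · apply eq_of_locally_eq
      rintro x (hx | hx)
      · refine ⟨Wa, hx, le_sup_left, ?_⟩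
        rw [res_res, res_res]
        exact ea
      · refine ⟨Wb, hx, le_sup_right, ?_⟩
        rw [res_res, res_res]
        exact eb
  · intro a ha
    obtain ⟨U, hU, s, W, hW, hWV, hWU, e⟩ := hθ.surj a V (hAV ha) t
    obtain ⟨K, hK, hKA, hKW, hKn⟩ := exists_compact_nhdsWithin hA hsepZ a ha W W.isOpen hW
    exact ⟨K, hKn, K, hK, subset_rfl, hKA, U, s, W, hWV, hWU, hKW, e⟩

end Groth.Agent.Helper3.PB4
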