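import Mathlib
import Groth.Prelude.Def_CohTop
import Groth.Agent.Lib.Helper3.PB2
import Groth.Agent.Lib.Helper3.PB4

/-!
# Maps of sheaves over a continuous map which are bijective on stalks are locally bijective
-/

set_option autoImplicit false
set_option backward.isDefEq.respectTransparency false
open CategoryTheory Limits Opposite TopologicalSpace TopCat

universe u
namespace Groth.Agent.Helper3.PB5

open PB3 PB4

variable {Z X : TopCat.{u}} (i : Z ⟶ X) {F : CohTop.Ab X} {G : CohTop.Ab Z}
  (θ : F ⟶ (CohTop.push i).obj G)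

/-- the map induced on stalks -/
noncomputable def stalkMap (z : Z) : CohTop.stalk F (i z) ⟶ CohTop.stalk G z :=
  (Presheaf.stalkFunctor AddCommGrpCat.{u} (i z)).map θ.hom ≫
    Presheaf.stalkPushforward AddCommGrpCat.{u} i G.obj z

lemma germ_stalkMap (z : Z) (U : Opens X) (hU : i z ∈ U) :
    Presheaf.germ F.obj U (i z) hU ≫ stalkMap i θ z =
      θ.hom.app (op U) ≫ Presheaf.germ G.obj ((Opens.map i).obj U) z hU := by
  unfold stalkMap
  rw [Presheaf.stalkFunctor_map_germ_assoc]
  erw [Presheaf.stalkPushforward_germ]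
  rfl

lemma stalkMap_gm (z : Z) (U : Opens X) (hU : i z ∈ U) (s : F.obj.obj (op U)) :
    (stalkMap i θ z).hom (gm F (i z) hU s) = gm G z hU (θU i θ U s) := by
  have := congrArg (fun f => f.hom s) (germ_stalkMap i θ z U hU)
  exact this

theorem locIso_of_bijective (h : ∀ z, Function.Bijective (stalkMap i θ z).hom) : LocIso i θ where
  surj z V hz t := by
    obtain ⟨σ, hσ⟩ := (h z).2 (gm G z hz t)
    obtain ⟨U, hU, s, rfl⟩ := exists_gm_eq F (i z) σ
    rw [stalkMap_gm] at hσ
    obtain ⟨W, hW, hWU, hWV, e⟩ := exists_res_eq_of_gm_eq G z hU hz _ _ hσ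
    exact ⟨U, hU, s, W, hW, hWV, hWU, e⟩
  inj z U hU s W hW hWU h0 := by
    have h1 : gm G z hU (θU i θ U s) = 0 := by
      rw [← gm_res G hWU z hW, h0]
      exact map_zero _
    rw [← stalkMap_gm] at h1
    have h2 : gm F (i z) hU s = gm F (i z) hU 0 := by
      apply (h z).1
      rw [h1]
      rw [show gm F (i z) hU 0 = 0 from map_zero _]
      exact (map_zero _).symm
    obtain ⟨U', hU', hle, hle2, e⟩ := exists_res_eq_of_gm_eq F (i z) hU hU s 0 h2
    exact ⟨U', hU', hle, e.trans (res_zero F _)⟩

/-- the unit of the inverse image / direct image adjunction is locally bijective -/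
theorem locIso_unit (F : CohTop.Ab X) : LocIso i (PB2.η i F) := by
  apply locIso_of_bijective
  intro z
  have : IsIso (stalkMap i (PB2.η i F) z) := PB2.isIso_φ i F z
  exact ConcreteCategory.bijective_of_isIso (stalkMap i (PB2.η i F) z)

end Groth.Agent.Helper3.PB5
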