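import Mathlib
import Groth.Prelude.Def_CohTop
import Groth.Agent.Lib.Helper3.PB5
import Groth.Agent.Lib.Helper3.ShSec

/-!
# Soft sheaves on compact Hausdorff spaces
-/

set_option autoImplicit false
set_option backward.isDefEq.respectTransparency false
open CategoryTheory Limits Opposite TopologicalSpace TopCat

universe u
namespace Groth.Agent.Helper3.PB6

open PB1 PB3 PB4

/-- a soft sheaf: sections near closed sets extend (near the closed set) to global sections -/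
def IsSoft {Z : TopCat.{u}} (G : CohTop.Ab Z) : Prop :=
  ∀ (A : Set Z), IsClosed A → ∀ (V : Opens Z) (_ : A ⊆ V) (t : G.obj.obj (op V)),
    ∃ (t' : G.obj.obj (op ⊤)) (W : Opens Z) (hWV : W ≤ V), A ⊆ W ∧ res G le_top t' = res G hWV t

lemma flasque_surjective {X : TopCat.{u}} (F : CohTop.Ab X) [TopCat.Sheaf.IsFlasque F]
    {U V : Opens X} (h : U ≤ V) : Function.Surjective (res F h) :=
  (AddCommGrpCat.epi_iff_surjective _).1 (TopCat.Presheaf.IsFlasque.epi _)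

/-- a sheaf on a compact space which is locally (over an injective map `i` with separated image) the
inverse image of a flasque sheaf is soft -/
theorem isSoft_of_locIso {Z X : TopCat.{u}} {i : Z ⟶ X} {F : CohTop.Ab X} {G : CohTop.Ab Z}
    {θ : F ⟶ (CohTop.push i).obj G} (hθ : LocIso i θ) (hi : Function.Injective i) [CompactSpace Z]
    (hsep : ∀ a b : Z, a ≠ b → Sep (i a) (i b)) [TopCat.Sheaf.IsFlasque F] : IsSoft G := by
  intro A hA V hAV t
  obtain ⟨U, s, W, hWV, hWU, hAW, e⟩ := hθ.exists_extension hi hA.isCompact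
    (fun a _ b _ hab => hsep a b hab) V hAV t
  obtain ⟨s', rfl⟩ := flasque_surjective F (le_top : U ≤ ⊤) s
  refine ⟨res G (show (⊤ : Opens Z) ≤ (Opens.map i).obj ⊤ from fun _ _ => trivial) (θU i θ ⊤ s'), W, hWV,
    hAW, ?_⟩
  rw [res_res, ← e, θU_res, res_res]

section ses

variable {Z : TopCat.{u}} [CompactSpace Z] [T2Space Z]

lemma sep_of_ne {a b : Z} (h : a ≠ b) : Sep a b := by
  obtain ⟨U, V, hU, hV, ha, hb, hd⟩ := t2_separation h
  exact ⟨U, V, hU, hV, ha, hb, hd⟩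

variable {S : ShortComplex (CohTop.Ab Z)}

lemma g_res {U V : Opens Z} (h : V ≤ U) (s : S.X₂.obj.obj (op U)) :
    (S.g.hom.app (op V)).hom (res S.X₂ h s) = res S.X₃ h ((S.g.hom.app (op U)).hom s) := by
  have := congrArg (fun f => f.hom s) (S.g.hom.naturality (homOfLE h).op)
  exact this

lemma f_res {U V : Opens Z} (h : V ≤ U) (s : S.X₁.obj.obj (op U)) :
    (S.f.hom.app (op V)).hom (res S.X₁ h s) = res S.X₂ h ((S.f.hom.app (op U)).hom s) := by
  have := congrArg (fun f => f.hom s) (S.f.hom.naturality (homOfLE h).op)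
  exact this

/-- local lifting -/
lemma exists_local_lift (hS : S.ShortExact) {V : Opens Z} (t : S.X₃.obj.obj (op V)) (a : Z)
    (ha : a ∈ V) : ∃ (W : Opens Z) (_ : a ∈ W) (hWV : W ≤ V) (s : S.X₂.obj.obj (op W)),
      (S.g.hom.app (op W)).hom s = res S.X₃ hWV t := by
  have h := ShSec.imageSieve_mem hS t
  obtain ⟨W, f, hf, haW⟩ := h a ha
  obtain ⟨s, hs⟩ := hf
  exact ⟨W, haW, f.le, s, hs⟩

/-- sections of the quotient near a closed set lift near the closed set, when the kernel is soft -/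
theorem exists_lift_near (hS : S.ShortExact) (h1 : IsSoft S.X₁) {A : Set Z} (hA : IsClosed A)
    (V : Opens Z) (hAV : A ⊆ V) (t : S.X₃.obj.obj (op V)) :
    ∃ (W : Opens Z) (hWV : W ≤ V) (s : S.X₂.obj.obj (op W)), A ⊆ W ∧
      (S.g.hom.app (op W)).hom s = res S.X₃ hWV t := by
  let Q : Set Z → Prop := fun K => ∃ (W : Opens Z) (hWV : W ≤ V) (s : S.X₂.obj.obj (op W)), K ⊆ W ∧
      (S.g.hom.app (op W)).hom s = res S.X₃ hWV t
  suffices h : ∃ K, IsCompact K ∧ A ⊆ K ∧ K ⊆ A ∧ Q K by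
    obtain ⟨K, -, hAK, -, W, hWV, s, hKW, e⟩ := h
    exact ⟨W, hWV, s, hAK.trans hKW, e⟩
  refine hA.isCompact.induction_on (p := fun B => ∃ K, IsCompact K ∧ B ⊆ K ∧ K ⊆ A ∧ Q K) ?_ ?_ ?_ ?_
  · refine ⟨∅, isCompact_empty, subset_rfl, Set.empty_subset _, ⊥, bot_le, 0, Set.empty_subset _, ?_⟩
    apply eq_of_locally_eq
    intro x hx
    exact hx.elim
  · rintro B B' hBB' ⟨K, hK, hB'K, hKA, hQ⟩
    exact ⟨K, hK, hBB'.trans hB'K, hKA, hQ⟩
  · rintro B₁ B₂ ⟨K₁, hK₁, hB₁, hK₁A, W₁, hW₁V, s₁, hKW₁, e₁⟩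
      ⟨K₂, hK₂, hB₂, hK₂A, W₂, hW₂V, s₂, hKW₂, e₂⟩
    refine ⟨K₁ ∪ K₂, hK₁.union hK₂, Set.union_subset_union hB₁ hB₂, Set.union_subset hK₁A hK₂A, ?_⟩
    -- the difference comes from the kernel
    have hd : (S.g.hom.app (op (W₁ ⊓ W₂))).hom
        (res S.X₂ inf_le_left s₁ - res S.X₂ inf_le_right s₂) = 0 := by
      rw [map_sub, g_res, g_res, e₁, e₂, res_res, res_res, sub_self]
    obtain ⟨r, hr⟩ := ShSec.exact_sections hS (W₁ ⊓ W₂) _ hd
    obtain ⟨r', W', hW', hCW', er⟩ := h1 (K₁ ∩ K₂) (hK₁.inter hK₂).isClosed (W₁ ⊓ W₂)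
      (fun x hx => ⟨hKW₁ hx.1, hKW₂ hx.2⟩) r
    let s₂' : S.X₂.obj.obj (op W₂) := s₂ + (S.f.hom.app (op W₂)).hom (res S.X₁ le_top r')
    have e₂' : (S.g.hom.app (op W₂)).hom s₂' = res S.X₃ hW₂V t := by
      change (S.g.hom.app (op W₂)).hom (s₂ + _) = _
      rw [map_add, ShSec.zero_apply, add_zero, e₂]
    have hagree : res S.X₂ (hW'.trans inf_le_left) s₁ = res S.X₂ (hW'.trans inf_le_right) s₂' := by
      change _ = res S.X₂ _ (s₂ + _)
      rw [res_add, ← f_res, res_res]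
      have h3 := congrArg (res S.X₂ hW') hr
      rw [← f_res, ← er, res_sub, res_res, res_res] at h3
      rw [h3]
      abel
    obtain ⟨U₁', U₂', h₁', h₂', s, hL₁, hL₂, hs₁, hs₂⟩ := glue_near S.X₂ hK₁ hK₂
      (fun a _ b _ hab => sep_of_ne hab) (U₁ := W₁) (U₂ := W₂) (W := W') hKW₁ hKW₂ hCW'
      (hW'.trans inf_le_left) (hW'.trans inf_le_right) s₁ s₂' hagree
    refine ⟨U₁' ⊔ U₂', sup_le (h₁'.trans hW₁V) (h₂'.trans hW₂V), s, ?_, ?_⟩
    · rintro x (hx | hx)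
      · exact Or.inl (hL₁ hx)
      · exact Or.inr (hL₂ hx)
    · apply eq_of_locally_eq
      rintro x (hx | hx)
      · refine ⟨U₁', hx, le_sup_left, ?_⟩
        rw [← g_res, hs₁, g_res, e₁, res_res, res_res]
      · refine ⟨U₂', hx, le_sup_right, ?_⟩
        rw [← g_res, hs₂, g_res, e₂', res_res, res_res]
  · intro a ha
    obtain ⟨W, haW, hWV, s, e⟩ := exists_local_lift hS t a (hAV ha)
    obtain ⟨K, hK, hKA, hKW, hKn⟩ := exists_compact_nhdsWithin hA.isCompact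
      (fun a _ b _ hab => sep_of_ne hab) a ha W W.isOpen haW
    exact ⟨K, hKn, K, hK, subset_rfl, hKA, W, hWV, s, hKW, e⟩

/-- global sections of the quotient lift when the kernel is soft -/
theorem exists_lift_top (hS : S.ShortExact) (h1 : IsSoft S.X₁) (t : S.X₃.obj.obj (op ⊤)) :
    ∃ s : S.X₂.obj.obj (op ⊤), (S.g.hom.app (op ⊤)).hom s = t := by
  obtain ⟨W, hWV, s, hW, e⟩ := exists_lift_near hS h1 isClosed_univ ⊤ (fun _ _ => trivial) t
  have hW' : W = ⊤ := top_le_iff.1 (fun x _ => hW (Set.mem_univ x))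
  subst hW'
  refine ⟨s, e.trans (res_self _ _)⟩

/-- a quotient of a soft sheaf by a soft sheaf is soft -/
theorem isSoft_X₃ (hS : S.ShortExact) (h1 : IsSoft S.X₁) (h2 : IsSoft S.X₂) : IsSoft S.X₃ := by
  intro A hA V hAV t
  obtain ⟨W, hWV, s, hAW, e⟩ := exists_lift_near hS h1 hA V hAV t
  obtain ⟨s', W', hW'W, hAW', e'⟩ := h2 A hA W hAW s
  refine ⟨(S.g.hom.app (op ⊤)).hom s', W', hW'W.trans hWV, hAW', ?_⟩
  rw [← g_res, e', g_res, e, res_res]

end ses

end Groth.Agent.Helper3.PB6
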