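import Mathlib
import Groth.Prelude.Def_CohTop
import Groth.Prelude.Def_FreeSh
import Groth.Agent.Lib.Helper3.PB6
import Groth.Agent.Lib.Helper3.AcyClass
import Groth.Agent.S0454

/-!
# Soft sheaves on compact Hausdorff spaces are acyclic
-/

set_option autoImplicit false
set_option backward.isDefEq.respectTransparency false
open CategoryTheory Limits Opposite TopologicalSpace TopCat

universe u
namespace Groth.Agent.Helper3.PB7

open PB3 PB4 PB6

variable {Z : TopCat.{u}}

theorem isSoft_of_isFlasque (G : CohTop.Ab Z) [TopCat.Sheaf.IsFlasque G] : IsSoft G := by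
  intro A _ V hAV t
  obtain ⟨t', rfl⟩ := flasque_surjective G (le_top : V ≤ ⊤) t
  exact ⟨t', V, le_rfl, hAV, (res_self _ _).symm ▸ rfl⟩

theorem isSoft_of_injective (I : CohTop.Ab Z) [Injective I] : IsSoft I := by
  haveI := Groth.Agent.S0454.result I
  exact isSoft_of_isFlasque I

variable [CompactSpace Z] [T2Space Z]

/-- soft sheaves on a compact Hausdorff space have no higher cohomology -/
theorem ext_eq_zero_of_isSoft (G : CohTop.Ab Z) (hG : IsSoft G) (n : ℕ)
    (x : Abelian.Ext (CohCx.freeSheaf (Opens.grothendieckTopology Z) ⊤) G (n + 1)) : x = 0 := by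
  refine AcyClass.ext_eq_zero (CohCx.freeSheaf (Opens.grothendieckTopology Z) ⊤) IsSoft ?_ n G hG x
  intro S hS h1 hI
  refine ⟨isSoft_X₃ hS h1 (isSoft_of_injective S.X₂), ?_⟩
  intro ψ
  obtain ⟨s, hs⟩ := exists_lift_top hS h1
    (CohFree.evalGen (Opens.grothendieckTopology Z) ⊤ S.X₃ ψ)
  refine ⟨CohFree.ofSect (Opens.grothendieckTopology Z) ⊤ S.X₂ s, ?_⟩
  apply (CohFree.homEquivSect (Opens.grothendieckTopology Z) ⊤ S.X₃).injective
  rw [CohFree.homEquivSect_apply, CohFree.homEquivSect_apply]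
  refine Eq.trans ?_ hs
  have := CohFree.evalGen_ofSect (Opens.grothendieckTopology Z) ⊤ S.X₂ s
  exact congrArg (S.g.hom.app (op ⊤)).hom this

end Groth.Agent.Helper3.PB7
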