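import Mathlib
import Groth.Prelude.Def_CohTop
import Groth.Prelude.Def_CohPull
import Groth.Prelude.Def_DeltaF
import Groth.Agent.Lib.Helper3.PB7
import Groth.Agent.Lib.Helper3.HPDelta
import Groth.Agent.Lib.Helper3.RPushNat
import Groth.Agent.Lib.Helper3.DeltaIso2
import Groth.Agent.Lib.Helper3.HTerm
import Groth.Agent.Lib.Helper4.DeltaNat1

/-!
# Cohomology of a compact relatively Hausdorff subspace as a colimit over neighbourhoods
-/

set_option autoImplicit false
set_option backward.isDefEq.respectTransparency false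
open CategoryTheory Limits Opposite TopologicalSpace TopCat DeltaF

universe u
namespace Groth.Agent.Helper3.PB8

open PB1 PB3 PB4 PB6

variable {X : TopCat.{u}} (Zs : Set X)

/-- the open neighbourhoods of the subset -/
abbrev PN : ObjectProperty (Opens X)ᵒᵖ := fun U => Zs ⊆ (U.unop : Set X)

/-- their category -/
abbrev UN := (PN Zs).FullSubcategory

instance : IsFiltered (UN Zs) where
  nonempty := ⟨⟨op ⊤, fun _ _ => trivial⟩⟩
  cocone_objs U V := ⟨⟨op (U.obj.unop ⊓ V.obj.unop), fun x hx => ⟨U.property hx, V.property hx⟩⟩,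
    ObjectProperty.homMk (homOfLE inf_le_left).op, ObjectProperty.homMk (homOfLE inf_le_right).op, trivial⟩
  cocone_maps U V f g := ⟨V, 𝟙 _, by
    apply ObjectProperty.hom_ext
    apply Quiver.Hom.unop_inj
    exact Subsingleton.elim _ _⟩

/-- the subspace -/
abbrev ZT : TopCat.{u} := TopCat.of Zs

/-- the inclusion -/
abbrev iZ : ZT Zs ⟶ X := TopCat.ofHom ⟨Subtype.val, continuous_subtype_val⟩

/-- restriction to the neighbourhoods, then the colimit -/
noncomputable abbrev GU : ((Opens X)ᵒᵖ ⥤ AddCommGrpCat.{u}) ⥤ AddCommGrpCat.{u} :=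
  (Functor.whiskeringLeft _ _ _).obj (ObjectProperty.ι (PN Zs)) ⋙ colim

instance : PreservesFiniteLimits (GU Zs) := by
  haveI : PreservesFiniteLimits (colim : (UN Zs ⥤ AddCommGrpCat.{u}) ⥤ AddCommGrpCat.{u}) :=
    inferInstance
  exact comp_preservesFiniteLimits _ _

instance : PreservesFiniteColimits (GU Zs) := by
  exact comp_preservesFiniteColimits _ _

instance : (GU Zs).Additive := inferInstance

/-- the δ-functor `F ↦ colim_{U ⊇ Z} H^•(U, F)` -/
noncomputable def T : CohDeltaFunctor (CohTop.Ab X) AddCommGrpCat.{u} ℕ :=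
  HPDelta.compExact (HPDelta.hpDelta (Opens.grothendieckTopology X)) (GU Zs)

/-- evaluation at the whole space -/
noncomputable abbrev evTop : ((Opens (ZT Zs))ᵒᵖ ⥤ AddCommGrpCat.{u}) ⥤ AddCommGrpCat.{u} :=
  (evaluation _ _).obj (op ⊤)

/-- the δ-functor `F ↦ H^•(Z, F|_Z)` -/
noncomputable def T' : CohDeltaFunctor (CohTop.Ab X) AddCommGrpCat.{u} ℕ :=
  haveI := CohPull.additive_pull (iZ Zs)
  haveI := CohPull.preservesFiniteLimits_pull (iZ Zs)
  haveI := CohPull.preservesFiniteColimits_pull (iZ Zs)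
  HPDelta.compExact (Groth.Agent.Lib.Helper4.DeltaNat1.precomp (CohTop.pull (iZ Zs))
    (HPDelta.hpDelta (Opens.grothendieckTopology (ZT Zs)))) (evTop Zs)

lemma T_eff : (T Zs).IsEffaceable := by
  intro n F
  refine ⟨Injective.under F, Injective.ι F, inferInstance, ?_⟩
  exact ((GU Zs).map_isZero (RPushNat.isZero_hpF_injective (Opens.grothendieckTopology X)
    (Injective.under F) n)).eq_of_tgt _ _

section eff

variable (hZ : IsCompact Zs) (hsep : ∀ x ∈ Zs, ∀ y ∈ Zs, x ≠ y → Sep x y)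

include hZ in
lemma compactSpace_ZT : CompactSpace (ZT Zs) := isCompact_iff_compactSpace.1 hZ

include hsep in
lemma t2Space_ZT : T2Space (ZT Zs) := by
  refine ⟨fun a b hab => ?_⟩
  obtain ⟨U, V, hU, hV, ha, hb, hd⟩ := hsep a.1 a.2 b.1 b.2 (fun h => hab (Subtype.ext h))
  exact ⟨Subtype.val ⁻¹' U, Subtype.val ⁻¹' V, hU.preimage continuous_subtype_val,
    hV.preimage continuous_subtype_val, ha, hb, hd.preimage _⟩

include hZ hsep in
lemma isSoft_pull_injective (I : CohTop.Ab X) [Injective I] :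
    IsSoft ((CohTop.pull (iZ Zs)).obj I) := by
  haveI := compactSpace_ZT Zs hZ
  haveI := Groth.Agent.S0454.result I
  exact isSoft_of_locIso (PB5.locIso_unit (iZ Zs) I) Subtype.val_injective
    (fun a b hab => hsep a.1 a.2 b.1 b.2 (fun h => hab (Subtype.ext h)))

include hZ hsep in
lemma T'_eff : (T' Zs).IsEffaceable := by
  intro n F
  refine ⟨Injective.under F, Injective.ι F, inferInstance, ?_⟩
  apply IsZero.eq_of_tgt
  haveI := compactSpace_ZT Zs hZ
  haveI := t2Space_ZT Zs hsep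
  have hsoft := isSoft_pull_injective Zs hZ hsep (Injective.under F)
  have : Subsingleton (Abelian.Ext (CohCx.freeSheaf (Opens.grothendieckTopology (ZT Zs)) ⊤)
      ((CohTop.pull (iZ Zs)).obj (Injective.under F)) (n + 1)) :=
    ⟨fun a b => (PB7.ext_eq_zero_of_isSoft _ hsoft n a).trans
      (PB7.ext_eq_zero_of_isSoft _ hsoft n b).symm⟩
  exact @AddCommGrpCat.isZero_of_subsingleton _ this

end eff

section t0

/-- the whole subspace lies in the preimage of a neighbourhood -/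
lemma top_le (U : UN Zs) : (⊤ : Opens (ZT Zs)) ≤ (Opens.map (iZ Zs)).obj U.obj.unop :=
  fun z _ => U.property z.2

variable (F : CohTop.Ab X)

/-- restriction of a section on a neighbourhood to the subspace -/
noncomputable def leg (U : UN Zs) : F.obj.obj U.obj ⟶ (PB2.G (iZ Zs) F).obj.obj (op ⊤) :=
  PB2.ηU (iZ Zs) F U.obj.unop ≫ (PB2.G (iZ Zs) F).obj.map (homOfLE (top_le Zs U)).op

lemma leg_apply (U : UN Zs) (s : F.obj.obj U.obj) :
    (leg Zs F U).hom s = res (PB2.G (iZ Zs) F) (top_le Zs U) (θU (iZ Zs) (PB2.η (iZ Zs) F) U.obj.unop s) :=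
  rfl

lemma leg_w {U V : UN Zs} (f : U ⟶ V) (s : F.obj.obj U.obj) :
    (leg Zs F V).hom (F.obj.map f.hom s) = (leg Zs F U).hom s := by
  rw [leg_apply, leg_apply]
  have h : V.obj.unop ≤ U.obj.unop := f.hom.unop.le
  have e : F.obj.map f.hom s = res F h s := rfl
  rw [e, θU_res, res_res]

/-- the cocone -/
noncomputable def cocone : Cocone (ObjectProperty.ι (PN Zs) ⋙ F.obj) where
  pt := (PB2.G (iZ Zs) F).obj.obj (op ⊤)
  ι :=
    { app := fun U => leg Zs F U
      naturality := fun U V f => by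
        ext s
        exact leg_w Zs F f s }

/-- the comparison map -/
noncomputable def cmp : colimit (ObjectProperty.ι (PN Zs) ⋙ F.obj) ⟶ (PB2.G (iZ Zs) F).obj.obj (op ⊤) :=
  colimit.desc _ (cocone Zs F)

lemma ι_cmp (U : UN Zs) : colimit.ι (ObjectProperty.ι (PN Zs) ⋙ F.obj) U ≫ cmp Zs F = leg Zs F U :=
  colimit.ι_desc _ _

lemma ι_cmp_apply (U : UN Zs) (s : F.obj.obj U.obj) :
    (cmp Zs F).hom ((colimit.ι (ObjectProperty.ι (PN Zs) ⋙ F.obj) U).hom s) = (leg Zs F U).hom s :=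
  congrArg (fun f => f.hom s) (ι_cmp Zs F U)

variable (hZ : IsCompact Zs) (hsep : ∀ x ∈ Zs, ∀ y ∈ Zs, x ≠ y → Sep x y)

include hZ hsep in
lemma cmp_surjective : Function.Surjective (cmp Zs F).hom := by
  intro t
  haveI := compactSpace_ZT Zs hZ
  obtain ⟨U, s, W, hWV, hWU, hW, e⟩ := (PB5.locIso_unit (iZ Zs) F).exists_extension
    Subtype.val_injective isCompact_univ
    (fun a _ b _ hab => hsep a.1 a.2 b.1 b.2 (fun h => hab (Subtype.ext h))) ⊤ (fun _ _ => trivial) t
  have hU : Zs ⊆ (U : Set X) := fun z hz => hWU (hW (Set.mem_univ (⟨z, hz⟩ : Zs)))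
  refine ⟨(colimit.ι (ObjectProperty.ι (PN Zs) ⋙ F.obj) ⟨op U, hU⟩).hom s, ?_⟩
  rw [ι_cmp_apply, leg_apply]
  have hTW : (⊤ : Opens (ZT Zs)) ≤ W := fun a _ => hW (Set.mem_univ a)
  have := congrArg (res (PB2.G (iZ Zs) F) hTW) e
  rw [res_res, res_res, res_self] at this
  exact this

lemma cmp_injective : Function.Injective (cmp Zs F).hom := by
  rw [injective_iff_map_eq_zero]
  intro x hx
  obtain ⟨U, s, rfl⟩ := Concrete.colimit_exists_rep (ObjectProperty.ι (PN Zs) ⋙ F.obj) x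
  have hx' : (cmp Zs F).hom ((colimit.ι (ObjectProperty.ι (PN Zs) ⋙ F.obj) U).hom s) = 0 := hx
  rw [ι_cmp_apply, leg_apply] at hx'
  obtain ⟨U', hU'U, hU', h0⟩ := (PB5.locIso_unit (iZ Zs) F).exists_res_eq_zero Set.univ U.obj.unop s ⊤
    (fun _ _ => trivial) (top_le Zs U) hx'
  let V : UN Zs := ⟨op U', fun z hz => hU' ⟨z, hz⟩ (Set.mem_univ _)⟩
  let f : U ⟶ V := ObjectProperty.homMk (homOfLE hU'U).op
  have hw := congrArg (fun g => g.hom s) (colimit.w (ObjectProperty.ι (PN Zs) ⋙ F.obj) f)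
  change (colimit.ι (ObjectProperty.ι (PN Zs) ⋙ F.obj) V).hom (res F hU'U s) = _ at hw
  rw [h0, map_zero] at hw
  exact hw.symm

include hZ hsep in
lemma isIso_cmp : IsIso (cmp Zs F) :=
  (ConcreteCategory.isIso_iff_bijective _).2 ⟨cmp_injective Zs F, cmp_surjective Zs F hZ hsep⟩

lemma cmp_natural {F F' : CohTop.Ab X} (φ : F ⟶ F') :
    (GU Zs).map ((sheafToPresheaf _ _).map φ) ≫ cmp Zs F' =
      cmp Zs F ≫ ((CohTop.pull (iZ Zs)).map φ).hom.app (op ⊤) := by
  apply colimit.hom_ext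
  intro U
  change colimit.ι (ObjectProperty.ι (PN Zs) ⋙ F.obj) U ≫
    colimMap (Functor.whiskerLeft (ObjectProperty.ι (PN Zs)) φ.hom) ≫ cmp Zs F' =
    colimit.ι (ObjectProperty.ι (PN Zs) ⋙ F.obj) U ≫ cmp Zs F ≫
      ((CohTop.pull (iZ Zs)).map φ).hom.app (op ⊤)
  rw [ι_colimMap_assoc, ι_cmp, ← Category.assoc, ι_cmp]
  have h1 := congrArg (fun m => m.hom.app U.obj) ((PB2.adj (iZ Zs)).unit.naturality φ)
  have h1' : φ.hom.app U.obj ≫ PB2.ηU (iZ Zs) F' U.obj.unop =
      PB2.ηU (iZ Zs) F U.obj.unop ≫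
        ((CohTop.pull (iZ Zs)).map φ).hom.app (op ((Opens.map (iZ Zs)).obj U.obj.unop)) := h1
  change φ.hom.app U.obj ≫ leg Zs F' U = _
  unfold leg
  rw [← Category.assoc, h1', Category.assoc, Category.assoc]
  congr 1
  exact (((CohTop.pull (iZ Zs)).map φ).hom.naturality (homOfLE (top_le Zs U)).op).symm

end t0

section main

variable (hZ : IsCompact Zs) (hsep : ∀ x ∈ Zs, ∀ y ∈ Zs, x ≠ y → Sep x y)

/-- the comparison, as a natural isomorphism -/
noncomputable def cmpIso : sheafToPresheaf (Opens.grothendieckTopology X) AddCommGrpCat.{u} ⋙ GU Zs ≅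
    CohTop.pull (iZ Zs) ⋙ sheafToPresheaf (Opens.grothendieckTopology (ZT Zs)) AddCommGrpCat.{u} ⋙
      evTop Zs :=
  NatIso.ofComponents (fun F =>
    haveI := isIso_cmp Zs F hZ hsep
    asIso (cmp Zs F)) (fun {F F'} φ => cmp_natural Zs φ)

/-- the comparison in degree zero -/
noncomputable def t0 : (T Zs).F 0 ≅ (T' Zs).F 0 :=
  Functor.isoWhiskerRight (RPushNat.h0Nat (Opens.grothendieckTopology X)) (GU Zs) ≪≫
    cmpIso Zs hZ hsep ≪≫
    Functor.isoWhiskerLeft (CohTop.pull (iZ Zs))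
      (Functor.isoWhiskerRight (RPushNat.h0Nat (Opens.grothendieckTopology (ZT Zs))).symm (evTop Zs)) ≪≫
    (Functor.associator _ _ _).symm

include hZ hsep in
/-- the cohomology of a compact relatively Hausdorff subspace is the colimit of the cohomology of its
open neighbourhoods -/
theorem nonempty_addEquiv (F : CohTop.Ab X) (p : ℕ) :
    Nonempty ((colimit (ObjectProperty.ι (PN Zs) ⋙
        (Sheaf.cohomologyPresheafFunctor (Opens.grothendieckTopology X) p).obj F) : AddCommGrpCat.{u}) ≃+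
      CohTop.H ((CohTop.pull (iZ Zs)).obj F) p) := by
  let e := (DeltaIso2.isoOfZero (T Zs) (T' Zs) (T_eff Zs) (T'_eff Zs hZ hsep) (t0 Zs hZ hsep) p).app F
  exact ⟨e.addCommGroupIsoToAddEquiv.trans
    (HTerm.HEquiv (Opens.grothendieckTopology (ZT Zs)) isTerminalTop _ p).symm⟩

end main

end Groth.Agent.Helper3.PB8
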