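import Mathlib

/-!
# Spectral spaces: intersections of quasi-compact opens (patch compactness)
-/

set_option autoImplicit false
open TopologicalSpace Topology Set

universe u
namespace Groth.Agent.Helper3.SpT1

variable {X : Type u} [TopologicalSpace X] [CompactSpace X] [QuasiSober X] [PrespectralSpace X]
  [QuasiSeparatedSpace X]

/-- compactness in the constructible topology -/
lemma compactSpace_constructible : @CompactSpace X (constructibleTopology X) := by
  have h : CompactSpace (WithConstructibleTopology X) := inferInstance
  exact @Function.Surjective.compactSpace _ _ _ (constructibleTopology X) _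
    (WithTopology.continuous_ofTopology _) h (WithTopology.ofTopology_surjective _)

omit [CompactSpace X] [QuasiSober X] [QuasiSeparatedSpace X] [PrespectralSpace X] in
lemma isClosed_cons_of_isOpen {s : Set X} (hs : IsOpen s) (hc : IsCompact s) :
    @IsClosed X (constructibleTopology X) s := by
  rw [← @isOpen_compl_iff X s (constructibleTopology X)]
  exact IsCompact.isOpen_constructibleTopology_of_isClosed (by rwa [compl_compl]) hs.isClosed_compl

omit [CompactSpace X] [QuasiSober X] [QuasiSeparatedSpace X] in
lemma isClosed_cons_compl {O : Set X} (hO : IsOpen O) :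
    @IsClosed X (constructibleTopology X) Oᶜ := by
  rw [@isClosed_compl_iff X (constructibleTopology X)]
  have hb := PrespectralSpace.isTopologicalBasis (X := X)
  rw [hb.open_eq_sUnion' hO]
  apply @isOpen_sUnion X (constructibleTopology X)
  rintro s ⟨hs, -⟩
  exact IsCompact.isOpen_constructibleTopology_of_isOpen hs.2 hs.1

/-- **patch principle**: if the intersection of a directed family of quasi-compact opens meets a
quasi-compact open `D` inside an open `O`, then so does a member of the family -/
theorem exists_inter_subset {ι : Type u} [Nonempty ι] (U : ι → Set X) (hUo : ∀ i, IsOpen (U i))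
    (hUc : ∀ i, IsCompact (U i)) (hdir : Directed (· ⊇ ·) U) {D O : Set X} (hDo : IsOpen D)
    (hDc : IsCompact D) (hO : IsOpen O) (h : (⋂ i, U i) ∩ D ⊆ O) : ∃ i, U i ∩ D ⊆ O := by
  have hcl : ∀ i, @IsClosed X (constructibleTopology X) (U i ∩ (D ∩ Oᶜ)) := fun i =>
    @IsClosed.inter X _ _ (constructibleTopology X) (isClosed_cons_of_isOpen (hUo i) (hUc i))
      (@IsClosed.inter X _ _ (constructibleTopology X) (isClosed_cons_of_isOpen hDo hDc)
        (isClosed_cons_compl hO))
  obtain ⟨i, hi⟩ := @IsCompact.elim_directed_family_closed X (constructibleTopology X) univ ι _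
    (@isCompact_univ X (constructibleTopology X) compactSpace_constructible)
    (fun i => U i ∩ (D ∩ Oᶜ)) hcl (by
      rw [univ_inter, ← iInter_inter]
      apply eq_empty_of_forall_notMem
      rintro x ⟨hx, hxD, hxO⟩
      exact hxO (h ⟨hx, hxD⟩)) (by
      intro i j
      obtain ⟨k, hki, hkj⟩ := hdir i j
      exact ⟨k, inter_subset_inter_left _ hki, inter_subset_inter_left _ hkj⟩)
  refine ⟨i, ?_⟩
  rintro x ⟨hxU, hxD⟩
  by_contra hxO
  have : x ∈ univ ∩ (U i ∩ (D ∩ Oᶜ)) := ⟨mem_univ _, hxU, hxD, hxO⟩
  rw [hi] at this
  exact this

end Groth.Agent.Helper3.SpT1
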