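import Mathlib
import Groth.Prelude.Def_CohTop
import Groth.Agent.Lib.Helper3.SpT1
import Groth.Agent.Lib.Helper3.PB8

/-!
# Pro-constructible generalization-closed subsets of spectral spaces: extension of sections
-/

set_option autoImplicit false
set_option backward.isDefEq.respectTransparency false
open CategoryTheory Limits Opposite TopologicalSpace TopCat

universe u
namespace Groth.Agent.Helper3.SpT2

open PB1 PB3 PB4 PB8

variable {X : TopCat.{u}} (Zs : Set X) (P : ObjectProperty (Opens X)ᵒᵖ)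

/-- a directed system of quasi-compact open neighbourhoods of `Zs` with intersection `Zs` -/
structure Nbhd : Prop where
  sub : ∀ U, P U → Zs ⊆ (U.unop : Set X)
  ne : ∃ U, P U
  inf : ∀ U V, P U → P V → P (op (U.unop ⊓ V.unop))
  cpt : ∀ U, P U → IsCompact (U.unop : Set X)
  sep : ∀ x, x ∉ Zs → ∃ U, P U ∧ x ∉ (U.unop : Set X)

variable {Zs P}

/-- the preimage in the subspace of an open of `X` -/
abbrev pD (D : Opens X) : Opens (ZT Zs) := (Opens.map (iZ Zs)).obj D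

lemma pD_le (h : Nbhd Zs P) {U : Opens X} (hU : P (op U)) (D : Opens X) :
    pD (Zs := Zs) D ≤ pD (U ⊓ D) :=
  fun z hz => ⟨h.sub _ hU z.2, hz⟩

variable [SpectralSpace X]

/-- the patch principle for a neighbourhood system -/
theorem Nbhd.exists_inf_le (h : Nbhd Zs P) (D : Opens X) (hD : IsCompact (D : Set X)) (O : Opens X)
    (hZ : Zs ∩ (D : Set X) ⊆ (O : Set X)) : ∃ U : Opens X, P (op U) ∧ U ⊓ D ≤ O := by
  haveI : Nonempty {U : (Opens X)ᵒᵖ // P U} := ⟨⟨h.ne.choose, h.ne.choose_spec⟩⟩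
  obtain ⟨U, hU⟩ := SpT1.exists_inter_subset (X := X)
    (fun U : {U : (Opens X)ᵒᵖ // P U} => (U.1.unop : Set X)) (fun U => U.1.unop.isOpen)
    (fun U => h.cpt _ U.2) (by
      intro U V
      exact ⟨⟨op (U.1.unop ⊓ V.1.unop), h.inf _ _ U.2 V.2⟩, Set.inter_subset_left,
        Set.inter_subset_right⟩) D.isOpen hD O.isOpen (by
      rintro x ⟨hx, hxD⟩
      refine hZ ⟨?_, hxD⟩
      by_contra hxZ
      obtain ⟨U, hU, hxU⟩ := h.sep x hxZ
      exact hxU (Set.mem_iInter.1 hx ⟨U, hU⟩))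
  exact ⟨U.1.unop, U.2, fun x hx => hU hx⟩

/-- the trace on `Zs` of a quasi-compact open is quasi-compact -/
theorem Nbhd.isCompact_inter (h : Nbhd Zs P) (D : Opens X) (hD : IsCompact (D : Set X)) :
    IsCompact (Zs ∩ (D : Set X)) := by
  apply isCompact_of_finite_subcover
  intro ι O hO hcov
  obtain ⟨U, hU, hUD⟩ := h.exists_inf_le D hD ⟨⋃ i, O i, isOpen_iUnion hO⟩ hcov
  have hc : IsCompact ((U : Set X) ∩ (D : Set X)) :=
    (h.cpt _ hU).inter_of_isOpen hD U.isOpen D.isOpen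
  obtain ⟨t, ht⟩ := hc.elim_finite_subcover O hO (fun x hx => hUD hx)
  exact ⟨t, fun x hx => ht ⟨h.sub _ hU hx.1, hx.2⟩⟩

theorem Nbhd.isCompact_pD (h : Nbhd Zs P) (D : Opens X) (hD : IsCompact (D : Set X)) :
    IsCompact ((pD (Zs := Zs) D : Opens (ZT Zs)) : Set (ZT Zs)) := by
  rw [Topology.IsInducing.subtypeVal.isCompact_iff]
  convert h.isCompact_inter D hD using 1
  ext x
  constructor
  · rintro ⟨z, hz, rfl⟩
    exact ⟨z.2, hz⟩
  · rintro ⟨hxZ, hxD⟩
    exact ⟨⟨x, hxZ⟩, hxD, rfl⟩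


section ext

variable {F : CohTop.Ab X} {G : CohTop.Ab (ZT Zs)} {θ : F ⟶ (CohTop.push (iZ Zs)).obj G}

/-- local data: around every point of the trace of `D`, the section comes from a quasi-compact open -/
lemma exists_local (hθ : LocIso (iZ Zs) θ) (D : Opens X) (t : G.obj.obj (op (pD D)))
    (z : ZT Zs) (hz : z ∈ pD (Zs := Zs) D) :
    ∃ (D' : Opens X) (_ : IsCompact (D' : Set X)) (hD' : D' ≤ D) (_ : z.1 ∈ D')
      (s : F.obj.obj (op D')), θU (iZ Zs) θ D' s = res G (pre_mono (iZ Zs) hD') t := by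
  obtain ⟨U₀, hU₀, s₀, W, hW, hWV, hWU, e⟩ := hθ.surj z (pD D) hz t
  obtain ⟨W', hW'o, hW'⟩ := isOpen_induced_iff.1 W.isOpen
  have hzW' : z.1 ∈ W' := by
    have : z ∈ Subtype.val ⁻¹' W' := by rw [hW']; exact hW
    exact this
  obtain ⟨V, hV, hzV, hVsub⟩ := (PrespectralSpace.isTopologicalBasis (X := X)).exists_subset_of_mem_open
    (show z.1 ∈ (U₀ : Set X) ∩ W' ∩ (D : Set X) from ⟨⟨hU₀, hzW'⟩, hz⟩)
    ((U₀.isOpen.inter hW'o).inter D.isOpen)
  let D' : Opens X := ⟨V, hV.1⟩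
  have hD'U : D' ≤ U₀ := fun x hx => (hVsub hx).1.1
  have hD'D : D' ≤ D := fun x hx => (hVsub hx).2
  have hD'W : pD (Zs := Zs) D' ≤ W := by
    intro a ha
    have : a ∈ Subtype.val ⁻¹' W' := (hVsub ha).1.2
    rw [hW'] at this
    exact this
  refine ⟨D', hV.2, hD'D, hzV, res F hD'U s₀, ?_⟩
  rw [θU_res]
  have h1 := congrArg (res G hD'W) e
  rw [res_res, res_res] at h1
  exact h1

/-- **extension theorem**: a section of `G` over the trace of a quasi-compact open `D` comes from a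
section of `F` over `U ⊓ D` for some member `U` of the neighbourhood system -/
theorem exists_extension (h : Nbhd Zs P) (hθ : LocIso (iZ Zs) θ) (D : Opens X)
    (hD : IsCompact (D : Set X)) (t : G.obj.obj (op (pD D))) :
    ∃ (U : Opens X) (hU : P (op U)) (s : F.obj.obj (op (U ⊓ D))),
      res G (pD_le h hU D) (θU (iZ Zs) θ (U ⊓ D) s) = t := by
  let Q : Set (ZT Zs) → Prop := fun K => ∃ (D' : Opens X) (_ : IsCompact (D' : Set X)) (hD' : D' ≤ D)
    (U : Opens X) (hU : P (op U)) (s : F.obj.obj (op (U ⊓ D'))), K ⊆ (pD (Zs := Zs) D' : Set (ZT Zs)) ∧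
      res G (pD_le h hU D') (θU (iZ Zs) θ (U ⊓ D') s) = res G (pre_mono (iZ Zs) hD') t
  obtain ⟨U₀, hU₀⟩ := h.ne
  have hQ : Q (pD (Zs := Zs) D : Set (ZT Zs)) := by
    refine (h.isCompact_pD D hD).induction_on (p := Q) ?_ ?_ ?_ ?_
    · refine ⟨⊥, by simp, bot_le, U₀.unop, hU₀, 0, Set.empty_subset _, ?_⟩
      apply eq_of_locally_eq
      intro x hx
      exact hx.elim
    · rintro B B' hBB' ⟨D', hD'c, hD', U, hU, s, hB', e⟩
      exact ⟨D', hD'c, hD', U, hU, s, hBB'.trans hB', e⟩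
    · rintro B₁ B₂ ⟨D₁, hD₁c, hD₁, U₁, hU₁, s₁, hB₁, e₁⟩ ⟨D₂, hD₂c, hD₂, U₂, hU₂, s₂, hB₂, e₂⟩
      -- the difference vanishes near the trace of `D₁ ⊓ D₂`
      let E : Opens X := (U₁ ⊓ D₁) ⊓ (U₂ ⊓ D₂)
      let d : F.obj.obj (op E) := res F inf_le_left s₁ - res F inf_le_right s₂
      have hDE : pD (Zs := Zs) (D₁ ⊓ D₂) ≤ pD E := fun z hz =>
        ⟨⟨h.sub _ hU₁ z.2, hz.1⟩, ⟨h.sub _ hU₂ z.2, hz.2⟩⟩
      have hd0 : res G hDE (θU (iZ Zs) θ E d) = 0 := by
        change res G hDE (θU (iZ Zs) θ E (res F inf_le_left s₁ - res F inf_le_right s₂)) = 0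
        rw [θU_sub, res_sub, θU_res, θU_res, res_res, res_res, sub_eq_zero]
        have a₁ := congrArg (res G (pre_mono (iZ Zs) (inf_le_left : D₁ ⊓ D₂ ≤ D₁))) e₁
        have a₂ := congrArg (res G (pre_mono (iZ Zs) (inf_le_right : D₁ ⊓ D₂ ≤ D₂))) e₂
        rw [res_res, res_res] at a₁ a₂
        exact a₁.trans a₂.symm
      obtain ⟨T, hT, hCT, hT0⟩ := hθ.exists_res_eq_zero (pD (Zs := Zs) (D₁ ⊓ D₂) : Set (ZT Zs)) E d
        (pD (D₁ ⊓ D₂)) subset_rfl hDE hd0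
      have hT0' : res F (hT.trans inf_le_left) s₁ = res F (hT.trans inf_le_right) s₂ := by
        change res F hT (res F inf_le_left s₁ - res F inf_le_right s₂) = 0 at hT0
        rw [res_sub, res_res, res_res, sub_eq_zero] at hT0
        exact hT0
      obtain ⟨U₃, hU₃, hU₃T⟩ := h.exists_inf_le (D₁ ⊓ D₂)
        (hD₁c.inter_of_isOpen hD₂c D₁.isOpen D₂.isOpen) T (by
          rintro x ⟨hxZ, hxD⟩
          exact hCT ⟨x, hxZ⟩ hxD)
      let U : Opens X := (U₁ ⊓ U₂) ⊓ U₃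
      have hU : P (op U) := h.inf _ _ (h.inf _ _ hU₁ hU₂) hU₃
      have hUD₁ : U ⊓ D₁ ≤ U₁ ⊓ D₁ := inf_le_inf_right _ (inf_le_left.trans inf_le_left)
      have hUD₂ : U ⊓ D₂ ≤ U₂ ⊓ D₂ := inf_le_inf_right _ (inf_le_left.trans inf_le_right)
      have hIT : (U ⊓ D₁) ⊓ (U ⊓ D₂) ≤ T := by
        rintro x ⟨⟨hxU, hx₁⟩, ⟨-, hx₂⟩⟩
        exact hU₃T ⟨hxU.2, hx₁, hx₂⟩
      have hagree : res F (inf_le_left : (U ⊓ D₁) ⊓ (U ⊓ D₂) ≤ U ⊓ D₁) (res F hUD₁ s₁) =
          res F (inf_le_right : (U ⊓ D₁) ⊓ (U ⊓ D₂) ≤ U ⊓ D₂) (res F hUD₂ s₂) := by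
        rw [res_res, res_res]
        have := congrArg (res F hIT) hT0'
        rw [res_res, res_res] at this
        exact this
      obtain ⟨s', hs'₁, hs'₂⟩ := glue2 F _ _ hagree
      have hsup : U ⊓ (D₁ ⊔ D₂) ≤ (U ⊓ D₁) ⊔ (U ⊓ D₂) := le_of_eq (inf_sup_left _ _ _)
      refine ⟨D₁ ⊔ D₂, hD₁c.union hD₂c, sup_le hD₁ hD₂, U, hU, res F hsup s', ?_, ?_⟩
      · rintro x (hx | hx)
        · exact Or.inl (hB₁ hx)
        · exact Or.inr (hB₂ hx)
      · apply eq_of_locally_eq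
        rintro x (hx | hx)
        · refine ⟨pD D₁, hx, pre_mono (iZ Zs) le_sup_left, ?_⟩
          rw [res_res, res_res]
          have hle : U ⊓ D₁ ≤ U ⊓ (D₁ ⊔ D₂) := inf_le_inf_left _ le_sup_left
          have e3 : res F hle (res F hsup s') = res F hUD₁ s₁ := by
            rw [res_res]
            exact hs'₁
          have e4 := congrArg (θU (iZ Zs) θ (U ⊓ D₁)) e3
          rw [θU_res (iZ Zs) θ hle, θU_res (iZ Zs) θ hUD₁] at e4
          have e5 := congrArg (res G (pD_le h hU D₁)) e4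
          rw [res_res, res_res] at e5
          refine e5.trans ?_
          exact e₁
        · refine ⟨pD D₂, hx, pre_mono (iZ Zs) le_sup_right, ?_⟩
          rw [res_res, res_res]
          have hle : U ⊓ D₂ ≤ U ⊓ (D₁ ⊔ D₂) := inf_le_inf_left _ le_sup_right
          have e3 : res F hle (res F hsup s') = res F hUD₂ s₂ := by
            rw [res_res]
            exact hs'₂
          have e4 := congrArg (θU (iZ Zs) θ (U ⊓ D₂)) e3
          rw [θU_res (iZ Zs) θ hle, θU_res (iZ Zs) θ hUD₂] at e4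
          have e5 := congrArg (res G (pD_le h hU D₂)) e4
          rw [res_res, res_res] at e5
          refine e5.trans ?_
          exact e₂
    · intro z hz
      obtain ⟨D', hD'c, hD', hzD', s, e⟩ := exists_local hθ D t z hz
      refine ⟨(pD (Zs := Zs) D' : Set (ZT Zs)),
        mem_nhdsWithin_of_mem_nhds ((pD (Zs := Zs) D').isOpen.mem_nhds hzD'), D', hD'c, hD', U₀.unop, hU₀,
        res F (inf_le_right : U₀.unop ⊓ D' ≤ D') s, subset_rfl, ?_⟩
      rw [θU_res, res_res]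
      rw [← e]
      exact res_self G _
  obtain ⟨D', hD'c, hD', U, hU, s, hsub, e⟩ := hQ
  obtain ⟨U', hU', hU'D⟩ := h.exists_inf_le D hD D' (by
    rintro x ⟨hxZ, hxD⟩
    exact hsub (show (⟨x, hxZ⟩ : ZT Zs) ∈ pD (Zs := Zs) D from hxD))
  have hU'' : P (op (U ⊓ U')) := h.inf _ _ hU hU'
  have hle : (U ⊓ U') ⊓ D ≤ U ⊓ D' := fun x hx => ⟨hx.1.1, hU'D ⟨hx.1.2, hx.2⟩⟩
  refine ⟨U ⊓ U', hU'', res F hle s, ?_⟩
  rw [θU_res, res_res]
  have hDD' : pD (Zs := Zs) D ≤ pD D' := fun z hz => hsub hz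
  have e2 := congrArg (res G hDD') e
  rw [res_res, res_res] at e2
  refine e2.trans ?_
  exact res_self G _

end ext

end Groth.Agent.Helper3.SpT2
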