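import Mathlib
import Groth.Prelude.Def_CohTop
import Groth.Prelude.Def_FreeSh
import Groth.Agent.Lib.Helper3.PB6
import Groth.Agent.Lib.Helper3.PB7
import Groth.Agent.Lib.Helper3.AcyClass
import Groth.Agent.S0454

/-!
# Sheaves whose sections over the members of a good basis extend are acyclic
-/

set_option autoImplicit false
set_option backward.isDefEq.respectTransparency false
open CategoryTheory Limits Opposite TopologicalSpace TopCat

universe u
namespace Groth.Agent.Helper3.SpT3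

open PB3 PB4 PB6

variable {Z : TopCat.{u}}

/-- a basis of quasi-compact opens stable under finite intersections and unions -/
structure GoodBasis (B : Set (Opens Z)) : Prop where
  bot : ⊥ ∈ B
  top : ⊤ ∈ B
  inf : ∀ U V, U ∈ B → V ∈ B → U ⊓ V ∈ B
  sup : ∀ U V, U ∈ B → V ∈ B → U ⊔ V ∈ B
  cpt : ∀ U ∈ B, IsCompact (U : Set Z)
  basis : ∀ (z : Z) (W : Opens Z), z ∈ W → ∃ V ∈ B, z ∈ V ∧ V ≤ W

/-- sections over the members of the basis extend to global sections -/
def IsBFlasque (B : Set (Opens Z)) (G : CohTop.Ab Z) : Prop :=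
  ∀ V ∈ B, Function.Surjective (res G (le_top : V ≤ ⊤))

variable {B : Set (Opens Z)} {S : ShortComplex (CohTop.Ab Z)}

lemma g_res' {U V : Opens Z} (h : V ≤ U) (s : S.X₂.obj.obj (op U)) :
    (S.g.hom.app (op V)).hom (res S.X₂ h s) = res S.X₃ h ((S.g.hom.app (op U)).hom s) := by
  have := congrArg (fun f => f.hom s) (S.g.hom.naturality (homOfLE h).op)
  exact this

lemma f_res' {U V : Opens Z} (h : V ≤ U) (s : S.X₁.obj.obj (op U)) :
    (S.f.hom.app (op V)).hom (res S.X₁ h s) = res S.X₂ h ((S.f.hom.app (op U)).hom s) := by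
  have := congrArg (fun f => f.hom s) (S.f.hom.naturality (homOfLE h).op)
  exact this

/-- local lifting -/
lemma exists_local_lift' (hS : S.ShortExact) {V : Opens Z} (t : S.X₃.obj.obj (op V)) (a : Z)
    (ha : a ∈ V) : ∃ (W : Opens Z) (_ : a ∈ W) (hWV : W ≤ V) (s : S.X₂.obj.obj (op W)),
      (S.g.hom.app (op W)).hom s = res S.X₃ hWV t := by
  have h := ShSec.imageSieve_mem hS t
  obtain ⟨W, f, hf, haW⟩ := h a ha
  obtain ⟨s, hs⟩ := hf
  exact ⟨W, haW, f.le, s, hs⟩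

/-- sections of the quotient over members of the basis lift, when the kernel is `B`-flasque -/
theorem exists_lift (hB : GoodBasis B) (hS : S.ShortExact) (h1 : IsBFlasque B S.X₁)
    (V : Opens Z) (hV : V ∈ B) (t : S.X₃.obj.obj (op V)) :
    ∃ s : S.X₂.obj.obj (op V), (S.g.hom.app (op V)).hom s = t := by
  let Q : Set Z → Prop := fun K => ∃ (V' : Opens Z) (_ : V' ∈ B) (hV' : V' ≤ V)
    (s : S.X₂.obj.obj (op V')), K ⊆ (V' : Set Z) ∧ (S.g.hom.app (op V')).hom s = res S.X₃ hV' t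
  have hQ : Q (V : Set Z) := by
    refine (hB.cpt V hV).induction_on (p := Q) ?_ ?_ ?_ ?_
    · refine ⟨⊥, hB.bot, bot_le, 0, Set.empty_subset _, ?_⟩
      apply eq_of_locally_eq
      intro x hx
      exact hx.elim
    · rintro K K' hKK' ⟨V', hV'B, hV', s, hK', e⟩
      exact ⟨V', hV'B, hV', s, hKK'.trans hK', e⟩
    · rintro K₁ K₂ ⟨V₁, hV₁B, hV₁, s₁, hK₁, e₁⟩ ⟨V₂, hV₂B, hV₂, s₂, hK₂, e₂⟩
      have hd : (S.g.hom.app (op (V₁ ⊓ V₂))).hom
          (res S.X₂ inf_le_left s₁ - res S.X₂ inf_le_right s₂) = 0 := by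
        rw [map_sub, g_res', g_res', e₁, e₂, res_res, res_res, sub_self]
      obtain ⟨r, hr⟩ := ShSec.exact_sections hS (V₁ ⊓ V₂) _ hd
      obtain ⟨r', rfl⟩ := h1 (V₁ ⊓ V₂) (hB.inf _ _ hV₁B hV₂B) r
      let s₂' : S.X₂.obj.obj (op V₂) := s₂ + (S.f.hom.app (op V₂)).hom (res S.X₁ le_top r')
      have e₂' : (S.g.hom.app (op V₂)).hom s₂' = res S.X₃ hV₂ t := by
        change (S.g.hom.app (op V₂)).hom (s₂ + _) = _
        rw [map_add, ShSec.zero_apply, add_zero, e₂]
      have hagree : res S.X₂ (inf_le_left : V₁ ⊓ V₂ ≤ V₁) s₁ =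
          res S.X₂ (inf_le_right : V₁ ⊓ V₂ ≤ V₂) s₂' := by
        change _ = res S.X₂ _ (s₂ + _)
        rw [res_add, ← f_res', res_res]
        rw [f_res'] at hr
        have hr' : (S.f.hom.app (op (V₁ ⊓ V₂))).hom (res S.X₁ le_top r') =
            res S.X₂ inf_le_left s₁ - res S.X₂ inf_le_right s₂ := by
          rw [f_res']; exact hr
        rw [hr']
        abel
      obtain ⟨s, hs₁, hs₂⟩ := glue2 S.X₂ s₁ s₂' hagree
      refine ⟨V₁ ⊔ V₂, hB.sup _ _ hV₁B hV₂B, sup_le hV₁ hV₂, s, ?_, ?_⟩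
      · rintro x (hx | hx)
        · exact Or.inl (hK₁ hx)
        · exact Or.inr (hK₂ hx)
      · apply eq_of_locally_eq
        rintro x (hx | hx)
        · refine ⟨V₁, hx, le_sup_left, ?_⟩
          rw [← g_res', hs₁, e₁, res_res]
        · refine ⟨V₂, hx, le_sup_right, ?_⟩
          rw [← g_res', hs₂, e₂', res_res]
    · intro a ha
      obtain ⟨W, haW, hWV, s, e⟩ := exists_local_lift' hS t a ha
      obtain ⟨V', hV'B, haV', hV'W⟩ := hB.basis a W haW
      refine ⟨(V' : Set Z), mem_nhdsWithin_of_mem_nhds (V'.isOpen.mem_nhds haV'), V', hV'B,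
        hV'W.trans hWV, res S.X₂ hV'W s, subset_rfl, ?_⟩
      rw [g_res', e, res_res]
  obtain ⟨V', -, hV', s, hVV', e⟩ := hQ
  have hVV : V' = V := le_antisymm hV' hVV'
  subst hVV
  exact ⟨s, e.trans (res_self _ _)⟩

/-- a quotient of a flasque sheaf by a `B`-flasque sheaf is `B`-flasque -/
theorem isBFlasque_X₃ (hB : GoodBasis B) (hS : S.ShortExact) (h1 : IsBFlasque B S.X₁)
    [TopCat.Sheaf.IsFlasque S.X₂] : IsBFlasque B S.X₃ := by
  intro V hV t
  obtain ⟨s, rfl⟩ := exists_lift hB hS h1 V hV t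
  obtain ⟨s', rfl⟩ := flasque_surjective S.X₂ (le_top : V ≤ ⊤) s
  exact ⟨(S.g.hom.app (op ⊤)).hom s', (g_res' _ _).symm⟩

/-- `B`-flasque sheaves have no higher cohomology -/
theorem ext_eq_zero_of_isBFlasque (hB : GoodBasis B) (G : CohTop.Ab Z) (hG : IsBFlasque B G) (n : ℕ)
    (x : Abelian.Ext (CohCx.freeSheaf (Opens.grothendieckTopology Z) ⊤) G (n + 1)) : x = 0 := by
  refine AcyClass.ext_eq_zero (CohCx.freeSheaf (Opens.grothendieckTopology Z) ⊤) (IsBFlasque B) ?_ n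
    G hG x
  intro S hS h1 hI
  haveI := Groth.Agent.S0454.result S.X₂
  refine ⟨isBFlasque_X₃ hB hS h1, ?_⟩
  intro ψ
  obtain ⟨s, hs⟩ := exists_lift hB hS h1 ⊤ hB.top
    (CohFree.evalGen (Opens.grothendieckTopology Z) ⊤ S.X₃ ψ)
  refine ⟨CohFree.ofSect (Opens.grothendieckTopology Z) ⊤ S.X₂ s, ?_⟩
  apply (CohFree.homEquivSect (Opens.grothendieckTopology Z) ⊤ S.X₃).injective
  rw [CohFree.homEquivSect_apply, CohFree.homEquivSect_apply]
  refine Eq.trans ?_ hs
  have := CohFree.evalGen_ofSect (Opens.grothendieckTopology Z) ⊤ S.X₂ s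
  exact congrArg (S.g.hom.app (op ⊤)).hom this

end Groth.Agent.Helper3.SpT3
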