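import Mathlib
import Groth.Prelude.Def_CohTop
import Groth.Prelude.Def_CohPull
import Groth.Prelude.Def_DeltaF
import Groth.Agent.Lib.Helper3.SpT2
import Groth.Agent.Lib.Helper3.SpT3
import Groth.Agent.Lib.Helper3.PB8

/-!
# Cohomology of a pro-constructible generalization-closed subset of a spectral space as a colimit
over a system of quasi-compact open neighbourhoods
-/

set_option autoImplicit false
set_option backward.isDefEq.respectTransparency false
open CategoryTheory Limits Opposite TopologicalSpace TopCat DeltaF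

universe u
namespace Groth.Agent.Helper3.SpT4

open PB1 PB3 PB4 PB6 PB8 SpT2 SpT3

variable {X : TopCat.{u}} {Zs : Set X} {P : ObjectProperty (Opens X)ᵒᵖ}

/-- the category of the neighbourhood system -/
abbrev UP (P : ObjectProperty (Opens X)ᵒᵖ) := P.FullSubcategory

lemma isFiltered_UP (h : Nbhd Zs P) : IsFiltered (UP P) where
  nonempty := ⟨⟨h.ne.choose, h.ne.choose_spec⟩⟩
  cocone_objs U V := ⟨⟨op (U.obj.unop ⊓ V.obj.unop), h.inf _ _ U.property V.property⟩,
    ObjectProperty.homMk (homOfLE inf_le_left).op, ObjectProperty.homMk (homOfLE inf_le_right).op, trivial⟩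
  cocone_maps U V f g := ⟨V, 𝟙 _, by
    apply ObjectProperty.hom_ext
    apply Quiver.Hom.unop_inj
    exact Subsingleton.elim _ _⟩

/-- restriction to the neighbourhood system, then the colimit -/
noncomputable abbrev GU (P : ObjectProperty (Opens X)ᵒᵖ) :
    ((Opens X)ᵒᵖ ⥤ AddCommGrpCat.{u}) ⥤ AddCommGrpCat.{u} :=
  (Functor.whiskeringLeft _ _ _).obj (ObjectProperty.ι P) ⋙ colim

lemma preservesFiniteLimits_GU (h : Nbhd Zs P) : PreservesFiniteLimits (GU P) := by
  haveI := isFiltered_UP h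
  haveI : PreservesFiniteLimits (colim : (UP P ⥤ AddCommGrpCat.{u}) ⥤ AddCommGrpCat.{u}) :=
    inferInstance
  exact comp_preservesFiniteLimits _ _

instance : PreservesFiniteColimits (GU P) := by
  exact comp_preservesFiniteColimits _ _

instance : (GU P).Additive := inferInstance

/-- the δ-functor `F ↦ colim_{U ∈ P} H^•(U, F)` -/
noncomputable def T (h : Nbhd Zs P) : CohDeltaFunctor (CohTop.Ab X) AddCommGrpCat.{u} ℕ :=
  haveI := preservesFiniteLimits_GU h
  HPDelta.compExact (HPDelta.hpDelta (Opens.grothendieckTopology X)) (GU P)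

lemma T_eff (h : Nbhd Zs P) : (T h).IsEffaceable := by
  intro n F
  refine ⟨Injective.under F, Injective.ι F, inferInstance, ?_⟩
  exact ((GU P).map_isZero (RPushNat.isZero_hpF_injective (Opens.grothendieckTopology X)
    (Injective.under F) n)).eq_of_tgt _ _

section eff

variable [SpectralSpace X]

/-- the traces of the quasi-compact opens -/
def Bs (Zs : Set X) : Set (Opens (ZT Zs)) :=
  {V | ∃ D : Opens X, IsCompact (D : Set X) ∧ V = pD D}

lemma goodBasis_Bs (h : Nbhd Zs P) : GoodBasis (Bs Zs) where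
  bot := ⟨⊥, by simp, rfl⟩
  top := ⟨⊤, isCompact_univ, rfl⟩
  inf := by
    rintro _ _ ⟨D₁, hD₁, rfl⟩ ⟨D₂, hD₂, rfl⟩
    exact ⟨D₁ ⊓ D₂, hD₁.inter_of_isOpen hD₂ D₁.isOpen D₂.isOpen, rfl⟩
  sup := by
    rintro _ _ ⟨D₁, hD₁, rfl⟩ ⟨D₂, hD₂, rfl⟩
    exact ⟨D₁ ⊔ D₂, hD₁.union hD₂, rfl⟩
  cpt := by
    rintro _ ⟨D, hD, rfl⟩
    exact h.isCompact_pD D hD
  basis := by
    intro z W hz
    obtain ⟨W', hW'o, hW'⟩ := isOpen_induced_iff.1 W.isOpen
    have hzW' : z.1 ∈ W' := by
      have : z ∈ Subtype.val ⁻¹' W' := by rw [hW']; exact hz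
      exact this
    obtain ⟨V, hV, hzV, hVsub⟩ :=
      (PrespectralSpace.isTopologicalBasis (X := X)).exists_subset_of_mem_open hzW' hW'o
    refine ⟨pD ⟨V, hV.1⟩, ⟨⟨V, hV.1⟩, hV.2, rfl⟩, hzV, ?_⟩
    intro a ha
    have : a ∈ Subtype.val ⁻¹' W' := hVsub ha
    rw [hW'] at this
    exact this

/-- the inverse image of a flasque sheaf is flasque relative to the traces of quasi-compact opens -/
lemma isBFlasque_pull (h : Nbhd Zs P) (I : CohTop.Ab X) [TopCat.Sheaf.IsFlasque I] :
    IsBFlasque (Bs Zs) ((CohTop.pull (iZ Zs)).obj I) := by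
  rintro _ ⟨D, hD, rfl⟩ t
  obtain ⟨U, hU, s, e⟩ := exists_extension h (PB5.locIso_unit (iZ Zs) I) D hD t
  obtain ⟨s', rfl⟩ := flasque_surjective I (le_top : U ⊓ D ≤ ⊤) s
  refine ⟨res (PB2.G (iZ Zs) I) (show (⊤ : Opens (ZT Zs)) ≤ (Opens.map (iZ Zs)).obj ⊤ from
    fun _ _ => trivial) (θU (iZ Zs) (PB2.η (iZ Zs) I) ⊤ s'), ?_⟩
  rw [res_res, ← e, θU_res, res_res]

lemma T'_eff (h : Nbhd Zs P) : (PB8.T' Zs).IsEffaceable := by
  intro n F
  refine ⟨Injective.under F, Injective.ι F, inferInstance, ?_⟩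
  apply IsZero.eq_of_tgt
  haveI := Groth.Agent.S0454.result (Injective.under F)
  have hfl := isBFlasque_pull h (Injective.under F)
  have : Subsingleton (Abelian.Ext (CohCx.freeSheaf (Opens.grothendieckTopology (ZT Zs)) ⊤)
      ((CohTop.pull (iZ Zs)).obj (Injective.under F)) (n + 1)) :=
    ⟨fun a b => (ext_eq_zero_of_isBFlasque (goodBasis_Bs h) _ hfl n a).trans
      (ext_eq_zero_of_isBFlasque (goodBasis_Bs h) _ hfl n b).symm⟩
  exact @AddCommGrpCat.isZero_of_subsingleton _ this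

end eff


section t0

variable (h : Nbhd Zs P)

include h in
/-- the whole subspace lies in the preimage of a neighbourhood -/
lemma top_le (U : UP P) : (⊤ : Opens (ZT Zs)) ≤ (Opens.map (iZ Zs)).obj U.obj.unop :=
  fun z _ => h.sub _ U.property z.2

variable (F : CohTop.Ab X)

/-- restriction of a section on a neighbourhood to the subspace -/
noncomputable def leg (U : UP P) : F.obj.obj U.obj ⟶ (PB2.G (iZ Zs) F).obj.obj (op ⊤) :=
  PB2.ηU (iZ Zs) F U.obj.unop ≫ (PB2.G (iZ Zs) F).obj.map (homOfLE (top_le h U)).op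

lemma leg_apply (U : UP P) (s : F.obj.obj U.obj) :
    (leg h F U).hom s = res (PB2.G (iZ Zs) F) (top_le h U) (θU (iZ Zs) (PB2.η (iZ Zs) F) U.obj.unop s) :=
  rfl

lemma leg_w {U V : UP P} (f : U ⟶ V) (s : F.obj.obj U.obj) :
    (leg h F V).hom (F.obj.map f.hom s) = (leg h F U).hom s := by
  rw [leg_apply, leg_apply]
  have hle : V.obj.unop ≤ U.obj.unop := f.hom.unop.le
  have e : F.obj.map f.hom s = res F hle s := rfl
  rw [e, θU_res, res_res]

/-- the cocone -/
noncomputable def cocone : Cocone (ObjectProperty.ι P ⋙ F.obj) where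
  pt := (PB2.G (iZ Zs) F).obj.obj (op ⊤)
  ι :=
    { app := fun U => leg h F U
      naturality := fun U V f => by
        ext s
        exact leg_w h F f s }

/-- the comparison map -/
noncomputable def cmp : colimit (ObjectProperty.ι P ⋙ F.obj) ⟶ (PB2.G (iZ Zs) F).obj.obj (op ⊤) :=
  colimit.desc _ (cocone h F)

lemma ι_cmp (U : UP P) : colimit.ι (ObjectProperty.ι P ⋙ F.obj) U ≫ cmp h F = leg h F U :=
  colimit.ι_desc _ _

lemma ι_cmp_apply (U : UP P) (s : F.obj.obj U.obj) :
    (cmp h F).hom ((colimit.ι (ObjectProperty.ι P ⋙ F.obj) U).hom s) = (leg h F U).hom s :=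
  congrArg (fun f => f.hom s) (ι_cmp h F U)

variable [SpectralSpace X]

lemma cmp_surjective : Function.Surjective (cmp h F).hom := by
  intro t
  have hTT : (Opens.map (iZ Zs)).obj ⊤ ≤ (⊤ : Opens (ZT Zs)) := fun _ _ => trivial
  obtain ⟨U, hU, s, e⟩ := exists_extension h (PB5.locIso_unit (iZ Zs) F) ⊤ isCompact_univ
    (res (PB2.G (iZ Zs) F) hTT t)
  let U' : UP P := ⟨op U, hU⟩
  have hUU : U ≤ U ⊓ ⊤ := le_inf le_rfl le_top
  refine ⟨(colimit.ι (ObjectProperty.ι P ⋙ F.obj) U').hom (res F hUU s), ?_⟩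
  rw [ι_cmp_apply, leg_apply]
  have hT : (⊤ : Opens (ZT Zs)) ≤ (Opens.map (iZ Zs)).obj ⊤ := fun _ _ => trivial
  have := congrArg (res (PB2.G (iZ Zs) F) hT) e
  rw [res_res, res_res, res_self] at this
  rw [θU_res, res_res]
  exact this

lemma cmp_injective : Function.Injective (cmp h F).hom := by
  haveI := isFiltered_UP h
  rw [injective_iff_map_eq_zero]
  intro x hx
  obtain ⟨U, s, rfl⟩ := Concrete.colimit_exists_rep (ObjectProperty.ι P ⋙ F.obj) x
  have hx' : (cmp h F).hom ((colimit.ι (ObjectProperty.ι P ⋙ F.obj) U).hom s) = 0 := hx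
  rw [ι_cmp_apply, leg_apply] at hx'
  obtain ⟨U', hU'U, hU', h0⟩ := (PB5.locIso_unit (iZ Zs) F).exists_res_eq_zero Set.univ U.obj.unop s ⊤
    (fun _ _ => trivial) (top_le h U) hx'
  obtain ⟨U'', hU''P, hU''⟩ := h.exists_inf_le ⊤ isCompact_univ U' (by
    rintro z ⟨hz, -⟩
    exact hU' ⟨z, hz⟩ (Set.mem_univ _))
  let V : UP P := ⟨op (U.obj.unop ⊓ U''), h.inf _ _ U.property hU''P⟩
  have hVU' : U.obj.unop ⊓ U'' ≤ U' := fun z hz => hU'' ⟨hz.2, trivial⟩
  let f : U ⟶ V := ObjectProperty.homMk (homOfLE (inf_le_left : U.obj.unop ⊓ U'' ≤ U.obj.unop)).op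
  have hw := congrArg (fun g => g.hom s) (colimit.w (ObjectProperty.ι P ⋙ F.obj) f)
  change (colimit.ι (ObjectProperty.ι P ⋙ F.obj) V).hom (res F inf_le_left s) = _ at hw
  have h0' : res F (inf_le_left : U.obj.unop ⊓ U'' ≤ U.obj.unop) s = 0 := by
    have := congrArg (res F hVU') h0
    rw [res_res, res_zero] at this
    exact this
  rw [h0', map_zero] at hw
  exact hw.symm

lemma isIso_cmp : IsIso (cmp h F) :=
  (ConcreteCategory.isIso_iff_bijective _).2 ⟨cmp_injective h F, cmp_surjective h F⟩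

omit [SpectralSpace X] in
lemma cmp_natural {F F' : CohTop.Ab X} (φ : F ⟶ F') :
    (GU P).map ((sheafToPresheaf _ _).map φ) ≫ cmp h F' =
      cmp h F ≫ ((CohTop.pull (iZ Zs)).map φ).hom.app (op ⊤) := by
  apply colimit.hom_ext
  intro U
  change colimit.ι (ObjectProperty.ι P ⋙ F.obj) U ≫
    colimMap (Functor.whiskerLeft (ObjectProperty.ι P) φ.hom) ≫ cmp h F' =
    colimit.ι (ObjectProperty.ι P ⋙ F.obj) U ≫ cmp h F ≫
      ((CohTop.pull (iZ Zs)).map φ).hom.app (op ⊤)
  rw [ι_colimMap_assoc, ι_cmp, ← Category.assoc, ι_cmp]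
  have h1 := congrArg (fun m => m.hom.app U.obj) ((PB2.adj (iZ Zs)).unit.naturality φ)
  have h1' : φ.hom.app U.obj ≫ PB2.ηU (iZ Zs) F' U.obj.unop =
      PB2.ηU (iZ Zs) F U.obj.unop ≫
        ((CohTop.pull (iZ Zs)).map φ).hom.app (op ((Opens.map (iZ Zs)).obj U.obj.unop)) := h1
  change φ.hom.app U.obj ≫ leg h F' U = _
  unfold leg
  rw [← Category.assoc, h1', Category.assoc, Category.assoc]
  congr 1
  exact (((CohTop.pull (iZ Zs)).map φ).hom.naturality (homOfLE (top_le h U)).op).symm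

end t0

section main

variable [SpectralSpace X] (h : Nbhd Zs P)

/-- the comparison, as a natural isomorphism -/
noncomputable def cmpIso : sheafToPresheaf (Opens.grothendieckTopology X) AddCommGrpCat.{u} ⋙ GU P ≅
    CohTop.pull (iZ Zs) ⋙ sheafToPresheaf (Opens.grothendieckTopology (ZT Zs)) AddCommGrpCat.{u} ⋙
      evTop Zs :=
  NatIso.ofComponents (fun F =>
    haveI := isIso_cmp h F
    asIso (cmp h F)) (fun {F F'} φ => cmp_natural h φ)

/-- the comparison in degree zero -/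
noncomputable def t0 : (T h).F 0 ≅ (PB8.T' Zs).F 0 :=
  Functor.isoWhiskerRight (RPushNat.h0Nat (Opens.grothendieckTopology X)) (GU P) ≪≫
    cmpIso h ≪≫
    Functor.isoWhiskerLeft (CohTop.pull (iZ Zs))
      (Functor.isoWhiskerRight (RPushNat.h0Nat (Opens.grothendieckTopology (ZT Zs))).symm (evTop Zs)) ≪≫
    (Functor.associator _ _ _).symm

include h in
/-- the cohomology of the intersection of a directed system of quasi-compact opens of a spectral
space is the colimit of the cohomology of the members of the system -/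
theorem nonempty_addEquiv (F : CohTop.Ab X) (p : ℕ) :
    Nonempty ((colimit (ObjectProperty.ι P ⋙
        (Sheaf.cohomologyPresheafFunctor (Opens.grothendieckTopology X) p).obj F) : AddCommGrpCat.{u}) ≃+
      CohTop.H ((CohTop.pull (iZ Zs)).obj F) p) := by
  let e := (DeltaIso2.isoOfZero (T h) (PB8.T' Zs) (T_eff h) (T'_eff h) (t0 h) p).app F
  exact ⟨e.addCommGroupIsoToAddEquiv.trans
    (HTerm.HEquiv (Opens.grothendieckTopology (ZT Zs)) isTerminalTop _ p).symm⟩

end main

end Groth.Agent.Helper3.SpT4
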