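import Mathlib
import Groth.Prelude.Def_CohTop
import Groth.Agent.Lib.Helper3.SpT2

/-!
# The intersection of a directed system of quasi-compact opens of a spectral space is spectral
-/

set_option autoImplicit false
set_option backward.isDefEq.respectTransparency false
open CategoryTheory Limits Opposite TopologicalSpace TopCat

universe u
namespace Groth.Agent.Helper3.SpT6

open SpT2 PB8

variable {X : TopCat.{u}} [SpectralSpace X] {Zs : Set X} {P : ObjectProperty (Opens X)ᵒᵖ}

/-- the traces of the quasi-compact opens, as an indexed family -/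
def bq (Zs : Set X) : {D : Opens X // IsCompact (D : Set X)} → Set (ZT Zs) :=
  fun D => ((pD (Zs := Zs) D.1 : Opens (ZT Zs)) : Set (ZT Zs))

lemma isTopologicalBasis_range (Zs : Set X) : IsTopologicalBasis (Set.range (bq Zs)) := by
  apply isTopologicalBasis_of_isOpen_of_nhds
  · rintro _ ⟨D, rfl⟩
    exact (pD (Zs := Zs) D.1).isOpen
  · intro z W hz hW
    obtain ⟨W', hW'o, hW'⟩ := isOpen_induced_iff.1 hW
    have hzW' : z.1 ∈ W' := by
      have : z ∈ Subtype.val ⁻¹' W' := by rw [hW']; exact hz
      exact this
    obtain ⟨V, hV, hzV, hVsub⟩ :=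
      (PrespectralSpace.isTopologicalBasis (X := X)).exists_subset_of_mem_open hzW' hW'o
    refine ⟨_, ⟨⟨⟨V, hV.1⟩, hV.2⟩, rfl⟩, hzV, ?_⟩
    intro a ha
    have : a ∈ Subtype.val ⁻¹' W' := hVsub ha
    rw [hW'] at this
    exact this

lemma quasiSober (h : Nbhd Zs P) : QuasiSober (ZT Zs) := by
  refine ⟨fun {T} hT hTc => ?_⟩
  have hirr : IsIrreducible (closure (Subtype.val '' T : Set X)) :=
    (hT.image Subtype.val continuous_subtype_val.continuousOn).closure
  have hη : IsGenericPoint hirr.genericPoint (closure (Subtype.val '' T : Set X)) :=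
    hirr.isGenericPoint_genericPoint isClosed_closure
  have hηZ : hirr.genericPoint ∈ Zs := by
    by_contra hn
    obtain ⟨U, hU, hηU⟩ := h.sep _ hn
    obtain ⟨t, ht⟩ := hT.nonempty
    have htU : t.1 ∈ (U.unop : Set X) := h.sub U hU t.2
    have htc : t.1 ∈ closure ({hirr.genericPoint} : Set X) := by
      rw [hη.def]
      exact subset_closure ⟨t, ht, rfl⟩
    obtain ⟨y, hyU, hy⟩ := mem_closure_iff.1 htc _ U.unop.isOpen htU
    rw [Set.mem_singleton_iff] at hy
    subst hy
    exact hηU hyU
  refine ⟨⟨hirr.genericPoint, hηZ⟩, ?_⟩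
  rw [isGenericPoint_def, Topology.IsInducing.subtypeVal.closure_eq_preimage_closure_image,
    Set.image_singleton]
  change Subtype.val ⁻¹' closure ({hirr.genericPoint} : Set X) = T
  rw [hη.def, ← Topology.IsInducing.subtypeVal.closure_eq_preimage_closure_image, hTc.closure_eq]

/-- the intersection of a directed system of quasi-compact opens is a spectral space -/
theorem spectralSpace (h : Nbhd Zs P) : SpectralSpace (ZT Zs) where
  __ := (inferInstance : T0Space Zs)
  __ := (isCompact_iff_compactSpace.1 (by
      have := h.isCompact_inter ⊤ isCompact_univ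
      rwa [Opens.coe_top, Set.inter_univ] at this) : CompactSpace Zs)
  __ := quasiSober h
  __ := QuasiSeparatedSpace.of_isTopologicalBasis (isTopologicalBasis_range Zs) (fun D E => by
      have := h.isCompact_pD (D.1 ⊓ E.1) (D.2.inter_of_isOpen E.2 D.1.isOpen E.1.isOpen)
      exact this)
  __ := PrespectralSpace.of_isTopologicalBasis' (isTopologicalBasis_range Zs)
      (fun D => h.isCompact_pD D.1 D.2)

end Groth.Agent.Helper3.SpT6
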