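import Mathlib
import Groth.Prelude.Def_CohTop
import Groth.Agent.Lib.Helper3.SpT6

/-!
# The punctured tube of the complement of a quasi-compact open in a quasi-compact open
-/

set_option autoImplicit false
set_option backward.isDefEq.respectTransparency false
open CategoryTheory Limits Opposite TopologicalSpace TopCat Order

universe u
namespace Groth.Agent.Helper3.SpT7

open SpT2 PB8

variable {X : TopCat.{u}} (U V : Opens X)

/-- the points of `U` specializing to a point of `V` outside `U` -/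
def Zt : Set X := {x | x ∈ U ∧ ∃ z ∈ V, z ∉ U ∧ z ∈ closure ({x} : Set X)}

/-- the traces on `U` of the quasi-compact open neighbourhoods of `V ∖ U` -/
def Pt : ObjectProperty (Opens X)ᵒᵖ := fun U' =>
  ∃ V' : Opens X, IsCompact (V' : Set X) ∧ (∀ z ∈ V, z ∉ U → z ∈ V') ∧ U'.unop = V' ⊓ U

variable {U V}

lemma nbhd [SpectralSpace X] (hU : IsCompact (U : Set X)) (hV : IsCompact (V : Set X)) :
    Nbhd (Zt U V) (Pt U V) where
  sub := by
    rintro U' ⟨V', -, hV', hU'⟩ x ⟨hxU, z, hzV, hzU, hzx⟩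
    rw [hU']
    refine ⟨?_, hxU⟩
    obtain ⟨y, hyV', hy⟩ := mem_closure_iff.1 hzx _ V'.isOpen (hV' z hzV hzU)
    rw [Set.mem_singleton_iff] at hy
    subst hy
    exact hyV'
  ne := ⟨op (⊤ ⊓ U), ⊤, isCompact_univ, fun _ _ _ => trivial, rfl⟩
  inf := by
    rintro U₁ U₂ ⟨V₁, hV₁c, hV₁, hU₁⟩ ⟨V₂, hV₂c, hV₂, hU₂⟩
    refine ⟨V₁ ⊓ V₂, hV₁c.inter_of_isOpen hV₂c V₁.isOpen V₂.isOpen,
      fun z hzV hzU => ⟨hV₁ z hzV hzU, hV₂ z hzV hzU⟩, ?_⟩
    change U₁.unop ⊓ U₂.unop = _
    rw [hU₁, hU₂]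
    ext x
    constructor
    · rintro ⟨⟨h1, hx⟩, ⟨h2, -⟩⟩
      exact ⟨⟨h1, h2⟩, hx⟩
    · rintro ⟨⟨h1, h2⟩, hx⟩
      exact ⟨⟨h1, hx⟩, ⟨h2, hx⟩⟩
  cpt := by
    rintro U' ⟨V', hV'c, -, hU'⟩
    rw [hU']
    exact hV'c.inter_of_isOpen hU V'.isOpen U.isOpen
  sep := by
    intro x hx
    by_cases hxU : x ∈ U
    · have hK : IsCompact ((V : Set X) ∩ (U : Set X)ᶜ) := hV.inter_right U.isOpen.isClosed_compl
      have hsub : (V : Set X) ∩ (U : Set X)ᶜ ⊆ (closure ({x} : Set X))ᶜ := by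
        rintro z ⟨hzV, hzU⟩ hzx
        exact hx ⟨hxU, z, hzV, hzU, hzx⟩
      obtain ⟨W, hWc, hWo, hKW, hW⟩ := PrespectralSpace.exists_isCompact_and_isOpen_between hK
        isClosed_closure.isOpen_compl hsub
      refine ⟨op (⟨W, hWo⟩ ⊓ U), ⟨⟨W, hWo⟩, hWc, fun z hzV hzU => hKW ⟨hzV, hzU⟩, rfl⟩, ?_⟩
      rintro ⟨hxW, -⟩
      exact hW hxW (subset_closure rfl)
    · exact ⟨op (⊤ ⊓ U), ⟨⊤, isCompact_univ, fun _ _ _ => trivial, rfl⟩, fun h => hxU h.2⟩

/-- the punctured tube has smaller dimension -/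
theorem dim_lt [SpectralSpace X] (d : ℕ) (hd : topologicalKrullDim X ≤ d) :
    topologicalKrullDim (ZT (Zt U V)) < d := by
  unfold topologicalKrullDim at hd ⊢
  rw [krullDim_lt_coe_iff]
  intro p
  have hφ : StrictMono (IrreducibleCloseds.map (Subtype.val : Zt U V → X) continuous_subtype_val) :=
    IrreducibleCloseds.map_strictMono_of_isInducing Topology.IsInducing.subtypeVal
  obtain ⟨t, ht⟩ := p.head.isIrreducible.nonempty
  obtain ⟨htU, z, hzV, hzU, hzt⟩ := t.2
  let c : IrreducibleCloseds X := ⟨closure {z}, isIrreducible_singleton.closure, isClosed_closure⟩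
  have hmem : t.1 ∈ (IrreducibleCloseds.map (Subtype.val : Zt U V → X) continuous_subtype_val p.head :
      Set X) := subset_closure ⟨t, ht, rfl⟩
  have hc : c < (p.map _ hφ).head := by
    rw [LTSeries.head_map]
    refine lt_of_le_of_ne ?_ ?_
    · change closure ({z} : Set X) ⊆ _
      refine closure_minimal ?_ (IrreducibleCloseds.isClosed _)
      rw [Set.singleton_subset_iff]
      exact closure_minimal (Set.singleton_subset_iff.2 hmem) (IrreducibleCloseds.isClosed _) hzt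
    · intro he
      have h1 : t.1 ∈ (c : Set X) := by rw [he]; exact hmem
      have h2 : closure ({z} : Set X) ⊆ (U : Set X)ᶜ :=
        closure_minimal (Set.singleton_subset_iff.2 hzU) U.isOpen.isClosed_compl
      exact h2 h1 htU
  have hlen := LTSeries.length_le_krullDim ((p.map _ hφ).cons c hc)
  have h3 := hlen.trans hd
  rw [RelSeries.cons_length, LTSeries.map_length] at h3
  have h4 : p.length + 1 ≤ d := by exact_mod_cast h3
  omega

end Groth.Agent.Helper3.SpT7
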