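import Mathlib
import Groth.Prelude.Def_CohTop
import Groth.Prelude.Def_FreeSh
import Groth.Agent.Lib.Helper3.SpT4
import Groth.Agent.Lib.Helper3.SpT6
import Groth.Agent.Lib.Helper3.SpT7
import Groth.Agent.Lib.Helper3.MVel
import Groth.Agent.Lib.Helper3.HTerm
import Groth.Agent.S0460

/-!
# Grothendieck vanishing for spectral spaces
-/

set_option autoImplicit false
set_option backward.isDefEq.respectTransparency false
open CategoryTheory Limits Opposite TopologicalSpace TopCat Order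

universe u
namespace Groth.Agent.Helper3.SpT8

open PB8 SpT2

section bot

lemma ext_eq_zero_of_isZero {A : Type*} [Category A] [Abelian A] [HasExt A] {M N : A}
    (hM : IsZero M) {n : ℕ} (x : Abelian.Ext M N n) : x = 0 := by
  rw [← Abelian.Ext.mk₀_id_comp x, hM.eq_of_src (𝟙 M) 0, Abelian.Ext.mk₀_zero, Abelian.Ext.zero_comp]

variable {X : TopCat.{u}}

lemma isZero_freeSheaf_bot :
    IsZero (CohCx.freeSheaf (Opens.grothendieckTopology X) (⊥ : Opens X)) := by
  rw [IsZero.iff_id_eq_zero]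
  apply (CohFree.homEquivSect (Opens.grothendieckTopology X) ⊥ _).injective
  haveI : Subsingleton
      ((CohCx.freeSheaf (Opens.grothendieckTopology X) (⊥ : Opens X)).obj.obj (op ⊥)) :=
    AddCommGrpCat.subsingleton_of_isZero
      ((isZero_zero _).of_iso (HasZeroObject.zeroIsoIsTerminal
        (TopCat.Sheaf.isTerminalOfEmpty _)).symm)
  exact Subsingleton.elim _ _

lemma subsingleton_HU_bot (F : CohTop.Ab X) (n : ℕ) : Subsingleton (CohTop.HU F n ⊥) := by
  constructor
  intro a b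
  have h : ∀ x : Abelian.Ext (CohCx.freeSheaf (Opens.grothendieckTopology X) (⊥ : Opens X)) F n,
      x = 0 := fun x => ext_eq_zero_of_isZero isZero_freeSheaf_bot x
  exact (h a).trans (h b).symm

end bot

/-- vanishing of the cohomology in degree `d` of spectral spaces of dimension less than `d` -/
def Vanish (d : ℕ) : Prop :=
  ∀ (Y : TopCat.{u}) [SpectralSpace Y], topologicalKrullDim Y < d →
    ∀ G : CohTop.Ab Y, Subsingleton (CohTop.H G d)

variable {X : TopCat.{u}} [SpectralSpace X]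

theorem surj_of_vanish (d : ℕ) (hvan : Vanish.{u} d) (hd : topologicalKrullDim X ≤ d)
    (F : CohTop.Ab X) {U V : Opens X} (hUV : U ≤ V) (hU : IsCompact (U : Set X))
    (hV : IsCompact (V : Set X)) : Function.Surjective (CohTop.res F d hUV) := by
  intro ξ
  have hN := SpT7.nbhd hU hV
  haveI : SpectralSpace (ZT (SpT7.Zt U V)) := SpT6.spectralSpace hN
  haveI := hvan (ZT (SpT7.Zt U V)) (SpT7.dim_lt d hd) ((CohTop.pull (iZ (SpT7.Zt U V))).obj F)
  obtain ⟨e⟩ := SpT4.nonempty_addEquiv hN F d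
  haveI : Subsingleton ((colimit (ObjectProperty.ι (SpT7.Pt U V) ⋙
      (Sheaf.cohomologyPresheafFunctor (Opens.grothendieckTopology X) d).obj F) :
      AddCommGrpCat.{u})) := e.toEquiv.subsingleton
  haveI := SpT4.isFiltered_UP hN
  let U₀ : SpT4.UP (SpT7.Pt U V) := ⟨op (⊤ ⊓ U), ⊤, isCompact_univ, fun _ _ _ => trivial, rfl⟩
  let ξ₀ : CohTop.HU F d (⊤ ⊓ U) := CohTop.res F d inf_le_right ξ
  obtain ⟨k, f, g, hk⟩ := Concrete.colimit_exists_of_rep_eq (ObjectProperty.ι (SpT7.Pt U V) ⋙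
      (Sheaf.cohomologyPresheafFunctor (Opens.grothendieckTopology X) d).obj F)
      (i := U₀) (j := U₀) ξ₀ 0 (Subsingleton.elim _ _)
  obtain ⟨V', hV'c, hV'sub, hkV'⟩ := k.property
  have hle : k.obj.unop ≤ ⊤ ⊓ U := f.hom.unop.le
  have hk' : CohTop.res F d hle ξ₀ = 0 := hk.trans (map_zero _)
  have hle' : k.obj.unop ≤ U := hle.trans inf_le_right
  have hk'' : CohTop.res F d hle' ξ = 0 := by
    rw [← hk', MVel.res_res]
  have hAB : U ⊓ (V' ⊓ V) ≤ k.obj.unop := by
    rw [hkV']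
    exact fun z hz => ⟨hz.2.1, hz.1⟩
  have h0 : CohTop.res F d (inf_le_left : U ⊓ (V' ⊓ V) ≤ U) ξ =
      CohTop.res F d (inf_le_right : U ⊓ (V' ⊓ V) ≤ V' ⊓ V) 0 := by
    have := congrArg (CohTop.res F d hAB) hk''
    rw [MVel.res_res, map_zero] at this
    rw [map_zero]
    exact this
  obtain ⟨c, hc1, -⟩ := MVel.exact_mid F U (V' ⊓ V) d ξ 0 h0
  have hVle : V ≤ U ⊔ (V' ⊓ V) := by
    intro z hz
    by_cases hzU : z ∈ U
    · exact Or.inl hzU
    · exact Or.inr ⟨hV'sub z hz hzU, hz⟩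
  refine ⟨CohTop.res F d hVle c, ?_⟩
  rw [MVel.res_res]
  exact hc1

theorem vanish_step (F : CohTop.Ab X) (n : ℕ)
    (hsurj : ∀ A B : Opens X, IsCompact (A : Set X) → IsCompact (B : Set X) →
      Function.Surjective (CohTop.res F n (inf_le_left : A ⊓ B ≤ A)))
    (V : Opens X) (hV : IsCompact (V : Set X)) : Subsingleton (CohTop.HU F (n + 1) V) := by
  suffices h : ∀ ξ : CohTop.HU F (n + 1) V, ξ = 0 from ⟨fun a b => (h a).trans (h b).symm⟩
  intro ξ
  obtain ⟨ι, W, hW, hWV, hξ⟩ := Groth.Agent.S0460.result F V n ξ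
  have key : ∃ A : Opens X, ∃ hA : A ≤ V, IsCompact (A : Set X) ∧ (V : Set X) ⊆ A ∧
      CohTop.res F (n + 1) hA ξ = 0 := by
    refine IsCompact.induction_on (p := fun K => ∃ A : Opens X, ∃ hA : A ≤ V,
      IsCompact (A : Set X) ∧ K ⊆ A ∧ CohTop.res F (n + 1) hA ξ = 0) hV ?_ ?_ ?_ ?_
    · haveI := subsingleton_HU_bot F (n + 1)
      exact ⟨⊥, bot_le, by simp, Set.empty_subset _, Subsingleton.elim _ _⟩
    · rintro s t hst ⟨A, hA, hAc, htA, h0⟩
      exact ⟨A, hA, hAc, hst.trans htA, h0⟩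
    · rintro s t ⟨A₁, hA₁, hA₁c, hsA₁, h1⟩ ⟨A₂, hA₂, hA₂c, htA₂, h2⟩
      refine ⟨A₁ ⊔ A₂, sup_le hA₁ hA₂, hA₁c.union hA₂c, Set.union_subset_union hsA₁ htA₂, ?_⟩
      have hc1 : CohTop.res F (n + 1) (le_sup_left : A₁ ≤ A₁ ⊔ A₂)
          (CohTop.res F (n + 1) (sup_le hA₁ hA₂) ξ) = 0 := by
        rw [MVel.res_res]; exact h1
      have hc2 : CohTop.res F (n + 1) (le_sup_right : A₂ ≤ A₁ ⊔ A₂)
          (CohTop.res F (n + 1) (sup_le hA₁ hA₂) ξ) = 0 := by
        rw [MVel.res_res]; exact h2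
      obtain ⟨e, he⟩ := MVel.exact_left F A₁ A₂ n _ hc1 hc2
      obtain ⟨a, ha⟩ := hsurj A₁ A₂ hA₁c hA₂c e
      rw [← he, ← ha]
      exact MVel.δ_res F A₁ A₂ n a
    · intro x hx
      have hxV : x ∈ iSup W := by rw [hWV]; exact hx
      obtain ⟨i, hi⟩ := Opens.mem_iSup.1 hxV
      obtain ⟨A, ⟨hAo, hAc⟩, hxA, hAW⟩ :=
        (PrespectralSpace.isTopologicalBasis (X := X)).exists_subset_of_mem_open hi (W i).isOpen
      refine ⟨A, mem_nhdsWithin_of_mem_nhds (hAo.mem_nhds hxA), ⟨A, hAo⟩,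
        fun z hz => hW i (hAW hz), hAc, subset_rfl, ?_⟩
      have := congrArg (CohTop.res F (n + 1) (show (⟨A, hAo⟩ : Opens X) ≤ W i from hAW)) (hξ i)
      rw [MVel.res_res, map_zero] at this
      exact this
  obtain ⟨A, hA, -, hVA, h0⟩ := key
  have hVA' : V ≤ A := hVA
  have := congrArg (CohTop.res F (n + 1) hVA') h0
  rw [MVel.res_res, map_zero, MVel.res_self] at this
  exact this

theorem hu_vanish (d : ℕ) (hvan : Vanish.{u} d) (hd : topologicalKrullDim X ≤ d)
    (F : CohTop.Ab X) : ∀ k : ℕ, ∀ V : Opens X, IsCompact (V : Set X) →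
      Subsingleton (CohTop.HU F (d + k + 1) V) := by
  intro k
  induction k with
  | zero =>
    intro V hV
    exact vanish_step F d (fun A B hA hB => surj_of_vanish d hvan hd F inf_le_left
      (hA.inter_of_isOpen hB A.isOpen B.isOpen) hA) V hV
  | succ k ih =>
    intro V hV
    refine vanish_step F (d + k + 1) (fun A B hA hB e => ?_) V hV
    haveI := ih (A ⊓ B) (hA.inter_of_isOpen hB A.isOpen B.isOpen)
    exact ⟨0, Subsingleton.elim _ _⟩

omit [SpectralSpace X] in
theorem h_of_hu (F : CohTop.Ab X) (n : ℕ) (h : Subsingleton (CohTop.HU F n ⊤)) :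
    Subsingleton (CohTop.H F n) :=
  (HTerm.HEquiv (Opens.grothendieckTopology X) isTerminalTop F n).toEquiv.subsingleton

theorem vanish_zero : Vanish.{u} 0 := by
  intro Y _ hY G
  have hE : IsEmpty Y := by
    by_contra hne
    rw [not_isEmpty_iff] at hne
    obtain ⟨y⟩ := hne
    unfold topologicalKrullDim at hY
    have h0 : (0 : WithBot ℕ∞) ≤ krullDim (IrreducibleCloseds Y) := by
      haveI : Nonempty (IrreducibleCloseds Y) :=
        ⟨⟨closure {y}, isIrreducible_singleton.closure, isClosed_closure⟩⟩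
      exact krullDim_nonneg
    exact absurd (lt_of_le_of_lt h0 hY) (by simp)
  have htop : (⊤ : Opens Y) = ⊥ := by
    ext y
    exact (hE.false y).elim
  apply h_of_hu
  rw [htop]
  exact subsingleton_HU_bot G 0

theorem vanish_succ (d : ℕ) (h : Vanish.{u} d) : Vanish.{u} (d + 1) := by
  intro Y _ hY G
  have hd : topologicalKrullDim Y ≤ d := by
    unfold topologicalKrullDim at hY ⊢
    have h1 := krullDim_lt_coe_iff.1 hY
    unfold krullDim
    exact iSup_le fun p => by exact_mod_cast Nat.lt_succ_iff.1 (h1 p)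
  exact h_of_hu G (d + 1) (hu_vanish d h hd G 0 ⊤ isCompact_univ)

theorem vanish_all : ∀ d : ℕ, Vanish.{u} d := by
  intro d
  induction d with
  | zero => exact vanish_zero
  | succ d ih => exact vanish_succ d ih

/-- Grothendieck vanishing for spectral spaces -/
theorem vanishing (d : ℕ) (hd : topologicalKrullDim X ≤ d) (F : CohTop.Ab X) (p : ℕ)
    (hp : d < p) : Subsingleton (CohTop.H F p) := by
  obtain ⟨k, rfl⟩ := Nat.exists_eq_add_of_lt hp
  exact h_of_hu F _ (hu_vanish d (vanish_all d) hd F k ⊤ isCompact_univ)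

/-- top-degree restriction maps are surjective -/
theorem surjective_res (d : ℕ) (hd : topologicalKrullDim X ≤ d) (F : CohTop.Ab X)
    {U V : Opens X} (hUV : U ≤ V) (hU : IsCompact (U : Set X)) (hV : IsCompact (V : Set X)) :
    Function.Surjective (CohTop.res F d hUV) :=
  surj_of_vanish d (vanish_all d) hd F hUV hU hV

end Groth.Agent.Helper3.SpT8
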