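import Mathlib

set_option autoImplicit false
universe w v u

open CategoryTheory Limits

namespace Groth.Agent.Helper3.CompDer

open Classical in
/-- elementwise criterion for bijectivity of a map out of a direct sum -/
lemma toAddMonoid_bijective_iff {I : Type*} {G : I → Type*} [∀ i, AddCommGroup (G i)]
    {T : Type*} [AddCommGroup T] (c : ∀ i, G i →+ T) :
    Function.Bijective (DirectSum.toAddMonoid c) ↔
      (∀ t : T, ∃ (s : Finset I) (g : ∀ i, G i), t = ∑ i ∈ s, c i (g i)) ∧
      (∀ (s : Finset I) (g : ∀ i, G i), ∑ i ∈ s, c i (g i) = 0 → ∀ i ∈ s, g i = 0) := by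
  have key : ∀ x : DirectSum I G, DirectSum.toAddMonoid c x = ∑ i ∈ DFinsupp.support x, c i (x i) := by
    intro x
    conv_lhs => rw [← DirectSum.sum_support_of x]
    rw [map_sum]
    refine Finset.sum_congr rfl (fun i _ => ?_)
    rw [DirectSum.toAddMonoid_of]
  have comp : ∀ (s : Finset I) (g : ∀ i, G i) (i : I), i ∈ s →
      (∑ j ∈ s, DirectSum.of G j (g j)) i = g i := by
    intro s g i hi
    rw [DFinsupp.finsetSum_apply, Finset.sum_eq_single i]
    · exact DirectSum.of_eq_same i (g i)
    · intro j _ hji
      exact DirectSum.of_eq_of_ne j i (g j) hji.symm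
    · intro h; exact (h hi).elim
  constructor
  · rintro ⟨hinj, hsurj⟩
    constructor
    · intro t
      obtain ⟨x, rfl⟩ := hsurj t
      exact ⟨DFinsupp.support x, fun i => x i, key x⟩
    · intro s g h i hi
      have h1 : DirectSum.toAddMonoid c (∑ j ∈ s, DirectSum.of G j (g j)) = 0 := by
        rw [map_sum, ← h]
        refine Finset.sum_congr rfl (fun j _ => ?_)
        rw [DirectSum.toAddMonoid_of]
      have h2 : (∑ j ∈ s, DirectSum.of G j (g j)) = 0 := hinj (h1.trans (map_zero _).symm)
      rw [← comp s g i hi, h2]
      rfl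
  · rintro ⟨hs, hi⟩
    constructor
    · rw [injective_iff_map_eq_zero]
      intro x hx
      rw [key x] at hx
      have h1 := hi _ _ hx
      ext i
      by_cases hmem : i ∈ DFinsupp.support x
      · exact h1 i hmem
      · simpa using hmem
    · intro t
      obtain ⟨s, g, rfl⟩ := hs t
      refine ⟨∑ j ∈ s, DirectSum.of G j (g j), ?_⟩
      rw [map_sum]
      refine Finset.sum_congr rfl (fun j _ => ?_)
      rw [DirectSum.toAddMonoid_of]

section Colim

variable {I : Type u} (G : I → AddCommGrpCat.{u})

open Classical in
/-- the direct sum cofan -/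
noncomputable def dsCofan : Cofan G :=
  Cofan.mk (AddCommGrpCat.of (DirectSum I (fun i => G i)))
    (fun i => AddCommGrpCat.ofHom (DirectSum.of (fun i => G i) i))

open Classical in
/-- the direct sum is a coproduct of abelian groups -/
noncomputable def dsIsColimit : IsColimit (dsCofan G) :=
  Cofan.IsColimit.mk _
    (fun s => AddCommGrpCat.ofHom (DirectSum.toAddMonoid (fun i => (s.inj i).hom)))
    (fun s i => by
      ext x
      change DirectSum.toAddMonoid (fun i => (s.inj i).hom) (DirectSum.of (fun i => G i) i x) = _
      rw [DirectSum.toAddMonoid_of])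
    (fun s m hm => by
      apply AddCommGrpCat.hom_ext
      change (m.hom : (DirectSum I (fun i => G i)) →+ s.pt) = DirectSum.toAddMonoid (fun i => (s.inj i).hom)
      refine DirectSum.addHom_ext (fun i y => ?_)
      rw [DirectSum.toAddMonoid_of, ← hm i]
      rfl)

open Classical in
/-- a colimit cofan of abelian groups is a direct sum -/
lemma bijective_of_isColimit (c : Cofan G) (hc : IsColimit c) :
    Function.Bijective (DirectSum.toAddMonoid (fun i => (c.inj i).hom)) := by
  let e := (dsIsColimit G).coconePointUniqueUpToIso hc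
  have h : (dsIsColimit G).desc c = AddCommGrpCat.ofHom (DirectSum.toAddMonoid (fun i => (c.inj i).hom)) := rfl
  have h2 : e.hom = AddCommGrpCat.ofHom (DirectSum.toAddMonoid (fun i => (c.inj i).hom)) := h
  have h3 : IsIso (AddCommGrpCat.ofHom (DirectSum.toAddMonoid (fun i => (c.inj i).hom))) := by
    rw [← h2]; infer_instance
  exact (ConcreteCategory.isIso_iff_bijective _).1 h3

end Colim

end Groth.Agent.Helper3.CompDer
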