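import Mathlib
import Groth.Agent.Lib.Helper3.ShSec

set_option autoImplicit false
universe u
open CategoryTheory Limits Opposite

namespace Groth.Agent.Helper3.ConstTF

variable {C : Type u} [SmallCategory C] {J : GrothendieckTopology C}

section Sep

/-- sections of an abelian sheaf agreeing locally are equal -/
lemma eq_of_locally_eq (H : Sheaf J AddCommGrpCat.{u}) {U : C}
    (s t : H.obj.obj (op U)) (S : Sieve U) (hS : S ∈ J U)
    (h : ∀ ⦃V : C⦄ (f : V ⟶ U), S f → (H.obj.map f.op).hom s = (H.obj.map f.op).hom t) : s = t := by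
  have hsh := (Presheaf.isSheaf_iff_isSheaf_forget J H.obj (forget AddCommGrpCat.{u})).1 H.property
  have hsep := (hsh.isSheafFor S hS).isSeparatedFor
  exact hsep.ext (t₁ := s) (t₂ := t) (fun V f hf => h f hf)

lemma eq_of_bot_mem (H : Sheaf J AddCommGrpCat.{u}) {U : C} (hU : (⊥ : Sieve U) ∈ J U)
    (s t : H.obj.obj (op U)) : s = t :=
  eq_of_locally_eq H s t ⊥ hU (fun V f hf => hf.elim)

lemma exists_glue (H : Sheaf J AddCommGrpCat.{u}) {U : C} (S : Sieve U) (hS : S ∈ J U)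
    (x : ∀ ⦃V : C⦄ (f : V ⟶ U), S f → H.obj.obj (op V))
    (hx : ∀ ⦃V W : C⦄ (f : V ⟶ U) (g : W ⟶ V) (hf : S f),
      (H.obj.map g.op).hom (x f hf) = x (g ≫ f) (S.downward_closed hf g)) :
    ∃ s : H.obj.obj (op U), ∀ ⦃V : C⦄ (f : V ⟶ U) (hf : S f), (H.obj.map f.op).hom s = x f hf := by
  have hsh := (Presheaf.isSheaf_iff_isSheaf_forget J H.obj (forget AddCommGrpCat.{u})).1 H.property
  have h1 := hsh.isSheafFor S hS
  let fam : Presieve.FamilyOfElements (H.obj ⋙ forget AddCommGrpCat.{u}) S.arrows :=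
    fun V f hf => x f hf
  have hc : fam.Compatible := by
    rw [Presieve.compatible_iff_sieveCompatible]
    intro Y Z f g hf
    exact (hx f g hf).symm
  exact ⟨h1.amalgamate fam hc, fun V f hf => h1.valid_glue hc f hf⟩

end Sep

section Const

variable (J)

/-- the constant presheaf -/
abbrev cp (G : AddCommGrpCat.{u}) : Cᵒᵖ ⥤ AddCommGrpCat.{u} := (Functor.const Cᵒᵖ).obj G

/-- the constant sheaf -/
noncomputable abbrev cs (G : AddCommGrpCat.{u}) : Sheaf J AddCommGrpCat.{u} :=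
  (constantSheaf J AddCommGrpCat.{u}).obj G

/-- the unit -/
noncomputable def η (G : AddCommGrpCat.{u}) : cp G ⟶ (cs J G).obj := toSheafify J (cp G)

/-- constant sections -/
noncomputable def kst (G : AddCommGrpCat.{u}) (V : C) : G →+ (cs J G).obj.obj (op V) :=
  ((η J G).app (op V)).hom

lemma kst_res (G : AddCommGrpCat.{u}) {V W : C} (g : W ⟶ V) (a : G) :
    ((cs J G).obj.map g.op).hom (kst J G V a) = kst J G W a := by
  have h := ConcreteCategory.congr_hom ((η J G).naturality g.op) a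
  exact h.symm

lemma kst_locally_surj (G : AddCommGrpCat.{u}) {V : C} (b : (cs J G).obj.obj (op V)) :
    ∃ R ∈ J V, ∀ ⦃W : C⦄ (g : W ⟶ V), R g → ∃ a : G, kst J G W a = ((cs J G).obj.map g.op).hom b := by
  haveI : Presheaf.IsLocallySurjective J (η J G) := Presheaf.isLocallySurjective_toSheafify' (J := J) (cp G)
  exact ⟨_, Presheaf.imageSieve_mem J (η J G) b, fun W g hg => hg⟩

lemma kst_eq_imp (G : AddCommGrpCat.{u}) {V : C} (a a' : G) (h : kst J G V a = kst J G V a') :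
    a = a' ∨ (⊥ : Sieve V) ∈ J V := by
  haveI : Presheaf.IsLocallyInjective J (η J G) := Presheaf.isLocallyInjective_toSheafify' (J := J) (cp G)
  by_cases haa : a = a'
  · exact Or.inl haa
  · right
    have h1 := Presheaf.equalizerSieve_mem J (η J G) (X := op V) a a' h
    refine J.superset_covering ?_ h1
    intro W g hg
    exact (haa hg).elim

end Const


section Rep
variable {A : Type u} [AddCommGroup A]

/-- the subgroup `mA` -/
def mA (A : Type u) [AddCommGroup A] (m : ℤ) : AddSubgroup A := (zsmulAddGroupHom (α := A) m).range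

/-- chosen coset representatives -/
noncomputable def rep (m : ℤ) (a : A) : A := ((QuotientAddGroup.mk a : A ⧸ mA A m)).out

lemma rep_spec (m : ℤ) (a : A) : ∃ c : A, a = rep m a + m • c := by
  have h : (QuotientAddGroup.mk (rep m a) : A ⧸ mA A m) = QuotientAddGroup.mk a := by
    unfold rep; exact Quotient.out_eq _
  rw [QuotientAddGroup.eq] at h
  obtain ⟨c, hc⟩ := h
  refine ⟨c, ?_⟩
  have hc' : m • c = -rep m a + a := hc
  rw [hc']; abel

lemma rep_add_zsmul (m : ℤ) (a c : A) : rep m (a + m • c) = rep m a := by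
  unfold rep
  congr 1
  rw [QuotientAddGroup.eq]
  refine ⟨-c, ?_⟩
  change m • (-c) = -(a + m • c) + a
  rw [smul_neg]; abel

lemma rep_rep (m : ℤ) (a : A) : rep m (rep m a) = rep m a := by
  obtain ⟨c, hc⟩ := rep_spec m a
  conv_rhs => rw [hc]
  exact (rep_add_zsmul m (rep m a) c).symm
end Rep

section Nat

lemma nat_apply {F G : Sheaf J AddCommGrpCat.{u}} (f : F ⟶ G) {V W : C} (g : W ⟶ V)
    (t : F.obj.obj (op V)) :
    (f.hom.app (op W)).hom ((F.obj.map g.op).hom t) =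
      (G.obj.map g.op).hom ((f.hom.app (op V)).hom t) :=
  ConcreteCategory.congr_hom (f.hom.naturality g.op) t

lemma map_map (F : Sheaf J AddCommGrpCat.{u}) {V W X : C} (g : W ⟶ V) (h : X ⟶ W)
    (t : F.obj.obj (op V)) :
    (F.obj.map h.op).hom ((F.obj.map g.op).hom t) = (F.obj.map (h ≫ g).op).hom t :=
  (ConcreteCategory.congr_hom (F.obj.map_comp g.op h.op) t).symm

end Nat

section Core

variable {A : Type u} [AddCommGroup A]
  {I Q : Sheaf J AddCommGrpCat.{u}} (i : cs J (AddCommGrpCat.of A) ⟶ I) (p : I ⟶ Q)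
  (qf : ∀ V : C, Q.obj.obj (op V)) (sf : ∀ V : C, I.obj.obj (op V)) (M : C → ℤ → Prop)

/-- constant sections of `A` -/
noncomputable abbrev kA (J : GrothendieckTopology C) (A : Type u) [AddCommGroup A] (V : C) :
    A →+ (cs J (AddCommGrpCat.of A)).obj.obj (op V) := kst J (AddCommGrpCat.of A) V

/-- normalised local lifts -/
def Good (V : C) (t : I.obj.obj (op V)) : Prop :=
  (p.hom.app (op V)).hom t = qf V ∧ ∃ R ∈ J V, ∀ ⦃W : C⦄ (g : W ⟶ V), R g →
    ∃ m : ℤ, m ≠ 0 ∧ M W m ∧ ∃ a : A, rep m a = a ∧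
      sf W - m • (I.obj.map g.op).hom t = (i.hom.app (op W)).hom (kA J A W a)

variable {i p qf sf M}
variable (hq : ∀ ⦃V W : C⦄ (g : W ⟶ V), (Q.obj.map g.op).hom (qf V) = qf W)
  (hs : ∀ ⦃V W : C⦄ (g : W ⟶ V), (I.obj.map g.op).hom (sf V) = sf W)
  (hM1 : ∀ ⦃V W : C⦄ (_ : W ⟶ V) (m : ℤ), M V m → M W m)

include hq in
lemma good_res {V W : C} (g : W ⟶ V) (t : I.obj.obj (op V)) (h : Good i p qf sf M V t) :
    Good i p qf sf M W ((I.obj.map g.op).hom t) := by
  obtain ⟨h1, R, hR, h2⟩ := h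
  refine ⟨?_, R.pullback g, J.pullback_stable g hR, ?_⟩
  · rw [nat_apply p g, h1, hq]
  · intro W' h hh
    obtain ⟨m, hm, hMm, a, ha, e⟩ := h2 (h ≫ g) hh
    exact ⟨m, hm, hMm, a, ha, by rw [map_map]; exact e⟩

include hs hM1 in
lemma good_of_global {V : C} (t : I.obj.obj (op V)) (h1 : (p.hom.app (op V)).hom t = qf V)
    (m : ℤ) (hm : m ≠ 0) (hMV : M V m) (a : A) (ha : rep m a = a)
    (h2 : sf V - m • t = (i.hom.app (op V)).hom (kA J A V a)) : Good i p qf sf M V t := by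
  refine ⟨h1, ⊤, J.top_mem V, fun W g _ => ⟨m, hm, hM1 g m hMV, a, ha, ?_⟩⟩
  have h3 := congrArg (I.obj.map g.op).hom h2
  rw [map_sub, map_zsmul, hs g, ← nat_apply i g, kst_res] at h3
  exact h3


variable (w : i ≫ p = 0) (hS : (ShortComplex.mk i p w).ShortExact)
  (hA : ∀ (m : ℤ) (a : A), m ≠ 0 → m • a = 0 → a = 0)
  (hM2 : ∀ (V : C) (m m' : ℤ), M V m → M V m' → m ≠ m' → (⊥ : Sieve V) ∈ J V)

include hq hS hA hM2 in
lemma good_unique {V : C} (t t' : I.obj.obj (op V)) (h : Good i p qf sf M V t)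
    (h' : Good i p qf sf M V t') : t = t' := by
  obtain ⟨h1, R, hR, h2⟩ := h
  obtain ⟨h1', R', hR', h2'⟩ := h'
  refine eq_of_locally_eq I t t' (R ⊓ R') (J.intersection_covering hR hR') ?_
  rintro W g ⟨hg, hg'⟩
  obtain ⟨m, hm, hMm, a, ha, e⟩ := h2 g hg
  obtain ⟨m', hm', hMm', a', ha', e'⟩ := h2' g hg'
  by_cases hmm : m = m'
  · subst hmm
    have hp : (p.hom.app (op W)).hom ((I.obj.map g.op).hom t' - (I.obj.map g.op).hom t) = 0 := by
      rw [map_sub, nat_apply p g, nat_apply p g, h1, h1', sub_self]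
    obtain ⟨b, hb⟩ := ShSec.exact_sections hS W _ hp
    have e3 : (i.hom.app (op W)).hom (m • b) = (i.hom.app (op W)).hom (kA J A W (a - a')) := by
      have hb' : (i.hom.app (op W)).hom b = (I.obj.map g.op).hom t' - (I.obj.map g.op).hom t := hb
      rw [map_zsmul, hb', map_sub, map_sub, ← e, ← e', smul_sub]; abel
    have e4 : m • b = kA J A W (a - a') := ShSec.injective_f hS W e3
    have hb0 : b = 0 := by
      obtain ⟨R2, hR2, h3⟩ := kst_locally_surj J (AddCommGrpCat.of A) b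
      refine eq_of_locally_eq _ b 0 R2 hR2 ?_
      intro W2 k hk
      obtain ⟨β, hβ⟩ := h3 k hk
      rw [map_zero, ← hβ]
      have e5 : kA J A W2 (m • β) = kA J A W2 (a - a') := by
        rw [map_zsmul]
        change m • kst J (AddCommGrpCat.of A) W2 β = _
        rw [hβ, ← map_zsmul, e4, kst_res]
      rcases kst_eq_imp J (AddCommGrpCat.of A) _ _ e5 with h6 | h6
      · have h7 : a = a' + m • β := by rw [h6]; abel
        have h8 : a = a' := by rw [← ha, ← ha', h7, rep_add_zsmul, ha']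
        have h9 : m • β = 0 := by rw [h6, h8, sub_self]
        rw [hA m β hm h9, map_zero]
      · exact eq_of_bot_mem _ h6 _ _
    rw [hb0, map_zero] at hb
    exact (sub_eq_zero.1 hb.symm).symm
  · exact eq_of_bot_mem I (hM2 W m m' hMm hMm' hmm) _ _

include hq in
lemma good_glue {V : C} (t : I.obj.obj (op V)) (R₀ : Sieve V) (hR₀ : R₀ ∈ J V)
    (h : ∀ ⦃W : C⦄ (g : W ⟶ V), R₀ g → Good i p qf sf M W ((I.obj.map g.op).hom t)) :
    Good i p qf sf M V t := by
  constructor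
  · refine eq_of_locally_eq Q _ _ R₀ hR₀ ?_
    intro W g hg
    rw [← nat_apply p g, (h g hg).1, hq]
  · choose R hR h2 using fun (W : C) (g : W ⟶ V) (hg : R₀ g) => (h g hg).2
    refine ⟨Sieve.bind R₀ (fun W g hg => R W g hg),
      J.bind_covering hR₀ (fun W g hg => hR W g hg), ?_⟩
    rintro W' f ⟨W, k, g, hg, hk, rfl⟩
    obtain ⟨m, hm, hMm, a, ha, e⟩ := h2 W g hg k hk
    exact ⟨m, hm, hMm, a, ha, by rw [← map_map]; exact e⟩


variable (hM3 : ∀ V : C, ∃ R ∈ J V, ∀ ⦃W : C⦄ (g : W ⟶ V), R g → ∃ m : ℤ, m ≠ 0 ∧ M W m)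
  (hM4 : ∀ (V : C) (m : ℤ), M V m → (p.hom.app (op V)).hom (sf V) = m • qf V)

include hq hs hM1 hS hM3 hM4 in
lemma exists_good_locally (V : C) :
    ∃ R ∈ J V, ∀ ⦃W : C⦄ (g : W ⟶ V), R g → ∃ t, Good i p qf sf M W t := by
  obtain ⟨R₀, hR₀, h0⟩ := hM3 V
  have hR₁ : Presheaf.imageSieve p.hom (qf V) ∈ J V := ShSec.imageSieve_mem hS (qf V)
  have key : ∀ ⦃W : C⦄ (g : W ⟶ V), (R₀ ⊓ Presheaf.imageSieve p.hom (qf V)) g →
      ∃ R₂ ∈ J W, ∀ ⦃W' : C⦄ (h : W' ⟶ W), R₂ h → ∃ t, Good i p qf sf M W' t := by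
    rintro W g ⟨hg0, hg1⟩
    obtain ⟨m, hm, hMm⟩ := h0 g hg0
    obtain ⟨t₀, ht₀⟩ := hg1
    have ht₀' : (p.hom.app (op W)).hom t₀ = qf W := by rw [← hq g]; exact ht₀
    have hx : (p.hom.app (op W)).hom (sf W - m • t₀) = 0 := by
      rw [map_sub, map_zsmul, hM4 W m hMm, ht₀', sub_self]
    obtain ⟨b, hb⟩ := ShSec.exact_sections hS W _ hx
    have hb' : (i.hom.app (op W)).hom b = sf W - m • t₀ := hb
    obtain ⟨R₂, hR₂, h3⟩ := kst_locally_surj J (AddCommGrpCat.of A) b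
    refine ⟨R₂, hR₂, fun W' h hh => ?_⟩
    obtain ⟨a, ha⟩ := h3 h hh
    obtain ⟨c, hc⟩ := rep_spec m a
    have hc' : a - m • c = rep m a := sub_eq_of_eq_add hc
    refine ⟨(I.obj.map h.op).hom t₀ + (i.hom.app (op W')).hom (kA J A W' c), ?_⟩
    refine good_of_global hs hM1 _ ?_ m hm (hM1 h m hMm) (rep m a) (rep_rep m a) ?_
    · have hz : (p.hom.app (op W')).hom ((i.hom.app (op W')).hom (kA J A W' c)) = 0 :=
        ShSec.zero_apply (S := ShortComplex.mk i p w) W' _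
      rw [map_add, nat_apply p h, ht₀', hq, hz, add_zero]
    · have e1 : (I.obj.map h.op).hom (sf W - m • t₀) = (i.hom.app (op W')).hom (kA J A W' a) := by
        rw [← hb', ← nat_apply i h]
        congr 1
        exact ha.symm
      rw [map_sub, map_zsmul, hs h] at e1
      rw [smul_add, ← sub_sub, e1, ← map_zsmul, ← map_sub, ← map_zsmul, ← map_sub, hc']
  choose R₂ hR₂ h2 using key
  refine ⟨Sieve.bind (R₀ ⊓ Presheaf.imageSieve p.hom (qf V)) (fun W g hg => R₂ g hg),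
    J.bind_covering (J.intersection_covering hR₀ hR₁) (fun W g hg => hR₂ g hg), ?_⟩
  rintro W' f ⟨W, k, g, hg, hk, rfl⟩
  exact h2 g hg k hk

include hq hs hM1 hS hA hM2 hM3 hM4 in
lemma exists_good (V : C) : ∃ t, Good i p qf sf M V t := by
  obtain ⟨R, hR, h⟩ := exists_good_locally hq hs hM1 w hS hM3 hM4 V
  choose x hx using h
  obtain ⟨t, ht⟩ := exists_glue I R hR x (by
    intro W W' f g hf
    exact good_unique hq w hS hA hM2 _ _ (good_res hq g _ (hx f hf)) (hx (g ≫ f) _))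
  exact ⟨t, good_glue hq t R hR (fun W g hg => by rw [ht g hg]; exact hx g hg)⟩

include hq hs hM1 hS hA hM2 hM3 hM4 in
/-- the compatible family of normalised lifts -/
theorem core : ∃ tf : ∀ V : C, I.obj.obj (op V),
    (∀ ⦃V W : C⦄ (g : W ⟶ V), (I.obj.map g.op).hom (tf V) = tf W) ∧
      ∀ V, (p.hom.app (op V)).hom (tf V) = qf V := by
  choose tf htf using exists_good hq hs hM1 w hS hA hM2 hM3 hM4
  exact ⟨tf, fun V W g => good_unique hq w hS hA hM2 _ _ (good_res hq g _ (htf V)) (htf W),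
    fun V => (htf V).1⟩

end Core

section Glob

variable (J)

/-- the constant sheaf `ℤ` -/
noncomputable abbrev Zs : Sheaf J AddCommGrpCat.{u} := cs J (AddCommGrpCat.of (ULift.{u} ℤ))

/-- the unit section -/
noncomputable def one (V : C) : (Zs J).obj.obj (op V) :=
  kst J (AddCommGrpCat.of (ULift.{u} ℤ)) V (ULift.up 1)

lemma one_res {V W : C} (g : W ⟶ V) : ((Zs J).obj.map g.op).hom (one J V) = one J W :=
  kst_res J _ g _

lemma kst_up (V : C) (k : ℤ) :
    kst J (AddCommGrpCat.of (ULift.{u} ℤ)) V (ULift.up k) = k • one J V := by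
  unfold one
  rw [← map_zsmul]
  congr 1
  apply ULift.ext
  simp

variable {J}

/-- the family of sections attached to a morphism out of the constant sheaf `ℤ` -/
noncomputable def fam {F : Sheaf J AddCommGrpCat.{u}} (f : Zs J ⟶ F) (V : C) : F.obj.obj (op V) :=
  (f.hom.app (op V)).hom (one J V)

lemma fam_res {F : Sheaf J AddCommGrpCat.{u}} (f : Zs J ⟶ F) {V W : C} (g : W ⟶ V) :
    (F.obj.map g.op).hom (fam f V) = fam f W := by
  unfold fam
  rw [← nat_apply f g, one_res]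

lemma fam_comp {F G : Sheaf J AddCommGrpCat.{u}} (f : Zs J ⟶ F) (g : F ⟶ G) (V : C) :
    fam (f ≫ g) V = (g.hom.app (op V)).hom (fam f V) := rfl

lemma hom_ext_fam {F : Sheaf J AddCommGrpCat.{u}} (f f' : Zs J ⟶ F)
    (h : ∀ V, fam f V = fam f' V) : f = f' := by
  apply Sheaf.hom_ext
  refine sheafify_hom_ext (J := J) f.hom f'.hom F.property ?_
  ext ⟨V⟩ ⟨k⟩
  change (f.hom.app (op V)).hom (kst J (AddCommGrpCat.of (ULift.{u} ℤ)) V (ULift.up k)) =
    (f'.hom.app (op V)).hom (kst J (AddCommGrpCat.of (ULift.{u} ℤ)) V (ULift.up k))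
  rw [kst_up, map_zsmul, map_zsmul]
  exact congrArg _ (h V)

lemma exists_hom_of_fam {F : Sheaf J AddCommGrpCat.{u}} (σ : ∀ V : C, F.obj.obj (op V))
    (hσ : ∀ ⦃V W : C⦄ (g : W ⟶ V), (F.obj.map g.op).hom (σ V) = σ W) :
    ∃ f : Zs J ⟶ F, ∀ V, fam f V = σ V := by
  let τ : cp (AddCommGrpCat.of (ULift.{u} ℤ)) ⟶ F.obj :=
    { app := fun V => AddCommGrpCat.ofHom
        ((zmultiplesHom _ (σ V.unop)).comp AddEquiv.ulift.toAddMonoidHom)
      naturality := by
        rintro ⟨V⟩ ⟨W⟩ ⟨g⟩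
        ext ⟨k⟩
        change k • σ W = (F.obj.map g.op).hom (k • σ V)
        rw [map_zsmul, hσ] }
  refine ⟨ObjectProperty.homMk (sheafifyLift J τ F.property), fun V => ?_⟩
  have h := ConcreteCategory.congr_hom
    (NatTrans.congr_app (toSheafify_sheafifyLift J τ F.property) (op V)) (ULift.up (1 : ℤ))
  change (sheafifyLift J τ F.property).app (op V) (one J V) = (1 : ℤ) • σ V at h
  rw [one_smul] at h
  exact h

end Glob

section Main

open Abelian

lemma zsmul_id_apply (X : AddCommGrpCat.{u}) (k : ℤ) (y : X) :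
    (k • 𝟙 X : X ⟶ X).hom y = k • y := by
  simp

variable (J) in
theorem s13799_main [HasExt.{u} (Sheaf J AddCommGrpCat.{u})]
    [EnoughInjectives (Sheaf J AddCommGrpCat.{u})]
    {A : Type u} [AddCommGroup A] (hA : ∀ (m : ℤ) (a : A), m ≠ 0 → m • a = 0 → a = 0)
    (φ : Zs J ⟶ Zs J)
    {ι : Type u} (U : ι → C) (n : ι → ℤ) (hn : ∀ i, n i ≠ 0)
    (hφ : ∀ (i : ι) (V : C) (_ : V ⟶ U i), φ.hom.app (op V) = n i • 𝟙 _)
    (hcov : ∀ V : C, ∃ R ∈ J V, ∀ ⦃W : C⦄ (g : W ⟶ V), R g → ∃ i, Nonempty (W ⟶ U i))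
    (x : Ext (Zs J) (cs J (AddCommGrpCat.of A)) 1)
    (hx : (Ext.mk₀ φ).comp x (zero_add 1) = 0) : x = 0 := by
  let i := Injective.ι (cs J (AddCommGrpCat.of A))
  let p := cokernel.π i
  have w : i ≫ p = 0 := cokernel.condition i
  have hS : (ShortComplex.mk i p w).ShortExact :=
    { exact := ShortComplex.exact_cokernel i }
  have h1 : x.comp (Ext.mk₀ i) (add_zero 1) = 0 := Ext.eq_zero_of_injective _
  obtain ⟨x₃, hx₃⟩ := Ext.covariant_sequence_exact₁ _ hS x h1 (zero_add 1)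
  obtain ⟨q, rfl⟩ := (Ext.mk₀_bijective _ _).2 x₃
  have h2 : (Ext.mk₀ (φ ≫ q)).comp hS.extClass (zero_add 1) = 0 := by
    rw [← Ext.mk₀_comp_mk₀_assoc, hx₃, hx]
  obtain ⟨x₂, hx₂⟩ := Ext.covariant_sequence_exact₃ _ hS (Ext.mk₀ (φ ≫ q)) (zero_add 1) h2
  obtain ⟨s, rfl⟩ := (Ext.mk₀_bijective _ _).2 x₂
  have h3 : s ≫ p = φ ≫ q := by
    apply (Ext.mk₀_bijective _ _).1
    rw [← Ext.mk₀_comp_mk₀]
    exact hx₂
  have hone : ∀ (j : ι) (V : C) (_ : V ⟶ U j),
      (φ.hom.app (op V)).hom (one J V) = n j • one J V := by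
    intro j V f
    rw [hφ j V f]
    exact zsmul_id_apply _ _ _
  obtain ⟨tf, htf1, htf2⟩ := core (i := i) (p := p) (qf := fam q) (sf := fam s)
    (M := fun V m => ∃ j, Nonempty (V ⟶ U j) ∧ n j = m)
    (fun V W g => fam_res q g) (fun V W g => fam_res s g)
    (by
      rintro V W g m ⟨j, ⟨f⟩, hj⟩
      exact ⟨j, ⟨g ≫ f⟩, hj⟩)
    w hS hA
    (by
      rintro V m m' ⟨j, ⟨f⟩, hj⟩ ⟨j', ⟨f'⟩, hj'⟩ hmm
      have e1 := hone j V f
      rw [hone j' V f', ← kst_up, ← kst_up] at e1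
      rcases kst_eq_imp J _ _ _ e1 with h6 | h6
      · exact (hmm (by rw [← hj, ← hj']; exact (congrArg ULift.down h6).symm)).elim
      · exact h6)
    (by
      intro V
      obtain ⟨R, hR, h⟩ := hcov V
      refine ⟨R, hR, fun W g hg => ?_⟩
      obtain ⟨j, hj⟩ := h g hg
      exact ⟨n j, hn j, j, hj, rfl⟩)
    (by
      rintro V m ⟨j, ⟨f⟩, hj⟩
      have e1 : fam (s ≫ p) V = fam (φ ≫ q) V := by rw [h3]
      rw [fam_comp, fam_comp] at e1
      rw [e1]
      change (q.hom.app (op V)).hom ((φ.hom.app (op V)).hom (one J V)) = _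
      rw [hone j V f, map_zsmul, hj]
      rfl)
  obtain ⟨t, ht⟩ := exists_hom_of_fam tf htf1
  have h4 : t ≫ p = q := hom_ext_fam _ _ (fun V => by rw [fam_comp, ht, htf2])
  rw [← hx₃, ← h4, ← Ext.mk₀_comp_mk₀_assoc]
  have h5 : (Ext.mk₀ p).comp hS.extClass (zero_add 1) = 0 := hS.comp_extClass
  rw [h5, Ext.comp_zero]

end Main

end Groth.Agent.Helper3.ConstTF
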