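import Mathlib
import Groth.Prelude.Def_CohCx

set_option autoImplicit false
universe u

open CategoryTheory Limits Opposite

namespace Groth.Agent.Helper3.QcSum

variable {C : Type u} [SmallCategory C] (J : GrothendieckTopology C)

/-- the union of a family of sieves -/
def unionSieve {W : C} {I : Type*} (R : I → Sieve W) : Sieve W where
  arrows V g := ∃ i, (R i).arrows g
  downward_closed := by
    rintro V V' g ⟨i, hi⟩ h
    exact ⟨i, (R i).downward_closed hi h⟩

/-- the union of a finite subfamily of sieves -/
def unionSieveFin {W : C} {I : Type*} (R : I → Sieve W) (t : Finset I) : Sieve W where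
  arrows V g := ∃ i ∈ t, (R i).arrows g
  downward_closed := by
    rintro V V' g ⟨i, hit, hi⟩ h
    exact ⟨i, hit, (R i).downward_closed hi h⟩

/-- the sheaf of sets associated with a representable -/
noncomputable abbrev hSh (W : C) : Sheaf J (Type u) :=
  (presheafToSheaf J (Type u)).obj (yoneda.obj W)

/-- the canonical section of `h_W^#` over `W`-objects -/
noncomputable abbrev eta (W : C) {V : C} (g : V ⟶ W) : (hSh J W).obj.obj (op V) :=
  (toSheafify J (yoneda.obj W)).app (op V) g

lemma eta_comp (W : C) {V V' : C} (h : V' ⟶ V) (g : V ⟶ W) :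
    (hSh J W).obj.map h.op (eta J W g) = eta J W (h ≫ g) := by
  have h1 := NatTrans.naturality_apply (toSheafify J (yoneda.obj W)) h.op g
  exact h1.symm

section Qc

variable {J}

lemma sheafifyMap_toSheafify_apply {P Q : Cᵒᵖ ⥤ Type u} (φ : P ⟶ Q) {V : C} (z : P.obj (op V)) :
    (sheafifyMap J φ).app (op V) ((toSheafify J P).app (op V) z) =
      (toSheafify J Q).app (op V) (φ.app (op V) z) := by
  have h := congrArg (fun t => t.app (op V)) (toSheafify_naturality J φ)
  exact (ConcreteCategory.congr_hom h z).symm

/-- quasi-compactness of `h_W^#` in terms of sieves: a covering union of sieves has a covering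
finite subunion -/
theorem exists_finset_of_isQcObject (W : C) (hW : CohCx.IsQcObject (hSh J W))
    {I : Type u} (R : I → Sieve W) (hR : unionSieve R ∈ J W) :
    ∃ t : Finset I, unionSieveFin R t ∈ J W := by
  let L : I → Sheaf J (Type u) := fun i => (presheafToSheaf J (Type u)).obj (R i).functor
  let f : ∀ i, L i ⟶ hSh J W :=
    fun i => (presheafToSheaf J (Type u)).map (R i).functorInclusion
  have hf : ∀ (i : I) {V : C} (z : (R i).functor.obj (op V)),
      (f i).hom.app (op V) ((toSheafify J (R i).functor).app (op V) z) = eta J W z.1 :=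
    fun i V z => sheafifyMap_toSheafify_apply (R i).functorInclusion z
  have hjs : CohCx.JointlySurjective f := by
    intro U s
    have h1 : Presheaf.imageSieve (toSheafify J (yoneda.obj W)) s ∈ J U :=
      Presheaf.imageSieve_mem J (toSheafify J (yoneda.obj W)) (U := op U) s
    refine ⟨Sieve.bind (Presheaf.imageSieve (toSheafify J (yoneda.obj W)) s).arrows
      (fun V g hg => (unionSieve R).pullback hg.choose),
      J.bind_covering h1 (fun V g hg => J.pullback_stable _ hR), ?_⟩
    rintro V g ⟨V', h, g', hg', ⟨i, hi⟩, rfl⟩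
    refine ⟨i, (toSheafify J (R i).functor).app (op V) ⟨h ≫ hg'.choose, hi⟩, ?_⟩
    rw [hf]
    change eta J W (h ≫ hg'.choose) = _
    rw [← eta_comp, op_comp, Functor.map_comp]
    have h2 := hg'.choose_spec
    change (hSh J W).obj.map h.op (eta J W hg'.choose) = _
    exact congrArg ((hSh J W).obj.map h.op) h2
  obtain ⟨t, ht⟩ := hW I L f hjs
  refine ⟨t, ?_⟩
  obtain ⟨S, hS, hS'⟩ := ht W (eta J W (𝟙 W))
  refine J.transitive hS _ ?_
  intro V g hg
  obtain ⟨⟨i, hit⟩, x, hx⟩ := hS' V g hg
  have hx' : (f i).hom.app (op V) x = eta J W g := by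
    rw [hx, eta_comp, Category.comp_id]
  have h1 : Presheaf.imageSieve (toSheafify J (R i).functor) x ∈ J V :=
    Presheaf.imageSieve_mem J (toSheafify J (R i).functor) (U := op V) x
  refine J.transitive h1 _ ?_
  rintro V' h ⟨z, hz⟩
  have h2 : eta J W z.1 = eta J W (h ≫ g) := by
    rw [← hf i z, hz, ← eta_comp, ← hx']
    exact NatTrans.naturality_apply (f i).hom h.op x
  have h3 := Presheaf.equalizerSieve_mem (D := Type u) (FD := TypeCat.Fun) (CD := fun X => X)
    J (toSheafify J (yoneda.obj W)) (X := op V') z.1 (h ≫ g) h2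
  refine J.superset_covering ?_ h3
  intro V'' k hk
  have hk' : k ≫ z.1 = k ≫ h ≫ g := hk
  refine ⟨i, hit, ?_⟩
  change (R i).arrows ((k ≫ h) ≫ g)
  rw [Category.assoc, ← hk']
  exact (R i).downward_closed z.2 k

end Qc

end Groth.Agent.Helper3.QcSum
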