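import Mathlib
import Groth.Agent.Lib.Helper3.QcSum1
import Groth.Agent.Lib.Helper3.CompDer1
import Groth.Agent.Lib.Helper3.ConstTF1

set_option autoImplicit false
universe u

open CategoryTheory Limits Opposite

namespace Groth.Agent.Helper3.QcSum

open Groth.Agent.Helper3.CompDer

variable {C : Type u} [SmallCategory C] {J : GrothendieckTopology C} {ι : Type u}
  (F : ι → Sheaf J AddCommGrpCat.{u})

/-- the presheaf coproduct -/
noncomputable abbrev preSum : Cᵒᵖ ⥤ AddCommGrpCat.{u} := ∐ fun i => (F i).obj

/-- the explicit coproduct of abelian sheaves -/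
noncomputable abbrev cPt : Sheaf J AddCommGrpCat.{u} :=
  (presheafToSheaf J AddCommGrpCat.{u}).obj (preSum F)

/-- the injections -/
noncomputable def cInj (i : ι) : F i ⟶ cPt F :=
  ObjectProperty.homMk (Sigma.ι (fun i => (F i).obj) i ≫ toSheafify J (preSum F))

/-- the explicit cofan -/
noncomputable def cCofan : Cofan F := Cofan.mk (cPt F) (cInj F)

/-- the explicit cofan is a coproduct -/
noncomputable def cIsColimit : IsColimit (cCofan F) :=
  Cofan.IsColimit.mk _
    (fun s => ObjectProperty.homMk (sheafifyLift J (Sigma.desc fun i => (s.inj i).hom)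
      s.pt.property))
    (fun s i => by
      apply ObjectProperty.hom_ext
      change (Sigma.ι (fun i => (F i).obj) i ≫ toSheafify J (preSum F)) ≫
        sheafifyLift J (Sigma.desc fun i => (s.inj i).hom) s.pt.property = (s.inj i).hom
      rw [Category.assoc, toSheafify_sheafifyLift, Sigma.ι_desc])
    (fun s m hm => by
      apply ObjectProperty.hom_ext
      change m.hom = sheafifyLift J (Sigma.desc fun i => (s.inj i).hom) s.pt.property
      refine sheafifyLift_unique J _ s.pt.property _ ?_
      refine Sigma.hom_ext _ _ (fun i => ?_)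
      rw [Sigma.ι_desc, ← hm i]
      rfl)

open Classical in
/-- the projections -/
noncomputable def cPi (i : ι) : cPt F ⟶ F i :=
  ObjectProperty.homMk (sheafifyLift J (Sigma.π (fun i => (F i).obj) i) (F i).property)

open Classical in
lemma cInj_cPi_same (i : ι) : cInj F i ≫ cPi F i = 𝟙 _ := by
  apply ObjectProperty.hom_ext
  change (Sigma.ι (fun i => (F i).obj) i ≫ toSheafify J (preSum F)) ≫
    sheafifyLift J (Sigma.π (fun i => (F i).obj) i) (F i).property = 𝟙 _
  rw [Category.assoc, toSheafify_sheafifyLift, Sigma.ι_π_eq_id]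

open Classical in
lemma cInj_cPi_ne {i j : ι} (h : i ≠ j) : cInj F i ≫ cPi F j = 0 := by
  apply ObjectProperty.hom_ext
  change (Sigma.ι (fun i => (F i).obj) i ≫ toSheafify J (preSum F)) ≫
    sheafifyLift J (Sigma.π (fun i => (F i).obj) j) (F j).property = 0
  rw [Category.assoc, toSheafify_sheafifyLift, Sigma.ι_π_of_ne _ h]

section Sec

variable {F}

open Classical in
lemma pi_inj_same (V : C) (i : ι) (g : (F i).obj.obj (op V)) :
    ((cPi F i).hom.app (op V)).hom (((cInj F i).hom.app (op V)).hom g) = g := by
  have h := congrArg (fun φ : F i ⟶ F i => (φ.hom.app (op V)).hom g) (cInj_cPi_same F i)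
  exact h

open Classical in
lemma pi_inj_ne (V : C) {i j : ι} (hij : i ≠ j) (g : (F i).obj.obj (op V)) :
    ((cPi F j).hom.app (op V)).hom (((cInj F i).hom.app (op V)).hom g) = 0 := by
  have h := congrArg (fun φ : F i ⟶ F j => (φ.hom.app (op V)).hom g) (cInj_cPi_ne F hij)
  exact h

lemma inj_res {V V' : C} (h : V' ⟶ V) (i : ι) (g : (F i).obj.obj (op V)) :
    ((cPt F).obj.map h.op).hom (((cInj F i).hom.app (op V)).hom g) =
      ((cInj F i).hom.app (op V')).hom (((F i).obj.map h.op).hom g) := by
  have h1 := (cInj F i).hom.naturality h.op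
  have h2 := congrArg (fun φ => φ.hom g) h1
  exact h2.symm

open Classical in
lemma pi_res {V V' : C} (h : V' ⟶ V) (i : ι) (x : (cPt F).obj.obj (op V)) :
    ((F i).obj.map h.op).hom (((cPi F i).hom.app (op V)).hom x) =
      ((cPi F i).hom.app (op V')).hom (((cPt F).obj.map h.op).hom x) := by
  have h1 := (cPi F i).hom.naturality h.op
  have h2 := congrArg (fun φ => φ.hom x) h1
  exact h2.symm

open Classical in
/-- the "finite truncation" operator on sections -/
noncomputable def eT (T : Finset ι) (V : C) (x : (cPt F).obj.obj (op V)) :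
    (cPt F).obj.obj (op V) :=
  ∑ i ∈ T, ((cInj F i).hom.app (op V)).hom (((cPi F i).hom.app (op V)).hom x)

lemma eT_res (T : Finset ι) {V V' : C} (h : V' ⟶ V) (x : (cPt F).obj.obj (op V)) :
    ((cPt F).obj.map h.op).hom (eT T V x) = eT T V' (((cPt F).obj.map h.op).hom x) := by
  unfold eT
  rw [map_sum]
  refine Finset.sum_congr rfl (fun i _ => ?_)
  rw [inj_res, pi_res]

lemma eT_sum (T : Finset ι) (V : C) {κ : Type*} (s : Finset κ)
    (x : κ → (cPt F).obj.obj (op V)) :
    eT T V (∑ k ∈ s, x k) = ∑ k ∈ s, eT T V (x k) := by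
  unfold eT
  rw [Finset.sum_comm]
  refine Finset.sum_congr rfl (fun i _ => ?_)
  rw [map_sum, map_sum]

open Classical in
lemma eT_inj (T : Finset ι) (V : C) (i : ι) (hi : i ∈ T) (g : (F i).obj.obj (op V)) :
    eT T V (((cInj F i).hom.app (op V)).hom g) = ((cInj F i).hom.app (op V)).hom g := by
  unfold eT
  rw [Finset.sum_eq_single i]
  · rw [pi_inj_same]
  · intro j _ hji
    rw [pi_inj_ne V hji.symm, map_zero]
  · intro h; exact (h hi).elim

lemma eT_mono {T T' : Finset ι} (hTT' : T ⊆ T') (V : C) (x : (cPt F).obj.obj (op V))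
    (hx : eT T V x = x) : eT T' V x = x := by
  have h1 : eT T' V (eT T V x) = eT T V x := by
    conv_lhs => unfold eT
    conv_rhs => unfold eT
    have := eT_sum (F := F) T' V T
      (fun i => ((cInj F i).hom.app (op V)).hom (((cPi F i).hom.app (op V)).hom x))
    refine this.trans ?_
    refine Finset.sum_congr rfl (fun i hi => ?_)
    exact eT_inj T' V i (hTT' hi) _
  rw [hx] at h1
  exact h1

end Sec

section Main

lemma presum_exists (V : C) (p : (preSum F).obj (op V)) :
    ∃ (T : Finset ι) (f : ∀ i, (F i).obj.obj (op V)),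
      p = ∑ i ∈ T, ((Sigma.ι (fun i => (F i).obj) i).app (op V)).hom (f i) := by
  classical
  have hc := isColimitOfHasCoproductOfPreservesColimit
    ((evaluation Cᵒᵖ AddCommGrpCat.{u}).obj (op V)) (fun i => (F i).obj)
  have hb := bijective_of_isColimit (fun i => (F i).obj.obj (op V)) _ hc
  exact ((toAddMonoid_bijective_iff _).1 hb).1 p

open Classical in
/-- sections over a quasi-compact object of the explicit coproduct are the direct sum of the
sections -/
theorem sections_bijective (W : C) (hW : CohCx.IsQcObject (hSh J W)) :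
    Function.Bijective (DirectSum.toAddMonoid (fun i => ((cInj F i).hom.app (op W)).hom)) := by
  classical
  rw [toAddMonoid_bijective_iff]
  constructor
  · intro t
    let R : Finset ι → Sieve W := fun T =>
      Presheaf.equalizerSieve (F := (cPt F).obj) (X := op W) t (eT T W t)
    have hR : unionSieve R ∈ J W := by
      have h1 : Presheaf.imageSieve (toSheafify J (preSum F)) t ∈ J W :=
        Presheaf.imageSieve_mem J (toSheafify J (preSum F)) (U := op W) t
      refine J.superset_covering ?_ h1
      rintro V g ⟨p, hp⟩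
      obtain ⟨T, f, rfl⟩ := presum_exists F V p
      refine ⟨T, ?_⟩
      change ((cPt F).obj.map g.op).hom t = ((cPt F).obj.map g.op).hom (eT T W t)
      rw [eT_res]
      have hp' : ((cPt F).obj.map g.op).hom t =
          ∑ i ∈ T, ((cInj F i).hom.app (op V)).hom (f i) := by
        refine Eq.trans hp.symm ?_
        rw [map_sum]
        rfl
      rw [hp', eT_sum]
      exact (Finset.sum_congr rfl (fun i hi => eT_inj T V i hi (f i))).symm
    obtain ⟨𝒯, h𝒯⟩ := exists_finset_of_isQcObject W hW R hR
    let Ts : Finset ι := 𝒯.biUnion id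
    have hTs : R Ts ∈ J W := by
      refine J.superset_covering ?_ h𝒯
      rintro V g ⟨T, hT, hg⟩
      change ((cPt F).obj.map g.op).hom t = ((cPt F).obj.map g.op).hom (eT Ts W t)
      rw [eT_res]
      have hg' : ((cPt F).obj.map g.op).hom t = ((cPt F).obj.map g.op).hom (eT T W t) := hg
      rw [eT_res] at hg'
      exact (eT_mono (Finset.subset_biUnion_of_mem id hT) V _ hg'.symm).symm
    have ht : t = eT Ts W t :=
      ConstTF.eq_of_locally_eq (cPt F) t (eT Ts W t) (R Ts) hTs (fun V g hg => hg)
    exact ⟨Ts, fun i => ((cPi F i).hom.app (op W)).hom t, ht⟩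
  · intro s g hg j hj
    have h1 := congrArg (fun x => ((cPi F j).hom.app (op W)).hom x) hg
    simp only [map_sum, map_zero] at h1
    rw [Finset.sum_eq_single j] at h1
    · rwa [pi_inj_same] at h1
    · intro i _ hij
      exact pi_inj_ne W hij _
    · intro h
      exact (h hj).elim

end Main

section Preserves

/-- a cofan of abelian groups whose comparison map from the direct sum is bijective is a
coproduct -/
noncomputable def isColimitOfBijective {I : Type u} (G : I → AddCommGrpCat.{u}) (c : Cofan G)
    (hb : by classical exact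
      Function.Bijective (DirectSum.toAddMonoid (fun i => (c.inj i).hom))) : IsColimit c := by
  classical
  haveI : IsIso ((dsIsColimit G).desc c) := by
    have h : (dsIsColimit G).desc c =
        AddCommGrpCat.ofHom (DirectSum.toAddMonoid (fun i => (c.inj i).hom)) := rfl
    rw [h]
    exact (ConcreteCategory.isIso_iff_bijective _).2 hb
  exact IsColimit.ofPointIso (dsIsColimit G)

/-- sections over a quasi-compact object commute with direct sums of abelian sheaves -/
theorem preservesColimitsOfShape_sections (W : C) (hW : CohCx.IsQcObject (hSh J W))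
    (ι : Type u) :
    PreservesColimitsOfShape (Discrete ι)
      ((sheafSections J AddCommGrpCat.{u}).obj (op W)) := by
  constructor
  intro K
  let F : ι → Sheaf J AddCommGrpCat.{u} := fun i => K.obj ⟨i⟩
  have e : K ≅ Discrete.functor F := Discrete.natIso (fun i => Iso.refl _)
  haveI : PreservesColimit (Discrete.functor F)
      ((sheafSections J AddCommGrpCat.{u}).obj (op W)) := by
    refine preservesColimit_of_preserves_colimit_cocone (cIsColimit F) ?_
    refine (isColimitMapCoconeCofanMkEquiv _ _ _).symm ?_
    exact isColimitOfBijective _ _ (sections_bijective F W hW)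
  exact preservesColimit_of_iso_diagram _ e.symm

end Preserves

end Groth.Agent.Helper3.QcSum
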