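import Mathlib
import Groth.Prelude.Def_ModSite
import Groth.Agent.Lib.Helper3.QcSum2

set_option autoImplicit false
universe u

open CategoryTheory Limits Opposite

namespace Groth.Agent.Helper3.QcSum

section Reflective

universe v₁ v₂ v₃ v₄ u₁ u₂ u₃ u₄ vK uK

variable {P : Type u₁} [Category.{v₁} P] {S : Type u₂} [Category.{v₂} S]
  {S' : Type u₃} [Category.{v₃} S'] {P' : Type u₄} [Category.{v₄} P']
  {K : Type uK} [Category.{vK} K]

/-- a functor out of a reflective subcategory preserves colimits as soon as its composite with
the reflector factors through colimit preserving functors -/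
theorem preservesColimitsOfShape_of_reflective
    (L : P ⥤ S) (R : S ⥤ P) (adj : L ⊣ R) [IsIso adj.counit] (T : S ⥤ S') (T' : P ⥤ P')
    (L' : P' ⥤ S') (e : L ⋙ T ≅ T' ⋙ L') [HasColimitsOfShape K P]
    [PreservesColimitsOfShape K T'] [PreservesColimitsOfShape K L'] :
    PreservesColimitsOfShape K T := by
  constructor
  intro F
  haveI : PreservesColimitsOfShape K (L ⋙ T) := preservesColimitsOfShape_of_natIso e.symm
  haveI : PreservesColimitsOfShape K L := adj.leftAdjoint_preservesColimits.preservesColimitsOfShape
  let c₀ := colimit.cocone (F ⋙ R)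
  have hc₀ : IsColimit c₀ := colimit.isColimit _
  let c₁ := L.mapCocone c₀
  have hc₁ : IsColimit c₁ := isColimitOfPreserves L hc₀
  let e' : (F ⋙ R) ⋙ L ≅ F :=
    Functor.associator F R L ≪≫ Functor.isoWhiskerLeft F (asIso adj.counit) ≪≫ F.rightUnitor
  let c : Cocone F := (Cocone.precompose e'.inv).obj c₁
  have hc : IsColimit c := (IsColimit.precomposeInvEquiv e' c₁).symm hc₁
  refine preservesColimit_of_preserves_colimit_cocone hc ?_
  have h1 : IsColimit (T.mapCocone c₁) := isColimitOfPreserves (L ⋙ T) hc₀
  refine (IsColimit.equivOfNatIsoOfIso (Functor.isoWhiskerRight e' T) (T.mapCocone c₁)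
    (T.mapCocone c) ?_) h1
  exact (Functor.mapCoconePrecompose T).symm

end Reflective

section ToSheaf

variable {C : Type u} [SmallCategory C] {J : GrothendieckTopology C} (R : Sheaf J RingCat.{u})

/-- the forgetful functor from sheaves of modules to abelian sheaves preserves colimits -/
theorem toSheaf_preservesColimitsOfShape (K : Type u) [SmallCategory K] :
    PreservesColimitsOfShape K (SheafOfModules.toSheaf.{u} R) :=
  preservesColimitsOfShape_of_reflective
    (PresheafOfModules.sheafification.{u} (𝟙 R.obj))
    (SheafOfModules.forget.{u} R ⋙ PresheafOfModules.restrictScalars (𝟙 R.obj))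
    (PresheafOfModules.sheafificationAdjunction.{u} (𝟙 R.obj))
    (SheafOfModules.toSheaf.{u} R) (PresheafOfModules.toPresheaf.{u} R.obj)
    (presheafToSheaf J AddCommGrpCat.{u})
    (PresheafOfModules.sheafificationCompToSheaf.{u} (𝟙 R.obj))

end ToSheaf

section S9102

variable {C : Type u} [SmallCategory C] {J : GrothendieckTopology C}

theorem s9102_main (O : Sheaf J CommRingCat.{u}) (W : C)
    (hW : CohCx.IsQcObject ((presheafToSheaf J (Type u)).obj (yoneda.obj W))) (ι : Type u) :
    PreservesColimitsOfShape (Discrete ι)
      (SheafOfModules.toSheaf (ModSite.ringSh O) ⋙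
        (sheafSections J AddCommGrpCat.{u}).obj (op W)) := by
  haveI := toSheaf_preservesColimitsOfShape (ModSite.ringSh O) (Discrete ι)
  haveI := preservesColimitsOfShape_sections W hW ι
  infer_instance

end S9102

end Groth.Agent.Helper3.QcSum
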