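import Mathlib
import Groth.Prelude.Def_ModSite
import Groth.Agent.Lib.Helper3.QcSum3
import Groth.Agent.Lib.Helper5.Misc.FreeOn

set_option autoImplicit false
universe u

open CategoryTheory Limits Opposite

namespace Groth.Agent.Helper3.QcSum

section Additive

universe v₁ u₁

variable {A : Type u₁} [Category.{v₁} A] [Preadditive A] [HasBinaryBiproducts A]

/-- a natural bijection `Hom(P, F) ≃ G(F)` with `G` additive is additive -/
lemma natural_equiv_add (P : A) (G : A ⥤ AddCommGrpCat.{u}) [G.Additive]
    (Ψ : ∀ F : A, (P ⟶ F) ≃ G.obj F)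
    (nat : ∀ {F F' : A} (φ : P ⟶ F) (g : F ⟶ F'), Ψ F' (φ ≫ g) = (G.map g).hom (Ψ F φ))
    {F : A} (φ ψ : P ⟶ F) : Ψ F (φ + ψ) = Ψ F φ + Ψ F ψ := by
  have h1 : φ + ψ = biprod.lift φ ψ ≫ (biprod.fst + biprod.snd) := by
    rw [Preadditive.comp_add, biprod.lift_fst, biprod.lift_snd]
  rw [h1, nat, Functor.map_add]
  change (G.map biprod.fst).hom _ + (G.map biprod.snd).hom _ = _
  rw [← nat, ← nat, biprod.lift_fst, biprod.lift_snd]

end Additive

section S9103

variable {C : Type u} [SmallCategory C] {J : GrothendieckTopology C}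
  (O : Sheaf J CommRingCat.{u}) (U : C)

open Groth.Agent.Lib.Helper5.FreeOn

/-- sections over `U` of a sheaf of modules, as an abelian group -/
noncomputable abbrev GU : ModSite.Mod O ⥤ AddCommGrpCat.{u} :=
  SheafOfModules.toSheaf (ModSite.ringSh O) ⋙ (sheafSections J AddCommGrpCat.{u}).obj (op U)

instance : ((sheafSections J AddCommGrpCat.{u}).obj (op U)).Additive where
  map_add := rfl

instance : (GU O U).Additive := inferInstance

lemma freeOnHomEquiv_add {F : ModSite.Mod O} (φ ψ : ModSite.freeOn O U ⟶ F) :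
    freeOnHomEquiv O U F (φ + ψ) = freeOnHomEquiv O U F φ + freeOnHomEquiv O U F ψ :=
  natural_equiv_add (ModSite.freeOn O U) (GU O U) (fun F => freeOnHomEquiv O U F)
    (fun φ g => freeOnHomEquiv_naturality O U φ g) φ ψ

/-- `Hom(j_{U!} O_U, -)` is the functor of sections over `U` -/
noncomputable def coyonedaFreeOnIso :
    preadditiveCoyoneda.obj (op (ModSite.freeOn O U)) ≅ GU O U :=
  NatIso.ofComponents
    (fun F => AddEquiv.toAddCommGrpIso
      { (freeOnHomEquiv O U F) with
        map_add' := fun φ ψ => freeOnHomEquiv_add O U φ ψ })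
    (by
      intro F F' g
      ext φ
      exact freeOnHomEquiv_naturality O U φ g)

theorem s9103_main
    (hU : CohCx.IsQcObject ((presheafToSheaf J (Type u)).obj (yoneda.obj U))) (ι : Type u) :
    PreservesColimitsOfShape (Discrete ι)
      (preadditiveCoyoneda.obj (op (ModSite.freeOn O U))) := by
  haveI := s9102_main O U hU ι
  exact preservesColimitsOfShape_of_natIso (coyonedaFreeOnIso O U).symm

end S9103

end Groth.Agent.Helper3.QcSum
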