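import Mathlib
import Groth.Prelude.Def_ModSite
import Groth.Prelude.Def_ModSite2
import Groth.Prelude.Def_SpSeq
import Groth.Prelude.Def_CohCx
import Groth.Agent.Lib.Helper3.GSS
import Groth.Agent.Lib.Helper3.ExtRD
import Groth.Agent.Lib.Helper3.AbutIf
import Groth.Agent.Lib.Helper3.QcSum4
import Groth.Agent.Lib.Helper5.Misc.UnitFree
import Groth.Agent.Lib.Helper5.Misc.TensorSheaf
import Groth.Agent.S6150
import Groth.Agent.S0491

set_option autoImplicit false
universe u

open CategoryTheory Limits Opposite MonoidalCategory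

namespace Groth.Agent.Helper3.LocGlobExt

open Groth.Agent.Lib.Helper5.TensorSheaf

variable {C : Type u} [SmallCategory C] {J : GrothendieckTopology C} (O : Sheaf J CommRingCat.{u})

/-- `O ⊗ M ≅ M` -/
noncomputable def leftUnitIso (M : ModSite.Mod O) :
    ((ModSite.tensorBi O).flip.obj M).obj (ModSite.unit O) ≅ M :=
  (shf O).mapIso (λ_ ((fgt O).obj M)) ≪≫
    @asIso _ _ _ _ ((adj O).counit.app M) (isIso_counit_app (O := O) M)


variable (M : ModSite.Mod O) [ModSite.HasSheafHom M]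

/-- global sections as `Hom(O, -)` -/
noncomputable abbrev SΓ : ModSite.Mod O ⥤ AddCommGrpCat.{u} :=
  preadditiveCoyoneda.obj (op (ModSite.unit O))

/-- `O ⊗ M` -/
noncomputable abbrev OM : ModSite.Mod O := ((ModSite.tensorBi O).flip.obj M).obj (ModSite.unit O)

/-- the adjunction bijection `Hom(O ⊗ M, N) ≃ Hom(O, ℋom(M, N))` -/
noncomputable def adjEquiv (N : ModSite.Mod O) :
    (OM O M ⟶ N) ≃ (ModSite.sheafHom M ⋙ SΓ O).obj N :=
  (ModSite.sheafHomAdj M).homEquiv (ModSite.unit O) N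

lemma adjEquiv_nat {N N' : ModSite.Mod O} (φ : OM O M ⟶ N) (g : N ⟶ N') :
    adjEquiv O M N' (φ ≫ g) = ((ModSite.sheafHom M ⋙ SΓ O).map g).hom (adjEquiv O M N φ) := by
  exact (ModSite.sheafHomAdj M).homEquiv_naturality_right φ g

/-- `Hom(O ⊗ M, -) ≅ Γ ∘ ℋom(M, -)` -/
noncomputable def compIso₁ :
    preadditiveCoyoneda.obj (op (OM O M)) ≅ ModSite.sheafHom M ⋙ SΓ O :=
  NatIso.ofComponents
    (fun N => AddEquiv.toAddCommGrpIso
      { (adjEquiv O M N) with
        map_add' := fun φ ψ =>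
          Groth.Agent.Helper3.QcSum.natural_equiv_add (OM O M) (ModSite.sheafHom M ⋙ SΓ O)
            (fun N => adjEquiv O M N) (fun φ g => adjEquiv_nat O M φ g) φ ψ })
    (by
      intro N N' g
      ext φ
      exact adjEquiv_nat O M φ g)

/-- `Γ ∘ ℋom(M, -) ≅ Hom(M, -)` -/
noncomputable def compIso :
    ModSite.sheafHom M ⋙ SΓ O ≅ preadditiveCoyoneda.obj (op M) :=
  (compIso₁ O M).symm ≪≫ preadditiveCoyoneda.mapIso (leftUnitIso O M).symm.op


section Main

variable [HasInjectiveResolutions (ModSite.Mod O)] [HasExt.{u} (ModSite.Mod O)]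

open Groth.Agent.Lib.Helper5.Misc.UnitFree in
lemma subsingleton_ext_unit_of_totallyAcyclic (N : ModSite.Mod O)
    (hN : CohCx.IsTotallyAcyclic (ModSite.toAb N)) (m : ℕ) :
    Subsingleton (Abelian.Ext.{u} (ModSite.unit O) N (m + 1)) := by
  obtain ⟨e⟩ := Groth.Agent.Lib.Helper5.Misc.ExtFreeHK.nonempty_ext_addEquiv_HK
    (R := ModSite.ringSh O) (K₀ J) N (m + 1)
  haveI := hN (K₀ J) m
  exact ((extAddEquivOfIso (unitIso J (ModSite.ringSh O)) N (m + 1)).trans e).toEquiv.subsingleton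

lemma isZero_rightDerived_SΓ (N : ModSite.Mod O)
    (hN : CohCx.IsTotallyAcyclic (ModSite.toAb N)) (q : ℕ) (hq : 0 < q) :
    IsZero (((SΓ O).rightDerived q).obj N) := by
  obtain ⟨m, rfl⟩ : ∃ m, q = m + 1 := ⟨q - 1, by omega⟩
  haveI := subsingleton_ext_unit_of_totallyAcyclic O N hN m
  exact (AddCommGrpCat.isZero_of_subsingleton _).of_iso
    (Groth.Agent.Helper3.ExtRD.coyonedaRightDerivedIso (ModSite.unit O) N (m + 1))

/-- **The local-to-global Ext spectral sequence** (existence form). -/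
theorem main (N : ModSite.Mod O) :
    ∃ (E : E₂CohomologicalSpectralSequence AddCommGrpCat.{u})
      (a : SpSeq.Abutment E (fun n : ℤ =>
        if 0 ≤ n then AddCommGrpCat.of (Abelian.Ext.{u} M N n.toNat)
          else AddCommGrpCat.of PUnit.{u + 1})),
      (∀ n : ℤ, a.IsFinite n) ∧ SpSeq.IsBounded E ∧
      ∀ p q : ℤ, Nonempty ((E.page 2 le_rfl).X (p, q) ≅
        (if 0 ≤ p ∧ 0 ≤ q then
          AddCommGrpCat.of (ModSite.HC O ((ModSite.extSh M q.toNat).obj N) p.toNat)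
          else AddCommGrpCat.of PUnit.{u + 1})) := by
  have hT : ∀ Q : ModSite.Mod O, Injective Q → ∀ q : ℕ, 0 < q →
      IsZero (((SΓ O).rightDerived q).obj ((ModSite.sheafHom M).obj Q)) := by
    intro Q hQ q hq
    exact isZero_rightDerived_SΓ O _ (Groth.Agent.S6150.result O M Q) q hq
  obtain ⟨E, a, hfin, hbdd, hE⟩ := Groth.Agent.Helper3.GSS.main' (ModSite.sheafHom M) (SΓ O) hT N
  obtain ⟨a', ha'⟩ := Groth.Agent.Helper3.AbutIf.exists_abutment_if
    (fun k => ((ModSite.sheafHom M ⋙ SΓ O).rightDerived k).obj N)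
    (fun k => AddCommGrpCat.of (Abelian.Ext.{u} M N k)) a hfin
    (fun k => ⟨Groth.Agent.Helper3.ExtRD.rightDerivedIsoExt (ModSite.sheafHom M ⋙ SΓ O) M
      (compIso O M) N k⟩)
  refine ⟨E, a', ha', hbdd, ?_⟩
  intro p q
  refine Groth.Agent.Helper3.AbutIf.nonempty_iso_if _ (hE p q) ?_
  obtain ⟨e⟩ := Groth.Agent.S0491.result J (ModSite.ringSh O)
    ((ModSite.extSh M q.toNat).obj N) p.toNat
  exact ⟨Groth.Agent.Helper3.ExtRD.coyonedaRightDerivedIso (ModSite.unit O) _ p.toNat ≪≫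
    e.toAddCommGrpIso⟩

end Main

end Groth.Agent.Helper3.LocGlobExt
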