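import Mathlib
import Groth.Prelude.Def_ModSite
import Groth.Prelude.Def_ExtSupp
import Groth.Agent.Lib.Helper5.Misc.TensorSES
import Groth.Agent.Lib.Helper5.Misc.SheafModGen

/-!
# Exactness of the internal hom `ℋom(-, Q)` into an injective module (helper3)
-/
set_option autoImplicit false
universe u
open CategoryTheory CategoryTheory.Limits

namespace Groth.Agent.Helper3.SHomEx

section general
variable {C D : Type*} [Category C] [Category D] {L₁ L₂ : C ⥤ D} {R₁ R₂ : D ⥤ C}

lemma homEquiv_conj (adj₁ : L₁ ⊣ R₁) (adj₂ : L₂ ⊣ R₂) (α : L₂ ⟶ L₁) {P : C} {Q : D}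
    (k : L₁.obj P ⟶ Q) :
    adj₁.homEquiv P Q k ≫ (conjugateEquiv adj₁ adj₂ α).app Q =
      adj₂.homEquiv P Q (α.app P ≫ k) := by
  rw [Adjunction.homEquiv_unit, Adjunction.homEquiv_unit, Category.assoc,
    (conjugateEquiv adj₁ adj₂ α).naturality k, ← Category.assoc, unit_conjugateEquiv,
    Category.assoc, ← Functor.map_comp]

end general

open Groth.Agent.Lib.Helper5

variable {C : Type u} [SmallCategory C] {J : GrothendieckTopology C} {O : Sheaf J CommRingCat.{u}}

instance additive_obj (N : ModSite.Mod O) : ((ModSite.tensorBi O).obj N).Additive :=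
  Functor.additive_of_iso (TensorSES.objIsoFlipObj N).symm

/-- every module has an internal hom -/
theorem hasSheafHom (F : ModSite.Mod O) : ModSite.HasSheafHom F :=
  SheafModGen.isLeftAdjoint_of_preservesColimits (ModSite.ringSh O) ((ModSite.tensorBi O).flip.obj F)

lemma homEquiv_sheafHomMap {M M' : ModSite.Mod O} [ModSite.HasSheafHom M] [ModSite.HasSheafHom M']
    (g : M' ⟶ M) {N Q : ModSite.Mod O} (k : ((ModSite.tensorBi O).flip.obj M).obj N ⟶ Q) :
    (ModSite.sheafHomAdj M).homEquiv N Q k ≫ (ExtSupp.sheafHomMap g).app Q =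
      (ModSite.sheafHomAdj M').homEquiv N Q (((ModSite.tensorBi O).obj N).map g ≫ k) :=
  homEquiv_conj (ModSite.sheafHomAdj M) (ModSite.sheafHomAdj M') ((ModSite.tensorBi O).flip.map g) k

lemma homEquiv_zero' {M : ModSite.Mod O} [ModSite.HasSheafHom M] (N Q : ModSite.Mod O) :
    (ModSite.sheafHomAdj M).homEquiv N Q 0 = 0 := by
  haveI : (ModSite.sheafHom M).Additive := (ModSite.sheafHomAdj M).right_adjoint_additive
  rw [Adjunction.homEquiv_unit, Functor.map_zero, comp_zero]

lemma right_exact (S : ShortComplex (ModSite.Mod O)) (hS : S.ShortExact) (N : ModSite.Mod O) :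
    (S.map ((ModSite.tensorBi O).obj N)).Exact ∧ Epi (((ModSite.tensorBi O).obj N).map S.g) :=
  (Functor.preservesFiniteColimits_iff_forall_exact_map_and_epi _).mp inferInstance S hS

section ses

variable (S : ShortComplex (ModSite.Mod O))
  [ModSite.HasSheafHom S.X₁] [ModSite.HasSheafHom S.X₂] [ModSite.HasSheafHom S.X₃]
  (Q : ModSite.Mod O)

lemma zero : (ExtSupp.sheafHomMap S.g).app Q ≫ (ExtSupp.sheafHomMap S.f).app Q = 0 := by
  have key : ∀ {N : ModSite.Mod O} (x : N ⟶ (ModSite.sheafHom S.X₃).obj Q),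
      x ≫ (ExtSupp.sheafHomMap S.g).app Q ≫ (ExtSupp.sheafHomMap S.f).app Q = 0 := by
    intro N x
    obtain ⟨k, rfl⟩ := ((ModSite.sheafHomAdj S.X₃).homEquiv N Q).surjective x
    rw [← Category.assoc, homEquiv_sheafHomMap, homEquiv_sheafHomMap, ← Category.assoc,
      ← Functor.map_comp, S.zero, Functor.map_zero, zero_comp]
    exact homEquiv_zero' N Q
  simpa using key (𝟙 _)

variable {S} (hS : S.ShortExact)
include hS

lemma mono_g : Mono ((ExtSupp.sheafHomMap S.g).app Q) := by
  apply Preadditive.mono_of_cancel_zero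
  intro N x hx
  obtain ⟨k, rfl⟩ := ((ModSite.sheafHomAdj S.X₃).homEquiv N Q).surjective x
  rw [homEquiv_sheafHomMap] at hx
  have hk : ((ModSite.tensorBi O).obj N).map S.g ≫ k = 0 := by
    apply ((ModSite.sheafHomAdj S.X₂).homEquiv N Q).injective
    rw [hx, homEquiv_zero']
  haveI := (right_exact S hS N).2
  have : k = 0 := by
    rw [← cancel_epi (((ModSite.tensorBi O).obj N).map S.g), hk, comp_zero]
  rw [this, homEquiv_zero']

lemma exact : (ShortComplex.mk _ _ (zero S Q)).Exact := by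
  rw [ShortComplex.exact_iff_exact_up_to_refinements]
  intro N x₂ hx₂
  dsimp at x₂ hx₂ ⊢
  obtain ⟨k, rfl⟩ := ((ModSite.sheafHomAdj S.X₂).homEquiv N Q).surjective x₂
  rw [homEquiv_sheafHomMap] at hx₂
  have hk : ((ModSite.tensorBi O).obj N).map S.f ≫ k = 0 := by
    apply ((ModSite.sheafHomAdj S.X₁).homEquiv N Q).injective
    rw [hx₂, homEquiv_zero']
  obtain ⟨hex, hepi⟩ := right_exact S hS N
  haveI : Epi (S.map ((ModSite.tensorBi O).obj N)).g := hepi
  refine ⟨N, 𝟙 N, inferInstance, (ModSite.sheafHomAdj S.X₃).homEquiv N Q (hex.desc k hk), ?_⟩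
  rw [Category.id_comp, homEquiv_sheafHomMap]
  congr 1
  exact (hex.g_desc k hk).symm

lemma epi_f [Injective Q] : Epi ((ExtSupp.sheafHomMap S.f).app Q) := by
  obtain ⟨P, π, hP, hπ⟩ := TensorFlat.exists_flat_epi ((ModSite.sheafHom S.X₁).obj Q)
  haveI := hπ
  haveI := hS.mono_f
  haveI : Mono (((ModSite.tensorBi O).obj P).map S.f) :=
    TensorSES.mono_obj_map_of_isFlat P hP S.f
  let h := ((ModSite.sheafHomAdj S.X₁).homEquiv P Q).symm π
  let k := Injective.factorThru h (((ModSite.tensorBi O).obj P).map S.f)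
  have hk : ((ModSite.tensorBi O).obj P).map S.f ≫ k = h := Injective.comp_factorThru _ _
  have e : (ModSite.sheafHomAdj S.X₂).homEquiv P Q k ≫ (ExtSupp.sheafHomMap S.f).app Q = π := by
    rw [homEquiv_sheafHomMap, hk]
    exact Equiv.apply_symm_apply _ _
  exact epi_of_epi_fac e

/-- `0 ⟶ ℋom(S.X₃, Q) ⟶ ℋom(S.X₂, Q) ⟶ ℋom(S.X₁, Q) ⟶ 0` is short exact for `Q` injective -/
theorem shortExact [Injective Q] : (ShortComplex.mk _ _ (zero S Q)).ShortExact :=
  { exact := exact Q hS, mono_f := mono_g Q hS, epi_g := epi_f Q hS }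

end ses

end Groth.Agent.Helper3.SHomEx
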