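import Mathlib
import Groth.Prelude.Def_CohPull

/-!
# The edge map `H^p(Y, f_* N) → H^p(X, N)` for abelian sheaves: naturality, δ-compatibility, degree 0
-/

set_option autoImplicit false
universe u
open CategoryTheory CategoryTheory.Limits Opposite TopologicalSpace
open CategoryTheory.Abelian

namespace Groth.Agent.Helper3.EdgeAb

variable {X Y : TopCat.{u}} (f : X ⟶ Y)

/-- the counit `f⁻¹ f_* N ⟶ N` -/
noncomputable abbrev cu (N : CohTop.Ab X) : (CohPull.inv f).obj ((CohTop.push f).obj N) ⟶ N :=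
  (CohPull.invPushAdj f).counit.app N

/-- the edge map on abelian sheaves -/
noncomputable def edge (N : CohTop.Ab X) (p : ℕ) :
    Sheaf.H ((CohTop.push f).obj N) p →+ Sheaf.H N p :=
  (Sheaf.H.map (cu f N) p).comp (CohPull.pullAb f ((CohTop.push f).obj N) p)

theorem pullAb_apply (M : CohTop.Ab Y) (p : ℕ) (x : Sheaf.H M p) :
    CohPull.pullAb f M p x =
      (Ext.mk₀ (CohPull.oneTo f)).comp (x.mapExactFunctor (CohPull.inv f)) (zero_add p) := rfl

theorem edge_apply (N : CohTop.Ab X) (p : ℕ) (x : Sheaf.H ((CohTop.push f).obj N) p) :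
    edge f N p x =
      ((Ext.mk₀ (CohPull.oneTo f)).comp (x.mapExactFunctor (CohPull.inv f)) (zero_add p)).comp
        (Ext.mk₀ (cu f N)) (add_zero p) := rfl

/-- naturality of `pullAb` -/
theorem pullAb_map {M M' : CohTop.Ab Y} (φ : M ⟶ M') (p : ℕ) (x : Sheaf.H M p) :
    CohPull.pullAb f M' p (Sheaf.H.map φ p x) =
      Sheaf.H.map ((CohPull.inv f).map φ) p (CohPull.pullAb f M p x) := by
  rw [pullAb_apply, pullAb_apply, Sheaf.H.map_apply, Sheaf.H.map_apply,
    Ext.mapExactFunctor_comp, Ext.mapExactFunctor_mk₀, Ext.comp_assoc_of_third_deg_zero]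

/-- naturality of the edge map -/
theorem edge_map {N N' : CohTop.Ab X} (φ : N ⟶ N') (p : ℕ)
    (x : Sheaf.H ((CohTop.push f).obj N) p) :
    edge f N' p (Sheaf.H.map ((CohTop.push f).map φ) p x) = Sheaf.H.map φ p (edge f N p x) := by
  change Sheaf.H.map (cu f N') p (CohPull.pullAb f _ p (Sheaf.H.map ((CohTop.push f).map φ) p x)) =
    Sheaf.H.map φ p (Sheaf.H.map (cu f N) p (CohPull.pullAb f _ p x))
  rw [pullAb_map, ← Sheaf.H.map_comp_apply, ← Sheaf.H.map_comp_apply]
  congr 2
  exact (CohPull.invPushAdj f).counit.naturality φ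

/-- the direct image of a short complex, as an explicit short complex -/
noncomputable abbrev pushS (S : ShortComplex (CohTop.Ab X)) : ShortComplex (CohTop.Ab Y) :=
  ShortComplex.mk ((CohTop.push f).map S.f) ((CohTop.push f).map S.g)
    (by rw [← Functor.map_comp, S.zero, Functor.map_zero])

/-- the morphism of short complexes `f⁻¹ f_* S ⟶ S` given by the counit -/
noncomputable def cuS (S : ShortComplex (CohTop.Ab X)) :
    (pushS f S).map (CohPull.inv f) ⟶ S where
  τ₁ := cu f S.X₁
  τ₂ := cu f S.X₂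
  τ₃ := cu f S.X₃
  comm₁₂ := ((CohPull.invPushAdj f).counit.naturality S.f).symm
  comm₂₃ := ((CohPull.invPushAdj f).counit.naturality S.g).symm

theorem assoc_chain {C : Type*} [Category* C] [Abelian C] [HasExt.{u} C] {Z A B₃ B₁ D₃ D₁ : C}
    {p : ℕ} (o : Ext Z A 0) (y : Ext A B₃ p) (e'' : Ext B₃ B₁ 1) (c₁ : Ext B₁ D₁ 0)
    (c₃ : Ext B₃ D₃ 0) (e : Ext D₃ D₁ 1)
    (hnat : e''.comp c₁ (add_zero 1) = c₃.comp e (zero_add 1)) :
    (o.comp (y.comp e'' rfl) (zero_add (p + 1))).comp c₁ (add_zero (p + 1)) =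
      ((o.comp y (zero_add p)).comp c₃ (add_zero p)).comp e rfl := by
  rw [Ext.comp_assoc_of_third_deg_zero, Ext.comp_assoc_of_third_deg_zero, hnat,
    Ext.comp_assoc_of_second_deg_zero]
  rw [Ext.comp_assoc o y (c₃.comp e (zero_add 1)) (zero_add p) rfl (by omega)]

/-- compatibility of the edge map with connecting homomorphisms -/
theorem edge_delta (S : ShortComplex (CohTop.Ab X)) (hS : S.ShortExact)
    (hS' : (pushS f S).ShortExact) (p : ℕ)
    (x : Sheaf.H ((CohTop.push f).obj S.X₃) p) :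
    edge f S.X₁ (p + 1) (x.comp hS'.extClass rfl) = (edge f S.X₃ p x).comp hS.extClass rfl := by
  have hS'' : ((pushS f S).map (CohPull.inv f)).ShortExact :=
    hS'.map_of_exact (CohPull.inv f)
  have hnat := ShortComplex.ShortExact.extClass_naturality hS'' hS (cuS f S)
  have e2 : Ext.mapExactFunctor (CohPull.inv f) hS'.extClass = hS''.extClass :=
    Ext.mapExactFunctor_extClass (CohPull.inv f) hS'
  have e1 : Ext.mapExactFunctor (CohPull.inv f) (x.comp hS'.extClass rfl) =
      (Ext.mapExactFunctor (CohPull.inv f) x).comp hS''.extClass rfl :=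
    (Ext.mapExactFunctor_comp (CohPull.inv f) x hS'.extClass rfl).trans
      (congrArg (fun t => (Ext.mapExactFunctor (CohPull.inv f) x).comp t rfl) e2)
  have step1 : edge f S.X₁ (p + 1) (x.comp hS'.extClass rfl) =
      ((Ext.mk₀ (CohPull.oneTo f)).comp
        ((Ext.mapExactFunctor (CohPull.inv f) x).comp hS''.extClass rfl) (zero_add (p + 1))).comp
        (Ext.mk₀ (cu f S.X₁)) (add_zero (p + 1)) :=
    congrArg (fun t => ((Ext.mk₀ (CohPull.oneTo f)).comp t (zero_add (p + 1))).comp
        (Ext.mk₀ (cu f S.X₁)) (add_zero (p + 1))) e1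
  refine step1.trans ?_
  exact assoc_chain (Ext.mk₀ (CohPull.oneTo f)) (Ext.mapExactFunctor (CohPull.inv f) x)
    hS''.extClass (Ext.mk₀ (cu f S.X₁)) (Ext.mk₀ (cu f S.X₃)) hS.extClass hnat

/-- in degree `0` the edge map is the identity on global sections -/
theorem equiv₀_edge (N : CohTop.Ab X) (s : Sheaf.H ((CohTop.push f).obj N) 0) :
    Sheaf.H.equiv₀ N isTerminalTop (edge f N 0 s) =
      Sheaf.H.equiv₀ ((CohTop.push f).obj N) isTerminalTop s := by
  change Sheaf.H.equiv₀ N isTerminalTop (Sheaf.H.map (cu f N) 0 (CohPull.pullAb f _ 0 s)) = _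
  rw [← Sheaf.H.equiv₀_naturality, CohPull.equiv₀_pullAb]
  have h := (CohPull.invPushAdj f).right_triangle_components N
  have h2 := congr_arg (fun t => (t.hom.app (op ⊤))
    (Sheaf.H.equiv₀ ((CohTop.push f).obj N) isTerminalTop s)) h
  exact h2

theorem edge_zero_bijective (N : CohTop.Ab X) : Function.Bijective (edge f N 0) := by
  have h : ∀ s, edge f N 0 s =
      (Sheaf.H.equiv₀ N isTerminalTop).symm
        (Sheaf.H.equiv₀ ((CohTop.push f).obj N) isTerminalTop s) := by
    intro s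
    rw [AddEquiv.eq_symm_apply]
    exact equiv₀_edge f N s
  have : (edge f N 0 : _ → _) = (Sheaf.H.equiv₀ N isTerminalTop).symm ∘
      (Sheaf.H.equiv₀ ((CohTop.push f).obj N) isTerminalTop (T := ⊤)) := funext h
  rw [this]
  exact (AddEquiv.bijective _).comp (AddEquiv.bijective _)

end Groth.Agent.Helper3.EdgeAb
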