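import Mathlib
import Groth.Prelude.Def_CohPull
import Groth.Agent.Lib.Helper3.EdgeAb1

/-!
# Induction step for bijectivity of the edge map
-/

set_option autoImplicit false
universe u
open CategoryTheory CategoryTheory.Limits Opposite TopologicalSpace
open CategoryTheory.Abelian

namespace Groth.Agent.Helper3.EdgeAb

variable {X Y : TopCat.{u}} (f : X ⟶ Y)

/-- dimension shifting step: bijectivity of the edge map in degree `p + 1` for the kernel of a
short exact sequence whose middle term is acyclic in degree `p + 1` on both sides -/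
theorem edge_succ_bijective (S : ShortComplex (CohTop.Ab X)) (hS : S.ShortExact)
    (hS' : (pushS f S).ShortExact) (p : ℕ)
    (hX : Subsingleton (Sheaf.H S.X₂ (p + 1)))
    (hY : Subsingleton (Sheaf.H ((CohTop.push f).obj S.X₂) (p + 1)))
    (h₂ : Function.Bijective (edge f S.X₂ p)) (h₃ : Function.Bijective (edge f S.X₃ p)) :
    Function.Bijective (edge f S.X₁ (p + 1)) := by
  constructor
  · rw [injective_iff_map_eq_zero]
    intro x hx
    have hx2 : x.comp (Ext.mk₀ (pushS f S).f) (add_zero (p + 1)) = 0 :=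
      Subsingleton.elim _ _
    obtain ⟨w, hw⟩ := Ext.covariant_sequence_exact₁ _ hS' x hx2 (n₀ := p) rfl
    have h1 : (edge f S.X₃ p w).comp hS.extClass rfl = 0 := by
      rw [← edge_delta f S hS hS' p w, hw, hx]
    obtain ⟨v, hv⟩ := Ext.covariant_sequence_exact₃ _ hS (edge f S.X₃ p w) rfl h1
    obtain ⟨v', rfl⟩ := h₂.2 v
    have h2 : edge f S.X₃ p (Sheaf.H.map ((CohTop.push f).map S.g) p v') = edge f S.X₃ p w := by
      rw [edge_map]
      exact hv
    have h3 := h₃.1 h2
    rw [← hw, ← h3]
    exact (Ext.comp_assoc_of_second_deg_zero v' (Ext.mk₀ (pushS f S).g)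
      hS'.extClass rfl).trans
      ((congrArg (fun t => v'.comp t rfl) hS'.comp_extClass).trans (Ext.comp_zero _ _ _ _ _))
  · intro y
    have hy2 : y.comp (Ext.mk₀ S.f) (add_zero (p + 1)) = 0 := Subsingleton.elim _ _
    obtain ⟨z, hz⟩ := Ext.covariant_sequence_exact₁ _ hS y hy2 (n₀ := p) rfl
    obtain ⟨w, rfl⟩ := h₃.2 z
    exact ⟨w.comp hS'.extClass rfl, (edge_delta f S hS hS' p w).trans hz⟩

end Groth.Agent.Helper3.EdgeAb
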