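import Mathlib
import Groth.Prelude.Def_CohPull
import Groth.Agent.Lib.Helper3.EdgeAb1

/-!
# The edge map of O-modules is the edge map of the underlying abelian sheaves
-/

set_option autoImplicit false
universe u
open CategoryTheory CategoryTheory.Limits Opposite TopologicalSpace AlgebraicGeometry
open CategoryTheory.Abelian

namespace Groth.Agent.Helper3.EdgeMod

open Groth.Agent.Helper3.EdgeAb

variable {X Y : Scheme.{u}} (f : X ⟶ Y)

/-- `θ` followed by the counit of modules is the counit of abelian sheaves -/
theorem theta_counit (G : X.Modules) :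
    CohPull.theta f ((Scheme.Modules.pushforward f).obj G) ≫
      (SheafOfModules.toSheaf X.ringCatSheaf).map
        ((Scheme.Modules.pullbackPushforwardAdjunction f).counit.app G) =
    cu f.base (Coh.toAb G) := by
  apply ((CohPull.invPushAdj f.base).homEquiv _ _).injective
  have h1 : (CohPull.invPushAdj f.base).homEquiv _ _
      (CohPull.theta f ((Scheme.Modules.pushforward f).obj G)) =
      (SheafOfModules.toSheaf Y.ringCatSheaf).map
        ((Scheme.Modules.pullbackPushforwardAdjunction f).unit.app
          ((Scheme.Modules.pushforward f).obj G)) := Equiv.apply_symm_apply _ _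
  have h2 : (CohPull.invPushAdj f.base).homEquiv _ _ (cu f.base (Coh.toAb G)) = 𝟙 _ := by
    rw [Adjunction.homEquiv_unit]
    exact (CohPull.invPushAdj f.base).right_triangle_components (Coh.toAb G)
  have h3 := (Scheme.Modules.pullbackPushforwardAdjunction f).right_triangle_components G
  have h4 := ((SheafOfModules.toSheaf Y.ringCatSheaf).map_comp _ _).symm.trans
    ((congrArg (SheafOfModules.toSheaf Y.ringCatSheaf).map h3).trans
      ((SheafOfModules.toSheaf Y.ringCatSheaf).map_id _))
  refine (Adjunction.homEquiv_naturality_right _ _ _).trans ?_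
  refine (congrArg (fun t => t ≫ (CohTop.push f.base).map
    ((SheafOfModules.toSheaf X.ringCatSheaf).map
      ((Scheme.Modules.pullbackPushforwardAdjunction f).counit.app G))) h1).trans ?_
  exact h4.trans h2.symm

theorem pushEdge_eq (G : X.Modules) (p : ℕ)
    (x : Coh.HH Y ((Scheme.Modules.pushforward f).obj G) p) :
    CohPull.pushEdge f G p x = edge f.base (Coh.toAb G) p x := by
  change Sheaf.H.map _ p (Sheaf.H.map (CohPull.theta f _) p (CohPull.pullAb f.base _ p x)) =
    Sheaf.H.map (cu f.base (Coh.toAb G)) p (CohPull.pullAb f.base _ p x)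
  rw [← Sheaf.H.map_comp_apply, theta_counit]
  rfl

end Groth.Agent.Helper3.EdgeMod
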