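import Mathlib
import Groth.Prelude.Def_CohPull
import Groth.Agent.Lib.Helper3.EdgeAb2
import Groth.Agent.Lib.Helper3.EdgeMod1
import Groth.Agent.Lib.Helper3.RDerL
import Groth.Agent.Lib.Helper3.DeltaEff
import Groth.Agent.Lib.Helper3.GSS
import Groth.Agent.Lib.Helper1.QcExt
import Groth.Agent.Lib.Helper1.RpushComp
import Groth.Agent.Lib.Helper5.MV.Flasque
import Groth.Agent.S0453

/-!
# Bijectivity of the edge map `H^p(Y, f_* G) → H^p(X, G)` when `R^q f_* G = 0` for `q > 0`
-/

set_option autoImplicit false
universe u
open CategoryTheory CategoryTheory.Limits Opposite TopologicalSpace AlgebraicGeometry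
open CategoryTheory.Abelian

namespace Groth.Agent.Helper3.EdgeMod

open Groth.Agent.Helper3.EdgeAb Groth.Agent.Helper1

variable {X Y : Scheme.{u}} (f : X ⟶ Y)

/-- injective modules have flasque underlying abelian sheaves -/
theorem isFlasque_toAb_of_injective (I : X.Modules) [Injective I] :
    TopCat.Sheaf.IsFlasque (Coh.toAb I) where
  epi {U V} i := by
    rw [AddCommGrpCat.epi_iff_surjective]
    have h : V.unop ≤ U.unop := leOfHom i.unop
    exact Groth.Agent.Lib.Helper5.MV.surjective_res_of_injective I h

theorem subsingleton_H_of_injective (I : X.Modules) [Injective I] (p : ℕ) :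
    Subsingleton (Sheaf.H (Coh.toAb I) (p + 1)) := by
  haveI := isFlasque_toAb_of_injective I
  exact Groth.Agent.S0453.result (Coh.toAb I) p

theorem subsingleton_H_push_of_injective (I : X.Modules) [Injective I] (p : ℕ) :
    Subsingleton (Sheaf.H ((CohTop.push f.base).obj (Coh.toAb I)) (p + 1)) := by
  haveI := isFlasque_toAb_of_injective I
  haveI : TopCat.Sheaf.IsFlasque ((CohTop.push f.base).obj (Coh.toAb I)) :=
    TopCat.Sheaf.IsFlasque.pushforward_isFlasque (Coh.toAb I) f.base
  exact Groth.Agent.S0453.result _ p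

variable [HasInjectiveResolutions X.Modules]

/-- modules acyclic for `f_*` -/
def Acy (G : X.Modules) : Prop := ∀ q : ℕ, 0 < q → IsZero ((Coh.Rpush f q).obj G)

theorem acy_of_injective (I : X.Modules) [Injective I] : Acy f I := by
  intro q hq
  obtain ⟨m, rfl⟩ : ∃ m, q = m + 1 := ⟨q - 1, by omega⟩
  exact Functor.isZero_rightDerived_obj_injective_succ _ m I

section ses

variable (S : ShortComplex X.Modules) (hS : S.ShortExact)

include hS in
theorem acy_X₃ (h₁ : Acy f S.X₁) (h₂ : Acy f S.X₂) : Acy f S.X₃ := by
  haveI := GSS.enoughInjectives_of_hasInjectiveResolutions X.Modules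
  intro q hq
  have ex := (RDerL.derivedLES (Scheme.Modules.pushforward f)).exact₃ S hS q (q + 1) rfl
  exact ex.isZero_of_both_zeros ((h₂ q hq).eq_of_src _ _) ((h₁ (q + 1) (by omega)).eq_of_tgt _ _)

include hS in
theorem epi_push_g (h₁ : Acy f S.X₁) : Epi ((Scheme.Modules.pushforward f).map S.g) := by
  haveI := GSS.enoughInjectives_of_hasInjectiveResolutions X.Modules
  have ex := (RDerL.derivedLES (Scheme.Modules.pushforward f)).exact₃ S hS 0 1 rfl
  have hepi : Epi (((Scheme.Modules.pushforward f).rightDerived 0).map S.g) :=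
    ex.epi_f ((h₁ 1 (by omega)).eq_of_tgt _ _)
  have hnat := (Scheme.Modules.pushforward f).rightDerivedZeroIsoSelf.hom.naturality S.g
  have : (Scheme.Modules.pushforward f).map S.g =
      (Scheme.Modules.pushforward f).rightDerivedZeroIsoSelf.inv.app S.X₂ ≫
        ((Scheme.Modules.pushforward f).rightDerived 0).map S.g ≫
          (Scheme.Modules.pushforward f).rightDerivedZeroIsoSelf.hom.app S.X₃ := by
    rw [hnat, ← Category.assoc, ← NatTrans.comp_app, Iso.inv_hom_id, NatTrans.id_app,
      Category.id_comp]
  rw [this]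
  infer_instance

include hS in
theorem shortExact_push (h₁ : Acy f S.X₁) : (S.map (Scheme.Modules.pushforward f)).ShortExact := by
  haveI := epi_push_g f S hS h₁
  haveI := hS.mono_f
  exact ShortComplex.ShortExact.mk' (hS.exact.map_of_mono_of_preservesKernel _ hS.mono_f inferInstance)
    (by change Mono ((Scheme.Modules.pushforward f).map S.f); infer_instance)
    (by change Epi ((Scheme.Modules.pushforward f).map S.g); infer_instance)

end ses

end Groth.Agent.Helper3.EdgeMod

namespace Groth.Agent.Helper3.EdgeMod

open Groth.Agent.Helper3.EdgeAb Groth.Agent.Helper1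

variable {X Y : Scheme.{u}} (f : X ⟶ Y) [HasInjectiveResolutions X.Modules]

/-- the underlying short complex of abelian sheaves, in explicit form -/
noncomputable abbrev SabE (S : ShortComplex X.Modules) : ShortComplex (CohTop.Ab X.toTopCat) :=
  ShortComplex.mk ((QcExt.T X).map S.f) ((QcExt.T X).map S.g)
    (by rw [← Functor.map_comp, S.zero, Functor.map_zero])

theorem SabE_shortExact {S : ShortComplex X.Modules} (hS : S.ShortExact) : (SabE S).ShortExact :=
  QcExt.Sab_shortExact hS

theorem pushS_SabE_shortExact {S : ShortComplex X.Modules} (hS : S.ShortExact)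
    (h₁ : Acy f S.X₁) : (pushS f.base (SabE S)).ShortExact :=
  QcExt.Sab_shortExact (shortExact_push f S hS h₁)

/-- **the edge map is bijective for `f_*`-acyclic modules** -/
theorem pushEdge_bijective (p : ℕ) :
    ∀ G : X.Modules, Acy f G → Function.Bijective (CohPull.pushEdge f G p) := by
  haveI := GSS.enoughInjectives_of_hasInjectiveResolutions X.Modules
  induction p with
  | zero =>
    intro G _
    have h : (CohPull.pushEdge f G 0 : _ → _) = edge f.base (Coh.toAb G) 0 :=
      funext (pushEdge_eq f G 0)
    rw [h]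
    exact edge_zero_bijective f.base (Coh.toAb G)
  | succ p ih =>
    intro G hG
    have h : (CohPull.pushEdge f G (p + 1) : _ → _) = edge f.base (Coh.toAb G) (p + 1) :=
      funext (pushEdge_eq f G (p + 1))
    rw [h]
    let S := DeltaEff.sc (Injective.ι G)
    have hS : S.ShortExact := DeltaEff.sc_shortExact (Injective.ι G)
    have h₂ : Acy f S.X₂ := acy_of_injective f (Injective.under G)
    have h₃ : Acy f S.X₃ := acy_X₃ f S hS hG h₂
    have b₂ := ih S.X₂ h₂
    have b₃ := ih S.X₃ h₃
    have e₂ : (CohPull.pushEdge f S.X₂ p : _ → _) = edge f.base (Coh.toAb S.X₂) p :=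
      funext (pushEdge_eq f S.X₂ p)
    have e₃ : (CohPull.pushEdge f S.X₃ p : _ → _) = edge f.base (Coh.toAb S.X₃) p :=
      funext (pushEdge_eq f S.X₃ p)
    rw [e₂] at b₂
    rw [e₃] at b₃
    exact edge_succ_bijective f.base (SabE S) (SabE_shortExact hS)
      (pushS_SabE_shortExact f hS hG) p
      (subsingleton_H_of_injective (Injective.under G) p)
      (subsingleton_H_push_of_injective f (Injective.under G) p) b₂ b₃

end Groth.Agent.Helper3.EdgeMod
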