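import Mathlib

/-!
# Long exact sequence of right derived functors for a sequence of functors which is short exact
on injective objects (helper3)
-/
set_option autoImplicit false
universe v v' u u'
open CategoryTheory CategoryTheory.Limits

namespace Groth.Agent.Helper3.RDLes

section conj
variable {C : Type*} [Category C] [HasZeroMorphisms C]

lemma exact_conj {X₁ X₂ X₃ Y₁ Y₂ Y₃ : C} (e₁ : X₁ ≅ Y₁) (e₂ : X₂ ≅ Y₂) (e₃ : X₃ ≅ Y₃)
    (f : Y₁ ⟶ Y₂) (g : Y₂ ⟶ Y₃) (w : f ≫ g = 0) (hex : (ShortComplex.mk f g w).Exact)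
    (f' : X₁ ⟶ X₂) (g' : X₂ ⟶ X₃) (hf : f' = e₁.hom ≫ f ≫ e₂.inv)
    (hg : g' = e₂.hom ≫ g ≫ e₃.inv) :
    ∃ w' : f' ≫ g' = 0, (ShortComplex.mk f' g' w').Exact := by
  subst hf hg
  have w' : (e₁.hom ≫ f ≫ e₂.inv) ≫ (e₂.hom ≫ g ≫ e₃.inv) = 0 := by
    simp [reassoc_of% w]
  refine ⟨w', ShortComplex.exact_of_iso ?_ hex⟩
  exact ShortComplex.isoMk e₁.symm e₂.symm e₃.symm (by simp) (by simp)

end conj

variable {A : Type u} [Category.{v} A] [Abelian A] {B : Type u'} [Category.{v'} B] [Abelian B]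
  {T₁ T₂ T₃ : A ⥤ B} [T₁.Additive] [T₂.Additive] [T₃.Additive]

/-- the sequence of functors `T₁ ⟶ T₂ ⟶ T₃` is short exact on injective objects -/
def Hyp (α : T₁ ⟶ T₂) (β : T₂ ⟶ T₃) : Prop :=
  ∀ Q : A, Injective Q → ∃ w : α.app Q ≫ β.app Q = 0,
    (ShortComplex.mk (α.app Q) (β.app Q) w).ShortExact

variable {α : T₁ ⟶ T₂} {β : T₂ ⟶ T₃}

/-- the short complex of complexes `T₁ I ⟶ T₂ I ⟶ T₃ I` -/
noncomputable def SC (h : Hyp α β) {X : A} (I : InjectiveResolution X) :
    ShortComplex (CochainComplex B ℕ) :=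
  ShortComplex.mk ((NatTrans.mapHomologicalComplex α _).app I.cocomplex)
    ((NatTrans.mapHomologicalComplex β _).app I.cocomplex) (by
      ext n
      exact (h (I.cocomplex.X n) (I.injective n)).choose)

lemma SC_shortExact (h : Hyp α β) {X : A} (I : InjectiveResolution X) : (SC h I).ShortExact := by
  apply HomologicalComplex.shortExact_of_degreewise_shortExact
  intro n
  exact (h (I.cocomplex.X n) (I.injective n)).choose_spec

variable [HasInjectiveResolutions A]

/-- **the long exact sequence** -/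
theorem main (h : Hyp α β) (G : A) :
    Mono ((NatTrans.rightDerived α 0).app G) ∧
    (∀ p : ℕ, ∃ w : (NatTrans.rightDerived α p).app G ≫ (NatTrans.rightDerived β p).app G = 0,
      (ShortComplex.mk _ _ w).Exact) ∧
    ∃ δ : ∀ p : ℕ, (T₃.rightDerived p).obj G ⟶ (T₁.rightDerived (p + 1)).obj G, ∀ p : ℕ,
      (∃ w : (NatTrans.rightDerived β p).app G ≫ δ p = 0, (ShortComplex.mk _ _ w).Exact) ∧
      (∃ w : δ p ≫ (NatTrans.rightDerived α (p + 1)).app G = 0,
        (ShortComplex.mk _ _ w).Exact) := by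
  let I := injectiveResolution G
  have hSE := SC_shortExact h I
  have hα : ∀ p, (NatTrans.rightDerived α p).app G = (I.isoRightDerivedObj T₁ p).hom ≫
      HomologicalComplex.homologyMap (SC h I).f p ≫ (I.isoRightDerivedObj T₂ p).inv :=
    fun p => InjectiveResolution.rightDerived_app_eq α I p
  have hβ : ∀ p, (NatTrans.rightDerived β p).app G = (I.isoRightDerivedObj T₂ p).hom ≫
      HomologicalComplex.homologyMap (SC h I).g p ≫ (I.isoRightDerivedObj T₃ p).inv :=
    fun p => InjectiveResolution.rightDerived_app_eq β I p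
  refine ⟨?_, ?_, ?_⟩
  · rw [hα 0]
    haveI : Mono ((SC h I).f.f 0) := (h _ (I.injective 0)).choose_spec.mono_f
    have hm : Mono (HomologicalComplex.homologyMap (SC h I).f 0) :=
      HomologicalComplex.mono_homologyMap_of_mono_of_not_rel _ 0 (by
        intro i hi
        exact Nat.succ_ne_zero i hi)
    have m1 : Mono (HomologicalComplex.homologyMap (SC h I).f 0 ≫
        (I.isoRightDerivedObj T₂ 0).inv) := @mono_comp _ _ _ _ _ _ hm _ inferInstance
    exact @mono_comp _ _ _ _ _ _ inferInstance _ m1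
  · intro p
    exact exact_conj _ _ _ _ _ _ (hSE.homology_exact₂ p) _ _ (hα p) (hβ p)
  · refine ⟨fun p => (I.isoRightDerivedObj T₃ p).hom ≫ hSE.δ p (p + 1) rfl ≫
      (I.isoRightDerivedObj T₁ (p + 1)).inv, fun p => ⟨?_, ?_⟩⟩
    · exact exact_conj _ _ _ _ _ _ (hSE.homology_exact₃ p (p + 1) rfl) _ _ (hβ p) rfl
    · exact exact_conj _ _ _ _ _ _ (hSE.homology_exact₁ p (p + 1) rfl) _ _ rfl (hα (p + 1))

end Groth.Agent.Helper3.RDLes
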