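import Mathlib
import Groth.Agent.Lib.Helper3.RDLes
import Groth.Agent.Lib.Helper3.SHomEx
import Groth.Agent.Lib.Helper3.EdgeMod2
import Groth.Agent.Lib.Helper1.RpushComp
import Groth.Agent.S6150
import Groth.Agent.S0865

/-!
# Relative Ext `Ext_f(M, -) = R(f_* ℋom(M, -))`: contravariant functoriality and short exact
sequences in the first variable (helper3)
-/
set_option autoImplicit false
universe u
open CategoryTheory CategoryTheory.Limits AlgebraicGeometry

namespace Groth.Agent.Helper3.RelExtHyp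

section site
variable {C : Type u} [SmallCategory C] {J : GrothendieckTopology C} {O : Sheaf J CommRingCat.{u}}

lemma sheafHomMap_id (M : ModSite.Mod O) [ModSite.HasSheafHom M] :
    ExtSupp.sheafHomMap (𝟙 M) = 𝟙 (ModSite.sheafHom M) := by
  show conjugateEquiv _ _ ((ModSite.tensorBi O).flip.map (𝟙 M)) = 𝟙 _
  rw [CategoryTheory.Functor.map_id]
  exact conjugateEquiv_id _

lemma sheafHomMap_comp {M'' M' M : ModSite.Mod O} [ModSite.HasSheafHom M'']
    [ModSite.HasSheafHom M'] [ModSite.HasSheafHom M] (u' : M'' ⟶ M') (u : M' ⟶ M) :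
    ExtSupp.sheafHomMap (u' ≫ u) = ExtSupp.sheafHomMap u ≫ ExtSupp.sheafHomMap u' := by
  show conjugateEquiv _ _ ((ModSite.tensorBi O).flip.map (u' ≫ u)) = _
  rw [Functor.map_comp]
  exact (conjugateEquiv_comp _ _ _ _ _).symm

instance preservesFiniteLimits_sheafHom (M : ModSite.Mod O) [ModSite.HasSheafHom M] :
    PreservesFiniteLimits (ModSite.sheafHom M) := by
  haveI := (ModSite.sheafHomAdj M).rightAdjoint_preservesLimits
  infer_instance

end site

variable {X Y : Scheme.{u}} (f : X ⟶ Y) [HasInjectiveResolutions X.Modules]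

/-- `f_* ℋom(-, Q)` turns short exact sequences into short exact sequences for `Q` injective -/
theorem hyp (S : ShortComplex X.Modules) (hS : S.ShortExact)
    [ModSite.HasSheafHom (O := X.sheaf) S.X₁] [ModSite.HasSheafHom (O := X.sheaf) S.X₂]
    [ModSite.HasSheafHom (O := X.sheaf) S.X₃] :
    RDLes.Hyp
      (Functor.whiskerRight (ExtSupp.sheafHomMap (O := X.sheaf) S.g) (Scheme.Modules.pushforward f))
      (Functor.whiskerRight (ExtSupp.sheafHomMap (O := X.sheaf) S.f)
        (Scheme.Modules.pushforward f)) := by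
  intro Q hQ
  haveI := hQ
  have hT := Groth.Agent.Helper3.SHomEx.shortExact (O := X.sheaf) Q hS
  have hacy : Groth.Agent.Helper3.EdgeMod.Acy f ((ModSite.sheafHom (O := X.sheaf) S.X₃).obj Q) := by
    intro q hq
    obtain ⟨m, rfl⟩ : ∃ m, q = m + 1 := ⟨q - 1, by omega⟩
    have h1 : CohCx.IsTotallyAcyclic
        (ModSite.toAb ((ModSite.sheafHom (O := X.sheaf) S.X₃).obj Q)) :=
      Groth.Agent.S6150.result X.sheaf S.X₃ Q
    have h3 := Groth.Agent.S0865.result (Opens.grothendieckTopology X)
      (Opens.grothendieckTopology Y) (TopologicalSpace.Opens.map f.base) _ h1 m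
    apply Groth.Agent.Helper1.RpushComp.isZero_of_toAb
    obtain ⟨e⟩ := Groth.Agent.Helper1.RpushComp.nonempty_iso f
      ((ModSite.sheafHom (O := X.sheaf) S.X₃).obj Q) (m + 1)
    exact IsZero.of_iso h3 e
  have h5 := Groth.Agent.Helper3.EdgeMod.shortExact_push f _ hT hacy
  exact ⟨_, h5⟩

end Groth.Agent.Helper3.RelExtHyp
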