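import Mathlib
import Groth.Agent.Lib.Helper3.RDLes

/-!
# Computing contravariant derived functors by an acyclic resolution of the first variable (helper3)

A family of left exact additive functors `T M : A ⥤ B`, contravariantly functorial in `M`, which
turns short exact sequences of `M`s into sequences short exact on injectives.  If `L_• → F` is a
resolution with `R^p(T L_j) G = 0` for `p ≥ 1`, then the cohomology of `T(L_•) G` computes
`R^i(T F) G`.
-/
set_option autoImplicit false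
universe v v' u u'
open CategoryTheory CategoryTheory.Limits

namespace Groth.Agent.Helper3.RelExtRes

section gen
variable {A : Type u} [Category.{v} A] [Abelian A] [HasInjectiveResolutions A]
  {B : Type u'} [Category.{v'} B] [Abelian B]

lemma toRightDerivedZero_naturality {F F' : A ⥤ B} [F.Additive] [F'.Additive] (α : F ⟶ F')
    (X : A) :
    α.app X ≫ F'.toRightDerivedZero.app X =
      F.toRightDerivedZero.app X ≫ (NatTrans.rightDerived α 0).app X := by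
  let I := injectiveResolution X
  have h1 : α.app X ≫ I.toRightDerivedZero' F' = I.toRightDerivedZero' F ≫
      HomologicalComplex.cyclesMap ((NatTrans.mapHomologicalComplex α _).app I.cocomplex) 0 := by
    rw [← cancel_mono (HomologicalComplex.iCycles _ _), Category.assoc, Category.assoc,
      InjectiveResolution.toRightDerivedZero'_comp_iCycles, HomologicalComplex.cyclesMap_i,
      InjectiveResolution.toRightDerivedZero'_comp_iCycles_assoc]
    exact (α.naturality (I.ι.f 0)).symm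
  have h2 : (CochainComplex.isoHomologyπ₀ ((F.mapHomologicalComplex _).obj I.cocomplex)).hom ≫
      HomologicalComplex.homologyMap ((NatTrans.mapHomologicalComplex α _).app I.cocomplex) 0 =
      HomologicalComplex.cyclesMap ((NatTrans.mapHomologicalComplex α _).app I.cocomplex) 0 ≫
      (CochainComplex.isoHomologyπ₀ ((F'.mapHomologicalComplex _).obj I.cocomplex)).hom :=
    HomologicalComplex.homologyπ_naturality _ 0
  let jF : (F.rightDerived 0).obj X ≅ ((F.mapHomologicalComplex _).obj I.cocomplex).homology 0 :=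
    I.isoRightDerivedObj F 0
  let jF' : (F'.rightDerived 0).obj X ≅
      ((F'.mapHomologicalComplex _).obj I.cocomplex).homology 0 := I.isoRightDerivedObj F' 0
  have e1 : F.toRightDerivedZero.app X = I.toRightDerivedZero' F ≫
      (CochainComplex.isoHomologyπ₀ ((F.mapHomologicalComplex _).obj I.cocomplex)).hom ≫ jF.inv :=
    I.toRightDerivedZero_eq F
  have e1' : F'.toRightDerivedZero.app X = I.toRightDerivedZero' F' ≫
      (CochainComplex.isoHomologyπ₀ ((F'.mapHomologicalComplex _).obj I.cocomplex)).hom ≫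
        jF'.inv := I.toRightDerivedZero_eq F'
  have e2 : (NatTrans.rightDerived α 0).app X = jF.hom ≫
      HomologicalComplex.homologyMap ((NatTrans.mapHomologicalComplex α _).app I.cocomplex) 0 ≫
        jF'.inv := InjectiveResolution.rightDerived_app_eq α I 0
  rw [e1, e1', e2]
  simp only [Category.assoc, Iso.inv_hom_id_assoc]
  rw [← Category.assoc, h1, Category.assoc, reassoc_of% h2]

lemma homology_iso {X₁ X₂ X₃ K K' H : B} (f : X₁ ⟶ X₂) (g : X₂ ⟶ X₃) (w : f ≫ g = 0)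
    (a : K ⟶ X₂) (ha : Mono a) (b : X₂ ⟶ K') (c : K' ⟶ X₃) (hc : Mono c) (hg : g = b ≫ c)
    (wab : a ≫ b = 0) (hab : (ShortComplex.mk a b wab).Exact)
    (b' : X₁ ⟶ K) (hf : f = b' ≫ a) (π : K ⟶ H) (hπe : Epi π) (wπ : b' ≫ π = 0)
    (hπ : (ShortComplex.mk b' π wπ).Exact) :
    Nonempty ((ShortComplex.mk f g w).homology ≅ H) := by
  have wi : a ≫ g = 0 := by rw [hg, ← Category.assoc, wab, zero_comp]
  have hex : (ShortComplex.mk a g wi).Exact := by
    let φ : ShortComplex.mk a b wab ⟶ ShortComplex.mk a g wi :=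
      { τ₁ := 𝟙 _, τ₂ := 𝟙 _, τ₃ := c, comm₁₂ := by simp, comm₂₃ := by simp [hg] }
    haveI : Epi φ.τ₁ := inferInstanceAs (Epi (𝟙 _))
    haveI : IsIso φ.τ₂ := inferInstanceAs (IsIso (𝟙 _))
    haveI : Mono φ.τ₃ := inferInstanceAs (Mono c)
    exact (ShortComplex.exact_iff_of_epi_of_isIso_of_mono φ).1 hab
  haveI : Mono (ShortComplex.mk a g wi).f := inferInstanceAs (Mono a)
  let hi : IsLimit (KernelFork.ofι a wi) := hex.fIsKernel
  have hlift : hi.lift (KernelFork.ofι f w) = b' := by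
    rw [← cancel_mono a]
    exact (Fork.IsLimit.lift_ι hi).trans hf
  subst hlift
  haveI : Epi (ShortComplex.mk (hi.lift (KernelFork.ofι f w)) π wπ).g := inferInstanceAs (Epi π)
  let h : (ShortComplex.mk f g w).LeftHomologyData :=
    { K := K, H := H, i := a, π := π, wi := wi, hi := hi,
      wπ := wπ
      hπ := hπ.gIsCokernel }
  exact ⟨h.homologyIso⟩

end gen

section fam

variable {A : Type u} [Category.{v} A] [Abelian A] [HasInjectiveResolutions A]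
  {B : Type u'} [Category.{v'} B] [Abelian B]
  (T : A → (A ⥤ B)) [∀ M, (T M).Additive] [∀ M, PreservesFiniteLimits (T M)]
  (m : ∀ {M' M : A}, (M' ⟶ M) → (T M ⟶ T M'))
  (G : A)

/-- `R^p(T M) G` -/
noncomputable abbrev E (p : ℕ) (M : A) : B := ((T M).rightDerived p).obj G

/-- the contravariant functoriality of `E` -/
noncomputable abbrev Em (p : ℕ) {M' M : A} (u : M' ⟶ M) : E T G p M ⟶ E T G p M' :=
  (NatTrans.rightDerived (m u) p).app G

variable (m_id : ∀ M : A, m (𝟙 M) = 𝟙 (T M))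
  (m_comp : ∀ {M'' M' M : A} (u' : M'' ⟶ M') (u : M' ⟶ M), m (u' ≫ u) = m u ≫ m u')
  (hyp : ∀ S : ShortComplex A, S.ShortExact → RDLes.Hyp (m S.g) (m S.f))

include m_comp in
lemma Em_comp (p : ℕ) {M'' M' M : A} (u' : M'' ⟶ M') (u : M' ⟶ M) :
    Em T m G p (u' ≫ u) = Em T m G p u ≫ Em T m G p u' := by
  show (NatTrans.rightDerived (m (u' ≫ u)) p).app G = _
  rw [m_comp, NatTrans.rightDerived_comp, NatTrans.comp_app]

include m_id in
lemma Em_id (p : ℕ) (M : A) : Em T m G p (𝟙 M) = 𝟙 _ := by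
  show (NatTrans.rightDerived (m (𝟙 M)) p).app G = 𝟙 _
  rw [m_id, NatTrans.rightDerived_id, NatTrans.id_app]

include m_id m_comp in
lemma E_iso {M M' : A} (φ : M ≅ M') (p : ℕ) : Nonempty (E T G p M ≅ E T G p M') :=
  ⟨{ hom := Em T m G p φ.inv
     inv := Em T m G p φ.hom
     hom_inv_id := by rw [← Em_comp T m G m_comp, φ.hom_inv_id, Em_id T m G m_id]
     inv_hom_id := by rw [← Em_comp T m G m_comp, φ.inv_hom_id, Em_id T m G m_id] }⟩

include hyp in
lemma les (S : ShortComplex A) (hS : S.ShortExact) :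
    Mono (Em T m G 0 S.g) ∧
    (∀ p : ℕ, ∃ w : Em T m G p S.g ≫ Em T m G p S.f = 0, (ShortComplex.mk _ _ w).Exact) ∧
    ∃ δ : ∀ p : ℕ, E T G p S.X₁ ⟶ E T G (p + 1) S.X₃, ∀ p : ℕ,
      (∃ w : Em T m G p S.f ≫ δ p = 0, (ShortComplex.mk _ _ w).Exact) ∧
      (∃ w : δ p ≫ Em T m G (p + 1) S.g = 0, (ShortComplex.mk _ _ w).Exact) :=
  RDLes.main (hyp S hS) G

include hyp in
lemma shift (S : ShortComplex A) (hS : S.ShortExact) (p : ℕ)
    (h1 : IsZero (E T G p S.X₂)) (h2 : IsZero (E T G (p + 1) S.X₂)) :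
    Nonempty (E T G p S.X₁ ≅ E T G (p + 1) S.X₃) := by
  obtain ⟨-, -, δ, hδ⟩ := les T m G hyp S hS
  obtain ⟨⟨w1, ex1⟩, ⟨w2, ex2⟩⟩ := hδ p
  haveI : Mono (δ p) := ex1.mono_g (h1.eq_of_src _ _)
  haveI : Epi (δ p) := ex2.epi_f (h2.eq_of_tgt _ _)
  haveI := isIso_of_mono_of_epi (δ p)
  exact ⟨asIso (δ p)⟩

/-! ### the syzygies of a resolution -/

variable (L : ChainComplex A ℕ)

/-- the `j`-th syzygy `coker (L_{j+1} ⟶ L_j)` -/
noncomputable abbrev K (j : ℕ) : A := cokernel (L.d (j + 1) j)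

noncomputable abbrev pr (j : ℕ) : L.X j ⟶ K L j := cokernel.π (L.d (j + 1) j)

noncomputable abbrev ι (j : ℕ) : K L (j + 1) ⟶ L.X j :=
  cokernel.desc (L.d (j + 1 + 1) (j + 1)) (L.d (j + 1) j) (L.d_comp_d _ _ _)

lemma pr_ι (j : ℕ) : pr L (j + 1) ≫ ι L j = L.d (j + 1) j := cokernel.π_desc _ _ _

lemma ι_pr (j : ℕ) : ι L j ≫ pr L j = 0 := by
  rw [← cancel_epi (pr L (j + 1)), ← Category.assoc, pr_ι, comp_zero]
  exact cokernel.condition _

/-- the short exact sequence `0 ⟶ K_{j+1} ⟶ L_j ⟶ K_j ⟶ 0` -/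
noncomputable def KS (j : ℕ) : ShortComplex A := ShortComplex.mk (ι L j) (pr L j) (ι_pr L j)

lemma KS_shortExact (hex : ∀ j : ℕ, L.ExactAt (j + 1)) (j : ℕ) : (KS L j).ShortExact := by
  have h1 : (L.sc' (j + 1 + 1) (j + 1) j).Exact :=
    (L.exactAt_iff' (j + 1 + 1) (j + 1) j (by simp) (by simp)).1 (hex j)
  have hm : Mono (ι L j) := (ShortComplex.exact_iff_mono_cokernel_desc _).1 h1
  have h2 : (ShortComplex.mk (L.d (j + 1) j) (pr L j) (cokernel.condition _)).Exact :=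
    ShortComplex.exact_of_g_is_cokernel _ (cokernelIsCokernel _)
  let φ : ShortComplex.mk (L.d (j + 1) j) (pr L j) (cokernel.condition _) ⟶ KS L j :=
    { τ₁ := pr L (j + 1), τ₂ := 𝟙 _, τ₃ := 𝟙 _
      comm₁₂ := by
        show pr L (j + 1) ≫ ι L j = L.d (j + 1) j ≫ 𝟙 _
        rw [pr_ι, Category.comp_id]
      comm₂₃ := by
        show 𝟙 _ ≫ pr L j = pr L j ≫ 𝟙 _
        rw [Category.id_comp, Category.comp_id] }
  haveI : Epi φ.τ₁ := inferInstanceAs (Epi (cokernel.π _))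
  haveI : IsIso φ.τ₂ := inferInstanceAs (IsIso (𝟙 _))
  haveI : Mono φ.τ₃ := inferInstanceAs (Mono (𝟙 _))
  have h3 : (KS L j).Exact := (ShortComplex.exact_iff_of_epi_of_isIso_of_mono φ).1 h2
  exact { exact := h3, mono_f := hm, epi_g := inferInstanceAs (Epi (cokernel.π _)) }

/-- `K_0 ≅ F` -/
noncomputable def K0Iso (F : A) (π : L.X 0 ⟶ F) [Epi π] (hπ : L.d 1 0 ≫ π = 0)
    (hex0 : (ShortComplex.mk (L.d 1 0) π hπ).Exact) : K L 0 ≅ F :=
  IsColimit.coconePointUniqueUpToIso (cokernelIsCokernel (L.d (0 + 1) 0)) hex0.gIsCokernel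

include hyp in
lemma shiftK (hex : ∀ j : ℕ, L.ExactAt (j + 1))
    (hL : ∀ (j p : ℕ), 1 ≤ p → IsZero (E T G p (L.X j))) (n : ℕ) :
    ∀ p : ℕ, 1 ≤ p → Nonempty (E T G p (K L n) ≅ E T G (p + n) (K L 0)) := by
  induction n with
  | zero => intro p _; exact ⟨Iso.refl _⟩
  | succ n ih =>
    intro p hp
    obtain ⟨e1⟩ := shift T m G hyp (KS L n) (KS_shortExact L hex n) p (hL n p hp)
      (hL n (p + 1) (by omega))
    obtain ⟨e2⟩ := ih (p + 1) (by omega)
    have hh : p + 1 + n = p + (n + 1) := by omega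
    exact ⟨e1 ≪≫ e2 ≪≫ eqToIso (by rw [hh])⟩

variable (C : CochainComplex B ℕ) (e : ∀ j : ℕ, C.X j ≅ (T (L.X j)).obj G)
  (hC : ∀ j : ℕ, C.d j (j + 1) ≫ (e (j + 1)).hom = (e j).hom ≫ (m (L.d (j + 1) j)).app G)

/-- `C^j ≅ R⁰(T L_j) G` -/
noncomputable def ψ (j : ℕ) : C.X j ≅ E T G 0 (L.X j) :=
  e j ≪≫ asIso ((T (L.X j)).toRightDerivedZero.app G)

include hC in
lemma hψ (j : ℕ) : C.d j (j + 1) ≫ (ψ T G L C e (j + 1)).hom =
    (ψ T G L C e j).hom ≫ Em T m G 0 (L.d (j + 1) j) := by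
  show C.d j (j + 1) ≫ (e (j + 1)).hom ≫ (T (L.X (j + 1))).toRightDerivedZero.app G =
    ((e j).hom ≫ (T (L.X j)).toRightDerivedZero.app G) ≫ _
  rw [← Category.assoc, hC j, Category.assoc, Category.assoc, toRightDerivedZero_naturality]

include m_comp in
lemma hD (j : ℕ) : Em T m G 0 (L.d (j + 1) j) =
    Em T m G 0 (ι L j) ≫ Em T m G 0 (pr L (j + 1)) := by
  rw [← Em_comp T m G m_comp, pr_ι]

include hyp m_comp hC in
lemma homology_succ (hex : ∀ j : ℕ, L.ExactAt (j + 1))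
    (hL : ∀ (j p : ℕ), 1 ≤ p → IsZero (E T G p (L.X j))) (n : ℕ) :
    Nonempty (C.homology (n + 1) ≅ E T G 1 (K L n)) := by
  obtain ⟨-, -, δ, hδ⟩ := les T m G hyp (KS L n) (KS_shortExact L hex n)
  obtain ⟨hmono1, hex1, -, -⟩ := les T m G hyp (KS L (n + 1)) (KS_shortExact L hex (n + 1))
  obtain ⟨hmono2, -, -, -⟩ := les T m G hyp (KS L (n + 1 + 1)) (KS_shortExact L hex (n + 1 + 1))
  obtain ⟨wab, hab⟩ := hex1 0
  obtain ⟨⟨wπ, hπ⟩, ⟨w2, ex2⟩⟩ := hδ 0
  have hepi : Epi (δ 0) := ex2.epi_f ((hL n 1 le_rfl).eq_of_tgt _ _)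
  have w' : Em T m G 0 (L.d (n + 1) n) ≫ Em T m G 0 (L.d (n + 1 + 1) (n + 1)) = 0 := by
    rw [hD T m G m_comp L n, hD T m G m_comp L (n + 1), Category.assoc,
      ← Category.assoc (Em T m G 0 (pr L (n + 1)))]
    have : Em T m G 0 (pr L (n + 1)) ≫ Em T m G 0 (ι L (n + 1)) = 0 := wab
    rw [this, zero_comp, comp_zero]
  have iso1 : C.sc (n + 1) ≅ C.sc' n (n + 1) (n + 1 + 1) :=
    C.isoSc' n (n + 1) (n + 1 + 1) (by simp) (by simp)
  have iso2 : C.sc' n (n + 1) (n + 1 + 1) ≅ ShortComplex.mk _ _ w' :=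
    ShortComplex.isoMk (ψ T G L C e n) (ψ T G L C e (n + 1)) (ψ T G L C e (n + 1 + 1))
      (hψ T m G L C e hC n).symm (hψ T m G L C e hC (n + 1)).symm
  obtain ⟨e3⟩ := homology_iso (Em T m G 0 (L.d (n + 1) n)) (Em T m G 0 (L.d (n + 1 + 1) (n + 1))) w'
    (Em T m G 0 (pr L (n + 1))) hmono1 (Em T m G 0 (ι L (n + 1))) (Em T m G 0 (pr L (n + 1 + 1)))
    hmono2 (hD T m G m_comp L (n + 1)) wab hab (Em T m G 0 (ι L n)) (hD T m G m_comp L n) (δ 0)
    hepi wπ hπ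
  exact ⟨ShortComplex.homologyMapIso iso1 ≪≫ ShortComplex.homologyMapIso iso2 ≪≫ e3⟩

include hyp m_comp hC in
lemma homology_zero (hex : ∀ j : ℕ, L.ExactAt (j + 1)) :
    Nonempty (C.homology 0 ≅ E T G 0 (K L 0)) := by
  obtain ⟨hmono0, hex0, -, -⟩ := les T m G hyp (KS L 0) (KS_shortExact L hex 0)
  obtain ⟨hmono1, -, -, -⟩ := les T m G hyp (KS L (0 + 1)) (KS_shortExact L hex (0 + 1))
  obtain ⟨wab, hab⟩ := hex0 0
  have w' : (0 : E T G 0 (L.X 0) ⟶ E T G 0 (L.X 0)) ≫ Em T m G 0 (L.d (0 + 1) 0) = 0 := zero_comp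
  have iso1 : C.sc 0 ≅ C.sc' 0 0 (0 + 1) := C.isoSc' 0 0 (0 + 1) (by simp) (by simp)
  have hd0 : C.d 0 0 = 0 := C.shape 0 0 (by simp)
  have iso2 : C.sc' 0 0 (0 + 1) ≅ ShortComplex.mk _ _ w' :=
    ShortComplex.isoMk (ψ T G L C e 0) (ψ T G L C e 0) (ψ T G L C e (0 + 1))
      (by
        show (ψ T G L C e 0).hom ≫ 0 = C.d 0 0 ≫ (ψ T G L C e 0).hom
        rw [hd0, zero_comp, comp_zero])
      (hψ T m G L C e hC 0).symm
  have wπ : (0 : E T G 0 (L.X 0) ⟶ E T G 0 (K L 0)) ≫ 𝟙 _ = 0 := zero_comp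
  have hπ : (ShortComplex.mk (0 : E T G 0 (L.X 0) ⟶ E T G 0 (K L 0)) (𝟙 _) wπ).Exact :=
    (ShortComplex.exact_iff_mono _ rfl).2 (inferInstanceAs (Mono (𝟙 _)))
  obtain ⟨e3⟩ := homology_iso (0 : E T G 0 (L.X 0) ⟶ E T G 0 (L.X 0))
    (Em T m G 0 (L.d (0 + 1) 0)) w'
    (Em T m G 0 (pr L 0)) hmono0 (Em T m G 0 (ι L 0)) (Em T m G 0 (pr L (0 + 1))) hmono1
    (hD T m G m_comp L 0) wab hab 0 zero_comp.symm (𝟙 _) (inferInstanceAs (Epi (𝟙 _))) wπ hπ
  exact ⟨ShortComplex.homologyMapIso iso1 ≪≫ ShortComplex.homologyMapIso iso2 ≪≫ e3⟩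

include m_id m_comp hyp hC in
/-- **main theorem**: the cohomology of `T(L_•) G` computes `R^i(T F) G` -/
theorem main (F : A) (π : L.X 0 ⟶ F) (hπe : Epi π) (hπ : L.d 1 0 ≫ π = 0)
    (hex0 : (ShortComplex.mk (L.d 1 0) π hπ).Exact) (hex : ∀ j : ℕ, L.ExactAt (j + 1))
    (hL : ∀ (j p : ℕ), 1 ≤ p → IsZero (E T G p (L.X j))) (i : ℕ) :
    Nonempty (C.homology i ≅ E T G i F) := by
  haveI := hπe
  have e0 : ∀ p, Nonempty (E T G p (K L 0) ≅ E T G p F) := fun p =>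
    E_iso T m G m_id m_comp (K0Iso L F π hπ hex0) p
  cases i with
  | zero =>
    obtain ⟨e1⟩ := homology_zero T m G m_comp hyp L C e hC hex
    obtain ⟨e2⟩ := e0 0
    exact ⟨e1 ≪≫ e2⟩
  | succ n =>
    obtain ⟨e1⟩ := homology_succ T m G m_comp hyp L C e hC hex hL n
    obtain ⟨e2⟩ := shiftK T m G hyp L hex hL n 1 le_rfl
    obtain ⟨e3⟩ := e0 (1 + n)
    exact ⟨e1 ≪≫ e2 ≪≫ e3 ≪≫ eqToIso (by rw [Nat.add_comm])⟩

end fam

end Groth.Agent.Helper3.RelExtRes
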