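import Mathlib
import Groth.Prelude.Def_CohTop
import Groth.Agent.Lib.Helper3.ConstG
import Groth.Agent.Lib.Helper3.GSS
import Groth.Agent.Lib.Helper3.SpVan
import Groth.Agent.Lib.Helper3.RDAdd
import Groth.Agent.S0453
import Groth.Agent.S0454

set_option autoImplicit false
universe u
open CategoryTheory CategoryTheory.Limits Opposite TopologicalSpace

namespace Groth.Agent.Helper3.LerayCol

open Groth.Agent.Helper3

/-- **Leray, column-degenerate case**: if all higher direct images `R^q f_* F` are acyclic on `Y`,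
then `H^n(X, F) ≅ Γ(Y, R^n f_* F)`. -/
theorem nonempty_addEquiv {X Y : TopCat.{u}} (f : X ⟶ Y) (F : CohTop.Ab X)
    (hvan : ∀ q p : ℕ, 0 < p → Subsingleton (CohTop.H ((CohTop.Rpush f q).obj F) p)) (n : ℕ) :
    Nonempty (CohTop.H F n ≃+ ((CohTop.Rpush f n).obj F).obj.obj (op ⊤)) := by
  let T := CohTop.push f
  let S := ConstG.G Y
  have hT : ∀ Q : CohTop.Ab X, Injective Q → ∀ q : ℕ, 0 < q →
      IsZero ((S.rightDerived q).obj (T.obj Q)) := by
    intro Q hQ q hq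
    obtain ⟨m, rfl⟩ : ∃ m, q = m + 1 := ⟨q - 1, by omega⟩
    have h1 : TopCat.Sheaf.IsFlasque Q := Groth.Agent.S0454.result Q
    have h2 : TopCat.Sheaf.IsFlasque (T.obj Q) :=
      TopCat.Sheaf.IsFlasque.pushforward_isFlasque Q f
    have h3 : Subsingleton (CohTop.H (T.obj Q) (m + 1)) := Groth.Agent.S0453.result (T.obj Q) m
    refine IsZero.of_iso ?_ (ConstG.rightDerivedGIso Y (T.obj Q) (m + 1))
    exact @AddCommGrpCat.isZero_of_subsingleton _ h3
  obtain ⟨E, a, hfin, hbdd, hE⟩ := GSS.main' T S hT F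
  have hz : ∀ p q : ℤ, p ≠ 0 → IsZero ((E.page 2 le_rfl).X (p, q)) := by
    intro p q hp
    obtain ⟨e⟩ := hE p q
    refine IsZero.of_iso ?_ e
    split_ifs with hpq
    · obtain ⟨m, rfl⟩ : ∃ m : ℕ, p = (m : ℤ) + 1 := ⟨(p - 1).toNat, by omega⟩
      have : ((m : ℤ) + 1).toNat = m + 1 := by omega
      rw [this]
      have h3 := hvan q.toNat (m + 1) (by omega)
      refine IsZero.of_iso ?_ (ConstG.rightDerivedGIso Y _ (m + 1))
      exact @AddCommGrpCat.isZero_of_subsingleton _ h3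
    · exact isZero_zero _
  obtain ⟨e1⟩ := SpVan.iso_col0 E a 2 le_rfl (by norm_num) (n : ℤ) (hfin n) hz
  obtain ⟨e2⟩ := hE 0 (n : ℤ)
  rw [if_pos (by omega)] at e1
  rw [if_pos (by omega)] at e2
  simp only [Int.toNat_natCast, Int.toNat_zero] at e1 e2
  have e3 : ((T ⋙ S).rightDerived n).obj F ≅ AddCommGrpCat.of (CohTop.H F n) :=
    ExtRD.rightDerivedIsoExt (T ⋙ S) (ConstG.ZZ X) (ConstG.coyonedaIsoG X).symm F n
  have e4 : (S.rightDerived 0).obj ((T.rightDerived n).obj F) ≅ S.obj ((T.rightDerived n).obj F) :=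
    (S.rightDerivedZeroIsoSelf).app _
  exact ⟨(e3.symm ≪≫ e1 ≪≫ e2 ≪≫ e4).addCommGroupIsoToAddEquiv⟩

end Groth.Agent.Helper3.LerayCol
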