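import Mathlib
import Groth.Prelude.Def_Coh
import Groth.Agent.Lib.Helper3.LerayCol1
import Groth.Agent.Lib.Helper1.RpushComp
import Groth.Agent.Lib.Helper1.DimOneAff2
import Groth.Agent.Lib.Helper5.RpushCl.RpushClassic
import Groth.Agent.S0485

set_option autoImplicit false
universe u
open CategoryTheory CategoryTheory.Limits Opposite TopologicalSpace AlgebraicGeometry

namespace Groth.Agent.Helper3.LerayCol

/-- isomorphic abelian sheaves have simultaneously vanishing cohomology -/
theorem subsingleton_H_of_iso {C : Type u} [SmallCategory C] {J : GrothendieckTopology C}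
    {F G : Sheaf J AddCommGrpCat.{u}} (e : F ≅ G) (n : ℕ) [Subsingleton (Sheaf.H F n)] :
    Subsingleton (Sheaf.H G n) := by
  refine ⟨fun x y => ?_⟩
  have hx : ∀ z : Sheaf.H G n, z = 0 := by
    intro z
    have h1 : Sheaf.H.map (e.inv ≫ e.hom) n z = z := by
      rw [e.inv_hom_id, Sheaf.H.map_id_apply]
    rw [Sheaf.H.map_comp_apply] at h1
    have h2 : Sheaf.H.map e.inv n z = 0 := Subsingleton.elim _ _
    rw [h2, map_zero] at h1
    exact h1.symm
  rw [hx x, hx y]

/-- the instance recorded in the statements: `X.Modules` has injective resolutions -/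
theorem hasInjectiveResolutions (X : Scheme.{u}) : HasInjectiveResolutions X.Modules := by
  haveI : EnoughInjectives X.Modules := Groth.Agent.S0485.result _ X.ringCatSheaf
  infer_instance

/-- higher direct images (of the underlying abelian sheaf) of a quasi-coherent module along a
qcqs morphism to an affine scheme are acyclic -/
theorem subsingleton_H_rpushAb {X S : Scheme.{u}} (f : X ⟶ S) [QuasiCompact f] [QuasiSeparated f]
    [IsAffine S] (M : X.Modules) [M.IsQuasicoherent] (j m : ℕ) :
    Subsingleton (Sheaf.H ((Coh.RpushAb f j).obj (Coh.toAb M)) (m + 1)) := by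
  haveI := hasInjectiveResolutions X
  obtain ⟨e⟩ := Groth.Agent.Helper1.RpushComp.nonempty_iso f M j
  haveI : ((Coh.Rpush f j).obj M).IsQuasicoherent :=
    Groth.Agent.Lib.Helper5.RpushClassic.isQuasicoherent_rpush f M j
  haveI h : Subsingleton (Sheaf.H (Coh.toAb ((Coh.Rpush f j).obj M)) (m + 1)) :=
    Groth.Agent.Helper1.DimOneAff.subsingleton_HH_of_isAffine S ((Coh.Rpush f j).obj M) m
  exact subsingleton_H_of_iso e (m + 1)

theorem S0032_main {X S : Scheme.{u}} (f : X ⟶ S)
    [QuasiCompact f] [QuasiSeparated f] [IsAffine S] (M : X.Modules) [Coh.IsQCoh M] (q : ℕ) :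
    Nonempty (Coh.HH X M q ≃+ ↑(((Coh.RpushAb f q).obj (Coh.toAb M)).obj.obj (op ⊤))) := by
  refine nonempty_addEquiv f.base (Coh.toAb M) ?_ q
  intro j p hp
  obtain ⟨m, rfl⟩ : ∃ m, p = m + 1 := ⟨p - 1, by omega⟩
  exact subsingleton_H_rpushAb f M j m

end Groth.Agent.Helper3.LerayCol
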