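import Mathlib
import Groth.Prelude.Def_CohTop
import Groth.Agent.Lib.Helper3.LerayCol3
import Groth.Agent.Lib.Helper3.ExtRD
import Groth.Agent.Lib.Helper1.RpushZero
import Groth.Agent.S0453
import Groth.Agent.S0454
import Groth.Agent.S0463

/-!
# Degenerate Leray spectral sequence for a composition of continuous maps
-/

set_option autoImplicit false
universe u
open CategoryTheory CategoryTheory.Limits Opposite TopologicalSpace

namespace Groth.Agent.Helper3.LerayCol4

open Groth.Agent.Helper3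

/-- the restriction of a flasque sheaf to an open subspace is flasque -/
theorem isFlasque_restr {X : TopCat.{u}} (F : CohTop.Ab X) [TopCat.Sheaf.IsFlasque F]
    (U : Opens X) : TopCat.Sheaf.IsFlasque (CohTop.restr F U) where
  epi {V W} i := by
    change Epi (F.obj.map _)
    infer_instance

/-- flasque sheaves have no higher cohomology on opens -/
theorem subsingleton_HU_of_isFlasque {X : TopCat.{u}} (F : CohTop.Ab X) [TopCat.Sheaf.IsFlasque F]
    (U : Opens X) (m : ℕ) : Subsingleton (CohTop.HU F (m + 1) U) := by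
  obtain ⟨e⟩ := Groth.Agent.S0463.result F U (m + 1)
  haveI := isFlasque_restr F U
  haveI : Subsingleton (CohTop.H (CohTop.restr F U) (m + 1)) :=
    Groth.Agent.S0453.result (CohTop.restr F U) m
  exact e.toEquiv.subsingleton

/-- flasque sheaves are acyclic for direct images -/
theorem isZero_rpush_of_isFlasque {X Y : TopCat.{u}} (f : X ⟶ Y) (F : CohTop.Ab X)
    [TopCat.Sheaf.IsFlasque F] (m : ℕ) : IsZero ((CohTop.Rpush f (m + 1)).obj F) := by
  refine Groth.Agent.Helper1.RpushZero.isZero_of_basis f F (m + 1) Set.univ ?_ ?_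
  · rw [Opens.isBasis_iff_nbhd]
    intro U x hx
    exact ⟨U, trivial, hx, le_rfl⟩
  · intro V _
    exact subsingleton_HU_of_isFlasque F _ m

theorem preservesFiniteLimits_push {X Y : TopCat.{u}} (g : X ⟶ Y) :
    PreservesFiniteLimits (CohTop.push g) := by
  haveI : (CohTop.push g).IsRightAdjoint :=
    (TopCat.Sheaf.pullbackPushforwardAdjunction AddCommGrpCat.{u} g).isRightAdjoint
  infer_instance

/-- the direct image of a composition -/
noncomputable def pushComp {X Y Z : TopCat.{u}} (f : X ⟶ Y) (g : Y ⟶ Z) :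
    CohTop.push f ⋙ CohTop.push g ≅ CohTop.push (f ≫ g) :=
  NatIso.ofComponents (fun F => Iso.refl _) (by
    intro F G φ
    rfl)

theorem hT {X Y Z : TopCat.{u}} (f : X ⟶ Y) (g : Y ⟶ Z) (Q : CohTop.Ab X) (hQ : Injective Q)
    (q : ℕ) (hq : 0 < q) : IsZero (((CohTop.push g).rightDerived q).obj ((CohTop.push f).obj Q)) := by
  obtain ⟨m, rfl⟩ : ∃ m, q = m + 1 := ⟨q - 1, by omega⟩
  have h1 : TopCat.Sheaf.IsFlasque Q := Groth.Agent.S0454.result Q
  have h2 : TopCat.Sheaf.IsFlasque ((CohTop.push f).obj Q) :=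
    TopCat.Sheaf.IsFlasque.pushforward_isFlasque Q f
  exact isZero_rpush_of_isFlasque g _ m

/-- **Leray, column-degenerate case for a composition**: if all `R^q f_* F` are `g_*`-acyclic
then `R^n (g ∘ f)_* F ≅ g_* R^n f_* F`. -/
theorem nonempty_iso_col {X Y Z : TopCat.{u}} (f : X ⟶ Y) (g : Y ⟶ Z) (F : CohTop.Ab X)
    (hvan : ∀ q p : ℕ, 0 < p → IsZero ((CohTop.Rpush g p).obj ((CohTop.Rpush f q).obj F)))
    (n : ℕ) :
    Nonempty ((CohTop.Rpush (f ≫ g) n).obj F ≅ (CohTop.push g).obj ((CohTop.Rpush f n).obj F)) := by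
  haveI := preservesFiniteLimits_push g
  obtain ⟨e⟩ := LerayCol3.nonempty_iso_col (CohTop.push f) (CohTop.push g) (hT f g) F hvan n
  exact ⟨((ExtRD.rightDerivedNatIso (pushComp f g) n).app F).symm ≪≫ e⟩

/-- **Leray, row-degenerate case for a composition**: if `R^q f_* F = 0` for `q > 0` then
`R^n (g ∘ f)_* F ≅ R^n g_* (f_* F)`. -/
theorem nonempty_iso_row {X Y Z : TopCat.{u}} (f : X ⟶ Y) (g : Y ⟶ Z) (F : CohTop.Ab X)
    (hvan : ∀ q : ℕ, 0 < q → IsZero ((CohTop.Rpush f q).obj F))
    (n : ℕ) :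
    Nonempty ((CohTop.Rpush (f ≫ g) n).obj F ≅ (CohTop.Rpush g n).obj ((CohTop.push f).obj F)) := by
  haveI := preservesFiniteLimits_push g
  haveI := preservesFiniteLimits_push f
  obtain ⟨e⟩ := LerayCol3.nonempty_iso_row (CohTop.push f) (CohTop.push g) (hT f g) F hvan n
  exact ⟨((ExtRD.rightDerivedNatIso (pushComp f g) n).app F).symm ≪≫ e⟩

end Groth.Agent.Helper3.LerayCol4
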