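import Mathlib
import Groth.Prelude.Def_LocCohZ
import Groth.Agent.Lib.Helper3.RDKer
import Groth.Agent.Lib.Helper5.MV.MVSes

set_option autoImplicit false
universe u
open CategoryTheory CategoryTheory.Limits TopologicalSpace Opposite AlgebraicGeometry

namespace Groth.Agent.Helper3.LocCohMod

variable {U Y : Scheme.{u}} (j : U ⟶ Y) [IsOpenImmersion j]

/-- `j_* j^*` -/
noncomputable abbrev HH : Y.Modules ⥤ Y.Modules :=
  Scheme.Modules.restrictFunctor j ⋙ Scheme.Modules.pushforward j

/-- the unit `𝟭 ⟶ j_* j^*` -/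
noncomputable abbrev ηη : 𝟭 Y.Modules ⟶ HH j :=
  (Scheme.Modules.restrictAdjunction j).unit

/-- the inclusion `Γ_Z ⟶ 𝟭` -/
noncomputable def ττ : DCoh.gammaZ j ⟶ 𝟭 Y.Modules where
  app F := kernel.ι ((ηη j).app F)
  naturality F G φ := by
    dsimp [DCoh.gammaZ]
    exact kernel.lift_ι _ _ _

lemma unit_app_app (F : Y.Modules) (V : Y.Opens) :
    ((ηη j).app F).app V = F.presheaf.map (homOfLE (j.image_preimage_le V)).op := rfl

lemma epi_unit (Q : Y.Modules) [Injective Q] : Epi ((ηη j).app Q) := by
  apply Groth.Agent.Lib.Helper5.MV.epi_of_app_surjective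
  intro V
  rw [unit_app_app]
  exact Groth.Agent.Lib.Helper5.MV.surjective_res_of_injective Q _

instance HH_additive : (HH j).Additive := by
  infer_instance

lemma hyp : RDKer.Hyp (DCoh.gammaZ j) (HH j) (ττ j) (ηη j) where
  zero F := kernel.condition _
  exact F := ShortComplex.exact_of_f_is_kernel _ (kernelIsKernel _)
  mono F := by
    change Mono (kernel.ι _)
    infer_instance
  epi Q hQ := epi_unit j Q

end Groth.Agent.Helper3.LocCohMod
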