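import Mathlib
import Groth.Agent.Lib.Helper3.RDKer

set_option autoImplicit false
universe v u
open CategoryTheory CategoryTheory.Limits

namespace Groth.Agent.Helper3.RDKer

variable {A : Type u} [Category.{v} A] [Abelian A]
  {T H : A ⥤ A} [T.Additive] [H.Additive] {τ : T ⟶ 𝟭 A} {η : 𝟭 A ⟶ H}

/-- the key lifting property -/
lemma exists_lift_of_hyp (h : Hyp T H τ η) [PreservesFiniteLimits H] (S : ShortComplex A)
    (hS : S.ShortExact) {W : A} (x : W ⟶ T.obj S.X₂) (hx : x ≫ T.map S.g = 0) :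
    ∃ z : W ⟶ T.obj S.X₁, z ≫ T.map S.f = x := by
  have hm2 := h.mono S.X₂
  have hmf := hS.mono_f
  have hHf : Mono (H.map S.f) := inferInstance
  have e3 : τ.app S.X₂ ≫ S.g = T.map S.g ≫ τ.app S.X₃ := (τ.naturality S.g).symm
  have h1 : (x ≫ τ.app S.X₂) ≫ S.g = 0 :=
    (Category.assoc _ _ _).trans ((congrArg (x ≫ ·) e3).trans ((Category.assoc _ _ _).symm.trans
      ((congrArg (· ≫ τ.app S.X₃) hx).trans zero_comp)))
  let y : W ⟶ S.X₁ := hS.exact.lift (x ≫ τ.app S.X₂) h1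
  have hy : y ≫ S.f = x ≫ τ.app S.X₂ := hS.exact.lift_f _ _
  have e1 : η.app S.X₁ ≫ H.map S.f = S.f ≫ η.app S.X₂ := (η.naturality S.f).symm
  have h2 : y ≫ η.app S.X₁ = 0 := by
    have h3 : (y ≫ η.app S.X₁) ≫ H.map S.f = 0 ≫ H.map S.f := by
      refine (Category.assoc _ _ _).trans ((congrArg (y ≫ ·) e1).trans ?_)
      refine (Category.assoc _ _ _).symm.trans ((congrArg (· ≫ η.app S.X₂) hy).trans ?_)
      refine (Category.assoc _ _ _).trans ((congrArg (x ≫ ·) (h.zero S.X₂)).trans ?_)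
      exact comp_zero.trans zero_comp.symm
    exact (cancel_mono (H.map S.f)).1 h3
  have hm1 := h.mono S.X₁
  let z : W ⟶ T.obj S.X₁ := (h.exact S.X₁).lift y h2
  have hz : z ≫ τ.app S.X₁ = y := (h.exact S.X₁).lift_f y h2
  refine ⟨z, ?_⟩
  have e2 : T.map S.f ≫ τ.app S.X₂ = τ.app S.X₁ ≫ S.f := τ.naturality S.f
  have h4 : (z ≫ T.map S.f) ≫ τ.app S.X₂ = x ≫ τ.app S.X₂ := by
    refine (Category.assoc _ _ _).trans ((congrArg (z ≫ ·) e2).trans ?_)
    refine (Category.assoc _ _ _).symm.trans ((congrArg (· ≫ S.f) hz).trans hy)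
  exact (cancel_mono (τ.app S.X₂)).1 h4

/-- in the setting of `Hyp`, if `H` is left exact then so is `T = ker (𝟭 ⟶ H)` -/
theorem preservesFiniteLimits_of_hyp (h : Hyp T H τ η) [PreservesFiniteLimits H] :
    PreservesFiniteLimits T := by
  rw [Functor.preservesFiniteLimits_iff_forall_exact_map_and_mono]
  intro S hS
  have hm1 := h.mono S.X₁
  have hm2 := h.mono S.X₂
  have hmf := hS.mono_f
  have hmono : Mono (T.map S.f) := by
    have e : T.map S.f ≫ τ.app S.X₂ = τ.app S.X₁ ≫ S.f := τ.naturality S.f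
    have : Mono (T.map S.f ≫ τ.app S.X₂) := by rw [e]; exact mono_comp _ _
    exact mono_of_mono _ (τ.app S.X₂)
  refine ⟨?_, hmono⟩
  refine ShortComplex.exact_of_f_is_kernel _ ?_
  refine KernelFork.IsLimit.ofι _ _ (fun {W} x hx => (exists_lift_of_hyp h S hS x hx).choose)
    (fun {W} x hx => (exists_lift_of_hyp h S hS x hx).choose_spec) (fun {W} x hx m hm => ?_)
  have : Mono (S.map T).f := hmono
  rw [← cancel_mono (S.map T).f]
  exact hm.trans (exists_lift_of_hyp h S hS x hx).choose_spec.symm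

end Groth.Agent.Helper3.RDKer
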