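import Mathlib
import Groth.Prelude.Def_LocCohZ
import Groth.Agent.Lib.Helper3.LocCohMod1
import Groth.Agent.Lib.Helper3.RDKer2
import Groth.Agent.Lib.Helper3.LerayCol4
import Groth.Agent.Lib.Helper3.LerayCol2
import Groth.Agent.Lib.Helper1.RpushComp
import Groth.Agent.Lib.Helper1.QcAbel
import Groth.Agent.Lib.Helper1.PushQc
import Groth.Agent.Lib.Helper5.Misc.RDExact
import Groth.Agent.Lib.Helper5.Stalk.FlatPull
import Groth.Agent.Lib.Helper5.RpushCl.RpushClassic

set_option autoImplicit false
universe u
open CategoryTheory CategoryTheory.Limits TopologicalSpace Opposite AlgebraicGeometry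

namespace Groth.Agent.Helper3.LocCohMod

open Groth.Agent.Helper1

variable {U Y : Scheme.{u}} (j : U ⟶ Y) [IsOpenImmersion j]

/-- the restriction of an injective module to an open subscheme is flasque -/
theorem isFlasque_toAb_restrict (Q : Y.Modules) [Injective Q] :
    TopCat.Sheaf.IsFlasque (Coh.toAb ((Scheme.Modules.restrictFunctor j).obj Q)) where
  epi {V W} i := by
    rw [AddCommGrpCat.epi_iff_surjective]
    have h : W.unop ≤ V.unop := leOfHom i.unop
    exact Groth.Agent.Lib.Helper5.MV.surjective_res_of_injective Q (j.image_mono h)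

/-- `j^* Q` is `j_*`-acyclic for injective `Q` -/
theorem isZero_rpush_restrict [HasInjectiveResolutions U.Modules] (Q : Y.Modules) [Injective Q]
    (q : ℕ) (hq : 0 < q) :
    IsZero ((Coh.Rpush j q).obj ((Scheme.Modules.restrictFunctor j).obj Q)) := by
  obtain ⟨m, rfl⟩ : ∃ m, q = m + 1 := ⟨q - 1, by omega⟩
  obtain ⟨e⟩ := RpushComp.nonempty_iso j ((Scheme.Modules.restrictFunctor j).obj Q) (m + 1)
  haveI := isFlasque_toAb_restrict j Q
  exact RpushComp.isZero_of_toAb _
    (IsZero.of_iso (LerayCol4.isZero_rpush_of_isFlasque j.base _ m) e)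

variable [HasInjectiveResolutions Y.Modules]

/-- `R^n(j_* j^*)(M) ≅ R^n j_* (j^* M)` -/
theorem nonempty_iso_HH [HasInjectiveResolutions U.Modules] (M : Y.Modules) (n : ℕ) :
    Nonempty (((HH j).rightDerived n).obj M ≅
      (Coh.Rpush j n).obj ((Scheme.Modules.restrictFunctor j).obj M)) := by
  refine LerayCol3.nonempty_iso_row (Scheme.Modules.restrictFunctor j)
    (Scheme.Modules.pushforward j) ?_ M ?_ n
  · intro Q hQ q hq
    exact isZero_rpush_restrict j Q q hq
  · intro q hq
    obtain ⟨m, rfl⟩ : ∃ m, q = m + 1 := ⟨q - 1, by omega⟩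
    exact Groth.Agent.Lib.Helper5.Misc.RDExact.isZero_rightDerived_succ _ M m

/-- **the local cohomology sheaves of a quasi-coherent module along the complement of a
quasi-compact open immersion are quasi-coherent** -/
theorem S6030_main [QuasiCompact j] (M : Y.Modules) (hM : Coh.IsQCoh M) (q : ℕ) :
    Coh.IsQCoh ((LocCohZ.HZshM j q).obj M) := by
  haveI : M.IsQuasicoherent := hM
  haveI : ((𝟭 Y.Modules).obj M).IsQuasicoherent := hM
  haveI := LerayCol.hasInjectiveResolutions U
  haveI : ((Scheme.Modules.restrictFunctor j).obj M).IsQuasicoherent := inferInstance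
  haveI : ((HH j).obj M).IsQuasicoherent := PushQc.isQuasicoherent_pushforward j _
  haveI : PreservesFiniteLimits (HH j) := comp_preservesFiniteLimits _ _
  match q with
  | 0 =>
    haveI := RDKer.preservesFiniteLimits_of_hyp (hyp j)
    have e : ((DCoh.gammaZ j).rightDerived 0).obj M ≅ (DCoh.gammaZ j).obj M :=
      (Functor.rightDerivedZeroIsoSelf _).app M
    haveI : ((DCoh.gammaZ j).obj M).IsQuasicoherent :=
      QcAbel.isQuasicoherent_kernel ((ηη j).app M)
    exact QcAbel.isQuasicoherent_of_iso e.symm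
  | 1 =>
    have hex := RDKer.exact_app (hyp j) M
    haveI := RDKer.epi_β_app (hyp j) M
    let e : cokernel ((ηη j).app M) ≅ ((DCoh.gammaZ j).rightDerived 1).obj M :=
      IsColimit.coconePointUniqueUpToIso (cokernelIsCokernel _) hex.gIsCokernel
    haveI := QcAbel.isQuasicoherent_cokernel ((ηη j).app M)
    exact QcAbel.isQuasicoherent_of_iso e
  | i + 2 =>
    obtain ⟨e⟩ := nonempty_iso_HH j M (i + 1)
    have e2 := (RDKer.natIso (hyp j) i).app M
    haveI := Groth.Agent.Lib.Helper5.RpushClassic.isQuasicoherent_rpush j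
      ((Scheme.Modules.restrictFunctor j).obj M) (i + 1)
    exact QcAbel.isQuasicoherent_of_iso (e.symm ≪≫ e2)

end Groth.Agent.Helper3.LocCohMod
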