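import Mathlib
import Groth.Prelude.Def_SpSeq
import Groth.Agent.Lib.Helper1.SpSeqL

/-!
# Weak Serre classes and spectral sequences

If `P` is a weak Serre class (closed under kernels, cokernels, extensions) and a first-quadrant-like
spectral sequence has `E_r^{p,q} ∈ P` for `q ≤ n`, then the abutment is in `P` in degrees `≤ n`.
-/

set_option autoImplicit false
universe v u
open CategoryTheory CategoryTheory.Limits

namespace Groth.Agent.Helper3.SpSerre

open Groth.Agent.Helper1

variable {C : Type u} [Category.{v} C] [Abelian C]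

/-- if `m` is a monomorphism, the induced map `coker f ⟶ coker (f ≫ m)` is a monomorphism -/
theorem mono_cokernel_map {A T D : C} (f : A ⟶ T) (m : T ⟶ D) [Mono m] :
    Mono (cokernel.desc f (m ≫ cokernel.π (f ≫ m))
      (by rw [← Category.assoc, cokernel.condition])) := by
  rw [Preadditive.mono_iff_cancel_zero]
  intro W x hx
  obtain ⟨W', π', hπ', t, ht⟩ := surjective_up_to_refinements_of_epi (cokernel.π f) x
  have h1 : (t ≫ m) ≫ cokernel.π (f ≫ m) = 0 := by
    have := congrArg (fun z => π' ≫ z) hx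
    simp only [comp_zero] at this
    rw [← Category.assoc, ht, Category.assoc, cokernel.π_desc] at this
    rw [Category.assoc]
    exact this
  have hex : (ShortComplex.mk (f ≫ m) (cokernel.π (f ≫ m)) (cokernel.condition _)).Exact :=
    ShortComplex.exact_cokernel _
  obtain ⟨W'', π'', hπ'', a, ha⟩ := hex.exact_up_to_refinements (t ≫ m) h1
  dsimp at ha
  have h2 : π'' ≫ t = a ≫ f := by
    rw [← cancel_mono m, Category.assoc, Category.assoc, ha]
  have h3 : (π'' ≫ π') ≫ x = 0 := by
    rw [Category.assoc, ht, ← Category.assoc, h2, Category.assoc, cokernel.condition, comp_zero]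
  haveI : Epi (π'' ≫ π') := epi_comp _ _
  exact (cancel_epi (π'' ≫ π')).1 (h3.trans comp_zero.symm)

section Class

variable (P : ObjectProperty C) [P.IsClosedUnderIsomorphisms]
  (hzero : ∀ X : C, IsZero X → P X)
  (hker : ∀ {X Y : C} (f : X ⟶ Y), P X → P Y → P (kernel f))
  (hcoker : ∀ {X Y : C} (f : X ⟶ Y), P X → P Y → P (cokernel f))
  (hext : ∀ S : ShortComplex C, S.ShortExact → P S.X₁ → P S.X₃ → P S.X₂)

include hker hcoker in
/-- the homology of `X₁ ⟶ X₂ ⟶ X₃` is in `P` if `X₁, X₂ ∈ P` and `X₃` embeds into an object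
of `P` -/
theorem prop_homology (S : ShortComplex C) (h₁ : P S.X₁) (h₂ : P S.X₂) {D : C} (m : S.X₃ ⟶ D)
    [Mono m] (hD : P D) : P S.homology := by
  have hk : P (kernel S.g) :=
    P.prop_of_iso (kernelCompMono S.g m) (hker (S.g ≫ m) h₂ hD)
  have hc : P S.cycles := P.prop_of_iso S.cyclesIsoKernel.symm hk
  have hq : P (cokernel S.toCycles) := hcoker S.toCycles h₁ hc
  have e : cokernel S.toCycles ≅ S.homology :=
    IsColimit.coconePointUniqueUpToIso (colimit.isColimit _) S.homologyIsCokernel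
  exact P.prop_of_iso e hq

include hcoker in
/-- the homology of `X₁ ⟶ X₂ ⟶ X₃` embeds into an object of `P` if `X₁ ∈ P` and `X₂` embeds into
an object of `P` -/
theorem exists_mono_homology (S : ShortComplex C) (h₁ : P S.X₁) {D : C} (m : S.X₂ ⟶ D)
    [Mono m] (hD : P D) : ∃ (D' : C) (m' : S.homology ⟶ D'), Mono m' ∧ P D' := by
  refine ⟨cokernel (S.f ≫ m), S.homologyι ≫ S.opcyclesIsoCokernel.hom ≫
    cokernel.desc S.f (m ≫ cokernel.π (S.f ≫ m)) (by rw [← Category.assoc, cokernel.condition]),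
    ?_, hcoker _ h₁ hD⟩
  haveI := mono_cokernel_map S.f m
  infer_instance

include hzero hext in
/-- an object with a finite filtration whose graded pieces are in `P` is in `P` -/
theorem prop_of_finite_gr (L : SpSeq.FilObj C) (hL : L.IsFinite) (hgr : ∀ p : ℤ, P (L.gr p)) :
    P L.obj := by
  obtain ⟨⟨a, ha⟩, ⟨b, hb⟩⟩ := hL
  have step : ∀ k : ℕ, P (L.step (b - k)) := by
    intro k
    induction k with
    | zero =>
      apply hzero
      have h0 : L.fil (b - ((0 : ℕ) : ℤ)) = ⊥ := by simpa using hb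
      rw [show L.step (b - ((0 : ℕ) : ℤ)) = ((L.fil (b - ((0 : ℕ) : ℤ)) : Subobject L.obj) : C) from rfl,
        h0]
      exact (isZero_zero C).of_iso Subobject.botCoeIsoZero
    | succ k ih =>
      have e : b - ((k + 1 : ℕ) : ℤ) + 1 = b - k := by push_cast; ring
      let q := b - ((k + 1 : ℕ) : ℤ)
      let S : ShortComplex C := ShortComplex.mk
        ((L.fil (q + 1)).ofLE (L.fil q) (L.anti (Int.le_add_one le_rfl)))
        (cokernel.π _) (cokernel.condition _)
      have hS : S.ShortExact :=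
        { exact := ShortComplex.exact_cokernel _
          mono_f := inferInstanceAs (Mono ((L.fil (q + 1)).ofLE (L.fil q) _))
          epi_g := inferInstanceAs (Epi (cokernel.π _)) }
      have h1 : P S.X₁ := by
        change P (L.step (q + 1))
        rw [show q + 1 = b - k from e]
        exact ih
      exact hext S hS h1 (hgr q)
  have htop : L.fil (b - ((b - a).toNat : ℤ)) = ⊤ := by
    have hle : b - ((b - a).toNat : ℤ) ≤ a := by omega
    exact top_le_iff.1 (ha ▸ L.anti hle)
  have h := step (b - a).toNat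
  rw [show L.step (b - ((b - a).toNat : ℤ)) =
    ((L.fil (b - ((b - a).toNat : ℤ)) : Subobject L.obj) : C) from rfl, htop] at h
  exact P.prop_of_iso (asIso (⊤ : Subobject L.obj).arrow) h

end Class


section Pages

variable (P : ObjectProperty C) [P.IsClosedUnderIsomorphisms]
  (hzero : ∀ X : C, IsZero X → P X)
  (hker : ∀ {X Y : C} (f : X ⟶ Y), P X → P Y → P (kernel f))
  (hcoker : ∀ {X Y : C} (f : X ⟶ Y), P X → P Y → P (cokernel f))
  (hext : ∀ S : ShortComplex C, S.ShortExact → P S.X₁ → P S.X₃ → P S.X₂)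
  {r₀ : ℤ} (E : CohomologicalSpectralSequence C r₀)

/-- the invariant carried through the pages: vanishing for `p < 0`, membership in `P` in total
degree `≤ n`, and embeddability into an object of `P` in total degree `n + 1` (for `p ≥ 2`) -/
structure Inv (n : ℤ) (r : ℤ) (hr : r₀ ≤ r) : Prop where
  zero : ∀ p q : ℤ, p < 0 → IsZero ((E.page r hr).X (p, q))
  low : ∀ p q : ℤ, p + q ≤ n → P ((E.page r hr).X (p, q))
  emb : ∀ p q : ℤ, p + q = n + 1 → 2 ≤ p →
    ∃ (D : C) (m : (E.page r hr).X (p, q) ⟶ D), Mono m ∧ P D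

omit [P.IsClosedUnderIsomorphisms] in
include hzero in
theorem inv_base (n r : ℤ) (hr : r₀ ≤ r)
    (hneg : ∀ p q : ℤ, p < 0 → IsZero ((E.page r hr).X (p, q)))
    (h : ∀ p q : ℤ, q ≤ n → P ((E.page r hr).X (p, q))) : Inv P E n r hr where
  zero := hneg
  low := by
    intro p q hpq
    by_cases hp : p < 0
    · exact hzero _ (hneg p q hp)
    · exact h p q (by omega)
  emb := by
    intro p q hpq hp
    exact ⟨_, 𝟙 _, inferInstance, h p q (by omega)⟩

theorem nonempty_iso_sc' (r : ℤ) (hr : r₀ ≤ r) (pq : ℤ × ℤ) :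
    Nonempty ((E.page (r + 1) (by lia)).X pq ≅
      ((E.page r hr).sc' (pq - (r, 1 - r)) pq (pq + (r, 1 - r))).homology) := by
  refine ⟨(E.iso r (r + 1) pq rfl hr).symm ≪≫ (E.page r hr).homologyIsoSc' _ pq _ ?_ ?_⟩
  · exact ComplexShape.prev_eq' _ (by
      change pq - (r, 1 - r) + (r, 1 - r) = pq
      exact sub_add_cancel _ _)
  · exact ComplexShape.next_eq' _ (by
      change pq + (r, 1 - r) = pq + (r, 1 - r)
      rfl)

include hzero hker hcoker in
theorem inv_succ (n r : ℤ) (hr : r₀ ≤ r) (h2 : 2 ≤ r) (h : Inv P E n r hr) :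
    Inv P E n (r + 1) (by lia) := by
  refine ⟨?_, ?_, ?_⟩
  · intro p q hp
    exact SpSeqL.isZero_succ E r hr (p, q) (h.zero p q hp)
  · intro p q hpq
    by_cases hp : p < 0
    · exact hzero _ (SpSeqL.isZero_succ E r hr (p, q) (h.zero p q hp))
    · obtain ⟨e⟩ := nonempty_iso_sc' E r hr (p, q)
      apply P.prop_of_iso e.symm
      have h₁ : P ((E.page r hr).X ((p, q) - (r, 1 - r))) :=
        h.low (p - r) (q - (1 - r)) (by omega)
      have h₂ := h.low p q hpq
      by_cases hn : p + q + 1 ≤ n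
      · exact prop_homology P hker hcoker
          ((E.page r hr).sc' ((p, q) - (r, 1 - r)) (p, q) ((p, q) + (r, 1 - r))) h₁ h₂ (𝟙 _)
          (h.low (p + r) (q + (1 - r)) (by omega))
      · obtain ⟨D, m, hm, hD⟩ := h.emb (p + r) (q + (1 - r)) (by omega) (by omega)
        exact @prop_homology C _ _ P _ hker hcoker
          ((E.page r hr).sc' ((p, q) - (r, 1 - r)) (p, q) ((p, q) + (r, 1 - r))) h₁ h₂ D m hm hD
  · intro p q hpq hp
    obtain ⟨e⟩ := nonempty_iso_sc' E r hr (p, q)
    obtain ⟨D, m, hm, hD⟩ := h.emb p q hpq hp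
    have h₁ : P ((E.page r hr).X ((p, q) - (r, 1 - r))) :=
      h.low (p - r) (q - (1 - r)) (by omega)
    obtain ⟨D', m', hm', hD'⟩ := @exists_mono_homology C _ _ P _ hcoker
      ((E.page r hr).sc' ((p, q) - (r, 1 - r)) (p, q) ((p, q) + (r, 1 - r))) h₁ D m hm hD
    haveI := hm'
    exact ⟨D', e.hom ≫ m', inferInstance, hD'⟩

include hzero hker hcoker in
theorem inv_of_le (n r : ℤ) (hr : r₀ ≤ r) (h2 : 2 ≤ r) (h : Inv P E n r hr) :
    ∀ (k : ℤ) (hk : r ≤ k), Inv P E n k (hr.trans hk) := by
  intro k hk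
  induction k, hk using Int.leInduction with
  | base => exact h
  | succ m hm ih => exact inv_succ P hzero hker hcoker E n m (hr.trans hm) (h2.trans hm) ih

omit [P.IsClosedUnderIsomorphisms] in
theorem prop_grPiece_congr {H : ℤ → C} (a : SpSeq.Abutment E H) (m n : ℤ) (h : m = n) (p : ℤ) :
    P (SpSeq.grPiece (a.fil m) (a.anti m) p) → P (SpSeq.grPiece (a.fil n) (a.anti n) p) := by
  subst h
  exact id

include hzero hker hcoker hext in
/-- **Weak Serre classes pass to the abutment in low degrees.** -/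
theorem prop_abut {H : ℤ → C} (a : SpSeq.Abutment E H) (n r : ℤ) (hr : r₀ ≤ r) (h2 : 2 ≤ r)
    (h : Inv P E n r hr) (i : ℤ) (hi : i ≤ n) (hfin : a.IsFinite i) : P (H i) := by
  refine prop_of_finite_gr P hzero hext (a.filObj i) hfin (fun p => ?_)
  change P (SpSeq.grPiece (a.fil i) (a.anti i) p)
  refine prop_grPiece_congr P E a (p + (i - p)) i (by ring) p ?_
  have hs := a.stat (p, i - p)
  refine P.prop_of_iso (a.β (p, i - p)) ?_
  rcases le_total r (a.rk (p, i - p)) with hle | hle
  · exact (inv_of_le P hzero hker hcoker E n r hr h2 h _ hle).low p (i - p) (by omega)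
  · obtain ⟨e⟩ := SpSeqL.nonempty_iso_of_stationary E (a.rk (p, i - p)) (p, i - p) hs r hle
    exact P.prop_of_iso e.symm (h.low p (i - p) (by omega))

end Pages

end Groth.Agent.Helper3.SpSerre
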