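import Mathlib
import Groth.Prelude.Def_RDerDelta
import Groth.Agent.Lib.Helper3.RDerL

/-!
# Vanishing of right derived functors along "regular" endomorphisms of the identity killed by the functor

Let `T : C ⥤ D` be an additive functor between abelian categories (`C` with enough injectives) and
`φ : 𝟭 C ⟶ 𝟭 C` a natural endomorphism of the identity functor such that `T.map (φ.app Q) = 0` for every `Q`.
* `rightDerived_map_app_eq_zero`: every `(T.rightDerived q).map (φ.app E)` vanishes;
* `isZero_obj_of_mono`: if `T` preserves monomorphisms and `φ.app E` is a monomorphism, then `T.obj E` is zero;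
* `isZero_rightDerived_succ`: if `0 ⟶ E ⟶ E ⟶ E' ⟶ 0` is short exact with first map `φ.app E` and
  `R^q T (E') = 0`, then `R^{q+1} T (E) = 0`.
-/

set_option autoImplicit false
universe v v' u u'
open CategoryTheory CategoryTheory.Limits

namespace Groth.Agent.Helper3.ExtReg

variable {C : Type u} [Category.{v} C] [Abelian C] [EnoughInjectives C]
  {D : Type u'} [Category.{v'} D] [Abelian D] (T : C ⥤ D) [T.Additive]

/-- a natural endomorphism of the identity which `T` kills objectwise is killed by all the derived functors -/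
theorem rightDerived_map_app_eq_zero (φ : 𝟭 C ⟶ 𝟭 C) (h : ∀ Q : C, T.map (φ.app Q) = 0) (E : C) (q : ℕ) :
    (T.rightDerived q).map (φ.app E) = 0 := by
  let I : InjectiveResolution E := injectiveResolution E
  let g : I.cocomplex ⟶ I.cocomplex :=
    { f := fun n => φ.app (I.cocomplex.X n)
      comm' := fun i j _ => by
        have := φ.naturality (I.cocomplex.d i j)
        simpa using this.symm }
  have w : I.ι ≫ g = (CochainComplex.single₀ C).map (φ.app E) ≫ I.ι := by
    ext
    have := φ.naturality (I.ι.f 0)
    simpa [g] using this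
  rw [Functor.rightDerived_map_eq T q (φ.app E) g w]
  have hz : (T.mapHomologicalComplex (ComplexShape.up ℕ)).map g = 0 := by
    ext n
    exact h _
  rw [Functor.comp_map, hz, Functor.map_zero, zero_comp, comp_zero]

/-- base case -/
theorem isZero_obj_of_mono [T.PreservesMonomorphisms] (φ : 𝟭 C ⟶ 𝟭 C) (E : C)
    (h : T.map (φ.app E) = 0) [Mono (φ.app E)] : IsZero (T.obj E) := by
  haveI : Mono (T.map (φ.app E)) := inferInstance
  rw [IsZero.iff_id_eq_zero, ← cancel_mono (T.map (φ.app E)), h]
  simp

/-- inductive step -/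
theorem isZero_rightDerived_succ (φ : 𝟭 C ⟶ 𝟭 C) (h : ∀ Q : C, T.map (φ.app Q) = 0) {E E' : C} (π : E ⟶ E')
    (w : φ.app E ≫ π = 0) (hS : (ShortComplex.mk (φ.app E) π w).ShortExact) (q : ℕ)
    (hq : IsZero ((T.rightDerived q).obj E')) : IsZero ((T.rightDerived (q + 1)).obj E) := by
  let Δ := Groth.Agent.Helper3.RDerL.derivedLES T
  have hex := Δ.exact₁ _ hS q (q + 1) rfl
  have h0 : (T.rightDerived (q + 1)).map (φ.app E) = 0 := rightDerived_map_app_eq_zero T φ h E (q + 1)
  have hepi : Epi (Δ.δ _ hS q (q + 1) rfl) := by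
    refine hex.epi_f ?_
    exact h0
  exact IsZero.of_epi (Δ.δ _ hS q (q + 1) rfl) hq

end Groth.Agent.Helper3.ExtReg
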