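import Mathlib
import Groth.Agent.Lib.Helper2.HomExt.Model
import Groth.Agent.Lib.Helper3.ExtReg2

/-!
# The sheaf Hom out of a module killed by a global function kills multiplication by that function
-/

set_option autoImplicit false
set_option backward.isDefEq.respectTransparency.types false
universe u
open CategoryTheory CategoryTheory.Limits AlgebraicGeometry TopologicalSpace Opposite

namespace Groth.Agent.Helper3.ExtReg

open Groth.Agent.Helper2.HomExt

variable {X : Scheme.{u}}

theorem homShMap_smulHom_eq_zero (F Q : X.Modules) (r : Γ(X, ⊤)) (hr : Kills r F) :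
    homShMap F (smulHom r Q) = 0 := by
  rw [kills_iff] at hr
  apply Scheme.Modules.hom_ext
  intro U
  ext g
  apply Groth.Agent.Lead.RH.hom_ext
  intro x
  change ((homShMap F (smulHom r Q)).app U g).1 x = 0
  apply LinearMap.ext
  intro s
  obtain ⟨V, hxV, m, rfl⟩ := TopCat.Presheaf.exists_germ_eq F.presheaf s
  have hle : V ⊓ U ≤ U := inf_le_right
  have hxVU : x.1 ∈ V ⊓ U := ⟨hxV, x.2⟩
  rw [← TopCat.Presheaf.germ_res_apply F.presheaf (homOfLE (inf_le_left : V ⊓ U ≤ V)) x.1 hxVU m]
  rw [← Groth.Agent.Lead.RH.germ_app ((homShMap F (smulHom r Q)).app U g) hle _ x.1 hxVU]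
  rw [app_homShMap, smulHom_app, ← Groth.Agent.Lead.RH.app_smul, hr]
  have h0 : Groth.Agent.Lead.RH.app g hle (0 : Γ(F, V ⊓ U)) = 0 := by
    have := Groth.Agent.Lead.RH.app_smul g hle (0 : Γ(X, V ⊓ U)) (0 : Γ(F, V ⊓ U))
    simpa using this
  rw [h0, map_zero]
  rfl

variable (F : X.Modules) [ModSite.HasSheafHom (O := X.sheaf) F]

/-- the internal Hom out of a module killed by `r` kills multiplication by `r` -/
theorem sheafHom_map_smulHom_eq_zero (Q : X.Modules) (r : Γ(X, ⊤)) (hr : Kills r F) :
    (ModSite.sheafHom (O := X.sheaf) F).map (smulHom r Q) = 0 := by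
  have h := homShMap_toModel F (smulHom r Q)
  rw [homShMap_smulHom_eq_zero F Q r hr, zero_comp] at h
  exact (cancel_epi (toModel F Q)).1 (h.symm.trans comp_zero.symm)

end Groth.Agent.Helper3.ExtReg
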