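import Mathlib
import Groth.Prelude.Def_ModSite2
import Groth.Agent.Lib.Helper3.ExtReg1
import Groth.Agent.Lib.Helper3.ExtReg3
import Groth.Agent.Lib.Helper3.RelExtHyp
import Groth.Agent.Lib.Helper5.QC.TildeExact
import Groth.Agent.S0485

/-!
# Local Ext into `M~` out of a module killed by a weakly `M`-regular sequence vanishes below the length
-/

set_option autoImplicit false
universe u
open CategoryTheory CategoryTheory.Limits AlgebraicGeometry TopologicalSpace Opposite

namespace Groth.Agent.Helper3.ExtReg

variable (R : CommRingCat.{u})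

/-- `M ↦ M~` with values in `(Spec R).Modules` -/
noncomputable def tl : ModuleCat.{u} R ⥤ (Spec R).Modules := tilde.functor R

/-- global sections as an `R`-module -/
noncomputable def gm : (Spec R).Modules ⥤ ModuleCat.{u} R := moduleSpecΓFunctor

/-- the tilde–Γ adjunction -/
noncomputable def tlAdj : tl R ⊣ gm R := tilde.adjunction

instance tl_additive : (tl R).Additive := by
  have h : (tilde.functor R).Additive := inferInstance
  exact h

instance tl_pfl : PreservesFiniteLimits (tl R) := by
  have h : PreservesFiniteLimits (tilde.functor R) :=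
    Groth.Agent.Lib.Helper5.QC.preservesFiniteLimits_tilde
  exact h

instance tl_pm : (tl R).PreservesMonomorphisms := by
  have h : (tilde.functor R).PreservesMonomorphisms := inferInstance
  exact h

instance tl_pfc : PreservesFiniteColimits (tl R) := by
  have h : PreservesFiniteColimits (tilde.functor R) := inferInstance
  exact h

variable {R}

/-- an element of `R` as a global function on `Spec R` -/
noncomputable abbrev gl (a : R) : Γ(Spec R, ⊤) := (Scheme.ΓSpecIso R).inv a

theorem smulHom_gl_app (a : R) (N : (Spec R).Modules) (U : (Spec R).Opens) (m : Γ(N, U)) :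
    (smulHom (gl a) N).app U m = a • m := rfl

theorem smulHom_tilde (M : ModuleCat.{u} R) (a : R) :
    smulHom (gl a) ((tl R).obj M) = (tl R).map (a • 𝟙 M) := by
  have key : (tlAdj R).homEquiv M ((tl R).obj M) (smulHom (gl a) ((tl R).obj M)) =
      (tlAdj R).homEquiv M ((tl R).obj M) ((tl R).map (a • 𝟙 M)) := by
    rw [Adjunction.homEquiv_unit, Adjunction.homEquiv_unit]
    have hn := (tlAdj R).unit.naturality (a • 𝟙 M)
    rw [Functor.comp_map] at hn
    rw [← hn]
    ext x
    change (smulHom (gl a) ((tl R).obj M)).app ⊤ (((tlAdj R).unit.app M).hom x) =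
      ((tlAdj R).unit.app M).hom (a • x)
    rw [smulHom_gl_app, map_smul]
    rfl
  exact ((tlAdj R).homEquiv M ((tl R).obj M)).injective key

theorem shortExact_of_eq {C : Type*} [Category C] [HasZeroMorphisms C] (S : ShortComplex C)
    (hS : S.ShortExact) (f' : S.X₁ ⟶ S.X₂) (h : f' = S.f) (w : f' ≫ S.g = 0) :
    (ShortComplex.mk f' S.g w).ShortExact := by
  subst h
  exact hS

theorem isZero_extSh_tilde (G : (Spec R).Modules) [ModSite.HasSheafHom (O := (Spec R).sheaf) G]
    [HasInjectiveResolutions (ModSite.Mod (Spec R).sheaf)]
    (rs : List R) (hk : ∀ r ∈ rs, Kills (gl r) G) :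
    ∀ (M : ModuleCat.{u} R), RingTheory.Sequence.IsWeaklyRegular M rs → ∀ q, q < rs.length →
      IsZero ((ModSite.extSh (O := (Spec R).sheaf) G q).obj ((tl R).obj M)) := by
  haveI : EnoughInjectives (Spec R).Modules := Groth.Agent.S0485.result _ (Spec R).ringCatSheaf
  let T : (Spec R).Modules ⥤ (Spec R).Modules := ModSite.sheafHom (O := (Spec R).sheaf) G
  haveI : T.Additive := ModSite.sheafHom_additive (Spec R).sheaf G
  haveI : PreservesFiniteLimits T :=
    Groth.Agent.Helper3.RelExtHyp.preservesFiniteLimits_sheafHom (O := (Spec R).sheaf) G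
  induction rs with
  | nil =>
    intro M _ q hq
    simp at hq
  | cons r rs ih =>
    intro M hM q hq
    rw [RingTheory.Sequence.isWeaklyRegular_cons_iff] at hM
    obtain ⟨hr, hM'⟩ := hM
    have hkr : Kills (gl r) G := hk r (List.mem_cons_self ..)
    have hT : ∀ Q, T.map ((smulNat (gl r)).app Q) = 0 :=
      fun Q => sheafHom_map_smulHom_eq_zero G Q (gl r) hkr
    have hf : smulHom (gl r) ((tl R).obj M) =
        (tl R).map (ModuleCat.smulShortComplex M r).f := by
      rw [smulHom_tilde]
      rfl
    cases q with
    | zero =>
      have e := (Functor.rightDerivedZeroIsoSelf T).app ((tl R).obj M)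
      refine IsZero.of_iso ?_ e
      haveI : Mono ((smulNat (gl r)).app ((tl R).obj M)) := by
        change Mono (smulHom (gl r) ((tl R).obj M))
        rw [hf]
        haveI hm : Mono (ModuleCat.smulShortComplex M r).f := hr.smulShortComplex_shortExact.mono_f
        exact Functor.map_mono (tl R) (ModuleCat.smulShortComplex M r).f
      exact isZero_obj_of_mono T (smulNat (gl r)) ((tl R).obj M) (hT _)
    | succ q =>
      have hq' : q < rs.length := by simpa using hq
      have ih' := ih (fun r' hr' => hk r' (List.mem_cons_of_mem _ hr'))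
        (ModuleCat.of R (QuotSMulTop r M)) hM' q hq'
      have hS := (hr.smulShortComplex_shortExact).map_of_exact (tl R)
      have w0 : (tl R).map (ModuleCat.smulShortComplex M r).f ≫
          (tl R).map (ModuleCat.smulShortComplex M r).g = 0 := by
        rw [← Functor.map_comp, (ModuleCat.smulShortComplex M r).zero, Functor.map_zero]
      have w : smulHom (gl r) ((tl R).obj M) ≫
          (tl R).map (ModuleCat.smulShortComplex M r).g = 0 := by
        rw [hf]
        exact w0
      have hS' := shortExact_of_eq _ hS _ hf w
      exact isZero_rightDerived_succ T (smulNat (gl r)) hT _ w hS' q ih'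

end Groth.Agent.Helper3.ExtReg
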