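import Mathlib
import Groth.Prelude.Def_ModSite2
import Groth.Prelude.Def_FlatMod2
import Groth.Agent.Lib.Helper3.ExtReg4
import Groth.Agent.Lib.Helper3.SHomEx
import Groth.Agent.Lib.Helper3.LerayCol2
import Groth.Agent.Lib.Helper2.HomExt.RestrExt
import Groth.Agent.Lib.Lead.FLF6

/-!
# Local Ext sheaves `ℰxt^q(G, E)` vanish for `q < c` when `G` is locally killed by weakly regular sequences
of length `c` and `E` is finite locally free
-/

set_option autoImplicit false
universe u
open CategoryTheory CategoryTheory.Limits AlgebraicGeometry TopologicalSpace Opposite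

namespace Groth.Agent.Helper3.ExtReg

variable {X : Scheme.{u}}

theorem isZero_of_forall_subsingleton' (F : X.Modules)
    (h : ∀ U : X.Opens, Subsingleton Γ(F, U)) : IsZero F := by
  rw [IsZero.iff_id_eq_zero]
  apply Scheme.Modules.hom_ext
  intro U
  ext s
  have := h U
  exact Subsingleton.elim _ _

theorem subsingleton_sections_of_isZero' (F : X.Modules) (hF : IsZero F)
    (U : X.Opens) : Subsingleton Γ(F, U) := by
  have h1 : 𝟙 F = 0 := hF.eq_of_src _ _
  refine ⟨fun s t => ?_⟩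
  suffices h : ∀ s : Γ(F, U), s = 0 by rw [h s, h t]
  intro s
  have h2 : (𝟙 F : F ⟶ F).app U s = (0 : F ⟶ F).app U s := by rw [h1]
  rw [Scheme.Modules.Hom.id_app, Scheme.Modules.Hom.zero_app] at h2
  exact h2

/-- being zero is local for charts -/
theorem isZero_of_charts (M : X.Modules)
    (h : ∀ x : X, ∃ (V : Scheme.{u}) (j : V ⟶ X) (_ : IsOpenImmersion j), x ∈ j.opensRange ∧
      IsZero ((Scheme.Modules.restrictFunctor j).obj M)) : IsZero M := by
  choose V j hj hxj hz using h
  apply isZero_of_forall_subsingleton'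
  intro U
  refine ⟨fun s t => ?_⟩
  let F : TopCat.Sheaf Ab X := ⟨M.presheaf, M.isSheaf⟩
  refine TopCat.Sheaf.eq_of_locally_eq' F
    (fun x : U => (j x.1) ''ᵁ ((j x.1) ⁻¹ᵁ U)) U
    (fun x => homOfLE (Scheme.Hom.image_preimage_le _ _)) ?_ s t ?_
  · intro y hy
    refine Opens.mem_iSup.2 ⟨⟨y, hy⟩, ?_⟩
    rw [Scheme.Hom.image_preimage_eq_opensRange_inf]
    exact ⟨hxj y, hy⟩
  · intro x
    have hsub : Subsingleton Γ((Scheme.Modules.restrictFunctor (j x.1)).obj M, (j x.1) ⁻¹ᵁ U) :=
      subsingleton_sections_of_isZero' _ (hz x.1) _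
    exact hsub.elim _ _

set_option backward.isDefEq.respectTransparency.types false in
/-- a finite locally free module on `Spec R` is `P~` with `P` flat -/
theorem exists_tl_iso_of_isFinLocFree {R : CommRingCat.{u}} (N : (Spec R).Modules)
    (hN : FlatMod.IsFinLocFree N) :
    ∃ P : ModuleCat.{u} R, Module.Flat R P ∧ Nonempty ((tl R).obj P ≅ N) := by
  haveI : N.IsQuasicoherent := Groth.Agent.Lead.FLF.isQuasicoherent_of_isFinLocFree N hN
  obtain ⟨hfin, hproj⟩ := (Groth.Agent.Lead.FLF.isFinLocFree_spec_iff N).1 hN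
  haveI : IsIso N.fromTildeΓ := Scheme.Modules.isIso_fromTildeΓ_of_isQuasicoherent N
  let P : ModuleCat.{u} R := (modulesSpecToSheaf.obj N).presheaf.obj (.op ⊤)
  haveI : Module.Projective R P := hproj
  have eN : tilde P ≅ N := asIso N.fromTildeΓ
  exact ⟨P, inferInstance, ⟨eN⟩⟩

section affine

variable {V : X.Opens} (hV : IsAffineOpen V)

theorem fromSpec_image_le (W : (Spec Γ(X, V)).Opens) : hV.fromSpec ''ᵁ W ≤ V := by
  have h := hV.fromSpec.image_le_opensRange W
  rwa [hV.opensRange_fromSpec] at h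

theorem map_appIso_hom (W : (Spec Γ(X, V)).Opens) :
    X.presheaf.map (homOfLE (fromSpec_image_le hV W)).op ≫ (hV.fromSpec.appIso W).hom =
      (Scheme.ΓSpecIso Γ(X, V)).inv ≫ (Spec Γ(X, V)).presheaf.map (homOfLE le_top).op := by
  rw [Scheme.Hom.appIso_hom, ← Category.assoc, Scheme.Hom.naturality, Category.assoc,
    hV.fromSpec_app_self, Category.assoc]
  congr 1

theorem appIso_inv_resTop_gl (r : Γ(X, V)) (W : (Spec Γ(X, V)).Opens) :
    (hV.fromSpec.appIso W).inv (resTop (gl r) W) =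
      X.presheaf.map (homOfLE (fromSpec_image_le hV W)).op r := by
  have h := congrArg (fun f => f.hom r) (map_appIso_hom hV W)
  change (hV.fromSpec.appIso W).hom (X.presheaf.map (homOfLE (fromSpec_image_le hV W)).op r) =
    resTop (gl r) W at h
  rw [← h]
  exact Iso.hom_inv_id_apply (hV.fromSpec.appIso W) _

/-- `G` is killed over `V` by `r ∈ Γ(X, V)` -/
def KillsOn (G : X.Modules) (V : X.Opens) (r : Γ(X, V)) : Prop :=
  ∀ (V' : X.Opens) (h : V' ≤ V) (m : Γ(G, V')), X.presheaf.map (homOfLE h).op r • m = 0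

theorem kills_restrict (G : X.Modules) (r : Γ(X, V)) (hk : KillsOn G V r) :
    Kills (gl r) ((Scheme.Modules.restrictFunctor hV.fromSpec).obj G) := by
  rw [kills_iff]
  intro W m
  change (hV.fromSpec.appIso W).inv (resTop (gl r) W) • (show Γ(G, hV.fromSpec ''ᵁ W) from m) = 0
  rw [appIso_inv_resTop_gl]
  exact hk _ (fromSpec_image_le hV W) m

theorem isZero_restrict_extSh (G E : X.Modules)
    [ModSite.HasSheafHom (O := X.sheaf) G] [HasInjectiveResolutions (ModSite.Mod X.sheaf)]
    (hE : FlatMod.IsFinLocFree E) (rs : List Γ(X, V))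
    (hreg : RingTheory.Sequence.IsWeaklyRegular Γ(X, V) rs)
    (hk : ∀ r ∈ rs, KillsOn G V r) (q : ℕ) (hq : q < rs.length) :
    IsZero ((Scheme.Modules.restrictFunctor hV.fromSpec).obj
      ((ModSite.extSh (O := X.sheaf) G q).obj E)) := by
  haveI : ModSite.HasSheafHom (O := (Spec Γ(X, V)).sheaf)
      ((Scheme.Modules.restrictFunctor hV.fromSpec).obj G) :=
    Groth.Agent.Helper3.SHomEx.hasSheafHom _
  haveI : HasInjectiveResolutions (ModSite.Mod (Spec Γ(X, V)).sheaf) :=
    Groth.Agent.Helper3.LerayCol.hasInjectiveResolutions (Spec Γ(X, V))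
  obtain ⟨e⟩ := Groth.Agent.Helper2.HomExt.nonempty_restrict_extSh_iso hV.fromSpec G E q
  refine IsZero.of_iso ?_ e
  let N : (Spec Γ(X, V)).Modules := (Scheme.Modules.restrictFunctor hV.fromSpec).obj E
  have hN : FlatMod.IsFinLocFree N := Groth.Agent.Lead.FLF.isFinLocFree_restrict hV.fromSpec E hE
  obtain ⟨P, hflat, ⟨eN⟩⟩ := exists_tl_iso_of_isFinLocFree N hN
  refine IsZero.of_iso ?_ ((ModSite.extSh (O := (Spec Γ(X, V)).sheaf)
    ((Scheme.Modules.restrictFunctor hV.fromSpec).obj G) q).mapIso eN.symm)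
  refine isZero_extSh_tilde _ rs (fun r hr => kills_restrict hV G r (hk r hr)) P ?_ q hq
  have h1 := hreg.isWeaklyRegular_rTensor (M₂ := P)
  exact ((TensorProduct.lid Γ(X, V) P).isWeaklyRegular_congr rs).1 h1

end affine

/-- **local Ext vanishing below the codimension** -/
theorem isZero_extSh_of_locally_regular (G E : X.Modules)
    [ModSite.HasSheafHom (O := X.sheaf) G] [HasInjectiveResolutions (ModSite.Mod X.sheaf)]
    (hE : FlatMod.IsFinLocFree E) (c : ℕ)
    (h : ∀ x : X, ∃ (V : X.Opens) (_ : IsAffineOpen V) (rs : List Γ(X, V)), x ∈ V ∧ rs.length = c ∧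
      RingTheory.Sequence.IsWeaklyRegular Γ(X, V) rs ∧ ∀ r ∈ rs, KillsOn G V r)
    (q : ℕ) (hq : q < c) : IsZero ((ModSite.extSh (O := X.sheaf) G q).obj E) := by
  apply isZero_of_charts
  intro x
  obtain ⟨V, hV, rs, hxV, hlen, hreg, hk⟩ := h x
  refine ⟨_, hV.fromSpec, inferInstance, ?_, ?_⟩
  · rw [hV.opensRange_fromSpec]
    exact hxV
  · exact isZero_restrict_extSh hV G E hE rs hreg hk q (hlen ▸ hq)

end Groth.Agent.Helper3.ExtReg
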