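import Mathlib
import Groth.Prelude.Def_Coh
import Groth.Agent.Lib.Helper3.LocGlobExt1

set_option autoImplicit false
universe u

open CategoryTheory Limits Opposite AlgebraicGeometry
open scoped ZeroObject

namespace Groth.Agent.Helper3.LocGlobExt

/-- transport of abutment data (with `0` in negative degrees) along objectwise isomorphisms -/
theorem exists_abutment_if₀ {r₀ : ℤ} {E : CohomologicalSpectralSequence AddCommGrpCat.{u} r₀}
    (H G : ℕ → AddCommGrpCat.{u})
    (a : SpSeq.Abutment E (fun n : ℤ => if 0 ≤ n then H n.toNat else 0))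
    (hfin : ∀ n, a.IsFinite n) (e : ∀ k, Nonempty (H k ≅ G k)) :
    ∃ a' : SpSeq.Abutment E (fun n : ℤ => if 0 ≤ n then G n.toNat else 0),
      ∀ n, a'.IsFinite n := by
  have e' : ∀ n : ℤ, Nonempty
      ((if 0 ≤ n then H n.toNat else 0) ≅ (if 0 ≤ n then G n.toNat else 0)) := by
    intro n
    by_cases hn : 0 ≤ n
    · rw [if_pos hn, if_pos hn]
      exact e _
    · rw [if_neg hn, if_neg hn]
      exact ⟨Iso.refl _⟩
  exact AbutIso.exists_abutment_of_iso a (fun n => (e' n).some) hfin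

theorem nonempty_iso_if₀ {X A B : AddCommGrpCat.{u}} (c : Prop) [Decidable c]
    (i : Nonempty (X ≅ if c then A else 0)) (e : Nonempty (A ≅ B)) :
    Nonempty (X ≅ if c then B else 0) := by
  obtain ⟨i⟩ := i
  by_cases h : c
  · rw [if_pos h] at i ⊢
    exact ⟨i ≪≫ e.some⟩
  · rw [if_neg h] at i ⊢
    exact ⟨i⟩

variable {C : Type u} [SmallCategory C] {J : GrothendieckTopology C} (O : Sheaf J CommRingCat.{u})
  (M : ModSite.Mod O) [ModSite.HasSheafHom M]
  [HasInjectiveResolutions (ModSite.Mod O)] [HasExt.{u} (ModSite.Mod O)]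

/-- **The local-to-global Ext spectral sequence** (existence form), with zero objects. -/
theorem main₀ (N : ModSite.Mod O) :
    ∃ (E : E₂CohomologicalSpectralSequence AddCommGrpCat.{u})
      (a : SpSeq.Abutment E (fun n : ℤ =>
        if 0 ≤ n then AddCommGrpCat.of (Abelian.Ext.{u} M N n.toNat) else 0)),
      (∀ n : ℤ, a.IsFinite n) ∧ SpSeq.IsBounded E ∧
      ∀ p q : ℤ, Nonempty ((E.page 2 le_rfl).X (p, q) ≅
        (if 0 ≤ p ∧ 0 ≤ q then
          AddCommGrpCat.of (ModSite.HC O ((ModSite.extSh M q.toNat).obj N) p.toNat)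
          else 0)) := by
  have hT : ∀ Q : ModSite.Mod O, Injective Q → ∀ q : ℕ, 0 < q →
      IsZero (((SΓ O).rightDerived q).obj ((ModSite.sheafHom M).obj Q)) := by
    intro Q hQ q hq
    exact isZero_rightDerived_SΓ O _ (Groth.Agent.S6150.result O M Q) q hq
  obtain ⟨E, a, hfin, hbdd, hE⟩ := Groth.Agent.Helper3.GSS.main' (ModSite.sheafHom M) (SΓ O) hT N
  obtain ⟨a', ha'⟩ := exists_abutment_if₀
    (fun k => ((ModSite.sheafHom M ⋙ SΓ O).rightDerived k).obj N)
    (fun k => AddCommGrpCat.of (Abelian.Ext.{u} M N k)) a hfin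
    (fun k => ⟨Groth.Agent.Helper3.ExtRD.rightDerivedIsoExt (ModSite.sheafHom M ⋙ SΓ O) M
      (compIso O M) N k⟩)
  refine ⟨E, a', ha', hbdd, ?_⟩
  intro p q
  refine nonempty_iso_if₀ _ (hE p q) ?_
  obtain ⟨e⟩ := Groth.Agent.S0491.result J (ModSite.ringSh O)
    ((ModSite.extSh M q.toNat).obj N) p.toNat
  exact ⟨Groth.Agent.Helper3.ExtRD.coyonedaRightDerivedIso (ModSite.unit O) _ p.toNat ≪≫
    e.toAddCommGrpIso⟩

/-- the scheme case -/
theorem main_scheme (X : Scheme.{u}) (F G : X.Modules)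
    [ModSite.HasSheafHom (O := X.sheaf) F] [HasInjectiveResolutions (ModSite.Mod X.sheaf)]
    [HasExt.{u} X.Modules] :
    ∃ (E : E₂CohomologicalSpectralSequence AddCommGrpCat.{u})
      (a : SpSeq.Abutment E (fun n : ℤ =>
        if 0 ≤ n then AddCommGrpCat.of (Abelian.Ext F G n.toNat) else 0)),
      (∀ n, a.IsFinite n) ∧ SpSeq.IsBounded E ∧
      ∀ p q : ℤ, Nonempty ((E.page 2 le_rfl).X (p, q) ≅
        (if 0 ≤ p ∧ 0 ≤ q then AddCommGrpCat.of
          (Coh.HH X ((ModSite.extSh (O := X.sheaf) F q.toNat).obj G) p.toNat) else 0)) :=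
  main₀ X.sheaf F G

end Groth.Agent.Helper3.LocGlobExt
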