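import Mathlib
import Groth.Prelude.Def_RegImm
import Groth.Agent.Lib.Helper3.ExtReg5
import Groth.Agent.Lib.Helper3.LocGlobExt2
import Groth.Agent.Lib.Helper3.SpVan

/-!
# `Ext^q(i_* F, E) = 0` for `q < c`, `i` a regular closed immersion of codimension `c`, `E` finite locally free
-/

set_option autoImplicit false
universe u v
open CategoryTheory CategoryTheory.Limits AlgebraicGeometry TopologicalSpace Opposite

namespace Groth.Agent.Helper3.ExtReg

theorem isWeaklyRegular_replicate_one {R : Type u} [CommRing R] (c : ℕ) :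
    ∀ (M : Type v) [AddCommGroup M] [Module R M],
      RingTheory.Sequence.IsWeaklyRegular M (List.replicate c (1 : R)) := by
  induction c with
  | zero =>
    intro M _ _
    exact RingTheory.Sequence.IsWeaklyRegular.nil R M
  | succ c ih =>
    intro M _ _
    rw [List.replicate_succ, RingTheory.Sequence.isWeaklyRegular_cons_iff]
    exact ⟨IsSMulRegular.one M, ih _⟩

theorem subsingleton_ext_of_isZero_right {C : Type*} [Category C] [Abelian C] [HasExt C] {A B : C}
    (hB : IsZero B) (n : ℕ) : Subsingleton (Abelian.Ext A B n) := by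
  refine subsingleton_of_forall_eq 0 fun x => ?_
  have h := x.comp_mk₀_id
  rw [← h, hB.eq_of_src (𝟙 B) 0, Abelian.Ext.mk₀_zero, Abelian.Ext.comp_zero]

variable {X Z : Scheme.{u}}

theorem subsingleton_HH_of_isZero (M : X.Modules) (hM : IsZero M) (p : ℕ) :
    Subsingleton (Coh.HH X M p) := by
  have h : IsZero (Coh.toAb M) := Functor.map_isZero (SheafOfModules.toSheaf X.ringCatSheaf) hM
  exact subsingleton_ext_of_isZero_right h p

theorem subsingleton_bot' (M : X.Modules) : Subsingleton Γ(M, ⊥) := by
  let F : TopCat.Sheaf Ab X := ⟨M.presheaf, M.isSheaf⟩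
  have hT : IsTerminal (F.1.obj (op ⊥)) := TopCat.Sheaf.isTerminalOfEmpty F
  have hz : IsZero (F.1.obj (op ⊥)) :=
    IsZero.of_iso (isZero_zero _) (hT.uniqueUpToIso (isZero_zero _).isTerminal)
  exact AddCommGrpCat.subsingleton_of_isZero hz

variable (i : Z ⟶ X)

theorem pushforward_smul (F : Z.Modules) (V : X.Opens) (s : Γ(X, V))
    (m : Γ((Scheme.Modules.pushforward i).obj F, V)) :
    s • m = ((i.app V).hom s) • (show Γ(F, i ⁻¹ᵁ V) from m) := rfl

theorem killsOn_pushforward_of_ker (F : Z.Modules) (U : X.Opens) (r : Γ(X, U))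
    (hr : (i.app U).hom r = 0) : KillsOn ((Scheme.Modules.pushforward i).obj F) U r := by
  intro V' h m
  rw [pushforward_smul]
  have hn := i.naturality (homOfLE h).op
  have h1 : (i.app V').hom (X.presheaf.map (homOfLE h).op r) = 0 := by
    have := congrArg (fun f => f.hom r) hn
    change (i.app V').hom (X.presheaf.map (homOfLE h).op r) = _ at this
    rw [this]
    change (Z.presheaf.map _).hom ((i.app U).hom r) = 0
    rw [hr, map_zero]
  rw [h1, zero_smul]
  rfl

theorem killsOn_pushforward_of_disjoint (F : Z.Modules) (U : X.Opens) (r : Γ(X, U))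
    (hU : i ⁻¹ᵁ U = ⊥) : KillsOn ((Scheme.Modules.pushforward i).obj F) U r := by
  intro V' h m
  have hV' : i ⁻¹ᵁ V' = ⊥ := by
    rw [eq_bot_iff, ← hU]
    exact (Opens.map i.base).monotone h
  have hs : Subsingleton Γ(F, i ⁻¹ᵁ V') := by
    rw [hV']
    exact subsingleton_bot' F
  exact hs.elim _ _

/-- the local hypothesis for `i_* F`, `i` a regular closed immersion of codimension `c` -/
theorem locally_regular_pushforward [IsClosedImmersion i] (c : ℕ)
    (hi : RegImm.IsRegularImmersionOfCodim RegImm.Kind.regular c i) (F : Z.Modules) (x : X) :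
    ∃ (V : X.Opens) (_ : IsAffineOpen V) (rs : List Γ(X, V)), x ∈ V ∧ rs.length = c ∧
      RingTheory.Sequence.IsWeaklyRegular Γ(X, V) rs ∧
      ∀ r ∈ rs, KillsOn ((Scheme.Modules.pushforward i).obj F) V r := by
  by_cases hx : x ∈ Set.range i
  · obtain ⟨z, rfl⟩ := hx
    obtain ⟨U, hzU, -, rs, hlen, hreg, hker⟩ := hi.2 z
    have hreg' : RingTheory.Sequence.IsRegular Γ(X, U.1) rs := hreg
    refine ⟨U.1, U.2, rs, hzU, hlen, hreg'.toIsWeaklyRegular, ?_⟩
    intro r hr
    apply killsOn_pushforward_of_ker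
    have : r ∈ RingHom.ker (i.app U.1).hom := by
      rw [hker]
      exact Ideal.subset_span hr
    exact this
  · have hcl : IsClosed (Set.range i) := i.isClosedEmbedding.isClosed_range
    obtain ⟨_, ⟨V, hV, rfl⟩, hxV, hVO⟩ :=
      X.isBasis_affineOpens.exists_subset_of_mem_open (show x ∈ (Set.range i)ᶜ from hx)
        hcl.isOpen_compl
    refine ⟨V, hV, List.replicate c 1, hxV, List.length_replicate,
      isWeaklyRegular_replicate_one c _, ?_⟩
    intro r _
    apply killsOn_pushforward_of_disjoint
    rw [eq_bot_iff]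
    intro z hz
    exact (hVO hz ⟨z, rfl⟩).elim

/-- **Ext vanishing below the codimension** -/
theorem subsingleton_ext_pushforward [HasExt.{u} X.Modules] [IsClosedImmersion i] (c : ℕ)
    (hi : RegImm.IsRegularImmersionOfCodim RegImm.Kind.regular c i) (E : X.Modules)
    (hE : FlatMod.IsFinLocFree E) (F : Z.Modules) (q : ℕ) (hq : q < c) :
    Subsingleton (Abelian.Ext ((Scheme.Modules.pushforward i).obj F) E q) := by
  haveI : ModSite.HasSheafHom (O := X.sheaf) ((Scheme.Modules.pushforward i).obj F) :=
    Groth.Agent.Helper3.SHomEx.hasSheafHom _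
  haveI : HasInjectiveResolutions (ModSite.Mod X.sheaf) :=
    Groth.Agent.Helper3.LerayCol.hasInjectiveResolutions X
  have hloc : ∀ q' < c, IsZero ((ModSite.extSh (O := X.sheaf)
      ((Scheme.Modules.pushforward i).obj F) q').obj E) := fun q' hq' =>
    isZero_extSh_of_locally_regular _ E hE c (locally_regular_pushforward i c hi F) q' hq'
  obtain ⟨Esp, a, hfin, -, hE2⟩ :=
    Groth.Agent.Helper3.LocGlobExt.main_scheme X ((Scheme.Modules.pushforward i).obj F) E
  have hz := Groth.Agent.Helper3.SpVan.isZero_abut Esp a 2 le_rfl (q : ℤ) (hfin _) (by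
    intro p
    obtain ⟨e⟩ := hE2 p ((q : ℤ) - p)
    refine IsZero.of_iso ?_ e
    split_ifs with hc
    · have hq' : ((q : ℤ) - p).toNat < c := by omega
      haveI := subsingleton_HH_of_isZero _ (hloc _ hq') p.toNat
      exact AddCommGrpCat.isZero_of_subsingleton _
    · exact isZero_zero _)
  rw [if_pos (Int.natCast_nonneg q), Int.toNat_natCast] at hz
  exact AddCommGrpCat.subsingleton_of_isZero hz

end Groth.Agent.Helper3.ExtReg
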