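import Mathlib

/-! Naturality of `Ext.mapExactFunctor` with respect to natural transformations of exact functors. -/

set_option autoImplicit false
universe w w' v v' u u'
open CategoryTheory CategoryTheory.Limits Abelian

namespace Groth.Agent.Helper3.ExtNat

variable {C : Type u} [Category.{v} C] [Abelian C] {D : Type u'} [Category.{v'} D] [Abelian D]
  [HasExt.{w} C] [HasExt.{w'} D] [EnoughProjectives C]
  (F G : C ⥤ D) [F.Additive] [G.Additive] [PreservesFiniteLimits F] [PreservesFiniteColimits F]
  [PreservesFiniteLimits G] [PreservesFiniteColimits G] (τ : F ⟶ G)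

/-- the morphism of short complexes induced by a natural transformation -/
def mapSC (S : ShortComplex C) : S.map F ⟶ S.map G where
  τ₁ := τ.app S.X₁
  τ₂ := τ.app S.X₂
  τ₃ := τ.app S.X₃
  comm₁₂ := (τ.naturality S.f).symm
  comm₂₃ := (τ.naturality S.g).symm

theorem mapExactFunctor_naturality : ∀ (n : ℕ) {X Y : C} (x : Ext.{w} X Y n),
    (x.mapExactFunctor F).comp (Ext.mk₀ (τ.app Y)) (add_zero n) =
      (Ext.mk₀ (τ.app X)).comp (x.mapExactFunctor G) (zero_add n) := by
  intro n
  induction n with
  | zero =>
    intro X Y x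
    obtain ⟨f, rfl⟩ := (Ext.mk₀_bijective X Y).2 x
    rw [Ext.mapExactFunctor_mk₀, Ext.mapExactFunctor_mk₀, Ext.mk₀_comp_mk₀, Ext.mk₀_comp_mk₀,
      τ.naturality]
  | succ n ih =>
    intro X Y x
    -- a projective cover of `X`
    let S : ShortComplex C := ShortComplex.mk (kernel.ι (Projective.π X)) (Projective.π X) (by simp)
    have hS : S.ShortExact :=
      { exact := ShortComplex.exact_of_f_is_kernel _ (kernelIsKernel _)
        mono_f := inferInstance
        epi_g := inferInstance }
    have h0 : (Ext.mk₀ S.g).comp x (zero_add (n + 1)) = 0 := by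
      haveI : Projective S.X₂ := inferInstanceAs (Projective (Projective.over X))
      exact Ext.eq_zero_of_projective _
    obtain ⟨x₁, rfl⟩ := Ext.contravariant_sequence_exact₃ hS Y x h0 (show 1 + n = n + 1 by omega)
    rw [Ext.mapExactFunctor_comp, Ext.mapExactFunctor_comp, Ext.mapExactFunctor_extClass,
      Ext.mapExactFunctor_extClass]
    have hnat := ShortComplex.ShortExact.extClass_naturality (hS.map_of_exact F)
      (hS.map_of_exact G) (mapSC F G τ S)
    have hnat' : (hS.map_of_exact F).extClass.comp (Ext.mk₀ (τ.app S.X₁)) (add_zero 1) =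
        (Ext.mk₀ (τ.app S.X₃)).comp (hS.map_of_exact G).extClass (zero_add 1) := hnat
    rw [Ext.comp_assoc_of_third_deg_zero, ih x₁, ← Ext.comp_assoc_of_second_deg_zero]
    erw [hnat']
    exact Ext.comp_assoc (a₁ := 0) (a₂ := 1) (a₃ := n) _ _ _ (zero_add 1) (by omega) (by omega)

end Groth.Agent.Helper3.ExtNat
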