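import Mathlib
import Groth.Agent.Lib.Helper8.ExtLoc3
import Groth.Agent.Lib.Helper3.ExtNat

set_option autoImplicit false
universe u
open CategoryTheory Abelian

namespace Groth.Agent.Helper3.ExtLocS
open Groth.Agent.Helper8.ExtLoc Groth.Agent.Helper3.ExtNat

variable {R : Type u} [CommRing R] (S : Submonoid R)

/-- comparison of the two localization functors: components -/
noncomputable def τapp (M : ModuleCat.{u} R) :
    (locF S).obj M ≅ (ModuleCat.localizedModuleFunctor.{u} S).obj M :=
  (Shrink.linearEquiv (Localization S) (LocalizedModule S M)).symm.toModuleIso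

theorem linearMap_ext_mk_one {M : Type u} [AddCommGroup M] [Module R M] {X : Type u}
    [AddCommGroup X] [Module (Localization S) X]
    (φ ψ : LocalizedModule S M →ₗ[Localization S] X)
    (h : ∀ m : M, φ (LocalizedModule.mk m 1) = ψ (LocalizedModule.mk m 1)) : φ = ψ := by
  apply LinearMap.ext
  intro x
  induction x using LocalizedModule.induction_on with
  | h m s =>
    have hms : (LocalizedModule.mk m s : LocalizedModule S M) =
        (Localization.mk 1 s : Localization S) • (LocalizedModule.mk m 1 : LocalizedModule S M) := by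
      rw [LocalizedModule.mk_smul_mk, one_smul, mul_one]
    rw [hms, map_smul, map_smul, h m]

theorem τapp_naturality {M N : ModuleCat.{u} R} (f : M ⟶ N) :
    (locF S).map f ≫ (τapp S N).hom =
      (τapp S M).hom ≫ (ModuleCat.localizedModuleFunctor.{u} S).map f := by
  apply ModuleCat.hom_ext
  refine linearMap_ext_mk_one S (M := M) _ _ (fun m => ?_)
  have e1 : ((locF S).map f).hom (LocalizedModule.mk m 1) = LocalizedModule.mk (f m) 1 :=
    locF_map_mk S f m 1
  show (τapp S N).hom.hom (((locF S).map f).hom (LocalizedModule.mk m 1)) =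
    ((ModuleCat.localizedModuleFunctor.{u} S).map f).hom
      ((τapp S M).hom.hom (LocalizedModule.mk m 1))
  rw [e1]
  show (Shrink.linearEquiv (Localization S) (LocalizedModule S N)).symm
      (LocalizedModule.mk (f m) 1) =
    (IsLocalizedModule.mapExtendScalars S (M.localizedModuleMkLinearMap S)
      (N.localizedModuleMkLinearMap S) (Localization S) f.hom)
      ((Shrink.linearEquiv (Localization S) (LocalizedModule S M)).symm (LocalizedModule.mk m 1))
  rw [IsLocalizedModule.mapExtendScalars_apply_apply]
  have h1 : (Shrink.linearEquiv (Localization S) (LocalizedModule S M)).symm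
      (LocalizedModule.mk m 1) = M.localizedModuleMkLinearMap S m := rfl
  rw [h1, IsLocalizedModule.map_apply]
  rfl

/-- comparison of the two localization functors -/
noncomputable def τ : locF S ≅ ModuleCat.localizedModuleFunctor.{u} S :=
  NatIso.ofComponents (τapp S) (fun f => τapp_naturality S f)

section main

/-- the comparison of the induced maps on `Ext` -/
theorem map_eq {M N : ModuleCat.{u} R} {i : ℕ} (x : Ext M N i) :
    x.mapExactFunctor (ModuleCat.localizedModuleFunctor.{u} S) =
      (Ext.mk₀ (τapp S M).inv).comp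
        ((x.mapExactFunctor (locF S)).comp (Ext.mk₀ (τapp S N).hom) (add_zero i)) (zero_add i) := by
  have h := mapExactFunctor_naturality (locF S) (ModuleCat.localizedModuleFunctor.{u} S)
    (τ S).hom i x
  have h' : (x.mapExactFunctor (locF S)).comp (Ext.mk₀ (τapp S N).hom) (add_zero i) =
      (Ext.mk₀ (τapp S M).hom).comp
        (x.mapExactFunctor (ModuleCat.localizedModuleFunctor.{u} S)) (zero_add i) := h
  rw [h', Ext.mk₀_comp_mk₀_assoc, Iso.inv_hom_id, Ext.mk₀_id_comp]

theorem S14412_main [IsNoetherianRing R] (M N : ModuleCat.{u} R) [Module.Finite R M] [Module.Finite R N] (i : ℕ) :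
    (∀ y : Abelian.Ext ((ModuleCat.localizedModuleFunctor.{u} S).obj M)
        ((ModuleCat.localizedModuleFunctor.{u} S).obj N) i,
        ∃ (e : Abelian.Ext M N i) (s : S),
          algebraMap R (Localization S) (s : R) • y =
            (ModuleCat.localizedModuleFunctor.{u} S).mapExtAddHom M N i e) ∧
      (∀ e : Abelian.Ext M N i,
        (ModuleCat.localizedModuleFunctor.{u} S).mapExtAddHom M N i e = 0 ↔
          ∃ s : S, (s : R) • e = 0) := by
  obtain ⟨h1', h2'⟩ := Φ_loc S (↑N) i (↑M)
  have h1 : ∀ y : Ext ((locF S).obj M) ((locF S).obj N) i, ∃ (s : S) (x : Ext M N i),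
      Φ S M N i x = (algebraMap R (Localization S) s) • y := h1'
  have h2 : ∀ x : Ext M N i, Φ S M N i x = 0 → ∃ s : S, (s : R) • x = 0 := h2'
  have hzero : ∀ e : Abelian.Ext M N i,
      e.mapExactFunctor (ModuleCat.localizedModuleFunctor.{u} S) = 0 ↔
        e.mapExactFunctor (locF S) = 0 := by
    intro e
    constructor
    · intro h
      have h3 := mapExactFunctor_naturality (locF S) (ModuleCat.localizedModuleFunctor.{u} S)
        (τ S).hom i e
      have h3' : (e.mapExactFunctor (locF S)).comp (Ext.mk₀ (τapp S N).hom) (add_zero i) =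
        (Ext.mk₀ (τapp S M).hom).comp
          (e.mapExactFunctor (ModuleCat.localizedModuleFunctor.{u} S)) (zero_add i) := h3
      rw [h, Ext.comp_zero] at h3'
      have h4 := congrArg (fun z => z.comp (Ext.mk₀ (τapp S N).inv) (add_zero i)) h3'
      simp only [Ext.comp_assoc_of_third_deg_zero, Ext.mk₀_comp_mk₀, Iso.hom_inv_id,
        Ext.comp_mk₀_id, Ext.zero_comp] at h4
      exact h4
    · intro h
      rw [map_eq, h, Ext.zero_comp, Ext.comp_zero]
  refine ⟨fun y => ?_, fun e => ?_⟩
  · obtain ⟨s, x, hx⟩ := h1 ((Ext.mk₀ (τapp S M).hom).comp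
      (y.comp (Ext.mk₀ (τapp S N).inv) (add_zero i)) (zero_add i))
    refine ⟨x, s, ?_⟩
    show _ = x.mapExactFunctor (ModuleCat.localizedModuleFunctor.{u} S)
    have hx' : x.mapExactFunctor (locF S) = _ := hx
    rw [map_eq, hx', Ext.smul_comp, Ext.comp_smul]
    congr 1
    rw [Ext.comp_assoc_of_third_deg_zero, Ext.comp_assoc_of_third_deg_zero, Ext.mk₀_comp_mk₀,
      Iso.inv_hom_id, Ext.comp_mk₀_id, Ext.mk₀_comp_mk₀_assoc, Iso.inv_hom_id, Ext.mk₀_id_comp]
  · show e.mapExactFunctor (ModuleCat.localizedModuleFunctor.{u} S) = 0 ↔ _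
    rw [hzero]
    constructor
    · intro he
      exact h2 e he
    · rintro ⟨s, hs⟩
      have h3 := Φ_smul S (s : R) e
      rw [hs, map_zero] at h3
      have hu : IsUnit (algebraMap R (Localization S) (s : R)) := IsLocalization.map_units _ s
      have h4 : (hu.unit⁻¹ : (Localization S)ˣ) • ((hu.unit : (Localization S)ˣ) • Φ S M N i e) =
          Φ S M N i e := by
        rw [smul_smul, inv_mul_cancel, one_smul]
      show Φ S M N i e = 0
      rw [← h4, show ((hu.unit : (Localization S)ˣ) • Φ S M N i e) =
        (algebraMap R (Localization S) (s : R)) • Φ S M N i e from rfl, ← h3, smul_zero]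

end main

end Groth.Agent.Helper3.ExtLocS
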