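import Mathlib
import Groth.Prelude.Def_LocCohZ
import Groth.Agent.Lib.Helper6.SectSupp
import Groth.Agent.Lib.Helper6.FlasqueTower

set_option autoImplicit false
universe u
open CategoryTheory Limits Opposite TopologicalSpace

namespace Groth.Agent.Helper3.LocCoh

open Groth.Agent.Lib.Helper6

variable {X : TopCat.{u}} (U : Opens X)

/-- restriction in two steps -/
lemma map_map (F : CohTop.Ab X) {V₁ V₂ V₃ : Opens X} (h₁ : V₂ ≤ V₁) (h₂ : V₃ ≤ V₂)
    (s : F.obj.obj (op V₁)) :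
    (F.obj.map (homOfLE h₂).op).hom ((F.obj.map (homOfLE h₁).op).hom s) =
      (F.obj.map (homOfLE (h₂.trans h₁)).op).hom s :=
  SectSupp.map_map_apply F h₁ h₂ s

/-- a section is killed by the unit iff its restriction to `V ⊓ U` vanishes -/
lemma unit_zero_iff' (F : CohTop.Ab X) (V : Opens X) (s : F.obj.obj (op V)) :
    ((SectSupp.η U F).hom.app (op V)).hom s = 0 ↔
      (F.obj.map (homOfLE (inf_le_left : V ⊓ U ≤ V)).op).hom s = 0 := by
  rw [show ((SectSupp.η U F).hom.app (op V)).hom s = 0 ↔ _ from SectSupp.unit_zero_iff U F V s]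
  have h1 : SectSupp.W U V ≤ V ⊓ U := le_of_eq (SectSupp.W_eq U V)
  have h2 : V ⊓ U ≤ SectSupp.W U V := le_of_eq (SectSupp.W_eq U V).symm
  constructor
  · intro h
    have := map_map F (SectSupp.W_le U V) h2 s
    rw [← this]
    exact (congrArg _ h).trans (map_zero _)
  · intro h
    have := map_map F (inf_le_left : V ⊓ U ≤ V) h1 s
    refine Eq.trans this.symm ?_
    exact (congrArg _ h).trans (map_zero _)

section sections

variable (F : CohTop.Ab X)

lemma ι_mem (k : (CohCx.sectSupp U F).obj.obj (op ⊤)) :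
    ((kernel.ι (SectSupp.η U F)).hom.app (op ⊤)).hom k ∈ LocCohZ.sectZ F (le_top : U ≤ ⊤) := by
  rw [AddMonoidHom.mem_ker]
  have h0 : ((SectSupp.η U F).hom.app (op ⊤)).hom
      (((kernel.ι (SectSupp.η U F)).hom.app (op ⊤)).hom k) = 0 :=
    FlasqueTower.kernel_ι_comp_apply (SectSupp.η U F) ⊤ k
  have h1 := (unit_zero_iff' U F ⊤ _).1 h0
  have h2 := map_map F (inf_le_left : (⊤ : Opens X) ⊓ U ≤ ⊤) (le_inf le_top le_rfl : U ≤ ⊤ ⊓ U)
    (((kernel.ι (SectSupp.η U F)).hom.app (op ⊤)).hom k)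
  rw [h1, map_zero] at h2
  exact h2.symm

/-- the inclusion of sections with support, corestricted -/
noncomputable def e2hom : (CohCx.sectSupp U F).obj.obj (op ⊤) →+ LocCohZ.sectZ F (le_top : U ≤ ⊤) where
  toFun k := ⟨((kernel.ι (SectSupp.η U F)).hom.app (op ⊤)).hom k, ι_mem U F k⟩
  map_zero' := Subtype.ext (map_zero _)
  map_add' a b := Subtype.ext (map_add _ a b)

lemma e2hom_bijective : Function.Bijective (e2hom U F) := by
  refine ⟨fun a b hab => SectSupp.ι_injective (SectSupp.η U F) ⊤ (congrArg Subtype.val hab), fun s => ?_⟩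
  have hs : (F.obj.map (homOfLE (le_top : U ≤ ⊤)).op).hom s.1 = 0 := s.2
  have h1 : (F.obj.map (homOfLE (inf_le_left : (⊤ : Opens X) ⊓ U ≤ ⊤)).op).hom s.1 = 0 := by
    have h2 := map_map F (le_top : U ≤ ⊤) (inf_le_right : (⊤ : Opens X) ⊓ U ≤ U) s.1
    rw [hs, map_zero] at h2
    exact h2.symm
  obtain ⟨k, hk⟩ := SectSupp.exists_kernel_section' (SectSupp.η U F) ⊤ s.1
    ((unit_zero_iff' U F ⊤ s.1).2 h1)
  exact ⟨k, Subtype.ext hk⟩

/-- sections of `Γ_Z(F)` over the whole space: global sections vanishing on `U` -/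
noncomputable def e2 : (CohCx.sectSupp U F).obj.obj (op ⊤) ≃+ LocCohZ.sectZ F (le_top : U ≤ ⊤) :=
  AddEquiv.ofBijective (e2hom U F) (e2hom_bijective U F)

lemma e2_val (k : (CohCx.sectSupp U F).obj.obj (op ⊤)) :
    (e2 U F k).1 = ((kernel.ι (SectSupp.η U F)).hom.app (op ⊤)).hom k := rfl

/-- morphisms out of `ℤ_X/ℤ_U` are global sections supported off `U` -/
noncomputable def eqv : (LocCohZ.zq (le_top : U ≤ ⊤) ⟶ F) ≃+ (LocCohZ.gammaZF U).obj F :=
  ((Abelian.Ext.addEquiv₀ (X := LocCohZ.zq (le_top : U ≤ ⊤)) (Y := F)).symm.trans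
    (LocCohZ.sect0Equiv F (le_top : U ≤ ⊤))).trans (e2 U F).symm

lemma eqv_ι (x : LocCohZ.zq (le_top : U ≤ ⊤) ⟶ F) :
    ((kernel.ι (SectSupp.η U F)).hom.app (op ⊤)).hom (eqv U F x) =
      CohFree.evalGen (Opens.grothendieckTopology X) ⊤ F
        (cokernel.π (CohCx.freeSheafMap (Opens.grothendieckTopology X) (homOfLE (le_top : U ≤ ⊤))) ≫ x) := by
  rw [← e2_val]
  change ((e2 U F) ((e2 U F).symm _)).1 = _
  rw [AddEquiv.apply_symm_apply]
  change CohFree.evalGen _ ⊤ F (cokernel.π _ ≫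
    Abelian.Ext.addEquiv₀ (Abelian.Ext.addEquiv₀.symm x)) = _
  rw [AddEquiv.apply_symm_apply]

end sections

lemma evalGen_comp {C : Type u} [SmallCategory C] (J : GrothendieckTopology C) (V : C)
    {F G : Sheaf J AddCommGrpCat.{u}} (y : CohCx.freeSheaf J V ⟶ F) (φ : F ⟶ G) :
    CohFree.evalGen J V G (y ≫ φ) = (φ.hom.app (op V)).hom (CohFree.evalGen J V F y) := rfl

lemma ι_map {F G : CohTop.Ab X} (φ : F ⟶ G) (k : (CohCx.sectSupp U F).obj.obj (op ⊤)) :
    ((kernel.ι (SectSupp.η U G)).hom.app (op ⊤)).hom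
      ((((LocCohZ.sectSuppF U).map φ).hom.app (op ⊤)).hom k) =
    (φ.hom.app (op ⊤)).hom (((kernel.ι (SectSupp.η U F)).hom.app (op ⊤)).hom k) := by
  have h : (LocCohZ.sectSuppF U).map φ ≫ kernel.ι (SectSupp.η U G) =
      kernel.ι (SectSupp.η U F) ≫ φ := by
    dsimp [LocCohZ.sectSuppF]
    exact kernel.lift_ι _ _ _
  have h2 := congrArg (fun t => t.hom.app (op ⊤)) h
  exact ConcreteCategory.congr_hom h2 k

lemma eqv_naturality {F G : CohTop.Ab X} (φ : F ⟶ G) (x : LocCohZ.zq (le_top : U ≤ ⊤) ⟶ F) :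
    eqv U G (x ≫ φ) = ((LocCohZ.gammaZF U).map φ).hom (eqv U F x) := by
  apply SectSupp.ι_injective (SectSupp.η U G) ⊤
  refine (eqv_ι U G (x ≫ φ)).trans ?_
  refine Eq.trans ?_ (ι_map U φ (eqv U F x)).symm
  rw [eqv_ι, ← evalGen_comp, Category.assoc]

/-- `Γ_Z(X, -) ≅ Hom(ℤ_X/ℤ_U, -)` -/
noncomputable def compIso :
    LocCohZ.gammaZF U ≅ preadditiveCoyoneda.obj (op (LocCohZ.zq (le_top : U ≤ ⊤))) :=
  (NatIso.ofComponents (fun F => AddEquiv.toAddCommGrpIso
      (X := AddCommGrpCat.of (LocCohZ.zq (le_top : U ≤ ⊤) ⟶ F)) (Y := (LocCohZ.gammaZF U).obj F)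
      (eqv U F))
    (fun {F G} φ => by
      ext x
      exact eqv_naturality U φ x)).symm

section sectionsV

variable (F : CohTop.Ab X) (V : Opens X)

lemma ι_memV (k : (CohCx.sectSupp U F).obj.obj (op V)) :
    ((kernel.ι (SectSupp.η U F)).hom.app (op V)).hom k ∈
      LocCohZ.sectZ F (inf_le_left : V ⊓ U ≤ V) := by
  rw [AddMonoidHom.mem_ker]
  exact (unit_zero_iff' U F V _).1 (FlasqueTower.kernel_ι_comp_apply (SectSupp.η U F) V k)

/-- the inclusion of sections with support over `V`, corestricted -/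
noncomputable def e2homV :
    (CohCx.sectSupp U F).obj.obj (op V) →+ LocCohZ.sectZ F (inf_le_left : V ⊓ U ≤ V) where
  toFun k := ⟨((kernel.ι (SectSupp.η U F)).hom.app (op V)).hom k, ι_memV U F V k⟩
  map_zero' := Subtype.ext (map_zero _)
  map_add' a b := Subtype.ext (map_add _ a b)

lemma e2homV_bijective : Function.Bijective (e2homV U F V) := by
  refine ⟨fun a b hab => SectSupp.ι_injective (SectSupp.η U F) V (congrArg Subtype.val hab), fun s => ?_⟩
  have hs : (F.obj.map (homOfLE (inf_le_left : V ⊓ U ≤ V)).op).hom s.1 = 0 := s.2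
  obtain ⟨k, hk⟩ := SectSupp.exists_kernel_section' (SectSupp.η U F) V s.1
    ((unit_zero_iff' U F V s.1).2 hs)
  exact ⟨k, Subtype.ext hk⟩

/-- sections of `Γ_Z(F)` over `V`: sections over `V` vanishing on `V ⊓ U` -/
noncomputable def e2V :
    (CohCx.sectSupp U F).obj.obj (op V) ≃+ LocCohZ.sectZ F (inf_le_left : V ⊓ U ≤ V) :=
  AddEquiv.ofBijective (e2homV U F V) (e2homV_bijective U F V)

lemma e2V_val (k : (CohCx.sectSupp U F).obj.obj (op V)) :
    (e2V U F V k).1 = ((kernel.ι (SectSupp.η U F)).hom.app (op V)).hom k := rfl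

/-- morphisms out of `ℤ_V/ℤ_{V ⊓ U}` are sections over `V` supported off `U` -/
noncomputable def eqvV : (LocCohZ.zq (inf_le_left : V ⊓ U ≤ V) ⟶ F) ≃+
    (CohCx.sectSupp U F).obj.obj (op V) :=
  ((Abelian.Ext.addEquiv₀ (X := LocCohZ.zq (inf_le_left : V ⊓ U ≤ V)) (Y := F)).symm.trans
    (LocCohZ.sect0Equiv F (inf_le_left : V ⊓ U ≤ V))).trans (e2V U F V).symm

lemma eqvV_ι (x : LocCohZ.zq (inf_le_left : V ⊓ U ≤ V) ⟶ F) :
    ((kernel.ι (SectSupp.η U F)).hom.app (op V)).hom (eqvV U F V x) =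
      CohFree.evalGen (Opens.grothendieckTopology X) V F
        (cokernel.π (CohCx.freeSheafMap (Opens.grothendieckTopology X)
          (homOfLE (inf_le_left : V ⊓ U ≤ V))) ≫ x) := by
  rw [← e2V_val]
  change ((e2V U F V) ((e2V U F V).symm _)).1 = _
  rw [AddEquiv.apply_symm_apply]
  change CohFree.evalGen _ V F (cokernel.π _ ≫
    Abelian.Ext.addEquiv₀ (Abelian.Ext.addEquiv₀.symm x)) = _
  rw [AddEquiv.apply_symm_apply]

end sectionsV

lemma ι_mapV {F G : CohTop.Ab X} (φ : F ⟶ G) (V : Opens X)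
    (k : (CohCx.sectSupp U F).obj.obj (op V)) :
    ((kernel.ι (SectSupp.η U G)).hom.app (op V)).hom
      ((((LocCohZ.sectSuppF U).map φ).hom.app (op V)).hom k) =
    (φ.hom.app (op V)).hom (((kernel.ι (SectSupp.η U F)).hom.app (op V)).hom k) := by
  have h : (LocCohZ.sectSuppF U).map φ ≫ kernel.ι (SectSupp.η U G) =
      kernel.ι (SectSupp.η U F) ≫ φ := by
    dsimp [LocCohZ.sectSuppF]
    exact kernel.lift_ι _ _ _
  have h2 := congrArg (fun t => t.hom.app (op V)) h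
  exact ConcreteCategory.congr_hom h2 k

lemma eqvV_naturality {F G : CohTop.Ab X} (φ : F ⟶ G) (V : Opens X)
    (x : LocCohZ.zq (inf_le_left : V ⊓ U ≤ V) ⟶ F) :
    eqvV U G V (x ≫ φ) = (((LocCohZ.sectSuppF U).map φ).hom.app (op V)).hom (eqvV U F V x) := by
  apply SectSupp.ι_injective (SectSupp.η U G) V
  refine (eqvV_ι U G V (x ≫ φ)).trans ?_
  refine Eq.trans ?_ (ι_mapV U φ V (eqvV U F V x)).symm
  rw [eqvV_ι, ← evalGen_comp, Category.assoc]

/-- `Γ(V, Γ_Z(-)) ≅ Hom(ℤ_V/ℤ_{V ⊓ U}, -)` -/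
noncomputable def compIsoV (V : Opens X) :
    LocCohZ.sectSuppF U ⋙ (sheafSections (Opens.grothendieckTopology X) AddCommGrpCat.{u}).obj (op V) ≅
      preadditiveCoyoneda.obj (op (LocCohZ.zq (inf_le_left : V ⊓ U ≤ V))) :=
  (NatIso.ofComponents (fun F => AddEquiv.toAddCommGrpIso
      (X := AddCommGrpCat.of (LocCohZ.zq (inf_le_left : V ⊓ U ≤ V) ⟶ F))
      (Y := (CohCx.sectSupp U F).obj.obj (op V))
      (eqvV U F V))
    (fun {F G} φ => by
      ext x
      exact eqvV_naturality U φ V x)).symm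

end Groth.Agent.Helper3.LocCoh
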