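import Mathlib
import Groth.Agent.Lib.Helper5.Misc.RDComp

set_option autoImplicit false
open CategoryTheory CategoryTheory.Limits

namespace Groth.Agent.Helper3.RDCompNat

open Groth.Agent.Lib.Helper5.Misc

universe v₁ v₂ v₃ u₁ u₂ u₃
variable {A : Type u₁} [Category.{v₁} A] [Abelian A]
  {B : Type u₂} [Category.{v₂} B] [Abelian B]
  {C : Type u₃} [Category.{v₃} C] [Abelian C]
  [HasInjectiveResolutions A] [HasInjectiveResolutions B]
  (G : A ⥤ B) (F : B ⥤ C) [G.Additive] [F.Additive]
  [G.PreservesInjectiveObjects] [G.PreservesHomology]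

/-- the comparison of complexes `(G ⋙ F)(K) ≅ F(G(K))` -/
noncomputable def compIso (K : CochainComplex A ℕ) :
    ((G ⋙ F).mapHomologicalComplex _).obj K ≅
      (F.mapHomologicalComplex _).obj ((G.mapHomologicalComplex _).obj K) :=
  HomologicalComplex.Hom.isoOfComponents (fun _ => Iso.refl _) (by
    intros
    exact (Category.id_comp _).trans (Category.comp_id _).symm)

lemma compIso_naturality {K K' : CochainComplex A ℕ} (φ : K ⟶ K') :
    ((G ⋙ F).mapHomologicalComplex _).map φ ≫ (compIso G F K').hom =
      (compIso G F K).hom ≫ (F.mapHomologicalComplex _).map ((G.mapHomologicalComplex _).map φ) := by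
  ext n
  exact (Category.comp_id _).trans (Category.id_comp _).symm

lemma preIso_eq (X : A) (n : ℕ) :
    RDComp.preIso G F X n =
      (injectiveResolution X).isoRightDerivedObj (G ⋙ F) n ≪≫
        (HomologicalComplex.homologyFunctor C _ n).mapIso (compIso G F (injectiveResolution X).cocomplex) ≪≫
        ((RDComp.mapInjectiveResolution G (injectiveResolution X)).isoRightDerivedObj F n).symm := rfl

/-- `Rⁿ(G ⋙ F) ≅ G ⋙ RⁿF` for `G` exact preserving injectives, as functors -/
noncomputable def preNatIso (n : ℕ) : (G ⋙ F).rightDerived n ≅ G ⋙ F.rightDerived n :=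
  NatIso.ofComponents (fun X => RDComp.preIso G F X n) (by
    intro X X' f
    let I := injectiveResolution X
    let I' := injectiveResolution X'
    let φ : I.cocomplex ⟶ I'.cocomplex := InjectiveResolution.desc f I' I
    have hφ : I.ι.f 0 ≫ φ.f 0 = f ≫ I'.ι.f 0 := InjectiveResolution.desc_commutes_zero f I' I
    have h1 := InjectiveResolution.isoRightDerivedObj_hom_naturality f I I' φ hφ (G ⋙ F) n
    have hψ0 : (RDComp.mapInjectiveResolution G I).ι ≫ (G.mapHomologicalComplex _).map φ =
        (CochainComplex.single₀ B).map (G.map f) ≫ (RDComp.mapInjectiveResolution G I').ι := by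
      have hc : I.ι ≫ φ = (CochainComplex.single₀ A).map f ≫ I'.ι :=
        InjectiveResolution.desc_commutes f I' I
      have hn := (HomologicalComplex.singleMapHomologicalComplex G (ComplexShape.up ℕ) 0).inv.naturality f
      dsimp only [RDComp.mapInjectiveResolution]
      rw [Category.assoc, ← Functor.map_comp, hc, Functor.map_comp, ← Category.assoc, ← Category.assoc]
      congr 1
      exact hn.symm
    have hψ : (RDComp.mapInjectiveResolution G I).ι.f 0 ≫ ((G.mapHomologicalComplex _).map φ).f 0 =
        G.map f ≫ (RDComp.mapInjectiveResolution G I').ι.f 0 := by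
      have h := HomologicalComplex.congr_hom hψ0 0
      rw [HomologicalComplex.comp_f, HomologicalComplex.comp_f] at h
      refine h.trans ?_
      congr 1
      simp
    have h2 := InjectiveResolution.isoRightDerivedObj_hom_naturality (G.map f)
      (RDComp.mapInjectiveResolution G I) (RDComp.mapInjectiveResolution G I')
      ((G.mapHomologicalComplex _).map φ) hψ F n
    have h3 := congrArg (fun t => HomologicalComplex.homologyMap t n) (compIso_naturality G F φ)
    simp only [HomologicalComplex.homologyMap_comp] at h3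
    let a := I.isoRightDerivedObj (G ⋙ F) n
    let a' := I'.isoRightDerivedObj (G ⋙ F) n
    let c := (RDComp.mapInjectiveResolution G I).isoRightDerivedObj F n
    let c' := (RDComp.mapInjectiveResolution G I').isoRightDerivedObj F n
    let Hm1 := HomologicalComplex.homologyMap (((G ⋙ F).mapHomologicalComplex _).map φ) n
    let Hm2 := HomologicalComplex.homologyMap
      ((F.mapHomologicalComplex _).map ((G.mapHomologicalComplex _).map φ)) n
    let b := HomologicalComplex.homologyMap (compIso G F I.cocomplex).hom n
    let b' := HomologicalComplex.homologyMap (compIso G F I'.cocomplex).hom n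
    have h1' : ((G ⋙ F).rightDerived n).map f ≫ a'.hom = a.hom ≫ Hm1 := h1
    have h2' : (F.rightDerived n).map (G.map f) ≫ c'.hom = c.hom ≫ Hm2 := h2
    have h3' : Hm1 ≫ b' = b ≫ Hm2 := h3
    have h2'' : c.inv ≫ (F.rightDerived n).map (G.map f) = Hm2 ≫ c'.inv := by
      have e1 : c.inv ≫ ((F.rightDerived n).map (G.map f) ≫ c'.hom) = Hm2 :=
        (congrArg (c.inv ≫ ·) h2').trans ((Category.assoc _ _ _).symm.trans
          ((congrArg (· ≫ Hm2) c.inv_hom_id).trans (Category.id_comp _)))
      have e2 : (c.inv ≫ (F.rightDerived n).map (G.map f)) ≫ c'.hom = Hm2 :=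
        (Category.assoc _ _ _).trans e1
      exact ((Category.comp_id _).symm.trans ((congrArg ((c.inv ≫ (F.rightDerived n).map (G.map f)) ≫ ·)
        c'.hom_inv_id).symm.trans (Category.assoc _ _ _).symm)).trans (congrArg (· ≫ c'.inv) e2)
    rw [preIso_eq, preIso_eq]
    change ((G ⋙ F).rightDerived n).map f ≫ (a'.hom ≫ b' ≫ c'.inv) =
      (a.hom ≫ b ≫ c.inv) ≫ (F.rightDerived n).map (G.map f)
    refine (Category.assoc _ _ _).symm.trans ?_
    refine (congrArg (· ≫ (b' ≫ c'.inv)) h1').trans ?_
    refine (Category.assoc _ _ _).trans ?_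
    refine (congrArg (a.hom ≫ ·) (Category.assoc _ _ _).symm).trans ?_
    refine (congrArg (fun t => a.hom ≫ (t ≫ c'.inv)) h3').trans ?_
    refine (congrArg (a.hom ≫ ·) (Category.assoc _ _ _)).trans ?_
    refine (congrArg (fun t => a.hom ≫ (b ≫ t)) h2''.symm).trans ?_
    refine (congrArg (a.hom ≫ ·) (Category.assoc _ _ _).symm).trans ?_
    exact (Category.assoc _ _ _).symm)

end Groth.Agent.Helper3.RDCompNat
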