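import Mathlib
import Groth.Agent.Lib.Helper3.RDKer
import Groth.Agent.Lib.Helper3.RDCompNat
import Groth.Agent.Lib.Helper3.LocCoh
import Groth.Agent.Lib.Helper5.Misc.ShriekTopConst
import Groth.Agent.S0454

set_option autoImplicit false
universe u
open CategoryTheory CategoryTheory.Limits TopologicalSpace Opposite

namespace Groth.Agent.Helper3.LocCohKer

open Groth.Agent.Lib.Helper6 Groth.Agent.Lib.Helper5.Misc

variable {X : TopCat.{u}} (U : Opens X)

/-- `j_* j⁻¹` -/
noncomputable abbrev HH : CohTop.Ab X ⥤ CohTop.Ab X :=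
  CohTop.pull (CohCx.incl U) ⋙ CohTop.push (CohCx.incl U)

/-- the unit `𝟭 ⟶ j_* j⁻¹` -/
noncomputable abbrev ηη : 𝟭 (CohTop.Ab X) ⟶ HH U :=
  (TopCat.Sheaf.pullbackPushforwardAdjunction AddCommGrpCat.{u} (CohCx.incl U)).unit

/-- the inclusion `Γ_Z ⟶ 𝟭` -/
noncomputable def ττ : LocCohZ.sectSuppF U ⟶ 𝟭 (CohTop.Ab X) where
  app F := kernel.ι ((ηη U).app F)
  naturality F G φ := by
    dsimp [LocCohZ.sectSuppF]
    exact kernel.lift_ι _ _ _

theorem push_additive : (CohTop.push (CohCx.incl U)).Additive := { }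

theorem pull_additive : (CohTop.pull (CohCx.incl U)).Additive := by
  have h : (TopCat.Sheaf.pushforward AddCommGrpCat.{u} (CohCx.incl U)).Additive := { }
  exact (TopCat.Sheaf.pullbackPushforwardAdjunction AddCommGrpCat.{u} (CohCx.incl U)).left_adjoint_additive

theorem HH_additive : (HH U).Additive := by
  have h1 := push_additive U
  have h2 := pull_additive U
  unfold HH
  infer_instance

/-- the unit of the explicit adjunction is surjective on sections of a flasque sheaf -/
lemma epi_unit' (F : CohTop.Ab X) [TopCat.Sheaf.IsFlasque F] :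
    Epi ((SectSupp.adj' U).unit.app F) := by
  apply FlasqueTower.epi_of_sections_surjective
  intro V
  rw [SectSupp.adj'_unit_app]
  exact (AddCommGrpCat.epi_iff_surjective _).1 (TopCat.Presheaf.IsFlasque.epi _)

lemma epi_unit (F : CohTop.Ab X) [TopCat.Sheaf.IsFlasque F] : Epi ((ηη U).app F) := by
  have h1 := Adjunction.unit_leftAdjointUniq_hom_app (SectSupp.adj' U)
    (TopCat.Sheaf.pullbackPushforwardAdjunction AddCommGrpCat.{u} (CohCx.incl U)) F
  have := epi_unit' U F
  change Epi ((TopCat.Sheaf.pullbackPushforwardAdjunction AddCommGrpCat.{u} (CohCx.incl U)).unit.app F)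
  rw [← h1]
  infer_instance

lemma hyp : RDKer.Hyp (LocCohZ.sectSuppF U) (HH U) (ττ U) (ηη U) where
  zero F := kernel.condition _
  exact F := ShortComplex.exact_of_f_is_kernel _ (kernelIsKernel _)
  mono F := by
    change Mono (kernel.ι _)
    infer_instance
  epi Q hQ := by
    have : TopCat.Sheaf.IsFlasque Q := Groth.Agent.S0454.result Q
    exact epi_unit U Q

end Groth.Agent.Helper3.LocCohKer

namespace Groth.Agent.Helper3.LocCohKer

open Groth.Agent.Lib.Helper6 Groth.Agent.Lib.Helper5.Misc

variable {X : TopCat.{u}} (U : Opens X)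

/-- Mathlib's pullback along the inclusion of an open is restriction -/
noncomputable def pullIsoRestr : CohTop.pull (CohCx.incl U) ≅ CohTop.restrFunctor U :=
  (SectSupp.hj U).sheafPullbackIso AddCommGrpCat.{u}

theorem preservesFiniteLimits_HH : PreservesFiniteLimits (HH U) := by
  have h1 : PreservesFiniteLimits (CohTop.restrFunctor U) := by
    have := (ShriekTop.adjTop U).rightAdjoint_preservesLimits
    infer_instance
  have h2 : PreservesFiniteLimits (CohTop.pull (CohCx.incl U)) :=
    preservesFiniteLimits_of_natIso (pullIsoRestr U).symm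
  have h3 : PreservesFiniteLimits (CohTop.push (CohCx.incl U)) := by
    have : PreservesLimitsOfSize.{0, 0} (CohTop.push (CohCx.incl U)) :=
      (TopCat.Sheaf.pullbackPushforwardAdjunction AddCommGrpCat.{u}
        (CohCx.incl U)).rightAdjoint_preservesLimits
    exact PreservesLimitsOfSize.preservesFiniteLimits _
  exact comp_preservesFiniteLimits _ _

theorem restr_instances :
    (CohTop.restrFunctor U).Additive ∧ (CohTop.restrFunctor U).PreservesInjectiveObjects ∧
      (CohTop.restrFunctor U).PreservesHomology := by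
  have h1 : (CohTop.restrFunctor U).Additive := (ShriekTop.adjTop U).right_adjoint_additive
  have h2 : (CohTop.restrFunctor U).PreservesInjectiveObjects :=
    Functor.preservesInjectiveObjects_of_adjunction_of_preservesMonomorphisms (ShriekTop.adjTop U)
  have h3 : PreservesFiniteLimits (CohTop.restrFunctor U) := by
    have := (ShriekTop.adjTop U).rightAdjoint_preservesLimits
    infer_instance
  have h4 : PreservesFiniteColimits (CohTop.restrFunctor U) := inferInstance
  exact ⟨h1, h2, inferInstance⟩

/-- `ℋ¹_Z ≅ coker(𝟭 ⟶ j_* j⁻¹)` -/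
noncomputable def iso1 : LocCohZ.HZsh U 1 ≅ cokernel (ηη U) := by
  haveI := HH_additive U
  haveI := preservesFiniteLimits_HH U
  exact (RDKer.cokernelIso (hyp U)).symm

/-- `ℋ^{i+2}_Z ≅ j⁻¹ ⋙ R^{i+1} j_*` -/
noncomputable def iso2 (i : ℕ) :
    LocCohZ.HZsh U (i + 1 + 1) ≅ CohTop.pull (CohCx.incl U) ⋙ CohTop.Rpush (CohCx.incl U) (i + 1) := by
  haveI := HH_additive U
  haveI := push_additive U
  haveI := pull_additive U
  obtain ⟨h1, h2, h3⟩ := restr_instances U
  haveI : (CohTop.restrFunctor U ⋙ CohTop.push (CohCx.incl U)).Additive := inferInstance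
  exact (RDKer.natIso (hyp U) i).symm ≪≫
    RDComp.natIso (Functor.isoWhiskerRight (pullIsoRestr U) (CohTop.push (CohCx.incl U))) (i + 1) ≪≫
    RDCompNat.preNatIso (CohTop.restrFunctor U) (CohTop.push (CohCx.incl U)) (i + 1) ≪≫
    Functor.isoWhiskerRight (pullIsoRestr U).symm ((CohTop.push (CohCx.incl U)).rightDerived (i + 1))

end Groth.Agent.Helper3.LocCohKer
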