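import Mathlib
import Groth.Prelude.Def_CohTop

set_option autoImplicit false
universe u
open CategoryTheory Limits Opposite TopologicalSpace

namespace Groth.Agent.Helper3.RestrPush

variable {X Y : TopCat.{u}} (f : X ⟶ Y) (V : Opens Y)

/-- the restriction of `f` over `V` -/
abbrev gmap : TopCat.of ((Opens.map f).obj V) ⟶ TopCat.of V :=
  TopCat.ofHom ⟨(V : Set Y).restrictPreimage f, f.hom.continuous.restrictPreimage⟩

/-- image of an open of the subspace -/
abbrev im {Z : TopCat.{u}} (U : Opens Z) (W : Opens (TopCat.of U)) : Opens Z :=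
  U.isOpenEmbedding.isOpenMap.functor.obj W

lemma opens_eq (W : Opens (TopCat.of V)) :
    (Opens.map f).obj (im V W) = im ((Opens.map f).obj V) ((Opens.map (gmap f V)).obj W) := by
  ext x
  constructor
  · rintro ⟨y, hy, hxy⟩
    refine ⟨⟨x, ?_⟩, ?_, rfl⟩
    · change f x ∈ V
      rw [← hxy]
      exact y.2
    · have : (⟨f x, by rw [← hxy]; exact y.2⟩ : V) = y := Subtype.ext hxy.symm
      change (⟨f x, _⟩ : V) ∈ W
      rw [this]
      exact hy
  · rintro ⟨x', hx', rfl⟩
    exact ⟨⟨f x'.1, x'.2⟩, hx', rfl⟩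

/-- component of the base change isomorphism -/
noncomputable def compIsoApp (F : CohTop.Ab X) :
    (CohTop.push f ⋙ CohTop.restrFunctor V).obj F ≅
      (CohTop.restrFunctor ((Opens.map f).obj V) ⋙ CohTop.push (gmap f V)).obj F :=
  ObjectProperty.isoMk _ (NatIso.ofComponents
    (fun W => F.obj.mapIso (eqToIso (congrArg op (opens_eq f V W.unop))))
    (by
      intro W W' i
      change F.obj.map _ ≫ F.obj.map _ = F.obj.map _ ≫ F.obj.map _
      rw [← F.obj.map_comp, ← F.obj.map_comp]
      congr 1))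

/-- `(f_* F)|_V ≅ g_* (F|_{f⁻¹ V})` -/
noncomputable def compIso : CohTop.push f ⋙ CohTop.restrFunctor V ≅
    CohTop.restrFunctor ((Opens.map f).obj V) ⋙ CohTop.push (gmap f V) :=
  NatIso.ofComponents (compIsoApp f V) (by
    intro F G φ
    ext W x
    exact (ConcreteCategory.congr_hom (φ.hom.naturality
      (eqToHom (congrArg op (opens_eq f V W.unop)))) x).symm)

end Groth.Agent.Helper3.RestrPush
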