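import Mathlib
import Groth.Prelude.Def_Coh
import Groth.Prelude.Def_CohB1
import Groth.Agent.Lib.Helper3.LerayCol1
import Groth.Agent.Lib.Helper3.LerayCol2
import Groth.Agent.Lib.Helper1.RpushComp
import Groth.Agent.Lib.Helper1.QcAcyc
import Groth.Agent.S0854
import Groth.Agent.S0463
import Groth.Agent.S0030

/-!
# Cohomology over the preimage of an affine open, when the higher direct images vanish
-/

set_option autoImplicit false
universe u
open CategoryTheory CategoryTheory.Limits Opposite TopologicalSpace AlgebraicGeometry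

namespace Groth.Agent.Helper3.BCDim

open Groth.Agent.Helper1 Groth.Agent.Helper3

/-- the sections of a zero sheaf -/
theorem subsingleton_sections_of_isZero {X : TopCat.{u}} {F : CohTop.Ab X} (h : IsZero F)
    (U : (Opens X)ᵒᵖ) : Subsingleton (F.obj.obj U) := by
  have h1 : IsZero (((sheafSections _ _).obj U).obj F) := Functor.map_isZero _ h
  exact AddCommGrpCat.subsingleton_of_isZero h1

/-- **Lemma A**: if `R^i f_* G = 0` for `i > d`, then `H^q(f⁻¹V, G) = 0` for `q > d` and `V` affine -/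
theorem subsingleton_HU_preimage {X Y : Scheme.{u}} (f : X ⟶ Y) [QuasiCompact f] [QuasiSeparated f]
    (d : ℕ) (G : X.Modules) [G.IsQuasicoherent]
    (hG : ∀ i, d < i → IsZero ((Coh.RpushAb f i).obj (Coh.toAb G)))
    (V : Y.Opens) (hV : IsAffineOpen V) (q : ℕ) (hq : d < q) :
    Subsingleton (CohTop.HU (Coh.toAb G) q (f ⁻¹ᵁ V)) := by
  haveI := LerayCol.hasInjectiveResolutions X
  obtain ⟨e0⟩ := Groth.Agent.S0463.result (X := X.toTopCat) (Coh.toAb G) (f ⁻¹ᵁ V) q
  suffices h : Subsingleton (CohTop.H (CohTop.restr (Coh.toAb G) (f ⁻¹ᵁ V)) q) from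
    @Equiv.subsingleton _ _ e0.toEquiv h
  have hyp : ∀ j p : ℕ, 0 < p → Subsingleton (CohTop.H ((CohTop.Rpush
      (TopCat.ofHom ⟨(V : Set Y).restrictPreimage f.base, f.base.hom.continuous.restrictPreimage⟩ :
        TopCat.of ((Opens.map f.base).obj V) ⟶ TopCat.of V) j).obj
      (CohTop.restr (Coh.toAb G) ((Opens.map f.base).obj V))) p) := by
    intro j p hp
    obtain ⟨m, rfl⟩ : ∃ m, p = m + 1 := ⟨p - 1, by omega⟩
    obtain ⟨e2⟩ := Groth.Agent.S0854.result f.base (Coh.toAb G) V j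
    obtain ⟨e3⟩ := RpushComp.nonempty_iso f G j
    haveI : ((Coh.Rpush f j).obj G).IsQuasicoherent := Groth.Agent.S0030.result f G j
    haveI h4 : Subsingleton (CohTop.HU (Coh.toAb ((Coh.Rpush f j).obj G)) (m + 1) V) :=
      QcAcyc.subsingleton_HU _ V hV m
    obtain ⟨e5⟩ := Groth.Agent.S0463.result (X := Y.toTopCat)
      (Coh.toAb ((Coh.Rpush f j).obj G)) V (m + 1)
    haveI h6 : Subsingleton (CohTop.H (CohTop.restr (Coh.toAb ((Coh.Rpush f j).obj G)) V) (m + 1)) :=
      @Equiv.subsingleton _ _ e5.symm.toEquiv h4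
    have e7 : CohTop.restr (Coh.toAb ((Coh.Rpush f j).obj G)) V ≅
        CohTop.restr ((CohTop.Rpush f.base j).obj (Coh.toAb G)) V :=
      (CohTop.restrFunctor V).mapIso e3
    exact LerayCol.subsingleton_H_of_iso (e7 ≪≫ e2) (m + 1)
  obtain ⟨e1⟩ := LerayCol.nonempty_addEquiv
    (TopCat.ofHom ⟨(V : Set Y).restrictPreimage f.base, f.base.hom.continuous.restrictPreimage⟩ :
        TopCat.of ((Opens.map f.base).obj V) ⟶ TopCat.of V)
    (CohTop.restr (Coh.toAb G) ((Opens.map f.base).obj V)) hyp q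
  obtain ⟨e2⟩ := Groth.Agent.S0854.result f.base (Coh.toAb G) V q
  have hz : IsZero (CohTop.restr ((CohTop.Rpush f.base q).obj (Coh.toAb G)) V) :=
    Functor.map_isZero _ (hG q hq)
  have h8 := subsingleton_sections_of_isZero (hz.of_iso e2.symm) (op ⊤)
  exact @Equiv.subsingleton _ _ e1.toEquiv h8

end Groth.Agent.Helper3.BCDim
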