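import Mathlib

/-!
# Base change of Hom modules along a semilinear additive functor: the four lemmas
-/

set_option autoImplicit false
universe u₁ u₂ v₁ v₂ w₁ w₂
open CategoryTheory CategoryTheory.Limits TensorProduct

namespace Groth.Agent.Helper3.BCAbs

variable {A : Type w₁} {B : Type w₂} [CommRing A] [CommRing B] [Algebra A B]
  {C : Type u₁} [Category.{v₁} C] [Preadditive C] [Linear A C]
  {D : Type u₂} [Category.{v₂} D] [Preadditive D] [Linear B D]
  (G : C ⥤ D) [G.Additive]

/-- semilinearity of `G` with respect to `A → B` -/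
def SemiLinear (A : Type w₁) (B : Type w₂) [CommRing A] [CommRing B] [Algebra A B]
    {C : Type u₁} [Category.{v₁} C] [Preadditive C] [Linear A C]
    {D : Type u₂} [Category.{v₂} D] [Preadditive D] [Linear B D] (G : C ⥤ D) : Prop :=
  ∀ (a : A) {X Y : C} (φ : X ⟶ Y), G.map (a • φ) = algebraMap A B a • G.map φ

variable (hG : SemiLinear A B G)

/-- the comparison map `B ⊗_A Hom(X, Y) → Hom(GX, GY)` -/
noncomputable def cmp (X Y : C) : B ⊗[A] (X ⟶ Y) →+ (G.obj X ⟶ G.obj Y) :=
  TensorProduct.liftAddHom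
    { toFun := fun b =>
        { toFun := fun φ => b • G.map φ
          map_zero' := by rw [G.map_zero, smul_zero]
          map_add' := fun φ ψ => by rw [G.map_add, smul_add] }
      map_zero' := by
        ext φ
        simp
      map_add' := fun b b' => by
        ext φ
        simp [add_smul] }
    (fun a b φ => by
      show (a • b) • G.map φ = b • G.map (a • φ)
      rw [hG a φ, Algebra.smul_def, mul_comm, mul_smul])

@[simp]
lemma cmp_tmul (X Y : C) (b : B) (φ : X ⟶ Y) : cmp G hG X Y (b ⊗ₜ φ) = b • G.map φ := rfl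

/-- injectivity of the comparison map -/
def InjBC (X Y : C) : Prop := Function.Injective (cmp G hG X Y)

/-- surjectivity of the comparison map -/
def SurjBC (X Y : C) : Prop := Function.Surjective (cmp G hG X Y)

/-- bijectivity of the comparison map -/
def BijBC (X Y : C) : Prop := Function.Bijective (cmp G hG X Y)

section Pre

/-- precomposition as a linear map -/
noncomputable abbrev pre {Y Y' : C} (u : Y ⟶ Y') (L : C) : (Y' ⟶ L) →ₗ[A] (Y ⟶ L) :=
  Linear.leftComp A L u

/-- postcomposition as a linear map -/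
noncomputable abbrev post (K : C) {L L' : C} (v : L ⟶ L') : (K ⟶ L) →ₗ[A] (K ⟶ L') :=
  Linear.rightComp A K v

/-- precomposition in `D` as an additive map -/
noncomputable abbrev preD {Y Y' : D} (u : Y ⟶ Y') (L : D) : (Y' ⟶ L) →+ (Y ⟶ L) :=
  Preadditive.leftComp L u

/-- postcomposition in `D` as an additive map -/
noncomputable abbrev postD (K : D) {L L' : D} (v : L ⟶ L') : (K ⟶ L) →+ (K ⟶ L') :=
  Preadditive.rightComp K v

lemma cmp_pre {Y Y' : C} (u : Y ⟶ Y') (L : C) :
    (preD (G.map u) (G.obj L)).comp (cmp G hG Y' L) =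
      (cmp G hG Y L).comp ((pre (A := A) u L).lTensor B).toAddMonoidHom := by
  ext z
  induction z using TensorProduct.induction_on with
  | zero => simp
  | tmul b φ =>
    simp only [AddMonoidHom.coe_comp, Function.comp_apply, cmp_tmul, LinearMap.toAddMonoidHom_coe,
      LinearMap.lTensor_tmul, Linear.leftComp_apply, G.map_comp]
    show G.map u ≫ (b • G.map φ) = _
    rw [Linear.comp_smul]
  | add x y hx hy => simp only [map_add, hx, hy]

lemma cmp_post (K : C) {L L' : C} (v : L ⟶ L') :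
    (postD (G.obj K) (G.map v)).comp (cmp G hG K L) =
      (cmp G hG K L').comp ((post (A := A) K v).lTensor B).toAddMonoidHom := by
  ext z
  induction z using TensorProduct.induction_on with
  | zero => simp
  | tmul b φ =>
    simp only [AddMonoidHom.coe_comp, Function.comp_apply, cmp_tmul, LinearMap.toAddMonoidHom_coe,
      LinearMap.lTensor_tmul, Linear.rightComp_apply, G.map_comp]
    show (b • G.map φ) ≫ G.map v = _
    rw [Linear.smul_comp]
  | add x y hx hy => simp only [map_add, hx, hy]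

end Pre

section Four

variable [Module.Flat A B]

/-- four lemma (injectivity), first variable:
`Hom(Y₄, L) → Hom(Y₃, L) → Hom(Y₂, L) → Hom(Y₁, L)` -/
theorem injBC_four {Y₁ Y₂ Y₃ Y₄ : C} (u₁ : Y₁ ⟶ Y₂) (u₂ : Y₂ ⟶ Y₃) (u₃ : Y₃ ⟶ Y₄) (L : C)
    (e₃ : Function.Exact (pre (A := A) u₃ L) (pre (A := A) u₂ L))
    (e₂ : Function.Exact (pre (A := A) u₂ L) (pre (A := A) u₁ L))
    (e₃' : Function.Exact (preD (G.map u₃) (G.obj L)) (preD (G.map u₂) (G.obj L)))
    (h₄ : SurjBC G hG Y₄ L) (h₃ : InjBC G hG Y₃ L) (h₁ : InjBC G hG Y₁ L) :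
    InjBC G hG Y₂ L :=
  AddMonoidHom.injective_of_surjective_of_injective_of_injective
    ((pre (A := A) u₃ L).lTensor B).toAddMonoidHom ((pre (A := A) u₂ L).lTensor B).toAddMonoidHom
    ((pre (A := A) u₁ L).lTensor B).toAddMonoidHom
    (preD (G.map u₃) (G.obj L)) (preD (G.map u₂) (G.obj L)) (preD (G.map u₁) (G.obj L))
    (cmp G hG Y₄ L) (cmp G hG Y₃ L) (cmp G hG Y₂ L) (cmp G hG Y₁ L)
    (cmp_pre G hG u₃ L) (cmp_pre G hG u₂ L) (cmp_pre G hG u₁ L)
    (Module.Flat.lTensor_exact B e₃) (Module.Flat.lTensor_exact B e₂) e₃' h₄ h₃ h₁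

/-- four lemma (surjectivity), first variable:
`Hom(Y₄, L) → Hom(Y₃, L) → Hom(Y₂, L) → Hom(Y₁, L)` -/
theorem surjBC_four {Y₁ Y₂ Y₃ Y₄ : C} (u₁ : Y₁ ⟶ Y₂) (u₂ : Y₂ ⟶ Y₃) (u₃ : Y₃ ⟶ Y₄) (L : C)
    (e₂ : Function.Exact (pre (A := A) u₂ L) (pre (A := A) u₁ L))
    (e₃' : Function.Exact (preD (G.map u₃) (G.obj L)) (preD (G.map u₂) (G.obj L)))
    (e₂' : Function.Exact (preD (G.map u₂) (G.obj L)) (preD (G.map u₁) (G.obj L)))
    (h₄ : SurjBC G hG Y₄ L) (h₂ : SurjBC G hG Y₂ L) (h₁ : InjBC G hG Y₁ L) :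
    SurjBC G hG Y₃ L :=
  AddMonoidHom.surjective_of_surjective_of_surjective_of_injective
    ((pre (A := A) u₃ L).lTensor B).toAddMonoidHom ((pre (A := A) u₂ L).lTensor B).toAddMonoidHom
    ((pre (A := A) u₁ L).lTensor B).toAddMonoidHom
    (preD (G.map u₃) (G.obj L)) (preD (G.map u₂) (G.obj L)) (preD (G.map u₁) (G.obj L))
    (cmp G hG Y₄ L) (cmp G hG Y₃ L) (cmp G hG Y₂ L) (cmp G hG Y₁ L)
    (cmp_pre G hG u₃ L) (cmp_pre G hG u₂ L) (cmp_pre G hG u₁ L)
    (Module.Flat.lTensor_exact B e₂) e₃' e₂' h₄ h₂ h₁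

/-- four lemma (injectivity), second variable:
`Hom(K, L₁) → Hom(K, L₂) → Hom(K, L₃) → Hom(K, L₄)` -/
theorem injBC_four' (K : C) {L₁ L₂ L₃ L₄ : C} (v₁ : L₁ ⟶ L₂) (v₂ : L₂ ⟶ L₃) (v₃ : L₃ ⟶ L₄)
    (e₂ : Function.Exact (post (A := A) K v₁) (post (A := A) K v₂))
    (e₃ : Function.Exact (post (A := A) K v₂) (post (A := A) K v₃))
    (e₂' : Function.Exact (postD (G.obj K) (G.map v₁)) (postD (G.obj K) (G.map v₂)))
    (h₁ : SurjBC G hG K L₁) (h₂ : InjBC G hG K L₂) (h₄ : InjBC G hG K L₄) :
    InjBC G hG K L₃ :=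
  AddMonoidHom.injective_of_surjective_of_injective_of_injective
    ((post (A := A) K v₁).lTensor B).toAddMonoidHom ((post (A := A) K v₂).lTensor B).toAddMonoidHom
    ((post (A := A) K v₃).lTensor B).toAddMonoidHom
    (postD (G.obj K) (G.map v₁)) (postD (G.obj K) (G.map v₂)) (postD (G.obj K) (G.map v₃))
    (cmp G hG K L₁) (cmp G hG K L₂) (cmp G hG K L₃) (cmp G hG K L₄)
    (cmp_post G hG K v₁) (cmp_post G hG K v₂) (cmp_post G hG K v₃)
    (Module.Flat.lTensor_exact B e₂) (Module.Flat.lTensor_exact B e₃) e₂' h₁ h₂ h₄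

/-- four lemma (surjectivity), second variable:
`Hom(K, L₁) → Hom(K, L₂) → Hom(K, L₃) → Hom(K, L₄)` -/
theorem surjBC_four' (K : C) {L₁ L₂ L₃ L₄ : C} (v₁ : L₁ ⟶ L₂) (v₂ : L₂ ⟶ L₃) (v₃ : L₃ ⟶ L₄)
    (e₃ : Function.Exact (post (A := A) K v₂) (post (A := A) K v₃))
    (e₂' : Function.Exact (postD (G.obj K) (G.map v₁)) (postD (G.obj K) (G.map v₂)))
    (e₃' : Function.Exact (postD (G.obj K) (G.map v₂)) (postD (G.obj K) (G.map v₃)))
    (h₁ : SurjBC G hG K L₁) (h₃ : SurjBC G hG K L₃) (h₄ : InjBC G hG K L₄) :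
    SurjBC G hG K L₂ :=
  AddMonoidHom.surjective_of_surjective_of_surjective_of_injective
    ((post (A := A) K v₁).lTensor B).toAddMonoidHom ((post (A := A) K v₂).lTensor B).toAddMonoidHom
    ((post (A := A) K v₃).lTensor B).toAddMonoidHom
    (postD (G.obj K) (G.map v₁)) (postD (G.obj K) (G.map v₂)) (postD (G.obj K) (G.map v₃))
    (cmp G hG K L₁) (cmp G hG K L₂) (cmp G hG K L₃) (cmp G hG K L₄)
    (cmp_post G hG K v₁) (cmp_post G hG K v₂) (cmp_post G hG K v₃)
    (Module.Flat.lTensor_exact B e₃) e₂' e₃' h₁ h₃ h₄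

end Four

section Iso

lemma lTensor_pre_leftInverse {X X' : C} (e : X ≅ X') (L : C) :
    Function.LeftInverse ((pre (A := A) e.inv L).lTensor B) ((pre (A := A) e.hom L).lTensor B) := by
  intro z
  rw [← LinearMap.comp_apply, ← LinearMap.lTensor_comp]
  have : pre (A := A) e.inv L ∘ₗ pre (A := A) e.hom L = LinearMap.id := by
    ext φ
    simp
  rw [this, LinearMap.lTensor_id, LinearMap.id_apply]

lemma lTensor_post_leftInverse (K : C) {L L' : C} (e : L ≅ L') :
    Function.LeftInverse ((post (A := A) K e.inv).lTensor B)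
      ((post (A := A) K e.hom).lTensor B) := by
  intro z
  rw [← LinearMap.comp_apply, ← LinearMap.lTensor_comp]
  have : post (A := A) K e.inv ∘ₗ post (A := A) K e.hom = LinearMap.id := by
    ext φ
    simp
  rw [this, LinearMap.lTensor_id, LinearMap.id_apply]

lemma injBC_of_iso_left {X X' : C} (e : X ≅ X') (L : C) (h : InjBC G hG X L) :
    InjBC G hG X' L := by
  intro z z' hz
  have hsq := cmp_pre (A := A) G hG e.hom L
  have h1 := DFunLike.congr_fun hsq z
  have h2 := DFunLike.congr_fun hsq z'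
  simp only [AddMonoidHom.coe_comp, Function.comp_apply] at h1 h2
  rw [hz, h2] at h1
  exact (lTensor_pre_leftInverse (B := B) e L).injective (h h1).symm

lemma surjBC_of_iso_left {X X' : C} (e : X ≅ X') (L : C) (h : SurjBC G hG X L) :
    SurjBC G hG X' L := by
  intro ψ
  obtain ⟨z, hz⟩ := h (G.map e.hom ≫ ψ)
  have hsq := DFunLike.congr_fun (cmp_pre (A := A) G hG e.inv L) z
  simp only [AddMonoidHom.coe_comp, Function.comp_apply] at hsq
  refine ⟨(pre (A := A) e.inv L).lTensor B z, ?_⟩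
  rw [LinearMap.toAddMonoidHom_coe] at hsq
  rw [← hsq, hz]
  show G.map e.inv ≫ G.map e.hom ≫ ψ = ψ
  rw [← Category.assoc, ← G.map_comp, e.inv_hom_id, G.map_id, Category.id_comp]

lemma injBC_of_iso_right (K : C) {L L' : C} (e : L ≅ L') (h : InjBC G hG K L) :
    InjBC G hG K L' := by
  intro z z' hz
  have hsq := cmp_post (A := A) G hG K e.inv
  have h1 := DFunLike.congr_fun hsq z
  have h2 := DFunLike.congr_fun hsq z'
  simp only [AddMonoidHom.coe_comp, Function.comp_apply] at h1 h2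
  rw [hz, h2] at h1
  exact (lTensor_post_leftInverse (B := B) K e.symm).injective (h h1).symm

lemma surjBC_of_iso_right (K : C) {L L' : C} (e : L ≅ L') (h : SurjBC G hG K L) :
    SurjBC G hG K L' := by
  intro ψ
  obtain ⟨z, hz⟩ := h (ψ ≫ G.map e.inv)
  have hsq := DFunLike.congr_fun (cmp_post (A := A) G hG K e.hom) z
  simp only [AddMonoidHom.coe_comp, Function.comp_apply] at hsq
  refine ⟨(post (A := A) K e.hom).lTensor B z, ?_⟩
  rw [LinearMap.toAddMonoidHom_coe] at hsq
  rw [← hsq, hz]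
  show (ψ ≫ G.map e.inv) ≫ G.map e.hom = ψ
  rw [Category.assoc, ← G.map_comp, e.inv_hom_id, G.map_id, Category.comp_id]

lemma bijBC_of_iso_left {X X' : C} (e : X ≅ X') (L : C) (h : BijBC G hG X L) :
    BijBC G hG X' L :=
  ⟨injBC_of_iso_left G hG e L h.1, surjBC_of_iso_left G hG e L h.2⟩

lemma bijBC_of_iso_right (K : C) {L L' : C} (e : L ≅ L') (h : BijBC G hG K L) :
    BijBC G hG K L' :=
  ⟨injBC_of_iso_right G hG K e h.1, surjBC_of_iso_right G hG K e h.2⟩

end Iso

section Zero

variable [HasZeroObject C] [HasZeroObject D]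

lemma subsingleton_tensor_of_subsingleton (M : Type*) [AddCommGroup M] [Module A M]
    [Subsingleton M] : Subsingleton (B ⊗[A] M) := by
  refine ⟨fun z z' => ?_⟩
  have key : ∀ z : B ⊗[A] M, z = 0 := by
    intro z
    induction z using TensorProduct.induction_on with
    | zero => rfl
    | tmul b m => rw [Subsingleton.elim m 0, TensorProduct.tmul_zero]
    | add x y hx hy => rw [hx, hy, add_zero]
  rw [key z, key z']

lemma bijBC_of_isZero_left {X : C} (hX : IsZero X) (L : C) : BijBC G hG X L := by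
  haveI : Subsingleton (X ⟶ L) := ⟨fun f g => hX.eq_of_src f g⟩
  haveI := subsingleton_tensor_of_subsingleton (A := A) (B := B) (X ⟶ L)
  haveI : Subsingleton (G.obj X ⟶ G.obj L) := ⟨fun f g => (G.map_isZero hX).eq_of_src f g⟩
  exact ⟨Function.injective_of_subsingleton _, fun ψ => ⟨0, Subsingleton.elim _ _⟩⟩

lemma bijBC_of_isZero_right (K : C) {L : C} (hL : IsZero L) : BijBC G hG K L := by
  haveI : Subsingleton (K ⟶ L) := ⟨fun f g => hL.eq_of_tgt f g⟩
  haveI := subsingleton_tensor_of_subsingleton (A := A) (B := B) (K ⟶ L)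
  haveI : Subsingleton (G.obj K ⟶ G.obj L) := ⟨fun f g => (G.map_isZero hL).eq_of_tgt f g⟩
  exact ⟨Function.injective_of_subsingleton _, fun ψ => ⟨0, Subsingleton.elim _ _⟩⟩

/-- if both `Hom` groups vanish the comparison map is bijective -/
lemma bijBC_of_subsingleton (K L : C) [Subsingleton (K ⟶ L)]
    [Subsingleton (G.obj K ⟶ G.obj L)] : BijBC G hG K L := by
  haveI := subsingleton_tensor_of_subsingleton (A := A) (B := B) (K ⟶ L)
  exact ⟨Function.injective_of_subsingleton _, fun ψ => ⟨0, Subsingleton.elim _ _⟩⟩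

end Zero

section FullyFaithful

variable {C₀ : Type*} [Category C₀] [Preadditive C₀] [Linear A C₀]
  {D₀ : Type*} [Category D₀] [Preadditive D₀] [Linear B D₀]
  (F : C₀ ⥤ D₀) [F.Additive] (hF : SemiLinear A B F)
  (S : C₀ ⥤ C) [S.Additive] [S.Linear A] [S.Full] [S.Faithful]
  (S' : D₀ ⥤ D) [S'.Additive] [S'.Linear B] [S'.Full] [S'.Faithful]
  (e : S ⋙ G ≅ F ⋙ S')

/-- the linear equivalence on morphisms induced by a fully faithful linear functor -/
noncomputable def mapLinEquiv (X Y : C₀) : (X ⟶ Y) ≃ₗ[A] (S.obj X ⟶ S.obj Y) :=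
  LinearEquiv.ofBijective (S.mapLinearMap A) ⟨S.map_injective, S.map_surjective⟩

@[simp]
lemma mapLinEquiv_apply (X Y : C₀) (f : X ⟶ Y) : mapLinEquiv (A := A) S X Y f = S.map f := rfl

include e in
/-- transfer of the base change property along fully faithful functors -/
theorem bijBC_of_fullyFaithful (X Y : C₀) (h : BijBC F hF X Y) :
    BijBC G hG (S.obj X) (S.obj Y) := by
  let eX : G.obj (S.obj X) ≅ S'.obj (F.obj X) := e.app X
  let eY : G.obj (S.obj Y) ≅ S'.obj (F.obj Y) := e.app Y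
  let τ : (F.obj X ⟶ F.obj Y) → (G.obj (S.obj X) ⟶ G.obj (S.obj Y)) :=
    fun g => eX.hom ≫ S'.map g ≫ eY.inv
  have hτ : Function.Bijective τ := by
    constructor
    · intro g g' hgg
      simp only [τ] at hgg
      rw [cancel_epi, cancel_mono] at hgg
      exact S'.map_injective hgg
    · intro ψ
      obtain ⟨g, hg⟩ := S'.map_surjective (eX.inv ≫ ψ ≫ eY.hom)
      refine ⟨g, ?_⟩
      simp only [τ, hg, Category.assoc, Iso.hom_inv_id, Category.comp_id,
        Iso.hom_inv_id_assoc]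
  have key : ∀ z, cmp G hG (S.obj X) (S.obj Y) ((mapLinEquiv (A := A) S X Y).toLinearMap.lTensor B z) =
      τ (cmp F hF X Y z) := by
    intro z
    induction z using TensorProduct.induction_on with
    | zero => simp [τ]
    | tmul b f =>
      simp only [LinearMap.lTensor_tmul, cmp_tmul, τ, LinearEquiv.coe_coe, mapLinEquiv_apply]
      have h1 : S'.map (b • F.map f) = b • S'.map (F.map f) := S'.map_smul _ _
      have h2 : G.map (S.map f) ≫ eY.hom = eX.hom ≫ S'.map (F.map f) := e.hom.naturality f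
      rw [h1, Linear.smul_comp, Linear.comp_smul, ← Category.assoc, ← h2, Category.assoc,
        Iso.hom_inv_id, Category.comp_id]
    | add x y hx hy =>
      simp only [map_add, hx, hy, τ, Preadditive.add_comp, Preadditive.comp_add, Functor.map_add]
  have hb : Function.Bijective ((mapLinEquiv (A := A) S X Y).toLinearMap.lTensor B) :=
    (LinearEquiv.lTensor B (mapLinEquiv (A := A) S X Y)).bijective
  have h3 : Function.Bijective (cmp G hG (S.obj X) (S.obj Y) ∘
      ((mapLinEquiv (A := A) S X Y).toLinearMap.lTensor B)) := by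
    have : cmp G hG (S.obj X) (S.obj Y) ∘ ((mapLinEquiv (A := A) S X Y).toLinearMap.lTensor B) =
        τ ∘ cmp F hF X Y := funext key
    rw [this]
    exact hτ.comp h
  exact (Function.Bijective.of_comp_iff _ hb).1 h3

end FullyFaithful

section Consequences

/-- `a ↦ a • 𝟙 K` as a linear map -/
noncomputable def toEndLin (A : Type w₁) [CommRing A] {C : Type u₁} [Category.{v₁} C]
    [Preadditive C] [Linear A C] (K : C) : A →ₗ[A] (K ⟶ K) where
  toFun a := a • 𝟙 K
  map_add' a a' := add_smul _ _ _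
  map_smul' a a' := by
    simp only [smul_eq_mul, RingHom.id_apply, mul_smul]

@[simp]
lemma toEndLin_apply (K : C) (a : A) : toEndLin A K a = a • 𝟙 K := rfl

lemma cmp_lTensor_toEndLin (K : C) (b : B) :
    cmp G hG K K ((toEndLin A K).lTensor B (b ⊗ₜ[A] (1 : A))) = b • 𝟙 (G.obj K) := by
  simp only [LinearMap.lTensor_tmul, toEndLin_apply, one_smul, cmp_tmul, G.map_id]

/-- `B → End(GK)` is bijective if `A → End(K)` is and base change holds for `(K, K)` -/
theorem toEnd_bijective_of_bijBC (K : C) (h : BijBC G hG K K)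
    (hK : Function.Bijective (fun a : A => a • 𝟙 K)) :
    Function.Bijective (fun b : B => b • 𝟙 (G.obj K)) := by
  let t : A ≃ₗ[A] (K ⟶ K) := LinearEquiv.ofBijective (toEndLin A K) hK
  have h1 : Function.Bijective (t.toLinearMap.lTensor B) := (LinearEquiv.lTensor B t).bijective
  have h2 : Function.Bijective (fun b : B => b ⊗ₜ[A] (1 : A)) :=
    (TensorProduct.rid A B).symm.bijective
  have h3 : (fun b : B => b • 𝟙 (G.obj K)) =
      cmp G hG K K ∘ (t.toLinearMap.lTensor B) ∘ (fun b : B => b ⊗ₜ[A] (1 : A)) := by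
    funext b
    exact (cmp_lTensor_toEndLin G hG K b).symm
  rw [h3]
  exact h.comp (h1.comp h2)

/-- conversely, `B ⊗ (A → End(K))` is bijective if `B → End(GK)` is -/
theorem lTensor_toEndLin_bijective (K : C) (h : BijBC G hG K K)
    (hK : Function.Bijective (fun b : B => b • 𝟙 (G.obj K))) :
    Function.Bijective ((toEndLin A K).lTensor B) := by
  have h2 : Function.Bijective (fun b : B => b ⊗ₜ[A] (1 : A)) :=
    (TensorProduct.rid A B).symm.bijective
  have h3 : (fun b : B => b • 𝟙 (G.obj K)) =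
      (cmp G hG K K ∘ ((toEndLin A K).lTensor B)) ∘ (fun b : B => b ⊗ₜ[A] (1 : A)) := by
    funext b
    exact (cmp_lTensor_toEndLin G hG K b).symm
  rw [h3] at hK
  have h4 := (Function.Bijective.of_comp_iff _ h2).1 hK
  exact (Function.Bijective.of_comp_iff' h _).1 h4

/-- vanishing of `Hom(K, L)` implies vanishing of `Hom(GK, GL)` -/
theorem subsingleton_of_surjBC (K L : C) (h : SurjBC G hG K L) [Subsingleton (K ⟶ L)] :
    Subsingleton (G.obj K ⟶ G.obj L) := by
  haveI := subsingleton_tensor_of_subsingleton (A := A) (B := B) (K ⟶ L)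
  exact h.subsingleton

/-- vanishing of `Hom(GK, GL)` implies vanishing of `B ⊗ Hom(K, L)` -/
theorem subsingleton_tensor_of_injBC (K L : C) (h : InjBC G hG K L)
    [Subsingleton (G.obj K ⟶ G.obj L)] : Subsingleton (B ⊗[A] (K ⟶ L)) :=
  h.subsingleton

end Consequences

section Split

lemma cmp_pre_apply {Y Y' : C} (u : Y ⟶ Y') (L : C) (z : B ⊗[A] (Y' ⟶ L)) :
    G.map u ≫ cmp G hG Y' L z = cmp G hG Y L ((pre (A := A) u L).lTensor B z) := by
  have := DFunLike.congr_fun (cmp_pre (A := A) G hG u L) z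
  simp only [AddMonoidHom.coe_comp, Function.comp_apply, LinearMap.toAddMonoidHom_coe] at this
  exact this

lemma cmp_post_apply (K : C) {L L' : C} (v : L ⟶ L') (z : B ⊗[A] (K ⟶ L)) :
    cmp G hG K L z ≫ G.map v = cmp G hG K L' ((post (A := A) K v).lTensor B z) := by
  have := DFunLike.congr_fun (cmp_post (A := A) G hG K v) z
  simp only [AddMonoidHom.coe_comp, Function.comp_apply, LinearMap.toAddMonoidHom_coe] at this
  exact this

/-- base change for a direct sum in the first variable -/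
theorem bijBC_of_split {X X' Z : C} (i : X ⟶ Z) (i' : X' ⟶ Z) (p : Z ⟶ X) (p' : Z ⟶ X')
    (h : p ≫ i + p' ≫ i' = 𝟙 Z) (L : C) (hX : BijBC G hG X L) (hX' : BijBC G hG X' L) :
    BijBC G hG Z L := by
  have hid : ∀ z : B ⊗[A] (Z ⟶ L),
      (pre (A := A) p L).lTensor B ((pre (A := A) i L).lTensor B z) +
        (pre (A := A) p' L).lTensor B ((pre (A := A) i' L).lTensor B z) = z := by
    intro z
    rw [← LinearMap.comp_apply, ← LinearMap.comp_apply, ← LinearMap.lTensor_comp,
      ← LinearMap.lTensor_comp, ← LinearMap.add_apply, ← LinearMap.lTensor_add]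
    have : pre (A := A) p L ∘ₗ pre (A := A) i L + pre (A := A) p' L ∘ₗ pre (A := A) i' L =
        LinearMap.id := by
      ext φ
      simp only [LinearMap.add_apply, LinearMap.comp_apply, Linear.leftComp_apply,
        LinearMap.id_apply]
      rw [← Category.assoc, ← Category.assoc, ← Preadditive.add_comp, h, Category.id_comp]
    rw [this, LinearMap.lTensor_id, LinearMap.id_apply]
  constructor
  · rw [injective_iff_map_eq_zero]
    intro z hz
    have h1 : (pre (A := A) i L).lTensor B z = 0 := by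
      apply hX.1
      rw [← cmp_pre_apply, hz, comp_zero, map_zero]
    have h2 : (pre (A := A) i' L).lTensor B z = 0 := by
      apply hX'.1
      rw [← cmp_pre_apply, hz, comp_zero, map_zero]
    rw [← hid z, h1, h2, map_zero, map_zero, add_zero]
  · intro ψ
    obtain ⟨z₁, hz₁⟩ := hX.2 (G.map i ≫ ψ)
    obtain ⟨z₂, hz₂⟩ := hX'.2 (G.map i' ≫ ψ)
    refine ⟨(pre (A := A) p L).lTensor B z₁ + (pre (A := A) p' L).lTensor B z₂, ?_⟩
    rw [map_add, ← cmp_pre_apply, ← cmp_pre_apply, hz₁, hz₂, ← Category.assoc, ← Category.assoc,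
      ← G.map_comp, ← G.map_comp, ← Preadditive.add_comp, ← G.map_add, h, G.map_id,
      Category.id_comp]

/-- base change for a finite direct sum in the first variable -/
theorem bijBC_of_split_sum {ι : Type*} [Fintype ι] {X : ι → C} {Z : C} (i : ∀ s, X s ⟶ Z)
    (p : ∀ s, Z ⟶ X s) (h : ∑ s, p s ≫ i s = 𝟙 Z) (L : C) (hX : ∀ s, BijBC G hG (X s) L) :
    BijBC G hG Z L := by
  have hid : ∀ z : B ⊗[A] (Z ⟶ L),
      ∑ s, (pre (A := A) (p s) L).lTensor B ((pre (A := A) (i s) L).lTensor B z) = z := by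
    intro z
    have h1 : ∑ s, (pre (A := A) (p s) L ∘ₗ pre (A := A) (i s) L) = LinearMap.id := by
      ext φ
      simp only [LinearMap.sum_apply, LinearMap.comp_apply, Linear.leftComp_apply,
        LinearMap.id_apply]
      have : ∀ s, p s ≫ i s ≫ φ = (p s ≫ i s) ≫ φ := fun s => (Category.assoc _ _ _).symm
      simp only [this]
      rw [← Preadditive.sum_comp, h, Category.id_comp]
    have h2 : (LinearMap.lTensorHom (R := A) B)
        (∑ s, (pre (A := A) (p s) L ∘ₗ pre (A := A) (i s) L)) =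
        ∑ s, (LinearMap.lTensorHom (R := A) B) (pre (A := A) (p s) L ∘ₗ pre (A := A) (i s) L) :=
      map_sum _ _ _
    rw [h1] at h2
    have h3 := LinearMap.congr_fun h2 z
    simp only [LinearMap.coe_lTensorHom, LinearMap.lTensor_id, LinearMap.id_apply,
      LinearMap.sum_apply, LinearMap.lTensor_comp, LinearMap.comp_apply] at h3
    exact h3.symm
  constructor
  · rw [injective_iff_map_eq_zero]
    intro z hz
    have h1 : ∀ s, (pre (A := A) (i s) L).lTensor B z = 0 := by
      intro s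
      apply (hX s).1
      rw [← cmp_pre_apply, hz, comp_zero, map_zero]
    rw [← hid z]
    simp only [h1, map_zero, Finset.sum_const_zero]
  · intro ψ
    choose z hz using fun s => (hX s).2 (G.map (i s) ≫ ψ)
    refine ⟨∑ s, (pre (A := A) (p s) L).lTensor B (z s), ?_⟩
    rw [map_sum]
    have : ∀ s, cmp G hG Z L ((pre (A := A) (p s) L).lTensor B (z s)) =
        G.map (p s ≫ i s) ≫ ψ := by
      intro s
      rw [← cmp_pre_apply, hz, G.map_comp, Category.assoc]
    simp only [this]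
    rw [← Preadditive.sum_comp, ← G.map_sum, h, G.map_id, Category.id_comp]

end Split

section Triangulated

open Pretriangulated

variable [HasZeroObject C] [HasShift C ℤ] [∀ n : ℤ, (shiftFunctor C n).Additive] [Pretriangulated C]
  [HasZeroObject D] [HasShift D ℤ] [∀ n : ℤ, (shiftFunctor D n).Additive] [Pretriangulated D]

lemma exact_pre_of_dist (T : Triangle C) (hT : T ∈ distTriang C) (L : C) :
    Function.Exact (pre (A := A) T.mor₂ L) (pre (A := A) T.mor₁ L) := by
  intro φ
  constructor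
  · intro h0
    obtain ⟨ψ, hψ⟩ := Triangle.yoneda_exact₂ _ hT φ h0
    exact ⟨ψ, hψ.symm⟩
  · rintro ⟨ψ, rfl⟩
    have h1 := comp_distTriang_mor_zero₁₂ _ hT
    exact (Category.assoc _ _ _).symm.trans ((congrArg (· ≫ ψ) h1).trans zero_comp)

lemma exact_preD_of_dist (T : Triangle D) (hT : T ∈ distTriang D) (L : D) :
    Function.Exact (preD T.mor₂ L) (preD T.mor₁ L) := by
  intro φ
  constructor
  · intro h0
    obtain ⟨ψ, hψ⟩ := Triangle.yoneda_exact₂ _ hT φ h0
    exact ⟨ψ, hψ.symm⟩
  · rintro ⟨ψ, rfl⟩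
    have h1 := comp_distTriang_mor_zero₁₂ _ hT
    exact (Category.assoc _ _ _).symm.trans ((congrArg (· ≫ ψ) h1).trans zero_comp)

lemma exact_post_of_dist (K : C) (T : Triangle C) (hT : T ∈ distTriang C) :
    Function.Exact (post (A := A) K T.mor₁) (post (A := A) K T.mor₂) := by
  intro φ
  constructor
  · intro h0
    obtain ⟨ψ, hψ⟩ := Triangle.coyoneda_exact₂ _ hT φ h0
    exact ⟨ψ, hψ.symm⟩
  · rintro ⟨ψ, rfl⟩
    have h1 := comp_distTriang_mor_zero₁₂ _ hT
    exact (Category.assoc _ _ _).trans ((congrArg (ψ ≫ ·) h1).trans comp_zero)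

lemma exact_postD_of_dist (K : D) (T : Triangle D) (hT : T ∈ distTriang D) :
    Function.Exact (postD K T.mor₁) (postD K T.mor₂) := by
  intro φ
  constructor
  · intro h0
    obtain ⟨ψ, hψ⟩ := Triangle.coyoneda_exact₂ _ hT φ h0
    exact ⟨ψ, hψ.symm⟩
  · rintro ⟨ψ, rfl⟩
    have h1 := comp_distTriang_mor_zero₁₂ _ hT
    exact (Category.assoc _ _ _).trans ((congrArg (ψ ≫ ·) h1).trans comp_zero)

variable [G.CommShift ℤ] [G.IsTriangulated] [Module.Flat A B]

/-- injectivity in the middle of a triangle (first variable) -/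
theorem injBC_of_dist (T : Triangle C) (hT : T ∈ distTriang C) (L : C)
    (h1 : SurjBC G hG (T.obj₁⟦(1 : ℤ)⟧) L) (h3 : InjBC G hG T.obj₃ L)
    (h1' : InjBC G hG T.obj₁ L) : InjBC G hG T.obj₂ L :=
  injBC_four G hG T.mor₁ T.mor₂ T.mor₃ L
    (exact_pre_of_dist T.rotate (rot_of_distTriang _ hT) L)
    (exact_pre_of_dist T hT L)
    (exact_preD_of_dist _ (G.map_distinguished _ (rot_of_distTriang _ hT)) (G.obj L))
    h1 h3 h1'

/-- surjectivity in the middle of a triangle (first variable) -/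
theorem surjBC_of_dist (T : Triangle C) (hT : T ∈ distTriang C) (L : C)
    (h3 : SurjBC G hG T.obj₃ L) (h1 : SurjBC G hG T.obj₁ L)
    (h3' : InjBC G hG (T.obj₃⟦(-1 : ℤ)⟧) L) : SurjBC G hG T.obj₂ L :=
  surjBC_four G hG T.invRotate.mor₁ T.mor₁ T.mor₂ L
    (exact_pre_of_dist T.invRotate (inv_rot_of_distTriang _ hT) L)
    (exact_preD_of_dist _ (G.map_distinguished _ hT) (G.obj L))
    (exact_preD_of_dist _ (G.map_distinguished _ (inv_rot_of_distTriang _ hT)) (G.obj L))
    h3 h1 h3'

/-- injectivity in the middle of a triangle (second variable) -/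
theorem injBC_of_dist' (K : C) (T : Triangle C) (hT : T ∈ distTriang C)
    (h3 : SurjBC G hG K (T.obj₃⟦(-1 : ℤ)⟧)) (h1 : InjBC G hG K T.obj₁)
    (h3' : InjBC G hG K T.obj₃) : InjBC G hG K T.obj₂ :=
  injBC_four' G hG K T.invRotate.mor₁ T.mor₁ T.mor₂
    (exact_post_of_dist K T.invRotate (inv_rot_of_distTriang _ hT))
    (exact_post_of_dist K T hT)
    (exact_postD_of_dist (G.obj K) _ (G.map_distinguished _ (inv_rot_of_distTriang _ hT)))
    h3 h1 h3'

/-- surjectivity in the middle of a triangle (second variable) -/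
theorem surjBC_of_dist' (K : C) (T : Triangle C) (hT : T ∈ distTriang C)
    (h1 : SurjBC G hG K T.obj₁) (h3 : SurjBC G hG K T.obj₃)
    (h1' : InjBC G hG K (T.obj₁⟦(1 : ℤ)⟧)) : SurjBC G hG K T.obj₂ :=
  surjBC_four' G hG K T.mor₁ T.mor₂ T.mor₃
    (exact_post_of_dist K T.rotate (rot_of_distTriang _ hT))
    (exact_postD_of_dist (G.obj K) _ (G.map_distinguished _ hT))
    (exact_postD_of_dist (G.obj K) _ (G.map_distinguished _ (rot_of_distTriang _ hT)))
    h1 h3 h1'

end Triangulated

end Groth.Agent.Helper3.BCAbs
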