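import Mathlib
import Groth.Prelude.Def_CohDer

/-!
# Brown representability (helper3)

`representable_of_generators`: for a triangulated category `D` with coproducts, a small family `G`
which detects nonzero objects, is closed under desuspension up to isomorphism, and satisfies the
countable factorization property, every cohomological functor `Dᵒᵖ ⥤ Ab` sending coproducts to
products is representable.  `representable_of_family(')`: the same for the shift closure of a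
family `E`.  The proof builds the usual tower `X₀ → X₁ → …` (killing kernels), takes its homotopy
colimit and shows that `Hom(G i, hocolim) → H(G i)` is bijective (`main_M`); representability then
follows by applying the construction a second time (`surj_of_bijective`, `inj_of_bijective`).
-/

set_option autoImplicit false
set_option linter.unusedSectionVars false
universe v u

open CategoryTheory CategoryTheory.Limits CategoryTheory.Pretriangulated Opposite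
open CategoryTheory.Pretriangulated.Opposite

namespace Groth.Agent.Helper3.Brown

variable {D : Type u} [Category.{v} D] [Preadditive D] [HasZeroObject D] [HasShift D ℤ]
  [∀ n : ℤ, (shiftFunctor D n).Additive] [Pretriangulated D]

section Basic

variable (H : Dᵒᵖ ⥤ AddCommGrpCat.{v})

/-- `ev H f y = H(f)(y)` -/
def ev {X Y : D} (f : X ⟶ Y) (y : H.obj (op Y)) : H.obj (op X) := (H.map f.op).hom y

lemma ev_comp {X Y Z : D} (f : X ⟶ Y) (g : Y ⟶ Z) (z : H.obj (op Z)) :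
    ev H (f ≫ g) z = ev H f (ev H g z) := by
  simp [ev]

lemma ev_id {X : D} (x : H.obj (op X)) : ev H (𝟙 X) x = x := by
  simp [ev]

lemma ev_add {X Y : D} (f : X ⟶ Y) (y y' : H.obj (op Y)) :
    ev H f (y + y') = ev H f y + ev H f y' := by
  simp [ev]

lemma ev_sub {X Y : D} (f : X ⟶ Y) (y y' : H.obj (op Y)) :
    ev H f (y - y') = ev H f y - ev H f y' := by
  simp [ev]

lemma ev_zero {X Y : D} (f : X ⟶ Y) : ev H f (0 : H.obj (op Y)) = 0 := by
  simp [ev]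

lemma ev_zero_map [H.PreservesZeroMorphisms] {X Y : D} (y : H.obj (op Y)) :
    ev H (0 : X ⟶ Y) y = 0 := by
  simp [ev]

lemma ev_sub_map [H.Additive] {X Y : D} (f g : X ⟶ Y) (y : H.obj (op Y)) :
    ev H (f - g) y = ev H f y - ev H g y := by
  simp [ev, Functor.map_sub]

lemma ev_add_map [H.Additive] {X Y : D} (f g : X ⟶ Y) (y : H.obj (op Y)) :
    ev H (f + g) y = ev H f y + ev H g y := by
  simp [ev, Functor.map_add]

lemma exists_of_exact [H.IsHomological] (T : Triangle D) (hT : T ∈ distTriang D)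
    (y : H.obj (op T.obj₂)) (hy : ev H T.mor₁ y = 0) :
    ∃ z : H.obj (op T.obj₃), ev H T.mor₂ z = y := by
  have hex := H.map_distinguished_op_exact T hT
  rw [ShortComplex.ab_exact_iff] at hex
  exact hex y hy

lemma existsUnique_elt {κ : Type*} (Y : κ → D) [HasCoproduct Y]
    [PreservesLimitsOfShape (Discrete κ) H] (y : ∀ k, H.obj (op (Y k))) :
    ∃! z : H.obj (op (∐ Y)), ∀ k, ev H (Sigma.ι Y k) z = y k := by
  have hc : IsColimit (Cofan.mk (∐ Y) (Sigma.ι Y)) := coproductIsCoproduct Y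
  have h1 := isLimitFanMkObjOfIsLimit H _ _ (Cofan.IsColimit.op hc)
  have h2 := isLimitOfPreserves (forget AddCommGrpCat.{v}) h1
  let e := Types.isLimitEquivSections h2
  let s : (Discrete.functor (fun k => H.obj (op (Y k))) ⋙ forget AddCommGrpCat.{v}).sections :=
    ⟨fun j => y j.as, by
      rintro ⟨j⟩ ⟨j'⟩ ⟨⟨h⟩⟩
      obtain rfl : j = j' := h
      simp⟩
  refine ⟨e.symm s, ?_, ?_⟩
  · intro k
    exact Types.isLimitEquivSections_symm_apply h2 s ⟨k⟩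
  · intro z hz
    apply e.injective
    rw [Equiv.apply_symm_apply]
    apply Subtype.ext
    funext ⟨k⟩
    exact hz k

lemma elt_ext {κ' : Type*} (Y : κ' → D) [HasCoproduct Y]
    [PreservesLimitsOfShape (Discrete κ') H] (z z' : H.obj (op (∐ Y)))
    (h : ∀ k, ev H (Sigma.ι Y k) z = ev H (Sigma.ι Y k) z') : z = z' := by
  obtain ⟨w, -, hw⟩ := existsUnique_elt H Y (fun k => ev H (Sigma.ι Y k) z')
  rw [hw z h, hw z' (fun _ => rfl)]

end Basic

section WeakKernel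

/-- the coproduct of the "fibres" of a family of maps is a weak kernel of the coproduct map -/
lemma sigma_weak_kernel {J : Type*} [HasColimitsOfShape (Discrete J) D] {A B : J → D}
    (u : ∀ j, A j ⟶ B j) {P : D} (α : P ⟶ ∐ A) (hα : α ≫ Limits.Sigma.map u = 0) :
    ∃ (C : J → D) (w : ∀ j, C j ⟶ A j) (α' : P ⟶ ∐ C),
      (∀ j, w j ≫ u j = 0) ∧ α = α' ≫ Limits.Sigma.map w := by
  choose C w h hT using fun j => distinguished_cocone_triangle₁ (u j)
  obtain ⟨Z, f₂, f₃, hT'⟩ := distinguished_cocone_triangle (Limits.Sigma.map w)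
  have hψ : ∀ j, ∃ ψ : B j ⟶ Z, u j ≫ ψ = Sigma.ι A j ≫ f₂ := by
    intro j
    obtain ⟨ψ, hψ, -⟩ := Pretriangulated.complete_distinguished_triangle_morphism _ _ (hT j) hT'
      (Sigma.ι C j) (Sigma.ι A j) (by exact (Sigma.ι_map w j).symm)
    exact ⟨ψ, hψ⟩
  choose ψ hψ using hψ
  have h1 : Limits.Sigma.map u ≫ Sigma.desc ψ = f₂ := by
    apply Sigma.hom_ext
    intro j
    simp [hψ]
  have h2 : α ≫ f₂ = 0 := by
    rw [← h1, ← Category.assoc, hα, zero_comp]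
  obtain ⟨α', hα'⟩ := Triangle.coyoneda_exact₂ _ hT' α h2
  exact ⟨C, w, α', fun j => comp_distTriang_mor_zero₁₂ _ (hT j), hα'⟩

end WeakKernel

section Tower

variable (X : ℕ → D) (φ : ∀ n, X n ⟶ X (n+1)) [HasColimitsOfShape (Discrete ℕ) D]

/-- the shift map on the coproduct of a tower -/
noncomputable def sh : ∐ X ⟶ ∐ X := Sigma.desc (fun n => φ n ≫ Sigma.ι X (n+1))

@[reassoc (attr := simp)]
lemma ι_sh (n : ℕ) : Sigma.ι X n ≫ sh X φ = φ n ≫ Sigma.ι X (n+1) := by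
  simp [sh]

/-- the composite `X 0 ⟶ X n` -/
noncomputable def φ0 : ∀ n, X 0 ⟶ X n
  | 0 => 𝟙 _
  | n+1 => φ0 n ≫ φ n

@[simp] lemma φ0_zero : φ0 X φ 0 = 𝟙 _ := rfl
lemma φ0_succ (n : ℕ) : φ0 X φ (n+1) = φ0 X φ n ≫ φ n := rfl

lemma comp_φ0_succ {P : D} (μ : P ⟶ X 0) (hμ : μ ≫ φ 0 = 0) (k : ℕ) :
    μ ≫ φ0 X φ (k+1) = 0 := by
  induction k with
  | zero => simpa [φ0_succ] using hμ
  | succ k ih => rw [φ0_succ, ← Category.assoc, ih, zero_comp]

/-- the shifted tower -/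
abbrev X' : ℕ → D := fun n => X (n+1)

/-- inclusion of the coproduct of the shifted tower -/
noncomputable def σ : ∐ (X' X) ⟶ ∐ X := Sigma.desc (fun n => Sigma.ι X (n+1))

/-- retraction of `σ` -/
noncomputable def ρ : ∐ X ⟶ ∐ (X' X) :=
  Sigma.desc (fun n => Nat.casesOn n 0 (fun m => Sigma.ι (X' X) m))

@[reassoc (attr := simp)]
lemma ι_σ (n : ℕ) : Sigma.ι (X' X) n ≫ σ X = Sigma.ι X (n+1) := by simp [σ]

@[reassoc (attr := simp)]
lemma σ_ρ : σ X ≫ ρ X = 𝟙 _ := by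
  apply Sigma.hom_ext
  intro n
  simp [σ, ρ]

lemma sh_eq : sh X φ = Limits.Sigma.map φ ≫ σ X := by
  apply Sigma.hom_ext
  intro n
  simp

/-- shift on the constant coproduct -/
noncomputable def s₁ (Y : D) : (∐ fun _ : ℕ => Y) ⟶ ∐ fun _ : ℕ => Y :=
  Sigma.desc (fun n => Sigma.ι (fun _ : ℕ => Y) (n+1))

/-- one-sided inverse of `𝟙 - s₁` -/
noncomputable def r₁ (Y : D) : (∐ fun _ : ℕ => Y) ⟶ ∐ fun _ : ℕ => Y :=
  Sigma.desc (fun n => - ∑ k ∈ Finset.range n, Sigma.ι (fun _ : ℕ => Y) k)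

lemma one_sub_s₁_r₁ (Y : D) : (𝟙 _ - s₁ Y) ≫ r₁ Y = 𝟙 _ := by
  apply Sigma.hom_ext
  intro n
  simp [s₁, r₁, Preadditive.sub_comp, Preadditive.comp_sub, Finset.sum_range_succ]

end Tower

section ClaimA

variable (H : Dᵒᵖ ⥤ AddCommGrpCat.{v}) [H.IsHomological]
  [HasColimitsOfShape (Discrete ℕ) D]
  {κ : Type*} (G : κ → D)
  (G2 : ∀ (X : ℕ → D) (i : κ) (α : G i ⟶ ∐ X), ∃ (j : ℕ → κ) (β : ∀ n, G (j n) ⟶ X n)
      (γ : G i ⟶ ∐ (fun n => G (j n))), α = γ ≫ Limits.Sigma.map β)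
  (X : ℕ → D) (φ : ∀ n, X n ⟶ X (n+1)) (a : ∀ n, H.obj (op (X n)))
  (ha : ∀ n, ev H (φ n) (a (n+1)) = a n)
  (P1 : ∀ (i : κ) (b : H.obj (op (G i))), ∃ c : G i ⟶ X 0, ev H c (a 0) = b)
  (P2 : ∀ (n : ℕ) (i : κ) (u : G i ⟶ X n), ev H u (a n) = 0 → u ≫ φ n = 0)

include ha in
lemma ev_φ0 (n : ℕ) : ev H (φ0 X φ n) (a n) = a 0 := by
  induction n with
  | zero => simp [ev_id]
  | succ n ih => rw [φ0_succ, ev_comp, ha, ih]

include ha P1 P2 in
/-- every map from a generator to `X n` agrees after `φ n` with a map through `X 0` -/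
lemma exists_c {i : κ} (n : ℕ) (β : G i ⟶ X n) :
    ∃ c : G i ⟶ X 0, β ≫ φ n = c ≫ φ0 X φ (n+1) := by
  obtain ⟨c, hc⟩ := P1 i (ev H β (a n))
  refine ⟨c, ?_⟩
  have h0 : ev H (β - c ≫ φ0 X φ n) (a n) = 0 := by
    rw [ev_sub_map, ev_comp, ev_φ0 H X φ a ha, hc, sub_self]
  have h1 := P2 n i _ h0
  rw [Preadditive.sub_comp, sub_eq_zero, Category.assoc] at h1
  rw [h1, φ0_succ]

include G2 ha P1 P2 in
/-- Claim A: `𝟙 - sh` is injective on maps from generators -/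
lemma claimA (i : κ) (g : G i ⟶ ∐ X) (hg : g ≫ sh X φ = g) : g = 0 := by
  obtain ⟨j, β, γ, hgβ⟩ := G2 X i g
  choose c hc using fun n => exists_c H G X φ a ha P1 P2 n (β n)
  -- notation
  let V : D := ∐ fun _ : ℕ => X 0
  let T₁ : V ⟶ ∐ (X' X) := Limits.Sigma.map (fun n => φ0 X φ (n+1))
  let v : G i ⟶ V := γ ≫ Limits.Sigma.map c
  let g₁ : G i ⟶ ∐ (X' X) := g ≫ Limits.Sigma.map φ
  have hg₁ : g = g₁ ≫ σ X := by
    rw [Category.assoc, ← sh_eq, hg]
  have hg₁v : g₁ = v ≫ T₁ := by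
    simp only [g₁, v, T₁, hgβ, Category.assoc, Sigma.map_comp_map]
    congr 2
    funext n
    exact hc n
  have hT₁ : T₁ ≫ σ X ≫ Limits.Sigma.map φ = s₁ (X 0) ≫ T₁ := by
    apply Sigma.hom_ext
    intro n
    simp [T₁, s₁, φ0_succ]
  have hu : (v ≫ (𝟙 _ - s₁ (X 0))) ≫ T₁ = 0 := by
    have h1 : g₁ = g₁ ≫ σ X ≫ Limits.Sigma.map φ := by
      conv_lhs => rw [show g₁ = g ≫ Limits.Sigma.map φ from rfl, hg₁]
      simp
    rw [Category.assoc, Preadditive.sub_comp, Category.id_comp, Preadditive.comp_sub, sub_eq_zero,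
      ← hT₁, ← Category.assoc v, ← hg₁v]
    exact h1
  obtain ⟨C, w, α', hw, hα'⟩ := sigma_weak_kernel (fun n => φ0 X φ (n+1)) _ hu
  obtain ⟨j₃, β₃, γ₃, h₃⟩ := G2 C i α'
  have hμ : ∀ n k, (β₃ n ≫ w n) ≫ φ0 X φ (k+1) = 0 := by
    intro n k
    apply comp_φ0_succ
    apply P2 0 (j₃ n)
    have : ev H (β₃ n ≫ w n) (a 0) = ev H ((β₃ n ≫ w n) ≫ φ0 X φ (n+1)) (a (n+1)) := by
      rw [ev_comp H _ (φ0 X φ (n+1)), ev_φ0 H X φ a ha]
    rw [this, Category.assoc, hw, comp_zero, ev_zero_map]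
  have hv : v = (v ≫ (𝟙 _ - s₁ (X 0))) ≫ r₁ (X 0) := by
    rw [Category.assoc, one_sub_s₁_r₁, Category.comp_id]
  have h0 : Limits.Sigma.map (fun n => β₃ n ≫ w n) ≫ r₁ (X 0) ≫ T₁ = 0 := by
    apply Sigma.hom_ext
    intro n
    simp only [Sigma.ι_map_assoc, r₁, Sigma.ι_desc_assoc, comp_zero, T₁, Preadditive.neg_comp,
      Preadditive.comp_neg, Preadditive.sum_comp, Preadditive.comp_sum, Sigma.ι_map, neg_eq_zero]
    apply Finset.sum_eq_zero
    intro k _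
    rw [← Category.assoc, hμ n k, zero_comp]
  have hg₁0 : g₁ = 0 := by
    have h4 : (γ₃ ≫ Limits.Sigma.map β₃) ≫ Limits.Sigma.map w =
        γ₃ ≫ Limits.Sigma.map (fun n => β₃ n ≫ w n) := by
      rw [Category.assoc, Sigma.map_comp_map]
    rw [hg₁v, hv, hα', h₃, h4, Category.assoc, Category.assoc, h0, comp_zero]
  rw [hg₁, hg₁0, zero_comp]

end ClaimA

section Hocolim

variable (H : Dᵒᵖ ⥤ AddCommGrpCat.{v}) [H.IsHomological]
  [HasColimitsOfShape (Discrete ℕ) D] [PreservesLimitsOfShape (Discrete ℕ) H]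
  {κ : Type*} (G : κ → D)
  (G2 : ∀ (X : ℕ → D) (i : κ) (α : G i ⟶ ∐ X), ∃ (j : ℕ → κ) (β : ∀ n, G (j n) ⟶ X n)
      (γ : G i ⟶ ∐ (fun n => G (j n))), α = γ ≫ Limits.Sigma.map β)
  (G3 : ∀ i : κ, ∃ i' : κ, Nonempty ((G i')⟦(1 : ℤ)⟧ ≅ G i))
  (X : ℕ → D) (φ : ∀ n, X n ⟶ X (n+1)) (a : ∀ n, H.obj (op (X n)))
  (ha : ∀ n, ev H (φ n) (a (n+1)) = a n)
  (P1 : ∀ (i : κ) (b : H.obj (op (G i))), ∃ c : G i ⟶ X 0, ev H c (a 0) = b)
  (P2 : ∀ (n : ℕ) (i : κ) (u : G i ⟶ X n), ev H u (a n) = 0 → u ≫ φ n = 0)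
  (Xh : D) (π : ∐ X ⟶ Xh) (δ : Xh ⟶ (∐ X)⟦(1 : ℤ)⟧)
  (hT : Triangle.mk (𝟙 _ - sh X φ) π δ ∈ distTriang D)

include hT in
lemma sh_π : sh X φ ≫ π = π := by
  have h : (𝟙 _ - sh X φ) ≫ π = 0 := comp_distTriang_mor_zero₁₂ _ hT
  rw [Preadditive.sub_comp, Category.id_comp, sub_eq_zero] at h
  exact h.symm

include hT in
lemma ι_π (n : ℕ) : Sigma.ι X n ≫ π = φ n ≫ Sigma.ι X (n+1) ≫ π := by
  conv_lhs => rw [← sh_π X φ Xh π δ hT]
  rw [ι_sh_assoc]

include hT in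
lemma φ0_ι_π (n : ℕ) : φ0 X φ n ≫ Sigma.ι X n ≫ π = Sigma.ι X 0 ≫ π := by
  induction n with
  | zero => simp
  | succ n ih => rw [φ0_succ, Category.assoc, ← ι_π X φ Xh π δ hT, ih]

include ha hT in
lemma exists_ah : ∃ ah : H.obj (op Xh), ∀ n, ev H (Sigma.ι X n ≫ π) ah = a n := by
  obtain ⟨â, hâ, -⟩ := existsUnique_elt H X a
  have h0 : ev H (𝟙 _ - sh X φ) â = 0 := by
    apply elt_ext H X
    intro n
    rw [← ev_comp, ev_zero, Preadditive.comp_sub, Category.comp_id, ι_sh, ev_sub_map, ev_comp,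
      hâ, hâ, ha, sub_self]
  obtain ⟨ah, hah⟩ : ∃ ah : H.obj (op Xh), ev H π ah = â := exists_of_exact H _ hT â h0
  refine ⟨ah, fun n => ?_⟩
  rw [ev_comp, hah, hâ]

variable (ah : H.obj (op Xh)) (hah : ∀ n, ev H (Sigma.ι X n ≫ π) ah = a n)

include P1 hah in
lemma tau_surj (i : κ) (b : H.obj (op (G i))) : ∃ f : G i ⟶ Xh, ev H f ah = b := by
  obtain ⟨c, hc⟩ := P1 i b
  exact ⟨c ≫ Sigma.ι X 0 ≫ π, by rw [ev_comp, hah, hc]⟩

include G2 G3 ha P1 P2 hT in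
lemma factor_π (i : κ) (f : G i ⟶ Xh) : ∃ g₀ : G i ⟶ ∐ X, f = g₀ ≫ π := by
  obtain ⟨i', ⟨e⟩⟩ := G3 i
  suffices h : f ≫ δ = 0 from Triangle.coyoneda_exact₃ _ hT f h
  obtain ⟨g, hg⟩ := (shiftFunctor D (1 : ℤ)).map_surjective (e.hom ≫ f ≫ δ)
  have hg0 : g = 0 := by
    apply claimA H G G2 X φ a ha P1 P2 i' g
    have h1 : g ≫ (𝟙 _ - sh X φ) = 0 := by
      apply (shiftFunctor D (1 : ℤ)).map_injective
      rw [Functor.map_comp, hg, Functor.map_zero, Category.assoc, Category.assoc]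
      have h2 : δ ≫ (shiftFunctor D (1 : ℤ)).map (𝟙 _ - sh X φ) = 0 :=
        comp_distTriang_mor_zero₃₁ _ hT
      rw [h2, comp_zero, comp_zero]
    rw [Preadditive.comp_sub, Category.comp_id, sub_eq_zero] at h1
    exact h1.symm
  rw [hg0, Functor.map_zero] at hg
  have h3 : e.inv ≫ e.hom ≫ f ≫ δ = 0 := by rw [← hg, comp_zero]
  simpa using h3

include G2 G3 ha P1 P2 hT hah in
lemma tau_inj (i : κ) (f : G i ⟶ Xh) (hf : ev H f ah = 0) : f = 0 := by
  obtain ⟨g₀, hg₀⟩ := factor_π H G G2 G3 X φ a ha P1 P2 Xh π δ hT i f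
  obtain ⟨j, β, γ, hβ⟩ := G2 X i g₀
  choose c hc using fun n => exists_c H G X φ a ha P1 P2 n (β n)
  have h1 : Limits.Sigma.map β ≫ π = Sigma.desc c ≫ Sigma.ι X 0 ≫ π := by
    apply Sigma.hom_ext
    intro n
    rw [Sigma.ι_map_assoc, Sigma.ι_desc_assoc, ι_π X φ Xh π δ hT, ← Category.assoc, hc,
      Category.assoc, φ0_ι_π X φ Xh π δ hT]
  have h2 : f = (γ ≫ Sigma.desc c) ≫ Sigma.ι X 0 ≫ π := by
    rw [hg₀, hβ, Category.assoc, h1, Category.assoc]
  have h3 : (γ ≫ Sigma.desc c) ≫ φ 0 = 0 := by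
    apply P2 0 i
    rw [← hah 0, ← ev_comp, ← h2, hf]
  rw [h2, ι_π X φ Xh π δ hT, ← Category.assoc, h3, zero_comp]

end Hocolim

section Stage

variable (H : Dᵒᵖ ⥤ AddCommGrpCat.{v}) [H.IsHomological] [HasCoproducts.{v} D]
  [∀ κ : Type v, PreservesLimitsOfShape (Discrete κ) H]
  {κ : Type v} (G : κ → D)

/-- one step of the tower: kill the kernel of `Hom(G i, Y) → H(G i)` -/
lemma exists_next (Y : D) (y : H.obj (op Y)) :
    ∃ (Y' : D) (y' : H.obj (op Y')) (φ : Y ⟶ Y'), ev H φ y' = y ∧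
      (∀ (i : κ) (u : G i ⟶ Y), ev H u y = 0 → u ≫ φ = 0) ∧
      ∃ (κ' : Type v) (g : κ' → κ) (k : (∐ fun j => G (g j)) ⟶ Y)
        (z : Y' ⟶ (∐ fun j => G (g j))⟦(1 : ℤ)⟧), Triangle.mk k φ z ∈ distTriang D := by
  let Idx : Type v := Σ i : κ, {f : G i ⟶ Y // ev H f y = 0}
  let k : (∐ (fun p : Idx => G p.1)) ⟶ Y := Sigma.desc (fun p => p.2.1)
  obtain ⟨Y', φ, h, hT⟩ := distinguished_cocone_triangle k
  have hk : ev H k y = 0 := by
    apply elt_ext H (fun p : Idx => G p.1)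
    intro p
    rw [← ev_comp, ev_zero, Sigma.ι_desc]
    exact p.2.2
  obtain ⟨y', hy'⟩ : ∃ y' : H.obj (op Y'), ev H φ y' = y := exists_of_exact H _ hT y hk
  refine ⟨Y', y', φ, hy', fun i u hu => ?_, Idx, fun p => p.1, k, h, hT⟩
  have h1 : u = Sigma.ι (fun p : Idx => G p.1) ⟨i, u, hu⟩ ≫ k := by simp [k]
  have h2 : k ≫ φ = 0 := comp_distTriang_mor_zero₁₂ _ hT
  rw [h1, Category.assoc, h2, comp_zero]

/-- a stage of the tower -/
structure Stage where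
  /-- the object -/
  Y : D
  /-- the class -/
  y : H.obj (op Y)

variable {H}

/-- the next stage -/
noncomputable def Stage.next (s : Stage H) : Stage H :=
  ⟨(exists_next H G s.Y s.y).choose, (exists_next H G s.Y s.y).choose_spec.choose⟩

/-- the transition map -/
noncomputable def Stage.φ (s : Stage H) : s.Y ⟶ (s.next G).Y :=
  (exists_next H G s.Y s.y).choose_spec.choose_spec.choose

lemma Stage.ev_φ (s : Stage H) : ev H (s.φ G) (s.next G).y = s.y :=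
  (exists_next H G s.Y s.y).choose_spec.choose_spec.choose_spec.1

lemma Stage.comp_φ (s : Stage H) (i : κ) (u : G i ⟶ s.Y) (hu : ev H u s.y = 0) :
    u ≫ s.φ G = 0 :=
  (exists_next H G s.Y s.y).choose_spec.choose_spec.choose_spec.2.1 i u hu

lemma Stage.tri (s : Stage H) :
    ∃ (κ' : Type v) (g : κ' → κ) (k : (∐ fun j => G (g j)) ⟶ s.Y)
      (z : (s.next G).Y ⟶ (∐ fun j => G (g j))⟦(1 : ℤ)⟧),
      Triangle.mk k (s.φ G) z ∈ distTriang D :=
  (exists_next H G s.Y s.y).choose_spec.choose_spec.choose_spec.2.2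

/-- the tower of stages -/
noncomputable def tower (s₀ : Stage H) : ℕ → Stage H
  | 0 => s₀
  | n+1 => (tower s₀ n).next G

variable (H)

/-- the homotopy colimit of the tower starting at `(X₁, a₁)` carries a class restricting to the
classes of the tower and inducing bijections on maps from the generators -/
theorem main_M' [HasColimitsOfShape (Discrete ℕ) D]
    (G2 : ∀ (X : ℕ → D) (i : κ) (α : G i ⟶ ∐ X), ∃ (j : ℕ → κ) (β : ∀ n, G (j n) ⟶ X n)
      (γ : G i ⟶ ∐ (fun n => G (j n))), α = γ ≫ Limits.Sigma.map β)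
    (G3 : ∀ i : κ, ∃ i' : κ, Nonempty ((G i')⟦(1 : ℤ)⟧ ≅ G i))
    (X₁ : D) (a₁ : H.obj (op X₁))
    (P1 : ∀ (i : κ) (b : H.obj (op (G i))), ∃ c : G i ⟶ X₁, ev H c a₁ = b) :
    ∃ (Xh : D) (π : (∐ fun n => (tower G (⟨X₁, a₁⟩ : Stage H) n).Y) ⟶ Xh)
      (δ : Xh ⟶ (∐ fun n => (tower G (⟨X₁, a₁⟩ : Stage H) n).Y)⟦(1 : ℤ)⟧)
      (ah : H.obj (op Xh)),
      Triangle.mk (𝟙 _ - sh (fun n => (tower G (⟨X₁, a₁⟩ : Stage H) n).Y)
        (fun n => (tower G (⟨X₁, a₁⟩ : Stage H) n).φ G)) π δ ∈ distTriang D ∧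
      (∀ n, ev H (Sigma.ι (fun n => (tower G (⟨X₁, a₁⟩ : Stage H) n).Y) n ≫ π) ah =
        (tower G (⟨X₁, a₁⟩ : Stage H) n).y) ∧
      ∀ i, Function.Bijective (fun f : G i ⟶ Xh => ev H f ah) := by
  have : PreservesLimitsOfShape (Discrete ℕ) H :=
    preservesLimitsOfShape_of_equiv (Discrete.equivalence (Equiv.ulift.{v, 0} (α := ℕ))) H
  let st : ℕ → Stage H := tower G ⟨X₁, a₁⟩
  let X : ℕ → D := fun n => (st n).Y
  let φ : ∀ n, X n ⟶ X (n+1) := fun n => (st n).φ G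
  let a : ∀ n, H.obj (op (X n)) := fun n => (st n).y
  have ha : ∀ n, ev H (φ n) (a (n+1)) = a n := fun n => (st n).ev_φ G
  have P2 : ∀ (n : ℕ) (i : κ) (u : G i ⟶ X n), ev H u (a n) = 0 → u ≫ φ n = 0 :=
    fun n i u hu => (st n).comp_φ G i u hu
  have P1' : ∀ (i : κ) (b : H.obj (op (G i))), ∃ c : G i ⟶ X 0, ev H c (a 0) = b := P1
  obtain ⟨Xh, π, δ, hT⟩ := distinguished_cocone_triangle (𝟙 _ - sh X φ)
  obtain ⟨ah, hah⟩ := exists_ah H X φ a ha Xh π δ hT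
  refine ⟨Xh, π, δ, ah, hT, hah, fun i => ⟨?_, ?_⟩⟩
  · intro f f' hff'
    have h0 : ev H (f - f') ah = 0 := by
      rw [ev_sub_map, sub_eq_zero]
      exact hff'
    have := tau_inj H G G2 G3 X φ a ha P1' P2 Xh π δ hT ah hah i _ h0
    exact sub_eq_zero.mp this
  · intro b
    exact tau_surj H G X a P1' Xh π ah hah i b

theorem main_M [HasColimitsOfShape (Discrete ℕ) D]
    (G2 : ∀ (X : ℕ → D) (i : κ) (α : G i ⟶ ∐ X), ∃ (j : ℕ → κ) (β : ∀ n, G (j n) ⟶ X n)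
      (γ : G i ⟶ ∐ (fun n => G (j n))), α = γ ≫ Limits.Sigma.map β)
    (G3 : ∀ i : κ, ∃ i' : κ, Nonempty ((G i')⟦(1 : ℤ)⟧ ≅ G i))
    (X₁ : D) (a₁ : H.obj (op X₁))
    (P1 : ∀ (i : κ) (b : H.obj (op (G i))), ∃ c : G i ⟶ X₁, ev H c a₁ = b) :
    ∃ (Xh : D) (ah : H.obj (op Xh)) (ι : X₁ ⟶ Xh), ev H ι ah = a₁ ∧
      ∀ i, Function.Bijective (fun f : G i ⟶ Xh => ev H f ah) := by
  obtain ⟨Xh, π, δ, ah, -, hah, hbij⟩ := main_M' H G G2 G3 X₁ a₁ P1
  exact ⟨Xh, ah, Sigma.ι (fun n => (tower G (⟨X₁, a₁⟩ : Stage H) n).Y) 0 ≫ π, hah 0, hbij⟩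

end Stage

section Representable

variable {κ : Type v} (G : κ → D)
  (G1 : ∀ X : D, ¬ IsZero X → ∃ (i : κ) (f : G i ⟶ X), f ≠ 0)
  (G3 : ∀ i : κ, ∃ i' : κ, Nonempty ((G i')⟦(1 : ℤ)⟧ ≅ G i))

include G1 G3 in
/-- a map inducing bijections on maps from the generators is an isomorphism -/
lemma isIso_of_bijective {X X' : D} (φ : X ⟶ X')
    (hφ : ∀ i, Function.Bijective (fun t : G i ⟶ X => t ≫ φ)) : IsIso φ := by
  obtain ⟨C, p, q, hT⟩ := distinguished_cocone_triangle φ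
  have h12 : φ ≫ p = 0 := comp_distTriang_mor_zero₁₂ _ hT
  have h31 : q ≫ (shiftFunctor D (1 : ℤ)).map φ = 0 := comp_distTriang_mor_zero₃₁ _ hT
  have hC : IsZero C := by
    by_contra hC
    obtain ⟨i, t, ht⟩ := G1 C hC
    apply ht
    obtain ⟨i', ⟨e⟩⟩ := G3 i
    have h1 : t ≫ q = 0 := by
      obtain ⟨m, hm⟩ := (shiftFunctor D (1 : ℤ)).map_surjective (e.hom ≫ t ≫ q)
      have h2 : m ≫ φ = 0 := by
        apply (shiftFunctor D (1 : ℤ)).map_injective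
        rw [Functor.map_comp, hm, Functor.map_zero, Category.assoc, Category.assoc, h31,
          comp_zero, comp_zero]
      have hm0 : m = 0 := (hφ i').1 (by simpa using h2)
      rw [hm0, Functor.map_zero] at hm
      have h3 : e.inv ≫ e.hom ≫ t ≫ q = 0 := by rw [← hm, comp_zero]
      simpa using h3
    obtain ⟨t', ht'⟩ : ∃ t' : G i ⟶ X', t = t' ≫ p := Triangle.coyoneda_exact₃ _ hT t h1
    obtain ⟨t'', ht''⟩ := (hφ i).2 t'
    dsimp at ht''
    rw [ht', ← ht'', Category.assoc, h12, comp_zero]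
  exact (Triangle.isZero₃_iff_isIso₁ _ hT).1 hC

variable (H : Dᵒᵖ ⥤ AddCommGrpCat.{v}) [H.IsHomological] [HasCoproducts.{v} D]
  [∀ κ : Type v, PreservesLimitsOfShape (Discrete κ) H]
  [HasColimitsOfShape (Discrete ℕ) D]
  (G2 : ∀ (X : ℕ → D) (i : κ) (α : G i ⟶ ∐ X), ∃ (j : ℕ → κ) (β : ∀ n, G (j n) ⟶ X n)
      (γ : G i ⟶ ∐ (fun n => G (j n))), α = γ ≫ Limits.Sigma.map β)

include G1 G2 G3 in
lemma surj_of_bijective (Xh : D) (ah : H.obj (op Xh))
    (hbij : ∀ i, Function.Bijective (fun f : G i ⟶ Xh => ev H f ah))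
    (W : D) (b : H.obj (op W)) : ∃ g : W ⟶ Xh, ev H g ah = b := by
  let a₁ : H.obj (op (Xh ⊞ W)) := ev H biprod.fst ah + ev H biprod.snd b
  have hinl : ev H biprod.inl a₁ = ah := by
    simp only [a₁, ev_add, ← ev_comp, biprod.inl_fst, biprod.inl_snd, ev_id, ev_zero_map,
      add_zero]
  have hinr : ev H biprod.inr a₁ = b := by
    simp only [a₁, ev_add, ← ev_comp, biprod.inr_fst, biprod.inr_snd, ev_id, ev_zero_map,
      zero_add]
  have P1 : ∀ (i : κ) (b' : H.obj (op (G i))), ∃ c : G i ⟶ Xh ⊞ W, ev H c a₁ = b' := by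
    intro i b'
    obtain ⟨c, hc⟩ := (hbij i).2 b'
    exact ⟨c ≫ biprod.inl, by rw [ev_comp, hinl]; exact hc⟩
  obtain ⟨Xh', ah', ι', hι', hbij'⟩ := main_M H G G2 G3 (Xh ⊞ W) a₁ P1
  have hφ : ev H (biprod.inl ≫ ι') ah' = ah := by rw [ev_comp, hι', hinl]
  have hiso : IsIso (biprod.inl ≫ ι') := by
    apply isIso_of_bijective G G1 G3
    intro i
    have h1 : (fun f : G i ⟶ Xh' => ev H f ah') ∘ (fun t : G i ⟶ Xh => t ≫ biprod.inl ≫ ι') =
        (fun t : G i ⟶ Xh => ev H t ah) := by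
      funext t
      simp only [Function.comp_apply]
      rw [ev_comp, hφ]
    have h2 := hbij i
    rw [← h1] at h2
    exact (Function.Bijective.of_comp_iff' (hbij' i) _).1 h2
  refine ⟨biprod.inr ≫ ι' ≫ inv (biprod.inl ≫ ι'), ?_⟩
  have h3 : ev H (inv (biprod.inl ≫ ι')) ah = ah' := by
    conv_lhs => rw [← hφ]
    rw [← ev_comp, IsIso.inv_hom_id, ev_id]
  rw [ev_comp, ev_comp, h3, hι', hinr]

include G1 G2 G3 in
lemma inj_of_bijective (Xh : D) (ah : H.obj (op Xh))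
    (hbij : ∀ i, Function.Bijective (fun f : G i ⟶ Xh => ev H f ah))
    (W : D) (f : W ⟶ Xh) (hf : ev H f ah = 0) : f = 0 := by
  obtain ⟨C, g, h, hT⟩ := distinguished_cocone_triangle f
  obtain ⟨c, hc⟩ : ∃ c : H.obj (op C), ev H g c = ah := exists_of_exact H _ hT ah hf
  obtain ⟨g', hg'⟩ := surj_of_bijective G G1 G3 H G2 Xh ah hbij C c
  have hψ : ev H (g ≫ g') ah = ah := by rw [ev_comp, hg', hc]
  have hiso : IsIso (g ≫ g') := by
    apply isIso_of_bijective G G1 G3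
    intro i
    have h1 : (fun t : G i ⟶ Xh => t ≫ g ≫ g') = id := by
      funext t
      apply (hbij i).1
      dsimp only
      rw [ev_comp, hψ]
      rfl
    rw [h1]
    exact Function.bijective_id
  have h12 : f ≫ g = 0 := comp_distTriang_mor_zero₁₂ _ hT
  have h2 : f ≫ (g ≫ g') = 0 := by rw [← Category.assoc, h12, zero_comp]
  rw [← cancel_mono (g ≫ g'), h2, zero_comp]

include G1 G2 G3 in
theorem representable_of_generators : (H ⋙ forget AddCommGrpCat.{v}).IsRepresentable := by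
  -- the initial stage
  let Idx : Type v := Σ i : κ, H.obj (op (G i))
  obtain ⟨a₁, ha₁, -⟩ := existsUnique_elt H (fun p : Idx => G p.1) (fun p => p.2)
  have P1 : ∀ (i : κ) (b : H.obj (op (G i))), ∃ c : G i ⟶ ∐ (fun p : Idx => G p.1),
      ev H c a₁ = b := fun i b => ⟨Sigma.ι (fun p : Idx => G p.1) ⟨i, b⟩, ha₁ ⟨i, b⟩⟩
  obtain ⟨Xh, ah, -, -, hbij⟩ := main_M H G G2 G3 _ a₁ P1
  have hb : ∀ W : D, Function.Bijective (fun f : W ⟶ Xh => ev H f ah) := by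
    intro W
    refine ⟨fun f f' hff' => ?_, fun b => surj_of_bijective G G1 G3 H G2 Xh ah hbij W b⟩
    have h0 : ev H (f - f') ah = 0 := by
      rw [ev_sub_map, sub_eq_zero]
      exact hff'
    exact sub_eq_zero.mp (inj_of_bijective G G1 G3 H G2 Xh ah hbij W _ h0)
  exact Functor.RepresentableBy.isRepresentable (Y := Xh)
    { homEquiv := fun {W} => Equiv.ofBijective _ (hb W)
      homEquiv_comp := fun {W W'} f g => ev_comp H f g ah }

end Representable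

section ShiftClosure

/-- transport of the factorization property (2) along a left adjoint whose right adjoint
preserves countable coproducts -/
lemma factor_transport {C : Type*} [Category C] [HasColimitsOfShape (Discrete ℕ) C]
    {S S' : C ⥤ C} (adj : S ⊣ S') [PreservesColimitsOfShape (Discrete ℕ) S]
    [PreservesColimitsOfShape (Discrete ℕ) S'] {κ : Type*} (E : κ → C) (i : κ)
    (h2 : ∀ (X : ℕ → C) (α : E i ⟶ ∐ X), ∃ (j : ℕ → κ) (β : ∀ n, E (j n) ⟶ X n)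
      (γ : E i ⟶ ∐ (fun n => E (j n))), α = γ ≫ Limits.Sigma.map β)
    (X : ℕ → C) (α : S.obj (E i) ⟶ ∐ X) :
    ∃ (j : ℕ → κ) (β : ∀ n, S.obj (E (j n)) ⟶ X n)
      (γ : S.obj (E i) ⟶ ∐ (fun n => S.obj (E (j n)))), α = γ ≫ Limits.Sigma.map β := by
  obtain ⟨j, β₀, γ₀, h⟩ := h2 (fun n => S'.obj (X n))
    (adj.homEquiv _ _ α ≫ (PreservesCoproduct.iso S' X).hom)
  refine ⟨j, fun n => S.map (β₀ n) ≫ adj.counit.app (X n),
    S.map γ₀ ≫ (PreservesCoproduct.iso S (fun n => E (j n))).hom, ?_⟩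
  have h1 : adj.homEquiv _ _ α = γ₀ ≫ Limits.Sigma.map β₀ ≫ sigmaComparison S' X := by
    rw [← PreservesCoproduct.inv_hom, ← Category.assoc, ← h, Category.assoc, Iso.hom_inv_id,
      Category.comp_id]
  have h3 : α = S.map (adj.homEquiv _ _ α) ≫ adj.counit.app _ := by
    rw [Adjunction.homEquiv_unit]
    simp
  rw [h3, h1, Functor.map_comp, Category.assoc, Category.assoc]
  congr 1
  rw [← cancel_epi (PreservesCoproduct.iso S (fun n => E (j n))).inv, Iso.inv_hom_id_assoc,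
    PreservesCoproduct.inv_hom]
  apply Sigma.hom_ext
  intro n
  rw [ι_comp_sigmaComparison_assoc, Sigma.ι_map, ← Functor.map_comp_assoc,
    Sigma.ι_map_assoc, ι_comp_sigmaComparison, Functor.map_comp, Category.assoc, Category.assoc]
  congr 1
  exact adj.counit_naturality (Sigma.ι X n)

variable {ι : Type v} (E : ι → D) [HasColimitsOfShape (Discrete ℕ) D]

/-- the shift-closed family generated by `E` -/
abbrev Ebar : ι × ℤ → D := fun p => (E p.1)⟦p.2⟧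

lemma Ebar_G3 (p : ι × ℤ) : ∃ p' : ι × ℤ, Nonempty ((Ebar E p')⟦(1 : ℤ)⟧ ≅ Ebar E p) :=
  ⟨(p.1, p.2 - 1), ⟨(shiftFunctorAdd' D (p.2 - 1) 1 p.2 (by omega)).symm.app (E p.1)⟩⟩

lemma Ebar_G2
    (h2 : ∀ (X : ℕ → D) (i : ι) (α : E i ⟶ ∐ X), ∃ (j : ℕ → ι) (β : ∀ n, E (j n) ⟶ X n)
      (γ : E i ⟶ ∐ (fun n => E (j n))), α = γ ≫ Limits.Sigma.map β)
    (X : ℕ → D) (p : ι × ℤ) (α : Ebar E p ⟶ ∐ X) :
    ∃ (j : ℕ → ι × ℤ) (β : ∀ n, Ebar E (j n) ⟶ X n)
      (γ : Ebar E p ⟶ ∐ (fun n => Ebar E (j n))), α = γ ≫ Limits.Sigma.map β := by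
  obtain ⟨j, β, γ, h⟩ := factor_transport (shiftEquiv D p.2).toAdjunction E p.1
    (fun X α => h2 X p.1 α) X α
  exact ⟨fun n => (j n, p.2), β, γ, h⟩

end ShiftClosure

section Family

variable {ι : Type v} (E : ι → D) [HasColimitsOfShape (Discrete ℕ) D] [HasCoproducts.{v} D]
  (H : Dᵒᵖ ⥤ AddCommGrpCat.{v}) [H.IsHomological]
  [∀ κ : Type v, PreservesLimitsOfShape (Discrete κ) H]

/-- Brown representability for a family whose shifts detect nonzero objects and which satisfies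
the countable factorization property. -/
theorem representable_of_family
    (h1 : ∀ X : D, ¬ IsZero X → ∃ (i : ι) (k : ℤ) (f : (E i)⟦k⟧ ⟶ X), f ≠ 0)
    (h2 : ∀ (X : ℕ → D) (i : ι) (α : E i ⟶ ∐ X), ∃ (j : ℕ → ι) (β : ∀ n, E (j n) ⟶ X n)
      (γ : E i ⟶ ∐ (fun n => E (j n))), α = γ ≫ Limits.Sigma.map β) :
    (H ⋙ forget AddCommGrpCat.{v}).IsRepresentable :=
  representable_of_generators (Ebar E)
    (fun X hX => by
      obtain ⟨i, k, f, hf⟩ := h1 X hX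
      exact ⟨(i, k), f, hf⟩)
    (Ebar_G3 E) H (Ebar_G2 E h2)

/-- the version with the detection property without shifts -/
theorem representable_of_family'
    (h1 : ∀ X : D, ¬ IsZero X → ∃ (i : ι) (f : E i ⟶ X), f ≠ 0)
    (h2 : ∀ (X : ℕ → D) (i : ι) (α : E i ⟶ ∐ X), ∃ (j : ℕ → ι) (β : ∀ n, E (j n) ⟶ X n)
      (γ : E i ⟶ ∐ (fun n => E (j n))), α = γ ≫ Limits.Sigma.map β) :
    (H ⋙ forget AddCommGrpCat.{v}).IsRepresentable := by
  apply representable_of_family E H _ h2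
  intro X hX
  obtain ⟨i, f, hf⟩ := h1 X hX
  refine ⟨i, 0, (shiftFunctorZero D ℤ).hom.app (E i) ≫ f, fun h0 => hf ?_⟩
  have h3 : (shiftFunctorZero D ℤ).inv.app (E i) ≫ (shiftFunctorZero D ℤ).hom.app (E i) ≫ f = 0 := by
    rw [h0, comp_zero]
  simpa using h3

end Family

end Groth.Agent.Helper3.Brown
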