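import Mathlib
import Groth.Prelude.Def_CohDer
import Groth.Agent.Lib.Helper3.Brown

/-!
# Brown representability: compactly generated case and adjoints (helper3)

`brown_compact`: Brown representability for compactly generated triangulated categories.
`isLeftAdjoint_of_representable`: an exact functor commuting with coproducts is a left adjoint
as soon as Brown representability holds in the source.
-/

set_option autoImplicit false
set_option linter.unusedSectionVars false
universe v u u'

open CategoryTheory CategoryTheory.Limits CategoryTheory.Pretriangulated Opposite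
open CategoryTheory.Pretriangulated.Opposite

namespace Groth.Agent.Helper3.BrownCompact

variable {D : Type u} [Category.{v} D] [Preadditive D]

lemma homSum_of [HasCoproducts.{v} D] (K : D) {κ : Type v} (X : κ → D)
    [inst : DecidableEq κ] (k : κ) (f : K ⟶ X k) :
    CohDer.homSumToHomCoprod K X (DirectSum.of (fun i => K ⟶ X i) k f) = f ≫ Sigma.ι X k := by
  unfold CohDer.homSumToHomCoprod
  have h : inst = (fun a b => Classical.propDecidable (a = b)) :=
    Subsingleton.elim _ _
  subst h
  classical
  erw [DirectSum.toAddMonoid_of]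
  rfl

lemma compact_h2 [HasCoproducts.{v} D] [HasColimitsOfShape (Discrete ℕ) D] {K : D}
    (hK : CohDer.IsCompactObject K) (X : ℕ → D) (α : K ⟶ ∐ X) :
    ∃ (β : ∀ n, K ⟶ X n) (γ : K ⟶ ∐ (fun _ : ℕ => K)), α = γ ≫ Limits.Sigma.map β := by
  classical
  let X' : ULift.{v} ℕ → D := fun m => X m.down
  let r : ∐ X ⟶ ∐ X' := Sigma.desc (fun n => Sigma.ι X' ⟨n⟩)
  let r' : ∐ X' ⟶ ∐ X := Sigma.desc (fun m => Sigma.ι X m.down)
  have hrr' : r ≫ r' = 𝟙 _ := by
    apply Sigma.hom_ext
    intro n
    simp [r, r', X']
  obtain ⟨x, hx⟩ := (hK (ULift.{v} ℕ) X').2 (α ≫ r)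
  refine ⟨fun n => x ⟨n⟩, ∑ m ∈ x.support, Sigma.ι (fun _ : ℕ => K) m.down, ?_⟩
  have h1 : α = CohDer.homSumToHomCoprod K X' x ≫ r' := by
    rw [hx, Category.assoc, hrr', Category.comp_id]
  rw [h1]
  conv_lhs => rw [← DirectSum.sum_support_of x, map_sum]
  rw [Preadditive.sum_comp, Preadditive.sum_comp]
  apply Finset.sum_congr rfl
  intro m _
  rw [homSum_of]
  simp [r', X']

variable [HasZeroObject D] [HasShift D ℤ]
  [∀ n : ℤ, (shiftFunctor D n).Additive] [Pretriangulated D]

/-- Brown representability for compactly generated triangulated categories -/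
theorem brown_compact [HasCoproducts.{v} D] (hD : CohDer.IsCompactlyGenerated D)
    (H : Dᵒᵖ ⥤ AddCommGrpCat.{v}) [H.IsHomological]
    [∀ (κ : Type v), PreservesLimitsOfShape (Discrete κ) H] :
    (H ⋙ forget AddCommGrpCat.{v}).IsRepresentable := by
  obtain ⟨ι, E, hE, hgen⟩ := hD
  have : HasColimitsOfShape (Discrete ℕ) D :=
    hasColimitsOfShape_of_equivalence (Discrete.equivalence (Equiv.ulift.{v, 0} (α := ℕ)))
  apply Brown.representable_of_family E H
  · intro X hX
    by_contra hcon
    push Not at hcon
    apply hX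
    apply hgen
    intro i n f
    have h0 := hcon i (-n) ((shiftFunctor D (-n)).map f ≫
      (shiftFunctorCompIsoId D n (-n) (by omega)).hom.app X)
    have h1 : (shiftFunctor D (-n)).map f = 0 := by
      have h2 : ((shiftFunctor D (-n)).map f ≫
        (shiftFunctorCompIsoId D n (-n) (by omega)).hom.app X) ≫
          (shiftFunctorCompIsoId D n (-n) (by omega)).inv.app X = 0 := by
        rw [h0, zero_comp]
      simpa using h2
    exact (shiftFunctor D (-n)).map_injective (by rw [h1, Functor.map_zero])
  · intro X i α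
    obtain ⟨β, γ, h⟩ := compact_h2 (hE i) X α
    exact ⟨fun _ => i, β, γ, h⟩

/-- an exact functor commuting with coproducts out of a category in which Brown representability
holds is a left adjoint -/
theorem isLeftAdjoint_of_representable {D' : Type u'} [Category.{v} D'] [Preadditive D']
    [HasZeroObject D'] [HasShift D' ℤ] [∀ n : ℤ, (shiftFunctor D' n).Additive] [Pretriangulated D']
    (F : D ⥤ D') [F.CommShift ℤ] [F.IsTriangulated]
    [∀ (κ : Type v), PreservesColimitsOfShape (Discrete κ) F]
    (hrep : ∀ (H : Dᵒᵖ ⥤ AddCommGrpCat.{v}) [H.IsHomological]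
      [∀ (κ : Type v), PreservesLimitsOfShape (Discrete κ) H],
      (H ⋙ forget AddCommGrpCat.{v}).IsRepresentable) : F.IsLeftAdjoint := by
  apply Functor.isLeftAdjoint_of_rightAdjointObjIsDefined_eq_top
  ext Y
  simp only [Pi.top_apply, Prop.top_eq_true, iff_true]
  rw [Functor.rightAdjointObjIsDefined_iff]
  have hlim : ∀ (κ : Type v), PreservesLimitsOfShape (Discrete κ) F.op := by
    intro κ
    have : PreservesColimitsOfShape (Discrete κ)ᵒᵖ F :=
      preservesColimitsOfShape_of_equiv (Discrete.opposite κ).symm F
    exact preservesLimitsOfShape_op (Discrete κ) F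
  have hlim' : ∀ (κ : Type v), PreservesLimitsOfShape (Discrete κ)
      (F.op ⋙ preadditiveYoneda.obj Y) := fun κ => inferInstance
  exact hrep (F.op ⋙ preadditiveYoneda.obj Y)

end Groth.Agent.Helper3.BrownCompact
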