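import Mathlib
import Groth.Prelude.Def_CohDer
import Groth.Agent.Lib.Helper3.BrownCompact

/-!
# Compact objects in triangulated categories (helper3)

`isCompact_iff`: compactness means that maps into coproducts factor through finite subsums.
Compact objects are closed under isomorphisms, shifts and extensions (`compactProp` is a
triangulated subcategory).
-/

set_option autoImplicit false
set_option linter.unusedSectionVars false
universe v u

open CategoryTheory CategoryTheory.Limits CategoryTheory.Pretriangulated Opposite ZeroObject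

namespace Groth.Agent.Helper3.Compact

open Groth.Agent.Helper3.BrownCompact

variable {D : Type u} [Category.{v} D] [Preadditive D]

section Basic

variable [HasCoproducts.{v} D]

lemma homSum_eq_sum (K : D) {κ : Type v} (X : κ → D) [DecidableEq κ]
    [∀ k (x : K ⟶ X k), Decidable (x ≠ 0)] (x : DirectSum κ (fun k => K ⟶ X k)) :
    CohDer.homSumToHomCoprod K X x = ∑ k ∈ x.support, x k ≫ Sigma.ι X k := by
  conv_lhs => rw [← DirectSum.sum_support_of x, map_sum]
  apply Finset.sum_congr rfl
  intro k _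
  rw [homSum_of]

lemma homSum_π (K : D) {κ : Type v} (X : κ → D) [DecidableEq κ]
    (x : DirectSum κ (fun k => K ⟶ X k)) (k : κ) :
    CohDer.homSumToHomCoprod K X x ≫ Sigma.π X k = x k := by
  classical
  rw [homSum_eq_sum, Preadditive.sum_comp]
  by_cases hk : k ∈ x.support
  · rw [Finset.sum_eq_single k]
    · simp
    · intro j _ hj
      rw [Category.assoc, Sigma.ι_π_of_ne _ hj, comp_zero]
    · intro h
      exact absurd hk h
  · rw [Finset.sum_eq_zero]
    · simp only [DFinsupp.mem_support_toFun, ne_eq, not_not] at hk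
      exact hk.symm
    · intro j hj
      have : j ≠ k := fun h => hk (h ▸ hj)
      rw [Category.assoc, Sigma.ι_π_of_ne _ this, comp_zero]

/-- compactness in terms of factorization through finite subsums -/
lemma isCompact_iff (K : D) : CohDer.IsCompactObject K ↔
    ∀ (κ : Type v) (X : κ → D) (f : K ⟶ ∐ X), ∃ (S : Finset κ) (g : ∀ k, K ⟶ X k),
      f = ∑ k ∈ S, g k ≫ Sigma.ι X k := by
  classical
  constructor
  · intro hK κ X f
    obtain ⟨x, hx⟩ := (hK κ X).2 f
    exact ⟨x.support, fun k => x k, by rw [← hx, homSum_eq_sum]⟩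
  · intro h κ X
    constructor
    · rw [injective_iff_map_eq_zero]
      intro x hx
      apply DFinsupp.ext
      intro k
      rw [← homSum_π K X x k, hx, zero_comp]
      rfl
    · intro f
      obtain ⟨S, g, hg⟩ := h κ X f
      refine ⟨∑ k ∈ S, DirectSum.of (fun k => K ⟶ X k) k (g k), ?_⟩
      rw [map_sum, hg]
      apply Finset.sum_congr rfl
      intro k _
      rw [homSum_of]

/-- the maps factoring through a finite subsum -/
def FinSupp (K : D) {κ : Type v} (X : κ → D) (f : K ⟶ ∐ X) : Prop :=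
  f ∈ AddMonoidHom.range (CohDer.homSumToHomCoprod K X)

lemma finSupp_iff (K : D) {κ : Type v} (X : κ → D) (f : K ⟶ ∐ X) :
    FinSupp K X f ↔ ∃ (S : Finset κ) (g : ∀ k, K ⟶ X k), f = ∑ k ∈ S, g k ≫ Sigma.ι X k := by
  classical
  constructor
  · rintro ⟨x, hx⟩
    exact ⟨x.support, fun k => x k, by rw [← hx, homSum_eq_sum]⟩
  · rintro ⟨S, g, hg⟩
    refine ⟨∑ k ∈ S, DirectSum.of (fun k => K ⟶ X k) k (g k), ?_⟩
    rw [map_sum, hg]
    apply Finset.sum_congr rfl
    intro k _
    rw [homSum_of]

lemma FinSupp.add {K : D} {κ : Type v} {X : κ → D} {f f' : K ⟶ ∐ X}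
    (h : FinSupp K X f) (h' : FinSupp K X f') : FinSupp K X (f + f') :=
  AddSubgroup.add_mem _ h h'

lemma FinSupp.comp {K K' : D} {κ : Type v} {X : κ → D} {f : K ⟶ ∐ X}
    (h : FinSupp K X f) (u : K' ⟶ K) : FinSupp K' X (u ≫ f) := by
  rw [finSupp_iff] at h ⊢
  obtain ⟨S, g, hg⟩ := h
  refine ⟨S, fun k => u ≫ g k, ?_⟩
  rw [hg, Preadditive.comp_sum]
  apply Finset.sum_congr rfl
  intro k _
  rw [Category.assoc]

lemma isCompact_iff' (K : D) : CohDer.IsCompactObject K ↔
    ∀ (κ : Type v) (X : κ → D) (f : K ⟶ ∐ X), FinSupp K X f := by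
  rw [isCompact_iff]
  simp only [finSupp_iff]

lemma compact_of_isZero {K : D} (hK : IsZero K) : CohDer.IsCompactObject K := by
  rw [isCompact_iff]
  intro κ X f
  exact ⟨∅, fun k => 0, by simpa using hK.eq_of_src f 0⟩

lemma compact_of_iso {K K' : D} (e : K ≅ K') (hK : CohDer.IsCompactObject K) :
    CohDer.IsCompactObject K' := by
  rw [isCompact_iff] at hK ⊢
  intro κ X f
  obtain ⟨S, g, hg⟩ := hK κ X (e.hom ≫ f)
  refine ⟨S, fun k => e.inv ≫ g k, ?_⟩
  have : f = e.inv ≫ e.hom ≫ f := by simp
  rw [this, hg, Preadditive.comp_sum]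
  apply Finset.sum_congr rfl
  intro k _
  rw [Category.assoc]

/-- a left adjoint whose right adjoint preserves coproducts preserves compact objects -/
lemma compact_of_adj {S S' : D ⥤ D} (adj : S ⊣ S') [S.Additive]
    [∀ κ : Type v, PreservesColimitsOfShape (Discrete κ) S'] {K : D}
    (hK : CohDer.IsCompactObject K) : CohDer.IsCompactObject (S.obj K) := by
  rw [isCompact_iff] at hK ⊢
  intro κ X f
  obtain ⟨T, g, hg⟩ := hK κ (fun k => S'.obj (X k))
    (adj.homEquiv _ _ f ≫ (PreservesCoproduct.iso S' X).hom)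
  refine ⟨T, fun k => S.map (g k) ≫ adj.counit.app (X k), ?_⟩
  have h1 : adj.homEquiv _ _ f = ∑ k ∈ T, g k ≫ S'.map (Sigma.ι X k) := by
    have : adj.homEquiv _ _ f = (adj.homEquiv _ _ f ≫ (PreservesCoproduct.iso S' X).hom) ≫
        sigmaComparison S' X := by
      rw [← PreservesCoproduct.inv_hom, Category.assoc, Iso.hom_inv_id, Category.comp_id]
    rw [this, hg, Preadditive.sum_comp]
    apply Finset.sum_congr rfl
    intro k _
    rw [Category.assoc, ι_comp_sigmaComparison]
  have h3 : f = S.map (adj.homEquiv _ _ f) ≫ adj.counit.app _ := by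
    rw [Adjunction.homEquiv_unit]
    simp
  rw [h3, h1, Functor.map_sum, Preadditive.sum_comp]
  apply Finset.sum_congr rfl
  intro k _
  rw [Functor.map_comp, Category.assoc, Category.assoc]
  congr 1
  exact adj.counit_naturality (Sigma.ι X k)

end Basic

section Triang

variable [HasZeroObject D] [HasShift D ℤ] [∀ n : ℤ, (shiftFunctor D n).Additive]
  [Pretriangulated D] [HasCoproducts.{v} D]

lemma compact_shift {K : D} (hK : CohDer.IsCompactObject K) (n : ℤ) :
    CohDer.IsCompactObject (K⟦n⟧) := by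
  have : (shiftEquiv D n).functor.Additive := inferInstanceAs (shiftFunctor D n).Additive
  exact compact_of_adj (shiftEquiv D n).toAdjunction hK

lemma compact_ext (T : Triangle D) (hT : T ∈ distTriang D)
    (h₁ : CohDer.IsCompactObject T.obj₁) (h₃ : CohDer.IsCompactObject T.obj₃) :
    CohDer.IsCompactObject T.obj₂ := by
  classical
  rw [isCompact_iff'] at h₃ ⊢
  rw [isCompact_iff] at h₁
  intro κ X f
  obtain ⟨S, g, hg⟩ := h₁ κ X (T.mor₁ ≫ f)
  -- the truncation of `f` to `S`
  let fS : T.obj₂ ⟶ ∐ X := ∑ k ∈ S, (f ≫ Sigma.π X k) ≫ Sigma.ι X k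
  have hfS : FinSupp T.obj₂ X fS := (finSupp_iff _ _ _).2 ⟨S, _, rfl⟩
  have h1 : T.mor₁ ≫ fS = T.mor₁ ≫ f := by
    have hgk : ∀ k ∈ S, (T.mor₁ ≫ f) ≫ Sigma.π X k = g k := by
      intro k hk
      rw [hg, Preadditive.sum_comp, Finset.sum_eq_single k]
      · simp
      · intro j _ hj
        rw [Category.assoc, Sigma.ι_π_of_ne _ hj, comp_zero]
      · intro h
        exact absurd hk h
    rw [Preadditive.comp_sum]
    conv_rhs => rw [hg]
    apply Finset.sum_congr rfl
    intro k hk
    rw [← Category.assoc, ← Category.assoc, hgk k hk]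
  have h2 : T.mor₁ ≫ (f - fS) = 0 := by
    rw [Preadditive.comp_sub, h1, sub_self]
  obtain ⟨f'', hf''⟩ := Triangle.yoneda_exact₂ T hT (f - fS) h2
  have h3 : f = fS + T.mor₂ ≫ f'' := by rw [← hf'']; abel
  rw [h3]
  exact hfS.add ((h₃ κ X f'').comp T.mor₂)

/-- the property of being compact -/
abbrev compactProp : ObjectProperty D := fun K => CohDer.IsCompactObject K

instance : (compactProp (D := D)).IsClosedUnderIsomorphisms where
  of_iso e h := compact_of_iso e h

instance : (compactProp (D := D)).IsTriangulated where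
  exists_zero := ⟨(0 : D), isZero_zero D, compact_of_isZero (isZero_zero D)⟩
  isStableUnderShiftBy n := ObjectProperty.IsStableUnderShiftBy.mk (fun _ hK => compact_shift hK n)
  ext₂' T hT h₁ h₃ := ObjectProperty.le_isoClosure _ _ (compact_ext T hT h₁ h₃)

end Triang

end Groth.Agent.Helper3.Compact
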