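import Mathlib
import Groth.Prelude.Def_CohDer

set_option autoImplicit false
set_option linter.unusedSectionVars false
universe v u

open CategoryTheory CategoryTheory.Limits CategoryTheory.Pretriangulated

namespace Groth.Agent.Helper3.NatCompact

section Proj

variable {D : Type u} [Category.{v} D] [Preadditive D] {E : ℕ → D} {X : D} (ι : ∀ n, E n ⟶ X)
  (hc : IsColimit (Cofan.mk X ι))

/-- projections from a countable coproduct -/
noncomputable def proj (n : ℕ) : X ⟶ E n :=
  Cofan.IsColimit.desc hc (fun m => if h : m = n then eqToHom (by rw [h]) else 0)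

lemma inj_proj (m n : ℕ) :
    ι m ≫ proj ι hc n = if h : m = n then eqToHom (by rw [h]) else 0 :=
  Cofan.IsColimit.fac hc _ m

lemma inj_proj_self (n : ℕ) : ι n ≫ proj ι hc n = 𝟙 _ := by
  rw [inj_proj, dif_pos rfl]
  rfl

lemma inj_proj_ne {m n : ℕ} (h : m ≠ n) : ι m ≫ proj ι hc n = 0 := by
  rw [inj_proj, dif_neg h]

include hc in
lemma hom_ext {W : D} (a b : X ⟶ W) (h : ∀ n, ι n ≫ a = ι n ≫ b) : a = b :=
  Cofan.IsColimit.hom_ext hc _ _ h

end Proj

section NatFin

variable {D : Type u} [Category.{v} D] [Preadditive D]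

/-- maps from `P` into countable coproducts have finite support -/
def NatFin (P : D) : Prop :=
  ∀ (E : ℕ → D) (X : D) (ι : ∀ n, E n ⟶ X) (_ : IsColimit (Cofan.mk X ι)) (g : P ⟶ X),
    ∃ (S : Finset ℕ) (x : ∀ n, P ⟶ E n), g = ∑ n ∈ S, x n ≫ ι n

variable {P : D} (hP : NatFin P) {E : ℕ → D} {X : D} (ι : ∀ n, E n ⟶ X)
  (hc : IsColimit (Cofan.mk X ι))

include hP in
lemma NatFin.eq_sum_proj (g : P ⟶ X) :
    ∃ S : Finset ℕ, g = ∑ n ∈ S, (g ≫ proj ι hc n) ≫ ι n ∧ ∀ n, n ∉ S → g ≫ proj ι hc n = 0 := by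
  obtain ⟨S, x, hx⟩ := hP E X ι hc g
  have h1 : ∀ k, g ≫ proj ι hc k = if k ∈ S then x k else 0 := by
    intro k
    rw [hx, Preadditive.sum_comp]
    by_cases hk : k ∈ S
    · rw [if_pos hk, Finset.sum_eq_single k]
      · rw [Category.assoc, inj_proj_self, Category.comp_id]
      · intro m _ hm
        rw [Category.assoc, inj_proj_ne ι hc hm, comp_zero]
      · intro h
        exact absurd hk h
    · rw [if_neg hk]
      apply Finset.sum_eq_zero
      intro m hm
      have : m ≠ k := fun e => hk (e ▸ hm)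
      rw [Category.assoc, inj_proj_ne ι hc this, comp_zero]
  refine ⟨S, ?_, fun n hn => by rw [h1, if_neg hn]⟩
  conv_lhs => rw [hx]
  apply Finset.sum_congr rfl
  intro n hn
  rw [h1, if_pos hn]

variable (f : ∀ n, E n ⟶ E (n + 1)) (d : X ⟶ X) (hd : ∀ n, ι n ≫ d = ι n - f n ≫ ι (n + 1))

include hd in
lemma d_proj_zero : d ≫ proj ι hc 0 = proj ι hc 0 := by
  apply hom_ext ι hc
  intro n
  rw [← Category.assoc, hd, Preadditive.sub_comp, Category.assoc,
    inj_proj_ne ι hc (Nat.succ_ne_zero n), comp_zero, sub_zero]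

include hd in
lemma d_proj_succ (k : ℕ) : d ≫ proj ι hc (k + 1) = proj ι hc (k + 1) - proj ι hc k ≫ f k := by
  apply hom_ext ι hc
  intro n
  rw [← Category.assoc, hd, Preadditive.sub_comp, Preadditive.comp_sub, Category.assoc]
  congr 1
  by_cases h : n = k
  · subst h
    rw [inj_proj_self, Category.comp_id, ← Category.assoc, inj_proj_self, Category.id_comp]
  · have h' : n + 1 ≠ k + 1 := fun h' => h (Nat.succ_injective h')
    rw [inj_proj_ne ι hc h', comp_zero, ← Category.assoc, inj_proj_ne ι hc h, zero_comp]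

include hP hd hc in
/-- `𝟙 - shift` is injective on maps from `P` -/
lemma d_injective (g : P ⟶ X) (hg : g ≫ d = 0) : g = 0 := by
  have h0 : ∀ k, g ≫ proj ι hc k = 0 := by
    intro k
    induction k with
    | zero =>
      rw [← d_proj_zero ι hc f d hd, ← Category.assoc, hg, zero_comp]
    | succ k ih =>
      have h1 : g ≫ d ≫ proj ι hc (k + 1) = 0 := by rw [← Category.assoc, hg, zero_comp]
      rw [d_proj_succ ι hc f d hd, Preadditive.comp_sub, ← Category.assoc g, ih, zero_comp,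
        sub_zero] at h1
      exact h1
  obtain ⟨S, hS, -⟩ := hP.eq_sum_proj ι hc g
  rw [hS]
  apply Finset.sum_eq_zero
  intro n _
  rw [h0, zero_comp]

end NatFin

section Hocolim

variable {D : Type u} [Category.{v} D] [Preadditive D] [HasZeroObject D] [HasShift D ℤ]
  [∀ n : ℤ, (shiftFunctor D n).Additive] [Pretriangulated D]
  {P : D} (hP : NatFin P) (F : ℕ ⥤ D) {X : D} (ι : ∀ n, F.obj n ⟶ X)
  (hc : IsColimit (Cofan.mk X ι)) (d : X ⟶ X)
  (hd : ∀ n, ι n ≫ d = ι n - F.map (homOfLE (Nat.le_succ n)) ≫ ι (n + 1))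
  {L : D} (π : X ⟶ L) (δ : L ⟶ X⟦(1 : ℤ)⟧) (hT : Triangle.mk d π δ ∈ distTriang D)

include hd hT in
lemma i_eq (n : ℕ) : ι n ≫ π = F.map (homOfLE (Nat.le_succ n)) ≫ ι (n + 1) ≫ π := by
  have h : d ≫ π = 0 := comp_distTriang_mor_zero₁₂ _ hT
  have h2 : ι n ≫ d ≫ π = 0 := by rw [h, comp_zero]
  rw [← Category.assoc, hd, Preadditive.sub_comp, sub_eq_zero, Category.assoc] at h2
  exact h2

include hd hT in
lemma exists_factor_range {W : D} (N : ℕ) (a : ∀ n, W ⟶ F.obj n) :
    ∃ u : W ⟶ F.obj N, u ≫ ι N ≫ π = ∑ n ∈ Finset.range (N + 1), a n ≫ ι n ≫ π := by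
  induction N with
  | zero => exact ⟨a 0, by simp⟩
  | succ N ih =>
    obtain ⟨u, hu⟩ := ih
    refine ⟨u ≫ F.map (homOfLE (Nat.le_succ N)) + a (N + 1), ?_⟩
    rw [Finset.sum_range_succ, ← hu, Preadditive.add_comp, Category.assoc,
      ← i_eq F ι d hd π δ hT N]

include hP hc hd hT in
/-- a map from `P` to the homotopy colimit factors through a finite stage -/
lemma exists_factor (φ : P ⟶ L) : ∃ (N : ℕ) (u : P ⟶ F.obj N), u ≫ ι N ≫ π = φ := by
  classical
  have pres : PreservesColimit (Discrete.functor (fun n => F.obj n)) (shiftFunctor D (1 : ℤ)) :=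
    ((shiftEquiv D (1 : ℤ)).toAdjunction.leftAdjoint_preservesColimits).preservesColimitsOfShape.preservesColimit
  have hc1 : IsColimit (Cofan.mk ((shiftFunctor D (1 : ℤ)).obj X)
      (fun n => (shiftFunctor D (1 : ℤ)).map (ι n))) :=
    isColimitCofanMkObjOfIsColimit (shiftFunctor D (1 : ℤ)) _ ι hc
  have h1 : φ ≫ δ = 0 := by
    refine d_injective hP (E := fun n => (shiftFunctor D (1 : ℤ)).obj (F.obj n))
      (fun n => (shiftFunctor D (1 : ℤ)).map (ι n)) hc1
      (fun n => (shiftFunctor D (1 : ℤ)).map (F.map (homOfLE (Nat.le_succ n))))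
      ((shiftFunctor D (1 : ℤ)).map d) ?_ (φ ≫ δ) ?_
    · intro n
      rw [← Functor.map_comp, hd, Functor.map_sub, Functor.map_comp]
    · have h3 : δ ≫ (shiftFunctor D (1 : ℤ)).map d = 0 := comp_distTriang_mor_zero₃₁ _ hT
      rw [Category.assoc, h3, comp_zero]
  obtain ⟨σ, hσ⟩ : ∃ σ : P ⟶ X, φ = σ ≫ π := Triangle.coyoneda_exact₃ _ hT φ h1
  obtain ⟨S, x, hx⟩ := hP _ X ι hc σ
  let N := S.sup id
  obtain ⟨u, hu⟩ := exists_factor_range F ι d hd π δ hT N (fun n => if n ∈ S then x n else 0)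
  refine ⟨N, u, ?_⟩
  rw [hu, hσ, hx, Preadditive.sum_comp]
  have hsub : S ⊆ Finset.range (N + 1) := by
    intro n hn
    rw [Finset.mem_range]
    exact Nat.lt_succ_of_le (Finset.le_sup (f := id) hn)
  rw [← Finset.sum_subset hsub]
  · apply Finset.sum_congr rfl
    intro n hn
    rw [if_pos hn, Category.assoc]
  · intro n _ hn
    rw [if_neg hn, zero_comp]

include hP hc hd hT in
/-- a map from `P` to a finite stage which dies in the homotopy colimit dies at a later stage -/
lemma exists_vanish (n : ℕ) (y : P ⟶ F.obj n) (hy : y ≫ ι n ≫ π = 0) :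
    ∃ (m : ℕ) (h : n ≤ m), y ≫ F.map (homOfLE h) = 0 := by
  obtain ⟨z, hz⟩ : ∃ z : P ⟶ X, y ≫ ι n = z ≫ d :=
    Triangle.coyoneda_exact₂ _ hT (y ≫ ι n) (by rw [Category.assoc]; exact hy)
  obtain ⟨S, -, hS⟩ := hP.eq_sum_proj ι hc z
  have rec0 : z ≫ proj ι hc 0 = (y ≫ ι n) ≫ proj ι hc 0 := by
    rw [hz, Category.assoc, d_proj_zero ι hc _ d hd]
  have recS : ∀ k, z ≫ proj ι hc (k + 1) = (y ≫ ι n) ≫ proj ι hc (k + 1) +
      (z ≫ proj ι hc k) ≫ F.map (homOfLE (Nat.le_succ k)) := by
    intro k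
    rw [hz, Category.assoc, d_proj_succ ι hc _ d hd, Preadditive.comp_sub, Category.assoc]
    abel
  have c1 : ∀ k, k < n → z ≫ proj ι hc k = 0 := by
    intro k
    induction k with
    | zero =>
      intro hk
      rw [rec0, Category.assoc, inj_proj_ne ι hc (Nat.pos_iff_ne_zero.1 hk), comp_zero]
    | succ k ih =>
      intro hk
      rw [recS, ih (Nat.lt_of_succ_lt hk), zero_comp, add_zero, Category.assoc,
        inj_proj_ne ι hc (Nat.ne_of_gt hk), comp_zero]
  have c2 : z ≫ proj ι hc n = y := by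
    cases n with
    | zero => rw [rec0, Category.assoc, inj_proj_self, Category.comp_id]
    | succ n' =>
      rw [recS, c1 n' (Nat.lt_succ_self n'), zero_comp, add_zero, Category.assoc, inj_proj_self,
        Category.comp_id]
  have c3 : ∀ t, z ≫ proj ι hc (n + t) = y ≫ F.map (homOfLE (Nat.le_add_right n t)) := by
    intro t
    induction t with
    | zero =>
      have : homOfLE (Nat.le_add_right n 0) = 𝟙 n := Subsingleton.elim _ _
      rw [this, F.map_id, Category.comp_id]
      exact c2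
    | succ t ih =>
      have h1 : z ≫ proj ι hc (n + (t + 1)) = (y ≫ ι n) ≫ proj ι hc (n + t + 1) +
          (z ≫ proj ι hc (n + t)) ≫ F.map (homOfLE (Nat.le_succ (n + t))) := recS (n + t)
      rw [h1, ih, Category.assoc y, inj_proj_ne ι hc (by omega), comp_zero, zero_add,
        Category.assoc, ← F.map_comp]
      rfl
  refine ⟨n + (S.sup id + 1), Nat.le_add_right _ _, ?_⟩
  rw [← c3]
  apply hS
  intro hmem
  have := Finset.le_sup (f := id) hmem
  simp only [id] at this
  omega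

end Hocolim

section FromCompact

variable {D : Type u} [Category.{v} D] [Preadditive D]

lemma homSum_of' (K : D) {κ : Type v} (X : κ → D) [HasCoproduct X]
    [inst : DecidableEq κ] (k : κ) (f : K ⟶ X k) :
    CohDer.homSumToHomCoprod K X (DirectSum.of (fun i => K ⟶ X i) k f) = f ≫ Sigma.ι X k := by
  unfold CohDer.homSumToHomCoprod
  have h : inst = (fun a b => Classical.propDecidable (a = b)) :=
    Subsingleton.elim _ _
  subst h
  classical
  erw [DirectSum.toAddMonoid_of]
  rfl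

lemma homSum_eq_sum' (K : D) {κ : Type v} (X : κ → D) [HasCoproduct X] [DecidableEq κ]
    [∀ k (x : K ⟶ X k), Decidable (x ≠ 0)] (x : DirectSum κ (fun k => K ⟶ X k)) :
    CohDer.homSumToHomCoprod K X x = ∑ k ∈ x.support, x k ≫ Sigma.ι X k := by
  conv_lhs => rw [← DirectSum.sum_support_of x, map_sum]
  apply Finset.sum_congr rfl
  intro k _
  rw [homSum_of']

theorem natFin_of_surjective (K : D)
    (hK : ∀ (E : ℕ → D) [HasCoproduct fun i : ULift.{v} ℕ => E i.down],
      Function.Surjective (CohDer.homSumToHomCoprod K (fun i : ULift.{v} ℕ => E i.down))) :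
    NatFin K := by
  classical
  intro E X ι hc g
  let E' : ULift.{v} ℕ → D := fun i => E i.down
  let c' : Cofan E' := Cofan.mk X (fun i => ι i.down)
  have hc' : IsColimit c' := Cofan.IsColimit.mk _
    (fun t => Cofan.IsColimit.desc hc (fun n => t.inj ⟨n⟩))
    (fun t i => Cofan.IsColimit.fac hc _ i.down)
    (fun t m hm => Cofan.IsColimit.hom_ext hc _ _ (fun n => by
      rw [Cofan.IsColimit.fac]
      exact hm ⟨n⟩))
  have : HasCoproduct E' := ⟨⟨⟨c', hc'⟩⟩⟩
  let e : ∐ E' ≅ X := (colimit.isColimit _).coconePointUniqueUpToIso hc'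
  have he : ∀ i, Sigma.ι E' i ≫ e.hom = ι i.down := fun i =>
    IsColimit.comp_coconePointUniqueUpToIso_hom (colimit.isColimit _) hc' ⟨i⟩
  obtain ⟨x, hx⟩ := hK E (g ≫ e.inv)
  refine ⟨x.support.image ULift.down, fun n => x ⟨n⟩, ?_⟩
  have h1 : g = (g ≫ e.inv) ≫ e.hom := by simp
  rw [h1, ← hx, homSum_eq_sum', Preadditive.sum_comp,
    Finset.sum_image (ULift.down_injective.injOn)]
  apply Finset.sum_congr rfl
  intro i _
  rw [Category.assoc, he]

end FromCompact

end Groth.Agent.Helper3.NatCompact
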