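import Mathlib
import Groth.Prelude.Def_CohDer
import Groth.Agent.Lib.Helper3.Compact
import Groth.Agent.Lib.Helper3.NatCompact

/-!
# Compact objects and arbitrary colimit cofans
-/

set_option autoImplicit false
set_option linter.unusedSectionVars false
universe w v u

open CategoryTheory CategoryTheory.Limits

namespace Groth.Agent.Helper3.CptGen

section Proj

variable {D : Type u} [Category.{v} D] [Preadditive D] {κ : Type*} [DecidableEq κ]
  {E : κ → D} {X : D} (ι : ∀ k, E k ⟶ X) (hc : IsColimit (Cofan.mk X ι))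

/-- projections from a coproduct -/
noncomputable def proj (k : κ) : X ⟶ E k :=
  Cofan.IsColimit.desc hc (fun m => if h : m = k then eqToHom (by rw [h]) else 0)

lemma inj_proj (m k : κ) :
    ι m ≫ proj ι hc k = if h : m = k then eqToHom (by rw [h]) else 0 :=
  Cofan.IsColimit.fac hc _ m

@[reassoc]
lemma inj_proj_self (k : κ) : ι k ≫ proj ι hc k = 𝟙 _ := by
  rw [inj_proj, dif_pos rfl]
  rfl

@[reassoc]
lemma inj_proj_ne {m k : κ} (h : m ≠ k) : ι m ≫ proj ι hc k = 0 := by
  rw [inj_proj, dif_neg h]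

end Proj

section Compact

/-- maps into coproducts indexed by types of the universe `v` have finite support -/
def WeakCpt.{v₀, w₀, u₀} {D : Type u₀} [Category.{w₀} D] [Preadditive D] (P : D) : Prop :=
  ∀ (κ : Type v₀) (E : κ → D) (X : D) (ι : ∀ k, E k ⟶ X) (_ : IsColimit (Cofan.mk X ι))
    (g : P ⟶ X), ∃ (S : Finset κ) (x : ∀ k, P ⟶ E k), g = ∑ k ∈ S, x k ≫ ι k

section

variable {D : Type u} [Category.{v} D] [Preadditive D] [HasCoproducts.{v} D]

/-- maps from a compact object into any coproduct have finite support -/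
lemma finSupp_cofan {P : D} (hP : CohDer.IsCompactObject P) {κ : Type v} {E : κ → D} {X : D}
    (ι : ∀ k, E k ⟶ X) (hc : IsColimit (Cofan.mk X ι)) (g : P ⟶ X) :
    ∃ (S : Finset κ) (x : ∀ k, P ⟶ E k), g = ∑ k ∈ S, x k ≫ ι k := by
  let e : ∐ E ≅ X := (colimit.isColimit _).coconePointUniqueUpToIso hc
  have he : ∀ k, Sigma.ι E k ≫ e.hom = ι k := fun k =>
    IsColimit.comp_coconePointUniqueUpToIso_hom (colimit.isColimit _) hc ⟨k⟩
  obtain ⟨S, x, hx⟩ := (Compact.isCompact_iff P).1 hP κ E (g ≫ e.inv)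
  refine ⟨S, x, ?_⟩
  have h1 : g = (g ≫ e.inv) ≫ e.hom := by simp
  rw [h1, hx, Preadditive.sum_comp]
  apply Finset.sum_congr rfl
  intro k _
  rw [Category.assoc, he]

lemma weakCpt_of_compact {P : D} (hP : CohDer.IsCompactObject P) : WeakCpt.{v} P :=
  fun _ _ _ ι hc g => finSupp_cofan hP ι hc g

end

section

variable {D : Type u} [Category.{max v w} D] [Preadditive D]

/-- finite supports from surjectivity for lifted index types -/
lemma weakCpt_of_ulift (P : D)
    (hP : ∀ (I : Type v) (E : I → D) [HasCoproduct fun i : ULift.{max v w} I => E i.down],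
      Function.Surjective (CohDer.homSumToHomCoprod P (fun i : ULift.{max v w} I => E i.down))) :
    WeakCpt.{v} P := by
  classical
  intro κ E X ι hc g
  let E' : ULift.{max v w} κ → D := fun i => E i.down
  let c' : Cofan E' := Cofan.mk X (fun i => ι i.down)
  have hc' : IsColimit c' := Cofan.IsColimit.mk _
    (fun t => Cofan.IsColimit.desc hc (fun n => t.inj ⟨n⟩))
    (fun t i => Cofan.IsColimit.fac hc _ i.down)
    (fun t m hm => Cofan.IsColimit.hom_ext hc _ _ (fun n => by
      rw [Cofan.IsColimit.fac]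
      exact hm ⟨n⟩))
  have : HasCoproduct E' := ⟨⟨⟨c', hc'⟩⟩⟩
  let e : ∐ E' ≅ X := (colimit.isColimit _).coconePointUniqueUpToIso hc'
  have he : ∀ i, Sigma.ι E' i ≫ e.hom = ι i.down := fun i =>
    IsColimit.comp_coconePointUniqueUpToIso_hom (colimit.isColimit _) hc' ⟨i⟩
  obtain ⟨x, hx⟩ := hP κ E (g ≫ e.inv)
  refine ⟨x.support.image ULift.down, fun n => x ⟨n⟩, ?_⟩
  have h1 : g = (g ≫ e.inv) ≫ e.hom := by simp
  rw [h1, ← hx, NatCompact.homSum_eq_sum', Preadditive.sum_comp,
    Finset.sum_image (ULift.down_injective.injOn)]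
  apply Finset.sum_congr rfl
  intro i _
  rw [Category.assoc, he]

end

section

variable {D : Type u} [Category.{w} D] [Preadditive D]

/-- countable coproducts -/
lemma natFin_of_weakCpt {P : D} (hP : WeakCpt.{v} P) : NatCompact.NatFin P := by
  intro E X ι hc g
  let E' : ULift.{v} ℕ → D := fun i => E i.down
  have hc' : IsColimit (Cofan.mk X (fun i : ULift.{v} ℕ => ι i.down)) := Cofan.IsColimit.mk _
    (fun t => Cofan.IsColimit.desc hc (fun n => t.inj ⟨n⟩))
    (fun t i => Cofan.IsColimit.fac hc _ i.down)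
    (fun t m hm => Cofan.IsColimit.hom_ext hc _ _ (fun n => by
      rw [Cofan.IsColimit.fac]
      exact hm ⟨n⟩))
  obtain ⟨S, x, hx⟩ := hP (ULift.{v} ℕ) E' X (fun i => ι i.down) hc' g
  refine ⟨S.image ULift.down, fun n => x ⟨n⟩, ?_⟩
  rw [hx, Finset.sum_image (ULift.down_injective.injOn)]

/-- maps from a weakly compact object into a coproduct are killed by almost all projections -/
lemma exists_finset_proj {P : D} (hP : WeakCpt.{v} P) {κ : Type v} [DecidableEq κ]
    {E : κ → D} {X : D}
    (ι : ∀ k, E k ⟶ X) (hc : IsColimit (Cofan.mk X ι)) (g : P ⟶ X) :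
    ∃ S : Finset κ, ∀ k, k ∉ S → g ≫ proj ι hc k = 0 := by
  obtain ⟨S, x, hx⟩ := hP κ E X ι hc g
  refine ⟨S, fun k hk => ?_⟩
  rw [hx, Preadditive.sum_comp]
  apply Finset.sum_eq_zero
  intro m hm
  have : m ≠ k := fun h => hk (h ▸ hm)
  rw [Category.assoc, inj_proj_ne ι hc this, comp_zero]

end

end Compact

end Groth.Agent.Helper3.CptGen
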