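import Mathlib
import Groth.Prelude.Def_CohDer
import Groth.Agent.Lib.Helper3.DCoprod
import Groth.Agent.Lib.Helper3.CptGen

/-!
# Compact objects of `D(A)` have bounded cohomology
-/

set_option autoImplicit false
set_option linter.unusedSectionVars false
universe w v u

open CategoryTheory CategoryTheory.Limits HomologicalComplex

namespace Groth.Agent.Helper3.CptBdd

open Groth.Agent.Helper3.DCoprod Groth.Agent.Helper3.CptGen DerivedCategory

section

variable {A : Type u} [Category.{v} A] [Abelian A] [HasDerivedCategory.{w} A]

lemma homologyFunctor_map_Q_eq_zero_iff {K L : CochainComplex A ℤ} (f : K ⟶ L) (n : ℤ) :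
    (DerivedCategory.homologyFunctor A n).map (Q.map f) = 0 ↔ homologyMap f n = 0 := by
  have h : (DerivedCategory.homologyFunctor A n).map (Q.map f) ≫
      (homologyFunctorFactors A n).hom.app L =
      (homologyFunctorFactors A n).hom.app K ≫ homologyMap f n :=
    (homologyFunctorFactors A n).hom.naturality f
  constructor
  · intro h0
    have h' : (homologyFunctorFactors A n).hom.app K ≫ homologyMap f n = 0 := by
      rw [← h, h0, zero_comp]
      rfl
    exact (cancel_epi ((homologyFunctorFactors A n).hom.app K)).1 (h'.trans comp_zero.symm)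
  · intro h0
    have h' : (DerivedCategory.homologyFunctor A n).map (Q.map f) ≫
        (homologyFunctorFactors A n).hom.app L = 0 := by
      rw [h, h0]
      exact comp_zero
    exact (cancel_mono ((homologyFunctorFactors A n).hom.app L)).1 (h'.trans zero_comp.symm)

end

variable {A : Type u} [Category.{v} A] [Abelian A] [EnoughInjectives A] [HasCoproducts.{v} A]
  [∀ J : Type v, HasExactColimitsOfShape (Discrete J) A]
  [HasDerivedCategory.{w} A]

section Construction

variable (K : CochainComplex A ℤ)

/-- an injective object containing the opcycles -/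
noncomputable abbrev I (n : ℤ) : A := Injective.under (K.opcycles n)

/-- the single complexes -/
noncomputable abbrev J (k : ULift.{v} ℤ) : CochainComplex A ℤ :=
  (single A (ComplexShape.up ℤ) k.down).obj (I K k.down)

/-- the map to the single complex -/
noncomputable def f (n : ℤ) : K ⟶ (single A (ComplexShape.up ℤ) n).obj (I K n) :=
  mkHomToSingle (K.pOpcycles n ≫ Injective.ι _) (by simp)

lemma mono_homologyMap_f (n : ℤ) : Mono (homologyMap (f K n) n) := by
  have h1 : opcyclesMap (f K n) n = Injective.ι _ ≫
      (singleObjOpcyclesSelfIso (ComplexShape.up ℤ) n (I K n)).hom := by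
    rw [← cancel_epi (K.pOpcycles n), p_opcyclesMap, singleObjOpcyclesSelfIso_hom]
    simp [f, mkHomToSingle_f]
  have h2 : Mono (opcyclesMap (f K n) n) := by
    rw [h1]
    infer_instance
  have h3 := homologyι_naturality (f K n) n
  have : Mono (homologyMap (f K n) n ≫
      ((single A (ComplexShape.up ℤ) n).obj (I K n)).homologyι n) := by
    rw [h3]
    infer_instance
  exact mono_of_mono _ (((single A (ComplexShape.up ℤ) n).obj (I K n)).homologyι n)

/-- the total map to the coproduct of the single complexes -/
noncomputable def F : K ⟶ cK (J K) where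
  f i := (f K i).f i ≫ Sigma.ι (fun k : ULift.{v} ℤ => (J K k).X i) ⟨i⟩
  comm' i j hij := by
    change _ ≫ Limits.Sigma.map (fun k => (J K k).d i j) = _
    rw [Category.assoc, Limits.Sigma.ι_map, ← Category.assoc (K.d i j), ← (f K j).comm i j]
    simp [single_obj_d]

/-- the projection to a single complex -/
noncomputable def P (n : ℤ) : cK (J K) ⟶ (single A (ComplexShape.up ℤ) n).obj (I K n) := by
  classical
  exact mkHomToSingle (CptGen.proj (Sigma.ι (fun k : ULift.{v} ℤ => (J K k).X n))
    (coproductIsCoproduct _) ⟨n⟩ ≫ (singleObjXSelf (ComplexShape.up ℤ) n (I K n)).hom) (by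
      intro i _
      change Limits.Sigma.map (fun k => (J K k).d i n) ≫ _ = 0
      apply Limits.Sigma.hom_ext
      intro k
      rw [Limits.Sigma.ι_map_assoc, single_obj_d, zero_comp, comp_zero])

lemma F_P (n : ℤ) : F K ≫ P K n = f K n := by
  classical
  apply to_single_hom_ext
  rw [comp_f]
  simp only [F, P, mkHomToSingle_f, Category.assoc]
  rw [CptGen.inj_proj_self_assoc]
  simp

end Construction

/-- compact objects have bounded cohomology -/
theorem exists_finset_of_compact (K : DerivedCategory A) (hK : WeakCpt.{v} K) :
    ∃ T : Finset ℤ, ∀ n : ℤ, n ∉ T →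
      IsZero ((DerivedCategory.homologyFunctor A n).obj K) := by
  classical
  let K₀ := Q.objPreimage K
  let e : Q.obj K₀ ≅ K := Q.objObjPreimageIso K
  have hcD := isColimitCofan (J K₀)
  obtain ⟨S, x, hx⟩ := hK _ _ _ _ hcD (e.inv ≫ Q.map (F K₀))
  refine ⟨S.image ULift.down, fun n hn => ?_⟩
  have hn' : (⟨n⟩ : ULift.{v} ℤ) ∉ S := fun h => hn (Finset.mem_image.2 ⟨_, h, rfl⟩)
  have h1 : (DerivedCategory.homologyFunctor A n).map (e.inv ≫ Q.map (F K₀)) = 0 := by
    rw [hx, Functor.map_sum]
    apply Finset.sum_eq_zero
    intro k hk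
    have hkn : n ≠ k.down := fun h => hn' (by rw [h]; exact hk)
    have hz : IsZero ((DerivedCategory.homologyFunctor A n).obj (Q.obj (J K₀ k))) :=
      (isZero_single_obj_homology (ComplexShape.up ℤ) k.down (I K₀ k.down) n hkn).of_iso
        ((homologyFunctorFactors A n).app _)
    rw [Functor.map_comp, hz.eq_of_tgt ((DerivedCategory.homologyFunctor A n).map (x k)) 0,
      zero_comp]
  have h2 : (DerivedCategory.homologyFunctor A n).map (Q.map (F K₀)) = 0 := by
    rw [Functor.map_comp] at h1
    have : IsIso ((DerivedCategory.homologyFunctor A n).map e.inv) := inferInstance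
    rw [← cancel_epi ((DerivedCategory.homologyFunctor A n).map e.inv), h1, comp_zero]
  rw [homologyFunctor_map_Q_eq_zero_iff] at h2
  have h3 : homologyMap (f K₀ n) n = 0 := by
    rw [← F_P, homologyMap_comp, h2, zero_comp]
  have := mono_homologyMap_f K₀ n
  have h4 : IsZero (K₀.homology n) := IsZero.of_mono_eq_zero _ h3
  exact h4.of_iso ((DerivedCategory.homologyFunctor A n).mapIso e.symm ≪≫
    (homologyFunctorFactors A n).app K₀)

/-- compact objects have bounded above cohomology -/
theorem exists_bound_of_compact (K : DerivedCategory A) (hK : WeakCpt.{v} K) :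
    ∃ b : ℤ, ∀ n : ℤ, b < n → IsZero ((DerivedCategory.homologyFunctor A n).obj K) := by
  obtain ⟨T, hT⟩ := exists_finset_of_compact K hK
  obtain ⟨b, hb⟩ := T.bddAbove
  exact ⟨b, fun n hn => hT n (fun h => by have := hb h; lia)⟩

end Groth.Agent.Helper3.CptBdd
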