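import Mathlib

/-!
# Brutal truncation `σ_{≥ k}` of a cochain complex and dévissage along the terms
-/

open CategoryTheory Limits HomologicalComplex CochainComplex ZeroObject

universe w v u

namespace Groth.Agent.Helper3.Brutal

variable {C : Type u} [Category.{v} C] [Abelian C]

/-- the terms of the brutal truncation -/
noncomputable def X (K : CochainComplex C ℤ) (k i : ℤ) : C := if k ≤ i then K.X i else 0

lemma isZero_X (K : CochainComplex C ℤ) {k i : ℤ} (h : ¬ k ≤ i) : IsZero (X K k i) := by
  unfold X
  rw [if_neg h]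
  exact isZero_zero C

/-- inclusion -/
noncomputable def incl (K : CochainComplex C ℤ) (k i : ℤ) : X K k i ⟶ K.X i :=
  if h : k ≤ i then eqToHom (by unfold X; rw [if_pos h]) else 0

/-- projection -/
noncomputable def proj (K : CochainComplex C ℤ) (k i : ℤ) : K.X i ⟶ X K k i :=
  if h : k ≤ i then eqToHom (by unfold X; rw [if_pos h]) else 0

@[reassoc (attr := simp)]
lemma incl_proj (K : CochainComplex C ℤ) (k i : ℤ) : incl K k i ≫ proj K k i = 𝟙 _ := by
  by_cases h : k ≤ i
  · simp [incl, proj, h]
  · exact (isZero_X K h).eq_of_src _ _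

@[reassoc]
lemma proj_incl (K : CochainComplex C ℤ) {k i : ℤ} (h : k ≤ i) :
    proj K k i ≫ incl K k i = 𝟙 _ := by
  simp [incl, proj, h]

/-- the brutal truncation -/
noncomputable def sigmaGE (K : CochainComplex C ℤ) (k : ℤ) : CochainComplex C ℤ where
  X i := X K k i
  d i j := incl K k i ≫ K.d i j ≫ proj K k j
  shape i j h := by rw [K.shape i j h]; simp
  d_comp_d' i j l _ _ := by
    by_cases hj : k ≤ j
    · simp only [Category.assoc, proj_incl_assoc K hj, K.d_comp_d_assoc, zero_comp, comp_zero]
    · have : proj K k j = 0 := (isZero_X K hj).eq_of_tgt _ _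
      simp [this]

/-- the inclusion of the brutal truncation -/
noncomputable def ι (K : CochainComplex C ℤ) (k : ℤ) : sigmaGE K k ⟶ K where
  f i := incl K k i
  comm' i j hij := by
    change i + 1 = j at hij
    change incl K k i ≫ K.d i j = (incl K k i ≫ K.d i j ≫ proj K k j) ≫ incl K k j
    by_cases hi : k ≤ i
    · have hj : k ≤ j := by lia
      simp only [Category.assoc, proj_incl K hj, Category.comp_id]
    · have : incl K k i = 0 := (isZero_X K hi).eq_of_src _ _
      simp [this]

lemma isZero_sigmaGE_X (K : CochainComplex C ℤ) {k i : ℤ} (h : i < k) :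
    IsZero ((sigmaGE K k).X i) := isZero_X K (by lia)

lemma isIso_ι_f (K : CochainComplex C ℤ) {k i : ℤ} (h : k ≤ i) : IsIso ((ι K k).f i) :=
  ⟨proj K k i, incl_proj K k i, proj_incl K h⟩

instance (K : CochainComplex C ℤ) (k i : ℤ) : Mono ((ι K k).f i) :=
  (IsSplitMono.mk' ⟨proj K k i, incl_proj K k i⟩ : IsSplitMono (incl K k i)).mono

instance (K : CochainComplex C ℤ) (k : ℤ) : Mono (ι K k) :=
  HomologicalComplex.mono_of_mono_f _ (fun _ => inferInstance)

/-- the quotient by the brutal truncation -/
noncomputable def sigmaLT (K : CochainComplex C ℤ) (k : ℤ) : CochainComplex C ℤ := cokernel (ι K k)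

/-- the projection -/
noncomputable def π (K : CochainComplex C ℤ) (k : ℤ) : K ⟶ sigmaLT K k := cokernel.π (ι K k)

/-- the short complex -/
noncomputable def sc (K : CochainComplex C ℤ) (k : ℤ) : ShortComplex (CochainComplex C ℤ) :=
  ShortComplex.mk (ι K k) (π K k) (cokernel.condition _)

lemma sc_shortExact (K : CochainComplex C ℤ) (k : ℤ) : (sc K k).ShortExact :=
  { exact := ShortComplex.exact_cokernel (ι K k)
    mono_f := inferInstanceAs (Mono (ι K k))
    epi_g := inferInstanceAs (Epi (cokernel.π (ι K k))) }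

lemma isZero_sigmaLT_X (K : CochainComplex C ℤ) {k i : ℤ} (h : k ≤ i) :
    IsZero ((sigmaLT K k).X i) := by
  have hS := (sc_shortExact K k).map_of_exact (HomologicalComplex.eval C (ComplexShape.up ℤ) i)
  have : IsIso ((sc K k).map (HomologicalComplex.eval C (ComplexShape.up ℤ) i)).f :=
    isIso_ι_f K h
  have := hS.epi_g
  have h0 : ((sc K k).map (HomologicalComplex.eval C (ComplexShape.up ℤ) i)).g = 0 := by
    rw [← cancel_epi ((sc K k).map (HomologicalComplex.eval C (ComplexShape.up ℤ) i)).f,
      ShortComplex.zero, comp_zero]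
  rw [IsZero.iff_id_eq_zero]
  exact (cancel_epi ((sc K k).map (HomologicalComplex.eval C (ComplexShape.up ℤ) i)).g).1
    (by rw [h0, zero_comp, zero_comp])

lemma isIso_π_f (K : CochainComplex C ℤ) {k i : ℤ} (h : i < k) : IsIso ((π K k).f i) := by
  have hS := (sc_shortExact K k).map_of_exact (HomologicalComplex.eval C (ComplexShape.up ℤ) i)
  have := hS.epi_g
  have : Mono ((sc K k).map (HomologicalComplex.eval C (ComplexShape.up ℤ) i)).g :=
    hS.exact.mono_g ((isZero_sigmaGE_X K h).eq_of_src _ _)
  exact isIso_of_mono_of_epi ((sc K k).map (HomologicalComplex.eval C (ComplexShape.up ℤ) i)).g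

section Devissage

lemma isZero_of_isZero_X (K : CochainComplex C ℤ) (h : ∀ i, IsZero (K.X i)) : IsZero K := by
  rw [IsZero.iff_id_eq_zero]
  ext i
  exact (h i).eq_of_src _ _

/-- a complex concentrated in degree `a` is a single complex -/
lemma exists_iso_single_X (L : CochainComplex C ℤ) (a : ℤ) (h : ∀ i : ℤ, i ≠ a → IsZero (L.X i)) :
    Nonempty (L ≅ (CochainComplex.singleFunctor C a).obj (L.X a)) := by
  have : L.IsStrictlyGE a := by
    rw [isStrictlyGE_iff]
    intro i hi
    exact h i (by lia)
  have : L.IsStrictlyLE a := by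
    rw [isStrictlyLE_iff]
    intro i hi
    exact h i (by lia)
  obtain ⟨M, ⟨e⟩⟩ := exists_iso_single L a
  let e' : L.X a ≅ M := (HomologicalComplex.eval C (ComplexShape.up ℤ) a).mapIso e ≪≫
    HomologicalComplex.singleObjXSelf (ComplexShape.up ℤ) a M
  exact ⟨e ≪≫ (HomologicalComplex.single C (ComplexShape.up ℤ) a).mapIso e'.symm⟩

variable [HasDerivedCategory.{w} C]

open DerivedCategory

theorem devissage (𝒬 : DerivedCategory C → Prop)
    (hiso : ∀ {X Y : DerivedCategory C}, (X ≅ Y) → 𝒬 X → 𝒬 Y)
    (hext : ∀ T ∈ distTriang (DerivedCategory C), 𝒬 T.obj₁ → 𝒬 T.obj₃ → 𝒬 T.obj₂)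
    (hzero : ∀ X : DerivedCategory C, IsZero X → 𝒬 X) :
    ∀ (m : ℕ) (a : ℤ) (K : CochainComplex C ℤ),
      (∀ i : ℤ, i < a ∨ a + m ≤ i → IsZero (K.X i)) →
      (∀ i : ℤ, a ≤ i → i < a + m → 𝒬 ((DerivedCategory.singleFunctor C i).obj (K.X i))) →
      𝒬 (Q.obj K) := by
  intro m
  induction m with
  | zero =>
    intro a K hK _
    apply hzero
    apply Q.map_isZero
    apply isZero_of_isZero_X
    intro i
    apply hK
    by_cases hi : i < a
    · exact Or.inl hi
    · exact Or.inr (by simp; lia)
  | succ m ih =>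
    intro a K hK hQ
    have hS := sc_shortExact K (a + 1)
    have hT := triangleOfSES_distinguished hS
    refine hext _ hT ?_ ?_
    · -- the subcomplex
      change 𝒬 (Q.obj (sigmaGE K (a + 1)))
      apply ih (a + 1)
      · rintro i (hi | hi)
        · exact isZero_sigmaGE_X K hi
        · have := isIso_ι_f K (k := a + 1) (i := i) (by lia)
          exact (hK i (Or.inr (by push_cast; lia))).of_iso (asIso ((ι K (a + 1)).f i))
      · intro i hi hi'
        have := isIso_ι_f K (k := a + 1) (i := i) hi
        exact hiso ((DerivedCategory.singleFunctor C i).mapIso (asIso ((ι K (a + 1)).f i)).symm)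
          (hQ i (by lia) (by push_cast; lia))
    · -- the quotient
      change 𝒬 (Q.obj (sigmaLT K (a + 1)))
      have hz : ∀ i : ℤ, i ≠ a → IsZero ((sigmaLT K (a + 1)).X i) := by
        intro i hi
        by_cases hia : a + 1 ≤ i
        · exact isZero_sigmaLT_X K hia
        · have := isIso_π_f K (k := a + 1) (i := i) (by lia)
          exact (hK i (Or.inl (by lia))).of_iso (asIso ((π K (a + 1)).f i)).symm
      obtain ⟨e⟩ := exists_iso_single_X _ a hz
      have := isIso_π_f K (k := a + 1) (i := a) (by lia)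
      refine hiso ?_ (hQ a le_rfl (by push_cast; lia))
      exact (DerivedCategory.singleFunctor C a).mapIso (asIso ((π K (a + 1)).f a)) ≪≫
        (singleFunctorIsoCompQ C a).app _ ≪≫ Q.mapIso e.symm

end Devissage

end Groth.Agent.Helper3.Brutal
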