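import Mathlib
import Groth.Agent.Lib.Helper3.QisEmb

/-!
# `n`-quasi-isomorphisms of cochain complexes (chain level tools for pseudo-coherence)
-/

open CategoryTheory Limits HomologicalComplex CochainComplex

universe v u

namespace Groth.Agent.Helper3.PCohA

variable {C : Type u} [Category.{v} C] [Abelian C]

/-- `u` is an `n`-quasi-isomorphism: iso on `H^i` for `i > n`, epi on `H^n`. -/
def IsNQI (n : ℤ) {E F : CochainComplex C ℤ} (u : E ⟶ F) : Prop :=
  (∀ i : ℤ, n < i → IsIso (homologyMap u i)) ∧ Epi (homologyMap u n)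

lemma IsNQI.epi {n : ℤ} {E F : CochainComplex C ℤ} {u : E ⟶ F} (h : IsNQI n u) (i : ℤ)
    (hi : n ≤ i) : Epi (homologyMap u i) := by
  obtain rfl | hi' := hi.eq_or_lt
  · exact h.2
  · have := h.1 i hi'
    infer_instance

lemma IsNQI.mono {n : ℤ} {E F : CochainComplex C ℤ} {u : E ⟶ F} (h : IsNQI n u) (i : ℤ)
    (hi : n < i) : Mono (homologyMap u i) := by
  have := h.1 i hi
  infer_instance

lemma isNQI_of_epi_mono {n : ℤ} {E F : CochainComplex C ℤ} {u : E ⟶ F}
    (hepi : ∀ i : ℤ, n ≤ i → Epi (homologyMap u i))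
    (hmono : ∀ i : ℤ, n < i → Mono (homologyMap u i)) : IsNQI n u :=
  ⟨fun i hi => by
    have := hepi i hi.le
    have := hmono i hi
    exact isIso_of_mono_of_epi _, hepi n le_rfl⟩

lemma isNQI_of_quasiIso (n : ℤ) {E F : CochainComplex C ℤ} (u : E ⟶ F) [QuasiIso u] :
    IsNQI n u :=
  ⟨fun _ _ => inferInstance, inferInstance⟩

lemma IsNQI.of_le {n m : ℤ} (hnm : n ≤ m) {E F : CochainComplex C ℤ} {u : E ⟶ F}
    (h : IsNQI n u) : IsNQI m u :=
  isNQI_of_epi_mono (fun i hi => h.epi i (hnm.trans hi)) (fun i hi => h.mono i (lt_of_le_of_lt hnm hi))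

lemma IsNQI.comp_quasiIso {n : ℤ} {E F G : CochainComplex C ℤ} {u : E ⟶ F} (h : IsNQI n u)
    (g : F ⟶ G) [QuasiIso g] : IsNQI n (u ≫ g) := by
  refine ⟨fun i hi => ?_, ?_⟩
  · rw [homologyMap_comp]
    have := h.1 i hi
    infer_instance
  · rw [homologyMap_comp]
    have := h.2
    infer_instance

lemma IsNQI.quasiIso_comp {n : ℤ} {E F G : CochainComplex C ℤ} {u : F ⟶ G} (h : IsNQI n u)
    (g : E ⟶ F) [QuasiIso g] : IsNQI n (g ≫ u) := by
  refine ⟨fun i hi => ?_, ?_⟩
  · rw [homologyMap_comp]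
    have := h.1 i hi
    infer_instance
  · rw [homologyMap_comp]
    have := h.2
    infer_instance

/-- if `u ≫ g` is an `n`-quasi-isomorphism and `g` is a quasi-isomorphism, so is `u` -/
lemma IsNQI.of_comp_quasiIso {n : ℤ} {E F G : CochainComplex C ℤ} (u : E ⟶ F)
    (g : F ⟶ G) [QuasiIso g] (h : IsNQI n (u ≫ g)) : IsNQI n u := by
  have key : ∀ i, homologyMap u i = homologyMap (u ≫ g) i ≫ inv (homologyMap g i) := by
    intro i
    rw [homologyMap_comp, Category.assoc, IsIso.hom_inv_id, Category.comp_id]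
  refine ⟨fun i hi => ?_, ?_⟩
  · rw [key]
    have := h.1 i hi
    infer_instance
  · rw [key]
    have := h.2
    infer_instance

lemma quasiIso_of_isNQI_all {E F : CochainComplex C ℤ} (u : E ⟶ F) (h : ∀ n, IsNQI n u) :
    QuasiIso u := by
  rw [quasiIso_iff]
  intro i
  rw [quasiIsoAt_iff_isIso_homologyMap]
  exact (h (i - 1)).1 i (by lia)

section Cone

variable {E F : CochainComplex C ℤ} (u : E ⟶ F)

/-- the cone of an `n`-quasi-isomorphism is acyclic in degrees `≥ n` -/
lemma isZero_homology_cone_of_isNQI {n : ℤ} (h : IsNQI n u) (j : ℤ) (hj : n ≤ j) :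
    IsZero ((mappingCone u).homology j) := by
  let _ := HasDerivedCategory.standard C
  have hT := DerivedCategory.mappingCone_triangle_distinguished u
  have h2 := homologyMap_exact₂_of_distTriang _ hT j
  have h3 := homologyMap_exact₃_of_distTriang _ hT j (j + 1) rfl
  have h1 := homologyMap_exact₁_of_distTriang _ hT j (j + 1) rfl
  have hepi : Epi (homologyMap u j) := h.epi j hj
  have hmono : Mono (homologyMap u (j + 1)) := h.mono (j + 1) (by lia)
  have z2 : homologyMap (mappingCone.inr u) j = 0 := by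
    have := homologyMap_comp_eq_zero_of_distTriang _ hT j
    exact (cancel_epi (homologyMap u j)).1 (this.trans comp_zero.symm)
  have z3 : homologyδOfTriangle (mappingCone.triangle u) j (j + 1) rfl = 0 := by
    have := homologyδOfTriangle_homologyMap _ hT j (j + 1) rfl
    exact (cancel_mono (homologyMap u (j + 1))).1 (this.trans zero_comp.symm)
  exact h3.isZero_of_both_zeros z2 z3

/-- conversely -/
lemma isNQI_of_isZero_homology_cone {n : ℤ}
    (h : ∀ j : ℤ, n ≤ j → IsZero ((mappingCone u).homology j)) : IsNQI n u := by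
  let _ := HasDerivedCategory.standard C
  have hT := DerivedCategory.mappingCone_triangle_distinguished u
  refine isNQI_of_epi_mono (fun j hj => ?_) (fun j hj => ?_)
  · have h2 := homologyMap_exact₂_of_distTriang _ hT j
    exact h2.epi_f ((h j hj).eq_of_tgt _ _)
  · have h1 := homologyMap_exact₁_of_distTriang _ hT (j - 1) j (by lia)
    exact h1.mono_g ((h (j - 1) (by lia)).eq_of_src _ _)

end Cone

/-- the map induced on cones by a square whose vertical maps are quasi-isomorphisms is a
quasi-isomorphism -/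
lemma quasiIso_cone_map {K₁ L₁ K₂ L₂ : CochainComplex C ℤ} (φ₁ : K₁ ⟶ L₁) (φ₂ : K₂ ⟶ L₂)
    (a : K₁ ⟶ K₂) (b : L₁ ⟶ L₂) (comm : φ₁ ≫ b = a ≫ φ₂) [QuasiIso a] [QuasiIso b] :
    QuasiIso (mappingCone.map φ₁ φ₂ a b comm) := by
  let _ := HasDerivedCategory.standard C
  rw [← DerivedCategory.isIso_Q_map_iff_quasiIso]
  let ψ := DerivedCategory.Q.mapTriangle.map (mappingCone.triangleMap φ₁ φ₂ a b comm)
  have h₁ : IsIso ψ.hom₁ := by
    change IsIso (DerivedCategory.Q.map a)
    infer_instance
  have h₂ : IsIso ψ.hom₂ := by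
    change IsIso (DerivedCategory.Q.map b)
    infer_instance
  exact Pretriangulated.isIso₃_of_isIso₁₂ ψ (DerivedCategory.mappingCone_triangle_distinguished φ₁)
    (DerivedCategory.mappingCone_triangle_distinguished φ₂) h₁ h₂


/-- in a short exact sequence of complexes, `H^i(X₃) = 0` if `H^i(f)` is epi and `H^{i+1}(f)`
is mono -/
lemma isZero_homology_X₃ {S : ShortComplex (CochainComplex C ℤ)} (hS : S.ShortExact) (i : ℤ)
    (hepi : Epi (homologyMap S.f i)) (hmono : Mono (homologyMap S.f (i + 1))) :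
    IsZero (S.X₃.homology i) := by
  have e2 := hS.homology_exact₂ i
  have e3 := hS.homology_exact₃ i (i + 1) rfl
  have e1 := hS.homology_exact₁ i (i + 1) rfl
  have z2 : homologyMap S.g i = 0 := by
    have : homologyMap S.f i ≫ homologyMap S.g i = 0 := by
      rw [← homologyMap_comp, S.zero, homologyMap_zero]
    exact (cancel_epi (homologyMap S.f i)).1 (this.trans comp_zero.symm)
  have z3 : hS.δ i (i + 1) rfl = 0 := by
    have : hS.δ i (i + 1) rfl ≫ homologyMap S.f (i + 1) = 0 := hS.δ_comp i (i + 1) rfl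
    exact (cancel_mono (homologyMap S.f (i + 1))).1 (this.trans zero_comp.symm)
  exact e3.isZero_of_both_zeros z2 z3

/-- factorisation of an `n`-quasi-isomorphism as a termwise monomorphism which is an isomorphism
in degrees `≥ n`, followed by a quasi-isomorphism -/
theorem exists_factor_of_isNQI (n : ℤ) {E F : CochainComplex C ℤ} (u : E ⟶ F) (h : IsNQI n u) :
    ∃ (E' : CochainComplex C ℤ) (v : E ⟶ E') (u' : E' ⟶ F), v ≫ u' = u ∧ QuasiIso u' ∧
      (∀ i : ℤ, Mono (v.f i)) ∧ (∀ i : ℤ, n ≤ i → IsIso (v.f i)) := by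
  let cE := mappingCone (𝟙 E)
  have hcE : ∀ i, IsZero (cE.homology i) := fun i =>
    QisEmb.isZero_homology_of_homotopy (mappingCone.homotopyToZeroOfId E) i
  let F₁ := F ⊞ cE
  let j : E ⟶ F₁ := biprod.lift u (mappingCone.inr (𝟙 E))
  let p : F₁ ⟶ F := biprod.fst
  have hjp : j ≫ p = u := biprod.lift_fst _ _
  have hinl : QuasiIso (biprod.inl : F ⟶ F₁) := by
    have hS : (ShortComplex.mk (biprod.inl : F ⟶ F ⊞ cE) biprod.snd biprod.inl_snd).ShortExact :=
      (ShortComplex.Splitting.ofHasBinaryBiproduct F cE).shortExact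
    exact QisEmb.quasiIso_f_of_acyclic_X₃ hS hcE
  have hp : QuasiIso p := by
    have : QuasiIso ((biprod.inl : F ⟶ F₁) ≫ p) := by
      have : (biprod.inl : F ⟶ F₁) ≫ p = 𝟙 F := biprod.inl_fst
      rw [this]
      infer_instance
    exact quasiIso_of_comp_left (biprod.inl : F ⟶ F₁) p
  have hjf : ∀ i, Mono (j.f i) := by
    intro i
    have : j.f i ≫ (biprod.snd : F₁ ⟶ cE).f i ≫
        (mappingCone.snd (𝟙 E)).v i i (add_zero i) = 𝟙 _ := by
      rw [← HomologicalComplex.comp_f_assoc]
      have : j ≫ (biprod.snd : F₁ ⟶ cE) = mappingCone.inr (𝟙 E) := biprod.lift_snd _ _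
      rw [this, mappingCone.inr_f_snd_v]
    exact mono_of_mono_fac this
  have hj : Mono j := HomologicalComplex.mono_of_mono_f _ hjf
  let Q := cokernel j
  let q : F₁ ⟶ Q := cokernel.π j
  have hS₁ : (ShortComplex.mk j q (cokernel.condition j)).ShortExact :=
    { exact := ShortComplex.exact_cokernel j }
  have hjn : IsNQI n j := IsNQI.of_comp_quasiIso j p (by rw [hjp]; exact h)
  have hQ : ∀ i, n ≤ i → IsZero (Q.homology i) := fun i hi =>
    isZero_homology_X₃ hS₁ i (hjn.epi i hi) (hjn.mono (i + 1) (by lia))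
  have hLE : Q.IsLE (n - 1) := by
    rw [isLE_iff]
    intro i hi
    rw [exactAt_iff_isZero_homology]
    exact hQ i (by lia)
  let T := Q.truncLE (n - 1)
  let ιT : T ⟶ Q := Q.ιTruncLE (n - 1)
  have hιq : QuasiIso ιT := inferInstance
  have hιm : Mono ιT := by
    change Mono (HomologicalComplex.ιTruncLE Q (ComplexShape.embeddingUpIntLE (n - 1)))
    infer_instance
  let R := cokernel ιT
  let r : Q ⟶ R := cokernel.π ιT
  have hS₂ : (ShortComplex.mk ιT r (cokernel.condition ιT)).ShortExact :=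
    { exact := ShortComplex.exact_cokernel ιT }
  have hR : ∀ i, IsZero (R.homology i) := fun i =>
    isZero_homology_X₃ hS₂ i inferInstance inferInstance
  have hqr : Epi (q ≫ r) := epi_comp _ _
  let E' := kernel (q ≫ r)
  let k : E' ⟶ F₁ := kernel.ι (q ≫ r)
  have hS₃ : (ShortComplex.mk k (q ≫ r) (kernel.condition _)).ShortExact :=
    { exact := ShortComplex.exact_kernel _ }
  have hk : QuasiIso k := QisEmb.quasiIso_f_of_acyclic_X₃ hS₃ hR
  let v : E ⟶ E' := kernel.lift _ j (by rw [← Category.assoc, cokernel.condition, zero_comp])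
  have hvk : v ≫ k = j := kernel.lift_ι _ _ _
  have hvf : ∀ i, Mono (v.f i) := by
    intro i
    have : v.f i ≫ k.f i = j.f i := by rw [← HomologicalComplex.comp_f, hvk]
    have := hjf i
    exact mono_of_mono_fac ‹v.f i ≫ k.f i = j.f i›
  refine ⟨E', v, k ≫ p, by rw [← Category.assoc, hvk, hjp], inferInstance, hvf, ?_⟩
  intro i hi
  have hT0 : IsZero (T.X i) := isZero_of_isStrictlyLE T (n - 1) i (by lia)
  have h₁ := (hS₁.map_of_exact (HomologicalComplex.eval C (ComplexShape.up ℤ) i))
  have h₂ := (hS₂.map_of_exact (HomologicalComplex.eval C (ComplexShape.up ℤ) i))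
  have h₃ := (hS₃.map_of_exact (HomologicalComplex.eval C (ComplexShape.up ℤ) i))
  have hrm : Mono (r.f i) := h₂.exact.mono_g (hT0.eq_of_src _ _)
  have hkm : Mono (k.f i) := h₃.mono_f
  have hepi : Epi (v.f i) := by
    rw [epi_iff_surjective_up_to_refinements]
    intro A x
    have hx : (x ≫ k.f i) ≫ q.f i = 0 := by
      rw [← cancel_mono (r.f i), Category.assoc, Category.assoc, zero_comp,
        ← HomologicalComplex.comp_f, ← HomologicalComplex.comp_f, kernel.condition,
        HomologicalComplex.zero_f, comp_zero]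
    obtain ⟨A', π, hπ, e, he⟩ := h₁.exact.exact_up_to_refinements (x ≫ k.f i) hx
    refine ⟨A', π, hπ, e, ?_⟩
    rw [← cancel_mono (k.f i), Category.assoc, Category.assoc, ← HomologicalComplex.comp_f, hvk]
    exact he
  have := hvf i
  exact isIso_of_mono_of_epi _

end Groth.Agent.Helper3.PCohA
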