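import Mathlib
import Groth.Prelude.Def_PCoh
import Groth.Agent.Lib.Helper3.PCohA

/-!
# Objects of `C₀`-finite type, precoherent objects (punctual pseudo-coherence, SGA 6 I)
-/

open CategoryTheory Limits

universe v u

namespace Groth.Agent.Helper3.PCohB

open PCoh

variable {C : Type u} [Category.{v} C] [Abelian C] (P : ObjectProperty C)

lemma isOfFiniteType_of_prop {E : C} (h : P E) : IsOfFiniteType P E :=
  ⟨E, 𝟙 E, h, inferInstance⟩

variable {P}

lemma isOfFiniteType_of_epi {F G : C} (p : F ⟶ G) [Epi p] (hF : IsOfFiniteType P F) :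
    IsOfFiniteType P G := by
  obtain ⟨E, π, hE, hπ⟩ := hF
  exact ⟨E, π ≫ p, hE, epi_comp _ _⟩

lemma isOfFiniteType_of_iso {F G : C} (e : F ≅ G) (hF : IsOfFiniteType P F) :
    IsOfFiniteType P G :=
  isOfFiniteType_of_epi e.hom hF

lemma prop_biprod [P.IsClosedUnderIsomorphisms] (hsum : ∀ X Y : C, P X → P Y → P (X ⨯ Y))
    {X Y : C} (hX : P X) (hY : P Y) : P (X ⊞ Y) :=
  P.prop_of_iso (biprod.isoProd X Y).symm (hsum X Y hX hY)

/-- refinement by an object of `C₀` -/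
lemma exists_refine (hql : IsQuasiLiftable P) {A B : C} (p : A ⟶ B) [Epi p]
    (hB : IsOfFiniteType P B) : ∃ (L : C) (φ : L ⟶ A), P L ∧ Epi (φ ≫ p) := by
  obtain ⟨E, π, hE, hπ⟩ := hB
  have h1 : Epi (pullback.snd p π) := Abelian.epi_pullback_of_epi_f p π
  obtain ⟨L, v, hL, hv⟩ := hql _ _ (pullback.snd p π) h1 hE
  refine ⟨L, v ≫ pullback.fst p π, hL, ?_⟩
  rw [Category.assoc, pullback.condition, ← Category.assoc]
  exact epi_comp _ _

/-- same, for an epimorphism onto an object of `C₀` -/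
lemma exists_refine' (hql : IsQuasiLiftable P) {A B : C} (p : A ⟶ B) [Epi p]
    (hB : P B) : ∃ (L : C) (φ : L ⟶ A), P L ∧ Epi (φ ≫ p) :=
  hql _ _ p inferInstance hB

section

variable [P.IsClosedUnderIsomorphisms] (hsum : ∀ X Y : C, P X → P Y → P (X ⨯ Y))
  (hql : IsQuasiLiftable P)

include hsum hql

/-- extensions of objects of finite type are of finite type -/
lemma isOfFiniteType_X₂ {S : ShortComplex C} (hS : S.ShortExact)
    (h₁ : IsOfFiniteType P S.X₁) (h₃ : IsOfFiniteType P S.X₃) : IsOfFiniteType P S.X₂ := by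
  have := hS.epi_g
  obtain ⟨E₁, π₁, hE₁, hπ₁⟩ := h₁
  obtain ⟨L, φ, hL, hφ⟩ := exists_refine hql S.g h₃
  refine ⟨E₁ ⊞ L, biprod.desc (π₁ ≫ S.f) φ, prop_biprod hsum hE₁ hL, ?_⟩
  rw [epi_iff_surjective_up_to_refinements]
  intro A x
  obtain ⟨A₁, p₁, hp₁, l, hl⟩ := surjective_up_to_refinements_of_epi (φ ≫ S.g) (x ≫ S.g)
  have h0 : (p₁ ≫ x - l ≫ φ) ≫ S.g = 0 := by
    rw [Preadditive.sub_comp, Category.assoc, Category.assoc, hl, sub_self]
  obtain ⟨A₂, p₂, hp₂, y, hy⟩ := hS.exact.exact_up_to_refinements _ h0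
  obtain ⟨A₃, p₃, hp₃, e, he⟩ := surjective_up_to_refinements_of_epi π₁ y
  refine ⟨A₃, p₃ ≫ p₂ ≫ p₁, epi_comp _ _, biprod.lift e (p₃ ≫ p₂ ≫ l), ?_⟩
  have h1 : p₃ ≫ p₂ ≫ (p₁ ≫ x - l ≫ φ) = e ≫ π₁ ≫ S.f := by
    rw [hy, ← Category.assoc, he, Category.assoc]
  rw [biprod.lift_desc, ← h1]
  simp only [Preadditive.comp_sub, Category.assoc]
  abel

end

/-- `H` is precoherent: every morphism from an object of `C₀` has kernel of finite type -/
def IsPrecoherent (P : ObjectProperty C) (H : C) : Prop :=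
  ∀ (E : C) (u : E ⟶ H), P E → IsOfFiniteType P (kernel u)

/-- kernel of `G → H` with `G` of finite type and `H` precoherent -/
lemma isOfFiniteType_X₁ {S : ShortComplex C} (hS : S.Exact) [Mono S.f]
    (h₂ : IsOfFiniteType P S.X₂) (h₃ : IsPrecoherent P S.X₃) : IsOfFiniteType P S.X₁ := by
  obtain ⟨E, π, hE, hπ⟩ := h₂
  have hK := h₃ E (π ≫ S.g) hE
  have h0 : (kernel.ι (π ≫ S.g) ≫ π) ≫ S.g = 0 := by
    rw [Category.assoc, kernel.condition]
  let κ : kernel (π ≫ S.g) ⟶ S.X₁ := hS.lift _ h0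
  have hκ : κ ≫ S.f = kernel.ι (π ≫ S.g) ≫ π := hS.lift_f _ _
  have : Epi κ := by
    rw [epi_iff_surjective_up_to_refinements]
    intro A x
    obtain ⟨A₁, p₁, hp₁, e, he⟩ := surjective_up_to_refinements_of_epi π (x ≫ S.f)
    have he0 : e ≫ π ≫ S.g = 0 := by
      rw [← Category.assoc, ← he, Category.assoc, Category.assoc, S.zero, comp_zero, comp_zero]
    refine ⟨A₁, p₁, hp₁, kernel.lift _ e he0, ?_⟩
    rw [← cancel_mono S.f, Category.assoc, Category.assoc, hκ, kernel.lift_ι_assoc, he]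
  exact isOfFiniteType_of_epi κ hK

section

variable [P.IsClosedUnderIsomorphisms] (hsum : ∀ X Y : C, P X → P Y → P (X ⨯ Y))
  (hql : IsQuasiLiftable P)

include hql in
/-- extensions of precoherent objects are precoherent -/
lemma isPrecoherent_X₂ {S : ShortComplex C} (hS : S.ShortExact)
    (h₁ : IsPrecoherent P S.X₁) (h₃ : IsPrecoherent P S.X₃) : IsPrecoherent P S.X₂ := by
  have := hS.mono_f
  intro E u hE
  obtain ⟨E₁, π₁, hE₁, hπ₁⟩ := h₃ E (u ≫ S.g) hE
  have h0 : (π₁ ≫ kernel.ι (u ≫ S.g) ≫ u) ≫ S.g = 0 := by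
    rw [Category.assoc, Category.assoc, kernel.condition, comp_zero]
  let w : E₁ ⟶ S.X₁ := hS.exact.lift _ h0
  have hw : w ≫ S.f = π₁ ≫ kernel.ι (u ≫ S.g) ≫ u := hS.exact.lift_f _ _
  have hK₂ := h₁ E₁ w hE₁
  have h1 : (kernel.ι w ≫ π₁ ≫ kernel.ι (u ≫ S.g)) ≫ u = 0 := by
    rw [Category.assoc, Category.assoc, ← hw, kernel.condition_assoc, zero_comp]
  let κ : kernel w ⟶ kernel u := kernel.lift _ _ h1
  have hκ : κ ≫ kernel.ι u = kernel.ι w ≫ π₁ ≫ kernel.ι (u ≫ S.g) := kernel.lift_ι _ _ _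
  have : Epi κ := by
    rw [epi_iff_surjective_up_to_refinements]
    intro A x
    have hx0 : (x ≫ kernel.ι u) ≫ u ≫ S.g = 0 := by
      rw [Category.assoc, kernel.condition_assoc, zero_comp, comp_zero]
    obtain ⟨A₁, p₁, hp₁, e, he⟩ := surjective_up_to_refinements_of_epi π₁
      (kernel.lift (u ≫ S.g) (x ≫ kernel.ι u) hx0)
    have he' : e ≫ π₁ ≫ kernel.ι (u ≫ S.g) = p₁ ≫ x ≫ kernel.ι u := by
      rw [← Category.assoc, ← he, Category.assoc, kernel.lift_ι]
    have he0 : e ≫ w = 0 := by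
      rw [← cancel_mono S.f, Category.assoc, hw, zero_comp, reassoc_of% he', kernel.condition,
        comp_zero, comp_zero]
    refine ⟨A₁, p₁, hp₁, kernel.lift _ e he0, ?_⟩
    rw [← cancel_mono (kernel.ι u), Category.assoc, Category.assoc, hκ, kernel.lift_ι_assoc, he']
  exact isOfFiniteType_of_epi κ hK₂

include hsum hql in
/-- cokernel of `F → G` with `F` of finite type and `G` precoherent -/
lemma isPrecoherent_X₃ {S : ShortComplex C} (hS : S.Exact) [Epi S.g]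
    (h₁ : IsOfFiniteType P S.X₁) (h₂ : IsPrecoherent P S.X₂) : IsPrecoherent P S.X₃ := by
  intro E u hE
  have h1 : Epi (pullback.snd S.g u) := Abelian.epi_pullback_of_epi_f S.g u
  obtain ⟨E', v, hE', hv⟩ := hql _ _ (pullback.snd S.g u) h1 hE
  let u' : E' ⟶ S.X₂ := v ≫ pullback.fst S.g u
  let ρ : E' ⟶ E := v ≫ pullback.snd S.g u
  have hu' : u' ≫ S.g = ρ ≫ u := by
    dsimp only [u', ρ]
    rw [Category.assoc, pullback.condition, Category.assoc]
  obtain ⟨E₁, π₁, hE₁, hπ₁⟩ := h₁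
  have hK := h₂ (E' ⊞ E₁) (biprod.desc u' (π₁ ≫ S.f)) (prop_biprod hsum hE' hE₁)
  have h0 : (kernel.ι (biprod.desc u' (π₁ ≫ S.f)) ≫ biprod.fst ≫ ρ) ≫ u = 0 := by
    have h2 : biprod.fst ≫ u' = biprod.desc u' (π₁ ≫ S.f) - biprod.snd ≫ π₁ ≫ S.f := by
      apply biprod.hom_ext'
      · simp
      · simp
    rw [Category.assoc, Category.assoc, ← hu', ← Category.assoc biprod.fst, h2,
      Preadditive.sub_comp, Preadditive.comp_sub, kernel.condition_assoc, zero_comp]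
    simp only [Category.assoc, S.zero, comp_zero, sub_self]
  let κ : kernel (biprod.desc u' (π₁ ≫ S.f)) ⟶ kernel u := kernel.lift _ _ h0
  have hκ : κ ≫ kernel.ι u = kernel.ι (biprod.desc u' (π₁ ≫ S.f)) ≫ biprod.fst ≫ ρ :=
    kernel.lift_ι _ _ _
  have : Epi κ := by
    rw [epi_iff_surjective_up_to_refinements]
    intro A x
    obtain ⟨A₁, p₁, hp₁, e', he'⟩ := surjective_up_to_refinements_of_epi ρ (x ≫ kernel.ι u)
    have h3 : (e' ≫ u') ≫ S.g = 0 := by
      rw [Category.assoc, hu', ← Category.assoc, ← he', Category.assoc, Category.assoc,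
        kernel.condition, comp_zero, comp_zero]
    obtain ⟨A₂, p₂, hp₂, y, hy⟩ := hS.exact_up_to_refinements _ h3
    obtain ⟨A₃, p₃, hp₃, e₁, he₁⟩ := surjective_up_to_refinements_of_epi π₁ y
    have h4 : biprod.lift (p₃ ≫ p₂ ≫ e') (-e₁) ≫ biprod.desc u' (π₁ ≫ S.f) = 0 := by
      have h5 : e₁ ≫ π₁ ≫ S.f = p₃ ≫ p₂ ≫ e' ≫ u' := by
        rw [hy, ← Category.assoc, ← he₁, Category.assoc]
      rw [biprod.lift_desc, Preadditive.neg_comp, h5]
      simp only [Category.assoc]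
      abel
    refine ⟨A₃, p₃ ≫ p₂ ≫ p₁, epi_comp _ _, kernel.lift _ _ h4, ?_⟩
    rw [← cancel_mono (kernel.ι u)]
    simp only [Category.assoc]
    rw [hκ, kernel.lift_ι_assoc, biprod.lift_fst_assoc, he']
    simp only [Category.assoc]
  exact isOfFiniteType_of_epi κ hK

end

end Groth.Agent.Helper3.PCohB
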