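import Mathlib
import Groth.Prelude.Def_PCoh
import Groth.Agent.Lib.Helper3.PCohB

/-!
# The top cohomology of a strictly `n`-pseudo-coherent complex is of finite type
-/

open CategoryTheory Limits HomologicalComplex

universe v u

namespace Groth.Agent.Helper3.PCohC

open PCoh PCohB

variable {C : Type u} [Category.{v} C] [Abelian C]

section Res

variable (E : CochainComplex C ℤ) (n : ℤ)

/-- objects of the complex `Z^n → E^n → E^{n+1} → ⋯` -/
noncomputable def resX : ℕ → C
  | 0 => E.cycles n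
  | 1 => E.X n
  | (k + 2) => E.X (n + 1 + k)

/-- differentials of the complex `Z^n → E^n → E^{n+1} → ⋯` -/
noncomputable def resD : ∀ k, resX E n k ⟶ resX E n (k + 1)
  | 0 => E.iCycles n
  | 1 => E.d n (n + 1 + (0 : ℕ))
  | (k + 2) => E.d (n + 1 + k) (n + 1 + (k + 1 : ℕ))

lemma resD_comp : ∀ k, resD E n k ≫ resD E n (k + 1) = 0
  | 0 => E.iCycles_d n _
  | 1 => E.d_comp_d _ _ _
  | (_ + 2) => E.d_comp_d _ _ _

/-- the complex `Z^n → E^n → E^{n+1} → ⋯` indexed by `ℕ` -/
noncomputable def res : CochainComplex C ℕ :=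
  CochainComplex.of (resX E n) (resD E n) (resD_comp E n)

lemma res_d (k : ℕ) : (res E n).d k (k + 1) = resD E n k := CochainComplex.of_d _ _ _

lemma res_exactAt_zero : (res E n).ExactAt 0 := by
  rw [exactAt_iff_exact_up_to_refinements (res E n) 0 0 1 CochainComplex.prev_nat_zero
    (CochainComplex.next ℕ 0)]
  intro A x₂ hx₂
  rw [res_d] at hx₂
  have : x₂ = 0 := by
    have h : Mono (E.iCycles n) := inferInstance
    exact (cancel_mono (E.iCycles n)).1 (hx₂.trans zero_comp.symm)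
  exact ⟨A, 𝟙 A, inferInstance, 0, by rw [this, comp_zero, zero_comp]⟩

lemma res_exactAt_one : (res E n).ExactAt 1 := by
  rw [exactAt_iff_exact_up_to_refinements (res E n) 0 1 2 (CochainComplex.prev_nat_succ 0)
    (CochainComplex.next ℕ 1)]
  intro A x₂ hx₂
  rw [res_d] at hx₂
  refine ⟨A, 𝟙 A, inferInstance, E.liftCycles x₂ (n + 1 + (0 : ℕ)) (by simp) hx₂, ?_⟩
  rw [res_d, Category.id_comp]
  exact (E.liftCycles_i _ _ _ _).symm

lemma res_exactAt_two (h : E.ExactAt (n + 1 + (0 : ℕ))) : (res E n).ExactAt 2 := by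
  rw [exactAt_iff_exact_up_to_refinements (res E n) 1 2 3 (CochainComplex.prev_nat_succ 1)
    (CochainComplex.next ℕ 2)]
  intro A x₂ hx₂
  rw [res_d] at hx₂
  rw [exactAt_iff_exact_up_to_refinements E n (n + 1 + (0 : ℕ)) (n + 1 + ((0 + 1 : ℕ) : ℤ))
    (by simp) (by simp)] at h
  obtain ⟨A', π, hπ, x₁, hx₁⟩ := h x₂ hx₂
  exact ⟨A', π, hπ, x₁, by rw [res_d]; exact hx₁⟩

lemma res_exactAt_succ (k : ℕ) (h : E.ExactAt (n + 1 + ((k + 1 : ℕ) : ℤ))) :
    (res E n).ExactAt (k + 3) := by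
  rw [exactAt_iff_exact_up_to_refinements (res E n) (k + 2) (k + 3) (k + 4)
    (CochainComplex.prev_nat_succ (k + 2)) (CochainComplex.next ℕ (k + 3))]
  intro A x₂ hx₂
  rw [res_d] at hx₂
  rw [exactAt_iff_exact_up_to_refinements E (n + 1 + (k : ℤ)) (n + 1 + ((k + 1 : ℕ) : ℤ))
    (n + 1 + ((k + 1 + 1 : ℕ) : ℤ)) (by simp; ring) (by simp; ring)] at h
  obtain ⟨A', π, hπ, x₁, hx₁⟩ := h x₂ hx₂
  exact ⟨A', π, hπ, x₁, by rw [res_d]; exact hx₁⟩

lemma res_exactAt (h : ∀ i : ℤ, n < i → E.ExactAt i) : ∀ k : ℕ, (res E n).ExactAt k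
  | 0 => res_exactAt_zero E n
  | 1 => res_exactAt_one E n
  | 2 => res_exactAt_two E n (h _ (by simp))
  | (k + 3) => res_exactAt_succ E n k (h _ (by push_cast; lia))

end Res

/-- top cohomology of a strictly `n`-pseudo-coherent complex is of finite type -/
theorem isOfFiniteType_homology (P : ObjectProperty C) (hqs : IsQuasiStableUnderKernels P)
    (n : ℤ) (E : CochainComplex C ℤ) (hE : IsStrictPC P n E)
    (hac : ∀ i : ℤ, n < i → IsZero (E.homology i)) :
    IsOfFiniteType P (E.homology n) := by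
  obtain ⟨⟨b, hb⟩, hP⟩ := hE
  have hex : ∀ i : ℤ, n < i → E.ExactAt i := fun i hi => by
    rw [exactAt_iff_isZero_homology]
    exact hac i hi
  have h1 : IsOfFiniteType P ((res E n).X 0) := by
    apply hqs (res E n) (res_exactAt E n hex)
    · refine ⟨(b - n).toNat + 2, ?_⟩
      intro i hi
      obtain ⟨k, rfl⟩ : ∃ k, i = k + 2 := ⟨i - 2, by lia⟩
      exact hb _ (by lia)
    · intro i hi
      obtain _ | _ | k := i
      · lia
      · exact hP n le_rfl
      · exact hP _ (by lia)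
  exact isOfFiniteType_of_epi (E.homologyπ n) h1

end Groth.Agent.Helper3.PCohC
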