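import Mathlib
import Groth.Agent.Lib.Helper3.PCohA
import Groth.Agent.Lib.Helper3.PCohB

/-!
# Attaching a cell: improving an `(n+1)`-quasi-isomorphism to an `n`-quasi-isomorphism
-/

open CategoryTheory Limits HomologicalComplex CochainComplex HomComplex

universe v u

namespace Groth.Agent.Helper3.PCohD

open Groth.Agent.Helper3.PCohA Groth.Agent.Helper3.PCohB

variable {C : Type u} [Category.{v} C] [Abelian C]

section Attach

variable {S E F : CochainComplex C ℤ} (ψ : S ⟶ E) (u : E ⟶ F) (α : Cochain S F (-1))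
  (hα : δ (-1) 0 α = Cochain.ofHom (ψ ≫ u))

lemma exactAt_cone_desc (j : ℤ) (hS : IsZero (S.X (j + 2)))
    (hsurj : ∀ (A : C) (a : A ⟶ E.X (j + 1)) (b : A ⟶ F.X j), a ≫ E.d (j + 1) (j + 2) = 0 →
      a ≫ u.f (j + 1) + b ≫ F.d j (j + 1) = 0 →
      ∃ (A' : C) (π : A' ⟶ A) (_ : Epi π) (l : A' ⟶ S.X (j + 1)) (e : A' ⟶ E.X j)
        (f : A' ⟶ F.X (j - 1)),
        π ≫ a = l ≫ ψ.f (j + 1) - e ≫ E.d j (j + 1) ∧
        π ≫ b = - l ≫ α.v (j + 1) j (by lia) + e ≫ u.f j + f ≫ F.d (j - 1) j) :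
    (mappingCone (mappingCone.desc ψ α u hα)).ExactAt j := by
  rw [exactAt_iff_exact_up_to_refinements _ (j - 1) j (j + 1) (by simp) (by simp)]
  intro A x hx
  obtain ⟨x₁, y, rfl⟩ := mappingCone.decomp_to (mappingCone.desc ψ α u hα) x (j + 1) rfl
  obtain ⟨s, e, rfl⟩ := mappingCone.decomp_to ψ x₁ (j + 2) (by lia)
  obtain rfl : s = 0 := hS.eq_of_tgt _ _
  simp only [zero_comp, zero_add] at hx ⊢
  have h1 : e ≫ E.d (j + 1) (j + 2) = 0 := by
    have := (hx =≫ (mappingCone.fst (mappingCone.desc ψ α u hα)).1.v (j + 1) (j + 2) (by lia))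
      =≫ (mappingCone.snd ψ).v (j + 2) (j + 2) (add_zero _)
    simpa [mappingCone.d_fst_v (mappingCone.desc ψ α u hα) j (j + 1) (j + 2) rfl (by lia)]
      using this
  have h2 : e ≫ u.f (j + 1) + y ≫ F.d j (j + 1) = 0 := by
    have := hx =≫ (mappingCone.snd (mappingCone.desc ψ α u hα)).v (j + 1) (j + 1) (add_zero _)
    simpa [mappingCone.d_snd_v (mappingCone.desc ψ α u hα) j (j + 1) rfl] using this
  obtain ⟨A', π, hπ, l, e₀, f, hl1, hl2⟩ := hsurj A e y h1 h2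
  refine ⟨A', π, hπ, ((-l) ≫ (mappingCone.inl ψ).v (j + 1) j (by lia) +
    e₀ ≫ (mappingCone.inr ψ).f j) ≫
      (mappingCone.inl (mappingCone.desc ψ α u hα)).v j (j - 1) (by lia) +
    f ≫ (mappingCone.inr (mappingCone.desc ψ α u hα)).f (j - 1), ?_⟩
  rw [mappingCone.ext_to_iff _ j (j + 1) rfl]
  constructor
  · rw [mappingCone.ext_to_iff ψ (j + 1) (j + 2) (by lia)]
    constructor
    · exact hS.eq_of_tgt _ _
    · simp [mappingCone.d_fst_v (mappingCone.desc ψ α u hα) (j - 1) j (j + 1) (by lia) rfl,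
        mappingCone.d_snd_v ψ j (j + 1) rfl, hl1]
      abel
  · simp [mappingCone.d_snd_v (mappingCone.desc ψ α u hα) (j - 1) j (by lia), hl2]

omit ψ α hα in
lemma cycle_cone (j : ℤ) {A : C} (a : A ⟶ E.X (j + 1)) (b : A ⟶ F.X j)
    (ha : a ≫ E.d (j + 1) (j + 2) = 0) (hab : a ≫ u.f (j + 1) + b ≫ F.d j (j + 1) = 0) :
    (a ≫ (mappingCone.inl u).v (j + 1) j (by lia) + b ≫ (mappingCone.inr u).f j) ≫
      (mappingCone u).d j (j + 1) = 0 := by
  rw [mappingCone.ext_to_iff u (j + 1) (j + 2) (by lia)]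
  constructor
  · simp [mappingCone.d_fst_v u j (j + 1) (j + 2) rfl (by lia), ha]
  · simp [mappingCone.d_snd_v u j (j + 1) rfl, hab]

omit ψ α hα in
lemma hsurj_of_exactAt (j : ℤ) (h : (mappingCone u).ExactAt j) {A : C}
    (a : A ⟶ E.X (j + 1)) (b : A ⟶ F.X j)
    (ha : a ≫ E.d (j + 1) (j + 2) = 0) (hab : a ≫ u.f (j + 1) + b ≫ F.d j (j + 1) = 0) :
    ∃ (A' : C) (π : A' ⟶ A) (_ : Epi π) (e : A' ⟶ E.X j) (f : A' ⟶ F.X (j - 1)),
      π ≫ a = - e ≫ E.d j (j + 1) ∧ π ≫ b = e ≫ u.f j + f ≫ F.d (j - 1) j := by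
  rw [exactAt_iff_exact_up_to_refinements _ (j - 1) j (j + 1) (by simp) (by simp)] at h
  obtain ⟨A', π, hπ, x₁, hx₁⟩ := h _ (cycle_cone u j a b ha hab)
  refine ⟨A', π, hπ, x₁ ≫ (mappingCone.fst u).1.v (j - 1) j (by lia),
    x₁ ≫ (mappingCone.snd u).v (j - 1) (j - 1) (add_zero _), ?_, ?_⟩
  · have := hx₁ =≫ (mappingCone.fst u).1.v j (j + 1) rfl
    simpa [mappingCone.d_fst_v u (j - 1) j (j + 1) (by lia) rfl] using this
  · have := hx₁ =≫ (mappingCone.snd u).v j j (add_zero _)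
    simpa [mappingCone.d_snd_v u (j - 1) j (by lia)] using this

omit ψ α hα in
lemma hsurj_of_epi (n : ℤ) {L : C} (φ : L ⟶ (mappingCone u).cycles n)
    (hφ : Epi (φ ≫ (mappingCone u).homologyπ n)) {A : C}
    (a : A ⟶ E.X (n + 1)) (b : A ⟶ F.X n)
    (ha : a ≫ E.d (n + 1) (n + 2) = 0) (hab : a ≫ u.f (n + 1) + b ≫ F.d n (n + 1) = 0) :
    ∃ (A' : C) (π : A' ⟶ A) (_ : Epi π) (l : A' ⟶ L) (e : A' ⟶ E.X n) (f : A' ⟶ F.X (n - 1)),
      π ≫ a = l ≫ (φ ≫ (mappingCone u).iCycles n ≫ (mappingCone.fst u).1.v n (n + 1) rfl)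
        - e ≫ E.d n (n + 1) ∧
      π ≫ b = l ≫ (φ ≫ (mappingCone u).iCycles n ≫ (mappingCone.snd u).v n n (add_zero _))
        + e ≫ u.f n + f ≫ F.d (n - 1) n := by
  have hz := cycle_cone u n a b ha hab
  obtain ⟨A₁, π₁, hπ₁, l, hl⟩ := surjective_up_to_refinements_of_epi
    (φ ≫ (mappingCone u).homologyπ n)
    ((mappingCone u).liftCycles _ (n + 1) (by simp) hz ≫ (mappingCone u).homologyπ n)
  have hl' : (π₁ ≫ (mappingCone u).liftCycles _ (n + 1) (by simp) hz - l ≫ φ) ≫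
      (mappingCone u).homologyπ n = 0 := by
    rw [Preadditive.sub_comp, Category.assoc, Category.assoc, hl, sub_self]
  rw [comp_homologyπ_eq_zero_iff_up_to_refinements _ (n - 1) n (by simp)] at hl'
  obtain ⟨A₂, π₂, hπ₂, x₁, hx₁⟩ := hl'
  replace hx₁ := hx₁ =≫ (mappingCone u).iCycles n
  simp only [Preadditive.comp_sub, Preadditive.sub_comp, Category.assoc, liftCycles_i,
    toCycles_i] at hx₁
  refine ⟨A₂, π₂ ≫ π₁, epi_comp _ _, π₂ ≫ l, x₁ ≫ (mappingCone.fst u).1.v (n - 1) n (by lia),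
    x₁ ≫ (mappingCone.snd u).v (n - 1) (n - 1) (add_zero _), ?_, ?_⟩
  · have := hx₁ =≫ (mappingCone.fst u).1.v n (n + 1) rfl
    simp only [Preadditive.comp_sub, Preadditive.sub_comp, Preadditive.add_comp,
      Preadditive.comp_add, Category.assoc, mappingCone.inl_v_fst_v, mappingCone.inr_f_fst_v,
      comp_zero, add_zero, Category.comp_id,
      mappingCone.d_fst_v u (n - 1) n (n + 1) (by lia) rfl, Preadditive.comp_neg] at this
    rw [Category.assoc, Category.assoc, sub_eq_iff_eq_add.1 this]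
    simp only [Category.assoc]
    abel
  · have := hx₁ =≫ (mappingCone.snd u).v n n (add_zero _)
    simp only [Preadditive.comp_sub, Preadditive.sub_comp, Preadditive.add_comp,
      Preadditive.comp_add, Category.assoc, mappingCone.inl_v_snd_v, mappingCone.inr_f_snd_v,
      comp_zero, zero_add, Category.comp_id,
      mappingCone.d_snd_v u (n - 1) n (by lia)] at this
    rw [Category.assoc, Category.assoc, sub_eq_iff_eq_add.1 this]
    simp only [Category.assoc]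
    abel

theorem attach_aux (n : ℤ) (hS : ∀ j : ℤ, j ≠ n + 1 → IsZero (S.X j)) (hu : IsNQI (n + 1) u)
    (hsurj : ∀ (A : C) (a : A ⟶ E.X (n + 1)) (b : A ⟶ F.X n), a ≫ E.d (n + 1) (n + 2) = 0 →
      a ≫ u.f (n + 1) + b ≫ F.d n (n + 1) = 0 →
      ∃ (A' : C) (π : A' ⟶ A) (_ : Epi π) (l : A' ⟶ S.X (n + 1)) (e : A' ⟶ E.X n)
        (f : A' ⟶ F.X (n - 1)),
        π ≫ a = l ≫ ψ.f (n + 1) - e ≫ E.d n (n + 1) ∧
        π ≫ b = - l ≫ α.v (n + 1) n (by lia) + e ≫ u.f n + f ≫ F.d (n - 1) n) :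
    (∀ i : ℤ, Mono ((mappingCone.inr ψ).f i)) ∧
    (∀ i : ℤ, i ≠ n → IsIso ((mappingCone.inr ψ).f i)) ∧
    Nonempty (cokernel ((mappingCone.inr ψ).f n) ≅ S.X (n + 1)) ∧
    Nonempty ((mappingCone ψ).X n ≅ S.X (n + 1) ⊞ E.X n) ∧
    IsNQI n (mappingCone.desc ψ α u hα) := by
  refine ⟨?_, ?_, ?_, ?_, ?_⟩
  · intro i
    exact mono_of_mono_fac (mappingCone.inr_f_snd_v ψ i)
  · intro i hi
    refine ⟨(mappingCone.snd ψ).v i i (add_zero _), mappingCone.inr_f_snd_v ψ i, ?_⟩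
    rw [← mappingCone.id_X ψ i (i + 1) rfl]
    have : (mappingCone.fst ψ).1.v i (i + 1) rfl = 0 := (hS (i + 1) (by lia)).eq_of_tgt _ _
    rw [this, zero_comp, zero_add]
  · refine ⟨⟨cokernel.desc _ ((mappingCone.fst ψ).1.v n (n + 1) rfl) (by simp),
      (mappingCone.inl ψ).v (n + 1) n (by lia) ≫ cokernel.π _, ?_, ?_⟩⟩
    · rw [← cancel_epi (cokernel.π _)]
      simp only [cokernel.π_desc_assoc, Category.comp_id]
      have h1 := mappingCone.id_X ψ n (n + 1) rfl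
      have h2 : (mappingCone.fst ψ).1.v n (n + 1) rfl ≫ (mappingCone.inl ψ).v (n + 1) n (by lia) =
          𝟙 _ - (mappingCone.snd ψ).v n n (add_zero n) ≫ (mappingCone.inr ψ).f n :=
        eq_sub_of_add_eq h1
      rw [reassoc_of% h2, Preadditive.sub_comp, Category.id_comp, Category.assoc,
        cokernel.condition, comp_zero, sub_zero]
    · simp
  · refine ⟨⟨biprod.lift ((mappingCone.fst ψ).1.v n (n + 1) rfl)
        ((mappingCone.snd ψ).v n n (add_zero _)),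
      biprod.desc ((mappingCone.inl ψ).v (n + 1) n (by lia)) ((mappingCone.inr ψ).f n), ?_, ?_⟩⟩
    · simp [mappingCone.id_X ψ n (n + 1) rfl]
    · ext <;> simp
  · refine isNQI_of_isZero_homology_cone _ (fun j hj => ?_)
    rw [← exactAt_iff_isZero_homology]
    refine exactAt_cone_desc ψ u α hα j (hS _ (by lia)) (fun A a b ha hab => ?_)
    obtain rfl | hj' := hj.eq_or_lt
    · exact hsurj A a b ha hab
    · have hex : (mappingCone u).ExactAt j := by
        rw [exactAt_iff_isZero_homology]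
        exact isZero_homology_cone_of_isNQI u hu j (by lia)
      obtain ⟨A', π, hπ, e, f, h1, h2⟩ := hsurj_of_exactAt u j hex a b ha hab
      refine ⟨A', π, hπ, 0, e, f, ?_, ?_⟩
      · rw [h1]; simp
      · rw [h2]; simp

end Attach

section Main

variable {P : ObjectProperty C}

theorem attach (hql : PCoh.IsQuasiLiftable P) (n : ℤ) {E F : CochainComplex C ℤ} (u : E ⟶ F)
    (hu : IsNQI (n + 1) u)
    (hcone : PCoh.IsOfFiniteType P ((mappingCone u).homology n)) :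
    ∃ (L : C) (_ : P L) (E' : CochainComplex C ℤ) (v : E ⟶ E') (u' : E' ⟶ F), v ≫ u' = u ∧
      (∀ i : ℤ, Mono (v.f i)) ∧ (∀ i : ℤ, i ≠ n → IsIso (v.f i)) ∧
      Nonempty (cokernel (v.f n) ≅ L) ∧ Nonempty (E'.X n ≅ L ⊞ E.X n) ∧ IsNQI n u' := by
  obtain ⟨L, φ, hL, hφ⟩ := exists_refine hql ((mappingCone u).homologyπ n) hcone
  let a₀ : L ⟶ E.X (n + 1) :=
    φ ≫ (mappingCone u).iCycles n ≫ (mappingCone.fst u).1.v n (n + 1) rfl
  let b₀ : L ⟶ F.X n :=
    φ ≫ (mappingCone u).iCycles n ≫ (mappingCone.snd u).v n n (add_zero _)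
  have ha₀ : a₀ ≫ E.d (n + 1) (n + 2) = 0 := by
    have := (mappingCone u).iCycles_d n (n + 1) =≫
      (mappingCone.fst u).1.v (n + 1) (n + 2) (by lia)
    rw [Category.assoc, mappingCone.d_fst_v u n (n + 1) (n + 2) rfl (by lia)] at this
    simp only [Preadditive.neg_comp, Preadditive.comp_neg, zero_comp, neg_eq_zero] at this
    simp only [a₀, Category.assoc, this, comp_zero]
  have hab₀ : a₀ ≫ u.f (n + 1) + b₀ ≫ F.d n (n + 1) = 0 := by
    have := (mappingCone u).iCycles_d n (n + 1) =≫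
      (mappingCone.snd u).v (n + 1) (n + 1) (add_zero _)
    rw [Category.assoc, mappingCone.d_snd_v u n (n + 1) rfl] at this
    simp only [Preadditive.comp_add, zero_comp] at this
    simp only [a₀, b₀, Category.assoc, ← Preadditive.comp_add, this, comp_zero]
  have hα : δ (-1) 0 (Cochain.fromSingleMk (-b₀) (show (n + 1) + (-1) = n by lia)) =
      Cochain.ofHom ((Cocycle.homOf (Cocycle.fromSingleMk a₀ (add_zero (n + 1)) (n + 2)
        (by lia) ha₀)) ≫ u) := by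
    rw [Cochain.δ_fromSingleMk _ _ 0 (n + 1) (add_zero _), Cochain.ofHom_comp,
      Cocycle.cochain_ofHom_homOf_eq_coe, Cocycle.fromSingleMk_coe,
      ← Cochain.fromSingleMk_postcomp]
    congr 1
    rw [Preadditive.neg_comp, neg_eq_iff_add_eq_zero]
    exact (add_comm _ _).trans hab₀
  obtain ⟨h1, h2, ⟨e3⟩, ⟨e4⟩, h5⟩ := attach_aux
    (Cocycle.homOf (Cocycle.fromSingleMk a₀ (add_zero (n + 1)) (n + 2) (by lia) ha₀)) u
    (Cochain.fromSingleMk (-b₀) (show (n + 1) + (-1) = n by lia)) hα n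
    (fun j hj => isZero_single_obj_X _ _ _ _ hj) hu (fun A a b ha hab => by
      obtain ⟨A', π, hπ, l, e, f, h1, h2⟩ := hsurj_of_epi u n φ hφ a b ha hab
      refine ⟨A', π, hπ, l ≫ (singleObjXSelf (.up ℤ) (n + 1) L).inv, e, f, ?_, ?_⟩
      · rw [h1]
        simp [a₀]
        erw [Iso.inv_hom_id_assoc]
      · rw [h2]
        simp [b₀]
        erw [Iso.inv_hom_id_assoc])
  exact ⟨L, hL, _, _, _, mappingCone.inr_desc _ _ _ _, h1, h2,
    ⟨e3 ≪≫ singleObjXSelf (.up ℤ) (n + 1) L⟩,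
    ⟨e4 ≪≫ biprod.mapIso (singleObjXSelf (.up ℤ) (n + 1) L) (Iso.refl _)⟩, h5⟩

end Main

end Groth.Agent.Helper3.PCohD
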