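import Mathlib
import Groth.Prelude.Def_PCoh
import Groth.Agent.Lib.Helper3.PCohD
import Groth.Agent.Lib.Helper3.PCohC

/-!
# Pseudo-coherence: resolutions, roofs, triangles
-/

open CategoryTheory Limits HomologicalComplex CochainComplex HomComplex ZeroObject

universe w v u

namespace Groth.Agent.Helper3.PCohE

open Groth.Agent.Helper3.PCohA Groth.Agent.Helper3.PCohB Groth.Agent.Helper3.PCohD

variable {C : Type u} [Category.{v} C] [Abelian C]

section Shift

variable {P : ObjectProperty C}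

lemma isStrictPC_shift {n : ℤ} {E : CochainComplex C ℤ} (hE : PCoh.IsStrictPC P n E) (m : ℤ) :
    PCoh.IsStrictPC P (n - m) (E⟦m⟧) := by
  obtain ⟨⟨b, hb⟩, h⟩ := hE
  refine ⟨⟨b - m, fun i hi => ?_⟩, fun i hi => ?_⟩
  · exact hb (i + m) (by lia)
  · exact h (i + m) (by lia)

/-- `n`-pseudo-coherent objects of the derived category -/
def IsNPC [HasDerivedCategory.{w} C] (P : ObjectProperty C) (n : ℤ) (F : DerivedCategory C) : Prop :=
  ∃ E : CochainComplex C ℤ, PCoh.IsStrictPC P n E ∧ Nonempty (DerivedCategory.Q.obj E ≅ F)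

lemma isNPC_shift [HasDerivedCategory.{w} C] {n : ℤ} {F : DerivedCategory C} (hF : IsNPC P n F) (m : ℤ) :
    IsNPC P (n - m) (F⟦m⟧) := by
  obtain ⟨E, hE, ⟨e⟩⟩ := hF
  exact ⟨E⟦m⟧, isStrictPC_shift hE m,
    ⟨(DerivedCategory.Q.commShiftIso m).app E ≪≫ (CategoryTheory.shiftFunctor _ m).mapIso e⟩⟩

end Shift

section Cone

/-- the terms of a mapping cone -/
noncomputable def coneXIso {K L : CochainComplex C ℤ} (φ : K ⟶ L) (i : ℤ) :
    (mappingCone φ).X i ≅ K.X (i + 1) ⊞ L.X i where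
  hom := biprod.lift ((mappingCone.fst φ).1.v i (i + 1) rfl)
    ((mappingCone.snd φ).v i i (add_zero _))
  inv := biprod.desc ((mappingCone.inl φ).v (i + 1) i (by lia)) ((mappingCone.inr φ).f i)
  hom_inv_id := by simp [mappingCone.id_X φ i (i + 1) rfl]
  inv_hom_id := by ext <;> simp

variable {P : ObjectProperty C} [P.IsClosedUnderIsomorphisms]
  (hsum : ∀ X Y : C, P X → P Y → P (X ⨯ Y))

include hsum in
lemma isStrictPC_cone {k : ℤ} {K L : CochainComplex C ℤ} (φ : K ⟶ L)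
    (hK : PCoh.IsStrictPC P (k + 1) K) (hL : PCoh.IsStrictPC P k L) :
    PCoh.IsStrictPC P k (mappingCone φ) := by
  obtain ⟨⟨b₁, hb₁⟩, h₁⟩ := hK
  obtain ⟨⟨b₂, hb₂⟩, h₂⟩ := hL
  refine ⟨⟨max b₁ b₂, fun i hi => ?_⟩, fun i hi => ?_⟩
  · rw [mappingCone.isZero_X_iff]
    exact ⟨hb₁ _ (by have := le_max_left b₁ b₂; lia), hb₂ _ (by have := le_max_right b₁ b₂; lia)⟩
  · exact P.prop_of_iso (coneXIso φ i).symm (prop_biprod hsum (h₁ _ (by lia)) (h₂ _ hi))

end Cone

section Resolve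

variable {P : ObjectProperty C} [P.IsClosedUnderIsomorphisms] [P.ContainsZero]
  (hsum : ∀ X Y : C, P X → P Y → P (X ⨯ Y))
  (hqs : PCoh.IsQuasiStableUnderKernels P) (hql : PCoh.IsQuasiLiftable P)

include hsum hqs hql in
/-- one step of the inductive construction of a resolution -/
lemma resolve_step {E F : CochainComplex C ℤ} (u : E ⟶ F) [QuasiIso u] (k : ℤ)
    (hF : PCoh.IsStrictPC P k F) {G : CochainComplex C ℤ} (w : G ⟶ E)
    (hG : PCoh.IsStrictPC P (k + 1) G) (hw : IsNQI (k + 1) w) :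
    ∃ (L : C) (_ : P L) (G' : CochainComplex C ℤ) (v : G ⟶ G') (w' : G' ⟶ E), v ≫ w' = w ∧
      (∀ i : ℤ, Mono (v.f i)) ∧ (∀ i : ℤ, i ≠ k → IsIso (v.f i)) ∧
      Nonempty (cokernel (v.f k) ≅ L) ∧ Nonempty (G'.X k ≅ L ⊞ G.X k) ∧ IsNQI k w' := by
  apply attach hql k w hw
  have h1 : PCoh.IsStrictPC P k (mappingCone (w ≫ u)) := isStrictPC_cone hsum _ hG hF
  have h2 : ∀ i : ℤ, k < i → IsZero ((mappingCone (w ≫ u)).homology i) := fun i hi =>
    isZero_homology_cone_of_isNQI _ (hw.comp_quasiIso u) i (by lia)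
  have h3 := PCohC.isOfFiniteType_homology P hqs k _ h1 h2
  have : QuasiIso (mappingCone.map w (w ≫ u) (𝟙 G) u (by simp)) :=
    quasiIso_cone_map _ _ _ _ _
  exact isOfFiniteType_of_iso
    (asIso (homologyMap (mappingCone.map w (w ≫ u) (𝟙 G) u (by simp)) k)).symm h3

omit [P.IsClosedUnderIsomorphisms] [P.ContainsZero] in
lemma isZero_homology_of_isZero_X (K : CochainComplex C ℤ) (i : ℤ) (h : IsZero (K.X i)) :
    IsZero (K.homology i) := by
  rw [← exactAt_iff_isZero_homology]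
  exact ExactAt.of_isZero h

omit [P.IsClosedUnderIsomorphisms] [P.ContainsZero] in
/-- the zero map to a complex acyclic in degrees `≥ k` is a `k`-quasi-isomorphism -/
lemma isNQI_zero (k : ℤ) (G E : CochainComplex C ℤ) (hG : ∀ i, k ≤ i → IsZero (G.homology i))
    (hE : ∀ i, k ≤ i → IsZero (E.homology i)) (w : G ⟶ E) : IsNQI k w := by
  refine ⟨fun i hi => ?_, ?_⟩
  · exact ⟨0, (hG i hi.le).eq_of_src _ _, (hE i hi.le).eq_of_src _ _⟩
  · exact ⟨fun _ _ _ => (hE k le_rfl).eq_of_src _ _⟩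

include hsum hqs hql in
/-- approximation by a strictly perfect complex -/
theorem exists_perfect_approx {E F : CochainComplex C ℤ} (u : E ⟶ F) [QuasiIso u] (n : ℤ)
    (hF : PCoh.IsStrictPC P n F) :
    ∃ (G : CochainComplex C ℤ) (w : G ⟶ E) (b : ℤ), (∀ i : ℤ, P (G.X i)) ∧
      (∀ i : ℤ, i < n ∨ b < i → IsZero (G.X i)) ∧ IsNQI n w := by
  obtain ⟨b₀, hb₀⟩ := hF.1
  let b := max b₀ n
  have hbn : n ≤ b := le_max_right _ _
  have hb : ∀ i : ℤ, b < i → IsZero (F.X i) := fun i hi =>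
    hb₀ i (lt_of_le_of_lt (le_max_left _ _) hi)
  have hE : ∀ i : ℤ, b < i → IsZero (E.homology i) := fun i hi =>
    (isZero_homology_of_isZero_X F i (hb i hi)).of_iso (asIso (homologyMap u i))
  have key : ∀ m : ℕ, n ≤ b + 1 - m → ∃ (G : CochainComplex C ℤ) (w : G ⟶ E),
      (∀ i : ℤ, P (G.X i)) ∧ (∀ i : ℤ, i < b + 1 - m ∨ b < i → IsZero (G.X i)) ∧
      IsNQI (b + 1 - m) w := by
    intro m
    induction m with
    | zero =>
      intro _
      have hz : ∀ i : ℤ, IsZero ((0 : CochainComplex C ℤ).X i) := fun i =>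
        (eval C (ComplexShape.up ℤ) i).map_isZero (Limits.isZero_zero _)
      refine ⟨0, 0, fun i => P.prop_of_isZero (hz i), fun i _ => hz i, ?_⟩
      apply isNQI_zero
      · intro i _
        exact isZero_homology_of_isZero_X _ _ (hz i)
      · intro i hi
        exact hE i (by simp at hi; lia)
    | succ m ih =>
      intro hm
      obtain ⟨G, w, hGP, hGz, hw⟩ := ih (by push_cast at hm; lia)
      have hk : b + 1 - (m : ℤ) = (b - m) + 1 := by ring
      rw [hk] at hw hGz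
      have hG : PCoh.IsStrictPC P ((b - m) + 1) G := ⟨⟨b, fun i hi => hGz i (Or.inr hi)⟩, fun i _ => hGP i⟩
      have hF' : PCoh.IsStrictPC P (b - m) F := ⟨hF.1, fun i hi => hF.2 i (by push_cast at hm; lia)⟩
      obtain ⟨L, hL, G', v, w', hvw, hmono, hiso, _, ⟨e⟩, hw'⟩ :=
        resolve_step hsum hqs hql u (b - m) hF' w hG hw
      have hk' : b + 1 - ((m + 1 : ℕ) : ℤ) = b - m := by push_cast; ring
      rw [hk']
      refine ⟨G', w', fun i => ?_, fun i hi => ?_, hw'⟩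
      · by_cases hi : i = b - m
        · subst hi
          exact P.prop_of_iso e.symm (prop_biprod hsum hL (hGP _))
        · have := hiso i hi
          exact P.prop_of_iso (asIso (v.f i)) (hGP i)
      · have hne : i ≠ b - m := by rcases hi with hi | hi <;> lia
        have := hiso i hne
        exact (hGz i (by rcases hi with hi | hi; exacts [Or.inl (by lia), Or.inr hi])).of_iso
          (asIso (v.f i)).symm
  obtain ⟨G, w, h1, h2, h3⟩ := key (b + 1 - n).toNat (by lia)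
  have hk : b + 1 - ((b + 1 - n).toNat : ℤ) = n := by lia
  rw [hk] at h2 h3
  exact ⟨G, w, b, h1, h2, h3⟩

omit [P.ContainsZero] in
lemma isStrictPC_of_isIso_f {n m : ℤ} (hmn : m ≤ n) {G G' : CochainComplex C ℤ} (v : G ⟶ G')
    (hv : ∀ i : ℤ, m ≤ i → IsIso (v.f i)) (hG : PCoh.IsStrictPC P n G) :
    PCoh.IsStrictPC P n G' := by
  obtain ⟨⟨b, hb⟩, h⟩ := hG
  refine ⟨⟨max b m, fun i hi => ?_⟩, fun i hi => ?_⟩
  · have := hv i (by have := le_max_right b m; lia)
    exact (hb i (by have := le_max_left b m; lia)).of_iso (asIso (v.f i)).symm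
  · have := hv i (by lia)
    exact P.prop_of_iso (asIso (v.f i)) (h i hi)

omit [P.IsClosedUnderIsomorphisms] [P.ContainsZero] in
lemma isStrictPC_of_le {n m : ℤ} (hnm : n ≤ m) {G : CochainComplex C ℤ}
    (hG : PCoh.IsStrictPC P n G) : PCoh.IsStrictPC P m G :=
  ⟨hG.1, fun i hi => hG.2 i (by lia)⟩

omit [P.ContainsZero] in
/-- if a strictly `n`-pseudo-coherent complex maps to `X` by an `n`-quasi-isomorphism, then `X` is
quasi-isomorphic to a strictly `n`-pseudo-coherent complex -/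
lemma exists_strictPC_qis_of_isNQI {n : ℤ} {G X : CochainComplex C ℤ} (w : G ⟶ X)
    (hG : PCoh.IsStrictPC P n G) (hw : IsNQI n w) :
    ∃ (G' : CochainComplex C ℤ) (v : G ⟶ G') (w' : G' ⟶ X), v ≫ w' = w ∧
      PCoh.IsStrictPC P n G' ∧ QuasiIso w' ∧ (∀ i : ℤ, Mono (v.f i)) ∧
      (∀ i : ℤ, n ≤ i → IsIso (v.f i)) := by
  obtain ⟨G', v, w', h1, h2, h3, h4⟩ := exists_factor_of_isNQI n w hw
  exact ⟨G', v, w', h1, isStrictPC_of_isIso_f le_rfl v h4 hG, h2, h3, h4⟩

include hsum hqs hql in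
/-- Lemma A: a complex quasi-isomorphic to a strictly `n`-pseudo-coherent complex receives a
quasi-isomorphism from a strictly `n`-pseudo-coherent complex -/
theorem exists_strictPC_qis {E F : CochainComplex C ℤ} (u : E ⟶ F) [QuasiIso u] (n : ℤ)
    (hF : PCoh.IsStrictPC P n F) :
    ∃ (F' : CochainComplex C ℤ) (v : F' ⟶ E), PCoh.IsStrictPC P n F' ∧ QuasiIso v := by
  obtain ⟨G, w, b, h1, h2, h3⟩ := exists_perfect_approx hsum hqs hql u n hF
  have hG : PCoh.IsStrictPC P n G := ⟨⟨b, fun i hi => h2 i (Or.inr hi)⟩, fun i _ => h1 i⟩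
  obtain ⟨G', v, w', _, hG', hw', _, _⟩ := exists_strictPC_qis_of_isNQI w hG h3
  exact ⟨G', w', hG', hw'⟩

end Resolve

section Derived

open DerivedCategory

variable [HasDerivedCategory.{w} C]

lemma isIso_homologyFunctor_map_Q_iff {E F : CochainComplex C ℤ} (f : E ⟶ F) (i : ℤ) :
    IsIso ((DerivedCategory.homologyFunctor C i).map (Q.map f)) ↔ IsIso (homologyMap f i) :=
  NatIso.isIso_map_iff (homologyFunctorFactors C i) f

/-- comparison of arrows -/
noncomputable def homologyArrowIso {E F : CochainComplex C ℤ} (f : E ⟶ F) (i : ℤ) :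
    Arrow.mk ((DerivedCategory.homologyFunctor C i).map (Q.map f)) ≅ Arrow.mk (homologyMap f i) :=
  Arrow.isoMk ((homologyFunctorFactors C i).app E) ((homologyFunctorFactors C i).app F)
    ((homologyFunctorFactors C i).hom.naturality f).symm

lemma epi_homologyFunctor_map_Q_iff {E F : CochainComplex C ℤ} (f : E ⟶ F) (i : ℤ) :
    Epi ((DerivedCategory.homologyFunctor C i).map (Q.map f)) ↔ Epi (homologyMap f i) :=
  (MorphismProperty.epimorphisms C).arrow_mk_iso_iff (homologyArrowIso f i)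

lemma isZero_homologyFunctor_Q_iff (E : CochainComplex C ℤ) (i : ℤ) :
    IsZero ((DerivedCategory.homologyFunctor C i).obj (Q.obj E)) ↔ IsZero (E.homology i) :=
  ((homologyFunctorFactors C i).app E).isZero_iff

variable {P : ObjectProperty C} [P.IsClosedUnderIsomorphisms] [P.ContainsZero]
  (hsum : ∀ X Y : C, P X → P Y → P (X ⨯ Y))
  (hqs : PCoh.IsQuasiStableUnderKernels P) (hql : PCoh.IsQuasiLiftable P)

omit [P.IsClosedUnderIsomorphisms] [P.ContainsZero] in
lemma IsNPC.of_iso {n : ℤ} {F F' : DerivedCategory C} (e : F ≅ F') (hF : IsNPC P n F) :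
    IsNPC P n F' := by
  obtain ⟨E, hE, ⟨e'⟩⟩ := hF
  exact ⟨E, hE, ⟨e' ≪≫ e⟩⟩

omit [P.IsClosedUnderIsomorphisms] [P.ContainsZero] in
lemma IsNPC.of_le {n m : ℤ} (hnm : n ≤ m) {F : DerivedCategory C} (hF : IsNPC P n F) :
    IsNPC P m F := by
  obtain ⟨E, hE, ⟨e'⟩⟩ := hF
  exact ⟨E, isStrictPC_of_le hnm hE, ⟨e'⟩⟩

include hsum hqs hql in
/-- roofs with strictly `n`-pseudo-coherent apex -/
theorem exists_roof {n : ℤ} {E X : CochainComplex C ℤ} (hE : PCoh.IsStrictPC P n E)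
    (α : Q.obj E ⟶ Q.obj X) :
    ∃ (G : CochainComplex C ℤ) (s : G ⟶ E) (f : G ⟶ X), PCoh.IsStrictPC P n G ∧ QuasiIso s ∧
      Q.map s ≫ α = Q.map f := by
  obtain ⟨X', s, hs, g, rfl⟩ := right_fac α
  rw [isIso_Q_map_iff_quasiIso] at hs
  obtain ⟨G, t, hG, ht⟩ := exists_strictPC_qis hsum hqs hql s n hE
  refine ⟨G, t ≫ s, t ≫ g, hG, inferInstance, ?_⟩
  rw [Q.map_comp, Q.map_comp, Category.assoc, IsIso.hom_inv_id_assoc]

include hsum hqs hql in
theorem exists_strictPC_qis_of_isNPC {n : ℤ} (X : CochainComplex C ℤ)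
    (hX : IsNPC P n (Q.obj X)) :
    ∃ (G : CochainComplex C ℤ) (g : G ⟶ X), PCoh.IsStrictPC P n G ∧ QuasiIso g := by
  obtain ⟨F₀, hF₀, ⟨e⟩⟩ := hX
  obtain ⟨G, s, f, hG, hs, hf⟩ := exists_roof hsum hqs hql hF₀ e.hom
  refine ⟨G, f, hG, ?_⟩
  have : IsIso (Q.map s) := by rw [isIso_Q_map_iff_quasiIso]; exact hs
  rw [← isIso_Q_map_iff_quasiIso, ← hf]
  infer_instance

include hsum hqs hql in
/-- the third vertex of a distinguished triangle -/
theorem isNPC_obj₃ (n : ℤ) (T : Pretriangulated.Triangle (DerivedCategory C))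
    (hT : T ∈ distTriang _) (h₁ : IsNPC P (n + 1) T.obj₁) (h₂ : IsNPC P n T.obj₂) :
    IsNPC P n T.obj₃ := by
  obtain ⟨E₁, hE₁, ⟨e₁⟩⟩ := h₁
  obtain ⟨E₂, hE₂, ⟨e₂⟩⟩ := h₂
  obtain ⟨G, s, f, hG, hs, hf⟩ := exists_roof hsum hqs hql hE₁ (e₁.hom ≫ T.mor₁ ≫ e₂.inv)
  have hs' : IsIso (Q.map s) := by rw [isIso_Q_map_iff_quasiIso]; exact hs
  let e₀ : Q.obj G ≅ Q.obj E₁ := asIso (Q.map s)
  refine ⟨mappingCone f, isStrictPC_cone hsum f hG hE₂, ⟨?_⟩⟩
  have hT' := mappingCone_triangle_distinguished f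
  exact Pretriangulated.Triangle.π₃.mapIso
    (Pretriangulated.isoTriangleOfIso₁₂ _ _ hT' hT (e₀ ≪≫ e₁) e₂ (by
      change Q.map f ≫ e₂.hom = (Q.map s ≫ e₁.hom) ≫ T.mor₁
      rw [← hf]
      simp))

include hsum hqs hql in
/-- the middle vertex of a distinguished triangle -/
theorem isNPC_obj₂ (n : ℤ) (T : Pretriangulated.Triangle (DerivedCategory C))
    (hT : T ∈ distTriang _) (h₁ : IsNPC P n T.obj₁) (h₃ : IsNPC P n T.obj₃) :
    IsNPC P n T.obj₂ := by
  have h := isNPC_obj₃ hsum hqs hql n T.invRotate (Pretriangulated.inv_rot_of_distTriang _ hT)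
  refine h ?_ h₁
  have := isNPC_shift h₃ (-1)
  rwa [sub_neg_eq_add] at this

include hsum hqs hql in
/-- the first vertex of a distinguished triangle -/
theorem isNPC_obj₁ (n : ℤ) (T : Pretriangulated.Triangle (DerivedCategory C))
    (hT : T ∈ distTriang _) (h₂ : IsNPC P (n + 1) T.obj₂) (h₃ : IsNPC P n T.obj₃) :
    IsNPC P (n + 1) T.obj₁ := by
  have h := isNPC_obj₃ hsum hqs hql n T.rotate (Pretriangulated.rot_of_distTriang _ hT) h₂ h₃
  have := isNPC_shift h (-1)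
  rw [sub_neg_eq_add] at this
  exact this.of_iso ((shiftEquiv (DerivedCategory C) (1 : ℤ)).unitIso.app T.obj₁).symm

end Derived

end Groth.Agent.Helper3.PCohE
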