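import Mathlib
import Groth.Prelude.Def_PCoh
import Groth.Agent.Lib.Helper3.PCohE

/-!
# Pseudo-coherence: criteria and improvement of `i`-quasi-isomorphisms
-/

open CategoryTheory Limits HomologicalComplex CochainComplex HomComplex ZeroObject

universe w v u

namespace Groth.Agent.Helper3.PCohF

open Groth.Agent.Helper3.PCohA Groth.Agent.Helper3.PCohB Groth.Agent.Helper3.PCohD
  Groth.Agent.Helper3.PCohE DerivedCategory

variable {C : Type u} [Category.{v} C] [Abelian C]

section Chain

variable {P : ObjectProperty C} [P.IsClosedUnderIsomorphisms]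
  (hsum : ∀ X Y : C, P X → P Y → P (X ⨯ Y))

include hsum in
lemma isStrictPC_attach {m k : ℤ} {G G' : CochainComplex C ℤ} (v : G ⟶ G')
    (hv : ∀ i : ℤ, i ≠ k → IsIso (v.f i)) {L : C} (hL : P L) (e : G'.X k ≅ L ⊞ G.X k)
    (hG : PCoh.IsStrictPC P m G) : PCoh.IsStrictPC P m G' := by
  obtain ⟨⟨b, hb⟩, h⟩ := hG
  refine ⟨⟨max b k, fun i hi => ?_⟩, fun i hi => ?_⟩
  · have := hv i (by have := le_max_right b k; lia)
    exact (hb i (by have := le_max_left b k; lia)).of_iso (asIso (v.f i)).symm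
  · by_cases hik : i = k
    · subst hik
      exact P.prop_of_iso e.symm (prop_biprod hsum hL (h i hi))
    · have := hv i hik
      exact P.prop_of_iso (asIso (v.f i)) (h i hi)

include hsum in
lemma isStrictPCAll_attach {k : ℤ} {G G' : CochainComplex C ℤ} (v : G ⟶ G')
    (hv : ∀ i : ℤ, i ≠ k → IsIso (v.f i)) {L : C} (hL : P L) (e : G'.X k ≅ L ⊞ G.X k)
    (hG : PCoh.IsStrictPCAll P G) : PCoh.IsStrictPCAll P G' := by
  obtain ⟨⟨b, hb⟩, h⟩ := hG
  refine ⟨⟨max b k, fun i hi => ?_⟩, fun i => ?_⟩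
  · have := hv i (by have := le_max_right b k; lia)
    exact (hb i (by have := le_max_left b k; lia)).of_iso (asIso (v.f i)).symm
  · by_cases hik : i = k
    · subst hik
      exact P.prop_of_iso e.symm (prop_biprod hsum hL (h i))
    · have := hv i hik
      exact P.prop_of_iso (asIso (v.f i)) (h i)

end Chain

section Derived

variable [HasDerivedCategory.{w} C]

variable {P : ObjectProperty C} [P.IsClosedUnderIsomorphisms] [P.ContainsZero]
  (hsum : ∀ X Y : C, P X → P Y → P (X ⨯ Y))
  (hqs : PCoh.IsQuasiStableUnderKernels P) (hql : PCoh.IsQuasiLiftable P)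

include hqs in
omit [P.IsClosedUnderIsomorphisms] [P.ContainsZero] in
/-- top cohomology of an `n`-pseudo-coherent object is of finite type -/
theorem isOfFiniteType_homology_of_isNPC {n m : ℤ} (hnm : n ≤ m) (F : DerivedCategory C)
    (hF : IsNPC P n F)
    (hac : ∀ i : ℤ, m < i → IsZero ((DerivedCategory.homologyFunctor C i).obj F)) :
    PCoh.IsOfFiniteType P ((DerivedCategory.homologyFunctor C m).obj F) := by
  obtain ⟨E, hE, ⟨e⟩⟩ := hF
  have h1 := PCohC.isOfFiniteType_homology P hqs m E (isStrictPC_of_le hnm hE) (fun i hi =>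
    (isZero_homologyFunctor_Q_iff E i).1
      ((hac i hi).of_iso ((DerivedCategory.homologyFunctor C i).mapIso e)))
  exact isOfFiniteType_of_iso (((homologyFunctorFactors C m).app E).symm ≪≫
    (DerivedCategory.homologyFunctor C m).mapIso e) h1

omit [P.ContainsZero] in
theorem isNPC_of_isNQI {n : ℤ} {G X : CochainComplex C ℤ} (w : G ⟶ X)
    (hG : PCoh.IsStrictPC P n G) (hw : IsNQI n w) : IsNPC P n (Q.obj X) := by
  obtain ⟨G', v, w', _, hG', hw', _, _⟩ := exists_strictPC_qis_of_isNQI w hG hw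
  have : IsIso (Q.map w') := by rw [isIso_Q_map_iff_quasiIso]; exact hw'
  exact ⟨G', hG', ⟨asIso (Q.map w')⟩⟩

include hsum hql in
theorem isNPC_of_isOfFiniteType (n : ℤ) (X : CochainComplex C ℤ)
    (hac : ∀ i : ℤ, n < i → IsZero (X.homology i))
    (hft : PCoh.IsOfFiniteType P (X.homology n)) : IsNPC P n (Q.obj X) := by
  have hz : ∀ i : ℤ, IsZero ((0 : CochainComplex C ℤ).X i) := fun i =>
    (eval C (ComplexShape.up ℤ) i).map_isZero (Limits.isZero_zero _)
  let u : (0 : CochainComplex C ℤ) ⟶ X := 0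
  have hu : IsNQI (n + 1) u := isNQI_zero _ _ _
    (fun i _ => isZero_homology_of_isZero_X _ _ (hz i)) (fun i hi => hac i (by lia)) _
  have hcone : PCoh.IsOfFiniteType P ((mappingCone u).homology n) := by
    let _ := HasDerivedCategory.standard C
    have hT := DerivedCategory.mappingCone_triangle_distinguished u
    have h3 := homologyMap_exact₃_of_distTriang _ hT n (n + 1) rfl
    have : Epi (homologyMap (mappingCone.inr u) n) :=
      h3.epi_f ((isZero_homology_of_isZero_X _ _ (hz (n + 1))).eq_of_tgt _ _)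
    exact isOfFiniteType_of_epi (homologyMap (mappingCone.inr u) n) hft
  obtain ⟨L, hL, E', v, u', _, _, hv, _, ⟨e⟩, hu'⟩ := attach hql n u hu hcone
  have h0 : PCoh.IsStrictPC P n (0 : CochainComplex C ℤ) :=
    ⟨⟨n, fun i _ => hz i⟩, fun i _ => P.prop_of_isZero (hz i)⟩
  exact isNPC_of_isNQI u' (isStrictPC_attach hsum v hv hL e h0) hu'

include hsum hqs hql in
/-- S5603 -/
theorem isNPC_iff_isOfFiniteType (n : ℤ) (F : DerivedCategory C)
    (hac : ∀ i : ℤ, n < i → IsZero ((DerivedCategory.homologyFunctor C i).obj F)) :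
    IsNPC P n F ↔ PCoh.IsOfFiniteType P ((DerivedCategory.homologyFunctor C n).obj F) := by
  constructor
  · intro hF
    exact isOfFiniteType_homology_of_isNPC hqs le_rfl F hF hac
  · intro hft
    let e : Q.obj (Q.objPreimage F) ≅ F := Q.objObjPreimageIso F
    refine IsNPC.of_iso e (isNPC_of_isOfFiniteType hsum hql n _ (fun i hi => ?_) ?_)
    · exact (isZero_homologyFunctor_Q_iff _ i).1
        ((hac i hi).of_iso ((DerivedCategory.homologyFunctor C i).mapIso e))
    · exact isOfFiniteType_of_iso ((DerivedCategory.homologyFunctor C n).mapIso e.symm ≪≫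
        (homologyFunctorFactors C n).app _) hft

include hsum hqs hql in
/-- S5598 -/
theorem isNPC_iff_exists_perfect (n : ℤ) (F : DerivedCategory C) :
    IsNPC P n F ↔
      ∃ (E : CochainComplex C ℤ) (a b : ℤ) (α : DerivedCategory.Q.obj E ⟶ F),
        (∀ i : ℤ, i < a ∨ b < i → IsZero (E.X i)) ∧ (∀ i : ℤ, P (E.X i)) ∧
        (∀ i : ℤ, n < i → IsIso ((DerivedCategory.homologyFunctor C i).map α)) ∧
        Epi ((DerivedCategory.homologyFunctor C n).map α) := by
  constructor
  · rintro ⟨F₀, hF₀, ⟨e⟩⟩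
    obtain ⟨G, w, b, h1, h2, h3⟩ := exists_perfect_approx hsum hqs hql (𝟙 F₀) n hF₀
    refine ⟨G, n, b, Q.map w ≫ e.hom, h2, h1, fun i hi => ?_, ?_⟩
    · rw [Functor.map_comp]
      have : IsIso ((DerivedCategory.homologyFunctor C i).map (Q.map w)) := by
        rw [isIso_homologyFunctor_map_Q_iff]
        exact h3.1 i hi
      infer_instance
    · rw [Functor.map_comp]
      have : Epi ((DerivedCategory.homologyFunctor C n).map (Q.map w)) := by
        rw [epi_homologyFunctor_map_Q_iff]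
        exact h3.2
      infer_instance
  · rintro ⟨E, a, b, α, h1, h2, h3, h4⟩
    let e : Q.obj (Q.objPreimage F) ≅ F := Q.objObjPreimageIso F
    obtain ⟨Y', g, s, hs, hfac⟩ := left_fac (α ≫ e.inv)
    have hg : Q.map g = α ≫ e.inv ≫ Q.map s := by
      rw [← Category.assoc, hfac, Category.assoc, IsIso.inv_hom_id, Category.comp_id]
    have hgn : IsNQI n g := by
      refine ⟨fun i hi => ?_, ?_⟩
      · rw [← isIso_homologyFunctor_map_Q_iff, hg, Functor.map_comp]
        have := h3 i hi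
        infer_instance
      · rw [← epi_homologyFunctor_map_Q_iff, hg, Functor.map_comp]
        infer_instance
    have hE : PCoh.IsStrictPC P n E := ⟨⟨b, fun i hi => h1 i (Or.inr hi)⟩, fun i _ => h2 i⟩
    exact (isNPC_of_isNQI g hE hgn).of_iso ((asIso (Q.map s)).symm ≪≫ e)

include hsum hqs hql in
/-- finite type of the top cohomology of the cone of an `(k+1)`-quasi-isomorphism from a strictly
pseudo-coherent complex to a pseudo-coherent one -/
lemma isOfFiniteType_homology_cone {n k : ℤ} (hnk : n ≤ k) {E F : CochainComplex C ℤ}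
    (hE : PCoh.IsStrictPC P (n + 1) E) (hF : IsNPC P n (Q.obj F)) (u : E ⟶ F)
    (hu : IsNQI (k + 1) u) : PCoh.IsOfFiniteType P ((mappingCone u).homology k) := by
  have h3 : IsNPC P n (Q.obj (mappingCone u)) :=
    isNPC_obj₃ hsum hqs hql n _ (mappingCone_triangle_distinguished u) ⟨E, hE, ⟨Iso.refl _⟩⟩ hF
  have h4 := isOfFiniteType_homology_of_isNPC hqs hnk _ h3 (fun j hj =>
    (isZero_homologyFunctor_Q_iff _ j).2 (isZero_homology_cone_of_isNQI u hu j (by lia)))
  exact isOfFiniteType_of_iso ((homologyFunctorFactors C k).app _) h4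

include hsum hqs hql in
/-- Lemma B (S12100) -/
theorem improve (n : ℤ) (F : CochainComplex C ℤ) (hF : IsNPC P n (Q.obj F)) :
    ∀ (m : ℕ) (i : ℤ), i ≤ n + m → ∀ (E : CochainComplex C ℤ) (_ : PCoh.IsStrictPC P n E)
      (u : E ⟶ F) (_ : IsNQI i u),
    ∃ (E' : CochainComplex C ℤ) (v : E ⟶ E') (u' : E' ⟶ F), v ≫ u' = u ∧
      PCoh.IsStrictPC P n E' ∧ QuasiIso u' ∧
      (∀ j : ℤ, Mono (v.f j)) ∧ (∀ j : ℤ, i ≤ j → IsIso (v.f j)) := by
  intro m
  induction m with
  | zero =>
    intro i hi E hE u hu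
    obtain ⟨E', v, u', h1, h2, h3, h4⟩ := exists_factor_of_isNQI i u hu
    exact ⟨E', v, u', h1, isStrictPC_of_isIso_f (by simpa using hi) v h4 hE, h2, h3, h4⟩
  | succ m ih =>
    intro i hi E hE u hu
    by_cases hi' : i ≤ n + m
    · exact ih i hi' E hE u hu
    · obtain ⟨k, rfl⟩ : ∃ k, i = k + 1 := ⟨i - 1, by ring⟩
      have hk : k = n + m := by push_cast at hi; lia
      have hcone := isOfFiniteType_homology_cone hsum hqs hql (by lia : n ≤ k)
        (isStrictPC_of_le (by lia) hE) hF u hu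
      obtain ⟨L, hL, E₁, v₁, u₁, hvu, hmono, hiso, _, ⟨e⟩, hu₁⟩ := attach hql k u hu hcone
      have hE₁ : PCoh.IsStrictPC P n E₁ := isStrictPC_attach hsum v₁ hiso hL e hE
      obtain ⟨E', v', u', h1, h2, h3, h4, h5⟩ := ih k (by lia) E₁ hE₁ u₁ hu₁
      refine ⟨E', v₁ ≫ v', u', by rw [Category.assoc, h1, hvu], h2, h3, fun j => ?_, fun j hj => ?_⟩
      · have := hmono j
        have := h4 j
        rw [HomologicalComplex.comp_f]
        exact mono_comp _ _
      · have := hiso j (by lia)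
        have := h5 j (by lia)
        rw [HomologicalComplex.comp_f]
        infer_instance

include hsum hqs hql in
/-- S5617 -/
theorem exists_strictPC_isZero (n m : ℤ) (F : DerivedCategory C) (hF : IsNPC P n F)
    (hac : ∀ i : ℤ, m ≤ i → IsZero ((DerivedCategory.homologyFunctor C i).obj F)) :
    ∃ E : CochainComplex C ℤ, PCoh.IsStrictPC P n E ∧ (∀ i : ℤ, m ≤ i → IsZero (E.X i)) ∧
      Nonempty (DerivedCategory.Q.obj E ≅ F) := by
  let e : Q.obj (Q.objPreimage F) ≅ F := Q.objObjPreimageIso F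
  have hz : ∀ i : ℤ, IsZero ((0 : CochainComplex C ℤ).X i) := fun i =>
    (eval C (ComplexShape.up ℤ) i).map_isZero (Limits.isZero_zero _)
  let u : (0 : CochainComplex C ℤ) ⟶ Q.objPreimage F := 0
  have hu : IsNQI m u := isNQI_zero _ _ _
    (fun i _ => isZero_homology_of_isZero_X _ _ (hz i)) (fun i hi =>
      (isZero_homologyFunctor_Q_iff _ i).1
        ((hac i hi).of_iso ((DerivedCategory.homologyFunctor C i).mapIso e))) _
  have h0 : PCoh.IsStrictPC P n (0 : CochainComplex C ℤ) :=
    ⟨⟨n, fun i _ => hz i⟩, fun i _ => P.prop_of_isZero (hz i)⟩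
  obtain ⟨E', v, u', _, h2, h3, _, h5⟩ := improve hsum hqs hql n _ (hF.of_iso e.symm)
    (m - n).toNat m (by lia) 0 h0 u hu
  have : IsIso (Q.map u') := by rw [isIso_Q_map_iff_quasiIso]; exact h3
  refine ⟨E', h2, fun i hi => ?_, ⟨asIso (Q.map u') ≪≫ e⟩⟩
  have := h5 i hi
  exact (hz i).of_iso (asIso (v.f i)).symm

end Derived

end Groth.Agent.Helper3.PCohF
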