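import Mathlib

/-!
# Eventually constant sequences have colimits
-/

open CategoryTheory Limits

universe v u

namespace Groth.Agent.Helper3.EvConst

variable {C : Type u} [Category.{v} C]

section

variable (G : ℕ ⥤ C) (N : ℕ)

lemma isIso_map_of_le (hG : ∀ k, N ≤ k → IsIso (G.map (homOfLE (Nat.le_succ k)))) :
    ∀ (k : ℕ) (h : N ≤ k), IsIso (G.map (homOfLE h)) := by
  intro k h
  induction k, h using Nat.le_induction with
  | base =>
    have : homOfLE (le_refl N) = 𝟙 N := Subsingleton.elim _ _
    rw [this, G.map_id]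
    infer_instance
  | succ k hk ih =>
    have : homOfLE (hk.trans (Nat.le_succ k)) = homOfLE hk ≫ homOfLE (Nat.le_succ k) :=
      Subsingleton.elim _ _
    have h1 := hG k hk
    rw [this, G.map_comp]
    infer_instance

lemma isIso_map_of_le' (hG : ∀ k, N ≤ k → IsIso (G.map (homOfLE (Nat.le_succ k))))
    (k l : ℕ) (hk : N ≤ k) (hkl : k ≤ l) : IsIso (G.map (homOfLE hkl)) := by
  have h1 := isIso_map_of_le G N hG k hk
  have h2 := isIso_map_of_le G N hG l (hk.trans hkl)
  have : G.map (homOfLE (hk.trans hkl)) = G.map (homOfLE hk) ≫ G.map (homOfLE hkl) := by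
    rw [← G.map_comp]
    rfl
  rw [this] at h2
  exact IsIso.of_isIso_comp_left (G.map (homOfLE hk)) _

variable (hG : ∀ k, N ≤ k → IsIso (G.map (homOfLE (Nat.le_succ k))))

/-- the isomorphism `G N ≅ G k` for `N ≤ k` -/
noncomputable def isoOfLE (k : ℕ) (h : N ≤ k) : G.obj N ≅ G.obj k :=
  @asIso _ _ _ _ (G.map (homOfLE h)) (isIso_map_of_le G N hG k h)

@[simp]
lemma isoOfLE_hom (k : ℕ) (h : N ≤ k) : (isoOfLE G N hG k h).hom = G.map (homOfLE h) := rfl

lemma map_comp_homOfLE {i j k : ℕ} (hij : i ≤ j) (hjk : j ≤ k) :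
    G.map (homOfLE hij) ≫ G.map (homOfLE hjk) = G.map (homOfLE (hij.trans hjk)) := by
  rw [← G.map_comp]
  rfl

/-- the cocone with point `G N` -/
noncomputable def cocone : Cocone G where
  pt := G.obj N
  ι :=
    { app := fun k => G.map (homOfLE (le_max_left k N)) ≫
        (isoOfLE G N hG (max k N) (le_max_right k N)).inv
      naturality := fun k k' φ => by
        have hkk' : k ≤ k' := leOfHom φ
        obtain rfl : φ = homOfLE hkk' := Subsingleton.elim _ _
        have hM : max k N ≤ max k' N := max_le_max_right N hkk'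
        dsimp
        rw [Category.comp_id, ← cancel_mono (isoOfLE G N hG (max k' N) (le_max_right k' N)).hom,
          Category.assoc, Category.assoc, Iso.inv_hom_id, Category.comp_id, Category.assoc,
          isoOfLE_hom, map_comp_homOfLE]
        have : G.map (homOfLE (le_max_right k' N)) =
            (isoOfLE G N hG (max k N) (le_max_right k N)).hom ≫ G.map (homOfLE hM) := by
          rw [isoOfLE_hom, map_comp_homOfLE]
        rw [this, Iso.inv_hom_id_assoc, map_comp_homOfLE] }

lemma cocone_ι_app (k : ℕ) : (cocone G N hG).ι.app k = G.map (homOfLE (le_max_left k N)) ≫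
    (isoOfLE G N hG (max k N) (le_max_right k N)).inv := rfl

lemma cocone_ι_app_N : (cocone G N hG).ι.app N = 𝟙 _ := by
  rw [cocone_ι_app]
  have : G.map (homOfLE (le_max_left N N)) =
      (isoOfLE G N hG (max N N) (le_max_right N N)).hom := rfl
  rw [this, Iso.hom_inv_id]

/-- the cocone is colimit -/
noncomputable def isColimit : IsColimit (cocone G N hG) where
  desc s := s.ι.app N
  fac s k := by
    change (G.map (homOfLE (le_max_left k N)) ≫
      (isoOfLE G N hG (max k N) (le_max_right k N)).inv) ≫ s.ι.app N = s.ι.app k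
    rw [Category.assoc]
    have : s.ι.app N = (isoOfLE G N hG (max k N) (le_max_right k N)).hom ≫
        s.ι.app (max k N) := by
      rw [isoOfLE_hom]
      exact (s.w _).symm
    rw [this, Iso.inv_hom_id_assoc]
    exact s.w _
  uniq s m hm := by
    have := hm N
    rw [cocone_ι_app_N] at this
    exact (Category.id_comp _).symm.trans this

include hG in
lemma hasColimit : HasColimit G := ⟨⟨⟨_, isColimit G N hG⟩⟩⟩

lemma isIso_cocone_ι_app (k : ℕ) (hk : N ≤ k) : IsIso ((cocone G N hG).ι.app k) := by
  rw [cocone_ι_app]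
  have := isIso_map_of_le' G N hG k (max k N) hk (le_max_left k N)
  exact IsIso.comp_isIso' this inferInstance

include hG in
/-- for any colimit cocone, the injections are eventually isomorphisms -/
lemma isIso_ι_app {c : Cocone G} (hc : IsColimit c) (k : ℕ) (hk : N ≤ k) :
    IsIso (c.ι.app k) := by
  have := isIso_cocone_ι_app G N hG k hk
  rw [← IsColimit.comp_coconePointUniqueUpToIso_hom (isColimit G N hG) hc k]
  infer_instance

end

end Groth.Agent.Helper3.EvConst
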