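import Mathlib
import Groth.Agent.Lib.Helper3.EvConst
import Groth.Agent.Lib.Helper3.PCohA

/-!
# Colimit of a tower of complexes which is degreewise eventually constant
-/

open CategoryTheory Limits HomologicalComplex CochainComplex

universe v u

namespace Groth.Agent.Helper3.Tower

open Groth.Agent.Helper3.PCohA

variable {C : Type u} [Category.{v} C] [Abelian C]

lemma isIso_homologyMap_of_isIso_f {K L : CochainComplex C ℤ} (φ : K ⟶ L) (i : ℤ)
    (h1 : IsIso (φ.f (i - 1))) (h2 : IsIso (φ.f i)) (h3 : IsIso (φ.f (i + 1))) :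
    IsIso (homologyMap φ i) := by
  rw [← quasiIsoAt_iff_isIso_homologyMap, quasiIsoAt_iff' φ (i - 1) i (i + 1) (by simp) (by simp)]
  let ψ := (shortComplexFunctor' C (ComplexShape.up ℤ) (i - 1) i (i + 1)).map φ
  have : IsIso ψ.τ₁ := h1
  have : IsIso ψ.τ₂ := h2
  have : IsIso ψ.τ₃ := h3
  exact ShortComplex.quasiIso_of_epi_of_isIso_of_mono ψ

section

variable {F : CochainComplex C ℤ} (n : ℤ) (E : ℕ → CochainComplex C ℤ)
  (v : ∀ k, E k ⟶ E (k + 1))

lemma ofSequence_map_succ_f (k : ℕ) (j : ℤ) :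
    ((Functor.ofSequence v ⋙ eval C (ComplexShape.up ℤ) j).map (homOfLE (Nat.le_succ k))) =
      (v k).f j := by
  have := Functor.ofSequence_map_homOfLE_succ v k
  dsimp
  rw [← this]
  rfl

lemma mono_map_f (hmono : ∀ (k : ℕ) (j : ℤ), Mono ((v k).f j)) (j : ℤ) (k l : ℕ) (h : k ≤ l) :
    Mono (((Functor.ofSequence v).map (homOfLE h)).f j) := by
  induction l, h using Nat.le_induction with
  | base =>
    have : homOfLE (le_refl k) = 𝟙 k := Subsingleton.elim _ _
    rw [this, CategoryTheory.Functor.map_id]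
    dsimp
    infer_instance
  | succ l hl ih =>
    have : homOfLE (hl.trans (Nat.le_succ l)) = homOfLE hl ≫ homOfLE (Nat.le_succ l) :=
      Subsingleton.elim _ _
    rw [this, CategoryTheory.Functor.map_comp, HomologicalComplex.comp_f]
    have h1 : ((Functor.ofSequence v).map (homOfLE (Nat.le_succ l))).f j = (v l).f j :=
      ofSequence_map_succ_f E v l j
    have h2 : Mono (((Functor.ofSequence v).map (homOfLE (Nat.le_succ l))).f j) := by
      rw [h1]
      exact hmono l j
    exact mono_comp _ _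

variable (hiso : ∀ (k : ℕ) (j : ℤ), n - k ≤ j → IsIso ((v k).f j))

include hiso in
lemma evConst (j : ℤ) (k : ℕ) (hk : (n - j).toNat ≤ k) :
    IsIso ((Functor.ofSequence v ⋙ eval C (ComplexShape.up ℤ) j).map
      (homOfLE (Nat.le_succ k))) := by
  rw [ofSequence_map_succ_f]
  exact hiso k j (by lia)

include hiso in
theorem tower_colimit (u : ∀ k, E k ⟶ F) (hvu : ∀ k, v k ≫ u (k + 1) = u k)
    (hmono : ∀ (k : ℕ) (j : ℤ), Mono ((v k).f j)) (hu : ∀ k : ℕ, IsNQI (n - k) (u k)) :
    ∃ (E' : CochainComplex C ℤ) (ι : ∀ k, E k ⟶ E') (u' : E' ⟶ F), (∀ k, ι k ≫ u' = u k) ∧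
      (∀ k, v k ≫ ι (k + 1) = ι k) ∧ QuasiIso u' ∧ (∀ (k : ℕ) (j : ℤ), Mono ((ι k).f j)) ∧
      (∀ (k : ℕ) (j : ℤ), n - k ≤ j → IsIso ((ι k).f j)) := by
  let Fn : ℕ ⥤ CochainComplex C ℤ := Functor.ofSequence v
  have hcol : ∀ j : ℤ, HasColimit (Fn ⋙ eval C (ComplexShape.up ℤ) j) := fun j =>
    EvConst.hasColimit _ (n - j).toNat (evConst n E v hiso j)
  let c : Cocone Fn :=
    { pt := F
      ι := NatTrans.ofSequence (F := Fn) (G := (Functor.const ℕ).obj F) u (fun k => by
        dsimp
        rw [Category.comp_id]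
        have : Fn.map (homOfLE (Nat.le_add_right k 1)) = v k :=
          Functor.ofSequence_map_homOfLE_succ v k
        rw [this]
        exact hvu k) }
  have hι : ∀ (k : ℕ) (j : ℤ), n - k ≤ j → IsIso ((colimit.ι Fn k).f j) := by
    intro k j hkj
    have hc := isColimitOfPreserves (eval C (ComplexShape.up ℤ) j) (colimit.isColimit Fn)
    exact EvConst.isIso_ι_app _ (n - j).toNat (evConst n E v hiso j) hc k (by lia)
  have hfac : ∀ k, colimit.ι Fn k ≫ colimit.desc Fn c = u k := fun k => colimit.ι_desc c k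
  refine ⟨colimit Fn, fun k => colimit.ι Fn k, colimit.desc Fn c, hfac, fun k => ?_, ?_,
    fun k j => ?_, hι⟩
  · have : Fn.map (homOfLE (Nat.le_add_right k 1)) = v k :=
      Functor.ofSequence_map_homOfLE_succ v k
    rw [← this]
    exact colimit.w Fn _
  · rw [quasiIso_iff]
    intro i
    rw [quasiIsoAt_iff_isIso_homologyMap]
    let k := (n - i + 2).toNat
    have h1 : IsIso (homologyMap (colimit.ι Fn k) i) :=
      isIso_homologyMap_of_isIso_f _ i (hι k _ (by lia)) (hι k _ (by lia)) (hι k _ (by lia))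
    have h2 : IsIso (homologyMap (u k) i) := (hu k).1 i (by lia)
    have h3 : homologyMap (colimit.ι Fn k) i ≫ homologyMap (colimit.desc Fn c) i =
        homologyMap (u k) i := by
      rw [← homologyMap_comp]
      exact congrArg (fun f => homologyMap f i) (hfac k)
    have h4 : IsIso (homologyMap (colimit.ι Fn k) i ≫ homologyMap (colimit.desc Fn c) i) := by
      rw [h3]
      exact h2
    exact IsIso.of_isIso_comp_left (homologyMap (colimit.ι Fn k) i) _
  · let K := max k (n - j).toNat
    have h1 : colimit.ι Fn k = Fn.map (homOfLE (le_max_left k (n - j).toNat)) ≫ colimit.ι Fn K :=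
      (colimit.w Fn _).symm
    show Mono ((colimit.ι Fn k).f j)
    rw [h1, HomologicalComplex.comp_f]
    have h2 : Mono ((Fn.map (homOfLE (le_max_left k (n - j).toNat))).f j) :=
      mono_map_f E v hmono j k K (le_max_left _ _)
    have h3 := hι K j (by have := le_max_right k (n - j).toNat; lia)
    exact mono_comp _ _

end

end Groth.Agent.Helper3.Tower
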