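import Mathlib
import Groth.Prelude.Def_PCoh
import Groth.Agent.Lib.Helper3.PCohF
import Groth.Agent.Lib.Helper3.Tower

/-!
# Pseudo-coherence: global resolutions by strictly pseudo-coherent complexes
-/

open CategoryTheory Limits HomologicalComplex CochainComplex HomComplex ZeroObject

universe w v u

namespace Groth.Agent.Helper3.PCohG

open Groth.Agent.Helper3.PCohA Groth.Agent.Helper3.PCohB Groth.Agent.Helper3.PCohD
  Groth.Agent.Helper3.PCohE Groth.Agent.Helper3.PCohF DerivedCategory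

variable {C : Type u} [Category.{v} C] [Abelian C] [HasDerivedCategory.{w} C]

/-- a stage of the construction -/
structure Stage (P : ObjectProperty C) (F : CochainComplex C ℤ) (n : ℤ) (k : ℕ) where
  E : CochainComplex C ℤ
  u : E ⟶ F
  hE : PCoh.IsStrictPCAll P E
  hu : IsNQI (n - k) u

variable {P : ObjectProperty C} [P.IsClosedUnderIsomorphisms] [P.ContainsZero]
  (hsum : ∀ X Y : C, P X → P Y → P (X ⨯ Y))
  (hqs : PCoh.IsQuasiStableUnderKernels P) (hql : PCoh.IsQuasiLiftable P)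

include hsum hqs hql in
lemma stage_step {F : CochainComplex C ℤ} (hF : ∀ m : ℤ, IsNPC P m (Q.obj F)) (n : ℤ) (k : ℕ)
    (s : Stage P F n k) :
    ∃ (s' : Stage P F n (k + 1)) (v : s.E ⟶ s'.E), v ≫ s'.u = s.u ∧
      (∀ j : ℤ, Mono (v.f j)) ∧ (∀ j : ℤ, n - k ≤ j → IsIso (v.f j)) := by
  have hk : n - (k : ℤ) = (n - k - 1) + 1 := by ring
  have hu := s.hu
  rw [hk] at hu
  have hE' : PCoh.IsStrictPC P ((n - k - 1) + 1) s.E := ⟨s.hE.1, fun i _ => s.hE.2 i⟩
  have hcone := isOfFiniteType_homology_cone hsum hqs hql (le_refl (n - k - 1)) hE'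
    (hF _) s.u hu
  obtain ⟨L, hL, E₁, v₁, u₁, hvu, hmono, hiso, _, ⟨e⟩, hu₁⟩ := attach hql _ s.u hu hcone
  refine ⟨⟨E₁, u₁, isStrictPCAll_attach hsum v₁ hiso hL e s.hE, ?_⟩, v₁, hvu, hmono,
    fun j hj => hiso j (by lia)⟩
  have : n - ((k + 1 : ℕ) : ℤ) = n - k - 1 := by push_cast; ring
  rw [this]
  exact hu₁

/-- the sequence of stages -/
noncomputable def seq {F : CochainComplex C ℤ} (hF : ∀ m : ℤ, IsNPC P m (Q.obj F)) (n : ℤ)
    (s₀ : Stage P F n 0) : (k : ℕ) → Stage P F n k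
  | 0 => s₀
  | k + 1 => (stage_step hsum hqs hql hF n k (seq hF n s₀ k)).choose

include hsum hqs hql in
/-- S12101 -/
theorem improve_all (n : ℤ) (E F : CochainComplex C ℤ) (hE : PCoh.IsStrictPCAll P E)
    (hF : ∀ m : ℤ, IsNPC P m (Q.obj F)) (u : E ⟶ F) (hu : IsNQI n u) :
    ∃ (E' : CochainComplex C ℤ) (v : E ⟶ E') (u' : E' ⟶ F), v ≫ u' = u ∧
      PCoh.IsStrictPCAll P E' ∧ QuasiIso u' ∧
      (∀ j : ℤ, Mono (v.f j)) ∧ (∀ j : ℤ, n ≤ j → IsIso (v.f j)) := by
  let s₀ : Stage P F n 0 := ⟨E, u, hE, by simpa using hu⟩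
  let S := seq hsum hqs hql hF n s₀
  let vv : ∀ k, (S k).E ⟶ (S (k + 1)).E := fun k =>
    (stage_step hsum hqs hql hF n k (S k)).choose_spec.choose
  have hvv : ∀ k, vv k ≫ (S (k + 1)).u = (S k).u ∧ (∀ j : ℤ, Mono ((vv k).f j)) ∧
      (∀ j : ℤ, n - k ≤ j → IsIso ((vv k).f j)) := fun k =>
    (stage_step hsum hqs hql hF n k (S k)).choose_spec.choose_spec
  obtain ⟨E', ι, u', h1, h2, h3, h4, h5⟩ := Tower.tower_colimit n (fun k => (S k).E) vv
    (fun k j hj => (hvv k).2.2 j hj) (fun k => (S k).u) (fun k => (hvv k).1)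
    (fun k j => (hvv k).2.1 j) (fun k => (S k).hu)
  refine ⟨E', ι 0, u', h1 0, ?_, h3, h4 0, fun j hj => h5 0 j (by simpa using hj)⟩
  obtain ⟨b, hb⟩ := hE.1
  refine ⟨⟨max b n, fun j hj => ?_⟩, fun j => ?_⟩
  · have := h5 0 j (by have := le_max_right b n; simp; lia)
    exact (hb j (by have := le_max_left b n; lia)).of_iso (asIso ((ι 0).f j)).symm
  · have := h5 (n - j).toNat j (by lia)
    exact P.prop_of_iso (asIso ((ι (n - j).toNat).f j)) ((S _).hE.2 j)

include hsum hqs hql in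
/-- a complex whose image in the derived category is pseudo-coherent receives a quasi-isomorphism
from a strictly pseudo-coherent complex, which can be taken zero in the degrees `≥ m` where the
cohomology vanishes -/
theorem exists_strictPCAll_qis (m : ℤ) (X : CochainComplex C ℤ)
    (hX : ∀ k : ℤ, IsNPC P k (Q.obj X)) (hac : ∀ i : ℤ, m ≤ i → IsZero (X.homology i)) :
    ∃ (E : CochainComplex C ℤ) (t : E ⟶ X), PCoh.IsStrictPCAll P E ∧ QuasiIso t ∧
      (∀ i : ℤ, m ≤ i → IsZero (E.X i)) := by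
  have hz : ∀ i : ℤ, IsZero ((0 : CochainComplex C ℤ).X i) := fun i =>
    (eval C (ComplexShape.up ℤ) i).map_isZero (Limits.isZero_zero _)
  let u : (0 : CochainComplex C ℤ) ⟶ X := 0
  have hu : IsNQI m u := isNQI_zero _ _ _
    (fun i _ => isZero_homology_of_isZero_X _ _ (hz i)) hac _
  have h0 : PCoh.IsStrictPCAll P (0 : CochainComplex C ℤ) :=
    ⟨⟨m, fun i _ => hz i⟩, fun i => P.prop_of_isZero (hz i)⟩
  obtain ⟨E', v, u', _, h2, h3, _, h5⟩ := improve_all hsum hqs hql m 0 X h0 hX u hu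
  refine ⟨E', u', h2, h3, fun i hi => ?_⟩
  have := h5 i hi
  exact (hz i).of_iso (asIso (v.f i)).symm

omit [P.IsClosedUnderIsomorphisms] [P.ContainsZero] in
/-- pseudo-coherent objects have bounded above cohomology -/
lemma exists_bound_of_isNPC {n : ℤ} {F : DerivedCategory C} (hF : IsNPC P n F) :
    ∃ b : ℤ, ∀ i : ℤ, b < i → IsZero ((DerivedCategory.homologyFunctor C i).obj F) := by
  obtain ⟨E, ⟨⟨b, hb⟩, _⟩, ⟨e⟩⟩ := hF
  refine ⟨b, fun i hi => ?_⟩
  exact ((isZero_homologyFunctor_Q_iff E i).2 (isZero_homology_of_isZero_X E i (hb i hi))).of_iso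
    ((DerivedCategory.homologyFunctor C i).mapIso e.symm)

include hsum hqs hql in
/-- S5618 -/
theorem exists_strictPCAll_isZero (m : ℤ) (F : DerivedCategory C) (hF : PCoh.IsPC P F)
    (hac : ∀ i : ℤ, m ≤ i → IsZero ((DerivedCategory.homologyFunctor C i).obj F)) :
    ∃ E : CochainComplex C ℤ, (∀ i : ℤ, P (E.X i)) ∧ (∀ i : ℤ, m ≤ i → IsZero (E.X i)) ∧
      Nonempty (DerivedCategory.Q.obj E ≅ F) := by
  let e : Q.obj (Q.objPreimage F) ≅ F := Q.objObjPreimageIso F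
  obtain ⟨E, t, h1, h2, h3⟩ := exists_strictPCAll_qis hsum hqs hql m (Q.objPreimage F)
    (fun k => IsNPC.of_iso e.symm (hF k)) (fun i hi => (isZero_homologyFunctor_Q_iff _ i).1
        ((hac i hi).of_iso ((DerivedCategory.homologyFunctor C i).mapIso e)))
  have : IsIso (Q.map t) := by rw [isIso_Q_map_iff_quasiIso]; exact h2
  exact ⟨E, h1.2, h3, ⟨asIso (Q.map t) ≪≫ e⟩⟩

include hsum hqs hql in
/-- S4295 -/
theorem exists_strictPCAll (F : DerivedCategory C) (hF : PCoh.IsPC P F) :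
    ∃ E : CochainComplex C ℤ, PCoh.IsStrictPCAll P E ∧ Nonempty (DerivedCategory.Q.obj E ≅ F) := by
  obtain ⟨b, hb⟩ := exists_bound_of_isNPC (hF 0)
  obtain ⟨E, h1, h2, h3⟩ := exists_strictPCAll_isZero hsum hqs hql (b + 1) F hF
    (fun i hi => hb i (by lia))
  exact ⟨E, ⟨⟨b, fun i hi => h2 i (by lia)⟩, h1⟩, h3⟩

omit [P.IsClosedUnderIsomorphisms] [P.ContainsZero] in
lemma isNPC_of_strictPCAll {E : CochainComplex C ℤ} (hE : PCoh.IsStrictPCAll P E) (k : ℤ) :
    IsNPC P k (Q.obj E) :=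
  ⟨E, ⟨hE.1, fun i _ => hE.2 i⟩, ⟨Iso.refl _⟩⟩

include hsum hqs hql in
/-- resolution of a complex quasi-isomorphic to a strictly pseudo-coherent complex -/
theorem exists_strictPCAll_qis_of_qis {X E : CochainComplex C ℤ} (s : X ⟶ E) [QuasiIso s]
    (hE : PCoh.IsStrictPCAll P E) :
    ∃ (E'' : CochainComplex C ℤ) (t : E'' ⟶ X), PCoh.IsStrictPCAll P E'' ∧ QuasiIso t := by
  obtain ⟨b, hb⟩ := hE.1
  obtain ⟨E'', t, h1, h2, _⟩ := exists_strictPCAll_qis hsum hqs hql (b + 1) X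
    (fun k => (isNPC_of_strictPCAll hE k).of_iso (asIso (Q.map s)).symm)
    (fun i hi => (isZero_homology_of_isZero_X E i (hb i (by lia))).of_iso
      (asIso (homologyMap s i)))
  exact ⟨E'', t, h1, h2⟩

include hsum hqs hql in
/-- S4296 -/
theorem full (E E' : CochainComplex C ℤ) (hE : PCoh.IsStrictPCAll P E)
    (α : DerivedCategory.Q.obj E ⟶ DerivedCategory.Q.obj E') :
    ∃ (E'' : CochainComplex C ℤ) (s : E'' ⟶ E) (f : E'' ⟶ E'), PCoh.IsStrictPCAll P E'' ∧
      QuasiIso s ∧ DerivedCategory.Q.map s ≫ α = DerivedCategory.Q.map f := by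
  obtain ⟨X, s, hs, g, rfl⟩ := right_fac α
  rw [isIso_Q_map_iff_quasiIso] at hs
  obtain ⟨E'', t, h1, h2⟩ := exists_strictPCAll_qis_of_qis hsum hqs hql s hE
  refine ⟨E'', t ≫ s, t ≫ g, h1, inferInstance, ?_⟩
  rw [Q.map_comp, Q.map_comp, Category.assoc, IsIso.hom_inv_id_assoc]

include hsum hqs hql in
/-- S4297 -/
theorem faithful (E E' : CochainComplex C ℤ) (hE : PCoh.IsStrictPCAll P E)
    (f g : E ⟶ E') (hfg : DerivedCategory.Q.map f = DerivedCategory.Q.map g) :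
    ∃ (E'' : CochainComplex C ℤ) (s : E'' ⟶ E), PCoh.IsStrictPCAll P E'' ∧ QuasiIso s ∧
      Nonempty (Homotopy (s ≫ f) (s ≫ g)) := by
  have h1 : Qh.map ((HomotopyCategory.quotient _ _).map f) =
      Qh.map ((HomotopyCategory.quotient _ _).map g) := by
    rw [← cancel_mono ((quotientCompQhIso C).hom.app E'), quotientCompQhIso_hom_naturality,
      quotientCompQhIso_hom_naturality, hfg]
  rw [MorphismProperty.map_eq_iff_precomp Qh (HomotopyCategory.quasiIso C (ComplexShape.up ℤ))]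
    at h1
  obtain ⟨Z, s, hs, fac⟩ := h1
  obtain ⟨X, rfl⟩ := HomotopyCategory.quotient_obj_surjective Z
  obtain ⟨s, rfl⟩ := (HomotopyCategory.quotient _ _).map_surjective s
  rw [HomotopyCategory.quotient_map_mem_quasiIso_iff, HomologicalComplex.mem_quasiIso_iff] at hs
  rw [← Functor.map_comp, ← Functor.map_comp] at fac
  have hh : Homotopy (s ≫ f) (s ≫ g) := HomotopyCategory.homotopyOfEq _ _ fac
  obtain ⟨E'', t, h1, h2⟩ := exists_strictPCAll_qis_of_qis hsum hqs hql s hE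
  refine ⟨E'', t ≫ s, h1, inferInstance, ⟨?_⟩⟩
  rw [Category.assoc, Category.assoc]
  exact hh.compLeft t

end Groth.Agent.Helper3.PCohG
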