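import Mathlib
import Groth.Prelude.Def_PCoh
import Groth.Agent.Lib.Helper3.PCohG

/-!
# Pseudo-coherence: direct sums
-/

open CategoryTheory Limits HomologicalComplex CochainComplex HomComplex ZeroObject

universe w v u

namespace Groth.Agent.Helper3.PCohH

open Groth.Agent.Helper3.PCohA Groth.Agent.Helper3.PCohB Groth.Agent.Helper3.PCohD
  Groth.Agent.Helper3.PCohE Groth.Agent.Helper3.PCohF Groth.Agent.Helper3.PCohG DerivedCategory

variable {C : Type u} [Category.{v} C] [Abelian C] [HasDerivedCategory.{w} C]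

variable {P : ObjectProperty C} [P.IsClosedUnderIsomorphisms] [P.ContainsZero]
  (hsum : ∀ X Y : C, P X → P Y → P (X ⨯ Y))
  (hqs : PCoh.IsQuasiStableUnderKernels P) (hql : PCoh.IsQuasiLiftable P)

include hsum in
omit [P.ContainsZero] [HasDerivedCategory.{w} C] in
lemma isStrictPC_biprod {n : ℤ} {E E' : CochainComplex C ℤ} (hE : PCoh.IsStrictPC P n E)
    (hE' : PCoh.IsStrictPC P n E') : PCoh.IsStrictPC P n (E ⊞ E') := by
  obtain ⟨⟨b, hb⟩, h⟩ := hE
  obtain ⟨⟨b', hb'⟩, h'⟩ := hE'
  have e : ∀ i : ℤ, (E ⊞ E').X i ≅ E.X i ⊞ E'.X i := fun i =>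
    (eval C (ComplexShape.up ℤ) i).mapBiprod E E'
  refine ⟨⟨max b b', fun i hi => ?_⟩, fun i hi => ?_⟩
  · refine IsZero.of_iso ?_ (e i)
    rw [biprod_isZero_iff]
    exact ⟨hb i (by have := le_max_left b b'; lia), hb' i (by have := le_max_right b b'; lia)⟩
  · exact P.prop_of_iso (e i).symm (prop_biprod hsum (h i hi) (h' i hi))

include hsum in
omit [P.ContainsZero] in
lemma isNPC_biprod {n : ℤ} {F' F'' : DerivedCategory C} [HasBinaryBiproduct F' F'']
    (h' : IsNPC P n F') (h'' : IsNPC P n F'') : IsNPC P n (F' ⊞ F'') := by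
  obtain ⟨E', hE', ⟨e'⟩⟩ := h'
  obtain ⟨E'', hE'', ⟨e''⟩⟩ := h''
  have : PreservesBinaryBiproducts (DerivedCategory.Q (C := C)) :=
    preservesBinaryBiproducts_of_preservesBiproducts _
  exact ⟨E' ⊞ E'', isStrictPC_biprod hsum hE' hE'', ⟨Q.mapBiprod E' E'' ≪≫ biprod.mapIso e' e''⟩⟩

omit [P.IsClosedUnderIsomorphisms] [P.ContainsZero] in
lemma isZero_homology_of_biprod_left {F' F'' : DerivedCategory C} [HasBinaryBiproduct F' F'']
    (i : ℤ) (h : IsZero ((DerivedCategory.homologyFunctor C i).obj (F' ⊞ F''))) :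
    IsZero ((DerivedCategory.homologyFunctor C i).obj F') := by
  rw [IsZero.iff_id_eq_zero]
  have : 𝟙 ((DerivedCategory.homologyFunctor C i).obj F') =
      (DerivedCategory.homologyFunctor C i).map (biprod.inl : F' ⟶ F' ⊞ F'') ≫
        (DerivedCategory.homologyFunctor C i).map (biprod.fst : F' ⊞ F'' ⟶ F') := by
    rw [← Functor.map_comp, biprod.inl_fst, CategoryTheory.Functor.map_id]
  rw [this, h.eq_of_tgt ((DerivedCategory.homologyFunctor C i).map
    (biprod.inl : F' ⟶ F' ⊞ F'')) 0, zero_comp]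

include hsum hqs hql in
/-- the key step: if `F' ⊞ F''` is `k`-pc and `F'` is `(k+1)`-pc then `F''` is `k`-pc -/
lemma isNPC_right_of_biprod {k : ℤ} {F' F'' : DerivedCategory C} [HasBinaryBiproduct F' F'']
    (hS : IsNPC P k (F' ⊞ F'')) (h' : IsNPC P (k + 1) F') : IsNPC P k F'' := by
  have hT := Pretriangulated.rot_of_distTriang _
    (Pretriangulated.binaryBiproductTriangle_distinguished F' F'')
  refine isNPC_obj₂ hsum hqs hql k _ hT hS ?_
  have := isNPC_shift h' 1
  rwa [add_sub_cancel_right] at this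

include hsum hqs hql in
lemma isNPC_left_of_biprod {k : ℤ} {F' F'' : DerivedCategory C} [HasBinaryBiproduct F' F'']
    (hS : IsNPC P k (F' ⊞ F'')) (h'' : IsNPC P (k + 1) F'') : IsNPC P k F' :=
  isNPC_right_of_biprod hsum hqs hql (hS.of_iso (biprod.braiding F' F'')) h''

include hsum hqs hql in
/-- S5605 -/
theorem isNPC_biprod_iff (n : ℤ) (F' F'' : DerivedCategory C) [HasBinaryBiproduct F' F''] :
    IsNPC P n (F' ⊞ F'') ↔ IsNPC P n F' ∧ IsNPC P n F'' := by
  constructor
  · intro hS
    obtain ⟨b, hb⟩ := exists_bound_of_isNPC hS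
    have key : ∀ j : ℕ, IsNPC P (n + j) F' ∧ IsNPC P (n + j) F'' → IsNPC P n F' ∧ IsNPC P n F'' := by
      intro j
      induction j with
      | zero => intro h; simpa using h
      | succ j ih =>
        intro h
        apply ih
        have h1 : n + ((j + 1 : ℕ) : ℤ) = (n + j) + 1 := by push_cast; ring
        rw [h1] at h
        have hS' : IsNPC P (n + j) (F' ⊞ F'') := hS.of_le (by lia)
        exact ⟨isNPC_left_of_biprod hsum hqs hql hS' h.2,
          isNPC_right_of_biprod hsum hqs hql hS' h.1⟩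
    -- both are `(n + j)`-pc for `j` large
    have hbig : ∀ (G : DerivedCategory C),
        (∀ i : ℤ, b < i → IsZero ((DerivedCategory.homologyFunctor C i).obj G)) →
        IsNPC P (n + (b + 1 - n).toNat) G := by
      intro G hG
      rw [isNPC_iff_isOfFiniteType hsum hqs hql _ G (fun i hi => hG i (by lia))]
      exact isOfFiniteType_of_prop P (P.prop_of_isZero (hG _ (by lia)))
    apply key (b + 1 - n).toNat
    refine ⟨hbig F' (fun i hi => isZero_homology_of_biprod_left i (hb i hi)), hbig F'' (fun i hi => ?_)⟩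
    exact isZero_homology_of_biprod_left (F' := F'') (F'' := F') i
      ((hb i hi).of_iso ((DerivedCategory.homologyFunctor C i).mapIso (biprod.braiding F'' F')))
  · rintro ⟨h', h''⟩
    exact isNPC_biprod hsum h' h''

end Groth.Agent.Helper3.PCohH
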