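import Mathlib
import Groth.Prelude.Def_PCoh
import Groth.Agent.Lib.Helper3.PCohH

/-!
# Pseudo-coherence: dévissage along the canonical filtration (cohomology objects)
-/

open CategoryTheory Limits HomologicalComplex CochainComplex HomComplex ZeroObject

universe w v u

namespace Groth.Agent.Helper3.PCohI

open Groth.Agent.Helper3.PCohA Groth.Agent.Helper3.PCohB Groth.Agent.Helper3.PCohD
  Groth.Agent.Helper3.PCohE Groth.Agent.Helper3.PCohF Groth.Agent.Helper3.PCohG DerivedCategory

variable {C : Type u} [Category.{v} C] [Abelian C] [HasDerivedCategory.{w} C]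

variable {P : ObjectProperty C} [P.IsClosedUnderIsomorphisms] [P.ContainsZero]
  (hsum : ∀ X Y : C, P X → P Y → P (X ⨯ Y))
  (hqs : PCoh.IsQuasiStableUnderKernels P) (hql : PCoh.IsQuasiLiftable P)

lemma isNPC_of_isZero (n : ℤ) {F : DerivedCategory C} (hF : IsZero F) : IsNPC P n F := by
  have hz : ∀ i : ℤ, IsZero ((0 : CochainComplex C ℤ).X i) := fun i =>
    (eval C (ComplexShape.up ℤ) i).map_isZero (Limits.isZero_zero _)
  refine ⟨0, ⟨⟨n, fun i _ => hz i⟩, fun i _ => P.prop_of_isZero (hz i)⟩, ⟨?_⟩⟩
  exact (Q.map_isZero (Limits.isZero_zero _)).iso hF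

/-- the single functor in degree `b` as a shift of the single functor in degree `0` -/
noncomputable def singleShiftIso (b : ℤ) (Y : C) :
    ((DerivedCategory.singleFunctor C 0).obj Y)⟦-b⟧ ≅ (DerivedCategory.singleFunctor C b).obj Y :=
  ((DerivedCategory.singleFunctors C).shiftIso (-b) b 0 (by lia)).app Y

omit [P.IsClosedUnderIsomorphisms] [P.ContainsZero] in
lemma isNPC_single {k b : ℤ} {Y : C}
    (h : IsNPC P (k - b) ((DerivedCategory.singleFunctor C 0).obj Y)) :
    IsNPC P k ((DerivedCategory.singleFunctor C b).obj Y) := by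
  have := isNPC_shift h (-b)
  rw [sub_neg_eq_add, sub_add_cancel] at this
  exact this.of_iso (singleShiftIso b Y)

include hqs in
omit [P.IsClosedUnderIsomorphisms] [P.ContainsZero] in
/-- an object `Y` such that `Y[0]` is `0`-pseudo-coherent is of finite type -/
lemma isOfFiniteType_of_isNPC_single {Y : C}
    (h : IsNPC P 0 ((DerivedCategory.singleFunctor C 0).obj Y)) : PCoh.IsOfFiniteType P Y := by
  have h1 := isOfFiniteType_homology_of_isNPC hqs (le_refl 0) _ h (fun i hi =>
    DerivedCategory.isZero_of_isLE _ 0 i hi)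
  exact isOfFiniteType_of_iso ((singleFunctorCompHomologyFunctorIso C 0).app Y) h1

include hsum hqs hql in
/-- S5604 -/
theorem isNPC_of_homology (n : ℤ) : ∀ (m : ℕ) (F : DerivedCategory C),
    (∀ i : ℤ, n + m < i → IsZero ((DerivedCategory.homologyFunctor C i).obj F)) →
    (∀ i : ℤ, n ≤ i → IsNPC P (n - i) ((DerivedCategory.singleFunctor C 0).obj
      ((DerivedCategory.homologyFunctor C i).obj F))) → IsNPC P n F := by
  intro m
  induction m with
  | zero =>
    intro F hac h
    rw [isNPC_iff_isOfFiniteType hsum hqs hql n F (fun i hi => hac i (by simpa using hi))]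
    have := h n le_rfl
    rw [sub_self] at this
    exact isOfFiniteType_of_isNPC_single hqs this
  | succ m ih =>
    intro F hac h
    let b : ℤ := n + m + 1
    have hb : n + ((m + 1 : ℕ) : ℤ) = b := by push_cast; ring
    rw [hb] at hac
    let T := (TStructure.t.triangleLTGE b).obj F
    have hT : T ∈ distTriang _ := TStructure.t.triangleLTGE_distinguished b F
    have h₁le : T.obj₁.IsLE (b - 1) := inferInstanceAs (TStructure.t.IsLE
      ((TStructure.t.triangleLTGE b).obj F).obj₁ (b - 1))
    have h₃ge : T.obj₃.IsGE b := inferInstanceAs (TStructure.t.IsGE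
      ((TStructure.t.triangleLTGE b).obj F).obj₃ b)
    have z₁ : ∀ i : ℤ, b - 1 < i → IsZero ((DerivedCategory.homologyFunctor C i).obj T.obj₁) :=
      fun i hi => DerivedCategory.isZero_of_isLE _ (b - 1) i hi
    have z₃ : ∀ i : ℤ, i < b → IsZero ((DerivedCategory.homologyFunctor C i).obj T.obj₃) :=
      fun i hi => DerivedCategory.isZero_of_isGE _ b i hi
    -- `obj₁`
    have iso₁ : ∀ i : ℤ, i < b → IsIso ((DerivedCategory.homologyFunctor C i).map T.mor₁) := by
      intro i hi
      have e1 := HomologySequence.exact₁ T hT (i - 1) i (by lia)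
      have e2 := HomologySequence.exact₂ T hT i
      have : Mono ((DerivedCategory.homologyFunctor C i).map T.mor₁) :=
        e1.mono_g ((z₃ (i - 1) (by lia)).eq_of_src _ _)
      have : Epi ((DerivedCategory.homologyFunctor C i).map T.mor₁) :=
        e2.epi_f ((z₃ i hi).eq_of_tgt _ _)
      exact isIso_of_mono_of_epi _
    have hobj₁ : IsNPC P n T.obj₁ := by
      apply ih T.obj₁ (fun i hi => z₁ i (by lia))
      intro i hi
      by_cases hib : i < b
      · have := iso₁ i hib
        exact (h i hi).of_iso ((DerivedCategory.singleFunctor C 0).mapIso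
          (asIso ((DerivedCategory.homologyFunctor C i).map T.mor₁)).symm)
      · exact isNPC_of_isZero _ ((DerivedCategory.singleFunctor C 0).map_isZero (z₁ i (by lia)))
    -- `obj₃`
    have z₃' : ∀ i : ℤ, b < i → IsZero ((DerivedCategory.homologyFunctor C i).obj T.obj₃) := by
      intro i hi
      have e3 := HomologySequence.exact₃ T hT i (i + 1) rfl
      exact e3.isZero_of_both_zeros ((hac i hi).eq_of_src _ _) ((z₁ (i + 1) (by lia)).eq_of_tgt _ _)
    have h₃le : T.obj₃.IsLE b := by
      rw [DerivedCategory.isLE_iff]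
      exact z₃'
    obtain ⟨Y, ⟨e⟩⟩ := DerivedCategory.exists_iso_singleFunctor_obj_of_isGE_of_isLE T.obj₃ b
    have iso₃ : IsIso ((DerivedCategory.homologyFunctor C b).map T.mor₂) := by
      have e2 := HomologySequence.exact₂ T hT b
      have e3 := HomologySequence.exact₃ T hT b (b + 1) rfl
      have : Mono ((DerivedCategory.homologyFunctor C b).map T.mor₂) :=
        e2.mono_g ((z₁ b (by lia)).eq_of_src _ _)
      have : Epi ((DerivedCategory.homologyFunctor C b).map T.mor₂) :=
        e3.epi_f ((z₁ (b + 1) (by lia)).eq_of_tgt _ _)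
      exact isIso_of_mono_of_epi _
    have eY : (DerivedCategory.homologyFunctor C b).obj F ≅ Y :=
      @asIso _ _ _ _ _ iso₃ ≪≫
        (DerivedCategory.homologyFunctor C b).mapIso e ≪≫
        (singleFunctorCompHomologyFunctorIso C b).app Y
    have hobj₃ : IsNPC P n T.obj₃ := by
      refine IsNPC.of_iso e.symm (isNPC_single ?_)
      exact (h b (by lia)).of_iso ((DerivedCategory.singleFunctor C 0).mapIso eY)
    exact isNPC_obj₂ hsum hqs hql n T hT hobj₁ hobj₃

end Groth.Agent.Helper3.PCohI
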