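import Mathlib
import Groth.Prelude.Def_PCoh
import Groth.Agent.Lib.Helper3.PCohI
import Groth.Agent.Lib.Helper3.Brutal

/-!
# Pseudo-coherence: dévissage along the terms of a complex
-/

open CategoryTheory Limits HomologicalComplex CochainComplex HomComplex ZeroObject

universe w v u

namespace Groth.Agent.Helper3.PCohJ

open Groth.Agent.Helper3.PCohA Groth.Agent.Helper3.PCohB Groth.Agent.Helper3.PCohD
  Groth.Agent.Helper3.PCohE Groth.Agent.Helper3.PCohF Groth.Agent.Helper3.PCohG
  Groth.Agent.Helper3.PCohI DerivedCategory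

variable {C : Type u} [Category.{v} C] [Abelian C] [HasDerivedCategory.{w} C]

variable {P : ObjectProperty C} [P.IsClosedUnderIsomorphisms] [P.ContainsZero]
  (hsum : ∀ X Y : C, P X → P Y → P (X ⨯ Y))
  (hqs : PCoh.IsQuasiStableUnderKernels P) (hql : PCoh.IsQuasiLiftable P)

include hsum hql in
/-- a complex whose terms vanish in degrees `≥ n` is `n`-pseudo-coherent -/
lemma isNPC_of_isZero_X (n : ℤ) (K : CochainComplex C ℤ) (hK : ∀ i : ℤ, n ≤ i → IsZero (K.X i)) :
    IsNPC P n (Q.obj K) :=
  isNPC_of_isOfFiniteType hsum hql n K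
    (fun i hi => isZero_homology_of_isZero_X K i (hK i hi.le))
    (isOfFiniteType_of_prop P (P.prop_of_isZero (isZero_homology_of_isZero_X K n (hK n le_rfl))))

include hsum hqs hql in
/-- S5619 -/
theorem isNPC_of_terms (n : ℤ) (F : CochainComplex C ℤ) (b : ℤ)
    (hb : ∀ i : ℤ, b < i → IsZero (F.X i))
    (hfp : ∀ i : ℤ, n ≤ i → IsNPC P (n - i) ((DerivedCategory.singleFunctor C 0).obj (F.X i))) :
    IsNPC P n (Q.obj F) := by
  have hS := Brutal.sc_shortExact F n
  have hT := triangleOfSES_distinguished hS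
  refine isNPC_obj₂ hsum hqs hql n _ hT ?_ ?_
  · change IsNPC P n (Q.obj (Brutal.sigmaGE F n))
    refine Brutal.devissage (IsNPC P n) (fun e h => h.of_iso e)
      (fun T hT h1 h3 => isNPC_obj₂ hsum hqs hql n T hT h1 h3)
      (fun X hX => isNPC_of_isZero n hX) (b + 1 - n).toNat n _ ?_ ?_
    · rintro i (hi | hi)
      · exact Brutal.isZero_sigmaGE_X F hi
      · have hni : n ≤ i := by lia
        have := Brutal.isIso_ι_f F hni
        exact (hb i (by lia)).of_iso (asIso ((Brutal.ι F n).f i))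
    · intro i hi _
      have := Brutal.isIso_ι_f F hi
      exact (isNPC_single (hfp i hi)).of_iso
        ((DerivedCategory.singleFunctor C i).mapIso (asIso ((Brutal.ι F n).f i)).symm)
  · change IsNPC P n (Q.obj (Brutal.sigmaLT F n))
    exact isNPC_of_isZero_X hsum hql n _ (fun i hi => Brutal.isZero_sigmaLT_X F hi)

section Two

variable {P₁ : ObjectProperty C} (hle : ∀ X : C, P X → P₁ X)
  (hpc : ∀ X : C, P₁ X → PCoh.IsPC P ((DerivedCategory.singleFunctor C 0).obj X))

include hsum hqs hql hle hpc in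
/-- S5607 -/
theorem isNPC_iff_of_le (n : ℤ) (F : DerivedCategory C) : IsNPC P₁ n F ↔ IsNPC P n F := by
  constructor
  · rintro ⟨E, ⟨⟨b, hb⟩, h⟩, ⟨e⟩⟩
    exact (isNPC_of_terms hsum hqs hql n E b hb (fun i hi => hpc (E.X i) (h i hi) (n - i))).of_iso e
  · rintro ⟨E, ⟨hb, h⟩, ⟨e⟩⟩
    exact ⟨E, ⟨hb, fun i hi => hle _ (h i hi)⟩, ⟨e⟩⟩

omit [HasDerivedCategory.{w} C] in
lemma epi_toCycles_of_exactAt (K : CochainComplex C ℕ) (i : ℕ) (h : K.ExactAt (i + 1)) :
    Epi (K.toCycles i (i + 1)) := by
  rw [epi_iff_surjective_up_to_refinements]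
  intro A z
  rw [exactAt_iff_exact_up_to_refinements K i (i + 1) (i + 2) (by simp) (by simp)] at h
  obtain ⟨A', π, hπ, x₁, hx₁⟩ := h (z ≫ K.iCycles (i + 1)) (by simp)
  refine ⟨A', π, hπ, x₁, ?_⟩
  rw [← cancel_mono (K.iCycles (i + 1)), Category.assoc, Category.assoc, toCycles_i, hx₁]

omit [HasDerivedCategory.{w} C] in
lemma cycles_shortExact (K : CochainComplex C ℕ) (i : ℕ) (h : K.ExactAt (i + 1)) :
    (ShortComplex.mk (K.iCycles i) (K.toCycles i (i + 1)) (by
      rw [← cancel_mono (K.iCycles (i + 1)), Category.assoc, toCycles_i, iCycles_d,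
        zero_comp])).ShortExact := by
  have := epi_toCycles_of_exactAt K i h
  refine { exact := ?_, mono_f := inferInstanceAs (Mono (K.iCycles i)), epi_g := this }
  rw [ShortComplex.exact_iff_exact_up_to_refinements]
  intro A x hx
  dsimp at x hx ⊢
  have hx' : x ≫ K.d i (i + 1) = 0 := by
    rw [← toCycles_i, ← Category.assoc, hx, zero_comp]
  exact ⟨A, 𝟙 A, inferInstance, K.liftCycles x (i + 1) (by simp) hx', by simp⟩

include hsum hqs hql hle hpc in
/-- S5606 -/
theorem quasiLiftable_and_quasiStable [P₁.IsClosedUnderIsomorphisms] :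
    PCoh.IsQuasiLiftable P₁ ∧ PCoh.IsQuasiStableUnderKernels P₁ := by
  constructor
  · intro E F u hu hF
    have hft : PCoh.IsOfFiniteType P F := isOfFiniteType_of_isNPC_single hqs (hpc F hF 0)
    obtain ⟨L, φ, hL, hφ⟩ := exists_refine hql u hft
    exact ⟨L, φ, hle L hL, hφ⟩
  · intro K hex ⟨N, hN⟩ hK
    -- the cycles are pseudo-coherent
    have key : ∀ (j : ℕ) (i : ℕ), 1 ≤ i → N + 1 ≤ i + j →
        PCoh.IsPC P ((DerivedCategory.singleFunctor C 0).obj (K.cycles i)) := by
      intro j
      induction j with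
      | zero =>
        intro i _ hi n
        have hz : IsZero (K.cycles i) := by
          rw [IsZero.iff_id_eq_zero, ← cancel_mono (K.iCycles i)]
          exact (hN i (by lia)).eq_of_tgt _ _
        exact isNPC_of_isZero n ((DerivedCategory.singleFunctor C 0).map_isZero hz)
      | succ j ih =>
        intro i hi1 hi n
        have hS := cycles_shortExact K i (hex (i + 1))
        have hT := hS.singleTriangle_distinguished
        have h2 : IsNPC P ((n - 1) + 1) ((DerivedCategory.singleFunctor C 0).obj (K.X i)) :=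
          hpc _ (hK i hi1) _
        have h3 : IsNPC P (n - 1) ((DerivedCategory.singleFunctor C 0).obj (K.cycles (i + 1))) :=
          ih (i + 1) (by lia) (by lia) _
        have := isNPC_obj₁ hsum hqs hql (n - 1) _ hT h2 h3
        rwa [sub_add_cancel] at this
    have h1 := key N 1 le_rfl (by lia) 0
    have hft : PCoh.IsOfFiniteType P (K.cycles 1) := isOfFiniteType_of_isNPC_single hqs h1
    have hepi : Epi (K.toCycles 0 1) := epi_toCycles_of_exactAt K 0 (hex 1)
    obtain ⟨L, p, hL, hp⟩ := hft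
    -- `K.X 0 ≅ K.cycles 1`
    have hmono : Mono (K.toCycles 0 1) := by
      have h0 := hex 0
      rw [exactAt_iff' K 0 0 1 (by simp) (by simp)] at h0
      have : Mono (K.d 0 1) := h0.mono_g (K.shape _ _ (by simp))
      exact mono_of_mono_fac (K.toCycles_i 0 1)
    have hiso : IsIso (K.toCycles 0 1) := isIso_of_mono_of_epi _
    exact ⟨L, p ≫ inv (K.toCycles 0 1), hle L hL, epi_comp _ _⟩

end Two

end Groth.Agent.Helper3.PCohJ
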