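import Mathlib
import Groth.Prelude.Def_PCoh
import Groth.Agent.Lib.Helper3.PCohJ

/-!
# Pseudo-coherence and triangulated functors of finite amplitude
-/

open CategoryTheory Limits HomologicalComplex CochainComplex HomComplex ZeroObject

universe w w' v v' u u'

namespace Groth.Agent.Helper3.PCohK

open Groth.Agent.Helper3.PCohA Groth.Agent.Helper3.PCohB Groth.Agent.Helper3.PCohD
  Groth.Agent.Helper3.PCohE Groth.Agent.Helper3.PCohF Groth.Agent.Helper3.PCohG
  Groth.Agent.Helper3.PCohI Groth.Agent.Helper3.PCohJ DerivedCategory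

section

variable {C : Type u} [Category.{v} C] [Abelian C] [HasDerivedCategory.{w} C]

/-- cohomology of a shift -/
noncomputable def homologyShiftIso (F : DerivedCategory C) (k i j : ℤ) (h : k + i = j) :
    (DerivedCategory.homologyFunctor C i).obj (F⟦k⟧) ≅ (DerivedCategory.homologyFunctor C j).obj F :=
  ((DerivedCategory.homologyFunctor C 0).shiftIso k i j h).app F

end

variable {C : Type u} [Category.{v} C] [Abelian C] [HasDerivedCategory.{w} C]
  {C' : Type u'} [Category.{v'} C'] [Abelian C'] [HasDerivedCategory.{w'} C']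
  (u : DerivedCategory C ⥤ DerivedCategory C') [u.CommShift ℤ] [u.IsTriangulated] (b : ℤ)
  (hii : ∀ F : DerivedCategory C,
    (∀ i : ℤ, 0 < i → IsZero ((DerivedCategory.homologyFunctor C i).obj F)) →
    ∀ i : ℤ, b < i → IsZero ((DerivedCategory.homologyFunctor C' i).obj (u.obj F)))

include hii in
/-- the amplitude condition, shifted -/
lemma isZero_homology_map (k : ℤ) (F : DerivedCategory C)
    (hF : ∀ i : ℤ, k < i → IsZero ((DerivedCategory.homologyFunctor C i).obj F)) :
    ∀ i : ℤ, k + b < i → IsZero ((DerivedCategory.homologyFunctor C' i).obj (u.obj F)) := by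
  intro j hj
  have h1 : ∀ i : ℤ, 0 < i → IsZero ((DerivedCategory.homologyFunctor C i).obj (F⟦k⟧)) :=
    fun i hi => (hF (k + i) (by lia)).of_iso (homologyShiftIso F k i (k + i) rfl)
  have h2 := hii (F⟦k⟧) h1 (j - k) (by lia)
  have e1 : (DerivedCategory.homologyFunctor C' (j - k)).obj (u.obj (F⟦k⟧)) ≅
      (DerivedCategory.homologyFunctor C' (j - k)).obj ((u.obj F)⟦k⟧) :=
    (DerivedCategory.homologyFunctor C' (j - k)).mapIso ((u.commShiftIso k).app F)
  exact (h2.of_iso e1.symm).of_iso (homologyShiftIso (u.obj F) k (j - k) j (by lia)).symm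

variable {P : ObjectProperty C} [P.IsClosedUnderIsomorphisms] [P.ContainsZero]
  (hsum : ∀ X Y : C, P X → P Y → P (X ⨯ Y))
  (hqs : PCoh.IsQuasiStableUnderKernels P) (hql : PCoh.IsQuasiLiftable P)
  {P' : ObjectProperty C'} [P'.IsClosedUnderIsomorphisms] [P'.ContainsZero]
  (hsum' : ∀ X Y : C', P' X → P' Y → P' (X ⨯ Y))
  (hqs' : PCoh.IsQuasiStableUnderKernels P') (hql' : PCoh.IsQuasiLiftable P')
  (a : ℤ)
  (hi : ∀ E : C, P E → IsNPC P' a (u.obj ((DerivedCategory.singleFunctor C 0).obj E)))

include hsum hqs hql hsum' hqs' hql' hi hii in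
/-- S5620 -/
theorem isNPC_map (m n : ℤ) (F : DerivedCategory C) (hF : IsNPC P m F)
    (hac : ∀ i : ℤ, n < i → IsZero ((DerivedCategory.homologyFunctor C i).obj F)) :
    IsNPC P' (max (m + b) (n + a)) (u.obj F) ∧
      ∀ i : ℤ, n + b < i → IsZero ((DerivedCategory.homologyFunctor C' i).obj (u.obj F)) := by
  refine ⟨?_, isZero_homology_map u b hii n F hac⟩
  obtain ⟨E, hE, hEz, ⟨e⟩⟩ := exists_strictPC_isZero hsum hqs hql m (n + 1) F hF
    (fun i hi => hac i (by lia))
  refine IsNPC.of_iso (u.mapIso e) ?_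
  have hS := Brutal.sc_shortExact E m
  have hT := u.map_distinguished _ (triangleOfSES_distinguished hS)
  refine isNPC_obj₂ hsum' hqs' hql' _ _ hT ?_ ?_
  · change IsNPC P' _ (u.obj (Q.obj (Brutal.sigmaGE E m)))
    refine Brutal.devissage (fun X => IsNPC P' (max (m + b) (n + a)) (u.obj X))
      (fun e h => h.of_iso (u.mapIso e))
      (fun T hT h1 h3 => isNPC_obj₂ hsum' hqs' hql' _ _ (u.map_distinguished T hT) h1 h3)
      (fun X hX => isNPC_of_isZero _ (u.map_isZero hX)) (n + 1 - m).toNat m _ ?_ ?_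
    · rintro i (hi | hi)
      · exact Brutal.isZero_sigmaGE_X E hi
      · have hmi : m ≤ i := by lia
        have := Brutal.isIso_ι_f E hmi
        exact (hEz i (by lia)).of_iso (asIso ((Brutal.ι E m).f i))
    · intro i hi1 hi2
      have := Brutal.isIso_ι_f E hi1
      have hPi : P ((Brutal.sigmaGE E m).X i) :=
        P.prop_of_iso (asIso ((Brutal.ι E m).f i)).symm (hE.2 i hi1)
      have h1 := isNPC_shift (hi _ hPi) (-i)
      have h2 : IsNPC P' (a - -i) (u.obj ((DerivedCategory.singleFunctor C i).obj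
          ((Brutal.sigmaGE E m).X i))) :=
        h1.of_iso (((u.commShiftIso (-i)).app _).symm ≪≫ u.mapIso (singleShiftIso i _))
      exact h2.of_le (by have := le_max_right (m + b) (n + a); lia)
  · change IsNPC P' _ (u.obj (Q.obj (Brutal.sigmaLT E m)))
    have hz : ∀ i : ℤ, m - 1 < i → IsZero ((DerivedCategory.homologyFunctor C i).obj
        (Q.obj (Brutal.sigmaLT E m))) := fun i hi =>
      (isZero_homologyFunctor_Q_iff _ i).2
        (isZero_homology_of_isZero_X _ i (Brutal.isZero_sigmaLT_X E (by lia)))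
    have hz' := isZero_homology_map u b hii (m - 1) _ hz
    have : IsNPC P' (m + b) (u.obj (Q.obj (Brutal.sigmaLT E m))) := by
      rw [isNPC_iff_isOfFiniteType hsum' hqs' hql' _ _ (fun i hi => hz' i (by lia))]
      exact isOfFiniteType_of_prop P' (P'.prop_of_isZero (hz' _ (by lia)))
    exact this.of_le (le_max_left _ _)

end Groth.Agent.Helper3.PCohK
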