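import Mathlib
import Groth.Prelude.Def_PCoh
import Groth.Agent.Lib.Helper3.PCohK

/-!
# Bounded above resolutions by objects of a generating class
-/

open CategoryTheory Limits HomologicalComplex CochainComplex HomComplex ZeroObject

universe w v u

namespace Groth.Agent.Helper3.CptRes

open Groth.Agent.Helper3.PCohA Groth.Agent.Helper3.PCohB Groth.Agent.Helper3.PCohD
  Groth.Agent.Helper3.PCohE Groth.Agent.Helper3.PCohF Groth.Agent.Helper3.PCohG
  Groth.Agent.Helper3.PCohI Groth.Agent.Helper3.PCohJ DerivedCategory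

variable {C : Type u} [Category.{v} C] [Abelian C] [HasDerivedCategory.{w} C]
  {P : ObjectProperty C} [P.IsClosedUnderIsomorphisms] [P.ContainsZero]
  (hsum : ∀ X Y : C, P X → P Y → P (X ⨯ Y))
  (hall : ∀ X : C, PCoh.IsOfFiniteType P X)

include hall in
omit [HasDerivedCategory.{w} C] [P.IsClosedUnderIsomorphisms] [P.ContainsZero] in
lemma hql_of_all : PCoh.IsQuasiLiftable P := by
  intro E F u hu hF
  obtain ⟨F', v, hF', hv⟩ := hall E
  exact ⟨F', v, hF', epi_comp v u⟩

include hall in
omit [HasDerivedCategory.{w} C] [P.IsClosedUnderIsomorphisms] [P.ContainsZero] in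
lemma hqs_of_all : PCoh.IsQuasiStableUnderKernels P := fun K _ _ _ => hall _

include hsum hall in
/-- every cohomologically bounded above object is `m`-pseudo-coherent for every `m` -/
theorem isNPC_of_bounded (k : ℕ) : ∀ (m : ℤ) (X : DerivedCategory C),
    (∀ i : ℤ, m + k ≤ i → IsZero ((DerivedCategory.homologyFunctor C i).obj X)) →
    IsNPC P m X := by
  have hqs := hqs_of_all hall
  have hql := hql_of_all hall
  induction k with
  | zero =>
    intro m X hz
    rw [isNPC_iff_isOfFiniteType hsum hqs hql m X (fun i hi => hz i (by simp; lia))]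
    exact hall _
  | succ k ih =>
    intro m X hz
    have hz' : ∀ i : ℤ, m + k < i → IsZero ((DerivedCategory.homologyFunctor C i).obj X) :=
      fun i hi => hz i (by push_cast; lia)
    have hXb : IsNPC P (m + k) X :=
      (isNPC_iff_isOfFiniteType hsum hqs hql (m + k) X hz').2 (hall _)
    obtain ⟨E, hE, ⟨e⟩⟩ := hXb
    refine IsNPC.of_iso e ?_
    have hS := Brutal.sc_shortExact E (m + k)
    have hT := triangleOfSES_distinguished hS
    have hGE : PCoh.IsStrictPCAll P (Brutal.sigmaGE E (m + k)) := by
      obtain ⟨b, hb⟩ := hE.1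
      refine ⟨⟨b, fun i hi => ?_⟩, fun i => ?_⟩
      · by_cases hi' : m + k ≤ i
        · have := Brutal.isIso_ι_f E hi'
          exact (hb i hi).of_iso (asIso ((Brutal.ι E (m + k)).f i))
        · exact Brutal.isZero_sigmaGE_X E (by lia)
      · by_cases hi' : m + k ≤ i
        · have := Brutal.isIso_ι_f E hi'
          exact P.prop_of_iso (asIso ((Brutal.ι E (m + k)).f i)).symm (hE.2 i hi')
        · exact P.prop_of_isZero (Brutal.isZero_sigmaGE_X E (by lia))
    have h3 : IsNPC P m (Q.obj (Brutal.sigmaLT E (m + k))) := by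
      refine ih m _ (fun i hi => ?_)
      exact (isZero_homologyFunctor_Q_iff _ i).2
        (isZero_homology_of_isZero_X _ i (Brutal.isZero_sigmaLT_X E hi))
    exact isNPC_obj₂ hsum hqs hql m _ hT (isNPC_of_strictPCAll hGE m) h3

include hsum hall in
/-- bounded above resolutions -/
theorem exists_resolution (X : DerivedCategory C) (b : ℤ)
    (hb : ∀ i : ℤ, b < i → IsZero ((DerivedCategory.homologyFunctor C i).obj X)) :
    ∃ E : CochainComplex C ℤ, PCoh.IsStrictPCAll P E ∧ Nonempty (DerivedCategory.Q.obj E ≅ X) := by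
  have hqs := hqs_of_all hall
  have hql := hql_of_all hall
  refine exists_strictPCAll hsum hqs hql X (fun n => ?_)
  exact isNPC_of_bounded hsum hall (b + 1 - n).toNat n X (fun i hi => hb i (by lia))

end Groth.Agent.Helper3.CptRes
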