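import Mathlib

/-!
# Sub-coproducts, complementary projections and finite supports
-/

set_option autoImplicit false
set_option linter.unusedSectionVars false
universe w v u

open CategoryTheory CategoryTheory.Limits Opposite

namespace Groth.Agent.Helper3.CptSupp

section

variable {A : Type u} [Category.{v} A] [Preadditive A] [HasCoproducts.{w} A]
  {Λ : Type w} (E : Λ → A)

/-- the sub-coproduct indexed by a subset -/
noncomputable abbrev sub (s : Set Λ) : A := ∐ fun k : s => E k.1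

/-- the inclusion of a sub-coproduct -/
noncomputable def incS (s : Set Λ) : sub E s ⟶ ∐ E := Sigma.desc (fun k => Sigma.ι E k.1)

open Classical in
/-- the projection onto a sub-coproduct -/
noncomputable def prS (s : Set Λ) : ∐ E ⟶ sub E s :=
  Sigma.desc (fun k => if h : k ∈ s then Sigma.ι (fun k : s => E k.1) ⟨k, h⟩ else 0)

@[reassoc (attr := simp)]
lemma ι_incS (s : Set Λ) (k : s) : Sigma.ι (fun k : s => E k.1) k ≫ incS E s = Sigma.ι E k.1 := by
  simp [incS]

@[reassoc]
lemma ι_prS_of_mem (s : Set Λ) {k : Λ} (h : k ∈ s) :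
    Sigma.ι E k ≫ prS E s = Sigma.ι (fun k : s => E k.1) ⟨k, h⟩ := by
  simp [prS, h]

@[reassoc]
lemma ι_prS_of_not_mem (s : Set Λ) {k : Λ} (h : k ∉ s) : Sigma.ι E k ≫ prS E s = 0 := by
  simp [prS, h]

@[reassoc (attr := simp)]
lemma incS_prS (s : Set Λ) : incS E s ≫ prS E s = 𝟙 _ := by
  apply Sigma.hom_ext
  rintro ⟨k, hk⟩
  rw [ι_incS_assoc, ι_prS_of_mem E s hk, Category.comp_id]

@[reassoc]
lemma incS_prS_compl (s : Set Λ) : incS E s ≫ prS E sᶜ = 0 := by
  apply Sigma.hom_ext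
  rintro ⟨k, hk⟩
  rw [ι_incS_assoc, ι_prS_of_not_mem E sᶜ (fun h => h hk), comp_zero]

lemma prS_incS_add (s : Set Λ) : prS E s ≫ incS E s + prS E sᶜ ≫ incS E sᶜ = 𝟙 _ := by
  apply Sigma.hom_ext
  intro k
  rw [Preadditive.comp_add, Category.comp_id]
  by_cases hk : k ∈ s
  · rw [ι_prS_of_mem_assoc E s hk, ι_incS, ι_prS_of_not_mem_assoc E sᶜ (fun h => h hk), zero_comp,
      add_zero]
  · rw [ι_prS_of_not_mem_assoc E s hk, zero_comp, zero_add, ι_prS_of_mem_assoc E sᶜ hk, ι_incS]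

/-- the projections are compatible -/
lemma prS_factor {s t : Set Λ} (h : s ⊆ t) : prS E t ≫ incS E t ≫ prS E s = prS E s := by
  apply Sigma.hom_ext
  intro k
  by_cases hk : k ∈ t
  · rw [ι_prS_of_mem_assoc E t hk, ι_incS_assoc]
  · rw [ι_prS_of_not_mem_assoc E t hk, zero_comp, ι_prS_of_not_mem E s (fun h' => hk (h h'))]

/-- the projections are compatible -/
lemma prS_eq_of_subset {s t : Set Λ} (h : s ⊆ t) {W : A} (g : W ⟶ ∐ E) (hg : g ≫ prS E t = 0) :
    g ≫ prS E s = 0 := by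
  rw [← prS_factor E h, ← Category.assoc, hg, zero_comp]

/-- the split short exact sequence of a subset -/
noncomputable def splitting (s : Set Λ) :
    (ShortComplex.mk (incS E s) (prS E sᶜ) (incS_prS_compl E s)).Splitting where
  r := prS E s
  s := incS E sᶜ
  f_r := incS_prS E s
  s_g := incS_prS E sᶜ
  id := prS_incS_add E s

end

section FinSupp

variable {A : Type u} [Category.{v} A] [Preadditive A] [HasCoproducts.{v} A]
  {Λ : Type v} (E : Λ → A)

/-- maps with finite support -/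
def finSuppSubgroup (F : A) : AddSubgroup (F ⟶ ∐ E) where
  carrier := {g | ∃ T : Finset Λ, g ≫ prS E (↑T : Set Λ)ᶜ = 0}
  zero_mem' := ⟨∅, zero_comp⟩
  add_mem' := by
    classical
    rintro g g' ⟨T, hT⟩ ⟨T', hT'⟩
    refine ⟨T ∪ T', ?_⟩
    rw [Preadditive.add_comp,
      prS_eq_of_subset E (s := (↑(T ∪ T') : Set Λ)ᶜ) (t := (↑T : Set Λ)ᶜ) (by
        intro k hk hk'
        exact hk (by simp at hk' ⊢; exact Or.inl hk')) g hT,
      prS_eq_of_subset E (s := (↑(T ∪ T') : Set Λ)ᶜ) (t := (↑T' : Set Λ)ᶜ) (by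
        intro k hk hk'
        exact hk (by simp at hk' ⊢; exact Or.inr hk')) g' hT', add_zero]
  neg_mem' := by
    rintro g ⟨T, hT⟩
    exact ⟨T, by rw [Preadditive.neg_comp, hT, neg_zero]⟩

/-- if `Hom(F, -)` preserves coproducts, maps from `F` to a coproduct have finite support -/
lemma exists_finset_of_preserves (F : A)
    [PreservesColimitsOfShape (Discrete Λ) (preadditiveCoyoneda.obj (op F))] (g : F ⟶ ∐ E) :
    ∃ T : Finset Λ, g ≫ prS E (↑T : Set Λ)ᶜ = 0 := by
  classical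
  let G : A ⥤ AddCommGrpCat.{v} := preadditiveCoyoneda.obj (op F)
  let H := finSuppSubgroup E F
  have hc : IsColimit (G.mapCocone (Cofan.mk (∐ E) (Sigma.ι E))) :=
    isColimitOfPreserves G (coproductIsCoproduct E)
  let Qt : AddCommGrpCat.{v} := AddCommGrpCat.of ((F ⟶ ∐ E) ⧸ H)
  let q : G.obj (∐ E) ⟶ Qt := AddCommGrpCat.ofHom (QuotientAddGroup.mk' H)
  have hq : q = 0 := by
    apply hc.hom_ext
    rintro ⟨k⟩
    ext x
    change QuotientAddGroup.mk' H (x ≫ Sigma.ι E k) = 0
    rw [QuotientAddGroup.mk'_apply, QuotientAddGroup.eq_zero_iff]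
    refine ⟨{k}, ?_⟩
    rw [Category.assoc, ι_prS_of_not_mem E _ (by simp), comp_zero]
  have hg : QuotientAddGroup.mk' H g = 0 := by
    have := congrArg (fun φ => φ.hom g) hq
    exact this
  rw [QuotientAddGroup.mk'_apply, QuotientAddGroup.eq_zero_iff] at hg
  exact hg

end FinSupp

end Groth.Agent.Helper3.CptSupp
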