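import Mathlib

set_option autoImplicit false
set_option linter.unusedSectionVars false
universe v u

open CategoryTheory CategoryTheory.Limits

namespace Groth.Agent.Helper3.SeqColim

variable {A : Type u} [Category.{v} A] [Abelian A]

section Proj

variable {Z : ℕ → A} (c : Cofan Z) (hc : IsColimit c)

/-- projections from a coproduct -/
noncomputable def proj (n : ℕ) : c.pt ⟶ Z n :=
  Cofan.IsColimit.desc hc (fun m => if h : m = n then eqToHom (by rw [h]) else 0)

@[reassoc (attr := simp)]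
lemma inj_proj_self (n : ℕ) : c.inj n ≫ proj c hc n = 𝟙 _ := by
  simp [proj]

@[reassoc]
lemma inj_proj_ne {m n : ℕ} (h : m ≠ n) : c.inj m ≫ proj c hc n = 0 := by
  simp [proj, h]

/-- truncation -/
noncomputable def tr (N : ℕ) : c.pt ⟶ c.pt := ∑ n ∈ Finset.range N, proj c hc n ≫ c.inj n

lemma inj_tr_lt {n N : ℕ} (h : n < N) : c.inj n ≫ tr c hc N = c.inj n := by
  rw [tr, Preadditive.comp_sum, Finset.sum_eq_single n]
  · simp
  · intro m _ hm
    rw [inj_proj_ne_assoc c hc (Ne.symm hm), zero_comp]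
  · intro h'
    exact absurd (Finset.mem_range.2 h) h'

lemma inj_tr_ge {n N : ℕ} (h : N ≤ n) : c.inj n ≫ tr c hc N = 0 := by
  rw [tr, Preadditive.comp_sum]
  apply Finset.sum_eq_zero
  intro m hm
  have : n ≠ m := by
    rw [Finset.mem_range] at hm
    omega
  rw [inj_proj_ne_assoc c hc this, zero_comp]

/-- tail -/
noncomputable def tl (N : ℕ) : c.pt ⟶ c.pt := 𝟙 _ - tr c hc N

lemma tr_add_tl (N : ℕ) : tr c hc N + tl c hc N = 𝟙 _ := by
  simp [tl]

lemma inj_tl_lt {n N : ℕ} (h : n < N) : c.inj n ≫ tl c hc N = 0 := by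
  rw [tl, Preadditive.comp_sub, Category.comp_id, inj_tr_lt c hc h, sub_self]

lemma inj_tl_ge {n N : ℕ} (h : N ≤ n) : c.inj n ≫ tl c hc N = c.inj n := by
  rw [tl, Preadditive.comp_sub, Category.comp_id, inj_tr_ge c hc h, sub_zero]

lemma tl_tl_succ (N : ℕ) : tl c hc N ≫ tl c hc (N + 1) = tl c hc (N + 1) := by
  apply Cofan.IsColimit.hom_ext hc
  intro n
  by_cases h : n < N
  · rw [← Category.assoc, inj_tl_lt c hc h, zero_comp, inj_tl_lt c hc (by omega)]
  · rw [← Category.assoc, inj_tl_ge c hc (by omega)]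

end Proj

section JointMono

variable [HasColimitsOfShape ℕ A] [HasExactColimitsOfShape ℕ A]
  {Z : ℕ → A} (c : Cofan Z) (hc : IsColimit c)

/-- the tower `c.pt → c.pt → …` of tails -/
noncomputable def T : ℕ ⥤ A :=
  Functor.ofSequence (X := fun _ => c.pt) (fun N => tl c hc (N + 1))

lemma T_map (N d : ℕ) :
    (T c hc).map (homOfLE (show N ≤ N + d + 1 by omega)) = tl c hc (N + d + 1) := by
  induction d with
  | zero => exact Functor.ofSequence_map_homOfLE_succ _ N
  | succ d ih =>
    have h1 : homOfLE (show N ≤ N + (d + 1) + 1 by omega) =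
        homOfLE (show N ≤ N + d + 1 by omega) ≫ homOfLE (show N + d + 1 ≤ N + (d + 1) + 1 by omega) :=
      rfl
    rw [h1, Functor.map_comp, ih]
    have h2 : (T c hc).map (homOfLE (show N + d + 1 ≤ N + (d + 1) + 1 by omega)) =
        tl c hc (N + d + 1 + 1) := Functor.ofSequence_map_homOfLE_succ _ (N + d + 1)
    rw [h2]
    exact tl_tl_succ c hc (N + d + 1)

lemma colimι_T_eq_zero (N : ℕ) : colimit.ι (T c hc) N = 0 := by
  have h0 : (colimit.ι (T c hc) N : c.pt ⟶ colimit (T c hc)) = 0 := by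
    apply Cofan.IsColimit.hom_ext hc
    intro n
    have h1 : tl c hc (N + n + 1) ≫
        (colimit.ι (T c hc) (N + n + 1) : c.pt ⟶ colimit (T c hc)) =
        (colimit.ι (T c hc) N : c.pt ⟶ colimit (T c hc)) := by
      have := colimit.w (T c hc) (homOfLE (show N ≤ N + n + 1 by omega))
      rw [T_map] at this
      exact this
    rw [← h1, ← Category.assoc, inj_tl_lt c hc (by omega), zero_comp]
    exact comp_zero.symm
  exact h0

lemma isZero_colimit_T : IsZero (colimit (T c hc)) := by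
  rw [IsZero.iff_id_eq_zero]
  apply colimit.hom_ext
  intro N
  rw [colimι_T_eq_zero, zero_comp, zero_comp]

/-- the projections from a countable coproduct are jointly monic (exact sequential colimits) -/
theorem joint_mono {K : A} (k : K ⟶ c.pt) (hk : ∀ n, k ≫ proj c hc n = 0) : k = 0 := by
  have hktr : ∀ N, k ≫ tr c hc N = 0 := by
    intro N
    rw [tr, Preadditive.comp_sum]
    apply Finset.sum_eq_zero
    intro n _
    rw [← Category.assoc, hk, zero_comp]
  let α : (Functor.const ℕ).obj K ⟶ T c hc :=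
    NatTrans.ofSequence (fun N => k ≫ tl c hc N) (by
      intro N
      have h2 : (T c hc).map (homOfLE (Nat.le_add_right N 1)) = tl c hc (N + 1) :=
        Functor.ofSequence_map_homOfLE_succ _ N
      have h3 : (k ≫ tl c hc N) ≫ tl c hc (N + 1) = 𝟙 K ≫ k ≫ tl c hc (N + 1) := by
        rw [Category.assoc, tl_tl_succ, Category.id_comp]
      rw [h2]
      exact h3.symm)
  let S : ShortComplex (ℕ ⥤ A) := ShortComplex.mk (kernel.ι α) α (kernel.condition α)
  have hS : S.Exact := ShortComplex.exact_of_f_is_kernel _ (kernelIsKernel α)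
  have : PreservesFiniteLimits (colim : (ℕ ⥤ A) ⥤ A) :=
    HasExactColimitsOfShape.preservesFiniteLimits
  have hS' : (S.map (colim : (ℕ ⥤ A) ⥤ A)).Exact := hS.map _
  have hepi : Epi (S.map (colim : (ℕ ⥤ A) ⥤ A)).f :=
    hS'.epi_f ((isZero_colimit_T c hc).eq_of_tgt _ _)
  let p : colimit ((Functor.const ℕ).obj K) ⟶ K :=
    colimit.desc _ ⟨K, 𝟙 _⟩
  have h1 : (S.map (colim : (ℕ ⥤ A) ⥤ A)).f ≫ p ≫ k = 0 := by
    apply colimit.hom_ext
    intro N
    change colimit.ι (kernel α) N ≫ colimMap (kernel.ι α) ≫ p ≫ k = _ ≫ 0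
    rw [comp_zero, ι_colimMap_assoc, colimit.ι_desc_assoc]
    change (kernel.ι α).app N ≫ 𝟙 _ ≫ k = 0
    rw [Category.id_comp]
    have h2 : ((kernel.ι α).app N ≫ k) ≫ tl c hc N = 0 := by
      have h3 : (kernel.ι α ≫ α).app N = 0 := by
        rw [kernel.condition]
        rfl
      rw [NatTrans.comp_app] at h3
      have h3' : α.app N = k ≫ tl c hc N := rfl
      rw [h3'] at h3
      exact (Category.assoc _ _ _).trans h3
    have h4 : (kernel.ι α).app N ≫ k =
        ((kernel.ι α).app N ≫ k) ≫ (tr c hc N + tl c hc N) := by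
      rw [tr_add_tl, Category.comp_id]
    rw [h4, Preadditive.comp_add, h2, Category.assoc, hktr, comp_zero, add_zero]
  have h5 : p ≫ k = 0 := by
    exact (cancel_epi (S.map (colim : (ℕ ⥤ A) ⥤ A)).f).1 (h1.trans comp_zero.symm)
  have h6 : colimit.ι ((Functor.const ℕ).obj K) 0 ≫ p = 𝟙 K := by
    simp [p]
  rw [← Category.id_comp k, ← h6, Category.assoc, h5, comp_zero]

include hc in
/-- `𝟙 - shift` on a countable coproduct is a monomorphism -/
theorem mono_one_sub_shift (g : ∀ n, Z n ⟶ Z (n + 1)) (d : c.pt ⟶ c.pt)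
    (hd : ∀ n, c.inj n ≫ d = c.inj n - g n ≫ c.inj (n + 1)) : Mono d := by
  have hd0 : d ≫ proj c hc 0 = proj c hc 0 := by
    apply Cofan.IsColimit.hom_ext hc
    intro n
    rw [← Category.assoc, hd, Preadditive.sub_comp, Category.assoc,
      inj_proj_ne c hc (Nat.succ_ne_zero n), comp_zero, sub_zero]
  have hds : ∀ m, d ≫ proj c hc (m + 1) = proj c hc (m + 1) - proj c hc m ≫ g m := by
    intro m
    apply Cofan.IsColimit.hom_ext hc
    intro n
    rw [← Category.assoc, hd, Preadditive.sub_comp, Preadditive.comp_sub, Category.assoc]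
    congr 1
    by_cases h : n = m
    · subst h
      simp
    · have h' : n + 1 ≠ m + 1 := fun h' => h (Nat.succ_injective h')
      rw [inj_proj_ne c hc h', comp_zero, inj_proj_ne_assoc c hc h, zero_comp]
  apply Preadditive.mono_of_cancel_zero
  intro K k hk
  apply joint_mono c hc k
  intro n
  induction n with
  | zero => rw [← hd0, ← Category.assoc, hk, zero_comp]
  | succ m ih =>
    have h1 : k ≫ d ≫ proj c hc (m + 1) = 0 := by rw [← Category.assoc, hk, zero_comp]
    rw [hds, Preadditive.comp_sub, ← Category.assoc k, ih, zero_comp, sub_zero] at h1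
    exact h1

end JointMono

section SES

variable [HasColimitsOfShape ℕ A] [HasExactColimitsOfShape ℕ A]
  (F : ℕ ⥤ A) (c : Cofan F.obj) (hc : IsColimit c) (d : c.pt ⟶ c.pt)
  (hd : ∀ n, c.inj n ≫ d = c.inj n - F.map (homOfLE (Nat.le_succ n)) ≫ c.inj (n + 1))
  (s : Cocone F) (hs : IsColimit s) (π : c.pt ⟶ s.pt) (hπ : ∀ n, c.inj n ≫ π = s.ι.app n)

include hc hd hπ in
lemma d_π : d ≫ π = 0 := by
  apply Cofan.IsColimit.hom_ext hc
  intro n
  rw [← Category.assoc, hd, Preadditive.sub_comp, Category.assoc, hπ, hπ, comp_zero,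
    Cocone.w, sub_self]

include hc hs hπ in
lemma epi_π : Epi π := by
  constructor
  intro W a b hab
  apply hs.hom_ext
  intro n
  rw [← hπ, Category.assoc, Category.assoc, hab]

include hc hd in
lemma cocone_nat {W : A} (t : c.pt ⟶ W) (ht : d ≫ t = 0) (n : ℕ) :
    F.map (homOfLE (Nat.le_succ n)) ≫ c.inj (n + 1) ≫ t = c.inj n ≫ t := by
  have h1 : c.inj n ≫ d ≫ t = 0 := by rw [ht, comp_zero]
  rw [← Category.assoc, hd, Preadditive.sub_comp, sub_eq_zero, Category.assoc] at h1
  exact h1.symm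

include hc hd hs hπ in
/-- the sequence `0 → ⨁ Fₙ → ⨁ Fₙ → colim F → 0` is short exact -/
theorem shortExact : (ShortComplex.mk d π (d_π F c hc d hd s π hπ)).ShortExact := by
  have hepi : Epi π := epi_π F c hc s hs π hπ
  have hmono : Mono d :=
    mono_one_sub_shift c hc (fun n => F.map (homOfLE (Nat.le_succ n))) d hd
  refine ShortComplex.ShortExact.mk' ?_ hmono hepi
  apply ShortComplex.exact_of_g_is_cokernel
  refine CokernelCofork.IsColimit.ofπ' _ _ ?_
  intro W t ht
  let α : F ⟶ (Functor.const ℕ).obj W :=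
    NatTrans.ofSequence (fun n => c.inj n ≫ t) (by
      intro n
      have h1 := cocone_nat F c hc d hd t ht n
      have h2 : c.inj n ≫ t = (c.inj n ≫ t) ≫ 𝟙 W := (Category.comp_id _).symm
      exact h1.trans h2)
  refine ⟨hs.desc ⟨W, α⟩, ?_⟩
  apply Cofan.IsColimit.hom_ext hc
  intro n
  change c.inj n ≫ π ≫ hs.desc ⟨W, α⟩ = c.inj n ≫ t
  rw [← Category.assoc, hπ, hs.fac]
  rfl

end SES

end Groth.Agent.Helper3.SeqColim
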