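import Mathlib
import Groth.Prelude.Def_CohDer
import Groth.Agent.Lib.Helper3.Brutal
import Groth.Agent.Lib.Helper3.NatCompact
import Groth.Agent.Lib.Helper3.DCoprod
import Groth.Agent.Lib.Helper3.SeqColim
import Groth.Agent.Lib.Helper3.CptGen

/-!
# Maps from compact objects factor through a brutal truncation
-/

set_option autoImplicit false
set_option linter.unusedSectionVars false
universe w v u

open CategoryTheory CategoryTheory.Limits HomologicalComplex

namespace Groth.Agent.Helper3.CptTrunc

open Groth.Agent.Helper3.DCoprod Groth.Agent.Helper3.Brutal DerivedCategory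

section Trans

variable {A : Type u} [Category.{v} A] [Abelian A] (K : CochainComplex A ℤ)

/-- transition maps between brutal truncations -/
noncomputable def trans {k k' : ℤ} (h : k' ≤ k) : sigmaGE K k ⟶ sigmaGE K k' where
  f i := incl K k i ≫ proj K k' i
  comm' i j hij := by
    change i + 1 = j at hij
    change (incl K k i ≫ proj K k' i) ≫ (incl K k' i ≫ K.d i j ≫ proj K k' j) =
      (incl K k i ≫ K.d i j ≫ proj K k j) ≫ (incl K k j ≫ proj K k' j)
    by_cases hi : k ≤ i
    · have hj : k ≤ j := by lia
      have hi' : k' ≤ i := by lia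
      simp only [Category.assoc, proj_incl_assoc K hj, proj_incl_assoc K hi']
    · have : incl K k i = 0 := (isZero_X K hi).eq_of_src _ _
      simp [this]

@[reassoc (attr := simp)]
lemma trans_ι {k k' : ℤ} (h : k' ≤ k) : trans K h ≫ ι K k' = ι K k := by
  ext i
  change (incl K k i ≫ proj K k' i) ≫ incl K k' i = incl K k i
  by_cases hi : k ≤ i
  · have hi' : k' ≤ i := by lia
    rw [Category.assoc, proj_incl K hi', Category.comp_id]
  · exact (isZero_X K hi).eq_of_src _ _

lemma trans_refl (k : ℤ) : trans K (le_refl k) = 𝟙 _ := by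
  rw [← cancel_mono (ι K k), trans_ι, Category.id_comp]

lemma trans_trans {k k' k'' : ℤ} (h : k' ≤ k) (h' : k'' ≤ k') :
    trans K h ≫ trans K h' = trans K (h'.trans h) := by
  rw [← cancel_mono (ι K k''), Category.assoc, trans_ι, trans_ι, trans_ι]

/-- the sequence of brutal truncations -/
noncomputable def seq (b : ℤ) : ℕ ⥤ CochainComplex A ℤ where
  obj n := sigmaGE K (b - n)
  map {n m} f := trans K (by have := leOfHom f; lia)
  map_id n := trans_refl K _
  map_comp f g := (trans_trans K _ _).symm

lemma seq_map_ι (b : ℤ) {n m : ℕ} (f : n ⟶ m) :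
    (seq K b).map f ≫ ι K (b - m) = ι K (b - n) :=
  trans_ι K (by have := leOfHom f; lia)

/-- the cocone of the sequence of brutal truncations -/
noncomputable def cocone (b : ℤ) : Cocone (seq K b) where
  pt := K
  ι := { app := fun n => ι K (b - n)
         naturality := fun n m f => by
           dsimp [seq]
           rw [trans_ι, Category.comp_id] }

/-- the complex is the colimit of its brutal truncations -/
noncomputable def isColimitCocone (b : ℤ) : IsColimit (cocone K b) := by
  refine isColimitOfEval _ _ (fun i => ?_)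
  have h : ((seq K b) ⋙ eval A (ComplexShape.up ℤ) i).IsEventuallyConstantFrom (b - i).toNat := by
    intro n f
    have hn := leOfHom f
    have h1 : IsIso ((ι K (b - ((b - i).toNat : ℕ))).f i) := isIso_ι_f K (by lia)
    have h2 : IsIso ((ι K (b - (n : ℕ))).f i) := isIso_ι_f K (by lia)
    have h3 : ((seq K b).map f).f i ≫ (ι K (b - (n : ℕ))).f i =
        (ι K (b - ((b - i).toNat : ℕ))).f i := by
      rw [← comp_f, seq_map_ι]
    have : IsIso (((seq K b).map f).f i ≫ (ι K (b - (n : ℕ))).f i) := by rw [h3]; exact h1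
    change IsIso (((seq K b).map f).f i)
    exact @IsIso.of_isIso_comp_right _ _ _ _ _ _ ((ι K (b - (n : ℕ))).f i) h2 this
  have : IsIso (((eval A (ComplexShape.up ℤ) i).mapCocone (cocone K b)).ι.app (b - i).toNat) :=
    isIso_ι_f K (by lia)
  exact h.isColimitOfIsIso _

end Trans

section Factor

variable {A : Type u} [Category.{v} A] [Abelian A]
  [HasColimitsOfShape (Discrete ℕ) A] [HasExactColimitsOfShape (Discrete ℕ) A]
  [HasColimitsOfShape ℕ A] [HasExactColimitsOfShape ℕ A]
  [HasDerivedCategory.{w} A]

/-- the termwise coproduct is a coproduct of complexes -/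
noncomputable def isColimitCK {J : Type*}
    [HasCoproductsOfShape J A] (K : J → CochainComplex A ℤ) :
    IsColimit (Cofan.mk (cK K) (inK K)) :=
  Cofan.IsColimit.mk _ (fun t => descK (fun j => t.inj j)) (fun t j => inK_descK _ j)
    (fun t m hm => by
      ext n
      apply Limits.Sigma.hom_ext
      intro j
      have h1 := congrArg (fun φ => φ.f n) (hm j)
      have h2 := congrArg (fun φ => φ.f n) (inK_descK (fun j => t.inj j) j)
      exact h1.trans h2.symm)

/-- a map from a compact object to a complex factors through a brutal truncation -/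
theorem exists_factor (P : CochainComplex A ℤ) (b : ℤ) (K : DerivedCategory A)
    (hK : CptGen.WeakCpt.{v} K) (φ : K ⟶ Q.obj P) :
    ∃ (n : ℕ) (u : K ⟶ Q.obj (sigmaGE P (b - n))), u ≫ Q.map (ι P (b - n)) = φ := by
  classical
  let L := seq P b
  let c := cocone P b
  have hc := isColimitCocone P b
  let Lo : ℕ → CochainComplex A ℤ := fun n => L.obj n
  have hcCh := isColimitCK Lo
  let d : cK Lo ⟶ cK Lo := 𝟙 _ - descK (fun n => L.map (homOfLE (Nat.le_succ n)) ≫ inK Lo (n + 1))
  have hd : ∀ n, inK Lo n ≫ d = inK Lo n - L.map (homOfLE (Nat.le_succ n)) ≫ inK Lo (n + 1) := by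
    intro n
    rw [Preadditive.comp_sub, Category.comp_id, inK_descK]
  let π : cK Lo ⟶ c.pt := descK (fun n => c.ι.app n)
  have hπ : ∀ n, inK Lo n ≫ π = c.ι.app n := fun n => inK_descK _ n
  have ex2 : HasExactColimitsOfShape ℕ (CochainComplex A ℤ) :=
    HomologicalComplex.hasExactColimitsOfShape _ _ ℕ
  have hSES := SeqColim.shortExact L (Cofan.mk (cK Lo) (inK Lo)) hcCh d hd c hc π hπ
  have hT := DerivedCategory.triangleOfSES_distinguished hSES
  have hP : NatCompact.NatFin K := CptGen.natFin_of_weakCpt hK
  have hcD : IsColimit (Cofan.mk (Q.obj (cK Lo)) (fun n => Q.map (inK Lo n))) := isColimitCofan Lo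
  have hdD : ∀ n, Q.map (inK Lo n) ≫ Q.map d =
      Q.map (inK Lo n) - Q.map (L.map (homOfLE (Nat.le_succ n))) ≫ Q.map (inK Lo (n + 1)) := by
    intro n
    rw [← Functor.map_comp, hd, Functor.map_sub, Functor.map_comp]
  obtain ⟨N, u, hu⟩ := NatCompact.exists_factor hP (L ⋙ Q)
    (fun n => Q.map (inK Lo n)) hcD (Q.map d) hdD
    (Q.map π) (DerivedCategory.triangleOfSESδ hSES) hT φ
  refine ⟨N, u, ?_⟩
  rw [← hu, ← Functor.map_comp, hπ]
  rfl

end Factor

end Groth.Agent.Helper3.CptTrunc
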