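import Mathlib
import Groth.Prelude.Def_CohDer
import Groth.Agent.Lib.Helper3.CptGen
import Groth.Agent.Lib.Helper3.CptSupp
import Groth.Agent.Lib.Helper3.CptTrunc

/-!
# The inductive step: cutting down one term of a complex to a finite sum
-/

set_option autoImplicit false
set_option linter.unusedSectionVars false
universe w v u

open CategoryTheory CategoryTheory.Limits HomologicalComplex Opposite

namespace Groth.Agent.Helper3.CptStep

open Groth.Agent.Helper3.DCoprod Groth.Agent.Helper3.CptGen Groth.Agent.Helper3.CptSupp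
  Groth.Agent.Helper3.CptTrunc DerivedCategory

variable {A : Type u} [Category.{v} A] [Abelian A] [HasCoproducts.{v} A]
  [∀ J : Type v, HasExactColimitsOfShape (Discrete J) A]
  [HasDerivedCategory.{w} A]

section SingleCoprod

variable {Λ : Type v} (F : Λ → A) (c : ℤ)

/-- the single complex of a coproduct is the termwise coproduct of the single complexes -/
noncomputable def θ : cK (fun k => (single A (ComplexShape.up ℤ) c).obj (F k)) ≅
    (single A (ComplexShape.up ℤ) c).obj (∐ F) :=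
  (isColimitCK (fun k => (single A (ComplexShape.up ℤ) c).obj (F k))).coconePointUniqueUpToIso
    (isColimitCofanMkObjOfIsColimit (single A (ComplexShape.up ℤ) c) F _ (coproductIsCoproduct F))

lemma inK_θ (k : Λ) : inK (fun k => (single A (ComplexShape.up ℤ) c).obj (F k)) k ≫ (θ F c).hom =
    (single A (ComplexShape.up ℤ) c).map (Sigma.ι F k) :=
  IsColimit.comp_coconePointUniqueUpToIso_hom
    (isColimitCK (fun k => (single A (ComplexShape.up ℤ) c).obj (F k)))
    (isColimitCofanMkObjOfIsColimit (single A (ComplexShape.up ℤ) c) F _ (coproductIsCoproduct F)) ⟨k⟩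

/-- the single complex of a coproduct is a coproduct in the derived category -/
noncomputable def isColimitSingle :
    IsColimit (Cofan.mk (Q.obj ((single A (ComplexShape.up ℤ) c).obj (∐ F)))
      (fun k => Q.map ((single A (ComplexShape.up ℤ) c).map (Sigma.ι F k)))) :=
  IsColimit.ofIsoColimit (isColimitCofan (fun k => (single A (ComplexShape.up ℤ) c).obj (F k)))
    (Cocone.ext (Q.mapIso (θ F c)) (by
      rintro ⟨k⟩
      exact (Q.map_comp _ _).symm.trans (congrArg Q.map (inK_θ F c k))))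

end SingleCoprod

section Step

variable (S : Set A) [HasFiniteBiproducts A]

/-- finite direct sums of members of `S` -/
def Pfin : ObjectProperty A := fun X =>
  ∃ (n : ℕ) (E : Fin n → A), (∀ j, E j ∈ S) ∧ Nonempty (X ≅ ⨁ E)

lemma pfin_of_iso {X Y : A} (e : X ≅ Y) (hX : Pfin S X) : Pfin S Y := by
  obtain ⟨n, E, hE, ⟨e'⟩⟩ := hX
  exact ⟨n, E, hE, ⟨e.symm ≪≫ e'⟩⟩

lemma pfin_of_isZero {X : A} (hX : IsZero X) : Pfin S X := by
  refine ⟨0, fun j => Fin.elim0 j, fun j => Fin.elim0 j, ⟨hX.iso ?_⟩⟩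
  rw [IsZero.iff_id_eq_zero]
  apply biproduct.hom_ext
  intro j
  exact Fin.elim0 j

variable {S}
  (h2 : ∀ E ∈ S, ∀ ι : Type v, PreservesColimitsOfShape (Discrete ι) (preadditiveCoyoneda.obj (op E)))

include h2 in
/-- maps from a finite sum of members of `S` to a coproduct have finite support -/
lemma exists_finset_of_pfin {X : A} (hX : Pfin S X) {Λ : Type v} (E : Λ → A) (g : X ⟶ ∐ E) :
    ∃ T : Finset Λ, g ≫ prS E (↑T : Set Λ)ᶜ = 0 := by
  classical
  obtain ⟨n, F, hF, ⟨e⟩⟩ := hX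
  have h : ∀ j : Fin n, ∃ T : Finset Λ, (biproduct.ι F j ≫ e.inv ≫ g) ≫ prS E (↑T : Set Λ)ᶜ = 0 := by
    intro j
    have := h2 (F j) (hF j) Λ
    exact exists_finset_of_preserves E (F j) _
  choose T hT using h
  refine ⟨Finset.univ.biUnion T, ?_⟩
  have h1 : e.inv ≫ g ≫ prS E (↑(Finset.univ.biUnion T) : Set Λ)ᶜ = 0 := by
    apply biproduct.hom_ext'
    intro j
    rw [comp_zero]
    have := prS_eq_of_subset E (s := (↑(Finset.univ.biUnion T) : Set Λ)ᶜ) (t := (↑(T j) : Set Λ)ᶜ)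
      (by
        intro k hk hk'
        exact hk (by
          simp only [Finset.coe_biUnion, Finset.coe_univ, Set.mem_univ, Set.iUnion_true,
            Set.mem_iUnion, Finset.mem_coe]
          exact ⟨j, hk'⟩)) _ (hT j)
    simpa using this
  have h3 : g ≫ prS E (↑(Finset.univ.biUnion T) : Set Λ)ᶜ =
      e.hom ≫ e.inv ≫ g ≫ prS E (↑(Finset.univ.biUnion T) : Set Λ)ᶜ := by simp
  rw [h3, h1, comp_zero]

variable {Λ : Type v} (E : Λ → A) (L : CochainComplex A ℤ) (c : ℤ) (e : L.X c ≅ ∐ E)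

/-- the projection of the complex onto the complementary summand in degree `c` -/
noncomputable def piT (T : Finset Λ)
    (hT : L.d (c - 1) c ≫ e.hom ≫ prS E (↑T : Set Λ)ᶜ = 0) :
    L ⟶ (single A (ComplexShape.up ℤ) c).obj (sub E (↑T : Set Λ)ᶜ) :=
  mkHomToSingle (e.hom ≫ prS E (↑T : Set Λ)ᶜ) (by
    intro i hi
    change i + 1 = c at hi
    obtain rfl : i = c - 1 := by lia
    exact hT)

lemma piT_f (T : Finset Λ) (hT : L.d (c - 1) c ≫ e.hom ≫ prS E (↑T : Set Λ)ᶜ = 0) :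
    (piT E L c e T hT).f c = (e.hom ≫ prS E (↑T : Set Λ)ᶜ) ≫
      (singleObjXSelf (ComplexShape.up ℤ) c _).inv :=
  mkHomToSingle_f _ _

instance (T : Finset Λ) (hT : L.d (c - 1) c ≫ e.hom ≫ prS E (↑T : Set Λ)ᶜ = 0) :
    Epi (piT E L c e T hT) := by
  apply HomologicalComplex.epi_of_epi_f
  intro j
  by_cases hj : j = c
  · subst hj
    rw [piT_f]
    have : IsSplitEpi (prS E (↑T : Set Λ)ᶜ) := IsSplitEpi.mk' ⟨incS E _, incS_prS E _⟩
    infer_instance
  · have hz : IsZero (((single A (ComplexShape.up ℤ) c).obj (sub E (↑T : Set Λ)ᶜ)).X j) :=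
      isZero_single_obj_X _ _ _ _ hj
    exact ⟨fun g h _ => hz.eq_of_src g h⟩

/-- the finite sub-coproduct is a finite direct sum -/
lemma pfin_sub (hE : ∀ k, E k ∈ S) (T : Finset Λ) : Pfin S (sub E (↑T : Set Λ)) := by
  classical
  let G : ↥(↑T : Set Λ) → A := fun k => E k.1
  let n := Fintype.card ↥(↑T : Set Λ)
  let ε : Fin n ≃ ↥(↑T : Set Λ) := (Fintype.equivFin _).symm
  refine ⟨n, fun j => G (ε j), fun j => hE _, ⟨?_⟩⟩
  exact (biproduct.isoCoproduct G).symm ≪≫
    (biproduct.whiskerEquiv (f := fun j => G (ε j)) (g := G) ε (fun j => Iso.refl _)).symm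

include h2 e in
/-- the inductive step -/
theorem step (hE : ∀ k, E k ∈ S) (hfin : Pfin S (L.X (c - 1)))
    (K : DerivedCategory A) (hK : WeakCpt.{v} K) (φ : K ⟶ Q.obj L) :
    ∃ (L' : CochainComplex A ℤ) (i : L' ⟶ L) (φ' : K ⟶ Q.obj L'),
      φ' ≫ Q.map i = φ ∧ (∀ j, Mono (i.f j)) ∧ (∀ j, j ≠ c → IsIso (i.f j)) ∧ Pfin S (L'.X c) := by
  classical
  obtain ⟨T₀, hT₀⟩ := exists_finset_of_pfin h2 hfin E (L.d (c - 1) c ≫ e.hom)
  have hT₀' : L.d (c - 1) c ≫ e.hom ≫ prS E (↑T₀ : Set Λ)ᶜ = 0 := by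
    rw [← Category.assoc]
    exact hT₀
  let π₀ := piT E L c e T₀ hT₀'
  let F₀ : ↥((↑T₀ : Set Λ)ᶜ) → A := fun k => E k.1
  have hcD := isColimitSingle F₀ c
  obtain ⟨S₁, x, hx⟩ := hK _ _ _ _ hcD (φ ≫ Q.map π₀)
  let T : Finset Λ := T₀ ∪ S₁.image Subtype.val
  have hsub : ((↑T : Set Λ)ᶜ) ⊆ ((↑T₀ : Set Λ)ᶜ) := by
    intro k hk hk'
    exact hk (by simp only [T, Finset.coe_union, Set.mem_union]; exact Or.inl hk')
  have hT : L.d (c - 1) c ≫ e.hom ≫ prS E (↑T : Set Λ)ᶜ = 0 := by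
    have := prS_eq_of_subset E hsub (L.d (c - 1) c ≫ e.hom) hT₀
    rw [Category.assoc] at this
    exact this
  let π := piT E L c e T hT
  let ρ : sub E (↑T₀ : Set Λ)ᶜ ⟶ sub E (↑T : Set Λ)ᶜ :=
    incS E (↑T₀ : Set Λ)ᶜ ≫ prS E (↑T : Set Λ)ᶜ
  have hπ : π = π₀ ≫ (single A (ComplexShape.up ℤ) c).map ρ := by
    apply to_single_hom_ext
    rw [comp_f, piT_f, piT_f, single_map_f_self]
    simp only [Category.assoc, Iso.inv_hom_id_assoc]
    have hρ : prS E (↑T₀ : Set Λ)ᶜ ≫ ρ = prS E (↑T : Set Λ)ᶜ := prS_factor E hsub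
    rw [← Category.assoc (prS E (↑T₀ : Set Λ)ᶜ) ρ, hρ]
  have hφπ : φ ≫ Q.map π = 0 := by
    rw [hπ, Functor.map_comp, ← Category.assoc, hx, Preadditive.sum_comp]
    apply Finset.sum_eq_zero
    intro k hk
    have hk' : k.1 ∉ ((↑T : Set Λ)ᶜ) := by
      intro h
      apply h
      simp only [T, Finset.coe_union, Set.mem_union, Finset.coe_image, Set.mem_image,
        Finset.mem_coe]
      exact Or.inr ⟨k, hk, rfl⟩
    have h0 : Sigma.ι F₀ k ≫ ρ = 0 := by
      change Sigma.ι (fun k : ↥((↑T₀ : Set Λ)ᶜ) => E k.1) k ≫ incS E (↑T₀ : Set Λ)ᶜ ≫ _ = 0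
      rw [ι_incS_assoc, ι_prS_of_not_mem E _ hk']
    rw [Category.assoc, ← Functor.map_comp, ← Functor.map_comp, h0, Functor.map_zero,
      Functor.map_zero, comp_zero]
  have hSES : (ShortComplex.mk (kernel.ι π) π (kernel.condition π)).ShortExact :=
    { exact := ShortComplex.exact_kernel π
      mono_f := inferInstanceAs (Mono (kernel.ι π))
      epi_g := inferInstanceAs (Epi π) }
  have hTri := triangleOfSES_distinguished hSES
  obtain ⟨φ', hφ'⟩ := Pretriangulated.Triangle.coyoneda_exact₂ _ hTri φ hφπ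
  refine ⟨kernel π, kernel.ι π, φ', hφ'.symm, fun j => inferInstance, ?_, ?_⟩
  · intro j hj
    have hS := hSES.map_of_exact (eval A (ComplexShape.up ℤ) j)
    have hz : IsZero (((single A (ComplexShape.up ℤ) c).obj (sub E (↑T : Set Λ)ᶜ)).X j) :=
      isZero_single_obj_X _ _ _ _ hj
    have : Epi ((kernel.ι π).f j) := hS.exact.epi_f (hz.eq_of_tgt _ _)
    exact isIso_of_mono_of_epi ((kernel.ι π).f j)
  · have hS := hSES.map_of_exact (eval A (ComplexShape.up ℤ) c)
    have hic : (kernel.ι π).f c ≫ e.hom ≫ prS E (↑T : Set Λ)ᶜ = 0 := by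
      have h1 : (kernel.ι π).f c ≫ π.f c = 0 := by
        rw [← comp_f, kernel.condition]
        rfl
      rw [piT_f] at h1
      rw [← cancel_mono (singleObjXSelf (ComplexShape.up ℤ) c (sub E (↑T : Set Λ)ᶜ)).inv,
        zero_comp]
      simpa using h1
    let α : (kernel π).X c ⟶ sub E (↑T : Set Λ) := (kernel.ι π).f c ≫ e.hom ≫ prS E (↑T : Set Λ)
    have hk : (incS E (↑T : Set Λ) ≫ e.inv) ≫ π.f c = 0 := by
      rw [piT_f]
      simp only [Category.assoc, Iso.inv_hom_id_assoc]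
      rw [incS_prS_compl_assoc, zero_comp]
    have : Mono ((ShortComplex.mk (kernel.ι π) π (kernel.condition π)).map
      (eval A (ComplexShape.up ℤ) c)).f := hS.mono_f
    let β : sub E (↑T : Set Λ) ⟶ (kernel π).X c := hS.exact.lift (incS E (↑T : Set Λ) ≫ e.inv) hk
    have hβ : β ≫ (kernel.ι π).f c = incS E (↑T : Set Λ) ≫ e.inv :=
      hS.exact.lift_f (incS E (↑T : Set Λ) ≫ e.inv) hk
    have h1 : β ≫ α = 𝟙 _ := by
      change β ≫ (kernel.ι π).f c ≫ e.hom ≫ prS E (↑T : Set Λ) = _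
      rw [← Category.assoc, hβ]
      simp
    have h2' : α ≫ β = 𝟙 _ := by
      rw [← cancel_mono ((kernel.ι π).f c), Category.assoc, hβ, Category.id_comp]
      have h4 : prS E (↑T : Set Λ) ≫ incS E (↑T : Set Λ) =
          𝟙 _ - prS E (↑T : Set Λ)ᶜ ≫ incS E (↑T : Set Λ)ᶜ := by
        rw [← prS_incS_add E (↑T : Set Λ)]
        abel
      calc α ≫ incS E (↑T : Set Λ) ≫ e.inv
          = ((kernel.ι π).f c ≫ e.hom) ≫ (prS E (↑T : Set Λ) ≫ incS E (↑T : Set Λ)) ≫ e.inv := by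
            simp [α]
        _ = ((kernel.ι π).f c ≫ e.hom) ≫ e.inv -
            (((kernel.ι π).f c ≫ e.hom) ≫ prS E (↑T : Set Λ)ᶜ) ≫ incS E (↑T : Set Λ)ᶜ ≫ e.inv := by
            rw [h4, Preadditive.sub_comp, Preadditive.comp_sub, Category.id_comp]
            simp
        _ = (kernel.ι π).f c := by
            rw [Category.assoc ((kernel.ι π).f c) e.hom (prS E (↑T : Set Λ)ᶜ), hic, zero_comp,
              sub_zero]
            simp
    exact pfin_of_iso S (Iso.mk β α h1 h2') (pfin_sub E hE T)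

end Step

end Groth.Agent.Helper3.CptStep
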