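import Mathlib
import Groth.Prelude.Def_CohDer
import Groth.Prelude.Def_PCoh
import Groth.Agent.Lib.Helper3.CptBdd
import Groth.Agent.Lib.Helper3.CptRes
import Groth.Agent.Lib.Helper3.CptStep

/-!
# Compact objects of `D(A)` are retracts of bounded complexes of finite sums of generators
-/

set_option autoImplicit false
set_option linter.unusedSectionVars false
universe w v u

open CategoryTheory CategoryTheory.Limits HomologicalComplex Opposite

namespace Groth.Agent.Helper3.CptMain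

open Groth.Agent.Helper3.DCoprod Groth.Agent.Helper3.CptGen Groth.Agent.Helper3.CptSupp
  Groth.Agent.Helper3.CptTrunc Groth.Agent.Helper3.CptStep DerivedCategory

section Pinf

variable {A : Type u} [Category.{v} A] [Abelian A] [HasCoproducts.{v} A] (S : Set A)

/-- arbitrary direct sums of members of `S` -/
def Pinf : ObjectProperty A := fun X =>
  ∃ (ι : Type v) (E : ι → A), (∀ i, E i ∈ S) ∧ Nonempty (X ≅ ∐ E)

instance : (Pinf S).IsClosedUnderIsomorphisms where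
  of_iso {X Y} e h := by
    obtain ⟨ι, E, hE, ⟨e'⟩⟩ := h
    exact ⟨ι, E, hE, ⟨e.symm ≪≫ e'⟩⟩

instance : (Pinf S).ContainsZero where
  exists_zero := by
    refine ⟨∐ (fun i : PEmpty.{v + 1} => (PEmpty.elim i : A)), ?_,
      ⟨PEmpty.{v + 1}, fun i => PEmpty.elim i, fun i => PEmpty.elim i, ⟨Iso.refl _⟩⟩⟩
    rw [IsZero.iff_id_eq_zero]
    apply Sigma.hom_ext
    intro i
    exact PEmpty.elim i

lemma pinf_prod (X Y : A) (hX : Pinf S X) (hY : Pinf S Y) : Pinf S (X ⨯ Y) := by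
  obtain ⟨ι, E, hE, ⟨e⟩⟩ := hX
  obtain ⟨ι', E', hE', ⟨e'⟩⟩ := hY
  refine ⟨ι ⊕ ι', Sum.elim E E', ?_, ⟨?_⟩⟩
  · rintro (i | i)
    · exact hE i
    · exact hE' i
  · have hc := Cofan.combPairIsColimit (coproductIsCoproduct E) (coproductIsCoproduct E')
      (coprodIsCoprod (∐ E) (∐ E'))
    exact (biprod.isoProd X Y).symm ≪≫ biprod.isoCoprod X Y ≪≫ coprod.mapIso e e' ≪≫
      hc.coconePointUniqueUpToIso (colimit.isColimit _)

lemma pinf_all (h1 : ∀ X : A, ∃ (ι : Type v) (E : ι → A) (π : ∐ E ⟶ X), (∀ i, E i ∈ S) ∧ Epi π)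
    (X : A) : PCoh.IsOfFiniteType (Pinf S) X := by
  obtain ⟨ι, E, π, hE, hπ⟩ := h1 X
  exact ⟨∐ E, π, ⟨ι, E, hE, ⟨Iso.refl _⟩⟩, hπ⟩

end Pinf

section Main

variable {A : Type u} [Category.{v} A] [Abelian A] [IsGrothendieckAbelian.{v} A]
  [HasCoproducts.{v} A] [HasFiniteBiproducts A]
  [HasDerivedCategory.{w} A]
  (S : Set A)
  (h1 : ∀ X : A, ∃ (ι : Type v) (E : ι → A) (π : ∐ E ⟶ X), (∀ i, E i ∈ S) ∧ Epi π)
  (h2 : ∀ E ∈ S, ∀ ι : Type v, PreservesColimitsOfShape (Discrete ι) (preadditiveCoyoneda.obj (op E)))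

/-- the invariant of the induction -/
def Inv (K : DerivedCategory A) (a b c : ℤ) : Prop :=
  ∃ (L : CochainComplex A ℤ) (φ : K ⟶ Q.obj L) (ψ : Q.obj L ⟶ K), φ ≫ ψ = 𝟙 K ∧
    (∀ i : ℤ, i < a ∨ b < i → IsZero (L.X i)) ∧ (∀ i : ℤ, c ≤ i → Pinf S (L.X i)) ∧
    (∀ i : ℤ, i < c → Pfin S (L.X i))

include h2 in
lemma inv_step [∀ J : Type v, HasExactColimitsOfShape (Discrete J) A]
    (K : DerivedCategory A) (hK : WeakCpt.{v} K) (a b c : ℤ)
    (h : Inv S K a b c) : Inv S K a b (c + 1) := by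
  obtain ⟨L, φ, ψ, hφψ, hz, hinf, hfin⟩ := h
  obtain ⟨Λ, E, hE, ⟨e⟩⟩ := hinf c le_rfl
  obtain ⟨L', i, φ', hφ', hmono, hiso, hc⟩ :=
    step h2 E L c e hE (hfin (c - 1) (by lia)) K hK φ
  refine ⟨L', φ', Q.map i ≫ ψ, ?_, ?_, ?_, ?_⟩
  · rw [← Category.assoc, hφ', hφψ]
  · intro j hj
    have := hmono j
    exact IsZero.of_mono (i.f j) (hz j hj)
  · intro j hj
    have := hiso j (by lia)
    exact (Pinf S).prop_of_iso (asIso (i.f j)).symm (hinf j (by lia))
  · intro j hj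
    by_cases hjc : j = c
    · subst hjc
      exact hc
    · have := hiso j hjc
      exact pfin_of_iso S (asIso (i.f j)).symm (hfin j (by lia))

include h1 h2 in
theorem main (K : DerivedCategory A) (hK : WeakCpt.{v} K) :
    ∃ (L : CochainComplex A ℤ) (a b : ℤ),
      (∀ i : ℤ, i < a ∨ b < i → IsZero (L.X i)) ∧
      (∀ i : ℤ, ∃ (n : ℕ) (E : Fin n → A), (∀ j, E j ∈ S) ∧ Nonempty (L.X i ≅ ⨁ E)) ∧
      Nonempty (Retract K (DerivedCategory.Q.obj L)) := by
  have ab4 : AB4OfSize.{v} A := AB4.of_AB5 A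
  have exJ : ∀ J : Type v, HasExactColimitsOfShape (Discrete J) A := fun J => inferInstance
  have ab4' : AB4OfSize.{0} A := inferInstance
  have : HasColimitsOfShape (Discrete ℕ) A := inferInstance
  have : HasExactColimitsOfShape (Discrete ℕ) A := inferInstance
  have ab5' : AB5OfSize.{0, 0} A := AB5OfSize_shrink.{0, 0, v, v} A
  have : HasColimitsOfShape ℕ A := inferInstance
  have : HasExactColimitsOfShape ℕ A := inferInstance
  -- step 1: bounded above cohomology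
  obtain ⟨b, hb⟩ := CptBdd.exists_bound_of_compact K hK
  -- step 2: a resolution
  obtain ⟨P, ⟨⟨b', hb'⟩, hP⟩, ⟨e₀⟩⟩ := CptRes.exists_resolution (pinf_prod S) (pinf_all S h1) K b hb
  -- step 3: brutal truncation
  obtain ⟨n, u, hu⟩ := CptTrunc.exists_factor P b' K hK e₀.inv
  -- the induction
  have hinv : ∀ k : ℕ, Inv S K (b' - n) b' (b' - n + k) := by
    intro k
    induction k with
    | zero =>
      refine ⟨Brutal.sigmaGE P (b' - n), u, Q.map (Brutal.ι P (b' - n)) ≫ e₀.hom, ?_, ?_, ?_, ?_⟩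
      · rw [← Category.assoc, hu, Iso.inv_hom_id]
      · rintro i (hi | hi)
        · exact Brutal.isZero_sigmaGE_X P hi
        · exact IsZero.of_mono ((Brutal.ι P (b' - n)).f i) (hb' i hi)
      · intro i hi
        have := Brutal.isIso_ι_f P (k := b' - n) (i := i) (by simpa using hi)
        exact (Pinf S).prop_of_iso (asIso ((Brutal.ι P (b' - n)).f i)).symm (hP i)
      · intro i hi
        exact pfin_of_isZero S (Brutal.isZero_sigmaGE_X P (by simpa using hi))
    | succ k ih =>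
      have := inv_step S h2 K hK _ _ _ ih
      rwa [add_assoc, ← Nat.cast_succ] at this
  obtain ⟨L, φ, ψ, hφψ, hz, -, hfin⟩ := hinv (n + 1)
  refine ⟨L, b' - n, b', hz, fun i => ?_, ⟨⟨φ, ψ, hφψ⟩⟩⟩
  by_cases hi : i ≤ b'
  · exact hfin i (by push_cast; lia)
  · exact pfin_of_isZero S (hz i (Or.inr (by lia)))

end Main

end Groth.Agent.Helper3.CptMain
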