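import Mathlib
import Groth.Prelude.Def_CohDer
import Groth.Agent.Lib.Helper3.CptGen
import Groth.Agent.Lib.Helper3.CptSupp
import Groth.Agent.Lib.Helper3.DCoprod

/-!
# Compact projective objects are weakly compact in the derived category
-/

set_option autoImplicit false
set_option linter.unusedSectionVars false
universe w v u

open CategoryTheory CategoryTheory.Limits HomologicalComplex Opposite

namespace Groth.Agent.Helper3.CptRing

open Groth.Agent.Helper3.DCoprod Groth.Agent.Helper3.CptGen Groth.Agent.Helper3.CptSupp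
  DerivedCategory

section Supp

variable {A : Type u} [Category.{v} A] [Preadditive A] [HasCoproducts.{w} A]
  {Λ : Type w} [DecidableEq Λ] (E : Λ → A)

/-- the projections of the chosen coproduct -/
noncomputable abbrev pr (k : Λ) : ∐ E ⟶ E k := CptGen.proj (Sigma.ι E) (coproductIsCoproduct E) k

lemma prS_incS_eq_sum (T : Finset Λ) :
    prS E (↑T : Set Λ) ≫ incS E (↑T : Set Λ) = ∑ k ∈ T, pr E k ≫ Sigma.ι E k := by
  apply Sigma.hom_ext
  intro j
  rw [Preadditive.comp_sum]
  by_cases hj : j ∈ T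
  · rw [ι_prS_of_mem_assoc E _ (by simpa using hj), ι_incS, Finset.sum_eq_single j]
    · rw [← Category.assoc, CptGen.inj_proj_self, Category.id_comp]
    · intro k _ hk
      rw [← Category.assoc, CptGen.inj_proj_ne _ _ (Ne.symm hk), zero_comp]
    · intro h
      exact absurd hj h
  · rw [ι_prS_of_not_mem_assoc E _ (by simpa using hj), zero_comp, Finset.sum_eq_zero]
    intro k hk
    have : j ≠ k := fun h => hj (h ▸ hk)
    rw [← Category.assoc, CptGen.inj_proj_ne _ _ this, zero_comp]

lemma eq_sum_of_prS_compl_eq_zero (T : Finset Λ) {W : A} (g : W ⟶ ∐ E)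
    (hg : g ≫ prS E (↑T : Set Λ)ᶜ = 0) :
    g = ∑ k ∈ T, (g ≫ pr E k) ≫ Sigma.ι E k := by
  have h1 : g = g ≫ prS E (↑T : Set Λ) ≫ incS E (↑T : Set Λ) := by
    have := prS_incS_add E (↑T : Set Λ)
    calc g = g ≫ 𝟙 _ := (Category.comp_id g).symm
      _ = g ≫ (prS E (↑T : Set Λ) ≫ incS E (↑T : Set Λ) +
          prS E (↑T : Set Λ)ᶜ ≫ incS E (↑T : Set Λ)ᶜ) := by rw [this]
      _ = _ := by rw [Preadditive.comp_add, ← Category.assoc g (prS E (↑T : Set Λ)ᶜ), hg,
          zero_comp, add_zero]
  conv_lhs => rw [h1, prS_incS_eq_sum, Preadditive.comp_sum]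
  apply Finset.sum_congr rfl
  intro k _
  rw [Category.assoc]

lemma pr_map {E' : Λ → A} (d : ∀ k, E k ⟶ E' k) (k : Λ) :
    Limits.Sigma.map d ≫ pr E' k = pr E k ≫ d k := by
  apply Sigma.hom_ext
  intro j
  rw [Limits.Sigma.ι_map_assoc]
  by_cases hj : j = k
  · subst hj
    rw [CptGen.inj_proj_self, Category.comp_id, ← Category.assoc, CptGen.inj_proj_self,
      Category.id_comp]
  · rw [CptGen.inj_proj_ne _ _ hj, comp_zero, ← Category.assoc, CptGen.inj_proj_ne _ _ hj,
      zero_comp]

end Supp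

section KProj

variable {A : Type u} [Category.{v} A] [Abelian A] [HasDerivedCategory.{w} A]

/-- maps out of a K-projective complex in the derived category are represented by chain maps -/
lemma exists_Q_map_eq (K X : CochainComplex A ℤ) [K.IsKProjective] (g : Q.obj K ⟶ Q.obj X) :
    ∃ g' : K ⟶ X, Q.map g' = g := by
  obtain ⟨h, hh⟩ := (CochainComplex.IsKProjective.Qh_map_bijective K
    ((HomotopyCategory.quotient _ _).obj X)).2
    ((quotientCompQhIso A).hom.app K ≫ g ≫ (quotientCompQhIso A).inv.app X)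
  obtain ⟨g', rfl⟩ := (HomotopyCategory.quotient _ _).map_surjective h
  refine ⟨g', ?_⟩
  have h1 := quotientCompQhIso_hom_naturality g'
  rw [hh] at h1
  simp only [Category.assoc, Iso.inv_hom_id_app, Category.comp_id] at h1
  exact ((cancel_epi ((quotientCompQhIso A).hom.app K)).1 h1).symm

end KProj

section Main

variable {A : Type u} [Category.{v} A] [Abelian A] [HasCoproducts.{v} A]
  [∀ J : Type v, HasExactColimitsOfShape (Discrete J) A]
  [HasDerivedCategory.{w} A]
  (G : A) [Projective G]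
  [∀ κ : Type v, PreservesColimitsOfShape (Discrete κ) (preadditiveCoyoneda.obj (op G))]

/-- a compact projective object is weakly compact in the derived category -/
theorem weakCpt_single : WeakCpt.{v} (Q.obj ((single A (ComplexShape.up ℤ) 0).obj G)) := by
  classical
  intro κ E W ι hc g
  let K₀ : CochainComplex A ℤ := (single A (ComplexShape.up ℤ) 0).obj G
  have : CochainComplex.IsKProjective K₀ := CochainComplex.isKProjective_of_projective K₀ 0
  let E₀ : κ → CochainComplex A ℤ := fun k => Q.objPreimage (E k)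
  let a : ∀ k, Q.obj (E₀ k) ≅ E k := fun k => Q.objObjPreimageIso (E k)
  have hcD := isColimitCofan E₀
  have hc'' : IsColimit (Cofan.mk W (fun k => (a k).hom ≫ ι k)) :=
    Cofan.IsColimit.mk _
      (fun t => Cofan.IsColimit.desc hc (fun k => (a k).inv ≫ t.inj k))
      (fun t k => by
        have h := Cofan.IsColimit.fac hc (fun k => (a k).inv ≫ t.inj k) k
        change ι k ≫ _ = _ at h
        change ((a k).hom ≫ ι k) ≫ _ = _
        rw [Category.assoc, h, Iso.hom_inv_id_assoc])
      (fun t m hm => Cofan.IsColimit.hom_ext hc _ _ (fun k => by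
        have h := Cofan.IsColimit.fac hc (fun k => (a k).inv ≫ t.inj k) k
        change ι k ≫ _ = _ at h
        have := hm k
        change ((a k).hom ≫ ι k) ≫ m = t.inj k at this
        change ι k ≫ m = ι k ≫ _
        rw [h, ← this, Category.assoc, Iso.inv_hom_id_assoc]))
  let θ : Q.obj (cK E₀) ≅ W := hcD.coconePointUniqueUpToIso hc''
  have hθ : ∀ k, Q.map (inK E₀ k) ≫ θ.hom = (a k).hom ≫ ι k := fun k =>
    IsColimit.comp_coconePointUniqueUpToIso_hom hcD hc'' ⟨k⟩
  obtain ⟨g', hg'⟩ := exists_Q_map_eq K₀ (cK E₀) (g ≫ θ.inv)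
  let F : κ → A := fun k => (E₀ k).X 0
  let F' : κ → A := fun k => (E₀ k).X 1
  let z : G ⟶ ∐ F := (singleObjXSelf (ComplexShape.up ℤ) 0 G).inv ≫ g'.f 0
  have hz : z ≫ Limits.Sigma.map (fun k => (E₀ k).d 0 1) = 0 := by
    have h1 := g'.comm 0 1
    change g'.f 0 ≫ Limits.Sigma.map (fun k => (E₀ k).d 0 1) = _ at h1
    dsimp only [z]
    rw [Category.assoc, h1, single_obj_d, zero_comp, comp_zero]
  obtain ⟨T, hT⟩ := exists_finset_of_preserves F G z
  let zk : ∀ k, G ⟶ (E₀ k).X 0 := fun k => z ≫ pr F k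
  have hzk : ∀ k, zk k ≫ (E₀ k).d 0 1 = 0 := by
    intro k
    dsimp only [zk]
    rw [Category.assoc, ← pr_map F (fun k => (E₀ k).d 0 1) k, ← Category.assoc, hz, zero_comp]
  let gk : ∀ k, K₀ ⟶ E₀ k := fun k => mkHomFromSingle (zk k) (by
    intro j hj
    change 0 + 1 = j at hj
    obtain rfl : j = 1 := by lia
    exact hzk k)
  have hsum : g' = ∑ k ∈ T, gk k ≫ inK E₀ k := by
    apply from_single_hom_ext
    have h1 : (∑ k ∈ T, gk k ≫ inK E₀ k).f 0 = ∑ k ∈ T, (gk k ≫ inK E₀ k).f 0 :=
      (HomologicalComplex.eval A (ComplexShape.up ℤ) 0).map_sum _ _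
    rw [h1]
    have h2 : ∀ k, (gk k ≫ inK E₀ k).f 0 =
        (singleObjXSelf (ComplexShape.up ℤ) 0 G).hom ≫ (zk k ≫ Sigma.ι F k) := by
      intro k
      rw [comp_f, mkHomFromSingle_f, Category.assoc]
    simp only [h2]
    rw [← Preadditive.comp_sum]
    have h3 := eq_sum_of_prS_compl_eq_zero F T z hT
    rw [← h3]
    dsimp only [z]
    rw [Iso.hom_inv_id_assoc]
  refine ⟨T, fun k => Q.map (gk k) ≫ (a k).hom, ?_⟩
  have h4 : g = Q.map g' ≫ θ.hom := by rw [hg', Category.assoc, Iso.inv_hom_id, Category.comp_id]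
  rw [h4, hsum, Functor.map_sum, Preadditive.sum_comp]
  apply Finset.sum_congr rfl
  intro k _
  rw [Functor.map_comp, Category.assoc, hθ, Category.assoc]

end Main

end Groth.Agent.Helper3.CptRing
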