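import Mathlib
import Groth.Prelude.Def_CohDer
import Groth.Agent.Lib.Helper3.CptGen

/-!
# Closure properties of weakly compact objects
-/

set_option autoImplicit false
set_option linter.unusedSectionVars false
universe w v u

open CategoryTheory CategoryTheory.Limits CategoryTheory.Pretriangulated

namespace Groth.Agent.Helper3.CptTri

open Groth.Agent.Helper3.CptGen

section Basic

variable {D : Type u} [Category.{w} D] [Preadditive D]

lemma weakCpt_of_retract {K X : D} (i : K ⟶ X) (r : X ⟶ K) (hir : i ≫ r = 𝟙 K)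
    (hX : WeakCpt.{v} X) : WeakCpt.{v} K := by
  intro κ E W ι hc g
  obtain ⟨S, x, hx⟩ := hX κ E W ι hc (r ≫ g)
  refine ⟨S, fun k => i ≫ x k, ?_⟩
  have : g = i ≫ r ≫ g := by rw [← Category.assoc, hir, Category.id_comp]
  rw [this, hx, Preadditive.comp_sum]
  apply Finset.sum_congr rfl
  intro k _
  rw [Category.assoc]

lemma weakCpt_of_iso {K X : D} (e : K ≅ X) (hX : WeakCpt.{v} X) : WeakCpt.{v} K :=
  weakCpt_of_retract e.hom e.inv e.hom_inv_id hX

lemma weakCpt_of_isZero {K : D} (hK : IsZero K) : WeakCpt.{v} K := by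
  intro κ E W ι hc g
  exact ⟨∅, fun k => 0, by simpa using hK.eq_of_src g 0⟩

/-- a left adjoint whose right adjoint preserves coproducts preserves weakly compact objects -/
lemma weakCpt_of_adj {S S' : D ⥤ D} (adj : S ⊣ S') [S.Additive]
    [∀ κ : Type v, PreservesColimitsOfShape (Discrete κ) S'] {K : D}
    (hK : WeakCpt.{v} K) : WeakCpt.{v} (S.obj K) := by
  intro κ E W ι hc f
  have hc' : IsColimit (Cofan.mk (S'.obj W) (fun k => S'.map (ι k))) :=
    isColimitCofanMkObjOfIsColimit S' _ ι hc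
  obtain ⟨T, g, hg⟩ := hK κ (fun k => S'.obj (E k)) _ _ hc' (adj.homEquiv _ _ f)
  refine ⟨T, fun k => S.map (g k) ≫ adj.counit.app (E k), ?_⟩
  have h3 : f = S.map (adj.homEquiv _ _ f) ≫ adj.counit.app _ := by
    rw [Adjunction.homEquiv_unit]
    simp
  rw [h3, hg, Functor.map_sum, Preadditive.sum_comp]
  apply Finset.sum_congr rfl
  intro k _
  rw [Functor.map_comp, Category.assoc, Category.assoc]
  congr 1
  exact adj.counit_naturality (ι k)

end Basic

section Triang

variable {D : Type u} [Category.{w} D] [Preadditive D] [HasZeroObject D] [HasShift D ℤ]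
  [∀ n : ℤ, (shiftFunctor D n).Additive] [Pretriangulated D]

lemma weakCpt_shift {K : D} (hK : WeakCpt.{v} K) (n : ℤ) : WeakCpt.{v} (K⟦n⟧) := by
  have : (shiftEquiv D n).functor.Additive := inferInstanceAs (shiftFunctor D n).Additive
  have : ∀ κ : Type v, PreservesColimitsOfShape (Discrete κ) (shiftEquiv D n).inverse :=
    fun κ => inferInstance
  exact weakCpt_of_adj (shiftEquiv D n).toAdjunction hK

lemma weakCpt_ext (T : Triangle D) (hT : T ∈ distTriang D)
    (h₁ : WeakCpt.{v} T.obj₁) (h₃ : WeakCpt.{v} T.obj₃) : WeakCpt.{v} T.obj₂ := by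
  classical
  intro κ E W ι hc f
  obtain ⟨S, g, hg⟩ := h₁ κ E W ι hc (T.mor₁ ≫ f)
  let fS : T.obj₂ ⟶ W := ∑ k ∈ S, (f ≫ proj ι hc k) ≫ ι k
  have h1 : T.mor₁ ≫ fS = T.mor₁ ≫ f := by
    have hgk : ∀ k ∈ S, (T.mor₁ ≫ f) ≫ proj ι hc k = g k := by
      intro k hk
      rw [hg, Preadditive.sum_comp, Finset.sum_eq_single k]
      · rw [Category.assoc, inj_proj_self, Category.comp_id]
      · intro j _ hj
        rw [Category.assoc, inj_proj_ne ι hc hj, comp_zero]
      · intro h
        exact absurd hk h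
    rw [Preadditive.comp_sum]
    conv_rhs => rw [hg]
    apply Finset.sum_congr rfl
    intro k hk
    rw [← Category.assoc, ← Category.assoc, hgk k hk]
  have h2 : T.mor₁ ≫ (f - fS) = 0 := by
    rw [Preadditive.comp_sub, h1, sub_self]
  obtain ⟨f'', hf''⟩ := Triangle.yoneda_exact₂ T hT (f - fS) h2
  obtain ⟨S', z, hz⟩ := h₃ κ E W ι hc f''
  have h3 : f = fS + T.mor₂ ≫ f'' := by rw [← hf'']; abel
  refine ⟨S ∪ S', fun k => (if k ∈ S then f ≫ proj ι hc k else 0) +
    (if k ∈ S' then T.mor₂ ≫ z k else 0), ?_⟩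
  conv_lhs => rw [h3, hz, Preadditive.comp_sum]
  simp only [Preadditive.add_comp, Finset.sum_add_distrib]
  congr 1
  · rw [← Finset.sum_subset (Finset.subset_union_left (s₂ := S'))]
    · apply Finset.sum_congr rfl
      intro k hk
      rw [if_pos hk]
    · intro k _ hk
      rw [if_neg hk, zero_comp]
  · rw [← Finset.sum_subset (Finset.subset_union_right (s₁ := S))]
    · apply Finset.sum_congr rfl
      intro k hk
      rw [if_pos hk, Category.assoc]
    · intro k _ hk
      rw [if_neg hk, zero_comp]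

end Triang

end Groth.Agent.Helper3.CptTri
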