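import Mathlib
import Groth.Prelude.Def_CohDer
import Groth.Agent.Lib.Helper3.CptRing
import Groth.Agent.Lib.Helper3.CptTri
import Groth.Agent.Lib.Helper3.CptMain

/-!
# Compact objects of the derived category of a ring
-/

set_option autoImplicit false
set_option linter.unusedSectionVars false
universe w u

open CategoryTheory CategoryTheory.Limits HomologicalComplex Opposite

namespace Groth.Agent.Helper3.CptMod

open Groth.Agent.Helper3.CptGen DerivedCategory

variable (R : Type u) [Ring R]

/-- `Hom(R, M) ≃ M` -/
def homEquiv (M : ModuleCat.{u} R) : (ModuleCat.of R R ⟶ M) ≃+ M where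
  toFun f := f.hom (1 : R)
  invFun m := ModuleCat.ofHom (LinearMap.toSpanSingleton R M m)
  left_inv f := by
    ext
    simp
  right_inv m := by simp
  map_add' f g := by simp

/-- `Hom(R, -)` is the forgetful functor -/
noncomputable def coyonedaIso : preadditiveCoyoneda.obj (op (ModuleCat.of R R)) ≅
    forget₂ (ModuleCat.{u} R) AddCommGrpCat.{u} :=
  NatIso.ofComponents (fun M => (homEquiv R M).toAddCommGrpIso) (by
    intro M N f
    ext g
    rfl)

instance (κ : Type u) : PreservesColimitsOfShape (Discrete κ)
    (preadditiveCoyoneda.obj (op (ModuleCat.of R R))) :=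
  preservesColimitsOfShape_of_natIso (coyonedaIso R).symm

instance : Projective (ModuleCat.of R R) :=
  ModuleCat.projective_of_categoryTheory_projective (ModuleCat.of R R)

/-- every module is a quotient of a free module -/
lemma exists_epi (X : ModuleCat.{u} R) :
    ∃ (ι : Type u) (E : ι → ModuleCat.{u} R) (π : ∐ E ⟶ X),
      (∀ i, E i ∈ ({ModuleCat.of R R} : Set (ModuleCat.{u} R))) ∧ Epi π := by
  refine ⟨X, fun _ => ModuleCat.of R R,
    Sigma.desc (fun x => ModuleCat.ofHom (LinearMap.toSpanSingleton R X x)), fun _ => rfl, ?_⟩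
  rw [ModuleCat.epi_iff_surjective]
  intro x
  refine ⟨(Sigma.ι (fun _ : X => ModuleCat.of R R) x).hom (1 : R), ?_⟩
  have h := Sigma.ι_desc (fun x : X => ModuleCat.ofHom (LinearMap.toSpanSingleton R X x)) x
  have h2 := congrArg (fun φ => φ.hom (1 : R)) h
  simpa using h2

end Groth.Agent.Helper3.CptMod
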