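import Mathlib
import Groth.Prelude.Def_CohDer
import Groth.Agent.Lib.Helper3.CptMod
import Groth.Agent.Lib.Helper3.Compact
import Groth.Agent.Lib.Helper3.KInjD

/-!
# The derived category of a ring is compactly generated
-/

set_option autoImplicit false
universe w v u

open CategoryTheory Limits DerivedCategory HomologicalComplex

namespace Groth.Agent.Helper3.DRGen

section KProj

variable {A : Type u} [Category.{v} A] [Abelian A] [HasDerivedCategory.{w} A]

/-- chain maps out of a K-projective complex which agree in the derived category are homotopic -/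
lemma homotopy_of_Q_map_eq {K X : CochainComplex A ℤ} [K.IsKProjective] (φ ψ : K ⟶ X)
    (h : Q.map φ = Q.map ψ) : Nonempty (Homotopy φ ψ) := by
  have h1 := quotientCompQhIso_hom_naturality φ
  have h2 := quotientCompQhIso_hom_naturality ψ
  rw [h] at h1
  have h3 : Qh.map ((HomotopyCategory.quotient _ _).map φ) =
      Qh.map ((HomotopyCategory.quotient _ _).map ψ) := by
    rw [← cancel_mono ((quotientCompQhIso A).hom.app X), h1, h2]
  exact ⟨HomotopyCategory.homotopyOfEq _ _ ((CochainComplex.IsKProjective.Qh_map_bijective K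
    ((HomotopyCategory.quotient _ _).obj X)).1 h3)⟩

end KProj

section Ring

variable (R : Type v) [Ring R]

/-- the generator -/
noncomputable abbrev K₀ : CochainComplex (ModuleCat.{v} R) ℤ :=
  (single (ModuleCat.{v} R) (ComplexShape.up ℤ) 0).obj (ModuleCat.of R R)

instance : CochainComplex.IsKProjective (K₀ R) :=
  CochainComplex.isKProjective_of_projective (K₀ R) 0

variable {R}

/-- the map `R ⟶ M` attached to an element -/
def eltMap (M : ModuleCat.{v} R) (x : M) : ModuleCat.of R R ⟶ M :=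
  ModuleCat.ofHom (LinearMap.toSpanSingleton R M x)

lemma eltMap_one (M : ModuleCat.{v} R) (x : M) : (eltMap M x).hom (1 : R) = x := by
  simp [eltMap]

lemma eltMap_comp {M N : ModuleCat.{v} R} (x : M) (f : M ⟶ N) :
    eltMap M x ≫ f = eltMap N (f.hom x) := by
  ext
  simp [eltMap]

lemma eltMap_zero (M : ModuleCat.{v} R) : eltMap M (0 : M) = 0 := by
  ext
  simp [eltMap]

/-- the chain map `R[0] ⟶ M` attached to a cocycle -/
noncomputable def cocycleMap (M : CochainComplex (ModuleCat.{v} R) ℤ) (x : M.X 0)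
    (hx : (M.d 0 (0 + 1)).hom x = 0) : K₀ R ⟶ M :=
  mkHomFromSingle (eltMap (M.X 0) x) (by
    intro k hk
    change 0 + 1 = k at hk
    subst hk
    rw [eltMap_comp, hx, eltMap_zero])

lemma exactAt_of_homotopy (M : CochainComplex (ModuleCat.{v} R) ℤ)
    (h : ∀ (x : M.X 0) (hx : (M.d 0 (0 + 1)).hom x = 0),
      Nonempty (Homotopy (cocycleMap M x hx) 0)) : M.ExactAt 0 := by
  rw [M.exactAt_iff' (0 - 1) 0 (0 + 1) (by simp) (by simp),
    ShortComplex.moduleCat_exact_iff]
  intro (x : M.X 0) (hx : (M.d 0 (0 + 1)).hom x = 0)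
  obtain ⟨ho⟩ := h x hx
  have hc := ho.comm 0
  rw [dNext_eq _ (show (ComplexShape.up ℤ).Rel 0 (0 + 1) from rfl),
    prevD_eq _ (show (ComplexShape.up ℤ).Rel (0 - 1) 0 by simp)] at hc
  rw [single_obj_d, zero_comp, zero_add, HomologicalComplex.zero_f, add_zero] at hc
  unfold cocycleMap at hc
  rw [mkHomFromSingle_f] at hc
  have h1 : eltMap (M.X 0) x = (singleObjXSelf (ComplexShape.up ℤ) 0 (ModuleCat.of R R)).inv ≫
      ho.hom 0 (0 - 1) ≫ M.d (0 - 1) 0 := by
    rw [← hc, Iso.inv_hom_id_assoc]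
  refine ⟨((singleObjXSelf (ComplexShape.up ℤ) 0 (ModuleCat.of R R)).inv ≫
      ho.hom 0 (0 - 1)).hom (1 : R), ?_⟩
  change (M.d (0 - 1) 0).hom _ = x
  have h2 := congrArg (fun φ => φ.hom (1 : R)) h1
  dsimp only at h2
  rw [eltMap_one] at h2
  exact h2.symm

variable (R)

/-- the generator of the derived category -/
noncomputable abbrev E₀ [HasDerivedCategory.{w} (ModuleCat.{v} R)] :
    DerivedCategory (ModuleCat.{v} R) := Q.obj (K₀ R)

lemma isZero_of_hom_eq_zero [HasDerivedCategory.{w} (ModuleCat.{v} R)]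
    (K : DerivedCategory (ModuleCat.{v} R))
    (hK : ∀ (n : ℤ) (f : E₀ R ⟶ K⟦n⟧), f = 0) : IsZero K := by
  let L := Q.objPreimage K
  let φ : Q.obj L ≅ K := Q.objObjPreimageIso K
  have hL : L.Acyclic := by
    intro m
    have h0 : (L⟦m⟧).ExactAt 0 := by
      apply exactAt_of_homotopy
      intro x hx
      apply homotopy_of_Q_map_eq
      rw [Functor.map_zero]
      have h1 := hK m (Q.map (cocycleMap (L⟦m⟧) x hx) ≫ (Q.commShiftIso m).hom.app L ≫
        φ.hom⟦m⟧')
      rw [← Category.assoc] at h1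
      exact zero_of_comp_mono _ (zero_of_comp_mono _ h1)
    exact (ShortComplex.exact_iff_of_iso
      ((CochainComplex.shiftShortComplexFunctorIso _ m 0 m (add_zero m)).app L)).1 h0
  have h1 : QuasiIso (0 : L ⟶ L) := KInjD.quasiIso_of_acyclic _ hL hL
  have h2 : IsIso (Q.map (0 : L ⟶ L)) := (isIso_Q_map_iff_quasiIso _ _).2 h1
  have hz : IsZero (Q.obj L) := by
    rw [IsZero.iff_id_eq_zero]
    have h3 := IsIso.hom_inv_id (Q.map (0 : L ⟶ L))
    have h4 : Q.map (0 : L ⟶ L) = 0 := Functor.map_zero _ _ _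
    rw [← h3]
    exact (congrArg (fun z => z ≫ inv (Q.map (0 : L ⟶ L))) h4).trans zero_comp
  exact hz.of_iso φ.symm

theorem isCompactlyGenerated [HasDerivedCategory.{v} (ModuleCat.{v} R)]
    [HasCoproducts.{v} (DerivedCategory (ModuleCat.{v} R))] :
    CohDer.IsCompactlyGenerated (DerivedCategory (ModuleCat.{v} R)) := by
  refine ⟨PUnit.{v+1}, fun _ => E₀ R, fun _ => ?_, ?_⟩
  · rw [Compact.isCompact_iff]
    intro κ X f
    have h := CptRing.weakCpt_single (A := ModuleCat.{v} R) (ModuleCat.of R R)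
    exact h κ X (∐ X) (Sigma.ι X) (coproductIsCoproduct X) f
  · intro K hK
    exact isZero_of_hom_eq_zero R K (fun n f => hK PUnit.unit n f)

end Ring

end Groth.Agent.Helper3.DRGen
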