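import Mathlib
import Groth.Prelude.Def_WeakSerre
import Groth.Agent.Lib.Helper5.DCat.WayOut2

/-!
# Way-out lemma for "cohomology in a weak Serre subcategory"
-/

open CategoryTheory Category Limits Pretriangulated DerivedCategory Triangulated ZeroObject

universe w w' v v' u u'

namespace Groth.Agent.Helper3.CohWayOut

section five

variable {B : Type u'} [Category.{v'} B] [Abelian B]
  (R : ObjectProperty B) [WSerre.IsWeakSerre R]

/-- In an exact sequence `X₁ → X₂ → X₃ → X₄ → X₅` with the four outer terms in a weak Serre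
subcategory, the middle term is in it. -/
lemma prop_of_five_term {X₁ X₂ X₃ X₄ X₅ : B} (f : X₁ ⟶ X₂) (g : X₂ ⟶ X₃) (h : X₃ ⟶ X₄)
    (k : X₄ ⟶ X₅) (wfg : f ≫ g = 0) (wgh : g ≫ h = 0) (whk : h ≫ k = 0)
    (e₂ : (ShortComplex.mk f g wfg).Exact) (e₃ : (ShortComplex.mk g h wgh).Exact)
    (e₄ : (ShortComplex.mk h k whk).Exact)
    (h₁ : R X₁) (h₂ : R X₂) (h₄ : R X₄) (h₅ : R X₅) : R X₃ := by
  have hC : R (cokernel f) := R.prop_cokernel f h₁ h₂
  have hK : R (kernel k) := R.prop_kernel k h₄ h₅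
  let a : cokernel f ⟶ X₃ := cokernel.desc f g wfg
  let b : X₃ ⟶ kernel k := kernel.lift k h whk
  have ha : Mono a := (ShortComplex.exact_iff_mono_cokernel_desc _).1 e₂
  have hb : Epi b := (ShortComplex.exact_iff_epi_kernel_lift _).1 e₄
  have wab : a ≫ b = 0 := by
    rw [← cancel_epi (cokernel.π f), ← cancel_mono (kernel.ι k)]
    simp [a, b, wgh]
  have wah : a ≫ h = 0 := by
    rw [← cancel_epi (cokernel.π f)]
    simp [a, wgh]
  have hex : (ShortComplex.mk a b wab).Exact := by
    let φ : ShortComplex.mk g h wgh ⟶ ShortComplex.mk a h wah :=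
      { τ₁ := cokernel.π f
        τ₂ := 𝟙 _
        τ₃ := 𝟙 _
        comm₁₂ := by simp [a]
        comm₂₃ := by simp }
    let ψ : ShortComplex.mk a b wab ⟶ ShortComplex.mk a h wah :=
      { τ₁ := 𝟙 _
        τ₂ := 𝟙 _
        τ₃ := kernel.ι k
        comm₁₂ := by simp
        comm₂₃ := by simp [b] }
    have h1 : (ShortComplex.mk a h wah).Exact :=
      (ShortComplex.exact_iff_of_epi_of_isIso_of_mono φ).1 e₃
    exact (ShortComplex.exact_iff_of_epi_of_isIso_of_mono ψ).2 h1
  exact R.prop_X₂_of_shortExact (ShortComplex.ShortExact.mk' hex ha hb) hC hK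

end five

section tri

variable {B : Type u'} [Category.{v'} B] [Abelian B] [HasDerivedCategory.{w'} B]
  (R : ObjectProperty B) [WSerre.IsWeakSerre R]

/-- `D_R` is closed under extensions in distinguished triangles. -/
lemma cohIn_obj₂ (T : Triangle (DerivedCategory B)) (hT : T ∈ distTriang _)
    (h₁ : WSerre.cohIn R T.obj₁) (h₃ : WSerre.cohIn R T.obj₃) : WSerre.cohIn R T.obj₂ := by
  intro i
  exact prop_of_five_term R (HomologySequence.δ T (i - 1) i (by lia))
    ((homologyFunctor B i).map T.mor₁) ((homologyFunctor B i).map T.mor₂)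
    (HomologySequence.δ T i (i + 1) rfl)
    (HomologySequence.δ_comp T hT (i - 1) i (by lia))
    (by rw [← Functor.map_comp, comp_distTriang_mor_zero₁₂ _ hT, Functor.map_zero])
    (HomologySequence.comp_δ T hT i (i + 1) rfl)
    (HomologySequence.exact₁ T hT (i - 1) i (by lia))
    (HomologySequence.exact₂ T hT i)
    (HomologySequence.exact₃ T hT i (i + 1) rfl)
    (h₃ (i - 1)) (h₁ i) (h₃ i) (h₁ (i + 1))

lemma cohIn_of_iso {X Y : DerivedCategory B} (e : X ≅ Y) (h : WSerre.cohIn R X) :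
    WSerre.cohIn R Y := fun i =>
  R.prop_of_iso ((homologyFunctor B i).mapIso e) (h i)

lemma cohIn_shift (X : DerivedCategory B) (n : ℤ) (h : WSerre.cohIn R X) :
    WSerre.cohIn R (X⟦n⟧) := fun i =>
  R.prop_of_iso (((homologyFunctor B 0).shiftIso n i (n + i) rfl).app X).symm (h (n + i))

lemma cohIn_of_isZero (X : DerivedCategory B) (hX : IsZero X) : WSerre.cohIn R X := fun i =>
  R.prop_of_isZero ((homologyFunctor B i).map_isZero hX)

lemma cohIn_single (M : B) (hM : R M) : WSerre.cohIn R ((singleFunctor B 0).obj M) := by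
  intro i
  by_cases hi : i = 0
  · subst hi
    exact R.prop_of_iso ((singleFunctorCompHomologyFunctorIso B 0).app M).symm hM
  · rcases lt_or_gt_of_ne hi with h | h
    · exact R.prop_of_isZero (isZero_of_isGE ((singleFunctor B 0).obj M) 0 i h)
    · exact R.prop_of_isZero (isZero_of_isLE ((singleFunctor B 0).obj M) 0 i h)

instance cohIn_isClosedUnderIsomorphisms : (WSerre.cohIn R).IsClosedUnderIsomorphisms :=
  ⟨fun e h => cohIn_of_iso R e h⟩

instance cohIn_isTriangulated : (WSerre.cohIn R).IsTriangulated where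
  exists_zero := ⟨(0 : DerivedCategory B), isZero_zero _, cohIn_of_isZero R _ (isZero_zero _)⟩
  isStableUnderShiftBy n := { le_shift := fun X hX => cohIn_shift R X n hX }
  toIsTriangulatedClosed₂ := .mk' (fun T hT h₁ h₃ => cohIn_obj₂ R T hT h₁ h₃)

instance cohInBdd_isClosedUnderIsomorphisms : (WSerre.cohInBdd R).IsClosedUnderIsomorphisms := by
  dsimp [WSerre.cohInBdd]; infer_instance

instance cohInBdd_isTriangulated : (WSerre.cohInBdd R).IsTriangulated := by
  dsimp [WSerre.cohInBdd]; infer_instance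

end tri

section devissage

variable {A : Type u} [Category.{v} A] [Abelian A] [HasDerivedCategory.{w} A]
  (𝒬 : ObjectProperty (DerivedCategory A)) [𝒬.IsClosedUnderIsomorphisms]
  (hshift : ∀ (X : DerivedCategory A) (n : ℤ), 𝒬 X → 𝒬 (X⟦n⟧))
  (hext : ∀ T ∈ distTriang (DerivedCategory A), 𝒬 T.obj₁ → 𝒬 T.obj₃ → 𝒬 T.obj₂)
  (P : ObjectProperty A) [P.IsClosedUnderIsomorphisms]
  (hP : ∀ M : A, P M → 𝒬 ((singleFunctor A 0).obj M))

include hP in
lemma prop_of_isZero (X : DerivedCategory A) (hX : IsZero X)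
    (h : ∀ i : ℤ, P ((homologyFunctor A i).obj X)) : 𝒬 X := by
  have h0 : IsZero ((homologyFunctor A 0).obj X) := (homologyFunctor A 0).map_isZero hX
  have h1 : IsZero ((singleFunctor A 0).obj ((homologyFunctor A 0).obj X)) :=
    (singleFunctor A 0).map_isZero h0
  exact 𝒬.prop_of_iso (h1.iso hX) (hP _ (h 0))

include hshift hP in
lemma prop_of_heart (X : DerivedCategory A) (n : ℤ) [X.IsGE n] [X.IsLE n]
    (hX : P ((homologyFunctor A n).obj X)) : 𝒬 X := by
  obtain ⟨Y, ⟨e⟩⟩ := exists_iso_singleFunctor_obj_of_isGE_of_isLE X n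
  have hY : P Y := P.prop_of_iso ((homologyFunctor A n).mapIso e ≪≫
    (singleFunctorCompHomologyFunctorIso A n).app Y) hX
  have e' : ((singleFunctor A 0).obj Y)⟦(-n : ℤ)⟧ ≅ (singleFunctor A n).obj Y :=
    ((singleFunctors A).shiftIso (-n) n 0 (by lia)).app Y
  exact 𝒬.prop_of_iso (e' ≪≫ e.symm) (hshift _ _ (hP Y hY))

include hshift hext hP in
theorem prop_of_bounded (d : ℕ) :
    ∀ (X : DerivedCategory A) (a b : ℤ) [X.IsGE a] [X.IsLE b] (_ : b - a < d)
      (_ : ∀ i : ℤ, P ((homologyFunctor A i).obj X)), 𝒬 X := by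
  induction d with
  | zero =>
    intro X a b _ _ hab hX
    exact prop_of_isZero 𝒬 P hP X (TStructure.t.isZero X b a (by lia)) hX
  | succ d ih =>
    intro X a b _ _ hab hX
    by_cases hba : b < a
    · exact prop_of_isZero 𝒬 P hP X (TStructure.t.isZero X b a hba) hX
    let t : TStructure (DerivedCategory A) := TStructure.t
    have hT := t.triangleLTGE_distinguished b X
    have h0 : ∀ Z : A, IsZero Z → P Z := Helper5.DCat.prop_of_isZero_of_isLE P X b hX
    have hA1 : ((t.truncLT b).obj X).IsLE (b - 1) :=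
      inferInstanceAs (t.IsLE ((t.truncLT b).obj X) (b - 1))
    have hA2 : ((t.truncLT b).obj X).IsGE a := inferInstanceAs (t.IsGE ((t.truncLT b).obj X) a)
    have hB1 : ((t.truncGE b).obj X).IsGE b := inferInstanceAs (t.IsGE ((t.truncGE b).obj X) b)
    have hB2 : ((t.truncGE b).obj X).IsLE b := inferInstanceAs (t.IsLE ((t.truncGE b).obj X) b)
    have h1 : 𝒬 ((t.truncLT b).obj X) :=
      ih _ a (b - 1) (by lia) (Helper5.DCat.prop_homology_truncLT P X b hX h0)
    have h3 : 𝒬 ((t.truncGE b).obj X) := by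
      refine prop_of_heart 𝒬 hshift P hP _ b ?_
      have : IsIso ((homologyFunctor A b).map ((t.truncGEπ b).app X)) :=
        Helper5.TwoTerm.isIso_homologyMap_mor₂ _ hT b (b + 1) rfl
          (isZero_of_isLE ((t.truncLT b).obj X) (b - 1) b (by lia))
          (isZero_of_isLE ((t.truncLT b).obj X) (b - 1) (b + 1) (by lia))
      exact P.prop_of_iso (asIso ((homologyFunctor A b).map ((t.truncGEπ b).app X))) (hX b)
    exact hext _ hT h1 h3

end devissage

section main

variable {A : Type u} [Category.{v} A] [Abelian A] [HasDerivedCategory.{w} A]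
  {B : Type u'} [Category.{v'} B] [Abelian B] [HasDerivedCategory.{w'} B]
  (T : DerivedCategory A ⥤ DerivedCategory B) [T.CommShift ℤ] [T.IsTriangulated]
  (R : ObjectProperty B) [WSerre.IsWeakSerre R]
  (P : ObjectProperty A) [P.IsClosedUnderIsomorphisms]

/-- bounded case -/
theorem cohIn_of_bounded
    (hP : ∀ M : A, P M → WSerre.cohIn R (T.obj ((singleFunctor A 0).obj M)))
    (X : DerivedCategory A) (a b : ℤ) [X.IsGE a] [X.IsLE b]
    (hX : ∀ i : ℤ, P ((homologyFunctor A i).obj X)) : WSerre.cohIn R (T.obj X) := by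
  let 𝒬 : ObjectProperty (DerivedCategory A) := fun X => WSerre.cohIn R (T.obj X)
  haveI : 𝒬.IsClosedUnderIsomorphisms := ⟨fun e h => cohIn_of_iso R (T.mapIso e) h⟩
  refine prop_of_bounded 𝒬 (fun X n h => ?_) (fun S hS h₁ h₃ => ?_) P hP
    ((b - a).toNat + 1) X a b (by lia) hX
  · exact cohIn_of_iso R ((T.commShiftIso n).app X).symm (cohIn_shift R _ n h)
  · exact cohIn_obj₂ R _ (T.map_distinguished S hS) h₁ h₃

/-- way-out right functors: bounded below case -/
theorem cohIn_of_isGE
    (hT : ∀ n₁ : ℤ, ∃ n₂ : ℤ, ∀ Y : DerivedCategory A, Y.IsGE n₂ → (T.obj Y).IsGE n₁)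
    (hP : ∀ M : A, P M → WSerre.cohIn R (T.obj ((singleFunctor A 0).obj M)))
    (X : DerivedCategory A) (a : ℤ) [X.IsGE a]
    (hX : ∀ i : ℤ, P ((homologyFunctor A i).obj X)) : WSerre.cohIn R (T.obj X) := by
  intro n
  obtain ⟨m, hm⟩ := hT (n + 1)
  let t : TStructure (DerivedCategory A) := TStructure.t
  have hD := t.triangleLTGE_distinguished m X
  have hGE : ((t.truncGE m).obj X).IsGE m := inferInstanceAs (t.IsGE ((t.truncGE m).obj X) m)
  have hTGE := hm _ hGE
  have h0 := Helper5.DCat.prop_of_isZero_of_isGE P X a hX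
  have hLE : ((t.truncLT m).obj X).IsLE (m - 1) :=
    inferInstanceAs (t.IsLE ((t.truncLT m).obj X) (m - 1))
  have hGEa : ((t.truncLT m).obj X).IsGE a := inferInstanceAs (t.IsGE ((t.truncLT m).obj X) a)
  have h1 : WSerre.cohIn R (T.obj ((t.truncLT m).obj X)) :=
    cohIn_of_bounded T R P hP _ a (m - 1) (Helper5.DCat.prop_homology_truncLT P X _ hX h0)
  have : IsIso ((homologyFunctor B n).map (T.map ((t.truncLTι m).app X))) :=
    Helper5.TwoTerm.isIso_homologyMap_mor₁ _ (T.map_distinguished _ hD) (n - 1) n (by lia)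
      (@isZero_of_isGE _ _ _ _ (T.obj ((t.truncGE m).obj X)) (n + 1) (n - 1) (by lia) hTGE)
      (@isZero_of_isGE _ _ _ _ (T.obj ((t.truncGE m).obj X)) (n + 1) n (by lia) hTGE)
  exact R.prop_of_iso (asIso ((homologyFunctor B n).map (T.map ((t.truncLTι m).app X)))) (h1 n)

end main

end Groth.Agent.Helper3.CohWayOut
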