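import Mathlib
import Groth.Agent.Lib.Helper5.DRing.ToSingle

set_option autoImplicit false
universe w v u
open CategoryTheory CategoryTheory.Limits DerivedCategory CochainComplex CochainComplex.HomComplex

namespace Groth.Agent.Helper3.PhiCoc

variable {C : Type u} [Category.{v} C] [Abelian C] [HasDerivedCategory.{w} C]

/-- maps out of a K-projective complex in the derived category are represented by chain maps -/
lemma exists_Q_map_eq (K X : CochainComplex C ℤ) [K.IsKProjective] (g : Q.obj K ⟶ Q.obj X) :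
    ∃ g' : K ⟶ X, Q.map g' = g := by
  obtain ⟨h, hh⟩ := (CochainComplex.IsKProjective.Qh_map_bijective K
    ((HomotopyCategory.quotient _ _).obj X)).2
    ((quotientCompQhIso C).hom.app K ≫ g ≫ (quotientCompQhIso C).inv.app X)
  obtain ⟨g', rfl⟩ := (HomotopyCategory.quotient _ _).map_surjective h
  refine ⟨g', ?_⟩
  have h1 := quotientCompQhIso_hom_naturality g'
  rw [hh] at h1
  simp only [Category.assoc, Iso.inv_hom_id_app, Category.comp_id] at h1
  exact ((cancel_epi ((quotientCompQhIso C).hom.app K)).1 h1).symm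

variable {E L L' : CochainComplex C ℤ} {n : ℤ}

/-- the morphism `Q E ⟶ (Q L)⟦n⟧` of a cocycle -/
noncomputable def Φ (z : Cocycle E L n) : Q.obj E ⟶ (Q.obj L)⟦n⟧ :=
  Q.map (Cocycle.equivHomShift.symm z) ≫ (Q.commShiftIso n).hom.app L

lemma Φ_surjective [E.IsKProjective] (x : Q.obj E ⟶ (Q.obj L)⟦n⟧) :
    ∃ z : Cocycle E L n, Φ z = x := by
  obtain ⟨φ, hφ⟩ := exists_Q_map_eq E (L⟦n⟧) (x ≫ (Q.commShiftIso n).inv.app L)
  refine ⟨Cocycle.equivHomShift φ, ?_⟩
  unfold Φ
  rw [AddEquiv.symm_apply_apply, hφ, Category.assoc, Iso.inv_hom_id_app]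
  exact Category.comp_id x

lemma Φ_eq_zero_iff [E.IsKProjective] (z : Cocycle E L n) :
    Φ z = 0 ↔ z ∈ coboundaries E L n := by
  rw [← CohomologyClass.toHom_mk_eq_zero_iff, CohomologyClass.toHom_mk,
    HomotopyCategory.quotient_map_eq_zero_iff]
  unfold Φ
  constructor
  · intro h
    have h1 : Q.map (Cocycle.equivHomShift.symm z) = Q.map (0 : E ⟶ L⟦n⟧) := by
      rw [Functor.map_zero, ← cancel_mono ((Q.commShiftIso n).hom.app L), h, zero_comp]
    exact Groth.Agent.Helper5.ToSingle.nonempty_homotopy_of_Q_map_eq _ _ h1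
  · rintro ⟨H⟩
    rw [Groth.Agent.Helper5.ToSingle.Q_map_eq_of_homotopy _ _ H, Functor.map_zero, zero_comp]

lemma Φ_postcomp (z : Cocycle E L n) (g : L ⟶ L') :
    Φ (z.postcomp g) = Φ z ≫ (Q.map g)⟦n⟧' := by
  unfold Φ
  rw [Cocycle.equivHomShift_symm_postcomp, Functor.map_comp, Category.assoc, Category.assoc]
  congr 1
  exact (Q.commShiftIso n).hom.naturality g

end Groth.Agent.Helper3.PhiCoc
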