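import Mathlib
import Groth.Prelude.Def_DRing2
import Groth.Agent.Lib.Helper3.PhiCoc

set_option autoImplicit false
universe u
open CategoryTheory CategoryTheory.Limits DerivedCategory CochainComplex CochainComplex.HomComplex
open Groth.Agent.Helper3.PhiCoc

attribute [local instance] HasDerivedCategory.standard

namespace Groth.Agent.Helper3.ExtCoc

variable {A : Type u} [CommRing A] (E : CochainComplex (ModuleCat.{u} A) ℤ)

/-- cocycle maps `E^q → M` -/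
noncomputable def Z (q : ℤ) (M : ModuleCat.{u} A) : Submodule A (E.X q ⟶ M) :=
  LinearMap.ker (Linear.leftComp A M (E.d (q - 1) q))

lemma mem_Z (q : ℤ) (M : ModuleCat.{u} A) (f : E.X q ⟶ M) :
    f ∈ Z E q M ↔ E.d (q - 1) q ≫ f = 0 := Iff.rfl

variable {E}

/-- the cocycle of a cocycle map -/
noncomputable def coc {q : ℤ} {M : ModuleCat.{u} A} (p : ℤ) (hqp : q + p = 0) (f : Z E q M) :
    Cocycle E ((CochainComplex.singleFunctor (ModuleCat.{u} A) 0).obj M) p :=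
  Cocycle.toSingleMk f.1 hqp (q - 1) (by omega) f.2

lemma coc_congr {q : ℤ} {M : ModuleCat.{u} A} (p : ℤ) (hqp : q + p = 0) (f f' : Z E q M)
    (h : f.1 = f'.1) : coc p hqp f = coc p hqp f' := by
  have : f = f' := Subtype.ext h
  rw [this]

/-- the class in `Hom_{D(A)}(E, M[p])` of a cocycle map -/
noncomputable def Θ {q : ℤ} {M : ModuleCat.{u} A} (p : ℤ) (hqp : q + p = 0) (f : Z E q M) :
    Q.obj E ⟶ (Q.obj ((CochainComplex.singleFunctor (ModuleCat.{u} A) 0).obj M))⟦p⟧ :=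
  Φ (coc p hqp f)

/-- postcomposition on cocycle maps -/
noncomputable def Zmap (q : ℤ) {M M' : ModuleCat.{u} A} (u : M ⟶ M') (f : Z E q M) : Z E q M' :=
  ⟨f.1 ≫ u, by
    rw [mem_Z, ← Category.assoc, (mem_Z E q M f.1).1 f.2, zero_comp]⟩

lemma Θ_nat {q : ℤ} {M M' : ModuleCat.{u} A} (p : ℤ) (hqp : q + p = 0) (u : M ⟶ M')
    (f : Z E q M) :
    Θ p hqp f ≫ (Q.map ((CochainComplex.singleFunctor (ModuleCat.{u} A) 0).map u))⟦p⟧' =
      Θ p hqp (Zmap q u f) := by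
  unfold Θ
  rw [← Φ_postcomp]
  congr 1
  exact (Cocycle.toSingleMk_postcomp f.1 hqp (q - 1) (by omega) f.2 u).symm

lemma Θ_surjective [E.IsKProjective] {q : ℤ} {M : ModuleCat.{u} A} (p : ℤ) (hqp : q + p = 0)
    (x : Q.obj E ⟶ (Q.obj ((CochainComplex.singleFunctor (ModuleCat.{u} A) 0).obj M))⟦p⟧) :
    ∃ f : Z E q M, Θ p hqp f = x := by
  obtain ⟨z, rfl⟩ := Φ_surjective x
  obtain ⟨f, hf, rfl⟩ := Cocycle.toSingleMk_surjective z q hqp (q - 1) (by omega)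
  exact ⟨⟨f, hf⟩, rfl⟩

lemma Θ_eq_zero_iff [E.IsKProjective] {q : ℤ} {M : ModuleCat.{u} A} (p : ℤ) (hqp : q + p = 0)
    (f : Z E q M) : Θ p hqp f = 0 ↔ ∃ g : E.X (q + 1) ⟶ M, E.d q (q + 1) ≫ g = f.1 := by
  unfold Θ
  rw [Φ_eq_zero_iff]
  exact Cocycle.toSingleMk_mem_coboundaries_iff f.1 hqp (q - 1) (by omega) f.2 (q + 1) rfl

lemma Φ_add {L : CochainComplex (ModuleCat.{u} A) ℤ} {n : ℤ} (z z' : Cocycle E L n) :
    Φ (z + z') = Φ z + Φ z' := by
  unfold Φ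
  rw [map_add, Functor.map_add, Preadditive.add_comp]

lemma Θ_add {q : ℤ} {M : ModuleCat.{u} A} (p : ℤ) (hqp : q + p = 0) (f g : Z E q M) :
    Θ p hqp (f + g) = Θ p hqp f + Θ p hqp g := by
  unfold Θ
  rw [← Φ_add]
  congr 1
  exact Cocycle.toSingleMk_add f.1 g.1 hqp (q - 1) (by omega) f.2 g.2

lemma Θ_smul {q : ℤ} {M : ModuleCat.{u} A} (p : ℤ) (hqp : q + p = 0) (a : A) (f : Z E q M) :
    Θ p hqp (a • f) = a • Θ p hqp f := by
  have h1 : a • Θ p hqp f = Θ p hqp f ≫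
      (Q.map ((CochainComplex.singleFunctor (ModuleCat.{u} A) 0).map (a • 𝟙 M)))⟦p⟧' := by
    rw [Functor.map_smul, Functor.map_smul, Functor.map_smul, CategoryTheory.Functor.map_id,
      CategoryTheory.Functor.map_id, CategoryTheory.Functor.map_id, Linear.comp_smul,
      Category.comp_id]
  rw [h1, Θ_nat]
  have h2 : a • f = Zmap q (a • 𝟙 M) f := by
    apply Subtype.ext
    change a • f.1 = f.1 ≫ (a • 𝟙 M)
    rw [Linear.comp_smul, Category.comp_id]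
  rw [h2]

/-- `Θ` as a linear map -/
noncomputable def Θl {q : ℤ} (M : ModuleCat.{u} A) (p : ℤ) (hqp : q + p = 0) :
    Z E q M →ₗ[A]
      (Q.obj E ⟶ (Q.obj ((CochainComplex.singleFunctor (ModuleCat.{u} A) 0).obj M))⟦p⟧) where
  toFun := Θ p hqp
  map_add' := Θ_add p hqp
  map_smul' := Θ_smul p hqp

end Groth.Agent.Helper3.ExtCoc
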