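import Mathlib
import Groth.Prelude.Def_DRing2
import Groth.Agent.Lib.Helper3.ExtCoc
import Groth.Agent.Lib.Helper5.TorAmp.Char

set_option autoImplicit false
universe u
open CategoryTheory CategoryTheory.Limits DerivedCategory CochainComplex CochainComplex.HomComplex
open Groth.Agent.Helper3.PhiCoc Groth.Agent.Helper3.ExtCoc

attribute [local instance] HasDerivedCategory.standard

namespace Groth.Agent.Helper3.ExtAR

variable {A : Type u} [CommRing A]

/-- a map from a finite free module with values in `J M` lies in `J • Hom(P, M)` -/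
lemma comp_subtype_mem (P : ModuleCat.{u} A) [Module.Finite A P] [Module.Free A P]
    (M : Type u) [AddCommGroup M] [Module A M] (J : Ideal A)
    (f : P ⟶ ModuleCat.of A ↥(J • ⊤ : Submodule A M)) :
    f ≫ ModuleCat.ofHom (J • ⊤ : Submodule A M).subtype ∈
      (J • ⊤ : Submodule A (P ⟶ ModuleCat.of A M)) := by
  classical
  let b := Module.Free.chooseBasis A P
  let u : Module.Free.ChooseBasisIndex A P → M →ₗ[A] (P ⟶ ModuleCat.of A M) := fun i =>
    (ModuleCat.homLinearEquiv (S := A) (M := P) (N := ModuleCat.of A M)).symm.toLinearMap ∘ₗ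
      (LinearMap.smulRightₗ (b.coord i))
  have hsum : f ≫ ModuleCat.ofHom (J • ⊤ : Submodule A M).subtype =
      ∑ i, u i ((f.hom (b i)).1) := by
    apply (ModuleCat.homLinearEquiv (S := A) (M := P) (N := ModuleCat.of A M)).injective
    rw [map_sum]
    refine b.ext (fun j => ?_)
    rw [LinearMap.sum_apply]
    simp only [u, LinearMap.comp_apply, LinearEquiv.coe_coe, LinearEquiv.apply_symm_apply,
      LinearMap.smulRightₗ_apply_apply, Module.Basis.coord_apply, Module.Basis.repr_self]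
    rw [Finset.sum_eq_single j]
    · simp; rfl
    · intro i _ hij
      rw [Finsupp.single_eq_of_ne hij, zero_smul]
    · intro h; exact absurd (Finset.mem_univ j) h
  rw [hsum]
  refine Submodule.sum_mem _ (fun i _ => ?_)
  have h1 : (f.hom (b i)).1 ∈ (J • ⊤ : Submodule A M) := (f.hom (b i)).2
  have h2 : u i ((f.hom (b i)).1) ∈ Submodule.map (u i) (J • ⊤ : Submodule A M) :=
    Submodule.mem_map_of_mem h1
  rw [Submodule.map_smul''] at h2
  exact Submodule.smul_mono le_rfl le_top h2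

variable [IsNoetherianRing A] (I : Ideal A)

/-- Artin–Rees for `Ext` out of a K-projective complex with a finite free term -/
theorem core (E : CochainComplex (ModuleCat.{u} A) ℤ) [E.IsKProjective] (q p : ℤ)
    (hqp : q + p = 0) [Module.Finite A (E.X q)] [Module.Free A (E.X q)]
    (M : Type u) [AddCommGroup M] [Module A M] [Module.Finite A M] :
    ∃ c : ℕ, ∀ n : ℕ, c ≤ n →
      ∀ x : Q.obj E ⟶ (Q.obj ((CochainComplex.singleFunctor (ModuleCat.{u} A) 0).obj
          (ModuleCat.of A ↥(I ^ n • ⊤ : Submodule A M))))⟦p⟧,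
        x ≫ (Q.map ((CochainComplex.singleFunctor (ModuleCat.{u} A) 0).map
            (ModuleCat.ofHom (I ^ n • ⊤ : Submodule A M).subtype)))⟦p⟧' ∈
          (I ^ (n - c) • ⊤ : Submodule A (Q.obj E ⟶
            (Q.obj ((CochainComplex.singleFunctor (ModuleCat.{u} A) 0).obj
              (ModuleCat.of A M)))⟦p⟧)) := by
  haveI : Module.Finite A (E.X q ⟶ ModuleCat.of A M) :=
    Module.Finite.equiv
      (ModuleCat.homLinearEquiv (S := A) (M := E.X q) (N := ModuleCat.of A M)).symm
  obtain ⟨c, hc⟩ := Ideal.exists_pow_inf_eq_pow_smul I (Z E q (ModuleCat.of A M))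
  refine ⟨c, fun n hn x => ?_⟩
  obtain ⟨f, rfl⟩ := Θ_surjective p hqp x
  rw [Θ_nat]
  set g := Zmap q (ModuleCat.ofHom (I ^ n • ⊤ : Submodule A M).subtype) f with hg
  have h1 : g.1 ∈ (I ^ n • ⊤ ⊓ Z E q (ModuleCat.of A M) :
      Submodule A (E.X q ⟶ ModuleCat.of A M)) :=
    ⟨comp_subtype_mem (E.X q) M (I ^ n) f.1, g.2⟩
  rw [hc n hn] at h1
  have h2 : g.1 ∈ (I ^ (n - c) • Z E q (ModuleCat.of A M) :
      Submodule A (E.X q ⟶ ModuleCat.of A M)) :=
    Submodule.smul_mono le_rfl inf_le_right h1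
  have h3 : (I ^ (n - c) • Z E q (ModuleCat.of A M) :
      Submodule A (E.X q ⟶ ModuleCat.of A M)) =
      Submodule.map (Z E q (ModuleCat.of A M)).subtype
        (I ^ (n - c) • ⊤ : Submodule A (Z E q (ModuleCat.of A M))) := by
    rw [Submodule.map_smul'', Submodule.map_subtype_top]
  rw [h3] at h2
  obtain ⟨w, hw, hwg⟩ := h2
  have hwg' : w = g := Subtype.ext hwg
  rw [hwg'] at hw
  have h4 : Θl (ModuleCat.of A M) p hqp g ∈
      Submodule.map (Θl (ModuleCat.of A M) p hqp)
        (I ^ (n - c) • ⊤ : Submodule A (Z E q (ModuleCat.of A M))) :=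
    Submodule.mem_map_of_mem hw
  rw [Submodule.map_smul''] at h4
  exact Submodule.smul_mono le_rfl le_top h4

lemma isKProjective_of_bddAbove_free (E : DRing.Cx A) (b : ℤ) (hv : DRing.VanishesAbove E b)
    (h2 : DRing.TermwiseFiniteFree E) : E.IsKProjective := by
  have : E.IsStrictlyLE b := Groth.Agent.Helper5.TorAmp.isStrictlyLE_of_vanishesAbove hv
  have : ∀ n, Projective (E.X n) := fun n => by
    haveI := (h2 n).2
    haveI : Module.Projective A (E.X n) := Module.Projective.of_free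
    exact ModuleCat.projective_of_categoryTheory_projective _
  exact CochainComplex.isKProjective_of_projective E b

theorem main_S7149 (A : Type u) [CommRing A] [IsNoetherianRing A] (I : Ideal A)
    (K : Dual.D A) (hK : DRing.IsPseudoCoherent' A K) (M : Type u) [AddCommGroup M] [Module A M]
    [Module.Finite A M] (p : ℤ) :
    ∃ c : ℕ, ∀ n : ℕ, c ≤ n →
      ∀ e : K ⟶ (Dual.inD A ↥(I ^ n • ⊤ : Submodule A M))⟦p⟧,
        e ≫ ((DerivedCategory.singleFunctor (ModuleCat.{u} A) 0).map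
              (ModuleCat.ofHom (I ^ n • ⊤ : Submodule A M).subtype))⟦p⟧' ∈
          (I ^ (n - c) • ⊤ : Submodule A (K ⟶ (Dual.inD A M)⟦p⟧)) := by
  obtain ⟨E, b, hb, hff, ⟨iso⟩⟩ := hK
  haveI : E.IsKProjective := isKProjective_of_bddAbove_free E b hb hff
  haveI := (hff (-p)).1
  haveI := (hff (-p)).2
  obtain ⟨c, hc⟩ := core I E (-p) p (by omega) M
  refine ⟨c, fun n hn e => ?_⟩
  have h1 := hc n hn (iso.hom ≫ e)
  let L : (Q.obj E ⟶ ((Dual.inD A M)⟦p⟧ : Dual.D A)) →ₗ[A] (K ⟶ ((Dual.inD A M)⟦p⟧ : Dual.D A)) :=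
    Linear.leftComp A ((Dual.inD A M)⟦p⟧ : Dual.D A) iso.inv
  have hle : Submodule.map L (I ^ (n - c) • ⊤ :
      Submodule A (Q.obj E ⟶ ((Dual.inD A M)⟦p⟧ : Dual.D A))) ≤ I ^ (n - c) • ⊤ := by
    rw [Submodule.map_smul'']
    exact Submodule.smul_mono le_rfl le_top
  have h3 := hle (Submodule.mem_map_of_mem (f := L) h1)
  have h4 : L ((iso.hom ≫ e) ≫ (Q.map ((CochainComplex.singleFunctor (ModuleCat.{u} A) 0).map
            (ModuleCat.ofHom (I ^ n • ⊤ : Submodule A M).subtype)))⟦p⟧') =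
      e ≫ ((DerivedCategory.singleFunctor (ModuleCat.{u} A) 0).map
              (ModuleCat.ofHom (I ^ n • ⊤ : Submodule A M).subtype))⟦p⟧' := by
    change iso.inv ≫ (iso.hom ≫ e) ≫ _ = _
    rw [Category.assoc, Iso.inv_hom_id_assoc]
    rfl
  exact (congrArg (fun z => z ∈ (I ^ (n - c) • ⊤ :
    Submodule A (K ⟶ ((Dual.inD A M)⟦p⟧ : Dual.D A)))) h4).mp h3

end Groth.Agent.Helper3.ExtAR
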