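import Mathlib

set_option autoImplicit false
universe v u
open CategoryTheory CategoryTheory.Limits Pretriangulated

namespace Groth.Agent.Helper3.TriShift

variable {C : Type u} [Category.{v} C] [Preadditive C] [HasZeroObject C] [HasShift C ℤ]
  [∀ n : ℤ, (shiftFunctor C n).Additive] [Pretriangulated C]

lemma shift_exact₂ (T : Triangle C) (hT : T ∈ distTriang C) (i : ℤ) {X : C}
    (e : X ⟶ T.obj₂⟦i⟧) (h : e ≫ T.mor₂⟦i⟧' = 0) :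
    ∃ e' : X ⟶ T.obj₁⟦i⟧, e = e' ≫ T.mor₁⟦i⟧' := by
  have hT' := Triangle.shift_distinguished T hT i
  obtain ⟨g, hg⟩ := Triangle.coyoneda_exact₂ _ hT' e (by
    change e ≫ (i.negOnePow • T.mor₂⟦i⟧') = 0
    rw [Linear.comp_units_smul, h, smul_zero])
  refine ⟨i.negOnePow • g, ?_⟩
  change e = g ≫ (i.negOnePow • T.mor₁⟦i⟧') at hg
  exact hg.trans ((Linear.comp_units_smul g i.negOnePow (T.mor₁⟦i⟧')).trans
    (Linear.units_smul_comp i.negOnePow g (T.mor₁⟦i⟧')).symm)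

lemma shift_exact₃ (T : Triangle C) (hT : T ∈ distTriang C) (i : ℤ) {X : C}
    (ξ : X ⟶ T.obj₃⟦i⟧) (h : ξ ≫ T.mor₃⟦i⟧' = 0) :
    ∃ e : X ⟶ T.obj₂⟦i⟧, ξ = e ≫ T.mor₂⟦i⟧' := by
  have hT' := Triangle.shift_distinguished T hT i
  obtain ⟨g, hg⟩ := Triangle.coyoneda_exact₃ _ hT' ξ (by
    change ξ ≫ (i.negOnePow • (T.mor₃⟦i⟧' ≫ (shiftFunctorComm C 1 i).hom.app T.obj₁)) = 0
    rw [Linear.comp_units_smul, ← Category.assoc, h, zero_comp, smul_zero])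
  refine ⟨i.negOnePow • g, ?_⟩
  change ξ = g ≫ (i.negOnePow • T.mor₂⟦i⟧') at hg
  exact hg.trans ((Linear.comp_units_smul g i.negOnePow (T.mor₂⟦i⟧')).trans
    (Linear.units_smul_comp i.negOnePow g (T.mor₂⟦i⟧')).symm)

/-- vanishing of post-composition transported along `⟦a+b⟧ ≅ ⟦a⟧⟦b⟧` -/
lemma comp_shift_shift_eq_zero {X Y Z : C} (g : X ⟶ Y) (a b n : ℤ) (hn : a + b = n)
    (h : ∀ e : Z ⟶ X⟦n⟧, e ≫ g⟦n⟧' = 0) (e' : Z ⟶ (X⟦a⟧)⟦b⟧) : e' ≫ (g⟦a⟧')⟦b⟧' = 0 := by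
  have hnat := (shiftFunctorAdd' C a b n hn).hom.naturality g
  have h1 : (g⟦a⟧')⟦b⟧' = (shiftFunctorAdd' C a b n hn).inv.app X ≫ g⟦n⟧' ≫
      (shiftFunctorAdd' C a b n hn).hom.app Y := by
    rw [hnat, Iso.inv_hom_id_app_assoc]; rfl
  rw [h1, ← Category.assoc, ← Category.assoc, h _, zero_comp]

end Groth.Agent.Helper3.TriShift
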