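import Mathlib
import Groth.Prelude.Def_DRing2
import Groth.Agent.Lib.Helper3.ExtAR
import Groth.Agent.Lib.Helper3.TriShift

set_option autoImplicit false
universe u
open CategoryTheory CategoryTheory.Limits DerivedCategory Pretriangulated
open Groth.Agent.Helper3.PhiCoc Groth.Agent.Helper3.ExtCoc Groth.Agent.Helper3.ExtAR
open Groth.Agent.Helper3.TriShift

attribute [local instance] HasDerivedCategory.standard

namespace Groth.Agent.Helper3.ExtSys

variable {A : Type u} [CommRing A]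

section SES
variable {M : Type u} [AddCommGroup M] [Module A M]

/-- `0 → N → M → M/N → 0` -/
noncomputable def sesN (N : Submodule A M) : ShortComplex (ModuleCat.{u} A) :=
  ShortComplex.mk (X₁ := ModuleCat.of A ↥N) (X₂ := ModuleCat.of A M) (X₃ := ModuleCat.of A (M ⧸ N))
    (ModuleCat.ofHom N.subtype) (ModuleCat.ofHom N.mkQ) (by
    ext ⟨x, hx⟩
    exact (Submodule.Quotient.mk_eq_zero N).2 hx)

lemma sesN_shortExact (N : Submodule A M) : (sesN N).ShortExact := by
  refine ShortComplex.ShortExact.mk' ?_ ?_ ?_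
  · rw [ShortComplex.moduleCat_exact_iff]
    intro x hx
    exact ⟨⟨x, (Submodule.Quotient.mk_eq_zero N).1 hx⟩, rfl⟩
  · rw [ModuleCat.mono_iff_injective]
    exact Subtype.val_injective
  · rw [ModuleCat.epi_iff_surjective]
    exact Submodule.Quotient.mk_surjective N

/-- the map of short exact sequences induced by `N' ≤ N` -/
noncomputable def sesMap {N' N : Submodule A M} (h : N' ≤ N) : sesN N' ⟶ sesN N where
  τ₁ := ModuleCat.ofHom (Submodule.inclusion h)
  τ₂ := 𝟙 _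
  τ₃ := ModuleCat.ofHom (Submodule.mapQ N' N (LinearMap.id : M →ₗ[A] M) h)
  comm₁₂ := by
    ext x
    rfl
  comm₂₃ := by
    ext x
    rfl

end SES

section Fin
variable [IsNoetherianRing A]

/-- `Ext^p(K, M)` is a finite module for `K` pseudo-coherent and `M` finite -/
lemma finite_ext (K : Dual.D A) (hK : DRing.IsPseudoCoherent' A K) (M : Type u) [AddCommGroup M]
    [Module A M] [Module.Finite A M] (p : ℤ) :
    Module.Finite A (K ⟶ ((Dual.inD A M)⟦p⟧ : Dual.D A)) := by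
  obtain ⟨E, b, hb, hff, ⟨iso⟩⟩ := hK
  haveI : E.IsKProjective := isKProjective_of_bddAbove_free E b hb hff
  haveI := (hff (-p)).1
  haveI := (hff (-p)).2
  haveI : Module.Finite A (E.X (-p) ⟶ ModuleCat.of A M) :=
    Module.Finite.equiv
      (ModuleCat.homLinearEquiv (S := A) (M := E.X (-p)) (N := ModuleCat.of A M)).symm
  haveI : IsNoetherian A (E.X (-p) ⟶ ModuleCat.of A M) :=
    isNoetherian_of_isNoetherianRing_of_finite A _
  haveI : Module.Finite A ↥(Z E (-p) (ModuleCat.of A M)) := inferInstance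
  have hqp : (-p) + p = 0 := by omega
  let L : (Q.obj E ⟶ ((Dual.inD A M)⟦p⟧ : Dual.D A)) →ₗ[A] (K ⟶ ((Dual.inD A M)⟦p⟧ : Dual.D A)) :=
    Linear.leftComp A ((Dual.inD A M)⟦p⟧ : Dual.D A) iso.inv
  have hsurj : Function.Surjective (L ∘ₗ Θl (ModuleCat.of A M) p hqp) := by
    intro e
    obtain ⟨f, hf⟩ := Θ_surjective (E := E) p hqp (iso.hom ≫ e)
    refine ⟨f, ?_⟩
    change iso.inv ≫ Θ p hqp f = e
    rw [hf, Iso.inv_hom_id_assoc]
  exact Module.Finite.of_surjective _ hsurj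

/-- uniform annihilation of a finite module all of whose elements are `I`-power torsion -/
lemma uniform_torsion (I : Ideal A) (H : Type*) [AddCommGroup H] [Module A H] [Module.Finite A H]
    (h : ∀ e : H, ∃ n : ℕ, ∀ x ∈ I ^ n, x • e = 0) :
    ∃ N : ℕ, ∀ x ∈ I ^ N, ∀ e : H, x • e = 0 := by
  classical
  obtain ⟨s, hs⟩ := (Module.Finite.fg_top : (⊤ : Submodule A H).FG)
  choose nf hnf using h
  refine ⟨s.sup nf, fun x hx e => ?_⟩
  have he : e ∈ Submodule.span A (s : Set H) := by rw [hs]; trivial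
  induction he using Submodule.span_induction with
  | mem g hg =>
    exact hnf g x (Ideal.pow_le_pow_right (Finset.le_sup hg) hx)
  | zero => exact smul_zero x
  | add a b _ _ ha hb => rw [smul_add, ha, hb, add_zero]
  | smul r a _ ha => rw [smul_comm, ha, smul_zero]

/-- for `k` large, `Ext^p(K, I^k M') → Ext^p(K, M')` vanishes -/
lemma vanish (I : Ideal A) (K : Dual.D A) (hK : DRing.IsPseudoCoherent' A K) (a : ℤ)
    (htors : ∀ (M : Type u) [AddCommGroup M] [Module A M], Module.Finite A M → ∀ i : ℤ, a ≤ i →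
      ∀ e : K ⟶ (Dual.inD A M)⟦i⟧, ∃ n : ℕ, ∀ x ∈ I ^ n, x • e = 0)
    (M : Type u) [AddCommGroup M] [Module A M] [Module.Finite A M] (p : ℤ) (hp : a ≤ p) :
    ∃ k₀ : ℕ, ∀ k : ℕ, k₀ ≤ k →
      ∀ e : K ⟶ (Dual.inD A ↥(I ^ k • ⊤ : Submodule A M))⟦p⟧,
        e ≫ ((DerivedCategory.singleFunctor (ModuleCat.{u} A) 0).map
              (ModuleCat.ofHom (I ^ k • ⊤ : Submodule A M).subtype))⟦p⟧' = 0 := by
  obtain ⟨c, hc⟩ := main_S7149 A I K hK M p
  haveI := finite_ext K hK M p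
  obtain ⟨N, hN⟩ := uniform_torsion I (K ⟶ ((Dual.inD A M)⟦p⟧ : Dual.D A))
    (htors M inferInstance p hp)
  refine ⟨c + N, fun k hk e => ?_⟩
  have h1 := hc k (by omega) e
  have h2 : (I ^ (k - c) • ⊤ : Submodule A (K ⟶ ((Dual.inD A M)⟦p⟧ : Dual.D A))) ≤ ⊥ := by
    rw [Submodule.smul_le]
    intro r hr n _
    rw [Submodule.mem_bot]
    exact hN r (Ideal.pow_le_pow_right (by omega) hr) n
  exact (Submodule.mem_bot A).1 (h2 h1)

end Fin

section Main
variable [IsNoetherianRing A]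

theorem main_S7164 (A : Type u) [CommRing A] [IsNoetherianRing A]
    (I : Ideal A) (K : Dual.D A) (hK : DRing.IsPseudoCoherent' A K) (a : ℤ)
    (htors : ∀ (M : Type u) [AddCommGroup M] [Module A M], Module.Finite A M → ∀ i : ℤ, a ≤ i →
      ∀ e : K ⟶ (Dual.inD A M)⟦i⟧, ∃ n : ℕ, ∀ x ∈ I ^ n, x • e = 0)
    (M : Type u) [AddCommGroup M] [Module A M] [Module.Finite A M] (i : ℤ) (hi : a ≤ i) :
    let Mq : ℕ → Submodule A M := fun n => I ^ n • ⊤
    let c : ∀ n : ℕ, (K ⟶ (Dual.inD A M)⟦i⟧) → (K ⟶ (Dual.inD A (M ⧸ Mq n))⟦i⟧) :=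
      fun n e => e ≫ ((DerivedCategory.singleFunctor (ModuleCat.{u} A) 0).map (ModuleCat.ofHom (Mq n).mkQ))⟦i⟧'
    let t : ∀ n m : ℕ, n ≤ m → (K ⟶ (Dual.inD A (M ⧸ Mq m))⟦i⟧) → (K ⟶ (Dual.inD A (M ⧸ Mq n))⟦i⟧) :=
      fun n m hnm e => e ≫ ((DerivedCategory.singleFunctor (ModuleCat.{u} A) 0).map (ModuleCat.ofHom
        (Submodule.mapQ (Mq m) (Mq n) (LinearMap.id : M →ₗ[A] M) (Submodule.smul_mono_left (Ideal.pow_le_pow_right hnm)))))⟦i⟧'
    (∃ m : ℕ, Function.Injective (c m)) ∧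
      ∀ n : ℕ, ∃ (m' : ℕ) (hnm : n ≤ m'), Set.range (t n m' hnm) ⊆ Set.range (c n) := by
  intro Mq c t
  constructor
  · obtain ⟨k₀, hk₀⟩ := vanish I K hK a htors M i hi
    refine ⟨k₀, fun e₁ e₂ h => ?_⟩
    have h' : (e₁ - e₂) ≫ ((DerivedCategory.singleFunctor (ModuleCat.{u} A) 0).map
        (ModuleCat.ofHom (Mq k₀).mkQ))⟦i⟧' = 0 := by
      rw [Preadditive.sub_comp, sub_eq_zero]; exact h
    obtain ⟨e', he'⟩ := shift_exact₂ (sesN_shortExact (Mq k₀)).singleTriangle
      (ShortComplex.ShortExact.singleTriangle_distinguished _) i (e₁ - e₂) h'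
    have h0 := hk₀ k₀ le_rfl e'
    exact sub_eq_zero.1 (he'.trans h0)
  · intro n
    haveI : IsNoetherian A M := isNoetherian_of_isNoetherianRing_of_finite A M
    haveI : Module.Finite A ↥(Mq n) := inferInstance
    obtain ⟨k₀, hk₀⟩ := vanish I K hK a htors ↥(Mq n) (i + 1) (by omega)
    have hle : Mq (n + k₀) ≤ Mq n :=
      Submodule.smul_mono_left (Ideal.pow_le_pow_right (by omega))
    refine ⟨n + k₀, by omega, ?_⟩
    have hmap : Submodule.map (Mq n).subtype (I ^ k₀ • ⊤ : Submodule A ↥(Mq n)) = Mq (n + k₀) := by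
      rw [Submodule.map_smul'', Submodule.map_subtype_top]
      change I ^ k₀ • (I ^ n • ⊤ : Submodule A M) = I ^ (n + k₀) • ⊤
      rw [← Submodule.mul_smul, ← pow_add, add_comm]
    have hmem : ∀ x : ↥(Mq (n + k₀)),
        Submodule.inclusion hle x ∈ (I ^ k₀ • ⊤ : Submodule A ↥(Mq n)) := by
      intro x
      have hx : x.1 ∈ Submodule.map (Mq n).subtype (I ^ k₀ • ⊤ : Submodule A ↥(Mq n)) := by
        rw [hmap]; exact x.2
      obtain ⟨w, hw, hwx⟩ := hx
      have : w = Submodule.inclusion hle x := Subtype.ext hwx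
      rw [← this]; exact hw
    let φ : ↥(Mq (n + k₀)) →ₗ[A] ↥(I ^ k₀ • ⊤ : Submodule A ↥(Mq n)) :=
      LinearMap.codRestrict _ (Submodule.inclusion hle) hmem
    have hincl : ∀ e : K ⟶ (Dual.inD A ↥(Mq (n + k₀)))⟦i + 1⟧,
        e ≫ ((DerivedCategory.singleFunctor (ModuleCat.{u} A) 0).map
          (ModuleCat.ofHom (Submodule.inclusion hle)))⟦i + 1⟧' = 0 := by
      intro e
      have hfac : ModuleCat.ofHom (Submodule.inclusion hle) =
          ModuleCat.ofHom φ ≫
            ModuleCat.ofHom (I ^ k₀ • ⊤ : Submodule A ↥(Mq n)).subtype := by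
        ext x; rfl
      rw [hfac, Functor.map_comp, Functor.map_comp, ← Category.assoc]
      exact hk₀ k₀ le_rfl _
    rintro _ ⟨ξ, rfl⟩
    have h₁ := sesN_shortExact (Mq (n + k₀))
    have h₂ := sesN_shortExact (Mq n)
    have hnat := (ShortComplex.ShortExact.singleTriangle.map h₁ h₂ (sesMap hle)).comm₃
    have hzero : (ξ ≫ ((DerivedCategory.singleFunctor (ModuleCat.{u} A) 0).map
        (sesMap hle).τ₃)⟦i⟧') ≫ (h₂.singleδ)⟦i⟧' = 0 := by
      have hnat' : (DerivedCategory.singleFunctor (ModuleCat.{u} A) 0).map (sesMap hle).τ₃ ≫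
          h₂.singleδ = h₁.singleδ ≫
            ((DerivedCategory.singleFunctor (ModuleCat.{u} A) 0).map (sesMap hle).τ₁)⟦(1 : ℤ)⟧' :=
        hnat.symm
      have e1 : ((DerivedCategory.singleFunctor (ModuleCat.{u} A) 0).map (sesMap hle).τ₃)⟦i⟧' ≫
          (h₂.singleδ)⟦i⟧' = (h₁.singleδ)⟦i⟧' ≫
            (((DerivedCategory.singleFunctor (ModuleCat.{u} A) 0).map
              (sesMap hle).τ₁)⟦(1 : ℤ)⟧')⟦i⟧' := by
        rw [← Functor.map_comp, ← Functor.map_comp]
        exact congrArg (fun z => (shiftFunctor (Dual.D A) i).map z) hnat'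
      refine (Category.assoc _ _ _).trans ((congrArg (fun z => ξ ≫ z) e1).trans
        ((Category.assoc _ _ _).symm.trans ?_))
      exact comp_shift_shift_eq_zero
        ((DerivedCategory.singleFunctor (ModuleCat.{u} A) 0).map (sesMap hle).τ₁) 1 i (i + 1)
        (by omega) hincl _
    obtain ⟨e, he⟩ := shift_exact₃ h₂.singleTriangle
      (ShortComplex.ShortExact.singleTriangle_distinguished h₂) i _ hzero
    exact ⟨e, he.symm⟩

end Main

end Groth.Agent.Helper3.ExtSys
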