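import Mathlib
import Groth.Agent.Lib.Helper3.KInjD

/-!
# Products in the derived category of a Grothendieck abelian category
-/

set_option autoImplicit false
universe w w' v u

open CategoryTheory CategoryTheory.Limits CochainComplex HomComplex DerivedCategory

namespace Groth.Agent.Helper3.KInjProd

section Termwise

variable {A : Type u} [Category.{v} A] [Abelian A] {J : Type w} [HasProductsOfShape J A]

/-- termwise product of a family of cochain complexes -/
noncomputable abbrev pK (I : J → CochainComplex A ℤ) : CochainComplex A ℤ where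
  X n := ∏ᶜ fun j => (I j).X n
  d n m := Limits.Pi.map (fun j => (I j).d n m)
  shape n m h := by
    apply Limits.Pi.hom_ext
    intro j
    rw [Limits.Pi.map_π, (I j).shape n m h, zero_comp, comp_zero]
  d_comp_d' n m l _ _ := by
    apply Limits.Pi.hom_ext
    intro j
    rw [Category.assoc, Limits.Pi.map_π, ← Category.assoc, Limits.Pi.map_π, Category.assoc,
      (I j).d_comp_d, zero_comp, comp_zero]

/-- the projections -/
noncomputable abbrev prK (I : J → CochainComplex A ℤ) (j : J) : pK I ⟶ I j where
  f n := Limits.Pi.π (fun j => (I j).X n) j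
  comm' n m _ := by
    change _ = Limits.Pi.map (fun j => (I j).d n m) ≫ _
    rw [Limits.Pi.map_π]

/-- the map into the termwise product -/
noncomputable abbrev liftK {I : J → CochainComplex A ℤ} {M : CochainComplex A ℤ}
    (g : ∀ j, M ⟶ I j) : M ⟶ pK I where
  f n := Limits.Pi.lift (fun j => (g j).f n)
  comm' n m _ := by
    apply Limits.Pi.hom_ext
    intro j
    change (_ ≫ Limits.Pi.map (fun j => (I j).d n m)) ≫ _ = _
    rw [Category.assoc, Limits.Pi.map_π, ← Category.assoc, Limits.Pi.lift_π, Category.assoc,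
      Limits.Pi.lift_π, (g j).comm]

lemma liftK_prK {I : J → CochainComplex A ℤ} {M : CochainComplex A ℤ}
    (g : ∀ j, M ⟶ I j) (j : J) : liftK g ≫ prK I j = g j := by
  ext n
  change Limits.Pi.lift (fun j => (g j).f n) ≫ Limits.Pi.π (fun j => (I j).X n) j = _
  rw [Limits.Pi.lift_π]

variable {I : J → CochainComplex A ℤ} {M : CochainComplex A ℤ}

/-- cochains into the termwise product are determined by their components -/
lemma cochain_ext {n : ℤ} (W W' : Cochain M (pK I) n)
    (h : ∀ j, W.comp (Cochain.ofHom (prK I j)) (add_zero n) =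
      W'.comp (Cochain.ofHom (prK I j)) (add_zero n)) : W = W' := by
  refine Cochain.ext _ _ (fun p q hpq => ?_)
  apply Limits.Pi.hom_ext
  intro j
  have := Cochain.congr_v (h j) p q hpq
  simpa only [Cochain.comp_zero_cochain_v, Cochain.ofHom_v] using this

/-- assembling cochains -/
noncomputable def cochainLift {n : ℤ} (z : ∀ j, Cochain M (I j) n) : Cochain M (pK I) n :=
  Cochain.mk (fun p q hpq => Limits.Pi.lift (fun j => (z j).v p q hpq))

lemma cochainLift_comp {n : ℤ} (z : ∀ j, Cochain M (I j) n) (j : J) :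
    (cochainLift z).comp (Cochain.ofHom (prK I j)) (add_zero n) = z j := by
  ext p q hpq
  rw [Cochain.comp_zero_cochain_v, Cochain.ofHom_v]
  change Limits.Pi.lift (fun j => (z j).v p q hpq) ≫ Limits.Pi.π _ j = _
  rw [Limits.Pi.lift_π]

/-- homotopies into a termwise product can be assembled -/
theorem homotopy_of_components (f g : M ⟶ pK I)
    (h : ∀ j, Nonempty (Homotopy (f ≫ prK I j) (g ≫ prK I j))) : Nonempty (Homotopy f g) := by
  let ho := fun j => (h j).some
  let z : ∀ j, Cochain M (I j) (-1) := fun j => (Cochain.equivHomotopy _ _ (ho j)).1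
  have hz : ∀ j, Cochain.ofHom (f ≫ prK I j) = δ (-1) 0 (z j) + Cochain.ofHom (g ≫ prK I j) :=
    fun j => (Cochain.equivHomotopy _ _ (ho j)).2
  refine ⟨(Cochain.equivHomotopy f g).symm ⟨cochainLift z, ?_⟩⟩
  apply cochain_ext
  intro j
  rw [Cochain.add_comp, ← δ_comp_ofHom, cochainLift_comp, ← Cochain.ofHom_comp,
    ← Cochain.ofHom_comp]
  exact hz j

instance isKInjective_pK [∀ j, (I j).IsKInjective] : (pK I).IsKInjective where
  nonempty_homotopy_zero {M} f hM := by
    apply homotopy_of_components
    intro j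
    rw [zero_comp]
    exact ⟨IsKInjective.homotopyZero (f ≫ prK I j) hM⟩

end Termwise

section Derived

variable {A : Type u} [Category.{v} A] [Abelian A] [HasDerivedCategory.{w'} A]

/-- maps into a K-injective complex in the derived category are represented by chain maps -/
lemma exists_Q_map_eq (K X : CochainComplex A ℤ) [X.IsKInjective] (g : Q.obj K ⟶ Q.obj X) :
    ∃ g' : K ⟶ X, Q.map g' = g := by
  obtain ⟨h, hh⟩ := (CochainComplex.IsKInjective.Qh_map_bijective
    ((HomotopyCategory.quotient _ _).obj K) X).2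
    ((quotientCompQhIso A).hom.app K ≫ g ≫ (quotientCompQhIso A).inv.app X)
  obtain ⟨g', rfl⟩ := (HomotopyCategory.quotient _ _).map_surjective h
  refine ⟨g', ?_⟩
  have h1 := quotientCompQhIso_hom_naturality g'
  rw [hh] at h1
  simp only [Category.assoc, Iso.inv_hom_id_app, Category.comp_id] at h1
  exact ((cancel_epi ((quotientCompQhIso A).hom.app K)).1 h1).symm

/-- chain maps into a K-injective complex which agree in the derived category are homotopic -/
lemma homotopy_of_Q_map_eq {K X : CochainComplex A ℤ} [X.IsKInjective] (φ ψ : K ⟶ X)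
    (h : Q.map φ = Q.map ψ) : Nonempty (Homotopy φ ψ) := by
  have h1 := quotientCompQhIso_hom_naturality φ
  have h2 := quotientCompQhIso_hom_naturality ψ
  rw [h] at h1
  have h3 : Qh.map ((HomotopyCategory.quotient _ _).map φ) =
      Qh.map ((HomotopyCategory.quotient _ _).map ψ) := by
    rw [← cancel_mono ((quotientCompQhIso A).hom.app X), h1, h2]
  exact ⟨HomotopyCategory.homotopyOfEq _ _ ((CochainComplex.IsKInjective.Qh_map_bijective
    ((HomotopyCategory.quotient _ _).obj K) X).1 h3)⟩

variable {J : Type w} [HasProductsOfShape J A]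

lemma exists_lift (I : J → CochainComplex A ℤ) [∀ j, (I j).IsKInjective] (Y : DerivedCategory A)
    (φ : ∀ j, Y ⟶ Q.obj (I j)) :
    ∃ Φ : Y ⟶ Q.obj (pK I), ∀ j, Φ ≫ Q.map (prK I j) = φ j := by
  have h := fun j => exists_Q_map_eq (Q.objPreimage Y) (I j) ((Q.objObjPreimageIso Y).hom ≫ φ j)
  choose g hg using h
  refine ⟨(Q.objObjPreimageIso Y).inv ≫ Q.map (liftK g), fun j => ?_⟩
  rw [Category.assoc, ← Functor.map_comp, liftK_prK, hg, Iso.inv_hom_id_assoc]

lemma eq_of_prK (I : J → CochainComplex A ℤ) [∀ j, (I j).IsKInjective] (Y : DerivedCategory A)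
    (Φ Ψ : Y ⟶ Q.obj (pK I)) (h : ∀ j, Φ ≫ Q.map (prK I j) = Ψ ≫ Q.map (prK I j)) : Φ = Ψ := by
  obtain ⟨f, hf⟩ := exists_Q_map_eq (Q.objPreimage Y) (pK I) ((Q.objObjPreimageIso Y).hom ≫ Φ)
  obtain ⟨g, hg⟩ := exists_Q_map_eq (Q.objPreimage Y) (pK I) ((Q.objObjPreimageIso Y).hom ≫ Ψ)
  have h1 : Nonempty (Homotopy f g) := by
    apply homotopy_of_components
    intro j
    apply homotopy_of_Q_map_eq
    rw [Functor.map_comp, Functor.map_comp, hf, hg, Category.assoc, Category.assoc, h j]
  have h2 : Q.map f = Q.map g := Q_map_eq_of_homotopy A h1.some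
  rw [hf, hg] at h2
  exact (cancel_epi _).1 h2

/-- the image of the termwise product of K-injectives is a product in the derived category -/
noncomputable def isLimitFan (I : J → CochainComplex A ℤ) [∀ j, (I j).IsKInjective] :
    IsLimit (Fan.mk (Q.obj (pK I)) (fun j => Q.map (prK I j))) :=
  Fan.IsLimit.mk _ (fun s => (exists_lift I s.pt (fun j => s.proj j)).choose)
    (fun s j => (exists_lift I s.pt (fun j => s.proj j)).choose_spec j)
    (fun s m hm => by
      apply eq_of_prK
      intro j
      have h1 := hm j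
      have h2 := (exists_lift I s.pt (fun j => s.proj j)).choose_spec j
      change m ≫ Q.map (prK I j) = s.proj j at h1
      rw [h1, h2])

end Derived

section Main

variable {A : Type u} [Category.{v} A] [Abelian A] [IsGrothendieckAbelian.{v} A]
  [HasDerivedCategory.{w'} A]

theorem hasProductsOfShape (J : Type v) : HasProductsOfShape J (DerivedCategory A) := by
  constructor
  intro F
  have h := fun j : J => KInjD.exists_kInjective_resolution (Q.objPreimage (F.obj ⟨j⟩))
  choose I f hI hf _ _ using h
  have : ∀ j, (I j).IsKInjective := hI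
  have hiso : ∀ j, IsIso (Q.map (f j)) := fun j => (isIso_Q_map_iff_quasiIso A _).2 (hf j)
  have : HasLimit (Discrete.functor (fun j => Q.obj (I j))) := ⟨⟨⟨_, isLimitFan I⟩⟩⟩
  exact hasLimit_of_iso (F := Discrete.functor (fun j => Q.obj (I j)))
    (Discrete.natIso (fun i => (asIso (Q.map (f i.as))).symm ≪≫ Q.objObjPreimageIso (F.obj i)))

end Main

end Groth.Agent.Helper3.KInjProd
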