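import Mathlib
import Groth.Prelude.Def_DRing2
import Groth.Agent.Lib.Helper3.ExtSys
import Groth.Agent.Lib.Helper3.CohWayOut
import Groth.Agent.Lib.Helper3.KInjProd
import Groth.Agent.Lib.Helper5.DRing.PCCoh
import Groth.Agent.Lib.Helper5.DCat.WayOut

set_option autoImplicit false
universe u
open CategoryTheory CategoryTheory.Limits DerivedCategory Pretriangulated Triangulated

attribute [local instance] HasDerivedCategory.standard

namespace Groth.Agent.Helper3.HomFin

variable {A : Type u} [CommRing A]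

section LinAlg
variable [IsNoetherianRing A]

lemma finite_of_exact_mid {M₁ M₂ M₃ : Type*} [AddCommGroup M₁] [Module A M₁]
    [AddCommGroup M₂] [Module A M₂] [AddCommGroup M₃] [Module A M₃]
    [Module.Finite A M₁] [Module.Finite A M₃]
    (f : M₁ →ₗ[A] M₂) (g : M₂ →ₗ[A] M₃) (h : ∀ x, g x = 0 → ∃ y, f y = x) :
    Module.Finite A M₂ := by
  haveI : IsNoetherian A M₃ := isNoetherian_of_isNoetherianRing_of_finite A M₃
  haveI : IsNoetherian A M₁ := isNoetherian_of_isNoetherianRing_of_finite A M₁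
  rw [Module.finite_def]
  apply Submodule.fg_of_fg_map_of_fg_inf_ker g
  · exact IsNoetherian.noetherian _
  · rw [top_inf_eq]
    have hle : LinearMap.ker g ≤ LinearMap.range f := fun x hx => by
      obtain ⟨y, hy⟩ := h x (LinearMap.mem_ker.1 hx); exact ⟨y, hy⟩
    rw [← Submodule.map_comap_eq_of_le hle]
    exact (IsNoetherian.noetherian _).map f

end LinAlg

section Tri
variable [IsNoetherianRing A]

lemma finite_yoneda (T : Triangle (Dual.D A)) (hT : T ∈ distTriang _) (Y : Dual.D A)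
    (h₁ : Module.Finite A (T.obj₁ ⟶ Y)) (h₃ : Module.Finite A (T.obj₃ ⟶ Y)) :
    Module.Finite A (T.obj₂ ⟶ Y) :=
  finite_of_exact_mid (Linear.leftComp A Y T.mor₂) (Linear.leftComp A Y T.mor₁) (fun f hf => by
    obtain ⟨g, hg⟩ := Triangle.yoneda_exact₂ T hT f hf
    exact ⟨g, hg.symm⟩)

lemma finite_coyoneda_shift (X : Dual.D A) (T : Triangle (Dual.D A)) (hT : T ∈ distTriang _)
    (p : ℤ) (h₁ : Module.Finite A (X ⟶ T.obj₁⟦p⟧)) (h₃ : Module.Finite A (X ⟶ T.obj₃⟦p⟧)) :
    Module.Finite A (X ⟶ T.obj₂⟦p⟧) :=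
  finite_of_exact_mid (Linear.rightComp A X (T.mor₁⟦p⟧')) (Linear.rightComp A X (T.mor₂⟦p⟧'))
    (fun e he => by
      obtain ⟨e', h'⟩ := TriShift.shift_exact₂ T hT p e he
      exact ⟨e', h'.symm⟩)

end Tri

section Vanish

lemma hom_eq_zero_of_isGE (X : Dual.D A) (M' : ℤ) [X.IsGE M']
    (E : CochainComplex (ModuleCat.{u} A) ℤ) [E.IsKInjective] (b' : ℤ) [E.IsStrictlyLE b']
    (h : b' < M') (g : X ⟶ Q.obj E) : g = 0 := by
  obtain ⟨X', hX', ⟨e⟩⟩ := X.exists_iso_Q_obj_of_isGE M'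
  have h0 : e.inv ≫ g = 0 := by
    obtain ⟨g', hg'⟩ := KInjProd.exists_Q_map_eq X' E (e.inv ≫ g)
    have : g' = 0 := by
      ext p : 1
      by_cases hp : p < M'
      · exact (X'.isZero_of_isStrictlyGE M' p hp).eq_of_src _ _
      · exact (E.isZero_of_isStrictlyLE b' p (by omega)).eq_of_tgt _ _
    rw [← hg', this, Functor.map_zero]
  rw [← cancel_epi e.inv, h0, comp_zero]

end Vanish


section Main
variable [IsNoetherianRing A]

/-- the class of finite modules -/
def Pfin : ObjectProperty (ModuleCat.{u} A) := fun M => Module.Finite A M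

instance : (Pfin (A := A)).IsClosedUnderIsomorphisms :=
  ⟨fun e h => by
    haveI : Module.Finite A _ := h
    exact Module.Finite.equiv e.toLinearEquiv⟩

theorem main_S1746 (K L : Dual.D A) (hK : ∀ i : ℤ, Module.Finite A (Dual.HD A K i))
    (hL : ∀ i : ℤ, Module.Finite A (Dual.HD A L i)) (hLi : DRing.HasFiniteInjDim A L) (i : ℤ) :
    Module.Finite A (K ⟶ L⟦i⟧) := by
  obtain ⟨a, b, E, hE, hinj, ⟨e⟩⟩ := hLi
  let t : TStructure (Dual.D A) := TStructure.t
  haveI hEge : E.IsStrictlyGE a := by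
    rw [CochainComplex.isStrictlyGE_iff]; intro j hj; exact hE j (Or.inl hj)
  haveI hEle : E.IsStrictlyLE b := by
    rw [CochainComplex.isStrictlyLE_iff]; intro j hj; exact hE j (Or.inr hj)
  haveI : ∀ n : ℤ, Injective (E.X n) := fun n => by
    haveI := hinj n
    exact Module.injective_object_of_injective_module A (E.X n)
  haveI : E.IsKInjective := CochainComplex.isKInjective_of_injective E a
  haveI hLge : L.IsGE a := t.isGE_of_iso e a
  haveI hLle : L.IsLE b := t.isLE_of_iso e b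
  let eL : L⟦i⟧ ≅ Q.obj (E⟦i⟧) :=
    (shiftFunctor (Dual.D A) i).mapIso e.symm ≪≫ ((Q.commShiftIso i).app E).symm
  haveI : (E⟦i⟧).IsStrictlyLE (b - i) := E.isStrictlyLE_shift b i (b - i) (by omega)
  have hvanC : ∀ (X : Dual.D A) (M' : ℤ), X.IsGE M' → b - i < M' → ∀ g : X ⟶ L⟦i⟧, g = 0 := by
    intro X M' _ hM g
    have := hom_eq_zero_of_isGE X M' (E⟦i⟧) (b - i) hM (g ≫ eL.hom)
    rw [← cancel_mono eL.hom, this, zero_comp]
  haveI hLi_ge : (L⟦i⟧).IsGE (a - i) := t.isGE_shift L a i (a - i) (by omega)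
  have hvanB : ∀ (X : Dual.D A) (m : ℤ), X.IsLE m → m < a - i → ∀ g : X ⟶ L⟦i⟧, g = 0 := by
    intro X m hX hm g
    exact t.zero_of_isLE_of_isGE g m (a - i) hm hX hLi_ge
  -- Step 1
  have hT1 := t.triangleLTGE_distinguished (a - i) K
  suffices h1 : Module.Finite A ((t.truncGE (a - i)).obj K ⟶ L⟦i⟧) by
    refine Module.Finite.of_surjective
      (Linear.leftComp A (L⟦i⟧) ((t.truncGEπ (a - i)).app K)) ?_
    intro g
    have hz : (t.truncLTι (a - i)).app K ≫ g = 0 :=
      hvanB _ (a - i - 1) (inferInstanceAs (t.IsLE ((t.truncLT (a - i)).obj K) (a - i - 1)))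
        (by omega) _
    obtain ⟨g', hg'⟩ := Triangle.yoneda_exact₂ _ hT1 g hz
    exact ⟨g', hg'.symm⟩
  -- Step 2
  have hT2 := t.triangleLTGE_distinguished (b - i + 1) ((t.truncGE (a - i)).obj K)
  suffices h2 : Module.Finite A
      ((t.truncLT (b - i + 1)).obj ((t.truncGE (a - i)).obj K) ⟶ L⟦i⟧) by
    haveI : IsNoetherian A
        ((t.truncLT (b - i + 1)).obj ((t.truncGE (a - i)).obj K) ⟶ L⟦i⟧) :=
      isNoetherian_of_isNoetherianRing_of_finite A _
    refine Module.Finite.of_injective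
      (Linear.leftComp A (L⟦i⟧) ((t.truncLTι (b - i + 1)).app ((t.truncGE (a - i)).obj K))) ?_
    rw [← LinearMap.ker_eq_bot, LinearMap.ker_eq_bot']
    intro g hg
    obtain ⟨g', hg'⟩ := Triangle.yoneda_exact₂ _ hT2 g hg
    have : g' = 0 := hvanC _ (b - i + 1)
      (inferInstanceAs (t.IsGE ((t.truncGE (b - i + 1)).obj ((t.truncGE (a - i)).obj K))
        (b - i + 1))) (by omega) g'
    rw [hg', this, comp_zero]
    rfl
  -- Step 3
  have h0 : ∀ Z : ModuleCat.{u} A, IsZero Z → Pfin Z := fun Z hZ => by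
    haveI := ModuleCat.subsingleton_of_isZero hZ
    exact (inferInstance : Module.Finite A Z)
  have hK₁fin : ∀ j, Pfin ((homologyFunctor _ j).obj ((t.truncGE (a - i)).obj K)) :=
    _root_.Helper5.DCat.prop_homology_truncGE Pfin K (a - i) hK h0
  have hK₂fin : ∀ j, Pfin ((homologyFunctor _ j).obj
      ((t.truncLT (b - i + 1)).obj ((t.truncGE (a - i)).obj K))) :=
    _root_.Helper5.DCat.prop_homology_truncLT Pfin _ (b - i + 1) hK₁fin h0
  have hK₂le : t.IsLE ((t.truncLT (b - i + 1)).obj ((t.truncGE (a - i)).obj K)) (b - i) := by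
    have h : t.IsLE ((t.truncLT (b - i + 1)).obj ((t.truncGE (a - i)).obj K)) (b - i + 1 - 1) :=
      inferInstance
    rwa [show b - i + 1 - 1 = b - i by omega] at h
  generalize (t.truncLT (b - i + 1)).obj ((t.truncGE (a - i)).obj K) = K₂ at hK₂fin hK₂le ⊢
  haveI : K₂.IsLE (b - i) := hK₂le
  have hpc : DRing.IsPseudoCoherent' A K₂ := by
    refine ((Groth.Agent.Helper5.PCCoh.s6943 A
      (fun I _ => Module.finitePresentation_of_finite A I) K₂
      ⟨b - i, fun j hj => ?_⟩ 0).2).2 (fun j => ?_)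
    · exact ModuleCat.subsingleton_of_isZero (isZero_of_isLE K₂ (b - i) j hj)
    · haveI : Module.Finite A (Dual.HD A K₂ j) := hK₂fin j
      exact Module.finitePresentation_of_finite A _
  let 𝒬 : ObjectProperty (Dual.D A) := fun Y => ∀ p : ℤ, Module.Finite A (K₂ ⟶ Y⟦p⟧)
  haveI : 𝒬.IsClosedUnderIsomorphisms := ⟨fun {X Y} e h p => by
    haveI := h p
    refine Module.Finite.of_surjective (Linear.rightComp A K₂ (e.hom⟦p⟧'))
      (fun g => ⟨g ≫ e.inv⟦p⟧', ?_⟩)
    change (g ≫ e.inv⟦p⟧') ≫ e.hom⟦p⟧' = g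
    rw [Category.assoc, ← CategoryTheory.Functor.map_comp, e.inv_hom_id,
      CategoryTheory.Functor.map_id]
    exact Category.comp_id _⟩
  have hshift : ∀ (X : Dual.D A) (n : ℤ), 𝒬 X → 𝒬 (X⟦n⟧) := fun X n h p => by
    haveI := h (n + p)
    refine Module.Finite.of_surjective
      (Linear.rightComp A K₂ ((shiftFunctorAdd' (Dual.D A) n p (n + p) rfl).hom.app X))
      (fun g => ⟨g ≫ (shiftFunctorAdd' (Dual.D A) n p (n + p) rfl).inv.app X, ?_⟩)
    change (g ≫ _) ≫ _ = g
    rw [Category.assoc, Iso.inv_hom_id_app]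
    exact Category.comp_id _
  have hext : ∀ T ∈ distTriang (Dual.D A), 𝒬 T.obj₁ → 𝒬 T.obj₃ → 𝒬 T.obj₂ :=
    fun T hT h₁ h₃ p => finite_coyoneda_shift K₂ T hT p (h₁ p) (h₃ p)
  have hP : ∀ M : ModuleCat.{u} A, Pfin M →
      𝒬 ((singleFunctor (ModuleCat.{u} A) 0).obj M) := fun M hM p => by
    haveI : Module.Finite A M := hM
    exact ExtSys.finite_ext K₂ hpc M p
  have hQL : 𝒬 L := CohWayOut.prop_of_bounded 𝒬 hshift hext Pfin hP ((b - a).toNat + 1) L a b
    (by omega) hL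
  exact hQL i

end Main

end Groth.Agent.Helper3.HomFin
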