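import Mathlib
import Groth.Prelude.Def_DRing2
import Groth.Agent.Lib.Helper8.ABS15
import Groth.Agent.Lib.Helper8.ABS6
import Groth.Agent.Lib.Helper9.GlDim

/-!
# Regular rings of finite Krull dimension have finite global dimension; consequences in `D(R)`
-/

set_option autoImplicit false
universe u
open CategoryTheory CategoryTheory.Limits Pretriangulated Triangulated

attribute [local instance] HasDerivedCategory.standard

namespace Groth.Agent.Helper3.RegGlDim

open DerivedCategory

section GlDim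

variable {R : Type u} [CommRing R] [IsNoetherianRing R]

theorem pdLT_of_finite
    (hreg : ∀ p : PrimeSpectrum R, IsRegularLocalRing (Localization.AtPrime p.asIdeal))
    (d : ℕ) (hd : ringKrullDim R = d) (M : Type u) [AddCommGroup M] [Module R M]
    [Module.Finite R M] : HasProjectiveDimensionLT (ModuleCat.of R M) (d + 1) := by
  rw [Groth.Agent.Helper8.ABS.hasProjectiveDimensionLT_iff_forall_localization M d]
  intro p
  haveI := hreg p
  obtain ⟨N, hN, hpd⟩ := Groth.Agent.Helper8.ABS.exists_hasProjectiveDimensionLT_of_regular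
    (Localization.AtPrime p.asIdeal) (LocalizedModule p.asIdeal.primeCompl M)
  have h1 : ringKrullDim (Localization.AtPrime p.asIdeal) = p.asIdeal.height :=
    IsLocalization.AtPrime.ringKrullDim_eq_height p.asIdeal _
  have h2 : (p.asIdeal.height : WithBot ℕ∞) ≤ ringKrullDim R :=
    Ideal.height_le_ringKrullDim_of_isPrime
  have h3 : ((N : ℕ) : WithBot ℕ∞) ≤ ((d : ℕ) : WithBot ℕ∞) := by
    rw [← hN, h1, ← hd]
    exact h2
  have h4 : N ≤ d := by exact_mod_cast h3
  exact hasProjectiveDimensionLT_of_ge _ (N + 1) (d + 1) (by omega)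

theorem pdLT_of_regular
    (hreg : ∀ p : PrimeSpectrum R, IsRegularLocalRing (Localization.AtPrime p.asIdeal))
    (d : ℕ) (hd : ringKrullDim R = d) (M : ModuleCat.{u} R) :
    HasProjectiveDimensionLT M (d + 1) := by
  apply Groth.Agent.Helper9.GlDim.main5804 d
  intro I
  exact pdLT_of_finite hreg d hd (R ⧸ I)

end GlDim

section Vanish

variable {R : Type u} [CommRing R]

lemma projective_single_X (P : ModuleCat.{u} R) [Projective P] (n : ℤ) :
    Projective (((CochainComplex.singleFunctor (ModuleCat.{u} R) 0).obj P).X n) := by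
  by_cases hn : n = 0
  · subst hn
    exact Projective.of_iso (HomologicalComplex.singleObjXSelf (ComplexShape.up ℤ) 0 P).symm
      inferInstance
  · exact (HomologicalComplex.isZero_single_obj_X (ComplexShape.up ℤ) 0 P n hn).projective

/-- maps from a projective module in degree `0` to an object of `D^{≤ -1}` vanish -/
lemma subsingleton_hom_of_projective (P : ModuleCat.{u} R) [Projective P] (L : Dual.D R)
    [L.IsLE (-1)] :
    Subsingleton ((DerivedCategory.singleFunctor (ModuleCat.{u} R) 0).obj P ⟶ L) := by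
  obtain ⟨L', hL', ⟨e⟩⟩ := DerivedCategory.exists_iso_Q_obj_of_isLE L (-1)
  let S := (CochainComplex.singleFunctor (ModuleCat.{u} R) 0).obj P
  haveI : ∀ n : ℤ, Projective (S.X n) := projective_single_X P
  haveI : S.IsKProjective := CochainComplex.isKProjective_of_projective S 0
  have key : ∀ u : DerivedCategory.Q.obj S ⟶ DerivedCategory.Q.obj L', u = 0 := by
    intro u
    obtain ⟨g, hg⟩ := (CochainComplex.IsKProjective.Qh_map_bijective S
      ((HomotopyCategory.quotient _ (ComplexShape.up ℤ)).obj L')).2 u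
    obtain ⟨f, rfl⟩ := (HomotopyCategory.quotient _ (ComplexShape.up ℤ)).map_surjective g
    have hf : f = 0 := by
      ext i : 1
      by_cases hi : i = 0
      · subst hi
        exact (L'.isZero_of_isStrictlyLE (-1) 0 (by omega)).eq_of_tgt _ _
      · exact (HomologicalComplex.isZero_single_obj_X (ComplexShape.up ℤ) 0 P i hi).eq_of_src _ _
    rw [← hg, hf, Functor.map_zero, Functor.map_zero]
    rfl
  let eS : (DerivedCategory.singleFunctor (ModuleCat.{u} R) 0).obj P ≅ DerivedCategory.Q.obj S :=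
    (DerivedCategory.singleFunctorIsoCompQ (ModuleCat.{u} R) 0).app P
  refine ⟨fun f g => ?_⟩
  have hf : f = eS.hom ≫ (eS.inv ≫ f ≫ e.hom) ≫ e.inv := by simp
  have hg : g = eS.hom ≫ (eS.inv ≫ g ≫ e.hom) ≫ e.inv := by simp
  rw [hf, hg, key (eS.inv ≫ f ≫ e.hom), key (eS.inv ≫ g ≫ e.hom)]

/-- maps from a module of projective dimension `≤ d` in degree `0` to `D^{≤ -d-1}` vanish -/
theorem subsingleton_hom_of_pdLT (d : ℕ) :
    ∀ (M : ModuleCat.{u} R) (_ : HasProjectiveDimensionLT M (d + 1)) (L : Dual.D R)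
      (_ : L.IsLE (-(d : ℤ) - 1)),
      Subsingleton ((DerivedCategory.singleFunctor (ModuleCat.{u} R) 0).obj M ⟶ L) := by
  induction d with
  | zero =>
    intro M hM L hL
    haveI : Projective M := projective_iff_hasProjectiveDimensionLT_one.2 hM
    haveI : L.IsLE (-1) := by simpa using hL
    exact subsingleton_hom_of_projective M L
  | succ d ih =>
    intro M hM L hL
    let S := ShortComplex.mk (kernel.ι (Projective.π M)) (Projective.π M) (kernel.condition _)
    have hS : S.ShortExact :=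
      { exact := ShortComplex.exact_of_f_is_kernel _ (kernelIsKernel _)
        mono_f := inferInstanceAs (Mono (kernel.ι (Projective.π M)))
        epi_g := inferInstanceAs (Epi (Projective.π M)) }
    have proj : Projective S.X₂ := inferInstanceAs (Projective (Projective.over M))
    have hK : HasProjectiveDimensionLT S.X₁ (d + 1) :=
      (hS.hasProjectiveDimensionLT_X₃_iff d proj).1 hM
    have hT := hS.singleTriangle_distinguished
    haveI : L.IsLE (-1) := (TStructure.t).isLE_of_le L (-((d + 1 : ℕ) : ℤ) - 1) (-1) (by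
      push_cast; omega)
    haveI h2 := subsingleton_hom_of_projective S.X₂ L
    haveI hL' : (L⟦(-1 : ℤ)⟧).IsLE (-(d : ℤ) - 1) :=
      (TStructure.t).isLE_shift L (-((d + 1 : ℕ) : ℤ) - 1) (-1) (-(d : ℤ) - 1) (by
        push_cast; omega)
    haveI h1 := ih S.X₁ hK (L⟦(-1 : ℤ)⟧) hL'
    refine ⟨fun f g => ?_⟩
    have key : ∀ f : (DerivedCategory.singleFunctor (ModuleCat.{u} R) 0).obj M ⟶ L, f = 0 := by
      intro f
      have h0 : hS.singleTriangle.mor₂ ≫ f = 0 := h2.elim _ _
      obtain ⟨g, hg⟩ := Triangle.yoneda_exact₃ _ hT f h0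
      have hg0 : g = 0 := by
        apply ((shiftEquiv (Dual.D R) (1 : ℤ)).toAdjunction.homEquiv _ _).injective
        exact h1.elim _ _
      rw [hg, hg0, comp_zero]
      rfl
    rw [key f, key g]

/-- maps from a shifted module `M[-j]`, `j ≥ k+1`, to `D^{≤ k-d}` vanish when `pd M ≤ d` -/
lemma subsingleton_hom_of_heart (d : ℕ) (hgl : ∀ M : ModuleCat.{u} R, HasProjectiveDimensionLT M (d + 1))
    (k : ℤ) (L : Dual.D R) [L.IsLE (k - d)] (X : Dual.D R) (j : ℤ) (hj : k + 1 ≤ j)
    [X.IsGE j] [X.IsLE j] : Subsingleton (X ⟶ L) := by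
  obtain ⟨Y, ⟨e⟩⟩ := exists_iso_singleFunctor_obj_of_isGE_of_isLE X j
  let e' : ((DerivedCategory.singleFunctor (ModuleCat.{u} R) 0).obj Y)⟦(-j : ℤ)⟧ ≅
      (DerivedCategory.singleFunctor (ModuleCat.{u} R) j).obj Y :=
    ((DerivedCategory.singleFunctors (ModuleCat.{u} R)).shiftIso (-j) j 0 (by lia)).app Y
  -- Hom(Y[0]⟦-j⟧, L) ≃ Hom(Y[0], L⟦j⟧)
  haveI h0 : (L⟦j⟧).IsLE (k - d - j) := (TStructure.t).isLE_shift L (k - d) j (k - d - j) (by omega)
  haveI hL' : (L⟦j⟧).IsLE (-(d : ℤ) - 1) :=
    (TStructure.t).isLE_of_le _ (k - d - j) _ (by omega)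
  haveI h1 := subsingleton_hom_of_pdLT d Y (hgl Y) (L⟦j⟧) hL'
  have h2 : Subsingleton
      (((DerivedCategory.singleFunctor (ModuleCat.{u} R) 0).obj Y)⟦(-j : ℤ)⟧ ⟶ L) :=
    @Equiv.subsingleton _ _ ((shiftEquiv (Dual.D R) j).symm.toAdjunction.homEquiv _ _) h1
  refine ⟨fun f g => ?_⟩
  have key : ∀ f : X ⟶ L, f = 0 := by
    intro f
    have hf : (e'.hom ≫ e.inv) ≫ f = 0 := h2.elim _ _
    have : IsIso (e'.hom ≫ e.inv) := inferInstance
    exact (cancel_epi (e'.hom ≫ e.inv)).1 (hf.trans comp_zero.symm)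
  rw [key f, key g]

/-- bounded objects of `D^{> k}` have no nonzero maps to `D^{≤ k - d}` over a ring of global
dimension `≤ d` -/
theorem subsingleton_hom_of_bounded (d : ℕ)
    (hgl : ∀ M : ModuleCat.{u} R, HasProjectiveDimensionLT M (d + 1))
    (k : ℤ) (L : Dual.D R) [L.IsLE (k - d)] (n : ℕ) :
    ∀ (K : Dual.D R) [K.IsGE (k + 1)] [K.IsLE (k + n)], Subsingleton (K ⟶ L) := by
  induction n with
  | zero =>
    intro K _ _
    have hz : IsZero K := (TStructure.t).isZero K (k + (0 : ℕ)) (k + 1) (by simp)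
    exact ⟨fun f g => hz.eq_of_src f g⟩
  | succ n ih =>
    intro K _ _
    let t : TStructure (Dual.D R) := TStructure.t
    let b : ℤ := k + (n + 1 : ℕ)
    have hT := t.triangleLTGE_distinguished b K
    haveI hA1 : ((t.truncLT b).obj K).IsLE (k + n) :=
      (TStructure.t).isLE_of_le _ (b - 1) _ (by simp only [b]; push_cast; omega)
    haveI hA2 : ((t.truncLT b).obj K).IsGE (k + 1) :=
      inferInstanceAs (t.IsGE ((t.truncLT b).obj K) (k + 1))
    haveI hB1 : ((t.truncGE b).obj K).IsGE b := inferInstanceAs (t.IsGE ((t.truncGE b).obj K) b)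
    haveI hB2 : ((t.truncGE b).obj K).IsLE b := inferInstanceAs (t.IsLE ((t.truncGE b).obj K) b)
    haveI h1 : Subsingleton ((t.truncLT b).obj K ⟶ L) := ih _
    haveI h3 : Subsingleton ((t.truncGE b).obj K ⟶ L) :=
      subsingleton_hom_of_heart d hgl k L _ b (by simp only [b]; push_cast; omega)
    have key : ∀ f : K ⟶ L, f = 0 := by
      intro f
      have h0 : ((t.triangleLTGE b).obj K).mor₁ ≫ f = 0 := h1.elim _ _
      obtain ⟨g, hg⟩ := Triangle.yoneda_exact₂ _ hT f h0
      have hg0 : g = 0 := h3.elim _ _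
      rw [hg, hg0, comp_zero]
      rfl
    exact ⟨fun f g => by rw [key f, key g]⟩

end Vanish

section Main

lemma isGE_of_subsingleton {R : Type u} [CommRing R] (K : Dual.D R) (n : ℤ)
    (h : ∀ i : ℤ, i < n → Subsingleton (Dual.HD R K i)) : K.IsGE n := by
  rw [DerivedCategory.isGE_iff]
  intro i hi
  haveI := h i hi
  exact ModuleCat.isZero_of_subsingleton _

lemma isLE_of_subsingleton {R : Type u} [CommRing R] (K : Dual.D R) (n : ℤ)
    (h : ∀ i : ℤ, n < i → Subsingleton (Dual.HD R K i)) : K.IsLE n := by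
  rw [DerivedCategory.isLE_iff]
  intro i hi
  haveI := h i hi
  exact ModuleCat.isZero_of_subsingleton _

theorem main_S6994 (R : Type u) [CommRing R] [IsNoetherianRing R]
    (hreg : ∀ p : PrimeSpectrum R, IsRegularLocalRing (Localization.AtPrime p.asIdeal)) (d : ℕ)
    (hd : ringKrullDim R = d) (K L : Dual.D R)
    (hKb : ∃ b : ℤ, ∀ i : ℤ, b < i → Subsingleton (Dual.HD R K i)) (k : ℤ)
    (hK : ∀ i : ℤ, i ≤ k → Subsingleton (Dual.HD R K i))
    (hL : ∀ i : ℤ, k - d + 1 ≤ i → Subsingleton (Dual.HD R L i)) :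
    Subsingleton (K ⟶ L) := by
  obtain ⟨b, hb⟩ := hKb
  haveI : K.IsGE (k + 1) := isGE_of_subsingleton K (k + 1) (fun i hi => hK i (by omega))
  haveI : L.IsLE (k - d) := isLE_of_subsingleton L (k - d) (fun i hi => hL i (by omega))
  haveI : K.IsLE b := isLE_of_subsingleton K b hb
  haveI : K.IsLE (k + ((b - k).toNat : ℕ)) := (TStructure.t).isLE_of_le K b _ (by omega)
  exact subsingleton_hom_of_bounded d (pdLT_of_regular hreg d hd) k L (b - k).toNat K

end Main

end Groth.Agent.Helper3.RegGlDim
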