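import Mathlib
import Groth.Prelude.Def_Wider
import Groth.Agent.Lib.Helper3.RegGlDim

/-!
# Over a regular ring of finite Krull dimension, `A[0]` is a dualizing complex
-/

set_option autoImplicit false
universe u
open CategoryTheory CategoryTheory.Limits Pretriangulated Triangulated

attribute [local instance] HasDerivedCategory.standard

namespace Groth.Agent.Helper3.RegDual

open DerivedCategory Groth.Agent.Helper3.RegGlDim

section GlDim

variable {R : Type u} [CommRing R] [IsNoetherianRing R]

theorem pdLT_of_finite_le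
    (hreg : ∀ p : PrimeSpectrum R, IsRegularLocalRing (Localization.AtPrime p.asIdeal))
    (d : ℕ) (hd : ringKrullDim R ≤ d) (M : Type u) [AddCommGroup M] [Module R M]
    [Module.Finite R M] : HasProjectiveDimensionLT (ModuleCat.of R M) (d + 1) := by
  rw [Groth.Agent.Helper8.ABS.hasProjectiveDimensionLT_iff_forall_localization M d]
  intro p
  haveI := hreg p
  obtain ⟨N, hN, hpd⟩ := Groth.Agent.Helper8.ABS.exists_hasProjectiveDimensionLT_of_regular
    (Localization.AtPrime p.asIdeal) (LocalizedModule p.asIdeal.primeCompl M)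
  have h1 : ringKrullDim (Localization.AtPrime p.asIdeal) = p.asIdeal.height :=
    IsLocalization.AtPrime.ringKrullDim_eq_height p.asIdeal _
  have h2 : (p.asIdeal.height : WithBot ℕ∞) ≤ ringKrullDim R :=
    Ideal.height_le_ringKrullDim_of_isPrime
  have h3 : ((N : ℕ) : WithBot ℕ∞) ≤ ((d : ℕ) : WithBot ℕ∞) := by
    rw [← hN, h1]
    exact h2.trans hd
  have h4 : N ≤ d := by exact_mod_cast h3
  exact hasProjectiveDimensionLT_of_ge _ (N + 1) (d + 1) (by omega)

theorem pdLT_of_regular_le
    (hreg : ∀ p : PrimeSpectrum R, IsRegularLocalRing (Localization.AtPrime p.asIdeal))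
    (d : ℕ) (hd : ringKrullDim R ≤ d) (M : ModuleCat.{u} R) :
    HasProjectiveDimensionLT M (d + 1) := by
  apply Groth.Agent.Helper9.GlDim.main5804 d
  intro I
  exact pdLT_of_finite_le hreg d hd (R ⧸ I)

end GlDim

section Single

variable {A : Type u} [CommRing A]

/-- no maps `M[0] ⟶ N[0][i]` for `i < 0` -/
lemma subsingleton_single_neg (M N : ModuleCat.{u} A) (i : ℤ) (hi : i < 0) :
    Subsingleton ((DerivedCategory.singleFunctor (ModuleCat.{u} A) 0).obj M ⟶
      ((DerivedCategory.singleFunctor (ModuleCat.{u} A) 0).obj N)⟦i⟧) := by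
  let t : TStructure (Dual.D A) := TStructure.t
  haveI h1 : t.IsLE ((DerivedCategory.singleFunctor (ModuleCat.{u} A) 0).obj M) 0 :=
    inferInstanceAs (((DerivedCategory.singleFunctor (ModuleCat.{u} A) 0).obj M).IsLE 0)
  haveI h0 : t.IsGE ((DerivedCategory.singleFunctor (ModuleCat.{u} A) 0).obj N) 0 :=
    inferInstanceAs (((DerivedCategory.singleFunctor (ModuleCat.{u} A) 0).obj N).IsGE 0)
  haveI h2 : t.IsGE (((DerivedCategory.singleFunctor (ModuleCat.{u} A) 0).obj N)⟦i⟧) (-i) :=
    t.isGE_shift _ 0 i (-i) (by omega)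
  exact ⟨fun f g => by
    rw [t.zero_of_isLE_of_isGE f 0 (-i) (by omega) h1 h2,
      t.zero_of_isLE_of_isGE g 0 (-i) (by omega) h1 h2]⟩

/-- `H^i(M[0])` -/
lemma finite_HD_single (M : Type u) [AddCommGroup M] [Module A M] [Module.Finite A M] (i : ℤ) :
    Module.Finite A (Dual.HD A (Dual.inD A M) i) := by
  by_cases hi : i = 0
  · subst hi
    have hfin : Module.Finite A ((𝟭 (ModuleCat.{u} A)).obj (ModuleCat.of A M)) :=
      inferInstanceAs (Module.Finite A M)
    exact Module.Finite.equiv ((DerivedCategory.singleFunctorCompHomologyFunctorIso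
      (ModuleCat.{u} A) 0).app (ModuleCat.of A M)).toLinearEquiv.symm
  · have hz : IsZero ((DerivedCategory.homologyFunctor (ModuleCat.{u} A) i).obj (Dual.inD A M)) := by
      rcases lt_or_gt_of_ne hi with h | h
      · exact isZero_of_isGE (Dual.inD A M) 0 i h
      · exact isZero_of_isLE (Dual.inD A M) 0 i h
    haveI := ModuleCat.subsingleton_of_isZero hz
    infer_instance

/-- `A → End(A[0])` is bijective -/
lemma toEnd_bijective_single :
    Function.Bijective (fun a : A => a • (𝟙 (Dual.inD A A))) := by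
  let F := DerivedCategory.singleFunctor (ModuleCat.{u} A) 0
  have h1 : ∀ a : A, a • (𝟙 (Dual.inD A A)) = F.map (a • 𝟙 (ModuleCat.of A A)) := by
    intro a
    rw [Functor.map_smul, CategoryTheory.Functor.map_id]
  constructor
  · intro a b hab
    dsimp only at hab
    rw [h1, h1] at hab
    have h2 := F.map_injective hab
    have h3 := congrArg (fun f => f.hom (1 : A)) h2
    simpa using h3
  · intro φ
    obtain ⟨ψ, rfl⟩ := F.map_surjective φ
    refine ⟨ψ.hom (1 : A), ?_⟩
    dsimp only
    rw [h1]
    congr 1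
    ext
    simp

end Single

section Main

theorem main_S11185 (A : Type u) [CommRing A] [IsNoetherianRing A]
    (hreg : ∀ p : PrimeSpectrum A, IsRegularLocalRing (Localization.AtPrime p.asIdeal))
    (hdim : ringKrullDim A < ⊤) : Dual.IsDualizing A (Dual.inD A A) := by
  obtain ⟨d, hd⟩ : ∃ d : ℕ, ringKrullDim A ≤ (d : WithBot ℕ∞) := by
    rcases h : ringKrullDim A with _ | n
    · exact ⟨0, bot_le⟩
    · have hn : n ≠ ⊤ := by
        rintro rfl
        rw [h] at hdim
        exact lt_irrefl _ hdim
      lift n to ℕ using hn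
      exact ⟨n, le_rfl⟩
  let t : TStructure (Dual.D A) := TStructure.t
  have hshift : ∀ (N : ModuleCat.{u} A) (i : ℤ),
      t.IsLE (((DerivedCategory.singleFunctor (ModuleCat.{u} A) 0).obj N)⟦i⟧) (-i) := by
    intro N i
    haveI h0 : t.IsLE ((DerivedCategory.singleFunctor (ModuleCat.{u} A) 0).obj N) 0 :=
      inferInstanceAs (((DerivedCategory.singleFunctor (ModuleCat.{u} A) 0).obj N).IsLE 0)
    exact t.isLE_shift _ 0 i (-i) (by omega)
  refine ⟨inferInstance, ⟨0, d, ?_⟩, ?_, toEnd_bijective_single, ?_⟩
  · intro M _ _ i hi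
    rcases hi with hi | hi
    · exact subsingleton_single_neg (ModuleCat.of A M) (ModuleCat.of A A) i hi
    · haveI := hshift (ModuleCat.of A A) i
      have hL : (((DerivedCategory.singleFunctor (ModuleCat.{u} A) 0).obj
          (ModuleCat.of A A))⟦i⟧).IsLE (-(d : ℤ) - 1) :=
        t.isLE_of_le _ (-i) _ (by omega)
      exact subsingleton_hom_of_pdLT d (ModuleCat.of A M)
        (pdLT_of_regular_le hreg d hd _) _ hL
  · intro i
    exact finite_HD_single A i
  · intro i hi
    rcases lt_or_gt_of_ne hi with h | h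
    · exact subsingleton_single_neg (ModuleCat.of A A) (ModuleCat.of A A) i h
    · haveI := hshift (ModuleCat.of A A) i
      haveI hL : (((DerivedCategory.singleFunctor (ModuleCat.{u} A) 0).obj
          (ModuleCat.of A A))⟦i⟧).IsLE (-1) :=
        t.isLE_of_le _ (-i) _ (by omega)
      haveI : Projective (ModuleCat.of A A) := ModuleCat.projective_of_categoryTheory_projective _
      exact subsingleton_hom_of_projective (ModuleCat.of A A) _

end Main

end Groth.Agent.Helper3.RegDual
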