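import Mathlib
import Groth.Prelude.Def_Wider
import Groth.Prelude.Def_DRing2
import Groth.Agent.Lib.Helper3.HomFin
import Groth.Agent.Lib.Helper3.RegDual
import Groth.Agent.Lib.Helper5.ProjAmp.InjAmp

/-!
# Dualizing complexes: basic vanishing by Noetherian induction
-/

set_option autoImplicit false
universe u
open CategoryTheory CategoryTheory.Limits Pretriangulated Triangulated

attribute [local instance] HasDerivedCategory.standard

namespace Groth.Agent.Helper3.DualCx

open DerivedCategory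

variable {A : Type u} [CommRing A]

/-- `Ext^i(M, ω) = 0` -/
def Van (ω : Dual.D A) (i : ℤ) (M : Type u) [AddCommGroup M] [Module A M] : Prop :=
  Subsingleton (Dual.inD A M ⟶ ω⟦i⟧)

section Basic

variable (ω : Dual.D A) (i : ℤ)

lemma van_of_subsingleton (M : Type u) [AddCommGroup M] [Module A M] [Subsingleton M] :
    Van ω i M := by
  have hz : IsZero (ModuleCat.of A M) := ModuleCat.isZero_of_subsingleton _
  have hz' : IsZero (Dual.inD A M) :=
    (DerivedCategory.singleFunctor (ModuleCat.{u} A) 0).map_isZero hz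
  exact ⟨fun f g => hz'.eq_of_src f g⟩

lemma van_of_equiv {M N : Type u} [AddCommGroup M] [Module A M] [AddCommGroup N] [Module A N]
    (e : M ≃ₗ[A] N) (h : Van ω i M) : Van ω i N := by
  let e' : Dual.inD A N ≅ Dual.inD A M :=
    (DerivedCategory.singleFunctor (ModuleCat.{u} A) 0).mapIso e.symm.toModuleIso
  exact ⟨fun f g => by
    have := h.elim (e'.inv ≫ f) (e'.inv ≫ g)
    exact (cancel_epi e'.inv).1 this⟩

/-- the short exact sequence in `ModuleCat` attached to an exact pair of linear maps -/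
lemma shortExact_of_exact {N₁ N₂ N₃ : Type u} [AddCommGroup N₁] [Module A N₁] [AddCommGroup N₂]
    [Module A N₂] [AddCommGroup N₃] [Module A N₃] (f : N₁ →ₗ[A] N₂) (g : N₂ →ₗ[A] N₃)
    (hf : Function.Injective f) (hg : Function.Surjective g) (hfg : Function.Exact f g) :
    (ModuleCat.shortComplexOfCompEqZero f g hfg.linearMap_comp_eq_zero).ShortExact :=
  ModuleCat.shortComplex_shortExact _ hfg hf hg

lemma van_of_exact {N₁ N₂ N₃ : Type u} [AddCommGroup N₁] [Module A N₁] [AddCommGroup N₂]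
    [Module A N₂] [AddCommGroup N₃] [Module A N₃] (f : N₁ →ₗ[A] N₂) (g : N₂ →ₗ[A] N₃)
    (hf : Function.Injective f) (hg : Function.Surjective g) (hfg : Function.Exact f g)
    (h₁ : Van ω i N₁) (h₃ : Van ω i N₃) : Van ω i N₂ := by
  have hS := shortExact_of_exact f g hf hg hfg
  have hT := hS.singleTriangle_distinguished
  have key : ∀ φ : Dual.inD A N₂ ⟶ ω⟦i⟧, φ = 0 := by
    intro φ
    have h0 : hS.singleTriangle.mor₁ ≫ φ = 0 := h₁.elim _ _
    obtain ⟨ψ, hψ⟩ := Triangle.yoneda_exact₂ _ hT φ h0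
    have hψ0 : ψ = 0 := h₃.elim _ _
    rw [hψ, hψ0, comp_zero]
    rfl
  exact ⟨fun φ ψ => by rw [key φ, key ψ]⟩

/-- if `Ext^{i+1}(N₃, ω) = 0` then `Ext^i(N₂, ω) → Ext^i(N₁, ω)` is surjective -/
lemma exists_extension {N₁ N₂ N₃ : Type u} [AddCommGroup N₁] [Module A N₁] [AddCommGroup N₂]
    [Module A N₂] [AddCommGroup N₃] [Module A N₃] (f : N₁ →ₗ[A] N₂) (g : N₂ →ₗ[A] N₃)
    (hf : Function.Injective f) (hg : Function.Surjective g) (hfg : Function.Exact f g)
    (h₃ : Van ω (i + 1) N₃) (φ : Dual.inD A N₁ ⟶ ω⟦i⟧) :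
    ∃ ψ : Dual.inD A N₂ ⟶ ω⟦i⟧,
      φ = (DerivedCategory.singleFunctor (ModuleCat.{u} A) 0).map (ModuleCat.ofHom f) ≫ ψ := by
  have hS := shortExact_of_exact f g hf hg hfg
  have hT := inv_rot_of_distTriang _ hS.singleTriangle_distinguished
  -- `Hom(N₃[-1], ω[i]) = Hom(N₃, ω[i+1]) = 0`
  have hsub : Subsingleton ((Dual.inD A N₃)⟦(-1 : ℤ)⟧ ⟶ ω⟦i⟧) := by
    have h1 : Subsingleton (Dual.inD A N₃ ⟶ (ω⟦i⟧)⟦(1 : ℤ)⟧) := by
      let e : ω⟦i + 1⟧ ≅ (ω⟦i⟧)⟦(1 : ℤ)⟧ := (shiftFunctorAdd' (Dual.D A) i 1 (i + 1) rfl).app ω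
      exact ⟨fun a b => by
        have := h₃.elim (a ≫ e.inv) (b ≫ e.inv)
        exact (cancel_mono e.inv).1 this⟩
    exact @Equiv.subsingleton _ _
      ((shiftEquiv (Dual.D A) (1 : ℤ)).symm.toAdjunction.homEquiv _ _) h1
  have h0 : hS.singleTriangle.invRotate.mor₁ ≫ φ = 0 := hsub.elim _ _
  obtain ⟨ψ, hψ⟩ := Triangle.yoneda_exact₂ _ hT φ h0
  exact ⟨ψ, hψ⟩

end Basic

section Dualizing

variable [IsNoetherianRing A] {ω : Dual.D A} (hω : Dual.IsDualizing A ω)

include hω in
lemma hasFiniteInjDim : DRing.HasFiniteInjDim A ω := by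
  obtain ⟨a, b, h⟩ := hω.finite_injective_dimension
  exact ⟨a, b, ((Groth.Agent.Helper5.InjAmp.s6965 ω a b).out 1 0).1 h⟩

include hω in
lemma finite_hom (K : Dual.D A) (hK : ∀ i : ℤ, Module.Finite A (Dual.HD A K i)) (i : ℤ) :
    Module.Finite A (K ⟶ ω⟦i⟧) :=
  Groth.Agent.Helper3.HomFin.main_S1746 K ω hK hω.finite_cohomology (hasFiniteInjDim hω) i

include hω in
lemma finite_ext (M : Type u) [AddCommGroup M] [Module A M] [Module.Finite A M] (i : ℤ) :
    Module.Finite A (Dual.inD A M ⟶ ω⟦i⟧) :=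
  finite_hom hω _ (fun j => Groth.Agent.Helper3.RegDual.finite_HD_single M j) i

include hω in
/-- Nakayama step: if `x` lies in the Jacobson radical, is a nonzerodivisor on the finite module
`M`, and `Ext^{i+1}(M/xM, ω) = 0`, then `Ext^i(M, ω) = 0`. -/
lemma van_of_regular (M : Type u) [AddCommGroup M] [Module A M] [Module.Finite A M] (x : A)
    (hx : x ∈ Ideal.jacobson (⊥ : Ideal A)) (hreg : IsSMulRegular M x) (i : ℤ)
    (h : Van ω (i + 1) (M ⧸ LinearMap.range (LinearMap.lsmul A M x))) : Van ω i M := by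
  let f : M →ₗ[A] M := LinearMap.lsmul A M x
  have hf : Function.Injective f := hreg
  haveI := finite_ext hω M i
  -- multiplication by `x` is surjective on `E := Ext^i(M, ω)`
  have hsurj : ∀ φ : Dual.inD A M ⟶ ω⟦i⟧, ∃ ψ : Dual.inD A M ⟶ ω⟦i⟧, φ = x • ψ := by
    intro φ
    obtain ⟨ψ, hψ⟩ := exists_extension ω i f (LinearMap.range f).mkQ hf
      (Submodule.mkQ_surjective _) f.exact_map_mkQ_range h φ
    refine ⟨ψ, ?_⟩
    have h1 : ModuleCat.ofHom f = x • 𝟙 (ModuleCat.of A M) := by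
      ext m
      simp [f]
    rw [hψ, h1, Functor.map_smul, CategoryTheory.Functor.map_id, Linear.smul_comp,
      Category.id_comp]
  have htop : (⊤ : Submodule A (Dual.inD A M ⟶ ω⟦i⟧)) = ⊥ := by
    apply Submodule.eq_bot_of_le_smul_of_le_jacobson_bot (Ideal.span {x}) ⊤
      (Module.Finite.fg_top)
    · intro φ _
      obtain ⟨ψ, rfl⟩ := hsurj φ
      exact Submodule.smul_mem_smul (Ideal.subset_span rfl) Submodule.mem_top
    · rw [Ideal.span_le]
      intro y hy
      rw [Set.mem_singleton_iff.1 hy]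
      exact hx
  exact ⟨fun φ ψ => by
    have h1 : φ ∈ (⊤ : Submodule A (Dual.inD A M ⟶ ω⟦i⟧)) := Submodule.mem_top
    have h2 : ψ ∈ (⊤ : Submodule A (Dual.inD A M ⟶ ω⟦i⟧)) := Submodule.mem_top
    rw [htop, Submodule.mem_bot] at h1 h2
    rw [h1, h2]⟩

end Dualizing

section Local

variable [IsLocalRing A] [IsNoetherianRing A] {ω : Dual.D A} (hω : Dual.IsDualizing A ω)
  (hn : Dual.IsNormalized A ω)

include hn in
lemma van_residue (i : ℤ) (hi : i ≠ 0) : Van ω i (A ⧸ IsLocalRing.maximalIdeal A) := hn i hi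

/-- a prime different from the maximal ideal misses some element of the maximal ideal -/
lemma exists_mem_maximal_not_mem (p : Ideal A) [p.IsPrime] (hp : p ≠ IsLocalRing.maximalIdeal A) :
    ∃ x ∈ IsLocalRing.maximalIdeal A, x ∉ p := by
  by_contra hcon
  push Not at hcon
  have h1 : IsLocalRing.maximalIdeal A ≤ p := fun x hx => hcon x hx
  have h2 : p ≤ IsLocalRing.maximalIdeal A := IsLocalRing.le_maximalIdeal (Ideal.IsPrime.ne_top ‹_›)
  exact hp (le_antisymm h2 h1)

lemma isSMulRegular_quotient_prime (p : Ideal A) [p.IsPrime] (x : A) (hx : x ∉ p) :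
    IsSMulRegular (A ⧸ p) x := by
  intro a b hab
  obtain ⟨a, rfl⟩ := Ideal.Quotient.mk_surjective a
  obtain ⟨b, rfl⟩ := Ideal.Quotient.mk_surjective b
  have h1 : Ideal.Quotient.mk p (x * a) = Ideal.Quotient.mk p (x * b) := by
    simpa [Algebra.smul_def] using hab
  rw [Ideal.Quotient.eq, ← mul_sub] at h1
  rw [Ideal.Quotient.eq]
  exact (Ideal.IsPrime.mem_or_mem ‹_› h1).resolve_left hx

lemma le_annihilator_quot_range (M : Type u) [AddCommGroup M] [Module A M] (x : A) :
    Module.annihilator A M ⊔ Ideal.span {x} ≤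
      Module.annihilator A (M ⧸ LinearMap.range (LinearMap.lsmul A M x)) := by
  rw [sup_le_iff]
  constructor
  · exact LinearMap.annihilator_le_of_surjective _ (Submodule.mkQ_surjective _)
  · rw [Ideal.span_le]
    intro y hy
    rw [Set.mem_singleton_iff.1 hy]
    show x ∈ Module.annihilator A _
    rw [Module.mem_annihilator]
    intro q
    obtain ⟨m, rfl⟩ := Submodule.mkQ_surjective _ q
    rw [← map_smul, Submodule.mkQ_apply, Submodule.Quotient.mk_eq_zero]
    exact ⟨m, rfl⟩

include hω hn in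
/-- for every finite module `M` and every `i > 0`, `Ext^i(M, ω) = 0` -/
theorem van_pos_of_annihilated (I : Ideal A) :
    ∀ (M : Type u) [AddCommGroup M] [Module A M] [Module.Finite A M],
      I ≤ Module.annihilator A M → ∀ i : ℤ, 0 < i → Van ω i M := by
  induction I using IsNoetherian.induction with
  | hgt I IH =>
    intro M _ _ hM
    induction hM using IsNoetherianRing.induction_on_isQuotientEquivQuotientPrime A with
    | subsingleton N =>
      intro _ i _
      exact van_of_subsingleton ω i N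
    | quotient N p e =>
      intro hI i hi
      refine van_of_equiv ω i e.symm ?_
      have hIp : I ≤ p.asIdeal := by
        rw [e.annihilator_eq, Ideal.annihilator_quotient] at hI
        exact hI
      rcases lt_or_eq_of_le hIp with hlt | heq
      · exact IH p.asIdeal hlt (A ⧸ p.asIdeal) (by rw [Ideal.annihilator_quotient]) i hi
      · by_cases hpm : p.asIdeal = IsLocalRing.maximalIdeal A
        · rw [hpm]
          exact van_residue hn i hi.ne'
        · haveI := p.isPrime
          obtain ⟨x, hxm, hxp⟩ := exists_mem_maximal_not_mem p.asIdeal hpm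
          have hxj : x ∈ Ideal.jacobson (⊥ : Ideal A) := by
            rw [IsLocalRing.jacobson_eq_maximalIdeal _ bot_ne_top]
            exact hxm
          apply van_of_regular hω (A ⧸ p.asIdeal) x hxj
            (isSMulRegular_quotient_prime p.asIdeal x hxp) i
          have hJ : I < p.asIdeal ⊔ Ideal.span {x} := by
            rw [heq]
            refine lt_of_le_of_ne le_sup_left ?_
            intro h
            apply hxp
            rw [h]
            exact Ideal.mem_sup_right (Ideal.subset_span rfl)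
          refine IH _ hJ _ ?_ (i + 1) (by omega)
          have := le_annihilator_quot_range (A ⧸ p.asIdeal) x
          rwa [Ideal.annihilator_quotient] at this
    | exact N₁ N₂ N₃ f g hf hg hfg h₁ h₃ =>
      intro hI i hi
      exact van_of_exact ω i f g hf hg hfg
        (h₁ (hI.trans (f.annihilator_le_of_injective hf)) i hi)
        (h₃ (hI.trans (g.annihilator_le_of_surjective hg)) i hi)

include hω hn in
theorem van_pos (M : Type u) [AddCommGroup M] [Module A M] [Module.Finite A M] (i : ℤ)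
    (hi : 0 < i) : Van ω i M :=
  van_pos_of_annihilated hω hn ⊥ M bot_le i hi

end Local

section Devissage

open Groth.Agent.Helper3.HomFin Groth.Agent.Helper3.RegGlDim

variable [IsNoetherianRing A] (ω : Dual.D A)

/-- maps from an object of the heart (shifted to degree `j`) with finite cohomology -/
lemma subsingleton_hom_of_heart (X : Dual.D A) (j : ℤ) [X.IsGE j] [X.IsLE j]
    (hX : Module.Finite A (Dual.HD A X j)) (i : ℤ)
    (hvan : ∀ (M : Type u) [AddCommGroup M] [Module A M] [Module.Finite A M], Van ω (i + j) M) :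
    Subsingleton (X ⟶ ω⟦i⟧) := by
  obtain ⟨Y, ⟨e⟩⟩ := exists_iso_singleFunctor_obj_of_isGE_of_isLE X j
  haveI hY : Module.Finite A Y := by
    haveI := hX
    exact Module.Finite.equiv ((DerivedCategory.homologyFunctor (ModuleCat.{u} A) j).mapIso e ≪≫
      (DerivedCategory.singleFunctorCompHomologyFunctorIso (ModuleCat.{u} A) j).app Y).toLinearEquiv
  let e' : ((DerivedCategory.singleFunctor (ModuleCat.{u} A) 0).obj Y)⟦(-j : ℤ)⟧ ≅
      (DerivedCategory.singleFunctor (ModuleCat.{u} A) j).obj Y :=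
    ((DerivedCategory.singleFunctors (ModuleCat.{u} A)).shiftIso (-j) j 0 (by lia)).app Y
  have h1 : Subsingleton ((DerivedCategory.singleFunctor (ModuleCat.{u} A) 0).obj Y ⟶
      ω⟦i + j⟧) := hvan Y
  have h2 : Subsingleton ((DerivedCategory.singleFunctor (ModuleCat.{u} A) 0).obj Y ⟶
      (ω⟦i⟧)⟦j⟧) := by
    let ε : ω⟦i + j⟧ ≅ (ω⟦i⟧)⟦j⟧ := (shiftFunctorAdd' (Dual.D A) i j (i + j) rfl).app ω
    exact ⟨fun a b => by
      have := h1.elim (a ≫ ε.inv) (b ≫ ε.inv)
      exact (cancel_mono ε.inv).1 this⟩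
  have h3 : Subsingleton
      (((DerivedCategory.singleFunctor (ModuleCat.{u} A) 0).obj Y)⟦(-j : ℤ)⟧ ⟶ ω⟦i⟧) :=
    @Equiv.subsingleton _ _ ((shiftEquiv (Dual.D A) j).symm.toAdjunction.homEquiv _ _) h2
  have key : ∀ f : X ⟶ ω⟦i⟧, f = 0 := by
    intro f
    have hf : (e'.hom ≫ e.inv) ≫ f = 0 := h3.elim _ _
    have : IsIso (e'.hom ≫ e.inv) := inferInstance
    exact (cancel_epi (e'.hom ≫ e.inv)).1 (hf.trans comp_zero.symm)
  exact ⟨fun f g => by rw [key f, key g]⟩

/-- dévissage: if `Ext^k(M, ω) = 0` for all finite modules `M` and all `k ≥ i + c`, then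
`Hom(N, ω[i]) = 0` for `N ∈ D^{[c, c+n-1]}` with finite cohomology -/
theorem subsingleton_hom_of_bounded (i c : ℤ)
    (hvan : ∀ (k : ℤ), i + c ≤ k → ∀ (M : Type u) [AddCommGroup M] [Module A M]
      [Module.Finite A M], Van ω k M) (n : ℕ) :
    ∀ (N : Dual.D A) [N.IsGE c] [N.IsLE (c + n - 1)]
      (_ : ∀ j : ℤ, Module.Finite A (Dual.HD A N j)), Subsingleton (N ⟶ ω⟦i⟧) := by
  induction n with
  | zero =>
    intro N _ _ _
    have hz : IsZero N := (TStructure.t).isZero N (c + (0 : ℕ) - 1) c (by simp)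
    exact ⟨fun f g => hz.eq_of_src f g⟩
  | succ n ih =>
    intro N _ _ hfin
    let t : TStructure (Dual.D A) := TStructure.t
    let b : ℤ := c + n
    have hT := t.triangleLTGE_distinguished b N
    haveI hA1 : ((t.truncLT b).obj N).IsLE (c + n - 1) :=
      inferInstanceAs (t.IsLE ((t.truncLT b).obj N) (b - 1))
    haveI hA2 : ((t.truncLT b).obj N).IsGE c :=
      inferInstanceAs (t.IsGE ((t.truncLT b).obj N) c)
    haveI hB1 : ((t.truncGE b).obj N).IsGE b := inferInstanceAs (t.IsGE ((t.truncGE b).obj N) b)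
    haveI hNb : t.IsLE N b := t.isLE_of_le N (c + (n + 1 : ℕ) - 1) b (by simp only [b]; push_cast; omega)
    haveI hB2 : ((t.truncGE b).obj N).IsLE b := inferInstanceAs (t.IsLE ((t.truncGE b).obj N) b)
    have h0 : ∀ Z : ModuleCat.{u} A, IsZero Z → Pfin Z := fun Z hZ => by
      haveI := ModuleCat.subsingleton_of_isZero hZ
      exact (inferInstance : Module.Finite A Z)
    haveI h1 : Subsingleton ((t.truncLT b).obj N ⟶ ω⟦i⟧) :=
      ih _ (fun j => _root_.Helper5.DCat.prop_homology_truncLT Pfin N b hfin h0 j)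
    haveI h3 : Subsingleton ((t.truncGE b).obj N ⟶ ω⟦i⟧) :=
      subsingleton_hom_of_heart ω _ b
        (_root_.Helper5.DCat.prop_homology_truncGE Pfin N b hfin h0 b) i
        (fun M _ _ _ => hvan (i + b) (by simp only [b]; omega) M)
    have key : ∀ f : N ⟶ ω⟦i⟧, f = 0 := by
      intro f
      have h0 : ((t.triangleLTGE b).obj N).mor₁ ≫ f = 0 := h1.elim _ _
      obtain ⟨g, hg⟩ := Triangle.yoneda_exact₂ _ hT f h0
      have hg0 : g = 0 := h3.elim _ _
      rw [hg, hg0, comp_zero]
      rfl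
    exact ⟨fun f g => by rw [key f, key g]⟩

end Devissage

section Main

open Groth.Agent.Helper3.RegGlDim

theorem main_S19132 (A : Type u) [CommRing A] [IsLocalRing A] [IsNoetherianRing A]
    (ω : Dual.D A) (hω : Dual.IsDualizing A ω) (hn : Dual.IsNormalized A ω)
    (N : Dual.D A) (hfin : ∀ i : ℤ, Module.Finite A (Dual.HD A N i))
    (b : ℤ) (hb : ∀ i : ℤ, b < i → Subsingleton (Dual.HD A N i))
    (hge : ∀ i : ℤ, i < 0 → Subsingleton (Dual.HD A N i))
    (i : ℤ) (hi : 0 < i) :
    Subsingleton (N ⟶ ω⟦i⟧) := by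
  haveI : N.IsGE 0 := isGE_of_subsingleton N 0 hge
  haveI : N.IsLE b := isLE_of_subsingleton N b hb
  haveI : N.IsLE (0 + ((b + 1).toNat : ℕ) - 1) := (TStructure.t).isLE_of_le N b _ (by omega)
  exact subsingleton_hom_of_bounded ω i 0
    (fun k hk M _ _ _ => van_pos hω hn M k (by omega)) (b + 1).toNat N hfin

end Main

end Groth.Agent.Helper3.DualCx
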