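import Mathlib
import Groth.Prelude.Def_Wider
import Groth.Prelude.Def_DRing2
import Groth.Agent.Lib.Helper3.DualCx

/-!
# Dualizing complexes: the range and the support of `Ext^i(M, ω)`
-/

set_option autoImplicit false
universe u
open CategoryTheory CategoryTheory.Limits Pretriangulated Triangulated

attribute [local instance] HasDerivedCategory.standard

namespace Groth.Agent.Helper3.DualCx

open DerivedCategory Pointwise

section Supp

variable {R : Type*} [CommRing R] {M N P : Type*} [AddCommGroup M] [Module R M]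
  [AddCommGroup N] [Module R N] [AddCommGroup P] [Module R P]

lemma support_subset_of_exact (f : M →ₗ[R] N) (g : N →ₗ[R] P) (h : Function.Exact f g) :
    Module.support R N ⊆ Module.support R M ∪ Module.support R P := by
  intro x
  contrapose
  simp only [Set.mem_union, not_or, and_imp, Module.notMem_support_iff']
  intro H₁ H₂ m
  obtain ⟨r, hr, e₁⟩ := H₂ (g m)
  rw [← map_smul, h] at e₁
  obtain ⟨m', hm'⟩ := e₁
  obtain ⟨s, hs, e₁⟩ := H₁ m'
  exact ⟨_, x.asIdeal.primeCompl.mul_mem hs hr, by rw [mul_smul, ← hm', ← map_smul, e₁, map_zero]⟩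

lemma supportDim_le_of_exact (f : M →ₗ[R] N) (g : N →ₗ[R] P) (h : Function.Exact f g)
    (n : WithBot ℕ∞) (hM : Module.supportDim R M ≤ n) (hP : Module.supportDim R P ≤ n) :
    Module.supportDim R N ≤ n := by
  unfold Module.supportDim at *
  rw [Order.krullDim] at *
  refine iSup_le fun p => ?_
  have hsub := support_subset_of_exact f g h
  have hall : ∀ (S : Set (PrimeSpectrum R)), (∀ {a b : PrimeSpectrum R}, a ≤ b → a ∈ S → b ∈ S) →
      (p.head).1 ∈ S → ((p.length : ℕ) : WithBot ℕ∞) ≤ ⨆ q : LTSeries S, (q.length : WithBot ℕ∞) := by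
    intro S hS hhead
    let q : LTSeries S :=
      { length := p.length
        toFun := fun i => ⟨(p i).1, hS (show (p.head).1 ≤ (p i).1 from
          (p.monotone (Fin.zero_le i))) hhead⟩
        step := fun i => p.step i }
    exact le_iSup (fun q : LTSeries S => (q.length : WithBot ℕ∞)) q
  rcases hsub (p.head).2 with h1 | h1
  · exact (hall _ (fun hab ha => Module.mem_support_mono hab ha) h1).trans hM
  · exact (hall _ (fun hab ha => Module.mem_support_mono hab ha) h1).trans hP

lemma supportDim_le_zero_of_le_annihilator [IsLocalRing R]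
    (h : IsLocalRing.maximalIdeal R ≤ Module.annihilator R M) : Module.supportDim R M ≤ 0 := by
  unfold Module.supportDim
  haveI : Subsingleton (Module.support R M) := by
    have key : ∀ a : Module.support R M, a.1.asIdeal = IsLocalRing.maximalIdeal R := fun a =>
      le_antisymm (IsLocalRing.le_maximalIdeal a.1.isPrime.ne_top)
        (h.trans (Module.annihilator_le_of_mem_support a.2))
    refine ⟨fun a b => ?_⟩
    apply Subtype.ext
    apply PrimeSpectrum.ext
    rw [key a, key b]
  exact Order.krullDim_nonpos_of_subsingleton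

end Supp

section ExtSeq

variable {A : Type u} [CommRing A] (Y : Dual.D A)

/-- the contravariant functoriality of `Hom(M[0], Y)` in the module `M`, as a linear map -/
noncomputable def extMap {M N : Type u} [AddCommGroup M] [Module A M] [AddCommGroup N]
    [Module A N] (f : M →ₗ[A] N) : (Dual.inD A N ⟶ Y) →ₗ[A] (Dual.inD A M ⟶ Y) :=
  Linear.leftComp A Y
    ((DerivedCategory.singleFunctor (ModuleCat.{u} A) 0).map (ModuleCat.ofHom f))

lemma extMap_apply {M N : Type u} [AddCommGroup M] [Module A M] [AddCommGroup N]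
    [Module A N] (f : M →ₗ[A] N) (φ : Dual.inD A N ⟶ Y) :
    extMap Y f φ =
      (DerivedCategory.singleFunctor (ModuleCat.{u} A) 0).map (ModuleCat.ofHom f) ≫ φ := rfl

lemma extMap_injective_of_equiv {M N : Type u} [AddCommGroup M] [Module A M] [AddCommGroup N]
    [Module A N] (e : M ≃ₗ[A] N) : Function.Injective (extMap Y e.toLinearMap) := by
  intro φ ψ h
  simp only [extMap_apply] at h
  have : IsIso ((DerivedCategory.singleFunctor (ModuleCat.{u} A) 0).map
      (ModuleCat.ofHom e.toLinearMap)) := by
    have : IsIso (ModuleCat.ofHom e.toLinearMap) :=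
      (inferInstance : IsIso e.toModuleIso.hom)
    infer_instance
  exact (cancel_epi _).1 h

lemma extMap_lsmul {M : Type u} [AddCommGroup M] [Module A M] (x : A)
    (φ : Dual.inD A M ⟶ Y) : extMap Y (LinearMap.lsmul A M x) φ = x • φ := by
  have h1 : ModuleCat.ofHom (LinearMap.lsmul A M x) = x • 𝟙 (ModuleCat.of A M) := by
    ext m
    simp
  rw [extMap_apply, h1, Functor.map_smul, CategoryTheory.Functor.map_id, Linear.smul_comp,
    Category.id_comp]

/-- the annihilator of `M` kills `Hom(M[0], Y)` -/
lemma annihilator_le_annihilator_ext (M : Type u) [AddCommGroup M] [Module A M] :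
    Module.annihilator A M ≤ Module.annihilator A (Dual.inD A M ⟶ Y) := by
  intro a ha
  rw [Module.mem_annihilator] at ha ⊢
  intro φ
  rw [← extMap_lsmul]
  have h1 : LinearMap.lsmul A M a = 0 := by
    ext m
    simpa using ha m
  rw [extMap_apply, h1]
  have : ModuleCat.ofHom (0 : M →ₗ[A] M) = 0 := rfl
  rw [this, Functor.map_zero, zero_comp]

lemma exact_extMap {N₁ N₂ N₃ : Type u} [AddCommGroup N₁] [Module A N₁] [AddCommGroup N₂]
    [Module A N₂] [AddCommGroup N₃] [Module A N₃] (f : N₁ →ₗ[A] N₂) (g : N₂ →ₗ[A] N₃)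
    (hf : Function.Injective f) (hg : Function.Surjective g) (hfg : Function.Exact f g) :
    Function.Exact (extMap Y g) (extMap Y f) := by
  have hS := shortExact_of_exact f g hf hg hfg
  have hT := hS.singleTriangle_distinguished
  intro φ
  constructor
  · intro h0
    obtain ⟨ψ, hψ⟩ := Triangle.yoneda_exact₂ _ hT φ h0
    exact ⟨ψ, hψ.symm⟩
  · rintro ⟨ψ, rfl⟩
    simp only [extMap_apply]
    have h1 := comp_distTriang_mor_zero₁₂ _ hT
    exact (Category.assoc _ _ _).symm.trans ((congrArg (· ≫ ψ) h1).trans zero_comp)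

end ExtSeq

section Conn

variable {A : Type u} [CommRing A]

/-- `Hom(X[-1], Y[i])` embeds linearly into `Hom(X, Y[i+1])` -/
lemma exists_shift_injective (X Y : Dual.D A) (i : ℤ) :
    ∃ Φ : (X⟦(-1 : ℤ)⟧ ⟶ Y⟦i⟧) →ₗ[A] (X ⟶ Y⟦i + 1⟧), Function.Injective Φ := by
  let iso1 : (X⟦(-1 : ℤ)⟧)⟦(1 : ℤ)⟧ ≅ X := shiftNegShift X (1 : ℤ)
  let iso2 : (Y⟦i⟧)⟦(1 : ℤ)⟧ ≅ Y⟦i + 1⟧ := ((shiftFunctorAdd' (Dual.D A) i 1 (i + 1) rfl).app Y).symm
  refine ⟨(Linear.rightComp A X iso2.hom).comp ((Linear.leftComp A _ iso1.inv).comp
    ((shiftFunctor (Dual.D A) (1 : ℤ)).mapLinearMap A)), ?_⟩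
  intro φ ψ h
  simp only [LinearMap.coe_comp, Function.comp_apply, Linear.rightComp_apply,
    Linear.leftComp_apply, Functor.mapLinearMap_apply] at h
  rw [cancel_mono, cancel_epi] at h
  exact (shiftFunctor (Dual.D A) (1 : ℤ)).map_injective h

variable (ω : Dual.D A)

/-- for an `M`-regular element `x`: `Ext^i(M, ω) / x` embeds into `Ext^{i+1}(M/xM, ω)` -/
lemma exists_quotSMulTop_injective (M : Type u) [AddCommGroup M] [Module A M] (x : A)
    (hreg : IsSMulRegular M x) (i : ℤ) :
    ∃ Ψ : QuotSMulTop x (Dual.inD A M ⟶ ω⟦i⟧) →ₗ[A]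
      (Dual.inD A (QuotSMulTop x M) ⟶ ω⟦i + 1⟧), Function.Injective Ψ := by
  let f : M →ₗ[A] M := LinearMap.lsmul A M x
  let g : M →ₗ[A] QuotSMulTop x M := (x • (⊤ : Submodule A M)).mkQ
  have hfg : Function.Exact f g := LinearMap.exact_lsmul_mkQ_smul_top M x
  have hf : Function.Injective f := hreg
  have hg : Function.Surjective g := Submodule.mkQ_surjective _
  have hS := shortExact_of_exact f g hf hg hfg
  have hT := inv_rot_of_distTriang _ hS.singleTriangle_distinguished
  let del : (Dual.inD A M ⟶ ω⟦i⟧) →ₗ[A] ((Dual.inD A (QuotSMulTop x M))⟦(-1 : ℤ)⟧ ⟶ ω⟦i⟧) :=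
    Linear.leftComp A (ω⟦i⟧) hS.singleTriangle.invRotate.mor₁
  have hker : LinearMap.ker del = x • (⊤ : Submodule A (Dual.inD A M ⟶ ω⟦i⟧)) := by
    ext φ
    rw [LinearMap.mem_ker, Submodule.mem_smul_pointwise_iff_exists]
    constructor
    · intro h0
      obtain ⟨ψ, hψ⟩ := Triangle.yoneda_exact₂ _ hT φ h0
      refine ⟨ψ, Submodule.mem_top, ?_⟩
      have := extMap_lsmul (ω⟦i⟧) x ψ
      rw [← this]
      exact hψ.symm
    · rintro ⟨ψ, -, rfl⟩
      rw [← extMap_lsmul (ω⟦i⟧) x ψ]
      have h1 := comp_distTriang_mor_zero₁₂ _ hT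
      exact (Category.assoc _ _ _).symm.trans ((congrArg (· ≫ ψ) h1).trans zero_comp)
  obtain ⟨Φ, hΦ⟩ := exists_shift_injective (Dual.inD A (QuotSMulTop x M)) ω i
  refine ⟨Φ.comp ((x • (⊤ : Submodule A (Dual.inD A M ⟶ ω⟦i⟧))).liftQ del (le_of_eq hker.symm)), ?_⟩
  rw [LinearMap.coe_comp]
  refine hΦ.comp ?_
  rw [← LinearMap.ker_eq_bot, Submodule.ker_liftQ_eq_bot]
  exact le_of_eq hker

end Conn

section Local2

variable {A : Type u} [CommRing A] [IsLocalRing A] [IsNoetherianRing A] {ω : Dual.D A}
  (hω : Dual.IsDualizing A ω) (hn : Dual.IsNormalized A ω)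

include hω in
lemma van_of_regular' (M : Type u) [AddCommGroup M] [Module A M] [Module.Finite A M] (x : A)
    (hx : x ∈ IsLocalRing.maximalIdeal A) (hreg : IsSMulRegular M x) (i : ℤ)
    (h : Van ω (i + 1) (QuotSMulTop x M)) : Van ω i M := by
  have heq : LinearMap.range (LinearMap.lsmul A M x) = x • (⊤ : Submodule A M) := by
    ext m
    simp [Submodule.mem_smul_pointwise_iff_exists]
  have hxj : x ∈ Ideal.jacobson (⊥ : Ideal A) := by
    rw [IsLocalRing.jacobson_eq_maximalIdeal _ bot_ne_top]
    exact hx
  exact van_of_regular hω M x hxj hreg i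
    (van_of_equiv ω (i + 1) (Submodule.quotEquivOfEq _ _ heq.symm) h)

lemma le_annihilator_quotSMulTop (M : Type u) [AddCommGroup M] [Module A M] (x : A) :
    Module.annihilator A M ⊔ Ideal.span {x} ≤ Module.annihilator A (QuotSMulTop x M) := by
  rw [sup_le_iff]
  constructor
  · exact LinearMap.annihilator_le_of_surjective _ (Submodule.mkQ_surjective _)
  · rw [Ideal.span_le]
    intro y hy
    rw [Set.mem_singleton_iff.1 hy]
    show x ∈ Module.annihilator A _
    rw [Module.mem_annihilator]
    intro q
    obtain ⟨m, rfl⟩ := Submodule.mkQ_surjective _ q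
    rw [← map_smul, Submodule.mkQ_apply, Submodule.Quotient.mk_eq_zero]
    exact Submodule.smul_mem_pointwise_smul m x ⊤ Submodule.mem_top

lemma lt_sup_span (p : Ideal A) (x : A) (hxp : x ∉ p) : p < p ⊔ Ideal.span {x} := by
  refine lt_of_le_of_ne le_sup_left ?_
  intro h
  apply hxp
  rw [h]
  exact Ideal.mem_sup_right (Ideal.subset_span rfl)

include hω hn in
/-- `Ext^i(M, ω) = 0` for `i < - dim Supp M` -/
theorem van_lt_of_annihilated (I : Ideal A) :
    ∀ (M : Type u) [AddCommGroup M] [Module A M] [Module.Finite A M],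
      I ≤ Module.annihilator A M → ∀ d : ℕ, Module.supportDim A M ≤ d →
        ∀ i : ℤ, i < -(d : ℤ) → Van ω i M := by
  induction I using IsNoetherian.induction with
  | hgt I IH =>
    intro M _ _ hM
    induction hM using IsNoetherianRing.induction_on_isQuotientEquivQuotientPrime A with
    | subsingleton N =>
      intro _ d _ i _
      exact van_of_subsingleton ω i N
    | quotient N p e =>
      intro hI d hd i hi
      refine van_of_equiv ω i e.symm ?_
      have hIp : I ≤ p.asIdeal := by
        rw [e.annihilator_eq, Ideal.annihilator_quotient] at hI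
        exact hI
      have hd' : Module.supportDim A (A ⧸ p.asIdeal) ≤ d := by
        rw [← Module.supportDim_eq_of_equiv e]
        exact hd
      rcases lt_or_eq_of_le hIp with hlt | heq
      · exact IH p.asIdeal hlt (A ⧸ p.asIdeal) (by rw [Ideal.annihilator_quotient]) d hd' i hi
      · by_cases hpm : p.asIdeal = IsLocalRing.maximalIdeal A
        · rw [hpm]
          exact van_residue hn i (by omega)
        · haveI := p.isPrime
          obtain ⟨x, hxm, hxp⟩ := exists_mem_maximal_not_mem p.asIdeal hpm
          have hreg := isSMulRegular_quotient_prime p.asIdeal x hxp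
          apply van_of_regular' hω (A ⧸ p.asIdeal) x hxm hreg i
          have hJ : I < p.asIdeal ⊔ Ideal.span {x} := heq ▸ lt_sup_span p.asIdeal x hxp
          have hann : p.asIdeal ⊔ Ideal.span {x} ≤
              Module.annihilator A (QuotSMulTop x (A ⧸ p.asIdeal)) := by
            have := le_annihilator_quotSMulTop (A ⧸ p.asIdeal) x
            rwa [Ideal.annihilator_quotient] at this
          have hdim : Module.supportDim A (QuotSMulTop x (A ⧸ p.asIdeal)) + 1 ≤ d :=
            (Module.supportDim_quotSMulTop_succ_eq_supportDim hreg hxm).le.trans hd'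
          by_cases hbot : Module.supportDim A (QuotSMulTop x (A ⧸ p.asIdeal)) = ⊥
          · haveI : Subsingleton (QuotSMulTop x (A ⧸ p.asIdeal)) :=
              (Module.supportDim_eq_bot_iff_subsingleton A _).1 hbot
            exact van_of_subsingleton ω (i + 1) _
          · obtain ⟨n, hQ⟩ := WithBot.ne_bot_iff_exists.1 hbot
            rw [← hQ] at hdim
            have hn1 : n + 1 ≤ (d : ℕ∞) := by
              have h1 : ((n + 1 : ℕ∞) : WithBot ℕ∞) ≤ (((d : ℕ) : ℕ∞) : WithBot ℕ∞) := by
                push_cast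
                exact hdim
              exact WithBot.coe_le_coe.1 h1
            have hnd : n ≠ ⊤ := by
              rintro rfl
              simp at hn1
            lift n to ℕ using hnd
            have hn2 : n + 1 ≤ d := by exact_mod_cast hn1
            refine IH _ hJ _ hann n (by rw [← hQ]; rfl) (i + 1) ?_
            omega
    | exact N₁ N₂ N₃ f g hf hg hfg h₁ h₃ =>
      intro hI d hd i hi
      exact van_of_exact ω i f g hf hg hfg
        (h₁ (hI.trans (f.annihilator_le_of_injective hf)) d
          ((Module.supportDim_le_of_injective f hf).trans hd) i hi)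
        (h₃ (hI.trans (g.annihilator_le_of_surjective hg)) d
          ((Module.supportDim_le_of_surjective g hg).trans hd) i hi)

include hω hn in
/-- `dim Supp Ext^i(M, ω) ≤ -i` -/
theorem supportDim_ext_le_of_annihilated (I : Ideal A) :
    ∀ (M : Type u) [AddCommGroup M] [Module A M] [Module.Finite A M],
      I ≤ Module.annihilator A M → ∀ i : ℤ,
        Module.supportDim A (Dual.inD A M ⟶ ω⟦i⟧) ≤ ((-i).toNat : WithBot ℕ∞) := by
  induction I using IsNoetherian.induction with
  | hgt I IH =>
    intro M _ _ hM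
    induction hM using IsNoetherianRing.induction_on_isQuotientEquivQuotientPrime A with
    | subsingleton N =>
      intro _ i
      haveI : Subsingleton (Dual.inD A N ⟶ ω⟦i⟧) := van_of_subsingleton ω i N
      rw [Module.supportDim_eq_bot_of_subsingleton]
      exact bot_le
    | quotient N p e =>
      intro hI i
      refine (Module.supportDim_le_of_injective (extMap (ω⟦i⟧) e.symm.toLinearMap)
        (extMap_injective_of_equiv (ω⟦i⟧) e.symm)).trans ?_
      have hIp : I ≤ p.asIdeal := by
        rw [e.annihilator_eq, Ideal.annihilator_quotient] at hI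
        exact hI
      rcases lt_or_eq_of_le hIp with hlt | heq
      · exact IH p.asIdeal hlt (A ⧸ p.asIdeal) (by rw [Ideal.annihilator_quotient]) i
      · by_cases hpm : p.asIdeal = IsLocalRing.maximalIdeal A
        · refine (supportDim_le_zero_of_le_annihilator ?_).trans (by positivity)
          refine le_trans ?_ (annihilator_le_annihilator_ext (ω⟦i⟧) (A ⧸ p.asIdeal))
          rw [Ideal.annihilator_quotient, hpm]
        · haveI := p.isPrime
          obtain ⟨x, hxm, hxp⟩ := exists_mem_maximal_not_mem p.asIdeal hpm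
          have hreg := isSMulRegular_quotient_prime p.asIdeal x hxp
          have hJ : I < p.asIdeal ⊔ Ideal.span {x} := heq ▸ lt_sup_span p.asIdeal x hxp
          have hann : p.asIdeal ⊔ Ideal.span {x} ≤
              Module.annihilator A (QuotSMulTop x (A ⧸ p.asIdeal)) := by
            have := le_annihilator_quotSMulTop (A ⧸ p.asIdeal) x
            rwa [Ideal.annihilator_quotient] at this
          by_cases hi : 0 ≤ i
          · -- `Ext^i(A/p, ω) = 0`
            haveI : Subsingleton (Dual.inD A (A ⧸ p.asIdeal) ⟶ ω⟦i⟧) := by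
              rcases eq_or_lt_of_le hi with h0 | hpos
              · subst h0
                exact van_of_regular' hω (A ⧸ p.asIdeal) x hxm hreg 0
                  (van_pos hω hn _ (0 + 1) (by omega))
              · exact van_pos hω hn _ i hpos
            rw [Module.supportDim_eq_bot_of_subsingleton]
            exact bot_le
          · push Not at hi
            haveI := finite_ext hω (A ⧸ p.asIdeal) i
            obtain ⟨Ψ, hΨ⟩ := exists_quotSMulTop_injective ω (A ⧸ p.asIdeal) x hreg i
            have h1 := Module.supportDim_le_supportDim_quotSMulTop_succ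
              (M := (Dual.inD A (A ⧸ p.asIdeal) ⟶ ω⟦i⟧)) hxm
            have h2 := Module.supportDim_le_of_injective Ψ hΨ
            have h3 := IH _ hJ (QuotSMulTop x (A ⧸ p.asIdeal)) hann (i + 1)
            have h4 : (((-(i + 1)).toNat : ℕ) : WithBot ℕ∞) + 1 = (((-i).toNat : ℕ) : WithBot ℕ∞) := by
              have : (-(i + 1)).toNat + 1 = (-i).toNat := by omega
              rw [← this]
              push_cast
              rfl
            calc Module.supportDim A (Dual.inD A (A ⧸ p.asIdeal) ⟶ ω⟦i⟧)
                ≤ Module.supportDim A (QuotSMulTop x (Dual.inD A (A ⧸ p.asIdeal) ⟶ ω⟦i⟧)) + 1 := h1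
              _ ≤ (((-(i + 1)).toNat : ℕ) : WithBot ℕ∞) + 1 := by gcongr; exact h2.trans h3
              _ = _ := h4
    | exact N₁ N₂ N₃ f g hf hg hfg h₁ h₃ =>
      intro hI i
      exact supportDim_le_of_exact (extMap (ω⟦i⟧) g) (extMap (ω⟦i⟧) f)
        (exact_extMap (ω⟦i⟧) f g hf hg hfg) _
        (h₃ (hI.trans (g.annihilator_le_of_surjective hg)) i)
        (h₁ (hI.trans (f.annihilator_le_of_injective hf)) i)

theorem main_S0366 (A : Type u) [CommRing A] [IsLocalRing A] [IsNoetherianRing A] (ω : Dual.D A)
    (hω : Dual.IsDualizing A ω) (hn : Dual.IsNormalized A ω) (M : Type u) [AddCommGroup M]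
    [Module A M] [Module.Finite A M] (d : ℕ) (hd : Module.supportDim A M = d) (i : ℤ) :
    (Nontrivial (Dual.inD A M ⟶ ω⟦i⟧) → (-(d : ℤ) ≤ i ∧ i ≤ 0)) ∧
      Module.supportDim A (Dual.inD A M ⟶ ω⟦i⟧) ≤ ((-i).toNat : WithBot ℕ∞) := by
  refine ⟨fun hnt => ⟨?_, ?_⟩, supportDim_ext_le_of_annihilated hω hn ⊥ M bot_le i⟩
  · by_contra hcon
    push Not at hcon
    have := van_lt_of_annihilated hω hn ⊥ M bot_le d hd.le i hcon
    exact not_subsingleton _ this
  · by_contra hcon
    push Not at hcon
    have := van_pos hω hn M i hcon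
    exact not_subsingleton _ this

end Local2

end Groth.Agent.Helper3.DualCx
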