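import Mathlib
import Groth.Prelude.Def_Wider
import Groth.Prelude.Def_CAlg
import Groth.Agent.Lib.Helper3.DualCx2
import Groth.Agent.Lib.Helper3.DRGen
import Groth.Agent.Lib.Helper3.CptMod
import Groth.Agent.Lib.Helper5.DRing.Dev
import Groth.Agent.Lib.Helper8.Depth3
import Groth.Agent.Lib.Helper8.Depth6

/-!
# Dualizing complexes: depth via `Ext^i(M, ω)`
-/

set_option autoImplicit false
universe u
open CategoryTheory CategoryTheory.Limits Pretriangulated Triangulated

attribute [local instance] HasDerivedCategory.standard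

namespace Groth.Agent.Helper3.DualCx

open DerivedCategory Pointwise

section UnitHom

variable {A : Type u} [CommRing A]

open Groth.Agent.Helper3.RegGlDim in
/-- maps from `A[0]` to `K` vanish iff `H^0(K)` vanishes -/
lemma subsingleton_hom_unit_iff (K : Dual.D A) :
    Subsingleton (Dual.inD A A ⟶ K) ↔ Subsingleton (Dual.HD A K 0) := by
  let t : TStructure (Dual.D A) := TStructure.t
  let P : Dual.D A := Dual.inD A A
  haveI : Projective (ModuleCat.of A A) := ModuleCat.projective_of_categoryTheory_projective _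
  -- Step 1: pass to `τ_{≥0}`
  let K₁ := (t.truncGE 0).obj K
  have hT := t.triangleLTGE_distinguished 0 K
  haveI hA1 : ((t.truncLT 0).obj K).IsLE (-1) :=
    inferInstanceAs (t.IsLE ((t.truncLT 0).obj K) (0 - 1))
  haveI hK1 : K₁.IsGE 0 := inferInstanceAs (t.IsGE ((t.truncGE 0).obj K) 0)
  have s1 : Subsingleton (P ⟶ K) ↔ Subsingleton (P ⟶ K₁) := by
    haveI h1 : Subsingleton (P ⟶ (t.truncLT 0).obj K) :=
      subsingleton_hom_of_projective (ModuleCat.of A A) _
    haveI hA2 : (((t.truncLT 0).obj K)⟦(1 : ℤ)⟧).IsLE (-2) :=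
      t.isLE_shift ((t.truncLT 0).obj K) (-1) 1 (-2) (by lia)
    haveI hA3 : (((t.truncLT 0).obj K)⟦(1 : ℤ)⟧).IsLE (-1) :=
      t.isLE_of_le _ (-2) (-1) (by lia)
    haveI h2 : Subsingleton (P ⟶ ((t.truncLT 0).obj K)⟦(1 : ℤ)⟧) :=
      subsingleton_hom_of_projective (ModuleCat.of A A) _
    constructor
    · intro hs
      refine ⟨fun f g => ?_⟩
      have key : ∀ f : P ⟶ K₁, f = 0 := by
        intro f
        have h0 : f ≫ ((t.triangleLTGE 0).obj K).mor₃ = 0 := h2.elim _ _
        obtain ⟨g, hg⟩ := Triangle.coyoneda_exact₃ _ hT f h0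
        have hg0 : g = 0 := hs.elim _ _
        rw [hg, hg0, zero_comp]
        rfl
      rw [key f, key g]
    · intro hs
      refine ⟨fun f g => ?_⟩
      have key : ∀ f : P ⟶ K, f = 0 := by
        intro f
        have h0 : f ≫ ((t.triangleLTGE 0).obj K).mor₂ = 0 := hs.elim _ _
        obtain ⟨g, hg⟩ := Triangle.coyoneda_exact₂ _ hT f h0
        have hg0 : g = 0 := h1.elim _ _
        rw [hg, hg0, zero_comp]
        rfl
      rw [key f, key g]
  -- Step 2: pass to `τ_{≤0}`
  let K₂ := (t.truncLE 0).obj K₁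
  haveI hP : t.IsLE P 0 := inferInstanceAs (P.IsLE 0)
  have s2 : Subsingleton (P ⟶ K₁) ↔ Subsingleton (P ⟶ K₂) := by
    constructor
    · intro hs
      refine ⟨fun f g => ?_⟩
      exact t.to_truncLE_obj_ext (hs.elim _ _)
    · intro hs
      refine ⟨fun f g => ?_⟩
      rw [← t.liftTruncLE_ι f 0, ← t.liftTruncLE_ι g 0, hs.elim (t.liftTruncLE f 0)]
  -- Step 3: `K₂` is a module in degree `0`
  haveI hK2a : K₂.IsLE 0 := inferInstanceAs (t.IsLE ((t.truncLE 0).obj K₁) 0)
  haveI hK2b : K₂.IsGE 0 := inferInstanceAs (t.IsGE ((t.truncLT (0 + 1)).obj K₁) 0)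
  obtain ⟨Y, ⟨e⟩⟩ := exists_iso_singleFunctor_obj_of_isGE_of_isLE K₂ 0
  have s3 : Subsingleton (P ⟶ K₂) ↔ Subsingleton Y := by
    let E1 : (P ⟶ K₂) ≃ (P ⟶ (DerivedCategory.singleFunctor (ModuleCat.{u} A) 0).obj Y) :=
      (Iso.homToEquiv e : _)
    let E2 : (ModuleCat.of A A ⟶ Y) ≃
        (P ⟶ (DerivedCategory.singleFunctor (ModuleCat.{u} A) 0).obj Y) :=
      (Functor.FullyFaithful.ofFullyFaithful
        (DerivedCategory.singleFunctor (ModuleCat.{u} A) 0)).homEquiv
    let E3 : (ModuleCat.of A A ⟶ Y) ≃ Y := (CptMod.homEquiv A Y).toEquiv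
    exact (E1.trans (E2.symm.trans E3)).subsingleton_congr
  -- Step 4: homology
  have s4 : Subsingleton (Dual.HD A K 0) ↔ Subsingleton Y := by
    have i1 : IsIso ((DerivedCategory.homologyFunctor (ModuleCat.{u} A) 0).map
        ((t.triangleLTGE 0).obj K).mor₂) :=
      Groth.Agent.Helper5.Devissage.isIso_homologyMap_mor₂ _ hT 0
        (isZero_of_isLE ((t.truncLT 0).obj K) (-1) 0 (by lia))
        (isZero_of_isLE ((t.truncLT 0).obj K) (-1) (0 + 1) (by lia))
    have hT' := t.triangleLEGT_distinguished 0 K₁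
    haveI hB : ((t.truncGT 0).obj K₁).IsGE 1 :=
      inferInstanceAs (t.IsGE ((t.truncGT 0).obj K₁) (0 + 1))
    have i2 : IsIso ((DerivedCategory.homologyFunctor (ModuleCat.{u} A) 0).map
        ((t.triangleLEGT 0).obj K₁).mor₁) :=
      Groth.Agent.Helper5.Devissage.isIso_homologyMap_mor₁ _ hT' 0
        (isZero_of_isGE ((t.truncGT 0).obj K₁) 1 (0 - 1) (by lia))
        (isZero_of_isGE ((t.truncGT 0).obj K₁) 1 0 (by lia))
    let ι : (DerivedCategory.homologyFunctor (ModuleCat.{u} A) 0).obj K ≅ Y :=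
      @asIso _ _ _ _ _ i1 ≪≫ (@asIso _ _ _ _ _ i2).symm ≪≫
      (DerivedCategory.homologyFunctor (ModuleCat.{u} A) 0).mapIso e ≪≫
      (DerivedCategory.singleFunctorCompHomologyFunctorIso (ModuleCat.{u} A) 0).app Y
    exact ι.toLinearEquiv.toEquiv.subsingleton_congr
  rw [s1, s2, s3, s4]

/-- `Ext^i(A, ω) = 0` iff `H^i(ω) = 0` -/
lemma van_self_iff (ω : Dual.D A) (i : ℤ) : Van ω i A ↔ Subsingleton (Dual.HD A ω i) := by
  unfold Van
  rw [subsingleton_hom_unit_iff]
  let ι : (DerivedCategory.homologyFunctor (ModuleCat.{u} A) 0).obj (ω⟦i⟧) ≅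
      (DerivedCategory.homologyFunctor (ModuleCat.{u} A) i).obj ω :=
    ((DerivedCategory.homologyFunctor (ModuleCat.{u} A) 0).shiftIso i 0 i (by lia)).app ω
  exact ι.toLinearEquiv.toEquiv.subsingleton_congr

lemma subsingleton_shift_hom (X Y : Dual.D A) (i j k : ℤ) (h : i + (-j) = k)
    (hs : Subsingleton (X ⟶ Y⟦k⟧)) : Subsingleton (X⟦j⟧ ⟶ Y⟦i⟧) := by
  refine ⟨fun f g => ?_⟩
  have := hs.elim ((shiftShiftNeg X j).inv ≫ f⟦-j⟧' ≫
      ((shiftFunctorAdd' (Dual.D A) i (-j) k h).app Y).inv)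
    ((shiftShiftNeg X j).inv ≫ g⟦-j⟧' ≫ ((shiftFunctorAdd' (Dual.D A) i (-j) k h).app Y).inv)
  rw [cancel_epi, cancel_mono] at this
  exact (shiftFunctor (Dual.D A) (-j)).map_injective this

end UnitHom

section Depth

variable {A : Type u} [CommRing A] [IsLocalRing A] [IsNoetherianRing A] {ω : Dual.D A}
  (hω : Dual.IsDualizing A ω) (hn : Dual.IsNormalized A ω)

include hω hn in
/-- if `Hom(κ, ω) = 0` then all `Ext^i(M, ω)` vanish -/
theorem van_all_of_annihilated (h0 : Van ω 0 (A ⧸ IsLocalRing.maximalIdeal A)) (I : Ideal A) :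
    ∀ (M : Type u) [AddCommGroup M] [Module A M] [Module.Finite A M],
      I ≤ Module.annihilator A M → ∀ i : ℤ, Van ω i M := by
  induction I using IsNoetherian.induction with
  | hgt I IH =>
    intro M _ _ hM
    induction hM using IsNoetherianRing.induction_on_isQuotientEquivQuotientPrime A with
    | subsingleton N =>
      intro _ i
      exact van_of_subsingleton ω i N
    | quotient N p e =>
      intro hI i
      refine van_of_equiv ω i e.symm ?_
      have hIp : I ≤ p.asIdeal := by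
        rw [e.annihilator_eq, Ideal.annihilator_quotient] at hI
        exact hI
      rcases lt_or_eq_of_le hIp with hlt | heq
      · exact IH p.asIdeal hlt (A ⧸ p.asIdeal) (by rw [Ideal.annihilator_quotient]) i
      · by_cases hpm : p.asIdeal = IsLocalRing.maximalIdeal A
        · rw [hpm]
          by_cases hi : i = 0
          · rw [hi]
            exact h0
          · exact van_residue hn i hi
        · haveI := p.isPrime
          obtain ⟨x, hxm, hxp⟩ := exists_mem_maximal_not_mem p.asIdeal hpm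
          have hreg := isSMulRegular_quotient_prime p.asIdeal x hxp
          apply van_of_regular' hω (A ⧸ p.asIdeal) x hxm hreg i
          have hJ : I < p.asIdeal ⊔ Ideal.span {x} := heq ▸ lt_sup_span p.asIdeal x hxp
          have hann : p.asIdeal ⊔ Ideal.span {x} ≤
              Module.annihilator A (QuotSMulTop x (A ⧸ p.asIdeal)) := by
            have := le_annihilator_quotSMulTop (A ⧸ p.asIdeal) x
            rwa [Ideal.annihilator_quotient] at this
          exact IH _ hJ _ hann (i + 1)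
    | exact N₁ N₂ N₃ f g hf hg hfg h₁ h₃ =>
      intro hI i
      exact van_of_exact ω i f g hf hg hfg
        (h₁ (hI.trans (f.annihilator_le_of_injective hf)) i)
        (h₃ (hI.trans (g.annihilator_le_of_surjective hg)) i)

include hω hn in
/-- `Hom(κ, ω) ≠ 0` -/
theorem not_van_residue_zero : ¬ Van ω 0 (A ⧸ IsLocalRing.maximalIdeal A) := by
  intro h0
  have hall : ∀ i : ℤ, Van ω i A := fun i => van_all_of_annihilated hω hn h0 ⊥ A bot_le i
  have hz : IsZero ω := by
    apply Groth.Agent.Helper3.DRGen.isZero_of_hom_eq_zero A ω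
    intro n f
    let e : Dual.inD A A ≅ Groth.Agent.Helper3.DRGen.E₀ A :=
      (DerivedCategory.singleFunctorIsoCompQ (ModuleCat.{u} A) 0).app (ModuleCat.of A A)
    have h1 : e.hom ≫ f = 0 := (hall n).elim _ _
    exact (cancel_epi e.hom).1 (h1.trans comp_zero.symm)
  have h1 : (1 : A) • 𝟙 ω = (0 : A) • 𝟙 ω := hz.eq_of_src _ _
  exact one_ne_zero (hω.toEnd_bijective.1 h1)

include hω hn in
/-- depth zero: `Hom(M, ω) ≠ 0` -/
theorem not_van_zero_of_mem_associatedPrimes (M : Type u) [AddCommGroup M] [Module A M]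
    [Module.Finite A M] (h : IsLocalRing.maximalIdeal A ∈ associatedPrimes A M) :
    ¬ Van ω 0 M := by
  intro hM
  obtain ⟨-, x, hx⟩ := (isAssociatedPrime_iff).1 h
  let f₀ : A →ₗ[A] M := LinearMap.toSpanSingleton A M x
  have hker : LinearMap.ker f₀ = IsLocalRing.maximalIdeal A := by
    rw [hx]
    ext r
    simp [f₀, Submodule.mem_colon_singleton]
  let f : (A ⧸ IsLocalRing.maximalIdeal A) →ₗ[A] M :=
    Submodule.liftQ _ f₀ (le_of_eq hker.symm)
  have hf : Function.Injective f := by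
    rw [← LinearMap.ker_eq_bot, Submodule.ker_liftQ_eq_bot]
    exact le_of_eq hker
  apply not_van_residue_zero hω hn
  have key : ∀ φ : Dual.inD A (A ⧸ IsLocalRing.maximalIdeal A) ⟶ ω⟦(0 : ℤ)⟧, φ = 0 := by
    intro φ
    obtain ⟨ψ, hψ⟩ := exists_extension ω 0 f (LinearMap.range f).mkQ hf
      (Submodule.mkQ_surjective _) f.exact_map_mkQ_range
      (van_pos hω hn _ (0 + 1) (by omega)) φ
    rw [hψ, hM.elim ψ 0, comp_zero]
  exact ⟨fun φ ψ => by rw [key φ, key ψ]⟩

include hω hn in
/-- the depth of `M` is the least `δ` with `Ext^{-δ}(M, ω) ≠ 0` -/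
theorem ext_depth (n : ℕ) : ∀ (M : Type u) [AddCommGroup M] [Module A M] [Module.Finite A M]
    [Nontrivial M], LocCoh.depth A M = n →
      (∀ δ : ℕ, δ < n → Van ω (-(δ : ℤ)) M) ∧ ¬ Van ω (-(n : ℤ)) M := by
  induction n with
  | zero =>
    intro M _ _ _ _ hd
    refine ⟨fun δ hδ => absurd hδ (Nat.not_lt_zero _), ?_⟩
    have := (Groth.Agent.Helper8.Depth.depth_eq_zero_iff A M).1 (by simpa using hd)
    simpa using not_van_zero_of_mem_associatedPrimes hω hn M this
  | succ n ih =>
    intro M _ _ _ _ hd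
    have hne : LocCoh.depth A M ≠ 0 := by
      rw [hd]
      simp
    have hnot : ¬ (∀ x ∈ IsLocalRing.maximalIdeal A, ¬ IsSMulRegular M x) := by
      rw [Groth.Agent.Helper8.Depth.forall_not_isSMulRegular_iff,
        ← Groth.Agent.Helper8.Depth.depth_eq_zero_iff]
      exact hne
    push Not at hnot
    obtain ⟨x, hxm, hreg⟩ := hnot
    have hsm := Groth.Agent.Helper8.Depth.smul_top_ne_top_of_local A M
    have hd' : LocCoh.depth A (QuotSMulTop x M) = n := by
      have h1 := Groth.Agent.Helper8.Depth.idealDepth_quotSMulTop_add_one hsm hxm hreg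
      unfold LocCoh.depth at hd ⊢
      rw [hd] at h1
      push_cast at h1
      exact ENat.add_left_injective_of_ne_top ENat.one_ne_top h1
    haveI : Nontrivial (QuotSMulTop x M) := by
      by_contra hnt
      rw [not_nontrivial_iff_subsingleton] at hnt
      exact Groth.Agent.Helper8.Depth.smul_top_quotSMulTop_ne_top hxm hsm (Subsingleton.elim _ _)
    obtain ⟨ih1, ih2⟩ := ih (QuotSMulTop x M) hd'
    have hlow : ∀ δ : ℕ, δ < n + 1 → Van ω (-(δ : ℤ)) M := by
      intro δ hδ
      apply van_of_regular' hω M x hxm hreg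
      cases δ with
      | zero => simpa using van_pos hω hn (QuotSMulTop x M) 1 one_pos
      | succ δ' =>
        have : (-((δ' + 1 : ℕ) : ℤ)) + 1 = -(δ' : ℤ) := by
          push_cast
          ring
        rw [this]
        exact ih1 δ' (by omega)
    refine ⟨hlow, ?_⟩
    intro hv
    apply ih2
    let f : M →ₗ[A] M := LinearMap.lsmul A M x
    let g : M →ₗ[A] QuotSMulTop x M := (x • (⊤ : Submodule A M)).mkQ
    have hfg : Function.Exact f g := LinearMap.exact_lsmul_mkQ_smul_top M x
    have hf : Function.Injective f := hreg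
    have hg : Function.Surjective g := Submodule.mkQ_surjective _
    have hS := shortExact_of_exact f g hf hg hfg
    have hT := hS.singleTriangle_distinguished
    have key : ∀ φ : Dual.inD A (QuotSMulTop x M) ⟶ ω⟦-(n : ℤ)⟧, φ = 0 := by
      intro φ
      have h0 : hS.singleTriangle.mor₂ ≫ φ = 0 := (hlow n (by omega)).elim _ _
      obtain ⟨χ, hχ⟩ := Triangle.yoneda_exact₃ _ hT φ h0
      have hsub : Subsingleton ((Dual.inD A M)⟦(1 : ℤ)⟧ ⟶ ω⟦-(n : ℤ)⟧) :=
        subsingleton_shift_hom (Dual.inD A M) ω (-(n : ℤ)) 1 (-((n + 1 : ℕ) : ℤ))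
          (by push_cast; ring) hv
      have hχ0 : χ = 0 := hsub.elim _ _
      rw [hχ, hχ0]
      exact comp_zero
    exact ⟨fun φ ψ => by rw [key φ, key ψ]⟩

include hω hn in
/-- the depth of a nonzero finite module is finite, and characterised by `ext_depth` -/
theorem exists_depth (M : Type u) [AddCommGroup M] [Module A M] [Module.Finite A M]
    [Nontrivial M] : ∃ n : ℕ, LocCoh.depth A M = n ∧
      (∀ δ : ℕ, δ < n → Van ω (-(δ : ℤ)) M) ∧ ¬ Van ω (-(n : ℤ)) M := by
  have hne : LocCoh.depth A M ≠ ⊤ :=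
    Groth.Agent.Helper8.Depth.idealDepth_ne_top
      (Groth.Agent.Helper8.Depth.smul_top_ne_top_of_local A M)
  obtain ⟨n, hn'⟩ := ENat.ne_top_iff_exists.1 hne
  exact ⟨n, hn'.symm, ext_depth hω hn n M hn'.symm⟩

include hω hn in
theorem depth_eq_iff (M : Type u) [AddCommGroup M] [Module A M] [Module.Finite A M]
    [Nontrivial M] (n : ℕ) : LocCoh.depth A M = n ↔
      ((∀ δ : ℕ, δ < n → Van ω (-(δ : ℤ)) M) ∧ ¬ Van ω (-(n : ℤ)) M) := by
  constructor
  · exact ext_depth hω hn n M
  · rintro ⟨h1, h2⟩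
    obtain ⟨n', hd, h1', h2'⟩ := exists_depth hω hn M
    rcases lt_trichotomy n n' with hlt | heq | hgt
    · exact absurd (h1' n hlt) h2
    · rw [hd, heq]
    · exact absurd (h1 n' hgt) h2'

end Depth

section Main

theorem main_S0367 (A : Type u) [CommRing A] [IsLocalRing A] [IsNoetherianRing A] (ω : Dual.D A)
    (hω : Dual.IsDualizing A ω) (hn : Dual.IsNormalized A ω) (M : Type u) [AddCommGroup M]
    [Module A M] [Module.Finite A M] [Nontrivial M] (n : ℕ) :
    LocCoh.depth A M = n ↔ ((∀ δ : ℕ, δ < n → Subsingleton (Dual.inD A M ⟶ ω⟦(-(δ : ℤ))⟧)) ∧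
      Nontrivial (Dual.inD A M ⟶ ω⟦(-(n : ℤ))⟧)) := by
  rw [depth_eq_iff hω hn M n, ← not_subsingleton_iff_nontrivial]
  rfl

theorem main_S0365 (A : Type u) [CommRing A] [IsLocalRing A] [IsNoetherianRing A] (ω : Dual.D A)
    (hω : Dual.IsDualizing A ω) (hn : Dual.IsNormalized A ω) (n : ℕ) :
    LocCoh.depth A A = n ↔ ((∀ δ : ℕ, δ < n → Subsingleton (Dual.HD A ω (-(δ : ℤ)))) ∧
      Nontrivial (Dual.HD A ω (-(n : ℤ)))) := by
  rw [depth_eq_iff hω hn A n, ← not_subsingleton_iff_nontrivial, van_self_iff]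
  simp only [van_self_iff]

theorem main_S0368 (A : Type u) [CommRing A] [IsLocalRing A] [IsNoetherianRing A] (ω : Dual.D A)
    (hω : Dual.IsDualizing A ω) (hn : Dual.IsNormalized A ω) (M : Type u) [AddCommGroup M]
    [Module A M] [Module.Finite A M] [Nontrivial M] (d : ℕ) (hd : Module.supportDim A M = d) :
    LocCoh.IsCohenMacaulayModule A M ↔
      ∀ i : ℤ, i ≠ d → Subsingleton (Dual.inD A M ⟶ ω⟦(-i)⟧) := by
  obtain ⟨n', hdep, h1', h2'⟩ := exists_depth hω hn M
  unfold LocCoh.IsCohenMacaulayModule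
  rw [hd, hdep]
  constructor
  · intro heq i hi
    have hnd : n' = d := by
      have h1 : ((d : ℕ∞) : WithBot ℕ∞) = ((n' : ℕ∞) : WithBot ℕ∞) := heq
      have h2 : (d : ℕ∞) = (n' : ℕ∞) := WithBot.coe_injective h1
      exact_mod_cast h2.symm
    subst hnd
    rcases lt_trichotomy i 0 with hneg | hzero | hpos
    · exact van_pos hω hn M (-i) (by omega)
    · subst hzero
      have : n' ≠ 0 := by
        intro h
        apply hi
        rw [h]
        rfl
      have := h1' 0 (by omega)
      simpa [Van] using this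
    · by_cases hlt : i < n'
      · have := h1' i.toNat (by omega)
        rwa [Int.toNat_of_nonneg hpos.le] at this
      · exact van_lt_of_annihilated hω hn ⊥ M bot_le n' hd.le (-i) (by omega)
  · intro h
    by_cases hnd : n' = d
    · rw [hnd]
      rfl
    · exfalso
      apply h2'
      exact h n' (by exact_mod_cast hnd)

end Main

end Groth.Agent.Helper3.DualCx
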