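import Mathlib
import Groth.Prelude.Def_Wider
import Groth.Prelude.Def_DRing2
import Groth.Agent.Lib.Helper3.KInjProd
import Groth.Agent.Lib.Helper3.CptMod
import Groth.Agent.Lib.Helper3.DualCx3
import Groth.Agent.Lib.Helper5.ProjAmp.InjAmp

/-!
# The duality functor `M ↦ Hom_A(M, I^•)` attached to a complex of injective modules
-/

set_option autoImplicit false
universe u
open CategoryTheory CategoryTheory.Limits Pretriangulated Triangulated Opposite

attribute [local instance] HasDerivedCategory.standard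

namespace Groth.Agent.Helper3.DualFun

open DerivedCategory

variable {A : Type u} [CommRing A]

/-- `Hom_A(M, -)` as an additive endofunctor of modules -/
noncomputable abbrev homFun (M : ModuleCat.{u} A) : ModuleCat.{u} A ⥤ ModuleCat.{u} A :=
  (linearCoyoneda A (ModuleCat.{u} A)).obj (op M)

/-- the complex `Hom_A(M, I^•)` -/
noncomputable abbrev Dc (I : DRing.Cx A) (M : ModuleCat.{u} A) : DRing.Cx A :=
  ((homFun M).mapHomologicalComplex (ComplexShape.up ℤ)).obj I

/-- contravariant functoriality of `Hom_A(M, I^•)` in `M` -/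
noncomputable abbrev DcMap (I : DRing.Cx A) {M M' : ModuleCat.{u} A} (f : M ⟶ M') :
    Dc I M' ⟶ Dc I M :=
  (NatTrans.mapHomologicalComplex ((linearCoyoneda A (ModuleCat.{u} A)).map f.op)
    (ComplexShape.up ℤ)).app I

lemma DcMap_id (I : DRing.Cx A) (M : ModuleCat.{u} A) : DcMap I (𝟙 M) = 𝟙 _ := by
  ext i : 1
  simp [DcMap]

lemma DcMap_comp (I : DRing.Cx A) {M M' M'' : ModuleCat.{u} A} (f : M ⟶ M') (g : M' ⟶ M'') :
    DcMap I (f ≫ g) = DcMap I g ≫ DcMap I f := by
  ext i : 1
  simp [DcMap]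

lemma DcMap_zero (I : DRing.Cx A) (M M' : ModuleCat.{u} A) :
    DcMap I (0 : M ⟶ M') = 0 := by
  ext i : 1
  simp [DcMap]
  rfl

section SES

variable (I : DRing.Cx A)

/-- the short complex of complexes attached to a short complex of modules -/
noncomputable def DcSC (S : ShortComplex (ModuleCat.{u} A)) : ShortComplex (DRing.Cx A) :=
  ShortComplex.mk (DcMap I S.g) (DcMap I S.f) (by rw [← DcMap_comp, S.zero, DcMap_zero])

lemma DcSC_shortExact (hI : ∀ q : ℤ, Injective (I.X q)) (S : ShortComplex (ModuleCat.{u} A))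
    (hS : S.ShortExact) : (DcSC I S).ShortExact := by
  apply HomologicalComplex.shortExact_of_degreewise_shortExact
  intro q
  haveI := hS.mono_f
  haveI := hS.epi_g
  haveI := hI q
  refine { exact := (ShortComplex.moduleCat_exact_iff _).2 ?_,
           mono_f := (ModuleCat.mono_iff_injective _).2 ?_,
           epi_g := (ModuleCat.epi_iff_surjective _).2 ?_ }
  · intro (x₂ : S.X₂ ⟶ I.X q) (h : S.f ≫ x₂ = 0)
    exact ⟨hS.exact.desc x₂ h, hS.exact.g_desc x₂ h⟩
  · intro (x : S.X₃ ⟶ I.X q) (y : S.X₃ ⟶ I.X q) (h : S.g ≫ x = S.g ≫ y)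
    exact (cancel_epi S.g).1 h
  · intro (x₃ : S.X₁ ⟶ I.X q)
    exact ⟨Injective.factorThru x₃ S.f, Injective.comp_factorThru x₃ S.f⟩

/-- the distinguished triangle `D(M'') → D(M) → D(M') → D(M'')[1]` -/
noncomputable def Dtri (hI : ∀ q : ℤ, Injective (I.X q)) (S : ShortComplex (ModuleCat.{u} A))
    (hS : S.ShortExact) : Triangle (Dual.D A) :=
  DerivedCategory.triangleOfSES (DcSC_shortExact I hI S hS)

lemma Dtri_distinguished (hI : ∀ q : ℤ, Injective (I.X q)) (S : ShortComplex (ModuleCat.{u} A))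
    (hS : S.ShortExact) : Dtri I hI S hS ∈ distTriang (Dual.D A) :=
  DerivedCategory.triangleOfSES_distinguished _

end SES

section Data

/-- a bounded complex of injective modules representing `ω` -/
structure Data (A : Type u) [CommRing A] (ω : Dual.D A) where
  I : DRing.Cx A
  inj : ∀ q : ℤ, Injective (I.X q)
  kinj : I.IsKInjective
  a : ℤ
  b : ℤ
  van : DRing.VanishesOutside I a b
  e : Q.obj I ≅ ω

lemma nonempty_data [IsNoetherianRing A] {ω : Dual.D A} (hω : Dual.IsDualizing A ω) :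
    Nonempty (Data A ω) := by
  obtain ⟨a, b, E, h1, h2, ⟨e⟩⟩ := Groth.Agent.Helper3.DualCx.hasFiniteInjDim hω
  exact ⟨{ I := E
           inj := fun q => by
             haveI := h2 q
             exact Module.injective_object_of_injective_module A (E.X q)
           kinj := Groth.Agent.Helper5.InjAmp.isKInjective_of_injAmp E h1 h2
           a := a
           b := b
           van := h1
           e := e }⟩

variable {ω : Dual.D A} (d : Data A ω)

/-- the dual object `D(M) = RHom(M, ω)` -/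
noncomputable abbrev D (M : ModuleCat.{u} A) : Dual.D A := Q.obj (Dc d.I M)

/-- the dual morphism -/
noncomputable abbrev Dmap {M M' : ModuleCat.{u} A} (f : M ⟶ M') : D d M' ⟶ D d M :=
  Q.map (DcMap d.I f)

lemma Dmap_comp {M M' M'' : ModuleCat.{u} A} (f : M ⟶ M') (g : M' ⟶ M'') :
    Dmap d (f ≫ g) = Dmap d g ≫ Dmap d f := by
  simp only [Dmap, DcMap_comp, Functor.map_comp]

lemma Dmap_id (M : ModuleCat.{u} A) : Dmap d (𝟙 M) = 𝟙 _ := by
  simp only [Dmap, DcMap_id, CategoryTheory.Functor.map_id]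

/-- `D` of an isomorphism -/
noncomputable def Diso {M M' : ModuleCat.{u} A} (f : M ≅ M') : D d M' ≅ D d M where
  hom := Dmap d f.hom
  inv := Dmap d f.inv
  hom_inv_id := by rw [← Dmap_comp, f.inv_hom_id, Dmap_id]
  inv_hom_id := by rw [← Dmap_comp, f.hom_inv_id, Dmap_id]

lemma isZero_D (M : ModuleCat.{u} A) (hM : IsZero M) : IsZero (D d M) := by
  have h : IsZero (Dc d.I M) := by
    rw [IsZero.iff_id_eq_zero]
    ext q : 1
    apply ModuleCat.hom_ext
    apply LinearMap.ext
    intro (x : M ⟶ d.I.X q)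
    exact hM.eq_of_src _ _
  exact Q.map_isZero h

/-- the evaluation chain map `Hom_A(M, I^•) → I^•` at `m` -/
noncomputable def evm (M : ModuleCat.{u} A) (m : M) : Dc d.I M ⟶ d.I where
  f q := ModuleCat.ofHom
    { toFun := fun (φ : M ⟶ d.I.X q) => φ.hom m
      map_add' := fun _ _ => rfl
      map_smul' := fun _ _ => rfl }
  comm' _ _ _ := rfl

lemma evm_add (M : ModuleCat.{u} A) (m m' : M) : evm d M (m + m') = evm d M m + evm d M m' := by
  ext q : 1
  apply ModuleCat.hom_ext
  apply LinearMap.ext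
  intro (φ : M ⟶ d.I.X q)
  exact map_add φ.hom m m'

lemma evm_smul (M : ModuleCat.{u} A) (r : A) (m : M) : evm d M (r • m) = r • evm d M m := by
  ext q : 1
  apply ModuleCat.hom_ext
  apply LinearMap.ext
  intro (φ : M ⟶ d.I.X q)
  exact map_smul φ.hom r m

lemma DcMap_evm {M M' : ModuleCat.{u} A} (f : M ⟶ M') (m : M) :
    DcMap d.I f ≫ evm d M m = evm d M' (f.hom m) := by
  ext q : 1
  apply ModuleCat.hom_ext
  apply LinearMap.ext
  intro (φ : M' ⟶ d.I.X q)
  rfl

/-- `η_M : M → Hom(D(M), ω)` -/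
noncomputable def eta (M : ModuleCat.{u} A) : M →ₗ[A] (D d M ⟶ ω) where
  toFun m := Q.map (evm d M m) ≫ d.e.hom
  map_add' m m' := by rw [evm_add, Functor.map_add, Preadditive.add_comp]
  map_smul' r m := by
    rw [evm_smul, Functor.map_smul, Linear.smul_comp]
    rfl

lemma eta_naturality {M M' : ModuleCat.{u} A} (f : M ⟶ M') (m : M) :
    Dmap d f ≫ eta d M m = eta d M' (f.hom m) := by
  show Q.map (DcMap d.I f) ≫ Q.map (evm d M m) ≫ d.e.hom = Q.map (evm d M' (f.hom m)) ≫ d.e.hom
  rw [← Category.assoc, ← Functor.map_comp, DcMap_evm]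

instance isIso_evm_one : IsIso (evm d (ModuleCat.of A A) (1 : A)) := by
  haveI : ∀ q : ℤ, IsIso ((evm d (ModuleCat.of A A) (1 : A)).f q) := by
    intro q
    rw [ConcreteCategory.isIso_iff_bijective]
    exact (CptMod.homEquiv A (d.I.X q)).bijective
  exact HomologicalComplex.Hom.isIso_of_components _

/-- `D(A) ≅ ω` -/
noncomputable def DA : D d (ModuleCat.of A A) ≅ ω :=
  asIso (Q.map (evm d (ModuleCat.of A A) (1 : A))) ≪≫ d.e

lemma eta_self (r : A) : eta d (ModuleCat.of A A) r = (DA d).hom ≫ (r • 𝟙 ω) := by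
  have h := (eta d (ModuleCat.of A A)).map_smul r (1 : A)
  rw [smul_eq_mul, mul_one] at h
  rw [h, Linear.comp_smul, Category.comp_id]
  rfl

lemma eta_self_bijective (hω : Dual.IsDualizing A ω) :
    Function.Bijective (eta d (ModuleCat.of A A)) := by
  have h1 : Function.Bijective (fun g : ω ⟶ ω => (DA d).hom ≫ g) :=
    ⟨fun g g' h => (cancel_epi _).1 h, fun g => ⟨(DA d).inv ≫ g, by simp⟩⟩
  have h2 := h1.comp hω.toEnd_bijective
  convert h2 using 1
  ext r
  exact eta_self d r

lemma subsingleton_DA (hω : Dual.IsDualizing A ω) (i : ℤ) (hi : i ≠ 0) :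
    Subsingleton (D d (ModuleCat.of A A) ⟶ ω⟦i⟧) := by
  have := hω.ext_self_subsingleton i hi
  exact ⟨fun f g => by
    have h := this.elim ((DA d).inv ≫ f) ((DA d).inv ≫ g)
    exact (cancel_epi _).1 h⟩

/-- `Hom(D(M), ω[i]) = 0` -/
def VanD (i : ℤ) (M : ModuleCat.{u} A) : Prop := Subsingleton (D d M ⟶ ω⟦i⟧)

lemma vanD_of_iso {M M' : ModuleCat.{u} A} (f : M ≅ M') (i : ℤ) (h : VanD d i M) :
    VanD d i M' :=
  ⟨fun x y => by
    have := h.elim ((Diso d f).inv ≫ x) ((Diso d f).inv ≫ y)
    exact (cancel_epi _).1 this⟩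

lemma vanD_of_isZero (M : ModuleCat.{u} A) (hM : IsZero M) (i : ℤ) : VanD d i M :=
  ⟨fun x y => (isZero_D d M hM).eq_of_src x y⟩

lemma vanD_of_lt (M : ModuleCat.{u} A) (i : ℤ) (hi : d.b - d.a < i) : VanD d i M := by
  haveI := d.kinj
  have key : ∀ f : D d M ⟶ ω⟦i⟧, f = 0 := by
    intro f
    have h0 : f ≫ (d.e.inv)⟦i⟧' ≫ ((Q.commShiftIso i).app d.I).inv = 0 := by
      apply Groth.Agent.Helper5.ToInj.hom_eq_zero_of_disjoint
      intro q
      by_cases hq : q < d.a ∨ d.b < q
      · left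
        have hz := d.van q hq
        haveI : Subsingleton ((Dc d.I M).X q) :=
          ⟨fun (x y : M ⟶ d.I.X q) => hz.eq_of_tgt x y⟩
        exact ModuleCat.isZero_of_subsingleton _
      · right
        push Not at hq
        exact d.van (q + i) (Or.inr (by omega))
    have h1 : IsIso ((d.e.inv)⟦i⟧' ≫ ((Q.commShiftIso i).app d.I).inv) := inferInstance
    exact (cancel_mono ((d.e.inv)⟦i⟧' ≫ ((Q.commShiftIso i).app d.I).inv)).1
      (h0.trans zero_comp.symm)
  exact ⟨fun f g => by rw [key f, key g]⟩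

section Tri

variable (S : ShortComplex (ModuleCat.{u} A)) (hS : S.ShortExact)

include hS in
lemma vanD_X₂ (i : ℤ) (h₁ : VanD d i S.X₁) (h₃ : VanD d i S.X₃) : VanD d i S.X₂ := by
  have hT := Dtri_distinguished d.I d.inj S hS
  have key : ∀ f : D d S.X₂ ⟶ ω⟦i⟧, f = 0 := by
    intro f
    have h0 : (Dtri d.I d.inj S hS).mor₁ ≫ f = 0 := h₃.elim _ _
    obtain ⟨g, hg⟩ := Triangle.yoneda_exact₂ _ hT f h0
    have hg0 : g = 0 := h₁.elim _ _
    rw [hg, hg0]
    exact comp_zero
  exact ⟨fun f g => by rw [key f, key g]⟩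

include hS in
lemma vanD_X₃ (i : ℤ) (h₂ : VanD d i S.X₂) (h₁ : VanD d (i + 1) S.X₁) : VanD d i S.X₃ := by
  have hT := inv_rot_of_distTriang _ (Dtri_distinguished d.I d.inj S hS)
  have hsub : Subsingleton ((D d S.X₁)⟦(-1 : ℤ)⟧ ⟶ ω⟦i⟧) :=
    Groth.Agent.Helper3.DualCx.subsingleton_shift_hom _ ω i (-1) (i + 1) (by omega) h₁
  have key : ∀ f : D d S.X₃ ⟶ ω⟦i⟧, f = 0 := by
    intro f
    have h0 : (Dtri d.I d.inj S hS).invRotate.mor₁ ≫ f = 0 := hsub.elim _ _
    obtain ⟨g, hg⟩ := Triangle.yoneda_exact₂ _ hT f h0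
    have hg0 : g = 0 := h₂.elim _ _
    rw [hg, hg0]
    exact comp_zero
  exact ⟨fun f g => by rw [key f, key g]⟩

end Tri

/-- `Hom(X, Y[k]) = 0` implies `Hom(X[j], Y) = 0` when `j + k = 0` -/
lemma subsingleton_shift_hom' (X Y : Dual.D A) (j k : ℤ) (h : j + k = 0)
    (hs : Subsingleton (X ⟶ Y⟦k⟧)) : Subsingleton (X⟦j⟧ ⟶ Y) := by
  obtain rfl : k = -j := by omega
  refine ⟨fun f g => ?_⟩
  have := hs.elim ((shiftShiftNeg X j).inv ≫ f⟦-j⟧') ((shiftShiftNeg X j).inv ≫ g⟦-j⟧')
  rw [cancel_epi] at this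
  exact (shiftFunctor (Dual.D A) (-j)).map_injective this

section Induction

variable [IsNoetherianRing A] (hω : Dual.IsDualizing A ω)

/-- the short exact sequence `0 → J → A → A/J → 0` -/
noncomputable abbrev idealSC (J : Ideal A) : ShortComplex (ModuleCat.{u} A) :=
  ModuleCat.shortComplexOfCompEqZero (Submodule.subtype J) (Submodule.mkQ J)
    (LinearMap.exact_subtype_mkQ J).linearMap_comp_eq_zero

lemma idealSC_shortExact (J : Ideal A) : (idealSC J).ShortExact :=
  Groth.Agent.Helper3.DualCx.shortExact_of_exact _ _ (Submodule.injective_subtype _)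
    (Submodule.mkQ_surjective _) (LinearMap.exact_subtype_mkQ J)

include hω in
theorem vanD_pos_aux (k : ℕ) : ∀ i : ℤ, 1 ≤ i → d.b - d.a < i + k →
    ∀ (M : Type u) [AddCommGroup M] [Module A M] [Module.Finite A M],
      VanD d i (ModuleCat.of A M) := by
  induction k with
  | zero =>
    intro i _ hb M _ _ _
    exact vanD_of_lt d _ i (by simpa using hb)
  | succ k ih =>
    intro i hi hb M _ _ hM
    induction hM using IsNoetherianRing.induction_on_isQuotientEquivQuotientPrime A with
    | subsingleton N => exact vanD_of_isZero d _ (ModuleCat.isZero_of_subsingleton _) i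
    | quotient N p e =>
      refine vanD_of_iso d e.symm.toModuleIso i ?_
      exact vanD_X₃ d (idealSC p.asIdeal) (idealSC_shortExact _) i
        (subsingleton_DA d hω i (by omega))
        (ih (i + 1) (by omega) (by push_cast at hb; omega) p.asIdeal)
    | exact N₁ N₂ N₃ f g hf hg hfg h₁ h₃ =>
      exact vanD_X₂ d _ (Groth.Agent.Helper3.DualCx.shortExact_of_exact f g hf hg hfg) i h₁ h₃

include hω in
theorem vanD_pos (i : ℤ) (hi : 1 ≤ i) (M : Type u) [AddCommGroup M] [Module A M]
    [Module.Finite A M] : VanD d i (ModuleCat.of A M) :=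
  vanD_pos_aux d hω (d.b - d.a + 1 - i).toNat i hi (by omega) M

lemma eta_surjective_of_iso {M M' : ModuleCat.{u} A} (φ : M ≅ M')
    (h : Function.Surjective (eta d M)) : Function.Surjective (eta d M') := by
  intro y'
  obtain ⟨m, hm⟩ := h (Dmap d φ.inv ≫ y')
  refine ⟨φ.hom.hom m, ?_⟩
  rw [← eta_naturality, hm, ← Category.assoc, ← Dmap_comp, φ.inv_hom_id, Dmap_id, Category.id_comp]

lemma eta_injective_of_iso {M M' : ModuleCat.{u} A} (φ : M ≅ M')
    (h : Function.Injective (eta d M)) : Function.Injective (eta d M') := by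
  rw [← LinearMap.ker_eq_bot, LinearMap.ker_eq_bot'] at h ⊢
  intro m' hm'
  have h1 : eta d M (φ.inv.hom m') = 0 := by
    have h2 := eta_naturality d φ.hom (φ.inv.hom m')
    have h3 : φ.hom.hom (φ.inv.hom m') = m' := by
      have := congrArg (fun f => f.hom m') φ.inv_hom_id
      exact this
    rw [h3, hm'] at h2
    have h4 : Dmap d φ.inv ≫ Dmap d φ.hom ≫ eta d M (φ.inv.hom m') = 0 := by
      rw [h2, comp_zero]
    rwa [← Category.assoc, ← Dmap_comp, φ.hom_inv_id, Dmap_id, Category.id_comp] at h4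
  have h5 := h _ h1
  have h6 : φ.hom.hom (φ.inv.hom m') = m' := by
    have := congrArg (fun f => f.hom m') φ.inv_hom_id
    exact this
  rw [← h6, h5, map_zero]

include hω in
theorem eta_surjective (M : Type u) [AddCommGroup M] [Module A M] [hM : Module.Finite A M] :
    Function.Surjective (eta d (ModuleCat.of A M)) := by
  induction hM using IsNoetherianRing.induction_on_isQuotientEquivQuotientPrime A with
  | subsingleton N =>
    intro y
    exact ⟨0, by
      rw [map_zero]
      exact (isZero_D d _ (ModuleCat.isZero_of_subsingleton _)).eq_of_src _ _⟩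
  | quotient N p e =>
    refine eta_surjective_of_iso d e.symm.toModuleIso ?_
    intro y
    have hT := inv_rot_of_distTriang _
      (Dtri_distinguished d.I d.inj (idealSC p.asIdeal) (idealSC_shortExact _))
    have hsub : Subsingleton ((D d (ModuleCat.of A p.asIdeal))⟦(-1 : ℤ)⟧ ⟶ ω) :=
      subsingleton_shift_hom' _ ω (-1) 1 (by omega) (vanD_pos d hω 1 le_rfl p.asIdeal)
    have h0 : (Dtri d.I d.inj (idealSC p.asIdeal) (idealSC_shortExact _)).invRotate.mor₁ ≫ y = 0 :=
      hsub.elim _ _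
    obtain ⟨x, hx⟩ := Triangle.yoneda_exact₂ _ hT y h0
    obtain ⟨r, hr⟩ := (eta_self_bijective d hω).2 x
    refine ⟨(idealSC p.asIdeal).g.hom r, ?_⟩
    rw [← eta_naturality, hr]
    exact hx.symm
  | exact N₁ N₂ N₃ f g hf hg hfg h₁ h₃ =>
    intro y
    have hS := Groth.Agent.Helper3.DualCx.shortExact_of_exact f g hf hg hfg
    have hT := Dtri_distinguished d.I d.inj _ hS
    obtain ⟨n₃, hn₃⟩ := h₃ (Dmap d (ModuleCat.ofHom g) ≫ y)
    obtain ⟨n₂, rfl⟩ := hg n₃
    have h0 : (Dtri d.I d.inj _ hS).mor₁ ≫ (y - eta d (ModuleCat.of A N₂) n₂) = 0 := by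
      show Dmap d (ModuleCat.ofHom g) ≫ (y - eta d (ModuleCat.of A N₂) n₂) = 0
      rw [Preadditive.comp_sub, eta_naturality, ← hn₃]
      exact sub_self _
    obtain ⟨z, hz⟩ := Triangle.yoneda_exact₂ _ hT _ h0
    obtain ⟨n₁, rfl⟩ := h₁ z
    refine ⟨n₂ + f n₁, ?_⟩
    rw [map_add]
    have h1 : eta d (ModuleCat.of A N₂) (f n₁) =
        Dmap d (ModuleCat.ofHom f) ≫ eta d (ModuleCat.of A N₁) n₁ := (eta_naturality d _ _).symm
    rw [h1]
    have h2 : y - eta d (ModuleCat.of A N₂) n₂ =
        Dmap d (ModuleCat.ofHom f) ≫ eta d (ModuleCat.of A N₁) n₁ := hz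
    rw [← h2]
    abel

omit [IsNoetherianRing A] in
lemma shift_mor₂_comp_invRotate_mor₁ (T : Triangle (Dual.D A)) (hT : T ∈ distTriang _) :
    T.mor₂⟦(-1 : ℤ)⟧' ≫ T.invRotate.mor₁ = 0 := by
  have h := comp_distTriang_mor_zero₂₃ _ hT
  have key : ∀ {X Y Z W : Dual.D A} (a : X ⟶ Y) (b : Y ⟶ Z) (c : Z ⟶ W), a ≫ b = 0 →
      a ≫ (-b ≫ c) = 0 := by
    intro X Y Z W a b c hab
    rw [Preadditive.comp_neg, ← Category.assoc, hab, zero_comp, neg_zero]
  exact key _ _ _ (by rw [← Functor.map_comp, h, Functor.map_zero])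

include hω in
theorem vanD_neg_one (M : Type u) [AddCommGroup M] [Module A M] [hM : Module.Finite A M] :
    VanD d (-1) (ModuleCat.of A M) := by
  induction hM using IsNoetherianRing.induction_on_isQuotientEquivQuotientPrime A with
  | subsingleton N => exact vanD_of_isZero d _ (ModuleCat.isZero_of_subsingleton _) _
  | quotient N p e =>
    refine vanD_of_iso d e.symm.toModuleIso _ ?_
    have hT := Dtri_distinguished d.I d.inj (idealSC p.asIdeal) (idealSC_shortExact _)
    have hTi := inv_rot_of_distTriang _ hT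
    have key : ∀ f : D d (ModuleCat.of A (A ⧸ p.asIdeal)) ⟶ ω⟦(-1 : ℤ)⟧, f = 0 := by
      intro f
      obtain ⟨g', hg'⟩ := (shiftFunctor (Dual.D A) (-1 : ℤ)).map_surjective
        ((Dtri d.I d.inj (idealSC p.asIdeal) (idealSC_shortExact _)).invRotate.mor₁ ≫ f)
      obtain ⟨j, hj⟩ := eta_surjective d hω p.asIdeal g'
      have h1 : (Dtri d.I d.inj (idealSC p.asIdeal) (idealSC_shortExact _)).mor₂ ≫ g' = 0 := by
        apply (shiftFunctor (Dual.D A) (-1 : ℤ)).map_injective
        rw [Functor.map_comp, hg', ← Category.assoc, shift_mor₂_comp_invRotate_mor₁ _ hT,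
          zero_comp, Functor.map_zero]
      have h2 : eta d (ModuleCat.of A A) ((idealSC p.asIdeal).f.hom j) = 0 := by
        rw [← eta_naturality, hj]
        exact h1
      have h3 : (idealSC p.asIdeal).f.hom j = 0 := by
        have := (eta_self_bijective d hω).1
        rw [← LinearMap.ker_eq_bot, LinearMap.ker_eq_bot'] at this
        exact this _ h2
      have h4 : j = 0 := Submodule.injective_subtype p.asIdeal (h3.trans (map_zero _).symm)
      have h5 : g' = 0 := by
        rw [← hj, h4, map_zero]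
        rfl
      have h6 : (Dtri d.I d.inj (idealSC p.asIdeal) (idealSC_shortExact _)).invRotate.mor₁ ≫ f
          = 0 := hg'.symm.trans (by rw [h5, Functor.map_zero]; rfl)
      obtain ⟨g'', hg''⟩ := Triangle.yoneda_exact₂ _ hTi f h6
      have h7 : g'' = 0 := (subsingleton_DA d hω (-1) (by omega)).elim _ _
      rw [hg'', h7]
      exact comp_zero
    exact ⟨fun f g => by rw [key f, key g]⟩
  | exact N₁ N₂ N₃ f g hf hg hfg h₁ h₃ =>
    exact vanD_X₂ d _ (Groth.Agent.Helper3.DualCx.shortExact_of_exact f g hf hg hfg) _ h₁ h₃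

include hω in
theorem vanD_neg_aux (k : ℕ) : ∀ (M : Type u) [AddCommGroup M] [Module A M] [Module.Finite A M],
    VanD d (-1 - (k : ℤ)) (ModuleCat.of A M) := by
  induction k with
  | zero =>
    intro M _ _ _
    simpa using vanD_neg_one d hω M
  | succ k ih =>
    intro M _ _ hM
    induction hM using IsNoetherianRing.induction_on_isQuotientEquivQuotientPrime A with
    | subsingleton N => exact vanD_of_isZero d _ (ModuleCat.isZero_of_subsingleton _) _
    | quotient N p e =>
      refine vanD_of_iso d e.symm.toModuleIso _ ?_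
      refine vanD_X₃ d (idealSC p.asIdeal) (idealSC_shortExact _) _
        (subsingleton_DA d hω _ (by push_cast; omega)) ?_
      have := ih p.asIdeal
      have h1 : (-1 - ((k + 1 : ℕ) : ℤ)) + 1 = -1 - (k : ℤ) := by push_cast; ring
      rw [h1]
      exact this
    | exact N₁ N₂ N₃ f g hf hg hfg h₁ h₃ =>
      exact vanD_X₂ d _ (Groth.Agent.Helper3.DualCx.shortExact_of_exact f g hf hg hfg) _ h₁ h₃

include hω in
theorem vanD_ne_zero (i : ℤ) (hi : i ≠ 0) (M : Type u) [AddCommGroup M] [Module A M]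
    [Module.Finite A M] : VanD d i (ModuleCat.of A M) := by
  rcases lt_or_gt_of_ne hi with h | h
  · have := vanD_neg_aux d hω (-1 - i).toNat M
    have h1 : -1 - (((-1 - i).toNat : ℕ) : ℤ) = i := by omega
    rwa [h1] at this
  · exact vanD_pos d hω i (by omega) M

include hω in
theorem eta_injective (M : Type u) [AddCommGroup M] [Module A M] [hM : Module.Finite A M] :
    Function.Injective (eta d (ModuleCat.of A M)) := by
  induction hM using IsNoetherianRing.induction_on_isQuotientEquivQuotientPrime A with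
  | subsingleton N =>
    intro x y _
    exact Subsingleton.elim (α := N) x y
  | quotient N p e =>
    refine eta_injective_of_iso d e.symm.toModuleIso ?_
    rw [← LinearMap.ker_eq_bot, LinearMap.ker_eq_bot']
    intro x hx
    obtain ⟨r, rfl⟩ := Submodule.mkQ_surjective p.asIdeal x
    have hT := Dtri_distinguished d.I d.inj (idealSC p.asIdeal) (idealSC_shortExact _)
    have h1 : (Dtri d.I d.inj (idealSC p.asIdeal) (idealSC_shortExact _)).mor₁ ≫
        eta d (ModuleCat.of A A) r = 0 := by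
      show Dmap d (idealSC p.asIdeal).g ≫ eta d (ModuleCat.of A A) r = 0
      rw [eta_naturality]
      exact hx
    obtain ⟨z, hz⟩ := Triangle.yoneda_exact₂ _ hT _ h1
    obtain ⟨j, rfl⟩ := eta_surjective d hω p.asIdeal z
    have h2 : eta d (ModuleCat.of A A) r = eta d (ModuleCat.of A A) ((idealSC p.asIdeal).f.hom j) := by
      rw [← eta_naturality]
      exact hz
    have h3 : r = (idealSC p.asIdeal).f.hom j := (eta_self_bijective d hω).1 h2
    rw [h3]
    exact (Submodule.Quotient.mk_eq_zero _).2 j.2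
  | exact N₁ N₂ N₃ f g hf hg hfg h₁ h₃ =>
    rw [← LinearMap.ker_eq_bot, LinearMap.ker_eq_bot'] at h₁ h₃ ⊢
    intro m hm
    have hS := Groth.Agent.Helper3.DualCx.shortExact_of_exact f g hf hg hfg
    have hT := Dtri_distinguished d.I d.inj _ hS
    have h1 : eta d (ModuleCat.of A N₃) (g m) = 0 := by
      have := eta_naturality d (ModuleCat.ofHom g) m
      rw [hm, comp_zero] at this
      exact this.symm
    have h2 : g m = 0 := h₃ _ h1
    obtain ⟨m₁, rfl⟩ := (hfg m).1 h2
    have h3 : (Dtri d.I d.inj _ hS).mor₂ ≫ eta d (ModuleCat.of A N₁) m₁ = 0 := by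
      show Dmap d (ModuleCat.ofHom f) ≫ eta d (ModuleCat.of A N₁) m₁ = 0
      rw [eta_naturality]
      exact hm
    obtain ⟨ψ, hψ⟩ := Triangle.yoneda_exact₃ _ hT _ h3
    have hsub : Subsingleton ((D d (ModuleCat.of A N₃))⟦(1 : ℤ)⟧ ⟶ ω) :=
      subsingleton_shift_hom' _ ω 1 (-1) (by omega) (vanD_neg_one d hω N₃)
    have h4 : ψ = 0 := hsub.elim _ _
    have h5 : eta d (ModuleCat.of A N₁) m₁ = 0 := by
      rw [hψ, h4]
      exact comp_zero
    rw [h₁ _ h5, map_zero]

/-- biduality: `M ≃ Hom(D(M), ω)` for a finite module `M` -/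
noncomputable def etaEquiv (M : Type u) [AddCommGroup M] [Module A M] [Module.Finite A M] :
    M ≃ₗ[A] (D d (ModuleCat.of A M) ⟶ ω) :=
  LinearEquiv.ofBijective (eta d (ModuleCat.of A M))
    ⟨eta_injective d hω M, eta_surjective d hω M⟩

end Induction

end Data

end Groth.Agent.Helper3.DualFun
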