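import Mathlib
import Groth.Prelude.Def_Wider
import Groth.Prelude.Def_DRing2
import Groth.Agent.Lib.Helper3.DualFun
import Groth.Agent.Lib.Helper5.DRing.ToSingle

/-!
# The cohomology of `D(M) = Hom_A(M, I^•)` is `Ext^•(M, ω)`
-/

set_option autoImplicit false
universe u
open CategoryTheory CategoryTheory.Limits Pretriangulated Triangulated Opposite

attribute [local instance] HasDerivedCategory.standard

namespace Groth.Agent.Helper3.DualFun

open DerivedCategory Groth.Agent.Helper5.InjAmp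

variable {A : Type u} [CommRing A]

section FromSingle

variable (P : DRing.Cx A) (j : ℤ) {N : ModuleCat.{u} A}

lemma fromSingle_add (l l' : N ⟶ P.X j) (hl : l ≫ P.d j (j + 1) = 0)
    (hl' : l' ≫ P.d j (j + 1) = 0) (hll' : (l + l') ≫ P.d j (j + 1) = 0) :
    fromSingle P j (l + l') hll' = fromSingle P j l hl + fromSingle P j l' hl' := by
  apply HomologicalComplex.from_single_hom_ext
  rw [HomologicalComplex.add_f_apply, HomologicalComplex.mkHomFromSingle_f,
    HomologicalComplex.mkHomFromSingle_f, HomologicalComplex.mkHomFromSingle_f,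
    Preadditive.comp_add]

lemma fromSingle_smul (r : A) (l : N ⟶ P.X j) (hl : l ≫ P.d j (j + 1) = 0)
    (hl' : (r • l) ≫ P.d j (j + 1) = 0) :
    fromSingle P j (r • l) hl' = r • fromSingle P j l hl := by
  apply HomologicalComplex.from_single_hom_ext
  rw [HomologicalComplex.smul_f_apply, HomologicalComplex.mkHomFromSingle_f,
    HomologicalComplex.mkHomFromSingle_f, Linear.comp_smul]

/-- a chain map from a module in degree `j` which factors through `d^{j-1}` vanishes in `D` -/
theorem Q_map_fromSingle_eq_zero (l : N ⟶ P.X j) (hl : l ≫ P.d j (j + 1) = 0)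
    (s : N ⟶ P.X (j - 1)) (hs : l = s ≫ P.d (j - 1) j) :
    Q.map (fromSingle P j l hl) = 0 := by
  rw [← Functor.map_zero]
  apply Groth.Agent.Helper5.ToSingle.Q_map_eq_of_homotopy
  refine
    { hom := fun i i' => if h : i = j ∧ i' = j - 1 then
        (HomologicalComplex.singleObjXIsoOfEq (ComplexShape.up ℤ) j N i h.1).hom ≫ s ≫
          (P.XIsoOfEq h.2).inv else 0
      zero := ?_
      comm := ?_ }
  · intro i i' hii'
    rw [dif_neg]
    rintro ⟨rfl, rfl⟩
    exact hii' (by simp)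
  · intro i
    by_cases hi : i = j
    · subst hi
      rw [HomologicalComplex.mkHomFromSingle_f,
        dNext_eq _ (show (ComplexShape.up ℤ).Rel i (i + 1) from rfl),
        prevD_eq _ (show (ComplexShape.up ℤ).Rel (i - 1) i by simp), HomologicalComplex.zero_f,
        add_zero, HomologicalComplex.single_obj_d, zero_comp, zero_add, dif_pos ⟨rfl, rfl⟩, hs]
      simp [HomologicalComplex.singleObjXSelf]
    · exact (HomologicalComplex.isZero_single_obj_X (ComplexShape.up ℤ) j N i hi).eq_of_src _ _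

/-- every chain map from a module in degree `j` is of the form `fromSingle` -/
lemma exists_eq_fromSingle (φ : S j N ⟶ P) :
    ∃ (l : N ⟶ P.X j) (hl : l ≫ P.d j (j + 1) = 0), φ = fromSingle P j l hl := by
  refine ⟨(HomologicalComplex.singleObjXSelf (ComplexShape.up ℤ) j N).inv ≫ φ.f j, ?_, ?_⟩
  · rw [Category.assoc, φ.comm j (j + 1), HomologicalComplex.single_obj_d, zero_comp, comp_zero]
  · apply HomologicalComplex.from_single_hom_ext
    rw [HomologicalComplex.mkHomFromSingle_f, Iso.hom_inv_id_assoc]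

end FromSingle

section Cohomology

variable (I : DRing.Cx A) (M : ModuleCat.{u} A) (j : ℤ)

/-- the cocycles of `Hom_A(M, I^•)` in degree `j` -/
noncomputable abbrev Zj : Submodule A ((Dc I M).X j) :=
  LinearMap.ker ((Dc I M).sc' (j - 1) j (j + 1)).g.hom

lemma mem_Zj (z : (Dc I M).X j) :
    z ∈ Zj I M j ↔ (show M ⟶ I.X j from z) ≫ I.d j (j + 1) = 0 := by
  rw [LinearMap.mem_ker]
  rfl

/-- cocycles to morphisms in the derived category -/
noncomputable def Phi : Zj I M j →ₗ[A] (Q.obj (S j M) ⟶ Q.obj I) where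
  toFun z := Q.map (fromSingle I j (show M ⟶ I.X j from z.1) ((mem_Zj I M j z.1).1 z.2))
  map_add' z z' := by
    rw [← Functor.map_add]
    congr 1
    exact fromSingle_add I j _ _ _ _ _
  map_smul' r z := by
    rw [RingHom.id_apply, ← Functor.map_smul]
    congr 1
    exact fromSingle_smul I j r _ _ _

lemma Phi_apply (z : Zj I M j) :
    Phi I M j z = Q.map (fromSingle I j (show M ⟶ I.X j from z.1) ((mem_Zj I M j z.1).1 z.2)) :=
  rfl

variable [I.IsKInjective]

lemma Phi_surjective : Function.Surjective (Phi I M j) := by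
  intro u
  obtain ⟨φ, rfl⟩ := Groth.Agent.Helper5.ToInj.exists_Q_map_eq u
  obtain ⟨l, hl, rfl⟩ := exists_eq_fromSingle I j φ
  exact ⟨⟨l, (mem_Zj I M j l).2 hl⟩, rfl⟩

lemma ker_Phi : LinearMap.ker (Phi I M j) =
    LinearMap.range ((Dc I M).sc' (j - 1) j (j + 1)).moduleCatToCycles := by
  ext z
  constructor
  · intro hz
    replace hz : Phi I M j z = 0 := LinearMap.mem_ker.1 hz
    rw [Phi_apply] at hz
    obtain ⟨H⟩ := Groth.Agent.Helper5.ToInj.nonempty_homotopy_of_Q_map_eq _ 0
      (hz.trans (Functor.map_zero _ _ _).symm)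
    obtain ⟨s, hs⟩ := exists_lift_of_homotopy I j _ _ H (j - 1) (by omega)
    refine ⟨(show (Dc I M).X (j - 1) from s), ?_⟩
    apply Subtype.ext
    exact hs.symm
  · rintro ⟨(s : M ⟶ I.X (j - 1)), rfl⟩
    apply LinearMap.mem_ker.2
    rw [Phi_apply]
    exact Q_map_fromSingle_eq_zero I j _ _ s rfl

/-- `H^j(Hom_A(M, I^•)) ≃ Hom_{D(A)}(M[-j], I)` -/
noncomputable def homologyEquiv :
    ((Dc I M).homology j) ≃ₗ[A] (Q.obj (S j M) ⟶ Q.obj I) :=
  ((Dc I M).homologyIsoSc' (j - 1) j (j + 1) (by simp) (by simp) ≪≫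
      ((Dc I M).sc' (j - 1) j (j + 1)).moduleCatHomologyIso).toLinearEquiv ≪≫ₗ
    (Submodule.quotEquivOfEq _ _ (ker_Phi I M j).symm) ≪≫ₗ
    (Phi I M j).quotKerEquivOfSurjective (Phi_surjective I M j)

end Cohomology

section ShiftEquiv

/-- `Hom(X, K[j]) ≃ Hom(X[-j], K)`, linearly -/
noncomputable def shiftLinEquiv (X K : Dual.D A) (j : ℤ) :
    (X ⟶ K⟦j⟧) ≃ₗ[A] (X⟦-j⟧ ⟶ K) :=
  LinearEquiv.ofBijective
    ((Linear.rightComp A _ (shiftShiftNeg K j).hom).comp
      ((shiftFunctor (Dual.D A) (-j)).mapLinearMap A))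
    ⟨fun f g h => by
      simp only [LinearMap.coe_comp, Function.comp_apply, Linear.rightComp_apply,
        Functor.mapLinearMap_apply] at h
      rw [cancel_mono] at h
      exact (shiftFunctor (Dual.D A) (-j)).map_injective h,
    fun g => by
      obtain ⟨f, hf⟩ := (shiftFunctor (Dual.D A) (-j)).map_surjective
        (g ≫ (shiftShiftNeg K j).inv)
      refine ⟨f, ?_⟩
      show (shiftFunctor (Dual.D A) (-j)).map f ≫ (shiftShiftNeg K j).hom = g
      rw [hf, Category.assoc, Iso.inv_hom_id, Category.comp_id]⟩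

/-- a module in degree `j`, as a shift -/
noncomputable def theta (M : ModuleCat.{u} A) (j : ℤ) :
    (Dual.inD A M)⟦-j⟧ ≅ Q.obj (S j M) :=
  ((DerivedCategory.singleFunctors (ModuleCat.{u} A)).shiftIso (-j) j 0 (by lia)).app M ≪≫
    (DerivedCategory.singleFunctorIsoCompQ (ModuleCat.{u} A) j).app M

end ShiftEquiv

section Main

variable {ω : Dual.D A} (d : Data A ω)

/-- `Ext^j(M, ω) ≃ Hom_{D(A)}(M[-j], I)` -/
noncomputable def extEquiv (M : ModuleCat.{u} A) (j : ℤ) :
    (Dual.inD A M ⟶ ω⟦j⟧) ≃ₗ[A] (Q.obj (S j M) ⟶ Q.obj d.I) :=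
  Linear.homCongr A (Iso.refl _) ((shiftFunctor (Dual.D A) j).mapIso d.e.symm) ≪≫ₗ
    shiftLinEquiv _ _ j ≪≫ₗ Linear.homCongr A (theta M j) (Iso.refl _)

/-- `Ext^j(M, ω) ≃ H^j(D(M))` -/
noncomputable def extIso (M : ModuleCat.{u} A) (j : ℤ) :
    (Dual.inD A M ⟶ ω⟦j⟧) ≃ₗ[A] Dual.HD A (D d M) j :=
  haveI := d.kinj
  extEquiv d M j ≪≫ₗ (homologyEquiv d.I M j).symm ≪≫ₗ
    ((DerivedCategory.homologyFunctorFactors (ModuleCat.{u} A) j).app (Dc d.I M)).symm.toLinearEquiv

end Main

end Groth.Agent.Helper3.DualFun
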