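import Mathlib
import Groth.Prelude.Def_Wider
import Groth.Prelude.Def_DRing2
import Groth.Agent.Lib.Helper3.DualFun2
import Groth.Agent.Lib.Helper3.DualCx3

/-!
# Dualizing complexes: `Ext^•(κ, ω)` is `κ` in a single degree
-/

set_option autoImplicit false
universe u
open CategoryTheory CategoryTheory.Limits Pretriangulated Triangulated Opposite

attribute [local instance] HasDerivedCategory.standard

namespace Groth.Agent.Helper3.DualFun

open DerivedCategory Groth.Agent.Helper3.DualCx Groth.Agent.Helper3.RegGlDim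

variable {A : Type u} [CommRing A]

section Pred

variable (ω : Dual.D A) (P : ObjectProperty (ModuleCat.{u} A)) [P.IsClosedUnderIsomorphisms]

/-- maps from an object of the heart (shifted to degree `j`) whose cohomology satisfies `P` -/
lemma subsingleton_hom_of_heart' (X : Dual.D A) (j : ℤ) [X.IsGE j] [X.IsLE j]
    (hX : P ((DerivedCategory.homologyFunctor (ModuleCat.{u} A) j).obj X)) (i : ℤ)
    (hvan : ∀ (M : ModuleCat.{u} A), P M → Van ω (i + j) M) :
    Subsingleton (X ⟶ ω⟦i⟧) := by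
  obtain ⟨Y, ⟨e⟩⟩ := exists_iso_singleFunctor_obj_of_isGE_of_isLE X j
  have hY : P Y := P.prop_of_iso
    ((DerivedCategory.homologyFunctor (ModuleCat.{u} A) j).mapIso e ≪≫
      (DerivedCategory.singleFunctorCompHomologyFunctorIso (ModuleCat.{u} A) j).app Y) hX
  let e' : ((DerivedCategory.singleFunctor (ModuleCat.{u} A) 0).obj Y)⟦(-j : ℤ)⟧ ≅
      (DerivedCategory.singleFunctor (ModuleCat.{u} A) j).obj Y :=
    ((DerivedCategory.singleFunctors (ModuleCat.{u} A)).shiftIso (-j) j 0 (by lia)).app Y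
  have h1 : Subsingleton ((DerivedCategory.singleFunctor (ModuleCat.{u} A) 0).obj Y ⟶
      ω⟦i + j⟧) := hvan Y hY
  have h3 : Subsingleton
      (((DerivedCategory.singleFunctor (ModuleCat.{u} A) 0).obj Y)⟦(-j : ℤ)⟧ ⟶ ω⟦i⟧) :=
    subsingleton_shift_hom _ ω i (-j) (i + j) (by lia) h1
  have key : ∀ f : X ⟶ ω⟦i⟧, f = 0 := by
    intro f
    have hf : (e'.hom ≫ e.inv) ≫ f = 0 := h3.elim _ _
    have : IsIso (e'.hom ≫ e.inv) := inferInstance
    exact (cancel_epi (e'.hom ≫ e.inv)).1 (hf.trans comp_zero.symm)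
  exact ⟨fun f g => by rw [key f, key g]⟩

/-- dévissage: if `Ext^k(M, ω) = 0` for all modules `M` with `P` and all `k ≥ i + c`, then
`Hom(N, ω[i]) = 0` for `N ∈ D^{[c, c+n-1]}` with cohomology satisfying `P` -/
theorem subsingleton_hom_of_bounded' (h0 : ∀ Z : ModuleCat.{u} A, IsZero Z → P Z) (i c : ℤ)
    (hvan : ∀ (k : ℤ), i + c ≤ k → ∀ (M : ModuleCat.{u} A), P M → Van ω k M) (n : ℕ) :
    ∀ (N : Dual.D A) [N.IsGE c] [N.IsLE (c + n - 1)]
      (_ : ∀ j : ℤ, P ((DerivedCategory.homologyFunctor (ModuleCat.{u} A) j).obj N)),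
      Subsingleton (N ⟶ ω⟦i⟧) := by
  induction n with
  | zero =>
    intro N _ _ _
    have hz : IsZero N := (TStructure.t).isZero N (c + (0 : ℕ) - 1) c (by simp)
    exact ⟨fun f g => hz.eq_of_src f g⟩
  | succ n ih =>
    intro N _ _ hfin
    let t : TStructure (Dual.D A) := TStructure.t
    let b : ℤ := c + n
    have hT := t.triangleLTGE_distinguished b N
    haveI hA1 : ((t.truncLT b).obj N).IsLE (c + n - 1) :=
      inferInstanceAs (t.IsLE ((t.truncLT b).obj N) (b - 1))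
    haveI hA2 : ((t.truncLT b).obj N).IsGE c :=
      inferInstanceAs (t.IsGE ((t.truncLT b).obj N) c)
    haveI hB1 : ((t.truncGE b).obj N).IsGE b := inferInstanceAs (t.IsGE ((t.truncGE b).obj N) b)
    haveI hNb : t.IsLE N b := t.isLE_of_le N (c + (n + 1 : ℕ) - 1) b (by simp only [b]; push_cast; omega)
    haveI hB2 : ((t.truncGE b).obj N).IsLE b := inferInstanceAs (t.IsLE ((t.truncGE b).obj N) b)
    haveI h1 : Subsingleton ((t.truncLT b).obj N ⟶ ω⟦i⟧) :=
      ih _ (fun j => _root_.Helper5.DCat.prop_homology_truncLT P N b hfin h0 j)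
    haveI h3 : Subsingleton ((t.truncGE b).obj N ⟶ ω⟦i⟧) :=
      subsingleton_hom_of_heart' ω P _ b
        (_root_.Helper5.DCat.prop_homology_truncGE P N b hfin h0 b) i
        (fun M hM => hvan (i + b) (by simp only [b]; omega) M hM)
    have key : ∀ f : N ⟶ ω⟦i⟧, f = 0 := by
      intro f
      have h0 : ((t.triangleLTGE b).obj N).mor₁ ≫ f = 0 := h1.elim _ _
      obtain ⟨g, hg⟩ := Triangle.yoneda_exact₂ _ hT f h0
      have hg0 : g = 0 := h3.elim _ _
      rw [hg, hg0, comp_zero]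
      rfl
    exact ⟨fun f g => by rw [key f, key g]⟩

end Pred

section Killed

variable [IsNoetherianRing A] (ω : Dual.D A) (m : Ideal A) [hm : m.IsMaximal]

include hm in
/-- `Ext^k(κ, ω) = 0` implies `Ext^k(N, ω) = 0` for every finite module `N` killed by `m` -/
theorem van_of_killed (k : ℤ) (hκ : Van ω k (A ⧸ m)) (N : Type u) [AddCommGroup N] [Module A N]
    [hN : Module.Finite A N] (hmN : m ≤ Module.annihilator A N) : Van ω k N := by
  revert hmN
  induction hN using IsNoetherianRing.induction_on_isQuotientEquivQuotientPrime A with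
  | subsingleton N =>
    intro _
    exact van_of_subsingleton ω k N
  | quotient N p e =>
    intro hI
    refine van_of_equiv ω k e.symm ?_
    have hIp : m ≤ p.asIdeal := by
      rw [e.annihilator_eq, Ideal.annihilator_quotient] at hI
      exact hI
    have : m = p.asIdeal := hm.eq_of_le p.isPrime.ne_top hIp
    rw [← this]
    exact hκ
  | exact N₁ N₂ N₃ f g hf hg hfg h₁ h₃ =>
    intro hI
    exact van_of_exact ω k f g hf hg hfg
      (h₁ (hI.trans (f.annihilator_le_of_injective hf)))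
      (h₃ (hI.trans (g.annihilator_le_of_surjective hg)))

include hm in
/-- a nonzero module killed by `m` contains a copy of the residue field -/
lemma exists_injective_of_killed (N : Type u) [AddCommGroup N] [Module A N] [Nontrivial N]
    (hmN : m ≤ Module.annihilator A N) : ∃ f : (A ⧸ m) →ₗ[A] N, Function.Injective f := by
  obtain ⟨x, hx⟩ := exists_ne (0 : N)
  let f₀ : A →ₗ[A] N := LinearMap.toSpanSingleton A N x
  have hle : m ≤ LinearMap.ker f₀ := by
    intro r hr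
    have := Module.mem_annihilator.1 (hmN hr) x
    simpa [f₀] using this
  have hne : LinearMap.ker f₀ ≠ ⊤ := by
    intro h
    apply hx
    have h1 : (1 : A) ∈ LinearMap.ker f₀ := by rw [h]; exact Submodule.mem_top
    simpa [f₀] using h1
  have hker : LinearMap.ker f₀ = m := (hm.eq_of_le hne hle).symm
  refine ⟨Submodule.liftQ _ f₀ (le_of_eq hker.symm), ?_⟩
  rw [← LinearMap.ker_eq_bot, Submodule.ker_liftQ_eq_bot]
  exact le_of_eq hker

include hm in
/-- surjectivity of the restriction `Ext^k(N, ω) → Ext^k(κ, ω)` -/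
lemma extMap_surjective_of_killed (k : ℤ) (hκ : Van ω (k + 1) (A ⧸ m)) (N : Type u)
    [AddCommGroup N] [Module A N] [Module.Finite A N]
    (hmN : m ≤ Module.annihilator A N) (f : (A ⧸ m) →ₗ[A] N) (hf : Function.Injective f) :
    Function.Surjective (extMap (ω⟦k⟧) f) := by
  intro φ
  have hC : m ≤ Module.annihilator A (N ⧸ LinearMap.range f) :=
    hmN.trans (LinearMap.annihilator_le_of_surjective _ (Submodule.mkQ_surjective _))
  obtain ⟨ψ, hψ⟩ := exists_extension ω k f (LinearMap.range f).mkQ hf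
    (Submodule.mkQ_surjective _) f.exact_map_mkQ_range
    (van_of_killed ω m (k + 1) hκ _ hC) φ
  exact ⟨ψ, hψ.symm⟩

include hm in
/-- `Ext^k(κ, ω) ≠ 0` and `Ext^{k+1}(κ, ω) = 0` imply `Ext^k(N, ω) ≠ 0` for `N ≠ 0` -/
theorem not_van_of_killed (k : ℤ) (hκ : ¬ Van ω k (A ⧸ m)) (hκ' : Van ω (k + 1) (A ⧸ m))
    (N : Type u) [AddCommGroup N] [Module A N] [Module.Finite A N] [Nontrivial N]
    (hmN : m ≤ Module.annihilator A N) : ¬ Van ω k N := by
  intro hN
  obtain ⟨f, hf⟩ := exists_injective_of_killed m N hmN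
  apply hκ
  have hs := extMap_surjective_of_killed ω m k hκ' N hmN f hf
  refine ⟨fun φ ψ => ?_⟩
  obtain ⟨φ', rfl⟩ := hs φ
  obtain ⟨ψ', rfl⟩ := hs ψ
  rw [hN.elim φ' ψ']

end Killed

section Heart

/-- `Hom(X, K[k]) ≃ Hom(X[-j], K[i])` for `i + j = k`, linearly -/
noncomputable def shiftLinEquiv' (X K : Dual.D A) (i j k : ℤ) (h : i + j = k) :
    (X ⟶ K⟦k⟧) ≃ₗ[A] (X⟦-j⟧ ⟶ K⟦i⟧) :=
  Linear.homCongr A (Iso.refl X) ((shiftFunctorAdd' (Dual.D A) i j k h).app K) ≪≫ₗ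
    shiftLinEquiv X (K⟦i⟧) j

/-- an object concentrated in degree `j` is a shifted module `Y`, and
`Hom(X, K[i]) ≃ Ext^{i+j}(Y, K)` -/
lemma exists_heart_equiv (X : Dual.D A) (j : ℤ) [X.IsGE j] [X.IsLE j] :
    ∃ (Y : ModuleCat.{u} A),
      Nonempty (Y ≅ (DerivedCategory.homologyFunctor (ModuleCat.{u} A) j).obj X) ∧
      ∀ (K : Dual.D A) (i k : ℤ) (_ : i + j = k),
        Nonempty ((Dual.inD A Y ⟶ K⟦k⟧) ≃ₗ[A] (X ⟶ K⟦i⟧)) := by
  obtain ⟨Y, ⟨e⟩⟩ := exists_iso_singleFunctor_obj_of_isGE_of_isLE X j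
  refine ⟨Y, ⟨((DerivedCategory.homologyFunctor (ModuleCat.{u} A) j).mapIso e ≪≫
      (DerivedCategory.singleFunctorCompHomologyFunctorIso (ModuleCat.{u} A) j).app Y).symm⟩, ?_⟩
  intro K i k h
  let e' : ((DerivedCategory.singleFunctor (ModuleCat.{u} A) 0).obj Y)⟦(-j : ℤ)⟧ ≅
      (DerivedCategory.singleFunctor (ModuleCat.{u} A) j).obj Y :=
    ((DerivedCategory.singleFunctors (ModuleCat.{u} A)).shiftIso (-j) j 0 (by lia)).app Y
  exact ⟨shiftLinEquiv' (Dual.inD A Y) K i j k h ≪≫ₗ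
    Linear.homCongr A (e' ≪≫ e.symm) (Iso.refl _)⟩

end Heart

section PmDef

variable (m : Ideal A)

/-- finite modules killed by `m` -/
def Pm : ObjectProperty (ModuleCat.{u} A) :=
  fun M => Module.Finite A M ∧ m ≤ Module.annihilator A M

lemma Pm_of_equiv {M N : ModuleCat.{u} A} (e : (M : Type u) ≃ₗ[A] (N : Type u)) (h : Pm m M) :
    Pm m N := by
  obtain ⟨h1, h2⟩ := h
  exact ⟨Module.Finite.equiv e, by rw [← e.annihilator_eq]; exact h2⟩

instance : (Pm m).IsClosedUnderIsomorphisms where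
  of_iso e h := Pm_of_equiv m e.toLinearEquiv h

lemma Pm_zero (Z : ModuleCat.{u} A) (hZ : IsZero Z) : Pm m Z := by
  haveI := ModuleCat.subsingleton_of_isZero hZ
  refine ⟨inferInstance, fun r _ => ?_⟩
  rw [Module.mem_annihilator]
  intro z
  exact Subsingleton.elim _ _

end PmDef

section Corner

variable [IsNoetherianRing A] (ω : Dual.D A) (m : Ideal A) [hm : m.IsMaximal]

include hm in
/-- the corner of the spectral sequence `Ext^p(H^{-q}(X), ω) ⇒ Hom(X, ω[p+q])` -/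
theorem nontrivial_corner (X : Dual.D A)
    (hX : ∀ j : ℤ, Pm m ((DerivedCategory.homologyFunctor (ModuleCat.{u} A) j).obj X))
    (i₀ i₁ c : ℤ) [X.IsGE i₀] [X.IsLE c] (h0 : Nontrivial (Dual.HD A X i₀))
    (h1 : ¬ Van ω i₁ (A ⧸ m)) (h1' : ∀ k : ℤ, i₁ < k → Van ω k (A ⧸ m)) :
    Nontrivial (X ⟶ ω⟦i₁ - i₀⟧) := by
  let t : TStructure (Dual.D A) := TStructure.t
  let b : ℤ := i₀ + 1
  let L := (t.truncLT b).obj X
  let R := (t.truncGE b).obj X
  have hT := t.triangleLTGE_distinguished b X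
  haveI hL1 : L.IsLE i₀ := t.isLE_of_le _ (b - 1) i₀ (by simp only [b]; omega)
  haveI hL2 : L.IsGE i₀ := inferInstanceAs (t.IsGE ((t.truncLT b).obj X) i₀)
  haveI hR1 : R.IsGE b := inferInstanceAs (t.IsGE ((t.truncGE b).obj X) b)
  haveI hXc : t.IsLE X c := inferInstanceAs (X.IsLE c)
  haveI hR2 : R.IsLE c := inferInstanceAs (t.IsLE ((t.truncGE b).obj X) c)
  let n : ℕ := (c - b + 1).toNat
  haveI hR3 : R.IsLE (b + n - 1) := t.isLE_of_le R c _ (by simp only [n]; omega)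
  -- `Hom(R, ω[k+1]) = 0`
  have hR : Subsingleton (R ⟶ ω⟦i₁ - i₀ + 1⟧) :=
    subsingleton_hom_of_bounded' ω (Pm m) (Pm_zero m) (i₁ - i₀ + 1) b
      (fun k hk M hM => by
        haveI := hM.1
        exact van_of_killed ω m k (h1' k (by simp only [b] at hk; omega)) M hM.2) n R
      (fun j => _root_.Helper5.DCat.prop_homology_truncGE (Pm m) X b hX (Pm_zero m) j)
  have hR' : Subsingleton (R⟦(-1 : ℤ)⟧ ⟶ ω⟦i₁ - i₀⟧) :=
    subsingleton_shift_hom R ω (i₁ - i₀) (-1) (i₁ - i₀ + 1) (by omega) hR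
  -- `L` is a module in degree `i₀`
  obtain ⟨Y, ⟨eY⟩, hY⟩ := exists_heart_equiv L i₀
  obtain ⟨E⟩ := hY ω (i₁ - i₀) i₁ (by omega)
  have i1 : IsIso ((DerivedCategory.homologyFunctor (ModuleCat.{u} A) i₀).map
      ((t.triangleLTGE b).obj X).mor₁) :=
    _root_.Helper5.TwoTerm.isIso_homologyMap_mor₁ _ hT (i₀ - 1) i₀ (by lia)
      (isZero_of_isGE R b (i₀ - 1) (by simp only [b]; lia))
      (isZero_of_isGE R b i₀ (by simp only [b]; lia))
  let eY' : Y ≅ (DerivedCategory.homologyFunctor (ModuleCat.{u} A) i₀).obj X :=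
    eY ≪≫ @asIso _ _ _ _ _ i1
  have hPY : Pm m Y := (Pm m).prop_of_iso eY'.symm (hX i₀)
  haveI : Module.Finite A Y := hPY.1
  haveI : Nontrivial Y := eY'.toLinearEquiv.toEquiv.nontrivial
  have hne : ¬ Van ω i₁ Y := not_van_of_killed ω m i₁ h1 (h1' _ (by omega)) Y hPY.2
  unfold Van at hne
  rw [not_subsingleton_iff_nontrivial] at hne
  obtain ⟨φ₀, hφ₀⟩ := exists_ne (0 : Dual.inD A Y ⟶ ω⟦i₁⟧)
  have hφ : E φ₀ ≠ 0 := fun h => hφ₀ (by simpa using h)
  have hTi := inv_rot_of_distTriang _ hT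
  have h0' : ((t.triangleLTGE b).obj X).invRotate.mor₁ ≫ E φ₀ = 0 := hR'.elim _ _
  obtain ⟨ψ, hψ⟩ := Triangle.yoneda_exact₂ _ hTi (E φ₀) h0'
  refine ⟨ψ, 0, fun h => hφ ?_⟩
  rw [hψ, h]
  exact comp_zero

end Corner

section Residue

variable [IsNoetherianRing A] {ω : Dual.D A} (hω : Dual.IsDualizing A ω) (d : Data A ω)

include hω in
/-- the cohomology of `D(M)` for a finite module `M` killed by `m` -/
lemma Pm_homology_D (m : Ideal A) (M : Type u) [AddCommGroup M] [Module A M] [Module.Finite A M]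
    (hM : m ≤ Module.annihilator A M) (j : ℤ) :
    Pm m ((DerivedCategory.homologyFunctor (ModuleCat.{u} A) j).obj (D d (ModuleCat.of A M))) := by
  let e : (Dual.inD A M ⟶ ω⟦j⟧) ≃ₗ[A] Dual.HD A (D d (ModuleCat.of A M)) j :=
    extIso d (ModuleCat.of A M) j
  haveI := finite_ext hω M j
  refine ⟨Module.Finite.equiv e, ?_⟩
  rw [← e.annihilator_eq]
  exact hM.trans (annihilator_le_annihilator_ext (ω⟦j⟧) M)

theorem main_S0364 (A : Type u) [CommRing A] [IsNoetherianRing A] (ω : Dual.D A)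
    (hω : Dual.IsDualizing A ω) (m : Ideal A) [hm : m.IsMaximal] :
    ∃ n : ℤ, (∀ i : ℤ, i ≠ n → Subsingleton (Dual.inD A (A ⧸ m) ⟶ ω⟦i⟧)) ∧
      Nonempty ((Dual.inD A (A ⧸ m) ⟶ ω⟦n⟧) ≃ₗ[A] (A ⧸ m)) := by
  obtain ⟨d⟩ := nonempty_data hω
  let X : Dual.D A := D d (ModuleCat.of A (A ⧸ m))
  have hXP := Pm_homology_D hω d m (A ⧸ m) (by rw [Ideal.annihilator_quotient])
  let hIso : ∀ j : ℤ, (Dual.inD A (A ⧸ m) ⟶ ω⟦j⟧) ≃ₗ[A] Dual.HD A X j :=
    fun j => extIso d (ModuleCat.of A (A ⧸ m)) j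
  have hvan_iff : ∀ j : ℤ, Van ω j (A ⧸ m) ↔ Subsingleton (Dual.HD A X j) :=
    fun j => (hIso j).toEquiv.subsingleton_congr
  haveI : Nontrivial (A ⧸ m) := Ideal.Quotient.nontrivial_iff.2 hm.ne_top
  let η : (A ⧸ m) ≃ₗ[A] (X ⟶ ω) := etaEquiv d hω (A ⧸ m)
  obtain ⟨a, b, hab⟩ := hω.finite_injective_dimension
  -- some `Ext^j(κ, ω)` is nonzero
  have hex : ∃ j : ℤ, ¬ Van ω j (A ⧸ m) := by
    by_contra hcon
    push Not at hcon
    haveI : X.IsGE 0 := isGE_of_subsingleton X 0 (fun i _ => (hvan_iff i).1 (hcon i))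
    haveI : X.IsLE (-1) := isLE_of_subsingleton X (-1) (fun i _ => (hvan_iff i).1 (hcon i))
    have hz : IsZero X := (TStructure.t).isZero X (-1) 0 (by lia)
    haveI : Subsingleton (X ⟶ ω) := ⟨fun f g => hz.eq_of_src f g⟩
    exact not_subsingleton (A ⧸ m) η.toEquiv.subsingleton
  obtain ⟨i₀, hi₀, hmin⟩ := Int.exists_least_of_bdd (P := fun j => ¬ Van ω j (A ⧸ m))
    ⟨a, fun z hz => by
      by_contra hcon
      push Not at hcon
      exact hz (hab (A ⧸ m) z (Or.inl hcon))⟩ hex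
  obtain ⟨i₁, hi₁, hmax⟩ := Int.exists_greatest_of_bdd (P := fun j => ¬ Van ω j (A ⧸ m))
    ⟨b, fun z hz => by
      by_contra hcon
      push Not at hcon
      exact hz (hab (A ⧸ m) z (Or.inr hcon))⟩ hex
  have hlow : ∀ j : ℤ, j < i₀ → Van ω j (A ⧸ m) := by
    intro j hj
    by_contra hcon
    have := hmin j hcon
    omega
  have hhigh : ∀ j : ℤ, i₁ < j → Van ω j (A ⧸ m) := by
    intro j hj
    by_contra hcon
    have := hmax j hcon
    omega
  haveI : X.IsGE i₀ := isGE_of_subsingleton X i₀ (fun i hi => (hvan_iff i).1 (hlow i hi))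
  haveI : X.IsLE i₁ := isLE_of_subsingleton X i₁ (fun i hi => (hvan_iff i).1 (hhigh i hi))
  have hnt0 : Nontrivial (Dual.HD A X i₀) := by
    rw [← not_subsingleton_iff_nontrivial, ← hvan_iff]
    exact hi₀
  have hcorner := nontrivial_corner ω m X hXP i₀ i₁ i₁ hnt0 hi₁ hhigh
  have heq : i₁ - i₀ = 0 := by
    by_contra hne
    have : Subsingleton (X ⟶ ω⟦i₁ - i₀⟧) := vanD_ne_zero d hω (i₁ - i₀) hne (A ⧸ m)
    exact not_subsingleton _ this
  have heq' : i₁ = i₀ := by omega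
  subst heq'
  refine ⟨i₁, fun i hi => ?_, ?_⟩
  · rcases lt_or_gt_of_ne hi with h | h
    · exact hlow i h
    · exact hhigh i h
  · -- `X` is a module `Y` in degree `i₁`
    obtain ⟨Y, ⟨eY⟩, hY⟩ := exists_heart_equiv X i₁
    obtain ⟨E⟩ := hY ω 0 i₁ (by omega)
    have hPY : Pm m Y := (Pm m).prop_of_iso eY.symm (hXP i₁)
    haveI : Module.Finite A Y := hPY.1
    haveI : Nontrivial Y := eY.toLinearEquiv.toEquiv.nontrivial
    -- `Ext^{i₁}(Y, ω) ≃ κ`
    let E' : (Dual.inD A Y ⟶ ω⟦i₁⟧) ≃ₗ[A] (A ⧸ m) :=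
      E ≪≫ₗ Linear.homCongr A (Iso.refl X) ((shiftFunctorZero (Dual.D A) ℤ).app ω) ≪≫ₗ η.symm
    haveI : IsSimpleModule A (A ⧸ m) := isSimpleModule_iff_isCoatom.2 (Ideal.isMaximal_def.1 hm)
    haveI : IsSimpleModule A (Dual.inD A Y ⟶ ω⟦i₁⟧) := (E'.isSimpleModule_iff).2 inferInstance
    obtain ⟨f, hf⟩ := exists_injective_of_killed m Y hPY.2
    have hs := extMap_surjective_of_killed ω m i₁ (hhigh _ (by omega)) Y hPY.2 f hf
    have hinj : Function.Injective (extMap (ω⟦i₁⟧) f) := by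
      rcases LinearMap.injective_or_eq_zero (extMap (ω⟦i₁⟧) f) with h | h
      · exact h
      · exfalso
        apply hi₁
        refine ⟨fun φ ψ => ?_⟩
        obtain ⟨φ', rfl⟩ := hs φ
        obtain ⟨ψ', rfl⟩ := hs ψ
        rw [h]
        rfl
    exact ⟨(LinearEquiv.ofBijective (extMap (ω⟦i₁⟧) f) ⟨hinj, hs⟩).symm ≪≫ₗ E'⟩

end Residue

end Groth.Agent.Helper3.DualFun
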