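import Mathlib
import Groth.Prelude.Def_Wider
import Groth.Prelude.Def_DRing2
import Groth.Agent.Lib.Helper3.DualFun3

/-!
# Dualizing complexes: `Ext^{-dim M}(M, ω) ≠ 0`
-/

set_option autoImplicit false
universe u
open CategoryTheory CategoryTheory.Limits Pretriangulated Triangulated Opposite

attribute [local instance] HasDerivedCategory.standard

namespace Groth.Agent.Helper3.DualFun

open DerivedCategory Groth.Agent.Helper3.DualCx Groth.Agent.Helper3.RegGlDim

variable {A : Type u} [CommRing A]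

section Kill

variable (x : A)

/-- modules killed by `x` -/
def Px : ObjectProperty (ModuleCat.{u} A) := fun M => x ∈ Module.annihilator A M

instance : (Px x).IsClosedUnderIsomorphisms where
  of_iso e h := by
    unfold Px at h ⊢
    rw [← e.toLinearEquiv.annihilator_eq]
    exact h

lemma Px_zero (Z : ModuleCat.{u} A) (hZ : IsZero Z) : Px x Z := by
  haveI := ModuleCat.subsingleton_of_isZero hZ
  unfold Px
  rw [Module.mem_annihilator]
  intro z
  exact Subsingleton.elim _ _

/-- an object concentrated in one degree whose cohomology is killed by `x` is killed by `x` -/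
lemma smul_id_eq_zero_of_heart (X : Dual.D A) (j : ℤ) [X.IsGE j] [X.IsLE j]
    (hX : Px x ((DerivedCategory.homologyFunctor (ModuleCat.{u} A) j).obj X)) :
    x • 𝟙 X = 0 := by
  obtain ⟨Y, ⟨e⟩⟩ := exists_iso_singleFunctor_obj_of_isGE_of_isLE X j
  have hY : Px x Y := (Px x).prop_of_iso
    ((DerivedCategory.homologyFunctor (ModuleCat.{u} A) j).mapIso e ≪≫
      (DerivedCategory.singleFunctorCompHomologyFunctorIso (ModuleCat.{u} A) j).app Y) hX
  have h1 : x • 𝟙 Y = 0 := by
    ext y
    exact Module.mem_annihilator.1 hY y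
  have h2 : x • 𝟙 ((DerivedCategory.singleFunctor (ModuleCat.{u} A) j).obj Y) = 0 := by
    rw [← CategoryTheory.Functor.map_id, ← Functor.map_smul, h1, Functor.map_zero]
  have h3 : 𝟙 X = e.hom ≫ 𝟙 _ ≫ e.inv := by simp
  rw [h3, ← Linear.comp_smul, ← Linear.smul_comp, h2, zero_comp, comp_zero]

/-- a bounded object whose cohomology is killed by `x` is killed by a power of `x` -/
theorem pow_smul_id_eq_zero (c : ℤ) (n : ℕ) :
    ∀ (X : Dual.D A) [X.IsGE c] [X.IsLE (c + n - 1)]
      (_ : ∀ j : ℤ, Px x ((DerivedCategory.homologyFunctor (ModuleCat.{u} A) j).obj X)),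
      x ^ n • 𝟙 X = 0 := by
  induction n with
  | zero =>
    intro X _ _ _
    have hz : IsZero X := (TStructure.t).isZero X (c + (0 : ℕ) - 1) c (by simp)
    exact hz.eq_of_src _ _
  | succ n ih =>
    intro X _ _ hX
    let t : TStructure (Dual.D A) := TStructure.t
    let b : ℤ := c + n
    have hT := t.triangleLTGE_distinguished b X
    haveI hA1 : ((t.truncLT b).obj X).IsLE (c + n - 1) :=
      inferInstanceAs (t.IsLE ((t.truncLT b).obj X) (b - 1))
    haveI hA2 : ((t.truncLT b).obj X).IsGE c :=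
      inferInstanceAs (t.IsGE ((t.truncLT b).obj X) c)
    haveI hB1 : ((t.truncGE b).obj X).IsGE b := inferInstanceAs (t.IsGE ((t.truncGE b).obj X) b)
    haveI hNb : t.IsLE X b :=
      t.isLE_of_le X (c + (n + 1 : ℕ) - 1) b (by simp only [b]; push_cast; omega)
    haveI hB2 : ((t.truncGE b).obj X).IsLE b := inferInstanceAs (t.IsLE ((t.truncGE b).obj X) b)
    have h1 : x ^ n • 𝟙 ((t.truncLT b).obj X) = 0 :=
      ih _ (fun j => _root_.Helper5.DCat.prop_homology_truncLT (Px x) X b hX (Px_zero x) j)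
    have h3 : x • 𝟙 ((t.truncGE b).obj X) = 0 :=
      smul_id_eq_zero_of_heart x _ b
        (_root_.Helper5.DCat.prop_homology_truncGE (Px x) X b hX (Px_zero x) b)
    have h4 : (x • 𝟙 X) ≫ (t.truncGEπ b).app X = 0 := by
      rw [Linear.smul_comp, Category.id_comp]
      have : (t.truncGEπ b).app X = (t.truncGEπ b).app X ≫ 𝟙 ((t.truncGE b).obj X) :=
        (Category.comp_id _).symm
      rw [this, ← Linear.comp_smul, h3, comp_zero]
    obtain ⟨g, hg⟩ : ∃ g : X ⟶ (t.truncLT b).obj X, x • 𝟙 X = g ≫ (t.truncLTι b).app X :=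
      Triangle.coyoneda_exact₂ _ hT (x • 𝟙 X) h4
    have h5 : x ^ (n + 1) • 𝟙 X = x ^ n • (x • 𝟙 X) := by
      rw [smul_smul, pow_succ]
    have h6 : x ^ n • (g ≫ (t.truncLTι b).app X) =
        g ≫ (x ^ n • 𝟙 ((t.truncLT b).obj X)) ≫ (t.truncLTι b).app X := by
      rw [Linear.smul_comp, Category.id_comp, Linear.comp_smul]
    rw [h5, hg, h6, h1, zero_comp, comp_zero]

end Kill

section Main

theorem main_S19859 (A : Type u) [CommRing A] [IsLocalRing A]
    [IsNoetherianRing A] (ω : Dual.D A) (hω : Dual.IsDualizing A ω) (hn : Dual.IsNormalized A ω)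
    (M : Type u) [AddCommGroup M] [Module A M] [Module.Finite A M] [Nontrivial M]
    (d : ℕ) (hd : Module.supportDim A M = d) :
    Nontrivial (Dual.inD A M ⟶ ω⟦(-(d : ℤ))⟧) := by
  by_contra hcon
  rw [not_nontrivial_iff_subsingleton] at hcon
  obtain ⟨dat⟩ := nonempty_data hω
  let X : Dual.D A := D dat (ModuleCat.of A M)
  let hIso : ∀ j : ℤ, (Dual.inD A M ⟶ ω⟦j⟧) ≃ₗ[A] Dual.HD A X j :=
    fun j => extIso dat (ModuleCat.of A M) j
  let η : M ≃ₗ[A] (X ⟶ ω) := etaEquiv dat hω M
  -- the range of nonvanishing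
  have hrange : ∀ i : ℤ, Nontrivial (Dual.inD A M ⟶ ω⟦i⟧) → (-(d : ℤ) < i ∧ i ≤ 0) := by
    intro i hi
    obtain ⟨h1, h2⟩ := (main_S0366 A ω hω hn M d hd i).1 hi
    refine ⟨lt_of_le_of_ne h1 ?_, h2⟩
    rintro rfl
    exact not_subsingleton _ hcon
  -- a chain of primes in the support of `M`
  obtain ⟨l, hl⟩ := (Order.le_krullDim_iff (α := Module.support A M) (n := d)).1
    (by
      have : Module.supportDim A M = Order.krullDim (Module.support A M) := rfl
      rw [← this, hd])
  let p₀ : PrimeSpectrum A := (l.head).1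
  have hp₀ : p₀ ∈ Module.support A M := (l.head).2
  -- `p₀` is not in the support of any `Ext^i(M, ω)`
  have hnot : ∀ i : ℤ, p₀ ∉ Module.support A (Dual.inD A M ⟶ ω⟦i⟧) := by
    intro i hi
    haveI : Nontrivial (Dual.inD A M ⟶ ω⟦i⟧) := by
      rw [← Module.nonempty_support_iff (R := A)]
      exact ⟨p₀, hi⟩
    obtain ⟨h1, h2⟩ := hrange i inferInstance
    have h3 := (main_S0366 A ω hω hn M d hd i).2
    let q : LTSeries (Module.support A (Dual.inD A M ⟶ ω⟦i⟧)) :=
      { length := l.length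
        toFun := fun k => ⟨(l k).1, Module.mem_support_mono
          (show (l.head).1 ≤ (l k).1 from (l.monotone (Fin.zero_le k))) hi⟩
        step := fun k => l.step k }
    have h4 : ((q.length : ℕ) : WithBot ℕ∞) ≤ Module.supportDim A (Dual.inD A M ⟶ ω⟦i⟧) :=
      Order.LTSeries.length_le_krullDim q
    have h5 : ((d : ℕ) : WithBot ℕ∞) ≤ (((-i).toNat : ℕ) : WithBot ℕ∞) := by
      have : q.length = d := hl
      rw [← this]
      exact h4.trans h3
    have h6 : d ≤ (-i).toNat := by exact_mod_cast h5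
    omega
  -- elements killing the `Ext` modules
  have hx : ∀ i : ℤ, ∃ x : A, x ∈ Module.annihilator A (Dual.inD A M ⟶ ω⟦i⟧) ∧
      x ∉ p₀.asIdeal := by
    intro i
    haveI := finite_ext hω M i
    have := hnot i
    rw [Module.mem_support_iff_of_finite] at this
    exact SetLike.not_le_iff_exists.1 this
  choose x hx1 hx2 using hx
  let y : A := ∏ i ∈ Finset.Icc (-(d : ℤ)) 0, x i
  have hy2 : y ∉ p₀.asIdeal := by
    intro hy
    obtain ⟨i, -, hi⟩ := (Ideal.IsPrime.prod_mem_iff (hp := p₀.isPrime)).1 hy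
    exact hx2 i hi
  have hy1 : ∀ i : ℤ, y ∈ Module.annihilator A (Dual.inD A M ⟶ ω⟦i⟧) := by
    intro i
    by_cases hi : i ∈ Finset.Icc (-(d : ℤ)) 0
    · exact Ideal.mem_of_dvd _ (Finset.dvd_prod_of_mem x hi) (hx1 i)
    · haveI : Subsingleton (Dual.inD A M ⟶ ω⟦i⟧) := by
        by_contra hne
        rw [not_subsingleton_iff_nontrivial] at hne
        obtain ⟨h1, h2⟩ := hrange i hne
        apply hi
        rw [Finset.mem_Icc]
        exact ⟨h1.le, h2⟩
      rw [Module.mem_annihilator]
      intro φ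
      exact Subsingleton.elim _ _
  -- `X` is bounded with cohomology killed by `y`
  have hXy : ∀ j : ℤ, Px y ((DerivedCategory.homologyFunctor (ModuleCat.{u} A) j).obj X) := by
    intro j
    unfold Px
    have := (hIso j).annihilator_eq
    rw [← (hIso j).annihilator_eq]
    exact hy1 j
  have hsub : ∀ j : ℤ, (j < -(d : ℤ) ∨ 0 < j) → Subsingleton (Dual.HD A X j) := by
    intro j hj
    rw [← (hIso j).toEquiv.subsingleton_congr]
    by_contra hne
    rw [not_subsingleton_iff_nontrivial] at hne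
    obtain ⟨h1, h2⟩ := hrange j hne
    omega
  haveI : X.IsGE (-(d : ℤ)) := isGE_of_subsingleton X _ (fun i hi => hsub i (Or.inl hi))
  haveI : X.IsLE 0 := isLE_of_subsingleton X 0 (fun i hi => hsub i (Or.inr hi))
  haveI : X.IsLE (-(d : ℤ) + ((d + 1 : ℕ) : ℕ) - 1) :=
    (TStructure.t).isLE_of_le X 0 _ (by push_cast; omega)
  have hkill : y ^ (d + 1) • 𝟙 X = 0 := pow_smul_id_eq_zero y (-(d : ℤ)) (d + 1) X hXy
  -- hence `y ^ (d+1)` kills `M`
  have hann : y ^ (d + 1) ∈ Module.annihilator A M := by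
    rw [Module.mem_annihilator]
    intro z
    apply η.injective
    rw [map_smul, map_zero]
    have : η z = 𝟙 X ≫ η z := (Category.id_comp _).symm
    rw [this, ← Linear.smul_comp, hkill, zero_comp]
  have h7 : y ^ (d + 1) ∈ p₀.asIdeal := Module.annihilator_le_of_mem_support hp₀ hann
  exact hy2 (p₀.isPrime.mem_of_pow_mem _ h7)

end Main

end Groth.Agent.Helper3.DualFun
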