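import Mathlib
import Groth.Prelude.Def_Wider
import Groth.Prelude.Def_DRing2
import Groth.Agent.Lib.Helper3.DualFun4

/-!
# Dualizing complexes: supports of `Ext^i(M, ω)` and the dimension function
-/

set_option autoImplicit false
universe u
open CategoryTheory CategoryTheory.Limits Pretriangulated Triangulated Opposite

attribute [local instance] HasDerivedCategory.standard

namespace Groth.Agent.Helper3.DualSupp

open DerivedCategory Groth.Agent.Helper3.DualCx Groth.Agent.Helper3.RegGlDim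
  Groth.Agent.Helper3.DualFun

variable {A : Type u} [CommRing A]

/-- the support of `Ext^i(M, ω)` -/
def ES (ω : Dual.D A) (i : ℤ) (M : Type u) [AddCommGroup M] [Module A M] :
    Set (PrimeSpectrum A) :=
  Module.support A (Dual.inD A M ⟶ ω⟦i⟧)

section Basic

variable (ω : Dual.D A) (i : ℤ)

lemma ES_eq_empty_of_van (M : Type u) [AddCommGroup M] [Module A M] (h : Van ω i M) :
    ES ω i M = ∅ := by
  haveI : Subsingleton (Dual.inD A M ⟶ ω⟦i⟧) := h
  exact Module.support_eq_empty

lemma ES_eq_empty_of_subsingleton (M : Type u) [AddCommGroup M] [Module A M] [Subsingleton M] :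
    ES ω i M = ∅ :=
  ES_eq_empty_of_van ω i M (van_of_subsingleton ω i M)

/-- `Supp Ext^i(M, ω) ⊆ V(Ann M)` -/
lemma annihilator_le_of_mem_ES (M : Type u) [AddCommGroup M] [Module A M] (q : PrimeSpectrum A)
    (hq : q ∈ ES ω i M) : Module.annihilator A M ≤ q.asIdeal :=
  (annihilator_le_annihilator_ext (ω⟦i⟧) M).trans (Module.annihilator_le_of_mem_support hq)

lemma le_of_mem_ES_quotient (I : Ideal A) (q : PrimeSpectrum A) (hq : q ∈ ES ω i (A ⧸ I)) :
    I ≤ q.asIdeal := by
  have := annihilator_le_of_mem_ES ω i (A ⧸ I) q hq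
  rwa [Ideal.annihilator_quotient] at this

lemma ES_subset_of_equiv {M N : Type u} [AddCommGroup M] [Module A M] [AddCommGroup N]
    [Module A N] (e : M ≃ₗ[A] N) : ES ω i M ⊆ ES ω i N :=
  Module.support_subset_of_injective (extMap (ω⟦i⟧) e.symm.toLinearMap)
    (extMap_injective_of_equiv (ω⟦i⟧) e.symm)

lemma ES_exact {N₁ N₂ N₃ : Type u} [AddCommGroup N₁] [Module A N₁] [AddCommGroup N₂]
    [Module A N₂] [AddCommGroup N₃] [Module A N₃] (f : N₁ →ₗ[A] N₂) (g : N₂ →ₗ[A] N₃)
    (hf : Function.Injective f) (hg : Function.Surjective g) (hfg : Function.Exact f g) :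
    ES ω i N₂ ⊆ ES ω i N₃ ∪ ES ω i N₁ :=
  support_subset_of_exact (extMap (ω⟦i⟧) g) (extMap (ω⟦i⟧) f) (exact_extMap (ω⟦i⟧) f g hf hg hfg)

end Basic

section Noeth

variable [IsNoetherianRing A] {ω : Dual.D A} (hω : Dual.IsDualizing A ω)

include hω in
/-- Nakayama: for `x ∈ q` regular on `M`, `q ∈ Supp Ext^i(M, ω)` implies
`q ∈ Supp Ext^{i+1}(M/xM, ω)` -/
lemma mem_ES_quotSMulTop (M : Type u) [AddCommGroup M] [Module A M] [Module.Finite A M] (x : A)
    (hreg : IsSMulRegular M x) (i : ℤ) (q : PrimeSpectrum A) (hx : x ∈ q.asIdeal)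
    (hq : q ∈ ES ω i M) : q ∈ ES ω (i + 1) (QuotSMulTop x M) := by
  haveI := finite_ext hω M i
  obtain ⟨Ψ, hΨ⟩ := exists_quotSMulTop_injective ω M x hreg i
  apply Module.support_subset_of_injective Ψ hΨ
  rw [Module.support_quotSMulTop]
  refine ⟨hq, ?_⟩
  rw [PrimeSpectrum.mem_zeroLocus, Set.singleton_subset_iff]
  exact hx

omit [IsNoetherianRing A] in
/-- dévissage: a prime in the support of `Ext^i(M, ω)` is in the support of `Ext^i(A/q', ω)`
for some prime `q'` in the support of `M` -/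
lemma exists_mem_ES_quotient_of_mem_ES [IsNoetherianRing A] (ω : Dual.D A) (i : ℤ)
    (q : PrimeSpectrum A) (M : Type u) [AddCommGroup M] [Module A M]
    [hM : Module.Finite A M] (hq : q ∈ ES ω i M) :
    ∃ q' : PrimeSpectrum A, q' ∈ Module.support A M ∧ q ∈ ES ω i (A ⧸ q'.asIdeal) := by
  induction hM using IsNoetherianRing.induction_on_isQuotientEquivQuotientPrime A with
  | subsingleton N =>
    rw [ES_eq_empty_of_subsingleton] at hq
    exact absurd hq (Set.notMem_empty _)
  | quotient N p e =>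
    refine ⟨p, ?_, ES_subset_of_equiv ω i e hq⟩
    rw [e.support_eq, Module.mem_support_iff_of_finite, Ideal.annihilator_quotient]
  | exact N₁ N₂ N₃ f g hf hg hfg h₁ h₃ =>
    rcases ES_exact ω i f g hf hg hfg hq with h | h
    · obtain ⟨q', hq'1, hq'2⟩ := h₃ h
      exact ⟨q', Module.support_subset_of_surjective g hg hq'1, hq'2⟩
    · obtain ⟨q', hq'1, hq'2⟩ := h₁ h
      exact ⟨q', Module.support_subset_of_injective f hf hq'1, hq'2⟩

/-- a bounded object with finite cohomology not supported at `p` is killed by some `y ∉ p` -/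
theorem exists_smul_id_eq_zero (X : Dual.D A) (a b : ℤ) [X.IsGE a] [X.IsLE b]
    (hfin : ∀ j : ℤ, Module.Finite A (Dual.HD A X j)) (p : PrimeSpectrum A)
    (hp : ∀ j : ℤ, p ∉ Module.support A (Dual.HD A X j)) :
    ∃ y : A, y ∉ p.asIdeal ∧ y • 𝟙 X = 0 := by
  have hx : ∀ j : ℤ, ∃ x : A, x ∈ Module.annihilator A (Dual.HD A X j) ∧ x ∉ p.asIdeal := by
    intro j
    haveI := hfin j
    have := hp j
    rw [Module.mem_support_iff_of_finite] at this
    exact SetLike.not_le_iff_exists.1 this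
  choose x hx1 hx2 using hx
  let y : A := ∏ j ∈ Finset.Icc a b, x j
  have hy2 : y ∉ p.asIdeal := by
    intro hy
    obtain ⟨j, -, hj⟩ := (Ideal.IsPrime.prod_mem_iff (hp := p.isPrime)).1 hy
    exact hx2 j hj
  have hy1 : ∀ j : ℤ, Px y ((DerivedCategory.homologyFunctor (ModuleCat.{u} A) j).obj X) := by
    intro j
    unfold Px
    by_cases hj : j ∈ Finset.Icc a b
    · exact Ideal.mem_of_dvd _ (Finset.dvd_prod_of_mem x hj) (hx1 j)
    · have hz : IsZero ((DerivedCategory.homologyFunctor (ModuleCat.{u} A) j).obj X) := by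
        rw [Finset.mem_Icc] at hj
        by_cases hja : a ≤ j
        · exact isZero_of_isLE X b j (by omega)
        · exact isZero_of_isGE X a j (by omega)
      haveI := ModuleCat.subsingleton_of_isZero hz
      rw [Module.mem_annihilator]
      intro z
      exact Subsingleton.elim _ _
  let n : ℕ := (b - a + 1).toNat
  haveI : X.IsLE (a + n - 1) := (TStructure.t).isLE_of_le X b _ (by simp only [n]; omega)
  refine ⟨y ^ n, fun h => hy2 (p.isPrime.mem_of_pow_mem _ h), ?_⟩
  exact pow_smul_id_eq_zero y a n X hy1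

/-- `Ext^j(A, ω) ≃ H^j(ω)` -/
noncomputable def extSelfIso (d : Data A ω) (j : ℤ) :
    (Dual.inD A A ⟶ ω⟦j⟧) ≃ₗ[A] Dual.HD A ω j :=
  extIso d (ModuleCat.of A A) j ≪≫ₗ
    ((DerivedCategory.homologyFunctor (ModuleCat.{u} A) j).mapIso (DA d)).toLinearEquiv

include hω in
lemma ES_self_eq (j : ℤ) : ES ω j A = Module.support A (Dual.HD A ω j) := by
  obtain ⟨d⟩ := nonempty_data hω
  exact (extSelfIso d j).support_eq

include hω in
/-- some `H^i(ω)` is supported at `p` -/
theorem exists_mem_ES_self (p : PrimeSpectrum A) : ∃ i : ℤ, p ∈ ES ω i A := by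
  by_contra hcon
  push Not at hcon
  obtain ⟨a, b, hab⟩ := hω.finite_injective_dimension
  haveI : ω.IsGE a := isGE_of_subsingleton ω a
    (fun i hi => (van_self_iff ω i).1 (hab A i (Or.inl hi)))
  haveI : ω.IsLE b := isLE_of_subsingleton ω b
    (fun i hi => (van_self_iff ω i).1 (hab A i (Or.inr hi)))
  obtain ⟨y, hy1, hy2⟩ := exists_smul_id_eq_zero ω a b hω.finite_cohomology p
    (fun j => by rw [← ES_self_eq hω j]; exact hcon j)
  have h0 : y • 𝟙 ω = (0 : A) • 𝟙 ω := by rw [hy2, zero_smul]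
  have : y = 0 := hω.toEnd_bijective.1 h0
  exact hy1 (this ▸ p.asIdeal.zero_mem)

lemma isSMulRegular_quotient_prime' (p : Ideal A) [p.IsPrime] (x : A) (hx : x ∉ p) :
    IsSMulRegular (A ⧸ p) x := by
  intro a b hab
  obtain ⟨a, rfl⟩ := Ideal.Quotient.mk_surjective a
  obtain ⟨b, rfl⟩ := Ideal.Quotient.mk_surjective b
  have h1 : Ideal.Quotient.mk p (x * a) = Ideal.Quotient.mk p (x * b) := by
    simpa [Algebra.smul_def] using hab
  rw [Ideal.Quotient.eq, ← mul_sub] at h1
  rw [Ideal.Quotient.eq]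
  exact (Ideal.IsPrime.mem_or_mem ‹_› h1).resolve_left hx

lemma le_annihilator_quotSMulTop' (M : Type u) [AddCommGroup M] [Module A M] (x : A) :
    Module.annihilator A M ⊔ Ideal.span {x} ≤ Module.annihilator A (QuotSMulTop x M) := by
  rw [sup_le_iff]
  constructor
  · exact LinearMap.annihilator_le_of_surjective _ (Submodule.mkQ_surjective _)
  · rw [Ideal.span_le]
    intro y hy
    rw [Set.mem_singleton_iff.1 hy]
    show x ∈ Module.annihilator A _
    rw [Module.mem_annihilator]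
    intro q
    obtain ⟨m, rfl⟩ := Submodule.mkQ_surjective _ q
    rw [← map_smul, Submodule.mkQ_apply, Submodule.Quotient.mk_eq_zero]
    exact Submodule.smul_mem_pointwise_smul m x ⊤ Submodule.mem_top

lemma lt_sup_span' (p : Ideal A) (x : A) (hxp : x ∉ p) : p < p ⊔ Ideal.span {x} := by
  refine lt_of_le_of_ne le_sup_left ?_
  intro h
  apply hxp
  rw [h]
  exact Ideal.mem_sup_right (Ideal.subset_span rfl)

include hω in
/-- if no `Ext^i(A/p, ω)` is supported at `p`, then no `Ext^i(M, ω)` is -/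
theorem not_mem_ES_of_annihilated (p : PrimeSpectrum A)
    (h : ∀ i : ℤ, p ∉ ES ω i (A ⧸ p.asIdeal)) (I : Ideal A) :
    ∀ (M : Type u) [AddCommGroup M] [Module A M] [Module.Finite A M],
      I ≤ Module.annihilator A M → ∀ i : ℤ, p ∉ ES ω i M := by
  induction I using IsNoetherian.induction with
  | hgt I IH =>
    intro M _ _ hM
    induction hM using IsNoetherianRing.induction_on_isQuotientEquivQuotientPrime A with
    | subsingleton N =>
      intro _ i
      rw [ES_eq_empty_of_subsingleton]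
      exact Set.notMem_empty _
    | quotient N p' e =>
      intro hI i hmem
      have hmem' : p ∈ ES ω i (A ⧸ p'.asIdeal) := ES_subset_of_equiv ω i e hmem
      have hIp : I ≤ p'.asIdeal := by
        rw [e.annihilator_eq, Ideal.annihilator_quotient] at hI
        exact hI
      rcases lt_or_eq_of_le hIp with hlt | heq
      · exact IH p'.asIdeal hlt (A ⧸ p'.asIdeal) (by rw [Ideal.annihilator_quotient]) i hmem'
      · have hle : p'.asIdeal ≤ p.asIdeal := le_of_mem_ES_quotient ω i _ p hmem'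
        rcases lt_or_eq_of_le hle with hlt' | heq'
        · haveI := p'.isPrime
          obtain ⟨x, hxp, hxp'⟩ := Set.exists_of_ssubset hlt'
          have hreg := isSMulRegular_quotient_prime' p'.asIdeal x hxp'
          have hJ : I < p'.asIdeal ⊔ Ideal.span {x} := heq ▸ lt_sup_span' p'.asIdeal x hxp'
          have hann : p'.asIdeal ⊔ Ideal.span {x} ≤
              Module.annihilator A (QuotSMulTop x (A ⧸ p'.asIdeal)) := by
            have := le_annihilator_quotSMulTop' (A ⧸ p'.asIdeal) x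
            rwa [Ideal.annihilator_quotient] at this
          exact IH _ hJ _ hann (i + 1)
            (mem_ES_quotSMulTop hω (A ⧸ p'.asIdeal) x hreg i p hxp hmem')
        · have : p' = p := PrimeSpectrum.ext heq'
          rw [this] at hmem'
          exact h i hmem'
    | exact N₁ N₂ N₃ f g hf hg hfg h₁ h₃ =>
      intro hI i hmem
      rcases ES_exact ω i f g hf hg hfg hmem with h' | h'
      · exact h₃ (hI.trans (g.annihilator_le_of_surjective hg)) i h'
      · exact h₁ (hI.trans (f.annihilator_le_of_injective hf)) i h'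

include hω in
/-- some `Ext^i(A/p, ω)` is supported at `p` -/
theorem exists_mem_ES_quotient (p : PrimeSpectrum A) : ∃ i : ℤ, p ∈ ES ω i (A ⧸ p.asIdeal) := by
  by_contra hcon
  push Not at hcon
  obtain ⟨i, hi⟩ := exists_mem_ES_self hω p
  exact not_mem_ES_of_annihilated hω p hcon ⊥ A bot_le i hi

end Noeth

section Cover

omit [CommRing A] in
/-- between two comparable primes of a Noetherian ring there is a prime covering the smaller -/
theorem exists_covBy_le [CommRing A] [IsNoetherianRing A] (p q : PrimeSpectrum A) (h : p < q) :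
    ∃ q' : PrimeSpectrum A, p ⋖ q' ∧ q' ≤ q := by
  have hlt : p.asIdeal < q.asIdeal := (PrimeSpectrum.asIdeal_lt_asIdeal p q).2 h
  obtain ⟨x, hxq, hxp⟩ := Set.exists_of_ssubset hlt
  have hI : p.asIdeal ⊔ Ideal.span {x} ≤ q.asIdeal :=
    sup_le hlt.le ((Ideal.span_singleton_le_iff_mem _).2 hxq)
  haveI := q.isPrime
  obtain ⟨Q, hQ, hQq⟩ := Ideal.exists_minimalPrimes_le hI
  haveI hQp : Q.IsPrime := hQ.1.1
  have hpQ : p.asIdeal ≤ Q := le_sup_left.trans hQ.1.2
  have hxQ : x ∈ Q := hQ.1.2 (Ideal.mem_sup_right (Ideal.subset_span rfl))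
  refine ⟨⟨Q, hQp⟩, ⟨?_, ?_⟩, (PrimeSpectrum.asIdeal_le_asIdeal _ _).1 hQq⟩
  · rw [← PrimeSpectrum.asIdeal_lt_asIdeal]
    exact lt_of_le_of_ne hpQ (fun heq => hxp (heq ▸ hxQ))
  · intro c hpc hcQ
    have hpc' : p.asIdeal < c.asIdeal := (PrimeSpectrum.asIdeal_lt_asIdeal p c).2 hpc
    have hcQ' : c.asIdeal < Q := (PrimeSpectrum.asIdeal_lt_asIdeal c ⟨Q, hQp⟩).2 hcQ
    have hht := Ideal.map_height_le_one_of_mem_minimalPrimes hQ
    let f := Ideal.Quotient.mk p.asIdeal
    have hfs : Function.Surjective f := Ideal.Quotient.mk_surjective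
    have hker : RingHom.ker f = p.asIdeal := Ideal.mk_ker
    haveI : (c.asIdeal.map f).IsPrime :=
      Ideal.map_isPrime_of_surjective hfs (by rw [hker]; exact hpc'.le)
    haveI : (Q.map f).IsPrime := Ideal.map_isPrime_of_surjective hfs (by rw [hker]; exact hpQ)
    haveI : IsDomain (A ⧸ p.asIdeal) := Ideal.Quotient.isDomain p.asIdeal
    haveI : (⊥ : Ideal (A ⧸ p.asIdeal)).IsPrime := Ideal.isPrime_bot
    have hcomap : ∀ J : Ideal A, p.asIdeal ≤ J → (J.map f).comap f = J := by
      intro J hJ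
      rw [Ideal.comap_map_of_surjective f hfs, ← RingHom.ker_eq_comap_bot, hker]
      exact sup_eq_left.2 hJ
    have h1 : (⊥ : Ideal (A ⧸ p.asIdeal)) < c.asIdeal.map f := by
      refine lt_of_le_of_ne bot_le (fun heq => ?_)
      have := hcomap c.asIdeal hpc'.le
      rw [← heq, ← RingHom.ker_eq_comap_bot, hker] at this
      exact hpc'.ne this
    have h2 : c.asIdeal.map f < Q.map f := by
      refine lt_of_le_of_ne (Ideal.map_mono hcQ'.le) (fun heq => ?_)
      have h3 := hcomap c.asIdeal hpc'.le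
      rw [heq, hcomap Q hpQ] at h3
      exact hcQ'.ne h3.symm
    have h3 := Ideal.height_add_one_le_of_lt_of_isPrime h1
    have h4 := Ideal.height_add_one_le_of_lt_of_isPrime h2
    have h5 : (1 : ℕ∞) ≤ (c.asIdeal.map f).height := le_trans (by simp) h3
    have h6 : (2 : ℕ∞) ≤ (Q.map f).height := by
      calc (2 : ℕ∞) = 1 + 1 := by norm_num
        _ ≤ (c.asIdeal.map f).height + 1 := by gcongr
        _ ≤ _ := h4
    have h7 : (2 : ℕ∞) ≤ 1 := h6.trans hht
    exact absurd h7 (by norm_num)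

end Cover

section DimFun

variable [IsNoetherianRing A] {ω : Dual.D A} (hω : Dual.IsDualizing A ω)

include hω in
lemma ES_maximal (p : PrimeSpectrum A) (hp : p.asIdeal.IsMaximal) :
    ∃ n : ℤ, ∀ i : ℤ, p ∈ ES ω i (A ⧸ p.asIdeal) ↔ i = n := by
  obtain ⟨n, hn, ⟨ε⟩⟩ := main_S0364 A ω hω p.asIdeal
  refine ⟨n, fun i => ⟨fun hi => ?_, fun hi => ?_⟩⟩
  · by_contra hne
    rw [ES_eq_empty_of_van ω i _ (hn i hne)] at hi
    exact hi
  · subst hi
    unfold ES
    rw [ε.support_eq, Module.mem_support_iff_of_finite, Ideal.annihilator_quotient]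

include hω in
/-- the behaviour of the degree of nonvanishing under an immediate specialization -/
lemma ES_covBy (p q : PrimeSpectrum A) (hpq : p ⋖ q) (j₀ : ℤ)
    (hq : ∀ i : ℤ, q ∈ ES ω i (A ⧸ q.asIdeal) ↔ i = j₀) :
    ∀ i : ℤ, p ∈ ES ω i (A ⧸ p.asIdeal) ↔ i = j₀ - 1 := by
  have key : ∀ i : ℤ, p ∈ ES ω i (A ⧸ p.asIdeal) → i = j₀ - 1 := by
    intro i hi
    have hlt : p.asIdeal < q.asIdeal := (PrimeSpectrum.asIdeal_lt_asIdeal p q).2 hpq.lt
    obtain ⟨x, hxq, hxp⟩ := Set.exists_of_ssubset hlt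
    haveI := p.isPrime
    have hreg := isSMulRegular_quotient_prime' p.asIdeal x hxp
    have hqi : q ∈ ES ω i (A ⧸ p.asIdeal) := Module.mem_support_mono hpq.le hi
    have h1 := mem_ES_quotSMulTop hω (A ⧸ p.asIdeal) x hreg i q hxq hqi
    obtain ⟨q', hq'1, hq'2⟩ := exists_mem_ES_quotient_of_mem_ES ω (i + 1) q _ h1
    have hann : p.asIdeal ⊔ Ideal.span {x} ≤ q'.asIdeal := by
      have := le_annihilator_quotSMulTop' (A ⧸ p.asIdeal) x
      rw [Ideal.annihilator_quotient] at this
      exact this.trans (Module.annihilator_le_of_mem_support hq'1)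
    have hq'q : q'.asIdeal ≤ q.asIdeal := le_of_mem_ES_quotient ω (i + 1) _ q hq'2
    have hpq' : p < q' := by
      rw [← PrimeSpectrum.asIdeal_lt_asIdeal]
      refine lt_of_le_of_ne (le_sup_left.trans hann) (fun heq => hxp ?_)
      rw [heq]
      exact hann (Ideal.mem_sup_right (Ideal.subset_span rfl))
    have : q' = q := by
      by_contra hne
      exact hpq.2 hpq' (lt_of_le_of_ne ((PrimeSpectrum.asIdeal_le_asIdeal _ _).1 hq'q) hne)
    rw [this] at hq'2
    have := (hq (i + 1)).1 hq'2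
    omega
  intro i
  refine ⟨key i, fun hi => ?_⟩
  obtain ⟨i', hi'⟩ := exists_mem_ES_quotient hω p
  rw [hi, ← key i' hi']
  exact hi'

include hω in
lemma exists_unique_degree (I : Ideal A) : ∀ p : PrimeSpectrum A, p.asIdeal = I →
    ∃ n : ℤ, ∀ i : ℤ, p ∈ ES ω i (A ⧸ p.asIdeal) ↔ i = n := by
  induction I using IsNoetherian.induction with
  | hgt I IH =>
    intro p hp
    by_cases hmax : p.asIdeal.IsMaximal
    · exact ES_maximal hω p hmax
    · obtain ⟨m, hm, hpm⟩ := Ideal.exists_le_maximal p.asIdeal p.isPrime.ne_top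
      have hlt : p < ⟨m, hm.isPrime⟩ := by
        rw [← PrimeSpectrum.asIdeal_lt_asIdeal]
        refine lt_of_le_of_ne hpm (fun heq => hmax ?_)
        rw [heq]
        exact hm
      obtain ⟨q, hpq, -⟩ := exists_covBy_le p _ hlt
      obtain ⟨j₀, hj₀⟩ := IH q.asIdeal
        (hp ▸ (PrimeSpectrum.asIdeal_lt_asIdeal p q).2 hpq.lt) q rfl
      exact ⟨j₀ - 1, ES_covBy hω p q hpq j₀ hj₀⟩

include hω in
/-- the dimension function of a dualizing complex (up to sign) -/
theorem exists_dimFun : ∃ j : PrimeSpectrum A → ℤ,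
    (∀ (p : PrimeSpectrum A) (i : ℤ), p ∈ ES ω i (A ⧸ p.asIdeal) ↔ i = j p) ∧
    (∀ p q : PrimeSpectrum A, p ⋖ q → j p = j q - 1) := by
  choose j hj using fun p : PrimeSpectrum A => exists_unique_degree hω p.asIdeal p rfl
  refine ⟨j, hj, fun p q hpq => ?_⟩
  exact (ES_covBy hω p q hpq (j q) (hj q) (j p)).1 ((hj p (j p)).2 rfl)

theorem main_S1722 (A : Type u) [CommRing A] [IsNoetherianRing A] (ω : Dual.D A)
    (hω : Dual.IsDualizing A ω) :
    ∃ δ : PrimeSpectrum A → ℤ, (∀ (p : PrimeSpectrum A) (i : ℤ),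
      Nontrivial (LocalizedModule p.asIdeal.primeCompl
        (Dual.inD A (A ⧸ p.asIdeal) ⟶ ω⟦i⟧)) ↔ i = -δ p) ∧
      ∀ p q : PrimeSpectrum A, p ⋖ q → δ p = δ q + 1 := by
  obtain ⟨j, hj1, hj2⟩ := exists_dimFun hω
  refine ⟨fun p => -(j p), fun p i => ?_, fun p q hpq => ?_⟩
  · rw [neg_neg, ← hj1 p i]
    rfl
  · have := hj2 p q hpq
    show -(j p) = -(j q) + 1
    omega

omit [IsNoetherianRing A] in
/-- a function on the prime spectrum which jumps by one along immediate specializations is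
strictly monotone -/
lemma strictMono_of_covBy [IsNoetherianRing A] (j : PrimeSpectrum A → ℤ)
    (hj : ∀ p q : PrimeSpectrum A, p ⋖ q → j p = j q - 1) (I : Ideal A) :
    ∀ p : PrimeSpectrum A, p.asIdeal = I → ∀ q : PrimeSpectrum A, p < q → j p < j q := by
  induction I using IsNoetherian.induction with
  | hgt I IH =>
    intro p hp q hpq
    obtain ⟨q', hpq', hq'q⟩ := exists_covBy_le p q hpq
    have h1 := hj p q' hpq'
    rcases eq_or_lt_of_le hq'q with heq | hlt
    · rw [← heq]
      omega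
    · have := IH q'.asIdeal (hp ▸ (PrimeSpectrum.asIdeal_lt_asIdeal p q').2 hpq'.lt) q' rfl q hlt
      omega

include hω in
theorem ringKrullDim_lt_top : ringKrullDim A < ⊤ := by
  obtain ⟨j, hj1, hj2⟩ := exists_dimFun hω
  obtain ⟨a, b, hab⟩ := hω.finite_injective_dimension
  have hrange : ∀ p : PrimeSpectrum A, a ≤ j p ∧ j p ≤ b := by
    intro p
    have hp : p ∈ ES ω (j p) (A ⧸ p.asIdeal) := (hj1 p (j p)).2 rfl
    by_contra hcon
    have h1 : j p < a ∨ b < j p := by omega
    rw [ES_eq_empty_of_van ω (j p) _ (hab (A ⧸ p.asIdeal) (j p) h1)] at hp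
    exact hp
  have hmono : ∀ p q : PrimeSpectrum A, p < q → j p < j q :=
    fun p q hpq => strictMono_of_covBy j hj2 p.asIdeal p rfl q hpq
  have hbound : ringKrullDim A ≤ ((b - a).toNat : WithBot ℕ∞) := by
    unfold ringKrullDim Order.krullDim
    refine iSup_le fun l => ?_
    have key : ∀ k : Fin (l.length + 1), j (l 0) + (k : ℕ) ≤ j (l k) := by
      intro k
      induction k using Fin.induction with
      | zero => simp
      | succ k ih =>
        have h1 := hmono _ _ (l.step k)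
        have h2 : ((k.succ : Fin (l.length + 1)) : ℕ) = (k.castSucc : ℕ) + 1 := by simp
        rw [h2]
        push_cast
        omega
    have h1 := key (Fin.last l.length)
    have h2 := hrange (l 0)
    have h3 := hrange (l (Fin.last l.length))
    have h4 : l.length ≤ (b - a).toNat := by
      simp only [Fin.val_last] at h1
      omega
    exact_mod_cast h4
  exact lt_of_le_of_lt hbound (WithBot.coe_lt_coe.2 (ENat.coe_lt_top _))

theorem main_S0371 (A : Type u) [CommRing A] [IsNoetherianRing A] (ω : Dual.D A)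
    (hω : Dual.IsDualizing A ω) : ringKrullDim A < ⊤ :=
  ringKrullDim_lt_top hω

/-- at a minimal prime `P`, all `Ext^i(M, ω)` are supported away from `P` except in the degree
attached to `P` -/
lemma eq_of_mem_ES_of_minimal (P : PrimeSpectrum A) (hP : P.asIdeal ∈ minimalPrimes A) (j : ℤ)
    (hj : ∀ i : ℤ, P ∈ ES ω i (A ⧸ P.asIdeal) ↔ i = j) (i : ℤ)
    (M : Type u) [AddCommGroup M] [Module A M] [hM : Module.Finite A M] (hmem : P ∈ ES ω i M) :
    i = j := by
  obtain ⟨q', -, hq'⟩ := exists_mem_ES_quotient_of_mem_ES ω i P M hmem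
  have hle : q'.asIdeal ≤ P.asIdeal := le_of_mem_ES_quotient ω i _ P hq'
  have hge : P.asIdeal ≤ q'.asIdeal := hP.2 ⟨q'.isPrime, bot_le⟩ hle
  have : q' = P := PrimeSpectrum.ext (le_antisymm hle hge)
  rw [this] at hq'
  exact (hj i).1 hq'

include hω in
theorem existsUnique_minimal (P : PrimeSpectrum A) (hP : P.asIdeal ∈ minimalPrimes A) :
    ∃! i : ℤ, P ∈ Module.support A (Dual.HD A ω i) := by
  obtain ⟨j, hj⟩ := exists_unique_degree hω P.asIdeal P rfl
  obtain ⟨i₀, hi₀⟩ := exists_mem_ES_self hω P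
  have h0 : i₀ = j := eq_of_mem_ES_of_minimal P hP j hj i₀ A hi₀
  refine ⟨j, ?_, fun i hi => ?_⟩
  · show P ∈ Module.support A (Dual.HD A ω j)
    rw [← ES_self_eq hω j, ← h0]
    exact hi₀
  · replace hi : P ∈ Module.support A (Dual.HD A ω i) := hi
    rw [← ES_self_eq hω i] at hi
    exact eq_of_mem_ES_of_minimal P hP j hj i A hi

theorem main_S1762 (A : Type u) [CommRing A] [IsNoetherianRing A] (ω : Dual.D A)
    (hω : Dual.IsDualizing A ω) (p : Ideal A) (hp : p ∈ minimalPrimes A) :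
    ∃! i : ℤ, Nontrivial (LocalizedModule (Ideal.primeCompl p (hp := hp.1.1))
      (Dual.HD A ω i)) :=
  existsUnique_minimal hω ⟨p, hp.1.1⟩ hp

end DimFun

section Local

variable [IsLocalRing A] [IsNoetherianRing A] {ω : Dual.D A} (hω : Dual.IsDualizing A ω)
  (hn : Dual.IsNormalized A ω)

include hω hn in
/-- for a normalized dualizing complex, the degree attached to `P` is `- dim A/P` -/
theorem eq_neg_dim_of_mem_ES (P : PrimeSpectrum A) (e : ℕ)
    (he : ringKrullDim (A ⧸ P.asIdeal) = e) (j : ℤ) (hj : P ∈ ES ω j (A ⧸ P.asIdeal)) :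
    j = -(e : ℤ) := by
  have hd : Module.supportDim A (A ⧸ P.asIdeal) = e := by
    rw [Module.supportDim_quotient_eq_ringKrullDim, he]
  obtain ⟨h1, h2⟩ := main_S0366 A ω hω hn (A ⧸ P.asIdeal) e hd j
  haveI : Nontrivial (Dual.inD A (A ⧸ P.asIdeal) ⟶ ω⟦j⟧) := by
    rw [← Module.nonempty_support_iff (R := A)]
    exact ⟨P, hj⟩
  obtain ⟨h3, h4⟩ := h1 inferInstance
  have hsub : Module.support A (A ⧸ P.asIdeal) ⊆
      Module.support A (Dual.inD A (A ⧸ P.asIdeal) ⟶ ω⟦j⟧) := by
    intro q hq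
    rw [Module.mem_support_iff_of_finite, Ideal.annihilator_quotient] at hq
    exact Module.mem_support_mono ((PrimeSpectrum.asIdeal_le_asIdeal _ _).1 hq) hj
  have h5 : Module.supportDim A (A ⧸ P.asIdeal) ≤
      Module.supportDim A (Dual.inD A (A ⧸ P.asIdeal) ⟶ ω⟦j⟧) :=
    Order.krullDim_le_of_strictMono (fun a => ⟨a.1, hsub a.2⟩) (fun {_ _} lt => lt)
  have h6 : ((e : ℕ) : WithBot ℕ∞) ≤ (((-j).toNat : ℕ) : WithBot ℕ∞) := by
    rw [← hd]
    exact h5.trans h2
  have h7 : e ≤ (-j).toNat := by exact_mod_cast h6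
  omega

theorem main_S1719 (A : Type u) [CommRing A] [IsLocalRing A] [IsNoetherianRing A] (ω : Dual.D A)
    (hω : Dual.IsDualizing A ω) (hn : Dual.IsNormalized A ω) (p : Ideal A)
    (hp : p ∈ minimalPrimes A) (e : ℕ) (he : ringKrullDim (A ⧸ p) = e) (i : ℤ) :
    Nontrivial (LocalizedModule (Ideal.primeCompl p (hp := hp.1.1)) (Dual.HD A ω i)) ↔
      i = -(e : ℤ) := by
  let P : PrimeSpectrum A := ⟨p, hp.1.1⟩
  obtain ⟨j, hj⟩ := exists_unique_degree hω P.asIdeal P rfl
  have hje : j = -(e : ℤ) := eq_neg_dim_of_mem_ES hω hn P e he j ((hj j).2 rfl)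
  obtain ⟨i₀, hi₀, huniq⟩ := existsUnique_minimal hω P hp
  have h0 : i₀ = j := by
    have : P ∈ ES ω i₀ A := by rw [ES_self_eq hω i₀]; exact hi₀
    exact eq_of_mem_ES_of_minimal P hp j hj i₀ A this
  show P ∈ Module.support A (Dual.HD A ω i) ↔ i = -(e : ℤ)
  constructor
  · intro hi
    rw [huniq i hi, h0, hje]
  · intro hi
    rw [hi, ← hje, ← h0]
    exact hi₀

end Local

end Groth.Agent.Helper3.DualSupp
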