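import Mathlib
import Groth.Prelude.Def_Wider
import Groth.Prelude.Def_CAlg
import Groth.Prelude.Def_DRing2
import Groth.Agent.Lib.Helper3.DualSupp
import Groth.Agent.Lib.Helper8.Depth29
import Groth.Agent.Lib.Helper8.Depth22
import Groth.Agent.Lib.Helper8.Depth14

/-!
# Dualizing complexes: the depth of `M_p` via supports of `Ext^i(M, ω)`
-/

set_option autoImplicit false
universe u
open CategoryTheory CategoryTheory.Limits Pretriangulated Triangulated Opposite

attribute [local instance] HasDerivedCategory.standard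

namespace Groth.Agent.Helper3.DualSupp

open DerivedCategory Groth.Agent.Helper3.DualCx Groth.Agent.Helper3.RegGlDim
  Groth.Agent.Helper3.DualFun

variable {A : Type u} [CommRing A]

section Conn

variable (ω : Dual.D A) (i : ℤ)

/-- `Hom(X, Y[i]) ≃ Hom(X[1], Y[i+1])`, linearly -/
noncomputable def shiftOneLinEquiv (X Y : Dual.D A) (i : ℤ) :
    (X ⟶ Y⟦i⟧) ≃ₗ[A] (X⟦(1 : ℤ)⟧ ⟶ Y⟦i + 1⟧) :=
  LinearEquiv.ofBijective
    ((Linear.rightComp A _ ((shiftFunctorAdd' (Dual.D A) i 1 (i + 1) rfl).app Y).inv).comp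
      ((shiftFunctor (Dual.D A) (1 : ℤ)).mapLinearMap A))
    ⟨fun f g h => by
      simp only [LinearMap.coe_comp, Function.comp_apply, Linear.rightComp_apply,
        Functor.mapLinearMap_apply] at h
      rw [cancel_mono] at h
      exact (shiftFunctor (Dual.D A) (1 : ℤ)).map_injective h,
    fun g => by
      obtain ⟨f, hf⟩ := (shiftFunctor (Dual.D A) (1 : ℤ)).map_surjective
        (g ≫ ((shiftFunctorAdd' (Dual.D A) i 1 (i + 1) rfl).app Y).hom)
      refine ⟨f, ?_⟩
      show (shiftFunctor (Dual.D A) (1 : ℤ)).map f ≫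
        ((shiftFunctorAdd' (Dual.D A) i 1 (i + 1) rfl).app Y).inv = g
      rw [hf, Category.assoc, Iso.hom_inv_id, Category.comp_id]⟩

variable {N₁ N₂ N₃ : Type u} [AddCommGroup N₁] [Module A N₁] [AddCommGroup N₂]
    [Module A N₂] [AddCommGroup N₃] [Module A N₃] (f : N₁ →ₗ[A] N₂) (g : N₂ →ₗ[A] N₃)
    (hf : Function.Injective f) (hg : Function.Surjective g) (hfg : Function.Exact f g)

include hf hg hfg in
/-- `Ext^i(N₁) → Ext^{i+1}(N₃) → Ext^{i+1}(N₂)` on supports -/
lemma ES_conn₃ : ES ω (i + 1) N₃ ⊆ ES ω i N₁ ∪ ES ω (i + 1) N₂ := by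
  have hS := shortExact_of_exact f g hf hg hfg
  have hT := hS.singleTriangle_distinguished
  let α : ((Dual.inD A N₁)⟦(1 : ℤ)⟧ ⟶ ω⟦i + 1⟧) →ₗ[A] (Dual.inD A N₃ ⟶ ω⟦i + 1⟧) :=
    Linear.leftComp A (ω⟦i + 1⟧) hS.singleTriangle.mor₃
  have hex : Function.Exact α (extMap (ω⟦i + 1⟧) g) := by
    intro φ
    constructor
    · intro h0
      obtain ⟨ψ, hψ⟩ := Triangle.yoneda_exact₃ _ hT φ h0
      exact ⟨ψ, hψ.symm⟩
    · rintro ⟨ψ, rfl⟩
      simp only [extMap_apply]
      have h1 := comp_distTriang_mor_zero₂₃ _ hT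
      exact (Category.assoc _ _ _).symm.trans ((congrArg (· ≫ ψ) h1).trans zero_comp)
  have h1 := support_subset_of_exact α (extMap (ω⟦i + 1⟧) g) hex
  intro q hq
  rcases h1 hq with h | h
  · left
    unfold ES
    rw [(shiftOneLinEquiv (Dual.inD A N₁) ω i).support_eq]
    exact h
  · right
    exact h

include hf hg hfg in
/-- `Ext^i(N₂) → Ext^i(N₁) → Ext^{i+1}(N₃)` on supports -/
lemma ES_conn₁ : ES ω i N₁ ⊆ ES ω i N₂ ∪ ES ω (i + 1) N₃ := by
  have hS := shortExact_of_exact f g hf hg hfg
  have hT := inv_rot_of_distTriang _ hS.singleTriangle_distinguished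
  let del : (Dual.inD A N₁ ⟶ ω⟦i⟧) →ₗ[A] ((Dual.inD A N₃)⟦(-1 : ℤ)⟧ ⟶ ω⟦i⟧) :=
    Linear.leftComp A (ω⟦i⟧) hS.singleTriangle.invRotate.mor₁
  have hex : Function.Exact (extMap (ω⟦i⟧) f) del := by
    intro φ
    constructor
    · intro h0
      obtain ⟨ψ, hψ⟩ := Triangle.yoneda_exact₂ _ hT φ h0
      exact ⟨ψ, hψ.symm⟩
    · rintro ⟨ψ, rfl⟩
      have h1 := comp_distTriang_mor_zero₁₂ _ hT
      exact (Category.assoc _ _ _).symm.trans ((congrArg (· ≫ ψ) h1).trans zero_comp)
  have h1 := support_subset_of_exact (extMap (ω⟦i⟧) f) del hex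
  obtain ⟨Φ, hΦ⟩ := exists_shift_injective (Dual.inD A N₃) ω i
  intro q hq
  rcases h1 hq with h | h
  · left
    exact h
  · right
    exact Module.support_subset_of_injective Φ hΦ h

end Conn

section AtPrime

variable [IsNoetherianRing A] {ω : Dual.D A} (hω : Dual.IsDualizing A ω)
  (p : PrimeSpectrum A) (j : ℤ) (hj : ∀ i : ℤ, p ∈ ES ω i (A ⧸ p.asIdeal) ↔ i = j)

include hω hj in
lemma le_of_mem_ES_quotient_aux (I : Ideal A) : ∀ q : PrimeSpectrum A, q.asIdeal = I →
    ∀ i : ℤ, p ∈ ES ω i (A ⧸ q.asIdeal) → i ≤ j := by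
  induction I using IsNoetherian.induction with
  | hgt I IH =>
    intro q hq i hmem
    have hle : q.asIdeal ≤ p.asIdeal := le_of_mem_ES_quotient ω i _ p hmem
    rcases lt_or_eq_of_le hle with hlt | heq
    · haveI := q.isPrime
      obtain ⟨x, hxp, hxq⟩ := Set.exists_of_ssubset hlt
      have hreg := isSMulRegular_quotient_prime' q.asIdeal x hxq
      have h1 := mem_ES_quotSMulTop hω (A ⧸ q.asIdeal) x hreg i p hxp hmem
      obtain ⟨q', hq'1, hq'2⟩ := exists_mem_ES_quotient_of_mem_ES ω (i + 1) p _ h1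
      have hann : q.asIdeal ⊔ Ideal.span {x} ≤ q'.asIdeal := by
        have := le_annihilator_quotSMulTop' (A ⧸ q.asIdeal) x
        rw [Ideal.annihilator_quotient] at this
        exact this.trans (Module.annihilator_le_of_mem_support hq'1)
      have hlt' : I < q'.asIdeal := by
        rw [← hq]
        exact lt_of_lt_of_le (lt_sup_span' q.asIdeal x hxq) hann
      have := IH q'.asIdeal hlt' q' rfl (i + 1) hq'2
      omega
    · have : q = p := PrimeSpectrum.ext heq
      rw [this] at hmem
      exact ((hj i).1 hmem).le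

include hω hj in
/-- no `Ext^i(M, ω)` is supported at `p` above the degree attached to `p` -/
theorem le_of_mem_ES (M : Type u) [AddCommGroup M] [Module A M] [Module.Finite A M] (i : ℤ)
    (hmem : p ∈ ES ω i M) : i ≤ j := by
  obtain ⟨q', -, hq'⟩ := exists_mem_ES_quotient_of_mem_ES ω i p M hmem
  exact le_of_mem_ES_quotient_aux hω p j hj q'.asIdeal q' rfl i hq'

omit [IsNoetherianRing A] in
lemma ES_subset_support (ω : Dual.D A) (i : ℤ) (M : Type u) [AddCommGroup M] [Module A M]
    [Module.Finite A M] : ES ω i M ⊆ Module.support A M := by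
  intro q hq
  rw [Module.mem_support_iff_of_finite]
  exact annihilator_le_of_mem_ES ω i M q hq

/-- a surjection whose kernel is not supported at `p` does not change the supports at `p` -/
lemma mem_ES_iff_of_surjective (ω : Dual.D A) (p : PrimeSpectrum A)
    {M M' : Type u} [AddCommGroup M] [Module A M] [Module.Finite A M] [AddCommGroup M']
    [Module A M'] (g : M →ₗ[A] M') (hg : Function.Surjective g)
    (hker : p ∉ Module.support A (LinearMap.ker g)) (i : ℤ) :
    p ∈ ES ω i M ↔ p ∈ ES ω i M' := by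
  have hfg : Function.Exact (LinearMap.ker g).subtype g := LinearMap.exact_subtype_ker_map g
  have hf : Function.Injective (LinearMap.ker g).subtype := Submodule.injective_subtype _
  have hT : ∀ k : ℤ, p ∉ ES ω k (LinearMap.ker g) :=
    fun k hk => hker (ES_subset_support ω k _ hk)
  constructor
  · intro h
    rcases ES_exact ω i _ g hf hg hfg h with h' | h'
    · exact h'
    · exact absurd h' (hT i)
  · intro h
    have := ES_conn₃ ω (i - 1) _ g hf hg hfg (by rw [sub_add_cancel]; exact h)
    rcases this with h' | h'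
    · exact absurd h' (hT (i - 1))
    · rwa [sub_add_cancel] at h'

omit [IsNoetherianRing A] in
/-- localizing a surjection whose kernel is not supported at `p` gives an isomorphism -/
lemma bijective_map_of_surjective (p : PrimeSpectrum A)
    {M M' : Type u} [AddCommGroup M] [Module A M] [AddCommGroup M']
    [Module A M'] (g : M →ₗ[A] M') (hg : Function.Surjective g)
    (hker : p ∉ Module.support A (LinearMap.ker g)) :
    Function.Bijective (LocalizedModule.map p.asIdeal.primeCompl g) := by
  constructor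
  · rw [injective_iff_map_eq_zero]
    intro x hx
    induction x using LocalizedModule.induction_on with
    | h m s =>
      rw [LocalizedModule.map_mk, ← LocalizedModule.zero_mk s, LocalizedModule.mk_eq] at hx
      obtain ⟨t, ht⟩ := hx
      rw [smul_zero, smul_zero] at ht
      have h1 : g ((t : A) • (s : A) • m) = 0 := by
        rw [map_smul, map_smul]
        exact ht
      rw [Module.notMem_support_iff'] at hker
      obtain ⟨r, hr, hr0⟩ := hker ⟨(t : A) • (s : A) • m, h1⟩
      have hr0' : r • (t : A) • (s : A) • m = 0 := congrArg Subtype.val hr0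
      rw [← LocalizedModule.zero_mk s, LocalizedModule.mk_eq]
      refine ⟨⟨r, hr⟩ * t, ?_⟩
      rw [smul_zero, smul_zero]
      show (r * (t : A)) • (s : A) • m = 0
      rw [mul_smul]
      exact hr0'
  · intro y
    induction y using LocalizedModule.induction_on with
    | h m' s =>
      obtain ⟨m, rfl⟩ := hg m'
      exact ⟨LocalizedModule.mk m s, LocalizedModule.map_mk _ g m s⟩

open Groth.Agent.Helper8.Depth Pointwise in
include hω hj in
/-- the depth of `M_p` is the distance from the degree attached to `p` to the top degree in which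
`Ext^i(M, ω)` is supported at `p` -/
theorem depth_at (n : ℕ) : ∀ (M : Type u) [AddCommGroup M] [Module A M] [Module.Finite A M],
    LocCoh.depth (Localization.AtPrime p.asIdeal) (LocalizedModule p.asIdeal.primeCompl M) = n →
      (∀ δ : ℕ, δ < n → p ∉ ES ω (j - δ) M) ∧ p ∈ ES ω (j - n) M := by
  induction n with
  | zero =>
    intro M _ _ _ hd
    refine ⟨fun δ hδ => absurd hδ (Nat.not_lt_zero _), ?_⟩
    have hass : p.asIdeal ∈ associatedPrimes A M :=
      (depth_localizedModule_eq_zero_iff p.asIdeal M).1 (by simpa using hd)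
    obtain ⟨-, x, hx⟩ := (isAssociatedPrime_iff).1 hass
    let f₀ : A →ₗ[A] M := LinearMap.toSpanSingleton A M x
    have hker : LinearMap.ker f₀ = p.asIdeal := by
      rw [hx]
      ext r
      simp [f₀, Submodule.mem_colon_singleton]
    let f : (A ⧸ p.asIdeal) →ₗ[A] M := Submodule.liftQ _ f₀ (le_of_eq hker.symm)
    have hf : Function.Injective f := by
      rw [← LinearMap.ker_eq_bot, Submodule.ker_liftQ_eq_bot]
      exact le_of_eq hker
    have h1 := ES_conn₁ ω j f (LinearMap.range f).mkQ hf (Submodule.mkQ_surjective _)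
      f.exact_map_mkQ_range ((hj j).2 rfl)
    rcases h1 with h | h
    · simpa using h
    · have := le_of_mem_ES hω p j hj _ (j + 1) h
      omega
  | succ n ih =>
    intro M _ _ _ hd
    let S := p.asIdeal.primeCompl
    let T : Submodule A M := LinearMap.ker (LocalizedModule.mkLinearMap S M)
    -- `T` is not supported at `p`
    have hT : p ∉ Module.support A T := by
      rw [Module.notMem_support_iff']
      intro t
      obtain ⟨s, hs⟩ := (IsLocalizedModule.eq_zero_iff S (LocalizedModule.mkLinearMap S M)).1 t.2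
      exact ⟨s, s.2, Subtype.ext hs⟩
    have hTker : p ∉ Module.support A (LinearMap.ker T.mkQ) := by
      rw [Submodule.ker_mkQ]
      exact hT
    -- the localizations of `M` and `M ⧸ T` agree
    let e : LocalizedModule S M ≃ₗ[Localization.AtPrime p.asIdeal] LocalizedModule S (M ⧸ T) :=
      LinearEquiv.ofBijective (LocalizedModule.map S T.mkQ)
        (bijective_map_of_surjective p T.mkQ (Submodule.mkQ_surjective _) hTker)
    have hd' : LocCoh.depth (Localization.AtPrime p.asIdeal) (LocalizedModule S (M ⧸ T)) =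
        ((n + 1 : ℕ) : ℕ∞) := by
      rw [← hd]
      exact (idealDepth_congr e).symm
    haveI hnt : Nontrivial (LocalizedModule S (M ⧸ T)) := by
      by_contra hcon
      rw [not_nontrivial_iff_subsingleton] at hcon
      rw [depth_eq_top_of_subsingleton] at hd'
      exact ENat.top_ne_coe _ hd'
    -- a regular element in `p`
    have hexx : ∃ x ∈ p.asIdeal, IsSMulRegular (M ⧸ T) x := by
      by_contra hcon
      push Not at hcon
      obtain ⟨q, hq, hpq⟩ := exists_le_associatedPrime_of_forall_not_isSMulRegular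
        (M := M ⧸ T) p.asIdeal hcon
      have hqp : q ≤ p.asIdeal := by
        obtain ⟨-, y, hy⟩ := (isAssociatedPrime_iff).1 hq
        intro r hr
        by_contra hrp
        rw [hy, Submodule.mem_colon_singleton] at hr
        obtain ⟨m, rfl⟩ := Submodule.mkQ_surjective T y
        have h1 : r • m ∈ T :=
          (Submodule.Quotient.mk_eq_zero T).1 (by rw [Submodule.Quotient.mk_smul]; exact hr)
        obtain ⟨s, hs⟩ := (IsLocalizedModule.eq_zero_iff S
          (LocalizedModule.mkLinearMap S M)).1 h1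
        have h2 : m ∈ T := by
          apply (IsLocalizedModule.eq_zero_iff S (LocalizedModule.mkLinearMap S M)).2
          refine ⟨s * ⟨r, hrp⟩, ?_⟩
          rw [mul_smul]
          exact hs
        have h3 : T.mkQ m = 0 := (Submodule.Quotient.mk_eq_zero T).2 h2
        have hprime : q.IsPrime := hq.isPrime
        apply hprime.ne_top
        rw [hy, h3]
        ext z
        simp [Submodule.mem_colon_singleton]
      have heq : q = p.asIdeal := le_antisymm hqp hpq
      have h0 := (depth_localizedModule_eq_zero_iff p.asIdeal (M ⧸ T)).2 (heq ▸ hq)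
      rw [hd'] at h0
      exact absurd h0 (by simp)
    obtain ⟨x, hxp, hreg⟩ := hexx
    -- the quotient
    have hQ : LocCoh.depth (Localization.AtPrime p.asIdeal)
        (LocalizedModule S (QuotSMulTop x (M ⧸ T))) = n := by
      have h1 := depth_localizedModule_quotSMulTop p.asIdeal (M ⧸ T) hxp hreg
      rw [hd'] at h1
      push_cast at h1
      exact ENat.add_left_injective_of_ne_top ENat.one_ne_top h1
    obtain ⟨ih1, ih2⟩ := ih (QuotSMulTop x (M ⧸ T)) hQ
    -- transfer to `M ⧸ T`
    have hlow' : ∀ δ : ℕ, δ < n + 1 → p ∉ ES ω (j - δ) (M ⧸ T) := by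
      intro δ hδ hmem
      have h1 := mem_ES_quotSMulTop hω (M ⧸ T) x hreg (j - δ) p hxp hmem
      cases δ with
      | zero =>
        have := le_of_mem_ES hω p j hj _ _ h1
        simp at this
      | succ δ' =>
        have h2 : j - ((δ' + 1 : ℕ) : ℤ) + 1 = j - (δ' : ℤ) := by
          push_cast
          ring
        rw [h2] at h1
        exact ih1 δ' (by omega) h1
    have hmem' : p ∈ ES ω (j - ((n + 1 : ℕ) : ℤ)) (M ⧸ T) := by
      have hex := LinearMap.exact_lsmul_mkQ_smul_top (M ⧸ T) x
      have h1 := ES_conn₃ ω (j - ((n + 1 : ℕ) : ℤ)) (LinearMap.lsmul A (M ⧸ T) x)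
        (x • (⊤ : Submodule A (M ⧸ T))).mkQ hreg (Submodule.mkQ_surjective _) hex
        (by
          have : j - ((n + 1 : ℕ) : ℤ) + 1 = j - (n : ℤ) := by push_cast; ring
          rw [this]
          exact ih2)
      rcases h1 with h | h
      · exact h
      · have : j - ((n + 1 : ℕ) : ℤ) + 1 = j - (n : ℤ) := by push_cast; ring
        rw [this] at h
        exact absurd h (hlow' n (by omega))
    -- transfer to `M`
    refine ⟨fun δ hδ hmem => hlow' δ hδ ?_, ?_⟩
    · exact (mem_ES_iff_of_surjective ω p T.mkQ (Submodule.mkQ_surjective _) hTker _).1 hmem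
    · exact (mem_ES_iff_of_surjective ω p T.mkQ (Submodule.mkQ_surjective _) hTker _).2 hmem'

end AtPrime

section Main

lemma exists_nat_ringKrullDim_quotient {A : Type u} [CommRing A] [IsNoetherianRing A]
    {ω : Dual.D A} (hω : Dual.IsDualizing A ω) (p : PrimeSpectrum A) :
    ∃ e : ℕ, ringKrullDim (A ⧸ p.asIdeal) = e := by
  have h1 : ringKrullDim (A ⧸ p.asIdeal) < ⊤ :=
    lt_of_le_of_lt (ringKrullDim_quotient_le p.asIdeal)
      (Groth.Agent.Helper3.DualSupp.ringKrullDim_lt_top hω)
  haveI : Nontrivial (A ⧸ p.asIdeal) := Ideal.Quotient.nontrivial_iff.2 p.isPrime.ne_top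
  have h2 : (0 : WithBot ℕ∞) ≤ ringKrullDim (A ⧸ p.asIdeal) := ringKrullDim_nonneg_of_nontrivial
  have h3 : ringKrullDim (A ⧸ p.asIdeal) ≠ ⊥ := by
    intro h
    rw [h] at h2
    simp at h2
  obtain ⟨d, hd⟩ := WithBot.ne_bot_iff_exists.1 h3
  have h4 : d ≠ ⊤ := by
    rintro rfl
    rw [← hd] at h1
    exact lt_irrefl _ h1
  obtain ⟨e, he⟩ := ENat.ne_top_iff_exists.1 h4
  exact ⟨e, by rw [← hd, ← he]; rfl⟩

open Groth.Agent.Helper8.Depth in
theorem main_S1712 (A : Type u) [CommRing A] [IsLocalRing A] [IsNoetherianRing A] (ω : Dual.D A)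
    (hω : Dual.IsDualizing A ω) (hn : Dual.IsNormalized A ω) (M : Type u) [AddCommGroup M]
    [Module A M] [Module.Finite A M] (i : ℕ) (p : PrimeSpectrum A) :
    (∃ j : ℕ, j ≤ i ∧ p ∈ Module.support A (Dual.inD A M ⟶ ω⟦(-(j : ℤ))⟧)) ↔
      ((LocCoh.depth (Localization.AtPrime p.asIdeal)
        (LocalizedModule p.asIdeal.primeCompl M) : ℕ∞) : WithBot ℕ∞) +
          ringKrullDim (A ⧸ p.asIdeal) ≤ (i : WithBot ℕ∞) := by
  obtain ⟨jp, hjp⟩ := exists_unique_degree hω p.asIdeal p rfl
  obtain ⟨e, he⟩ := exists_nat_ringKrullDim_quotient hω p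
  have hje : jp = -(e : ℤ) := eq_neg_dim_of_mem_ES hω hn p e he jp ((hjp jp).2 rfl)
  rw [he]
  by_cases hnt : Nontrivial (LocalizedModule p.asIdeal.primeCompl M)
  · have hne : LocCoh.depth (Localization.AtPrime p.asIdeal)
        (LocalizedModule p.asIdeal.primeCompl M) ≠ ⊤ :=
      idealDepth_ne_top (smul_top_ne_top_of_local _ _)
    obtain ⟨r, hr⟩ := ENat.ne_top_iff_exists.1 hne
    obtain ⟨h1, h2⟩ := depth_at hω p jp hjp r M hr.symm
    rw [← hr]
    have hiff : (((r : ℕ∞) : WithBot ℕ∞) + ((e : ℕ) : WithBot ℕ∞) ≤ ((i : ℕ) : WithBot ℕ∞)) ↔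
        r + e ≤ i := by
      constructor
      · intro h
        exact_mod_cast h
      · intro h
        exact_mod_cast h
    rw [hiff]
    constructor
    · rintro ⟨j', hj'i, hmem⟩
      have hmem' : p ∈ ES ω (-(j' : ℤ)) M := hmem
      have h3 := le_of_mem_ES hω p jp hjp M _ hmem'
      by_contra hcon
      push Not at hcon
      have h4 : j' - e < r := by omega
      apply h1 (j' - e) h4
      have : jp - ((j' - e : ℕ) : ℤ) = -(j' : ℤ) := by
        rw [hje]
        omega
      rw [this]
      exact hmem'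
    · intro h
      refine ⟨r + e, h, ?_⟩
      have : -(((r + e : ℕ)) : ℤ) = jp - (r : ℤ) := by
        rw [hje]
        push_cast
        ring
      rw [this]
      exact h2
  · rw [not_nontrivial_iff_subsingleton] at hnt
    rw [depth_eq_top_of_subsingleton]
    constructor
    · rintro ⟨j', -, hmem⟩
      exfalso
      have h1 : p ∈ Module.support A M := ES_subset_support ω _ M hmem
      rw [Module.mem_support_iff] at h1
      exact not_subsingleton _ hnt
    · intro h
      exfalso
      have h1 : (((⊤ : ℕ∞) : WithBot ℕ∞)) + ((e : ℕ) : WithBot ℕ∞) =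
          (((⊤ : ℕ∞) + (e : ℕ∞) : ℕ∞) : WithBot ℕ∞) := by
        rw [WithBot.coe_add]; rfl
      rw [h1, top_add] at h
      have h2 : ((i : ℕ) : WithBot ℕ∞) = (((i : ℕ∞)) : WithBot ℕ∞) := rfl
      rw [h2, WithBot.coe_le_coe] at h
      simp at h

end Main

end Groth.Agent.Helper3.DualSupp
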