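import Mathlib
import Groth.Prelude.Def_Wider
import Groth.Prelude.Def_CAlg
import Groth.Prelude.Def_DRing2
import Groth.Agent.Lib.Helper3.DualSupp2
import Groth.Agent.Lib.Helper8.Depth11
import Groth.Agent.Lib.Helper8.Depth19

/-!
# Dualizing complexes: the dimension of `M_p` and the Cohen–Macaulay locus
-/

set_option autoImplicit false
universe u
open CategoryTheory CategoryTheory.Limits Pretriangulated Triangulated Opposite

attribute [local instance] HasDerivedCategory.standard

namespace Groth.Agent.Helper3.DualSupp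

open DerivedCategory Groth.Agent.Helper3.DualCx Groth.Agent.Helper3.RegGlDim
  Groth.Agent.Helper3.DualFun

variable {A : Type u} [CommRing A] [IsNoetherianRing A] {ω : Dual.D A}
  (hω : Dual.IsDualizing A ω)

section Nonvanishing

include hω in
/-- some `Ext^i(M, ω)` is supported at every point of the support of `M` -/
theorem exists_mem_ES_of_mem_support (M : Type u) [AddCommGroup M] [Module A M]
    [Module.Finite A M] (p : PrimeSpectrum A) (hp : p ∈ Module.support A M) :
    ∃ i : ℤ, p ∈ ES ω i M := by
  by_contra hcon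
  push Not at hcon
  obtain ⟨dat⟩ := nonempty_data hω
  let X : Dual.D A := D dat (ModuleCat.of A M)
  let hIso : ∀ j : ℤ, (Dual.inD A M ⟶ ω⟦j⟧) ≃ₗ[A] Dual.HD A X j :=
    fun j => extIso dat (ModuleCat.of A M) j
  let η : M ≃ₗ[A] (X ⟶ ω) := etaEquiv dat hω M
  obtain ⟨a, b, hab⟩ := hω.finite_injective_dimension
  have hsub : ∀ j : ℤ, (j < a ∨ b < j) → Subsingleton (Dual.HD A X j) := by
    intro j hj
    rw [← (hIso j).toEquiv.subsingleton_congr]
    exact hab M j hj
  haveI : X.IsGE a := isGE_of_subsingleton X a (fun i hi => hsub i (Or.inl hi))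
  haveI : X.IsLE b := isLE_of_subsingleton X b (fun i hi => hsub i (Or.inr hi))
  obtain ⟨y, hy1, hy2⟩ := exists_smul_id_eq_zero X a b
    (fun j => by
      haveI := finite_ext hω M j
      exact Module.Finite.equiv (hIso j)) p
    (fun j => by
      rw [← (hIso j).support_eq]
      exact hcon j)
  have hann : y ∈ Module.annihilator A M := by
    rw [Module.mem_annihilator]
    intro z
    apply η.injective
    rw [map_smul, map_zero]
    have : η z = 𝟙 X ≫ η z := (Category.id_comp _).symm
    rw [this, ← Linear.smul_comp, hy2, zero_comp]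
  exact hy1 (Module.annihilator_le_of_mem_support hp hann)

end Nonvanishing

section DimFun

variable (j : PrimeSpectrum A → ℤ)
  (hj1 : ∀ (p : PrimeSpectrum A) (i : ℤ), p ∈ ES ω i (A ⧸ p.asIdeal) ↔ i = j p)
  (hmono : ∀ p q : PrimeSpectrum A, p < q → j p < j q)
  (hcov : ∀ p q : PrimeSpectrum A, p ⋖ q → j p = j q - 1)

include hω hj1 hmono in
lemma ge_of_mem_ES_quotient_aux (p : PrimeSpectrum A) (I : Ideal A) :
    ∀ q : PrimeSpectrum A, q.asIdeal = I →
    ∀ i : ℤ, p ∈ ES ω i (A ⧸ q.asIdeal) → j q ≤ i := by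
  induction I using IsNoetherian.induction with
  | hgt I IH =>
    intro q hq i hmem
    have hle : q.asIdeal ≤ p.asIdeal := le_of_mem_ES_quotient ω i _ p hmem
    rcases lt_or_eq_of_le hle with hlt | heq
    · haveI := q.isPrime
      obtain ⟨x, hxp, hxq⟩ := Set.exists_of_ssubset hlt
      have hreg := isSMulRegular_quotient_prime' q.asIdeal x hxq
      have h1 := mem_ES_quotSMulTop hω (A ⧸ q.asIdeal) x hreg i p hxp hmem
      obtain ⟨q', hq'1, hq'2⟩ := exists_mem_ES_quotient_of_mem_ES ω (i + 1) p _ h1
      have hann : q.asIdeal ⊔ Ideal.span {x} ≤ q'.asIdeal := by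
        have := le_annihilator_quotSMulTop' (A ⧸ q.asIdeal) x
        rw [Ideal.annihilator_quotient] at this
        exact this.trans (Module.annihilator_le_of_mem_support hq'1)
      have hlt' : q.asIdeal < q'.asIdeal :=
        lt_of_lt_of_le (lt_sup_span' q.asIdeal x hxq) hann
      have h2 := IH q'.asIdeal (hq ▸ hlt') q' rfl (i + 1) hq'2
      have h3 := hmono q q' ((PrimeSpectrum.asIdeal_lt_asIdeal q q').1 hlt')
      omega
    · have : q = p := PrimeSpectrum.ext heq
      rw [this] at hmem ⊢
      exact ((hj1 p i).1 hmem).ge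

include hω hj1 hmono in
/-- `Ext^i(M, ω)` supported at `p` forces `i ≥ j q` for some `q ≤ p` in the support of `M` -/
theorem exists_le_of_mem_ES (p : PrimeSpectrum A) (M : Type u) [AddCommGroup M] [Module A M]
    [Module.Finite A M] (i : ℤ) (hmem : p ∈ ES ω i M) :
    ∃ q : PrimeSpectrum A, q ∈ Module.support A M ∧ q ≤ p ∧ j q ≤ i := by
  obtain ⟨q', hq'1, hq'2⟩ := exists_mem_ES_quotient_of_mem_ES ω i p M hmem
  refine ⟨q', hq'1, ?_, ge_of_mem_ES_quotient_aux hω j hj1 hmono p q'.asIdeal q' rfl i hq'2⟩
  exact (PrimeSpectrum.asIdeal_le_asIdeal _ _).1 (le_of_mem_ES_quotient ω i _ p hq'2)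

include hω hj1 in
/-- at a minimal point `q` of the support of `M`, `Ext^{j q}(M, ω)` is supported -/
theorem mem_ES_of_minimal (M : Type u) [AddCommGroup M] [Module A M] [Module.Finite A M]
    (q : PrimeSpectrum A) (hq : q ∈ Module.support A M)
    (hmin : ∀ q' : PrimeSpectrum A, q' ∈ Module.support A M → q' ≤ q → q' = q) :
    q ∈ ES ω (j q) M ∧ ∀ i : ℤ, q ∈ ES ω i M → i = j q := by
  have key : ∀ i : ℤ, q ∈ ES ω i M → i = j q := by
    intro i hi
    obtain ⟨q', hq'1, hq'2⟩ := exists_mem_ES_quotient_of_mem_ES ω i q M hi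
    have hle : q' ≤ q :=
      (PrimeSpectrum.asIdeal_le_asIdeal _ _).1 (le_of_mem_ES_quotient ω i _ q hq'2)
    rw [hmin q' hq'1 hle] at hq'2
    exact (hj1 q i).1 hq'2
  obtain ⟨i, hi⟩ := exists_mem_ES_of_mem_support hω M q hq
  exact ⟨key i hi ▸ hi, key⟩

omit [IsNoetherianRing A] in
include hmono hcov in
/-- saturated chains have the length predicted by the dimension function -/
lemma exists_ltSeries [IsNoetherianRing A] (n : ℕ) : ∀ (q p : PrimeSpectrum A), q ≤ p →
    j p - j q = n →
    ∃ l : LTSeries (PrimeSpectrum A), l.length = n ∧ l.head = q ∧ l.last = p := by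
  induction n with
  | zero =>
    intro q p hqp h
    have hqp' : q = p := by
      by_contra hne
      have := hmono q p (lt_of_le_of_ne hqp hne)
      simp at h
      omega
    exact ⟨RelSeries.singleton _ p, rfl, by rw [hqp']; rfl, rfl⟩
  | succ n ih =>
    intro q p hqp h
    have hlt : q < p := by
      refine lt_of_le_of_ne hqp ?_
      rintro rfl
      simp at h
      omega
    obtain ⟨q₁, hq1, hq1p⟩ := exists_covBy_le q p hlt
    have h1 := hcov q q₁ hq1
    obtain ⟨l, hl1, hl2, hl3⟩ := ih q₁ p hq1p (by push_cast at h; omega)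
    exact ⟨l.cons q (by rw [hl2]; exact hq1.lt), by simp [hl1], by simp, by simp [hl3]⟩

omit [IsNoetherianRing A] in
include hmono in
lemma mono_of_strictMono (p q : PrimeSpectrum A) (h : p ≤ q) : j p ≤ j q := by
  rcases eq_or_lt_of_le h with rfl | hlt
  · exact le_rfl
  · exact (hmono p q hlt).le

open Groth.Agent.Helper8.Depth in
omit [IsNoetherianRing A] in
include hmono hcov in
/-- the dimension of the support of `M_p` in terms of the dimension function -/
theorem supportDim_localizedModule_eq [IsNoetherianRing A] (p : PrimeSpectrum A) (M : Type u)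
    [AddCommGroup M] [Module A M] (q₀ : PrimeSpectrum A) (hq₀ : q₀ ∈ Module.support A M)
    (hq₀p : q₀ ≤ p)
    (hmin : ∀ q : PrimeSpectrum A, q ∈ Module.support A M → q ≤ p → j q₀ ≤ j q) :
    Module.supportDim (Localization.AtPrime p.asIdeal) (LocalizedModule p.asIdeal.primeCompl M) =
      (((j p - j q₀).toNat : ℕ) : WithBot ℕ∞) := by
  have h0 : j q₀ ≤ j p := mono_of_strictMono j hmono q₀ p hq₀p
  apply le_antisymm
  · unfold Module.supportDim Order.krullDim
    refine iSup_le fun l => ?_
    let f : Fin (l.length + 1) → PrimeSpectrum A :=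
      fun k => PrimeSpectrum.comap (algebraMap A (Localization.AtPrime p.asIdeal)) (l k).1
    have hf : ∀ k : Fin l.length, f k.castSucc < f k.succ := by
      intro k
      have h1 : (l k.castSucc).1 < (l k.succ).1 := l.step k
      refine lt_of_le_of_ne ?_ ?_
      · exact (PrimeSpectrum.asIdeal_le_asIdeal _ _).1
          (Ideal.comap_mono ((PrimeSpectrum.asIdeal_le_asIdeal _ _).2 h1.le))
      · intro heq
        exact h1.ne (PrimeSpectrum.localization_comap_injective
          (Localization.AtPrime p.asIdeal) p.asIdeal.primeCompl heq)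
    have hfs : ∀ k, f k ∈ Module.support A M :=
      fun k => (mem_support_localizedModule_iff p.asIdeal M (l k).1).1 (l k).2
    have hfp : ∀ k, f k ≤ p := fun k => comap_localization_le p.asIdeal (l k).1
    have key : ∀ k : Fin (l.length + 1), j (f 0) + (k : ℕ) ≤ j (f k) := by
      intro k
      induction k using Fin.induction with
      | zero => simp
      | succ k ih =>
        have h1 := hmono _ _ (hf k)
        have h2 : ((k.succ : Fin (l.length + 1)) : ℕ) = (k.castSucc : ℕ) + 1 := by simp
        rw [h2]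
        push_cast
        omega
    have h1 := key (Fin.last l.length)
    have h2 := hmin (f 0) (hfs 0) (hfp 0)
    have h3 := mono_of_strictMono j hmono _ _ (hfp (Fin.last l.length))
    have h4 : l.length ≤ (j p - j q₀).toNat := by
      simp only [Fin.val_last] at h1
      omega
    exact_mod_cast h4
  · obtain ⟨l, hl1, hl2, hl3⟩ := exists_ltSeries j hmono hcov (j p - j q₀).toNat q₀ p hq₀p
      (by omega)
    let e := IsLocalization.AtPrime.primeSpectrumOrderIso (Localization.AtPrime p.asIdeal)
      p.asIdeal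
    have hle : ∀ k, l k ≤ p := by
      intro k
      rw [← hl3]
      exact l.monotone (Fin.le_last k)
    have hge : ∀ k, q₀ ≤ l k := by
      intro k
      rw [← hl2]
      exact l.monotone (Fin.zero_le k)
    let l' : LTSeries (Module.support (Localization.AtPrime p.asIdeal)
        (LocalizedModule p.asIdeal.primeCompl M)) :=
      { length := l.length
        toFun := fun k => ⟨e.symm ⟨l k, hle k⟩, by
          rw [mem_support_localizedModule_iff]
          have : PrimeSpectrum.comap (algebraMap A (Localization.AtPrime p.asIdeal))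
              (e.symm ⟨l k, hle k⟩) = l k := by
            have h1 : (e (e.symm ⟨l k, hle k⟩)).1 = l k := by rw [e.apply_symm_apply]
            exact h1
          rw [this]
          exact Module.mem_support_mono (hge k) hq₀⟩
        step := fun k => by
          show e.symm ⟨l k.castSucc, _⟩ < e.symm ⟨l k.succ, _⟩
          rw [e.symm.lt_iff_lt]
          exact l.step k }
    have h1 : ((l'.length : ℕ) : WithBot ℕ∞) ≤ Module.supportDim (Localization.AtPrime p.asIdeal)
        (LocalizedModule p.asIdeal.primeCompl M) := Order.LTSeries.length_le_krullDim l'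
    have h2 : l'.length = (j p - j q₀).toNat := hl1
    rw [← h2]
    exact h1

end DimFun

section CM

open Groth.Agent.Helper8.Depth in
include hω in
/-- `M_p` is Cohen–Macaulay iff `Ext^i(M, ω)` is supported at `p` for at most one `i` -/
theorem cm_iff (p : PrimeSpectrum A) (M : Type u) [AddCommGroup M] [Module A M]
    [Module.Finite A M] [hnt : Nontrivial (LocalizedModule p.asIdeal.primeCompl M)] :
    LocCoh.IsCohenMacaulayModule (Localization.AtPrime p.asIdeal)
      (LocalizedModule p.asIdeal.primeCompl M) ↔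
      ∀ i i' : ℤ, p ∈ ES ω i M → p ∈ ES ω i' M → i = i' := by
  obtain ⟨j, hj1, hcov⟩ := exists_dimFun hω
  have hmono : ∀ p q : PrimeSpectrum A, p < q → j p < j q :=
    fun p q hpq => strictMono_of_covBy j hcov p.asIdeal p rfl q hpq
  have hp : p ∈ Module.support A M := Module.mem_support_iff.2 hnt
  obtain ⟨a, b, hab⟩ := hω.finite_injective_dimension
  have hrange : ∀ q : PrimeSpectrum A, a ≤ j q := by
    intro q
    have hq : q ∈ ES ω (j q) (A ⧸ q.asIdeal) := (hj1 q (j q)).2 rfl
    by_contra hcon
    push Not at hcon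
    rw [ES_eq_empty_of_van ω (j q) _ (hab (A ⧸ q.asIdeal) (j q) (Or.inl hcon))] at hq
    exact hq
  obtain ⟨μ, ⟨q₀, hq₀s, hq₀p, hq₀μ⟩, hμmin⟩ := Int.exists_least_of_bdd
    (P := fun z => ∃ q : PrimeSpectrum A, q ∈ Module.support A M ∧ q ≤ p ∧ j q = z)
    ⟨a, fun z ⟨q, _, _, hq⟩ => hq ▸ hrange q⟩ ⟨j p, p, hp, le_rfl, rfl⟩
  have hmin : ∀ q : PrimeSpectrum A, q ∈ Module.support A M → q ≤ p → j q₀ ≤ j q := by
    intro q hq hqp
    rw [hq₀μ]
    exact hμmin (j q) ⟨q, hq, hqp, rfl⟩
  have hq₀min : ∀ q' : PrimeSpectrum A, q' ∈ Module.support A M → q' ≤ q₀ → q' = q₀ := by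
    intro q' hq' hle
    by_contra hne
    have h1 := hmono q' q₀ (lt_of_le_of_ne hle hne)
    have h2 := hmin q' hq' (hle.trans hq₀p)
    omega
  have hbot : p ∈ ES ω (j q₀) M :=
    Module.mem_support_mono hq₀p (mem_ES_of_minimal hω j hj1 M q₀ hq₀s hq₀min).1
  have hne : LocCoh.depth (Localization.AtPrime p.asIdeal)
      (LocalizedModule p.asIdeal.primeCompl M) ≠ ⊤ :=
    idealDepth_ne_top (smul_top_ne_top_of_local _ _)
  obtain ⟨r, hr⟩ := ENat.ne_top_iff_exists.1 hne
  obtain ⟨hd1, hd2⟩ := depth_at hω p (j p) (hj1 p) r M hr.symm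
  have hdim := supportDim_localizedModule_eq j hmono hcov p M q₀ hq₀s hq₀p hmin
  have hlow : ∀ i : ℤ, p ∈ ES ω i M → j q₀ ≤ i := by
    intro i hi
    obtain ⟨q, hq1, hq2, hq3⟩ := exists_le_of_mem_ES hω j hj1 hmono p M i hi
    exact (hmin q hq1 hq2).trans hq3
  have hup : ∀ i : ℤ, p ∈ ES ω i M → i ≤ j p - r := by
    intro i hi
    have h1 := le_of_mem_ES hω p (j p) (hj1 p) M i hi
    by_contra hcon
    push Not at hcon
    apply hd1 (j p - i).toNat (by omega)
    have : j p - ((j p - i).toNat : ℤ) = i := by omega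
    rw [this]
    exact hi
  have hle := hlow _ hd2
  unfold LocCoh.IsCohenMacaulayModule
  rw [hdim, ← hr]
  have hiff : ((((j p - j q₀).toNat : ℕ) : WithBot ℕ∞) = (((r : ℕ) : ℕ∞) : WithBot ℕ∞)) ↔
      (j p - j q₀).toNat = r := by
    constructor
    · intro h
      exact_mod_cast h
    · intro h
      rw [h]
      rfl
  rw [hiff]
  constructor
  · intro h i i' hi hi'
    have h1 := hlow i hi
    have h2 := hup i hi
    have h3 := hlow i' hi'
    have h4 := hup i' hi'
    omega
  · intro h
    have := h _ _ hbot hd2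
    omega

/-- the locus where at most one `Ext^i(M, ω)` is supported -/
def atMostOne (ω : Dual.D A) (M : Type u) [AddCommGroup M] [Module A M] :
    Set (PrimeSpectrum A) :=
  {p | ∀ i i' : ℤ, p ∈ ES ω i M → p ∈ ES ω i' M → i = i'}

include hω in
lemma isOpen_atMostOne (M : Type u) [AddCommGroup M] [Module A M] [Module.Finite A M] :
    IsOpen (atMostOne ω M) := by
  obtain ⟨a, b, hab⟩ := hω.finite_injective_dimension
  rw [← isClosed_compl_iff]
  have hcl : ∀ i : ℤ, IsClosed (ES ω i M) := by
    intro i
    haveI := finite_ext hω M i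
    exact Module.isClosed_support
  have heq : (atMostOne ω M)ᶜ =
      ⋃ x ∈ ((Finset.Icc a b ×ˢ Finset.Icc a b).filter (fun x : ℤ × ℤ => x.1 ≠ x.2)),
        (ES ω x.1 M ∩ ES ω x.2 M) := by
    ext p
    simp only [atMostOne, Set.mem_compl_iff, Set.mem_setOf_eq, Set.mem_iUnion, Set.mem_inter_iff,
      Finset.mem_filter, Finset.mem_product, Finset.mem_Icc, exists_prop]
    constructor
    · intro h
      push Not at h
      obtain ⟨i, i', hi, hi', hne⟩ := h
      have hr : ∀ k : ℤ, p ∈ ES ω k M → a ≤ k ∧ k ≤ b := by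
        intro k hk
        by_contra hcon
        have h1 : k < a ∨ b < k := by omega
        rw [ES_eq_empty_of_van ω k M (hab M k h1)] at hk
        exact hk
      exact ⟨(i, i'), ⟨⟨hr i hi, hr i' hi'⟩, hne⟩, hi, hi'⟩
    · rintro ⟨⟨i, i'⟩, ⟨-, hne⟩, hi, hi'⟩ h
      exact hne (h i i' hi hi')
  rw [heq]
  exact isClosed_biUnion_finset (fun x _ => (hcl x.1).inter (hcl x.2))

open Groth.Agent.Helper8.Depth in
include hω in
lemma cm_or_subsingleton_iff (M : Type u) [AddCommGroup M] [Module A M] [Module.Finite A M]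
    (p : PrimeSpectrum A) :
    (Subsingleton (LocalizedModule p.asIdeal.primeCompl M) ∨
      LocCoh.IsCohenMacaulayModule (Localization.AtPrime p.asIdeal)
        (LocalizedModule p.asIdeal.primeCompl M)) ↔ p ∈ atMostOne ω M := by
  by_cases hnt : Nontrivial (LocalizedModule p.asIdeal.primeCompl M)
  · rw [cm_iff hω p M]
    constructor
    · rintro (h | h)
      · exact absurd h (not_subsingleton _)
      · exact h
    · intro h
      exact Or.inr h
  · rw [not_nontrivial_iff_subsingleton] at hnt
    constructor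
    · intro _ i i' hi _
      exfalso
      have h1 : p ∈ Module.support A M := ES_subset_support ω i M hi
      rw [Module.mem_support_iff] at h1
      exact not_subsingleton _ hnt
    · intro _
      exact Or.inl hnt

include hω in
lemma minimal_mem_atMostOne (M : Type u) [AddCommGroup M] [Module A M] [Module.Finite A M]
    (p : PrimeSpectrum A) (hp : p ∈ Module.support A M) :
    ∃ q : PrimeSpectrum A, q ≤ p ∧ q ∈ Module.support A M ∧ q ∈ atMostOne ω M := by
  obtain ⟨j, hj1, hcov⟩ := exists_dimFun hω
  haveI := p.isPrime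
  obtain ⟨Q, hQ, hQp⟩ := Ideal.exists_minimalPrimes_le (Module.annihilator_le_of_mem_support hp)
  haveI hQprime : Q.IsPrime := hQ.1.1
  let q : PrimeSpectrum A := ⟨Q, hQprime⟩
  have hqs : q ∈ Module.support A M := by
    rw [Module.mem_support_iff_of_finite]
    exact hQ.1.2
  have hqmin : ∀ q' : PrimeSpectrum A, q' ∈ Module.support A M → q' ≤ q → q' = q := by
    intro q' hq' hle
    apply PrimeSpectrum.ext
    exact le_antisymm ((PrimeSpectrum.asIdeal_le_asIdeal _ _).2 hle)
      (hQ.2 ⟨q'.isPrime, Module.annihilator_le_of_mem_support hq'⟩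
        ((PrimeSpectrum.asIdeal_le_asIdeal _ _).2 hle))
  refine ⟨q, (PrimeSpectrum.asIdeal_le_asIdeal _ _).1 hQp, hqs, ?_⟩
  intro i i' hi hi'
  have h := (mem_ES_of_minimal hω j hj1 M q hqs hqmin).2
  rw [h i hi, h i' hi']

end CM

section Main

open Groth.Agent.Helper8.Depth

theorem main_S1716 (A : Type u) [CommRing A] [IsNoetherianRing A]
    (hA : ∃ ω : Dual.D A, Dual.IsDualizing A ω) (M : Type u) [AddCommGroup M] [Module A M]
    [Module.Finite A M] :
    IsOpen {p : PrimeSpectrum A | Subsingleton (LocalizedModule p.asIdeal.primeCompl M) ∨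
      LocCoh.IsCohenMacaulayModule (Localization.AtPrime p.asIdeal)
        (LocalizedModule p.asIdeal.primeCompl M)} ∧
    Module.support A M ⊆ closure ({p : PrimeSpectrum A |
      LocCoh.IsCohenMacaulayModule (Localization.AtPrime p.asIdeal)
        (LocalizedModule p.asIdeal.primeCompl M)} ∩ Module.support A M) := by
  obtain ⟨ω, hω⟩ := hA
  constructor
  · have : {p : PrimeSpectrum A | Subsingleton (LocalizedModule p.asIdeal.primeCompl M) ∨
        LocCoh.IsCohenMacaulayModule (Localization.AtPrime p.asIdeal)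
          (LocalizedModule p.asIdeal.primeCompl M)} = atMostOne ω M := by
      ext p
      exact cm_or_subsingleton_iff hω M p
    rw [this]
    exact isOpen_atMostOne hω M
  · intro p hp
    obtain ⟨q, hqp, hqs, hq⟩ := minimal_mem_atMostOne hω M p hp
    have h1 : p ∈ closure ({q} : Set (PrimeSpectrum A)) :=
      (PrimeSpectrum.le_iff_mem_closure q p).1 hqp
    refine closure_mono ?_ h1
    rw [Set.singleton_subset_iff]
    refine ⟨?_, hqs⟩
    rcases (cm_or_subsingleton_iff hω M q).2 hq with h | h
    · exfalso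
      rw [Module.mem_support_iff] at hqs
      exact not_subsingleton _ h
    · exact h

lemma cmLocalRing_iff (A : Type u) [CommRing A] [IsNoetherianRing A] (p : PrimeSpectrum A) :
    LocCoh.IsCohenMacaulayLocalRing (Localization.AtPrime p.asIdeal) ↔
      LocCoh.IsCohenMacaulayModule (Localization.AtPrime p.asIdeal)
        (LocalizedModule p.asIdeal.primeCompl A) := by
  unfold LocCoh.IsCohenMacaulayModule
  rw [depth_localizedModule_self p.asIdeal,
    Module.supportDim_eq_of_equiv (localizedModuleSelfEquiv p.asIdeal)]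
  constructor
  · intro h
    exact h.supportDim_eq_depth
  · intro h
    exact { supportDim_eq_depth := h }

theorem main_S0372 (A : Type u) [CommRing A] [IsNoetherianRing A] (ω : Dual.D A)
    (hω : Dual.IsDualizing A ω) :
    IsOpen {p : PrimeSpectrum A |
      LocCoh.IsCohenMacaulayLocalRing (Localization.AtPrime p.asIdeal)} ∧
    Dense {p : PrimeSpectrum A |
      LocCoh.IsCohenMacaulayLocalRing (Localization.AtPrime p.asIdeal)} := by
  have hnt : ∀ p : PrimeSpectrum A, Nontrivial (LocalizedModule p.asIdeal.primeCompl A) :=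
    fun p => (localizedModuleSelfEquiv p.asIdeal).toEquiv.nontrivial
  have heq : {p : PrimeSpectrum A |
      LocCoh.IsCohenMacaulayLocalRing (Localization.AtPrime p.asIdeal)} = atMostOne ω A := by
    ext p
    rw [Set.mem_setOf_eq, cmLocalRing_iff, ← cm_or_subsingleton_iff hω A p]
    constructor
    · exact Or.inr
    · rintro (h | h)
      · haveI := hnt p
        exact absurd h (not_subsingleton _)
      · exact h
  rw [heq]
  refine ⟨isOpen_atMostOne hω A, ?_⟩
  intro p
  have hp : p ∈ Module.support A A := Module.mem_support_iff.2 (hnt p)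
  obtain ⟨q, hqp, -, hq⟩ := minimal_mem_atMostOne hω A p hp
  have h1 : p ∈ closure ({q} : Set (PrimeSpectrum A)) :=
    (PrimeSpectrum.le_iff_mem_closure q p).1 hqp
  exact closure_mono (Set.singleton_subset_iff.2 hq) h1

theorem main_S0370 (A : Type u) [CommRing A] [IsNoetherianRing A] (W : Type u) [AddCommGroup W]
    [Module A W] [Module.Finite A W] (h : Dual.IsDualizing A (Dual.inD A W)) :
    LocCoh.IsCohenMacaulayRing A := by
  refine { isCohenMacaulayLocalRing_localization := fun p hp => ?_ }
  let P : PrimeSpectrum A := ⟨p, hp⟩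
  haveI : Nontrivial (LocalizedModule P.asIdeal.primeCompl A) :=
    (localizedModuleSelfEquiv P.asIdeal).toEquiv.nontrivial
  show LocCoh.IsCohenMacaulayLocalRing (Localization.AtPrime P.asIdeal)
  rw [cmLocalRing_iff, cm_iff h P A]
  have key : ∀ i : ℤ, P ∈ ES (Dual.inD A W) i A → i = 0 := by
    intro i hi
    rw [ES_self_eq h i] at hi
    by_contra hne
    have hz : IsZero ((DerivedCategory.homologyFunctor (ModuleCat.{u} A) i).obj
        (Dual.inD A W)) := by
      rcases lt_or_gt_of_ne hne with hlt | hgt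
      · exact isZero_of_isGE (Dual.inD A W) 0 i hlt
      · exact isZero_of_isLE (Dual.inD A W) 0 i hgt
    haveI := ModuleCat.subsingleton_of_isZero hz
    rw [Module.support_eq_empty] at hi
    exact hi
  intro i i' hi hi'
  rw [key i hi, key i' hi']

end Main

end Groth.Agent.Helper3.DualSupp
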