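import Mathlib
import Groth.Prelude.Def_Wider
import Groth.Prelude.Def_CAlg
import Groth.Prelude.Def_DRing2
import Groth.Agent.Lib.Helper3.DualSupp3

/-!
# Dualizing complexes: the range of `Ext^i(M, ω)` at a point, and the `(S_k)` condition
-/

set_option autoImplicit false
universe u
open CategoryTheory CategoryTheory.Limits Pretriangulated Triangulated Opposite

attribute [local instance] HasDerivedCategory.standard

namespace Groth.Agent.Helper3.DualSupp

open DerivedCategory Groth.Agent.Helper3.DualCx Groth.Agent.Helper3.RegGlDim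
  Groth.Agent.Helper3.DualFun

variable {A : Type u} [CommRing A] [IsNoetherianRing A] {ω : Dual.D A}
  (hω : Dual.IsDualizing A ω)

open Groth.Agent.Helper8.Depth in
include hω in
/-- the degrees `i` with `p ∈ Supp Ext^i(M, ω)` fill (the ends of) the interval
`[j p - dim M_p, j p - depth M_p]` -/
theorem range_at (j : PrimeSpectrum A → ℤ)
    (hj1 : ∀ (p : PrimeSpectrum A) (i : ℤ), p ∈ ES ω i (A ⧸ p.asIdeal) ↔ i = j p)
    (hcov : ∀ p q : PrimeSpectrum A, p ⋖ q → j p = j q - 1)
    (p : PrimeSpectrum A) (M : Type u) [AddCommGroup M] [Module A M]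
    [Module.Finite A M] [hnt : Nontrivial (LocalizedModule p.asIdeal.primeCompl M)] :
    ∃ r D : ℕ, LocCoh.depth (Localization.AtPrime p.asIdeal)
        (LocalizedModule p.asIdeal.primeCompl M) = (r : ℕ∞) ∧
      Module.supportDim (Localization.AtPrime p.asIdeal)
        (LocalizedModule p.asIdeal.primeCompl M) = ((D : ℕ) : WithBot ℕ∞) ∧
      p ∈ ES ω (j p - r) M ∧ p ∈ ES ω (j p - D) M ∧
      ∀ i : ℤ, p ∈ ES ω i M → j p - D ≤ i ∧ i ≤ j p - r := by
  have hmono : ∀ p q : PrimeSpectrum A, p < q → j p < j q :=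
    fun p q hpq => strictMono_of_covBy j hcov p.asIdeal p rfl q hpq
  have hp : p ∈ Module.support A M := Module.mem_support_iff.2 hnt
  obtain ⟨a, b, hab⟩ := hω.finite_injective_dimension
  have hrange : ∀ q : PrimeSpectrum A, a ≤ j q := by
    intro q
    have hq : q ∈ ES ω (j q) (A ⧸ q.asIdeal) := (hj1 q (j q)).2 rfl
    by_contra hcon
    push Not at hcon
    rw [ES_eq_empty_of_van ω (j q) _ (hab (A ⧸ q.asIdeal) (j q) (Or.inl hcon))] at hq
    exact hq
  obtain ⟨μ, ⟨q₀, hq₀s, hq₀p, hq₀μ⟩, hμmin⟩ := Int.exists_least_of_bdd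
    (P := fun z => ∃ q : PrimeSpectrum A, q ∈ Module.support A M ∧ q ≤ p ∧ j q = z)
    ⟨a, fun z ⟨q, _, _, hq⟩ => hq ▸ hrange q⟩ ⟨j p, p, hp, le_rfl, rfl⟩
  have hmin : ∀ q : PrimeSpectrum A, q ∈ Module.support A M → q ≤ p → j q₀ ≤ j q := by
    intro q hq hqp
    rw [hq₀μ]
    exact hμmin (j q) ⟨q, hq, hqp, rfl⟩
  have hq₀min : ∀ q' : PrimeSpectrum A, q' ∈ Module.support A M → q' ≤ q₀ → q' = q₀ := by
    intro q' hq' hle
    by_contra hne
    have h1 := hmono q' q₀ (lt_of_le_of_ne hle hne)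
    have h2 := hmin q' hq' (hle.trans hq₀p)
    omega
  have hbot : p ∈ ES ω (j q₀) M :=
    Module.mem_support_mono hq₀p (mem_ES_of_minimal hω j hj1 M q₀ hq₀s hq₀min).1
  have hne : LocCoh.depth (Localization.AtPrime p.asIdeal)
      (LocalizedModule p.asIdeal.primeCompl M) ≠ ⊤ :=
    idealDepth_ne_top (smul_top_ne_top_of_local _ _)
  obtain ⟨r, hr⟩ := ENat.ne_top_iff_exists.1 hne
  obtain ⟨hd1, hd2⟩ := depth_at hω p (j p) (hj1 p) r M hr.symm
  have hdim := supportDim_localizedModule_eq j hmono hcov p M q₀ hq₀s hq₀p hmin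
  have hlow : ∀ i : ℤ, p ∈ ES ω i M → j q₀ ≤ i := by
    intro i hi
    obtain ⟨q, hq1, hq2, hq3⟩ := exists_le_of_mem_ES hω j hj1 hmono p M i hi
    exact (hmin q hq1 hq2).trans hq3
  have hup : ∀ i : ℤ, p ∈ ES ω i M → i ≤ j p - r := by
    intro i hi
    have h1 := le_of_mem_ES hω p (j p) (hj1 p) M i hi
    by_contra hcon
    push Not at hcon
    apply hd1 (j p - i).toNat (by omega)
    have : j p - ((j p - i).toNat : ℤ) = i := by omega
    rw [this]
    exact hi
  have hjle : j q₀ ≤ j p := mono_of_strictMono j hmono _ _ hq₀p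
  have hcast : j p - (((j p - j q₀).toNat : ℕ) : ℤ) = j q₀ := by omega
  refine ⟨r, (j p - j q₀).toNat, hr.symm, hdim, hd2, ?_, ?_⟩
  · rw [hcast]
    exact hbot
  · intro i hi
    rw [hcast]
    exact ⟨hlow i hi, hup i hi⟩

open Groth.Agent.Helper8.Depth in
/-- **S1715**: over a Noetherian ring with a dualizing complex, a finite module satisfying
`(S_k)` has only finitely many points of depth `k` and dimension `> k`. -/
theorem main_S1715 (A : Type u) [CommRing A] [IsNoetherianRing A]
    (hA : ∃ ω : Dual.D A, Dual.IsDualizing A ω) (M : Type u) [AddCommGroup M] [Module A M]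
    [Module.Finite A M] (k : ℕ) (hM : LocCoh.HasSk k A M) :
    Set.Finite {p : PrimeSpectrum A |
      LocCoh.depth (Localization.AtPrime p.asIdeal) (LocalizedModule p.asIdeal.primeCompl M) = k ∧
      (k : WithBot ℕ∞) < Module.supportDim (Localization.AtPrime p.asIdeal)
        (LocalizedModule p.asIdeal.primeCompl M)} := by
  obtain ⟨ω, hω⟩ := hA
  obtain ⟨j, hj1, hcov⟩ := exists_dimFun hω
  have hmono : ∀ p q : PrimeSpectrum A, p < q → j p < j q :=
    fun p q hpq => strictMono_of_covBy j hcov p.asIdeal p rfl q hpq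
  obtain ⟨a, b, hab⟩ := hω.finite_injective_dimension
  have hr : ∀ (p : PrimeSpectrum A) (i : ℤ), p ∈ ES ω i M → a ≤ i ∧ i ≤ b := by
    intro p i hi
    by_contra hcon
    have h1 : i < a ∨ b < i := by omega
    rw [ES_eq_empty_of_van ω i M (hab M i h1)] at hi
    exact hi
  -- the ideal cutting out `ES i ∩ ES i'`
  let I : ℤ × ℤ → Ideal A := fun x =>
    Module.annihilator A (Dual.inD A M ⟶ ω⟦x.1⟧) ⊔ Module.annihilator A (Dual.inD A M ⟶ ω⟦x.2⟧)
  have hI : ∀ (x : ℤ × ℤ) (p : PrimeSpectrum A),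
      I x ≤ p.asIdeal ↔ p ∈ ES ω x.1 M ∧ p ∈ ES ω x.2 M := by
    intro x p
    haveI := finite_ext hω M x.1
    haveI := finite_ext hω M x.2
    simp only [I, sup_le_iff, ES, Module.mem_support_iff_of_finite]
  have hsub : {p : PrimeSpectrum A |
      LocCoh.depth (Localization.AtPrime p.asIdeal) (LocalizedModule p.asIdeal.primeCompl M) = k ∧
      (k : WithBot ℕ∞) < Module.supportDim (Localization.AtPrime p.asIdeal)
        (LocalizedModule p.asIdeal.primeCompl M)} ⊆
      ⋃ x ∈ (Finset.Icc a b ×ˢ Finset.Icc a b),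
        PrimeSpectrum.asIdeal ⁻¹' (I x).minimalPrimes := by
    rintro p ⟨hpd, hpdim⟩
    have hnt : Nontrivial (LocalizedModule p.asIdeal.primeCompl M) := by
      by_contra hcon
      rw [not_nontrivial_iff_subsingleton] at hcon
      have : Module.supportDim (Localization.AtPrime p.asIdeal)
          (LocalizedModule p.asIdeal.primeCompl M) = ⊥ := Module.supportDim_eq_bot_of_subsingleton _ _
      rw [this] at hpdim
      exact not_lt_bot hpdim
    obtain ⟨r, D, hr1, hD1, hr2, hD2, hrg⟩ := range_at hω j hj1 hcov p M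
    have hrk : r = k := by
      rw [hr1] at hpd
      exact_mod_cast hpd
    have hkD : k < D := by
      rw [hD1] at hpdim
      exact_mod_cast hpdim
    subst hrk
    simp only [Set.mem_iUnion, Set.mem_preimage, Finset.mem_product, Finset.mem_Icc, exists_prop]
    refine ⟨(j p - r, j p - D), ⟨hr p _ hr2, hr p _ hD2⟩, ?_⟩
    refine ⟨⟨p.isPrime, (hI _ p).2 ⟨hr2, hD2⟩⟩, ?_⟩
    rintro Q ⟨hQprime, hQI⟩ hQp
    let q : PrimeSpectrum A := ⟨Q, hQprime⟩
    have hqp : q ≤ p := (PrimeSpectrum.asIdeal_le_asIdeal _ _).1 hQp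
    by_contra hcon
    have hlt : q < p := by
      refine lt_of_le_of_ne hqp ?_
      intro heq
      apply hcon
      rw [← heq]
    have hjlt := hmono q p hlt
    obtain ⟨hq1, hq2⟩ := (hI (j p - r, j p - D) q).1 hQI
    have hntq : Nontrivial (LocalizedModule q.asIdeal.primeCompl M) :=
      Module.mem_support_iff.1 (ES_subset_support ω _ M hq1)
    obtain ⟨r', D', hr1', hD1', -, -, hrg'⟩ := range_at hω j hj1 hcov q M
    have h1 := hrg' _ hq1
    have h2 := hrg' _ hq2
    have hsk := hM q.asIdeal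
    rw [hr1', hD1'] at hsk
    have hsk' : min r D' ≤ r' := by
      have : ((min r D' : ℕ) : WithBot ℕ∞) ≤ ((r' : ℕ) : WithBot ℕ∞) := by
        have e : ((min r D' : ℕ) : WithBot ℕ∞) = min ((r : ℕ) : WithBot ℕ∞) ((D' : ℕ) : WithBot ℕ∞) := by
          rcases le_total r D' with h | h
          · rw [min_eq_left h, min_eq_left (by exact_mod_cast h)]
          · rw [min_eq_right h, min_eq_right (by exact_mod_cast h)]
        rw [e]
        exact hsk
      exact_mod_cast this
    have : min r D' = r ∨ min r D' = D' := by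
      rcases le_total r D' with h | h
      · exact Or.inl (min_eq_left h)
      · exact Or.inr (min_eq_right h)
    omega
  refine Set.Finite.subset ?_ hsub
  refine Set.Finite.biUnion (Finset.finite_toSet _) (fun x _ => ?_)
  refine Set.Finite.preimage ?_ (Ideal.finite_minimalPrimes_of_isNoetherianRing A (I x))
  intro p _ q _ h
  exact PrimeSpectrum.ext h

end Groth.Agent.Helper3.DualSupp
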