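import Mathlib
import Groth.Prelude.Def_Wider
import Groth.Prelude.Def_CAlg
import Groth.Prelude.Def_DRing2
import Groth.Agent.Lib.Helper3.DualSupp4

/-!
# Dualizing complexes: supports of `Hom(N, ω[i])` for bounded `N`, and the module `ω_A`
-/

set_option autoImplicit false
universe u
open CategoryTheory CategoryTheory.Limits Pretriangulated Triangulated Opposite

attribute [local instance] HasDerivedCategory.standard

namespace Groth.Agent.Helper3.DualSupp

open DerivedCategory Groth.Agent.Helper3.DualCx Groth.Agent.Helper3.RegGlDim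
  Groth.Agent.Helper3.DualFun

variable {A : Type u} [CommRing A]

section Devissage

variable (ω : Dual.D A)

/-- homology of `τ_{<b}` on supports of `Ext` -/
lemma ES_homology_truncLT_subset (N : Dual.D A) (b k m : ℤ) :
    ES ω m (Dual.HD A (((TStructure.t : TStructure (Dual.D A)).truncLT b).obj N) k) ⊆
      ES ω m (Dual.HD A N k) := by
  let t : TStructure (Dual.D A) := TStructure.t
  have hT := t.triangleLTGE_distinguished b N
  by_cases hk : k < b
  · have hB : ((t.truncGE b).obj N).IsGE b := inferInstanceAs (t.IsGE ((t.truncGE b).obj N) b)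
    have : IsIso ((homologyFunctor (ModuleCat.{u} A) k).map ((t.truncLTι b).app N)) :=
      _root_.Helper5.TwoTerm.isIso_homologyMap_mor₁ _ hT (k - 1) k (by lia)
        (isZero_of_isGE ((t.truncGE b).obj N) b (k - 1) (by lia))
        (isZero_of_isGE ((t.truncGE b).obj N) b k (by lia))
    exact ES_subset_of_equiv ω m
      (asIso ((homologyFunctor (ModuleCat.{u} A) k).map ((t.truncLTι b).app N))).toLinearEquiv
  · have hA : ((t.truncLT b).obj N).IsLE (b - 1) :=
      inferInstanceAs (t.IsLE ((t.truncLT b).obj N) (b - 1))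
    haveI : Subsingleton (Dual.HD A ((t.truncLT b).obj N) k) :=
      ModuleCat.subsingleton_of_isZero
        (isZero_of_isLE ((t.truncLT b).obj N) (b - 1) k (by lia))
    rw [ES_eq_empty_of_subsingleton]
    exact Set.empty_subset _

/-- homology of `τ_{≥b}` on supports of `Ext` -/
lemma ES_homology_truncGE_subset (N : Dual.D A) (b k m : ℤ) :
    ES ω m (Dual.HD A (((TStructure.t : TStructure (Dual.D A)).truncGE b).obj N) k) ⊆
      ES ω m (Dual.HD A N k) := by
  let t : TStructure (Dual.D A) := TStructure.t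
  have hT := t.triangleLTGE_distinguished b N
  by_cases hk : b ≤ k
  · have hA : ((t.truncLT b).obj N).IsLE (b - 1) :=
      inferInstanceAs (t.IsLE ((t.truncLT b).obj N) (b - 1))
    have : IsIso ((homologyFunctor (ModuleCat.{u} A) k).map ((t.truncGEπ b).app N)) :=
      _root_.Helper5.TwoTerm.isIso_homologyMap_mor₂ _ hT k (k + 1) rfl
        (isZero_of_isLE ((t.truncLT b).obj N) (b - 1) k (by lia))
        (isZero_of_isLE ((t.truncLT b).obj N) (b - 1) (k + 1) (by lia))
    exact ES_subset_of_equiv ω m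
      (asIso ((homologyFunctor (ModuleCat.{u} A) k).map ((t.truncGEπ b).app N))).symm.toLinearEquiv
  · have hB : ((t.truncGE b).obj N).IsGE b := inferInstanceAs (t.IsGE ((t.truncGE b).obj N) b)
    haveI : Subsingleton (Dual.HD A ((t.truncGE b).obj N) k) :=
      ModuleCat.subsingleton_of_isZero
        (isZero_of_isGE ((t.truncGE b).obj N) b k (by lia))
    rw [ES_eq_empty_of_subsingleton]
    exact Set.empty_subset _

/-- maps out of an object concentrated in degree `j`, on supports -/
lemma support_hom_of_heart (X : Dual.D A) (j : ℤ) [X.IsGE j] [X.IsLE j] (i : ℤ) :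
    Module.support A (X ⟶ ω⟦i⟧) = ES ω (i + j) (Dual.HD A X j) := by
  obtain ⟨Y, ⟨eY⟩, hY⟩ := exists_heart_equiv X j
  obtain ⟨e⟩ := hY ω i (i + j) rfl
  rw [← e.support_eq]
  apply le_antisymm
  · exact ES_subset_of_equiv ω (i + j) eY.toLinearEquiv
  · exact ES_subset_of_equiv ω (i + j) eY.symm.toLinearEquiv

/-- exactness of `Hom(-, K)` on a distinguished triangle, on supports -/
lemma support_hom_subset_of_distTriang (T : Triangle (Dual.D A)) (hT : T ∈ distTriang _)
    (K : Dual.D A) :
    Module.support A (T.obj₂ ⟶ K) ⊆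
      Module.support A (T.obj₃ ⟶ K) ∪ Module.support A (T.obj₁ ⟶ K) := by
  let α : (T.obj₃ ⟶ K) →ₗ[A] (T.obj₂ ⟶ K) := Linear.leftComp A K T.mor₂
  let β : (T.obj₂ ⟶ K) →ₗ[A] (T.obj₁ ⟶ K) := Linear.leftComp A K T.mor₁
  have hex : Function.Exact α β := by
    intro φ
    constructor
    · intro h0
      obtain ⟨ψ, hψ⟩ := Triangle.yoneda_exact₂ _ hT φ h0
      exact ⟨ψ, hψ.symm⟩
    · rintro ⟨ψ, rfl⟩
      have h1 := comp_distTriang_mor_zero₁₂ _ hT
      exact (Category.assoc _ _ _).symm.trans ((congrArg (· ≫ ψ) h1).trans zero_comp)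
  exact support_subset_of_exact α β hex

/-- support dévissage: `Supp Hom(N, ω[i]) ⊆ ⋃_k Supp Ext^{i+k}(H^k N, ω)` for bounded `N` -/
theorem not_mem_support_hom_of_bounded (p : PrimeSpectrum A) (i c : ℤ) (n : ℕ) :
    ∀ (N : Dual.D A) [N.IsGE c] [N.IsLE (c + n - 1)]
      (_ : ∀ k : ℤ, p ∉ ES ω (i + k) (Dual.HD A N k)),
      p ∉ Module.support A (N ⟶ ω⟦i⟧) := by
  induction n with
  | zero =>
    intro N _ _ _
    have hz : IsZero N := (TStructure.t).isZero N (c + (0 : ℕ) - 1) c (by simp)
    haveI : Subsingleton (N ⟶ ω⟦i⟧) := ⟨fun f g => hz.eq_of_src f g⟩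
    rw [Module.support_eq_empty]
    exact Set.notMem_empty _
  | succ n ih =>
    intro N _ _ hN
    let t : TStructure (Dual.D A) := TStructure.t
    let b : ℤ := c + n
    have hT := t.triangleLTGE_distinguished b N
    haveI hA1 : ((t.truncLT b).obj N).IsLE (c + n - 1) :=
      inferInstanceAs (t.IsLE ((t.truncLT b).obj N) (b - 1))
    haveI hA2 : ((t.truncLT b).obj N).IsGE c :=
      inferInstanceAs (t.IsGE ((t.truncLT b).obj N) c)
    haveI hB1 : ((t.truncGE b).obj N).IsGE b := inferInstanceAs (t.IsGE ((t.truncGE b).obj N) b)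
    haveI hNb : t.IsLE N b :=
      t.isLE_of_le N (c + (n + 1 : ℕ) - 1) b (by simp only [b]; push_cast; omega)
    haveI hB2 : ((t.truncGE b).obj N).IsLE b := inferInstanceAs (t.IsLE ((t.truncGE b).obj N) b)
    have h1 : p ∉ Module.support A ((t.truncLT b).obj N ⟶ ω⟦i⟧) :=
      ih _ (fun k hk => hN k (ES_homology_truncLT_subset ω N b k (i + k) hk))
    have h3 : p ∉ Module.support A ((t.truncGE b).obj N ⟶ ω⟦i⟧) := by
      rw [support_hom_of_heart ω _ b i]
      exact fun hk => hN b (ES_homology_truncGE_subset ω N b b (i + b) hk)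
    intro hp
    rcases support_hom_subset_of_distTriang _ hT (ω⟦i⟧) hp with h | h
    · exact h3 h
    · exact h1 h

/-- homology of `τ_{<b}` in degrees `< b`, on supports of `Ext` -/
lemma subset_ES_homology_truncLT (N : Dual.D A) (b k m : ℤ) (hk : k < b) :
    ES ω m (Dual.HD A N k) ⊆
      ES ω m (Dual.HD A (((TStructure.t : TStructure (Dual.D A)).truncLT b).obj N) k) := by
  let t : TStructure (Dual.D A) := TStructure.t
  have hT := t.triangleLTGE_distinguished b N
  have hB : ((t.truncGE b).obj N).IsGE b := inferInstanceAs (t.IsGE ((t.truncGE b).obj N) b)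
  have : IsIso ((homologyFunctor (ModuleCat.{u} A) k).map ((t.truncLTι b).app N)) :=
    _root_.Helper5.TwoTerm.isIso_homologyMap_mor₁ _ hT (k - 1) k (by lia)
      (isZero_of_isGE ((t.truncGE b).obj N) b (k - 1) (by lia))
      (isZero_of_isGE ((t.truncGE b).obj N) b k (by lia))
  exact ES_subset_of_equiv ω m
    (asIso ((homologyFunctor (ModuleCat.{u} A) k).map ((t.truncLTι b).app N))).symm.toLinearEquiv

end Devissage

section OmegaA

variable [IsLocalRing A] [IsNoetherianRing A] {ω : Dual.D A} (hω : Dual.IsDualizing A ω)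
  (hn : Dual.IsNormalized A ω)

include hω hn in
/-- `Ext^i(M, ω)` is not supported anywhere for `i < - dim A` -/
lemma neg_dim_le_of_mem_ES (d : ℕ) (hd : ringKrullDim A = d) (M : Type u) [AddCommGroup M]
    [Module A M] [Module.Finite A M] (p : PrimeSpectrum A) (i : ℤ) (hp : p ∈ ES ω i M) :
    -(d : ℤ) ≤ i := by
  by_contra hcon
  push Not at hcon
  have h1 : Module.supportDim A M ≤ d := by
    rw [← hd]
    exact Module.supportDim_le_ringKrullDim A M
  have := van_lt_of_annihilated hω hn ⊥ M bot_le d h1 i hcon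
  rw [ES_eq_empty_of_van ω i M this] at hp
  exact hp

include hω hn in
/-- `Ext^m(ω_A, ω)` is supported at `p` only for `m = -d` or `m ≤ j(p) - 2` -/
theorem add_two_le_of_mem_ES_omega (d : ℕ) (hd : ringKrullDim A = d) (p : PrimeSpectrum A)
    (jp : ℤ) (hjp : ∀ i : ℤ, p ∈ ES ω i (A ⧸ p.asIdeal) ↔ i = jp) (m : ℤ) (hm : m ≠ -(d : ℤ))
    (hp : p ∈ ES ω m (Dual.HD A ω (-(d : ℤ)))) : m + 2 ≤ jp := by
  by_contra hcon
  push Not at hcon
  let t : TStructure (Dual.D A) := TStructure.t
  let b : ℤ := -(d : ℤ) + 1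
  obtain ⟨a', b', hab⟩ := hω.finite_injective_dimension
  haveI hge : ω.IsGE (-(d : ℤ)) := isGE_of_subsingleton ω (-(d : ℤ)) (fun k hk => by
    rw [← van_self_iff]
    have h1 : Module.supportDim A A ≤ d := by
      rw [Module.supportDim_self_eq_ringKrullDim, hd]
    exact van_lt_of_annihilated hω hn ⊥ A bot_le d h1 k hk)
  haveI hle : ω.IsLE b' := isLE_of_subsingleton ω b'
    (fun k hk => (van_self_iff ω k).1 (hab A k (Or.inr hk)))
  have hT := t.triangleLTGE_distinguished b ω
  have hT' := inv_rot_of_distTriang _ hT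
  haveI hA0 : ((t.truncLT b).obj ω).IsLE (b - 1) :=
    inferInstanceAs (t.IsLE ((t.truncLT b).obj ω) (b - 1))
  haveI hA1 : ((t.truncLT b).obj ω).IsLE (-(d : ℤ)) :=
    t.isLE_of_le _ (b - 1) (-(d : ℤ)) (by simp only [b]; omega)
  haveI hA2 : ((t.truncLT b).obj ω).IsGE (-(d : ℤ)) :=
    inferInstanceAs (t.IsGE ((t.truncLT b).obj ω) (-(d : ℤ)))
  haveI hB1 : ((t.truncGE b).obj ω).IsGE b := inferInstanceAs (t.IsGE ((t.truncGE b).obj ω) b)
  haveI hB2 : ((t.truncGE b).obj ω).IsLE b' := inferInstanceAs (t.IsLE ((t.truncGE b).obj ω) b')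
  let n : ℕ := (b' - b + 1).toNat
  haveI hB3 : ((t.truncGE b).obj ω).IsLE (b + n - 1) :=
    t.isLE_of_le _ b' (b + n - 1) (by simp only [n]; omega)
  let i : ℤ := m + d
  have hi : i ≠ 0 := by simp only [i]; omega
  -- the point `p` lies in the support of `Hom(τ_{≤ -d} ω, ω[i])`
  have h1 : p ∈ Module.support A ((t.truncLT b).obj ω ⟶ ω⟦i⟧) := by
    rw [support_hom_of_heart ω _ (-(d : ℤ)) i]
    have : i + -(d : ℤ) = m := by simp only [i]; omega
    rw [this]
    exact subset_ES_homology_truncLT ω ω b (-(d : ℤ)) m (by simp only [b]; omega) hp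
  -- but not in that of `Hom(ω, ω[i])` or `Hom(τ_{> -d} ω, ω[i+1])`
  haveI := hω.ext_self_subsingleton i hi
  have h2 : p ∉ Module.support A (ω ⟶ ω⟦i⟧) := by
    rw [Module.support_eq_empty]
    exact Set.notMem_empty _
  have h3 : p ∉ Module.support A ((t.truncGE b).obj ω ⟶ ω⟦i + 1⟧) := by
    apply not_mem_support_hom_of_bounded ω p (i + 1) b n
    intro k hk
    have hk' := ES_homology_truncGE_subset ω ω b k (i + 1 + k) hk
    haveI := hω.finite_cohomology k
    have h4 := le_of_mem_ES hω p jp hjp (Dual.HD A ω k) (i + 1 + k) hk'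
    have hkb : b ≤ k := by
      by_contra hkb
      push Not at hkb
      haveI : Subsingleton (Dual.HD A ((t.truncGE b).obj ω) k) :=
        ModuleCat.subsingleton_of_isZero
          (isZero_of_isGE ((t.truncGE b).obj ω) b k hkb)
      rw [ES_eq_empty_of_subsingleton] at hk
      exact hk
    simp only [i, b] at h4 hkb
    omega
  rcases support_hom_subset_of_distTriang _ hT' (ω⟦i⟧) h1 with h | h
  · exact h2 h
  · obtain ⟨Φ, hΦ⟩ := exists_shift_injective ((t.truncGE b).obj ω) ω i
    exact h3 (Module.support_subset_of_injective Φ hΦ h)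

include hω hn in
/-- `ω_A = H^{-d}(ω)` satisfies `(S₂)` -/
theorem hasSk_two_omega (d : ℕ) (hd : ringKrullDim A = d) :
    LocCoh.HasSk 2 A (Dual.HD A ω (-(d : ℤ))) := by
  intro P hP
  let p : PrimeSpectrum A := ⟨P, hP⟩
  haveI := hω.finite_cohomology (-(d : ℤ))
  by_cases hnt : Nontrivial (LocalizedModule P.primeCompl (Dual.HD A ω (-(d : ℤ))))
  · obtain ⟨j, hj1, hcov⟩ := exists_dimFun hω
    haveI : Nontrivial (LocalizedModule p.asIdeal.primeCompl (Dual.HD A ω (-(d : ℤ)))) := hnt
    obtain ⟨r, D, hr1, hD1, hr2, hD2, hrg⟩ :=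
      range_at hω j hj1 hcov p (Dual.HD A ω (-(d : ℤ)))
    have hr1' : LocCoh.depth (Localization.AtPrime P)
        (LocalizedModule P.primeCompl (Dual.HD A ω (-(d : ℤ)))) = (r : ℕ∞) := hr1
    have hD1' : Module.supportDim (Localization.AtPrime P)
        (LocalizedModule P.primeCompl (Dual.HD A ω (-(d : ℤ)))) = ((D : ℕ) : WithBot ℕ∞) := hD1
    rw [hr1', hD1']
    have key : min 2 D ≤ r := by
      by_cases h : j p - r = -(d : ℤ)
      · have h1 := neg_dim_le_of_mem_ES hω hn d hd _ p _ hD2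
        have : D ≤ r := by omega
        exact (min_le_right _ _).trans this
      · have h1 := add_two_le_of_mem_ES_omega hω hn d hd p (j p) (hj1 p) _ h hr2
        have : 2 ≤ r := by omega
        exact (min_le_left _ _).trans this
    have e : min (((2 : ℕ) : WithBot ℕ∞)) ((D : ℕ) : WithBot ℕ∞) = ((min 2 D : ℕ) : WithBot ℕ∞) := by
      rcases le_total 2 D with h | h
      · rw [min_eq_left h, min_eq_left (by exact_mod_cast h)]
      · rw [min_eq_right h, min_eq_right (by exact_mod_cast h)]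
    rw [e]
    exact_mod_cast key
  · rw [not_nontrivial_iff_subsingleton] at hnt
    have : Module.supportDim (Localization.AtPrime P)
        (LocalizedModule P.primeCompl (Dual.HD A ω (-(d : ℤ)))) = ⊥ :=
      Module.supportDim_eq_bot_of_subsingleton _ _
    rw [this]
    exact (min_le_right _ _).trans bot_le

include hω hn in
/-- the support of `ω_A = H^{-d}(ω)` is the union of the components of dimension `d` -/
theorem support_omega (d : ℕ) (hd : ringKrullDim A = d) :
    Module.support A (Dual.HD A ω (-(d : ℤ))) =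
      {p : PrimeSpectrum A | ∃ q ∈ minimalPrimes A, q ≤ p.asIdeal ∧ ringKrullDim (A ⧸ q) = d} := by
  rw [← ES_self_eq hω (-(d : ℤ))]
  obtain ⟨j, hj1, hcov⟩ := exists_dimFun hω
  have hmono : ∀ p q : PrimeSpectrum A, p < q → j p < j q :=
    fun p q hpq => strictMono_of_covBy j hcov p.asIdeal p rfl q hpq
  have hjdim : ∀ (q : PrimeSpectrum A) (e : ℕ), ringKrullDim (A ⧸ q.asIdeal) = e →
      j q = -(e : ℤ) :=
    fun q e he => eq_neg_dim_of_mem_ES hω hn q e he (j q) ((hj1 q (j q)).2 rfl)
  have hle : ∀ (q : PrimeSpectrum A) (e : ℕ), ringKrullDim (A ⧸ q.asIdeal) = e → e ≤ d := by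
    intro q e he
    have h1 := ringKrullDim_quotient_le q.asIdeal
    rw [he, hd] at h1
    exact_mod_cast h1
  have hjge : ∀ q : PrimeSpectrum A, -(d : ℤ) ≤ j q := by
    intro q
    obtain ⟨e, he⟩ := exists_nat_ringKrullDim_quotient hω q
    have := hle q e he
    rw [hjdim q e he]
    omega
  have hsupp : ∀ q : PrimeSpectrum A, q ∈ Module.support A A := by
    intro q
    rw [Module.mem_support_iff_of_finite, Module.annihilator_eq_bot.2 inferInstance]
    exact bot_le
  ext p
  simp only [Set.mem_setOf_eq]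
  constructor
  · intro hp
    obtain ⟨q, -, hq2, hq3⟩ := exists_le_of_mem_ES hω j hj1 hmono p A (-(d : ℤ)) hp
    obtain ⟨e, he⟩ := exists_nat_ringKrullDim_quotient hω q
    have h1 := hle q e he
    have h2 := hjdim q e he
    have hed : e = d := by omega
    refine ⟨q.asIdeal, ⟨⟨q.isPrime, bot_le⟩, ?_⟩, (PrimeSpectrum.asIdeal_le_asIdeal _ _).2 hq2, ?_⟩
    · rintro Q ⟨hQprime, -⟩ hQq
      let q' : PrimeSpectrum A := ⟨Q, hQprime⟩
      have hq'q : q' ≤ q := (PrimeSpectrum.asIdeal_le_asIdeal _ _).1 hQq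
      by_contra hcon
      have hlt : q' < q := by
        refine lt_of_le_of_ne hq'q ?_
        intro heq
        apply hcon
        rw [← heq]
      have := hmono q' q hlt
      have := hjge q'
      omega
    · rw [he, hed]
  · rintro ⟨q, hqmin, hqp, hqd⟩
    haveI hqprime : q.IsPrime := hqmin.1.1
    let Q : PrimeSpectrum A := ⟨q, hqprime⟩
    have hQmin : ∀ q' : PrimeSpectrum A, q' ∈ Module.support A A → q' ≤ Q → q' = Q := by
      intro q' _ hle'
      apply PrimeSpectrum.ext
      exact le_antisymm ((PrimeSpectrum.asIdeal_le_asIdeal _ _).2 hle')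
        (hqmin.2 ⟨q'.isPrime, bot_le⟩ ((PrimeSpectrum.asIdeal_le_asIdeal _ _).2 hle'))
    have h1 := (mem_ES_of_minimal hω j hj1 A Q (hsupp Q) hQmin).1
    rw [hjdim Q d hqd] at h1
    exact Module.mem_support_mono ((PrimeSpectrum.asIdeal_le_asIdeal _ _).1 hqp) h1

theorem main_S0369 (A : Type u) [CommRing A] [IsLocalRing A] [IsNoetherianRing A] (ω : Dual.D A)
    (hω : Dual.IsDualizing A ω) (hn : Dual.IsNormalized A ω) (d : ℕ)
    (hd : ringKrullDim A = d) :
    Module.support A (Dual.HD A ω (-(d : ℤ))) =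
        {p : PrimeSpectrum A | ∃ q ∈ minimalPrimes A, q ≤ p.asIdeal ∧ ringKrullDim (A ⧸ q) = d} ∧
      LocCoh.HasSk 2 A (Dual.HD A ω (-(d : ℤ))) :=
  ⟨support_omega hω hn d hd, hasSk_two_omega hω hn d hd⟩

end OmegaA

end Groth.Agent.Helper3.DualSupp
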