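import Mathlib
import Groth.Prelude.Def_Wider
import Groth.Prelude.Def_DDual2
import Groth.Agent.Lib.Helper3.BCAbs
import Groth.Agent.Lib.Helper3.RegGlDim
import Groth.Agent.Lib.Helper3.DualSupp5
import Groth.Agent.Lib.Helper5.TorAmp.BaseChange

/-!
# Flat base change of `Hom` in derived categories of modules
-/

set_option autoImplicit false
universe u
open CategoryTheory CategoryTheory.Limits Pretriangulated Triangulated TensorProduct DerivedCategory

attribute [local instance] HasDerivedCategory.standard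

namespace Groth.Agent.Helper3.BCDer

open Groth.Agent.Helper3.BCAbs Groth.Agent.Helper5.FlatBC

variable {A : Type u} [CommRing A] (B : Type u) [CommRing B] [Algebra A B]

section ModuleLevel

open ChangeOfRings in
/-- extension of scalars is semilinear -/
theorem semiLinear_Ef : SemiLinear A B (Ef (R := A) B) := by
  intro a M N g
  apply ModuleCat.ExtendScalars.hom_ext
  intro m
  change ((Ef (R := A) B).map (a • g)).hom _ = ((algebraMap A B a) • (Ef (R := A) B).map g).hom _
  rw [ModuleCat.hom_smul, LinearMap.smul_apply]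
  erw [ModuleCat.ExtendScalars.map_tmul, ModuleCat.ExtendScalars.map_tmul]
  erw [ModuleCat.ExtendScalars.smul_tmul]
  rw [mul_one]
  have h2 := TensorProduct.smul_tmul (R := A) (R' := A)
    (M := ((ModuleCat.restrictScalars (algebraMap A B)).obj (ModuleCat.of B B))) (N := N)
    a (1 : B) ((ConcreteCategory.hom g) m)
  refine h2.symm.trans ?_
  congr 1
  exact mul_one (algebraMap A B a)

/-- evaluation at `1` -/
noncomputable def ev1 (N : ModuleCat.{u} A) : (ModuleCat.of A A ⟶ N) ≃ₗ[A] N :=
  (ModuleCat.homLinearEquiv (S := A)).trans (LinearMap.ringLmapEquivSelf A A N)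

@[simp]
lemma ev1_apply (N : ModuleCat.{u} A) (f : ModuleCat.of A A ⟶ N) : ev1 N f = f.hom (1 : A) := rfl

open ChangeOfRings in
/-- base change of `Hom(A, N)` -/
theorem bijBC_Ef_unit (N : ModuleCat.{u} A) :
    BijBC (Ef (R := A) B) (semiLinear_Ef B) (ModuleCat.of A A) N := by
  let Ψ : ((Ef (R := A) B).obj (ModuleCat.of A A) ⟶ (Ef (R := A) B).obj N) → N' B N :=
    fun g => g.hom ((1 : B) ⊗ₜ[A, algebraMap A B] (1 : A))
  have hΨ : Function.Injective Ψ := by
    intro g g' hgg
    apply ModuleCat.ExtendScalars.hom_ext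
    intro (m : A)
    let x₀ : (Ef (R := A) B).obj (ModuleCat.of A A) := (1 : B) ⊗ₜ[A, algebraMap A B] (1 : A)
    let xm : (Ef (R := A) B).obj (ModuleCat.of A A) := (1 : B) ⊗ₜ[A, algebraMap A B] (m : A)
    have h1 : xm = algebraMap A B m • x₀ := by
      have h2 := TensorProduct.smul_tmul (R := A) (R' := A)
        (M := ((ModuleCat.restrictScalars (algebraMap A B)).obj (ModuleCat.of B B)))
        (N := (ModuleCat.of A A)) m (1 : B) (1 : A)
      have h3 : (m • (1 : A) : (ModuleCat.of A A)) = m := mul_one m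
      rw [h3] at h2
      refine h2.symm.trans ?_
      show _ = (algebraMap A B m * 1) ⊗ₜ[A, algebraMap A B] (1 : A)
      rfl
    show g.hom xm = g'.hom xm
    rw [h1, map_smul, map_smul]
    exact congrArg _ hgg
  let Φ : B ⊗[A] (ModuleCat.of A A ⟶ N) → N' B N :=
    fun z => eqv B N ((ev1 N).toLinearMap.lTensor B z)
  have hΦ : Function.Bijective Φ :=
    (eqv B N).bijective.comp (LinearEquiv.lTensor B (ev1 N)).bijective
  have key : ∀ z, Ψ (cmp (Ef (R := A) B) (semiLinear_Ef B) (ModuleCat.of A A) N z) = Φ z := by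
    intro z
    induction z using TensorProduct.induction_on with
    | zero =>
      simp only [map_zero, Ψ, Φ]
      rfl
    | tmul b f =>
      simp only [cmp_tmul, Ψ, Φ, LinearMap.lTensor_tmul, LinearEquiv.coe_coe, ev1_apply]
      rw [ModuleCat.hom_smul, LinearMap.smul_apply]
      erw [ModuleCat.ExtendScalars.map_tmul]
      erw [ModuleCat.ExtendScalars.smul_tmul]
      rw [mul_one]
      rfl
    | add x y hx hy =>
      have h1 : Ψ (cmp (Ef (R := A) B) (semiLinear_Ef B) (ModuleCat.of A A) N (x + y)) =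
          Ψ (cmp (Ef (R := A) B) (semiLinear_Ef B) (ModuleCat.of A A) N x) +
          Ψ (cmp (Ef (R := A) B) (semiLinear_Ef B) (ModuleCat.of A A) N y) := by
        simp only [Ψ, map_add, ModuleCat.hom_add, LinearMap.add_apply]
        rfl
      have h2 : Φ (x + y) = Φ x + Φ y := by simp only [Φ, map_add]
      rw [h1, h2, hx, hy]
  constructor
  · intro z z' hz
    apply hΦ.1
    rw [← key, ← key, hz]
  · intro g
    obtain ⟨z, hz⟩ := hΦ.2 (Ψ g)
    exact ⟨z, hΨ ((key z).trans hz)⟩

end ModuleLevel

section Induction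

variable {R : Type u} [CommRing R]

/-- dévissage of bounded objects of `D(R)` along the canonical truncations -/
theorem bounded_induction (P : Dual.D R → Prop) (PM : ModuleCat.{u} R → Prop)
    (hPMiso : ∀ M M' : ModuleCat.{u} R, (M ≅ M') → PM M → PM M')
    (hPMzero : ∀ M : ModuleCat.{u} R, IsZero M → PM M)
    (hzero : ∀ X : Dual.D R, IsZero X → P X)
    (hiso : ∀ X X' : Dual.D R, (X ≅ X') → P X → P X')
    (hsingle : ∀ (n : ℤ) (M : ModuleCat.{u} R), PM M →
      P ((DerivedCategory.singleFunctor (ModuleCat.{u} R) n).obj M))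
    (htri : ∀ T ∈ distTriang (Dual.D R), P T.obj₁ → P T.obj₃ → P T.obj₂)
    (c : ℤ) (n : ℕ) :
    ∀ (X : Dual.D R) [X.IsGE c] [X.IsLE (c + n - 1)]
      (_ : ∀ k : ℤ, PM ((DerivedCategory.homologyFunctor (ModuleCat.{u} R) k).obj X)), P X := by
  induction n with
  | zero =>
    intro X _ _ _
    exact hzero X ((TStructure.t).isZero X (c + (0 : ℕ) - 1) c (by simp))
  | succ n ih =>
    intro X _ _ hX
    let t : TStructure (Dual.D R) := TStructure.t
    let b : ℤ := c + n
    have hT := t.triangleLTGE_distinguished b X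
    haveI hA1 : ((t.truncLT b).obj X).IsLE (c + n - 1) :=
      inferInstanceAs (t.IsLE ((t.truncLT b).obj X) (b - 1))
    haveI hA2 : ((t.truncLT b).obj X).IsGE c :=
      inferInstanceAs (t.IsGE ((t.truncLT b).obj X) c)
    haveI hB1 : ((t.truncGE b).obj X).IsGE b := inferInstanceAs (t.IsGE ((t.truncGE b).obj X) b)
    haveI hXb : t.IsLE X b :=
      t.isLE_of_le X (c + (n + 1 : ℕ) - 1) b (by simp only [b]; push_cast; omega)
    haveI hB2 : ((t.truncGE b).obj X).IsLE b := inferInstanceAs (t.IsLE ((t.truncGE b).obj X) b)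
    have h1 : P ((t.truncLT b).obj X) := by
      apply ih
      intro k
      by_cases hk : k < b
      · have : IsIso ((homologyFunctor (ModuleCat.{u} R) k).map ((t.truncLTι b).app X)) :=
          _root_.Helper5.TwoTerm.isIso_homologyMap_mor₁ _ hT (k - 1) k (by lia)
            (isZero_of_isGE ((t.truncGE b).obj X) b (k - 1) (by lia))
            (isZero_of_isGE ((t.truncGE b).obj X) b k (by lia))
        exact hPMiso _ _
          (asIso ((homologyFunctor (ModuleCat.{u} R) k).map ((t.truncLTι b).app X))).symm (hX k)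
      · exact hPMzero _ (isZero_of_isLE ((t.truncLT b).obj X) (b - 1) k (by lia))
    have h3 : P ((t.truncGE b).obj X) := by
      obtain ⟨Y, ⟨e⟩⟩ := exists_iso_singleFunctor_obj_of_isGE_of_isLE ((t.truncGE b).obj X) b
      refine hiso _ _ e.symm (hsingle b Y ?_)
      have hA : ((t.truncLT b).obj X).IsLE (b - 1) :=
        inferInstanceAs (t.IsLE ((t.truncLT b).obj X) (b - 1))
      have : IsIso ((homologyFunctor (ModuleCat.{u} R) b).map ((t.truncGEπ b).app X)) :=
        _root_.Helper5.TwoTerm.isIso_homologyMap_mor₂ _ hT b (b + 1) rfl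
          (isZero_of_isLE ((t.truncLT b).obj X) (b - 1) b (by lia))
          (isZero_of_isLE ((t.truncLT b).obj X) (b - 1) (b + 1) (by lia))
      refine hPMiso _ _ (asIso ((homologyFunctor (ModuleCat.{u} R) b).map ((t.truncGEπ b).app X)) ≪≫
        (DerivedCategory.homologyFunctor (ModuleCat.{u} R) b).mapIso e ≪≫
        (DerivedCategory.singleFunctorCompHomologyFunctorIso (ModuleCat.{u} R) b).app Y) (hX b)
    exact htri _ hT h1 h3

/-- dévissage of bounded objects, with arbitrary bounds -/
theorem bounded_induction' (P : Dual.D R → Prop) (PM : ModuleCat.{u} R → Prop)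
    (hPMiso : ∀ M M' : ModuleCat.{u} R, (M ≅ M') → PM M → PM M')
    (hPMzero : ∀ M : ModuleCat.{u} R, IsZero M → PM M)
    (hzero : ∀ X : Dual.D R, IsZero X → P X)
    (hiso : ∀ X X' : Dual.D R, (X ≅ X') → P X → P X')
    (hsingle : ∀ (n : ℤ) (M : ModuleCat.{u} R), PM M →
      P ((DerivedCategory.singleFunctor (ModuleCat.{u} R) n).obj M))
    (htri : ∀ T ∈ distTriang (Dual.D R), P T.obj₁ → P T.obj₃ → P T.obj₂)
    (X : Dual.D R) (a b : ℤ) [X.IsGE a] [X.IsLE b]
    (hX : ∀ k : ℤ, PM ((DerivedCategory.homologyFunctor (ModuleCat.{u} R) k).obj X)) : P X := by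
  haveI : X.IsLE (a + ((b - a + 1).toNat : ℕ) - 1) :=
    (TStructure.t : TStructure (Dual.D R)).isLE_of_le X b _ (by
      have := Int.self_le_toNat (b - a + 1)
      omega)
  exact bounded_induction P PM hPMiso hPMzero hzero hiso hsingle htri a (b - a + 1).toNat X hX

end Induction

section Vanishing

variable {R : Type u} [CommRing R]

/-- `Ext^i(P, N) = 0` for `i ≠ 0` and `P` projective, in terms of single functors -/
lemma subsingleton_single_hom (P N : ModuleCat.{u} R) [Projective P] (n c : ℤ) (h : n ≠ c) :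
    Subsingleton ((DerivedCategory.singleFunctor (ModuleCat.{u} R) n).obj P ⟶
      (DerivedCategory.singleFunctor (ModuleCat.{u} R) c).obj N) := by
  rcases lt_or_gt_of_ne h with h1 | h1
  · refine ⟨fun f g => ?_⟩
    rw [(TStructure.t : TStructure (Dual.D R)).zero f n c h1,
      (TStructure.t : TStructure (Dual.D R)).zero g n c h1]
  · let eP : ((DerivedCategory.singleFunctor (ModuleCat.{u} R) n).obj P)⟦n⟧ ≅
        (DerivedCategory.singleFunctor (ModuleCat.{u} R) 0).obj P :=
      ((DerivedCategory.singleFunctors (ModuleCat.{u} R)).shiftIso n 0 n (by lia)).app P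
    let eN : ((DerivedCategory.singleFunctor (ModuleCat.{u} R) c).obj N)⟦n⟧ ≅
        (DerivedCategory.singleFunctor (ModuleCat.{u} R) (c - n)).obj N :=
      ((DerivedCategory.singleFunctors (ModuleCat.{u} R)).shiftIso n (c - n) c (by lia)).app N
    haveI : ((DerivedCategory.singleFunctor (ModuleCat.{u} R) (c - n)).obj N).IsLE (-1) :=
      (TStructure.t : TStructure (Dual.D R)).isLE_of_le _ (c - n) (-1) (by lia)
    have hs := Groth.Agent.Helper3.RegGlDim.subsingleton_hom_of_projective P
      ((DerivedCategory.singleFunctor (ModuleCat.{u} R) (c - n)).obj N)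
    refine ⟨fun f g => ?_⟩
    apply (shiftFunctor (Dual.D R) n).map_injective
    have := hs.elim (eP.inv ≫ f⟦n⟧' ≫ eN.hom) (eP.inv ≫ g⟦n⟧' ≫ eN.hom)
    rwa [cancel_epi, cancel_mono] at this

end Vanishing

section Derived

variable [Module.Flat A B]

/-- flat base change on derived categories -/
noncomputable abbrev G : Dual.D A ⥤ Dual.D B := (Ef (R := A) B).mapDerivedCategory

instance : (G (A := A) B).Additive := inferInstance

lemma Ec_map_smul_id (a : A) (K : DRing.Cx A) :
    (Ec (R := A) B).map (a • 𝟙 K) = algebraMap A B a • 𝟙 ((Ec (R := A) B).obj K) := by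
  ext i : 1
  show (Ef (R := A) B).map ((a • 𝟙 K : K ⟶ K).f i) = (algebraMap A B a • 𝟙 ((Ec (R := A) B).obj K) : _ ⟶ _).f i
  rw [HomologicalComplex.smul_f_apply, HomologicalComplex.smul_f_apply, semiLinear_Ef B a]
  simp only [HomologicalComplex.id_f, CategoryTheory.Functor.map_id]
  rfl

lemma G_map_smul_id_Q (a : A) (K : DRing.Cx A) :
    (G (A := A) B).map (a • 𝟙 (Q.obj K)) = algebraMap A B a • 𝟙 ((G (A := A) B).obj (Q.obj K)) := by
  have h1 : a • 𝟙 (Q.obj K) = Q.map (a • 𝟙 K) := by
    rw [Functor.map_smul, Q.map_id]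
  let eK : (G (A := A) B).obj (Q.obj K) ≅ Q.obj ((Ec (R := A) B).obj K) := EdQ B K
  have h2 : (G (A := A) B).map (Q.map (a • 𝟙 K)) ≫ eK.hom =
      eK.hom ≫ Q.map ((Ec (R := A) B).map (a • 𝟙 K)) :=
    (Ef (R := A) B).mapDerivedCategoryFactors_hom_naturality (a • 𝟙 K)
  rw [Ec_map_smul_id, Functor.map_smul (F := Q) (R := B), CategoryTheory.Functor.map_id,
    Linear.comp_smul, Category.comp_id] at h2
  rw [h1]
  have h3 : (G (A := A) B).map (Q.map (a • 𝟙 K)) =
      ((G (A := A) B).map (Q.map (a • 𝟙 K)) ≫ eK.hom) ≫ eK.inv := by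
    rw [Category.assoc, Iso.hom_inv_id, Category.comp_id]
  rw [h3, h2, Linear.smul_comp, Iso.hom_inv_id]

/-- flat base change is semilinear -/
theorem semiLinear_G : SemiLinear A B (G (A := A) B) := by
  intro a X Y φ
  have key : (G (A := A) B).map (a • 𝟙 X) = algebraMap A B a • 𝟙 ((G (A := A) B).obj X) := by
    let i : Q.obj (Q.objPreimage X) ≅ X := Q.objObjPreimageIso X
    have h1 : a • 𝟙 X = i.inv ≫ (a • 𝟙 (Q.obj (Q.objPreimage X))) ≫ i.hom := by
      rw [Linear.smul_comp, Linear.comp_smul, Category.id_comp, Iso.inv_hom_id]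
    rw [h1, Functor.map_comp, Functor.map_comp, G_map_smul_id_Q, Linear.smul_comp,
      Linear.comp_smul, Category.id_comp, ← Functor.map_comp, Iso.inv_hom_id,
      CategoryTheory.Functor.map_id]
  have h2 : a • φ = (a • 𝟙 X) ≫ φ := by rw [Linear.smul_comp, Category.id_comp]
  rw [h2, Functor.map_comp, key, Linear.smul_comp, Category.id_comp]

/-- the single functors commute with base change -/
noncomputable def GsingleIso (n : ℤ) :
    DerivedCategory.singleFunctor (ModuleCat.{u} A) n ⋙ G (A := A) B ≅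
      Ef (R := A) B ⋙ DerivedCategory.singleFunctor (ModuleCat.{u} B) n :=
  (Ef (R := A) B).mapDerivedCategorySingleFunctor n

/-- base change for `Hom(A[-n], N[-n])` -/
theorem bijBC_single_unit (n : ℤ) (N : ModuleCat.{u} A) :
    BijBC (G (A := A) B) (semiLinear_G B)
      ((DerivedCategory.singleFunctor (ModuleCat.{u} A) n).obj (ModuleCat.of A A))
      ((DerivedCategory.singleFunctor (ModuleCat.{u} A) n).obj N) :=
  bijBC_of_fullyFaithful (G (A := A) B) (semiLinear_G B) (Ef (R := A) B) (semiLinear_Ef B)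
    (DerivedCategory.singleFunctor (ModuleCat.{u} A) n)
    (DerivedCategory.singleFunctor (ModuleCat.{u} B) n) (GsingleIso B n) _ _ (bijBC_Ef_unit B N)

lemma projective_Ef_unit : Projective ((Ef (R := A) B).obj (ModuleCat.of A A)) := by
  obtain ⟨h1, h2⟩ := Ef_ff B (ModuleCat.of A A)
  have h3 : Module.Projective B ((Ef (R := A) B).obj (ModuleCat.of A A)) := inferInstance
  exact (IsProjective.iff_projective _).1 h3

/-- base change for `Hom(A[-n], N[-c])`, `n ≠ c`: both sides vanish -/
theorem bijBC_single_unit_ne (n c : ℤ) (h : n ≠ c) (N : ModuleCat.{u} A) :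
    BijBC (G (A := A) B) (semiLinear_G B)
      ((DerivedCategory.singleFunctor (ModuleCat.{u} A) n).obj (ModuleCat.of A A))
      ((DerivedCategory.singleFunctor (ModuleCat.{u} A) c).obj N) := by
  haveI : Projective (ModuleCat.of A A) := (IsProjective.iff_projective A).1 inferInstance
  haveI := subsingleton_single_hom (ModuleCat.of A A) N n c h
  haveI : Subsingleton ((G (A := A) B).obj
      ((DerivedCategory.singleFunctor (ModuleCat.{u} A) n).obj (ModuleCat.of A A)) ⟶
      (G (A := A) B).obj ((DerivedCategory.singleFunctor (ModuleCat.{u} A) c).obj N)) := by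
    haveI := projective_Ef_unit (A := A) B
    have hs := subsingleton_single_hom ((Ef (R := A) B).obj (ModuleCat.of A A))
      ((Ef (R := A) B).obj N) n c h
    let e1 := (GsingleIso B n).app (ModuleCat.of A A)
    let e2 := (GsingleIso B c).app N
    refine ⟨fun f g => ?_⟩
    have := hs.elim (e1.inv ≫ f ≫ e2.hom) (e1.inv ≫ g ≫ e2.hom)
    rwa [cancel_epi, cancel_mono] at this
  exact bijBC_of_subsingleton _ _ _ _

/-- base change for `Hom(A[-n], N[-c])` -/
theorem bijBC_single_unit_all (n c : ℤ) (N : ModuleCat.{u} A) :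
    BijBC (G (A := A) B) (semiLinear_G B)
      ((DerivedCategory.singleFunctor (ModuleCat.{u} A) n).obj (ModuleCat.of A A))
      ((DerivedCategory.singleFunctor (ModuleCat.{u} A) c).obj N) := by
  by_cases h : n = c
  · subst h
    exact bijBC_single_unit B n N
  · exact bijBC_single_unit_ne B n c h N

/-- `L` satisfies base change against all `A[-n]`, together with all its shifts -/
def GoodL (L : Dual.D A) : Prop :=
  ∀ (n j : ℤ), BijBC (G (A := A) B) (semiLinear_G B)
    ((DerivedCategory.singleFunctor (ModuleCat.{u} A) n).obj (ModuleCat.of A A)) (L⟦j⟧)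

theorem goodL_of_bounded (L : Dual.D A) (a b : ℤ) [L.IsGE a] [L.IsLE b] : GoodL B L := by
  apply bounded_induction' (GoodL B) (fun _ => True) (fun _ _ _ _ => trivial) (fun _ _ => trivial)
    ?_ ?_ ?_ ?_ L a b (fun _ => trivial)
  · intro X hX n j
    exact bijBC_of_isZero_right _ _ _ ((shiftFunctor (Dual.D A) j).map_isZero hX)
  · intro X X' e h n j
    exact bijBC_of_iso_right _ _ _ ((shiftFunctor (Dual.D A) j).mapIso e) (h n j)
  · intro c M _ n j
    let e : ((DerivedCategory.singleFunctor (ModuleCat.{u} A) c).obj M)⟦j⟧ ≅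
        (DerivedCategory.singleFunctor (ModuleCat.{u} A) (c - j)).obj M :=
      ((DerivedCategory.singleFunctors (ModuleCat.{u} A)).shiftIso j (c - j) c (by lia)).app M
    exact bijBC_of_iso_right _ _ _ e.symm (bijBC_single_unit_all B n (c - j) M)
  · intro T hT h1 h3 n j
    have hTj := Triangle.shift_distinguished T hT j
    constructor
    · refine injBC_of_dist' (G (A := A) B) (semiLinear_G B) _ _ hTj ?_ (h1 n j).1 (h3 n j).1
      exact surjBC_of_iso_right _ _ _
        ((shiftFunctorAdd' (Dual.D A) j (-1) (j - 1) (by lia)).app T.obj₃) (h3 n (j - 1)).2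
    · refine surjBC_of_dist' (G (A := A) B) (semiLinear_G B) _ _ hTj (h1 n j).2 (h3 n j).2 ?_
      exact injBC_of_iso_right _ _ _
        ((shiftFunctorAdd' (Dual.D A) j 1 (j + 1) (by lia)).app T.obj₁) (h1 n (j + 1)).1

/-- bounded objects -/
def Bdd {R : Type u} [CommRing R] (L : Dual.D R) : Prop := ∃ a b : ℤ, L.IsGE a ∧ L.IsLE b

lemma bdd_shift {R : Type u} [CommRing R] (L : Dual.D R) (j : ℤ) (h : Bdd L) : Bdd (L⟦j⟧) := by
  obtain ⟨a, b, h1, h2⟩ := h
  exact ⟨a - j, b - j, (TStructure.t : TStructure (Dual.D R)).isGE_shift L a j (a - j),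
    (TStructure.t : TStructure (Dual.D R)).isLE_shift L b j (b - j)⟩

/-- `K` satisfies base change against all bounded `L` -/
def GoodK (K : Dual.D A) : Prop :=
  ∀ L : Dual.D A, Bdd L → BijBC (G (A := A) B) (semiLinear_G B) K L

lemma goodK_of_iso {K K' : Dual.D A} (e : K ≅ K') (h : GoodK B K) : GoodK B K' :=
  fun L hL => bijBC_of_iso_left _ _ e L (h L hL)

theorem goodK_single_unit (n : ℤ) :
    GoodK B ((DerivedCategory.singleFunctor (ModuleCat.{u} A) n).obj (ModuleCat.of A A)) := by
  intro L hL
  obtain ⟨a, b, h1, h2⟩ := hL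
  exact bijBC_of_iso_right _ _ _ ((shiftFunctorZero (Dual.D A) ℤ).app L)
    (goodL_of_bounded B L a b n 0)

/-- the free module of rank `k` -/
abbrev Fr (A : Type u) [CommRing A] (k : ℕ) : ModuleCat.{u} A := ModuleCat.of A (Fin k → A)

lemma sum_proj_single (k : ℕ) :
    ∑ s : Fin k, (ModuleCat.ofHom (LinearMap.proj (R := A) (φ := fun _ : Fin k => A) s) :
        Fr A k ⟶ ModuleCat.of A A) ≫
      (ModuleCat.ofHom (LinearMap.single A (fun _ : Fin k => A) s) : ModuleCat.of A A ⟶ Fr A k) =
      𝟙 (Fr A k) := by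
  apply ModuleCat.hom_ext
  apply LinearMap.ext
  intro f
  funext j
  rw [ModuleCat.hom_sum, LinearMap.sum_apply, Finset.sum_apply]
  simp only [ModuleCat.hom_comp, ModuleCat.hom_ofHom, LinearMap.comp_apply, LinearMap.proj_apply,
    LinearMap.single_apply, ModuleCat.hom_id, LinearMap.id_apply]
  exact Finset.sum_pi_single j f Finset.univ |>.trans (by simp)

theorem goodK_single_free (k : ℕ) (n : ℤ) :
    GoodK B ((DerivedCategory.singleFunctor (ModuleCat.{u} A) n).obj (Fr A k)) := by
  intro L hL
  refine bijBC_of_split_sum (G (A := A) B) (semiLinear_G B)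
    (X := fun _ : Fin k => (DerivedCategory.singleFunctor (ModuleCat.{u} A) n).obj (ModuleCat.of A A))
    (fun s => (DerivedCategory.singleFunctor (ModuleCat.{u} A) n).map
      (ModuleCat.ofHom (LinearMap.single A (fun _ : Fin k => A) s)))
    (fun s => (DerivedCategory.singleFunctor (ModuleCat.{u} A) n).map
      (ModuleCat.ofHom (LinearMap.proj (R := A) (φ := fun _ : Fin k => A) s))) ?_ L
    (fun s => goodK_single_unit B n L hL)
  simp only [← Functor.map_comp]
  rw [← Functor.map_sum, sum_proj_single, CategoryTheory.Functor.map_id]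

/-- cohomology of the base change vanishes where that of the original object does -/
lemma isZero_homology_G (L : Dual.D A) (i : ℤ)
    (h : IsZero ((DerivedCategory.homologyFunctor (ModuleCat.{u} A) i).obj L)) :
    IsZero ((DerivedCategory.homologyFunctor (ModuleCat.{u} B) i).obj ((G (A := A) B).obj L)) := by
  let K := Q.objPreimage L
  let e : Q.obj K ≅ L := Q.objObjPreimageIso L
  have h1 : IsZero ((DerivedCategory.homologyFunctor (ModuleCat.{u} A) i).obj (Q.obj K)) :=
    h.of_iso ((DerivedCategory.homologyFunctor (ModuleCat.{u} A) i).mapIso e)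
  have h2 : IsZero (K.homology i) :=
    h1.of_iso ((DerivedCategory.homologyFunctorFactors (ModuleCat.{u} A) i).app K).symm
  have h3 := bc_hom_zero B K i h2
  exact h3.of_iso ((DerivedCategory.homologyFunctor (ModuleCat.{u} B) i).mapIso
    ((G (A := A) B).mapIso e.symm ≪≫ EdQ B K))

lemma isGE_G (L : Dual.D A) (a : ℤ) [L.IsGE a] : ((G (A := A) B).obj L).IsGE a := by
  rw [DerivedCategory.isGE_iff]
  intro i hi
  exact isZero_homology_G B L i (isZero_of_isGE L a i hi)

lemma isLE_G (L : Dual.D A) (b : ℤ) [L.IsLE b] : ((G (A := A) B).obj L).IsLE b := by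
  rw [DerivedCategory.isLE_iff]
  intro i hi
  exact isZero_homology_G B L i (isZero_of_isLE L b i hi)

variable (A) in
/-- the object `M[j]` -/
noncomputable abbrev sh (M : Type u) [AddCommGroup M] [Module A M] (j : ℤ) : Dual.D A :=
  (Dual.inD A M)⟦j⟧

variable (A) in
/-- `M[j] ≅ single_{-j} M` -/
noncomputable def shIso (M : Type u) [AddCommGroup M] [Module A M] (j : ℤ) :
    sh A M j ≅ (DerivedCategory.singleFunctor (ModuleCat.{u} A) (-j)).obj (ModuleCat.of A M) :=
  ((DerivedCategory.singleFunctors (ModuleCat.{u} A)).shiftIso j (-j) 0 (by lia)).app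
    (ModuleCat.of A M)

/-- base case of the way-out induction: both `Hom` groups vanish -/
theorem bijBC_sh_of_lt (M : Type u) [AddCommGroup M] [Module A M] (j : ℤ) (L : Dual.D A) (a : ℤ)
    [L.IsGE a] (h : -j < a) : BijBC (G (A := A) B) (semiLinear_G B) (sh A M j) L := by
  haveI : (sh A M j).IsLE (-j) := (TStructure.t : TStructure (Dual.D A)).isLE_shift _ 0 j (-j)
  haveI : Subsingleton (sh A M j ⟶ L) :=
    ⟨fun f g => by
      rw [(TStructure.t : TStructure (Dual.D A)).zero f (-j) a h,
        (TStructure.t : TStructure (Dual.D A)).zero g (-j) a h]⟩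
  haveI : ((G (A := A) B).obj (sh A M j)).IsLE (-j) := isLE_G B _ _
  haveI : ((G (A := A) B).obj L).IsGE a := isGE_G B _ _
  haveI : Subsingleton ((G (A := A) B).obj (sh A M j) ⟶ (G (A := A) B).obj L) :=
    ⟨fun f g => by
      rw [(TStructure.t : TStructure (Dual.D B)).zero f (-j) a h,
        (TStructure.t : TStructure (Dual.D B)).zero g (-j) a h]⟩
  exact bijBC_of_subsingleton _ _ _ _

theorem goodK_sh_free (k : ℕ) (j : ℤ) : GoodK B (sh A (Fin k → A) j) :=
  goodK_of_iso B (shIso A (Fin k → A) j).symm (goodK_single_free B k (-j))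

section Noeth

variable [IsNoetherianRing A]

/-- the dévissage step for a finite module: `0 → M' → A^k → M → 0` -/
theorem exists_step (M : Type u) [AddCommGroup M] [Module A M] [Module.Finite A M] (j : ℤ)
    (L : Dual.D A) (hL : Bdd L) :
    ∃ (M' : Type u) (_ : AddCommGroup M') (_ : Module A M') (_ : Module.Finite A M'),
      (InjBC (G (A := A) B) (semiLinear_G B) (sh A M' (j + 1)) L →
        InjBC (G (A := A) B) (semiLinear_G B) (sh A M j) L) ∧
      (SurjBC (G (A := A) B) (semiLinear_G B) (sh A M' (j + 1)) L →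
        InjBC (G (A := A) B) (semiLinear_G B) (sh A M' j) L →
        SurjBC (G (A := A) B) (semiLinear_G B) (sh A M j) L) := by
  obtain ⟨k, π, hπ⟩ := Module.Finite.exists_fin' A M
  have hS := LinearMap.shortExact_shortComplexKer hπ
  have hT₀ := hS.singleTriangle_distinguished
  have hT := rot_of_distTriang _ (Triangle.shift_distinguished _ hT₀ j)
  refine ⟨LinearMap.ker π, inferInstance, inferInstance, inferInstance, ?_, ?_⟩
  · intro h
    refine injBC_of_dist (G (A := A) B) (semiLinear_G B) _ hT L ?_ ?_ (goodK_sh_free B k j L hL).1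
    · exact surjBC_of_iso_left _ _
        ((shiftFunctorAdd' (Dual.D A) j 1 (j + 1) rfl).app (Dual.inD A (Fin k → A))) L
        (goodK_sh_free B k (j + 1) L hL).2
    · exact injBC_of_iso_left _ _
        ((shiftFunctorAdd' (Dual.D A) j 1 (j + 1) rfl).app (Dual.inD A (LinearMap.ker π))) L h
  · intro h h'
    refine surjBC_of_dist (G (A := A) B) (semiLinear_G B) _ hT L ?_ (goodK_sh_free B k j L hL).2 ?_
    · exact surjBC_of_iso_left _ _
        ((shiftFunctorAdd' (Dual.D A) j 1 (j + 1) rfl).app (Dual.inD A (LinearMap.ker π))) L h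
    · exact injBC_of_iso_left _ _ (shiftShiftNeg (sh A (LinearMap.ker π) j) (1 : ℤ)).symm L h'

theorem injBC_sh_finite_aux (L : Dual.D A) (hL : Bdd L) (a : ℤ) [L.IsGE a] :
    ∀ (d : ℕ) (j : ℤ), -j < a + d → ∀ (M : Type u) [AddCommGroup M] [Module A M]
      [Module.Finite A M], InjBC (G (A := A) B) (semiLinear_G B) (sh A M j) L := by
  intro d
  induction d with
  | zero =>
    intro j hj M _ _ _
    exact (bijBC_sh_of_lt B M j L a (by simpa using hj)).1
  | succ d ih =>
    intro j hj M _ _ _
    obtain ⟨M', _, _, _, h1, -⟩ := exists_step B M j L hL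
    exact h1 (ih (j + 1) (by push_cast at hj; omega) M')

theorem injBC_sh_finite (L : Dual.D A) (hL : Bdd L) (j : ℤ) (M : Type u) [AddCommGroup M]
    [Module A M] [Module.Finite A M] :
    InjBC (G (A := A) B) (semiLinear_G B) (sh A M j) L := by
  obtain ⟨a, b, h1, h2⟩ := id hL
  refine injBC_sh_finite_aux B L hL a (-j - a + 1).toNat j ?_ M
  have := Int.self_le_toNat (-j - a + 1)
  omega

theorem surjBC_sh_finite_aux (L : Dual.D A) (hL : Bdd L) (a : ℤ) [L.IsGE a] :
    ∀ (d : ℕ) (j : ℤ), -j < a + d → ∀ (M : Type u) [AddCommGroup M] [Module A M]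
      [Module.Finite A M], SurjBC (G (A := A) B) (semiLinear_G B) (sh A M j) L := by
  intro d
  induction d with
  | zero =>
    intro j hj M _ _ _
    exact (bijBC_sh_of_lt B M j L a (by simpa using hj)).2
  | succ d ih =>
    intro j hj M _ _ _
    obtain ⟨M', _, _, _, -, h2⟩ := exists_step B M j L hL
    exact h2 (ih (j + 1) (by push_cast at hj; omega) M') (injBC_sh_finite B L hL j M')

theorem surjBC_sh_finite (L : Dual.D A) (hL : Bdd L) (j : ℤ) (M : Type u) [AddCommGroup M]
    [Module A M] [Module.Finite A M] :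
    SurjBC (G (A := A) B) (semiLinear_G B) (sh A M j) L := by
  obtain ⟨a, b, h1, h2⟩ := id hL
  refine surjBC_sh_finite_aux B L hL a (-j - a + 1).toNat j ?_ M
  have := Int.self_le_toNat (-j - a + 1)
  omega

/-- base change for finite modules placed in any degree, against bounded objects -/
theorem goodK_sh_finite (M : Type u) [AddCommGroup M] [Module A M] [Module.Finite A M] (j : ℤ) :
    GoodK B (sh A M j) :=
  fun L hL => ⟨injBC_sh_finite B L hL j M, surjBC_sh_finite B L hL j M⟩

/-- `K` and all its shifts satisfy base change against bounded objects -/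
def GoodKS (K : Dual.D A) : Prop := ∀ j : ℤ, GoodK B (K⟦j⟧)

theorem goodKS_of_bounded (K : Dual.D A) (hK : Bdd K)
    (hKf : ∀ i : ℤ, Module.Finite A (Dual.HD A K i)) : GoodKS B K := by
  obtain ⟨a, b, h1, h2⟩ := hK
  apply bounded_induction' (GoodKS B) (fun M => Module.Finite A M) ?_ ?_ ?_ ?_ ?_ ?_ K a b hKf
  · intro M M' e h
    exact Module.Finite.equiv e.toLinearEquiv
  · intro M hM
    haveI := ModuleCat.subsingleton_of_isZero hM
    infer_instance
  · intro X hX j L hL
    exact bijBC_of_isZero_left _ _ ((shiftFunctor (Dual.D A) j).map_isZero hX) L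
  · intro X X' e h j
    exact goodK_of_iso B ((shiftFunctor (Dual.D A) j).mapIso e) (h j)
  · intro n M hM j
    let e1 : ((DerivedCategory.singleFunctor (ModuleCat.{u} A) n).obj M)⟦j⟧ ≅
        (DerivedCategory.singleFunctor (ModuleCat.{u} A) (n - j)).obj M :=
      ((DerivedCategory.singleFunctors (ModuleCat.{u} A)).shiftIso j (n - j) n (by lia)).app M
    let e2 : sh A M (j - n) ≅ (DerivedCategory.singleFunctor (ModuleCat.{u} A) (n - j)).obj M :=
      ((DerivedCategory.singleFunctors (ModuleCat.{u} A)).shiftIso (j - n) (n - j) 0 (by lia)).app M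
    exact goodK_of_iso B (e2 ≪≫ e1.symm) (goodK_sh_finite B M (j - n))
  · intro T hT h1 h3 j L hL
    have hTj := Triangle.shift_distinguished T hT j
    constructor
    · refine injBC_of_dist (G (A := A) B) (semiLinear_G B) _ hTj L ?_ (h3 j L hL).1 (h1 j L hL).1
      exact surjBC_of_iso_left _ _
        ((shiftFunctorAdd' (Dual.D A) j 1 (j + 1) rfl).app T.obj₁) L (h1 (j + 1) L hL).2
    · refine surjBC_of_dist (G (A := A) B) (semiLinear_G B) _ hTj L (h3 j L hL).2 (h1 j L hL).2 ?_
      exact injBC_of_iso_left _ _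
        ((shiftFunctorAdd' (Dual.D A) j (-1) (j - 1) (by lia)).app T.obj₃) L (h3 (j - 1) L hL).1

/-- **Flat base change for `Hom` in the derived category**: for `A` noetherian, `A → B` flat,
`K` bounded with finite cohomology and `L` bounded, `B ⊗_A Hom(K, L) → Hom(K_B, L_B)` is
bijective. -/
theorem bijBC_main (K L : Dual.D A) (hK : Bdd K)
    (hKf : ∀ i : ℤ, Module.Finite A (Dual.HD A K i)) (hL : Bdd L) :
    BijBC (G (A := A) B) (semiLinear_G B) K L :=
  bijBC_of_iso_left _ _ ((shiftFunctorZero (Dual.D A) ℤ).app K) L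
    (goodKS_of_bounded B K hK hKf 0 L hL)

end Noeth

end Derived

end Groth.Agent.Helper3.BCDer
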