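import Mathlib
import Groth.Prelude.Def_LCI2
import Groth.Prelude.Def_ega3
import Groth.Agent.Lib.Helper8.KE1
import Groth.Agent.Lib.Helper3.BCDer

/-!
# Koszul complexes under additive functors between module categories, and flat base change of
Koszul-regular sequences
-/

set_option autoImplicit false
universe u
open CategoryTheory CategoryTheory.Limits CochainComplex CohIII TensorProduct

namespace Groth.Agent.Helper3.KosBC

open Groth.Agent.Helper8.KoszulLib Groth.Agent.Helper5.FlatBC

section Functor

variable {R S : Type u} [CommRing R] [CommRing S]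

/-- the functor `Φ` turns multiplication by `r` into multiplication by `s` -/
def Compat (Φ : ModuleCat.{u} R ⥤ ModuleCat.{u} S) (r : R) (s : S) : Prop :=
  ∀ ⦃X Y : ModuleCat.{u} R⦄ (f : X ⟶ Y), Φ.map (r • f) = s • Φ.map f

variable (Φ : ModuleCat.{u} R ⥤ ModuleCat.{u} S) [Φ.Additive]

lemma map_smul_id_of_compat {r : R} {s : S} (h : Compat Φ r s)
    (K : CochainComplex (ModuleCat.{u} R) ℤ) :
    (Φ.mapHomologicalComplex (ComplexShape.up ℤ)).map (r • 𝟙 K) =
      s • 𝟙 ((Φ.mapHomologicalComplex (ComplexShape.up ℤ)).obj K) := by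
  ext i : 2
  simp only [Functor.mapHomologicalComplex_map_f, HomologicalComplex.smul_f_apply,
    HomologicalComplex.id_f]
  rw [h, CategoryTheory.Functor.map_id]
  rfl

/-- the image of a Koszul complex under an additive functor compatible with the scalars -/
theorem nonempty_map_koszulCx_iso (M : ModuleCat.{u} R) (N : ModuleCat.{u} S)
    (e : Φ.obj M ≅ N) (l : List R) (l' : List S) (h : List.Forall₂ (Compat Φ) l l') :
    Nonempty ((Φ.mapHomologicalComplex (ComplexShape.up ℤ)).obj (koszulCx M l) ≅
      koszulCx N l') := by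
  induction h with
  | nil =>
    exact ⟨(HomologicalComplex.singleMapHomologicalComplex Φ (ComplexShape.up ℤ) 0).app M ≪≫
      (HomologicalComplex.single _ _ 0).mapIso e⟩
  | @cons r s l l' hrs _ ih =>
    obtain ⟨e'⟩ := ih
    exact ⟨mappingCone.mapHomologicalComplexIso (r • 𝟙 (koszulCx M l)) Φ ≪≫
      coneCongrIso (map_smul_id_of_compat Φ hrs (koszulCx M l)) ≪≫ coneSmulIso e' s⟩

end Functor

section Flat

variable (R S : Type u) [CommRing R] [CommRing S] [Algebra R S]

lemma compat_Ef (r : R) : Compat (Ef (R := R) S) r (algebraMap R S r) :=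
  fun _ _ f => Groth.Agent.Helper3.BCDer.semiLinear_Ef S r f

lemma forall₂_compat_Ef (l : List R) :
    List.Forall₂ (Compat (Ef (R := R) S)) l (l.map (algebraMap R S)) := by
  induction l with
  | nil => exact List.Forall₂.nil
  | cons r l ih => exact List.Forall₂.cons (compat_Ef R S r) ih

/-- `S ⊗_R R ≅ S` -/
noncomputable def EfUnitIso : (Ef (R := R) S).obj (ModuleCat.of R R) ≅ ModuleCat.of S S :=
  ((eqvT S R).symm ≪≫ₗ TensorProduct.AlgebraTensorModule.rid R S S).toModuleIso

/-- the base change of the Koszul complex is the Koszul complex of the images -/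
theorem nonempty_Ec_koszul_iso (l : List R) :
    Nonempty ((Ec (R := R) S).obj (Koszul.koszul R l) ≅
      Koszul.koszul S (l.map (algebraMap R S))) := by
  rw [koszul_eq_koszulCx, koszul_eq_koszulCx]
  exact nonempty_map_koszulCx_iso (Ef (R := R) S) _ _ (EfUnitIso R S) l _
    (forall₂_compat_Ef R S l)

/-- flat base change preserves Koszul-regular sequences -/
theorem isKoszulRegularSeq_map_of_flat [Module.Flat R S] (l : List R)
    (h : LCI.IsKoszulRegularSeq R l) :
    LCI.IsKoszulRegularSeq S (l.map (algebraMap R S)) := by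
  intro i hi
  obtain ⟨e⟩ := nonempty_Ec_koszul_iso R S l
  have h1 : IsZero (((Ec (R := R) S).obj (Koszul.koszul R l)).homology i) :=
    ((Ef (R := R) S).map_isZero (h i hi)).of_iso (homIso S (Koszul.koszul R l) i)
  exact h1.of_iso ((HomologicalComplex.homologyFunctor _ _ i).mapIso e.symm)

end Flat

end Groth.Agent.Helper3.KosBC
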