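import Mathlib
import Groth.Prelude.Def_LCI2
import Groth.Prelude.Def_ega3
import Groth.Prelude.Def_Wider
import Groth.Agent.Lib.Helper8.KE2
import Groth.Agent.Lib.Helper8.LD15
import Groth.Agent.Lib.Helper8.GorFlat5

/-!
# Quotients of Gorenstein local rings by Koszul-regular sequences
-/

set_option autoImplicit false
universe u
open CategoryTheory CategoryTheory.Limits CochainComplex CohIII TensorProduct

namespace Groth.Agent.Helper3.KosBC

open Groth.Agent.Helper8.KoszulLib IsLocalRing LocCoh Groth.Agent.Helper8.GorFlat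

section Nak

variable {S : Type u} [CommRing S] [IsLocalRing S]

/-- Nakayama: a finite module on which an element of the maximal ideal acts surjectively is zero -/
lemma subsingleton_of_surjective_smul (N : Type u) [AddCommGroup N] [Module S N]
    [Module.Finite S N] (x : S) (hx : x ∈ maximalIdeal S)
    (hs : Function.Surjective (x • (LinearMap.id : N →ₗ[S] N))) : Subsingleton N := by
  have h1 : (⊤ : Submodule S N) ≤ (Ideal.span {x} : Ideal S) • (⊤ : Submodule S N) := by
    intro n _
    obtain ⟨n', rfl⟩ := hs n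
    exact Submodule.smul_mem_smul (Ideal.mem_span_singleton_self x) trivial
  have h2 : (Ideal.span {x} : Ideal S) ≤ Ideal.jacobson ⊥ := by
    rw [Ideal.span_le, Set.singleton_subset_iff]
    exact IsLocalRing.maximalIdeal_le_jacobson ⊥ hx
  have h3 := Submodule.eq_bot_of_le_smul_of_le_jacobson_bot (Ideal.span {x}) (⊤ : Submodule S N)
    Module.Finite.fg_top h1 h2
  refine ⟨fun a b => ?_⟩
  have ha : a ∈ (⊤ : Submodule S N) := trivial
  have hb : b ∈ (⊤ : Submodule S N) := trivial
  rw [h3, Submodule.mem_bot] at ha hb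
  rw [ha, hb]

end Nak

section Step

variable {S : Type u} [CommRing S] [IsNoetherianRing S] [IsLocalRing S]

/-- over a Noetherian local ring, if `x :: xs` (in the maximal ideal) is Koszul-regular then so is
`xs`, and `x` is a nonzerodivisor on `S/(xs)` -/
theorem koszulRegular_cons (x : S) (xs : List S) (hx : x ∈ maximalIdeal S)
    (h : ∀ i : ℤ, i ≠ 0 → IsZero ((koszulCx (ModuleCat.of S S) (x :: xs)).homology i)) :
    (∀ i : ℤ, i ≠ 0 → IsZero ((koszulCx (ModuleCat.of S S) xs).homology i)) ∧
      IsSMulRegular (S ⧸ Ideal.ofList xs) x := by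
  set K := koszulCx (ModuleCat.of S S) xs with hK
  have hcone : ∀ i : ℤ, i ≠ 0 → Subsingleton ((mappingCone (x • 𝟙 K)).homology i) :=
    fun i hi => ModuleCat.subsingleton_of_isZero (h i hi)
  constructor
  · intro j hj
    obtain ⟨i, δ, h1, h2, h3⟩ := exists_exact_cone K x j (j + 1) rfl
    haveI := hcone j hj
    have hs : Function.Surjective (x • (LinearMap.id : K.homology j →ₗ[S] K.homology j)) := by
      intro y
      exact (h1 y).1 (Subsingleton.elim _ _)
    haveI : Module.Finite S (K.homology j) := finite_koszul_homology (ModuleCat.of S S) xs j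
    haveI := subsingleton_of_surjective_smul (K.homology j) x hx hs
    exact ModuleCat.isZero_of_subsingleton _
  · obtain ⟨i, δ, h1, h2, h3⟩ := exists_exact_cone K x (-1) 0 (by norm_num)
    haveI := hcone (-1) (by norm_num)
    have hinj : Function.Injective (x • (LinearMap.id : K.homology 0 →ₗ[S] K.homology 0)) := by
      rw [← LinearMap.ker_eq_bot, LinearMap.ker_eq_bot']
      intro y hy
      obtain ⟨z, rfl⟩ := (h3 y).1 hy
      rw [Subsingleton.elim z 0, map_zero]
    obtain ⟨e⟩ := nonempty_homology_zero_equiv S xs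
    have htop : (Ideal.ofList xs • (⊤ : Submodule S S)) = Ideal.ofList xs := by
      rw [smul_eq_mul, Ideal.mul_top]
    let e' : K.homology 0 ≃ₗ[S] (S ⧸ Ideal.ofList xs) :=
      e ≪≫ₗ Submodule.quotEquivOfEq _ _ htop
    intro a b hab
    have hab' : x • a = x • b := hab
    have h4 : (x • (LinearMap.id : K.homology 0 →ₗ[S] K.homology 0)) (e'.symm a) =
        (x • (LinearMap.id : K.homology 0 →ₗ[S] K.homology 0)) (e'.symm b) := by
      simp only [LinearMap.smul_apply, LinearMap.id_coe, id_eq]
      rw [← map_smul, ← map_smul, hab']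
    exact e'.symm.injective (hinj h4)

end Step

section Main

lemma isZero_homology_of_eq {R : Type u} [CommRing R] {K K' : CochainComplex (ModuleCat.{u} R) ℤ}
    (h : K = K') (i : ℤ) : IsZero (K.homology i) ↔ IsZero (K'.homology i) := by
  subst h
  rfl

lemma isKoszulRegularSeq_iff {R : Type u} [CommRing R] (l : List R) :
    LCI.IsKoszulRegularSeq R l ↔
      ∀ i : ℤ, i ≠ 0 → IsZero ((koszulCx (ModuleCat.of R R) l).homology i) := by
  unfold LCI.IsKoszulRegularSeq
  constructor
  · intro h i hi
    exact (isZero_homology_of_eq (koszul_eq_koszulCx l) i).1 (h i hi)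
  · intro h i hi
    exact (isZero_homology_of_eq (koszul_eq_koszulCx l) i).2 (h i hi)

/-- the quotient of a Gorenstein local ring by a Koszul-regular sequence in the maximal ideal is
Gorenstein -/
theorem isGorensteinLocalRing_quot_of_koszulRegular (S : Type u) [CommRing S]
    (hG : IsGorensteinLocalRing S) (l : List S) (hl : ∀ x ∈ l, x ∈ maximalIdeal S)
    (hreg : LCI.IsKoszulRegularSeq S l) : IsGorensteinLocalRing (S ⧸ Ideal.ofList l) := by
  haveI : IsNoetherianRing S := hG.toIsNoetherian
  haveI : IsLocalRing S := hG.toIsLocalRing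
  rw [isKoszulRegularSeq_iff] at hreg
  induction l with
  | nil =>
    have h0 : Ideal.ofList ([] : List S) = ⊥ := Ideal.ofList_nil
    exact isGorensteinLocalRing_of_ringEquiv
      ((RingEquiv.quotientBot S).symm.trans (Ideal.quotEquivOfEq h0.symm)) hG
  | cons x xs ih =>
    have hx : x ∈ maximalIdeal S := hl x (List.mem_cons_self)
    obtain ⟨h1, h2⟩ := koszulRegular_cons x xs hx hreg
    have hG' := ih (fun y hy => hl y (List.mem_cons_of_mem x hy)) h1
    haveI : IsNoetherianRing (S ⧸ Ideal.ofList xs) := hG'.toIsNoetherian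
    haveI : IsLocalRing (S ⧸ Ideal.ofList xs) := hG'.toIsLocalRing
    have hx' : Ideal.Quotient.mk (Ideal.ofList xs) x ∈ maximalIdeal (S ⧸ Ideal.ofList xs) := by
      rw [← IsLocalRing.map_maximalIdeal_of_surjective _ Ideal.Quotient.mk_surjective]
      exact Ideal.mem_map_of_mem _ hx
    have hreg' : IsSMulRegular (S ⧸ Ideal.ofList xs) (Ideal.Quotient.mk (Ideal.ofList xs) x) := by
      intro a b hab
      apply h2
      show x • a = x • b
      have h3 : ∀ c : S ⧸ Ideal.ofList xs, x • c = Ideal.Quotient.mk (Ideal.ofList xs) x * c := by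
        intro c
        rw [Algebra.smul_def]
        rfl
      rw [h3, h3]
      exact hab
    have hG'' := Groth.Agent.Helper8.LD.isGorensteinLocalRing_quotient (S ⧸ Ideal.ofList xs)
      (Ideal.Quotient.mk (Ideal.ofList xs) x) hx' hreg' hG'
    have hmap : (Ideal.span {x} : Ideal S).map (Ideal.Quotient.mk (Ideal.ofList xs)) =
        Ideal.span {Ideal.Quotient.mk (Ideal.ofList xs) x} := by
      rw [Ideal.map_span, Set.image_singleton]
    have hsup : Ideal.ofList xs ⊔ Ideal.span {x} = Ideal.ofList (x :: xs) := by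
      rw [Ideal.ofList_cons, sup_comm]
    exact isGorensteinLocalRing_of_ringEquiv
      ((Ideal.quotEquivOfEq hmap.symm).trans
        ((DoubleQuot.quotQuotEquivQuotSup (Ideal.ofList xs) (Ideal.span {x})).trans
          (Ideal.quotEquivOfEq hsup))) hG''

end Main

end Groth.Agent.Helper3.KosBC
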