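import Mathlib
import Groth.Prelude.Def_LCI2
import Groth.Prelude.Def_Wider
import Groth.Agent.Lib.Helper3.KosBC1
import Groth.Agent.Lib.Helper3.KosBC2
import Groth.Agent.Lib.Helper8.GorFlat6
import Groth.Agent.Lib.Helper8.CMPoly1

/-!
# A local complete intersection algebra over a Gorenstein ring is Gorenstein
-/

set_option autoImplicit false
universe u
open CategoryTheory CategoryTheory.Limits CochainComplex CohIII TensorProduct

namespace Groth.Agent.Helper3.KosBC

open Groth.Agent.Helper8.KoszulLib IsLocalRing LocCoh Groth.Agent.Helper8.GorFlat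

/-- polynomial rings over Gorenstein rings are Gorenstein -/
theorem isGorensteinRing_mvPolynomial (R : Type u) [CommRing R] (h : IsGorensteinRing R)
    (n : ℕ) : IsGorensteinRing (MvPolynomial (Fin n) R) := by
  haveI := h
  haveI : IsNoetherianRing R := inferInstance
  refine isGorensteinRing_of_flat_of_fibres R (MvPolynomial (Fin n) R) h fun p hp => ?_
  haveI : IsRegularRing (MvPolynomial (Fin n) p.ResidueField) := inferInstance
  haveI : IsRegularRing (p.Fiber (MvPolynomial (Fin n) R)) :=
    IsRegularRing.of_ringEquiv
      (MvPolynomial.algebraTensorAlgEquiv R p.ResidueField (σ := Fin n)).symm.toRingEquiv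
  exact isGorensteinRing_of_isRegularRing _

lemma ofList_map {R S : Type u} [CommRing R] [CommRing S] (φ : R →+* S) (l : List R) :
    Ideal.ofList (l.map φ) = (Ideal.ofList l).map φ := by
  unfold Ideal.ofList
  rw [Ideal.map_span]
  congr 1
  ext y
  simp only [List.mem_map, Set.mem_setOf_eq, Set.mem_image]

/-- the quotient of a Gorenstein ring by a Koszul-regular ideal is Gorenstein -/
theorem isGorensteinRing_quot_of_koszulRegularIdeal (P : Type u) [CommRing P]
    (hP : IsGorensteinRing P) (I : Ideal P) (hI : LCI.IsKoszulRegularIdeal I) :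
    IsGorensteinRing (P ⧸ I) := by
  haveI := hP
  haveI : IsNoetherianRing P := inferInstance
  refine { isGorensteinLocalRing_localization := fun Q' hQ' => ?_ }
  set q := Q'.comap (Ideal.Quotient.mk I) with hq
  haveI : q.IsPrime := Ideal.comap_isPrime _ _
  have hIq : I ≤ q := by
    intro x hx
    rw [hq, Ideal.mem_comap, Ideal.Quotient.eq_zero_iff_mem.mpr hx]
    exact Q'.zero_mem
  have hmap : q.map (Ideal.Quotient.mk I) = Q' :=
    Ideal.map_comap_of_surjective _ Ideal.Quotient.mk_surjective Q'
  have key : ∀ (P' : Ideal (P ⧸ I)) [P'.IsPrime], P' = Q' →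
      IsGorensteinLocalRing (Localization.AtPrime P') →
      IsGorensteinLocalRing (Localization.AtPrime Q') := by
    intro P' _ h hG
    subst h
    exact hG
  haveI hQ : (q.map (Ideal.Quotient.mk I)).IsPrime := by rw [hmap]; exact hQ'
  refine key _ hmap ?_
  obtain ⟨g, hg, l, hl, hspan⟩ := hI ⟨q, inferInstance⟩ hIq
  set S := Localization.AtPrime q with hS
  have hG : IsGorensteinLocalRing S := hP.isGorensteinLocalRing_localization q
  have hu : IsUnit (algebraMap P S g) :=
    IsLocalization.map_units S (⟨g, hg⟩ : q.primeCompl)
  letI : Algebra (Localization.Away g) S :=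
    (IsLocalization.Away.lift (S := Localization.Away g) g hu).toAlgebra
  haveI : IsScalarTower P (Localization.Away g) S :=
    IsScalarTower.of_algebraMap_eq (fun x => (IsLocalization.Away.lift_eq g hu x).symm)
  have hle : Submonoid.powers g ≤ q.primeCompl := by
    rw [Submonoid.powers_le]
    exact hg
  haveI : IsLocalization (q.primeCompl.map (algebraMap P (Localization.Away g))) S :=
    IsLocalization.isLocalization_of_submonoid_le (Localization.Away g) S
      (Submonoid.powers g) q.primeCompl hle
  haveI : Module.Flat (Localization.Away g) S :=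
    IsLocalization.flat S (q.primeCompl.map (algebraMap P (Localization.Away g)))
  have hl' := isKoszulRegularSeq_map_of_flat (Localization.Away g) S l hl
  have hof : Ideal.ofList (l.map (algebraMap (Localization.Away g) S)) =
      I.map (algebraMap P S) := by
    rw [ofList_map, IsScalarTower.algebraMap_eq P (Localization.Away g) S, ← Ideal.map_map,
      hspan]
  have hmem : ∀ x ∈ l.map (algebraMap (Localization.Away g) S), x ∈ maximalIdeal S := by
    intro x hx
    have h1 : x ∈ Ideal.ofList (l.map (algebraMap (Localization.Away g) S)) :=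
      Ideal.subset_span hx
    rw [hof] at h1
    have h2 : I.map (algebraMap P S) ≤ maximalIdeal S := by
      rw [← Localization.AtPrime.map_eq_maximalIdeal]
      exact Ideal.map_mono hIq
    exact h2 h1
  have h3 := isGorensteinLocalRing_quot_of_koszulRegular S hG _ hmem hl'
  have h4 : IsGorensteinLocalRing (S ⧸ I.map (algebraMap P S)) :=
    isGorensteinLocalRing_of_ringEquiv (Ideal.quotEquivOfEq hof) h3
  exact isGorensteinLocalRing_of_ringEquiv
    (Groth.Agent.Helper8.Sk.locQuotEquiv P I q hIq).symm h4

theorem main_S1827 (A B : Type u) [CommRing A] [CommRing B] [Algebra A B]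
    (hA : LocCoh.IsGorensteinRing A) (h : LCI.IsLCI A B) : LocCoh.IsGorensteinRing B := by
  obtain ⟨-, n, f, hf, hI⟩ := h
  have hP := isGorensteinRing_mvPolynomial A hA n
  have h1 := isGorensteinRing_quot_of_koszulRegularIdeal _ hP _ hI
  exact isGorensteinRing_of_ringEquiv (RingHom.quotientKerEquivOfSurjective hf) h1

end Groth.Agent.Helper3.KosBC
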