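import Mathlib

/-!
# Exact complexes of flat modules bounded on the right stay exact after tensoring
-/

set_option autoImplicit false
universe u
open TensorProduct

namespace Groth.Agent.Helper3.KosBC

section FlatKer

variable {A : Type u} [CommRing A]

/-- the kernel of a surjection between flat modules is flat -/
theorem flat_ker_of_surjective {F Q : Type u} [AddCommGroup F] [Module A F] [AddCommGroup Q]
    [Module A Q] [Module.Flat A F] [Module.Flat A Q] (p : F →ₗ[A] Q)
    (hp : Function.Surjective p) : Module.Flat A (LinearMap.ker p) := by
  rw [Module.Flat.iff_lTensor_preserves_injective_linearMap'.{u, u, u}]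
  intro N N' _ _ _ _ f hf
  have h1 : Function.Injective ((LinearMap.ker p).subtype.rTensor N) := by
    rw [← LinearMap.lTensor_inj_iff_rTensor_inj]
    exact LinearMap.lTensor_injective_of_exact_of_flat p hp (LinearMap.ker p).subtype
      (Submodule.injective_subtype _) (LinearMap.exact_subtype_ker_map p) N
  have h2 : Function.Injective (f.lTensor F) :=
    Module.Flat.lTensor_preserves_injective_linearMap f hf
  have h3 : ((LinearMap.ker p).subtype.rTensor N') ∘ₗ (f.lTensor (LinearMap.ker p)) =
      (f.lTensor F) ∘ₗ ((LinearMap.ker p).subtype.rTensor N) := by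
    rw [LinearMap.rTensor_comp_lTensor, LinearMap.lTensor_comp_rTensor]
  have h4 : Function.Injective (((LinearMap.ker p).subtype.rTensor N') ∘
      (f.lTensor (LinearMap.ker p))) := by
    rw [← LinearMap.coe_comp, h3, LinearMap.coe_comp]
    exact h2.comp h1
  exact Function.Injective.of_comp h4

end FlatKer

section FClin

variable {A : Type u} [CommRing A] (X : ℕ → Type u) [∀ n, AddCommGroup (X n)]
  [∀ n, Module A (X n)] (d : ∀ n, X (n + 1) →ₗ[A] X n)

/-- the cokernels of an exact complex of flat modules ending with a flat cokernel are flat -/
theorem flat_coker (hex : ∀ n, Function.Exact (d (n + 1)) (d n))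
    (hflat : ∀ n, Module.Flat A (X n)) (h0 : Module.Flat A (X 0 ⧸ LinearMap.range (d 0))) :
    ∀ n, Module.Flat A (X n ⧸ LinearMap.range (d n))
  | 0 => h0
  | n + 1 => by
    haveI := flat_coker hex hflat h0 n
    haveI := hflat n
    have h1 : Module.Flat A (LinearMap.ker (LinearMap.range (d n)).mkQ) :=
      flat_ker_of_surjective _ (Submodule.mkQ_surjective _)
    rw [Submodule.ker_mkQ] at h1
    have h2 : LinearMap.range (d (n + 1)) = LinearMap.ker (d n) :=
      ((LinearMap.exact_iff).1 (hex n)).symm
    exact Module.Flat.of_linearEquiv
      ((Submodule.quotEquivOfEq _ _ h2).trans (d n).quotKerEquivRange)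

/-- tensoring an exact complex of flat modules, bounded on the right with flat cokernel -/
theorem exact_rTensor (hex : ∀ n, Function.Exact (d (n + 1)) (d n))
    (hflat : ∀ n, Module.Flat A (X n)) (h0 : Module.Flat A (X 0 ⧸ LinearMap.range (d 0)))
    (N : Type u) [AddCommGroup N] [Module A N] (n : ℕ) :
    Function.Exact ((d (n + 1)).rTensor N) ((d n).rTensor N) := by
  haveI := flat_coker X d hex hflat h0 n
  -- factor `d n` through its range
  have hι : Function.Injective ((LinearMap.range (d n)).subtype.rTensor N) := by
    rw [← LinearMap.lTensor_inj_iff_rTensor_inj]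
    exact LinearMap.lTensor_injective_of_exact_of_flat (LinearMap.range (d n)).mkQ
      (Submodule.mkQ_surjective _) (LinearMap.range (d n)).subtype
      (Submodule.injective_subtype _) (LinearMap.exact_subtype_mkQ _) N
  have hfac : (LinearMap.range (d n)).subtype ∘ₗ (d n).rangeRestrict = d n :=
    LinearMap.subtype_comp_codRestrict _ _ _
  have hex' : Function.Exact (d (n + 1)) (d n).rangeRestrict := by
    intro y
    rw [← hex n y]
    constructor
    · intro h
      have := congrArg Subtype.val h
      simpa using this
    · intro h
      apply Subtype.ext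
      simpa using h
  have h1 : Function.Exact ((d (n + 1)).rTensor N) ((d n).rangeRestrict.rTensor N) :=
    rTensor_exact N hex' (LinearMap.surjective_rangeRestrict _)
  intro y
  rw [← h1 y]
  have h2 : ((d n).rTensor N) y =
      ((LinearMap.range (d n)).subtype.rTensor N) (((d n).rangeRestrict.rTensor N) y) := by
    rw [← LinearMap.comp_apply, ← LinearMap.rTensor_comp, hfac]
  rw [h2]
  constructor
  · intro h
    exact hι (h.trans (map_zero _).symm)
  · intro h
    rw [h, map_zero]

end FClin

end Groth.Agent.Helper3.KosBC
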