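import Mathlib
import Groth.Prelude.Def_LCI2
import Groth.Prelude.Def_ega3
import Groth.Agent.Lib.Helper3.KosBC1
import Groth.Agent.Lib.Helper3.KosBC2
import Groth.Agent.Lib.Helper3.KosBC4
import Groth.Agent.Lib.Helper8.KS3
import Groth.Agent.Lib.Helper1.FlatQuot

/-!
# Base change of Koszul-regular sequences with flat quotient
-/

set_option autoImplicit false
universe u
open CategoryTheory CategoryTheory.Limits CochainComplex CohIII TensorProduct

namespace Groth.Agent.Helper3.KosBC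

open Groth.Agent.Helper8.KoszulLib Groth.Agent.Helper5.FlatBC

section ExactHomology

variable {R : Type u} [CommRing R]

lemma exact_iff_isZero_homology (K : CochainComplex (ModuleCat.{u} R) ℤ) (i j k : ℤ)
    (hij : i + 1 = j) (hjk : j + 1 = k) :
    Function.Exact (K.d i j).hom (K.d j k).hom ↔ IsZero (K.homology j) := by
  rw [← HomologicalComplex.exactAt_iff_isZero_homology,
    HomologicalComplex.exactAt_iff' K i j k (by simp [← hij]) (by simp [← hjk]),
    ShortComplex.ShortExact.moduleCat_exact_iff_function_exact]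
  rfl

/-- the cokernel of the incoming differential is the homology when the outgoing one vanishes -/
lemma nonempty_coker_equiv_homology (K : CochainComplex (ModuleCat.{u} R) ℤ) (i j k : ℤ)
    (hij : i + 1 = j) (hjk : j + 1 = k) (hd : K.d j k = 0) :
    Nonempty ((K.X j ⧸ LinearMap.range (K.d i j).hom) ≃ₗ[R] K.homology j) := by
  have hprev : (ComplexShape.up ℤ).prev j = i := by simp [← hij]
  have hnext : (ComplexShape.up ℤ).next j = k := by simp [← hjk]
  have hex : (ShortComplex.mk (K.d i j) (K.pOpcycles j) (K.d_pOpcycles i j)).Exact :=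
    ShortComplex.exact_of_g_is_cokernel _ (K.opcyclesIsCokernel i j hprev)
  rw [ShortComplex.ShortExact.moduleCat_exact_iff_function_exact] at hex
  have hsurj : Function.Surjective (K.pOpcycles j).hom :=
    (ModuleCat.epi_iff_surjective _).1 inferInstance
  have hker : LinearMap.ker (K.pOpcycles j).hom = LinearMap.range (K.d i j).hom :=
    (LinearMap.exact_iff).1 hex
  exact ⟨(Submodule.quotEquivOfEq _ _ hker.symm).trans
    ((LinearMap.quotKerEquivOfSurjective _ hsurj).trans
      (K.isoHomologyι j k hnext hd).symm.toLinearEquiv)⟩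

end ExactHomology

section Psi

variable (A R A' : Type u) [CommRing A] [CommRing R] [CommRing A'] [Algebra A R] [Algebra A A']

/-- restriction of scalars to `A` -/
noncomputable abbrev UA : ModuleCat.{u} R ⥤ ModuleCat.{u} A :=
  ModuleCat.restrictScalars (algebraMap A R)

instance instTowerUA (M : ModuleCat.{u} R) : IsScalarTower A R ((UA A R).obj M) :=
  IsScalarTower.of_algebraMap_smul (fun _ _ => rfl)

/-- `(R ⊗_A A') ⊗_R M ≃ M ⊗_A A'` -/
noncomputable def psi (M : ModuleCat.{u} R) :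
    (Ef (R := R) (R ⊗[A] A')).obj M ≃+ ((UA A R).obj M) ⊗[A] A' :=
  ((eqv (R ⊗[A] A') M).symm.toAddEquiv).trans
    (((TensorProduct.comm R (R ⊗[A] A') ((UA A R).obj M)).toAddEquiv).trans
      (TensorProduct.AlgebraTensorModule.cancelBaseChange A R R ((UA A R).obj M) A').toAddEquiv)

/-- an element of `M` seen in the restriction of scalars -/
def toUA (M : ModuleCat.{u} R) (m : M) : (UA A R).obj M := m

open ChangeOfRings in
lemma psi_tmul (M : ModuleCat.{u} R) (r : R) (a' : A') (m : M) :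
    psi A R A' M ((r ⊗ₜ[A] a') ⊗ₜ[R, algebraMap R (R ⊗[A] A')] m) =
      (toUA A R M (r • m)) ⊗ₜ[A] a' := by
  have h1 : (eqv (R ⊗[A] A') M).symm ((r ⊗ₜ[A] a') ⊗ₜ[R, algebraMap R (R ⊗[A] A')] m) =
      (r ⊗ₜ[A] a') ⊗ₜ[R] m := by
    rw [LinearEquiv.symm_apply_eq]
    rfl
  show (TensorProduct.AlgebraTensorModule.cancelBaseChange A R R ((UA A R).obj M) A')
    ((TensorProduct.comm R (R ⊗[A] A') ((UA A R).obj M))
      ((eqv (R ⊗[A] A') M).symm ((r ⊗ₜ[A] a') ⊗ₜ[R, algebraMap R (R ⊗[A] A')] m))) = _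
  rw [h1]
  exact TensorProduct.AlgebraTensorModule.cancelBaseChange_tmul (R := A) (A := R) (B := R)
    (M := (UA A R).obj M) (N := A') (toUA A R M m) a' r

open ChangeOfRings in
lemma psi_natural_tmul {M N : ModuleCat.{u} R} (g : M ⟶ N) (r : R) (a' : A') (m : M) :
    psi A R A' N (((Ef (R := R) (R ⊗[A] A')).map g).hom
      ((r ⊗ₜ[A] a') ⊗ₜ[R, algebraMap R (R ⊗[A] A')] m)) =
      (((UA A R).map g).hom.rTensor A')
        (psi A R A' M ((r ⊗ₜ[A] a') ⊗ₜ[R, algebraMap R (R ⊗[A] A')] m)) := by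
  have h1 : ((Ef (R := R) (R ⊗[A] A')).map g).hom
      ((r ⊗ₜ[A] a') ⊗ₜ[R, algebraMap R (R ⊗[A] A')] m) =
      ((r ⊗ₜ[A] a') ⊗ₜ[R, algebraMap R (R ⊗[A] A')] (g.hom m)) :=
    ModuleCat.ExtendScalars.map_tmul _ _ _ _
  have h2 := psi_tmul A R A' N r a' (g.hom m)
  have h3 := psi_tmul A R A' M r a' m
  have h4 : (((UA A R).map g).hom.rTensor A') ((toUA A R M (r • m)) ⊗ₜ[A] a') =
      (toUA A R N (r • g.hom m)) ⊗ₜ[A] a' := by
    rw [LinearMap.rTensor_tmul]
    congr 1
    exact map_smul g.hom r m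
  exact (congrArg (psi A R A' N) h1).trans (h2.trans (h4.symm.trans
    (congrArg (((UA A R).map g).hom.rTensor A') h3.symm)))

lemma psi_natural {M N : ModuleCat.{u} R} (g : M ⟶ N)
    (x : (Ef (R := R) (R ⊗[A] A')).obj M) :
    psi A R A' N (((Ef (R := R) (R ⊗[A] A')).map g).hom x) =
      (((UA A R).map g).hom.rTensor A') (psi A R A' M x) := by
  let F₁ : (Ef (R := R) (R ⊗[A] A')).obj M →+ ((UA A R).obj N) ⊗[A] A' :=
    (psi A R A' N).toAddMonoidHom.comp ((Ef (R := R) (R ⊗[A] A')).map g).hom.toAddMonoidHom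
  let F₂ : (Ef (R := R) (R ⊗[A] A')).obj M →+ ((UA A R).obj N) ⊗[A] A' :=
    ((((UA A R).map g).hom.rTensor A').toAddMonoidHom).comp (psi A R A' M).toAddMonoidHom
  show F₁ x = F₂ x
  refine TensorProduct.induction_on x ?_ ?_ ?_
  · exact (map_zero F₁).trans (map_zero F₂).symm
  · intro t m
    refine TensorProduct.induction_on t ?_ ?_ ?_
    · have h0 : ((0 : S' (R := R) (R ⊗[A] A')) ⊗ₜ[R] m : (Ef (R := R) (R ⊗[A] A')).obj M) =
          (0 : (Ef (R := R) (R ⊗[A] A')).obj M) := TensorProduct.zero_tmul _ _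
      exact (congrArg F₁ h0).trans ((map_zero F₁).trans
        ((map_zero F₂).symm.trans (congrArg F₂ h0).symm))
    · intro r a'
      exact psi_natural_tmul A R A' g r a' m
    · intro (t₁ : S' (R := R) (R ⊗[A] A')) (t₂ : S' (R := R) (R ⊗[A] A')) h₁ h₂
      have h0 : (((t₁ + t₂) ⊗ₜ[R] m :
            (S' (R := R) (R ⊗[A] A')) ⊗[R] M) : (Ef (R := R) (R ⊗[A] A')).obj M) =
          ((t₁ ⊗ₜ[R] m + t₂ ⊗ₜ[R] m :
            (S' (R := R) (R ⊗[A] A')) ⊗[R] M) : (Ef (R := R) (R ⊗[A] A')).obj M) :=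
        TensorProduct.add_tmul _ _ _
      exact (congrArg F₁ h0).trans ((map_add F₁ _ _).trans
        ((congrArg₂ (· + ·) h₁ h₂).trans ((map_add F₂ _ _).symm.trans (congrArg F₂ h0).symm)))
  · intro x y hx hy
    exact (map_add F₁ x y).trans ((congrArg₂ (· + ·) hx hy).trans (map_add F₂ x y).symm)

/-- transfer of exactness along additive bijections -/
lemma exact_of_addEquiv {M₁ M₂ M₃ N₁ N₂ N₃ : Type*} [AddCommGroup M₁] [AddCommGroup M₂]
    [AddCommGroup M₃] [AddCommGroup N₁] [AddCommGroup N₂] [AddCommGroup N₃]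
    (f₁ : M₁ → M₂) (f₂ : M₂ → M₃) (g₁ : N₁ → N₂) (g₂ : N₂ → N₃)
    (e₁ : M₁ ≃+ N₁) (e₂ : M₂ ≃+ N₂) (e₃ : M₃ ≃+ N₃)
    (h₁ : ∀ x, e₂ (f₁ x) = g₁ (e₁ x)) (h₂ : ∀ x, e₃ (f₂ x) = g₂ (e₂ x))
    (H : Function.Exact g₁ g₂) : Function.Exact f₁ f₂ := by
  intro y
  constructor
  · intro hy
    have h3 : g₂ (e₂ y) = 0 := by rw [← h₂, hy, map_zero]
    obtain ⟨z, hz⟩ := (H (e₂ y)).1 h3
    refine ⟨e₁.symm z, e₂.injective ?_⟩
    rw [h₁, AddEquiv.apply_symm_apply, hz]
  · rintro ⟨x, rfl⟩
    apply e₃.injective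
    rw [h₂, h₁, map_zero]
    exact (H _).2 ⟨e₁ x, rfl⟩

/-- vanishing of the homology of the base change from exactness after tensoring over `A` -/
theorem isZero_homology_Ec_of_exact (K : CochainComplex (ModuleCat.{u} R) ℤ) (i j k : ℤ)
    (hij : i + 1 = j) (hjk : j + 1 = k)
    (h : Function.Exact (((UA A R).map (K.d i j)).hom.rTensor A')
      (((UA A R).map (K.d j k)).hom.rTensor A')) :
    IsZero (((Ec (R := R) (R ⊗[A] A')).obj K).homology j) := by
  rw [← exact_iff_isZero_homology _ i j k hij hjk]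
  exact exact_of_addEquiv _ _ _ _ (psi A R A' (K.X i)) (psi A R A' (K.X j)) (psi A R A' (K.X k))
    (psi_natural A R A' (K.d i j)) (psi_natural A R A' (K.d j k)) h

end Psi

section KoszulFlat

variable (A R : Type u) [CommRing A] [CommRing R] [Algebra A R]

/-- flatness over `A` transfers along `R`-linear equivalences -/
lemma flat_UA_of_linearEquiv {M : ModuleCat.{u} R} {N : Type u} [AddCommGroup N] [Module R N]
    [Module A N] (hN : ∀ (a : A) (n : N), a • n = algebraMap A R a • n) (e : M ≃ₗ[R] N)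
    [Module.Flat A N] : Module.Flat A ((UA A R).obj M) := by
  let e' : ((UA A R).obj M) ≃ₗ[A] N :=
    { e.toAddEquiv with
      map_smul' := fun a x => by
        show e (algebraMap A R a • (show M from x)) = a • e x
        rw [map_smul, hN] }
  exact Module.Flat.of_linearEquiv e'

/-- a product of flat modules is flat -/
lemma flat_prod (M N : Type u) [AddCommGroup M] [AddCommGroup N] [Module A M] [Module A N]
    [Module.Flat A M] [Module.Flat A N] : Module.Flat A (M × N) := by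
  refine Groth.Agent.Helper1.FlatQuot.flat_of_exact (LinearMap.inl A M N) (LinearMap.snd A M N)
    LinearMap.inl_injective LinearMap.snd_surjective ?_
  intro x
  constructor
  · intro h
    refine ⟨x.1, Prod.ext rfl ?_⟩
    exact h.symm
  · rintro ⟨m, rfl⟩
    rfl

/-- the terms of the Koszul complex are flat over `A` when `R` is -/
theorem flat_koszulCx_X [Module.Flat A R] :
    ∀ (l : List R) (n : ℤ), Module.Flat A ((UA A R).obj ((koszulCx (ModuleCat.of R R) l).X n))
  | [], n => by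
    by_cases hn : n = 0
    · subst hn
      exact flat_UA_of_linearEquiv A R (N := R) (fun a n => (algebraMap_smul R a n).symm)
        (HomologicalComplex.singleObjXSelf (ComplexShape.up ℤ) 0 (ModuleCat.of R R)).toLinearEquiv
    · have hz : IsZero ((koszulCx (ModuleCat.of R R) []).X n) :=
        HomologicalComplex.isZero_single_obj_X (ComplexShape.up ℤ) 0 _ n hn
      haveI : Subsingleton ((koszulCx (ModuleCat.of R R) []).X n) :=
        ModuleCat.subsingleton_of_isZero hz
      haveI : Subsingleton ((UA A R).obj ((koszulCx (ModuleCat.of R R) []).X n)) := this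
      infer_instance
  | x :: l, n => by
    haveI := flat_koszulCx_X l (n + 1)
    haveI := flat_koszulCx_X l n
    haveI := flat_prod A ((UA A R).obj ((koszulCx (ModuleCat.of R R) l).X (n + 1)))
      ((UA A R).obj ((koszulCx (ModuleCat.of R R) l).X n))
    exact flat_UA_of_linearEquiv A R
      (N := ((UA A R).obj ((koszulCx (ModuleCat.of R R) l).X (n + 1))) ×
        ((UA A R).obj ((koszulCx (ModuleCat.of R R) l).X n))) (fun a n => rfl)
      (coneXEquiv (x • 𝟙 (koszulCx (ModuleCat.of R R) l)) n)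

end KoszulFlat

section Core

variable (A R A' : Type u) [CommRing A] [CommRing R] [CommRing A'] [Algebra A R] [Algebra A A']

lemma nonempty_homology_equiv_of_eq_zero (l : List R) (j : ℤ) (hj : j = 0) :
    Nonempty ((koszulCx (ModuleCat.of R R) l).homology j ≃ₗ[R] (R ⧸ Ideal.ofList l)) := by
  subst hj
  obtain ⟨e⟩ := nonempty_homology_zero_equiv R l
  have htop : (Ideal.ofList l • (⊤ : Submodule R R)) = Ideal.ofList l := by
    rw [smul_eq_mul, Ideal.mul_top]
  exact ⟨e ≪≫ₗ Submodule.quotEquivOfEq _ _ htop⟩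

/-- base change of a Koszul-regular sequence with flat quotient in a flat algebra -/
theorem isKoszulRegularSeq_baseChange [Module.Flat A R] (l : List R)
    (hl : LCI.IsKoszulRegularSeq R l) (hflat : Module.Flat A (R ⧸ Ideal.ofList l)) :
    LCI.IsKoszulRegularSeq (R ⊗[A] A') (l.map (algebraMap R (R ⊗[A] A'))) := by
  rw [isKoszulRegularSeq_iff] at hl
  set K := koszulCx (ModuleCat.of R R) l with hK
  -- the complex of `A`-modules
  let X : ℕ → Type u := fun n => (UA A R).obj (K.X (-(n : ℤ)))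
  let d : ∀ n, X (n + 1) →ₗ[A] X n :=
    fun n => ((UA A R).map (K.d (-((n + 1 : ℕ) : ℤ)) (-(n : ℤ)))).hom
  have hex : ∀ n, Function.Exact (d (n + 1)) (d n) := by
    intro n
    exact (exact_iff_isZero_homology K (-((n + 1 + 1 : ℕ) : ℤ)) (-((n + 1 : ℕ) : ℤ)) (-(n : ℤ))
      (by push_cast; ring) (by push_cast; ring)).2 (hl _ (by
        have : (0 : ℤ) < ((n + 1 : ℕ) : ℤ) := by positivity
        omega))
  have hfl : ∀ n, Module.Flat A (X n) := fun n => flat_koszulCx_X A R l _
  have h0 : Module.Flat A (X 0 ⧸ LinearMap.range (d 0)) := by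
    have hsub : Subsingleton (K.X (-((0 : ℕ) : ℤ) + 1)) :=
      subsingleton_koszulCx_X (ModuleCat.of R R) l _ (Or.inr (by norm_num))
    have hd : K.d (-((0 : ℕ) : ℤ)) (-((0 : ℕ) : ℤ) + 1) = 0 :=
      (ModuleCat.isZero_of_subsingleton _).eq_of_tgt _ _
    obtain ⟨e₁⟩ := nonempty_coker_equiv_homology K (-((0 + 1 : ℕ) : ℤ)) (-((0 : ℕ) : ℤ))
      (-((0 : ℕ) : ℤ) + 1) (by norm_num) rfl hd
    obtain ⟨e₂⟩ := nonempty_homology_equiv_of_eq_zero R l (-((0 : ℕ) : ℤ)) (by norm_num)
    let qR : K.X (-((0 : ℕ) : ℤ)) →ₗ[R] (R ⧸ Ideal.ofList l) :=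
      (e₁ ≪≫ₗ e₂).toLinearMap ∘ₗ (LinearMap.range (K.d (-((0 + 1 : ℕ) : ℤ)) (-((0 : ℕ) : ℤ))).hom).mkQ
    have hqR : Function.Surjective qR :=
      (e₁ ≪≫ₗ e₂).surjective.comp (Submodule.mkQ_surjective _)
    have hkR : ∀ x, qR x = 0 ↔
        x ∈ LinearMap.range (K.d (-((0 + 1 : ℕ) : ℤ)) (-((0 : ℕ) : ℤ))).hom := by
      intro x
      show (e₁ ≪≫ₗ e₂) (Submodule.mkQ _ x) = 0 ↔ _
      rw [LinearEquiv.map_eq_zero_iff, Submodule.mkQ_apply, Submodule.Quotient.mk_eq_zero]
    let q : X 0 →ₗ[A] (R ⧸ Ideal.ofList l) :=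
      { toFun := fun x => qR x
        map_add' := fun x y => map_add qR x y
        map_smul' := fun a x => by
          show qR (algebraMap A R a • (show K.X (-((0 : ℕ) : ℤ)) from x)) = a • qR x
          rw [map_smul, algebraMap_smul] }
    have hq : Function.Surjective q := hqR
    have hk : LinearMap.ker q = LinearMap.range (d 0) := by
      ext x
      rw [LinearMap.mem_ker]
      exact hkR x
    exact Module.Flat.of_linearEquiv
      ((Submodule.quotEquivOfEq _ _ hk.symm).trans (LinearMap.quotKerEquivOfSurjective q hq))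
  have key := exact_rTensor X d hex hfl h0 A'
  -- conclude
  rw [isKoszulRegularSeq_iff]
  intro j hj
  rcases lt_or_gt_of_ne hj with hneg | hpos
  · obtain ⟨n, rfl⟩ : ∃ n : ℕ, j = -((n + 1 : ℕ) : ℤ) := ⟨(-j - 1).toNat, by omega⟩
    have h1 := isZero_homology_Ec_of_exact A R A' K (-((n + 1 + 1 : ℕ) : ℤ))
      (-((n + 1 : ℕ) : ℤ)) (-(n : ℤ)) (by push_cast; ring) (by push_cast; ring) (key n)
    obtain ⟨e⟩ := nonempty_map_koszulCx_iso (Ef (R := R) (R ⊗[A] A')) (ModuleCat.of R R)
      (ModuleCat.of (R ⊗[A] A') (R ⊗[A] A')) (EfUnitIso R (R ⊗[A] A')) l _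
      (forall₂_compat_Ef R (R ⊗[A] A') l)
    exact h1.of_iso ((HomologicalComplex.homologyFunctor _ _ _).mapIso e.symm)
  · exact isZero_homology_of_pos _ _ j hpos

end Core

end Groth.Agent.Helper3.KosBC
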