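import Mathlib
import Groth.Prelude.Def_LCI2
import Groth.Agent.Lib.Helper3.KosBC1
import Groth.Agent.Lib.Helper3.KosBC3
import Groth.Agent.Lib.Helper3.KosBC5
import Groth.Agent.Lib.Helper8.GorFlat9

/-!
# Base change of flat local complete intersections
-/

set_option autoImplicit false
universe u
open CategoryTheory TensorProduct

attribute [local instance] MvPolynomial.algebraMvPolynomial

namespace Groth.Agent.Helper3.KosBC

section RingEquiv

theorem isKoszulRegularSeq_of_ringEquiv {S S' : Type u} [CommRing S] [CommRing S']
    (e : S ≃+* S') (l : List S) (h : LCI.IsKoszulRegularSeq S l) :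
    LCI.IsKoszulRegularSeq S' (l.map e) := by
  letI : Algebra S S' := e.toRingHom.toAlgebra
  haveI : Module.Flat S S' := by
    let le : S ≃ₗ[S] S' :=
      { e.toAddEquiv with
        map_smul' := fun r x => by
          show e (r * x) = e r * e x
          exact map_mul e r x }
    exact Module.Flat.of_linearEquiv le.symm
  exact isKoszulRegularSeq_map_of_flat S S' l h

end RingEquiv

section Away

variable (A A' : Type u) [CommRing A] [CommRing A'] [Algebra A A'] (n : ℕ)
  (g : MvPolynomial (Fin n) A)

/-- base change of a Koszul-regular sequence in a principal localization of a polynomial ring,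
with flat quotient -/
theorem koszulRegular_away_baseChange (l : List (Localization.Away g))
    (hl : LCI.IsKoszulRegularSeq (Localization.Away g) l)
    (hflat : Module.Flat A (Localization.Away g ⧸ Ideal.ofList l)) :
    LCI.IsKoszulRegularSeq
      (Localization.Away (algebraMap (MvPolynomial (Fin n) A) (MvPolynomial (Fin n) A') g))
      (l.map (IsLocalization.Away.map (Localization.Away g)
        (Localization.Away (algebraMap (MvPolynomial (Fin n) A) (MvPolynomial (Fin n) A') g))
        (algebraMap (MvPolynomial (Fin n) A) (MvPolynomial (Fin n) A')) g)) := by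
  let P := MvPolynomial (Fin n) A
  let P'' := MvPolynomial (Fin n) A'
  let Rg := Localization.Away g
  let T := Localization.Away (algebraMap P P'' g)
  let ψ : Rg →+* T := IsLocalization.Away.map Rg T (algebraMap P P'') g
  haveI : Module.Flat P Rg := IsLocalization.flat Rg (Submonoid.powers g)
  haveI : Module.Flat A Rg := Module.Flat.trans A P Rg
  have h0 := isKoszulRegularSeq_baseChange A Rg A' l hl hflat
  letI : Algebra Rg T := ψ.toAlgebra
  haveI : IsScalarTower P Rg T :=
    IsScalarTower.of_algebraMap_eq (fun x => by
      show algebraMap P T x = ψ (algebraMap P Rg x)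
      show algebraMap P T x = IsLocalization.Away.map Rg T (algebraMap P P'') g
        (algebraMap P Rg x)
      rw [IsLocalization.Away.map, IsLocalization.map_eq]
      exact IsScalarTower.algebraMap_apply P P'' T x)
  haveI : IsScalarTower A Rg T :=
    IsScalarTower.of_algebraMap_eq (fun a => by
      rw [IsScalarTower.algebraMap_apply A P T, IsScalarTower.algebraMap_apply A P Rg,
        ← IsScalarTower.algebraMap_apply P Rg T])
  haveI : IsLocalization (Algebra.algebraMapSubmonoid P'' (Submonoid.powers g)) T := by
    rw [Algebra.algebraMapSubmonoid_powers]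
    infer_instance
  have hpo : Algebra.IsPushout P P'' Rg T :=
    Algebra.isPushout_of_isLocalization (Submonoid.powers g) Rg P'' T
  have hpo' : Algebra.IsPushout A Rg A' T := (Algebra.IsPushout.comp_iff A P A' P'').2 hpo.symm
  let σ := Algebra.IsPushout.equiv A Rg A' T
  have h1 := isKoszulRegularSeq_of_ringEquiv σ.toRingEquiv _ h0
  have h2 : (l.map (algebraMap Rg (Rg ⊗[A] A'))).map σ.toRingEquiv = l.map ψ := by
    rw [List.map_map]
    apply List.map_congr_left
    intro r _
    exact σ.commutes r
  rw [h2] at h1
  exact h1

end Away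

section Tower

variable (A : Type u) [CommRing A] (n : ℕ) (I : Ideal (MvPolynomial (Fin n) A))
  (g : MvPolynomial (Fin n) A)

lemma isScalarTower_quot : IsScalarTower A (MvPolynomial (Fin n) A ⧸ I)
    (Localization.Away g ⧸ I.map (algebraMap (MvPolynomial (Fin n) A) (Localization.Away g))) := by
  constructor
  intro a x y
  obtain ⟨p, rfl⟩ := Ideal.Quotient.mk_surjective x
  obtain ⟨r, rfl⟩ := Ideal.Quotient.mk_surjective y
  rw [Algebra.smul_def (Ideal.Quotient.mk I p), Algebra.smul_def (a • Ideal.Quotient.mk I p)]
  have h1 : a • Ideal.Quotient.mk I p = Ideal.Quotient.mk I (a • p) := rfl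
  rw [h1, Ideal.Quotient.algebraMap_quotient_map_quotient,
    Ideal.Quotient.algebraMap_quotient_map_quotient, ← map_mul, ← map_mul]
  have h2 : algebraMap (MvPolynomial (Fin n) A) (Localization.Away g) (a • p) =
      a • algebraMap (MvPolynomial (Fin n) A) (Localization.Away g) p :=
    map_smul (IsScalarTower.toAlgHom A (MvPolynomial (Fin n) A) (Localization.Away g)) a p
  rw [h2, smul_mul_assoc]
  rfl

end Tower

section Global

variable (A B A' : Type u) [CommRing A] [CommRing B] [CommRing A'] [Algebra A B] [Algebra A A']

/-- the base change of a flat local complete intersection is a local complete intersection -/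
theorem isLCI_baseChange [Module.Flat A B] (h : LCI.IsLCI A B) : LCI.IsLCI A' (A' ⊗[A] B) := by
  obtain ⟨hft, n, f, hf, hI⟩ := h
  haveI := hft
  let e := MvPolynomial.algebraTensorAlgEquiv (σ := Fin n) A A'
  let g' : A' ⊗[A] MvPolynomial (Fin n) A →ₐ[A'] A' ⊗[A] B :=
    Algebra.TensorProduct.map (AlgHom.id A' A') f
  have hg'surj : Function.Surjective g' := Algebra.FiniteType.baseChangeAux_surj A' hf
  have hker_eq : RingHom.ker g' = Ideal.map Algebra.TensorProduct.includeRight (RingHom.ker f) :=
    Algebra.TensorProduct.lTensor_ker f hf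
  let f'' : MvPolynomial (Fin n) A' →ₐ[A'] A' ⊗[A] B := AlgHom.comp g' e.symm.toAlgHom
  have hker : RingHom.ker f''.toRingHom =
      (RingHom.ker f.toRingHom).map
        (algebraMap (MvPolynomial (Fin n) A) (MvPolynomial (Fin n) A')) := by
    have h1 : RingHom.ker f''.toRingHom = (RingHom.ker g').comap e.toRingEquiv.symm := by
      ext x
      rfl
    rw [h1, Ideal.comap_symm, hker_eq]
    have h2 : Ideal.map e.toRingEquiv
        (Ideal.map (Algebra.TensorProduct.includeRight :
          MvPolynomial (Fin n) A →ₐ[A] A' ⊗[A] MvPolynomial (Fin n) A) (RingHom.ker f)) =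
        (RingHom.ker f).map (algebraMap (MvPolynomial (Fin n) A) (MvPolynomial (Fin n) A')) := by
      show Ideal.map (e.toRingEquiv : A' ⊗[A] MvPolynomial (Fin n) A →+* MvPolynomial (Fin n) A')
        (Ideal.map ((Algebra.TensorProduct.includeRight :
          MvPolynomial (Fin n) A →ₐ[A] A' ⊗[A] MvPolynomial (Fin n) A).toRingHom)
          (RingHom.ker f)) = _
      rw [Ideal.map_map]
      congr 1
      ext x
      · simp [e, MvPolynomial.algebraTensorAlgEquiv_tmul]
      · simp [e, MvPolynomial.algebraTensorAlgEquiv_tmul]
    exact h2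
  refine ⟨inferInstance, n, f'', ?_, ?_⟩
  · exact hg'surj.comp e.symm.surjective
  · intro 𝔮 hle
    rw [hker] at hle
    let q : PrimeSpectrum (MvPolynomial (Fin n) A) :=
      ⟨𝔮.asIdeal.comap (algebraMap (MvPolynomial (Fin n) A) (MvPolynomial (Fin n) A')),
        inferInstance⟩
    have hIq : RingHom.ker f.toRingHom ≤ q.asIdeal := Ideal.map_le_iff_le_comap.1 hle
    obtain ⟨g, hg, l, hl, hspan⟩ := hI q hIq
    refine ⟨algebraMap (MvPolynomial (Fin n) A) (MvPolynomial (Fin n) A') g, hg,
      l.map (IsLocalization.Away.map (Localization.Away g)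
        (Localization.Away (algebraMap (MvPolynomial (Fin n) A) (MvPolynomial (Fin n) A') g))
        (algebraMap (MvPolynomial (Fin n) A) (MvPolynomial (Fin n) A')) g), ?_, ?_⟩
    · refine koszulRegular_away_baseChange A A' n g l hl ?_
      -- flatness of the quotient
      have hof : Ideal.ofList l = (RingHom.ker f.toRingHom).map
          (algebraMap (MvPolynomial (Fin n) A) (Localization.Away g)) := hspan.symm
      rw [hof]
      haveI : Module.Flat A (MvPolynomial (Fin n) A ⧸ RingHom.ker f.toRingHom) :=
        Module.Flat.of_linearEquiv (Ideal.quotientKerAlgEquivOfSurjective hf).toLinearEquiv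
      haveI : Module.Flat (MvPolynomial (Fin n) A ⧸ RingHom.ker f.toRingHom)
          (Localization.Away g ⧸ (RingHom.ker f.toRingHom).map
            (algebraMap (MvPolynomial (Fin n) A) (Localization.Away g))) :=
        IsLocalization.flat _ (Algebra.algebraMapSubmonoid
          (MvPolynomial (Fin n) A ⧸ RingHom.ker f.toRingHom) (Submonoid.powers g))
      haveI : IsScalarTower A (MvPolynomial (Fin n) A ⧸ RingHom.ker f.toRingHom)
          (Localization.Away g ⧸ (RingHom.ker f.toRingHom).map
            (algebraMap (MvPolynomial (Fin n) A) (Localization.Away g))) :=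
        isScalarTower_quot A n (RingHom.ker f.toRingHom) g
      exact Module.Flat.trans A (MvPolynomial (Fin n) A ⧸ RingHom.ker f.toRingHom) _
    · have hcomp : (algebraMap (MvPolynomial (Fin n) A')
          (Localization.Away (algebraMap (MvPolynomial (Fin n) A) (MvPolynomial (Fin n) A') g))).comp
          (algebraMap (MvPolynomial (Fin n) A) (MvPolynomial (Fin n) A')) =
          (IsLocalization.Away.map (Localization.Away g)
            (Localization.Away (algebraMap (MvPolynomial (Fin n) A) (MvPolynomial (Fin n) A') g))
            (algebraMap (MvPolynomial (Fin n) A) (MvPolynomial (Fin n) A')) g).comp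
          (algebraMap (MvPolynomial (Fin n) A) (Localization.Away g)) := by
        unfold IsLocalization.Away.map
        exact (IsLocalization.map_comp _).symm
      rw [hker, Ideal.map_map, hcomp, ← Ideal.map_map, hspan]
      exact (ofList_map _ l).symm

end Global

theorem main_S1830 (A B : Type u) [CommRing A] [CommRing B] [Algebra A B] [Module.Flat A B]
    (hl : LCI.IsLCI A B) (p : PrimeSpectrum A) :
    LocCoh.IsGorensteinRing (B ⊗[A] p.asIdeal.ResidueField) := by
  have h1 := isLCI_baseChange A B p.asIdeal.ResidueField hl
  have hk := Groth.Agent.Helper8.GorFlat.isGorensteinRing_of_field p.asIdeal.ResidueField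
  have h2 := main_S1827 p.asIdeal.ResidueField (p.asIdeal.ResidueField ⊗[A] B) hk h1
  exact Groth.Agent.Helper8.GorFlat.isGorensteinRing_of_ringEquiv
    (Algebra.TensorProduct.comm A p.asIdeal.ResidueField B).toRingEquiv h2

end Groth.Agent.Helper3.KosBC
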