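import Mathlib
import Groth.Agent.Lib.Helper5.Stalk.FlatPull
import Groth.Agent.Lib.Helper1.QcAbel

/-! Separating families of homomorphisms of modules under flat pullback: the finite case
(helper3): S5909. -/

set_option autoImplicit false
set_option backward.isDefEq.respectTransparency.types false
set_option synthInstance.maxHeartbeats 400000
set_option linter.style.haveILetI false
universe u

open AlgebraicGeometry CategoryTheory CategoryTheory.Limits TopologicalSpace

namespace Groth.Agent.Helper3.SepFam

open Groth.Agent.Lib.Helper5.StalkAdj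

/-- a monomorphism of modules is injective on sections -/
theorem app_injective_of_mono {X : Scheme.{u}} {M N : X.Modules} (φ : M ⟶ N) [Mono φ]
    (U : X.Opens) : Function.Injective (φ.app U) := by
  let S : ShortComplex X.Modules := ShortComplex.mk φ (0 : N ⟶ N) comp_zero
  haveI : Mono S.f := inferInstanceAs (Mono φ)
  exact Groth.Agent.Helper1.QcAbel.app_injective' (S := S) U

/-- a morphism of modules injective on all sections is a monomorphism -/
theorem mono_of_app_injective {X : Scheme.{u}} {M N : X.Modules} (φ : M ⟶ N)
    (h : ∀ U : X.Opens, Function.Injective (φ.app U)) : Mono φ := by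
  refine ⟨fun {T} a b hab => ?_⟩
  apply Scheme.Modules.hom_ext
  intro U
  ext s
  apply h U
  have := congrArg (fun ψ => ψ.app U s) hab
  exact this

/-- evaluation of a morphism at a section, as an additive map in the morphism -/
noncomputable def evHom {X : Scheme.{u}} {M N : X.Modules} (V : X.Opens) (x : Γ(M, V)) :
    (M ⟶ N) →+ Γ(N, V) where
  toFun φ := φ.app V x
  map_zero' := rfl
  map_add' _ _ := rfl

theorem sum_app_apply {X : Scheme.{u}} {M N : X.Modules} {ι : Type*} (s : Finset ι)
    (φ : ι → (M ⟶ N)) (V : X.Opens) (x : Γ(M, V)) :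
    (∑ i ∈ s, φ i).app V x = ∑ i ∈ s, (φ i).app V x :=
  map_sum (evHom (N := N) V x) φ s

theorem S5909_main {X X' : Scheme.{u}} (F : X.Modules) {ι : Type u} [Finite ι]
    (G : ι → X.Modules) (u : ∀ i, F ⟶ G i) (g : X' ⟶ X) [Flat g]
    (h : ∀ (V : X.Opens) (t : ↑(F.presheaf.obj (Opposite.op V))),
      (∀ i, (Scheme.Modules.Hom.mapPresheaf (u i)).app (Opposite.op V) t = 0) → t = 0) :
    ∀ (V : X'.Opens) (t : ↑(((Scheme.Modules.pullback g).obj F).presheaf.obj (Opposite.op V))),
      (∀ i, (Scheme.Modules.Hom.mapPresheaf ((Scheme.Modules.pullback g).map (u i))).app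
        (Opposite.op V) t = 0) → t = 0 := by
  classical
  haveI : Fintype ι := Fintype.ofFinite ι
  haveI : HasFiniteBiproducts X.Modules := Abelian.hasFiniteBiproducts
  haveI : HasFiniteBiproducts X'.Modules := Abelian.hasFiniteBiproducts
  let U : F ⟶ ⨁ G := biproduct.lift u
  have hU : ∀ i, U ≫ biproduct.π G i = u i := fun i => biproduct.lift_π _ _
  haveI hmono : Mono U := by
    apply mono_of_app_injective
    intro V
    rw [injective_iff_map_eq_zero]
    intro t ht
    apply h V t
    intro i
    have h1 : (u i).app V t = (biproduct.π G i).app V (U.app V t) := by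
      rw [← hU i]
      rfl
    show (u i).app V t = 0
    rw [h1, ht, map_zero]
  haveI : Mono ((Scheme.Modules.pullback g).map U) := inferInstance
  intro V t ht
  apply app_injective_of_mono ((Scheme.Modules.pullback g).map U) V
  rw [map_zero]
  have htot : ∑ i, (Scheme.Modules.pullback g).map (biproduct.π G i) ≫
      (Scheme.Modules.pullback g).map (biproduct.ι G i) =
        𝟙 ((Scheme.Modules.pullback g).obj (⨁ G)) := by
    simp_rw [← Functor.map_comp]
    rw [← Functor.map_sum]
    have htt : ∑ i, biproduct.π G i ≫ biproduct.ι G i = 𝟙 (⨁ G) :=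
      IsBilimit.total (biproduct.isBilimit G)
    rw [htt, CategoryTheory.Functor.map_id]
  have hpi : ∀ i, ((Scheme.Modules.pullback g).map (biproduct.π G i)).app V
      (((Scheme.Modules.pullback g).map U).app V t) = 0 := by
    intro i
    have h1 : ((Scheme.Modules.pullback g).map (u i)).app V t =
        ((Scheme.Modules.pullback g).map (biproduct.π G i)).app V
          (((Scheme.Modules.pullback g).map U).app V t) := by
      rw [← hU i, Functor.map_comp]
      rfl
    rw [← h1]
    exact ht i
  have h2 : ((Scheme.Modules.pullback g).map U).app V t =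
      (𝟙 ((Scheme.Modules.pullback g).obj (⨁ G)) :
        (Scheme.Modules.pullback g).obj (⨁ G) ⟶ _).app V
      (((Scheme.Modules.pullback g).map U).app V t) := rfl
  rw [h2, ← htot, sum_app_apply]
  apply Finset.sum_eq_zero
  intro i _
  show ((Scheme.Modules.pullback g).map (biproduct.ι G i)).app V
    (((Scheme.Modules.pullback g).map (biproduct.π G i)).app V
      (((Scheme.Modules.pullback g).map U).app V t)) = 0
  rw [hpi i, map_zero]

end Groth.Agent.Helper3.SepFam
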