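import Mathlib
import Groth.Prelude
import Groth.Agent.Lib.Helper4.FibreStalkDim1
import Groth.Agent.Lib.Helper8.GorFlat10

/-!
# The local ring of a fibre: `𝒪_{X_y, x} = 𝒪_{X,x} / 𝔪_y 𝒪_{X,x}` and Gorenstein morphisms (helper3)
-/

set_option autoImplicit false
set_option linter.unusedSectionVars false
set_option linter.style.haveILetI false
universe u

open CategoryTheory CategoryTheory.Limits AlgebraicGeometry IsLocalRing

namespace Groth.Agent.Helper3.FibStalk

open Groth.Agent.Helper8.GorFlat LocCoh

variable {X Y : Scheme.{u}}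

/-- in the stalk of the spectrum of a field, the maximal ideal is zero -/
theorem stalk_field_eq_zero {κ : Type u} [CommRing κ] (hK : IsField κ)
    (s : Spec (CommRingCat.of κ))
    (t : (Spec (CommRingCat.of κ)).presheaf.stalk s) (ht : t ∈ maximalIdeal _) : t = 0 := by
  letI alg0 : Algebra κ ((Spec (CommRingCat.of κ)).presheaf.stalk s) :=
    StructureSheaf.stalkAlgebra (R := κ) s
  haveI loc0 : IsLocalization.AtPrime ((Spec (CommRingCat.of κ)).presheaf.stalk s) s.asIdeal :=
    StructureSheaf.IsLocalization.to_stalk κ s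
  obtain ⟨a, m, rfl⟩ := IsLocalization.exists_mk'_eq s.asIdeal.primeCompl t
  by_cases ha : a = 0
  · rw [ha, IsLocalization.mk'_zero]
  · exfalso
    have hu : IsUnit a := by
      obtain ⟨b, hb⟩ := hK.mul_inv_cancel ha
      exact isUnit_iff_exists_inv.mpr ⟨b, hb⟩
    have : IsUnit (IsLocalization.mk' ((Spec (CommRingCat.of κ)).presheaf.stalk s) a m) := by
      have h1 := IsLocalization.mk'_spec ((Spec (CommRingCat.of κ)).presheaf.stalk s) a m
      have h2 : IsUnit (algebraMap κ ((Spec (CommRingCat.of κ)).presheaf.stalk s) a) := hu.map _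
      rw [← h1] at h2
      exact isUnit_of_mul_isUnit_left h2
    exact ht this

/-- the stalk map of a morphism factoring through the spectrum of a field kills the maximal
ideal -/
theorem stalkMap_eq_zero_of_factors_field {Z Y : Scheme.{u}} {κ : Type u} [CommRing κ]
    (hK : IsField κ) (g : Z ⟶ Y)
    (a : Z ⟶ Spec (CommRingCat.of κ)) (b : Spec (CommRingCat.of κ) ⟶ Y) (hg : g = a ≫ b)
    (z : Z) (t : Y.presheaf.stalk (g z)) (ht : t ∈ maximalIdeal _) : (g.stalkMap z).hom t = 0 := by
  subst hg
  rw [Scheme.Hom.stalkMap_comp]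
  change (a.stalkMap z).hom ((b.stalkMap (a z)).hom t) = 0
  have h1 : (b.stalkMap (a z)).hom t ∈ maximalIdeal _ := by
    have : IsLocalHom (b.stalkMap (a z)).hom := inferInstance
    exact ((IsLocalRing.local_hom_TFAE (b.stalkMap (a z)).hom).out 0 2 rfl rfl).mp this
      (Ideal.mem_map_of_mem _ ht)
  rw [stalk_field_eq_zero hK _ _ h1, map_zero]

/-- the kernel of the (surjective) stalk map of the inclusion of a fibre is `𝔪_y 𝒪_{X,x}` -/
theorem ker_stalkMap_fiberι (f : X ⟶ Y) (y : Y) (x' : f.fiber y) :
    RingHom.ker ((f.fiberι y).stalkMap x').hom =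
      (maximalIdeal (Y.presheaf.stalk (f (f.fiberι y x')))).map
        (f.stalkMap (f.fiberι y x')).hom := by
  refine le_antisymm (Groth.Agent.Lib.Helper4.FibreStalkDim1.ker_stalkMap_fiberι_le f y x') ?_
  rw [Ideal.map_le_iff_le_comap]
  intro t ht
  rw [Ideal.mem_comap, RingHom.mem_ker]
  have e := stalkMap_eq_zero_of_factors_field (Field.toIsField (Y.residueField y))
    (f.fiberι y ≫ f) (f.fiberToSpecResidueField y) (Y.fromSpecResidueField y)
    (f.fiber_fac y) x' t ht
  rw [Scheme.Hom.stalkMap_comp] at e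
  exact e

/-- the fibre presentation attached to a point of a fibre at which `f` is flat -/
theorem flData_fiberι (f : X ⟶ Y) (y : Y) (x' : f.fiber y)
    (hfl : (f.stalkMap (f.fiberι y x')).hom.Flat) :
    FLData (f.stalkMap (f.fiberι y x')).hom ((f.fiberι y).stalkMap x').hom where
  flat := hfl
  isLocalHom := inferInstance
  surj := (f.fiberι y).stalkMap_surjective x'
  ker := ker_stalkMap_fiberι f y x'

end Groth.Agent.Helper3.FibStalk
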