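import Mathlib.RingTheory.Flat.FaithfullyFlat.Basic
import Mathlib.RingTheory.Flat.FaithfullyFlat.Algebra
import Mathlib.RingTheory.RingHom.Flat
import Mathlib.RingTheory.RingHom.FaithfullyFlat

/-! Flatness descends through a faithfully flat second map:
if `A → B → C` with `C` faithfully flat over `B` and flat over `A`, then `B` is flat over `A`. -/

namespace Groth.Agent.Helper3

open TensorProduct

theorem flat_of_faithfullyFlat_of_flat_comp (A B C : Type*) [CommRing A] [CommRing B] [CommRing C]
    [Algebra A B] [Algebra B C] [Algebra A C] [IsScalarTower A B C]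
    [Module.FaithfullyFlat B C] [Module.Flat A C] : Module.Flat A B := by
  rw [Module.Flat.iff_lTensor_preserves_injective_linearMap]
  intro N P _ _ _ _ f hf
  have h1 : Function.Injective (LinearMap.lTensor C f) :=
    Module.Flat.lTensor_preserves_injective_linearMap f hf
  -- the `B`-linear version of `lTensor B f`
  let g : B ⊗[A] N →ₗ[B] B ⊗[A] P := f.baseChange B
  have hg : (g : B ⊗[A] N → B ⊗[A] P) = LinearMap.lTensor B f := by
    ext x
    simp [g, LinearMap.baseChange_eq_ltensor]
  rw [← hg]
  rw [← Module.FaithfullyFlat.lTensor_injective_iff_injective B C]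
  have key : LinearMap.lTensor C g =
      ((AlgebraTensorModule.cancelBaseChange A B B C P).symm.toLinearMap.restrictScalars B) ∘ₗ
        (AlgebraTensorModule.lTensor B C f) ∘ₗ
        ((AlgebraTensorModule.cancelBaseChange A B B C N).toLinearMap.restrictScalars B) := by
    ext c n
    simp [g]
  rw [key]
  simp only [LinearMap.coe_comp, LinearMap.coe_restrictScalars, LinearEquiv.coe_coe,
    EquivLike.injective_comp, EquivLike.comp_injective]
  have : (AlgebraTensorModule.lTensor B C f : C ⊗[A] N → C ⊗[A] P) = LinearMap.lTensor C f := by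
    ext x; rfl
  rw [this]
  exact h1

/-- Ring hom version. -/
theorem ringHom_flat_of_comp_of_faithfullyFlat {A B C : Type*} [CommRing A] [CommRing B]
    [CommRing C] (f : A →+* B) (g : B →+* C) (hg : g.FaithfullyFlat) (h : (g.comp f).Flat) :
    f.Flat := by
  algebraize [f, g, g.comp f]
  exact flat_of_faithfullyFlat_of_flat_comp A B C

end Groth.Agent.Helper3
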