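import Mathlib
import Groth.Prelude
import Groth.Agent.Lib.Helper3.FibStalk
import Groth.Agent.Lib.Helper3.FlatDescent

/-!
# Gorenstein morphisms: composition, flat morphisms out of Gorenstein schemes (helper3)
-/

set_option autoImplicit false
set_option linter.unusedSectionVars false
set_option linter.style.haveILetI false
universe u

open CategoryTheory CategoryTheory.Limits AlgebraicGeometry IsLocalRing

namespace Groth.Agent.Helper3.FibStalk

open Groth.Agent.Helper8.GorFlat LocCoh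

section Alg

variable {A B C Fg Fgf Ff : Type u} [CommRing A] [CommRing B] [CommRing C] [CommRing Fg]
  [CommRing Fgf] [CommRing Ff] [IsLocalRing A] [IsLocalRing B] [IsLocalRing C] [IsLocalRing Fg]
  [IsLocalRing Fgf] [IsLocalRing Ff]

/-- the maximal ideal of a local quotient -/
theorem map_maximalIdeal_of_surjective {R S : Type u} [CommRing R] [CommRing S] [IsLocalRing R]
    [IsLocalRing S] (γ : R →+* S) (hγ : Function.Surjective γ) :
    (maximalIdeal R).map γ = maximalIdeal S := by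
  haveI : IsLocalHom γ := IsLocalHom.of_surjective γ hγ
  apply le_antisymm
  · exact ((IsLocalRing.local_hom_TFAE γ).out 0 2 rfl rfl).mp inferInstance
  · intro s hs
    obtain ⟨r, rfl⟩ := hγ s
    refine Ideal.mem_map_of_mem _ ?_
    rw [mem_maximalIdeal, mem_nonunits_iff] at hs ⊢
    exact fun h => hs (h.map γ)

/-- **Fibres of a composite.** For local homomorphisms `A → B → C` with `B → C` flat, the fibre ring
`C/𝔪_A C` is a flat local extension of `B/𝔪_A B` with closed fibre `C/𝔪_B C`. -/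
theorem exists_flData_comp (φ : A →+* B) (ψ : B →+* C) [IsLocalHom φ] [IsLocalHom ψ] (hψ : ψ.Flat)
    (γg : B →+* Fg) (hg : Function.Surjective γg) (hkg : RingHom.ker γg = (maximalIdeal A).map φ)
    (γgf : C →+* Fgf) (hgf : Function.Surjective γgf)
    (hkgf : RingHom.ker γgf = (maximalIdeal A).map (ψ.comp φ))
    (γf : C →+* Ff) (hf : Function.Surjective γf)
    (hkf : RingHom.ker γf = (maximalIdeal B).map ψ) :
    ∃ (α : Fg →+* Fgf) (β : Fgf →+* Ff), FLData α β := by
  have hkgf' : RingHom.ker γgf = (RingHom.ker γg).map ψ := by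
    rw [hkgf, hkg, Ideal.map_map]
  have h1 : RingHom.ker γg ≤ RingHom.ker (γgf.comp ψ) := by
    intro b hb
    rw [RingHom.mem_ker, RingHom.comp_apply, ← RingHom.mem_ker, hkgf']
    exact Ideal.mem_map_of_mem _ hb
  have hφ : (maximalIdeal A).map φ ≤ maximalIdeal B :=
    ((IsLocalRing.local_hom_TFAE φ).out 0 2 rfl rfl).mp inferInstance
  have h2 : RingHom.ker γgf ≤ RingHom.ker γf := by
    rw [hkgf', hkf, hkg]
    exact Ideal.map_mono hφ
  let α : Fg →+* Fgf := RingHom.liftOfSurjective γg hg ⟨γgf.comp ψ, h1⟩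
  let β : Fgf →+* Ff := RingHom.liftOfSurjective γgf hgf ⟨γf, h2⟩
  have hα : ∀ b, α (γg b) = γgf (ψ b) := fun b =>
    RingHom.liftOfRightInverse_comp_apply _ _ _ _ b
  have hβ : ∀ c, β (γgf c) = γf c := fun c =>
    RingHom.liftOfRightInverse_comp_apply _ _ _ _ c
  refine ⟨α, β, ?_, ?_, ?_, ?_⟩
  · -- flatness
    letI : Algebra B C := ψ.toAlgebra
    haveI : Module.Flat B C := hψ
    set I : Ideal B := RingHom.ker γg with hI
    have hfl : Module.Flat (B ⧸ I) (C ⧸ I.map (algebraMap B C)) :=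
      Module.Flat.of_linearEquiv
        (Algebra.TensorProduct.quotIdealMapEquivQuotTensor C I).toLinearEquiv
    have hfl' : (algebraMap (B ⧸ I) (C ⧸ I.map (algebraMap B C))).Flat :=
      RingHom.flat_algebraMap_iff.mpr hfl
    let e1 : (B ⧸ I) ≃+* Fg := RingHom.quotientKerEquivOfSurjective hg
    let e2 : (C ⧸ I.map (algebraMap B C)) ≃+* Fgf :=
      (Ideal.quotEquivOfEq (show I.map (algebraMap B C) = RingHom.ker γgf from hkgf'.symm)).trans
        (RingHom.quotientKerEquivOfSurjective hgf)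
    have hcomp : α = (e2.toRingHom.comp (algebraMap (B ⧸ I) (C ⧸ I.map (algebraMap B C)))).comp
        e1.symm.toRingHom := by
      apply RingHom.ext
      intro a
      obtain ⟨b, rfl⟩ := hg a
      have hb : e1.symm (γg b) = Ideal.Quotient.mk I b := by
        rw [RingEquiv.symm_apply_eq]
        rfl
      simp only [RingHom.comp_apply, RingEquiv.toRingHom_eq_coe, RingEquiv.coe_toRingHom]
      rw [hα, hb]
      rfl
    rw [hcomp]
    exact RingHom.Flat.comp (RingHom.Flat.of_bijective e1.symm.bijective)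
      (RingHom.Flat.comp hfl' (RingHom.Flat.of_bijective e2.bijective))
  · -- local
    haveI : IsLocalHom γgf := IsLocalHom.of_surjective γgf hgf
    constructor
    intro a ha
    obtain ⟨b, rfl⟩ := hg a
    rw [hα] at ha
    have h3 : IsUnit (ψ b) := isUnit_of_map_unit γgf _ ha
    exact (isUnit_of_map_unit ψ b h3).map γg
  · intro t
    obtain ⟨c, rfl⟩ := hf t
    exact ⟨γgf c, hβ c⟩
  · rw [← map_maximalIdeal_of_surjective γg hg, Ideal.map_map]
    have h4 : α.comp γg = γgf.comp ψ := RingHom.ext fun b => hα b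
    rw [h4, ← Ideal.map_map, ← hkf]
    apply le_antisymm
    · intro t ht
      obtain ⟨c, rfl⟩ := hgf t
      rw [RingHom.mem_ker, hβ] at ht
      exact Ideal.mem_map_of_mem _ ht
    · rw [Ideal.map_le_iff_le_comap]
      intro c hc
      rw [Ideal.mem_comap, RingHom.mem_ker, hβ]
      exact hc

/-- Gorenstein property of the fibre of a composite. -/
theorem gor_comp_iff (φ : A →+* B) (ψ : B →+* C) [IsLocalHom φ] [IsLocalHom ψ] (hψ : ψ.Flat)
    [IsNoetherianRing Fg] [IsNoetherianRing Fgf]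
    (γg : B →+* Fg) (hg : Function.Surjective γg) (hkg : RingHom.ker γg = (maximalIdeal A).map φ)
    (γgf : C →+* Fgf) (hgf : Function.Surjective γgf)
    (hkgf : RingHom.ker γgf = (maximalIdeal A).map (ψ.comp φ))
    (γf : C →+* Ff) (hf : Function.Surjective γf)
    (hkf : RingHom.ker γf = (maximalIdeal B).map ψ) :
    IsGorensteinLocalRing Fgf ↔ IsGorensteinLocalRing Fg ∧ IsGorensteinLocalRing Ff := by
  obtain ⟨α, β, D⟩ := exists_flData_comp φ ψ hψ γg hg hkg γgf hgf hkgf γf hf hkf
  exact iff_of_flData D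

end Alg


section Sch

variable {X Y : Scheme.{u}}

theorem exists_fibre_presentation_aux (f : X ⟶ Y) (y : Y) (x' : f.fiber y) (x : X)
    (hx : f.fiberι y x' = x) :
    ∃ γ : X.presheaf.stalk x →+* (f.fiber y).presheaf.stalk x', Function.Surjective γ ∧
      RingHom.ker γ = (maximalIdeal (Y.presheaf.stalk (f x))).map (f.stalkMap x).hom := by
  subst hx
  exact ⟨_, (f.fiberι y).stalkMap_surjective x', ker_stalkMap_fiberι f y x'⟩

/-- `𝒪_{X_{f x}, x}` is the quotient of `𝒪_{X,x}` by `𝔪_{f x} 𝒪_{X,x}`. -/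
theorem exists_fibre_presentation (f : X ⟶ Y) (x : X) :
    ∃ γ : X.presheaf.stalk x →+* (f.fiber (f x)).presheaf.stalk (f.asFiber x),
      Function.Surjective γ ∧
      RingHom.ker γ = (maximalIdeal (Y.presheaf.stalk (f x))).map (f.stalkMap x).hom :=
  exists_fibre_presentation_aux f (f x) (f.asFiber x) x (f.fiberι_asFiber x)

/-- At a point where `f` is flat (Noetherian local rings): `𝒪_{X,x}` is Gorenstein iff `𝒪_{Y,f x}` and
the local ring of the fibre are. -/
theorem gor_stalk_iff (f : X ⟶ Y) (x : X) (hfl : (f.stalkMap x).hom.Flat)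
    [IsNoetherianRing (X.presheaf.stalk x)] [IsNoetherianRing (Y.presheaf.stalk (f x))] :
    IsGorensteinLocalRing (X.presheaf.stalk x) ↔ IsGorensteinLocalRing (Y.presheaf.stalk (f x)) ∧
      IsGorensteinLocalRing ((f.fiber (f x)).presheaf.stalk (f.asFiber x)) := by
  obtain ⟨γ, hγ, hk⟩ := exists_fibre_presentation f x
  exact iff_of_flData ⟨hfl, inferInstance, hγ, hk⟩

theorem main_S3624 (X Y : Scheme.{u}) [IsLocallyNoetherian Y] (f : X ⟶ Y) [Flat f]
    (hX : Dual3.IsGorenstein X) :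
    Dual3.IsGorensteinMor f ∧
      ∀ x : X, LocCoh.IsGorensteinLocalRing (Y.presheaf.stalk (f x)) := by
  haveI := hX.1
  have key : ∀ x : X, IsGorensteinLocalRing (Y.presheaf.stalk (f x)) ∧
      IsGorensteinLocalRing ((f.fiber (f x)).presheaf.stalk (f.asFiber x)) := fun x =>
    (gor_stalk_iff f x (Flat.stalkMap f x)).mp (hX.2 x)
  exact ⟨fun x => ⟨Flat.stalkMap f x, (key x).2⟩, fun x => (key x).1⟩

theorem main_S3627 (X Y Z : Scheme.{u}) (f : X ⟶ Y) (g : Y ⟶ Z)
    (hfibf : ∀ y, IsLocallyNoetherian (f.fiber y)) (hfibg : ∀ y, IsLocallyNoetherian (g.fiber y))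
    (hfibfg : ∀ z, IsLocallyNoetherian ((f ≫ g).fiber z)) (x : X) :
    (Dual3.IsGorensteinAt f x → Dual3.IsGorensteinAt g (f x) → Dual3.IsGorensteinAt (f ≫ g) x) ∧
      (Dual3.IsGorensteinAt (f ≫ g) x → (f.stalkMap x).hom.Flat →
        Dual3.IsGorensteinAt f x ∧ Dual3.IsGorensteinAt g (f x)) := by
  haveI := hfibg (g (f x))
  haveI := hfibfg ((f ≫ g) x)
  obtain ⟨γf, hf, hkf⟩ := exists_fibre_presentation f x
  obtain ⟨γg, hg, hkg⟩ := exists_fibre_presentation g (f x)
  obtain ⟨γgf, hgf, hkgf⟩ := exists_fibre_presentation (f ≫ g) x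
  have hcomp : ((f ≫ g).stalkMap x).hom = (f.stalkMap x).hom.comp (g.stalkMap (f x)).hom := by
    rw [Scheme.Hom.stalkMap_comp]
    rfl
  rw [hcomp] at hkgf
  constructor
  · rintro ⟨hflf, hGf⟩ ⟨hflg, hGg⟩
    refine ⟨?_, ?_⟩
    · rw [hcomp]
      exact RingHom.Flat.comp hflg hflf
    · exact (gor_comp_iff (g.stalkMap (f x)).hom (f.stalkMap x).hom hflf γg hg hkg γgf hgf hkgf
        γf hf hkf).mpr ⟨hGg, hGf⟩
  · rintro ⟨hflgf, hGgf⟩ hflf
    have h := (gor_comp_iff (g.stalkMap (f x)).hom (f.stalkMap x).hom hflf γg hg hkg γgf hgf hkgf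
        γf hf hkf).mp hGgf
    refine ⟨⟨hflf, h.2⟩, ?_, h.1⟩
    rw [hcomp] at hflgf
    refine Groth.Agent.Helper3.ringHom_flat_of_comp_of_faithfullyFlat _ (f.stalkMap x).hom ?_ hflgf
    algebraize [(f.stalkMap x).hom]
    haveI : Module.Flat (Y.presheaf.stalk (f x)) (X.presheaf.stalk x) := hflf
    haveI : IsLocalHom (algebraMap (Y.presheaf.stalk (f x)) (X.presheaf.stalk x)) :=
      inferInstanceAs (IsLocalHom (f.stalkMap x).hom)
    exact Module.FaithfullyFlat.of_flat_of_isLocalHom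

end Sch

end Groth.Agent.Helper3.FibStalk
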