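import Mathlib
import Groth.Prelude
import Groth.Agent.Lib.Helper3.FibStalk2
import Groth.Agent.Lib.Helper8.FlatReg13

/-!
# Depth and dimension of local rings along a flat morphism, via the fibres (helper3)
-/

set_option autoImplicit false
set_option linter.unusedSectionVars false
set_option linter.style.haveILetI false
universe u

open CategoryTheory CategoryTheory.Limits AlgebraicGeometry IsLocalRing

namespace Groth.Agent.Helper3.FibDepth

open Groth.Agent.Helper8.GorFlat Groth.Agent.Helper8.FlatReg Groth.Agent.Helper8.Serre LocCoh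
open Groth.Agent.Helper3.FibStalk

section Alg

variable {A B F : Type u} [CommRing A] [CommRing B] [CommRing F] [IsLocalRing A] [IsLocalRing B]
  [IsLocalRing F] [IsNoetherianRing A] [IsNoetherianRing B] {φ : A →+* B} {γ : B →+* F}

/-- depth formula with an abstract presentation of the closed fibre -/
theorem depth_eq_add_of_flData (D : FLData φ γ) : depth B B = depth A A + depth F F := by
  letI : Algebra A B := φ.toAlgebra
  haveI : Module.Flat A B := D.flat
  haveI : IsLocalHom (algebraMap A B) := D.isLocalHom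
  have hker : RingHom.ker γ = (maximalIdeal A).map (algebraMap A B) := D.ker
  let e : (B ⧸ (maximalIdeal A).map (algebraMap A B)) ≃+* F :=
    (Ideal.quotEquivOfEq hker.symm).trans (RingHom.quotientKerEquivOfSurjective D.surj)
  haveI : IsLocalRing (B ⧸ (maximalIdeal A).map (algebraMap A B)) :=
    isLocalRing_quot _ (map_maximalIdeal_le A B)
  rw [depth_eq_add_of_flat A B, depth_self_eq_of_ringEquiv e]

/-- dimension formula with an abstract presentation of the closed fibre -/
theorem ringKrullDim_eq_add_of_flData (D : FLData φ γ) :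
    ringKrullDim B = ringKrullDim A + ringKrullDim F := by
  letI : Algebra A B := φ.toAlgebra
  haveI : Module.Flat A B := D.flat
  haveI : IsLocalHom (algebraMap A B) := D.isLocalHom
  have hker : RingHom.ker γ = (maximalIdeal A).map (algebraMap A B) := D.ker
  let e : (B ⧸ (maximalIdeal A).map (algebraMap A B)) ≃+* F :=
    (Ideal.quotEquivOfEq hker.symm).trans (RingHom.quotientKerEquivOfSurjective D.surj)
  rw [ringKrullDim_eq_add_of_flat A B, ringKrullDim_eq_of_ringEquiv e]

end Alg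

section Sch

variable {X S : Scheme.{u}}

theorem depth_stalk_eq (f : X ⟶ S) (x : X) (hfl : (f.stalkMap x).hom.Flat)
    [IsNoetherianRing (X.presheaf.stalk x)] [IsNoetherianRing (S.presheaf.stalk (f x))] :
    depth (X.presheaf.stalk x) (X.presheaf.stalk x) =
      depth (S.presheaf.stalk (f x)) (S.presheaf.stalk (f x)) +
        depth (CInt.fiberStalk f x) (CInt.fiberStalk f x) := by
  obtain ⟨γ, hγ, hk⟩ := exists_fibre_presentation f x
  exact depth_eq_add_of_flData ⟨hfl, inferInstance, hγ, hk⟩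

theorem dim_stalk_eq (f : X ⟶ S) (x : X) (hfl : (f.stalkMap x).hom.Flat)
    [IsNoetherianRing (X.presheaf.stalk x)] [IsNoetherianRing (S.presheaf.stalk (f x))] :
    ringKrullDim (X.presheaf.stalk x) =
      ringKrullDim (S.presheaf.stalk (f x)) + ringKrullDim (CInt.fiberStalk f x) := by
  obtain ⟨γ, hγ, hk⟩ := exists_fibre_presentation f x
  exact ringKrullDim_eq_add_of_flData ⟨hfl, inferInstance, hγ, hk⟩

theorem main_S14104 [IsLocallyNoetherian X] [IsLocallyNoetherian S]
    (f : X ⟶ S) [Flat f] (Y : Set ↥X) (hY : IsClosed Y) (d : ℕ)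
    (h : ∀ y : ↥X, y ∈ Y → (d : ℕ∞) ≤ LocCoh.depth ↑(CInt.fiberStalk f y) ↑(CInt.fiberStalk f y)) :
    ∀ y : ↥X, y ∈ Y → (d : ℕ∞) ≤ LocCoh.depth ↑(X.presheaf.stalk y) ↑(X.presheaf.stalk y) := by
  intro y hy
  rw [depth_stalk_eq f y (Flat.stalkMap f y)]
  exact (h y hy).trans le_add_self


theorem depth_eq_dim_of_cm (R : Type u) [CommRing R] (h : IsCohenMacaulayLocalRing R) :
    ringKrullDim R = ((depth R R : ℕ∞) : WithBot ℕ∞) := by
  rw [← Module.supportDim_self_eq_ringKrullDim]
  exact h.supportDim_eq_depth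

theorem depth_le_dim' (R : Type u) [CommRing R] [IsLocalRing R] [IsNoetherianRing R] :
    ((depth R R : ℕ∞) : WithBot ℕ∞) ≤ ringKrullDim R := by
  have h := Groth.Agent.Helper8.Depth.depth_le_supportDim (A := R) (M := R)
  rwa [Module.supportDim_self_eq_ringKrullDim] at h

theorem main_S14107 [IsLocallyNoetherian X] [IsLocallyNoetherian S] (f : X ⟶ S) [Flat f]
    (hCM : ∀ x : ↥X, LocCoh.IsCohenMacaulayLocalRing ↑(CInt.fiberStalk f x))
    (Y : Set ↥X) (hY : IsClosed Y) (d : ℕ)
    (hcodim : ∀ y : ↥X, y ∈ Y → (d : WithBot ℕ∞) ≤ ringKrullDim ↑(CInt.fiberStalk f y)) :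
    ∀ y : ↥X, y ∈ Y → (d : ℕ∞) ≤ LocCoh.depth ↑(X.presheaf.stalk y) ↑(X.presheaf.stalk y) := by
  refine main_S14104 f Y hY d ?_
  intro y hy
  have h1 := hcodim y hy
  rw [depth_eq_dim_of_cm _ (hCM y)] at h1
  exact_mod_cast h1

theorem main_S14108 [IsLocallyNoetherian X] [IsLocallyNoetherian S] (f : X ⟶ S) [Flat f]
    (hCM : ∀ x : ↥X, LocCoh.IsCohenMacaulayLocalRing ↑(CInt.fiberStalk f x))
    (Y : Set ↥X) (hY : IsClosed Y)
    (hcodim : (⨅ y : Y, ringKrullDim ↑(CInt.fiberStalk f y.1)) =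
      ⨅ y : Y, ringKrullDim ↑(X.presheaf.stalk y.1)) :
    (⨅ y : Y, ((LocCoh.depth ↑(X.presheaf.stalk y.1) ↑(X.presheaf.stalk y.1) : ℕ∞) : WithBot ℕ∞)) =
      ⨅ y : Y, ringKrullDim ↑(X.presheaf.stalk y.1) := by
  apply le_antisymm
  · exact iInf_mono fun y => depth_le_dim' _
  · refine le_iInf fun y => ?_
    rw [← hcodim]
    refine (iInf_le _ y).trans ?_
    rw [depth_eq_dim_of_cm _ (hCM y.1), depth_stalk_eq f y.1 (Flat.stalkMap f y.1)]
    exact_mod_cast le_add_self

theorem main_S14110 {X' : Scheme.{u}} [IsLocallyNoetherian X] [IsLocallyNoetherian X']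
    [IsLocallyNoetherian S] (f : X ⟶ S) [Flat f]
    (hCM : ∀ x : ↥X, LocCoh.IsCohenMacaulayLocalRing ↑(CInt.fiberStalk f x)) (g : X' ⟶ X) [Flat g]
    (Y : Set ↥X) (hY : IsClosed Y) :
    (⨅ y : Y, ringKrullDim ↑(CInt.fiberStalk f y.1)) ≤
      ⨅ y' : (fun x' => g x') ⁻¹' Y, ringKrullDim ↑(CInt.fiberStalk (g ≫ f) y'.1) := by
  refine le_iInf fun y' => ?_
  refine (iInf_le _ (⟨g y'.1, y'.2⟩ : Y)).trans ?_
  obtain ⟨γg, hg, hkg⟩ := exists_fibre_presentation g y'.1
  obtain ⟨γf, hf, hkf⟩ := exists_fibre_presentation f (g y'.1)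
  obtain ⟨γgf, hgf, hkgf⟩ := exists_fibre_presentation (g ≫ f) y'.1
  have hcomp : ((g ≫ f).stalkMap y'.1).hom =
      (g.stalkMap y'.1).hom.comp (f.stalkMap (g y'.1)).hom := by
    rw [Scheme.Hom.stalkMap_comp]
    rfl
  rw [hcomp] at hkgf
  obtain ⟨α, β, D⟩ := exists_flData_comp (f.stalkMap (g y'.1)).hom (g.stalkMap y'.1).hom
    (Flat.stalkMap g y'.1) γf hf hkf γgf hgf hkgf γg hg hkg
  haveI : IsNoetherianRing (CInt.fiberStalk f (g y'.1)) := isNoetherianRing_of_surjective _ _ γf hf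
  haveI : IsNoetherianRing (CInt.fiberStalk (g ≫ f) y'.1) :=
    isNoetherianRing_of_surjective _ _ γgf hgf
  rw [ringKrullDim_eq_add_of_flData D]
  exact le_add_of_nonneg_right ringKrullDim_nonneg_of_nontrivial

end Sch

end Groth.Agent.Helper3.FibDepth
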