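import Mathlib
import Groth.Prelude.Def_Coh
import Groth.Agent.Lib.Helper1.QcAcyc
import Groth.Agent.S0461

/-! Stalks of higher direct images: vanishing from local vanishing of cohomology of preimages. -/

set_option autoImplicit false
universe u
open CategoryTheory CategoryTheory.Limits AlgebraicGeometry TopologicalSpace Opposite

namespace Groth.Agent.Helper3.RpushStalk

/-- The stalk at `y` of the sheafification of a presheaf of abelian groups vanishing on all members
of a basis contained in a fixed neighbourhood of `y` is zero. -/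
theorem isZero_stalk_sheafify {Y : TopCat.{u}} (P : (Opens Y)ᵒᵖ ⥤ AddCommGrpCat.{u}) (y : Y)
    (V₀ : Opens Y) (hy : y ∈ V₀) (B : Set (Opens Y)) (hB : Opens.IsBasis B)
    (h : ∀ W ∈ B, W ≤ V₀ → Subsingleton (P.obj (op W))) :
    IsZero (TopCat.Presheaf.stalk
      ((presheafToSheaf (Opens.grothendieckTopology Y) AddCommGrpCat.{u}).obj P).obj y) := by
  set G := (presheafToSheaf (Opens.grothendieckTopology Y) AddCommGrpCat.{u}).obj P with hG
  let η : P ⟶ G.obj := CategoryTheory.toSheafify (Opens.grothendieckTopology Y) P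
  have hη : Presheaf.IsLocallySurjective (Opens.grothendieckTopology Y) η := by
    dsimp only [η]; infer_instance
  have hsub : Subsingleton ↑(TopCat.Presheaf.stalk (C := AddCommGrpCat.{u}) G.obj y) := by
    refine ⟨fun a b => ?_⟩
    suffices H : ∀ g : ↑(TopCat.Presheaf.stalk (C := AddCommGrpCat.{u}) G.obj y), g = 0 by rw [H a, H b]
    intro g
    obtain ⟨V, hyV, s, rfl⟩ := TopCat.Presheaf.exists_germ_eq G.obj g
    have hmem := Presheaf.imageSieve_mem (Opens.grothendieckTopology Y) η (U := op V) s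
    obtain ⟨W, i, ⟨t, ht⟩, hyW⟩ := hmem y hyV
    obtain ⟨_, ⟨W', hW'B, rfl⟩, hyW', hW'le⟩ :=
      hB.exists_subset_of_mem_open (show y ∈ ((W ⊓ V₀ : Opens Y) : Set Y) from ⟨hyW, hy⟩)
        (W ⊓ V₀).2
    have hW'W : W' ≤ W := fun z hz => (hW'le hz).1
    have hW'V₀ : W' ≤ V₀ := fun z hz => (hW'le hz).2
    have := h W' hW'B hW'V₀
    have ht0 : P.map (homOfLE hW'W).op t = 0 := Subsingleton.elim _ _
    have h1 : G.obj.map (homOfLE hW'W).op (G.obj.map i.op s) = 0 := by
      rw [← ht, ← NatTrans.naturality_apply η (homOfLE hW'W).op t, ht0, map_zero]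
    have h2 : TopCat.Presheaf.germ G.obj V y hyV s = TopCat.Presheaf.germ G.obj W' y hyW'
        (G.obj.map (homOfLE hW'W).op (G.obj.map i.op s)) := by
      rw [TopCat.Presheaf.germ_res_apply, TopCat.Presheaf.germ_res_apply]
    rw [h2, h1, map_zero]
  exact AddCommGrpCat.isZero_of_subsingleton _


/-- If cohomology of the preimages of a basis of opens inside a neighbourhood of `y` vanishes, the
stalk of the higher direct image at `y` vanishes. -/
theorem isZero_stalk_rpush {X Y : TopCat.{u}} (f : X ⟶ Y) (F : CohTop.Ab X) (i : ℕ) (y : Y)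
    (V₀ : Opens Y) (hy : y ∈ V₀) (B : Set (Opens Y)) (hB : Opens.IsBasis B)
    (h : ∀ W ∈ B, W ≤ V₀ → Subsingleton (CohTop.HU F i ((Opens.map f).obj W))) :
    IsZero (TopCat.Presheaf.stalk ((CohTop.Rpush f i).obj F).obj y) := by
  obtain ⟨e⟩ := Groth.Agent.S0461.result f F i
  have e' := (TopCat.Presheaf.stalkFunctor AddCommGrpCat.{u} y).mapIso
    ((sheafToPresheaf _ _).mapIso e)
  refine IsZero.of_iso ?_ e'
  exact isZero_stalk_sheafify _ y V₀ hy B hB (fun W hW hle => h W hW hle)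

/-- Preimages of affine opens inside `V` are affine when `f ∣_ V` is affine. -/
theorem isAffineOpen_preimage_of_le {X Y : Scheme.{u}} (f : X ⟶ Y) (V : Y.Opens)
    [IsAffineHom (f ∣_ V)] {W : Y.Opens} (hW : IsAffineOpen W) (hle : W ≤ V) :
    IsAffineOpen (f ⁻¹ᵁ W) := by
  have hW' : IsAffineOpen (V.ι ⁻¹ᵁ W) := by
    rw [← V.ι.isAffineOpen_iff_of_isOpenImmersion]
    have : V.ι ''ᵁ (V.ι ⁻¹ᵁ W) = W := by
      rw [Scheme.Hom.image_preimage_eq_opensRange_inf, Scheme.Opens.opensRange_ι]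
      exact inf_eq_right.mpr hle
    rwa [this]
  have h1 : IsAffineOpen ((f ∣_ V) ⁻¹ᵁ (V.ι ⁻¹ᵁ W)) := hW'.preimage (f ∣_ V)
  have h2 := h1.image_of_isOpenImmersion (f ⁻¹ᵁ V).ι
  rw [image_morphismRestrict_preimage] at h2
  have : V.ι ''ᵁ (V.ι ⁻¹ᵁ W) = W := by
    rw [Scheme.Hom.image_preimage_eq_opensRange_inf, Scheme.Opens.opensRange_ι]
    exact inf_eq_right.mpr hle
  rwa [this] at h2

theorem S0037_main {X Y : Scheme.{u}} (f : X ⟶ Y) [IsProper f]
    (y : Y) (hy : (f.base ⁻¹' {y}).Finite) (M : X.Modules) (hM : Coh.IsQCoh M)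
    (p : ℕ) (hp : 0 < p) :
    Limits.IsZero (TopCat.Presheaf.stalk ((Coh.RpushAb f p).obj (Coh.toAb M)).obj y) := by
  obtain ⟨V, hyV, hfin⟩ := exists_isFinite_morphismRestrict_of_finite_preimage_singleton f y hy
  obtain ⟨q, rfl⟩ : ∃ q, p = q + 1 := ⟨p - 1, by omega⟩
  have : M.IsQuasicoherent := hM
  refine isZero_stalk_rpush f.base (Coh.toAb M) (q + 1) y V hyV Y.affineOpens
    Y.isBasis_affineOpens (fun W hW hle => ?_)
  exact Groth.Agent.Helper1.QcAcyc.subsingleton_HU M (f ⁻¹ᵁ W)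
    (isAffineOpen_preimage_of_le f V hW hle) q

end Groth.Agent.Helper3.RpushStalk
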