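import Mathlib
import Groth.Prelude.Def_FlatCA
import Groth.Agent.Lib.Helper9.RelFP.Local
import Groth.Agent.S6991
import Groth.Agent.S6992
import Groth.Agent.S6993
import Groth.Agent.S7007
import Groth.Agent.S12083

/-!
# Relative finite presentation: ring-level toolkit in abstract form (helper3)
-/

set_option autoImplicit false
universe u

namespace Groth.Agent.Helper3.RelFPS

open TensorProduct Groth.Agent.Helper9.RelFP

/-- abbreviation -/
abbrev RFP (R S : Type u) [CommRing R] [CommRing S] [Algebra R S] (N : Type u)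
    [AddCommGroup N] [Module S N] : Prop := FlatCA.RelFinitePresentation R S N

section Basic
variable {R B : Type u} [CommRing R] [CommRing B] [Algebra R B]
  {M : Type u} [AddCommGroup M] [Module B M]

theorem rfp_iff_exists : RFP R B M ↔ ∃ (n : ℕ) (α : MvPolynomial (Fin n) R →ₐ[R] B),
    Function.Surjective α ∧ FPThrough α.toRingHom M := Iff.rfl

theorem finiteType_of_rfp (h : RFP R B M) : Algebra.FiniteType R B := by
  obtain ⟨n, α, hα, -⟩ := h
  exact Algebra.FiniteType.of_surjective α hα

theorem rfp_of_fpThrough {n : ℕ} (α : MvPolynomial (Fin n) R →ₐ[R] B) (hα : Function.Surjective α)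
    (h : FPThrough α.toRingHom M) : RFP R B M := ⟨n, α, hα, h⟩

theorem fpThrough_of_rfp (h : RFP R B M) {n : ℕ} (α : MvPolynomial (Fin n) R →ₐ[R] B)
    (hα : Function.Surjective α) : FPThrough α.toRingHom M := by
  obtain ⟨k, β, hβ, hM⟩ := h
  exact FPThrough.indep β hβ α hα hM

theorem exists_surj [Algebra.FiniteType R B] :
    ∃ (n : ℕ) (α : MvPolynomial (Fin n) R →ₐ[R] B), Function.Surjective α :=
  Algebra.FiniteType.iff_quotient_mvPolynomial''.mp inferInstance

/-- finitely presented over the ring itself -/
theorem fp_of_rfp (h : RFP R B M) : Module.FinitePresentation B M := by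
  obtain ⟨n, α, hα, hM⟩ := h
  let _ : Algebra (MvPolynomial (Fin n) R) B := α.toRingHom.toAlgebra
  let _ : Module (MvPolynomial (Fin n) R) M := Module.compHom M α.toRingHom
  have : IsScalarTower (MvPolynomial (Fin n) R) B M := ⟨fun p a m => by
    show (α p * a) • m = α p • (a • m)
    rw [mul_smul]⟩
  have : Module.FinitePresentation (MvPolynomial (Fin n) R) M := hM
  exact fp_of_fp_of_surjective (P' := MvPolynomial (Fin n) R) (P := B) (N := M) hα

end Basic

section Transport
variable {R B B' : Type u} [CommRing R] [CommRing B] [CommRing B'] [Algebra R B] [Algebra R B']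
  {M M' : Type u} [AddCommGroup M] [AddCommGroup M'] [Module B M] [Module B' M']

/-- transport along a semilinear isomorphism -/
theorem rfp_of_equiv (e : B ≃ₐ[R] B') (φ : M ≃+ M') (hφ : ∀ (b : B) (m : M), φ (b • m) = e b • φ m)
    (h : RFP R B M) : RFP R B' M' := by
  obtain ⟨n, α, hα, hM⟩ := h
  refine ⟨n, (e : B →ₐ[R] B').comp α, e.surjective.comp hα, ?_⟩
  let _ : Module (MvPolynomial (Fin n) R) M := Module.compHom M α.toRingHom
  let _ : Module (MvPolynomial (Fin n) R) M' :=
    Module.compHom M' ((e : B →ₐ[R] B').comp α).toRingHom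
  have : Module.FinitePresentation (MvPolynomial (Fin n) R) M := hM
  let φ' : M ≃ₗ[MvPolynomial (Fin n) R] M' :=
    { φ with
      map_smul' := fun p m => by
        show φ (α p • m) = e (α p) • φ m
        exact hφ _ _ }
  exact Module.FinitePresentation.of_equiv φ'

end Transport

section Target
variable {R B B' : Type u} [CommRing R] [CommRing B] [CommRing B'] [Algebra R B] [Algebra B B']
  [Algebra R B'] [IsScalarTower R B B']
  {M M' : Type u} [AddCommGroup M] [AddCommGroup M'] [Module B M] [Module B M'] [Module B' M']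
  [IsScalarTower B B' M']

/-- base change of the algebra along a finitely presented algebra -/
theorem rfp_baseChange_target [Algebra.FinitePresentation B B'] (l : M →ₗ[B] M')
    (hl : IsBaseChange B' l) (h : RFP R B M) : RFP R B' M' := by
  have hft : Algebra.FiniteType R B := finiteType_of_rfp h
  have hft' : Algebra.FiniteType R B' := Algebra.FiniteType.trans (S := B) hft inferInstance
  obtain ⟨n, α, hα, hM⟩ := h
  obtain ⟨k, γ, hγ⟩ := exists_surj (R := R) (B := B')
  have h1 : FPThrough γ.toRingHom (B' ⊗[B] M) := FPThrough.baseChange_fp M α hα hM γ hγ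
  exact ⟨k, γ, hγ, FPThrough.of_equiv γ.toRingHom hl.equiv h1⟩

/-- localization of the algebra -/
theorem rfp_localization_target (g : B) [IsLocalization.Away g B'] (l : M →ₗ[B] M')
    [IsLocalizedModule (Submonoid.powers g) l] (h : RFP R B M) : RFP R B' M' := by
  haveI : Algebra.FinitePresentation B B' := IsLocalization.Away.finitePresentation g
  exact rfp_baseChange_target l (IsLocalizedModule.isBaseChange (Submonoid.powers g) B' l) h

end Target

section Base
variable {A A' B : Type u} [CommRing A] [CommRing A'] [CommRing B] [Algebra A A'] [Algebra A' B]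
  [Algebra A B] [IsScalarTower A A' B] {M : Type u} [AddCommGroup M] [Module B M]

/-- transitivity -/
theorem rfp_trans [Algebra.FinitePresentation A A'] (h : RFP A' B M) : RFP A B M := by
  have hft : Algebra.FiniteType A' B := finiteType_of_rfp h
  have hft' : Algebra.FiniteType A B :=
    Algebra.FiniteType.trans (S := A') inferInstance hft
  obtain ⟨n, α, hα, hM⟩ := h
  obtain ⟨k, β, hβ⟩ := exists_surj (R := A) (B := B)
  exact ⟨k, β, hβ, Groth.Agent.S6993.result M α hα β hβ hM⟩

/-- passing to a localization of the base through which the algebra factors -/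
theorem rfp_base_localization (a : A) [IsLocalization.Away a A'] (h : RFP A B M) : RFP A' B M := by
  have hft : Algebra.FiniteType A B := finiteType_of_rfp h
  have hft' : Algebra.FiniteType A' B := Algebra.FiniteType.of_restrictScalars_finiteType A A' B
  obtain ⟨n, α, hα, hM⟩ := h
  obtain ⟨k, γ, hγ⟩ := exists_surj (R := A') (B := B)
  haveI : IsLocalizedModule (Submonoid.powers a) (LinearMap.id : B →ₗ[A] B) :=
    isLocalizedModule_id (Submonoid.powers a) B A'
  have hbc : IsBaseChange A' (LinearMap.id : B →ₗ[A] B) :=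
    IsLocalizedModule.isBaseChange (Submonoid.powers a) A' _
  haveI : Algebra.IsPushout A A' B B := by
    constructor
    convert hbc using 1
    ext x
    simp
  haveI : Algebra.IsPushout A B A' B := Algebra.IsPushout.symm inferInstance
  have h1 := Groth.Agent.S12083.result (R := A) (A := B) (R' := A') (A' := B) M α hα hM γ hγ
  refine ⟨k, γ, hγ, ?_⟩
  exact FPThrough.of_equiv γ.toRingHom (TensorProduct.lid B M) h1

end Base

section Cover
variable {R B : Type u} [CommRing R] [CommRing B] [Algebra R B]
  {M : Type u} [AddCommGroup M] [Module B M]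

/-- transport from an abstract localization to the concrete one -/
theorem rfp_concrete_of_abstract (g : B) (B' : Type u) [CommRing B'] [Algebra B B'] [Algebra R B']
    [IsScalarTower R B B'] [IsLocalization.Away g B'] (M' : Type u) [AddCommGroup M'] [Module B M']
    [Module B' M'] [IsScalarTower B B' M'] (l : M →ₗ[B] M')
    [IsLocalizedModule (Submonoid.powers g) l] (h : RFP R B' M') :
    RFP R (Localization.Away g) (LocalizedModule (Submonoid.powers g) M) := by
  let e₀ : B' ≃ₐ[B] Localization.Away g :=
    IsLocalization.algEquiv (Submonoid.powers g) B' (Localization.Away g)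
  let e : B' ≃ₐ[R] Localization.Away g := e₀.restrictScalars R
  let N := LocalizedModule (Submonoid.powers g) M
  let _ : Module B' N := Module.compHom N (e₀ : B' →+* Localization.Away g)
  have tower : IsScalarTower B B' N := by
    refine ⟨fun b x n => ?_⟩
    show e₀ (b • x) • n = b • (e₀ x • n)
    rw [map_smul, smul_assoc]
  let φ₀ : M' ≃ₗ[B] N :=
    IsLocalizedModule.linearEquiv (Submonoid.powers g) l
      (LocalizedModule.mkLinearMap (Submonoid.powers g) M)
  let φ : M' ≃ₗ[B'] N := φ₀.extendScalarsOfIsLocalization (Submonoid.powers g) B'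
  exact rfp_of_equiv e φ.toAddEquiv (fun b m => φ.map_smul b m) h

theorem rfp_of_cover [Algebra.FiniteType R B] {r : ℕ} (g : Fin r → B)
    (hg : Ideal.span (Set.range g) = ⊤)
    (B' : Fin r → Type u) [∀ i, CommRing (B' i)] [∀ i, Algebra B (B' i)] [∀ i, Algebra R (B' i)]
    [∀ i, IsScalarTower R B (B' i)] [∀ i, IsLocalization.Away (g i) (B' i)]
    (M' : Fin r → Type u) [∀ i, AddCommGroup (M' i)] [∀ i, Module B (M' i)]
    [∀ i, Module (B' i) (M' i)] [∀ i, IsScalarTower B (B' i) (M' i)] (l : ∀ i, M →ₗ[B] M' i)
    [∀ i, IsLocalizedModule (Submonoid.powers (g i)) (l i)]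
    (h : ∀ i, RFP R (B' i) (M' i)) : RFP R B M := by
  obtain ⟨n, α, hα⟩ := exists_surj (R := R) (B := B)
  have h' : ∀ i, RFP R (Localization.Away (g i)) (LocalizedModule (Submonoid.powers (g i)) M) :=
    fun i => rfp_concrete_of_abstract (g i) (B' i) (M' i) (l i) (h i)
  choose k γ hγ hfp using h'
  exact ⟨n, α, hα, (Groth.Agent.S7007.result α hα M g hg k γ hγ).mpr hfp⟩

end Cover

section Finite
variable {R A B : Type u} [CommRing R] [CommRing A] [CommRing B] [Algebra R A] [Algebra A B]
  [Algebra R B] [IsScalarTower R A B]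
  {M : Type u} [AddCommGroup M] [Module B M] [Module A M] [IsScalarTower A B M]

theorem rfp_finite_iff [Algebra.FiniteType R A] [Module.Finite A B] : RFP R A M ↔ RFP R B M := by
  haveI : Algebra.FiniteType A B := inferInstance
  haveI : Algebra.FiniteType R B := Algebra.FiniteType.trans (S := A) inferInstance inferInstance
  obtain ⟨n, α, hα⟩ := exists_surj (R := R) (B := A)
  obtain ⟨k, β, hβ⟩ := exists_surj (R := R) (B := B)
  have key := Groth.Agent.S6992.result (R := R) (A := A) (B := B) M α hα β hβ
  constructor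
  · intro h
    exact ⟨k, β, hβ, key.mp (fpThrough_of_rfp h α hα)⟩
  · intro h
    exact ⟨n, α, hα, key.mpr (fpThrough_of_rfp h β hβ)⟩

end Finite

section Exact
variable {R B : Type u} [CommRing R] [CommRing B] [Algebra R B]
  {M₁ M₂ M₃ : Type u} [AddCommGroup M₁] [AddCommGroup M₂] [AddCommGroup M₃]
  [Module B M₁] [Module B M₂] [Module B M₃]

/-- quotient by a finitely generated submodule -/
theorem rfp_of_surjective (g : M₂ →ₗ[B] M₃) (hg : Function.Surjective g)
    (hk : (LinearMap.ker g).FG) (h : RFP R B M₂) : RFP R B M₃ := by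
  obtain ⟨n, α, hα, hM⟩ := h
  refine ⟨n, α, hα, ?_⟩
  let P := MvPolynomial (Fin n) R
  let _ : Algebra P B := α.toRingHom.toAlgebra
  let _ : Module P M₂ := Module.compHom M₂ α.toRingHom
  let _ : Module P M₃ := Module.compHom M₃ α.toRingHom
  have t2 : IsScalarTower P B M₂ := ⟨fun p a m => by
    show (α p * a) • m = α p • (a • m)
    rw [mul_smul]⟩
  have t3 : IsScalarTower P B M₃ := ⟨fun p a m => by
    show (α p * a) • m = α p • (a • m)
    rw [mul_smul]⟩
  haveI : Module.FinitePresentation P M₂ := hM
  show Module.FinitePresentation P M₃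
  refine Module.finitePresentation_of_surjective (g.restrictScalars P) hg ?_
  obtain ⟨s, hs⟩ := hk
  refine ⟨s, ?_⟩
  have h1 : Submodule.restrictScalars P (Submodule.span B (s : Set M₂)) =
      Submodule.span P (s : Set M₂) :=
    Submodule.restrictScalars_span P B (show Function.Surjective (algebraMap P B) from hα) _
  rw [← h1, hs]
  rfl

/-- extensions -/
theorem rfp_of_ses (f : M₁ →ₗ[B] M₂) (g : M₂ →ₗ[B] M₃) (hf : Function.Injective f)
    (hg : Function.Surjective g) (hfg : LinearMap.range f = LinearMap.ker g)
    (h₁ : RFP R B M₁) (h₃ : RFP R B M₃) : RFP R B M₂ := by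
  obtain ⟨n, α, hα, hM1⟩ := h₁
  have hM3 := fpThrough_of_rfp h₃ α hα
  refine ⟨n, α, hα, ?_⟩
  let P := MvPolynomial (Fin n) R
  let _ : Algebra P B := α.toRingHom.toAlgebra
  let _ : Module P M₁ := Module.compHom M₁ α.toRingHom
  let _ : Module P M₂ := Module.compHom M₂ α.toRingHom
  let _ : Module P M₃ := Module.compHom M₃ α.toRingHom
  have t1 : IsScalarTower P B M₁ := ⟨fun p a m => by
    show (α p * a) • m = α p • (a • m)
    rw [mul_smul]⟩
  have t2 : IsScalarTower P B M₂ := ⟨fun p a m => by
    show (α p * a) • m = α p • (a • m)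
    rw [mul_smul]⟩
  have t3 : IsScalarTower P B M₃ := ⟨fun p a m => by
    show (α p * a) • m = α p • (a • m)
    rw [mul_smul]⟩
  haveI : Module.FinitePresentation P M₁ := hM1
  haveI : Module.FinitePresentation P M₃ := hM3
  show Module.FinitePresentation P M₂
  let f' : M₁ →ₗ[P] M₂ := f.restrictScalars P
  let g' : M₂ →ₗ[P] M₃ := g.restrictScalars P
  have hfg' : LinearMap.range f' = LinearMap.ker g' := by
    ext x
    have := congrArg (fun S : Submodule B M₂ => x ∈ S) hfg
    exact iff_of_eq this
  let e : M₁ ≃ₗ[P] LinearMap.ker g' :=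
    (LinearEquiv.ofInjective f' hf).trans (LinearEquiv.ofEq _ _ hfg')
  haveI : Module.FinitePresentation P (LinearMap.ker g') := Module.FinitePresentation.of_equiv e
  exact Module.finitePresentation_of_ker g' hg

/-- retracts -/
theorem rfp_of_retract (i : M₁ →ₗ[B] M₂) (p : M₂ →ₗ[B] M₁) (hpi : ∀ x, p (i x) = x)
    (h : RFP R B M₂) : RFP R B M₁ := by
  have hfin : Module.Finite B M₂ := by
    haveI := fp_of_rfp h
    infer_instance
  refine rfp_of_surjective p (fun x => ⟨i x, hpi x⟩) ?_ h
  have hker : LinearMap.ker p = LinearMap.range (LinearMap.id - i ∘ₗ p : M₂ →ₗ[B] M₂) := by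
    ext x
    constructor
    · intro hx
      refine ⟨x, ?_⟩
      have : p x = 0 := hx
      simp [this]
    · rintro ⟨y, rfl⟩
      show p ((LinearMap.id - i ∘ₗ p : M₂ →ₗ[B] M₂) y) = 0
      simp [hpi]
  rw [hker, LinearMap.range_eq_map]
  exact (Module.Finite.fg_top).map _

end Exact

end Groth.Agent.Helper3.RelFPS
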