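import Mathlib
import Groth.Prelude.Def_Flatn
import Groth.Agent.Lib.Helper3.RelFPS1
import Groth.Agent.Lib.Lead.SD2

/-!
# Relative finite presentation on schemes: Zariski locality (helper3)
-/

set_option autoImplicit false
universe u
open CategoryTheory CategoryTheory.Limits AlgebraicGeometry TopologicalSpace Opposite
set_option backward.isDefEq.respectTransparency.types false

namespace Groth.Agent.Helper3.RelFPS

open Scheme.Modules Groth.Agent.Lead.SD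

variable {X S : Scheme.{u}} (f : X ⟶ S) (F : X.Modules)

/-- `RelFPOn` for opens with proofs of affineness -/
def RelOn {U : X.Opens} (hU : IsAffineOpen U) {V : S.Opens} (hV : IsAffineOpen V)
    (h : U ≤ f ⁻¹ᵁ V) : Prop :=
  letI := (f.appLE V U h).hom.toAlgebra
  RFP Γ(S, V) Γ(X, U) Γ(F, U)

theorem relFPOn_iff_relOn (U : X.affineOpens) (V : S.affineOpens)
    (h : (U : X.Opens) ≤ f ⁻¹ᵁ (V : S.Opens)) :
    Flatn.RelFPOn f F U V h ↔ RelOn f F U.2 V.2 h := Iff.rfl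

attribute [local instance] basicOpenModule

/-- restriction to a basic open of the source -/
theorem relOn_basicOpen [F.IsQuasicoherent] {U : X.Opens} (hU : IsAffineOpen U) {V : S.Opens}
    (hV : IsAffineOpen V) (h : U ≤ f ⁻¹ᵁ V) (g : Γ(X, U)) (H : RelOn f F hU hV h) :
    RelOn f F (hU.basicOpen g) hV ((X.basicOpen_le g).trans h) := by
  letI alg1 : Algebra Γ(S, V) Γ(X, U) := (f.appLE V U h).hom.toAlgebra
  letI alg2 : Algebra Γ(S, V) Γ(X, X.basicOpen g) :=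
    (f.appLE V (X.basicOpen g) ((X.basicOpen_le g).trans h)).hom.toAlgebra
  haveI : IsScalarTower Γ(S, V) Γ(X, U) Γ(X, X.basicOpen g) := by
    apply IsScalarTower.of_algebraMap_eq'
    show (f.appLE V (X.basicOpen g) _).hom =
      (X.presheaf.map (homOfLE (X.basicOpen_le g)).op).hom.comp (f.appLE V U h).hom
    rw [← CommRingCat.hom_comp, Scheme.Hom.appLE_map]
  haveI := hU.isLocalization_basicOpen g
  haveI := isLocalizedModule_res F hU g
  exact rfp_localization_target (R := Γ(S, V)) g (resₗ F g) H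

/-- shrinking the base to a basic open -/
theorem relOn_base_basicOpen {U : X.Opens} (hU : IsAffineOpen U) {V : S.Opens}
    (hV : IsAffineOpen V) (a : Γ(S, V)) (h : U ≤ f ⁻¹ᵁ (S.basicOpen a))
    (H : RelOn f F hU hV (h.trans (f.preimage_mono (S.basicOpen_le a)))) :
    RelOn f F hU (hV.basicOpen a) h := by
  letI alg1 : Algebra Γ(S, V) Γ(X, U) :=
    (f.appLE V U (h.trans (f.preimage_mono (S.basicOpen_le a)))).hom.toAlgebra
  letI alg2 : Algebra Γ(S, S.basicOpen a) Γ(X, U) := (f.appLE (S.basicOpen a) U h).hom.toAlgebra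
  haveI : IsScalarTower Γ(S, V) Γ(S, S.basicOpen a) Γ(X, U) := by
    apply IsScalarTower.of_algebraMap_eq'
    show (f.appLE V U _).hom =
      (f.appLE (S.basicOpen a) U h).hom.comp (S.presheaf.map (homOfLE (S.basicOpen_le a)).op).hom
    rw [← CommRingCat.hom_comp, Scheme.Hom.map_appLE]
  haveI := hV.isLocalization_basicOpen a
  exact rfp_base_localization (A := Γ(S, V)) (A' := Γ(S, S.basicOpen a)) a H

/-- enlarging the base from a basic open -/
theorem relOn_of_base_basicOpen {U : X.Opens} (hU : IsAffineOpen U) {V : S.Opens}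
    (hV : IsAffineOpen V) (a : Γ(S, V)) (h : U ≤ f ⁻¹ᵁ (S.basicOpen a))
    (H : RelOn f F hU (hV.basicOpen a) h) :
    RelOn f F hU hV (h.trans (f.preimage_mono (S.basicOpen_le a))) := by
  letI alg1 : Algebra Γ(S, V) Γ(X, U) :=
    (f.appLE V U (h.trans (f.preimage_mono (S.basicOpen_le a)))).hom.toAlgebra
  letI alg2 : Algebra Γ(S, S.basicOpen a) Γ(X, U) := (f.appLE (S.basicOpen a) U h).hom.toAlgebra
  haveI : IsScalarTower Γ(S, V) Γ(S, S.basicOpen a) Γ(X, U) := by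
    apply IsScalarTower.of_algebraMap_eq'
    show (f.appLE V U _).hom =
      (f.appLE (S.basicOpen a) U h).hom.comp (S.presheaf.map (homOfLE (S.basicOpen_le a)).op).hom
    rw [← CommRingCat.hom_comp, Scheme.Hom.map_appLE]
  haveI := hV.isLocalization_basicOpen a
  haveI : Algebra.FinitePresentation Γ(S, V) Γ(S, S.basicOpen a) :=
    IsLocalization.Away.finitePresentation a
  exact rfp_trans (A := Γ(S, V)) (A' := Γ(S, S.basicOpen a)) H

/-- glueing over a finite cover of the source by basic opens -/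
theorem relOn_of_cover [F.IsQuasicoherent] [LocallyOfFiniteType f] {U : X.Opens}
    (hU : IsAffineOpen U) {V : S.Opens}
    (hV : IsAffineOpen V) (h : U ≤ f ⁻¹ᵁ V) {r : ℕ} (g : Fin r → Γ(X, U))
    (hg : Ideal.span (Set.range g) = ⊤)
    (H : ∀ i, RelOn f F (hU.basicOpen (g i)) hV ((X.basicOpen_le (g i)).trans h)) :
    RelOn f F hU hV h := by
  letI alg1 : Algebra Γ(S, V) Γ(X, U) := (f.appLE V U h).hom.toAlgebra
  letI alg2 : ∀ i, Algebra Γ(S, V) Γ(X, X.basicOpen (g i)) := fun i =>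
    (f.appLE V (X.basicOpen (g i)) ((X.basicOpen_le (g i)).trans h)).hom.toAlgebra
  haveI : ∀ i, IsScalarTower Γ(S, V) Γ(X, U) Γ(X, X.basicOpen (g i)) := by
    intro i
    apply IsScalarTower.of_algebraMap_eq'
    show (f.appLE V (X.basicOpen (g i)) _).hom =
      (X.presheaf.map (homOfLE (X.basicOpen_le (g i))).op).hom.comp (f.appLE V U h).hom
    rw [← CommRingCat.hom_comp, Scheme.Hom.appLE_map]
  haveI : ∀ i, IsLocalization.Away (g i) Γ(X, X.basicOpen (g i)) :=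
    fun i => hU.isLocalization_basicOpen (g i)
  haveI : ∀ i, IsLocalizedModule (Submonoid.powers (g i)) (resₗ F (g i)) :=
    fun i => isLocalizedModule_res F hU (g i)
  haveI : Algebra.FiniteType Γ(S, V) Γ(X, U) :=
    HasRingHomProperty.appLE (P := @LocallyOfFiniteType) f ‹_› ⟨V, hV⟩ ⟨U, hU⟩ h
  exact rfp_of_cover (R := Γ(S, V)) g hg (fun i => Γ(X, X.basicOpen (g i)))
    (fun i => Γ(F, X.basicOpen (g i))) (fun i => resₗ F (g i)) H

theorem relOn_congr {U U' : X.Opens} (e : U = U') (hU : IsAffineOpen U) (hU' : IsAffineOpen U')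
    {V V' : S.Opens} (e' : V = V') (hV : IsAffineOpen V) (hV' : IsAffineOpen V')
    (h : U ≤ f ⁻¹ᵁ V) (h' : U' ≤ f ⁻¹ᵁ V') (H : RelOn f F hU hV h) : RelOn f F hU' hV' h' := by
  subst e
  subst e'
  exact H

theorem basicOpen_appLE {U : X.Opens} {V : S.Opens} (h : U ≤ f ⁻¹ᵁ V) (a : Γ(S, V)) :
    X.basicOpen ((f.appLE V U h).hom a) = U ⊓ f ⁻¹ᵁ (S.basicOpen a) := by
  rw [Scheme.Hom.appLE, CommRingCat.hom_comp, RingHom.comp_apply]
  erw [Scheme.basicOpen_res]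
  rw [Scheme.preimage_basicOpen]

/-- local form: around every point of `U₀` there is a basic open on which `RelOn` holds -/
theorem exists_basicOpen_relOn [F.IsQuasicoherent] {U₀ : X.Opens} (hU₀ : IsAffineOpen U₀)
    {V₀ : S.Opens} (hV₀ : IsAffineOpen V₀) (h₀ : U₀ ≤ f ⁻¹ᵁ V₀)
    {U₁ : X.Opens} (hU₁ : IsAffineOpen U₁) {V : S.Opens} (hV : IsAffineOpen V)
    (h₁ : U₁ ≤ f ⁻¹ᵁ V) (H₁ : RelOn f F hU₁ hV h₁) (x : X) (hx₀ : x ∈ U₀) (hx₁ : x ∈ U₁) :
    ∃ g : Γ(X, U₀), x ∈ X.basicOpen g ∧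
      RelOn f F (hU₀.basicOpen g) hV₀ ((X.basicOpen_le g).trans h₀) := by
  obtain ⟨a, a', e, hfx⟩ := exists_basicOpen_le_affine_inter hV hV₀ (f x) ⟨h₁ hx₁, h₀ hx₀⟩
  set b : Γ(X, U₁) := (f.appLE V U₁ h₁).hom a with hb
  set b' : Γ(X, U₀) := (f.appLE V₀ U₀ h₀).hom a' with hb'
  have eb : X.basicOpen b = U₁ ⊓ f ⁻¹ᵁ (S.basicOpen a) := basicOpen_appLE f h₁ a
  have eb' : X.basicOpen b' = U₀ ⊓ f ⁻¹ᵁ (S.basicOpen a') := basicOpen_appLE f h₀ a'
  have hxb : x ∈ X.basicOpen b := by rw [eb]; exact ⟨hx₁, hfx⟩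
  have hxb' : x ∈ X.basicOpen b' := by rw [eb', ← e]; exact ⟨hx₀, hfx⟩
  obtain ⟨c, c', e2, hxc⟩ := exists_basicOpen_le_affine_inter (hU₁.basicOpen b)
    (hU₀.basicOpen b') x ⟨hxb, hxb'⟩
  have hc1 : X.basicOpen c ≤ X.basicOpen b := X.basicOpen_le c
  have hc2 : X.basicOpen c ≤ f ⁻¹ᵁ (S.basicOpen a) := hc1.trans (eb.le.trans inf_le_right)
  have H₂ : RelOn f F (hU₁.basicOpen b) hV ((X.basicOpen_le b).trans h₁) :=
    relOn_basicOpen f F hU₁ hV h₁ b H₁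
  have H₃ : RelOn f F ((hU₁.basicOpen b).basicOpen c) hV
      (hc1.trans ((X.basicOpen_le b).trans h₁)) :=
    relOn_basicOpen f F (hU₁.basicOpen b) hV _ c H₂
  have H₄ : RelOn f F ((hU₁.basicOpen b).basicOpen c) (hV.basicOpen a) hc2 :=
    relOn_base_basicOpen f F _ hV a hc2 H₃
  have hc3 : X.basicOpen c ≤ f ⁻¹ᵁ (S.basicOpen a') := e ▸ hc2
  have H₅ : RelOn f F ((hU₁.basicOpen b).basicOpen c) (hV₀.basicOpen a') hc3 :=
    relOn_congr f F rfl _ _ e _ _ hc2 hc3 H₄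
  have H₆ : RelOn f F ((hU₁.basicOpen b).basicOpen c) hV₀
      (hc3.trans (f.preimage_mono (S.basicOpen_le a'))) :=
    relOn_of_base_basicOpen f F _ hV₀ a' hc3 H₅
  obtain ⟨g, hg⟩ := hU₀.basicOpen_basicOpen_is_basicOpen b' c'
  have e3 : X.basicOpen c = X.basicOpen g := e2.trans hg.symm
  refine ⟨g, e3 ▸ hxc, ?_⟩
  exact relOn_congr f F e3 _ _ rfl _ _ _ _ H₆

/-- **Zariski locality** of relative finite presentation -/
theorem relOn_of_isRelFP [F.IsQuasicoherent] [LocallyOfFiniteType f] (H : Flatn.IsRelFP f F)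
    {U₀ : X.Opens} (hU₀ : IsAffineOpen U₀)
    {V₀ : S.Opens} (hV₀ : IsAffineOpen V₀) (h₀ : U₀ ≤ f ⁻¹ᵁ V₀) : RelOn f F hU₀ hV₀ h₀ := by
  obtain ⟨𝒱, h𝒱, H𝒱⟩ := H
  let s : Set Γ(X, U₀) :=
    {g | RelOn f F (hU₀.basicOpen g) hV₀ ((X.basicOpen_le g).trans h₀)}
  have hs : Ideal.span s = ⊤ := by
    rw [← hU₀.self_le_iSup_basicOpen_iff]
    intro x hx
    have hfx : f x ∈ (⨆ V ∈ 𝒱, (V : S.Opens)) := by rw [h𝒱]; trivial
    simp only [Opens.mem_iSup] at hfx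
    obtain ⟨V, hV𝒱, hfxV⟩ := hfx
    obtain ⟨𝒰, h𝒰, H𝒰⟩ := H𝒱 V hV𝒱
    have hxU : x ∈ (⨆ U ∈ 𝒰, (U : X.Opens)) := by rw [h𝒰]; exact hfxV
    simp only [Opens.mem_iSup] at hxU
    obtain ⟨U₁, hU₁𝒰, hxU₁⟩ := hxU
    have h₁ : (U₁ : X.Opens) ≤ f ⁻¹ᵁ (V : S.Opens) := by
      rw [← h𝒰]
      exact le_iSup₂ (f := fun (U : X.affineOpens) (_ : U ∈ 𝒰) => (U : X.Opens)) U₁ hU₁𝒰
    have H₁ : RelOn f F U₁.2 V.2 h₁ := H𝒰 U₁ hU₁𝒰 h₁
    obtain ⟨g, hxg, Hg⟩ := exists_basicOpen_relOn f F hU₀ hV₀ h₀ U₁.2 V.2 h₁ H₁ x hx hxU₁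
    exact Opens.mem_iSup.2 ⟨⟨g, Hg⟩, hxg⟩
  obtain ⟨t, ht₁, ht₂⟩ := (Ideal.span_eq_top_iff_finite _).mp hs
  let r := t.card
  let e : Fin r ≃ t := t.equivFin.symm
  let g : Fin r → Γ(X, U₀) := fun i => (e i : Γ(X, U₀))
  have hg : Ideal.span (Set.range g) = ⊤ := by
    have : Set.range g = (t : Set Γ(X, U₀)) := by
      ext y
      constructor
      · rintro ⟨i, rfl⟩
        exact (e i).2
      · intro hy
        exact ⟨e.symm ⟨y, hy⟩, by simp [g]⟩
    rw [this, ht₂]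
  exact relOn_of_cover f F hU₀ hV₀ h₀ g hg (fun i => ht₁ (e i).2)

theorem isRelFP_of_relOn
    (H : ∀ (U : X.affineOpens) (V : S.affineOpens) (h : (U : X.Opens) ≤ f ⁻¹ᵁ (V : S.Opens)),
      Flatn.RelFPOn f F U V h) : Flatn.IsRelFP f F := by
  refine ⟨Set.univ, ?_, fun V _ => ⟨{U | (U : X.Opens) ≤ f ⁻¹ᵁ (V : S.Opens)}, ?_, ?_⟩⟩
  · rw [eq_top_iff]
    intro y _
    obtain ⟨_, ⟨V, hV, rfl⟩, hyV, -⟩ := S.isBasis_affineOpens.exists_subset_of_mem_open
      (Set.mem_univ y) isOpen_univ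
    simp only [Opens.mem_iSup]
    exact ⟨⟨V, hV⟩, Set.mem_univ _, hyV⟩
  · apply le_antisymm
    · exact iSup₂_le fun U hU => hU
    · intro x hx
      obtain ⟨_, ⟨U, hU, rfl⟩, hxU, hUV⟩ := X.isBasis_affineOpens.exists_subset_of_mem_open
        hx (f ⁻¹ᵁ (V : S.Opens)).isOpen
      simp only [Opens.mem_iSup]
      exact ⟨⟨U, hU⟩, hUV, hxU⟩
  · intro U _ h
    exact H U V h

theorem S9742_main [LocallyOfFiniteType f] [F.IsQuasicoherent] :
    Flatn.IsRelFP f F ↔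
      ∀ (U : X.affineOpens) (V : S.affineOpens) (h : (U : X.Opens) ≤ f ⁻¹ᵁ (V : S.Opens)),
        Flatn.RelFPOn f F U V h :=
  ⟨fun H U V h => relOn_of_isRelFP f F H U.2 V.2 h, isRelFP_of_relOn f F⟩

end Groth.Agent.Helper3.RelFPS
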