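import Mathlib
import Groth.Prelude.Def_Flatn
import Groth.Prelude.Def_CohB1
import Groth.Agent.Lib.Helper3.RelFPS2
import Groth.Agent.Lib.Helper1.QcExt
import Groth.Agent.Lib.Lead.FLF7

/-!
# Relative finite presentation on schemes: permanence properties (helper3)
-/

set_option autoImplicit false
universe u
open CategoryTheory CategoryTheory.Limits AlgebraicGeometry TopologicalSpace Opposite
set_option backward.isDefEq.respectTransparency.types false

namespace Groth.Agent.Helper3.RelFPS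

open Scheme.Modules Groth.Agent.Lead.SD

section Comp

variable {X Y S : Scheme.{u}} (f : X ⟶ Y) (g : Y ⟶ S) (F : X.Modules)

/-- transitivity on an affine triple -/
theorem relOn_comp [LocallyOfFinitePresentation g] {U : X.Opens} (hU : IsAffineOpen U)
    {V : Y.Opens} (hV : IsAffineOpen V) {W : S.Opens} (hW : IsAffineOpen W)
    (h1 : U ≤ f ⁻¹ᵁ V) (h2 : V ≤ g ⁻¹ᵁ W) (h3 : U ≤ (f ≫ g) ⁻¹ᵁ W)
    (H : RelOn f F hU hV h1) : RelOn (f ≫ g) F hU hW h3 := by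
  letI alg1 : Algebra Γ(Y, V) Γ(X, U) := (f.appLE V U h1).hom.toAlgebra
  letI alg2 : Algebra Γ(S, W) Γ(Y, V) := (g.appLE W V h2).hom.toAlgebra
  letI alg3 : Algebra Γ(S, W) Γ(X, U) := ((f ≫ g).appLE W U h3).hom.toAlgebra
  haveI : IsScalarTower Γ(S, W) Γ(Y, V) Γ(X, U) := by
    apply IsScalarTower.of_algebraMap_eq'
    show ((f ≫ g).appLE W U h3).hom = (f.appLE V U h1).hom.comp (g.appLE W V h2).hom
    rw [← CommRingCat.hom_comp, Scheme.Hom.appLE_comp_appLE]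
  haveI : Algebra.FinitePresentation Γ(S, W) Γ(Y, V) :=
    HasRingHomProperty.appLE (P := @LocallyOfFinitePresentation) g ‹_› ⟨W, hW⟩ ⟨V, hV⟩ h2
  exact rfp_trans (A := Γ(S, W)) (A' := Γ(Y, V)) H

theorem S9746_main [LocallyOfFiniteType f] [LocallyOfFinitePresentation g]
    [F.IsQuasicoherent] (hF : Flatn.IsRelFP f F) : Flatn.IsRelFP (f ≫ g) F := by
  refine ⟨Set.univ, ?_, fun W _ =>
    ⟨{U | ∃ V : Y.affineOpens, (V : Y.Opens) ≤ g ⁻¹ᵁ (W : S.Opens) ∧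
      (U : X.Opens) ≤ f ⁻¹ᵁ (V : Y.Opens)}, ?_, ?_⟩⟩
  · rw [eq_top_iff]
    intro y _
    obtain ⟨_, ⟨V, hV, rfl⟩, hyV, -⟩ := S.isBasis_affineOpens.exists_subset_of_mem_open
      (Set.mem_univ y) isOpen_univ
    simp only [Opens.mem_iSup]
    exact ⟨⟨V, hV⟩, Set.mem_univ _, hyV⟩
  · apply le_antisymm
    · refine iSup₂_le fun U hU => ?_
      obtain ⟨V, hVW, hUV⟩ := hU
      exact hUV.trans (f.preimage_mono hVW)
    · intro x hx
      obtain ⟨_, ⟨V, hV, rfl⟩, hxV, hVW⟩ := Y.isBasis_affineOpens.exists_subset_of_mem_open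
        (show f x ∈ g ⁻¹ᵁ (W : S.Opens) from hx) (g ⁻¹ᵁ (W : S.Opens)).isOpen
      obtain ⟨_, ⟨U, hU, rfl⟩, hxU, hUV⟩ := X.isBasis_affineOpens.exists_subset_of_mem_open
        (show x ∈ f ⁻¹ᵁ V from hxV) (f ⁻¹ᵁ V).isOpen
      simp only [Opens.mem_iSup]
      exact ⟨⟨U, hU⟩, ⟨⟨V, hV⟩, hVW, hUV⟩, hxU⟩
  · rintro U ⟨V, hVW, hUV⟩ h
    exact relOn_comp f g F U.2 V.2 W.2 hUV hVW h (relOn_of_isRelFP f F hF U.2 V.2 hUV)

end Comp

section Exact

variable {X S : Scheme.{u}} (f : X ⟶ S)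

/-- a morphism of modules as a linear map on sections -/
noncomputable def appₗ {M N : X.Modules} (φ : M ⟶ N) (U : X.Opens) :
    Γ(M, U) →ₗ[Γ(X, U)] Γ(N, U) where
  toFun m := φ.app U m
  map_add' a b := map_add _ a b
  map_smul' r m := Hom.app_smul φ r m

theorem appₗ_apply {M N : X.Modules} (φ : M ⟶ N) (U : X.Opens) (m : Γ(M, U)) :
    appₗ φ U m = φ.app U m := rfl

theorem S9747_main [LocallyOfFiniteType f] (E : ShortComplex X.Modules) (hE : E.ShortExact)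
    [E.X₁.IsQuasicoherent] [E.X₂.IsQuasicoherent] [E.X₃.IsQuasicoherent]
    (h₁ : Flatn.IsRelFP f E.X₁) (h₃ : Flatn.IsRelFP f E.X₃) : Flatn.IsRelFP f E.X₂ := by
  apply isRelFP_of_relOn
  intro U V h
  have H₁ : RelOn f E.X₁ U.2 V.2 h := relOn_of_isRelFP f E.X₁ h₁ U.2 V.2 h
  have H₃ : RelOn f E.X₃ U.2 V.2 h := relOn_of_isRelFP f E.X₃ h₃ U.2 V.2 h
  show RelOn f E.X₂ U.2 V.2 h
  letI alg1 : Algebra Γ(S, (V : S.Opens)) Γ(X, (U : X.Opens)) :=
    (f.appLE (V : S.Opens) (U : X.Opens) h).hom.toAlgebra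
  refine rfp_of_ses (R := Γ(S, (V : S.Opens))) (appₗ E.f U) (appₗ E.g U)
    (Groth.Agent.Helper1.QcExt.app_injective hE U)
    (Groth.Agent.Helper1.QcExt.app_surjective hE U U.2) ?_ H₁ H₃
  ext x
  constructor
  · rintro ⟨y, rfl⟩
    exact Groth.Agent.Helper1.QcExt.app_zero E U y
  · intro hx
    obtain ⟨y, hy⟩ := Groth.Agent.Helper1.QcExt.app_exact hE U x hx
    exact ⟨y, hy⟩

theorem S9748_main [LocallyOfFiniteType f] (E : ShortComplex X.Modules) (hE : E.ShortExact)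
    [E.X₁.IsQuasicoherent] [E.X₂.IsQuasicoherent] [E.X₃.IsQuasicoherent]
    (h₁ : CohB1.IsFT E.X₁) (h₂ : Flatn.IsRelFP f E.X₂) : Flatn.IsRelFP f E.X₃ := by
  apply isRelFP_of_relOn
  intro U V h
  have H₂ : RelOn f E.X₂ U.2 V.2 h := relOn_of_isRelFP f E.X₂ h₂ U.2 V.2 h
  show RelOn f E.X₃ U.2 V.2 h
  letI alg1 : Algebra Γ(S, (V : S.Opens)) Γ(X, (U : X.Opens)) :=
    (f.appLE (V : S.Opens) (U : X.Opens) h).hom.toAlgebra
  haveI : Module.Finite Γ(X, (U : X.Opens)) Γ(E.X₁, (U : X.Opens)) :=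
    Groth.Agent.Lead.FLF.ft_sections E.X₁ h₁ U.2
  refine rfp_of_surjective (R := Γ(S, (V : S.Opens))) (appₗ E.g U)
    (Groth.Agent.Helper1.QcExt.app_surjective hE U U.2) ?_ H₂
  have hker : LinearMap.ker (appₗ E.g U) = LinearMap.range (appₗ E.f U) := by
    ext x
    constructor
    · intro hx
      obtain ⟨y, hy⟩ := Groth.Agent.Helper1.QcExt.app_exact hE U x hx
      exact ⟨y, hy⟩
    · rintro ⟨y, rfl⟩
      exact Groth.Agent.Helper1.QcExt.app_zero E U y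
  rw [hker, LinearMap.range_eq_map]
  exact (Module.Finite.fg_top).map _

theorem isQuasicoherent_biprod (F F' : X.Modules) [F.IsQuasicoherent] [F'.IsQuasicoherent] :
    (F ⊞ F').IsQuasicoherent := by
  let T : ShortComplex X.Modules :=
    ShortComplex.mk (biprod.inl : F ⟶ F ⊞ F') (biprod.snd : F ⊞ F' ⟶ F') (by simp)
  have hT : T.ShortExact := (ShortComplex.Splitting.ofHasBinaryBiproduct F F').shortExact
  haveI : T.X₁.IsQuasicoherent := inferInstanceAs F.IsQuasicoherent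
  haveI : T.X₃.IsQuasicoherent := inferInstanceAs F'.IsQuasicoherent
  exact Groth.Agent.Helper1.QcExt.isQuasicoherent_mid hT

theorem S9749_main [LocallyOfFiniteType f] (F F' : X.Modules)
    [F.IsQuasicoherent] [F'.IsQuasicoherent]
    (h : Flatn.IsRelFP f (F ⊞ F')) : Flatn.IsRelFP f F ∧ Flatn.IsRelFP f F' := by
  haveI := isQuasicoherent_biprod F F'
  constructor
  · apply isRelFP_of_relOn
    intro U V hUV
    have H : RelOn f (F ⊞ F') U.2 V.2 hUV := relOn_of_isRelFP f _ h U.2 V.2 hUV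
    show RelOn f F U.2 V.2 hUV
    letI alg1 : Algebra Γ(S, (V : S.Opens)) Γ(X, (U : X.Opens)) :=
      (f.appLE (V : S.Opens) (U : X.Opens) hUV).hom.toAlgebra
    refine rfp_of_retract (R := Γ(S, (V : S.Opens)))
      (appₗ (biprod.inl : F ⟶ F ⊞ F') U) (appₗ (biprod.fst : F ⊞ F' ⟶ F) U) ?_ H
    intro x
    rw [appₗ_apply, appₗ_apply, ← ConcreteCategory.comp_apply, ← Hom.comp_app, biprod.inl_fst]
    rfl
  · apply isRelFP_of_relOn
    intro U V hUV
    have H : RelOn f (F ⊞ F') U.2 V.2 hUV := relOn_of_isRelFP f _ h U.2 V.2 hUV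
    show RelOn f F' U.2 V.2 hUV
    letI alg1 : Algebra Γ(S, (V : S.Opens)) Γ(X, (U : X.Opens)) :=
      (f.appLE (V : S.Opens) (U : X.Opens) hUV).hom.toAlgebra
    refine rfp_of_retract (R := Γ(S, (V : S.Opens)))
      (appₗ (biprod.inr : F' ⟶ F ⊞ F') U) (appₗ (biprod.snd : F ⊞ F' ⟶ F') U) ?_ H
    intro x
    rw [appₗ_apply, appₗ_apply, ← ConcreteCategory.comp_apply, ← Hom.comp_app, biprod.inr_snd]
    rfl

end Exact

end Groth.Agent.Helper3.RelFPS
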