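import Mathlib
import Groth.Prelude.Def_FlatCA

/-! Tensor products and directed colimits of modules given concretely: vanishing at a finite
stage. -/

set_option autoImplicit false
universe u
namespace Groth.Agent.Helper3.ColimFlat

open TensorProduct

section General

variable {R : Type*} [CommRing R] {ι : Type*} [Preorder ι] [IsDirected ι (· ≤ ·)] [Nonempty ι]
  {N : ι → Type*} [∀ i, AddCommGroup (N i)] [∀ i, Module R (N i)]
  (φ : ∀ i j, i ≤ j → N i →ₗ[R] N j)
  (hφ1 : ∀ i x, φ i i le_rfl x = x)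
  (hφ2 : ∀ i j k (hij : i ≤ j) (hjk : j ≤ k) x, φ j k hjk (φ i j hij x) = φ i k (hij.trans hjk) x)
  {P : Type*} [AddCommGroup P] [Module R P] (ν : ∀ i, N i →ₗ[R] P)
  (hν : ∀ i j h x, ν j (φ i j h x) = ν i x)
  (hsurj : ∀ y : P, ∃ i x, ν i x = y)
  (hker : ∀ i x, ν i x = 0 → ∃ j, ∃ h : i ≤ j, φ i j h x = 0)

include hφ1 hφ2 hν hsurj hker in
/-- an element of `N i ⊗ M` dying in `colim N ⊗ M` dies at a finite stage -/
theorem rTensor_vanish_of_colimit (M : Type*) [AddCommGroup M] [Module R M] (i : ι)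
    (z : N i ⊗[R] M) (hz : (ν i).rTensor M z = 0) :
    ∃ j, ∃ h : i ≤ j, (φ i j h).rTensor M z = 0 := by
  classical
  haveI : DirectedSystem N (φ · · ·) := ⟨fun i x => hφ1 i x, fun k j i hij hjk x => hφ2 _ _ _ hij hjk x⟩
  let L := Module.DirectLimit.lift R ι N φ ν hν
  have hLinj : Function.Injective L := by
    rw [injective_iff_map_eq_zero]
    intro w hw
    obtain ⟨j, x, rfl⟩ := Module.DirectLimit.exists_of w
    rw [Module.DirectLimit.lift_of] at hw
    obtain ⟨k, hjk, hk⟩ := hker j x hw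
    rw [← Module.DirectLimit.of_f (hij := hjk), hk, map_zero]
  have hLsurj : Function.Surjective L := by
    intro y
    obtain ⟨j, x, rfl⟩ := hsurj y
    exact ⟨Module.DirectLimit.of R ι N φ j x, Module.DirectLimit.lift_of (f := φ) ν hν x⟩
  let e : Module.DirectLimit N φ ≃ₗ[R] P := LinearEquiv.ofBijective L ⟨hLinj, hLsurj⟩
  have h1 : (e.toLinearMap.rTensor M) ((Module.DirectLimit.of R ι N φ i).rTensor M z) = 0 := by
    rw [← LinearMap.comp_apply, ← LinearMap.rTensor_comp]
    have : e.toLinearMap ∘ₗ Module.DirectLimit.of R ι N φ i = ν i := by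
      ext x
      exact Module.DirectLimit.lift_of (f := φ) ν hν x
    rw [this, hz]
  have h2 : (Module.DirectLimit.of R ι N φ i).rTensor M z = 0 := by
    have hinj : Function.Injective (e.toLinearMap.rTensor M) := (e.rTensor M).injective
    exact hinj (h1.trans (map_zero _).symm)
  have h3 := TensorProduct.directLimitLeft_rTensor_of φ M z
  rw [h2, map_zero] at h3
  obtain ⟨j, hij, hj⟩ := Module.DirectLimit.of.zero_exact h3.symm
  exact ⟨j, hij, hj⟩

end General

section Ideals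

variable {A₀ : Type u} [CommRing A₀] (I : Ideal A₀)

/-- the map induced on extended ideals by an algebra homomorphism -/
def idealMapHom {C C' : Type*} [CommRing C] [CommRing C'] [Algebra A₀ C] [Algebra A₀ C']
    (ψ : C →ₐ[A₀] C') :
    ↥(I.map (algebraMap A₀ C)) →ₗ[A₀] ↥(I.map (algebraMap A₀ C')) where
  toFun x := ⟨ψ x.1, by
    have h := Ideal.mem_map_of_mem ψ.toRingHom x.2
    rwa [Ideal.map_map, show ψ.toRingHom.comp (algebraMap A₀ C) = algebraMap A₀ C' from
      ψ.comp_algebraMap] at h⟩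
  map_add' x y := Subtype.ext (by simp)
  map_smul' a x := Subtype.ext (by simp)

@[simp] theorem idealMapHom_coe {C C' : Type*} [CommRing C] [CommRing C'] [Algebra A₀ C]
    [Algebra A₀ C'] (ψ : C →ₐ[A₀] C') (x : ↥(I.map (algebraMap A₀ C))) :
    ((idealMapHom I ψ x : ↥(I.map (algebraMap A₀ C'))) : C') = ψ x.1 := rfl

theorem idealMapHom_comp_idealMap {C C' : Type*} [CommRing C] [CommRing C'] [Algebra A₀ C]
    [Algebra A₀ C'] (ψ : C →ₐ[A₀] C') :
    (idealMapHom I ψ) ∘ₗ (Algebra.idealMap C I) = Algebra.idealMap C' I := by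
  ext x
  simp

variable {ι : Type u} [Preorder ι] (G : ι → Type u) [∀ i, CommRing (G i)]
  [∀ i, Algebra A₀ (G i)] (g : ∀ i j, i ≤ j → G i →ₐ[A₀] G j)
  (A : Type u) [CommRing A] [Algebra A₀ A] [∀ i, Algebra (G i) A] [∀ i, IsScalarTower A₀ (G i) A]
  (hcolim : FlatCA.IsDirectedColimitRing G (fun i j h => (g i j h).toRingHom) A)

include hcolim in
/-- an element of `I G_i ⊗ M` dying in `I A ⊗ M` dies at a finite stage -/
theorem exists_stage_vanish (M : Type*) [AddCommGroup M] [Module A₀ M] (i : ι)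
    (z : ↥(I.map (algebraMap A₀ (G i))) ⊗[A₀] M)
    (hz : (idealMapHom I (IsScalarTower.toAlgHom A₀ (G i) A)).rTensor M z = 0) :
    ∃ j, ∃ h : i ≤ j, (idealMapHom I (g i j h)).rTensor M z = 0 := by
  obtain ⟨hdir, hne, hid, hcomp, hcompat, hsurj, hker⟩ := hcolim
  haveI := hdir
  haveI := hne
  refine rTensor_vanish_of_colimit (N := fun i => ↥(I.map (algebraMap A₀ (G i))))
    (fun i j h => idealMapHom I (g i j h)) ?_ ?_
    (fun i => idealMapHom I (IsScalarTower.toAlgHom A₀ (G i) A)) ?_ ?_ ?_ M i z hz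
  · intro i x
    apply Subtype.ext
    have := congrArg (fun φ : G i →+* G i => φ x.1) (hid i)
    simpa using this
  · intro i j k hij hjk x
    apply Subtype.ext
    have := congrArg (fun φ : G i →+* G k => φ x.1) (hcomp i j k hij hjk)
    simpa using this
  · intro i j h x
    apply Subtype.ext
    have := congrArg (fun φ : G i →+* A => φ x.1) (hcompat i j h)
    simpa using this
  · intro y
    obtain ⟨y, hy⟩ := y
    induction hy using Submodule.span_induction with
    | mem y hy =>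
      obtain ⟨a, ha, rfl⟩ := hy
      obtain ⟨i⟩ := hne
      refine ⟨i, ⟨algebraMap A₀ (G i) a, Ideal.mem_map_of_mem _ ha⟩, Subtype.ext ?_⟩
      simp
    | zero => 
      obtain ⟨i⟩ := hne
      exact ⟨i, 0, map_zero _⟩
    | add y₁ y₂ hy₁ hy₂ h₁ h₂ =>
      obtain ⟨i₁, x₁, hx₁⟩ := h₁
      obtain ⟨i₂, x₂, hx₂⟩ := h₂
      obtain ⟨k, hk₁, hk₂⟩ := exists_ge_ge i₁ i₂
      refine ⟨k, idealMapHom I (g i₁ k hk₁) x₁ + idealMapHom I (g i₂ k hk₂) x₂, Subtype.ext ?_⟩
      have e₁ := congrArg (fun φ : G i₁ →+* A => φ x₁.1) (hcompat i₁ k hk₁)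
      have e₂ := congrArg (fun φ : G i₂ →+* A => φ x₂.1) (hcompat i₂ k hk₂)
      have hx₁' := congrArg Subtype.val hx₁
      have hx₂' := congrArg Subtype.val hx₂
      simp only [idealMapHom_coe, IsScalarTower.coe_toAlgHom'] at hx₁' hx₂'
      simp only [RingHom.comp_apply, AlgHom.toRingHom_eq_coe, RingHom.coe_coe] at e₁ e₂
      simp [e₁, e₂, hx₁', hx₂']
    | smul a y hy h =>
      obtain ⟨i₁, x₁, hx₁⟩ := h
      obtain ⟨i₂, a₂, rfl⟩ := hsurj a
      obtain ⟨k, hk₁, hk₂⟩ := exists_ge_ge i₁ i₂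
      refine ⟨k, (g i₂ k hk₂ a₂) • idealMapHom I (g i₁ k hk₁) x₁, Subtype.ext ?_⟩
      have e₁ := congrArg (fun φ : G i₁ →+* A => φ x₁.1) (hcompat i₁ k hk₁)
      have e₂ := congrArg (fun φ : G i₂ →+* A => φ a₂) (hcompat i₂ k hk₂)
      have hx₁' := congrArg Subtype.val hx₁
      simp only [idealMapHom_coe, IsScalarTower.coe_toAlgHom'] at hx₁'
      simp only [RingHom.comp_apply, AlgHom.toRingHom_eq_coe, RingHom.coe_coe] at e₁ e₂
      simp [e₁, e₂, hx₁']
  · intro i x hx
    have hx' : algebraMap (G i) A x.1 = 0 := by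
      have := congrArg Subtype.val hx
      simpa using this
    obtain ⟨j, h, hj⟩ := hker i x.1 hx'
    exact ⟨j, h, Subtype.ext (by simpa using hj)⟩

end Ideals

end Groth.Agent.Helper3.ColimFlat
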