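import Mathlib
import Groth.Prelude.Def_FlatCA
import Groth.Agent.Lib.Helper3.ColimFlat1
import Groth.Agent.Lib.Helper1.LocalCrit

/-! Vanishing of the Tor comparison map at a finite stage of a directed colimit. -/

set_option autoImplicit false
universe u
namespace Groth.Agent.Helper3.ColimFlat

open TensorProduct

section

variable {A₀ : Type u} [CommRing A₀] [IsNoetherianRing A₀] (I : Ideal A₀)
  {ι : Type u} [Preorder ι] (G : ι → Type u) [∀ i, CommRing (G i)]
  [∀ i, Algebra A₀ (G i)] (g : ∀ i j, i ≤ j → G i →ₐ[A₀] G j)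
  (A : Type u) [CommRing A] [Algebra A₀ A] [∀ i, Algebra (G i) A] [∀ i, IsScalarTower A₀ (G i) A]
  (hcolim : FlatCA.IsDirectedColimitRing G (fun i j h => (g i j h).toRingHom) A)
  (M₀ : Type u) [AddCommGroup M₀] [Module A₀ M₀]

omit [IsNoetherianRing A₀] in
/-- flatness over the colimit kills the Tor comparison map to the colimit -/
theorem idealMap_rTensor_eq_zero_of_flat [Module.Flat A (A ⊗[A₀] M₀)]
    (t : ↥I ⊗[A₀] M₀) (ht : I.subtype.rTensor M₀ t = 0) :
    (Algebra.idealMap A I).rTensor M₀ t = 0 := by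
  have hinj := Groth.Agent.Helper1.LocalCrit.rTensor_restrictScalars_injective (R := A₀) A M₀
    (I.map (algebraMap A₀ A)).subtype (Submodule.subtype_injective _)
  apply hinj
  rw [map_zero, ← LinearMap.comp_apply, ← LinearMap.rTensor_comp]
  have : ((I.map (algebraMap A₀ A)).subtype.restrictScalars A₀) ∘ₗ (Algebra.idealMap A I) =
      (Algebra.linearMap A₀ A) ∘ₗ I.subtype := by
    ext x
    simp
  rw [this, LinearMap.rTensor_comp, LinearMap.comp_apply, ht, map_zero]

theorem comm_rTensor {R : Type*} [CommRing R] {N N' M : Type*} [AddCommGroup N] [Module R N]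
    [AddCommGroup N'] [Module R N'] [AddCommGroup M] [Module R M] (φ : N →ₗ[R] N')
    (z : N ⊗[R] M) :
    TensorProduct.comm R N' M (φ.rTensor M z) = φ.lTensor M (TensorProduct.comm R N M z) := by
  induction z using TensorProduct.induction_on with
  | zero => simp
  | tmul x y => simp
  | add x y hx hy => simp only [map_add, hx, hy]

include hcolim in
/-- the Tor comparison maps vanish from some stage on -/
theorem exists_stage_tor_vanish (B₀ : Type u) [CommRing B₀] [Algebra A₀ B₀]
    [Algebra.FiniteType A₀ B₀] [Module B₀ M₀] [IsScalarTower A₀ B₀ M₀]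
    [Module.Finite B₀ M₀] [Module.Flat A (A ⊗[A₀] M₀)] :
    ∃ i, ∀ j, i ≤ j → ∀ t : ↥I ⊗[A₀] M₀, I.subtype.rTensor M₀ t = 0 →
      (Algebra.idealMap (G j) I).rTensor M₀ t = 0 := by
  classical
  have hcolim' := hcolim
  obtain ⟨hdir, hne, hid, hcomp, hcompat, hsurj, hker⟩ := hcolim
  haveI := hdir
  haveI := hne
  obtain ⟨i₀⟩ := hne
  haveI : IsNoetherianRing B₀ := Algebra.FiniteType.isNoetherianRing A₀ B₀
  haveI : Module.Finite A₀ I := Module.Finite.iff_fg.mpr (IsNoetherian.noetherian I)
  haveI : Module.Finite B₀ (M₀ ⊗[A₀] I) :=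
    Groth.Agent.Helper1.LocalCrit.finite_tensorProduct (R := A₀) (S := B₀) M₀ I
  haveI : IsNoetherian B₀ (M₀ ⊗[A₀] I) := isNoetherian_of_isNoetherianRing_of_finite B₀ _
  let K : Submodule B₀ (M₀ ⊗[A₀] I) :=
    LinearMap.ker (TensorProduct.AlgebraTensorModule.lTensor B₀ M₀ I.subtype)
  let Z : ι → Submodule B₀ (M₀ ⊗[A₀] I) := fun j =>
    LinearMap.ker (TensorProduct.AlgebraTensorModule.lTensor B₀ M₀ (Algebra.idealMap (G j) I))
  have hmono : ∀ j j' (h : j ≤ j'), Z j ≤ Z j' := by
    intro j j' h k hk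
    have hk' : (Algebra.idealMap (G j) I).lTensor M₀ k = 0 := hk
    show (Algebra.idealMap (G j') I).lTensor M₀ k = 0
    rw [← idealMapHom_comp_idealMap I (g j j' h), LinearMap.lTensor_comp, LinearMap.comp_apply, hk',
      map_zero]
  have key : ∀ k ∈ K, ∃ j, k ∈ Z j := by
    intro k hk
    have hk' : I.subtype.lTensor M₀ k = 0 := hk
    set t := (TensorProduct.comm A₀ M₀ I) k with ht
    have ht0 : I.subtype.rTensor M₀ t = 0 := by
      apply (TensorProduct.comm A₀ A₀ M₀).injective
      rw [comm_rTensor, map_zero]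
      have hkk : TensorProduct.comm A₀ I M₀ t = k := by
        rw [ht]
        exact (TensorProduct.comm A₀ M₀ I).symm_apply_apply k
      rw [hkk]
      exact hk'
    have hA := idealMap_rTensor_eq_zero_of_flat I A M₀ t ht0
    obtain ⟨j, hj, hz⟩ := exists_stage_vanish I G g A hcolim' M₀ i₀
      ((Algebra.idealMap (G i₀) I).rTensor M₀ t) (by
        rw [← LinearMap.comp_apply, ← LinearMap.rTensor_comp, idealMapHom_comp_idealMap, hA])
    refine ⟨j, ?_⟩
    rw [← LinearMap.comp_apply, ← LinearMap.rTensor_comp, idealMapHom_comp_idealMap] at hz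
    show (Algebra.idealMap (G j) I).lTensor M₀ k = 0
    have := congrArg (TensorProduct.comm A₀ _ M₀) hz
    rw [comm_rTensor, map_zero, ht] at this
    simpa using this
  obtain ⟨F, hF⟩ := (IsNoetherian.noetherian K : K.FG)
  have hFK : ∀ k ∈ F, k ∈ K := fun k hk => hF ▸ Submodule.subset_span hk
  let J : M₀ ⊗[A₀] I → ι := fun k => if h : k ∈ K then (key k h).choose else i₀
  obtain ⟨i, hi⟩ := Finset.exists_le (F.image J)
  refine ⟨i, fun j hij t ht => ?_⟩
  have hKZ : K ≤ Z j := by
    rw [← hF, Submodule.span_le]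
    intro k hk
    have h1 : k ∈ Z (J k) := by
      simp only [J, dif_pos (hFK k hk)]
      exact (key k (hFK k hk)).choose_spec
    exact hmono _ _ ((hi _ (Finset.mem_image_of_mem J hk)).trans hij) h1
  have htK : (TensorProduct.comm A₀ I M₀) t ∈ K := by
    show I.subtype.lTensor M₀ (TensorProduct.comm A₀ I M₀ t) = 0
    rw [← comm_rTensor, ht, map_zero]
  have h2 : (Algebra.idealMap (G j) I).lTensor M₀ (TensorProduct.comm A₀ I M₀ t) = 0 := hKZ htK
  rw [← comm_rTensor] at h2
  exact (TensorProduct.comm A₀ _ M₀).injective (h2.trans (map_zero _).symm)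

end

end Groth.Agent.Helper3.ColimFlat
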