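import Mathlib
import Groth.Agent.Lib.Helper4.FlatBC1

/-! Base change of a localized module; localization of the Tor kernel. -/

set_option autoImplicit false
universe u
namespace Groth.Agent.Helper3.ColimFlat

open TensorProduct Groth.Agent.Lib.Helper4.FlatBC1

section BC

variable {B : Type u} [CommRing B] (S' : Type u) [CommRing S'] [Algebra B S'] (W : Submonoid B)
  (hW : ∀ w ∈ W, IsUnit (algebraMap B S' w))
  {M₀ Mf M' : Type u} [AddCommGroup M₀] [Module B M₀] [AddCommGroup Mf] [Module B Mf]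
  [AddCommGroup M'] [Module B M'] [Module S' M'] [IsScalarTower B S' M']
  (ℓ : M₀ →ₗ[B] Mf) [IsLocalizedModule W ℓ] (f₀ : M₀ →ₗ[B] M') (hf₀ : IsBaseChange S' f₀)

include hW in
theorem isUnit_algebraMap_end (Q : Type*) [AddCommGroup Q] [Module B Q] [Module S' Q]
    [IsScalarTower B S' Q] (w : W) : IsUnit (algebraMap B (Module.End B Q) w) := by
  obtain ⟨u, hu⟩ := hW w.1 w.2
  rw [Module.End.isUnit_iff]
  constructor
  · intro x y hxy
    simp only [Module.algebraMap_end_apply] at hxy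
    have := congrArg (fun z => ((u⁻¹ : S'ˣ) : S') • z) hxy
    simp only [← algebraMap_smul S' (w : B), ← hu, smul_smul, Units.inv_mul, one_smul] at this
    exact this
  · intro y
    refine ⟨((u⁻¹ : S'ˣ) : S') • y, ?_⟩
    simp only [Module.algebraMap_end_apply]
    rw [← algebraMap_smul S' (w : B), ← hu, smul_smul, Units.mul_inv, one_smul]

include hW hf₀ in
/-- a base change to an algebra in which `W` becomes invertible factors through the
localization at `W`, and the factorization is again a base change -/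
theorem exists_isBaseChange_of_isLocalizedModule :
    ∃ f₁ : Mf →ₗ[B] M', f₁ ∘ₗ ℓ = f₀ ∧ IsBaseChange S' f₁ := by
  refine ⟨IsLocalizedModule.lift W ℓ f₀ (isUnit_algebraMap_end S' W hW M'),
    IsLocalizedModule.lift_comp W ℓ f₀ _, ?_⟩
  set f₁ := IsLocalizedModule.lift W ℓ f₀ (isUnit_algebraMap_end S' W hW M') with hf₁
  have hcomp : f₁ ∘ₗ ℓ = f₀ := IsLocalizedModule.lift_comp W ℓ f₀ _
  apply IsBaseChange.of_lift_unique
  intro Q _ _ _ _ h
  letI : AddCommGroup Q := Module.addCommMonoidToAddCommGroup S'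
  refine ⟨hf₀.lift (h ∘ₗ ℓ), ?_, ?_⟩
  · apply IsLocalizedModule.ext W ℓ (isUnit_algebraMap_end S' W hW Q)
    rw [LinearMap.comp_assoc, hcomp]
    exact hf₀.lift_comp (h ∘ₗ ℓ)
  · intro h'' hh''
    apply hf₀.algHom_ext'
    rw [hf₀.lift_comp, ← hh'', LinearMap.comp_assoc, hcomp]

end BC

section Tor

variable {A₀ : Type u} [CommRing A₀] (I : Ideal A₀) {B₀ : Type u} [CommRing B₀] [Algebra A₀ B₀]
  (W : Submonoid B₀)
  {M₀ Mf : Type u} [AddCommGroup M₀] [Module B₀ M₀] [Module A₀ M₀] [IsScalarTower A₀ B₀ M₀]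
  [AddCommGroup Mf] [Module B₀ Mf] [Module A₀ Mf] [IsScalarTower A₀ B₀ Mf]
  (ℓ : M₀ →ₗ[B₀] Mf) [IsLocalizedModule W ℓ]

/-- the Tor kernel of a localized module is the localization of the Tor kernel -/
theorem exists_smul_eq_lTensor (x : ↥I ⊗[A₀] Mf) (hx : I.subtype.rTensor Mf x = 0) :
    ∃ (w : W) (t : ↥I ⊗[A₀] M₀), I.subtype.rTensor M₀ t = 0 ∧
      (ℓ.restrictScalars A₀).lTensor I t = (lam A₀ Mf (w : B₀)).lTensor I x := by
  obtain ⟨w, y, hy⟩ := loc1 (A := A₀) W ℓ I x
  have h1 : (ℓ.restrictScalars A₀).lTensor A₀ (I.subtype.rTensor M₀ y) = 0 := by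
    rw [← LinearMap.comp_apply, LinearMap.lTensor_comp_rTensor, ← LinearMap.rTensor_comp_lTensor,
      LinearMap.comp_apply, hy, ← LinearMap.comp_apply, LinearMap.rTensor_comp_lTensor,
      ← LinearMap.lTensor_comp_rTensor, LinearMap.comp_apply, hx, map_zero]
  obtain ⟨w', hw'⟩ := loc2 (A := A₀) W ℓ A₀ _ h1
  refine ⟨w' * w, (lam A₀ M₀ (w' : B₀)).lTensor I y, ?_, ?_⟩
  · rw [← LinearMap.comp_apply, LinearMap.rTensor_comp_lTensor, ← LinearMap.lTensor_comp_rTensor,
      LinearMap.comp_apply, hw']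
  · have hc : (ℓ.restrictScalars A₀) ∘ₗ (lam A₀ M₀ (w' : B₀)) =
        (lam A₀ Mf (w' : B₀)) ∘ₗ (ℓ.restrictScalars A₀) := by
      ext n
      simp
    rw [← LinearMap.comp_apply, ← LinearMap.lTensor_comp, hc, LinearMap.lTensor_comp,
      LinearMap.comp_apply, hy, ← LinearMap.comp_apply, ← LinearMap.lTensor_comp, ← lam_mul,
      Submonoid.coe_mul]

end Tor

end Groth.Agent.Helper3.ColimFlat
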