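import Mathlib
import Groth.Agent.Lib.Helper4.FlatBC1
import Groth.Agent.Lib.Helper3.ColimFlat3

/-! Flatness of a localized base change from vanishing of the Tor comparison map, when the
fibre module is flat only after a localization. -/

set_option autoImplicit false
universe u
namespace Groth.Agent.Helper3.ColimFlat

open TensorProduct Groth.Agent.Lib.Helper4.FlatBC1 Groth.Agent.Helper1.LocalCrit

section Stage

variable (R S R' S' : Type u) [CommRing R] [CommRing S] [CommRing R'] [CommRing S']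
  [Algebra R S] [Algebra R R'] [Algebra S S'] [Algebra R' S'] [Algebra R S']
  [IsScalarTower R S S'] [IsScalarTower R R' S']
  [Algebra (S ⊗[R] R') S']
  (hφ : ∀ (s : S) (r' : R'), algebraMap (S ⊗[R] R') S' (s ⊗ₜ r') =
    algebraMap S S' s * algebraMap R' S' r')
  (W : Submonoid (S ⊗[R] R')) [IsLocalization W S']
  (I : Ideal R) (M₀ : Type u) [AddCommGroup M₀] [Module S M₀] [Module R M₀] [IsScalarTower R S M₀]
  (M' : Type u) [AddCommGroup M'] [Module S' M'] [Module R' M'] [IsScalarTower R' S' M']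
  [Module S M'] [IsScalarTower S S' M'] [Module R M'] [IsScalarTower R R' M'] [IsScalarTower R S M']
  (f₀ : M₀ →ₗ[S] M') (hf₀ : IsBaseChange S' f₀)

include hφ W hf₀ in
theorem flat_of_stage (V : Submonoid S) (hV : ∀ v ∈ V, IsUnit (algebraMap S S' v))
    (Mf : Type u) [AddCommGroup Mf] [Module S Mf] [Module R Mf] [IsScalarTower R S Mf]
    (ℓ : M₀ →ₗ[S] Mf) [IsLocalizedModule V ℓ]
    [IsNoetherianRing R'] [IsNoetherianRing S'] [IsLocalRing S']
    [Module.Finite S M₀] [Module.Flat (R ⧸ I) ((R ⧸ I) ⊗[R] Mf)]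
    (hI : (I.map (algebraMap R R')).map (algebraMap R' S') ≠ ⊤)
    (hC : ∀ t : ↥I ⊗[R] M₀, I.subtype.rTensor M₀ t = 0 →
      (Algebra.idealMap R' I).rTensor M₀ t = 0) :
    Module.Flat R' M' := by
  obtain ⟨f₁, hcomp, hf₁⟩ := exists_isBaseChange_of_isLocalizedModule S' V hV ℓ f₀ hf₀
  haveI : Module.Finite S' M' := Module.Finite.equiv hf₀.equiv
  haveI := flat_quot_M' R S R' S' hφ W I Mf M' f₁ hf₁
  have hf₁ℓ : ∀ m, f₁ (ℓ m) = f₀ m := fun m => LinearMap.congr_fun hcomp m
  have nat1 : ∀ (v : S) (z : ↥I ⊗[R] Mf), Hmap R S R' I Mf M' f₁ ((lam R Mf v).lTensor I z) =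
      (lam R' M' (algebraMap S S' v)).lTensor _ (Hmap R S R' I Mf M' f₁ z) := by
    intro v z
    induction z using TensorProduct.induction_on with
    | zero => simp
    | tmul a m =>
      rw [LinearMap.lTensor_tmul, Hmap_tmul, Hmap_tmul, LinearMap.lTensor_tmul, lam_apply,
        lam_apply, map_smul, algebraMap_smul]
    | add x y hx hy => simp only [map_add, hx, hy]
  have nat2 : ∀ t : ↥I ⊗[R] M₀, Hmap R S R' I Mf M' f₁ ((ℓ.restrictScalars R).lTensor I t) =
      (TensorProduct.mapOfCompatibleSMul R' R R ↥(I.map (algebraMap R R')) M')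
        ((f₀.restrictScalars R).lTensor _ ((Algebra.idealMap R' I).rTensor M₀ t)) := by
    intro t
    induction t using TensorProduct.induction_on with
    | zero => simp
    | tmul a m =>
      rw [LinearMap.lTensor_tmul, Hmap_tmul, LinearMap.rTensor_tmul, LinearMap.lTensor_tmul]
      simp [hf₁ℓ]
    | add x y hx hy => simp only [map_add, hx, hy]
  have h3 : ∀ x : ↥I ⊗[R] Mf, (Submodule.subtype I).rTensor Mf x = 0 →
      (TensorProduct.mapOfCompatibleSMul R' R R ↥(I.map (algebraMap R R')) M')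
        ((TensorProduct.map (Algebra.idealMap R' I) (f₁.restrictScalars R)) x) = 0 := by
    intro x hx
    obtain ⟨v, t, ht0, ht⟩ := exists_smul_eq_lTensor I V ℓ x hx
    have h1 : Hmap R S R' I Mf M' f₁ ((lam R Mf (v : S)).lTensor I x) = 0 := by
      rw [← ht, nat2, hC t ht0, map_zero, map_zero]
    rw [nat1] at h1
    exact lTensor_lam_injective M' _ _ (hV v.1 v.2) (h1.trans (map_zero _).symm)
  exact flat_of_rTensor_injective_of_flat_quotient (S := S') (I.map (algebraMap R R')) hI
    (main_inj R S R' S' hφ W I Mf M' f₁ hf₁ h3)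

end Stage

end Groth.Agent.Helper3.ColimFlat
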