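import Mathlib
import Groth.Agent.Lib.Helper3.ColimFlat4

/-! The stage lemma for the localization of `B₀ ⊗ C` at a prime. -/

set_option autoImplicit false
universe u
namespace Groth.Agent.Helper3.ColimFlat

open TensorProduct

attribute [local instance] Algebra.TensorProduct.rightAlgebra

section

variable {A₀ : Type u} [CommRing A₀] (I : Ideal A₀) {B₀ : Type u} [CommRing B₀] [Algebra A₀ B₀]
  [Algebra.FiniteType A₀ B₀]
  (M₀ : Type u) [AddCommGroup M₀] [Module B₀ M₀] [Module A₀ M₀] [IsScalarTower A₀ B₀ M₀]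
  [Module.Finite B₀ M₀]

theorem isNoetherianRing_tensor (C : Type u) [CommRing C] [Algebra A₀ C] [IsNoetherianRing C] :
    IsNoetherianRing (B₀ ⊗[A₀] C) := by
  haveI : Algebra.FiniteType C (C ⊗[A₀] B₀) := inferInstance
  haveI : IsNoetherianRing (C ⊗[A₀] B₀) := Algebra.FiniteType.isNoetherianRing C _
  exact isNoetherianRing_of_ringEquiv _ (Algebra.TensorProduct.comm A₀ C B₀).toRingEquiv

theorem flat_localization_tensor (f : A₀)
    (Mf : Type u) [AddCommGroup Mf] [Module B₀ Mf] [Module A₀ Mf] [IsScalarTower A₀ B₀ Mf]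
    (ℓ : M₀ →ₗ[B₀] Mf) [IsLocalizedModule (Submonoid.powers (algebraMap A₀ B₀ f)) ℓ]
    [Module.Flat (A₀ ⧸ I) ((A₀ ⧸ I) ⊗[A₀] Mf)]
    (C : Type u) [CommRing C] [Algebra A₀ C] [IsNoetherianRing C]
    (hC : ∀ t : ↥I ⊗[A₀] M₀, I.subtype.rTensor M₀ t = 0 →
      (Algebra.idealMap C I).rTensor M₀ t = 0)
    (q : Ideal (B₀ ⊗[A₀] C)) [q.IsPrime] (hIq : I.map (algebraMap A₀ (B₀ ⊗[A₀] C)) ≤ q)
    (hfq : algebraMap A₀ (B₀ ⊗[A₀] C) f ∉ q) :
    Module.Flat C (Localization.AtPrime q ⊗[B₀] M₀) := by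
  haveI := isNoetherianRing_tensor (A₀ := A₀) (B₀ := B₀) C
  haveI : IsNoetherianRing (Localization.AtPrime q) :=
    IsLocalization.isNoetherianRing q.primeCompl _ inferInstance
  have hφ : ∀ (s : B₀) (r' : C), algebraMap (B₀ ⊗[A₀] C) (Localization.AtPrime q) (s ⊗ₜ r') =
      algebraMap B₀ (Localization.AtPrime q) s * algebraMap C (Localization.AtPrime q) r' := by
    intro s r'
    rw [IsScalarTower.algebraMap_apply B₀ (B₀ ⊗[A₀] C) (Localization.AtPrime q),
      IsScalarTower.algebraMap_apply C (B₀ ⊗[A₀] C) (Localization.AtPrime q), ← map_mul]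
    congr 1
    rw [Algebra.TensorProduct.algebraMap_apply, Algebra.TensorProduct.algebraMap_eq_includeRight]
    simp
  have hV : ∀ v ∈ Submonoid.powers (algebraMap A₀ B₀ f),
      IsUnit (algebraMap B₀ (Localization.AtPrime q) v) := by
    rintro _ ⟨n, rfl⟩
    rw [map_pow]
    apply IsUnit.pow
    rw [IsScalarTower.algebraMap_apply B₀ (B₀ ⊗[A₀] C) (Localization.AtPrime q)]
    apply IsLocalization.map_units (Localization.AtPrime q) (⟨_, ?_⟩ : q.primeCompl)
    rw [← IsScalarTower.algebraMap_apply]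
    exact hfq
  refine flat_of_stage A₀ B₀ C (Localization.AtPrime q) hφ q.primeCompl I M₀
    (Localization.AtPrime q ⊗[B₀] M₀) (TensorProduct.mk B₀ (Localization.AtPrime q) M₀ 1)
    (TensorProduct.isBaseChange B₀ M₀ (Localization.AtPrime q))
    (Submonoid.powers (algebraMap A₀ B₀ f)) hV Mf ℓ ?_ hC
  intro htop
  have h1 : (I.map (algebraMap A₀ C)).map (algebraMap C (Localization.AtPrime q)) ≤
      IsLocalRing.maximalIdeal (Localization.AtPrime q) := by
    rw [Ideal.map_map, ← IsScalarTower.algebraMap_eq,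
      IsScalarTower.algebraMap_eq A₀ (B₀ ⊗[A₀] C) (Localization.AtPrime q), ← Ideal.map_map,
      ← Localization.AtPrime.map_eq_maximalIdeal]
    exact Ideal.map_mono hIq
  rw [htop] at h1
  exact (IsLocalRing.maximalIdeal.isMaximal _).ne_top (top_le_iff.mp h1)

end

end Groth.Agent.Helper3.ColimFlat
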