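import Mathlib
import Groth.Agent.Lib.Helper9.GenFree.Main2
import Groth.Agent.Lib.Helper9.GenFree.Conv
import Groth.Agent.Lib.Helper7.FlatAtBC.Main

/-! Generic flatness in the form needed for the stage lemma. -/

set_option autoImplicit false
universe u
namespace Groth.Agent.Helper3.ColimFlat

open TensorProduct

attribute [local instance] Algebra.TensorProduct.rightAlgebra

section

variable {A₀ : Type u} [CommRing A₀] {B₀ : Type u} [CommRing B₀] [Algebra A₀ B₀]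
  [Algebra.FiniteType A₀ B₀]
  (M₀ : Type u) [AddCommGroup M₀] [Module B₀ M₀] [Module A₀ M₀] [IsScalarTower A₀ B₀ M₀]
  [Module.Finite B₀ M₀]

omit [Algebra.FiniteType A₀ B₀] [Module.Finite B₀ M₀] in
/-- the base change of a localization of `M₀` is flat if the localization of the base change is -/
theorem flat_tensor_localizedModule (R' : Type u) [CommRing R'] [Algebra A₀ R'] (f : A₀)
    (Mf : Type u) [AddCommGroup Mf] [Module B₀ Mf] [Module A₀ Mf] [IsScalarTower A₀ B₀ Mf]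
    (ℓ : M₀ →ₗ[B₀] Mf) [IsLocalizedModule (Submonoid.powers (algebraMap A₀ B₀ f)) ℓ]
    (h : Module.Flat R' (LocalizedModule (Submonoid.powers (algebraMap A₀ R' f)) (R' ⊗[A₀] M₀))) :
    Module.Flat R' (R' ⊗[A₀] Mf) := by
  haveI h1 : IsLocalizedModule (Submonoid.powers f) (ℓ.restrictScalars A₀) :=
    IsLocalizedModule.restrictScalars_powers f ℓ
  haveI h2 : IsLocalizedModule (Submonoid.powers f) ((ℓ.restrictScalars A₀).lTensor R') :=
    Groth.Agent.Helper7.FlatAtBC.isLocalizedModule_lTensor _ _ R'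
  let φ : R' ⊗[A₀] M₀ →ₗ[R'] R' ⊗[A₀] Mf :=
    TensorProduct.AlgebraTensorModule.lTensor R' R' (ℓ.restrictScalars A₀)
  haveI h3 : IsLocalizedModule (Submonoid.powers f) (φ.restrictScalars A₀) := h2
  haveI h4 : IsLocalizedModule (Algebra.algebraMapSubmonoid R' (Submonoid.powers f)) φ :=
    IsLocalizedModule.of_restrictScalars (Submonoid.powers f) φ
  rw [Algebra.algebraMapSubmonoid_powers] at h4
  exact Module.Flat.of_linearEquiv
    (IsLocalizedModule.iso (Submonoid.powers (algebraMap A₀ R' f)) φ).symm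

/-- generic flatness -/
theorem exists_flat_localizedModule (p : Ideal A₀) [p.IsPrime] :
    ∃ f : A₀, f ∉ p ∧ ∀ (Mf : Type u) [AddCommGroup Mf] [Module B₀ Mf] [Module A₀ Mf]
      [IsScalarTower A₀ B₀ Mf] (ℓ : M₀ →ₗ[B₀] Mf)
      [IsLocalizedModule (Submonoid.powers (algebraMap A₀ B₀ f)) ℓ],
      Module.Flat (A₀ ⧸ p) ((A₀ ⧸ p) ⊗[A₀] Mf) := by
  have hgood := Groth.Agent.Helper9.GenFree.goodRing_of_finiteType' (A₀ ⧸ p)
    ((A₀ ⧸ p) ⊗[A₀] B₀) (((A₀ ⧸ p) ⊗[A₀] B₀) ⊗[B₀] M₀)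
  have hgood' : Groth.Agent.Helper9.GenFree.HasABasis (A₀ ⧸ p) ((A₀ ⧸ p) ⊗[A₀] M₀) :=
    hgood.of_equiv (Algebra.IsPushout.cancelBaseChange A₀ (A₀ ⧸ p) B₀ ((A₀ ⧸ p) ⊗[A₀] B₀) M₀)
  obtain ⟨a, ha, hfree⟩ := hgood'.exists_free
  obtain ⟨f, rfl⟩ := Ideal.Quotient.mk_surjective a
  refine ⟨f, fun hf => ha (Ideal.Quotient.eq_zero_iff_mem.mpr hf), ?_⟩
  intro Mf _ _ _ _ ℓ _
  apply flat_tensor_localizedModule M₀ (A₀ ⧸ p) f Mf ℓ
  haveI : Module.Flat (Localization.Away (Ideal.Quotient.mk p f))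
      (LocalizedModule (Submonoid.powers (Ideal.Quotient.mk p f)) ((A₀ ⧸ p) ⊗[A₀] M₀)) :=
    inferInstance
  exact Module.Flat.trans (A₀ ⧸ p) (Localization.Away (Ideal.Quotient.mk p f)) _

end

end Groth.Agent.Helper3.ColimFlat
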