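import Mathlib
import Groth.Prelude.Def_FlatCA
import Groth.Agent.Lib.Helper3.ColimFlat2
import Groth.Agent.Lib.Helper3.ColimFlat5
import Groth.Agent.Lib.Helper3.ColimFlat6

/-! Core theorem: flatness descends to a finite stage of a directed colimit of Noetherian
rings. -/

set_option autoImplicit false
universe u
namespace Groth.Agent.Helper3.ColimFlat

open TensorProduct

attribute [local instance] Algebra.TensorProduct.rightAlgebra

section

variable {A₀ : Type u} [CommRing A₀] [IsNoetherianRing A₀]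
  {ι : Type u} [Preorder ι] (G : ι → Type u) [∀ i, CommRing (G i)]
  [∀ i, Algebra A₀ (G i)] [∀ i, IsNoetherianRing (G i)] (g : ∀ i j, i ≤ j → G i →ₐ[A₀] G j)
  (A : Type u) [CommRing A] [Algebra A₀ A] [∀ i, Algebra (G i) A] [∀ i, IsScalarTower A₀ (G i) A]
  (hcolim : FlatCA.IsDirectedColimitRing G (fun i j h => (g i j h).toRingHom) A)
  (B₀ : Type u) [CommRing B₀] [Algebra A₀ B₀] [Algebra.FiniteType A₀ B₀]
  (M₀ : Type u) [AddCommGroup M₀] [Module A₀ M₀] [Module B₀ M₀] [IsScalarTower A₀ B₀ M₀]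
  [Module.Finite B₀ M₀]

/-- flatness of the base change to `C` at all primes of `B₀ ⊗ C` over `V(I)` -/
def FlatOn (C : Type u) [CommRing C] [Algebra A₀ C] (I : Ideal A₀) : Prop :=
  ∀ (q : Ideal (B₀ ⊗[A₀] C)) [q.IsPrime], I.map (algebraMap A₀ (B₀ ⊗[A₀] C)) ≤ q →
    Module.Flat C (Localization.AtPrime q ⊗[B₀] M₀)

omit [IsNoetherianRing A₀] [Algebra.FiniteType A₀ B₀] [Module.Finite B₀ M₀] in
theorem map_sup_span_le {C : Type u} [CommRing C] [Algebra A₀ C] (I : Ideal A₀) (a : A₀)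
    (q : Ideal (B₀ ⊗[A₀] C)) (hI : I.map (algebraMap A₀ (B₀ ⊗[A₀] C)) ≤ q)
    (ha : algebraMap A₀ (B₀ ⊗[A₀] C) a ∈ q) :
    (I ⊔ Ideal.span {a}).map (algebraMap A₀ (B₀ ⊗[A₀] C)) ≤ q := by
  rw [Ideal.map_sup, Ideal.map_span, Set.image_singleton]
  exact sup_le hI ((Ideal.span_singleton_le_iff_mem _).mpr ha)

omit [IsNoetherianRing A₀] in
theorem lt_sup_span {I : Ideal A₀} {a : A₀} (ha : a ∉ I) : I < I ⊔ Ideal.span {a} := by
  refine lt_of_le_of_ne le_sup_left (fun h => ha ?_)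
  rw [h]
  exact Ideal.mem_sup_right (Ideal.mem_span_singleton_self a)

include hcolim in
theorem exists_stage_flatOn [Module.Flat A (A ⊗[A₀] M₀)] (I : Ideal A₀) :
    ∃ i, ∀ j, i ≤ j → FlatOn B₀ M₀ (G j) I := by
  have hcolim' := hcolim
  obtain ⟨hdir, hne, -⟩ := hcolim
  haveI := hdir
  refine IsNoetherian.induction (P := fun I : Ideal A₀ => ∃ i, ∀ j, i ≤ j → FlatOn B₀ M₀ (G j) I)
    (fun I ih => ?_) I
  by_cases hprime : Ideal.IsPrime I
  · haveI := hprime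
    obtain ⟨f, hfI, hflat⟩ := exists_flat_localizedModule (B₀ := B₀) M₀ I
    obtain ⟨i₁, hi₁⟩ := ih (I ⊔ Ideal.span {f}) (lt_sup_span hfI)
    obtain ⟨i₂, hi₂⟩ := exists_stage_tor_vanish I G g A hcolim' M₀ B₀
    obtain ⟨i, h1, h2⟩ := exists_ge_ge i₁ i₂
    refine ⟨i, fun j hij q hq hIq => ?_⟩
    by_cases hfq : algebraMap A₀ (B₀ ⊗[A₀] G j) f ∈ q
    · exact hi₁ j (h1.trans hij) q (map_sup_span_le B₀ I f q hIq hfq)
    · haveI := hflat (LocalizedModule (Submonoid.powers (algebraMap A₀ B₀ f)) M₀)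
        (LocalizedModule.mkLinearMap (Submonoid.powers (algebraMap A₀ B₀ f)) M₀)
      exact flat_localization_tensor I M₀ f
        (LocalizedModule (Submonoid.powers (algebraMap A₀ B₀ f)) M₀)
        (LocalizedModule.mkLinearMap (Submonoid.powers (algebraMap A₀ B₀ f)) M₀) (G j)
        (hi₂ j (h2.trans hij)) q hIq hfq
  · rw [Ideal.not_isPrime_iff] at hprime
    rcases hprime with htop | ⟨a, ha, b, hb, hab⟩
    · obtain ⟨i⟩ := hne
      refine ⟨i, fun j _ q hq hIq => ?_⟩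
      rw [htop, Ideal.map_top] at hIq
      exact absurd (top_le_iff.mp hIq) hq.ne_top
    · obtain ⟨i₁, hi₁⟩ := ih (I ⊔ Ideal.span {a}) (lt_sup_span ha)
      obtain ⟨i₂, hi₂⟩ := ih (I ⊔ Ideal.span {b}) (lt_sup_span hb)
      obtain ⟨i, h1, h2⟩ := exists_ge_ge i₁ i₂
      refine ⟨i, fun j hij q hq hIq => ?_⟩
      have habq : algebraMap A₀ (B₀ ⊗[A₀] G j) a * algebraMap A₀ (B₀ ⊗[A₀] G j) b ∈ q := by
        rw [← map_mul]
        exact hIq (Ideal.mem_map_of_mem _ hab)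
      rcases hq.mem_or_mem habq with h | h
      · exact hi₁ j (h1.trans hij) q (map_sup_span_le B₀ I a q hIq h)
      · exact hi₂ j (h2.trans hij) q (map_sup_span_le B₀ I b q hIq h)

omit [IsNoetherianRing A₀] [Algebra.FiniteType A₀ B₀] [Module.Finite B₀ M₀] in
/-- flatness at all primes gives flatness -/
theorem flat_of_flatOn_bot (C : Type u) [CommRing C] [Algebra A₀ C]
    (h : FlatOn B₀ M₀ C (⊥ : Ideal A₀)) : Module.Flat C (C ⊗[A₀] M₀) := by
  have h1 : Module.Flat C ((B₀ ⊗[A₀] C) ⊗[B₀] M₀) := by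
    apply Module.flat_of_isLocalized_maximal (B₀ ⊗[A₀] C) ((B₀ ⊗[A₀] C) ⊗[B₀] M₀)
      (fun P _ => Localization.AtPrime P ⊗[B₀] M₀)
      (fun P _ => TensorProduct.AlgebraTensorModule.rTensor B₀ M₀
        (Algebra.linearMap (B₀ ⊗[A₀] C) (Localization.AtPrime P)))
    intro P hP
    exact h P (by rw [Ideal.map_bot]; exact bot_le)
  exact Module.Flat.of_linearEquiv
    (Algebra.IsPushout.cancelBaseChange A₀ C B₀ (B₀ ⊗[A₀] C) M₀).symm

omit [Algebra.FiniteType A₀ B₀] [Module.Finite B₀ M₀] in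
include hcolim in
/-- **Core theorem**: flatness over a directed colimit of Noetherian rings descends to a finite
stage. -/
theorem exists_stage_flat [Algebra.FiniteType A₀ B₀] [Module.Finite B₀ M₀]
    [Module.Flat A (A ⊗[A₀] M₀)] :
    ∃ i, ∀ j, i ≤ j → Module.Flat (G j) (G j ⊗[A₀] M₀) := by
  obtain ⟨i, hi⟩ := exists_stage_flatOn G g A hcolim B₀ M₀ ⊥
  exact ⟨i, fun j hij => flat_of_flatOn_bot B₀ M₀ (G j) (hi j hij)⟩

end

end Groth.Agent.Helper3.ColimFlat
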