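import Mathlib

/-! Descent of a finitely presented algebra with a finitely presented module to a finitely
generated subring. -/

set_option autoImplicit false
universe u
namespace Groth.Agent.Helper3.ColimFlat

open TensorProduct

attribute [local instance] Algebra.TensorProduct.rightAlgebra

section Coker

variable {S₀ S : Type u} [CommRing S₀] [CommRing S] [Algebra S₀ S] {n m : ℕ}
  (Φ₀ : Fin m → Fin n → S₀)

/-- the linear map of a family of columns -/
def colMap {T : Type*} [CommRing T] (Φ : Fin m → Fin n → T) : (Fin m → T) →ₗ[T] (Fin n → T) where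
  toFun x v := ∑ u, x u * Φ u v
  map_add' x y := by
    ext v
    simp [add_mul, Finset.sum_add_distrib]
  map_smul' a x := by
    ext v
    simp [Finset.mul_sum, mul_assoc]

theorem colMap_apply {T : Type*} [CommRing T] (Φ : Fin m → Fin n → T) (x : Fin m → T) (v : Fin n) :
    colMap Φ x v = ∑ u, x u * Φ u v := rfl

theorem eq_colMap {T : Type*} [CommRing T] (g : (Fin m → T) →ₗ[T] (Fin n → T)) :
    g = colMap (fun u v => g (Pi.single u 1) v) := by
  refine LinearMap.ext fun x => funext fun v => ?_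
  conv_lhs => rw [LinearMap.pi_apply_eq_sum_univ g x]
  simp only [Finset.sum_apply, Pi.smul_apply, smul_eq_mul, colMap_apply]
  refine Finset.sum_congr rfl (fun u _ => ?_)
  have : (fun j => if u = j then (1 : T) else 0) = Pi.single u 1 := by
    ext j
    simp [Pi.single_apply, eq_comm]
  rw [this]

variable {M : Type u} [AddCommGroup M] [Module S M] [Module S₀ M] [IsScalarTower S₀ S M]
  (g : (Fin m → S) →ₗ[S] (Fin n → S)) (f : (Fin n → S) →ₗ[S] M) (hf : Function.Surjective f)
  (hfg : Function.Exact g f)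
  (hΦ : ∀ u v, algebraMap S₀ S (Φ₀ u v) = g (Pi.single u 1) v)

include hΦ in
theorem compLeft_comp_colMap :
    ((Algebra.linearMap S₀ S).compLeft (Fin n)) ∘ₗ (colMap Φ₀) =
      (g.restrictScalars S₀) ∘ₗ ((Algebra.linearMap S₀ S).compLeft (Fin m)) := by
  refine LinearMap.ext fun x => funext fun v => ?_
  rw [LinearMap.comp_apply, LinearMap.comp_apply, LinearMap.restrictScalars_apply]
  conv_rhs => rw [eq_colMap g]
  simp only [LinearMap.compLeft_apply, Function.comp_apply, Algebra.linearMap_apply, colMap_apply,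
    map_sum, map_mul, hΦ]

include hf hfg hΦ in
/-- the cokernel of the descended matrix base changes to the cokernel -/
theorem exists_isBaseChange_coker :
    ∃ h₃ : ((Fin n → S₀) ⧸ LinearMap.range (colMap Φ₀)) →ₗ[S₀] M, IsBaseChange S h₃ := by
  have comm₁ := compLeft_comp_colMap Φ₀ g hΦ
  have hle : LinearMap.range (colMap Φ₀) ≤
      LinearMap.ker ((f.restrictScalars S₀) ∘ₗ ((Algebra.linearMap S₀ S).compLeft (Fin n))) := by
    rintro _ ⟨x, rfl⟩
    rw [LinearMap.mem_ker, LinearMap.comp_apply, ← LinearMap.comp_apply (g := colMap Φ₀), comm₁,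
      LinearMap.comp_apply, LinearMap.restrictScalars_apply, LinearMap.restrictScalars_apply]
    exact hfg.apply_apply_eq_zero _
  refine ⟨(LinearMap.range (colMap Φ₀)).liftQ _ hle, ?_⟩
  refine IsBaseChange.of_right_exact S ((Algebra.linearMap S₀ S).compLeft (Fin m))
    ((Algebra.linearMap S₀ S).compLeft (Fin n)) _ (f := colMap Φ₀)
    (g := (LinearMap.range (colMap Φ₀)).mkQ) (f' := g) (g' := f) comm₁ ?_
    (IsBaseChange.finitePow (Fin m) (IsBaseChange.linearMap S₀ S))
    (IsBaseChange.finitePow (Fin n) (IsBaseChange.linearMap S₀ S))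
    (LinearMap.exact_map_mkQ_range _) (Submodule.mkQ_surjective _) hfg hf
  ext x
  simp

end Coker

section Model

variable (R S M : Type u) [CommRing R] [CommRing S] [Algebra R S]
  [Algebra.FinitePresentation R S] [AddCommGroup M] [Module S M] [Module.FinitePresentation S M]

/-- a finitely presented algebra with a finitely presented module descends to a finitely
generated subring -/
theorem exists_model :
    ∃ (R₀ : Subalgebra ℤ R), R₀.FG ∧ ∃ (S₀ : Type u) (_ : CommRing S₀) (_ : Algebra R₀ S₀)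
      (_ : Algebra S₀ S) (_ : IsScalarTower R₀ S₀ S) (M₀ : Type u) (_ : AddCommGroup M₀)
      (_ : Module S₀ M₀) (_ : Module S₀ M) (_ : IsScalarTower S₀ S M) (f : M₀ →ₗ[S₀] M),
      Algebra.FinitePresentation R₀ S₀ ∧ Module.Finite S₀ M₀ ∧ Algebra.IsPushout R₀ R S₀ S ∧
        IsBaseChange S f := by
  classical
  let P := Algebra.Presentation.ofFinitePresentation R S
  obtain ⟨n, m, f, g, hf, hfg⟩ := Module.FinitePresentation.exists_fin' S M
  have hsurj : Function.Surjective (MvPolynomial.aeval (R := R) P.val) := by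
    intro x
    obtain ⟨y, hy⟩ := P.toGenerators.algebraMap_surjective x
    exact ⟨y, by rw [← hy, Algebra.Generators.algebraMap_apply]⟩
  choose p hp using fun (uv : Fin m × Fin n) => hsurj (g (Pi.single uv.1 1) uv.2)
  let s : Set R := P.coeffs ∪ ⋃ uv, ((p uv).coeffs : Set R)
  have hsfin : s.Finite := P.finite_coeffs.union
    (Set.finite_iUnion fun _ => Finset.finite_toSet _)
  let R₀ : Subalgebra ℤ R := Algebra.adjoin ℤ s
  have hR₀ : R₀.FG := ⟨hsfin.toFinset, by simp [R₀]⟩
  have hrange : s ⊆ Set.range (algebraMap R₀ R) := by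
    intro x hx
    exact ⟨⟨x, Algebra.subset_adjoin hx⟩, rfl⟩
  haveI : P.HasCoeffs R₀ := ⟨fun x hx => hrange (Or.inl hx)⟩
  let S₀ := P.ModelOfHasCoeffs R₀
  let e := P.tensorModelOfHasCoeffsEquiv R₀
  letI algS₀S : Algebra S₀ S :=
    (e.toAlgHom.toRingHom.comp
      (Algebra.TensorProduct.includeRight : S₀ →ₐ[R₀] R ⊗[R₀] S₀).toRingHom).toAlgebra
  have halg : ∀ x : MvPolynomial _ R₀, algebraMap S₀ S (Ideal.Quotient.mk _ x) =
      MvPolynomial.aeval P.val x := by
    intro x
    show e ((1 : R) ⊗ₜ[R₀] (Ideal.Quotient.mk _ x)) = _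
    rw [Algebra.Presentation.tensorModelOfHasCoeffsEquiv_tmul, map_one, one_mul]
  haveI : IsScalarTower R₀ S₀ S := IsScalarTower.of_algebraMap_eq (R := R₀) (S := S₀) (A := S) (fun r => by
    have : algebraMap R₀ S₀ r = Ideal.Quotient.mk _ (MvPolynomial.C r) := rfl
    rw [this, halg, MvPolynomial.aeval_C])
  have hp0 : ∀ uv, ∃ q : MvPolynomial _ R₀, MvPolynomial.map (algebraMap R₀ R) q = p uv := by
    intro uv
    have : p uv ∈ Set.range (MvPolynomial.map (algebraMap R₀ R)) := by
      rw [MvPolynomial.mem_range_map_iff_coeffs_subset]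
      exact fun x hx => hrange (Or.inr (Set.mem_iUnion.mpr ⟨uv, hx⟩))
    exact this
  choose p0 hp0 using hp0
  let Φ₀ : Fin m → Fin n → S₀ := fun u v => Ideal.Quotient.mk _ (p0 (u, v))
  have hΦ : ∀ u v, algebraMap S₀ S (Φ₀ u v) = g (Pi.single u 1) v := by
    intro u v
    rw [halg, ← MvPolynomial.aeval_map_algebraMap R, hp0, hp]
  letI : Module S₀ M := Module.compHom M (algebraMap S₀ S)
  haveI : IsScalarTower S₀ S M := IsScalarTower.of_compHom S₀ S M
  obtain ⟨h₃, hh₃⟩ := exists_isBaseChange_coker Φ₀ g f hf hfg hΦ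
  refine ⟨R₀, hR₀, S₀, inferInstance, inferInstance, algS₀S, inferInstance,
    (Fin n → S₀) ⧸ LinearMap.range (colMap Φ₀), inferInstance, inferInstance, inferInstance,
    inferInstance, h₃, inferInstance, inferInstance, ?_, hh₃⟩
  haveI : IsScalarTower R₀ S₀ (R ⊗[R₀] S₀) := Algebra.TensorProduct.right_isScalarTower
  haveI : Algebra.IsPushout R₀ R S₀ (R ⊗[R₀] S₀) := TensorProduct.isPushout
  exact Algebra.IsPushout.of_equiv (R := R₀) (R' := R) (S := S₀) (S' := R ⊗[R₀] S₀) e rfl

end Model

end Groth.Agent.Helper3.ColimFlat
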