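import Mathlib

/-! Transfer of a model along an intermediate ring. -/

set_option autoImplicit false
universe u
namespace Groth.Agent.Helper3.ColimFlat

open TensorProduct

attribute [local instance] Algebra.TensorProduct.rightAlgebra

section Transfer

variable (R₂ R₃ R S₂ S : Type u) [CommRing R₂] [CommRing R₃] [CommRing R] [CommRing S₂] [CommRing S]
  [Algebra R₂ R₃] [Algebra R₃ R] [Algebra R₂ R] [IsScalarTower R₂ R₃ R]
  [Algebra R₂ S₂] [Algebra R S] [Algebra S₂ S] [Algebra R₂ S] [Algebra R₃ S]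
  [IsScalarTower R₂ R S] [IsScalarTower R₂ S₂ S] [IsScalarTower R₃ R S] [IsScalarTower R₂ R₃ S]
  [Algebra.IsPushout R₂ R S₂ S]
  (M₂ M : Type u) [AddCommGroup M₂] [Module S₂ M₂] [AddCommGroup M] [Module S M] [Module S₂ M]
  [IsScalarTower S₂ S M] (h₃ : M₂ →ₗ[S₂] M) (hh₃ : IsBaseChange S h₃)

/-- the algebra structure of `S` over `R₃ ⊗ S₂` -/
@[reducible] noncomputable def algTensor : Algebra (R₃ ⊗[R₂] S₂) S :=
  (Algebra.TensorProduct.lift (IsScalarTower.toAlgHom R₂ R₃ S) (IsScalarTower.toAlgHom R₂ S₂ S)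
    (fun _ _ => Commute.all _ _)).toRingHom.toAlgebra

include hh₃ in
theorem transfer :
    letI := algTensor R₂ R₃ S₂ S
    ∃ (_ : IsScalarTower R₃ (R₃ ⊗[R₂] S₂) S) (_ : Module (R₃ ⊗[R₂] S₂) M)
      (_ : IsScalarTower (R₃ ⊗[R₂] S₂) S M) (f : (R₃ ⊗[R₂] S₂) ⊗[S₂] M₂ →ₗ[R₃ ⊗[R₂] S₂] M),
      Algebra.IsPushout R₃ R (R₃ ⊗[R₂] S₂) S ∧ IsBaseChange S f := by
  letI := algTensor R₂ R₃ S₂ S
  have hmap : ∀ (r : R₃) (s : S₂), algebraMap (R₃ ⊗[R₂] S₂) S (r ⊗ₜ s) =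
      algebraMap R₃ S r * algebraMap S₂ S s := fun r s => by
    show (Algebra.TensorProduct.lift (IsScalarTower.toAlgHom R₂ R₃ S)
      (IsScalarTower.toAlgHom R₂ S₂ S) (fun _ _ => Commute.all _ _)) (r ⊗ₜ s) = _
    simp
  haveI t1 : IsScalarTower R₃ (R₃ ⊗[R₂] S₂) S := IsScalarTower.of_algebraMap_eq (fun r => by
    rw [Algebra.TensorProduct.algebraMap_apply, hmap, map_one, mul_one,
      Algebra.algebraMap_self_apply])
  haveI t2 : IsScalarTower S₂ (R₃ ⊗[R₂] S₂) S := IsScalarTower.of_algebraMap_eq (fun s => by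
    rw [Algebra.TensorProduct.algebraMap_eq_includeRight]
    show _ = algebraMap (R₃ ⊗[R₂] S₂) S ((1 : R₃) ⊗ₜ s)
    rw [hmap, map_one, one_mul])
  haveI t3 : IsScalarTower R₂ (R₃ ⊗[R₂] S₂) S := IsScalarTower.of_algebraMap_eq (fun r => by
    rw [IsScalarTower.algebraMap_apply R₂ R₃ (R₃ ⊗[R₂] S₂),
      ← IsScalarTower.algebraMap_apply R₃ (R₃ ⊗[R₂] S₂) S, ← IsScalarTower.algebraMap_apply])
  letI m1 : Module (R₃ ⊗[R₂] S₂) M := Module.compHom M (algebraMap (R₃ ⊗[R₂] S₂) S)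
  haveI t4 : IsScalarTower (R₃ ⊗[R₂] S₂) S M := IsScalarTower.of_compHom _ _ _
  haveI t5 : IsScalarTower S₂ (R₃ ⊗[R₂] S₂) M := IsScalarTower.of_algebraMap_smul (fun s x => by
    show algebraMap (R₃ ⊗[R₂] S₂) S (algebraMap S₂ (R₃ ⊗[R₂] S₂) s) • x = s • x
    rw [← IsScalarTower.algebraMap_apply, algebraMap_smul])
  have hb := TensorProduct.isBaseChange S₂ M₂ (R₃ ⊗[R₂] S₂)
  refine ⟨t1, m1, t4, hb.lift h₃, ?_, ?_⟩
  · exact (Algebra.IsPushout.comp_iff R₂ R₃ S₂ (R₃ ⊗[R₂] S₂) (T := R) (T' := S)).mp inferInstance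
  · apply IsBaseChange.of_comp hb
    rw [hb.lift_comp]
    exact hh₃

end Transfer

end Groth.Agent.Helper3.ColimFlat
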