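import Mathlib
import Groth.Prelude.Def_FlatCA
import Groth.Agent.Lib.Helper3.ColimFlat7
import Groth.Agent.Lib.Helper3.ColimFlat8
import Groth.Agent.Lib.Helper3.ColimFlat9

/-! S9456: a flat finitely presented module over a finitely presented algebra descends to a
finite type `ℤ`-algebra, keeping flatness. -/

set_option autoImplicit false
universe u
namespace Groth.Agent.Helper3.ColimFlat

open TensorProduct

attribute [local instance] Algebra.TensorProduct.rightAlgebra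

section SubSystem

variable (A₀ R : Type u) [CommRing A₀] [CommRing R] [Algebra A₀ R]

/-- finitely generated subalgebras -/
abbrev FGSub := {R' : Subalgebra A₀ R // R'.FG}

theorem isDirectedColimitRing_fgSub :
    FlatCA.IsDirectedColimitRing (fun i : FGSub A₀ R => ↥i.1)
      (fun i j h => (Subalgebra.inclusion (show i.1 ≤ j.1 from h)).toRingHom) R := by
  refine ⟨⟨fun i j => ⟨⟨i.1 ⊔ j.1, i.2.sup j.2⟩, ?_, ?_⟩⟩, ⟨⟨⊥, Subalgebra.fg_bot⟩⟩, ?_, ?_, ?_, ?_, ?_⟩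
  · exact (le_sup_left : i.1 ≤ i.1 ⊔ j.1)
  · exact (le_sup_right : j.1 ≤ i.1 ⊔ j.1)
  · intro i
    ext x
    rfl
  · intro i j k hij hjk
    ext x
    rfl
  · intro i j h
    ext x
    rfl
  · intro a
    have hfg : (Algebra.adjoin A₀ ({a} : Set R)).FG := by
      have := Subalgebra.fg_adjoin_finset (R := A₀) ({a} : Finset R)
      simpa using this
    exact ⟨⟨Algebra.adjoin A₀ {a}, hfg⟩,
      ⟨a, Algebra.subset_adjoin (Set.mem_singleton a)⟩, rfl⟩
  · intro i x hx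
    refine ⟨i, le_rfl, ?_⟩
    have : x = 0 := Subtype.ext hx
    rw [this, map_zero]

theorem isNoetherianRing_fgSub [IsNoetherianRing A₀] (i : FGSub A₀ R) : IsNoetherianRing ↥i.1 := by
  haveI : Algebra.FiniteType A₀ ↥i.1 := (Subalgebra.fg_iff_finiteType i.1).mp i.2
  exact Algebra.FiniteType.isNoetherianRing A₀ _

end SubSystem

section Main

theorem pack (R₂ R₃ R S₂ S : Type u) [CommRing R₂] [CommRing R₃] [CommRing R] [CommRing S₂]
    [CommRing S]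
    [Algebra R₂ R₃] [Algebra R₃ R] [Algebra R₂ R] [IsScalarTower R₂ R₃ R]
    [Algebra R₂ S₂] [Algebra R S] [Algebra S₂ S] [Algebra R₂ S] [Algebra R₃ S]
    [IsScalarTower R₂ R S] [IsScalarTower R₂ S₂ S] [IsScalarTower R₃ R S] [IsScalarTower R₂ R₃ S]
    [Algebra.IsPushout R₂ R S₂ S] [Algebra.FiniteType ℤ R₃] [Algebra.FiniteType R₂ S₂]
    (M₂ M : Type u) [AddCommGroup M₂] [Module S₂ M₂] [Module R₂ M₂] [IsScalarTower R₂ S₂ M₂]
    [Module.Finite S₂ M₂] [AddCommGroup M] [Module S M] [Module S₂ M]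
    [IsScalarTower S₂ S M] (h₃ : M₂ →ₗ[S₂] M) (hh₃ : IsBaseChange S h₃)
    (hflat : Module.Flat R₃ (R₃ ⊗[R₂] M₂)) :
    ∃ (R₀ : Type u) (_ : CommRing R₀) (_ : Algebra R₀ R) (S₀ : Type u) (_ : CommRing S₀)
      (_ : Algebra R₀ S₀) (_ : Algebra S₀ S) (_ : Algebra R₀ S) (_ : IsScalarTower R₀ R S)
      (_ : IsScalarTower R₀ S₀ S) (M₀ : Type u) (_ : AddCommGroup M₀) (_ : Module S₀ M₀)
      (_ : Module R₀ M₀) (_ : IsScalarTower R₀ S₀ M₀) (_ : Module S₀ M) (_ : IsScalarTower S₀ S M)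
      (f : M₀ →ₗ[S₀] M),
      Algebra.FiniteType ℤ R₀ ∧ Algebra.FiniteType R₀ S₀ ∧ Module.Finite S₀ M₀ ∧ Module.Flat R₀ M₀ ∧
        Algebra.IsPushout R₀ R S₀ S ∧ IsBaseChange S f := by
  letI := algTensor R₂ R₃ S₂ S
  obtain ⟨t1, m1, t4, f, hpush₃, hbc₃⟩ := transfer R₂ R₃ R S₂ S M₂ M h₃ hh₃
  have hfl : Module.Flat R₃ ((R₃ ⊗[R₂] S₂) ⊗[S₂] M₂) :=
    Module.Flat.of_linearEquiv (Algebra.IsPushout.cancelBaseChange R₂ R₃ S₂ (R₃ ⊗[R₂] S₂) M₂)
  exact ⟨R₃, inferInstance, inferInstance, R₃ ⊗[R₂] S₂, inferInstance, inferInstance,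
    algTensor R₂ R₃ S₂ S, inferInstance, inferInstance, t1, (R₃ ⊗[R₂] S₂) ⊗[S₂] M₂,
    inferInstance, inferInstance, inferInstance, inferInstance, m1, t4, f,
    inferInstance, inferInstance, inferInstance, hfl, hpush₃, hbc₃⟩

theorem S9456_main (R : Type u) [CommRing R]
    (S : Type u) [CommRing S] [Algebra R S] [Algebra.FinitePresentation R S] (M : Type u)
    [AddCommGroup M] [Module S M] [Module R M] [IsScalarTower R S M]
    [Module.FinitePresentation S M] [Module.Flat R M] :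
    ∃ (R₀ : Type u) (_ : CommRing R₀) (_ : Algebra R₀ R) (S₀ : Type u) (_ : CommRing S₀)
      (_ : Algebra R₀ S₀) (_ : Algebra S₀ S) (_ : Algebra R₀ S) (_ : IsScalarTower R₀ R S)
      (_ : IsScalarTower R₀ S₀ S) (M₀ : Type u) (_ : AddCommGroup M₀) (_ : Module S₀ M₀)
      (_ : Module R₀ M₀) (_ : IsScalarTower R₀ S₀ M₀) (_ : Module S₀ M) (_ : IsScalarTower S₀ S M)
      (f : M₀ →ₗ[S₀] M),
      Algebra.FiniteType ℤ R₀ ∧ Algebra.FiniteType R₀ S₀ ∧ Module.Finite S₀ M₀ ∧ Module.Flat R₀ M₀ ∧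
        Algebra.IsPushout R₀ R S₀ S ∧ IsBaseChange S f := by
  obtain ⟨R₂, hR₂, S₂, _, _, _, _, M₂, _, _, _, _, h₃, hfp, hfin, hpush, hbc⟩ := exists_model R S M
  haveI : Algebra.FiniteType ℤ R₂ := (Subalgebra.fg_iff_finiteType R₂).mp hR₂
  haveI : IsNoetherianRing R₂ := Algebra.FiniteType.isNoetherianRing ℤ R₂
  letI : Module R₂ M₂ := Module.compHom M₂ (algebraMap R₂ S₂)
  haveI : IsScalarTower R₂ S₂ M₂ := IsScalarTower.of_compHom _ _ _
  haveI : ∀ i : FGSub R₂ R, IsNoetherianRing ↥i.1 := isNoetherianRing_fgSub R₂ R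
  -- flatness of the base change of the model
  haveI : Module.Flat R (R ⊗[R₂] M₂) := by
    let e₁ : S ⊗[S₂] M₂ ≃ₗ[S] M := hbc.equiv
    let e₂ : S ⊗[S₂] M₂ ≃ₗ[R] R ⊗[R₂] M₂ := Algebra.IsPushout.cancelBaseChange R₂ R S₂ S M₂
    exact Module.Flat.of_linearEquiv (e₂.symm ≪≫ₗ (e₁.restrictScalars R))
  obtain ⟨i, hi⟩ := exists_stage_flat (fun i : FGSub R₂ R => ↥i.1)
    (fun i j h => Subalgebra.inclusion (show i.1 ≤ j.1 from h)) R
    (isDirectedColimitRing_fgSub R₂ R) S₂ M₂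
  have hflat := hi i le_rfl
  haveI : Algebra.FiniteType R₂ ↥i.1 := (Subalgebra.fg_iff_finiteType i.1).mp i.2
  haveI : Algebra.FiniteType ℤ ↥i.1 := Algebra.FiniteType.trans (S := ↥R₂) inferInstance inferInstance
  exact pack R₂ ↥i.1 R S₂ S M₂ M h₃ hbc hflat

end Main

end Groth.Agent.Helper3.ColimFlat
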