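import Mathlib
import Groth.Agent.Lib.Helper1.TorL
import Groth.Agent.Lib.Helper5.TorAmp.FlatLin

/-! Projective dimension and Tor-dimension: generalities, and the inductive step for base changes
of finite modules over a Noetherian flat model. -/

set_option autoImplicit false
universe u
open CategoryTheory Limits MonoidalCategory

namespace Groth.Agent.Helper3.PdTor
open Groth.Agent.Helper1.TorL

variable {R : Type u} [CommRing R]

/-- Tor vanishes above the projective dimension of the first variable -/
theorem isZero_tor_of_pdLT (q : ℕ) :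
    ∀ (M : ModuleCat.{u} R) [HasProjectiveDimensionLT M (q + 1)] (N : ModuleCat.{u} R) (i : ℕ),
      q < i → IsZero (T i M N) := by
  induction q with
  | zero =>
    intro M hM N i hi
    obtain ⟨n, rfl⟩ : ∃ n, i = n + 1 := ⟨i - 1, by omega⟩
    have : Projective M := projective_iff_hasProjectiveDimensionLT_one.mpr hM
    haveI : Module.Flat R M := flat_of_projective M
    exact isZero_tor_succ_of_flat _ _ n
  | succ q ih =>
    intro M hM N i hi
    obtain ⟨n, rfl⟩ : ∃ n, i = n + 2 := ⟨i - 2, by omega⟩
    have hS := freePres_shortExact (R := R) M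
    have hK : HasProjectiveDimensionLT (freePres (R := R) M).X₁ (q + 1) := by
      have hp : Projective (freePres (R := R) M).X₂ := by
        show Projective (ModuleCat.of R (M →₀ R))
        infer_instance
      exact (hS.hasProjectiveDimensionLT_X₃_iff q hp).mp hM
    exact (isZero_tor_succ_succ_iff M N n).mpr (ih (freePres (R := R) M).X₁ N (n + 1) (by omega))

/-- vanishing of `Tor₁(M, -)` gives flatness -/
theorem flat_of_tor_one (M : Type u) [AddCommGroup M] [Module R M]
    (h : ∀ N : ModuleCat.{u} R, IsZero (T 1 (ModuleCat.of R M) N)) : Module.Flat R M :=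
  (flat_iff_tor_one_quotient M).mpr (fun I _ => h _)

/-- `Tor₀(M, R) = 0` forces `M = 0` -/
theorem isZero_of_tor_zero (M : ModuleCat.{u} R) (h : IsZero (T 0 M (ModuleCat.of R R))) :
    IsZero M := by
  have h1 : IsZero (M ⊗ (ModuleCat.of R R)) := IsZero.of_iso h (tor0Iso M _).symm
  exact IsZero.of_iso h1 (ρ_ M).symm

/-- `Tor` of a zero module vanishes -/
theorem isZero_tor_of_isZero (M N : ModuleCat.{u} R) (hM : IsZero M) (i : ℕ) :
    IsZero (T i M N) := by
  cases i with
  | zero =>
    refine IsZero.of_iso ?_ (tor0Iso M N)
    rw [IsZero.iff_id_eq_zero, ← MonoidalCategory.id_whiskerRight, hM.eq_of_src (𝟙 M) 0,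
      MonoidalPreadditive.zero_whiskerRight]
  | succ n =>
    haveI : Subsingleton M := ModuleCat.subsingleton_of_isZero hM
    haveI : Module.Flat R M := inferInstance
    exact isZero_tor_succ_of_flat _ _ n

end Groth.Agent.Helper3.PdTor
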