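import Mathlib
import Groth.Agent.Lib.Helper3.PdTor1

/-! The inductive step: for a finite module `X` over a Noetherian flat model `B₀/A₀`, flat over
`A₀`, vanishing of `Tor_{k+1}^B(B ⊗ X, -)` bounds the projective dimension of `B ⊗ X`. -/

set_option autoImplicit false
universe u
open CategoryTheory Limits MonoidalCategory TensorProduct

namespace Groth.Agent.Helper3.PdTor
open Groth.Agent.Helper1.TorL

section Step

/-- base change to `B` of an injection of `B₀`-modules with `A₀`-flat cokernel is injective -/
theorem lTensor_injective_of_flat_coker (A₀ A B₀ B : Type u) [CommRing A₀] [CommRing A]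
    [CommRing B₀] [CommRing B]
    [Algebra A₀ A] [Algebra A₀ B₀] [Algebra A B] [Algebra B₀ B] [Algebra A₀ B]
    [IsScalarTower A₀ A B] [IsScalarTower A₀ B₀ B] [Algebra.IsPushout A₀ A B₀ B]
    {K F X : Type u} [AddCommGroup K] [AddCommGroup F]
    [AddCommGroup X] [Module B₀ K] [Module B₀ F] [Module B₀ X] [Module A₀ K] [Module A₀ F]
    [Module A₀ X] [IsScalarTower A₀ B₀ K] [IsScalarTower A₀ B₀ F] [IsScalarTower A₀ B₀ X]
    [Module.Flat A₀ X] (i : K →ₗ[B₀] F) (p : F →ₗ[B₀] X) (hi : Function.Injective i)
    (hp : Function.Surjective p) (hip : Function.Exact i p) :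
    Function.Injective (i.lTensor B) := by
  have h1 : Function.Injective ((i.restrictScalars A₀).lTensor A) :=
    LinearMap.lTensor_injective_of_exact_of_flat (p.restrictScalars A₀) hp (i.restrictScalars A₀)
      hi hip A
  let eK := Algebra.IsPushout.cancelBaseChange A₀ A B₀ B K
  let eF := Algebra.IsPushout.cancelBaseChange A₀ A B₀ B F
  have hcomm : ∀ w, eF.symm ((i.restrictScalars A₀).lTensor A w) = i.lTensor B (eK.symm w) := by
    intro w
    induction w using TensorProduct.induction_on with
    | zero => simp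
    | add x y hx hy => simp only [map_add, hx, hy]
    | tmul a k =>
      simp only [LinearMap.lTensor_tmul, LinearMap.restrictScalars_apply, eF, eK,
        Algebra.IsPushout.cancelBaseChange_symm_tmul]
  intro z z' hzz
  apply eK.injective
  apply h1
  apply eF.symm.injective
  rw [hcomm, hcomm, LinearEquiv.symm_apply_apply, LinearEquiv.symm_apply_apply, hzz]

/-- **the inductive step** -/
theorem hasPDLT_of_tor (A₀ A B₀ B : Type u) [CommRing A₀] [CommRing A]
    [CommRing B₀] [CommRing B]
    [Algebra A₀ A] [Algebra A₀ B₀] [Algebra A B] [Algebra B₀ B] [Algebra A₀ B]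
    [IsScalarTower A₀ A B] [IsScalarTower A₀ B₀ B] [Algebra.IsPushout A₀ A B₀ B]
    [IsNoetherianRing B₀] [Module.Flat A₀ B₀] :
    ∀ (k : ℕ) (X : Type u) [AddCommGroup X] [Module B₀ X] [Module A₀ X] [IsScalarTower A₀ B₀ X]
      [Module.Finite B₀ X] [Module.Flat A₀ X],
      (∀ N : ModuleCat.{u} B, IsZero (T (k + 1) (ModuleCat.of B (B ⊗[B₀] X)) N)) →
        HasProjectiveDimensionLT (ModuleCat.of B (B ⊗[B₀] X)) (k + 1) := by
  intro k
  induction k with
  | zero =>
    intro X _ _ _ _ _ _ h
    haveI : Module.Flat B (B ⊗[B₀] X) := flat_of_tor_one _ h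
    haveI : Module.FinitePresentation B₀ X := Module.finitePresentation_of_finite B₀ X
    haveI : Module.Projective B (B ⊗[B₀] X) := Module.Flat.projective_of_finitePresentation
    haveI : Projective (ModuleCat.of B (B ⊗[B₀] X)) :=
      (IsProjective.iff_projective (B ⊗[B₀] X)).mp inferInstance
    infer_instance
  | succ k ih =>
    intro X _ _ _ _ _ _ h
    obtain ⟨r, π, hπ⟩ := Module.Finite.exists_fin' B₀ X
    haveI : Module.Flat A₀ (Fin r → B₀) := Module.Flat.trans A₀ B₀ (Fin r → B₀)
    haveI hKflat : Module.Flat A₀ ↥(LinearMap.ker π) :=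
      Groth.Agent.Helper5.FlatAcyc.flat_ker (π.restrictScalars A₀) hπ
    have hinj : Function.Injective ((LinearMap.ker π).subtype.lTensor B) :=
      lTensor_injective_of_flat_coker A₀ A B₀ B (LinearMap.ker π).subtype π
        (LinearMap.ker π).injective_subtype hπ (LinearMap.exact_subtype_ker_map π)
    have hex : Function.Exact ((LinearMap.ker π).subtype.lTensor B) (π.lTensor B) :=
      lTensor_exact B (LinearMap.exact_subtype_ker_map π) hπ
    have hsurj : Function.Surjective (π.lTensor B) := LinearMap.lTensor_surjective B hπ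
    let S : ShortComplex (ModuleCat.{u} B) :=
      ModuleCat.shortComplexOfCompEqZero ((LinearMap.ker π).subtype.baseChange B)
        (π.baseChange B) (by
          rw [← LinearMap.baseChange_comp]
          have : π.comp (LinearMap.ker π).subtype = 0 := by ext x; exact x.2
          rw [this, LinearMap.baseChange_zero])
    have hS : S.ShortExact := ModuleCat.shortComplex_shortExact S hex hinj hsurj
    haveI : Module.Free B (B ⊗[B₀] (Fin r → B₀)) := inferInstance
    haveI hproj : Projective S.X₂ :=
      (IsProjective.iff_projective (B ⊗[B₀] (Fin r → B₀))).mp inferInstance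
    haveI : Module.Flat B S.X₂ := (inferInstance : Module.Flat B (B ⊗[B₀] (Fin r → B₀)))
    have hK : ∀ N : ModuleCat.{u} B, IsZero (T (k + 1) S.X₁ N) := fun N =>
      isZero_tor_X₁ S hS N (k + 1) (h N) (isZero_tor_succ_of_flat _ _ k)
    have hK' : HasProjectiveDimensionLT S.X₁ (k + 1) := ih ↥(LinearMap.ker π) hK
    exact (hS.hasProjectiveDimensionLT_X₃_iff k hproj).mpr hK'

end Step

end Groth.Agent.Helper3.PdTor
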