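import Mathlib
import Groth.Agent.Lib.Helper3.PdTor2
import Groth.Agent.Lib.Helper3.ColimFlat10

/-! A flat finitely presented algebra with a flat finitely presented module descends to a finite
type `ℤ`-algebra keeping both flatness properties; projective dimension equals Tor-dimension
(S5936). -/

set_option autoImplicit false
universe u
open CategoryTheory Limits MonoidalCategory TensorProduct

namespace Groth.Agent.Helper3.PdTor
open Groth.Agent.Helper1.TorL Groth.Agent.Helper3.ColimFlat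

attribute [local instance] Algebra.TensorProduct.rightAlgebra

theorem pack2 (R₂ R₃ R S₂ S : Type u) [CommRing R₂] [CommRing R₃] [CommRing R] [CommRing S₂]
    [CommRing S]
    [Algebra R₂ R₃] [Algebra R₃ R] [Algebra R₂ R] [IsScalarTower R₂ R₃ R]
    [Algebra R₂ S₂] [Algebra R S] [Algebra S₂ S] [Algebra R₂ S] [Algebra R₃ S]
    [IsScalarTower R₂ R S] [IsScalarTower R₂ S₂ S] [IsScalarTower R₃ R S] [IsScalarTower R₂ R₃ S]
    [Algebra.IsPushout R₂ R S₂ S] [Algebra.FiniteType ℤ R₃] [Algebra.FiniteType R₂ S₂]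
    (M₂ M : Type u) [AddCommGroup M₂] [Module S₂ M₂] [Module R₂ M₂] [IsScalarTower R₂ S₂ M₂]
    [Module.Finite S₂ M₂] [AddCommGroup M] [Module S M] [Module S₂ M]
    [IsScalarTower S₂ S M] (h₃ : M₂ →ₗ[S₂] M) (hh₃ : IsBaseChange S h₃)
    (hflat : Module.Flat R₃ (R₃ ⊗[R₂] M₂)) (hflatS : Module.Flat R₃ (R₃ ⊗[R₂] S₂)) :
    ∃ (R₀ : Type u) (_ : CommRing R₀) (_ : Algebra R₀ R) (S₀ : Type u) (_ : CommRing S₀)
      (_ : Algebra R₀ S₀) (_ : Algebra S₀ S) (_ : Algebra R₀ S) (_ : IsScalarTower R₀ R S)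
      (_ : IsScalarTower R₀ S₀ S) (M₀ : Type u) (_ : AddCommGroup M₀) (_ : Module S₀ M₀)
      (_ : Module R₀ M₀) (_ : IsScalarTower R₀ S₀ M₀) (_ : Module S₀ M) (_ : IsScalarTower S₀ S M)
      (f : M₀ →ₗ[S₀] M),
      Algebra.FiniteType ℤ R₀ ∧ Algebra.FiniteType R₀ S₀ ∧ Module.Finite S₀ M₀ ∧ Module.Flat R₀ M₀ ∧
        Module.Flat R₀ S₀ ∧ Algebra.IsPushout R₀ R S₀ S ∧ IsBaseChange S f := by
  letI := algTensor R₂ R₃ S₂ S
  obtain ⟨t1, m1, t4, f, hpush₃, hbc₃⟩ := transfer R₂ R₃ R S₂ S M₂ M h₃ hh₃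
  have hfl : Module.Flat R₃ ((R₃ ⊗[R₂] S₂) ⊗[S₂] M₂) :=
    Module.Flat.of_linearEquiv (Algebra.IsPushout.cancelBaseChange R₂ R₃ S₂ (R₃ ⊗[R₂] S₂) M₂)
  exact ⟨R₃, inferInstance, inferInstance, R₃ ⊗[R₂] S₂, inferInstance, inferInstance,
    algTensor R₂ R₃ S₂ S, inferInstance, inferInstance, t1, (R₃ ⊗[R₂] S₂) ⊗[S₂] M₂,
    inferInstance, inferInstance, inferInstance, inferInstance, m1, t4, f,
    inferInstance, inferInstance, inferInstance, hfl, hflatS, hpush₃, hbc₃⟩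

/-- Noetherian model keeping the flatness of the algebra and of the module -/
theorem exists_flat_model2 (R : Type u) [CommRing R]
    (S : Type u) [CommRing S] [Algebra R S] [Algebra.FinitePresentation R S] [Module.Flat R S]
    (M : Type u)
    [AddCommGroup M] [Module S M] [Module R M] [IsScalarTower R S M]
    [Module.FinitePresentation S M] [Module.Flat R M] :
    ∃ (R₀ : Type u) (_ : CommRing R₀) (_ : Algebra R₀ R) (S₀ : Type u) (_ : CommRing S₀)
      (_ : Algebra R₀ S₀) (_ : Algebra S₀ S) (_ : Algebra R₀ S) (_ : IsScalarTower R₀ R S)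
      (_ : IsScalarTower R₀ S₀ S) (M₀ : Type u) (_ : AddCommGroup M₀) (_ : Module S₀ M₀)
      (_ : Module R₀ M₀) (_ : IsScalarTower R₀ S₀ M₀) (_ : Module S₀ M) (_ : IsScalarTower S₀ S M)
      (f : M₀ →ₗ[S₀] M),
      Algebra.FiniteType ℤ R₀ ∧ Algebra.FiniteType R₀ S₀ ∧ Module.Finite S₀ M₀ ∧ Module.Flat R₀ M₀ ∧
        Module.Flat R₀ S₀ ∧ Algebra.IsPushout R₀ R S₀ S ∧ IsBaseChange S f := by
  obtain ⟨R₂, hR₂, S₂, _, _, _, _, M₂, _, _, _, _, h₃, hfp, hfin, hpush, hbc⟩ := exists_model R S M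
  haveI : Algebra.FiniteType ℤ R₂ := (Subalgebra.fg_iff_finiteType R₂).mp hR₂
  haveI : IsNoetherianRing R₂ := Algebra.FiniteType.isNoetherianRing ℤ R₂
  letI : Module R₂ M₂ := Module.compHom M₂ (algebraMap R₂ S₂)
  haveI : IsScalarTower R₂ S₂ M₂ := IsScalarTower.of_compHom _ _ _
  haveI : ∀ i : FGSub R₂ R, IsNoetherianRing ↥i.1 := isNoetherianRing_fgSub R₂ R
  haveI : Module.Flat R (R ⊗[R₂] M₂) := by
    let e₁ : S ⊗[S₂] M₂ ≃ₗ[S] M := hbc.equiv
    let e₂ : S ⊗[S₂] M₂ ≃ₗ[R] R ⊗[R₂] M₂ := Algebra.IsPushout.cancelBaseChange R₂ R S₂ S M₂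
    exact Module.Flat.of_linearEquiv (e₂.symm ≪≫ₗ (e₁.restrictScalars R))
  haveI : Module.Flat R (R ⊗[R₂] S₂) :=
    Module.Flat.of_linearEquiv (Algebra.IsPushout.equiv R₂ R S₂ S).toLinearEquiv
  obtain ⟨i₁, hi₁⟩ := exists_stage_flat (fun i : FGSub R₂ R => ↥i.1)
    (fun i j h => Subalgebra.inclusion (show i.1 ≤ j.1 from h)) R
    (isDirectedColimitRing_fgSub R₂ R) S₂ M₂
  obtain ⟨i₂, hi₂⟩ := exists_stage_flat (fun i : FGSub R₂ R => ↥i.1)
    (fun i j h => Subalgebra.inclusion (show i.1 ≤ j.1 from h)) R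
    (isDirectedColimitRing_fgSub R₂ R) S₂ S₂
  let i : FGSub R₂ R := ⟨i₁.1 ⊔ i₂.1, i₁.2.sup i₂.2⟩
  have h1 : i₁ ≤ i := (le_sup_left : i₁.1 ≤ i₁.1 ⊔ i₂.1)
  have h2 : i₂ ≤ i := (le_sup_right : i₂.1 ≤ i₁.1 ⊔ i₂.1)
  have hflat := hi₁ i h1
  have hflatS := hi₂ i h2
  haveI : Algebra.FiniteType R₂ ↥i.1 := (Subalgebra.fg_iff_finiteType i.1).mp i.2
  haveI : Algebra.FiniteType ℤ ↥i.1 := Algebra.FiniteType.trans (S := ↥R₂) inferInstance inferInstance
  exact pack2 R₂ ↥i.1 R S₂ S M₂ M h₃ hbc hflat hflatS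

/-- **S5936**: projective dimension equals Tor-dimension for finitely presented modules, flat over
the base, over a flat finitely presented algebra. -/
theorem S5936_main (A B M : Type u) [CommRing A] [CommRing B] [Algebra A B]
    [Algebra.FinitePresentation A B] [Module.Flat A B] [AddCommGroup M] [Module B M] [Module A M]
    [IsScalarTower A B M] [Module.FinitePresentation B M] [Module.Flat A M] :
    projectiveDimension (ModuleCat.of B M) =
      sInf {n : WithBot ℕ∞ | ∀ i : ℕ, n < i → ∀ N : ModuleCat.{u} B,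
        Limits.IsZero (((Tor (ModuleCat.{u} B) i).obj (ModuleCat.of B M)).obj N)} := by
  unfold projectiveDimension
  congr 1
  ext n
  simp only [Set.mem_ofPred_eq]
  constructor
  · intro h i hi N
    have hpd := h i hi
    cases i with
    | zero =>
      have hz : IsZero (ModuleCat.of B M) := isZero_of_hasProjectiveDimensionLT_zero _
      exact isZero_tor_of_isZero _ N hz 0
    | succ q =>
      exact isZero_tor_of_pdLT q (ModuleCat.of B M) N (q + 1) (by omega)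
  · intro h i hi
    cases i with
    | zero =>
      have h0 := h 0 hi (ModuleCat.of B B)
      exact (isZero_of_tor_zero _ h0).hasProjectiveDimensionLT_zero
    | succ k =>
      have hk := h (k + 1) hi
      obtain ⟨A₀, _, _, B₀, _, _, _, _, _, _, M₀, _, _, _, _, _, _, f, hA₀, hB₀, hfin, hflM, hflB,
        hpush, hbc⟩ := exists_flat_model2 A B M
      haveI : IsNoetherianRing A₀ := Algebra.FiniteType.isNoetherianRing ℤ A₀
      haveI : IsNoetherianRing B₀ := Algebra.FiniteType.isNoetherianRing A₀ B₀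
      let e : (B ⊗[B₀] M₀) ≃ₗ[B] M := hbc.equiv
      let eI : ModuleCat.of B (B ⊗[B₀] M₀) ≅ ModuleCat.of B M := e.toModuleIso
      have hk' : ∀ N : ModuleCat.{u} B, IsZero (T (k + 1) (ModuleCat.of B (B ⊗[B₀] M₀)) N) :=
        fun N => IsZero.of_iso (hk N) (torCongrLeft eI N (k + 1))
      have := hasPDLT_of_tor A₀ A B₀ B k M₀ hk'
      exact hasProjectiveDimensionLT_of_iso eI (k + 1)

end Groth.Agent.Helper3.PdTor
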