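import Mathlib
import Groth.Agent.Lib.Helper3.PdTor3

/-! Fibrewise criterion of projectivity for finitely presented modules flat over the base
(no Noetherian hypotheses), and vanishing detected on fibres. -/

set_option autoImplicit false
universe u
open CategoryTheory Limits MonoidalCategory TensorProduct

namespace Groth.Agent.Helper3.PdFib
open Groth.Agent.Helper1.TorL Groth.Agent.Helper3.PdTor

attribute [local instance] Algebra.TensorProduct.rightAlgebra

/-- naturality of `cancelBaseChange` -/
theorem cancelBaseChange_lTensor (R S T : Type*) [CommRing R] [CommRing S] [CommRing T]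
    [Algebra R S] [Algebra S T] [Algebra R T] [IsScalarTower R S T] {K F : Type*}
    [AddCommGroup K] [Module R K] [AddCommGroup F] [Module R F] (f : K →ₗ[R] F)
    (x : T ⊗[S] (S ⊗[R] K)) :
    AlgebraTensorModule.cancelBaseChange R S T T F ((f.baseChange S).lTensor T x) =
      f.lTensor T (AlgebraTensorModule.cancelBaseChange R S T T K x) := by
  induction x using TensorProduct.induction_on with
  | zero => simp
  | add x y hx hy => simp only [map_add, hx, hy]
  | tmul t y =>
    induction y using TensorProduct.induction_on with
    | zero => simp
    | add x y hx hy => simp only [TensorProduct.tmul_add, map_add, hx, hy]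
    | tmul s k =>
      simp only [LinearMap.lTensor_tmul, LinearMap.baseChange_tmul,
        AlgebraTensorModule.cancelBaseChange_tmul]

theorem lTensor_baseChange_injective_iff (R S T : Type*) [CommRing R] [CommRing S] [CommRing T]
    [Algebra R S] [Algebra S T] [Algebra R T] [IsScalarTower R S T] {K F : Type*}
    [AddCommGroup K] [Module R K] [AddCommGroup F] [Module R F] (f : K →ₗ[R] F) :
    Function.Injective ((f.baseChange S).lTensor T) ↔ Function.Injective (f.lTensor T) := by
  constructor
  · intro h x y hxy
    apply (AlgebraTensorModule.cancelBaseChange R S T T K).symm.injective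
    apply h
    apply (AlgebraTensorModule.cancelBaseChange R S T T F).injective
    rw [cancelBaseChange_lTensor, cancelBaseChange_lTensor, LinearEquiv.apply_symm_apply,
      LinearEquiv.apply_symm_apply, hxy]
  · intro h x y hxy
    apply (AlgebraTensorModule.cancelBaseChange R S T T K).injective
    apply h
    rw [← cancelBaseChange_lTensor, ← cancelBaseChange_lTensor, hxy]

/-- the residue field of a prime `q` of `B` as an algebra over the fibre ring of `q ∩ A` -/
noncomputable def fibreToResidue (A B : Type u) [CommRing A] [CommRing B] [Algebra A B]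
    (q : Ideal B) [q.IsPrime] :
    (B ⊗[A] (q.comap (algebraMap A B)).ResidueField) →ₐ[B] q.ResidueField :=
  Algebra.TensorProduct.lift (Algebra.ofId B q.ResidueField)
    (Ideal.ResidueField.mapₐ (q.comap (algebraMap A B)) q (Algebra.ofId A B) rfl)
    (fun _ _ => Commute.all _ _)

/-- **fibrewise freeness**: if the fibre of `M` over `q ∩ A` is flat over the fibre ring then
`M_q` is free. -/
theorem free_localization_of_fibre (A B M : Type u) [CommRing A] [CommRing B] [Algebra A B]
    [AddCommGroup M] [Module B M] [Module A M] [IsScalarTower A B M]
    [Module.FinitePresentation B M] [Module.Flat A M] (q : Ideal B) [q.IsPrime]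
    (h : Module.Flat (B ⊗[A] (q.comap (algebraMap A B)).ResidueField)
      ((B ⊗[A] (q.comap (algebraMap A B)).ResidueField) ⊗[B] M)) :
    Module.Free (Localization.AtPrime q) (Localization.AtPrime q ⊗[B] M) := by
  letI : Algebra (B ⊗[A] (q.comap (algebraMap A B)).ResidueField) q.ResidueField :=
    (fibreToResidue A B q).toRingHom.toAlgebra
  haveI : IsScalarTower B (B ⊗[A] (q.comap (algebraMap A B)).ResidueField) q.ResidueField :=
    IsScalarTower.of_algebraMap_eq' (fibreToResidue A B q).comp_algebraMap.symm
  obtain ⟨r, π, hπ⟩ := Module.Finite.exists_fin' B M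
  have hKfg : (LinearMap.ker π).FG := Module.FinitePresentation.fg_ker π hπ
  haveI : Module.Finite B ↥(LinearMap.ker π) := Module.Finite.iff_fg.mpr hKfg
  have hex : Function.Exact (LinearMap.ker π).subtype π := LinearMap.exact_subtype_ker_map π
  -- over the fibre ring
  have hinj_p : Function.Injective ((LinearMap.ker π).subtype.baseChange
      (B ⊗[A] (q.comap (algebraMap A B)).ResidueField)) := by
    rw [LinearMap.baseChange_eq_ltensor]
    exact lTensor_injective_of_flat_coker A (q.comap (algebraMap A B)).ResidueField B
      (B ⊗[A] (q.comap (algebraMap A B)).ResidueField) (LinearMap.ker π).subtype π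
      (LinearMap.ker π).injective_subtype hπ hex
  have hex_p : Function.Exact ((LinearMap.ker π).subtype.baseChange
      (B ⊗[A] (q.comap (algebraMap A B)).ResidueField))
      (π.baseChange (B ⊗[A] (q.comap (algebraMap A B)).ResidueField)) := by
    rw [LinearMap.baseChange_eq_ltensor, LinearMap.baseChange_eq_ltensor]
    exact lTensor_exact _ hex hπ
  have hsurj_p : Function.Surjective
      (π.baseChange (B ⊗[A] (q.comap (algebraMap A B)).ResidueField)) := by
    rw [LinearMap.baseChange_eq_ltensor]
    exact LinearMap.lTensor_surjective _ hπ
  have h1 : Function.Injective (((LinearMap.ker π).subtype.baseChange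
      (B ⊗[A] (q.comap (algebraMap A B)).ResidueField)).lTensor q.ResidueField) :=
    LinearMap.lTensor_injective_of_exact_of_flat _ hsurj_p _ hinj_p hex_p q.ResidueField
  have h2 : Function.Injective ((LinearMap.ker π).subtype.lTensor q.ResidueField) :=
    (lTensor_baseChange_injective_iff B (B ⊗[A] (q.comap (algebraMap A B)).ResidueField)
      q.ResidueField _).mp h1
  have h3 : Function.Injective (((LinearMap.ker π).subtype.baseChange
      (Localization.AtPrime q)).lTensor q.ResidueField) :=
    (lTensor_baseChange_injective_iff B (Localization.AtPrime q) q.ResidueField _).mpr h2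
  have hex_q : Function.Exact ((LinearMap.ker π).subtype.baseChange (Localization.AtPrime q))
      (π.baseChange (Localization.AtPrime q)) := by
    rw [LinearMap.baseChange_eq_ltensor, LinearMap.baseChange_eq_ltensor]
    exact lTensor_exact _ hex hπ
  have hsurj_q : Function.Surjective (π.baseChange (Localization.AtPrime q)) := by
    rw [LinearMap.baseChange_eq_ltensor]
    exact LinearMap.lTensor_surjective _ hπ
  exact Module.free_of_lTensor_residueField_injective _ _ hsurj_q hex_q h3

/-- **fibrewise projectivity** -/
theorem projective_of_fibres (A B M : Type u) [CommRing A] [CommRing B] [Algebra A B]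
    [AddCommGroup M] [Module B M] [Module A M] [IsScalarTower A B M]
    [Module.FinitePresentation B M] [Module.Flat A M]
    (h : ∀ p : PrimeSpectrum A, Module.Flat (B ⊗[A] p.asIdeal.ResidueField)
      ((B ⊗[A] p.asIdeal.ResidueField) ⊗[B] M)) :
    Module.Projective B M := by
  rw [← Module.freeLocus_eq_univ_iff, Set.eq_univ_iff_forall]
  intro q
  rw [Module.mem_freeLocus_iff_tensor q (Localization.AtPrime q.asIdeal)]
  exact free_localization_of_fibre A B M q.asIdeal
    (h ⟨q.asIdeal.comap (algebraMap A B), inferInstance⟩)

/-- a finite module all of whose fibres vanish is zero -/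
theorem subsingleton_of_fibres (A B M : Type u) [CommRing A] [CommRing B] [Algebra A B]
    [AddCommGroup M] [Module B M] [Module.Finite B M]
    (h : ∀ p : PrimeSpectrum A, Subsingleton ((B ⊗[A] p.asIdeal.ResidueField) ⊗[B] M)) :
    Subsingleton M := by
  rw [← Module.support_eq_empty_iff (R := B), Set.eq_empty_iff_forall_notMem]
  intro q hq
  rw [Module.mem_support_iff_nontrivial_residueField_tensorProduct] at hq
  letI : Algebra (B ⊗[A] (q.asIdeal.comap (algebraMap A B)).ResidueField) q.asIdeal.ResidueField :=
    (fibreToResidue A B q.asIdeal).toRingHom.toAlgebra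
  haveI : IsScalarTower B (B ⊗[A] (q.asIdeal.comap (algebraMap A B)).ResidueField)
      q.asIdeal.ResidueField :=
    IsScalarTower.of_algebraMap_eq' (fibreToResidue A B q.asIdeal).comp_algebraMap.symm
  haveI : Subsingleton ((B ⊗[A] (q.asIdeal.comap (algebraMap A B)).ResidueField) ⊗[B] M) :=
    h ⟨q.asIdeal.comap (algebraMap A B), inferInstance⟩
  have e := AlgebraTensorModule.cancelBaseChange B
    (B ⊗[A] (q.asIdeal.comap (algebraMap A B)).ResidueField) q.asIdeal.ResidueField
    q.asIdeal.ResidueField M
  haveI : Subsingleton (q.asIdeal.ResidueField ⊗[B] M) := e.symm.injective.subsingleton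
  exact not_subsingleton _ ‹_›

end Groth.Agent.Helper3.PdFib
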