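import Mathlib
import Groth.Agent.Lib.Helper3.PdFib1

/-! Projective dimension and base change along a pushout; projective dimension is detected on
fibres (S5930). -/

set_option autoImplicit false
universe u
open CategoryTheory Limits MonoidalCategory TensorProduct

namespace Groth.Agent.Helper3.PdFib
open Groth.Agent.Helper1.TorL Groth.Agent.Helper3.PdTor

attribute [local instance] Algebra.TensorProduct.rightAlgebra

/-- dimension shifting along a short exact sequence with projective middle term -/
theorem hasPDLT_iff_of_exact (B : Type u) [CommRing B] {K F X : Type u} [AddCommGroup K]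
    [AddCommGroup F] [AddCommGroup X] [Module B K] [Module B F] [Module B X]
    [Module.Projective B F] (i : K →ₗ[B] F) (p : F →ₗ[B] X) (hi : Function.Injective i)
    (hp : Function.Surjective p) (hip : Function.Exact i p) (n : ℕ) :
    HasProjectiveDimensionLT (ModuleCat.of B X) (n + 2) ↔
      HasProjectiveDimensionLT (ModuleCat.of B K) (n + 1) := by
  let S : ShortComplex (ModuleCat.{u} B) :=
    ModuleCat.shortComplexOfCompEqZero i p (by
      ext x; exact hip.apply_apply_eq_zero x)
  have hS : S.ShortExact := ModuleCat.shortComplex_shortExact S hip hi hp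
  have hproj : Projective S.X₂ := (IsProjective.iff_projective F).mp inferInstance
  exact hS.hasProjectiveDimensionLT_X₃_iff n hproj

section Pushout


/-- base change of a short exact sequence with `A`-flat cokernel along a pushout -/
theorem baseChange_exact_triple (A A' B B' : Type u) [CommRing A] [CommRing A'] [CommRing B]
    [CommRing B'] [Algebra A A'] [Algebra A B] [Algebra A' B'] [Algebra B B'] [Algebra A B']
    [IsScalarTower A A' B'] [IsScalarTower A B B'] [Algebra.IsPushout A A' B B']
    {K F X : Type u} [AddCommGroup K] [AddCommGroup F]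
    [AddCommGroup X] [Module B K] [Module B F] [Module B X] [Module A K] [Module A F]
    [Module A X] [IsScalarTower A B K] [IsScalarTower A B F] [IsScalarTower A B X]
    [Module.Flat A X] (i : K →ₗ[B] F) (p : F →ₗ[B] X) (hi : Function.Injective i)
    (hp : Function.Surjective p) (hip : Function.Exact i p) :
    Function.Injective (i.baseChange B') ∧ Function.Surjective (p.baseChange B') ∧
      Function.Exact (i.baseChange B') (p.baseChange B') := by
  rw [LinearMap.baseChange_eq_ltensor, LinearMap.baseChange_eq_ltensor]
  exact ⟨lTensor_injective_of_flat_coker A A' B B' i p hi hp hip,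
    LinearMap.lTensor_surjective _ hp, lTensor_exact _ hip hp⟩

theorem hasPDLT_baseChange_iff (A A' B B' : Type u) [CommRing A] [CommRing A'] [CommRing B]
    [CommRing B'] [Algebra A A'] [Algebra A B] [Algebra A' B'] [Algebra B B'] [Algebra A B']
    [IsScalarTower A A' B'] [IsScalarTower A B B'] [Algebra.IsPushout A A' B B']
    {K F X : Type u} [AddCommGroup K] [AddCommGroup F]
    [AddCommGroup X] [Module B K] [Module B F] [Module B X] [Module A K] [Module A F]
    [Module A X] [IsScalarTower A B K] [IsScalarTower A B F] [IsScalarTower A B X]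
    [Module.Flat A X] [Module.Projective B F] (i : K →ₗ[B] F) (p : F →ₗ[B] X)
    (hi : Function.Injective i)
    (hp : Function.Surjective p) (hip : Function.Exact i p) (n : ℕ) :
    HasProjectiveDimensionLT (ModuleCat.of B' (B' ⊗[B] X)) (n + 2) ↔
      HasProjectiveDimensionLT (ModuleCat.of B' (B' ⊗[B] K)) (n + 1) := by
  obtain ⟨h1, h2, h3⟩ := baseChange_exact_triple A A' B B' i p hi hp hip
  exact hasPDLT_iff_of_exact B' (i.baseChange B') (p.baseChange B') h1 h2 h3 n

/-- **projective dimension does not increase under base change** (for `A`-flat modules over an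
`A`-flat algebra `B`, along `B → B ⊗_A A'`). -/
theorem hasPDLT_baseChange (A A' B B' : Type u) [CommRing A] [CommRing A'] [CommRing B]
    [CommRing B'] [Algebra A A'] [Algebra A B] [Algebra A' B'] [Algebra B B'] [Algebra A B']
    [IsScalarTower A A' B'] [IsScalarTower A B B'] [Algebra.IsPushout A A' B B']
    [Module.Flat A B] :
    ∀ (n : ℕ) (M : Type u) [AddCommGroup M] [Module B M] [Module A M] [IsScalarTower A B M]
      [Module.Flat A M], HasProjectiveDimensionLT (ModuleCat.of B M) n →
        HasProjectiveDimensionLT (ModuleCat.of B' (B' ⊗[B] M)) n := by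
  intro n
  induction n with
  | zero =>
    intro M _ _ _ _ _ h
    have hz : IsZero (ModuleCat.of B M) := isZero_of_hasProjectiveDimensionLT_zero _
    haveI : Subsingleton M := ModuleCat.subsingleton_of_isZero hz
    have : IsZero (ModuleCat.of B' (B' ⊗[B] M)) := ModuleCat.isZero_of_subsingleton _
    exact this.hasProjectiveDimensionLT_zero
  | succ n ih =>
    intro M _ _ _ _ _ h
    cases n with
    | zero =>
      have hP : Projective (ModuleCat.of B M) := projective_iff_hasProjectiveDimensionLT_one.mpr h
      haveI : Module.Projective B M := (IsProjective.iff_projective M).mpr hP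
      haveI : Projective (ModuleCat.of B' (B' ⊗[B] M)) :=
        (IsProjective.iff_projective (B' ⊗[B] M)).mp inferInstance
      infer_instance
    | succ m =>
      have hπ : Function.Surjective (Finsupp.linearCombination B (id : M → M)) :=
        Finsupp.linearCombination_id_surjective B M
      haveI : Module.Flat A (M →₀ B) := Module.Flat.trans A B (M →₀ B)
      haveI hKflat : Module.Flat A ↥(LinearMap.ker (Finsupp.linearCombination B (id : M → M))) :=
        Groth.Agent.Helper5.FlatAcyc.flat_ker
          ((Finsupp.linearCombination B (id : M → M)).restrictScalars A) hπ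
      have hex := LinearMap.exact_subtype_ker_map (Finsupp.linearCombination B (id : M → M))
      have hinj := (LinearMap.ker (Finsupp.linearCombination B (id : M → M))).injective_subtype
      have h1 := (hasPDLT_iff_of_exact B
        (K := ↥(LinearMap.ker (Finsupp.linearCombination B (id : M → M)))) (F := M →₀ B) (X := M)
        (Submodule.subtype (LinearMap.ker (Finsupp.linearCombination B (id : M → M))))
        (Finsupp.linearCombination B (id : M → M)) hinj hπ hex m).mp h
      have h2 := ih ↥(LinearMap.ker (Finsupp.linearCombination B (id : M → M))) h1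
      exact (hasPDLT_baseChange_iff A A' B B'
        (K := ↥(LinearMap.ker (Finsupp.linearCombination B (id : M → M)))) (F := M →₀ B) (X := M)
        (Submodule.subtype (LinearMap.ker (Finsupp.linearCombination B (id : M → M))))
        (Finsupp.linearCombination B (id : M → M)) hinj hπ hex m).mpr h2

end Pushout

/-- **the inductive step on a Noetherian flat model**: projective dimension of `B ⊗ X` is bounded
by that of its fibres. -/
theorem hasPDLT_of_fibres (A₀ A B₀ B : Type u) [CommRing A₀] [CommRing A]
    [CommRing B₀] [CommRing B]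
    [Algebra A₀ A] [Algebra A₀ B₀] [Algebra A B] [Algebra B₀ B] [Algebra A₀ B]
    [IsScalarTower A₀ A B] [IsScalarTower A₀ B₀ B] [Algebra.IsPushout A₀ A B₀ B]
    [IsNoetherianRing B₀] [Module.Flat A₀ B₀] :
    ∀ (k : ℕ) (X : Type u) [AddCommGroup X] [Module B₀ X] [Module A₀ X] [IsScalarTower A₀ B₀ X]
      [Module.Finite B₀ X] [Module.Flat A₀ X],
      (∀ p : PrimeSpectrum A, HasProjectiveDimensionLT
        (ModuleCat.of (B ⊗[A] p.asIdeal.ResidueField)
          ((B ⊗[A] p.asIdeal.ResidueField) ⊗[B] (B ⊗[B₀] X))) (k + 1)) →
        HasProjectiveDimensionLT (ModuleCat.of B (B ⊗[B₀] X)) (k + 1) := by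
  intro k
  induction k with
  | zero =>
    intro X _ _ _ _ _ _ h
    haveI : Module.Flat A (B ⊗[B₀] X) :=
      Module.Flat.of_linearEquiv (Algebra.IsPushout.cancelBaseChange A₀ A B₀ B X)
    haveI : Module.FinitePresentation B₀ X := Module.finitePresentation_of_finite B₀ X
    haveI : Module.Projective B (B ⊗[B₀] X) := by
      refine projective_of_fibres A B (B ⊗[B₀] X) (fun p => ?_)
      have hP : Projective (ModuleCat.of (B ⊗[A] p.asIdeal.ResidueField)
          ((B ⊗[A] p.asIdeal.ResidueField) ⊗[B] (B ⊗[B₀] X))) :=
        projective_iff_hasProjectiveDimensionLT_one.mpr (h p)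
      haveI : Module.Projective (B ⊗[A] p.asIdeal.ResidueField)
          ((B ⊗[A] p.asIdeal.ResidueField) ⊗[B] (B ⊗[B₀] X)) :=
        (IsProjective.iff_projective _).mpr hP
      infer_instance
    haveI : Projective (ModuleCat.of B (B ⊗[B₀] X)) :=
      (IsProjective.iff_projective (B ⊗[B₀] X)).mp inferInstance
    infer_instance
  | succ k ih =>
    intro X _ _ _ _ _ _ h
    obtain ⟨r, π, hπ⟩ := Module.Finite.exists_fin' B₀ X
    haveI : Module.Flat A₀ (Fin r → B₀) := Module.Flat.trans A₀ B₀ (Fin r → B₀)
    haveI hKflat : Module.Flat A₀ ↥(LinearMap.ker π) :=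
      Groth.Agent.Helper5.FlatAcyc.flat_ker (π.restrictScalars A₀) hπ
    have hex := LinearMap.exact_subtype_ker_map π
    have hinj := (LinearMap.ker π).injective_subtype
    obtain ⟨h1, h2, h3⟩ := baseChange_exact_triple A₀ A B₀ B
      (K := ↥(LinearMap.ker π)) (F := Fin r → B₀) (X := X)
      (Submodule.subtype (LinearMap.ker π)) π hinj hπ hex
    haveI : Module.Flat A (B ⊗[B₀] X) :=
      Module.Flat.of_linearEquiv (Algebra.IsPushout.cancelBaseChange A₀ A B₀ B X)
    have hK : ∀ p : PrimeSpectrum A, HasProjectiveDimensionLT
        (ModuleCat.of (B ⊗[A] p.asIdeal.ResidueField)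
          ((B ⊗[A] p.asIdeal.ResidueField) ⊗[B] (B ⊗[B₀] ↥(LinearMap.ker π)))) (k + 1) :=
      fun p => (hasPDLT_baseChange_iff A p.asIdeal.ResidueField B
        (B ⊗[A] p.asIdeal.ResidueField)
        (K := B ⊗[B₀] ↥(LinearMap.ker π)) (F := B ⊗[B₀] (Fin r → B₀)) (X := B ⊗[B₀] X)
        ((Submodule.subtype (LinearMap.ker π)).baseChange B) (π.baseChange B) h1 h2 h3 k).mp (h p)
    have hK' := ih ↥(LinearMap.ker π) hK
    exact (hasPDLT_baseChange_iff A₀ A B₀ B
      (K := ↥(LinearMap.ker π)) (F := Fin r → B₀) (X := X)
      (Submodule.subtype (LinearMap.ker π)) π hinj hπ hex k).mpr hK'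

/-- **S5930**: projective dimension of a finitely presented module, flat over the base, over a flat
finitely presented algebra is the supremum of the projective dimensions of its fibres. -/
theorem S5930_main (A B M : Type u) [CommRing A] [CommRing B] [Algebra A B]
    [Algebra.FinitePresentation A B] [Module.Flat A B] [AddCommGroup M] [Module B M] [Module A M]
    [IsScalarTower A B M] [Module.FinitePresentation B M] [Module.Flat A M] :
    projectiveDimension (ModuleCat.of B M) =
      ⨆ p : PrimeSpectrum A, projectiveDimension
        (ModuleCat.of (B ⊗[A] p.asIdeal.ResidueField)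
          ((B ⊗[A] p.asIdeal.ResidueField) ⊗[B] M)) := by
  apply le_antisymm
  · apply sInf_le
    intro i hi
    have hfib : ∀ p : PrimeSpectrum A, HasProjectiveDimensionLT
        (ModuleCat.of (B ⊗[A] p.asIdeal.ResidueField)
          ((B ⊗[A] p.asIdeal.ResidueField) ⊗[B] M)) i := fun p =>
      projectiveDimension_lt_iff.mp (lt_of_le_of_lt
        (le_iSup (fun p : PrimeSpectrum A => projectiveDimension
          (ModuleCat.of (B ⊗[A] p.asIdeal.ResidueField)
            ((B ⊗[A] p.asIdeal.ResidueField) ⊗[B] M))) p) hi)
    cases i with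
    | zero =>
      haveI : Subsingleton M := subsingleton_of_fibres A B M (fun p =>
        ModuleCat.subsingleton_of_isZero
          (@isZero_of_hasProjectiveDimensionLT_zero _ _ _ _ (hfib p)))
      exact (ModuleCat.isZero_of_subsingleton (ModuleCat.of B M)).hasProjectiveDimensionLT_zero
    | succ k =>
      obtain ⟨A₀, _, _, B₀, _, _, _, _, _, _, M₀, _, _, _, _, _, _, f, hA₀, hB₀, hfin, hflM, hflB,
        hpush, hbc⟩ := exists_flat_model2 A B M
      haveI : IsNoetherianRing A₀ := Algebra.FiniteType.isNoetherianRing ℤ A₀
      haveI : IsNoetherianRing B₀ := Algebra.FiniteType.isNoetherianRing A₀ B₀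
      let e : (B ⊗[B₀] M₀) ≃ₗ[B] M := hbc.equiv
      have hfib' : ∀ p : PrimeSpectrum A, HasProjectiveDimensionLT
          (ModuleCat.of (B ⊗[A] p.asIdeal.ResidueField)
            ((B ⊗[A] p.asIdeal.ResidueField) ⊗[B] (B ⊗[B₀] M₀))) (k + 1) := fun p => by
        have := hfib p
        exact hasProjectiveDimensionLT_of_iso
          (LinearEquiv.baseChange B (B ⊗[A] p.asIdeal.ResidueField) _ _ e).toModuleIso.symm (k + 1)
      have := hasPDLT_of_fibres A₀ A B₀ B k M₀ hfib'
      exact hasProjectiveDimensionLT_of_iso e.toModuleIso (k + 1)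
  · apply iSup_le
    intro p
    apply sInf_le_sInf
    intro n hn i hi
    exact hasPDLT_baseChange A p.asIdeal.ResidueField B (B ⊗[A] p.asIdeal.ResidueField) i M
      (hn i hi)

end Groth.Agent.Helper3.PdFib
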