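import Mathlib
import Groth.Agent.Lib.Helper3.PdFib2

/-! Syzygies of finitely presented modules, flat over the base, over a flat finitely presented
algebra are again finitely presented (and flat over the base). -/

set_option autoImplicit false
universe u
open TensorProduct

namespace Groth.Agent.Helper3.FinRes
open Groth.Agent.Helper3.PdTor Groth.Agent.Helper3.PdFib

attribute [local instance] Algebra.TensorProduct.rightAlgebra

/-- **Schanuel-type lemma**: if one finite projective cover of `N` has a finitely presented kernel,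
so does any other. -/
theorem fp_ker_of_fp_ker {R : Type u} [CommRing R] {F F' N : Type u} [AddCommGroup F]
    [AddCommGroup F'] [AddCommGroup N] [Module R F] [Module R F'] [Module R N]
    [Module.FinitePresentation R F] [Module.Projective R F']
    (π : F →ₗ[R] N) (π' : F' →ₗ[R] N) (hπ : Function.Surjective π)
    (hπ' : Function.Surjective π')
    [Module.FinitePresentation R ↥(LinearMap.ker π')] :
    Module.FinitePresentation R ↥(LinearMap.ker π) := by
  -- the pullback
  let φ : (F × F') →ₗ[R] N := π ∘ₗ LinearMap.fst R F F' - π' ∘ₗ LinearMap.snd R F F'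
  have hφ : ∀ z : F × F', z ∈ LinearMap.ker φ ↔ π z.1 = π' z.2 := by
    intro z
    simp only [LinearMap.mem_ker, φ, LinearMap.sub_apply, LinearMap.coe_comp, Function.comp_apply,
      LinearMap.fst_apply, LinearMap.snd_apply, sub_eq_zero]
  let p₁ : ↥(LinearMap.ker φ) →ₗ[R] F := LinearMap.fst R F F' ∘ₗ (LinearMap.ker φ).subtype
  let p₂ : ↥(LinearMap.ker φ) →ₗ[R] F' := LinearMap.snd R F F' ∘ₗ (LinearMap.ker φ).subtype
  have hp₁ : Function.Surjective p₁ := by
    intro x
    obtain ⟨y, hy⟩ := hπ' (π x)
    exact ⟨⟨(x, y), (hφ _).mpr hy.symm⟩, rfl⟩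
  -- kernel of p₁
  let g : ↥(LinearMap.ker π') →ₗ[R] ↥(LinearMap.ker φ) :=
    LinearMap.codRestrict (LinearMap.ker φ)
      (LinearMap.inr R F F' ∘ₗ (LinearMap.ker π').subtype) (fun y => by
        rw [hφ]
        simp only [LinearMap.coe_comp, Submodule.coe_subtype, Function.comp_apply,
          LinearMap.inr_apply, map_zero]
        exact (LinearMap.mem_ker.mp y.2).symm)
  have hg : Function.Injective g := by
    intro y y' h
    have := congrArg (fun z : ↥(LinearMap.ker φ) => (z : F × F').2) h
    exact Subtype.ext this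
  have hgr : LinearMap.range g = LinearMap.ker p₁ := by
    ext z
    constructor
    · rintro ⟨y, rfl⟩
      rfl
    · intro hz
      have hz1 : (z : F × F').1 = 0 := hz
      have hz2 : π' (z : F × F').2 = 0 := by
        rw [← (hφ _).mp z.2, hz1, map_zero]
      refine ⟨⟨(z : F × F').2, hz2⟩, ?_⟩
      apply Subtype.ext
      apply Prod.ext
      · exact hz1.symm
      · rfl
  have e₁ : ↥(LinearMap.ker π') ≃ₗ[R] ↥(LinearMap.ker p₁) :=
    (LinearEquiv.ofInjective g hg).trans
      (LinearEquiv.ofEq (LinearMap.range g) (LinearMap.ker p₁) hgr)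
  haveI : Module.FinitePresentation R ↥(LinearMap.ker p₁) :=
    Module.FinitePresentation.of_equiv (R := R) (M := ↥(LinearMap.ker π'))
      (N := ↥(LinearMap.ker p₁)) e₁
  haveI : Module.FinitePresentation R ↥(LinearMap.ker φ) :=
    Module.finitePresentation_of_ker p₁ hp₁
  -- the other projection
  have hp₂ : Function.Surjective p₂ := by
    intro y
    obtain ⟨x, hx⟩ := hπ (π' y)
    exact ⟨⟨(x, y), (hφ _).mpr hx⟩, rfl⟩
  let f : ↥(LinearMap.ker π) →ₗ[R] ↥(LinearMap.ker φ) :=
    LinearMap.codRestrict (LinearMap.ker φ)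
      (LinearMap.inl R F F' ∘ₗ (LinearMap.ker π).subtype) (fun x => by
        rw [hφ]
        simp only [LinearMap.coe_comp, Submodule.coe_subtype, Function.comp_apply,
          LinearMap.inl_apply, map_zero]
        exact LinearMap.mem_ker.mp x.2)
  have hf : Function.Injective f := by
    intro x x' h
    have := congrArg (fun z : ↥(LinearMap.ker φ) => (z : F × F').1) h
    exact Subtype.ext this
  have hfp : Function.Exact f p₂ := by
    intro z
    constructor
    · intro hz
      have hz2 : (z : F × F').2 = 0 := hz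
      have hz1 : π (z : F × F').1 = 0 := by
        rw [(hφ _).mp z.2, hz2, map_zero]
      refine ⟨⟨(z : F × F').1, hz1⟩, ?_⟩
      apply Subtype.ext
      apply Prod.ext
      · rfl
      · exact hz2.symm
    · rintro ⟨x, rfl⟩
      rfl
  exact Module.finitePresentation_of_projective_of_exact f p₂ hf hp₂ hfp

/-- the class of modules: finitely presented over `B` and flat over `A` -/
def P (A B : Type u) [CommRing A] [CommRing B] [Algebra A B] (N : Type u) [AddCommGroup N]
    [Module B N] : Prop :=
  Module.FinitePresentation B N ∧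
    (letI := Module.compHom N (algebraMap A B); Module.Flat A N)

theorem P_of_tower (A B : Type u) [CommRing A] [CommRing B] [Algebra A B] {N₁ N₂ : Type u}
    [AddCommGroup N₁] [Module B N₁] [Module A N₁] [IsScalarTower A B N₁]
    [Module.FinitePresentation B N₁] [Module.Flat A N₁]
    [AddCommGroup N₂] [Module B N₂] (e : N₁ ≃ₗ[B] N₂) : P A B N₂ := by
  refine ⟨Module.FinitePresentation.of_equiv (R := B) (M := N₁) (N := N₂) e, ?_⟩
  letI := Module.compHom N₂ (algebraMap A B)
  haveI : IsScalarTower A B N₂ := IsScalarTower.of_compHom _ _ _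
  exact Module.Flat.of_linearEquiv (e.restrictScalars A).symm

theorem P_of_equiv (A B : Type u) [CommRing A] [CommRing B] [Algebra A B] {N₁ N₂ : Type u}
    [AddCommGroup N₁] [Module B N₁] [AddCommGroup N₂] [Module B N₂] (e : N₁ ≃ₗ[B] N₂)
    (h : P A B N₁) : P A B N₂ := by
  obtain ⟨h1, h2⟩ := h
  letI := Module.compHom N₁ (algebraMap A B)
  haveI : IsScalarTower A B N₁ := IsScalarTower.of_compHom _ _ _
  haveI : Module.Flat A N₁ := h2
  exact P_of_tower A B e

/-- **syzygies stay in the class** -/
theorem P_ker (A B : Type u) [CommRing A] [CommRing B] [Algebra A B]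
    [Algebra.FinitePresentation A B] [Module.Flat A B] {F N : Type u} [AddCommGroup F]
    [Module B F] [Module.Finite B F] [Module.Free B F] [AddCommGroup N] [Module B N]
    (π : F →ₗ[B] N) (hπ : Function.Surjective π) (h : P A B N) :
    P A B ↥(LinearMap.ker π) := by
  obtain ⟨h1, h2⟩ := h
  letI := Module.compHom N (algebraMap A B)
  haveI : IsScalarTower A B N := IsScalarTower.of_compHom _ _ _
  haveI : Module.Flat A N := h2
  letI := Module.compHom F (algebraMap A B)
  haveI : IsScalarTower A B F := IsScalarTower.of_compHom _ _ _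
  haveI : Module.Flat A F := Module.Flat.trans A B F
  haveI hKflat : Module.Flat A ↥(LinearMap.ker π) :=
    Groth.Agent.Helper5.FlatAcyc.flat_ker (π.restrictScalars A) hπ
  -- a model
  obtain ⟨A₀, _, _, B₀, _, _, _, _, _, _, M₀, _, _, _, _, _, _, f, hA₀, hB₀, hfin, hflM, hflB,
    hpush, hbc⟩ := exists_flat_model2 A B N
  haveI : IsNoetherianRing A₀ := Algebra.FiniteType.isNoetherianRing ℤ A₀
  haveI : IsNoetherianRing B₀ := Algebra.FiniteType.isNoetherianRing A₀ B₀
  let e : (B ⊗[B₀] M₀) ≃ₗ[B] N := hbc.equiv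
  obtain ⟨r, π₀, hπ₀⟩ := Module.Finite.exists_fin' B₀ M₀
  have hex := LinearMap.exact_subtype_ker_map π₀
  have hinj := (LinearMap.ker π₀).injective_subtype
  obtain ⟨k1, k2, k3⟩ := baseChange_exact_triple A₀ A B₀ B
    (K := ↥(LinearMap.ker π₀)) (F := Fin r → B₀) (X := M₀)
    (Submodule.subtype (LinearMap.ker π₀)) π₀ hinj hπ₀ hex
  haveI : IsNoetherian B₀ (Fin r → B₀) := isNoetherian_of_isNoetherianRing_of_finite B₀ _
  haveI : Module.Finite B₀ ↥(LinearMap.ker π₀) := Module.IsNoetherian.finite B₀ _
  haveI : Module.FinitePresentation B₀ ↥(LinearMap.ker π₀) :=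
    Module.finitePresentation_of_finite B₀ _
  let π' : (B ⊗[B₀] (Fin r → B₀)) →ₗ[B] N := e.toLinearMap ∘ₗ (π₀.baseChange B)
  have hπ' : Function.Surjective π' := e.surjective.comp k2
  have hker : LinearMap.ker π' =
      LinearMap.range ((Submodule.subtype (LinearMap.ker π₀)).baseChange B) := by
    rw [LinearMap.ker_comp_of_ker_eq_bot _ e.ker]
    exact (LinearMap.exact_iff.mp k3)
  have e₂ : (B ⊗[B₀] ↥(LinearMap.ker π₀)) ≃ₗ[B] ↥(LinearMap.ker π') :=
    (LinearEquiv.ofInjective _ k1).trans (LinearEquiv.ofEq _ _ hker.symm)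
  haveI : Module.FinitePresentation B ↥(LinearMap.ker π') :=
    Module.FinitePresentation.of_equiv (R := B) (M := B ⊗[B₀] ↥(LinearMap.ker π₀))
      (N := ↥(LinearMap.ker π')) e₂
  haveI : Module.FinitePresentation B F := Module.finitePresentation_of_projective B F
  haveI : Module.FinitePresentation B ↥(LinearMap.ker π) :=
    fp_ker_of_fp_ker π π' hπ hπ'
  exact P_of_tower A B (LinearEquiv.refl B ↥(LinearMap.ker π))

end Groth.Agent.Helper3.FinRes
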