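import Mathlib
import Groth.Agent.Lib.Helper3.FinRes1
import Groth.Agent.Lib.Helper3.ColimFlat10

/-! The kernel of a surjection of finitely presented modules over a finitely presented algebra,
onto a module which is flat over the base, is finitely presented (helper3). -/

set_option autoImplicit false
universe u
open TensorProduct

namespace Groth.Agent.Helper3.KerFP
open Groth.Agent.Helper3.PdTor Groth.Agent.Helper3.PdFib Groth.Agent.Helper3.FinRes
  Groth.Agent.Helper3.ColimFlat

attribute [local instance] Algebra.TensorProduct.rightAlgebra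

/-- **EGA IV 11.3.9.1, ring form**: for `B` a finitely presented `A`-algebra, `G`, `N` finitely
presented `B`-modules with `N` flat over `A`, the kernel of any surjection `G → N` is finitely
presented over `B`. -/
theorem fp_ker_of_surjective_of_flat (A B : Type u) [CommRing A] [CommRing B] [Algebra A B]
    [Algebra.FinitePresentation A B] {G N : Type u} [AddCommGroup G] [Module B G]
    [Module.FinitePresentation B G] [AddCommGroup N] [Module B N] [Module A N]
    [IsScalarTower A B N] [Module.FinitePresentation B N] [Module.Flat A N]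
    (π : G →ₗ[B] N) (hπ : Function.Surjective π) :
    Module.FinitePresentation B ↥(LinearMap.ker π) := by
  obtain ⟨A₀, _, _, B₀, _, _, _, _, _, _, M₀, _, _, _, _, _, _, f, hA₀, hB₀, hfin, hflM,
    hpush, hbc⟩ := S9456_main A B N
  haveI : IsNoetherianRing A₀ := Algebra.FiniteType.isNoetherianRing ℤ A₀
  haveI : IsNoetherianRing B₀ := Algebra.FiniteType.isNoetherianRing A₀ B₀
  let e : (B ⊗[B₀] M₀) ≃ₗ[B] N := hbc.equiv
  obtain ⟨r, π₀, hπ₀⟩ := Module.Finite.exists_fin' B₀ M₀
  have hex := LinearMap.exact_subtype_ker_map π₀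
  have hinj := (LinearMap.ker π₀).injective_subtype
  letI : Module A₀ (Fin r → B₀) := inferInstance
  obtain ⟨k1, k2, k3⟩ := baseChange_exact_triple A₀ A B₀ B
    (K := ↥(LinearMap.ker π₀)) (F := Fin r → B₀) (X := M₀)
    (Submodule.subtype (LinearMap.ker π₀)) π₀ hinj hπ₀ hex
  haveI : IsNoetherian B₀ (Fin r → B₀) := isNoetherian_of_isNoetherianRing_of_finite B₀ _
  haveI : Module.Finite B₀ ↥(LinearMap.ker π₀) := Module.IsNoetherian.finite B₀ _
  haveI : Module.FinitePresentation B₀ ↥(LinearMap.ker π₀) :=
    Module.finitePresentation_of_finite B₀ _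
  let π' : (B ⊗[B₀] (Fin r → B₀)) →ₗ[B] N := e.toLinearMap ∘ₗ (π₀.baseChange B)
  have hπ' : Function.Surjective π' := e.surjective.comp k2
  have hker : LinearMap.ker π' =
      LinearMap.range ((Submodule.subtype (LinearMap.ker π₀)).baseChange B) := by
    rw [LinearMap.ker_comp_of_ker_eq_bot _ e.ker]
    exact (LinearMap.exact_iff.mp k3)
  have e₂ : (B ⊗[B₀] ↥(LinearMap.ker π₀)) ≃ₗ[B] ↥(LinearMap.ker π') :=
    (LinearEquiv.ofInjective _ k1).trans (LinearEquiv.ofEq _ _ hker.symm)
  haveI : Module.FinitePresentation B ↥(LinearMap.ker π') :=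
    Module.FinitePresentation.of_equiv (R := B) (M := B ⊗[B₀] ↥(LinearMap.ker π₀))
      (N := ↥(LinearMap.ker π')) e₂
  exact fp_ker_of_fp_ker π π' hπ hπ'

end Groth.Agent.Helper3.KerFP
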