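import Mathlib
import Groth.Prelude.Def_FlatMod2
import Groth.Prelude.Def_Coh
import Groth.Prelude.Def_CohB1
import Groth.Agent.Lib.Helper3.KerFP1
import Groth.Agent.Lib.Helper3.RelFPS3
import Groth.Agent.Lib.Helper1.QcExt
import Groth.Agent.Lib.Helper1.AffPushEpi
import Groth.Agent.Lib.Lead.FO1
import Groth.Agent.Lib.Lead.FP2

/-! Local form of S4887 and finite presentation of cokernels (helper3). -/

set_option autoImplicit false
set_option backward.isDefEq.respectTransparency.types false
set_option synthInstance.maxHeartbeats 400000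
set_option linter.style.haveILetI false
universe u

open AlgebraicGeometry CategoryTheory CategoryTheory.Limits TopologicalSpace

namespace Groth.Agent.Helper3.KerFP

open Groth.Agent.Lead.FO Scheme.Modules Groth.Agent.Helper3.RelFPS

section Ker

variable {X : Scheme.{u}} {G H : X.Modules} (p : G ⟶ H)

/-- the short exact sequence `0 → ker p → G → H → 0` of an epimorphism -/
theorem shortExact_kernel [Epi p] :
    (ShortComplex.mk (kernel.ι p) p (kernel.condition p)).ShortExact :=
  { exact := ShortComplex.exact_of_f_is_kernel _ (kernelIsKernel p)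
    mono_f := inferInstanceAs (Mono (kernel.ι p))
    epi_g := inferInstanceAs (Epi p) }

/-- sections of the kernel of an epimorphism of quasi-coherent modules over an affine open -/
noncomputable def sectionsKernelEquiv [G.IsQuasicoherent] [H.IsQuasicoherent] [Epi p]
    (U : X.Opens) :
    Γ(kernel p, U) ≃ₗ[Γ(X, U)] ↥(LinearMap.ker (appₗ p U)) :=
  have hinj : Function.Injective (appₗ (kernel.ι p) U) :=
    Groth.Agent.Helper1.QcExt.app_injective (shortExact_kernel p) U
  have hrange : LinearMap.range (appₗ (kernel.ι p) U) = LinearMap.ker (appₗ p U) := by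
    ext y
    constructor
    · rintro ⟨z, rfl⟩
      exact Groth.Agent.Helper1.QcExt.app_zero
        (ShortComplex.mk (kernel.ι p) p (kernel.condition p)) U z
    · intro hy
      obtain ⟨z, hz⟩ := Groth.Agent.Helper1.QcExt.app_exact (shortExact_kernel p) U y hy
      exact ⟨z, hz⟩
  (LinearEquiv.ofInjective _ hinj).trans (LinearEquiv.ofEq _ _ hrange)

theorem sectionsKernelEquiv_apply [G.IsQuasicoherent] [H.IsQuasicoherent] [Epi p]
    (U : X.Opens) (z : Γ(kernel p, U)) :
    ((sectionsKernelEquiv p U z : ↥(LinearMap.ker (appₗ p U))) : Γ(G, U)) =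
      (kernel.ι p).app U z := rfl

end Ker

/-- **local form of S4887**: over an affine open `U ≤ f⁻¹ V` at all of whose points `H` is flat
over `Y`, the sections of the kernel of an epimorphism `G → H` of finitely presented modules are
finitely presented. -/
theorem fp_sections_kernel {X Y : Scheme.{u}} (f : X ⟶ Y) [LocallyOfFinitePresentation f]
    (G H : X.Modules) [G.IsQuasicoherent] [H.IsQuasicoherent] (hG : CohB1.IsFP G)
    (hH : CohB1.IsFP H) (p : G ⟶ H) [Epi p] {U : X.Opens} {V : Y.Opens}
    (hU : IsAffineOpen U) (hV : IsAffineOpen V) (hUV : U ≤ f ⁻¹ᵁ V)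
    (hflat : ∀ z : U, FlatMod.IsFlatOverAt f H z.1) :
    Module.FinitePresentation Γ(X, U) Γ(kernel p, U) := by
  have hφ : (f.appLE V U hUV).hom.FinitePresentation :=
    HasRingHomProperty.appLE (P := @LocallyOfFinitePresentation) f inferInstance ⟨V, hV⟩ ⟨U, hU⟩ hUV
  letI alg : Algebra Γ(Y, V) Γ(X, U) := (f.appLE V U hUV).hom.toAlgebra
  letI m1 := sectionsOver f H hUV
  haveI t1 : IsScalarTower Γ(Y, V) Γ(X, U) Γ(H, U) :=
    IsScalarTower.of_algebraMap_smul fun r m => rfl
  haveI : Algebra.FinitePresentation Γ(Y, V) Γ(X, U) := hφ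
  haveI : Module.FinitePresentation Γ(X, U) Γ(G, U) :=
    Groth.Agent.Lead.FP.fp_sections_of_isFP G hG hU
  haveI : Module.FinitePresentation Γ(X, U) Γ(H, U) :=
    Groth.Agent.Lead.FP.fp_sections_of_isFP H hH hU
  haveI : Module.Flat Γ(Y, V) Γ(H, U) :=
    flat_sectionsOver_of_isFlatOverAt f H hU hV hUV hflat
  have hsurj : Function.Surjective (appₗ p U) :=
    Groth.Agent.Helper1.AffPushEpi.app_surjective_of_epi p U hU
  haveI : Module.FinitePresentation Γ(X, U) ↥(LinearMap.ker (appₗ p U)) :=
    fp_ker_of_surjective_of_flat Γ(Y, V) Γ(X, U) (appₗ p U) hsurj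
  exact Module.FinitePresentation.of_equiv (sectionsKernelEquiv p U).symm

end Groth.Agent.Helper3.KerFP
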