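import Mathlib
import Groth.Agent.Lib.Helper1.LocalCrit

/-!
# Descent of flatness along finite injective maps: basic lemmas

* `flat_of_conductor`: flatness over a ring `R ⊆ S` sharing an ideal `I` with `S`
  (Milnor square) follows from flatness over `S` and over `R/I`.
* `flat_of_inf_eq_bot`: flatness modulo two ideals with zero intersection gives flatness.
* `rTensor_comap_span_injective`: the division trick.
-/

set_option autoImplicit false

namespace Groth.Agent.Helper3.FinDesc

open TensorProduct Groth.Agent.Helper1.LocalCrit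

universe u v

section Factor

variable {R S : Type*} [CommRing R] [CommRing S] [Algebra R S]
  (M : Type*) [AddCommGroup M] [Module R M]

/-- The map from an ideal of `R` to an ideal of `S` containing its image. -/
def toP (J : Ideal R) (P : Ideal S) (hJP : ∀ r ∈ J, algebraMap R S r ∈ P) : J →ₗ[R] P where
  toFun r := ⟨algebraMap R S r, hJP r r.2⟩
  map_add' x y := by
    apply Subtype.ext
    simp
  map_smul' r x := by
    apply Subtype.ext
    simp [Algebra.smul_def]

@[simp] theorem toP_coe (J : Ideal R) (P : Ideal S) (hJP : ∀ r ∈ J, algebraMap R S r ∈ P) (r : J) :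
    (toP J P hJP r : S) = algebraMap R S r := rfl

theorem toP_injective (hinj : Function.Injective (algebraMap R S)) (J : Ideal R) (P : Ideal S)
    (hJP : ∀ r ∈ J, algebraMap R S r ∈ P) : Function.Injective (toP J P hJP) := by
  intro x y hxy
  apply Subtype.ext
  apply hinj
  exact congrArg Subtype.val hxy

/-- If `J → P` is `M`-pure, where `P` is an ideal of `S` and `S ⊗ M` is `S`-flat, then
`J ⊗ M → M` is injective. -/
theorem rTensor_subtype_injective_of_toP [Module.Flat S (S ⊗[R] M)] (J : Ideal R) (P : Ideal S)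
    (hJP : ∀ r ∈ J, algebraMap R S r ∈ P)
    (hu : Function.Injective ((toP J P hJP).rTensor M)) :
    Function.Injective (J.subtype.rTensor M) := by
  have h2 : Function.Injective (((P.subtype : P →ₗ[S] S).restrictScalars R).rTensor M) :=
    rTensor_restrictScalars_injective S M P.subtype P.subtype_injective
  have hcomp : ((P.subtype : P →ₗ[S] S).restrictScalars R) ∘ₗ (toP J P hJP) =
      (Algebra.linearMap R S) ∘ₗ J.subtype := by
    ext x
    rfl
  have h3 : Function.Injective (((Algebra.linearMap R S) ∘ₗ J.subtype).rTensor M) := by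
    rw [← hcomp, LinearMap.rTensor_comp]
    exact h2.comp hu
  rw [LinearMap.rTensor_comp] at h3
  exact Function.Injective.of_comp h3

end Factor

section Milnor

variable {R S : Type*} [CommRing R] [CommRing S] [Algebra R S]

/-- **Milnor squares and flatness**. Let `R → S` be injective and `I` an ideal of `R` whose
image is an ideal of `S`. If `S ⊗ M` is flat over `S` and `M/IM` is flat over `R/I`, then `M`
is flat over `R`. -/
theorem flat_of_conductor (hinj : Function.Injective (algebraMap R S)) (I : Ideal R)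
    (hI : ∀ (s : S) (i : R), i ∈ I → ∃ r ∈ I, algebraMap R S r = s * algebraMap R S i)
    (M : Type*) [AddCommGroup M] [Module R M] [Module.Flat S (S ⊗[R] M)]
    [Module.Flat (R ⧸ I) ((R ⧸ I) ⊗[R] M)] : Module.Flat R M := by
  -- `I ⊗ M → M` is injective
  have hsurjI : Function.Surjective
      (toP I (I.map (algebraMap R S)) (fun r hr => Ideal.mem_map_of_mem _ hr)) := by
    rintro ⟨z, hz⟩
    have : ∃ r ∈ I, algebraMap R S r = z := by
      unfold Ideal.map at hz
      induction hz using Submodule.span_induction with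
      | mem z hz =>
        obtain ⟨r, hr, rfl⟩ := hz
        exact ⟨r, hr, rfl⟩
      | zero => exact ⟨0, I.zero_mem, by simp⟩
      | add a b _ _ ha hb =>
        obtain ⟨r, hr, rfl⟩ := ha
        obtain ⟨r', hr', rfl⟩ := hb
        exact ⟨r + r', I.add_mem hr hr', by simp⟩
      | smul s a _ ha =>
        obtain ⟨r, hr, rfl⟩ := ha
        obtain ⟨r', hr', h⟩ := hI s r hr
        exact ⟨r', hr', by rw [h, smul_eq_mul]⟩
    obtain ⟨r, hr, rfl⟩ := this
    exact ⟨⟨r, hr⟩, rfl⟩
  have h1 : Function.Injective (I.subtype.rTensor M) := by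
    apply rTensor_subtype_injective_of_toP M I (I.map (algebraMap R S))
      (fun r hr => Ideal.mem_map_of_mem _ hr)
    let e := LinearEquiv.ofBijective _ ⟨toP_injective hinj I _ _, hsurjI⟩
    exact (e.rTensor M).injective
  rw [Module.Flat.iff_rTensor_injective']
  intro J
  apply rTensor_subtype_injective_of_toP M J (J.map (algebraMap R S))
    (fun r hr => Ideal.mem_map_of_mem _ hr)
  apply rTensor_injective_of_range M _ (toP_injective hinj J _ _)
  apply rTensor_subtype_injective_of_smul_le I (R ⧸ I) M Ideal.Quotient.mk_surjective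
    Ideal.mk_ker h1
  rw [Submodule.smul_le]
  rintro i hi ⟨z, hz⟩ -
  have key : ∀ i ∈ I, ∃ j ∈ J, algebraMap R S j = algebraMap R S i * z := by
    unfold Ideal.map at hz
    induction hz using Submodule.span_induction with
    | mem z hz =>
      obtain ⟨j, hj, rfl⟩ := hz
      intro i _
      exact ⟨i * j, J.mul_mem_left _ hj, by simp⟩
    | zero => intro i _; exact ⟨0, J.zero_mem, by simp⟩
    | add a b _ _ ha hb =>
      intro i hi
      obtain ⟨j, hj, h⟩ := ha i hi
      obtain ⟨j', hj', h'⟩ := hb i hi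
      exact ⟨j + j', J.add_mem hj hj', by rw [map_add, h, h', mul_add]⟩
    | smul s a _ ha =>
      intro i hi
      obtain ⟨r, hr, h⟩ := hI s i hi
      obtain ⟨j, hj, h'⟩ := ha r hr
      refine ⟨j, hj, ?_⟩
      rw [h', h, smul_eq_mul]
      ring
  obtain ⟨j, hj, h⟩ := key i hi
  refine ⟨⟨j, hj⟩, ?_⟩
  apply Subtype.ext
  simp [h, Algebra.smul_def]

end Milnor

section TwoIdeals

variable {R : Type*} [CommRing R]

/-- Injectivity of `I₁ ⊗ M → M` when `I₁ ∩ I₂ = 0` and `M/I₂M` is flat over `R/I₂`. -/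
theorem rTensor_subtype_injective_of_inf_eq_bot (I₁ I₂ : Ideal R) (h : I₁ ⊓ I₂ = ⊥)
    (M : Type*) [AddCommGroup M] [Module R M] [Module.Flat (R ⧸ I₂) ((R ⧸ I₂) ⊗[R] M)] :
    Function.Injective (I₁.subtype.rTensor M) := by
  let u : I₁ →ₗ[R] R ⧸ I₂ := (Submodule.mkQ I₂) ∘ₗ I₁.subtype
  have hu : Function.Injective u := by
    rw [injective_iff_map_eq_zero]
    intro x hx
    have h1 : (x : R) ∈ I₂ := by
      have : Submodule.Quotient.mk (p := I₂) (x : R) = 0 := hx
      rwa [Submodule.Quotient.mk_eq_zero] at this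
    have h2 : (x : R) ∈ I₁ ⊓ I₂ := ⟨x.2, h1⟩
    rw [h] at h2
    exact Subtype.ext h2
  have h3 : Function.Injective (u.rTensor M) := by
    apply rTensor_injective_of_range M u hu
    exact rTensor_subtype_injective_of_surjective (R ⧸ I₂) M Ideal.Quotient.mk_surjective _
  have h4 : u.rTensor M = (Submodule.mkQ I₂).rTensor M ∘ₗ I₁.subtype.rTensor M :=
    LinearMap.rTensor_comp _ _ _
  rw [h4] at h3
  exact Function.Injective.of_comp h3

/-- If `M/I₁M` and `M/I₂M` are flat over `R/I₁` and `R/I₂` and `I₁ ∩ I₂ = 0`, then `M` is flat. -/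
theorem flat_of_inf_eq_bot (I₁ I₂ : Ideal R) (h : I₁ ⊓ I₂ = ⊥)
    (M : Type*) [AddCommGroup M] [Module R M] [Module.Flat (R ⧸ I₁) ((R ⧸ I₁) ⊗[R] M)]
    [Module.Flat (R ⧸ I₂) ((R ⧸ I₂) ⊗[R] M)] : Module.Flat R M := by
  have h1 := rTensor_subtype_injective_of_inf_eq_bot I₁ I₂ h M
  have h2 := rTensor_subtype_injective_of_inf_eq_bot I₂ I₁ (by rwa [inf_comm]) M
  rw [Module.Flat.iff_rTensor_injective']
  intro J
  have hle : J ≤ J ⊔ I₁ := le_sup_left
  have h3 : Function.Injective ((J ⊔ I₁ : Ideal R).subtype.rTensor M) := by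
    apply rTensor_subtype_injective_of_smul_le I₁ (R ⧸ I₁) M Ideal.Quotient.mk_surjective
      Ideal.mk_ker h1
    rw [Submodule.smul_le]
    intro i hi z _
    exact (J ⊔ I₁).mul_mem_right _ (le_sup_right (a := J) hi)
  have h4 : Function.Injective ((Submodule.inclusion hle).rTensor M) := by
    apply rTensor_injective_of_range M _ (Submodule.inclusion_injective hle)
    apply rTensor_subtype_injective_of_smul_le I₂ (R ⧸ I₂) M Ideal.Quotient.mk_surjective
      Ideal.mk_ker h2
    rw [Submodule.smul_le]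
    rintro i hi ⟨z, hz⟩ -
    obtain ⟨j, hj, i₁, hi₁, rfl⟩ := Submodule.mem_sup.mp hz
    have h0 : i * i₁ = 0 := by
      have : i * i₁ ∈ I₁ ⊓ I₂ := ⟨I₁.mul_mem_left _ hi₁, I₂.mul_mem_right _ hi⟩
      rwa [h] at this
    refine ⟨⟨i * j, J.mul_mem_left _ hj⟩, ?_⟩
    apply Subtype.ext
    simp [mul_add, h0]
  have : J.subtype = (J ⊔ I₁ : Ideal R).subtype ∘ₗ Submodule.inclusion hle :=
    LinearMap.ext fun x => rfl
  rw [this, LinearMap.rTensor_comp]
  exact h3.comp h4

end TwoIdeals

section Division

variable {R S : Type*} [CommRing R] [CommRing S] [Algebra R S]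

/-- **Division trick**. Let `x ∈ R`, `𝔞` an ideal killing `x` with `M/𝔞M` flat over `R/𝔞`, and
`I = xS ∩ R`. Then `I ⊗ M → M` is injective. -/
theorem rTensor_comap_span_injective (hinj : Function.Injective (algebraMap R S)) (x : R)
    (𝔞 : Ideal R) (h𝔞 : ∀ a ∈ 𝔞, a * x = 0)
    (M : Type*) [AddCommGroup M] [Module R M] [Module.Flat S (S ⊗[R] M)]
    [Module.Flat (R ⧸ 𝔞) ((R ⧸ 𝔞) ⊗[R] M)] :
    Function.Injective (((Ideal.span {algebraMap R S x}).comap (algebraMap R S)).subtype.rTensor
      M) := by
  set P : Ideal S := Ideal.span {algebraMap R S x} with hP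
  have htors : Module.IsTorsionBySet R P (𝔞 : Set R) := by
    rintro ⟨z, hz⟩ ⟨a, ha⟩
    apply Subtype.ext
    obtain ⟨s, rfl⟩ := Ideal.mem_span_singleton'.mp hz
    show a • (s * algebraMap R S x) = 0
    rw [Algebra.smul_def, mul_left_comm, ← map_mul, h𝔞 a ha, map_zero, mul_zero]
  letI : Module (R ⧸ 𝔞) P := htors.module
  haveI : IsScalarTower R (R ⧸ 𝔞) P := htors.isScalarTower
  have hJP : ∀ r ∈ P.comap (algebraMap R S), algebraMap R S r ∈ P := fun r hr => hr
  apply rTensor_subtype_injective_of_toP M (P.comap (algebraMap R S)) P hJP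
  apply rTensor_injective_of_range M _ (toP_injective hinj _ _ hJP)
  exact rTensor_subtype_injective_of_surjective (R ⧸ 𝔞) M Ideal.Quotient.mk_surjective _

end Division

end Groth.Agent.Helper3.FinDesc
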