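import Mathlib

/-!
# Relative flatness along a surjection

If `A → C` is a surjective ring map, `M` is a flat `C`-module, then `- ⊗[A] M` preserves
injections `N' → N` of `A`-modules with `N` killed by the kernel of `A → C`.
-/

namespace Groth.Agent.Helper3.LimFlat

open TensorProduct

section RelFlat

variable {A : Type*} [CommRing A] {C : Type*} [CommRing C] [Algebra A C]

/-- A `C`-scalar multiplication on an `A`-module via chosen lifts. -/
@[reducible] noncomputable def smulOfSurj (hs : Function.Surjective (algebraMap A C)) (N : Type*)
    [AddCommGroup N] [Module A N] : SMul C N :=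
  ⟨fun c x => Function.surjInv hs c • x⟩

theorem smulOfSurj_algebraMap (hs : Function.Surjective (algebraMap A C)) {N : Type*}
    [AddCommGroup N] [Module A N]
    (hk : ∀ a : A, algebraMap A C a = 0 → ∀ x : N, a • x = 0) (a : A) (x : N) :
    letI := smulOfSurj hs N
    (algebraMap A C a) • x = a • x := by
  show Function.surjInv hs (algebraMap A C a) • x = a • x
  rw [← sub_eq_zero, ← sub_smul]
  apply hk
  rw [map_sub, Function.surjInv_eq hs, sub_self]

/-- The `C`-module structure on an `A`-module killed by the kernel of `A → C`. -/
@[reducible] noncomputable def moduleOfSurj (hs : Function.Surjective (algebraMap A C)) (N : Type*)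
    [AddCommGroup N] [Module A N]
    (hk : ∀ a : A, algebraMap A C a = 0 → ∀ x : N, a • x = 0) : Module C N :=
  letI := smulOfSurj hs N
  Function.Surjective.moduleLeft (algebraMap A C) hs (smulOfSurj_algebraMap hs hk)

theorem rTensor_injective_of_flat_of_surjective (hs : Function.Surjective (algebraMap A C))
    (M : Type*) [AddCommGroup M] [Module A M] [Module C M] [IsScalarTower A C M]
    [Module.Flat C M]
    {N' N : Type*} [AddCommGroup N'] [Module A N'] [AddCommGroup N] [Module A N]
    (f : N' →ₗ[A] N) (hf : Function.Injective f)
    (hk : ∀ a : A, algebraMap A C a = 0 → ∀ x : N, a • x = 0) :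
    Function.Injective (f.rTensor M) := by
  have hk' : ∀ a : A, algebraMap A C a = 0 → ∀ x : N', a • x = 0 := by
    intro a ha x
    apply hf
    rw [map_smul, hk a ha, map_zero]
  letI : Module C N := moduleOfSurj hs N hk
  letI : Module C N' := moduleOfSurj hs N' hk'
  haveI : IsScalarTower A C N := IsScalarTower.of_algebraMap_smul (smulOfSurj_algebraMap hs hk)
  haveI : IsScalarTower A C N' := IsScalarTower.of_algebraMap_smul (smulOfSurj_algebraMap hs hk')
  let f' : N' →ₗ[C] N := f.extendScalarsOfSurjective hs
  have h1 : Function.Injective (f'.rTensor M) :=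
    Module.Flat.rTensor_preserves_injective_linearMap f' hf
  haveI : TensorProduct.CompatibleSMul A C N' M := ⟨by
    intro c n m
    obtain ⟨a, rfl⟩ := hs c
    rw [algebraMap_smul, algebraMap_smul, smul_tmul]⟩
  rw [injective_iff_map_eq_zero]
  intro z hz
  obtain ⟨z', rfl⟩ := mapOfCompatibleSMul_surjective A C A N' M z
  have key : ∀ w : N' ⊗[C] M, mapOfCompatibleSMul C A A N M
      (f.rTensor M (mapOfCompatibleSMul A C A N' M w)) = f'.rTensor M w := by
    intro w
    induction w using TensorProduct.induction_on with
    | zero => simp
    | tmul n m => simp [f']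
    | add x y hx hy => simp only [map_add, hx, hy]
  have h2 : f'.rTensor M z' = 0 := by rw [← key, hz, map_zero]
  rw [h1 (h2.trans (map_zero _).symm), map_zero]

end RelFlat

end Groth.Agent.Helper3.LimFlat
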