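import Mathlib
import Groth.Agent.Lib.Helper1.LocalCrit
import Groth.Agent.Lib.Helper3.LimFlat1
import Groth.Agent.Lib.Helper3.FinDesc1

/-!
# Relative flatness along quotients, in terms of injectivity of `- ⊗ X`
-/

namespace Groth.Agent.Helper3.FlatId

open TensorProduct

universe u v

variable {R : Type u} [CommRing R]

/-- `X` is "flat relative to `K`": `- ⊗[R] X` preserves injections into modules killed by `K`. -/
def RelInj (K : Ideal R) (X : Type v) [AddCommGroup X] [Module R X] : Prop :=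
  ∀ (N' N : Type u) [AddCommGroup N'] [Module R N'] [AddCommGroup N] [Module R N]
    (f : N' →ₗ[R] N), Function.Injective f → (∀ a ∈ K, ∀ x : N, a • x = 0) →
    Function.Injective (f.rTensor X)

variable (K : Ideal R) (X : Type v) [AddCommGroup X] [Module R X]

theorem relInj_of_flat [Module.Flat (R ⧸ K) ((R ⧸ K) ⊗[R] X)] : RelInj K X := by
  intro N' N _ _ _ _ f hf hk
  have hs : Function.Surjective (algebraMap R (R ⧸ K)) := Ideal.Quotient.mk_surjective
  have hk1 : ∀ a : R, algebraMap R (R ⧸ K) a = 0 → ∀ x : N, a • x = 0 := by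
    intro a ha x
    exact hk a (Ideal.Quotient.eq_zero_iff_mem.mp ha) x
  have hk' : ∀ a : R, algebraMap R (R ⧸ K) a = 0 → ∀ x : N', a • x = 0 := by
    intro a ha x
    apply hf
    rw [map_smul, hk1 a ha, map_zero]
  letI : Module (R ⧸ K) N := LimFlat.moduleOfSurj hs N hk1
  letI : Module (R ⧸ K) N' := LimFlat.moduleOfSurj hs N' hk'
  haveI : IsScalarTower R (R ⧸ K) N :=
    IsScalarTower.of_algebraMap_smul (LimFlat.smulOfSurj_algebraMap hs hk1)
  haveI : IsScalarTower R (R ⧸ K) N' :=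
    IsScalarTower.of_algebraMap_smul (LimFlat.smulOfSurj_algebraMap hs hk')
  let f' : N' →ₗ[R ⧸ K] N := f.extendScalarsOfSurjective hs
  have h := Groth.Agent.Helper1.LocalCrit.rTensor_restrictScalars_injective (R := R) (R ⧸ K) X f' hf
  have : f'.restrictScalars R = f := LinearMap.ext fun _ => rfl
  rwa [this] at h

variable {K X}

theorem flat_of_relInj (h : RelInj K X) : Module.Flat (R ⧸ K) ((R ⧸ K) ⊗[R] X) := by
  apply Groth.Agent.Helper1.LocalCrit.flat_baseChange_of_forall_ideal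
  intro 𝔞
  apply h _ _ _ (Submodule.subtype_injective _)
  intro a ha x
  obtain ⟨y, rfl⟩ := Ideal.Quotient.mk_surjective x
  rw [← Ideal.Quotient.mk_eq_mk, ← Submodule.Quotient.mk_smul, Submodule.Quotient.mk_eq_zero]
  exact K.mul_mem_right _ ha

theorem relInj_iff : RelInj K X ↔ Module.Flat (R ⧸ K) ((R ⧸ K) ⊗[R] X) :=
  ⟨flat_of_relInj, fun _ => relInj_of_flat K X⟩

theorem relInj_mono {K K' : Ideal R} (hKK : K ≤ K') (h : RelInj K X) : RelInj K' X := by
  intro N' N _ _ _ _ f hf hk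
  exact h N' N f hf (fun a ha x => hk a (hKK ha) x)

theorem relInj_top : RelInj (⊤ : Ideal R) X := by
  intro N' N _ _ _ _ f hf hk
  have : Subsingleton N' := by
    refine ⟨fun a b => hf ?_⟩
    have h1 := hk 1 Submodule.mem_top (f a)
    have h2 := hk 1 Submodule.mem_top (f b)
    rw [one_smul] at h1 h2
    rw [h1, h2]
  intro a b _
  exact Subsingleton.elim a b

/-- `RelInj` is stable under finite intersection. -/
theorem relInj_inf {I J : Ideal R} (hI : RelInj I X) (hJ : RelInj J X) : RelInj (I ⊓ J) X := by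
  rw [relInj_iff]
  set A := R ⧸ (I ⊓ J) with hA
  let I₁ : Ideal A := I.map (Ideal.Quotient.mk (I ⊓ J))
  let I₂ : Ideal A := J.map (Ideal.Quotient.mk (I ⊓ J))
  have hmem : ∀ (L : Ideal R), I ⊓ J ≤ L → ∀ a : R,
      Ideal.Quotient.mk (I ⊓ J) a ∈ L.map (Ideal.Quotient.mk (I ⊓ J)) → a ∈ L := by
    intro L hL a ha
    rw [Ideal.mem_map_iff_of_surjective _ Ideal.Quotient.mk_surjective] at ha
    obtain ⟨b, hb, hab⟩ := ha
    have : b - a ∈ I ⊓ J := by
      rw [← Ideal.Quotient.eq_zero_iff_mem, map_sub, hab, sub_self]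
    have h2 : a = b - (b - a) := by ring
    rw [h2]
    exact L.sub_mem hb (hL this)
  have h12 : I₁ ⊓ I₂ = ⊥ := by
    rw [eq_bot_iff]
    rintro x ⟨h1, h2⟩
    obtain ⟨a, rfl⟩ := Ideal.Quotient.mk_surjective x
    have ha1 := hmem I inf_le_left a h1
    have ha2 := hmem J inf_le_right a h2
    rw [Submodule.mem_bot, Ideal.Quotient.eq_zero_iff_mem]
    exact ⟨ha1, ha2⟩
  have key : ∀ (L : Ideal R), RelInj L X →
      Module.Flat (A ⧸ L.map (Ideal.Quotient.mk (I ⊓ J)))
        ((A ⧸ L.map (Ideal.Quotient.mk (I ⊓ J))) ⊗[A] (A ⊗[R] X)) := by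
    intro L hL
    apply Groth.Agent.Helper1.LocalCrit.flat_baseChange_of_forall_ideal
    intro 𝔞
    rw [Groth.Agent.Helper1.LocalCrit.rTensor_baseChange_injective_iff]
    refine hL _ _ ((𝔞.restrictScalars A).subtype.restrictScalars R)
      (Submodule.subtype_injective _) ?_
    intro a ha x
    obtain ⟨y, rfl⟩ := Ideal.Quotient.mk_surjective x
    obtain ⟨z, rfl⟩ := Ideal.Quotient.mk_surjective y
    rw [← Ideal.Quotient.mk_eq_mk, ← Submodule.Quotient.mk_smul, Submodule.Quotient.mk_eq_zero]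
    have : a • (Ideal.Quotient.mk (I ⊓ J) z) = Ideal.Quotient.mk (I ⊓ J) (a * z) := by
      rw [Algebra.smul_def, map_mul]; rfl
    rw [this]
    exact Ideal.mem_map_of_mem _ (L.mul_mem_right _ ha)
  haveI := key I hI
  haveI := key J hJ
  exact FinDesc.flat_of_inf_eq_bot I₁ I₂ h12 (A ⊗[R] X)

end Groth.Agent.Helper3.FlatId
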