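import Mathlib
import Groth.Agent.Lib.Helper3.FlatId1

/-!
# Relative flatness: localization, local-global principle, base change
-/

namespace Groth.Agent.Helper3.FlatId

open TensorProduct IsLocalizedModule LocalizedModule

universe u v

theorem relInj_of_flat' {R : Type u} [CommRing R] (K : Ideal R) (X : Type v) [AddCommGroup X]
    [Module R X] [Module.Flat R X] : RelInj K X := by
  intro N' N _ _ _ _ f hf _
  exact Module.Flat.rTensor_preserves_injective_linearMap f hf

/-- A localization (as a `B`-module) of a module which is flat relative to `K` is flat relative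
to `K`. -/
theorem relInj_of_isLocalizedModule {A B : Type u} [CommRing A] [CommRing B] [Algebra A B]
    (T : Submonoid B) {N N' : Type v} [AddCommGroup N] [AddCommGroup N'] [Module A N] [Module B N]
    [IsScalarTower A B N] [Module A N'] [Module B N'] [IsScalarTower A B N']
    (g : N →ₗ[B] N') [IsLocalizedModule T g] (K : Ideal A) (h : RelInj K N) : RelInj K N' := by
  intro P Q _ _ _ _ f hf hk
  have h1 := h P Q f hf hk
  rw [← LinearMap.lTensor_inj_iff_rTensor_inj] at h1 ⊢
  rw [← AlgebraTensorModule.coe_lTensor (A := B)] at h1 ⊢
  rw [← IsLocalizedModule.map_lTensor (S := T) (f := f) (g := g)]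
  exact IsLocalizedModule.map_injective T _ _ _ h1

/-- Local-global principle for relative flatness, over an algebra. -/
theorem relInj_of_localized_maximal {A B : Type u} [CommRing A] [CommRing B] [Algebra A B]
    (K : Ideal A) (M : Type v) [AddCommGroup M] [Module A M] [Module B M] [IsScalarTower A B M]
    (H : ∀ (Q : Ideal B) [Q.IsMaximal], RelInj K (LocalizedModule Q.primeCompl M)) :
    RelInj K M := by
  intro P Q _ _ _ _ f hf hk
  rw [← LinearMap.lTensor_inj_iff_rTensor_inj]
  rw [← AlgebraTensorModule.coe_lTensor (A := B)]
  refine injective_of_isLocalized_maximal _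
    (fun P => AlgebraTensorModule.rTensor A _ (mkLinearMap P.primeCompl M)) _
    (fun P => AlgebraTensorModule.rTensor A _ (mkLinearMap P.primeCompl M)) _ fun P hP => ?_
  have h1 := H P _ _ f hf hk
  rw [← LinearMap.lTensor_inj_iff_rTensor_inj] at h1
  simpa [IsLocalizedModule.map_lTensor] using h1

/-- If some element of `K` acts surjectively on `X`, then `X` is flat relative to `K`
(all the relevant tensor products vanish). -/
theorem relInj_of_surjective_smul {R : Type u} [CommRing R] (K : Ideal R) (X : Type v)
    [AddCommGroup X] [Module R X] (a : R) (ha : a ∈ K)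
    (hs : Function.Surjective (fun x : X => a • x)) : RelInj K X := by
  intro N' N _ _ _ _ f hf hk
  have hk' : ∀ x : N', a • x = 0 := by
    intro x
    apply hf
    rw [map_smul, hk a ha, map_zero]
  have : ∀ z : N' ⊗[R] X, z = 0 := by
    intro z
    induction z using TensorProduct.induction_on with
    | zero => rfl
    | tmul n x =>
      obtain ⟨y, rfl⟩ := hs x
      show n ⊗ₜ[R] (a • y) = 0
      rw [← smul_tmul, hk', zero_tmul]
    | add x y hx hy => rw [hx, hy, add_zero]
  intro x y _
  rw [this x, this y]

/-- Base change of relative flatness to an algebra killed by `I` gives absolute flatness. -/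
theorem flat_baseChange_of_relInj {R R' : Type u} [CommRing R] [CommRing R'] [Algebra R R']
    (I : Ideal R) (hI : I ≤ RingHom.ker (algebraMap R R')) (X : Type v) [AddCommGroup X]
    [Module R X] (h : RelInj I X) : Module.Flat R' (R' ⊗[R] X) := by
  apply Groth.Agent.Helper1.LocalCrit.flat_baseChange_of_forall_ideal
  intro 𝔞
  apply h _ _ _ (Submodule.subtype_injective _)
  intro a ha x
  have : algebraMap R R' a = 0 := hI ha
  rw [Algebra.smul_def, this, zero_mul]

end Groth.Agent.Helper3.FlatId
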