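import Mathlib
import Groth.Agent.Lib.Helper3.KerFP3
import Groth.Agent.Lib.Helper5.Stalk.Exact
import Groth.Agent.Lib.Lead.SD1
import Groth.Agent.Lib.Lead.FlatLoc14

/-! Stalk lemmas for the open locus where a map of finitely presented modules is injective with
flat cokernel (helper3). -/

set_option autoImplicit false
set_option backward.isDefEq.respectTransparency.types false
set_option synthInstance.maxHeartbeats 400000
set_option linter.style.haveILetI false
universe u

open AlgebraicGeometry CategoryTheory CategoryTheory.Limits TopologicalSpace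

namespace Groth.Agent.Helper3.KerFP

open Groth.Agent.Lead.FO Groth.Agent.Lead.SD Scheme.Modules Groth.Agent.Helper3.RelFPS
  Groth.Agent.Lib.Helper5.StalkAdj

section Stalk

variable {X : Scheme.{u}}

/-- the stalk map of a morphism of modules, as a linear map -/
noncomputable abbrev stk {M N : X.Modules} (φ : M ⟶ N) (x : X) :
    ↑((stalkSh X x).obj M) →ₗ[X.presheaf.stalk x] ↑((stalkSh X x).obj N) :=
  ((stalkSh X x).map φ).hom

theorem stk_comp {M N P : X.Modules} (φ : M ⟶ N) (ψ : N ⟶ P) (x : X) (a) :
    stk (φ ≫ ψ) x a = stk ψ x (stk φ x a) := by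
  unfold stk
  rw [Functor.map_comp, ModuleCat.hom_comp]
  rfl

theorem stk_injective_of_mono {M N : X.Modules} (φ : M ⟶ N) [Mono φ] (x : X) :
    Function.Injective (stk φ x) :=
  (ModuleCat.mono_iff_injective _).1 (inferInstance : Mono ((stalkSh X x).map φ))

theorem stk_zero_apply {M N : X.Modules} (x : X) (a) : stk (0 : M ⟶ N) x a = 0 := by
  unfold stk
  rw [Functor.map_zero]
  rfl

/-- the stalk map is injective iff the stalk of the kernel vanishes -/
theorem stk_injective_iff {M N : X.Modules} (φ : M ⟶ N) (x : X) :
    Function.Injective (stk φ x) ↔ Subsingleton ((kernel φ).presheaf.stalk x) := by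
  have hexact : (ShortComplex.mk (kernel.ι φ) φ (kernel.condition φ)).Exact :=
    ShortComplex.exact_of_f_is_kernel _ (kernelIsKernel φ)
  have hex2 := hexact.map (stalkSh X x)
  rw [ShortComplex.moduleCat_exact_iff] at hex2
  constructor
  · intro hinj
    refine ⟨fun a b => ?_⟩
    apply stk_injective_of_mono (kernel.ι φ) x
    apply hinj
    rw [← stk_comp, ← stk_comp, kernel.condition, stk_zero_apply, stk_zero_apply]
  · intro hsub
    rw [injective_iff_map_eq_zero]
    intro a ha
    obtain ⟨z, hz⟩ := hex2 a ha
    have hz0 : z = 0 := Subsingleton.elim (α := (kernel φ).presheaf.stalk x) z 0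
    rw [← hz, hz0]
    exact map_zero _

end Stalk

end Groth.Agent.Helper3.KerFP
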