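import Mathlib
import Groth.Agent.Lib.Helper3.KerFP4

/-! The locus where a map of finitely presented modules is injective with flat cokernel is open
(helper3): S4851. -/

set_option autoImplicit false
set_option backward.isDefEq.respectTransparency.types false
set_option synthInstance.maxHeartbeats 400000
set_option linter.style.haveILetI false
universe u

open AlgebraicGeometry CategoryTheory CategoryTheory.Limits TopologicalSpace

namespace Groth.Agent.Helper3.KerFP

open Groth.Agent.Lead.FO Groth.Agent.Lead.SD Scheme.Modules Groth.Agent.Helper3.RelFPS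
  Groth.Agent.Lib.Helper5.StalkAdj

attribute [local instance] stalkModule

section Nhds

variable {X : Scheme.{u}}

/-- a quasi-coherent module with finitely generated sections over an affine open `U` and zero stalk
at a point of `U` has zero stalks on a basic open neighbourhood of that point -/
theorem subsingleton_stalk_nhds (K : X.Modules) [K.IsQuasicoherent] {U : X.Opens}
    (hU : IsAffineOpen U) (hfg : Module.Finite Γ(X, U) Γ(K, U)) (x : U)
    (hx : Subsingleton (K.presheaf.stalk x.1)) :
    ∃ h : Γ(X, U), x.1 ∈ X.basicOpen h ∧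
      ∀ y : X, y ∈ X.basicOpen h → Subsingleton (K.presheaf.stalk y) := by
  classical
  haveI := isLocalizedModule_germ K hU x
  obtain ⟨s, hs⟩ := hfg.fg_top
  have h1 : ∀ n : Γ(K, U), ∃ c : (hU.primeIdealOf x).asIdeal.primeCompl, c • n = 0 := by
    intro n
    have h0 : germₗ K x n = 0 := Subsingleton.elim _ _
    exact (IsLocalizedModule.eq_zero_iff (hU.primeIdealOf x).asIdeal.primeCompl (germₗ K x)).1 h0
  choose c hc using h1
  let h : Γ(X, U) := ∏ n ∈ s, (c n : Γ(X, U))
  have hmem : h ∈ (hU.primeIdealOf x).asIdeal.primeCompl :=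
    Submonoid.prod_mem _ fun n _ => (c n).2
  have hkill : ∀ n : Γ(K, U), h • n = 0 := by
    intro n
    have hn : n ∈ Submodule.span Γ(X, U) (s : Set Γ(K, U)) := by rw [hs]; trivial
    induction hn using Submodule.span_induction with
    | mem m hm =>
      have : h = (∏ n ∈ s.erase m, (c n : Γ(X, U))) * (c m : Γ(X, U)) := by
        rw [Finset.prod_erase_mul _ _ hm]
      rw [this, mul_smul]
      have := hc m
      rw [Submonoid.smul_def] at this
      rw [this, smul_zero]
    | zero => rw [smul_zero]
    | add a b _ _ ha hb => rw [smul_add, ha, hb, add_zero]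
    | smul r a _ ha => rw [smul_comm, ha, smul_zero]
  refine ⟨h, (mem_basicOpen_iff hU x h).2 hmem, fun y hy => ?_⟩
  have hyU : y ∈ U := X.basicOpen_le h hy
  obtain ⟨y', rfl⟩ : ∃ y' : U, y'.1 = y := ⟨⟨y, hyU⟩, rfl⟩
  haveI := isLocalizedModule_germ K hU y'
  have hmem' : h ∈ (hU.primeIdealOf y').asIdeal.primeCompl := (mem_basicOpen_iff hU y' h).1 hy
  refine ⟨fun a b => ?_⟩
  suffices h0 : ∀ z : K.presheaf.stalk y'.1, z = 0 by rw [h0 a, h0 b]
  intro z
  obtain ⟨⟨n, t⟩, hnt⟩ := IsLocalizedModule.surj (hU.primeIdealOf y').asIdeal.primeCompl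
    (germₗ K y') z
  have h2 : germₗ K y' n = 0 := by
    have hu := IsLocalizedModule.map_units (germₗ K y') ⟨h, hmem'⟩
    rw [Module.End.isUnit_iff] at hu
    apply hu.1
    show h • germₗ K y' n = h • (0 : K.presheaf.stalk y'.1)
    rw [← LinearMap.map_smul, hkill, LinearMap.map_zero, smul_zero]
  have hu := IsLocalizedModule.map_units (germₗ K y') t
  rw [Module.End.isUnit_iff] at hu
  apply hu.1
  show (t : Γ(X, U)) • z = (t : Γ(X, U)) • (0 : K.presheaf.stalk y'.1)
  rw [smul_zero]
  have : t • z = germₗ K y' n := hnt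
  rw [Submonoid.smul_def] at this
  rw [this, h2]

end Nhds

end Groth.Agent.Helper3.KerFP
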