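import Mathlib
import Groth.Agent.Lib.Helper3.KerFP5
import Groth.Agent.Lib.Helper1.QcAbel

/-! The locus where a map of finitely presented modules is injective with flat cokernel is open
(helper3): S4851. -/

set_option autoImplicit false
set_option backward.isDefEq.respectTransparency.types false
set_option synthInstance.maxHeartbeats 400000
set_option linter.style.haveILetI false
universe u

open AlgebraicGeometry CategoryTheory CategoryTheory.Limits TopologicalSpace

namespace Groth.Agent.Helper3.KerFP

open Groth.Agent.Lead.FO Groth.Agent.Lead.SD Scheme.Modules Groth.Agent.Helper3.RelFPS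
  Groth.Agent.Lib.Helper5.StalkAdj

attribute [local instance] stalkModule

section Coker

variable {X : Scheme.{u}} {F' F : X.Modules} (u : F' ⟶ F)

/-- sections of the kernel of an epimorphism from a module with finite sections onto a module with
finitely presented sections are finite -/
theorem finite_sections_kernel {G H : X.Modules} [G.IsQuasicoherent] [H.IsQuasicoherent]
    (p : G ⟶ H) [Epi p] {U : X.Opens} (hU : IsAffineOpen U)
    (hG : Module.Finite Γ(X, U) Γ(G, U)) (hH : Module.FinitePresentation Γ(X, U) Γ(H, U)) :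
    Module.Finite Γ(X, U) Γ(kernel p, U) := by
  have hsurj : Function.Surjective (appₗ p U) :=
    Groth.Agent.Helper1.AffPushEpi.app_surjective_of_epi p U hU
  have hfg : (LinearMap.ker (appₗ p U)).FG := Module.FinitePresentation.fg_ker (appₗ p U) hsurj
  haveI : Module.Finite Γ(X, U) ↥(LinearMap.ker (appₗ p U)) := Module.Finite.iff_fg.2 hfg
  exact Module.Finite.equiv (sectionsKernelEquiv p U).symm

/-- the cokernel of a map from a finite type module to a finitely presented module is finitely
presented -/
theorem isFP_cokernel [F'.IsQuasicoherent] [F.IsQuasicoherent] (hF : CohB1.IsFP F)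
    (hF' : CohB1.IsFP F') : CohB1.IsFP (cokernel u) := by
  haveI : (cokernel u).IsQuasicoherent := Groth.Agent.Helper1.QcAbel.isQuasicoherent_cokernel u
  haveI : (Abelian.image u).IsQuasicoherent := Groth.Agent.Helper1.QcAbel.isQuasicoherent_image u
  rw [Groth.Agent.Lead.FP.isFP_iff_affineOpens]
  intro U hU
  haveI : Module.FinitePresentation Γ(X, U) Γ(F, U) :=
    Groth.Agent.Lead.FP.fp_sections_of_isFP F hF hU
  haveI : Module.FinitePresentation Γ(X, U) Γ(F', U) :=
    Groth.Agent.Lead.FP.fp_sections_of_isFP F' hF' hU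
  have hsurj : Function.Surjective (appₗ (cokernel.π u) U) :=
    Groth.Agent.Helper1.AffPushEpi.app_surjective_of_epi (cokernel.π u) U hU
  have hsurj2 : Function.Surjective (appₗ (Abelian.factorThruImage u) U) :=
    Groth.Agent.Helper1.AffPushEpi.app_surjective_of_epi (Abelian.factorThruImage u) U hU
  haveI : Module.Finite Γ(X, U) Γ(Abelian.image u, U) :=
    Module.Finite.of_surjective (appₗ (Abelian.factorThruImage u) U) hsurj2
  have hfg : (LinearMap.ker (appₗ (cokernel.π u) U)).FG := by
    haveI : Module.Finite Γ(X, U) ↥(LinearMap.ker (appₗ (cokernel.π u) U)) :=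
      Module.Finite.equiv (sectionsKernelEquiv (cokernel.π u) U)
    exact Module.Finite.iff_fg.1 inferInstance
  exact Module.finitePresentation_of_surjective (appₗ (cokernel.π u) U) hsurj hfg

end Coker

/-- **S4851**: the set of points at which `u_x` is injective and `Coker u` is `f`-flat is open. -/
theorem S4851_main {X Y : Scheme.{u}} (f : X ⟶ Y) [LocallyOfFinitePresentation f]
    (F F' : X.Modules) [F.IsQuasicoherent] [F'.IsQuasicoherent]
    (hF : CohB1.IsFP F) (hF' : CohB1.IsFP F') (u : F' ⟶ F) :
    IsOpen {x : X | Function.Injective ((TopCat.Presheaf.stalkFunctor Ab x).map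
        (Scheme.Modules.Hom.mapPresheaf u)) ∧
      FlatMod.IsFlatOverAt f (cokernel u) x} := by
  haveI hQqc : (cokernel u).IsQuasicoherent :=
    Groth.Agent.Helper1.QcAbel.isQuasicoherent_cokernel u
  haveI hIqc : (Abelian.image u).IsQuasicoherent :=
    Groth.Agent.Helper1.QcAbel.isQuasicoherent_image u
  haveI hK2qc : (kernel (Abelian.factorThruImage u)).IsQuasicoherent :=
    Groth.Agent.Helper1.QcAbel.isQuasicoherent_kernel _
  have hQ : CohB1.IsFP (cokernel u) := isFP_cokernel u hF hF'
  have hWopen : IsOpen {x : X | FlatMod.IsFlatOverAt f (cokernel u) x} :=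
    Groth.Agent.Lead.FlatLoc.isOpen_isFlatOverAt f (cokernel u) hQ
  -- injectivity of `u_x` is injectivity of the stalk of `F' → im u`
  have hinj_iff : ∀ y : X, Function.Injective (stk u y) ↔
      Function.Injective (stk (Abelian.factorThruImage u) y) := by
    intro y
    have hfac : ∀ a, stk u y a = stk (Abelian.image.ι u) y (stk (Abelian.factorThruImage u) y a) := by
      intro a
      rw [← stk_comp, Abelian.image.fac]
    constructor
    · intro h a b hab
      apply h
      rw [hfac, hfac, hab]
    · intro h a b hab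
      apply h
      apply stk_injective_of_mono (Abelian.image.ι u) y
      rw [← hfac, ← hfac, hab]
  rw [isOpen_iff_forall_mem_open]
  rintro x ⟨hx1, hx2⟩
  obtain ⟨_, ⟨V, hV, rfl⟩, hxV, -⟩ :=
    Y.isBasis_affineOpens.exists_subset_of_mem_open (Set.mem_univ (f x)) isOpen_univ
  let W : X.Opens := ⟨{x : X | FlatMod.IsFlatOverAt f (cokernel u) x}, hWopen⟩
  obtain ⟨_, ⟨U, hU, rfl⟩, hxU, hUVW⟩ :=
    X.isBasis_affineOpens.exists_subset_of_mem_open
      (show x ∈ ((f ⁻¹ᵁ V ⊓ W : X.Opens) : Set X) from ⟨hxV, hx2⟩) (f ⁻¹ᵁ V ⊓ W).isOpen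
  have hUV : U ≤ f ⁻¹ᵁ V := fun z hz => (hUVW hz).1
  have hUW : ∀ z : U, FlatMod.IsFlatOverAt f (cokernel u) z.1 := fun z => (hUVW z.2).2
  -- sections of the image are finitely presented
  haveI hIfp : Module.FinitePresentation Γ(X, U) Γ(Abelian.image u, U) :=
    fp_sections_kernel f F (cokernel u) hF hQ (cokernel.π u) hU hV hUV hUW
  haveI : Module.FinitePresentation Γ(X, U) Γ(F', U) :=
    Groth.Agent.Lead.FP.fp_sections_of_isFP F' hF' hU
  have hK2fin : Module.Finite Γ(X, U) Γ(kernel (Abelian.factorThruImage u), U) :=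
    finite_sections_kernel (Abelian.factorThruImage u) hU inferInstance hIfp
  have hx1' : Function.Injective (stk u x) := hx1
  have hsub : Subsingleton ((kernel (Abelian.factorThruImage u)).presheaf.stalk x) :=
    (stk_injective_iff _ x).1 ((hinj_iff x).1 hx1')
  obtain ⟨h, hxh, hh⟩ := subsingleton_stalk_nhds (kernel (Abelian.factorThruImage u)) hU hK2fin
    ⟨x, hxU⟩ hsub
  refine ⟨(X.basicOpen h : Set X), ?_, (X.basicOpen h).isOpen, hxh⟩
  intro y hy
  refine ⟨?_, hUW ⟨y, X.basicOpen_le h hy⟩⟩
  show Function.Injective (stk u y)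
  exact (hinj_iff y).2 ((stk_injective_iff _ y).2 (hh y hy))

end Groth.Agent.Helper3.KerFP
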