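import Mathlib
import Groth.Prelude.Def_FlatCA
import Groth.Agent.Lib.Helper3.ColimFlat7
import Groth.Agent.Lib.Helper3.ColimFlat10

/-! The core theorem without Noetherian hypotheses on the stages: pass to the system of finitely
generated subalgebras of the stages. -/

set_option autoImplicit false
universe u
namespace Groth.Agent.Helper3.ColimFlat

open TensorProduct

section Sigma

variable (A₀ : Type u) [CommRing A₀] {ι : Type u} [Preorder ι] (G : ι → Type u)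
  [∀ i, CommRing (G i)] [∀ i, Algebra A₀ (G i)] (g : ∀ i j, i ≤ j → G i →ₐ[A₀] G j)

/-- pairs of a stage and a finitely generated subalgebra of it -/
abbrev SigSub := Σ i : ι, FGSub A₀ (G i)

/-- the order on pairs -/
def sigLE (a b : SigSub A₀ G) : Prop :=
  a.1 ≤ b.1 ∧ ∀ h : a.1 ≤ b.1, a.2.1.map (g a.1 b.1 h) ≤ b.2.1

variable (hid : ∀ i, g i i le_rfl = AlgHom.id A₀ (G i))
  (hcomp : ∀ i j k (hij : i ≤ j) (hjk : j ≤ k), (g j k hjk).comp (g i j hij) = g i k (hij.trans hjk))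

include hid hcomp in
/-- the preorder on pairs -/
@[reducible] def sigPreorder : Preorder (SigSub A₀ G) where
  le := sigLE A₀ G g
  lt a b := sigLE A₀ G g a b ∧ ¬ sigLE A₀ G g b a
  lt_iff_le_not_ge _ _ := Iff.rfl
  le_refl a := ⟨le_rfl, fun h => by rw [hid, Subalgebra.map_id]⟩
  le_trans a b c hab hbc := ⟨hab.1.trans hbc.1, fun h => by
    rw [← hcomp a.1 b.1 c.1 hab.1 hbc.1, ← Subalgebra.map_map]
    exact (Subalgebra.map_mono (hab.2 hab.1)).trans (hbc.2 hbc.1)⟩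

/-- the transition maps on pairs -/
def sigMap (a b : SigSub A₀ G) (h : sigLE A₀ G g a b) : ↥a.2.1 →ₐ[A₀] ↥b.2.1 :=
  ((g a.1 b.1 h.1).comp a.2.1.val).codRestrict b.2.1
    (fun x => h.2 h.1 (Subalgebra.mem_map.mpr ⟨x.1, x.2, rfl⟩))

@[simp] theorem sigMap_coe (a b : SigSub A₀ G) (h : sigLE A₀ G g a b) (x : ↥a.2.1) :
    ((sigMap A₀ G g a b h x : ↥b.2.1) : G b.1) = g a.1 b.1 h.1 x.1 := rfl

end Sigma

section SigmaColim

variable {A₀ : Type u} [CommRing A₀] {ι : Type u} [Preorder ι] (G : ι → Type u)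
  [∀ i, CommRing (G i)] [∀ i, Algebra A₀ (G i)] (g : ∀ i j, i ≤ j → G i →ₐ[A₀] G j)
  (A : Type u) [CommRing A] [Algebra A₀ A] [∀ i, Algebra (G i) A] [∀ i, IsScalarTower A₀ (G i) A]
  (hcolim : FlatCA.IsDirectedColimitRing G (fun i j h => (g i j h).toRingHom) A)

omit [∀ i, IsScalarTower A₀ (G i) A] in
include hcolim in
theorem hid_of_colim (i : ι) : g i i le_rfl = AlgHom.id A₀ (G i) := by
  obtain ⟨-, -, hid, -⟩ := hcolim
  exact AlgHom.ext fun x => congrArg (fun φ : G i →+* G i => φ x) (hid i)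

omit [∀ i, IsScalarTower A₀ (G i) A] in
include hcolim in
theorem hcomp_of_colim (i j k : ι) (hij : i ≤ j) (hjk : j ≤ k) :
    (g j k hjk).comp (g i j hij) = g i k (hij.trans hjk) := by
  obtain ⟨-, -, -, hcomp, -⟩ := hcolim
  exact AlgHom.ext fun x => congrArg (fun φ : G i →+* G k => φ x) (hcomp i j k hij hjk)

theorem isDirectedColimitRing_sigSub :
    letI := sigPreorder A₀ G g (hid_of_colim G g A hcolim) (hcomp_of_colim G g A hcolim)
    FlatCA.IsDirectedColimitRing (fun a : SigSub A₀ G => ↥a.2.1)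
      (fun a b h => (sigMap A₀ G g a b h).toRingHom) A := by
  letI := sigPreorder A₀ G g (hid_of_colim G g A hcolim) (hcomp_of_colim G g A hcolim)
  have hid := hid_of_colim G g A hcolim
  have hcomp := hcomp_of_colim G g A hcolim
  obtain ⟨hdir, hne, -, -, hcompat, hsurj, hker⟩ := hcolim
  haveI := hdir
  refine ⟨⟨fun a b => ?_⟩, ?_, ?_, ?_, ?_, ?_, ?_⟩
  · obtain ⟨k, hak, hbk⟩ := exists_ge_ge a.1 b.1
    refine ⟨⟨k, ⟨a.2.1.map (g a.1 k hak) ⊔ b.2.1.map (g b.1 k hbk),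
      (a.2.2.map _).sup (b.2.2.map _)⟩⟩, ⟨hak, fun h => le_sup_left⟩, ⟨hbk, fun h => le_sup_right⟩⟩
  · obtain ⟨i⟩ := hne
    exact ⟨⟨i, ⟨⊥, Subalgebra.fg_bot⟩⟩⟩
  · intro a
    ext x
    show g a.1 a.1 _ x.1 = x.1
    rw [hid]
    rfl
  · intro a b c hab hbc
    ext x
    show g b.1 c.1 _ (g a.1 b.1 _ x.1) = g a.1 c.1 _ x.1
    rw [← hcomp a.1 b.1 c.1 hab.1 hbc.1]
    rfl
  · intro a b h
    ext x
    show algebraMap (G b.1) A (g a.1 b.1 h.1 x.1) = algebraMap (G a.1) A x.1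
    exact congrArg (fun φ : G a.1 →+* A => φ x.1) (hcompat a.1 b.1 h.1)
  · intro y
    obtain ⟨i, x, rfl⟩ := hsurj y
    have hfg : (Algebra.adjoin A₀ ({x} : Set (G i))).FG := by
      have := Subalgebra.fg_adjoin_finset (R := A₀) ({x} : Finset (G i))
      simpa using this
    exact ⟨⟨i, ⟨Algebra.adjoin A₀ {x}, hfg⟩⟩,
      ⟨x, Algebra.subset_adjoin (Set.mem_singleton x)⟩, rfl⟩
  · intro a x hx
    have hx' : algebraMap (G a.1) A x.1 = 0 := hx
    obtain ⟨j, hj, hxj⟩ := hker a.1 x.1 hx'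
    refine ⟨⟨j, ⟨a.2.1.map (g a.1 j hj), a.2.2.map _⟩⟩, ⟨hj, fun h => le_rfl⟩, ?_⟩
    apply Subtype.ext
    exact hxj

include hcolim in
/-- **Core theorem, general stages**: flatness over a directed colimit of algebras over a
Noetherian ring descends to a finite stage. -/
theorem exists_stage_flat' [IsNoetherianRing A₀] (B₀ : Type u) [CommRing B₀] [Algebra A₀ B₀]
    [Algebra.FiniteType A₀ B₀] (M₀ : Type u) [AddCommGroup M₀] [Module A₀ M₀] [Module B₀ M₀]
    [IsScalarTower A₀ B₀ M₀] [Module.Finite B₀ M₀] [Module.Flat A (A ⊗[A₀] M₀)] :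
    ∃ i, Module.Flat (G i) (G i ⊗[A₀] M₀) := by
  letI := sigPreorder A₀ G g (hid_of_colim G g A hcolim) (hcomp_of_colim G g A hcolim)
  haveI : ∀ a : SigSub A₀ G, IsNoetherianRing ↥a.2.1 :=
    fun a => isNoetherianRing_fgSub A₀ (G a.1) a.2
  obtain ⟨a, ha⟩ := exists_stage_flat (fun a : SigSub A₀ G => ↥a.2.1)
    (fun a b h => sigMap A₀ G g a b h) A (isDirectedColimitRing_sigSub G g A hcolim) B₀ M₀
  haveI h1 := ha a le_rfl
  refine ⟨a.1, ?_⟩
  exact Module.Flat.of_linearEquiv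
    (AlgebraTensorModule.cancelBaseChange A₀ ↥a.2.1 (G a.1) (G a.1) M₀).symm

end SigmaColim

end Groth.Agent.Helper3.ColimFlat
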