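import Mathlib
import Groth.Prelude.Def_FlatCA
import Groth.Agent.Lib.Helper3.ColimFlat8
import Groth.Agent.Lib.Helper3.ColimFlat11

/-! S4848: flatness of a finitely presented module over a finitely presented algebra descends
to a finite stage of a directed colimit of rings. -/

set_option autoImplicit false
universe u
namespace Groth.Agent.Helper3.ColimFlat

open TensorProduct

section ModelIso

variable (R₂ A₀ S₂ B₀ : Type u) [CommRing R₂] [CommRing A₀] [CommRing S₂] [CommRing B₀]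
  [Algebra R₂ A₀] [Algebra R₂ S₂] [Algebra A₀ B₀] [Algebra S₂ B₀] [Algebra R₂ B₀]
  [IsScalarTower R₂ A₀ B₀] [IsScalarTower R₂ S₂ B₀] [Algebra.IsPushout R₂ A₀ S₂ B₀]
  (M₂ M₀ : Type u) [AddCommGroup M₂] [Module S₂ M₂] [Module R₂ M₂] [IsScalarTower R₂ S₂ M₂]
  [AddCommGroup M₀] [Module B₀ M₀] [Module A₀ M₀] [IsScalarTower A₀ B₀ M₀] [Module S₂ M₀]
  [IsScalarTower S₂ B₀ M₀] (h₃ : M₂ →ₗ[S₂] M₀) (hbc : IsBaseChange B₀ h₃)
  (C : Type u) [CommRing C] [Algebra A₀ C] [Algebra R₂ C] [IsScalarTower R₂ A₀ C]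

/-- base change of the module and of its model agree -/
noncomputable def modelIso : C ⊗[A₀] M₀ ≃ₗ[C] C ⊗[R₂] M₂ :=
  (AlgebraTensorModule.congr (LinearEquiv.refl C C)
    ((hbc.equiv.symm.restrictScalars A₀) ≪≫ₗ
      (Algebra.IsPushout.cancelBaseChange R₂ A₀ S₂ B₀ M₂))) ≪≫ₗ
    AlgebraTensorModule.cancelBaseChange R₂ A₀ C C M₂

include hbc in
theorem flat_model_iff : Module.Flat C (C ⊗[A₀] M₀) ↔ Module.Flat C (C ⊗[R₂] M₂) :=
  Module.Flat.equiv_iff (modelIso R₂ A₀ S₂ B₀ M₂ M₀ h₃ hbc C)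

end ModelIso

section Main

theorem S4848_main {A₀ : Type u} [CommRing A₀]
    {ι : Type u} [Preorder ι] (G : ι → Type u) [∀ i, CommRing (G i)] [∀ i, Algebra A₀ (G i)]
    (g : ∀ i j, i ≤ j → G i →ₐ[A₀] G j)
    (A : Type u) [CommRing A] [Algebra A₀ A] [∀ i, Algebra (G i) A] [∀ i, IsScalarTower A₀ (G i) A]
    (hcolim : FlatCA.IsDirectedColimitRing G (fun i j h => (g i j h).toRingHom) A)
    {B₀ : Type u} [CommRing B₀] [Algebra A₀ B₀] [Algebra.FinitePresentation A₀ B₀]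
    (M₀ : Type u) [AddCommGroup M₀] [Module B₀ M₀] [Module A₀ M₀] [IsScalarTower A₀ B₀ M₀]
    [Module.FinitePresentation B₀ M₀] :
    Module.Flat A (A ⊗[A₀] M₀) ↔ ∃ i : ι, Module.Flat (G i) (G i ⊗[A₀] M₀) := by
  constructor
  · intro hflat
    obtain ⟨R₂, hR₂, S₂, _, _, _, _, M₂, _, _, _, _, h₃, hfp, hfin, hpush, hbc⟩ :=
      exists_model A₀ B₀ M₀
    haveI : Algebra.FiniteType ℤ R₂ := (Subalgebra.fg_iff_finiteType R₂).mp hR₂
    haveI : IsNoetherianRing R₂ := Algebra.FiniteType.isNoetherianRing ℤ R₂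
    letI : Module R₂ M₂ := Module.compHom M₂ (algebraMap R₂ S₂)
    haveI : IsScalarTower R₂ S₂ M₂ := IsScalarTower.of_compHom _ _ _
    haveI : Algebra.FiniteType R₂ S₂ := inferInstance
    haveI : Module.Flat A (A ⊗[↥R₂] M₂) :=
      (flat_model_iff ↥R₂ A₀ S₂ B₀ M₂ M₀ h₃ hbc A).mp hflat
    let g' : ∀ i j, i ≤ j → G i →ₐ[↥R₂] G j := fun i j h => (g i j h).restrictScalars ↥R₂
    have hcolim' : FlatCA.IsDirectedColimitRing G (fun i j h => (g' i j h).toRingHom) A := hcolim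
    obtain ⟨i, hi⟩ := exists_stage_flat' G g' A hcolim' S₂ M₂
    exact ⟨i, (flat_model_iff ↥R₂ A₀ S₂ B₀ M₂ M₀ h₃ hbc (G i)).mpr hi⟩
  · rintro ⟨i, hi⟩
    exact Module.Flat.of_linearEquiv (AlgebraTensorModule.cancelBaseChange A₀ (G i) A A M₀).symm

end Main

end Groth.Agent.Helper3.ColimFlat
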