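import Mathlib
import Groth.Prelude.Def_Found
import Groth.Agent.Lib.Helper8.GRBase1
import Groth.Agent.Lib.Helper8.PRad12
import Groth.Agent.Lib.Helper8.CohenFact1

/-! Geometric regularity of a Noetherian local `k`-algebra, pointwise forms. -/

set_option autoImplicit false
universe u
namespace Groth.Agent.Helper3.GeoReg

open TensorProduct IsLocalRing

variable (k : Type u) [Field k] (R : Type u) [CommRing R] [Algebra k R]

/-- all local rings of `R ⊗ k'` at primes over `y` are regular -/
def RegOver (k' : Type u) [Field k'] [Algebra k k'] (y : PrimeSpectrum R) : Prop :=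
  ∀ q : PrimeSpectrum (R ⊗[k] k'), q.comap (algebraMap R (R ⊗[k] k')) = y →
    IsRegularLocalRing (Localization.AtPrime q.asIdeal)

theorem regOver_of_isGeometricallyRegular [IsNoetherianRing R]
    (h : CAlg.IsGeometricallyRegular k R) (k' : Type u) [Field k'] [Algebra k k']
    (hfg : (⊤ : IntermediateField k k').FG) (y : PrimeSpectrum R) : RegOver k R k' y := by
  intro q _
  haveI : Algebra.EssFiniteType k k' := IntermediateField.fg_top_iff.mp hfg
  haveI : IsNoetherianRing (k' ⊗[k] R) :=
    Groth.Agent.Helper8.GRBase.isNoetherianRing_tensor_of_essFiniteType k R k'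
  haveI : IsRegularRing (k' ⊗[k] R) := Groth.Agent.Helper8.GRBase.isRegularRing_tensor k' h
  haveI : IsRegularRing (R ⊗[k] k') :=
    IsRegularRing.of_ringEquiv (Algebra.TensorProduct.comm k k' R).toRingEquiv
  infer_instance

variable [IsLocalRing R]

theorem isLocalRing_tensor_of_isPurelyInseparable (k' : Type u) [Field k'] [Algebra k k']
    [IsPurelyInseparable k k'] : IsLocalRing (R ⊗[k] k') := by
  haveI : Nontrivial (R ⊗[k] k') :=
    (Algebra.TensorProduct.includeLeft_injective (S := R) (algebraMap k k').injective).nontrivial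
  have hh := PrimeSpectrum.isHomeomorph_comap_of_isPurelyInseparable k k' R
  haveI : Algebra.IsIntegral R (R ⊗[k] k') := inferInstance
  obtain ⟨M, hM⟩ := Ideal.exists_maximal (R ⊗[k] k')
  refine IsLocalRing.of_unique_max_ideal ⟨M, hM, fun M' hM' => ?_⟩
  have h1 : (M.comap (algebraMap R (R ⊗[k] k'))) = maximalIdeal R :=
    IsLocalRing.eq_maximalIdeal (Ideal.isMaximal_comap_of_isIntegral_of_isMaximal M)
  have h2 : (M'.comap (algebraMap R (R ⊗[k] k'))) = maximalIdeal R :=
    IsLocalRing.eq_maximalIdeal (Ideal.isMaximal_comap_of_isIntegral_of_isMaximal M')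
  have h3 : (⟨M', hM'.isPrime⟩ : PrimeSpectrum (R ⊗[k] k')) = ⟨M, hM.isPrime⟩ := by
    apply hh.injective
    apply PrimeSpectrum.ext
    show M'.comap _ = M.comap _
    rw [h1, h2]
  exact congrArg PrimeSpectrum.asIdeal h3

theorem isGeometricallyRegular_of_regOver [IsNoetherianRing R]
    (h : ∀ (k' : Type u) [Field k'] [Algebra k k'] [FiniteDimensional k k']
      [IsPurelyInseparable k k'], RegOver k R k' (closedPoint R)) :
    CAlg.IsGeometricallyRegular k R := by
  obtain ⟨p, hp⟩ := ExpChar.exists k
  refine (Groth.Agent.Helper8.PRad.isGeometricallyRegular_iff_isAdicFormallySmooth).2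
    (Groth.Agent.Helper8.PRad.isAdicFormallySmooth_of_hyp p ?_)
  intro k' _ _ hfin hpow
  haveI := hfin
  haveI : IsPurelyInseparable k k' :=
    (isPurelyInseparable_iff_pow_mem k p).2 (fun x => ⟨1, by simpa using hpow x⟩)
  haveI := isLocalRing_tensor_of_isPurelyInseparable k R k'
  haveI : Algebra.IsIntegral R (R ⊗[k] k') := inferInstance
  have hq : (⟨maximalIdeal (R ⊗[k] k'), inferInstance⟩ : PrimeSpectrum (R ⊗[k] k')).comap
      (algebraMap R (R ⊗[k] k')) = closedPoint R := by
    apply PrimeSpectrum.ext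
    exact IsLocalRing.eq_maximalIdeal
      (Ideal.isMaximal_comap_of_isIntegral_of_isMaximal (maximalIdeal (R ⊗[k] k')))
  have hreg := h k' _ hq
  let e : (R ⊗[k] k') ≃ₐ[R ⊗[k] k'] (Localization.AtPrime (maximalIdeal (R ⊗[k] k'))) :=
    IsLocalization.atUnits (R ⊗[k] k') (maximalIdeal (R ⊗[k] k')).primeCompl
      (fun x => by simpa using! fun a => a)
  haveI : IsRegularLocalRing (R ⊗[k] k') := IsRegularLocalRing.of_ringEquiv e.toRingEquiv.symm
  haveI : IsRegularRing (R ⊗[k] k') :=
    Groth.Agent.Helper8.CohenFact.isRegularRing_of_isRegularLocalRing _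
  exact IsRegularRing.of_ringEquiv (Algebra.TensorProduct.comm k R k').toRingEquiv

end Groth.Agent.Helper3.GeoReg
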