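import Mathlib
import Groth.Prelude.Def_Curv2
import Groth.Agent.S1560
import Groth.Agent.S1541
import Groth.Agent.Lib.Helper3.GeoReg1

/-! Translation of pointwise geometric regularity of a `k`-scheme to its local ring. -/

set_option autoImplicit false
universe u
namespace Groth.Agent.Helper3.GeoReg

open CategoryTheory AlgebraicGeometry TensorProduct

attribute [local instance] Curv2.stalkAlgebra

variable (k : Type u) [Field k] (X : Scheme.{u}) [X.Over (Spec (CommRingCat.of k))] (x : X)

theorem regOver_of_forall_stalk (k' : Type u) [Field k'] [Algebra k k']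
    (h : ∀ x' : ↥(Curv2.bc k X k'), Curv2.bcFst k X k' x' = x →
      IsRegularLocalRing ↥((Curv2.bc k X k').presheaf.stalk x')) :
    RegOver k ↥(X.presheaf.stalk x) k' (IsLocalRing.closedPoint _) := by
  intro q hq
  obtain ⟨x', hx'1, ⟨e⟩⟩ := Groth.Agent.S1541.exists_point_stalk_equiv
    (X ↘ Spec (CommRingCat.of k)) x (Groth.Agent.S1560.specMap_stalkMap k X x) q
  rw [hq, Scheme.fromSpecStalk_closedPoint] at hx'1
  haveI := h x' hx'1
  exact IsRegularLocalRing.of_ringEquiv e

theorem forall_stalk_of_regOver (k' : Type u) [Field k'] [Algebra k k']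
    (h : RegOver k ↥(X.presheaf.stalk x) k' (IsLocalRing.closedPoint _))
    (x' : ↥(Curv2.bc k X k')) (hx' : Curv2.bcFst k X k' x' = x) :
    IsRegularLocalRing ↥((Curv2.bc k X k').presheaf.stalk x') := by
  obtain ⟨q, hq, ⟨e⟩⟩ := Groth.Agent.S1560.exists_stalk_equiv_of_mem
    (X ↘ Spec (CommRingCat.of k)) x (Groth.Agent.S1560.specMap_stalkMap k X x) x'
    (IsLocalRing.closedPoint _) (by rw [Scheme.fromSpecStalk_closedPoint]; exact hx')
  haveI := h q hq
  exact IsRegularLocalRing.of_ringEquiv e.symm

theorem isGeomRegularAt_iff :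
    Curv2.IsGeomRegularAt k X x ↔
      ∀ (k' : Type u) [Field k'] [Algebra k k'], (⊤ : IntermediateField k k').FG →
        RegOver k ↥(X.presheaf.stalk x) k' (IsLocalRing.closedPoint _) :=
  ⟨fun h k' _ _ hfg => regOver_of_forall_stalk k X x k' (h k' hfg),
    fun h k' _ _ hfg x' hx' => forall_stalk_of_regOver k X x k' (h k' hfg) x' hx'⟩

/-- the three forms of pointwise geometric regularity -/
theorem isGeomRegularAt_iff_isGeometricallyRegular [IsNoetherianRing ↥(X.presheaf.stalk x)] :
    Curv2.IsGeomRegularAt k X x ↔ CAlg.IsGeometricallyRegular k ↥(X.presheaf.stalk x) := by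
  rw [isGeomRegularAt_iff]
  constructor
  · intro h
    refine isGeometricallyRegular_of_regOver k _ (fun k' _ _ _ _ => h k' ?_)
    exact IntermediateField.fg_top_iff.mpr inferInstance
  · intro h k' _ _ hfg
    exact regOver_of_isGeometricallyRegular k _ h k' hfg _

theorem forall_insep_iff_isGeometricallyRegular [IsNoetherianRing ↥(X.presheaf.stalk x)] :
    (∀ (k' : Type u) [Field k'] [Algebra k k'] [FiniteDimensional k k'] [IsPurelyInseparable k k']
        (x' : ↥(Curv2.bc k X k')), Curv2.bcFst k X k' x' = x →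
          IsRegularLocalRing ↥((Curv2.bc k X k').presheaf.stalk x')) ↔
      CAlg.IsGeometricallyRegular k ↥(X.presheaf.stalk x) := by
  constructor
  · intro h
    exact isGeometricallyRegular_of_regOver k _
      (fun k' _ _ _ _ => regOver_of_forall_stalk k X x k' (h k'))
  · intro h k' _ _ _ _ x' hx'
    refine forall_stalk_of_regOver k X x k' (regOver_of_isGeometricallyRegular k _ h k' ?_ _) x' hx'
    exact IntermediateField.fg_top_iff.mpr inferInstance

end Groth.Agent.Helper3.GeoReg
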