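import Mathlib
import Groth.Prelude.Def_Found
import Groth.Agent.Lib.Helper8.FlatReg9
import Groth.Agent.Lib.Helper8.PRad15

/-! Descent of (geometric) regularity along faithfully flat maps. -/

set_option autoImplicit false
universe u
namespace Groth.Agent.Helper3.SmDesc

open TensorProduct

theorem isRegularRing_of_faithfullyFlat (R S : Type u) [CommRing R] [CommRing S] [Algebra R S]
    [Module.FaithfullyFlat R S] [IsNoetherianRing R] [IsRegularRing S] : IsRegularRing R := by
  rw [isRegularRing_iff]
  intro p hp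
  obtain ⟨⟨P, hP⟩, hPp⟩ := PrimeSpectrum.comap_surjective_of_faithfullyFlat (A := R) (B := S)
    ⟨p, hp⟩
  have hPp' : P.comap (algebraMap R S) = p := congrArg PrimeSpectrum.asIdeal hPp
  haveI : P.LiesOver p := ⟨hPp'.symm⟩
  exact Groth.Agent.Helper8.FlatReg.isRegularLocalRing_of_flat_liesOver R S p P inferInstance

theorem isGeometricallyRegular_of_faithfullyFlat (k R R' : Type u) [Field k] [CommRing R]
    [CommRing R'] [Algebra k R] [Algebra k R'] [Algebra R R'] [IsScalarTower k R R']
    [Module.FaithfullyFlat R R'] [IsNoetherianRing R]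
    (h : CAlg.IsGeometricallyRegular k R') : CAlg.IsGeometricallyRegular k R := by
  intro k' _ _ hfin
  haveI := hfin
  haveI h0 : IsRegularRing (k' ⊗[k] R') := h k' hfin
  haveI h1 : IsRegularRing (R' ⊗[k] k') :=
    IsRegularRing.of_ringEquiv (R := k' ⊗[k] R') (Algebra.TensorProduct.comm k k' R').toRingEquiv
  letI : Algebra (R ⊗[k] k') (R' ⊗[k] k') :=
    (Algebra.TensorProduct.map (IsScalarTower.toAlgHom k R R') (AlgHom.id k k')).toRingHom.toAlgebra
  haveI : IsScalarTower R (R ⊗[k] k') (R' ⊗[k] k') := IsScalarTower.of_algebraMap_eq (fun x => by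
    show algebraMap R (R' ⊗[k] k') x =
      Algebra.TensorProduct.map (IsScalarTower.toAlgHom k R R') (AlgHom.id k k')
        (algebraMap R (R ⊗[k] k') x)
    simp [Algebra.TensorProduct.algebraMap_apply])
  haveI hpo : Algebra.IsPushout R R' (R ⊗[k] k') (R' ⊗[k] k') := by
    refine Algebra.IsPushout.tensorProduct_tensorProduct k k' R R' ?_
    ext x
    simp [RingHom.algebraMap_toAlgebra]
  haveI : Module.FaithfullyFlat (R ⊗[k] k') (R' ⊗[k] k') := by
    rw [← RingHom.faithfullyFlat_algebraMap_iff]
    exact RingHom.FaithfullyFlat.isStableUnderBaseChange R R' (R ⊗[k] k') (R' ⊗[k] k')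
      (RingHom.faithfullyFlat_algebraMap_iff.mpr inferInstance)
  haveI : IsNoetherianRing (R ⊗[k] k') := IsNoetherianRing.of_finite R (R ⊗[k] k')
  haveI : IsRegularRing (R ⊗[k] k') := isRegularRing_of_faithfullyFlat (R ⊗[k] k') (R' ⊗[k] k')
  exact IsRegularRing.of_ringEquiv (Algebra.TensorProduct.comm k R k').toRingEquiv

end Groth.Agent.Helper3.SmDesc
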