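import Mathlib
import Groth.Prelude.Def_Found
import Groth.Agent.Lib.Helper3.SmDesc1
import Groth.Agent.Lib.Helper8.PRad15

/-! Geometric regularity of the local ring of a fibre gives formal smoothness. -/

set_option autoImplicit false
universe u
namespace Groth.Agent.Helper3.SmDesc

open TensorProduct IsLocalRing

theorem isGeometricallyRegular_of_algEquiv' {k R R' : Type u} [Field k] [CommRing R] [CommRing R']
    [Algebra k R] [Algebra k R'] (e : R ≃ₐ[k] R') (h : CAlg.IsGeometricallyRegular k R) :
    CAlg.IsGeometricallyRegular k R' := by
  intro k' _ _ hfin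
  haveI := h k' hfin
  exact IsRegularRing.of_ringEquiv
    (Algebra.TensorProduct.congr (AlgEquiv.refl (R := k) (A₁ := k')) e).toRingEquiv

variable {A B : Type u} [CommRing A] [CommRing B] [Algebra A B] (p : Ideal A) [p.IsPrime]
  (q' : Ideal (p.Fiber B)) [q'.IsPrime]

/-- the prime of `B` below `q'` -/
noncomputable abbrev below : Ideal B :=
  q'.comap (Algebra.TensorProduct.includeRight (R := A) (A := p.ResidueField) (B := B))

variable [Algebra (Localization.AtPrime p) (Localization.AtPrime (below p q'))]
  [Localization.AtPrime.IsLiesOverAlgebra p (below p q')]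

/-- The local ring of the fibre at `q'` is `κ(p) ⊗ B_q`. -/
noncomputable def fibreLocalEquiv :
    Localization.AtPrime q' ≃ₐ[p.ResidueField]
      (p.ResidueField ⊗[Localization.AtPrime p] Localization.AtPrime (below p q')) := by
  let e1 := Ideal.Fiber.localizationAlgEquivQuotient p q'
  have hI : p.map (algebraMap A (Localization.AtPrime (below p q'))) =
      (maximalIdeal (Localization.AtPrime p)).map
        (algebraMap (Localization.AtPrime p) (Localization.AtPrime (below p q'))) := by
    rw [← Localization.AtPrime.map_eq_maximalIdeal, Ideal.map_map,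
      ← IsScalarTower.algebraMap_eq]
  let e2 := Ideal.quotientEquivAlgOfEq (Localization.AtPrime p) hI
  let e3 := Algebra.TensorProduct.quotIdealMapEquivQuotTensor
    (Localization.AtPrime (below p q')) (maximalIdeal (Localization.AtPrime p))
  let e : Localization.AtPrime q' ≃ₐ[Localization.AtPrime p]
      (p.ResidueField ⊗[Localization.AtPrime p] Localization.AtPrime (below p q')) :=
    (e1.trans e2).trans (e3.restrictScalars (Localization.AtPrime p))
  exact AlgEquiv.extendScalarsOfSurjective (S := p.ResidueField)
    (IsLocalRing.residue_surjective) e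

set_option backward.isDefEq.respectTransparency false in
theorem formallySmooth_tensor_of_isGeometricallyRegular [Algebra.FiniteType A B]
    (h : CAlg.IsGeometricallyRegular p.ResidueField
      (p.ResidueField ⊗[Localization.AtPrime p] Localization.AtPrime (below p q'))) :
    Algebra.FormallySmooth p.ResidueField
      (p.ResidueField ⊗[Localization.AtPrime p] Localization.AtPrime (below p q')) := by
  have h1 : CAlg.IsGeometricallyRegular p.ResidueField (Localization.AtPrime q') :=
    isGeometricallyRegular_of_algEquiv' (fibreLocalEquiv p q').symm h
  haveI : IsNoetherianRing (p.Fiber B) :=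
    Algebra.FiniteType.isNoetherianRing p.ResidueField (p.Fiber B)
  haveI : IsNoetherianRing (Localization.AtPrime q') :=
    IsLocalization.isNoetherianRing q'.primeCompl _ inferInstance
  have h2 := (Groth.Agent.Helper8.PRad.isGeometricallyRegular_iff_isAdicFormallySmooth
    (k := p.ResidueField) (A := Localization.AtPrime q')).1 h1
  have h3 : Algebra.IsSmoothAt p.ResidueField q' :=
    Groth.Agent.Helper8.AdicFS.isSmoothAt_of_isAdicFormallySmooth p.ResidueField (p.Fiber B) q' h2
  have h4 : Algebra.FormallySmooth p.ResidueField (Localization.AtPrime q') := h3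
  exact Algebra.FormallySmooth.of_equiv (A := Localization.AtPrime q') (fibreLocalEquiv p q')

end Groth.Agent.Helper3.SmDesc
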