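import Mathlib
import Groth.Prelude.Def_Curv2
import Groth.Agent.Lib.Helper3.GeoReg2
import Groth.Agent.Lib.Helper3.SmDesc4
import Groth.Agent.Lib.Helper8.AdicFS17
import Groth.Agent.Lib.Helper2.Sch.Reduced

/-! Smooth points of schemes over a field and geometric regularity (S1562, S1628). -/

set_option autoImplicit false
universe u
namespace Groth.Agent.Helper3.GeoReg

open CategoryTheory AlgebraicGeometry TensorProduct

attribute [local instance] Curv2.stalkAlgebra

/-- the map from a field to the local ring of its spectrum -/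
noncomputable def fieldToStalk (k : Type u) [Field k] (y : ↥(Spec (CommRingCat.of k))) :
    k →+* ↥((Spec (CommRingCat.of k)).presheaf.stalk y) :=
  ((Spec (CommRingCat.of k)).presheaf.germ ⊤ y trivial).hom.comp
    (Scheme.ΓSpecIso (CommRingCat.of k)).inv.hom

theorem fieldToStalk_bijective (k : Type u) [Field k] (y : ↥(Spec (CommRingCat.of k))) :
    Function.Bijective (fieldToStalk k y) := by
  have h1 : Function.Bijective (Scheme.ΓSpecIso (CommRingCat.of k)).inv.hom :=
    ConcreteCategory.bijective_of_isIso (Scheme.ΓSpecIso (CommRingCat.of k)).inv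
  have hU : IsAffineOpen (⊤ : (Spec (CommRingCat.of k)).Opens) := isAffineOpen_top _
  letI := (Spec (CommRingCat.of k)).presheaf.algebra_section_stalk
    (U := (⊤ : (Spec (CommRingCat.of k)).Opens)) ⟨y, trivial⟩
  haveI := hU.isLocalization_stalk ⟨y, trivial⟩
  have hunit : ∀ a ∈ (hU.primeIdealOf ⟨y, trivial⟩).asIdeal.primeCompl, IsUnit a := by
    intro a ha
    obtain ⟨b, rfl⟩ := h1.2 a
    have hb : b ≠ 0 := by
      rintro rfl
      exact ha (by simp)
    exact (IsUnit.mk0 b hb).map _
  let e := IsLocalization.atUnits Γ(Spec (CommRingCat.of k), ⊤)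
    (hU.primeIdealOf ⟨y, trivial⟩).asIdeal.primeCompl
    (S := ↥((Spec (CommRingCat.of k)).presheaf.stalk y)) hunit
  have h2 : Function.Bijective ((Spec (CommRingCat.of k)).presheaf.germ ⊤ y trivial).hom := by
    have : ⇑((Spec (CommRingCat.of k)).presheaf.germ ⊤ y trivial).hom = ⇑e := by
      ext a
      exact (e.commutes a).symm
    rw [this]
    exact e.bijective
  exact h2.comp h1

variable (k : Type u) [Field k] (X : Scheme.{u}) [X.Over (Spec (CommRingCat.of k))] (x : X)

theorem stalkMap_eq_comp :
    Curv2.stalkMap k X x =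
      ((X ↘ Spec (CommRingCat.of k)).stalkMap x).hom.comp
        (fieldToStalk k ((X ↘ Spec (CommRingCat.of k)) x)) := by
  ext a
  simp only [Curv2.stalkMap, Coh.toGlobal, fieldToStalk, RingHom.comp_apply]
  exact (Scheme.Hom.germ_stalkMap_apply (X ↘ Spec (CommRingCat.of k)) ⊤ x trivial _).symm

theorem formallySmooth_stalk_iff :
    Algebra.FormallySmooth k ↥(X.presheaf.stalk x) ↔
      ((X ↘ Spec (CommRingCat.of k)).stalkMap x).hom.FormallySmooth := by
  rw [← RingHom.formallySmooth_algebraMap, RingHom.algebraMap_toAlgebra, stalkMap_eq_comp]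
  have hb := fieldToStalk_bijective k ((X ↘ Spec (CommRingCat.of k)) x)
  constructor
  · intro h
    let e := RingEquiv.ofBijective _ hb
    have h2 := RingHom.FormallySmooth.respectsIso.2 _ e.symm h
    convert h2 using 1
    ext a
    simp only [RingHom.comp_apply, RingEquiv.toRingHom_eq_coe, RingHom.coe_coe]
    congr 1
    exact ((RingEquiv.ofBijective _ hb).apply_symm_apply a).symm
  · intro h
    exact (RingHom.FormallySmooth.of_bijective hb).comp h

/-- a local ring of a finite type algebra over a field which is geometrically regular is formally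
smooth -/
theorem formallySmooth_of_isGeometricallyRegular_of_isLocalization {k B R : Type u} [Field k]
    [CommRing B] [CommRing R] [Algebra k B] [Algebra.FiniteType k B] [Algebra B R] [Algebra k R]
    [IsScalarTower k B R] (q : Ideal B) [q.IsPrime] [IsLocalization.AtPrime R q]
    (h : CAlg.IsGeometricallyRegular k R) : Algebra.FormallySmooth k R := by
  let e : Localization.AtPrime q ≃ₐ[k] R :=
    (IsLocalization.algEquiv q.primeCompl (Localization.AtPrime q) R).restrictScalars k
  have h1 : CAlg.IsGeometricallyRegular k (Localization.AtPrime q) :=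
    Groth.Agent.Helper3.SmDesc.isGeometricallyRegular_of_algEquiv' e.symm h
  haveI : IsNoetherianRing B := Algebra.FiniteType.isNoetherianRing k B
  haveI : IsNoetherianRing (Localization.AtPrime q) :=
    IsLocalization.isNoetherianRing q.primeCompl _ inferInstance
  have h2 := (Groth.Agent.Helper8.PRad.isGeometricallyRegular_iff_isAdicFormallySmooth
    (k := k) (A := Localization.AtPrime q)).1 h1
  have h3 : Algebra.IsSmoothAt k q :=
    Groth.Agent.Helper8.AdicFS.isSmoothAt_of_isAdicFormallySmooth k B q h2
  have h4 : Algebra.FormallySmooth k (Localization.AtPrime q) := h3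
  exact Algebra.FormallySmooth.of_equiv (A := Localization.AtPrime q) e

set_option backward.isDefEq.respectTransparency false in
theorem formallySmooth_stalk_of_isGeometricallyRegular
    [LocallyOfFiniteType (X ↘ Spec (CommRingCat.of k))]
    (h : CAlg.IsGeometricallyRegular k ↥(X.presheaf.stalk x)) :
    Algebra.FormallySmooth k ↥(X.presheaf.stalk x) := by
  obtain ⟨_, ⟨V, hV, rfl⟩, hxV, -⟩ :=
    X.isBasis_affineOpens.exists_subset_of_mem_open (Set.mem_univ x) isOpen_univ
  have hle : V ≤ (X ↘ Spec (CommRingCat.of k)) ⁻¹ᵁ ⊤ := fun _ _ => trivial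
  let ψ : k →+* Γ(X, V) := ((X ↘ Spec (CommRingCat.of k)).appLE ⊤ V hle).hom.comp
    (Scheme.ΓSpecIso (CommRingCat.of k)).inv.hom
  have hψ : ψ.FiniteType := by
    refine RingHom.FiniteType.comp
      ((X ↘ Spec (CommRingCat.of k)).finiteType_appLE (isAffineOpen_top _) hV hle) ?_
    exact RingHom.FiniteType.of_surjective _
      (ConcreteCategory.bijective_of_isIso (Scheme.ΓSpecIso (CommRingCat.of k)).inv).2
  letI : Algebra k Γ(X, V) := ψ.toAlgebra
  haveI : Algebra.FiniteType k Γ(X, V) := hψ
  letI := X.presheaf.algebra_section_stalk (U := V) ⟨x, hxV⟩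
  haveI := hV.isLocalization_stalk ⟨x, hxV⟩
  haveI : IsScalarTower k Γ(X, V) ↥(X.presheaf.stalk x) := IsScalarTower.of_algebraMap_eq (by
    intro a
    show Curv2.stalkMap k X x a = (X.presheaf.germ V x hxV).hom (ψ a)
    simp only [Curv2.stalkMap, Coh.toGlobal, ψ, RingHom.comp_apply, Scheme.Hom.appLE,
      CommRingCat.hom_comp]
    exact (TopCat.Presheaf.germ_res_apply X.presheaf (homOfLE hle) x hxV _).symm)
  exact formallySmooth_of_isGeometricallyRegular_of_isLocalization
    (hV.primeIdealOf ⟨x, hxV⟩).asIdeal h

/-- S1562: geometric regularity at a point is membership of the smooth locus -/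
theorem S1562_main [LocallyOfFinitePresentation (X ↘ Spec (CommRingCat.of k))] :
    Curv2.IsGeomRegularAt k X x ↔ x ∈ (X ↘ Spec (CommRingCat.of k)).smoothLocus := by
  haveI : IsLocallyNoetherian X :=
    LocallyOfFiniteType.isLocallyNoetherian (X ↘ Spec (CommRingCat.of k))
  haveI : IsNoetherianRing ↥(X.presheaf.stalk x) := inferInstance
  rw [Scheme.Hom.mem_smoothLocus, ← formallySmooth_stalk_iff,
    isGeomRegularAt_iff_isGeometricallyRegular]
  constructor
  · intro h
    exact formallySmooth_stalk_of_isGeometricallyRegular k X x h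
  · intro h
    haveI := h
    exact Groth.Agent.Helper8.AdicFS.isGeometricallyRegular_of_formallySmooth_field k _

/-- S1628: smooth schemes over a field are geometrically reduced and geometrically regular -/
theorem S1628_main [Smooth (X ↘ Spec (CommRingCat.of k))] :
    GeometricallyReduced (X ↘ Spec (CommRingCat.of k)) ∧
      ∀ x : X, Curv2.IsGeomRegularAt k X x := by
  refine ⟨⟨?_⟩, fun x => ?_⟩
  · intro K _ y Z fst snd hpb
    haveI : Smooth snd := MorphismProperty.of_isPullback hpb ‹_›
    exact Groth.Agent.Helper2.SchLib.isReduced_of_smooth snd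
  · rw [S1562_main, Scheme.Hom.smoothLocus_eq_top]
    trivial

end Groth.Agent.Helper3.GeoReg
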