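import Mathlib
import Groth.Prelude.Def_Found
import Groth.Agent.Lib.Helper8.AdicFS17

set_option autoImplicit false
universe u
namespace Groth.Agent.Helper3.RegSm

open TensorProduct

theorem isRegularHom_of_smooth (A B : Type u) [CommRing A] [CommRing B] [Algebra A B]
    [Algebra.Smooth A B] : CAlg.IsRegularHom A B := by
  refine ⟨inferInstance, fun p hp => ?_⟩
  haveI := hp
  haveI : Algebra.Smooth p.ResidueField (p.Fiber B) := inferInstance
  haveI : Algebra.FiniteType p.ResidueField (p.Fiber B) := inferInstance
  haveI : IsNoetherianRing (p.Fiber B) :=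
    Algebra.FiniteType.isNoetherianRing p.ResidueField (p.Fiber B)
  exact ⟨inferInstance,
    Groth.Agent.Helper8.AdicFS.isGeometricallyRegular_of_formallySmooth_field p.ResidueField (p.Fiber B)⟩

end Groth.Agent.Helper3.RegSm
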