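import Mathlib

/-!
# Flat coefficient change for `Ext` groups: two out of three (helper3)

Let `F G` be objects of an abelian category with `Ext`, `R` a commutative ring acting on `F`,
`M` a flat `R`-module and `μ : M → Hom(F, G)` an `R`-balanced additive pairing.  For every object
`K` there are maps `Θ : M ⊗[R] Ext^n(K, F) → Ext^n(K, G)`.  The class of `K` for which all `Θ` are
bijective (`Good`) satisfies two out of three in short exact sequences.
-/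

set_option autoImplicit false
universe w v u
open CategoryTheory CategoryTheory.Limits CategoryTheory.Abelian TensorProduct

namespace Groth.Agent.Helper3.FlatExt

section Five

variable {R : Type*} [CommRing R] (M : Type*) [AddCommGroup M] [Module R M]

lemma addHom_ext' {N P : Type*} [AddCommGroup N] [Module R N] [AddCommGroup P]
    {f g : M ⊗[R] N →+ P} (h : ∀ m n, f (m ⊗ₜ n) = g (m ⊗ₜ n)) : f = g := by
  ext t
  induction t using TensorProduct.induction_on with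
  | zero => simp
  | tmul m n => exact h m n
  | add x y hx hy => rw [map_add, map_add, hx, hy]

variable [Module.Flat R M]
  {N₁ N₂ N₃ N₄ N₅ : Type*}
  [AddCommGroup N₁] [AddCommGroup N₂] [AddCommGroup N₃] [AddCommGroup N₄] [AddCommGroup N₅]
  [Module R N₁] [Module R N₂] [Module R N₃] [Module R N₄] [Module R N₅]
  {Q₁ Q₂ Q₃ Q₄ Q₅ : Type*}
  [AddCommGroup Q₁] [AddCommGroup Q₂] [AddCommGroup Q₃] [AddCommGroup Q₄] [AddCommGroup Q₅]

/-- the five lemma after tensoring the top row with a flat module -/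
theorem five (f₁ : N₁ →ₗ[R] N₂) (f₂ : N₂ →ₗ[R] N₃) (f₃ : N₃ →ₗ[R] N₄) (f₄ : N₄ →ₗ[R] N₅)
    (g₁ : Q₁ →+ Q₂) (g₂ : Q₂ →+ Q₃) (g₃ : Q₃ →+ Q₄) (g₄ : Q₄ →+ Q₅)
    (θ₁ : M ⊗[R] N₁ →+ Q₁) (θ₂ : M ⊗[R] N₂ →+ Q₂) (θ₃ : M ⊗[R] N₃ →+ Q₃)
    (θ₄ : M ⊗[R] N₄ →+ Q₄) (θ₅ : M ⊗[R] N₅ →+ Q₅)
    (hf₁ : Function.Exact f₁ f₂) (hf₂ : Function.Exact f₂ f₃) (hf₃ : Function.Exact f₃ f₄)
    (hg₁ : Function.Exact g₁ g₂) (hg₂ : Function.Exact g₂ g₃) (hg₃ : Function.Exact g₃ g₄)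
    (c₁ : ∀ m x, g₁ (θ₁ (m ⊗ₜ x)) = θ₂ (m ⊗ₜ f₁ x))
    (c₂ : ∀ m x, g₂ (θ₂ (m ⊗ₜ x)) = θ₃ (m ⊗ₜ f₂ x))
    (c₃ : ∀ m x, g₃ (θ₃ (m ⊗ₜ x)) = θ₄ (m ⊗ₜ f₃ x))
    (c₄ : ∀ m x, g₄ (θ₄ (m ⊗ₜ x)) = θ₅ (m ⊗ₜ f₄ x))
    (h₁ : Function.Surjective θ₁) (h₂ : Function.Bijective θ₂) (h₄ : Function.Bijective θ₄)
    (h₅ : Function.Injective θ₅) : Function.Bijective θ₃ := by
  refine AddMonoidHom.bijective_of_surjective_of_bijective_of_bijective_of_injective
    (f₁.lTensor M).toAddMonoidHom (f₂.lTensor M).toAddMonoidHom (f₃.lTensor M).toAddMonoidHom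
    (f₄.lTensor M).toAddMonoidHom g₁ g₂ g₃ g₄ θ₁ θ₂ θ₃ θ₄ θ₅ ?_ ?_ ?_ ?_
    (Module.Flat.lTensor_exact M hf₁) (Module.Flat.lTensor_exact M hf₂)
    (Module.Flat.lTensor_exact M hf₃) hg₁ hg₂ hg₃ h₁ h₂ h₄ h₅
  · exact addHom_ext' M (fun m x => c₁ m x)
  · exact addHom_ext' M (fun m x => c₂ m x)
  · exact addHom_ext' M (fun m x => c₃ m x)
  · exact addHom_ext' M (fun m x => c₄ m x)

/-- the five lemma with first terms zero -/
theorem four (f₂ : N₂ →ₗ[R] N₃) (f₃ : N₃ →ₗ[R] N₄) (f₄ : N₄ →ₗ[R] N₅)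
    (g₂ : Q₂ →+ Q₃) (g₃ : Q₃ →+ Q₄) (g₄ : Q₄ →+ Q₅)
    (θ₂ : M ⊗[R] N₂ →+ Q₂) (θ₃ : M ⊗[R] N₃ →+ Q₃)
    (θ₄ : M ⊗[R] N₄ →+ Q₄) (θ₅ : M ⊗[R] N₅ →+ Q₅)
    (hf₀ : Function.Injective f₂) (hf₂ : Function.Exact f₂ f₃) (hf₃ : Function.Exact f₃ f₄)
    (hg₀ : Function.Injective g₂) (hg₂ : Function.Exact g₂ g₃) (hg₃ : Function.Exact g₃ g₄)
    (c₂ : ∀ m x, g₂ (θ₂ (m ⊗ₜ x)) = θ₃ (m ⊗ₜ f₂ x))
    (c₃ : ∀ m x, g₃ (θ₃ (m ⊗ₜ x)) = θ₄ (m ⊗ₜ f₃ x))
    (c₄ : ∀ m x, g₄ (θ₄ (m ⊗ₜ x)) = θ₅ (m ⊗ₜ f₄ x))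
    (h₂ : Function.Bijective θ₂) (h₄ : Function.Bijective θ₄)
    (h₅ : Function.Injective θ₅) : Function.Bijective θ₃ := by
  have hinj : Function.Injective (f₂.lTensor M) :=
    Module.Flat.lTensor_preserves_injective_linearMap f₂ hf₀
  refine AddMonoidHom.bijective_of_surjective_of_bijective_of_bijective_of_injective
    (0 : PUnit.{1} →+ M ⊗[R] N₂) (f₂.lTensor M).toAddMonoidHom (f₃.lTensor M).toAddMonoidHom
    (f₄.lTensor M).toAddMonoidHom (0 : PUnit.{1} →+ Q₂) g₂ g₃ g₄ (0 : PUnit.{1} →+ PUnit.{1})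
    θ₂ θ₃ θ₄ θ₅ ?_ ?_ ?_ ?_
    ?_ (Module.Flat.lTensor_exact M hf₂)
    (Module.Flat.lTensor_exact M hf₃) ?_ hg₂ hg₃ ?_ h₂ h₄ h₅
  · ext x
    simp
  · exact addHom_ext' M (fun m x => c₂ m x)
  · exact addHom_ext' M (fun m x => c₃ m x)
  · exact addHom_ext' M (fun m x => c₄ m x)
  · intro y
    constructor
    · intro hy
      exact ⟨0, (hinj (hy.trans (map_zero _).symm)).symm⟩
    · rintro ⟨_, rfl⟩
      exact map_zero _
  · intro y
    constructor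
    · intro hy
      exact ⟨0, (hg₀ (hy.trans (map_zero _).symm)).symm⟩
    · rintro ⟨_, rfl⟩
      exact map_zero _
  · intro x
    exact ⟨0, Subsingleton.elim _ _⟩

/-- the left exact case -/
theorem three (f₁ : N₁ →ₗ[R] N₂) (f₂ : N₂ →ₗ[R] N₃) (g₁ : Q₁ →+ Q₂) (g₂ : Q₂ →+ Q₃)
    (θ₁ : M ⊗[R] N₁ →+ Q₁) (θ₂ : M ⊗[R] N₂ →+ Q₂) (θ₃ : M ⊗[R] N₃ →+ Q₃)
    (hf₀ : Function.Injective f₁) (hf₁ : Function.Exact f₁ f₂)
    (hg₀ : Function.Injective g₁) (hg₁ : Function.Exact g₁ g₂)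
    (c₁ : ∀ m x, g₁ (θ₁ (m ⊗ₜ x)) = θ₂ (m ⊗ₜ f₁ x))
    (c₂ : ∀ m x, g₂ (θ₂ (m ⊗ₜ x)) = θ₃ (m ⊗ₜ f₂ x))
    (h₂ : Function.Bijective θ₂) (h₃ : Function.Injective θ₃) : Function.Bijective θ₁ := by
  have hinj : Function.Injective (f₁.lTensor M) :=
    Module.Flat.lTensor_preserves_injective_linearMap f₁ hf₀
  refine AddMonoidHom.bijective_of_bijective_of_injective_of_left_exact
    (f₁.lTensor M).toAddMonoidHom (f₂.lTensor M).toAddMonoidHom g₁ g₂ θ₁ θ₂ θ₃ ?_ ?_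
    (Module.Flat.lTensor_exact M hf₁) hg₁ h₂ h₃ hinj hg₀
  · exact addHom_ext' M (fun m x => c₁ m x)
  · exact addHom_ext' M (fun m x => c₂ m x)

end Five

section ExtPart

variable {C : Type u} [Category.{v} C] [Abelian C] [HasExt.{w} C]

/-- an action of `R` on `F` and an `R`-balanced additive pairing `M → Hom(F, G)` -/
structure Dat (R : Type*) [CommRing R] (M : Type*) [AddCommGroup M] [Module R M] (F G : C) where
  a : R →+* End F
  μ : M →+ (F ⟶ G)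
  hμ : ∀ (r : R) (m : M), μ (r • m) = a r ≫ μ m

variable {R : Type*} [CommRing R] {M : Type*} [AddCommGroup M] [Module R M] {F G : C}
  (D : Dat R M F G)

/-- `Ext^n(K, F)`, to carry the `R`-module structure given by the action on `F` -/
def EF (_ : Dat R M F G) (K : C) (n : ℕ) : Type w := Ext K F n

noncomputable instance (K : C) (n : ℕ) : AddCommGroup (EF D K n) :=
  inferInstanceAs (AddCommGroup (Ext K F n))

/-- the underlying `Ext` class -/
def EF.val {D : Dat R M F G} {K : C} {n : ℕ} (x : EF D K n) : Ext K F n := x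

/-- an `Ext` class as an element of `EF` -/
def EF.of (D : Dat R M F G) {K : C} {n : ℕ} (x : Ext K F n) : EF D K n := x

lemma End_one : ((1 : End F) : F ⟶ F) = 𝟙 F := rfl

lemma End_mul (x y : End F) : ((x * y : End F) : F ⟶ F) = (y : F ⟶ F) ≫ (x : F ⟶ F) := rfl

noncomputable instance (K : C) (n : ℕ) : Module R (EF D K n) where
  smul r x := Ext.comp (show Ext K F n from x) (Ext.mk₀ (D.a r : F ⟶ F)) (add_zero n)
  one_smul x := by
    change Ext.comp (show Ext K F n from x) (Ext.mk₀ (D.a 1 : F ⟶ F)) (add_zero n) = x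
    rw [map_one, End_one]
    exact Ext.comp_mk₀_id _
  mul_smul r s x := by
    change Ext.comp (show Ext K F n from x) (Ext.mk₀ (D.a (r * s) : F ⟶ F)) (add_zero n) =
      Ext.comp (Ext.comp (show Ext K F n from x) (Ext.mk₀ (D.a s : F ⟶ F)) (add_zero n))
        (Ext.mk₀ (D.a r : F ⟶ F)) (add_zero n)
    rw [map_mul, End_mul, ← Ext.mk₀_comp_mk₀, Ext.comp_assoc_of_third_deg_zero]
  smul_zero r := Ext.zero_comp _ _ _ _ _
  smul_add r x y := Ext.add_comp _ _ _ _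
  add_smul r s x := by
    change Ext.comp (show Ext K F n from x) (Ext.mk₀ (D.a (r + s) : F ⟶ F)) (add_zero n) =
      Ext.comp (show Ext K F n from x) (Ext.mk₀ (D.a r : F ⟶ F)) (add_zero n) +
        Ext.comp (show Ext K F n from x) (Ext.mk₀ (D.a s : F ⟶ F)) (add_zero n)
    rw [map_add]
    change Ext.comp _ (Ext.mk₀ ((D.a r : F ⟶ F) + (D.a s : F ⟶ F))) _ = _
    rw [Ext.mk₀_add, Ext.comp_add]
  zero_smul x := by
    change Ext.comp (show Ext K F n from x) (Ext.mk₀ (D.a 0 : F ⟶ F)) (add_zero n) = 0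
    rw [map_zero]
    change Ext.comp _ (Ext.mk₀ (0 : F ⟶ F)) _ = _
    rw [Ext.mk₀_zero, Ext.comp_zero]

lemma smul_def {K : C} {n : ℕ} (r : R) (x : EF D K n) :
    (r • x : EF D K n) = Ext.comp (show Ext K F n from x) (Ext.mk₀ (D.a r : F ⟶ F)) (add_zero n) :=
  rfl

/-- precomposition with an `Ext` class, as a linear map -/
noncomputable def pre {K K' : C} {i : ℕ} (α : Ext K' K i) {n n' : ℕ} (h : i + n = n') :
    EF D K n →ₗ[R] EF D K' n' where
  toFun x := α.comp (show Ext K F n from x) h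
  map_add' x y := Ext.comp_add _ _ _ _
  map_smul' r x := by
    change α.comp (Ext.comp (show Ext K F n from x) (Ext.mk₀ (D.a r : F ⟶ F)) (add_zero n)) h =
      Ext.comp (α.comp (show Ext K F n from x) h) (Ext.mk₀ (D.a r : F ⟶ F)) (add_zero n')
    rw [Ext.comp_assoc_of_third_deg_zero]

lemma pre_apply {K K' : C} {i : ℕ} (α : Ext K' K i) {n n' : ℕ} (h : i + n = n') (x : EF D K n) :
    pre D α h x = α.comp (show Ext K F n from x) h := rfl

/-- the comparison map `M ⊗[R] Ext^n(K, F) → Ext^n(K, G)` -/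
noncomputable def Θ (K : C) (n : ℕ) : M ⊗[R] EF D K n →+ Ext K G n :=
  TensorProduct.liftAddHom
    { toFun := fun m =>
        { toFun := fun x => Ext.comp (show Ext K F n from x) (Ext.mk₀ (D.μ m)) (add_zero n)
          map_zero' := Ext.zero_comp _ _ _ _ _
          map_add' := fun x y => Ext.add_comp _ _ _ _ }
      map_zero' := by
        ext x
        change Ext.comp (show Ext K F n from x) (Ext.mk₀ (D.μ 0)) (add_zero n) = 0
        rw [map_zero, Ext.mk₀_zero, Ext.comp_zero]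
      map_add' := fun m m' => by
        ext x
        change Ext.comp (show Ext K F n from x) (Ext.mk₀ (D.μ (m + m'))) (add_zero n) =
          Ext.comp (show Ext K F n from x) (Ext.mk₀ (D.μ m)) (add_zero n) +
            Ext.comp (show Ext K F n from x) (Ext.mk₀ (D.μ m')) (add_zero n)
        rw [map_add, Ext.mk₀_add, Ext.comp_add] }
    (by
      intro r m x
      change Ext.comp (show Ext K F n from x) (Ext.mk₀ (D.μ (r • m))) (add_zero n) =
        Ext.comp (Ext.comp (show Ext K F n from x) (Ext.mk₀ (D.a r : F ⟶ F)) (add_zero n))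
          (Ext.mk₀ (D.μ m)) (add_zero n)
      rw [D.hμ, ← Ext.mk₀_comp_mk₀, Ext.comp_assoc_of_third_deg_zero])

lemma Θ_tmul (K : C) (n : ℕ) (m : M) (x : EF D K n) :
    Θ D K n (m ⊗ₜ x) = Ext.comp (show Ext K F n from x) (Ext.mk₀ (D.μ m)) (add_zero n) := rfl

lemma Θ_pre {K K' : C} {i : ℕ} (α : Ext K' K i) {n n' : ℕ} (h : i + n = n') (m : M)
    (x : EF D K n) :
    α.precomp G h (Θ D K n (m ⊗ₜ x)) = Θ D K' n' (m ⊗ₜ pre D α h x) := by
  rw [Θ_tmul, Θ_tmul, pre_apply]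
  change α.comp (Ext.comp (show Ext K F n from x) (Ext.mk₀ (D.μ m)) (add_zero n)) h = _
  rw [Ext.comp_assoc_of_third_deg_zero]

/-- the objects `K` for which `Θ` is bijective in all degrees -/
def Good (K : C) : Prop := ∀ n : ℕ, Function.Bijective (Θ D K n)

section LES

variable {S : ShortComplex C} (hS : S.ShortExact) (Y : C)

lemma exact₁ (n₀ n₁ : ℕ) (h : 1 + n₀ = n₁) :
    Function.Exact ((Ext.mk₀ S.f).precomp Y (zero_add n₀)) (hS.extClass.precomp Y h) := by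
  have := Ext.contravariant_sequence_exact₁' hS Y n₀ n₁ h
  rw [ShortComplex.ab_exact_iff_function_exact] at this
  exact this

include hS in
lemma exact₂ (n : ℕ) :
    Function.Exact ((Ext.mk₀ S.g).precomp Y (zero_add n)) ((Ext.mk₀ S.f).precomp Y (zero_add n)) := by
  have := Ext.contravariant_sequence_exact₂' hS Y n
  rw [ShortComplex.ab_exact_iff_function_exact] at this
  exact this

lemma exact₃ (n₀ n₁ : ℕ) (h : 1 + n₀ = n₁) :
    Function.Exact (hS.extClass.precomp Y h) ((Ext.mk₀ S.g).precomp Y (zero_add n₁)) := by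
  have := Ext.contravariant_sequence_exact₃' hS Y n₀ n₁ h
  rw [ShortComplex.ab_exact_iff_function_exact] at this
  exact this

include hS in
lemma inj₀ : Function.Injective ((Ext.mk₀ S.g).precomp Y (zero_add 0)) := by
  haveI := hS.epi_g
  exact Ext.precomp_mk₀_injective_of_epi Y S.g

end LES

variable [Module.Flat R M] {S : ShortComplex C} (hS : S.ShortExact)

include hS in
/-- two out of three, third position -/
theorem good_X₃ (h₁ : Good D S.X₁) (h₂ : Good D S.X₂) : Good D S.X₃ := by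
  intro n
  cases n with
  | zero =>
    exact three M (pre D (Ext.mk₀ S.g) (zero_add 0)) (pre D (Ext.mk₀ S.f) (zero_add 0))
      ((Ext.mk₀ S.g).precomp G (zero_add 0)) ((Ext.mk₀ S.f).precomp G (zero_add 0))
      (Θ D S.X₃ 0) (Θ D S.X₂ 0) (Θ D S.X₁ 0)
      (inj₀ hS F) (exact₂ hS F 0) (inj₀ hS G) (exact₂ hS G 0)
      (fun m x => Θ_pre D _ _ m x) (fun m x => Θ_pre D _ _ m x) (h₂ 0) (h₁ 0).1
  | succ m =>
    have hm : 1 + m = m + 1 := add_comm 1 m
    exact five M (pre D (Ext.mk₀ S.f) (zero_add m)) (pre D hS.extClass hm)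
      (pre D (Ext.mk₀ S.g) (zero_add (m + 1))) (pre D (Ext.mk₀ S.f) (zero_add (m + 1)))
      ((Ext.mk₀ S.f).precomp G (zero_add m)) (hS.extClass.precomp G hm)
      ((Ext.mk₀ S.g).precomp G (zero_add (m + 1))) ((Ext.mk₀ S.f).precomp G (zero_add (m + 1)))
      (Θ D S.X₂ m) (Θ D S.X₁ m) (Θ D S.X₃ (m + 1)) (Θ D S.X₂ (m + 1)) (Θ D S.X₁ (m + 1))
      (exact₁ hS F m (m + 1) hm) (exact₃ hS F m (m + 1) hm) (exact₂ hS F (m + 1))
      (exact₁ hS G m (m + 1) hm) (exact₃ hS G m (m + 1) hm) (exact₂ hS G (m + 1))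
      (fun m' x => Θ_pre D _ _ m' x) (fun m' x => Θ_pre D _ _ m' x)
      (fun m' x => Θ_pre D _ _ m' x) (fun m' x => Θ_pre D _ _ m' x)
      (h₂ m).2 (h₁ m) (h₂ (m + 1)) (h₁ (m + 1)).1

include hS in
/-- two out of three, middle position -/
theorem good_X₂ (h₁ : Good D S.X₁) (h₃ : Good D S.X₃) : Good D S.X₂ := by
  intro n
  have hn : 1 + n = n + 1 := add_comm 1 n
  cases n with
  | zero =>
    exact four M (pre D (Ext.mk₀ S.g) (zero_add 0)) (pre D (Ext.mk₀ S.f) (zero_add 0))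
      (pre D hS.extClass hn)
      ((Ext.mk₀ S.g).precomp G (zero_add 0)) ((Ext.mk₀ S.f).precomp G (zero_add 0))
      (hS.extClass.precomp G hn)
      (Θ D S.X₃ 0) (Θ D S.X₂ 0) (Θ D S.X₁ 0) (Θ D S.X₃ 1)
      (inj₀ hS F) (exact₂ hS F 0) (exact₁ hS F 0 1 hn)
      (inj₀ hS G) (exact₂ hS G 0) (exact₁ hS G 0 1 hn)
      (fun m' x => Θ_pre D _ _ m' x) (fun m' x => Θ_pre D _ _ m' x)
      (fun m' x => Θ_pre D _ _ m' x)
      (h₃ 0) (h₁ 0) (h₃ 1).1
  | succ m =>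
    have hm : 1 + m = m + 1 := add_comm 1 m
    exact five M (pre D hS.extClass hm) (pre D (Ext.mk₀ S.g) (zero_add (m + 1)))
      (pre D (Ext.mk₀ S.f) (zero_add (m + 1))) (pre D hS.extClass hn)
      (hS.extClass.precomp G hm) ((Ext.mk₀ S.g).precomp G (zero_add (m + 1)))
      ((Ext.mk₀ S.f).precomp G (zero_add (m + 1))) (hS.extClass.precomp G hn)
      (Θ D S.X₁ m) (Θ D S.X₃ (m + 1)) (Θ D S.X₂ (m + 1)) (Θ D S.X₁ (m + 1)) (Θ D S.X₃ (m + 1 + 1))
      (exact₃ hS F m (m + 1) hm) (exact₂ hS F (m + 1)) (exact₁ hS F (m + 1) (m + 1 + 1) hn)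
      (exact₃ hS G m (m + 1) hm) (exact₂ hS G (m + 1)) (exact₁ hS G (m + 1) (m + 1 + 1) hn)
      (fun m' x => Θ_pre D _ _ m' x) (fun m' x => Θ_pre D _ _ m' x)
      (fun m' x => Θ_pre D _ _ m' x) (fun m' x => Θ_pre D _ _ m' x)
      (h₁ m).2 (h₃ (m + 1)) (h₁ (m + 1)) (h₃ (m + 1 + 1)).1

/-- biproducts -/
theorem good_biprod {K K' : C} (h : Good D K) (h' : Good D K') : Good D (K ⊞ K') := by
  have hS : (ShortComplex.mk (biprod.inl : K ⟶ K ⊞ K') (biprod.snd : K ⊞ K' ⟶ K')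
      biprod.inl_snd).ShortExact :=
    (ShortComplex.Splitting.ofHasBinaryBiproduct K K').shortExact
  exact good_X₂ D hS h h'

end ExtPart

end Groth.Agent.Helper3.FlatExt
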