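import Mathlib
import Groth.Prelude.Def_Coh
import Groth.Prelude.Def_CohTop
import Groth.Agent.Lib.Lead.BCU1
import Groth.Agent.Lib.Helper3.FlatExt
import Groth.Agent.Lib.Helper4.LinBridge1

/-!
# Flat base change: the pairing data attached to a morphism of schemes (helper3)
-/

set_option autoImplicit false
universe u
open CategoryTheory CategoryTheory.Limits Opposite TopologicalSpace AlgebraicGeometry TensorProduct

namespace Groth.Agent.Helper3.FlatBC

open Groth.Agent.Lead.BCU Groth.Agent.Helper3.FlatExt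

section Alg

theorem bij_aux {A B : Type u} [CommRing A] [CommRing B] (alg' alg : Algebra A B) (e : alg' = alg)
    {M N : Type u} [AddCommGroup M] [Module A M] [AddCommGroup N] [Module B N] [Module A N]
    (st : @IsScalarTower A B N alg'.toSMul _ _) (l' : M →ₗ[A] N)
    (hb : @IsBaseChange A M N B _ _ _ _ alg' _ _ _ st l')
    (T : @TensorProduct A _ B M _ _ alg.toModule _ →+ N)
    (hT : ∀ (b : B) (m : M), T (@TensorProduct.tmul A _ B M _ _ alg.toModule _ b m) = b • l' m) :
    Function.Bijective T := by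
  subst e
  have h2 : ∀ z, T z = hb.equiv z := by
    intro z
    induction z using TensorProduct.induction_on with
    | zero => simp
    | tmul b m => rw [hT, IsBaseChange.equiv_tmul]
    | add x y hx hy => rw [map_add, map_add, hx, hy]
  have h3 : (T : _ → N) = hb.equiv := funext h2
  rw [h3]
  exact hb.equiv.bijective

/-- a base change in the sense of `IsBC`, along `algebraMap`, gives a bijection from the tensor
product formed with the given algebra structure -/
theorem bij_of_isBC {A B : Type u} [CommRing A] [CommRing B] [alg : Algebra A B]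
    {M N : Type u} [AddCommGroup M] [Module A M] [AddCommGroup N] [Module B N]
    {l : M → N} (h : IsBC (algebraMap A B) l)
    (T : B ⊗[A] M →+ N) (hT : ∀ b m, T (b ⊗ₜ m) = b • l m) : Function.Bijective T := by
  have e : (algebraMap A B).toAlgebra = alg := Algebra.algebra_ext _ _ (fun r => rfl)
  obtain ⟨l', hl', hb⟩ := h
  refine @bij_aux A B _ _ _ alg e M N _ _ _ _ (Module.compHom N (algebraMap A B)) _ l' hb T ?_
  intro b m
  rw [hT, hl']

end Alg

variable {X X' : Scheme.{u}} (g : X' ⟶ X)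

/-- morphisms of modules commute with multiplication by global functions -/
theorem smulAb_naturality {M N : X.Modules} (f : M ⟶ N) (r : Coh.Γtop X) :
    (SheafOfModules.toSheaf X.ringCatSheaf).map f ≫ Coh.smulAb N r =
      Coh.smulAb M r ≫ (SheafOfModules.toSheaf X.ringCatSheaf).map f := by
  ext U m
  change @HSMul.hSMul (X.ringCatSheaf.obj.obj U) (N.val.obj U) (N.val.obj U) _
      (Coh.resTop X U r) ((f.val.app U).hom m) =
    (f.val.app U).hom (@HSMul.hSMul (X.ringCatSheaf.obj.obj U) (M.val.obj U) (M.val.obj U) _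
      (Coh.resTop X U r) m)
  exact ((f.val.app U).hom.map_smul _ _).symm

section Data

variable (A B : Type u) [CommRing A] [CommRing B] [Algebra A B]
  (α : A →+* Coh.Γtop X) (β : B →+* Coh.Γtop X')
  (hαβ : ∀ a, (g.appTop).hom (α a) = β (algebraMap A B a))
  (𝓜 : X.Modules) (𝓝 : X'.Modules) (η : 𝓜 ⟶ (Coh.push g).obj 𝓝)

/-- the action of `A` on the underlying abelian sheaf -/
noncomputable def aHom : A →+* End (Coh.toAb 𝓜) where
  toFun a := Coh.smulAb 𝓜 (α a)
  map_one' := by rw [map_one, Coh.smulAb_one]; rfl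
  map_mul' a b := by rw [map_mul, Coh.smulAb_mul]; rfl
  map_zero' := by rw [map_zero, Coh.smulAb_zero]
  map_add' a b := by rw [map_add, Coh.smulAb_add]

/-- the pairing `B → Hom(𝓜, g_* 𝓝)`, `b ↦ b · η` -/
noncomputable def μHom : B →+ (Coh.toAb 𝓜 ⟶ Coh.toAb ((Coh.push g).obj 𝓝)) where
  toFun b := (SheafOfModules.toSheaf X.ringCatSheaf).map η ≫
    (Coh.pushAb g).map (Coh.smulAb 𝓝 (β b))
  map_zero' := by
    rw [map_zero, Coh.smulAb_zero, Functor.map_zero]
    exact comp_zero
  map_add' b b' := by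
    rw [map_add, Coh.smulAb_add, Functor.map_add]
    exact Preadditive.comp_add _ _ _ _ _ _

theorem μHom_apply (b : B) : μHom g B β 𝓜 𝓝 η b =
    (SheafOfModules.toSheaf X.ringCatSheaf).map η ≫ (Coh.pushAb g).map (Coh.smulAb 𝓝 (β b)) := rfl

theorem μHom_mul (b b' : B) : μHom g B β 𝓜 𝓝 η (b' * b) =
    μHom g B β 𝓜 𝓝 η b ≫ (Coh.pushAb g).map (Coh.smulAb 𝓝 (β b')) := by
  rw [μHom_apply, μHom_apply, map_mul, Coh.smulAb_mul, Functor.map_comp]
  exact (Category.assoc _ _ _).symm

include hαβ in
theorem μHom_smul (a : A) (b : B) : μHom g B β 𝓜 𝓝 η (a • b) =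
    Coh.smulAb 𝓜 (α a) ≫ μHom g B β 𝓜 𝓝 η b := by
  rw [Algebra.smul_def, mul_comm, μHom_mul, μHom_apply, μHom_apply, ← hαβ,
    ← Groth.Agent.Lib.Helper4.LinBridge1.smulAb_push]
  refine (congrArg (fun t => t ≫ (Coh.pushAb g).map (Coh.smulAb 𝓝 (β b)))
    (smulAb_naturality η (α a))).trans ?_
  exact Category.assoc _ _ _

/-- the pairing data -/
noncomputable def dat : Dat A B (Coh.toAb 𝓜) (Coh.toAb ((Coh.push g).obj 𝓝)) where
  a := aHom A α 𝓜
  μ := μHom g B β 𝓜 𝓝 η
  hμ a b := μHom_smul g A B α β hαβ 𝓜 𝓝 η a b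

end Data

end Groth.Agent.Helper3.FlatBC
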