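import Mathlib
import Groth.Prelude.Def_Coh
import Groth.Prelude.Def_CohTop
import Groth.Agent.Lib.Helper3.FlatExt
import Groth.Agent.Lib.Helper5.QC.QcqsInd

/-!
# Flat coefficient change for sheaf cohomology: Mayer–Vietoris and the qcqs induction (helper3)
-/

set_option autoImplicit false
universe u
open CategoryTheory CategoryTheory.Limits Opposite TopologicalSpace AlgebraicGeometry

namespace Groth.Agent.Helper3.FlatMV

open Groth.Agent.Helper3.FlatExt

section Top

variable {X : TopCat.{u}}

/-- the free abelian sheaf on an open -/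
noncomputable abbrev Z (W : Opens X) : CohTop.Ab X :=
  (presheafToSheaf (Opens.grothendieckTopology X) AddCommGrpCat.{u}).obj
    (yoneda.obj W ⋙ AddCommGrpCat.free)

variable {R : Type*} [CommRing R] {M : Type*} [AddCommGroup M] [Module R M] [Module.Flat R M]
  {F G : CohTop.Ab X} (D : Dat R M F G)

theorem good_sup (U V : Opens X) (hU : Good D (Z U)) (hV : Good D (Z V))
    (hUV : Good D (Z (U ⊓ V))) : Good D (Z (U ⊔ V)) :=
  good_X₃ D (Opens.mayerVietorisSquare U V).shortComplex_shortExact hUV (good_biprod D hU hV)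

end Top

section Sch

variable {X : Scheme.{u}} {R : Type*} [CommRing R] {M : Type*} [AddCommGroup M] [Module R M]
  [Module.Flat R M] {F G : CohTop.Ab X.toTopCat} (D : Dat R M F G)

theorem good_of_qcqs [QuasiSeparatedSpace X]
    (hbase : ∀ W : X.Opens, IsAffineOpen W → Good D (Z (X := X.toTopCat) W))
    (W : X.Opens) (hW : IsCompact (W : Set X)) : Good D (Z (X := X.toTopCat) W) := by
  refine Groth.Agent.Lib.Helper5.QC.qcqs_induction
    (P := fun W : X.Opens => Good D (Z (X := X.toTopCat) W)) hbase ?_ W hW
  intro T U V W' hD hU hV hW'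
  obtain rfl : T = U ⊔ V := le_antisymm hD.hT (sup_le hD.hUT hD.hVT)
  obtain rfl : W' = U ⊓ V := le_antisymm (le_inf hD.hWU hD.hWV) hD.hW
  exact good_sup D U V hU hV hW'

end Sch

end Groth.Agent.Helper3.FlatMV
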