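import Mathlib
import Groth.Prelude.Def_Coh
import Groth.Prelude.Def_CohTop
import Groth.Agent.Lib.Helper3.FlatBC1
import Groth.Agent.Lib.Helper3.FlatMV
import Groth.Agent.Lib.Helper3.H0Iso
import Groth.Agent.Lib.Helper1.FBC4
import Groth.Agent.Lib.Helper1.QcAcyc
import Groth.Agent.Lib.Helper1.PushQc
import Groth.Agent.Lib.Lead.PBQc

/-!
# Flat base change: the affine base case (helper3)
-/

set_option autoImplicit false
set_option backward.isDefEq.respectTransparency.types false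
set_option synthInstance.maxHeartbeats 400000
universe u
open CategoryTheory CategoryTheory.Limits Opposite TopologicalSpace AlgebraicGeometry TensorProduct

namespace Groth.Agent.Helper3.FlatBC

open Groth.Agent.Lead.BCU Groth.Agent.Helper3.FlatExt
open Groth.Agent.Lib.Helper4.BaseChgRing1
open Groth.Agent.Lib.Helper4.TenSec2

section H0nat

variable {C : Type u} [SmallCategory C] (J : GrothendieckTopology C)

theorem compEquiv_comp {F G : Sheaf J AddCommGrpCat.{u}} (ψ : F ⟶ G) (U : C)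
    (x : Abelian.Ext (CohCx.freeSheaf J U) F 0) :
    H0Iso.compEquiv J G U (x.comp (Abelian.Ext.mk₀ ψ) (add_zero 0)) =
      (ψ.hom.app (op U)).hom (H0Iso.compEquiv J F U x) := by
  obtain ⟨φ, rfl⟩ := (Abelian.Ext.mk₀_bijective (CohCx.freeSheaf J U) F).2 x
  rw [Abelian.Ext.mk₀_comp_mk₀]
  have e1 : ∀ {X Y : Sheaf J AddCommGrpCat.{u}} (f : X ⟶ Y),
      Abelian.Ext.addEquiv₀ (Abelian.Ext.mk₀ f) = f := by
    intro X Y f
    apply (Abelian.Ext.mk₀_bijective X Y).1
    delta Abelian.Ext.addEquiv₀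
    simp
  change CohFree.evalGen J U G (Abelian.Ext.addEquiv₀ (Abelian.Ext.mk₀ (φ ≫ ψ))) =
    (ψ.hom.app (op U)).hom (CohFree.evalGen J U F (Abelian.Ext.addEquiv₀ (Abelian.Ext.mk₀ φ)))
  rw [e1, e1]
  rfl

end H0nat

section Geo

variable (A B : Type u) [CommRing A] [CommRing B] [Algebra A B]
  {X X' : Scheme.{u}} [X.Over (Spec (CommRingCat.of A))] [X'.Over (Spec (CommRingCat.of B))]
  (g : X' ⟶ X)

theorem toGlobal_bc
    (hw : g ≫ (X ↘ Spec (CommRingCat.of A)) =
      (X' ↘ Spec (CommRingCat.of B)) ≫ Spec.map (CommRingCat.ofHom (algebraMap A B))) (a : A) :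
    (g.appTop).hom (Coh.toGlobal (X ↘ Spec (CommRingCat.of A)) a) =
      Coh.toGlobal (X' ↘ Spec (CommRingCat.of B)) (algebraMap A B a) := by
  have h1 : (X ↘ Spec (CommRingCat.of A)).appTop ≫ g.appTop =
      (Spec.map (CommRingCat.ofHom (algebraMap A B))).appTop ≫
        (X' ↘ Spec (CommRingCat.of B)).appTop := by
    rw [← Scheme.Hom.comp_appTop, ← Scheme.Hom.comp_appTop, hw]
  have h2 := Scheme.ΓSpecIso_inv_naturality (CommRingCat.ofHom (algebraMap A B))
  have h3 : (Scheme.ΓSpecIso (CommRingCat.of A)).inv ≫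
      (X ↘ Spec (CommRingCat.of A)).appTop ≫ g.appTop =
      CommRingCat.ofHom (algebraMap A B) ≫ (Scheme.ΓSpecIso (CommRingCat.of B)).inv ≫
        (X' ↘ Spec (CommRingCat.of B)).appTop := by
    rw [h1, ← Category.assoc, ← h2, Category.assoc]
  exact congrArg (fun t => t.hom a) h3

variable (X) in
theorem alphaRing_eq (W : X.Opens) (a : A) :
    alphaRing A X W a = Coh.resTop X (op W) (Coh.toGlobal (X ↘ Spec (CommRingCat.of A)) a) := rfl

variable (hpb : IsPullback g (X' ↘ Spec (CommRingCat.of B)) (X ↘ Spec (CommRingCat.of A))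
      (Spec.map (CommRingCat.ofHom (algebraMap A B))))
  (𝓜 : X.Modules)

/-- the concrete pairing data of flat base change -/
noncomputable abbrev D : Dat A B (Coh.toAb 𝓜)
    (Coh.toAb ((Coh.push g).obj ((Scheme.Modules.pullback g).obj 𝓜))) :=
  dat g A B (Coh.toGlobal (X ↘ Spec (CommRingCat.of A)))
    (Coh.toGlobal (X' ↘ Spec (CommRingCat.of B))) (toGlobal_bc A B g hpb.w) 𝓜
    ((Scheme.Modules.pullback g).obj 𝓜)
    ((Scheme.Modules.pullbackPushforwardAdjunction g).unit.app 𝓜)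

theorem subsingleton_tensor {R : Type*} [CommRing R] (M N : Type*) [AddCommGroup M] [Module R M]
    [AddCommGroup N] [Module R N] [Subsingleton N] : Subsingleton (M ⊗[R] N) := by
  refine ⟨fun x y => ?_⟩
  have h : ∀ z : M ⊗[R] N, z = 0 := by
    intro z
    induction z using TensorProduct.induction_on with
    | zero => rfl
    | tmul m n => rw [Subsingleton.elim n 0, TensorProduct.tmul_zero]
    | add x y hx hy => rw [hx, hy, add_zero]
  rw [h x, h y]

attribute [local instance] secMod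

variable [𝓜.IsQuasicoherent]

include hpb in
theorem good_base_succ (W : X.Opens) (hW : IsAffineOpen W) (p : ℕ) :
    Function.Bijective (Θ (D A B g hpb 𝓜) (FlatMV.Z (X := X.toTopCat) W) (p + 1)) := by
  haveI : IsAffineHom g := Groth.Agent.Helper1.FBC.isAffineHom_of_isPullback A B (algebraMap A B) g hpb
  haveI : ((Scheme.Modules.pullback g).obj 𝓜).IsQuasicoherent :=
    Groth.Agent.Lead.PB.isQuasicoherent_pullback _ _
  haveI : ((Coh.push g).obj ((Scheme.Modules.pullback g).obj 𝓜)).IsQuasicoherent :=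
    Groth.Agent.Helper1.PushQc.isQuasicoherent_pushforward _ _
  haveI h1 : Subsingleton (EF (D A B g hpb 𝓜) (FlatMV.Z (X := X.toTopCat) W) (p + 1)) :=
    Groth.Agent.Helper1.QcAcyc.subsingleton_HU 𝓜 W hW p
  haveI h2 : Subsingleton (Abelian.Ext (FlatMV.Z (X := X.toTopCat) W)
      (Coh.toAb ((Coh.push g).obj ((Scheme.Modules.pullback g).obj 𝓜))) (p + 1)) :=
    Groth.Agent.Helper1.QcAcyc.subsingleton_HU _ W hW p
  haveI h3 := subsingleton_tensor (R := A) B
    (EF (D A B g hpb 𝓜) (FlatMV.Z (X := X.toTopCat) W) (p + 1))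
  exact ⟨fun x y _ => Subsingleton.elim _ _, fun y => ⟨0, Subsingleton.elim _ _⟩⟩

theorem map_id_apply' {Z : Scheme.{u}} (H : Z.Modules) (O : Z.Opens) (x : Γ(H, O)) :
    H.presheaf.map (𝟙 (op O)) x = x := by
  rw [H.presheaf.map_id]
  rfl

omit [𝓜.IsQuasicoherent] in
theorem unitRes_self (W : X.Opens) (m : Γ(𝓜, W)) :
    unitRes g 𝓜 (le_of_eq (rfl : g ⁻¹ᵁ W = g ⁻¹ᵁ W)) m =
      ((Scheme.Modules.pullbackPushforwardAdjunction g).unit.app 𝓜).app W m := by
  unfold unitRes
  have h : (homOfLE (le_of_eq (rfl : g ⁻¹ᵁ W = g ⁻¹ᵁ W))) = 𝟙 (g ⁻¹ᵁ W) := Subsingleton.elim _ _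
  change ((Scheme.Modules.pullback g).obj 𝓜).presheaf.map (homOfLE _).op _ = _
  rw [h, op_id]
  exact map_id_apply' ((Scheme.Modules.pullback g).obj 𝓜) (g ⁻¹ᵁ W) _

/-- the `A`-linear identification `H^0(W, 𝓜) = Γ(W, 𝓜)` -/
noncomputable def cF (W : X.Opens) :
    EF (D A B g hpb 𝓜) (FlatMV.Z (X := X.toTopCat) W) 0 ≃ₗ[A] Γ(𝓜, W) :=
  { H0Iso.compEquiv (Opens.grothendieckTopology X) (Coh.toAb 𝓜) W with
    map_smul' := fun a x => by
      change H0Iso.compEquiv (Opens.grothendieckTopology X) (Coh.toAb 𝓜) W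
        (Abelian.Ext.comp (show Abelian.Ext (FlatMV.Z (X := X.toTopCat) W) (Coh.toAb 𝓜) 0 from x)
          (Abelian.Ext.mk₀ (Coh.smulAb 𝓜 (Coh.toGlobal (X ↘ Spec (CommRingCat.of A)) a)))
          (add_zero 0)) =
        (alphaRing A X W a • (show Γ(𝓜, W) from
          H0Iso.compEquiv (Opens.grothendieckTopology X) (Coh.toAb 𝓜) W x) : Γ(𝓜, W))
      rw [compEquiv_comp, alphaRing_eq]
      rfl }

theorem cF_apply (W : X.Opens) (x : EF (D A B g hpb 𝓜) (FlatMV.Z (X := X.toTopCat) W) 0) :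
    cF A B g hpb 𝓜 W x = H0Iso.compEquiv (Opens.grothendieckTopology X) (Coh.toAb 𝓜) W x := rfl

include hpb in
theorem good_base_zero (W : X.Opens) (hW : IsAffineOpen W) :
    Function.Bijective (Θ (D A B g hpb 𝓜) (FlatMV.Z (X := X.toTopCat) W) 0) := by
  haveI : IsAffineHom g := Groth.Agent.Helper1.FBC.isAffineHom_of_isPullback A B (algebraMap A B) g hpb
  have hW' : IsAffineOpen (g ⁻¹ᵁ W) := hW.preimage g
  have hBC := Groth.Agent.Helper1.FBC.isBC_unitRes_base A B (algebraMap A B) g 𝓜 hpb hW hW' rfl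
  let cG := H0Iso.compEquiv (Opens.grothendieckTopology X)
    (Coh.toAb ((Coh.push g).obj ((Scheme.Modules.pullback g).obj 𝓜))) W
  let T : B ⊗[A] Γ(𝓜, W) →+ Γ((Scheme.Modules.pullback g).obj 𝓜, g ⁻¹ᵁ W) :=
    (cG.toAddMonoidHom.comp (Θ (D A B g hpb 𝓜) (FlatMV.Z (X := X.toTopCat) W) 0)).comp
      ((cF A B g hpb 𝓜 W).symm.lTensor B).toLinearMap.toAddMonoidHom
  have hT : Function.Bijective T := by
    refine bij_of_isBC hBC T ?_
    intro b m
    change cG (Θ (D A B g hpb 𝓜) (FlatMV.Z (X := X.toTopCat) W) 0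
      (((cF A B g hpb 𝓜 W).symm.lTensor B) (b ⊗ₜ m))) = _
    rw [LinearEquiv.lTensor_tmul, Θ_tmul]
    refine (compEquiv_comp (Opens.grothendieckTopology X) _ W _).trans ?_
    have h1 : H0Iso.compEquiv (Opens.grothendieckTopology X) (Coh.toAb 𝓜) W
        ((cF A B g hpb 𝓜 W).symm m) = m := (cF A B g hpb 𝓜 W).apply_symm_apply m
    refine (congrArg _ h1).trans ?_
    refine Eq.trans ?_ (congrArg (fun t => b • t) (unitRes_self g 𝓜 W m).symm)
    rfl
  have h0 : ∀ z : B ⊗[A] EF (D A B g hpb 𝓜) (FlatMV.Z (X := X.toTopCat) W) 0,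
      ((cF A B g hpb 𝓜 W).symm.lTensor B) (((cF A B g hpb 𝓜 W).lTensor B) z) = z := by
    intro z
    induction z using TensorProduct.induction_on with
    | zero => rw [map_zero, map_zero]
    | tmul b x => rw [LinearEquiv.lTensor_tmul, LinearEquiv.lTensor_tmul,
        LinearEquiv.symm_apply_apply]
    | add x y hx hy => rw [map_add, map_add, hx, hy]
  have h2 : (T : _ → _) ∘ ((cF A B g hpb 𝓜 W).lTensor B) =
      cG ∘ (Θ (D A B g hpb 𝓜) (FlatMV.Z (X := X.toTopCat) W) 0) := by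
    funext z
    change cG (Θ (D A B g hpb 𝓜) (FlatMV.Z (X := X.toTopCat) W) 0
      (((cF A B g hpb 𝓜 W).symm.lTensor B) (((cF A B g hpb 𝓜 W).lTensor B) z))) = _
    rw [h0]
    rfl
  have h3 : Function.Bijective ((T : _ → _) ∘ ((cF A B g hpb 𝓜 W).lTensor B)) :=
    hT.comp ((cF A B g hpb 𝓜 W).lTensor B).bijective
  rw [h2] at h3
  exact (EquivLike.comp_bijective _ cG).1 h3

include hpb in
/-- the affine base case of flat base change -/
theorem good_base (W : X.Opens) (hW : IsAffineOpen W) :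
    Good (D A B g hpb 𝓜) (FlatMV.Z (X := X.toTopCat) W) := by
  intro n
  cases n with
  | zero => exact good_base_zero A B g hpb 𝓜 W hW
  | succ p => exact good_base_succ A B g hpb 𝓜 W hW p

end Geo

end Groth.Agent.Helper3.FlatBC
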