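import Mathlib
import Groth.Prelude.Def_Coh
import Groth.Prelude.Def_CohTop
import Groth.Agent.Lib.Helper3.FlatBC2
import Groth.Agent.Lib.Helper3.HTerm

/-!
# Flat base change for quasi-compact quasi-separated schemes over an affine base (helper3)
-/

set_option autoImplicit false
set_option backward.isDefEq.respectTransparency.types false
set_option synthInstance.maxHeartbeats 400000
universe u
open CategoryTheory CategoryTheory.Limits Opposite TopologicalSpace AlgebraicGeometry TensorProduct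

namespace Groth.Agent.Helper3.FlatBC

open Groth.Agent.Lead.BCU Groth.Agent.Helper3.FlatExt
open Groth.Agent.Lib.Helper4.LinBridge1

section HE

variable {C : Type u} [SmallCategory C] (J : GrothendieckTopology C)

theorem HEquiv_apply {T : C} (hT : IsTerminal T) (F : Sheaf J AddCommGrpCat.{u}) (n : ℕ)
    (x : Sheaf.H F n) :
    HTerm.HEquiv J hT F n x =
      (Abelian.Ext.mk₀ (HTerm.sheafIso J hT).hom).comp x (zero_add n) := rfl

theorem HEquiv_map {T : C} (hT : IsTerminal T) {F G : Sheaf J AddCommGrpCat.{u}} (ψ : F ⟶ G)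
    (n : ℕ) (x : Sheaf.H F n) :
    HTerm.HEquiv J hT G n (Sheaf.H.map ψ n x) =
      Abelian.Ext.comp (show Abelian.Ext (CohCx.freeSheaf J T) F n from HTerm.HEquiv J hT F n x)
        (Abelian.Ext.mk₀ ψ) (add_zero n) := by
  rw [HEquiv_apply, Sheaf.H.map_apply]
  change _ = Abelian.Ext.comp ((Abelian.Ext.mk₀ (HTerm.sheafIso J hT).hom).comp x (zero_add n))
    (Abelian.Ext.mk₀ ψ) (add_zero n)
  rw [Abelian.Ext.comp_assoc_of_third_deg_zero]

end HE

section Main

variable (A B : Type u) [CommRing A] [CommRing B] [Algebra A B] [Module.Flat A B]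
  {X X' : Scheme.{u}} [X.Over (Spec (CommRingCat.of A))] [X'.Over (Spec (CommRingCat.of B))]
  [CompactSpace X] [QuasiSeparatedSpace X]
  (g : X' ⟶ X)
  (hpb : IsPullback g (X' ↘ Spec (CommRingCat.of B)) (X ↘ Spec (CommRingCat.of A))
      (Spec.map (CommRingCat.ofHom (algebraMap A B))))
  (𝓜 : X.Modules) [𝓜.IsQuasicoherent]

/-- the terminal open -/
def hTop : IsTerminal (⊤ : Opens X) := isTerminalTop

include hpb in
theorem good_top : Good (D A B g hpb 𝓜) (FlatMV.Z (X := X.toTopCat) ⊤) :=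
  FlatMV.good_of_qcqs (D A B g hpb 𝓜) (fun W hW => good_base A B g hpb 𝓜 W hW) ⊤
    (by simpa using isCompact_univ)

/-- `H^i(X, 𝓜)` as `Ext` out of the free sheaf on the whole space, `A`-linearly -/
noncomputable def εF (i : ℕ) :
    Coh.HH X 𝓜 i ≃ₗ[A] EF (D A B g hpb 𝓜) (FlatMV.Z (X := X.toTopCat) ⊤) i :=
  { HTerm.HEquiv (Opens.grothendieckTopology X) hTop (Coh.toAb 𝓜) i with
    map_smul' := fun a x => by
      change HTerm.HEquiv (Opens.grothendieckTopology X) hTop (Coh.toAb 𝓜) i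
        (Sheaf.H.map (Coh.smulAb 𝓜 (Coh.toGlobal (X ↘ Spec (CommRingCat.of A)) a)) i x) = _
      rw [HEquiv_map]
      rfl }

/-- the underlying additive map of the base change isomorphism -/
noncomputable def Ψ (i : ℕ) : B ⊗[A] Coh.HH X 𝓜 i →+
    Coh.HH X' ((Scheme.Modules.pullback g).obj 𝓜) i :=
  (((lerayAdd g ((Scheme.Modules.pullback g).obj 𝓜) i).comp
    (HTerm.HEquiv (Opens.grothendieckTopology X) hTop
      (Coh.toAb ((Coh.push g).obj ((Scheme.Modules.pullback g).obj 𝓜))) i).symm.toAddMonoidHom).comp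
    (Θ (D A B g hpb 𝓜) (FlatMV.Z (X := X.toTopCat) ⊤) i)).comp
    ((εF A B g hpb 𝓜 i).lTensor B).toLinearMap.toAddMonoidHom

theorem Ψ_tmul (i : ℕ) (b : B) (x : Coh.HH X 𝓜 i) :
    Ψ A B g hpb 𝓜 i (b ⊗ₜ x) =
      lerayAdd g ((Scheme.Modules.pullback g).obj 𝓜) i
        (Sheaf.H.map ((D A B g hpb 𝓜).μ b) i x) := by
  change lerayAdd g ((Scheme.Modules.pullback g).obj 𝓜) i
    ((HTerm.HEquiv (Opens.grothendieckTopology X) hTop
      (Coh.toAb ((Coh.push g).obj ((Scheme.Modules.pullback g).obj 𝓜))) i).symm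
      (Θ (D A B g hpb 𝓜) (FlatMV.Z (X := X.toTopCat) ⊤) i
        (((εF A B g hpb 𝓜 i).lTensor B) (b ⊗ₜ x)))) = _
  rw [LinearEquiv.lTensor_tmul, Θ_tmul]
  congr 1
  rw [AddEquiv.symm_apply_eq, HEquiv_map]
  rfl

theorem Ψ_bijective (i : ℕ) : Function.Bijective (Ψ A B g hpb 𝓜 i) := by
  haveI : IsAffineHom g := Groth.Agent.Helper1.FBC.isAffineHom_of_isPullback A B (algebraMap A B) g hpb
  haveI : ((Scheme.Modules.pullback g).obj 𝓜).IsQuasicoherent :=
    Groth.Agent.Lead.PB.isQuasicoherent_pullback _ _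
  have h1 : Function.Bijective (lerayAdd g ((Scheme.Modules.pullback g).obj 𝓜) i) :=
    lerayMap_bijective g.base (Coh.toAb ((Scheme.Modules.pullback g).obj 𝓜))
      (fun q => Groth.Agent.Helper1.RpushZero.rpushAb_isZero g _ q) i
  have h2 := good_top A B g hpb 𝓜 i
  have h3 := ((εF A B g hpb 𝓜 i).lTensor B).bijective
  have h4 := (HTerm.HEquiv (Opens.grothendieckTopology X) hTop
      (Coh.toAb ((Coh.push g).obj ((Scheme.Modules.pullback g).obj 𝓜))) i).symm.bijective
  exact ((h1.comp h4).comp h2).comp h3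

theorem Ψ_smul (i : ℕ) (b' : B) (z : B ⊗[A] Coh.HH X 𝓜 i) :
    Ψ A B g hpb 𝓜 i (b' • z) = b' • Ψ A B g hpb 𝓜 i z := by
  induction z using TensorProduct.induction_on with
  | zero => rw [smul_zero, map_zero, smul_zero]
  | add x y hx hy => rw [smul_add, map_add, map_add, smul_add, hx, hy]
  | tmul b x =>
    rw [TensorProduct.smul_tmul', smul_eq_mul, Ψ_tmul, Ψ_tmul]
    change _ = Sheaf.H.map (Coh.smulAb ((Scheme.Modules.pullback g).obj 𝓜)
      (Coh.toGlobal (X' ↘ Spec (CommRingCat.of B)) b')) i _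
    rw [← lerayAdd_natural]
    refine congrArg _ ?_
    refine Eq.trans ?_ (Sheaf.H.map_comp_apply _ _ x)
    exact congrArg (fun t => Sheaf.H.map t i x) (μHom_mul g B _ 𝓜 _ _ b b')

include hpb in
/-- **flat base change** over an affine base, for quasi-compact quasi-separated schemes -/
theorem main (i : ℕ) :
    Nonempty (B ⊗[A] Coh.HH X 𝓜 i ≃ₗ[B] Coh.HH X' ((Scheme.Modules.pullback g).obj 𝓜) i) :=
  ⟨LinearEquiv.ofBijective
    { toFun := Ψ A B g hpb 𝓜 i
      map_add' := map_add _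
      map_smul' := Ψ_smul A B g hpb 𝓜 i } (Ψ_bijective A B g hpb 𝓜 i)⟩

end Main

end Groth.Agent.Helper3.FlatBC
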