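import Mathlib
import Groth.Prelude.Def_Coh
import Groth.Prelude.Def_CohTop
import Groth.Agent.Lib.Helper3.FlatBC3

/-!
# Flat coefficient change for the cohomology of quasi-coherent modules: the generic assembly (helper3)

Given pairing data `D : Dat A M (toAb 𝓕) (toAb (g_* 𝓟))` (with `M` a flat `A`-module, `g` affine,
`𝓟` quasi-coherent) which is good on affine opens, we get a bijection
`M ⊗[A] H^i(X, 𝓕) → H^i(X', 𝓟)`.
-/

set_option autoImplicit false
set_option backward.isDefEq.respectTransparency.types false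
set_option synthInstance.maxHeartbeats 400000
universe u
open CategoryTheory CategoryTheory.Limits Opposite TopologicalSpace AlgebraicGeometry TensorProduct

namespace Groth.Agent.Helper3.FlatBC

open Groth.Agent.Lead.BCU Groth.Agent.Helper3.FlatExt
open Groth.Agent.Lib.Helper4.LinBridge1

section Gen

variable (A : Type u) [CommRing A] {M : Type u} [AddCommGroup M] [Module A M] [Module.Flat A M]
  {X X' : Scheme.{u}} [X.Over (Spec (CommRingCat.of A))]
  [CompactSpace X] [QuasiSeparatedSpace X]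
  (g : X' ⟶ X) [IsAffineHom g] (𝓕 : X.Modules) (𝓟 : X'.Modules) [𝓟.IsQuasicoherent]
  (D : Dat A M (Coh.toAb 𝓕) (Coh.toAb ((Coh.push g).obj 𝓟)))
  (hDa : ∀ a : A, (D.a a : Coh.toAb 𝓕 ⟶ Coh.toAb 𝓕) =
    Coh.smulAb 𝓕 (Coh.toGlobal (X ↘ Spec (CommRingCat.of A)) a))
  (hbase : ∀ W : X.Opens, IsAffineOpen W → Good D (FlatMV.Z (X := X.toTopCat) W))

include hbase in
theorem goodG_top : Good D (FlatMV.Z (X := X.toTopCat) ⊤) :=
  FlatMV.good_of_qcqs D hbase ⊤ (by simpa using isCompact_univ)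

include hDa in
/-- `H^i(X, 𝓕)` as `Ext` out of the free sheaf on the whole space, `A`-linearly -/
noncomputable def εG (i : ℕ) :
    Coh.HH X 𝓕 i ≃ₗ[A] EF D (FlatMV.Z (X := X.toTopCat) ⊤) i :=
  { HTerm.HEquiv (Opens.grothendieckTopology X) hTop (Coh.toAb 𝓕) i with
    map_smul' := fun a x => by
      change HTerm.HEquiv (Opens.grothendieckTopology X) hTop (Coh.toAb 𝓕) i
        (Sheaf.H.map (Coh.smulAb 𝓕 (Coh.toGlobal (X ↘ Spec (CommRingCat.of A)) a)) i x) = _
      rw [HEquiv_map, ← hDa]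
      rfl }

/-- the underlying additive map of the coefficient change isomorphism -/
noncomputable def ΨG (i : ℕ) : M ⊗[A] Coh.HH X 𝓕 i →+ Coh.HH X' 𝓟 i :=
  (((lerayAdd g 𝓟 i).comp
    (HTerm.HEquiv (Opens.grothendieckTopology X) hTop
      (Coh.toAb ((Coh.push g).obj 𝓟)) i).symm.toAddMonoidHom).comp
    (Θ D (FlatMV.Z (X := X.toTopCat) ⊤) i)).comp
    ((εG A g 𝓕 𝓟 D hDa i).lTensor M).toLinearMap.toAddMonoidHom

theorem ΨG_tmul (i : ℕ) (m : M) (x : Coh.HH X 𝓕 i) :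
    ΨG A g 𝓕 𝓟 D hDa i (m ⊗ₜ x) = lerayAdd g 𝓟 i (Sheaf.H.map (D.μ m) i x) := by
  change lerayAdd g 𝓟 i
    ((HTerm.HEquiv (Opens.grothendieckTopology X) hTop
      (Coh.toAb ((Coh.push g).obj 𝓟)) i).symm
      (Θ D (FlatMV.Z (X := X.toTopCat) ⊤) i
        (((εG A g 𝓕 𝓟 D hDa i).lTensor M) (m ⊗ₜ x)))) = _
  rw [LinearEquiv.lTensor_tmul, Θ_tmul]
  congr 1
  rw [AddEquiv.symm_apply_eq, HEquiv_map]
  rfl

include hbase in
theorem ΨG_bijective (i : ℕ) : Function.Bijective (ΨG A g 𝓕 𝓟 D hDa i) := by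
  have h1 : Function.Bijective (lerayAdd g 𝓟 i) :=
    lerayMap_bijective g.base (Coh.toAb 𝓟)
      (fun q => Groth.Agent.Helper1.RpushZero.rpushAb_isZero g _ q) i
  have h2 := goodG_top A g 𝓕 𝓟 D hbase i
  have h3 := ((εG A g 𝓕 𝓟 D hDa i).lTensor M).bijective
  have h4 := (HTerm.HEquiv (Opens.grothendieckTopology X) hTop
      (Coh.toAb ((Coh.push g).obj 𝓟)) i).symm.bijective
  exact ((h1.comp h4).comp h2).comp h3

end Gen

end Groth.Agent.Helper3.FlatBC
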