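import Mathlib
import Groth.Prelude.Def_Coh
import Groth.Prelude.Def_CohTop
import Groth.Agent.Lib.Helper3.FlatBC4
import Groth.Agent.Lib.Helper4.TenSec2

/-!
# Flat module coefficients: the map `s ↦ ν(m) ⊗ s` of abelian sheaves (helper3)
-/

set_option autoImplicit false
set_option backward.isDefEq.respectTransparency.types false
set_option synthInstance.maxHeartbeats 400000
universe u
open CategoryTheory CategoryTheory.Limits Opposite TopologicalSpace AlgebraicGeometry TensorProduct

namespace Groth.Agent.Helper3.FlatTen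

open Groth.Agent.Lead.BCU Groth.Agent.Helper3.FlatExt Groth.Agent.Helper3.FlatBC
open Groth.Agent.Lib.Helper4.BaseChgRing1
open Groth.Agent.Lib.Helper4.TenSec2
open Groth.Agent.Lead.TilT

section Kappa

variable (A' : Type u) [CommRing A'] {X' : Scheme.{u}} [X'.Over (Spec (CommRingCat.of A'))]
  (F' : X'.Modules) (M : ModuleCat.{u} A')

attribute [local instance] secMod

/-- `s ↦ ν(m) ⊗ s` on sections -/
noncomputable def κsec (m : M) (W : X'.Opens) : Γ(F', W) →+ Γ(Psi A' F' M, W) :=
  AddMonoidHom.mk' (fun s => theta A' F' M W (s ⊗ₜ m))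
    (fun s s' => by rw [TensorProduct.add_tmul, map_add])

/-- the morphism of abelian sheaves `F' → f'^*(M~) ⊗ F'`, `s ↦ ν(m) ⊗ s` -/
noncomputable def κ (m : M) : Coh.toAb F' ⟶ Coh.toAb (Psi A' F' M) :=
  ⟨{ app := fun W => AddCommGrpCat.ofHom (κsec A' F' M m W.unop)
     naturality := by
       intro W₁ W₂ f
       ext s
       have h := theta_res A' F' M (leOfHom f.unop) ((show Γ(F', W₁.unop) from s) ⊗ₜ[A'] m)
       rw [LinearMap.rTensor_tmul, resA_apply] at h
       exact h.symm }⟩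

theorem κ_app (m : M) (W : X'.Opens) (s : Γ(F', W)) :
    ((κ A' F' M m).hom.app (op W)).hom s = theta A' F' M W (s ⊗ₜ m) := rfl

theorem κ_add (m m' : M) : κ A' F' M (m + m') = κ A' F' M m + κ A' F' M m' := by
  ext W s
  change theta A' F' M W.unop ((show Γ(F', W.unop) from s) ⊗ₜ[A'] (m + m')) =
    theta A' F' M W.unop ((show Γ(F', W.unop) from s) ⊗ₜ[A'] m) +
      theta A' F' M W.unop ((show Γ(F', W.unop) from s) ⊗ₜ[A'] m')
  rw [TensorProduct.tmul_add, map_add]

theorem κ_zero : κ A' F' M 0 = 0 := by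
  ext W s
  change theta A' F' M W.unop ((show Γ(F', W.unop) from s) ⊗ₜ[A'] (0 : M)) = 0
  rw [TensorProduct.tmul_zero, map_zero]

/-- `κ` as an additive map -/
noncomputable def κHom : M →+ (Coh.toAb F' ⟶ Coh.toAb (Psi A' F' M)) where
  toFun := κ A' F' M
  map_zero' := κ_zero A' F' M
  map_add' := κ_add A' F' M

theorem κ_smul_left (a' : A') (m : M) : κ A' F' M (a' • m) =
    Coh.smulAb F' (Coh.toGlobal (X' ↘ Spec (CommRingCat.of A')) a') ≫ κ A' F' M m := by
  ext W s
  change theta A' F' M W.unop ((show Γ(F', W.unop) from s) ⊗ₜ[A'] (a' • m)) =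
    theta A' F' M W.unop ((alphaRing A' X' W.unop a' • (show Γ(F', W.unop) from s)) ⊗ₜ[A'] m)
  rw [← secMod_smul, TensorProduct.smul_tmul]

theorem κ_smul_right (a' : A') (m : M) : κ A' F' M (a' • m) =
    κ A' F' M m ≫ Coh.smulAb (Psi A' F' M) (Coh.toGlobal (X' ↘ Spec (CommRingCat.of A')) a') := by
  ext W s
  change theta A' F' M W.unop ((show Γ(F', W.unop) from s) ⊗ₜ[A'] (a' • m)) =
    (alphaRing A' X' W.unop a' • theta A' F' M W.unop ((show Γ(F', W.unop) from s) ⊗ₜ[A'] m) :
      Γ(Psi A' F' M, W.unop))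
  rw [theta_tmul, theta_tmul, nu_smul, ← TensorProduct.smul_tmul', map_smul]

end Kappa

end Groth.Agent.Helper3.FlatTen
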