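import Mathlib
import Groth.Prelude.Def_Coh
import Groth.Prelude.Def_CohTop
import Groth.Agent.Lib.Helper3.FlatTen1

/-!
# Flat module coefficients: pairing data and the affine base case (helper3)
-/

set_option autoImplicit false
set_option backward.isDefEq.respectTransparency.types false
set_option synthInstance.maxHeartbeats 400000
universe u
open CategoryTheory CategoryTheory.Limits Opposite TopologicalSpace AlgebraicGeometry TensorProduct

namespace Groth.Agent.Helper3.FlatTen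

open Groth.Agent.Lead.BCU Groth.Agent.Helper3.FlatExt Groth.Agent.Helper3.FlatBC
open Groth.Agent.Lib.Helper4.BaseChgRing1
open Groth.Agent.Lib.Helper4.TenSec2
open Groth.Agent.Lead.TilT

section Alg

theorem bij_tensor_aux {A A' : Type u} [CommRing A] [CommRing A'] (alg' alg : Algebra A A')
    (e : alg' = alg)
    {P P' : Type u} [AddCommGroup P] [Module A P] [AddCommGroup P'] [Module A' P'] [Module A P']
    (st : @IsScalarTower A A' P' alg'.toSMul _ _) (l' : P →ₗ[A] P')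
    (hb : @IsBaseChange A P P' A' _ _ _ _ alg' _ _ _ st l')
    (M : Type u) [AddCommGroup M] [Module A' M] [Module A M]
    [st' : @IsScalarTower A A' M alg.toSMul _ _]
    {Q : Type u} [AddCommGroup Q] (θ : P' ⊗[A'] M →+ Q) (hθ : Function.Bijective θ)
    (T : M ⊗[A] P →+ Q) (hT : ∀ (m : M) (s : P), T (m ⊗ₜ s) = θ (l' s ⊗ₜ m)) :
    Function.Bijective T := by
  subst e
  let E := hb.tensorEquiv M
  have hE : ∀ (m : M) (s : P), E.symm (m ⊗ₜ s) = m ⊗ₜ l' s := by
    intro m s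
    rw [LinearEquiv.symm_apply_eq]
    simp [E, IsBaseChange.tensorEquiv, IsBaseChange.equiv_symm_apply]
  have h2 : ∀ w, T w = θ ((TensorProduct.comm A' P' M).symm (E.symm w)) := by
    intro w
    induction w using TensorProduct.induction_on with
    | zero => simp
    | tmul m s => rw [hT, hE, TensorProduct.comm_symm_tmul]
    | add x y hx hy => rw [map_add, map_add, map_add, map_add, hx, hy]
  have h3 : (T : _ → Q) = θ ∘ (TensorProduct.comm A' P' M).symm ∘ E.symm := funext h2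
  rw [h3]
  exact hθ.comp ((TensorProduct.comm A' P' M).symm.bijective.comp E.symm.bijective)

theorem bij_tensor_of_isBC {A A' : Type u} [CommRing A] [CommRing A'] [alg : Algebra A A']
    {P P' : Type u} [AddCommGroup P] [Module A P] [AddCommGroup P'] [Module A' P']
    {l : P → P'} (h : IsBC (algebraMap A A') l)
    (M : Type u) [AddCommGroup M] [Module A' M] [Module A M] [IsScalarTower A A' M]
    {Q : Type u} [AddCommGroup Q] (θ : P' ⊗[A'] M →+ Q) (hθ : Function.Bijective θ)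
    (T : M ⊗[A] P →+ Q) (hT : ∀ (m : M) (s : P), T (m ⊗ₜ s) = θ (l s ⊗ₜ m)) :
    Function.Bijective T := by
  have e : (algebraMap A A').toAlgebra = alg := Algebra.algebra_ext _ _ (fun r => rfl)
  obtain ⟨l', hl', hb⟩ := h
  refine @bij_tensor_aux A A' _ _ _ alg e P P' _ _ _ _ (Module.compHom P' (algebraMap A A')) _ l'
    hb M _ _ _ _ Q _ θ hθ T ?_
  intro m s
  rw [hT, hl']

end Alg

section Geo

variable (A A' : Type u) [CommRing A] [CommRing A'] [Algebra A A']
  (M : Type u) [AddCommGroup M] [Module A' M] [Module A M] [IsScalarTower A A' M]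
  {X X' : Scheme.{u}} [X.Over (Spec (CommRingCat.of A))] [X'.Over (Spec (CommRingCat.of A'))]
  (g : X' ⟶ X)
  (hpb : IsPullback g (X' ↘ Spec (CommRingCat.of A')) (X ↘ Spec (CommRingCat.of A))
      (Spec.map (CommRingCat.ofHom (algebraMap A A'))))
  (𝓕 : X.Modules)

/-- `f'^*(M~) ⊗ g^*𝓕` -/
noncomputable abbrev 𝓟 : X'.Modules :=
  Psi A' ((Scheme.Modules.pullback g).obj 𝓕) (ModuleCat.of A' M)

/-- the pairing `M → Hom(𝓕, g_*(f'^*(M~) ⊗ g^*𝓕))` -/
noncomputable def μT : M →+ (Coh.toAb 𝓕 ⟶ Coh.toAb ((Coh.push g).obj (𝓟 A' M g 𝓕))) where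
  toFun m := (SheafOfModules.toSheaf X.ringCatSheaf).map
      ((Scheme.Modules.pullbackPushforwardAdjunction g).unit.app 𝓕) ≫
    (Coh.pushAb g).map (κ A' ((Scheme.Modules.pullback g).obj 𝓕) (ModuleCat.of A' M) m)
  map_zero' := by
    rw [κ_zero, Functor.map_zero]
    exact comp_zero
  map_add' m m' := by
    rw [κ_add, Functor.map_add]
    exact Preadditive.comp_add _ _ _ _ _ _

theorem μT_apply (m : M) : μT A' M g 𝓕 m =
    (SheafOfModules.toSheaf X.ringCatSheaf).map
      ((Scheme.Modules.pullbackPushforwardAdjunction g).unit.app 𝓕) ≫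
    (Coh.pushAb g).map (κ A' ((Scheme.Modules.pullback g).obj 𝓕) (ModuleCat.of A' M) m) := rfl

theorem μT_smul' (a' : A') (m : M) : μT A' M g 𝓕 (a' • m) =
    μT A' M g 𝓕 m ≫ (Coh.pushAb g).map
      (Coh.smulAb (𝓟 A' M g 𝓕) (Coh.toGlobal (X' ↘ Spec (CommRingCat.of A')) a')) := by
  rw [μT_apply, μT_apply]
  have h := κ_smul_right A' ((Scheme.Modules.pullback g).obj 𝓕) (ModuleCat.of A' M) a' m
  refine (congrArg (fun t => _ ≫ (Coh.pushAb g).map t) h).trans ?_
  rw [Functor.map_comp]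
  exact (Category.assoc _ _ _).symm

include hpb in
theorem μT_smul (a : A) (m : M) : μT A' M g 𝓕 (a • m) =
    Coh.smulAb 𝓕 (Coh.toGlobal (X ↘ Spec (CommRingCat.of A)) a) ≫ μT A' M g 𝓕 m := by
  have h0 : a • m = algebraMap A A' a • m := (algebraMap_smul A' a m).symm
  rw [h0, μT_apply, μT_apply]
  have h := κ_smul_left A' ((Scheme.Modules.pullback g).obj 𝓕) (ModuleCat.of A' M)
    (algebraMap A A' a) m
  refine (congrArg (fun t => _ ≫ (Coh.pushAb g).map t) h).trans ?_
  rw [Functor.map_comp, ← toGlobal_bc A A' g hpb.w a,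
    ← Groth.Agent.Lib.Helper4.LinBridge1.smulAb_push]
  refine (Category.assoc _ _ _).symm.trans ?_
  refine (congrArg (fun t => t ≫ (Coh.pushAb g).map
    (κ A' ((Scheme.Modules.pullback g).obj 𝓕) (ModuleCat.of A' M) m))
    (smulAb_naturality ((Scheme.Modules.pullbackPushforwardAdjunction g).unit.app 𝓕)
      (Coh.toGlobal (X ↘ Spec (CommRingCat.of A)) a))).trans ?_
  exact Category.assoc _ _ _

/-- the pairing data for flat module coefficients -/
noncomputable def DT : Dat A M (Coh.toAb 𝓕) (Coh.toAb ((Coh.push g).obj (𝓟 A' M g 𝓕))) where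
  a := aHom A (Coh.toGlobal (X ↘ Spec (CommRingCat.of A))) 𝓕
  μ := μT A' M g 𝓕
  hμ a m := μT_smul A A' M g hpb 𝓕 a m

theorem DT_a (a : A) : ((DT A A' M g hpb 𝓕).a a : Coh.toAb 𝓕 ⟶ Coh.toAb 𝓕) =
    Coh.smulAb 𝓕 (Coh.toGlobal (X ↘ Spec (CommRingCat.of A)) a) := rfl

section Base

attribute [local instance] secMod

/-- the `A`-linear identification `H^0(W, 𝓕) = Γ(W, 𝓕)`, for general pairing data -/
noncomputable def cFG {M' : Type u} [AddCommGroup M'] [Module A M']
    {G : CohTop.Ab X.toTopCat} (D : Dat A M' (Coh.toAb 𝓕) G)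
    (hDa : ∀ a : A, (D.a a : Coh.toAb 𝓕 ⟶ Coh.toAb 𝓕) =
      Coh.smulAb 𝓕 (Coh.toGlobal (X ↘ Spec (CommRingCat.of A)) a)) (W : X.Opens) :
    EF D (FlatMV.Z (X := X.toTopCat) W) 0 ≃ₗ[A] Γ(𝓕, W) :=
  { H0Iso.compEquiv (Opens.grothendieckTopology X) (Coh.toAb 𝓕) W with
    map_smul' := fun a x => by
      change H0Iso.compEquiv (Opens.grothendieckTopology X) (Coh.toAb 𝓕) W
        (Abelian.Ext.comp (show Abelian.Ext (FlatMV.Z (X := X.toTopCat) W) (Coh.toAb 𝓕) 0 from x)
          (Abelian.Ext.mk₀ (D.a a : Coh.toAb 𝓕 ⟶ Coh.toAb 𝓕)) (add_zero 0)) =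
        (alphaRing A X W a • (show Γ(𝓕, W) from
          H0Iso.compEquiv (Opens.grothendieckTopology X) (Coh.toAb 𝓕) W x) : Γ(𝓕, W))
      rw [hDa, compEquiv_comp, alphaRing_eq]
      rfl }

variable [𝓕.IsQuasicoherent]

include hpb in
theorem goodT_succ (W : X.Opens) (hW : IsAffineOpen W) (p : ℕ) :
    Function.Bijective (Θ (DT A A' M g hpb 𝓕) (FlatMV.Z (X := X.toTopCat) W) (p + 1)) := by
  haveI : IsAffineHom g :=
    Groth.Agent.Helper1.FBC.isAffineHom_of_isPullback A A' (algebraMap A A') g hpb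
  haveI : ((Scheme.Modules.pullback g).obj 𝓕).IsQuasicoherent :=
    Groth.Agent.Lead.PB.isQuasicoherent_pullback _ _
  haveI : ((Coh.push g).obj (𝓟 A' M g 𝓕)).IsQuasicoherent :=
    Groth.Agent.Helper1.PushQc.isQuasicoherent_pushforward _ _
  haveI h1 : Subsingleton (EF (DT A A' M g hpb 𝓕) (FlatMV.Z (X := X.toTopCat) W) (p + 1)) :=
    Groth.Agent.Helper1.QcAcyc.subsingleton_HU 𝓕 W hW p
  haveI h2 : Subsingleton (Abelian.Ext (FlatMV.Z (X := X.toTopCat) W)
      (Coh.toAb ((Coh.push g).obj (𝓟 A' M g 𝓕))) (p + 1)) :=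
    Groth.Agent.Helper1.QcAcyc.subsingleton_HU _ W hW p
  haveI h3 := subsingleton_tensor (R := A) M
    (EF (DT A A' M g hpb 𝓕) (FlatMV.Z (X := X.toTopCat) W) (p + 1))
  exact ⟨fun x y _ => Subsingleton.elim _ _, fun y => ⟨0, Subsingleton.elim _ _⟩⟩

include hpb in
theorem goodT_zero (W : X.Opens) (hW : IsAffineOpen W) :
    Function.Bijective (Θ (DT A A' M g hpb 𝓕) (FlatMV.Z (X := X.toTopCat) W) 0) := by
  haveI : IsAffineHom g :=
    Groth.Agent.Helper1.FBC.isAffineHom_of_isPullback A A' (algebraMap A A') g hpb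
  haveI : ((Scheme.Modules.pullback g).obj 𝓕).IsQuasicoherent :=
    Groth.Agent.Lead.PB.isQuasicoherent_pullback _ _
  have hW' : IsAffineOpen (g ⁻¹ᵁ W) := hW.preimage g
  have hBC := Groth.Agent.Helper1.FBC.isBC_unitRes_base A A' (algebraMap A A') g 𝓕 hpb hW hW' rfl
  have hθ := theta_bijective A' ((Scheme.Modules.pullback g).obj 𝓕) (ModuleCat.of A' M) hW'
  let cG := H0Iso.compEquiv (Opens.grothendieckTopology X)
    (Coh.toAb ((Coh.push g).obj (𝓟 A' M g 𝓕))) W
  let cF' := cFG A 𝓕 (DT A A' M g hpb 𝓕) (DT_a A A' M g hpb 𝓕) W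
  let T : M ⊗[A] Γ(𝓕, W) →+ Γ(𝓟 A' M g 𝓕, g ⁻¹ᵁ W) :=
    (cG.toAddMonoidHom.comp (Θ (DT A A' M g hpb 𝓕) (FlatMV.Z (X := X.toTopCat) W) 0)).comp
      (cF'.symm.lTensor M).toLinearMap.toAddMonoidHom
  have hT : Function.Bijective T := by
    refine bij_tensor_of_isBC hBC M
      (theta A' ((Scheme.Modules.pullback g).obj 𝓕) (ModuleCat.of A' M) (g ⁻¹ᵁ W)) hθ T ?_
    intro m s
    change cG (Θ (DT A A' M g hpb 𝓕) (FlatMV.Z (X := X.toTopCat) W) 0
      ((cF'.symm.lTensor M) (m ⊗ₜ s))) = _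
    rw [LinearEquiv.lTensor_tmul, Θ_tmul]
    refine (compEquiv_comp (Opens.grothendieckTopology X) _ W _).trans ?_
    have h1 : H0Iso.compEquiv (Opens.grothendieckTopology X) (Coh.toAb 𝓕) W
        (cF'.symm s) = s := cF'.apply_symm_apply s
    refine (congrArg _ h1).trans ?_
    refine Eq.trans ?_ (congrArg (fun t => theta A' ((Scheme.Modules.pullback g).obj 𝓕)
      (ModuleCat.of A' M) (g ⁻¹ᵁ W) (t ⊗ₜ m)) (unitRes_self g 𝓕 W s).symm)
    rfl
  have h0 : ∀ z : M ⊗[A] EF (DT A A' M g hpb 𝓕) (FlatMV.Z (X := X.toTopCat) W) 0,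
      (cF'.symm.lTensor M) ((cF'.lTensor M) z) = z := by
    intro z
    induction z using TensorProduct.induction_on with
    | zero => rw [map_zero, map_zero]
    | tmul b x => rw [LinearEquiv.lTensor_tmul, LinearEquiv.lTensor_tmul,
        LinearEquiv.symm_apply_apply]
    | add x y hx hy => rw [map_add, map_add, hx, hy]
  have h2 : (T : _ → _) ∘ (cF'.lTensor M) =
      cG ∘ (Θ (DT A A' M g hpb 𝓕) (FlatMV.Z (X := X.toTopCat) W) 0) := by
    funext z
    change cG (Θ (DT A A' M g hpb 𝓕) (FlatMV.Z (X := X.toTopCat) W) 0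
      ((cF'.symm.lTensor M) ((cF'.lTensor M) z))) = _
    rw [h0]
    rfl
  have h3 : Function.Bijective ((T : _ → _) ∘ (cF'.lTensor M)) :=
    hT.comp (cF'.lTensor M).bijective
  rw [h2] at h3
  exact (EquivLike.comp_bijective _ cG).1 h3

include hpb in
/-- the affine base case for flat module coefficients -/
theorem goodT_base (W : X.Opens) (hW : IsAffineOpen W) :
    Good (DT A A' M g hpb 𝓕) (FlatMV.Z (X := X.toTopCat) W) := by
  intro n
  cases n with
  | zero => exact goodT_zero A A' M g hpb 𝓕 W hW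
  | succ p => exact goodT_succ A A' M g hpb 𝓕 W hW p

end Base

end Geo

end Groth.Agent.Helper3.FlatTen
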