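import Mathlib
import Groth.Prelude.Def_Coh
import Groth.Prelude.Def_CohTop
import Groth.Agent.Lib.Helper3.FlatTen2

/-!
# Flat module coefficients: `M ⊗_A H^q(X, F) ≅ H^q(X', g^*F ⊗ f'^*M~)` (helper3)
-/

set_option autoImplicit false
set_option backward.isDefEq.respectTransparency.types false
set_option synthInstance.maxHeartbeats 400000
universe u
open CategoryTheory CategoryTheory.Limits Opposite TopologicalSpace AlgebraicGeometry TensorProduct

namespace Groth.Agent.Helper3.FlatTen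

open Groth.Agent.Lead.BCU Groth.Agent.Helper3.FlatExt Groth.Agent.Helper3.FlatBC
open Groth.Agent.Lib.Helper4.BaseChgRing1
open Groth.Agent.Lib.Helper4.TenSec2
open Groth.Agent.Lib.Helper4.LinBridge1
open Groth.Agent.Lead.TilT

section Congr

open MonoidalCategory in
/-- symmetry of the tensor product of modules -/
noncomputable def tensorModComm {X : Scheme.{u}} (M N : X.Modules) :
    CohB1.tensorMod M N ≅ CohB1.tensorMod N M :=
  (CohB1.sheafifyMod X).mapIso
    (show (show X.PresheafOfModules from CohB1.tensorPre M N) ≅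
        (show X.PresheafOfModules from CohB1.tensorPre N M) from by
      unfold CohB1.tensorPre
      exact β_ (CohB1.toPMod M) (CohB1.toPMod N))

variable (A' : Type u) [CommRing A'] {X' : Scheme.{u}} [X'.Over (Spec (CommRingCat.of A'))]

/-- isomorphic modules have linearly isomorphic cohomology -/
noncomputable def HHcongr {P N : X'.Modules} (e : P ≅ N) (q : ℕ) :
    Coh.HH X' P q ≃ₗ[A'] Coh.HH X' N q where
  toFun := Sheaf.H.map ((SheafOfModules.toSheaf X'.ringCatSheaf).map e.hom) q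
  map_add' := map_add _
  map_smul' a x := by
    change Sheaf.H.map ((SheafOfModules.toSheaf X'.ringCatSheaf).map e.hom) q
      (Sheaf.H.map (Coh.smulAb P (Coh.toGlobal (X' ↘ Spec (CommRingCat.of A')) a)) q x) =
      Sheaf.H.map (Coh.smulAb N (Coh.toGlobal (X' ↘ Spec (CommRingCat.of A')) a)) q
        (Sheaf.H.map ((SheafOfModules.toSheaf X'.ringCatSheaf).map e.hom) q x)
    refine (Sheaf.H.map_comp_apply _ _ x).symm.trans ?_
    refine Eq.trans ?_ (Sheaf.H.map_comp_apply _ _ x)
    exact congrArg (fun t => Sheaf.H.map t q x) (smulAb_naturality e.hom _).symm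
  invFun := Sheaf.H.map ((SheafOfModules.toSheaf X'.ringCatSheaf).map e.inv) q
  left_inv x := by
    refine (Sheaf.H.map_comp_apply _ _ x).symm.trans ?_
    have h : (SheafOfModules.toSheaf X'.ringCatSheaf).map e.hom ≫
        (SheafOfModules.toSheaf X'.ringCatSheaf).map e.inv = 𝟙 _ := by
      refine ((SheafOfModules.toSheaf X'.ringCatSheaf).map_comp _ _).symm.trans ?_
      exact (congrArg (SheafOfModules.toSheaf X'.ringCatSheaf).map e.hom_inv_id).trans
        ((SheafOfModules.toSheaf X'.ringCatSheaf).map_id _)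
    exact (congrArg (fun t => Sheaf.H.map t q x) h).trans (Sheaf.H.map_id_apply x)
  right_inv x := by
    refine (Sheaf.H.map_comp_apply _ _ x).symm.trans ?_
    have h : (SheafOfModules.toSheaf X'.ringCatSheaf).map e.inv ≫
        (SheafOfModules.toSheaf X'.ringCatSheaf).map e.hom = 𝟙 _ := by
      refine ((SheafOfModules.toSheaf X'.ringCatSheaf).map_comp _ _).symm.trans ?_
      exact (congrArg (SheafOfModules.toSheaf X'.ringCatSheaf).map e.inv_hom_id).trans
        ((SheafOfModules.toSheaf X'.ringCatSheaf).map_id _)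
    exact (congrArg (fun t => Sheaf.H.map t q x) h).trans (Sheaf.H.map_id_apply x)

end Congr

section Main

variable (A A' : Type u) [CommRing A] [CommRing A'] [Algebra A A']
  (M : Type u) [AddCommGroup M] [Module A' M] [Module A M] [IsScalarTower A A' M]
  [Module.Flat A M]
  {X X' : Scheme.{u}} [X.Over (Spec (CommRingCat.of A))] [X'.Over (Spec (CommRingCat.of A'))]
  [CompactSpace X] [QuasiSeparatedSpace X]
  (g : X' ⟶ X)
  (hpb : IsPullback g (X' ↘ Spec (CommRingCat.of A')) (X ↘ Spec (CommRingCat.of A))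
      (Spec.map (CommRingCat.ofHom (algebraMap A A'))))
  (𝓕 : X.Modules) [𝓕.IsQuasicoherent]

include hpb in
theorem main₀ (q : ℕ) :
    Nonempty (M ⊗[A] Coh.HH X 𝓕 q ≃ₗ[A'] Coh.HH X' (𝓟 A' M g 𝓕) q) := by
  haveI : IsAffineHom g :=
    Groth.Agent.Helper1.FBC.isAffineHom_of_isPullback A A' (algebraMap A A') g hpb
  haveI : ((Scheme.Modules.pullback g).obj 𝓕).IsQuasicoherent :=
    Groth.Agent.Lead.PB.isQuasicoherent_pullback _ _
  have hbij := ΨG_bijective A g 𝓕 (𝓟 A' M g 𝓕) (DT A A' M g hpb 𝓕) (DT_a A A' M g hpb 𝓕)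
    (goodT_base A A' M g hpb 𝓕) q
  have hsmul : ∀ (a' : A') (z : M ⊗[A] Coh.HH X 𝓕 q),
      ΨG A g 𝓕 (𝓟 A' M g 𝓕) (DT A A' M g hpb 𝓕) (DT_a A A' M g hpb 𝓕) q (a' • z) =
        a' • ΨG A g 𝓕 (𝓟 A' M g 𝓕) (DT A A' M g hpb 𝓕) (DT_a A A' M g hpb 𝓕) q z := by
    intro a' z
    induction z using TensorProduct.induction_on with
    | zero => rw [smul_zero, map_zero, smul_zero]
    | add x y hx hy => rw [smul_add, map_add, map_add, smul_add, hx, hy]
    | tmul m x =>
      rw [TensorProduct.smul_tmul', ΨG_tmul, ΨG_tmul]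
      change _ = Sheaf.H.map (Coh.smulAb (𝓟 A' M g 𝓕)
        (Coh.toGlobal (X' ↘ Spec (CommRingCat.of A')) a')) q _
      rw [← lerayAdd_natural]
      refine congrArg _ ?_
      refine Eq.trans ?_ (Sheaf.H.map_comp_apply _ _ x)
      exact congrArg (fun t => Sheaf.H.map t q x) (μT_smul' A' M g 𝓕 a' m)
  exact ⟨LinearEquiv.ofBijective
    { toFun := ΨG A g 𝓕 (𝓟 A' M g 𝓕) (DT A A' M g hpb 𝓕) (DT_a A A' M g hpb 𝓕) q
      map_add' := map_add _
      map_smul' := hsmul } hbij⟩

include hpb in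
/-- **flat module coefficients**: `M ⊗_A H^q(X, F) ≅ H^q(X', g^*F ⊗ f'^*M~)`, `A'`-linearly -/
theorem main (q : ℕ) :
    Nonempty (M ⊗[A] Coh.HH X 𝓕 q ≃ₗ[A']
      Coh.HH X' (CohB1.tensorMod ((Scheme.Modules.pullback g).obj 𝓕)
        ((Scheme.Modules.pullback (X' ↘ Spec (CommRingCat.of A'))).obj
          (AlgebraicGeometry.tilde (R := CommRingCat.of A') (ModuleCat.of A' M)))) q) := by
  obtain ⟨e1⟩ := main₀ A A' M g hpb 𝓕 q
  exact ⟨e1.trans (HHcongr A' (tensorModComm _ _) q)⟩

end Main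

end Groth.Agent.Helper3.FlatTen
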