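import Mathlib.AlgebraicGeometry.IdealSheaf.Functorial
import Mathlib.AlgebraicGeometry.Morphisms.Flat
import Mathlib.AlgebraicGeometry.Morphisms.SchemeTheoreticallyDominant

/-! Scheme-theoretic dominance: flat surjective maps, `toImage`, and flat base change of kernels. -/

universe u

open CategoryTheory Limits AlgebraicGeometry

namespace Groth.Agent.Helper3

variable {X Y Z : Scheme.{u}}

/-- sections are injective along flat surjective morphisms -/
theorem app_injective_of_flat_of_surjective (q : X ⟶ Y) [Flat q] [Surjective q] (U : Y.Opens) :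
    Function.Injective (q.app U) := by
  rw [injective_iff_map_eq_zero]
  intro s hs
  refine TopCat.Presheaf.section_ext Y.sheaf U s 0 fun y hy => ?_
  obtain ⟨x, rfl⟩ := q.surjective y
  have hinj : Function.Injective (q.stalkMap x) := by
    algebraize [(q.stalkMap x).hom]
    have : Module.FaithfullyFlat (Y.presheaf.stalk (q x)) (X.presheaf.stalk x) :=
      @Module.FaithfullyFlat.of_flat_of_isLocalHom _ _ _ _ _ _ _
        (Flat.stalkMap q x) (q.toLRSHom.prop x)
    exact ‹RingHom.FaithfullyFlat _›.injective
  have h0 : Y.presheaf.germ U (q x) hy s = 0 := by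
    apply hinj
    rw [map_zero, Scheme.Hom.germ_stalkMap_apply, hs, map_zero]
  rw [map_zero]
  exact h0

theorem ker_eq_bot_of_flat_of_surjective (q : X ⟶ Y) [Flat q] [Surjective q] : q.ker = ⊥ := by
  rw [← le_bot_iff]
  intro U x hx
  have h1 := q.ideal_ker_le U hx
  rw [RingHom.mem_ker] at h1
  have h2 : x = 0 := app_injective_of_flat_of_surjective q U.1 (by rw [h1, map_zero])
  rw [h2]
  exact Ideal.zero_mem _

theorem isSchemeTheoreticallyDominant_of_flat_of_surjective (q : X ⟶ Y) [Flat q] [Surjective q] :
    IsSchemeTheoreticallyDominant q :=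
  ⟨ker_eq_bot_of_flat_of_surjective q⟩

/-- For `f` flat and surjective, an ideal sheaf is recovered from its pullback. -/
theorem map_comap_eq_of_flat_of_surjective (f : X ⟶ Y) [Flat f] [Surjective f]
    (J : Y.IdealSheafData) : (J.comap f).map f = J := by
  have h1 : (J.comap f).subschemeι = (J.comapIso f).hom ≫ pullback.fst f J.subschemeι := by simp
  have h2 : (pullback.snd f J.subschemeι).ker = ⊥ := ker_eq_bot_of_flat_of_surjective _
  rw [Scheme.IdealSheafData.map, h1, Category.assoc, Scheme.Hom.ker_comp_of_isIso,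
    pullback.condition, Scheme.Hom.ker_comp, h2, Scheme.IdealSheafData.map_bot,
    Scheme.IdealSheafData.ker_subschemeι]

theorem comap_injective_of_flat_of_surjective (f : X ⟶ Y) [Flat f] [Surjective f] :
    Function.Injective fun J : Y.IdealSheafData => J.comap f := by
  intro J₁ J₂ h
  rw [← map_comap_eq_of_flat_of_surjective f J₁, ← map_comap_eq_of_flat_of_surjective f J₂]
  exact congrArg (fun I : X.IdealSheafData => I.map f) h

theorem ker_toImage_eq_bot (f : X ⟶ Y) [QuasiCompact f] : f.toImage.ker = ⊥ := by
  refine Scheme.IdealSheafData.ext_of_iSup_eq_top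
    (fun U : Y.affineOpens => ⟨f.imageι ⁻¹ᵁ U.1, U.2.preimage f.imageι⟩) ?_ ?_
  · rw [← top_le_iff]
    intro z _
    obtain ⟨_, ⟨U, hU, rfl⟩, hzU, -⟩ :=
      Y.isBasis_affineOpens.exists_subset_of_mem_open (Set.mem_univ (f.imageι z)) isOpen_univ
    exact TopologicalSpace.Opens.mem_iSup.mpr ⟨⟨U, hU⟩, hzU⟩
  · intro U
    rw [Scheme.Hom.ker_apply, Scheme.IdealSheafData.ideal_bot, Pi.bot_apply]
    exact (RingHom.injective_iff_ker_eq_bot _).mp (f.toImage_app_injective U)

/-- Flat base change of the kernel (scheme-theoretic image). -/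
theorem ker_pullback_snd_eq_comap_ker (f : X ⟶ Y) (g : Z ⟶ Y) [QuasiCompact f] [Flat g] :
    (pullback.snd f g).ker = f.ker.comap g := by
  let t := f.toImage
  let i := f.imageι
  have hti : t ≫ i = f := f.toImage_imageι
  let a : pullback f g ⟶ pullback i g :=
    pullback.lift (pullback.fst f g ≫ t) (pullback.snd f g)
      (by rw [Category.assoc, hti, pullback.condition])
  have ha1 : a ≫ pullback.fst i g = pullback.fst f g ≫ t := pullback.lift_fst _ _ _
  have ha2 : a ≫ pullback.snd i g = pullback.snd f g := pullback.lift_snd _ _ _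
  have hbig : IsPullback (a ≫ pullback.snd i g) (pullback.fst f g) g (t ≫ i) := by
    rw [ha2, hti]
    exact (IsPullback.of_hasPullback f g).flip
  have hright : IsPullback (pullback.snd i g) (pullback.fst i g) g i :=
    (IsPullback.of_hasPullback i g).flip
  have hleft : IsPullback a (pullback.fst f g) (pullback.fst i g) t :=
    IsPullback.of_right hbig ha1 hright
  have : IsSchemeTheoreticallyDominant t := ⟨ker_toImage_eq_bot f⟩
  have : IsSchemeTheoreticallyDominant a :=
    IsSchemeTheoreticallyDominant.of_isPullback hleft.flip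
  rw [← ha2, Scheme.Hom.ker_comp, a.ker_eq_bot, Scheme.IdealSheafData.map_bot]
  have h3 : pullback.snd i g = (pullbackSymmetry i g).hom ≫ pullback.fst g i := by simp
  rw [h3, Scheme.Hom.ker_comp_of_isIso, Scheme.IdealSheafData.ker_fst_of_isClosedImmersion]
  congr 1
  exact Scheme.IdealSheafData.ker_subschemeι _

end Groth.Agent.Helper3
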