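import Groth.Agent.Lib.Helper3.ResK0A

/-! Resolution theorem for `K₀`: the chain complex part. -/

namespace Groth.Agent.Helper3.ResK0B

open CategoryTheory CategoryTheory.Limits Groth.Agent.Helper3.ResK0A

universe v u

variable {C : Type u} [Category.{v} C] [Abelian C]

/-- A resolution presented as a sequence of short exact sequences. -/
structure ResData (P₀ : ObjectProperty C) (A : C) where
  K : ℕ → C
  L : ℕ → C
  p : ∀ i, L i ⟶ K i
  ι : ∀ i, K (i + 1) ⟶ L i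
  w : ∀ i, ι i ≫ p i = 0
  se : ∀ i, (ShortComplex.mk (ι i) (p i) (w i)).ShortExact
  e : K 0 ≅ A
  hL : ∀ i, P₀ (L i)

namespace ResData

variable {P₀ : ObjectProperty C} {A : C} (R : ResData P₀ A)

instance (i : ℕ) : Epi (R.p i) := (R.se i).epi_g
instance (i : ℕ) : Mono (R.ι i) := (R.se i).mono_f

/-- The chain complex of a resolution datum. -/
noncomputable abbrev cx : ChainComplex C ℕ :=
  ChainComplex.of R.L (fun i => R.p (i + 1) ≫ R.ι i) (fun i => by
    rw [Category.assoc, reassoc_of% (R.w (i + 1)), zero_comp, comp_zero])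

lemma cx_d (i : ℕ) : R.cx.d (i + 1) i = R.p (i + 1) ≫ R.ι i :=
  ChainComplex.of_d R.L (fun i => R.p (i + 1) ≫ R.ι i) i

lemma cx_X (i : ℕ) : R.cx.X i = R.L i := rfl

lemma exactAt (i : ℕ) : R.cx.ExactAt (i + 1) := by
  rw [HomologicalComplex.exactAt_iff' _ (i + 2) (i + 1) i (by simp) (by simp)]
  rw [ShortComplex.exact_iff_exact_up_to_refinements]
  intro T x hx
  change x ≫ R.cx.d (i + 1) i = 0 at hx
  rw [R.cx_d] at hx
  change T ⟶ R.L (i + 1) at x
  have h0 : x ≫ R.p (i + 1) = 0 := by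
    rw [← cancel_mono (R.ι i), Category.assoc, zero_comp]
    exact hx
  obtain ⟨T₁, π₁, hπ₁, k, hk⟩ := (R.se (i + 1)).exact.exact_up_to_refinements x h0
  dsimp at k hk
  obtain ⟨T₂, π₂, hπ₂, l, hl⟩ := surjective_up_to_refinements_of_epi (R.p (i + 2)) k
  refine ⟨T₂, π₂ ≫ π₁, inferInstance, l, ?_⟩
  change (π₂ ≫ π₁) ≫ x = l ≫ R.cx.d (i + 1 + 1) (i + 1)
  rw [R.cx_d (i + 1), Category.assoc, hk, ← reassoc_of% hl]

/-- `H₀` of the chain complex is `A`. -/
noncomputable def homologyIso : R.cx.homology 0 ≅ A := by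
  have hc : IsColimit (CokernelCofork.ofπ (f := R.cx.d 1 0) (R.p 0) (by
      rw [R.cx_d 0, Category.assoc, R.w 0, comp_zero])) :=
    isCokernelEpiComp (R.se 0).gIsCokernel (R.p 1) (R.cx_d 0)
  have hg : (R.cx.sc' 1 0 0).g = 0 := by
    change R.cx.d 0 0 = 0
    exact R.cx.shape _ _ (by simp)
  exact ShortComplex.homologyMapIso (R.cx.isoSc' 1 0 0 (by simp) (by simp)) ≪≫
    (ShortComplex.HomologyData.ofIsColimitCokernelCofork _ hg _ hc).left.homologyIso ≪≫ R.e

/-- The cycles of the chain complex. -/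
noncomputable def cyclesIso (n : ℕ) : R.cx.cycles (n + 1) ≅ R.K (n + 2) := by
  have hc : IsLimit (KernelFork.ofι (f := R.cx.d (n + 1) n) (R.ι (n + 1)) (by
      rw [R.cx_d n, reassoc_of% (R.w (n + 1)), zero_comp])) :=
    isKernelCompMono (R.se (n + 1)).fIsKernel (R.ι n) (R.cx_d n)
  exact IsLimit.conePointUniqueUpToIso (R.cx.cyclesIsKernel (n + 1) n (by simp)) hc

/-- Prepend a presentation to a resolution datum of its kernel. -/
noncomputable def cons {A L : C} (p : L ⟶ A) [Epi p] (hL : P₀ L) (R : ResData P₀ (kernel p)) :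
    ResData P₀ A where
  K := fun | 0 => A | (i + 1) => R.K i
  L := fun | 0 => L | (i + 1) => R.L i
  p := fun | 0 => p | (i + 1) => R.p i
  ι := fun | 0 => R.e.hom ≫ kernel.ι p | (i + 1) => R.ι i
  w := fun | 0 => by simp | (i + 1) => R.w i
  se := fun
    | 0 => by
        refine ShortComplex.shortExact_of_iso
          (S₁ := ShortComplex.mk (kernel.ι p) p (kernel.condition p))
          (ShortComplex.isoMk R.e.symm (Iso.refl L) (Iso.refl A) ?_ ?_) (se_kernel p)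
        · simp
        · simp
    | (i + 1) => R.se i
  e := Iso.refl A
  hL := fun | 0 => hL | (i + 1) => R.hL i

end ResData

/-- A presentation of `A` by an object of `P₀`. -/
structure Pres (P₀ : ObjectProperty C) (A : C) where
  L : C
  p : L ⟶ A
  epi : Epi p
  hL : P₀ L

variable {P₀ P₁ : ObjectProperty C} (H : Hyp P₀ P₁)

/-- A chosen presentation. -/
noncomputable def pres {A : C} (hA : P₁ A) : Pres P₀ A :=
  ⟨(H.exists_pres hA).choose, (H.exists_pres hA).choose_spec.choose,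
    (H.exists_pres hA).choose_spec.choose_spec.1, (H.exists_pres hA).choose_spec.choose_spec.2⟩

/-- The sequence of syzygies. -/
noncomputable def Kseq {A : C} (hA : P₁ A) : ℕ → {K : C // P₁ K}
  | 0 => ⟨A, hA⟩
  | (i + 1) => ⟨kernel (pres H (Kseq hA i).2).p,
      haveI := (pres H (Kseq hA i).2).epi
      H.p1_kernel _ (pres H (Kseq hA i).2).hL (Kseq hA i).2⟩

/-- A resolution datum for any object of `P₁`. -/
noncomputable def ofP1 {A : C} (hA : P₁ A) : ResData P₀ A where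
  K i := (Kseq H hA i).1
  L i := (pres H (Kseq H hA i).2).L
  p i := (pres H (Kseq H hA i).2).p
  ι i := kernel.ι (pres H (Kseq H hA i).2).p
  w i := kernel.condition _
  se i := by
    haveI := (pres H (Kseq H hA i).2).epi
    exact se_kernel _
  e := Iso.refl _
  hL i := (pres H (Kseq H hA i).2).hL

include H in
lemma good_of_forall : ∀ (n : ℕ) {A : C} (_ : P₁ A), (∀ R : ResData P₀ A, P₀ (R.K n)) →
    Good P₀ P₁ n A
  | 0, A, hA, h => H.iso₀ (ofP1 H hA).e (h _)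
  | (n + 1), A, hA, h => ⟨hA, fun L p hp hL => by
      haveI := hp
      exact good_of_forall n (H.p1_kernel p hL hA) (fun R => h (ResData.cons p hL R))⟩

include H in
theorem exists_good
    (h3 : ∀ A : C, P₁ A → ∃ d : ℕ, ∀ L : ChainComplex C ℕ, (∀ i, P₀ (L.X i)) →
      (∀ i, 1 ≤ i → L.ExactAt i) → Nonempty (L.homology 0 ≅ A) → P₀ (L.cycles (d + 1)))
    (A : C) (hA : P₁ A) : ∃ n, Good P₀ P₁ n A := by
  obtain ⟨d, hd⟩ := h3 A hA
  refine ⟨d + 2, good_of_forall H (d + 2) hA (fun R => ?_)⟩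
  refine H.iso₀ (R.cyclesIso d) (hd R.cx (fun i => R.hL i) (fun i hi => ?_) ⟨R.homologyIso⟩)
  obtain ⟨j, rfl⟩ : ∃ j, i = j + 1 := ⟨i - 1, by lia⟩
  exact R.exactAt j

/-- The resolution theorem for `K₀`. -/
theorem main
    (P₀ P₁ : ObjectProperty C) [P₀.IsClosedUnderIsomorphisms] (hle : ∀ X, P₀ X → P₁ X)
    (hext₀ : ∀ S : ShortComplex C, S.ShortExact → P₀ S.X₁ → P₀ S.X₃ → P₀ S.X₂)
    (hext₁ : ∀ S : ShortComplex C, S.ShortExact → P₁ S.X₁ → P₁ S.X₃ → P₁ S.X₂)
    (h1₀ : ∀ S : ShortComplex C, S.ShortExact → P₀ S.X₂ → P₀ S.X₃ → P₀ S.X₁)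
    (h1₁ : ∀ S : ShortComplex C, S.ShortExact → P₁ S.X₂ → P₁ S.X₃ → P₁ S.X₁)
    (h2 : ∀ (A B D : C) (u : A ⟶ B) (v : D ⟶ B), Epi u → P₁ A → P₁ B → P₁ D →
      ∃ (L : C) (u' : L ⟶ D) (v' : L ⟶ A), P₀ L ∧ Epi u' ∧ u' ≫ v = v' ≫ u)
    (h3 : ∀ A : C, P₁ A → ∃ d : ℕ, ∀ L : ChainComplex C ℕ, (∀ i, P₀ (L.X i)) →
      (∀ i, 1 ≤ i → L.ExactAt i) → Nonempty (L.homology 0 ≅ A) → P₀ (L.cycles (d + 1))) :
    Function.Bijective (SGA6.mapSub (𝟭 C) P₀ P₁ hle) := by
  have H : Hyp P₀ P₁ :=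
    { iso₀ := fun e h => P₀.prop_of_iso e h
      hle := hle
      hext₀ := hext₀
      hext₁ := hext₁
      h1₀ := h1₀
      h1₁ := h1₁
      h2 := h2 }
  exact H.main (exists_good H h3)

end Groth.Agent.Helper3.ResK0B
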