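import Mathlib
import Groth.Agent.Lib.Helper3.FinRes1
import Groth.Agent.Lib.Helper1.FinFreeRes

/-! Finite free resolutions of finitely presented modules, flat over the base, over a flat
finitely presented algebra (S5929). -/

set_option autoImplicit false
universe u
open CategoryTheory CategoryTheory.Limits TensorProduct

namespace Groth.Agent.Helper3.FinRes
open Groth.Agent.Helper1.FinFreeRes

variable (A B : Type u) [CommRing A] [CommRing B] [Algebra A B]

/-- a morphism from a finite free module whose kernel is in the class -/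
def Good {X Y : ModuleCat.{u} B} (f : X ⟶ Y) : Prop :=
  Module.Finite B X ∧ Module.Free B X ∧ P A B ↥(LinearMap.ker f.hom)

theorem good_cover [Algebra.FinitePresentation A B] [Module.Flat A B] (Z : ModuleCat.{u} B)
    (hZ : P A B Z) : Good A B (cover Z).2 := by
  haveI : Module.FinitePresentation B Z := hZ.1
  obtain ⟨h1, h2⟩ := cover_finite_free Z inferInstance
  haveI := cover_epi Z
  refine ⟨h1, h2, ?_⟩
  exact P_ker A B (cover Z).2.hom ((ModuleCat.epi_iff_surjective _).mp inferInstance) hZ

theorem good_succ [Algebra.FinitePresentation A B] [Module.Flat A B] {X Y : ModuleCat.{u} B}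
    (f : X ⟶ Y) (hf : P A B ↥(LinearMap.ker f.hom)) : Good A B (succ' f).2.1 := by
  have hK : P A B (kernel f : ModuleCat.{u} B) :=
    P_of_equiv A B (ModuleCat.kernelIsoKer f).symm.toLinearEquiv hf
  obtain ⟨h1, h2, h3⟩ := good_cover A B (kernel f) hK
  refine ⟨h1, h2, ?_⟩
  have hmono : LinearMap.ker (kernel.ι f).hom = ⊥ :=
    LinearMap.ker_eq_bot.mpr ((ModuleCat.mono_iff_injective _).mp inferInstance)
  have heq : LinearMap.ker (succ' f).2.1.hom = LinearMap.ker (cover (kernel f)).2.hom := by
    show LinearMap.ker ((cover (kernel f)).2 ≫ kernel.ι f).hom = _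
    rw [ModuleCat.hom_comp, LinearMap.ker_comp_of_ker_eq_bot _ hmono]
  exact P_of_equiv A B (LinearEquiv.ofEq _ _ heq.symm) h3

theorem good_iso_comp {X X' Y : ModuleCat.{u} B} (e : X' ≅ X) (g : X ⟶ Y) (hg : Good A B g) :
    Good A B (e.hom ≫ g) := by
  obtain ⟨h1, h2, h3⟩ := hg
  refine ⟨Module.Finite.equiv e.symm.toLinearEquiv, Module.Free.of_equiv e.symm.toLinearEquiv, ?_⟩
  have heq : LinearMap.ker (e.hom ≫ g).hom =
      (LinearMap.ker g.hom).comap e.toLinearEquiv.toLinearMap := by
    rw [ModuleCat.hom_comp, LinearMap.ker_comp]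
    rfl
  exact P_of_equiv A B ((LinearEquiv.ofSubmodule' e.toLinearEquiv (LinearMap.ker g.hom)).symm.trans
    (LinearEquiv.ofEq _ _ heq.symm)) h3

theorem good_d [Algebra.FinitePresentation A B] [Module.Flat A B] (Z : ModuleCat.{u} B)
    (hZ : P A B Z) (n : ℕ) : Good A B ((cx Z).d (n + 1) n) := by
  induction n with
  | zero =>
    rw [cx_d_1_0]
    exact good_succ A B _ (good_cover A B Z hZ).2.2
  | succ n ih =>
    have h := ChainComplex.mk'_d (cover Z).1 (succ' (cover Z).2).1 (succ' (cover Z).2).2.1
      (fun f => succ' f) n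
    have h' : (cx Z).d (n + 2) (n + 1) =
        (ChainComplex.mk'XIso (cover Z).1 (succ' (cover Z).2).1 (succ' (cover Z).2).2.1
          (fun f => succ' f) n).hom ≫ (succ' ((cx Z).d (n + 1) n)).2.1 := h
    rw [h']
    exact good_iso_comp A B _ _ (good_succ A B _ ih.2.2)

/-- **S5929** -/
theorem S5929_main (A B M : Type u) [CommRing A] [CommRing B] [Algebra A B]
    [Algebra.FinitePresentation A B] [Module.Flat A B] [AddCommGroup M] [Module B M] [Module A M]
    [IsScalarTower A B M] [Module.FinitePresentation B M] [Module.Flat A M] :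
    ∃ P : ProjectiveResolution (ModuleCat.of B M),
      ∀ n : ℕ, Module.Finite B (P.complex.X n) ∧ Module.Free B (P.complex.X n) := by
  have hZ : Groth.Agent.Helper3.FinRes.P A B (ModuleCat.of B M) :=
    P_of_tower A B (LinearEquiv.refl B M)
  refine ⟨res (ModuleCat.of B M), fun n => ?_⟩
  cases n with
  | zero =>
    obtain ⟨h1, h2, -⟩ := good_cover A B (ModuleCat.of B M) hZ
    exact ⟨h1, h2⟩
  | succ n =>
    obtain ⟨h1, h2, -⟩ := good_d A B (ModuleCat.of B M) hZ n
    exact ⟨h1, h2⟩

end Groth.Agent.Helper3.FinRes
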