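import Mathlib
import Groth.Prelude.Def_MoreMor
import Groth.Agent.Lib.Helper3.FinRes2

/-! A flat ring map of finite presentation is perfect (S7068). -/

set_option autoImplicit false
universe u
open CategoryTheory CategoryTheory.Limits TensorProduct DerivedCategory

attribute [local instance] HasDerivedCategory.standard

namespace Groth.Agent.Helper3.PerfHom

/-- a module with a resolution by finite free modules is pseudo-coherent -/
theorem pc'_of_res {R : Type u} [CommRing R] (M : Type u) [AddCommGroup M] [Module R M]
    (Res : ProjectiveResolution (ModuleCat.of R M))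
    (h : ∀ n : ℕ, Module.Finite R (Res.complex.X n) ∧ Module.Free R (Res.complex.X n)) :
    DRing.IsPseudoCoherentModule' R M := by
  refine ⟨Res.cochainComplex, 0, fun i hi => CochainComplex.isZero_of_isStrictlyLE _ 0 i hi, ?_, ⟨?_⟩⟩
  · intro k
    by_cases hk : k ≤ 0
    · obtain ⟨m, rfl⟩ := Int.exists_eq_neg_ofNat hk
      let e : Res.cochainComplex.X (-m) ≅ Res.complex.X m :=
        Res.cochainComplexXIso (-m) m
      haveI := (h m).1
      haveI := (h m).2
      exact ⟨Module.Finite.equiv e.symm.toLinearEquiv, Module.Free.of_equiv e.symm.toLinearEquiv⟩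
    · have : Subsingleton (Res.cochainComplex.X k) :=
        ModuleCat.subsingleton_of_isZero (CochainComplex.isZero_of_isStrictlyLE _ 0 k (by omega))
      exact ⟨inferInstance, inferInstance⟩
  · exact asIso (Q.map Res.π') ≪≫ ((singleFunctorIsoCompQ (ModuleCat.{u} R) 0).app _).symm

/-- a surjective algebra map from a polynomial ring with finitely generated kernel makes the
target a finitely presented module -/
theorem fp_module_of_surjective {A B : Type u} [CommRing A] [CommRing B] [Algebra A B] (n : ℕ)
    (φ : MvPolynomial (Fin n) A →ₐ[A] B) (hφ : Function.Surjective φ)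
    (hker : (RingHom.ker φ.toRingHom).FG) :
    letI := φ.toRingHom.toAlgebra
    Module.FinitePresentation (MvPolynomial (Fin n) A) B := by
  letI := φ.toRingHom.toAlgebra
  refine Module.finitePresentation_of_surjective
    (Algebra.linearMap (MvPolynomial (Fin n) A) B) hφ ?_
  have : LinearMap.ker (Algebra.linearMap (MvPolynomial (Fin n) A) B) =
      RingHom.ker φ.toRingHom := by
    ext x
    rfl
  rw [this]
  exact hker

/-- **S7068** -/
theorem S7068_main (A B : Type u) [CommRing A] [CommRing B] [Algebra A B]
    [Module.Flat A B] [Algebra.FinitePresentation A B] : MoreMor.IsPerfectHom A B := by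
  constructor
  · obtain ⟨n, φ, hφ, hker⟩ := Algebra.FinitePresentation.out (R := A) (A := B)
    refine ⟨n, φ, hφ, ?_⟩
    letI := φ.toRingHom.toAlgebra
    haveI : IsScalarTower A (MvPolynomial (Fin n) A) B :=
      IsScalarTower.of_algebraMap_eq' (by
        ext a
        exact (φ.commutes a).symm)
    haveI : Module.FinitePresentation (MvPolynomial (Fin n) A) B :=
      fp_module_of_surjective n φ hφ hker
    obtain ⟨Res, hRes⟩ := Groth.Agent.Helper3.FinRes.S5929_main A (MvPolynomial (Fin n) A) B
    exact pc'_of_res B Res hRes
  · refine ⟨0, fun N _ _ p hp => ?_⟩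
    obtain ⟨q, rfl⟩ : ∃ q, p = q + 1 := ⟨p - 1, by omega⟩
    exact ModuleCat.subsingleton_of_isZero
      (Groth.Agent.Helper1.TorL.isZero_tor_succ_of_flat (ModuleCat.of A B) (ModuleCat.of A N) q)

end Groth.Agent.Helper3.PerfHom
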