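import Mathlib
import Groth.Prelude.Def_MoreMor
import Groth.Agent.Lib.Helper3.PerfHom1
import Groth.Agent.Lib.Helper5.DRing.PCHom

/-! Pseudo-coherence of a quotient of a flat finitely presented algebra (S1507). -/

set_option autoImplicit false
universe u
open CategoryTheory CategoryTheory.Limits TensorProduct DerivedCategory

attribute [local instance] HasDerivedCategory.standard

namespace Groth.Agent.Helper3.PerfHom
open Groth.Agent.Helper5.PCHom Groth.Agent.Helper5.PCRes

/-- `AllPC` of a module is pseudo-coherence of the module -/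
theorem allPC_iff_pcModule' {R : Type u} [CommRing R] (M : Type u) [AddCommGroup M] [Module R M] :
    AllPC (ModuleCat.of R M) ↔ DRing.IsPseudoCoherentModule' R M :=
  ⟨fun h => Groth.Agent.Helper5.PCBuild.pc'_of_forall_pc _ h,
    fun h m => Groth.Agent.Helper5.TorAmp.pc_of_pc' h m⟩

/-- pseudo-coherence of the target of an algebra map from a polynomial ring, in terms of `PCHom` -/
theorem pcModule'_toAlgebra_iff {A C : Type u} [CommRing A] [CommRing C] [Algebra A C] {k : ℕ}
    (β : MvPolynomial (Fin k) A →ₐ[A] C) :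
    (letI := β.toRingHom.toAlgebra
     DRing.IsPseudoCoherentModule' (MvPolynomial (Fin k) A) C) ↔ PCHom β.toRingHom := by
  letI := β.toRingHom.toAlgebra
  rw [← allPC_iff_pcModule']
  exact (pchom_iff_alg (B := MvPolynomial (Fin k) A) (C := C)).symm

/-- `PCHom` in terms of relative pseudo-coherence of the ring itself -/
theorem pchom_iff_relpc {A C : Type u} [CommRing A] [CommRing C] [Algebra A C] {k : ℕ}
    (β : MvPolynomial (Fin k) A →ₐ[A] C) :
    PCHom β.toRingHom ↔ ∀ m : ℤ, DerCA.IsRelPseudoCoherentVia β m (Dual.inD C C) := by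
  constructor
  · intro h m
    exact Groth.Agent.S2087.pc_of_iso (restrictDSingle β.toRingHom (ModuleCat.of C C)).symm (h m)
  · intro h m
    exact Groth.Agent.S2087.pc_of_iso (restrictDSingle β.toRingHom (ModuleCat.of C C)) (h m)

/-- independence of the presentation for pseudo-coherent ring maps -/
theorem pcHom_iff_of_presentation {A C : Type u} [CommRing A] [CommRing C] [Algebra A C] {n : ℕ}
    (α : MvPolynomial (Fin n) A →ₐ[A] C) (hα : Function.Surjective α) :
    MoreMor.IsPseudoCoherentHom A C ↔ PCHom α.toRingHom := by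
  constructor
  · rintro ⟨k, β, hβ, h⟩
    rw [pcModule'_toAlgebra_iff, pchom_iff_relpc] at h
    rw [pchom_iff_relpc]
    intro m
    exact (s6983 β hβ α hα _ m).mp (h m)
  · intro h
    exact ⟨n, α, hα, (pcModule'_toAlgebra_iff α).mpr h⟩

/-- two out of three for `AllPC` in a short exact sequence: the kernel -/
theorem allPC_of_shortExact₁ {A : Type u} [CommRing A] (S : ShortComplex (ModuleCat.{u} A))
    (hS : S.ShortExact) (h2 : AllPC S.X₂) (h3 : AllPC S.X₃) : AllPC S.X₁ := by
  intro m
  have := (Groth.Agent.S2067.main _ hS.singleTriangle_distinguished (m - 1)).2.2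
  have h := this (by rw [sub_add_cancel]; exact h2 m) (h3 (m - 1))
  rw [sub_add_cancel] at h
  exact h

/-- the short exact sequence `0 → I → B → B/I → 0` -/
theorem allPC_quotient_iff {B : Type u} [CommRing B] (I : Ideal B) :
    AllPC (ModuleCat.of B (B ⧸ I)) ↔ AllPC (ModuleCat.of B ↥I) := by
  let S : ShortComplex (ModuleCat.{u} B) :=
    ModuleCat.shortComplexOfCompEqZero (Submodule.subtype I) (Submodule.mkQ I) (by
      ext x
      exact (LinearMap.exact_subtype_mkQ I).apply_apply_eq_zero x)
  have hS : S.ShortExact := ModuleCat.shortComplex_shortExact S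
    (LinearMap.exact_subtype_mkQ I) I.injective_subtype (Submodule.mkQ_surjective I)
  constructor
  · intro h
    exact allPC_of_shortExact₁ S hS allPC_self h
  · intro h
    exact allPC_of_shortExact₃ S hS h allPC_self

/-- **S1507** -/
theorem S1507_main {A B : Type u} [CommRing A] [CommRing B] [Algebra A B] [Module.Flat A B]
    [Algebra.FinitePresentation A B] (I : Ideal B) :
    MoreMor.IsPseudoCoherentHom A (B ⧸ I) ↔ DRing.IsPseudoCoherentModule' B ↥I := by
  obtain ⟨n, α, hα, hker⟩ := Algebra.FinitePresentation.out (R := A) (A := B)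
  have hPα : PCHom α.toRingHom := by
    rw [← pcModule'_toAlgebra_iff]
    letI := α.toRingHom.toAlgebra
    haveI : IsScalarTower A (MvPolynomial (Fin n) A) B :=
      IsScalarTower.of_algebraMap_eq' (by
        ext a
        exact (α.commutes a).symm)
    haveI : Module.FinitePresentation (MvPolynomial (Fin n) A) B :=
      fp_module_of_surjective n α hα hker
    obtain ⟨Res, hRes⟩ := Groth.Agent.Helper3.FinRes.S5929_main A (MvPolynomial (Fin n) A) B
    exact pc'_of_res B Res hRes
  have hᾱ : Function.Surjective ((Ideal.Quotient.mkₐ A I).comp α) :=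
    (Ideal.Quotient.mkₐ_surjective A I).comp hα
  rw [pcHom_iff_of_presentation ((Ideal.Quotient.mkₐ A I).comp α) hᾱ]
  have h1 : PCHom ((Ideal.Quotient.mkₐ A I).comp α).toRingHom ↔
      PCHom (algebraMap B (B ⧸ I)) :=
    ⟨fun h => pchom_cancel α.toRingHom (algebraMap B (B ⧸ I)) _ rfl hPα h,
      fun h => pchom_comp α.toRingHom (algebraMap B (B ⧸ I)) _ rfl hPα h⟩
  rw [h1, pchom_iff_alg, ← allPC_iff_pcModule']
  exact allPC_quotient_iff I

end Groth.Agent.Helper3.PerfHom
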