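import Mathlib
import Groth.Prelude.Def_MoreMor
import Groth.Agent.Lib.Helper3.PerfHom1
import Groth.Agent.Lib.Helper3.RegGlDim
import Groth.Agent.Lib.Helper5.DRing.PCNoeth

/-! A finite type ring map out of a regular ring of finite Krull dimension is perfect (S7069). -/

set_option autoImplicit false
universe u
open CategoryTheory CategoryTheory.Limits TensorProduct DerivedCategory

attribute [local instance] HasDerivedCategory.standard

namespace Groth.Agent.Helper3.PerfHom

/-- a finite type algebra over a Noetherian ring is pseudo-coherent -/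
theorem pcHom_of_finiteType_noetherian (A B : Type u) [CommRing A] [CommRing B] [Algebra A B]
    [IsNoetherianRing A] [Algebra.FiniteType A B] : MoreMor.IsPseudoCoherentHom A B := by
  obtain ⟨n, φ, hφ⟩ := Algebra.FiniteType.iff_quotient_mvPolynomial''.mp
    (inferInstance : Algebra.FiniteType A B)
  refine ⟨n, φ, hφ, ?_⟩
  letI := φ.toRingHom.toAlgebra
  rw [Groth.Agent.Helper5.PCDev.pcModule_iff_noetherian]
  exact Module.Finite.of_surjective (Algebra.linearMap (MvPolynomial (Fin n) A) B) hφ

/-- **S7069** -/
theorem S7069_main (A B : Type u) [CommRing A] [CommRing B] [Algebra A B]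
    [IsRegularRing A] (hdim : ringKrullDim A < ⊤) [Algebra.FiniteType A B] :
    MoreMor.IsPerfectHom A B := by
  refine ⟨pcHom_of_finiteType_noetherian A B, ?_⟩
  have hreg : ∀ p : PrimeSpectrum A, IsRegularLocalRing (Localization.AtPrime p.asIdeal) :=
    fun p => IsRegularRing.isRegularLocalRing_localization p.asIdeal
  by_cases hA : Nontrivial A
  · -- the dimension is a natural number
    have h0 : (0 : WithBot ℕ∞) ≤ ringKrullDim A := ringKrullDim_nonneg_of_nontrivial
    obtain ⟨d, hd⟩ : ∃ d : ℕ, ringKrullDim A = d := by
      generalize hx : ringKrullDim A = x at hdim h0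
      induction x with
      | bot => exact absurd h0 (by simp)
      | coe x =>
        induction x with
        | top => exact absurd hdim (by simp)
        | coe d => exact ⟨d, rfl⟩
    refine ⟨d, fun N _ _ p hp => ?_⟩
    haveI : HasProjectiveDimensionLT (ModuleCat.of A B) (d + 1) :=
      Groth.Agent.Helper3.RegGlDim.pdLT_of_regular hreg d hd _
    exact ModuleCat.subsingleton_of_isZero
      (Groth.Agent.Helper3.PdTor.isZero_tor_of_pdLT d (ModuleCat.of A B) (ModuleCat.of A N) p hp)
  · rw [not_nontrivial_iff_subsingleton] at hA
    refine ⟨0, fun N _ _ p hp => ?_⟩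
    haveI : Subsingleton B := Module.subsingleton A B
    haveI : Module.Flat A B := inferInstance
    obtain ⟨q, rfl⟩ : ∃ q, p = q + 1 := ⟨p - 1, by omega⟩
    exact ModuleCat.subsingleton_of_isZero
      (Groth.Agent.Helper1.TorL.isZero_tor_succ_of_flat (ModuleCat.of A B) (ModuleCat.of A N) q)

end Groth.Agent.Helper3.PerfHom
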