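import Mathlib
import Groth.Prelude.Def_DualSh
import Groth.Agent.Lib.Helper3.PerfHom1
import Groth.Agent.Lib.Helper5.TorAmp.Perf
import Groth.Agent.Lib.Helper5.TorAmp.Rep
import Groth.Agent.Lib.Helper5.DRing.PCTerms

/-! Relatively perfect complexes over a flat finitely presented algebra are the bounded complexes
of finitely presented modules flat over the base (S7074). -/

set_option autoImplicit false
universe u
open CategoryTheory CategoryTheory.Limits TensorProduct DerivedCategory

attribute [local instance] HasDerivedCategory.standard

namespace Groth.Agent.Helper3.PerfHom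
open Groth.Agent.Helper5.TorAmp Groth.Agent.Helper5.FlatAcyc

section

variable (R A : Type u) [CommRing R] [CommRing A] [Algebra R A]

/-- restriction of scalars on complexes -/
noncomputable abbrev resC : DRing.Cx A ⥤ DRing.Cx R :=
  (ModuleCat.restrictScalars.{u} (algebraMap R A)).mapHomologicalComplex (ComplexShape.up ℤ)

/-- restriction of scalars commutes with the localization functor -/
noncomputable def resIso (E : DRing.Cx A) :
    (DRing.restrictD (algebraMap R A)).obj (DRing.toD E) ≅ DRing.toD ((resC R A).obj E) :=
  (ModuleCat.restrictScalars.{u} (algebraMap R A)).mapDerivedCategoryFactors.app E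

theorem flat_restrictScalars [Module.Flat R A] (M : ModuleCat.{u} A) [Module.Flat A M] :
    Module.Flat R ((ModuleCat.restrictScalars.{u} (algebraMap R A)).obj M) := by
  letI : Module R M := Module.compHom M (algebraMap R A)
  haveI : IsScalarTower R A M := IsScalarTower.of_compHom _ _ _
  exact Module.Flat.trans R A M

theorem exactAt_of_resC (F : DRing.Cx A) (j : ℤ) (h : ((resC R A).obj F).ExactAt j) :
    F.ExactAt j := by
  have h1 := exact_of_exactAt ((resC R A).obj F) (j - 1) j (j + 1) (by omega) rfl h
  exact exactAt_of_exact F (j - 1) j (j + 1) (by omega) rfl h1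

/-- finitely presented modules flat over the base are pseudo-coherent -/
theorem pcModule'_of_fp_flat [Module.Flat R A] [Algebra.FinitePresentation R A]
    (M : ModuleCat.{u} A) [Module.FinitePresentation A M]
    (h : Module.Flat R ((ModuleCat.restrictScalars.{u} (algebraMap R A)).obj M)) :
    DRing.IsPseudoCoherentModule' A M := by
  letI : Module R M := Module.compHom M (algebraMap R A)
  haveI : IsScalarTower R A M := IsScalarTower.of_compHom _ _ _
  haveI : Module.Flat R M := h
  obtain ⟨Res, hRes⟩ := Groth.Agent.Helper3.FinRes.S5929_main R A M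
  exact pc'_of_res M Res hRes

end

/-- **S7074** -/
theorem S7074_main (R A : Type u) [CommRing R] [CommRing A] [Algebra R A]
    [Module.Flat R A] [Algebra.FinitePresentation R A] (K : Dual.D A) :
    Dual2.IsRelPerfect R A K ↔
      ∃ (E : DRing.Cx A) (a b : ℤ), DRing.VanishesOutside E a b ∧
        (∀ i : ℤ, Module.FinitePresentation A (E.X i) ∧
          Module.Flat R ((ModuleCat.restrictScalars (algebraMap R A)).obj (E.X i))) ∧
        Nonempty (DRing.toD E ≅ K) := by
  constructor
  · rintro ⟨⟨F, c, hc, hff, ⟨e⟩⟩, a, b, htor⟩
    have hflatR : DRing.TermwiseFlat ((resC R A).obj F) := fun i => by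
      haveI := (hff i).2
      exact flat_restrictScalars R A (F.X i)
    have hcR : DRing.VanishesAbove ((resC R A).obj F) c := fun i hi =>
      (ModuleCat.restrictScalars.{u} (algebraMap R A)).map_isZero (hc i hi)
    have eR : DRing.toD ((resC R A).obj F) ≅ (DRing.restrictD (algebraMap R A)).obj K :=
      (resIso R A F).symm ≪≫ (DRing.restrictD (algebraMap R A)).mapIso e
    have hTV : TorVan a b ((resC R A).obj F) :=
      (hasTorAmplitudeIn_iff' ((resC R A).obj F) hflatR c hcR eR a b).1 htor
    have hGE : F.IsGE a := by
      rw [CochainComplex.isGE_iff]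
      intro i hi
      exact exactAt_of_resC R A F i (hTV.exactAt i (Or.inl hi))
    have hq : QuasiIso (F.πTruncGE a) := inferInstance
    refine ⟨F.truncGE a, a, c, ?_, ?_, ⟨(asIso (Q.map (F.πTruncGE a))).symm ≪≫ e⟩⟩
    · intro i hi
      rcases hi with hi | hi
      · exact (F.truncGE a).isZero_of_isStrictlyGE a i hi
      · rcases lt_trichotomy i a with h1 | h1 | h1
        · exact (F.truncGE a).isZero_of_isStrictlyGE a i h1
        · subst h1
          exact (isZero_opcycles_of_isZero F i (hc i hi)).of_iso (F.truncGEXIsoOpcycles i)
        · exact (hc i hi).of_iso (F.truncGEXIso a i h1)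
    · intro i
      rcases lt_trichotomy i a with h1 | h1 | h1
      · have hz := (F.truncGE a).isZero_of_isStrictlyGE a i h1
        haveI : Subsingleton ((F.truncGE a).X i) := ModuleCat.subsingleton_of_isZero hz
        refine ⟨inferInstance, ?_⟩
        haveI : Subsingleton ((ModuleCat.restrictScalars (algebraMap R A)).obj
            ((F.truncGE a).X i)) :=
          ModuleCat.subsingleton_of_isZero
            ((ModuleCat.restrictScalars.{u} (algebraMap R A)).map_isZero hz)
        infer_instance
      · subst h1
        -- the cokernel term
        have hfl : Module.Flat R (((resC R A).obj F).opcycles i) :=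
          flat_opcycles ((resC R A).obj F) hflatR i (hTV.exactAt _ (Or.inl (by omega)))
            (fun I => hTV _ _ (Or.inl (by omega)))
        have e1 : ((resC R A).obj F).opcycles i ≅
            (ModuleCat.restrictScalars.{u} (algebraMap R A)).obj (F.opcycles i) :=
          ShortComplex.mapOpcyclesIso (F.sc i) (ModuleCat.restrictScalars.{u} (algebraMap R A))
        have e2 : (ModuleCat.restrictScalars.{u} (algebraMap R A)).obj (F.opcycles i) ≅
            (ModuleCat.restrictScalars.{u} (algebraMap R A)).obj ((F.truncGE i).X i) :=
          (ModuleCat.restrictScalars.{u} (algebraMap R A)).mapIso (F.truncGEXIsoOpcycles i).symm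
        refine ⟨?_, Module.Flat.of_linearEquiv (e1 ≪≫ e2).symm.toLinearEquiv⟩
        let e := F.truncGEXIsoOpcycles i ≪≫ opcyclesIsoQuotient F (i - 1) i (by omega)
        obtain ⟨h2, h3⟩ := hff i
        obtain ⟨h4, h5⟩ := hff (i - 1)
        have : Module.FinitePresentation A (F.X i) := Module.finitePresentation_of_projective _ _
        have hfpres : Module.FinitePresentation A
            (F.X i ⧸ LinearMap.range (F.d (i - 1) i).hom) := by
          refine Module.finitePresentation_of_surjective
            (LinearMap.range (F.d (i - 1) i).hom).mkQ (Submodule.mkQ_surjective _) ?_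
          rw [Submodule.ker_mkQ, LinearMap.range_eq_map]
          exact Submodule.FG.map _ Module.Finite.fg_top
        exact Module.FinitePresentation.of_equiv (R := A) e.symm.toLinearEquiv
      · obtain ⟨h2, h3⟩ := hff i
        have : Module.FinitePresentation A (F.X i) := Module.finitePresentation_of_projective _ _
        refine ⟨Module.FinitePresentation.of_equiv (R := A)
          (F.truncGEXIso a i h1).symm.toLinearEquiv, ?_⟩
        haveI : Module.Flat R ((ModuleCat.restrictScalars.{u} (algebraMap R A)).obj (F.X i)) :=
          flat_restrictScalars R A (F.X i)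
        exact Module.Flat.of_linearEquiv
          ((ModuleCat.restrictScalars.{u} (algebraMap R A)).mapIso
            (F.truncGEXIso a i h1)).toLinearEquiv
  · rintro ⟨E, a, b, hv, hterms, ⟨e⟩⟩
    constructor
    · have h1 : DRing.IsPseudoCoherent' A (DRing.toD E) :=
        (Groth.Agent.Helper5.PCDev.s6938 0 E b (fun i hi => hv i (Or.inr hi))).2 (fun i => by
          haveI := (hterms i).1
          exact pcModule'_of_fp_flat R A (E.X i) (hterms i).2)
      obtain ⟨E', b', h2, h3, ⟨e'⟩⟩ := h1
      exact ⟨E', b', h2, h3, ⟨e' ≪≫ e⟩⟩
    · refine ⟨a, b, (resC R A).obj E, ?_, fun i => (hterms i).2, ⟨(resIso R A E).symm ≪≫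
        (DRing.restrictD (algebraMap R A)).mapIso e⟩⟩
      intro i hi
      exact (ModuleCat.restrictScalars.{u} (algebraMap R A)).map_isZero (hv i hi)

end Groth.Agent.Helper3.PerfHom
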