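import Mathlib
import Groth.Prelude.Def_LCI2
import Groth.Prelude.Def_MoreMor
import Groth.Prelude.Def_Mor2
import Groth.Agent.Lib.Helper3.PerfHom3
import Groth.Agent.Lib.Helper3.PerfHom5
import Groth.Agent.Lib.Helper5.TorAmp.TorDim
import Groth.Agent.Lib.Lead.LciReg2

/-! Flat finitely presented ring maps are perfect; scheme versions (S7172, S7173). -/

set_option autoImplicit false
universe u
open CategoryTheory CategoryTheory.Limits TensorProduct DerivedCategory AlgebraicGeometry

attribute [local instance] HasDerivedCategory.standard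

namespace Groth.Agent.Helper3.PerfHom

theorem perfectHom_of_flat_fp (A B : Type u) [CommRing A] [CommRing B] [Algebra A B]
    [Module.Flat A B] [Algebra.FinitePresentation A B] : MoreMor.IsPerfectHom A B := by
  obtain ⟨n, φ, hφ, hker⟩ := (inferInstance : Algebra.FinitePresentation A B).out
  refine ⟨⟨n, φ, hφ, ?_⟩, ⟨0, ((Groth.Agent.Helper5.TorAmp.s6946 (R := A) B 0).2).2 inferInstance⟩⟩
  letI := φ.toRingHom.toAlgebra
  haveI : IsScalarTower A (MvPolynomial (Fin n) A) B :=
    IsScalarTower.of_algebraMap_eq (fun a => (φ.commutes a).symm)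
  haveI : Module.FinitePresentation (MvPolynomial (Fin n) A) B := by
    refine Module.finitePresentation_of_surjective
      (Algebra.linearMap (MvPolynomial (Fin n) A) B) hφ ?_
    have : LinearMap.ker (Algebra.linearMap (MvPolynomial (Fin n) A) B) =
        (RingHom.ker φ.toRingHom).restrictScalars (MvPolynomial (Fin n) A) := by
      ext x
      simp [RingHom.mem_ker, Algebra.linearMap_apply, RingHom.algebraMap_toAlgebra]
    rw [this]
    exact hker
  obtain ⟨Res, hRes⟩ := Groth.Agent.Helper3.FinRes.S5929_main A (MvPolynomial (Fin n) A) B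
  exact pc'_of_res B Res hRes

/-- S7172 -/
theorem S7172_main {X S : Scheme.{u}} (f : X ⟶ S) [Flat f] [LocallyOfFinitePresentation f] :
    MoreMor.IsPerfectMor f := by
  intro U V hU hV hUV
  letI := (f.appLE V U hUV).hom.toAlgebra
  haveI : Module.Flat Γ(S, V) Γ(X, U) := Flat.flat_appLE f hV hU hUV
  haveI : Algebra.FinitePresentation Γ(S, V) Γ(X, U) :=
    LocallyOfFinitePresentation.finitePresentation_appLE f hV hU hUV
  exact perfectHom_of_flat_fp _ _

/-- S7173 -/
theorem S7173_main {X S : Scheme.{u}} (f : X ⟶ S) [LocallyOfFiniteType f] [IsLocallyNoetherian S]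
    (hreg : ∀ s : S, IsRegularLocalRing (S.presheaf.stalk s))
    (hdim : ∀ V : S.Opens, IsAffineOpen V → ringKrullDim Γ(S, V) < ⊤) :
    MoreMor.IsPerfectMor f := by
  intro U V hU hV hUV
  letI := (f.appLE V U hUV).hom.toAlgebra
  haveI : IsRegularRing Γ(S, V) := Groth.Agent.Lead.LciLocal.isRegularRing_of_stalks hreg V hV
  haveI : Algebra.FiniteType Γ(S, V) Γ(X, U) :=
    LocallyOfFiniteType.finiteType_appLE f hV hU hUV
  exact S7069_main _ _ (hdim V hV)

end Groth.Agent.Helper3.PerfHom
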