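import Mathlib
import Groth.Prelude.Def_MoreMor
import Groth.Agent.Lib.Helper3.PerfHom4
import Groth.Agent.Lib.Helper3.PerfHom8
import Groth.Agent.Lib.Helper5.DRing.RelPC3

/-! Pseudo-coherent ring maps: composition, cancellation, localization. -/

set_option autoImplicit false
universe u
open CategoryTheory CategoryTheory.Limits TensorProduct DerivedCategory

attribute [local instance] HasDerivedCategory.standard

namespace Groth.Agent.Helper3.PCLoc
open Groth.Agent.Helper5.PCHom Groth.Agent.Helper5.PCRes Groth.Agent.Helper3.PerfHom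

section basic

variable {R A B : Type u} [CommRing R] [CommRing A] [CommRing B]

theorem finiteType_of_pcHom [Algebra R A] (h : MoreMor.IsPseudoCoherentHom R A) :
    Algebra.FiniteType R A := by
  obtain ⟨n, φ, hφ, -⟩ := h
  exact Algebra.FiniteType.iff_quotient_mvPolynomial''.2 ⟨n, φ, hφ⟩

theorem pcHom_iff_relpcAll [Algebra R A] :
    MoreMor.IsPseudoCoherentHom R A ↔ DerCA.IsRelPseudoCoherentModuleAll R A A := by
  constructor
  · rintro ⟨n, φ, hφ, h⟩
    have h1 : PCHom φ.toRingHom := (pcModule'_toAlgebra_iff φ).1 h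
    exact fun m => ⟨n, φ, hφ, (pchom_iff_relpc φ).1 h1 m⟩
  · intro h
    obtain ⟨n, α, hα, -⟩ := h 0
    refine (pcHom_iff_of_presentation α hα).2 ((pchom_iff_relpc α).2 (fun m => ?_))
    exact (relpc_iff_via α hα m _).1 (h m)

variable [Algebra R A] [Algebra A B] [Algebra R B] [IsScalarTower R A B]

theorem pcHom_comp (h1 : MoreMor.IsPseudoCoherentHom R A) (h2 : MoreMor.IsPseudoCoherentHom A B) :
    MoreMor.IsPseudoCoherentHom R B := by
  haveI := finiteType_of_pcHom h1
  haveI := finiteType_of_pcHom h2
  rw [pcHom_iff_relpcAll] at h1 h2 ⊢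
  exact fun m => (relpc_base_iff h1 _ m).1 (h2 m)

theorem pcHom_cancel (h1 : MoreMor.IsPseudoCoherentHom R A) (h3 : MoreMor.IsPseudoCoherentHom R B) :
    MoreMor.IsPseudoCoherentHom A B := by
  haveI := finiteType_of_pcHom h1
  haveI := finiteType_of_pcHom h3
  haveI : Algebra.FiniteType A B := Algebra.FiniteType.of_restrictScalars_finiteType R A B
  rw [pcHom_iff_relpcAll] at h1 h3 ⊢
  exact fun m => (relpc_base_iff h1 _ m).2 (h3 m)

end basic

section surj

variable {T T' : Type u} [CommRing T] [CommRing T'] [Algebra T T']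

theorem pcHom_surjective_iff (h : Function.Surjective (algebraMap T T')) :
    MoreMor.IsPseudoCoherentHom T T' ↔ AllPC (ModuleCat.of T T') := by
  let α : MvPolynomial (Fin 0) T →ₐ[T] T' := MvPolynomial.aeval (fun i => Fin.elim0 i)
  have hα : Function.Surjective α := by
    intro x
    obtain ⟨t, rfl⟩ := h x
    exact ⟨MvPolynomial.C t, by simp [α]⟩
  let e : MvPolynomial (Fin 0) T ≃+* T := MvPolynomial.isEmptyRingEquiv T (Fin 0)
  have hcomp : algebraMap T T' = α.toRingHom.comp e.symm.toRingHom := by
    ext t
    simp [α, e]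
  rw [pcHom_iff_of_presentation α hα, ← pchom_iff_alg]
  constructor
  · intro h1
    exact pchom_comp e.symm.toRingHom α.toRingHom _ hcomp (pchom_equiv e.symm) h1
  · intro h1
    exact pchom_cancel e.symm.toRingHom α.toRingHom _ hcomp (pchom_equiv e.symm) h1

end surj

section away

variable {R S : Type u} [CommRing R] [CommRing S] [Algebra R S]

theorem pcHom_of_away (r : R) [IsLocalization.Away r S] : MoreMor.IsPseudoCoherentHom R S := by
  haveI : Module.Flat R S := IsLocalization.flat S (Submonoid.powers r)
  haveI : Algebra.FinitePresentation R S := IsLocalization.Away.finitePresentation r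
  exact (perfectHom_of_flat_fp R S).1

theorem pcHom_mvPolynomial (n : ℕ) : MoreMor.IsPseudoCoherentHom R (MvPolynomial (Fin n) R) :=
  (perfectHom_of_flat_fp R (MvPolynomial (Fin n) R)).1

end away

section cover

variable {P : Type u} [CommRing P]

open Groth.Agent.Helper5.FlatBC in
/-- pseudo-coherence of a module is Zariski local -/
theorem allPC_of_cover {k : ℕ} (f : Fin k → P) (hf : Ideal.span (Set.range f) = ⊤)
    (M : Type u) [AddCommGroup M] [Module P M]
    (h : ∀ i, AllPC (ModuleCat.of (Localization.Away (f i)) (Localization.Away (f i) ⊗[P] M))) :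
    AllPC (ModuleCat.of P M) := by
  intro m
  have h1 := Groth.Agent.S2087.result f hf
    ((HomologicalComplex.single (ModuleCat.{u} P) (ComplexShape.up ℤ) 0).obj (ModuleCat.of P M)) m
    (fun i => ?_)
  · exact Groth.Agent.S2087.pc_of_iso ((singleFunctorIsoCompQ (ModuleCat.{u} P) 0).app _).symm h1
  · refine Groth.Agent.S2087.pc_of_iso ?_ (h i m)
    exact (DerivedCategory.singleFunctor (ModuleCat.{u} (Localization.Away (f i))) 0).mapIso
      (eqvT (Localization.Away (f i)) M).toModuleIso ≪≫
      (singleIso (Localization.Away (f i)) (ModuleCat.of P M)).symm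

end cover

end Groth.Agent.Helper3.PCLoc
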