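import Mathlib
import Groth.Prelude.Def_MoreMor
import Groth.Agent.Lib.Helper3.PCLoc1

/-! Pseudo-coherent ring maps: locality on the target. -/

set_option autoImplicit false
universe u
open CategoryTheory CategoryTheory.Limits TensorProduct DerivedCategory

attribute [local instance] HasDerivedCategory.standard

namespace Groth.Agent.Helper3.PCLoc
open Groth.Agent.Helper5.PCHom Groth.Agent.Helper5.PCRes Groth.Agent.Helper3.PerfHom

section locbc

variable {P S : Type u} [CommRing P] [CommRing S] [Algebra P S] (p : P)
  (Pp Sr : Type u) [CommRing Pp] [CommRing Sr] [Algebra P Pp] [Algebra S Sr] [Algebra P Sr]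
  [Algebra Pp Sr] [IsScalarTower P S Sr] [IsScalarTower P Pp Sr] [IsLocalization.Away p Pp]
  [IsLocalization.Away (algebraMap P S p) Sr]

/-- `P_p ⊗_P S ≃ S_p` -/
noncomputable def awayTensorEquiv : Pp ⊗[P] S ≃ₗ[Pp] Sr :=
  haveI : IsLocalization (Algebra.algebraMapSubmonoid S (Submonoid.powers p)) Sr := by
    rw [Algebra.algebraMapSubmonoid, Submonoid.map_powers]
    infer_instance
  haveI : IsLocalizedModule (Submonoid.powers p) (IsScalarTower.toAlgHom P S Sr).toLinearMap :=
    inferInstance
  (IsLocalizedModule.isBaseChange (Submonoid.powers p) Pp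
    (IsScalarTower.toAlgHom P S Sr).toLinearMap).equiv

end locbc

section awaypc

variable {R P S : Type u} [CommRing R] [CommRing P] [CommRing S] [Algebra R P] [Algebra P S]
  [Algebra R S] [IsScalarTower R P S]

theorem allPC_away_of_pcHom (hsurj : Function.Surjective (algebraMap P S))
    (hRP : MoreMor.IsPseudoCoherentHom R P) (p : P)
    (h : MoreMor.IsPseudoCoherentHom R (Localization.Away (algebraMap P S p))) :
    AllPC (ModuleCat.of (Localization.Away p) (Localization.Away p ⊗[P] S)) := by
  let γ : Localization.Away p →+* Localization.Away (algebraMap P S p) :=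
    Localization.awayMap (algebraMap P S) p
  letI : Algebra (Localization.Away p) (Localization.Away (algebraMap P S p)) := γ.toAlgebra
  have hγ : ∀ x, γ (algebraMap P (Localization.Away p) x) =
      algebraMap S (Localization.Away (algebraMap P S p)) (algebraMap P S x) := fun x => by
    simp [γ, Localization.awayMap, IsLocalization.Away.map]
  haveI : IsScalarTower P (Localization.Away p) (Localization.Away (algebraMap P S p)) :=
    IsScalarTower.of_algebraMap_eq (fun x => by
      show algebraMap P (Localization.Away (algebraMap P S p)) x =
        γ (algebraMap P (Localization.Away p) x)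
      rw [hγ, ← IsScalarTower.algebraMap_apply])
  haveI : IsScalarTower R (Localization.Away p) (Localization.Away (algebraMap P S p)) :=
    IsScalarTower.of_algebraMap_eq (fun x => by
      show algebraMap R (Localization.Away (algebraMap P S p)) x =
        γ (algebraMap R (Localization.Away p) x)
      rw [IsScalarTower.algebraMap_apply R P (Localization.Away p), hγ,
        ← IsScalarTower.algebraMap_apply, ← IsScalarTower.algebraMap_apply])
  have hc1 : MoreMor.IsPseudoCoherentHom R (Localization.Away p) :=
    pcHom_comp (A := P) hRP (pcHom_of_away p)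
  have hc2 : MoreMor.IsPseudoCoherentHom (Localization.Away p)
      (Localization.Away (algebraMap P S p)) := pcHom_cancel (R := R) hc1 h
  have hsurj' : Function.Surjective (algebraMap (Localization.Away p)
      (Localization.Away (algebraMap P S p))) := by
    show Function.Surjective γ
    apply Localization.awayMap_surjective_iff.2
    intro a
    obtain ⟨b, rfl⟩ := hsurj a
    exact ⟨b, 0, by simp⟩
  exact allPC_of_iso (awayTensorEquiv p (Localization.Away p)
    (Localization.Away (algebraMap P S p))).symm.toModuleIso
    ((pcHom_surjective_iff hsurj').1 hc2)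

end awaypc

section target

variable {R S : Type u} [CommRing R] [CommRing S] [Algebra R S]

/-- pseudo-coherence of a ring map is local on the target -/
theorem pcHom_of_span_target (s : Finset S) (hs : Ideal.span (s : Set S) = ⊤)
    (h : ∀ r ∈ s, MoreMor.IsPseudoCoherentHom R (Localization.Away r)) :
    MoreMor.IsPseudoCoherentHom R S := by
  classical
  haveI : Algebra.FiniteType R S :=
    Algebra.FiniteType.of_span_eq_top_target s hs (fun r hr => finiteType_of_pcHom (h r hr))
  obtain ⟨n, α, hα⟩ := Algebra.FiniteType.iff_quotient_mvPolynomial''.1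
    (inferInstance : Algebra.FiniteType R S)
  rw [pcHom_iff_of_presentation α hα]
  letI : Algebra (MvPolynomial (Fin n) R) S := α.toRingHom.toAlgebra
  haveI : IsScalarTower R (MvPolynomial (Fin n) R) S :=
    IsScalarTower.of_algebraMap_eq (fun a => (α.commutes a).symm)
  have hαs : Function.Surjective (algebraMap (MvPolynomial (Fin n) R) S) := hα
  rw [show α.toRingHom = algebraMap (MvPolynomial (Fin n) R) S from rfl, pchom_iff_alg]
  -- lifts of the elements of `s`
  choose p hp using fun r : s => hα r
  -- the ideal generated by the lifts and the kernel is the unit ideal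
  have h1 : Ideal.span (Set.range p) ⊔ RingHom.ker α.toRingHom = ⊤ := by
    have h2 : Ideal.map α.toRingHom (Ideal.span (Set.range p)) = ⊤ := by
      rw [Ideal.map_span, ← hs]
      congr 1
      ext x
      constructor
      · rintro ⟨_, ⟨r, rfl⟩, rfl⟩
        rw [show α.toRingHom (p r) = α (p r) from rfl, hp r]
        exact r.2
      · intro hx
        exact ⟨p ⟨x, hx⟩, ⟨_, rfl⟩, hp ⟨x, hx⟩⟩
    have h3 := Ideal.comap_map_of_surjective α.toRingHom hα (Ideal.span (Set.range p))
    rw [h2, Ideal.comap_top] at h3
    rw [h3]
    rfl
  obtain ⟨a, ha, q, hq, haq⟩ := Submodule.mem_sup.1 (h1 ▸ Submodule.mem_top : (1 : MvPolynomial (Fin n) R) ∈ _)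
  -- the covering family
  let f : Fin (s.card + 1) → MvPolynomial (Fin n) R :=
    Fin.cases q (fun i => p (s.equivFin.symm i))
  have hf : Ideal.span (Set.range f) = ⊤ := by
    rw [Ideal.eq_top_iff_one, ← haq]
    refine Ideal.add_mem _ ?_ (Ideal.subset_span ⟨0, rfl⟩)
    have hle : Ideal.span (Set.range p) ≤ Ideal.span (Set.range f) := by
      apply Ideal.span_mono
      rintro _ ⟨r, rfl⟩
      exact ⟨(s.equivFin r).succ, by simp [f]⟩
    exact hle ha
  refine allPC_of_cover f hf S (fun i => ?_)
  refine Fin.cases ?_ (fun j => ?_) i
  · -- the kernel part: the localization vanishes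
    haveI : Subsingleton (Localization.Away (f 0) ⊗[MvPolynomial (Fin n) R] S) := by
      have hq0 : algebraMap (MvPolynomial (Fin n) R) S q = 0 := hq
      have hu : IsUnit (algebraMap (MvPolynomial (Fin n) R) (Localization.Away (f 0)) q) :=
        IsLocalization.Away.algebraMap_isUnit (f 0)
      have h0 : ∀ z : Localization.Away (f 0) ⊗[MvPolynomial (Fin n) R] S, z = 0 := by
        intro z
        have h3 : (algebraMap (MvPolynomial (Fin n) R) (Localization.Away (f 0)) q) • z = 0 := by
          rw [algebraMap_smul]
          induction z using TensorProduct.induction_on with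
          | zero => simp
          | tmul x y =>
            rw [TensorProduct.smul_tmul', TensorProduct.smul_tmul, Algebra.smul_def, hq0, zero_mul,
              TensorProduct.tmul_zero]
          | add x y hx hy => rw [smul_add, hx, hy, add_zero]
        obtain ⟨u, hu'⟩ := hu
        rw [← hu'] at h3
        have := congrArg (fun w => (↑u⁻¹ : Localization.Away (f 0)) • w) h3
        simpa [smul_smul] using this
      exact ⟨fun a b => (h0 a).trans (h0 b).symm⟩
    exact allPC_of_isZero (ModuleCat.isZero_of_subsingleton _)
  · -- the part lifting an element of `s`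
    set r : s := s.equivFin.symm j with hr
    have hfj : f j.succ = p r := by simp [f, hr]
    rw [hfj]
    have hpr : algebraMap (MvPolynomial (Fin n) R) S (p r) = r := hp r
    have hr' : MoreMor.IsPseudoCoherentHom R
        (Localization.Away (algebraMap (MvPolynomial (Fin n) R) S (p r))) := by
      rw [hpr]
      exact h r r.2
    exact allPC_away_of_pcHom hαs (pcHom_mvPolynomial n) (p r) hr'

end target

end Groth.Agent.Helper3.PCLoc
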