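import Mathlib
import Groth.Prelude.Def_MoreMor
import Groth.Agent.Lib.Helper3.PCLoc2

/-! Pseudo-coherent ring maps form a local property; scheme-level consequences. -/

set_option autoImplicit false
universe u
open CategoryTheory CategoryTheory.Limits TensorProduct DerivedCategory AlgebraicGeometry

attribute [local instance] HasDerivedCategory.standard

namespace Groth.Agent.Helper3.PCLoc

/-- the ring hom property "pseudo-coherent" -/
def PC {R S : Type u} [CommRing R] [CommRing S] (f : R →+* S) : Prop :=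
  @MoreMor.IsPseudoCoherentHom R S _ _ f.toAlgebra

theorem pc_iff {R S : Type u} [CommRing R] [CommRing S] [Algebra R S] :
    PC (algebraMap R S) ↔ MoreMor.IsPseudoCoherentHom R S := by
  rw [PC, toAlgebra_algebraMap]

theorem pc_stableUnderComposition : RingHom.StableUnderComposition @PC := by
  intro R S T _ _ _ f g hf hg
  letI := f.toAlgebra
  letI := g.toAlgebra
  letI := (g.comp f).toAlgebra
  haveI : IsScalarTower R S T := IsScalarTower.of_algebraMap_eq (fun _ => rfl)
  exact pcHom_comp (A := S) hf hg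

theorem pc_holdsForLocalizationAway : RingHom.HoldsForLocalizationAway @PC := by
  introv R _
  rw [pc_iff]
  exact pcHom_of_away r

theorem pc_ofLocalizationSpanTarget : RingHom.OfLocalizationSpanTarget @PC := by
  rw [RingHom.ofLocalizationSpanTarget_iff_finite]
  intro R S _ _ f s hs H
  letI := f.toAlgebra
  refine pcHom_of_span_target (R := R) s hs (fun r hr => ?_)
  have h1 := H ⟨r, hr⟩
  have e : (OreLocalization.instAlgebra : Algebra R (Localization.Away r)) =
      ((algebraMap S (Localization.Away r)).comp f).toAlgebra :=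
    Algebra.algebra_ext _ _ (fun x => rfl)
  unfold PC at h1
  rw [← e] at h1
  exact h1

theorem pc_localizationAwayPreserves : RingHom.LocalizationAwayPreserves @PC := by
  intro R S _ _ f r R' S' _ _ _ _ _ _ hf
  letI := f.toAlgebra
  letI : Algebra R' S' := (IsLocalization.Away.map R' S' f r).toAlgebra
  letI : Algebra R S' := ((algebraMap S S').comp f).toAlgebra
  haveI : IsScalarTower R S S' := IsScalarTower.of_algebraMap_eq (fun _ => rfl)
  haveI : IsScalarTower R R' S' := IsScalarTower.of_algebraMap_eq (fun x => by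
    show algebraMap S S' (f x) = IsLocalization.Away.map R' S' f r (algebraMap R R' x)
    simp [IsLocalization.Away.map])
  have h1 : MoreMor.IsPseudoCoherentHom R S' := pcHom_comp (A := S) hf (pcHom_of_away (f r))
  have h2 : MoreMor.IsPseudoCoherentHom R R' := pcHom_of_away r
  exact pcHom_cancel (R := R) h2 h1

theorem pc_isLocal : RingHom.PropertyIsLocal @PC :=
  ⟨pc_localizationAwayPreserves, pc_ofLocalizationSpanTarget,
    pc_ofLocalizationSpanTarget.ofLocalizationSpan
      (pc_stableUnderComposition.stableUnderCompositionWithLocalizationAway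
        pc_holdsForLocalizationAway).1,
    (pc_stableUnderComposition.stableUnderCompositionWithLocalizationAway
        pc_holdsForLocalizationAway).2⟩

instance : HasRingHomProperty (affineLocally @PC) @PC := ⟨pc_isLocal, rfl⟩

theorem pcMor_iff {X Y : Scheme.{u}} (f : X ⟶ Y) :
    MoreMor.IsPseudoCoherentMor f ↔ affineLocally @PC f := by
  rw [HasRingHomProperty.iff_appLE (P := affineLocally @PC)]
  constructor
  · intro h U V e
    exact h V.1 U.1 V.2 U.2 e
  · intro h U V hU hV e
    exact h ⟨V, hV⟩ ⟨U, hU⟩ e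

/-- S7166 -/
theorem S7166_main {X S : Scheme.{u}} (f : X ⟶ S) :
    MoreMor.IsPseudoCoherentMor f ↔ ∀ x : X, ∃ (U : X.Opens) (V : S.Opens) (hUV : U ≤ f ⁻¹ᵁ V),
      IsAffineOpen U ∧ IsAffineOpen V ∧ x ∈ U ∧
      (letI := (f.appLE V U hUV).hom.toAlgebra
       MoreMor.IsPseudoCoherentHom Γ(S, V) Γ(X, U)) := by
  rw [pcMor_iff, HasRingHomProperty.iff_exists_appLE (P := affineLocally @PC)
    (pc_stableUnderComposition.stableUnderCompositionWithLocalizationAway
        pc_holdsForLocalizationAway).1]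
  constructor
  · intro h x
    obtain ⟨U, V, hx, e, hQ⟩ := h x
    exact ⟨V.1, U.1, e, V.2, U.2, hx, hQ⟩
  · intro h x
    obtain ⟨U, V, e, hU, hV, hx, hQ⟩ := h x
    exact ⟨⟨V, hV⟩, ⟨U, hU⟩, hx, e, hQ⟩

/-- S1504 -/
theorem S1504_main {X Y Z : Scheme.{u}} (f : X ⟶ Y) (g : Y ⟶ Z)
    (hf : MoreMor.IsPseudoCoherentMor f) (hg : MoreMor.IsPseudoCoherentMor g) :
    MoreMor.IsPseudoCoherentMor (f ≫ g) := by
  rw [pcMor_iff] at hf hg ⊢
  haveI := HasRingHomProperty.stableUnderComposition (P := affineLocally @PC)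
    pc_stableUnderComposition
  exact MorphismProperty.comp_mem _ f g hf hg

theorem pc_cancel {R S T : Type u} [CommRing R] [CommRing S] [CommRing T] (f : R →+* S)
    (g : S →+* T) (hf : PC f) (hgf : PC (g.comp f)) : PC g := by
  letI := f.toAlgebra
  letI := g.toAlgebra
  letI := (g.comp f).toAlgebra
  haveI : IsScalarTower R S T := IsScalarTower.of_algebraMap_eq (fun _ => rfl)
  exact pcHom_cancel (R := R) hf hgf

/-- S7169 -/
theorem S7169_main {X Y S : Scheme.{u}} (f : X ⟶ Y) (g : Y ⟶ S)
    (hX : MoreMor.IsPseudoCoherentMor (f ≫ g)) (hY : MoreMor.IsPseudoCoherentMor g) :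
    MoreMor.IsPseudoCoherentMor f := by
  rw [S7166_main]
  intro x
  obtain ⟨W, hW, hxW, -⟩ := TopologicalSpace.Opens.isBasis_iff_nbhd.mp S.isBasis_affineOpens
    (TopologicalSpace.Opens.mem_top (g (f x)))
  obtain ⟨V, hV, hxV, eV⟩ := TopologicalSpace.Opens.isBasis_iff_nbhd.mp Y.isBasis_affineOpens
    (show f x ∈ g ⁻¹ᵁ W from hxW)
  obtain ⟨U, hU, hxU, eU⟩ := TopologicalSpace.Opens.isBasis_iff_nbhd.mp X.isBasis_affineOpens
    (show x ∈ f ⁻¹ᵁ V from hxV)
  refine ⟨U, V, eU, hU, hV, hxU, ?_⟩
  have h1 : PC (g.appLE W V eV).hom := hY V W hV hW eV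
  have e3 : U ≤ (f ≫ g) ⁻¹ᵁ W := eU.trans ((TopologicalSpace.Opens.map f.base).map (homOfLE eV)).le
  have h2 : PC ((f ≫ g).appLE W U e3).hom := hX U W hU hW e3
  have h3 : ((f ≫ g).appLE W U e3).hom = (f.appLE V U eU).hom.comp (g.appLE W V eV).hom := by
    rw [← Scheme.Hom.appLE_comp_appLE f g W V U eV eU]
    rfl
  rw [h3] at h2
  exact pc_cancel _ _ h1 h2

end Groth.Agent.Helper3.PCLoc
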