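import Mathlib

/-!
# Truncation triangles in the derived category and splitting criteria
-/

open CategoryTheory Limits Pretriangulated DerivedCategory

universe w v u

namespace Groth.Agent.Helper3.DSplit

variable {C : Type u} [Category.{v} C] [Abelian C] [HasDerivedCategory.{w} C]

/-- cohomology objects -/
noncomputable abbrev Hm (i : ℤ) (K : DerivedCategory C) : C := (homologyFunctor C i).obj K

omit [HasDerivedCategory.{w} C] in
lemma isIso_of_exact {X₁ X₂ X₃ X₄ : C} (f : X₁ ⟶ X₂) (g : X₂ ⟶ X₃) (k : X₃ ⟶ X₄)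
    (w : f ≫ g = 0) (w' : g ≫ k = 0)
    (e : (ShortComplex.mk f g w).Exact) (e' : (ShortComplex.mk g k w').Exact)
    (h₁ : IsZero X₁) (h₄ : IsZero X₄) : IsIso g := by
  have : Mono g := e.mono_g_iff.2 (h₁.eq_of_src _ _)
  have : Epi g := e'.epi_f_iff.2 (h₄.eq_of_tgt _ _)
  exact isIso_of_mono_of_epi g

lemma isZero_of_bounds {K : DerivedCategory C} (a b : ℤ) (hab : b < a)
    (ha : ∀ i, i < a → IsZero (Hm i K)) (hb : ∀ i, b < i → IsZero (Hm i K)) : IsZero K := by
  have i1 : (TStructure.t (C := C)).IsLE K b := (isLE_iff K b).2 hb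
  have i2 : (TStructure.t (C := C)).IsGE K a := (isGE_iff K a).2 ha
  exact (TStructure.t (C := C)).isZero K b a hab

/-- the truncation triangle at `n - 1 | n`, with the induced isomorphisms on cohomology -/
lemma exists_trunc_triangle (K : DerivedCategory C) (n : ℤ) :
    ∃ (A B : DerivedCategory C) (f : A ⟶ K) (g : K ⟶ B) (δ : B ⟶ A⟦(1 : ℤ)⟧),
      Triangle.mk f g δ ∈ distTriang (DerivedCategory C) ∧
      (∀ i, n - 1 < i → IsZero (Hm i A)) ∧ (∀ i, i < n → IsZero (Hm i B)) ∧
      (∀ i, i < n → IsIso ((homologyFunctor C i).map f)) ∧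
      (∀ i, n ≤ i → IsIso ((homologyFunctor C i).map g)) := by
  obtain ⟨A, B, hA, hB, f, g, δ, hT⟩ :=
    (TStructure.t (C := C)).exists_triangle K (n - 1) n (by ring)
  have iA : (TStructure.t (C := C)).IsLE A (n - 1) := ⟨hA⟩
  have iB : (TStructure.t (C := C)).IsGE B n := ⟨hB⟩
  have hA0 : ∀ i, n - 1 < i → IsZero (Hm i A) := fun i hi => isZero_of_isLE A (n - 1) i hi
  have hB0 : ∀ i, i < n → IsZero (Hm i B) := fun i hi => isZero_of_isGE B n i hi
  refine ⟨A, B, f, g, δ, hT, hA0, hB0, fun i hi => ?_, fun i hi => ?_⟩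
  · exact isIso_of_exact _ _ _ _ _ (HomologySequence.exact₁ _ hT (i - 1) i (by ring))
      (HomologySequence.exact₂ _ hT i) (hB0 (i - 1) (by lia)) (hB0 i hi)
  · exact isIso_of_exact _ _ _ _ _ (HomologySequence.exact₂ _ hT i)
      (HomologySequence.exact₃ _ hT i (i + 1) rfl) (hA0 i (by lia)) (hA0 (i + 1) (by lia))

/-- an object with cohomology concentrated in degree `n` is a shifted single -/
lemma exists_iso_single {B : DerivedCategory C} (n : ℤ)
    (h1 : ∀ i, i < n → IsZero (Hm i B)) (h2 : ∀ i, n < i → IsZero (Hm i B)) :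
    Nonempty (B ≅ (singleFunctor C n).obj (Hm n B)) := by
  have i1 : (TStructure.t (C := C)).IsLE B n := (isLE_iff B n).2 h2
  have i2 : (TStructure.t (C := C)).IsGE B n := (isGE_iff B n).2 h1
  obtain ⟨Y, ⟨e⟩⟩ := exists_iso_singleFunctor_obj_of_isGE_of_isLE B n
  have e' : Hm n B ≅ Y := (homologyFunctor C n).mapIso e ≪≫
    (singleFunctorCompHomologyFunctorIso C n).app Y
  exact ⟨e ≪≫ (singleFunctor C n).mapIso e'.symm⟩

/-- dévissage: maps out of a bounded object vanish if maps out of its cohomology objects do -/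
lemma hom_eq_zero_of_devissage (Z : DerivedCategory C) (n : ℕ) :
    ∀ (L : DerivedCategory C) (c d : ℤ), d - c < n →
      (∀ i, i < c → IsZero (Hm i L)) → (∀ i, d < i → IsZero (Hm i L)) →
      (∀ j, c ≤ j → j ≤ d → ∀ f : (singleFunctor C j).obj (Hm j L) ⟶ Z, f = 0) →
      ∀ f : L ⟶ Z, f = 0 := by
  induction n with
  | zero =>
    intro L c d hcd ha hb _ f
    exact (isZero_of_bounds c d (by lia) ha hb).eq_of_src _ _
  | succ n ih =>
    intro L c d hcd ha hb hv f
    by_cases hlt : d < c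
    · exact (isZero_of_bounds c d hlt ha hb).eq_of_src _ _
    obtain ⟨A', B', u, g, δ, hT, hA0, hB0, isoA, isoB⟩ := exists_trunc_triangle L d
    have hA'c : ∀ i, i < c → IsZero (Hm i A') := fun i hi => by
      have := isoA i (by lia)
      exact (ha i hi).of_iso (asIso ((homologyFunctor C i).map u))
    have huf : u ≫ f = 0 := by
      refine ih A' c (d - 1) (by lia) hA'c hA0 (fun j hj1 hj2 φ => ?_) _
      have := isoA j (by lia)
      have h0 := hv j hj1 (by lia)
        ((singleFunctor C j).map (inv ((homologyFunctor C j).map u)) ≫ φ)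
      have : IsIso ((singleFunctor C j).map (inv ((homologyFunctor C j).map u))) := inferInstance
      exact (cancel_epi _).1 (h0.trans comp_zero.symm)
    obtain ⟨φ, hφ⟩ := Triangle.yoneda_exact₂ _ hT f huf
    have hB'd : ∀ i, d < i → IsZero (Hm i B') := fun i hi => by
      have := isoB i (by lia)
      exact (hb i hi).of_iso (asIso ((homologyFunctor C i).map g)).symm
    obtain ⟨e⟩ := exists_iso_single d hB0 hB'd
    have := isoB d le_rfl
    let ψ : (singleFunctor C d).obj (Hm d L) ⟶ B' :=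
      (singleFunctor C d).map ((homologyFunctor C d).map g) ≫ e.inv
    have hψ : IsIso ψ := by
      have : IsIso ((singleFunctor C d).map ((homologyFunctor C d).map g)) := inferInstance
      exact IsIso.comp_isIso
    have h0 : ψ ≫ φ = 0 := hv d (by lia) le_rfl (ψ ≫ φ)
    have hφ0 : φ = 0 := (cancel_epi ψ).1 (h0.trans comp_zero.symm)
    rw [hφ, hφ0]
    exact comp_zero

/-- conversion between `Hom(S j X, (S i Y)[1])` and `Hom(S 0 X, (S 0 Y)[p])`, `p = j - i + 1` -/
lemma hom_single_eq_zero (X Y : C) (i j p : ℤ) (hp : p = j - i + 1)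
    (h : ∀ g : (singleFunctor C 0).obj X ⟶ ((singleFunctor C 0).obj Y)⟦p⟧, g = 0)
    (f : (singleFunctor C j).obj X ⟶ ((singleFunctor C i).obj Y)⟦(1 : ℤ)⟧) : f = 0 := by
  let e₁ : ((singleFunctor C j).obj X)⟦j⟧ ≅ (singleFunctor C 0).obj X :=
    ((singleFunctors C).shiftIso j 0 j (by simp)).app X
  let W : DerivedCategory C := (singleFunctor C 0).obj Y
  let eY : W⟦-i⟧ ≅ (singleFunctor C i).obj Y :=
    ((singleFunctors C).shiftIso (-i) i 0 (by simp)).app Y
  let e₂ : (((singleFunctor C i).obj Y)⟦(1 : ℤ)⟧)⟦j⟧ ≅ W⟦p⟧ :=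
    (shiftFunctor _ j).mapIso ((shiftFunctor _ (1 : ℤ)).mapIso eY.symm) ≪≫
      (shiftFunctor _ j).mapIso
        ((shiftFunctorAdd' (DerivedCategory C) (-i) 1 (-i + 1) rfl).app W).symm ≪≫
      ((shiftFunctorAdd' (DerivedCategory C) (-i + 1) j p (by omega)).app W).symm
  have hg := h (e₁.inv ≫ f⟦j⟧' ≫ e₂.hom)
  have h0 : f⟦j⟧' = 0 := by
    have : f⟦j⟧' = e₁.hom ≫ (e₁.inv ≫ f⟦j⟧' ≫ e₂.hom) ≫ e₂.inv := by simp
    rw [this, hg]
    simp
  exact (shiftFunctor (DerivedCategory C) j).map_injective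
    (h0.trans (Functor.map_zero _ _ _).symm)

/-- a projection onto a cohomology object, provided the relevant extension groups vanish -/
lemma exists_proj (K : DerivedCategory C) (i b : ℤ) (hb : ∀ n, b < n → IsZero (Hm n K))
    (hExt : ∀ j, i < j → j ≤ b →
      ∀ f : (singleFunctor C j).obj (Hm j K) ⟶ ((singleFunctor C i).obj (Hm i K))⟦(1 : ℤ)⟧, f = 0) :
    ∃ π : K ⟶ (singleFunctor C i).obj (Hm i K), IsIso ((homologyFunctor C i).map π) := by
  obtain ⟨A₁, B₁, f₁, g₁, δ₁, hT₁, hA₁, hB₁, isoA₁, isoB₁⟩ := exists_trunc_triangle K i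
  obtain ⟨A₂, B₂, f₂, g₂, δ₂, hT₂, hA₂, hB₂, isoA₂, isoB₂⟩ := exists_trunc_triangle B₁ (i + 1)
  have hA₂lo : ∀ n, n < i → IsZero (Hm n A₂) := fun n hn => by
    have := isoA₂ n (by lia)
    exact (hB₁ n hn).of_iso (asIso ((homologyFunctor C n).map f₂))
  have hA₂hi : ∀ n, i < n → IsZero (Hm n A₂) := fun n hn => hA₂ n (by lia)
  obtain ⟨e⟩ := exists_iso_single i hA₂lo hA₂hi
  have i1 := isoA₂ i (by lia)
  have i2 := isoB₁ i le_rfl
  let θ : Hm i A₂ ≅ Hm i K :=
    asIso ((homologyFunctor C i).map f₂) ≪≫ (asIso ((homologyFunctor C i).map g₁)).symm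
  let ε : A₂ ≅ (singleFunctor C i).obj (Hm i K) := e ≪≫ (singleFunctor C i).mapIso θ
  have hB₂hi : ∀ n, b < n → IsZero (Hm n B₂) := fun n hn => by
    by_cases hni : n < i + 1
    · exact hB₂ n hni
    · have := isoB₂ n (by lia)
      have := isoB₁ n (by lia)
      exact (hb n hn).of_iso ((asIso ((homologyFunctor C n).map g₂)).symm ≪≫
        (asIso ((homologyFunctor C n).map g₁)).symm)
  have hδ₂ : δ₂ = 0 := by
    refine hom_eq_zero_of_devissage (A₂⟦(1 : ℤ)⟧) (b - i).toNat B₂ (i + 1) b (by omega) hB₂ hB₂hi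
      (fun j hj1 hj2 φ => ?_) δ₂
    have j1 := isoB₂ j hj1
    have j2 := isoB₁ j (by lia)
    let κ : Hm j B₂ ≅ Hm j K := (asIso ((homologyFunctor C j).map g₂)).symm ≪≫
      (asIso ((homologyFunctor C j).map g₁)).symm
    have h0 := hExt j (by lia) hj2 ((singleFunctor C j).map κ.inv ≫ φ ≫ ε.hom⟦(1 : ℤ)⟧')
    have hκ : IsIso ((singleFunctor C j).map κ.inv) := inferInstance
    have hε : IsIso (ε.hom⟦(1 : ℤ)⟧') := inferInstance
    have h1 : φ ≫ ε.hom⟦(1 : ℤ)⟧' = 0 := (cancel_epi _).1 (h0.trans comp_zero.symm)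
    exact (cancel_mono (ε.hom⟦(1 : ℤ)⟧')).1 (h1.trans zero_comp.symm)
  obtain ⟨ee, he1, -⟩ : ∃ (e : B₁ ≅ A₂ ⊞ B₂), f₂ ≫ e.hom = biprod.inl ∧
      g₂ = e.hom ≫ biprod.snd := exists_iso_binaryBiproduct_of_distTriang _ hT₂ hδ₂
  let r : B₁ ⟶ A₂ := ee.hom ≫ biprod.fst
  have hr : f₂ ≫ r = 𝟙 A₂ := by
    rw [← Category.assoc, he1, biprod.inl_fst]
  refine ⟨g₁ ≫ r ≫ ε.hom, ?_⟩
  have hr' : IsIso ((homologyFunctor C i).map r) := by
    have h2 : (homologyFunctor C i).map f₂ ≫ (homologyFunctor C i).map r = 𝟙 _ := by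
      rw [← Functor.map_comp, hr, CategoryTheory.Functor.map_id]
    have : (homologyFunctor C i).map r = inv ((homologyFunctor C i).map f₂) :=
      (IsIso.eq_inv_of_hom_inv_id h2)
    rw [this]
    infer_instance
  rw [Functor.map_comp, Functor.map_comp]
  infer_instance

lemma isZero_Hm_single (Y : C) (i n : ℤ) (h : n ≠ i) :
    IsZero (Hm n ((singleFunctor C i).obj Y)) := by
  rcases lt_or_gt_of_ne h with h | h
  · exact isZero_of_isGE _ i n h
  · exact isZero_of_isLE _ i n h

/-- a map into a finite biproduct of shifted singles (in pairwise distinct degrees) whose components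
induce isomorphisms on the relevant cohomology objects is an isomorphism -/
theorem isIso_lift {ι : Type} [Fintype ι] [DecidableEq ι] (K : DerivedCategory C) (deg : ι → ℤ)
    (hdeg : Function.Injective deg) (Y : ι → C)
    [HasBiproduct (fun i => (singleFunctor C (deg i)).obj (Y i))]
    (π : ∀ i, K ⟶ (singleFunctor C (deg i)).obj (Y i))
    (hπ : ∀ i, IsIso ((homologyFunctor C (deg i)).map (π i)))
    (hK : ∀ n, (∀ i, deg i ≠ n) → IsZero (Hm n K)) :
    IsIso (biproduct.lift π) := by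
  rw [isIso_iff]
  intro n
  let f : ι → DerivedCategory C := fun i => (singleFunctor C (deg i)).obj (Y i)
  let F := homologyFunctor C n
  have htot : ∑ i, F.map (biproduct.π f i) ≫ F.map (biproduct.ι f i) = 𝟙 _ := by
    simp only [← Functor.map_comp, ← Functor.map_sum, biproduct.total,
      CategoryTheory.Functor.map_id]
  have hz : ∀ i, deg i ≠ n → F.map (biproduct.π f i) ≫ F.map (biproduct.ι f i) = 0 := fun i hi => by
    rw [(isZero_Hm_single (Y i) (deg i) n hi.symm).eq_of_src (F.map (biproduct.ι f i)) 0,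
      comp_zero]
  by_cases hn : ∃ i₀, deg i₀ = n
  · obtain ⟨i₀, rfl⟩ := hn
    have h1 : F.map (biproduct.π f i₀) ≫ F.map (biproduct.ι f i₀) = 𝟙 _ := by
      rw [← htot]
      refine (Finset.sum_eq_single i₀ (fun i _ hi => hz i (fun h => hi (hdeg h))) ?_).symm
      intro h
      exact absurd (Finset.mem_univ _) h
    have h2 : F.map (biproduct.ι f i₀) ≫ F.map (biproduct.π f i₀) = 𝟙 _ := by
      rw [← Functor.map_comp, biproduct.ι_π_self, CategoryTheory.Functor.map_id]
    have h3 : IsIso (F.map (biproduct.π f i₀)) := ⟨F.map (biproduct.ι f i₀), h1, h2⟩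
    have h4 : F.map (biproduct.lift π) ≫ F.map (biproduct.π f i₀) = F.map (π i₀) := by
      rw [← Functor.map_comp, biproduct.lift_π]
    have h5 := hπ i₀
    have h6 : IsIso (F.map (biproduct.lift π) ≫ F.map (biproduct.π f i₀)) := by
      rw [h4]
      exact h5
    exact IsIso.of_isIso_comp_right _ (F.map (biproduct.π f i₀))
  · push Not at hn
    have hsrc : IsZero (F.obj K) := hK n hn
    have htgt : IsZero (F.obj (⨁ f)) := by
      rw [IsZero.iff_id_eq_zero, ← htot]
      exact Finset.sum_eq_zero (fun i _ => hz i (hn i))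
    exact ⟨0, hsrc.eq_of_src _ _, htgt.eq_of_src _ _⟩

/-- S0973: splitting of a bounded object when the higher extensions between its cohomology
objects vanish -/
theorem nonempty_iso_biproduct (K : DerivedCategory C) (a b : ℤ) [K.IsGE a] [K.IsLE b]
    (hExt : ∀ (i j : ℤ) (p : ℕ), j < i → 2 ≤ p →
      ∀ f : (singleFunctor C 0).obj ((homologyFunctor C i).obj K) ⟶
        ((singleFunctor C 0).obj ((homologyFunctor C j).obj K))⟦(p : ℤ)⟧, f = 0)
    [HasBiproduct (fun i : Finset.Icc a b =>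
      (singleFunctor C (i : ℤ)).obj ((homologyFunctor C (i : ℤ)).obj K))] :
    Nonempty (K ≅ ⨁ (fun i : Finset.Icc a b =>
      (singleFunctor C (i : ℤ)).obj ((homologyFunctor C (i : ℤ)).obj K))) := by
  have hb : ∀ n, b < n → IsZero (Hm n K) := fun n hn => isZero_of_isLE K b n hn
  have ha : ∀ n, n < a → IsZero (Hm n K) := fun n hn => isZero_of_isGE K a n hn
  have hp : ∀ i₀ : ℤ, ∃ π : K ⟶ (singleFunctor C i₀).obj (Hm i₀ K),
      IsIso ((homologyFunctor C i₀).map π) := fun i₀ => by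
    refine exists_proj K i₀ b hb (fun j hj1 _ f => ?_)
    exact hom_single_eq_zero (Hm j K) (Hm i₀ K) i₀ j ((j - i₀ + 1).toNat : ℤ) (by omega)
      (hExt j i₀ (j - i₀ + 1).toNat hj1 (by omega)) f
  have := isIso_lift K (fun i : Finset.Icc a b => (i : ℤ)) Subtype.val_injective
    (fun i => Hm (i : ℤ) K) (fun i => (hp (i : ℤ)).choose) (fun i => (hp (i : ℤ)).choose_spec)
    (fun n hn => by
      by_cases h1 : n < a
      · exact ha n h1
      · by_cases h2 : b < n
        · exact hb n h2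
        · exact absurd rfl (hn ⟨n, Finset.mem_Icc.2 ⟨by lia, by lia⟩⟩))
  exact ⟨asIso (biproduct.lift (fun i : Finset.Icc a b => (hp (i : ℤ)).choose))⟩

end Groth.Agent.Helper3.DSplit
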