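import Mathlib
import Groth.Prelude.Def_DRing2
import Groth.Prelude.Def_Koszul
import Groth.Agent.Lib.Helper3.ExtCoc
import Groth.Agent.Lib.Helper5.TorAmp.Char
import Groth.Agent.Lib.Helper3.DSplit
import Groth.Agent.Lib.Helper8.Koszul6
import Groth.Agent.Lib.Helper8.Koszul5

/-!
# `Ext^i(A/J, M)` through the Koszul complex, for `J` generated by a weakly regular sequence
-/

set_option autoImplicit false
universe u
open CategoryTheory CategoryTheory.Limits DerivedCategory CochainComplex

attribute [local instance] HasDerivedCategory.standard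

namespace Groth.Agent.Helper3.ExtKos

variable {A : Type u} [CommRing A]

/-- the rank of the Koszul complex on `p` elements in degree `n` -/
def rk (p : ℕ) (n : ℤ) : ℕ := if n ≤ 0 then p.choose (-n).toNat else 0

lemma rk_succ (p : ℕ) (n : ℤ) : rk (p + 1) n = rk p (n + 1) + rk p n := by
  unfold rk
  by_cases h1 : n ≤ -1
  · have h2 : n ≤ 0 := by omega
    have h3 : n + 1 ≤ 0 := by omega
    simp only [if_pos h2, if_pos h3]
    obtain ⟨k, hk⟩ : ∃ k : ℕ, (-n).toNat = k + 1 := ⟨(-n).toNat - 1, by omega⟩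
    have hk' : (-(n + 1)).toNat = k := by omega
    rw [hk, hk', Nat.choose_succ_succ]
  · by_cases h2 : n = 0
    · subst h2
      simp
    · have h3 : ¬ n ≤ 0 := by omega
      have h4 : ¬ n + 1 ≤ 0 := by omega
      simp only [if_neg h3, if_neg h4]

lemma rk_neg (p i : ℕ) : rk p (-(i : ℤ)) = p.choose i := by
  unfold rk
  rw [if_pos (by omega)]
  congr 1
  omega

open Groth.Agent.Helper8.KoszulLib in
/-- the terms of a mapping cone -/
noncomputable def coneXEquiv {F G : CochainComplex (ModuleCat.{u} A) ℤ} (φ : F ⟶ G) (n : ℤ) :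
    (mappingCone φ).X n ≃ₗ[A] (F.X (n + 1) × G.X n) where
  toFun z := (fstE φ n z, sndE φ n z)
  map_add' z w := by simp
  map_smul' a z := by simp
  invFun p := inlE φ n p.1 + inrE φ n p.2
  left_inv z := (eq_inlE_add_inrE φ n z).symm
  right_inv p := by
    refine Prod.ext ?_ ?_
    · simp [fstE_inlE, fstE_inrE]
    · simp [sndE_inlE, sndE_inrE]

/-- the terms of the Koszul complex are finite free of the expected rank -/
theorem koszul_X (xs : List A) :
    ∀ n : ℤ, Nonempty ((Koszul.koszul A xs).X n ≃ₗ[A] (Fin (rk xs.length n) → A)) := by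
  induction xs with
  | nil =>
    intro n
    by_cases hn : n = 0
    · subst hn
      have h1 : rk ([] : List A).length 0 = 1 := by simp [rk]
      rw [h1]
      exact ⟨(HomologicalComplex.singleObjXSelf (ComplexShape.up ℤ) 0
        (ModuleCat.of A A)).toLinearEquiv ≪≫ₗ (LinearEquiv.funUnique (Fin 1) A A).symm⟩
    · have h1 : rk ([] : List A).length n = 0 := by
        unfold rk
        split_ifs with h
        · have : (-n).toNat ≠ 0 := by omega
          simp [Nat.choose_eq_zero_iff, Nat.pos_of_ne_zero this]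
        · rfl
      rw [h1]
      have hz : IsZero ((Koszul.koszul A ([] : List A)).X n) :=
        HomologicalComplex.isZero_single_obj_X _ _ _ _ hn
      haveI : Subsingleton ((Koszul.koszul A ([] : List A)).X n) :=
        ModuleCat.subsingleton_of_isZero hz
      exact ⟨LinearEquiv.ofSubsingleton _ _⟩
  | cons x xs ih =>
    intro n
    obtain ⟨e1⟩ := ih (n + 1)
    obtain ⟨e2⟩ := ih n
    have h1 : rk (x :: xs).length n = rk xs.length (n + 1) + rk xs.length n := by
      rw [List.length_cons, rk_succ]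
    rw [h1]
    refine ⟨coneXEquiv (x • 𝟙 (Koszul.koszul A xs)) n ≪≫ₗ (e1.prodCongr e2) ≪≫ₗ ?_⟩
    exact (LinearEquiv.sumArrowLequivProdArrow (Fin (rk xs.length (n + 1))) (Fin (rk xs.length n))
      A A).symm ≪≫ₗ LinearEquiv.funCongrLeft A A finSumFinEquiv.symm

/-- if `J` kills `M`, then all differentials of `Hom(K(xs), M)` vanish -/
theorem koszul_d_comp (M : ModuleCat.{u} A) (xs : List A)
    (hM : ∀ a ∈ xs, ∀ m : M, a • m = 0) :
    ∀ (n m : ℤ) (g : (Koszul.koszul A xs).X m ⟶ M), (Koszul.koszul A xs).d n m ≫ g = 0 := by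
  induction xs with
  | nil =>
    intro n m g
    have : (Koszul.koszul A ([] : List A)).d n m = 0 := HomologicalComplex.single_obj_d _ _ _ _ _
    rw [this, zero_comp]
  | cons x xs ih =>
    intro n m g
    have ih' := ih (fun a ha => hM a (List.mem_cons_of_mem x ha))
    have hx : (x • 𝟙 M : M ⟶ M) = 0 := by
      ext m
      exact hM x List.mem_cons_self m
    have hxg : ∀ {X : ModuleCat.{u} A} (h : X ⟶ M), x • h = 0 := by
      intro X h
      have : x • h = h ≫ (x • 𝟙 M) := by rw [Linear.comp_smul, Category.comp_id]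
      rw [this, hx, comp_zero]
    by_cases hnm : n + 1 = m
    · subst hnm
      change (mappingCone (x • 𝟙 (Koszul.koszul A xs))).d n (n + 1) ≫ g = 0
      apply mappingCone.ext_from _ (n + 1) n rfl
      · rw [comp_zero, ← Category.assoc, mappingCone.inl_v_d _ (n + 1) n (n + 2) (by omega) (by omega),
          Preadditive.sub_comp, Category.assoc, Category.assoc, ih']
        simp only [HomologicalComplex.smul_f_apply, HomologicalComplex.id_f, Linear.smul_comp,
          Category.id_comp, sub_zero]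
        exact hxg _
      · rw [comp_zero, ← Category.assoc, mappingCone.inr_f_d, Category.assoc, ih']
    · have : (Koszul.koszul A (x :: xs)).d n m = 0 :=
        (Koszul.koszul A (x :: xs)).shape _ _ hnm
      rw [this, zero_comp]

lemma koszul_isZero_pos (xs : List A) (n : ℤ) (hn : 0 < n) :
    IsZero ((Koszul.koszul A xs).X n) := by
  obtain ⟨e⟩ := koszul_X xs n
  have h0 : rk xs.length n = 0 := by
    unfold rk
    rw [if_neg (by omega)]
  rw [h0] at e
  have : Subsingleton ((Koszul.koszul A xs).X n) := e.toEquiv.subsingleton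
  exact ModuleCat.isZero_of_subsingleton _

lemma koszul_isKProjective (xs : List A) : (Koszul.koszul A xs).IsKProjective := by
  have : (Koszul.koszul A xs).IsStrictlyLE 0 :=
    Groth.Agent.Helper5.TorAmp.isStrictlyLE_of_vanishesAbove
      (fun i hi => koszul_isZero_pos xs i hi)
  have : ∀ n, Projective ((Koszul.koszul A xs).X n) := fun n => by
    obtain ⟨e⟩ := koszul_X xs n
    haveI : Module.Free A ((Koszul.koszul A xs).X n) := Module.Free.of_equiv e.symm
    haveI : Module.Projective A ((Koszul.koszul A xs).X n) := Module.Projective.of_free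
    exact ModuleCat.projective_of_categoryTheory_projective _
  exact CochainComplex.isKProjective_of_projective (Koszul.koszul A xs) 0

/-- the Koszul complex of a weakly regular sequence resolves `A/J` -/
theorem koszulQ_iso (xs : List A) (hreg : RingTheory.Sequence.IsWeaklyRegular A xs) :
    Nonempty (Q.obj (Koszul.koszul A xs) ≅
      (DerivedCategory.singleFunctor (ModuleCat.{u} A) 0).obj
        (ModuleCat.of A (A ⧸ Ideal.ofList xs))) := by
  obtain ⟨hz, ⟨e0⟩⟩ := Groth.Agent.Helper8.KoszulLib.koszul_regular xs hreg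
  have hH : ∀ i : ℤ, (homologyFunctor (ModuleCat.{u} A) i).obj (Q.obj (Koszul.koszul A xs)) ≅
      (Koszul.koszul A xs).homology i := fun i =>
    (homologyFunctorFactors (ModuleCat.{u} A) i).app (Koszul.koszul A xs)
  obtain ⟨e⟩ := Groth.Agent.Helper3.DSplit.exists_iso_single
    (B := Q.obj (Koszul.koszul A xs)) 0
    (fun i hi => (hz i (by omega)).of_iso (hH i))
    (fun i hi => (hz i (by omega)).of_iso (hH i))
  exact ⟨e ≪≫ (DerivedCategory.singleFunctor (ModuleCat.{u} A) 0).mapIso (hH 0 ≪≫ e0)⟩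

/-- precomposition with an isomorphism, as a linear equivalence -/
noncomputable def precompEquiv {X Y : DerivedCategory (ModuleCat.{u} A)} (φ : X ≅ Y)
    (T : DerivedCategory (ModuleCat.{u} A)) : (Y ⟶ T) ≃ₗ[A] (X ⟶ T) where
  toFun f := φ.hom ≫ f
  map_add' := by intros; simp
  map_smul' := by intros; simp [Linear.comp_smul]
  invFun g := φ.inv ≫ g
  left_inv f := by simp
  right_inv g := by simp

theorem main_S5666 (xs : List A) (hreg : RingTheory.Sequence.IsWeaklyRegular A xs)
    (M : Type u) [AddCommGroup M] [Module A M]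
    (hJM : Ideal.ofList xs • (⊤ : Submodule A M) = ⊥) (i : ℕ) :
    Nonempty (Abelian.Ext (ModuleCat.of A (A ⧸ Ideal.ofList xs)) (ModuleCat.of A M) i ≃ₗ[A]
      (Fin (xs.length.choose i) → M)) := by
  have hM : ∀ a ∈ xs, ∀ m : (ModuleCat.of A M), a • m = 0 := by
    intro a ha m
    have h1 : a ∈ Ideal.ofList xs := Ideal.subset_span ha
    have h2 : a • m ∈ Ideal.ofList xs • (⊤ : Submodule A M) :=
      Submodule.smul_mem_smul h1 Submodule.mem_top
    rw [hJM] at h2
    exact (Submodule.mem_bot A).1 h2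
  let K := Koszul.koszul A xs
  haveI : K.IsKProjective := koszul_isKProjective xs
  have hd := koszul_d_comp (ModuleCat.of A M) xs hM
  obtain ⟨φ⟩ := koszulQ_iso xs hreg
  have hqp : (-(i : ℤ)) + (i : ℤ) = 0 := by omega
  -- Θ is bijective
  have hZ : Groth.Agent.Helper3.ExtCoc.Z K (-(i : ℤ)) (ModuleCat.of A M) = ⊤ := by
    rw [eq_top_iff]
    intro f _
    rw [Groth.Agent.Helper3.ExtCoc.mem_Z]
    exact hd _ _ f
  have hbij : Function.Bijective
      (Groth.Agent.Helper3.ExtCoc.Θl (E := K) (ModuleCat.of A M) (i : ℤ) hqp) := by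
    constructor
    · rw [← LinearMap.ker_eq_bot, eq_bot_iff]
      intro f hf
      rw [LinearMap.mem_ker] at hf
      obtain ⟨g, hg⟩ := (Groth.Agent.Helper3.ExtCoc.Θ_eq_zero_iff (i : ℤ) hqp f).1 hf
      rw [hd] at hg
      rw [Submodule.mem_bot]
      exact Subtype.ext hg.symm
    · intro x
      exact Groth.Agent.Helper3.ExtCoc.Θ_surjective (i : ℤ) hqp x
  obtain ⟨eX⟩ := koszul_X xs (-(i : ℤ))
  rw [rk_neg] at eX
  let e1 : Abelian.Ext (ModuleCat.of A (A ⧸ Ideal.ofList xs)) (ModuleCat.of A M) i ≃ₗ[A]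
      ((DerivedCategory.singleFunctor (ModuleCat.{u} A) 0).obj
          (ModuleCat.of A (A ⧸ Ideal.ofList xs)) ⟶
        ((DerivedCategory.singleFunctor (ModuleCat.{u} A) 0).obj (ModuleCat.of A M))⟦(i : ℤ)⟧) :=
    Abelian.Ext.homLinearEquiv
  let e2 := precompEquiv φ
    (((DerivedCategory.singleFunctor (ModuleCat.{u} A) 0).obj (ModuleCat.of A M))⟦(i : ℤ)⟧)
  let e3 := (LinearEquiv.ofBijective _ hbij).symm
  let e4 : Groth.Agent.Helper3.ExtCoc.Z K (-(i : ℤ)) (ModuleCat.of A M) ≃ₗ[A]
      (K.X (-(i : ℤ)) ⟶ ModuleCat.of A M) :=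
    LinearEquiv.ofEq _ _ hZ ≪≫ₗ Submodule.topEquiv
  let e5 : (K.X (-(i : ℤ)) ⟶ ModuleCat.of A M) ≃ₗ[A] (K.X (-(i : ℤ)) →ₗ[A] M) :=
    ModuleCat.homLinearEquiv
  let e6 : (K.X (-(i : ℤ)) →ₗ[A] M) ≃ₗ[A] ((Fin (xs.length.choose i) → A) →ₗ[A] M) :=
    LinearEquiv.congrLeft M A eX
  let e7 : ((Fin (xs.length.choose i) → A) →ₗ[A] M) ≃ₗ[A] (Fin (xs.length.choose i) → M) :=
    (Module.piEquiv (Fin (xs.length.choose i)) A M).symm
  exact ⟨e1 ≪≫ₗ e2 ≪≫ₗ e3 ≪≫ₗ e4 ≪≫ₗ e5 ≪≫ₗ e6 ≪≫ₗ e7⟩

end Groth.Agent.Helper3.ExtKos
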