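import Mathlib
import Groth.Prelude.Def_LCI2
import Groth.Prelude.Def_MoreMor
import Groth.Agent.Lib.Helper3.ExtKos
import Groth.Agent.Lib.Helper5.TorAmp.PerfHom
import Groth.Agent.Lib.Helper5.TorAmp.BaseChange

/-! Local complete intersection ring maps are perfect (S7070). -/

set_option autoImplicit false
universe u
open CategoryTheory CategoryTheory.Limits TensorProduct DerivedCategory

attribute [local instance] HasDerivedCategory.standard

namespace Groth.Agent.Helper3.PerfHom
open Groth.Agent.Helper5.FlatBC ZeroObject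

section

variable {A : Type u} [CommRing A]

theorem isPerfect_of_iso {K L : Dual.D A} (e : K ≅ L) (h : DRing.IsPerfect A K) :
    DRing.IsPerfect A L := by
  obtain ⟨E, a, b, h1, h2, ⟨e'⟩⟩ := h
  exact ⟨E, a, b, h1, h2, ⟨e' ≪≫ e⟩⟩

theorem isPerfectModule_of_equiv {M N : Type u} [AddCommGroup M] [Module A M] [AddCommGroup N]
    [Module A N] (e : M ≃ₗ[A] N) (h : DRing.IsPerfectModule A M) : DRing.IsPerfectModule A N :=
  isPerfect_of_iso ((DerivedCategory.singleFunctor (ModuleCat.{u} A) 0).mapIso e.toModuleIso) h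

theorem isPerfectModule_of_subsingleton (M : Type u) [AddCommGroup M] [Module A M]
    [Subsingleton M] : DRing.IsPerfectModule A M := by
  have hz : ∀ i, IsZero ((0 : DRing.Cx A).X i) := fun i =>
    (HomologicalComplex.eval (ModuleCat.{u} A) (ComplexShape.up ℤ) i).map_isZero
      (Limits.isZero_zero _)
  refine ⟨(0 : DRing.Cx A), 0, 0, fun i _ => hz i, fun i => ?_, ⟨?_⟩⟩
  · haveI : Subsingleton ((0 : DRing.Cx A).X i) := ModuleCat.subsingleton_of_isZero (hz i)
    exact ⟨inferInstance, inferInstance⟩
  · have h1 : IsZero (DRing.toD (0 : DRing.Cx A)) := Functor.map_isZero _ (Limits.isZero_zero _)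
    have h2 : IsZero (Dual.inD A M) :=
      Functor.map_isZero _ (ModuleCat.isZero_of_subsingleton _)
    exact h1.iso h2

/-- the Koszul complex of a Koszul-regular sequence resolves `A/J` -/
theorem koszulQ_iso_of_koszulRegular (xs : List A) (hreg : LCI.IsKoszulRegularSeq A xs) :
    Nonempty (Q.obj (Koszul.koszul A xs) ≅
      (DerivedCategory.singleFunctor (ModuleCat.{u} A) 0).obj
        (ModuleCat.of A (A ⧸ Ideal.ofList xs))) := by
  have hz : ∀ i : ℤ, i ≠ 0 → IsZero ((Koszul.koszul A xs).homology i) := hreg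
  have e0 : Nonempty ((Koszul.koszul A xs).homology 0 ≅ ModuleCat.of A (A ⧸ Ideal.ofList xs)) := by
    rw [Groth.Agent.Helper8.KoszulLib.koszul_eq_koszulCx]
    obtain ⟨e⟩ := Groth.Agent.Helper8.KoszulLib.nonempty_homology_zero_equiv A xs
    have h : (Ideal.ofList xs • (⊤ : Submodule A A)) = Ideal.ofList xs := by
      rw [smul_eq_mul, Ideal.mul_top]
    exact ⟨(e.trans (Submodule.quotEquivOfEq _ _ h)).toModuleIso⟩
  obtain ⟨e0⟩ := e0
  have hH : ∀ i : ℤ, (homologyFunctor (ModuleCat.{u} A) i).obj (Q.obj (Koszul.koszul A xs)) ≅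
      (Koszul.koszul A xs).homology i := fun i =>
    (homologyFunctorFactors (ModuleCat.{u} A) i).app (Koszul.koszul A xs)
  obtain ⟨e⟩ := Groth.Agent.Helper3.DSplit.exists_iso_single
    (B := Q.obj (Koszul.koszul A xs)) 0
    (fun i hi => (hz i (by omega)).of_iso (hH i))
    (fun i hi => (hz i (by omega)).of_iso (hH i))
  exact ⟨e ≪≫ (DerivedCategory.singleFunctor (ModuleCat.{u} A) 0).mapIso (hH 0 ≪≫ e0)⟩

theorem perfect_of_koszulRegular (xs : List A) (hreg : LCI.IsKoszulRegularSeq A xs) :
    DRing.IsPerfectModule A (A ⧸ Ideal.ofList xs) := by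
  obtain ⟨e⟩ := koszulQ_iso_of_koszulRegular xs hreg
  refine ⟨Koszul.koszul A xs, -(xs.length : ℤ), 0, fun i hi => ?_, fun i => ?_, ⟨e⟩⟩
  · rcases hi with hi | hi
    · obtain ⟨e'⟩ := Groth.Agent.Helper3.ExtKos.koszul_X xs i
      have h0 : Groth.Agent.Helper3.ExtKos.rk xs.length i = 0 := by
        unfold Groth.Agent.Helper3.ExtKos.rk
        rw [if_pos (by omega)]
        apply Nat.choose_eq_zero_of_lt
        omega
      rw [h0] at e'
      have : Subsingleton ((Koszul.koszul A xs).X i) := e'.toEquiv.subsingleton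
      exact ModuleCat.isZero_of_subsingleton _
    · exact Groth.Agent.Helper3.ExtKos.koszul_isZero_pos xs i hi
  · obtain ⟨e'⟩ := Groth.Agent.Helper3.ExtKos.koszul_X xs i
    exact ⟨Module.Finite.equiv e'.symm,
      haveI : Module.Free A ((Koszul.koszul A xs).X i) := Module.Free.of_equiv e'.symm
      Module.Projective.of_free⟩

/-- perfectness of a module is local -/
theorem isPerfectModule_of_cover {r : ℕ} (f : Fin r → A) (hf : Ideal.span (Set.range f) = ⊤)
    (M : Type u) [AddCommGroup M] [Module A M]
    (h : ∀ i, DRing.IsPerfectModule (Localization.Away (f i)) (Localization.Away (f i) ⊗[A] M)) :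
    DRing.IsPerfectModule A M := by
  have h1 := s6960 f hf
    ((HomologicalComplex.single (ModuleCat.{u} A) (ComplexShape.up ℤ) 0).obj (ModuleCat.of A M))
    (fun i => ?_)
  · exact isPerfect_of_iso ((singleFunctorIsoCompQ (ModuleCat.{u} A) 0).app _).symm h1
  · refine isPerfect_of_iso ?_ (h i)
    exact (DerivedCategory.singleFunctor (ModuleCat.{u} (Localization.Away (f i))) 0).mapIso
      (eqvT (Localization.Away (f i)) M).toModuleIso ≪≫
      (singleIso (Localization.Away (f i)) (ModuleCat.of A M)).symm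

/-- the quotient by a Koszul-regular ideal is a perfect module -/
theorem perfect_of_koszulRegularIdeal (I : Ideal A) (hI : LCI.IsKoszulRegularIdeal I) :
    DRing.IsPerfectModule A (A ⧸ I) := by
  classical
  -- the local statement
  have hloc : ∀ 𝔭 : PrimeSpectrum A, ∃ g : A, g ∉ 𝔭.asIdeal ∧
      DRing.IsPerfectModule (Localization.Away g) (Localization.Away g ⊗[A] (A ⧸ I)) := by
    intro 𝔭
    by_cases h𝔭 : I ≤ 𝔭.asIdeal
    · obtain ⟨g, hg, l, hl, hIl⟩ := hI 𝔭 h𝔭
      refine ⟨g, hg, ?_⟩
      have h1 := perfect_of_koszulRegular l hl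
      have h2 : Ideal.ofList l = I.map (algebraMap A (Localization.Away g)) := hIl.symm
      rw [h2] at h1
      exact isPerfectModule_of_equiv
        (Algebra.TensorProduct.quotIdealMapEquivTensorQuot (Localization.Away g) I).toLinearEquiv h1
    · obtain ⟨g, hgI, hg⟩ := Set.not_subset.1 h𝔭
      refine ⟨g, hg, ?_⟩
      haveI : Subsingleton (Localization.Away g ⊗[A] (A ⧸ I)) := by
        have hu : IsUnit (algebraMap A (Localization.Away g) g) :=
          IsLocalization.Away.algebraMap_isUnit g
        have h0 : ∀ z : Localization.Away g ⊗[A] (A ⧸ I), z = 0 := by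
          intro z
          have h3 : (algebraMap A (Localization.Away g) g) • z = 0 := by
            rw [algebraMap_smul]
            induction z using TensorProduct.induction_on with
            | zero => simp
            | tmul x y =>
              obtain ⟨y, rfl⟩ := Ideal.Quotient.mk_surjective y
              rw [TensorProduct.smul_tmul', TensorProduct.smul_tmul, ← Ideal.Quotient.mk_eq_mk,
                ← Submodule.Quotient.mk_smul]
              have : (Submodule.Quotient.mk (g • y) : A ⧸ I) = 0 := by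
                rw [Submodule.Quotient.mk_eq_zero]
                exact I.mul_mem_right _ hgI
              rw [this, TensorProduct.tmul_zero]
            | add x y hx hy => rw [smul_add, hx, hy, add_zero]
          obtain ⟨u, hu'⟩ := hu
          rw [← hu'] at h3
          have := congrArg (fun w => (↑u⁻¹ : Localization.Away g) • w) h3
          simpa [smul_smul] using this
        exact ⟨fun a b => (h0 a).trans (h0 b).symm⟩
      exact isPerfectModule_of_subsingleton _
  choose g hg hgP using hloc
  have htop : Ideal.span (Set.range g) = ⊤ := by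
    by_contra hne
    obtain ⟨m, hm, hle⟩ := Ideal.exists_le_maximal _ hne
    exact hg ⟨m, hm.isPrime⟩ (hle (Ideal.subset_span ⟨_, rfl⟩))
  obtain ⟨s, hs, hs'⟩ := (Ideal.span_eq_top_iff_finite _).1 htop
  let f : Fin s.card → A := fun i => (s.equivFin.symm i : A)
  have hrange : Set.range f = (s : Set A) := by
    ext x
    constructor
    · rintro ⟨i, rfl⟩
      exact (s.equivFin.symm i).2
    · intro hx
      exact ⟨s.equivFin ⟨x, hx⟩, by simp [f]⟩
  refine isPerfectModule_of_cover f (by rw [hrange]; exact hs') _ (fun i => ?_)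
  obtain ⟨𝔭, h𝔭⟩ := hs (s.equivFin.symm i).2
  have : f i = g 𝔭 := h𝔭.symm
  rw [this]
  exact hgP 𝔭

end

/-- S7070 -/
theorem S7070_main (A B : Type u) [CommRing A] [CommRing B] [Algebra A B]
    (h : LCI.IsLCI A B) : MoreMor.IsPerfectHom A B := by
  obtain ⟨-, n, φ, hφ, hI⟩ := h
  rw [Groth.Agent.Helper5.PerfHom.s7066]
  refine ⟨n, φ, hφ, ?_⟩
  letI := φ.toRingHom.toAlgebra
  have h1 := perfect_of_koszulRegularIdeal _ hI
  let e : (MvPolynomial (Fin n) A ⧸ RingHom.ker φ.toRingHom) ≃ₗ[MvPolynomial (Fin n) A] B :=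
    (Ideal.quotientKerAlgEquivOfSurjective (R₁ := MvPolynomial (Fin n) A)
      (f := Algebra.ofId (MvPolynomial (Fin n) A) B) hφ).toLinearEquiv
  exact isPerfectModule_of_equiv e h1

end Groth.Agent.Helper3.PerfHom
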