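import Mathlib
import Groth.Prelude.Def_MoreMor
import Groth.Agent.Lib.Helper3.PCLoc3
import Groth.Agent.Lib.Helper3.PerfHom6
import Groth.Agent.Lib.Helper5.TorAmp.TorRes

/-! Perfect ring maps: composition, flat base change of finite tor dimension, presentations. -/

set_option autoImplicit false
universe u
open CategoryTheory CategoryTheory.Limits TensorProduct DerivedCategory

attribute [local instance] HasDerivedCategory.standard

namespace Groth.Agent.Helper3.PCLoc
open Groth.Agent.Helper5.PCHom Groth.Agent.Helper5.PCRes Groth.Agent.Helper3.PerfHom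
open Groth.Agent.Helper5.TorAmp Groth.Agent.Helper5.FlatBC Groth.Agent.Helper5.PerfHom

section ftd

/-- flat base change of finite tor dimension -/
theorem ftd_baseChange {R R' : Type u} [CommRing R] [CommRing R'] [Algebra R R']
    [Module.Flat R R'] (M : Type u) [AddCommGroup M] [Module R M] (M' : Type u) [AddCommGroup M']
    [Module R' M'] (e : R' ⊗[R] M ≃ₗ[R'] M') (h : DRing.HasFiniteTorDim R M) :
    DRing.HasFiniteTorDim R' M' := by
  rw [finTorDim_iff] at h ⊢
  obtain ⟨a, b, hab⟩ := h
  refine ⟨a, b, ?_⟩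
  have h1 : DRing.HasTorAmplitudeIn R a b (DRing.toD
      ((HomologicalComplex.single (ModuleCat.{u} R) (ComplexShape.up ℤ) 0).obj (ModuleCat.of R M))) :=
    hasTorAmplitudeIn_of_iso ((singleFunctorIsoCompQ (ModuleCat.{u} R) 0).app _) hab
  have h2 := torAmp_baseChange R' _ a b h1
  exact hasTorAmplitudeIn_of_iso (singleIso R' (ModuleCat.of R M) ≪≫
    (DerivedCategory.singleFunctor (ModuleCat.{u} R') 0).mapIso
      ((eqvT R' M).symm ≪≫ₗ e).toModuleIso) h2

/-- the restricted module structure agrees with the given one -/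
noncomputable def restrictEquiv (R S : Type u) [CommRing R] [CommRing S] [Algebra R S]
    (M : Type u) [AddCommGroup M] [Module S M] [Module R M] [IsScalarTower R S M] :
    ↑((ModuleCat.restrictScalars.{u} (algebraMap R S)).obj (ModuleCat.of S M)) ≃ₗ[R] M :=
  AddEquiv.toLinearEquiv
    (M := ↑((ModuleCat.restrictScalars.{u} (algebraMap R S)).obj (ModuleCat.of S M))) (M₂ := M)
    (by rfl)
    (fun a x => by
      show algebraMap R S a • (show M from x) = a • (show M from x)
      rw [algebraMap_smul])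

theorem ftd_comp {R S T : Type u} [CommRing R] [CommRing S] [CommRing T] [Algebra R S]
    [Algebra S T] [Algebra R T] [IsScalarTower R S T] (h1 : DRing.HasFiniteTorDim R S)
    (h2 : DRing.HasFiniteTorDim S T) : DRing.HasFiniteTorDim R T := by
  obtain ⟨d, hd⟩ := h1
  have hB : DRing.HasTorAmplitudeIn R (-(d : ℤ)) 0 (Dual.inD R S) := ((s6946 S d).1).1 hd
  rw [finTorDim_iff] at h2 ⊢
  obtain ⟨a, b, hab⟩ := h2
  have h3 := Groth.Agent.Helper5.TorRes.s6947 d hB _ a b hab
  refine ⟨a - d, b, hasTorAmplitudeIn_of_iso ?_ h3⟩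
  exact restrictDSingle (algebraMap R S) (ModuleCat.of S T) ≪≫
    (DerivedCategory.singleFunctor (ModuleCat.{u} R) 0).mapIso (restrictEquiv R S T).toModuleIso

end ftd

section pres

variable {A B : Type u} [CommRing A] [CommRing B] [Algebra A B]

theorem perfectHom_iff_of_presentation {n : ℕ} (φ : MvPolynomial (Fin n) A →ₐ[A] B)
    (hφ : Function.Surjective φ) :
    MoreMor.IsPerfectHom A B ↔
      (letI := φ.toRingHom.toAlgebra
       DRing.IsPerfectModule (MvPolynomial (Fin n) A) B) := by
  constructor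
  · rintro ⟨hpc, hfin⟩
    letI := φ.toRingHom.toAlgebra
    have hpc' : DRing.IsPseudoCoherentModule' (MvPolynomial (Fin n) A) B :=
      (pcModule'_toAlgebra_iff φ).2 ((pcHom_iff_of_presentation φ hφ).1 hpc)
    obtain ⟨d, hd⟩ := hfin
    have h1 : DRing.HasTorAmplitudeIn A (-(d : ℤ)) 0 (Dual.inD A B) := ((s6946 B d).1).1 hd
    have h2 := Groth.Agent.Helper5.PolyTor.torAmp_mv n A d
      (ModuleCat.of (MvPolynomial (Fin n) A) B)
      (hasTorAmplitudeIn_of_iso (resIso φ).symm h1)
    exact (s6954 _).2 ⟨hpc', _, _, h2⟩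
  · intro h
    exact (s7066 A B).2 ⟨n, φ, hφ, h⟩

theorem perfectHom_comp {C : Type u} [CommRing C] [Algebra B C] [Algebra A C] [IsScalarTower A B C]
    (h1 : MoreMor.IsPerfectHom A B) (h2 : MoreMor.IsPerfectHom B C) : MoreMor.IsPerfectHom A C :=
  ⟨pcHom_comp (A := B) h1.1 h2.1, ftd_comp (S := B) h1.2 h2.2⟩

end pres

end Groth.Agent.Helper3.PCLoc
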