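import Mathlib
import Groth.Prelude.Def_MoreMor
import Groth.Agent.Lib.Helper3.PerfLoc1

/-! Perfect ring maps: locality on the target. -/

set_option autoImplicit false
universe u
open CategoryTheory CategoryTheory.Limits TensorProduct DerivedCategory

attribute [local instance] HasDerivedCategory.standard

namespace Groth.Agent.Helper3.PCLoc
open Groth.Agent.Helper5.PCHom Groth.Agent.Helper5.PCRes Groth.Agent.Helper3.PerfHom
open Groth.Agent.Helper5.TorAmp Groth.Agent.Helper5.FlatBC Groth.Agent.Helper5.PerfHom

theorem ftd_of_equiv {R : Type u} [CommRing R] {M N : Type u} [AddCommGroup M] [Module R M]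
    [AddCommGroup N] [Module R N] (e : M ≃ₗ[R] N) (h : DRing.HasFiniteTorDim R M) :
    DRing.HasFiniteTorDim R N := by
  rw [finTorDim_iff] at h ⊢
  obtain ⟨a, b, hab⟩ := h
  exact ⟨a, b, hasTorAmplitudeIn_of_iso
    ((DerivedCategory.singleFunctor (ModuleCat.{u} R) 0).mapIso e.toModuleIso) hab⟩

/-- finite tor dimension over the base gives finite tor dimension over a polynomial ring -/
theorem ftd_mvPolynomial {R : Type u} [CommRing R] {n : ℕ} (M : Type u) [AddCommGroup M]
    [Module R M] [Module (MvPolynomial (Fin n) R) M] [IsScalarTower R (MvPolynomial (Fin n) R) M]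
    (h : DRing.HasFiniteTorDim R M) : DRing.HasFiniteTorDim (MvPolynomial (Fin n) R) M := by
  obtain ⟨d, hd⟩ := h
  have h1 : DRing.HasTorAmplitudeIn R (-(d : ℤ)) 0 (Dual.inD R M) := ((s6946 M d).1).1 hd
  let e : ↑((ModuleCat.restrictScalars.{u} (MvPolynomial.C : R →+* MvPolynomial (Fin n) R)).obj
      (ModuleCat.of (MvPolynomial (Fin n) R) M)) ≃ₗ[R] M :=
    AddEquiv.toLinearEquiv
      (M := ↑((ModuleCat.restrictScalars.{u} (MvPolynomial.C : R →+* MvPolynomial (Fin n) R)).obj
        (ModuleCat.of (MvPolynomial (Fin n) R) M))) (M₂ := M) (by rfl)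
      (fun a x => by
        show (MvPolynomial.C a : MvPolynomial (Fin n) R) • (show M from x) = a • (show M from x)
        rw [← MvPolynomial.algebraMap_eq, algebraMap_smul])
  have h2 := Groth.Agent.Helper5.PolyTor.torAmp_mv n R d
    (ModuleCat.of (MvPolynomial (Fin n) R) M)
    (hasTorAmplitudeIn_of_iso
      ((DerivedCategory.singleFunctor (ModuleCat.{u} R) 0).mapIso e.toModuleIso).symm h1)
  exact (finTorDim_iff _).2 ⟨_, _, h2⟩

section away

variable {R : Type u} [CommRing R] {n : ℕ} {S : Type u} [CommRing S] [Algebra R S]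
  [Algebra (MvPolynomial (Fin n) R) S] [IsScalarTower R (MvPolynomial (Fin n) R) S]
  (p : MvPolynomial (Fin n) R) (Pp Sr : Type u) [CommRing Pp] [CommRing Sr]
  [Algebra (MvPolynomial (Fin n) R) Pp] [Algebra S Sr] [Algebra (MvPolynomial (Fin n) R) Sr]
  [Algebra Pp Sr] [Algebra R Sr] [Algebra R Pp]
  [IsScalarTower (MvPolynomial (Fin n) R) Pp Sr]
  [IsScalarTower R (MvPolynomial (Fin n) R) Sr] [IsScalarTower R (MvPolynomial (Fin n) R) Pp]
  [IsScalarTower R Pp Sr] [IsLocalization.Away p Pp]

include p in
theorem isPerfectModule_away (hsurj : Function.Surjective (algebraMap Pp Sr))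
    (h : MoreMor.IsPerfectHom R Sr) : DRing.IsPerfectModule Pp Sr := by
  have hc1 : MoreMor.IsPseudoCoherentHom R Pp :=
    pcHom_comp (A := MvPolynomial (Fin n) R) (pcHom_mvPolynomial n) (pcHom_of_away p)
  have hc2 : MoreMor.IsPseudoCoherentHom Pp Sr := pcHom_cancel (R := R) hc1 h.1
  have hpc : DRing.IsPseudoCoherentModule' Pp Sr :=
    (allPC_iff_pcModule' Sr).1 ((pcHom_surjective_iff hsurj).1 hc2)
  have h1 : DRing.HasFiniteTorDim (MvPolynomial (Fin n) R) Sr := ftd_mvPolynomial Sr h.2
  haveI : Module.Flat (MvPolynomial (Fin n) R) Pp := IsLocalization.flat Pp (Submonoid.powers p)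
  haveI := isLocalizedModule_id (Submonoid.powers p) Sr Pp
  let e : Pp ⊗[MvPolynomial (Fin n) R] Sr ≃ₗ[Pp] Sr :=
    (IsLocalizedModule.isBaseChange (Submonoid.powers p) Pp
      (LinearMap.id : Sr →ₗ[MvPolynomial (Fin n) R] Sr)).equiv
  have h2 : DRing.HasFiniteTorDim Pp Sr := ftd_baseChange Sr Sr e h1
  exact (s6954 _).2 ⟨hpc, (finTorDim_iff _).1 h2⟩

end away

section awaytensor

variable {R : Type u} [CommRing R] {n : ℕ} {S : Type u} [CommRing S] [Algebra R S]
  [Algebra (MvPolynomial (Fin n) R) S] [IsScalarTower R (MvPolynomial (Fin n) R) S]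

theorem isPerfectModule_awayTensor
    (hsurj : Function.Surjective (algebraMap (MvPolynomial (Fin n) R) S))
    (p : MvPolynomial (Fin n) R)
    (h : MoreMor.IsPerfectHom R (Localization.Away (algebraMap (MvPolynomial (Fin n) R) S p))) :
    DRing.IsPerfectModule (Localization.Away p)
      (Localization.Away p ⊗[MvPolynomial (Fin n) R] S) := by
  let γ : Localization.Away p →+* Localization.Away (algebraMap (MvPolynomial (Fin n) R) S p) :=
    Localization.awayMap (algebraMap (MvPolynomial (Fin n) R) S) p
  letI : Algebra (Localization.Away p)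
      (Localization.Away (algebraMap (MvPolynomial (Fin n) R) S p)) := γ.toAlgebra
  have hγ : ∀ x, γ (algebraMap (MvPolynomial (Fin n) R) (Localization.Away p) x) =
      algebraMap S (Localization.Away (algebraMap (MvPolynomial (Fin n) R) S p))
        (algebraMap (MvPolynomial (Fin n) R) S x) := fun x => by
    simp [γ, IsLocalization.Away.map]
  haveI : IsScalarTower (MvPolynomial (Fin n) R) (Localization.Away p)
      (Localization.Away (algebraMap (MvPolynomial (Fin n) R) S p)) :=
    IsScalarTower.of_algebraMap_eq (fun x => by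
      show algebraMap (MvPolynomial (Fin n) R)
        (Localization.Away (algebraMap (MvPolynomial (Fin n) R) S p)) x =
        γ (algebraMap (MvPolynomial (Fin n) R) (Localization.Away p) x)
      rw [hγ, ← IsScalarTower.algebraMap_apply])
  haveI : IsScalarTower R (Localization.Away p)
      (Localization.Away (algebraMap (MvPolynomial (Fin n) R) S p)) :=
    IsScalarTower.of_algebraMap_eq (fun x => by
      show algebraMap R (Localization.Away (algebraMap (MvPolynomial (Fin n) R) S p)) x =
        γ (algebraMap R (Localization.Away p) x)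
      rw [IsScalarTower.algebraMap_apply R (MvPolynomial (Fin n) R) (Localization.Away p), hγ,
        ← IsScalarTower.algebraMap_apply, ← IsScalarTower.algebraMap_apply])
  have hsurj' : Function.Surjective (algebraMap (Localization.Away p)
      (Localization.Away (algebraMap (MvPolynomial (Fin n) R) S p))) := by
    show Function.Surjective γ
    apply Localization.awayMap_surjective_iff.2
    intro a
    obtain ⟨b, rfl⟩ := hsurj a
    exact ⟨b, 0, by simp⟩
  have h1 := isPerfectModule_away p (Localization.Away p)
    (Localization.Away (algebraMap (MvPolynomial (Fin n) R) S p)) hsurj' h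
  exact isPerfectModule_of_equiv (awayTensorEquiv p (Localization.Away p)
    (Localization.Away (algebraMap (MvPolynomial (Fin n) R) S p))).symm h1

end awaytensor

section target

variable {R S : Type u} [CommRing R] [CommRing S] [Algebra R S]

/-- perfectness of a ring map is local on the target -/
theorem perfectHom_of_span_target (s : Finset S) (hs : Ideal.span (s : Set S) = ⊤)
    (h : ∀ r ∈ s, MoreMor.IsPerfectHom R (Localization.Away r)) :
    MoreMor.IsPerfectHom R S := by
  classical
  haveI : Algebra.FiniteType R S :=
    Algebra.FiniteType.of_span_eq_top_target s hs (fun r hr => finiteType_of_pcHom (h r hr).1)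
  obtain ⟨n, α, hα⟩ := Algebra.FiniteType.iff_quotient_mvPolynomial''.1
    (inferInstance : Algebra.FiniteType R S)
  rw [perfectHom_iff_of_presentation α hα]
  letI : Algebra (MvPolynomial (Fin n) R) S := α.toRingHom.toAlgebra
  haveI : IsScalarTower R (MvPolynomial (Fin n) R) S :=
    IsScalarTower.of_algebraMap_eq (fun a => (α.commutes a).symm)
  have hαs : Function.Surjective (algebraMap (MvPolynomial (Fin n) R) S) := hα
  -- lifts of the elements of `s`
  choose p hp using fun r : s => hα r
  -- the ideal generated by the lifts and the kernel is the unit ideal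
  have h1 : Ideal.span (Set.range p) ⊔ RingHom.ker α.toRingHom = ⊤ := by
    have h2 : Ideal.map α.toRingHom (Ideal.span (Set.range p)) = ⊤ := by
      rw [Ideal.map_span, ← hs]
      congr 1
      ext x
      constructor
      · rintro ⟨_, ⟨r, rfl⟩, rfl⟩
        rw [show α.toRingHom (p r) = α (p r) from rfl, hp r]
        exact r.2
      · intro hx
        exact ⟨p ⟨x, hx⟩, ⟨_, rfl⟩, hp ⟨x, hx⟩⟩
    have h3 := Ideal.comap_map_of_surjective α.toRingHom hα (Ideal.span (Set.range p))
    rw [h2, Ideal.comap_top] at h3
    rw [h3]
    rfl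
  obtain ⟨a, ha, q, hq, haq⟩ := Submodule.mem_sup.1
    (h1 ▸ Submodule.mem_top : (1 : MvPolynomial (Fin n) R) ∈ _)
  -- the covering family
  let f : Fin (s.card + 1) → MvPolynomial (Fin n) R :=
    Fin.cases q (fun i => p (s.equivFin.symm i))
  have hf : Ideal.span (Set.range f) = ⊤ := by
    rw [Ideal.eq_top_iff_one, ← haq]
    refine Ideal.add_mem _ ?_ (Ideal.subset_span ⟨0, rfl⟩)
    have hle : Ideal.span (Set.range p) ≤ Ideal.span (Set.range f) := by
      apply Ideal.span_mono
      rintro _ ⟨r, rfl⟩
      exact ⟨(s.equivFin r).succ, by simp [f]⟩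
    exact hle ha
  refine isPerfectModule_of_cover f hf S (fun i => ?_)
  refine Fin.cases ?_ (fun j => ?_) i
  · -- the kernel part: the localization vanishes
    haveI : Subsingleton (Localization.Away (f 0) ⊗[MvPolynomial (Fin n) R] S) := by
      have hq0 : algebraMap (MvPolynomial (Fin n) R) S q = 0 := hq
      have hu : IsUnit (algebraMap (MvPolynomial (Fin n) R) (Localization.Away (f 0)) q) :=
        IsLocalization.Away.algebraMap_isUnit (f 0)
      have h0 : ∀ z : Localization.Away (f 0) ⊗[MvPolynomial (Fin n) R] S, z = 0 := by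
        intro z
        have h3 : (algebraMap (MvPolynomial (Fin n) R) (Localization.Away (f 0)) q) • z = 0 := by
          rw [algebraMap_smul]
          induction z using TensorProduct.induction_on with
          | zero => simp
          | tmul x y =>
            rw [TensorProduct.smul_tmul', TensorProduct.smul_tmul, Algebra.smul_def, hq0, zero_mul,
              TensorProduct.tmul_zero]
          | add x y hx hy => rw [smul_add, hx, hy, add_zero]
        obtain ⟨u, hu'⟩ := hu
        rw [← hu'] at h3
        have := congrArg (fun w => (↑u⁻¹ : Localization.Away (f 0)) • w) h3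
        simpa [smul_smul] using this
      exact ⟨fun a b => (h0 a).trans (h0 b).symm⟩
    exact isPerfectModule_of_subsingleton _
  · -- the part lifting an element of `s`
    set r : s := s.equivFin.symm j with hr
    have hfj : f j.succ = p r := by simp [f, hr]
    rw [hfj]
    have hpr : algebraMap (MvPolynomial (Fin n) R) S (p r) = r := hp r
    have hr' : MoreMor.IsPerfectHom R
        (Localization.Away (algebraMap (MvPolynomial (Fin n) R) S (p r))) := by
      rw [hpr]
      exact h r r.2
    exact isPerfectModule_awayTensor hαs (p r) hr'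

end target

end Groth.Agent.Helper3.PCLoc
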