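import Mathlib
import Groth.Prelude.Def_MoreMor
import Groth.Agent.Lib.Helper3.PerfLoc2

/-! Perfect ring maps form a local property; scheme-level consequences. -/

set_option autoImplicit false
universe u
open CategoryTheory CategoryTheory.Limits TensorProduct DerivedCategory AlgebraicGeometry

attribute [local instance] HasDerivedCategory.standard

namespace Groth.Agent.Helper3.PCLoc
open Groth.Agent.Helper3.PerfHom

/-- the ring hom property "perfect" -/
def Perf {R S : Type u} [CommRing R] [CommRing S] (f : R →+* S) : Prop :=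
  @MoreMor.IsPerfectHom R S _ _ f.toAlgebra

theorem perf_iff {R S : Type u} [CommRing R] [CommRing S] [Algebra R S] :
    Perf (algebraMap R S) ↔ MoreMor.IsPerfectHom R S := by
  rw [Perf, toAlgebra_algebraMap]

theorem perf_stableUnderComposition : RingHom.StableUnderComposition @Perf := by
  intro R S T _ _ _ f g hf hg
  letI := f.toAlgebra
  letI := g.toAlgebra
  letI := (g.comp f).toAlgebra
  haveI : IsScalarTower R S T := IsScalarTower.of_algebraMap_eq (fun _ => rfl)
  exact perfectHom_comp (B := S) hf hg

theorem perfectHom_of_away {R S : Type u} [CommRing R] [CommRing S] [Algebra R S] (r : R)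
    [IsLocalization.Away r S] : MoreMor.IsPerfectHom R S := by
  haveI : Module.Flat R S := IsLocalization.flat S (Submonoid.powers r)
  haveI : Algebra.FinitePresentation R S := IsLocalization.Away.finitePresentation r
  exact perfectHom_of_flat_fp R S

theorem perf_holdsForLocalizationAway : RingHom.HoldsForLocalizationAway @Perf := by
  introv R _
  rw [perf_iff]
  exact perfectHom_of_away r

theorem perf_ofLocalizationSpanTarget : RingHom.OfLocalizationSpanTarget @Perf := by
  rw [RingHom.ofLocalizationSpanTarget_iff_finite]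
  intro R S _ _ f s hs H
  letI := f.toAlgebra
  refine perfectHom_of_span_target (R := R) s hs (fun r hr => ?_)
  have h1 := H ⟨r, hr⟩
  have e : (OreLocalization.instAlgebra : Algebra R (Localization.Away r)) =
      ((algebraMap S (Localization.Away r)).comp f).toAlgebra :=
    Algebra.algebra_ext _ _ (fun x => rfl)
  unfold Perf at h1
  rw [← e] at h1
  exact h1

theorem perf_localizationAwayPreserves : RingHom.LocalizationAwayPreserves @Perf := by
  intro R S _ _ f r R' S' _ _ _ _ _ _ hf
  refine ⟨pc_localizationAwayPreserves f r R' S' hf.1, ?_⟩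
  letI := f.toAlgebra
  letI : Algebra R' S' := (IsLocalization.Away.map R' S' f r).toAlgebra
  letI : Algebra R S' := ((algebraMap S S').comp f).toAlgebra
  haveI : IsScalarTower R S S' := IsScalarTower.of_algebraMap_eq (fun _ => rfl)
  haveI : IsScalarTower R R' S' := IsScalarTower.of_algebraMap_eq (fun x => by
    show algebraMap S S' (f x) = IsLocalization.Away.map R' S' f r (algebraMap R R' x)
    simp [IsLocalization.Away.map])
  haveI : Module.Flat R R' := IsLocalization.flat R' (Submonoid.powers r)
  haveI : IsLocalization.Away (algebraMap R S r) S' := ‹IsLocalization.Away (f r) S'›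
  exact ftd_baseChange (R := R) (R' := R') S S' (awayTensorEquiv r R' S') hf.2

theorem perf_isLocal : RingHom.PropertyIsLocal @Perf :=
  ⟨perf_localizationAwayPreserves, perf_ofLocalizationSpanTarget,
    perf_ofLocalizationSpanTarget.ofLocalizationSpan
      (perf_stableUnderComposition.stableUnderCompositionWithLocalizationAway
        perf_holdsForLocalizationAway).1,
    (perf_stableUnderComposition.stableUnderCompositionWithLocalizationAway
        perf_holdsForLocalizationAway).2⟩

instance : HasRingHomProperty (affineLocally @Perf) @Perf := ⟨perf_isLocal, rfl⟩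

theorem perfMor_iff {X Y : Scheme.{u}} (f : X ⟶ Y) :
    MoreMor.IsPerfectMor f ↔ affineLocally @Perf f := by
  rw [HasRingHomProperty.iff_appLE (P := affineLocally @Perf)]
  constructor
  · intro h U V e
    exact h V.1 U.1 V.2 U.2 e
  · intro h U V hU hV e
    exact h ⟨V, hV⟩ ⟨U, hU⟩ e

/-- S7171 -/
theorem S7171_main {X S : Scheme.{u}} (f : X ⟶ S) :
    MoreMor.IsPerfectMor f ↔ ∀ x : X, ∃ (U : X.Opens) (V : S.Opens) (hUV : U ≤ f ⁻¹ᵁ V),
      IsAffineOpen U ∧ IsAffineOpen V ∧ x ∈ U ∧
      (letI := (f.appLE V U hUV).hom.toAlgebra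
       MoreMor.IsPerfectHom Γ(S, V) Γ(X, U)) := by
  rw [perfMor_iff, HasRingHomProperty.iff_exists_appLE (P := affineLocally @Perf)
    (perf_stableUnderComposition.stableUnderCompositionWithLocalizationAway
        perf_holdsForLocalizationAway).1]
  constructor
  · intro h x
    obtain ⟨U, V, hx, e, hQ⟩ := h x
    exact ⟨V.1, U.1, e, V.2, U.2, hx, hQ⟩
  · intro h x
    obtain ⟨U, V, e, hU, hV, hx, hQ⟩ := h x
    exact ⟨⟨V, hV⟩, ⟨U, hU⟩, hx, e, hQ⟩

/-- S1508 -/
theorem S1508_main {X Y Z : Scheme.{u}} (f : X ⟶ Y) (g : Y ⟶ Z)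
    (hf : MoreMor.IsPerfectMor f) (hg : MoreMor.IsPerfectMor g) :
    MoreMor.IsPerfectMor (f ≫ g) := by
  rw [perfMor_iff] at hf hg ⊢
  haveI := HasRingHomProperty.stableUnderComposition (P := affineLocally @Perf)
    perf_stableUnderComposition
  exact MorphismProperty.comp_mem _ f g hf hg

end Groth.Agent.Helper3.PCLoc
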