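import Mathlib
import Groth.Prelude.Def_MoreMor
import Groth.Agent.Lib.Helper3.PerfLoc3

/-! Flat base change of pseudo-coherent and perfect ring maps. -/

set_option autoImplicit false
universe u
open CategoryTheory CategoryTheory.Limits TensorProduct DerivedCategory

attribute [local instance] HasDerivedCategory.standard

namespace Groth.Agent.Helper3.PCLoc
open Groth.Agent.Helper5.PCHom Groth.Agent.Helper5.PCRes Groth.Agent.Helper3.PerfHom

section bc

attribute [local instance] MvPolynomial.algebraMvPolynomial

variable {R R' S S' : Type u} [CommRing R] [CommRing R'] [CommRing S] [CommRing S']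
  [Algebra R R'] [Algebra R S] [Algebra R' S'] [Algebra S S'] [Algebra R S']
  [IsScalarTower R R' S'] [IsScalarTower R S S']

theorem pcHom_baseChange [Module.Flat R R'] (hpo : Algebra.IsPushout R R' S S')
    (h : MoreMor.IsPseudoCoherentHom R S) : MoreMor.IsPseudoCoherentHom R' S' := by
  obtain ⟨n, α, hα, hpc⟩ := h
  let α' : MvPolynomial (Fin n) R' →ₐ[R'] S' :=
    MvPolynomial.aeval (fun i => algebraMap S S' (α (MvPolynomial.X i)))
  letI : Algebra (MvPolynomial (Fin n) R) S := α.toRingHom.toAlgebra
  letI : Algebra (MvPolynomial (Fin n) R') S' := α'.toRingHom.toAlgebra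
  letI : Algebra (MvPolynomial (Fin n) R) S' := ((algebraMap S S').comp α.toRingHom).toAlgebra
  haveI : IsScalarTower (MvPolynomial (Fin n) R) S S' :=
    IsScalarTower.of_algebraMap_eq (fun _ => rfl)
  have hcomp : (algebraMap S S').comp α.toRingHom =
      α'.toRingHom.comp (algebraMap (MvPolynomial (Fin n) R) (MvPolynomial (Fin n) R')) := by
    rw [MvPolynomial.algebraMap_def]
    apply MvPolynomial.ringHom_ext
    · intro r
      show algebraMap S S' (α (MvPolynomial.C r)) =
        α' (MvPolynomial.map (algebraMap R R') (MvPolynomial.C r))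
      rw [MvPolynomial.map_C, ← MvPolynomial.algebraMap_eq, ← MvPolynomial.algebraMap_eq,
        α.commutes, α'.commutes, ← IsScalarTower.algebraMap_apply,
        ← IsScalarTower.algebraMap_apply]
    · intro i
      show algebraMap S S' (α (MvPolynomial.X i)) =
        α' (MvPolynomial.map (algebraMap R R') (MvPolynomial.X i))
      rw [MvPolynomial.map_X]
      simp [α']
  haveI : IsScalarTower (MvPolynomial (Fin n) R) (MvPolynomial (Fin n) R') S' :=
    IsScalarTower.of_algebraMap_eq (fun x => by
      show ((algebraMap S S').comp α.toRingHom) x = _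
      rw [hcomp]
      rfl)
  haveI : IsScalarTower R' (MvPolynomial (Fin n) R') S' :=
    IsScalarTower.of_algebraMap_eq (fun r => (α'.commutes r).symm)
  haveI : IsScalarTower R (MvPolynomial (Fin n) R) S :=
    IsScalarTower.of_algebraMap_eq (fun r => (α.commutes r).symm)
  haveI : IsScalarTower R (MvPolynomial (Fin n) R') S' :=
    IsScalarTower.of_algebraMap_eq (fun r => by
      rw [IsScalarTower.algebraMap_apply R R' S',
        IsScalarTower.algebraMap_apply R R' (MvPolynomial (Fin n) R'),
        ← IsScalarTower.algebraMap_apply R' (MvPolynomial (Fin n) R') S'])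
  -- the right hand square is a pushout
  have h1 : Algebra.IsPushout (MvPolynomial (Fin n) R) S (MvPolynomial (Fin n) R') S' :=
    (Algebra.IsPushout.comp_iff R (MvPolynomial (Fin n) R) R' (S' := MvPolynomial (Fin n) R')
      (T := S) (T' := S')).1 hpo.symm
  have h2 : Algebra.IsPushout (MvPolynomial (Fin n) R) (MvPolynomial (Fin n) R') S S' := h1.symm
  let e : MvPolynomial (Fin n) R' ⊗[MvPolynomial (Fin n) R] S ≃ₗ[MvPolynomial (Fin n) R'] S' :=
    h2.out.equiv
  haveI : Module.Flat (MvPolynomial (Fin n) R) (MvPolynomial (Fin n) R') := by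
    have h3 : Algebra.IsPushout R (MvPolynomial (Fin n) R) R' (MvPolynomial (Fin n) R') :=
      inferInstance
    exact Module.Flat.isBaseChange (R := R) (S := MvPolynomial (Fin n) R) (M := R')
      (MvPolynomial (Fin n) R') h3.out
  have h4 : DRing.IsPseudoCoherentModule' (MvPolynomial (Fin n) R')
      (MvPolynomial (Fin n) R' ⊗[MvPolynomial (Fin n) R] S) :=
    (Groth.Agent.Helper5.FlatBC.s7000 (MvPolynomial (Fin n) R') 0 S).2 hpc
  have h5 : DRing.IsPseudoCoherentModule' (MvPolynomial (Fin n) R') S' :=
    (allPC_iff_pcModule' S').1 (allPC_of_iso e.toModuleIso ((allPC_iff_pcModule' _).2 h4))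
  -- surjectivity
  have hα' : Function.Surjective α' := by
    intro x
    refine hpo.out.inductionOn x _ ?_ ?_ ?_ ?_
    · exact ⟨0, map_zero _⟩
    · intro s
      obtain ⟨p, rfl⟩ := hα s
      refine ⟨algebraMap (MvPolynomial (Fin n) R) (MvPolynomial (Fin n) R') p, ?_⟩
      have := congrArg (fun φ => φ p) hcomp
      exact this.symm
    · rintro r' y ⟨p, rfl⟩
      exact ⟨MvPolynomial.C r' * p, by
        rw [map_mul, Algebra.smul_def]
        congr 1
        exact α'.commutes r'⟩
    · rintro y z ⟨p, rfl⟩ ⟨q, rfl⟩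
      exact ⟨p + q, map_add _ _ _⟩
  exact ⟨n, α', hα', h5⟩

theorem perfectHom_baseChange [Module.Flat R R'] (hpo : Algebra.IsPushout R R' S S')
    (h : MoreMor.IsPerfectHom R S) : MoreMor.IsPerfectHom R' S' :=
  ⟨pcHom_baseChange hpo h.1, ftd_baseChange (R := R) (R' := R') S S' hpo.out.equiv h.2⟩

end bc

end Groth.Agent.Helper3.PCLoc
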