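import Mathlib
import Groth.Prelude.Def_MoreMor
import Groth.Agent.Lib.Helper3.PCLoc5

/-! Flat base change of pseudo-coherent and perfect morphisms (S7167, S1513). -/

set_option autoImplicit false
universe u
open CategoryTheory CategoryTheory.Limits TensorProduct DerivedCategory AlgebraicGeometry

attribute [local instance] HasDerivedCategory.standard

namespace Groth.Agent.Helper3.PCLoc

/-- affine charts of a pullback square on which the rings of sections form a pushout -/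
theorem exists_affine_pushout_chart {X S X' S' : Scheme.{u}} {f : X ⟶ S} {f' : X' ⟶ S'}
    {g' : X' ⟶ X} {g : S' ⟶ S} (hc : IsPullback g' f' f g) (x' : X') :
    ∃ (V : S.Opens) (U : X.Opens) (V' : S'.Opens) (U' : X'.Opens) (_ : IsAffineOpen V)
      (_ : IsAffineOpen U) (_ : IsAffineOpen V') (_ : IsAffineOpen U') (eUV : U ≤ f ⁻¹ᵁ V)
      (eV'V : V' ≤ g ⁻¹ᵁ V) (eU'V' : U' ≤ f' ⁻¹ᵁ V') (eU'U : U' ≤ g' ⁻¹ᵁ U), x' ∈ U' ∧
      IsPushout (f.appLE V U eUV) (g.appLE V V' eV'V) (g'.appLE U U' eU'U)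
        (f'.appLE V' U' eU'V') := by
  obtain ⟨V, hV, hxV, -⟩ := TopologicalSpace.Opens.isBasis_iff_nbhd.mp S.isBasis_affineOpens
    (TopologicalSpace.Opens.mem_top (f (g' x')))
  obtain ⟨U, hU, hxU, eUV⟩ := TopologicalSpace.Opens.isBasis_iff_nbhd.mp X.isBasis_affineOpens
    (show g' x' ∈ f ⁻¹ᵁ V from hxV)
  have hw : g (f' x') = f (g' x') := by
    have := congrArg (fun φ : X' ⟶ S => φ x') hc.w
    simpa using this.symm
  obtain ⟨V', hV', hxV', eV'V⟩ := TopologicalSpace.Opens.isBasis_iff_nbhd.mp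
    S'.isBasis_affineOpens (show f' x' ∈ g ⁻¹ᵁ V by
      show g (f' x') ∈ V
      rw [hw]
      exact hxV)
  have hUY : g' ⁻¹ᵁ U ⊓ f' ⁻¹ᵁ V' = g' ⁻¹ᵁ U ⊓ f' ⁻¹ᵁ V' := rfl
  haveI : IsAffine (V : Scheme.{u}) := hV
  haveI : IsAffine (U : Scheme.{u}) := hU
  haveI : IsAffine (V' : Scheme.{u}) := hV'
  have hU' : IsAffineOpen (g' ⁻¹ᵁ U ⊓ f' ⁻¹ᵁ V') :=
    .of_isIso (Scheme.Hom.isPullback_resLE hc eV'V eUV hUY).isoPullback.hom
  haveI := isIso_pushoutSection_of_isAffineOpen hc eV'V eUV hUY hV hV' hU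
  exact ⟨V, U, V', g' ⁻¹ᵁ U ⊓ f' ⁻¹ᵁ V', hV, hU, hV', hU', eUV, eV'V, inf_le_right, inf_le_left,
    ⟨hxU, hxV'⟩, (isIso_pushoutSection_iff hc eV'V eUV hUY).1 inferInstance⟩

/-- S7167 -/
theorem S7167_main {X S X' S' : Scheme.{u}} (f : X ⟶ S) (f' : X' ⟶ S') (g' : X' ⟶ X)
    (g : S' ⟶ S) [Flat g] (hc : IsPullback g' f' f g) (hf : MoreMor.IsPseudoCoherentMor f) :
    MoreMor.IsPseudoCoherentMor f' := by
  rw [S7166_main]
  intro x'
  obtain ⟨V, U, V', U', hV, hU, hV', hU', eUV, eV'V, eU'V', eU'U, hx', hpo⟩ :=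
    exists_affine_pushout_chart hc x'
  refine ⟨U', V', eU'V', hU', hV', hx', ?_⟩
  letI := (f.appLE V U eUV).hom.toAlgebra
  letI := (g.appLE V V' eV'V).hom.toAlgebra
  letI := (f'.appLE V' U' eU'V').hom.toAlgebra
  letI := (g'.appLE U U' eU'U).hom.toAlgebra
  letI : Algebra Γ(S, V) Γ(X', U') :=
    ((f'.appLE V' U' eU'V').hom.comp (g.appLE V V' eV'V).hom).toAlgebra
  haveI : IsScalarTower Γ(S, V) Γ(S', V') Γ(X', U') :=
    IsScalarTower.of_algebraMap_eq (fun _ => rfl)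
  haveI : IsScalarTower Γ(S, V) Γ(X, U) Γ(X', U') :=
    IsScalarTower.of_algebraMap_eq (fun x => by
      have := congrArg (fun φ => φ.hom x) hpo.w
      exact this.symm)
  haveI : Module.Flat Γ(S, V) Γ(S', V') := Flat.flat_appLE g hV hV' eV'V
  have hpo' : Algebra.IsPushout Γ(S, V) Γ(X, U) Γ(S', V') Γ(X', U') :=
    CommRingCat.isPushout_iff_isPushout.1 hpo
  exact pcHom_baseChange hpo'.symm (hf U V hU hV eUV)

/-- S1513 -/
theorem S1513_main {X S X' S' : Scheme.{u}} (f : X ⟶ S) (f' : X' ⟶ S') (g' : X' ⟶ X)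
    (g : S' ⟶ S) [Flat g] (hc : IsPullback g' f' f g) (hf : MoreMor.IsPerfectMor f) :
    MoreMor.IsPerfectMor f' := by
  rw [S7171_main]
  intro x'
  obtain ⟨V, U, V', U', hV, hU, hV', hU', eUV, eV'V, eU'V', eU'U, hx', hpo⟩ :=
    exists_affine_pushout_chart hc x'
  refine ⟨U', V', eU'V', hU', hV', hx', ?_⟩
  letI := (f.appLE V U eUV).hom.toAlgebra
  letI := (g.appLE V V' eV'V).hom.toAlgebra
  letI := (f'.appLE V' U' eU'V').hom.toAlgebra
  letI := (g'.appLE U U' eU'U).hom.toAlgebra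
  letI : Algebra Γ(S, V) Γ(X', U') :=
    ((f'.appLE V' U' eU'V').hom.comp (g.appLE V V' eV'V).hom).toAlgebra
  haveI : IsScalarTower Γ(S, V) Γ(S', V') Γ(X', U') :=
    IsScalarTower.of_algebraMap_eq (fun _ => rfl)
  haveI : IsScalarTower Γ(S, V) Γ(X, U) Γ(X', U') :=
    IsScalarTower.of_algebraMap_eq (fun x => by
      have := congrArg (fun φ => φ.hom x) hpo.w
      exact this.symm)
  haveI : Module.Flat Γ(S, V) Γ(S', V') := Flat.flat_appLE g hV hV' eV'V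
  have hpo' : Algebra.IsPushout Γ(S, V) Γ(X, U) Γ(S', V') Γ(X', U') :=
    CommRingCat.isPushout_iff_isPushout.1 hpo
  exact perfectHom_baseChange hpo'.symm (hf U V hU hV eUV)

end Groth.Agent.Helper3.PCLoc
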