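import Mathlib
import Groth.Prelude.Def_Flatn
import Groth.Agent.Lib.Helper3.RelFPS3
import Groth.Agent.Lib.Helper1.ModBC

/-!
# Relative finite presentation on schemes: inverse images (helper3)
-/

set_option autoImplicit false
universe u
open CategoryTheory CategoryTheory.Limits AlgebraicGeometry TopologicalSpace Opposite
set_option backward.isDefEq.respectTransparency.types false

namespace Groth.Agent.Helper3.RelFPS

open Scheme.Modules Groth.Agent.Helper1

section UnitRes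

variable {S S' : Scheme.{u}} (g : S' ⟶ S) (E : S.Modules)
  {U : S.Opens} {U' : S'.Opens} (hle : U' ≤ g ⁻¹ᵁ U)

theorem unitRes_smul (r : Γ(S, U)) (e : Γ(E, U)) :
    ModBC.unitRes g E hle (r • e) = (g.appLE U U' hle).hom r • ModBC.unitRes g E hle e := by
  unfold ModBC.unitRes
  simp only [AddMonoidHom.coe_comp, Function.comp_apply]
  have h1 : (((pullbackPushforwardAdjunction g).unit.app E).app U) (r • e) =
      r • (((pullbackPushforwardAdjunction g).unit.app E).app U) e := Hom.app_smul _ r e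
  erw [h1]
  exact Scheme.Modules.map_smul ((Scheme.Modules.pullback g).obj E) (homOfLE hle)
    ((g.app U).hom r) (((pullbackPushforwardAdjunction g).unit.app E).app U e)

end UnitRes

section Pull

variable {X Y S : Scheme.{u}} (f : X ⟶ Y) (g : Y ⟶ S) (G : Y.Modules)

/-- sections of the inverse image over an affine pair, as a base change -/
theorem relOn_pullback [LocallyOfFinitePresentation f] [G.IsQuasicoherent]
    {U : X.Opens} (hU : IsAffineOpen U)
    {V : Y.Opens} (hV : IsAffineOpen V) {W : S.Opens} (hW : IsAffineOpen W)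
    (h1 : U ≤ f ⁻¹ᵁ V) (h2 : V ≤ g ⁻¹ᵁ W) (h3 : U ≤ (f ≫ g) ⁻¹ᵁ W)
    (H : RelOn g G hV hW h2) :
    RelOn (f ≫ g) ((Scheme.Modules.pullback f).obj G) hU hW h3 := by
  letI alg1 : Algebra Γ(Y, V) Γ(X, U) := (f.appLE V U h1).hom.toAlgebra
  letI alg2 : Algebra Γ(S, W) Γ(Y, V) := (g.appLE W V h2).hom.toAlgebra
  letI alg3 : Algebra Γ(S, W) Γ(X, U) := ((f ≫ g).appLE W U h3).hom.toAlgebra
  haveI : IsScalarTower Γ(S, W) Γ(Y, V) Γ(X, U) := by
    apply IsScalarTower.of_algebraMap_eq'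
    show ((f ≫ g).appLE W U h3).hom = (f.appLE V U h1).hom.comp (g.appLE W V h2).hom
    rw [← CommRingCat.hom_comp, Scheme.Hom.appLE_comp_appLE]
  haveI : Algebra.FinitePresentation Γ(Y, V) Γ(X, U) :=
    HasRingHomProperty.appLE (P := @LocallyOfFinitePresentation) f ‹_› ⟨V, hV⟩ ⟨U, hU⟩ h1
  letI mod1 : Module Γ(Y, V) Γ((Scheme.Modules.pullback f).obj G, U) :=
    Module.compHom _ (f.appLE V U h1).hom
  haveI : IsScalarTower Γ(Y, V) Γ(X, U) Γ((Scheme.Modules.pullback f).obj G, U) :=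
    IsScalarTower.of_algebraMap_smul (fun a m => rfl)
  let l : Γ(G, V) →ₗ[Γ(Y, V)] Γ((Scheme.Modules.pullback f).obj G, U) :=
    { toFun := fun e => ModBC.unitRes f G h1 e
      map_add' := fun a b => map_add _ a b
      map_smul' := fun r e => unitRes_smul f G h1 r e }
  have hl : IsBaseChange Γ(X, U) l := by
    refine IsBaseChange.of_lift_unique l ?_
    intro Q _ _ _ _ q
    letI : AddCommGroup Q := Module.addCommMonoidToAddCommGroup Γ(X, U)
    obtain ⟨ℓ', ⟨hlin, hcomp⟩, huniq⟩ := ModBC.existsUnique f G hV hU h1 Q q.toAddMonoidHom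
      (fun r e => by
        show q (r • e) = (algebraMap Γ(Y, V) Γ(X, U) r) • q e
        rw [q.map_smul, algebraMap_smul])
    refine ⟨{ toFun := ℓ', map_add' := map_add ℓ', map_smul' := hlin }, ?_, ?_⟩
    · ext e
      exact hcomp e
    · intro q' hq'
      have := huniq q'.toAddMonoidHom ⟨fun r' x => q'.map_smul r' x, fun e => by
        have := congrArg (fun (t : Γ(G, V) →ₗ[Γ(Y, V)] Q) => t e) hq'
        exact this⟩
      ext x
      exact congrArg (fun (t : Γ((Scheme.Modules.pullback f).obj G, U) →+ Q) => t x) this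
  exact rfp_baseChange_target (R := Γ(S, W)) l hl H

theorem S9745_main [LocallyOfFinitePresentation f] [LocallyOfFiniteType g]
    [G.IsQuasicoherent] (hG : Flatn.IsRelFP g G) :
    Flatn.IsRelFP (f ≫ g) ((Scheme.Modules.pullback f).obj G) := by
  refine ⟨Set.univ, ?_, fun W _ =>
    ⟨{U | ∃ V : Y.affineOpens, (V : Y.Opens) ≤ g ⁻¹ᵁ (W : S.Opens) ∧
      (U : X.Opens) ≤ f ⁻¹ᵁ (V : Y.Opens)}, ?_, ?_⟩⟩
  · rw [eq_top_iff]
    intro y _
    obtain ⟨_, ⟨V, hV, rfl⟩, hyV, -⟩ := S.isBasis_affineOpens.exists_subset_of_mem_open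
      (Set.mem_univ y) isOpen_univ
    simp only [Opens.mem_iSup]
    exact ⟨⟨V, hV⟩, Set.mem_univ _, hyV⟩
  · apply le_antisymm
    · refine iSup₂_le fun U hU => ?_
      obtain ⟨V, hVW, hUV⟩ := hU
      exact hUV.trans (f.preimage_mono hVW)
    · intro x hx
      obtain ⟨_, ⟨V, hV, rfl⟩, hxV, hVW⟩ := Y.isBasis_affineOpens.exists_subset_of_mem_open
        (show f x ∈ g ⁻¹ᵁ (W : S.Opens) from hx) (g ⁻¹ᵁ (W : S.Opens)).isOpen
      obtain ⟨_, ⟨U, hU, rfl⟩, hxU, hUV⟩ := X.isBasis_affineOpens.exists_subset_of_mem_open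
        (show x ∈ f ⁻¹ᵁ V from hxV) (f ⁻¹ᵁ V).isOpen
      simp only [Opens.mem_iSup]
      exact ⟨⟨U, hU⟩, ⟨⟨V, hV⟩, hVW, hUV⟩, hxU⟩
  · rintro U ⟨V, hVW, hUV⟩ h
    exact relOn_pullback f g G U.2 V.2 W.2 hUV hVW h (relOn_of_isRelFP g G hG V.2 W.2 hVW)

end Pull

end Groth.Agent.Helper3.RelFPS
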