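import Mathlib
import Groth.Prelude.Def_Flatn
import Groth.Agent.Lib.Helper3.RelFPS5

/-!
# Relative finite presentation on schemes: base change (helper3)
-/

set_option autoImplicit false
universe u
open CategoryTheory CategoryTheory.Limits AlgebraicGeometry TopologicalSpace Opposite
set_option backward.isDefEq.respectTransparency.types false

namespace Groth.Agent.Helper3.RelFPS

open Scheme.Modules Groth.Agent.Helper1 TensorProduct Groth.Agent.Helper9.RelFP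

section Ring

variable {R A R' A' : Type u} [CommRing R] [CommRing A] [CommRing R'] [CommRing A']
  [Algebra R A] [Algebra R R'] [Algebra A A'] [Algebra R' A'] [Algebra R A'] [IsScalarTower R A A']
  [IsScalarTower R R' A'] {M M' : Type u} [AddCommGroup M] [AddCommGroup M'] [Module A M]
  [Module A M'] [Module A' M'] [IsScalarTower A A' M']

/-- base change of the base ring -/
theorem rfp_baseChange_base [Algebra.IsPushout R A R' A'] (l : M →ₗ[A] M')
    (hl : IsBaseChange A' l) (h : RFP R A M) : RFP R' A' M' := by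
  haveI hft : Algebra.FiniteType R A := finiteType_of_rfp h
  haveI : Algebra.IsPushout R R' A A' := Algebra.IsPushout.symm inferInstance
  haveI hft' : Algebra.FiniteType R' A' :=
    Algebra.FiniteType.equiv (inferInstance : Algebra.FiniteType R' (R' ⊗[R] A))
      (Algebra.IsPushout.equiv R R' A A')
  obtain ⟨n, α, hα, hM⟩ := h
  obtain ⟨k, γ, hγ⟩ := exists_surj (R := R') (B := A')
  have h1 := Groth.Agent.S12083.result (R := R) (A := A) (R' := R') (A' := A') M α hα hM γ hγ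
  exact ⟨k, γ, hγ, FPThrough.of_equiv γ.toRingHom hl.equiv h1⟩

end Ring

section Chart

variable {X S X' S' : Scheme.{u}} {f : X ⟶ S} {f' : X' ⟶ S'} {g' : X' ⟶ X} {g : S' ⟶ S}

theorem affine_pushout_chart (hc : IsPullback g' f' f g) {V : S.Opens} (hV : IsAffineOpen V)
    {U : X.Opens} (hU : IsAffineOpen U) {V' : S'.Opens} (hV' : IsAffineOpen V')
    (eUV : U ≤ f ⁻¹ᵁ V) (eV'V : V' ≤ g ⁻¹ᵁ V) :
    ∃ (hU' : IsAffineOpen (g' ⁻¹ᵁ U ⊓ f' ⁻¹ᵁ V')),
      IsPushout (f.appLE V U eUV) (g.appLE V V' eV'V)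
        (g'.appLE U (g' ⁻¹ᵁ U ⊓ f' ⁻¹ᵁ V') inf_le_left)
        (f'.appLE V' (g' ⁻¹ᵁ U ⊓ f' ⁻¹ᵁ V') inf_le_right) := by
  have hUY : g' ⁻¹ᵁ U ⊓ f' ⁻¹ᵁ V' = g' ⁻¹ᵁ U ⊓ f' ⁻¹ᵁ V' := rfl
  haveI : IsAffine (V : Scheme.{u}) := hV
  haveI : IsAffine (U : Scheme.{u}) := hU
  haveI : IsAffine (V' : Scheme.{u}) := hV'
  have hU' : IsAffineOpen (g' ⁻¹ᵁ U ⊓ f' ⁻¹ᵁ V') :=
    .of_isIso (Scheme.Hom.isPullback_resLE hc eV'V eUV hUY).isoPullback.hom
  haveI := isIso_pushoutSection_of_isAffineOpen hc eV'V eUV hUY hV hV' hU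
  exact ⟨hU', (isIso_pushoutSection_iff hc eV'V eUV hUY).1 inferInstance⟩

end Chart

section BC

variable {X S X' S' : Scheme.{u}} (f : X ⟶ S) (F : X.Modules) (g : S' ⟶ S) (f' : X' ⟶ S')
  (g' : X' ⟶ X)

theorem relOn_baseChange [F.IsQuasicoherent] (hc : IsPullback g' f' f g)
    {V : S.Opens} (hV : IsAffineOpen V)
    {U : X.Opens} (hU : IsAffineOpen U) {V' : S'.Opens} (hV' : IsAffineOpen V')
    (eUV : U ≤ f ⁻¹ᵁ V) (eV'V : V' ≤ g ⁻¹ᵁ V) (hU' : IsAffineOpen (g' ⁻¹ᵁ U ⊓ f' ⁻¹ᵁ V'))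
    (H : RelOn f F hU hV eUV) :
    RelOn f' ((Scheme.Modules.pullback g').obj F) hU' hV' inf_le_right := by
  obtain ⟨-, hpo⟩ := affine_pushout_chart hc hV hU hV' eUV eV'V
  set U' : X'.Opens := g' ⁻¹ᵁ U ⊓ f' ⁻¹ᵁ V' with hU'def
  have eU'U : U' ≤ g' ⁻¹ᵁ U := inf_le_left
  have eU'V' : U' ≤ f' ⁻¹ᵁ V' := inf_le_right
  letI a1 : Algebra Γ(S, V) Γ(X, U) := (f.appLE V U eUV).hom.toAlgebra
  letI a2 : Algebra Γ(S, V) Γ(S', V') := (g.appLE V V' eV'V).hom.toAlgebra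
  letI a3 : Algebra Γ(S', V') Γ(X', U') := (f'.appLE V' U' eU'V').hom.toAlgebra
  letI a4 : Algebra Γ(X, U) Γ(X', U') := (g'.appLE U U' eU'U).hom.toAlgebra
  letI a5 : Algebra Γ(S, V) Γ(X', U') :=
    ((f'.appLE V' U' eU'V').hom.comp (g.appLE V V' eV'V).hom).toAlgebra
  haveI : IsScalarTower Γ(S, V) Γ(S', V') Γ(X', U') :=
    IsScalarTower.of_algebraMap_eq (fun _ => rfl)
  haveI : IsScalarTower Γ(S, V) Γ(X, U) Γ(X', U') :=
    IsScalarTower.of_algebraMap_eq (fun x => by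
      have := congrArg (fun φ => φ.hom x) hpo.w
      exact this.symm)
  haveI hpo' : Algebra.IsPushout Γ(S, V) Γ(X, U) Γ(S', V') Γ(X', U') :=
    CommRingCat.isPushout_iff_isPushout.1 hpo
  letI mod1 : Module Γ(X, U) Γ((Scheme.Modules.pullback g').obj F, U') :=
    Module.compHom _ (g'.appLE U U' eU'U).hom
  haveI : IsScalarTower Γ(X, U) Γ(X', U') Γ((Scheme.Modules.pullback g').obj F, U') :=
    IsScalarTower.of_algebraMap_smul (fun a m => rfl)
  let l : Γ(F, U) →ₗ[Γ(X, U)] Γ((Scheme.Modules.pullback g').obj F, U') :=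
    { toFun := fun e => ModBC.unitRes g' F eU'U e
      map_add' := fun a b => map_add _ a b
      map_smul' := fun r e => unitRes_smul g' F eU'U r e }
  have hl : IsBaseChange Γ(X', U') l := by
    refine IsBaseChange.of_lift_unique l ?_
    intro Q _ _ _ _ q
    letI : AddCommGroup Q := Module.addCommMonoidToAddCommGroup Γ(X', U')
    obtain ⟨ℓ', ⟨hlin, hcomp⟩, huniq⟩ := ModBC.existsUnique g' F hU hU' eU'U Q q.toAddMonoidHom
      (fun r e => by
        show q (r • e) = (algebraMap Γ(X, U) Γ(X', U') r) • q e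
        rw [q.map_smul, algebraMap_smul])
    refine ⟨{ toFun := ℓ', map_add' := map_add ℓ', map_smul' := hlin }, ?_, ?_⟩
    · ext e
      exact hcomp e
    · intro q' hq'
      have := huniq q'.toAddMonoidHom ⟨fun r' x => q'.map_smul r' x, fun e => by
        have := congrArg (fun (t : Γ(F, U) →ₗ[Γ(X, U)] Q) => t e) hq'
        exact this⟩
      ext x
      exact congrArg (fun (t : Γ((Scheme.Modules.pullback g').obj F, U') →+ Q) => t x) this
  exact rfp_baseChange_base (R := Γ(S, V)) (A := Γ(X, U)) (R' := Γ(S', V')) (A' := Γ(X', U')) l hl H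

theorem S9744_main [LocallyOfFiniteType f] [F.IsQuasicoherent] (hc : IsPullback g' f' f g)
    (hF : Flatn.IsRelFP f F) : Flatn.IsRelFP f' ((Scheme.Modules.pullback g').obj F) := by
  refine ⟨{V' | ∃ V : S.affineOpens, (V' : S'.Opens) ≤ g ⁻¹ᵁ (V : S.Opens)}, ?_, ?_⟩
  · rw [eq_top_iff]
    intro y _
    obtain ⟨_, ⟨V, hV, rfl⟩, hyV, -⟩ := S.isBasis_affineOpens.exists_subset_of_mem_open
      (Set.mem_univ (g y)) isOpen_univ
    obtain ⟨_, ⟨V', hV', rfl⟩, hyV', hV'V⟩ := S'.isBasis_affineOpens.exists_subset_of_mem_open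
      (show y ∈ g ⁻¹ᵁ V from hyV) (g ⁻¹ᵁ V).isOpen
    simp only [Opens.mem_iSup]
    exact ⟨⟨V', hV'⟩, ⟨⟨V, hV⟩, hV'V⟩, hyV'⟩
  · rintro V' ⟨V, eV'V⟩
    refine ⟨{U' | ∃ U : X.affineOpens, (U : X.Opens) ≤ f ⁻¹ᵁ (V : S.Opens) ∧
      (U' : X'.Opens) = g' ⁻¹ᵁ (U : X.Opens) ⊓ f' ⁻¹ᵁ (V' : S'.Opens)}, ?_, ?_⟩
    · apply le_antisymm
      · refine iSup₂_le fun U' hU' => ?_
        obtain ⟨U, -, hU'eq⟩ := hU'
        rw [hU'eq]
        exact inf_le_right
      · intro x hx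
        have hw : g (f' x) = f (g' x) := by
          have := congrArg (fun φ : X' ⟶ S => φ x) hc.w
          simpa using this.symm
        have hx' : g' x ∈ f ⁻¹ᵁ (V : S.Opens) := by
          show f (g' x) ∈ (V : S.Opens)
          rw [← hw]
          exact eV'V hx
        obtain ⟨_, ⟨U, hU, rfl⟩, hxU, hUV⟩ := X.isBasis_affineOpens.exists_subset_of_mem_open
          hx' (f ⁻¹ᵁ (V : S.Opens)).isOpen
        obtain ⟨hU', -⟩ := affine_pushout_chart hc V.2 hU V'.2 hUV eV'V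
        simp only [Opens.mem_iSup]
        exact ⟨⟨_, hU'⟩, ⟨⟨U, hU⟩, hUV, rfl⟩, ⟨hxU, hx⟩⟩
    · rintro ⟨U', hU'aff⟩ ⟨U, hUV, hU'eq⟩ h
      simp only at hU'eq
      subst hU'eq
      exact relOn_baseChange f F g f' g' hc V.2 U.2 V'.2 hUV eV'V hU'aff
        (relOn_of_isRelFP f F hF U.2 V.2 hUV)

end BC

end Groth.Agent.Helper3.RelFPS
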