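import Mathlib

/-!
# Graded prime avoidance

A homogeneous ideal `J` contained in the irrelevant ideal and not contained in any of finitely
many homogeneous primes contains a homogeneous element of positive degree avoiding all of them.
-/

set_option autoImplicit false
universe u
open DirectSum

namespace Groth.Agent.Helper3.GPA

variable {A σ : Type*} [CommRing A] [SetLike σ A] [AddSubmonoidClass σ A]
  (𝒜 : ℕ → σ) [GradedRing 𝒜]

/-- a homogeneous ideal not contained in an ideal `p` has a homogeneous element outside `p` -/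
theorem exists_homogeneous_not_mem {J : Ideal A} (hJ : J.IsHomogeneous 𝒜) {p : Ideal A}
    (h : ¬ J ≤ p) : ∃ (d : ℕ) (x : A), x ∈ 𝒜 d ∧ x ∈ J ∧ x ∉ p := by
  classical
  by_contra hcon
  push_neg at hcon
  apply h
  intro x hx
  rw [← DirectSum.sum_support_decompose 𝒜 x]
  refine Ideal.sum_mem _ fun i _ => ?_
  exact hcon i _ (SetLike.coe_mem _) ((hJ.mem_iff 𝒜).1 hx i)

/-- the same with positive degree, for ideals inside the irrelevant ideal -/
theorem exists_homogeneous_pos_not_mem {J : Ideal A} (hJ : J.IsHomogeneous 𝒜)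
    (hJirr : J ≤ (HomogeneousIdeal.irrelevant 𝒜).toIdeal) {p : Ideal A}
    (h : ¬ J ≤ p) : ∃ (d : ℕ) (x : A), 0 < d ∧ x ∈ 𝒜 d ∧ x ∈ J ∧ x ∉ p := by
  obtain ⟨d, x, hxd, hxJ, hxp⟩ := exists_homogeneous_not_mem 𝒜 hJ h
  refine ⟨d, x, ?_, hxd, hxJ, hxp⟩
  rcases Nat.eq_zero_or_pos d with rfl | hd
  · exfalso
    apply hxp
    have h1 : x ∈ HomogeneousIdeal.irrelevant 𝒜 := hJirr hxJ
    rw [HomogeneousIdeal.mem_irrelevant_iff, GradedRing.proj_apply,
      DirectSum.decompose_of_mem_same _ hxd] at h1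
    rw [h1]
    exact zero_mem _
  · exact hd

/-- **Graded prime avoidance.** -/
theorem exists_homogeneous_avoiding {ι : Type*} (s : Finset ι) (p : ι → Ideal A)
    (hp : ∀ i ∈ s, (p i).IsPrime) (hph : ∀ i ∈ s, (p i).IsHomogeneous 𝒜)
    (J : Ideal A) (hJ : J.IsHomogeneous 𝒜)
    (hJirr : J ≤ (HomogeneousIdeal.irrelevant 𝒜).toIdeal)
    (hJp : ∀ i ∈ s, ¬ J ≤ p i) :
    ∃ (d : ℕ) (h : A), 0 < d ∧ h ∈ 𝒜 d ∧ h ∈ J ∧ ∀ i ∈ s, h ∉ p i := by
  classical
  induction' hn : s.card using Nat.strong_induction_on with n ih generalizing s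
  rcases s.eq_empty_or_nonempty with rfl | hne
  · exact ⟨1, 0, one_pos, zero_mem _, zero_mem _, by simp⟩
  by_cases hanti : ∃ i ∈ s, ∃ j ∈ s, i ≠ j ∧ p i ≤ p j
  · obtain ⟨i, hi, j, hj, hij, hle⟩ := hanti
    have hcard : (s.erase i).card < n := by
      rw [← hn]; exact Finset.card_erase_lt_of_mem hi
    obtain ⟨d, h, hd, hhd, hhJ, hav⟩ := ih _ hcard (s.erase i)
      (fun k hk => hp k (Finset.mem_of_mem_erase hk))
      (fun k hk => hph k (Finset.mem_of_mem_erase hk))
      (fun k hk => hJp k (Finset.mem_of_mem_erase hk)) rfl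
    refine ⟨d, h, hd, hhd, hhJ, fun k hk => ?_⟩
    by_cases hki : k = i
    · subst hki
      intro hmem
      exact hav j (Finset.mem_erase.2 ⟨fun e => hij e.symm, hj⟩) (hle hmem)
    · exact hav k (Finset.mem_erase.2 ⟨hki, hk⟩)
  · push_neg at hanti
    obtain ⟨a, ha⟩ := hne
    have hcard : (s.erase a).card < n := by
      rw [← hn]; exact Finset.card_erase_lt_of_mem ha
    obtain ⟨d, x, hd, hxd, hxJ, hav⟩ := ih _ hcard (s.erase a)
      (fun k hk => hp k (Finset.mem_of_mem_erase hk))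
      (fun k hk => hph k (Finset.mem_of_mem_erase hk))
      (fun k hk => hJp k (Finset.mem_of_mem_erase hk)) rfl
    by_cases hxa : x ∈ p a
    swap
    · refine ⟨d, x, hd, hxd, hxJ, fun k hk => ?_⟩
      by_cases hka : k = a
      · subst hka; exact hxa
      · exact hav k (Finset.mem_erase.2 ⟨hka, hk⟩)
    haveI hpa : (p a).IsPrime := hp a ha
    -- elements of the other primes outside `p a`
    have hz : ∀ i, ∃ (e : ℕ) (z : A), z ∈ 𝒜 e ∧ (i ∈ s.erase a → z ∈ p i) ∧ z ∉ p a := by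
      intro i
      by_cases hi : i ∈ s.erase a
      · have hi' := Finset.mem_erase.1 hi
        obtain ⟨e, z, hze, hzi, hza⟩ :=
          exists_homogeneous_not_mem 𝒜 (hph i hi'.2) (hanti i hi'.2 a ha hi'.1)
        exact ⟨e, z, hze, fun _ => hzi, hza⟩
      · exact ⟨0, 1, SetLike.GradedOne.one_mem, fun h => absurd h hi,
          fun h => hpa.ne_top ((Ideal.eq_top_iff_one _).2 h)⟩
    choose e z hze hzi hza using hz
    obtain ⟨e₀, w, he₀, hwe, hwJ, hwa⟩ := exists_homogeneous_pos_not_mem 𝒜 hJ hJirr (hJp a ha)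
    set y : A := w * ∏ i ∈ s.erase a, z i with hy
    set ey : ℕ := e₀ + ∑ i ∈ s.erase a, e i with hey
    have hyd : y ∈ 𝒜 ey :=
      SetLike.mul_mem_graded hwe (SetLike.prod_mem_graded 𝒜 e z (fun k _ => hze k))
    have hey0 : 0 < ey := by omega
    have hyJ : y ∈ J := Ideal.mul_mem_right _ _ hwJ
    have hya : y ∉ p a := by
      intro hmem
      rcases hpa.mem_or_mem hmem with h1 | h1
      · exact hwa h1
      · obtain ⟨i, _, hi⟩ := (hpa.prod_mem_iff).1 h1
        exact hza i hi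
    have hyi : ∀ i ∈ s.erase a, y ∈ p i := by
      intro i hi
      refine Ideal.mul_mem_left _ _ ?_
      obtain ⟨c, hc⟩ := Finset.dvd_prod_of_mem z hi
      rw [hc]
      exact Ideal.mul_mem_right _ _ (hzi i hi)
    refine ⟨d * ey, x ^ ey + y ^ d, Nat.mul_pos hd hey0, ?_, ?_, ?_⟩
    · refine add_mem ?_ ?_
      · have := SetLike.pow_mem_graded ey hxd
        rwa [smul_eq_mul, mul_comm] at this
      · have := SetLike.pow_mem_graded d hyd
        rwa [smul_eq_mul] at this
    · exact add_mem (Ideal.pow_mem_of_mem _ hxJ _ hey0) (Ideal.pow_mem_of_mem _ hyJ _ hd)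
    · intro k hk
      by_cases hka : k = a
      · subst hka
        intro hmem
        have h1 : x ^ ey ∈ p k := Ideal.pow_mem_of_mem _ hxa _ hey0
        have h2 : y ^ d ∈ p k := (Ideal.add_mem_iff_right _ h1).1 hmem
        exact hya (hpa.mem_of_pow_mem _ h2)
      · have hk' : k ∈ s.erase a := Finset.mem_erase.2 ⟨hka, hk⟩
        haveI hpk : (p k).IsPrime := hp k hk
        intro hmem
        have h1 : y ^ d ∈ p k := Ideal.pow_mem_of_mem _ (hyi k hk') _ hd
        have h2 : x ^ ey ∈ p k := (Ideal.add_mem_iff_left _ h1).1 hmem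
        exact hav k hk' (hpk.mem_of_pow_mem _ h2)

end Groth.Agent.Helper3.GPA
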