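import Mathlib
import Groth.Agent.Lib.Helper3.GPA

/-!
# Cutting a Noetherian space mapping to `Proj` by hypersurfaces through a closed set
-/

set_option autoImplicit false
universe u
open TopologicalSpace

namespace Groth.Agent.Helper3.ProjCut

/-- chains of irreducible closed subsets inside `W` have length `< r` -/
def Bd {X : Type*} [TopologicalSpace X] (W : Set X) (r : ℕ) : Prop :=
  ∀ c : LTSeries (IrreducibleCloseds X), (∀ Z ∈ c, (Z : Set X) ⊆ W) → c.length < r

theorem bd_of_dim {X : Type*} [TopologicalSpace X] (r : ℕ) (h : topologicalKrullDim X ≤ r)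
    (W : Set X) : Bd W (r + 1) := by
  intro c _
  have h1 : (c.length : WithBot ℕ∞) ≤ r := (Order.LTSeries.length_le_krullDim c).trans h
  have h2 : c.length ≤ r := by exact_mod_cast h1
  omega

theorem eq_empty_of_bd_zero {X : Type*} [TopologicalSpace X] {W : Set X} (hW : IsClosed W)
    (h : Bd W 0) : ∀ x, x ∉ W := by
  intro x hx
  let Z : IrreducibleCloseds X := ⟨closure {x}, isIrreducible_singleton.closure, isClosed_closure⟩
  have := h (RelSeries.singleton _ Z) (by
    intro Z' hZ'
    rw [RelSeries.mem_def] at hZ'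
    obtain ⟨i, rfl⟩ := hZ'
    exact closure_minimal (Set.singleton_subset_iff.2 hx) hW)
  simp at this

variable {A σ : Type*} [CommRing A] [SetLike σ A] [AddSubmonoidClass σ A]
  (𝒜 : ℕ → σ) [GradedRing 𝒜]

open ProjectiveSpectrum

theorem exists_cut {X : Type*} [TopologicalSpace X] [NoetherianSpace X] [QuasiSober X]
    (j : X → ProjectiveSpectrum 𝒜) (hj : Continuous j)
    (B : Set (ProjectiveSpectrum 𝒜)) (hB : IsClosed B) (hjB : ∀ x, j x ∉ B)
    (r : ℕ) (W : Set X) (hW : IsClosed W) (hbd : Bd W r) :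
    ∃ h : Fin r → A, (∀ i, ∃ d : ℕ, 0 < d ∧ h i ∈ 𝒜 d) ∧
      (∀ i, B ⊆ zeroLocus 𝒜 {h i}) ∧
      ∀ x ∈ W, ∃ i, j x ∈ basicOpen 𝒜 (h i) := by
  classical
  induction r generalizing W with
  | zero =>
    exact ⟨Fin.elim0, fun i => i.elim0, fun i => i.elim0,
      fun x hx => absurd hx (eq_empty_of_bd_zero hW hbd x)⟩
  | succ r ih =>
    obtain ⟨S, hSf, hSc, hSi, hSU⟩ := NoetherianSpace.exists_finite_set_isClosed_irreducible hW
    have hg : ∀ t ∈ S, ∃ x, IsGenericPoint x t := fun t ht => QuasiSober.sober (hSi t ht) (hSc t ht)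
    choose g hg using hg
    let s : Finset X := hSf.toFinset.attach.image (fun t => g t.1 (hSf.mem_toFinset.1 t.2))
    have hs : ∀ t (ht : t ∈ S), g t ht ∈ s := by
      intro t ht
      refine Finset.mem_image.2 ⟨⟨t, hSf.mem_toFinset.2 ht⟩, Finset.mem_attach _ _, rfl⟩
    set J : Ideal A := (vanishingIdeal B).toIdeal * (HomogeneousIdeal.irrelevant 𝒜).toIdeal with hJdef
    have hJ : J.IsHomogeneous 𝒜 :=
      Ideal.IsHomogeneous.mul (vanishingIdeal B).isHomogeneous
        (HomogeneousIdeal.irrelevant 𝒜).isHomogeneous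
    have hJirr : J ≤ (HomogeneousIdeal.irrelevant 𝒜).toIdeal := Ideal.mul_le_right
    have hJB : J ≤ (vanishingIdeal B).toIdeal := Ideal.mul_le_left
    have hJp : ∀ x ∈ s, ¬ J ≤ (j x).asHomogeneousIdeal.toIdeal := by
      intro x _ hle
      rcases (Ideal.IsPrime.mul_le (j x).isPrime).1 hle with h1 | h1
      · apply hjB x
        rw [← hB.closure_eq, ← zeroLocus_vanishingIdeal_eq_closure, mem_zeroLocus]
        exact fun a ha => h1 ha
      · exact (j x).not_irrelevant_le (fun a ha => h1 ha)
    obtain ⟨d, h₀, hd, hh₀d, hh₀J, hav⟩ :=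
      Groth.Agent.Helper3.GPA.exists_homogeneous_avoiding 𝒜 s
        (fun x => (j x).asHomogeneousIdeal.toIdeal) (fun x _ => (j x).isPrime)
        (fun x _ => (j x).asHomogeneousIdeal.isHomogeneous) J hJ hJirr hJp
    have hB₀ : B ⊆ zeroLocus 𝒜 {h₀} := by
      intro y hy
      rw [mem_zeroLocus, Set.singleton_subset_iff]
      exact (mem_vanishingIdeal B h₀).1 (hJB hh₀J) y hy
    set W' : Set X := W ∩ j ⁻¹' (zeroLocus 𝒜 {h₀}) with hW'def
    have hW' : IsClosed W' := hW.inter ((isClosed_zeroLocus 𝒜 _).preimage hj)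
    have hbd' : Bd W' r := by
      intro c hc
      have hZW' : (c.last : Set X) ⊆ W' := hc _ (RelSeries.last_mem c)
      have hZS : (c.last : Set X) ⊆ ⋃₀ (hSf.toFinset : Set (Set X)) := by
        rw [Set.Finite.coe_toFinset, ← hSU]
        exact hZW'.trans Set.inter_subset_left
      obtain ⟨t, ht, hZt⟩ := isIrreducible_iff_sUnion_isClosed.1 c.last.isIrreducible hSf.toFinset
        (fun t ht => hSc t (hSf.mem_toFinset.1 ht)) hZS
      have ht' : t ∈ S := hSf.mem_toFinset.1 ht
      let T : IrreducibleCloseds X := ⟨t, hSi t ht', hSc t ht'⟩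
      have hgt : g t ht' ∉ W' := by
        intro hmem
        have h1 : j (g t ht') ∈ zeroLocus 𝒜 {h₀} := hmem.2
        rw [mem_zeroLocus, Set.singleton_subset_iff] at h1
        exact hav _ (hs t ht') h1
      have hlt : c.last < T := by
        refine lt_of_le_of_ne (show (c.last : Set X) ⊆ t from hZt) ?_
        intro heq
        apply hgt
        apply hZW'
        rw [heq]
        exact (hg t ht').mem
      have htW : t ⊆ W := by
        rw [hSU]
        exact Set.subset_sUnion_of_mem ht'
      have := hbd (c.snoc T hlt) (by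
        intro Z hZ
        rcases RelSeries.mem_snoc.1 hZ with hZ | rfl
        · exact (hc Z hZ).trans Set.inter_subset_left
        · exact htW)
      rw [RelSeries.snoc_length] at this
      omega
    obtain ⟨h', hh'd, hh'B, hh'W⟩ := ih W' hW' hbd'
    refine ⟨Fin.cons h₀ h', ?_, ?_, ?_⟩
    · intro i
      refine Fin.cases ?_ (fun i => ?_) i
      · exact ⟨d, hd, by simpa using hh₀d⟩
      · simpa using hh'd i
    · intro i
      refine Fin.cases ?_ (fun i => ?_) i
      · simpa using hB₀
      · simpa using hh'B i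
    · intro x hx
      by_cases hx0 : j x ∈ basicOpen 𝒜 h₀
      · exact ⟨0, by simpa using hx0⟩
      · have hxW' : x ∈ W' := by
          refine ⟨hx, ?_⟩
          change j x ∈ zeroLocus 𝒜 {h₀}
          rw [mem_zeroLocus, Set.singleton_subset_iff]
          rw [mem_basicOpen, not_not] at hx0
          exact hx0
        obtain ⟨i, hi⟩ := hh'W x hxW'
        exact ⟨i.succ, by simpa using hi⟩

end Groth.Agent.Helper3.ProjCut
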