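import Mathlib
import Groth.Prelude.Def_CohB1
import Groth.Agent.Lib.Helper3.ProjCut
import Groth.Agent.Lib.Helper1.ProjNoeth

/-!
# A scheme immersed in `Proj` of a Noetherian graded ring, of dimension `≤ r`, is covered by
# `r + 1` affine opens cut out by hypersurfaces
-/

set_option autoImplicit false
universe u
open CategoryTheory AlgebraicGeometry TopologicalSpace

namespace Groth.Agent.Helper3.ProjCov

open Groth.Agent.Helper3.ProjCut

section General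

variable {R A : Type u} [CommRing R] [CommRing A] [Algebra R A]
  (𝒜 : ℕ → Submodule R A) [GradedAlgebra 𝒜]

/-- the core statement, for a morphism `j` and a closed set `B` missed by `j` -/
theorem exists_hypersurfaces [IsNoetherianRing A] (r : ℕ) {X : Scheme.{u}}
    (j : X ⟶ Proj 𝒜) (B : Set (Proj 𝒜)) (hB : IsClosed B) (hjB : ∀ x : X, j x ∉ B)
    [NoetherianSpace X] (hX : topologicalKrullDim ↥X ≤ r) :
    ∃ h : Fin (r + 1) → A, (∀ i, ∃ d : ℕ, 0 < d ∧ h i ∈ 𝒜 d) ∧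
      (∀ i, B ⊆ ((Proj.basicOpen 𝒜 (h i) : (Proj 𝒜).Opens) : Set (Proj 𝒜))ᶜ) ∧
      ∀ x : X, ∃ i, j x ∈ Proj.basicOpen 𝒜 (h i) := by
  obtain ⟨h, hd, hB', hcov⟩ := exists_cut 𝒜 (X := ↥X) (fun x => j x) j.continuous B hB hjB (r + 1)
    Set.univ isClosed_univ (bd_of_dim r hX _)
  refine ⟨h, hd, fun i => ?_, fun x => hcov x (Set.mem_univ x)⟩
  intro y hy
  have h1 := hB' i hy
  rw [ProjectiveSpectrum.mem_zeroLocus, Set.singleton_subset_iff] at h1
  intro h2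
  exact ((Proj.mem_basicOpen 𝒜 (h i) y).1 h2) h1

/-- **the affine cover of an immersed scheme** -/
theorem exists_cover [IsNoetherianRing A] (r : ℕ) {X : Scheme.{u}}
    (j : X ⟶ Proj 𝒜) [IsImmersion j] (hX : topologicalKrullDim ↥X ≤ r) :
    ∃ U : Fin (r + 1) → X.Opens, (∀ i, IsAffineOpen (U i)) ∧ ⨆ i, U i = ⊤ := by
  haveI : IsNoetherian (Proj 𝒜) := Groth.Agent.Helper1.ProjNoeth.isNoetherian_proj 𝒜
  haveI : NoetherianSpace ↥(Proj 𝒜) := inferInstance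
  haveI : NoetherianSpace ↥X := j.isEmbedding.isInducing.noetherianSpace
  have hBcl : IsClosed ((coborder (Set.range j))ᶜ : Set (Proj 𝒜)) :=
    isClosed_compl_iff.2 j.isLocallyClosed_range.isOpen_coborder
  obtain ⟨h, hd, hB, hcov⟩ := exists_hypersurfaces 𝒜 r j _ hBcl
    (fun x hx => hx (subset_coborder ⟨x, rfl⟩)) hX
  refine ⟨fun i => j ⁻¹ᵁ Proj.basicOpen 𝒜 (h i), fun i => ?_, ?_⟩
  · obtain ⟨d, hd0, hhd⟩ := hd i
    have haff : IsAffineOpen (Proj.basicOpen 𝒜 (h i)) := Proj.isAffineOpen_basicOpen 𝒜 (h i) hhd hd0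
    have hle : Proj.basicOpen 𝒜 (h i) ≤ j.coborderRange := by
      intro y hy
      by_contra hcon
      exact hB i hcon hy
    have h1 : IsAffineOpen (j.coborderRange.ι ⁻¹ᵁ Proj.basicOpen 𝒜 (h i)) :=
      haff.preimage_of_isOpenImmersion _ (by rwa [Scheme.Opens.opensRange_ι])
    have h2 := h1.preimage j.liftCoborder
    rwa [← Scheme.Hom.comp_preimage, j.liftCoborder_ι] at h2
  · refine eq_top_iff.2 fun x _ => ?_
    obtain ⟨i, hi⟩ := hcov x
    exact Opens.mem_iSup.2 ⟨i, hi⟩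

/-- hypersurfaces through a closed subscheme `Y` covering the rest of a closed subscheme `X` -/
theorem exists_hypersurfaces_closed [IsNoetherianRing A] (r : ℕ) {X Y : Scheme.{u}}
    (iX : X ⟶ Proj 𝒜) (iY : Y ⟶ Proj 𝒜) [IsClosedImmersion iX] [IsClosedImmersion iY]
    (hX : topologicalKrullDim ↥X ≤ r) :
    ∃ h : Fin (r + 1) → A, (∀ i, ∃ d : ℕ, 0 < d ∧ h i ∈ 𝒜 d) ∧
      (∀ i, Set.range iY.base ⊆ ((Proj.basicOpen 𝒜 (h i) : (Proj 𝒜).Opens) : Set (Proj 𝒜))ᶜ) ∧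
      (Set.range iX.base \ Set.range iY.base ⊆
        ⋃ i, ((Proj.basicOpen 𝒜 (h i) : (Proj 𝒜).Opens) : Set (Proj 𝒜))) ∧
      ∀ i, IsAffineOpen (iX ⁻¹ᵁ Proj.basicOpen 𝒜 (h i)) := by
  haveI : IsNoetherian (Proj 𝒜) := Groth.Agent.Helper1.ProjNoeth.isNoetherian_proj 𝒜
  haveI : NoetherianSpace ↥(Proj 𝒜) := inferInstance
  haveI : NoetherianSpace ↥X := iX.isEmbedding.isInducing.noetherianSpace
  have hB : IsClosed (Set.range iY.base) := iY.isClosedEmbedding.isClosed_range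
  let V : (Proj 𝒜).Opens := ⟨(Set.range iY.base)ᶜ, hB.isOpen_compl⟩
  let U : X.Opens := iX ⁻¹ᵁ V
  haveI : NoetherianSpace ↥(U : Scheme.{u}) := U.ι.isOpenEmbedding.isInducing.noetherianSpace
  have hdim : topologicalKrullDim ↥(U : Scheme.{u}) ≤ r :=
    (U.ι.isOpenEmbedding.isInducing.topologicalKrullDim_le).trans hX
  have hjB : ∀ x : ↥(U : Scheme.{u}), (U.ι ≫ iX) x ∉ Set.range iY.base := by
    intro x
    have : (U.ι x : X) ∈ U := x.2
    exact this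
  obtain ⟨h, hd, hB', hcov⟩ := exists_hypersurfaces 𝒜 r (U.ι ≫ iX) _ hB hjB hdim
  refine ⟨h, hd, hB', ?_, fun i => ?_⟩
  · rintro y ⟨⟨x, rfl⟩, hy⟩
    obtain ⟨i, hi⟩ := hcov ⟨x, hy⟩
    exact Set.mem_iUnion.2 ⟨i, hi⟩
  · obtain ⟨d, hd0, hhd⟩ := hd i
    exact (Proj.isAffineOpen_basicOpen 𝒜 (h i) hhd hd0).preimage iX

end General

end Groth.Agent.Helper3.ProjCov
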