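import Mathlib
import Groth.Prelude.Def_CohB1
import Groth.Agent.Lib.Helper3.ProjCov
import Groth.Agent.Lib.Helper1.HProjLoc

/-!
# A scheme immersed in projective space over a Noetherian affine base, of dimension `≤ d`,
# is covered by `d + 1` affine opens
-/

set_option autoImplicit false
universe u
open CategoryTheory CategoryTheory.Limits AlgebraicGeometry TopologicalSpace

namespace Groth.Agent.Helper3.ProjCovOver

open Groth.Agent.Helper1

variable (n : ℕ) (A : Type u) [CommRing A]

/-- the unique ring map from the lifted integers -/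
noncomputable def rhoZ : ULift.{u} ℤ →+* A := (Int.castRingHom A).comp ULift.ringEquiv.toRingHom

theorem isPullback_over : IsPullback
    (Proj.map (HProjLoc.polyMap n (rhoZ A)) (HProjLoc.hirr_polyMap n (rhoZ A)))
    (CohB1.ProjSpace.toSpec n A) (CohB1.ProjSpace.toSpec n (ULift.{u} ℤ))
    (specULiftZIsTerminal.from (Spec (CommRingCat.of A))) := by
  have h := HProjLoc.isPullback_projSpace n (rhoZ A)
  have hρ : Spec.map (CommRingCat.ofHom (rhoZ A)) =
      specULiftZIsTerminal.from (Spec (CommRingCat.of A)) :=
    specULiftZIsTerminal.hom_ext _ _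
  rwa [hρ] at h

/-- projective space over `Spec A` in the two forms -/
noncomputable def thetaIso : CohB1.ProjSpace n A ≅ CohB1.ProjSpaceOver n (Spec (CommRingCat.of A)) :=
  (isPullback_over n A).isoPullback

variable {A}

/-- **the affine cover of a scheme immersed in `P^n` over a Noetherian ring** -/
theorem exists_cover_over [IsNoetherianRing A] (d : ℕ) {X : Scheme.{u}}
    (j : X ⟶ CohB1.ProjSpaceOver n (Spec (CommRingCat.of A))) [IsImmersion j]
    (hX : topologicalKrullDim ↥X ≤ d) :
    ∃ U : Fin (d + 1) → X.Opens, (∀ i, IsAffineOpen (U i)) ∧ ⨆ i, U i = ⊤ := by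
  haveI : IsNoetherianRing (MvPolynomial (Fin (n + 1)) A) := inferInstance
  have i1 : IsImmersion (j ≫ (thetaIso n A).inv) := inferInstance
  have i2 : @IsImmersion X (Proj (CohB1.polyGrading n A)) (j ≫ (thetaIso n A).inv) := i1
  exact @Groth.Agent.Helper3.ProjCov.exists_cover A (MvPolynomial (Fin (n + 1)) A) _ _ _
    (CohB1.polyGrading n A) _ _ d X (j ≫ (thetaIso n A).inv) i2 hX

end Groth.Agent.Helper3.ProjCovOver
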