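import Mathlib
import Groth.Prelude.Def_FlatCA
import Groth.Agent.Lib.Helper3.ColimFlat10
import Groth.Agent.Lib.Helper3.ColimFlat12

/-! A flat finitely presented algebra descends to a flat finitely presented algebra over a
finite type `ℤ`-algebra. -/

set_option autoImplicit false
universe u
namespace Groth.Agent.Helper3.FlatModel

open TensorProduct Groth.Agent.Helper3.ColimFlat

theorem exists_flat_model (A B : Type u) [CommRing A] [CommRing B] [Algebra A B]
    [Algebra.FinitePresentation A B] [Module.Flat A B] :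
    ∃ (A₀ : Type u) (_ : CommRing A₀) (_ : Algebra A₀ A) (B₀ : Type u) (_ : CommRing B₀)
      (_ : Algebra A₀ B₀), Algebra.FiniteType ℤ A₀ ∧ Algebra.FinitePresentation A₀ B₀ ∧
        Module.Flat A₀ B₀ ∧ Nonempty (B ≃ₐ[A] A ⊗[A₀] B₀) := by
  classical
  let P := Algebra.Presentation.ofFinitePresentation A B
  let R₂ := P.Core
  let B₂ := P.ModelOfHasCoeffs R₂
  let e : A ⊗[R₂] B₂ ≃ₐ[A] B := P.tensorModelOfHasCoeffsEquiv R₂
  haveI : Module.Flat A (A ⊗[R₂] B₂) := Module.Flat.of_linearEquiv e.toLinearEquiv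
  obtain ⟨i, hi⟩ := (S4848_main (fun i : FGSub R₂ A => ↥i.1)
    (fun i j h => Subalgebra.inclusion (show i.1 ≤ j.1 from h)) A
    (isDirectedColimitRing_fgSub R₂ A) (B₀ := B₂) B₂).mp inferInstance
  haveI : Algebra.FiniteType R₂ ↥i.1 := (Subalgebra.fg_iff_finiteType i.1).mp i.2
  haveI : Algebra.FiniteType ℤ ↥i.1 :=
    Algebra.FiniteType.trans (S := R₂) inferInstance inferInstance
  refine ⟨↥i.1, inferInstance, inferInstance, ↥i.1 ⊗[R₂] B₂, inferInstance, inferInstance,
    inferInstance, inferInstance, hi, ⟨?_⟩⟩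
  exact e.symm.trans (Algebra.TensorProduct.cancelBaseChange R₂ ↥i.1 A A B₂).symm

end Groth.Agent.Helper3.FlatModel
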