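import Mathlib
import Groth.Agent.Lib.Helper3.FlatModel
import Groth.Agent.Lib.Helper7.LimModel
import Groth.Agent.Lib.Helper7.LimStage

/-! flat morphisms of finite presentation have models of finite type over the integers, and
flatness descends to a finite stage of a cofiltered limit. -/

set_option autoImplicit false
universe u
namespace Groth.Agent.Helper3.FlatModel

open CategoryTheory CategoryTheory.Limits AlgebraicGeometry TensorProduct
open Groth.Agent.Helper7.LimModel Groth.Agent.Helper7.LimStage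

/-- flat and locally of finite presentation -/
abbrev FlatLfp : MorphismProperty Scheme.{u} := @Flat ⊓ @LocallyOfFinitePresentation

theorem hasModels_flatLfp : HasModels FlatLfp.{u} := by
  intro X Y _ _ f hf
  have hfl : Flat f := hf.1
  have hfp : LocallyOfFinitePresentation f := hf.2
  have h1 : RingHom.Flat f.appTop.hom :=
    (HasRingHomProperty.iff_of_isAffine (P := @Flat)).mp hfl
  have h2 : RingHom.FinitePresentation f.appTop.hom :=
    (HasRingHomProperty.iff_of_isAffine (P := @LocallyOfFinitePresentation)).mp hfp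
  algebraize [f.appTop.hom]
  obtain ⟨A₀, _, _, B₀, _, _, hft, hfp₀, hfl₀, ⟨e⟩⟩ := exists_flat_model Γ(Y, ⊤) Γ(X, ⊤)
  obtain ⟨a, b, hab⟩ := exists_isPullback_of_algEquiv f rfl A₀ B₀ e
  refine ⟨.of A₀, .of B₀, CommRingCat.ofHom (algebraMap A₀ B₀), a, b, hft, ⟨?_, ?_⟩, hab⟩
  · exact HasRingHomProperty.Spec_iff.mpr (RingHom.flat_algebraMap_iff.mpr hfl₀)
  · exact HasRingHomProperty.Spec_iff.mpr (RingHom.finitePresentation_algebraMap.mpr hfp₀)

theorem S9759_main {X S : Scheme.{u}} (f : X ⟶ S) [IsAffine X] [IsAffine S]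
    [LocallyOfFinitePresentation f] [Flat f] :
    ∃ (X₀ S₀ : Scheme.{u}) (f₀ : X₀ ⟶ S₀) (g : S ⟶ S₀) (g' : X ⟶ X₀), IsAffine X₀ ∧ IsAffine S₀ ∧
      IsPullback g' f f₀ g ∧
      Algebra.FiniteType ℤ Γ(S₀, ⊤) ∧ LocallyOfFiniteType f₀ ∧ Flat f₀ := by
  obtain ⟨A₀, B₀, φ₀, a, b, hft, hP, hpb⟩ := hasModels_flatLfp f ⟨inferInstance, inferInstance⟩
  have h1 : Flat (Spec.map φ₀) := hP.1
  have h2 : LocallyOfFinitePresentation (Spec.map φ₀) := hP.2
  refine ⟨Spec B₀, Spec A₀, Spec.map φ₀, a, b, inferInstance, inferInstance, hpb, ?_,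
    inferInstance, h1⟩
  exact hft.equiv (Scheme.ΓSpecIso A₀).commRingCatIsoToRingEquiv.symm.toIntAlgEquiv

theorem S2075_main {I : Type u} [SmallCategory I] [IsCofiltered I]
    (D : I ⥤ Scheme.{u}) (c : Limits.Cone D) (hc : Limits.IsLimit c)
    [∀ (i j : I) (f : i ⟶ j), IsAffineHom (D.map f)] (i₀ : I) [CompactSpace (D.obj i₀)]
    [QuasiSeparatedSpace (D.obj i₀)] {X₀ Y₀ : Scheme.{u}} (f₀ : X₀ ⟶ Y₀) (g₀ : Y₀ ⟶ D.obj i₀)
    [CompactSpace X₀] [QuasiSeparatedSpace X₀] [CompactSpace Y₀] [QuasiSeparatedSpace Y₀]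
    {X Y : Scheme.{u}} (f : X ⟶ Y) (g : Y ⟶ c.pt) (qY : Y ⟶ Y₀) (qX : X ⟶ X₀)
    (hY : IsPullback qY g g₀ (c.π.app i₀)) (hX : IsPullback qX f f₀ qY)
    [LocallyOfFinitePresentation f₀] [Flat f] :
    ∃ (i : I) (φ : i ⟶ i₀) (Xi Yi : Scheme.{u}) (fi : Xi ⟶ Yi) (gi : Yi ⟶ D.obj i) (pY : Yi ⟶ Y₀)
      (pX : Xi ⟶ X₀), IsPullback pY gi g₀ (D.map φ) ∧ IsPullback pX fi f₀ pY ∧ Flat fi := by
  have : ∀ {i j : I} (f : i ⟶ j), IsAffineHom (D.map f) := fun f => inferInstance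
  have hlfp : LocallyOfFinitePresentation f :=
    MorphismProperty.of_isPullback (P := @LocallyOfFinitePresentation) hX inferInstance
  have h := bcHom_of_isPullback f₀ g₀ FlatLfp (c.π.app i₀) hY hX ⟨inferInstance, hlfp⟩
  obtain ⟨j, φ, hj⟩ := exists_stage_of_hasModels' D c hc f₀ g₀ FlatLfp hasModels_flatLfp
    (fun _ _ _ hf => hf.2)
    (fun f j _ hf => by
      have h1 : Flat f := hf.1
      have h2 : LocallyOfFinitePresentation f := hf.2
      exact ⟨inferInstance, inferInstance⟩) h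
  obtain ⟨i, φ, Xi, Yi, fi, gi, pY, pX, h1, h2, h3⟩ := exists_of_stage D f₀ g₀ FlatLfp φ hj
  exact ⟨i, φ, Xi, Yi, fi, gi, pY, pX, h1, h2, h3.1⟩

end Groth.Agent.Helper3.FlatModel
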