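import Mathlib
import Groth.Agent.Lib.Helper3.FlatModel2
import Groth.Agent.Lib.Helper7.LimCover
import Groth.Agent.Lib.Helper7.LimDesc6

/-! fppf coverings descend to a finite stage of a cofiltered limit. -/

set_option autoImplicit false
universe u
namespace Groth.Agent.Helper3.FlatModel

open CategoryTheory CategoryTheory.Limits AlgebraicGeometry TensorProduct
open Groth.Agent.Helper7.LimModel Groth.Agent.Helper7.LimStage Groth.Agent.Helper7.LimDesc

variable {I : Type u} [Category.{u} I] [IsCofiltered I] {D : I ⥤ Scheme.{u}} {c : Cone D}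
  (hc : IsLimit c) [∀ {i j : I} (f : i ⟶ j), IsAffineHom (D.map f)]

include hc in
theorem exists_stage_flatLfp {i₀ : I} {X₀ Y₀ : Scheme.{u}} (f₀ : X₀ ⟶ Y₀) (g₀ : Y₀ ⟶ D.obj i₀)
    [CompactSpace X₀] [LocallyOfFinitePresentation f₀]
    (h : FlatLfp (bcHom f₀ g₀ (c.π.app i₀))) :
    ∃ (j : I) (φ : j ⟶ i₀), FlatLfp (bcHom f₀ g₀ (D.map φ)) :=
  exists_stage_of_hasModels' D c hc f₀ g₀ FlatLfp hasModels_flatLfp
    (fun _ _ _ hf => hf.2)
    (fun f j _ hf => by
      have h1 : Flat f := hf.1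
      have h2 : LocallyOfFinitePresentation f := hf.2
      exact ⟨inferInstance, inferInstance⟩) h

include hc in
theorem exists_model_flatLfp_over (i₀ : I) [CompactSpace (D.obj i₀)]
    [QuasiSeparatedSpace (D.obj i₀)] {Z : Scheme.{u}} (h : Z ⟶ c.pt) [Flat h]
    [LocallyOfFinitePresentation h] [QuasiCompact h] [QuasiSeparated h] :
    ∃ (j : I) (_ : j ⟶ i₀) (M : Model D c h j), FlatLfp M.zj :=
  exists_model_of_property_over hc i₀ FlatLfp
    (fun {i₁ X₀} f₀ _ _ _ _ _ hs => by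
      have : CompactSpace X₀ := QuasiCompact.compactSpace_of_compactSpace f₀
      exact exists_stage_flatLfp hc f₀ (𝟙 _) hs)
    h ⟨inferInstance, inferInstance⟩

end Groth.Agent.Helper3.FlatModel

namespace Groth.Agent.Helper3.FlatModel

open CategoryTheory CategoryTheory.Limits AlgebraicGeometry TensorProduct

theorem S18756_main {I : Type u} [SmallCategory I] [IsCofiltered I]
    (D : I ⥤ Scheme.{u}) (c : Cone D) (hc : IsLimit c)
    [∀ (i j : I) (t : i ⟶ j), IsAffineHom (D.map t)] (i₀ : I) [CompactSpace (D.obj i₀)]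
    [QuasiSeparatedSpace (D.obj i₀)] {ι : Type u} (U : ι → Scheme.{u}) (u : ∀ a, U a ⟶ c.pt)
    [∀ a, Flat (u a)] [∀ a, LocallyOfFinitePresentation (u a)] [∀ a, QuasiCompact (u a)]
    [∀ a, QuasiSeparated (u a)] (hcov : ∀ x : c.pt, ∃ (a : ι) (y : U a), (u a).base y = x) :
    ∃ (i : I) (n : ℕ) (V : Fin n → Scheme.{u}) (v : ∀ j, V j ⟶ D.obj i) (a : Fin n → ι)
      (e : ∀ j, U (a j) ⟶ V j),
      (∀ j, Flat (v j) ∧ LocallyOfFinitePresentation (v j) ∧ QuasiCompact (v j) ∧
        QuasiSeparated (v j)) ∧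
      (∀ x : D.obj i, ∃ (j : Fin n) (y : V j), (v j).base y = x) ∧
      ∀ j, IsPullback (e j) (u (a j)) (v j) (c.π.app i) := by
  have : ∀ {i j : I} (f : i ⟶ j), IsAffineHom (D.map f) := fun f => inferInstance
  obtain ⟨i, n, V, v, a, e, H1, H2, H3⟩ :=
    Groth.Agent.Helper7.LimCover.exists_cover_of_property_over hc i₀ FlatLfp
      (fun f hf => by
        have h1 : Flat f := hf.1
        have h2 : LocallyOfFinitePresentation f := hf.2
        exact f.isOpenMap)
      (fun h _ _ _ hh => by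
        have : Flat h := hh.1
        exact exists_model_flatLfp_over hc i₀ h)
      U u (fun a => ⟨inferInstance, inferInstance⟩) hcov
  exact ⟨i, n, V, v, a, e, fun j => ⟨(H1 j).1.1, (H1 j).2.1, (H1 j).2.2.1, (H1 j).2.2.2⟩, H2, H3⟩

end Groth.Agent.Helper3.FlatModel
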