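import Mathlib

/-! Monogenic separable presentations of finite unramified algebras over local rings. -/

open scoped TensorProduct Polynomial

namespace Groth.Agent.Helper3.MonoSep

universe u

section Points
variable (k : Type u) [Field k] (C : Type u) [CommRing C] [Algebra k C] [Module.Finite k C]
  [Algebra.FormallyUnramified k C]

/-- Geometric points of a finite étale algebra: `n = dim C` distinct homs to the algebraic
closure. -/
lemma exists_points : ∃ (P : Type u) (_ : Fintype P) (φ : P → (C →ₐ[k] AlgebraicClosure k)),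
    Fintype.card P = Module.finrank k C ∧ (∀ p q, p ≠ q → ∃ c, φ p c ≠ φ q c) := by
  classical
  let Ω := AlgebraicClosure k
  let D := Ω ⊗[k] C
  have : Algebra.FormallyEtale Ω D := Algebra.FormallyEtale.of_formallyUnramified_of_field Ω D
  have : IsArtinianRing D := .of_finite Ω D
  let E : D ≃ₐ[Ω] (PrimeSpectrum D → Ω) := Algebra.FormallyEtale.equivPiOfIsSepClosed Ω D
  letI : Fintype (PrimeSpectrum D) := Fintype.ofFinite _
  let φ : PrimeSpectrum D → (C →ₐ[k] Ω) := fun p =>
    ((Pi.evalAlgHom Ω (fun _ : PrimeSpectrum D => Ω) p).restrictScalars k).comp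
      ((E.toAlgHom.restrictScalars k).comp (Algebra.TensorProduct.includeRight))
  have hφ : ∀ p c, φ p c = E (1 ⊗ₜ c) p := fun p c => rfl
  refine ⟨PrimeSpectrum D, inferInstance, φ, ?_, ?_⟩
  · have h1 : Module.finrank Ω D = Module.finrank k C := Module.finrank_baseChange
    have h2 : Module.finrank Ω D = Module.finrank Ω (PrimeSpectrum D → Ω) :=
      LinearEquiv.finrank_eq E.toLinearEquiv
    rw [← h1, h2, Module.finrank_fintype_fun_eq_card]
  · intro p q hpq
    by_contra hcon
    push Not at hcon
    -- the two evaluation functionals agree on all of D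
    have hD : ∀ z : D, E z p = E z q := by
      intro z
      induction z using TensorProduct.induction_on with
      | zero => simp
      | tmul ω c =>
        have : (ω ⊗ₜ[k] c : D) = ω • (1 ⊗ₜ[k] c : D) := by
          rw [TensorProduct.smul_tmul', smul_eq_mul, mul_one]
        rw [this, map_smul, Pi.smul_apply, Pi.smul_apply, ← hφ, ← hφ, hcon c]
      | add x y hx hy => rw [map_add, Pi.add_apply, Pi.add_apply, hx, hy]
    have := hD (E.symm (Pi.single p 1))
    rw [AlgEquiv.apply_symm_apply, Pi.single_eq_same, Pi.single_eq_of_ne (Ne.symm hpq)] at this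
    exact one_ne_zero this

end Points

section Separating
variable {k : Type u} [Field k] {C : Type u} [CommRing C] [Algebra k C]
  {Ω : Type u} [Field Ω] [Algebra k Ω]
  {P : Type u} [Fintype P] (φ : P → (C →ₐ[k] Ω)) (t : C)
  (ht : Function.Injective (fun p => φ p t))
include ht

lemma linearIndependent_pow : LinearIndependent k (fun i : Fin (Fintype.card P) => t ^ (i : ℕ)) := by
  classical
  rw [Fintype.linearIndependent_iff]
  intro g hg
  set G : k[X] := ∑ i : Fin (Fintype.card P), Polynomial.C (g i) * Polynomial.X ^ (i : ℕ) with hG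
  have hdeg : G.degree < Fintype.card P := Polynomial.degree_sum_fin_lt g
  have haev : Polynomial.aeval t G = 0 := by
    rw [hG, map_sum, ← hg]
    refine Finset.sum_congr rfl (fun i _ => ?_)
    rw [map_mul, Polynomial.aeval_C, map_pow, Polynomial.aeval_X, Algebra.smul_def]
  have hGΩ : G.map (algebraMap k Ω) = 0 := by
    refine Polynomial.eq_zero_of_degree_lt_of_eval_index_eq_zero (v := fun p => φ p t)
      Finset.univ (ht.injOn) ?_ ?_
    · rw [Finset.card_univ]
      exact (Polynomial.degree_map_le).trans_lt hdeg
    · intro p _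
      rw [Polynomial.eval_map_algebraMap, Polynomial.aeval_algHom_apply, haev, map_zero]
  have hG0 : G = 0 := by
    have := Polynomial.map_injective (algebraMap k Ω) (algebraMap k Ω).injective
    exact this (by rw [hGΩ, Polynomial.map_zero])
  intro i
  have := congrArg (fun q => Polynomial.coeff q (i : ℕ)) hG0
  simp only [hG, Polynomial.finsetSum_coeff, Polynomial.coeff_C_mul, Polynomial.coeff_X_pow,
    Polynomial.coeff_zero] at this
  rw [Finset.sum_eq_single i] at this
  · simpa using this
  · intro j _ hji
    rw [if_neg, mul_zero]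
    intro h
    exact hji (Fin.ext h.symm)
  · intro h; exact absurd (Finset.mem_univ i) h

lemma separable_of_aeval_eq_zero (G : k[X]) (hGm : G.Monic) (hGd : G.natDegree = Fintype.card P)
    (hG : Polynomial.aeval t G = 0) : G.Separable := by
  classical
  rw [← Polynomial.separable_map (algebraMap k Ω)]
  set H : Polynomial Ω := ∏ p : P, (Polynomial.X - Polynomial.C (φ p t)) with hH
  have hHm : H.Monic := Polynomial.monic_prod_of_monic _ _ (fun p _ => Polynomial.monic_X_sub_C _)
  have hHd : H.natDegree = Fintype.card P := by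
    rw [hH, Polynomial.natDegree_prod_of_monic _ _ (fun p _ => Polynomial.monic_X_sub_C _)]
    simp
  have hGΩm : (G.map (algebraMap k Ω)).Monic := hGm.map _
  have hGΩd : (G.map (algebraMap k Ω)).natDegree = Fintype.card P := by
    rw [hGm.natDegree_map, hGd]
  have heq : G.map (algebraMap k Ω) = H := by
    refine Polynomial.eq_of_degree_le_of_eval_index_eq (v := fun p => φ p t) Finset.univ
      ht.injOn ?_ ?_ ?_ ?_
    · rw [Polynomial.degree_eq_natDegree hGΩm.ne_zero, hGΩd, Finset.card_univ]
    · rw [Polynomial.degree_eq_natDegree hGΩm.ne_zero, Polynomial.degree_eq_natDegree hHm.ne_zero,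
        hGΩd, hHd]
    · rw [hGΩm.leadingCoeff, hHm.leadingCoeff]
    · intro p _
      rw [Polynomial.eval_map_algebraMap, Polynomial.aeval_algHom_apply, hG, map_zero, hH,
        Polynomial.eval_prod]
      symm
      apply Finset.prod_eq_zero (Finset.mem_univ p)
      simp
  rw [heq, hH, Polynomial.separable_prod_X_sub_C_iff]
  exact ht

end Separating

section ExistsSep
variable (k : Type u) [Field k] (C : Type u) [CommRing C] [Algebra k C] [Module.Finite k C]
  [Algebra.FormallyUnramified k C]

/-- In the local case the algebra is monogenic. -/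
lemma exists_adjoin_eq_top_of_isLocalRing [IsLocalRing C] : ∃ t : C, Algebra.adjoin k {t} = ⊤ := by
  have : IsReduced C := Algebra.FormallyUnramified.isReduced_of_field k C
  have : IsArtinianRing C := .of_finite k C
  have hfield : IsField C := IsArtinianRing.isField_of_isReduced_of_isLocalRing C
  have hm : IsLocalRing.maximalIdeal C = ⊥ := IsLocalRing.isField_iff_maximalIdeal_eq.mp hfield
  let L := IsLocalRing.ResidueField C
  let res : C →ₐ[k] L := IsScalarTower.toAlgHom k C L
  have hres : ∀ c, res c = IsLocalRing.residue C c := fun c => rfl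
  have hsurj : Function.Surjective res := IsLocalRing.residue_surjective
  have hinj : Function.Injective res := by
    rw [injective_iff_map_eq_zero]
    intro c hc
    rw [hres, IsLocalRing.residue_eq_zero_iff, hm] at hc
    exact hc
  have : Algebra.FormallyUnramified k L := Algebra.FormallyUnramified.of_surjective res hsurj
  have : Algebra.IsSeparable k L := Algebra.FormallyUnramified.isSeparable k L
  obtain ⟨α, hα⟩ := Field.exists_primitive_element k L
  have hint : IsIntegral k α := Algebra.IsIntegral.isIntegral α
  have hadj : Algebra.adjoin k {α} = ⊤ := by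
    rw [← IntermediateField.adjoin_simple_toSubalgebra_of_isAlgebraic hint.isAlgebraic, hα]
    rfl
  obtain ⟨t, rfl⟩ := hsurj α
  refine ⟨t, ?_⟩
  apply Subalgebra.map_injective (f := res) hinj
  rw [AlgHom.map_adjoin, Set.image_singleton, hadj, Algebra.map_top]
  exact (AlgHom.range_eq_top res).mpr hsurj |>.symm

variable {k C}
variable {Ω : Type u} [Field Ω] [Algebra k Ω] {P : Type u} [Finite P] (φ : P → (C →ₐ[k] Ω))
  (hφ : ∀ p q, p ≠ q → ∃ c, φ p c ≠ φ q c)
include hφ

lemma exists_separating (h : Infinite k ∨ IsLocalRing C) :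
    ∃ t : C, Function.Injective (fun p => φ p t) := by
  classical
  rcases h with h | h
  · let W : {pq : P × P // pq.1 ≠ pq.2} → Submodule k C := fun pq =>
      LinearMap.ker ((φ pq.1.1).toLinearMap - (φ pq.1.2).toLinearMap)
    have hW : ∀ pq, W pq ≠ ⊤ := by
      intro pq hpq
      obtain ⟨c, hc⟩ := hφ pq.1.1 pq.1.2 pq.2
      have : c ∈ W pq := hpq ▸ Submodule.mem_top
      simp only [W, LinearMap.mem_ker, LinearMap.sub_apply, AlgHom.toLinearMap_apply,
        sub_eq_zero] at this
      exact hc this
    obtain ⟨t, ht⟩ := Submodule.exists_forall_notMem_of_forall_ne_top W hW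
    refine ⟨t, fun p q hpq => ?_⟩
    by_contra hne
    apply ht ⟨(p, q), hne⟩
    simp only [W, LinearMap.mem_ker, LinearMap.sub_apply, AlgHom.toLinearMap_apply, sub_eq_zero]
    exact hpq
  · obtain ⟨t, ht⟩ := exists_adjoin_eq_top_of_isLocalRing k C
    refine ⟨t, fun p q hpq => ?_⟩
    by_contra hne
    obtain ⟨c, hc⟩ := hφ p q hne
    apply hc
    have : φ p = φ q := by
      apply AlgHom.ext_of_adjoin_eq_top ht
      intro x hx
      rw [Set.mem_singleton_iff] at hx
      rw [hx]; exact hpq
    rw [this]

end ExistsSep

section Lift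
variable {A : Type u} [CommRing A] [IsLocalRing A]

/-- A monic polynomial over a local ring is separable as soon as its reduction is. -/
lemma separable_of_map_residue (F : A[X]) (hF : F.Monic)
    (h : (F.map (IsLocalRing.residue A)).Separable) : F.Separable := by
  rw [Polynomial.separable_def, ← Polynomial.isUnit_resultant_iff_isCoprime hF]
  rw [← IsLocalRing.notMem_maximalIdeal, ← IsLocalRing.residue_eq_zero_iff]
  set ρ := IsLocalRing.residue A with hρ
  rw [← Polynomial.resultant_map_map, ← Polynomial.derivative_map]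
  set Fb := F.map ρ with hFb
  have hFbm : Fb.Monic := hF.map ρ
  have hdeg : Fb.natDegree = F.natDegree := hF.natDegree_map ρ
  have hle : (Polynomial.derivative Fb).natDegree ≤ (Polynomial.derivative F).natDegree := by
    rw [hFb, Polynomial.derivative_map]
    exact Polynomial.natDegree_map_le
  obtain ⟨j, hj⟩ := Nat.exists_eq_add_of_le hle
  rw [hj, Polynomial.resultant_add_right_deg _ _ _ _ j le_rfl, ← hdeg, Polynomial.coeff_natDegree,
    hFbm.leadingCoeff, one_pow, one_mul]
  exact Polynomial.resultant_ne_zero _ _ h

end Lift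

section Converse
variable {A : Type u} [CommRing A]

/-- The standard étale pair `(F, 1)` for a monic separable polynomial. -/
noncomputable def pairOfSeparable (F : A[X]) (hF : F.Monic) (hs : F.Separable) :
    StandardEtalePair A where
  f := F
  monic_f := hF
  g := 1
  cond := by
    obtain ⟨a, b, hab⟩ := hs
    exact ⟨b, a, 0, by rw [pow_zero, ← hab]; ring⟩

/-- `A[X]/(F)` is the standard étale algebra of `(F, 1)`. -/
noncomputable def pairRingEquiv (F : A[X]) (hF : F.Monic) (hs : F.Separable) :
    (pairOfSeparable F hF hs).Ring ≃ₐ[A] AdjoinRoot F :=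
  AlgEquiv.ofAlgHom
    ((pairOfSeparable F hF hs).lift (AdjoinRoot.root F)
      ⟨by show Polynomial.aeval (AdjoinRoot.root F) F = 0
          rw [AdjoinRoot.aeval_eq, AdjoinRoot.mk_self],
       by show IsUnit (Polynomial.aeval (AdjoinRoot.root F) (1 : A[X]))
          rw [map_one]; exact isUnit_one⟩)
    (AdjoinRoot.liftAlgHom F (Algebra.ofId A _) (pairOfSeparable F hF hs).X
      (pairOfSeparable F hF hs).hasMap_X.1)
    (by
      apply AdjoinRoot.algHom_ext
      simp)
    (by
      apply StandardEtalePair.hom_ext
      simp)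

lemma formallyEtale_adjoinRoot (F : A[X]) (hF : F.Monic) (hs : F.Separable) :
    Algebra.FormallyEtale A (AdjoinRoot F) :=
  Algebra.FormallyEtale.of_equiv (pairRingEquiv F hF hs)

lemma formallyEtale_quotient (F : A[X]) (hF : F.Monic) (hs : F.Separable) :
    Algebra.FormallyEtale A (A[X] ⧸ Ideal.span {F}) :=
  formallyEtale_adjoinRoot F hF hs

end Converse

section Main
variable (A B : Type u) [CommRing A] [IsLocalRing A] [CommRing B] [Algebra A B] [Module.Finite A B]

/-- Finite unramified over a local ring (infinite residue field or local): monogenic separable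
presentation of degree `dim_k (k ⊗ B)`. -/
theorem exists_presentation [Algebra.FormallyUnramified A B]
    (h : Infinite (IsLocalRing.ResidueField A) ∨ IsLocalRing B) :
    ∃ F : A[X], F.Monic ∧ F.Separable ∧
      F.natDegree = Module.finrank (IsLocalRing.ResidueField A) (IsLocalRing.ResidueField A ⊗[A] B) ∧
      ∃ φ : (A[X] ⧸ Ideal.span {F}) →ₐ[A] B, Function.Surjective φ := by
  classical
  let k := IsLocalRing.ResidueField A
  let C := k ⊗[A] B
  obtain ⟨P, _, φ, hcard, hφ⟩ := exists_points k C
  have hinclsurj : Function.Surjective (Algebra.TensorProduct.includeRight : B →ₐ[A] C) :=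
    Algebra.TensorProduct.includeRight_surjective _ IsLocalRing.residue_surjective
  have hloc : Infinite k ∨ IsLocalRing C := by
    refine h.imp id (fun hB => ?_)
    haveI : IsLocalRing B := hB
    have : Nontrivial C := by
      rw [← not_subsingleton_iff_nontrivial, IsLocalRing.subsingleton_tensorProduct,
        not_subsingleton_iff_nontrivial]
      infer_instance
    exact IsLocalRing.of_surjective' (Algebra.TensorProduct.includeRight : B →ₐ[A] C).toRingHom
      hinclsurj
  obtain ⟨t, ht⟩ := exists_separating φ hφ hloc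
  obtain ⟨b₀, hb₀⟩ := hinclsurj t
  have hb₀' : (1 : k) ⊗ₜ[A] b₀ = t := hb₀
  set n := Fintype.card P with hn
  have hli := linearIndependent_pow φ t ht
  let bk : Module.Basis (Fin n) k C :=
    basisOfLinearIndependentOfCardEqFinrank' _ hli (by rw [Fintype.card_fin]; exact hcard)
  have hspan : Submodule.span A (Set.range (fun i : Fin n => b₀ ^ (i : ℕ))) = ⊤ := by
    refine IsLocalRing.span_eq_top_of_tmul_eq_basis (R := A) (fun i : Fin n => b₀ ^ (i : ℕ)) bk ?_
    intro i
    rw [coe_basisOfLinearIndependentOfCardEqFinrank', ← hb₀', Algebra.TensorProduct.tmul_pow, one_pow]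
  have hmem : b₀ ^ n ∈ Submodule.span A (Set.range (fun i : Fin n => b₀ ^ (i : ℕ))) := by
    rw [hspan]; exact Submodule.mem_top
  obtain ⟨a, ha⟩ := (Submodule.mem_span_range_iff_exists_fun A).mp hmem
  set G : A[X] := ∑ i : Fin n, Polynomial.C (a i) * Polynomial.X ^ (i : ℕ) with hG
  have hGdeg : G.degree < n := Polynomial.degree_sum_fin_lt a
  set F : A[X] := Polynomial.X ^ n - G with hF
  have hFm : F.Monic := Polynomial.monic_X_pow_sub hGdeg
  have hFd : F.natDegree = n := by
    apply Polynomial.natDegree_eq_of_degree_eq_some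
    rw [hF, Polynomial.degree_sub_eq_left_of_degree_lt (by rwa [Polynomial.degree_X_pow]),
      Polynomial.degree_X_pow]
  have hGa : Polynomial.aeval b₀ G = b₀ ^ n := by
    rw [hG, map_sum, ← ha]
    refine Finset.sum_congr rfl (fun i _ => ?_)
    rw [map_mul, Polynomial.aeval_C, map_pow, Polynomial.aeval_X, Algebra.smul_def]
  have hFa : Polynomial.aeval b₀ F = 0 := by
    rw [hF, map_sub, map_pow, Polynomial.aeval_X, hGa, sub_self]
  refine ⟨F, hFm, ?_, hFd.trans hcard, ?_⟩
  · apply separable_of_map_residue F hFm
    have hFbm : (F.map (IsLocalRing.residue A)).Monic := hFm.map _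
    refine separable_of_aeval_eq_zero φ t ht _ hFbm ?_ ?_
    · rw [hFm.natDegree_map, hFd]
    · have : F.map (IsLocalRing.residue A) = F.map (algebraMap A k) := rfl
      rw [this, Polynomial.aeval_map_algebraMap, ← hb₀]
      rw [Polynomial.aeval_algHom_apply, hFa, map_zero]
  · let ψ : (A[X] ⧸ Ideal.span {F}) →ₐ[A] B :=
      Ideal.Quotient.liftₐ (Ideal.span {F}) (Polynomial.aeval b₀) (by
        intro x hx
        obtain ⟨c, rfl⟩ := Ideal.mem_span_singleton'.mp hx
        rw [map_mul, hFa, mul_zero])
    refine ⟨ψ, fun y => ?_⟩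
    have hy : y ∈ Submodule.span A (Set.range (fun i : Fin n => b₀ ^ (i : ℕ))) := by
      rw [hspan]; exact Submodule.mem_top
    obtain ⟨c, hc⟩ := (Submodule.mem_span_range_iff_exists_fun A).mp hy
    refine ⟨Ideal.Quotient.mk _ (∑ i : Fin n, Polynomial.C (c i) * Polynomial.X ^ (i : ℕ)), ?_⟩
    show Polynomial.aeval b₀ (∑ i : Fin n, Polynomial.C (c i) * Polynomial.X ^ (i : ℕ)) = y
    rw [map_sum, ← hc]
    refine Finset.sum_congr rfl (fun i _ => ?_)
    rw [map_mul, Polynomial.aeval_C, map_pow, Polynomial.aeval_X, Algebra.smul_def]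

end Main

end Groth.Agent.Helper3.MonoSep
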