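import Mathlib
import Groth.Agent.S16763
import Groth.Agent.S16764
import Groth.Agent.Lib.Lead.CritFib21
import Groth.Agent.Lib.Helper6.EtLoc.UnramFiberMap

/-! Fibrewise criteria for smooth and etale morphisms with flat source (EGA IV 17.8.2). -/

set_option autoImplicit false
universe u
namespace Groth.Agent.Helper3.FibCrit

open CategoryTheory CategoryTheory.Limits AlgebraicGeometry Opposite

variable {X Y S : Scheme.{u}}

/-- the map of fibres has a base-change-stable property as soon as `pullback.snd f (g.fiberι s)`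
does -/
theorem fiberMapOver_of_snd (P : MorphismProperty Scheme.{u}) [P.RespectsIso]
    (g : Y ⟶ S) (f : X ⟶ Y) (s : S) (hP : P (pullback.snd f (g.fiberι s))) :
    P (CohIII.fiberMapOver f (f ≫ g) g rfl s) := by
  have sq := Groth.Agent.Lib.Helper6.EtLoc.isPullback_fiberMapOver g (f ≫ g) f rfl s
  rw [← sq.isoPullback_hom_snd]
  exact (P.cancel_left_of_respectsIso _ _).mpr hP

theorem of_forall_exists_nhd (P : MorphismProperty Scheme.{u}) [IsZariskiLocalAtSource P]
    (f : X ⟶ Y) (h : ∀ x : X, ∃ U : X.Opens, x ∈ U ∧ P (U.ι ≫ f)) : P f := by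
  choose U hxU hU using h
  refine (IsZariskiLocalAtSource.iff_of_iSup_eq_top (P := P) U ?_).mpr hU
  rw [eq_top_iff]
  intro x _
  exact TopologicalSpace.Opens.mem_iSup.mpr ⟨x, hxU x⟩

theorem S2762_main (g : Y ⟶ S) (h : X ⟶ S)
    [LocallyOfFinitePresentation g] [LocallyOfFinitePresentation h] [Flat h]
    (f : X ⟶ Y) (w : f ≫ g = h) :
    Smooth f ↔ ∀ s : S, Smooth (pullback.snd f (g.fiberι s)) := by
  subst w
  constructor
  · intro hf s
    infer_instance
  · intro hf
    refine of_forall_exists_nhd @Smooth f fun x => ?_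
    refine (Groth.Agent.S16763.result g (f ≫ g) f rfl x (Flat.stalkMap (f ≫ g) x)
      ((f ≫ g).asFiber x) ((f ≫ g).fiberι_asFiber x)).mpr ⟨⊤, trivial, ?_⟩
    have h1 : Smooth (CohIII.fiberMapOver f (f ≫ g) g rfl ((f ≫ g) x)) :=
      fiberMapOver_of_snd @Smooth g f _ (hf _)
    infer_instance

theorem S2763_main (g : Y ⟶ S) (h : X ⟶ S)
    [LocallyOfFinitePresentation g] [LocallyOfFinitePresentation h] [Flat h]
    (f : X ⟶ Y) (w : f ≫ g = h) :
    Etale f ↔ ∀ s : S, Etale (pullback.snd f (g.fiberι s)) := by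
  subst w
  constructor
  · intro hf s
    infer_instance
  · intro hf
    refine of_forall_exists_nhd @Etale f fun x => ?_
    refine (Groth.Agent.S16764.result g (f ≫ g) f rfl x (Flat.stalkMap (f ≫ g) x)
      ((f ≫ g).asFiber x) ((f ≫ g).fiberι_asFiber x)).mpr ⟨⊤, trivial, ?_⟩
    have h1 : Etale (CohIII.fiberMapOver f (f ≫ g) g rfl ((f ≫ g) x)) :=
      fiberMapOver_of_snd @Etale g f _ (hf _)
    infer_instance

end Groth.Agent.Helper3.FibCrit
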