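import Mathlib
import Groth.Agent.Lib.Helper3.FibCrit1
import Groth.Agent.S3694

/-! Fibrewise criteria for open immersions and isomorphisms with flat source (EGA IV 17.9.5). -/

set_option autoImplicit false
universe u
namespace Groth.Agent.Helper3.FibCrit

open CategoryTheory CategoryTheory.Limits AlgebraicGeometry Opposite

variable {X Y S : Scheme.{u}}

/-- a morphism whose maps of fibres over the points of a base are monomorphisms is universally
injective -/
theorem universallyInjective_of_fibres (g : Y ⟶ S) (f : X ⟶ Y)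
    (hf : ∀ s : S, Mono (pullback.snd f (g.fiberι s))) : UniversallyInjective f := by
  refine ((tfae_universallyInjective f).out 0 1).mpr ?_
  intro K _ a₁ a₂ (h12 : a₁ ≫ f = a₂ ≫ f)
  let b : Spec (.of K) ⟶ Y := a₁ ≫ f
  let t : Spec (.of K) ⟶ S := b ≫ g
  let σ := S.SpecToEquivOfField K t
  have ht : t = Spec.map σ.2 ≫ S.fromSpecResidueField σ.1 :=
    ((S.SpecToEquivOfField K).symm_apply_apply t).symm
  let d : Spec (.of K) ⟶ g.fiber σ.1 := pullback.lift b (Spec.map σ.2) ht
  have hd : d ≫ g.fiberι σ.1 = b := pullback.lift_fst _ _ _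
  let c₁ : Spec (.of K) ⟶ pullback f (g.fiberι σ.1) := pullback.lift a₁ d hd.symm
  let c₂ : Spec (.of K) ⟶ pullback f (g.fiberι σ.1) := pullback.lift a₂ d (h12.symm.trans hd.symm)
  have h1 : c₁ ≫ pullback.snd f (g.fiberι σ.1) = c₂ ≫ pullback.snd f (g.fiberι σ.1) :=
    (pullback.lift_snd _ _ _).trans (pullback.lift_snd _ _ _).symm
  haveI := hf σ.1
  have h2 : c₁ = c₂ := (cancel_mono _).mp h1
  have h3 : c₁ ≫ pullback.fst f (g.fiberι σ.1) = a₁ := pullback.lift_fst _ _ _
  have h4 : c₂ ≫ pullback.fst f (g.fiberι σ.1) = a₂ := pullback.lift_fst _ _ _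
  rw [← h3, ← h4, h2]

theorem surjective_of_fibres (g : Y ⟶ S) (f : X ⟶ Y)
    (hf : ∀ s : S, Surjective (pullback.snd f (g.fiberι s))) : Surjective f := by
  rw [surjective_iff]
  intro y
  haveI := hf (g y)
  obtain ⟨z, hz⟩ := (pullback.snd f (g.fiberι (g y))).surjective (g.asFiber y)
  refine ⟨pullback.fst f (g.fiberι (g y)) z, ?_⟩
  rw [← Scheme.Hom.comp_apply, pullback.condition, Scheme.Hom.comp_apply, hz, g.fiberι_asFiber]

theorem S2759_main (g : Y ⟶ S) (h : X ⟶ S)
    [LocallyOfFinitePresentation g] [LocallyOfFinitePresentation h] [Flat h]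
    (f : X ⟶ Y) (w : f ≫ g = h) :
    (IsOpenImmersion f ↔ ∀ s : S, IsOpenImmersion (pullback.snd f (g.fiberι s))) ∧
    (IsIso f ↔ ∀ s : S, IsIso (pullback.snd f (g.fiberι s))) := by
  have key : (∀ s : S, IsOpenImmersion (pullback.snd f (g.fiberι s))) → IsOpenImmersion f := by
    intro hf
    haveI : Etale f := (S2763_main g h f w).mpr fun s => by
      haveI := hf s
      infer_instance
    haveI : UniversallyInjective f := universallyInjective_of_fibres g f fun s => by
      haveI := hf s
      infer_instance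
    exact Groth.Agent.S3694.result f
  refine ⟨⟨fun hf s => inferInstance, key⟩, ⟨fun hf s => inferInstance, fun hf => ?_⟩⟩
  rw [isIso_iff_isOpenImmersion_and_surjective]
  refine ⟨key fun s => ?_, surjective_of_fibres g f fun s => ?_⟩
  · haveI := hf s
    infer_instance
  · haveI := hf s
    infer_instance

end Groth.Agent.Helper3.FibCrit
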