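import Mathlib
import Groth.Agent.Lib.Helper3.FibCrit2

/-! The locus of points of the base over which a morphism of proper flat schemes is an
isomorphism on fibres is open (EGA III 4.6.7). Part 1: etale locus, pointwise lemmas. -/

set_option autoImplicit false
universe u
namespace Groth.Agent.Helper3.IsoLoc

open CategoryTheory CategoryTheory.Limits AlgebraicGeometry Opposite

variable {X Y S : Scheme.{u}}

/-- the largest open subset on which `f` is etale -/
noncomputable def etaleLocus (f : X ⟶ Y) : X.Opens :=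
  ⨆ U : {U : X.Opens // Etale (U.ι ≫ f)}, U.1

theorem mem_etaleLocus (f : X ⟶ Y) (x : X) :
    x ∈ etaleLocus f ↔ ∃ U : X.Opens, x ∈ U ∧ Etale (U.ι ≫ f) := by
  unfold etaleLocus
  rw [TopologicalSpace.Opens.mem_iSup]
  constructor
  · rintro ⟨U, hU⟩
    exact ⟨U.1, hU, U.2⟩
  · rintro ⟨U, hU, hE⟩
    exact ⟨⟨U, hE⟩, hU⟩

theorem etale_etaleLocus (f : X ⟶ Y) : Etale ((etaleLocus f).ι ≫ f) := by
  unfold etaleLocus
  rw [IsZariskiLocalAtSource.iff_of_openCover (P := @Etale)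
    (Scheme.Opens.iSupOpenCover (fun U : {U : X.Opens // Etale (U.ι ≫ f)} => U.1))]
  intro i
  have : (Scheme.Opens.iSupOpenCover (fun U : {U : X.Opens // Etale (U.ι ≫ f)} => U.1)).f i ≫
      (⨆ U : {U : X.Opens // Etale (U.ι ≫ f)}, U.1).ι ≫ f = i.1.ι ≫ f := by
    rw [← Category.assoc]
    congr 1
    exact Scheme.homOfLE_ι _ (le_iSup (fun U : {U : X.Opens // Etale (U.ι ≫ f)} => U.1) i)
  rw [this]
  exact i.2

/-- if two `K`-points of `X` have the same image in `Y` and the map of fibres over the image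
point in `S` is a monomorphism, then they are equal -/
theorem eq_of_mono_fibre (h : Y ⟶ S) (f : X ⟶ Y) {K : Type u} [Field K]
    (a₁ a₂ : Spec (.of K) ⟶ X) (h12 : a₁ ≫ f = a₂ ≫ f) (s : S)
    (hs : (a₁ ≫ f ≫ h) (IsLocalRing.closedPoint K) = s)
    (hm : Mono (pullback.snd f (h.fiberι s))) :
    a₁ = a₂ := by
  subst hs
  let b : Spec (.of K) ⟶ Y := a₁ ≫ f
  let t : Spec (.of K) ⟶ S := b ≫ h
  let σ := S.SpecToEquivOfField K t
  have ht : t = Spec.map σ.2 ≫ S.fromSpecResidueField σ.1 :=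
    ((S.SpecToEquivOfField K).symm_apply_apply t).symm
  let d : Spec (.of K) ⟶ h.fiber σ.1 := pullback.lift b (Spec.map σ.2) ht
  have hd : d ≫ h.fiberι σ.1 = b := pullback.lift_fst _ _ _
  let c₁ : Spec (.of K) ⟶ pullback f (h.fiberι σ.1) := pullback.lift a₁ d hd.symm
  let c₂ : Spec (.of K) ⟶ pullback f (h.fiberι σ.1) := pullback.lift a₂ d (h12.symm.trans hd.symm)
  have h1 : c₁ ≫ pullback.snd f (h.fiberι σ.1) = c₂ ≫ pullback.snd f (h.fiberι σ.1) :=
    (pullback.lift_snd _ _ _).trans (pullback.lift_snd _ _ _).symm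
  haveI : Mono (pullback.snd f (h.fiberι σ.1)) := by
    have : σ.1 = (a₁ ≫ f ≫ h) (IsLocalRing.closedPoint K) := by
      simp [σ, t, b]
    rw [this]
    exact hm
  have h2 : c₁ = c₂ := (cancel_mono _).mp h1
  have h3 : c₁ ≫ pullback.fst f (h.fiberι σ.1) = a₁ := pullback.lift_fst _ _ _
  have h4 : c₂ ≫ pullback.fst f (h.fiberι σ.1) = a₂ := pullback.lift_fst _ _ _
  rw [← h3, ← h4, h2]

end Groth.Agent.Helper3.IsoLoc
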