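import Mathlib
import Groth.Agent.Lib.Helper3.IsoLoc1

/-! The locus of points of the base over which a morphism of proper flat schemes is an
isomorphism on fibres is open (EGA III 4.6.7). Part 2: the local statement. -/

set_option autoImplicit false
universe u
namespace Groth.Agent.Helper3.IsoLoc

open CategoryTheory CategoryTheory.Limits AlgebraicGeometry Opposite

variable {X Y S : Scheme.{u}}

theorem mem_etaleLocus_of_isIso_fibre (g : X ⟶ S) (h : Y ⟶ S) (f : X ⟶ Y)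
    [LocallyOfFinitePresentation g] [LocallyOfFinitePresentation h] [Flat g]
    (w : f ≫ h = g) (x : X) (hs : IsIso (pullback.snd f (h.fiberι (g x)))) :
    x ∈ etaleLocus f := by
  subst w
  rw [mem_etaleLocus]
  refine (Groth.Agent.S16764.result h (f ≫ h) f rfl x (Flat.stalkMap (f ≫ h) x)
      ((f ≫ h).asFiber x) ((f ≫ h).fiberι_asFiber x)).mpr ⟨⊤, trivial, ?_⟩
  have h1 : Etale (CohIII.fiberMapOver f (f ≫ h) h rfl ((f ≫ h) x)) :=
      FibCrit.fiberMapOver_of_snd @Etale h f _ inferInstance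
  infer_instance

theorem exists_nhd_isIso (g : X ⟶ S) (h : Y ⟶ S) (f : X ⟶ Y)
    [IsProper g] [LocallyOfFinitePresentation g] [Flat g] [IsProper h]
    [LocallyOfFinitePresentation h]
    (w : f ≫ h = g) (s : S) (hs : IsIso (pullback.snd f (h.fiberι s))) :
    ∃ V : S.Opens, s ∈ V ∧ IsIso (f ∣_ (h ⁻¹ᵁ V)) := by
  classical
  let E := etaleLocus f
  haveI hE : Etale (E.ι ≫ f) := etale_etaleLocus f
  have hsE : ∀ x : X, g x = s → x ∈ E := fun x hx =>
    mem_etaleLocus_of_isIso_fibre g h f w x (hx ▸ hs)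
  -- first closed set
  let Z₁ : Set S := g '' (E : Set X)ᶜ
  have hZ₁ : IsClosed Z₁ := g.isClosedMap _ E.2.isClosed_compl
  have hsZ₁ : s ∉ Z₁ := by
    rintro ⟨x, hx, rfl⟩
    exact hx (hsE x rfl)
  -- second closed set
  let FE : Set Y := Set.range (E.ι ≫ f)
  have hFE : IsOpen FE := (E.ι ≫ f).isOpenMap.isOpen_range
  let Z₂ : Set S := h '' FEᶜ
  have hZ₂ : IsClosed Z₂ := h.isClosedMap _ hFE.isClosed_compl
  have hsZ₂ : s ∉ Z₂ := by
    rintro ⟨y, hy, rfl⟩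
    apply hy
    obtain ⟨z, hz⟩ := (pullback.snd f (h.fiberι (h y))).surjective (h.asFiber y)
    have hx : f (pullback.fst f (h.fiberι (h y)) z) = y := by
      rw [← Scheme.Hom.comp_apply, pullback.condition, Scheme.Hom.comp_apply, hz,
        h.fiberι_asFiber]
    have hxE : pullback.fst f (h.fiberι (h y)) z ∈ E :=
      hsE _ (by rw [← w, Scheme.Hom.comp_apply, hx])
    exact ⟨⟨_, hxE⟩, hx⟩
  -- third closed set
  haveI : IsOpenImmersion (E.ι ≫ pullback.diagonal f) := by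
    have : E.ι ≫ pullback.diagonal f = pullback.diagonal (E.ι ≫ f) ≫
        pullback.map (E.ι ≫ f) (E.ι ≫ f) f f E.ι E.ι (𝟙 Y) (by simp) (by simp) := by
      apply pullback.hom_ext
      · simp [pullback.map]
        rw [pullback.lift_fst, pullback.diagonal_fst_assoc]
      · simp [pullback.map]
        rw [pullback.lift_snd, pullback.diagonal_snd_assoc]
    rw [this]
    infer_instance
  let D : Set ↥(pullback f f) := (Set.range (E.ι ≫ pullback.diagonal f))ᶜ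
  have hD : IsClosed D := (E.ι ≫ pullback.diagonal f).isOpenEmbedding.isOpen_range.isClosed_compl
  haveI : UniversallyClosed f := by
    have : UniversallyClosed (f ≫ h) := w ▸ inferInstance
    exact MorphismProperty.HasOfPostcompProperty.of_postcomp (W := @UniversallyClosed)
      (W' := @IsSeparated) f h inferInstance this
  haveI : UniversallyClosed (pullback.fst f f ≫ g) := inferInstance
  let Z₃ : Set S := (pullback.fst f f ≫ g) '' D
  have hZ₃ : IsClosed Z₃ := (pullback.fst f f ≫ g).isClosedMap _ hD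
  have hsZ₃ : s ∉ Z₃ := by
    rintro ⟨p, hp, rfl⟩
    apply hp
    let c := (pullback f f).fromSpecResidueField p
    let b₁ := c ≫ pullback.fst f f
    let b₂ := c ≫ pullback.snd f f
    have h12 : b₁ ≫ f = b₂ ≫ f := by simp [b₁, b₂, pullback.condition]
    have hpt : (b₁ ≫ f ≫ h) (IsLocalRing.closedPoint _) = (pullback.fst f f ≫ g) p := by
      simp [b₁, c, w]
    have hb : b₁ = b₂ := eq_of_mono_fibre h f b₁ b₂ h12 _ hpt inferInstance
    have hc : c = b₁ ≫ pullback.diagonal f := by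
      apply pullback.hom_ext
      · simp [b₁]
      · simp only [Category.assoc, pullback.diagonal_snd, Category.comp_id]
        exact hb.symm
    have hxp : (pullback.diagonal f) (b₁ (IsLocalRing.closedPoint _)) = p := by
      rw [← Scheme.Hom.comp_apply, ← hc]
      exact (pullback f f).fromSpecResidueField_apply p _
    have hxE : b₁ (IsLocalRing.closedPoint _) ∈ E := hsE _ (by
      rw [← hpt, ← w]
      rfl)
    exact ⟨⟨_, hxE⟩, hxp⟩
  -- the neighbourhood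
  let V : S.Opens := ⟨(Z₁ ∪ Z₂ ∪ Z₃)ᶜ, ((hZ₁.union hZ₂).union hZ₃).isOpen_compl⟩
  have hsV : s ∈ V := by
    rintro ((h1 | h2) | h3)
    exacts [hsZ₁ h1, hsZ₂ h2, hsZ₃ h3]
  refine ⟨V, hsV, ?_⟩
  have hle : f ⁻¹ᵁ (h ⁻¹ᵁ V) ≤ E := by
    intro x hx
    by_contra hxE
    have hx' : h (f x) ∈ V := hx
    refine hx' (Or.inl (Or.inl ⟨x, hxE, ?_⟩))
    rw [← w]
    rfl
  haveI : Etale (f ∣_ (h ⁻¹ᵁ V)) := by
    have e1 : (f ∣_ (h ⁻¹ᵁ V)) ≫ (h ⁻¹ᵁ V).ι = X.homOfLE hle ≫ E.ι ≫ f := by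
      rw [morphismRestrict_ι, ← Category.assoc, Scheme.homOfLE_ι]
    haveI : Etale ((f ∣_ (h ⁻¹ᵁ V)) ≫ (h ⁻¹ᵁ V).ι) := by
      rw [e1]
      infer_instance
    exact Etale.of_comp (f ∣_ (h ⁻¹ᵁ V)) (h ⁻¹ᵁ V).ι
  haveI : Surjective (f ∣_ (h ⁻¹ᵁ V)) := by
    rw [surjective_iff]
    intro y
    have hy : h y.1 ∈ V := y.2
    have hyFE : y.1 ∈ FE := by
      by_contra hn
      exact hy (Or.inl (Or.inr ⟨y.1, hn, rfl⟩))
    obtain ⟨x', hx'⟩ := hyFE
    have hx'' : f x'.1 = y.1 := hx'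
    have hxW : x'.1 ∈ f ⁻¹ᵁ (h ⁻¹ᵁ V) := by
      change f x'.1 ∈ h ⁻¹ᵁ V
      rw [hx'']
      exact y.2
    refine ⟨⟨x'.1, hxW⟩, Subtype.ext ?_⟩
    rw [morphismRestrict_base_coe]
    exact hx''
  haveI : UniversallyInjective (f ∣_ (h ⁻¹ᵁ V)) := by
    refine ((tfae_universallyInjective (f ∣_ (h ⁻¹ᵁ V))).out 0 1).mpr ?_
    intro K _ a₁ a₂ (h12 : a₁ ≫ (f ∣_ (h ⁻¹ᵁ V)) = a₂ ≫ (f ∣_ (h ⁻¹ᵁ V)))
    have hb12 : (a₁ ≫ (f ⁻¹ᵁ (h ⁻¹ᵁ V)).ι) ≫ f = (a₂ ≫ (f ⁻¹ᵁ (h ⁻¹ᵁ V)).ι) ≫ f := by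
      rw [Category.assoc, Category.assoc, ← morphismRestrict_ι, reassoc_of% h12]
    let c : Spec (.of K) ⟶ pullback f f := pullback.lift _ _ hb12
    have hcV : (pullback.fst f f ≫ g) (c (IsLocalRing.closedPoint K)) ∈ V := by
      have h1 : c ≫ pullback.fst f f ≫ g = a₁ ≫ (f ⁻¹ᵁ (h ⁻¹ᵁ V)).ι ≫ f ≫ h := by
        rw [pullback.lift_fst_assoc, w, Category.assoc]
      rw [← Scheme.Hom.comp_apply, h1]
      exact (a₁ (IsLocalRing.closedPoint K)).2
    have hcD : c (IsLocalRing.closedPoint K) ∈ Set.range (E.ι ≫ pullback.diagonal f) := by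
      by_contra hn
      exact hcV (Or.inr ⟨_, hn, rfl⟩)
    have hrange : Set.range c ⊆ Set.range (E.ι ≫ pullback.diagonal f) := by
      rintro _ ⟨z, rfl⟩
      have : z = IsLocalRing.closedPoint K := Subsingleton.elim _ _
      rw [this]
      exact hcD
    let c' := IsOpenImmersion.lift (E.ι ≫ pullback.diagonal f) c hrange
    have hc' : c' ≫ E.ι ≫ pullback.diagonal f = c :=
      IsOpenImmersion.lift_fac (E.ι ≫ pullback.diagonal f) c hrange
    have h3 : a₁ ≫ (f ⁻¹ᵁ (h ⁻¹ᵁ V)).ι = c' ≫ E.ι := by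
      have : c ≫ pullback.fst f f = a₁ ≫ (f ⁻¹ᵁ (h ⁻¹ᵁ V)).ι := pullback.lift_fst _ _ _
      rw [← this, ← hc']
      simp
    have h4 : a₂ ≫ (f ⁻¹ᵁ (h ⁻¹ᵁ V)).ι = c' ≫ E.ι := by
      have : c ≫ pullback.snd f f = a₂ ≫ (f ⁻¹ᵁ (h ⁻¹ᵁ V)).ι := pullback.lift_snd _ _ _
      rw [← this, ← hc']
      simp
    exact (cancel_mono (f ⁻¹ᵁ (h ⁻¹ᵁ V)).ι).mp (h3.trans h4.symm)
  haveI : IsOpenImmersion (f ∣_ (h ⁻¹ᵁ V)) := Groth.Agent.S3694.result _
  rw [isIso_iff_isOpenImmersion_and_surjective]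
  exact ⟨inferInstance, inferInstance⟩

end Groth.Agent.Helper3.IsoLoc
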