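import Mathlib
import Groth.Agent.Lib.Helper3.IsoLoc2

/-! The locus of points of the base over which a morphism of proper flat schemes is an
isomorphism on fibres is open (EGA III 4.6.7). Part 3: the global statement. -/

set_option autoImplicit false
universe u
namespace Groth.Agent.Helper3.IsoLoc

open CategoryTheory CategoryTheory.Limits AlgebraicGeometry Opposite

variable {X Y S : Scheme.{u}}

theorem fibreCond_iff (g : X ⟶ S) (h : Y ⟶ S) (f : X ⟶ Y) (w : f ≫ h = g) (s : S) :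
    (∃ e : g.fiber s ≅ h.fiber s, e.hom ≫ h.fiberι s = g.fiberι s ≫ f) ↔
      IsIso (pullback.snd f (h.fiberι s)) := by
  have sq := Groth.Agent.Lib.Helper6.EtLoc.isPullback_fiberMapOver h g f w s
  have hsnd : sq.isoPullback.hom ≫ pullback.snd f (h.fiberι s) =
      CohIII.fiberMapOver f g h w s := sq.isoPullback_hom_snd
  haveI : Mono (h.fiberι s) := by
    unfold Scheme.Hom.fiberι
    haveI : Mono (S.fromSpecResidueField s) := inferInstance
    exact pullback.fst_of_mono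
  constructor
  · rintro ⟨e, he⟩
    have h0 : e.hom = CohIII.fiberMapOver f g h w s := by
      rw [← cancel_mono (h.fiberι s), he]
      exact sq.w
    have h1 : IsIso (CohIII.fiberMapOver f g h w s) := h0 ▸ inferInstance
    have h2 : pullback.snd f (h.fiberι s) =
        sq.isoPullback.inv ≫ CohIII.fiberMapOver f g h w s :=
      (Iso.eq_inv_comp _).mpr hsnd
    rw [h2]
    infer_instance
  · intro hi
    have h1 : IsIso (CohIII.fiberMapOver f g h w s) := by
      rw [← hsnd]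
      infer_instance
    exact ⟨asIso (CohIII.fiberMapOver f g h w s), sq.w.symm⟩

theorem isIso_snd_of_isIso_restrict_aux (f : X ⟶ Y) (W : Y.Opens) [IsIso (f ∣_ W)]
    {T : Scheme.{u}} (k' : T ⟶ W) : IsIso (pullback.snd f (k' ≫ W.ι)) := by
  have big : IsPullback (pullback.fst (f ∣_ W) k' ≫ (f ⁻¹ᵁ W).ι) (pullback.snd (f ∣_ W) k') f
      (k' ≫ W.ι) :=
    ((IsPullback.of_hasPullback (f ∣_ W) k').flip.paste_vert
      (isPullback_morphismRestrict f W)).flip
  have h2 : pullback.snd f (k' ≫ W.ι) = big.isoPullback.inv ≫ pullback.snd (f ∣_ W) k' :=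
    (Iso.eq_inv_comp _).mpr big.isoPullback_hom_snd
  rw [h2]
  infer_instance

theorem isIso_snd_of_isIso_restrict (f : X ⟶ Y) (W : Y.Opens) [IsIso (f ∣_ W)]
    {T : Scheme.{u}} (k : T ⟶ Y) (hk : Set.range k ⊆ W) : IsIso (pullback.snd f k) := by
  have hk' : Set.range k ⊆ Set.range W.ι := by
    rw [Scheme.Opens.range_ι]
    exact hk
  have e : IsOpenImmersion.lift W.ι k hk' ≫ W.ι = k := IsOpenImmersion.lift_fac _ _ _
  have := isIso_snd_of_isIso_restrict_aux f W (IsOpenImmersion.lift W.ι k hk')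
  rwa [e] at this

theorem S10888_main (g : X ⟶ S) (h : Y ⟶ S)
    [IsProper g] [LocallyOfFinitePresentation g] [Flat g] [IsProper h]
    [LocallyOfFinitePresentation h]
    (f : X ⟶ Y) (w : f ≫ h = g) :
    ∃ U : S.Opens, (∀ s : S, s ∈ U ↔
        ∃ e : g.fiber s ≅ h.fiber s, e.hom ≫ h.fiberι s = g.fiberι s ≫ f) ∧
      IsIso (f ∣_ (h ⁻¹ᵁ U)) := by
  let U : S.Opens := ⨆ V : {V : S.Opens // IsIso (f ∣_ (h ⁻¹ᵁ V))}, V.1
  have hU : ∀ s, s ∈ U ↔ IsIso (pullback.snd f (h.fiberι s)) := by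
    intro s
    constructor
    · intro hs
      obtain ⟨V, hsV⟩ := TopologicalSpace.Opens.mem_iSup.mp hs
      haveI := V.2
      refine isIso_snd_of_isIso_restrict f (h ⁻¹ᵁ V.1) (h.fiberι s) ?_
      rw [Scheme.Hom.range_fiberι]
      intro y hy
      have : h y = s := hy
      change h y ∈ V.1
      rw [this]
      exact hsV
    · intro hs
      obtain ⟨V, hsV, hV⟩ := exists_nhd_isIso g h f w s hs
      exact TopologicalSpace.Opens.mem_iSup.mpr ⟨⟨V, hV⟩, hsV⟩
  refine ⟨U, fun s => (hU s).trans (fibreCond_iff g h f w s).symm, ?_⟩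
  change MorphismProperty.isomorphisms Scheme (f ∣_ (h ⁻¹ᵁ U))
  have hsup : (⨆ V : {V : S.Opens // IsIso (f ∣_ (h ⁻¹ᵁ V))},
      (h ⁻¹ᵁ U).ι ⁻¹ᵁ (h ⁻¹ᵁ V.1)) = ⊤ := by
    rw [eq_top_iff]
    intro x _
    have hx : h x.1 ∈ U := x.2
    obtain ⟨V, hxV⟩ := TopologicalSpace.Opens.mem_iSup.mp hx
    exact TopologicalSpace.Opens.mem_iSup.mpr ⟨V, hxV⟩
  refine (IsZariskiLocalAtTarget.iff_of_iSup_eq_top (P := MorphismProperty.isomorphisms Scheme)
    (f := f ∣_ (h ⁻¹ᵁ U)) _ hsup).mpr fun V => ?_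
  have e : (h ⁻¹ᵁ U).ι ''ᵁ ((h ⁻¹ᵁ U).ι ⁻¹ᵁ (h ⁻¹ᵁ V.1)) = h ⁻¹ᵁ V.1 := by
    rw [Scheme.Hom.image_preimage_eq_opensRange_inf, Scheme.Opens.opensRange_ι]
    refine inf_eq_right.mpr ?_
    intro y hy
    exact TopologicalSpace.Opens.mem_iSup.mpr ⟨V, hy⟩
  rw [(MorphismProperty.isomorphisms Scheme).arrow_mk_iso_iff
    (morphismRestrictRestrict f (h ⁻¹ᵁ U) _ ≪≫ morphismRestrictEq f e)]
  exact V.2

end Groth.Agent.Helper3.IsoLoc
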