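import Mathlib
import Groth.Agent.Lib.Helper3.IsoLoc3

/-! Noetherian form of the openness of the isomorphism locus (S6712). -/

set_option autoImplicit false
universe u
namespace Groth.Agent.Helper3.IsoLoc

open CategoryTheory CategoryTheory.Limits AlgebraicGeometry Opposite

variable {X Y S : Scheme.{u}}

theorem lfp_of_lft_of_isLocallyNoetherian (f : X ⟶ S) [LocallyOfFiniteType f]
    [IsLocallyNoetherian S] : LocallyOfFinitePresentation f := by
  rw [HasRingHomProperty.iff_appLE (P := @LocallyOfFinitePresentation)]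
  intro U V hUV
  have h1 := LocallyOfFiniteType.finiteType_appLE f U.2 V.2 hUV
  haveI : IsNoetherianRing Γ(S, U.1) := IsLocallyNoetherian.component_noetherian U
  exact RingHom.FinitePresentation.of_finiteType.mp h1

/-- the map of pullbacks along `t : T ⟶ S` is a base change of `p` -/
theorem isPullback_map (g : X ⟶ S) (h : Y ⟶ S) (p : X ⟶ Y) (w : p ≫ h = g) {T : Scheme.{u}}
    (t : T ⟶ S) :
    IsPullback (pullback.fst g t)
      (pullback.map g t h t p (𝟙 _) (𝟙 _) ((Category.comp_id g).trans w.symm)
        ((Category.comp_id _).trans (Category.id_comp _).symm)) p (pullback.fst h t) := by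
  refine IsPullback.of_bot (v₂₁ := pullback.snd h t) ?_ ?_ (IsPullback.of_hasPullback h t)
  · have h1 : pullback.map g t h t p (𝟙 _) (𝟙 _) ((Category.comp_id g).trans w.symm)
        ((Category.comp_id _).trans (Category.id_comp _).symm) ≫ pullback.snd h t =
        pullback.snd g t :=
      (pullback.lift_snd _ _ _).trans (Category.comp_id _)
    rw [h1, w]
    exact IsPullback.of_hasPullback g t
  · exact (pullback.lift_fst _ _ _).symm

theorem isIso_map_iff (g : X ⟶ S) (h : Y ⟶ S) (p : X ⟶ Y) (w : p ≫ h = g) {T : Scheme.{u}}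
    (t : T ⟶ S) :
    IsIso (pullback.map g t h t p (𝟙 _) (𝟙 _) ((Category.comp_id g).trans w.symm)
        ((Category.comp_id _).trans (Category.id_comp _).symm)) ↔
      IsIso (pullback.snd p (pullback.fst h t)) := by
  have sq := isPullback_map g h p w t
  have hsnd := sq.isoPullback_hom_snd
  constructor
  · intro hi
    have h2 : pullback.snd p (pullback.fst h t) = sq.isoPullback.inv ≫
        pullback.map g t h t p (𝟙 _) (𝟙 _) ((Category.comp_id g).trans w.symm)
        ((Category.comp_id _).trans (Category.id_comp _).symm) :=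
      (Iso.eq_inv_comp _).mpr hsnd
    rw [h2]
    infer_instance
  · intro hi
    rw [← hsnd]
    infer_instance

theorem S6712_main [IsNoetherian S] (s : S) (g : X ⟶ S) (h : Y ⟶ S) (p : X ⟶ Y)
    (w : p ≫ h = g) [IsProper g] [IsProper h] [Flat g]
    (hs : IsIso (pullback.map g (S.fromSpecResidueField s) h (S.fromSpecResidueField s) p (𝟙 _)
      (𝟙 _) ((Category.comp_id g).trans w.symm)
      ((Category.comp_id _).trans (Category.id_comp _).symm))) :
    ∃ U : S.Opens, s ∈ U ∧
      IsIso (pullback.map g U.ι h U.ι p (𝟙 _) (𝟙 _) ((Category.comp_id g).trans w.symm)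
        ((Category.comp_id _).trans (Category.id_comp _).symm)) := by
  haveI := lfp_of_lft_of_isLocallyNoetherian g
  haveI := lfp_of_lft_of_isLocallyNoetherian h
  have hs' : IsIso (pullback.snd p (h.fiberι s)) := (isIso_map_iff g h p w _).mp hs
  obtain ⟨U, hsU, hU⟩ := exists_nhd_isIso g h p w s hs'
  refine ⟨U, hsU, (isIso_map_iff g h p w U.ι).mpr ?_⟩
  refine isIso_snd_of_isIso_restrict p (h ⁻¹ᵁ U) (pullback.fst h U.ι) ?_
  rintro _ ⟨z, rfl⟩
  change h (pullback.fst h U.ι z) ∈ U
  rw [← Scheme.Hom.comp_apply, pullback.condition, Scheme.Hom.comp_apply]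
  exact (pullback.snd h U.ι z).2

end Groth.Agent.Helper3.IsoLoc
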