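import Mathlib.RingTheory.TensorProduct.Free
import Mathlib.RingTheory.LocalRing.ResidueField.Ideal
import Mathlib.RingTheory.Nilpotent.Lemmas
import Mathlib.RingTheory.Ideal.Operations
import Mathlib.LinearAlgebra.Basis.VectorSpace
import Mathlib.RingTheory.Nilpotent.Basic
import Mathlib.AlgebraicGeometry.Geometrically.Reduced
import Mathlib.AlgebraicGeometry.Pullbacks

/-! Products of a geometrically reduced scheme over a field with a reduced scheme are reduced
(no Noetherian hypotheses). -/

universe u
open TensorProduct

namespace Groth.Agent.Helper3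

theorem isReduced_tensor_of_forall_field (k : Type u) [Field k] (A B : Type u) [CommRing A]
    [CommRing B] [Algebra k A] [Algebra k B] [IsReduced B]
    (h : ∀ (K : Type u) [Field K] [Algebra k K], IsReduced (K ⊗[k] A)) : IsReduced (B ⊗[k] A) := by
  let b := Module.Free.chooseBasis k A
  refine ⟨fun x hx => ?_⟩
  by_contra hne
  have hrepr : (Algebra.TensorProduct.basis B b).repr x ≠ 0 := by
    intro h0
    exact hne ((Algebra.TensorProduct.basis B b).repr.map_eq_zero_iff.mp h0)
  obtain ⟨i, hi⟩ : ∃ i, (Algebra.TensorProduct.basis B b).repr x i ≠ 0 := by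
    by_contra hcon
    push Not at hcon
    exact hrepr (Finsupp.ext hcon)
  set c := (Algebra.TensorProduct.basis B b).repr x i with hc
  have hcn : ¬ IsNilpotent c := fun hn => hi (hn.eq_zero)
  have : c ∉ nilradical B := hcn
  rw [nilradical_eq_sInf, Ideal.mem_sInf] at this
  push Not at this
  obtain ⟨p, hp, hcp⟩ := this
  have hp' : p.IsPrime := hp
  let K := p.ResidueField
  let ψ : B →ₐ[k] K := IsScalarTower.toAlgHom k B K
  let φ : B ⊗[k] A →ₐ[k] K ⊗[k] A := Algebra.TensorProduct.map ψ (AlgHom.id k A)
  have hφx : φ x = 0 := by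
    have : IsReduced (K ⊗[k] A) := h K
    exact (hx.map φ).eq_zero
  have key : ∀ y : B ⊗[k] A, (Algebra.TensorProduct.basis K b).repr (φ y) i =
      algebraMap B K ((Algebra.TensorProduct.basis B b).repr y i) := by
    intro y
    induction y using TensorProduct.induction_on with
    | zero => simp
    | tmul b' a =>
      simp only [φ, Algebra.TensorProduct.map_tmul, Algebra.TensorProduct.basis_repr_tmul,
        AlgHom.coe_id, id_eq, Finsupp.smul_apply, Finsupp.mapRange_apply, smul_eq_mul, map_mul]
      rw [← IsScalarTower.algebraMap_apply k B K]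
      rfl
    | add y z hy hz => simp [map_add, hy, hz]
  have := key x
  rw [hφx, map_zero, Finsupp.zero_apply] at this
  exact hcp (Ideal.algebraMap_residueField_eq_zero.mp this.symm)

open AlgebraicGeometry CategoryTheory Limits

instance geometricallyReduced_comp_of_isOpenImmersion {U X S : Scheme.{u}} (j : U ⟶ X) (f : X ⟶ S)
    [IsOpenImmersion j] [GeometricallyReduced f] : GeometricallyReduced (j ≫ f) := by
  refine ⟨geometrically_iff_of_isClosedUnderIsomorphisms.mpr fun K _ y => ?_⟩
  have h1 : IsReduced (pullback f y) :=
    pullback_of_geometrically (GeometricallyReduced.geometrically_isReduced (f := f)) K y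
  have h2 : IsReduced (pullback j (pullback.fst f y)) :=
    isReduced_of_isOpenImmersion (pullback.snd j (pullback.fst f y))
  exact isReduced_of_isOpenImmersion (pullbackRightPullbackFstIso f y j).inv

/-- Affine case. -/
theorem isReduced_pullback_Spec (k : Type u) [Field k] (A B : Type u) [CommRing A] [CommRing B]
    [Algebra k A] [Algebra k B] [_root_.IsReduced B]
    [hA : GeometricallyReduced (Spec.map (CommRingCat.ofHom (algebraMap k A)))] :
    IsReduced (pullback (Spec.map (CommRingCat.ofHom (algebraMap k A)))
      (Spec.map (CommRingCat.ofHom (algebraMap k B)))) := by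
  have hK : ∀ (K : Type u) [Field K] [Algebra k K], _root_.IsReduced (K ⊗[k] A) := by
    intro K _ _
    have h1 : IsReduced (pullback (Spec.map (CommRingCat.ofHom (algebraMap k A)))
        (Spec.map (CommRingCat.ofHom (algebraMap k K)))) :=
      pullback_of_geometrically hA.geometrically_isReduced K _
    have h2 : IsReduced (Spec (.of (A ⊗[k] K))) :=
      isReduced_of_isOpenImmersion (pullbackSpecIso k A K).inv
    have h3 : _root_.IsReduced (A ⊗[k] K) := (affine_isReduced_iff _).mp h2
    exact isReduced_of_injective (Algebra.TensorProduct.comm k K A).toRingHom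
      (Algebra.TensorProduct.comm k K A).injective
  have h4 : _root_.IsReduced (B ⊗[k] A) := isReduced_tensor_of_forall_field k A B hK
  have h5 : _root_.IsReduced (A ⊗[k] B) :=
    isReduced_of_injective (Algebra.TensorProduct.comm k A B).toRingHom
      (Algebra.TensorProduct.comm k A B).injective
  have h6 : IsReduced (Spec (.of (A ⊗[k] B))) := (affine_isReduced_iff _).mpr h5
  exact isReduced_of_isOpenImmersion (pullbackSpecIso k A B).hom

/-- Affine case, categorical form. -/
theorem isReduced_pullback_SpecMap {k : Type u} [Field k] (R T : CommRingCat.{u})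
    (φ : CommRingCat.of k ⟶ R) (ψ : CommRingCat.of k ⟶ T) [GeometricallyReduced (Spec.map φ)]
    [_root_.IsReduced T] : IsReduced (pullback (Spec.map φ) (Spec.map ψ)) := by
  algebraize [φ.hom, ψ.hom]
  exact isReduced_pullback_Spec k R T

/-- Affine case, for abstract affine schemes. -/
theorem isReduced_pullback_of_isAffine {k : Type u} [Field k] {U V : Scheme.{u}} [IsAffine U]
    [IsAffine V] (a : U ⟶ Spec (CommRingCat.of k)) (b : V ⟶ Spec (CommRingCat.of k))
    [GeometricallyReduced a] [IsReduced V] : IsReduced (pullback a b) := by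
  obtain ⟨φ, hφ⟩ := Spec.map_surjective (U.isoSpec.inv ≫ a)
  obtain ⟨ψ, hψ⟩ := Spec.map_surjective (V.isoSpec.inv ≫ b)
  have hr : GeometricallyReduced (Spec.map φ) := hφ ▸ inferInstance
  have key := isReduced_pullback_SpecMap _ _ φ ψ
  rw [hφ, hψ] at key
  exact isReduced_of_isOpenImmersion
    (pullback.map a b (U.isoSpec.inv ≫ a) (V.isoSpec.inv ≫ b) U.isoSpec.hom V.isoSpec.hom (𝟙 _)
      (by simp) (by simp))

/-- A geometrically reduced scheme over a field times a reduced scheme is reduced. -/
theorem isReduced_pullback_of_geometricallyReduced {k : Type u} [Field k] {X S : Scheme.{u}}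
    (f : X ⟶ Spec (CommRingCat.of k)) (g : S ⟶ Spec (CommRingCat.of k)) [GeometricallyReduced f]
    [IsReduced S] : IsReduced (pullback f g) := by
  refine @IsReduced.of_openCover _
    (Scheme.Pullback.openCoverOfLeftRight X.affineCover S.affineCover f g) ?_
  rintro ⟨i, j⟩
  change IsReduced (pullback (X.affineCover.f i ≫ f) (S.affineCover.f j ≫ g))
  have : IsReduced (S.affineCover.X j) := isReduced_of_isOpenImmersion (S.affineCover.f j)
  exact isReduced_pullback_of_isAffine _ _

end Groth.Agent.Helper3
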