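import Mathlib.AlgebraicGeometry.Morphisms.Proper
import Mathlib.AlgebraicGeometry.Morphisms.ClosedImmersion
import Mathlib.AlgebraicGeometry.Morphisms.FiniteType
import Mathlib.AlgebraicGeometry.Morphisms.Immersion
import Mathlib.AlgebraicGeometry.IdealSheaf.Functorial
import Mathlib.AlgebraicGeometry.PullbackCarrier
import Groth.Prelude.Def_ClSub2

/-!
# Closed subsets proper over a base (helper library, helper3)

* `universallyClosed_of_jointly_surjective`, `isSeparated_of_jointly_surjective`,
  `isProper_of_jointly_surjective`: descent of properness along a finite jointly surjective family.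
* `isProperOver_iff_of_isClosedImmersion`: `ClSub.IsProperOver f (range i) ↔ IsProper (i ≫ f)` for any
  closed immersion `i`.
-/

universe u

open CategoryTheory CategoryTheory.Limits AlgebraicGeometry

namespace Groth.Agent.Helper3

section Descent

variable {ι : Type*} [Finite ι] {T S : Scheme.{u}} {T' : ι → Scheme.{u}}

lemma universallyClosed_of_jointly_surjective (j : ∀ k, T' k ⟶ T)
    (hj : ∀ t : T, ∃ k, t ∈ Set.range (j k)) (g : T ⟶ S)
    (h : ∀ k, UniversallyClosed (j k ≫ g)) : UniversallyClosed g := by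
  refine ⟨?_⟩
  intro X' Y' i₁ i₂ g' hpb C hC
  have key : ∀ k, IsClosedMap (pullback.snd (j k) i₁ ≫ g') := by
    intro k
    have h1 : IsPullback (pullback.snd (j k) i₁) (pullback.fst (j k) i₁) i₁ (j k) :=
      (IsPullback.of_hasPullback (j k) i₁).flip
    have h2 := h1.paste_horiz hpb
    exact (h k).universally_isClosedMap _ _ _ h2
  have : (g' : X' → Y') '' C =
      ⋃ k, (pullback.snd (j k) i₁ ≫ g' : _ → Y') '' ((pullback.snd (j k) i₁ : _ → X') ⁻¹' C) := by
    ext y
    simp only [Set.mem_image, Set.mem_iUnion, Set.mem_preimage]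
    constructor
    · rintro ⟨x, hx, rfl⟩
      obtain ⟨k, t, ht⟩ := hj (i₁ x)
      obtain ⟨z, hz1, hz2⟩ := Scheme.Pullback.exists_preimage_pullback (f := j k) (g := i₁) t x ht
      exact ⟨k, z, by rw [hz2]; exact hx, by simp [hz2]⟩
    · rintro ⟨k, z, hz, rfl⟩
      exact ⟨_, hz, by simp⟩
  rw [this]
  exact isClosed_iUnion_of_finite fun k =>
    key k _ (hC.preimage (pullback.snd (j k) i₁).continuous)

lemma isSeparated_of_jointly_surjective (j : ∀ k, T' k ⟶ T) [∀ k, UniversallyClosed (j k)]
    (hj : ∀ t : T, ∃ k, t ∈ Set.range (j k)) (g : T ⟶ S)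
    (h : ∀ k, IsSeparated (j k ≫ g)) : IsSeparated g := by
  refine ⟨?_⟩
  apply IsClosedImmersion.of_isPreimmersion
  have : Set.range (pullback.diagonal g) = ⋃ k, Set.range (j k ≫ pullback.diagonal g) := by
    ext x
    simp only [Set.mem_range, Set.mem_iUnion]
    constructor
    · rintro ⟨t, rfl⟩
      obtain ⟨k, t', rfl⟩ := hj t
      exact ⟨k, t', by simp⟩
    · rintro ⟨k, t', rfl⟩
      exact ⟨j k t', by simp⟩
  rw [this]
  refine isClosed_iUnion_of_finite fun k => ?_
  rw [pullback.comp_diagonal]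
  have : UniversallyClosed (pullback.map (j k ≫ g) (j k ≫ g) g g (j k) (j k) (𝟙 S)
      (by simp) (by simp)) :=
    MorphismProperty.pullbackMap (P := @UniversallyClosed) (f := j k ≫ g) (g := j k ≫ g)
      (f' := g) (g' := g) (i₁ := j k) (i₂ := j k) inferInstance inferInstance rfl rfl
  have := h k
  exact (Scheme.Hom.isClosedMap _).isClosed_range

lemma isProper_of_jointly_surjective (j : ∀ k, T' k ⟶ T) [∀ k, UniversallyClosed (j k)]
    (hj : ∀ t : T, ∃ k, t ∈ Set.range (j k)) (g : T ⟶ S) [LocallyOfFiniteType g]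
    (h : ∀ k, IsProper (j k ≫ g)) : IsProper g :=
  { toIsSeparated := isSeparated_of_jointly_surjective j hj g fun _ => inferInstance
    toUniversallyClosed := universallyClosed_of_jointly_surjective j hj g fun _ => inferInstance
    toLocallyOfFiniteType := inferInstance }

end Descent

section Reduced

variable {X S T : Scheme.{u}}

/-- The reduced induced closed subscheme on a closed subset. -/
noncomputable abbrev redSub (Z : Set X) (h : IsClosed Z) : Scheme.{u} :=
  (Scheme.IdealSheafData.vanishingIdeal ⟨Z, h⟩).subscheme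

/-- The closed immersion of the reduced induced closed subscheme. -/
noncomputable abbrev redι (Z : Set X) (h : IsClosed Z) : redSub Z h ⟶ X :=
  (Scheme.IdealSheafData.vanishingIdeal ⟨Z, h⟩).subschemeι

lemma range_redι (Z : Set X) (h : IsClosed Z) : Set.range (redι Z h) = Z := by
  rw [Scheme.IdealSheafData.range_subschemeι, Scheme.IdealSheafData.coe_support_vanishingIdeal]
  rfl

lemma isProperOver_iff (f : X ⟶ S) (Z : Set X) (h : IsClosed Z) :
    ClSub.IsProperOver f Z ↔ IsProper (redι Z h ≫ f) :=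
  ⟨fun ⟨_, h'⟩ => h', fun h' => ⟨h, h'⟩⟩

lemma ker_le_vanishingIdeal (i : T ⟶ X) [QuasiCompact i] (Z : Set X) (h : IsClosed Z)
    (hZ : Z ⊆ Set.range i) : i.ker ≤ Scheme.IdealSheafData.vanishingIdeal ⟨Z, h⟩ := by
  rw [← Scheme.IdealSheafData.le_support_iff_le_vanishingIdeal]
  intro x hx
  have e := Scheme.Hom.support_ker i
  have : x ∈ ((Scheme.Hom.ker i).support : Set X) := by
    rw [e]
    exact subset_closure (hZ hx)
  exact this

/-- The lift of the reduced subscheme on `Z` through any closed immersion whose range contains `Z`. -/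
noncomputable def redLift (i : T ⟶ X) [IsClosedImmersion i] (Z : Set X) (h : IsClosed Z)
    (hZ : Z ⊆ Set.range i) : redSub Z h ⟶ T :=
  IsClosedImmersion.lift i (redι Z h) (by
    rw [Scheme.IdealSheafData.ker_subschemeι]
    exact ker_le_vanishingIdeal i Z h hZ)

@[reassoc (attr := simp)]
lemma redLift_fac (i : T ⟶ X) [IsClosedImmersion i] (Z : Set X) (h : IsClosed Z)
    (hZ : Z ⊆ Set.range i) : redLift i Z h hZ ≫ i = redι Z h :=
  IsClosedImmersion.lift_fac _ _ _

instance (i : T ⟶ X) [IsClosedImmersion i] (Z : Set X) (h : IsClosed Z)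
    (hZ : Z ⊆ Set.range i) : IsClosedImmersion (redLift i Z h hZ) := by
  have : IsClosedImmersion (redLift i Z h hZ ≫ i) := by
    rw [redLift_fac]; infer_instance
  exact IsClosedImmersion.of_comp (redLift i Z h hZ) i

lemma redLift_surjective (i : T ⟶ X) [IsClosedImmersion i] (Z : Set X) (h : IsClosed Z)
    (hZ : Z = Set.range i) : Function.Surjective (redLift i Z h hZ.le) := by
  intro t
  have : i t ∈ Set.range (redι Z h) := by
    rw [range_redι, hZ]; exact ⟨t, rfl⟩
  obtain ⟨z, hz⟩ := this
  refine ⟨z, i.isClosedEmbedding.injective ?_⟩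
  rw [← hz, ← redLift_fac i Z h hZ.le]
  rfl

/-- If some closed subscheme with underlying set `Z` is proper over `S`, so is `Z`. -/
lemma isProperOver_of_isClosedImmersion (f : X ⟶ S) (i : T ⟶ X)
    [IsClosedImmersion i] (Z : Set X) (hZ : Set.range i = Z) (hp : IsProper (i ≫ f)) :
    ClSub.IsProperOver f Z := by
  have h : IsClosed Z := hZ ▸ i.isClosedEmbedding.isClosed_range
  rw [isProperOver_iff f Z h]
  have e : redι Z h ≫ f = redLift i Z h hZ.ge ≫ i ≫ f := by
    rw [redLift_fac_assoc]
  rw [e]
  infer_instance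

/-- `Z` is proper over `S` iff some/any closed subscheme with underlying set `Z` is. -/
lemma isProperOver_iff_of_isClosedImmersion (f : X ⟶ S) [LocallyOfFiniteType f] (i : T ⟶ X)
    [IsClosedImmersion i] (Z : Set X) (hZ : Set.range i = Z) :
    ClSub.IsProperOver f Z ↔ IsProper (i ≫ f) := by
  refine ⟨?_, isProperOver_of_isClosedImmersion f i Z hZ⟩
  have h : IsClosed Z := hZ ▸ i.isClosedEmbedding.isClosed_range
  rw [isProperOver_iff f Z h]
  have e : redι Z h ≫ f = redLift i Z h hZ.ge ≫ i ≫ f := by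
    rw [redLift_fac_assoc]
  intro hp
  have hsurj := redLift_surjective i Z h hZ.symm
  have : ∀ _ : Unit, IsProper (redLift i Z h hZ.ge ≫ i ≫ f) := fun _ => e ▸ hp
  exact isProper_of_jointly_surjective (ι := Unit) (fun _ => redLift i Z h hZ.ge)
    (fun t => ⟨(), hsurj t⟩) (i ≫ f) this

variable {Y : Scheme.{u}}

/-- The map induced on reduced closed subschemes by a morphism mapping `Z` into `W`. -/
noncomputable def redMap (f : X ⟶ Y) (Z : Set X) (h : IsClosed Z) (W : Set Y) (h' : IsClosed W)
    (hZW : f '' Z ⊆ W) : redSub Z h ⟶ redSub W h' :=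
  IsClosedImmersion.lift (redι W h') (redι Z h ≫ f) (by
    rw [Scheme.Hom.ker_comp, Scheme.IdealSheafData.ker_subschemeι,
      Scheme.IdealSheafData.ker_subschemeι, Scheme.IdealSheafData.map_vanishingIdeal]
    apply Scheme.IdealSheafData.vanishingIdeal_antimono
    exact TopologicalSpace.Closeds.closure_le.mpr hZW)

@[reassoc (attr := simp)]
lemma redMap_fac (f : X ⟶ Y) (Z : Set X) (h : IsClosed Z) (W : Set Y) (h' : IsClosed W)
    (hZW : f '' Z ⊆ W) : redMap f Z h W h' hZW ≫ redι W h' = redι Z h ≫ f :=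
  IsClosedImmersion.lift_fac _ _ _

lemma redMap_surjective (f : X ⟶ Y) (Z : Set X) (h : IsClosed Z) (W : Set Y) (h' : IsClosed W)
    (hZW : f '' Z = W) : Function.Surjective (redMap f Z h W h' hZW.le) := by
  intro w
  have : redι W h' w ∈ f '' Z := by
    have hw : redι W h' w ∈ Set.range (redι W h') := ⟨w, rfl⟩
    rw [range_redι W h'] at hw
    rw [hZW]; exact hw
  obtain ⟨x, hx, hxw⟩ := this
  rw [← range_redι Z h] at hx
  obtain ⟨z, rfl⟩ := hx
  refine ⟨z, (redι W h').isClosedEmbedding.injective ?_⟩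
  rw [← hxw]
  exact congr($(redMap_fac f Z h W h' hZW.le) z)

end Reduced

end Groth.Agent.Helper3
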