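import Mathlib
import Groth.Prelude
import Groth.Agent.Lib.Helper3.FibStalk2
import Groth.Agent.Lib.Helper8.GorFlat11

/-!
# Gorenstein local rings of fibres under extension of the base field (helper3)
-/

set_option autoImplicit false
set_option linter.unusedSectionVars false
set_option linter.style.haveILetI false
universe u

open CategoryTheory CategoryTheory.Limits AlgebraicGeometry IsLocalRing TensorProduct

namespace Groth.Agent.Helper3.FibStalk

open Groth.Agent.Helper8.GorFlat LocCoh

/-- the local rings of the spectrum of a Gorenstein ring are Gorenstein -/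
theorem gor_stalk_spec (R : Type u) [CommRing R] (hR : IsGorensteinRing R)
    (p : Spec (CommRingCat.of R)) :
    IsGorensteinLocalRing ((Spec (CommRingCat.of R)).presheaf.stalk p) := by
  letI alg0 : Algebra R ((Spec (CommRingCat.of R)).presheaf.stalk p) :=
    StructureSheaf.stalkAlgebra (R := R) p
  haveI loc0 : IsLocalization.AtPrime ((Spec (CommRingCat.of R)).presheaf.stalk p) p.asIdeal :=
    StructureSheaf.IsLocalization.to_stalk R p
  haveI := p.isPrime
  exact isGorensteinLocalRing_of_ringEquiv
    (IsLocalization.algEquiv p.asIdeal.primeCompl (Localization.AtPrime p.asIdeal)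
      ((Spec (CommRingCat.of R)).presheaf.stalk p)).toRingEquiv
    (hR.isGorensteinLocalRing_localization p.asIdeal)

/-- the local rings of a scheme isomorphic to the spectrum of a Gorenstein ring are Gorenstein -/
theorem gor_stalk_of_iso_spec {F : Scheme.{u}} (R : Type u) [CommRing R] (hR : IsGorensteinRing R)
    (e : F ≅ Spec (CommRingCat.of R)) (t : F) : IsGorensteinLocalRing (F.presheaf.stalk t) := by
  haveI : IsIso (e.hom.stalkMap t) := inferInstance
  exact isGorensteinLocalRing_of_ringEquiv
    (asIso (e.hom.stalkMap t)).commRingCatIsoToRingEquiv (gor_stalk_spec R hR (e.hom t))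


/-- the residue field of a point of a scheme locally of finite type over a field `k` is an
essentially finitely generated extension of `k` -/
theorem essFiniteType_residue {W : Scheme.{u}} (k : Type u) [Field k]
    (h : W ⟶ Spec (CommRingCat.of k)) [LocallyOfFiniteType h] (w : W) :
    ∃ α : k →+* W.residueField w, α.EssFiniteType ∧
      Spec.map (CommRingCat.ofHom α) = W.fromSpecResidueField w ≫ h := by
  let a₀ : CommRingCat.of k ⟶ (Spec (CommRingCat.of k)).presheaf.stalk (h w) :=
    (Scheme.ΓSpecIso (CommRingCat.of k)).inv ≫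
      (Spec (CommRingCat.of k)).presheaf.germ ⊤ (h w) trivial
  have ha₀ : (Spec (CommRingCat.of k)).fromSpecStalk (h w) = Spec.map a₀ :=
    Spec.fromSpecStalk_eq _ _
  have hloc : a₀.hom.EssFiniteType := by
    letI alg0 : Algebra k ((Spec (CommRingCat.of k)).presheaf.stalk (h w)) :=
      StructureSheaf.stalkAlgebra (R := k) (h w)
    haveI loc0 : IsLocalization.AtPrime ((Spec (CommRingCat.of k)).presheaf.stalk (h w))
        (h w).asIdeal := StructureSheaf.IsLocalization.to_stalk k (h w)
    have : Algebra.EssFiniteType k ((Spec (CommRingCat.of k)).presheaf.stalk (h w)) :=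
      Algebra.EssFiniteType.of_isLocalization _ (h w).asIdeal.primeCompl
    rw [← RingHom.essFiniteType_algebraMap] at this
    exact this
  refine ⟨(a₀ ≫ h.stalkMap w ≫ W.residue w).hom, ?_, ?_⟩
  · rw [CommRingCat.hom_comp, CommRingCat.hom_comp]
    refine RingHom.EssFiniteType.comp hloc (RingHom.EssFiniteType.comp
      (LocallyOfFiniteType.stalkMap h w) ?_)
    exact (RingHom.FiniteType.of_surjective _ (W.residue_surjective w)).essFiniteType
  · rw [CommRingCat.ofHom_hom, Spec.map_comp, Spec.map_comp, ← ha₀, Category.assoc,
      Scheme.SpecMap_stalkMap_fromSpecStalk]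
    rfl


/-- the local rings of the fibres of a base change of a morphism of spectra of fields, applied to
a scheme locally of finite type, are Gorenstein -/
theorem gor_fiber_of_field_baseChange {W W' : Scheme.{u}} (k k' : Type u) [Field k] [Field k']
    (ι : k →+* k') (h : W ⟶ Spec (CommRingCat.of k)) (h' : W' ⟶ Spec (CommRingCat.of k'))
    (h₀ : W' ⟶ W) (sq : IsPullback h₀ h' h (Spec.map (CommRingCat.ofHom ι)))
    [LocallyOfFiniteType h] (w : W) (t : h₀.fiber w) :
    IsGorensteinLocalRing ((h₀.fiber w).presheaf.stalk t) := by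
  obtain ⟨α, hα, hαs⟩ := essFiniteType_residue k h w
  have sq1 : IsPullback (h₀.fiberι w) (h₀.fiberToSpecResidueField w) h₀
      (W.fromSpecResidueField w) := IsPullback.of_hasPullback _ _
  have sq2 := sq1.paste_horiz sq.flip
  rw [← hαs] at sq2
  letI : Algebra k k' := ι.toAlgebra
  letI : Algebra k (W.residueField w) := α.toAlgebra
  have hα' : Algebra.EssFiniteType k (W.residueField w) := by
    rw [← RingHom.essFiniteType_algebraMap]
    exact hα
  let e : h₀.fiber w ≅ Spec (CommRingCat.of (k' ⊗[k] W.residueField w)) :=
    sq2.isoPullback ≪≫ pullbackSpecIso k k' (W.residueField w)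
  have hG : IsGorensteinRing (k' ⊗[k] W.residueField w) :=
    isGorensteinRing_tensor_fields k k' _ (Or.inr hα')
  exact gor_stalk_of_iso_spec _ hG e t

/-- **Invariance of the Gorenstein property under extension of the base field.** -/
theorem gor_iff_of_field_baseChange {W W' : Scheme.{u}} (k k' : Type u) [Field k] [Field k']
    (ι : k →+* k') (h : W ⟶ Spec (CommRingCat.of k)) (h' : W' ⟶ Spec (CommRingCat.of k'))
    (h₀ : W' ⟶ W) (sq : IsPullback h₀ h' h (Spec.map (CommRingCat.ofHom ι)))
    [LocallyOfFiniteType h] (w' : W') :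
    IsGorensteinLocalRing (W'.presheaf.stalk w') ↔
      IsGorensteinLocalRing (W.presheaf.stalk (h₀ w')) := by
  haveI : IsLocallyNoetherian W := LocallyOfFiniteType.isLocallyNoetherian h
  haveI : LocallyOfFiniteType h' :=
    MorphismProperty.of_isPullback (P := @LocallyOfFiniteType) sq inferInstance
  haveI : IsLocallyNoetherian W' := LocallyOfFiniteType.isLocallyNoetherian h'
  haveI : Flat (Spec.map (CommRingCat.ofHom ι)) := by
    rw [HasRingHomProperty.Spec_iff (P := @Flat)]
    letI : Algebra k k' := ι.toAlgebra
    exact (inferInstance : Module.Flat k k')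
  haveI : Flat h₀ := MorphismProperty.of_isPullback (P := @Flat) sq.flip inferInstance
  obtain ⟨γ, hγ, hk⟩ := exists_fibre_presentation h₀ w'
  have D : FLData (h₀.stalkMap w').hom γ := ⟨Flat.stalkMap h₀ w', inferInstance, hγ, hk⟩
  rw [iff_of_flData D]
  exact ⟨fun h => h.1, fun h => ⟨h, gor_fiber_of_field_baseChange k k' ι _ _ _ sq _ _⟩⟩

end Groth.Agent.Helper3.FibStalk
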