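import Mathlib
import Groth.Prelude
import Groth.Agent.Lib.Helper3.FibStalk4

/-!
# The Gorenstein locus of a flat morphism locally of finite type commutes with base change (helper3)
-/

set_option autoImplicit false
set_option linter.unusedSectionVars false
set_option linter.style.haveILetI false
universe u

open CategoryTheory CategoryTheory.Limits AlgebraicGeometry IsLocalRing TensorProduct

namespace Groth.Agent.Helper3.FibStalk

open Groth.Agent.Helper8.GorFlat LocCoh

theorem apply_fiberι {X Y : Scheme.{u}} (f : X ⟶ Y) (y : Y) (w : f.fiber y) :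
    f (f.fiberι y w) = y := by
  have h : f.fiberι y w ∈ Set.range (f.fiberι y) := ⟨w, rfl⟩
  rw [f.range_fiberι y] at h
  exact h

/-- the local ring of a fibre at a point only depends on the image of the point in the source -/
theorem gor_fiber_congr {X Y : Scheme.{u}} (f : X ⟶ Y) {y₁ y₂ : Y} (w₁ : f.fiber y₁)
    (w₂ : f.fiber y₂) (h : f.fiberι y₁ w₁ = f.fiberι y₂ w₂) :
    IsGorensteinLocalRing ((f.fiber y₁).presheaf.stalk w₁) ↔
      IsGorensteinLocalRing ((f.fiber y₂).presheaf.stalk w₂) := by
  have hy : y₁ = y₂ := by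
    rw [← apply_fiberι f y₁ w₁, ← apply_fiberι f y₂ w₂, h]
  subst hy
  obtain rfl : w₁ = w₂ := (f.fiberι y₁).isEmbedding.injective h
  exact Iff.rfl

theorem main_S3626 (X Y X' Y' : Scheme.{u}) (f : X ⟶ Y) [Flat f] [LocallyOfFiniteType f]
    (g : Y' ⟶ Y) (f' : X' ⟶ Y') (g' : X' ⟶ X) (hsq : IsPullback g' f' f g) (x' : X') :
    Dual3.IsGorensteinAt f' x' ↔ Dual3.IsGorensteinAt f (g' x') := by
  haveI : Flat f' := MorphismProperty.of_isPullback (P := @Flat) hsq inferInstance
  have key : ∀ (h₀ : f'.fiber (f' x') ⟶ f.fiber (g (f' x'))),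
      h₀ ≫ f.fiberι _ = f'.fiberι _ ≫ g' →
      IsPullback h₀ (f'.fiberToSpecResidueField (f' x'))
        (f.fiberToSpecResidueField (g (f' x'))) (Spec.map (g.residueFieldMap (f' x'))) →
      (Dual3.IsGorensteinAt f' x' ↔ Dual3.IsGorensteinAt f (g' x')) := by
    intro h₀ hh₀ sq
    haveI : LocallyOfFiniteType (f.fiberToSpecResidueField (g (f' x'))) :=
      MorphismProperty.pullback_snd _ _ inferInstance
    have h1 := gor_iff_of_field_baseChange (Y.residueField (g (f' x'))) (Y'.residueField (f' x'))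
      (g.residueFieldMap (f' x')).hom (f.fiberToSpecResidueField (g (f' x')))
      (f'.fiberToSpecResidueField (f' x')) h₀ sq (f'.asFiber x')
    have h2 : f.fiberι (g (f' x')) (h₀ (f'.asFiber x')) =
        f.fiberι (f (g' x')) (f.asFiber (g' x')) := by
      rw [← Scheme.Hom.comp_apply, hh₀, Scheme.Hom.comp_apply, f'.fiberι_asFiber,
        f.fiberι_asFiber]
    have h3 := gor_fiber_congr f _ _ h2
    unfold Dual3.IsGorensteinAt
    rw [h1, h3]
    exact ⟨fun h => ⟨Flat.stalkMap f _, h.2⟩, fun h => ⟨Flat.stalkMap f' _, h.2⟩⟩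
  refine key _ ?_ (isPullback_fiberToSpecResidueField_of_isPullback hsq (f' x'))
  exact pullback.lift_fst _ _ _

end Groth.Agent.Helper3.FibStalk
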