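import Mathlib
import Groth.Prelude
import Groth.Agent.Lib.Helper3.FibStalk5

/-!
# Flatness at a point is stable under base change (helper3)
-/

set_option autoImplicit false
set_option linter.unusedSectionVars false
set_option linter.style.haveILetI false
universe u

open CategoryTheory CategoryTheory.Limits AlgebraicGeometry IsLocalRing TensorProduct

namespace Groth.Agent.Helper3.FibStalk

open Groth.Agent.Helper8.GorFlat LocCoh

/-- The canonical morphism `Spec 𝒪_{X,x} ⟶ X` is flat. -/
theorem flat_fromSpecStalk (X : Scheme.{u}) (x : X) : Flat (X.fromSpecStalk x) := by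
  obtain ⟨_, ⟨U, hU : IsAffineOpen U, rfl⟩, hxU, -⟩ :=
    X.isBasis_affineOpens.exists_subset_of_mem_open (Set.mem_univ x) isOpen_univ
  rw [← hU.fromSpecStalk_eq_fromSpecStalk hxU, IsAffineOpen.fromSpecStalk]
  have : Flat (Spec.map (X.presheaf.germ U x hxU)) := by
    rw [HasRingHomProperty.Spec_iff (P := @Flat)]
    let _ := X.presheaf.algebra_section_stalk ⟨x, hxU⟩
    have := hU.isLocalization_stalk ⟨x, hxU⟩
    have hfl : Module.Flat Γ(X, U) (X.presheaf.stalk x) :=
      IsLocalization.flat _ (hU.primeIdealOf ⟨x, hxU⟩).asIdeal.primeCompl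
    exact RingHom.flat_algebraMap_iff.mpr hfl
  infer_instance

/-- a flat local homomorphism of local rings is faithfully flat -/
theorem faithfullyFlat_of_flat_of_isLocalHom {A B : Type u} [CommRing A] [CommRing B]
    [IsLocalRing A] [IsLocalRing B] (φ : A →+* B) [IsLocalHom φ] (hφ : φ.Flat) :
    φ.FaithfullyFlat := by
  algebraize [φ]
  haveI : Module.Flat A B := hφ
  haveI : IsLocalHom (algebraMap A B) := inferInstanceAs (IsLocalHom φ)
  exact Module.FaithfullyFlat.of_flat_of_isLocalHom

theorem flat_stalkMap_congr {X Y : Scheme.{u}} (f : X ⟶ Y) {x₁ x₂ : X} (h : x₁ = x₂)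
    (hfl : (f.stalkMap x₁).hom.Flat) : (f.stalkMap x₂).hom.Flat := by
  subst h
  exact hfl

/-- **Flatness at a point is stable under base change.** -/
theorem flat_stalkMap_of_isPullback {X Y X' Y' : Scheme.{u}} {f : X ⟶ Y} {g : Y' ⟶ Y}
    {f' : X' ⟶ Y'} {g' : X' ⟶ X} (hsq : IsPullback g' f' f g) (x' : X')
    (hfl : (f.stalkMap (g' x')).hom.Flat) : (f'.stalkMap x').hom.Flat := by
  set x := g' x' with hx
  let i := X.fromSpecStalk x
  haveI : Flat i := flat_fromSpecStalk X x
  haveI : Flat (Y.fromSpecStalk (f x)) := flat_fromSpecStalk Y (f x)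
  haveI : Flat (Spec.map (f.stalkMap x)) := by
    rw [HasRingHomProperty.Spec_iff (P := @Flat)]
    exact hfl
  haveI : Flat (i ≫ f) := by
    rw [← Scheme.SpecMap_stalkMap_fromSpecStalk]
    infer_instance
  have sq2 : IsPullback (pullback.fst i g') (pullback.snd i g' ≫ f') (i ≫ f) g :=
    (IsPullback.of_hasPullback i g').paste_vert hsq
  haveI : Flat (pullback.snd i g' ≫ f') :=
    MorphismProperty.of_isPullback (P := @Flat) sq2 inferInstance
  haveI : Flat (pullback.snd i g') := inferInstance
  obtain ⟨z, hz1, hz2⟩ := Scheme.Pullback.exists_preimage_pullback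
    (f := i) (g := g') (closedPoint (X.presheaf.stalk x)) x'
    (by rw [Scheme.fromSpecStalk_closedPoint])
  have h1 : ((pullback.snd i g' ≫ f').stalkMap z).hom.Flat := Flat.stalkMap _ z
  have hcomp : ((pullback.snd i g' ≫ f').stalkMap z).hom =
      ((pullback.snd i g').stalkMap z).hom.comp (f'.stalkMap (pullback.snd i g' z)).hom := by
    rw [Scheme.Hom.stalkMap_comp]
    rfl
  rw [hcomp] at h1
  have h2 : ((pullback.snd i g').stalkMap z).hom.Flat := Flat.stalkMap _ z
  have h3 := Groth.Agent.Helper3.ringHom_flat_of_comp_of_faithfullyFlat _ _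
    (faithfullyFlat_of_flat_of_isLocalHom _ h2) h1
  exact flat_stalkMap_congr f' hz2 h3


/-- residue field extensions of a morphism locally of finite type are essentially of finite type -/
theorem essFiniteType_residueFieldMap {X Y : Scheme.{u}} (g : X ⟶ Y) [LocallyOfFiniteType g]
    (x : X) : (g.residueFieldMap x).hom.EssFiniteType := by
  have h1 : ((Y.residue (g x)) ≫ g.residueFieldMap x).hom.EssFiniteType := by
    rw [Scheme.residue_residueFieldMap, CommRingCat.hom_comp]
    exact RingHom.EssFiniteType.comp (LocallyOfFiniteType.stalkMap g x)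
      (RingHom.FiniteType.of_surjective _ (X.residue_surjective x)).essFiniteType
  rw [CommRingCat.hom_comp] at h1
  exact RingHom.EssFiniteType.of_comp _ h1

section BaseField

variable {W W' : Scheme.{u}} (k k' : Type u) [Field k] [Field k'] (ι : k →+* k')
  (h : W ⟶ Spec (CommRingCat.of k)) (h' : W' ⟶ Spec (CommRingCat.of k')) (h₀ : W' ⟶ W)
  (sq : IsPullback h₀ h' h (Spec.map (CommRingCat.ofHom ι)))

include sq in
/-- base change along an essentially finitely generated field extension preserves locally
Noetherian schemes -/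
theorem isLocallyNoetherian_of_field_baseChange (hι : ι.EssFiniteType) [IsLocallyNoetherian W] :
    IsLocallyNoetherian W' := by
  have key : ∀ (R : CommRingCat.{u}) (j : Spec R ⟶ W) [IsOpenImmersion j],
      IsLocallyNoetherian (pullback h₀ j) := by
    intro R j _
    haveI : IsLocallyNoetherian (Spec R) := isLocallyNoetherian_of_isOpenImmersion j
    haveI : IsNoetherianRing R := isLocallyNoetherian_Spec.mp inferInstance
    have sq1 : IsPullback (pullback.fst h₀ j) (pullback.snd h₀ j) h₀ j :=
      IsPullback.of_hasPullback _ _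
    have sq2 := sq1.paste_horiz sq.flip
    obtain ⟨β, hβ⟩ : ∃ β : CommRingCat.of k ⟶ R, Spec.map β = j ≫ h :=
      ⟨Spec.preimage (j ≫ h), Spec.map_preimage _⟩
    rw [← hβ] at sq2
    letI : Algebra k k' := ι.toAlgebra
    letI : Algebra k R := β.hom.toAlgebra
    haveI : Algebra.EssFiniteType k k' := by
      rw [← RingHom.essFiniteType_algebraMap]
      exact hι
    let e : pullback h₀ j ≅ Spec (CommRingCat.of (k' ⊗[k] R)) :=
      sq2.isoPullback ≪≫ pullbackSpecIso k k' R
    haveI : Algebra.EssFiniteType R (R ⊗[k] k') := inferInstance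
    haveI : IsNoetherianRing (R ⊗[k] k') := Algebra.EssFiniteType.isNoetherianRing R _
    haveI : IsNoetherianRing (k' ⊗[k] R) :=
      isNoetherianRing_of_ringEquiv _ (Algebra.TensorProduct.comm k R k').toRingEquiv
    haveI : IsLocallyNoetherian (Spec (CommRingCat.of (k' ⊗[k] R))) :=
      isLocallyNoetherian_Spec.mpr inferInstance
    exact isLocallyNoetherian_of_isOpenImmersion e.hom
  rw [isLocallyNoetherian_iff_openCover (W.affineOpenCover.openCover.pullback₁ h₀)]
  intro i
  exact key (W.affineOpenCover.X i) (W.affineOpenCover.f i)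

include sq in
/-- the fibres of `h₀` have Gorenstein local rings, when one of the two field extensions involved is
essentially finitely generated -/
theorem gor_fiber_of_field_baseChange' (hE : ι.EssFiniteType ∨ LocallyOfFiniteType h)
    (w : W) (t : h₀.fiber w) :
    IsGorensteinLocalRing ((h₀.fiber w).presheaf.stalk t) := by
  rcases hE with hι | hh
  · have sq1 : IsPullback (h₀.fiberι w) (h₀.fiberToSpecResidueField w) h₀
        (W.fromSpecResidueField w) := IsPullback.of_hasPullback _ _
    have sq2 := sq1.paste_horiz sq.flip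
    obtain ⟨α, hα⟩ : ∃ α : CommRingCat.of k ⟶ W.residueField w,
        Spec.map α = W.fromSpecResidueField w ≫ h :=
      ⟨Spec.preimage _, Spec.map_preimage _⟩
    rw [← hα] at sq2
    letI : Algebra k k' := ι.toAlgebra
    letI : Algebra k (W.residueField w) := α.hom.toAlgebra
    have hι' : Algebra.EssFiniteType k k' := by
      rw [← RingHom.essFiniteType_algebraMap]
      exact hι
    let e : h₀.fiber w ≅ Spec (CommRingCat.of (k' ⊗[k] W.residueField w)) :=
      sq2.isoPullback ≪≫ pullbackSpecIso k k' (W.residueField w)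
    have hG : IsGorensteinRing (k' ⊗[k] W.residueField w) :=
      isGorensteinRing_tensor_fields k k' _ (Or.inl hι')
    exact gor_stalk_of_iso_spec _ hG e t
  · exact gor_fiber_of_field_baseChange k k' ι h h' h₀ sq w t

include sq in
theorem flat_of_field_baseChange : Flat h₀ := by
  haveI : Flat (Spec.map (CommRingCat.ofHom ι)) := by
    rw [HasRingHomProperty.Spec_iff (P := @Flat)]
    letI : Algebra k k' := ι.toAlgebra
    exact (inferInstance : Module.Flat k k')
  exact MorphismProperty.of_isPullback (P := @Flat) sq.flip inferInstance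

include sq in
/-- descent of the Gorenstein property along an extension of the base field -/
theorem gor_of_gor_field_baseChange (w' : W') [IsNoetherianRing (W.presheaf.stalk (h₀ w'))]
    (hG : IsGorensteinLocalRing (W'.presheaf.stalk w')) :
    IsGorensteinLocalRing (W.presheaf.stalk (h₀ w')) := by
  haveI : Flat h₀ := flat_of_field_baseChange k k' ι h h' h₀ sq
  obtain ⟨γ, hγ, hk⟩ := exists_fibre_presentation h₀ w'
  have D : FLData (h₀.stalkMap w').hom γ := ⟨Flat.stalkMap h₀ w', inferInstance, hγ, hk⟩
  exact ((iff_of_flData D).mp hG).1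

include sq in
/-- ascent of the Gorenstein property along an extension of the base field -/
theorem gor_field_baseChange_of_gor (hE : ι.EssFiniteType ∨ LocallyOfFiniteType h) (w' : W')
    [IsNoetherianRing (W'.presheaf.stalk w')]
    (hG : IsGorensteinLocalRing (W.presheaf.stalk (h₀ w'))) :
    IsGorensteinLocalRing (W'.presheaf.stalk w') := by
  haveI : Flat h₀ := flat_of_field_baseChange k k' ι h h' h₀ sq
  obtain ⟨γ, hγ, hk⟩ := exists_fibre_presentation h₀ w'
  have D : FLData (h₀.stalkMap w').hom γ := ⟨Flat.stalkMap h₀ w', inferInstance, hγ, hk⟩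
  exact (iff_of_flData D).mpr ⟨hG, gor_fiber_of_field_baseChange' k k' ι h h' h₀ sq hE _ _⟩

end BaseField

end Groth.Agent.Helper3.FibStalk
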