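import Mathlib
import Groth.Prelude
import Groth.Agent.Lib.Helper3.FibStalk6

/-!
# Gorenstein morphisms and base change locally of finite type (helper3)
-/

set_option autoImplicit false
set_option linter.unusedSectionVars false
set_option linter.style.haveILetI false
universe u

open CategoryTheory CategoryTheory.Limits AlgebraicGeometry IsLocalRing TensorProduct

namespace Groth.Agent.Helper3.FibStalk

open Groth.Agent.Helper8.GorFlat LocCoh

theorem flat_stalkMap_congr_hom {X Y : Scheme.{u}} {φ ψ : X ⟶ Y} (e : φ = ψ) (x : X)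
    (h : (φ.stalkMap x).hom.Flat) : (ψ.stalkMap x).hom.Flat := by
  subst e
  exact h

theorem stalkMap_comp_hom {X Y Z : Scheme.{u}} (f : X ⟶ Y) (g : Y ⟶ Z) (x : X) :
    ((f ≫ g).stalkMap x).hom = (f.stalkMap x).hom.comp (g.stalkMap (f x)).hom := by
  rw [Scheme.Hom.stalkMap_comp]
  rfl

theorem main_S3625 (X Y X' Y' : Scheme.{u}) (f : X ⟶ Y) (g : Y' ⟶ Y) (f' : X' ⟶ Y')
    (g' : X' ⟶ X) (hsq : IsPullback g' f' f g) (hfibf : ∀ y, IsLocallyNoetherian (f.fiber y))
    [LocallyOfFiniteType g] (x' : X') :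
    (Dual3.IsGorensteinAt f (g' x') → Dual3.IsGorensteinAt f' x') ∧
      ((f.stalkMap (g' x')).hom.Flat → Dual3.IsGorensteinAt f' x' →
        Dual3.IsGorensteinAt f (g' x')) ∧
      ((g.stalkMap (f' x')).hom.Flat → Dual3.IsGorensteinAt f' x' →
        Dual3.IsGorensteinAt f (g' x')) := by
  have key : ∀ (h₀ : f'.fiber (f' x') ⟶ f.fiber (g (f' x'))),
      h₀ ≫ f.fiberι _ = f'.fiberι _ ≫ g' →
      IsPullback h₀ (f'.fiberToSpecResidueField (f' x'))
        (f.fiberToSpecResidueField (g (f' x'))) (Spec.map (g.residueFieldMap (f' x'))) →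
      ((IsGorensteinLocalRing ((f.fiber (f (g' x'))).presheaf.stalk (f.asFiber (g' x'))) →
        IsGorensteinLocalRing ((f'.fiber (f' x')).presheaf.stalk (f'.asFiber x'))) ∧
      (IsGorensteinLocalRing ((f'.fiber (f' x')).presheaf.stalk (f'.asFiber x')) →
        IsGorensteinLocalRing ((f.fiber (f (g' x'))).presheaf.stalk (f.asFiber (g' x'))))) := by
    intro h₀ hh₀ sq
    haveI := hfibf (g (f' x'))
    have hι := essFiniteType_residueFieldMap g (f' x')
    haveI : IsLocallyNoetherian (f'.fiber (f' x')) :=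
      isLocallyNoetherian_of_field_baseChange (Y.residueField (g (f' x')))
        (Y'.residueField (f' x')) (g.residueFieldMap (f' x')).hom
        (f.fiberToSpecResidueField (g (f' x'))) (f'.fiberToSpecResidueField (f' x')) h₀ sq hι
    have h2 : f.fiberι (g (f' x')) (h₀ (f'.asFiber x')) =
        f.fiberι (f (g' x')) (f.asFiber (g' x')) := by
      rw [← Scheme.Hom.comp_apply, hh₀, Scheme.Hom.comp_apply, f'.fiberι_asFiber,
        f.fiberι_asFiber]
    have h3 := gor_fiber_congr f _ _ h2
    constructor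
    · intro hG
      exact gor_field_baseChange_of_gor (Y.residueField (g (f' x')))
        (Y'.residueField (f' x')) (g.residueFieldMap (f' x')).hom
        (f.fiberToSpecResidueField (g (f' x'))) (f'.fiberToSpecResidueField (f' x')) h₀ sq
        (Or.inl hι) (f'.asFiber x') (h3.mpr hG)
    · intro hG
      exact h3.mp (gor_of_gor_field_baseChange (Y.residueField (g (f' x')))
        (Y'.residueField (f' x')) (g.residueFieldMap (f' x')).hom
        (f.fiberToSpecResidueField (g (f' x'))) (f'.fiberToSpecResidueField (f' x')) h₀ sq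
        (f'.asFiber x') hG)
  obtain ⟨hup, hdown⟩ := key _ (pullback.lift_fst _ _ _)
    (isPullback_fiberToSpecResidueField_of_isPullback hsq (f' x'))
  refine ⟨?_, ?_, ?_⟩
  · rintro ⟨hfl, hG⟩
    exact ⟨flat_stalkMap_of_isPullback hsq x' hfl, hup hG⟩
  · rintro hfl ⟨_, hG⟩
    exact ⟨hfl, hdown hG⟩
  · rintro hgfl ⟨hfl', hG⟩
    refine ⟨?_, hdown hG⟩
    have hg'fl : (g'.stalkMap x').hom.Flat := flat_stalkMap_of_isPullback hsq.flip x' hgfl
    have h1 : ((f' ≫ g).stalkMap x').hom.Flat := by
      rw [stalkMap_comp_hom]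
      exact RingHom.Flat.comp hgfl hfl'
    have h2 : ((g' ≫ f).stalkMap x').hom.Flat := flat_stalkMap_congr_hom hsq.w.symm x' h1
    rw [stalkMap_comp_hom] at h2
    exact Groth.Agent.Helper3.ringHom_flat_of_comp_of_faithfullyFlat _ _
      (faithfullyFlat_of_flat_of_isLocalHom _ hg'fl) h2

end Groth.Agent.Helper3.FibStalk
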