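import Mathlib
import Groth.Prelude.Def_FlatCA
import Groth.Agent.Lib.Helper3.ColimFlat12
import Groth.Agent.Lib.Helper4.EtaleDescFT1

/-! Faithfully flat finitely presented algebras descend to a finite stage of a directed colimit,
and finitely presented algebras descend to finitely generated subalgebras of the base. -/

set_option autoImplicit false
universe u
namespace Groth.Agent.Helper3.FppfDesc

open TensorProduct PrimeSpectrum

section Model

attribute [local instance] Algebra.TensorProduct.rightAlgebra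

/-- a finitely presented algebra descends to a finitely generated subalgebra of the base -/
theorem exists_algModel (K R S : Type u) [CommRing K] [CommRing R] [CommRing S] [Algebra K R]
    [Algebra R S] [Algebra.FinitePresentation R S] :
    ∃ (R₀ : Subalgebra K R), R₀.FG ∧ ∃ (S₀ : Type u) (_ : CommRing S₀) (_ : Algebra R₀ S₀)
      (_ : Algebra S₀ S) (_ : IsScalarTower R₀ S₀ S),
      Algebra.FinitePresentation R₀ S₀ ∧ Algebra.IsPushout R₀ R S₀ S := by
  classical
  let P := Algebra.Presentation.ofFinitePresentation R S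
  let s : Set R := P.coeffs
  have hsfin : s.Finite := P.finite_coeffs
  let R₀ : Subalgebra K R := Algebra.adjoin K s
  have hR₀ : R₀.FG := ⟨hsfin.toFinset, by simp [R₀]⟩
  have hrange : s ⊆ Set.range (algebraMap R₀ R) := by
    intro x hx
    exact ⟨⟨x, Algebra.subset_adjoin hx⟩, rfl⟩
  haveI : P.HasCoeffs R₀ := ⟨fun x hx => hrange hx⟩
  let S₀ := P.ModelOfHasCoeffs R₀
  let e := P.tensorModelOfHasCoeffsEquiv R₀
  letI algS₀S : Algebra S₀ S :=
    (e.toAlgHom.toRingHom.comp
      (Algebra.TensorProduct.includeRight : S₀ →ₐ[R₀] R ⊗[R₀] S₀).toRingHom).toAlgebra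
  have halg : ∀ x : MvPolynomial _ R₀, algebraMap S₀ S (Ideal.Quotient.mk _ x) =
      MvPolynomial.aeval P.val x := by
    intro x
    show e ((1 : R) ⊗ₜ[R₀] (Ideal.Quotient.mk _ x)) = _
    rw [Algebra.Presentation.tensorModelOfHasCoeffsEquiv_tmul, map_one, one_mul]
  haveI : IsScalarTower R₀ S₀ S := IsScalarTower.of_algebraMap_eq (R := R₀) (S := S₀) (A := S)
    (fun r => by
      have : algebraMap R₀ S₀ r = Ideal.Quotient.mk _ (MvPolynomial.C r) := rfl
      rw [this, halg, MvPolynomial.aeval_C])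
  refine ⟨R₀, hR₀, S₀, inferInstance, inferInstance, algS₀S, inferInstance, inferInstance, ?_⟩
  haveI : IsScalarTower R₀ S₀ (R ⊗[R₀] S₀) := Algebra.TensorProduct.right_isScalarTower
  haveI : Algebra.IsPushout R₀ R S₀ (R ⊗[R₀] S₀) := TensorProduct.isPushout
  exact Algebra.IsPushout.of_equiv (R := R₀) (R' := R) (S := S₀) (S' := R ⊗[R₀] S₀) e rfl

end Model

section FF

variable {A₀ : Type u} [CommRing A₀]
    {ι : Type u} [Preorder ι] (G : ι → Type u) [∀ i, CommRing (G i)] [∀ i, Algebra A₀ (G i)]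
    (g : ∀ i j, i ≤ j → G i →ₐ[A₀] G j)
    (A : Type u) [CommRing A] [Algebra A₀ A] [∀ i, Algebra (G i) A] [∀ i, IsScalarTower A₀ (G i) A]
    (hcolim : FlatCA.IsDirectedColimitRing G (fun i j h => (g i j h).toRingHom) A)

omit [∀ i, IsScalarTower A₀ (G i) A] in
include hcolim in
/-- finitely many elements of the colimit come from a common stage -/
theorem exists_common_stage (i₀ : ι) (t : Finset (G i₀)) (c : G i₀ → A) :
    ∃ j, ∃ _ : i₀ ≤ j, ∃ c' : G i₀ → G j, ∀ h ∈ t, algebraMap (G j) A (c' h) = c h := by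
  classical
  obtain ⟨hdir, -, -, -, hcompat, hsurj, -⟩ := hcolim
  haveI := hdir
  induction t using Finset.induction_on with
  | empty => exact ⟨i₀, le_rfl, fun _ => 0, fun h hh => absurd hh (Finset.notMem_empty h)⟩
  | insert a s ha ih =>
    obtain ⟨j, hj, c', hc'⟩ := ih
    obtain ⟨i₁, x, hx⟩ := hsurj (c a)
    obtain ⟨k, hjk, hik⟩ := exists_ge_ge j i₁
    refine ⟨k, hj.trans hjk, fun h => if h = a then g i₁ k hik x else g j k hjk (c' h), ?_⟩
    intro h hh
    have hcomp : ∀ (i j : ι) (hij : i ≤ j) (y : G i),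
        algebraMap (G j) A (g i j hij y) = algebraMap (G i) A y := fun i j hij y =>
      congrArg (fun φ : G i →+* A => φ y) (hcompat i j hij)
    by_cases hha : h = a
    · simp only [hha, if_true]
      rw [hcomp, hx]
    · simp only [hha, if_false]
      rw [hcomp]
      exact hc' h (Finset.mem_of_mem_insert_of_ne hh hha)

include hcolim in
/-- **faithful flatness descends to a finite stage** -/
theorem exists_stage_faithfullyFlat {B₀ : Type u} [CommRing B₀] [Algebra A₀ B₀]
    [Algebra.FinitePresentation A₀ B₀] [Module.FaithfullyFlat A (A ⊗[A₀] B₀)] :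
    ∃ i, Module.FaithfullyFlat (G i) (G i ⊗[A₀] B₀) := by
  classical
  obtain ⟨i₀, hi₀⟩ := (ColimFlat.S4848_main G g A hcolim (B₀ := B₀) B₀).mp inferInstance
  have hcolim' := hcolim
  obtain ⟨hdir, -, -, hcompg, hcompat, hsurj, hker⟩ := hcolim
  haveI := hdir
  have hcomp : ∀ (i j : ι) (hij : i ≤ j) (y : G i),
      algebraMap (G j) A (g i j hij y) = algebraMap (G i) A y := fun i j hij y =>
    congrArg (fun φ : G i →+* A => φ y) (hcompat i j hij)
  have hgg : ∀ (i j k : ι) (hij : i ≤ j) (hjk : j ≤ k) (y : G i),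
      g j k hjk (g i j hij y) = g i k (hij.trans hjk) y := fun i j k hij hjk y =>
    congrArg (fun φ : G i →+* G k => φ y) (hcompg i j k hij hjk)
  -- the open quasi-compact image at stage `i₀`
  have hopen : IsOpenMap (comap (algebraMap (G i₀) (G i₀ ⊗[A₀] B₀))) :=
    isOpenMap_comap_of_hasGoingDown_of_finitePresentation
  obtain ⟨t, ht⟩ := (isCompact_isOpen_iff
    (s := Set.range (comap (algebraMap (G i₀) (G i₀ ⊗[A₀] B₀))))).mp
    ⟨isCompact_range (continuous_comap _), hopen.isOpen_range⟩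
  -- Spec A lands in the image
  let φ : G i₀ ⊗[A₀] B₀ →ₐ[A₀] A ⊗[A₀] B₀ :=
    Algebra.TensorProduct.map (IsScalarTower.toAlgHom A₀ (G i₀) A) (AlgHom.id A₀ B₀)
  have hland : ∀ 𝔭 : PrimeSpectrum A,
      comap (algebraMap (G i₀) A) 𝔭 ∈ Set.range (comap (algebraMap (G i₀) (G i₀ ⊗[A₀] B₀))) := by
    intro 𝔭
    obtain ⟨𝔓, h𝔓⟩ := PrimeSpectrum.comap_surjective_of_faithfullyFlat (A := A)
      (B := A ⊗[A₀] B₀) 𝔭
    refine ⟨comap φ.toRingHom 𝔓, ?_⟩
    rw [← h𝔓, ← PrimeSpectrum.comap_comp_apply, ← PrimeSpectrum.comap_comp_apply]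
    congr 1
  have hspan : Ideal.span ((algebraMap (G i₀) A) '' (t : Set (G i₀))) = ⊤ := by
    by_contra hne
    obtain ⟨𝔪, h𝔪, hle⟩ := Ideal.exists_le_maximal _ hne
    have h1 := hland ⟨𝔪, h𝔪.isPrime⟩
    rw [← ht, Set.mem_compl_iff, mem_zeroLocus] at h1
    apply h1
    intro h hh
    exact hle (Ideal.subset_span ⟨h, hh, rfl⟩)
  have h1mem : (1 : A) ∈ Submodule.span A ((algebraMap (G i₀) A) '' (t : Set (G i₀))) := by
    change (1 : A) ∈ Ideal.span _
    rw [hspan]; trivial
  rw [Submodule.mem_span_image_finset_iff_exists_fun'] at h1mem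
  obtain ⟨cf, hcf⟩ := h1mem
  obtain ⟨j, hij, c', hc'⟩ := exists_common_stage G g A hcolim' i₀ t cf
  have hx : algebraMap (G j) A (∑ h ∈ t, c' h * g i₀ j hij h - 1) = 0 := by
    rw [map_sub, map_one, map_sum, sub_eq_zero, ← hcf]
    refine Finset.sum_congr rfl fun h hh => ?_
    rw [map_mul, hc' h hh, hcomp, smul_eq_mul]
  obtain ⟨k, hjk, hk⟩ := hker j _ hx
  have hk' : ∑ h ∈ t, g j k hjk (c' h) * g i₀ k (hij.trans hjk) h = 1 := by
    have := hk
    simp only [AlgHom.toRingHom_eq_coe, RingHom.coe_coe, map_sub, map_sum, map_mul, map_one,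
      sub_eq_zero, hgg] at this
    exact this
  refine ⟨k, ?_⟩
  have hik : i₀ ≤ k := hij.trans hjk
  letI algik : Algebra (G i₀) (G k) := (g i₀ k hik).toRingHom.toAlgebra
  haveI : IsScalarTower A₀ (G i₀) (G k) := IsScalarTower.of_algebraMap_eq (fun a => by
    show algebraMap A₀ (G k) a = g i₀ k hik (algebraMap A₀ (G i₀) a)
    rw [AlgHom.commutes])
  haveI hflat : Module.Flat (G k) (G k ⊗[A₀] B₀) := Module.Flat.of_linearEquiv
    (AlgebraTensorModule.cancelBaseChange A₀ (G i₀) (G k) (G k) B₀).symm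
  refine ⟨fun m hm htop => ?_⟩
  -- the residue field as a module over `G i₀`
  let Q := G k ⧸ m
  have hsub1 : Subsingleton (Q ⊗[G k] (G k ⊗[A₀] B₀)) := by
    have e := TensorProduct.quotTensorEquivQuotSMul (G k ⊗[A₀] B₀) m
    rw [htop] at e
    exact e.injective.subsingleton
  have hsub2 : Subsingleton (Q ⊗[A₀] B₀) :=
    (AlgebraTensorModule.cancelBaseChange A₀ (G k) Q Q B₀).symm.injective.subsingleton
  have hsub3 : Subsingleton (Q ⊗[G i₀] (G i₀ ⊗[A₀] B₀)) :=
    (AlgebraTensorModule.cancelBaseChange A₀ (G i₀) Q Q B₀).injective.subsingleton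
  -- the contraction of `m` lies in the image
  haveI := hm.isPrime
  have hp : comap (algebraMap (G i₀) (G k)) ⟨m, hm.isPrime⟩ ∈
      Set.range (comap (algebraMap (G i₀) (G i₀ ⊗[A₀] B₀))) := by
    rw [← ht, Set.mem_compl_iff, mem_zeroLocus]
    intro hsub
    apply hm.ne_top
    rw [Ideal.eq_top_iff_one, ← hk']
    refine Ideal.sum_mem _ fun h hh => Ideal.mul_mem_left _ _ ?_
    exact hsub hh
  obtain ⟨P, hP⟩ := hp
  apply Groth.Agent.Lib.Helper4.EtaleDescFT1.torsionOf_not_le_under hsub3 (1 : Q) P.asIdeal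
  intro x hx
  rw [Ideal.mem_torsionOf_iff] at hx
  have hxm : algebraMap (G i₀) (G k) x ∈ m := by
    rw [← Ideal.Quotient.eq_zero_iff_mem]
    have : x • (1 : Q) = Ideal.Quotient.mk m (algebraMap (G i₀) (G k) x) := by
      rw [Algebra.smul_def, mul_one]
      rfl
    rw [← this, hx]
  have : x ∈ (comap (algebraMap (G i₀) (G k)) ⟨m, hm.isPrime⟩).asIdeal := hxm
  rw [← hP] at this
  exact this

end FF

end Groth.Agent.Helper3.FppfDesc
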