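import Mathlib
import Groth.Prelude.Def_FlatCA
import Groth.Agent.Lib.Helper3.FppfDesc1

/-! Finite type and finite presentation descend along faithfully flat finitely presented
ring maps on the source. -/

set_option autoImplicit false
universe u
namespace Groth.Agent.Helper3.FppfDesc

open TensorProduct PrimeSpectrum

section R1

/-- finite type descends along an fppf extension of the middle ring -/
theorem finiteType_of_fppf (R A B : Type u) [CommRing R] [CommRing A] [CommRing B]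
    [Algebra R A] [Algebra A B] [Algebra R B] [IsScalarTower R A B]
    [Module.FaithfullyFlat A B] [Algebra.FinitePresentation A B] [Algebra.FiniteType R B] :
    Algebra.FiniteType R A := by
  obtain ⟨A_0, hA_0, B₀, _, _, _, _, hfp, hpush⟩ := exists_algModel R A B
  let e : A ⊗[↥A_0] B₀ ≃ₐ[A] B := Algebra.IsPushout.equiv ↥A_0 A B₀ B
  haveI : Algebra.FiniteType R ↥A_0 := (Subalgebra.fg_iff_finiteType A_0).mp hA_0
  haveI : Module.Flat A (A ⊗[↥A_0] B₀) := Module.Flat.of_linearEquiv e.toLinearEquiv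
  obtain ⟨i, hi⟩ := (ColimFlat.S4848_main (fun i : ColimFlat.FGSub ↥A_0 A => ↥i.1)
    (fun i j h => Subalgebra.inclusion (show i.1 ≤ j.1 from h)) A
    (ColimFlat.isDirectedColimitRing_fgSub ↥A_0 A) (B₀ := B₀) B₀).mp inferInstance
  haveI := hi
  let e' : A ⊗[↥i.1] (↥i.1 ⊗[↥A_0] B₀) ≃ₐ[A] A ⊗[↥A_0] B₀ :=
    Algebra.TensorProduct.cancelBaseChange ↥A_0 ↥i.1 A A B₀
  let e'' : A ⊗[↥i.1] (↥i.1 ⊗[↥A_0] B₀) ≃ₐ[A] B := e'.trans e
  haveI : Module.FaithfullyFlat A (A ⊗[↥i.1] (↥i.1 ⊗[↥A_0] B₀)) :=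
    Module.FaithfullyFlat.of_linearEquiv A B e''.toLinearEquiv
  haveI : Algebra.FiniteType ↥A_0 B := Algebra.FiniteType.of_restrictScalars_finiteType R ↥A_0 B
  have hft : Algebra.FiniteType ↥A_0 (A ⊗[↥i.1] (↥i.1 ⊗[↥A_0] B₀)) :=
    Algebra.FiniteType.equiv inferInstance (e''.restrictScalars ↥A_0).symm
  have := @Groth.Agent.Lib.Helper4.EtaleDescFT1.fg_top_of_model ↥A_0 A
    (↥i.1 ⊗[↥A_0] B₀) _ _ _ i.1 _ _ _ _ i.2 _ ?_
  swap
  · exact hft
  haveI : Algebra.FiniteType ↥A_0 A := ⟨this⟩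
  exact Algebra.FiniteType.trans (S := ↥A_0) inferInstance inferInstance

end R1

section QuotSystem

variable (P A : Type u) [CommRing P] [CommRing A] [Algebra P A]

/-- finitely generated ideals contained in the kernel -/
abbrev FGLe := {I' : Ideal P // I'.FG ∧ I' ≤ RingHom.ker (algebraMap P A)}

/-- the algebra structure of `A` over a quotient -/
@[reducible] noncomputable def quotAlg (i : FGLe P A) : Algebra (P ⧸ i.1) A :=
  (Ideal.Quotient.lift i.1 (algebraMap P A) (fun x hx => i.2.2 hx)).toAlgebra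

theorem quotAlg_tower (i : FGLe P A) :
    letI := quotAlg P A i
    IsScalarTower P (P ⧸ i.1) A := by
  letI := quotAlg P A i
  exact IsScalarTower.of_algebraMap_eq (fun x => rfl)

theorem isDirectedColimitRing_quot (hsurj : Function.Surjective (algebraMap P A)) :
    letI := quotAlg P A
    FlatCA.IsDirectedColimitRing (fun i : FGLe P A => P ⧸ i.1)
      (fun i j h => (Ideal.Quotient.factorₐ P (show i.1 ≤ j.1 from h)).toRingHom) A := by
  letI := quotAlg P A
  refine ⟨⟨fun i j => ⟨⟨i.1 ⊔ j.1, Submodule.FG.sup i.2.1 j.2.1, sup_le i.2.2 j.2.2⟩, ?_, ?_⟩⟩,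
    ⟨⟨⊥, Submodule.fg_bot, bot_le⟩⟩, ?_, ?_, ?_, ?_, ?_⟩
  · exact (le_sup_left : i.1 ≤ i.1 ⊔ j.1)
  · exact (le_sup_right : j.1 ≤ i.1 ⊔ j.1)
  · intro i
    apply Ideal.Quotient.ringHom_ext
    ext x
    rfl
  · intro i j k hij hjk
    apply Ideal.Quotient.ringHom_ext
    ext x
    rfl
  · intro i j h
    apply Ideal.Quotient.ringHom_ext
    ext x
    rfl
  · intro a
    obtain ⟨x, rfl⟩ := hsurj a
    exact ⟨⟨⊥, Submodule.fg_bot, bot_le⟩, Ideal.Quotient.mk _ x, rfl⟩
  · intro i x hx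
    obtain ⟨x, rfl⟩ := Ideal.Quotient.mk_surjective x
    have hxk : x ∈ RingHom.ker (algebraMap P A) := hx
    refine ⟨⟨i.1 ⊔ Ideal.span {x}, Submodule.FG.sup i.2.1 ⟨{x}, by simp⟩,
      sup_le i.2.2 ((Ideal.span_singleton_le_iff_mem _).mpr hxk)⟩, (le_sup_left : i.1 ≤ _), ?_⟩
    show Ideal.Quotient.mk _ x = 0
    rw [Ideal.Quotient.eq_zero_iff_mem]
    exact Ideal.mem_sup_right (Ideal.mem_span_singleton_self x)

end QuotSystem

section R2

/-- the kernel of a surjection onto the middle ring of an fppf tower with finitely presented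
total algebra is finitely generated -/
theorem fg_ker_of_fppf (R P A B : Type u) [CommRing R] [CommRing P] [CommRing A] [CommRing B]
    [Algebra R P] [Algebra P A] [Algebra R A] [IsScalarTower R P A] [Algebra A B] [Algebra R B]
    [IsScalarTower R A B] [Algebra.FinitePresentation R P]
    (hsurj : Function.Surjective (algebraMap P A)) [Module.FaithfullyFlat A B]
    [Algebra.FinitePresentation A B] [Algebra.FinitePresentation R B] :
    (RingHom.ker (algebraMap P A)).FG := by
  classical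
  letI algPB : Algebra P B := ((algebraMap A B).comp (algebraMap P A)).toAlgebra
  haveI : IsScalarTower P A B := IsScalarTower.of_algebraMap_eq (fun _ => rfl)
  haveI : IsScalarTower R P B := IsScalarTower.of_algebraMap_eq (fun r => by
    rw [IsScalarTower.algebraMap_apply P A B, ← IsScalarTower.algebraMap_apply R P A,
      ← IsScalarTower.algebraMap_apply R A B])
  -- the model over `P`
  let Pr := Algebra.Presentation.ofFinitePresentation A B
  haveI : Pr.HasCoeffs P := ⟨fun x _ => hsurj x⟩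
  let B₀ := Pr.ModelOfHasCoeffs P
  let e : A ⊗[P] B₀ ≃ₐ[A] B := Pr.tensorModelOfHasCoeffsEquiv P
  letI := quotAlg P A
  haveI := quotAlg_tower P A
  haveI : Module.FaithfullyFlat A (A ⊗[P] B₀) :=
    Module.FaithfullyFlat.of_linearEquiv A B e.toLinearEquiv
  obtain ⟨i, hi⟩ := exists_stage_faithfullyFlat (fun i : FGLe P A => P ⧸ i.1)
    (fun i j h => Ideal.Quotient.factorₐ P (show i.1 ≤ j.1 from h)) A
    (isDirectedColimitRing_quot P A hsurj) (B₀ := B₀)
  haveI := hi
  haveI : Algebra.FinitePresentation R (P ⧸ i.1) := Algebra.FinitePresentation.quotient i.2.1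
  haveI : Algebra.FinitePresentation R ((P ⧸ i.1) ⊗[P] B₀) :=
    Algebra.FinitePresentation.trans R (P ⧸ i.1) ((P ⧸ i.1) ⊗[P] B₀)
  let π : (P ⧸ i.1) →ₐ[P] A := IsScalarTower.toAlgHom P (P ⧸ i.1) A
  have hπ : Function.Surjective π := fun a => by
    obtain ⟨x, rfl⟩ := hsurj a
    exact ⟨Ideal.Quotient.mk _ x, rfl⟩
  let ψ₀ : (P ⧸ i.1) ⊗[P] B₀ →ₐ[P] A ⊗[P] B₀ := Algebra.TensorProduct.map π (AlgHom.id P B₀)
  have hψ₀ : Function.Surjective ψ₀ :=
    Algebra.TensorProduct.map_surjective π (AlgHom.id P B₀) hπ Function.surjective_id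
  let ψ : (P ⧸ i.1) ⊗[P] B₀ →ₐ[R] B :=
    ((e.restrictScalars R).toAlgHom).comp (ψ₀.restrictScalars R)
  have hψ : Function.Surjective ψ := e.surjective.comp hψ₀
  have hK : (RingHom.ker ψ.toRingHom).FG := Algebra.FinitePresentation.ker_fG_of_surjective (R := R) (A := (P ⧸ i.1) ⊗[P] B₀) (B := B) ψ hψ
  have hKeq : RingHom.ker ψ.toRingHom =
      (RingHom.ker (algebraMap (P ⧸ i.1) A)).map (Algebra.TensorProduct.includeLeftRingHom : (P ⧸ i.1) →+* (P ⧸ i.1) ⊗[P] B₀) := by
    have h1 : RingHom.ker ψ.toRingHom = RingHom.ker ψ₀ := by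
      ext x
      simp only [RingHom.mem_ker]
      constructor
      · intro hx
        exact e.injective (hx.trans (map_zero e).symm)
      · intro hx
        show e (ψ₀ x) = 0
        rw [hx, map_zero]
    rw [h1, Algebra.TensorProduct.rTensor_ker π hπ]
    rfl
  rw [hKeq] at hK
  set N := RingHom.ker (algebraMap (P ⧸ i.1) A) with hN
  have hNmap : N.map (Algebra.TensorProduct.includeLeftRingHom : (P ⧸ i.1) →+* (P ⧸ i.1) ⊗[P] B₀) =
      Ideal.span ((Algebra.TensorProduct.includeLeftRingHom : (P ⧸ i.1) →+* (P ⧸ i.1) ⊗[P] B₀) '' (N : Set (P ⧸ i.1))) := rfl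
  rw [hNmap] at hK
  obtain ⟨s', hs'sub, hs'⟩ := (Submodule.fg_span_iff_fg_span_finset_subset _).mp hK
  have hs'' : ∀ y ∈ (s' : Set ((P ⧸ i.1) ⊗[P] B₀)), ∃ n, n ∈ N ∧
      (Algebra.TensorProduct.includeLeftRingHom : (P ⧸ i.1) →+* (P ⧸ i.1) ⊗[P] B₀) n = y :=
    fun y hy => hs'sub hy
  choose! pre hpreN hpre using hs''
  let N' : Ideal (P ⧸ i.1) := Ideal.span (pre '' (s' : Set ((P ⧸ i.1) ⊗[P] B₀)))
  have hN'le : N' ≤ N := Ideal.span_le.mpr (by
    rintro _ ⟨y, hy, rfl⟩
    exact hpreN y hy)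
  have hmap : N'.map (Algebra.TensorProduct.includeLeftRingHom : (P ⧸ i.1) →+* (P ⧸ i.1) ⊗[P] B₀) =
      N.map (Algebra.TensorProduct.includeLeftRingHom : (P ⧸ i.1) →+* (P ⧸ i.1) ⊗[P] B₀) := by
    apply le_antisymm (Ideal.map_mono hN'le)
    rw [hNmap]
    change Submodule.span _ _ ≤ _
    rw [hs']
    apply Submodule.span_le.mpr
    intro y hy
    have : y = (Algebra.TensorProduct.includeLeftRingHom : (P ⧸ i.1) →+* (P ⧸ i.1) ⊗[P] B₀) (pre y) := (hpre y hy).symm
    rw [this]
    exact Ideal.mem_map_of_mem _ (Ideal.subset_span ⟨y, hy, rfl⟩)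
  have hNN' : N' = N := Ideal.map_injective_of_faithfullyFlat (A := P ⧸ i.1)
    (B := (P ⧸ i.1) ⊗[P] B₀) hmap
  have hNfg : N.FG := by
    rw [← hNN']
    exact ⟨(s'.image pre), by simp [N']⟩
  have := Ideal.fg_ker_comp (Ideal.Quotient.mk i.1) (algebraMap (P ⧸ i.1) A)
    (by rw [Ideal.mk_ker]; exact i.2.1) hNfg Ideal.Quotient.mk_surjective
  exact this

/-- finite presentation descends along an fppf extension of the middle ring -/
theorem finitePresentation_of_fppf (R A B : Type u) [CommRing R] [CommRing A] [CommRing B]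
    [Algebra R A] [Algebra A B] [Algebra R B] [IsScalarTower R A B]
    [Module.FaithfullyFlat A B] [Algebra.FinitePresentation A B] [Algebra.FinitePresentation R B] :
    Algebra.FinitePresentation R A := by
  haveI := finiteType_of_fppf R A B
  obtain ⟨n, f, hf⟩ := Algebra.FiniteType.iff_quotient_mvPolynomial''.mp
    (inferInstance : Algebra.FiniteType R A)
  letI : Algebra (MvPolynomial (Fin n) R) A := f.toRingHom.toAlgebra
  haveI : IsScalarTower R (MvPolynomial (Fin n) R) A :=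
    IsScalarTower.of_algebraMap_eq (fun r => (f.commutes r).symm)
  have hker := fg_ker_of_fppf R (MvPolynomial (Fin n) R) A B hf
  exact Algebra.FinitePresentation.of_surjective hf hker

end R2

end Groth.Agent.Helper3.FppfDesc
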