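import Mathlib
import Groth.Agent.Lib.Helper3.FppfDesc2
import Groth.Agent.Lib.Helper9.FppfCov

/-! Local finite type and local finite presentation descend along fppf covers of the source. -/

set_option autoImplicit false
universe u
open PrimeSpectrum TensorProduct AlgebraicGeometry CategoryTheory

namespace Groth.Agent.Helper3.FppfDesc

/-- ring-hom form of descent of finite type -/
theorem finiteType_of_fppf_comp {R A C : Type u} [CommRing R] [CommRing A] [CommRing C]
    (φ : R →+* A) (ψ : A →+* C) (hψ : ψ.Flat) (hψfp : ψ.FinitePresentation)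
    (hsurj : Function.Surjective (PrimeSpectrum.comap ψ)) (h : (ψ.comp φ).FiniteType) :
    φ.FiniteType := by
  algebraize [φ, ψ, ψ.comp φ]
  haveI : Module.FaithfullyFlat A C := Module.FaithfullyFlat.of_comap_surjective hsurj
  exact finiteType_of_fppf R A C

/-- ring-hom form of descent of finite presentation -/
theorem finitePresentation_of_fppf_comp {R A C : Type u} [CommRing R] [CommRing A] [CommRing C]
    (φ : R →+* A) (ψ : A →+* C) (hψ : ψ.Flat) (hψfp : ψ.FinitePresentation)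
    (hsurj : Function.Surjective (PrimeSpectrum.comap ψ)) (h : (ψ.comp φ).FinitePresentation) :
    φ.FinitePresentation := by
  algebraize [φ, ψ, ψ.comp φ]
  haveI : Module.FaithfullyFlat A C := Module.FaithfullyFlat.of_comap_surjective hsurj
  exact finitePresentation_of_fppf R A C

variable {X' X Y : Scheme.{u}}

/-- pointwise reduction to the ring-level descent -/
theorem exists_appLE_of_fppf
    {Q : ∀ {R S : Type u} [CommRing R] [CommRing S], (R →+* S) → Prop}
    {P : MorphismProperty Scheme.{u}} [HasRingHomProperty P Q]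
    (hdesc : ∀ {R A C : Type u} [CommRing R] [CommRing A] [CommRing C] (φ : R →+* A)
      (ψ : A →+* C), ψ.Flat → ψ.FinitePresentation →
      Function.Surjective (PrimeSpectrum.comap ψ) → Q (ψ.comp φ) → Q φ)
    (f : X' ⟶ X) (g : X ⟶ Y) [Flat f] [LocallyOfFinitePresentation f] (h : P (f ≫ g))
    (x' : X') :
    ∃ (V : Y.affineOpens) (W : X.affineOpens) (_ : f x' ∈ W.1) (e : W.1 ≤ g ⁻¹ᵁ V.1),
      Q (g.appLE V W e).hom := by
  obtain ⟨_, ⟨V, hV, rfl⟩, hyV, -⟩ :=
    Y.isBasis_affineOpens.exists_subset_of_mem_open (Set.mem_univ (g (f x'))) isOpen_univ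
  obtain ⟨_, ⟨W₀, hW₀, rfl⟩, hxW₀, hW₀V0⟩ :=
    X.isBasis_affineOpens.exists_subset_of_mem_open hyV (V.2.preimage g.continuous)
  have hW₀V : W₀ ≤ g ⁻¹ᵁ V := hW₀V0
  obtain ⟨_, ⟨W', hW', rfl⟩, hx'W', hW'W₀0⟩ :=
    X'.isBasis_affineOpens.exists_subset_of_mem_open hxW₀ (W₀.2.preimage f.continuous)
  have hW'W₀ : W' ≤ f ⁻¹ᵁ W₀ := hW'W₀0
  clear hW₀V0 hW'W₀0
  let O : X.Opens := ⟨f '' W', f.isOpenMap _ W'.2⟩
  have hxO : f x' ∈ O := ⟨x', hx'W', rfl⟩
  obtain ⟨a, haO, hxa⟩ := hW₀.exists_basicOpen_le ⟨f x', hxO⟩ hxW₀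
  set W : X.Opens := X.basicOpen a with hWdef
  have hW : IsAffineOpen W := hW₀.basicOpen a
  have hWW₀ : W ≤ W₀ := X.basicOpen_le a
  set a' := f.appLE W₀ W' hW'W₀ a with ha'
  set W'' : X'.Opens := X'.basicOpen a' with hW''def
  have hW'' : IsAffineOpen W'' := hW'.basicOpen a'
  have hW''eq : W'' = W' ⊓ f ⁻¹ᵁ W := Scheme.basicOpen_appLE f W' W₀ hW'W₀ a
  have e'' : W'' ≤ f ⁻¹ᵁ W := by rw [hW''eq]; exact inf_le_right
  have hWV : W ≤ g ⁻¹ᵁ V := hWW₀.trans hW₀V
  refine ⟨⟨V, hV⟩, ⟨W, hW⟩, hxa, hWV, ?_⟩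
  have hcomp : g.appLE V W hWV ≫ f.appLE W W'' e'' = (f ≫ g).appLE V W''
      (e''.trans ((TopologicalSpace.Opens.map f.base).map (homOfLE hWV)).le) :=
    Scheme.Hom.appLE_comp_appLE f g V W W'' hWV e''
  apply hdesc (g.appLE V W hWV).hom (f.appLE W W'' e'').hom
  · exact HasRingHomProperty.appLE (P := @Flat) f inferInstance ⟨W, hW⟩ ⟨W'', hW''⟩ e''
  · exact HasRingHomProperty.appLE (P := @LocallyOfFinitePresentation) f inferInstance
      ⟨W, hW⟩ ⟨W'', hW''⟩ e''
  · intro p
    obtain ⟨z, rfl⟩ : ∃ z : W, hW.primeIdealOf z = p :=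
      ⟨hW.isoSpec.inv p, by simp [IsAffineOpen.primeIdealOf]⟩
    obtain ⟨z', hz'W', hz'⟩ := haO z.2
    have hz'W'' : z' ∈ W'' := by
      rw [hW''eq]
      exact ⟨hz'W', by show f z' ∈ W; rw [hz']; exact z.2⟩
    refine ⟨hW''.primeIdealOf ⟨z', hz'W''⟩, ?_⟩
    rw [IsAffineOpen.comap_primeIdealOf_appLE W hW W'' hW'' e'' hz'W'']
    congr 1
    exact Subtype.ext hz'
  · rw [← CommRingCat.hom_comp, hcomp]
    exact HasRingHomProperty.appLE (P := P) (f ≫ g) h ⟨V, hV⟩ ⟨W'', hW''⟩ _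

/-- S5938 -/
theorem locallyOfFiniteType_of_fppf_cover (f : X' ⟶ X) (g : X ⟶ Y) [Surjective f] [Flat f]
    [LocallyOfFinitePresentation f] [LocallyOfFiniteType (f ≫ g)] : LocallyOfFiniteType g := by
  rw [HasRingHomProperty.iff_exists_appLE (P := @LocallyOfFiniteType)
    (RingHom.finiteType_stableUnderComposition.stableUnderCompositionWithLocalizationAway
      RingHom.finiteType_holdsForLocalizationAway).left]
  intro x
  obtain ⟨x', rfl⟩ := f.surjective x
  exact exists_appLE_of_fppf (P := @LocallyOfFiniteType)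
    (fun φ ψ h1 h2 h3 h4 => finiteType_of_fppf_comp φ ψ h1 h2 h3 h4) f g inferInstance x'

/-- S0114 -/
theorem locallyOfFinitePresentation_of_fppf_cover (f : X' ⟶ X) (g : X ⟶ Y) [Surjective f]
    [Flat f] [LocallyOfFinitePresentation f] [LocallyOfFinitePresentation (f ≫ g)] :
    LocallyOfFinitePresentation g := by
  rw [HasRingHomProperty.iff_exists_appLE (P := @LocallyOfFinitePresentation)
    (RingHom.finitePresentation_stableUnderComposition.stableUnderCompositionWithLocalizationAway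
      RingHom.finitePresentation_holdsForLocalizationAway).left]
  intro x
  obtain ⟨x', rfl⟩ := f.surjective x
  exact exists_appLE_of_fppf (P := @LocallyOfFinitePresentation)
    (fun φ ψ h1 h2 h3 h4 => finitePresentation_of_fppf_comp φ ψ h1 h2 h3 h4) f g inferInstance x'

end Groth.Agent.Helper3.FppfDesc
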