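import Mathlib
import Groth.Agent.Lib.Helper7.FlatAtBC.Main

/-! Flatness of the local ring at a smooth point. -/

set_option autoImplicit false
universe u
namespace Groth.Agent.Helper3.SmDesc

open TensorProduct

theorem flat_localization_of_isSmoothAt (A C : Type u) [CommRing A] [CommRing C] [Algebra A C]
    [Algebra.FinitePresentation A C] (r : Ideal C) [r.IsPrime] [Algebra.IsSmoothAt A r] :
    Module.Flat A (Localization.AtPrime r) := by
  obtain ⟨f, hf, hsm⟩ := Algebra.IsSmoothAt.exists_notMem_smooth A r
  have hu : IsUnit (algebraMap C (Localization.AtPrime r) f) :=
    IsLocalization.map_units (M := r.primeCompl) _ ⟨f, hf⟩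
  letI : Algebra (Localization.Away f) (Localization.AtPrime r) :=
    (IsLocalization.Away.lift f hu).toAlgebra
  haveI : IsScalarTower C (Localization.Away f) (Localization.AtPrime r) :=
    IsScalarTower.of_algebraMap_eq (fun x => by
      show _ = IsLocalization.Away.lift f hu (algebraMap C (Localization.Away f) x)
      rw [IsLocalization.Away.lift_eq])
  haveI : IsScalarTower A (Localization.Away f) (Localization.AtPrime r) :=
    IsScalarTower.of_algebraMap_eq (fun x => by
      rw [IsScalarTower.algebraMap_apply A C (Localization.AtPrime r),
        IsScalarTower.algebraMap_apply C (Localization.Away f) (Localization.AtPrime r),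
        ← IsScalarTower.algebraMap_apply A C (Localization.Away f)])
  have hle : Submonoid.powers f ≤ r.primeCompl := by
    rintro _ ⟨n, rfl⟩
    exact r.primeCompl.pow_mem hf n
  haveI : IsLocalization (r.primeCompl.map (algebraMap C (Localization.Away f)))
      (Localization.AtPrime r) :=
    IsLocalization.isLocalization_of_submonoid_le (Localization.Away f) (Localization.AtPrime r)
      (Submonoid.powers f) r.primeCompl hle
  haveI : Module.Flat A (Localization.Away f) := inferInstance
  exact Groth.Agent.Helper7.FlatAtBC.flat_of_isLocalizedModule
    (A := A) (B := Localization.Away f)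
    (r.primeCompl.map (algebraMap C (Localization.Away f)))
    (Algebra.linearMap (Localization.Away f) (Localization.AtPrime r))

end Groth.Agent.Helper3.SmDesc
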