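import Mathlib
import Groth.Prelude.Def_Found
import Groth.Agent.Lib.Helper3.SmDesc1

/-! Descent of geometric regularity of residue-field base changes. -/

set_option autoImplicit false
universe u
namespace Groth.Agent.Helper3.SmDesc

open TensorProduct

theorem isGeometricallyRegular_of_algEquiv {k R R' : Type u} [Field k] [CommRing R] [CommRing R']
    [Algebra k R] [Algebra k R'] (e : R ≃ₐ[k] R') (h : CAlg.IsGeometricallyRegular k R) :
    CAlg.IsGeometricallyRegular k R' := by
  intro k' _ _ hfin
  haveI := h k' hfin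
  exact IsRegularRing.of_ringEquiv
    (Algebra.TensorProduct.congr (AlgEquiv.refl (R := k) (A₁ := k')) e).toRingEquiv

attribute [local instance] Algebra.TensorProduct.rightAlgebra in
theorem isGeometricallyRegular_tensor_of_faithfullyFlat (R K S S' : Type u) [CommRing R] [Field K]
    [Algebra R K] [CommRing S] [CommRing S'] [Algebra R S] [Algebra R S'] [Algebra S S']
    [IsScalarTower R S S'] [Module.FaithfullyFlat S S'] [IsNoetherianRing (K ⊗[R] S)]
    (h : CAlg.IsGeometricallyRegular K (K ⊗[R] S')) :
    CAlg.IsGeometricallyRegular K (K ⊗[R] S) := by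
  letI : Algebra (S ⊗[R] K) (S' ⊗[R] K) :=
    (Algebra.TensorProduct.map (IsScalarTower.toAlgHom R S S') (AlgHom.id R K)).toRingHom.toAlgebra
  haveI : IsScalarTower S (S ⊗[R] K) (S' ⊗[R] K) := IsScalarTower.of_algebraMap_eq (fun x => by
    show algebraMap S (S' ⊗[R] K) x =
      Algebra.TensorProduct.map (IsScalarTower.toAlgHom R S S') (AlgHom.id R K)
        (algebraMap S (S ⊗[R] K) x)
    simp [Algebra.TensorProduct.algebraMap_apply])
  haveI : IsScalarTower K (S ⊗[R] K) (S' ⊗[R] K) := IsScalarTower.of_algebraMap_eq (fun x => by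
    show algebraMap K (S' ⊗[R] K) x =
      Algebra.TensorProduct.map (IsScalarTower.toAlgHom R S S') (AlgHom.id R K)
        (algebraMap K (S ⊗[R] K) x)
    simp [Algebra.TensorProduct.right_algebraMap_apply])
  haveI hpo : Algebra.IsPushout S S' (S ⊗[R] K) (S' ⊗[R] K) := by
    refine Algebra.IsPushout.tensorProduct_tensorProduct R K S S' ?_
    ext x
    simp [RingHom.algebraMap_toAlgebra]
  haveI : Module.FaithfullyFlat (S ⊗[R] K) (S' ⊗[R] K) := by
    rw [← RingHom.faithfullyFlat_algebraMap_iff]
    exact RingHom.FaithfullyFlat.isStableUnderBaseChange S S' (S ⊗[R] K) (S' ⊗[R] K)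
      (RingHom.faithfullyFlat_algebraMap_iff.mpr inferInstance)
  haveI : IsNoetherianRing (S ⊗[R] K) :=
    isNoetherianRing_of_ringEquiv _ (Algebra.TensorProduct.commRight R K S).toRingEquiv
  have h2 : CAlg.IsGeometricallyRegular K (S' ⊗[R] K) :=
    isGeometricallyRegular_of_algEquiv (Algebra.TensorProduct.commRight R K S') h
  have h1 : CAlg.IsGeometricallyRegular K (S ⊗[R] K) :=
    isGeometricallyRegular_of_faithfullyFlat K (S ⊗[R] K) (S' ⊗[R] K) h2
  exact isGeometricallyRegular_of_algEquiv (Algebra.TensorProduct.commRight R K S).symm h1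

end Groth.Agent.Helper3.SmDesc
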