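import Mathlib
import Groth.Prelude.Def_Found
import Groth.Agent.Lib.Helper3.SmDesc2
import Groth.Agent.Lib.Helper3.SmDesc3
import Groth.Agent.Lib.Helper3.SmDesc4
import Groth.Agent.Lib.Helper4.UnramDescent1

/-! Smoothness at a point descends along a morphism flat at that point (ring level). -/

set_option autoImplicit false
universe u
namespace Groth.Agent.Helper3.SmDesc

open TensorProduct IsLocalRing

theorem exists_fibre_prime {A B : Type u} [CommRing A] [CommRing B] [Algebra A B] (p : Ideal A)
    [p.IsPrime] (q : Ideal B) [q.IsPrime] [q.LiesOver p] :
    ∃ q' : Ideal (p.Fiber B), q'.IsPrime ∧ below p q' = q := by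
  let x : p.primesOver B := ⟨q, ⟨inferInstance, inferInstance⟩⟩
  let y := PrimeSpectrum.primesOverOrderIsoFiber A B p x
  refine ⟨y.asIdeal, y.2, ?_⟩
  have h := PrimeSpectrum.coe_primesOverOrderIsoFiber_symm_apply (R := A) (S := B) (p := p) y
  rw [OrderIso.symm_apply_apply] at h
  exact h.symm

set_option backward.isDefEq.respectTransparency false in
theorem isSmoothAt_of_flat_of_isSmoothAt {A B C : Type u} [CommRing A] [CommRing B] [CommRing C]
    [Algebra A B] [Algebra B C] [Algebra A C] [IsScalarTower A B C]
    [Algebra.FinitePresentation A B] [Algebra.FinitePresentation A C]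
    (p : Ideal A) (q : Ideal B) (r : Ideal C) [p.IsPrime] [q.IsPrime] [r.IsPrime]
    [q.LiesOver p] [r.LiesOver q] [r.LiesOver p]
    (hflat : letI := Localization.AtPrime.algebraOfLiesOver q r
      Module.Flat (Localization.AtPrime q) (Localization.AtPrime r))
    [Algebra.IsSmoothAt A r] : Algebra.IsSmoothAt A q := by
  obtain ⟨q', hq'prime, hq⟩ := exists_fibre_prime p q
  subst hq
  letI := Localization.AtPrime.algebraOfLiesOver p (below p q')
  letI := Localization.AtPrime.algebraOfLiesOver (below p q') r
  letI := Localization.AtPrime.algebraOfLiesOver p r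
  haveI : Module.Flat (Localization.AtPrime (below p q')) (Localization.AtPrime r) := hflat
  haveI : IsLocalHom (algebraMap (Localization.AtPrime (below p q')) (Localization.AtPrime r)) :=
    Localization.isLocalHom_localRingHom _ _ _ _
  haveI : Module.FaithfullyFlat (Localization.AtPrime (below p q')) (Localization.AtPrime r) :=
    Module.FaithfullyFlat.of_flat_of_isLocalHom
  haveI : Module.Flat A (Localization.AtPrime r) := flat_localization_of_isSmoothAt A C r
  haveI : Module.Flat (Localization.AtPrime p) (Localization.AtPrime r) :=
    (Module.flat_iff_of_isLocalization (Localization.AtPrime p) p.primeCompl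
      (Localization.AtPrime r)).mpr inferInstance
  have hAB : Module.Flat (Localization.AtPrime p) (Localization.AtPrime (below p q')) :=
    Groth.Agent.Lib.Helper4.UnramDescent1.flat_of_flat_of_faithfullyFlat
      (Localization.AtPrime p) (Localization.AtPrime (below p q')) (Localization.AtPrime r)
  -- finiteness
  haveI : Algebra.EssFiniteType B (Localization.AtPrime (below p q')) :=
    Algebra.EssFiniteType.of_isLocalization _ (below p q').primeCompl
  haveI : Algebra.EssFiniteType A (Localization.AtPrime (below p q')) :=
    Algebra.EssFiniteType.comp A B _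
  haveI : Algebra.EssFiniteType (Localization.AtPrime p) (Localization.AtPrime (below p q')) :=
    Algebra.EssFiniteType.of_comp A _ _
  haveI : Algebra.EssFiniteType C (Localization.AtPrime r) :=
    Algebra.EssFiniteType.of_isLocalization _ r.primeCompl
  haveI : Algebra.EssFiniteType A (Localization.AtPrime r) :=
    Algebra.EssFiniteType.comp A C _
  haveI : Algebra.EssFiniteType (Localization.AtPrime p) (Localization.AtPrime r) :=
    Algebra.EssFiniteType.of_comp A _ _
  haveI : IsNoetherianRing
      (p.ResidueField ⊗[Localization.AtPrime p] Localization.AtPrime (below p q')) :=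
    Algebra.EssFiniteType.isNoetherianRing p.ResidueField _
  haveI : IsNoetherianRing
      (p.ResidueField ⊗[Localization.AtPrime p] Localization.AtPrime r) :=
    Algebra.EssFiniteType.isNoetherianRing p.ResidueField _
  -- smoothness of the fibre of `C`
  haveI : Algebra.FormallySmooth A (Localization.AtPrime r) := ‹Algebra.IsSmoothAt A r›
  haveI : Algebra.FormallySmooth (Localization.AtPrime p) (Localization.AtPrime r) :=
    Algebra.FormallySmooth.localization_base p.primeCompl
  have h9 : CAlg.IsGeometricallyRegular p.ResidueField
      (p.ResidueField ⊗[Localization.AtPrime p] Localization.AtPrime r) :=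
    Groth.Agent.Helper8.AdicFS.isGeometricallyRegular_of_formallySmooth_field _ _
  have h10 : CAlg.IsGeometricallyRegular p.ResidueField
      (p.ResidueField ⊗[Localization.AtPrime p] Localization.AtPrime (below p q')) :=
    isGeometricallyRegular_tensor_of_faithfullyFlat (Localization.AtPrime p) p.ResidueField
      (Localization.AtPrime (below p q')) (Localization.AtPrime r) h9
  have h11 := formallySmooth_tensor_of_isGeometricallyRegular p q' h10
  exact Groth.Agent.Lib.Helper4.StalkEtale1.isSmoothAt_of_flat_of_formallySmooth_fiber
    p (below p q') hAB h11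

end Groth.Agent.Helper3.SmDesc
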