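import Mathlib
import Groth.Agent.Lib.Helper3.SmDesc5
import Groth.Agent.Lib.Helper4.StalkEtale1

/-! Smooth neighbourhoods descend along morphisms flat at a point (S2805). -/

set_option autoImplicit false
universe u
open AlgebraicGeometry CategoryTheory Limits
open Groth.Agent.Lib.Helper4.StalkEtale1

namespace Groth.Agent.Helper3.SmDesc

variable {X Y S : Scheme.{u}}

set_option backward.isDefEq.respectTransparency false in
theorem S2805_main (f : Y ⟶ S) (h : X ⟶ S)
    [LocallyOfFinitePresentation f] [LocallyOfFinitePresentation h]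
    (g : X ⟶ Y) (w : g ≫ f = h) (x : X) (hg : (g.stalkMap x).hom.Flat)
    (hh : ∃ U : X.Opens, x ∈ U ∧ Smooth (U.ι ≫ h)) :
    ∃ V : Y.Opens, g.base x ∈ V ∧ Smooth (V.ι ≫ f) := by
  subst w
  rw [exists_smooth_nhd_iff] at hh
  apply (exists_smooth_nhd_iff f (g x)).mpr
  obtain ⟨_, ⟨W, hW, rfl⟩, hsW, -⟩ :=
    S.isBasis_affineOpens.exists_subset_of_mem_open (Set.mem_univ (f (g x))) isOpen_univ
  obtain ⟨_, ⟨U, hU, rfl⟩, hyU, hUW⟩ :=
    Y.isBasis_affineOpens.exists_subset_of_mem_open hsW (W.2.preimage f.continuous)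
  obtain ⟨_, ⟨V, hV, rfl⟩, hxV, hVU⟩ :=
    X.isBasis_affineOpens.exists_subset_of_mem_open hyU (U.2.preimage g.continuous)
  have hVW : V ≤ (g ≫ f) ⁻¹ᵁ W := fun z hz => hUW (hVU hz)
  have hfpB := f.finitePresentation_appLE hW hU hUW
  have hfpC := (g ≫ f).finitePresentation_appLE hW hV hVW
  algebraize [(f.appLE W U hUW).hom, (g.appLE U V hVU).hom, ((g ≫ f).appLE W V hVW).hom]
  haveI : IsScalarTower Γ(S, W) Γ(Y, U) Γ(X, V) := IsScalarTower.of_algebraMap_eq' (by
    simp only [RingHom.algebraMap_toAlgebra, ← CommRingCat.hom_comp, Scheme.Hom.appLE_comp_appLE])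
  rw [formallySmooth_stalkMap_iff W hW U hU hUW hyU]
  rw [formallySmooth_stalkMap_iff W hW V hV hVW hxV] at hh
  let p := (hW.primeIdealOf ⟨f (g x), hsW⟩).asIdeal
  let q := (hU.primeIdealOf ⟨g x, hyU⟩).asIdeal
  let r := (hV.primeIdealOf ⟨x, hxV⟩).asIdeal
  haveI : q.LiesOver p :=
    ⟨congr($(IsAffineOpen.comap_primeIdealOf_appLE W hW U hU hUW hyU).1).symm⟩
  haveI : r.LiesOver q :=
    ⟨congr($(IsAffineOpen.comap_primeIdealOf_appLE U hU V hV hVU hxV).1).symm⟩
  haveI : r.LiesOver p :=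
    ⟨congr($(IsAffineOpen.comap_primeIdealOf_appLE W hW V hV hVW hxV).1).symm⟩
  haveI : Algebra.IsSmoothAt Γ(S, W) r := hh
  letI := Localization.AtPrime.algebraOfLiesOver q r
  have hflat : Module.Flat (Localization.AtPrime q) (Localization.AtPrime r) := by
    rw [← RingHom.flat_algebraMap_iff]
    exact (RingHom.Flat.respectsIso.arrow_mk_iso_iff
      (IsAffineOpen.arrowStalkMapIso g U hU V hV hVU hxV)).mp hg
  exact isSmoothAt_of_flat_of_isSmoothAt p q r hflat

end Groth.Agent.Helper3.SmDesc
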