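import Mathlib
import Groth.Agent.Lib.Helper3.FppfDesc3
import Groth.Agent.Lib.Helper3.SmDesc6

/-! Smoothness descends along fppf covers of the source; local finite type is fppf local on the
source. -/

set_option autoImplicit false
universe u
open AlgebraicGeometry CategoryTheory

namespace Groth.Agent.Helper3.FppfDesc

variable {X Y S : Scheme.{u}}

/-- S0115 -/
theorem smooth_of_fppf_cover (f : X ⟶ Y) (q : Y ⟶ S) [Surjective f] [Flat f]
    [LocallyOfFinitePresentation f] [Smooth (f ≫ q)] : Smooth q := by
  haveI : LocallyOfFinitePresentation (f ≫ q) := inferInstance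
  haveI : LocallyOfFinitePresentation q := locallyOfFinitePresentation_of_fppf_cover f q
  have key : ∀ y : Y, ∃ V : Y.Opens, y ∈ V ∧ Smooth (V.ι ≫ q) := by
    intro y
    obtain ⟨x, rfl⟩ := f.surjective y
    refine Groth.Agent.Helper3.SmDesc.S2805_main q (f ≫ q) f rfl x (Flat.stalkMap f x)
      ⟨⊤, trivial, ?_⟩
    infer_instance
  choose V hV hsm using key
  refine IsZariskiLocalAtSource.of_iSup_eq_top (P := @Smooth) V ?_ hsm
  rw [eq_top_iff]
  intro y _
  exact TopologicalSpace.Opens.mem_iSup.mpr ⟨y, hV y⟩

/-- S9844 -/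
theorem isLocalAtSource_locallyOfFiniteType :
    MorphismProperty.IsLocalAtSource (@LocallyOfFiniteType : MorphismProperty Scheme.{u})
      Scheme.fppfPrecoverage := by
  open Groth.Agent.Helper9.FppfCov in
  refine MorphismProperty.IsLocalAtSource.mk_of_iff (fun {X Y f R} hR => ?_)
  constructor
  · intro hf U g hg
    haveI := fppf_lfp hR hg
    haveI : LocallyOfFiniteType f := hf
    show LocallyOfFiniteType (g ≫ f)
    infer_instance
  · intro h
    show LocallyOfFiniteType f
    rw [HasRingHomProperty.iff_exists_appLE (P := @LocallyOfFiniteType)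
      (RingHom.finiteType_stableUnderComposition.stableUnderCompositionWithLocalizationAway
        RingHom.finiteType_holdsForLocalizationAway).left]
    intro x
    obtain ⟨U, g, hg, u, rfl⟩ := exists_mem_range hR x
    haveI := fppf_lfp hR hg
    haveI := fppf_flat hR hg
    exact exists_appLE_of_fppf (P := @LocallyOfFiniteType)
      (fun φ ψ h1 h2 h3 h4 => finiteType_of_fppf_comp φ ψ h1 h2 h3 h4) g f (h hg) u

end Groth.Agent.Helper3.FppfDesc
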