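import Mathlib
import Groth.Prelude.Def_Curv2
import Groth.Agent.Lib.Helper3.GeoReg2
import Groth.Agent.Lib.Helper3.SmDesc1

/-! Geometric regularity descends along a morphism flat at a point (S1563). -/

set_option autoImplicit false
universe u
namespace Groth.Agent.Helper3.GeoReg

open CategoryTheory AlgebraicGeometry TensorProduct

attribute [local instance] Curv2.stalkAlgebra

theorem stalkMap_comp_stalkMap (k : Type u) [Field k] (X Y : Scheme.{u})
    [X.Over (Spec (CommRingCat.of k))] [Y.Over (Spec (CommRingCat.of k))] (f : X ⟶ Y)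
    (hf : f ≫ (Y ↘ (Spec (CommRingCat.of k))) = X ↘ (Spec (CommRingCat.of k))) (x : X) :
    (f.stalkMap x).hom.comp (Curv2.stalkMap k Y (f x)) = Curv2.stalkMap k X x := by
  ext a
  simp only [Curv2.stalkMap, Coh.toGlobal, RingHom.comp_apply]
  rw [← hf]
  simp only [Scheme.Hom.comp_appTop, CommRingCat.hom_comp, RingHom.comp_apply]
  exact Scheme.Hom.germ_stalkMap_apply f ⊤ x trivial _

theorem S1563_main (k : Type u) [Field k] (X Y : Scheme.{u}) [X.Over (Spec (CommRingCat.of k))]
    [Y.Over (Spec (CommRingCat.of k))]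
    [IsLocallyNoetherian X] [IsLocallyNoetherian Y] (f : X ⟶ Y)
    (hf : f ≫ (Y ↘ (Spec (CommRingCat.of k))) = X ↘ (Spec (CommRingCat.of k)))
    (x : X) (hflat : (f.stalkMap x).hom.Flat) (hx : Curv2.IsGeomRegularAt k X x) :
    Curv2.IsGeomRegularAt k Y (f.base x) := by
  haveI : IsNoetherianRing ↥(X.presheaf.stalk x) := inferInstance
  haveI : IsNoetherianRing ↥(Y.presheaf.stalk (f x)) := inferInstance
  rw [isGeomRegularAt_iff_isGeometricallyRegular] at hx ⊢
  letI : Algebra ↥(Y.presheaf.stalk (f x)) ↥(X.presheaf.stalk x) := (f.stalkMap x).hom.toAlgebra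
  haveI : IsScalarTower k ↥(Y.presheaf.stalk (f x)) ↥(X.presheaf.stalk x) :=
    IsScalarTower.of_algebraMap_eq (fun a =>
      (RingHom.congr_fun (stalkMap_comp_stalkMap k X Y f hf x) a).symm)
  haveI : Module.Flat ↥(Y.presheaf.stalk (f x)) ↥(X.presheaf.stalk x) := hflat
  haveI : IsLocalHom (algebraMap ↥(Y.presheaf.stalk (f x)) ↥(X.presheaf.stalk x)) :=
    inferInstanceAs (IsLocalHom (f.stalkMap x).hom)
  haveI : Module.FaithfullyFlat ↥(Y.presheaf.stalk (f x)) ↥(X.presheaf.stalk x) :=
    Module.FaithfullyFlat.of_flat_of_isLocalHom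
  exact Groth.Agent.Helper3.SmDesc.isGeometricallyRegular_of_faithfullyFlat k _ _ hx

end Groth.Agent.Helper3.GeoReg
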