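import Mathlib
import Groth.Prelude.Def_RDer
import Groth.Prelude.Def_RDerDelta
import Groth.Agent.Lib.Helper3.RDerL

/-!
# The second edge map `R^n(Φ ⋙ Ψ) X ⟶ Ψ (R^n Φ X)` is an isomorphism when the relevant
`E_2`-terms vanish (generic homological algebra)
-/

set_option autoImplicit false
universe v₁ v₂ v₃ u₁ u₂ u₃
open CategoryTheory CategoryTheory.Limits

namespace Groth.Agent.Helper3.EdgeOutIso

open Groth.Agent.Helper3

section acy

variable {B : Type u₂} [Category.{v₂} B] [Abelian B] [HasInjectiveResolutions B]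
  {C : Type u₃} [Category.{v₃} C] [Abelian C]
  (Ψ : B ⥤ C) [Ψ.Additive]

/-- `Ψ`-acyclic objects -/
def Acy (Z : B) : Prop := ∀ k : ℕ, IsZero ((Ψ.rightDerived (k + 1)).obj Z)

theorem acy_of_isZero {Z : B} (h : IsZero Z) : Acy Ψ Z := fun _ => Functor.map_isZero _ h

theorem acy_of_iso {Z Z' : B} (e : Z ≅ Z') (h : Acy Ψ Z) : Acy Ψ Z' :=
  fun k => (h k).of_iso ((Ψ.rightDerived (k + 1)).mapIso e.symm)

theorem acy_of_injective (Z : B) [Injective Z] : Acy Ψ Z :=
  fun k => Functor.isZero_rightDerived_obj_injective_succ _ k Z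

lemma enoughInjectives : EnoughInjectives B where
  presentation X := by
    let I := injectiveResolution X
    exact ⟨⟨I.cocomplex.X 0, inferInstance,
      (HomologicalComplex.singleObjXSelf (ComplexShape.up ℕ) 0 X).inv ≫ I.ι.f 0, inferInstance⟩⟩

theorem acy_X₃ {S : ShortComplex B} (hS : S.ShortExact) (h₁ : Acy Ψ S.X₁) (h₂ : Acy Ψ S.X₂) :
    Acy Ψ S.X₃ := by
  haveI := enoughInjectives (B := B)
  intro k
  exact ((RDerL.derivedLES Ψ).exact₃ S hS (k + 1) (k + 2) rfl).isZero_of_both_zeros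
    ((h₂ k).eq_of_src _ _) ((h₁ (k + 1)).eq_of_tgt _ _)

theorem acy_X₂ {S : ShortComplex B} (hS : S.ShortExact) (h₁ : Acy Ψ S.X₁) (h₃ : Acy Ψ S.X₃) :
    Acy Ψ S.X₂ := by
  haveI := enoughInjectives (B := B)
  intro k
  exact ((RDerL.derivedLES Ψ).exact₂ S hS (k + 1)).isZero_of_both_zeros
    ((h₁ k).eq_of_src _ _) ((h₃ k).eq_of_tgt _ _)

theorem epi_map_g [PreservesFiniteLimits Ψ] {S : ShortComplex B} (hS : S.ShortExact)
    (h₁ : IsZero ((Ψ.rightDerived 1).obj S.X₁)) : Epi (Ψ.map S.g) := by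
  haveI := enoughInjectives (B := B)
  haveI : Epi ((Ψ.rightDerived 0).map S.g) :=
    ((RDerL.derivedLES Ψ).exact₃ S hS 0 1 rfl).epi_f (h₁.eq_of_tgt _ _)
  let e := Ψ.rightDerivedZeroIsoSelf
  have h : Ψ.map S.g = e.inv.app _ ≫ (Ψ.rightDerived 0).map S.g ≫ e.hom.app _ := by
    rw [e.hom.naturality, Iso.inv_hom_id_app_assoc]
  rw [h]
  infer_instance

end acy

section G1

variable {B : Type u₂} [Category.{v₂} B] [Abelian B] [HasInjectiveResolutions B]
  {C : Type u₃} [Category.{v₃} C] [Abelian C]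
  (Ψ : B ⥤ C) [Ψ.Additive] [PreservesFiniteLimits Ψ]
  (S : ShortComplex B) (hS : S.Exact) [Epi S.g] {Z : B} (ι : Z ⟶ S.X₁) [Mono ι]
  (w : ι ≫ S.f = 0) (hι : (ShortComplex.mk ι S.f w).Exact)

/-- the lift of `S.f` to the kernel of `S.g` -/
noncomputable def b : S.X₁ ⟶ kernel S.g := kernel.lift S.g S.f S.zero

@[reassoc (attr := simp)]
lemma b_ι : b S ≫ kernel.ι S.g = S.f := kernel.lift_ι _ _ _

include w in
lemma ι_b : ι ≫ b S = 0 := by
  rw [← cancel_mono (kernel.ι S.g), Category.assoc, b_ι, w, zero_comp]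

include hS hι in
theorem ses_b : (ShortComplex.mk ι (b S) (ι_b S ι w)).ShortExact := by
  haveI : Epi (b S) := (ShortComplex.exact_iff_epi_kernel_lift S).1 hS
  refine ShortComplex.ShortExact.mk' ?_ ‹Mono ι› ‹Epi (b S)›
  let φ : ShortComplex.mk ι (b S) (ι_b S ι w) ⟶ ShortComplex.mk ι S.f w :=
    { τ₁ := 𝟙 _, τ₂ := 𝟙 _, τ₃ := kernel.ι S.g, comm₁₂ := by simp, comm₂₃ := by simp }
  haveI : Epi φ.τ₁ := inferInstanceAs (Epi (𝟙 _))
  haveI : IsIso φ.τ₂ := inferInstanceAs (IsIso (𝟙 _))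
  haveI : Mono φ.τ₃ := inferInstanceAs (Mono (kernel.ι S.g))
  exact (ShortComplex.exact_iff_of_epi_of_isIso_of_mono φ).2 hι

theorem ses_g : (ShortComplex.mk (kernel.ι S.g) S.g (kernel.condition _)).ShortExact :=
  ShortComplex.ShortExact.mk' (ShortComplex.exact_of_f_is_kernel _ (kernelIsKernel _))
    (inferInstanceAs (Mono (kernel.ι S.g))) ‹Epi S.g›

include hS hι in
theorem acy_kernel (hZ : Acy Ψ Z) (h₁ : Acy Ψ S.X₁) : Acy Ψ (kernel S.g) :=
  acy_X₃ Ψ (S := ShortComplex.mk ι (b S) (ι_b S ι w)) (ses_b S hS ι w hι) hZ h₁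

include hS hι in
theorem acy_mid (hZ : Acy Ψ Z) (h₁ : Acy Ψ S.X₁) (h₃ : Acy Ψ S.X₃) : Acy Ψ S.X₂ :=
  acy_X₂ Ψ (S := ShortComplex.mk (kernel.ι S.g) S.g (kernel.condition _)) (ses_g S)
    (acy_kernel Ψ S hS ι w hι hZ h₁) h₃

include hS hι in
theorem epi_map (hZ : Acy Ψ Z) (h₁ : Acy Ψ S.X₁) : Epi (Ψ.map S.g) :=
  epi_map_g Ψ (S := ShortComplex.mk (kernel.ι S.g) S.g (kernel.condition _)) (ses_g S)
    (acy_kernel Ψ S hS ι w hι hZ h₁ 0)

include hS hι in
theorem exact_map (hZ : Acy Ψ Z) : (S.map Ψ).Exact := by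
  haveI : Epi (Ψ.map (b S)) :=
    epi_map_g Ψ (S := ShortComplex.mk ι (b S) (ι_b S ι w)) (ses_b S hS ι w hι) (hZ 0)
  have h2 : ((ShortComplex.mk (kernel.ι S.g) S.g (kernel.condition _)).map Ψ).Exact :=
    (ses_g S).exact.map_of_mono_of_preservesKernel Ψ (inferInstanceAs (Mono (kernel.ι S.g)))
      inferInstance
  let φ : S.map Ψ ⟶ (ShortComplex.mk (kernel.ι S.g) S.g (kernel.condition _)).map Ψ :=
    { τ₁ := Ψ.map (b S), τ₂ := 𝟙 _, τ₃ := 𝟙 _
      comm₁₂ := by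
        change Ψ.map (b S) ≫ Ψ.map (kernel.ι S.g) = Ψ.map S.f ≫ 𝟙 _
        rw [← Ψ.map_comp, b_ι, Category.comp_id]
      comm₂₃ := by
        change 𝟙 _ ≫ Ψ.map S.g = Ψ.map S.g ≫ 𝟙 _
        rw [Category.id_comp, Category.comp_id] }
  haveI : Epi φ.τ₁ := inferInstanceAs (Epi (Ψ.map (b S)))
  haveI : IsIso φ.τ₂ := inferInstanceAs (IsIso (𝟙 _))
  haveI : Mono φ.τ₃ := inferInstanceAs (Mono (𝟙 _))
  exact (ShortComplex.exact_iff_of_epi_of_isIso_of_mono φ).2 h2

end G1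

section cx

variable {B : Type u₂} [Category.{v₂} B] [Abelian B] [HasInjectiveResolutions B]
  {C : Type u₃} [Category.{v₃} C] [Abelian C]
  (Ψ : B ⥤ C) [Ψ.Additive] [PreservesFiniteLimits Ψ]
  (K : CochainComplex B ℕ)

/-- the short complex `K^i ⟶ Z^j ⟶ H^j` -/
noncomputable abbrev SK (i j : ℕ) : ShortComplex B :=
  ShortComplex.mk (K.toCycles i j) (K.homologyπ j) (K.toCycles_comp_homologyπ i j)

instance (i j : ℕ) : Epi (SK K i j).g := inferInstanceAs (Epi (K.homologyπ j))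

lemma SK_exact (i j : ℕ) (hij : (ComplexShape.up ℕ).Rel i j) : (SK K i j).Exact :=
  ShortComplex.exact_of_g_is_cokernel _
    (K.homologyIsCokernel i j ((ComplexShape.up ℕ).prev_eq' hij))

lemma iCycles_toCycles (i j : ℕ) : K.iCycles i ≫ K.toCycles i j = 0 := by
  rw [← cancel_mono (K.iCycles j), Category.assoc, K.toCycles_i, K.iCycles_d, zero_comp]

lemma hι (i j : ℕ) (hij : (ComplexShape.up ℕ).Rel i j) :
    (ShortComplex.mk (K.iCycles i) (SK K i j).f (iCycles_toCycles K i j)).Exact := by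
  have h : (ShortComplex.mk (K.iCycles i) (K.d i j) (K.iCycles_d i j)).Exact :=
    ShortComplex.exact_of_f_is_kernel _
      (K.cyclesIsKernel i j ((ComplexShape.up ℕ).next_eq' hij))
  let φ : ShortComplex.mk (K.iCycles i) (SK K i j).f (iCycles_toCycles K i j) ⟶
      ShortComplex.mk (K.iCycles i) (K.d i j) (K.iCycles_d i j) :=
    { τ₁ := 𝟙 _, τ₂ := 𝟙 _, τ₃ := K.iCycles j
      comm₁₂ := by simp
      comm₂₃ := by
        change 𝟙 _ ≫ K.d i j = K.toCycles i j ≫ K.iCycles j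
        rw [K.toCycles_i, Category.id_comp] }
  haveI : Epi φ.τ₁ := inferInstanceAs (Epi (𝟙 _))
  haveI : IsIso φ.τ₂ := inferInstanceAs (IsIso (𝟙 _))
  haveI : Mono φ.τ₃ := inferInstanceAs (Mono (K.iCycles j))
  exact (ShortComplex.exact_iff_of_epi_of_isIso_of_mono φ).2 h

theorem acy_cycles (n : ℕ) (hK : ∀ i, Acy Ψ (K.X i))
    (hH : ∀ p, p < n → Acy Ψ (K.homology p)) : ∀ m, m < n → Acy Ψ (K.cycles m)
  | 0, h => acy_of_iso Ψ K.isoHomologyπ₀.symm (hH 0 h)
  | m + 1, h =>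
    acy_mid Ψ (SK K m (m + 1)) (SK_exact K m (m + 1) (by simp)) (K.iCycles m)
      (iCycles_toCycles K m (m + 1)) (hι K m (m + 1) (by simp))
      (acy_cycles n hK hH m (by omega)) (hK m) (hH (m + 1) h)

omit [HasInjectiveResolutions B] in
theorem isIso_cyclesComparison {ι' : Type*} {c : ComplexShape ι'} (K : HomologicalComplex B c)
    (i : ι') : IsIso (RDer.cyclesComparison Ψ K i) := by
  let K' := (Ψ.mapHomologicalComplex c).obj K
  have hw : Ψ.map (K.iCycles i) ≫ K'.d i (c.next i) = 0 := by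
    change Ψ.map (K.iCycles i) ≫ Ψ.map (K.d i (c.next i)) = 0
    rw [← Ψ.map_comp, K.iCycles_d, Ψ.map_zero]
  haveI : Mono (Ψ.map (K.iCycles i)) := inferInstance
  refine ⟨K'.liftCycles (Ψ.map (K.iCycles i)) (c.next i) rfl hw, ?_, ?_⟩
  · rw [← cancel_mono (K'.iCycles i), Category.assoc, K'.liftCycles_i, Category.id_comp]
    exact RDer.cyclesComparison_i Ψ K i
  · rw [← cancel_mono (Ψ.map (K.iCycles i)), Category.assoc, RDer.cyclesComparison_i,
      Category.id_comp]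
    exact K'.liftCycles_i _ _ _ _

/-- **the comparison `H^n(Ψ K) ⟶ Ψ(H^n K)` is an isomorphism** for a complex `K` of `Ψ`-acyclic
objects whose cohomology in degrees `< n` is `Ψ`-acyclic -/
theorem isIso_homologyComparison (n : ℕ) (hK : ∀ i, Acy Ψ (K.X i))
    (hH : ∀ p, p < n → Acy Ψ (K.homology p)) : IsIso (RDer.homologyComparison Ψ K n) := by
  let K' := (Ψ.mapHomologicalComplex (ComplexShape.up ℕ)).obj K
  have h1 : K'.homologyπ n ≫ RDer.homologyComparison Ψ K n =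
      RDer.cyclesComparison Ψ K n ≫ Ψ.map (K.homologyπ n) := RDer.homologyπ_homologyComparison Ψ K n
  cases n with
  | zero =>
    haveI := isIso_cyclesComparison Ψ K 0
    haveI : IsIso (K'.homologyπ 0) :=
      inferInstanceAs (IsIso (CochainComplex.isoHomologyπ₀ K').hom)
    haveI : IsIso (K.homologyπ 0) := inferInstanceAs (IsIso K.isoHomologyπ₀.hom)
    have h2 : RDer.homologyComparison Ψ K 0 =
        inv (K'.homologyπ 0) ≫ RDer.cyclesComparison Ψ K 0 ≫ Ψ.map (K.homologyπ 0) := by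
      rw [← h1, IsIso.inv_hom_id_assoc]
    rw [h2]
    infer_instance
  | succ m =>
    haveI := isIso_cyclesComparison Ψ K (m + 1)
    have hp : (ComplexShape.up ℕ).prev (m + 1) = m := by simp
    have hrel : (ComplexShape.up ℕ).Rel ((ComplexShape.up ℕ).prev (m + 1)) (m + 1) := by
      rw [hp]; simp
    have hZ : Acy Ψ (K.cycles ((ComplexShape.up ℕ).prev (m + 1))) := by
      rw [hp]; exact acy_cycles Ψ K (m + 1) hK hH m (by omega)
    have hex := exact_map Ψ (SK K _ (m + 1)) (SK_exact K _ (m + 1) hrel) (K.iCycles _)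
      (iCycles_toCycles K _ (m + 1)) (hι K _ (m + 1) hrel) hZ
    haveI : Epi (Ψ.map (K.homologyπ (m + 1))) :=
      epi_map Ψ (SK K _ (m + 1)) (SK_exact K _ (m + 1) hrel) (K.iCycles _)
        (iCycles_toCycles K _ (m + 1)) (hι K _ (m + 1) hrel) hZ (hK _)
    haveI : Epi ((SK K ((ComplexShape.up ℕ).prev (m + 1)) (m + 1)).map Ψ).g :=
      inferInstanceAs (Epi (Ψ.map (K.homologyπ (m + 1))))
    have hcok := hex.gIsCokernel
    have h3 : K'.toCycles ((ComplexShape.up ℕ).prev (m + 1)) (m + 1) ≫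
        RDer.cyclesComparison Ψ K (m + 1) =
        Ψ.map (K.toCycles ((ComplexShape.up ℕ).prev (m + 1)) (m + 1)) :=
      RDer.toCycles_cyclesComparison Ψ K (m + 1)
    have hw : Ψ.map (K.toCycles ((ComplexShape.up ℕ).prev (m + 1)) (m + 1)) ≫
        inv (RDer.cyclesComparison Ψ K (m + 1)) ≫ K'.homologyπ (m + 1) = 0 := by
      have h6 : Ψ.map (K.toCycles ((ComplexShape.up ℕ).prev (m + 1)) (m + 1)) ≫
          inv (RDer.cyclesComparison Ψ K (m + 1)) =
          K'.toCycles ((ComplexShape.up ℕ).prev (m + 1)) (m + 1) :=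
        (IsIso.comp_inv_eq _).2 h3.symm
      exact (Category.assoc _ _ _).symm.trans
        ((congrArg (fun t => t ≫ K'.homologyπ (m + 1)) h6).trans
          (K'.toCycles_comp_homologyπ _ _))
    refine ⟨hcok.desc (CokernelCofork.ofπ _ hw), ?_, ?_⟩
    · rw [← cancel_epi (K'.homologyπ (m + 1)), reassoc_of% h1, Category.comp_id]
      have h4 := hcok.fac (CokernelCofork.ofπ _ hw) WalkingParallelPair.one
      have h5 : Ψ.map (K.homologyπ (m + 1)) ≫ hcok.desc (CokernelCofork.ofπ _ hw) =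
          inv (RDer.cyclesComparison Ψ K (m + 1)) ≫ K'.homologyπ (m + 1) := h4
      rw [h5, IsIso.hom_inv_id_assoc]
    · rw [← cancel_epi (Ψ.map (K.homologyπ (m + 1)))]
      have h4 := hcok.fac (CokernelCofork.ofπ _ hw) WalkingParallelPair.one
      have h5 : Ψ.map (K.homologyπ (m + 1)) ≫ hcok.desc (CokernelCofork.ofπ _ hw) =
          inv (RDer.cyclesComparison Ψ K (m + 1)) ≫ K'.homologyπ (m + 1) := h4
      rw [reassoc_of% h5, h1, IsIso.inv_hom_id_assoc, Category.comp_id]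

end cx

section edge

variable {A : Type u₁} [Category.{v₁} A] [Abelian A] [HasInjectiveResolutions A]
  {B : Type u₂} [Category.{v₂} B] [Abelian B] [HasInjectiveResolutions B]
  {C : Type u₃} [Category.{v₃} C] [Abelian C]

/-- **the second edge map `R^n(Φ ⋙ Ψ) X ⟶ Ψ (R^n Φ X)` is an isomorphism** when `Φ` sends injectives
to `Ψ`-acyclic objects and `R^p Φ X` is `Ψ`-acyclic for `p < n` -/
theorem isIso_edgeOut (Φ : A ⥤ B) [Φ.Additive] (Ψ : B ⥤ C) [Ψ.Additive] [PreservesFiniteLimits Ψ]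
    (hΦ : ∀ I : A, Injective I → Acy Ψ (Φ.obj I)) (X : A) (n : ℕ)
    (hX : ∀ p, p < n → Acy Ψ ((Φ.rightDerived p).obj X)) : IsIso (RDer.edgeOut Φ Ψ n X) := by
  have h1 : IsIso (RDer.homologyComparison Ψ
      ((Φ.mapHomologicalComplex (ComplexShape.up ℕ)).obj (injectiveResolution X).cocomplex) n) :=
    isIso_homologyComparison Ψ _ n
      (fun i => hΦ _ (inferInstanceAs (Injective ((injectiveResolution X).cocomplex.X i))))
      (fun p hp => acy_of_iso Ψ ((injectiveResolution X).isoRightDerivedObj Φ p) (hX p hp))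
  dsimp only [RDer.edgeOut]
  exact IsIso.comp_isIso' inferInstance (IsIso.comp_isIso' h1 inferInstance)

end edge

end Groth.Agent.Helper3.EdgeOutIso
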