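import Mathlib

/-!
# Sections of injective abelian sheaves extend along monomorphisms of the site
(version for a site whose morphisms live one universe below the coefficients)
-/

set_option autoImplicit false
universe u
open CategoryTheory CategoryTheory.Limits Opposite

namespace Groth.Agent.Helper3.EdgeOutIso

variable {C : Type (u + 1)} [Category.{u} C] (J : GrothendieckTopology C)
  [HasSheafify J AddCommGrpCat.{u + 1}]

/-- the free abelian presheaf on the representable presheaf of `V` (one universe up) -/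
noncomputable abbrev freePre (V : C) : Cᵒᵖ ⥤ AddCommGrpCat.{u + 1} :=
  yoneda.obj V ⋙ uliftFunctor.{u + 1, u} ⋙ AddCommGrpCat.free.{u + 1}

/-- functoriality -/
noncomputable abbrev freePreMap {V' V : C} (m : V' ⟶ V) : freePre V' ⟶ freePre V :=
  Functor.whiskerRight (yoneda.map m) (uliftFunctor.{u + 1, u} ⋙ AddCommGrpCat.free.{u + 1})

instance mono_freePreMap {V' V : C} (m : V' ⟶ V) [Mono m] : Mono (freePreMap m) := by
  have : ∀ W : Cᵒᵖ, Mono ((freePreMap m).app W) := by
    intro W
    have : Mono (uliftFunctor.{u + 1, u}.map ((yoneda.map m).app W)) := by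
      rw [mono_iff_injective]
      rintro ⟨a⟩ ⟨b⟩ hab
      have h : a ≫ m = b ≫ m := congrArg ULift.down hab
      exact congrArg ULift.up ((cancel_mono m).1 h)
    exact AddCommGrpCat.free.map_mono _
  exact NatTrans.mono_of_mono_app _

/-- the map of presheaves determined by a section -/
noncomputable def liftPre (V : C) (F : Cᵒᵖ ⥤ AddCommGrpCat.{u + 1}) (s : F.obj (op V)) :
    freePre V ⟶ F where
  app T := AddCommGrpCat.ofHom
    (FreeAbelianGroup.lift fun f : ULift.{u + 1} (unop T ⟶ V) => (F.map f.down.op).hom s)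
  naturality T T' g := by
    apply AddCommGrpCat.hom_ext
    apply FreeAbelianGroup.lift_ext
    rintro ⟨f⟩
    change FreeAbelianGroup.lift (fun f' : ULift.{u + 1} (unop T' ⟶ V) => (F.map f'.down.op).hom s)
        (FreeAbelianGroup.map (fun f' : ULift.{u + 1} (unop T ⟶ V) => ULift.up (g.unop ≫ f'.down))
          (FreeAbelianGroup.of (ULift.up f))) =
      (F.map g).hom (FreeAbelianGroup.lift
        (fun f' : ULift.{u + 1} (unop T ⟶ V) => (F.map f'.down.op).hom s)
        (FreeAbelianGroup.of (ULift.up f)))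
    rw [FreeAbelianGroup.map_of_apply, FreeAbelianGroup.lift_apply_of, FreeAbelianGroup.lift_apply_of,
      op_comp, Quiver.Hom.op_unop, F.map_comp]
    rfl

/-- sections of an injective sheaf extend along monomorphisms of the site -/
theorem surjective_of_injective (I : Sheaf J AddCommGrpCat.{u + 1}) [Injective I] {V' V : C}
    (m : V' ⟶ V) [Mono m] : Function.Surjective (I.obj.map m.op) := by
  intro s
  let adj := sheafificationAdjunction J AddCommGrpCat.{u + 1}
  let a : (presheafToSheaf J _).obj (freePre V') ⟶ I := (adj.homEquiv _ I).symm (liftPre V' I.obj s)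
  haveI : Mono ((presheafToSheaf J AddCommGrpCat.{u + 1}).map (freePreMap m)) :=
    (presheafToSheaf J AddCommGrpCat.{u + 1}).map_mono _
  let ψ : (presheafToSheaf J _).obj (freePre V) ⟶ I :=
    Injective.factorThru a ((presheafToSheaf J AddCommGrpCat.{u + 1}).map (freePreMap m))
  have hψ : (presheafToSheaf J AddCommGrpCat.{u + 1}).map (freePreMap m) ≫ ψ = a :=
    Injective.comp_factorThru _ _
  let ψ' : freePre V ⟶ I.obj := adj.homEquiv _ I ψ
  have hψ' : freePreMap m ≫ ψ' = liftPre V' I.obj s := by
    have h1 := adj.homEquiv_naturality_left (freePreMap m) ψ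
    rw [hψ] at h1
    rw [← h1]
    exact Equiv.apply_symm_apply _ _
  refine ⟨(ψ'.app (op V)).hom (FreeAbelianGroup.of (ULift.up (𝟙 V))), ?_⟩
  have h2 := ConcreteCategory.congr_hom (ψ'.naturality m.op) (FreeAbelianGroup.of (ULift.up (𝟙 V)))
  have h3 := ConcreteCategory.congr_hom (NatTrans.congr_app hψ' (op V'))
    (FreeAbelianGroup.of (ULift.up (𝟙 V')))
  have h4 : ((freePre V).map m.op).hom (FreeAbelianGroup.of (ULift.up (𝟙 V))) =
      ((freePreMap m).app (op V')).hom (FreeAbelianGroup.of (ULift.up (𝟙 V'))) := by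
    change FreeAbelianGroup.map _ _ = FreeAbelianGroup.map _ _
    rw [FreeAbelianGroup.map_of_apply, FreeAbelianGroup.map_of_apply]
    change FreeAbelianGroup.of (ULift.up (m ≫ 𝟙 V)) = FreeAbelianGroup.of (ULift.up (𝟙 V' ≫ m))
    rw [Category.comp_id, Category.id_comp]
  have h5 : ((liftPre V' I.obj s).app (op V')).hom (FreeAbelianGroup.of (ULift.up (𝟙 V'))) = s := by
    change FreeAbelianGroup.lift _ _ = s
    rw [FreeAbelianGroup.lift_apply_of]
    change (I.obj.map (𝟙 V').op).hom s = s
    rw [op_id, I.obj.map_id]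
    rfl
  calc (I.obj.map m.op).hom ((ψ'.app (op V)).hom (FreeAbelianGroup.of (ULift.up (𝟙 V))))
      = (ψ'.app (op V')).hom (((freePre V).map m.op).hom (FreeAbelianGroup.of (ULift.up (𝟙 V)))) :=
        h2.symm
    _ = (ψ'.app (op V')).hom (((freePreMap m).app (op V')).hom
          (FreeAbelianGroup.of (ULift.up (𝟙 V')))) := by rw [h4]
    _ = ((liftPre V' I.obj s).app (op V')).hom (FreeAbelianGroup.of (ULift.up (𝟙 V'))) := h3
    _ = s := h5

end Groth.Agent.Helper3.EdgeOutIso
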