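import Mathlib
import Groth.Prelude.Def_EtDepth
import Groth.Prelude.Def_RDer
import Groth.Agent.Lib.Helper3.EdgeOutIso1
import Groth.Agent.Lib.Helper3.EdgeOutIso3
import Groth.Agent.Lib.Helper5.Misc.EtOpenImm
import Groth.Agent.S0623

/-!
# Étale local cohomology: the edge map `H^n_Y(X, F) ⟶ Γ(X, ℋ^n_Y(F))` under a depth hypothesis
-/

set_option autoImplicit false
universe u
open CategoryTheory CategoryTheory.Limits AlgebraicGeometry Opposite

namespace Groth.Agent.Helper3.EdgeOutIso

open Groth.Agent.Lib.Helper5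

variable {X U : Scheme.{u}} (j : U ⟶ X) [IsOpenImmersion j]

/-- the counit of the site adjunction is a monomorphism -/
lemma mono_counit (V : X.Etale) : Mono ((EtOpenImm.siteAdj j).counit.app V) := by
  have h : Mono ((Scheme.Etale.forget X ⋙ Over.forget X).map
      ((EtOpenImm.siteAdj j).counit.app V)) := by
    change Mono (pullback.fst V.hom j)
    infer_instance
  exact (Scheme.Etale.forget X ⋙ Over.forget X).mono_of_mono_map h

theorem unit_restrPush_app (P : EtCoh.Ab X) (V : X.Etale) :
    ((Groth.Agent.S0623.restrPushAdj j).unit.app P).hom.app (op V) =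
      P.obj.map ((EtOpenImm.siteAdj j).counit.app V).op := rfl

/-- for an injective sheaf the unit `I ⟶ j_* j⁻¹ I` is surjective on sections -/
theorem surjective_unitApp (I : EtCoh.Ab X) [Injective I] (V : X.Etale) :
    Function.Surjective ((EtDual.unitApp j I).hom.app (op V)) := by
  have h1 := Adjunction.unit_leftAdjointUniq_hom_app (EtCoh.pullPushAdj j)
    (Groth.Agent.S0623.restrPushAdj j) I
  haveI := mono_counit j V
  have h2 : Function.Surjective (((Groth.Agent.S0623.restrPushAdj j).unit.app I).hom.app (op V)) := by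
    rw [unit_restrPush_app]
    exact surjective_of_injective X.smallEtaleTopology I _
  let e := (EtCoh.push j).mapIso ((Adjunction.leftAdjointUniq (EtCoh.pullPushAdj j)
    (Groth.Agent.S0623.restrPushAdj j)).app I)
  intro t
  obtain ⟨s, hs⟩ := h2 ((e.hom.hom.app (op V)) t)
  refine ⟨s, ?_⟩
  have h3 : (EtDual.unitApp j I ≫ e.hom).hom.app (op V) s = (e.hom.hom.app (op V)) t := by
    rw [← hs]
    exact congrArg (fun (φ : I ⟶ (EtCoh.push j).obj ((EtShriek.restrAlong j).obj I)) =>
      φ.hom.app (op V) s) h1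
  have h4 : ((EtDual.unitApp j I).hom.app (op V) ≫ e.hom.hom.app (op V)) s =
      (e.hom.hom.app (op V)) t := h3
  have h5 : (e.hom.hom.app (op V) ≫ e.inv.hom.app (op V)) = 𝟙 _ := by
    have := congrArg (fun (φ : (EtCoh.push j).obj ((EtCoh.pull j).obj I) ⟶
      (EtCoh.push j).obj ((EtCoh.pull j).obj I)) => φ.hom.app (op V)) e.hom_inv_id
    exact this
  have h6 := congrArg (e.inv.hom.app (op V)) h4
  have h7 : ∀ x, (e.inv.hom.app (op V)) ((e.hom.hom.app (op V)) x) = x := fun x =>
    ConcreteCategory.congr_hom h5 x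
  exact (h7 _).symm.trans (h6.trans (h7 t))

/-- for an injective sheaf the unit `I ⟶ j_* j⁻¹ I` is an epimorphism -/
theorem epi_unitApp (I : EtCoh.Ab X) [Injective I] : Epi (EtDual.unitApp j I) := by
  haveI : ∀ V : X.Etaleᵒᵖ, Epi ((EtDual.unitApp j I).hom.app V) := by
    intro V
    rw [AddCommGrpCat.epi_iff_surjective]
    exact surjective_unitApp j I V.unop
  haveI : Epi (EtDual.unitApp j I).hom := NatTrans.epi_of_epi_app _
  exact Sheaf.Hom.epi_of_presheaf_epi (f := EtDual.unitApp j I)

/-- global sections of an abelian étale sheaf -/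
noncomputable abbrev gsec' (X : Scheme.{u}) : EtCoh.Ab X ⥤ AddCommGrpCat.{u + 1} :=
  sheafToPresheaf X.smallEtaleTopology AddCommGrpCat.{u + 1} ⋙
    (evaluation X.Etaleᵒᵖ AddCommGrpCat.{u + 1}).obj (op (EtCoh.top X))

/-- sections with support of an injective sheaf are acyclic for global sections -/
theorem acy_secSupp (I : EtCoh.Ab X) [Injective I] :
    Acy (gsec' X) ((EtDual.secSupp j).obj I) := by
  haveI := epi_unitApp j I
  haveI : Injective ((EtCoh.pull j).obj I) := Groth.Agent.S0623.injective_pull j I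
  haveI : (EtCoh.push j).PreservesInjectiveObjects :=
    Functor.preservesInjectiveObjects_of_adjunction_of_preservesMonomorphisms (EtCoh.pullPushAdj j)
  haveI : Injective ((EtCoh.push j).obj ((EtCoh.pull j).obj I)) := (EtCoh.push j).injective_obj _
  let S : ShortComplex (EtCoh.Ab X) :=
    ShortComplex.mk (kernel.ι (EtDual.unitApp j I)) (EtDual.unitApp j I) (kernel.condition _)
  have hS : S.ShortExact :=
    ShortComplex.ShortExact.mk' (ShortComplex.exact_of_f_is_kernel _ (kernelIsKernel _))
      (inferInstanceAs (Mono (kernel.ι (EtDual.unitApp j I))))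
      (inferInstanceAs (Epi (EtDual.unitApp j I)))
  haveI := enoughInjectives (B := EtCoh.Ab X)
  let Δ := RDerL.derivedLES (gsec' X)
  intro k
  cases k with
  | zero =>
    have hz : IsZero (((gsec' X).rightDerived 1).obj S.X₂) :=
      Functor.isZero_rightDerived_obj_injective_succ _ 0 I
    haveI : Epi (Δ.δ S hS 0 1 rfl) := (Δ.exact₁ S hS 0 1 rfl).epi_f (hz.eq_of_tgt _ _)
    haveI : Epi ((gsec' X).map S.g) := by
      rw [AddCommGrpCat.epi_iff_surjective]
      exact surjective_unitApp j I (EtCoh.top X)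
    haveI : Epi (((gsec' X).rightDerived 0).map S.g) := by
      let e := (gsec' X).rightDerivedZeroIsoSelf
      have h : ((gsec' X).rightDerived 0).map S.g =
          e.hom.app _ ≫ (gsec' X).map S.g ≫ e.inv.app _ := by
        rw [← e.hom.naturality_assoc, Iso.hom_inv_id_app, Category.comp_id]
      rw [h]
      infer_instance
    have h0 : Δ.δ S hS 0 1 rfl = 0 := by
      rw [← cancel_epi (((gsec' X).rightDerived 0).map S.g), Δ.comp_δ, comp_zero]
    exact IsZero.of_epi_eq_zero _ h0
  | succ k =>
    exact (Δ.exact₁ S hS (k + 1) (k + 2) rfl).isZero_of_both_zeros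
      ((Functor.isZero_rightDerived_obj_injective_succ _ k
        ((EtCoh.push j).obj ((EtCoh.pull j).obj I))).eq_of_src _ _)
      ((Functor.isZero_rightDerived_obj_injective_succ _ (k + 1) I).eq_of_tgt _ _)

/-- **the edge map `H^n_Y(X, F) ⟶ Γ(X, ℋ^n_Y(F))` is an isomorphism when the `Y`-étale depth of
`F` is at least `n`** -/
theorem S5189_main (F : EtCoh.Ab X) (n : ℕ) (h : EtDepth.DepthGE j F n) :
    IsIso (RDer.edgeOut (EtDual.secSupp j) (gsec' X) n F) :=
  isIso_edgeOut (EtDual.secSupp j) (gsec' X) (fun I _ => acy_secSupp j I) F n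
    (fun p hp => acy_of_isZero _ (h p hp))

end Groth.Agent.Helper3.EdgeOutIso
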