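import Groth.Prelude.Def_AlgSpInf

/-! Formal diagram chases with infinitesimal lifting squares for morphisms of fppf sheaves. -/

universe u

open CategoryTheory CategoryTheory.Limits AlgebraicGeometry Opposite

namespace Groth.Agent.Helper3.InfSqLib

open AlgSp

variable {S : Scheme.{u}}

/-- Re-use the test pair of a lifting square for another morphism. -/
noncomputable def reSq {F G F' G' : Sp S} {f : F ⟶ G} (sq : InfSq f) (f' : F' ⟶ G')
    (top' : (yon S).obj sq.ptT ⟶ F') (bot' : (yon S).obj sq.ptT' ⟶ G')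
    (comm : top' ≫ f' = (yon S).map sq.j ≫ bot') : InfSq f' where
  A := sq.A
  I := sq.I
  sq_zero := sq.sq_zero
  str := sq.str
  top := top'
  bot := bot'
  comm := comm

lemma hasUniqLift_iff {F G : Sp S} {f : F ⟶ G} (sq : InfSq f) :
    sq.HasUniqLift ↔ sq.HasLift ∧ sq.HasUniq := by
  constructor
  · rintro ⟨l, ⟨h1, h2⟩, hu⟩
    refine ⟨⟨l, h1, h2⟩, ?_⟩
    intro l₁ l₂ a1 a2 b1 b2
    rw [hu l₁ ⟨a1, a2⟩, hu l₂ ⟨b1, b2⟩]
  · rintro ⟨⟨l, h1, h2⟩, hu⟩
    exact ⟨l, ⟨h1, h2⟩, fun l' h => hu l' l h.1 h.2 h1 h2⟩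

lemma formallyEtale_iff {F G : Sp S} (f : F ⟶ G) :
    IsFormallyEtaleMor f ↔ IsFormallySmoothMor f ∧ IsFormallyUnramifiedMor f := by
  constructor
  · intro h
    exact ⟨fun sq => ((hasUniqLift_iff sq).1 (h sq)).1, fun sq => ((hasUniqLift_iff sq).1 (h sq)).2⟩
  · rintro ⟨h1, h2⟩ sq
    exact (hasUniqLift_iff sq).2 ⟨h1 sq, h2 sq⟩

lemma lift_of_smooth {F G F' G' : Sp S} {f : F ⟶ G} (sq : InfSq f) {f' : F' ⟶ G'}
    (hf' : IsFormallySmoothMor f')
    (top' : (yon S).obj sq.ptT ⟶ F') (bot' : (yon S).obj sq.ptT' ⟶ G')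
    (comm : top' ≫ f' = (yon S).map sq.j ≫ bot') :
    ∃ l : (yon S).obj sq.ptT' ⟶ F', (yon S).map sq.j ≫ l = top' ∧ l ≫ f' = bot' :=
  hf' (reSq sq f' top' bot' comm)

lemma uniq_of_unramified {F G F' G' : Sp S} {f : F ⟶ G} (sq : InfSq f) {f' : F' ⟶ G'}
    (hf' : IsFormallyUnramifiedMor f')
    (l l' : (yon S).obj sq.ptT' ⟶ F')
    (h1 : (yon S).map sq.j ≫ l = (yon S).map sq.j ≫ l') (h2 : l ≫ f' = l' ≫ f') : l = l' :=
  hf' (reSq sq f' ((yon S).map sq.j ≫ l) (l ≫ f') (by rw [Category.assoc])) l l' rfl rfl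
    h1.symm h2.symm

lemma smooth_comp {F G H : Sp S} (a : F ⟶ G) (b : G ⟶ H)
    (ha : IsFormallySmoothMor a) (hb : IsFormallySmoothMor b) : IsFormallySmoothMor (a ≫ b) := by
  intro sq
  have hc : (sq.top ≫ a) ≫ b = (yon S).map sq.j ≫ sq.bot := by
    rw [Category.assoc]; exact sq.comm
  obtain ⟨m, hm1, hm2⟩ := lift_of_smooth sq hb (sq.top ≫ a) sq.bot hc
  obtain ⟨l, hl1, hl2⟩ := lift_of_smooth sq ha sq.top m hm1.symm
  exact ⟨l, hl1, by rw [← Category.assoc, hl2, hm2]⟩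

lemma unramified_comp {F G H : Sp S} (a : F ⟶ G) (b : G ⟶ H)
    (ha : IsFormallyUnramifiedMor a) (hb : IsFormallyUnramifiedMor b) :
    IsFormallyUnramifiedMor (a ≫ b) := by
  intro sq l l' h1 h2 h3 h4
  have hm : l ≫ a = l' ≫ a :=
    uniq_of_unramified sq hb (l ≫ a) (l' ≫ a)
      (by rw [← Category.assoc, h1, ← Category.assoc, h3])
      (by rw [Category.assoc, Category.assoc, h2, h4])
  exact uniq_of_unramified sq ha l l' (h1.trans h3.symm) hm

lemma unramified_of_comp {F G H : Sp S} (a : F ⟶ G) (b : G ⟶ H)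
    (hab : IsFormallyUnramifiedMor (a ≫ b)) : IsFormallyUnramifiedMor a := by
  intro sq l l' h1 h2 h3 h4
  exact uniq_of_unramified sq hab l l' (h1.trans h3.symm)
    (by rw [← Category.assoc, h2, ← Category.assoc, h4])

lemma smooth_of_comp {F G H : Sp S} (a : F ⟶ G) (b : G ⟶ H)
    (hb : IsFormallyUnramifiedMor b)
    (hab : IsFormallySmoothMor (a ≫ b)) : IsFormallySmoothMor a := by
  intro sq
  have hc : sq.top ≫ a ≫ b = (yon S).map sq.j ≫ sq.bot ≫ b := by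
    rw [← Category.assoc, sq.comm, Category.assoc]
  obtain ⟨l, hl1, hl2⟩ := lift_of_smooth sq hab sq.top (sq.bot ≫ b) hc
  refine ⟨l, hl1, ?_⟩
  exact uniq_of_unramified sq hb (l ≫ a) sq.bot
    (by rw [← Category.assoc, hl1]; exact sq.comm)
    (by rw [Category.assoc]; exact hl2)

lemma smooth_baseChange {F G H P : Sp S} (a : F ⟶ G) (b : H ⟶ G)
    (b' : P ⟶ F) (a' : P ⟶ H) (hP : IsPullback b' a' a b)
    (ha : IsFormallySmoothMor a) : IsFormallySmoothMor a' := by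
  intro sq
  have hc : (sq.top ≫ b') ≫ a = (yon S).map sq.j ≫ sq.bot ≫ b := by
    rw [Category.assoc, hP.w, ← Category.assoc, sq.comm, Category.assoc]
  obtain ⟨l, hl1, hl2⟩ := lift_of_smooth sq ha (sq.top ≫ b') (sq.bot ≫ b) hc
  refine ⟨hP.lift l sq.bot hl2, ?_, hP.lift_snd _ _ _⟩
  apply hP.hom_ext
  · rw [Category.assoc, hP.lift_fst]; exact hl1
  · rw [Category.assoc, hP.lift_snd]; exact sq.comm.symm

lemma unramified_baseChange {F G H P : Sp S} (a : F ⟶ G) (b : H ⟶ G)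
    (b' : P ⟶ F) (a' : P ⟶ H) (hP : IsPullback b' a' a b)
    (ha : IsFormallyUnramifiedMor a) : IsFormallyUnramifiedMor a' := by
  intro sq l l' h1 h2 h3 h4
  apply hP.hom_ext
  · exact uniq_of_unramified sq ha (l ≫ b') (l' ≫ b')
      (by rw [← Category.assoc, h1, ← Category.assoc, h3])
      (by rw [Category.assoc, Category.assoc, hP.w, ← Category.assoc, h2, ← Category.assoc, h4])
  · exact h2.trans h4.symm

end Groth.Agent.Helper3.InfSqLib
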