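import Mathlib
import Groth.Prelude.Def_ARSys

set_option autoImplicit false
open CategoryTheory CategoryTheory.Limits Opposite

universe v u

namespace Groth.Agent.Helper3.ImgSub

variable {C : Type u} [Category.{v} C] [Abelian C]

lemma imageSubobject_epi_comp {X' X Y : C} (h : X' ⟶ X) [Epi h] (f : X ⟶ Y) :
    imageSubobject (h ≫ f) = imageSubobject f := by
  apply le_antisymm (imageSubobject_comp_le h f)
  have : IsIso (Subobject.ofLE _ _ (imageSubobject_comp_le h f)) := isIso_of_mono_of_epi _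
  refine Subobject.le_of_comm (inv (Subobject.ofLE _ _ (imageSubobject_comp_le h f))) ?_
  rw [IsIso.inv_comp_eq, Subobject.ofLE_arrow]

/-- image of a composite only depends on the image of the first map -/
lemma imageSubobject_comp_eq_of_eq {X X' Y Z : C} (h : X ⟶ Y) (h' : X' ⟶ Y) (g : Y ⟶ Z)
    (e : imageSubobject h = imageSubobject h') :
    imageSubobject (h ≫ g) = imageSubobject (h' ≫ g) := by
  have key : ∀ {W : C} (k : W ⟶ Y),
      imageSubobject (k ≫ g) = imageSubobject ((imageSubobject k).arrow ≫ g) := by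
    intro W k
    conv_lhs => rw [← imageSubobject_arrow_comp k, Category.assoc]
    exact imageSubobject_epi_comp _ _
  rw [key h, key h', e]

lemma imageSubobject_eq_of_sq {P Q Y Z : C} (a : P ⟶ Q) [Epi a] (t : P ⟶ Y) (t' : Q ⟶ Z)
    (g : Y ⟶ Z) (sq : a ≫ t' = t ≫ g) : imageSubobject t' = imageSubobject (t ≫ g) := by
  rw [← sq]
  exact (imageSubobject_epi_comp _ _).symm

open ARSys

theorem isMLAR_X₃ (S : ShortComplex (ARSys.PS C)) (hS : S.ShortExact) (hY : ARSys.IsMLAR S.X₂) :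
    ARSys.IsMLAR S.X₃ := by
  obtain ⟨r, hr⟩ := hY
  refine ⟨r, fun s hs n => ?_⟩
  have hepi : ∀ k : ℕ, Epi (S.g.app (op k)) := by
    have := hS.epi_g
    intro k
    exact (NatTrans.epi_iff_epi_app S.g).1 inferInstance (op k)
  have e1 : ∀ t : ℕ, imageSubobject (shiftMap S.X₃ t n) =
      imageSubobject (shiftMap S.X₂ t n ≫ S.g.app (op n)) := by
    intro t
    haveI := hepi (n + t)
    exact imageSubobject_eq_of_sq (S.g.app (op (n + t))) (shiftMap S.X₂ t n) (shiftMap S.X₃ t n)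
      (S.g.app (op n)) (S.g.naturality _).symm
  rw [e1 s, e1 r]
  exact imageSubobject_comp_eq_of_eq _ _ _ (hr s hs n)


/-- refinement criterion for inclusion of images -/
lemma imageSubobject_le_of_refinement {P P' Q W : C} (a : P ⟶ Q) (b : P' ⟶ Q)
    (π : W ⟶ P) [Epi π] (w : W ⟶ P') (h : π ≫ a = w ≫ b) :
    imageSubobject a ≤ imageSubobject b := by
  rw [← imageSubobject_epi_comp π a, h]
  exact imageSubobject_comp_le w b

/-- converse: inclusion of images gives a refinement -/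
lemma exists_refinement_of_imageSubobject_le {P P' Q : C} (a : P ⟶ Q) (b : P' ⟶ Q)
    (h : imageSubobject a ≤ imageSubobject b) :
    ∃ (W : C) (π : W ⟶ P) (_ : Epi π) (w : W ⟶ P'), π ≫ a = w ≫ b := by
  let c : P ⟶ (imageSubobject b : C) := factorThruImageSubobject a ≫ Subobject.ofLE _ _ h
  obtain ⟨W, π, hπ, w, hw⟩ := surjective_up_to_refinements_of_epi (factorThruImageSubobject b) c
  refine ⟨W, π, hπ, w, ?_⟩
  have e1 : c ≫ (imageSubobject b).arrow = a := by
    simp only [c, Category.assoc, Subobject.ofLE_arrow, imageSubobject_arrow_comp]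
  calc π ≫ a = π ≫ c ≫ (imageSubobject b).arrow := by rw [e1]
    _ = w ≫ factorThruImageSubobject b ≫ (imageSubobject b).arrow := by
        rw [← Category.assoc, hw, Category.assoc]
    _ = w ≫ b := by rw [imageSubobject_arrow_comp]

lemma tr_comp (X : ARSys.PS C) {a b c : ℕ} (h₁ : a ≤ b) (h₂ : b ≤ c) :
    ARSys.tr X h₂ ≫ ARSys.tr X h₁ = ARSys.tr X (h₁.trans h₂) := by
  dsimp only [ARSys.tr]
  rw [← Functor.map_comp]
  rfl

lemma tr_naturality {X Y : ARSys.PS C} (φ : X ⟶ Y) {a b : ℕ} (h : a ≤ b) :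
    ARSys.tr X h ≫ φ.app (op a) = φ.app (op b) ≫ ARSys.tr Y h :=
  φ.naturality _

/-- uniform ML in terms of arbitrary indices -/
lemma isMLAR_iff (X : ARSys.PS C) :
    ARSys.IsMLAR X ↔ ∃ r : ℕ, ∀ (a b : ℕ) (h : a + r ≤ b),
      imageSubobject (ARSys.tr X (le_trans (Nat.le_add_right a r) h)) =
        imageSubobject (ARSys.tr X (Nat.le_add_right a r)) := by
  constructor
  · rintro ⟨r, hr⟩
    refine ⟨r, fun a b h => ?_⟩
    obtain ⟨s, rfl⟩ : ∃ s, b = a + s := ⟨b - a, by omega⟩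
    exact hr s (by omega) a
  · rintro ⟨r, hr⟩
    refine ⟨r, fun s hs n => ?_⟩
    exact hr n (n + s) (by omega)


theorem isMLAR_X₂ (S : ShortComplex (ARSys.PS C)) (hS : S.ShortExact)
    (hX : ARSys.IsMLAR S.X₁) (hZ : ARSys.IsMLAR S.X₃) : ARSys.IsMLAR S.X₂ := by
  rw [isMLAR_iff] at hX hZ ⊢
  obtain ⟨rX, hrX⟩ := hX
  obtain ⟨rZ, hrZ⟩ := hZ
  have hepi : ∀ k : ℕ, Epi (S.g.app (op k)) := by
    have := hS.epi_g
    intro k
    exact (NatTrans.epi_iff_epi_app S.g).1 inferInstance (op k)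
  have hex : ∀ (k : ℕ) (W : C) (d : W ⟶ S.X₂.obj (op k)), d ≫ S.g.app (op k) = 0 →
      ∃ (W' : C) (π : W' ⟶ W) (_ : Epi π) (x : W' ⟶ S.X₁.obj (op k)),
        π ≫ d = x ≫ S.f.app (op k) := by
    intro k W d hd
    exact (hS.map_of_exact ((evaluation _ _).obj (op k))).exact.exact_up_to_refinements d hd
  refine ⟨rX + rZ, fun n b hb => ?_⟩
  apply le_antisymm
  · -- the easy inclusion
    rw [← tr_comp S.X₂ (Nat.le_add_right n (rX + rZ)) hb]
    exact imageSubobject_comp_le _ _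
  · -- the hard inclusion
    have hm₁ : n ≤ n + rX := Nat.le_add_right _ _
    have hm₂ : n + rX ≤ n + (rX + rZ) := by omega
    have hm₃ : n + rX ≤ b := by omega
    have hnb : n ≤ b := by omega
    -- Z-step
    have eZ : imageSubobject (ARSys.tr S.X₃ hm₂) = imageSubobject (ARSys.tr S.X₃ hm₃) := by
      have h1 := hrZ (n + rX) b (by omega)
      have h2 := hrZ (n + rX) (n + (rX + rZ)) (by omega)
      exact h2.trans h1.symm
    have leZ : imageSubobject (S.g.app (op (n + (rX + rZ))) ≫ ARSys.tr S.X₃ hm₂) ≤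
        imageSubobject (ARSys.tr S.X₃ hm₃) := by
      rw [← eZ]; exact imageSubobject_comp_le _ _
    obtain ⟨W₁, π₁, hπ₁, z', hz'⟩ := exists_refinement_of_imageSubobject_le _ _ leZ
    haveI := hepi b
    obtain ⟨W₂, π₂, hπ₂, y'', hy''⟩ := surjective_up_to_refinements_of_epi (S.g.app (op b)) z'
    let d : W₂ ⟶ S.X₂.obj (op (n + rX)) :=
      π₂ ≫ π₁ ≫ ARSys.tr S.X₂ hm₂ - y'' ≫ ARSys.tr S.X₂ hm₃
    have hd : d ≫ S.g.app (op (n + rX)) = 0 := by
      simp only [d, Preadditive.sub_comp, Category.assoc, tr_naturality]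
      rw [hz', reassoc_of% hy'', sub_self]
    obtain ⟨W₃, π₃, hπ₃, x, hx⟩ := hex (n + rX) W₂ d hd
    -- X-step
    have eX : imageSubobject (ARSys.tr S.X₁ hm₁) = imageSubobject (ARSys.tr S.X₁ hnb) := by
      exact (hrX n b (by omega)).symm
    have leX : imageSubobject (x ≫ ARSys.tr S.X₁ hm₁) ≤ imageSubobject (ARSys.tr S.X₁ hnb) := by
      rw [← eX]; exact imageSubobject_comp_le _ _
    obtain ⟨W₄, π₄, hπ₄, x', hx'⟩ := exists_refinement_of_imageSubobject_le _ _ leX
    haveI : Epi (π₄ ≫ π₃ ≫ π₂ ≫ π₁) := epi_comp' hπ₄ (epi_comp' hπ₃ (epi_comp' hπ₂ hπ₁))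
    refine imageSubobject_le_of_refinement _ _ (π₄ ≫ π₃ ≫ π₂ ≫ π₁)
      (π₄ ≫ π₃ ≫ y'' + x' ≫ S.f.app (op b)) ?_
    have t1 : ARSys.tr S.X₂ (Nat.le_add_right n (rX + rZ)) =
        ARSys.tr S.X₂ hm₂ ≫ ARSys.tr S.X₂ hm₁ := (tr_comp S.X₂ hm₁ hm₂).symm
    have t2 : ARSys.tr S.X₂ (le_trans (Nat.le_add_right n (rX + rZ)) hb) =
        ARSys.tr S.X₂ hm₃ ≫ ARSys.tr S.X₂ hm₁ := (tr_comp S.X₂ hm₁ hm₃).symm
    rw [t1, t2]
    have k1 : x' ≫ S.f.app (op b) ≫ ARSys.tr S.X₂ hm₃ ≫ ARSys.tr S.X₂ hm₁ =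
        π₄ ≫ π₃ ≫ d ≫ ARSys.tr S.X₂ hm₁ := by
      rw [tr_comp, ← tr_naturality, ← reassoc_of% hx', tr_naturality, reassoc_of% hx]
    simp only [Preadditive.add_comp, Category.assoc, k1]
    simp only [d, Preadditive.sub_comp, Preadditive.comp_sub, Category.assoc]
    abel


theorem image_eq_of_isStrict_of_isARIso {X Y : ARSys.PS C} (u : Y ⟶ X) (hY : ARSys.IsStrict Y)
    (hu : ARSys.IsARIso u) :
    ∃ r : ℕ, ∀ s : ℕ, r ≤ s → ∀ n : ℕ,
      imageSubobject (ARSys.shiftMap X s n) = imageSubobject (u.app (op n)) := by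
  obtain ⟨r, hr⟩ := hu.2
  refine ⟨r, fun s hs n => ?_⟩
  apply le_antisymm
  · have hex : (ShortComplex.mk u (cokernel.π u) (cokernel.condition u)).Exact :=
      ShortComplex.exact_cokernel u
    have hex' := hex.map ((evaluation _ _).obj (op n))
    have hz : ARSys.shiftMap X s n ≫ (cokernel.π u).app (op n) = 0 := by
      have h1 : ARSys.shiftMap X s n ≫ (cokernel.π u).app (op n) =
          (cokernel.π u).app (op (n + s)) ≫ ARSys.tr (cokernel u) (Nat.le_add_right n s) :=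
        tr_naturality (cokernel.π u) (Nat.le_add_right n s)
      have h2 : ARSys.tr (cokernel u) (Nat.le_add_right n s) =
          ARSys.tr (cokernel u) (show n + r ≤ n + s by omega) ≫
            ARSys.tr (cokernel u) (Nat.le_add_right n r) :=
        (tr_comp (cokernel u) _ _).symm
      have h3 : ARSys.tr (cokernel u) (Nat.le_add_right n r) = 0 := hr n
      rw [h1, h2, h3, comp_zero, comp_zero]
      rfl
    obtain ⟨W, π, hπ, y, hy⟩ := hex'.exact_up_to_refinements (ARSys.shiftMap X s n) hz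
    exact imageSubobject_le_of_refinement _ _ π y hy
  · haveI : Epi (ARSys.tr Y (Nat.le_add_right n s)) := hY _ _ _
    exact imageSubobject_le_of_refinement _ _ (ARSys.tr Y (Nat.le_add_right n s))
      (u.app (op (n + s))) (tr_naturality u (Nat.le_add_right n s))

end Groth.Agent.Helper3.ImgSub
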