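import Mathlib
import Groth.Prelude.Def_ARSys
import Groth.Agent.Lib.Helper3.ImgSub

set_option autoImplicit false
open CategoryTheory CategoryTheory.Limits Opposite

universe w v u

namespace Groth.Agent.Helper3.AdicFac

open Groth.Agent.Helper3.ImgSub ARSys

variable {C : Type u} [Category.{v} C] [Abelian C] {A : Type w} [CommRing A] [Linear A C]

lemma homKilledBy_of_killedBy_tgt (I : Ideal A) {P Q : C} (φ : P ⟶ Q) (h : ARSys.KilledBy I Q) :
    ARSys.HomKilledBy I φ := by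
  intro a ha
  have : a • φ = φ ≫ (a • 𝟙 Q) := by rw [Linear.comp_smul, Category.comp_id]
  rw [this, h a ha, comp_zero]

lemma killedBy_mono {I I' : Ideal A} (h : I ≤ I') {Q : C} (hQ : ARSys.KilledBy I' Q) :
    ARSys.KilledBy I Q := fun a ha => hQ a (h ha)

/-- cancellation for quotient maps -/
lemma IsQuot.cancel (I : Ideal A) {P Q R : C} {p : P ⟶ Q} (hp : ARSys.IsQuot I p)
    (hR : ARSys.KilledBy I R) {ψ ψ' : Q ⟶ R} (h : p ≫ ψ = p ≫ ψ') : ψ = ψ' := by
  obtain ⟨χ, -, hχ⟩ := hp.2 R (p ≫ ψ) (homKilledBy_of_killedBy_tgt I _ hR)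
  rw [hχ ψ rfl, hχ ψ' h.symm]

theorem existsUnique_hom (J : Ideal A) (X Y : ARSys.PS C) (hX : ARSys.IsAdic J X)
    (hY : ARSys.TermKilled J Y) (r : ℕ) (f : (ARSys.shift C r).obj X ⟶ Y) :
    ∃! g : X ⟶ Y, ∀ n : ℕ, f.app (op n) = ARSys.shiftMap X r n ≫ g.app (op n) := by
  -- clean-typed components of f
  let fa : ∀ n : ℕ, X.obj (op (n + r)) ⟶ Y.obj (op n) := fun n => f.app (op n)
  have fnat : ∀ {n m : ℕ} (h : n ≤ m),
      ARSys.tr X (Nat.add_le_add_right h r) ≫ fa n = fa m ≫ ARSys.tr Y h := by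
    intro n m h
    exact f.naturality (homOfLE h).op
  have hq : ∀ n : ℕ, ARSys.IsQuot (J ^ (n + 1)) (ARSys.tr X (Nat.le_add_right n r)) :=
    fun n => hX.2 n (n + r) _
  have hex : ∀ n : ℕ, ∃! ψ : X.obj (op n) ⟶ Y.obj (op n),
      ARSys.tr X (Nat.le_add_right n r) ≫ ψ = fa n :=
    fun n => (hq n).2 _ (fa n) (homKilledBy_of_killedBy_tgt _ _ (hY n))
  choose gg hgg hgu using hex
  have gnat : ∀ {n m : ℕ} (h : n ≤ m), ARSys.tr X h ≫ gg n = gg m ≫ ARSys.tr Y h := by
    intro n m h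
    have hk : ARSys.KilledBy (J ^ (m + 1)) (Y.obj (op n)) :=
      killedBy_mono (Ideal.pow_le_pow_right (by omega)) (hY n)
    apply IsQuot.cancel _ (hq m) hk
    rw [← Category.assoc, tr_comp, ← Category.assoc, hgg m, ← fnat h, ← hgg n,
      ← Category.assoc, tr_comp]
  let g : X ⟶ Y :=
    { app := fun a => gg a.unop
      naturality := by
        intro a b φ
        have h : b.unop ≤ a.unop := leOfHom φ.unop
        have e : φ = (homOfLE h).op := Quiver.Hom.unop_inj (Subsingleton.elim _ _)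
        rw [e]
        exact gnat h }
  refine ⟨g, fun n => (hgg n).symm, fun g' hg' => ?_⟩
  ext a
  obtain ⟨n⟩ := a
  exact hgu n (g'.app (op n)) (hg' n).symm

end Groth.Agent.Helper3.AdicFac
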