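import Mathlib
import Groth.Prelude.Def_ARSys
import Groth.Agent.Lib.Helper3.ImgSub
import Groth.Agent.Lib.Helper3.AdicFac

set_option autoImplicit false
open CategoryTheory CategoryTheory.Limits Opposite

universe w v u

namespace Groth.Agent.Helper3.AdicSES

open Groth.Agent.Helper3.ImgSub Groth.Agent.Helper3.AdicFac ARSys

variable {C : Type u} [Category.{v} C] [Abelian C] {A : Type w} [CommRing A] [Linear A C]

lemma killedBy_of_epi (I : Ideal A) {P Q : C} (p : P ⟶ Q) [Epi p] (hP : ARSys.KilledBy I P) :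
    ARSys.KilledBy I Q := by
  intro a ha
  rw [← cancel_epi p, comp_zero, Linear.comp_smul, Category.comp_id]
  have : a • p = (a • 𝟙 P) ≫ p := by rw [Linear.smul_comp, Category.id_comp]
  rw [this, hP a ha, zero_comp]

lemma homKilledBy_comp (I : Ideal A) {P Q R : C} (p : P ⟶ Q) (φ : Q ⟶ R)
    (h : ARSys.HomKilledBy I φ) : ARSys.HomKilledBy I (p ≫ φ) := by
  intro a ha
  rw [← Linear.comp_smul, h a ha, comp_zero]

lemma homKilledBy_of_killedBy_src (I : Ideal A) {P Q : C} (φ : P ⟶ Q) (h : ARSys.KilledBy I P) :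
    ARSys.HomKilledBy I φ := by
  intro a ha
  have : a • φ = (a • 𝟙 P) ≫ φ := by rw [Linear.smul_comp, Category.id_comp]
  rw [this, h a ha, zero_comp]

lemma IsQuot.epi (I : Ideal A) {P Q : C} {p : P ⟶ Q} (hp : ARSys.IsQuot I p) : Epi p := by
  constructor
  intro R ψ ψ' h
  have hk : ARSys.HomKilledBy I (p ≫ ψ) :=
    homKilledBy_comp I p ψ (homKilledBy_of_killedBy_src I ψ hp.1)
  obtain ⟨χ, -, hχ⟩ := hp.2 R (p ≫ ψ) hk
  rw [hχ ψ rfl, hχ ψ' h.symm]

section SES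

variable (S : ShortComplex (ARSys.PS C)) (hS : S.ShortExact)

include hS

lemma epi_g_app (n : ℕ) : Epi (S.g.app (op n)) := by
  have := hS.epi_g
  exact (NatTrans.epi_iff_epi_app S.g).1 inferInstance (op n)

lemma mono_f_app (n : ℕ) : Mono (S.f.app (op n)) := by
  have := hS.mono_f
  exact (NatTrans.mono_iff_mono_app S.f).1 inferInstance (op n)

omit hS in
lemma zero_app (n : ℕ) : S.f.app (op n) ≫ S.g.app (op n) = 0 := by
  rw [← NatTrans.comp_app, S.zero]; rfl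

lemma desc_app (n : ℕ) {W : C} (k : S.X₂.obj (op n) ⟶ W) (hk : S.f.app (op n) ≫ k = 0) :
    ∃ l : S.X₃.obj (op n) ⟶ W, S.g.app (op n) ≫ l = k := by
  have h := hS.map_of_exact ((evaluation _ _).obj (op n))
  haveI := h.epi_g
  exact ⟨h.exact.desc k hk, h.exact.g_desc k hk⟩

lemma lift_app (n : ℕ) {W : C} (k : W ⟶ S.X₂.obj (op n)) (hk : k ≫ S.g.app (op n) = 0) :
    ∃ l : W ⟶ S.X₁.obj (op n), l ≫ S.f.app (op n) = k := by
  have h := hS.map_of_exact ((evaluation _ _).obj (op n))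
  haveI := h.mono_f
  exact ⟨h.exact.lift k hk, h.exact.lift_f k hk⟩

theorem isAdic_X₃ (J : Ideal A) (h₁ : ARSys.IsStrict S.X₁) (h₂ : ARSys.IsAdic J S.X₂) :
    ARSys.IsAdic J S.X₃ := by
  have hk : ARSys.TermKilled J S.X₃ := fun n => by
    haveI := epi_g_app S hS n
    exact killedBy_of_epi _ (S.g.app (op n)) (h₂.1 n)
  refine ⟨hk, fun n m h => ⟨hk n, fun W φ hφ => ?_⟩⟩
  haveI := epi_g_app S hS n
  haveI := epi_g_app S hS m
  haveI : Epi (ARSys.tr S.X₁ h) := h₁ n m h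
  haveI : Epi (ARSys.tr S.X₂ h) := IsQuot.epi _ (h₂.2 n m h)
  have hepi3 : Epi (ARSys.tr S.X₃ h) := by
    have e : S.g.app (op m) ≫ ARSys.tr S.X₃ h = ARSys.tr S.X₂ h ≫ S.g.app (op n) :=
      (tr_naturality S.g h).symm
    haveI : Epi (S.g.app (op m) ≫ ARSys.tr S.X₃ h) := by rw [e]; exact epi_comp _ _
    exact epi_of_epi (S.g.app (op m)) _
  obtain ⟨ψ₂, hψ₂, -⟩ := (h₂.2 n m h).2 W (S.g.app (op m) ≫ φ) (homKilledBy_comp _ _ _ hφ)
  have hz : S.f.app (op n) ≫ ψ₂ = 0 := by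
    rw [← cancel_epi (ARSys.tr S.X₁ h), comp_zero, ← Category.assoc, tr_naturality S.f h,
      Category.assoc, hψ₂, ← Category.assoc, zero_app, zero_comp]
  obtain ⟨ψ₃, hψ₃⟩ := desc_app S hS n ψ₂ hz
  have key : ARSys.tr S.X₃ h ≫ ψ₃ = φ := by
    rw [← cancel_epi (S.g.app (op m)), ← Category.assoc, ← tr_naturality S.g h, Category.assoc,
      hψ₃, hψ₂]
  refine ⟨ψ₃, key, fun ψ hψ => ?_⟩
  have hψ' : ARSys.tr S.X₃ h ≫ ψ = φ := hψ
  rw [← cancel_epi (ARSys.tr S.X₃ h), hψ', key]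

theorem isStrict_X₁ (J : Ideal A) (k₂ : ARSys.TermKilled J S.X₂) (h₂ : ARSys.IsStrict S.X₂)
    (h₃ : ARSys.IsAdic J S.X₃) : ARSys.IsStrict S.X₁ := by
  intro n m h
  haveI := epi_g_app S hS n
  haveI := epi_g_app S hS m
  haveI := mono_f_app S hS n
  haveI : Epi (ARSys.tr S.X₂ h) := h₂ n m h
  haveI : Epi (ARSys.tr S.X₃ h) := IsQuot.epi _ (h₃.2 n m h)
  let c := cokernel.π (ARSys.tr S.X₁ h)
  let P := pushout (S.f.app (op n)) c
  let inl : S.X₂.obj (op n) ⟶ P := pushout.inl _ _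
  let inr : cokernel (ARSys.tr S.X₁ h) ⟶ P := pushout.inr _ _
  have hsq : S.f.app (op n) ≫ inl = c ≫ inr := pushout.condition
  haveI : Mono inr := Abelian.mono_pushout_of_mono_f _ _
  haveI : Epi inl := by dsimp only [inl]; infer_instance
  have hPk : ARSys.KilledBy (J ^ (n + 1)) P := killedBy_of_epi _ inl (k₂ n)
  let θ : S.X₂.obj (op m) ⟶ P := ARSys.tr S.X₂ h ≫ inl
  have hθ : S.f.app (op m) ≫ θ = 0 := by
    dsimp only [θ]
    rw [← Category.assoc, ← tr_naturality S.f h, Category.assoc, hsq, ← Category.assoc]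
    dsimp only [c]
    rw [cokernel.condition, zero_comp]
  obtain ⟨θ₃, hθ₃⟩ := desc_app S hS m θ hθ
  obtain ⟨s, hs, -⟩ := (h₃.2 n m h).2 P θ₃ (homKilledBy_of_killedBy_tgt _ _ hPk)
  let ρ : P ⟶ S.X₃.obj (op n) := pushout.desc (S.g.app (op n)) 0 (by rw [zero_app, comp_zero])
  have hρl : inl ≫ ρ = S.g.app (op n) := pushout.inl_desc _ _ _
  have hρr : inr ≫ ρ = 0 := pushout.inr_desc _ _ _
  have hsρ : s ≫ ρ = 𝟙 _ := by
    rw [← cancel_epi (ARSys.tr S.X₃ h), ← cancel_epi (S.g.app (op m)), ← Category.assoc (ARSys.tr S.X₃ h),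
      hs, ← Category.assoc, hθ₃, Category.comp_id]
    dsimp only [θ]
    rw [Category.assoc, hρl, tr_naturality S.g h]
  have hsepi : Epi s := by
    have e : S.g.app (op m) ≫ ARSys.tr S.X₃ h ≫ s = ARSys.tr S.X₂ h ≫ inl := by
      rw [hs, hθ₃]
    haveI : Epi (S.g.app (op m) ≫ ARSys.tr S.X₃ h ≫ s) := by rw [e]; exact epi_comp _ _
    haveI : Epi (ARSys.tr S.X₃ h ≫ s) := epi_of_epi (S.g.app (op m)) _
    exact epi_of_epi (ARSys.tr S.X₃ h) _
  have hρmono : Mono ρ := by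
    have hρs : ρ ≫ s = 𝟙 _ := by
      rw [← cancel_epi s, ← Category.assoc, hsρ, Category.id_comp, Category.comp_id]
    exact mono_of_mono_fac hρs
  have hinr : inr = 0 := by rw [← cancel_mono ρ, hρr, zero_comp]
  have hc : c = 0 := by rw [← cancel_mono inr, hinr, comp_zero, zero_comp]
  exact Preadditive.epi_of_cokernel_zero hc

/-- five-lemma style: transition maps of the middle term are epi. -/
lemma epi_tr_X₂ {n m : ℕ} (h : n ≤ m) [Epi (ARSys.tr S.X₁ h)] [Epi (ARSys.tr S.X₃ h)] :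
    Epi (ARSys.tr S.X₂ h) := by
  haveI := epi_g_app S hS m
  rw [epi_iff_surjective_up_to_refinements]
  intro W b'
  obtain ⟨W₁, π₁, hπ₁, c, hc⟩ :=
    surjective_up_to_refinements_of_epi (ARSys.tr S.X₃ h) (b' ≫ S.g.app (op n))
  obtain ⟨W₂, π₂, hπ₂, b, hb⟩ := surjective_up_to_refinements_of_epi (S.g.app (op m)) c
  have hd : (π₂ ≫ π₁ ≫ b' - b ≫ ARSys.tr S.X₂ h) ≫ S.g.app (op n) = 0 := by
    rw [Preadditive.sub_comp, Category.assoc, Category.assoc, Category.assoc, hc,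
      tr_naturality S.g h, ← Category.assoc b, ← hb, Category.assoc, sub_self]
  obtain ⟨a', ha'⟩ := lift_app S hS n _ hd
  obtain ⟨W₃, π₃, hπ₃, a, ha⟩ := surjective_up_to_refinements_of_epi (ARSys.tr S.X₁ h) a'
  refine ⟨W₃, π₃ ≫ π₂ ≫ π₁, epi_comp' hπ₃ (epi_comp' hπ₂ hπ₁),
    π₃ ≫ b + a ≫ S.f.app (op m), ?_⟩
  rw [Preadditive.add_comp, Category.assoc, Category.assoc a, ← tr_naturality S.f h,
    ← Category.assoc a, ← ha, Category.assoc π₃ a', ha']
  simp only [Preadditive.comp_sub, Category.assoc]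
  abel

theorem isAdic_X₂ (J : Ideal A) (k₂ : ARSys.TermKilled J S.X₂) (h₁ : ARSys.IsAdic J S.X₁)
    (h₃ : ARSys.IsAdic J S.X₃) : ARSys.IsAdic J S.X₂ := by
  refine ⟨k₂, fun n m h => ⟨k₂ n, fun W φ hφ => ?_⟩⟩
  haveI := epi_g_app S hS n
  haveI := epi_g_app S hS m
  haveI := mono_f_app S hS n
  haveI : Epi (ARSys.tr S.X₁ h) := IsQuot.epi _ (h₁.2 n m h)
  haveI : Epi (ARSys.tr S.X₃ h) := IsQuot.epi _ (h₃.2 n m h)
  haveI : Epi (ARSys.tr S.X₂ h) := epi_tr_X₂ S hS h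
  -- the restriction of φ to X₁ descends
  obtain ⟨α, hα, -⟩ := (h₁.2 n m h).2 W (S.f.app (op m) ≫ φ) (homKilledBy_comp _ _ _ hφ)
  let P := pushout (S.f.app (op n)) α
  let inl : S.X₂.obj (op n) ⟶ P := pushout.inl _ _
  let inr : W ⟶ P := pushout.inr _ _
  have hsq : S.f.app (op n) ≫ inl = α ≫ inr := pushout.condition
  haveI : Mono inr := Abelian.mono_pushout_of_mono_f _ _
  let κ : S.X₂.obj (op m) ⟶ P := ARSys.tr S.X₂ h ≫ inl - φ ≫ inr
  have hκ : S.f.app (op m) ≫ κ = 0 := by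
    dsimp only [κ]
    rw [Preadditive.comp_sub, ← Category.assoc, ← tr_naturality S.f h, Category.assoc, hsq,
      ← Category.assoc, hα, Category.assoc, sub_self]
  obtain ⟨κ₃, hκ₃⟩ := desc_app S hS m κ hκ
  have hκk : ARSys.HomKilledBy (J ^ (n + 1)) κ := by
    intro a ha
    dsimp only [κ]
    have e1 : a • (ARSys.tr S.X₂ h ≫ inl) = 0 := by
      have : a • inl = (a • 𝟙 _) ≫ inl := by rw [Linear.smul_comp, Category.id_comp]
      rw [← Linear.comp_smul, this, k₂ n a ha, zero_comp, comp_zero]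
    have e2 : a • (φ ≫ inr) = 0 := by rw [← Linear.smul_comp, hφ a ha, zero_comp]
    rw [smul_sub, e1, e2, sub_zero]
  have hκ₃k : ARSys.HomKilledBy (J ^ (n + 1)) κ₃ := by
    intro a ha
    rw [← cancel_epi (S.g.app (op m)), comp_zero, Linear.comp_smul, hκ₃, hκk a ha]
  obtain ⟨σ, hσ, -⟩ := (h₃.2 n m h).2 P κ₃ hκ₃k
  let ψ' : S.X₂.obj (op n) ⟶ P := inl - S.g.app (op n) ≫ σ
  have hψ' : ARSys.tr S.X₂ h ≫ ψ' = φ ≫ inr := by
    dsimp only [ψ']
    rw [Preadditive.comp_sub, ← Category.assoc, tr_naturality S.g h, Category.assoc, hσ, hκ₃]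
    dsimp only [κ]
    abel
  -- φ kills the kernel of the transition map
  have hker : kernel.ι (ARSys.tr S.X₂ h) ≫ φ = 0 := by
    rw [← cancel_mono inr, Category.assoc, ← hψ', ← Category.assoc, kernel.condition, zero_comp,
      zero_comp]
  have hex : (ShortComplex.mk (kernel.ι (ARSys.tr S.X₂ h)) (ARSys.tr S.X₂ h)
      (kernel.condition _)).Exact := ShortComplex.exact_kernel _
  have key : ARSys.tr S.X₂ h ≫ hex.desc φ hker = φ := hex.g_desc φ hker
  refine ⟨hex.desc φ hker, key, fun ψ hψ => ?_⟩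
  have hψ2 : ARSys.tr S.X₂ h ≫ ψ = φ := hψ
  rw [← cancel_epi (ARSys.tr S.X₂ h), hψ2, key]

end SES

end Groth.Agent.Helper3.AdicSES
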