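import Mathlib
import Groth.Agent.Lib.Helper3.ImgSub

set_option autoImplicit false
open CategoryTheory CategoryTheory.Limits

universe v u

namespace Groth.Agent.Helper3.NoethExt

open Groth.Agent.Helper3.ImgSub

variable {C : Type u} [Category.{v} C] [Abelian C]

/-- If `π` is epi and `π ≫ w.arrow` factors through `t` then `w ≤ t`. -/
lemma le_of_epi_factors {X : C} {w t : Subobject X} {P : C} (π : P ⟶ (w : C)) [Epi π]
    (h : t.Factors (π ≫ w.arrow)) : w ≤ t := by
  have h0 : w.arrow ≫ cokernel.π t.arrow = 0 := by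
    rw [← cancel_epi π, comp_zero, ← Category.assoc, ← t.factorThru_arrow _ h, Category.assoc,
      cokernel.condition, comp_zero]
  exact Subobject.le_of_comm (Abelian.monoLift t.arrow w.arrow h0) (Abelian.monoLift_comp _ _ _)

/-- the kernel of `p` is contained in the image of `i`, up to refinements -/
def KerLE {X' X X'' : C} (i : X' ⟶ X) (p : X ⟶ X'') : Prop :=
  ∀ ⦃W : C⦄ (d : W ⟶ X), d ≫ p = 0 →
    ∃ (W' : C) (π : W' ⟶ W) (_ : Epi π) (k : W' ⟶ X'), π ≫ d = k ≫ i

lemma kerLE_of_exact {X' X X'' : C} (i : X' ⟶ X) (p : X ⟶ X'') (w : i ≫ p = 0)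
    (hex : (ShortComplex.mk i p w).Exact) : KerLE i p := by
  intro W d hd
  obtain ⟨W₂, π₂, hπ₂, k, hk⟩ := hex.exact_up_to_refinements d hd
  exact ⟨W₂, π₂, hπ₂, k, hk⟩

/-- the "five lemma" for subobjects of the middle term of an exact sequence -/
lemma le_of_pullback_le_of_image_le {X' X X'' : C} (i : X' ⟶ X) (p : X ⟶ X'')
    (hex : KerLE i p) {A B : Subobject X} (hAB : A ≤ B)
    (h₁ : (Subobject.pullback i).obj B ≤ (Subobject.pullback i).obj A)
    (h₂ : imageSubobject (B.arrow ≫ p) ≤ imageSubobject (A.arrow ≫ p)) : B ≤ A := by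
  obtain ⟨W₁, π₁, hπ₁, a, ha⟩ := exists_refinement_of_imageSubobject_le _ _ h₂
  have hd : (π₁ ≫ B.arrow - a ≫ A.arrow) ≫ p = 0 := by
    rw [Preadditive.sub_comp, Category.assoc, Category.assoc, ha, sub_self]
  obtain ⟨W₂, π₂, hπ₂, k, hk⟩ := hex _ hd
  -- `k ≫ i` factors through `B`
  have hkB : B.Factors (k ≫ i) := by
    have e : k ≫ i = (π₂ ≫ π₁ - (π₂ ≫ a) ≫ Subobject.ofLE A B hAB) ≫ B.arrow := by
      rw [← hk, Preadditive.comp_sub, Preadditive.sub_comp, Category.assoc, Category.assoc,
        Category.assoc, Subobject.ofLE_arrow]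
    rw [e]
    exact Subobject.factors_comp_arrow _
  have hkA : A.Factors (k ≫ i) := by
    rw [← pullback_factors_iff]
    exact Subobject.factors_of_le _ h₁ ((pullback_factors_iff i B k).2 hkB)
  haveI : Epi (π₂ ≫ π₁) := epi_comp _ _
  refine le_of_epi_factors (π₂ ≫ π₁) ?_
  have e : (π₂ ≫ π₁) ≫ B.arrow = k ≫ i + (π₂ ≫ a) ≫ A.arrow := by
    rw [← hk, Preadditive.comp_sub, Category.assoc, Category.assoc]
    abel
  rw [e]
  exact Subobject.factors_add _ _ hkA (Subobject.factors_comp_arrow _)

section Exact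

variable {X' X X'' : C} (i : X' ⟶ X) (p : X ⟶ X'') (hex : KerLE i p)

include hex in
theorem isNoetherianObject_of_exact [IsNoetherianObject X'] [IsNoetherianObject X''] :
    IsNoetherianObject X := by
  rw [isNoetherianObject_iff_monotone_chain_condition]
  intro Z
  let f₁ : ℕ →o Subobject X' :=
    ⟨fun n => (Subobject.pullback i).obj (Z n), fun a b h =>
      (Subobject.pullback i).monotone (Z.monotone h)⟩
  let f₂ : ℕ →o Subobject X'' :=
    ⟨fun n => imageSubobject ((Z n).arrow ≫ p), fun a b h => by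
      dsimp only
      rw [← Subobject.ofLE_arrow (Z.monotone h), Category.assoc]
      exact imageSubobject_comp_le _ _⟩
  obtain ⟨N₁, h₁⟩ := monotone_chain_condition_of_isNoetherianObject f₁
  obtain ⟨N₂, h₂⟩ := monotone_chain_condition_of_isNoetherianObject f₂
  refine ⟨max N₁ N₂, fun m hm => ?_⟩
  refine le_antisymm (Z.monotone hm) ?_
  refine le_of_pullback_le_of_image_le i p hex (Z.monotone hm) ?_ ?_
  · have e1 : f₁ N₁ = f₁ m := h₁ m (le_trans (le_max_left _ _) hm)
    have e2 : f₁ N₁ = f₁ (max N₁ N₂) := h₁ _ (le_max_left _ _)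
    exact (e1.symm.trans e2).le
  · have e1 : f₂ N₂ = f₂ m := h₂ m (le_trans (le_max_right _ _) hm)
    have e2 : f₂ N₂ = f₂ (max N₁ N₂) := h₂ _ (le_max_right _ _)
    exact (e1.symm.trans e2).le

include hex in
theorem isArtinianObject_of_exact [IsArtinianObject X'] [IsArtinianObject X''] :
    IsArtinianObject X := by
  rw [isArtinianObject_iff_antitone_chain_condition]
  intro Z
  let f₁ : ℕ →o (Subobject X')ᵒᵈ :=
    ⟨fun n => OrderDual.toDual ((Subobject.pullback i).obj (OrderDual.ofDual (Z n))), fun a b h =>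
      (Subobject.pullback i).monotone (Z.monotone h)⟩
  let f₂ : ℕ →o (Subobject X'')ᵒᵈ :=
    ⟨fun n => OrderDual.toDual (imageSubobject ((OrderDual.ofDual (Z n)).arrow ≫ p)),
      fun a b h => by
        change imageSubobject ((OrderDual.ofDual (Z b)).arrow ≫ p) ≤
          imageSubobject ((OrderDual.ofDual (Z a)).arrow ≫ p)
        have hab : OrderDual.ofDual (Z b) ≤ OrderDual.ofDual (Z a) := Z.monotone h
        rw [← Subobject.ofLE_arrow hab, Category.assoc]
        exact imageSubobject_comp_le _ _⟩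
  obtain ⟨N₁, h₁⟩ := antitone_chain_condition_of_isArtinianObject f₁
  obtain ⟨N₂, h₂⟩ := antitone_chain_condition_of_isArtinianObject f₂
  refine ⟨max N₁ N₂, fun m hm => ?_⟩
  have hle : OrderDual.ofDual (Z m) ≤ OrderDual.ofDual (Z (max N₁ N₂)) := Z.monotone hm
  have : OrderDual.ofDual (Z (max N₁ N₂)) = OrderDual.ofDual (Z m) := by
    refine le_antisymm ?_ hle
    refine le_of_pullback_le_of_image_le i p hex hle ?_ ?_
    · have e1 : f₁ N₁ = f₁ m := h₁ m (le_trans (le_max_left _ _) hm)
      have e2 : f₁ N₁ = f₁ (max N₁ N₂) := h₁ _ (le_max_left _ _)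
      have e3 : (Subobject.pullback i).obj (OrderDual.ofDual (Z (max N₁ N₂))) =
          (Subobject.pullback i).obj (OrderDual.ofDual (Z m)) :=
        congrArg OrderDual.ofDual (e2.symm.trans e1)
      exact e3.le
    · have e1 : f₂ N₂ = f₂ m := h₂ m (le_trans (le_max_right _ _) hm)
      have e2 : f₂ N₂ = f₂ (max N₁ N₂) := h₂ _ (le_max_right _ _)
      have e3 : imageSubobject ((OrderDual.ofDual (Z (max N₁ N₂))).arrow ≫ p) =
          imageSubobject ((OrderDual.ofDual (Z m)).arrow ≫ p) :=
        congrArg OrderDual.ofDual (e2.symm.trans e1)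
      exact e3.le
  exact congrArg OrderDual.toDual this

end Exact

/-- pullback of subobjects along an epimorphism reflects the order -/
lemma le_of_pullback_le_of_epi {X Y : C} (p : X ⟶ Y) [Epi p] {S T : Subobject Y}
    (h : (Subobject.pullback p).obj S ≤ (Subobject.pullback p).obj T) : S ≤ T := by
  obtain ⟨W, π, hπ, x, hx⟩ := surjective_up_to_refinements_of_epi p S.arrow
  refine le_of_epi_factors π ?_
  rw [hx, ← pullback_factors_iff]
  refine Subobject.factors_of_le _ h ?_
  rw [pullback_factors_iff, ← hx]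
  exact Subobject.factors_comp_arrow _

theorem isNoetherianObject_of_epi {X Y : C} (p : X ⟶ Y) [Epi p] [IsNoetherianObject X] :
    IsNoetherianObject Y := by
  rw [isNoetherianObject_iff_monotone_chain_condition]
  intro Z
  let f : ℕ →o Subobject X :=
    ⟨fun n => (Subobject.pullback p).obj (Z n), fun a b h =>
      (Subobject.pullback p).monotone (Z.monotone h)⟩
  obtain ⟨N, hN⟩ := monotone_chain_condition_of_isNoetherianObject f
  refine ⟨N, fun m hm => ?_⟩
  have e : f N = f m := hN m hm
  exact le_antisymm (le_of_pullback_le_of_epi p e.le) (le_of_pullback_le_of_epi p e.ge)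

theorem isArtinianObject_of_epi {X Y : C} (p : X ⟶ Y) [Epi p] [IsArtinianObject X] :
    IsArtinianObject Y := by
  rw [isArtinianObject_iff_antitone_chain_condition]
  intro Z
  let f : ℕ →o (Subobject X)ᵒᵈ :=
    ⟨fun n => OrderDual.toDual ((Subobject.pullback p).obj (OrderDual.ofDual (Z n))),
      fun a b h => (Subobject.pullback p).monotone (Z.monotone h)⟩
  obtain ⟨N, hN⟩ := antitone_chain_condition_of_isArtinianObject f
  refine ⟨N, fun m hm => ?_⟩
  have e : (Subobject.pullback p).obj (OrderDual.ofDual (Z N)) =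
      (Subobject.pullback p).obj (OrderDual.ofDual (Z m)) := congrArg OrderDual.ofDual (hN m hm)
  have : OrderDual.ofDual (Z N) = OrderDual.ofDual (Z m) :=
    le_antisymm (le_of_pullback_le_of_epi p e.le) (le_of_pullback_le_of_epi p e.ge)
  exact congrArg OrderDual.toDual this

/-! ### finite sups of subobjects -/

lemma eq_zero_of_sup {X : C} {x y : Subobject X} {Z : C} (c : ((x ⊔ y : Subobject X) : C) ⟶ Z)
    (hx : Subobject.ofLE x (x ⊔ y) le_sup_left ≫ c = 0)
    (hy : Subobject.ofLE y (x ⊔ y) le_sup_right ≫ c = 0) : c = 0 := by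
  have hxK : x ≤ Subobject.mk (kernel.ι c ≫ (x ⊔ y).arrow) :=
    Subobject.le_mk_of_comm (kernel.lift c _ hx) (by simp)
  have hyK : y ≤ Subobject.mk (kernel.ι c ≫ (x ⊔ y).arrow) :=
    Subobject.le_mk_of_comm (kernel.lift c _ hy) (by simp)
  have hK : x ⊔ y ≤ Subobject.mk (kernel.ι c ≫ (x ⊔ y).arrow) := sup_le hxK hyK
  have h1 : Subobject.ofLEMk _ _ hK ≫ kernel.ι c = 𝟙 _ := by
    rw [← cancel_mono (x ⊔ y).arrow, Category.assoc, Subobject.ofLEMk_comp, Category.id_comp]
  calc c = (Subobject.ofLEMk _ _ hK ≫ kernel.ι c) ≫ c := by rw [h1, Category.id_comp]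
    _ = 0 := by rw [Category.assoc, kernel.condition, comp_zero]

/-- `(x ⊔ y)/x` is a quotient of `y` -/
lemma epi_ofLE_comp_cokernel {X : C} (x y : Subobject X) :
    Epi (Subobject.ofLE y (x ⊔ y) le_sup_right ≫
      cokernel.π (Subobject.ofLE x (x ⊔ y) le_sup_left)) := by
  apply Preadditive.epi_of_cancel_zero
  intro Z c hc
  have h : cokernel.π (Subobject.ofLE x (x ⊔ y) le_sup_left) ≫ c = 0 := by
    apply eq_zero_of_sup
    · rw [← Category.assoc, cokernel.condition, zero_comp]
    · rw [← Category.assoc]; exact hc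
  rw [← cancel_epi (cokernel.π (Subobject.ofLE x (x ⊔ y) le_sup_left)), h, comp_zero]

theorem isNoetherianObject_sup {X : C} (x y : Subobject X) [IsNoetherianObject (x : C)]
    [IsNoetherianObject (y : C)] : IsNoetherianObject ((x ⊔ y : Subobject X) : C) := by
  haveI := epi_ofLE_comp_cokernel x y
  haveI : IsNoetherianObject (cokernel (Subobject.ofLE x (x ⊔ y) le_sup_left)) :=
    isNoetherianObject_of_epi (Subobject.ofLE y (x ⊔ y) le_sup_right ≫
      cokernel.π (Subobject.ofLE x (x ⊔ y) le_sup_left))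
  exact isNoetherianObject_of_exact (Subobject.ofLE x (x ⊔ y) le_sup_left)
    (cokernel.π (Subobject.ofLE x (x ⊔ y) le_sup_left))
    (kerLE_of_exact _ _ (cokernel.condition _) (ShortComplex.exact_cokernel _))

theorem isArtinianObject_sup {X : C} (x y : Subobject X) [IsArtinianObject (x : C)]
    [IsArtinianObject (y : C)] : IsArtinianObject ((x ⊔ y : Subobject X) : C) := by
  haveI := epi_ofLE_comp_cokernel x y
  haveI : IsArtinianObject (cokernel (Subobject.ofLE x (x ⊔ y) le_sup_left)) :=
    isArtinianObject_of_epi (Subobject.ofLE y (x ⊔ y) le_sup_right ≫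
      cokernel.π (Subobject.ofLE x (x ⊔ y) le_sup_left))
  exact isArtinianObject_of_exact (Subobject.ofLE x (x ⊔ y) le_sup_left)
    (cokernel.π (Subobject.ofLE x (x ⊔ y) le_sup_left))
    (kerLE_of_exact _ _ (cokernel.condition _) (ShortComplex.exact_cokernel _))

theorem isNoetherianObject_finset_sup {X : C} {ι : Type*} (s : Finset ι) (f : ι → Subobject X)
    (h : ∀ a ∈ s, IsNoetherianObject (f a : C)) :
    IsNoetherianObject ((s.sup f : Subobject X) : C) := by
  classical
  induction s using Finset.induction_on with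
  | empty =>
    rw [Finset.sup_empty]
    exact isNoetherianObject_of_isZero (IsZero.of_iso (isZero_zero C) Subobject.botCoeIsoZero)
  | insert a s ha ih =>
    rw [Finset.sup_insert]
    haveI : IsNoetherianObject (f a : C) := h a (Finset.mem_insert_self a s)
    haveI : IsNoetherianObject ((s.sup f : Subobject X) : C) :=
      ih (fun b hb => h b (Finset.mem_insert_of_mem hb))
    exact isNoetherianObject_sup _ _

theorem isArtinianObject_finset_sup {X : C} {ι : Type*} (s : Finset ι) (f : ι → Subobject X)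
    (h : ∀ a ∈ s, IsArtinianObject (f a : C)) :
    IsArtinianObject ((s.sup f : Subobject X) : C) := by
  classical
  induction s using Finset.induction_on with
  | empty =>
    rw [Finset.sup_empty]
    exact isArtinianObject_of_isZero (IsZero.of_iso (isZero_zero C) Subobject.botCoeIsoZero)
  | insert a s ha ih =>
    rw [Finset.sup_insert]
    haveI : IsArtinianObject (f a : C) := h a (Finset.mem_insert_self a s)
    haveI : IsArtinianObject ((s.sup f : Subobject X) : C) :=
      ih (fun b hb => h b (Finset.mem_insert_of_mem hb))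
    exact isArtinianObject_sup _ _

end Groth.Agent.Helper3.NoethExt
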