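import Mathlib
import Groth.Prelude.Def_ARSys
import Groth.Agent.Lib.Helper3.ImgSub

set_option autoImplicit false
open CategoryTheory CategoryTheory.Limits Opposite

universe v u

namespace Groth.Agent.Helper3.UnivImg

open Groth.Agent.Helper3.ImgSub ARSys

variable {C : Type u} [Category.{v} C] [Abelian C]

/-- the canonical translation map `X[r] ⟶ X`. -/
def sigma (X : ARSys.PS C) (r : ℕ) : (ARSys.shift C r).obj X ⟶ X where
  app n := ARSys.tr X (Nat.le_add_right n.unop r)
  naturality := by
    intro a b f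
    change X.map _ ≫ X.map _ = X.map _ ≫ X.map _
    rw [← Functor.map_comp, ← Functor.map_comp]
    rfl

@[simp] lemma sigma_app (X : ARSys.PS C) (r n : ℕ) :
    (sigma X r).app (op n) = ARSys.shiftMap X r n := rfl

/-- a mono onto images: if `image (a ≫ ι) = image ι` with `ι` mono then `a` is epi. -/
lemma epi_of_imageSubobject_le {P Q R : C} (a : P ⟶ Q) (ι : Q ⟶ R) [Mono ι]
    (h : imageSubobject ι ≤ imageSubobject (a ≫ ι)) : Epi a := by
  obtain ⟨W, π, hπ, w, hw⟩ := exists_refinement_of_imageSubobject_le _ _ h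
  have : π = w ≫ a := by
    rw [← cancel_mono ι, Category.assoc, hw]
  exact epi_of_epi_fac this.symm

lemma isARNull_cokernel_of_factor {X Y : ARSys.PS C} (u : Y ⟶ X) (r : ℕ)
    (w : (ARSys.shift C r).obj X ⟶ Y) (hw : w ≫ u = sigma X r) :
    ARSys.IsARNull (cokernel u) := by
  refine ⟨r, fun n => ?_⟩
  have hepi : Epi ((cokernel.π u).app (op (n + r))) :=
    (NatTrans.epi_iff_epi_app (cokernel.π u)).1 inferInstance (op (n + r))
  have h1 : (cokernel.π u).app (op (n + r)) ≫ ARSys.shiftMap (cokernel u) r n =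
      ARSys.shiftMap X r n ≫ (cokernel.π u).app (op n) :=
    (tr_naturality (cokernel.π u) (Nat.le_add_right n r)).symm
  have h2 : ARSys.shiftMap X r n ≫ (cokernel.π u).app (op n) = 0 := by
    rw [← sigma_app, ← hw, NatTrans.comp_app, Category.assoc, ← NatTrans.comp_app,
      cokernel.condition]
    simp
  change ARSys.tr (cokernel u) (Nat.le_add_right n r) = 0
  rw [← cancel_epi ((cokernel.π u).app (op (n + r)))]
  exact (h1.trans h2).trans comp_zero.symm

section

variable (X : ARSys.PS C) (r : ℕ)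

/-- the system of images of `X[r] ⟶ X`. -/
noncomputable def img : ARSys.PS C := Limits.image (sigma X r)

noncomputable def imgι : img X r ⟶ X := Limits.image.ι (sigma X r)

noncomputable def imgπ : (ARSys.shift C r).obj X ⟶ img X r := factorThruImage (sigma X r)

instance : Mono (imgι X r) := inferInstanceAs (Mono (Limits.image.ι (sigma X r)))

instance : Epi (imgπ X r) := inferInstanceAs (Epi (factorThruImage (sigma X r)))

lemma imgπ_ι : imgπ X r ≫ imgι X r = sigma X r := image.fac _

instance (n : ℕ) : Mono ((imgι X r).app (op n)) :=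
  (NatTrans.mono_iff_mono_app (imgι X r)).1 inferInstance (op n)

/-- components of `imgπ` with clean source type -/
noncomputable def imgπApp (n : ℕ) : X.obj (op (n + r)) ⟶ (img X r).obj (op n) :=
  (imgπ X r).app (op n)

instance (n : ℕ) : Epi (imgπApp X r n) :=
  (NatTrans.epi_iff_epi_app (imgπ X r)).1 inferInstance (op n)

lemma imgπ_ι_app (n : ℕ) :
    imgπApp X r n ≫ (imgι X r).app (op n) = ARSys.tr X (Nat.le_add_right n r) := by
  change (imgπ X r).app (op n) ≫ (imgι X r).app (op n) = _
  rw [← NatTrans.comp_app, imgπ_ι]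
  rfl

lemma imgπApp_tr {n m : ℕ} (h : n ≤ m) :
    imgπApp X r m ≫ ARSys.tr (img X r) h =
      ARSys.tr X (Nat.add_le_add_right h r) ≫ imgπApp X r n :=
  ((imgπ X r).naturality (homOfLE h).op).symm

lemma imageSubobject_imgι (n : ℕ) :
    imageSubobject ((imgι X r).app (op n)) = imageSubobject (ARSys.tr X (Nat.le_add_right n r)) := by
  rw [← imgπ_ι_app, imageSubobject_epi_comp]

lemma isARNull_cokernel_imgι : ARSys.IsARNull (cokernel (imgι X r)) :=
  isARNull_cokernel_of_factor (imgι X r) r (imgπ X r) (imgπ_ι X r)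

lemma isARNull_kernel_imgι : ARSys.IsARNull (kernel (imgι X r)) := by
  refine ⟨0, fun n => ?_⟩
  have : IsZero (kernel (imgι X r)) := by
    rw [IsZero.iff_id_eq_zero, ← cancel_mono (kernel.ι (imgι X r)), ← cancel_mono (imgι X r)]
    simp
  exact (((evaluation _ _).obj (op n)).map_isZero this).eq_of_tgt _ _

lemma isStrict_img (hr : ∀ s : ℕ, r ≤ s → ∀ n : ℕ,
    imageSubobject (ARSys.shiftMap X s n) = imageSubobject (ARSys.shiftMap X r n)) :
    ARSys.IsStrict (img X r) := by
  intro n m h
  -- `X_{m+r} ⟶ Y_m ⟶ Y_n ↪ X_n` is the transition map `X_{m+r} ⟶ X_n`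
  have comp : (imgπApp X r m ≫ ARSys.tr (img X r) h) ≫ (imgι X r).app (op n) =
      ARSys.tr X (show n ≤ m + r by omega) := by
    rw [Category.assoc, tr_naturality, ← Category.assoc, imgπ_ι_app, tr_comp]
  have hle : imageSubobject ((imgι X r).app (op n)) ≤
      imageSubobject ((imgπApp X r m ≫ ARSys.tr (img X r) h) ≫ (imgι X r).app (op n)) := by
    rw [comp, imageSubobject_imgι]
    obtain ⟨s, hs⟩ : ∃ s, m + r = n + s := ⟨m + r - n, by omega⟩
    have h1 : imageSubobject (ARSys.tr X (Nat.le_add_right n s)) =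
        imageSubobject (ARSys.tr X (Nat.le_add_right n r)) := hr s (by omega) n
    have key : ∀ (k : ℕ) (hk : k = n + s) (hle : n ≤ k),
        imageSubobject (ARSys.tr X hle) = imageSubobject (ARSys.tr X (Nat.le_add_right n s)) := by
      intro k hk hle; subst hk; rfl
    rw [key _ hs _, h1]
  have := epi_of_imageSubobject_le _ _ hle
  exact epi_of_epi (imgπApp X r m) _

end

theorem isMLAR_iff_exists_strict_arIso (X : ARSys.PS C) :
    ARSys.IsMLAR X ↔ ∃ (Y : ARSys.PS C) (u : Y ⟶ X), ARSys.IsStrict Y ∧ ARSys.IsARIso u := by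
  constructor
  · rintro ⟨r, hr⟩
    exact ⟨img X r, imgι X r, isStrict_img X r hr,
      isARNull_kernel_imgι X r, isARNull_cokernel_imgι X r⟩
  · rintro ⟨Y, u, hY, hu⟩
    obtain ⟨r, hr⟩ := image_eq_of_isStrict_of_isARIso u hY hu
    exact ⟨r, fun s hs n => (hr s hs n).trans (hr r le_rfl n).symm⟩


lemma imageSubobject_le_of_comp_cokernel_eq_zero {X Y : ARSys.PS C} (u : Y ⟶ X) (n : ℕ) {P : C}
    (a : P ⟶ X.obj (op n)) (h : a ≫ (cokernel.π u).app (op n) = 0) :
    imageSubobject a ≤ imageSubobject (u.app (op n)) := by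
  have hex : (ShortComplex.mk u (cokernel.π u) (cokernel.condition u)).Exact :=
    ShortComplex.exact_cokernel u
  have hex' := hex.map ((evaluation _ _).obj (op n))
  obtain ⟨W, π, hπ, y, hy⟩ := hex'.exact_up_to_refinements a h
  exact imageSubobject_le_of_refinement _ _ π y hy

lemma imageSubobject_tr_antitone (X : ARSys.PS C) {n a b : ℕ} (ha : n ≤ a) (hab : a ≤ b) :
    imageSubobject (ARSys.tr X (ha.trans hab)) ≤ imageSubobject (ARSys.tr X ha) := by
  rw [← tr_comp X ha hab]
  exact imageSubobject_comp_le _ _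

theorem isMLAR_iff_isML_and (X : ARSys.PS C) :
    ARSys.IsMLAR X ↔ (ARSys.IsML X ∧ ∃ (X' : ARSys.PS C) (ι : X' ⟶ X), Mono ι ∧
      (∀ n : ℕ, ∃ r₀ : ℕ, ∀ r : ℕ, r₀ ≤ r →
        imageSubobject (ι.app (op n)) = imageSubobject (ARSys.shiftMap X r n)) ∧
      ARSys.IsARNull (cokernel ι)) := by
  constructor
  · rintro ⟨r, hr⟩
    refine ⟨fun n => ⟨r, fun s hs => hr s hs n⟩, img X r, imgι X r, inferInstance, ?_,
      isARNull_cokernel_imgι X r⟩
    intro n
    refine ⟨r, fun r' hr' => ?_⟩
    rw [imageSubobject_imgι]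
    exact (hr r' hr' n).symm
  · rintro ⟨-, X', ι, -, hst, ⟨r, hr⟩⟩
    refine ⟨r, fun s hs n => ?_⟩
    apply le_antisymm
    · exact imageSubobject_tr_antitone X (Nat.le_add_right n r) (Nat.add_le_add_left hs n)
    · have h1 : imageSubobject (ARSys.shiftMap X r n) ≤ imageSubobject (ι.app (op n)) := by
        apply imageSubobject_le_of_comp_cokernel_eq_zero
        have e1 : ARSys.shiftMap X r n ≫ (cokernel.π ι).app (op n) =
            (cokernel.π ι).app (op (n + r)) ≫ ARSys.tr (cokernel ι) (Nat.le_add_right n r) :=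
          tr_naturality (cokernel.π ι) (Nat.le_add_right n r)
        have e2 : ARSys.tr (cokernel ι) (Nat.le_add_right n r) = 0 := hr n
        rw [e1, e2, comp_zero]
        rfl
      obtain ⟨r₀, hr₀⟩ := hst n
      have h2 : imageSubobject (ι.app (op n)) ≤ imageSubobject (ARSys.shiftMap X s n) := by
        rw [hr₀ (max r₀ s) (le_max_left _ _)]
        exact imageSubobject_tr_antitone X (Nat.le_add_right n s)
          (Nat.add_le_add_left (le_max_right r₀ s) n)
      exact h1.trans h2

end Groth.Agent.Helper3.UnivImg
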