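import Mathlib
import Groth.Prelude.Def_ARSys
import Groth.Agent.Lib.Helper3.ImgSub
import Groth.Agent.Lib.Helper3.UnivImg
import Groth.Agent.Lib.Helper3.AdicFac
import Groth.Agent.Lib.Helper3.AdicSES

set_option autoImplicit false
open CategoryTheory CategoryTheory.Limits Opposite

universe w v u

namespace Groth.Agent.Helper3.ARIso

open Groth.Agent.Helper3.ImgSub Groth.Agent.Helper3.UnivImg ARSys

variable {C : Type u} [Category.{v} C] [Abelian C]

lemma tr_eq_zero_of_isARNull {X : ARSys.PS C} {r : ℕ} (hr : ∀ n, ARSys.shiftMap X r n = 0)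
    {a b : ℕ} (h : a + r ≤ b) : ARSys.tr X (le_trans (Nat.le_add_right a r) h) = 0 := by
  rw [← tr_comp X (Nat.le_add_right a r) h]
  have : ARSys.tr X (Nat.le_add_right a r) = 0 := hr a
  rw [this, comp_zero]

lemma isARNull_of_mono {X Y : ARSys.PS C} (i : X ⟶ Y) [Mono i] (hY : ARSys.IsARNull Y) :
    ARSys.IsARNull X := by
  obtain ⟨r, hr⟩ := hY
  refine ⟨r, fun n => ?_⟩
  haveI : Mono (i.app (op n)) := (NatTrans.mono_iff_mono_app i).1 inferInstance (op n)
  change ARSys.tr X (Nat.le_add_right n r) = 0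
  rw [← cancel_mono (i.app (op n)), tr_naturality, zero_comp]
  have : ARSys.tr Y (Nat.le_add_right n r) = 0 := hr n
  rw [this, comp_zero]

lemma isARNull_of_epi {X Y : ARSys.PS C} (p : X ⟶ Y) [Epi p] (hX : ARSys.IsARNull X) :
    ARSys.IsARNull Y := by
  obtain ⟨r, hr⟩ := hX
  refine ⟨r, fun n => ?_⟩
  haveI : Epi (p.app (op (n + r))) := (NatTrans.epi_iff_epi_app p).1 inferInstance (op (n + r))
  change ARSys.tr Y (Nat.le_add_right n r) = 0
  rw [← cancel_epi (p.app (op (n + r))), ← tr_naturality, comp_zero]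
  have : ARSys.tr X (Nat.le_add_right n r) = 0 := hr n
  rw [this, zero_comp]

lemma isARNull_of_isZero {X : ARSys.PS C} (hX : IsZero X) : ARSys.IsARNull X :=
  ⟨0, fun n => (((evaluation _ _).obj (op n)).map_isZero hX).eq_of_tgt _ _⟩

lemma exact_app_refinement (S : ShortComplex (ARSys.PS C)) (hS : S.Exact) (n : ℕ) {W : C}
    (d : W ⟶ S.X₂.obj (op n)) (hd : d ≫ S.g.app (op n) = 0) :
    ∃ (W' : C) (π : W' ⟶ W) (_ : Epi π) (x : W' ⟶ S.X₁.obj (op n)),
      π ≫ d = x ≫ S.f.app (op n) :=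
  (hS.map ((evaluation _ _).obj (op n))).exact_up_to_refinements d hd

lemma isARNull_of_exact (S : ShortComplex (ARSys.PS C)) (hS : S.Exact)
    (h₁ : ARSys.IsARNull S.X₁) (h₃ : ARSys.IsARNull S.X₃) : ARSys.IsARNull S.X₂ := by
  obtain ⟨r₁, hr₁⟩ := h₁
  obtain ⟨r₃, hr₃⟩ := h₃
  refine ⟨r₁ + r₃, fun n => ?_⟩
  change ARSys.tr S.X₂ (Nat.le_add_right n (r₁ + r₃)) = 0
  have hm₁ : n ≤ n + r₁ := Nat.le_add_right _ _
  have hm₂ : n + r₁ ≤ n + (r₁ + r₃) := by omega
  rw [← tr_comp S.X₂ hm₁ hm₂]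
  have hz : ARSys.tr S.X₂ hm₂ ≫ S.g.app (op (n + r₁)) = 0 := by
    rw [tr_naturality]
    have : ARSys.tr S.X₃ hm₂ = 0 :=
      tr_eq_zero_of_isARNull hr₃ (show n + r₁ + r₃ ≤ n + (r₁ + r₃) by omega)
    rw [this, comp_zero]
  obtain ⟨W, π, hπ, y, hy'⟩ := exact_app_refinement S hS (n + r₁) (ARSys.tr S.X₂ hm₂) hz
  rw [← cancel_epi π, comp_zero, ← Category.assoc, hy', Category.assoc, ← tr_naturality]
  have : ARSys.tr S.X₁ hm₁ = 0 := hr₁ n
  rw [this, zero_comp, comp_zero]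

section TwoOfThree

variable {X Y Z : ARSys.PS C} (f : X ⟶ Y) (g : Y ⟶ Z)

open kernelCokernelCompSequence

lemma isARIso_comp (hf : ARSys.IsARIso f) (hg : ARSys.IsARIso g) : ARSys.IsARIso (f ≫ g) :=
  ⟨isARNull_of_exact _ (snakeInput f g).L₀_exact hf.1 hg.1,
    isARNull_of_exact _ (snakeInput f g).L₃_exact hf.2 hg.2⟩

lemma isARIso_of_comp_left (hfg : ARSys.IsARIso (f ≫ g)) (hf : ARSys.IsARIso f) :
    ARSys.IsARIso g := by
  refine ⟨isARNull_of_exact _ (snakeInput f g).L₁'_exact hfg.1 hf.2, ?_⟩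
  haveI : Epi (snakeInput f g).L₂.g := inferInstanceAs (Epi (biprod.snd : Y ⊞ Z ⟶ Z))
  have he : Epi (snakeInput f g).L₃.g := (snakeInput f g).epi_L₃_g
  exact @isARNull_of_epi _ _ _ _ _ (snakeInput f g).L₃.g he hfg.2

lemma isARIso_of_comp_right (hfg : ARSys.IsARIso (f ≫ g)) (hg : ARSys.IsARIso g) :
    ARSys.IsARIso f := by
  refine ⟨?_, isARNull_of_exact _ (snakeInput f g).L₂'_exact hg.1 hfg.2⟩
  haveI : Mono (snakeInput f g).L₁.f := inferInstanceAs (Mono (biprod.inl : X ⟶ X ⊞ Y))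
  have hm : Mono (snakeInput f g).L₀.f := (snakeInput f g).mono_L₀_f
  exact @isARNull_of_mono _ _ _ _ _ (snakeInput f g).L₀.f hm hfg.1

end TwoOfThree


lemma isARIso_sigma (Y : ARSys.PS C) (hY : ARSys.IsStrict Y) (r : ℕ) :
    ARSys.IsARIso (sigma Y r) := by
  constructor
  · refine ⟨r, fun n => ?_⟩
    have hmono : Mono ((kernel.ι (sigma Y r)).app (op n)) :=
      (NatTrans.mono_iff_mono_app _).1 inferInstance (op n)
    change ARSys.tr (kernel (sigma Y r)) (Nat.le_add_right n r) = 0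
    rw [← cancel_mono ((kernel.ι (sigma Y r)).app (op n)), zero_comp, tr_naturality]
    exact congrArg (fun t => NatTrans.app t (op (n + r))) (kernel.condition (sigma Y r))
  · haveI : Epi (sigma Y r) := by
      rw [NatTrans.epi_iff_epi_app]
      intro a
      exact hY _ _ _
    exact isARNull_of_isZero (isZero_cokernel_of_epi _)

open Groth.Agent.Helper3.AdicFac in
theorem exists_arIso_of_arIso_shift {A : Type w} [CommRing A] [Linear A C] (J : Ideal A)
    (X Y : ARSys.PS C) (kX : ARSys.TermKilled J X) (hY : ARSys.IsAdic J Y) (r : ℕ)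
    (v : (ARSys.shift C r).obj Y ⟶ X) (hv : ARSys.IsARIso v) :
    ∃ u : Y ⟶ X, ARSys.IsARIso u := by
  obtain ⟨u, hu, -⟩ := existsUnique_hom J Y X hY kX r v
  refine ⟨u, ?_⟩
  have hstrict : ARSys.IsStrict Y := fun n m h =>
    Groth.Agent.Helper3.AdicSES.IsQuot.epi _ (hY.2 n m h)
  have e : sigma Y r ≫ u = v := by
    ext a
    obtain ⟨n⟩ := a
    exact (hu n).symm
  have h1 : ARSys.IsARIso (sigma Y r ≫ u) := by rw [e]; exact hv
  exact isARIso_of_comp_left (sigma Y r) u h1 (isARIso_sigma Y hstrict r)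

end Groth.Agent.Helper3.ARIso
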