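import Mathlib
import Groth.Prelude.Def_ARSys
import Groth.Agent.Lib.Helper3.ImgSub
import Groth.Agent.Lib.Helper3.ARIso

set_option autoImplicit false
open CategoryTheory CategoryTheory.Limits Opposite

universe w v u

namespace Groth.Agent.Helper3.ARLim

open Groth.Agent.Helper3.ImgSub Groth.Agent.Helper3.ARIso ARSys

section General

variable {C : Type u} [Category.{v} C] [HasLimitsOfShape ℕᵒᵖ C]

omit [HasLimitsOfShape ℕᵒᵖ C] in
lemma map_eq_tr (X : ARSys.PS C) {n m : ℕ} (f : (op m : ℕᵒᵖ) ⟶ op n) (h : n ≤ m) :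
    X.map f = ARSys.tr X h :=
  congrArg X.map (Quiver.Hom.unop_inj (Subsingleton.elim _ _))

lemma limit_π_tr (X : ARSys.PS C) {n m : ℕ} (h : n ≤ m) :
    limit.π X (op m) ≫ ARSys.tr X h = limit.π X (op n) :=
  limit.w X (homOfLE h).op

/-- a quasi-inverse up to shift induces an inverse on limits -/
theorem isIso_limMap_of_quasiInverse {X Y : ARSys.PS C} (u : X ⟶ Y) (r : ℕ)
    (w : ∀ n : ℕ, Y.obj (op (n + r)) ⟶ X.obj (op n))
    (hw : ∀ (n m : ℕ) (h : n ≤ m),
      w m ≫ ARSys.tr X h = ARSys.tr Y (Nat.add_le_add_right h r) ≫ w n)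
    (h1 : ∀ n : ℕ, w n ≫ u.app (op n) = ARSys.tr Y (Nat.le_add_right n r))
    (h2 : ∀ n : ℕ, u.app (op (n + r)) ≫ w n = ARSys.tr X (Nat.le_add_right n r)) :
    IsIso (limMap u) := by
  let c : Cone X :=
    { pt := limit Y
      π :=
        { app := fun j => limit.π Y (op (j.unop + r)) ≫ w j.unop
          naturality := by
            intro a b f
            obtain ⟨m⟩ := a
            obtain ⟨n⟩ := b
            have h : n ≤ m := leOfHom f.unop
            dsimp
            rw [Category.id_comp, map_eq_tr X f h, Category.assoc, hw n m h,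
              ← Category.assoc, limit_π_tr] } }
  refine ⟨limit.lift X c, ?_, ?_⟩
  · refine limit.hom_ext (fun j => ?_)
    obtain ⟨n⟩ := j
    rw [Category.assoc, limit.lift_π, Category.id_comp]
    change limMap u ≫ limit.π Y (op (n + r)) ≫ w n = _
    rw [← Category.assoc, limMap_π, Category.assoc, h2, limit_π_tr]
  · refine limit.hom_ext (fun j => ?_)
    obtain ⟨n⟩ := j
    rw [Category.assoc, limMap_π, ← Category.assoc, limit.lift_π, Category.id_comp]
    change (limit.π Y (op (n + r)) ≫ w n) ≫ u.app (op n) = _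
    rw [Category.assoc, h1, limit_π_tr]

end General

variable {C : Type u} [Category.{v} C] [Abelian C] [HasLimitsOfShape ℕᵒᵖ C]

/-- an epi with AR-null kernel induces an iso on limits -/
theorem isIso_limMap_of_epi {X Y : ARSys.PS C} (p : X ⟶ Y) [Epi p]
    (hK : ARSys.IsARNull (kernel p)) : IsIso (limMap p) := by
  obtain ⟨r, hr⟩ := hK
  have hex : (ShortComplex.mk (kernel.ι p) p (kernel.condition p)).Exact :=
    ShortComplex.exact_kernel p
  have hepi : ∀ n : ℕ, Epi (p.app (op n)) := fun n =>
    (NatTrans.epi_iff_epi_app p).1 inferInstance (op n)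
  have hexn : ∀ n : ℕ, (ShortComplex.mk ((kernel.ι p).app (op n)) (p.app (op n))
      (by rw [← NatTrans.comp_app, kernel.condition]; rfl)).Exact := fun n =>
    hex.map ((evaluation _ _).obj (op n))
  have hz : ∀ n : ℕ, (kernel.ι p).app (op (n + r)) ≫ ARSys.tr X (Nat.le_add_right n r) = 0 := by
    intro n
    rw [← tr_naturality]
    have : ARSys.tr (kernel p) (Nat.le_add_right n r) = 0 := hr n
    rw [this, zero_comp]
  let w : ∀ n : ℕ, Y.obj (op (n + r)) ⟶ X.obj (op n) := fun n =>
    haveI := hepi (n + r)
    (hexn (n + r)).desc (ARSys.tr X (Nat.le_add_right n r)) (hz n)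
  have hw2 : ∀ n : ℕ, p.app (op (n + r)) ≫ w n = ARSys.tr X (Nat.le_add_right n r) := by
    intro n
    haveI := hepi (n + r)
    exact (hexn (n + r)).g_desc _ _
  refine isIso_limMap_of_quasiInverse p r w ?_ ?_ hw2
  · intro n m h
    haveI := hepi (m + r)
    rw [← cancel_epi (p.app (op (m + r))), ← Category.assoc, hw2, ← Category.assoc,
      ← tr_naturality, Category.assoc, hw2, tr_comp, tr_comp]
  · intro n
    haveI := hepi (n + r)
    rw [← cancel_epi (p.app (op (n + r))), ← Category.assoc, hw2, tr_naturality]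

/-- a mono with AR-null cokernel induces an iso on limits -/
theorem isIso_limMap_of_mono {X Y : ARSys.PS C} (i : X ⟶ Y) [Mono i]
    (hQ : ARSys.IsARNull (cokernel i)) : IsIso (limMap i) := by
  obtain ⟨r, hr⟩ := hQ
  have hex : (ShortComplex.mk i (cokernel.π i) (cokernel.condition i)).Exact :=
    ShortComplex.exact_cokernel i
  have hmono : ∀ n : ℕ, Mono (i.app (op n)) := fun n =>
    (NatTrans.mono_iff_mono_app i).1 inferInstance (op n)
  have hexn : ∀ n : ℕ, (ShortComplex.mk (i.app (op n)) ((cokernel.π i).app (op n))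
      (by rw [← NatTrans.comp_app, cokernel.condition]; rfl)).Exact := fun n =>
    hex.map ((evaluation _ _).obj (op n))
  have hz : ∀ n : ℕ, ARSys.tr Y (Nat.le_add_right n r) ≫ (cokernel.π i).app (op n) = 0 := by
    intro n
    rw [tr_naturality]
    have : ARSys.tr (cokernel i) (Nat.le_add_right n r) = 0 := hr n
    rw [this, comp_zero]
  let w : ∀ n : ℕ, Y.obj (op (n + r)) ⟶ X.obj (op n) := fun n =>
    haveI := hmono n
    (hexn n).lift (ARSys.tr Y (Nat.le_add_right n r)) (hz n)
  have hw1 : ∀ n : ℕ, w n ≫ i.app (op n) = ARSys.tr Y (Nat.le_add_right n r) := by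
    intro n
    haveI := hmono n
    exact (hexn n).lift_f _ _
  refine isIso_limMap_of_quasiInverse i r w ?_ hw1 ?_
  · intro n m h
    haveI := hmono n
    rw [← cancel_mono (i.app (op n)), Category.assoc, tr_naturality, ← Category.assoc, hw1,
      Category.assoc, hw1, tr_comp, tr_comp]
  · intro n
    haveI := hmono n
    rw [← cancel_mono (i.app (op n)), Category.assoc, hw1, tr_naturality]

/-- an AR-isomorphism induces an isomorphism on limits -/
theorem isIso_limMap_of_isARIso {X Y : ARSys.PS C} (u : X ⟶ Y) (hu : ARSys.IsARIso u) :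
    IsIso (limMap u) := by
  have hK : ARSys.IsARNull (kernel (factorThruImage u)) := by
    have hc : kernel.ι (factorThruImage u) ≫ u = 0 := by
      have := kernel.condition (factorThruImage u) =≫ image.ι u
      rw [Category.assoc, image.fac, zero_comp] at this
      exact this
    have hm : Mono (kernel.lift u (kernel.ι (factorThruImage u)) hc) :=
      mono_of_mono_fac (kernel.lift_ι u _ hc)
    exact @isARNull_of_mono _ _ _ _ _ _ hm hu.1
  have hQ : ARSys.IsARNull (cokernel (image.ι u)) := by
    have hc : u ≫ cokernel.π (image.ι u) = 0 := by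
      have := factorThruImage u ≫= cokernel.condition (image.ι u)
      rw [← Category.assoc, image.fac, comp_zero] at this
      exact this
    have he : Epi (cokernel.desc u (cokernel.π (image.ι u)) hc) :=
      epi_of_epi_fac (cokernel.π_desc u _ hc)
    exact @isARNull_of_epi _ _ _ _ _ _ he hu.2
  haveI := isIso_limMap_of_epi (factorThruImage u) hK
  haveI := isIso_limMap_of_mono (image.ι u) hQ
  have : limMap u = limMap (factorThruImage u) ≫ limMap (image.ι u) := by
    refine limit.hom_ext (fun j => ?_)
    rw [limMap_π, Category.assoc, limMap_π, ← Category.assoc, limMap_π, Category.assoc,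
      ← NatTrans.comp_app, image.fac]
  rw [this]
  infer_instance

end Groth.Agent.Helper3.ARLim
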