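import Mathlib

/-!
# Artin–Rees step: `J^{e+c} ⊗ P ∩ cycles` maps into boundaries of `J^e ⊗ P'`
-/

open TensorProduct

universe u v

namespace Groth.Agent.Lib.Helper3.ARGhost

variable {A : Type u} [CommRing A]

section mu
variable (I : Ideal A) (P : Type v) [AddCommGroup P] [Module A P]

/-- multiplication map `I ⊗ P → P` -/
noncomputable def mu : (I ⊗[A] P) →ₗ[A] P :=
  TensorProduct.lift ((LinearMap.lsmul A P).comp I.subtype)

@[simp] lemma mu_tmul (a : I) (p : P) : mu I P (a ⊗ₜ[A] p) = (a : A) • p := by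
  simp [mu]

lemma mu_eq : mu I P = (TensorProduct.lid A P).toLinearMap.comp (I.subtype.rTensor P) := by
  apply TensorProduct.ext'
  intro a p
  simp

lemma mu_injective [Module.Flat A P] : Function.Injective (mu I P) := by
  rw [mu_eq]
  exact (TensorProduct.lid A P).injective.comp
    (Module.Flat.rTensor_preserves_injective_linearMap I.subtype Subtype.val_injective)

lemma range_mu : LinearMap.range (mu I P) = I • (⊤ : Submodule A P) := by
  apply le_antisymm
  · rintro _ ⟨x, rfl⟩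
    induction x using TensorProduct.induction_on with
    | zero => simp
    | tmul a p =>
      rw [mu_tmul]
      exact Submodule.smul_mem_smul a.2 Submodule.mem_top
    | add x y hx hy =>
      rw [map_add]
      exact Submodule.add_mem _ hx hy
  · rw [Submodule.smul_le]
    intro r hr p _
    exact ⟨(⟨r, hr⟩ : I) ⊗ₜ[A] p, by simp⟩

end mu

lemma mu_lTensor (I : Ideal A) {P Q : Type v} [AddCommGroup P] [Module A P] [AddCommGroup Q]
    [Module A Q] (f : P →ₗ[A] Q) (x : I ⊗[A] P) :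
    mu I Q (f.lTensor I x) = f (mu I P x) := by
  induction x using TensorProduct.induction_on with
  | zero => simp
  | tmul a p => simp
  | add x y hx hy => simp only [map_add, hx, hy]

lemma mu_rTensor {I₁ I₂ : Ideal A} (h : I₁ ≤ I₂) (P : Type v) [AddCommGroup P] [Module A P]
    (x : I₁ ⊗[A] P) :
    mu I₂ P ((Submodule.inclusion h).rTensor P x) = mu I₁ P x := by
  induction x using TensorProduct.induction_on with
  | zero => simp
  | tmul a p => simp
  | add x y hx hy => simp only [map_add, hx, hy]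

theorem ar_ghost [IsNoetherianRing A] (J : Ideal A) {P' P P'' : Type v}
    [AddCommGroup P'] [Module A P'] [AddCommGroup P] [Module A P] [AddCommGroup P''] [Module A P'']
    [Module.Finite A P] [Module.Flat A P]
    (d' : P' →ₗ[A] P) (d : P →ₗ[A] P'')
    (hJ : ∀ x ∈ J, ∀ z : P, d z = 0 → x • z ∈ LinearMap.range d') :
    ∃ c : ℕ, ∀ (e₁ e₂ : ℕ) (h : J ^ e₁ ≤ J ^ e₂), e₂ + c ≤ e₁ →
      ∀ x : ↥(J ^ e₁) ⊗[A] P, (d.lTensor ↥(J ^ e₁)) x = 0 →
        ∃ w : ↥(J ^ e₂) ⊗[A] P', (d'.lTensor ↥(J ^ e₂)) w = ((Submodule.inclusion h).rTensor P) x := by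
  obtain ⟨k, hk⟩ := Ideal.exists_pow_inf_eq_pow_smul J (LinearMap.ker d)
  refine ⟨k + 1, ?_⟩
  intro e₁ e₂ h he x hx
  have hy1 : mu (J ^ e₁) P x ∈ J ^ e₁ • (⊤ : Submodule A P) := by
    rw [← range_mu]; exact ⟨x, rfl⟩
  have hy2 : mu (J ^ e₁) P x ∈ LinearMap.ker d := by
    rw [LinearMap.mem_ker, ← mu_lTensor, hx, map_zero]
  have hy3 : mu (J ^ e₁) P x ∈ J ^ (e₁ - k) • (J ^ k • (⊤ : Submodule A P) ⊓ LinearMap.ker d) := by
    rw [← hk e₁ (by lia)]
    exact ⟨hy1, hy2⟩
  have hJker : J • LinearMap.ker d ≤ LinearMap.range d' := by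
    rw [Submodule.smul_le]
    intro r hr z hz
    exact hJ r hr z hz
  have hy4 : mu (J ^ e₁) P x ∈ Submodule.map d' (J ^ e₂ • (⊤ : Submodule A P')) := by
    rw [Submodule.map_smul'', Submodule.map_top]
    have h1 : J ^ (e₁ - k) • (J ^ k • (⊤ : Submodule A P) ⊓ LinearMap.ker d) ≤
        J ^ (e₂ + 1) • LinearMap.ker d :=
      Submodule.smul_mono (Ideal.pow_le_pow_right (by lia)) inf_le_right
    have h2 : J ^ (e₂ + 1) • LinearMap.ker d ≤ J ^ e₂ • LinearMap.range d' := by
      rw [pow_succ, Submodule.mul_smul]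
      exact Submodule.smul_mono le_rfl hJker
    exact h2 (h1 hy3)
  obtain ⟨y', hy', hy'eq⟩ := hy4
  rw [← range_mu] at hy'
  obtain ⟨w, rfl⟩ := hy'
  refine ⟨w, ?_⟩
  apply mu_injective (J ^ e₂) P
  rw [mu_lTensor, hy'eq, mu_rTensor]

end Groth.Agent.Lib.Helper3.ARGhost
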