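import Mathlib
import Groth.Agent.Lib.Helper5.TwoTerm.TSOrth

/-!
# Bounded-amplitude ghost lemma in the derived category

A composite of `N` morphisms, each inducing zero on all cohomology objects, from an object
`≤ b` to an object `≥ b + 1 - N`, vanishes.
-/

open CategoryTheory Category Limits Pretriangulated DerivedCategory Triangulated

universe w v u

namespace Groth.Agent.Lib.Helper3.GhostB

variable {C : Type u} [Category.{v} C] [Abelian C] [HasDerivedCategory.{w} C]

/-- a morphism of the derived category which is zero on all cohomology objects -/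
def IsGhost {X Y : DerivedCategory C} (f : X ⟶ Y) : Prop :=
  ∀ q : ℤ, (homologyFunctor C q).map f = 0

/-- composites of `k` ghosts -/
def GhostLen : ℕ → ∀ {X Y : DerivedCategory C}, (X ⟶ Y) → Prop
  | 0, _, _, _ => True
  | (k + 1), X, Y, f => ∃ (Z : DerivedCategory C) (g : X ⟶ Z) (h : Z ⟶ Y),
      g ≫ h = f ∧ GhostLen k g ∧ IsGhost h

theorem ghost_factor {X Y : DerivedCategory C} (n : ℤ) [X.IsLE n] (f : X ⟶ Y)
    (hf : (homologyFunctor C n).map f = 0) :
    ∃ g : X ⟶ ((TStructure.t : TStructure (DerivedCategory C)).truncLT n).obj Y,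
      g ≫ ((TStructure.t : TStructure (DerivedCategory C)).truncLTι n).app Y = f := by
  let t : TStructure (DerivedCategory C) := TStructure.t
  have hT := t.triangleLTGE_distinguished n Y
  have : ((t.truncGE n).obj Y).IsGE n := inferInstanceAs (t.IsGE ((t.truncGE n).obj Y) n)
  have h0 : f ≫ (t.truncGEπ n).app Y = 0 := by
    apply Helper5.TwoTerm.eq_zero_of_homologyMap_eq_zero n
    rw [Functor.map_comp, hf, zero_comp]
  obtain ⟨g, hg⟩ := Triangle.coyoneda_exact₂ _ hT f h0
  exact ⟨g, hg.symm⟩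

theorem ghostLen_lift (k : ℕ) : ∀ {X Y : DerivedCategory C} (f : X ⟶ Y) (b n : ℤ)
    (_ : n = b + 1 - k) (_ : X.IsLE b) (_ : GhostLen k f),
    ∃ g : X ⟶ ((TStructure.t : TStructure (DerivedCategory C)).truncLT n).obj Y,
      g ≫ ((TStructure.t : TStructure (DerivedCategory C)).truncLTι n).app Y = f := by
  induction k with
  | zero =>
    intro X Y f b n hn hX _
    let t : TStructure (DerivedCategory C) := TStructure.t
    haveI : t.IsLE X b := hX
    have hn' : b + 1 = n := by simp at hn; lia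
    exact ⟨t.liftTruncLT f b n hn', t.liftTruncLT_ι f b n hn'⟩
  | succ k ih =>
    intro X Y f b n hn hX hf
    let t : TStructure (DerivedCategory C) := TStructure.t
    obtain ⟨Z, g, h, hgh, hg, hh⟩ := hf
    obtain ⟨g', hg'⟩ := ih g b (n + 1) (by push_cast at hn; lia) hX hg
    have : ((t.truncLT (n + 1)).obj Z).IsLE n :=
      inferInstanceAs (t.IsLE ((t.truncLT (n + 1)).obj Z) n)
    obtain ⟨g'', hg''⟩ := ghost_factor n ((t.truncLTι (n + 1)).app Z ≫ h) (by
      rw [Functor.map_comp, hh n, comp_zero])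
    refine ⟨g' ≫ g'', ?_⟩
    rw [assoc, hg'', ← assoc, hg', hgh]

theorem eq_zero_of_ghostLen {X Y : DerivedCategory C} (f : X ⟶ Y) (b : ℤ) (k : ℕ)
    [X.IsLE b] [Y.IsGE (b + 1 - k)] (hf : GhostLen k f) : f = 0 := by
  let t : TStructure (DerivedCategory C) := TStructure.t
  obtain ⟨g, hg⟩ := ghostLen_lift k f b (b + 1 - k) rfl inferInstance hf
  haveI : t.IsGE Y (b + 1 - k) := ‹Y.IsGE (b + 1 - k)›
  have hz : IsZero ((t.truncLT (b + 1 - k)).obj Y) := t.isZero_truncLT_obj_of_isGE _ Y
  rw [← hg, hz.eq_of_tgt g 0, zero_comp]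

end Groth.Agent.Lib.Helper3.GhostB
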