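import Mathlib
import Groth.Agent.Lib.Helper3.GhostB1
import Groth.Agent.Lib.Helper3.ARGhost1

/-!
# `J^{n+m} ⊗ K → J^m ⊗ K` is zero in the derived category
-/

open CategoryTheory Category Limits MonoidalCategory DerivedCategory TensorProduct

universe w u

namespace Groth.Agent.Lib.Helper3.ARGhost

variable {A : Type u} [CommRing A]

lemma homologyMap_eq_zero_of {X Y : CochainComplex (ModuleCat.{u} A) ℤ} (φ : X ⟶ Y) (q : ℤ)
    (h : ∀ x : X.X q, X.d q (q + 1) x = 0 → ∃ w : Y.X (q - 1), Y.d (q - 1) q w = φ.f q x) :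
    HomologicalComplex.homologyMap φ q = 0 := by
  rw [← cancel_epi (X.homologyπ q), comp_zero, HomologicalComplex.homologyπ_naturality]
  ext z
  obtain ⟨w, hw⟩ := h (X.iCycles q z) (by
    have := congr($(X.iCycles_d q (q + 1)) z)
    rw [ConcreteCategory.comp_apply] at this
    exact this)
  have h1 : HomologicalComplex.cyclesMap φ q z = Y.toCycles (q - 1) q w := by
    apply (ModuleCat.mono_iff_injective (Y.iCycles q)).mp inferInstance
    have e1 := congr($(HomologicalComplex.cyclesMap_i φ q) z)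
    have e2 := congr($(Y.toCycles_i (q - 1) q) w)
    rw [ConcreteCategory.comp_apply] at e1 e2
    rw [ConcreteCategory.comp_apply] at e1
    rw [e1, e2, hw]
  have h2 := congr($(Y.toCycles_comp_homologyπ (q - 1) q) w)
  rw [ConcreteCategory.comp_apply] at h2
  rw [ConcreteCategory.comp_apply, h1, h2]
  rfl

lemma smul_mem_range_of_homology (K : CochainComplex (ModuleCat.{u} A) ℤ) (q : ℤ) (x : A)
    (hx : ∀ c : ↑(K.homology q), x • c = 0) (z : K.X q) (hz : K.d q (q + 1) z = 0) :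
    x • z ∈ LinearMap.range (K.d (q - 1) q).hom := by
  let ζ₀ : ModuleCat.of A A ⟶ K.X q := ModuleCat.ofHom (LinearMap.toSpanSingleton A (K.X q) z)
  have hζ₀ : ζ₀ ≫ K.d q (q + 1) = 0 := by
    ext
    change K.d q (q + 1) ((1 : A) • z) = 0
    rw [one_smul, hz]
  let ζ := K.liftCycles ζ₀ (q + 1) (by simp) hζ₀
  let z' : K.cycles q := ζ (1 : A)
  have hz' : K.iCycles q z' = z := by
    have := congr($(K.liftCycles_i ζ₀ (q + 1) (by simp) hζ₀) (1 : A))
    rw [ConcreteCategory.comp_apply] at this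
    rw [this]
    change (1 : A) • z = z
    rw [one_smul]
  have hex : (ShortComplex.mk (K.toCycles (q - 1) q) (K.homologyπ q)
      (K.toCycles_comp_homologyπ (q - 1) q)).Exact :=
    ShortComplex.exact_of_g_is_cokernel _ (K.homologyIsCokernel (q - 1) q (by simp))
  rw [ShortComplex.moduleCat_exact_iff] at hex
  obtain ⟨w, hw⟩ := hex (x • z') (by
    change K.homologyπ q (x • z') = 0
    rw [map_smul]
    exact hx _)
  refine ⟨w, ?_⟩
  have e2 := congr($(K.toCycles_i (q - 1) q) w)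
  rw [ConcreteCategory.comp_apply] at e2
  change K.d (q - 1) q w = x • z
  rw [← e2]
  change K.iCycles q (K.toCycles (q - 1) q w) = x • z
  rw [hw, map_smul, hz']

/-- the complex `I ⊗ K` -/
noncomputable abbrev tens (I : Ideal A) (K : CochainComplex (ModuleCat.{u} A) ℤ) :
    CochainComplex (ModuleCat.{u} A) ℤ :=
  (((curriedTensor (ModuleCat.{u} A)).obj (ModuleCat.of A I)).mapHomologicalComplex
    (ComplexShape.up ℤ)).obj K

/-- the map `I₁ ⊗ K → I₂ ⊗ K` -/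
noncomputable abbrev inclMap {I₁ I₂ : Ideal A} (h : I₁ ≤ I₂)
    (K : CochainComplex (ModuleCat.{u} A) ℤ) : tens I₁ K ⟶ tens I₂ K :=
  (NatTrans.mapHomologicalComplex
    ((curriedTensor (ModuleCat.{u} A)).map (ModuleCat.ofHom (Submodule.inclusion h)))
    (ComplexShape.up ℤ)).app K

lemma inclMap_comp {I₁ I₂ I₃ : Ideal A} (h₁ : I₁ ≤ I₂) (h₂ : I₂ ≤ I₃)
    (K : CochainComplex (ModuleCat.{u} A) ℤ) :
    inclMap h₁ K ≫ inclMap h₂ K = inclMap (h₁.trans h₂) K := by
  apply HomologicalComplex.hom_ext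
  intro q
  change (ModuleCat.ofHom (Submodule.inclusion h₁) ▷ K.X q) ≫
    (ModuleCat.ofHom (Submodule.inclusion h₂) ▷ K.X q) =
    (ModuleCat.ofHom (Submodule.inclusion (h₁.trans h₂))) ▷ K.X q
  rw [← MonoidalCategory.comp_whiskerRight]
  rfl

lemma isGhost_Q_map [HasDerivedCategory.{w} (ModuleCat.{u} A)]
    {X Y : CochainComplex (ModuleCat.{u} A) ℤ} (φ : X ⟶ Y)
    (h : ∀ q : ℤ, HomologicalComplex.homologyMap φ q = 0) : GhostB.IsGhost (Q.map φ) := by
  intro q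
  have h2 := NatIso.naturality_2 (homologyFunctorFactors (ModuleCat.{u} A) q) φ
  dsimp at h2
  have h3 : (HomologicalComplex.homologyFunctor (ModuleCat.{u} A) (ComplexShape.up ℤ) q).map φ = 0 :=
    h q
  rw [← h2, h3, zero_comp, comp_zero]

lemma isZero_tens_X (I : Ideal A) (K : CochainComplex (ModuleCat.{u} A) ℤ) (q : ℤ)
    (h : IsZero (K.X q)) : IsZero ((tens I K).X q) :=
  Functor.map_isZero ((curriedTensor (ModuleCat.{u} A)).obj (ModuleCat.of A I)) h

lemma isLE_tens [HasDerivedCategory.{w} (ModuleCat.{u} A)] (I : Ideal A)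
    (K : CochainComplex (ModuleCat.{u} A) ℤ) (b : ℤ) (hK : ∀ q : ℤ, b < q → IsZero (K.X q)) :
    (Q.obj (tens I K)).IsLE b := by
  have : (tens I K).IsStrictlyLE b :=
    (CochainComplex.isStrictlyLE_iff _ _).mpr (fun q hq => isZero_tens_X I K q (hK q hq))
  infer_instance

lemma isGE_tens [HasDerivedCategory.{w} (ModuleCat.{u} A)] (I : Ideal A)
    (K : CochainComplex (ModuleCat.{u} A) ℤ) (a : ℤ) (hK : ∀ q : ℤ, q < a → IsZero (K.X q)) :
    (Q.obj (tens I K)).IsGE a := by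
  have : (tens I K).IsStrictlyGE a :=
    (CochainComplex.isStrictlyGE_iff _ _).mpr (fun q hq => isZero_tens_X I K q (hK q hq))
  infer_instance

variable [IsNoetherianRing A]

theorem exists_uniform_c (K : CochainComplex (ModuleCat.{u} A) ℤ) (a b : ℤ)
    (hK : ∀ q : ℤ, q < a ∨ b < q → IsZero (K.X q))
    (hfin : ∀ q : ℤ, Module.Finite A (K.X q)) (hproj : ∀ q : ℤ, Module.Projective A (K.X q))
    (J : Ideal A) (hJ : ∀ q : ℤ, ∀ x ∈ J, ∀ c : ↑(K.homology q), x • c = 0) :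
    ∃ c : ℕ, ∀ (e₁ e₂ : ℕ) (h : J ^ e₁ ≤ J ^ e₂), e₂ + c ≤ e₁ → ∀ q : ℤ,
      HomologicalComplex.homologyMap (inclMap h K) q = 0 := by
  have key : ∀ q : ℤ, ∃ c : ℕ, ∀ (e₁ e₂ : ℕ) (h : J ^ e₁ ≤ J ^ e₂), e₂ + c ≤ e₁ →
      ∀ x : ↥(J ^ e₁) ⊗[A] (K.X q), ((K.d q (q + 1)).hom.lTensor ↥(J ^ e₁)) x = 0 →
        ∃ w : ↥(J ^ e₂) ⊗[A] (K.X (q - 1)),
          ((K.d (q - 1) q).hom.lTensor ↥(J ^ e₂)) w =
            ((Submodule.inclusion h).rTensor (K.X q)) x := by
    intro q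
    haveI := hfin q
    haveI := hproj q
    exact ar_ghost J (K.d (q - 1) q).hom (K.d q (q + 1)).hom
      (fun x hx z hz => smul_mem_range_of_homology K q x (hJ q x hx) z hz)
  choose c hc using key
  refine ⟨(Finset.Icc a b).sup c, ?_⟩
  intro e₁ e₂ h he q
  apply homologyMap_eq_zero_of
  intro x hx
  by_cases hq : q ∈ Finset.Icc a b
  · have hcq : c q ≤ (Finset.Icc a b).sup c := Finset.le_sup hq
    obtain ⟨w, hw⟩ := hc q e₁ e₂ h (by lia) x hx
    exact ⟨w, hw⟩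
  · have hz : IsZero ((tens (J ^ e₂) K).X q) := by
      apply isZero_tens_X
      apply hK
      simp only [Finset.mem_Icc, not_and_or, not_le] at hq
      exact hq
    haveI := ModuleCat.subsingleton_of_isZero hz
    exact ⟨0, Subsingleton.elim _ _⟩

theorem ghostLen_incl [HasDerivedCategory.{w} (ModuleCat.{u} A)]
    (K : CochainComplex (ModuleCat.{u} A) ℤ) (J : Ideal A) (c : ℕ)
    (hc : ∀ (e₁ e₂ : ℕ) (h : J ^ e₁ ≤ J ^ e₂), e₂ + c ≤ e₁ → ∀ q : ℤ,
      HomologicalComplex.homologyMap (inclMap h K) q = 0) :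
    ∀ (k : ℕ) (e₁ e₂ : ℕ) (h : J ^ e₁ ≤ J ^ e₂), e₂ + k * c ≤ e₁ →
      GhostB.GhostLen k (Q.map (inclMap h K)) := by
  intro k
  induction k with
  | zero => intro _ _ _ _; trivial
  | succ k ih =>
    intro e₁ e₂ h he
    have he' : e₂ + c + k * c ≤ e₁ := by
      have : (k + 1) * c = k * c + c := by ring
      lia
    have h₁ : J ^ e₁ ≤ J ^ (e₂ + c) := Ideal.pow_le_pow_right (by lia)
    have h₂ : J ^ (e₂ + c) ≤ J ^ e₂ := Ideal.pow_le_pow_right (by lia)
    refine ⟨Q.obj (tens (J ^ (e₂ + c)) K), Q.map (inclMap h₁ K), Q.map (inclMap h₂ K), ?_,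
      ih e₁ (e₂ + c) h₁ he', isGhost_Q_map _ (hc (e₂ + c) e₂ h₂ le_rfl)⟩
    rw [← Functor.map_comp, inclMap_comp]

theorem main [HasDerivedCategory.{w} (ModuleCat.{u} A)]
    (K : CochainComplex (ModuleCat.{u} A) ℤ) (a b : ℤ)
    (hK : ∀ q : ℤ, q < a ∨ b < q → IsZero (K.X q))
    (hfin : ∀ q : ℤ, Module.Finite A (K.X q)) (hproj : ∀ q : ℤ, Module.Projective A (K.X q))
    (J : Ideal A) (hJ : ∀ q : ℤ, ∀ x ∈ J, ∀ c : ↑(K.homology q), x • c = 0) :
    ∃ n : ℕ, ∀ m : ℕ, 0 < m →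
      Q.map (inclMap (Ideal.pow_le_pow_right (I := J) (Nat.le_add_left m n)) K) = 0 := by
  obtain ⟨c, hc⟩ := exists_uniform_c K a b hK hfin hproj J hJ
  refine ⟨(b - a + 1).toNat * c, ?_⟩
  intro m _
  haveI : (Q.obj (tens (J ^ ((b - a + 1).toNat * c + m)) K)).IsLE b :=
    isLE_tens _ K b (fun q hq => hK q (Or.inr hq))
  haveI : (Q.obj (tens (J ^ m) K)).IsGE (b + 1 - ((b - a + 1).toNat : ℕ)) :=
    isGE_tens _ K _ (fun q hq => hK q (Or.inl (by
      have := Int.self_le_toNat (b - a + 1)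
      lia)))
  exact GhostB.eq_zero_of_ghostLen _ b (b - a + 1).toNat
    (ghostLen_incl K J c hc _ _ _ _ (by lia))

end Groth.Agent.Lib.Helper3.ARGhost
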