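import Mathlib

set_option autoImplicit false
universe u
open CategoryTheory CategoryTheory.Limits HomologicalComplex

namespace Groth.Agent.Helper3.AbHomol

variable {ι : Type*} {c : ComplexShape ι} {K L : HomologicalComplex AddCommGrpCat.{u} c}

/-- the free abelian group on a type, as an object -/
abbrev Fr (S : Type u) : AddCommGrpCat.{u} := AddCommGrpCat.of (FreeAbelianGroup S)

/-- lift of a set map out of a free group -/
def lift {S : Type u} {G : AddCommGrpCat.{u}} (s : S → G) : Fr S ⟶ G :=
  AddCommGrpCat.ofHom (FreeAbelianGroup.lift s)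

lemma lift_apply {S : Type u} {G : AddCommGrpCat.{u}} (s : S → G) (a : S) :
    (lift s) (FreeAbelianGroup.of a) = s a := by
  change FreeAbelianGroup.lift s (FreeAbelianGroup.of a) = s a
  rw [FreeAbelianGroup.lift_apply_of]

lemma fr_hom_ext {S : Type u} {G : AddCommGrpCat.{u}} (p q : Fr S ⟶ G)
    (h : ∀ a : S, p (FreeAbelianGroup.of a) = q (FreeAbelianGroup.of a)) : p = q := by
  apply AddCommGrpCat.hom_ext
  apply FreeAbelianGroup.lift_ext
  intro a
  exact h a

lemma comp_apply' {A B D : AddCommGrpCat.{u}} (f : A ⟶ B) (g : B ⟶ D) (a : A) :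
    (f ≫ g) a = g (f a) := rfl

/-- the morphism from the test object classifying an element -/
def el {G : AddCommGrpCat.{u}} (x : G) : Fr PUnit.{u + 1} ⟶ G := lift (fun _ => x)

lemma el_apply {G : AddCommGrpCat.{u}} (x : G) :
    (el x) (FreeAbelianGroup.of PUnit.unit) = x := lift_apply _ _

/-- free cover of an abelian group by the free group on its elements -/
def cov (A : AddCommGrpCat.{u}) : Fr A ⟶ A := lift id

lemma cov_apply (A : AddCommGrpCat.{u}) (a : A) : (cov A) (FreeAbelianGroup.of a) = a :=
  lift_apply _ _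

instance (A : AddCommGrpCat.{u}) : Epi (cov A) := by
  rw [AddCommGrpCat.epi_iff_surjective]
  intro a
  exact ⟨FreeAbelianGroup.of a, cov_apply A a⟩

variable (φ : K ⟶ L)

lemma mono_homologyMap_iff' (j : ι) : Mono (homologyMap φ j) ↔
    ∀ x : K.X j, K.d j (c.next j) x = 0 → ∀ y : L.X (c.prev j),
      φ.f j x = L.d (c.prev j) j y → ∃ z : K.X (c.prev j), x = K.d (c.prev j) j z := by
  rw [mono_homologyMap_iff_up_to_refinements φ (c.prev j) j (c.next j) rfl rfl]
  constructor
  · intro h x hx y hy
    obtain ⟨A', π, hπ, x₁, hx₁⟩ := h (el x) (by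
      apply fr_hom_ext
      intro a
      rw [comp_apply', el_apply, hx]
      rfl) (el y) (by
      apply fr_hom_ext
      intro a
      rw [comp_apply', comp_apply', el_apply, el_apply, hy])
    obtain ⟨a', ha'⟩ := (AddCommGrpCat.epi_iff_surjective π).1 hπ (FreeAbelianGroup.of PUnit.unit)
    refine ⟨x₁ a', ?_⟩
    have := congrArg (fun m => m a') hx₁
    simp only [comp_apply'] at this
    rw [ha', el_apply] at this
    exact this
  · intro h A x₂ hx₂ y₁ fac
    have hz : ∀ a : A, ∃ z : K.X (c.prev j), x₂ a = K.d (c.prev j) j z := by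
      intro a
      refine h (x₂ a) ?_ (y₁ a) ?_
      · have := congrArg (fun m => m a) hx₂
        exact this
      · have := congrArg (fun m => m a) fac
        simpa only [comp_apply'] using this
    choose z hz using hz
    refine ⟨Fr A, cov A, inferInstance, lift z, ?_⟩
    apply fr_hom_ext
    intro a
    rw [comp_apply', comp_apply', cov_apply, lift_apply, hz]

lemma epi_homologyMap_iff' (j : ι) : Epi (homologyMap φ j) ↔
    ∀ y : L.X j, L.d j (c.next j) y = 0 → ∃ x : K.X j, K.d j (c.next j) x = 0 ∧
      ∃ w : L.X (c.prev j), y = φ.f j x + L.d (c.prev j) j w := by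
  rw [epi_homologyMap_iff_up_to_refinements φ (c.prev j) j (c.next j) rfl rfl]
  constructor
  · intro h y hy
    obtain ⟨A', π, hπ, x₂, hx₂, y₁, fac⟩ := h (el y) (by
      apply fr_hom_ext
      intro a
      rw [comp_apply', el_apply, hy]
      rfl)
    obtain ⟨a', ha'⟩ := (AddCommGrpCat.epi_iff_surjective π).1 hπ (FreeAbelianGroup.of PUnit.unit)
    refine ⟨x₂ a', ?_, y₁ a', ?_⟩
    · have := congrArg (fun m => m a') hx₂
      exact this
    · have := congrArg (fun m => m a') fac
      simp only [comp_apply'] at this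
      rw [ha', el_apply] at this
      exact this
  · intro h A y₂ hy₂
    have hz : ∀ a : A, ∃ x : K.X j, K.d j (c.next j) x = 0 ∧
        ∃ w : L.X (c.prev j), y₂ a = φ.f j x + L.d (c.prev j) j w := by
      intro a
      refine h (y₂ a) ?_
      have := congrArg (fun m => m a) hy₂
      exact this
    choose x hx w hw using hz
    refine ⟨Fr A, cov A, inferInstance, lift x, ?_, lift w, ?_⟩
    · apply fr_hom_ext
      intro a
      rw [comp_apply', lift_apply, hx]
      rfl
    · apply fr_hom_ext
      intro a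
      rw [comp_apply', cov_apply, hw]
      change _ = (lift x ≫ φ.f j) (FreeAbelianGroup.of a) + (lift w ≫ L.d (c.prev j) j) (FreeAbelianGroup.of a)
      rw [comp_apply', comp_apply', lift_apply, lift_apply]

lemma mono_homologyMap_iff (i j k : ι) (hi : c.prev j = i) (hk : c.next j = k) :
    Mono (homologyMap φ j) ↔
    ∀ x : K.X j, K.d j k x = 0 → ∀ y : L.X i,
      φ.f j x = L.d i j y → ∃ z : K.X i, x = K.d i j z := by
  subst hi hk
  exact mono_homologyMap_iff' φ j

lemma epi_homologyMap_iff (i j k : ι) (hi : c.prev j = i) (hk : c.next j = k) :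
    Epi (homologyMap φ j) ↔
    ∀ y : L.X j, L.d j k y = 0 → ∃ x : K.X j, K.d j k x = 0 ∧
      ∃ w : L.X i, y = φ.f j x + L.d i j w := by
  subst hi hk
  exact epi_homologyMap_iff' φ j

lemma isIso_homologyMap_of (i j k : ι) (hi : c.prev j = i) (hk : c.next j = k)
    (h1 : ∀ x : K.X j, K.d j k x = 0 → ∀ y : L.X i,
      φ.f j x = L.d i j y → ∃ z : K.X i, x = K.d i j z)
    (h2 : ∀ y : L.X j, L.d j k y = 0 → ∃ x : K.X j, K.d j k x = 0 ∧
      ∃ w : L.X i, y = φ.f j x + L.d i j w) :
    IsIso (homologyMap φ j) := by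
  have := (mono_homologyMap_iff φ i j k hi hk).2 h1
  have := (epi_homologyMap_iff φ i j k hi hk).2 h2
  exact isIso_of_mono_of_epi _

/-- homotopic maps agree on cycles up to a boundary -/
lemma homotopy_apply {a b : K ⟶ L} (h : Homotopy a b) (i j k : ι) (hi : c.prev j = i)
    (hk : c.next j = k) (x : K.X j) (hx : K.d j k x = 0) :
    ∃ v : L.X i, a.f j x = b.f j x + L.d i j v := by
  subst hi hk
  refine ⟨h.hom j (c.prev j) x, ?_⟩
  have := congrArg (fun m => m x) (h.comm j)
  change a.f j x = (h.hom (c.next j) j) (K.d j (c.next j) x) +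
    L.d (c.prev j) j (h.hom j (c.prev j) x) + b.f j x at this
  rw [this, hx, map_zero, zero_add, add_comm]

/-- chain maps commute with differentials, elementwise -/
lemma comm_apply (i j : ι) (x : K.X i) : φ.f j (K.d i j x) = L.d i j (φ.f i x) := by
  have := congrArg (fun m => m x) (φ.comm i j)
  exact this.symm

lemma d_d_apply (i j k : ι) (x : K.X i) : K.d j k (K.d i j x) = 0 := by
  have := congrArg (fun m => m x) (K.d_comp_d i j k)
  exact this

end Groth.Agent.Helper3.AbHomol
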