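import Mathlib

set_option autoImplicit false
universe v u
open CategoryTheory CategoryTheory.Limits

namespace Groth.Agent.Helper3.Fil

section AbsQis

variable {C : Type u} [Category.{v} C] [Abelian C]
  {Kc Ic : CochainComplex C ℤ} (ψ : Kc ⟶ Ic)
  (Bn : ℤ → C) (jn : ∀ n, Kc.X n ⟶ Bn n) (en : ∀ n, Bn n ⟶ Ic.X n)
  (βn : ∀ n, Bn n ⟶ Kc.X (n + 1)) (δn : ∀ n, Ic.X n ⟶ Bn (n + 1))
  (hψ : ∀ n, ψ.f n = jn n ≫ en n)
  (hd : ∀ n, Ic.d n (n + 1) = δn n ≫ en (n + 1))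
  (hjβ : ∀ n, jn n ≫ βn n = Kc.d n (n + 1))
  (hδβ : ∀ n, δn n ≫ βn (n + 1) = 0)
  (hmono : ∀ n, Mono (en n))
  (hX : ∀ (n : ℤ) (T : C) (y : T ⟶ Ic.X n) (k : T ⟶ Kc.X (n + 1)),
    y ≫ δn n + k ≫ jn (n + 1) = 0 →
    ∃ (T' : C) (π : T' ⟶ T) (_ : Epi π) (b : T' ⟶ Bn n),
      π ≫ y = b ≫ en n ∧ π ≫ k = -(b ≫ βn n))
  (hE : ∀ (n : ℤ) (T : C) (w : T ⟶ Bn (n + 1)),
    ∃ (T' : C) (π : T' ⟶ T) (_ : Epi π) (y : T' ⟶ Ic.X n) (k : T' ⟶ Kc.X (n + 1)),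
      π ≫ w = y ≫ δn n + k ≫ jn (n + 1))

include hψ hd hjβ hδβ hmono hX hE

lemma absQis_mono (l : ℤ) : Mono (HomologicalComplex.homologyMap ψ (l + 1 + 1)) := by
  rw [HomologicalComplex.mono_homologyMap_iff_up_to_refinements ψ (l + 1) (l + 1 + 1)
    (l + 1 + 1 + 1) (by simp) (by simp)]
  intro T x₂ hx₂ y₁ h
  have := hmono (l + 1 + 1)
  have h1 : y₁ ≫ δn (l + 1) + (-x₂) ≫ jn (l + 1 + 1) = 0 := by
    rw [← cancel_mono (en (l + 1 + 1)), Preadditive.add_comp, Category.assoc, Category.assoc,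
      ← hd, ← hψ, Preadditive.neg_comp, h, zero_comp]
    exact add_neg_cancel _
  obtain ⟨T₁, π₁, hπ₁, b, hb₁, hb₂⟩ := hX (l + 1) T y₁ (-x₂) h1
  obtain ⟨T₂, π₂, hπ₂, y', k, hk⟩ := hE l T₁ b
  refine ⟨T₂, π₂ ≫ π₁, epi_comp _ _, k, ?_⟩
  rw [Preadditive.comp_neg, neg_inj] at hb₂
  rw [Category.assoc, hb₂, ← Category.assoc, hk, Preadditive.add_comp, Category.assoc,
    Category.assoc, hδβ, comp_zero, zero_add, hjβ]

lemma absQis_epi (l : ℤ) : Epi (HomologicalComplex.homologyMap ψ (l + 1 + 1)) := by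
  rw [HomologicalComplex.epi_homologyMap_iff_up_to_refinements ψ (l + 1) (l + 1 + 1)
    (l + 1 + 1 + 1) (by simp) (by simp)]
  intro T y₂ hy₂
  have := hmono (l + 1 + 1 + 1)
  have h1 : y₂ ≫ δn (l + 1 + 1) + (0 : T ⟶ Kc.X (l + 1 + 1 + 1)) ≫ jn (l + 1 + 1 + 1) = 0 := by
    rw [zero_comp, add_zero, ← cancel_mono (en (l + 1 + 1 + 1)), Category.assoc, ← hd, hy₂,
      zero_comp]
  obtain ⟨T₁, π₁, hπ₁, b, hb₁, hb₂⟩ := hX (l + 1 + 1) T y₂ 0 h1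
  obtain ⟨T₂, π₂, hπ₂, y', k, hk⟩ := hE (l + 1) T₁ b
  have hbβ : b ≫ βn (l + 1 + 1) = 0 := by
    rw [comp_zero] at hb₂
    exact neg_eq_zero.1 hb₂.symm
  have hkd : k ≫ Kc.d (l + 1 + 1) (l + 1 + 1 + 1) = 0 := by
    have h2 := congrArg (fun m => m ≫ βn (l + 1 + 1)) hk
    simp only [Category.assoc, Preadditive.add_comp] at h2
    rw [hbβ, comp_zero, hδβ, comp_zero, zero_add, hjβ] at h2
    exact h2.symm
  refine ⟨T₂, π₂ ≫ π₁, epi_comp _ _, k, hkd, y', ?_⟩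
  rw [Category.assoc, hb₁, ← Category.assoc, hk, Preadditive.add_comp, Category.assoc,
    Category.assoc, ← hd, ← hψ]
  exact add_comm _ _

lemma absQis : QuasiIso ψ := by
  rw [quasiIso_iff]
  intro n
  obtain ⟨l, rfl⟩ : ∃ l, n = l + 1 + 1 := ⟨n - 2, by omega⟩
  rw [quasiIsoAt_iff_isIso_homologyMap]
  have h1 := absQis_mono ψ Bn jn en βn δn hψ hd hjβ hδβ hmono hX hE l
  have h2 := absQis_epi ψ Bn jn en βn δn hψ hd hjβ hδβ hmono hX hE l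
  exact isIso_of_mono_of_epi _

end AbsQis

end Groth.Agent.Helper3.Fil
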