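import Mathlib

set_option autoImplicit false
universe v u
open CategoryTheory CategoryTheory.Limits

namespace Groth.Agent.Helper3.Fil

section AbsTruncLE

variable {C : Type u} [Category.{v} C] [Abelian C]
  {Mc Kc : CochainComplex C ℤ} (ψ : Mc ⟶ Kc) (b : ℤ)
  (hM : ∀ n, Mono (ψ.f n))
  (hL1 : ∀ n, n < b → Epi (ψ.f n))
  (hL2 : ∀ (T : C) (y : T ⟶ Kc.X b), y ≫ Kc.d b (b + 1) = 0 →
    ∃ (T' : C) (π : T' ⟶ T) (_ : Epi π) (x : T' ⟶ Mc.X b), π ≫ y = x ≫ ψ.f b)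
  (hZ : ∀ n, b < n → IsZero (Mc.X n))
  (hH : ∀ n, b < n → Kc.ExactAt n)

include hM hL1 hL2 hZ hH

lemma absTruncLE_mono (n : ℤ) : Mono (HomologicalComplex.homologyMap ψ n) := by
  rw [HomologicalComplex.mono_homologyMap_iff_up_to_refinements ψ (n - 1) n (n + 1) (by simp)
    (by simp)]
  intro T x₂ hx₂ y₁ h
  by_cases hn : n ≤ b
  · have := hL1 (n - 1) (by omega)
    obtain ⟨T₁, π₁, hπ₁, x₁, hx₁⟩ := surjective_up_to_refinements_of_epi (ψ.f (n - 1)) y₁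
    refine ⟨T₁, π₁, hπ₁, x₁, ?_⟩
    have := hM n
    rw [← cancel_mono (ψ.f n), Category.assoc, Category.assoc, ← ψ.comm, ← Category.assoc x₁,
      ← hx₁, Category.assoc, h]
  · refine ⟨T, 𝟙 T, inferInstance, 0, ?_⟩
    exact (hZ n (by omega)).eq_of_tgt _ _

lemma absTruncLE_epi (n : ℤ) : Epi (HomologicalComplex.homologyMap ψ n) := by
  rw [HomologicalComplex.epi_homologyMap_iff_up_to_refinements ψ (n - 1) n (n + 1) (by simp)
    (by simp)]
  intro T y₂ hy₂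
  by_cases hn : n ≤ b
  · have key : ∃ (T' : C) (π : T' ⟶ T) (_ : Epi π) (x : T' ⟶ Mc.X n), π ≫ y₂ = x ≫ ψ.f n := by
      by_cases hn' : n < b
      · have := hL1 n hn'
        exact surjective_up_to_refinements_of_epi (ψ.f n) y₂
      · obtain rfl : n = b := by omega
        exact hL2 T y₂ hy₂
    obtain ⟨T₁, π₁, hπ₁, x, hx⟩ := key
    refine ⟨T₁, π₁, hπ₁, x, ?_, 0, ?_⟩
    · have := hM (n + 1)
      rw [← cancel_mono (ψ.f (n + 1)), Category.assoc, ← ψ.comm, ← Category.assoc, ← hx,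
        Category.assoc, hy₂, comp_zero, zero_comp]
    · rw [zero_comp, add_zero, hx]
  · have hex := hH n (by omega)
    rw [HomologicalComplex.exactAt_iff_exact_up_to_refinements Kc (n - 1) n (n + 1) (by simp)
      (by simp)] at hex
    obtain ⟨T₁, π₁, hπ₁, y₁, hy₁⟩ := hex y₂ hy₂
    refine ⟨T₁, π₁, hπ₁, 0, zero_comp, y₁, ?_⟩
    rw [zero_comp, zero_add, hy₁]

lemma absTruncLE : QuasiIso ψ := by
  rw [quasiIso_iff]
  intro n
  rw [quasiIsoAt_iff_isIso_homologyMap]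
  have h1 := absTruncLE_mono ψ b hM hL1 hL2 hZ hH n
  have h2 := absTruncLE_epi ψ b hM hL1 hL2 hZ hH n
  exact isIso_of_mono_of_epi _

end AbsTruncLE

section AbsTruncGE

variable {C : Type u} [Category.{v} C] [Abelian C]
  {Kc Lc : CochainComplex C ℤ} (ψ : Kc ⟶ Lc) (a : ℤ)
  (hE : ∀ n, Epi (ψ.f n))
  (hA : ∀ n, a < n → Mono (ψ.f n))
  (hB : ∀ (T : C) (z : T ⟶ Kc.X a), z ≫ ψ.f a = 0 →
    ∃ (T' : C) (π : T' ⟶ T) (_ : Epi π) (w : T' ⟶ Kc.X (a - 1)), π ≫ z = w ≫ Kc.d (a - 1) a)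
  (hZ : ∀ n, n < a → IsZero (Lc.X n))
  (hH : ∀ n, n < a → Kc.ExactAt n)

include hE hA hB hZ hH

lemma absTruncGE_mono (n : ℤ) : Mono (HomologicalComplex.homologyMap ψ n) := by
  rw [HomologicalComplex.mono_homologyMap_iff_up_to_refinements ψ (n - 1) n (n + 1) (by simp)
    (by simp)]
  intro T x₂ hx₂ y₁ h
  by_cases hn : a ≤ n
  · have := hE (n - 1)
    obtain ⟨T₁, π₁, hπ₁, y', hy'⟩ := surjective_up_to_refinements_of_epi (ψ.f (n - 1)) y₁
    have h0 : (π₁ ≫ x₂ - y' ≫ Kc.d (n - 1) n) ≫ ψ.f n = 0 := by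
      rw [Preadditive.sub_comp, Category.assoc, Category.assoc, ← ψ.comm, ← Category.assoc y',
        ← hy', Category.assoc, h, sub_self]
    by_cases hn' : a < n
    · have := hA n hn'
      refine ⟨T₁, π₁, hπ₁, y', ?_⟩
      rw [← sub_eq_zero, ← cancel_mono (ψ.f n), h0, zero_comp]
    · obtain rfl : n = a := by omega
      obtain ⟨T₂, π₂, hπ₂, w, hw⟩ := hB T₁ _ h0
      refine ⟨T₂, π₂ ≫ π₁, epi_comp _ _, π₂ ≫ y' + w, ?_⟩
      rw [Preadditive.add_comp, ← hw, Preadditive.comp_sub, Category.assoc, Category.assoc]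
      abel
  · have hex := hH n (by omega)
    rw [HomologicalComplex.exactAt_iff_exact_up_to_refinements Kc (n - 1) n (n + 1) (by simp)
      (by simp)] at hex
    exact hex x₂ hx₂

lemma absTruncGE_epi (n : ℤ) : Epi (HomologicalComplex.homologyMap ψ n) := by
  rw [HomologicalComplex.epi_homologyMap_iff_up_to_refinements ψ (n - 1) n (n + 1) (by simp)
    (by simp)]
  intro T y₂ hy₂
  by_cases hn : a ≤ n
  · have := hE n
    obtain ⟨T₁, π₁, hπ₁, x, hx⟩ := surjective_up_to_refinements_of_epi (ψ.f n) y₂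
    refine ⟨T₁, π₁, hπ₁, x, ?_, 0, ?_⟩
    · have := hA (n + 1) (by omega)
      rw [← cancel_mono (ψ.f (n + 1)), Category.assoc, ← ψ.comm, ← Category.assoc, ← hx,
        Category.assoc, hy₂, comp_zero, zero_comp]
    · rw [zero_comp, add_zero, hx]
  · refine ⟨T, 𝟙 T, inferInstance, 0, zero_comp, 0, ?_⟩
    exact (hZ n (by omega)).eq_of_tgt _ _

lemma absTruncGE : QuasiIso ψ := by
  rw [quasiIso_iff]
  intro n
  rw [quasiIsoAt_iff_isIso_homologyMap]
  have h1 := absTruncGE_mono ψ a hE hA hB hZ hH n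
  have h2 := absTruncGE_epi ψ a hE hA hB hZ hH n
  exact isIso_of_mono_of_epi _

end AbsTruncGE

end Groth.Agent.Helper3.Fil
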