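import Mathlib
import Groth.Agent.Lib.Helper3.KInjDer
import Groth.Agent.Lib.Helper3.RDTwo
import Groth.Agent.Lib.Helper3.Splice
import Groth.Agent.Lib.Helper3.KInjD

/-!
# The unit of a right derived functor on complexes with acyclic terms
-/

set_option autoImplicit false
universe w w' v v' u u'

open CategoryTheory Limits DerivedCategory

namespace Groth.Agent.Helper3.AcycUnit

section Transfer

variable {A : Type u} [Category.{v} A] [Abelian A] [HasDerivedCategory.{w} A]
  {B : Type u'} [Category.{v'} B] [Abelian B] [HasDerivedCategory.{w'} B]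
  (F : A ⥤ B) [F.Additive]
  {RF : DerivedCategory A ⥤ DerivedCategory B}
  (α : F.mapHomotopyCategory (ComplexShape.up ℤ) ⋙ Qh ⟶ Qh ⋙ RF)

/-- the unit at a complex -/
abbrev unitAt (K : CochainComplex A ℤ) := α.app ((HomotopyCategory.quotient A (ComplexShape.up ℤ)).obj K)

lemma unit_naturality {K L : CochainComplex A ℤ} (f : K ⟶ L) :
    unitAt F α K ≫ RF.map (Qh.map ((HomotopyCategory.quotient A _).map f)) =
      Qh.map ((HomotopyCategory.quotient B _).map ((F.mapHomologicalComplex _).map f)) ≫
        unitAt F α L :=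
  (α.naturality ((HomotopyCategory.quotient A _).map f)).symm

omit [HasDerivedCategory.{w'} B] in
lemma isIso_Qh_quotient_map_iff {K L : CochainComplex A ℤ} (f : K ⟶ L) :
    IsIso (Qh.map ((HomotopyCategory.quotient A (ComplexShape.up ℤ)).map f)) ↔ QuasiIso f := by
  rw [DerivedCategory.isIso_Qh_map_iff, HomotopyCategory.quotient_map_mem_quasiIso_iff,
    HomologicalComplex.mem_quasiIso_iff]

/-- transfer of the isomorphism property of the unit along a quasi-isomorphism -/
lemma isIso_unit_of_quasiIso {K L : CochainComplex A ℤ} (f : K ⟶ L) [QuasiIso f]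
    (hF : QuasiIso ((F.mapHomologicalComplex (ComplexShape.up ℤ)).map f)) :
    IsIso (unitAt F α K) ↔ IsIso (unitAt F α L) := by
  have h1 : IsIso (Qh.map ((HomotopyCategory.quotient A (ComplexShape.up ℤ)).map f)) :=
    (isIso_Qh_quotient_map_iff f).2 inferInstance
  have h2 : IsIso (Qh.map ((HomotopyCategory.quotient B (ComplexShape.up ℤ)).map
      ((F.mapHomologicalComplex _).map f))) := (isIso_Qh_quotient_map_iff _).2 hF
  have h3 := unit_naturality F α f
  constructor
  · intro h
    have : IsIso (Qh.map ((HomotopyCategory.quotient B (ComplexShape.up ℤ)).map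
        ((F.mapHomologicalComplex _).map f)) ≫ unitAt F α L) := by
      rw [← h3]
      have := Functor.map_isIso RF (Qh.map ((HomotopyCategory.quotient A (ComplexShape.up ℤ)).map f))
      exact IsIso.comp_isIso' h this
    exact IsIso.of_isIso_comp_left (Qh.map ((HomotopyCategory.quotient B (ComplexShape.up ℤ)).map
        ((F.mapHomologicalComplex _).map f))) _
  · intro h
    have : IsIso (unitAt F α K ≫ RF.map (Qh.map ((HomotopyCategory.quotient A _).map f))) := by
      rw [h3]
      exact IsIso.comp_isIso' h2 h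
    exact IsIso.of_isIso_comp_right _ (RF.map (Qh.map ((HomotopyCategory.quotient A _).map f)))

/-- if the unit is an isomorphism at both ends of a quasi-isomorphism `f`, then `F f` is a
quasi-isomorphism -/
lemma quasiIso_map_of_isIso_unit {K L : CochainComplex A ℤ} (f : K ⟶ L) [QuasiIso f]
    (hK : IsIso (unitAt F α K)) (hL : IsIso (unitAt F α L)) :
    QuasiIso ((F.mapHomologicalComplex (ComplexShape.up ℤ)).map f) := by
  have h1 : IsIso (Qh.map ((HomotopyCategory.quotient A (ComplexShape.up ℤ)).map f)) :=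
    (isIso_Qh_quotient_map_iff f).2 inferInstance
  have h3 := unit_naturality F α f
  rw [← isIso_Qh_quotient_map_iff]
  have : IsIso (Qh.map ((HomotopyCategory.quotient B (ComplexShape.up ℤ)).map
      ((F.mapHomologicalComplex _).map f)) ≫ unitAt F α L) := by
    rw [← h3]
    have := Functor.map_isIso RF (Qh.map ((HomotopyCategory.quotient A (ComplexShape.up ℤ)).map f))
    exact IsIso.comp_isIso' hK this
  exact @IsIso.of_isIso_comp_right _ _ _ _ _ _ (unitAt F α L) hL this

end Transfer

section Grothendieck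

variable {A : Type u} [Category.{v} A] [Abelian A] [IsGrothendieckAbelian.{v} A]
  [HasDerivedCategory.{w} A]
  {B : Type u'} [Category.{v'} B] [Abelian B] [HasDerivedCategory.{w'} B]
  (F : A ⥤ B) [F.Additive]
  {RF : DerivedCategory A ⥤ DerivedCategory B}
  (α : F.mapHomotopyCategory (ComplexShape.up ℤ) ⋙ Qh ⟶ Qh ⋙ RF)
  [RF.IsRightDerivedFunctor α (HomotopyCategory.quasiIso A (ComplexShape.up ℤ))]

lemma isIso_unit_of_isKInjective (I : CochainComplex A ℤ) [I.IsKInjective] :
    IsIso (unitAt F α I) :=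
  KInjDer.isIso_unit_app (F.mapHomotopyCategory (ComplexShape.up ℤ) ⋙ Qh) α I

/-- Leray's acyclicity lemma for the unit of the unbounded derived functor: bounded below
complexes with acyclic terms. -/
theorem isIso_unit_of_isStrictlyGE [PreservesFiniteLimits F] (K : CochainComplex A ℤ) (a : ℤ)
    [K.IsStrictlyGE a]
    (hK : ∀ (m : ℤ) (i : ℕ), 0 < i → IsZero ((F.rightDerived i).obj (K.X m))) :
    IsIso (unitAt F α K) := by
  have ha' : K.IsStrictlyGE (a - 1) := K.isStrictlyGE_of_ge (a - 1) a (by omega)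
  obtain ⟨L, i, hi_mono, hi_qis, hL_inj, hL_ge⟩ :=
    CochainComplex.Plus.modelCategoryQuillen.exists_mono_quasiIso_injective K (a - 1) a
  have hLK : L.IsKInjective := CochainComplex.isKInjective_of_injective L (a - 1)
  have h1 : IsIso (unitAt F α L) := isIso_unit_of_isKInjective F α L
  have hP : Splice.Adapted F
      (fun X => ∀ i : ℕ, 0 < i → IsZero ((F.rightDerived i).obj X)) :=
    { zero := by
        intro Z hZ i hi
        have := hZ.injective
        obtain ⟨m, rfl⟩ : ∃ m, i = m + 1 := ⟨i - 1, by omega⟩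
        exact F.isZero_rightDerived_obj_injective_succ m Z
      two := fun S hS h₁ h₂ => RDTwo.two_of_three F S hS h₁ h₂ }
  have hF : QuasiIso ((F.mapHomologicalComplex (ComplexShape.up ℤ)).map i) :=
    Splice.quasiIso_map_of_mono hP (a - 1) i (fun n => hK n)
      (fun n i hi => by
        have := hL_inj n
        obtain ⟨m, rfl⟩ : ∃ m, i = m + 1 := ⟨i - 1, by omega⟩
        exact F.isZero_rightDerived_obj_injective_succ m (L.X n))
  exact (isIso_unit_of_quasiIso F α i hF).2 h1

/-- two out of three for the unit along degreewise split short exact sequences -/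
theorem isIso_unit_of_degreewise_split (𝒯 : ShortComplex (CochainComplex A ℤ)) (h𝒯 : 𝒯.ShortExact)
    (σ : ∀ n, (𝒯.map (HomologicalComplex.eval A (ComplexShape.up ℤ) n)).Splitting)
    (h₁ : IsIso (unitAt F α 𝒯.X₁)) (h₂ : IsIso (unitAt F α 𝒯.X₂)) :
    IsIso (unitAt F α 𝒯.X₃) := by
  obtain ⟨I, u, hI, hu, hum, hIinj⟩ := KInjD.exists_kInjective_resolution 𝒯.X₁
  have hu' : Mono u := HomologicalComplex.mono_of_mono_f _ hum
  have hf : Mono 𝒯.f := h𝒯.mono_f
  have hinl : KInjD.W A (pushout.inl 𝒯.f u) :=
    MorphismProperty.pushout_inl (P := KInjD.W A) 𝒯.f u ⟨hu', hu⟩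
  have hinr : Mono (pushout.inr 𝒯.f u) := inferInstance
  obtain ⟨I₂, u₂, hI₂, hu₂, hu₂m, hI₂inj⟩ := KInjD.exists_kInjective_resolution (pushout 𝒯.f u)
  have hu₂' : Mono u₂ := HomologicalComplex.mono_of_mono_f _ hu₂m
  let w : 𝒯.X₂ ⟶ I₂ := pushout.inl 𝒯.f u ≫ u₂
  let ν : I ⟶ I₂ := pushout.inr 𝒯.f u ≫ u₂
  have hw : QuasiIso w := by
    have := hinl.2
    exact inferInstanceAs (QuasiIso (pushout.inl 𝒯.f u ≫ u₂))
  have hν : Mono ν := mono_comp _ _
  let ℐ : ShortComplex (CochainComplex A ℤ) :=
    ShortComplex.mk ν (cokernel.π ν) (cokernel.condition ν)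
  have hℐ : ℐ.ShortExact :=
    { exact := ShortComplex.exact_cokernel ν
      mono_f := hν
      epi_g := inferInstanceAs (Epi (cokernel.π ν)) }
  have hℐn : ∀ n : ℤ, (ℐ.map (HomologicalComplex.eval A (ComplexShape.up ℤ) n)).ShortExact :=
    fun n => hℐ.map_of_exact (HomologicalComplex.eval A (ComplexShape.up ℤ) n)
  have σ' : ∀ n, (ℐ.map (HomologicalComplex.eval A (ComplexShape.up ℤ) n)).Splitting := fun n => by
    have : Injective (ℐ.map (HomologicalComplex.eval A (ComplexShape.up ℤ) n)).X₁ := hIinj n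
    exact (hℐn n).splittingOfInjective
  -- the quotient is K-injective
  have hQ : (cokernel ν).IsKInjective := by
    have hT : CochainComplex.trianglehOfDegreewiseSplit ℐ σ' ∈
        distTriang (HomotopyCategory A (ComplexShape.up ℤ)) := by
      rw [HomotopyCategory.distinguished_iff_iso_trianglehOfDegreewiseSplit]
      exact ⟨ℐ, σ', ⟨Iso.refl _⟩⟩
    rw [CochainComplex.isKInjective_iff_rightOrthogonal]
    exact (HomotopyCategory.subcategoryAcyclic A).rightOrthogonal.ext_of_isTriangulatedClosed₃ _ hT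
      (CochainComplex.IsKInjective.rightOrthogonal I)
      (CochainComplex.IsKInjective.rightOrthogonal I₂)
  have hcond : 𝒯.f ≫ w = u ≫ ν := by
    dsimp only [w, ν]
    rw [← Category.assoc, pushout.condition, Category.assoc]
  have hg : Epi 𝒯.g := h𝒯.epi_g
  let κ : 𝒯.X₃ ⟶ cokernel ν := h𝒯.exact.desc (w ≫ cokernel.π ν) (by
    rw [← Category.assoc, hcond, Category.assoc, cokernel.condition, comp_zero])
  have hκ' : 𝒯.g ≫ κ = w ≫ cokernel.π ν := h𝒯.exact.g_desc _ _
  let φ : 𝒯 ⟶ ℐ :=
    { τ₁ := u
      τ₂ := w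
      τ₃ := κ
      comm₁₂ := hcond.symm
      comm₂₃ := hκ'.symm }
  have hκ : QuasiIso κ := HomologicalComplex.HomologySequence.quasiIso_τ₃ φ h𝒯 hℐ hu hw
  -- the `F` side
  have hFu : QuasiIso ((F.mapHomologicalComplex (ComplexShape.up ℤ)).map u) :=
    quasiIso_map_of_isIso_unit F α u h₁ (isIso_unit_of_isKInjective F α I)
  have hFw : QuasiIso ((F.mapHomologicalComplex (ComplexShape.up ℤ)).map w) :=
    quasiIso_map_of_isIso_unit F α w h₂ (isIso_unit_of_isKInjective F α I₂)
  have hF𝒯 : (𝒯.map (F.mapHomologicalComplex (ComplexShape.up ℤ))).ShortExact :=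
    HomologicalComplex.shortExact_of_degreewise_shortExact _
      (fun n => ((σ n).map F).shortExact)
  have hFℐ : (ℐ.map (F.mapHomologicalComplex (ComplexShape.up ℤ))).ShortExact :=
    HomologicalComplex.shortExact_of_degreewise_shortExact _
      (fun n => ((σ' n).map F).shortExact)
  have hFκ : QuasiIso ((F.mapHomologicalComplex (ComplexShape.up ℤ)).map κ) :=
    HomologicalComplex.HomologySequence.quasiIso_τ₃
      ((F.mapHomologicalComplex (ComplexShape.up ℤ)).mapShortComplex.map φ) hF𝒯 hFℐ hFu hFw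
  exact (isIso_unit_of_quasiIso F α κ hFκ).2 (isIso_unit_of_isKInjective F α (cokernel ν))

end Grothendieck

end Groth.Agent.Helper3.AcycUnit
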