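import Mathlib

/-!
# A functor preserving finite coproducts and filtered colimits preserves coproducts
-/

set_option autoImplicit false
universe w v₁ v₂ u₁ u₂

open CategoryTheory Limits CoproductsFromFiniteFiltered

namespace Groth.Agent.Helper3.PresCoprod

variable {C : Type u₁} [Category.{v₁} C] {D : Type u₂} [Category.{v₂} D] (F : C ⥤ D) {α : Type w}
  [HasFiniteCoproducts C] [HasFiniteCoproducts D]
  [PreservesFiniteCoproducts F]

lemma map_ι_iso_hom {J : Type*} [Finite J] (f : J → C) (j : J) :
    F.map (Sigma.ι f j) ≫ (PreservesCoproduct.iso F f).hom = Sigma.ι (fun j => F.obj (f j)) j := by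
  rw [← cancel_mono (PreservesCoproduct.iso F f).inv, Category.assoc, Iso.hom_inv_id,
    Category.comp_id, PreservesCoproduct.inv_hom, ι_comp_sigmaComparison]

/-- the comparison of lifted diagrams -/
noncomputable def liftIso (G : Discrete α ⥤ C) :
    liftToFinsetObj G ⋙ F ≅ liftToFinsetObj (G ⋙ F) :=
  NatIso.ofComponents (fun S => PreservesCoproduct.iso F (fun x : S => G.obj x)) (by
    intro S S' h
    change F.map (Sigma.desc fun y : S => Sigma.ι (fun x : S' => G.obj x) ⟨y, h.down.down y.2⟩) ≫
        (PreservesCoproduct.iso F (fun x : S' => G.obj x)).hom =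
      (PreservesCoproduct.iso F (fun x : S => G.obj x)).hom ≫
        Sigma.desc (fun y : S => Sigma.ι (fun x : S' => F.obj (G.obj x)) ⟨y, h.down.down y.2⟩)
    rw [← cancel_epi (PreservesCoproduct.iso F (fun x : S => G.obj x)).inv, Iso.inv_hom_id_assoc,
      PreservesCoproduct.inv_hom]
    apply Sigma.hom_ext
    intro x
    rw [ι_comp_sigmaComparison_assoc, ← Category.assoc, ← F.map_comp, Sigma.ι_desc,
      map_ι_iso_hom, Sigma.ι_desc])

variable [HasColimitsOfShape (Finset (Discrete α)) C] [HasColimitsOfShape (Finset (Discrete α)) D]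
  [PreservesColimitsOfShape (Finset (Discrete α)) F]

/-- the comparison of colimits -/
noncomputable def colimIso (G : Discrete α ⥤ C) :
    F.obj (colimit (liftToFinsetObj G)) ≅ colimit (liftToFinsetObj (G ⋙ F)) :=
  preservesColimitIso F _ ≪≫ HasColimit.isoOfNatIso (liftIso F G)

theorem preservesColimit (G : Discrete α ⥤ C) : PreservesColimit G F := by
  apply preservesColimit_of_preserves_colimit_cocone (liftToFinsetColimitCocone G).isColimit
  refine IsColimit.ofIsoColimit (liftToFinsetColimitCocone (G ⋙ F)).isColimit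
    (Cocone.ext (colimIso F G) (fun j => ?_)).symm
  have hj : j ∈ ({j} : Finset (Discrete α)) := by simp
  have e1 : F.map (colimit.ι (liftToFinsetObj G) {j}) ≫
      (preservesColimitIso F (liftToFinsetObj G)).hom ≫
        (HasColimit.isoOfNatIso (liftIso F G)).hom =
      (liftIso F G).hom.app {j} ≫ colimit.ι (liftToFinsetObj (G ⋙ F)) {j} := by
    rw [ι_preservesColimitIso_hom_assoc, HasColimit.isoOfNatIso_ι_hom]
  have e2 : F.map (Sigma.ι (fun x : ({j} : Finset (Discrete α)) => G.obj x) ⟨j, hj⟩) ≫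
      (liftIso F G).hom.app {j} =
      Sigma.ι (fun x : ({j} : Finset (Discrete α)) => F.obj (G.obj x)) ⟨j, hj⟩ :=
    map_ι_iso_hom F _ _
  have e3 : F.map (Sigma.ι (fun x : ({j} : Finset (Discrete α)) => G.obj x) ⟨j, hj⟩ ≫
      colimit.ι (liftToFinsetObj G) {j}) =
      F.map (Sigma.ι (fun x : ({j} : Finset (Discrete α)) => G.obj x) ⟨j, hj⟩) ≫
        F.map (colimit.ι (liftToFinsetObj G) {j}) := F.map_comp _ _
  change F.map (Sigma.ι (fun x : ({j} : Finset (Discrete α)) => G.obj x) ⟨j, hj⟩ ≫
      colimit.ι (liftToFinsetObj G) {j}) ≫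
      (preservesColimitIso F (liftToFinsetObj G)).hom ≫
        (HasColimit.isoOfNatIso (liftIso F G)).hom =
    Sigma.ι (fun x : ({j} : Finset (Discrete α)) => F.obj (G.obj x)) ⟨j, hj⟩ ≫
      colimit.ι (liftToFinsetObj (G ⋙ F)) {j}
  exact ((congrArg (fun t => t ≫ (preservesColimitIso F (liftToFinsetObj G)).hom ≫
        (HasColimit.isoOfNatIso (liftIso F G)).hom) e3).trans (Category.assoc _ _ _)).trans
    ((congrArg (fun t => F.map (Sigma.ι (fun x : ({j} : Finset (Discrete α)) => G.obj x)
        ⟨j, hj⟩) ≫ t) e1).trans ((Category.assoc _ _ _).symm.trans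
      (congrArg (fun t => t ≫ colimit.ι (liftToFinsetObj (G ⋙ F)) {j}) e2)))

theorem preservesColimitsOfShape : PreservesColimitsOfShape (Discrete α) F :=
  ⟨fun {G} => preservesColimit F G⟩

end Groth.Agent.Helper3.PresCoprod
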