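import Mathlib
import Groth.Agent.Lib.Helper3.Brutal
import Groth.Agent.Lib.Helper3.DCoprod

/-!
# The telescope of the brutal truncations of a cochain complex

For a cochain complex `K`, the brutal truncations `σ_{≥ -n} K` form an increasing sequence of
subcomplexes with union `K`; the telescope sequence
`0 ⟶ ∐ σ_{≥ -n} K ⟶ ∐ σ_{≥ -n} K ⟶ K ⟶ 0` is degreewise split short exact.
-/

set_option autoImplicit false
set_option linter.unusedSectionVars false
universe v u

open CategoryTheory Limits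

namespace Groth.Agent.Helper3.Telescope

section Split

variable {C : Type u} [Category.{v} C] [Preadditive C]
  {X : ℕ → C} {Y : C} [HasCoproduct X]
  (a : ∀ n, X n ⟶ Y) (b : ∀ n, Y ⟶ X n) (N : ℕ)

/-- the map `1 - shift` -/
noncomputable def μ : ∐ X ⟶ ∐ X :=
  Sigma.desc (fun n => Sigma.ι X n - (a n ≫ b (n + 1)) ≫ Sigma.ι X (n + 1))

/-- the map to the colimit -/
noncomputable def π : ∐ X ⟶ Y := Sigma.desc a

/-- the components of the retraction -/
noncomputable def rc : ∀ m, X m ⟶ ∐ X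
  | 0 => 0
  | (m + 1) => a (m + 1) ≫ b m ≫ (rc m - Sigma.ι X m)

/-- the retraction -/
noncomputable def r : ∐ X ⟶ ∐ X := Sigma.desc (rc a b)

/-- the section -/
noncomputable def s : Y ⟶ ∐ X := b N ≫ Sigma.ι X N

variable (h0 : ∀ n, a n ≫ b n = 𝟙 (X n)) (h1 : ∀ n, N ≤ n → b n ≫ a n = 𝟙 Y)
  (h2 : ∀ n, n < N → b n = 0)

include h0 h1 h2 in
lemma key (n : ℕ) : a n ≫ b (n + 1) ≫ a (n + 1) = a n := by
  by_cases h : N ≤ n + 1
  · rw [h1 _ h, Category.comp_id]
  · have hn : n < N := by omega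
    have : a n = 0 := by
      have := h0 n
      rw [h2 n hn, comp_zero] at this
      rw [← Category.id_comp (a n), ← this, zero_comp]
    rw [this, zero_comp]

include h0 h1 h2 in
lemma μ_π : μ a b ≫ π a = 0 := by
  apply Sigma.hom_ext
  intro n
  simp only [μ, π, Sigma.ι_desc_assoc, Sigma.ι_desc, Preadditive.sub_comp, Category.assoc,
    comp_zero]
  rw [key a b N h0 h1 h2 n, sub_self]

include h0 h1 h2 in
lemma μ_r : μ a b ≫ r a b = 𝟙 _ := by
  apply Sigma.hom_ext
  intro n
  simp only [μ, r, Sigma.ι_desc_assoc, Sigma.ι_desc, Preadditive.sub_comp, Category.assoc,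
    Category.comp_id]
  rw [rc]
  simp only [← Category.assoc]
  have e : ((a n ≫ b (n + 1)) ≫ a (n + 1)) ≫ b n = 𝟙 _ := by
    have k := key a b N h0 h1 h2 n
    calc ((a n ≫ b (n + 1)) ≫ a (n + 1)) ≫ b n = (a n ≫ b (n + 1) ≫ a (n + 1)) ≫ b n := by
          simp only [Category.assoc]
      _ = 𝟙 _ := by rw [k, h0]
  rw [e, Category.id_comp]
  abel

include h1 in
lemma s_π : s b N ≫ π a = 𝟙 _ := by
  simp only [s, π, Category.assoc, Sigma.ι_desc]
  exact h1 N le_rfl

include h2 in
lemma rc_eq_zero (m : ℕ) (hm : m ≤ N) : rc a b m = 0 := by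
  cases m with
  | zero => rfl
  | succ m =>
    rw [rc, h2 m (by omega), zero_comp, comp_zero]

include h0 h1 h2 in
lemma rc_μ (m : ℕ) (hm : N ≤ m) :
    rc a b m ≫ μ a b = Sigma.ι X m - a m ≫ b N ≫ Sigma.ι X N := by
  induction m, hm using Nat.le_induction with
  | base =>
    rw [rc_eq_zero a b N h2 N le_rfl, zero_comp, ← Category.assoc, h0 N, Category.id_comp,
      sub_self]
  | succ m hm ih =>
    rw [rc]
    simp only [Category.assoc, Preadditive.sub_comp, ih]
    have hι : Sigma.ι X m ≫ μ a b = Sigma.ι X m - (a m ≫ b (m + 1)) ≫ Sigma.ι X (m + 1) := by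
      simp only [μ, Sigma.ι_desc]
    rw [hι]
    have : Sigma.ι X m - a m ≫ b N ≫ Sigma.ι X N -
        (Sigma.ι X m - (a m ≫ b (m + 1)) ≫ Sigma.ι X (m + 1)) =
        a m ≫ (b (m + 1) ≫ Sigma.ι X (m + 1) - b N ≫ Sigma.ι X N) := by
      simp only [Preadditive.comp_sub, Category.assoc]
      abel
    rw [this, ← Category.assoc (b m), h1 m hm, Category.id_comp, Preadditive.comp_sub,
      ← Category.assoc, h0 (m + 1), Category.id_comp]

include h0 h1 h2 in
lemma r_μ_add : r a b ≫ μ a b + π a ≫ s b N = 𝟙 _ := by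
  apply Sigma.hom_ext
  intro m
  simp only [Preadditive.comp_add, r, π, s, Sigma.ι_desc_assoc, Category.comp_id]
  by_cases hm : N ≤ m
  · rw [rc_μ a b N h0 h1 h2 m hm]
    abel
  · have hid : 𝟙 (X m) = 0 := by
      rw [← h0 m, h2 m (by omega), comp_zero]
    have hz : ∀ {T : C} (f g : X m ⟶ T), f = g := fun f g => by
      rw [← Category.id_comp f, ← Category.id_comp g, hid, zero_comp, zero_comp]
    exact hz _ _

end Split

section Complex

open Brutal DCoprod

variable {A : Type u} [Category.{v} A] [Abelian A] [HasCoproductsOfShape ℕ A]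

lemma incl_proj_incl (K : CochainComplex A ℤ) {k k' : ℤ} (h : k' ≤ k) (i : ℤ) :
    incl K k i ≫ proj K k' i ≫ incl K k' i = incl K k i := by
  by_cases hi : k' ≤ i
  · rw [proj_incl K hi, Category.comp_id]
  · have : ¬ k ≤ i := by omega
    exact (isZero_X K this).eq_of_src _ _

lemma incl_d (K : CochainComplex A ℤ) (k i j : ℤ) (hij : i + 1 = j) :
    incl K k i ≫ K.d i j ≫ proj K k j ≫ incl K k j = incl K k i ≫ K.d i j := by
  have := (ι K k).comm i j
  change incl K k i ≫ K.d i j = (incl K k i ≫ K.d i j ≫ proj K k j) ≫ incl K k j at this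
  rw [Category.assoc, Category.assoc] at this
  exact this.symm

/-- transition between brutal truncations -/
noncomputable def trans (K : CochainComplex A ℤ) (k k' : ℤ) (h : k' ≤ k) :
    sigmaGE K k ⟶ sigmaGE K k' where
  f i := incl K k i ≫ proj K k' i
  comm' i j hij := by
    change i + 1 = j at hij
    change (incl K k i ≫ proj K k' i) ≫ (incl K k' i ≫ K.d i j ≫ proj K k' j) =
      (incl K k i ≫ K.d i j ≫ proj K k j) ≫ (incl K k j ≫ proj K k' j)
    simp only [Category.assoc]
    rw [reassoc_of% (incl_proj_incl K h i), reassoc_of% (incl_d K k i j hij)]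

/-- the `n`-th truncation -/
noncomputable abbrev Kn (K : CochainComplex A ℤ) (n : ℕ) : CochainComplex A ℤ :=
  sigmaGE K (-(n : ℤ))

/-- the transition map -/
noncomputable def tK (K : CochainComplex A ℤ) (n : ℕ) : Kn K n ⟶ Kn K (n + 1) :=
  trans K _ _ (by push_cast; omega)

/-- the coproduct of the truncations -/
noncomputable abbrev S (K : CochainComplex A ℤ) : CochainComplex A ℤ := cK (Kn K)

/-- `1 - shift` -/
noncomputable def μK (K : CochainComplex A ℤ) : S K ⟶ S K :=
  descK (fun n => inK (Kn K) n - tK K n ≫ inK (Kn K) (n + 1))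

/-- the augmentation -/
noncomputable def πK (K : CochainComplex A ℤ) : S K ⟶ K :=
  descK (fun n => ι K (-(n : ℤ)))

/-- degreewise data -/
noncomputable abbrev aI (K : CochainComplex A ℤ) (i : ℤ) (n : ℕ) : (Kn K n).X i ⟶ K.X i :=
  incl K (-(n : ℤ)) i

/-- degreewise data -/
noncomputable abbrev bI (K : CochainComplex A ℤ) (i : ℤ) (n : ℕ) : K.X i ⟶ (Kn K n).X i :=
  proj K (-(n : ℤ)) i

lemma μK_f (K : CochainComplex A ℤ) (i : ℤ) :
    (μK K).f i = μ (X := fun n => (Kn K n).X i) (aI K i) (bI K i) := rfl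

lemma πK_f (K : CochainComplex A ℤ) (i : ℤ) :
    (πK K).f i = π (X := fun n => (Kn K n).X i) (aI K i) := rfl

lemma h0 (K : CochainComplex A ℤ) (i : ℤ) (n : ℕ) : aI K i n ≫ bI K i n = 𝟙 _ :=
  incl_proj K _ i

lemma h1 (K : CochainComplex A ℤ) (i : ℤ) (n : ℕ) (hn : (-i).toNat ≤ n) :
    bI K i n ≫ aI K i n = 𝟙 _ :=
  proj_incl K (by omega)

lemma h2 (K : CochainComplex A ℤ) (i : ℤ) (n : ℕ) (hn : n < (-i).toNat) :
    bI K i n = 0 :=
  (isZero_X K (by omega)).eq_of_tgt _ _

/-- the telescope short complex -/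
noncomputable def tel (K : CochainComplex A ℤ) : ShortComplex (CochainComplex A ℤ) :=
  ShortComplex.mk (μK K) (πK K) (by
    refine HomologicalComplex.hom_ext _ _ (fun i => ?_)
    rw [HomologicalComplex.comp_f, μK_f, πK_f]
    exact μ_π _ _ _ (h0 K i) (h1 K i) (h2 K i))

/-- the telescope is degreewise split -/
noncomputable def telSplitting (K : CochainComplex A ℤ) (i : ℤ) :
    ((tel K).map (HomologicalComplex.eval A (ComplexShape.up ℤ) i)).Splitting where
  r := r (X := fun n => (Kn K n).X i) (aI K i) (bI K i)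
  s := s (X := fun n => (Kn K n).X i) (bI K i) (-i).toNat
  f_r := by
    change (μK K).f i ≫ _ = 𝟙 _
    rw [μK_f]
    exact μ_r _ _ _ (h0 K i) (h1 K i) (h2 K i)
  s_g := by
    change _ ≫ (πK K).f i = 𝟙 _
    rw [πK_f]
    exact s_π _ _ _ (h1 K i)
  id := by
    change r (X := fun n => (Kn K n).X i) (aI K i) (bI K i) ≫ (μK K).f i +
      (πK K).f i ≫ s (X := fun n => (Kn K n).X i) (bI K i) (-i).toNat = 𝟙 _
    rw [μK_f, πK_f]
    exact r_μ_add _ _ _ (h0 K i) (h1 K i) (h2 K i)

lemma tel_shortExact (K : CochainComplex A ℤ) : (tel K).ShortExact :=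
  HomologicalComplex.shortExact_of_degreewise_shortExact _ (fun i => (telSplitting K i).shortExact)

end Complex

end Groth.Agent.Helper3.Telescope
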