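import Mathlib
import Groth.Agent.Lib.Helper3.DCoprod
import Groth.Agent.Lib.Helper3.AcycUnit

/-!
# The unit of a derived functor on countable coproducts
-/

set_option autoImplicit false
set_option linter.unusedSectionVars false
universe w w' v v' u u'

open CategoryTheory Limits DerivedCategory

namespace Groth.Agent.Helper3.UnitCoprod

lemma isIso_of_cofan {C : Type*} [Category C] {J : Type*} {X Y : J → C} {c : Cofan X}
    {d : Cofan Y} (hc : IsColimit c) (hd : IsColimit d)
    (e : ∀ j, X j ⟶ Y j) (he : ∀ j, IsIso (e j)) (ψ : c.pt ⟶ d.pt)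
    (hψ : ∀ j, c.inj j ≫ ψ = e j ≫ d.inj j) : IsIso ψ := by
  refine ⟨Cofan.IsColimit.desc hd (fun j => inv (e j) ≫ c.inj j), ?_, ?_⟩
  · refine Cofan.IsColimit.hom_ext hc _ _ (fun j => ?_)
    rw [← Category.assoc, hψ, Category.assoc, Cofan.IsColimit.fac, IsIso.hom_inv_id_assoc,
      Category.comp_id]
  · refine Cofan.IsColimit.hom_ext hd _ _ (fun j => ?_)
    rw [Cofan.IsColimit.fac_assoc, Category.assoc, hψ, IsIso.inv_hom_id_assoc, Category.comp_id]

open DCoprod AcycUnit

variable {A : Type u} [Category.{v} A] [Abelian A] [HasDerivedCategory.{w} A]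
  {B : Type u'} [Category.{v'} B] [Abelian B] [HasDerivedCategory.{w'} B]
  [HasColimitsOfShape (Discrete ℕ) A] [HasExactColimitsOfShape (Discrete ℕ) A]
  [HasColimitsOfShape (Discrete ℕ) B] [HasExactColimitsOfShape (Discrete ℕ) B]
  (F : A ⥤ B) [F.Additive] [PreservesColimitsOfShape (Discrete ℕ) F]
  {RF : DerivedCategory A ⥤ DerivedCategory B} [PreservesColimitsOfShape (Discrete ℕ) RF]
  (α : F.mapHomotopyCategory (ComplexShape.up ℤ) ⋙ Qh ⟶ Qh ⋙ RF)

/-- the comparison map `∐ F(K n) ⟶ F (∐ K n)` -/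
noncomputable def θ (K : ℕ → CochainComplex A ℤ) :
    cK (fun n => (F.mapHomologicalComplex (ComplexShape.up ℤ)).obj (K n)) ⟶
      (F.mapHomologicalComplex (ComplexShape.up ℤ)).obj (cK K) :=
  descK (fun n => (F.mapHomologicalComplex (ComplexShape.up ℤ)).map (inK K n))

lemma inK_θ (K : ℕ → CochainComplex A ℤ) (n : ℕ) :
    inK (fun n => (F.mapHomologicalComplex (ComplexShape.up ℤ)).obj (K n)) n ≫ θ F K =
      (F.mapHomologicalComplex (ComplexShape.up ℤ)).map (inK K n) :=
  inK_descK _ n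

instance (K : ℕ → CochainComplex A ℤ) : IsIso (θ F K) := by
  have : ∀ i, IsIso ((θ F K).f i) := fun i => by
    change IsIso (sigmaComparison F (fun n => (K n).X i))
    infer_instance
  exact HomologicalComplex.Hom.isIso_of_components _

theorem isIso_unit_cK (K : ℕ → CochainComplex A ℤ) (h : ∀ n, IsIso (unitAt F α (K n))) :
    IsIso (unitAt F α (cK K)) := by
  let FK : ℕ → CochainComplex B ℤ := fun n => (F.mapHomologicalComplex (ComplexShape.up ℤ)).obj (K n)
  have hA := isColimitCofan K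
  have hB := isColimitCofan FK
  have hRF := isColimitCofanMkObjOfIsColimit RF _ _ hA
  let Ψ : Q.obj (cK FK) ⟶ RF.obj (Q.obj (cK K)) := Q.map (θ F K) ≫ unitAt F α (cK K)
  have hΨ : IsIso Ψ := by
    refine isIso_of_cofan hB hRF (fun n => unitAt F α (K n)) h Ψ (fun n => ?_)
    change Q.map (inK FK n) ≫ Q.map (θ F K) ≫ unitAt F α (cK K) =
      unitAt F α (K n) ≫ RF.map (Q.map (inK K n))
    rw [← Category.assoc, ← Q.map_comp, inK_θ]
    exact (unit_naturality F α (inK K n)).symm
  have hθ : IsIso (Q.map (θ F K)) := inferInstance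
  exact @IsIso.of_isIso_comp_left _ _ _ _ _ (Q.map (θ F K)) (unitAt F α (cK K)) hθ hΨ

end Groth.Agent.Helper3.UnitCoprod
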