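import Mathlib
import Groth.Agent.Lib.Helper3.AcycUnit
import Groth.Agent.Lib.Helper3.Telescope
import Groth.Agent.Lib.Helper3.PresCoprod
import Groth.Agent.Lib.Helper3.UnitCoprod

/-!
# Unbounded complexes with acyclic terms compute the derived functor
-/

set_option autoImplicit false
universe w w' v u

open CategoryTheory Limits DerivedCategory

namespace Groth.Agent.Helper3.AcycMain

variable {A : Type u} [Category.{v} A] [Abelian A] [IsGrothendieckAbelian.{v} A]

/-- a left exact functor to abelian groups whose zeroth derived functor commutes with filtered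
colimits preserves countable coproducts -/
lemma preservesCoprodNat (F : A ⥤ AddCommGrpCat.{v}) [F.Additive] [PreservesFiniteLimits F]
    (hcolim : ∀ (J : Type v) [SmallCategory J] [IsFiltered J],
      PreservesColimitsOfShape J (F.rightDerived 0)) :
    PreservesColimitsOfShape (Discrete ℕ) F := by
  have e : Finset (Discrete ℕ) ≌ SmallModel.{v} (Finset (Discrete ℕ)) :=
    equivSmallModel.{v} (Finset (Discrete ℕ))
  have : IsFiltered (SmallModel.{v} (Finset (Discrete ℕ))) := IsFiltered.of_equivalence e
  have h1 : PreservesColimitsOfShape (SmallModel.{v} (Finset (Discrete ℕ))) (F.rightDerived 0) :=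
    hcolim _
  have h2 : PreservesColimitsOfShape (Finset (Discrete ℕ)) (F.rightDerived 0) :=
    preservesColimitsOfShape_of_equiv e.symm _
  have h3 : PreservesColimitsOfShape (Finset (Discrete ℕ)) F :=
    preservesColimitsOfShape_of_natIso F.rightDerivedZeroIsoSelf
  have : HasColimitsOfShape (Finset (Discrete ℕ)) A :=
    hasColimitsOfShape_of_essentiallySmall.{v} (Finset (Discrete ℕ)) A
  have : HasColimitsOfShape (Finset (Discrete ℕ)) AddCommGrpCat.{v} :=
    hasColimitsOfShape_of_essentiallySmall.{v} (Finset (Discrete ℕ)) AddCommGrpCat.{v}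
  exact PresCoprod.preservesColimitsOfShape F

variable [HasDerivedCategory.{w} A] [HasDerivedCategory.{w'} AddCommGrpCat.{v}]

open AcycUnit Telescope

attribute [local instance] Abelian.hasFiniteBiproducts

theorem isIso_unit (F : A ⥤ AddCommGrpCat.{v}) [F.Additive] [PreservesFiniteLimits F]
    (hcolim : ∀ (J : Type v) [SmallCategory J] [IsFiltered J],
      PreservesColimitsOfShape J (F.rightDerived 0))
    {RF : DerivedCategory A ⥤ DerivedCategory AddCommGrpCat.{v}}
    (α : F.mapHomotopyCategory (ComplexShape.up ℤ) ⋙ Qh ⟶ Qh ⋙ RF)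
    [RF.IsRightDerivedFunctor α (HomotopyCategory.quasiIso A (ComplexShape.up ℤ))]
    [PreservesColimitsOfShape (Discrete ℕ) RF]
    (K : CochainComplex A ℤ)
    (hK : ∀ (m : ℤ) (i : ℕ), 0 < i → IsZero ((F.rightDerived i).obj (K.X m))) :
    IsIso (unitAt F α K) := by
  have ab4 : AB4OfSize.{v} A := AB4.of_AB5 A
  have ab4' : AB4OfSize.{0} A := inferInstance
  have : HasColimitsOfShape (Discrete ℕ) A := inferInstance
  have : HasExactColimitsOfShape (Discrete ℕ) A := inferInstance
  have ab4B : AB4OfSize.{0} AddCommGrpCat.{v} := inferInstance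
  have : HasColimitsOfShape (Discrete ℕ) AddCommGrpCat.{v} := inferInstance
  have : HasExactColimitsOfShape (Discrete ℕ) AddCommGrpCat.{v} := inferInstance
  have := preservesCoprodNat F hcolim
  -- the truncations
  have hn : ∀ n : ℕ, IsIso (unitAt F α (Kn K n)) := fun n => by
    have : (Kn K n).IsStrictlyGE (-(n : ℤ)) := by
      rw [CochainComplex.isStrictlyGE_iff]
      intro i hi
      exact Brutal.isZero_sigmaGE_X K hi
    refine isIso_unit_of_isStrictlyGE F α (Kn K n) (-(n : ℤ)) (fun m i hi => ?_)
    by_cases hm : -(n : ℤ) ≤ m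
    · have := Brutal.isIso_ι_f K hm
      exact (hK m i hi).of_iso ((F.rightDerived i).mapIso (asIso ((Brutal.ι K (-(n : ℤ))).f m)))
    · have hz : IsZero ((Kn K n).X m) := Brutal.isZero_sigmaGE_X K (by omega)
      have := hz.injective
      obtain ⟨j, rfl⟩ : ∃ j, i = j + 1 := ⟨i - 1, by omega⟩
      exact F.isZero_rightDerived_obj_injective_succ j _
  have hS : IsIso (unitAt F α (S K)) := UnitCoprod.isIso_unit_cK F α (Kn K) hn
  exact isIso_unit_of_degreewise_split F α (tel K) (tel_shortExact K) (telSplitting K) hS hS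

end Groth.Agent.Helper3.AcycMain
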