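import Mathlib
import Groth.Agent.Lib.Helper8.Adic

/-!
# Quotients of complete Noetherian rings, and Noetherian domains all of whose nonzero primes
contain a fixed nonzero element
-/

set_option autoImplicit false
universe u

namespace Groth.Agent.Helper3.AdicDim

/-- a finite module over a complete Noetherian ring is complete: quotient case -/
theorem isAdicComplete_quotient {A : Type u} [CommRing A] [IsNoetherianRing A] (I : Ideal A)
    [IsAdicComplete I A] (q : Ideal A) :
    IsAdicComplete (I.map (Ideal.Quotient.mk q)) (A ⧸ q) := by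
  have hjac : I ≤ Ideal.jacobson ⊥ := IsAdicComplete.le_jacobson_bot I
  have h1 : IsAdicComplete I (A ⧸ q) := by
    haveI : IsHausdorff I (A ⧸ q) := IsHausdorff.of_le_jacobson I (A ⧸ q) hjac
    haveI : IsPrecomplete I (A ⧸ q) := by
      rw [← AdicCompletion.of_surjective_iff]
      intro y
      obtain ⟨z, rfl⟩ := AdicCompletion.map_surjective I (f := Submodule.mkQ q)
        (Submodule.mkQ_surjective q) y
      obtain ⟨a, rfl⟩ := AdicCompletion.of_surjective I A z
      exact ⟨Submodule.mkQ q a, (AdicCompletion.map_of I _ a).symm⟩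
    exact {}
  exact (IsAdicComplete.map_algebraMap_iff (S := A ⧸ q) (I := I) (M := A ⧸ q)).2 h1

variable {B : Type u} [CommRing B] [IsDomain B] [IsNoetherianRing B]

/-- a Noetherian domain in which every nonzero prime contains a fixed nonzero element
has dimension at most one -/
theorem height_le_one_of_forall_mem (x : B) (hx : x ≠ 0)
    (h : ∀ P : Ideal B, P.IsPrime → P ≠ ⊥ → x ∈ P) (P : Ideal B) [P.IsPrime] :
    P.height ≤ 1 := by
  by_contra hP
  push Not at hP
  -- minimal primes over `x`
  have hfin : (Ideal.span {x}).minimalPrimes.Finite :=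
    Ideal.finite_minimalPrimes_of_isNoetherianRing B _
  have hQ1 : ∀ Q ∈ (Ideal.span {x}).minimalPrimes, Q.height ≤ 1 := fun Q hQ =>
    Ideal.height_le_one_of_isPrincipal_of_mem_minimalPrimes _ Q hQ
  have hnot : ¬ (P : Set B) ⊆ ⋃ Q ∈ (↑hfin.toFinset : Set (Ideal B)), (Q : Set B) := by
    rw [Ideal.subset_union_prime (R := B) (s := hfin.toFinset) (f := fun Q => Q) ⊥ ⊥]
    · rintro ⟨Q, hQ, hPQ⟩
      rw [Set.Finite.mem_toFinset] at hQ
      have := (Ideal.height_mono hPQ).trans (hQ1 Q hQ)
      exact absurd this (not_le.mpr hP)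
    · intro Q hQ _ _
      rw [Set.Finite.mem_toFinset] at hQ
      exact hQ.1.1
  rw [Set.not_subset] at hnot
  obtain ⟨y, hyP, hy⟩ := hnot
  simp only [Set.mem_iUnion, not_exists, Set.Finite.coe_toFinset, SetLike.mem_coe] at hy
  -- a minimal prime over `y` inside `P`
  have hyle : Ideal.span {y} ≤ P := (Ideal.span_singleton_le_iff_mem P).2 hyP
  obtain ⟨Q, hQmin, hQP⟩ := Ideal.exists_minimalPrimes_le hyle
  haveI := hQmin.1.1
  have hQh : Q.height ≤ 1 := Ideal.height_le_one_of_isPrincipal_of_mem_minimalPrimes _ Q hQmin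
  have hyQ : y ∈ Q := hQmin.1.2 (Ideal.mem_span_singleton_self y)
  have hy0 : y ≠ 0 := by
    rintro rfl
    -- then `0` avoids all minimal primes over `x`, so there are none, so `x` is a unit
    have hx' : x ∈ P := h P inferInstance (by
      rintro rfl
      rw [Ideal.height_bot] at hP
      exact absurd hP (by simp))
    obtain ⟨Q', hQ', -⟩ := Ideal.exists_minimalPrimes_le
      ((Ideal.span_singleton_le_iff_mem P).2 hx')
    exact hy Q' hQ' (Q'.zero_mem)
  have hQ0 : Q ≠ ⊥ := by
    rintro rfl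
    exact hy0 hyQ
  have hxQ : x ∈ Q := h Q inferInstance hQ0
  obtain ⟨Q', hQ'min, hQ'Q⟩ := Ideal.exists_minimalPrimes_le
    ((Ideal.span_singleton_le_iff_mem Q).2 hxQ)
  haveI := hQ'min.1.1
  have hQ'0 : Q' ≠ ⊥ := by
    rintro rfl
    exact hx (hQ'min.1.2 (Ideal.mem_span_singleton_self x))
  -- `Q' = Q` since `ht Q ≤ 1`
  have hQQ' : Q' = Q := by
    by_contra hne
    have hlt : Q' < Q := lt_of_le_of_ne hQ'Q hne
    have h0 : (⊥ : Ideal B) < Q' := bot_lt_iff_ne_bot.2 hQ'0
    have h2 : (⊥ : Ideal B).height + 1 ≤ Q'.height :=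
      Ideal.height_add_one_le_of_lt_of_isPrime h0
    have h3 : Q'.height + 1 ≤ Q.height := Ideal.height_add_one_le_of_lt_of_isPrime hlt
    have h4 : (1 : ℕ∞) + 1 ≤ Q.height := by
      calc (1 : ℕ∞) + 1 ≤ Q'.height + 1 := by
            have : (1 : ℕ∞) ≤ Q'.height := by
              calc (1 : ℕ∞) = 0 + 1 := by simp
                _ ≤ (⊥ : Ideal B).height + 1 := by simp
                _ ≤ Q'.height := h2
            exact add_le_add_left this 1
        _ ≤ Q.height := h3
    have h5 : (1 : ℕ∞) + 1 ≤ 1 := h4.trans hQh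
    exact absurd h5 (by decide)
  exact hy Q' hQ'min (hQQ' ▸ hyQ)

end Groth.Agent.Helper3.AdicDim
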