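import Mathlib
import Groth.Agent.Lib.Helper3.AdicDimA

/-!
# One-dimensional quotients of complete Noetherian rings
-/

set_option autoImplicit false
universe u

namespace Groth.Agent.Helper3.AdicDim

open Polynomial

variable {B : Type u} [CommRing B] [IsDomain B]

/-- idempotents of `B/J` are trivial when `B` is a `J`-adically complete domain -/
theorem idempotent_quotient_trivial (J : Ideal B) [IsAdicComplete J B] (e : B ⧸ J)
    (he : e * e = e) : e = 0 ∨ e = 1 := by
  obtain ⟨a₀, rfl⟩ := Ideal.Quotient.mk_surjective e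
  have hmonic : (X ^ (1 + 1) - X : B[X]).Monic := Polynomial.monic_X_pow_sub (by
    rw [Polynomial.degree_X]; norm_num)
  have h1 : (X ^ (1 + 1) - X : B[X]).eval a₀ ∈ J := by
    rw [← Ideal.Quotient.eq_zero_iff_mem]
    simp only [eval_sub, eval_pow, eval_X, map_sub, map_pow]
    rw [pow_succ, pow_one, he, sub_self]
  have h2 : IsUnit (Ideal.Quotient.mk J ((X ^ (1 + 1) - X : B[X]).derivative.eval a₀)) := by
    apply IsUnit.of_mul_eq_one (Ideal.Quotient.mk J ((X ^ (1 + 1) - X : B[X]).derivative.eval a₀))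
    simp only [derivative_sub, derivative_X_pow, derivative_X, eval_sub, eval_mul, eval_pow,
      eval_X, eval_one, map_sub, map_mul, map_one, Nat.cast_add, Nat.cast_one, eval_add,
      map_add, add_tsub_cancel_right, pow_one, eval_natCast, map_natCast]
    have : ∀ y : B ⧸ J, y * y = y → ((1 + 1) * y - 1) * ((1 + 1) * y - 1) = 1 := by
      intro y hy
      have : ((1 + 1) * y - 1) * ((1 + 1) * y - 1) = 4 * (y * y) - 4 * y + 1 := by ring
      rw [this, hy]; ring
    exact this _ he
  obtain ⟨a, ha, haa⟩ := HenselianRing.is_henselian (R := B) (I := J) _ hmonic a₀ h1 h2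
  have ha' : a * (a - 1) = 0 := by
    have : (X ^ (1 + 1) - X : B[X]).eval a = 0 := ha
    simp only [eval_sub, eval_pow, eval_X] at this
    rw [← this]; ring
  have hmk : Ideal.Quotient.mk J a = Ideal.Quotient.mk J a₀ := by
    rw [← sub_eq_zero, ← map_sub, Ideal.Quotient.eq_zero_iff_mem]
    exact haa
  rcases mul_eq_zero.mp ha' with h | h
  · left; rw [← hmk, h, map_zero]
  · right; rw [← hmk, sub_eq_zero.mp h, map_one]

variable [IsNoetherianRing B]

/-- if `B` is a domain complete for a radical ideal `J` with `B/J` Artinian, then `J` is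
maximal -/
theorem isMaximal_of_complete (J : Ideal B) [IsAdicComplete J B] (hJrad : J.IsRadical)
    (hart : IsArtinianRing (B ⧸ J)) (hJtop : J ≠ ⊤) : J.IsMaximal := by
  haveI : IsReduced (B ⧸ J) := (Ideal.isRadical_iff_quotient_reduced J).1 hJrad
  haveI : Nontrivial (B ⧸ J) := Ideal.Quotient.nontrivial_iff.2 hJtop
  have hsub : Subsingleton (MaximalSpectrum (B ⧸ J)) := by
    refine ⟨fun M₁ M₂ => ?_⟩
    by_contra hne
    classical
    let ε : ∀ I : MaximalSpectrum (B ⧸ J), (B ⧸ J) ⧸ I.asIdeal := Pi.single M₁ 1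
    let e : B ⧸ J := (IsArtinianRing.equivPi (B ⧸ J)).symm ε
    have hε : IsArtinianRing.equivPi (B ⧸ J) e = ε := AlgEquiv.apply_symm_apply _ _
    have he2 : e * e = e := by
      apply (IsArtinianRing.equivPi (B ⧸ J)).injective
      rw [map_mul, hε]
      show Pi.single M₁ 1 * Pi.single M₁ 1 = Pi.single M₁ 1
      rw [← Pi.single_mul, mul_one]
    haveI : Nontrivial ((B ⧸ J) ⧸ M₁.asIdeal) :=
      Ideal.Quotient.nontrivial_iff.2 M₁.isMaximal.ne_top
    haveI : Nontrivial ((B ⧸ J) ⧸ M₂.asIdeal) :=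
      Ideal.Quotient.nontrivial_iff.2 M₂.isMaximal.ne_top
    rcases idempotent_quotient_trivial J e he2 with h | h
    · have := congrFun hε M₁
      rw [h, map_zero] at this
      have h1 : ε M₁ = 1 := Pi.single_eq_same M₁ 1
      rw [h1] at this
      exact zero_ne_one this
    · have := congrFun hε M₂
      rw [h, map_one] at this
      have h1 : ε M₂ = 0 := Pi.single_eq_of_ne (Ne.symm hne) 1
      rw [h1] at this
      exact one_ne_zero this
  obtain ⟨M, hM⟩ := Ideal.exists_maximal (B ⧸ J)
  letI : Unique (MaximalSpectrum (B ⧸ J)) := @Unique.mk' _ ⟨⟨M, hM⟩⟩ hsub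
  have hfield : IsField (B ⧸ J) :=
    (IsArtinianRing.equivPi (B ⧸ J)).toRingEquiv.trans (RingEquiv.piUnique _)
      |>.toMulEquiv.isField (Ideal.Quotient.field _).toIsField
  exact Ideal.Quotient.maximal_of_isField J hfield

end Groth.Agent.Helper3.AdicDim
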