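import Mathlib
import Groth.Agent.Lib.Helper3.AdicDimB

/-!
# S8804: maximal elements among primes not containing the ideal of definition
-/

set_option autoImplicit false
universe u

namespace Groth.Agent.Helper3.AdicDim

theorem jacobson_bot_le_of_isMaximal {R : Type u} [CommRing R] {m : Ideal R} (hm : m.IsMaximal) :
    Ideal.jacobson (⊥ : Ideal R) ≤ m := by
  haveI := hm
  exact (Ideal.jacobson_mono bot_le).trans (le_of_eq Ideal.jacobson_eq_self_of_isMaximal)

section Dom

variable {B : Type u} [CommRing B] [IsDomain B] [IsNoetherianRing B]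

theorem one_le_ringKrullDim_of_not_isField (h : ¬ IsField B) : 1 ≤ ringKrullDim B := by
  obtain ⟨p, hp0, hp⟩ := Ring.not_isField_iff_exists_prime.1 h
  haveI := hp
  haveI : (⊥ : Ideal B).IsPrime := Ideal.isPrime_bot
  have h1 := Ideal.height_add_one_le_of_lt_of_isPrime (bot_lt_iff_ne_bot.2 hp0)
  have h2 : (1 : ℕ∞) ≤ p.height := le_trans (by simp) h1
  have h3 := Ideal.height_le_ringKrullDim_of_isPrime (I := p)
  calc (1 : WithBot ℕ∞) = ((1 : ℕ∞) : WithBot ℕ∞) := rfl
    _ ≤ (p.height : WithBot ℕ∞) := by exact_mod_cast h2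
    _ ≤ ringKrullDim B := h3

end Dom

variable (A : Type u) [CommRing A] [IsNoetherianRing A] (I : Ideal A) [IsAdicComplete I A]
  (q : PrimeSpectrum A)

theorem main_S8804 : List.TFAE
    [¬ I ≤ q.asIdeal ∧ ∀ q' : PrimeSpectrum A, q ≤ q' → ¬ I ≤ q'.asIdeal → q' = q,
     ringKrullDim (A ⧸ q.asIdeal) = 1 ∧ ¬ I ≤ q.asIdeal,
     ringKrullDim (A ⧸ q.asIdeal) = 1 ∧
      (∀ m : Ideal (A ⧸ q.asIdeal), m.IsMaximal →
        m = (I.map (Ideal.Quotient.mk q.asIdeal)).radical) ∧
      IsAdicComplete (I.map (Ideal.Quotient.mk q.asIdeal)).radical (A ⧸ q.asIdeal)] := by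
  haveI : IsDomain (A ⧸ q.asIdeal) := Ideal.Quotient.isDomain q.asIdeal
  set J := I.map (Ideal.Quotient.mk q.asIdeal) with hJ
  haveI hJB : IsAdicComplete J (A ⧸ q.asIdeal) := isAdicComplete_quotient I q.asIdeal
  have hJjac : J ≤ Ideal.jacobson ⊥ := IsAdicComplete.le_jacobson_bot J
  have hJ0 : J = ⊥ ↔ I ≤ q.asIdeal := by
    rw [hJ, Ideal.map_eq_bot_iff_le_ker, Ideal.mk_ker]
  have hJtop : J ≠ ⊤ := by
    intro h
    rw [h, top_le_iff] at hJjac
    exact Ideal.jacobson_eq_top_iff.1 hJjac |> fun h' => absurd h' bot_ne_top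
  have hnf : J ≠ ⊥ → ¬ IsField (A ⧸ q.asIdeal) := by
    intro hne hf
    letI := hf.toField
    apply hne
    rcases Ideal.eq_bot_or_top J with h | h
    · exact h
    · exact absurd h hJtop
  tfae_have 1 → 2 := by
    rintro ⟨hIq, hmax⟩
    refine ⟨?_, hIq⟩
    have hJne : J ≠ ⊥ := fun h => hIq (hJ0.1 h)
    obtain ⟨x, hxJ, hx0⟩ := Submodule.exists_mem_ne_zero_of_ne_bot hJne
    have hall : ∀ P : Ideal (A ⧸ q.asIdeal), P.IsPrime → P ≠ ⊥ → x ∈ P := by
      intro P hP hP0
      by_contra hxP
      have hJP : ¬ J ≤ P := fun h => hxP (h hxJ)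
      let q' : PrimeSpectrum A := ⟨P.comap (Ideal.Quotient.mk q.asIdeal), Ideal.comap_isPrime _ _⟩
      have hqq' : q ≤ q' := by
        show q.asIdeal ≤ P.comap (Ideal.Quotient.mk q.asIdeal)
        intro a ha
        rw [Ideal.mem_comap, Ideal.Quotient.eq_zero_iff_mem.2 ha]
        exact P.zero_mem
      have hIq' : ¬ I ≤ q'.asIdeal := by
        intro h
        apply hJP
        rw [hJ, Ideal.map_le_iff_le_comap]
        exact h
      have h1 := hmax q' hqq' hIq'
      apply hP0
      have h2 : P.comap (Ideal.Quotient.mk q.asIdeal) = q.asIdeal := congrArg PrimeSpectrum.asIdeal h1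
      rw [← Ideal.map_comap_of_surjective _ Ideal.Quotient.mk_surjective P, h2,
        Ideal.map_quotient_self]
    apply le_antisymm
    · rw [ringKrullDim_le_iff_height_le]
      intro P hP
      haveI := hP
      have := height_le_one_of_forall_mem x hx0 hall P
      exact_mod_cast this
    · exact one_le_ringKrullDim_of_not_isField (hnf hJne)
  tfae_have 2 → 1 := by
    rintro ⟨hdim, hIq⟩
    refine ⟨hIq, fun q' hqq' hIq' => ?_⟩
    haveI : Ring.KrullDimLE 1 (A ⧸ q.asIdeal) := Ring.krullDimLE_iff.2 (le_of_eq (by exact_mod_cast hdim))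
    by_contra hne
    let P : Ideal (A ⧸ q.asIdeal) := q'.asIdeal.map (Ideal.Quotient.mk q.asIdeal)
    have hker : RingHom.ker (Ideal.Quotient.mk q.asIdeal) ≤ q'.asIdeal := by
      rw [Ideal.mk_ker]; exact hqq'
    haveI hPprime : P.IsPrime :=
      Ideal.map_isPrime_of_surjective Ideal.Quotient.mk_surjective hker
    have hcomap : P.comap (Ideal.Quotient.mk q.asIdeal) = q'.asIdeal := by
      rw [Ideal.comap_map_of_surjective _ Ideal.Quotient.mk_surjective, ← RingHom.ker_eq_comap_bot,
        sup_eq_left]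
      exact hker
    have hP0 : P ≠ ⊥ := by
      intro h
      apply hne
      apply PrimeSpectrum.ext
      rw [← hcomap, h, ← RingHom.ker_eq_comap_bot, Ideal.mk_ker]
    have hPmax : P.IsMaximal := Ideal.IsPrime.isMaximal_of_ne_bot hPprime hP0
    have hJP : J ≤ P := hJjac.trans (jacobson_bot_le_of_isMaximal hPmax)
    apply hIq'
    rw [← hcomap, ← Ideal.map_le_iff_le_comap]
    exact hJP
  tfae_have 2 → 3 := by
    rintro ⟨hdim, hIq⟩
    have hJne : J ≠ ⊥ := fun h => hIq (hJ0.1 h)
    haveI : Ring.KrullDimLE 1 (A ⧸ q.asIdeal) := Ring.krullDimLE_iff.2 (le_of_eq (by exact_mod_cast hdim))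
    obtain ⟨c, hc⟩ := Ideal.exists_radical_pow_le_of_fg J (IsNoetherian.noetherian J.radical)
    have hc0 : 0 < c := by
      rcases Nat.eq_zero_or_pos c with h | h
      · subst h
        rw [pow_zero, Ideal.one_eq_top, top_le_iff] at hc
        exact absurd hc hJtop
      · exact h
    haveI hcomplete : IsAdicComplete J.radical (A ⧸ q.asIdeal) :=
      Groth.Agent.Helper8.isAdicComplete_of_pow_le (I := J.radical) (J := J) hc0 one_pos hc
        (by rw [pow_one]; exact Ideal.le_radical)
    have hradtop : J.radical ≠ ⊤ := by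
      rw [Ne, Ideal.radical_eq_top]; exact hJtop
    have hart : IsArtinianRing ((A ⧸ q.asIdeal) ⧸ J.radical) := by
      rw [isArtinianRing_iff_krullDimLE_zero, Ring.krullDimLE_zero_iff]
      intro Q hQ
      haveI := hQ
      have hQc : (Q.comap (Ideal.Quotient.mk J.radical)).IsPrime := Ideal.comap_isPrime _ _
      have hne : Q.comap (Ideal.Quotient.mk J.radical) ≠ ⊥ := by
        intro h
        apply hJne
        rw [eq_bot_iff]
        calc J ≤ J.radical := Ideal.le_radical
          _ = RingHom.ker (Ideal.Quotient.mk J.radical) := (Ideal.mk_ker).symm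
          _ ≤ Q.comap (Ideal.Quotient.mk J.radical) := by
              rw [RingHom.ker_eq_comap_bot]; exact Ideal.comap_mono bot_le
          _ = ⊥ := h
      have hmax := Ideal.IsPrime.isMaximal_of_ne_bot hQc hne
      rcases Ideal.map_eq_top_or_isMaximal_of_surjective (Ideal.Quotient.mk J.radical)
        Ideal.Quotient.mk_surjective hmax with h | h
      · rw [Ideal.map_comap_of_surjective _ Ideal.Quotient.mk_surjective] at h
        exact absurd h hQ.ne_top
      · rwa [Ideal.map_comap_of_surjective _ Ideal.Quotient.mk_surjective] at h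
    have hmaxJ : J.radical.IsMaximal :=
      isMaximal_of_complete J.radical (Ideal.radical_isRadical J) hart hradtop
    refine ⟨hdim, fun m hm => ?_, hcomplete⟩
    have h1 : J.radical ≤ m := by
      have : J ≤ m := hJjac.trans (jacobson_bot_le_of_isMaximal hm)
      exact (Ideal.IsPrime.radical_le_iff hm.isPrime).2 this
    exact (hmaxJ.eq_of_le hm.ne_top h1).symm
  tfae_have 3 → 2 := by
    rintro ⟨hdim, hmax, -⟩
    refine ⟨hdim, fun hIq => ?_⟩
    have hJb : J = ⊥ := hJ0.2 hIq
    obtain ⟨m, hm⟩ := Ideal.exists_maximal (A ⧸ q.asIdeal)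
    have h1 := hmax m hm
    rw [hJb] at h1
    have h2 : (⊥ : Ideal (A ⧸ q.asIdeal)).radical = ⊥ := Ideal.radical_bot_of_noZeroDivisors
    rw [h2] at h1
    have hf : IsField (A ⧸ q.asIdeal) := by
      rw [Ring.isField_iff_maximal_bot, ← h1]; exact hm
    have := ringKrullDim_eq_zero_of_isField hf
    rw [this] at hdim
    exact zero_ne_one hdim
  tfae_finish

end Groth.Agent.Helper3.AdicDim
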