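import Mathlib
import Groth.Agent.Lib.Helper5.DCat.WayOut2

/-!
# Way-out lemma for the unit/counit of an adjunction `Φ.mapDerivedCategory ⊣ G`

`Φ` exact; `G` any right adjoint.  `G` is left t-exact, and unit/counit are isomorphisms on
bounded below objects as soon as they are on the cohomology objects.
-/

open CategoryTheory Category Limits Pretriangulated DerivedCategory Triangulated

universe w w' v v' u u'

namespace Groth.Agent.Helper3.AdjWayOut

variable {A : Type u} [Category.{v} A] [Abelian A] [HasDerivedCategory.{w} A]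
  {B : Type u'} [Category.{v'} B] [Abelian B] [HasDerivedCategory.{w'} B]
  (Φ : A ⥤ B) [Φ.Additive] [PreservesFiniteLimits Φ] [PreservesFiniteColimits Φ]

lemma isGE_map (Y : DerivedCategory A) (n : ℤ) [hY : Y.IsGE n] :
    (Φ.mapDerivedCategory.obj Y).IsGE n := by
  obtain ⟨K, _, ⟨e⟩⟩ := Y.exists_iso_Q_obj_of_isGE n
  have e' : Φ.mapDerivedCategory.obj Y ≅
      Q.obj ((Φ.mapHomologicalComplex (ComplexShape.up ℤ)).obj K) :=
    Φ.mapDerivedCategory.mapIso e ≪≫ Φ.mapDerivedCategoryFactors.app K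
  exact TStructure.t.isGE_of_iso e'.symm n

lemma isLE_map (Y : DerivedCategory A) (n : ℤ) [hY : Y.IsLE n] :
    (Φ.mapDerivedCategory.obj Y).IsLE n := by
  obtain ⟨K, _, ⟨e⟩⟩ := Y.exists_iso_Q_obj_of_isLE n
  have e' : Φ.mapDerivedCategory.obj Y ≅
      Q.obj ((Φ.mapHomologicalComplex (ComplexShape.up ℤ)).obj K) :=
    Φ.mapDerivedCategory.mapIso e ≪≫ Φ.mapDerivedCategoryFactors.app K
  exact TStructure.t.isLE_of_iso e'.symm n

variable {Φ} {G : DerivedCategory B ⥤ DerivedCategory A} (adj : Φ.mapDerivedCategory ⊣ G)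

include adj in
/-- The right adjoint of the functor induced by an exact functor is left t-exact. -/
lemma isGE_right (X : DerivedCategory B) (n : ℤ) [hX : X.IsGE n] : (G.obj X).IsGE n := by
  refine (TStructure.t.isGE_iff_orthogonal (n - 1) n (by lia) _).2 ?_
  intro W φ hW
  have hW' : W.IsLE (n - 1) := hW
  have : (Φ.mapDerivedCategory.obj W).IsLE (n - 1) := isLE_map Φ W (n - 1)
  have h0 : (adj.homEquiv W X).symm φ = 0 :=
    TStructure.t.zero_of_isLE_of_isGE _ (n - 1) n (by lia) this hX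
  apply (adj.homEquiv W X).symm.injective
  rw [h0, adj.homEquiv_symm_apply, Functor.map_zero, zero_comp]

theorem isIso_unit_of_isGE (Y : DerivedCategory A) (n₀ : ℤ) [Y.IsGE n₀]
    (h : ∀ q : ℤ, IsIso (adj.unit.app
      ((singleFunctor A 0).obj ((homologyFunctor A q).obj Y)))) :
    IsIso (adj.unit.app Y) := by
  let _ : G.CommShift ℤ := adj.rightAdjointCommShift ℤ
  have : adj.CommShift ℤ := adj.commShift_of_leftAdjoint ℤ
  have : G.IsTriangulated := adj.isTriangulated_rightAdjoint
  let P : ObjectProperty A := fun M => IsIso (adj.unit.app ((singleFunctor A 0).obj M))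
  have : P.IsClosedUnderIsomorphisms :=
    ⟨fun {M N} e hM => by
      have := NatTrans.isIso_app_iff_of_iso adj.unit ((singleFunctor A 0).mapIso e)
      exact this.1 hM⟩
  refine Helper5.DCat.isIso_app_of_isGE_of_wayOutRight P adj.unit
    (fun n₁ => ⟨n₁, fun Y hY => hY⟩)
    (fun n₁ => ⟨n₁, fun Y hY => ?_⟩) (fun X hX => hX) Y n₀ h
  have := hY
  have : (Φ.mapDerivedCategory.obj Y).IsGE n₁ := isGE_map Φ Y n₁
  exact isGE_right adj _ n₁

theorem isIso_counit_of_isGE (X : DerivedCategory B) (n₀ : ℤ) [X.IsGE n₀]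
    (h : ∀ q : ℤ, IsIso (adj.counit.app
      ((singleFunctor B 0).obj ((homologyFunctor B q).obj X)))) :
    IsIso (adj.counit.app X) := by
  let _ : G.CommShift ℤ := adj.rightAdjointCommShift ℤ
  have : adj.CommShift ℤ := adj.commShift_of_leftAdjoint ℤ
  have : G.IsTriangulated := adj.isTriangulated_rightAdjoint
  let P : ObjectProperty B := fun M => IsIso (adj.counit.app ((singleFunctor B 0).obj M))
  have : P.IsClosedUnderIsomorphisms :=
    ⟨fun {M N} e hM => by
      have := NatTrans.isIso_app_iff_of_iso adj.counit ((singleFunctor B 0).mapIso e)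
      exact this.1 hM⟩
  refine Helper5.DCat.isIso_app_of_isGE_of_wayOutRight P adj.counit
    (fun n₁ => ⟨n₁, fun Y hY => ?_⟩)
    (fun n₁ => ⟨n₁, fun Y hY => hY⟩) (fun X hX => hX) X n₀ h
  have := hY
  have : (G.obj Y).IsGE n₁ := isGE_right adj Y n₁
  exact isGE_map Φ _ n₁

end Groth.Agent.Helper3.AdjWayOut
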