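import Mathlib
import Groth.Prelude.Def_PCoh
import Groth.Agent.Lib.Helper3.PCohK

/-!
# Descent of pseudo-coherence along an exact functor detecting finite type objects
-/

open CategoryTheory Limits HomologicalComplex CochainComplex HomComplex ZeroObject

universe w w' v v' u u'

namespace Groth.Agent.Helper3.PCohN

open Groth.Agent.Helper3.PCohA Groth.Agent.Helper3.PCohB Groth.Agent.Helper3.PCohD
  Groth.Agent.Helper3.PCohE Groth.Agent.Helper3.PCohF Groth.Agent.Helper3.PCohG
  Groth.Agent.Helper3.PCohI Groth.Agent.Helper3.PCohJ DerivedCategory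

variable {C : Type u} [Category.{v} C] [Abelian C]
  {C' : Type u'} [Category.{v'} C'] [Abelian C']
  (F : C ⥤ C') [F.Additive] [PreservesFiniteLimits F] [PreservesFiniteColimits F]

/-- An exact functor commutes with homology of complexes. -/
noncomputable def mapHCHomologyIso (E : CochainComplex C ℤ) (n : ℤ) :
    ((F.mapHomologicalComplex (ComplexShape.up ℤ)).obj E).homology n ≅ F.obj (E.homology n) :=
  (E.sc n).mapHomologyIso F

variable [HasDerivedCategory.{w} C] [HasDerivedCategory.{w'} C']

/-- An exact functor commutes with the homology functors on derived categories (objectwise). -/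
noncomputable def homologyMapIso (L : DerivedCategory C) (n : ℤ) :
    (DerivedCategory.homologyFunctor C' n).obj (F.mapDerivedCategory.obj L) ≅
      F.obj ((DerivedCategory.homologyFunctor C n).obj L) :=
  (DerivedCategory.homologyFunctor C' n).mapIso
      (F.mapDerivedCategory.mapIso (DerivedCategory.Q.objObjPreimageIso L).symm) ≪≫
    (DerivedCategory.homologyFunctor C' n).mapIso
      (F.mapDerivedCategoryFactors.app (DerivedCategory.Q.objPreimage L)) ≪≫
    (DerivedCategory.homologyFunctorFactors C' n).app _ ≪≫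
    mapHCHomologyIso F (DerivedCategory.Q.objPreimage L) n ≪≫
    F.mapIso ((DerivedCategory.homologyFunctorFactors C n).app
      (DerivedCategory.Q.objPreimage L)).symm ≪≫
    F.mapIso ((DerivedCategory.homologyFunctor C n).mapIso (DerivedCategory.Q.objObjPreimageIso L))

variable {P : ObjectProperty C} [P.IsClosedUnderIsomorphisms] [P.ContainsZero]
  (hsum : ∀ X Y : C, P X → P Y → P (X ⨯ Y))
  (hqs : PCoh.IsQuasiStableUnderKernels P) (hql : PCoh.IsQuasiLiftable P)
  {P' : ObjectProperty C'} [P'.IsClosedUnderIsomorphisms] [P'.ContainsZero]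
  (hsum' : ∀ X Y : C', P' X → P' Y → P' (X ⨯ Y))
  (hqs' : PCoh.IsQuasiStableUnderKernels P') (hql' : PCoh.IsQuasiLiftable P')
  (h1 : ∀ E : C, P E → P' (F.obj E))
  (h2 : ∀ X : C, PCoh.IsOfFiniteType P' (F.obj X) → PCoh.IsOfFiniteType P X)

include h1 in
omit [P.IsClosedUnderIsomorphisms] [P.ContainsZero] [P'.ContainsZero]
  [P'.IsClosedUnderIsomorphisms] in
/-- the image of a strictly pseudo-coherent complex -/
lemma isNPC_map_of_strictPCAll {E : CochainComplex C ℤ} (hE : PCoh.IsStrictPCAll P E) (k : ℤ) :
    IsNPC P' k (F.mapDerivedCategory.obj (Q.obj E)) := by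
  refine ⟨(F.mapHomologicalComplex (ComplexShape.up ℤ)).obj E, ⟨?_, fun i _ => h1 _ (hE.2 i)⟩,
    ⟨(F.mapDerivedCategoryFactors.app E).symm⟩⟩
  obtain ⟨b, hb⟩ := hE.1
  exact ⟨b, fun i hi => F.map_isZero (hb i hi)⟩

include hsum hqs hql hsum' hqs' hql' h1 h2 in
/-- descent of `m`-pseudo-coherence -/
theorem descent (k : ℕ) : ∀ (m : ℤ) (X : DerivedCategory C),
    (∀ i : ℤ, m + k ≤ i → IsZero ((DerivedCategory.homologyFunctor C i).obj X)) →
    IsNPC P' m (F.mapDerivedCategory.obj X) → IsNPC P m X := by
  induction k with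
  | zero =>
    intro m X hz _
    rw [isNPC_iff_isOfFiniteType hsum hqs hql m X (fun i hi => hz i (by simp; lia))]
    exact isOfFiniteType_of_prop P (P.prop_of_isZero (hz m (by simp)))
  | succ k ih =>
    intro m X hz hX
    have hz' : ∀ i : ℤ, m + k < i → IsZero ((DerivedCategory.homologyFunctor C i).obj X) :=
      fun i hi => hz i (by push_cast; lia)
    have hzF : ∀ i : ℤ, m + k < i →
        IsZero ((DerivedCategory.homologyFunctor C' i).obj (F.mapDerivedCategory.obj X)) :=
      fun i hi => (F.map_isZero (hz' i hi)).of_iso (homologyMapIso F X i)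
    have hft' : PCoh.IsOfFiniteType P'
        ((DerivedCategory.homologyFunctor C' (m + k)).obj (F.mapDerivedCategory.obj X)) :=
      isOfFiniteType_homology_of_isNPC hqs' (by lia) _ hX hzF
    have hft : PCoh.IsOfFiniteType P ((DerivedCategory.homologyFunctor C (m + k)).obj X) :=
      h2 _ (isOfFiniteType_of_iso (homologyMapIso F X (m + k)) hft')
    have hXb : IsNPC P (m + k) X :=
      (isNPC_iff_isOfFiniteType hsum hqs hql (m + k) X hz').2 hft
    obtain ⟨E, hE, ⟨e⟩⟩ := hXb
    refine IsNPC.of_iso e ?_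
    have hS := Brutal.sc_shortExact E (m + k)
    have hT := triangleOfSES_distinguished hS
    -- the truncation `σ≥` is strictly pseudo-coherent
    have hGE : PCoh.IsStrictPCAll P (Brutal.sigmaGE E (m + k)) := by
      obtain ⟨b, hb⟩ := hE.1
      refine ⟨⟨b, fun i hi => ?_⟩, fun i => ?_⟩
      · by_cases hi' : m + k ≤ i
        · have := Brutal.isIso_ι_f E hi'
          exact (hb i hi).of_iso (asIso ((Brutal.ι E (m + k)).f i))
        · exact Brutal.isZero_sigmaGE_X E (by lia)
      · by_cases hi' : m + k ≤ i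
        · have := Brutal.isIso_ι_f E hi'
          exact P.prop_of_iso (asIso ((Brutal.ι E (m + k)).f i)).symm (hE.2 i hi')
        · exact P.prop_of_isZero (Brutal.isZero_sigmaGE_X E (by lia))
    have h3' : IsNPC P' m (F.mapDerivedCategory.obj (Q.obj (Brutal.sigmaLT E (m + k)))) := by
      refine isNPC_obj₃ hsum' hqs' hql' m _ (F.mapDerivedCategory.map_distinguished _ hT) ?_ ?_
      · exact isNPC_map_of_strictPCAll F h1 hGE (m + 1)
      · exact hX.of_iso (F.mapDerivedCategory.mapIso e.symm)
    have h3 : IsNPC P m (Q.obj (Brutal.sigmaLT E (m + k))) := by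
      refine ih m _ (fun i hi => ?_) h3'
      exact (isZero_homologyFunctor_Q_iff _ i).2
        (isZero_homology_of_isZero_X _ i (Brutal.isZero_sigmaLT_X E hi))
    exact isNPC_obj₂ hsum hqs hql m _ hT (isNPC_of_strictPCAll hGE m) h3

include hsum hqs hql hsum' hqs' hql' h1 h2 in
/-- descent of pseudo-coherence -/
theorem descent_isPC (h0 : ∀ X : C, IsZero (F.obj X) → IsZero X) (X : DerivedCategory C)
    (hX : PCoh.IsPC P' (F.mapDerivedCategory.obj X)) : PCoh.IsPC P X := by
  obtain ⟨b, hb⟩ := exists_bound_of_isNPC (hX 0)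
  have hz : ∀ i : ℤ, b < i → IsZero ((DerivedCategory.homologyFunctor C i).obj X) := by
    intro i hi
    exact h0 _ ((hb i hi).of_iso (homologyMapIso F X i).symm)
  intro n
  refine descent F hsum hqs hql hsum' hqs' hql' h1 h2 (b + 1 - n).toNat n X (fun i hi => ?_) (hX n)
  exact hz i (by lia)

end Groth.Agent.Helper3.PCohN
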