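import Mathlib
import Groth.Prelude.Def_WeakSerre
import Groth.Agent.Lib.Helper3.AdjWayOut
import Groth.Agent.Lib.Helper3.CohWayOut
import Groth.Agent.Lib.Helper3.PCohN

/-!
# `Φ^* : D^+_{A'} → D^+_A` is an equivalence with quasi-inverse the right adjoint
-/

open CategoryTheory Category Limits Pretriangulated DerivedCategory Triangulated

universe w w' v v' u u'

namespace Groth.Agent.Helper3.AdjEquivPlus

open Groth.Agent.Helper3.AdjWayOut Groth.Agent.Helper3.CohWayOut

variable {A : Type u} [Category.{v} A] [Abelian A] [HasDerivedCategory.{w} A]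
  {B : Type u'} [Category.{v'} B] [Abelian B] [HasDerivedCategory.{w'} B]
  {Φ : A ⥤ B} [Φ.Additive] [PreservesFiniteLimits Φ] [PreservesFiniteColimits Φ]
  {G : DerivedCategory B ⥤ DerivedCategory A} (adj : Φ.mapDerivedCategory ⊣ G)
  (RB : ObjectProperty B) [WSerre.IsWeakSerre RB]
  (RA : ObjectProperty A) [WSerre.IsWeakSerre RA]

include adj in
lemma isIso_counit_of_isIso_unit (S : DerivedCategory A) (h : IsIso (adj.unit.app S)) :
    IsIso (adj.counit.app (Φ.mapDerivedCategory.obj S)) := by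
  have : IsIso (Φ.mapDerivedCategory.map (adj.unit.app S) ≫
      adj.counit.app (Φ.mapDerivedCategory.obj S)) := by
    have h := adj.left_triangle_components S
    exact h ▸ (inferInstance : IsIso (𝟙 _))
  exact IsIso.of_isIso_comp_left (Φ.mapDerivedCategory.map (adj.unit.app S)) _

theorem cohIn_map (Y : DerivedCategory A) (h2a : ∀ F' : A, RA F' → RB (Φ.obj F'))
    (hY : WSerre.cohIn RA Y) : WSerre.cohIn RB (Φ.mapDerivedCategory.obj Y) := fun i =>
  RB.prop_of_iso (Groth.Agent.Helper3.PCohN.homologyMapIso Φ Y i).symm (h2a _ (hY i))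

theorem equiv_plus
    (h2a : ∀ F' : A, RA F' → RB (Φ.obj F'))
    (h2c : ∀ F : B, RB F → ∃ F' : A, RA F' ∧ Nonempty (Φ.obj F' ≅ F))
    (h3 : ∀ F' : A, RA F' → IsIso (adj.unit.app ((singleFunctor A 0).obj F'))) :
    (∀ Y : DerivedCategory A, WSerre.cohInPlus RA Y →
      WSerre.cohInPlus RB (Φ.mapDerivedCategory.obj Y) ∧ IsIso (adj.unit.app Y)) ∧
    (∀ X : DerivedCategory B, WSerre.cohInPlus RB X →
      WSerre.cohInPlus RA (G.obj X) ∧ IsIso (adj.counit.app X)) := by
  constructor
  · rintro Y ⟨hc, n, hn⟩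
    have hn' : Y.IsGE n := hn
    refine ⟨⟨cohIn_map RB RA Y h2a hc, n, isGE_map Φ Y n⟩, ?_⟩
    exact isIso_unit_of_isGE adj Y n (fun q => h3 _ (hc q))
  · rintro X ⟨hc, n, hn⟩
    have hn' : X.IsGE n := hn
    have key : ∀ M : B, RB M → IsIso (adj.counit.app ((singleFunctor B 0).obj M)) ∧
        WSerre.cohIn RA (G.obj ((singleFunctor B 0).obj M)) := by
      intro M hM
      obtain ⟨M', hM', ⟨e⟩⟩ := h2c M hM
      have e₁ : Φ.mapDerivedCategory.obj ((singleFunctor A 0).obj M') ≅
          (singleFunctor B 0).obj M :=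
        (Φ.mapDerivedCategorySingleFunctor 0).app M' ≪≫ (singleFunctor B 0).mapIso e
      have hu := h3 M' hM'
      have hc' := isIso_counit_of_isIso_unit adj _ hu
      refine ⟨(NatTrans.isIso_app_iff_of_iso adj.counit e₁).1 hc', ?_⟩
      exact cohIn_of_iso RA ((asIso (adj.unit.app ((singleFunctor A 0).obj M'))) ≪≫
        G.mapIso e₁) (cohIn_single RA M' hM')
    refine ⟨⟨?_, n, isGE_right adj X n⟩, ?_⟩
    · let _ : G.CommShift ℤ := adj.rightAdjointCommShift ℤ
      have : adj.CommShift ℤ := adj.commShift_of_leftAdjoint ℤ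
      have : G.IsTriangulated := adj.isTriangulated_rightAdjoint
      exact cohIn_of_isGE G RA RB (fun n₁ => ⟨n₁, fun Y hY => by
        have := hY
        exact isGE_right adj Y n₁⟩) (fun M hM => (key M hM).2) X n hc
    · exact isIso_counit_of_isGE adj X n (fun q => (key _ (hc q)).1)

end Groth.Agent.Helper3.AdjEquivPlus
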