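import Mathlib

/-!
# Truncations in the derived category: homology and consecutive truncations
-/

universe w v u

open CategoryTheory Limits Pretriangulated DerivedCategory

namespace Groth.Agent.Helper3.TrLim

variable {A : Type u} [Category.{v} A] [Abelian A] [HasDerivedCategory.{w} A]

/-- the canonical t-structure -/
noncomputable abbrev tS : Triangulated.TStructure (DerivedCategory A) := TStructure.t

lemma isZero_homology_of_isLE (X : DerivedCategory A) (n i : ℤ) (hi : n < i)
    (hX : (tS (A := A)).IsLE X n) : IsZero ((homologyFunctor A i).obj X) := by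
  haveI : X.IsLE n := hX
  exact X.isZero_of_isLE n i hi

lemma isZero_homology_of_isGE (X : DerivedCategory A) (n i : ℤ) (hi : i < n)
    (hX : (tS (A := A)).IsGE X n) : IsZero ((homologyFunctor A i).obj X) := by
  haveI : X.IsGE n := hX
  exact X.isZero_of_isGE n i hi

/-- `Hⁱ(E) → Hⁱ(τ_{≥a}E)` is an isomorphism for `i ≥ a` -/
lemma isIso_homology_truncGEπ (E : DerivedCategory A) (a i : ℤ) (h : a ≤ i) :
    IsIso ((homologyFunctor A i).map (((tS (A := A)).truncGEπ a).app E)) := by
  have hT := (tS (A := A)).triangleLTGE_distinguished a E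
  have hz1 : IsZero ((homologyFunctor A i).obj (((tS (A := A)).truncLT a).obj E)) :=
    isZero_homology_of_isLE _ (a - 1) i (by omega) inferInstance
  have hz2 : IsZero ((homologyFunctor A (i + 1)).obj (((tS (A := A)).truncLT a).obj E)) :=
    isZero_homology_of_isLE _ (a - 1) (i + 1) (by omega) inferInstance
  haveI : Mono ((homologyFunctor A i).map (((tS (A := A)).truncGEπ a).app E)) :=
    (HomologySequence.mono_homologyMap_mor₂_iff _ hT i).2 (hz1.eq_of_src _ _)
  haveI : Epi ((homologyFunctor A i).map (((tS (A := A)).truncGEπ a).app E)) :=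
    (HomologySequence.epi_homologyMap_mor₂_iff _ hT i (i + 1) rfl).2 (hz2.eq_of_tgt _ _)
  exact isIso_of_mono_of_epi _

section Consec

variable (E : DerivedCategory A) (a : ℤ)

/-- `Hᵃ(τ_{<a+1}X) → Hᵃ(X)` is an isomorphism -/
lemma isIso_homology_truncLTι (X : DerivedCategory A) :
    IsIso ((homologyFunctor A a).map (((tS (A := A)).truncLTι (a + 1)).app X)) := by
  have hT := (tS (A := A)).triangleLTGE_distinguished (a + 1) X
  have hz1 : IsZero ((homologyFunctor A a).obj (((tS (A := A)).truncGE (a + 1)).obj X)) :=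
    isZero_homology_of_isGE _ (a + 1) a (by omega) inferInstance
  have hz2 : IsZero ((homologyFunctor A (a - 1)).obj (((tS (A := A)).truncGE (a + 1)).obj X)) :=
    isZero_homology_of_isGE _ (a + 1) (a - 1) (by omega) inferInstance
  haveI : Epi ((homologyFunctor A a).map (((tS (A := A)).truncLTι (a + 1)).app X)) :=
    (HomologySequence.epi_homologyMap_mor₁_iff _ hT a).2 (hz1.eq_of_tgt _ _)
  haveI : Mono ((homologyFunctor A a).map (((tS (A := A)).truncLTι (a + 1)).app X)) :=
    (HomologySequence.mono_homologyMap_mor₁_iff _ hT (a - 1) a (by omega)).2 (hz2.eq_of_src _ _)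
  exact isIso_of_mono_of_epi _

/-- `τ_{<a+1}X` is `≥ a` if `X` is -/
lemma isGE_truncLT_of_isGE (X : DerivedCategory A) [hX : (tS (A := A)).IsGE X a] :
    (tS (A := A)).IsGE (((tS (A := A)).truncLT (a + 1)).obj X) a := by
  have hT := inv_rot_of_distTriang _ ((tS (A := A)).triangleLTGE_distinguished (a + 1) X)
  refine (tS (A := A)).isGE₂ _ hT a ?_ hX
  have h1 : (tS (A := A)).IsGE ((((tS (A := A)).truncGE (a + 1)).obj X)⟦(-1 : ℤ)⟧) (a + 2) :=
    (tS (A := A)).isGE_shift _ (a + 1) (-1) (a + 2) (by omega)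
  change (tS (A := A)).IsGE ((((tS (A := A)).truncGE (a + 1)).obj X)⟦(-1 : ℤ)⟧) a
  exact (tS (A := A)).isGE_of_ge _ a (a + 2) (by omega)

/-- the graded piece `τ_{<a+1}τ_{≥a}E` is `Hᵃ(E)` placed in degree `a` -/
lemma nonempty_iso_single :
    Nonempty (((tS (A := A)).truncLT (a + 1)).obj (((tS (A := A)).truncGE a).obj E) ≅
      (singleFunctor A a).obj ((homologyFunctor A a).obj E)) := by
  haveI h1 : (((tS (A := A)).truncLT (a + 1)).obj (((tS (A := A)).truncGE a).obj E)).IsGE a :=
    isGE_truncLT_of_isGE a _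
  haveI h2 : (((tS (A := A)).truncLT (a + 1)).obj (((tS (A := A)).truncGE a).obj E)).IsLE a :=
    inferInstanceAs ((tS (A := A)).IsLE _ a)
  obtain ⟨Y, ⟨e⟩⟩ := exists_iso_singleFunctor_obj_of_isGE_of_isLE
    (((tS (A := A)).truncLT (a + 1)).obj (((tS (A := A)).truncGE a).obj E)) a
  haveI := isIso_homology_truncLTι a (((tS (A := A)).truncGE a).obj E)
  haveI := isIso_homology_truncGEπ E a a le_rfl
  let φ : Y ≅ (homologyFunctor A a).obj E :=
    ((singleFunctorCompHomologyFunctorIso A a).app Y).symm ≪≫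
      (homologyFunctor A a).mapIso e.symm ≪≫
      asIso ((homologyFunctor A a).map
        (((tS (A := A)).truncLTι (a + 1)).app (((tS (A := A)).truncGE a).obj E))) ≪≫
      (asIso ((homologyFunctor A a).map (((tS (A := A)).truncGEπ a).app E))).symm
  exact ⟨e ≪≫ (singleFunctor A a).mapIso φ⟩

end Consec

section Triangle

variable (E : DerivedCategory A) (a b : ℤ) (hab : a ≤ b)

/-- the comparison `τ_{≥b}τ_{≥a}E ⟶ τ_{≥b}E` -/
noncomputable def θ : ((tS (A := A)).truncGE b).obj (((tS (A := A)).truncGE a).obj E) ⟶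
    ((tS (A := A)).truncGE b).obj E :=
  (tS (A := A)).descTruncGE (((tS (A := A)).natTransTruncGEOfLE a b hab).app E) b

lemma π_θ : ((tS (A := A)).truncGEπ b).app (((tS (A := A)).truncGE a).obj E) ≫ θ E a b hab =
    ((tS (A := A)).natTransTruncGEOfLE a b hab).app E :=
  (tS (A := A)).π_descTruncGE _ _

lemma map_θ : ((tS (A := A)).truncGE b).map (((tS (A := A)).truncGEπ a).app E) ≫ θ E a b hab =
    𝟙 _ := by
  apply (tS (A := A)).from_truncGE_obj_ext
  rw [← Category.assoc, (tS (A := A)).truncGEπ_naturality, Category.assoc, π_θ,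
    (tS (A := A)).π_natTransTruncGEOfLE_app, Category.comp_id]
  rfl

instance isIso_θ : IsIso (θ E a b hab) := by
  haveI := (tS (A := A)).isIso_truncGE_map_truncGEπ_app b a hab E
  have h := map_θ E a b hab
  have : θ E a b hab = inv (((tS (A := A)).truncGE b).map (((tS (A := A)).truncGEπ a).app E)) := by
    rw [← cancel_epi (((tS (A := A)).truncGE b).map (((tS (A := A)).truncGEπ a).app E)), h,
      IsIso.hom_inv_id]
  rw [this]
  infer_instance

/-- the distinguished triangle `τ_{<b}τ_{≥a}E ⟶ τ_{≥a}E ⟶ τ_{≥b}E ⟶` -/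
lemma triangle_distinguished :
    Triangle.mk (((tS (A := A)).truncLTι b).app (((tS (A := A)).truncGE a).obj E))
      (((tS (A := A)).natTransTruncGEOfLE a b hab).app E)
      (inv (θ E a b hab) ≫ ((tS (A := A)).truncGEδLT b).app (((tS (A := A)).truncGE a).obj E)) ∈
        distTriang (DerivedCategory A) := by
  refine isomorphic_distinguished _
    ((tS (A := A)).triangleLTGE_distinguished b (((tS (A := A)).truncGE a).obj E)) _ ?_
  refine Triangle.isoMk _ _ (Iso.refl _) (Iso.refl _) (asIso (θ E a b hab)).symm ?_ ?_ ?_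
  · change ((tS (A := A)).truncLTι b).app (((tS (A := A)).truncGE a).obj E) ≫ 𝟙 _ =
      𝟙 _ ≫ ((tS (A := A)).truncLTι b).app (((tS (A := A)).truncGE a).obj E)
    rw [Category.comp_id, Category.id_comp]
  · change ((tS (A := A)).natTransTruncGEOfLE a b hab).app E ≫ inv (θ E a b hab) =
      𝟙 _ ≫ ((tS (A := A)).truncGEπ b).app (((tS (A := A)).truncGE a).obj E)
    rw [Category.id_comp, ← π_θ E a b hab, Category.assoc, IsIso.hom_inv_id, Category.comp_id]
  · change (inv (θ E a b hab) ≫
        ((tS (A := A)).truncGEδLT b).app (((tS (A := A)).truncGE a).obj E)) ≫ (𝟙 _)⟦(1 : ℤ)⟧' =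
      inv (θ E a b hab) ≫ ((tS (A := A)).truncGEδLT b).app (((tS (A := A)).truncGE a).obj E)
    rw [CategoryTheory.Functor.map_id]
    exact Category.comp_id _

end Triangle

end Groth.Agent.Helper3.TrLim
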