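import Mathlib
import Groth.Prelude.Def_WeakSerre
import Groth.Agent.Lib.Helper3.AdjEquivPlus
import Groth.Agent.Lib.Helper3.TrLim1

/-!
# `Φ^* : D_{A'} → D_A` is an equivalence with quasi-inverse the right adjoint `G`, when `G`
commutes with truncations in a range
-/

open CategoryTheory Category Limits Pretriangulated DerivedCategory Triangulated

universe w w' v v' u u'

namespace Groth.Agent.Helper3.AdjEquivU

open Groth.Agent.Helper3.AdjWayOut Groth.Agent.Helper3.AdjEquivPlus Groth.Agent.Helper3.TrLim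

section Comm

variable {A : Type u} [Category.{v} A] [Abelian A] [HasDerivedCategory.{w} A]
  {B : Type u'} [Category.{v'} B] [Abelian B] [HasDerivedCategory.{w'} B]
  (Φ : A ⥤ B) [Φ.Additive] [PreservesFiniteLimits Φ] [PreservesFiniteColimits Φ]

/-- an exact functor commutes with homology of complexes -/
noncomputable def cxHomologyIso (n : ℤ) :
    Φ.mapHomologicalComplex (ComplexShape.up ℤ) ⋙
        HomologicalComplex.homologyFunctor B (ComplexShape.up ℤ) n ≅
      HomologicalComplex.homologyFunctor A (ComplexShape.up ℤ) n ⋙ Φ :=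
  NatIso.ofComponents (fun E => (E.sc n).mapHomologyIso Φ) (by
    intro E E' g
    exact ShortComplex.mapHomologyIso_hom_naturality
      ((HomologicalComplex.shortComplexFunctor A (ComplexShape.up ℤ) n).map g) Φ)

/-- an exact functor commutes with the homology functors of the derived categories -/
noncomputable def homologyCommIso (n : ℤ) :
    Φ.mapDerivedCategory ⋙ homologyFunctor B n ≅ homologyFunctor A n ⋙ Φ :=
  Localization.liftNatIso Q (HomologicalComplex.quasiIso A (ComplexShape.up ℤ))
    (Q ⋙ Φ.mapDerivedCategory ⋙ homologyFunctor B n) (Q ⋙ homologyFunctor A n ⋙ Φ) _ _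
    ((Functor.associator _ _ _).symm ≪≫
      Functor.isoWhiskerRight Φ.mapDerivedCategoryFactors _ ≪≫
      Functor.associator _ _ _ ≪≫
      Functor.isoWhiskerLeft _ (homologyFunctorFactors B n) ≪≫
      cxHomologyIso Φ n ≪≫
      Functor.isoWhiskerRight (homologyFunctorFactors A n).symm Φ ≪≫
      Functor.associator _ _ _)

lemma isIso_homology_map_of_isIso {X X' : DerivedCategory A} (κ : X ⟶ X') (n : ℤ)
    (h : IsIso ((homologyFunctor A n).map κ)) :
    IsIso ((homologyFunctor B n).map (Φ.mapDerivedCategory.map κ)) := by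
  have : IsIso ((homologyFunctor A n ⋙ Φ).map κ) := by
    change IsIso (Φ.map ((homologyFunctor A n).map κ))
    infer_instance
  exact (NatIso.isIso_map_iff (homologyCommIso Φ n) κ).2 this

end Comm

section Trunc

variable {A : Type u} [Category.{v} A] [Abelian A] [HasDerivedCategory.{w} A]

/-- a morphism to an object which is `≥ a`, inducing isomorphisms on `Hⁱ` for `i ≥ a`, identifies
its target with the truncation of its source -/
lemma exists_iso_of_isGE {X X' : DerivedCategory A} (κ : X ⟶ X') (a : ℤ)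
    (hX' : (tS (A := A)).IsGE X' a)
    (h : ∀ i, a ≤ i → IsIso ((homologyFunctor A i).map κ)) :
    ∃ θ : ((tS (A := A)).truncGE a).obj X ≅ X', ((tS (A := A)).truncGEπ a).app X ≫ θ.hom = κ := by
  let θ' := (tS (A := A)).descTruncGE κ a
  have hθ' : ((tS (A := A)).truncGEπ a).app X ≫ θ' = κ := (tS (A := A)).π_descTruncGE κ a
  haveI : IsIso θ' := by
    rw [DerivedCategory.isIso_iff]
    intro i
    by_cases hi : a ≤ i
    · haveI := isIso_homology_truncGEπ X a i hi
      haveI := h i hi
      have h1 : (homologyFunctor A i).map (((tS (A := A)).truncGEπ a).app X) ≫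
          (homologyFunctor A i).map θ' = (homologyFunctor A i).map κ := by
        rw [← Functor.map_comp, hθ']
      exact IsIso.of_isIso_fac_left h1
    · have hz1 : IsZero ((homologyFunctor A i).obj (((tS (A := A)).truncGE a).obj X)) :=
        isZero_homology_of_isGE _ a i (by omega) inferInstance
      have hz2 : IsZero ((homologyFunctor A i).obj X') :=
        isZero_homology_of_isGE _ a i (by omega) hX'
      exact ⟨⟨0, hz1.eq_of_src _ _, hz2.eq_of_src _ _⟩⟩
  exact ⟨asIso θ', hθ'⟩

variable (R : ObjectProperty A) [WSerre.IsWeakSerre R]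

lemma cohInPlus_truncGE (X : DerivedCategory A) (hX : WSerre.cohIn R X) (a : ℤ) :
    WSerre.cohInPlus R (((tS (A := A)).truncGE a).obj X) := by
  refine ⟨fun i => ?_, a, inferInstance⟩
  by_cases hi : a ≤ i
  · haveI := isIso_homology_truncGEπ X a i hi
    exact R.prop_of_iso (asIso ((homologyFunctor A i).map (((tS (A := A)).truncGEπ a).app X)))
      (hX i)
  · exact R.prop_of_isZero (isZero_homology_of_isGE _ a i (by omega) inferInstance)

end Trunc

variable {A : Type u} [Category.{v} A] [Abelian A] [HasDerivedCategory.{w} A]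
  {B : Type u'} [Category.{v'} B] [Abelian B] [HasDerivedCategory.{w'} B]
  {Φ : A ⥤ B} [Φ.Additive] [PreservesFiniteLimits Φ] [PreservesFiniteColimits Φ]
  {G : DerivedCategory B ⥤ DerivedCategory A} (adj : Φ.mapDerivedCategory ⊣ G)
  (RB : ObjectProperty B) [WSerre.IsWeakSerre RB]
  (RA : ObjectProperty A) [WSerre.IsWeakSerre RA]

omit [HasDerivedCategory.{w} A] [Abelian A] [Abelian B] [HasDerivedCategory.{w'} B]
  [Φ.Additive] [PreservesFiniteLimits Φ] [PreservesFiniteColimits Φ] in
lemma isIso_of_square {T T' : Type*} [Category T] [Category T'] (H : T ⥤ T') {W X Y Z : T}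
    {a : W ⟶ X} {b : X ⟶ Z} {c : W ⟶ Y} {d : Y ⟶ Z} (sq : a ≫ b = c ≫ d)
    (hb : IsIso (H.map b)) (hc : IsIso (H.map c)) (hd : IsIso (H.map d)) : IsIso (H.map a) := by
  have h1 : H.map a ≫ H.map b = H.map c ≫ H.map d := by
    rw [← Functor.map_comp, ← Functor.map_comp, sq]
  have h2 : H.map a = (H.map c ≫ H.map d) ≫ inv (H.map b) := by
    rw [← h1, Category.assoc, IsIso.hom_inv_id, Category.comp_id]
  rw [h2]
  infer_instance

theorem equiv_unbounded
    (h2a : ∀ F' : A, RA F' → RB (Φ.obj F'))
    (h2c : ∀ F : B, RB F → ∃ F' : A, RA F' ∧ Nonempty (Φ.obj F' ≅ F))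
    (h3 : ∀ F' : A, RA F' → IsIso (adj.unit.app ((singleFunctor A 0).obj F')))
    (TP : ∀ X : DerivedCategory B, WSerre.cohIn RB X → ∀ (n : ℕ) (j : ℤ), -(n : ℤ) ≤ j →
      IsIso ((homologyFunctor A j).map
        (G.map (((tS (A := B)).truncGEπ (-(n : ℤ))).app X)))) :
    (∀ Y : DerivedCategory A, WSerre.cohIn RA Y →
      WSerre.cohIn RB (Φ.mapDerivedCategory.obj Y) ∧ IsIso (adj.unit.app Y)) ∧
    (∀ X : DerivedCategory B, WSerre.cohIn RB X →
      WSerre.cohIn RA (G.obj X) ∧ IsIso (adj.counit.app X)) := by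
  have hplus := equiv_plus adj RB RA h2a h2c h3
  constructor
  · intro Y hY
    have hΦY := cohIn_map RB RA Y h2a hY
    refine ⟨hΦY, ?_⟩
    rw [DerivedCategory.isIso_iff]
    intro j
    obtain ⟨n, hn⟩ : ∃ n : ℕ, -(n : ℤ) ≤ j := ⟨(-j).toNat, by
      have := Int.self_le_toNat (-j); omega⟩
    obtain ⟨π, hπdef⟩ : ∃ π : Y ⟶ ((tS (A := A)).truncGE (-(n : ℤ))).obj Y,
        π = ((tS (A := A)).truncGEπ (-(n : ℤ))).app Y := ⟨_, rfl⟩
    have hT := cohInPlus_truncGE RA Y hY (-(n : ℤ))
    have hη : IsIso (adj.unit.app (((tS (A := A)).truncGE (-(n : ℤ))).obj Y)) :=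
      (hplus.1 _ hT).2
    have hπ : ∀ i, -(n : ℤ) ≤ i → IsIso ((homologyFunctor A i).map π) := by
      intro i hi
      rw [hπdef]
      exact isIso_homology_truncGEπ Y _ i hi
    -- `Φ π` is a truncation map up to isomorphism
    have hGE : (tS (A := B)).IsGE
        (Φ.mapDerivedCategory.obj (((tS (A := A)).truncGE (-(n : ℤ))).obj Y)) (-(n : ℤ)) := by
      have : (((tS (A := A)).truncGE (-(n : ℤ))).obj Y).IsGE (-(n : ℤ)) :=
        inferInstanceAs ((tS (A := A)).IsGE _ _)
      exact isGE_map Φ _ _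
    obtain ⟨θ, hθ⟩ := exists_iso_of_isGE (Φ.mapDerivedCategory.map π) (-(n : ℤ)) hGE
      (fun i hi => isIso_homology_map_of_isIso Φ π i (hπ i hi))
    have hGπ : IsIso ((homologyFunctor A j).map (G.map (Φ.mapDerivedCategory.map π))) := by
      rw [← hθ, Functor.map_comp, Functor.map_comp]
      have h1 := TP _ hΦY n j hn
      have h2 : IsIso ((homologyFunctor A j).map (G.map θ.hom)) := inferInstance
      exact @IsIso.comp_isIso _ _ _ _ _ _ _ h1 h2
    have hnat : adj.unit.app Y ≫ G.map (Φ.mapDerivedCategory.map π) =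
        π ≫ adj.unit.app _ := (adj.unit.naturality π).symm
    have hηj : IsIso ((homologyFunctor A j).map
        (adj.unit.app (((tS (A := A)).truncGE (-(n : ℤ))).obj Y))) := inferInstance
    exact isIso_of_square (homologyFunctor A j) hnat hGπ (hπ j hn) hηj
  · intro X hX
    have hGX : WSerre.cohIn RA (G.obj X) := by
      intro j
      obtain ⟨n, hn⟩ : ∃ n : ℕ, -(n : ℤ) ≤ j := ⟨(-j).toNat, by
        have := Int.self_le_toNat (-j); omega⟩
      have hT := cohInPlus_truncGE RB X hX (-(n : ℤ))
      haveI := TP X hX n j hn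
      exact RA.prop_of_iso (asIso ((homologyFunctor A j).map
        (G.map (((tS (A := B)).truncGEπ (-(n : ℤ))).app X)))).symm ((hplus.2 _ hT).1.1 j)
    refine ⟨hGX, ?_⟩
    rw [DerivedCategory.isIso_iff]
    intro j
    obtain ⟨n, hn⟩ : ∃ n : ℕ, -(n : ℤ) ≤ j := ⟨(-j).toNat, by
      have := Int.self_le_toNat (-j); omega⟩
    obtain ⟨π, hπdef⟩ : ∃ π : X ⟶ ((tS (A := B)).truncGE (-(n : ℤ))).obj X,
        π = ((tS (A := B)).truncGEπ (-(n : ℤ))).app X := ⟨_, rfl⟩
    have hT := cohInPlus_truncGE RB X hX (-(n : ℤ))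
    have hε : IsIso (adj.counit.app (((tS (A := B)).truncGE (-(n : ℤ))).obj X)) :=
      (hplus.2 _ hT).2
    have hπ : IsIso ((homologyFunctor B j).map π) := by
      rw [hπdef]
      exact isIso_homology_truncGEπ X _ j hn
    have hTP : IsIso ((homologyFunctor A j).map (G.map π)) := by
      rw [hπdef]
      exact TP X hX n j hn
    have hΦG : IsIso ((homologyFunctor B j).map (Φ.mapDerivedCategory.map (G.map π))) :=
      isIso_homology_map_of_isIso Φ (G.map π) j hTP
    have hnat : adj.counit.app X ≫ π =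
        Φ.mapDerivedCategory.map (G.map π) ≫ adj.counit.app _ :=
      (adj.counit.naturality π).symm
    have hεj : IsIso ((homologyFunctor B j).map
        (adj.counit.app (((tS (A := B)).truncGE (-(n : ℤ))).obj X))) := inferInstance
    exact isIso_of_square (homologyFunctor B j) hnat hπ hΦG hεj

end Groth.Agent.Helper3.AdjEquivU
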