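import Mathlib

open AlgebraicGeometry CategoryTheory

namespace Groth.Agent.Helper3.StalkDim

universe u

/-- Algebraic core: a prime `P'` over `p` contains a prime `Q` over `p` with `ht Q ≤ ht p`. -/
lemma exists_prime_le_height_le {A B : Type*} [CommRing A] [CommRing B] [IsNoetherianRing A] [IsNoetherianRing B]
    (φ : A →+* B) (P' : Ideal B) [P'.IsPrime] :
    ∃ Q : Ideal B, Q.IsPrime ∧ Q ≤ P' ∧ Q.comap φ = P'.comap φ ∧
      Q.height ≤ (P'.comap φ).height := by
  let _ := φ.toAlgebra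
  set p := P'.comap φ with hp
  have hpP : p.map φ ≤ P' := Ideal.map_comap_le
  obtain ⟨Q, hQ, hQP⟩ := Ideal.exists_minimalPrimes_le hpP
  have : Q.IsPrime := hQ.1.1
  have hQp : Q.comap φ = p := by
    apply le_antisymm
    · exact Ideal.comap_mono hQP
    · exact Ideal.map_le_iff_le_comap.mp hQ.1.2
  refine ⟨Q, inferInstance, hQP, hQp, ?_⟩
  have : Q.LiesOver p := ⟨hQp.symm⟩
  have h1 := Ideal.height_le_height_add_of_liesOver p Q
  have h2 : (Q.map (Ideal.Quotient.mk (p.map (algebraMap A B)))).height = 0 := by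
    have hQ' : Q ∈ (p.map (algebraMap A B)).minimalPrimes := hQ
    rw [Ideal.minimalPrimes_eq_comap] at hQ'
    obtain ⟨Qb, hQb, rfl⟩ := hQ'
    rw [Ideal.map_comap_of_surjective _ Ideal.Quotient.mk_surjective]
    have := hQb.1.1
    exact Ideal.height_eq_zero_iff.mpr hQb
  rw [h2, add_zero] at h1
  exact h1


lemma primeIdealOf_isoSpec_inv {X : Scheme.{u}} {U : X.Opens} (hU : IsAffineOpen U)
    (Q : PrimeSpectrum Γ(X, U)) : hU.primeIdealOf (hU.isoSpec.inv Q) = Q := by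
  unfold IsAffineOpen.primeIdealOf
  rw [← Scheme.Hom.comp_apply, Iso.inv_hom_id]
  rfl

lemma ringKrullDim_stalk_eq_height {X : Scheme.{u}} {U : X.Opens} (hU : IsAffineOpen U)
    (x : U) : ringKrullDim (X.presheaf.stalk x.1) = (hU.primeIdealOf x).asIdeal.height := by
  let _ := X.presheaf.algebra_section_stalk x
  have := hU.isLocalization_stalk x
  exact IsLocalization.AtPrime.ringKrullDim_eq_height (hU.primeIdealOf x).asIdeal _

lemma exists_point_dim_le {X Y : Scheme.{u}} (f : X ⟶ Y) [IsLocallyNoetherian X]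
    [IsLocallyNoetherian Y] (x' : X) :
    ∃ x : X, f.base x = f.base x' ∧
      ringKrullDim (X.presheaf.stalk x) ≤ ringKrullDim (Y.presheaf.stalk (f.base x')) := by
  obtain ⟨_, ⟨V, hV, rfl⟩, hyV, -⟩ :=
    Y.isBasis_affineOpens.exists_subset_of_mem_open (Set.mem_univ (f.base x')) isOpen_univ
  obtain ⟨_, ⟨U, hU, rfl⟩, hxU, hUV⟩ :=
    X.isBasis_affineOpens.exists_subset_of_mem_open hyV (f ⁻¹ᵁ V).2
  have hUV' : U ≤ f ⁻¹ᵁ V := hUV
  have : IsNoetherianRing Γ(X, U) := IsLocallyNoetherian.component_noetherian ⟨U, hU⟩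
  have : IsNoetherianRing Γ(Y, V) := IsLocallyNoetherian.component_noetherian ⟨V, hV⟩
  set φ := (f.appLE V U hUV').hom with hφ
  set P' := hU.primeIdealOf ⟨x', hxU⟩ with hP'
  obtain ⟨Q, hQprime, hQP, hQc, hQh⟩ := exists_prime_le_height_le φ P'.asIdeal
  let Qs : PrimeSpectrum Γ(X, U) := ⟨Q, hQprime⟩
  let xU : U := hU.isoSpec.inv Qs
  have hxQ : hU.primeIdealOf xU = Qs := primeIdealOf_isoSpec_inv hU Qs
  have h1 := IsAffineOpen.comap_primeIdealOf_appLE (f := f) V hV U hU hUV' xU.2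
  have h2 := IsAffineOpen.comap_primeIdealOf_appLE (f := f) V hV U hU hUV' hxU
  have h3 : hV.primeIdealOf ⟨f.base xU.1, hUV' xU.2⟩ = hV.primeIdealOf ⟨f.base x', hUV' hxU⟩ := by
    rw [← h1, ← h2]
    apply PrimeSpectrum.ext
    show (hU.primeIdealOf ⟨xU.1, xU.2⟩).asIdeal.comap φ = P'.asIdeal.comap φ
    rw [show (⟨xU.1, xU.2⟩ : U) = xU from rfl, hxQ]
    exact hQc
  have h4 : f.base xU.1 = f.base x' := by
    have e1 := hV.fromSpec_primeIdealOf ⟨f.base xU.1, hUV' xU.2⟩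
    have e2 := hV.fromSpec_primeIdealOf ⟨f.base x', hUV' hxU⟩
    rw [h3] at e1
    exact e1.symm.trans e2
  refine ⟨xU.1, h4, ?_⟩
  rw [ringKrullDim_stalk_eq_height hU xU, hxQ,
    ringKrullDim_stalk_eq_height hV ⟨f.base x', hUV' hxU⟩, ← h2]
  exact_mod_cast hQh


lemma ringKrullDim_le_of_flat_isLocalHom {A B : Type*} [CommRing A] [CommRing B]
    [IsLocalRing A] [IsLocalRing B] [IsNoetherianRing A] [IsNoetherianRing B]
    (φ : A →+* B) [IsLocalHom φ] (hφ : φ.Flat) : ringKrullDim A ≤ ringKrullDim B := by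
  algebraize [φ]
  have : (IsLocalRing.maximalIdeal B).LiesOver (IsLocalRing.maximalIdeal A) :=
    ⟨(IsLocalRing.maximalIdeal_comap φ).symm⟩
  have h := Ideal.height_eq_height_add_of_liesOver_of_hasGoingDown
    (IsLocalRing.maximalIdeal A) (IsLocalRing.maximalIdeal B)
  rw [← IsLocalRing.maximalIdeal_height_eq_ringKrullDim,
    ← IsLocalRing.maximalIdeal_height_eq_ringKrullDim, h]
  exact_mod_cast le_self_add

lemma dim_le_of_flat {X Y : Scheme.{u}} (f : X ⟶ Y) [IsLocallyNoetherian X]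
    [IsLocallyNoetherian Y] [Flat f] (x : X) :
    ringKrullDim (Y.presheaf.stalk (f.base x)) ≤ ringKrullDim (X.presheaf.stalk x) :=
  ringKrullDim_le_of_flat_isLocalHom (f.stalkMap x).hom (Flat.stalkMap f x)

end Groth.Agent.Helper3.StalkDim
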