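import Mathlib

/-!
# Saturation and stabilisation lemmas in a Noetherian ring
-/

namespace Groth.Agent.Helper3.AnnPi

universe u

section

variable {Λ : Type u} [CommRing Λ] (q : Ideal Λ) [q.IsPrime]

/-- If the image of `a` lies in the extension of `J` to the localisation at `q`, some multiple
`s * a` with `s ∉ q` lies in `J`. -/
theorem exists_mul_mem (J : Ideal Λ) (a : Λ)
    (h : algebraMap Λ (Localization.AtPrime q) a ∈
      J.map (algebraMap Λ (Localization.AtPrime q))) : ∃ s, s ∉ q ∧ s * a ∈ J := by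
  rw [IsLocalization.mem_map_algebraMap_iff q.primeCompl] at h
  obtain ⟨⟨⟨j, hj⟩, ⟨s, hs⟩⟩, h⟩ := h
  simp only at h
  rw [← map_mul, IsLocalization.eq_iff_exists q.primeCompl] at h
  obtain ⟨⟨c, hc⟩, h⟩ := h
  simp only at h
  refine ⟨c * s, q.primeCompl.mul_mem hc hs, ?_⟩
  have : c * s * a = c * j := by rw [← h]; ring
  rw [this]
  exact J.mul_mem_left c hj

theorem map_mem_of_mul_mem (J : Ideal Λ) (a s : Λ) (hs : s ∉ q) (h : s * a ∈ J) :
    algebraMap Λ (Localization.AtPrime q) a ∈ J.map (algebraMap Λ (Localization.AtPrime q)) := by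
  have hu : IsUnit (algebraMap Λ (Localization.AtPrime q) s) :=
    IsLocalization.map_units (Localization.AtPrime q) (⟨s, hs⟩ : q.primeCompl)
  have h1 := Ideal.mem_map_of_mem (algebraMap Λ (Localization.AtPrime q)) h
  rw [map_mul] at h1
  obtain ⟨u, hu⟩ := hu
  have h2 := Ideal.mul_mem_left _ (↑u⁻¹ : Localization.AtPrime q) h1
  rwa [← hu, ← mul_assoc, Units.inv_mul, one_mul] at h2

variable [IsNoetherianRing Λ]

/-- Uniform saturation: one `s ∉ q` works for the whole `q`-saturation of `J`. -/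
theorem exists_sat (J : Ideal Λ) :
    ∃ s, s ∉ q ∧ ∀ z, (∃ s', s' ∉ q ∧ s' * z ∈ J) → s * z ∈ J := by
  classical
  let A' : Ideal Λ := Ideal.comap (algebraMap Λ (Localization.AtPrime q))
    (J.map (algebraMap Λ (Localization.AtPrime q)))
  obtain ⟨G, hG⟩ := (isNoetherianRing_iff_ideal_fg Λ).mp inferInstance A'
  have hG' : ∀ g ∈ G, ∃ s, s ∉ q ∧ s * g ∈ J := by
    intro g hg
    apply exists_mul_mem q J g
    have : g ∈ A' := by rw [← hG]; exact Submodule.subset_span hg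
    exact this
  choose! σ hσ1 hσ2 using hG'
  refine ⟨∏ g ∈ G, σ g, ?_, ?_⟩
  · intro h
    obtain ⟨g, hg, hgq⟩ := (Ideal.IsPrime.prod_mem_iff).mp h
    exact hσ1 g hg hgq
  · rintro z ⟨s', hs', hz⟩
    have hzA : z ∈ A' := map_mem_of_mul_mem q J z s' hs' hz
    rw [← hG] at hzA
    refine Submodule.span_induction ?_ ?_ ?_ ?_ hzA
    · intro g hg
      obtain ⟨c, hc⟩ := Finset.dvd_prod_of_mem σ hg
      rw [hc, mul_comm (σ g) c, mul_assoc]
      exact J.mul_mem_left c (hσ2 g hg)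
    · simp
    · intro x y _ _ hx hy
      rw [mul_add]
      exact J.add_mem hx hy
    · intro a x _ hx
      rw [smul_eq_mul, mul_left_comm]
      exact J.mul_mem_left a hx

/-- Stabilisation of the chain `J : sᵏ`. -/
theorem exists_stab (J : Ideal Λ) (s : Λ) :
    ∃ m, 1 ≤ m ∧ ∀ k z, s ^ k * z ∈ J → s ^ m * z ∈ J := by
  let f : ℕ →o Ideal Λ :=
    { toFun := fun k => J.colon {s ^ k}
      monotone' := by
        intro a b hab z hz
        rw [Submodule.mem_colon_singleton] at hz ⊢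
        obtain ⟨c, rfl⟩ := Nat.exists_eq_add_of_le hab
        rw [smul_eq_mul] at hz ⊢
        have : z * s ^ (a + c) = s ^ c * (z * s ^ a) := by rw [pow_add]; ring
        rw [this]
        exact J.mul_mem_left _ hz }
  obtain ⟨n, hn⟩ := monotone_stabilizes_iff_noetherian.mpr (inferInstance : IsNoetherian Λ Λ) f
  refine ⟨max n 1, le_max_right _ _, fun k z hz => ?_⟩
  have hz' : z ∈ f k := by
    show z ∈ J.colon {s ^ k}
    rw [Submodule.mem_colon_singleton, smul_eq_mul, mul_comm]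
    exact hz
  have h1 : z ∈ f (max (max n 1) k) := f.monotone (le_max_right _ _) hz'
  rw [← hn _ ((le_max_left n 1).trans (le_max_left _ _)), hn _ (le_max_left n 1)] at h1
  have h2 : z ∈ J.colon {s ^ (max n 1)} := h1
  rw [Submodule.mem_colon_singleton, smul_eq_mul, mul_comm] at h2
  exact h2

/-- Key lemma: if `π` is a nonzerodivisor on `(Λ/J)_q`, then for a suitable `t ∉ q` the
annihilators of `tπ` and `(tπ)²` in `Λ/J` agree. -/
theorem exists_mul_ann_eq (J : Ideal Λ) (π : Λ)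
    (hnzd : ∀ z, π * z ∈ J → ∃ s, s ∉ q ∧ s * z ∈ J) :
    ∃ t, t ∉ q ∧ ∀ z, (t * π) ^ 2 * z ∈ J → (t * π) * z ∈ J := by
  obtain ⟨s, hsq, hs⟩ := exists_sat q J
  obtain ⟨m, hm1, hm⟩ := exists_stab J s
  refine ⟨s ^ m, fun h => hsq (Ideal.IsPrime.mem_of_pow_mem inferInstance m h), fun z hz => ?_⟩
  have h1 : π * (π * ((s ^ m) ^ 2 * z)) ∈ J := by
    have : π * (π * ((s ^ m) ^ 2 * z)) = (s ^ m * π) ^ 2 * z := by ring
    rw [this]; exact hz
  obtain ⟨s₁, hs₁, h2⟩ := hnzd _ h1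
  have h3 : π * (s₁ * ((s ^ m) ^ 2 * z)) ∈ J := by
    have : π * (s₁ * ((s ^ m) ^ 2 * z)) = s₁ * (π * ((s ^ m) ^ 2 * z)) := by ring
    rw [this]; exact h2
  obtain ⟨s₂, hs₂, h4⟩ := hnzd _ h3
  have h5 : s * ((s ^ m) ^ 2 * z) ∈ J := by
    apply hs
    refine ⟨s₂ * s₁, fun h => ?_, ?_⟩
    · rcases Ideal.IsPrime.mem_or_mem inferInstance h with h | h
      · exact hs₂ h
      · exact hs₁ h
    · rw [mul_assoc]; exact h4
  have h6 : s ^ (2 * m + 1) * z ∈ J := by
    have : s ^ (2 * m + 1) * z = s * ((s ^ m) ^ 2 * z) := by ring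
    rw [this]; exact h5
  have h7 := hm _ _ h6
  have : s ^ m * π * z = π * (s ^ m * z) := by ring
  rw [this]
  exact J.mul_mem_left π h7

end

end Groth.Agent.Helper3.AnnPi
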