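import Mathlib
import Groth.Agent.Lib.Helper8.RegularLocal7
import Groth.Agent.Lib.Helper8.DirCat2

/-!
# Direct limits of regular rings: elementwise criterion for regular sequences
-/

namespace Groth.Agent.Helper3.ColimReg

open IsLocalRing RingTheory.Sequence

universe u

/-- Elementwise description of regularity modulo an ideal. -/
theorem isSMulRegular_quot_iff {R : Type*} [CommRing R] (I : Ideal R) (r : R) :
    IsSMulRegular (R ⧸ (I • (⊤ : Submodule R R))) r ↔ ∀ b : R, r * b ∈ I → b ∈ I := by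
  have hI : (I • (⊤ : Submodule R R)) = I := by simp
  constructor
  · intro h b hb
    have h1 : r • (Submodule.Quotient.mk b : R ⧸ (I • (⊤ : Submodule R R))) =
        r • (0 : R ⧸ (I • (⊤ : Submodule R R))) := by
      rw [smul_zero, ← Submodule.Quotient.mk_smul, Submodule.Quotient.mk_eq_zero, hI]
      simpa using hb
    have h2 := h h1
    rw [Submodule.Quotient.mk_eq_zero, hI] at h2
    exact h2
  · intro h x y hxy
    obtain ⟨a, rfl⟩ := Submodule.Quotient.mk_surjective _ x
    obtain ⟨b, rfl⟩ := Submodule.Quotient.mk_surjective _ y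
    simp only [← Submodule.Quotient.mk_smul] at hxy
    rw [Submodule.Quotient.eq, hI] at hxy ⊢
    apply h
    have : r * (a - b) = r • a - r • b := by simp [mul_sub]
    rw [this]; exact hxy

/-- The ideal generated by the first `l` members of a family. -/
def initIdeal {R : Type*} [CommRing R] {n : ℕ} (x : Fin n → R) (l : ℕ) : Ideal R :=
  Ideal.span {r | ∃ j : Fin n, (j : ℕ) < l ∧ x j = r}

theorem ofList_take_ofFn {R : Type*} [CommRing R] {n : ℕ} (x : Fin n → R) (l : ℕ) :
    Ideal.ofList ((List.ofFn x).take l) = initIdeal x l := by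
  unfold Ideal.ofList initIdeal
  congr 1
  ext z
  simp only [Set.mem_setOf_eq, List.mem_take_iff_getElem, List.getElem_ofFn, List.length_ofFn]
  constructor
  · rintro ⟨i, hi, rfl⟩
    exact ⟨⟨i, (lt_min_iff.mp hi).2⟩, (lt_min_iff.mp hi).1, rfl⟩
  · rintro ⟨j, hj, rfl⟩
    exact ⟨j, lt_min_iff.mpr ⟨hj, j.2⟩, rfl⟩

theorem isWeaklyRegular_ofFn_iff {R : Type*} [CommRing R] {n : ℕ} (x : Fin n → R) :
    IsWeaklyRegular R (List.ofFn x) ↔
      ∀ (l : Fin n) (b : R), x l * b ∈ initIdeal x l → b ∈ initIdeal x l := by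
  rw [isWeaklyRegular_iff_Fin]
  constructor
  · intro h l b hb
    have h1 := h ⟨l, by simp⟩
    rw [ofList_take_ofFn, isSMulRegular_quot_iff] at h1
    have h2 : (List.ofFn x)[(⟨(l : ℕ), by simp⟩ : Fin (List.ofFn x).length)] = x l := by
      simp
    rw [h2] at h1
    exact h1 b hb
  · intro h i
    have hi : (i : ℕ) < n := by simpa using i.2
    rw [ofList_take_ofFn, isSMulRegular_quot_iff]
    have h2 : (List.ofFn x)[i] = x ⟨i, hi⟩ := by
      simp
    rw [h2]
    exact h ⟨i, hi⟩

theorem mem_initIdeal_iff {R : Type*} [CommRing R] {n : ℕ} (x : Fin n → R) (l : ℕ) (b : R) :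
    b ∈ initIdeal x l ↔ ∃ c : Fin n → R, b = ∑ j : Fin n, (if (j : ℕ) < l then c j * x j else 0) := by
  classical
  constructor
  · intro hb
    unfold initIdeal at hb
    induction hb using Submodule.span_induction with
    | mem z hz =>
      obtain ⟨j, hj, rfl⟩ := hz
      refine ⟨fun k => if k = j then 1 else 0, ?_⟩
      rw [Finset.sum_eq_single j]
      · simp [hj]
      · intro k _ hk; simp [hk]
      · simp
    | zero => exact ⟨0, by simp⟩
    | add u v _ _ hu hv =>
      obtain ⟨c, rfl⟩ := hu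
      obtain ⟨d, rfl⟩ := hv
      refine ⟨c + d, ?_⟩
      rw [← Finset.sum_add_distrib]
      refine Finset.sum_congr rfl fun j _ => ?_
      split_ifs <;> simp [add_mul]
    | smul a u _ hu =>
      obtain ⟨c, rfl⟩ := hu
      refine ⟨fun j => a * c j, ?_⟩
      rw [smul_eq_mul, Finset.mul_sum]
      refine Finset.sum_congr rfl fun j _ => ?_
      split_ifs <;> simp [mul_assoc]
  · rintro ⟨c, rfl⟩
    refine Ideal.sum_mem _ fun j _ => ?_
    split_ifs with hj
    · exact Ideal.mul_mem_left _ _ (Ideal.subset_span ⟨j, hj, rfl⟩)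
    · exact Ideal.zero_mem _

theorem map_initIdeal_le {R S : Type*} [CommRing R] [CommRing S] (φ : R →+* S) {n : ℕ}
    (x : Fin n → R) (l : ℕ) {b : R} (hb : b ∈ initIdeal x l) :
    φ b ∈ initIdeal (fun j => φ (x j)) l := by
  rw [mem_initIdeal_iff] at hb ⊢
  obtain ⟨c, rfl⟩ := hb
  refine ⟨fun j => φ (c j), ?_⟩
  rw [map_sum]
  refine Finset.sum_congr rfl fun j _ => ?_
  split_ifs <;> simp

end Groth.Agent.Helper3.ColimReg
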