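import Groth.Agent.Lib.Helper3.AnnPi1
import Groth.Agent.Lib.Helper3.ColimReg1
import Groth.Agent.Lib.Helper8.RegularLocal
import Groth.Agent.Lib.Helper8.RegPow

/-!
# Regular parameters with an annihilator condition (Stacks 07F? preparation lemma)
-/

namespace Groth.Agent.Helper3.AnnPi

open IsLocalRing RingTheory.Sequence

universe u

section Units

variable {S : Type*} [CommRing S]

theorem span_range_unit_mul {d : ℕ} (y : Fin d → S) (u : Fin d → Sˣ) :
    Ideal.span (Set.range fun i => (u i : S) * y i) = Ideal.span (Set.range y) := by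
  apply le_antisymm
  · rw [Ideal.span_le]
    rintro _ ⟨i, rfl⟩
    exact Ideal.mul_mem_left _ _ (Ideal.subset_span ⟨i, rfl⟩)
  · rw [Ideal.span_le]
    rintro _ ⟨i, rfl⟩
    have h : y i = (↑(u i)⁻¹ : S) * ((u i : S) * y i) := by
      rw [← mul_assoc, Units.inv_mul, one_mul]
    rw [h]
    exact Ideal.mul_mem_left _ _ (Ideal.subset_span ⟨i, rfl⟩)

theorem span_range_update_unit {d : ℕ} (y : Fin d → S) (i₀ : Fin d) (u : Sˣ) :
    Ideal.span (Set.range (Function.update y i₀ ((u : S) * y i₀))) = Ideal.span (Set.range y) := by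
  classical
  rw [← span_range_unit_mul y (Function.update (fun _ => 1) i₀ u)]
  congr 2
  funext i
  by_cases h : i = i₀
  · subst h; simp
  · simp [Function.update_of_ne h]

end Units

section

variable {Λ : Type u} [CommRing Λ] [IsNoetherianRing Λ] (q : Ideal Λ) [q.IsPrime]

/-- The ideal of `e`-th powers of the earlier entries. -/
def Jpow {d : ℕ} (π : Fin d → Λ) (e : ℕ) (i : Fin d) : Ideal Λ :=
  Ideal.span (Set.range fun j : {j : Fin d // (j : ℕ) < (i : ℕ)} => π j ^ e)

theorem Jpow_update {d : ℕ} (π : Fin d → Λ) (e : ℕ) (i₀ i : Fin d) (hi : (i : ℕ) ≤ (i₀ : ℕ))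
    (x : Λ) : Jpow (Function.update π i₀ x) e i = Jpow π e i := by
  unfold Jpow
  congr 2
  funext j
  have hne : (j : Fin d) ≠ i₀ := by
    intro h
    have := j.2
    rw [h] at this
    omega
  rw [Function.update_of_ne hne]

theorem nzd_of_regular [IsRegularLocalRing (Localization.AtPrime q)] {d : ℕ}
    (hd : ringKrullDim (Localization.AtPrime q) = d) (π : Fin d → Λ)
    (hπ : Ideal.span (Set.range fun i => algebraMap Λ (Localization.AtPrime q) (π i)) =
      maximalIdeal (Localization.AtPrime q))
    (e : ℕ) (he : 0 < e) (i : Fin d) (z : Λ) (hz : π i * z ∈ Jpow π e i) :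
    ∃ s, s ∉ q ∧ s * z ∈ Jpow π e i := by
  apply exists_mul_mem q
  have hreg := Groth.Agent.Helper8.RLR.isRegular_of_span_eq (Localization.AtPrime q) d hd
    (fun i => algebraMap Λ (Localization.AtPrime q) (π i)) hπ
  let v : Fin d → ℕ := fun j => if (j : ℕ) < (i : ℕ) then e else 1
  have hv : ∀ j, 1 ≤ v j := by
    intro j
    simp only [v]
    split_ifs <;> omega
  have hw := Groth.Agent.Helper8.RegPow.isWeaklyRegular_ofFn_pow d (Localization.AtPrime q)
    (fun i => algebraMap Λ (Localization.AtPrime q) (π i)) v hv hreg.toIsWeaklyRegular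
  rw [Groth.Agent.Helper3.ColimReg.isWeaklyRegular_ofFn_iff] at hw
  have hJ : Groth.Agent.Helper3.ColimReg.initIdeal
      (fun j => algebraMap Λ (Localization.AtPrime q) (π j) ^ v j) i =
      (Jpow π e i).map (algebraMap Λ (Localization.AtPrime q)) := by
    unfold Groth.Agent.Helper3.ColimReg.initIdeal Jpow
    rw [Ideal.map_span]
    congr 1
    ext r
    simp only [Set.mem_ofPred_eq, Set.mem_image, Set.mem_range, Subtype.exists, exists_prop]
    constructor
    · rintro ⟨j, hj, rfl⟩
      exact ⟨π j ^ e, ⟨j, hj, rfl⟩, by rw [map_pow, show v j = e from if_pos hj]⟩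
    · rintro ⟨_, ⟨j, hj, rfl⟩, rfl⟩
      exact ⟨j, hj, by rw [map_pow, show v j = e from if_pos hj]⟩
  have hvi : v i = 1 := by simp [v]
  have key := hw i (algebraMap Λ (Localization.AtPrime q) z) (by
    rw [hJ]
    show algebraMap Λ (Localization.AtPrime q) (π i) ^ v i * _ ∈ _
    rw [hvi, pow_one, ← map_mul]
    exact Ideal.mem_map_of_mem _ hz)
  rwa [hJ] at key

theorem exists_good [IsRegularLocalRing (Localization.AtPrime q)] {d : ℕ}
    (hd : ringKrullDim (Localization.AtPrime q) = d) (I : Ideal Λ) (n e : ℕ) (he : 0 < e)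
    (π₀ : Fin d → Λ)
    (hπ₀ : Ideal.span (Set.range fun i => algebraMap Λ (Localization.AtPrime q) (π₀ i)) =
      maximalIdeal (Localization.AtPrime q))
    (hI₀ : ∀ i, π₀ i ^ n ∈ I) (m : ℕ) (hm : m ≤ d) :
    ∃ π : Fin d → Λ,
      Ideal.span (Set.range fun i => algebraMap Λ (Localization.AtPrime q) (π i)) =
        maximalIdeal (Localization.AtPrime q) ∧
      (∀ i, π i ^ n ∈ I) ∧
      ∀ i : Fin d, (i : ℕ) < m → ∀ z, π i ^ 2 * z ∈ Jpow π e i → π i * z ∈ Jpow π e i := by
  classical
  induction m with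
  | zero => exact ⟨π₀, hπ₀, hI₀, fun i hi => absurd hi (Nat.not_lt_zero _)⟩
  | succ m ih =>
    obtain ⟨π, h1, h2, h3⟩ := ih (Nat.le_of_succ_le hm)
    let i₀ : Fin d := ⟨m, hm⟩
    obtain ⟨t, htq, ht⟩ := exists_mul_ann_eq q (Jpow π e i₀) (π i₀)
      (nzd_of_regular q hd π h1 e he i₀)
    refine ⟨Function.update π i₀ (t * π i₀), ?_, ?_, ?_⟩
    · have hu : IsUnit (algebraMap Λ (Localization.AtPrime q) t) :=
        IsLocalization.map_units (Localization.AtPrime q) (⟨t, htq⟩ : q.primeCompl)
      obtain ⟨u, hu⟩ := hu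
      have := span_range_update_unit (fun i => algebraMap Λ (Localization.AtPrime q) (π i)) i₀ u
      rw [h1] at this
      rw [← this]
      congr 2
      funext i
      by_cases h : i = i₀
      · subst h; simp [hu]
      · simp [Function.update_of_ne h]
    · intro i
      by_cases h : i = i₀
      · subst h
        rw [Function.update_self, mul_pow]
        exact I.mul_mem_left _ (h2 _)
      · rw [Function.update_of_ne h]
        exact h2 i
    · intro i hi z hz
      by_cases h : i = i₀
      · subst h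
        rw [Function.update_self, Jpow_update π e _ _ le_rfl] at hz ⊢
        exact ht z hz
      · have hi' : (i : ℕ) < m := by
          have : (i : ℕ) ≠ m := fun hh => h (Fin.ext hh)
          omega
        have hle : (i : ℕ) ≤ (i₀ : ℕ) := Nat.le_of_lt hi'
        rw [Function.update_of_ne h, Jpow_update π e i₀ i hle] at hz ⊢
        exact h3 i hi' z hz

end

end Groth.Agent.Helper3.AnnPi
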