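import Groth.Agent.Lib.Helper3.AnnPi2

/-!
# Regular parameters with an annihilator condition: the main statement
-/

namespace Groth.Agent.Helper3.AnnPi

open IsLocalRing

universe u

section

variable {Λ : Type u} [CommRing Λ] [IsNoetherianRing Λ] (q : Ideal Λ) [q.IsPrime]

theorem exists_init [IsRegularLocalRing (Localization.AtPrime q)] {d : ℕ}
    (hd : ringKrullDim (Localization.AtPrime q) = d) (I : Ideal Λ) (n : ℕ) (hn : 0 < n)
    (hpow : (q ^ n).map (algebraMap Λ (Localization.AtPrime q)) ≤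
      I.map (algebraMap Λ (Localization.AtPrime q))) :
    ∃ π₀ : Fin d → Λ,
      Ideal.span (Set.range fun i => algebraMap Λ (Localization.AtPrime q) (π₀ i)) =
        maximalIdeal (Localization.AtPrime q) ∧ ∀ i, π₀ i ^ n ∈ I := by
  classical
  have hfg : (maximalIdeal (Localization.AtPrime q)).FG :=
    (isNoetherianRing_iff_ideal_fg _).mp inferInstance _
  obtain ⟨s, hcard, hspan⟩ := Submodule.FG.exists_span_finset_card_eq_spanFinrank hfg
  have hd' : s.card = d := by
    have h1 := IsRegularLocalRing.spanFinrank_maximalIdeal (R := Localization.AtPrime q)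
    rw [hd] at h1
    rw [hcard]
    exact_mod_cast h1
  let eq := s.equivFinOfCardEq hd'
  let y : Fin d → Localization.AtPrime q := fun i => (eq.symm i : Localization.AtPrime q)
  have hy : Set.range y = (s : Set (Localization.AtPrime q)) := by
    ext r
    simp only [Set.mem_range, Finset.mem_coe, y]
    constructor
    · rintro ⟨i, rfl⟩
      exact (eq.symm i).2
    · intro hr
      exact ⟨eq ⟨r, hr⟩, by simp⟩
  have hyspan : Ideal.span (Set.range y) = maximalIdeal (Localization.AtPrime q) := by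
    rw [hy]; exact hspan
  have hym : ∀ i, y i ∈ maximalIdeal (Localization.AtPrime q) := by
    intro i
    rw [← hyspan]
    exact Ideal.subset_span ⟨i, rfl⟩
  -- numerators
  have h1 : ∀ i, ∃ (a σ : Λ), σ ∉ q ∧
      algebraMap Λ (Localization.AtPrime q) a = algebraMap Λ (Localization.AtPrime q) σ * y i := by
    intro i
    obtain ⟨a, ⟨σ, hσ⟩, h⟩ := IsLocalization.exists_mk'_eq q.primeCompl (y i)
    refine ⟨a, σ, hσ, ?_⟩
    rw [← h, mul_comm]
    exact (IsLocalization.mk'_spec _ a ⟨σ, hσ⟩).symm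
  choose a σ hσ ha using h1
  have haq : ∀ i, a i ∈ q := by
    intro i
    rw [← IsLocalization.AtPrime.to_map_mem_maximal_iff (Localization.AtPrime q) q (a i), ha i]
    exact Ideal.mul_mem_left _ _ (hym i)
  have h2 : ∀ i, ∃ τ, τ ∉ q ∧ τ * a i ^ n ∈ I := by
    intro i
    apply exists_mul_mem q
    apply hpow
    exact Ideal.mem_map_of_mem _ (Ideal.pow_mem_pow (haq i) n)
  choose τ hτ hτI using h2
  refine ⟨fun i => τ i * a i, ?_, ?_⟩
  · have hu : ∀ i, IsUnit (algebraMap Λ (Localization.AtPrime q) (τ i * σ i)) := fun i =>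
      IsLocalization.map_units (Localization.AtPrime q)
        (⟨τ i * σ i, q.primeCompl.mul_mem (hτ i) (hσ i)⟩ : q.primeCompl)
    choose u hu using hu
    rw [← hyspan, ← span_range_unit_mul y u]
    congr 2
    funext i
    rw [hu i, map_mul, map_mul, ha i, mul_assoc]
  · intro i
    obtain ⟨k, rfl⟩ : ∃ k, n = k + 1 := ⟨n - 1, by omega⟩
    have : (τ i * a i) ^ (k + 1) = τ i ^ k * (τ i * a i ^ (k + 1)) := by ring
    rw [this]
    exact I.mul_mem_left _ (hτI i)

/-- Main statement. -/
theorem main_S2109 (I : Ideal Λ) (hIq : I ≤ q) (n e d : ℕ) (hn : 0 < n) (he : 0 < e)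
    (hpow : (q ^ n).map (algebraMap Λ (Localization.AtPrime q)) ≤
      I.map (algebraMap Λ (Localization.AtPrime q)))
    [IsRegularLocalRing (Localization.AtPrime q)]
    (hd : ringKrullDim (Localization.AtPrime q) = d) :
    ∃ (N : ℕ) (π : Fin d → Λ), 0 < N ∧
      Ideal.span (Set.range fun i => algebraMap Λ (Localization.AtPrime q) (π i)) =
        q.map (algebraMap Λ (Localization.AtPrime q)) ∧
      (∀ i, π i ^ N ∈ I) ∧
      ∀ i : Fin d, ∀ x : Λ ⧸ Ideal.span
          (Set.range fun j : {j : Fin d // (j : ℕ) < (i : ℕ)} => π j ^ e),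
        Ideal.Quotient.mk _ (π i) ^ 2 * x = 0 → Ideal.Quotient.mk _ (π i) * x = 0 := by
  obtain ⟨π₀, h1, h2⟩ := exists_init q hd I n hn hpow
  obtain ⟨π, h3, h4, h5⟩ := exists_good q hd I n e he π₀ h1 h2 d le_rfl
  refine ⟨n, π, hn, ?_, h4, ?_⟩
  · rw [h3, Localization.AtPrime.map_eq_maximalIdeal]
  · intro i x hx
    obtain ⟨z, rfl⟩ := Ideal.Quotient.mk_surjective x
    rw [← map_pow, ← map_mul, Ideal.Quotient.eq_zero_iff_mem] at hx
    rw [← map_mul, Ideal.Quotient.eq_zero_iff_mem]
    exact h5 i i.2 z hx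

end

end Groth.Agent.Helper3.AnnPi
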