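import Mathlib

/-! Separating families of linear maps over an Artinian ring stay separating after flat base
change (helper3). -/

set_option autoImplicit false
set_option backward.isDefEq.respectTransparency.types false
set_option synthInstance.maxHeartbeats 400000
set_option linter.style.haveILetI false
universe u

open TensorProduct

namespace Groth.Agent.Helper3.ArtSep

section Core

variable {A : Type u} [CommRing A] [IsArtinianRing A] (B : Type u) [CommRing B] [Algebra A B]
  [Module.Flat A B] {M : Type u} [AddCommGroup M] [Module A M] {ι : Type u}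
  {N : ι → Type u} [∀ i, AddCommGroup (N i)] [∀ i, Module A (N i)] (u : ∀ i, M →ₗ[A] N i)

/-- over an Artinian ring, a finitely generated module on which a family of maps is jointly
injective embeds into a finite product -/
theorem exists_finset_injective (hu : ∀ m : M, (∀ i, u i m = 0) → m = 0) (M' : Submodule A M)
    [Module.Finite A M'] :
    ∃ J : Finset ι, ∀ m ∈ M', (∀ i ∈ J, u i m = 0) → m = 0 := by
  classical
  haveI : IsArtinian A M' := inferInstance
  let K : Finset ι → Submodule A M' := fun J => ⨅ i ∈ J, LinearMap.ker ((u i).comp M'.subtype)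
  obtain ⟨K₀, ⟨J₀, rfl⟩, hmin⟩ := IsArtinian.set_has_minimal (Set.range K) ⟨K ∅, ∅, rfl⟩
  refine ⟨J₀, fun m hm h => ?_⟩
  have hmK : (⟨m, hm⟩ : M') ∈ K J₀ := by
    simp only [K, Submodule.mem_iInf, LinearMap.mem_ker]
    intro i hi
    exact h i hi
  apply hu m
  intro i
  have hle : K (insert i J₀) ≤ K J₀ := by
    intro x hx
    simp only [K, Submodule.mem_iInf, LinearMap.mem_ker] at hx ⊢
    intro j hj
    exact hx j (Finset.mem_insert_of_mem hj)
  have heq : K (insert i J₀) = K J₀ := by
    by_contra hne
    exact hmin (K (insert i J₀)) ⟨_, rfl⟩ (lt_of_le_of_ne hle hne)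
  rw [← heq] at hmK
  simp only [K, Submodule.mem_iInf, LinearMap.mem_ker] at hmK
  exact hmK i (Finset.mem_insert_self i J₀)

include B in
/-- **flat base change of a separating family over an Artinian ring** -/
theorem lTensor_separating (hu : ∀ m : M, (∀ i, u i m = 0) → m = 0) (t : B ⊗[A] M)
    (ht : ∀ i, (u i).lTensor B t = 0) : t = 0 := by
  classical
  obtain ⟨M', hfin, hM'⟩ := TensorProduct.exists_finite_submodule_right_of_setFinite
    ({t} : Set (B ⊗[A] M)) (Set.finite_singleton t)
  obtain ⟨t', rfl⟩ := hM' (Set.mem_singleton t)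
  obtain ⟨J, hJ⟩ := exists_finset_injective u hu M'
  let w : M' →ₗ[A] (∀ i : J, N i.1) := LinearMap.pi fun i => (u i.1).comp M'.subtype
  have hw : Function.Injective w := by
    rw [injective_iff_map_eq_zero]
    intro m hm
    have : (m : M) = 0 := hJ m.1 m.2 (fun i hi => congrFun hm ⟨i, hi⟩)
    exact Subtype.ext this
  have hwB : Function.Injective (w.lTensor B) :=
    Module.Flat.lTensor_preserves_injective_linearMap w hw
  have h0 : w.lTensor B t' = 0 := by
    apply (TensorProduct.piRight A A B (fun i : J => N i.1)).injective
    rw [map_zero]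
    funext i
    have h1 : ∀ z : B ⊗[A] M', (TensorProduct.piRight A A B (fun i : J => N i.1))
        (w.lTensor B z) i = ((u i.1).comp M'.subtype).lTensor B z := by
      intro z
      induction z using TensorProduct.induction_on with
      | zero => simp
      | tmul b m => rfl
      | add x y hx hy =>
        simp only [map_add, Pi.add_apply, hx, hy]
    rw [h1, LinearMap.lTensor_comp]
    exact ht i.1
  rw [hwB (h0.trans (map_zero _).symm), map_zero]

include B in
/-- the same, for abstract base changes -/
theorem separating_of_isBaseChange (hu : ∀ m : M, (∀ i, u i m = 0) → m = 0)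
    {P : Type u} [AddCommGroup P] [Module B P] [Module A P] [IsScalarTower A B P]
    (l : M →ₗ[A] P) (hl : IsBaseChange B l)
    {Q : ι → Type u} [∀ i, AddCommGroup (Q i)] [∀ i, Module B (Q i)] [∀ i, Module A (Q i)]
    [∀ i, IsScalarTower A B (Q i)] (li : ∀ i, N i →ₗ[A] Q i) (hli : ∀ i, IsBaseChange B (li i))
    (v : ∀ i, P →ₗ[B] Q i) (hv : ∀ i m, v i (l m) = li i (u i m))
    (p : P) (hp : ∀ i, v i p = 0) : p = 0 := by
  have key : ∀ (i : ι) (t : B ⊗[A] M),
      (hli i).equiv ((u i).lTensor B t) = v i (hl.equiv t) := by
    intro i t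
    induction t using TensorProduct.induction_on with
    | zero => simp
    | tmul b m =>
      rw [LinearMap.lTensor_tmul, IsBaseChange.equiv_tmul, IsBaseChange.equiv_tmul, map_smul, hv]
    | add x y hx hy => simp only [map_add, hx, hy]
  obtain ⟨t, rfl⟩ := hl.equiv.surjective p
  have ht : ∀ i, (u i).lTensor B t = 0 := by
    intro i
    apply (hli i).equiv.injective
    rw [key, hp, map_zero]
  rw [lTensor_separating B u hu t ht, map_zero]

end Core

end Groth.Agent.Helper3.ArtSep
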