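import Mathlib
import Groth.Prelude.Def_Coh
import Groth.Agent.Lib.Helper3.ArtSep1
import Groth.Agent.Lib.Lead.BCU3
import Groth.Agent.Lib.Lead.LimZ3

/-! Separating families of homomorphisms of quasi-coherent modules on an Artinian scheme stay
separating after flat pullback (helper3). -/

set_option autoImplicit false
set_option backward.isDefEq.respectTransparency.types false
set_option synthInstance.maxHeartbeats 400000
set_option linter.style.haveILetI false
universe u

open CategoryTheory AlgebraicGeometry TopologicalSpace TensorProduct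

namespace Groth.Agent.Helper3.ArtSep

open Scheme.Modules Groth.Agent.Lead.BCU Groth.Agent.Lead.LimZ

/-- a morphism of modules as a linear map on sections -/
noncomputable def appL {X : Scheme.{u}} {M N : X.Modules} (φ : M ⟶ N) (U : X.Opens) :
    Γ(M, U) →ₗ[Γ(X, U)] Γ(N, U) where
  toFun m := φ.app U m
  map_add' a b := map_add _ a b
  map_smul' r m := Hom.app_smul φ r m

/-- the local statement on a pair of affine charts -/
theorem separating_chart {X X' : Scheme.{u}} [IsLocallyArtinian X] (F : X.Modules)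
    [F.IsQuasicoherent] {ι : Type u} (G : ι → X.Modules) [∀ i, (G i).IsQuasicoherent]
    (u : ∀ i, F ⟶ G i) (g : X' ⟶ X) [Flat g] {U : X.Opens} (hU : IsAffineOpen U)
    {U' : X'.Opens} (hU' : IsAffineOpen U') (e : U' ≤ g ⁻¹ᵁ U)
    (h : ∀ t : Γ(F, U), (∀ i, (u i).app U t = 0) → t = 0)
    (t : Γ((pullback g).obj F, U')) (ht : ∀ i, ((pullback g).map (u i)).app U' t = 0) :
    t = 0 := by
  haveI : IsArtinianRing Γ(X, U) := IsLocallyArtinian.isArtinianRing_presheaf_obj ⟨U, hU⟩
  letI alg : Algebra Γ(X, U) Γ(X', U') := (g.appLE U U' e).hom.toAlgebra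
  haveI : Module.Flat Γ(X, U) Γ(X', U') :=
    HasRingHomProperty.appLE (P := @Flat) g inferInstance ⟨U, hU⟩ ⟨U', hU'⟩ e
  letI mF : Module Γ(X, U) Γ((pullback g).obj F, U') := Module.compHom _ (g.appLE U U' e).hom
  haveI tF : IsScalarTower Γ(X, U) Γ(X', U') Γ((pullback g).obj F, U') :=
    IsScalarTower.of_algebraMap_smul fun r m => rfl
  letI mG : ∀ i, Module Γ(X, U) Γ((pullback g).obj (G i), U') := fun i =>
    Module.compHom _ (g.appLE U U' e).hom
  haveI tG : ∀ i, IsScalarTower Γ(X, U) Γ(X', U') Γ((pullback g).obj (G i), U') := fun i =>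
    IsScalarTower.of_algebraMap_smul fun r m => rfl
  obtain ⟨lF, hlF, hbF⟩ := isBC_unitRes g F hU hU' e
  choose lG hlG hbG using fun i => isBC_unitRes g (G i) hU hU' e
  refine separating_of_isBaseChange Γ(X', U') (fun i => appL (u i) U) h lF hbF lG hbG
    (fun i => appL ((pullback g).map (u i)) U') ?_ t ht
  intro i m
  show ((pullback g).map (u i)).app U' (lF m) = lG i ((u i).app U m)
  rw [hlF, hlG, unitRes_naturality]

theorem S4912_main {X X' : Scheme.{u}} [IsNoetherian X]
    (hX : topologicalKrullDim X ≤ 0) (F : X.Modules) [Coh.IsQCoh F] {ι : Type u}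
    (G : ι → X.Modules) [∀ i, Coh.IsQCoh (G i)] (u : ∀ i, F ⟶ G i) (g : X' ⟶ X) [Flat g]
    (h : ∀ (V : X.Opens) (t : ↑(F.presheaf.obj (Opposite.op V))),
      (∀ i, (Scheme.Modules.Hom.mapPresheaf (u i)).app (Opposite.op V) t = 0) → t = 0) :
    ∀ (V : X'.Opens) (t : ↑(((Scheme.Modules.pullback g).obj F).presheaf.obj (Opposite.op V))),
      (∀ i, (Scheme.Modules.Hom.mapPresheaf ((Scheme.Modules.pullback g).map (u i))).app
        (Opposite.op V) t = 0) → t = 0 := by
  intro V t ht
  haveI : F.IsQuasicoherent := ‹Coh.IsQCoh F›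
  haveI : ∀ i, (G i).IsQuasicoherent := fun i => ‹∀ i, Coh.IsQCoh (G i)› i
  haveI : IsLocallyArtinian X := .of_topologicalKrullDim_le_zero hX
  apply ((pullback g).obj F).isSheaf.section_ext (U := Opposite.op V)
  intro x' hx'
  obtain ⟨_, ⟨U, hU, rfl⟩, hxU, -⟩ := X.isBasis_affineOpens.exists_subset_of_mem_open
    (Set.mem_univ (g x')) isOpen_univ
  obtain ⟨_, ⟨U', hU', rfl⟩, hxU', hU'sub⟩ := X'.isBasis_affineOpens.exists_subset_of_mem_open
    (show x' ∈ ((V ⊓ g ⁻¹ᵁ U : X'.Opens) : Set X') from ⟨hx', hxU⟩) (V ⊓ g ⁻¹ᵁ U).isOpen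
  have hU'V : U' ≤ V := fun y hy => (hU'sub hy).1
  have e : U' ≤ g ⁻¹ᵁ U := fun y hy => (hU'sub hy).2
  refine ⟨U', hU'V, hxU', ?_⟩
  rw [map_zero]
  refine separating_chart F G u g hU hU' e (fun t₀ ht₀ => h U t₀ ht₀) _ (fun i => ?_)
  rw [Groth.Agent.Lead.CIU.hom_naturality_apply ((pullback g).map (u i)) hU'V t]
  have := ht i
  change ((pullback g).map (u i)).app V t = 0 at this
  rw [this, map_zero]

end Groth.Agent.Helper3.ArtSep
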