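import Mathlib
import Groth.Prelude.Def_QFDual

/-!
# Associated primes of the relative dualizing module of a quasi-finite map (helper3)
-/

set_option autoImplicit false
universe u v
open TensorProduct AlgebraicGeometry CategoryTheory

namespace Groth.Agent.Helper3.AssQF

/-- The localised ring map at a point of an open immersion `Spec S → Spec R` is bijective. -/
theorem localRingHom_bijective_of_isOpenImmersion {R S : Type u} [CommRing R] [CommRing S]
    (f : R →+* S) (hf : IsOpenImmersion (Spec.map (CommRingCat.ofHom f)))
    (q : Ideal S) [hq : q.IsPrime] :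
    Function.Bijective (Localization.localRingHom (q.comap f) q f rfl) := by
  haveI := hf
  have h1 : IsIso ((Spec.map (CommRingCat.ofHom f)).stalkMap (⟨q, hq⟩ : PrimeSpectrum S)) :=
    inferInstance
  have h2 := ((MorphismProperty.isomorphisms CommRingCat).arrow_mk_iso_iff
    (Scheme.arrowStalkMapSpecIso (CommRingCat.ofHom f) (⟨q, hq⟩ : PrimeSpectrum S))).mp h1
  have h3 : IsIso (CommRingCat.ofHom (Localization.localRingHom (q.comap f) q f rfl)) := h2
  exact ConcreteCategory.bijective_of_isIso
    (CommRingCat.ofHom (Localization.localRingHom (q.comap f) q f rfl))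

/-- For an open immersion `Spec S → Spec R`, the local ring of `S` at `q` is the localisation of
`R` at the preimage of `q`. -/
theorem isLocalization_of_isOpenImmersion {R S : Type u} [CommRing R] [CommRing S] [Algebra R S]
    (hf : IsOpenImmersion (Spec.map (CommRingCat.ofHom (algebraMap R S))))
    (q : Ideal S) [hq : q.IsPrime] :
    IsLocalization (q.comap (algebraMap R S)).primeCompl (Localization.AtPrime q) := by
  let e0 : Localization.AtPrime (q.comap (algebraMap R S)) ≃+* Localization.AtPrime q :=
    RingEquiv.ofBijective _ (localRingHom_bijective_of_isOpenImmersion (algebraMap R S) hf q)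
  let e : Localization.AtPrime (q.comap (algebraMap R S)) ≃ₐ[R] Localization.AtPrime q :=
    AlgEquiv.ofRingEquiv (f := e0) (by
      intro r
      show Localization.localRingHom (q.comap (algebraMap R S)) q (algebraMap R S) rfl
        (algebraMap R _ r) = algebraMap R _ r
      rw [Localization.localRingHom_to_map,
        IsScalarTower.algebraMap_apply R S (Localization.AtPrime q)])
  exact IsLocalization.isLocalization_of_algEquiv (q.comap (algebraMap R S)).primeCompl e

/-- Associated primes of a base change along an open immersion of affine schemes. -/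
theorem ass_tensor_iff {R S : Type u} [CommRing R] [CommRing S] [Algebra R S]
    [IsNoetherianRing R] [IsNoetherianRing S]
    (hf : IsOpenImmersion (Spec.map (CommRingCat.ofHom (algebraMap R S))))
    (N : Type v) [AddCommGroup N] [Module R N] (q : Ideal S) [hq : q.IsPrime] :
    q ∈ associatedPrimes S (S ⊗[R] N) ↔ q.comap (algebraMap R S) ∈ associatedPrimes R N := by
  haveI hloc : IsLocalization (q.comap (algebraMap R S)).primeCompl (Localization.AtPrime q) :=
    isLocalization_of_isOpenImmersion hf q
  let f₂ : N →ₗ[R] (Localization.AtPrime q) ⊗[R] N := TensorProduct.mk R (Localization.AtPrime q) N 1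
  have hb₂ : IsBaseChange (Localization.AtPrime q) f₂ :=
    TensorProduct.isBaseChange R N (Localization.AtPrime q)
  haveI : IsLocalizedModule (q.comap (algebraMap R S)).primeCompl f₂ :=
    (isLocalizedModule_iff_isBaseChange _ (Localization.AtPrime q) f₂).mpr hb₂
  let f₁ : S ⊗[R] N →ₗ[S] (Localization.AtPrime q) ⊗[R] N :=
    TensorProduct.AlgebraTensorModule.map (Algebra.linearMap S (Localization.AtPrime q))
      (LinearMap.id : N →ₗ[R] N)
  have hb₁ : IsBaseChange (Localization.AtPrime q) f₁ := by
    apply IsBaseChange.of_comp (TensorProduct.isBaseChange R N S)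
    convert hb₂ using 1
    ext n
    simp [f₁, f₂]
  haveI : IsLocalizedModule q.primeCompl f₁ :=
    (isLocalizedModule_iff_isBaseChange _ (Localization.AtPrime q) f₁).mpr hb₁
  have e₁ := Module.associatedPrimes.preimage_comap_associatedPrimes_eq_associatedPrimes_of_isLocalizedModule
    q.primeCompl (Localization.AtPrime q) f₁
  have e₂ := Module.associatedPrimes.preimage_comap_associatedPrimes_eq_associatedPrimes_of_isLocalizedModule
    (q.comap (algebraMap R S)).primeCompl (Localization.AtPrime q) f₂
  have h₁ : (IsLocalRing.maximalIdeal (Localization.AtPrime q)).comap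
      (algebraMap S (Localization.AtPrime q)) = q := Localization.AtPrime.under_maximalIdeal
  have h₂ : (IsLocalRing.maximalIdeal (Localization.AtPrime q)).comap
      (algebraMap R (Localization.AtPrime q)) = q.comap (algebraMap R S) := by
    rw [IsScalarTower.algebraMap_eq R S (Localization.AtPrime q), ← Ideal.comap_comap, h₁]
  constructor
  · intro h
    have h3 : IsLocalRing.maximalIdeal (Localization.AtPrime q) ∈
        associatedPrimes (Localization.AtPrime q) ((Localization.AtPrime q) ⊗[R] N) := by
      rw [← e₁, Set.mem_preimage, h₁]; exact h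
    rw [← e₂] at h3
    have h4 : (IsLocalRing.maximalIdeal (Localization.AtPrime q)).comap
      (algebraMap R (Localization.AtPrime q)) ∈ associatedPrimes R N := h3
    rwa [h₂] at h4
  · intro h
    have h3 : IsLocalRing.maximalIdeal (Localization.AtPrime q) ∈
        associatedPrimes (Localization.AtPrime q) ((Localization.AtPrime q) ⊗[R] N) := by
      rw [← e₂, Set.mem_preimage, h₂]; exact h
    rw [← e₁] at h3
    have h4 : (IsLocalRing.maximalIdeal (Localization.AtPrime q)).comap
      (algebraMap S (Localization.AtPrime q)) ∈ associatedPrimes S (S ⊗[R] N) := h3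
    rwa [h₁] at h4

/-- A finite module over a domain has a functional not vanishing at a given non-torsion
element. -/
theorem exists_functional_ne_zero (R M : Type*) [CommRing R] [IsDomain R] [AddCommGroup M]
    [Module R M] [Module.Finite R M] (m : M) (hm : ∀ r : R, r • m = 0 → r = 0) :
    ∃ ψ : M →ₗ[R] R, ψ m ≠ 0 := by
  classical
  have h1 : (1 : FractionRing R) ⊗ₜ[R] m ≠ 0 := by
    have hinj : Function.Injective (LinearMap.toSpanSingleton R M m) := by
      rw [← LinearMap.ker_eq_bot, LinearMap.ker_eq_bot']
      intro r hr
      exact hm r (by simpa using hr)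
    have hinj2 := Module.Flat.lTensor_preserves_injective_linearMap (M := FractionRing R) _ hinj
    intro h0
    have h2 : (LinearMap.lTensor (FractionRing R) (LinearMap.toSpanSingleton R M m))
        ((1 : FractionRing R) ⊗ₜ (1 : R)) = 0 := by
      simp [h0]
    have h3 := hinj2 (h2.trans (map_zero _).symm)
    have h4 := congrArg (TensorProduct.rid R (FractionRing R)) h3
    simp at h4
  obtain ⟨l, hl⟩ : ∃ l : Module.Dual (FractionRing R) ((FractionRing R) ⊗[R] M),
      l ((1 : FractionRing R) ⊗ₜ[R] m) ≠ 0 := by
    by_contra h
    rw [not_exists] at h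
    exact h1 ((Module.forall_dual_apply_eq_zero_iff (FractionRing R) _).mp
      (fun φ => not_not.mp (h φ)))
  let f : M →ₗ[R] FractionRing R :=
    (l.restrictScalars R) ∘ₗ (TensorProduct.mk R (FractionRing R) M 1)
  have hfm : f m ≠ 0 := hl
  obtain ⟨S, hS⟩ := (Module.Finite.fg_top : (⊤ : Submodule R M).FG)
  obtain ⟨c, hc⟩ := IsLocalization.exist_integer_multiples_of_finset (nonZeroDivisors R)
    (S.image f)
  have hg : ∀ y : M, ((c : R) • f) y ∈ LinearMap.range (Algebra.linearMap R (FractionRing R)) := by
    intro y
    have hy : y ∈ Submodule.span R (S : Set M) := by rw [hS]; trivial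
    have hle : Submodule.span R (S : Set M) ≤
        (LinearMap.range (Algebra.linearMap R (FractionRing R))).comap ((c : R) • f) := by
      rw [Submodule.span_le]
      intro s hs
      obtain ⟨r, hr⟩ := hc (f s) (Finset.mem_image_of_mem f hs)
      exact ⟨r, hr⟩
    exact hle hy
  have hinj : Function.Injective (Algebra.linearMap R (FractionRing R)) :=
    IsFractionRing.injective R (FractionRing R)
  let ψ : M →ₗ[R] R := (LinearEquiv.ofInjective (Algebra.linearMap R (FractionRing R)) hinj).symm.toLinearMap ∘ₗ
    (((c : R) • f).codRestrict _ hg)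
  refine ⟨ψ, fun h0 => ?_⟩
  have h5 : (LinearEquiv.ofInjective (Algebra.linearMap R (FractionRing R)) hinj) (ψ m) =
      (((c : R) • f).codRestrict _ hg) m := LinearEquiv.apply_symm_apply _ _
  rw [h0, map_zero] at h5
  have h6 : ((c : R) • f) m = 0 := (congrArg Subtype.val h5).symm
  rw [LinearMap.smul_apply, Algebra.smul_def, mul_eq_zero] at h6
  rcases h6 with h6 | h6
  · have : (c : R) = 0 := (IsFractionRing.injective R (FractionRing R)) (h6.trans (map_zero _).symm)
    exact nonZeroDivisors.coe_ne_zero c this
  · exact hfm h6

/-- Associated primes of `Hom_A(B', A)` over `B'`, for `B'` finite over the Noetherian ring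
`A`: those primes whose contraction to `A` is an associated prime of `A`. -/
theorem ass_omega (A : Type u) (B' : Type v) [CommRing A] [CommRing B'] [Algebra A B']
    [IsNoetherianRing A] [Module.Finite A B'] (q' : Ideal B') [hq' : q'.IsPrime] :
    q' ∈ associatedPrimes B' (Disc.Omega A B') ↔
      q'.comap (algebraMap A B') ∈ associatedPrimes A A := by
  haveI : IsNoetherianRing B' := IsNoetherianRing.of_finite A B'
  constructor
  · intro h
    obtain ⟨-, φ, hφ⟩ := (isAssociatedPrime_iff).mp h
    have hmem : ∀ b : B', b ∈ q' ↔ b • φ = 0 := by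
      intro b
      rw [hφ, Submodule.mem_colon_singleton, Submodule.mem_bot]
    obtain ⟨S, hS⟩ := (Module.Finite.fg_top : (⊤ : Submodule A B').FG)
    have hpmem : ∀ a : A, a ∈ q'.comap (algebraMap A B') ↔
        ∀ s ∈ S, a * φ.toLinearMap s = 0 := by
      intro a
      rw [Ideal.mem_comap, hmem]
      constructor
      · intro h0 s _
        have h1 := congrArg (fun ψ => ψ.toLinearMap s) h0
        have h2 : φ.toLinearMap (algebraMap A B' a * s) = 0 := h1
        rw [← Algebra.smul_def, map_smul, smul_eq_mul] at h2
        exact h2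
      · intro h0
        have h1 : a • φ.toLinearMap = 0 := by
          apply LinearMap.ext_on hS
          intro s hs
          simp [h0 s hs]
        apply Disc.Omega.ext
        ext x
        show φ.toLinearMap (algebraMap A B' a * x) = 0
        rw [← Algebra.smul_def, map_smul]
        exact LinearMap.congr_fun h1 x
    haveI hp : (q'.comap (algebraMap A B')).IsPrime := Ideal.comap_isPrime _ _
    have hle : S.inf (fun s => Submodule.colon (⊥ : Submodule A A) {φ.toLinearMap s}) ≤
        q'.comap (algebraMap A B') := by
      intro a ha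
      rw [Submodule.mem_finsetInf] at ha
      rw [hpmem]
      intro s hs
      have := ha s hs
      rw [Submodule.mem_colon_singleton, Submodule.mem_bot, smul_eq_mul] at this
      exact this
    obtain ⟨s, hs, hsle⟩ := (Ideal.IsPrime.inf_le' hp).mp hle
    refine isAssociatedPrime_iff.mpr ⟨hp, φ.toLinearMap s, le_antisymm ?_ hsle⟩
    intro a ha
    rw [Submodule.mem_colon_singleton, Submodule.mem_bot, smul_eq_mul]
    exact (hpmem a).mp ha s hs
  · intro h
    obtain ⟨-, g, hg⟩ := (isAssociatedPrime_iff_exists_injective_linearMap _ _).mp h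
    haveI : Module.Finite A (B' ⧸ q') := inferInstance
    haveI : Module.Finite (A ⧸ q'.under A) (B' ⧸ q') :=
      Module.Finite.of_restrictScalars_finite A (A ⧸ q'.under A) (B' ⧸ q')
    haveI : (q'.under A).IsPrime := Ideal.comap_isPrime _ _
    obtain ⟨ψ, hψ⟩ := exists_functional_ne_zero (A ⧸ q'.under A) (B' ⧸ q') 1 (by
      intro r hr
      rw [← Algebra.algebraMap_eq_smul_one] at hr
      exact (FaithfulSMul.algebraMap_injective (A ⧸ q'.under A) (B' ⧸ q'))
        (hr.trans (map_zero _).symm))
    let π : B' →ₗ[A] (B' ⧸ q') := (Ideal.Quotient.mkₐ A q').toLinearMap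
    let φ : Disc.Omega A B' := ⟨g ∘ₗ (ψ.restrictScalars A) ∘ₗ π⟩
    refine isAssociatedPrime_iff.mpr ⟨hq', φ, ?_⟩
    ext b
    rw [Submodule.mem_colon_singleton, Submodule.mem_bot]
    constructor
    · intro hb
      apply Disc.Omega.ext
      ext x
      show g (ψ (Ideal.Quotient.mk q' (b * x))) = 0
      have h1 : Ideal.Quotient.mk q' (b * x) = 0 :=
        Ideal.Quotient.eq_zero_iff_mem.mpr (q'.mul_mem_right x hb)
      rw [h1, map_zero, map_zero]
    · intro hb
      by_contra hbq
      have hb0 : (Ideal.Quotient.mk q' b) ≠ 0 := fun h0 =>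
        hbq (Ideal.Quotient.eq_zero_iff_mem.mp h0)
      have hψb : ∀ y : B' ⧸ q', ψ (Ideal.Quotient.mk q' b * y) = 0 := by
        intro y
        obtain ⟨z, rfl⟩ := Ideal.Quotient.mk_surjective y
        have h1 := congrArg (fun θ => θ.toLinearMap z) hb
        have h2 : g (ψ (Ideal.Quotient.mk q' (b * z))) = 0 := h1
        have h3 := hg (h2.trans (map_zero g).symm)
        rwa [map_mul] at h3
      have hint : IsIntegral (A ⧸ q'.under A) (Ideal.Quotient.mk q' b) :=
        Algebra.IsIntegral.isIntegral _
      have hne := Ideal.comap_ne_bot_of_integral_mem hb0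
        (Ideal.mem_span_singleton_self (Ideal.Quotient.mk q' b)) hint
      obtain ⟨a, ha, ha0⟩ := Submodule.exists_mem_ne_zero_of_ne_bot hne
      obtain ⟨d, hd⟩ := Ideal.mem_span_singleton'.mp (Ideal.mem_comap.mp ha)
      apply hψ
      have h7 : a • ψ 1 = 0 := by
        rw [← map_smul, Algebra.smul_def, mul_one, ← hd, mul_comm]
        exact hψb d
      rw [smul_eq_mul, mul_eq_zero] at h7
      exact h7.resolve_left ha0

end Groth.Agent.Helper3.AssQF
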