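import Mathlib
import Groth.Agent.Lib.Helper7.Hensel.IdemLift
import Groth.Agent.Lib.Helper7.Hensel.Integral
import Groth.Agent.Lib.Helper7.Hensel.Local
import Groth.Agent.Lib.Helper7.Azumaya.BaseChange
import Groth.Agent.Lib.Helper8.LocalSN

/-! Azumaya algebras over henselian local rings: isomorphisms of special fibres lift (S5703).

Main tools: a Nakayama bijectivity criterion, lifting of idempotents in a (non-commutative)
finite algebra over a henselian local ring, and the `(A, B)`-bimodule `(A ⊗ Bᵐᵒᵖ) ε` for a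
lift `ε` of a rank-one idempotent of `End (k ⊗ B)`. -/

open TensorProduct MulOpposite Polynomial

universe u v

namespace Groth.Agent.Helper3.AzHens

section Nakayama

variable {R : Type*} [CommRing R] [IsLocalRing R]

/-- A linear map from a finite module to a finite projective module over a local ring which is
surjective modulo `𝔪` and whose kernel lies in `𝔪 M` is bijective. -/
theorem bijective_of_nakayama {M N : Type*} [AddCommGroup M] [Module R M] [Module.Finite R M]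
    [AddCommGroup N] [Module R N] [Module.Finite R N] [Module.Projective R N] (g : M →ₗ[R] N)
    (hsurj : ∀ n : N, ∃ x : M, n - g x ∈ (IsLocalRing.maximalIdeal R • ⊤ : Submodule R N))
    (hker : ∀ x : M, g x = 0 → x ∈ (IsLocalRing.maximalIdeal R • ⊤ : Submodule R M)) :
    Function.Bijective g := by
  have hjac : IsLocalRing.maximalIdeal R ≤ Ideal.jacobson ⊥ :=
    IsLocalRing.maximalIdeal_le_jacobson ⊥
  have hs : Function.Surjective g := by
    rw [← LinearMap.range_eq_top, eq_top_iff]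
    apply Submodule.le_of_le_smul_of_le_jacobson_bot Module.Finite.fg_top hjac
    intro n _
    obtain ⟨x, hx⟩ := hsurj n
    have : n = g x + (n - g x) := by abel
    rw [this]
    exact Submodule.add_mem_sup (LinearMap.mem_range_self g x) hx
  refine ⟨?_, hs⟩
  obtain ⟨s, hs'⟩ := Module.projective_lifting_property g LinearMap.id hs
  have hgs : ∀ n, g (s n) = n := fun n => LinearMap.congr_fun hs' n
  let p : M →ₗ[R] M := LinearMap.id - s ∘ₗ g
  have hp : ∀ x, g (p x) = 0 := by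
    intro x
    simp only [p, LinearMap.sub_apply, LinearMap.id_apply, LinearMap.comp_apply, map_sub, hgs,
      sub_self]
  have hpk : ∀ x, g x = 0 → p x = x := by
    intro x hx
    simp only [p, LinearMap.sub_apply, LinearMap.id_apply, LinearMap.comp_apply, hx, map_zero,
      sub_zero]
  have hK : LinearMap.ker g = LinearMap.range p := by
    apply le_antisymm
    · intro x hx
      exact ⟨x, hpk x (LinearMap.mem_ker.mp hx)⟩
    · rintro _ ⟨x, rfl⟩
      exact LinearMap.mem_ker.mpr (hp x)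
  have hfg : (LinearMap.ker g).FG := by
    rw [hK, LinearMap.range_eq_map]
    exact Module.Finite.fg_top.map p
  have hle : LinearMap.ker g ≤ IsLocalRing.maximalIdeal R • LinearMap.ker g := by
    intro x hx
    have hx0 := LinearMap.mem_ker.mp hx
    have h1 : p x ∈ Submodule.map p (IsLocalRing.maximalIdeal R • ⊤) :=
      Submodule.mem_map_of_mem (hker x hx0)
    rw [Submodule.map_smul'', Submodule.map_top, ← hK, hpk x hx0] at h1
    exact h1
  have hbot := Submodule.eq_bot_of_le_smul_of_le_jacobson_bot _ _ hfg hle hjac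
  exact LinearMap.ker_eq_bot.mp hbot

/-- `1 ⊗ x = 0` in `k ⊗ M` iff `x ∈ 𝔪 M`. -/
theorem tmul_eq_zero_iff {M : Type*} [AddCommGroup M] [Module R M] (x : M) :
    ((1 : IsLocalRing.ResidueField R) ⊗ₜ[R] x = 0) ↔
      x ∈ (IsLocalRing.maximalIdeal R • ⊤ : Submodule R M) := by
  have h := LinearMap.congr_fun
    (TensorProduct.quotTensorEquivQuotSMul_comp_mk (M := M) (IsLocalRing.maximalIdeal R)) x
  rw [LinearMap.comp_apply] at h
  constructor
  · intro h0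
    have h2 : (IsLocalRing.maximalIdeal R • ⊤ : Submodule R M).mkQ x = 0 := by
      rw [← h]
      have h3 : (TensorProduct.mk R (R ⧸ IsLocalRing.maximalIdeal R) M 1) x = 0 := h0
      rw [h3, map_zero]
    exact (Submodule.Quotient.mk_eq_zero _).mp h2
  · intro hx
    have h2 : (IsLocalRing.maximalIdeal R • ⊤ : Submodule R M).mkQ x = 0 :=
      (Submodule.Quotient.mk_eq_zero _).mpr hx
    rw [← h] at h2
    exact (LinearEquiv.map_eq_zero_iff _).mp h2

end Nakayama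

section IdemLift

/-- the commutative algebra `R[c₀]`, presented as a quotient of the polynomial ring -/
abbrev Bq (R : Type u) [CommRing R] (C : Type u) [Ring C] [Algebra R C] (c₀ : C) : Type u :=
  R[X] ⧸ RingHom.ker (Polynomial.aeval c₀ : R[X] →ₐ[R] C)

/-- Idempotents lift along a ring homomorphism with kernel `𝔪 C` out of a finite (possibly
non-commutative) algebra `C` over a henselian local ring. -/
theorem exists_idempotent_lift (R : Type u) [CommRing R] [HenselianLocalRing R] (C : Type u)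
    [Ring C] [Algebra R C] [Module.Finite R C] {E : Type v} [Ring E] (Ψ : C →+* E)
    (hker : ∀ c : C, Ψ c = 0 ↔ c ∈ (IsLocalRing.maximalIdeal R • ⊤ : Submodule R C))
    (π : E) (hπ : IsIdempotentElem π) (c₀ : C) (hc₀ : Ψ c₀ = π) :
    ∃ ε : C, IsIdempotentElem ε ∧ Ψ ε = π := by
  classical
  let ι : Bq R C c₀ →ₐ[R] C := Ideal.kerLiftAlg (Polynomial.aeval c₀ : R[X] →ₐ[R] C)
  have hι : Function.Injective ι := Ideal.kerLiftAlg_injective _
  haveI : Algebra.IsIntegral R (Bq R C c₀) :=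
    ⟨fun b => (isIntegral_algHom_iff ι hι).mp (IsIntegral.of_finite R (ι b))⟩
  let J : Ideal (Bq R C c₀) := RingHom.ker (Ψ.comp (ι : Bq R C c₀ →+* C))
  have hJ : ∀ x : Bq R C c₀, x ∈ J ↔ Ψ (ι x) = 0 := fun x => by
    rw [RingHom.mem_ker]; rfl
  have hm : ∀ r ∈ IsLocalRing.maximalIdeal R, ∀ z : C, Ψ (r • z) = 0 := fun r hr z =>
    (hker _).mpr (Submodule.smul_mem_smul hr Submodule.mem_top)
  have hIJ : (IsLocalRing.maximalIdeal R).map (algebraMap R (Bq R C c₀)) ≤ J := by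
    rw [Ideal.map_le_iff_le_comap]
    intro r hr
    rw [Ideal.mem_comap, hJ, AlgHom.commutes, Algebra.algebraMap_eq_smul_one]
    exact hm r hr 1
  have hnil : ∀ x ∈ J, ∃ n : ℕ,
      x ^ n ∈ (IsLocalRing.maximalIdeal R).map (algebraMap R (Bq R C c₀)) := by
    intro x hx
    have hx' : ι x ∈ (IsLocalRing.maximalIdeal R • ⊤ : Submodule R C) :=
      (hker _).mp ((hJ x).mp hx)
    have hmul : ∀ y : C, ∀ z ∈ (IsLocalRing.maximalIdeal R • ⊤ : Submodule R C),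
        z * y ∈ (IsLocalRing.maximalIdeal R • ⊤ : Submodule R C) := by
      intro y z hz
      refine Submodule.smul_induction_on hz (fun r hr w _ => ?_) (fun z₁ z₂ h₁ h₂ => ?_)
      · rw [smul_mul_assoc]
        exact Submodule.smul_mem_smul hr Submodule.mem_top
      · rw [add_mul]
        exact add_mem h₁ h₂
    have hrange : LinearMap.range (Algebra.lmul R C (ι x) : Module.End R C) ≤
        IsLocalRing.maximalIdeal R • ⊤ := by
      rintro _ ⟨y, rfl⟩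
      exact hmul y _ hx'
    obtain ⟨p, hpm, -, hpc, hp0⟩ :=
      LinearMap.exists_monic_and_natDegree_eq_and_coeff_mem_pow_and_aeval_eq_zero R
        (Algebra.lmul R C (ι x) : Module.End R C) (IsLocalRing.maximalIdeal R) hrange
    have h1 : aeval (ι x) p = 0 := by
      have h2 := Polynomial.aeval_algHom_apply (Algebra.lmul R C) (ι x) p
      rw [hp0] at h2
      have h3 := LinearMap.congr_fun h2 1
      have h4 : (Algebra.lmul R C (aeval (ι x) p)) 1 = aeval (ι x) p * 1 := rfl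
      rw [h4, mul_one] at h3
      exact h3.symm
    have h2 : aeval x p = 0 := by
      apply hι
      rw [← Polynomial.aeval_algHom_apply, h1, map_zero]
    refine ⟨p.natDegree, ?_⟩
    have h5 : aeval x (X ^ p.natDegree + ∑ i ∈ Finset.range p.natDegree, Polynomial.C (p.coeff i) * X ^ i)
        = 0 := by
      rw [← hpm.as_sum]; exact h2
    rw [map_add, map_pow, aeval_X, map_sum] at h5
    have h4 : x ^ p.natDegree =
        - ∑ i ∈ Finset.range p.natDegree, aeval x (Polynomial.C (p.coeff i) * X ^ i) :=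
      eq_neg_of_add_eq_zero_left h5
    rw [h4]
    apply neg_mem
    apply Ideal.sum_mem
    intro i hi
    rw [map_mul, aeval_C, map_pow, aeval_X]
    apply Ideal.mul_mem_right
    apply Ideal.mem_map_of_mem
    have hlt : i < p.natDegree := Finset.mem_range.mp hi
    exact Ideal.pow_le_self (by omega) (hpc i)
  have hG : Groth.Agent.Helper7.Hensel.Gabber (Bq R C c₀) J :=
    ((Groth.Agent.Helper7.Hensel.Gabber.of_henselianLocalRing R).of_isIntegral
      (B := Bq R C c₀)).of_le_of_nil hIJ hnil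
  have hJid : J.map (algebraMap (Bq R C c₀) (Bq R C c₀)) = J := by
    rw [Algebra.algebraMap_self, Ideal.map_id]
  let x₀ : Bq R C c₀ := Ideal.Quotient.mk _ X
  have hx₀ : ι x₀ = c₀ := by
    show Ideal.kerLiftAlg (Polynomial.aeval c₀ : R[X] →ₐ[R] C) (Ideal.Quotient.mk _ X) = c₀
    rw [Ideal.kerLiftAlg_mk]; exact aeval_X c₀
  have hx₀J : x₀ * x₀ - x₀ ∈ J := by
    rw [hJ, map_sub, map_mul, hx₀, map_sub, map_mul, hc₀, hπ.eq, sub_self]
  haveI : Algebra.IsIntegral (Bq R C c₀) (Bq R C c₀) := Algebra.IsIntegral.of_finite _ _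
  obtain ⟨e, he, hee⟩ := hG.exists_idempotent_lift (B := Bq R C c₀)
    (Ideal.Quotient.mk (J.map (algebraMap (Bq R C c₀) (Bq R C c₀))) x₀) (by
      show _ * _ = _
      rw [← map_mul, Ideal.Quotient.eq, hJid]
      exact hx₀J)
  have hex : e - x₀ ∈ J := by
    have := Ideal.Quotient.eq.mp hee
    rwa [hJid] at this
  refine ⟨ι e, he.map ι, ?_⟩
  have h5 := (hJ _).mp hex
  rw [map_sub, map_sub, sub_eq_zero, hx₀, hc₀] at h5
  exact h5

end IdemLift

section Main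

variable (R : Type u) [CommRing R] [HenselianLocalRing R] (A : Type u) [Ring A] [Algebra R A]
  [IsAzumaya R A] (B : Type u) [Ring B] [Algebra R B] [IsAzumaya R B]

local notation "κ" => IsLocalRing.ResidueField R

variable (e₀ : (IsLocalRing.ResidueField R ⊗[R] A) ≃ₐ[IsLocalRing.ResidueField R]
  (IsLocalRing.ResidueField R ⊗[R] B))

/-- `a ↦ e₀ (1 ⊗ a)` -/
noncomputable def f₁ : A →ₐ[R] κ ⊗[R] B :=
  ((e₀.restrictScalars R : (κ ⊗[R] A) ≃ₐ[R] (κ ⊗[R] B)) : (κ ⊗[R] A) →ₐ[R] (κ ⊗[R] B)).comp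
    Algebra.TensorProduct.includeRight

theorem f₁_apply (a : A) : f₁ R A B e₀ a = e₀ ((1 : κ) ⊗ₜ[R] a) := rfl

/-- `b ↦ 1 ⊗ b` on opposite algebras -/
noncomputable def g₁ : Bᵐᵒᵖ →ₐ[R] (κ ⊗[R] B)ᵐᵒᵖ :=
  AlgHom.op (Algebra.TensorProduct.includeRight : B →ₐ[R] κ ⊗[R] B)

theorem g₁_apply (b : Bᵐᵒᵖ) : g₁ R B b = op ((1 : κ) ⊗ₜ[R] b.unop) := rfl

/-- the action of `A ⊗ Bᵐᵒᵖ` on `k ⊗ B`: `a ⊗ b` acts by `y ↦ e₀(1 ⊗ a) * y * (1 ⊗ b)` -/
noncomputable def Psi : A ⊗[R] Bᵐᵒᵖ →ₐ[R] Module.End R (κ ⊗[R] B) :=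
  (AlgHom.mulLeftRight R (κ ⊗[R] B)).comp (Algebra.TensorProduct.map (f₁ R A B e₀) (g₁ R B))

theorem Psi_tmul (a : A) (b : Bᵐᵒᵖ) (y : κ ⊗[R] B) :
    Psi R A B e₀ (a ⊗ₜ b) y = e₀ (1 ⊗ₜ a) * y * (1 ⊗ₜ b.unop) := by
  simp [Psi, f₁_apply, g₁_apply]

/-- the comparison isomorphism `k ⊗ (A ⊗ Bᵐᵒᵖ) ≃ (k ⊗ B) ⊗_k (k ⊗ B)ᵐᵒᵖ` -/
noncomputable def rho' :
    κ ⊗[R] (A ⊗[R] Bᵐᵒᵖ) ≃ₗ[κ] (κ ⊗[R] B) ⊗[κ] (κ ⊗[R] B)ᵐᵒᵖ :=
  (TensorProduct.AlgebraTensorModule.distribBaseChange R κ A Bᵐᵒᵖ) ≪≫ₗ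
    (TensorProduct.congr e₀.toLinearEquiv (Groth.Agent.Helper7.Azumaya.opiso R κ B))

theorem rho'_tmul (a : A) (b : Bᵐᵒᵖ) :
    rho' R A B e₀ ((1 : κ) ⊗ₜ[R] (a ⊗ₜ[R] b)) =
      e₀ ((1 : κ) ⊗ₜ[R] a) ⊗ₜ[κ] op ((1 : κ) ⊗ₜ[R] b.unop) := by
  simp [rho', Groth.Agent.Helper7.Azumaya.opiso_tmul]

theorem Psi_eq (c : A ⊗[R] Bᵐᵒᵖ) (y : κ ⊗[R] B) :
    Psi R A B e₀ c y =
      AlgHom.mulLeftRight κ (κ ⊗[R] B) (rho' R A B e₀ ((1 : κ) ⊗ₜ[R] c)) y := by
  induction c using TensorProduct.induction_on with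
  | zero => simp
  | tmul a b =>
    rw [Psi_tmul, rho'_tmul, AlgHom.mulLeftRight_apply, MulOpposite.unop_op]
  | add c d hc hd =>
    rw [map_add, LinearMap.add_apply, hc, hd, TensorProduct.tmul_add, map_add, map_add,
      LinearMap.add_apply]

theorem Psi_eq_zero_iff (c : A ⊗[R] Bᵐᵒᵖ) :
    Psi R A B e₀ c = 0 ↔
      c ∈ (IsLocalRing.maximalIdeal R • ⊤ : Submodule R (A ⊗[R] Bᵐᵒᵖ)) := by
  haveI : IsAzumaya κ (κ ⊗[R] B) := Groth.Agent.Helper7.Azumaya.baseChange R κ B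
  have hμ : Function.Bijective (AlgHom.mulLeftRight κ (κ ⊗[R] B)) := IsAzumaya.bij
  rw [← tmul_eq_zero_iff]
  constructor
  · intro h
    have h1 : AlgHom.mulLeftRight κ (κ ⊗[R] B) (rho' R A B e₀ ((1 : κ) ⊗ₜ[R] c)) = 0 := by
      refine LinearMap.ext fun y => ?_
      rw [← Psi_eq, h]; rfl
    have h2 := (injective_iff_map_eq_zero _).mp hμ.1 _ h1
    exact (LinearEquiv.map_eq_zero_iff _).mp h2
  · intro h
    refine LinearMap.ext fun y => ?_
    rw [Psi_eq, h, map_zero, map_zero]; rfl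

theorem Psi_surjective : Function.Surjective (Psi R A B e₀) := by
  haveI : IsAzumaya κ (κ ⊗[R] B) := Groth.Agent.Helper7.Azumaya.baseChange R κ B
  have hμ : Function.Bijective (AlgHom.mulLeftRight κ (κ ⊗[R] B)) := IsAzumaya.bij
  intro T
  obtain ⟨z, hz⟩ := hμ.2 (LinearMap.extendScalarsOfSurjective (S := κ) IsLocalRing.residue_surjective T)
  obtain ⟨c, hc⟩ := TensorProduct.mk_surjective R _ κ IsLocalRing.residue_surjective
    ((rho' R A B e₀).symm z)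
  refine ⟨c, LinearMap.ext fun y => ?_⟩
  rw [Psi_eq]
  have h1 : rho' R A B e₀ ((1 : κ) ⊗ₜ[R] c) = z := by
    rw [← LinearEquiv.eq_symm_apply]
    exact hc
  rw [h1, hz]; rfl

/-- **Lifting isomorphisms of special fibres of Azumaya algebras over a henselian local ring.** -/
theorem main : ∃ e : A ≃ₐ[R] B, ∀ a : A, e₀ ((1 : κ) ⊗ₜ[R] a) = (1 : κ) ⊗ₜ[R] (e a) := by
  classical
  haveI : IsAzumaya κ (κ ⊗[R] B) := Groth.Agent.Helper7.Azumaya.baseChange R κ B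
  haveI : Module.Finite R Bᵐᵒᵖ := Module.Finite.equiv (opLinearEquiv R : B ≃ₗ[R] Bᵐᵒᵖ)
  haveI : Module.Projective R Bᵐᵒᵖ :=
    Module.Projective.of_equiv (opLinearEquiv R : B ≃ₗ[R] Bᵐᵒᵖ)
  -- a linear form `φ` on `k ⊗ B` with `φ 1 = 1`
  have h1ne : (1 : κ ⊗[R] B) ≠ 0 := by
    have hinj : Function.Injective (algebraMap κ (κ ⊗[R] B)) :=
      FaithfulSMul.algebraMap_injective _ _
    intro h
    have h2 : algebraMap κ (κ ⊗[R] B) 1 = algebraMap κ (κ ⊗[R] B) 0 := by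
      rw [map_one, map_zero, h]
    exact one_ne_zero (hinj h2)
  obtain ⟨φ, hφ⟩ : ∃ φ : (κ ⊗[R] B) →ₗ[κ] κ, φ 1 = 1 := by
    apply Groth.Agent.Helper8.exists_dual_eq_one_of_notMem_smul_top
    rw [IsLocalRing.maximalIdeal_eq_bot, Submodule.bot_smul]
    exact h1ne
  -- the rank one idempotent `π`
  let π : Module.End R (κ ⊗[R] B) :=
    ((LinearMap.toSpanSingleton κ (κ ⊗[R] B) 1).comp φ).restrictScalars R
  have hπy : ∀ y, π y = φ y • (1 : κ ⊗[R] B) := fun y => rfl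
  have hπ1 : π 1 = 1 := by rw [hπy, hφ, one_smul]
  have hsm : ∀ (r : R) (z : κ ⊗[R] B), IsLocalRing.residue R r • z = r • z := fun r z =>
    algebraMap_smul κ r z
  have hTπ : ∀ (T : Module.End R (κ ⊗[R] B)) (y), T (π y) = φ y • T 1 := by
    intro T y
    rw [hπy]
    obtain ⟨r, hr⟩ := IsLocalRing.residue_surjective (φ y)
    rw [← hr, hsm, hsm, map_smul]
  have hπidem : IsIdempotentElem π := by
    refine LinearMap.ext fun y => ?_
    rw [Module.End.mul_apply, hTπ, hπ1, ← hπy]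
  obtain ⟨c₀, hc₀⟩ := Psi_surjective R A B e₀ π
  obtain ⟨ε, hε, hΨε⟩ := exists_idempotent_lift R (A ⊗[R] Bᵐᵒᵖ)
    ((Psi R A B e₀ : A ⊗[R] Bᵐᵒᵖ →ₐ[R] Module.End R (κ ⊗[R] B)) :
      A ⊗[R] Bᵐᵒᵖ →+* Module.End R (κ ⊗[R] B))
    (fun c => Psi_eq_zero_iff R A B e₀ c) π hπidem c₀ hc₀
  have hΨε' : Psi R A B e₀ ε = π := hΨε
  -- the left ideal `P = (A ⊗ Bᵐᵒᵖ) ε`
  let rε : Module.End R (A ⊗[R] Bᵐᵒᵖ) := LinearMap.mulRight R ε
  let P : Submodule R (A ⊗[R] Bᵐᵒᵖ) := LinearMap.range rε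
  let s : (A ⊗[R] Bᵐᵒᵖ) →ₗ[R] P := rε.rangeRestrict
  have hs : ∀ c, (s c : A ⊗[R] Bᵐᵒᵖ) = c * ε := fun c => rfl
  have hPε : ∀ p : P, (p : A ⊗[R] Bᵐᵒᵖ) * ε = p := by
    rintro ⟨_, c, rfl⟩
    show c * ε * ε = c * ε
    rw [mul_assoc, hε.eq]
  have hsP : ∀ p : P, s p = p := fun p => Subtype.ext (by rw [hs, hPε])
  haveI : Module.Finite R P := Module.Finite.range rε
  haveI : Module.Projective R P :=
    Module.Projective.of_split P.subtype s (LinearMap.ext fun p => hsP p)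
  -- evaluation at `1`
  let θ : P →ₗ[R] (κ ⊗[R] B) :=
    (LinearMap.applyₗ (1 : κ ⊗[R] B)).comp ((Psi R A B e₀).toLinearMap.comp P.subtype)
  have hθ : ∀ p : P, θ p = Psi R A B e₀ (p : A ⊗[R] Bᵐᵒᵖ) 1 := fun p => rfl
  have hΨε1 : ∀ c, Psi R A B e₀ (c * ε) 1 = Psi R A B e₀ c 1 := by
    intro c
    rw [map_mul, hΨε', Module.End.mul_apply, hπ1]
  have hθker : ∀ p : P, θ p = 0 → p ∈ (IsLocalRing.maximalIdeal R • ⊤ : Submodule R P) := by
    intro p hp
    have h0 : Psi R A B e₀ (p : A ⊗[R] Bᵐᵒᵖ) = 0 := by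
      refine LinearMap.ext fun y => ?_
      have h3 : Psi R A B e₀ (p : A ⊗[R] Bᵐᵒᵖ) y = Psi R A B e₀ (p : A ⊗[R] Bᵐᵒᵖ) (π y) := by
        conv_lhs => rw [← hPε p, map_mul, hΨε', Module.End.mul_apply]
      rw [h3, hTπ, ← hθ, hp, smul_zero]; rfl
    have h1 := (Psi_eq_zero_iff R A B e₀ _).mp h0
    have h2 : s (p : A ⊗[R] Bᵐᵒᵖ) ∈ Submodule.map s (IsLocalRing.maximalIdeal R • ⊤) :=
      Submodule.mem_map_of_mem h1
    rw [Submodule.map_smul'', hsP] at h2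
    exact Submodule.smul_mono le_rfl le_top h2
  -- `B ≃ P`
  let β : B →ₗ[R] P :=
    s.comp ((TensorProduct.mk R A Bᵐᵒᵖ 1).comp (opLinearEquiv R : B ≃ₗ[R] Bᵐᵒᵖ).toLinearMap)
  have hβ : ∀ b : B, (β b : A ⊗[R] Bᵐᵒᵖ) = ((1 : A) ⊗ₜ[R] op b) * ε := fun b => rfl
  have hθβ : ∀ b : B, θ (β b) = (1 : κ) ⊗ₜ[R] b := by
    intro b
    rw [hθ, hβ, hΨε1, Psi_tmul, ← Algebra.TensorProduct.one_def, map_one, one_mul, one_mul,
      MulOpposite.unop_op]
  have hβbij : Function.Bijective β := by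
    refine bijective_of_nakayama (R := R) (M := B) (N := P) β ?_ ?_
    · intro p
      obtain ⟨b, hb⟩ := TensorProduct.mk_surjective R _ κ IsLocalRing.residue_surjective (θ p)
      refine ⟨b, hθker _ ?_⟩
      rw [map_sub, hθβ]
      exact sub_eq_zero.mpr hb.symm
    · intro b hb
      have h1 := hθβ b
      rw [hb, map_zero] at h1
      exact (tmul_eq_zero_iff b).mp h1.symm
  let βe : B ≃ₗ[R] P := LinearEquiv.ofBijective β hβbij
  let el : A →ₗ[R] B := βe.symm.toLinearMap.comp (s.comp ((TensorProduct.mk R A Bᵐᵒᵖ).flip 1))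
  have hel : ∀ a : A, ((1 : A) ⊗ₜ[R] op (el a)) * ε = (a ⊗ₜ[R] (1 : Bᵐᵒᵖ)) * ε := by
    intro a
    have h1 : β (el a) = s (a ⊗ₜ[R] (1 : Bᵐᵒᵖ)) := by
      show βe (βe.symm _) = _
      rw [LinearEquiv.apply_symm_apply]; rfl
    exact congrArg Subtype.val h1
  have hβinj := hβbij.1
  have hone : el 1 = 1 := by
    apply hβinj
    apply Subtype.ext
    rw [hβ, hβ, hel, op_one]
  have hmul : ∀ a a' : A, el (a * a') = el a * el a' := by
    intro a a'
    apply hβinj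
    apply Subtype.ext
    rw [hβ, hβ, hel]
    have e1 : ((1 : A) ⊗ₜ[R] op (el a * el a')) =
        ((1 : A) ⊗ₜ[R] op (el a')) * ((1 : A) ⊗ₜ[R] op (el a)) := by
      rw [Algebra.TensorProduct.tmul_mul_tmul, one_mul, ← op_mul]
    have e2 : ((a * a') ⊗ₜ[R] (1 : Bᵐᵒᵖ)) =
        (a ⊗ₜ[R] (1 : Bᵐᵒᵖ)) * (a' ⊗ₜ[R] (1 : Bᵐᵒᵖ)) := by
      rw [Algebra.TensorProduct.tmul_mul_tmul, one_mul]
    have e3 : ((1 : A) ⊗ₜ[R] op (el a')) * (a ⊗ₜ[R] (1 : Bᵐᵒᵖ)) =
        (a ⊗ₜ[R] (1 : Bᵐᵒᵖ)) * ((1 : A) ⊗ₜ[R] op (el a')) := by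
      rw [Algebra.TensorProduct.tmul_mul_tmul, Algebra.TensorProduct.tmul_mul_tmul, one_mul,
        mul_one, one_mul, mul_one]
    calc ((a * a') ⊗ₜ[R] (1 : Bᵐᵒᵖ)) * ε
        = (a ⊗ₜ[R] (1 : Bᵐᵒᵖ)) * ((a' ⊗ₜ[R] (1 : Bᵐᵒᵖ)) * ε) := by rw [e2, mul_assoc]
      _ = (a ⊗ₜ[R] (1 : Bᵐᵒᵖ)) * (((1 : A) ⊗ₜ[R] op (el a')) * ε) := by rw [hel a']
      _ = (((1 : A) ⊗ₜ[R] op (el a')) * (a ⊗ₜ[R] (1 : Bᵐᵒᵖ))) * ε := by
        rw [← mul_assoc, ← e3]
      _ = ((1 : A) ⊗ₜ[R] op (el a')) * (((1 : A) ⊗ₜ[R] op (el a)) * ε) := by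
        rw [mul_assoc, hel a]
      _ = ((1 : A) ⊗ₜ[R] op (el a * el a')) * ε := by rw [← mul_assoc, ← e1]
  let ea : A →ₐ[R] B := AlgHom.ofLinearMap el hone hmul
  have hcompat : ∀ a : A, e₀ ((1 : κ) ⊗ₜ[R] a) = (1 : κ) ⊗ₜ[R] (el a) := by
    intro a
    rw [← hθβ (el a), hθ, hβ, hel, hΨε1, Psi_tmul, mul_one, MulOpposite.unop_one,
      ← Algebra.TensorProduct.one_def, mul_one]
  have helbij : Function.Bijective el := by
    refine bijective_of_nakayama (R := R) (M := A) (N := B) el ?_ ?_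
    · intro b
      obtain ⟨a, ha⟩ := TensorProduct.mk_surjective R _ κ IsLocalRing.residue_surjective
        (e₀.symm ((1 : κ) ⊗ₜ[R] b))
      refine ⟨a, (tmul_eq_zero_iff _).mp ?_⟩
      have h1 : (1 : κ) ⊗ₜ[R] a = e₀.symm ((1 : κ) ⊗ₜ[R] b) := ha
      rw [TensorProduct.tmul_sub, ← hcompat, h1, AlgEquiv.apply_symm_apply, sub_self]
    · intro a ha
      have h1 := hcompat a
      rw [ha, TensorProduct.tmul_zero] at h1
      have h2 : (1 : κ) ⊗ₜ[R] a = 0 := e₀.injective (by rw [h1, map_zero])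
      exact (tmul_eq_zero_iff a).mp h2
  exact ⟨AlgEquiv.ofBijective ea helbij, hcompat⟩

end Main

end Groth.Agent.Helper3.AzHens
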