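import Mathlib
import Groth.Agent.Lib.Helper8.AzFibre

/-! Maximal étale subalgebras of Azumaya algebras: the field case of S5711.

`A` is a central simple algebra of dimension `r²` over a field `k`, `L` an étale commutative
`k`-algebra of dimension `r` with an injective algebra map `ū : L → A`; then `A`, as an `L`-module
via right multiplication, is free of rank `r`. -/

open TensorProduct

namespace Groth.Agent.Helper3.AzMaxEt

section General

variable {R : Type*} [CommRing R] {E : Type*} [CommRing E] [Algebra R E] {A : Type*} [Ring A]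
  [Algebra R A] [Module E A]

/-- the scalar tower coming from `e • a = a * u e` -/
theorem isScalarTower_of_hmod (u : E →ₐ[R] A) (hmod : ∀ (e : E) (a : A), e • a = a * u e) :
    IsScalarTower R E A :=
  ⟨fun c e a => by rw [hmod, map_smul, mul_smul_comm, ← hmod]⟩

variable [IsScalarTower R E A]

/-- left multiplication, as an `R`-algebra homomorphism into the `E`-linear endomorphisms (where `E`
acts through right multiplication). -/
noncomputable def lmulE (u : E →ₐ[R] A) (hmod : ∀ (e : E) (a : A), e • a = a * u e) :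
    A →ₐ[R] Module.End E A where
  toFun a :=
    { toFun := fun y => a * y
      map_add' := mul_add a
      map_smul' := fun e y => by simp only [hmod, RingHom.id_apply, mul_assoc] }
  map_one' := LinearMap.ext fun y => by simp
  map_mul' a b := LinearMap.ext fun y => by simp [mul_assoc]
  map_zero' := LinearMap.ext fun y => by simp
  map_add' a b := LinearMap.ext fun y => by simp [add_mul]
  commutes' c := LinearMap.ext fun y => by
    simp [Module.algebraMap_end_apply, Algebra.smul_def]

@[simp]
theorem lmulE_apply (u : E →ₐ[R] A) (hmod : ∀ (e : E) (a : A), e • a = a * u e) (a y : A) :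
    lmulE u hmod a y = a * y := rfl

end General

section Field

attribute [local instance] IsArtinianRing.fieldOfSubtypeIsMaximal

variable {k : Type*} [Field k] {A : Type*} [Ring A] [Algebra k A] [IsAzumaya k A]
  {L : Type*} [CommRing L] [Algebra k L] [Module.Finite k L] [Module L A] [IsScalarTower k L A]
  [IsArtinianRing L]

/-- the action of `(L/P) ⊗_k A` on `(L/P) ⊗_L A` -/
noncomputable def PhiP (ū : L →ₐ[k] A) (hmod : ∀ (e : L) (a : A), e • a = a * ū e)
    (P : MaximalSpectrum L) :
    (L ⧸ P.asIdeal) ⊗[k] A →ₐ[L ⧸ P.asIdeal] Module.End (L ⧸ P.asIdeal) ((L ⧸ P.asIdeal) ⊗[L] A) :=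
  Algebra.TensorProduct.lift
    (Algebra.ofId (L ⧸ P.asIdeal) (Module.End (L ⧸ P.asIdeal) ((L ⧸ P.asIdeal) ⊗[L] A)))
    (((Module.End.baseChangeHom L (L ⧸ P.asIdeal) A).restrictScalars k).comp (lmulE ū hmod))
    (fun x _ => Algebra.commutes x _)

/-- `(L/P) ⊗_L A` is nontrivial, as `A` is a faithful finite `L`-module. -/
theorem nontrivial_fibre (ū : L →ₐ[k] A) (hū : Function.Injective ū)
    (hmod : ∀ (e : L) (a : A), e • a = a * ū e) [Module.Finite L A] (P : MaximalSpectrum L) :
    Nontrivial ((L ⧸ P.asIdeal) ⊗[L] A) := by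
  have hne : (P.asIdeal • ⊤ : Submodule L A) ≠ ⊤ := by
    intro htop
    obtain ⟨x, hx1, hx0⟩ := Submodule.exists_sub_one_mem_and_smul_eq_zero_of_fg_of_le_smul
      P.asIdeal (⊤ : Submodule L A) Module.Finite.fg_top (by rw [htop])
    have h1 := hx0 1 Submodule.mem_top
    rw [hmod, one_mul] at h1
    have hx : x = 0 := hū (by rw [h1, map_zero])
    rw [hx, zero_sub] at hx1
    have h2 : (1 : L) ∈ P.asIdeal := by simpa using P.asIdeal.neg_mem hx1
    exact P.isMaximal.ne_top ((Ideal.eq_top_iff_one _).mpr h2)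
  haveI : Nontrivial (A ⧸ (P.asIdeal • ⊤ : Submodule L A)) :=
    Submodule.Quotient.nontrivial_iff.mpr hne
  exact (TensorProduct.quotTensorEquivQuotSMul A P.asIdeal).toEquiv.nontrivial

/-- each fibre of `A` over `L` has dimension at least `r` -/
theorem le_finrank_fibre (ū : L →ₐ[k] A) (hū : Function.Injective ū)
    (hmod : ∀ (e : L) (a : A), e • a = a * ū e) [Module.Finite L A] (r : ℕ)
    (hA : Module.finrank k A = r ^ 2) (P : MaximalSpectrum L) :
    r ≤ Module.finrank (L ⧸ P.asIdeal) ((L ⧸ P.asIdeal) ⊗[L] A) := by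
  haveI := nontrivial_fibre ū hū hmod P
  haveI : IsSimpleRing ((L ⧸ P.asIdeal) ⊗[k] A) :=
    (Groth.Agent.Helper8.fibre_csa_of_isAzumaya k A (L ⧸ P.asIdeal)).2
  have hinj : Function.Injective (PhiP ū hmod P) := RingHom.injective (PhiP ū hmod P).toRingHom
  have hle := LinearMap.finrank_le_finrank_of_injective (f := (PhiP ū hmod P).toLinearMap) hinj
  rw [Module.finrank_baseChange, hA, Module.finrank_linearMap] at hle
  by_contra hlt
  push Not at hlt
  have h2 := Nat.mul_self_lt_mul_self hlt
  rw [pow_two] at hle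
  omega

theorem finrank_eq_sum [IsReduced L] [Module.Finite L A] [Fintype (MaximalSpectrum L)] :
    Module.finrank k A = ∑ P : MaximalSpectrum L, Module.finrank k (L ⧸ P.asIdeal) *
      Module.finrank (L ⧸ P.asIdeal) ((L ⧸ P.asIdeal) ⊗[L] A) := by
  classical
  let e : A ≃ₗ[L] (∀ P : MaximalSpectrum L, (L ⧸ P.asIdeal) ⊗[L] A) :=
    (TensorProduct.lid L A).symm ≪≫ₗ
      (LinearEquiv.rTensor A (IsArtinianRing.equivPi L).toLinearEquiv) ≪≫ₗ
      (TensorProduct.piLeft L A (fun P : MaximalSpectrum L => L ⧸ P.asIdeal))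
  haveI : ∀ P : MaximalSpectrum L, Module.Finite k ((L ⧸ P.asIdeal) ⊗[L] A) :=
    fun P => Module.Finite.trans (L ⧸ P.asIdeal) _
  rw [(e.restrictScalars k).finrank_eq, Module.finrank_pi_fintype]
  refine Finset.sum_congr rfl fun P _ => ?_
  exact (Module.finrank_mul_finrank k (L ⧸ P.asIdeal) _).symm

theorem finrank_eq_sum' [IsReduced L] [Fintype (MaximalSpectrum L)] :
    Module.finrank k L = ∑ P : MaximalSpectrum L, Module.finrank k (L ⧸ P.asIdeal) := by
  rw [((IsArtinianRing.equivPi L).toLinearEquiv.restrictScalars k).finrank_eq,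
    Module.finrank_pi_fintype]

end Field

section FieldMain

variable {k : Type*} [Field k] {A : Type*} [Ring A] [Algebra k A] [IsAzumaya k A]
  {L : Type*} [CommRing L] [Algebra k L] [Algebra.Etale k L] [Module.Finite k L] [Module L A]

/-- **Field case**: a central simple algebra of dimension `r²` is free of rank `r` over an étale
commutative subalgebra of dimension `r` (acting by right multiplication). -/
theorem exists_basis_field (r : ℕ) (hA : Module.finrank k A = r ^ 2)
    (hL : Module.finrank k L = r) (ū : L →ₐ[k] A) (hū : Function.Injective ū)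
    (hmod : ∀ (e : L) (a : A), e • a = a * ū e) : Nonempty (Module.Basis (Fin r) L A) := by
  classical
  haveI : IsScalarTower k L A := isScalarTower_of_hmod ū hmod
  haveI : IsArtinianRing L := IsArtinianRing.of_finite k L
  haveI : IsReduced L := Algebra.FormallyUnramified.isReduced_of_field k L
  haveI : IsSemisimpleRing L := IsArtinianRing.isSemisimpleRing_of_isReduced L
  haveI : Module.Projective L A := Module.projective_of_isSemisimpleRing L A
  haveI : Module.Finite L A := Module.Finite.of_restrictScalars_finite k L A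
  haveI : Fintype (MaximalSpectrum L) := Fintype.ofFinite _
  refine Module.nonempty_basis_of_flat_of_finrank_eq L A r (fun P => ?_)
  have h1 := finrank_eq_sum (k := k) (A := A) (L := L)
  have h2 := finrank_eq_sum' (k := k) (L := L)
  rw [hA] at h1
  rw [hL] at h2
  have h3 := le_finrank_fibre ū hū hmod r hA
  have h4 : ∀ Q : MaximalSpectrum L, 0 < Module.finrank k (L ⧸ Q.asIdeal) := fun Q =>
    Module.finrank_pos
  by_contra hne
  have hlt : r < Module.finrank (L ⧸ P.asIdeal) ((L ⧸ P.asIdeal) ⊗[L] A) :=
    lt_of_le_of_ne (h3 P) (Ne.symm hne)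
  have h5 : ∑ Q : MaximalSpectrum L, Module.finrank k (L ⧸ Q.asIdeal) * r <
      ∑ Q : MaximalSpectrum L, Module.finrank k (L ⧸ Q.asIdeal) *
        Module.finrank (L ⧸ Q.asIdeal) ((L ⧸ Q.asIdeal) ⊗[L] A) :=
    Finset.sum_lt_sum (fun Q _ => Nat.mul_le_mul_left _ (h3 Q))
      ⟨P, Finset.mem_univ _, Nat.mul_lt_mul_of_pos_left hlt (h4 P)⟩
  rw [← Finset.sum_mul, ← h2, ← h1, pow_two] at h5
  exact lt_irrefl _ h5

end FieldMain

end Groth.Agent.Helper3.AzMaxEt
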