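import Mathlib
import Groth.Agent.Lib.Helper3.AzMaxEt1
import Groth.Agent.Lib.Helper3.AzHens1
import Groth.Agent.Lib.Helper7.Azumaya.BaseChange

/-! Maximal étale subalgebras of Azumaya algebras over a local ring (S5711):
`A` is free of rank `r` over `E` and `E ⊗ A ≃ End_E A`. -/

open TensorProduct MulOpposite

universe u

namespace Groth.Agent.Helper3.AzMaxEt

open Groth.Agent.Helper3.AzHens (bijective_of_nakayama tmul_eq_zero_iff)

section Nak

variable {R : Type*} [CommRing R] [IsLocalRing R]

/-- A linear map between finite free modules of the same rank over a local ring which reflects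
membership in `𝔪 •` is bijective. -/
theorem bijective_of_free {M N : Type*} [AddCommGroup M] [Module R M] [Module.Finite R M]
    [Module.Free R M] [AddCommGroup N] [Module R N] [Module.Finite R N] [Module.Free R N]
    (hrk : Module.finrank R M = Module.finrank R N) (g : M →ₗ[R] N)
    (hg : ∀ x : M, g x ∈ (IsLocalRing.maximalIdeal R • ⊤ : Submodule R N) →
      x ∈ (IsLocalRing.maximalIdeal R • ⊤ : Submodule R M)) : Function.Bijective g := by
  have hinj : Function.Injective (g.baseChange (IsLocalRing.ResidueField R)) := by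
    rw [injective_iff_map_eq_zero]
    intro z hz
    obtain ⟨x, rfl⟩ := TensorProduct.mk_surjective R M (IsLocalRing.ResidueField R)
      IsLocalRing.residue_surjective z
    have h1 : (1 : IsLocalRing.ResidueField R) ⊗ₜ[R] g x = 0 := hz
    exact (tmul_eq_zero_iff x).mpr (hg x ((tmul_eq_zero_iff _).mp h1))
  have hfr : Module.finrank (IsLocalRing.ResidueField R) (IsLocalRing.ResidueField R ⊗[R] M) =
      Module.finrank (IsLocalRing.ResidueField R) (IsLocalRing.ResidueField R ⊗[R] N) := by
    rw [Module.finrank_baseChange, Module.finrank_baseChange, hrk]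
  have hsurj : Function.Surjective (g.baseChange (IsLocalRing.ResidueField R)) :=
    (LinearMap.injective_iff_surjective_of_finrank_eq_finrank hfr).mp hinj
  refine bijective_of_nakayama g (fun n => ?_)
    (fun x hx => hg x (by rw [hx]; exact zero_mem _))
  obtain ⟨z, hz⟩ := hsurj ((1 : IsLocalRing.ResidueField R) ⊗ₜ[R] n)
  obtain ⟨x, rfl⟩ := TensorProduct.mk_surjective R M (IsLocalRing.ResidueField R)
    IsLocalRing.residue_surjective z
  refine ⟨x, (tmul_eq_zero_iff _).mp ?_⟩
  have h1 : (1 : IsLocalRing.ResidueField R) ⊗ₜ[R] g x =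
      (1 : IsLocalRing.ResidueField R) ⊗ₜ[R] n := hz
  rw [TensorProduct.tmul_sub, h1, sub_self]

/-- componentwise membership in `𝔪 •` -/
theorem pi_mem_smul_top {ι : Type*} [Fintype ι] [DecidableEq ι] {M : Type*} [AddCommGroup M]
    [Module R M] (I : Ideal R) (c : ι → M) (hc : ∀ i, c i ∈ (I • ⊤ : Submodule R M)) :
    c ∈ (I • ⊤ : Submodule R (ι → M)) := by
  rw [← Finset.univ_sum_single c]
  refine Submodule.sum_mem _ fun i _ => ?_
  have h1 : LinearMap.single R (fun _ : ι => M) i (c i) ∈
      Submodule.map (LinearMap.single R (fun _ : ι => M) i) (I • ⊤) :=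
    Submodule.mem_map_of_mem (hc i)
  rw [Submodule.map_smul''] at h1
  exact Submodule.smul_mono le_rfl le_top h1

end Nak

/-- the module structure by right multiplication through a ring homomorphism from a commutative
ring -/
@[reducible] noncomputable def rightModule {L B : Type*} [CommRing L] [Ring B] (φ : L →+* B) :
    Module L B :=
  Module.compHom B (φ.toOpposite fun x y => (Commute.all x y).map φ)

section Main

variable (R : Type u) [CommRing R] [IsLocalRing R] (A : Type u) [Ring A] [Algebra R A]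
  [IsAzumaya R A] (E : Type u) [CommRing E] [Algebra R E] (u : E →ₐ[R] A)

/-- `k ⊗ u` agrees with `lTensor` -/
theorem map_id_eq_lTensor (z : IsLocalRing.ResidueField R ⊗[R] E) :
    Algebra.TensorProduct.map (AlgHom.id (IsLocalRing.ResidueField R) (IsLocalRing.ResidueField R))
      u z = u.toLinearMap.lTensor (IsLocalRing.ResidueField R) z := by
  induction z using TensorProduct.induction_on with
  | zero => simp
  | tmul x e => simp
  | add a b ha hb => rw [map_add, map_add, ha, hb]

local notation "κ" => IsLocalRing.ResidueField R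

/-- the action of `E ⊗ A` on the special fibre of `A` -/
noncomputable def PsiE : E ⊗[R] A →ₐ[R] Module.End R (κ ⊗[R] A) :=
  (AlgHom.mulLeftRight R (κ ⊗[R] A)).comp
    ((Algebra.TensorProduct.map (Algebra.TensorProduct.includeRight : A →ₐ[R] κ ⊗[R] A)
      (((Algebra.TensorProduct.includeRight : A →ₐ[R] κ ⊗[R] A).comp u).toOpposite
        fun x y => (Commute.all x y).map _)).comp
      (Algebra.TensorProduct.comm R E A).toAlgHom)

theorem PsiE_tmul (e : E) (a : A) (y : κ ⊗[R] A) :
    PsiE R A E u (e ⊗ₜ a) y = ((1 : κ) ⊗ₜ[R] a) * y * ((1 : κ) ⊗ₜ[R] u e) := by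
  simp [PsiE]

/-- the comparison map `k ⊗ (E ⊗ A) → (k ⊗ A) ⊗_k (k ⊗ A)ᵐᵒᵖ` -/
noncomputable def rhoE : κ ⊗[R] (E ⊗[R] A) →ₗ[κ] (κ ⊗[R] A) ⊗[κ] (κ ⊗[R] A)ᵐᵒᵖ :=
  (TensorProduct.comm κ (κ ⊗[R] A)ᵐᵒᵖ (κ ⊗[R] A)).toLinearMap ∘ₗ
    (LinearMap.rTensor (κ ⊗[R] A)
      ((opLinearEquiv κ : (κ ⊗[R] A) ≃ₗ[κ] (κ ⊗[R] A)ᵐᵒᵖ).toLinearMap ∘ₗ
        (Algebra.TensorProduct.map (AlgHom.id κ κ) u).toLinearMap)) ∘ₗ
    (TensorProduct.AlgebraTensorModule.distribBaseChange R κ E A).toLinearMap

theorem rhoE_tmul (e : E) (a : A) :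
    rhoE R A E u ((1 : κ) ⊗ₜ[R] (e ⊗ₜ[R] a)) =
      ((1 : κ) ⊗ₜ[R] a) ⊗ₜ[κ] op ((1 : κ) ⊗ₜ[R] u e) := by
  simp [rhoE]

theorem rhoE_injective
    (hu : Function.Injective (u.toLinearMap.lTensor (IsLocalRing.ResidueField R))) :
    Function.Injective (rhoE R A E u) := by
  have h1 : Function.Injective
      ((opLinearEquiv κ : (κ ⊗[R] A) ≃ₗ[κ] (κ ⊗[R] A)ᵐᵒᵖ).toLinearMap ∘ₗ
        (Algebra.TensorProduct.map (AlgHom.id κ κ) u).toLinearMap) := by
    intro x y hxy
    apply hu
    rw [← map_id_eq_lTensor, ← map_id_eq_lTensor]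
    exact (opLinearEquiv κ : (κ ⊗[R] A) ≃ₗ[κ] (κ ⊗[R] A)ᵐᵒᵖ).injective hxy
  have h2 := Module.Flat.rTensor_preserves_injective_linearMap (M := κ ⊗[R] A) _ h1
  exact (TensorProduct.comm κ (κ ⊗[R] A)ᵐᵒᵖ (κ ⊗[R] A)).injective.comp
    (h2.comp (TensorProduct.AlgebraTensorModule.distribBaseChange R κ E A).injective)

theorem PsiE_eq (c : E ⊗[R] A) (y : κ ⊗[R] A) :
    PsiE R A E u c y =
      AlgHom.mulLeftRight κ (κ ⊗[R] A) (rhoE R A E u ((1 : κ) ⊗ₜ[R] c)) y := by
  induction c using TensorProduct.induction_on with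
  | zero => simp
  | tmul e a =>
    rw [PsiE_tmul, rhoE_tmul, AlgHom.mulLeftRight_apply, MulOpposite.unop_op]
  | add c d hc hd =>
    rw [map_add, LinearMap.add_apply, hc, hd, TensorProduct.tmul_add, map_add, map_add,
      LinearMap.add_apply]

theorem mem_of_PsiE_eq_zero
    (hu : Function.Injective (u.toLinearMap.lTensor (IsLocalRing.ResidueField R)))
    (c : E ⊗[R] A) (hc : PsiE R A E u c = 0) :
    c ∈ (IsLocalRing.maximalIdeal R • ⊤ : Submodule R (E ⊗[R] A)) := by
  haveI : IsAzumaya κ (κ ⊗[R] A) := Groth.Agent.Helper7.Azumaya.baseChange R κ A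
  have hμ : Function.Bijective (AlgHom.mulLeftRight κ (κ ⊗[R] A)) := IsAzumaya.bij
  rw [← tmul_eq_zero_iff]
  have h1 : AlgHom.mulLeftRight κ (κ ⊗[R] A) (rhoE R A E u ((1 : κ) ⊗ₜ[R] c)) = 0 := by
    refine LinearMap.ext fun y => ?_
    rw [← PsiE_eq, hc]; rfl
  have h2 := (injective_iff_map_eq_zero _).mp hμ.1 _ h1
  exact (injective_iff_map_eq_zero _).mp (rhoE_injective R A E u hu) _ h2

end Main

section Final

variable (R : Type u) [CommRing R] [IsLocalRing R] (A : Type u) [Ring A] [Algebra R A]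
  [IsAzumaya R A] (r : ℕ) (hA : Module.finrank R A = r ^ 2) (E : Type u) [CommRing E]
  [Algebra R E] [Algebra.Etale R E] [Module.Finite R E] [Module.Free R E]
  (hE : Module.finrank R E = r) (u : E →ₐ[R] A)
  (hu : Function.Injective (u.toLinearMap.lTensor (IsLocalRing.ResidueField R))) [Module E A]
  (hmod : ∀ (e : E) (a : A), e • a = a * u e)

local notation "κ" => IsLocalRing.ResidueField R

include hA hE hu hmod in
/-- `A` is free of rank `r` over the maximal étale subalgebra `E`. -/
theorem exists_basis : Nonempty (Module.Basis (Fin r) E A) := by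
  classical
  haveI : IsScalarTower R E A := isScalarTower_of_hmod u hmod
  haveI : Module.Free R A := Module.free_of_flat_of_isLocalRing
  haveI : IsAzumaya κ (κ ⊗[R] A) := Groth.Agent.Helper7.Azumaya.baseChange R κ A
  let ū : (κ ⊗[R] E) →ₐ[κ] (κ ⊗[R] A) := Algebra.TensorProduct.map (AlgHom.id κ κ) u
  have hū : Function.Injective ū := by
    intro x y hxy
    apply hu
    rw [← map_id_eq_lTensor, ← map_id_eq_lTensor]
    exact hxy
  have hū1 : ∀ e : E, ū ((1 : κ) ⊗ₜ[R] e) = (1 : κ) ⊗ₜ[R] u e := fun e => by simp [ū]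
  letI : Module (κ ⊗[R] E) (κ ⊗[R] A) := rightModule (ū : (κ ⊗[R] E) →+* (κ ⊗[R] A))
  have hmodb : ∀ (e : κ ⊗[R] E) (a : κ ⊗[R] A), e • a = a * ū e := fun _ _ => rfl
  have hAb : Module.finrank κ (κ ⊗[R] A) = r ^ 2 := by rw [Module.finrank_baseChange, hA]
  have hEb : Module.finrank κ (κ ⊗[R] E) = r := by rw [Module.finrank_baseChange, hE]
  obtain ⟨bb⟩ := exists_basis_field r hAb hEb ū hū hmodb
  choose a ha using fun i =>
    TensorProduct.mk_surjective R A κ IsLocalRing.residue_surjective (bb i)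
  have ha' : ∀ i, (1 : κ) ⊗ₜ[R] a i = bb i := ha
  let gE : (Fin r → E) →ₗ[E] A := Fintype.linearCombination E a
  have hgE : ∀ c, gE c = ∑ i, c i • a i := fun c => Fintype.linearCombination_apply E (v := a) c
  have key : ∀ c : Fin r → E,
      (1 : κ) ⊗ₜ[R] gE c = ∑ i, ((1 : κ) ⊗ₜ[R] c i : κ ⊗[R] E) • bb i := by
    intro c
    rw [hgE, TensorProduct.tmul_sum]
    refine Finset.sum_congr rfl fun i _ => ?_
    rw [hmod, hmodb, ← ha' i, hū1, Algebra.TensorProduct.tmul_mul_tmul, one_mul]
  have hbij : Function.Bijective gE := by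
    refine bijective_of_nakayama (R := R) (M := Fin r → E) (N := A) (gE.restrictScalars R) ?_ ?_
    · intro y
      choose c hc using fun i => TensorProduct.mk_surjective R E κ IsLocalRing.residue_surjective
        (bb.repr ((1 : κ) ⊗ₜ[R] y) i)
      have hc' : ∀ i, (1 : κ) ⊗ₜ[R] c i = bb.repr ((1 : κ) ⊗ₜ[R] y) i := hc
      refine ⟨c, (tmul_eq_zero_iff _).mp ?_⟩
      rw [TensorProduct.tmul_sub, LinearMap.restrictScalars_apply, key]
      simp_rw [hc']
      rw [bb.sum_repr, sub_self]
    · intro c hc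
      rw [LinearMap.restrictScalars_apply] at hc
      have h1 := key c
      rw [hc, TensorProduct.tmul_zero] at h1
      have h2 := Fintype.linearIndependent_iff.mp bb.linearIndependent _ h1.symm
      exact pi_mem_smul_top _ c fun i => (tmul_eq_zero_iff (c i)).mp (h2 i)
  exact ⟨Module.Basis.ofEquivFun (LinearEquiv.ofBijective gE hbij).symm⟩

include hA hE hu hmod in
/-- **S5711**: `A` is free of rank `r` over `E`, and `E ⊗ A ≃ End_E A`. -/
theorem main : Module.Free E A ∧ Module.finrank E A = r ∧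
    Nonempty ((E ⊗[R] A) ≃ₐ[E] Module.End E A) := by
  classical
  obtain ⟨b⟩ := exists_basis R A r hA E hE u hu hmod
  haveI : IsScalarTower R E A := isScalarTower_of_hmod u hmod
  haveI : Module.Free R A := Module.free_of_flat_of_isLocalRing
  haveI : Nontrivial A := (FaithfulSMul.algebraMap_injective R A).nontrivial
  haveI : Nontrivial E := by
    by_contra h
    rw [not_nontrivial_iff_subsingleton] at h
    haveI := h
    haveI := Module.subsingleton E A
    exact not_subsingleton A inferInstance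
  haveI : Module.Free E A := Module.Free.of_basis b
  haveI : Module.Finite E A := Module.Finite.of_basis b
  have hrk : Module.finrank E A = r := by rw [Module.finrank_eq_card_basis b, Fintype.card_fin]
  refine ⟨inferInstance, hrk, ?_⟩
  let μ : E ⊗[R] A →ₐ[E] Module.End E A :=
    Algebra.TensorProduct.lift (Algebra.ofId E (Module.End E A)) (lmulE u hmod)
      (fun x _ => Algebra.commutes x _)
  have hμ : ∀ (e : E) (a y : A), μ (e ⊗ₜ a) y = e • (a * y) := by
    intro e a y
    simp [μ, Algebra.ofId_apply, Module.algebraMap_end_apply]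
  haveI : Module.Finite R (Module.End E A) := Module.Finite.trans E _
  haveI : Module.Free R (Module.End E A) := Module.Free.of_basis
    ((Module.Free.chooseBasis R E).smulTower (Module.Free.chooseBasis E (Module.End E A)))
  have hrank : Module.finrank R (E ⊗[R] A) = Module.finrank R (Module.End E A) := by
    rw [Module.finrank_tensorProduct, ← Module.finrank_mul_finrank R E (Module.End E A),
      Module.finrank_linearMap, hrk, hA, hE, pow_two]
  have hΨ : ∀ (c : E ⊗[R] A) (y : A),
      PsiE R A E u c ((1 : κ) ⊗ₜ[R] y) = (1 : κ) ⊗ₜ[R] (μ c y) := by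
    intro c y
    induction c using TensorProduct.induction_on with
    | zero => simp
    | tmul e a =>
      rw [PsiE_tmul, hμ, hmod, Algebra.TensorProduct.tmul_mul_tmul,
        Algebra.TensorProduct.tmul_mul_tmul, one_mul, one_mul]
    | add c d hc hd =>
      rw [map_add, LinearMap.add_apply, hc, hd, map_add, LinearMap.add_apply,
        TensorProduct.tmul_add]
  have hsm : ∀ (y : A), ∀ T ∈ (IsLocalRing.maximalIdeal R • ⊤ : Submodule R (Module.End E A)),
      T y ∈ (IsLocalRing.maximalIdeal R • ⊤ : Submodule R A) := by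
    intro y T hT
    refine Submodule.smul_induction_on hT (fun m hm S _ => ?_) (fun S T hS hT => ?_)
    · rw [LinearMap.smul_apply]
      exact Submodule.smul_mem_smul hm Submodule.mem_top
    · rw [LinearMap.add_apply]
      exact add_mem hS hT
  have hbij : Function.Bijective (μ.toLinearMap.restrictScalars R) := by
    refine bijective_of_free hrank _ (fun c hc => ?_)
    apply mem_of_PsiE_eq_zero R A E u hu
    refine LinearMap.ext fun z => ?_
    obtain ⟨y, rfl⟩ := TensorProduct.mk_surjective R A κ IsLocalRing.residue_surjective z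
    show PsiE R A E u c ((1 : κ) ⊗ₜ[R] y) = 0
    rw [hΨ]
    exact (tmul_eq_zero_iff _).mpr (hsm y _ hc)
  exact ⟨AlgEquiv.ofBijective μ hbij⟩

end Final

end Groth.Agent.Helper3.AzMaxEt
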