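import Mathlib
import Groth.Agent.Lib.Lead.AzReg4
import Groth.Agent.Lib.Helper3.AzMaxEt2

/-! Azumaya algebras are split by finite étale covers, Zariski locally (S5720).
Part 1: data over the local ring at a prime, with global numerators. -/

open TensorProduct Polynomial

universe u

namespace Groth.Agent.Helper3.AzSplit

section Poly

variable {R : Type*} [CommRing R]

/-- the derivative of `scaleRoots` -/
theorem derivative_scaleRoots (p : R[X]) (c : R) :
    derivative (p.scaleRoots c) =
      C (c ^ (p.natDegree - 1 - (derivative p).natDegree)) * (derivative p).scaleRoots c := by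
  ext i
  rw [coeff_derivative, coeff_scaleRoots, coeff_C_mul, coeff_scaleRoots, coeff_derivative]
  have hle : (derivative p).natDegree ≤ p.natDegree - 1 := natDegree_derivative_le p
  by_cases hi : i ≤ (derivative p).natDegree
  · have h1 : p.natDegree - (i + 1) =
        (p.natDegree - 1 - (derivative p).natDegree) + ((derivative p).natDegree - i) := by omega
    rw [h1, pow_add]
    ring
  · have h0 : (derivative p).coeff i = 0 := coeff_eq_zero_of_natDegree_lt (not_le.mp hi)
    rw [coeff_derivative] at h0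
    rw [mul_right_comm, h0, zero_mul, zero_mul, mul_zero]

theorem separable_scaleRoots (p : R[X]) (c : R) (hc : IsUnit c) (hp : p.Separable) :
    (p.scaleRoots c).Separable := by
  have h := isCoprime_scaleRoots p (derivative p) c hc hp
  unfold Polynomial.Separable
  rw [derivative_scaleRoots]
  exact (isCoprime_mul_unit_left_right ((hc.pow _).map C) _ _).mpr h

end Poly

section Scaling

variable {K : Type*} [Field K] {B : Type*} [Ring B] [Algebra K B]

/-- scaling a "regular" element by a nonzero scalar -/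
theorem minpoly_smul_regular (x : B) (hx : IsIntegral K x) (c : K) (hc : c ≠ 0)
    (hsep : (minpoly K x).Separable) :
    (minpoly K (c • x)).Separable ∧
      (minpoly K (c • x)).natDegree = (minpoly K x).natDegree := by
  have hcx : IsIntegral K (c • x) := hx.smul c
  have hq0 : aeval (c • x) ((minpoly K x).scaleRoots c) = 0 := by
    rw [Algebra.smul_def]
    exact scaleRoots_aeval_eq_zero (minpoly.aeval K x)
  have hdvd : minpoly K (c • x) ∣ (minpoly K x).scaleRoots c := minpoly.dvd K _ hq0
  have hq1 : aeval x ((minpoly K (c • x)).scaleRoots c⁻¹) = 0 := by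
    have h := scaleRoots_aeval_eq_zero (r := c⁻¹) (minpoly.aeval K (c • x))
    rwa [← Algebra.smul_def, smul_smul, inv_mul_cancel₀ hc, one_smul] at h
  have hdvd' : minpoly K x ∣ (minpoly K (c • x)).scaleRoots c⁻¹ := minpoly.dvd K _ hq1
  have h1 : (minpoly K x).natDegree ≤ (minpoly K (c • x)).natDegree := by
    have := natDegree_le_of_dvd hdvd' (scaleRoots_ne_zero (minpoly.ne_zero hcx) _)
    rwa [natDegree_scaleRoots] at this
  have h2 : (minpoly K (c • x)).natDegree ≤ (minpoly K x).natDegree := by
    have := natDegree_le_of_dvd hdvd (scaleRoots_ne_zero (minpoly.ne_zero hx) _)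
    rwa [natDegree_scaleRoots] at this
  refine ⟨?_, le_antisymm h2 h1⟩
  exact (separable_scaleRoots _ c (IsUnit.mk0 c hc) hsep).of_dvd hdvd

end Scaling

section Lift

open Groth.Agent.Lead.AzReg Module

/-- Lead's construction of the polynomial of a regular element, with explicit coefficients. -/
theorem exists_coeff_of_regular (R : Type u) [CommRing R] [IsLocalRing R] (A : Type u) [Ring A]
    [Algebra R A] [IsAzumaya R A] (r : ℕ) (hA : Module.finrank R A = r ^ 2) (ξ : A)
    (hsep : (minpoly (IsLocalRing.ResidueField R)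
      ((1 : IsLocalRing.ResidueField R) ⊗ₜ[R] ξ)).Separable)
    (hdeg : (minpoly (IsLocalRing.ResidueField R)
      ((1 : IsLocalRing.ResidueField R) ⊗ₜ[R] ξ)).natDegree = r) :
    ∃ c : Fin r → R, ξ ^ r = ∑ i : Fin r, c i • ξ ^ (i : ℕ) := by
  obtain ⟨-, hmem⟩ := regular_lift R A r hA ξ hsep hdeg
  obtain ⟨c, hc⟩ := (Submodule.mem_span_range_iff_exists_fun R).mp hmem
  exact ⟨c, hc.symm⟩

/-- a monic polynomial of degree `r` killing a regular element is separable, and the first `r` powers
of the element are independent in the fibre -/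
theorem separable_of_regular (R : Type u) [CommRing R] [IsLocalRing R] (A : Type u) [Ring A]
    [Algebra R A] [IsAzumaya R A] (r : ℕ) (ξ : A)
    (hsep : (minpoly (IsLocalRing.ResidueField R)
      ((1 : IsLocalRing.ResidueField R) ⊗ₜ[R] ξ)).Separable)
    (hdeg : (minpoly (IsLocalRing.ResidueField R)
      ((1 : IsLocalRing.ResidueField R) ⊗ₜ[R] ξ)).natDegree = r)
    (χ : R[X]) (hmonic : χ.Monic) (hχdeg : χ.natDegree = r) (hχξ : aeval ξ χ = 0) :
    χ.Separable ∧ LinearIndependent (IsLocalRing.ResidueField R)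
        (fun i : Fin r => ((1 : IsLocalRing.ResidueField R) ⊗ₜ[R] ξ) ^ (i : ℕ)) := by
  have hlik : LinearIndependent (IsLocalRing.ResidueField R)
      (fun i : Fin r => ((1 : IsLocalRing.ResidueField R) ⊗ₜ[R] ξ) ^ (i : ℕ)) := by
    have h1 := linearIndependent_pow (K := IsLocalRing.ResidueField R)
      ((1 : IsLocalRing.ResidueField R) ⊗ₜ[R] ξ)
    rw [hdeg] at h1
    exact h1
  have hχx : aeval ((1 : IsLocalRing.ResidueField R) ⊗ₜ[R] ξ)
      (χ.map (algebraMap R (IsLocalRing.ResidueField R))) = 0 := by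
    rw [aeval_map_algebraMap]
    have h1 := aeval_algHom_apply (Algebra.TensorProduct.includeRight :
      A →ₐ[R] IsLocalRing.ResidueField R ⊗[R] A) ξ χ
    rw [Algebra.TensorProduct.includeRight_apply] at h1
    rw [h1, hχξ, map_zero]
  have hint : IsIntegral (IsLocalRing.ResidueField R)
      ((1 : IsLocalRing.ResidueField R) ⊗ₜ[R] ξ) := IsIntegral.of_finite _ _
  have hdvd := minpoly.dvd _ _ hχx
  have heq : χ.map (algebraMap R (IsLocalRing.ResidueField R)) =
      minpoly (IsLocalRing.ResidueField R) ((1 : IsLocalRing.ResidueField R) ⊗ₜ[R] ξ) :=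
    Polynomial.eq_of_monic_of_dvd_of_natDegree_le (minpoly.monic hint) (hmonic.map _) hdvd (by
      rw [hmonic.natDegree_map, hχdeg, hdeg])
  refine ⟨?_, hlik⟩
  apply separable_of_map_residue χ hmonic
  change (χ.map (algebraMap R (IsLocalRing.ResidueField R))).Separable
  rw [heq]
  exact hsep

end Lift

section LocalData

open Groth.Agent.Lead.AzReg Module Groth.Agent.Helper3.AzMaxEt

/-- the rank of an Azumaya algebra over a local ring is a positive square -/
theorem exists_finrank_sq (R : Type u) [CommRing R] [IsLocalRing R] (A : Type u) [Ring A]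
    [Algebra R A] [IsAzumaya R A] : ∃ r : ℕ, 1 ≤ r ∧ Module.finrank R A = r ^ 2 := by
  haveI : Module.Free R A := Module.free_of_flat_of_isLocalRing
  obtain ⟨hcen, hsimple⟩ :=
    Groth.Agent.Helper8.fibre_csa_of_isAzumaya R A (IsLocalRing.ResidueField R)
  obtain ⟨k', _, _, hfin, -, n, hn, ⟨e⟩⟩ := Groth.Agent.Lead.CSA.exists_separable_splitting
    (IsLocalRing.ResidueField R) (IsLocalRing.ResidueField R ⊗[R] A)
  refine ⟨n, Nat.one_le_iff_ne_zero.mpr hn, ?_⟩
  have h1 : Module.finrank (IsLocalRing.ResidueField R) (IsLocalRing.ResidueField R ⊗[R] A) =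
      Module.finrank R A := Module.finrank_baseChange
  have h2 : Module.finrank k' (k' ⊗[IsLocalRing.ResidueField R]
      (IsLocalRing.ResidueField R ⊗[R] A)) =
      Module.finrank (IsLocalRing.ResidueField R) (IsLocalRing.ResidueField R ⊗[R] A) :=
    Module.finrank_baseChange
  have h3 := e.toLinearEquiv.finrank_eq
  rw [← h1, ← h2, h3, Module.finrank_matrix, Fintype.card_fin, Module.finrank_self, pow_two,
    mul_one]

/-- scaling by a unit keeps the image in the fibre regular -/
theorem regular_smul (R : Type u) [CommRing R] [IsLocalRing R] (A : Type u) [Ring A]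
    [Algebra R A] [Module.Finite R A] (r : ℕ) (ξ : A) (c : R) (hc : IsUnit c)
    (hsep : (minpoly (IsLocalRing.ResidueField R)
      ((1 : IsLocalRing.ResidueField R) ⊗ₜ[R] ξ)).Separable)
    (hdeg : (minpoly (IsLocalRing.ResidueField R)
      ((1 : IsLocalRing.ResidueField R) ⊗ₜ[R] ξ)).natDegree = r) :
    (minpoly (IsLocalRing.ResidueField R)
      ((1 : IsLocalRing.ResidueField R) ⊗ₜ[R] (c • ξ))).Separable ∧
    (minpoly (IsLocalRing.ResidueField R)
      ((1 : IsLocalRing.ResidueField R) ⊗ₜ[R] (c • ξ))).natDegree = r := by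
  have h1 : (1 : IsLocalRing.ResidueField R) ⊗ₜ[R] (c • ξ) =
      (IsLocalRing.residue R c) • ((1 : IsLocalRing.ResidueField R) ⊗ₜ[R] ξ) := by
    rw [TensorProduct.tmul_smul]
    exact (algebraMap_smul (IsLocalRing.ResidueField R) c _).symm
  have hne : IsLocalRing.residue R c ≠ 0 := (IsLocalRing.residue_ne_zero_iff_isUnit c).mpr hc
  rw [h1]
  obtain ⟨h2, h3⟩ := minpoly_smul_regular _ (IsIntegral.of_finite _ _) _ hne hsep
  exact ⟨h2, h3.trans hdeg⟩

/-- **Local data with global numerators.** -/
theorem localData (R : Type u) [CommRing R] (A : Type u) [Ring A] [Algebra R A] [IsAzumaya R A]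
    (p : Ideal R) [p.IsPrime] :
    ∃ (r : ℕ) (_ : 1 ≤ r) (α : A) (γ : Fin r → R) (αs : Fin r → A),
      ((X ^ r - ∑ i : Fin r, C (γ i) * X ^ (i : ℕ) : R[X]).map
        (algebraMap R (Localization.AtPrime p))).Separable ∧
      ((1 : Localization.AtPrime p) ⊗ₜ[R] (α ^ r - ∑ i : Fin r, γ i • α ^ (i : ℕ)) :
        Localization.AtPrime p ⊗[R] A) = 0 ∧
      Function.Bijective ((Fintype.linearCombination R
        (fun jk : Fin r × Fin r => αs jk.1 * α ^ (jk.2 : ℕ))).baseChange
          (Localization.AtPrime p)) := by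
  classical
  haveI : Nontrivial R := nontrivial_of_ne (0 : R) 1 (fun h =>
    (inferInstance : p.IsPrime).ne_top ((Ideal.eq_top_iff_one p).mpr (h ▸ p.zero_mem)))
  haveI : IsAzumaya (Localization.AtPrime p) (Localization.AtPrime p ⊗[R] A) :=
    Groth.Agent.Helper7.Azumaya.baseChange R (Localization.AtPrime p) A
  obtain ⟨r, hr1, hA⟩ := exists_finrank_sq (Localization.AtPrime p)
    (Localization.AtPrime p ⊗[R] A)
  obtain ⟨hcen, hsimple⟩ := Groth.Agent.Helper8.fibre_csa_of_isAzumaya (Localization.AtPrime p)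
    (Localization.AtPrime p ⊗[R] A) (IsLocalRing.ResidueField (Localization.AtPrime p))
  haveI : Module.Free (Localization.AtPrime p) (Localization.AtPrime p ⊗[R] A) :=
    Module.free_of_flat_of_isLocalRing
  have hdimk : Module.finrank (IsLocalRing.ResidueField (Localization.AtPrime p))
      (IsLocalRing.ResidueField (Localization.AtPrime p) ⊗[Localization.AtPrime p]
        (Localization.AtPrime p ⊗[R] A)) = r ^ 2 := by
    rw [Module.finrank_baseChange, hA]
  obtain ⟨x₀, hsep₀, hdeg₀⟩ := exists_regular (IsLocalRing.ResidueField (Localization.AtPrime p))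
    (IsLocalRing.ResidueField (Localization.AtPrime p) ⊗[Localization.AtPrime p]
        (Localization.AtPrime p ⊗[R] A)) r hdimk
  obtain ⟨ξ₀, hξ₀⟩ := TensorProduct.mk_surjective (Localization.AtPrime p)
    (Localization.AtPrime p ⊗[R] A) (IsLocalRing.ResidueField (Localization.AtPrime p))
    IsLocalRing.residue_surjective x₀
  have hξ₀' : (1 : IsLocalRing.ResidueField (Localization.AtPrime p)) ⊗ₜ[Localization.AtPrime p] ξ₀
      = x₀ := hξ₀
  rw [← hξ₀'] at hsep₀ hdeg₀
  -- the localization map
  obtain ⟨ι, hι⟩ : ∃ ι : A →ₗ[R] Localization.AtPrime p ⊗[R] A,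
      ι = TensorProduct.mk R (Localization.AtPrime p) A 1 := ⟨_, rfl⟩
  haveI : IsLocalizedModule p.primeCompl ι := by
    rw [hι]; infer_instance
  have hιx : ∀ a, ι a = (1 : Localization.AtPrime p) ⊗ₜ[R] a := fun a => by rw [hι]; rfl
  have hunit : ∀ s : p.primeCompl, IsUnit (algebraMap R (Localization.AtPrime p) (s : R)) :=
    fun s => IsLocalization.map_units (Localization.AtPrime p) s
  obtain ⟨⟨α₀, s⟩, hs⟩ := IsLocalizedModule.surj p.primeCompl ι ξ₀
  have hs' : (1 : Localization.AtPrime p) ⊗ₜ[R] α₀ =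
      algebraMap R (Localization.AtPrime p) (s : R) • ξ₀ := by
    rw [← hιx, ← hs, algebraMap_smul]; rfl
  obtain ⟨hsep₁, hdeg₁⟩ := regular_smul (Localization.AtPrime p) (Localization.AtPrime p ⊗[R] A) r
    ξ₀ _ (hunit s) hsep₀ hdeg₀
  rw [← hs'] at hsep₁ hdeg₁
  obtain ⟨c, hc⟩ := exists_coeff_of_regular (Localization.AtPrime p)
    (Localization.AtPrime p ⊗[R] A) r hA _ hsep₁ hdeg₁
  obtain ⟨t, ht⟩ := IsLocalization.exist_integer_multiples_of_finite p.primeCompl c
  choose γ' hγ' using ht
  -- the final element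
  set τ : Localization.AtPrime p := algebraMap R (Localization.AtPrime p) (t : R) with hτdef
  have hγ'' : ∀ i, algebraMap R (Localization.AtPrime p) (γ' i) = τ * c i := fun i => by
    rw [hγ' i, Algebra.smul_def]
  have hα : (1 : Localization.AtPrime p) ⊗ₜ[R] ((t : R) • α₀) =
      τ • ((1 : Localization.AtPrime p) ⊗ₜ[R] α₀) := by
    rw [TensorProduct.tmul_smul, hτdef, algebraMap_smul]
  obtain ⟨hsep, hdeg⟩ := regular_smul (Localization.AtPrime p) (Localization.AtPrime p ⊗[R] A) r
    ((1 : Localization.AtPrime p) ⊗ₜ[R] α₀) τ (hunit t) hsep₁ hdeg₁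
  rw [← hα] at hsep hdeg
  let α : A := (t : R) • α₀
  let γ : Fin r → R := fun i => (t : R) ^ (r - 1 - (i : ℕ)) * γ' i
  have hγτ : ∀ i : Fin r, algebraMap R (Localization.AtPrime p) (γ i) * τ ^ (i : ℕ) =
      τ ^ r * c i := by
    intro i
    have hi : r = (r - 1 - (i : ℕ)) + 1 + (i : ℕ) := by have := i.2; omega
    simp only [γ, map_mul, map_pow]
    rw [hγ'' i]
    calc τ ^ (r - 1 - (i : ℕ)) * (τ * c i) * τ ^ (i : ℕ)
        = τ ^ ((r - 1 - (i : ℕ)) + 1 + (i : ℕ)) * c i := by ring
      _ = τ ^ r * c i := by rw [← hi]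
  -- the relation
  have hrel : ((1 : Localization.AtPrime p) ⊗ₜ[R] α) ^ r =
      ∑ i : Fin r, algebraMap R (Localization.AtPrime p) (γ i) •
        ((1 : Localization.AtPrime p) ⊗ₜ[R] α) ^ (i : ℕ) := by
    show ((1 : Localization.AtPrime p) ⊗ₜ[R] ((t : R) • α₀)) ^ r = ∑ i : Fin r,
      algebraMap R (Localization.AtPrime p) (γ i) •
        ((1 : Localization.AtPrime p) ⊗ₜ[R] ((t : R) • α₀)) ^ (i : ℕ)
    rw [hα, _root_.smul_pow, hc, Finset.smul_sum]
    refine Finset.sum_congr rfl fun i _ => ?_
    rw [_root_.smul_pow, smul_smul, smul_smul, hγτ i]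
  refine ⟨r, hr1, α, γ, ?_⟩
  -- the polynomial
  have hlt : (∑ i : Fin r, C (γ i) * X ^ (i : ℕ) : R[X]).degree < (X ^ r : R[X]).degree := by
    rw [degree_X_pow]
    exact degree_sum_fin_lt γ
  have hmonicR : (X ^ r - ∑ i : Fin r, C (γ i) * X ^ (i : ℕ) : R[X]).Monic :=
    (monic_X_pow r).sub_of_left hlt
  have hdegR : (X ^ r - ∑ i : Fin r, C (γ i) * X ^ (i : ℕ) : R[X]).natDegree = r := by
    have h1 : (X ^ r - ∑ i : Fin r, C (γ i) * X ^ (i : ℕ) : R[X]).degree = (X ^ r : R[X]).degree :=
      degree_sub_eq_left_of_degree_lt hlt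
    rw [degree_X_pow] at h1
    exact natDegree_eq_of_degree_eq_some h1
  set χ : (Localization.AtPrime p)[X] := (X ^ r - ∑ i : Fin r, C (γ i) * X ^ (i : ℕ) : R[X]).map
    (algebraMap R (Localization.AtPrime p)) with hχdef
  have hmonic : χ.Monic := hmonicR.map _
  have hχdeg : χ.natDegree = r := by rw [hχdef, hmonicR.natDegree_map, hdegR]
  have hχξ : aeval ((1 : Localization.AtPrime p) ⊗ₜ[R] α) χ = 0 := by
    rw [hχdef]
    simp only [Polynomial.map_sub, Polynomial.map_pow, Polynomial.map_X, Polynomial.map_sum,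
      Polynomial.map_mul, Polynomial.map_C, map_sub, map_pow, aeval_X, map_sum, map_mul, aeval_C]
    rw [hrel, sub_eq_zero]
    refine Finset.sum_congr rfl fun i _ => ?_
    exact Algebra.smul_def (R := Localization.AtPrime p) (A := Localization.AtPrime p ⊗[R] A) _ _
  obtain ⟨hχsep, hlik⟩ := separable_of_regular (Localization.AtPrime p)
    (Localization.AtPrime p ⊗[R] A) r _ hsep hdeg χ hmonic hχdeg hχξ
  -- the maximal étale subalgebra
  let pb : PowerBasis (Localization.AtPrime p) (AdjoinRoot χ) := AdjoinRoot.powerBasis' hmonic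
  have hpbdim : pb.dim = r := by
    change χ.natDegree = r
    exact hχdeg
  have hvan : ∀ a : (Localization.AtPrime p)[X], a ∈ Ideal.span {χ} →
      (aeval ((1 : Localization.AtPrime p) ⊗ₜ[R] α) :
        (Localization.AtPrime p)[X] →ₐ[Localization.AtPrime p] _) a = 0 := by
    intro a ha
    obtain ⟨b, rfl⟩ := Ideal.mem_span_singleton'.mp ha
    rw [map_mul, hχξ, mul_zero]
  let u : AdjoinRoot χ →ₐ[Localization.AtPrime p] (Localization.AtPrime p ⊗[R] A) :=
    Ideal.Quotient.liftₐ (Ideal.span {χ}) (aeval ((1 : Localization.AtPrime p) ⊗ₜ[R] α)) hvan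
  have hu0 : ∀ q : (Localization.AtPrime p)[X], u (AdjoinRoot.mk χ q) =
      aeval ((1 : Localization.AtPrime p) ⊗ₜ[R] α) q := fun q => rfl
  have huroot : ∀ n : ℕ, u ((AdjoinRoot.root χ) ^ n) =
      ((1 : Localization.AtPrime p) ⊗ₜ[R] α) ^ n := by
    intro n
    rw [map_pow]
    congr 1
    change u (AdjoinRoot.mk χ X) = _
    rw [hu0, aeval_X]
  have hE : Module.finrank (Localization.AtPrime p) (AdjoinRoot χ) = r := by
    rw [Module.finrank_eq_card_basis pb.basis, Fintype.card_fin, hpbdim]
  haveI : Algebra.Etale (Localization.AtPrime p) (AdjoinRoot χ) :=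
    etale_adjoinRoot χ hmonic hχsep
  haveI : Module.Finite (Localization.AtPrime p) (AdjoinRoot χ) := Module.Finite.of_basis pb.basis
  haveI : Module.Free (Localization.AtPrime p) (AdjoinRoot χ) := Module.Free.of_basis pb.basis
  have hu : Function.Injective (u.toLinearMap.lTensor
      (IsLocalRing.ResidueField (Localization.AtPrime p))) := by
    have h1 : (u.toLinearMap.lTensor (IsLocalRing.ResidueField (Localization.AtPrime p)) :
        IsLocalRing.ResidueField (Localization.AtPrime p) ⊗[Localization.AtPrime p] AdjoinRoot χ →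
        IsLocalRing.ResidueField (Localization.AtPrime p) ⊗[Localization.AtPrime p]
          (Localization.AtPrime p ⊗[R] A)) =
        (u.toLinearMap.baseChange (IsLocalRing.ResidueField (Localization.AtPrime p))) :=
      (LinearMap.baseChange_eq_ltensor _).symm
    rw [h1]
    let bk : Module.Basis (Fin pb.dim) (IsLocalRing.ResidueField (Localization.AtPrime p))
        (IsLocalRing.ResidueField (Localization.AtPrime p) ⊗[Localization.AtPrime p] AdjoinRoot χ) :=
      Algebra.TensorProduct.basis (IsLocalRing.ResidueField (Localization.AtPrime p)) pb.basis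
    rw [← LinearMap.ker_eq_bot, LinearMap.ker_eq_bot']
    intro m hm
    have hlik' : LinearIndependent (IsLocalRing.ResidueField (Localization.AtPrime p))
        (fun i : Fin pb.dim => (u.toLinearMap.baseChange
          (IsLocalRing.ResidueField (Localization.AtPrime p))) (bk i)) := by
      have h2 : ∀ i : Fin pb.dim, (u.toLinearMap.baseChange
          (IsLocalRing.ResidueField (Localization.AtPrime p))) (bk i) =
          ((1 : IsLocalRing.ResidueField (Localization.AtPrime p)) ⊗ₜ[Localization.AtPrime p]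
            ((1 : Localization.AtPrime p) ⊗ₜ[R] α)) ^ (i : ℕ) := by
        intro i
        rw [Algebra.TensorProduct.basis_apply, LinearMap.baseChange_tmul, PowerBasis.coe_basis,
          Algebra.TensorProduct.tmul_pow, one_pow]
        congr 1
        exact huroot i
      simp_rw [h2]
      exact hlik.comp (fun i : Fin pb.dim => (⟨i, by rw [← hpbdim]; exact i.2⟩ : Fin r))
        (fun i j hij => Fin.ext (by simpa using congrArg Fin.val hij))
    have h3 : m = ∑ i, bk.repr m i • bk i := (bk.sum_repr m).symm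
    rw [h3, map_sum] at hm
    simp_rw [map_smul] at hm
    have h4 := Fintype.linearIndependent_iff.mp hlik' _ hm
    rw [h3]
    exact Finset.sum_eq_zero (fun i _ => by rw [h4 i, zero_smul])
  letI : Module (AdjoinRoot χ) (Localization.AtPrime p ⊗[R] A) :=
    rightModule (u : AdjoinRoot χ →+* (Localization.AtPrime p ⊗[R] A))
  have hmod : ∀ (e : AdjoinRoot χ) (a : Localization.AtPrime p ⊗[R] A), e • a = a * u e :=
    fun _ _ => rfl
  haveI : IsScalarTower (Localization.AtPrime p) (AdjoinRoot χ) (Localization.AtPrime p ⊗[R] A) :=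
    isScalarTower_of_hmod u hmod
  obtain ⟨b⟩ := exists_basis (Localization.AtPrime p) (Localization.AtPrime p ⊗[R] A) r hA
    (AdjoinRoot χ) hE u hu hmod
  -- numerators of the basis
  choose num hnum using fun j => IsLocalizedModule.surj p.primeCompl ι (b j)
  have hpow : ∀ n : ℕ, (1 : Localization.AtPrime p) ⊗ₜ[R] (α ^ n) =
      ((1 : Localization.AtPrime p) ⊗ₜ[R] α) ^ n := fun n => by
    rw [Algebra.TensorProduct.tmul_pow, one_pow]
  refine ⟨fun j => (num j).1, hχsep, ?_, ?_⟩
  · -- the relation
    rw [TensorProduct.tmul_sub, TensorProduct.tmul_sum]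
    simp_rw [TensorProduct.tmul_smul, hpow]
    rw [hrel, sub_eq_zero]
    exact Finset.sum_congr rfl fun i _ => algebraMap_smul _ _ _
  · -- the basis
    have hnum' : ∀ j, (1 : Localization.AtPrime p) ⊗ₜ[R] (num j).1 =
        ((hunit (num j).2).unit : Localization.AtPrime p) • b j := by
      intro j
      rw [← hιx, ← hnum j, IsUnit.unit_spec, algebraMap_smul]
      rfl
    let β : Module.Basis (Fin r) (Localization.AtPrime p) (AdjoinRoot χ) :=
      pb.basis.reindex (finCongr hpbdim)
    have hβ : ∀ k : Fin r, β k = (AdjoinRoot.root χ) ^ (k : ℕ) := by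
      intro k
      simp [β, pb, PowerBasis.coe_basis]
    let 𝔟₂ : Module.Basis (Fin r × Fin r) (Localization.AtPrime p) (Localization.AtPrime p ⊗[R] A) :=
      ((β.smulTower b).reindex (Equiv.prodComm _ _)).unitsSMul
        (fun jk => (hunit (num jk.1).2).unit)
    have h𝔟₂ : ∀ jk : Fin r × Fin r, 𝔟₂ jk =
        (1 : Localization.AtPrime p) ⊗ₜ[R] ((num jk.1).1 * α ^ (jk.2 : ℕ)) := by
      rintro ⟨j, k⟩
      simp only [𝔟₂, Module.Basis.unitsSMul_apply, Module.Basis.reindex_apply,
        Equiv.prodComm_symm, Equiv.prodComm_apply, Prod.swap_prod_mk,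
        Module.Basis.smulTower_apply]
      rw [hβ, hmod, huroot, ← smul_mul_assoc, Units.smul_def, ← hnum', ← hpow,
        Algebra.TensorProduct.tmul_mul_tmul, one_mul]
    let 𝔟s : Module.Basis (Fin r × Fin r) (Localization.AtPrime p)
        (Localization.AtPrime p ⊗[R] (Fin r × Fin r → R)) :=
      Algebra.TensorProduct.basis (Localization.AtPrime p) (Pi.basisFun R (Fin r × Fin r))
    have heq : (Fintype.linearCombination R
        (fun jk : Fin r × Fin r => (num jk.1).1 * α ^ (jk.2 : ℕ))).baseChange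
          (Localization.AtPrime p) = (𝔟s.equiv 𝔟₂ (Equiv.refl _)).toLinearMap := by
      refine 𝔟s.ext fun jk => ?_
      rw [LinearEquiv.coe_coe, Module.Basis.equiv_apply, Equiv.refl_apply, h𝔟₂]
      simp only [𝔟s, Algebra.TensorProduct.basis_apply, LinearMap.baseChange_tmul,
        Pi.basisFun_apply, Fintype.linearCombination_apply_single, one_smul]
    rw [heq]
    exact (𝔟s.equiv 𝔟₂ (Equiv.refl _)).bijective

end LocalData

end Groth.Agent.Helper3.AzSplit
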