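import Mathlib
import Groth.Agent.Lib.Helper3.AzSplit1

/-! Azumaya algebras are split by finite étale covers, Zariski locally (S5720).
Part 2: spreading out the local data to a basic open neighbourhood. -/

open TensorProduct Polynomial

universe u

namespace Groth.Agent.Helper3.AzSplit

section Tools

/-- an element killed by `c` dies after inverting `c` -/
theorem tmul_eq_zero_of_smul_eq_zero {R : Type*} [CommRing R] {A : Type*} [AddCommGroup A]
    [Module R A] {T : Type*} [CommRing T] [Algebra R T] (c : R)
    (hc : IsUnit (algebraMap R T c)) {y : A} (h : c • y = 0) :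
    ((1 : T) ⊗ₜ[R] y : T ⊗[R] A) = 0 := by
  have h1 : (algebraMap R T c) • ((1 : T) ⊗ₜ[R] y : T ⊗[R] A) = 0 := by
    rw [TensorProduct.smul_tmul', smul_eq_mul, mul_one, Algebra.algebraMap_eq_smul_one,
      TensorProduct.smul_tmul, h, TensorProduct.tmul_zero]
  exact (hc.smul_eq_zero).mp h1

/-- the localized map is the base change -/
theorem isLocalizedModule_map_eq_baseChange {R : Type*} [CommRing R] (S : Submonoid R)
    {M N : Type*} [AddCommGroup M] [Module R M] [AddCommGroup N] [Module R N] (l : M →ₗ[R] N) :
    IsLocalizedModule.map S (TensorProduct.mk R (Localization S) M 1)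
      (TensorProduct.mk R (Localization S) N 1) l =
      (l.baseChange (Localization S)).restrictScalars R := by
  apply IsLocalizedModule.linearMap_ext S (TensorProduct.mk R (Localization S) M 1)
    (TensorProduct.mk R (Localization S) N 1)
  rw [IsLocalizedModule.map_comp]
  refine LinearMap.ext fun m => ?_
  simp

/-- for a monic polynomial, separability is the invertibility of the discriminant-like resultant -/
theorem isUnit_resultant_iff_separable {R : Type*} [CommRing R] (f : R[X]) (hf : f.Monic) :
    IsUnit (resultant f (derivative f) f.natDegree (f.natDegree - 1)) ↔ f.Separable := by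
  have hle : (derivative f).natDegree ≤ f.natDegree - 1 := natDegree_derivative_le f
  obtain ⟨k, hk⟩ := Nat.exists_eq_add_of_le hle
  have h1 : resultant f (derivative f) f.natDegree (f.natDegree - 1) =
      resultant f (derivative f) := by
    rw [hk, resultant_add_right_deg (k := k) (hg := le_rfl), coeff_natDegree, hf.leadingCoeff,
      one_pow, one_mul]
  rw [h1, isUnit_resultant_iff_isCoprime hf]
  rfl

/-- separability of a monic polynomial after base change, in terms of the resultant downstairs -/
theorem separable_map_iff {R : Type*} [CommRing R] {T : Type*} [CommRing T] [Nontrivial T]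
    (φ : R →+* T) (f : R[X]) (hf : f.Monic) :
    (f.map φ).Separable ↔
      IsUnit (φ (resultant f (derivative f) f.natDegree (f.natDegree - 1))) := by
  rw [← isUnit_resultant_iff_separable (f.map φ) (hf.map φ), hf.natDegree_map, derivative_map,
    resultant_map_map]

/-- A linear map between finite free modules of the same rank which is injective on all fibres at
maximal ideals is bijective. -/
theorem bijective_of_fibres {S : Type*} [CommRing S] {M N : Type*} [AddCommGroup M] [Module S M]
    [Module.Free S M] [Module.Finite S M] [AddCommGroup N] [Module S N] [Module.Free S N]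
    [Module.Finite S N] (hrk : Module.finrank S M = Module.finrank S N) (g : M →ₗ[S] N)
    (hg : ∀ (𝔫 : Ideal S) [𝔫.IsMaximal], Function.Injective (g.baseChange (S ⧸ 𝔫))) :
    Function.Bijective g := by
  cases subsingleton_or_nontrivial S with
  | inl hS =>
    haveI := Module.subsingleton S M
    haveI := Module.subsingleton S N
    exact ⟨fun _ _ _ => Subsingleton.elim _ _, fun n => ⟨0, Subsingleton.elim _ _⟩⟩
  | inr hS =>
    let e : N ≃ₗ[S] M := (LinearEquiv.ofFinrankEq M N hrk).symm
    let h : M →ₗ[S] M := e.toLinearMap ∘ₗ g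
    have hunit : IsUnit (LinearMap.det h) := by
      by_contra hnu
      have hne : Ideal.span {LinearMap.det h} ≠ ⊤ := by
        rwa [Ne, Ideal.span_singleton_eq_top]
      obtain ⟨𝔫, h𝔫, hle⟩ := Ideal.exists_le_maximal _ hne
      letI : Field (S ⧸ 𝔫) := Ideal.Quotient.field 𝔫
      have hdet : LinearMap.det (h.baseChange (S ⧸ 𝔫)) = 0 := by
        rw [LinearMap.det_baseChange]
        exact Ideal.Quotient.eq_zero_iff_mem.mpr (hle (Ideal.subset_span rfl))
      have hker := LinearMap.bot_lt_ker_of_det_eq_zero hdet
      have hinj : Function.Injective (h.baseChange (S ⧸ 𝔫)) := by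
        have h1 : h.baseChange (S ⧸ 𝔫) =
            (e.toLinearMap.baseChange (S ⧸ 𝔫)) ∘ₗ (g.baseChange (S ⧸ 𝔫)) :=
          LinearMap.baseChange_comp _ _
        rw [h1, LinearMap.coe_comp]
        refine Function.Injective.comp ?_ (hg 𝔫)
        have h2 : (e.symm.toLinearMap.baseChange (S ⧸ 𝔫)) ∘ₗ (e.toLinearMap.baseChange (S ⧸ 𝔫)) =
            LinearMap.id := by
          rw [← LinearMap.baseChange_comp, LinearEquiv.symm_comp, LinearMap.baseChange_id]
        exact Function.LeftInverse.injective (g := e.symm.toLinearMap.baseChange (S ⧸ 𝔫))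
          (fun z => LinearMap.congr_fun h2 z)
      rw [LinearMap.ker_eq_bot.mpr hinj] at hker
      exact lt_irrefl _ hker
    have hbij : Function.Bijective h :=
      (Module.End.isUnit_iff h).mp ((LinearMap.isUnit_iff_isUnit_det h).mpr hunit)
    have hg' : (g : M → N) = e.symm ∘ h := by
      funext m
      simp [h]
    rw [hg']
    exact e.symm.bijective.comp hbij

end Tools

section Spread

/-- **Spreading out** the local data to a basic open neighbourhood of `p`. -/
theorem spread (R : Type u) [CommRing R] (A : Type u) [Ring A] [Algebra R A] [IsAzumaya R A]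
    (p : Ideal R) [p.IsPrime] :
    ∃ (r : ℕ) (_ : 1 ≤ r) (α : A) (γ : Fin r → R) (αs : Fin r → A) (f : R) (_ : f ∉ p),
      ((X ^ r - ∑ i : Fin r, C (γ i) * X ^ (i : ℕ) : R[X]).map
        (algebraMap R (Localization.Away f))).Separable ∧
      ((1 : Localization.Away f) ⊗ₜ[R] (α ^ r - ∑ i : Fin r, γ i • α ^ (i : ℕ)) :
        Localization.Away f ⊗[R] A) = 0 ∧
      Function.Bijective ((Fintype.linearCombination R
        (fun jk : Fin r × Fin r => αs jk.1 * α ^ (jk.2 : ℕ))).baseChange
          (Localization.Away f)) := by
  classical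
  haveI : Nontrivial R := nontrivial_of_ne (0 : R) 1 (fun h =>
    (inferInstance : p.IsPrime).ne_top ((Ideal.eq_top_iff_one p).mpr (h ▸ p.zero_mem)))
  obtain ⟨r, hr1, α, γ, αs, hsep, hrel, hbij⟩ := localData R A p
  have hlt : (∑ i : Fin r, C (γ i) * X ^ (i : ℕ) : R[X]).degree < (X ^ r : R[X]).degree := by
    rw [degree_X_pow]
    exact degree_sum_fin_lt γ
  have hmonicR : (X ^ r - ∑ i : Fin r, C (γ i) * X ^ (i : ℕ) : R[X]).Monic :=
    (monic_X_pow r).sub_of_left hlt
  -- the discriminant
  rw [separable_map_iff _ _ hmonicR, IsLocalization.AtPrime.isUnit_to_map_iff _ p] at hsep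
  -- the relation
  have hrel' : (TensorProduct.mk R (Localization.AtPrime p) A 1)
      (α ^ r - ∑ i : Fin r, γ i • α ^ (i : ℕ)) = 0 := hrel
  rw [IsLocalizedModule.eq_zero_iff p.primeCompl] at hrel'
  obtain ⟨g, hg⟩ := hrel'
  -- the basis
  have hbij' : Function.Bijective (IsLocalizedModule.map p.primeCompl
      (TensorProduct.mk R (Localization.AtPrime p) (Fin r × Fin r → R) 1)
      (TensorProduct.mk R (Localization.AtPrime p) A 1)
      (Fintype.linearCombination R (fun jk : Fin r × Fin r => αs jk.1 * α ^ (jk.2 : ℕ)))) := by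
    have := isLocalizedModule_map_eq_baseChange p.primeCompl
      (Fintype.linearCombination R (fun jk : Fin r × Fin r => αs jk.1 * α ^ (jk.2 : ℕ)))
    rw [this]
    exact hbij
  haveI : Module.FinitePresentation R A := Module.finitePresentation_of_projective R A
  obtain ⟨h, hh, hall⟩ := exists_bijective_map_powers p.primeCompl
    (TensorProduct.mk R (Localization.AtPrime p) (Fin r × Fin r → R) 1)
    (TensorProduct.mk R (Localization.AtPrime p) A 1)
    (Fintype.linearCombination R (fun jk : Fin r × Fin r => αs jk.1 * α ^ (jk.2 : ℕ))) hbij'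
  -- the neighbourhood
  set d := resultant (X ^ r - ∑ i : Fin r, C (γ i) * X ^ (i : ℕ) : R[X])
    (derivative (X ^ r - ∑ i : Fin r, C (γ i) * X ^ (i : ℕ) : R[X]))
    (X ^ r - ∑ i : Fin r, C (γ i) * X ^ (i : ℕ) : R[X]).natDegree
    ((X ^ r - ∑ i : Fin r, C (γ i) * X ^ (i : ℕ) : R[X]).natDegree - 1) with hd
  let f : R := d * (g : R) * h
  have hf : f ∉ p := by
    have : f ∈ p.primeCompl := mul_mem (mul_mem hsep g.2) hh
    exact this
  have hfu : IsUnit (algebraMap R (Localization.Away f) f) :=
    IsLocalization.Away.algebraMap_isUnit f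
  have hdvd : ∀ x : R, x ∣ f → IsUnit (algebraMap R (Localization.Away f) x) := fun x hx =>
    isUnit_of_dvd_unit (map_dvd _ hx) hfu
  haveI : Nontrivial (Localization.Away f) := by
    have hfp : IsUnit (algebraMap R (Localization.AtPrime p) f) :=
      (IsLocalization.AtPrime.isUnit_to_map_iff _ p f).mpr hf
    exact (IsLocalization.Away.lift (S := Localization.Away f) f hfp).domain_nontrivial
  refine ⟨r, hr1, α, γ, αs, f, hf, ?_, ?_, ?_⟩
  · rw [separable_map_iff _ _ hmonicR]
    exact hdvd d ⟨(g : R) * h, by simp only [f]; ring⟩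
  · exact tmul_eq_zero_of_smul_eq_zero (g : R) (hdvd _ ⟨d * h, by simp only [f]; ring⟩) hg
  · have h1 := hall f ⟨d * (g : R), by simp only [f]; ring⟩
    rw [← IsLocalizedModule.map_bijective_iff_localizedModuleMap_bijective
      (TensorProduct.mk R (Localization.Away f) (Fin r × Fin r → R) 1)
      (TensorProduct.mk R (Localization.Away f) A 1),
      isLocalizedModule_map_eq_baseChange] at h1
    exact h1

end Spread

end Groth.Agent.Helper3.AzSplit
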