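import Mathlib
import Groth.Agent.Lib.Helper3.AzSplit2

/-! Azumaya algebras are split by finite étale covers, Zariski locally (S5720).
Part 3: the splitting over the basic open neighbourhood. -/

open TensorProduct Polynomial

universe u

namespace Groth.Agent.Helper3.AzSplit

open Groth.Agent.Helper3.AzMaxEt Groth.Agent.Lead.AzReg

/-- noncommutative version of `Algebra.TensorProduct.cancelBaseChange` -/
noncomputable def cancelBC (R : Type*) [CommRing R] (B : Type*) [CommRing B] [Algebra R B]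
    (W : Type*) [CommRing W] [Algebra R W] [Algebra B W] [IsScalarTower R B W]
    (Z : Type*) [Ring Z] [Algebra R Z] :
    W ⊗[B] (B ⊗[R] Z) ≃ₐ[W] W ⊗[R] Z :=
  AlgEquiv.symm <| AlgEquiv.ofLinearEquiv
    (TensorProduct.AlgebraTensorModule.cancelBaseChange R B W W Z).symm
    (by simp [Algebra.TensorProduct.one_def]) <|
      LinearMap.map_mul_of_map_mul_tmul (fun _ _ _ _ ↦ by simp)

/-- **Splitting over the base**: if `A_B` has a basis of the form `a_j ξ^k` with `ξ` a root of the
monic polynomial `χ` of degree `r`, then `B[X]/(χ) ⊗ A_B` is a matrix algebra. -/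
theorem split_over (B : Type u) [CommRing B] [Nontrivial B] (AB : Type u) [Ring AB] [Algebra B AB]
    [IsAzumaya B AB] (r : ℕ) (hr : 1 ≤ r) (χ : B[X]) (hmonic : χ.Monic) (hdeg : χ.natDegree = r)
    (ξ : AB) (hχξ : aeval ξ χ = 0) (a : Fin r → AB)
    (𝔟 : Module.Basis (Fin r × Fin r) B AB)
    (h𝔟 : ∀ jk : Fin r × Fin r, 𝔟 jk = a jk.1 * ξ ^ (jk.2 : ℕ)) :
    Nonempty ((AdjoinRoot χ ⊗[B] AB) ≃ₐ[AdjoinRoot χ] Matrix (Fin r) (Fin r) (AdjoinRoot χ)) := by
  classical
  have hvan : ∀ q : B[X], q ∈ Ideal.span {χ} → (aeval ξ : B[X] →ₐ[B] AB) q = 0 := by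
    intro q hq
    obtain ⟨b, rfl⟩ := Ideal.mem_span_singleton'.mp hq
    rw [map_mul, hχξ, mul_zero]
  let u : AdjoinRoot χ →ₐ[B] AB := Ideal.Quotient.liftₐ (Ideal.span {χ}) (aeval ξ) hvan
  have hu0 : ∀ q : B[X], u (AdjoinRoot.mk χ q) = aeval ξ q := fun q => rfl
  have huroot : ∀ n : ℕ, u ((AdjoinRoot.root χ) ^ n) = ξ ^ n := by
    intro n
    rw [map_pow]
    congr 1
    change u (AdjoinRoot.mk χ X) = _
    rw [hu0, aeval_X]
  letI : Module (AdjoinRoot χ) AB := rightModule (u : AdjoinRoot χ →+* AB)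
  have hmod : ∀ (e : AdjoinRoot χ) (y : AB), e • y = y * u e := fun _ _ => rfl
  haveI : IsScalarTower B (AdjoinRoot χ) AB := isScalarTower_of_hmod u hmod
  let pb : PowerBasis B (AdjoinRoot χ) := AdjoinRoot.powerBasis' hmonic
  have hpbdim : pb.dim = r := by
    change χ.natDegree = r
    exact hdeg
  let β : Module.Basis (Fin r) B (AdjoinRoot χ) := pb.basis.reindex (finCongr hpbdim)
  have hβ : ∀ k : Fin r, β k = (AdjoinRoot.root χ) ^ (k : ℕ) := by
    intro k
    simp [β, pb, PowerBasis.coe_basis]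
  haveI : Module.Free B (AdjoinRoot χ) := Module.Free.of_basis β
  haveI : Module.Finite B (AdjoinRoot χ) := Module.Finite.of_basis β
  haveI : Nontrivial (AdjoinRoot χ) := by
    apply Module.nontrivial_of_finrank_pos (R := B)
    rw [Module.finrank_eq_card_basis β, Fintype.card_fin]
    exact hr
  let G : (Fin r → AdjoinRoot χ) →ₗ[AdjoinRoot χ] AB :=
    Fintype.linearCombination (AdjoinRoot χ) a
  let 𝔭 : Module.Basis (Σ _ : Fin r, Fin r) B (Fin r → AdjoinRoot χ) :=
    Pi.basis (fun _ : Fin r => β)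
  have hG : G.restrictScalars B =
      (𝔭.equiv 𝔟 (Equiv.sigmaEquivProd (Fin r) (Fin r))).toLinearMap := by
    refine 𝔭.ext fun jk => ?_
    obtain ⟨j, k⟩ := jk
    rw [LinearEquiv.coe_coe, Module.Basis.equiv_apply, h𝔟]
    simp only [𝔭, Pi.basis_apply, LinearMap.restrictScalars_apply, G,
      Fintype.linearCombination_apply_single, Equiv.sigmaEquivProd_apply]
    rw [hβ, hmod, huroot]
  have hGbij : Function.Bijective G := by
    have h1 : (G : (Fin r → AdjoinRoot χ) → AB) =
        (𝔭.equiv 𝔟 (Equiv.sigmaEquivProd (Fin r) (Fin r))) := by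
      funext z
      exact LinearMap.congr_fun hG z
    rw [h1]
    exact (𝔭.equiv 𝔟 (Equiv.sigmaEquivProd (Fin r) (Fin r))).bijective
  let bR' : Module.Basis (Fin r) (AdjoinRoot χ) AB :=
    Module.Basis.ofEquivFun (LinearEquiv.ofBijective G hGbij).symm
  haveI : Module.Free (AdjoinRoot χ) AB := Module.Free.of_basis bR'
  haveI : Module.Finite (AdjoinRoot χ) AB := Module.Finite.of_basis bR'
  haveI : Module.Free B AB := Module.Free.of_basis 𝔟
  have hrk : Module.finrank (AdjoinRoot χ) AB = r := by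
    rw [Module.finrank_eq_card_basis bR', Fintype.card_fin]
  let μ : AdjoinRoot χ ⊗[B] AB →ₐ[AdjoinRoot χ] Module.End (AdjoinRoot χ) AB :=
    Algebra.TensorProduct.lift (Algebra.ofId (AdjoinRoot χ) (Module.End (AdjoinRoot χ) AB))
      (lmulE u hmod) (fun x _ => Algebra.commutes x _)
  haveI : IsAzumaya (AdjoinRoot χ) (AdjoinRoot χ ⊗[B] AB) :=
    Groth.Agent.Helper7.Azumaya.baseChange B (AdjoinRoot χ) AB
  have hrank : Module.finrank (AdjoinRoot χ) (AdjoinRoot χ ⊗[B] AB) =
      Module.finrank (AdjoinRoot χ) (Module.End (AdjoinRoot χ) AB) := by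
    rw [Module.finrank_baseChange, Module.finrank_linearMap, hrk,
      Module.finrank_eq_card_basis 𝔟, Fintype.card_prod, Fintype.card_fin]
  have hfib : ∀ (𝔫 : Ideal (AdjoinRoot χ)) [𝔫.IsMaximal],
      Function.Injective (μ.toLinearMap.baseChange (AdjoinRoot χ ⧸ 𝔫)) := by
    intro 𝔫 h𝔫
    letI : Field (AdjoinRoot χ ⧸ 𝔫) := Ideal.Quotient.field 𝔫
    let μF : (AdjoinRoot χ ⧸ 𝔫) ⊗[AdjoinRoot χ] (AdjoinRoot χ ⊗[B] AB) →ₐ[AdjoinRoot χ ⧸ 𝔫]
        (AdjoinRoot χ ⧸ 𝔫) ⊗[AdjoinRoot χ] (Module.End (AdjoinRoot χ) AB) :=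
      Algebra.TensorProduct.map (AlgHom.id (AdjoinRoot χ ⧸ 𝔫) (AdjoinRoot χ ⧸ 𝔫)) μ
    have heq : ∀ z, μ.toLinearMap.baseChange (AdjoinRoot χ ⧸ 𝔫) z = μF z := by
      intro z
      induction z using TensorProduct.induction_on with
      | zero => simp
      | tmul x y => simp [μF]
      | add x y hx hy => rw [map_add, map_add, hx, hy]
    haveI : IsSimpleRing ((AdjoinRoot χ ⧸ 𝔫) ⊗[AdjoinRoot χ] (AdjoinRoot χ ⊗[B] AB)) :=
      (Groth.Agent.Helper8.fibre_csa_of_isAzumaya (AdjoinRoot χ) (AdjoinRoot χ ⊗[B] AB)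
        (AdjoinRoot χ ⧸ 𝔫)).2
    haveI : Nontrivial ((AdjoinRoot χ ⧸ 𝔫) ⊗[AdjoinRoot χ] (Module.End (AdjoinRoot χ) AB)) := by
      apply Module.nontrivial_of_finrank_pos (R := AdjoinRoot χ ⧸ 𝔫)
      rw [Module.finrank_baseChange, Module.finrank_linearMap, hrk]
      exact Nat.mul_pos hr hr
    intro x y hxy
    rw [heq, heq] at hxy
    exact RingHom.injective μF.toRingHom hxy
  have hbij : Function.Bijective μ := bijective_of_fibres hrank μ.toLinearMap hfib
  exact ⟨(AlgEquiv.ofBijective μ hbij).trans (algEquivMatrix bR')⟩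

/-- **S5720**: an Azumaya algebra is split by a finite étale faithfully flat cover of a basic open
neighbourhood of any prime. -/
theorem main (R : Type u) [CommRing R] (A : Type u) [Ring A] [Algebra R A] [IsAzumaya R A]
    (p : Ideal R) [p.IsPrime] :
    ∃ f : R, f ∉ p ∧ ∃ (R' : Type u) (_ : CommRing R') (_ : Algebra R R')
      (_ : Algebra (Localization.Away f) R') (_ : IsScalarTower R (Localization.Away f) R'),
      Module.Finite (Localization.Away f) R' ∧ Algebra.Etale (Localization.Away f) R' ∧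
      Module.FaithfullyFlat (Localization.Away f) R' ∧
      ∃ r : ℕ, 1 ≤ r ∧ Nonempty ((R' ⊗[R] A) ≃ₐ[R'] Matrix (Fin r) (Fin r) R') := by
  classical
  obtain ⟨r, hr1, α, γ, αs, f, hf, hsep, hrel, hbij⟩ := spread R A p
  haveI : Nontrivial R := nontrivial_of_ne (0 : R) 1 (fun h =>
    (inferInstance : p.IsPrime).ne_top ((Ideal.eq_top_iff_one p).mpr (h ▸ p.zero_mem)))
  haveI : Nontrivial (Localization.Away f) := by
    have hfp : IsUnit (algebraMap R (Localization.AtPrime p) f) :=
      (IsLocalization.AtPrime.isUnit_to_map_iff _ p f).mpr hf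
    exact (IsLocalization.Away.lift (S := Localization.Away f) f hfp).domain_nontrivial
  haveI : IsAzumaya (Localization.Away f) (Localization.Away f ⊗[R] A) :=
    Groth.Agent.Helper7.Azumaya.baseChange R (Localization.Away f) A
  have hlt : (∑ i : Fin r, C (γ i) * X ^ (i : ℕ) : R[X]).degree < (X ^ r : R[X]).degree := by
    rw [degree_X_pow]
    exact degree_sum_fin_lt γ
  have hmonicR : (X ^ r - ∑ i : Fin r, C (γ i) * X ^ (i : ℕ) : R[X]).Monic :=
    (monic_X_pow r).sub_of_left hlt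
  have hdegR : (X ^ r - ∑ i : Fin r, C (γ i) * X ^ (i : ℕ) : R[X]).natDegree = r := by
    have h1 : (X ^ r - ∑ i : Fin r, C (γ i) * X ^ (i : ℕ) : R[X]).degree = (X ^ r : R[X]).degree :=
      degree_sub_eq_left_of_degree_lt hlt
    rw [degree_X_pow] at h1
    exact natDegree_eq_of_degree_eq_some h1
  set χ : (Localization.Away f)[X] := (X ^ r - ∑ i : Fin r, C (γ i) * X ^ (i : ℕ) : R[X]).map
    (algebraMap R (Localization.Away f)) with hχdef
  have hmonic : χ.Monic := hmonicR.map _
  have hχdeg : χ.natDegree = r := by rw [hχdef, hmonicR.natDegree_map, hdegR]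
  have hpow : ∀ n : ℕ, (1 : Localization.Away f) ⊗ₜ[R] (α ^ n) =
      ((1 : Localization.Away f) ⊗ₜ[R] α) ^ n := fun n => by
    rw [Algebra.TensorProduct.tmul_pow, one_pow]
  have hχξ : aeval ((1 : Localization.Away f) ⊗ₜ[R] α) χ = 0 := by
    rw [TensorProduct.tmul_sub, TensorProduct.tmul_sum] at hrel
    simp_rw [TensorProduct.tmul_smul, hpow] at hrel
    rw [hχdef]
    simp only [Polynomial.map_sub, Polynomial.map_pow, Polynomial.map_X, Polynomial.map_sum,
      Polynomial.map_mul, Polynomial.map_C, map_sub, map_pow, aeval_X, map_sum, map_mul, aeval_C]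
    rw [← hrel]
    congr 1
    refine Finset.sum_congr rfl fun i _ => ?_
    rw [← Algebra.smul_def (R := Localization.Away f) (A := Localization.Away f ⊗[R] A),
      algebraMap_smul]
  let 𝔟 : Module.Basis (Fin r × Fin r) (Localization.Away f) (Localization.Away f ⊗[R] A) :=
    (Algebra.TensorProduct.basis (Localization.Away f) (Pi.basisFun R (Fin r × Fin r))).map
      (LinearEquiv.ofBijective _ hbij)
  have h𝔟 : ∀ jk : Fin r × Fin r, 𝔟 jk =
      ((1 : Localization.Away f) ⊗ₜ[R] αs jk.1) * ((1 : Localization.Away f) ⊗ₜ[R] α) ^ (jk.2 : ℕ) := by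
    intro jk
    simp only [𝔟, Module.Basis.map_apply, Algebra.TensorProduct.basis_apply,
      LinearEquiv.ofBijective_apply, LinearMap.baseChange_tmul, Pi.basisFun_apply,
      Fintype.linearCombination_apply_single, one_smul]
    rw [← hpow, Algebra.TensorProduct.tmul_mul_tmul, one_mul]
  obtain ⟨e⟩ := split_over (Localization.Away f) (Localization.Away f ⊗[R] A) r hr1 χ hmonic hχdeg
    ((1 : Localization.Away f) ⊗ₜ[R] α) hχξ (fun j => (1 : Localization.Away f) ⊗ₜ[R] αs j) 𝔟 h𝔟
  let pb : PowerBasis (Localization.Away f) (AdjoinRoot χ) := AdjoinRoot.powerBasis' hmonic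
  haveI : Module.Free (Localization.Away f) (AdjoinRoot χ) := Module.Free.of_basis pb.basis
  haveI : Nontrivial (AdjoinRoot χ) := by
    apply Module.nontrivial_of_finrank_pos (R := Localization.Away f)
    rw [Module.finrank_eq_card_basis pb.basis, Fintype.card_fin]
    change 0 < χ.natDegree
    rw [hχdeg]
    exact hr1
  refine ⟨f, hf, AdjoinRoot χ, inferInstance, inferInstance, inferInstance, inferInstance,
    Module.Finite.of_basis pb.basis, etale_adjoinRoot χ hmonic hsep, inferInstance, r, hr1,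
    ⟨(cancelBC R (Localization.Away f) (AdjoinRoot χ) A).symm.trans e⟩⟩

end Groth.Agent.Helper3.AzSplit
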