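import Mathlib
import Groth.Prelude.Def_AzInv
import Groth.Prelude.Def_W4c2azumayainvolQEt
import Groth.Agent.Lib.Helper7.Azumaya.BaseChange

/-!
# Automorphisms commuting with an involution are locally unitary conjugations (helper3)

If `ψ = int(u)` on `S' ⊗ A` and `ψ` commutes with the involution `t`, then `r = t(u) u` is central
and `t`-fixed, hence (centre of an Azumaya algebra, fixed ring of the involution, flat base change)
of the form `s ⊗ 1` with `s` a unit of `S'`; extracting a square root of `s` etale locally and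
dividing `u` by it gives a unitary element.
-/

set_option autoImplicit false
set_option linter.unusedSectionVars false
set_option linter.style.haveILetI false
set_option linter.unusedVariables false
set_option maxHeartbeats 1000000

universe u v w
open scoped TensorProduct
open AzInv

namespace Groth.Agent.Helper3.AzUnit

/-- the centre of an Azumaya algebra is the base ring -/
theorem center_azumaya (R : Type*) [CommRing R] (A : Type*) [Ring A] [Algebra R A] [IsAzumaya R A]
    (z : A) (hz : ∀ a : A, z * a = a * z) : ∃ ρ : R, z = algebraMap R A ρ := by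
  have hcomm : ∀ g : Module.End R A, ∀ x : A, z * g x = g (z * x) := by
    intro g
    obtain ⟨w, rfl⟩ := (IsAzumaya.bij (R := R) (A := A)).2 g
    induction w using TensorProduct.induction_on with
    | zero => intro x; simp
    | tmul a b =>
      intro x
      rw [AlgHom.mulLeftRight_apply, AlgHom.mulLeftRight_apply]
      calc z * (a * x * b.unop) = (z * a) * x * b.unop := by simp only [mul_assoc]
        _ = (a * z) * x * b.unop := by rw [hz a]
        _ = a * (z * x) * b.unop := by simp only [mul_assoc]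
    | add w w' hw hw' =>
      intro x
      rw [map_add, LinearMap.add_apply, LinearMap.add_apply, mul_add, hw, hw']
  have key : ∀ (f : Module.Dual R A) (x : A), f x • z = f (z * x) • (1 : A) := by
    intro f x
    have h := hcomm (f.smulRight (1 : A)) x
    rw [LinearMap.smulRight_apply, LinearMap.smulRight_apply, mul_smul_comm, mul_one] at h
    exact h
  have hall : ∀ w : Module.Dual R A ⊗[R] A, contractLeft R A w • z =
      (contractLeft R A
        (LinearMap.lTensor (Module.Dual R A) (LinearMap.mulLeft R z) w)) • (1 : A) := by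
    intro w
    induction w using TensorProduct.induction_on with
    | zero => simp
    | tmul f x =>
      rw [LinearMap.lTensor_tmul, contractLeft_apply, contractLeft_apply, LinearMap.mulLeft_apply]
      exact key f x
    | add w w' hw hw' => rw [map_add, map_add, map_add, add_smul, add_smul, hw, hw']
  obtain ⟨w₀, hw₀⟩ := Groth.Agent.Helper7.Azumaya.exists_contractLeft_eq_one R A
  refine ⟨contractLeft R A
    (LinearMap.lTensor (Module.Dual R A) (LinearMap.mulLeft R z) w₀), ?_⟩
  have h := hall w₀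
  rw [hw₀, one_smul] at h
  rw [Algebra.algebraMap_eq_smul_one]
  exact h

section BC

variable (S : Type u) {R : Type v} [CommRing S] [CommRing R] [Algebra S R]
  (lam : R ≃ₐ[S] R) {A : Type w} [Ring A] [Algebra S A] [Algebra R A] [IsScalarTower S R A]
  (t : AzInv.LamInv R A lam) (S' : Type u) [CommRing S'] [Algebra S S']

theorem bc_mul (x y : S' ⊗[S] A) :
    t.bc S lam S' (x * y) = t.bc S lam S' y * t.bc S lam S' x := by
  induction x using TensorProduct.induction_on with
  | zero => simp
  | tmul s a =>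
    induction y using TensorProduct.induction_on with
    | zero => simp
    | tmul s' a' =>
      rw [Algebra.TensorProduct.tmul_mul_tmul, LamInv.bc_tmul, LamInv.bc_tmul, LamInv.bc_tmul,
        Algebra.TensorProduct.tmul_mul_tmul, t.map_mul, mul_comm s s']
    | add y y' hy hy' => simp only [mul_add, add_mul, map_add, hy, hy']
  | add x x' hx hx' => simp only [mul_add, add_mul, map_add, hx, hx']

theorem bc_bc (x : S' ⊗[S] A) : t.bc S lam S' (t.bc S lam S' x) = x := by
  induction x using TensorProduct.induction_on with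
  | zero => simp
  | tmul s a => rw [LamInv.bc_tmul, LamInv.bc_tmul, t.invol]
  | add x x' hx hx' => simp only [map_add, hx, hx']

theorem bc_one : t.bc S lam S' (1 : S' ⊗[S] A) = 1 := by
  rw [Algebra.TensorProduct.one_def, LamInv.bc_tmul, t.map_one]

theorem bc_algebraMap (c : S') :
    t.bc S lam S' (algebraMap S' (S' ⊗[S] A) c) = algebraMap S' (S' ⊗[S] A) c := by
  rw [Algebra.TensorProduct.algebraMap_apply, LamInv.bc_tmul, t.map_one]

theorem congr_bc (ψ : A ≃ₐ[R] A) (hψ : AzInv.IsInvHom t t ψ) (x : S' ⊗[S] A) :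
    Algebra.TensorProduct.congr (AlgEquiv.refl : S' ≃ₐ[S'] S') (ψ.restrictScalars S)
        (t.bc S lam S' x) =
      t.bc S lam S'
        (Algebra.TensorProduct.congr (AlgEquiv.refl : S' ≃ₐ[S'] S') (ψ.restrictScalars S) x) := by
  induction x using TensorProduct.induction_on with
  | zero => simp
  | tmul s a =>
    rw [LamInv.bc_tmul, Algebra.TensorProduct.congr_apply, Algebra.TensorProduct.map_tmul,
      Algebra.TensorProduct.congr_apply, Algebra.TensorProduct.map_tmul, LamInv.bc_tmul]
    congr 1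
    exact hψ a
  | add x x' hx hx' => simp only [map_add, hx, hx']

theorem bc_map (S'' : Type u) [CommRing S''] [Algebra S S''] (f : S' →ₐ[S] S'')
    (x : S' ⊗[S] A) :
    t.bc S lam S'' (Algebra.TensorProduct.map f (AlgHom.id S A) x) =
      Algebra.TensorProduct.map f (AlgHom.id S A) (t.bc S lam S' x) := by
  induction x using TensorProduct.induction_on with
  | zero => simp
  | tmul s a =>
    rw [Algebra.TensorProduct.map_tmul, LamInv.bc_tmul, LamInv.bc_tmul,
      Algebra.TensorProduct.map_tmul]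
    rfl
  | add x x' hx hx' => simp only [map_add, hx, hx']

/-- conjugation formula transported along a base change map -/
theorem conj_map (S'' : Type u) [CommRing S''] [Algebra S S''] (f : S' →ₐ[S] S'')
    (ψ : A ≃ₐ[R] A) (u : (S' ⊗[S] A)ˣ)
    (hu : ∀ x : S' ⊗[S] A,
      Algebra.TensorProduct.congr (AlgEquiv.refl : S' ≃ₐ[S'] S') (ψ.restrictScalars S) x =
        ↑u * x * ↑u⁻¹)
    (x₂ : S'' ⊗[S] A) :
    Algebra.TensorProduct.congr (AlgEquiv.refl : S'' ≃ₐ[S''] S'') (ψ.restrictScalars S) x₂ =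
      Algebra.TensorProduct.map f (AlgHom.id S A) ↑u * x₂ *
        Algebra.TensorProduct.map f (AlgHom.id S A) ↑u⁻¹ := by
  induction x₂ using TensorProduct.induction_on with
  | zero => simp
  | tmul s₂ a =>
    have e1 : (s₂ ⊗ₜ[S] a : S'' ⊗[S] A) = s₂ • ((1 : S'') ⊗ₜ[S] a) := by
      rw [TensorProduct.smul_tmul', smul_eq_mul, mul_one]
    have e2 : ((1 : S'') ⊗ₜ[S] a : S'' ⊗[S] A) =
        Algebra.TensorProduct.map f (AlgHom.id S A) ((1 : S') ⊗ₜ[S] a) := by
      rw [Algebra.TensorProduct.map_tmul, map_one]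
      rfl
    have e3 : Algebra.TensorProduct.map f (AlgHom.id S A) ↑u *
        Algebra.TensorProduct.map f (AlgHom.id S A) ((1 : S') ⊗ₜ[S] a) *
        Algebra.TensorProduct.map f (AlgHom.id S A) ↑u⁻¹ = (1 : S'') ⊗ₜ[S] ψ a := by
      rw [← map_mul, ← map_mul, ← hu, Algebra.TensorProduct.congr_apply,
        Algebra.TensorProduct.map_tmul, Algebra.TensorProduct.map_tmul]
      simp
    rw [Algebra.TensorProduct.congr_apply, Algebra.TensorProduct.map_tmul]
    conv_rhs => rw [e1, mul_smul_comm, smul_mul_assoc, e2, e3, TensorProduct.smul_tmul',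
      smul_eq_mul, mul_one]
    rfl
  | add x x' hx hx' => simp only [map_add, hx, hx', mul_add, add_mul]

/-- a central element of `S' ⊗ A` fixed by the involution comes from `S'` -/
theorem exists_tmul_one (hfix : ∀ r : R, lam r = r → r ∈ Set.range (algebraMap S R))
    [IsAzumaya R A] [Module.Flat S S']
    (z : S' ⊗[S] A) (hz : ∀ x, z * x = x * z) (hτ : t.bc S lam S' z = z) :
    ∃ s : S', z = s ⊗ₜ[S] (1 : A) := by
  classical
  obtain ⟨k, a, ha⟩ := Module.Finite.exists_fin (R := R) (M := A)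
  let Φ : A →ₗ[S] (Option (Fin k) → A) := LinearMap.pi (fun o : Option (Fin k) =>
    o.elim (t.linS S lam - LinearMap.id)
      (fun i => LinearMap.mulRight S (a i) - LinearMap.mulLeft S (a i)))
  have hΦn : ∀ b : A, Φ b none = t b - b := fun b => rfl
  have hΦs : ∀ (b : A) (i : Fin k), Φ b (some i) = b * a i - a i * b := fun b i => rfl
  have hexact : Function.Exact (Algebra.linearMap S A) Φ := by
    intro b
    constructor
    · intro hb
      have hcomm_i : ∀ i, b * a i = a i * b := by
        intro i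
        have h := congrFun hb (some i)
        rw [hΦs] at h
        exact sub_eq_zero.1 h
      have hfixb : t b = b := by
        have h := congrFun hb none
        rw [hΦn] at h
        exact sub_eq_zero.1 h
      have hall : ∀ c : A, b * c = c * b := by
        intro c
        have hc : c ∈ Submodule.span R (Set.range a) := by
          rw [ha]
          trivial
        induction hc using Submodule.span_induction with
        | mem x hx =>
          obtain ⟨i, rfl⟩ := hx
          exact hcomm_i i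
        | zero => simp
        | add x y _ _ hx hy => rw [mul_add, add_mul, hx, hy]
        | smul ρ x _ hx => rw [mul_smul_comm, smul_mul_assoc, hx]
      obtain ⟨ρ, hρ⟩ := center_azumaya R A b hall
      have h1 : algebraMap R A (lam ρ) = algebraMap R A ρ := by
        rw [← t.map_algebraMap, ← hρ, hfixb]
      have h2 : lam ρ = ρ := FaithfulSMul.algebraMap_injective R A h1
      obtain ⟨s, hs⟩ := hfix ρ h2
      refine ⟨s, ?_⟩
      rw [Algebra.linearMap_apply, hρ, ← hs, ← IsScalarTower.algebraMap_apply]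
    · rintro ⟨s, rfl⟩
      funext o
      cases o with
      | none =>
        rw [hΦn, Algebra.linearMap_apply, IsScalarTower.algebraMap_apply S R A,
          t.map_algebraMap, AlgEquiv.commutes, sub_self]
        rfl
      | some i =>
        rw [hΦs, Algebra.linearMap_apply, Algebra.commutes, sub_self]
        rfl
  have hex' := Module.Flat.lTensor_exact S' hexact
  have hcomp : ∀ y : S' ⊗[S] A,
      TensorProduct.piRightHom S S S' (fun _ : Option (Fin k) => A) (Φ.lTensor S' y) =
        fun o : Option (Fin k) => o.elim (t.bc S lam S' y - y)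
          (fun i => y * ((1 : S') ⊗ₜ[S] a i) - ((1 : S') ⊗ₜ[S] a i) * y) := by
    intro y
    induction y using TensorProduct.induction_on with
    | zero =>
      funext o
      cases o <;> simp
    | tmul s b =>
      rw [LinearMap.lTensor_tmul, TensorProduct.piRightHom_tmul]
      funext o
      cases o with
      | none =>
        simp only [Option.elim_none, hΦn, LamInv.bc_tmul, TensorProduct.tmul_sub]
      | some i =>
        simp only [Option.elim_some, hΦs, Algebra.TensorProduct.tmul_mul_tmul, mul_one, one_mul,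
          TensorProduct.tmul_sub]
    | add y y' hy hy' =>
      rw [map_add, map_add, hy, hy']
      funext o
      cases o with
      | none =>
        simp only [Option.elim_none, Pi.add_apply, map_add]
        abel
      | some i =>
        simp only [Option.elim_some, Pi.add_apply, add_mul, mul_add]
        abel
  have hz0 : Φ.lTensor S' z = 0 := by
    apply (TensorProduct.piRight S S S' (fun _ : Option (Fin k) => A)).injective
    rw [map_zero, TensorProduct.piRight_apply, hcomp z]
    funext o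
    cases o with
    | none => simp only [Option.elim_none, hτ, sub_self, Pi.zero_apply]
    | some i => simp only [Option.elim_some, hz, sub_self, Pi.zero_apply]
  obtain ⟨w, hw⟩ := (hex' z).1 hz0
  obtain ⟨s, hs⟩ : ∃ s : S', w = s ⊗ₜ[S] (1 : S) :=
    ⟨TensorProduct.rid S S' w, ((TensorProduct.rid S S').symm_apply_apply w).symm⟩
  refine ⟨s, ?_⟩
  rw [← hw, hs, LinearMap.lTensor_tmul, Algebra.linearMap_apply, map_one]

theorem tmul_one_injective (hinj : Function.Injective (algebraMap S A)) [Module.Flat S S'] :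
    Function.Injective (fun s : S' => s ⊗ₜ[S] (1 : A)) := by
  have h1 := Module.Flat.lTensor_preserves_injective_linearMap (M := S')
    (Algebra.linearMap S A) (show Function.Injective (Algebra.linearMap S A) from hinj)
  intro s s' h
  have h0 : (Algebra.linearMap S A).lTensor S' (s ⊗ₜ[S] (1 : S)) =
      (Algebra.linearMap S A).lTensor S' (s' ⊗ₜ[S] (1 : S)) := by
    rw [LinearMap.lTensor_tmul, LinearMap.lTensor_tmul, Algebra.linearMap_apply, map_one]
    exact h
  have h2 := h1 h0
  have h3 := congrArg (TensorProduct.rid S S') h2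
  simpa using h3

end BC

/-- **main**: an inner automorphism commuting with the involution is, etale locally on `S`,
conjugation by a unitary element -/
theorem main (S : Type u) (R : Type v) [CommRing S] [CommRing R] [Algebra S R]
    (lam : R ≃ₐ[S] R) (hinjSR : Function.Injective (algebraMap S R))
    (hfix : ∀ r : R, lam r = r → r ∈ Set.range (algebraMap S R))
    (hsq : ∀ (S₁ : Type u) [CommRing S₁] [Algebra S S₁] [Algebra.Etale S S₁] (x : S₁ˣ),
      ∃ (S₂ : Type u) (_ : CommRing S₂) (_ : Algebra S₁ S₂) (_ : Algebra.Etale S₁ S₂)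
        (_ : Module.FaithfullyFlat S₁ S₂) (y : S₂), y * y = algebraMap S₁ S₂ ↑x)
    (A : Type w) [Ring A] [Algebra S A] [Algebra R A] [IsScalarTower S R A] [IsAzumaya R A]
    (t : AzInv.LamInv R A lam) (ψ : A ≃ₐ[R] A) (hψ : AzInv.IsInvHom t t ψ)
    (S' : Type u) [CommRing S'] [Algebra S S'] [Algebra.Etale S S'] [Module.FaithfullyFlat S S']
    (u : (S' ⊗[S] A)ˣ)
    (hu : ∀ x : S' ⊗[S] A,
      Algebra.TensorProduct.congr (AlgEquiv.refl : S' ≃ₐ[S'] S') (ψ.restrictScalars S) x =
        ↑u * x * ↑u⁻¹) :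
    ∃ (S'' : Type u) (_ : CommRing S'') (_ : Algebra S S'') (_ : Algebra.Etale S S'')
      (_ : Module.FaithfullyFlat S S'') (v : (S'' ⊗[S] A)ˣ),
      t.bc S lam S'' (↑v : S'' ⊗[S] A) * ↑v = 1 ∧
        ∀ x : S'' ⊗[S] A,
          Algebra.TensorProduct.congr (AlgEquiv.refl : S'' ≃ₐ[S''] S'')
            (ψ.restrictScalars S) x = ↑v * x * ↑v⁻¹ := by
  classical
  have τmul := bc_mul S lam t S'
  have τinv := bc_bc S lam t S'
  have τone := bc_one S lam t S'
  have hΨτ := congr_bc S lam t S' ψ hψ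
  have hτu : t.bc S lam S' ↑u * t.bc S lam S' ↑u⁻¹ = 1 := by
    rw [← τmul, Units.inv_mul, τone]
  have hτu' : t.bc S lam S' ↑u⁻¹ * t.bc S lam S' ↑u = 1 := by
    rw [← τmul, Units.mul_inv, τone]
  obtain ⟨r, hr⟩ : ∃ r : S' ⊗[S] A, r = t.bc S lam S' ↑u * ↑u := ⟨_, rfl⟩
  obtain ⟨q, hq⟩ : ∃ q : S' ⊗[S] A, q = ↑u⁻¹ * t.bc S lam S' ↑u⁻¹ := ⟨_, rfl⟩
  have hrq : r * q = 1 := by
    rw [hr, hq]
    calc t.bc S lam S' ↑u * ↑u * (↑u⁻¹ * t.bc S lam S' ↑u⁻¹)
        = t.bc S lam S' ↑u * (↑u * ↑u⁻¹) * t.bc S lam S' ↑u⁻¹ := by simp only [mul_assoc]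
      _ = 1 := by rw [Units.mul_inv, mul_one, hτu]
  have hqr : q * r = 1 := by
    rw [hr, hq]
    calc ↑u⁻¹ * t.bc S lam S' ↑u⁻¹ * (t.bc S lam S' ↑u * ↑u)
        = ↑u⁻¹ * (t.bc S lam S' ↑u⁻¹ * t.bc S lam S' ↑u) * ↑u := by simp only [mul_assoc]
      _ = 1 := by rw [hτu', mul_one, Units.inv_mul]
  have hcentral : ∀ x, r * x = x * r := by
    intro x
    have h1 := hΨτ (t.bc S lam S' x)
    rw [τinv, hu x, hu (t.bc S lam S' x), τmul, τmul, τinv] at h1
    calc r * x = t.bc S lam S' ↑u * (↑u * x * ↑u⁻¹) * ↑u := by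
          rw [hr]
          simp only [mul_assoc, Units.inv_mul, mul_one]
      _ = t.bc S lam S' ↑u * (t.bc S lam S' ↑u⁻¹ * (x * t.bc S lam S' ↑u)) * ↑u := by rw [h1]
      _ = (t.bc S lam S' ↑u * t.bc S lam S' ↑u⁻¹) * x * (t.bc S lam S' ↑u * ↑u) := by
          simp only [mul_assoc]
      _ = x * r := by rw [hτu, one_mul, ← hr]
  have hτr : t.bc S lam S' r = r := by
    rw [hr, τmul, τinv]
  have hcentralq : ∀ x, q * x = x * q := by
    intro x
    calc q * x = q * x * (r * q) := by rw [hrq, mul_one]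
      _ = q * (x * r) * q := by simp only [mul_assoc]
      _ = q * (r * x) * q := by rw [hcentral x]
      _ = (q * r) * x * q := by simp only [mul_assoc]
      _ = x * q := by rw [hqr, one_mul]
  have hτq : t.bc S lam S' q = q := by
    rw [hq, τmul, τinv]
  obtain ⟨s, hs⟩ := exists_tmul_one S lam t S' hfix r hcentral hτr
  obtain ⟨s', hs'⟩ := exists_tmul_one S lam t S' hfix q hcentralq hτq
  have hinjA : Function.Injective (algebraMap S A) := by
    rw [IsScalarTower.algebraMap_eq S R A]
    exact (FaithfulSMul.algebraMap_injective R A).comp hinjSR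
  have hss' : s * s' = 1 := by
    apply tmul_one_injective S S' hinjA
    change (s * s') ⊗ₜ[S] (1 : A) = (1 : S') ⊗ₜ[S] (1 : A)
    rw [← Algebra.TensorProduct.one_def, ← hrq, hs, hs', Algebra.TensorProduct.tmul_mul_tmul,
      mul_one]
  let sU : S'ˣ := ⟨s, s', hss', by rw [mul_comm]; exact hss'⟩
  obtain ⟨S₂, _, _, _, _, y, hy⟩ := hsq S' sU
  letI algS : Algebra S S₂ := ((algebraMap S' S₂).comp (algebraMap S S')).toAlgebra
  haveI tower : IsScalarTower S S' S₂ := IsScalarTower.of_algebraMap_eq (fun _ => rfl)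
  haveI etS : Algebra.Etale S S₂ := Algebra.Etale.comp S S' S₂
  haveI ffS : Module.FaithfullyFlat S S₂ := Module.FaithfullyFlat.trans S S' S₂
  have hyunit : IsUnit y := by
    apply isUnit_of_mul_isUnit_left (y := y)
    rw [hy]
    exact sU.isUnit.map (algebraMap S' S₂)
  obtain ⟨yU, hyU⟩ := hyunit
  let f : S' →ₐ[S] S₂ := IsScalarTower.toAlgHom S S' S₂
  let φ : S' ⊗[S] A →ₐ[S] S₂ ⊗[S] A := Algebra.TensorProduct.map f (AlgHom.id S A)
  let am : S₂ →+* S₂ ⊗[S] A := algebraMap S₂ (S₂ ⊗[S] A)
  have hφr : φ r = am (↑yU * ↑yU) := by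
    rw [hs]
    change Algebra.TensorProduct.map f (AlgHom.id S A) (s ⊗ₜ[S] (1 : A)) = _
    rw [Algebra.TensorProduct.map_tmul, map_one]
    change (algebraMap S' S₂ s) ⊗ₜ[S] (1 : A) = algebraMap S₂ (S₂ ⊗[S] A) (↑yU * ↑yU)
    rw [Algebra.TensorProduct.algebraMap_apply, hyU, hy]
    rfl
  let Y : (S₂ ⊗[S] A)ˣ := Units.map (am : S₂ →* S₂ ⊗[S] A) yU⁻¹
  have hY : (↑Y : S₂ ⊗[S] A) = am ↑yU⁻¹ := rfl
  have hYc : ∀ x : S₂ ⊗[S] A, (↑Y : S₂ ⊗[S] A) * x = x * ↑Y := fun x => Algebra.commutes _ x
  let v : (S₂ ⊗[S] A)ˣ := Units.map (φ : S' ⊗[S] A →* S₂ ⊗[S] A) u * Y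
  have hv : (↑v : S₂ ⊗[S] A) = φ ↑u * ↑Y := rfl
  have hvinv : (↑v⁻¹ : S₂ ⊗[S] A) = ↑Y⁻¹ * φ ↑u⁻¹ := by
    change (↑((Units.map (φ : S' ⊗[S] A →* S₂ ⊗[S] A) u * Y)⁻¹) : S₂ ⊗[S] A) = _
    rw [mul_inv_rev]
    rfl
  refine ⟨S₂, inferInstance, algS, etS, ffS, v, ?_, ?_⟩
  · rw [hv, bc_mul S lam t S₂, hY, bc_algebraMap S lam t S₂]
    have h1 : t.bc S lam S₂ (φ ↑u) = φ (t.bc S lam S' ↑u) := bc_map S lam t S' S₂ f ↑u
    rw [h1]
    calc am ↑yU⁻¹ * φ (t.bc S lam S' ↑u) * (φ ↑u * am ↑yU⁻¹)
        = am ↑yU⁻¹ * (φ (t.bc S lam S' ↑u) * φ ↑u) * am ↑yU⁻¹ := by simp only [mul_assoc]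
      _ = am ↑yU⁻¹ * φ r * am ↑yU⁻¹ := by rw [← map_mul, ← hr]
      _ = am (↑yU⁻¹ * (↑yU * ↑yU) * ↑yU⁻¹) := by rw [hφr]; simp only [map_mul]
      _ = am 1 := by
          congr 1
          calc (↑yU⁻¹ : S₂) * (↑yU * ↑yU) * ↑yU⁻¹ = (↑yU⁻¹ * ↑yU) * (↑yU * ↑yU⁻¹) := by ring
            _ = 1 := by rw [Units.inv_mul, Units.mul_inv, one_mul]
      _ = 1 := map_one am
  · intro x
    rw [conj_map S S' S₂ f ψ u hu x, hv, hvinv]
    have hYY : (↑Y : S₂ ⊗[S] A) * ↑Y⁻¹ = 1 := Units.mul_inv Y
    calc φ ↑u * x * φ ↑u⁻¹ = φ ↑u * (x * (↑Y * ↑Y⁻¹)) * φ ↑u⁻¹ := by rw [hYY, mul_one]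
      _ = φ ↑u * ((↑Y * x) * ↑Y⁻¹) * φ ↑u⁻¹ := by rw [hYc x]; simp only [mul_assoc]
      _ = φ ↑u * ↑Y * x * (↑Y⁻¹ * φ ↑u⁻¹) := by simp only [mul_assoc]

end Groth.Agent.Helper3.AzUnit
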