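import Mathlib

/-!
# Graded algebras: projections, the irrelevant ideal and its square (helper3)
-/

set_option autoImplicit false
universe u

namespace Groth.Agent.Helper3.BBD

open DirectSum

section Basics

variable {A B : Type u} [CommRing A] [CommRing B] [Algebra A B] (𝒜 : ℕ → Submodule A B)
  [GradedAlgebra 𝒜]

/-- The irrelevant ideal. -/
abbrev Bp : Ideal B := (HomogeneousIdeal.irrelevant 𝒜).toIdeal

/-- Homogeneous component. -/
noncomputable abbrev pr (d : ℕ) : B →ₗ[A] B := GradedAlgebra.proj 𝒜 d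

theorem pr_mem (d : ℕ) (b : B) : pr 𝒜 d b ∈ 𝒜 d := by
  rw [GradedAlgebra.proj_apply]
  exact SetLike.coe_mem _

theorem pr_of_mem {d : ℕ} {b : B} (hb : b ∈ 𝒜 d) : pr 𝒜 d b = b := by
  rw [GradedAlgebra.proj_apply]
  exact decompose_of_mem_same 𝒜 hb

theorem pr_of_mem_ne {d d' : ℕ} {b : B} (hb : b ∈ 𝒜 d) (h : d ≠ d') : pr 𝒜 d' b = 0 := by
  rw [GradedAlgebra.proj_apply]
  exact decompose_of_mem_ne 𝒜 hb h

theorem pr_pr_same (d : ℕ) (b : B) : pr 𝒜 d (pr 𝒜 d b) = pr 𝒜 d b :=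
  pr_of_mem 𝒜 (pr_mem 𝒜 d b)

theorem pr_pr_ne {d d' : ℕ} (h : d ≠ d') (b : B) : pr 𝒜 d' (pr 𝒜 d b) = 0 :=
  pr_of_mem_ne 𝒜 (pr_mem 𝒜 d b) h

theorem mem_Bp_iff (b : B) : b ∈ Bp 𝒜 ↔ pr 𝒜 0 b = 0 := by
  rw [GradedAlgebra.proj_apply]
  exact HomogeneousIdeal.mem_irrelevant_iff 𝒜 b

theorem pr_mem_Bp (d : ℕ) {b : B} (hb : b ∈ Bp 𝒜) : pr 𝒜 d b ∈ Bp 𝒜 := by
  rw [GradedAlgebra.proj_apply]
  exact (HomogeneousIdeal.irrelevant 𝒜).isHomogeneous d hb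

theorem isHomogeneous_sq : ((Bp 𝒜) ^ 2).IsHomogeneous 𝒜 := by
  rw [pow_two]
  exact (HomogeneousIdeal.irrelevant 𝒜).isHomogeneous.mul (HomogeneousIdeal.irrelevant 𝒜).isHomogeneous

theorem pr_mem_sq (d : ℕ) {b : B} (hb : b ∈ (Bp 𝒜) ^ 2) : pr 𝒜 d b ∈ (Bp 𝒜) ^ 2 := by
  rw [GradedAlgebra.proj_apply]
  exact isHomogeneous_sq 𝒜 d hb

theorem mem_Bp_of_mem {d : ℕ} (hd : d ≠ 0) {b : B} (hb : b ∈ 𝒜 d) : b ∈ Bp 𝒜 := by
  rw [mem_Bp_iff]
  exact pr_of_mem_ne 𝒜 hb hd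

theorem sum_pr (b : B) (D : ℕ) (hD : ∀ d, D < d → pr 𝒜 d b = 0) :
    ∑ d ∈ Finset.range (D + 1), pr 𝒜 d b = b := by
  classical
  conv_rhs => rw [← sum_support_decompose 𝒜 b]
  symm
  apply Finset.sum_subset
  · intro d hd
    rw [Finset.mem_range]
    by_contra h
    have : pr 𝒜 d b = 0 := hD d (by omega)
    rw [DFinsupp.mem_support_iff] at hd
    apply hd
    rw [GradedAlgebra.proj_apply] at this
    exact Subtype.ext this
  · intro d _ hd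
    rw [DFinsupp.mem_support_iff, not_not] at hd
    rw [hd]
    rfl

theorem exists_bound (b : B) : ∃ D : ℕ, ∀ d, D < d → pr 𝒜 d b = 0 := by
  classical
  refine ⟨(decompose 𝒜 b).support.sup id, fun d hd => ?_⟩
  rw [GradedAlgebra.proj_apply]
  by_contra h
  have hmem : d ∈ (decompose 𝒜 b).support := by
    rw [DFinsupp.mem_support_iff]
    intro h0
    exact h (by rw [h0]; rfl)
  have := Finset.le_sup (f := id) hmem
  simp only [id] at this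
  omega

end Basics

end Groth.Agent.Helper3.BBD
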