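import Mathlib
import Groth.Agent.Lib.Helper3.BBD1

/-!
# Graded algebras: a graded section of the conormal module of the irrelevant ideal (helper3)
-/

set_option autoImplicit false
universe u

namespace Groth.Agent.Helper3.BBD

open DirectSum

section Section

variable {A B : Type u} [CommRing A] [CommRing B] [Algebra A B] (𝒜 : ℕ → Submodule A B)
  [GradedAlgebra 𝒜]

/-- Homogeneous component on the irrelevant ideal. -/
noncomputable def prI (d : ℕ) : ↥(Bp 𝒜) →ₗ[A] ↥(Bp 𝒜) where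
  toFun u := ⟨pr 𝒜 d u.1, pr_mem_Bp 𝒜 d u.2⟩
  map_add' u v := Subtype.ext
    (show pr 𝒜 d ((u + v : ↥(Bp 𝒜)) : B) = pr 𝒜 d u.1 + pr 𝒜 d v.1 by
      rw [Submodule.coe_add, map_add])
  map_smul' a u := Subtype.ext
    (show pr 𝒜 d ((a • u : ↥(Bp 𝒜)) : B) = a • pr 𝒜 d u.1 by
      rw [Submodule.coe_smul_of_tower, map_smul])

@[simp] theorem prI_coe (d : ℕ) (u : ↥(Bp 𝒜)) : ((prI 𝒜 d u : ↥(Bp 𝒜)) : B) = pr 𝒜 d u.1 := rfl

/-- The `A`-linear quotient map to the conormal module. -/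
noncomputable def piA : ↥(Bp 𝒜) →ₗ[A] (Bp 𝒜).Cotangent :=
  (Bp 𝒜).toCotangent.restrictScalars A

@[simp] theorem piA_apply (u : ↥(Bp 𝒜)) : piA 𝒜 u = (Bp 𝒜).toCotangent u := rfl

variable (σ : (Bp 𝒜).Cotangent →ₗ[A] ↥(Bp 𝒜)) (hσ : ∀ x, (Bp 𝒜).toCotangent (σ x) = x)

/-- The induced projector on the conormal module. -/
noncomputable def pbar (d : ℕ) : (Bp 𝒜).Cotangent →ₗ[A] (Bp 𝒜).Cotangent :=
  piA 𝒜 ∘ₗ prI 𝒜 d ∘ₗ σ

include hσ in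
theorem pbar_pi (d : ℕ) (u : ↥(Bp 𝒜)) :
    pbar 𝒜 σ d ((Bp 𝒜).toCotangent u) = (Bp 𝒜).toCotangent (prI 𝒜 d u) := by
  show (Bp 𝒜).toCotangent (prI 𝒜 d (σ ((Bp 𝒜).toCotangent u))) = _
  rw [Ideal.toCotangent_eq]
  have h1 : (Bp 𝒜).toCotangent (σ ((Bp 𝒜).toCotangent u)) = (Bp 𝒜).toCotangent u := hσ _
  rw [Ideal.toCotangent_eq] at h1
  have h2 := pr_mem_sq 𝒜 d h1
  rw [map_sub] at h2
  exact h2

include hσ in
theorem pbar_pbar_same (d : ℕ) (x : (Bp 𝒜).Cotangent) :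
    pbar 𝒜 σ d (pbar 𝒜 σ d x) = pbar 𝒜 σ d x := by
  show pbar 𝒜 σ d ((Bp 𝒜).toCotangent (prI 𝒜 d (σ x))) = (Bp 𝒜).toCotangent (prI 𝒜 d (σ x))
  rw [pbar_pi 𝒜 σ hσ]
  congr 1
  exact Subtype.ext (pr_pr_same 𝒜 d _)

include hσ in
theorem pbar_pbar_ne {d d' : ℕ} (h : d ≠ d') (x : (Bp 𝒜).Cotangent) :
    pbar 𝒜 σ d' (pbar 𝒜 σ d x) = 0 := by
  show pbar 𝒜 σ d' ((Bp 𝒜).toCotangent (prI 𝒜 d (σ x))) = 0
  rw [pbar_pi 𝒜 σ hσ]
  have : prI 𝒜 d' (prI 𝒜 d (σ x)) = 0 := Subtype.ext (pr_pr_ne 𝒜 h _)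
  rw [this, map_zero]

/-- The graded section (summed over degrees `≤ D`). -/
noncomputable def gsec (D : ℕ) : (Bp 𝒜).Cotangent →ₗ[A] ↥(Bp 𝒜) :=
  ∑ d ∈ Finset.range (D + 1), prI 𝒜 d ∘ₗ σ ∘ₗ pbar 𝒜 σ d

theorem gsec_apply (D : ℕ) (x : (Bp 𝒜).Cotangent) :
    gsec 𝒜 σ D x = ∑ d ∈ Finset.range (D + 1), prI 𝒜 d (σ (pbar 𝒜 σ d x)) := by
  unfold gsec
  rw [LinearMap.sum_apply]
  rfl

include hσ in
/-- Homogeneous components of values of the graded section are values of the graded section. -/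
theorem prI_gsec (D : ℕ) (d' : ℕ) (hd' : d' ≤ D) (x : (Bp 𝒜).Cotangent) :
    prI 𝒜 d' (gsec 𝒜 σ D x) = gsec 𝒜 σ D (pbar 𝒜 σ d' x) := by
  rw [gsec_apply, gsec_apply, map_sum]
  have hmem : d' ∈ Finset.range (D + 1) := Finset.mem_range.mpr (by omega)
  rw [Finset.sum_eq_single_of_mem d' hmem, Finset.sum_eq_single_of_mem d' hmem]
  · rw [pbar_pbar_same 𝒜 σ hσ]
    exact Subtype.ext (pr_pr_same 𝒜 d' _)
  · intro d _ hne
    rw [pbar_pbar_ne 𝒜 σ hσ (Ne.symm hne), map_zero, map_zero]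
  · intro d _ hne
    exact Subtype.ext (pr_pr_ne 𝒜 hne _)

theorem prI_gsec_of_lt (D : ℕ) (d' : ℕ) (hd' : D < d') (x : (Bp 𝒜).Cotangent) :
    prI 𝒜 d' (gsec 𝒜 σ D x) = 0 := by
  rw [gsec_apply, map_sum]
  apply Finset.sum_eq_zero
  intro d hd
  rw [Finset.mem_range] at hd
  exact Subtype.ext (pr_pr_ne 𝒜 (by omega) _)

include hσ in
/-- The graded section is a section, provided `D` bounds the degrees occurring in `σ`. -/
theorem pi_gsec (D : ℕ) (hD : ∀ x d, D < d → pr 𝒜 d (σ x).1 = 0) (x : (Bp 𝒜).Cotangent) :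
    (Bp 𝒜).toCotangent (gsec 𝒜 σ D x) = x := by
  rw [gsec_apply, map_sum]
  have h1 : ∀ d ∈ Finset.range (D + 1),
      (Bp 𝒜).toCotangent (prI 𝒜 d (σ (pbar 𝒜 σ d x))) = (Bp 𝒜).toCotangent (prI 𝒜 d (σ x)) := by
    intro d _
    rw [← pbar_pi 𝒜 σ hσ, hσ, pbar_pbar_same 𝒜 σ hσ]
    rfl
  rw [Finset.sum_congr rfl h1, ← map_sum]
  have h2 : ∑ d ∈ Finset.range (D + 1), prI 𝒜 d (σ x) = σ x := by
    apply Subtype.ext
    rw [Submodule.coe_sum]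
    exact sum_pr 𝒜 (σ x).1 D (hD x)
  rw [h2, hσ]

end Section

end Groth.Agent.Helper3.BBD
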