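import Mathlib
import Groth.Agent.Lib.Helper3.BBD2

/-!
# Graded algebras: generation by a graded section of the conormal module (helper3)
-/

set_option autoImplicit false
universe u

namespace Groth.Agent.Helper3.BBD

open DirectSum

section Gen

variable {A B : Type u} [CommRing A] [CommRing B] [Algebra A B] (𝒜 : ℕ → Submodule A B)
  [GradedAlgebra 𝒜] (B' : Subalgebra A B)

/-- products of two elements of the irrelevant ideal: degree `d` component, given lower degrees -/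
theorem pr_mul_mem (d : ℕ) (IH : ∀ d' < d, ∀ x ∈ 𝒜 d', x ∈ B') {u v : B} (hu : u ∈ Bp 𝒜)
    (hv : v ∈ Bp 𝒜) : pr 𝒜 d (u * v) ∈ B' := by
  obtain ⟨Du, hDu⟩ := exists_bound 𝒜 u
  obtain ⟨Dv, hDv⟩ := exists_bound 𝒜 v
  have hu' := sum_pr 𝒜 u Du hDu
  have hv' := sum_pr 𝒜 v Dv hDv
  rw [← hu', ← hv', Finset.sum_mul_sum, map_sum]
  refine Subalgebra.sum_mem _ (fun a _ => ?_)
  rw [map_sum]
  refine Subalgebra.sum_mem _ (fun b _ => ?_)
  have hab : pr 𝒜 a u * pr 𝒜 b v ∈ 𝒜 (a + b) :=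
    SetLike.mul_mem_graded (pr_mem 𝒜 a u) (pr_mem 𝒜 b v)
  by_cases hd : a + b = d
  · rw [pr_of_mem 𝒜 (hd ▸ hab)]
    by_cases ha : a = 0
    · subst ha
      rw [(mem_Bp_iff 𝒜 u).mp hu, zero_mul]
      exact Subalgebra.zero_mem _
    by_cases hb : b = 0
    · subst hb
      rw [(mem_Bp_iff 𝒜 v).mp hv, mul_zero]
      exact Subalgebra.zero_mem _
    exact Subalgebra.mul_mem _ (IH a (by omega) _ (pr_mem 𝒜 a u)) (IH b (by omega) _ (pr_mem 𝒜 b v))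
  · rw [pr_of_mem_ne 𝒜 hab hd]
    exact Subalgebra.zero_mem _

theorem pr_sq_mem (d : ℕ) (IH : ∀ d' < d, ∀ x ∈ 𝒜 d', x ∈ B') {z : B} (hz : z ∈ (Bp 𝒜) ^ 2) :
    pr 𝒜 d z ∈ B' := by
  rw [pow_two] at hz
  refine Submodule.mul_induction_on hz (fun u hu v hv => pr_mul_mem 𝒜 B' d IH hu hv) ?_
  intro x y hx hy
  rw [map_add]
  exact Subalgebra.add_mem _ hx hy

/-- A graded section generates. -/
theorem mem_of_gradedSection (h0 : ∀ b : B, b ∈ 𝒜 0 → b ∈ Set.range (algebraMap A B))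
    (s : (Bp 𝒜).Cotangent →ₗ[A] ↥(Bp 𝒜)) (hs : ∀ x, (Bp 𝒜).toCotangent (s x) = x)
    (hgr : ∀ d x, ∃ x', pr 𝒜 d (s x).1 = (s x').1)
    (hB' : ∀ x, (s x).1 ∈ B') (d : ℕ) : ∀ x ∈ 𝒜 d, x ∈ B' := by
  induction d using Nat.strong_induction_on with
  | _ d IH =>
    intro x hx
    rcases Nat.eq_zero_or_pos d with rfl | hd
    · obtain ⟨a, rfl⟩ := h0 x hx
      exact Subalgebra.algebraMap_mem _ a
    · have hxB : x ∈ Bp 𝒜 := mem_Bp_of_mem 𝒜 (by omega) hx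
      set y := s ((Bp 𝒜).toCotangent ⟨x, hxB⟩) with hy
      have h1 : (Bp 𝒜).toCotangent ⟨x, hxB⟩ = (Bp 𝒜).toCotangent y := (hs _).symm
      rw [Ideal.toCotangent_eq] at h1
      have h2 := pr_sq_mem 𝒜 B' d IH h1
      rw [map_sub] at h2
      have h3 : pr 𝒜 d x = x := pr_of_mem 𝒜 hx
      obtain ⟨x', hx'⟩ := hgr d ((Bp 𝒜).toCotangent ⟨x, hxB⟩)
      have h4 : pr 𝒜 d y.1 ∈ B' := by rw [hy, hx']; exact hB' x'
      have h5 := Subalgebra.add_mem _ h2 h4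
      simp only [h3, sub_add_cancel] at h5
      exact h5

theorem eq_top_of_gradedSection (h0 : ∀ b : B, b ∈ 𝒜 0 → b ∈ Set.range (algebraMap A B))
    (s : (Bp 𝒜).Cotangent →ₗ[A] ↥(Bp 𝒜)) (hs : ∀ x, (Bp 𝒜).toCotangent (s x) = x)
    (hgr : ∀ d x, ∃ x', pr 𝒜 d (s x).1 = (s x').1)
    (hB' : ∀ x, (s x).1 ∈ B') : B' = ⊤ := by
  rw [eq_top_iff]
  rintro b -
  obtain ⟨D, hD⟩ := exists_bound 𝒜 b
  rw [← sum_pr 𝒜 b D hD]
  exact Subalgebra.sum_mem _ (fun d _ =>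
    mem_of_gradedSection 𝒜 B' h0 s hs hgr hB' d _ (pr_mem 𝒜 d b))

end Gen

end Groth.Agent.Helper3.BBD
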