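import Mathlib
import Groth.Agent.Lib.Helper3.BBD3

/-!
# Graded algebras: generators lifting a basis of the conormal module (helper3)
-/

set_option autoImplicit false
universe u

namespace Groth.Agent.Helper3.BBD

open DirectSum

section Gens

variable {A B : Type u} [CommRing A] [CommRing B] [Algebra A B] (𝒜 : ℕ → Submodule A B)
  [GradedAlgebra 𝒜]

theorem exists_generators [Nontrivial A]
    (h0 : ∀ b : B, b ∈ 𝒜 0 → b ∈ Set.range (algebraMap A B))
    [Module.Free A (Bp 𝒜).Cotangent] [Module.Finite A (Bp 𝒜).Cotangent] :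
    ∃ b : Fin (Module.finrank A (Bp 𝒜).Cotangent) → ↥(Bp 𝒜),
      LinearIndependent A (fun i => (Bp 𝒜).toCotangent (b i)) ∧
      Algebra.adjoin A (Set.range fun i => ((b i : ↥(Bp 𝒜)) : B)) = ⊤ := by
  classical
  let e := Module.finBasis A (Bp 𝒜).Cotangent
  let lift : Fin (Module.finrank A (Bp 𝒜).Cotangent) → ↥(Bp 𝒜) :=
    fun i => ((Bp 𝒜).toCotangent_surjective (e i)).choose
  have hlift : ∀ i, (Bp 𝒜).toCotangent (lift i) = e i :=
    fun i => ((Bp 𝒜).toCotangent_surjective (e i)).choose_spec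
  let σ : (Bp 𝒜).Cotangent →ₗ[A] ↥(Bp 𝒜) := e.constr A lift
  have hσe : ∀ i, σ (e i) = lift i := fun i => e.constr_basis A lift i
  have hσ : ∀ x, (Bp 𝒜).toCotangent (σ x) = x := by
    intro x
    have h1 : piA 𝒜 ∘ₗ σ = LinearMap.id := by
      apply e.ext
      intro i
      simp only [LinearMap.coe_comp, Function.comp_apply, piA_apply, hσe, hlift,
        LinearMap.id_apply]
    exact LinearMap.congr_fun h1 x
  have hσx : ∀ x, σ x = ∑ i, e.repr x i • lift i := by
    intro x
    conv_lhs => rw [← e.sum_repr x]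
    rw [map_sum]
    refine Finset.sum_congr rfl (fun i _ => ?_)
    rw [map_smul, hσe]
  choose Di hDi using fun i => exists_bound 𝒜 (lift i).1
  let D := Finset.univ.sup Di
  have hD : ∀ x d, D < d → pr 𝒜 d (σ x).1 = 0 := by
    intro x d hd
    rw [hσx, Submodule.coe_sum, map_sum]
    apply Finset.sum_eq_zero
    intro i _
    rw [Submodule.coe_smul_of_tower, map_smul, hDi i d, smul_zero]
    have : Di i ≤ D := Finset.le_sup (f := Di) (Finset.mem_univ i)
    omega
  let s := gsec 𝒜 σ D
  have hs : ∀ x, (Bp 𝒜).toCotangent (s x) = x := pi_gsec 𝒜 σ hσ D hD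
  have hgr : ∀ d x, ∃ x', pr 𝒜 d (s x).1 = (s x').1 := by
    intro d x
    by_cases hd : d ≤ D
    · refine ⟨pbar 𝒜 σ d x, ?_⟩
      exact congrArg Subtype.val (prI_gsec 𝒜 σ hσ D d hd x)
    · refine ⟨0, ?_⟩
      rw [map_zero]
      exact congrArg Subtype.val (prI_gsec_of_lt 𝒜 σ D d (by omega) x)
  refine ⟨fun i => s (e i), ?_, ?_⟩
  · have : (fun i => (Bp 𝒜).toCotangent (s (e i))) = e := by
      ext i
      exact hs (e i)
    rw [this]
    exact e.linearIndependent
  · apply eq_top_of_gradedSection 𝒜 _ h0 s hs hgr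
    intro x
    have hx : s x = ∑ i, e.repr x i • s (e i) := by
      conv_lhs => rw [← e.sum_repr x]
      rw [map_sum]
      refine Finset.sum_congr rfl (fun i _ => ?_)
      rw [map_smul]
    rw [hx, Submodule.coe_sum]
    refine Subalgebra.sum_mem _ (fun i _ => ?_)
    rw [Submodule.coe_smul_of_tower]
    exact Subalgebra.smul_mem _ (Algebra.subset_adjoin (Set.mem_range_self i)) _

end Gens

end Groth.Agent.Helper3.BBD
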