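import Mathlib
import Groth.Agent.Lib.Helper3.BBD4

/-!
# Graded algebras: the polynomial presentation attached to lifted generators (helper3)
-/

set_option autoImplicit false
universe u

namespace Groth.Agent.Helper3.BBD

open DirectSum MvPolynomial

section Poly

variable {A : Type u} [CommRing A] {n : ℕ}

theorem sub_C_coeff_zero_mem (g : MvPolynomial (Fin n) A) :
    g - C (coeff 0 g) ∈ idealOfVars (Fin n) A := by
  have h := (mem_pow_idealOfVars_iff' 1 (g - C (coeff 0 g))).mpr ?_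
  · rwa [pow_one] at h
  · intro x hx
    have hx0 : x = 0 := by
      have : Finsupp.degree x = 0 := by omega
      exact (Finsupp.degree_eq_zero_iff x).mp this
    subst hx0
    simp

theorem eq_zero_of_forall_mem_pow (f : MvPolynomial (Fin n) A)
    (h : ∀ m : ℕ, f ∈ idealOfVars (Fin n) A ^ m) : f = 0 := by
  ext x
  rw [coeff_zero]
  exact (mem_pow_idealOfVars_iff' (Finsupp.degree x + 1) f).mp (h _) x (by omega)

/-- elements of `P₊` are `Σ C aᵢ Xᵢ` modulo `P₊²` -/
theorem exists_linear_part (f : MvPolynomial (Fin n) A) (hf : f ∈ idealOfVars (Fin n) A) :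
    ∃ (a : Fin n → A) (r : MvPolynomial (Fin n) A), r ∈ idealOfVars (Fin n) A ^ 2 ∧
      f = ∑ i, C (a i) * X i + r := by
  obtain ⟨g, hg⟩ := (Ideal.mem_span_range_iff_exists_fun).mp hf
  refine ⟨fun i => coeff 0 (g i), ∑ i, (g i - C (coeff 0 (g i))) * X i, ?_, ?_⟩
  · refine Ideal.sum_mem _ (fun i _ => ?_)
    rw [pow_two]
    exact Ideal.mul_mem_mul (sub_C_coeff_zero_mem (g i)) (Ideal.subset_span (Set.mem_range_self i))
  · rw [← hg, ← Finset.sum_add_distrib]
    refine Finset.sum_congr rfl (fun i _ => ?_)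
    ring

end Poly

section Phi

variable {A B : Type u} [CommRing A] [CommRing B] [Algebra A B] (𝒜 : ℕ → Submodule A B)
  [GradedAlgebra 𝒜] {n : ℕ} (b : Fin n → ↥(Bp 𝒜))

/-- The presentation attached to a family of elements of the irrelevant ideal. -/
noncomputable def phi : MvPolynomial (Fin n) A →ₐ[A] B := aeval (fun i => ((b i : ↥(Bp 𝒜)) : B))

theorem phi_X (i : Fin n) : phi 𝒜 b (X i) = (b i : B) := by
  unfold phi
  rw [aeval_X]

theorem phi_surjective (h : Algebra.adjoin A (Set.range fun i => ((b i : ↥(Bp 𝒜)) : B)) = ⊤) :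
    Function.Surjective (phi 𝒜 b) := by
  rw [← AlgHom.range_eq_top]
  unfold phi
  rw [← Algebra.adjoin_range_eq_range_aeval, h]

theorem phi_mem_Bp {p : MvPolynomial (Fin n) A} (hp : p ∈ idealOfVars (Fin n) A) :
    phi 𝒜 b p ∈ Bp 𝒜 := by
  have : idealOfVars (Fin n) A ≤ (Bp 𝒜).comap (phi 𝒜 b) := by
    rw [Ideal.span_le]
    rintro _ ⟨i, rfl⟩
    show phi 𝒜 b (X i) ∈ Bp 𝒜
    rw [phi_X]
    exact (b i).2
  exact this hp

theorem phi_mem_sq {p : MvPolynomial (Fin n) A} (hp : p ∈ idealOfVars (Fin n) A ^ 2) :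
    phi 𝒜 b p ∈ (Bp 𝒜) ^ 2 := by
  rw [pow_two] at hp ⊢
  refine Submodule.mul_induction_on hp (fun u hu v hv => ?_) (fun x y hx hy => ?_)
  · rw [map_mul]
    exact Ideal.mul_mem_mul (phi_mem_Bp 𝒜 b hu) (phi_mem_Bp 𝒜 b hv)
  · rw [map_add]
    exact Ideal.add_mem _ hx hy

theorem algebraMap_mem_zero (a : A) : algebraMap A B a ∈ 𝒜 0 := by
  rw [Algebra.algebraMap_eq_smul_one]
  exact Submodule.smul_mem _ _ (SetLike.GradedOne.one_mem)

theorem algebraMap_eq_zero_of_mem_Bp {a : A} (h : algebraMap A B a ∈ Bp 𝒜) :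
    algebraMap A B a = 0 := by
  rw [mem_Bp_iff, pr_of_mem 𝒜 (algebraMap_mem_zero 𝒜 a)] at h
  exact h

/-- `B₊` is the image of `P₊`. -/
theorem Bp_le_map (hsurj : Function.Surjective (phi 𝒜 b)) :
    Bp 𝒜 ≤ (idealOfVars (Fin n) A).map (phi 𝒜 b) := by
  intro x hx
  obtain ⟨p, rfl⟩ := hsurj x
  have h1 := phi_mem_Bp 𝒜 b (sub_C_coeff_zero_mem p)
  have h2 : algebraMap A B (coeff 0 p) ∈ Bp 𝒜 := by
    have : algebraMap A B (coeff 0 p) = phi 𝒜 b p - phi 𝒜 b (p - C (coeff 0 p)) := by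
      rw [map_sub, sub_sub_cancel]
      show _ = phi 𝒜 b (algebraMap A _ _)
      rw [AlgHom.commutes]
    rw [this]
    exact Ideal.sub_mem _ hx h1
  have h3 := algebraMap_eq_zero_of_mem_Bp 𝒜 h2
  have h4 : phi 𝒜 b p = phi 𝒜 b (p - C (coeff 0 p)) := by
    rw [map_sub]
    have : phi 𝒜 b (C (coeff 0 p)) = algebraMap A B (coeff 0 p) := by
      show phi 𝒜 b (algebraMap A _ _) = _
      rw [AlgHom.commutes]
    rw [this, h3, sub_zero]
  rw [h4]
  exact Ideal.mem_map_of_mem _ (sub_C_coeff_zero_mem p)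

/-- The kernel of the presentation is contained in `P₊²`. -/
theorem ker_phi_le_sq (hinj : Function.Injective (algebraMap A B))
    (hli : LinearIndependent A (fun i => (Bp 𝒜).toCotangent (b i))) :
    RingHom.ker (phi 𝒜 b) ≤ idealOfVars (Fin n) A ^ 2 := by
  intro f hf
  rw [RingHom.mem_ker] at hf
  -- constant coefficient vanishes
  have h1 := phi_mem_Bp 𝒜 b (sub_C_coeff_zero_mem f)
  have hC : phi 𝒜 b (C (coeff 0 f)) = algebraMap A B (coeff 0 f) := by
    show phi 𝒜 b (algebraMap A _ _) = _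
    rw [AlgHom.commutes]
  rw [map_sub, hf, zero_sub, hC] at h1
  have h2 : algebraMap A B (coeff 0 f) ∈ Bp 𝒜 := by
    have := Ideal.neg_mem_iff (Bp 𝒜) |>.mp h1
    exact this
  have h3 : coeff 0 f = 0 := hinj (by rw [algebraMap_eq_zero_of_mem_Bp 𝒜 h2, map_zero])
  have hfP : f ∈ idealOfVars (Fin n) A := by
    have := sub_C_coeff_zero_mem f
    rwa [h3, map_zero, sub_zero] at this
  obtain ⟨a, r, hr, hfr⟩ := exists_linear_part f hfP
  have h4 : phi 𝒜 b f = ∑ i, a i • (b i : B) + phi 𝒜 b r := by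
    rw [hfr, map_add, map_sum]
    congr 1
    refine Finset.sum_congr rfl (fun i _ => ?_)
    rw [map_mul, phi_X]
    have : phi 𝒜 b (C (a i)) = algebraMap A B (a i) := by
      show phi 𝒜 b (algebraMap A _ _) = _
      rw [AlgHom.commutes]
    rw [this, Algebra.smul_def]
  have h5 : ((∑ i, a i • b i : ↥(Bp 𝒜)) : B) = - phi 𝒜 b r := by
    rw [Submodule.coe_sum]
    have : ∑ i, ((a i • b i : ↥(Bp 𝒜)) : B) = ∑ i, a i • (b i : B) :=
      Finset.sum_congr rfl (fun i _ => Submodule.coe_smul_of_tower _ _)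
    rw [this]
    rw [hf] at h4
    exact eq_neg_of_add_eq_zero_left h4.symm
  have h6 : (Bp 𝒜).toCotangent (∑ i, a i • b i) = 0 := by
    rw [Ideal.toCotangent_eq_zero, h5]
    exact Ideal.neg_mem_iff _ |>.mpr (phi_mem_sq 𝒜 b hr)
  have h7 : ∑ i, a i • (Bp 𝒜).toCotangent (b i) = 0 := by
    rw [← h6, map_sum]
    refine Finset.sum_congr rfl (fun i _ => ?_)
    exact (LinearMap.map_smul_of_tower (Bp 𝒜).toCotangent (a i) (b i)).symm
  have h8 := Fintype.linearIndependent_iff.mp hli a h7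
  rw [hfr]
  have : ∑ i, C (a i) * X i = (0 : MvPolynomial (Fin n) A) := by
    apply Finset.sum_eq_zero
    intro i _
    rw [h8 i, map_zero, zero_mul]
  rw [this, zero_add]
  exact hr

end Phi

end Groth.Agent.Helper3.BBD
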