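import Mathlib

/-!
# A presentation of an algebra smooth at a prime whose kernel lies in the square of the prime
is locally an isomorphism (helper3)
-/

set_option autoImplicit false
universe u

namespace Groth.Agent.Helper3.BBD

open TensorProduct KaehlerDifferential IsLocalRing

section Nak

theorem subsingleton_of_residueField_tensor {R S : Type u} [CommRing R] [CommRing S]
    [IsLocalRing R] [IsLocalRing S] [Algebra R S] [IsLocalHom (algebraMap R S)]
    (M : Type u) [AddCommGroup M] [Module R M] [Module.Finite R M]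
    (h : Subsingleton (ResidueField S ⊗[R] M)) : Subsingleton M := by
  have e := AlgebraTensorModule.cancelBaseChange R (ResidueField R) (ResidueField S)
    (ResidueField S) M
  haveI : Subsingleton (ResidueField S ⊗[ResidueField R] (ResidueField R ⊗[R] M)) :=
    e.toEquiv.subsingleton
  haveI : Subsingleton (ResidueField R ⊗[R] M) :=
    (Module.FaithfullyFlat.subsingleton_tensorProduct_iff_right (ResidueField R)
      (ResidueField S)).mp inferInstance
  exact (IsLocalRing.subsingleton_tensorProduct (R := R)).mp inferInstance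

theorem one_tmul_D_eq_zero {R P κ : Type u} [CommRing R] [CommRing P] [Algebra R P] [CommRing κ]
    [Algebra P κ] (I : Ideal P) (hI : ∀ u ∈ I, algebraMap P κ u = 0) {x : P} (hx : x ∈ I ^ 2) :
    (1 : κ) ⊗ₜ[P] D R P x = 0 := by
  rw [pow_two] at hx
  refine Submodule.mul_induction_on hx (fun u hu v hv => ?_) (fun a b ha hb => ?_)
  · rw [Derivation.leibniz, tmul_add, tmul_smul, tmul_smul, smul_tmul', smul_tmul',
      Algebra.smul_def, Algebra.smul_def, hI u hu, hI v hv, zero_mul, zero_tmul, zero_tmul, add_zero]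
  · rw [map_add, tmul_add, ha, hb, add_zero]

end Nak

section Main

theorem exists_notMem_mul_eq_zero
    {A P0 B : Type u} [CommRing A] [CommRing P0] [CommRing B] [Algebra A P0] [Algebra A B]
    [Algebra.FormallySmooth A P0] [Algebra.FiniteType A P0]
    (φ : P0 →ₐ[A] B) (hφ : Function.Surjective φ) (hK : (RingHom.ker φ).FG)
    (𝔮 : Ideal B) [𝔮.IsPrime] (hsm : Algebra.IsSmoothAt A 𝔮)
    (hK2 : RingHom.ker φ ≤ (𝔮.comap φ) ^ 2) :
    ∀ f ∈ RingHom.ker φ, ∃ s : P0, s ∉ 𝔮.comap φ ∧ s * f = 0 := by
  let 𝔭 : Ideal P0 := 𝔮.comap φ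
  haveI : 𝔭.IsPrime := Ideal.comap_isPrime _ 𝔮
  let g : Localization.AtPrime 𝔭 →+* Localization.AtPrime 𝔮 :=
    Localization.localRingHom 𝔭 𝔮 (φ : P0 →+* B) rfl
  letI : Algebra (Localization.AtPrime 𝔭) (Localization.AtPrime 𝔮) := g.toAlgebra
  have hg : ∀ a : P0, g (algebraMap P0 (Localization.AtPrime 𝔭) a) =
      algebraMap B (Localization.AtPrime 𝔮) (φ a) :=
    fun a => Localization.localRingHom_to_map 𝔭 𝔮 (φ : P0 →+* B) rfl a
  haveI : IsScalarTower A (Localization.AtPrime 𝔭) (Localization.AtPrime 𝔮) := by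
    refine IsScalarTower.of_algebraMap_eq (fun r => ?_)
    show _ = g _
    rw [IsScalarTower.algebraMap_apply A P0 (Localization.AtPrime 𝔭), hg,
      IsScalarTower.algebraMap_apply A B (Localization.AtPrime 𝔮), AlgHom.commutes]
  haveI : IsLocalHom (algebraMap (Localization.AtPrime 𝔭) (Localization.AtPrime 𝔮)) :=
    Localization.isLocalHom_localRingHom 𝔭 𝔮 (φ : P0 →+* B) rfl
  haveI : Algebra.FormallySmooth P0 (Localization.AtPrime 𝔭) :=
    Algebra.FormallySmooth.of_isLocalization 𝔭.primeCompl
  haveI : Algebra.FormallySmooth A (Localization.AtPrime 𝔭) :=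
    Algebra.FormallySmooth.comp A P0 (Localization.AtPrime 𝔭)
  haveI : Module.Finite (Localization.AtPrime 𝔭) Ω[Localization.AtPrime 𝔭⁄A] := inferInstance
  haveI : Module.Projective (Localization.AtPrime 𝔭) Ω[Localization.AtPrime 𝔭⁄A] :=
    inferInstance
  haveI : Module.Free (Localization.AtPrime 𝔭) Ω[Localization.AtPrime 𝔭⁄A] :=
    Module.free_of_flat_of_isLocalRing
  have hsurj : Function.Surjective
      (algebraMap (Localization.AtPrime 𝔭) (Localization.AtPrime 𝔮)) :=
    RingHom.surjective_localRingHom_of_surjective _ hφ 𝔮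
  have hT : Submonoid.map (φ : P0 →+* B) 𝔭.primeCompl = 𝔮.primeCompl :=
    Submonoid.map_comap_eq_of_surjective hφ 𝔮.primeCompl
  have hker : RingHom.ker (algebraMap (Localization.AtPrime 𝔭) (Localization.AtPrime 𝔮)) =
      (RingHom.ker φ).map (algebraMap P0 (Localization.AtPrime 𝔭)) :=
    IsLocalization.ker_map (S := Localization.AtPrime 𝔭) (Localization.AtPrime 𝔮)
      (M := 𝔭.primeCompl) (T := 𝔮.primeCompl) (φ : P0 →+* B) hT
  have hfg : (RingHom.ker (algebraMap (Localization.AtPrime 𝔭) (Localization.AtPrime 𝔮))).FG := by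
    rw [hker]
    exact hK.map _
  have hinj := (Algebra.FormallySmooth.iff_injective_cotangentComplexBaseChange_residueField
    (R := A) (S := Localization.AtPrime 𝔮) (P := Localization.AtPrime 𝔭) hsurj hfg).mp hsm
  -- the kernel lies in the square of the maximal ideal
  have hle : RingHom.ker (algebraMap (Localization.AtPrime 𝔭) (Localization.AtPrime 𝔮)) ≤
      maximalIdeal (Localization.AtPrime 𝔭) ^ 2 := by
    rw [hker, ← Localization.AtPrime.map_eq_maximalIdeal, ← Ideal.map_pow]
    exact Ideal.map_mono hK2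
  have hres : ∀ u ∈ maximalIdeal (Localization.AtPrime 𝔭),
      algebraMap (Localization.AtPrime 𝔭) (ResidueField (Localization.AtPrime 𝔮)) u = 0 := by
    intro u hu
    rw [IsScalarTower.algebraMap_apply (Localization.AtPrime 𝔭) (Localization.AtPrime 𝔮)
      (ResidueField (Localization.AtPrime 𝔮))]
    show residue _ _ = 0
    rw [residue_eq_zero_iff]
    exact ((local_hom_TFAE (algebraMap (Localization.AtPrime 𝔭)
      (Localization.AtPrime 𝔮))).out 0 2 rfl rfl).mp inferInstance (Ideal.mem_map_of_mem _ hu)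
  have hzero : ∀ t, cotangentComplexBaseChange A (Localization.AtPrime 𝔮) (Localization.AtPrime 𝔭)
      (ResidueField (Localization.AtPrime 𝔮)) t = 0 := by
    intro t
    induction t using TensorProduct.induction_on with
    | zero => rw [map_zero]
    | tmul a b =>
      rw [cotangentComplexBaseChange_tmul, kerToTensor_apply,
        one_tmul_D_eq_zero (maximalIdeal (Localization.AtPrime 𝔭)) hres (hle b.2), smul_zero]
    | add x y hx hy => rw [map_add, hx, hy, add_zero]
  haveI hsub : Subsingleton (ResidueField (Localization.AtPrime 𝔮) ⊗[Localization.AtPrime 𝔭]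
      RingHom.ker (algebraMap (Localization.AtPrime 𝔭) (Localization.AtPrime 𝔮))) := by
    refine ⟨fun x y => hinj ?_⟩
    rw [hzero, hzero]
  haveI : Module.Finite (Localization.AtPrime 𝔭)
      (RingHom.ker (algebraMap (Localization.AtPrime 𝔭) (Localization.AtPrime 𝔮))) :=
    Module.Finite.of_fg hfg
  have hsub2 := subsingleton_of_residueField_tensor
    (R := Localization.AtPrime 𝔭) (S := Localization.AtPrime 𝔮)
    (RingHom.ker (algebraMap (Localization.AtPrime 𝔭) (Localization.AtPrime 𝔮))) hsub
  have hbot : RingHom.ker (algebraMap (Localization.AtPrime 𝔭) (Localization.AtPrime 𝔮)) = ⊥ :=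
    (Submodule.subsingleton_iff_eq_bot).mp hsub2
  intro f hf
  have hf0 : algebraMap P0 (Localization.AtPrime 𝔭) f = 0 := by
    have : algebraMap P0 (Localization.AtPrime 𝔭) f ∈
        (RingHom.ker φ).map (algebraMap P0 (Localization.AtPrime 𝔭)) :=
      Ideal.mem_map_of_mem _ hf
    rw [← hker, hbot] at this
    exact this
  obtain ⟨s, hs⟩ := (IsLocalization.map_eq_zero_iff 𝔭.primeCompl (Localization.AtPrime 𝔭) f).mp hf0
  exact ⟨s.1, s.2, hs⟩

end Main

end Groth.Agent.Helper3.BBD
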