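import Mathlib
import Groth.Agent.Lib.Helper3.BBD5
import Groth.Agent.Lib.Helper3.BBD6

/-!
# Graded algebras smooth along the irrelevant ideal are polynomial algebras (helper3)
-/

set_option autoImplicit false
universe u

namespace Groth.Agent.Helper3.BBD

open DirectSum MvPolynomial

section Final

variable {A B : Type u} [CommRing A] [CommRing B] [Algebra A B] (𝒜 : ℕ → Submodule A B)
  [GradedAlgebra 𝒜] {n : ℕ} (b : Fin n → ↥(Bp 𝒜))

theorem phi_injective [IsNoetherianRing A] (hsurj : Function.Surjective (phi 𝒜 b))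
    (hK2 : RingHom.ker (phi 𝒜 b) ≤ idealOfVars (Fin n) A ^ 2)
    (hsm : ∀ (P : Ideal B) [P.IsPrime], Bp 𝒜 ≤ P → Algebra.IsSmoothAt A P) :
    Function.Injective (phi 𝒜 b) := by
  rw [injective_iff_map_eq_zero]
  intro f hf
  have hfK : f ∈ RingHom.ker (phi 𝒜 b) := hf
  have hKP : RingHom.ker (phi 𝒜 b) ≤ idealOfVars (Fin n) A :=
    hK2.trans (Ideal.pow_le_self two_ne_zero)
  have htop : (Ideal.span {f}).annihilator ⊔ idealOfVars (Fin n) A = ⊤ := by
    by_contra hne
    obtain ⟨𝔪, hmax, hle⟩ := Ideal.exists_le_maximal _ hne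
    haveI : 𝔪.IsPrime := hmax.isPrime
    have hP𝔪 : idealOfVars (Fin n) A ≤ 𝔪 := le_sup_right.trans hle
    have hK𝔪 : RingHom.ker (phi 𝒜 b) ≤ 𝔪 := hKP.trans hP𝔪
    haveI : (𝔪.map (phi 𝒜 b)).IsPrime := Ideal.map_isPrime_of_surjective hsurj hK𝔪
    have hcomap : (𝔪.map (phi 𝒜 b)).comap (phi 𝒜 b) = 𝔪 := by
      rw [Ideal.comap_map_of_surjective _ hsurj]
      refine le_antisymm (sup_le le_rfl ?_) le_sup_left
      rw [← RingHom.ker_eq_comap_bot]
      exact hK𝔪
    have hBp : Bp 𝒜 ≤ 𝔪.map (phi 𝒜 b) :=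
      (Bp_le_map 𝒜 b hsurj).trans (Ideal.map_mono hP𝔪)
    have hKfg : (RingHom.ker (phi 𝒜 b)).FG := IsNoetherian.noetherian _
    have hK2' : RingHom.ker (phi 𝒜 b) ≤ ((𝔪.map (phi 𝒜 b)).comap (phi 𝒜 b)) ^ 2 := by
      rw [hcomap]
      exact hK2.trans (Ideal.pow_right_mono hP𝔪 2)
    obtain ⟨s, hs, hsf⟩ := exists_notMem_mul_eq_zero (phi 𝒜 b) hsurj hKfg (𝔪.map (phi 𝒜 b))
      (hsm _ hBp) hK2' f hfK
    rw [hcomap] at hs
    apply hs
    apply hle
    apply Ideal.mem_sup_left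
    rw [Submodule.mem_annihilator_span_singleton]
    exact hsf
  obtain ⟨a, ha, p, hp, hap⟩ := Submodule.mem_sup.mp (htop ▸ Submodule.mem_top (x := (1 : MvPolynomial (Fin n) A)))
  rw [Submodule.mem_annihilator_span_singleton] at ha
  have hpf : f = p * f := by
    have : (a + p) * f = f := by rw [hap, one_mul]
    rw [add_mul] at this
    have ha' : a * f = 0 := ha
    rw [ha', zero_add] at this
    exact this.symm
  apply eq_zero_of_forall_mem_pow
  intro m
  induction m with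
  | zero => rw [pow_zero, Ideal.one_eq_top]; exact Submodule.mem_top
  | succ m ih =>
    rw [hpf, pow_succ']
    exact Ideal.mul_mem_mul hp ih

end Final

theorem S18961_main (k : Type u) [Field k]
    (A B : Type u) [CommRing A] [CommRing B] [Algebra k A] [Algebra A B]
    [Algebra.FiniteType k A] (𝒜 : ℕ → Submodule A B) [GradedAlgebra 𝒜]
    (h0 : ∀ b : B, b ∈ 𝒜 0 ↔ b ∈ Set.range (algebraMap A B))
    (hinj : Function.Injective (algebraMap A B))
    (hsm : ∀ (P : Ideal B) [P.IsPrime], (HomogeneousIdeal.irrelevant 𝒜).toIdeal ≤ P →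
      Algebra.IsSmoothAt A P)
    [Module.Free A (HomogeneousIdeal.irrelevant 𝒜).toIdeal.Cotangent]
    [Module.Finite A (HomogeneousIdeal.irrelevant 𝒜).toIdeal.Cotangent] :
    Nonempty (B ≃ₐ[A]
      MvPolynomial (Fin (Module.finrank A (HomogeneousIdeal.irrelevant 𝒜).toIdeal.Cotangent)) A) := by
  rcases subsingleton_or_nontrivial A with hA | hA
  · haveI : Subsingleton B := Module.subsingleton A B
    haveI : Subsingleton (MvPolynomial
      (Fin (Module.finrank A (HomogeneousIdeal.irrelevant 𝒜).toIdeal.Cotangent)) A) :=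
      Module.subsingleton A _
    exact ⟨(AlgEquiv.ofBijective (MvPolynomial.aeval (fun _ => (0 : B)))
      ⟨fun _ _ _ => Subsingleton.elim _ _, fun y => ⟨0, Subsingleton.elim _ _⟩⟩).symm⟩
  · haveI : IsNoetherianRing A := Algebra.FiniteType.isNoetherianRing k A
    obtain ⟨b, hli, hadj⟩ := exists_generators 𝒜 (fun x hx => (h0 x).mp hx)
    have hsurj := phi_surjective 𝒜 b hadj
    have hK2 := ker_phi_le_sq 𝒜 b hinj hli
    have hinj' := phi_injective 𝒜 b hsurj hK2 hsm
    exact ⟨(AlgEquiv.ofBijective (phi 𝒜 b) ⟨hinj', hsurj⟩).symm⟩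

end Groth.Agent.Helper3.BBD
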