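import Mathlib
import Groth.Prelude.Def_Wider
import Groth.Prelude.Def_DDual2
import Groth.Agent.Lib.Helper3.BCDer
import Groth.Agent.Lib.Helper5.ProjAmp.InjAmp

/-!
# Dualizing complexes and flat base change: localization and descent
-/

set_option autoImplicit false
universe u v
open CategoryTheory CategoryTheory.Limits Pretriangulated Triangulated TensorProduct DerivedCategory

attribute [local instance] HasDerivedCategory.standard

namespace Groth.Agent.Helper3.BCDual

open Groth.Agent.Helper3.BCAbs Groth.Agent.Helper3.BCDer Groth.Agent.Helper5.FlatBC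
  Groth.Agent.Helper3.DualCx

section LBC

variable {A : Type u} [CommRing A] (B : Type u) [CommRing B] [Algebra A B] [Module.Flat A B]

/-- for a flat algebra, derived base change is the functor induced by the exact functor
`B ⊗_A -` -/
noncomputable def lbcIsoG [DRing.HasLBaseChange (algebraMap A B)] :
    DRing.LBaseChange (algebraMap A B) ≅ G (A := A) B := by
  haveI : (G (A := A) B).IsLeftDerivedFunctor
      ((Ef (R := A) B).mapDerivedCategoryFactorsh).hom
      (HomotopyCategory.quasiIso (ModuleCat.{u} A) (ComplexShape.up ℤ)) :=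
    Functor.isLeftDerivedFunctor_of_inverts
      (HomotopyCategory.quasiIso (ModuleCat.{u} A) (ComplexShape.up ℤ)) (G (A := A) B)
      ((Ef (R := A) B).mapDerivedCategoryFactorsh)
  exact Functor.leftDerivedUnique (G (A := A) B) (DRing.LBaseChange (algebraMap A B))
    ((DRing.baseChangeKh (algebraMap A B)).totalLeftDerivedCounit DerivedCategory.Qh
      (HomotopyCategory.quasiIso (ModuleCat.{u} A) (ComplexShape.up ℤ)))
    ((Ef (R := A) B).mapDerivedCategoryFactorsh).hom
    (HomotopyCategory.quasiIso (ModuleCat.{u} A) (ComplexShape.up ℤ))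

end LBC

section IsoInv

variable {A : Type u} [CommRing A]

/-- being dualizing is invariant under isomorphism -/
theorem isDualizing_of_iso {ω ω' : Dual.D A} (e : ω ≅ ω') (h : Dual.IsDualizing A ω) :
    Dual.IsDualizing A ω' where
  isNoetherianRing := h.isNoetherianRing
  finite_injective_dimension := by
    obtain ⟨a, b, hab⟩ := h.finite_injective_dimension
    refine ⟨a, b, fun M _ _ i hi => ?_⟩
    have := hab M i hi
    exact (Iso.homCongr (Iso.refl (Dual.inD A M))
      ((shiftFunctor (Dual.D A) i).mapIso e)).symm.subsingleton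
  finite_cohomology i := by
    have := h.finite_cohomology i
    exact Module.Finite.equiv
      ((DerivedCategory.homologyFunctor (ModuleCat.{u} A) i).mapIso e).toLinearEquiv
  toEnd_bijective := by
    have h1 := h.toEnd_bijective
    have h2 : (fun a : A => a • 𝟙 ω') =
        (fun φ : ω ⟶ ω => e.inv ≫ φ ≫ e.hom) ∘ (fun a : A => a • 𝟙 ω) := by
      funext a
      simp only [Function.comp_apply, Linear.smul_comp, Linear.comp_smul, Category.id_comp,
        Iso.inv_hom_id]
    rw [h2]
    exact (Iso.homCongr e e).bijective.comp h1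
  ext_self_subsingleton i hi := by
    have := h.ext_self_subsingleton i hi
    exact (Iso.homCongr e ((shiftFunctor (Dual.D A) i).mapIso e)).symm.subsingleton

end IsoInv

section Glue

variable {A : Type u} [CommRing A] (B : Type u) [CommRing B] [Algebra A B] [Module.Flat A B]

/-- base change commutes with shifts -/
noncomputable def GshiftIso (X : Dual.D A) (n : ℤ) :
    (G (A := A) B).obj (X⟦n⟧) ≅ ((G (A := A) B).obj X)⟦n⟧ :=
  ((G (A := A) B).commShiftIso n).app X

/-- base change of a module placed in degree `0` -/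
noncomputable def GinDIso (M : Type u) [AddCommGroup M] [Module A M] :
    (G (A := A) B).obj (Dual.inD A M) ≅
      Dual.inD B ((Ef (R := A) B).obj (ModuleCat.of A M)) :=
  (GsingleIso B 0).app (ModuleCat.of A M)

/-- cohomology commutes with flat base change -/
noncomputable def homologyGIso (L : Dual.D A) (i : ℤ) :
    (DerivedCategory.homologyFunctor (ModuleCat.{u} B) i).obj ((G (A := A) B).obj L) ≅
      (Ef (R := A) B).obj ((DerivedCategory.homologyFunctor (ModuleCat.{u} A) i).obj L) :=
  (DerivedCategory.homologyFunctor (ModuleCat.{u} B) i).mapIso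
      ((G (A := A) B).mapIso (Q.objObjPreimageIso L).symm ≪≫ EdQ B (Q.objPreimage L)) ≪≫
    hIso B (Q.objPreimage L) i ≪≫
    (Ef (R := A) B).mapIso
      (((DerivedCategory.homologyFunctorFactors (ModuleCat.{u} A) i).app (Q.objPreimage L)).symm ≪≫
        (DerivedCategory.homologyFunctor (ModuleCat.{u} A) i).mapIso (Q.objObjPreimageIso L))

lemma finite_Ef (M : ModuleCat.{u} A) [Module.Finite A M] :
    Module.Finite B ((Ef (R := A) B).obj M) := by
  have h1 : Module.Finite B (B ⊗[A] M) := inferInstance
  have h3 : Module.Finite B (N' B M) := Module.Finite.equiv (eqv B M)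
  exact h3

lemma finite_homology_G (L : Dual.D A) (i : ℤ) [Module.Finite A (Dual.HD A L i)] :
    Module.Finite B (Dual.HD B ((G (A := A) B).obj L) i) := by
  haveI := finite_Ef B ((DerivedCategory.homologyFunctor (ModuleCat.{u} A) i).obj L)
  exact Module.Finite.equiv (homologyGIso B L i).symm.toLinearEquiv

end Glue

section Basic

variable {A : Type u} [CommRing A]

lemma bdd_inD (M : Type u) [AddCommGroup M] [Module A M] : Bdd (Dual.inD A M) :=
  ⟨0, 0, inferInstance, inferInstance⟩

lemma finite_homology_inD (M : Type u) [AddCommGroup M] [Module A M] [Module.Finite A M]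
    (i : ℤ) : Module.Finite A (Dual.HD A (Dual.inD A M) i) := by
  by_cases hi : i = 0
  · subst hi
    have e : M ≃ₗ[A] Dual.HD A (Dual.inD A M) 0 :=
      ((DerivedCategory.singleFunctorCompHomologyFunctorIso (ModuleCat.{u} A) 0).app
        (ModuleCat.of A M)).symm.toLinearEquiv
    exact Module.Finite.equiv e
  · have hz : IsZero ((DerivedCategory.homologyFunctor (ModuleCat.{u} A) i).obj (Dual.inD A M)) := by
      rcases lt_or_gt_of_ne hi with h | h
      · exact isZero_of_isGE (Dual.inD A M) 0 i h
      · exact isZero_of_isLE (Dual.inD A M) 0 i h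
    haveI := ModuleCat.subsingleton_of_isZero hz
    infer_instance

/-- a dualizing complex is bounded -/
lemma bdd_of_injdim (ω : Dual.D A) (a b : ℤ)
    (hab : ∀ (M : Type u) [AddCommGroup M] [Module A M] (i : ℤ), (i < a ∨ b < i) →
      Subsingleton (Dual.inD A M ⟶ ω⟦i⟧)) : Bdd ω := by
  have key : ∀ i : ℤ, (i < a ∨ b < i) →
      IsZero ((DerivedCategory.homologyFunctor (ModuleCat.{u} A) i).obj ω) := by
    intro i hi
    have h1 : Van ω i A := hab A i hi
    rw [van_self_iff] at h1
    exact ModuleCat.isZero_of_subsingleton _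
  refine ⟨a, b, ?_, ?_⟩
  · rw [DerivedCategory.isGE_iff]
    exact fun i hi => key i (Or.inl hi)
  · rw [DerivedCategory.isLE_iff]
    exact fun i hi => key i (Or.inr hi)

lemma bdd_of_isDualizing {ω : Dual.D A} (hω : Dual.IsDualizing A ω) : Bdd ω := by
  obtain ⟨a, b, hab⟩ := hω.finite_injective_dimension
  exact bdd_of_injdim ω a b hab

end Basic

section Localization

variable {A : Type u} [CommRing A] [IsNoetherianRing A] (B : Type u) [CommRing B] [Algebra A B]
  [Module.Flat A B]

/-- vanishing of `Hom(K, L[i])` passes to the base change -/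
lemma subsingleton_G_shift (K L : Dual.D A) (hK : Bdd K)
    (hKf : ∀ i : ℤ, Module.Finite A (Dual.HD A K i)) (hL : Bdd L) (i : ℤ)
    [Subsingleton (K ⟶ L⟦i⟧)] :
    Subsingleton ((G (A := A) B).obj K ⟶ ((G (A := A) B).obj L)⟦i⟧) := by
  haveI := subsingleton_of_surjBC (G (A := A) B) (semiLinear_G B) K (L⟦i⟧)
    (bijBC_main B K (L⟦i⟧) hK hKf (bdd_shift L i hL)).2
  exact (Iso.homCongr (Iso.refl ((G (A := A) B).obj K)) (GshiftIso B L i)).symm.subsingleton

/-- cyclic modules over a localization are extended -/
lemma exists_cyclic_iso (S : Submonoid A) [IsLocalization S B] (J : Ideal B) :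
    ∃ I : Ideal A, Nonempty (Dual.inD B (B ⧸ J) ≅ (G (A := A) B).obj (Dual.inD A (A ⧸ I))) := by
  let I : Ideal A := J.comap (algebraMap A B)
  have hJ : I.map (algebraMap A B) = J := IsLocalization.map_comap S B J
  let e₁ : (B ⧸ J) ≃ₗ[B] (B ⧸ I.map (algebraMap A B)) := Submodule.quotEquivOfEq _ _ hJ.symm
  let e₂ : (B ⧸ I.map (algebraMap A B)) ≃ₗ[B] B ⊗[A] (A ⧸ I) :=
    (Algebra.TensorProduct.quotIdealMapEquivTensorQuot B I).toLinearEquiv
  let e₃ : B ⊗[A] (A ⧸ I) ≃ₗ[B] (Ef (R := A) B).obj (ModuleCat.of A (A ⧸ I)) := eqvT B (A ⧸ I)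
  let e : ModuleCat.of B (B ⧸ J) ≅ (Ef (R := A) B).obj (ModuleCat.of A (A ⧸ I)) :=
    (e₁ ≪≫ₗ e₂ ≪≫ₗ e₃).toModuleIso
  exact ⟨I, ⟨(DerivedCategory.singleFunctor (ModuleCat.{u} B) 0).mapIso e ≪≫
    (GinDIso B (A ⧸ I)).symm⟩⟩

/-- **Localization of a dualizing complex is dualizing.** -/
theorem isDualizing_G_of_isLocalization (S : Submonoid A) [IsLocalization S B] (ω : Dual.D A)
    (hω : Dual.IsDualizing A ω) : Dual.IsDualizing B ((G (A := A) B).obj ω) := by
  have hbdd := bdd_of_isDualizing hω
  have hfin := hω.finite_cohomology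
  obtain ⟨a, b, hab⟩ := hω.finite_injective_dimension
  refine ⟨IsLocalization.isNoetherianRing S B inferInstance, ⟨a, b, ?_⟩, ?_, ?_, ?_⟩
  · have h3 : ∀ (J : Ideal B) (i : ℤ), (i < a ∨ b < i) →
        Subsingleton (DRing.ExtD B (Dual.inD B (B ⧸ J)) ((G (A := A) B).obj ω) i) := by
      intro J i hi
      obtain ⟨I, ⟨e⟩⟩ := exists_cyclic_iso B S J
      haveI := hab (A ⧸ I) i hi
      haveI := subsingleton_G_shift B (Dual.inD A (A ⧸ I)) ω (bdd_inD _)
        (finite_homology_inD (A ⧸ I)) hbdd i
      exact (Iso.homCongr e (Iso.refl _)).subsingleton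
    exact ((Groth.Agent.Helper5.InjAmp.s6965 ((G (A := A) B).obj ω) a b).out 2 1).1 h3
  · intro i
    haveI := hfin i
    exact finite_homology_G B ω i
  · exact toEnd_bijective_of_bijBC (G (A := A) B) (semiLinear_G B) ω
      (bijBC_main B ω ω hbdd hfin hbdd) hω.toEnd_bijective
  · intro i hi
    haveI := hω.ext_self_subsingleton i hi
    exact subsingleton_G_shift B ω ω hbdd hfin hbdd i

end Localization

section Main1775

theorem main_S1775 (A : Type u) [CommRing A] [IsNoetherianRing A] (S : Submonoid A)
    [DRing.HasLBaseChange (algebraMap A (Localization S))] (ω : Dual.D A)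
    (hω : Dual.IsDualizing A ω) :
    Dual.IsDualizing (Localization S)
      ((DRing.LBaseChange (algebraMap A (Localization S))).obj ω) :=
  isDualizing_of_iso ((lbcIsoG (A := A) (Localization S)).app ω).symm
    (isDualizing_G_of_isLocalization (Localization S) S ω hω)

end Main1775

end Groth.Agent.Helper3.BCDual
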