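import Mathlib
import Groth.Prelude.Def_Wider
import Groth.Prelude.Def_DDual2
import Groth.Agent.Lib.Helper3.BCDual

/-!
# Descent of dualizing complexes along jointly faithful flat families
-/

set_option autoImplicit false
universe u w w'
open CategoryTheory CategoryTheory.Limits Pretriangulated Triangulated TensorProduct DerivedCategory

attribute [local instance] HasDerivedCategory.standard

namespace Groth.Agent.Helper3.BCDesc

open Groth.Agent.Helper3.BCAbs Groth.Agent.Helper3.BCDer Groth.Agent.Helper3.BCDual
  Groth.Agent.Helper5.FlatBC Groth.Agent.Helper3.DualCx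

section JF

variable (A : Type u) [CommRing A] {ι : Type*} (B : ι → Type u) [∀ i, AddCommGroup (B i)]
  [∀ i, Module A (B i)]

/-- joint faithfulness of a family of modules, tested on modules of universe `w` -/
def JF : Prop :=
  ∀ (N : Type w) [AddCommGroup N] [Module A N], (∀ i, Subsingleton (B i ⊗[A] N)) → Subsingleton N

variable {A B}

theorem injective_of_jf [∀ i, Module.Flat A (B i)] (hJF : JF.{u, w} A B) {N : Type w}
    {N' : Type w'} [AddCommGroup N] [Module A N] [AddCommGroup N'] [Module A N']
    (f : N →ₗ[A] N') (h : ∀ i, Function.Injective (f.lTensor (B i))) : Function.Injective f := by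
  have hs : Subsingleton (LinearMap.ker f) := by
    apply hJF
    intro i
    refine ⟨fun z z' => ?_⟩
    have hinj : Function.Injective ((LinearMap.ker f).subtype.lTensor (B i)) :=
      Module.Flat.lTensor_preserves_injective_linearMap _ (LinearMap.ker f).injective_subtype
    have key : ∀ z : B i ⊗[A] (LinearMap.ker f), (LinearMap.ker f).subtype.lTensor (B i) z = 0 := by
      intro z
      apply h i
      rw [map_zero, ← LinearMap.comp_apply, ← LinearMap.lTensor_comp]
      have : f ∘ₗ (LinearMap.ker f).subtype = 0 := by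
        ext x
        exact x.2
      rw [this, LinearMap.lTensor_zero, LinearMap.zero_apply]
    exact hinj ((key z).trans (key z').symm)
  rw [← LinearMap.ker_eq_bot]
  exact Submodule.eq_bot_of_subsingleton

theorem surjective_of_jf (hJF : JF.{u, w} A B) {N : Type w'} {N' : Type w} [AddCommGroup N]
    [Module A N] [AddCommGroup N'] [Module A N'] (f : N →ₗ[A] N')
    (h : ∀ i, Function.Surjective (f.lTensor (B i))) : Function.Surjective f := by
  have hs : Subsingleton (N' ⧸ LinearMap.range f) := by
    apply hJF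
    intro i
    have key : ∀ z : B i ⊗[A] (N' ⧸ LinearMap.range f), z = 0 := by
      intro z
      induction z using TensorProduct.induction_on with
      | zero => rfl
      | tmul b q =>
        obtain ⟨n', rfl⟩ := Submodule.mkQ_surjective _ q
        obtain ⟨y, hy⟩ := h i (b ⊗ₜ n')
        have h1 : b ⊗ₜ[A] ((LinearMap.range f).mkQ n') =
            (LinearMap.range f).mkQ.lTensor (B i) (f.lTensor (B i) y) := by
          rw [hy, LinearMap.lTensor_tmul]
        rw [h1, ← LinearMap.comp_apply, ← LinearMap.lTensor_comp]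
        have : (LinearMap.range f).mkQ ∘ₗ f = 0 := by
          ext x
          simp
        rw [this, LinearMap.lTensor_zero, LinearMap.zero_apply]
      | add x y hx hy => rw [hx, hy, add_zero]
    exact ⟨fun z z' => (key z).trans (key z').symm⟩
  rw [← LinearMap.range_eq_top]
  exact Submodule.Quotient.subsingleton_iff.1 hs

end JF

section Descent

variable {A : Type u} [CommRing A] [IsNoetherianRing A] {ι : Type*} (B : ι → Type u)
  [∀ i, CommRing (B i)] [∀ i, Algebra A (B i)] [∀ i, Module.Flat A (B i)]

/-- descent of the dualizing property along a jointly faithful flat family, for an object which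
is already known to be bounded with finite cohomology and of finite injective dimension -/
theorem isDualizing_of_family (h1 : JF.{u, u} A B) (h2 : JF.{u, u + 1} A B) (K : Dual.D A)
    (hbdd : Bdd K) (hfin : ∀ n : ℤ, Module.Finite A (Dual.HD A K n))
    (hinj : ∃ a b : ℤ, ∀ (M : Type u) [AddCommGroup M] [Module A M] (n : ℤ),
      (n < a ∨ b < n) → Subsingleton (Dual.inD A M ⟶ K⟦n⟧))
    (hdual : ∀ i, Dual.IsDualizing (B i) ((G (A := A) (B i)).obj K)) :
    Dual.IsDualizing A K := by
  refine ⟨inferInstance, hinj, hfin, ?_, ?_⟩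
  · have hb : ∀ i, Function.Bijective ((toEndLin A K).lTensor (B i)) := fun i =>
      lTensor_toEndLin_bijective (G (A := A) (B i)) (semiLinear_G (B i)) K
        (bijBC_main (B i) K K hbdd hfin hbdd) (hdual i).toEnd_bijective
    exact ⟨injective_of_jf h1 (toEndLin A K) (fun i => (hb i).1),
      surjective_of_jf h2 (toEndLin A K) (fun i => (hb i).2)⟩
  · intro n hn
    apply h2
    intro i
    haveI : Subsingleton ((G (A := A) (B i)).obj K ⟶ (G (A := A) (B i)).obj (K⟦n⟧)) := by
      haveI := (hdual i).ext_self_subsingleton n hn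
      exact (Iso.homCongr (Iso.refl _) (GshiftIso (B i) K n)).subsingleton
    exact subsingleton_tensor_of_injBC (G (A := A) (B i)) (semiLinear_G (B i)) K (K⟦n⟧)
      (bijBC_main (B i) K (K⟦n⟧) hbdd hfin (bdd_shift K n hbdd)).1

omit [IsNoetherianRing A] in
/-- `B ⊗ H^n(K) = 0` when `H^n(K_B) = 0` -/
lemma subsingleton_tensor_homology (i : ι) (K : Dual.D A) (n : ℤ)
    (h : IsZero ((DerivedCategory.homologyFunctor (ModuleCat.{u} (B i)) n).obj
      ((G (A := A) (B i)).obj K))) :
    Subsingleton (B i ⊗[A] (Dual.HD A K n)) := by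
  have h1 : IsZero ((Ef (R := A) (B i)).obj
      ((DerivedCategory.homologyFunctor (ModuleCat.{u} A) n).obj K)) :=
    h.of_iso (homologyGIso (B i) K n).symm
  have h2' : Subsingleton ((Ef (R := A) (B i)).obj
      ((DerivedCategory.homologyFunctor (ModuleCat.{u} A) n).obj K)) :=
    ModuleCat.subsingleton_of_isZero h1
  have h2 : Subsingleton (N' (B i) ((DerivedCategory.homologyFunctor (ModuleCat.{u} A) n).obj K)) :=
    h2'
  exact (eqv (B i) ((DerivedCategory.homologyFunctor (ModuleCat.{u} A) n).obj K)).toEquiv.subsingleton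

omit [IsNoetherianRing A] in
theorem bdd_of_family [Finite ι] (h1 : JF.{u, u} A B) (K : Dual.D A)
    (h : ∀ i, Bdd ((G (A := A) (B i)).obj K)) : Bdd K := by
  choose a b ha hb using h
  obtain ⟨a₀, ha₀⟩ := Finite.exists_ge a
  obtain ⟨b₀, hb₀⟩ := Finite.exists_le b
  have key : ∀ n : ℤ, (n < a₀ ∨ b₀ < n) →
      IsZero ((DerivedCategory.homologyFunctor (ModuleCat.{u} A) n).obj K) := by
    intro n hn
    haveI : Subsingleton (Dual.HD A K n) := by
      apply h1
      intro i
      apply subsingleton_tensor_homology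
      haveI := ha i
      haveI := hb i
      rcases hn with hn | hn
      · exact isZero_of_isGE _ (a i) n (lt_of_lt_of_le hn (ha₀ i))
      · exact isZero_of_isLE _ (b i) n (lt_of_le_of_lt (hb₀ i) hn)
    exact ModuleCat.isZero_of_subsingleton _
  refine ⟨a₀, b₀, ?_, ?_⟩
  · rw [DerivedCategory.isGE_iff]
    exact fun n hn => key n (Or.inl hn)
  · rw [DerivedCategory.isLE_iff]
    exact fun n hn => key n (Or.inr hn)

omit [IsNoetherianRing A] in
theorem finite_homology_of_family
    (hfinJ : ∀ (N : Type u) [AddCommGroup N] [Module A N],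
      (∀ i, Module.Finite (B i) (B i ⊗[A] N)) → Module.Finite A N)
    (K : Dual.D A)
    (h : ∀ i (n : ℤ), Module.Finite (B i) (Dual.HD (B i) ((G (A := A) (B i)).obj K) n)) (n : ℤ) :
    Module.Finite A (Dual.HD A K n) := by
  apply hfinJ
  intro i
  have h1 := h i n
  have h2 : Module.Finite (B i) ((Ef (R := A) (B i)).obj
      ((DerivedCategory.homologyFunctor (ModuleCat.{u} A) n).obj K)) :=
    Module.Finite.equiv (homologyGIso (B i) K n).toLinearEquiv
  have h3 : Module.Finite (B i)
      (N' (B i) ((DerivedCategory.homologyFunctor (ModuleCat.{u} A) n).obj K)) := h2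
  exact Module.Finite.equiv
    (eqv (B i) ((DerivedCategory.homologyFunctor (ModuleCat.{u} A) n).obj K)).symm

theorem injdim_of_family [Finite ι] (h2 : JF.{u, u + 1} A B) (K : Dual.D A) (hK : Bdd K)
    (h : ∀ i, ∃ a b : ℤ, ∀ (M : Type u) [AddCommGroup M] [Module (B i) M] (n : ℤ),
      (n < a ∨ b < n) → Subsingleton (Dual.inD (B i) M ⟶ ((G (A := A) (B i)).obj K)⟦n⟧)) :
    ∃ a b : ℤ, ∀ (M : Type u) [AddCommGroup M] [Module A M] (n : ℤ),
      (n < a ∨ b < n) → Subsingleton (Dual.inD A M ⟶ K⟦n⟧) := by
  choose a b hab using h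
  obtain ⟨a₀, ha₀⟩ := Finite.exists_ge a
  obtain ⟨b₀, hb₀⟩ := Finite.exists_le b
  refine ⟨a₀, b₀, ?_⟩
  have h3 : ∀ (I : Ideal A) (n : ℤ), (n < a₀ ∨ b₀ < n) →
      Subsingleton (DRing.ExtD A (Dual.inD A (A ⧸ I)) K n) := by
    intro I n hn
    apply h2
    intro i
    haveI : Subsingleton ((G (A := A) (B i)).obj (Dual.inD A (A ⧸ I)) ⟶
        (G (A := A) (B i)).obj (K⟦n⟧)) := by
      have hn' : n < a i ∨ b i < n := by
        rcases hn with hn | hn
        · exact Or.inl (lt_of_lt_of_le hn (ha₀ i))
        · exact Or.inr (lt_of_le_of_lt (hb₀ i) hn)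
      have := hab i ((Ef (R := A) (B i)).obj (ModuleCat.of A (A ⧸ I))) n hn'
      exact (Iso.homCongr (GinDIso (B i) (A ⧸ I)) (GshiftIso (B i) K n)).subsingleton
    exact subsingleton_tensor_of_injBC (G (A := A) (B i)) (semiLinear_G (B i))
      (Dual.inD A (A ⧸ I)) (K⟦n⟧)
      (bijBC_main (B i) (Dual.inD A (A ⧸ I)) (K⟦n⟧) (bdd_inD _) (finite_homology_inD (A ⧸ I))
        (bdd_shift K n hK)).1
  exact ((Groth.Agent.Helper5.InjAmp.s6965 K a₀ b₀).out 2 1).1 h3

end Descent

section FinFamily

variable {A : Type u} [CommRing A] [IsNoetherianRing A] {ι : Type*} [Finite ι] (B : ι → Type u)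
  [∀ i, CommRing (B i)] [∀ i, Algebra A (B i)] [∀ i, Module.Flat A (B i)]

/-- descent of the dualizing property along a finite jointly faithful flat family -/
theorem isDualizing_of_finite_family (h1 : JF.{u, u} A B) (h2 : JF.{u, u + 1} A B)
    (hfinJ : ∀ (N : Type u) [AddCommGroup N] [Module A N],
      (∀ i, Module.Finite (B i) (B i ⊗[A] N)) → Module.Finite A N)
    (K : Dual.D A) (hdual : ∀ i, Dual.IsDualizing (B i) ((G (A := A) (B i)).obj K)) :
    Dual.IsDualizing A K := by
  have hbdd : Bdd K := bdd_of_family B h1 K (fun i => bdd_of_isDualizing (hdual i))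
  exact isDualizing_of_family B h1 h2 K hbdd
    (finite_homology_of_family B hfinJ K (fun i => (hdual i).finite_cohomology))
    (injdim_of_family B h2 K hbdd (fun i => (hdual i).finite_injective_dimension)) hdual

end FinFamily

section Main1780

theorem main_S1780 (A B : Type u) [CommRing A] [CommRing B] [Algebra A B] [IsNoetherianRing A]
    [IsNoetherianRing B] [Module.FaithfullyFlat A B] [DRing.HasLBaseChange (algebraMap A B)]
    (K : Dual.D A) (hK : Dual.IsDualizing B ((DRing.LBaseChange (algebraMap A B)).obj K)) :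
    Dual.IsDualizing A K := by
  have hG : Dual.IsDualizing B ((G (A := A) B).obj K) :=
    isDualizing_of_iso ((lbcIsoG (A := A) B).app K) hK
  refine isDualizing_of_finite_family (ι := Unit) (fun _ => B) ?_ ?_ ?_ K (fun _ => hG)
  · intro N _ _ h
    haveI := h ()
    exact Module.FaithfullyFlat.lTensor_reflects_triviality A B N
  · intro N _ _ h
    haveI := h ()
    exact Module.FaithfullyFlat.lTensor_reflects_triviality A B N
  · intro N _ _ h
    haveI := h ()
    exact Module.Finite.of_finite_tensorProduct_of_faithfullyFlat B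

end Main1780

section Main1787

variable {A : Type u} [CommRing A]

theorem jf_of_span {n : ℕ} (f : Fin n → A) (hf : Ideal.span (Set.range f) = ⊤) :
    JF.{u, w} A (fun i => Localization.Away (f i)) := by
  intro N _ _ h
  have hx : ∀ x : N, x = 0 := by
    intro x
    have h1 := Submodule.mem_of_span_eq_top_of_smul_pow_mem (⊥ : Submodule A N) (Set.range f) hf x (by
      rintro ⟨_, i, rfl⟩
      have h0 : TensorProduct.mk A (Localization.Away (f i)) N 1 x = 0 := (h i).elim _ _
      obtain ⟨⟨_, k, rfl⟩, hc⟩ :=
        (IsLocalizedModule.eq_zero_iff (Submonoid.powers (f i))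
          (TensorProduct.mk A (Localization.Away (f i)) N 1)).1 h0
      exact ⟨k, (Submodule.mem_bot A).2 hc⟩)
    exact (Submodule.mem_bot A).1 h1
  exact ⟨fun a b => (hx a).trans (hx b).symm⟩

theorem finite_of_span {n : ℕ} (f : Fin n → A) (hf : Ideal.span (Set.range f) = ⊤)
    (N : Type u) [AddCommGroup N] [Module A N]
    (h : ∀ i, Module.Finite (Localization.Away (f i)) (Localization.Away (f i) ⊗[A] N)) :
    Module.Finite A N := by
  refine Module.Finite.of_localizationSpan' (Set.range f) hf
    (Mₚ := fun t => Localization.Away t.1 ⊗[A] N)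
    (Rₚ := fun t => Localization.Away t.1)
    (fun t => TensorProduct.mk A (Localization.Away t.1) N 1) ?_
  rintro ⟨_, i, rfl⟩
  exact h i

theorem main_S1787 (A : Type u) [CommRing A] [IsNoetherianRing A] (n : ℕ) (f : Fin n → A)
    (hf : Ideal.span (Set.range f) = ⊤) (ω : Dual.D A)
    (h : ∀ i : Fin n, ∃ _ : DRing.HasLBaseChange (algebraMap A (Localization.Away (f i))),
      Dual.IsDualizing (Localization.Away (f i))
        ((DRing.LBaseChange (algebraMap A (Localization.Away (f i)))).obj ω)) :
    Dual.IsDualizing A ω := by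
  refine isDualizing_of_finite_family (fun i => Localization.Away (f i)) (jf_of_span f hf)
    (jf_of_span f hf) (finite_of_span f hf) ω (fun i => ?_)
  obtain ⟨_, hi⟩ := h i
  exact isDualizing_of_iso ((lbcIsoG (A := A) (Localization.Away (f i))).app ω) hi

end Main1787

section Main7867

variable {A : Type u} [CommRing A]

theorem jf_of_maximal :
    JF.{u, w} A (fun m : MaximalSpectrum A => Localization.AtPrime m.asIdeal) := by
  intro N _ _ h
  exact Module.subsingleton_of_localization_maximal
    (fun (P : Ideal A) [P.IsMaximal] => Localization.AtPrime P ⊗[A] N)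
    (fun (P : Ideal A) [P.IsMaximal] => TensorProduct.mk A (Localization.AtPrime P) N 1)
    (fun P hP => h ⟨P, hP⟩)

theorem main_S7867 (A : Type u) [CommRing A] [IsNoetherianRing A]
    (K : Dual.D A)
    (hbdd : ∃ a b : ℤ, ∀ i : ℤ, (i < a ∨ b < i) → Subsingleton (Dual.HD A K i))
    (hfin : ∀ i : ℤ, Module.Finite A (Dual.HD A K i))
    (hinj : ∃ a b : ℤ, ∀ (M : Type u) [AddCommGroup M] [Module A M] (i : ℤ),
      (i < a ∨ b < i) → Subsingleton (Dual.inD A M ⟶ K⟦i⟧))
    [∀ m : Ideal A, [m.IsMaximal] → DRing.HasLBaseChange (algebraMap A (Localization.AtPrime m))]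
    (hloc : ∀ (m : Ideal A) [m.IsMaximal],
      Dual.IsDualizing (Localization.AtPrime m) ((DRing.LBaseChange (algebraMap A (Localization.AtPrime m))).obj K)) :
    Dual.IsDualizing A K := by
  have hK : Bdd K := by
    obtain ⟨a, b, hab⟩ := hbdd
    have key : ∀ i : ℤ, (i < a ∨ b < i) →
        IsZero ((DerivedCategory.homologyFunctor (ModuleCat.{u} A) i).obj K) := by
      intro i hi
      haveI := hab i hi
      exact ModuleCat.isZero_of_subsingleton _
    refine ⟨a, b, ?_, ?_⟩
    · rw [DerivedCategory.isGE_iff]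
      exact fun n hn => key n (Or.inl hn)
    · rw [DerivedCategory.isLE_iff]
      exact fun n hn => key n (Or.inr hn)
  refine isDualizing_of_family (fun m : MaximalSpectrum A => Localization.AtPrime m.asIdeal)
    jf_of_maximal jf_of_maximal K hK hfin hinj (fun m => ?_)
  exact isDualizing_of_iso ((lbcIsoG (A := A) (Localization.AtPrime m.asIdeal)).app K)
    (hloc m.asIdeal)

end Main7867

end Groth.Agent.Helper3.BCDesc
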