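import Mathlib
import Groth.Prelude.Def_Wider
import Groth.Prelude.Def_DDual2
import Groth.Agent.Lib.Helper3.BCDesc

/-!
# Descent of dualizing complexes from the localizations at all primes
-/

set_option autoImplicit false
universe u w
open CategoryTheory CategoryTheory.Limits Pretriangulated Triangulated TensorProduct DerivedCategory

attribute [local instance] HasDerivedCategory.standard

namespace Groth.Agent.Helper3.BCDesc

open Groth.Agent.Helper3.BCAbs Groth.Agent.Helper3.BCDer Groth.Agent.Helper3.BCDual
  Groth.Agent.Helper5.FlatBC Groth.Agent.Helper3.DualCx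

section Main11360

variable {A : Type u} [CommRing A]

theorem jf_of_prime :
    JF.{u, w} A (fun p : PrimeSpectrum A => Localization.AtPrime p.asIdeal) := by
  intro N _ _ h
  exact jf_of_maximal N (fun m => h ⟨m.asIdeal, inferInstance⟩)

theorem main_S11360 (A : Type u) [CommRing A] [IsNoetherianRing A] (R : Dual.D A)
    (hfin : ∀ i : ℤ, Module.Finite A (Dual.HD A R i)) (hfid : DRing.HasFiniteInjDim A R)
    [∀ p : PrimeSpectrum A, DRing.HasLBaseChange (algebraMap A (Localization.AtPrime p.asIdeal))]
    (h : ∀ p : PrimeSpectrum A, Dual.IsDualizing (Localization.AtPrime p.asIdeal)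
      ((DRing.LBaseChange (algebraMap A (Localization.AtPrime p.asIdeal))).obj R)) :
    Dual.IsDualizing A R := by
  obtain ⟨a, b, hab⟩ := hfid
  have hinj : ∀ (M : Type u) [AddCommGroup M] [Module A M] (i : ℤ), (i < a ∨ b < i) →
      Subsingleton (Dual.inD A M ⟶ R⟦i⟧) :=
    ((Groth.Agent.Helper5.InjAmp.s6965 R a b).out 0 1).1 hab
  have hK : Bdd R := bdd_of_injdim R a b hinj
  refine isDualizing_of_family (fun p : PrimeSpectrum A => Localization.AtPrime p.asIdeal)
    jf_of_prime jf_of_prime R hK hfin ⟨a, b, hinj⟩ (fun p => ?_)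
  exact isDualizing_of_iso ((lbcIsoG (A := A) (Localization.AtPrime p.asIdeal)).app R) (h p)

end Main11360

end Groth.Agent.Helper3.BCDesc
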