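import Mathlib

/-!
# The restriction of a cartesian square to preimages of affine opens
-/

set_option autoImplicit false
universe u
open CategoryTheory CategoryTheory.Limits Opposite TopologicalSpace AlgebraicGeometry

namespace Groth.Agent.Helper3.BCDim

variable {X Y X' Y' : Scheme.{u}} {f : X ⟶ Y} {g : Y' ⟶ Y} {f' : X' ⟶ Y'} {g' : X' ⟶ X}

section

variable (sq : IsPullback g' f' f g) (V : Y.Opens) (V' : Y'.Opens) (hle : V' ≤ g ⁻¹ᵁ V)

include hle in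
lemma range_base : Set.range (V'.ι ≫ g).base ⊆ Set.range V.ι.base := by
  rintro _ ⟨y, rfl⟩
  rw [Scheme.Opens.range_ι]
  exact hle y.2

/-- the map `V' ⟶ V` -/
noncomputable def gV : (V' : Scheme.{u}) ⟶ (V : Scheme.{u}) :=
  IsOpenImmersion.lift V.ι (V'.ι ≫ g) (range_base V V' hle)

@[reassoc]
lemma gV_ι : gV V V' hle ≫ V.ι = V'.ι ≫ g := IsOpenImmersion.lift_fac _ _ _

include sq hle in
lemma range_base' : Set.range ((f' ⁻¹ᵁ V').ι ≫ g').base ⊆ Set.range (f ⁻¹ᵁ V).ι.base := by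
  rintro _ ⟨x, rfl⟩
  rw [Scheme.Opens.range_ι]
  change f.base (g'.base x.1) ∈ V
  have h1 : f.base (g'.base x.1) = g.base (f'.base x.1) := by
    rw [← Scheme.Hom.comp_apply, ← Scheme.Hom.comp_apply, sq.w]
  rw [h1]
  exact hle x.2

/-- the map `f'⁻¹V' ⟶ f⁻¹V` -/
noncomputable def hV : ((f' ⁻¹ᵁ V' : X'.Opens) : Scheme.{u}) ⟶ ((f ⁻¹ᵁ V : X.Opens) : Scheme.{u}) :=
  IsOpenImmersion.lift (f ⁻¹ᵁ V).ι ((f' ⁻¹ᵁ V').ι ≫ g') (range_base' sq V V' hle)

@[reassoc]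
lemma hV_ι : hV sq V V' hle ≫ (f ⁻¹ᵁ V).ι = (f' ⁻¹ᵁ V').ι ≫ g' := IsOpenImmersion.lift_fac _ _ _

lemma isPullback_hV : IsPullback (hV sq V V' hle) (f' ∣_ V') (f ∣_ V) (gV V V' hle) := by
  have A := (isPullback_morphismRestrict f' V').flip
  have B := (isPullback_morphismRestrict f V).flip
  have outer := A.paste_horiz sq
  rw [← hV_ι sq V V' hle, ← gV_ι V V' hle] at outer
  refine IsPullback.of_right outer ?_ B
  rw [← cancel_mono V.ι, Category.assoc, Category.assoc, gV_ι, morphismRestrict_ι,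
    hV_ι_assoc, sq.w, morphismRestrict_ι_assoc]

/-- the map `f'⁻¹V' ⟶ f⁻¹V` is affine when `V` and `V'` are -/
theorem isAffineHom_hV (hV₀ : IsAffineOpen V) (hV' : IsAffineOpen V') :
    IsAffineHom (hV sq V V' hle) := by
  haveI : IsAffine (V : Scheme.{u}) := hV₀
  haveI : IsAffine (V' : Scheme.{u}) := hV'
  exact MorphismProperty.of_isPullback (P := @IsAffineHom) (isPullback_hV sq V V' hle).flip
    inferInstance

end

/-- the affine opens of `Y'` mapping into an affine open of `Y` form a basis -/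
theorem isBasis_affine_le (g : Y' ⟶ Y) :
    Opens.IsBasis {V' : Y'.Opens | IsAffineOpen V' ∧ ∃ V : Y.Opens, IsAffineOpen V ∧ V' ≤ g ⁻¹ᵁ V} := by
  rw [Opens.isBasis_iff_nbhd]
  intro W y hy
  obtain ⟨V, hV, hyV, -⟩ := Opens.isBasis_iff_nbhd.1 Y.isBasis_affineOpens
    (U := ⊤) (x := g.base y) trivial
  obtain ⟨V', hV', hyV', hle⟩ := Opens.isBasis_iff_nbhd.1 Y'.isBasis_affineOpens
    (U := W ⊓ g ⁻¹ᵁ V) (x := y) ⟨hy, hyV⟩
  exact ⟨V', ⟨hV', V, hV, hle.trans inf_le_right⟩, hyV', hle.trans inf_le_left⟩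

end Groth.Agent.Helper3.BCDim
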