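import Mathlib
import Groth.Prelude.Def_CohPull
import Groth.Agent.Lib.Helper3.EdgeMod2
import Groth.Agent.Lib.Helper3.LerayCol2
import Groth.Agent.Lib.Helper1.RpushZero
import Groth.Agent.Lib.Helper1.RpushComp

/-!
# The edge map for affine morphisms
-/

set_option autoImplicit false
universe u
open CategoryTheory CategoryTheory.Limits Opposite TopologicalSpace AlgebraicGeometry

namespace Groth.Agent.Helper3.EdgeMod

open Groth.Agent.Helper1

/-- quasi-coherent modules are acyclic for affine direct images (module level) -/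
theorem isZero_rpush_of_isAffineHom {X Y : Scheme.{u}} (f : X ⟶ Y) [IsAffineHom f]
    [HasInjectiveResolutions X.Modules] (F : X.Modules) [F.IsQuasicoherent] (q : ℕ) (hq : 0 < q) :
    IsZero ((Coh.Rpush f q).obj F) := by
  obtain ⟨m, rfl⟩ : ∃ m, q = m + 1 := ⟨q - 1, by omega⟩
  obtain ⟨e⟩ := RpushComp.nonempty_iso f F (m + 1)
  exact RpushComp.isZero_of_toAb _ (IsZero.of_iso (RpushZero.rpushAb_isZero f F m) e)

theorem pushEdge_bijective_of_isAffineHom {X Y : Scheme.{u}} (f : X ⟶ Y) [IsAffineHom f]
    (F : X.Modules) [F.IsQuasicoherent] (p : ℕ) :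
    Function.Bijective (CohPull.pushEdge f F p) := by
  haveI := LerayCol.hasInjectiveResolutions X
  exact pushEdge_bijective f p F (fun q hq => isZero_rpush_of_isAffineHom f F q hq)

end Groth.Agent.Helper3.EdgeMod
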