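import Mathlib
import Groth.Prelude.Def_Coh
import Groth.Prelude.Def_CohB1
import Groth.Agent.Lib.Helper3.BCDim1
import Groth.Agent.Lib.Helper3.BCDim2
import Groth.Agent.Lib.Helper3.EdgeMod3
import Groth.Agent.Lib.Helper4.HUon1
import Groth.Agent.Lib.Helper1.RpushLoc1
import Groth.Agent.Lib.Helper1.PushQc
import Groth.Agent.Lib.Helper1.RpushZero
import Groth.Agent.Lib.Helper5.Stalk.FlatPull

/-!
# A bound on the cohomological dimension of a morphism is stable under base change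
-/

set_option autoImplicit false
universe u
open CategoryTheory CategoryTheory.Limits Opposite TopologicalSpace AlgebraicGeometry

namespace Groth.Agent.Helper3.BCDim

open Groth.Agent.Helper1 Groth.Agent.Helper3 Groth.Agent.Lib.Helper4

theorem S7448_main {X Y X' Y' : Scheme.{u}} (f : X ⟶ Y) [CompactSpace X]
    [QuasiSeparatedSpace X] [CompactSpace Y] [QuasiSeparatedSpace Y] (d : ℕ)
    (hvan : ∀ (M : X.Modules) (i : ℕ), Coh.IsQCoh M → d < i →
      IsZero ((Coh.RpushAb f i).obj (Coh.toAb M)))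
    (g : Y' ⟶ Y) (f' : X' ⟶ Y') (g' : X' ⟶ X) (sq : IsPullback g' f' f g) (M' : X'.Modules)
    [Coh.IsQCoh M'] (i : ℕ) (hi : d < i) :
    IsZero ((Coh.RpushAb f' i).obj (Coh.toAb M')) := by
  haveI : M'.IsQuasicoherent := ‹Coh.IsQCoh M'›
  refine RpushZero.isZero_of_basis f'.base (Coh.toAb M') i _ (isBasis_affine_le g) ?_
  rintro V' ⟨hVa', V, hVa, hle⟩
  obtain ⟨e1⟩ := HUon1.nonempty_HU_equiv_HHon M' (f' ⁻¹ᵁ V') i
  suffices h : Subsingleton (Coh.HHon X' M' (f' ⁻¹ᵁ V') i) from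
    @Equiv.subsingleton _ _ e1.toEquiv h
  haveI : IsAffineHom (hV sq V V' hle) := isAffineHom_hV sq V V' hle hVa hVa'
  haveI : (M'.restrict (f' ⁻¹ᵁ V').ι).IsQuasicoherent :=
    inferInstanceAs ((Scheme.Modules.restrictFunctor (f' ⁻¹ᵁ V').ι).obj M').IsQuasicoherent
  have hbij := EdgeMod.pushEdge_bijective_of_isAffineHom (hV sq V V' hle)
    (M'.restrict (f' ⁻¹ᵁ V').ι) i
  suffices h2 : Subsingleton (Coh.HH (f ⁻¹ᵁ V)
      ((Scheme.Modules.pushforward (hV sq V V' hle)).obj (M'.restrict (f' ⁻¹ᵁ V').ι)) i) from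
    @Function.Surjective.subsingleton _ _ _ h2 hbij.surjective
  haveI hN : ((Scheme.Modules.pushforward (hV sq V V' hle)).obj
      (M'.restrict (f' ⁻¹ᵁ V').ι)).IsQuasicoherent :=
    PushQc.isQuasicoherent_pushforward _ _
  haveI : CompactSpace ((f ⁻¹ᵁ V : X.Opens) : Scheme.{u}) :=
    isCompact_iff_compactSpace.mp (f.isCompact_preimage hVa.isCompact)
  haveI hÑ : ((Scheme.Modules.pushforward (f ⁻¹ᵁ V).ι).obj
      ((Scheme.Modules.pushforward (hV sq V V' hle)).obj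
        (M'.restrict (f' ⁻¹ᵁ V').ι))).IsQuasicoherent :=
    PushQc.isQuasicoherent_pushforward _ _
  have hA := subsingleton_HU_preimage f d _ (fun q hq => hvan _ q hÑ hq) V hVa i hi
  obtain ⟨e2⟩ := HUon1.nonempty_HU_equiv_HHon ((Scheme.Modules.pushforward (f ⁻¹ᵁ V).ι).obj
      ((Scheme.Modules.pushforward (hV sq V V' hle)).obj
        (M'.restrict (f' ⁻¹ᵁ V').ι))) (f ⁻¹ᵁ V) i
  have h3 := @Equiv.subsingleton _ _ e2.symm.toEquiv hA
  exact RpushLoc.subsingleton_HH_of_iso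
    ((Scheme.Modules.restrictFunctorAdjCounitIso (f ⁻¹ᵁ V).ι).app _) i h3

end Groth.Agent.Helper3.BCDim
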