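import Mathlib
import Groth.Agent.Lib.Helper3.DualCx3

/-!
# A dévissage principle for finite modules over a Noetherian local ring
-/

set_option autoImplicit false
universe u
open CategoryTheory

namespace Groth.Agent.Helper3.LocInd

open Groth.Agent.Helper3.DualCx

variable {A : Type u} [CommRing A] [IsLocalRing A] [IsNoetherianRing A]

/-- A property of finite modules over a Noetherian local ring which holds for the residue field,
is stable under extensions and isomorphisms, and passes from `M/xM` to `M` for `M`-regular
elements `x` of the maximal ideal, holds for all finite modules. -/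
theorem finite_module_induction_local
    (P : ∀ (M : Type u) [AddCommGroup M] [Module A M], Prop)
    (h0 : ∀ (M : Type u) [AddCommGroup M] [Module A M] [Subsingleton M], P M)
    (hiso : ∀ (M N : Type u) [AddCommGroup M] [Module A M] [AddCommGroup N] [Module A N]
      (_ : M ≃ₗ[A] N), P M → P N)
    (hex : ∀ (N₁ N₂ N₃ : Type u) [AddCommGroup N₁] [Module A N₁] [Module.Finite A N₁]
      [AddCommGroup N₂] [Module A N₂] [Module.Finite A N₂] [AddCommGroup N₃] [Module A N₃]
      [Module.Finite A N₃] (f : N₁ →ₗ[A] N₂) (g : N₂ →ₗ[A] N₃),
      Function.Injective f → Function.Surjective g → Function.Exact f g → P N₁ → P N₃ → P N₂)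
    (hk : P (A ⧸ IsLocalRing.maximalIdeal A))
    (hreg : ∀ (M : Type u) [AddCommGroup M] [Module A M] [Module.Finite A M] (x : A),
      x ∈ IsLocalRing.maximalIdeal A → IsSMulRegular M x → P (QuotSMulTop x M) → P M)
    (I : Ideal A) :
    ∀ (M : Type u) [AddCommGroup M] [Module A M] [Module.Finite A M],
      I ≤ Module.annihilator A M → P M := by
  induction I using IsNoetherian.induction with
  | hgt I IH =>
    intro M _ _ hM
    induction hM using IsNoetherianRing.induction_on_isQuotientEquivQuotientPrime A with
    | subsingleton N =>
      intro _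
      exact h0 N
    | quotient N p e =>
      intro hI
      refine hiso _ _ e.symm ?_
      have hIp : I ≤ p.asIdeal := by
        rw [e.annihilator_eq, Ideal.annihilator_quotient] at hI
        exact hI
      rcases lt_or_eq_of_le hIp with hlt | heq
      · exact IH p.asIdeal hlt (A ⧸ p.asIdeal) (by rw [Ideal.annihilator_quotient])
      · by_cases hpm : p.asIdeal = IsLocalRing.maximalIdeal A
        · rw [hpm]
          exact hk
        · haveI := p.isPrime
          obtain ⟨x, hxm, hxp⟩ := exists_mem_maximal_not_mem p.asIdeal hpm
          have hreg' := isSMulRegular_quotient_prime p.asIdeal x hxp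
          apply hreg (A ⧸ p.asIdeal) x hxm hreg'
          have hJ : I < p.asIdeal ⊔ Ideal.span {x} := heq ▸ lt_sup_span p.asIdeal x hxp
          have hann : p.asIdeal ⊔ Ideal.span {x} ≤
              Module.annihilator A (QuotSMulTop x (A ⧸ p.asIdeal)) := by
            have := le_annihilator_quotSMulTop (A ⧸ p.asIdeal) x
            rwa [Ideal.annihilator_quotient] at this
          exact IH _ hJ _ hann
    | exact N₁ N₂ N₃ f g hf hg hfg h₁ h₃ =>
      intro hI
      exact hex N₁ N₂ N₃ f g hf hg hfg
        (h₁ (hI.trans (f.annihilator_le_of_injective hf)))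
        (h₃ (hI.trans (g.annihilator_le_of_surjective hg)))

/-- the dévissage principle, for all finite modules -/
theorem finite_module_induction_local'
    (P : ∀ (M : Type u) [AddCommGroup M] [Module A M], Prop)
    (h0 : ∀ (M : Type u) [AddCommGroup M] [Module A M] [Subsingleton M], P M)
    (hiso : ∀ (M N : Type u) [AddCommGroup M] [Module A M] [AddCommGroup N] [Module A N]
      (_ : M ≃ₗ[A] N), P M → P N)
    (hex : ∀ (N₁ N₂ N₃ : Type u) [AddCommGroup N₁] [Module A N₁] [Module.Finite A N₁]
      [AddCommGroup N₂] [Module A N₂] [Module.Finite A N₂] [AddCommGroup N₃] [Module A N₃]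
      [Module.Finite A N₃] (f : N₁ →ₗ[A] N₂) (g : N₂ →ₗ[A] N₃),
      Function.Injective f → Function.Surjective g → Function.Exact f g → P N₁ → P N₃ → P N₂)
    (hk : P (A ⧸ IsLocalRing.maximalIdeal A))
    (hreg : ∀ (M : Type u) [AddCommGroup M] [Module A M] [Module.Finite A M] (x : A),
      x ∈ IsLocalRing.maximalIdeal A → IsSMulRegular M x → P (QuotSMulTop x M) → P M)
    (M : Type u) [AddCommGroup M] [Module A M] [Module.Finite A M] : P M :=
  finite_module_induction_local P h0 hiso hex hk hreg ⊥ M bot_le

end Groth.Agent.Helper3.LocInd
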