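import Mathlib
import Groth.Agent.Lib.Helper3.LocInd
import Groth.Agent.Lib.Helper3.DualCx3
import Groth.Agent.Lib.Helper3.DRGen

/-!
# Bass-type lemmas over a Noetherian local ring

For a bounded below complex `R` with finite cohomology over a Noetherian local ring, the vanishing
of `Ext^i(k, R)` propagates to `Ext^i(M, R)` for all finite modules `M`.
-/

set_option autoImplicit false
universe u
open CategoryTheory CategoryTheory.Limits DerivedCategory Pretriangulated Triangulated

attribute [local instance] HasDerivedCategory.standard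

namespace Groth.Agent.Helper3.BassLem

open Groth.Agent.Helper3.DualCx Groth.Agent.Helper3.HomFin
open scoped Pointwise

variable {A : Type u} [CommRing A]

section Fin

variable [IsNoetherianRing A]

/-- a finite module, as a complex in degree `0`, is pseudo-coherent -/
lemma isPseudoCoherent_inD (M : Type u) [AddCommGroup M] [Module A M] [Module.Finite A M] :
    DRing.IsPseudoCoherent' A (Dual.inD A M) := by
  refine ((Groth.Agent.Helper5.PCCoh.s6943 A
    (fun I _ => Module.finitePresentation_of_finite A I) (Dual.inD A M)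
    ⟨0, fun j hj => ?_⟩ 0).2).2 (fun j => ?_)
  · exact ModuleCat.subsingleton_of_isZero (isZero_of_isLE (Dual.inD A M) 0 j hj)
  · haveI : Module.Finite A (Dual.HD A (Dual.inD A M) j) :=
      Groth.Agent.Helper3.RegDual.finite_HD_single M j
    exact Module.finitePresentation_of_finite A _

/-- `Hom(K, L[p])` is finite for `K` pseudo-coherent and `L` bounded with finite cohomology -/
theorem finite_hom_bounded (K₂ : Dual.D A) (hpc : DRing.IsPseudoCoherent' A K₂) (L : Dual.D A)
    (a b : ℤ) [L.IsGE a] [L.IsLE b] (hL : ∀ i : ℤ, Module.Finite A (Dual.HD A L i)) (p : ℤ) :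
    Module.Finite A (K₂ ⟶ L⟦p⟧) := by
  let 𝒬 : ObjectProperty (Dual.D A) := fun Y => ∀ p : ℤ, Module.Finite A (K₂ ⟶ Y⟦p⟧)
  haveI : 𝒬.IsClosedUnderIsomorphisms := ⟨fun {X Y} e h p => by
    haveI := h p
    refine Module.Finite.of_surjective (Linear.rightComp A K₂ (e.hom⟦p⟧'))
      (fun g => ⟨g ≫ e.inv⟦p⟧', ?_⟩)
    change (g ≫ e.inv⟦p⟧') ≫ e.hom⟦p⟧' = g
    rw [Category.assoc, ← CategoryTheory.Functor.map_comp, e.inv_hom_id,
      CategoryTheory.Functor.map_id]
    exact Category.comp_id _⟩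
  have hshift : ∀ (X : Dual.D A) (n : ℤ), 𝒬 X → 𝒬 (X⟦n⟧) := fun X n h p => by
    haveI := h (n + p)
    refine Module.Finite.of_surjective
      (Linear.rightComp A K₂ ((shiftFunctorAdd' (Dual.D A) n p (n + p) rfl).hom.app X))
      (fun g => ⟨g ≫ (shiftFunctorAdd' (Dual.D A) n p (n + p) rfl).inv.app X, ?_⟩)
    change (g ≫ _) ≫ _ = g
    rw [Category.assoc, Iso.inv_hom_id_app]
    exact Category.comp_id _
  have hext : ∀ T ∈ distTriang (Dual.D A), 𝒬 T.obj₁ → 𝒬 T.obj₃ → 𝒬 T.obj₂ :=
    fun T hT h₁ h₃ p => finite_coyoneda_shift K₂ T hT p (h₁ p) (h₃ p)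
  have hP : ∀ M : ModuleCat.{u} A, Pfin M →
      𝒬 ((singleFunctor (ModuleCat.{u} A) 0).obj M) := fun M hM p => by
    haveI : Module.Finite A M := hM
    exact ExtSys.finite_ext K₂ hpc M p
  have hQL : 𝒬 L := CohWayOut.prop_of_bounded 𝒬 hshift hext Pfin hP ((b - a).toNat + 1) L a b
    (by omega) hL
  exact hQL p

/-- `Ext^i(M, R)` is finite for `M` finite and `R` bounded below with finite cohomology -/
theorem finite_ext_of_isGE (R : Dual.D A) (a : ℤ) [R.IsGE a]
    (hR : ∀ i : ℤ, Module.Finite A (Dual.HD A R i))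
    (M : Type u) [AddCommGroup M] [Module A M] [Module.Finite A M] (i : ℤ) :
    Module.Finite A (Dual.inD A M ⟶ R⟦i⟧) := by
  let t : TStructure (Dual.D A) := TStructure.t
  have hT := t.triangleLTGE_distinguished (i + 1) R
  have h0 : ∀ Z : ModuleCat.{u} A, IsZero Z → Pfin Z := fun Z hZ => by
    haveI := ModuleCat.subsingleton_of_isZero hZ
    exact (inferInstance : Module.Finite A Z)
  haveI hRt : t.IsGE R a := inferInstanceAs (R.IsGE a)
  haveI h1le : ((t.truncLT (i + 1)).obj R).IsLE i := by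
    have h : t.IsLE ((t.truncLT (i + 1)).obj R) (i + 1 - 1) := inferInstance
    rwa [show i + 1 - 1 = i by omega] at h
  haveI h1ge : ((t.truncLT (i + 1)).obj R).IsGE a :=
    inferInstanceAs (t.IsGE ((t.truncLT (i + 1)).obj R) a)
  have h1fin : ∀ j, Pfin ((homologyFunctor _ j).obj ((t.truncLT (i + 1)).obj R)) :=
    _root_.Helper5.DCat.prop_homology_truncLT Pfin R (i + 1) hR h0
  have h1 : Module.Finite A (Dual.inD A M ⟶ ((t.truncLT (i + 1)).obj R)⟦i⟧) :=
    finite_hom_bounded _ (isPseudoCoherent_inD M) _ a i h1fin i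
  have h3 : Module.Finite A (Dual.inD A M ⟶ ((t.truncGE (i + 1)).obj R)⟦i⟧) := by
    haveI : t.IsGE ((t.truncGE (i + 1)).obj R) (i + 1) := inferInstance
    haveI h3ge : t.IsGE (((t.truncGE (i + 1)).obj R)⟦i⟧) 1 :=
      t.isGE_shift _ (i + 1) i 1 (by omega)
    haveI hMle : t.IsLE (Dual.inD A M) 0 := inferInstanceAs ((Dual.inD A M).IsLE 0)
    haveI : Subsingleton (Dual.inD A M ⟶ ((t.truncGE (i + 1)).obj R)⟦i⟧) :=
      ⟨fun f g => by
        rw [t.zero_of_isLE_of_isGE f 0 1 (by omega) hMle h3ge,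
          t.zero_of_isLE_of_isGE g 0 1 (by omega) hMle h3ge]⟩
    infer_instance
  exact finite_coyoneda_shift (Dual.inD A M) _ hT i h1 h3

end Fin

section Local

variable [IsLocalRing A] [IsNoetherianRing A]

/-- Nakayama step with an explicit finiteness hypothesis -/
lemma van_of_regular_of_finite (R : Dual.D A) (M : Type u) [AddCommGroup M] [Module A M] (x : A)
    (hx : x ∈ IsLocalRing.maximalIdeal A) (hreg : IsSMulRegular M x) (i : ℤ)
    (hfin : Module.Finite A (Dual.inD A M ⟶ R⟦i⟧))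
    (h : Van R (i + 1) (QuotSMulTop x M)) : Van R i M := by
  obtain ⟨Ψ, hΨ⟩ := exists_quotSMulTop_injective R M x hreg i
  haveI : Subsingleton (Dual.inD A (QuotSMulTop x M) ⟶ R⟦i + 1⟧) := h
  haveI hsub : Subsingleton (QuotSMulTop x (Dual.inD A M ⟶ R⟦i⟧)) := hΨ.subsingleton
  have hxj : x ∈ Ideal.jacobson (⊥ : Ideal A) := by
    rw [IsLocalRing.jacobson_eq_maximalIdeal _ bot_ne_top]
    exact hx
  have htop : (⊤ : Submodule A (Dual.inD A M ⟶ R⟦i⟧)) = ⊥ := by
    apply Submodule.eq_bot_of_le_smul_of_le_jacobson_bot (Ideal.span {x}) ⊤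
      (Module.Finite.fg_top)
    · intro φ _
      have h0 : (x • (⊤ : Submodule A (Dual.inD A M ⟶ R⟦i⟧))).mkQ φ = 0 :=
        hsub.elim _ _
      rw [Submodule.mkQ_apply, Submodule.Quotient.mk_eq_zero,
        Submodule.mem_smul_pointwise_iff_exists] at h0
      obtain ⟨ψ, -, rfl⟩ := h0
      exact Submodule.smul_mem_smul (Ideal.subset_span rfl) Submodule.mem_top
    · rw [Ideal.span_le]
      intro y hy
      rw [Set.mem_singleton_iff.1 hy]
      exact hxj
  exact ⟨fun φ ψ => by
    have h1 : φ ∈ (⊤ : Submodule A (Dual.inD A M ⟶ R⟦i⟧)) := Submodule.mem_top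
    have h2 : ψ ∈ (⊤ : Submodule A (Dual.inD A M ⟶ R⟦i⟧)) := Submodule.mem_top
    rw [htop, Submodule.mem_bot] at h1 h2
    rw [h1, h2]⟩

/-- Bass' lemma: vanishing of `Ext^i(k, R)` on an upward closed set of degrees propagates to all
finite modules. -/
theorem van_of_residue (R : Dual.D A)
    (hfin : ∀ (M : Type u) [AddCommGroup M] [Module A M] [Module.Finite A M] (i : ℤ),
      Module.Finite A (Dual.inD A M ⟶ R⟦i⟧))
    (S : Set ℤ) (hS : ∀ i ∈ S, i + 1 ∈ S)
    (hk : ∀ i ∈ S, Van R i (A ⧸ IsLocalRing.maximalIdeal A))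
    (M : Type u) [AddCommGroup M] [Module A M] [Module.Finite A M] :
    ∀ i ∈ S, Van R i M := by
  refine LocInd.finite_module_induction_local'
    (P := fun (M : Type u) [AddCommGroup M] [Module A M] => ∀ i ∈ S, Van R i M) ?_ ?_ ?_ hk ?_ M
  · intro M _ _ _ i _
    exact van_of_subsingleton R i M
  · intro M N _ _ _ _ e h i hi
    exact van_of_equiv R i e (h i hi)
  · intro N₁ N₂ N₃ _ _ _ _ _ _ _ _ _ f g hf hg hfg h₁ h₃ i hi
    exact van_of_exact R i f g hf hg hfg (h₁ i hi) (h₃ i hi)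
  · intro M _ _ _ x hx hreg h i hi
    exact van_of_regular_of_finite R M x hx hreg i (hfin M i) (h (i + 1) (hS i hi))

/-- a bounded below complex with finite cohomology and `Ext^i(k, R) = 0` for `i > n` has
injective amplitude in `[a, n]` -/
theorem injdim_of_residue (R : Dual.D A) (a n : ℤ) [R.IsGE a]
    (hR : ∀ i : ℤ, Module.Finite A (Dual.HD A R i))
    (hk : ∀ i : ℤ, n < i → Van R i (A ⧸ IsLocalRing.maximalIdeal A))
    (N : Type u) [AddCommGroup N] [Module A N] (i : ℤ) (hi : i < a ∨ n < i) :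
    Subsingleton (Dual.inD A N ⟶ R⟦i⟧) := by
  have hout := (Groth.Agent.Helper5.InjAmp.s6965 R a n).out 2 1
  refine hout.1 ?_ N i hi
  intro I j hj
  rcases hj with hj | hj
  · let t : TStructure (Dual.D A) := TStructure.t
    haveI hRt : t.IsGE R a := inferInstanceAs (R.IsGE a)
    haveI h3ge' : t.IsGE (R⟦j⟧) (a - j) := t.isGE_shift R a j (a - j) (by omega)
    haveI h3ge : t.IsGE (R⟦j⟧) 1 := t.isGE_of_ge _ 1 (a - j) (by omega)
    haveI hMle : t.IsLE (Dual.inD A (A ⧸ I)) 0 := inferInstanceAs ((Dual.inD A (A ⧸ I)).IsLE 0)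
    exact ⟨fun f g => by
      rw [t.zero_of_isLE_of_isGE f 0 1 (by omega) hMle h3ge,
        t.zero_of_isLE_of_isGE g 0 1 (by omega) hMle h3ge]⟩
  · exact van_of_residue R (fun M _ _ _ i => finite_ext_of_isGE R a hR M i) {i | n < i}
      (fun i (hi : n < i) => show n < i + 1 by omega) hk (A ⧸ I) j hj

/-- a bounded below complex with finite cohomology and `Ext^i(k, R) = 0` for all `i` is zero -/
theorem isZero_of_residue (R : Dual.D A) (a : ℤ) [R.IsGE a]
    (hR : ∀ i : ℤ, Module.Finite A (Dual.HD A R i))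
    (hk : ∀ i : ℤ, Van R i (A ⧸ IsLocalRing.maximalIdeal A)) : IsZero R := by
  have h1 : ∀ i : ℤ, Van R i A := fun i =>
    van_of_residue R (fun M _ _ _ i => finite_ext_of_isGE R a hR M i) Set.univ
      (fun i _ => Set.mem_univ _) (fun i _ => hk i) A i (Set.mem_univ _)
  have h2 : ∀ i : ℤ, IsZero ((homologyFunctor (ModuleCat.{u} A) i).obj R) := fun i => by
    haveI : Subsingleton (Dual.HD A R i) := (van_self_iff R i).1 (h1 i)
    exact ModuleCat.isZero_of_subsingleton _
  let t : TStructure (Dual.D A) := TStructure.t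
  haveI : R.IsGE 1 := (DerivedCategory.isGE_iff R 1).2 (fun i _ => h2 i)
  haveI : R.IsLE 0 := (DerivedCategory.isLE_iff R 0).2 (fun i _ => h2 i)
  exact t.isZero R 0 1 (by omega)

end Local

end Groth.Agent.Helper3.BassLem
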