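import Mathlib
import Groth.Prelude.Def_Wider
import Groth.Prelude.Def_DDual2
import Groth.Agent.Lib.Helper3.BCDesc2
import Groth.Agent.Lib.Helper3.BassLem

/-!
# Flat base change of dualizing complexes when the closed fibres are fields
-/

set_option autoImplicit false
universe u w
open CategoryTheory CategoryTheory.Limits Pretriangulated Triangulated TensorProduct DerivedCategory

attribute [local instance] HasDerivedCategory.standard

namespace Groth.Agent.Helper3.BCFlat

open Groth.Agent.Helper3.BCAbs Groth.Agent.Helper3.BCDer Groth.Agent.Helper3.BCDual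
  Groth.Agent.Helper3.BCDesc Groth.Agent.Helper5.FlatBC Groth.Agent.Helper3.DualCx
  Groth.Agent.Helper3.BassLem

section Cyclic

variable {A : Type u} [CommRing A] (B : Type u) [CommRing B] [Algebra A B] [Module.Flat A B]

/-- cyclic modules `B/IB` are base changes of the cyclic modules `A/I` -/
noncomputable def cyclicIso (I : Ideal A) :
    Dual.inD B (B ⧸ I.map (algebraMap A B)) ≅ (G (A := A) B).obj (Dual.inD A (A ⧸ I)) :=
  (DerivedCategory.singleFunctor (ModuleCat.{u} B) 0).mapIso
      (((Algebra.TensorProduct.quotIdealMapEquivTensorQuot B I).toLinearEquiv ≪≫ₗ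
        eqvT B (A ⧸ I)).toModuleIso) ≪≫
    (GinDIso B (A ⧸ I)).symm

variable [IsNoetherianRing A]

/-- vanishing of `Ext^i(A/I, L)` passes to `Ext^i(B/IB, L ⊗ B)` -/
lemma van_G_cyclic (L : Dual.D A) (hL : Bdd L) (I : Ideal A) (i : ℤ) (h : Van L i (A ⧸ I)) :
    Van ((G (A := A) B).obj L) i (B ⧸ I.map (algebraMap A B)) := by
  haveI : Subsingleton (Dual.inD A (A ⧸ I) ⟶ L⟦i⟧) := h
  haveI := subsingleton_G_shift B (Dual.inD A (A ⧸ I)) L (bdd_inD _)
    (finite_homology_inD (A ⧸ I)) hL i
  exact (Iso.homCongr (cyclicIso B I) (Iso.refl _)).subsingleton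

lemma bdd_G (L : Dual.D A) (hL : Bdd L) : Bdd ((G (A := A) B).obj L) := by
  obtain ⟨a, b, h1, h2⟩ := hL
  exact ⟨a, b, isGE_G B L a, isLE_G B L b⟩

variable [IsNoetherianRing B]

/-- the base change of a dualizing complex along a flat map of Noetherian rings is dualizing
as soon as it has finite injective dimension -/
theorem isDualizing_G_of_injdim (ω : Dual.D A) (hω : Dual.IsDualizing A ω)
    (h : ∃ a b : ℤ, ∀ (J : Ideal B) (i : ℤ), (i < a ∨ b < i) →
      Subsingleton (Dual.inD B (B ⧸ J) ⟶ ((G (A := A) B).obj ω)⟦i⟧)) :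
    Dual.IsDualizing B ((G (A := A) B).obj ω) := by
  have hbdd := bdd_of_isDualizing hω
  have hfin := hω.finite_cohomology
  obtain ⟨a, b, hab⟩ := h
  refine ⟨inferInstance, ⟨a, b, ?_⟩, ?_, ?_, ?_⟩
  · have hout := (Groth.Agent.Helper5.InjAmp.s6965 ((G (A := A) B).obj ω) a b).out 2 1
    exact hout.1 hab
  · intro i
    haveI := hfin i
    exact finite_homology_G B ω i
  · exact toEnd_bijective_of_bijBC (G (A := A) B) (semiLinear_G B) ω
      (bijBC_main B ω ω hbdd hfin hbdd) hω.toEnd_bijective
  · intro i hi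
    haveI := hω.ext_self_subsingleton i hi
    exact subsingleton_G_shift B ω ω hbdd hfin hbdd i

/-- the local case: if `pB` is the maximal ideal of the local ring `B` and `Ext^i(A/p, L) = 0`
for `i > b`, then `L ⊗ B` has injective amplitude in `[a, b]` -/
theorem van_G_local [IsLocalRing B] (L : Dual.D A) (a b : ℤ) [L.IsGE a] (hL : Bdd L)
    (hfin : ∀ i : ℤ, Module.Finite A (Dual.HD A L i)) (p : Ideal A)
    (hp : p.map (algebraMap A B) = IsLocalRing.maximalIdeal B)
    (hvan : ∀ i : ℤ, b < i → Van L i (A ⧸ p))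
    (N : Type u) [AddCommGroup N] [Module B N] (i : ℤ) (hi : i < a ∨ b < i) :
    Subsingleton (Dual.inD B N ⟶ ((G (A := A) B).obj L)⟦i⟧) := by
  haveI := isGE_G B L a
  refine injdim_of_residue ((G (A := A) B).obj L) a b
    (fun i => by haveI := hfin i; exact finite_homology_G B L i) (fun j hj => ?_) N i hi
  exact van_of_equiv _ j (Submodule.quotEquivOfEq _ _ hp) (van_G_cyclic B L hL p j (hvan j hj))

end Cyclic

section General

variable {A : Type u} [CommRing A] [IsNoetherianRing A] (B : Type u) [CommRing B] [Algebra A B]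
  [Module.Flat A B] [IsNoetherianRing B]

/-- the general case: all closed fibres are fields -/
theorem van_G_of_maximal (L : Dual.D A) (a b : ℤ) [L.IsGE a] (hL : Bdd L)
    (hfin : ∀ i : ℤ, Module.Finite A (Dual.HD A L i))
    (hvan : ∀ (N : Type u) [AddCommGroup N] [Module A N] (i : ℤ), b < i →
      Subsingleton (Dual.inD A N ⟶ L⟦i⟧))
    (H : ∀ (n : Ideal B) [n.IsMaximal], ∃ p : Ideal A,
      (p.map (algebraMap A B)).map (algebraMap B (Localization.AtPrime n)) =
        IsLocalRing.maximalIdeal (Localization.AtPrime n))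
    (J : Ideal B) (i : ℤ) (hi : i < a ∨ b < i) :
    Subsingleton (Dual.inD B (B ⧸ J) ⟶ ((G (A := A) B).obj L)⟦i⟧) := by
  haveI hGE := isGE_G B L a
  rcases hi with hi | hi
  · let t : TStructure (Dual.D B) := TStructure.t
    haveI hRt : t.IsGE ((G (A := A) B).obj L) a := hGE
    haveI h3ge' : t.IsGE (((G (A := A) B).obj L)⟦i⟧) (a - i) :=
      t.isGE_shift _ a i (a - i) (by omega)
    haveI h3ge : t.IsGE (((G (A := A) B).obj L)⟦i⟧) 1 := t.isGE_of_ge _ 1 (a - i) (by omega)
    haveI hMle : t.IsLE (Dual.inD B (B ⧸ J)) 0 := inferInstanceAs ((Dual.inD B (B ⧸ J)).IsLE 0)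
    exact ⟨fun f g => by
      rw [t.zero_of_isLE_of_isGE f 0 1 (by omega) hMle h3ge,
        t.zero_of_isLE_of_isGE g 0 1 (by omega) hMle h3ge]⟩
  · apply jf_of_maximal.{u, u + 1} (A := B)
    intro m
    haveI : IsNoetherianRing (Localization.AtPrime m.asIdeal) :=
      IsLocalization.isNoetherianRing m.asIdeal.primeCompl _ inferInstance
    haveI : Module.Flat B (Localization.AtPrime m.asIdeal) :=
      IsLocalization.flat _ m.asIdeal.primeCompl
    obtain ⟨p, hp⟩ := H m.asIdeal
    have hL' : Bdd ((G (A := A) B).obj L) := bdd_G B L hL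
    have hfin' : ∀ j : ℤ, Module.Finite B (Dual.HD B ((G (A := A) B).obj L) j) := fun j => by
      haveI := hfin j
      exact finite_homology_G B L j
    have key := van_G_local (Localization.AtPrime m.asIdeal) ((G (A := A) B).obj L) a b hL' hfin'
      (p.map (algebraMap A B)) hp
      (fun j hj => van_G_cyclic B L hL p j (hvan (A ⧸ p) j hj))
      (Localization.AtPrime m.asIdeal ⧸ J.map (algebraMap B (Localization.AtPrime m.asIdeal)))
      i (Or.inr hi)
    haveI : Subsingleton ((G (A := B) (Localization.AtPrime m.asIdeal)).obj (Dual.inD B (B ⧸ J)) ⟶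
        (G (A := B) (Localization.AtPrime m.asIdeal)).obj (((G (A := A) B).obj L)⟦i⟧)) :=
      (Iso.homCongr (cyclicIso (Localization.AtPrime m.asIdeal) J)
        (GshiftIso (Localization.AtPrime m.asIdeal) ((G (A := A) B).obj L) i).symm).symm.subsingleton
    exact subsingleton_tensor_of_injBC (G (A := B) (Localization.AtPrime m.asIdeal))
      (semiLinear_G (Localization.AtPrime m.asIdeal)) (Dual.inD B (B ⧸ J))
      (((G (A := A) B).obj L)⟦i⟧)
      (bijBC_main (Localization.AtPrime m.asIdeal) _ _ (bdd_inD _) (finite_homology_inD (B ⧸ J))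
        (bdd_shift _ i hL')).1

/-- flat base change of a dualizing complex is dualizing when all closed fibres are fields -/
theorem isDualizing_G_of_maximal (ω : Dual.D A) (hω : Dual.IsDualizing A ω)
    (H : ∀ (n : Ideal B) [n.IsMaximal], ∃ p : Ideal A,
      (p.map (algebraMap A B)).map (algebraMap B (Localization.AtPrime n)) =
        IsLocalRing.maximalIdeal (Localization.AtPrime n)) :
    Dual.IsDualizing B ((G (A := A) B).obj ω) := by
  obtain ⟨a, b, hab⟩ := hω.finite_injective_dimension
  have hbdd := bdd_of_injdim ω a b hab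
  haveI : ω.IsGE a := by
    rw [DerivedCategory.isGE_iff]
    intro i hi
    have h1 : Van ω i A := hab A i (Or.inl hi)
    rw [van_self_iff] at h1
    exact ModuleCat.isZero_of_subsingleton _
  refine isDualizing_G_of_injdim B ω hω ⟨a, b, fun J i hi => ?_⟩
  exact van_G_of_maximal B ω a b hbdd hω.finite_cohomology
    (fun N _ _ i hi => hab N i (Or.inr hi)) H J i hi

end General

end Groth.Agent.Helper3.BCFlat
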