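import Mathlib
import Groth.Prelude.Def_Wider
import Groth.Prelude.Def_DDual2
import Groth.Agent.Lib.Helper3.BCFlat
import Groth.Agent.Lib.Helper2.CompleteNoeth

/-!
# Flat base change of dualizing complexes: local maps with `m_A B = m_B`, Jacobson pairs,
adic completions
-/

set_option autoImplicit false
universe u w
open CategoryTheory CategoryTheory.Limits Pretriangulated Triangulated TensorProduct DerivedCategory

attribute [local instance] HasDerivedCategory.standard

namespace Groth.Agent.Helper3.BCFlat

open Groth.Agent.Helper3.BCAbs Groth.Agent.Helper3.BCDer Groth.Agent.Helper3.BCDual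
  Groth.Agent.Helper3.BCDesc Groth.Agent.Helper5.FlatBC Groth.Agent.Helper3.DualCx
  Groth.Agent.Helper3.BassLem

theorem main_S1777 (A B : Type u) [CommRing A] [CommRing B] [IsLocalRing A] [IsLocalRing B]
    [Algebra A B] [IsLocalHom (algebraMap A B)] [IsNoetherianRing A] [IsNoetherianRing B]
    [Module.Flat A B]
    (hm : (IsLocalRing.maximalIdeal A).map (algebraMap A B) = IsLocalRing.maximalIdeal B)
    [DRing.HasLBaseChange (algebraMap A B)] (ω : Dual.D A) (hω : Dual.IsDualizing A ω)
    (hn : Dual.IsNormalized A ω) :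
    Dual.IsDualizing B ((DRing.LBaseChange (algebraMap A B)).obj ω) ∧
      Dual.IsNormalized B ((DRing.LBaseChange (algebraMap A B)).obj ω) := by
  obtain ⟨a, b, hab⟩ := hω.finite_injective_dimension
  have hbdd := bdd_of_injdim ω a b hab
  haveI : ω.IsGE a := by
    rw [DerivedCategory.isGE_iff]
    intro i hi
    have h1 : Van ω i A := hab A i (Or.inl hi)
    rw [van_self_iff] at h1
    exact ModuleCat.isZero_of_subsingleton _
  have hdual : Dual.IsDualizing B ((G (A := A) B).obj ω) :=
    isDualizing_G_of_injdim B ω hω ⟨a, b, fun J i hi =>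
      van_G_local B ω a b hbdd hω.finite_cohomology (IsLocalRing.maximalIdeal A) hm
        (fun i hi => hab _ i (Or.inr hi)) (B ⧸ J) i hi⟩
  have hnorm : ∀ i : ℤ, i ≠ 0 → Van ((G (A := A) B).obj ω) i (B ⧸ IsLocalRing.maximalIdeal B) :=
    fun i hi => van_of_equiv _ i (Submodule.quotEquivOfEq _ _ hm)
      (van_G_cyclic B ω hbdd (IsLocalRing.maximalIdeal A) i (hn i hi))
  let e := (lbcIsoG (A := A) B).app ω
  refine ⟨isDualizing_of_iso e.symm hdual, fun i hi => ?_⟩
  haveI : Subsingleton (Dual.inD B (B ⧸ IsLocalRing.maximalIdeal B) ⟶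
      ((G (A := A) B).obj ω)⟦i⟧) := hnorm i hi
  exact (Iso.homCongr (Iso.refl (Dual.inD B (B ⧸ IsLocalRing.maximalIdeal B)))
    ((shiftFunctor (Dual.D B) i).mapIso e)).subsingleton

/-- Jacobson pairs -/
theorem isDualizing_G_of_jacobson (A B : Type u) [CommRing A] [CommRing B] [Algebra A B]
    [IsNoetherianRing A] [IsNoetherianRing B] [Module.Flat A B] (I : Ideal A)
    (hs : Function.Surjective
      ((Ideal.Quotient.mk (I.map (algebraMap A B))).comp (algebraMap A B)))
    (hJ : I.map (algebraMap A B) ≤ (⊥ : Ideal B).jacobson)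
    (ω : Dual.D A) (hω : Dual.IsDualizing A ω) :
    Dual.IsDualizing B ((G (A := A) B).obj ω) := by
  refine isDualizing_G_of_maximal B ω hω (fun n hn => ?_)
  have hIn : I.map (algebraMap A B) ≤ n := by
    refine hJ.trans ?_
    exact sInf_le ⟨bot_le, hn⟩
  refine ⟨n.comap (algebraMap A B), ?_⟩
  have h1 : (n.comap (algebraMap A B)).map (algebraMap A B) = n := by
    apply le_antisymm Ideal.map_comap_le
    intro y hy
    obtain ⟨x, hx⟩ := hs (Ideal.Quotient.mk _ y)
    have h2 : algebraMap A B x - y ∈ I.map (algebraMap A B) := by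
      rw [← Ideal.Quotient.eq]
      exact hx
    have h3 : algebraMap A B x ∈ n := by
      have := n.add_mem (hIn h2) hy
      rwa [sub_add_cancel] at this
    have h4 : algebraMap A B x ∈ (n.comap (algebraMap A B)).map (algebraMap A B) :=
      Ideal.mem_map_of_mem _ (Ideal.mem_comap.2 h3)
    have h5 : I.map (algebraMap A B) ≤ (n.comap (algebraMap A B)).map (algebraMap A B) :=
      Ideal.map_mono (Ideal.le_comap_of_map_le hIn)
    have := Ideal.sub_mem _ h4 (h5 h2)
    rwa [sub_sub_cancel] at this
  rw [h1]
  exact Localization.AtPrime.map_eq_maximalIdeal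

theorem main_S1778 (A B : Type u) [CommRing A] [CommRing B] [Algebra A B] [IsNoetherianRing A]
    [IsNoetherianRing B] [Module.Flat A B] (I : Ideal A)
    (hs : Function.Surjective
      ((Ideal.Quotient.mk (I.map (algebraMap A B))).comp (algebraMap A B)))
    (hk : RingHom.ker ((Ideal.Quotient.mk (I.map (algebraMap A B))).comp (algebraMap A B)) = I)
    (hJ : I.map (algebraMap A B) ≤ (⊥ : Ideal B).jacobson)
    [DRing.HasLBaseChange (algebraMap A B)] (ω : Dual.D A) (hω : Dual.IsDualizing A ω) :
    Dual.IsDualizing B ((DRing.LBaseChange (algebraMap A B)).obj ω) :=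
  isDualizing_of_iso ((lbcIsoG (A := A) B).app ω).symm
    (isDualizing_G_of_jacobson A B I hs hJ ω hω)

theorem main_S1779 (A : Type u) [CommRing A] [IsNoetherianRing A] (I : Ideal A)
    [DRing.HasLBaseChange (algebraMap A (AdicCompletion I A))] (ω : Dual.D A)
    (hω : Dual.IsDualizing A ω) :
    Dual.IsDualizing (AdicCompletion I A)
      ((DRing.LBaseChange (algebraMap A (AdicCompletion I A))).obj ω) := by
  have hfg : I.FG := IsNoetherian.noetherian I
  haveI : IsNoetherianRing (AdicCompletion I A) :=
    Groth.Agent.Helper2.CompleteNoeth.isNoetherianRing_adicCompletion A I hfg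
  haveI := AdicCompletion.isAdicComplete_self I hfg
  have hJ : I.map (algebraMap A (AdicCompletion I A)) ≤ (⊥ : Ideal (AdicCompletion I A)).jacobson :=
    IsAdicComplete.le_jacobson_bot _
  have hs : Function.Surjective
      ((Ideal.Quotient.mk (I.map (algebraMap A (AdicCompletion I A)))).comp
        (algebraMap A (AdicCompletion I A))) := by
    intro z
    obtain ⟨y, rfl⟩ := Ideal.Quotient.mk_surjective z
    obtain ⟨x, hx⟩ := Ideal.Quotient.mk_surjective (AdicCompletion.evalOneₐ I y)
    refine ⟨x, ?_⟩
    rw [RingHom.comp_apply, Ideal.Quotient.eq, ← AdicCompletion.ker_evalOneₐ_eq_map I hfg,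
      RingHom.mem_ker, map_sub]
    have h1 : (AdicCompletion.evalOneₐ I).toRingHom (algebraMap A (AdicCompletion I A) x) =
        Ideal.Quotient.mk I x := by
      have := AdicCompletion.evalOneₐ_comp_algebraMap_eq_mk I
      exact congrArg (fun f => f x) this
    rw [h1, hx]
    exact sub_self _
  exact isDualizing_of_iso ((lbcIsoG (A := A) (AdicCompletion I A)).app ω).symm
    (isDualizing_G_of_jacobson A (AdicCompletion I A) I hs hJ ω hω)

end Groth.Agent.Helper3.BCFlat
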