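import Mathlib
import Groth.Prelude.Def_Wider
import Groth.Prelude.Def_DDual2
import Groth.Prelude.Def_Hensel
import Groth.Agent.Lib.Helper3.BCFlat
import Groth.Agent.Lib.Helper7.SHens.Abstract
import Groth.Agent.Lib.Helper7.Hens.Abstract

/-!
# Base change of dualizing complexes to the (strict) henselization
-/

set_option autoImplicit false
universe u w
open CategoryTheory CategoryTheory.Limits Pretriangulated Triangulated TensorProduct DerivedCategory

attribute [local instance] HasDerivedCategory.standard

namespace Groth.Agent.Helper3.BCFlat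

open Groth.Agent.Helper3.BCAbs Groth.Agent.Helper3.BCDer Groth.Agent.Helper3.BCDual
  Groth.Agent.Helper3.BCDesc Groth.Agent.Helper5.FlatBC Groth.Agent.Helper3.DualCx
  Groth.Agent.Helper3.BassLem

/-- flat local homomorphisms with `m_A B = m_B` preserve dualizing complexes -/
theorem isDualizing_lbc_of_map_maximalIdeal (A B : Type u) [CommRing A] [CommRing B]
    [IsLocalRing A] [IsLocalRing B] [Algebra A B] [IsNoetherianRing A] [IsNoetherianRing B]
    [Module.Flat A B]
    (hm : (IsLocalRing.maximalIdeal A).map (algebraMap A B) = IsLocalRing.maximalIdeal B)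
    [DRing.HasLBaseChange (algebraMap A B)] (ω : Dual.D A) (hω : Dual.IsDualizing A ω) :
    Dual.IsDualizing B ((DRing.LBaseChange (algebraMap A B)).obj ω) := by
  obtain ⟨a, b, hab⟩ := hω.finite_injective_dimension
  have hbdd := bdd_of_injdim ω a b hab
  haveI : ω.IsGE a := by
    rw [DerivedCategory.isGE_iff]
    intro i hi
    have h1 : Van ω i A := hab A i (Or.inl hi)
    rw [van_self_iff] at h1
    exact ModuleCat.isZero_of_subsingleton _
  have hdual : Dual.IsDualizing B ((G (A := A) B).obj ω) :=
    isDualizing_G_of_injdim B ω hω ⟨a, b, fun J i hi =>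
      van_G_local B ω a b hbdd hω.finite_cohomology (IsLocalRing.maximalIdeal A) hm
        (fun i hi => hab _ i (Or.inr hi)) (B ⧸ J) i hi⟩
  exact isDualizing_of_iso ((lbcIsoG (A := A) B).app ω).symm hdual

theorem main_S1825 (A B : Type u) [CommRing A] [IsLocalRing A] [IsNoetherianRing A] [CommRing B]
    [IsLocalRing B] [IsNoetherianRing B] [Algebra A B] [IsLocalHom (algebraMap A B)]
    [Hensel.IsHenselization A B] [DRing.HasLBaseChange (algebraMap A B)] (ω : Dual.D A)
    (hω : Dual.IsDualizing A ω) :
    Dual.IsDualizing B ((DRing.LBaseChange (algebraMap A B)).obj ω) := by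
  haveI : Module.Flat A B := Groth.Agent.Helper7.Hens.flat_of_isHenselization A B
  exact isDualizing_lbc_of_map_maximalIdeal A B
    (Groth.Agent.Helper7.Hens.map_maximalIdeal_of_isHenselization A B) ω hω

theorem main_S1826 (A B : Type u) [CommRing A] [IsLocalRing A] [IsNoetherianRing A] [CommRing B]
    [IsLocalRing B] [IsNoetherianRing B] [Algebra A B] [IsLocalHom (algebraMap A B)]
    [Hensel.IsStrictHenselization A B] [DRing.HasLBaseChange (algebraMap A B)] (ω : Dual.D A)
    (hω : Dual.IsDualizing A ω) :
    Dual.IsDualizing B ((DRing.LBaseChange (algebraMap A B)).obj ω) := by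
  haveI : Module.Flat A B := Groth.Agent.Helper7.SHens.flat_of_isStrictHenselization A B
  exact isDualizing_lbc_of_map_maximalIdeal A B
    (Groth.Agent.Helper7.SHens.map_maximalIdeal_of_isStrictHenselization A B) ω hω

end Groth.Agent.Helper3.BCFlat
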