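import Mathlib
import Groth.Prelude.Def_Wider
import Groth.Prelude.Def_DDual2
import Groth.Agent.Lib.Helper3.BCFlat

/-!
# Base change of dualizing complexes to polynomial rings
-/

set_option autoImplicit false
universe u w
open CategoryTheory CategoryTheory.Limits Pretriangulated Triangulated TensorProduct DerivedCategory

attribute [local instance] HasDerivedCategory.standard

namespace Groth.Agent.Helper3.BCPoly

open Groth.Agent.Helper3.BCAbs Groth.Agent.Helper3.BCDer Groth.Agent.Helper3.BCDual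
  Groth.Agent.Helper3.BCDesc Groth.Agent.Helper5.FlatBC Groth.Agent.Helper3.DualCx
  Groth.Agent.Helper3.BassLem Groth.Agent.Helper3.BCFlat
open scoped Pointwise

section PolyAlg

open Polynomial

/-- pseudo-division by an element of minimal degree in an ideal of `D[X]`, `D` a domain -/
lemma exists_pow_mul_eq (D : Type*) [CommRing D] [IsDomain D] (N : Ideal D[X]) (g : D[X])
    (hg : g ∈ N) (hg0 : g ≠ 0) (hmin : ∀ h ∈ N, h ≠ 0 → g.natDegree ≤ h.natDegree) :
    ∀ (n : ℕ) (h : D[X]), h.natDegree = n → h ∈ N →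
      ∃ (k : ℕ) (q : D[X]), C g.leadingCoeff ^ k * h = q * g := by
  intro n
  induction n using Nat.strong_induction_on with
  | _ n ih =>
    intro h hn hh
    by_cases h0 : h = 0
    · exact ⟨0, 0, by simp [h0]⟩
    have hle := hmin h hh h0
    have hc : g.leadingCoeff ≠ 0 := leadingCoeff_ne_zero.2 hg0
    have hl : h.leadingCoeff ≠ 0 := leadingCoeff_ne_zero.2 h0
    let m := h.natDegree - g.natDegree
    let h' := C g.leadingCoeff * h - C h.leadingCoeff * X ^ m * g
    have hh' : h' ∈ N := N.sub_mem (N.mul_mem_left _ hh) (N.mul_mem_left _ hg)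
    have hd : (C g.leadingCoeff * h).degree = (C h.leadingCoeff * X ^ m * g).degree := by
      rw [degree_mul, degree_mul, degree_mul, degree_C hc, degree_C hl, degree_X_pow, zero_add,
        zero_add, degree_eq_natDegree h0, degree_eq_natDegree hg0]
      norm_cast
      omega
    have hlc : (C g.leadingCoeff * h).leadingCoeff =
        (C h.leadingCoeff * X ^ m * g).leadingCoeff := by
      rw [leadingCoeff_mul, leadingCoeff_mul, leadingCoeff_mul, leadingCoeff_C, leadingCoeff_C,
        leadingCoeff_X_pow, mul_one, mul_comm]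
    have hne : C g.leadingCoeff * h ≠ 0 := mul_ne_zero (C_ne_zero.2 hc) h0
    have hlt := degree_sub_lt hd hne hlc
    by_cases h'0 : h' = 0
    · refine ⟨1, C h.leadingCoeff * X ^ m, ?_⟩
      rw [pow_one]
      exact sub_eq_zero.1 h'0
    have hnat : h'.natDegree < n := by
      have h1 : h'.degree < h.degree := by rwa [degree_mul, degree_C hc, zero_add] at hlt
      rw [← hn]
      exact natDegree_lt_natDegree h'0 h1
    obtain ⟨k, q, hq⟩ := ih h'.natDegree hnat h' rfl hh'
    refine ⟨k + 1, q + C g.leadingCoeff ^ k * (C h.leadingCoeff * X ^ m), ?_⟩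
    have h2 : C g.leadingCoeff * h = h' + C h.leadingCoeff * X ^ m * g := by
      simp only [h']
      ring
    rw [pow_succ, mul_assoc, h2, mul_add, hq]
    ring

/-- for a prime `n` of `A[X]` lying over `p`, either `n = p[X]` or `n` is generated, up to
elements of `A ∖ p`, by `p[X]` and one element `g ∉ p[X]` -/
lemma exists_gen (A : Type*) [CommRing A] (n : Ideal A[X]) [n.IsPrime]
    (hne : (n.comap (C : A →+* A[X])).map (C : A →+* A[X]) ≠ n) :
    ∃ g ∈ n, g ∉ (n.comap (C : A →+* A[X])).map (C : A →+* A[X]) ∧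
      ∃ c : A, c ∉ n.comap (C : A →+* A[X]) ∧ ∀ h ∈ n, ∃ (k : ℕ) (q : A[X]),
        C c ^ k * h - q * g ∈ (n.comap (C : A →+* A[X])).map (C : A →+* A[X]) := by
  classical
  set p : Ideal A := n.comap (C : A →+* A[X]) with hp
  haveI : p.IsPrime := Ideal.comap_isPrime _ _
  let φ : A[X] →+* (A ⧸ p)[X] := mapRingHom (Ideal.Quotient.mk p)
  have hφs : Function.Surjective φ := map_surjective _ Ideal.Quotient.mk_surjective
  have hker : RingHom.ker φ = p.map (C : A →+* A[X]) := by
    rw [Polynomial.ker_mapRingHom, Ideal.mk_ker]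
  have hPn : p.map (C : A →+* A[X]) ≤ n := Ideal.map_comap_le
  let N : Ideal (A ⧸ p)[X] := n.map φ
  have hN : N ≠ ⊥ := by
    intro h0
    apply hne
    apply le_antisymm hPn
    rw [← hker]
    intro x hx
    rw [RingHom.mem_ker]
    have : φ x ∈ N := Ideal.mem_map_of_mem φ hx
    rw [h0] at this
    exact this
  obtain ⟨g₁, hg₁, hg₁0⟩ := Submodule.exists_mem_ne_zero_of_ne_bot hN
  let S : Set ℕ := {d | ∃ g' ∈ N, g' ≠ 0 ∧ g'.natDegree = d}
  have hS : S.Nonempty := ⟨g₁.natDegree, g₁, hg₁, hg₁0, rfl⟩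
  obtain ⟨gb, hgb, hgb0, hgbd⟩ := Nat.sInf_mem hS
  have hmin : ∀ h ∈ N, h ≠ 0 → gb.natDegree ≤ h.natDegree := by
    intro h hh h0
    rw [hgbd]
    exact Nat.sInf_le ⟨h, hh, h0, rfl⟩
  obtain ⟨g, hgn, hg⟩ := (Ideal.mem_map_iff_of_surjective φ hφs).1 hgb
  obtain ⟨c, hc⟩ := Ideal.Quotient.mk_surjective gb.leadingCoeff
  refine ⟨g, hgn, ?_, c, ?_, ?_⟩
  · rw [← hker, RingHom.mem_ker, hg]
    exact hgb0
  · intro hcp
    have : Ideal.Quotient.mk p c = 0 := Ideal.Quotient.eq_zero_iff_mem.2 hcp
    rw [hc] at this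
    exact hgb0 (leadingCoeff_eq_zero.1 this)
  · intro h hh
    obtain ⟨k, qb, hq⟩ := exists_pow_mul_eq (A ⧸ p) N gb hgb hgb0 hmin _ (φ h) rfl
      (Ideal.mem_map_of_mem φ hh)
    obtain ⟨q, rfl⟩ := hφs qb
    refine ⟨k, q, ?_⟩
    rw [← hker, RingHom.mem_ker, map_sub, map_mul, map_mul, map_pow, hg, sub_eq_zero, ← hq]
    congr 2
    show (C c).map (Ideal.Quotient.mk p) = _
    rw [Polynomial.map_C, hc]

end PolyAlg

section Reg

/-- in a short exact sequence, vanishing of `Ext^i(N₁, R)` and `Ext^{i+1}(N₂, R)` gives that of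
`Ext^{i+1}(N₃, R)` -/
lemma van_X₃ {A : Type u} [CommRing A] (R : Dual.D A) (i : ℤ) {N₁ N₂ N₃ : Type u}
    [AddCommGroup N₁] [Module A N₁] [AddCommGroup N₂] [Module A N₂] [AddCommGroup N₃]
    [Module A N₃] (f : N₁ →ₗ[A] N₂) (g : N₂ →ₗ[A] N₃) (hf : Function.Injective f)
    (hg : Function.Surjective g) (hfg : Function.Exact f g)
    (h₁ : Van R i N₁) (h₂ : Van R (i + 1) N₂) : Van R (i + 1) N₃ := by
  have hS := shortExact_of_exact f g hf hg hfg
  have hT := hS.singleTriangle_distinguished
  have hsub : Subsingleton ((Dual.inD A N₁)⟦(1 : ℤ)⟧ ⟶ R⟦i + 1⟧) :=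
    subsingleton_shift_hom (Dual.inD A N₁) R (i + 1) 1 i (by omega) h₁
  have key : ∀ φ : Dual.inD A N₃ ⟶ R⟦i + 1⟧, φ = 0 := by
    intro φ
    have h0 : hS.singleTriangle.mor₂ ≫ φ = 0 := h₂.elim _ _
    obtain ⟨ψ, hψ⟩ := Triangle.yoneda_exact₃ _ hT φ h0
    have hψ0 : ψ = 0 := hsub.elim _ _
    rw [hψ, hψ0]
    exact comp_zero
  exact ⟨fun φ ψ => by rw [key φ, key ψ]⟩

/-- `(B/P)/f(B/P) ≃ B/(P + (f))` -/
lemma nonempty_quotSMulTop_equiv {B : Type u} [CommRing B] (P : Ideal B) (f : B) :
    Nonempty ((B ⧸ (P ⊔ Ideal.span {f})) ≃ₗ[B] QuotSMulTop f (B ⧸ P)) := by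
  let π : B →ₗ[B] QuotSMulTop f (B ⧸ P) :=
    (f • (⊤ : Submodule B (B ⧸ P))).mkQ ∘ₗ (Submodule.mkQ P)
  have hsurj : Function.Surjective π :=
    (Submodule.mkQ_surjective _).comp (Submodule.mkQ_surjective _)
  have hker : LinearMap.ker π = P ⊔ Ideal.span {f} := by
    ext x
    rw [LinearMap.mem_ker]
    show (f • (⊤ : Submodule B (B ⧸ P))).mkQ (Submodule.mkQ P x) = 0 ↔ _
    rw [Submodule.mkQ_apply, Submodule.Quotient.mk_eq_zero,
      Submodule.mem_smul_pointwise_iff_exists]
    constructor
    · rintro ⟨y', -, hy'⟩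
      obtain ⟨y, rfl⟩ := Submodule.mkQ_surjective P y'
      have h1 : Submodule.mkQ P (x - f * y) = 0 := by
        rw [map_sub, ← hy', ← smul_eq_mul, map_smul, sub_self]
      rw [Submodule.mkQ_apply, Submodule.Quotient.mk_eq_zero] at h1
      have h2 : x = (x - f * y) + f * y := by ring
      rw [h2]
      exact Ideal.add_mem _ (Ideal.mem_sup_left h1)
        (Ideal.mem_sup_right (Ideal.mul_mem_right _ _ (Ideal.subset_span rfl)))
    · intro hx
      obtain ⟨u, hu, v, hv, rfl⟩ := Submodule.mem_sup.1 hx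
      obtain ⟨y, rfl⟩ := Ideal.mem_span_singleton'.1 hv
      refine ⟨Submodule.mkQ P y, Submodule.mem_top, ?_⟩
      rw [map_add, ← map_smul, smul_eq_mul]
      have : Submodule.mkQ P u = 0 := by
        rw [Submodule.mkQ_apply, Submodule.Quotient.mk_eq_zero]
        exact hu
      rw [this, zero_add, mul_comm]
  exact ⟨Submodule.quotEquivOfEq _ _ hker.symm ≪≫ₗ π.quotKerEquivOfSurjective hsurj⟩

variable {A : Type u} [CommRing A] [IsNoetherianRing A] (B : Type u) [CommRing B] [Algebra A B]
  [Module.Flat A B] [IsNoetherianRing B]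

/-- the local case with a one-dimensional regular closed fibre -/
theorem van_G_local_reg [IsLocalRing B] (L : Dual.D A) (a b : ℤ) [L.IsGE a] (hL : Bdd L)
    (hfin : ∀ i : ℤ, Module.Finite A (Dual.HD A L i)) (p : Ideal A) (f : B)
    (hpf : p.map (algebraMap A B) ⊔ Ideal.span {f} = IsLocalRing.maximalIdeal B)
    (hreg : IsSMulRegular (B ⧸ p.map (algebraMap A B)) f)
    (hvan : ∀ i : ℤ, b < i → Van L i (A ⧸ p))
    (N : Type u) [AddCommGroup N] [Module B N] (i : ℤ) (hi : i < a ∨ b + 1 < i) :
    Subsingleton (Dual.inD B N ⟶ ((G (A := A) B).obj L)⟦i⟧) := by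
  haveI := isGE_G B L a
  refine injdim_of_residue ((G (A := A) B).obj L) a (b + 1)
    (fun i => by haveI := hfin i; exact finite_homology_G B L i) (fun j hj => ?_) N i hi
  have h1 : Van ((G (A := A) B).obj L) (j - 1) (B ⧸ p.map (algebraMap A B)) :=
    van_G_cyclic B L hL p (j - 1) (hvan (j - 1) (by omega))
  have h2 : Van ((G (A := A) B).obj L) (j - 1 + 1) (B ⧸ p.map (algebraMap A B)) :=
    van_G_cyclic B L hL p _ (hvan _ (by omega))
  have h3 : Van ((G (A := A) B).obj L) (j - 1 + 1)
      (QuotSMulTop f (B ⧸ p.map (algebraMap A B))) :=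
    van_X₃ _ (j - 1) (LinearMap.lsmul B (B ⧸ p.map (algebraMap A B)) f)
      ((f • (⊤ : Submodule B (B ⧸ p.map (algebraMap A B)))).mkQ) hreg
      (Submodule.mkQ_surjective _) (LinearMap.exact_lsmul_mkQ_smul_top _ f) h1 h2
  obtain ⟨e⟩ := nonempty_quotSMulTop_equiv (p.map (algebraMap A B)) f
  have h4 := van_of_equiv _ _ (Submodule.quotEquivOfEq _ _ hpf.symm ≪≫ₗ e).symm h3
  rwa [show j - 1 + 1 = j by omega] at h4

/-- the general case: all closed fibres are fields or regular of dimension one -/
theorem van_G_of_maximal_reg (L : Dual.D A) (a b : ℤ) [L.IsGE a] (hL : Bdd L)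
    (hfin : ∀ i : ℤ, Module.Finite A (Dual.HD A L i))
    (hvan : ∀ (N : Type u) [AddCommGroup N] [Module A N] (i : ℤ), b < i →
      Subsingleton (Dual.inD A N ⟶ L⟦i⟧))
    (H : ∀ (n : Ideal B) [n.IsMaximal], ∃ p : Ideal A,
      (p.map (algebraMap A B)).map (algebraMap B (Localization.AtPrime n)) =
        IsLocalRing.maximalIdeal (Localization.AtPrime n) ∨
      ∃ f : Localization.AtPrime n,
        (p.map (algebraMap A B)).map (algebraMap B (Localization.AtPrime n)) ⊔ Ideal.span {f} =
          IsLocalRing.maximalIdeal (Localization.AtPrime n) ∧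
        IsSMulRegular (Localization.AtPrime n ⧸
          (p.map (algebraMap A B)).map (algebraMap B (Localization.AtPrime n))) f)
    (J : Ideal B) (i : ℤ) (hi : i < a ∨ b + 1 < i) :
    Subsingleton (Dual.inD B (B ⧸ J) ⟶ ((G (A := A) B).obj L)⟦i⟧) := by
  haveI hGE := isGE_G B L a
  rcases hi with hi | hi
  · let t : TStructure (Dual.D B) := TStructure.t
    haveI hRt : t.IsGE ((G (A := A) B).obj L) a := hGE
    haveI h3ge' : t.IsGE (((G (A := A) B).obj L)⟦i⟧) (a - i) :=
      t.isGE_shift _ a i (a - i) (by omega)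
    haveI h3ge : t.IsGE (((G (A := A) B).obj L)⟦i⟧) 1 := t.isGE_of_ge _ 1 (a - i) (by omega)
    haveI hMle : t.IsLE (Dual.inD B (B ⧸ J)) 0 := inferInstanceAs ((Dual.inD B (B ⧸ J)).IsLE 0)
    exact ⟨fun f g => by
      rw [t.zero_of_isLE_of_isGE f 0 1 (by omega) hMle h3ge,
        t.zero_of_isLE_of_isGE g 0 1 (by omega) hMle h3ge]⟩
  · apply jf_of_maximal.{u, u + 1} (A := B)
    intro m
    haveI : IsNoetherianRing (Localization.AtPrime m.asIdeal) :=
      IsLocalization.isNoetherianRing m.asIdeal.primeCompl _ inferInstance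
    haveI : Module.Flat B (Localization.AtPrime m.asIdeal) :=
      IsLocalization.flat _ m.asIdeal.primeCompl
    obtain ⟨p, hp⟩ := H m.asIdeal
    have hL' : Bdd ((G (A := A) B).obj L) := bdd_G B L hL
    have hfin' : ∀ j : ℤ, Module.Finite B (Dual.HD B ((G (A := A) B).obj L) j) := fun j => by
      haveI := hfin j
      exact finite_homology_G B L j
    have hvan' : ∀ j : ℤ, b < j →
        Van ((G (A := A) B).obj L) j (B ⧸ p.map (algebraMap A B)) :=
      fun j hj => van_G_cyclic B L hL p j (hvan (A ⧸ p) j hj)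
    have key : Subsingleton (Dual.inD (Localization.AtPrime m.asIdeal)
        (Localization.AtPrime m.asIdeal ⧸ J.map (algebraMap B (Localization.AtPrime m.asIdeal))) ⟶
        ((G (A := B) (Localization.AtPrime m.asIdeal)).obj ((G (A := A) B).obj L))⟦i⟧) := by
      rcases hp with hp | ⟨f, hpf, hreg⟩
      · exact van_G_local (Localization.AtPrime m.asIdeal) ((G (A := A) B).obj L) a b hL' hfin'
          (p.map (algebraMap A B)) hp hvan' _ i (Or.inr (by omega))
      · exact van_G_local_reg (Localization.AtPrime m.asIdeal) ((G (A := A) B).obj L) a b hL'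
          hfin' (p.map (algebraMap A B)) f hpf hreg hvan' _ i (Or.inr hi)
    haveI : Subsingleton ((G (A := B) (Localization.AtPrime m.asIdeal)).obj (Dual.inD B (B ⧸ J)) ⟶
        (G (A := B) (Localization.AtPrime m.asIdeal)).obj (((G (A := A) B).obj L)⟦i⟧)) :=
      (Iso.homCongr (cyclicIso (Localization.AtPrime m.asIdeal) J)
        (GshiftIso (Localization.AtPrime m.asIdeal) ((G (A := A) B).obj L) i).symm).symm.subsingleton
    exact subsingleton_tensor_of_injBC (G (A := B) (Localization.AtPrime m.asIdeal))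
      (semiLinear_G (Localization.AtPrime m.asIdeal)) (Dual.inD B (B ⧸ J))
      (((G (A := A) B).obj L)⟦i⟧)
      (bijBC_main (Localization.AtPrime m.asIdeal) _ _ (bdd_inD _) (finite_homology_inD (B ⧸ J))
        (bdd_shift _ i hL')).1

/-- flat base change of a dualizing complex is dualizing when all closed fibres are fields or
regular of dimension one -/
theorem isDualizing_G_of_maximal_reg (ω : Dual.D A) (hω : Dual.IsDualizing A ω)
    (H : ∀ (n : Ideal B) [n.IsMaximal], ∃ p : Ideal A,
      (p.map (algebraMap A B)).map (algebraMap B (Localization.AtPrime n)) =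
        IsLocalRing.maximalIdeal (Localization.AtPrime n) ∨
      ∃ f : Localization.AtPrime n,
        (p.map (algebraMap A B)).map (algebraMap B (Localization.AtPrime n)) ⊔ Ideal.span {f} =
          IsLocalRing.maximalIdeal (Localization.AtPrime n) ∧
        IsSMulRegular (Localization.AtPrime n ⧸
          (p.map (algebraMap A B)).map (algebraMap B (Localization.AtPrime n))) f) :
    Dual.IsDualizing B ((G (A := A) B).obj ω) := by
  obtain ⟨a, b, hab⟩ := hω.finite_injective_dimension
  have hbdd := bdd_of_injdim ω a b hab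
  haveI : ω.IsGE a := by
    rw [DerivedCategory.isGE_iff]
    intro i hi
    have h1 : Van ω i A := hab A i (Or.inl hi)
    rw [van_self_iff] at h1
    exact ModuleCat.isZero_of_subsingleton _
  refine isDualizing_G_of_injdim B ω hω ⟨a, b + 1, fun J i hi => ?_⟩
  exact van_G_of_maximal_reg B ω a b hbdd hω.finite_cohomology
    (fun N _ _ i hi => hab N i (Or.inr hi)) H J i hi

end Reg

section Poly

open Polynomial

variable (A : Type u) [CommRing A] [IsNoetherianRing A]

/-- the closed fibres of `A → A[X]` are fields or regular of dimension one -/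
theorem fibre_poly (n : Ideal A[X]) [n.IsMaximal] : ∃ p : Ideal A,
    (p.map (algebraMap A A[X])).map (algebraMap A[X] (Localization.AtPrime n)) =
      IsLocalRing.maximalIdeal (Localization.AtPrime n) ∨
    ∃ f : Localization.AtPrime n,
      (p.map (algebraMap A A[X])).map (algebraMap A[X] (Localization.AtPrime n)) ⊔
          Ideal.span {f} = IsLocalRing.maximalIdeal (Localization.AtPrime n) ∧
      IsSMulRegular (Localization.AtPrime n ⧸
        (p.map (algebraMap A A[X])).map (algebraMap A[X] (Localization.AtPrime n))) f := by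
  refine ⟨n.comap (C : A →+* A[X]), ?_⟩
  have halg : algebraMap A A[X] = (C : A →+* A[X]) := rfl
  rw [halg]
  set p : Ideal A := n.comap (C : A →+* A[X]) with hp
  haveI : p.IsPrime := Ideal.comap_isPrime _ _
  have hPn : p.map (C : A →+* A[X]) ≤ n := Ideal.map_comap_le
  have hmax : n.map (algebraMap A[X] (Localization.AtPrime n)) =
      IsLocalRing.maximalIdeal (Localization.AtPrime n) :=
    Localization.AtPrime.map_eq_maximalIdeal
  by_cases hne : p.map (C : A →+* A[X]) = n
  · left
    rw [hne, hmax]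
  right
  obtain ⟨g, hgn, hgP, c, hc, hdiv⟩ := exists_gen A n hne
  have hPprime : (p.map (C : A →+* A[X])).IsPrime := (Ideal.isPrime_map_C_iff_isPrime p).2 ‹_›
  have hdisj : Disjoint (n.primeCompl : Set A[X]) (p.map (C : A →+* A[X]) : Set A[X]) := by
    rw [Set.disjoint_left]
    intro x hx hx'
    exact hx (hPn hx')
  refine ⟨algebraMap A[X] (Localization.AtPrime n) g, ?_, ?_⟩
  · rw [← hmax]
    apply le_antisymm
    · refine sup_le (Ideal.map_mono hPn) ?_
      rw [Ideal.span_le, Set.singleton_subset_iff]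
      exact Ideal.mem_map_of_mem _ hgn
    · rw [Ideal.map_le_iff_le_comap]
      intro h hh
      rw [Ideal.mem_comap]
      obtain ⟨k, q, hq⟩ := hdiv h hh
      have hu : IsUnit (algebraMap A[X] (Localization.AtPrime n) (C c)) := by
        apply IsLocalization.map_units (Localization.AtPrime n) (⟨C c, ?_⟩ : n.primeCompl)
        intro hcn
        exact hc hcn
      obtain ⟨v, hv⟩ := (hu.pow k).exists_left_inv
      have h1 : algebraMap A[X] (Localization.AtPrime n) h =
          v * (algebraMap A[X] (Localization.AtPrime n) (C c ^ k * h - q * g) +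
            algebraMap A[X] (Localization.AtPrime n) q *
              algebraMap A[X] (Localization.AtPrime n) g) := by
        rw [← map_mul, ← map_add, sub_add_cancel, map_mul, map_pow, ← mul_assoc, hv, one_mul]
      rw [h1]
      refine Ideal.mul_mem_left _ _ (Ideal.add_mem _ ?_ ?_)
      · exact Ideal.mem_sup_left (Ideal.mem_map_of_mem _ hq)
      · exact Ideal.mem_sup_right (Ideal.mul_mem_left _ _ (Ideal.subset_span rfl))
  · haveI : ((p.map (C : A →+* A[X])).map (algebraMap A[X] (Localization.AtPrime n))).IsPrime :=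
      IsLocalization.isPrime_of_isPrime_disjoint n.primeCompl _ _ hPprime hdisj
    apply isSMulRegular_quotient_prime
    intro hmem
    apply hgP
    have h2 := IsLocalization.under_map_of_isPrime_disjoint n.primeCompl
      (Localization.AtPrime n) hPprime hdisj
    rw [← h2]
    exact hmem

theorem main_S1776 (A : Type u) [CommRing A] [IsNoetherianRing A]
    [DRing.HasLBaseChange (algebraMap A A[X])] (ω : Dual.D A) (hω : Dual.IsDualizing A ω) :
    Dual.IsDualizing A[X] ((DRing.LBaseChange (algebraMap A A[X])).obj ω) :=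
  isDualizing_of_iso ((lbcIsoG (A := A) A[X]).app ω).symm
    (isDualizing_G_of_maximal_reg A[X] ω hω (fun n _ => fibre_poly A n))

end Poly

end Groth.Agent.Helper3.BCPoly
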