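import Mathlib
import Groth.Prelude.Def_CohCx
import Groth.Prelude.Def_FreeSh
import Groth.Agent.Lib.Helper3.BaerFam

set_option autoImplicit false
universe u
open CategoryTheory Opposite

namespace Groth.Agent.Helper3.BaerSh

/-- the free abelian sheaves on representables form a separating family -/
lemma isSeparating_free {C : Type u} [SmallCategory C] (J : GrothendieckTopology C) :
    (ObjectProperty.ofObj (fun X : C => CohCx.freeSheaf J X)).IsSeparating := by
  intro F G f g hfg
  apply Sheaf.hom_ext
  apply NatTrans.ext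
  funext X
  apply AddCommGrpCat.hom_ext
  ext s
  have h1 := hfg _ (ObjectProperty.ofObj_apply _ X.unop) (CohFree.ofSect J X.unop F s)
  have h2 := congrArg (CohFree.evalGen J X.unop G) h1
  have h3 : ∀ k : F ⟶ G, CohFree.evalGen J X.unop G (CohFree.ofSect J X.unop F s ≫ k) =
      (k.hom.app X).hom s := by
    intro k
    change (k.hom.app (op X.unop)).hom (CohFree.evalGen J X.unop F (CohFree.ofSect J X.unop F s)) = _
    rw [CohFree.evalGen_ofSect]
  rw [h3, h3] at h2
  exact h2

/-- Baer criterion for abelian sheaves on a small site -/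
theorem injective_of_extension {C : Type u} [SmallCategory C]
    (J : GrothendieckTopology C) (I : Sheaf J AddCommGrpCat.{u})
    (h : ∀ (X : C) (S : Sheaf J AddCommGrpCat.{u}) (i : S ⟶ CohCx.freeSheaf J X) [Mono i] (φ : S ⟶ I),
      ∃ ψ : CohCx.freeSheaf J X ⟶ I, i ≫ ψ = φ) :
    Injective I := by
  by_cases hC : Nonempty C
  · obtain ⟨X₀⟩ := hC
    refine BaerFam.injective_of_extension.{u} (isSeparating_free J)
      ⟨_, ObjectProperty.ofObj_apply _ X₀⟩ I ?_
    rintro _ ⟨X⟩ S i _ φ
    exact h X S i φ
  · refine ⟨fun {X Y} g f _ => ⟨0, ?_⟩⟩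
    apply Sheaf.hom_ext
    apply NatTrans.ext
    funext V
    exact (hC ⟨V.unop⟩).elim

end Groth.Agent.Helper3.BaerSh
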