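import Mathlib
import Groth.Prelude.Def_ega3
import Groth.Agent.Lib.Helper2.FlatCxChain
import Groth.Agent.Lib.Helper1.FlatCxL

set_option autoImplicit false
universe u
open CategoryTheory Limits MonoidalCategory TensorProduct
open Groth.Agent.Helper2.FlatCx

namespace Groth.Agent.Helper3.BcWq

section Desc
variable {A : Type u} [CommRing A] (B : Type u) [CommRing B] [Algebra A B]

/-- flatness descends along faithfully flat base change -/
theorem flat_of_flat_baseChange [Module.FaithfullyFlat A B] (W : Type u) [AddCommGroup W]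
    [Module A W] (h : Module.Flat B (B ⊗[A] W)) : Module.Flat A W := by
  haveI : Module.Flat A (B ⊗[A] W) := Module.Flat.trans A B (B ⊗[A] W)
  rw [Module.Flat.iff_lTensor_preserves_injective_linearMap]
  intro M N _ _ _ _ g hg
  rw [← Module.FaithfullyFlat.lTensor_injective_iff_injective A B]
  have h1 : Function.Injective (g.lTensor (B ⊗[A] W)) :=
    Module.Flat.lTensor_preserves_injective_linearMap g hg
  rw [LinearMap.lTensor_tensor] at h1
  simpa using h1

end Desc

section Wq
variable {A : Type u} [CommRing A] (B : Type u) [CommRing B] [Algebra A B]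
variable {ι : Type} {c : ComplexShape ι} (P : HomologicalComplex (ModuleCat.{u} A) c)

/-- the cokernel of a differential commutes with base change -/
noncomputable def wqEquiv (p q : ι) :
    Wq (CohIII.bcCx (algebraMap A B) P) p q ≃ₗ[B] B ⊗[A] (Wq P p q) := by
  haveI : PreservesFiniteColimits (ModuleCat.extendScalars.{u, u, u} (algebraMap A B)) := by
    haveI := (ModuleCat.extendRestrictScalarsAdj.{u, u, u}
      (algebraMap A B)).leftAdjoint_preservesColimits
    infer_instance
  let G := ModuleCat.extendScalars.{u, u, u} (algebraMap A B)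
  let e1 : ModuleCat.of B (Wq (CohIII.bcCx (algebraMap A B) P) p q) ≅
      cokernel (G.map (P.d p q)) :=
    (ModuleCat.cokernelIsoRangeQuotient (G.map (P.d p q))).symm
  let e2 : cokernel (G.map (P.d p q)) ≅ G.obj (cokernel (P.d p q)) :=
    (PreservesCokernel.iso G (P.d p q)).symm
  let e3 : G.obj (cokernel (P.d p q)) ≅ G.obj (ModuleCat.of A (Wq P p q)) :=
    G.mapIso (ModuleCat.cokernelIsoRangeQuotient (P.d p q))
  exact (e1 ≪≫ e2 ≪≫ e3).toLinearEquiv.trans
    (Groth.Agent.Helper1.FlatCxL.theta (A := A) (κ := B) (ModuleCat.of A (Wq P p q)))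

theorem flat_bcCx (hP : ∀ i, Module.Flat A (P.X i)) (i : ι) :
    Module.Flat B ((CohIII.bcCx (algebraMap A B) P).X i) := by
  haveI := hP i
  exact Module.Flat.of_linearEquiv
    (Groth.Agent.Helper1.FlatCxL.theta (A := A) (κ := B) (P.X i))

theorem flat_wq_bc (p q : ι) (h : Module.Flat A (Wq P p q)) :
    Module.Flat B (Wq (CohIII.bcCx (algebraMap A B) P) p q) :=
  Module.Flat.of_linearEquiv (wqEquiv B P p q)

theorem flat_wq_of_bc [Module.FaithfullyFlat A B] (p q : ι)
    (h : Module.Flat B (Wq (CohIII.bcCx (algebraMap A B) P) p q)) : Module.Flat A (Wq P p q) := by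
  apply flat_of_flat_baseChange B
  exact Module.Flat.of_linearEquiv (wqEquiv B P p q).symm

end Wq

section Main
variable {A : Type u} [CommRing A] (B : Type u) [CommRing B] [Algebra A B]
variable (P : ChainComplex (ModuleCat.{u} A) ℤ) (hP : ∀ i, Module.Flat A (P.X i))
include hP

theorem epi_bc (p : ℤ) (h : (CohIII.TFun P p).PreservesEpimorphisms) :
    (CohIII.TFun (CohIII.bcCx (algebraMap A B) P) p).PreservesEpimorphisms :=
  preservesEpi_of_flat_Wq _ (flat_bcCx B P hP) p
    (flat_wq_bc B P p (p - 1) (flat_Wq_of_preservesEpi P hP p h))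

theorem mono_bc (p : ℤ) (h : (CohIII.TFun P p).PreservesMonomorphisms) :
    (CohIII.TFun (CohIII.bcCx (algebraMap A B) P) p).PreservesMonomorphisms := by
  haveI := flat_wq_bc B P (p + 1) p
    (flat_coker_of_preservesMono P (p + 1) p (p - 1) (by simp) (by simp) (hP _) h)
  exact preservesMono_of_flat_coker _ (p + 1) p (p - 1) (by simp) (by simp)

theorem epi_of_bc [Module.FaithfullyFlat A B] (p : ℤ)
    (h : (CohIII.TFun (CohIII.bcCx (algebraMap A B) P) p).PreservesEpimorphisms) :
    (CohIII.TFun P p).PreservesEpimorphisms :=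
  preservesEpi_of_flat_Wq P hP p
    (flat_wq_of_bc B P p (p - 1) (flat_Wq_of_preservesEpi _ (flat_bcCx B P hP) p h))

theorem mono_of_bc [Module.FaithfullyFlat A B] (p : ℤ)
    (h : (CohIII.TFun (CohIII.bcCx (algebraMap A B) P) p).PreservesMonomorphisms) :
    (CohIII.TFun P p).PreservesMonomorphisms := by
  haveI := flat_wq_of_bc B P (p + 1) p
    (flat_coker_of_preservesMono _ (p + 1) p (p - 1) (by simp) (by simp)
      (flat_bcCx B P hP _) h)
  exact preservesMono_of_flat_coker P (p + 1) p (p - 1) (by simp) (by simp)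

theorem main_S12120 (p : ℤ) :
    ((CohIII.TFun P p).PreservesEpimorphisms →
        (CohIII.TFun (CohIII.bcCx (algebraMap A B) P) p).PreservesEpimorphisms) ∧
      ((CohIII.TFun P p).PreservesMonomorphisms →
        (CohIII.TFun (CohIII.bcCx (algebraMap A B) P) p).PreservesMonomorphisms) :=
  ⟨epi_bc B P hP p, mono_bc B P hP p⟩

theorem main_S2377 [Module.FaithfullyFlat A B] (p : ℤ) :
    ((CohIII.TFun (CohIII.bcCx (algebraMap A B) P) p).PreservesEpimorphisms ↔
        (CohIII.TFun P p).PreservesEpimorphisms) ∧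
      ((CohIII.TFun (CohIII.bcCx (algebraMap A B) P) p).PreservesMonomorphisms ↔
        (CohIII.TFun P p).PreservesMonomorphisms) :=
  ⟨⟨epi_of_bc B P hP p, epi_bc B P hP p⟩, ⟨mono_of_bc B P hP p, mono_bc B P hP p⟩⟩

end Main

end Groth.Agent.Helper3.BcWq
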