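import Mathlib

/-!
# Five lemmas for `F.map` on Hom-sets of a triangulated functor
-/

open CategoryTheory Category Limits Pretriangulated Preadditive

universe v v' u u'

namespace Groth.Agent.Helper3.BddFF

variable {𝒞 : Type u} [Category.{v} 𝒞] [Preadditive 𝒞] [HasZeroObject 𝒞] [HasShift 𝒞 ℤ]
  [∀ n : ℤ, (shiftFunctor 𝒞 n).Additive] [Pretriangulated 𝒞]
  {𝒟 : Type u'} [Category.{v'} 𝒟] [Preadditive 𝒟] [HasZeroObject 𝒟] [HasShift 𝒟 ℤ]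
  [∀ n : ℤ, (shiftFunctor 𝒟 n).Additive] [Pretriangulated 𝒟]
  (F : 𝒞 ⥤ 𝒟) [F.CommShift ℤ] [F.IsTriangulated]

/-- `F.map` is injective on `K ⟶ L` (stated through zero) -/
def Inj (K L : 𝒞) : Prop := ∀ φ : K ⟶ L, F.map φ = 0 → φ = 0

/-- `F.map` is surjective on `K ⟶ L` -/
def Surj (K L : 𝒞) : Prop := ∀ g : F.obj K ⟶ F.obj L, ∃ φ : K ⟶ L, F.map φ = g

/-- `F.map` is bijective on `K ⟶ L` -/
def Bij (K L : 𝒞) : Prop := Inj F K L ∧ Surj F K L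

variable {F}

lemma Bij.bijective {K L : 𝒞} (h : Bij F K L) :
    Function.Bijective (fun φ : K ⟶ L => F.map φ) := by
  refine ⟨fun a b hab => ?_, fun g => h.2 g⟩
  have : F.map (a - b) = 0 := by rw [F.map_sub]; exact sub_eq_zero.2 hab
  exact sub_eq_zero.1 (h.1 _ this)

lemma bij_of_bijective {K L : 𝒞} (h : Function.Bijective (fun φ : K ⟶ L => F.map φ)) :
    Bij F K L :=
  ⟨fun φ hφ => h.1 (by simpa using hφ), fun g => h.2 g⟩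

lemma Bij.of_iso {K K' L L' : 𝒞} (h : Bij F K L) (e : K ≅ K') (e' : L ≅ L') : Bij F K' L' := by
  constructor
  · intro φ hφ
    have : e.hom ≫ φ ≫ e'.inv = 0 := h.1 _ (by simp [hφ])
    have h2 : φ = e.inv ≫ (e.hom ≫ φ ≫ e'.inv) ≫ e'.hom := by simp
    rw [h2, this]; simp
  · intro g
    obtain ⟨φ, hφ⟩ := h.2 (F.map e.hom ≫ g ≫ F.map e'.inv)
    refine ⟨e.inv ≫ φ ≫ e'.hom, ?_⟩
    simp [hφ]

/-- covariant five lemma -/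
lemma bij_obj₂ (T : Triangle 𝒞) (hT : T ∈ distTriang 𝒞) (K : 𝒞)
    (h₁ : Bij F K T.obj₁) (h₃ : Bij F K T.obj₃) (h₁' : Inj F K (T.obj₁⟦(1 : ℤ)⟧))
    (h₃' : Surj F K (T.obj₃⟦(-1 : ℤ)⟧)) : Bij F K T.obj₂ := by
  have hTi := inv_rot_of_distTriang _ hT
  have hFT := F.map_distinguished _ hT
  have hFTi := F.map_distinguished _ hTi
  let w : T.obj₃⟦(-1 : ℤ)⟧ ⟶ T.obj₁ := T.invRotate.mor₁
  have hw : w ≫ T.mor₁ = 0 := comp_distTriang_mor_zero₁₂ _ hTi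
  have hex : ∀ (g : F.obj K ⟶ F.obj T.obj₁), g ≫ F.map T.mor₁ = 0 →
      ∃ χ' : F.obj K ⟶ F.obj (T.obj₃⟦(-1 : ℤ)⟧), g = χ' ≫ F.map w :=
    fun g hg => Triangle.coyoneda_exact₂ _ hFTi g hg
  have hex' : ∀ (g : F.obj K ⟶ F.obj T.obj₂), g ≫ F.map T.mor₂ = 0 →
      ∃ χ' : F.obj K ⟶ F.obj T.obj₁, g = χ' ≫ F.map T.mor₁ :=
    fun g hg => Triangle.coyoneda_exact₂ _ hFT g hg
  constructor
  · intro φ hφ
    have h1 : φ ≫ T.mor₂ = 0 := h₃.1 _ (by rw [F.map_comp, hφ, zero_comp])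
    obtain ⟨ψ, rfl⟩ := Triangle.coyoneda_exact₂ T hT φ h1
    obtain ⟨χ', hχ'⟩ := hex (F.map ψ) (by rw [← F.map_comp]; exact hφ)
    obtain ⟨χ, rfl⟩ := h₃' χ'
    have h2 : ψ = χ ≫ w := by
      have : F.map (ψ - χ ≫ w) = 0 := by
        rw [F.map_sub, F.map_comp, hχ', sub_self]
      exact sub_eq_zero.1 (h₁.1 _ this)
    rw [h2, assoc, hw, comp_zero]
  · intro g
    obtain ⟨ψ, hψ⟩ := h₃.2 (g ≫ F.map T.mor₂)
    have h1 : ψ ≫ T.mor₃ = 0 := by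
      apply h₁'
      rw [F.map_comp, hψ, assoc, ← F.map_comp, comp_distTriang_mor_zero₂₃ _ hT, F.map_zero,
        comp_zero]
    obtain ⟨φ₀, rfl⟩ := Triangle.coyoneda_exact₃ T hT ψ h1
    obtain ⟨h, hh⟩ := hex' (g - F.map φ₀) (by
      rw [sub_comp, ← F.map_comp, hψ, sub_self])
    obtain ⟨ψ₁, rfl⟩ := h₁.2 h
    refine ⟨φ₀ + ψ₁ ≫ T.mor₁, ?_⟩
    rw [F.map_add, F.map_comp, ← hh]; abel

/-- contravariant five lemma -/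
lemma bij_obj₂' (T : Triangle 𝒞) (hT : T ∈ distTriang 𝒞) (L : 𝒞)
    (h₁ : Bij F T.obj₁ L) (h₃ : Bij F T.obj₃ L) (h₁' : Surj F (T.obj₁⟦(1 : ℤ)⟧) L)
    (h₃' : Inj F (T.obj₃⟦(-1 : ℤ)⟧) L) : Bij F T.obj₂ L := by
  have hTi := inv_rot_of_distTriang _ hT
  have hFT := F.map_distinguished _ hT
  let w : T.obj₃⟦(-1 : ℤ)⟧ ⟶ T.obj₁ := T.invRotate.mor₁
  have hw : w ≫ T.mor₁ = 0 := comp_distTriang_mor_zero₁₂ _ hTi
  have hex : ∀ (g : T.obj₁ ⟶ L), w ≫ g = 0 → ∃ φ₀ : T.obj₂ ⟶ L, g = T.mor₁ ≫ φ₀ :=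
    fun g hg => Triangle.yoneda_exact₂ _ hTi g hg
  have hex' : ∀ (g : F.obj T.obj₂ ⟶ F.obj L), F.map T.mor₁ ≫ g = 0 →
      ∃ χ' : F.obj T.obj₃ ⟶ F.obj L, g = F.map T.mor₂ ≫ χ' :=
    fun g hg => Triangle.yoneda_exact₂ _ hFT g hg
  have hex'' : ∀ (g : F.obj T.obj₃ ⟶ F.obj L), F.map T.mor₂ ≫ g = 0 →
      ∃ χ' : F.obj (T.obj₁⟦(1 : ℤ)⟧) ⟶ F.obj L, g = F.map T.mor₃ ≫ χ' := by
    intro g hg
    obtain ⟨χ', hχ'⟩ := Triangle.yoneda_exact₃ _ hFT g hg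
    refine ⟨(F.commShiftIso (1 : ℤ)).hom.app T.obj₁ ≫ χ', ?_⟩
    rw [hχ']
    change (F.map T.mor₃ ≫ (F.commShiftIso (1 : ℤ)).hom.app T.obj₁) ≫ χ' = _
    rw [assoc]
  constructor
  · intro φ hφ
    have h1 : T.mor₁ ≫ φ = 0 := h₁.1 _ (by rw [F.map_comp, hφ, comp_zero])
    obtain ⟨ψ, rfl⟩ := Triangle.yoneda_exact₂ T hT φ h1
    obtain ⟨χ', hχ'⟩ := hex'' (F.map ψ) (by rw [← F.map_comp]; exact hφ)
    obtain ⟨χ, rfl⟩ := h₁' χ'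
    have h2 : ψ = T.mor₃ ≫ χ := by
      have : F.map (ψ - T.mor₃ ≫ χ) = 0 := by
        rw [F.map_sub, F.map_comp, hχ', sub_self]
      exact sub_eq_zero.1 (h₃.1 _ this)
    rw [h2, ← assoc, comp_distTriang_mor_zero₂₃ _ hT, zero_comp]
  · intro g
    obtain ⟨ψ, hψ⟩ := h₁.2 (F.map T.mor₁ ≫ g)
    have h1 : w ≫ ψ = 0 := by
      apply h₃'
      rw [F.map_comp, hψ, ← assoc, ← F.map_comp, hw, F.map_zero, zero_comp]
    obtain ⟨φ₀, rfl⟩ := hex ψ h1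
    obtain ⟨h, hh⟩ := hex' (g - F.map φ₀) (by
      rw [comp_sub, ← F.map_comp, hψ, sub_self])
    obtain ⟨ψ₃, rfl⟩ := h₃.2 h
    refine ⟨φ₀ + T.mor₂ ≫ ψ₃, ?_⟩
    rw [F.map_add, F.map_comp, ← hh]; abel

lemma Bij.shift {K L : 𝒞} (h : Bij F K L) (m : ℤ) : Bij F (K⟦m⟧) (L⟦m⟧) := by
  have hnat : ∀ ψ : K ⟶ L, F.map (ψ⟦m⟧') = (F.commShiftIso m).hom.app K ≫ (F.map ψ)⟦m⟧' ≫
      (F.commShiftIso m).inv.app L := by
    intro ψ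
    have := F.commShiftIso_hom_naturality ψ m
    rw [← cancel_mono ((F.commShiftIso m).hom.app L), this]
    simp
  constructor
  · intro φ hφ
    obtain ⟨ψ, rfl⟩ := (shiftFunctor 𝒞 m).map_surjective φ
    rw [hnat] at hφ
    have h1 : (F.map ψ)⟦m⟧' = 0 := by
      have h2 := hφ =≫ (F.commShiftIso m).hom.app L
      simp only [assoc, Iso.inv_hom_id_app, comp_id, zero_comp] at h2
      have h3 := (F.commShiftIso m).inv.app K ≫= h2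
      simpa using h3
    have h2 : F.map ψ = 0 := (shiftFunctor 𝒟 m).map_injective (by rw [h1, Functor.map_zero])
    rw [h.1 ψ h2, Functor.map_zero]
  · intro g
    obtain ⟨h', hh'⟩ := (shiftFunctor 𝒟 m).map_surjective
      ((F.commShiftIso m).inv.app K ≫ g ≫ (F.commShiftIso m).hom.app L)
    obtain ⟨ψ, rfl⟩ := h.2 h'
    refine ⟨ψ⟦m⟧', ?_⟩
    rw [hnat, hh']
    simp

variable (F) in
/-- `F.map` is bijective on `K⟦m⟧ ⟶ L⟦n⟧` for all `m`, `n`. -/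
def BijAll (K L : 𝒞) : Prop := ∀ m n : ℤ, Bij F (K⟦m⟧) (L⟦n⟧)

lemma BijAll.of_iso {K K' L L' : 𝒞} (h : BijAll F K L) (e : K ≅ K') (e' : L ≅ L') :
    BijAll F K' L' := fun m n =>
  (h m n).of_iso ((shiftFunctor 𝒞 m).mapIso e) ((shiftFunctor 𝒞 n).mapIso e')

lemma BijAll.shift_right {K L : 𝒞} (h : BijAll F K L) (a : ℤ) : BijAll F K (L⟦a⟧) := fun m n =>
  (h m (a + n)).of_iso (Iso.refl _) ((shiftFunctorAdd' 𝒞 a n (a + n) rfl).app L)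

lemma BijAll.shift_left {K L : 𝒞} (h : BijAll F K L) (a : ℤ) : BijAll F (K⟦a⟧) L := fun m n =>
  (h (a + m) n).of_iso ((shiftFunctorAdd' 𝒞 a m (a + m) rfl).app K) (Iso.refl _)

lemma bijAll_of_forall {K L : 𝒞} (h : ∀ n : ℤ, Bij F K (L⟦n⟧)) : BijAll F K L := fun m n =>
  ((h (n - m)).shift m).of_iso (Iso.refl _)
    ((shiftFunctorAdd' 𝒞 (n - m) m n (by lia)).app L).symm

lemma BijAll.bij {K L : 𝒞} (h : BijAll F K L) : Bij F K L :=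
  (h 0 0).of_iso ((shiftFunctorZero 𝒞 ℤ).app K) ((shiftFunctorZero 𝒞 ℤ).app L)

lemma BijAll.obj₂ (T : Triangle 𝒞) (hT : T ∈ distTriang 𝒞) (K : 𝒞)
    (h₁ : BijAll F K T.obj₁) (h₃ : BijAll F K T.obj₃) : BijAll F K T.obj₂ := by
  intro m n
  have hT' := Triangle.shift_distinguished T hT n
  exact bij_obj₂ _ hT' (K⟦m⟧) (h₁ m n) (h₃ m n)
    ((h₁ m (n + 1)).of_iso (Iso.refl _) ((shiftFunctorAdd' 𝒞 n 1 (n + 1) rfl).app T.obj₁)).1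
    ((h₃ m (n + -1)).of_iso (Iso.refl _) ((shiftFunctorAdd' 𝒞 n (-1) (n + -1) rfl).app T.obj₃)).2

lemma BijAll.obj₂' (T : Triangle 𝒞) (hT : T ∈ distTriang 𝒞) (L : 𝒞)
    (h₁ : BijAll F T.obj₁ L) (h₃ : BijAll F T.obj₃ L) : BijAll F T.obj₂ L := by
  intro m n
  have hT' := Triangle.shift_distinguished T hT m
  exact bij_obj₂' _ hT' (L⟦n⟧) (h₁ m n) (h₃ m n)
    ((h₁ (m + 1) n).of_iso ((shiftFunctorAdd' 𝒞 m 1 (m + 1) rfl).app T.obj₁) (Iso.refl _)).2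
    ((h₃ (m + -1) n).of_iso ((shiftFunctorAdd' 𝒞 m (-1) (m + -1) rfl).app T.obj₃) (Iso.refl _)).1

end Groth.Agent.Helper3.BddFF
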