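import Mathlib
import Groth.Prelude.Def_WeakSerre
import Groth.Agent.Lib.Helper3.BddFF
import Groth.Agent.Lib.Helper3.CohWayOut
import Groth.Agent.Lib.Helper3.AdjWayOut
import Groth.Agent.Lib.Helper3.PCohN

/-!
# Bounded dévissage: full faithfulness and essential surjectivity on `D^b_A`
-/

open CategoryTheory Category Limits Pretriangulated DerivedCategory Triangulated ZeroObject

universe w w' v v' u u'

namespace Groth.Agent.Helper3.BddEquiv

open Groth.Agent.Helper3.BddFF Groth.Agent.Helper3.CohWayOut Groth.Agent.Helper3.AdjWayOut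

section FF

variable {A : Type u} [Category.{v} A] [Abelian A] [HasDerivedCategory.{w} A]
  {B : Type u'} [Category.{v'} B] [Abelian B] [HasDerivedCategory.{w'} B]
  (T : DerivedCategory A ⥤ DerivedCategory B) [T.CommShift ℤ] [T.IsTriangulated]
  (P : ObjectProperty A) [P.IsClosedUnderIsomorphisms]

theorem bijAll_of_bounded
    (h : ∀ M M' : A, P M → P M' → ∀ n : ℤ,
      Bij T ((singleFunctor A 0).obj M) (((singleFunctor A 0).obj M')⟦n⟧))
    (K L : DerivedCategory A) (a b a' b' : ℤ) [K.IsGE a] [K.IsLE b] [L.IsGE a'] [L.IsLE b']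
    (hK : ∀ i : ℤ, P ((homologyFunctor A i).obj K))
    (hL : ∀ i : ℤ, P ((homologyFunctor A i).obj L)) : BijAll T K L := by
  -- Step A
  have hA : ∀ M : A, P M → ∀ (L : DerivedCategory A) (a' b' : ℤ) [L.IsGE a'] [L.IsLE b'],
      (∀ i : ℤ, P ((homologyFunctor A i).obj L)) → BijAll T ((singleFunctor A 0).obj M) L := by
    intro M hM L a' b' _ _ hL
    let 𝒬 : ObjectProperty (DerivedCategory A) := fun L => BijAll T ((singleFunctor A 0).obj M) L
    have : 𝒬.IsClosedUnderIsomorphisms := ⟨fun e h => BijAll.of_iso h (Iso.refl _) e⟩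
    exact prop_of_bounded 𝒬 (fun X n hX => BijAll.shift_right hX n)
      (fun S hS h₁ h₃ => BijAll.obj₂ S hS _ h₁ h₃) P
      (fun M' hM' => bijAll_of_forall (h M M' hM hM')) ((b' - a').toNat + 1) L a' b' (by lia) hL
  let 𝒬' : ObjectProperty (DerivedCategory A) := fun K => BijAll T K L
  have : 𝒬'.IsClosedUnderIsomorphisms := ⟨fun e h => BijAll.of_iso h e (Iso.refl _)⟩
  exact prop_of_bounded 𝒬' (fun X n hX => BijAll.shift_left hX n)
    (fun S hS h₁ h₃ => BijAll.obj₂' S hS _ h₁ h₃) P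
    (fun M hM => hA M hM L a' b' hL) ((b - a).toNat + 1) K a b (by lia) hK

end FF

section ES

variable {A : Type u} [Category.{v} A] [Abelian A] [HasDerivedCategory.{w} A]
  {B : Type u'} [Category.{v'} B] [Abelian B] [HasDerivedCategory.{w'} B]
  (Φ : A ⥤ B) [Φ.Additive] [PreservesFiniteLimits Φ] [PreservesFiniteColimits Φ]
  (RA : ObjectProperty A) [WSerre.IsWeakSerre RA] (RB : ObjectProperty B) [WSerre.IsWeakSerre RB]

omit [HasDerivedCategory.{w'} B] [WSerre.IsWeakSerre RB] in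
lemma cohIn_singleFunctor (M : A) (hM : RA M) (n : ℤ) :
    WSerre.cohIn RA ((singleFunctor A n).obj M) := by
  intro i
  by_cases hi : i = n
  · subst hi
    exact RA.prop_of_iso ((singleFunctorCompHomologyFunctorIso A i).app M).symm hM
  · rcases lt_or_gt_of_ne hi with h | h
    · exact RA.prop_of_isZero (isZero_of_isGE ((singleFunctor A n).obj M) n i h)
    · exact RA.prop_of_isZero (isZero_of_isLE ((singleFunctor A n).obj M) n i h)

omit [HasDerivedCategory.{w'} B] [WSerre.IsWeakSerre RB] in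
lemma cohInBdd_singleFunctor (M : A) (hM : RA M) (n : ℤ) :
    WSerre.cohInBdd RA ((singleFunctor A n).obj M) :=
  ⟨cohIn_singleFunctor RA M hM n, ⟨n, inferInstance⟩, ⟨n, inferInstance⟩⟩

theorem exists_preimage
    (hes : ∀ N : B, RB N → ∃ M : A, RA M ∧ Nonempty (Φ.obj M ≅ N))
    (hff : ∀ K L : DerivedCategory A, WSerre.cohInBdd RA K → WSerre.cohInBdd RA L →
      Surj Φ.mapDerivedCategory K L) (d : ℕ) :
    ∀ (M : DerivedCategory B) (a b : ℤ) [M.IsGE a] [M.IsLE b], b - a < d →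
      WSerre.cohIn RB M → ∃ K : DerivedCategory A, WSerre.cohInBdd RA K ∧
        Nonempty (Φ.mapDerivedCategory.obj K ≅ M) := by
  have hzero : ∀ M : DerivedCategory B, IsZero M → ∃ K : DerivedCategory A,
      WSerre.cohInBdd RA K ∧ Nonempty (Φ.mapDerivedCategory.obj K ≅ M) := fun M hM =>
    ⟨0, (WSerre.cohInBdd RA).prop_of_isZero (isZero_zero _),
      ⟨(Φ.mapDerivedCategory.map_isZero (isZero_zero _)).iso hM⟩⟩
  induction d with
  | zero =>
    intro M a b _ _ hab _
    exact hzero M (TStructure.t.isZero M b a (by lia))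
  | succ d ih =>
    intro M a b _ _ hab hM
    by_cases hba : b < a
    · exact hzero M (TStructure.t.isZero M b a hba)
    let t : TStructure (DerivedCategory B) := TStructure.t
    have hT := t.triangleLTGE_distinguished b M
    have h0 : ∀ Z : B, IsZero Z → RB Z := fun Z hZ => RB.prop_of_isZero hZ
    have hA1 : ((t.truncLT b).obj M).IsLE (b - 1) :=
      inferInstanceAs (t.IsLE ((t.truncLT b).obj M) (b - 1))
    have hA2 : ((t.truncLT b).obj M).IsGE a := inferInstanceAs (t.IsGE ((t.truncLT b).obj M) a)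
    have hB1 : ((t.truncGE b).obj M).IsGE b := inferInstanceAs (t.IsGE ((t.truncGE b).obj M) b)
    have hB2 : ((t.truncGE b).obj M).IsLE b := inferInstanceAs (t.IsLE ((t.truncGE b).obj M) b)
    obtain ⟨K₁, hK₁, ⟨e₁⟩⟩ := ih _ a (b - 1) (by lia)
      (Helper5.DCat.prop_homology_truncLT RB M b hM h0)
    -- the top cohomology
    obtain ⟨N, ⟨eN⟩⟩ := exists_iso_singleFunctor_obj_of_isGE_of_isLE ((t.truncGE b).obj M) b
    have hN : RB N := by
      have : IsIso ((homologyFunctor B b).map ((t.truncGEπ b).app M)) :=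
        Helper5.TwoTerm.isIso_homologyMap_mor₂ _ hT b (b + 1) rfl
          (isZero_of_isLE ((t.truncLT b).obj M) (b - 1) b (by lia))
          (isZero_of_isLE ((t.truncLT b).obj M) (b - 1) (b + 1) (by lia))
      exact RB.prop_of_iso (asIso ((homologyFunctor B b).map ((t.truncGEπ b).app M)) ≪≫
        (homologyFunctor B b).mapIso eN ≪≫ (singleFunctorCompHomologyFunctorIso B b).app N) (hM b)
    obtain ⟨M', hM', ⟨eM'⟩⟩ := hes N hN
    let K₃ : DerivedCategory A := (singleFunctor A b).obj M'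
    have hK₃ : WSerre.cohInBdd RA K₃ := cohInBdd_singleFunctor RA M' hM' b
    let e₃ : Φ.mapDerivedCategory.obj K₃ ≅ (t.truncGE b).obj M :=
      (Φ.mapDerivedCategorySingleFunctor b).app M' ≪≫ (singleFunctor B b).mapIso eM' ≪≫ eN.symm
    have hK₁' : WSerre.cohInBdd RA (K₁⟦(1 : ℤ)⟧) := (WSerre.cohInBdd RA).le_shift 1 _ hK₁
    let δ : (t.truncGE b).obj M ⟶ ((t.truncLT b).obj M)⟦(1 : ℤ)⟧ := ((t.triangleLTGE b).obj M).mor₃
    obtain ⟨dd, hdd⟩ := hff K₃ (K₁⟦(1 : ℤ)⟧) hK₃ hK₁'
      (e₃.hom ≫ δ ≫ (e₁.inv)⟦(1 : ℤ)⟧' ≫ (Φ.mapDerivedCategory.commShiftIso (1 : ℤ)).inv.app K₁)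
    obtain ⟨K, f, g, hK⟩ := distinguished_cocone_triangle₂ dd
    have hKb : WSerre.cohInBdd RA K :=
      (WSerre.cohInBdd RA).ext_of_isTriangulatedClosed₂ _ hK hK₁ hK₃
    refine ⟨K, hKb, ⟨?_⟩⟩
    have E := isoTriangleOfIso₁₃ (Φ.mapDerivedCategory.mapTriangle.obj (Triangle.mk f g dd))
      ((t.triangleLTGE b).obj M) (Φ.mapDerivedCategory.map_distinguished _ hK) hT e₁ e₃ (by
        change (Φ.mapDerivedCategory.map dd ≫
          (Φ.mapDerivedCategory.commShiftIso (1 : ℤ)).hom.app K₁) ≫ (e₁.hom)⟦(1 : ℤ)⟧' = e₃.hom ≫ δ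
        rw [hdd]
        simp only [assoc, Iso.inv_hom_id_app_assoc, ← Functor.map_comp, Iso.inv_hom_id]
        erw [CategoryTheory.Functor.map_id, comp_id])
    exact Triangle.π₂.mapIso E

end ES

end Groth.Agent.Helper3.BddEquiv
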