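import Mathlib
import Groth.Agent.Lib.Helper9.FlatKernel

set_option autoImplicit false
universe u
open CategoryTheory Limits MonoidalCategory TensorProduct

namespace Groth.Agent.Helper3.BddFlatQis

section Cone
variable {C : Type*} [Category C] [Abelian C]

open CochainComplex HomotopyCategory in
/-- the cone of a quasi-isomorphism is acyclic -/
lemma exactAt_mappingCone_of_quasiIso {M N : CochainComplex C ℤ} (ψ : M ⟶ N) [QuasiIso ψ]
    (n : ℤ) : (mappingCone ψ).ExactAt n := by
  have h1 : HomotopyCategory.quasiIso C _ ((HomotopyCategory.quotient _ _).map ψ) := by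
    rw [quotient_map_mem_quasiIso_iff, HomologicalComplex.mem_quasiIso_iff]
    infer_instance
  rw [quasiIso_eq_trW_subcategoryAcyclic] at h1
  have h2 := ((subcategoryAcyclic C).trW_iff_of_distinguished _
    (mappingCone_triangleh_distinguished ψ)).1 h1
  exact (quotient_obj_mem_subcategoryAcyclic_iff_exactAt _).1 h2 n

open CochainComplex HomotopyCategory in
/-- a map with acyclic cone is a quasi-isomorphism -/
lemma quasiIso_of_exactAt_mappingCone {M N : CochainComplex C ℤ} (ψ : M ⟶ N)
    (h : ∀ n, (mappingCone ψ).ExactAt n) : QuasiIso ψ := by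
  rw [← HomologicalComplex.mem_quasiIso_iff, ← quotient_map_mem_quasiIso_iff,
    quasiIso_eq_trW_subcategoryAcyclic]
  refine ((subcategoryAcyclic C).trW_iff_of_distinguished _
    (mappingCone_triangleh_distinguished ψ)).2 ?_
  exact (quotient_obj_mem_subcategoryAcyclic_iff_exactAt _).2 h

end Cone

section Key
variable {A : Type u} [CommRing A] (K : CochainComplex (ModuleCat.{u} A) ℤ)

/-- cocycles -/
abbrev Zn (n : ℤ) : Submodule A (K.X n) := LinearMap.ker (K.d n (n + 1)).hom

/-- the differential, corestricted to cocycles -/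
noncomputable def dZ (n : ℤ) : K.X n →ₗ[A] Zn K (n + 1) :=
  (K.d n (n + 1)).hom.codRestrict (Zn K (n + 1)) (fun x => by
    have h := congrArg (fun φ => φ.hom x) (K.d_comp_d n (n + 1) (n + 1 + 1))
    exact h)

theorem subtype_comp_dZ (n : ℤ) : (Zn K (n + 1)).subtype ∘ₗ dZ K n = (K.d n (n + 1)).hom :=
  LinearMap.subtype_comp_codRestrict _ _ _

theorem exact_subtype_dZ (n : ℤ) : Function.Exact (Zn K n).subtype (dZ K n) := by
  intro x
  constructor
  · intro hx
    exact ⟨⟨x, congrArg Subtype.val hx⟩, rfl⟩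
  · rintro ⟨z, rfl⟩
    exact Subtype.ext z.2

variable (hK : ∀ n, K.ExactAt n)

include hK in
theorem dZ_surjective (n : ℤ) : Function.Surjective (dZ K n) := by
  intro z
  have h := hK (n + 1)
  rw [HomologicalComplex.exactAt_iff' K n (n + 1) (n + 1 + 1) (by simp) (by simp),
    ShortComplex.moduleCat_exact_iff] at h
  obtain ⟨y, hy⟩ := h z.1 z.2
  exact ⟨y, Subtype.ext hy⟩

variable (hflat : ∀ n, Module.Flat A (K.X n)) (b : ℤ) (hb : ∀ i, b < i → IsZero (K.X i))

include hK hflat hb in
theorem flat_Zn (n : ℤ) : Module.Flat A (Zn K n) := by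
  have key : ∀ (k : ℕ) (n : ℤ), n + k = b + 1 → Module.Flat A (Zn K n) := by
    intro k
    induction k with
    | zero =>
      intro n hn
      have hz : IsZero (K.X n) := hb n (by omega)
      haveI : Subsingleton (K.X n) := ModuleCat.subsingleton_of_isZero hz
      haveI : Subsingleton (Zn K n) := inferInstance
      infer_instance
    | succ k ih =>
      intro n hn
      haveI := ih (n + 1) (by push_cast at hn ⊢; omega)
      haveI := hflat n
      exact Groth.Agent.Helper9.flat_of_exact_of_flat (Zn K n).subtype (dZ K n)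
        Subtype.val_injective (exact_subtype_dZ K n) (dZ_surjective K hK n)
  by_cases h : n ≤ b + 1
  · exact key (b + 1 - n).toNat n (by omega)
  · have hz : IsZero (K.X n) := hb n (by omega)
    haveI : Subsingleton (K.X n) := ModuleCat.subsingleton_of_isZero hz
    haveI : Subsingleton (Zn K n) := inferInstance
    infer_instance

include hK hflat hb in
/-- a bounded above acyclic complex of flat modules stays acyclic after tensoring -/
theorem exact_rTensor (M : Type u) [AddCommGroup M] [Module A M] (a n : ℤ) (han : a + 1 = n)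
    (x : K.X n ⊗[A] M) (hx : (K.d n (n + 1)).hom.rTensor M x = 0) :
    ∃ y : K.X a ⊗[A] M, (K.d a n).hom.rTensor M y = x := by
  subst han
  haveI := flat_Zn K hK hflat b hb (a + 1 + 1 + 1)
  have hinj : Function.Injective ((Zn K (a + 1 + 1)).subtype.rTensor M) :=
    Groth.Agent.Helper9.rTensor_injective_of_exact_of_flat (Zn K (a + 1 + 1)).subtype
      (dZ K (a + 1 + 1)) Subtype.val_injective (exact_subtype_dZ K (a + 1 + 1))
      (dZ_surjective K hK (a + 1 + 1)) M
  have h1 : (dZ K (a + 1)).rTensor M x = 0 := by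
    apply hinj
    rw [map_zero, ← LinearMap.comp_apply, ← LinearMap.rTensor_comp, subtype_comp_dZ]
    exact hx
  obtain ⟨t, ht⟩ := (rTensor_exact M (exact_subtype_dZ K (a + 1))
    (dZ_surjective K hK (a + 1)) x).mp h1
  obtain ⟨y, hy⟩ := LinearMap.rTensor_surjective M (dZ_surjective K hK a) t
  refine ⟨y, ?_⟩
  rw [← ht, ← hy, ← LinearMap.comp_apply, ← LinearMap.rTensor_comp, subtype_comp_dZ]

end Key

section Main

theorem main_S14613 (A : Type u) [CommRing A]
    (C D : CochainComplex (ModuleCat.{u} A) ℤ)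
    (hC : ∀ i, Module.Flat A (C.X i)) (hD : ∀ i, Module.Flat A (D.X i))
    (bC : ∃ b : ℤ, ∀ i, b < i → IsZero (C.X i)) (bD : ∃ b : ℤ, ∀ i, b < i → IsZero (D.X i))
    (φ : C ⟶ D) [QuasiIso φ] (M : ModuleCat.{u} A) :
    QuasiIso (((MonoidalCategory.tensorRight M).mapHomologicalComplex
      (ComplexShape.up ℤ)).map φ) := by
  obtain ⟨b₁, hb₁⟩ := bC
  obtain ⟨b₂, hb₂⟩ := bD
  let K := CochainComplex.mappingCone φ
  have hKex : ∀ n, K.ExactAt n := exactAt_mappingCone_of_quasiIso φ
  have hKX : ∀ n, Nonempty (K.X n ≅ C.X (n + 1) ⊞ D.X n) := fun n =>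
    ⟨HomologicalComplex.homotopyCofiber.XIsoBiprod φ n (n + 1) rfl⟩
  have hKflat : ∀ n, Module.Flat A (K.X n) := by
    intro n
    obtain ⟨e⟩ := hKX n
    have e2 := e ≪≫ ModuleCat.biprodIsoProd (C.X (n + 1)) (D.X n)
    haveI := hC (n + 1)
    haveI := hD n
    haveI : Module.Flat A (C.X (n + 1) × D.X n) := Groth.Agent.Helper9.flat_prod
    exact Module.Flat.of_linearEquiv e2.toLinearEquiv
  have hKb : ∀ i, max b₁ b₂ < i → IsZero (K.X i) := by
    intro i hi
    obtain ⟨e⟩ := hKX i
    refine IsZero.of_iso ?_ e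
    have h1 : IsZero (C.X (i + 1)) := hb₁ _ (by omega)
    have h2 : IsZero (D.X i) := hb₂ _ (by omega)
    rw [IsZero.iff_id_eq_zero]
    apply biprod.hom_ext
    · simp [h1.eq_of_tgt (biprod.fst : C.X (i + 1) ⊞ D.X i ⟶ _) 0]
    · simp [h2.eq_of_tgt (biprod.snd : C.X (i + 1) ⊞ D.X i ⟶ _) 0]
  let F := (tensorRight M).mapHomologicalComplex (ComplexShape.up ℤ)
  have hFK : ∀ n, (F.obj K).ExactAt n := by
    intro n
    rw [HomologicalComplex.exactAt_iff' _ (n - 1) n (n + 1) (by simp) (by simp),
      ShortComplex.moduleCat_exact_iff]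
    intro x hx
    exact exact_rTensor K hKex hKflat _ hKb M (n - 1) n (by omega) x hx
  apply quasiIso_of_exactAt_mappingCone
  intro n
  exact (hFK n).of_iso (CochainComplex.mappingCone.mapHomologicalComplexIso φ (tensorRight M))

end Main

end Groth.Agent.Helper3.BddFlatQis
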