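import Mathlib
import Groth.Agent.Lib.Helper4.DimFT1

/-!
# Algebraic independence of a generic linear form (helper library for S7199)
-/

set_option autoImplicit false
universe u

namespace Groth.Agent.Lib.Helper3.BertiniIndep

open Polynomial

/-! ### Part I: the prime has height two -/

theorem not_height_le_one {k A : Type u} [Field k] [CommRing A] [IsDomain A] [Algebra k A]
    [Algebra.FiniteType k A] (p : Ideal A) [p.IsPrime]
    (hdim : ringKrullDim (A ⧸ p) + 2 = ringKrullDim A) : ¬ p.height ≤ 1 := by
  intro hle
  obtain ⟨n, -, hn⟩ := Groth.Agent.Lib.Helper4.DimFT1.exists_dim_eq_trdeg k A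
  have h1 := Groth.Agent.Lib.Helper4.DimFT1.height_add_dim_quotient k A p
  rw [hn] at hdim h1
  have hd : ringKrullDim (A ⧸ p) ≠ ⊥ := by
    intro h0
    rw [h0, WithBot.bot_add] at hdim
    simp at hdim
  obtain ⟨e, he⟩ := WithBot.ne_bot_iff_exists.mp hd
  rw [← he] at hdim h1
  have hdim' : e + 2 = (n : ℕ∞) :=
    WithBot.coe_injective (show ((e + 2 : ℕ∞) : WithBot ℕ∞) = ((n : ℕ∞) : WithBot ℕ∞) from hdim)
  have h1' : p.height + e = (n : ℕ∞) :=
    WithBot.coe_injective
      (show ((p.height + e : ℕ∞) : WithBot ℕ∞) = ((n : ℕ∞) : WithBot ℕ∞) from h1)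
  have he_top : e ≠ ⊤ := by
    rintro rfl
    simp at hdim'
  have hh_top : p.height ≠ ⊤ := by
    intro h
    rw [h] at hle
    simp at hle
  obtain ⟨e', rfl⟩ := ENat.ne_top_iff_exists.mp he_top
  obtain ⟨h', hh'⟩ := ENat.ne_top_iff_exists.mp hh_top
  rw [← hh'] at h1' hle
  have c1 : e' + 2 = n := by exact_mod_cast hdim'
  have c2 : h' + e' = n := by exact_mod_cast h1'
  have c3 : h' ≤ 1 := by exact_mod_cast hle
  omega

/-! ### Part II: transcendence of the two functions -/

theorem mem_minimalPrimes_span_singleton_of_aeval_mem {k A : Type*} [Field k] [CommRing A]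
    [Algebra k A] (g0 g1 : A) (p : Ideal A) (hp : p ∈ (Ideal.span {g0, g1}).minimalPrimes)
    (r : k[X]) (hr0 : r ≠ 0) (hr : aeval g1 r ∈ Ideal.span {g0}) :
    p ∈ (Ideal.span {g0}).minimalPrimes := by
  have hpp : p.IsPrime := hp.1.1
  have hle : Ideal.span {g0, g1} ≤ p := hp.1.2
  have hg0 : g0 ∈ p := hle (Ideal.subset_span (by simp))
  have hg1 : g1 ∈ p := hle (Ideal.subset_span (by simp))
  obtain ⟨q, hq, hqd⟩ := Polynomial.exists_eq_pow_rootMultiplicity_mul_and_not_dvd r hr0 0
  simp only [map_zero, sub_zero] at hq hqd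
  have hq0 : q.coeff 0 ≠ 0 := fun h => hqd (Polynomial.X_dvd_iff.mpr h)
  have hs : aeval g1 q ∉ p := by
    intro hmem
    have hdecomp : aeval g1 q.divX * g1 + algebraMap k A (q.coeff 0) = aeval g1 q := by
      have := congrArg (aeval g1) (Polynomial.divX_mul_X_add q)
      simpa using this
    rw [← hdecomp] at hmem
    have h2 : algebraMap k A (q.coeff 0) ∈ p := by
      have := p.sub_mem hmem (p.mul_mem_left (aeval g1 q.divX) hg1)
      simpa using this
    have hu : IsUnit (algebraMap k A (q.coeff 0)) := (IsUnit.mk0 _ hq0).map (algebraMap k A)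
    exact hpp.ne_top (Ideal.eq_top_of_isUnit_mem _ h2 hu)
  have hprod : g1 ^ (r.rootMultiplicity 0) * aeval g1 q ∈ Ideal.span {g0} := by
    have : aeval g1 r = g1 ^ (r.rootMultiplicity 0) * aeval g1 q := by
      conv_lhs => rw [hq]
      simp
    rwa [this] at hr
  refine ⟨⟨hpp, Ideal.span_le.mpr (Set.singleton_subset_iff.mpr hg0)⟩, ?_⟩
  rintro q' ⟨hq'p, hq'le⟩ hq'lep
  have hg0' : g0 ∈ q' := hq'le (Ideal.mem_span_singleton_self g0)
  have hg1' : g1 ∈ q' := by
    have h3 : g1 ^ (r.rootMultiplicity 0) * aeval g1 q ∈ q' := hq'le hprod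
    rcases hq'p.mem_or_mem h3 with h4 | h4
    · exact hq'p.mem_of_pow_mem _ h4
    · exact absurd (hq'lep h4) hs
  refine hp.2 (y := q') ⟨hq'p, ?_⟩ hq'lep
  rw [Ideal.span_le, Set.insert_subset_iff, Set.singleton_subset_iff]
  exact ⟨hg0', hg1'⟩

theorem transcendental_of_not_height_le_one {k A : Type*} [Field k] [CommRing A] [IsDomain A]
    [Algebra k A] [IsNoetherianRing A] (g0 g1 : A) (p : Ideal A)
    (hp : p ∈ (Ideal.span {g0, g1}).minimalPrimes) (hht : ¬ p.height ≤ 1) :
    Transcendental k g1 ∧ Transcendental (Algebra.adjoin k {g1}) g0 := by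
  have hno : p ∉ (Ideal.span {g0}).minimalPrimes := fun h =>
    hht (Ideal.height_le_one_of_isPrincipal_of_mem_minimalPrimes (Ideal.span {g0}) p h)
  constructor
  · intro halg
    obtain ⟨r, hr0, hr⟩ := halg
    exact hno (mem_minimalPrimes_span_singleton_of_aeval_mem g0 g1 p hp r hr0
      (by rw [hr]; exact zero_mem _))
  · intro halg
    obtain ⟨F, hF0, hF⟩ := halg
    have hcoe : ∀ d : Algebra.adjoin k {g1}, algebraMap (Algebra.adjoin k {g1}) A d = (d : A) :=
      fun d => rfl
    have hg0 : g0 ≠ 0 := by
      rintro rfl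
      apply hht
      have hp' : p ∈ (Ideal.span {g1}).minimalPrimes := by
        have : Ideal.span {(0 : A), g1} = Ideal.span {g1} := Ideal.span_insert_zero
        rwa [this] at hp
      exact Ideal.height_le_one_of_isPrincipal_of_mem_minimalPrimes (Ideal.span {g1}) p hp'
    obtain ⟨F', hF', hF'd⟩ := Polynomial.exists_eq_pow_rootMultiplicity_mul_and_not_dvd F hF0 0
    simp only [map_zero, sub_zero] at hF' hF'd
    have hd0 : F'.coeff 0 ≠ 0 := fun h => hF'd (Polynomial.X_dvd_iff.mpr h)
    have hF'ev : aeval g0 F' = 0 := by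
      have h1 : aeval g0 F = g0 ^ (F.rootMultiplicity 0) * aeval g0 F' := by
        conv_lhs => rw [hF']
        simp
      rw [hF] at h1
      rcases mul_eq_zero.mp h1.symm with h2 | h2
      · exact absurd h2 (pow_ne_zero _ hg0)
      · exact h2
    have hdmem : algebraMap (Algebra.adjoin k {g1}) A (F'.coeff 0) ∈ Ideal.span {g0} := by
      have h3 := congrArg (aeval g0) (Polynomial.divX_mul_X_add F')
      rw [hF'ev] at h3
      simp only [map_add, map_mul, aeval_X, aeval_C] at h3
      have h4 : algebraMap (Algebra.adjoin k {g1}) A (F'.coeff 0) = -(aeval g0 F'.divX) * g0 := by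
        linear_combination h3
      rw [Ideal.mem_span_singleton']
      exact ⟨-(aeval g0 F'.divX), h4.symm⟩
    obtain ⟨r, hr⟩ : ∃ r : k[X],
        aeval g1 r = algebraMap (Algebra.adjoin k {g1}) A (F'.coeff 0) := by
      have hmem : ((F'.coeff 0 : Algebra.adjoin k {g1}) : A) ∈
          (aeval g1 : k[X] →ₐ[k] A).range := by
        rw [← Algebra.adjoin_singleton_eq_range_aeval]
        exact (F'.coeff 0).2
      obtain ⟨r, hr⟩ := (AlgHom.mem_range _).mp hmem
      exact ⟨r, by rw [hr, hcoe]⟩
    have hr0 : r ≠ 0 := by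
      rintro rfl
      apply hd0
      have h5 : ((F'.coeff 0 : Algebra.adjoin k {g1}) : A) = 0 := by
        rw [← hcoe, ← hr]; simp
      exact Subtype.ext h5
    exact hno (mem_minimalPrimes_span_singleton_of_aeval_mem g0 g1 p hp r hr0
      (by rw [hr]; exact hdmem))

/-! ### Part III: a generic linear form is transcendental -/

theorem eval_aeval_poly {σ D : Type*} [CommRing D] (f : σ → Polynomial D)
    (G : MvPolynomial σ D) (t : D) :
    (MvPolynomial.aeval f G).eval t = MvPolynomial.eval (fun i => (f i).eval t) G := by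
  induction G using MvPolynomial.induction_on with
  | C a => simp
  | add p q hp hq => simp [hp, hq]
  | mul_X p i hp => simp [hp]

section LinearForm

attribute [local instance] MvPolynomial.algebraMvPolynomial

theorem transcendental_linearForm {D K : Type*} [CommRing D] [IsDomain D] [Infinite D] [Field K]
    [Algebra D K] [FaithfulSMul D K] {n : ℕ} (g : Fin n → K) (i₀ : Fin n)
    (hg : Transcendental D (g i₀)) :
    Transcendental (MvPolynomial (Fin n) D)
      (∑ i, MvPolynomial.C (g i) * MvPolynomial.X i : MvPolynomial (Fin n) K) := by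
  classical
  intro halg
  obtain ⟨P, hP0, hP⟩ := halg
  obtain ⟨j, hj⟩ : ∃ j, P.coeff j ≠ 0 := by
    by_contra h
    push Not at h
    exact hP0 (Polynomial.ext (fun j => by simpa using h j))
  have key : ∀ a : Fin n → D, MvPolynomial.eval a (P.coeff j) ≠ 0 →
      IsAlgebraic D (∑ i, g i * algebraMap D K (a i)) := by
    intro a ha
    refine ⟨P.map (MvPolynomial.eval a), ?_, ?_⟩
    · intro h0
      apply ha
      have := congrArg (fun q => Polynomial.coeff q j) h0
      simpa [Polynomial.coeff_map] using this
    · have h1 := congrArg (MvPolynomial.eval (fun i => algebraMap D K (a i))) hP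
      rw [map_zero, Polynomial.aeval_def, Polynomial.hom_eval₂] at h1
      rw [Polynomial.aeval_def, Polynomial.eval₂_map]
      have e1 : (MvPolynomial.eval (fun i => algebraMap D K (a i)))
          (∑ i, MvPolynomial.C (g i) * MvPolynomial.X i) = ∑ i, g i * algebraMap D K (a i) := by
        simp
      have e2 : ((MvPolynomial.eval (fun i => algebraMap D K (a i))) :
            MvPolynomial (Fin n) K →+* K).comp
            (algebraMap (MvPolynomial (Fin n) D) (MvPolynomial (Fin n) K)) =
          (algebraMap D K).comp (MvPolynomial.eval a) := by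
        apply MvPolynomial.ringHom_ext
        · intro r
          simp
        · intro i
          simp
      rw [e1, e2] at h1
      exact h1
  obtain ⟨b, hb⟩ : ∃ b : Fin n → D, MvPolynomial.eval b (P.coeff j) ≠ 0 := by
    by_contra h
    push Not at h
    exact hj (MvPolynomial.funext (fun b => by simpa using h b))
  obtain ⟨e, he⟩ : ∃ e : Fin n → D, e = Pi.single i₀ 1 := ⟨_, rfl⟩
  obtain ⟨h, hh⟩ : ∃ h : Polynomial D, ∀ t : D,
      h.eval t = MvPolynomial.eval (fun i => b i + t * e i) (P.coeff j) := by
    refine ⟨MvPolynomial.aeval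
      (fun i => Polynomial.C (b i) + Polynomial.X * Polynomial.C (e i)) (P.coeff j), fun t => ?_⟩
    rw [eval_aeval_poly]
    simp only [Polynomial.eval_add, Polynomial.eval_C, Polynomial.eval_mul, Polynomial.eval_X]
  have hh0 : h ≠ 0 := by
    intro h0
    apply hb
    have := hh 0
    rw [h0] at this
    simpa using this.symm
  obtain ⟨t, ht⟩ : ∃ t : D, (h * Polynomial.X).eval t ≠ 0 := by
    by_contra hcon
    push Not at hcon
    have : h * Polynomial.X = 0 := Polynomial.funext (fun r => by simpa using hcon r)
    exact hh0 (by simpa using this)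
  rw [Polynomial.eval_mul, Polynomial.eval_X] at ht
  have ht0 : t ≠ 0 := right_ne_zero_of_mul ht
  have ht1 : h.eval t ≠ 0 := left_ne_zero_of_mul ht
  have a1 := key b hb
  have a2 := key (fun i => b i + t * e i) (by rw [← hh t]; exact ht1)
  have hdiff : (∑ i, g i * algebraMap D K (b i + t * e i)) - ∑ i, g i * algebraMap D K (b i) =
      algebraMap D K t * g i₀ := by
    rw [← Finset.sum_sub_distrib, Finset.sum_eq_single i₀]
    · rw [he, Pi.single_eq_same, mul_one, map_add]; ring
    · intro i _ hi
      rw [he, Pi.single_eq_of_ne hi, mul_zero, add_zero, sub_self]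
    · intro h; exact absurd (Finset.mem_univ _) h
  have a3 : IsAlgebraic D (algebraMap D K t * g i₀) := by
    rw [← hdiff]; exact a2.sub a1
  have hamt : algebraMap D K t ≠ 0 := by
    intro h0
    exact ht0 ((FaithfulSMul.algebraMap_injective D K) (by rw [h0, map_zero]))
  have a4 : IsAlgebraic D (g i₀) := by
    have := (isAlgebraic_algebraMap (R := D) (A := K) t).inv.mul a3
    rwa [inv_mul_cancel_left₀ hamt] at this
  exact hg a4

theorem algebraicIndependent_linearForm {k D K : Type*} [Field k] [CommRing D] [IsDomain D]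
    [Field K] [Algebra k D] [Algebra D K] [Algebra k K] [IsScalarTower k D K] [FaithfulSMul D K]
    {n : ℕ} (g : Fin n → K) (η : D) (hη : Transcendental k η) (i₀ : Fin n)
    (hg : Transcendental D (g i₀)) :
    AlgebraicIndependent k
      (Sum.elim (MvPolynomial.X : Fin n → MvPolynomial (Fin n) K)
        ![∑ i, MvPolynomial.C (g i) * MvPolynomial.X i,
          MvPolynomial.C (algebraMap D K η)]) := by
  haveI : Infinite D := hη.infinite
  have hηK : Transcendental k (algebraMap D K η) :=
    (transcendental_algebraMap_iff (FaithfulSMul.algebraMap_injective D K)).mpr hη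
  have h0 : AlgebraicIndependent k (fun _ : Unit => algebraMap D K η) :=
    algebraicIndependent_unique_type_iff.mpr hηK
  have hX : AlgebraicIndependent K (MvPolynomial.X : Fin n → MvPolynomial (Fin n) K) :=
    MvPolynomial.algebraicIndependent_X (Fin n) K
  have h1 := h0.sumElim_comp hX
  have : IsScalarTower k (MvPolynomial (Fin n) D) (MvPolynomial (Fin n) K) :=
    IsScalarTower.of_algebraMap_eq' (RingHom.ext (fun r => by
      have e1 : algebraMap k (MvPolynomial (Fin n) K) r = MvPolynomial.C (algebraMap k K r) :=
        MvPolynomial.algebraMap_apply r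
      have e2 : algebraMap k (MvPolynomial (Fin n) D) r = MvPolynomial.C (algebraMap k D r) :=
        MvPolynomial.algebraMap_apply r
      rw [RingHom.comp_apply, e1, e2, MvPolynomial.algebraMap_def, MvPolynomial.map_C,
        IsScalarTower.algebraMap_apply k D K]))
  have hT := transcendental_linearForm g i₀ hg
  have hy : AlgebraicIndependent (MvPolynomial (Fin n) D)
      (fun _ : Unit => (∑ i, MvPolynomial.C (g i) * MvPolynomial.X i : MvPolynomial (Fin n) K)) :=
    algebraicIndependent_unique_type_iff.mpr hT
  have hxS : Set.range (Sum.elim (MvPolynomial.X : Fin n → MvPolynomial (Fin n) K)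
        (algebraMap K (MvPolynomial (Fin n) K) ∘ fun _ : Unit => algebraMap D K η)) ⊆
      Set.range (algebraMap (MvPolynomial (Fin n) D) (MvPolynomial (Fin n) K)) := by
    rintro _ ⟨(i | u), rfl⟩
    · exact ⟨MvPolynomial.X i, by simp⟩
    · exact ⟨MvPolynomial.C η, by simp⟩
  have h2 := h1.sumElim_of_tower hxS hy
  let f : Fin n ⊕ Fin 2 → Unit ⊕ (Fin n ⊕ Unit) :=
    Sum.elim (fun i => Sum.inr (Sum.inl i)) ![Sum.inl (), Sum.inr (Sum.inr ())]
  have hf : Function.Injective f := by
    rintro (a | a) (b | b) hab
    · simpa [f] using hab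
    · exfalso; fin_cases b <;> simp [f] at hab
    · exfalso; fin_cases a <;> simp [f] at hab
    · fin_cases a <;> fin_cases b <;> simp [f] at hab ⊢
  have h3 := h2.comp f hf
  convert h3 using 1
  funext j
  rcases j with i | j
  · rfl
  · fin_cases j
    · rfl
    · simp [f]

end LinearForm

/-! ### Assembly -/

theorem main {k A : Type*} [Field k] [CommRing A] [IsDomain A] [Algebra k A] {n : ℕ}
    (g : Fin n → A) (i₀ i₁ : Fin n) (h1 : Transcendental k (g i₁))
    (h0 : Transcendental (Algebra.adjoin k {g i₁}) (g i₀)) :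
    AlgebraicIndependent k
      (Sum.elim
        (fun i : Fin n => algebraMap (MvPolynomial (Fin n) (FractionRing A))
          (FractionRing (MvPolynomial (Fin n) (FractionRing A))) (MvPolynomial.X i))
        ![∑ i, algebraMap A (FractionRing (MvPolynomial (Fin n) (FractionRing A))) (g i) *
            algebraMap (MvPolynomial (Fin n) (FractionRing A))
              (FractionRing (MvPolynomial (Fin n) (FractionRing A))) (MvPolynomial.X i),
          algebraMap A (FractionRing (MvPolynomial (Fin n) (FractionRing A))) (g i₁)]) := by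
  have e : ∀ d : Algebra.adjoin k {g i₁},
      algebraMap (Algebra.adjoin k {g i₁}) (FractionRing A) d =
        algebraMap A (FractionRing A) (d : A) := fun d => rfl
  have : FaithfulSMul (Algebra.adjoin k {g i₁}) (FractionRing A) :=
    (faithfulSMul_iff_algebraMap_injective _ _).mpr (by
      intro x y hxy
      rw [e, e] at hxy
      exact Subtype.ext (IsFractionRing.injective A (FractionRing A) hxy))
  have : IsScalarTower (Algebra.adjoin k {g i₁}) A (FractionRing A) :=
    IsScalarTower.of_algebraMap_eq (fun x => rfl)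
  have : IsScalarTower k (Algebra.adjoin k {g i₁}) (FractionRing A) :=
    IsScalarTower.of_algebraMap_eq (fun x => by
      rw [e, IsScalarTower.algebraMap_apply k A (FractionRing A)]; rfl)
  have hη : Transcendental k
      (⟨g i₁, Algebra.subset_adjoin (Set.mem_singleton _)⟩ : Algebra.adjoin k {g i₁}) :=
    fun h => h1 (Subalgebra.isAlgebraic_iff_isAlgebraic_val.mp h)
  have hg : Transcendental (Algebra.adjoin k {g i₁}) (algebraMap A (FractionRing A) (g i₀)) :=
    (transcendental_algebraMap_iff (R := Algebra.adjoin k {g i₁}) (S := A)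
      (A := FractionRing A) (IsFractionRing.injective A (FractionRing A))).mpr h0
  have key := algebraicIndependent_linearForm (k := k) (D := Algebra.adjoin k {g i₁})
    (K := FractionRing A) (fun i => algebraMap A (FractionRing A) (g i))
    ⟨g i₁, Algebra.subset_adjoin (Set.mem_singleton _)⟩ hη i₀ hg
  have key2 := key.map'
    (f := IsScalarTower.toAlgHom k (MvPolynomial (Fin n) (FractionRing A))
      (FractionRing (MvPolynomial (Fin n) (FractionRing A))))
    (IsFractionRing.injective (MvPolynomial (Fin n) (FractionRing A))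
      (FractionRing (MvPolynomial (Fin n) (FractionRing A))))
  convert key2 using 1
  funext j
  rcases j with i | j
  · rfl
  · fin_cases j
    · show (∑ i, algebraMap A (FractionRing (MvPolynomial (Fin n) (FractionRing A))) (g i) *
            algebraMap (MvPolynomial (Fin n) (FractionRing A))
              (FractionRing (MvPolynomial (Fin n) (FractionRing A))) (MvPolynomial.X i)) =
        algebraMap (MvPolynomial (Fin n) (FractionRing A))
          (FractionRing (MvPolynomial (Fin n) (FractionRing A)))
          (∑ i, MvPolynomial.C (algebraMap A (FractionRing A) (g i)) * MvPolynomial.X i)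
      rw [map_sum (algebraMap (MvPolynomial (Fin n) (FractionRing A))
          (FractionRing (MvPolynomial (Fin n) (FractionRing A))))]
      refine Finset.sum_congr rfl (fun i _ => ?_)
      rw [map_mul, IsScalarTower.algebraMap_apply A (MvPolynomial (Fin n) (FractionRing A))
        (FractionRing (MvPolynomial (Fin n) (FractionRing A))), MvPolynomial.algebraMap_apply]
    · show algebraMap A (FractionRing (MvPolynomial (Fin n) (FractionRing A))) (g i₁) =
        algebraMap (MvPolynomial (Fin n) (FractionRing A))
          (FractionRing (MvPolynomial (Fin n) (FractionRing A)))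
          (MvPolynomial.C (algebraMap A (FractionRing A) (g i₁)))
      rw [IsScalarTower.algebraMap_apply A (MvPolynomial (Fin n) (FractionRing A))
        (FractionRing (MvPolynomial (Fin n) (FractionRing A))), MvPolynomial.algebraMap_apply]

end Groth.Agent.Lib.Helper3.BertiniIndep
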