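import Mathlib

/-!
# Effaceability of Ext classes and a bijectivity criterion for maps between Ext groups
-/

open CategoryTheory Limits Abelian DerivedCategory

universe w w' v v' u u'

namespace Groth.Agent.Helper3.ExtEff

variable {A : Type u} [Category.{v} A] [Abelian A]

lemma aux2 {D : Type*} [Category D] {a b c : D} (y : a ⟶ b) (e : c ≅ b) :
    y = (y ≫ e.inv) ≫ e.hom := by simp

lemma aux3 {D : Type*} [Category D] [Preadditive D] {a b c d e : D} (j : a ⟶ b) (s : b ⟶ c)
    [IsIso s] (g : b ⟶ d) (k : d ⟶ e) (h : j ≫ g = 0) : (j ≫ s) ≫ inv s ≫ g ≫ k = 0 := by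
  rw [Category.assoc, IsIso.hom_inv_id_assoc, reassoc_of% h, zero_comp]

omit [Abelian A] in
lemma conj_aux {U V W Z : A} (e₁ : U ≅ V) (e₂ : W ≅ Z) (φ : U ⟶ W) :
    e₁.hom ≫ (e₁.inv ≫ φ ≫ e₂.hom) ≫ e₂.inv = φ := by
  simp

/-- every `Ext` class of positive degree is killed by precomposition with some epimorphism -/
theorem exists_epi_comp_eq_zero [HasExt.{w} A] {L M : A} {n : ℕ} (hn : 1 ≤ n) (y : Ext.{w} L M n) :
    ∃ (L' : A) (p : L' ⟶ L), Epi p ∧ (Ext.mk₀ p).comp y (zero_add n) = 0 := by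
  let _ := HasDerivedCategory.standard A
  let X : CochainComplex A ℤ := (CochainComplex.singleFunctor A 0).obj L
  let Z : CochainComplex A ℤ := (CochainComplex.singleFunctor A 0).obj M
  let eZ : Q.obj (Z⟦(n : ℤ)⟧) ≅ (Q.obj Z)⟦(n : ℤ)⟧ := (Q.commShiftIso (n : ℤ)).app Z
  let f : Q.obj X ⟶ Q.obj (Z⟦(n : ℤ)⟧) := y.hom ≫ eZ.inv
  obtain ⟨X', hX', s, hs, g, hf⟩ := right_fac_of_isStrictlyLE f 0
  have hd : 𝟙 (X'.X 0) ≫ X'.d 0 1 = 0 :=
    (X'.isZero_of_isStrictlyLE 0 1 (by omega)).eq_of_tgt _ _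
  let j : (CochainComplex.singleFunctor A 0).obj (X'.X 0) ⟶ X' :=
    HomologicalComplex.mkHomFromSingle (𝟙 (X'.X 0)) (fun k hk => by
      obtain rfl : (0 : ℤ) + 1 = k := hk
      exact hd)
  have hjg : j ≫ g = 0 := by
    apply HomologicalComplex.from_single_hom_ext
    apply IsZero.eq_of_tgt
    change IsZero (((CochainComplex.singleFunctor A 0).obj M).X (0 + (n : ℤ)))
    exact HomologicalComplex.isZero_single_obj_X _ _ _ _ (by omega)
  let e₁ := HomologicalComplex.singleObjXSelf (ComplexShape.up ℤ) 0 (X'.X 0)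
  let e₂ := HomologicalComplex.singleObjXSelf (ComplexShape.up ℤ) 0 L
  let p : X'.X 0 ⟶ L := e₁.inv ≫ (j ≫ s).f 0 ≫ e₂.hom
  have hp : (CochainComplex.singleFunctor A 0).map p = j ≫ s := by
    apply HomologicalComplex.from_single_hom_ext
    change ((HomologicalComplex.single A (ComplexShape.up ℤ) 0).map p).f 0 = _
    rw [HomologicalComplex.single_map_f_self]
    exact conj_aux e₁ e₂ _
  refine ⟨X'.X 0, p, ?_, ?_⟩
  · apply Preadditive.epi_of_cancel_zero
    intro W h hph
    have h1 : s ≫ (CochainComplex.singleFunctor A 0).map h = 0 := by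
      apply HomologicalComplex.to_single_hom_ext
      have h2 : (j ≫ s ≫ (CochainComplex.singleFunctor A 0).map h).f 0 = 0 := by
        rw [← Category.assoc, ← hp, ← Functor.map_comp, hph, Functor.map_zero,
          HomologicalComplex.zero_f]
      have h3 : j.f 0 = e₁.hom ≫ 𝟙 _ := HomologicalComplex.mkHomFromSingle_f _ _
      rw [HomologicalComplex.comp_f, h3, Category.comp_id] at h2
      rw [HomologicalComplex.zero_f]
      exact (cancel_epi e₁.hom).1 (h2.trans comp_zero.symm)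
    have h4 : Q.map ((CochainComplex.singleFunctor A 0).map h) = 0 := by
      have := congrArg (fun φ => Q.map φ) h1
      simp only [Functor.map_comp, Functor.map_zero] at this
      exact (cancel_epi (Q.map s)).1 (this.trans comp_zero.symm)
    exact (DerivedCategory.singleFunctor A 0).map_injective
      (h4.trans ((DerivedCategory.singleFunctor A 0).map_zero _ _).symm)
  · apply Ext.ext
    rw [← Ext.singleFunctor_map_comp_hom, Ext.zero_hom]
    have hy : y.hom = inv (Q.map s) ≫ Q.map g ≫ eZ.hom := by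
      have : y.hom = f ≫ eZ.hom := aux2 (D := DerivedCategory A) _ eZ
      rw [this, hf, Category.assoc]
    have h5 : (DerivedCategory.singleFunctor A 0).map p = Q.map (j ≫ s) := by
      rw [← hp]
      rfl
    rw [h5, hy, Functor.map_comp]
    refine aux3 (D := DerivedCategory A) (Q.map j) (Q.map s) (Q.map g) eZ.hom ?_
    rw [← Functor.map_comp, hjg, Functor.map_zero]

section Criterion

variable {B : Type u'} [Category.{v'} B] [Abelian B] [HasExt.{w} A] [HasExt.{w'} B]
  (φ : A ⥤ B) [φ.Additive] [PreservesFiniteLimits φ] [PreservesFiniteColimits φ] (M : A)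

omit [HasExt.{w} A] [HasExt.{w'} B] in
/-- the kernel short exact sequence of an epimorphism -/
lemma kernel_shortExact {L' L : A} (p : L' ⟶ L) [Epi p] :
    (ShortComplex.mk (kernel.ι p) p (kernel.condition p)).ShortExact :=
  { exact := ShortComplex.exact_kernel p }

lemma map_extClass_comp {S : ShortComplex A} (hS : S.ShortExact) {n m : ℕ}
    (z : Ext.{w} S.X₁ M n) (h : 1 + n = m) :
    Ext.mapExactFunctor φ (hS.extClass.comp z h) =
      (hS.map_of_exact φ).extClass.comp
        (show Ext.{w'} (S.map φ).X₁ (φ.obj M) n from Ext.mapExactFunctor φ z) h := by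
  rw [Ext.mapExactFunctor_comp, Ext.mapExactFunctor_extClass]
  rfl

omit [HasExt.{w'} B] in
lemma homEquiv₀_mk₀ {X Y : A} (g : X ⟶ Y) : Ext.homEquiv₀ (Ext.mk₀.{w} g) = g := by
  rw [← Ext.homEquiv₀_symm_apply]
  exact Equiv.apply_symm_apply _ _

theorem bijective_of_effaceable
    (h0 : ∀ L : A, Function.Bijective (fun f : L ⟶ M => φ.map f))
    (heff : ∀ (L : A) (n : ℕ), 1 ≤ n → ∀ x : Ext.{w'} (φ.obj L) (φ.obj M) n,
      ∃ (L' : A) (p : L' ⟶ L), Epi p ∧ (Ext.mk₀ (φ.map p)).comp x (zero_add n) = 0)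
    (n : ℕ) : ∀ L : A, Function.Bijective (fun f : Ext.{w} L M n => Ext.mapExactFunctor φ f) := by
  induction n with
  | zero =>
    intro L
    have : (fun f : Ext.{w} L M 0 => Ext.mapExactFunctor φ f) =
        Ext.homEquiv₀.symm ∘ φ.map ∘ Ext.homEquiv₀ := Ext.mapExactFunctor₀ φ L M
    rw [this]
    exact (Ext.homEquiv₀.symm.bijective.comp (h0 L)).comp Ext.homEquiv₀.bijective
  | succ n ih =>
    intro L
    constructor
    · refine (injective_iff_map_eq_zero (φ.mapExtAddHom L M (n + 1))).2 (fun y hy => ?_)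
      have hy' : Ext.mapExactFunctor φ y = 0 := hy
      obtain ⟨L', p, hp, hpy⟩ := exists_epi_comp_eq_zero (by lia : 1 ≤ n + 1) y
      have hS := kernel_shortExact p
      obtain ⟨z, hz⟩ := Ext.contravariant_sequence_exact₃ hS M y hpy (add_comm 1 n)
      have h1 : (hS.map_of_exact φ).extClass.comp
          (show Ext.{w'} (ShortComplex.map _ φ).X₁ (φ.obj M) n from Ext.mapExactFunctor φ z)
            (add_comm 1 n) = 0 := by
        rw [← map_extClass_comp φ M hS z (add_comm 1 n), hz, hy']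
        rfl
      obtain ⟨w₀, hw₀⟩ := Ext.contravariant_sequence_exact₁ (hS.map_of_exact φ) (φ.obj M)
        (Ext.mapExactFunctor φ z) (add_comm 1 n) h1
      obtain ⟨w', hw'⟩ := (ih L').2 w₀
      have hw'' : Ext.mapExactFunctor φ w' = w₀ := hw'
      have h2 : (Ext.mk₀ (kernel.ι p)).comp w' (zero_add n) = z := by
        apply (ih (kernel p)).1
        change Ext.mapExactFunctor φ _ = Ext.mapExactFunctor φ z
        rw [Ext.mapExactFunctor_comp, Ext.mapExactFunctor_mk₀, hw'']
        exact hw₀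
      rw [← hz, ← h2]
      exact hS.extClass_comp_assoc w'
    · intro x
      obtain ⟨L', p, hp, hpx⟩ := heff L (n + 1) (by lia) x
      have hS := kernel_shortExact p
      obtain ⟨z, hz⟩ := Ext.contravariant_sequence_exact₃ (hS.map_of_exact φ) (φ.obj M) x hpx
        (add_comm 1 n)
      obtain ⟨z', hz'⟩ := (ih (kernel p)).2 z
      have hz'' : Ext.mapExactFunctor φ z' = z := hz'
      refine ⟨hS.extClass.comp z' (add_comm 1 n), ?_⟩
      change Ext.mapExactFunctor φ _ = x
      rw [map_extClass_comp φ M hS z' (add_comm 1 n)]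
      rw [← hz]
      congr 1

theorem effaceable_of_bijective
    (h : ∀ (L : A) (n : ℕ), Function.Bijective
      (fun f : Ext.{w} L M n => Ext.mapExactFunctor φ f)) :
    (∀ L : A, Function.Bijective (fun f : L ⟶ M => φ.map f)) ∧
      ∀ (L : A) (n : ℕ), 1 ≤ n → ∀ x : Ext.{w'} (φ.obj L) (φ.obj M) n,
        ∃ (L' : A) (p : L' ⟶ L), Epi p ∧ (Ext.mk₀ (φ.map p)).comp x (zero_add n) = 0 := by
  refine ⟨fun L => ?_, fun L n hn x => ?_⟩
  · have h1 := h L 0
    have : (fun f : Ext.{w} L M 0 => Ext.mapExactFunctor φ f) =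
        Ext.homEquiv₀.symm ∘ φ.map ∘ Ext.homEquiv₀ := Ext.mapExactFunctor₀ φ L M
    rw [this] at h1
    have h2 : (fun f : L ⟶ M => φ.map f) = Ext.homEquiv₀ ∘
        (Ext.homEquiv₀.symm ∘ φ.map ∘ Ext.homEquiv₀ (X := L) (Y := M) (C := A)) ∘
          Ext.homEquiv₀.symm := by
      ext f
      simp only [Function.comp_apply, Ext.homEquiv₀_symm_apply]
      rw [homEquiv₀_mk₀, homEquiv₀_mk₀]
    rw [h2]
    exact (Ext.homEquiv₀.bijective.comp h1).comp Ext.homEquiv₀.symm.bijective
  · obtain ⟨y, hy⟩ := (h L n).2 x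
    have hy' : Ext.mapExactFunctor φ y = x := hy
    obtain ⟨L', p, hp, hpy⟩ := exists_epi_comp_eq_zero hn y
    refine ⟨L', p, hp, ?_⟩
    rw [← hy', ← Ext.mapExactFunctor_mk₀, ← Ext.mapExactFunctor_comp, hpy,
      Ext.mapExactFunctor_zero]

theorem bijective_iff_effaceable :
    (∀ (L : A) (n : ℕ), Function.Bijective
      (fun f : Ext.{w} L M n => Ext.mapExactFunctor φ f)) ↔
    ((∀ L : A, Function.Bijective (fun f : L ⟶ M => φ.map f)) ∧
      ∀ (L : A) (n : ℕ), 1 ≤ n → ∀ x : Ext.{w'} (φ.obj L) (φ.obj M) n,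
        ∃ (L' : A) (p : L' ⟶ L), Epi p ∧ (Ext.mk₀ (φ.map p)).comp x (zero_add n) = 0) :=
  ⟨effaceable_of_bijective φ M, fun h L n => bijective_of_effaceable φ M h.1 h.2 n L⟩

end Criterion

end Groth.Agent.Helper3.ExtEff
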