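import Mathlib
import Groth.Agent.Lib.Helper3.ExtEff

/-!
# Realising `Ext¹` classes by extensions, lifting along equal classes, blended extensions
-/

open CategoryTheory Limits Abelian

universe w v u

namespace Groth.Agent.Helper3.Blend

variable {C : Type u} [Category.{v} C] [Abelian C]

section Pushout

variable {S : ShortComplex C} (hS : S.ShortExact) {P : C} (ψ : S.X₁ ⟶ P)

/-- the projection from the pushout to the cokernel -/
noncomputable def pushP : pushout S.f ψ ⟶ S.X₃ := pushout.desc S.g 0 (by simp)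

@[reassoc (attr := simp)]
lemma inl_pushP : pushout.inl S.f ψ ≫ pushP ψ = S.g := pushout.inl_desc _ _ _

@[reassoc (attr := simp)]
lemma inr_pushP : pushout.inr S.f ψ ≫ pushP ψ = 0 := pushout.inr_desc _ _ _

include hS in
lemma pushout_shortExact :
    (ShortComplex.mk (pushout.inr S.f ψ) (pushP ψ) (inr_pushP ψ)).ShortExact := by
  have := hS.mono_f
  have := hS.epi_g
  have hg : Epi (pushP (S := S) ψ) := epi_of_epi_fac (inl_pushP ψ)
  refine ShortComplex.ShortExact.mk' ?_ inferInstance hg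
  apply ShortComplex.exact_of_g_is_cokernel
  have hker : ∀ {Z : C} (t : pushout S.f ψ ⟶ Z), pushout.inr S.f ψ ≫ t = 0 →
      S.f ≫ pushout.inl S.f ψ ≫ t = 0 := by
    intro Z t ht
    rw [← Category.assoc, pushout.condition, Category.assoc, ht, comp_zero]
  refine CokernelCofork.IsColimit.ofπ _ _
    (fun {Z} t ht => hS.exact.desc (pushout.inl S.f ψ ≫ t) (hker t ht)) ?_ ?_
  · intro Z t ht
    have ht' : pushout.inr S.f ψ ≫ t = 0 := ht
    apply pushout.hom_ext
    · rw [← Category.assoc, inl_pushP, ShortComplex.Exact.g_desc]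
    · rw [← Category.assoc, inr_pushP, zero_comp, ht']
  · intro Z t ht m hm
    rw [← cancel_epi S.g, ShortComplex.Exact.g_desc, ← hm, ← Category.assoc, inl_pushP]

end Pushout

variable [HasExt.{w} C]

/-- every class in `Ext¹` is the class of an extension -/
theorem exists_extClass_eq {X Z : C} (ξ : Ext.{w} Z X 1) :
    ∃ (Y : C) (f : X ⟶ Y) (g : Y ⟶ Z) (w : f ≫ g = 0)
      (h : (ShortComplex.mk f g w).ShortExact), h.extClass = ξ := by
  obtain ⟨Z', π, hπ, hπξ⟩ := ExtEff.exists_epi_comp_eq_zero (le_refl 1) ξ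
  have hS := ExtEff.kernel_shortExact π
  obtain ⟨z, hz⟩ := Ext.contravariant_sequence_exact₃ hS X ξ hπξ (add_zero 1)
  obtain ⟨ψ, rfl⟩ := (Ext.mk₀_bijective _ _).2 z
  have hT := pushout_shortExact hS ψ
  refine ⟨_, _, _, _, hT, ?_⟩
  let m : ShortComplex.mk (kernel.ι π) π (kernel.condition π) ⟶
      ShortComplex.mk (pushout.inr (kernel.ι π) ψ) (pushP ψ) (inr_pushP ψ) :=
    { τ₁ := ψ, τ₂ := pushout.inl _ _, τ₃ := 𝟙 _,
      comm₁₂ := pushout.condition.symm
      comm₂₃ := (inl_pushP (S := ShortComplex.mk (kernel.ι π) π (kernel.condition π)) ψ).trans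
        (Category.comp_id _).symm }
  have hn := ShortComplex.ShortExact.extClass_naturality hS hT m
  change hS.extClass.comp (Ext.mk₀ ψ) (add_zero 1) =
    (Ext.mk₀ (𝟙 _)).comp hT.extClass (zero_add 1) at hn
  rw [Ext.mk₀_id_comp] at hn
  rw [← hn]
  exact hz

/-- lifting along an equality of extension classes -/
theorem exists_lift {P F R X E : C} (a : P ⟶ F) (b : F ⟶ R) (wF : a ≫ b = 0)
    (hF : (ShortComplex.mk a b wF).ShortExact) (u : P ⟶ X) (p : X ⟶ E) (wX : u ≫ p = 0)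
    (hX : (ShortComplex.mk u p wX).ShortExact) (c : R ⟶ E)
    (hc : (Ext.mk₀ c).comp hX.extClass (zero_add 1) = hF.extClass) :
    ∃ t : F ⟶ X, a ≫ t = u ∧ t ≫ p = b ≫ c := by
  have := hF.mono_f
  have := hF.epi_g
  -- step 1
  have h1 : hF.extClass.comp (Ext.mk₀ u) (add_zero 1) = 0 := by
    rw [← hc, Ext.comp_assoc_of_third_deg_zero]
    have : hX.extClass.comp (Ext.mk₀ u) (add_zero 1) = 0 := hX.extClass_comp
    rw [this, Ext.comp_zero]
  obtain ⟨x₂, hx₂⟩ := Ext.contravariant_sequence_exact₁ hF X (Ext.mk₀ u) (add_zero 1) h1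
  obtain ⟨t₀, rfl⟩ := (Ext.mk₀_bijective _ _).2 x₂
  change (Ext.mk₀ a).comp (Ext.mk₀ t₀) (zero_add 0) = Ext.mk₀ u at hx₂
  rw [Ext.mk₀_comp_mk₀] at hx₂
  have ht₀ : a ≫ t₀ = u := (Ext.mk₀_bijective _ _).1 hx₂
  -- step 2
  have h2 : a ≫ t₀ ≫ p = 0 := by rw [← Category.assoc, ht₀, wX]
  let v : R ⟶ E := hF.exact.desc (t₀ ≫ p) h2
  have hv : b ≫ v = t₀ ≫ p := hF.exact.g_desc _ _
  -- step 3
  let m : ShortComplex.mk a b wF ⟶ ShortComplex.mk u p wX :=
    { τ₁ := 𝟙 _, τ₂ := t₀, τ₃ := v,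
      comm₁₂ := by simp [ht₀]
      comm₂₃ := hv.symm }
  have hn := ShortComplex.ShortExact.extClass_naturality hF hX m
  change hF.extClass.comp (Ext.mk₀ (𝟙 _)) (add_zero 1) =
    (Ext.mk₀ v).comp hX.extClass (zero_add 1) at hn
  rw [Ext.comp_mk₀_id] at hn
  have h3 : (Ext.mk₀ (c - v)).comp hX.extClass (zero_add 1) = 0 := by
    have h4 : Ext.mk₀ c = Ext.mk₀ v + Ext.mk₀ (c - v) := by
      rw [← Ext.mk₀_add]
      congr 1
      abel
    have h5 := hc
    rw [h4, Ext.add_comp, ← hn] at h5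
    exact left_eq_add.mp h5.symm
  obtain ⟨y₂, hy₂⟩ := Ext.covariant_sequence_exact₃ R hX (Ext.mk₀ (c - v)) (zero_add 1) h3
  obtain ⟨ε, rfl⟩ := (Ext.mk₀_bijective _ _).2 y₂
  change (Ext.mk₀ ε).comp (Ext.mk₀ p) (add_zero 0) = Ext.mk₀ (c - v) at hy₂
  rw [Ext.mk₀_comp_mk₀] at hy₂
  have hε : ε ≫ p = c - v := (Ext.mk₀_bijective _ _).1 hy₂
  refine ⟨t₀ + b ≫ ε, ?_, ?_⟩
  · rw [Preadditive.comp_add, ht₀, ← Category.assoc, wF, zero_comp, add_zero]
  · rw [Preadditive.add_comp, Category.assoc, hε, Preadditive.comp_sub, ← hv]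
    abel

/-- blended extensions exist iff the Yoneda product of the two classes vanishes -/
theorem blended_iff {P F R E Q : C} (a : P ⟶ F) (b : F ⟶ R) (wF : a ≫ b = 0)
    (hF : (ShortComplex.mk a b wF).ShortExact) (c : R ⟶ E) (d : E ⟶ Q) (wE : c ≫ d = 0)
    (hE : (ShortComplex.mk c d wE).ShortExact) :
    (∃ (X : C) (i : F ⟶ X) (p : X ⟶ E), i ≫ p = b ≫ c ∧
        (∃ w : (a ≫ i) ≫ p = 0, (ShortComplex.mk (a ≫ i) p w).ShortExact) ∧
        (∃ w : i ≫ (p ≫ d) = 0, (ShortComplex.mk i (p ≫ d) w).ShortExact)) ↔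
      hE.extClass.comp hF.extClass (rfl : 1 + 1 = 2) = 0 := by
  have := hF.mono_f
  have := hF.epi_g
  have := hE.mono_f
  have := hE.epi_g
  constructor
  · rintro ⟨X, i, p, hip, ⟨w₁, h₁⟩, -⟩
    let m : ShortComplex.mk a b wF ⟶ ShortComplex.mk (a ≫ i) p w₁ :=
      { τ₁ := 𝟙 _, τ₂ := i, τ₃ := c,
        comm₁₂ := by simp
        comm₂₃ := hip }
    have hn := ShortComplex.ShortExact.extClass_naturality hF h₁ m
    change hF.extClass.comp (Ext.mk₀ (𝟙 _)) (add_zero 1) =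
      (Ext.mk₀ c).comp h₁.extClass (zero_add 1) at hn
    rw [Ext.comp_mk₀_id] at hn
    rw [hn]
    exact hE.extClass_comp_assoc h₁.extClass
  · intro h0
    obtain ⟨ξ, hξ⟩ := Ext.contravariant_sequence_exact₁ hE P hF.extClass rfl h0
    obtain ⟨X, u, p, wX, hX, rfl⟩ := exists_extClass_eq ξ
    obtain ⟨t, htu, htp⟩ := exists_lift a b wF hF u p wX hX c hξ
    subst htu
    have := hX.mono_f
    have := hX.epi_g
    have hmono : Mono (a ≫ t) := hX.mono_f
    have hepi : Epi p := hX.epi_g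
    refine ⟨X, t, p, htp, ⟨wX, hX⟩, ?_⟩
    have w₂ : t ≫ (p ≫ d) = 0 := by
      rw [← Category.assoc, htp, Category.assoc, wE, comp_zero]
    refine ⟨w₂, ?_⟩
    have hmt : Mono t := by
      refine ⟨fun {T} x y hxy => ?_⟩
      rw [← sub_eq_zero]
      have h1 : (x - y) ≫ t = 0 := by rw [Preadditive.sub_comp, hxy, sub_self]
      have h2 : (x - y) ≫ b = 0 := by
        rw [← cancel_mono c, Category.assoc, ← htp, ← Category.assoc, h1, zero_comp, zero_comp]
      have h3 : hF.exact.lift (x - y) h2 ≫ a = x - y := hF.exact.lift_f _ _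
      have h4 : hF.exact.lift (x - y) h2 = 0 := by
        rw [← cancel_mono (a ≫ t), ← Category.assoc, h3, h1, zero_comp]
      rw [← h3, h4, zero_comp]
    have hepd : Epi (p ≫ d) := epi_comp _ _
    refine ShortComplex.ShortExact.mk' ?_ hmt hepd
    rw [ShortComplex.exact_iff_exact_up_to_refinements]
    intro T x hx
    have hx' : (x ≫ p) ≫ d = 0 := by rw [Category.assoc]; exact hx
    obtain ⟨T₁, π₁, hπ₁, r, hr⟩ := hE.exact.exact_up_to_refinements (x ≫ p) hx'
    obtain ⟨T₂, π₂, hπ₂, f, hf⟩ := surjective_up_to_refinements_of_epi b r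
    have h5 : (π₂ ≫ π₁ ≫ x - f ≫ t) ≫ p = 0 := by
      rw [Preadditive.sub_comp, Category.assoc, Category.assoc, Category.assoc, htp,
        ← Category.assoc f, ← hf, hr, Category.assoc, sub_self]
    obtain ⟨T₃, π₃, hπ₃, y, hy⟩ := hX.exact.exact_up_to_refinements _ h5
    refine ⟨T₃, π₃ ≫ π₂ ≫ π₁, epi_comp _ _, π₃ ≫ f + y ≫ a, ?_⟩
    have hy' : π₃ ≫ (π₂ ≫ π₁ ≫ x - f ≫ t) = y ≫ a ≫ t := hy
    rw [Preadditive.comp_sub] at hy'
    change _ = (π₃ ≫ f + y ≫ a) ≫ t
    rw [Preadditive.add_comp, Category.assoc, Category.assoc, Category.assoc, Category.assoc,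
      ← hy']
    abel

end Groth.Agent.Helper3.Blend
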