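import Mathlib
import Groth.Agent.Lib.Helper3.KInjD
/-!
# Path objects for cochain complexes: the mapping cocone of the identity
-/
set_option autoImplicit false
universe v u
open CategoryTheory CategoryTheory.Limits

namespace Groth.Agent.Helper3.Bous1

open CochainComplex HomComplex

variable {A : Type u} [Category.{v} A] [Abelian A]

section Ext

variable {M K L : CochainComplex A ℤ} (φ : K ⟶ L)

lemma cocone_hom_ext {a a' : M ⟶ mappingCocone φ}
    (h1 : a ≫ mappingCocone.fst φ = a' ≫ mappingCocone.fst φ)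
    (h2 : (Cochain.ofHom a).comp (mappingCocone.snd φ) (zero_add _) =
      (Cochain.ofHom a').comp (mappingCocone.snd φ) (zero_add _)) : a = a' := by
  ext p
  have hid := mappingCocone.id_X φ p (p + -1) rfl
  have e1 := HomologicalComplex.congr_hom h1 p
  have e2 := Cochain.congr_v h2 p (p + -1) rfl
  simp only [HomologicalComplex.comp_f] at e1
  rw [Cochain.comp_v _ _ (zero_add (-1)) p p (p + -1) (add_zero p) rfl,
    Cochain.comp_v _ _ (zero_add (-1)) p p (p + -1) (add_zero p) rfl, Cochain.ofHom_v,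
    Cochain.ofHom_v] at e2
  calc a.f p = a.f p ≫ 𝟙 _ := (Category.comp_id _).symm
    _ = a'.f p ≫ 𝟙 _ := by
      rw [← hid, Preadditive.comp_add, Preadditive.comp_add, ← Category.assoc, ← Category.assoc,
        ← Category.assoc, ← Category.assoc, e1, e2]
    _ = a'.f p := Category.comp_id _

lemma δ_snd : δ (-1) 0 (mappingCocone.snd φ) =
    -(Cochain.ofHom (mappingCocone.fst φ)).comp (Cochain.ofHom φ) (zero_add 0) := by
  have h : δ (-1) 0 ((mappingCone.snd φ).leftShift (-1) (-1) (zero_add _)) =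
      -(Cochain.ofHom (-((mappingCone.fst φ).leftShift (-1) 0 (add_neg_cancel 1)).homOf)).comp
        (Cochain.ofHom φ) (zero_add 0) := by
    rw [Cochain.δ_leftShift _ (-1) (-1) 0 (zero_add _) 1 (by lia), mappingCone.δ_snd]
    simp [Cochain.leftShift_comp_zero_cochain]
  exact h

end Ext

section Path

variable {M G Y : CochainComplex A ℤ}

/-- the path fibration -/
noncomputable abbrev π (Y : CochainComplex A ℤ) : mappingCocone (𝟙 Y) ⟶ Y := mappingCocone.fst (𝟙 Y)

lemma δ_comp_snd (l : M ⟶ mappingCocone (𝟙 Y)) :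
    δ (-1) 0 ((Cochain.ofHom l).comp (mappingCocone.snd (𝟙 Y)) (zero_add _)) =
      -Cochain.ofHom (l ≫ π Y) := by
  rw [δ_ofHom_comp, δ_snd, Cochain.comp_neg, Cochain.ofHom_comp]
  congr 2
  rw [← Cochain.ofHom_comp, Category.comp_id]

/-- a map which factors through the path fibration is null-homotopic -/
noncomputable def homotopyOfFactor (l : M ⟶ mappingCocone (𝟙 Y)) : Homotopy (l ≫ π Y) 0 :=
  (Cochain.equivHomotopy _ _).symm
    ⟨-(Cochain.ofHom l).comp (mappingCocone.snd (𝟙 Y)) (zero_add _), by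
      rw [δ_neg, δ_comp_snd, neg_neg, Cochain.ofHom_zero, add_zero]⟩

/-- a null-homotopic map factors through the path fibration -/
lemma exists_lift_of_homotopy (ψ : M ⟶ Y) (h : Homotopy ψ 0) :
    ∃ a : M ⟶ mappingCocone (𝟙 Y), a ≫ π Y = ψ :=
  ⟨mappingCocone.lift (𝟙 Y) ψ (-Cochain.ofHomotopy h) (by
    rw [δ_neg, δ_ofHomotopy, Cochain.ofHom_zero, sub_zero, Category.comp_id, neg_add_cancel]),
    mappingCocone.lift_fst _ _ _ _⟩

/-- the path fibration has the right lifting property with respect to `G ⟶ cone (𝟙 G)`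
when `(-1)`-cocycles from `G` to `Y` are coboundaries -/
lemma hasLiftingProperty_inr_π
    (hG : ∀ z : Cochain G Y (-1), δ (-1) 0 z = 0 → ∃ B : Cochain G Y (-2), δ (-2) (-1) B = z) :
    HasLiftingProperty (mappingCone.inr (𝟙 G)) (π Y) := by
  refine ⟨fun {a b} sq => ?_⟩
  let βa : Cochain G Y (-1) := (Cochain.ofHom a).comp (mappingCocone.snd (𝟙 Y)) (zero_add _)
  let γ : Cochain G Y (-1) := (mappingCone.inl (𝟙 G)).comp (Cochain.ofHom b) (add_zero _)
  have hβa : δ (-1) 0 βa = -Cochain.ofHom (mappingCone.inr (𝟙 G) ≫ b) := by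
    rw [δ_comp_snd, sq.w]
  have hγ : δ (-1) 0 γ = Cochain.ofHom (mappingCone.inr (𝟙 G) ≫ b) := by
    rw [δ_comp_ofHom, mappingCone.δ_inl, ← Cochain.ofHom_comp, Category.id_comp]
  obtain ⟨B₁, hB₁⟩ := hG (γ + βa) (by rw [δ_add, hγ, hβa, add_neg_cancel])
  let B : Cochain (mappingCone (𝟙 G)) Y (-1) :=
    mappingCone.descCochain (𝟙 G) (-B₁) βa (by lia)
  have hB : δ (-1) 0 B + Cochain.ofHom (b ≫ 𝟙 Y) = 0 := by
    rw [mappingCone.δ_descCochain _ _ _ _ 0 (by lia), δ_neg, hB₁, hβa, Category.comp_id,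
      mappingCone.ext_cochain_from_iff (𝟙 G) (-1) 0 (neg_add_cancel 1)]
    constructor
    · simp [γ]
    · simp
  refine ⟨⟨{ l := mappingCocone.lift (𝟙 Y) b B hB, fac_left := ?_,
             fac_right := mappingCocone.lift_fst _ _ _ _ }⟩⟩
  apply cocone_hom_ext
  · rw [Category.assoc, mappingCocone.lift_fst, sq.w]
  · rw [Cochain.ofHom_comp, Cochain.comp_assoc_of_first_is_zero_cochain, mappingCocone.ofHom_lift,
      mappingCocone.liftCochain_comp_snd, mappingCone.inr_descCochain]

end Path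

section Disk

open Groth.Agent.Helper3.KInjB Groth.Agent.Helper3.KInjD

lemma disk_hom_ext {X : A} {n : ℤ} {Z : CochainComplex A ℤ} {f g : disk X n ⟶ Z}
    (h : diskGen X n ≫ f.f n = diskGen X n ≫ g.f n) : f = g := by
  haveI : IsIso (diskGen X n) := by
    dsimp only [diskGen]
    infer_instance
  have h0 : f.f n = g.f n := by rwa [cancel_epi] at h
  have h1 : f.f (n + 1) = g.f (n + 1) := by
    rw [← cancel_epi ((disk X n).d n (n + 1)), ← f.comm, ← g.comm, h0]
  exact HomologicalComplex.from_double_hom_ext h0 h1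

/-- the path fibration has the right lifting property with respect to the maps of disks induced by
monomorphisms, when `Y` has injective terms -/
lemma hasLiftingProperty_disk_π {Y : CochainComplex A ℤ} (hY : ∀ k, Injective (Y.X k))
    {S U : A} (g : S ⟶ U) [Mono g] (n : ℤ) :
    HasLiftingProperty (diskHom n g) (π Y) := by
  refine ⟨fun {a b} sq => ?_⟩
  haveI := hY (n + -1)
  obtain ⟨s, hs⟩ : ∃ s : S ⟶ (mappingCocone (𝟙 Y)).X n, s = diskGen S n ≫ a.f n := ⟨_, rfl⟩
  obtain ⟨t, ht⟩ : ∃ t : U ⟶ Y.X n, t = diskGen U n ≫ b.f n := ⟨_, rfl⟩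
  have hst : s ≫ (π Y).f n = g ≫ t := by
    have h := HomologicalComplex.congr_hom sq.w n
    simp only [HomologicalComplex.comp_f] at h
    rw [hs, ht, Category.assoc, h, diskGen_diskHom_assoc]
  obtain ⟨e, he⟩ : ∃ e : U ⟶ Y.X (n + -1),
      g ≫ e = s ≫ (mappingCocone.snd (𝟙 Y)).v n (n + -1) rfl :=
    ⟨Injective.factorThru (s ≫ (mappingCocone.snd (𝟙 Y)).v n (n + -1) rfl) g,
      Injective.comp_factorThru _ _⟩
  obtain ⟨z, hz⟩ : ∃ z : U ⟶ (mappingCocone (𝟙 Y)).X n,
      z = t ≫ (mappingCocone.inl (𝟙 Y)).v n n (add_zero n) +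
        e ≫ (mappingCocone.inr (𝟙 Y)).1.v (n + -1) n (by lia) := ⟨_, rfl⟩
  have hz1 : g ≫ z = s := by
    rw [hz, Preadditive.comp_add, ← Category.assoc, ← hst, ← Category.assoc g, he, Category.assoc,
      Category.assoc, ← Preadditive.comp_add]
    have hid := mappingCocone.id_X (𝟙 Y) n (n + -1) rfl
    exact (congrArg (fun w => s ≫ w) hid).trans (Category.comp_id _)
  have hz2 : z ≫ (π Y).f n = t := by
    rw [hz, Preadditive.add_comp, Category.assoc, Category.assoc, mappingCocone.inl_v_fst_f,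
      mappingCocone.inr_v_fst_f, comp_zero, add_zero, Category.comp_id]
  refine ⟨⟨{ l := diskMap U n z, fac_left := ?_, fac_right := ?_ }⟩⟩
  · apply disk_hom_ext
    rw [HomologicalComplex.comp_f, diskGen_diskHom_assoc, diskGen_diskMap, hz1, hs]
  · apply disk_hom_ext
    rw [HomologicalComplex.comp_f, diskGen_diskMap_assoc, hz2, ht]

end Disk

end Groth.Agent.Helper3.Bous1
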