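import Mathlib
import Groth.Agent.Lib.Helper3.Bous1
/-!
# The small object argument for a family of complexes and disks (no acyclicity hypothesis)
-/
set_option autoImplicit false
universe v u
open CategoryTheory CategoryTheory.Limits

namespace Groth.Agent.Helper3.Bous2

open CochainComplex HomComplex MorphismProperty
open Groth.Agent.Helper3.KInjB Groth.Agent.Helper3.KInjD Groth.Agent.Helper3.Bous1

variable {A : Type u} [Category.{v} A] [Abelian A] [IsGrothendieckAbelian.{v} A]
  (U : A) {ι : Type v} (K : ι → CochainComplex A ℤ)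

lemma J₀_le_mono : J₀ U K ≤ monomorphisms _ := by
  rintro _ _ _ ⟨t⟩
  rcases t with ⟨n, S⟩ | i
  · exact inferInstanceAs (Mono (diskHom n S.arrow))
  · change Mono (mappingCone.inr (𝟙 (K i)))
    refine HomologicalComplex.mono_of_mono_f _ (fun n => ?_)
    have : Mono (𝟙 ((K i).X n)) := inferInstance
    exact mono_of_mono_fac (mappingCone.inr_f_snd_v (𝟙 (K i)) n)

lemma hasSmallObjectArgument : HasSmallObjectArgument.{v} (J₀ U K) := by
  obtain ⟨κ, hκ', hκ⟩ := HasCardinalLT.exists_regular_cardinal_forall.{v}
    (fun t : (ℤ × Subobject U) ⊕ ι => Subobject (gsrc U K t))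
  have : Fact κ.IsRegular := ⟨hκ'⟩
  have : Nonempty κ.ord.ToType := by simpa using hκ'.ne_zero
  have := WellFoundedLT.toOrderBot κ.ord.ToType
  exact ⟨κ, inferInstance, inferInstance,
    { preservesColimit {X₀ Y₀ X Y} i hi f hf := by
        let hf' : (monomorphisms (CochainComplex A ℤ)).TransfiniteCompositionOfShape
            κ.ord.ToType f :=
          { toTransfiniteCompositionOfShape := hf.toTransfiniteCompositionOfShape
            map_mem j hj := by
              have := (hf.attachCells j hj).pushouts_coproducts
              simp only [ofHoms_homFamily] at this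
              refine (?_ : _ ≤ monomorphisms (CochainComplex A ℤ)) _ this
              simp only [pushouts_le_iff, coproducts_le_iff]
              exact J₀_le_mono U K }
        have (j j' : κ.ord.ToType) (φ : j ⟶ j') : Mono (hf'.F.map φ) := hf'.mem_map φ
        apply IsGrothendieckAbelian.preservesColimit_coyoneda_obj_of_mono (Y := hf'.F) (κ := κ)
        obtain ⟨t⟩ := hi
        exact hκ t }⟩

variable {U K}

/-- a complex with injective terms which kills the family is fibrant -/
lemma rlp_of_injective_of_kills {Y Z : CochainComplex A ℤ} (p : Y ⟶ Z) (hZ : IsZero Z)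
    (hinj : ∀ n, Injective (Y.X n)) (hkill : ∀ i (g : K i ⟶ Y), Nonempty (Homotopy g 0)) :
    (J₀ U K).rlp p := by
  rintro _ _ _ ⟨t⟩
  rcases t with ⟨n, S⟩ | i
  · change HasLiftingProperty (diskHom n S.arrow) p
    refine ⟨fun {a b} sq => ?_⟩
    haveI := hinj n
    refine ⟨⟨{ l := diskMap U n (Injective.factorThru (diskGen (S : A) n ≫ a.f n) S.arrow)
               fac_left := ?_
               fac_right := hZ.eq_of_tgt _ _ }⟩⟩
    apply disk_hom_ext
    rw [HomologicalComplex.comp_f, diskGen_diskHom_assoc, diskGen_diskMap,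
      Injective.comp_factorThru]
  · change HasLiftingProperty (mappingCone.inr (𝟙 (K i))) p
    refine ⟨fun {a b} sq => ?_⟩
    obtain ⟨h⟩ := hkill i a
    refine ⟨⟨{ l := mappingCone.desc (𝟙 (K i)) (Cochain.ofHomotopy h) a (by
                  rw [δ_ofHomotopy, Cochain.ofHom_zero, sub_zero, Category.id_comp])
               fac_left := mappingCone.inr_desc _ _ _ _
               fac_right := hZ.eq_of_tgt _ _ }⟩⟩

/-- the path fibration of a complex with injective terms for which `(-1)`-cocycles out of
the family are coboundaries is a fibration -/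
lemma rlp_π {Y : CochainComplex A ℤ} (hinj : ∀ n, Injective (Y.X n))
    (hcob : ∀ i, ∀ z : Cochain (K i) Y (-1), δ (-1) 0 z = 0 →
      ∃ B : Cochain (K i) Y (-2), δ (-2) (-1) B = z) :
    (J₀ U K).rlp (π Y) := by
  rintro _ _ _ ⟨t⟩
  rcases t with ⟨n, S⟩ | i
  · exact hasLiftingProperty_disk_π hinj S.arrow n
  · exact hasLiftingProperty_inr_π (hcob i)

end Groth.Agent.Helper3.Bous2
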