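import Mathlib
import Groth.Agent.Lib.Helper3.Bous2
/-!
# Bousfield localization of `D(A)` with respect to a set of objects

For a Grothendieck abelian category `A` and a family `G i` of objects of `D(A)` indexed by a
small type, the inclusion of the full subcategory of objects `X` with `Hom(G i, X⟦n⟧) = 0`
for all `i`, `n` has a left adjoint.
-/
set_option autoImplicit false
universe w v u
open CategoryTheory CategoryTheory.Limits

namespace Groth.Agent.Helper3.Bous3

open CochainComplex HomComplex MorphismProperty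
open Groth.Agent.Helper3.KInjB Groth.Agent.Helper3.KInjD Groth.Agent.Helper3.Bous1
  Groth.Agent.Helper3.Bous2

section General

variable {C : Type*} [Category C]

/-- a full subcategory is reflective as soon as every object has a reflection -/
lemma isRightAdjoint_ι_of_exists (P : ObjectProperty C)
    (h : ∀ X : C, ∃ (L : C) (_ : P L) (η : X ⟶ L),
      ∀ Y, P Y → Function.Bijective (fun g : L ⟶ Y => η ≫ g)) : P.ι.IsRightAdjoint := by
  haveI : ∀ X, HasInitial (StructuredArrow X P.ι) := by
    intro X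
    obtain ⟨L, hL, η, hη⟩ := h X
    let L' : P.FullSubcategory := ⟨L, hL⟩
    let T : StructuredArrow X P.ι := StructuredArrow.mk (Y := L') (show X ⟶ P.ι.obj L' from η)
    have hT : ∀ Z : StructuredArrow X P.ι, ∃ g : L ⟶ Z.right.obj, η ≫ g = Z.hom :=
      fun Z => (hη Z.right.obj Z.right.property).2 Z.hom
    refine (IsInitial.ofUniqueHom
      (fun Z => StructuredArrow.homMk (f := T) (f' := Z)
        (ObjectProperty.homMk (X := L') (Y := Z.right) (hT Z).choose) (hT Z).choose_spec)
      (fun Z m => ?_)).hasInitial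
    apply StructuredArrow.hom_ext
    apply ObjectProperty.hom_ext
    apply (hη Z.right.obj Z.right.property).1
    change η ≫ m.right.hom = η ≫ (hT Z).choose
    rw [(hT Z).choose_spec]
    exact StructuredArrow.w m
  exact isRightAdjointOfStructuredArrowInitials _

variable [HasShift C ℤ]

lemma subsingleton_shift_hom_iff (X Y : C) (m : ℤ) :
    Subsingleton (X⟦m⟧ ⟶ Y) ↔ Subsingleton (X ⟶ Y⟦-m⟧) :=
  ((shiftEquiv C m).toAdjunction.homEquiv X Y).subsingleton_congr

lemma subsingleton_shift_hom_iff' (X Y : C) (m : ℤ) :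
    Subsingleton (X⟦-m⟧ ⟶ Y) ↔ Subsingleton (X ⟶ Y⟦m⟧) :=
  ((shiftEquiv C m).symm.toAdjunction.homEquiv X Y).subsingleton_congr

end General

variable {A : Type u} [Category.{v} A] [Abelian A] [IsGrothendieckAbelian.{v} A]
  [HasDerivedCategory.{w} A]

open DerivedCategory ZeroObject

omit [IsGrothendieckAbelian.{v} A] in
/-- morphisms in `D(A)` into a K-injective complex are represented by morphisms of complexes -/
lemma exists_map_repr {K I : CochainComplex A ℤ} [I.IsKInjective]
    (κ : Q.obj K ⟶ Q.obj I) : ∃ ψ : K ⟶ I, Q.map ψ = κ := by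
  obtain ⟨g, hg⟩ := (CochainComplex.IsKInjective.Qh_map_bijective
    ((HomotopyCategory.quotient _ _).obj K) I).surjective κ
  obtain ⟨ψ, rfl⟩ := (HomotopyCategory.quotient _ _).map_surjective g
  exact ⟨ψ, hg⟩

omit [IsGrothendieckAbelian.{v} A] in
/-- morphisms of complexes into a K-injective complex that agree in `D(A)` are homotopic -/
lemma nonempty_homotopy {K I : CochainComplex A ℤ} [I.IsKInjective] (φ ψ : K ⟶ I)
    (h : Q.map φ = Q.map ψ) : Nonempty (Homotopy φ ψ) := by
  have h' : (HomotopyCategory.quotient _ _).map φ = (HomotopyCategory.quotient _ _).map ψ :=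
    (CochainComplex.IsKInjective.Qh_map_bijective
      ((HomotopyCategory.quotient _ _).obj K) I).injective h
  exact ⟨HomotopyCategory.homotopyOfEq _ _ h'⟩

/-- every object of `D(A)` is represented by a K-injective complex with injective terms -/
lemma exists_repr (X : DerivedCategory A) :
    ∃ (I : CochainComplex A ℤ) (_ : I.IsKInjective) (_ : ∀ n, Injective (I.X n)),
      Nonempty (Q.obj I ≅ X) := by
  obtain ⟨I, f, hI, hf, -, hinj⟩ := KInjD.exists_kInjective_resolution (Q.objPreimage X)
  haveI : QuasiIso f := hf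
  exact ⟨I, hI, hinj, ⟨(asIso (Q.map f)).symm ≪≫ Q.objObjPreimageIso X⟩⟩

omit [IsGrothendieckAbelian.{v} A] in
/-- cocycles of degree `-1` are coboundaries when the corresponding `Hom` in `D(A)` vanishes -/
lemma cob_of_subsingleton {G' Y : CochainComplex A ℤ} [Y.IsKInjective]
    (hs : Subsingleton (Q.obj G' ⟶ Q.obj (Y⟦(-1 : ℤ)⟧))) (z : Cochain G' Y (-1))
    (hz : δ (-1) 0 z = 0) : ∃ B : Cochain G' Y (-2), δ (-2) (-1) B = z := by
  let x : Cocycle G' Y (-1) := Cocycle.mk z 0 (by lia) hz
  have h0 : CohomologyClass.toHom (CohomologyClass.mk x) = 0 := by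
    apply (CochainComplex.IsKInjective.Qh_map_bijective _ (Y⟦(-1 : ℤ)⟧)).injective
    exact hs.elim _ _
  rw [CohomologyClass.toHom_mk_eq_zero_iff, mem_coboundaries_iff x (-2) (by lia)] at h0
  obtain ⟨B, hB⟩ := h0
  exact ⟨B, hB⟩

section Main

variable {ι : Type v} (G : ι → DerivedCategory A)

/-- the right orthogonal of the family `G` (and all its shifts) -/
def P : ObjectProperty (DerivedCategory A) := fun X => ∀ i (n : ℤ), Subsingleton (G i ⟶ X⟦n⟧)

/-- complexes representing the `G i` -/
noncomputable def Gc (i : ι) : CochainComplex A ℤ := Q.objPreimage (G i)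

/-- complexes representing the `G i` -/
noncomputable def GcIso (i : ι) (m : ℤ) : Q.obj ((Gc G i)⟦m⟧) ≅ (G i)⟦m⟧ :=
  (Q.commShiftIso m).app (Gc G i) ≪≫ (CategoryTheory.shiftFunctor _ m).mapIso (Q.objObjPreimageIso (G i))

omit [IsGrothendieckAbelian.{v} A] in
lemma P_iff (X : DerivedCategory A) :
    P G X ↔ ∀ i (m : ℤ), Subsingleton (Q.obj ((Gc G i)⟦m⟧) ⟶ X) := by
  constructor
  · intro h i m
    rw [(GcIso G i m).homFromEquiv.subsingleton_congr, subsingleton_shift_hom_iff]
    exact h i (-m)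
  · intro h i n
    rw [← subsingleton_shift_hom_iff', ← (GcIso G i (-n)).homFromEquiv.subsingleton_congr]
    exact h i (-n)

omit [IsGrothendieckAbelian.{v} A] in
lemma P_of_iso {X X' : DerivedCategory A} (e : X ≅ X') (h : P G X) : P G X' := fun i n =>
  (((CategoryTheory.shiftFunctor _ n).mapIso e).homToEquiv (Z := G i)).subsingleton_congr.1 (h i n)

omit [IsGrothendieckAbelian.{v} A] in
lemma P_shift {X : DerivedCategory A} (h : P G X) (k : ℤ) : P G (X⟦k⟧) := fun i n =>
  (((CategoryTheory.shiftFunctorAdd' (DerivedCategory A) k n (k + n) rfl).app X).homToEquiv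
    (Z := G i)).subsingleton_congr.1 (h i (k + n))

/-- the acyclic family detecting K-injectivity -/
noncomputable abbrev Kf : Shrink.{v} (Idx (separator A)) → CochainComplex A ℤ :=
  fun s => Kfam (separator A) ((equivShrink _).symm s)

/-- the family for the small object argument -/
noncomputable def K' : Shrink.{v} (Idx (separator A)) ⊕ (ι × ℤ) → CochainComplex A ℤ
  | .inl s => Kf s
  | .inr p => (Gc G p.1)⟦p.2⟧

lemma kills_of_P {Y : CochainComplex A ℤ} [Y.IsKInjective] (hY : P G (Q.obj Y))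
    (t : Shrink.{v} (Idx (separator A)) ⊕ (ι × ℤ)) (g : K' G t ⟶ Y) :
    Nonempty (Homotopy g 0) := by
  rcases t with s | ⟨i, n⟩
  · exact IsKInjective.nonempty_homotopy_zero g (acyclic_Kfam _ _)
  · have hs : Subsingleton (Q.obj (K' G (Sum.inr (i, n))) ⟶ Q.obj Y) := (P_iff G _).1 hY i n
    exact nonempty_homotopy g 0 (hs.elim _ _)

lemma cob_of_P {Y : CochainComplex A ℤ} [Y.IsKInjective] (hY : P G (Q.obj Y))
    (t : Shrink.{v} (Idx (separator A)) ⊕ (ι × ℤ)) (z : Cochain (K' G t) Y (-1))
    (hz : δ (-1) 0 z = 0) : ∃ B : Cochain (K' G t) Y (-2), δ (-2) (-1) B = z := by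
  rcases t with s | ⟨i, n⟩
  · exact IsKInjective.eq_δ_of_cocycle (Cocycle.mk z 0 (by lia) hz) (acyclic_Kfam _ _) (-2)
      (by lia)
  · exact cob_of_subsingleton
      ((P_iff G _).1 (P_of_iso G ((Q.commShiftIso (-1 : ℤ)).app Y).symm (P_shift G hY (-1))) i n)
      z hz

/-- **Bousfield localization**: every object of `D(A)` has a reflection in the right orthogonal
of the family `G` -/
theorem exists_localization (X : DerivedCategory A) :
    ∃ (L : DerivedCategory A) (_ : P G L) (η : X ⟶ L),
      ∀ Y, P G Y → Function.Bijective (fun g : L ⟶ Y => η ≫ g) := by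
  have hU := isSeparator_separator A
  haveI := Bous2.hasSmallObjectArgument (separator A) (K' G)
  let M := Q.objPreimage X
  let fac := MorphismProperty.factorizationData (J₀ (separator A) (K' G)).rlp.llp
    (J₀ (separator A) (K' G)).rlp (0 : M ⟶ 0)
  have hinj := injective_of_rlp hU fac.p (isZero_zero _) fac.hp
  have hkill := kills_of_rlp fac.p (isZero_zero _) fac.hp
  haveI hKI : fac.Z.IsKInjective :=
    Groth.Agent.Helper3.KInjC.isKInjective_of_kills hinj Kf (fun s => acyclic_Kfam _ _)
      (fun M' hM' hM'0 => by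
        obtain ⟨i, k, hk, hi0⟩ := exists_sub hU M' hM' hM'0
        exact ⟨equivShrink _ i, by
          dsimp only [Kf]
          rw [Equiv.symm_apply_apply]
          exact ⟨k, hk, hi0⟩⟩)
      (fun s g => hkill (Sum.inl s) g)
  have hPL : P G (Q.obj fac.Z) := (P_iff G _).2 (fun i m => ⟨fun f g => by
    obtain ⟨f', rfl⟩ := exists_map_repr f
    obtain ⟨g', rfl⟩ := exists_map_repr g
    obtain ⟨hf⟩ := hkill (Sum.inr (i, m)) f'
    obtain ⟨hg⟩ := hkill (Sum.inr (i, m)) g'
    exact DerivedCategory.Q_map_eq_of_homotopy A (hf.trans hg.symm)⟩)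
  refine ⟨Q.obj fac.Z, hPL, (Q.objObjPreimageIso X).inv ≫ Q.map fac.i, fun Y hY => ?_⟩
  obtain ⟨W, hW, hWinj, ⟨eW⟩⟩ := exists_repr Y
  haveI := hW
  have hPW : P G (Q.obj W) := P_of_iso G eW.symm hY
  have hfib : (J₀ (separator A) (K' G)).rlp (0 : W ⟶ 0) :=
    rlp_of_injective_of_kills _ (isZero_zero _) hWinj (kills_of_P G hPW)
  have hπ : (J₀ (separator A) (K' G)).rlp (π W) := rlp_π hWinj (cob_of_P G hPW)
  have key : Function.Bijective (fun g : Q.obj fac.Z ⟶ Q.obj W => Q.map fac.i ≫ g) := by
    constructor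
    · intro g₁ g₂ h
      obtain ⟨γ₁, rfl⟩ := exists_map_repr g₁
      obtain ⟨γ₂, rfl⟩ := exists_map_repr g₂
      dsimp only at h
      rw [← Q.map_comp, ← Q.map_comp] at h
      obtain ⟨H⟩ := nonempty_homotopy _ _ h
      have H' : Homotopy (fac.i ≫ (γ₁ - γ₂)) 0 :=
        (Homotopy.ofEq (Preadditive.comp_sub _ _ _)).trans (Homotopy.equivSubZero H)
      obtain ⟨a, ha⟩ := exists_lift_of_homotopy _ H'
      haveI : HasLiftingProperty fac.i (π W) := fac.hi _ hπ
      have sq : CommSq a fac.i (π W) (γ₁ - γ₂) := ⟨ha⟩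
      have H'' : Homotopy (γ₁ - γ₂) 0 :=
        (Homotopy.ofEq sq.fac_right.symm).trans (homotopyOfFactor sq.lift)
      have h3 := DerivedCategory.Q_map_eq_of_homotopy A H''
      rw [Functor.map_sub, Functor.map_zero, sub_eq_zero] at h3
      exact h3
    · intro ψ
      obtain ⟨ψ₀, rfl⟩ := exists_map_repr ψ
      haveI : HasLiftingProperty fac.i (0 : W ⟶ 0) := fac.hi _ hfib
      have sq : CommSq ψ₀ fac.i (0 : W ⟶ 0) (0 : fac.Z ⟶ 0) := ⟨(isZero_zero _).eq_of_tgt _ _⟩
      refine ⟨Q.map sq.lift, ?_⟩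
      dsimp only
      rw [← Q.map_comp, sq.fac_left]
  have hcomp : (fun g : Q.obj fac.Z ⟶ Y => ((Q.objObjPreimageIso X).inv ≫ Q.map fac.i) ≫ g) =
      (Iso.homCongr (Q.objObjPreimageIso X) eW) ∘ (fun g : Q.obj fac.Z ⟶ Q.obj W => Q.map fac.i ≫ g) ∘
        (eW.symm.homToEquiv (Z := Q.obj fac.Z)) := by
    funext g
    simp
  rw [hcomp]
  exact (Iso.homCongr _ _).bijective.comp (key.comp (Equiv.bijective _))

/-- **Bousfield localization**: the right orthogonal of a set of objects of `D(A)` is a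
reflective subcategory -/
theorem isRightAdjoint_ι : (P G).ι.IsRightAdjoint :=
  isRightAdjoint_ι_of_exists _ (exists_localization G)

end Main

end Groth.Agent.Helper3.Bous3
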