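import Mathlib
import Groth.Prelude.Def_DerComp
import Groth.Agent.Lib.Helper3.Bous3
import Groth.Agent.Lib.Helper3.ModGroth
/-!
# Derived completion exists on every ringed site (for every sheaf of ideals)
-/
set_option autoImplicit false
universe u
open CategoryTheory CategoryTheory.Limits Opposite

attribute [local instance] HasDerivedCategory.standard

namespace Groth.Agent.Helper3.Bous4

/-- derived completion with respect to any sheaf of ideals exists: the derived complete objects
are the right orthogonal of a set of objects -/
theorem hasDerCompletion {C : Type u} [SmallCategory C] {J : GrothendieckTopology C}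
    (O : Sheaf J CommRingCat.{u}) (I : DerComp.IdealSh O) : DerComp.HasDerCompletion O I := by
  let ι : Type u := Σ U : C, {f : O.obj.obj (op U) // f ∈ I.ideal U}
  let G : ι → DerivedCategory (ModSite.Mod O) := fun p =>
    SiteCmp.inD O ((ModSite.extZero O p.1).obj (DerComp.awayOver O p.1 p.2.1))
  have h : DerComp.IsDerComp O I = Bous3.P G := by
    funext K
    apply propext
    constructor
    · intro h p n
      exact h p.1 p.2.1 p.2.2 n
    · intro h U f hf n
      exact h ⟨U, ⟨f, hf⟩⟩ n
  change (ObjectProperty.ι (DerComp.IsDerComp O I)).IsRightAdjoint
  rw [h]
  exact Bous3.isRightAdjoint_ι G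

end Groth.Agent.Helper3.Bous4
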