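import Mathlib
import Groth.Agent.Lib.Helper3.KInjProd

/-!
# The derived category of a Grothendieck abelian category is locally small
-/

set_option autoImplicit false
universe w v u

open CategoryTheory Limits DerivedCategory

namespace Groth.Agent.Helper3.DSmall

variable (B : Type u) [Category.{v} B] [Abelian B] [IsGrothendieckAbelian.{v} B]

theorem locallySmall [HasDerivedCategory.{w} B] : LocallySmall.{v} (DerivedCategory B) := by
  constructor
  intro X Y
  obtain ⟨I, f, hI, hf, -, -⟩ := KInjD.exists_kInjective_resolution (Q.objPreimage Y)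
  have : IsIso (Q.map f) := (isIso_Q_map_iff_quasiIso B _).2 hf
  let θ : Q.obj I ≅ Y := (asIso (Q.map f)).symm ≪≫ Q.objObjPreimageIso Y
  let φ := Q.objObjPreimageIso X
  apply small_of_surjective (f := fun g : Q.objPreimage X ⟶ I => φ.inv ≫ Q.map g ≫ θ.hom)
  intro h
  obtain ⟨g, hg⟩ := KInjProd.exists_Q_map_eq _ I (φ.hom ≫ h ≫ θ.inv)
  exact ⟨g, by simp [hg]⟩

/-- a derived category with small hom types -/
@[instance_reducible]
noncomputable def hasDerivedCategory : HasDerivedCategory.{v} B :=
  letI := HasDerivedCategory.standard B
  haveI := locallySmall B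
  { D := ShrinkHoms (DerivedCategory B)
    L := DerivedCategory.Q ⋙ (ShrinkHoms.equivalence (DerivedCategory B)).functor
    hL := Functor.IsLocalization.of_equivalence_target DerivedCategory.Q _ _
      (ShrinkHoms.equivalence.{v} (DerivedCategory B)) (Iso.refl _) }

end Groth.Agent.Helper3.DSmall
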