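import Mathlib
import Groth.Agent.Lib.Helper3.KInjProd

/-!
# The right adjoint of an induced functor is a right derived functor

Formal lemma: given an adjunction `F ⊣ G`, localization functors `L₁`, `L₂`,
a functor `F'` induced by `F` on the localized categories and an adjunction `F' ⊣ R'`,
the functor `R'` is the right derived functor of `G ⋙ L₁`.
-/

set_option autoImplicit false

open CategoryTheory Functor

namespace Groth.Agent.Helper3.DerAdj

section Formal

variable {C₁ C₂ D₁ D₂ : Type*} [Category C₁] [Category C₂] [Category D₁] [Category D₂]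
  {F : C₁ ⥤ C₂} {G : C₂ ⥤ C₁} (adj : F ⊣ G)
  {L₁ : C₁ ⥤ D₁} {L₂ : C₂ ⥤ D₂}
  {F' : D₁ ⥤ D₂} {R' : D₂ ⥤ D₁} (adj' : F' ⊣ R') (e : L₁ ⋙ F' ≅ F ⋙ L₂)

/-- the canonical comparison -/
def unitR : G ⋙ L₁ ⟶ L₂ ⋙ R' where
  app X := adj'.unit.app (L₁.obj (G.obj X)) ≫
    R'.map (e.hom.app (G.obj X) ≫ L₂.map (adj.counit.app X))
  naturality X Y f := by
    have h1 := adj'.unit.naturality (L₁.map (G.map f))
    have h2 := e.hom.naturality (G.map f)
    have h3 := adj.counit.naturality f
    dsimp at h1 h2 h3 ⊢
    rw [← Category.assoc, h1, Category.assoc, Category.assoc, ← R'.map_comp, ← R'.map_comp,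
      ← Category.assoc, h2, Category.assoc, ← L₂.map_comp, h3, L₂.map_comp, Category.assoc]

lemma unit_comp_map_e (X : C₁) :
    adj'.unit.app (L₁.obj X) ≫ R'.map (e.hom.app X) =
      L₁.map (adj.unit.app X) ≫ (unitR adj adj' e).app (F.obj X) := by
  have h1 := adj'.unit.naturality (L₁.map (adj.unit.app X))
  have h2 := e.hom.naturality (adj.unit.app X)
  have h3 := adj.left_triangle_components X
  dsimp at h1 h2 h3
  dsimp [unitR]
  rw [← Category.assoc, h1, Category.assoc, ← R'.map_comp, ← Category.assoc, h2, Category.assoc,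
    ← L₂.map_comp, h3, L₂.map_id, Category.comp_id]

variable (W₁ : MorphismProperty C₁) [L₁.IsLocalization W₁]
  (H : D₂ ⥤ D₁) (β : G ⋙ L₁ ⟶ L₂ ⋙ H)

/-- auxiliary natural transformation -/
def δ₀ : L₁ ⟶ L₁ ⋙ F' ⋙ H where
  app X := L₁.map (adj.unit.app X) ≫ β.app (F.obj X) ≫ H.map (e.inv.app X)
  naturality X Y f := by
    have h1 := adj.unit.naturality f
    have h2 := β.naturality (F.map f)
    have h3 := e.inv.naturality f
    dsimp at h1 h2 h3 ⊢
    rw [← Category.assoc, ← L₁.map_comp, h1, L₁.map_comp, Category.assoc, Category.assoc,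
      Category.assoc, ← H.map_comp, ← h3, H.map_comp, ← Category.assoc (β.app _), ← h2,
      Category.assoc]

/-- auxiliary natural transformation -/
noncomputable def δ : 𝟭 D₁ ⟶ F' ⋙ H :=
  letI : Localization.Lifting L₁ W₁ (L₁ ⋙ F' ⋙ H) (F' ⋙ H) := ⟨Iso.refl _⟩
  Localization.liftNatTrans L₁ W₁ L₁ (L₁ ⋙ F' ⋙ H) (𝟭 D₁) (F' ⋙ H) (δ₀ adj e H β)

lemma δ_app (X : C₁) : (δ adj e W₁ H β).app (L₁.obj X) = (δ₀ adj e H β).app X := by
  let _ : Localization.Lifting L₁ W₁ (L₁ ⋙ F' ⋙ H) (F' ⋙ H) := ⟨Iso.refl _⟩
  dsimp only [δ]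
  rw [Localization.liftNatTrans_app]
  change 𝟙 _ ≫ _ ≫ 𝟙 _ = _
  rw [Category.id_comp, Category.comp_id]

/-- the morphism from `R'` to any other extension -/
noncomputable def desc : R' ⟶ H where
  app Y := (δ adj e W₁ H β).app (R'.obj Y) ≫ H.map (adj'.counit.app Y)
  naturality Y Y' g := by
    have h1 := (δ adj e W₁ H β).naturality (R'.map g)
    have h2 := adj'.counit.naturality g
    dsimp at h1 h2 ⊢
    rw [← Category.assoc, h1, Category.assoc, Category.assoc, ← H.map_comp, ← H.map_comp, h2]

lemma fac (X : C₂) :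
    (unitR adj adj' e).app X ≫ (desc adj adj' e W₁ H β).app (L₂.obj X) = β.app X := by
  have h0 := (desc adj adj' e W₁ H β).naturality (e.hom.app (G.obj X) ≫ L₂.map (adj.counit.app X))
  have h1 := (δ adj e W₁ H β).naturality (adj'.unit.app (L₁.obj (G.obj X)))
  have h2 := adj'.left_triangle_components (L₁.obj (G.obj X))
  have h3 := β.naturality (adj.counit.app X)
  have h4 := adj.right_triangle_components X
  dsimp at h0 h1 h2 h3 h4
  dsimp only [unitR]
  rw [Category.assoc, h0]
  dsimp only [desc]
  rw [← Category.assoc, ← Category.assoc, h1, Category.assoc, Category.assoc,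
    ← H.map_comp_assoc, h2, H.map_id, Category.id_comp, δ_app]
  dsimp only [δ₀]
  rw [Category.assoc, Category.assoc, ← H.map_comp, Iso.inv_hom_id_app_assoc]
  dsimp
  rw [← h3, ← Category.assoc, ← L₁.map_comp, h4, L₁.map_id, Category.id_comp]

lemma uniq (γ : R' ⟶ H) (hγ : ∀ X, (unitR adj adj' e).app X ≫ γ.app (L₂.obj X) = β.app X) :
    γ = desc adj adj' e W₁ H β := by
  have key : whiskerLeft (𝟭 D₁) adj'.unit ≫ whiskerLeft F' γ = δ adj e W₁ H β := by
    apply Localization.natTrans_ext L₁ W₁
    intro X
    rw [δ_app]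
    have h1 := γ.naturality (e.hom.app X)
    have h2 := unit_comp_map_e adj adj' e X
    dsimp at h1 ⊢
    dsimp only [δ₀]
    rw [← hγ (F.obj X)]
    have h3 : γ.app (F'.obj (L₁.obj X)) =
        R'.map (e.hom.app X) ≫ γ.app (L₂.obj (F.obj X)) ≫ H.map (e.inv.app X) := by
      rw [← Category.assoc, h1, Category.assoc, ← H.map_comp, Iso.hom_inv_id_app]
      dsimp
      rw [H.map_id, Category.comp_id]
    rw [h3, ← Category.assoc, h2, Category.assoc, Category.assoc]
  ext Y
  dsimp only [desc]
  rw [← key]
  have h1 := γ.naturality (adj'.counit.app Y)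
  have h2 := adj'.right_triangle_components Y
  dsimp at h1 h2 ⊢
  rw [Category.assoc, ← h1, ← Category.assoc, h2, Category.id_comp]

variable (W₂ : MorphismProperty C₂) [L₂.IsLocalization W₂]

include W₁ in
/-- the right adjoint of the induced functor is the right derived functor -/
theorem isRightDerivedFunctor : R'.IsRightDerivedFunctor (unitR adj adj' e) W₂ := by
  constructor
  constructor
  refine ⟨Limits.IsInitial.ofUniqueHom
    (fun Y => StructuredArrow.homMk (desc adj adj' e W₁ Y.right Y.hom) ?_) ?_⟩
  · ext X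
    exact fac adj adj' e W₁ Y.right Y.hom X
  · intro Y m
    ext : 1
    apply uniq
    intro X
    have := congr_app m.w X
    dsimp at this
    exact this

end Formal

section Complexes

variable {A B : Type*} [Category A] [Category B] [Preadditive A] [Preadditive B]
  {F : A ⥤ B} {G : B ⥤ A} (adj : F ⊣ G) [F.Additive] [G.Additive]
  {ι : Type*} (c : ComplexShape ι)

/-- the unit of the adjunction on complexes -/
def unitC : 𝟭 (HomologicalComplex A c) ⟶
    F.mapHomologicalComplex c ⋙ G.mapHomologicalComplex c where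
  app K :=
    { f := fun n => adj.unit.app (K.X n)
      comm' := fun i j _ => (adj.unit.naturality (K.d i j)).symm }
  naturality K L f := by
    ext n
    exact adj.unit.naturality (f.f n)

/-- the counit of the adjunction on complexes -/
def counitC : G.mapHomologicalComplex c ⋙ F.mapHomologicalComplex c ⟶
    𝟭 (HomologicalComplex B c) where
  app K :=
    { f := fun n => adj.counit.app (K.X n)
      comm' := fun i j _ => (adj.counit.naturality (K.d i j)).symm }
  naturality K L f := by
    ext n
    exact adj.counit.naturality (f.f n)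

/-- the adjunction on complexes -/
def adjC : F.mapHomologicalComplex c ⊣ G.mapHomologicalComplex c :=
  Adjunction.mkOfUnitCounit
    { unit := unitC adj c
      counit := counitC adj c
      left_triangle := by
        ext K n
        simp only [unitC, counitC, comp_obj, id_obj, NatTrans.comp_app, whiskerRight_app,
          associator_hom_app, whiskerLeft_app, Category.id_comp, HomologicalComplex.comp_f,
          mapHomologicalComplex_map_f, NatTrans.id_app', HomologicalComplex.id_f]
        exact adj.left_triangle_components (K.X n)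
      right_triangle := by
        ext K n
        simp only [unitC, counitC, comp_obj, id_obj, NatTrans.comp_app, whiskerRight_app,
          associator_inv_app, whiskerLeft_app, Category.id_comp, HomologicalComplex.comp_f,
          mapHomologicalComplex_map_f, NatTrans.id_app', HomologicalComplex.id_f]
        exact adj.right_triangle_components (K.X n) }

end Complexes

section Derived

open DerivedCategory Limits

universe w w' v v' u u'

variable {A : Type u} [Category.{v} A] [Abelian A] {B : Type u'} [Category.{v'} B] [Abelian B]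
  [HasDerivedCategory.{w} A] [HasDerivedCategory.{w'} B]
  {F : A ⥤ B} {G : B ⥤ A} (adj : F ⊣ G) [F.Additive] [G.Additive]
  [PreservesFiniteLimits F] [PreservesFiniteColimits F]

omit [HasDerivedCategory.{w} A] [HasDerivedCategory.{w'} B] in
lemma acyclic_map (M : CochainComplex A ℤ) (hM : M.Acyclic) :
    ((F.mapHomologicalComplex (ComplexShape.up ℤ)).obj M).Acyclic :=
  fun n => (hM n).map F

omit [HasDerivedCategory.{w} A] [HasDerivedCategory.{w'} B] in
include adj in
/-- the right adjoint of an exact functor preserves K-injective complexes -/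
lemma isKInjective_map (I : CochainComplex B ℤ) [I.IsKInjective] :
    CochainComplex.IsKInjective ((G.mapHomologicalComplex (ComplexShape.up ℤ)).obj I) where
  nonempty_homotopy_zero {M} f hM := by
    have h0 := CochainComplex.IsKInjective.homotopyZero
      (((adjC adj (ComplexShape.up ℤ)).homEquiv M I).symm f) (acyclic_map M hM)
    have h1 := (G.mapHomotopy h0).compLeft ((adjC adj (ComplexShape.up ℤ)).unit.app M)
    refine ⟨(Homotopy.ofEq ?_).trans (h1.trans (Homotopy.ofEq ?_))⟩
    · exact ((Equiv.apply_symm_apply _ f).symm.trans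
        ((adjC adj (ComplexShape.up ℤ)).homEquiv_unit M I _))
    · rw [Functor.map_zero, comp_zero]

/-- existence of the lift -/
lemma exists_lift (I : CochainComplex B ℤ) [I.IsKInjective] (K : CochainComplex A ℤ)
    (g : F.mapDerivedCategory.obj (Q.obj K) ⟶ Q.obj I) :
    ∃ h : Q.obj K ⟶ Q.obj ((G.mapHomologicalComplex (ComplexShape.up ℤ)).obj I),
      F.mapDerivedCategory.map h ≫ F.mapDerivedCategoryFactors.hom.app _ ≫
        Q.map ((adjC adj (ComplexShape.up ℤ)).counit.app I) = g := by
  obtain ⟨g₂, hg₂⟩ := KInjProd.exists_Q_map_eq ((F.mapHomologicalComplex _).obj K) I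
    (F.mapDerivedCategoryFactors.inv.app K ≫ g)
  refine ⟨Q.map ((adjC adj (ComplexShape.up ℤ)).homEquiv K I g₂), ?_⟩
  have h1 := F.mapDerivedCategoryFactors_hom_naturality
    ((adjC adj (ComplexShape.up ℤ)).homEquiv K I g₂)
  have h5 : (F.mapHomologicalComplex (ComplexShape.up ℤ)).map
      ((adjC adj (ComplexShape.up ℤ)).homEquiv K I g₂) ≫
        (adjC adj (ComplexShape.up ℤ)).counit.app I = g₂ :=
    ((adjC adj (ComplexShape.up ℤ)).homEquiv_counit K I _).symm.trans
      (Equiv.symm_apply_apply _ g₂)
  rw [← Category.assoc, h1, Category.assoc, ← Q.map_comp, h5, hg₂, Iso.hom_inv_id_app_assoc]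

/-- uniqueness of the lift -/
lemma lift_unique (I : CochainComplex B ℤ) [I.IsKInjective] (K : CochainComplex A ℤ)
    (h h' : Q.obj K ⟶ Q.obj ((G.mapHomologicalComplex (ComplexShape.up ℤ)).obj I))
    (hh : F.mapDerivedCategory.map h ≫ F.mapDerivedCategoryFactors.hom.app _ ≫
        Q.map ((adjC adj (ComplexShape.up ℤ)).counit.app I) =
      F.mapDerivedCategory.map h' ≫ F.mapDerivedCategoryFactors.hom.app _ ≫
        Q.map ((adjC adj (ComplexShape.up ℤ)).counit.app I)) : h = h' := by
  have := isKInjective_map adj I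
  obtain ⟨a, rfl⟩ := KInjProd.exists_Q_map_eq K _ h
  obtain ⟨a', rfl⟩ := KInjProd.exists_Q_map_eq K _ h'
  have h1 := F.mapDerivedCategoryFactors_hom_naturality a
  have h2 := F.mapDerivedCategoryFactors_hom_naturality a'
  rw [← Category.assoc, h1, ← Category.assoc, h2, Category.assoc, Category.assoc,
    ← Q.map_comp, ← Q.map_comp] at hh
  have h3 : Q.map (X := (F.mapHomologicalComplex (ComplexShape.up ℤ)).obj K) (Y := I)
      ((F.mapHomologicalComplex (ComplexShape.up ℤ)).map a ≫
        (adjC adj (ComplexShape.up ℤ)).counit.app I) =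
      Q.map (X := (F.mapHomologicalComplex (ComplexShape.up ℤ)).obj K) (Y := I)
      ((F.mapHomologicalComplex (ComplexShape.up ℤ)).map a' ≫
        (adjC adj (ComplexShape.up ℤ)).counit.app I) := (cancel_epi _).1 hh
  obtain ⟨ho⟩ := KInjProd.homotopy_of_Q_map_eq (X := I) _ _ h3
  have h4 := (G.mapHomotopy ho).compLeft ((adjC adj (ComplexShape.up ℤ)).unit.app K)
  have h5 : ∀ b : K ⟶ (G.mapHomologicalComplex (ComplexShape.up ℤ)).obj I,
      (adjC adj (ComplexShape.up ℤ)).unit.app K ≫ (G.mapHomologicalComplex (ComplexShape.up ℤ)).map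
        ((F.mapHomologicalComplex (ComplexShape.up ℤ)).map b ≫
          (adjC adj (ComplexShape.up ℤ)).counit.app I) = b := by
    intro b
    have h6 := (adjC adj (ComplexShape.up ℤ)).homEquiv_counit K I b
    have h7 := (adjC adj (ComplexShape.up ℤ)).homEquiv_unit K I
      (((adjC adj (ComplexShape.up ℤ)).homEquiv K I).symm b)
    rw [Equiv.apply_symm_apply] at h7
    rw [← h6]
    exact h7.symm
  rw [h5, h5] at h4
  exact Q_map_eq_of_homotopy A h4

/-- the comparison map `F'(Q(G I)) ⟶ Q I` -/
noncomputable def cmp (I : CochainComplex B ℤ) :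
    F.mapDerivedCategory.obj (Q.obj ((G.mapHomologicalComplex (ComplexShape.up ℤ)).obj I)) ⟶
      Q.obj I :=
  F.mapDerivedCategoryFactors.hom.app _ ≫ Q.map ((adjC adj (ComplexShape.up ℤ)).counit.app I)

lemma existsUnique_lift (I : CochainComplex B ℤ) [I.IsKInjective] {Y : DerivedCategory B}
    (θ : Q.obj I ≅ Y) (X : DerivedCategory A) (g : F.mapDerivedCategory.obj X ⟶ Y) :
    ∃! h : X ⟶ Q.obj ((G.mapHomologicalComplex (ComplexShape.up ℤ)).obj I),
      F.mapDerivedCategory.map h ≫ cmp adj I ≫ θ.hom = g := by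
  obtain ⟨h', hh'⟩ := exists_lift adj I (Q.objPreimage X)
    (F.mapDerivedCategory.map (Q.objObjPreimageIso X).hom ≫ g ≫ θ.inv)
  refine ⟨(Q.objObjPreimageIso X).inv ≫ h', ?_, ?_⟩
  · change F.mapDerivedCategory.map _ ≫ cmp adj I ≫ _ = _
    rw [Functor.map_comp, Category.assoc, ← Category.assoc (F.mapDerivedCategory.map h')]
    change _ ≫ (_ ≫ F.mapDerivedCategoryFactors.hom.app _ ≫
      Q.map ((adjC adj (ComplexShape.up ℤ)).counit.app I)) ≫ _ = _
    rw [hh', Category.assoc, Category.assoc, Iso.inv_hom_id, Category.comp_id,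
      ← Functor.map_comp_assoc, Iso.inv_hom_id, CategoryTheory.Functor.map_id,
      Category.id_comp]
  · intro h₂ hh₂
    change F.mapDerivedCategory.map _ ≫ cmp adj I ≫ _ = _ at hh₂
    rw [← cancel_epi (Q.objObjPreimageIso X).hom, Iso.hom_inv_id_assoc]
    apply lift_unique adj I
    rw [hh']
    change F.mapDerivedCategory.map _ ≫ cmp adj I = _
    rw [← hh₂, Functor.map_comp]
    simp only [Category.assoc, Iso.hom_inv_id, Category.comp_id]

/-- the terminal object of the costructured arrow category -/
noncomputable def isTerminalMk (I : CochainComplex B ℤ) [I.IsKInjective] {Y : DerivedCategory B}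
    (θ : Q.obj I ≅ Y) :
    IsTerminal (CostructuredArrow.mk (S := F.mapDerivedCategory) (cmp adj I ≫ θ.hom)) :=
  IsTerminal.ofUniqueHom
    (fun Z => CostructuredArrow.homMk (existsUnique_lift adj I θ Z.left Z.hom).choose
      (existsUnique_lift adj I θ Z.left Z.hom).choose_spec.1)
    (fun Z m => by
      ext : 1
      exact (existsUnique_lift adj I θ Z.left Z.hom).choose_spec.2 m.left (CostructuredArrow.w m))

variable (hres : ∀ M : CochainComplex B ℤ, ∃ (I : CochainComplex B ℤ) (f : M ⟶ I),
  I.IsKInjective ∧ QuasiIso f)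

include hres in
omit [HasDerivedCategory.{w} A] [F.Additive] [G.Additive] [PreservesFiniteLimits F]
  [PreservesFiniteColimits F] in
lemma exists_iso_of_hres (Y : DerivedCategory B) :
    ∃ (I : CochainComplex B ℤ), I.IsKInjective ∧ Nonempty (Q.obj I ≅ Y) := by
  obtain ⟨I, f, hI, hf⟩ := hres (Q.objPreimage Y)
  have : IsIso (Q.map f) := (isIso_Q_map_iff_quasiIso B _).2 hf
  exact ⟨I, hI, ⟨(asIso (Q.map f)).symm ≪≫ Q.objObjPreimageIso Y⟩⟩

include adj hres in
/-- the functor induced by an exact left adjoint on derived categories is a left adjoint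
as soon as the target has enough K-injectives -/
theorem isLeftAdjoint_mapDerivedCategory : F.mapDerivedCategory.IsLeftAdjoint := by
  have : ∀ Y : DerivedCategory B, HasTerminal (CostructuredArrow F.mapDerivedCategory Y) := by
    intro Y
    obtain ⟨I, hI, ⟨θ⟩⟩ := exists_iso_of_hres hres Y
    exact (isTerminalMk adj I θ).hasTerminal
  exact isLeftAdjoint_of_costructuredArrowTerminals _

include adj hres in
/-- if the counit of `F ⊣ G` is an isomorphism, then so is the counit of any adjunction
`F.mapDerivedCategory ⊣ R'` -/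
theorem isIso_counit_of_isIso_counit [IsIso adj.counit]
    {R' : DerivedCategory B ⥤ DerivedCategory A} (adj' : F.mapDerivedCategory ⊣ R') :
    IsIso adj'.counit := by
  rw [NatTrans.isIso_iff_isIso_app]
  intro Y
  obtain ⟨I, hI, ⟨θ⟩⟩ := exists_iso_of_hres hres Y
  let φ := IsTerminal.uniqueUpToIso (mkTerminalOfRightAdjoint _ adj' Y) (isTerminalMk adj I θ)
  have h1 : F.mapDerivedCategory.map φ.hom.left ≫ cmp adj I ≫ θ.hom = adj'.counit.app Y :=
    CostructuredArrow.w φ.hom
  have h2 : IsIso φ.hom.left :=
    inferInstanceAs (IsIso ((CostructuredArrow.proj _ _).map φ.hom))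
  have h3 : IsIso ((adjC adj (ComplexShape.up ℤ)).counit.app I) := by
    have : ∀ n, IsIso (((adjC adj (ComplexShape.up ℤ)).counit.app I).f n) := fun n =>
      inferInstanceAs (IsIso (adj.counit.app (I.X n)))
    exact HomologicalComplex.Hom.isIso_of_components _
  have h4 : IsIso (cmp adj I) := by
    dsimp only [cmp]
    infer_instance
  rw [← h1]
  infer_instance

include adj hres in
/-- any right derived functor of `G` is right adjoint to the functor induced by `F` -/
theorem nonempty_adjunction (RG : DerivedCategory B ⥤ DerivedCategory A)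
    (α : G.mapHomologicalComplex (ComplexShape.up ℤ) ⋙ Q ⟶ Q ⋙ RG)
    [RG.IsRightDerivedFunctor α (HomologicalComplex.quasiIso B (ComplexShape.up ℤ))] :
    Nonempty (F.mapDerivedCategory ⊣ RG) := by
  have := isLeftAdjoint_mapDerivedCategory adj hres
  let adj' := Adjunction.ofIsLeftAdjoint F.mapDerivedCategory
  have h := isRightDerivedFunctor (adjC adj (ComplexShape.up ℤ)) adj' F.mapDerivedCategoryFactors
    (HomologicalComplex.quasiIso A (ComplexShape.up ℤ))
    (HomologicalComplex.quasiIso B (ComplexShape.up ℤ))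
  exact ⟨adj'.ofNatIsoRight (Functor.rightDerivedUnique _ RG
    (unitR (adjC adj (ComplexShape.up ℤ)) adj' F.mapDerivedCategoryFactors) α
    (HomologicalComplex.quasiIso B (ComplexShape.up ℤ)))⟩

omit [HasDerivedCategory.{w} A] [HasDerivedCategory.{w'} B] [PreservesFiniteLimits F]
  [PreservesFiniteColimits F] in
/-- the adjunction on homotopy categories -/
noncomputable def adjK : F.mapHomotopyCategory (ComplexShape.up ℤ) ⊣
    G.mapHomotopyCategory (ComplexShape.up ℤ) :=
  letI : CatCommSq (F.mapHomologicalComplex (ComplexShape.up ℤ))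
      (HomotopyCategory.quotient A (ComplexShape.up ℤ))
      (HomotopyCategory.quotient B (ComplexShape.up ℤ))
      (F.mapHomotopyCategory (ComplexShape.up ℤ)) :=
    ⟨(F.mapHomotopyCategoryFactors (ComplexShape.up ℤ)).symm⟩
  letI : CatCommSq (G.mapHomologicalComplex (ComplexShape.up ℤ))
      (HomotopyCategory.quotient B (ComplexShape.up ℤ))
      (HomotopyCategory.quotient A (ComplexShape.up ℤ))
      (G.mapHomotopyCategory (ComplexShape.up ℤ)) :=
    ⟨(G.mapHomotopyCategoryFactors (ComplexShape.up ℤ)).symm⟩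
  (adjC adj (ComplexShape.up ℤ)).localization
    (HomotopyCategory.quotient A (ComplexShape.up ℤ))
    (HomologicalComplex.homotopyEquivalences A (ComplexShape.up ℤ))
    (HomotopyCategory.quotient B (ComplexShape.up ℤ))
    (HomologicalComplex.homotopyEquivalences B (ComplexShape.up ℤ))
    (F.mapHomotopyCategory (ComplexShape.up ℤ)) (G.mapHomotopyCategory (ComplexShape.up ℤ))

include adj hres in
/-- any right derived functor of `G` (on homotopy categories) is right adjoint to the functor
induced by `F` -/
theorem nonempty_adjunction_h (RG : DerivedCategory B ⥤ DerivedCategory A)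
    (α : G.mapHomotopyCategory (ComplexShape.up ℤ) ⋙ Qh ⟶ Qh ⋙ RG)
    [RG.IsRightDerivedFunctor α (HomotopyCategory.quasiIso B (ComplexShape.up ℤ))] :
    Nonempty (F.mapDerivedCategory ⊣ RG) := by
  have := isLeftAdjoint_mapDerivedCategory adj hres
  let adj' := Adjunction.ofIsLeftAdjoint F.mapDerivedCategory
  have h := isRightDerivedFunctor (adjK adj) adj' F.mapDerivedCategoryFactorsh
    (HomotopyCategory.quasiIso A (ComplexShape.up ℤ))
    (HomotopyCategory.quasiIso B (ComplexShape.up ℤ))
  exact ⟨adj'.ofNatIsoRight (Functor.rightDerivedUnique _ RG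
    (unitR (adjK adj) adj' F.mapDerivedCategoryFactorsh) α
    (HomotopyCategory.quasiIso B (ComplexShape.up ℤ)))⟩

end Derived

end Groth.Agent.Helper3.DerAdj
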