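import Mathlib

/-!
# Representability descends along a localization with fully faithful right adjoint
-/

set_option autoImplicit false
set_option linter.unusedSectionVars false
universe v u₁ u₂

open CategoryTheory Opposite

namespace Groth.Agent.Helper3.LocRep

variable {T : Type u₁} {S : Type u₂} [Category.{v} T] [Category.{v} S]
  {L : T ⥤ S} {R : S ⥤ T} (adj : L ⊣ R) [IsIso adj.counit]

include adj in
lemma isIso_map_unit (Y : T) : IsIso (L.map (adj.unit.app Y)) := by
  have h := adj.left_triangle_components Y
  have : IsIso (L.map (adj.unit.app Y) ≫ adj.counit.app (L.obj Y)) := by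
    rw [h]
    exact IsIso.id _
  exact IsIso.of_isIso_comp_right _ (adj.counit.app (L.obj Y))

variable (H : Sᵒᵖ ⥤ Type v) {Y : T} (rep : (L.op ⋙ H).RepresentableBy Y)

include rep in
/-- the representing object is local -/
lemma precomp_bijective {W W' : T} (g : W ⟶ W') [IsIso (L.map g)] :
    Function.Bijective (fun p : W' ⟶ Y => g ≫ p) := by
  have h1 : (fun p : W' ⟶ Y => g ≫ p) =
      rep.homEquiv.symm ∘ (H.map (L.map g).op) ∘ rep.homEquiv := by
    funext p
    apply rep.homEquiv.injective
    simp only [Function.comp_apply, Equiv.apply_symm_apply]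
    exact rep.homEquiv_comp g p
  rw [h1]
  have h2 : Function.Bijective (H.map (L.map g).op) := by
    rw [← isIso_iff_bijective]
    infer_instance
  exact rep.homEquiv.symm.bijective.comp (h2.comp rep.homEquiv.bijective)

include adj in
/-- objects in the image of the right adjoint are local -/
lemma precomp_injective {W W' : T} (g : W ⟶ W') [IsIso (L.map g)] (Z : S) :
    Function.Injective (fun p : W' ⟶ R.obj Z => g ≫ p) := by
  intro p p' h
  dsimp only at h
  apply (adj.homEquiv W' Z).symm.injective
  have h1 := adj.homEquiv_counit W' Z p
  have h2 := adj.homEquiv_counit W' Z p'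
  rw [h1, h2, ← cancel_epi (L.map g), ← Category.assoc, ← Category.assoc, ← L.map_comp,
    ← L.map_comp, h]

include rep in
/-- the unit at the representing object is an isomorphism -/
lemma exists_inv_unit : ∃ r : R.obj (L.obj Y) ⟶ Y,
    adj.unit.app Y ≫ r = 𝟙 Y ∧ r ≫ adj.unit.app Y = 𝟙 (R.obj (L.obj Y)) := by
  have := isIso_map_unit adj Y
  obtain ⟨r, hr⟩ := (precomp_bijective H rep (adj.unit.app Y)).2 (𝟙 Y)
  dsimp only at hr
  refine ⟨r, hr, ?_⟩
  apply precomp_injective adj (adj.unit.app Y) (L.obj Y)
  dsimp only
  rw [← Category.assoc, hr]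
  exact (Category.id_comp _).trans (Category.comp_id _).symm

include adj rep in
/-- representability descends along a localization with a fully faithful right adjoint -/
theorem representableBy : Nonempty (H.RepresentableBy (L.obj Y)) := by
  obtain ⟨r, hr1, hr2⟩ := exists_inv_unit adj H rep
  let t : H.obj (op (L.obj Y)) := rep.homEquiv (𝟙 Y)
  have hL : L.map r = adj.counit.app (L.obj Y) := by
    have h1 := adj.left_triangle_components Y
    have h2 : L.map (adj.unit.app Y) ≫ L.map r = 𝟙 (L.obj Y) := by
      rw [← L.map_comp, hr1]
      exact L.map_id Y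
    have := isIso_map_unit adj Y
    rw [← cancel_epi (L.map (adj.unit.app Y)), h2]
    exact h1.symm
  have hb : ∀ X : S, Function.Bijective (fun f : X ⟶ L.obj Y => H.map f.op t) := by
    intro X
    have h1 : (H.map (adj.counit.app X).op) ∘ (fun f : X ⟶ L.obj Y => H.map f.op t) =
        rep.homEquiv ∘ (fun q : R.obj X ⟶ R.obj (L.obj Y) => q ≫ r) ∘
          (fun f : X ⟶ L.obj Y => R.map f) := by
      funext f
      simp only [Function.comp_apply]
      have h2 := rep.homEquiv_comp (R.map f ≫ r) (𝟙 Y)
      rw [Category.comp_id] at h2
      rw [h2]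
      change _ = H.map (L.map (R.map f ≫ r)).op t
      rw [L.map_comp, hL]
      have h3 := adj.counit.naturality f
      dsimp at h3
      rw [h3, op_comp, H.map_comp]
      rfl
    have h4 : Function.Bijective (H.map (adj.counit.app X).op) := by
      rw [← isIso_iff_bijective]
      infer_instance
    have h5 : Function.Bijective (rep.homEquiv ∘
        (fun q : R.obj X ⟶ R.obj (L.obj Y) => q ≫ r) ∘
          (fun f : X ⟶ L.obj Y => R.map f)) := by
      refine rep.homEquiv.bijective.comp (Function.Bijective.comp ?_ ?_)
      · constructor
        · intro q q' h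
          dsimp only at h
          have h' : (q ≫ r) ≫ adj.unit.app Y = (q' ≫ r) ≫ adj.unit.app Y := by rw [h]
          rw [Category.assoc, Category.assoc, hr2] at h'
          exact ((Category.comp_id q).symm.trans h').trans (Category.comp_id q')
        · intro q
          refine ⟨q ≫ adj.unit.app Y, ?_⟩
          dsimp only
          rw [Category.assoc, hr1]
          exact Category.comp_id q
      · exact adj.fullyFaithfulROfIsIsoCounit.map_bijective _ _
    rw [← h1] at h5
    exact (Function.Bijective.of_comp_iff' h4 _).1 h5
  exact ⟨{ homEquiv := fun {X} => Equiv.ofBijective _ (hb X)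
           homEquiv_comp := fun {X X'} f g => by
             change H.map (f ≫ g).op t = H.map f.op (H.map g.op t)
             rw [op_comp, H.map_comp]
             rfl }⟩

include adj in
theorem isRepresentable (hrep : (L.op ⋙ H).IsRepresentable) : H.IsRepresentable := by
  obtain ⟨rep⟩ := representableBy adj H (L.op ⋙ H).representableBy
  exact rep.isRepresentable

end Groth.Agent.Helper3.LocRep
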