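import Mathlib
import Groth.Prelude.Def_CohDer
import Groth.Agent.Lib.Helper3.BrownCompact
import Groth.Agent.Lib.Helper3.DerAdj
import Groth.Agent.Lib.Helper3.LocRep
import Groth.Agent.Lib.Helper3.DRGen
import Groth.Agent.Lib.Helper3.DSmall
import Groth.Agent.Lib.Helper3.DCoprod

/-!
# Brown representability for the derived category of a Grothendieck abelian category
-/

set_option autoImplicit false
universe v u

open CategoryTheory CategoryTheory.Limits CategoryTheory.Pretriangulated Opposite
open CategoryTheory.Pretriangulated.Opposite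

namespace Groth.Agent.Helper3.BrownGroth

variable {A : Type u} [Category.{v} A] [Abelian A] [IsGrothendieckAbelian.{v} A]
  [HasDerivedCategory.{v} A]

theorem brown (H : (DerivedCategory A)ᵒᵖ ⥤ AddCommGrpCat.{v}) [H.IsHomological]
    [∀ (ι : Type v), PreservesLimitsOfShape (Discrete ι) H] :
    (H ⋙ forget AddCommGrpCat.{v}).IsRepresentable := by
  let U : A := separator A
  have hU : IsSeparator U := isSeparator_separator A
  let _ : HasDerivedCategory.{v} (ModuleCat.{v} (End U)ᵐᵒᵖ) := DSmall.hasDerivedCategory _
  have h1 : PreservesFiniteLimits (IsGrothendieckAbelian.tensorObj U) :=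
    IsGrothendieckAbelian.GabrielPopescu.preservesFiniteLimits U hU
  have h2 : PreservesFiniteColimits (IsGrothendieckAbelian.tensorObj U) := inferInstance
  have h3 : (IsGrothendieckAbelian.tensorObj U).Additive :=
    Functor.additive_of_preserves_binary_products _
  have hres : ∀ M : CochainComplex A ℤ, ∃ (I : CochainComplex A ℤ) (f : M ⟶ I),
      I.IsKInjective ∧ QuasiIso f := by
    intro M
    obtain ⟨I, f, hI, hf, -, -⟩ := KInjD.exists_kInjective_resolution M
    exact ⟨I, f, hI, hf⟩
  have hfull : (preadditiveCoyonedaObj U).Full := IsGrothendieckAbelian.GabrielPopescu.full U hU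
  have hfaith : (preadditiveCoyonedaObj U).Faithful :=
    (isSeparator_iff_faithful_preadditiveCoyonedaObj U).1 hU
  have hc0 : IsIso (IsGrothendieckAbelian.tensorObjPreadditiveCoyonedaObjAdjunction U).counit :=
    inferInstance
  have hLA := DerAdj.isLeftAdjoint_mapDerivedCategory
    (IsGrothendieckAbelian.tensorObjPreadditiveCoyonedaObjAdjunction U) hres
  let adj' := Adjunction.ofIsLeftAdjoint (IsGrothendieckAbelian.tensorObj U).mapDerivedCategory
  have hc : IsIso adj'.counit := DerAdj.isIso_counit_of_isIso_counit
    (IsGrothendieckAbelian.tensorObjPreadditiveCoyonedaObjAdjunction U) hres adj'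
  have hcop : HasCoproducts.{v} (DerivedCategory (ModuleCat.{v} (End U)ᵐᵒᵖ)) :=
    fun J => DCoprod.hasCoproductsOfShape
  have hcg := DRGen.isCompactlyGenerated (End U)ᵐᵒᵖ
  have hlim : ∀ (κ : Type v), PreservesLimitsOfShape (Discrete κ)
      (IsGrothendieckAbelian.tensorObj U).mapDerivedCategory.op := by
    intro κ
    have : PreservesColimitsOfShape (Discrete κ)ᵒᵖ
        (IsGrothendieckAbelian.tensorObj U).mapDerivedCategory :=
      preservesColimitsOfShape_of_equiv (Discrete.opposite κ).symm _
    exact preservesLimitsOfShape_op (Discrete κ) _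
  have hlim' : ∀ (κ : Type v), PreservesLimitsOfShape (Discrete κ)
      ((IsGrothendieckAbelian.tensorObj U).mapDerivedCategory.op ⋙ H) := fun κ => inferInstance
  have hrep' := BrownCompact.brown_compact hcg
    ((IsGrothendieckAbelian.tensorObj U).mapDerivedCategory.op ⋙ H)
  exact LocRep.isRepresentable adj' (H ⋙ forget AddCommGrpCat.{v}) hrep'

end Groth.Agent.Helper3.BrownGroth
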