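import Mathlib
import Groth.Prelude.Def_CohTop
import Groth.Agent.Lib.Helper3.PC8
import Groth.Agent.Lib.Helper3.CC2

/-!
# The disjoint union of a locally finite closed covering and its fibre powers
-/

set_option autoImplicit false
set_option backward.isDefEq.respectTransparency false
universe u
open CategoryTheory Limits Opposite TopologicalSpace Topology

namespace Groth.Agent.Helper3.CC3

open PC8

noncomputable section

variable {X : TopCat.{u}} {I : Type u} (U : I → Set X)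

/-- the disjoint union of the members of the covering -/
abbrev DU : TopCat.{u} := TopCat.of (Σ i, U i)

/-- the map from the disjoint union -/
def fU : DU U ⟶ X :=
  TopCat.ofHom ⟨fun y => (y.2 : X), continuous_sigma (fun _ => continuous_subtype_val)⟩

lemma fU_apply (y : DU U) : fU U y = (y.2 : X) := rfl

lemma fU_surjective (hcov : ⋃ i, U i = Set.univ) : Function.Surjective (fU U) := by
  intro x
  have hx : x ∈ ⋃ i, U i := by rw [hcov]; trivial
  obtain ⟨i, hi⟩ := Set.mem_iUnion.1 hx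
  exact ⟨⟨i, x, hi⟩, rfl⟩

lemma fU_sep (y y' : DU U) (h : fU U y = fU U y') (hne : y ≠ y') :
    ∃ A B : Set (DU U), IsOpen A ∧ IsOpen B ∧ y ∈ A ∧ y' ∈ B ∧ Disjoint A B := by
  obtain ⟨i, x, hx⟩ := y
  obtain ⟨j, x', hx'⟩ := y'
  have hxx : x = x' := h
  subst hxx
  have hij : i ≠ j := by
    rintro rfl
    exact hne rfl
  refine ⟨Set.range (Sigma.mk i), Set.range (Sigma.mk j), isOpen_range_sigmaMk,
    isOpen_range_sigmaMk, ⟨_, rfl⟩, ⟨_, rfl⟩, ?_⟩
  rw [Set.disjoint_left]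
  rintro _ ⟨a, rfl⟩ ⟨b, hb⟩
  exact hij (congrArg Sigma.fst hb).symm

lemma fU_isClosedMap (hU : ∀ i, IsClosed (U i)) (hlf : LocallyFinite U) : IsClosedMap (fU U) := by
  intro C hC
  have hC' : ∀ i, IsClosed ((fun u : U i => (⟨i, u⟩ : Σ i, U i)) ⁻¹' C) :=
    isClosed_sigma_iff.1 hC
  have e : fU U '' C =
      ⋃ i, (Subtype.val '' ((fun u : U i => (⟨i, u⟩ : Σ i, U i)) ⁻¹' C) : Set X) := by
    ext x
    constructor
    · rintro ⟨⟨i, u⟩, hy, rfl⟩
      exact Set.mem_iUnion.2 ⟨i, u, hy, rfl⟩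
    · intro hx
      obtain ⟨i, u, hu, rfl⟩ := Set.mem_iUnion.1 hx
      exact ⟨⟨i, u⟩, hu, rfl⟩
  rw [e]
  apply LocallyFinite.isClosed_iUnion
  · exact hlf.subset (fun i => by
      rintro _ ⟨u, -, rfl⟩
      exact u.2)
  · intro i
    exact (hU i).isClosedMap_subtype_val _ (hC' i)

lemma fU_fiber_finite (hlf : LocallyFinite U) (x : X) : (fU U ⁻¹' {x}).Finite := by
  have hfin := hlf.point_finite x
  refine Set.Finite.of_injOn (f := Sigma.fst) (t := {i | x ∈ U i}) ?_ ?_ hfin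
  · rintro ⟨i, u⟩ hy
    have : (u : X) = x := hy
    change x ∈ U i
    rw [← this]
    exact u.2
  · rintro ⟨i, u⟩ hy ⟨j, u'⟩ hy' hij
    have h1 : (u : X) = x := hy
    have h2 : (u' : X) = x := hy'
    exact Sigma.subtype_ext hij (h1.trans h2.symm)

lemma fU_isProperMap (hU : ∀ i, IsClosed (U i)) (hlf : LocallyFinite U) : IsProperMap (fU U) := by
  rw [isProperMap_iff_isClosedMap_and_compact_fibers]
  exact ⟨(fU U).hom.continuous, fU_isClosedMap U hU hlf,
    fun x => (fU_fiber_finite U hlf x).isCompact⟩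

section fibrePowers

variable (p : ℕ) (σ : Fin (p + 1) → I)

/-- the intersection of the members of the covering with given indices -/
abbrev ZZ : TopCat.{u} := TopCat.of (⋂ k, U (σ k) : Set X)

/-- its inclusion -/
abbrev inclZ : ZZ U p σ ⟶ X :=
  TopCat.ofHom ⟨((↑) : (⋂ k, U (σ k) : Set X) → X), continuous_subtype_val⟩

/-- its maps to the disjoint union -/
def toDU (j : Fin (p + 1)) : ZZ U p σ ⟶ DU U :=
  TopCat.ofHom ⟨fun z => ⟨σ j, z.1, Set.mem_iInter.1 z.2 j⟩,
    (continuous_sigmaMk (σ := fun i => U i) (i := σ j)).comp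
      (continuous_subtype_val.subtype_mk _)⟩

lemma toDU_apply (j : Fin (p + 1)) (z : ZZ U p σ) :
    toDU U p σ j z = ⟨σ j, z.1, Set.mem_iInter.1 z.2 j⟩ := rfl

/-- the map to the fibre power -/
def kσ : ZZ U p σ ⟶ WP (fU U) p :=
  WidePullback.lift (inclZ U p σ) (fun j => toDU U p σ j) (fun _ => rfl)

lemma kσ_π (j : Fin (p + 1)) (z : ZZ U p σ) :
    wπ (fU U) p j (kσ U p σ z) = toDU U p σ j z :=
  ConcreteCategory.congr_hom (WidePullback.lift_π (arrows := fun _ : Fin (p + 1) => fU U)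
    (inclZ U p σ) (fun j => toDU U p σ j) (fun _ => rfl) j) z

lemma kσ_base : kσ U p σ ≫ wb (fU U) p = inclZ U p σ :=
  WidePullback.lift_base (arrows := fun _ : Fin (p + 1) => fU U)
    (inclZ U p σ) (fun j => toDU U p σ j) (fun _ => rfl)

lemma kσ_base_apply (z : ZZ U p σ) : wb (fU U) p (kσ U p σ z) = z.1 :=
  ConcreteCategory.congr_hom (kσ_base U p σ) z

lemma range_kσ : Set.range (kσ U p σ) = {w | ∀ j, (wπ (fU U) p j w).1 = σ j} := by
  ext w
  constructor
  · rintro ⟨z, rfl⟩ j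
    rw [kσ_π]
    rfl
  · intro hw
    have hx : ∀ j, wb (fU U) p w ∈ U (σ j) := by
      intro j
      rw [← wπ_f (fU U) p j w, fU_apply, ← hw j]
      exact (wπ (fU U) p j w).2.2
    refine ⟨⟨wb (fU U) p w, Set.mem_iInter.2 hx⟩, ?_⟩
    apply wp_ext
    intro j
    rw [kσ_π, toDU_apply]
    refine Sigma.subtype_ext (hw j).symm ?_
    exact (wπ_f (fU U) p j w).symm

lemma isOpen_range_kσ : IsOpen (Set.range (kσ U p σ)) := by
  rw [range_kσ]
  have e : {w | ∀ j, (wπ (fU U) p j w).1 = σ j} =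
      ⋂ j, (wπ (fU U) p j) ⁻¹' (Sigma.fst ⁻¹' {σ j}) := by
    ext w
    simp
  rw [e]
  exact isOpen_iInter_of_finite (fun j =>
    (isOpen_sigma_fst_preimage {σ j}).preimage (wπ (fU U) p j).hom.continuous)

lemma isOpenEmbedding_kσ : IsOpenEmbedding (kσ U p σ) := by
  have hcomp : (wb (fU U) p) ∘ (kσ U p σ) = (Subtype.val : (⋂ k, U (σ k) : Set X) → X) :=
    funext (kσ_base_apply U p σ)
  refine ⟨⟨?_, ?_⟩, isOpen_range_kσ U p σ⟩
  · refine IsInducing.of_comp (kσ U p σ).hom.continuous (wb (fU U) p).hom.continuous ?_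
    rw [hcomp]
    exact IsInducing.subtypeVal
  · refine Function.Injective.of_comp (f := wb (fU U) p) ?_
    rw [hcomp]
    exact Subtype.val_injective

lemma disjoint_range_kσ (σ τ : Fin (p + 1) → I) (h : σ ≠ τ) :
    Disjoint (Set.range (kσ U p σ)) (Set.range (kσ U p τ)) := by
  rw [Set.disjoint_left]
  intro w h1 h2
  rw [range_kσ] at h1 h2
  exact h (funext fun j => (h1 j).symm.trans (h2 j))

lemma exists_mem_range_kσ (w : WP (fU U) p) : ∃ σ : Fin (p + 1) → I, w ∈ Set.range (kσ U p σ) := by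
  refine ⟨fun j => (wπ (fU U) p j w).1, ?_⟩
  rw [range_kσ]
  intro j
  rfl

/-- the cohomology of a fibre power of the disjoint union of the covering -/
theorem nonempty_H_fibrePower (F : CohTop.Ab X) (q : ℕ) :
    Nonempty (AddCommGrpCat.of (CohTop.H ((CohTop.pull (wb (fU U) p)).obj F) q) ≅
      AddCommGrpCat.of (∀ σ : Fin (p + 1) → I, CohTop.H ((CohTop.pull (inclZ U p σ)).obj F) q)) := by
  obtain ⟨e⟩ := CC2.nonempty_H_pull_iso_pi (fun σ : Fin (p + 1) → I => ZZ U p σ)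
    (fun σ => kσ U p σ) (fun σ => isOpenEmbedding_kσ U p σ) (disjoint_range_kσ U p)
    (exists_mem_range_kσ U p) (wb (fU U) p) F q
  have h : ∀ σ : Fin (p + 1) → I, kσ U p σ ≫ wb (fU U) p = inclZ U p σ := kσ_base U p
  have e' : AddCommGrpCat.of (∀ σ : Fin (p + 1) → I,
      CohTop.H ((CohTop.pull (kσ U p σ ≫ wb (fU U) p)).obj F) q) ≅
      AddCommGrpCat.of (∀ σ : Fin (p + 1) → I, CohTop.H ((CohTop.pull (inclZ U p σ)).obj F) q) :=
    CC1.piIso
      (M := fun σ => AddCommGrpCat.of (CohTop.H ((CohTop.pull (kσ U p σ ≫ wb (fU U) p)).obj F) q))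
      (N := fun σ => AddCommGrpCat.of (CohTop.H ((CohTop.pull (inclZ U p σ)).obj F) q))
      (fun σ => eqToIso (by rw [h σ]))
  exact ⟨e ≪≫ e'⟩

end fibrePowers

end

end Groth.Agent.Helper3.CC3
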