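import Groth.Agent.Lib.Helper3.KPush2

/-!
# Presentation of hypercohomology groups by cocycles of a K-injective resolution
-/

set_option autoImplicit false
universe u

open CategoryTheory Limits Opposite DerivedCategory

namespace Groth.Agent.Helper3.CD

open Groth.Agent.Helper3.KPush

variable {C : Type u} [SmallCategory C] {J : GrothendieckTopology C}
  [HasDerivedCategory.{u} (Sheaf J AddCommGrpCat.{u})]

/-- additive comparison of hypercohomology groups of isomorphic objects -/
noncomputable def congrAdd {K K' : DerivedCategory (Sheaf J AddCommGrpCat.{u})} (θ : K ≅ K')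
    (n : ℤ) (U : C) : CohCx.HDU K n U ≃+ CohCx.HDU K' n U where
  toFun ξ := ξ ≫ (shiftFunctor _ n).map θ.hom
  invFun ξ := ξ ≫ (shiftFunctor _ n).map θ.inv
  left_inv ξ := by
    change (ξ ≫ _) ≫ _ = ξ
    rw [Category.assoc, ← Functor.map_comp, Iso.hom_inv_id, CategoryTheory.Functor.map_id, Category.comp_id]
  right_inv ξ := by
    change (ξ ≫ _) ≫ _ = ξ
    rw [Category.assoc, ← Functor.map_comp, Iso.inv_hom_id, CategoryTheory.Functor.map_id, Category.comp_id]
  map_add' ξ η := by
    change (ξ + η) ≫ _ = ξ ≫ _ + η ≫ _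
    rw [Preadditive.add_comp]

lemma congrAdd_res {K K' : DerivedCategory (Sheaf J AddCommGrpCat.{u})} (θ : K ≅ K')
    (n : ℤ) {U V : C} (g : V ⟶ U) (ξ : CohCx.HDU K n U) :
    CohCx.HDUres K' n g (congrAdd θ n U ξ) = congrAdd θ n V (CohCx.HDUres K n g ξ) :=
  (Category.assoc _ _ _).symm

lemma congrAdd_symm_res {K K' : DerivedCategory (Sheaf J AddCommGrpCat.{u})} (θ : K ≅ K')
    (n : ℤ) {U V : C} (g : V ⟶ U) (ξ : CohCx.HDU K' n U) :
    CohCx.HDUres K n g ((congrAdd θ n U).symm ξ) = (congrAdd θ n V).symm (CohCx.HDUres K' n g ξ) :=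
  (Category.assoc _ _ _).symm

variable (K I : CochainComplex (Sheaf J AddCommGrpCat.{u}) ℤ) (θ : Q.obj K ≅ Q.obj I)

/-- the differential on sections -/
abbrev dSec (V : C) (q q' : ℤ) :
    ((I.X q).obj.obj (op V)) →+ ((I.X q').obj.obj (op V)) :=
  ((I.d q q').hom.app (op V)).hom

lemma dSec_res {V V' : C} (g : V' ⟶ V) (q q' : ℤ) (s : (I.X q).obj.obj (op V)) :
    dSec I V' q q' ((I.X q).obj.map g.op s) = (I.X q').obj.map g.op (dSec I V q q' s) :=
  ConcreteCategory.congr_hom ((I.d q q').hom.naturality g.op) s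

lemma dSec_dSec (V : C) (q q' q'' : ℤ) (s : (I.X q).obj.obj (op V)) :
    dSec I V q' q'' (dSec I V q q' s) = 0 := by
  have h : (I.d q q').hom.app (op V) ≫ (I.d q' q'').hom.app (op V) = 0 := by
    rw [← NatTrans.comp_app, ← ObjectProperty.FullSubcategory.comp_hom, I.d_comp_d]
    rfl
  exact ConcreteCategory.congr_hom h s

lemma exists_transport (V : C) (a b c : ℤ) (h : a = b) (s : (I.X c).obj.obj (op V)) :
    (∃ y : (I.X a).obj.obj (op V), dSec I V a c y = s) ↔
      (∃ y : (I.X b).obj.obj (op V), dSec I V b c y = s) := by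
  subst h
  rfl

variable [I.IsKInjective]

lemma closed_of_mem (V : C) (q q' : ℤ) (hq : q + 1 = q') (s : (dSec I V q q').ker) :
    (I.d q (q + 1)).hom.app (op V) s.1 = 0 := by
  subst hq
  exact AddMonoidHom.mem_ker.1 s.2

/-- the class of a cocycle section of `I` in the hypercohomology of `K` -/
noncomputable def cls (V : C) (q q' : ℤ) (hq : q + 1 = q') :
    (dSec I V q q').ker →+ CohCx.HDU (Q.obj K) q V :=
  AddMonoidHom.mk'
    (fun s => (congrAdd θ q V).symm (clsSec V I q s.1 (closed_of_mem I V q q' hq s)))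
    (fun s s' => by
      have h := clsSec_add (U := V) (L := I) (n := q) s.1 s'.1 (closed_of_mem I V q q' hq s)
        (closed_of_mem I V q q' hq s')
      change (congrAdd θ q V).symm (clsSec V I q (s.1 + s'.1) _) = _
      rw [h, map_add])

lemma cls_apply (V : C) (q q' : ℤ) (hq : q + 1 = q') (s : (dSec I V q q').ker) :
    cls K I θ V q q' hq s =
      (congrAdd θ q V).symm (clsSec V I q s.1 (closed_of_mem I V q q' hq s)) := rfl

lemma cls_surjective (V : C) (q q' : ℤ) (hq : q + 1 = q') :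
    Function.Surjective (cls K I θ V q q' hq) := by
  intro ξ
  obtain ⟨s, hs, e⟩ := clsSec_surjective (U := V) (L := I) (n := q) (congrAdd θ q V ξ)
  refine ⟨⟨s, ?_⟩, ?_⟩
  · subst hq
    exact AddMonoidHom.mem_ker.2 hs
  · rw [cls_apply]
    change (congrAdd θ q V).symm (clsSec V I q s _) = ξ
    rw [e, AddEquiv.symm_apply_apply]

lemma cls_eq_zero_iff (V : C) (q₁ q q' : ℤ) (h₁ : q₁ + 1 = q) (hq : q + 1 = q')
    (s : (dSec I V q q').ker) :
    cls K I θ V q q' hq s = 0 ↔ ∃ y : (I.X q₁).obj.obj (op V), dSec I V q₁ q y = s.1 := by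
  rw [cls_apply, AddEquivClass.map_eq_zero_iff, clsSec_eq_zero_iff]
  exact exists_transport I V (q - 1) q₁ q (by omega) s.1

lemma res_mem (q q' : ℤ) {V V' : C} (g : V' ⟶ V) (s : (dSec I V q q').ker) :
    (I.X q).obj.map g.op s.1 ∈ (dSec I V' q q').ker := by
  rw [AddMonoidHom.mem_ker, dSec_res, AddMonoidHom.mem_ker.1 s.2, map_zero]

lemma cls_res (q q' : ℤ) (hq : q + 1 = q') {V V' : C} (g : V' ⟶ V) (s : (dSec I V q q').ker) :
    CohCx.HDUres (Q.obj K) q g (cls K I θ V q q' hq s) =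
      cls K I θ V' q q' hq ⟨(I.X q).obj.map g.op s.1, res_mem I q q' g s⟩ := by
  rw [cls_apply, cls_apply, congrAdd_symm_res, clsSec_res]

end Groth.Agent.Helper3.CD
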