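import Groth.Agent.Lib.Helper3.ZZ1
import Groth.Agent.Lib.Helper1.TCx
import Groth.Prelude.Def_CechTot

/-!
# The Čech double complex of a complex of presheaves as an augmented double complex of groups
-/

set_option autoImplicit false
universe u

open CategoryTheory Limits Opposite TopologicalSpace

namespace Groth.Agent.Helper3.CD

open Groth.Agent.Helper1

variable {X : TopCat.{u}} {ι : Type u} (U : ι → Opens X)

section Map

variable {P Q : (Opens X)ᵒᵖ ⥤ AddCommGrpCat.{u}} (φ : P ⟶ Q)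

theorem map_proj (p : ℕ) (a : Fin (p + 1) → ι) :
    ((cechComplexFunctor U).map φ).f p ≫ TCx.proj U Q p a =
      TCx.proj U P p a ≫ φ.app (op (TCx.W U a)) := by
  have hA : ((cechComplexFunctor U).map φ).f p = Limits.Pi.map (fun a : Fin (p + 1) → ι =>
      φ.app (op (∏ᶜ fun k => U (a k)))) := rfl
  rw [hA]
  exact Pi.map_π _ a

theorem map_proj_apply (p : ℕ) (a : Fin (p + 1) → ι) (c : (TCx.K U P).X p) :
    (TCx.proj U Q p a).hom ((((cechComplexFunctor U).map φ).f p).hom c) =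
      (φ.app (op (TCx.W U a))).hom ((TCx.proj U P p a).hom c) :=
  ConcreteCategory.congr_hom (map_proj U φ p a) c

end Map

variable (Pc : CochainComplex ((Opens X)ᵒᵖ ⥤ AddCommGrpCat.{u}) ℤ)

/-- Čech `p`-cochains of the degree `j` term -/
noncomputable abbrev CX (p : ℕ) (j : ℤ) : AddCommGrpCat.{u} := (TCx.K U (Pc.X j)).X p

/-- the Čech differential -/
noncomputable abbrev δC (p : ℕ) (j : ℤ) : CX U Pc p j ⟶ CX U Pc (p + 1) j :=
  (TCx.K U (Pc.X j)).d p (p + 1)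

/-- the differential induced by the complex -/
noncomputable abbrev ddC (p : ℕ) (j j' : ℤ) : CX U Pc p j ⟶ CX U Pc p j' :=
  ((cechComplexFunctor U).map (Pc.d j j')).f p

/-- transport along an equality of degrees -/
noncomputable abbrev castC (p : ℕ) (j j' : ℤ) (h : j = j') : CX U Pc p j ⟶ CX U Pc p j' :=
  ((cechComplexFunctor U).map (eqToHom (congrArg Pc.X h))).f p

lemma castC_rfl (p : ℕ) (j : ℤ) (h : j = j) : castC U Pc p j j h = 𝟙 _ := by
  simp [castC]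

lemma δC_δC (p : ℕ) (j : ℤ) : δC U Pc p j ≫ δC U Pc (p + 1) j = 0 :=
  (TCx.K U (Pc.X j)).d_comp_d _ _ _

lemma ddC_ddC (p : ℕ) (j j' j'' : ℤ) : ddC U Pc p j j' ≫ ddC U Pc p j' j'' = 0 := by
  rw [ddC, ddC, ← HomologicalComplex.comp_f, ← Functor.map_comp, Pc.d_comp_d, Functor.map_zero,
    HomologicalComplex.zero_f]

lemma ddC_δC (p : ℕ) (j j' : ℤ) :
    ddC U Pc p j j' ≫ δC U Pc p j' = δC U Pc p j ≫ ddC U Pc (p + 1) j j' :=
  ((cechComplexFunctor U).map (Pc.d j j')).comm p (p + 1)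

lemma castC_δC (p : ℕ) (j j' : ℤ) (h : j = j') :
    castC U Pc p j j' h ≫ δC U Pc p j' = δC U Pc p j ≫ castC U Pc (p + 1) j j' h :=
  ((cechComplexFunctor U).map (eqToHom (congrArg Pc.X h))).comm p (p + 1)

/-- the augmentation -/
noncomputable def aug (j : ℤ) : (Pc.X j).obj (op ⊤) ⟶ CX U Pc 0 j :=
  Pi.lift (fun c : Fin (0 + 1) → ι => (Pc.X j).map (homOfLE (le_top : TCx.W U c ≤ ⊤)).op)

lemma aug_proj (j : ℤ) (c : Fin (0 + 1) → ι) :
    aug U Pc j ≫ TCx.proj U (Pc.X j) 0 c = (Pc.X j).map (homOfLE (le_top : TCx.W U c ≤ ⊤)).op :=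
  Pi.lift_π _ c

lemma aug_proj_apply (j : ℤ) (c : Fin (0 + 1) → ι) (s : (Pc.X j).obj (op ⊤)) :
    (TCx.proj U (Pc.X j) 0 c).hom ((aug U Pc j).hom s) =
      ((Pc.X j).map (homOfLE (le_top : TCx.W U c ≤ ⊤)).op).hom s :=
  ConcreteCategory.congr_hom (aug_proj U Pc j c) s

lemma aug_ddC (j j' : ℤ) :
    (Pc.d j j').app (op ⊤) ≫ aug U Pc j' = aug U Pc j ≫ ddC U Pc 0 j j' := by
  refine ConcreteCategory.hom_ext _ _ (fun s => ?_)
  refine TCx.ext U (Pc.X j') 0 _ _ (fun c => ?_)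
  change (TCx.proj U (Pc.X j') 0 c).hom ((aug U Pc j').hom (((Pc.d j j').app (op ⊤)).hom s)) =
    (TCx.proj U (Pc.X j') 0 c).hom
      ((((cechComplexFunctor U).map (Pc.d j j')).f 0).hom ((aug U Pc j).hom s))
  rw [aug_proj_apply, map_proj_apply, aug_proj_apply]
  exact (ConcreteCategory.congr_hom
    ((Pc.d j j').naturality (homOfLE (le_top : TCx.W U c ≤ ⊤)).op) s).symm

lemma res_res_apply (F : (Opens X)ᵒᵖ ⥤ AddCommGrpCat.{u}) {V₁ V₂ V₃ : Opens X} (h₁ : V₂ ≤ V₁)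
    (h₂ : V₃ ≤ V₂) (s : F.obj (op V₁)) :
    (F.map (homOfLE h₂).op).hom ((F.map (homOfLE h₁).op).hom s) =
      (F.map (homOfLE (h₂.trans h₁)).op).hom s := by
  have : F.map (homOfLE h₁).op ≫ F.map (homOfLE h₂).op = F.map (homOfLE (h₂.trans h₁)).op := by
    rw [← F.map_comp]
    rfl
  exact ConcreteCategory.congr_hom this s

lemma aug_δC (j : ℤ) : aug U Pc j ≫ δC U Pc 0 j = 0 := by
  refine ConcreteCategory.hom_ext _ _ (fun s => ?_)
  refine TCx.ext U (Pc.X j) 1 _ _ (fun a => ?_)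
  change (TCx.proj U (Pc.X j) (0 + 1) a).hom
    (((TCx.K U (Pc.X j)).d 0 (0 + 1)).hom ((aug U Pc j).hom s)) = _
  rw [TCx.d_apply, Fin.sum_univ_two]
  simp only [aug_proj_apply, res_res_apply]
  simp

/-- the augmented double complex of groups -/
noncomputable def dbl : ZZ.Dbl.{u} where
  A i := (Pc.X i).obj (op ⊤)
  X p i := CX U Pc p (i - p)
  dA i := ((Pc.d i (i + 1)).app (op ⊤)).hom
  dv p i := (ddC U Pc p (i - p) (i + 1 - p)).hom
  dh p i := (δC U Pc p (i - p) ≫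
    castC U Pc (p + 1) (i - p) (i + 1 - ((p + 1 : ℕ) : ℤ)) (by push_cast; ring)).hom
  ε i := (aug U Pc i ≫ castC U Pc 0 i (i - ((0 : ℕ) : ℤ)) (by simp)).hom
  dv_dv p i x := ConcreteCategory.congr_hom (ddC_ddC U Pc p (i - p) (i + 1 - p) (i + 1 + 1 - p)) x
  dh_dh p i x := by
    have h : ∀ (j j' j'' : ℤ) (h₁ : j = j') (h₂ : j' = j''),
        (δC U Pc p j ≫ castC U Pc (p + 1) j j' h₁) ≫
          (δC U Pc (p + 1) j' ≫ castC U Pc (p + 1 + 1) j' j'' h₂) = 0 := by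
      intro j j' j'' h₁ h₂
      subst h₁ h₂
      rw [castC_rfl, castC_rfl, Category.comp_id, Category.comp_id, δC_δC]
    exact ConcreteCategory.congr_hom (h (i - p) _ _ _ _) x
  dv_dh p i x := by
    have h : ∀ (j₁ j₂ j₁' j₂' : ℤ) (h₁ : j₁ = j₁') (h₂ : j₂ = j₂'),
        ddC U Pc p j₁ j₂ ≫ (δC U Pc p j₂ ≫ castC U Pc (p + 1) j₂ j₂' h₂) =
          (δC U Pc p j₁ ≫ castC U Pc (p + 1) j₁ j₁' h₁) ≫ ddC U Pc (p + 1) j₁' j₂' := by
      intro j₁ j₂ j₁' j₂' h₁ h₂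
      subst h₁ h₂
      rw [castC_rfl, castC_rfl, Category.comp_id, Category.comp_id, ddC_δC]
    exact ConcreteCategory.congr_hom (h (i - p) (i + 1 - p) _ _ _ _) x
  ε_dA i s := by
    have h : ∀ (j₁ j₂ j₁' j₂' : ℤ) (h₁ : j₁ = j₁') (h₂ : j₂ = j₂'),
        (Pc.d j₁ j₂).app (op ⊤) ≫ (aug U Pc j₂ ≫ castC U Pc 0 j₂ j₂' h₂) =
          (aug U Pc j₁ ≫ castC U Pc 0 j₁ j₁' h₁) ≫ ddC U Pc 0 j₁' j₂' := by
      intro j₁ j₂ j₁' j₂' h₁ h₂
      subst h₁ h₂
      rw [castC_rfl, castC_rfl, Category.comp_id, Category.comp_id, aug_ddC]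
    exact ConcreteCategory.congr_hom (h i (i + 1) _ _ _ _) s
  dh_ε i s := by
    have h : ∀ (j j' j'' : ℤ) (h₁ : j = j') (h₂ : j' = j''),
        (aug U Pc j ≫ castC U Pc 0 j j' h₁) ≫ (δC U Pc 0 j' ≫ castC U Pc (0 + 1) j' j'' h₂) = 0 := by
      intro j j' j'' h₁ h₂
      subst h₁ h₂
      rw [castC_rfl, castC_rfl, Category.comp_id, Category.comp_id, aug_δC]
    exact ConcreteCategory.congr_hom (h i _ _ _ _) s

end Groth.Agent.Helper3.CD
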