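import Groth.Agent.Lib.Helper3.CD2
import Groth.Agent.Lib.Helper3.PB3
import Groth.Agent.S0454
import Groth.Agent.S0455

/-!
# Exactness of the rows of the Čech double complex of a complex of injective sheaves
-/

set_option autoImplicit false
universe u

open CategoryTheory Limits Opposite TopologicalSpace

namespace Groth.Agent.Helper3.CD

open Groth.Agent.Helper1 Groth.Agent.Helper3.PB3

variable {X : TopCat.{u}} {ι : Type u} (U : ι → Opens X)

section Single

variable (F : CohTop.Ab X)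

lemma proj_congr {p : ℕ} (P : (Opens X)ᵒᵖ ⥤ AddCommGrpCat.{u}) (c c' : Fin (p + 1) → ι)
    (h : c = c') (V : Opens X) (hV : V ≤ TCx.W U c)
    (hV' : V ≤ TCx.W U c') (t : (TCx.K U P).X p) :
    (P.map (homOfLE hV).op).hom ((TCx.proj U P p c).hom t) =
      (P.map (homOfLE hV').op).hom ((TCx.proj U P p c').hom t) := by
  subst h
  rfl

lemma le_W_const (i : ι) : U i ≤ TCx.W U (fun _ : Fin (0 + 1) => i) :=
  TCx.le_W U _ _ (fun _ => le_rfl)

lemma W_le_zero (b : Fin (0 + 1) → ι) : TCx.W U b ≤ U (b 0) := TCx.W_le U b 0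

/-- the family of sections attached to a `0`-cochain -/
noncomputable def sec0 (t : (TCx.K U F.obj).X 0) (i : ι) : F.obj.obj (op (U i)) :=
  res F (le_W_const U i) ((TCx.proj U F.obj 0 (fun _ => i)).hom t)

lemma proj_eq_sec0 (t : (TCx.K U F.obj).X 0) (b : Fin (0 + 1) → ι) :
    (TCx.proj U F.obj 0 b).hom t = res F (W_le_zero U b) (sec0 U F t (b 0)) := by
  have hb : (fun _ : Fin (0 + 1) => b 0) = b := by
    funext k
    obtain rfl : k = 0 := Fin.ext (by rw [Fin.val_zero]; have := k.isLt; omega)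
    rfl
  unfold sec0
  rw [res_res]
  have h := proj_congr U F.obj (fun _ : Fin (0 + 1) => b 0) b hb (TCx.W U b)
    ((W_le_zero U b).trans (le_W_const U (b 0))) le_rfl t
  refine Eq.trans ?_ h.symm
  exact (res_self F _).symm

lemma sec0_cocycle (t : (TCx.K U F.obj).X 0) (ht : ((TCx.K U F.obj).d 0 1).hom t = 0)
    (a : Fin (0 + 2) → ι) :
    res F (TCx.W_le U a 1) (sec0 U F t (a 1)) = res F (TCx.W_le U a 0) (sec0 U F t (a 0)) := by
  have h := TCx.d_apply U F.obj 0 a t
  rw [ht, map_zero, Fin.sum_univ_two, proj_eq_sec0, proj_eq_sec0] at h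
  have h0 : (F.obj.map (homOfLE (TCx.W_face_le U a 0)).op).hom
      (res F (W_le_zero U fun k => a ((0 : Fin (0 + 2)).succAbove k))
        (sec0 U F t (a ((0 : Fin (0 + 2)).succAbove 0)))) =
      res F (TCx.W_le U a 1) (sec0 U F t (a 1)) := res_res F _ _ _
  have h1 : (F.obj.map (homOfLE (TCx.W_face_le U a 1)).op).hom
      (res F (W_le_zero U fun k => a ((1 : Fin (0 + 2)).succAbove k))
        (sec0 U F t (a ((1 : Fin (0 + 2)).succAbove 0)))) =
      res F (TCx.W_le U a 0) (sec0 U F t (a 0)) := res_res F _ _ _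
  rw [h0, h1] at h
  simp only [Fin.val_zero, pow_zero, one_smul, Fin.val_one, pow_one, neg_smul] at h
  exact (sub_eq_zero.1 (by rw [sub_eq_add_neg]; exact h.symm))

lemma sec0_compatible (t : (TCx.K U F.obj).X 0) (ht : ((TCx.K U F.obj).d 0 1).hom t = 0) :
    TopCat.Presheaf.IsCompatible F.obj U (sec0 U F t) := by
  intro i j
  let a : Fin (0 + 2) → ι := fun k => if k = 0 then i else j
  have hle : U i ⊓ U j ≤ TCx.W U a := by
    refine TCx.le_W U a _ (fun k => ?_)
    by_cases hk : k = 0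
    · subst hk
      exact inf_le_left
    · have : a k = j := if_neg hk
      rw [this]
      exact inf_le_right
  have h := congrArg (res F hle) (sec0_cocycle U F t ht a)
  rw [res_res, res_res] at h
  exact h.symm

include F in
lemma aug_injective_el (hcov : iSup U = ⊤) (s : F.obj.obj (op ⊤))
    (h : ∀ c : Fin (0 + 1) → ι, res F (le_top : TCx.W U c ≤ ⊤) s = 0) : s = 0 := by
  apply eq_of_locally_eq F
  intro x _
  have hx : x ∈ iSup U := by rw [hcov]; trivial
  obtain ⟨i, hi⟩ := Opens.mem_iSup.1 hx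
  refine ⟨TCx.W U (fun _ : Fin (0 + 1) => i), le_W_const U i hi, le_top, ?_⟩
  rw [h, res_zero]

lemma exists_glue (hcov : iSup U = ⊤) (t : (TCx.K U F.obj).X 0)
    (ht : ((TCx.K U F.obj).d 0 1).hom t = 0) :
    ∃ s : F.obj.obj (op ⊤), ∀ c : Fin (0 + 1) → ι,
      (TCx.proj U F.obj 0 c).hom t = res F (le_top : TCx.W U c ≤ ⊤) s := by
  obtain ⟨s, hs, -⟩ := TopCat.Sheaf.existsUnique_gluing' F U ⊤ (fun i => homOfLE le_top)
    (le_of_eq hcov.symm) (sec0 U F t) (sec0_compatible U F t ht)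
  refine ⟨s, fun c => ?_⟩
  rw [proj_eq_sec0, ← hs (c 0)]
  exact res_res F _ _ s

lemma exact_pos [Injective F] (p : ℕ) (x : (TCx.K U F.obj).X (p + 1))
    (hx : ((TCx.K U F.obj).d (p + 1) (p + 2)).hom x = 0) :
    ∃ y : (TCx.K U F.obj).X p, ((TCx.K U F.obj).d p (p + 1)).hom y = x := by
  haveI : TopCat.Sheaf.IsFlasque F := Groth.Agent.S0454.result F
  have hz : IsZero (CohTop.cechH F.obj U (p + 1)) := Groth.Agent.S0455.result F U p
  have h1 : (TCx.K U F.obj).ExactAt (p + 1) :=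
    (HomologicalComplex.exactAt_iff_isZero_homology _ _).2 hz
  rw [(TCx.K U F.obj).exactAt_iff' p (p + 1) (p + 2) (by simp) (by simp),
    ShortComplex.ab_exact_iff] at h1
  exact h1 x hx

end Single

section Cx

variable (I : CochainComplex (CohTop.Ab X) ℤ)

/-- the underlying complex of presheaves -/
noncomputable abbrev pCx : CochainComplex ((Opens X)ᵒᵖ ⥤ AddCommGrpCat.{u}) ℤ :=
  (CechTot.presheafCx X).obj I

lemma castC_injective (Pc : CochainComplex ((Opens X)ᵒᵖ ⥤ AddCommGrpCat.{u}) ℤ) (p : ℕ)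
    (j j' : ℤ) (h : j = j') (x : CX U Pc p j) (hx : (castC U Pc p j j' h).hom x = 0) : x = 0 := by
  subst h
  rw [castC_rfl] at hx
  exact hx

lemma eps_injective (hcov : iSup U = ⊤) (j j' : ℤ) (h : j = j')
    (s : (I.X j).obj.obj (op ⊤))
    (hs : (aug U (pCx I) j ≫ castC U (pCx I) 0 j j' h).hom s = 0) : s = 0 := by
  have h1 : (aug U (pCx I) j).hom s = 0 := castC_injective U (pCx I) 0 j j' h _ hs
  apply aug_injective_el U (I.X j) hcov s
  intro c
  have h2 := aug_proj_apply U (pCx I) j c s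
  rw [h1, map_zero] at h2
  exact h2.symm

lemma ex0 (hcov : iSup U = ⊤) (j j' j'' : ℤ) (h : j = j') (h' : j' = j'')
    (x : CX U (pCx I) 0 j')
    (hx : (δC U (pCx I) 0 j' ≫ castC U (pCx I) (0 + 1) j' j'' h').hom x = 0) :
    ∃ r : (I.X j).obj.obj (op ⊤), (aug U (pCx I) j ≫ castC U (pCx I) 0 j j' h).hom r = x := by
  subst h h'
  have hx' : (δC U (pCx I) 0 j).hom x = 0 := by
    rw [castC_rfl, Category.comp_id] at hx
    exact hx
  obtain ⟨s, hs⟩ := exists_glue U (I.X j) hcov x hx'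
  refine ⟨s, ?_⟩
  rw [castC_rfl, Category.comp_id]
  refine TCx.ext U (I.X j).obj 0 _ _ (fun c => ?_)
  rw [hs c]
  exact aug_proj_apply U (pCx I) j c s

lemma ex_pos [∀ j, Injective (I.X j)] (p : ℕ) (j j' j'' : ℤ) (h : j = j') (h' : j' = j'')
    (x : CX U (pCx I) (p + 1) j')
    (hx : (δC U (pCx I) (p + 1) j' ≫ castC U (pCx I) (p + 1 + 1) j' j'' h').hom x = 0) :
    ∃ y : CX U (pCx I) p j,
      (δC U (pCx I) p j ≫ castC U (pCx I) (p + 1) j j' h).hom y = x := by
  subst h h'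
  have hx' : (δC U (pCx I) (p + 1) j).hom x = 0 := by
    rw [castC_rfl, Category.comp_id] at hx
    exact hx
  obtain ⟨y, hy⟩ := exact_pos U (I.X j) p x hx'
  refine ⟨y, ?_⟩
  rw [castC_rfl, Category.comp_id]
  exact hy

lemma eq_zero_of_isZero (p : ℕ) (j : ℤ) (hj : IsZero (I.X j)) (x : CX U (pCx I) p j) : x = 0 := by
  refine TCx.ext U (I.X j).obj p _ _ (fun c => ?_)
  have hz : IsZero ((I.X j).obj.obj (op (TCx.W U c))) :=
    (sheafToPresheaf (Opens.grothendieckTopology X) AddCommGrpCat.{u} ⋙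
      (evaluation _ _).obj (op (TCx.W U c))).map_isZero hj
  haveI := AddCommGrpCat.subsingleton_of_isZero hz
  exact Subsingleton.elim _ _

end Cx

end Groth.Agent.Helper3.CD
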