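import Groth.Agent.Lib.Helper3.CD1
import Groth.Agent.Lib.Helper3.CD3

/-!
# The `E₂`-class of a bi-cocycle of the Čech double complex of a K-injective resolution
-/

set_option autoImplicit false
universe u

open CategoryTheory Limits Opposite TopologicalSpace DerivedCategory

namespace Groth.Agent.Helper3.CD

open Groth.Agent.Helper1 Groth.Agent.Helper3.PB3

section HCls

/-- the homology class of a cycle of a short complex of abelian groups -/
noncomputable def hclsSc (S : ShortComplex AddCommGrpCat.{u}) : S.g.hom.ker →+ S.homology :=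
  (S.abHomologyIso.addCommGroupIsoToAddEquiv.symm.toAddMonoidHom).comp
    (QuotientAddGroup.mk' (AddMonoidHom.range S.abToCycles))

lemma hclsSc_eq_zero_iff (S : ShortComplex AddCommGrpCat.{u}) (x : S.g.hom.ker) :
    hclsSc S x = 0 ↔ ∃ y : S.X₁, S.f.hom y = x.1 := by
  unfold hclsSc
  rw [AddMonoidHom.comp_apply, AddEquiv.coe_toAddMonoidHom, AddEquiv.map_eq_zero_iff,
    QuotientAddGroup.mk'_apply, QuotientAddGroup.eq_zero_iff, AddMonoidHom.mem_range]
  constructor
  · rintro ⟨y, hy⟩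
    exact ⟨y, congrArg Subtype.val hy⟩
  · rintro ⟨y, hy⟩
    exact ⟨y, Subtype.ext hy⟩

variable (C : CochainComplex AddCommGrpCat.{u} ℕ)

/-- the homology class of a cycle of a cochain complex of abelian groups -/
noncomputable def hcls (j : ℕ) : (C.d j (j + 1)).hom.ker →+ C.homology j :=
  ((C.homologyIsoSc' ((ComplexShape.up ℕ).prev j) j (j + 1) rfl
    (by simp)).addCommGroupIsoToAddEquiv.symm.toAddMonoidHom).comp
      (hclsSc (C.sc' ((ComplexShape.up ℕ).prev j) j (j + 1)))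

lemma hcls_eq_zero_iff (j : ℕ) (x : (C.d j (j + 1)).hom.ker) :
    hcls C j x = 0 ↔
      ∃ y : C.X ((ComplexShape.up ℕ).prev j), (C.d ((ComplexShape.up ℕ).prev j) j).hom y = x.1 := by
  unfold hcls
  rw [AddMonoidHom.comp_apply, AddEquiv.coe_toAddMonoidHom, AddEquiv.map_eq_zero_iff]
  exact hclsSc_eq_zero_iff (C.sc' ((ComplexShape.up ℕ).prev j) j (j + 1)) x

lemma hcls_zero_iff (x : (C.d 0 (0 + 1)).hom.ker) : hcls C 0 x = 0 ↔ x.1 = 0 := by
  rw [hcls_eq_zero_iff]
  have h0 : C.d ((ComplexShape.up ℕ).prev 0) 0 = 0 := C.shape _ _ (by simp)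
  rw [h0]
  constructor
  · rintro ⟨y, hy⟩
    exact hy.symm
  · intro h
    exact ⟨0, h.symm⟩

lemma hcls_succ_iff (j : ℕ) (x : (C.d (j + 1) (j + 1 + 1)).hom.ker) :
    hcls C (j + 1) x = 0 ↔ ∃ y : C.X j, (C.d j (j + 1)).hom y = x.1 := by
  rw [hcls_eq_zero_iff]
  have h : ∀ (i : ℕ) (_ : i = j), (∃ y : C.X i, (C.d i (j + 1)).hom y = x.1) ↔
      ∃ y : C.X j, (C.d j (j + 1)).hom y = x.1 := by
    intro i hi
    subst hi
    rfl
  exact h _ (CochainComplex.prev_nat_succ j)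

end HCls

variable {X : TopCat.{u}} [HasDerivedCategory.{u} (CohTop.Ab X)] {ι : Type u} (U : ι → Opens X)
  (K I : CochainComplex (CohTop.Ab X) ℤ) [I.IsKInjective] (θ : Q.obj K ≅ Q.obj I)

/-- the presheaf of hypercohomology groups -/
noncomputable abbrev HP (q : ℤ) : (Opens X)ᵒᵖ ⥤ AddCommGrpCat.{u} :=
  CohCx.HDUPresheaf (Q.obj K) q

/-- the class map with values in the sections of the presheaf of hypercohomology groups -/
noncomputable def clsP (V : Opens X) (q q' : ℤ) (hq : q + 1 = q') :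
    (dSec I V q q').ker →+ (HP K q).obj (op V) :=
  cls K I θ V q q' hq

lemma clsP_res (q q' : ℤ) (hq : q + 1 = q') {V V' : Opens X} (h : V' ≤ V)
    (s : (dSec I V q q').ker) :
    ((HP K q).map (homOfLE h).op).hom (clsP K I θ V q q' hq s) =
      clsP K I θ V' q q' hq ⟨(I.X q).obj.map (homOfLE h).op s.1, res_mem I q q' (homOfLE h) s⟩ :=
  cls_res K I θ q q' hq (homOfLE h) s

lemma proj_mem (p : ℕ) (q q' : ℤ) (c : Fin (p + 1) → ι)
    (z : (ddC U (pCx I) p q q').hom.ker) :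
    (TCx.proj U (I.X q).obj p c).hom z.1 ∈ (dSec I (TCx.W U c) q q').ker := by
  rw [AddMonoidHom.mem_ker]
  have h := map_proj_apply U ((pCx I).d q q') p c z.1
  have hz : (ddC U (pCx I) p q q').hom z.1 = 0 := AddMonoidHom.mem_ker.1 z.2
  rw [hz, map_zero] at h
  exact h.symm

/-- the projection of a `d`-closed cochain as a closed section -/
noncomputable def projKer (p : ℕ) (q q' : ℤ) (c : Fin (p + 1) → ι) :
    (ddC U (pCx I) p q q').hom.ker →+ (dSec I (TCx.W U c) q q').ker :=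
  AddMonoidHom.codRestrict ((TCx.proj U (I.X q).obj p c).hom.comp
    (ddC U (pCx I) p q q').hom.ker.subtype) _ (proj_mem U I p q q' c)

/-- the Čech cochain of classes of a `d`-closed cochain -/
noncomputable def kap (p : ℕ) (q q' : ℤ) (hq : q + 1 = q') :
    AddCommGrpCat.of ↥(ddC U (pCx I) p q q').hom.ker ⟶ (TCx.K U (HP K q)).X p :=
  Pi.lift (fun c : Fin (p + 1) → ι => AddCommGrpCat.ofHom
    ((clsP K I θ (TCx.W U c) q q' hq).comp (projKer U I p q q' c)))

lemma kap_proj (p : ℕ) (q q' : ℤ) (hq : q + 1 = q') (c : Fin (p + 1) → ι)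
    (z : (ddC U (pCx I) p q q').hom.ker) :
    (TCx.proj U (HP K q) p c).hom ((kap U K I θ p q q' hq).hom z) =
      clsP K I θ (TCx.W U c) q q' hq (projKer U I p q q' c z) := by
  have h : kap U K I θ p q q' hq ≫ TCx.proj U (HP K q) p c = AddCommGrpCat.ofHom
      ((clsP K I θ (TCx.W U c) q q' hq).comp (projKer U I p q q' c)) := Pi.lift_π _ c
  exact ConcreteCategory.congr_hom h z

lemma δ_mem (p : ℕ) (q q' : ℤ) (z : (ddC U (pCx I) p q q').hom.ker) :
    (δC U (pCx I) p q).hom z.1 ∈ (ddC U (pCx I) (p + 1) q q').hom.ker := by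
  rw [AddMonoidHom.mem_ker]
  have h := ConcreteCategory.congr_hom (ddC_δC U (pCx I) p q q') z.1
  have hz : (ddC U (pCx I) p q q').hom z.1 = 0 := AddMonoidHom.mem_ker.1 z.2
  change (δC U (pCx I) p q').hom ((ddC U (pCx I) p q q').hom z.1) =
    (ddC U (pCx I) (p + 1) q q').hom ((δC U (pCx I) p q).hom z.1) at h
  rw [hz, map_zero] at h
  exact h.symm

/-- `kap` commutes with the Čech differentials -/
lemma kap_δ (p : ℕ) (q q' : ℤ) (hq : q + 1 = q') (z : (ddC U (pCx I) p q q').hom.ker) :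
    ((TCx.K U (HP K q)).d p (p + 1)).hom ((kap U K I θ p q q' hq).hom z) =
      (kap U K I θ (p + 1) q q' hq).hom ⟨(δC U (pCx I) p q).hom z.1, δ_mem U I p q q' z⟩ := by
  refine TCx.ext U (HP K q) (p + 1) _ _ (fun a => ?_)
  rw [TCx.d_apply, kap_proj]
  -- the right hand side
  have hR : projKer U I (p + 1) q q' a ⟨(δC U (pCx I) p q).hom z.1, δ_mem U I p q q' z⟩ =
      ∑ i : Fin (p + 2), (-1 : ℤ) ^ (i : ℕ) •
        (⟨(I.X q).obj.map (homOfLE (TCx.W_face_le U a i)).op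
            (projKer U I p q q' (fun k => a (i.succAbove k)) z).1,
          res_mem I q q' (homOfLE (TCx.W_face_le U a i))
            (projKer U I p q q' (fun k => a (i.succAbove k)) z)⟩ :
          (dSec I (TCx.W U a) q q').ker) := by
    apply Subtype.ext
    rw [AddSubgroup.val_finsetSum]
    simp only [AddSubgroup.coe_zsmul]
    exact TCx.d_apply U (I.X q).obj p a z.1
  rw [hR, map_sum]
  refine Finset.sum_congr rfl (fun i _ => ?_)
  rw [map_zsmul, kap_proj, clsP_res]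

/-- if the cochain of classes vanishes then the cochain is a `d`-coboundary -/
lemma exists_of_kap_eq_zero (p : ℕ) (q₁ q q' : ℤ) (h₁ : q₁ + 1 = q) (hq : q + 1 = q')
    (z : (ddC U (pCx I) p q q').hom.ker) (hz : (kap U K I θ p q q' hq).hom z = 0) :
    ∃ v : CX U (pCx I) p q₁, (ddC U (pCx I) p q₁ q).hom v = z.1 := by
  have h : ∀ c : Fin (p + 1) → ι, ∃ y : (I.X q₁).obj.obj (op (TCx.W U c)),
      dSec I (TCx.W U c) q₁ q y = (TCx.proj U (I.X q).obj p c).hom z.1 := by
    intro c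
    have h0 := kap_proj U K I θ p q q' hq c z
    rw [hz, map_zero] at h0
    exact (cls_eq_zero_iff K I θ (TCx.W U c) q₁ q q' h₁ hq _).1 h0.symm
  choose y hy using h
  obtain ⟨v, hv⟩ := TCx.exists_cochain U (I.X q₁).obj p y
  refine ⟨v, TCx.ext U (I.X q).obj p _ _ (fun c => ?_)⟩
  have h2 := map_proj_apply U ((pCx I).d q₁ q) p c v
  refine h2.trans ?_
  exact (congrArg (dSec I (TCx.W U c) q₁ q) (hv c)).trans (hy c)

/-- coboundaries have zero cochain of classes -/
lemma kap_dd (p : ℕ) (q₁ q q' : ℤ) (h₁ : q₁ + 1 = q) (hq : q + 1 = q')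
    (v : CX U (pCx I) p q₁) (hv : (ddC U (pCx I) p q₁ q).hom v ∈ (ddC U (pCx I) p q q').hom.ker) :
    (kap U K I θ p q q' hq).hom ⟨(ddC U (pCx I) p q₁ q).hom v, hv⟩ = 0 := by
  refine TCx.ext U (HP K q) p _ _ (fun c => ?_)
  rw [kap_proj, map_zero]
  refine (cls_eq_zero_iff K I θ (TCx.W U c) q₁ q q' h₁ hq _).2
    ⟨(TCx.proj U (I.X q₁).obj p c).hom v, ?_⟩
  exact (map_proj_apply U ((pCx I).d q₁ q) p c v).symm

/-- lifting a Čech cochain of classes -/
lemma exists_lift (p : ℕ) (q q' : ℤ) (hq : q + 1 = q') (e : (TCx.K U (HP K q)).X p) :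
    ∃ w : (ddC U (pCx I) p q q').hom.ker, (kap U K I θ p q q' hq).hom w = e := by
  have h : ∀ c : Fin (p + 1) → ι, ∃ s : (dSec I (TCx.W U c) q q').ker,
      clsP K I θ (TCx.W U c) q q' hq s = (TCx.proj U (HP K q) p c).hom e :=
    fun c => cls_surjective K I θ (TCx.W U c) q q' hq _
  choose s hs using h
  obtain ⟨w, hw⟩ := TCx.exists_cochain U (I.X q).obj p (fun c => (s c).1)
  have hwk : w ∈ (ddC U (pCx I) p q q').hom.ker := by
    refine AddMonoidHom.mem_ker.2 ?_
    refine TCx.ext U (I.X q').obj p _ _ (fun c => ?_)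
    have h2 := map_proj_apply U ((pCx I).d q q') p c w
    refine h2.trans ?_
    refine (congrArg (dSec I (TCx.W U c) q q') (hw c)).trans ?_
    exact (AddMonoidHom.mem_ker.1 (s c).2).trans (map_zero (TCx.proj U (I.X q').obj p c).hom).symm
  refine ⟨⟨w, hwk⟩, TCx.ext U (HP K q) p _ _ (fun c => ?_)⟩
  rw [kap_proj, ← hs c]
  congr 1
  exact Subtype.ext (hw c)

/-- the second property of the `E₂`-class, in positive Čech degree -/
lemma tau2_succ (p : ℕ) (q₁ q q' : ℤ) (h₁ : q₁ + 1 = q) (hq : q + 1 = q')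
    (z : (ddC U (pCx I) (p + 1) q q').hom.ker) (e : (TCx.K U (HP K q)).X p)
    (he : ((TCx.K U (HP K q)).d p (p + 1)).hom e = (kap U K I θ (p + 1) q q' hq).hom z) :
    ∃ (w : CX U (pCx I) p q) (v : CX U (pCx I) (p + 1) q₁),
      (ddC U (pCx I) p q q').hom w = 0 ∧
        z.1 = (δC U (pCx I) p q).hom w + (ddC U (pCx I) (p + 1) q₁ q).hom v := by
  obtain ⟨w, rfl⟩ := exists_lift U K I θ p q q' hq e
  rw [kap_δ] at he
  have h0 : (kap U K I θ (p + 1) q q' hq).hom
      (z - ⟨(δC U (pCx I) p q).hom w.1, δ_mem U I p q q' w⟩) = 0 := by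
    rw [map_sub, he, sub_self]
  obtain ⟨v, hv⟩ := exists_of_kap_eq_zero U K I θ (p + 1) q₁ q q' h₁ hq _ h0
  refine ⟨w.1, v, AddMonoidHom.mem_ker.1 w.2, ?_⟩
  have hv' : (ddC U (pCx I) (p + 1) q₁ q).hom v = z.1 - (δC U (pCx I) p q).hom w.1 := hv
  rw [hv', add_sub_cancel]

end Groth.Agent.Helper3.CD
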