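import Groth.Agent.Lib.Helper3.CD4

/-!
# The Čech-to-derived filtration on hypercohomology
-/

set_option autoImplicit false
universe u

open CategoryTheory Limits Opposite TopologicalSpace DerivedCategory

namespace Groth.Agent.Helper3.CD

open Groth.Agent.Helper1 Groth.Agent.Helper3.PB3

variable {X : TopCat.{u}} [HasDerivedCategory.{u} (CohTop.Ab X)] {ι : Type u} (U : ι → Opens X)
  (K I : CochainComplex (CohTop.Ab X) ℤ) [I.IsKInjective] (θ : Q.obj K ≅ Q.obj I) (i₀ : ℤ)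

/-- the presentation of the hypercohomology of `K` over the whole space -/
noncomputable def pres :
    ZZ.Pres (dbl U (pCx I)) i₀ (CohCx.HDU (Q.obj K) (i₀ + 1 + 1) (⊤ : Opens X)) where
  cls := cls K I θ ⊤ (i₀ + 1 + 1) (i₀ + 1 + 1 + 1) rfl
  surj := cls_surjective K I θ ⊤ (i₀ + 1 + 1) (i₀ + 1 + 1 + 1) rfl
  ker_iff s := cls_eq_zero_iff K I θ ⊤ (i₀ + 1) (i₀ + 1 + 1) (i₀ + 1 + 1 + 1) rfl rfl s

section Tau

variable (p : ℕ)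

/-- bi-cocycles are `d`-closed -/
noncomputable def inclZ : ↥(ZZ.Zp (dbl U (pCx I)) i₀ p) →+
    ↥(ddC U (pCx I) p (i₀ + 1 + 1 - p) (i₀ + 1 + 1 + 1 - p)).hom.ker :=
  AddMonoidHom.codRestrict (ZZ.Zp (dbl U (pCx I)) i₀ p).subtype _ (fun z => z.2.1)

lemma δ_eq_zero (z : ↥(ZZ.Zp (dbl U (pCx I)) i₀ p)) :
    (δC U (pCx I) p (i₀ + 1 + 1 - p)).hom z.1 = 0 := by
  have h : (δC U (pCx I) p (i₀ + 1 + 1 - p) ≫ castC U (pCx I) (p + 1) (i₀ + 1 + 1 - p)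
      (i₀ + 1 + 1 + 1 - ((p + 1 : ℕ) : ℤ)) (by push_cast; ring)).hom z.1 = 0 :=
    AddMonoidHom.mem_ker.1 z.2.2
  exact castC_injective U (pCx I) (p + 1) _ _ _ _ h

lemma kap_mem (z : ↥(ZZ.Zp (dbl U (pCx I)) i₀ p)) :
    (kap U K I θ p (i₀ + 1 + 1 - p) (i₀ + 1 + 1 + 1 - p) (by ring)).hom (inclZ U I i₀ p z) ∈
      ((TCx.K U (HP K (i₀ + 1 + 1 - p))).d p (p + 1)).hom.ker := by
  rw [AddMonoidHom.mem_ker, kap_δ]
  have h0 : (⟨(δC U (pCx I) p (i₀ + 1 + 1 - p)).hom (inclZ U I i₀ p z).1,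
      δ_mem U I p _ _ (inclZ U I i₀ p z)⟩ :
      ↥(ddC U (pCx I) (p + 1) (i₀ + 1 + 1 - p) (i₀ + 1 + 1 + 1 - p)).hom.ker) = 0 :=
    Subtype.ext (δ_eq_zero U I i₀ p z)
  rw [h0, map_zero]

/-- the cochain of classes of a bi-cocycle, as a Čech cocycle -/
noncomputable def kapZ : ↥(ZZ.Zp (dbl U (pCx I)) i₀ p) →+
    ↥((TCx.K U (HP K (i₀ + 1 + 1 - p))).d p (p + 1)).hom.ker :=
  AddMonoidHom.codRestrict
    ((kap U K I θ p (i₀ + 1 + 1 - p) (i₀ + 1 + 1 + 1 - p) (by ring)).hom.comp (inclZ U I i₀ p))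
    _ (kap_mem U K I θ i₀ p)

/-- the `E₂`-class of a bi-cocycle -/
noncomputable def tau : ↥(ZZ.Zp (dbl U (pCx I)) i₀ p) →+
    ((TCx.K U (HP K (i₀ + 1 + 1 - p))).homology p : AddCommGrpCat.{u}) :=
  (hcls (TCx.K U (HP K (i₀ + 1 + 1 - p))) p).comp (kapZ U K I θ i₀ p)

lemma tau1 (v : (dbl U (pCx I)).X p (i₀ + 1))
    (h : (dbl U (pCx I)).dv p (i₀ + 1) v ∈ ZZ.Zp (dbl U (pCx I)) i₀ p) :
    tau U K I θ i₀ p ⟨_, h⟩ = 0 := by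
  have h0 : kapZ U K I θ i₀ p ⟨_, h⟩ = 0 := by
    apply Subtype.ext
    exact kap_dd U K I θ p (i₀ + 1 - p) (i₀ + 1 + 1 - p) (i₀ + 1 + 1 + 1 - p) (by ring) (by ring)
      v h.1
  unfold tau
  rw [AddMonoidHom.comp_apply, h0, map_zero]

end Tau

lemma transport_w (p : ℕ) (j j' jn jn' : ℤ) (h : j = j') (hn : jn = jn')
    (w : CX U (pCx I) p j') (hw : (ddC U (pCx I) p j' jn').hom w = 0) :
    ∃ w' : CX U (pCx I) p j, (ddC U (pCx I) p j jn).hom w' = 0 ∧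
      (δC U (pCx I) p j ≫ castC U (pCx I) (p + 1) j j' h).hom w' = (δC U (pCx I) p j').hom w := by
  subst h hn
  refine ⟨w, hw, ?_⟩
  rw [castC_rfl, Category.comp_id]

lemma tau2 : ∀ (p : ℕ) (z : ↥(ZZ.Zp (dbl U (pCx I)) i₀ p)), tau U K I θ i₀ p z = 0 →
    ∃ (b : (dbl U (pCx I)).X p (i₀ + 1 + 1)) (v : (dbl U (pCx I)).X p (i₀ + 1)),
      ZZ.Bw (dbl U (pCx I)) i₀ p b ∧ z.1 = b + (dbl U (pCx I)).dv p (i₀ + 1) v
  | 0, z, hz => by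
      have h1 : (kapZ U K I θ i₀ 0 z).1 = 0 := (hcls_zero_iff _ _).1 hz
      obtain ⟨v, hv⟩ := exists_of_kap_eq_zero U K I θ 0 (i₀ + 1 - ((0 : ℕ) : ℤ))
        (i₀ + 1 + 1 - ((0 : ℕ) : ℤ)) (i₀ + 1 + 1 + 1 - ((0 : ℕ) : ℤ)) (by ring) (by ring)
        (inclZ U I i₀ 0 z) h1
      refine ⟨0, v, rfl, ?_⟩
      rw [zero_add]
      exact hv.symm
  | p + 1, z, hz => by
      obtain ⟨e, he⟩ := (hcls_succ_iff _ p _).1 hz
      obtain ⟨w, v, hw, hzv⟩ := tau2_succ U K I θ p (i₀ + 1 - ((p + 1 : ℕ) : ℤ))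
        (i₀ + 1 + 1 - ((p + 1 : ℕ) : ℤ)) (i₀ + 1 + 1 + 1 - ((p + 1 : ℕ) : ℤ)) (by ring) (by ring)
        (inclZ U I i₀ (p + 1) z) e he
      obtain ⟨w', hw', hδ⟩ := transport_w U I p (i₀ + 1 - p) (i₀ + 1 + 1 - ((p + 1 : ℕ) : ℤ))
        (i₀ + 1 + 1 - p) (i₀ + 1 + 1 + 1 - ((p + 1 : ℕ) : ℤ)) (by push_cast; ring)
        (by push_cast; ring) w hw
      refine ⟨(δC U (pCx I) p (i₀ + 1 + 1 - ((p + 1 : ℕ) : ℤ))).hom w, v, ⟨w', hw', hδ⟩, hzv⟩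

section G1

lemma G1_fwd (j j' jn jn' : ℤ) (h : j = j') (hn : jn = jn') (s : (I.X jn).obj.obj (op ⊤))
    (v : CX U (pCx I) 0 j')
    (hv : (ddC U (pCx I) 0 j' jn').hom v = (aug U (pCx I) jn ≫ castC U (pCx I) 0 jn jn' hn).hom s)
    (i : ι) :
    ∃ y : (I.X j).obj.obj (op (U i)),
      dSec I (U i) j jn y = (I.X jn).obj.map (homOfLE (le_top : U i ≤ ⊤)).op s := by
  subst h hn
  rw [castC_rfl, Category.comp_id] at hv
  let c : Fin (0 + 1) → ι := fun _ => i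
  refine ⟨(I.X j).obj.map (homOfLE (le_W_const U i)).op ((TCx.proj U (I.X j).obj 0 c).hom v), ?_⟩
  rw [dSec_res]
  have h1 := map_proj_apply U ((pCx I).d j jn) 0 c v
  have h2 := aug_proj_apply U (pCx I) jn c s
  have h3 : dSec I (TCx.W U c) j jn ((TCx.proj U (I.X j).obj 0 c).hom v) =
      ((I.X jn).obj.map (homOfLE (le_top : TCx.W U c ≤ ⊤)).op).hom s :=
    h1.symm.trans ((congrArg (TCx.proj U ((pCx I).X jn) 0 c).hom hv).trans h2)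
  rw [h3]
  exact res_res_apply (I.X jn).obj _ _ s

lemma G1_bwd (j j' jn jn' : ℤ) (h : j = j') (hn : jn = jn') (s : (I.X jn).obj.obj (op ⊤))
    (y : ∀ i : ι, (I.X j).obj.obj (op (U i)))
    (hy : ∀ i : ι, dSec I (U i) j jn (y i) = (I.X jn).obj.map (homOfLE (le_top : U i ≤ ⊤)).op s) :
    ∃ v : CX U (pCx I) 0 j',
      (ddC U (pCx I) 0 j' jn').hom v = (aug U (pCx I) jn ≫ castC U (pCx I) 0 jn jn' hn).hom s := by
  subst h hn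
  obtain ⟨v, hv⟩ := TCx.exists_cochain U (I.X j).obj 0
    (fun c => (I.X j).obj.map (homOfLE (W_le_zero U c)).op (y (c 0)))
  refine ⟨v, ?_⟩
  rw [castC_rfl, Category.comp_id]
  refine TCx.ext U (I.X jn).obj 0 _ _ (fun c => ?_)
  have h1 := map_proj_apply U ((pCx I).d j jn) 0 c v
  have h2 := aug_proj_apply U (pCx I) jn c s
  refine h1.trans (Eq.trans ?_ h2.symm)
  refine (congrArg (dSec I (TCx.W U c) j jn) (hv c)).trans ?_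
  rw [dSec_res, hy]
  exact res_res_apply (I.X jn).obj _ _ s

end G1

/-- the Čech-to-derived filtration -/
theorem main (hcov : iSup U = ⊤) [∀ j, Injective (I.X j)] (a : ℤ)
    (hI : ∀ j : ℤ, j < a → IsZero (I.X j)) :
    ∃ N : ℕ, Antitone (ZZ.G (pres U K I θ i₀)) ∧ ZZ.G (pres U K I θ i₀) 0 = ⊤ ∧
      ZZ.G (pres U K I θ i₀) N = ⊥ ∧
      (∀ ξ : CohCx.HDU (Q.obj K) (i₀ + 1 + 1) (⊤ : Opens X), ξ ∈ ZZ.G (pres U K I θ i₀) 1 ↔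
        ∀ i : ι, CohCx.HDUres (Q.obj K) (i₀ + 1 + 1) (homOfLE le_top : U i ⟶ (⊤ : Opens X)) ξ = 0) ∧
      ∀ p : ℕ, ∃ S S' : Submodule ℤ
          ((TCx.K U (HP K (i₀ + 1 + 1 - p))).homology p : AddCommGrpCat.{u}), S ≤ S' ∧
        Nonempty ((↥(ZZ.G (pres U K I θ i₀) p) ⧸
          (ZZ.G (pres U K I θ i₀) (p + 1)).comap (ZZ.G (pres U K I θ i₀) p).subtype) ≃ₗ[ℤ]
            (↥S' ⧸ S.comap S'.subtype)) := by
  refine ⟨(i₀ + 1 - a + 1).toNat + 1, ZZ.G_antitone _, ZZ.G_zero _, ?_, ?_, ?_⟩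
  · refine ZZ.G_eq_bot (pres U K I θ i₀) ?_ ?_ ?_ _ ?_
    · intro s hs
      exact eps_injective U I hcov _ _ _ s hs
    · intro x hx
      exact ex0 U I hcov (i₀ + 1) (i₀ + 1 - ((0 : ℕ) : ℤ)) _ _ _ x hx
    · intro p x hx
      exact ex_pos U I p (i₀ - p) (i₀ + 1 - ((p + 1 : ℕ) : ℤ)) _ _ _ x hx
    · intro v
      refine eq_zero_of_isZero U I _ _ (hI _ ?_) v
      have := Int.self_le_toNat (i₀ + 1 - a + 1)
      omega
  · intro ξ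
    rw [ZZ.mem_G_one]
    constructor
    · rintro ⟨s, rfl, v, hv⟩ i
      change CohCx.HDUres (Q.obj K) (i₀ + 1 + 1) (homOfLE le_top : U i ⟶ (⊤ : Opens X))
        (cls K I θ ⊤ (i₀ + 1 + 1) (i₀ + 1 + 1 + 1) rfl s) = 0
      rw [cls_res, cls_eq_zero_iff K I θ (U i) (i₀ + 1) (i₀ + 1 + 1) (i₀ + 1 + 1 + 1) rfl rfl]
      exact G1_fwd U I (i₀ + 1) (i₀ + 1 - ((0 : ℕ) : ℤ)) (i₀ + 1 + 1)
        (i₀ + 1 + 1 - ((0 : ℕ) : ℤ)) (by simp) (by simp) s.1 v hv i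
    · intro h
      obtain ⟨s, rfl⟩ := cls_surjective K I θ ⊤ (i₀ + 1 + 1) (i₀ + 1 + 1 + 1) rfl ξ
      have h' : ∀ i : ι, ∃ y : (I.X (i₀ + 1)).obj.obj (op (U i)),
          dSec I (U i) (i₀ + 1) (i₀ + 1 + 1) y =
            (I.X (i₀ + 1 + 1)).obj.map (homOfLE (le_top : U i ≤ ⊤)).op s.1 := by
        intro i
        have hi := h i
        rw [cls_res, cls_eq_zero_iff K I θ (U i) (i₀ + 1) (i₀ + 1 + 1) (i₀ + 1 + 1 + 1) rfl rfl]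
          at hi
        exact hi
      choose y hy using h'
      obtain ⟨v, hv⟩ := G1_bwd U I (i₀ + 1) (i₀ + 1 - ((0 : ℕ) : ℤ)) (i₀ + 1 + 1)
        (i₀ + 1 + 1 - ((0 : ℕ) : ℤ)) (by simp) (by simp) s.1 y hy
      exact ⟨s, rfl, v, hv⟩
  · intro p
    exact ZZ.gr_iso (pres U K I θ i₀) p (tau U K I θ i₀ p) (tau1 U K I θ i₀ p)
      (tau2 U K I θ i₀ p)

end Groth.Agent.Helper3.CD
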