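import Mathlib
import Groth.Agent.Lib.Helper7.LimSec
import Groth.Agent.Lib.Helper7.LimBC
import Groth.Agent.Lib.Helper7.ConsPair.LimLocus

set_option autoImplicit false
set_option linter.style.haveILetI false
open CategoryTheory CategoryTheory.Limits AlgebraicGeometry Opposite TopologicalSpace Topology
universe u

/-! helper3: completely decomposed morphisms and cofiltered limits: a rational point of the base
change to the limit over a point spreads out to a section over a locally closed constructible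
piece of a finite stage; compactness of the constructible topology then gives a uniform stage. -/

namespace Groth.Agent.Helper3.CDLim

open Groth.Agent.Helper7 Groth.Agent.Helper7.ProConsLib

section RatPt

/-- `X₀` has a `κ(z)`-point lying over the point `z` of `Z ⟶ Y₀`. -/
def HasRatPt {X₀ Y₀ : Scheme.{u}} (f₀ : X₀ ⟶ Y₀) {Z : Scheme.{u}} (g : Z ⟶ Y₀) (z : Z) : Prop :=
  ∃ ρ : Spec (Z.residueField z) ⟶ X₀, ρ ≫ f₀ = Z.fromSpecResidueField z ≫ g

theorem HasRatPt.comp {X₀ Y₀ : Scheme.{u}} {f₀ : X₀ ⟶ Y₀} {Z Z' : Scheme.{u}} {g : Z ⟶ Y₀}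
    (h : Z' ⟶ Z) (z' : Z') (H : HasRatPt f₀ g (h z')) : HasRatPt f₀ (h ≫ g) z' := by
  obtain ⟨ρ, hρ⟩ := H
  refine ⟨Spec.map (h.residueFieldMap z') ≫ ρ, ?_⟩
  rw [Category.assoc, hρ, Scheme.Hom.SpecMap_residueFieldMap_fromSpecResidueField_assoc]

theorem residueFieldMap_bijective_of_isPreimmersion {T Z : Scheme.{u}} (ι : T ⟶ Z)
    [IsPreimmersion ι] (t : T) : Function.Bijective (ι.residueFieldMap t) := by
  refine ⟨(ι.residueFieldMap t).hom.injective, ?_⟩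
  intro a
  obtain ⟨b, rfl⟩ := T.residue_surjective t a
  obtain ⟨c, rfl⟩ := ι.stalkMap_surjective t b
  refine ⟨Z.residue (ι t) c, ?_⟩
  exact ConcreteCategory.congr_hom (Scheme.residue_residueFieldMap ι t) c

theorem hasRatPt_of_isPreimmersion {X₀ Y₀ : Scheme.{u}} (f₀ : X₀ ⟶ Y₀) {T Z : Scheme.{u}}
    (ι : T ⟶ Z) [IsPreimmersion ι] (σ : T ⟶ X₀) (g : Z ⟶ Y₀) (hσ : σ ≫ f₀ = ι ≫ g) (t : T) :
    HasRatPt f₀ g (ι t) := by
  haveI : IsIso (ι.residueFieldMap t) :=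
    (ConcreteCategory.isIso_iff_bijective _).mpr (residueFieldMap_bijective_of_isPreimmersion ι t)
  refine ⟨Spec.map (inv (ι.residueFieldMap t)) ≫ T.fromSpecResidueField t ≫ σ, ?_⟩
  rw [Category.assoc, Category.assoc, hσ,
    ← Scheme.Hom.SpecMap_residueFieldMap_fromSpecResidueField_assoc, ← Spec.map_comp_assoc,
    IsIso.hom_inv_id, Spec.map_id, Category.id_comp]

theorem desc_bijective {K : Type u} [Field K] {Y : Scheme.{u}} (y : Y)
    (e : Y.residueField y ⟶ .of K) (he : Function.Bijective e) :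
    Function.Bijective (Scheme.descResidueField
      (Scheme.stalkClosedPointTo (Spec.map e ≫ Y.fromSpecResidueField y))) := by
  set g := Spec.map e ≫ Y.fromSpecResidueField y with hg
  have hpt : g (IsLocalRing.closedPoint K) = y := by
    rw [hg, Scheme.Hom.comp_apply, Scheme.fromSpecResidueField_apply]
  have h1 := Scheme.descResidueField_stalkClosedPointTo_fromSpecResidueField K Y g
  rw [← Scheme.residueFieldCongr_fromSpecResidueField hpt.symm, ← Spec.map_comp_assoc] at h1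
  have h2 : (Y.residueFieldCongr hpt.symm).hom ≫
      Scheme.descResidueField (Scheme.stalkClosedPointTo g) = e := by
    apply Spec.map_injective
    rw [← cancel_mono (Y.fromSpecResidueField y)]
    exact h1
  have h3 : Scheme.descResidueField (Scheme.stalkClosedPointTo g) =
      (Y.residueFieldCongr hpt.symm).inv ≫ e := by
    rw [← h2, Iso.inv_hom_id_assoc]
  rw [h3]
  have hb : Function.Bijective (Y.residueFieldCongr hpt.symm).inv :=
    (ConcreteCategory.isIso_iff_bijective _).mp inferInstance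
  exact he.comp hb

theorem exists_of_lift {K : Type u} [Field K] {X Y : Scheme.{u}} (f : X ⟶ Y) (y : Y)
    (e : Y.residueField y ⟶ .of K) (he : Function.Bijective e)
    (ρ : Spec (.of K) ⟶ X) (hρ : ρ ≫ f = Spec.map e ≫ Y.fromSpecResidueField y) :
    ∃ x : X, f x = y ∧ Function.Bijective (f.residueFieldMap x) := by
  refine ⟨ρ (IsLocalRing.closedPoint K), ?_, ?_⟩
  · rw [← Scheme.Hom.comp_apply, hρ, Scheme.Hom.comp_apply, Scheme.fromSpecResidueField_apply]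
  · have key : ∀ g : Spec (.of K) ⟶ Y, g = Spec.map e ≫ Y.fromSpecResidueField y →
        Function.Bijective (Scheme.descResidueField (Scheme.stalkClosedPointTo g)) := by
      rintro g rfl
      exact desc_bijective y e he
    have h1 := key (ρ ≫ f) hρ
    have h2 : Scheme.descResidueField (Scheme.stalkClosedPointTo (ρ ≫ f)) =
        f.residueFieldMap (ρ (IsLocalRing.closedPoint K)) ≫
          Scheme.descResidueField (Scheme.stalkClosedPointTo ρ) :=
      Scheme.descResidueField_stalkClosedPointTo_comp f ρ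
    rw [h2] at h1
    have hinj : Function.Injective
        (Scheme.descResidueField (Scheme.stalkClosedPointTo ρ)) :=
      (Scheme.descResidueField (Scheme.stalkClosedPointTo ρ)).hom.injective
    refine ⟨(f.residueFieldMap _).hom.injective, fun a => ?_⟩
    obtain ⟨b, hb⟩ := h1.2 (Scheme.descResidueField (Scheme.stalkClosedPointTo ρ) a)
    exact ⟨b, hinj hb⟩

theorem hasRatPt_iff {X Y : Scheme.{u}} (f : X ⟶ Y) (y : Y) :
    (∃ x : X, f x = y ∧ Function.Bijective (f.residueFieldMap x)) ↔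
      ∃ ρ : Spec (Y.residueField y) ⟶ X, ρ ≫ f = Y.fromSpecResidueField y := by
  constructor
  · rintro ⟨x, rfl, hb⟩
    haveI : IsIso (f.residueFieldMap x) := (ConcreteCategory.isIso_iff_bijective _).mpr hb
    refine ⟨Spec.map (inv (f.residueFieldMap x)) ≫ X.fromSpecResidueField x, ?_⟩
    rw [Category.assoc, ← Scheme.Hom.SpecMap_residueFieldMap_fromSpecResidueField,
      ← Spec.map_comp_assoc, IsIso.hom_inv_id, Spec.map_id, Category.id_comp]
  · rintro ⟨ρ, hρ⟩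
    refine exists_of_lift (K := Y.residueField y) f y (𝟙 _) Function.bijective_id ρ ?_
    rw [hρ]
    exact ((congrArg (· ≫ Y.fromSpecResidueField y) (Spec.map_id _)).trans
      (Category.id_comp _)).symm

end RatPt

section Alg

theorem alg_a {B₀ C₀ B K : Type u} [CommRing B₀] [CommRing C₀] [CommRing B] [Field K]
    (φ₀ : B₀ →+* C₀) (hφ₀ : φ₀.FinitePresentation) (β : B →+* K) (ψ : C₀ →+* K)
    (hfrac : ∀ c : K, ∃ b s : B, β s ≠ 0 ∧ c * β s = β b) :
    ∃ (n : ℕ) (π' : MvPolynomial (Fin n) B₀ →+* C₀) (G : Finset (MvPolynomial (Fin n) B₀))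
      (s : B) (b : Fin n → B),
      Function.Surjective π' ∧ (∀ a, π' (MvPolynomial.C a) = φ₀ a) ∧
      Ideal.span (G : Set (MvPolynomial (Fin n) B₀)) = RingHom.ker π' ∧
      β s ≠ 0 ∧ ∀ k, ψ (π' (MvPolynomial.X k)) * β s = β (b k) := by
  classical
  letI := φ₀.toAlgebra
  obtain ⟨n, π, hπs, hπk⟩ := @Algebra.FinitePresentation.out B₀ C₀ _ _ φ₀.toAlgebra hφ₀
  obtain ⟨G, hG⟩ := hπk
  choose b s hs hbs using fun k : Fin n => hfrac (ψ (π (MvPolynomial.X k)))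
  refine ⟨n, π.toRingHom, G, ∏ k, s k, fun k => b k * ∏ l ∈ Finset.univ.erase k, s l, hπs, ?_, hG,
    ?_, ?_⟩
  · intro a
    exact π.commutes a
  · rw [map_prod]
    exact Finset.prod_ne_zero_iff.mpr fun k _ => hs k
  · intro k
    calc ψ (π.toRingHom (MvPolynomial.X k)) * β (∏ l, s l)
        = ψ (π (MvPolynomial.X k)) * (β (s k) * ∏ l ∈ Finset.univ.erase k, β (s l)) := by
          rw [map_prod, ← Finset.mul_prod_erase Finset.univ (fun l => β (s l)) (Finset.mem_univ k)]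
          rfl
      _ = (ψ (π (MvPolynomial.X k)) * β (s k)) * ∏ l ∈ Finset.univ.erase k, β (s l) := by ring
      _ = β (b k) * ∏ l ∈ Finset.univ.erase k, β (s l) := by rw [hbs k]
      _ = β (b k * ∏ l ∈ Finset.univ.erase k, s l) := by rw [map_mul, map_prod]

theorem alg_b {B₀ C₀ Bj B K : Type u} [CommRing B₀] [CommRing C₀] [CommRing Bj] [CommRing B]
    [Field K]
    (φ₀ : B₀ →+* C₀) (α₀ : B₀ →+* Bj) (τ : Bj →+* B) (β : B →+* K) (ψ : C₀ →+* K)
    (hcomp : ψ.comp φ₀ = (β.comp τ).comp α₀)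
    {n : ℕ} (π' : MvPolynomial (Fin n) B₀ →+* C₀) (G : Finset (MvPolynomial (Fin n) B₀))
    (hπs : Function.Surjective π') (hπC : ∀ a, π' (MvPolynomial.C a) = φ₀ a)
    (hG : Ideal.span (G : Set (MvPolynomial (Fin n) B₀)) = RingHom.ker π')
    (sj : Bj) (bj : Fin n → Bj) (hs : β (τ sj) ≠ 0)
    (hb : ∀ k, ψ (π' (MvPolynomial.X k)) * β (τ sj) = β (τ (bj k))) :
    ∃ (𝔟 : Ideal (Localization.Away sj)) (ψj : C₀ →+* Localization.Away sj ⧸ 𝔟)
      (χ : Localization.Away sj ⧸ 𝔟 →+* K), 𝔟.FG ∧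
      ψj.comp φ₀ = ((Ideal.Quotient.mk 𝔟).comp (algebraMap Bj (Localization.Away sj))).comp α₀ ∧
      χ.comp ((Ideal.Quotient.mk 𝔟).comp (algebraMap Bj (Localization.Away sj))) = β.comp τ := by
  classical
  let loc : Bj →+* Localization.Away sj := algebraMap Bj (Localization.Away sj)
  let u : Fin n → Localization.Away sj := fun k =>
    IsLocalization.mk' (Localization.Away sj) (bj k)
      (⟨sj, Submonoid.mem_powers sj⟩ : Submonoid.powers sj)
  have hu : ∀ k, u k * loc sj = loc (bj k) := fun k =>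
    IsLocalization.mk'_spec (Localization.Away sj) (bj k) _
  let ev : MvPolynomial (Fin n) B₀ →+* Localization.Away sj :=
    MvPolynomial.eval₂Hom (loc.comp α₀) u
  have hevC : ∀ a, ev (MvPolynomial.C a) = loc (α₀ a) := fun a => by
    simp [ev]
  have hevX : ∀ k, ev (MvPolynomial.X k) = u k := fun k => by
    simp [ev]
  let 𝔟 : Ideal (Localization.Away sj) :=
    Ideal.span ((G.image ev : Finset (Localization.Away sj)) : Set (Localization.Away sj))
  have hunit : IsUnit ((β.comp τ) sj) := isUnit_iff_ne_zero.mpr hs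
  let χt : Localization.Away sj →+* K := IsLocalization.Away.lift sj hunit
  have hχt : ∀ a, χt (loc a) = β (τ a) := fun a => IsLocalization.Away.lift_eq sj hunit a
  have hχu : ∀ k, χt (u k) = ψ (π' (MvPolynomial.X k)) := by
    intro k
    have h1 := congrArg χt (hu k)
    rw [map_mul, hχt, hχt, ← hb k] at h1
    exact mul_right_cancel₀ hs h1
  have hagree : χt.comp ev = ψ.comp π' := by
    apply MvPolynomial.ringHom_ext
    · intro a
      rw [RingHom.comp_apply, RingHom.comp_apply, hevC, hχt, hπC]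
      exact (RingHom.congr_fun hcomp a).symm
    · intro k
      rw [RingHom.comp_apply, RingHom.comp_apply, hevX, hχu]
  have hker : ∀ a ∈ 𝔟, χt a = 0 := by
    intro a ha
    have : 𝔟 ≤ RingHom.ker χt := by
      rw [Ideal.span_le]
      intro a ha
      obtain ⟨g, hg, rfl⟩ := Finset.mem_image.mp (Finset.mem_coe.mp ha)
      have hg' : g ∈ RingHom.ker π' := hG ▸ Ideal.subset_span (Finset.mem_coe.mpr hg)
      rw [SetLike.mem_coe, RingHom.mem_ker]
      have h2 := RingHom.congr_fun hagree g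
      rw [RingHom.comp_apply, RingHom.comp_apply] at h2
      rw [h2, RingHom.mem_ker.mp hg', map_zero]
    exact RingHom.mem_ker.mp (this ha)
  let χ : Localization.Away sj ⧸ 𝔟 →+* K := Ideal.Quotient.lift 𝔟 χt hker
  let q : Localization.Away sj →+* Localization.Away sj ⧸ 𝔟 := Ideal.Quotient.mk 𝔟
  have hkill : RingHom.ker π' ≤ RingHom.ker (q.comp ev) := by
    rw [← hG, Ideal.span_le]
    intro g hg
    rw [SetLike.mem_coe, RingHom.mem_ker, RingHom.comp_apply, Ideal.Quotient.eq_zero_iff_mem]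
    exact Ideal.subset_span (Finset.mem_coe.mpr (Finset.mem_image_of_mem ev (Finset.mem_coe.mp hg)))
  let ψj : C₀ →+* Localization.Away sj ⧸ 𝔟 := RingHom.liftOfSurjective π' hπs ⟨q.comp ev, hkill⟩
  have hψj : ∀ p, ψj (π' p) = q (ev p) := fun p =>
    RingHom.liftOfSurjective_comp_apply π' hπs ⟨q.comp ev, hkill⟩ p
  refine ⟨𝔟, ψj, χ, ⟨G.image ev, rfl⟩, ?_, ?_⟩
  · ext a
    rw [RingHom.comp_apply, ← hπC, hψj, hevC]
    rfl
  · ext a
    rw [RingHom.comp_apply, RingHom.comp_apply]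
    exact (Ideal.Quotient.lift_mk 𝔟 χt hker).trans (hχt a)

end Alg

section Gen

theorem evaluation_fromSpec {X : Scheme.{u}} {V : X.Opens} (hV : IsAffineOpen V) (y : X)
    (hy : y ∈ V) : Spec.map (X.evaluation V y hy) ≫ hV.fromSpec = X.fromSpecResidueField y := by
  rw [Scheme.fromSpecResidueField, ← hV.fromSpecStalk_eq_fromSpecStalk hy,
    IsAffineOpen.fromSpecStalk, ← Spec.map_comp_assoc]
  rfl

theorem exists_frac {X : Scheme.{u}} {V : X.Opens} (hV : IsAffineOpen V) (x : V)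
    (a : X.residueField x.1) :
    ∃ b s : Γ(X, V), (X.evaluation V x.1 x.2).hom s ≠ 0 ∧
      a * (X.evaluation V x.1 x.2).hom s = (X.evaluation V x.1 x.2).hom b := by
  haveI := hV.isLocalization_stalk x
  obtain ⟨a', rfl⟩ := X.residue_surjective x.1 a
  obtain ⟨⟨b, s⟩, hbs⟩ := IsLocalization.surj (hV.primeIdealOf x).asIdeal.primeCompl a'
  refine ⟨b, s.1, ?_, ?_⟩
  · have hu : IsUnit (algebraMap Γ(X, V) (X.presheaf.stalk x.1) s.1) :=
      IsLocalization.map_units _ s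
    exact (hu.map (X.residue x.1).hom).ne_zero
  · have := congrArg (X.residue x.1).hom hbs
    rw [map_mul] at this
    exact this

set_option backward.isDefEq.respectTransparency false in
/-- the algebraic spreading-out step, for a fixed stage. -/
theorem spread_gen {X Yj Y₀ X₀ : Scheme.{u}} (p : X ⟶ Y₀) (pj : X ⟶ Yj) (θ : Yj ⟶ Y₀)
    (hp : pj ≫ θ = p) (f₀ : X₀ ⟶ Y₀) [QuasiSeparatedSpace Yj]
    {V₀ : Y₀.Opens} (hV₀ : IsAffineOpen V₀) {U₀ : X₀.Opens} (hU₀ : IsAffineOpen U₀)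
    (e₀ : U₀ ≤ f₀ ⁻¹ᵁ V₀) {V : X.Opens} (hV : IsAffineOpen V) (eV : V ≤ p ⁻¹ᵁ V₀)
    {Vj : Yj.Opens} (hVj : IsAffineOpen Vj) (eθ : Vj ≤ θ ⁻¹ᵁ V₀) (ej : V ≤ pj ⁻¹ᵁ Vj)
    (y : X) (hy : y ∈ V)
    (ρ₀ : Spec (X.residueField y) ⟶ Spec Γ(X₀, U₀))
    (hρ : (ρ₀ ≫ hU₀.fromSpec) ≫ f₀ = X.fromSpecResidueField y ≫ p)
    {n : ℕ} (π' : MvPolynomial (Fin n) Γ(Y₀, V₀) →+* Γ(X₀, U₀))
    (G : Finset (MvPolynomial (Fin n) Γ(Y₀, V₀)))
    (hπs : Function.Surjective π')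
    (hπC : ∀ a, π' (MvPolynomial.C a) = (f₀.appLE V₀ U₀ e₀).hom a)
    (hG : Ideal.span (G : Set (MvPolynomial (Fin n) Γ(Y₀, V₀))) = RingHom.ker π')
    (sj : Γ(Yj, Vj)) (bj : Fin n → Γ(Yj, Vj))
    (hs : (X.evaluation V y hy).hom ((pj.appLE Vj V ej).hom sj) ≠ 0)
    (hb : ∀ k, (Spec.preimage ρ₀).hom (π' (MvPolynomial.X k)) *
        (X.evaluation V y hy).hom ((pj.appLE Vj V ej).hom sj) =
        (X.evaluation V y hy).hom ((pj.appLE Vj V ej).hom (bj k))) :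
    ∃ W : Set Yj, IsLocallyConstructible W ∧ pj y ∈ W ∧ ∀ w ∈ W, HasRatPt f₀ θ w := by
  classical
  subst hp
  let pt : Spec (X.residueField y) := default
  let β := X.evaluation V y hy
  let ψ : Γ(X₀, U₀) ⟶ X.residueField y := Spec.preimage ρ₀
  let φ₀ := f₀.appLE V₀ U₀ e₀
  let π₀ := (pj ≫ θ).appLE V₀ V eV
  let τ := pj.appLE Vj V ej
  let α₀ := θ.appLE V₀ Vj eθ
  have K0 : Spec.map β ≫ hV.fromSpec = X.fromSpecResidueField y := evaluation_fromSpec hV y hy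
  have K1 : φ₀ ≫ ψ = π₀ ≫ β := by
    apply Spec.map_injective
    rw [← cancel_mono hV₀.fromSpec]
    calc Spec.map (φ₀ ≫ ψ) ≫ hV₀.fromSpec
        = Spec.map ψ ≫ Spec.map φ₀ ≫ hV₀.fromSpec := by rw [Spec.map_comp, Category.assoc]
      _ = ρ₀ ≫ hU₀.fromSpec ≫ f₀ := by
          rw [IsAffineOpen.SpecMap_appLE_fromSpec f₀ hV₀ hU₀ e₀, Spec.map_preimage]
      _ = X.fromSpecResidueField y ≫ pj ≫ θ := by rw [← Category.assoc, hρ]
      _ = Spec.map β ≫ hV.fromSpec ≫ pj ≫ θ := by rw [← K0, Category.assoc]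
      _ = Spec.map β ≫ Spec.map π₀ ≫ hV₀.fromSpec := by
          rw [IsAffineOpen.SpecMap_appLE_fromSpec (pj ≫ θ) hV₀ hV eV]
      _ = Spec.map (π₀ ≫ β) ≫ hV₀.fromSpec := by rw [Spec.map_comp, Category.assoc]
  have K3 : α₀ ≫ τ = π₀ := Scheme.Hom.appLE_comp_appLE pj θ V₀ Vj V eθ ej
  have hcomp : ψ.hom.comp φ₀.hom = (β.hom.comp τ.hom).comp α₀.hom := by
    ext a
    have := ConcreteCategory.congr_hom (K1.trans (by rw [← K3, Category.assoc])) a
    exact this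
  obtain ⟨𝔟, ψj, χ, h𝔟, hψj, hχ⟩ := alg_b φ₀.hom α₀.hom τ.hom β.hom ψ.hom hcomp π' G hπs hπC hG
    sj bj hs hb
  -- the scheme data
  let r₁ : Γ(Yj, Vj) ⟶ CommRingCat.of (Localization.Away sj) :=
    CommRingCat.ofHom (algebraMap _ (Localization.Away sj))
  let r₂ : CommRingCat.of (Localization.Away sj) ⟶ CommRingCat.of (Localization.Away sj ⧸ 𝔟) :=
    CommRingCat.ofHom (Ideal.Quotient.mk 𝔟)
  let ψj' : Γ(X₀, U₀) ⟶ CommRingCat.of (Localization.Away sj ⧸ 𝔟) := CommRingCat.ofHom ψj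
  let χ' : CommRingCat.of (Localization.Away sj ⧸ 𝔟) ⟶ X.residueField y := CommRingCat.ofHom χ
  haveI : IsOpenImmersion (Spec.map r₁) := by
    show IsOpenImmersion (Spec.map (CommRingCat.ofHom (algebraMap _ (Localization.Away sj))))
    infer_instance
  haveI : IsClosedImmersion (Spec.map r₂) :=
    IsClosedImmersion.spec_of_surjective r₂ Ideal.Quotient.mk_surjective
  haveI : LocallyOfFinitePresentation (Spec.map r₂) := by
    rw [HasRingHomProperty.Spec_iff (P := @LocallyOfFinitePresentation)]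
    refine RingHom.FinitePresentation.of_surjective _ Ideal.Quotient.mk_surjective ?_
    show (RingHom.ker (Ideal.Quotient.mk 𝔟)).FG
    rw [Ideal.mk_ker]
    exact h𝔟
  let ι : Spec (CommRingCat.of (Localization.Away sj ⧸ 𝔟)) ⟶ Yj :=
    Spec.map r₂ ≫ Spec.map r₁ ≫ hVj.fromSpec
  let σ : Spec (CommRingCat.of (Localization.Away sj ⧸ 𝔟)) ⟶ X₀ := Spec.map ψj' ≫ hU₀.fromSpec
  have e1 : φ₀ ≫ ψj' = α₀ ≫ r₁ ≫ r₂ := by
    ext a
    exact RingHom.congr_fun hψj a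
  have hA : Spec.map ψj' ≫ Spec.map φ₀ = Spec.map r₂ ≫ Spec.map r₁ ≫ Spec.map α₀ := by
    rw [← Spec.map_comp, ← Spec.map_comp, ← Spec.map_comp, e1, Category.assoc]
  have P1 : σ ≫ f₀ = ι ≫ θ := by
    calc σ ≫ f₀ = Spec.map ψj' ≫ hU₀.fromSpec ≫ f₀ := Category.assoc _ _ _
      _ = Spec.map ψj' ≫ Spec.map φ₀ ≫ hV₀.fromSpec := by
          rw [IsAffineOpen.SpecMap_appLE_fromSpec f₀ hV₀ hU₀ e₀]
      _ = (Spec.map r₂ ≫ Spec.map r₁ ≫ Spec.map α₀) ≫ hV₀.fromSpec := by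
          rw [← Category.assoc, hA]
      _ = Spec.map r₂ ≫ Spec.map r₁ ≫ Spec.map α₀ ≫ hV₀.fromSpec := by
          simp only [Category.assoc]
      _ = Spec.map r₂ ≫ Spec.map r₁ ≫ hVj.fromSpec ≫ θ := by
          rw [IsAffineOpen.SpecMap_appLE_fromSpec θ hV₀ hVj eθ]
      _ = ι ≫ θ := by simp only [ι, Category.assoc]
  have e2 : r₁ ≫ r₂ ≫ χ' = τ ≫ β := by
    ext a
    exact RingHom.congr_fun hχ a
  have hB : Spec.map χ' ≫ Spec.map r₂ ≫ Spec.map r₁ = Spec.map β ≫ Spec.map τ := by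
    rw [← Spec.map_comp, ← Spec.map_comp, ← Spec.map_comp, Category.assoc, e2]
  have P2 : Spec.map χ' ≫ ι = X.fromSpecResidueField y ≫ pj := by
    calc Spec.map χ' ≫ ι = (Spec.map χ' ≫ Spec.map r₂ ≫ Spec.map r₁) ≫ hVj.fromSpec := by
          simp only [ι, Category.assoc]
      _ = Spec.map β ≫ Spec.map τ ≫ hVj.fromSpec := by rw [hB, Category.assoc]
      _ = Spec.map β ≫ hV.fromSpec ≫ pj := by
          rw [IsAffineOpen.SpecMap_appLE_fromSpec pj hVj hV ej]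
      _ = X.fromSpecResidueField y ≫ pj := by rw [← Category.assoc, K0]
  haveI : IsPreimmersion ι := by
    show IsPreimmersion (Spec.map r₂ ≫ Spec.map r₁ ≫ hVj.fromSpec)
    infer_instance
  haveI : LocallyOfFinitePresentation ι := by
    show LocallyOfFinitePresentation (Spec.map r₂ ≫ Spec.map r₁ ≫ hVj.fromSpec)
    infer_instance
  haveI : QuasiCompact ι := inferInstance
  refine ⟨Set.range ι, ?_, ?_, ?_⟩
  · have := ι.isLocallyConstructible_image (s := Set.univ) IsLocallyConstructible.univ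
    rwa [Set.image_univ] at this
  · refine ⟨Spec.map χ' pt, ?_⟩
    rw [← Scheme.Hom.comp_apply, P2, Scheme.Hom.comp_apply, Scheme.fromSpecResidueField_apply]
  · rintro _ ⟨t, rfl⟩
    exact hasRatPt_of_isPreimmersion f₀ ι σ θ P1 t

end Gen

section LocalGen

variable {I : Type u} [Category.{u} I] [IsCofiltered I] (D : I ⥤ Scheme.{u})
  [∀ {i j : I} (f : i ⟶ j), IsAffineHom (D.map f)]
  {X : Scheme.{u}} (p : ∀ j, X ⟶ D.obj j) (hp : ∀ {i j : I} (f : i ⟶ j), p i ≫ D.map f = p j)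

include hp in
theorem pre_le {i₀ k : I} (θ : k ⟶ i₀) (V₀ : (D.obj i₀).Opens) :
    p i₀ ⁻¹ᵁ V₀ ≤ p k ⁻¹ᵁ (D.map θ ⁻¹ᵁ V₀) := by
  rw [← Scheme.Hom.comp_preimage, hp]

set_option backward.isDefEq.respectTransparency false in
include hp in
theorem local_step_gen [∀ i, QuasiSeparatedSpace (D.obj i)] {i₀ : I} {X₀ : Scheme.{u}}
    (f₀ : X₀ ⟶ D.obj i₀) [LocallyOfFinitePresentation f₀] [IsAffineHom (p i₀)]
    (hdesc : ∀ (V₀ : (D.obj i₀).Opens), IsAffineOpen V₀ → ∀ a : Γ(X, p i₀ ⁻¹ᵁ V₀),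
      ∃ (j : I) (φ : j ⟶ i₀), ∀ (k : I) (ψ : k ⟶ j),
        ∃ a' : Γ(D.obj k, D.map (ψ ≫ φ) ⁻¹ᵁ V₀),
          (p k).appLE (D.map (ψ ≫ φ) ⁻¹ᵁ V₀) (p i₀ ⁻¹ᵁ V₀) (pre_le D p hp (ψ ≫ φ) V₀) a' = a)
    (y : X) (h : HasRatPt f₀ (p i₀) y) :
    ∃ (j : I) (θ : j ⟶ i₀) (W : Set (D.obj j)), IsLocallyConstructible W ∧ p j y ∈ W ∧
      ∀ w ∈ W, HasRatPt f₀ (D.map θ) w := by
  classical
  obtain ⟨ρ, hρ⟩ := h
  let pt : Spec (X.residueField y) := default
  have hx₀ : f₀ (ρ pt) = p i₀ y := by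
    rw [← Scheme.Hom.comp_apply, hρ, Scheme.Hom.comp_apply, Scheme.fromSpecResidueField_apply]
  obtain ⟨_, ⟨V₀, hV₀ : IsAffineOpen V₀, rfl⟩, hyV₀, -⟩ :=
    (D.obj i₀).isBasis_affineOpens.exists_subset_of_mem_open
      (Set.mem_univ (p i₀ y)) isOpen_univ
  have hx₀V : ρ pt ∈ f₀ ⁻¹ᵁ V₀ := by
    show f₀ (ρ pt) ∈ V₀
    rw [hx₀]; exact hyV₀
  obtain ⟨_, ⟨U₀, hU₀ : IsAffineOpen U₀, rfl⟩, hxU₀, hUV⟩ :=
    X₀.isBasis_affineOpens.exists_subset_of_mem_open hx₀V (f₀ ⁻¹ᵁ V₀).isOpen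
  have e₀ : U₀ ≤ f₀ ⁻¹ᵁ V₀ := hUV
  have hV : IsAffineOpen (p i₀ ⁻¹ᵁ V₀) := hV₀.preimage (p i₀)
  have hyV : y ∈ p i₀ ⁻¹ᵁ V₀ := hyV₀
  have hrange : Set.range ρ ⊆ Set.range hU₀.fromSpec := by
    rw [hU₀.range_fromSpec]
    rintro _ ⟨z, rfl⟩
    rw [Subsingleton.elim z pt]
    exact hxU₀
  let ρ₀ : Spec (X.residueField y) ⟶ Spec Γ(X₀, U₀) :=
    IsOpenImmersion.lift hU₀.fromSpec ρ hrange
  have hρ₀ : ρ₀ ≫ hU₀.fromSpec = ρ := IsOpenImmersion.lift_fac _ _ _
  have hφ₀ : (f₀.appLE V₀ U₀ e₀).hom.FinitePresentation :=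
    HasRingHomProperty.appLE (P := @LocallyOfFinitePresentation) f₀ inferInstance
      ⟨V₀, hV₀⟩ ⟨U₀, hU₀⟩ e₀
  obtain ⟨n, π', G, s, b, hπs, hπC, hG, hs, hb⟩ := alg_a (f₀.appLE V₀ U₀ e₀).hom hφ₀
    (X.evaluation (p i₀ ⁻¹ᵁ V₀) y hyV).hom (Spec.preimage ρ₀).hom
    (exists_frac hV ⟨y, hyV⟩)
  -- descend the finitely many sections to a stage
  let elems : Option (Fin n) → Γ(X, p i₀ ⁻¹ᵁ V₀) := fun o => o.elim s b
  obtain ⟨j, φ, hj⟩ := LimSec.eventually_forall_finite i₀ (Finset.univ : Finset (Option (Fin n)))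
    (fun o k θ => ∃ a' : Γ(D.obj k, D.map θ ⁻¹ᵁ V₀),
      (p k).appLE (D.map θ ⁻¹ᵁ V₀) (p i₀ ⁻¹ᵁ V₀) (pre_le D p hp θ V₀) a' = elems o)
    (fun o _ => hdesc V₀ hV₀ (elems o))
  obtain ⟨sj, hsj⟩ := hj j (𝟙 j) none (Finset.mem_univ _)
  choose bj hbj using fun k : Fin n => hj j (𝟙 j) (some k) (Finset.mem_univ _)
  have hVj : IsAffineOpen (D.map (𝟙 j ≫ φ) ⁻¹ᵁ V₀) := hV₀.preimage (D.map (𝟙 j ≫ φ))
  obtain ⟨W, hW, hyW, hWr⟩ := spread_gen (p i₀) (p j) (D.map (𝟙 j ≫ φ)) (hp _) f₀ hV₀ hU₀ e₀ hV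
    le_rfl hVj le_rfl (pre_le D p hp (𝟙 j ≫ φ) V₀) y hyV ρ₀ (by rw [hρ₀]; exact hρ) π' G hπs hπC hG
    sj bj
    (by
      have e : ((p j).appLE (D.map (𝟙 j ≫ φ) ⁻¹ᵁ V₀) (p i₀ ⁻¹ᵁ V₀)
          (pre_le D p hp (𝟙 j ≫ φ) V₀)).hom sj = s := hsj
      rw [e]; exact hs)
    (fun k => by
      have e : ((p j).appLE (D.map (𝟙 j ≫ φ) ⁻¹ᵁ V₀) (p i₀ ⁻¹ᵁ V₀)
          (pre_le D p hp (𝟙 j ≫ φ) V₀)).hom sj = s := hsj
      have e' : ((p j).appLE (D.map (𝟙 j ≫ φ) ⁻¹ᵁ V₀) (p i₀ ⁻¹ᵁ V₀)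
          (pre_le D p hp (𝟙 j ≫ φ) V₀)).hom (bj k) = b k := hbj k
      rw [e, e']; exact hb k)
  exact ⟨j, 𝟙 j ≫ φ, W, hW, hyW, hWr⟩

end LocalGen

section Local

variable {I : Type u} [Category.{u} I] [IsCofiltered I] (D : I ⥤ Scheme.{u}) (c : Cone D)
  (hc : IsLimit c) [∀ {i j : I} (f : i ⟶ j), IsAffineHom (D.map f)]
variable {i₀ : I} {X₀ : Scheme.{u}} (f₀ : X₀ ⟶ D.obj i₀) [LocallyOfFinitePresentation f₀]

set_option backward.isDefEq.respectTransparency false in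
include hc in
/-- a rational point over a point of the limit spreads out to rational points over all points
of a locally constructible subset of a finite stage containing the image of the point. -/
theorem local_step [∀ i, QuasiSeparatedSpace (D.obj i)] (y : c.pt)
    (h : HasRatPt (Z := c.pt) f₀ (c.π.app i₀) y) :
    ∃ (j : I) (θ : j ⟶ i₀) (W : Set (D.obj j)), IsLocallyConstructible W ∧ c.π.app j y ∈ W ∧
      ∀ w ∈ W, HasRatPt f₀ (D.map θ) w := by
  haveI : IsAffineHom (c.π.app i₀) := isAffineHom_π_app D c hc i₀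
  exact local_step_gen D (X := c.pt) (fun j => c.π.app j) (fun f => c.w f) f₀
    (fun V₀ hV₀ a => LimSec.eventually_mem_range_appLE D c hc i₀ V₀ hV₀ a) y h

include hc in
/-- if every point of the limit has a rational point over it, the same holds at a finite
stage. -/
theorem exists_stage_forall_hasRatPt [∀ i, CompactSpace (D.obj i)]
    [∀ i, QuasiSeparatedSpace (D.obj i)]
    (h : ∀ y : c.pt, HasRatPt (Z := c.pt) f₀ (c.π.app i₀) y) :
    ∃ (j : I) (θ : j ⟶ i₀), ∀ w : D.obj j, HasRatPt f₀ (D.map θ) w := by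
  classical
  let E : (Σ a : Over i₀, {W : Set (D.obj a.left) //
      IsLocallyConstructible W ∧ ∀ w ∈ W, HasRatPt f₀ (D.map a.hom) w}) → Set c.pt :=
    fun i => c.π.app i.1.left ⁻¹' i.2.1
  have hE : ∀ i, ProCons.IsIndConstructible (E i) := fun i =>
    isIndConstructible_of_isLocallyConstructible
      (isLocallyConstructible_preimage (c.π.app i.1.left) i.2.2.1)
  have hcov : (Set.univ : Set c.pt) ⊆ ⋃ i, E i := by
    intro y _
    obtain ⟨j, θ, W, hW, hyW, hWr⟩ := local_step D c hc f₀ y (h y)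
    exact Set.mem_iUnion.mpr ⟨⟨Over.mk θ, W, hW, hWr⟩, hyW⟩
  haveI : CompactSpace c.pt := Scheme.compactSpace_of_isLimit D c hc
  obtain ⟨t, ht⟩ := exists_finite_affine_cover c.pt
  obtain ⟨J, hJ⟩ := exists_finset_subset_iUnion (κ := t)
    (fun U => ((U.1 : c.pt.Opens) : Set c.pt))
    (fun U => (U.1 : c.pt.Opens).isOpen) (fun U => spectralSpace_affineOpen c.pt U.1)
    (fun x => by obtain ⟨U, hU, hx⟩ := ht x; exact ⟨⟨U, hU⟩, hx⟩)
    (isProConstructible_of_isLocallyConstructible IsLocallyConstructible.univ) E hE hcov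
  obtain ⟨S, hS⟩ := IsCofiltered.inf_objs_exists (J.image Sigma.fst)
  have ψ : ∀ i : J, S ⟶ i.1.1 := fun i => (hS (Finset.mem_image_of_mem _ i.2)).some
  let WS : Set (D.obj S.left) := ⋃ i : J, D.map (ψ i).left ⁻¹' i.1.2.1
  have hWS : IsLocallyConstructible WS :=
    .iUnion fun i => isLocallyConstructible_preimage _ i.1.2.2.1
  have hall : ∀ s : c.pt, c.π.app S.left s ∈ WS := by
    intro s
    obtain ⟨i, hi, hs⟩ : ∃ i ∈ J, s ∈ E i := by
      simpa using hJ (Set.mem_univ s)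
    refine Set.mem_iUnion.mpr ⟨⟨i, hi⟩, ?_⟩
    show D.map (ψ ⟨i, hi⟩).left (c.π.app S.left s) ∈ i.2.1
    rw [← Scheme.Hom.comp_apply, c.w]
    exact hs
  obtain ⟨j, φ, hj⟩ := ConsPair.exists_stage_preimage_eq_univ D c hc S.left
    (isIndConstructible_of_isLocallyConstructible hWS) hall
  refine ⟨j, φ ≫ S.hom, fun w => ?_⟩
  obtain ⟨i, hi⟩ := Set.mem_iUnion.mp (hj w)
  have h1 := i.1.2.2.2 _ hi
  have h2 := HasRatPt.comp (D.map φ) w (HasRatPt.comp (D.map (ψ i).left) (D.map φ w) h1)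
  rwa [← D.map_comp, Over.w, ← D.map_comp] at h2

end Local

section Main

set_option backward.isDefEq.respectTransparency false in
theorem main7191 {I : Type u} [SmallCategory I] [IsCofiltered I]
    (D : I ⥤ Scheme.{u}) (c : Cone D) (hc : IsLimit c)
    [∀ {i j : I} (a : i ⟶ j), IsAffineHom (D.map a)]
    (i0 : I) {X0 Y0 X Y : Scheme.{u}} (f0 : X0 ⟶ Y0) (q0 : Y0 ⟶ D.obj i0) [CompactSpace ↥Y0]
    [QuasiSeparatedSpace ↥Y0] [LocallyOfFinitePresentation f0]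
    (f : X ⟶ Y) (q : Y ⟶ c.pt) (pY : Y ⟶ Y0) (pX : X ⟶ X0)
    (hY : IsPullback pY q q0 (c.π.app i0)) (hX : IsPullback pX f f0 pY)
    (hcd : ∀ y : Y, ∃ x : X, f x = y ∧ Function.Bijective (f.residueFieldMap x)) :
    ∃ (i : I) (a : i ⟶ i0) (Xi Yi : Scheme.{u}) (fi : Xi ⟶ Yi) (qi : Yi ⟶ D.obj i)
      (pYi : Yi ⟶ Y0) (pXi : Xi ⟶ X0),
      IsPullback pYi qi q0 (D.map a) ∧ IsPullback pXi fi f0 pYi ∧
      ∀ y : Yi, ∃ x : Xi, fi x = y ∧ Function.Bijective (fi.residueFieldMap x) := by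
  haveI : LocallyOfFinitePresentation
      (pullback.snd f0 (pullback.fst q0 (D.map (Over.mk (𝟙 i0)).hom))) :=
    MorphismProperty.pullback_snd _ _ inferInstance
  obtain ⟨j, θ, hj⟩ := exists_stage_forall_hasRatPt (LimBC.bcDiagram D i0 q0) (LimBC.bcCone hY)
    (LimBC.isLimitBcCone hc hY) (i₀ := Over.mk (𝟙 i0))
    (pullback.snd f0 (pullback.fst q0 (D.map (Over.mk (𝟙 i0)).hom))) (fun y => by
      obtain ⟨ρX, hρX⟩ := (hasRatPt_iff f y).mp (hcd y)
      refine ⟨pullback.lift (ρX ≫ pX)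
        (Y.fromSpecResidueField y ≫ (LimBC.bcCone hY).π.app (Over.mk (𝟙 i0))) ?_,
        pullback.lift_snd _ _ _⟩
      rw [Category.assoc, hX.w, ← Category.assoc, hρX, Category.assoc,
        LimBC.bcCone_π_fst])
  refine ⟨j.left, j.hom, pullback f0 (pullback.fst q0 (D.map j.hom)), pullback q0 (D.map j.hom),
    pullback.snd _ _, pullback.snd _ _, pullback.fst _ _, pullback.fst _ _,
    IsPullback.of_hasPullback _ _, IsPullback.of_hasPullback _ _, fun y' => ?_⟩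
  obtain ⟨ρ', hρ'⟩ := hj y'
  rw [hasRatPt_iff]
  refine ⟨pullback.lift (ρ' ≫ pullback.fst f0 _)
    (Scheme.fromSpecResidueField _ y') ?_, pullback.lift_snd _ _ _⟩
  rw [Category.assoc, pullback.condition, ← Category.assoc, hρ', Category.assoc,
    LimBC.bcDiagram_map_fst]
  rfl

end Main

end Groth.Agent.Helper3.CDLim
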