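import Groth.Agent.Lib.Helper3.TotQis

/-!
# Total complexes and column-wise quasi-isomorphisms (via flipping)
-/

open CategoryTheory CategoryTheory.Limits

namespace Groth.Agent.Helper3.TotQis

universe v u
variable {A : Type u} [Category.{v} A] [Abelian A]

variable {K L : DC A} [K.HasTotal (ComplexShape.up ℤ)] [L.HasTotal (ComplexShape.up ℤ)]
  (φ : K ⟶ L)

/-- the flipped morphism -/
def flipMap : K.flip ⟶ L.flip :=
  (HomologicalComplex₂.flipFunctor A (ComplexShape.up ℤ) (ComplexShape.up ℤ)).map φ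

@[simp]
lemma flipMap_f_f (p q : ℤ) : ((flipMap φ).f q).f p = (φ.f p).f q := rfl

open HomologicalComplex₂ in
lemma totalFlipIso_naturality :
    total.map (flipMap φ) (ComplexShape.up ℤ) ≫ (L.totalFlipIso (ComplexShape.up ℤ)).hom =
      (K.totalFlipIso (ComplexShape.up ℤ)).hom ≫ total.map φ (ComplexShape.up ℤ) := by
  ext n q p h
  simp only [HomologicalComplex.comp_f]
  rw [ιTotal_map_assoc, ιTotal_totalFlipIso_f_hom, ιTotal_totalFlipIso_f_hom_assoc]
  have hn : p + q = n := by
    have : q + p = n := h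
    omega
  change (φ.f p).f q ≫ ((ComplexShape.up ℤ).σ (ComplexShape.up ℤ) (ComplexShape.up ℤ) p q •
      L.ιTotal (ComplexShape.up ℤ) p q n hn) =
    ((ComplexShape.up ℤ).σ (ComplexShape.up ℤ) (ComplexShape.up ℤ) p q •
      K.ιTotal (ComplexShape.up ℤ) p q n hn) ≫ (total.map φ (ComplexShape.up ℤ)).f n
  rw [Linear.units_smul_comp, Linear.comp_units_smul, ιTotal_map]

open HomologicalComplex₂ in
theorem quasiIso_total_map_of_flip (hφ : RowQis (flipMap φ))
    (hfin : ∀ n : ℤ, ∃ p₀ p₁ : ℤ, ∀ p, p < p₀ ∨ p₁ < p →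
      IsZero ((K.X p).X (n - p)) ∧ IsZero ((L.X p).X (n - p))) :
    QuasiIso (total.map φ (ComplexShape.up ℤ)) := by
  have h1 : QuasiIso (total.map (flipMap φ) (ComplexShape.up ℤ)) :=
    quasiIso_total_map (flipMap φ) hφ hfin
  have h2 : total.map φ (ComplexShape.up ℤ) =
      (K.totalFlipIso (ComplexShape.up ℤ)).inv ≫ total.map (flipMap φ) (ComplexShape.up ℤ) ≫
        (L.totalFlipIso (ComplexShape.up ℤ)).hom := by
    rw [totalFlipIso_naturality, Iso.inv_hom_id_assoc]
  rw [h2]
  infer_instance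

/-- column-wise quasi-isomorphisms give the elementwise condition for the flipped map -/
theorem rowQis_flipMap_of_quasiIso (h : ∀ p : ℤ, QuasiIso (φ.f p)) : RowQis (flipMap φ) := by
  constructor
  · intro q₀ q q₁ p hq₀ hq₁ Y x y hx hxy
    have hm : Mono (HomologicalComplex.homologyMap (φ.f p) q) := by
      have := (h p).quasiIsoAt q
      rw [quasiIsoAt_iff_isIso_homologyMap] at this
      infer_instance
    rw [HomologicalComplex.mono_homologyMap_iff_up_to_refinements _ q₀ q q₁
      (by simp; omega) (by simp; omega)] at hm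
    exact hm x hx y hxy
  · intro q₀ q q₁ p hq₀ hq₁ Y y hy
    have he : Epi (HomologicalComplex.homologyMap (φ.f p) q) := by
      have := (h p).quasiIsoAt q
      rw [quasiIsoAt_iff_isIso_homologyMap] at this
      infer_instance
    rw [HomologicalComplex.epi_homologyMap_iff_up_to_refinements _ q₀ q q₁
      (by simp; omega) (by simp; omega)] at he
    obtain ⟨Y', π, hπ, v, hv, t, e⟩ := he y hy
    exact ⟨Y', π, hπ, v, t, hv, e⟩

/-- The total complex functor sends a column-wise quasi-isomorphism to a quasi-isomorphism,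
provided that in each total degree only finitely many terms are nonzero. -/
theorem quasiIso_total_map_of_cols (h : ∀ p : ℤ, QuasiIso (φ.f p))
    (hfin : ∀ n : ℤ, ∃ p₀ p₁ : ℤ, ∀ p, p < p₀ ∨ p₁ < p →
      IsZero ((K.X p).X (n - p)) ∧ IsZero ((L.X p).X (n - p))) :
    QuasiIso (HomologicalComplex₂.total.map φ (ComplexShape.up ℤ)) :=
  quasiIso_total_map_of_flip φ (rowQis_flipMap_of_quasiIso φ h) hfin

end Groth.Agent.Helper3.TotQis
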