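import Groth.Agent.Lib.Helper3.CD3
import Groth.Agent.Lib.Helper3.AbHomol
import Groth.Agent.Lib.Helper3.SiteSec
import Groth.Agent.Lib.Helper3.TotQisFlip
import Groth.Agent.Lib.Helper5.QC.RAcyc

/-!
# Row-wise quasi-isomorphisms of Čech double complexes
-/

set_option autoImplicit false
universe u

open CategoryTheory Limits Opposite TopologicalSpace

namespace Groth.Agent.Helper3.CH

open Groth.Agent.Helper1 Groth.Agent.Helper3.PB3 Groth.Agent.Helper3.CD

variable {X : TopCat.{u}} {ι : Type u} (U : ι → Opens X)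

/-- the Čech complex functor extended to `ℤ` -/
noncomputable abbrev G : ((Opens X)ᵒᵖ ⥤ AddCommGrpCat.{u}) ⥤ CochainComplex AddCommGrpCat.{u} ℤ :=
  cechComplexFunctor (A := AddCommGrpCat.{u}) U ⋙
    ComplexShape.embeddingUpNat.extendFunctor AddCommGrpCat.{u}

lemma hom_inv_apply {A B : AddCommGrpCat.{u}} (e : A ≅ B) (x : A) :
    e.inv.hom (e.hom.hom x) = x :=
  ConcreteCategory.congr_hom e.hom_inv_id x

lemma inv_hom_apply {A B : AddCommGrpCat.{u}} (e : A ≅ B) (x : B) :
    e.hom.hom (e.inv.hom x) = x :=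
  ConcreteCategory.congr_hom e.inv_hom_id x

section Comp

variable (P : (Opens X)ᵒᵖ ⥤ AddCommGrpCat.{u})

/-- identification of the extended complex in nonnegative degrees -/
noncomputable def exI (m : ℕ) (q : ℤ) (h : (m : ℤ) = q) :
    ((G U).obj P).X q ≅ (TCx.K U P).X m :=
  HomologicalComplex.extendXIso (TCx.K U P) ComplexShape.embeddingUpNat h

lemma isZero_neg (q : ℤ) (hq : q < 0) : IsZero (((G U).obj P).X q) :=
  HomologicalComplex.isZero_extend_X (TCx.K U P) ComplexShape.embeddingUpNat q (fun i hi => by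
    have : ((i : ℕ) : ℤ) = q := hi
    omega)

lemma eq_zero_of_neg (q : ℤ) (hq : q < 0) (x : ((G U).obj P).X q) : x = 0 := by
  haveI := AddCommGrpCat.subsingleton_of_isZero (isZero_neg U P q hq)
  exact Subsingleton.elim _ _

lemma exI_d (m : ℕ) (q q' : ℤ) (h : (m : ℤ) = q) (h' : ((m + 1 : ℕ) : ℤ) = q')
    (x : ((G U).obj P).X q) :
    (exI U P (m + 1) q' h').hom.hom ((((G U).obj P).d q q').hom x) =
      ((TCx.K U P).d m (m + 1)).hom ((exI U P m q h).hom.hom x) := by
  have h1 : ((G U).obj P).d q q' ≫ (exI U P (m + 1) q' h').hom =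
      (exI U P m q h).hom ≫ (TCx.K U P).d m (m + 1) := by
    have h2 := HomologicalComplex.extend_d_eq (TCx.K U P) ComplexShape.embeddingUpNat
      (i := m) (j := m + 1) (i' := q) (j' := q') h h'
    change (HomologicalComplex.extend (TCx.K U P) ComplexShape.embeddingUpNat).d q q' ≫ _ = _
    rw [h2]
    unfold exI
    rw [Category.assoc, Category.assoc, Iso.inv_hom_id, Category.comp_id]
    rfl
  exact ConcreteCategory.congr_hom h1 x

/-- components of an element of the extended Čech complex -/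
noncomputable def cp (m : ℕ) (q : ℤ) (h : (m : ℤ) = q) (c : Fin (m + 1) → ι) :
    ((G U).obj P).X q →+ P.obj (op (TCx.W U c)) :=
  (TCx.proj U P m c).hom.comp (exI U P m q h).hom.hom

lemma cp_apply (m : ℕ) (q : ℤ) (h : (m : ℤ) = q) (c : Fin (m + 1) → ι) (x : ((G U).obj P).X q) :
    cp U P m q h c x = (TCx.proj U P m c).hom ((exI U P m q h).hom.hom x) := rfl

lemma cp_ext (m : ℕ) (q : ℤ) (h : (m : ℤ) = q) (x y : ((G U).obj P).X q)
    (hxy : ∀ c, cp U P m q h c x = cp U P m q h c y) : x = y := by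
  have h1 : (exI U P m q h).hom.hom x = (exI U P m q h).hom.hom y := TCx.ext U P m _ _ hxy
  have h2 := congrArg (exI U P m q h).inv.hom h1
  rw [hom_inv_apply, hom_inv_apply] at h2
  exact h2

lemma cp_exists (m : ℕ) (q : ℤ) (h : (m : ℤ) = q)
    (f : ∀ c : Fin (m + 1) → ι, P.obj (op (TCx.W U c))) :
    ∃ x : ((G U).obj P).X q, ∀ c, cp U P m q h c x = f c := by
  obtain ⟨x', hx'⟩ := TCx.exists_cochain U P m f
  refine ⟨(exI U P m q h).inv.hom x', fun c => ?_⟩
  rw [cp_apply, inv_hom_apply, hx']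

end Comp

section Map

variable {P P' : (Opens X)ᵒᵖ ⥤ AddCommGrpCat.{u}} (f : P ⟶ P')

lemma exI_map (m : ℕ) (q : ℤ) (h : (m : ℤ) = q) (x : ((G U).obj P).X q) :
    (exI U P' m q h).hom.hom ((((G U).map f).f q).hom x) =
      (((cechComplexFunctor U).map f).f m).hom ((exI U P m q h).hom.hom x) := by
  have h1 : ((G U).map f).f q ≫ (exI U P' m q h).hom =
      (exI U P m q h).hom ≫ ((cechComplexFunctor U).map f).f m := by
    have h2 := HomologicalComplex.extendMap_f ((cechComplexFunctor U).map f)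
      ComplexShape.embeddingUpNat (i := m) (i' := q) h
    change (HomologicalComplex.extendMap ((cechComplexFunctor U).map f)
      ComplexShape.embeddingUpNat).f q ≫ _ = _
    rw [h2]
    unfold exI
    rw [Category.assoc, Category.assoc, Iso.inv_hom_id, Category.comp_id]
    rfl
  exact ConcreteCategory.congr_hom h1 x

lemma cp_map (m : ℕ) (q : ℤ) (h : (m : ℤ) = q) (c : Fin (m + 1) → ι) (x : ((G U).obj P).X q) :
    cp U P' m q h c ((((G U).map f).f q).hom x) =
      (f.app (op (TCx.W U c))).hom (cp U P m q h c x) := by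
  rw [cp_apply, exI_map, cp_apply]
  exact map_proj_apply U f m c _

end Map

section Sec

variable [HasDerivedCategory.{u} (CohTop.Ab X)]
  {K L : CochainComplex (CohTop.Ab X) ℤ} (α : K ⟶ L)

/-- elementwise form of "`α` induces a quasi-isomorphism on sections over `V`" -/
structure SecQis (V : Opens X) : Prop where
  mono : ∀ (p₀ p p₁ : ℤ) (_ : p₀ + 1 = p) (_ : p + 1 = p₁) (x : (K.X p).obj.obj (op V)),
    ((K.d p p₁).hom.app (op V)).hom x = 0 → ∀ y : (L.X p₀).obj.obj (op V),
    ((α.f p).hom.app (op V)).hom x = ((L.d p₀ p).hom.app (op V)).hom y →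
    ∃ z : (K.X p₀).obj.obj (op V), x = ((K.d p₀ p).hom.app (op V)).hom z
  epi : ∀ (p₀ p p₁ : ℤ) (_ : p₀ + 1 = p) (_ : p + 1 = p₁) (y : (L.X p).obj.obj (op V)),
    ((L.d p p₁).hom.app (op V)).hom y = 0 →
    ∃ x : (K.X p).obj.obj (op V), ((K.d p p₁).hom.app (op V)).hom x = 0 ∧
      ∃ w : (L.X p₀).obj.obj (op V),
        y = ((α.f p).hom.app (op V)).hom x + ((L.d p₀ p).hom.app (op V)).hom w

theorem secQis_of_acyclic (V : Opens X) (a : ℤ) [K.IsStrictlyGE a] [L.IsStrictlyGE a]
    (hK : ∀ (i : ℤ) (q : ℕ), Subsingleton (CohTop.HU (K.X i) (q + 1) V))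
    (hL : ∀ i, Injective (L.X i)) (hα : QuasiIso α) : SecQis α V := by
  haveI : HasDerivedCategory AddCommGrpCat.{u} := HasDerivedCategory.standard _
  haveI : PreservesFiniteLimits (SiteSec.Γ (Opens.grothendieckTopology X) V) :=
    preservesFiniteLimits_of_natIso (sheafSectionsNatIsoEvaluation
      (J := Opens.grothendieckTopology X) (A := AddCommGrpCat.{u})).symm
  have hq : QuasiIso (((SiteSec.Γ (Opens.grothendieckTopology X) V).mapHomologicalComplex
      (ComplexShape.up ℤ)).map α) := by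
    refine Groth.Agent.Lib.Helper5.QC.quasiIso_map_of_rAcyc
      (SiteSec.Γ (Opens.grothendieckTopology X) V) α a ?_ ?_ hα
    · intro i q hq
      obtain ⟨m, rfl⟩ : ∃ m, q = m + 1 := ⟨q - 1, by omega⟩
      haveI := hK i m
      exact (AddCommGrpCat.isZero_of_subsingleton _).of_iso
        (SiteSec.rightDerivedΓIso (Opens.grothendieckTopology X) V (K.X i) (m + 1))
    · intro i
      haveI := hL i
      exact Groth.Agent.Lib.Helper5.QC.rAcyc_of_injective _ _
  constructor
  · intro p₀ p p₁ h0 h1 x hx y hy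
    have hm : Mono (HomologicalComplex.homologyMap
        (((SiteSec.Γ (Opens.grothendieckTopology X) V).mapHomologicalComplex
          (ComplexShape.up ℤ)).map α) p) := by
      have := hq.quasiIsoAt p
      rw [quasiIsoAt_iff_isIso_homologyMap] at this
      infer_instance
    exact (AbHomol.mono_homologyMap_iff _ p₀ p p₁ (by simp; omega) (by simp; omega)).1 hm
      x hx y hy
  · intro p₀ p p₁ h0 h1 y hy
    have he : Epi (HomologicalComplex.homologyMap
        (((SiteSec.Γ (Opens.grothendieckTopology X) V).mapHomologicalComplex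
          (ComplexShape.up ℤ)).map α) p) := by
      have := hq.quasiIsoAt p
      rw [quasiIsoAt_iff_isIso_homologyMap] at this
      infer_instance
    exact (AbHomol.epi_homologyMap_iff _ p₀ p p₁ (by simp; omega) (by simp; omega)).1 he y hy

end Sec

section Row

variable {K L : CochainComplex (CohTop.Ab X) ℤ} (α : K ⟶ L)

/-- the induced map of Čech double complexes -/
noncomputable abbrev cechMap {P P' : CochainComplex ((Opens X)ᵒᵖ ⥤ AddCommGrpCat.{u}) ℤ}
    (β : P ⟶ P') : CechTot.cech₂ U P ⟶ CechTot.cech₂ U P' :=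
  ((G U).mapHomologicalComplex (ComplexShape.up ℤ)).map β

lemma core_mono (hα : ∀ (m : ℕ) (c : Fin (m + 1) → ι), SecQis α (TCx.W U c)) (q : ℤ)
    (p₀ p p₁ : ℤ) (h0 : p₀ + 1 = p) (h1 : p + 1 = p₁)
    (x : ((G U).obj (K.X p).obj).X q) (hx : (((G U).map (K.d p p₁).hom).f q).hom x = 0)
    (y : ((G U).obj (L.X p₀).obj).X q)
    (hy : (((G U).map (α.f p).hom).f q).hom x = (((G U).map (L.d p₀ p).hom).f q).hom y) :
    ∃ z : ((G U).obj (K.X p₀).obj).X q, x = (((G U).map (K.d p₀ p).hom).f q).hom z := by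
  by_cases hq : 0 ≤ q
  · obtain ⟨m, rfl⟩ := Int.eq_ofNat_of_zero_le hq
    have key : ∀ c : Fin (m + 1) → ι, ∃ z : (K.X p₀).obj.obj (op (TCx.W U c)),
        cp U (K.X p).obj m m rfl c x = ((K.d p₀ p).hom.app (op (TCx.W U c))).hom z := by
      intro c
      refine (hα m c).mono p₀ p p₁ h0 h1 _ ?_ (cp U (L.X p₀).obj m m rfl c y) ?_
      · rw [← cp_map, hx, map_zero]
      · rw [← cp_map, ← cp_map, hy]
    choose z hz using key
    obtain ⟨z', hz'⟩ := cp_exists U (K.X p₀).obj m m rfl z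
    refine ⟨z', cp_ext U _ m m rfl _ _ (fun c => ?_)⟩
    rw [cp_map, hz' c, hz c]
  · exact ⟨0, (eq_zero_of_neg U _ q (by omega) x).trans (map_zero _).symm⟩

lemma core_epi (hα : ∀ (m : ℕ) (c : Fin (m + 1) → ι), SecQis α (TCx.W U c)) (q : ℤ)
    (p₀ p p₁ : ℤ) (h0 : p₀ + 1 = p) (h1 : p + 1 = p₁)
    (y : ((G U).obj (L.X p).obj).X q) (hy : (((G U).map (L.d p p₁).hom).f q).hom y = 0) :
    ∃ x : ((G U).obj (K.X p).obj).X q, (((G U).map (K.d p p₁).hom).f q).hom x = 0 ∧
      ∃ w : ((G U).obj (L.X p₀).obj).X q,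
        y = (((G U).map (α.f p).hom).f q).hom x + (((G U).map (L.d p₀ p).hom).f q).hom w := by
  by_cases hq : 0 ≤ q
  · obtain ⟨m, rfl⟩ := Int.eq_ofNat_of_zero_le hq
    have key : ∀ c : Fin (m + 1) → ι, ∃ x : (K.X p).obj.obj (op (TCx.W U c)),
        ((K.d p p₁).hom.app (op (TCx.W U c))).hom x = 0 ∧
        ∃ w : (L.X p₀).obj.obj (op (TCx.W U c)),
          cp U (L.X p).obj m m rfl c y = ((α.f p).hom.app (op (TCx.W U c))).hom x +
            ((L.d p₀ p).hom.app (op (TCx.W U c))).hom w := by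
      intro c
      refine (hα m c).epi p₀ p p₁ h0 h1 _ ?_
      rw [← cp_map, hy, map_zero]
    choose x hx w hw using key
    obtain ⟨x', hx'⟩ := cp_exists U (K.X p).obj m m rfl x
    obtain ⟨w', hw'⟩ := cp_exists U (L.X p₀).obj m m rfl w
    refine ⟨x', cp_ext U _ m m rfl _ _ (fun c => ?_), w', cp_ext U _ m m rfl _ _ (fun c => ?_)⟩
    · rw [cp_map, hx' c, hx c, map_zero]
    · rw [map_add, cp_map, cp_map, hx' c, hw' c, hw c]
  · exact ⟨0, by rw [map_zero], 0, (eq_zero_of_neg U _ q (by omega) y).trans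
      (by rw [map_zero, map_zero, add_zero])⟩

theorem rowQis_cechMap (hα : ∀ (m : ℕ) (c : Fin (m + 1) → ι), SecQis α (TCx.W U c)) :
    TotQis.RowQis (cechMap U ((CechTot.presheafCx X).map α)) := by
  constructor
  · intro p₀ p p₁ q hp₀ hp₁ Y x y hx hxy
    have hm : Mono (HomologicalComplex.homologyMap
        (((HomologicalComplex.eval AddCommGrpCat.{u} (ComplexShape.up ℤ) q).mapHomologicalComplex
          (ComplexShape.up ℤ)).map (cechMap U ((CechTot.presheafCx X).map α))) p) :=
      (AbHomol.mono_homologyMap_iff _ p₀ p p₁ (by simp; omega) (by simp; omega)).2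
        (fun x hx y hy => core_mono U α hα q p₀ p p₁ hp₀ hp₁ x hx y hy)
    rw [HomologicalComplex.mono_homologyMap_iff_up_to_refinements _ p₀ p p₁
      (by simp; omega) (by simp; omega)] at hm
    exact hm x hx y hxy
  · intro p₀ p p₁ q hp₀ hp₁ Y y hy
    have he : Epi (HomologicalComplex.homologyMap
        (((HomologicalComplex.eval AddCommGrpCat.{u} (ComplexShape.up ℤ) q).mapHomologicalComplex
          (ComplexShape.up ℤ)).map (cechMap U ((CechTot.presheafCx X).map α))) p) :=
      (AbHomol.epi_homologyMap_iff _ p₀ p p₁ (by simp; omega) (by simp; omega)).2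
        (fun y hy => core_epi U α hα q p₀ p p₁ hp₀ hp₁ y hy)
    rw [HomologicalComplex.epi_homologyMap_iff_up_to_refinements _ p₀ p p₁
      (by simp; omega) (by simp; omega)] at he
    obtain ⟨Y', π, hπ, v, hv, t, e⟩ := he y hy
    exact ⟨Y', π, hπ, v, t, hv, e⟩

end Row

end Groth.Agent.Helper3.CH
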