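import Groth.Agent.Lib.Helper3.CH1
import Groth.Agent.Lib.Helper3.HIso
import Groth.Agent.Lib.Helper3.CD1

/-!
# The augmentation of the Čech double complex of a complex of injective sheaves
-/

set_option autoImplicit false
universe u

open CategoryTheory Limits Opposite TopologicalSpace

namespace Groth.Agent.Helper3.CH

open Groth.Agent.Helper1 Groth.Agent.Helper3.PB3 Groth.Agent.Helper3.CD

section SglTotal

variable (A : CochainComplex AddCommGrpCat.{u} ℤ)

/-- the double complex with `A` in the column of second degree `0` -/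
noncomputable abbrev SglOf : TotQis.DC AddCommGrpCat.{u} :=
  ((HomologicalComplex.single AddCommGrpCat.{u} (ComplexShape.up ℤ) 0).mapHomologicalComplex
    (ComplexShape.up ℤ)).obj A

/-- typed version of `singleObjXSelf` -/
noncomputable def sx (n : ℤ) : ((SglOf A).X n).X 0 ≅ A.X n :=
  HomologicalComplex.singleObjXSelf (ComplexShape.up ℤ) 0 (A.X n)

lemma sgl_d_f (n n' : ℤ) :
    ((SglOf A).d n n').f 0 = (sx A n).hom ≫ A.d n n' ≫ (sx A n').inv :=
  HomologicalComplex.single_map_f_self (ComplexShape.up ℤ) 0 (A.d n n')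

lemma isZero_sgl (n q : ℤ) (hq : q ≠ 0) : IsZero (((SglOf A).X n).X q) :=
  HomologicalComplex.isZero_single_obj_X (ComplexShape.up ℤ) 0 (A.X n) q hq

lemma sgl_X_d (n q q' : ℤ) : ((SglOf A).X n).d q q' = 0 := rfl

noncomputable def rF (n : ℤ) : ((SglOf A).total (ComplexShape.up ℤ)).X n ⟶ A.X n :=
  TotQis.pr (SglOf A) n n 0 (add_zero n) ≫ (sx A n).hom

noncomputable def sF (n : ℤ) : A.X n ⟶ ((SglOf A).total (ComplexShape.up ℤ)).X n :=
  (sx A n).inv ≫ (SglOf A).ιTotal (ComplexShape.up ℤ) n 0 n (add_zero n)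

lemma sF_rF (n : ℤ) : sF A n ≫ rF A n = 𝟙 _ := by
  rw [sF, rF, Category.assoc, TotQis.ι_pr_self_assoc, Iso.inv_hom_id]

lemma rF_sF (n : ℤ) : rF A n ≫ sF A n = 𝟙 _ := by
  apply HomologicalComplex₂.total.hom_ext
  intro i₁ i₂ h
  have h' : i₁ + i₂ = n := h
  by_cases h2 : i₂ = 0
  · subst h2
    obtain rfl : i₁ = n := by omega
    rw [rF, sF, Category.assoc, TotQis.ι_pr_self_assoc, Iso.hom_inv_id_assoc, Category.comp_id]
  · exact (isZero_sgl A i₁ i₂ h2).eq_of_src _ _

/-- the total complex of `SglOf A` is `A` -/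
noncomputable def r : (SglOf A).total (ComplexShape.up ℤ) ⟶ A where
  f n := rF A n
  comm' n n' hnn' := by
    have hn : n + 1 = n' := hnn'
    subst hn
    have h1 := TotQis.d_pr (SglOf A) n (n + 1) n (n + 1) (-1) 0 rfl rfl (by norm_num) (add_zero n)
    rw [sgl_X_d, comp_zero, smul_zero] at h1
    have h1' := h1.trans (add_zero _)
    rw [sgl_d_f] at h1'
    rw [rF, rF, reassoc_of% h1']
    simp only [Category.assoc, Iso.inv_hom_id, Category.comp_id]

instance (n : ℤ) : IsIso ((r A).f n) := ⟨⟨sF A n, rF_sF A n, sF_rF A n⟩⟩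

instance : IsIso (r A) := HomologicalComplex.Hom.isIso_of_components _

end SglTotal

variable {X : TopCat.{u}} {ι : Type u} (U : ι → Opens X) (I : CochainComplex (CohTop.Ab X) ℤ)

/-- the complex of global sections -/
noncomputable abbrev IX : CochainComplex AddCommGrpCat.{u} ℤ :=
  (((evaluation (Opens X)ᵒᵖ AddCommGrpCat.{u}).obj (op ⊤)).mapHomologicalComplex
    (ComplexShape.up ℤ)).obj (pCx I)

/-- the augmentation in degree `p` -/
noncomputable def augE (p : ℤ) : (IX I).X p ⟶ ((G U).obj ((pCx I).X p)).X 0 :=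
  aug U (pCx I) p ≫ (exI U ((pCx I).X p) 0 0 rfl).inv

lemma exI_augE (p : ℤ) (s : (IX I).X p) :
    (exI U ((pCx I).X p) 0 0 rfl).hom.hom ((augE U I p).hom s) = (aug U (pCx I) p).hom s :=
  inv_hom_apply _ _

lemma augE_d (p k : ℤ) (hk : (ComplexShape.up ℤ).Rel 0 k) :
    augE U I p ≫ ((G U).obj ((pCx I).X p)).d 0 k = 0 := by
  obtain rfl : k = 1 := by
    have : (0 : ℤ) + 1 = k := hk
    omega
  refine ConcreteCategory.hom_ext _ _ (fun s => ?_)
  have h1 := exI_d U ((pCx I).X p) 0 0 1 rfl rfl ((augE U I p).hom s)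
  have h3 : ((TCx.K U ((pCx I).X p)).d 0 (0 + 1)).hom ((aug U (pCx I) p).hom s) = 0 :=
    ConcreteCategory.congr_hom (aug_δC U (pCx I) p) s
  rw [exI_augE, h3] at h1
  have h4 := congrArg (exI U ((pCx I).X p) (0 + 1) 1 rfl).inv.hom h1
  rw [hom_inv_apply, map_zero] at h4
  exact h4

lemma augE_nat (p p' : ℤ) (s : (IX I).X p) :
    (((G U).map ((pCx I).d p p')).f 0).hom ((augE U I p).hom s) =
      (augE U I p').hom (((IX I).d p p').hom s) := by
  have h1 := exI_map U ((pCx I).d p p') 0 0 rfl ((augE U I p).hom s)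
  have h2 : (aug U (pCx I) p').hom (((IX I).d p p').hom s) =
      (ddC U (pCx I) 0 p p').hom ((aug U (pCx I) p).hom s) :=
    ConcreteCategory.congr_hom (aug_ddC U (pCx I) p p') s
  rw [exI_augE] at h1
  have h3 : (exI U ((pCx I).X p') 0 0 rfl).hom.hom
      ((((G U).map ((pCx I).d p p')).f 0).hom ((augE U I p).hom s)) =
      (exI U ((pCx I).X p') 0 0 rfl).hom.hom ((augE U I p').hom (((IX I).d p p').hom s)) := by
    rw [exI_augE, h2]
    exact h1
  have h4 := congrArg (exI U ((pCx I).X p') 0 0 rfl).inv.hom h3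
  rw [hom_inv_apply, hom_inv_apply] at h4
  exact h4

/-- the augmentation as a morphism of complexes in the Čech direction -/
noncomputable def epsF (p : ℤ) : (SglOf (IX I)).X p ⟶ (CechTot.cech₂ U (pCx I)).X p :=
  HomologicalComplex.mkHomFromSingle (augE U I p) (augE_d U I p)

lemma epsF_f (p : ℤ) : (epsF U I p).f 0 = (sx (IX I) p).hom ≫ augE U I p :=
  HomologicalComplex.mkHomFromSingle_f _ _

lemma epsF_f_apply (p : ℤ) (x : ((SglOf (IX I)).X p).X 0) :
    ((epsF U I p).f 0).hom x = (augE U I p).hom ((sx (IX I) p).hom.hom x) :=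
  ConcreteCategory.congr_hom (epsF_f U I p) x

/-- the augmentation -/
noncomputable def eps : SglOf (IX I) ⟶ CechTot.cech₂ U (pCx I) where
  f p := epsF U I p
  comm' p p' _ := by
    apply HomologicalComplex.from_single_hom_ext
    refine ConcreteCategory.hom_ext _ _ (fun x => ?_)
    have e2 : (((SglOf (IX I)).d p p').f 0).hom x =
        (sx (IX I) p').inv.hom (((IX I).d p p').hom ((sx (IX I) p).hom.hom x)) :=
      ConcreteCategory.congr_hom (sgl_d_f (IX I) p p') x
    show (((CechTot.cech₂ U (pCx I)).d p p').f 0).hom (((epsF U I p).f 0).hom x) =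
      ((epsF U I p').f 0).hom ((((SglOf (IX I)).d p p').f 0).hom x)
    rw [epsF_f_apply, epsF_f_apply, e2, inv_hom_apply]
    exact augE_nat U I p p' _

end Groth.Agent.Helper3.CH
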