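import Groth.Agent.Lib.Helper3.CH2

/-!
# Čech hypercohomology of a complex of Čech-acyclic sheaves computes hypercohomology
-/

set_option autoImplicit false
universe u

open CategoryTheory Limits Opposite TopologicalSpace

namespace Groth.Agent.Helper3.CH

open Groth.Agent.Helper1 Groth.Agent.Helper3.PB3 Groth.Agent.Helper3.CD

variable {X : TopCat.{u}} {ι : Type u} (U : ι → Opens X) (I : CochainComplex (CohTop.Ab X) ℤ)

lemma isZero_G_of_isZero (P : (Opens X)ᵒᵖ ⥤ AddCommGrpCat.{u}) (hP : IsZero P) (q : ℤ) :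
    IsZero (((G U).obj P).X q) :=
  Functor.map_isZero (G U ⋙ HomologicalComplex.eval _ _ q) hP

theorem quasiIso_epsF [∀ j, Injective (I.X j)] (hcov : iSup U = ⊤) (p : ℤ) :
    QuasiIso (epsF U I p) := by
  rw [quasiIso_iff]
  intro j
  rw [quasiIsoAt_iff_isIso_homologyMap]
  refine AbHomol.isIso_homologyMap_of (epsF U I p) (j - 1) j (j + 1) (by simp) (by simp) ?_ ?_
  · intro x hx y hy
    by_cases hj : j = 0
    · subst hj
      have hy0 : y = 0 := eq_zero_of_neg U _ (0 - 1) (by omega) y
      have h1 : (augE U I p).hom ((sx (IX I) p).hom.hom x) = 0 := by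
        rw [← epsF_f_apply]
        rw [hy0, map_zero] at hy
        exact hy
      have h3 : (aug U (pCx I) p).hom ((sx (IX I) p).hom.hom x) = 0 := by
        rw [← exI_augE, h1, map_zero]
      have h4 : (sx (IX I) p).hom.hom x = 0 := by
        apply aug_injective_el U (I.X p) hcov
        intro c
        have := aug_proj_apply U (pCx I) p c ((sx (IX I) p).hom.hom x)
        rw [h3, map_zero] at this
        exact this.symm
      have h5 : x = 0 := by
        have := congrArg (sx (IX I) p).inv.hom h4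
        rw [hom_inv_apply, map_zero] at this
        exact this
      exact ⟨0, h5.trans (map_zero _).symm⟩
    · haveI := AddCommGrpCat.subsingleton_of_isZero (isZero_sgl (IX I) p j hj)
      exact ⟨0, Subsingleton.elim _ _⟩
  · intro y hy
    rcases lt_trichotomy j 0 with hj | hj | hj
    · refine ⟨0, map_zero _, 0, ?_⟩
      rw [map_zero, map_zero, add_zero]
      exact eq_zero_of_neg U _ j hj y
    · subst hj
      have hy' : ((TCx.K U ((pCx I).X p)).d 0 (0 + 1)).hom
          ((exI U ((pCx I).X p) 0 0 rfl).hom.hom y) = 0 := by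
        rw [← exI_d U ((pCx I).X p) 0 0 (0 + 1) rfl rfl y]
        have : ((((G U).obj ((pCx I).X p)).d 0 (0 + 1)).hom y) = 0 := hy
        rw [this, map_zero]
      obtain ⟨s, hs⟩ := exists_glue U (I.X p) hcov _ hy'
      refine ⟨(sx (IX I) p).inv.hom s, ?_, 0, ?_⟩
      · haveI := AddCommGrpCat.subsingleton_of_isZero
          (isZero_sgl (IX I) p (0 + 1) (by norm_num))
        exact Subsingleton.elim _ _
      · rw [map_zero, add_zero]
        have h1 : ((epsF U I p).f 0).hom ((sx (IX I) p).inv.hom s) = (augE U I p).hom s := by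
          rw [epsF_f_apply, inv_hom_apply]
        refine Eq.trans ?_ h1.symm
        apply cp_ext U ((pCx I).X p) 0 0 rfl
        intro c
        rw [cp_apply, cp_apply, exI_augE, aug_proj_apply]
        exact hs c
    · obtain ⟨m, rfl⟩ : ∃ m : ℕ, j = ((m + 1 : ℕ) : ℤ) := ⟨(j - 1).toNat, by omega⟩
      have hy' : ((TCx.K U ((pCx I).X p)).d (m + 1) (m + 1 + 1)).hom
          ((exI U ((pCx I).X p) (m + 1) _ rfl).hom.hom y) = 0 := by
        rw [← exI_d U ((pCx I).X p) (m + 1) ((m + 1 : ℕ) : ℤ) (((m + 1 : ℕ) : ℤ) + 1) rfl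
          (by push_cast; ring) y]
        have : ((((G U).obj ((pCx I).X p)).d ((m + 1 : ℕ) : ℤ)
            (((m + 1 : ℕ) : ℤ) + 1)).hom y) = 0 := hy
        rw [this, map_zero]
      obtain ⟨w', hw'⟩ : ∃ w' : (TCx.K U ((pCx I).X p)).X m,
          ((TCx.K U ((pCx I).X p)).d m (m + 1)).hom w' =
            (exI U ((pCx I).X p) (m + 1) _ rfl).hom.hom y := exact_pos U (I.X p) m _ hy'
      refine ⟨0, map_zero _, (exI U ((pCx I).X p) m (((m + 1 : ℕ) : ℤ) - 1)
        (by push_cast; ring)).inv.hom w', ?_⟩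
      rw [map_zero, zero_add]
      have h2 := exI_d U ((pCx I).X p) m (((m + 1 : ℕ) : ℤ) - 1) ((m + 1 : ℕ) : ℤ)
        (by push_cast; ring) rfl
        ((exI U ((pCx I).X p) m (((m + 1 : ℕ) : ℤ) - 1) (by push_cast; ring)).inv.hom w')
      rw [inv_hom_apply, hw'] at h2
      have h4 := congrArg (exI U ((pCx I).X p) (m + 1) _ rfl).inv.hom h2
      rw [hom_inv_apply, hom_inv_apply] at h4
      exact h4.symm

theorem main [HasDerivedCategory.{u} (CohTop.Ab X)] (hcov : iSup U = ⊤)
    (K : CochainComplex (CohTop.Ab X) ℤ) (α : K ⟶ I) (a : ℤ)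
    [K.IsStrictlyGE a] [I.IsStrictlyGE a] [∀ j, Injective (I.X j)] (hα : QuasiIso α)
    (h : ∀ (p : ℕ) (c : Fin (p + 1) → ι) (i : ℤ) (q : ℕ),
      Subsingleton (CohTop.HU (K.X i) (q + 1) (iInf fun k => U (c k)))) (n : ℤ) :
    Nonempty (↑(CechTot.hyperH U ((CechTot.presheafCx X).obj K) n) ≃+
      CohCx.HDU (DerivedCategory.Q.obj K) n (⊤ : Opens X)) := by
  have hsec : ∀ (m : ℕ) (c : Fin (m + 1) → ι), SecQis α (TCx.W U c) := by
    intro m c
    refine secQis_of_acyclic α (TCx.W U c) a ?_ inferInstance hα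
    intro i q
    rw [TCx.W_eq_iInf]
    exact h m c i q
  have hq1 : QuasiIso (HomologicalComplex₂.total.map
      (cechMap U ((CechTot.presheafCx X).map α)) (ComplexShape.up ℤ)) := by
    refine TotQis.quasiIso_total_map _ (rowQis_cechMap U α hsec) ?_
    intro n
    refine ⟨0, n - a, fun q hq => ⟨?_, ?_⟩⟩
    · by_cases hq0 : q < 0
      · exact isZero_neg U _ q hq0
      · exact isZero_G_of_isZero U _ (Functor.map_isZero (sheafToPresheaf _ _)
          (K.isZero_of_isStrictlyGE a (n - q) (by omega))) q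
    · by_cases hq0 : q < 0
      · exact isZero_neg U _ q hq0
      · exact isZero_G_of_isZero U _ (Functor.map_isZero (sheafToPresheaf _ _)
          (I.isZero_of_isStrictlyGE a (n - q) (by omega))) q
  have hq2 : QuasiIso (HomologicalComplex₂.total.map (eps U I) (ComplexShape.up ℤ)) := by
    refine TotQis.quasiIso_total_map_of_cols (eps U I) (fun p => quasiIso_epsF U I hcov p) ?_
    intro n
    refine ⟨a, n, fun p hp => ⟨?_, ?_⟩⟩
    · by_cases hpa : p < a
      · have hz : IsZero ((IX I).X p) :=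
          Functor.map_isZero (sheafToPresheaf _ _ ⋙ (evaluation _ _).obj (op ⊤))
            (I.isZero_of_isStrictlyGE a p hpa)
        exact Functor.map_isZero (HomologicalComplex.single AddCommGrpCat.{u}
          (ComplexShape.up ℤ) 0 ⋙ HomologicalComplex.eval _ _ (n - p)) hz
      · exact isZero_sgl (IX I) p (n - p) (by omega)
    · by_cases hpa : p < a
      · exact isZero_G_of_isZero U _ (Functor.map_isZero (sheafToPresheaf _ _)
          (I.isZero_of_isStrictlyGE a p hpa)) (n - p)
      · exact isZero_neg U _ (n - p) (by omega)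
  haveI := hq1
  haveI := hq2
  haveI := hα
  have e1 := isoOfQuasiIsoAt (HomologicalComplex₂.total.map
      (cechMap U ((CechTot.presheafCx X).map α)) (ComplexShape.up ℤ)) n
  have e2 := isoOfQuasiIsoAt
    (HomologicalComplex₂.total.map (eps U I) (ComplexShape.up ℤ)) n
  have e3 : ((SglOf (IX I)).total (ComplexShape.up ℤ)).homology n ≅ (IX I).homology n :=
    (HomologicalComplex.homologyFunctor _ _ n).mapIso (asIso (r (IX I)))
  haveI : I.IsKInjective := CochainComplex.isKInjective_of_injective I a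
  let θ : DerivedCategory.Q.obj K ≅ DerivedCategory.Q.obj I := asIso (DerivedCategory.Q.map α)
  have e4 : (IX I).homology n ≅
      AddCommGrpCat.of (CohCx.HDU (DerivedCategory.Q.obj K) n (⊤ : Opens X)) :=
    (IX I).homologyIsoSc' (n - 1) n (n + 1) (by simp) (by simp) ≪≫
      HIso.iso ((IX I).sc' (n - 1) n (n + 1)) (cls K I θ ⊤ n (n + 1) rfl)
        (cls_surjective K I θ ⊤ n (n + 1) rfl)
        (fun z => by
          have hz := cls_eq_zero_iff K I θ ⊤ (n - 1) n (n + 1) (by omega) rfl z
          refine hz.trans ?_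
          rw [AddMonoidHom.mem_range]
          constructor
          · rintro ⟨y, hy⟩
            exact ⟨y, Subtype.ext hy⟩
          · rintro ⟨y, hy⟩
            exact ⟨y, congrArg Subtype.val hy⟩)
  exact ⟨(e1 ≪≫ e2.symm ≪≫ e3 ≪≫ e4).addCommGroupIsoToAddEquiv⟩

end Groth.Agent.Helper3.CH
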