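import Mathlib
import Groth.Agent.Lib.Helper7.LimIso
import Groth.Agent.Lib.Helper7.FGSub2

/-! Two models of a morphism over a stage of a cofiltered limit agree over a later stage. -/

set_option autoImplicit false
universe u
namespace Groth.Agent.Helper3.CModel

open CategoryTheory CategoryTheory.Limits AlgebraicGeometry Opposite

variable {I : Type u} [Category.{u} I] [IsCofiltered I] (D : I ⥤ Scheme.{u}) (c : Cone D)
  (hc : IsLimit c) [∀ {i j : I} (f : i ⟶ j), IsAffineHom (D.map f)] (i : I)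
  {Xi Yi : Scheme.{u}} (xi : Xi ⟶ D.obj i) (yi : Yi ⟶ D.obj i)

include hc in
theorem exists_common_stage [CompactSpace (D.obj i)] [QuasiSeparatedSpace (D.obj i)]
    [QuasiCompact xi] [QuasiSeparated xi] [LocallyOfFinitePresentation xi]
    [QuasiCompact yi] [QuasiSeparated yi] [LocallyOfFinitePresentation yi]
    {X : Scheme.{u}} {qX : X ⟶ Xi} {qY : X ⟶ Yi} {pX : X ⟶ c.pt}
    (hX : IsPullback qX pX xi (c.π.app i)) (hY : IsPullback qY pX yi (c.π.app i)) :
    ∃ (m : I) (θ : m ⟶ i) (g' : X ⟶ pullback xi (D.map θ))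
      (fm : pullback xi (D.map θ) ⟶ pullback yi (D.map θ)),
      IsPullback g' pX (pullback.snd xi (D.map θ)) (c.π.app m) ∧ IsIso fm ∧
        fm ≫ pullback.snd yi (D.map θ) = pullback.snd xi (D.map θ) := by
  obtain ⟨m, θ, fm, hfm, hfm2⟩ :=
    Groth.Agent.Helper7.LimIso.exists_iso_descend D c hc i xi yi hX hY (𝟙 X) (by simp)
  have hw : qX ≫ xi = (pX ≫ c.π.app m) ≫ D.map θ := by
    rw [hX.w, Category.assoc, c.w θ]
  refine ⟨m, θ, pullback.lift qX (pX ≫ c.π.app m) hw, fm, ?_, hfm, hfm2⟩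
  exact Groth.Agent.Helper7.LimIso.isPullback_of_stage xi (D.map θ) (c.π.app m) (c.w θ) hX _
    (pullback.lift_fst _ _ _) (pullback.lift_snd _ _ _)

end Groth.Agent.Helper3.CModel
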