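import Mathlib
import Groth.Agent.Lib.Helper3.CModel1
import Groth.Agent.Lib.Helper3.IsoLoc4

/-! A common model over a finitely generated ℤ-algebra with two properties (S9737). -/

set_option autoImplicit false
universe u
namespace Groth.Agent.Helper3.CModel

open CategoryTheory CategoryTheory.Limits AlgebraicGeometry Opposite
open Groth.Agent.Helper7.FGSub

/-- a morphism of affine schemes factors through the spectrum of any subring of the ring of the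
source containing the image of the ring of the target -/
theorem exists_factor {S S₁ : Scheme.{u}} [IsAffine S] [IsAffine S₁] (g₁ : S ⟶ S₁)
    (A₀ : Subalgebra ℤ Γ(S, ⊤)) (hA₀ : ∀ b : Γ(S₁, ⊤), g₁.appTop.hom b ∈ A₀) :
    ∃ t₁ : Spec (CommRingCat.of A₀) ⟶ S₁,
      S.isoSpec.hom ≫ Spec.map (CommRingCat.ofHom (algebraMap A₀ Γ(S, ⊤))) ≫ t₁ = g₁ := by
  let ψ : Γ(S₁, ⊤) →+* A₀ := g₁.appTop.hom.codRestrict A₀.toSubring hA₀
  refine ⟨Spec.map (CommRingCat.ofHom ψ) ≫ S₁.isoSpec.inv, ?_⟩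
  have h1 : CommRingCat.ofHom ψ ≫ CommRingCat.ofHom (algebraMap A₀ Γ(S, ⊤)) = g₁.appTop := by
    ext b
    rfl
  rw [← Category.assoc (Spec.map _), ← Spec.map_comp, h1, ← Category.assoc,
    Scheme.isoSpec_hom_naturality, Category.assoc, Iso.hom_inv_id, Category.comp_id]

theorem isPullback_stage {X S X₁ S₁ T₀ T : Scheme.{u}} (f : X ⟶ S) (f₁ : X₁ ⟶ S₁) (g₁ : S ⟶ S₁)
    (g₁' : X ⟶ X₁) (h₁ : IsPullback g₁' f f₁ g₁) (σ : S ≅ T) (π : T ⟶ T₀) (t₁ : T₀ ⟶ S₁)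
    (hfac : σ.hom ≫ π ≫ t₁ = g₁) :
    ∃ q : X ⟶ pullback f₁ t₁, IsPullback q (f ≫ σ.hom) (pullback.snd f₁ t₁) π := by
  have hbig : IsPullback g₁' (f ≫ σ.hom) f₁ (π ≫ t₁) :=
    IsPullback.of_iso h₁ (Iso.refl _) (Iso.refl _) σ (Iso.refl _) (by simp) (by simp) (by simp)
      (by simp [hfac])
  have hw : g₁' ≫ f₁ = ((f ≫ σ.hom) ≫ π) ≫ t₁ := by
    rw [hbig.w]
    simp
  refine ⟨pullback.lift g₁' ((f ≫ σ.hom) ≫ π) hw, ?_⟩
  refine IsPullback.of_right (h₁₂ := pullback.fst f₁ t₁) (h₂₂ := t₁) (v₁₃ := f₁) ?_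
    (pullback.lift_snd _ _ _) (IsPullback.of_hasPullback _ _)
  rw [pullback.lift_fst]
  exact hbig

theorem S9737_main (P Q : MorphismProperty Scheme.{u}) [P.IsStableUnderBaseChange]
    [Q.IsStableUnderBaseChange]
    {X S : Scheme.{u}} (f : X ⟶ S) [IsAffine X] [IsAffine S] [LocallyOfFinitePresentation f]
    {X₁ S₁ X₂ S₂ : Scheme.{u}} [IsAffine X₁] [IsAffine S₁] [IsAffine X₂] [IsAffine S₂]
    (f₁ : X₁ ⟶ S₁) (g₁ : S ⟶ S₁) (g₁' : X ⟶ X₁) (h₁ : IsPullback g₁' f f₁ g₁)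
    (f₂ : X₂ ⟶ S₂) (g₂ : S ⟶ S₂) (g₂' : X ⟶ X₂) (h₂ : IsPullback g₂' f f₂ g₂)
    (hS₁ : Algebra.FiniteType ℤ Γ(S₁, ⊤)) (hS₂ : Algebra.FiniteType ℤ Γ(S₂, ⊤))
    [LocallyOfFiniteType f₁] [LocallyOfFiniteType f₂] (hP : P f₁) (hQ : Q f₂) :
    ∃ (X₀ S₀ : Scheme.{u}) (f₀ : X₀ ⟶ S₀) (g : S ⟶ S₀) (g' : X ⟶ X₀), IsAffine X₀ ∧
      IsAffine S₀ ∧ IsPullback g' f f₀ g ∧
      Algebra.FiniteType ℤ Γ(S₀, ⊤) ∧ LocallyOfFiniteType f₀ ∧ P f₀ ∧ Q f₀ := by
  -- the ring of `S` and the subring generated by the images of the rings of `S₁`, `S₂`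
  let A : Type u := Γ(S, ⊤)
  let φ₁ : Γ(S₁, ⊤) →ₐ[ℤ] A := g₁.appTop.hom.toIntAlgHom
  let φ₂ : Γ(S₂, ⊤) →ₐ[ℤ] A := g₂.appTop.hom.toIntAlgHom
  let A₀ : Subalgebra ℤ A := φ₁.range ⊔ φ₂.range
  have hA₀ : A₀.FG := by
    refine Subalgebra.FG.sup ?_ ?_
    · rw [← Algebra.map_top]
      exact hS₁.out.map φ₁
    · rw [← Algebra.map_top]
      exact hS₂.out.map φ₂
  obtain ⟨t₁, ht₁⟩ := exists_factor g₁ A₀ (fun b => (le_sup_left : φ₁.range ≤ A₀) ⟨b, rfl⟩)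
  obtain ⟨t₂, ht₂⟩ := exists_factor g₂ A₀ (fun b => (le_sup_right : φ₂.range ≤ A₀) ⟨b, rfl⟩)
  let i₀ : (Idx A)ᵒᵖ := op ⟨A₀, hA₀⟩
  obtain ⟨hc⟩ := isLimit_specCone A
  obtain ⟨q₁, hq₁⟩ := isPullback_stage f f₁ g₁ g₁' h₁ S.isoSpec
    (Spec.map (CommRingCat.ofHom (algebraMap A₀ Γ(S, ⊤)))) t₁ ht₁
  obtain ⟨q₂, hq₂⟩ := isPullback_stage f f₂ g₂ g₂' h₂ S.isoSpec
    (Spec.map (CommRingCat.ofHom (algebraMap A₀ Γ(S, ⊤)))) t₂ ht₂
  haveI : Algebra.FiniteType ℤ A₀ := (Subalgebra.fg_iff_finiteType A₀).mp hA₀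
  haveI : IsNoetherianRing A₀ := Algebra.FiniteType.isNoetherianRing ℤ A₀
  haveI : IsLocallyNoetherian (Spec (CommRingCat.of A₀)) := inferInstance
  haveI : LocallyOfFinitePresentation (pullback.snd f₁ t₁) :=
    Groth.Agent.Helper3.IsoLoc.lfp_of_lft_of_isLocallyNoetherian _
  haveI : LocallyOfFinitePresentation (pullback.snd f₂ t₂) :=
    Groth.Agent.Helper3.IsoLoc.lfp_of_lft_of_isLocallyNoetherian _
  let xi : pullback f₁ t₁ ⟶ (specDiag A).obj i₀ := pullback.snd f₁ t₁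
  let yi : pullback f₂ t₂ ⟶ (specDiag A).obj i₀ := pullback.snd f₂ t₂
  haveI : LocallyOfFinitePresentation xi :=
    inferInstanceAs (LocallyOfFinitePresentation (pullback.snd f₁ t₁))
  haveI : LocallyOfFinitePresentation yi :=
    inferInstanceAs (LocallyOfFinitePresentation (pullback.snd f₂ t₂))
  haveI : QuasiCompact xi := inferInstanceAs (QuasiCompact (pullback.snd f₁ t₁))
  haveI : QuasiCompact yi := inferInstanceAs (QuasiCompact (pullback.snd f₂ t₂))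
  haveI : QuasiSeparated xi := inferInstanceAs (QuasiSeparated (pullback.snd f₁ t₁))
  haveI : QuasiSeparated yi := inferInstanceAs (QuasiSeparated (pullback.snd f₂ t₂))
  obtain ⟨m, θ, g', fm, hg', hfm, hfm2⟩ := exists_common_stage (specDiag A) (specCone A) hc i₀
    xi yi hq₁ hq₂
  haveI hAffS : IsAffine ((specDiag A).obj m) := inferInstanceAs (IsAffine (Spec _))
  haveI : IsAffineHom xi := inferInstanceAs (IsAffineHom (pullback.snd f₁ t₁))
  haveI : LocallyOfFiniteType xi := inferInstanceAs (LocallyOfFiniteType (pullback.snd f₁ t₁))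
  refine ⟨pullback xi ((specDiag A).map θ), (specDiag A).obj m,
    pullback.snd xi ((specDiag A).map θ), S.isoSpec.hom ≫ (specCone A).π.app m, g',
    ?_, hAffS, ?_, ?_, inferInstance, ?_, ?_⟩
  · exact isAffine_of_isAffineHom (pullback.snd xi ((specDiag A).map θ))
  · refine IsPullback.of_iso hg' (Iso.refl _) (Iso.refl _) S.isoSpec.symm (Iso.refl _) (by simp)
      ?_ (by simp) ?_
    · exact ((Category.assoc _ _ _).trans ((congrArg (f ≫ ·) S.isoSpec.hom_inv_id).trans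
        (Category.comp_id f))).trans (Category.id_comp f).symm
    · exact (Category.comp_id _).trans (S.isoSpec.inv_hom_id_assoc _).symm
  · have h1 : Algebra.FiniteType ℤ m.unop.1 := (Subalgebra.fg_iff_finiteType m.unop.1).mp m.unop.2
    exact Algebra.FiniteType.equiv h1
      (Scheme.ΓSpecIso (CommRingCat.of m.unop.1)).symm.commRingCatIsoToRingEquiv.toIntAlgEquiv
  · exact P.pullback_snd _ _ (P.pullback_snd _ _ hP)
  · rw [← hfm2]
    exact (Q.cancel_left_of_respectsIso fm _).mpr (Q.pullback_snd _ _ (Q.pullback_snd _ _ hQ))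

end Groth.Agent.Helper3.CModel
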