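import Mathlib

/-!
# Dimension of the span of the multiplication operators on a fibre (helper3)

`S` an `A`-algebra acting on an `A`-module `Q` generated by `q 1, …, q r`; `κ` a field over `A`.
The `κ`-span of the operators `κ ⊗ (s • ·)` in `End_κ(κ ⊗ Q)` has dimension
`dim κ ⊗ Q^r - dim κ ⊗ (Q^r / S (q_i)_i)`.
-/

set_option autoImplicit false
universe u

namespace Groth.Agent.Helper3.CRank

open TensorProduct

section Fibre

variable (A : Type u) [CommRing A] (S : Type u) [CommRing S] [Algebra A S]
  {Q : Type u} [AddCommGroup Q] [Module A Q] [Module S Q] [IsScalarTower A S Q]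
  (κ : Type u) [Field κ] [Algebra A κ] {r : ℕ} (q : Fin r → Q)

/-- The orbit map `s ↦ (s • q i)_i`. -/
noncomputable def orbit : S →ₗ[A] (Fin r → Q) :=
  LinearMap.pi fun i => (LinearMap.toSpanSingleton S Q (q i)).restrictScalars A

@[simp] theorem orbit_apply (s : S) (i : Fin r) : orbit A S q s i = s • q i := rfl

/-- Evaluation of endomorphisms at the generators, as a map into `κ ⊗ Q^r`. -/
noncomputable def evGen : Module.End κ (κ ⊗[A] Q) →ₗ[κ] κ ⊗[A] (Fin r → Q) :=
  (TensorProduct.piRight A κ κ (fun _ : Fin r => Q)).symm.toLinearMap ∘ₗ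
    LinearMap.pi fun i => LinearMap.applyₗ ((1 : κ) ⊗ₜ[A] q i)

theorem evGen_baseChange (s : S) :
    evGen A κ q (LinearMap.baseChange κ (DistribSMul.toLinearMap A Q s)) = 1 ⊗ₜ orbit A S q s := by
  simp only [evGen, LinearMap.coe_comp, LinearEquiv.coe_coe, Function.comp_apply]
  rw [LinearEquiv.symm_apply_eq, TensorProduct.piRight_apply, TensorProduct.piRightHom_tmul]
  ext i
  simp [LinearMap.baseChange_tmul]

theorem evGen_injective (hq : Submodule.span A (Set.range q) = ⊤) :
    Function.Injective (evGen A κ q) := by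
  rw [injective_iff_map_eq_zero]
  intro φ hφ
  have h1 : ∀ i, φ ((1 : κ) ⊗ₜ[A] q i) = 0 := by
    intro i
    have h2 : (LinearMap.pi fun i => LinearMap.applyₗ ((1 : κ) ⊗ₜ[A] q i) :
        Module.End κ (κ ⊗[A] Q) →ₗ[κ] (Fin r → κ ⊗[A] Q)) φ = 0 := by
      have := hφ
      simp only [evGen, LinearMap.coe_comp, LinearEquiv.coe_coe, Function.comp_apply,
        LinearEquiv.map_eq_zero_iff] at this
      exact this
    exact congrFun h2 i
  have h3 : ∀ q' : Q, φ ((1 : κ) ⊗ₜ[A] q') = 0 := by
    intro q'
    have hq' : q' ∈ Submodule.span A (Set.range q) := hq ▸ Submodule.mem_top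
    induction hq' using Submodule.span_induction with
    | mem x hx =>
      obtain ⟨i, rfl⟩ := hx
      exact h1 i
    | zero => simp
    | add x y _ _ hx hy => rw [TensorProduct.tmul_add, map_add, hx, hy, add_zero]
    | smul a x _ hx =>
      rw [TensorProduct.tmul_smul, ← algebraMap_smul κ a ((1 : κ) ⊗ₜ[A] x), map_smul, hx,
        smul_zero]
  ext q'
  simp only [TensorProduct.AlgebraTensorModule.curry_apply, LinearMap.restrictScalars_apply,
    TensorProduct.curry_apply, LinearMap.zero_apply]
  exact h3 q'

theorem range_baseChange_orbit :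
    LinearMap.range ((orbit A S q).baseChange κ) =
      Submodule.span κ (Set.range fun s : S => (1 : κ) ⊗ₜ[A] orbit A S q s) := by
  apply le_antisymm
  · rintro _ ⟨t, rfl⟩
    induction t using TensorProduct.induction_on with
    | zero => simp
    | tmul c s =>
      rw [LinearMap.baseChange_tmul]
      have : c ⊗ₜ[A] orbit A S q s = c • ((1 : κ) ⊗ₜ[A] orbit A S q s) := by
        rw [TensorProduct.smul_tmul', smul_eq_mul, mul_one]
      rw [this]
      exact Submodule.smul_mem _ _ (Submodule.subset_span ⟨s, rfl⟩)
    | add t t' ht ht' =>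
      rw [map_add]
      exact Submodule.add_mem _ ht ht'
  · rw [Submodule.span_le]
    rintro _ ⟨s, rfl⟩
    exact ⟨(1 : κ) ⊗ₜ[A] s, by rw [LinearMap.baseChange_tmul]⟩

theorem finrank_span_add [Module.Finite A Q] (hq : Submodule.span A (Set.range q) = ⊤) :
    Module.finrank κ (Submodule.span κ (Set.range fun s : S =>
        LinearMap.baseChange κ (DistribSMul.toLinearMap A Q s))) +
      Module.finrank κ (κ ⊗[A] ((Fin r → Q) ⧸ LinearMap.range (orbit A S q))) =
      Module.finrank κ (κ ⊗[A] (Fin r → Q)) := by
  have hinj := evGen_injective A κ q hq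
  have hmap : Submodule.map (evGen A κ q) (Submodule.span κ (Set.range fun s : S =>
      LinearMap.baseChange κ (DistribSMul.toLinearMap A Q s))) =
      LinearMap.range ((orbit A S q).baseChange κ) := by
    rw [Submodule.map_span, ← Set.range_comp, range_baseChange_orbit]
    congr 2
    ext1 s
    exact evGen_baseChange A S κ q s
  have h1 : Module.finrank κ (Submodule.span κ (Set.range fun s : S =>
      LinearMap.baseChange κ (DistribSMul.toLinearMap A Q s))) =
      Module.finrank κ (LinearMap.range ((orbit A S q).baseChange κ)) := by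
    rw [← hmap]
    exact (Submodule.equivMapOfInjective _ hinj _).finrank_eq
  have hex : Function.Exact ((orbit A S q).baseChange κ)
      ((LinearMap.range (orbit A S q)).mkQ.baseChange κ) :=
    lTensor_exact κ (LinearMap.exact_map_mkQ_range (orbit A S q))
      (Submodule.mkQ_surjective (LinearMap.range (orbit A S q)))
  have hsurj : Function.Surjective ((LinearMap.range (orbit A S q)).mkQ.baseChange κ) :=
    LinearMap.lTensor_surjective κ (Submodule.mkQ_surjective (LinearMap.range (orbit A S q)))
  have h2 := LinearMap.finrank_range_add_finrank_ker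
    ((LinearMap.range (orbit A S q)).mkQ.baseChange κ)
  rw [LinearMap.range_eq_top.mpr hsurj, finrank_top, LinearMap.exact_iff.mp hex] at h2
  rw [h1, add_comm]
  exact h2

end Fibre

end Groth.Agent.Helper3.CRank
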