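import Mathlib
import Groth.Agent.Lib.Helper3.CRank1
import Groth.Agent.Lib.Helper3.FibRank

/-!
# Constructibility of the fibrewise dimension of the algebra of multiplication operators (helper3)
-/

set_option autoImplicit false
universe u

namespace Groth.Agent.Helper3.CRank

open TensorProduct Topology Groth.Agent.Helper2.ReducedFree

theorem isConstructible_of_isOpen {A : Type u} [CommRing A] [IsNoetherianRing A]
    {U : Set (PrimeSpectrum A)} (hU : IsOpen U) : IsConstructible U :=
  (TopologicalSpace.NoetherianSpace.isCompact U).isConstructible hU

theorem isOpen_fibRank_lt {A : Type u} [CommRing A] (C : Type u) [AddCommGroup C] [Module A C]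
    [Module.Finite A C] (m : ℕ) : IsOpen {p : PrimeSpectrum A | fibRank C p < m} := by
  rw [isOpen_iff_mem_nhds]
  intro z hz
  filter_upwards [Groth.Agent.Helper3.FibRank.fibRank_eventually_le C z] with x hx
  exact lt_of_le_of_lt hx hz

theorem isConstructible_fibRank_eq {A : Type u} [CommRing A] [IsNoetherianRing A] (C : Type u)
    [AddCommGroup C] [Module A C] [Module.Finite A C] (m : ℕ) :
    IsConstructible {p : PrimeSpectrum A | fibRank C p = m} := by
  have : {p : PrimeSpectrum A | fibRank C p = m} =
      {p | fibRank C p < m + 1} \ {p | fibRank C p < m} := by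
    ext p
    simp only [Set.mem_ofPred_eq, Set.mem_sdiff, not_lt]
    omega
  rw [this]
  exact (isConstructible_of_isOpen (isOpen_fibRank_lt C _)).sdiff
    (isConstructible_of_isOpen (isOpen_fibRank_lt C _))

theorem S15153_main (A : Type u) [CommRing A] [IsNoetherianRing A]
    (S : Type u) [CommRing S] [Algebra A S]
    (Q : Type u) [AddCommGroup Q] [Module A Q] [Module S Q] [IsScalarTower A S Q]
    [Module.Finite A Q] [Module.Flat A Q] (n : ℕ) :
    Topology.IsConstructible {p : PrimeSpectrum A |
      Module.finrank p.asIdeal.ResidueField
        (Submodule.span p.asIdeal.ResidueField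
          (Set.range fun s : S =>
            LinearMap.baseChange p.asIdeal.ResidueField (DistribSMul.toLinearMap A Q s))) = n} := by
  obtain ⟨r, q, hq⟩ := Module.Finite.exists_fin (R := A) (M := Q)
  have key : ∀ p : PrimeSpectrum A,
      Module.finrank p.asIdeal.ResidueField
        (Submodule.span p.asIdeal.ResidueField
          (Set.range fun s : S =>
            LinearMap.baseChange p.asIdeal.ResidueField (DistribSMul.toLinearMap A Q s))) +
        fibRank ((Fin r → Q) ⧸ LinearMap.range (orbit A S q)) p = fibRank (Fin r → Q) p :=
    fun p => finrank_span_add A S p.asIdeal.ResidueField q hq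
  haveI : Module.FinitePresentation A (Fin r → Q) := Module.finitePresentation_of_finite A _
  haveI : Module.Flat A (Fin r → Q) :=
    Module.Flat.of_linearEquiv
      (DFinsupp.linearEquivFunOnFintype (R := A) (M := fun _ : Fin r => Q)).symm
  have hlc : IsLocallyConstant (fun p : PrimeSpectrum A => fibRank (Fin r → Q) p) := by
    have h1 := Module.isLocallyConstant_rankAtStalk (R := A) (M := Fin r → Q)
    have h2 : (fun p : PrimeSpectrum A => fibRank (Fin r → Q) p) =
        Module.rankAtStalk (R := A) (Fin r → Q) := by
      ext p
      exact (Module.rankAtStalk_eq (M := Fin r → Q) p).symm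
    rw [h2]
    exact h1
  have hfin := hlc.range_finite
  have hset : {p : PrimeSpectrum A |
      Module.finrank p.asIdeal.ResidueField
        (Submodule.span p.asIdeal.ResidueField
          (Set.range fun s : S =>
            LinearMap.baseChange p.asIdeal.ResidueField (DistribSMul.toLinearMap A Q s))) = n} =
      ⋃ v ∈ Set.range (fun p : PrimeSpectrum A => fibRank (Fin r → Q) p),
        ({p | fibRank (Fin r → Q) p = v} ∩
          {p | fibRank ((Fin r → Q) ⧸ LinearMap.range (orbit A S q)) p + n = v}) := by
    ext p
    simp only [Set.mem_ofPred_eq, Set.mem_iUnion, Set.mem_inter_iff, Set.mem_range, exists_prop]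
    constructor
    · intro hp
      refine ⟨_, ⟨p, rfl⟩, rfl, ?_⟩
      have := key p
      omega
    · rintro ⟨v, -, h1, h2⟩
      have := key p
      omega
  rw [hset]
  refine IsConstructible.biUnion hfin (fun v _ => ?_)
  refine IsConstructible.inter ?_ ?_
  · exact isConstructible_of_isOpen (hlc.isOpen_fiber v)
  · by_cases hv : n ≤ v
    · have : {p : PrimeSpectrum A |
          fibRank ((Fin r → Q) ⧸ LinearMap.range (orbit A S q)) p + n = v} =
          {p | fibRank ((Fin r → Q) ⧸ LinearMap.range (orbit A S q)) p = v - n} := by
        ext p
        simp only [Set.mem_ofPred_eq]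
        omega
      rw [this]
      exact isConstructible_fibRank_eq _ _
    · have : {p : PrimeSpectrum A |
          fibRank ((Fin r → Q) ⧸ LinearMap.range (orbit A S q)) p + n = v} = ∅ := by
        ext p
        simp only [Set.mem_ofPred_eq, Set.mem_empty_iff_false, iff_false]
        omega
      rw [this]
      exact IsConstructible.empty

end Groth.Agent.Helper3.CRank
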