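import Mathlib
import Groth.Prelude.Def_DeltaF

/-!
# Cosimplicial objects: the shift, and the contraction of the cochain complex of a shifted
cosimplicial object; the δ-functor of an exact functor to cochain complexes
-/

set_option autoImplicit false
set_option backward.isDefEq.respectTransparency false
open CategoryTheory Limits Opposite Simplicial DeltaF

universe v u v' u'
namespace Groth.Agent.Helper3.CS1

noncomputable section

section generic

variable {A : Type u} [Category.{v} A] [Abelian A] {B : Type u'} [Category.{v'} B] [Abelian B]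
  (K : A ⥤ CochainComplex B ℕ) [K.Additive]
  (hK : ∀ S : ShortComplex A, S.ShortExact → (S.map K).ShortExact)

/-- the cohomology of an exact functor to cochain complexes, as a cohomological δ-functor -/
def cxDelta : CohDeltaFunctor A B ℕ where
  F n := K ⋙ HomologicalComplex.homologyFunctor _ _ n
  additive n := inferInstance
  δ S hS n₀ n₁ h := (hK S hS).δ n₀ n₁ h
  δ_natural {S S'} hS hS' φ n₀ n₁ h :=
    (HomologicalComplex.HomologySequence.δ_naturality (K.mapShortComplex.map φ)
      (hK S hS) (hK S' hS') n₀ n₁ h).symm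
  exact₂ S hS n := (hK S hS).homology_exact₂ n
  comp_δ S hS n₀ n₁ h := (hK S hS).comp_δ n₀ n₁ h
  exact₃ S hS n₀ n₁ h := (hK S hS).homology_exact₃ n₀ n₁ h
  δ_comp S hS n₀ n₁ h := (hK S hS).δ_comp n₀ n₁ h
  exact₁ S hS n₀ n₁ h := (hK S hS).homology_exact₁ n₀ n₁ h

lemma exact_of_contraction (S : ShortComplex B) (h' : S.X₂ ⟶ S.X₁) (h : S.X₃ ⟶ S.X₂)
    (e : h' ≫ S.f + S.g ≫ h = 𝟙 _) : S.Exact := by
  rw [ShortComplex.exact_iff_exact_up_to_refinements]
  intro W x hx
  refine ⟨W, 𝟙 W, inferInstance, x ≫ h', ?_⟩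
  rw [Category.id_comp, Category.assoc]
  have := congrArg (fun m => x ≫ m) e
  simp only [Preadditive.comp_add, Category.comp_id] at this
  rw [← Category.assoc x S.g h, hx, zero_comp, add_zero] at this
  exact this.symm

end generic

section shift

/-- the shifted map, adding a new least element -/
def shMap {a b : SimplexCategory} (φ : a ⟶ b) : ⦋a.len + 1⦌ ⟶ ⦋b.len + 1⦌ :=
  SimplexCategory.mkHom
    { toFun := Fin.cases 0 (fun i => (φ.toOrderHom i).succ)
      monotone' := by
        intro i j hij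
        induction i using Fin.cases with
        | zero => exact Fin.zero_le _
        | succ i' =>
          induction j using Fin.cases with
          | zero => exact absurd hij (by simp)
          | succ j' =>
            simp only [Fin.cases_succ]
            exact Fin.succ_le_succ_iff.2 (φ.toOrderHom.monotone (Fin.succ_le_succ_iff.1 hij)) }

lemma shMap_zero {a b : SimplexCategory} (φ : a ⟶ b) : (shMap φ).toOrderHom 0 = 0 := rfl

lemma shMap_succ {a b : SimplexCategory} (φ : a ⟶ b) (i : Fin (a.len + 1)) :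
    (shMap φ).toOrderHom i.succ = (φ.toOrderHom i).succ := rfl

/-- the shift functor of the simplex category -/
def sh : SimplexCategory ⥤ SimplexCategory where
  obj a := ⦋a.len + 1⦌
  map φ := shMap φ
  map_id a := by
    ext i : 3
    induction i using Fin.cases with
    | zero => rfl
    | succ i' => rfl
  map_comp φ ψ := by
    ext i : 3
    induction i using Fin.cases with
    | zero => rfl
    | succ i' => rfl

lemma shMap_δ {n : ℕ} (i : Fin (n + 2)) :
    shMap (SimplexCategory.δ i) = SimplexCategory.δ i.succ := by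
  ext k : 3
  induction k using Fin.cases with
  | zero =>
    change (0 : Fin (n + 3)) = Fin.succAbove i.succ 0
    rw [Fin.succ_succAbove_zero]
  | succ k' =>
    change (Fin.succAbove i k').succ = Fin.succAbove i.succ k'.succ
    rw [Fin.succ_succAbove_succ]

/-- the inclusion of the identity into the shift -/
def ι : 𝟭 SimplexCategory ⟶ sh where
  app a := (SimplexCategory.δ (0 : Fin (a.len + 2)) : ⦋a.len⦌ ⟶ ⦋a.len + 1⦌)
  naturality a b φ := by
    ext i : 3
    change Fin.succAbove 0 (φ.toOrderHom i) = (shMap φ).toOrderHom (Fin.succAbove 0 i)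
    rw [Fin.succAbove_zero, Fin.succAbove_zero]
    rfl

end shift

section dec

open AlgebraicTopology

variable {B : Type u} [Category.{v} B] [Abelian B] (F : CosimplicialObject B)

/-- the shifted cosimplicial object -/
abbrev dec : CosimplicialObject B := sh ⋙ F

lemma dec_δ {n : ℕ} (i : Fin (n + 2)) :
    (dec F).δ i = F.map (SimplexCategory.δ i.succ) := by
  change F.map (shMap (SimplexCategory.δ i)) = _
  rw [shMap_δ]

/-- the inclusion into the shifted object -/
def decι : F ⟶ dec F := (Functor.leftUnitor F).inv ≫ Functor.whiskerRight ι F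

lemma decι_app (a : SimplexCategory) :
    (decι F).app a = F.map (SimplexCategory.δ (0 : Fin (a.len + 2)) : ⦋a.len⦌ ⟶ ⦋a.len + 1⦌) := by
  change 𝟙 _ ≫ F.map _ = _
  rw [Category.id_comp]
  rfl

instance mono_decι : Mono (decι F) := by
  haveI : ∀ a, Mono ((decι F).app a) := by
    intro a
    rw [decι_app]
    have h : F.map (SimplexCategory.δ (0 : Fin (a.len + 2)) : ⦋a.len⦌ ⟶ ⦋a.len + 1⦌) ≫
        F.map (SimplexCategory.σ (0 : Fin (a.len + 1))) = 𝟙 _ := by
      rw [← F.map_comp]
      have := SimplexCategory.δ_comp_σ_self (n := a.len) (i := 0)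
      rw [Fin.castSucc_zero] at this
      rw [this]
      exact F.map_id _
    exact (IsSplitMono.mk' ⟨_, h⟩).mono
  exact NatTrans.mono_of_mono_app _

lemma contraction (n : ℕ) :
    (F.map (SimplexCategory.σ (0 : Fin (n + 2))) ≫ AlternatingCofaceMapComplex.objD (dec F) n :
        F.obj ⦋n + 2⦌ ⟶ F.obj ⦋n + 2⦌) +
      (AlternatingCofaceMapComplex.objD (dec F) (n + 1) ≫
        F.map (SimplexCategory.σ (0 : Fin (n + 3))) : F.obj ⦋n + 2⦌ ⟶ F.obj ⦋n + 2⦌) =
      𝟙 (F.obj ⦋n + 2⦌) := by
  have h0 : (dec F).δ (0 : Fin (n + 3)) ≫ F.map (SimplexCategory.σ (0 : Fin (n + 3))) = 𝟙 _ := by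
    rw [dec_δ, ← F.map_comp]
    have := SimplexCategory.δ_comp_σ_succ (n := n + 2) (i := 0)
    rw [this]
    exact F.map_id _
  have hs : ∀ j : Fin (n + 2), (dec F).δ j.succ ≫ F.map (SimplexCategory.σ (0 : Fin (n + 3))) =
      F.map (SimplexCategory.σ (0 : Fin (n + 2))) ≫ (dec F).δ j := by
    intro j
    rw [dec_δ, dec_δ, ← F.map_comp, ← F.map_comp]
    have := SimplexCategory.δ_comp_σ_of_gt (n := n + 1) (i := j.succ) (j := 0)
      (by rw [Fin.castSucc_zero]; exact Fin.succ_pos j)
    rw [Fin.castSucc_zero] at this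
    rw [this]
  have hg : (AlternatingCofaceMapComplex.objD (dec F) (n + 1) ≫
      F.map (SimplexCategory.σ (0 : Fin (n + 3))) : F.obj ⦋n + 2⦌ ⟶ F.obj ⦋n + 2⦌) =
      𝟙 _ - (F.map (SimplexCategory.σ (0 : Fin (n + 2))) ≫
        AlternatingCofaceMapComplex.objD (dec F) n : F.obj ⦋n + 2⦌ ⟶ F.obj ⦋n + 2⦌) := by
    simp only [AlternatingCofaceMapComplex.objD]
    rw [Preadditive.sum_comp, Fin.sum_univ_succ, Preadditive.comp_sum, eq_sub_iff_add_eq, add_assoc,
      ← Finset.sum_add_distrib]
    have hz : ∀ j : Fin (n + 2),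
        (((-1 : ℤ) ^ ((j.succ : Fin (n + 3)) : ℕ) • (dec F).δ j.succ) ≫
          F.map (SimplexCategory.σ (0 : Fin (n + 3))) : F.obj ⦋n + 2⦌ ⟶ F.obj ⦋n + 2⦌) +
        (F.map (SimplexCategory.σ (0 : Fin (n + 2))) ≫ ((-1 : ℤ) ^ (j : ℕ) • (dec F).δ j) :
          F.obj ⦋n + 2⦌ ⟶ F.obj ⦋n + 2⦌) = 0 := by
      intro j
      rw [Preadditive.zsmul_comp, Preadditive.comp_zsmul, hs, Fin.val_succ, pow_succ, ← add_smul]
      have : (-1 : ℤ) ^ (j : ℕ) * -1 + (-1 : ℤ) ^ (j : ℕ) = 0 := by ring
      rw [this, zero_smul]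
    rw [Finset.sum_congr rfl (fun j _ => hz j), Finset.sum_const_zero, add_zero, Fin.val_zero,
      pow_zero, one_smul, h0]
    rfl
  rw [hg]
  abel

/-- the cochain complex of a shifted cosimplicial object is exact in positive degrees -/
theorem isZero_homology_dec (n : ℕ) :
    IsZero (((alternatingCofaceMapComplex B).obj (dec F)).homology (n + 1)) := by
  rw [← HomologicalComplex.exactAt_iff_isZero_homology,
    HomologicalComplex.exactAt_iff' _ n (n + 1) (n + 2) (by simp) (by simp)]
  refine exact_of_contraction _ (F.map (SimplexCategory.σ (0 : Fin (n + 2))))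
    (F.map (SimplexCategory.σ (0 : Fin (n + 3)))) ?_
  have h1 : ((alternatingCofaceMapComplex B).obj (dec F)).d n (n + 1) =
      AlternatingCofaceMapComplex.objD (dec F) n :=
    CochainComplex.of_d (V := B) (fun n => (dec F).obj ⦋n⦌)
      (AlternatingCofaceMapComplex.objD (dec F)) n
  have h2 : ((alternatingCofaceMapComplex B).obj (dec F)).d (n + 1) (n + 2) =
      AlternatingCofaceMapComplex.objD (dec F) (n + 1) :=
    CochainComplex.of_d (V := B) (fun n => (dec F).obj ⦋n⦌)
      (AlternatingCofaceMapComplex.objD (dec F)) (n + 1)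
  change (F.map (SimplexCategory.σ (0 : Fin (n + 2))) ≫
      ((alternatingCofaceMapComplex B).obj (dec F)).d n (n + 1) : F.obj ⦋n + 2⦌ ⟶ F.obj ⦋n + 2⦌) +
    (((alternatingCofaceMapComplex B).obj (dec F)).d (n + 1) (n + 2) ≫
      F.map (SimplexCategory.σ (0 : Fin (n + 3))) : F.obj ⦋n + 2⦌ ⟶ F.obj ⦋n + 2⦌) = 𝟙 _
  rw [h1, h2]
  exact contraction F n

end dec

end

end Groth.Agent.Helper3.CS1
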