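import Mathlib
import Groth.Prelude.Def_DeltaF
import Groth.Prelude.Def_RDerDelta
import Groth.Agent.Lib.Helper3.CS1
import Groth.Agent.Lib.Helper3.RDerL
import Groth.Agent.Lib.Helper3.DeltaIso2

/-!
# The derived functors of the limit of cosimplicial objects are computed by the alternating coface
complex
-/

set_option autoImplicit false
set_option backward.isDefEq.respectTransparency false
open CategoryTheory Limits Opposite Simplicial DeltaF AlgebraicTopology

universe v u
namespace Groth.Agent.Helper3.CS2

open CS1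

noncomputable section

variable {B : Type u} [Category.{v} B] [Abelian B]

section limit

variable (F : CosimplicialObject B)

lemma d0 : ((alternatingCofaceMapComplex B).obj F).d 0 1 = F.δ 0 - F.δ 1 := by
  have h : ((alternatingCofaceMapComplex B).obj F).d 0 1 = AlternatingCofaceMapComplex.objD F 0 :=
    CochainComplex.of_d (V := B) (fun n => F.obj ⦋n⦌) (AlternatingCofaceMapComplex.objD F) 0
  rw [h]
  simp [AlternatingCofaceMapComplex.objD, Fin.sum_univ_two, sub_eq_add_neg]

lemma vertex_eq {W : B} (s : W ⟶ F.obj ⦋0⦌) (hs : s ≫ F.δ 0 = s ≫ F.δ 1) (k : SimplexCategory)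
    (a b : ⦋0⦌ ⟶ k) : s ≫ F.map a = s ≫ F.map b := by
  have key : ∀ (a b : ⦋0⦌ ⟶ k), a.toOrderHom 0 ≤ b.toOrderHom 0 → s ≫ F.map a = s ≫ F.map b := by
    intro a b h
    let e : ⦋1⦌ ⟶ k := (SimplexCategory.mkOfLe (n := k.len) (a.toOrderHom 0) (b.toOrderHom 0) h : ⦋1⦌ ⟶ ⦋k.len⦌)
    have ha : a = SimplexCategory.δ (1 : Fin 2) ≫ e := by
      ext i : 3
      obtain rfl : i = 0 := Subsingleton.elim (α := Fin 1) _ _
      rfl
    have hb : b = SimplexCategory.δ (0 : Fin 2) ≫ e := by
      ext i : 3
      obtain rfl : i = 0 := Subsingleton.elim (α := Fin 1) _ _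
      rfl
    rw [ha, hb, F.map_comp, F.map_comp, ← Category.assoc, ← Category.assoc]
    exact congrArg (fun m => m ≫ F.map e) hs.symm
  rcases le_total (a.toOrderHom 0) (b.toOrderHom 0) with h | h
  · exact key a b h
  · exact (key b a h).symm

/-- the cone over `F` attached to a map to `F⁰` equalising the two cofaces -/
def coneOf {W : B} (s : W ⟶ F.obj ⦋0⦌) (hs : s ≫ F.δ 0 = s ≫ F.δ 1) : Cone F where
  pt := W
  π :=
    { app := fun k => s ≫ F.map (SimplexCategory.const ⦋0⦌ k 0)
      naturality := fun k k' φ => by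
        change 𝟙 W ≫ s ≫ F.map _ = (s ≫ F.map _) ≫ F.map φ
        rw [Category.id_comp, Category.assoc, ← F.map_comp]
        exact vertex_eq F s hs k' _ _ }

variable [HasLimitsOfShape SimplexCategory B]

lemma π0_d : limit.π F ⦋0⦌ ≫ ((alternatingCofaceMapComplex B).obj F).d 0 1 = 0 := by
  rw [d0, Preadditive.comp_sub, sub_eq_zero]
  exact (limit.w F (SimplexCategory.δ (0 : Fin 2))).trans
    (limit.w F (SimplexCategory.δ (1 : Fin 2))).symm

lemma eq_of_d {W : B} (s : W ⟶ F.obj ⦋0⦌)
    (hs : s ≫ ((alternatingCofaceMapComplex B).obj F).d 0 1 = 0) : s ≫ F.δ 0 = s ≫ F.δ 1 := by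
  rw [d0, Preadditive.comp_sub, sub_eq_zero] at hs
  exact hs

/-- the limit of a cosimplicial object is the kernel of the first differential -/
def isLimitFork : IsLimit (KernelFork.ofι (limit.π F ⦋0⦌) (π0_d F)) :=
  KernelFork.IsLimit.ofι _ _ (fun s hs => limit.lift F (coneOf F s (eq_of_d F s hs)))
    (fun s hs => by
      rw [limit.lift_π]
      change s ≫ F.map (SimplexCategory.const ⦋0⦌ ⦋0⦌ 0) = s
      rw [SimplexCategory.const_eq_id, F.map_id, Category.comp_id])
    (fun s hs m hm => by
      apply limit.hom_ext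
      intro k
      rw [limit.lift_π]
      change m ≫ limit.π F k = s ≫ F.map (SimplexCategory.const ⦋0⦌ k 0)
      rw [← hm, Category.assoc, limit.w])

/-- the limit is the object of cycles in degree zero -/
def limIsoCycles : limit F ≅ ((alternatingCofaceMapComplex B).obj F).cycles 0 :=
  IsLimit.conePointUniqueUpToIso (isLimitFork F)
    (((alternatingCofaceMapComplex B).obj F).cyclesIsKernel 0 1 (by simp))

lemma limIsoCycles_hom_i :
    (limIsoCycles F).hom ≫ ((alternatingCofaceMapComplex B).obj F).iCycles 0 = limit.π F ⦋0⦌ :=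
  IsLimit.conePointUniqueUpToIso_hom_comp (isLimitFork F)
    (((alternatingCofaceMapComplex B).obj F).cyclesIsKernel 0 1 (by simp)) WalkingParallelPair.zero

end limit

section iso

variable [HasLimitsOfShape SimplexCategory B]

/-- the limit functor is the zeroth cohomology of the alternating coface complex -/
def limIsoH0 : (lim : CosimplicialObject B ⥤ B) ≅
    alternatingCofaceMapComplex B ⋙ HomologicalComplex.homologyFunctor B _ 0 :=
  NatIso.ofComponents (fun F => limIsoCycles F ≪≫
    ((alternatingCofaceMapComplex B).obj F).isoHomologyπ 0 0 (by simp) (by simp))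
    (fun {F F'} g => by
      change limMap g ≫ (limIsoCycles F').hom ≫ ((alternatingCofaceMapComplex B).obj F').homologyπ 0 =
        ((limIsoCycles F).hom ≫ ((alternatingCofaceMapComplex B).obj F).homologyπ 0) ≫
          HomologicalComplex.homologyMap ((alternatingCofaceMapComplex B).map g) 0
      rw [Category.assoc, HomologicalComplex.homologyπ_naturality, ← Category.assoc, ← Category.assoc]
      congr 1
      rw [← cancel_mono (((alternatingCofaceMapComplex B).obj F').iCycles 0), Category.assoc,
        Category.assoc, limIsoCycles_hom_i, HomologicalComplex.cyclesMap_i, limMap_π,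
        ← Category.assoc, limIsoCycles_hom_i]
      rfl)

end iso

section main

variable [HasLimitsOfShape SimplexCategory B] [EnoughInjectives (SimplexCategory ⥤ B)]
  [(lim : (SimplexCategory ⥤ B) ⥤ B).Additive]

/-- the alternating coface complex, as a functor on the functor category -/
abbrev KK : (SimplexCategory ⥤ B) ⥤ CochainComplex B ℕ := alternatingCofaceMapComplex B

instance : (KK (B := B)).Additive where
  map_add {M M' f g} := by
    ext k : 2
    rfl

lemma K_shortExact (S : ShortComplex (SimplexCategory ⥤ B)) (hS : S.ShortExact) :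
    (S.map (KK (B := B))).ShortExact := by
  apply HomologicalComplex.shortExact_of_degreewise_shortExact
  intro k
  exact hS.map_of_exact ((evaluation SimplexCategory B).obj ⦋k⦌)

/-- the cohomology of the alternating coface complex, as a δ-functor -/
def T₂ : CohDeltaFunctor (SimplexCategory ⥤ B) B ℕ :=
  cxDelta (KK (B := B)) K_shortExact

lemma T₂_eff : (T₂ (B := B)).IsEffaceable := by
  intro n F
  refine ⟨dec F, decι F, ?_, ?_⟩
  · exact mono_decι F
  · exact (isZero_homology_dec F n).eq_of_tgt _ _

/-- the derived functors of the limit, as a δ-functor -/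
def T₁ : CohDeltaFunctor (SimplexCategory ⥤ B) B ℕ :=
  (RDerL.derivedLES (lim : (SimplexCategory ⥤ B) ⥤ B)).toCohDeltaFunctor

lemma T₁_eff : (T₁ (B := B)).IsEffaceable := by
  intro n F
  exact ⟨Injective.under F, Injective.ι F, inferInstance,
    (Functor.isZero_rightDerived_obj_injective_succ
      (lim : (SimplexCategory ⥤ B) ⥤ B) n (Injective.under F)).eq_of_tgt _ _⟩

/-- the comparison in degree zero -/
def t0 : (T₁ (B := B)).F 0 ≅ (T₂ (B := B)).F 0 :=
  haveI : (lim : (SimplexCategory ⥤ B) ⥤ B).IsRightAdjoint := ⟨_, ⟨constLimAdj⟩⟩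
  Functor.rightDerivedZeroIsoSelf (lim : (SimplexCategory ⥤ B) ⥤ B) ≪≫ limIsoH0 (B := B)

/-- the derived functors of the limit over the simplex category are computed by the alternating coface
complex -/
theorem nonempty_iso (F : SimplexCategory ⥤ B) (n : ℕ) :
    Nonempty (((lim : (SimplexCategory ⥤ B) ⥤ B).rightDerived n).obj F ≅
      ((alternatingCofaceMapComplex B).obj F).homology n) :=
  ⟨(DeltaIso2.isoOfZero T₁ T₂ T₁_eff T₂_eff t0 n).app F⟩

end main

end

end Groth.Agent.Helper3.CS2
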