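import Mathlib
import Groth.Agent.Lib.Helper3.BassLem
import Groth.Agent.Lib.Helper3.DualFun3

/-!
# Dévissage for the functors `M ↦ Hom(D(M), R'[i])` over a Noetherian local ring
-/

set_option autoImplicit false
universe u
open CategoryTheory CategoryTheory.Limits DerivedCategory Pretriangulated Triangulated

attribute [local instance] HasDerivedCategory.standard

namespace Groth.Agent.Helper3.PhiDev

open Groth.Agent.Helper3.DualCx Groth.Agent.Helper3.DualFun
open scoped Pointwise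

variable {A : Type u} [CommRing A]

section Lin

lemma DcMap_add (I : DRing.Cx A) {M M' : ModuleCat.{u} A} (f g : M ⟶ M') :
    DcMap I (f + g) = DcMap I f + DcMap I g := by
  ext i : 1
  apply ModuleCat.hom_ext
  apply LinearMap.ext
  intro (φ : M' ⟶ I.X i)
  show (f + g) ≫ φ = f ≫ φ + g ≫ φ
  exact Preadditive.add_comp _ _ _ _ _ _

lemma DcMap_smul (I : DRing.Cx A) {M M' : ModuleCat.{u} A} (a : A) (f : M ⟶ M') :
    DcMap I (a • f) = a • DcMap I f := by
  ext i : 1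
  apply ModuleCat.hom_ext
  apply LinearMap.ext
  intro (φ : M' ⟶ I.X i)
  show (a • f) ≫ φ = a • (f ≫ φ)
  exact Linear.smul_comp _ _ _ _ _ _

variable {ω : Dual.D A} (d : Data A ω)

lemma Dmap_add {M M' : ModuleCat.{u} A} (f g : M ⟶ M') :
    Dmap d (f + g) = Dmap d f + Dmap d g := by
  simp only [Dmap, DcMap_add, Functor.map_add]

lemma Dmap_smul {M M' : ModuleCat.{u} A} (a : A) (f : M ⟶ M') :
    Dmap d (a • f) = a • Dmap d f := by
  simp only [Dmap, DcMap_smul, Functor.map_smul]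

lemma Dmap_smul_id (a : A) (M : ModuleCat.{u} A) : Dmap d (a • 𝟙 M) = a • 𝟙 (D d M) := by
  rw [Dmap_smul, Dmap_id]

end Lin

section VanT

variable {ω : Dual.D A} (d : Data A ω) (R' : Dual.D A)

/-- `Hom(D(M), R'[i]) = 0` -/
def VanT (i : ℤ) (M : ModuleCat.{u} A) : Prop := Subsingleton (D d M ⟶ R'⟦i⟧)

lemma vanT_of_iso {M M' : ModuleCat.{u} A} (f : M ≅ M') (i : ℤ) (h : VanT d R' i M) :
    VanT d R' i M' :=
  ⟨fun x y => by
    have := h.elim ((Diso d f).inv ≫ x) ((Diso d f).inv ≫ y)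
    exact (cancel_epi _).1 this⟩

lemma vanT_of_isZero (M : ModuleCat.{u} A) (hM : IsZero M) (i : ℤ) : VanT d R' i M :=
  ⟨fun x y => (isZero_D d M hM).eq_of_src x y⟩

lemma vanT_X₂ (S : ShortComplex (ModuleCat.{u} A)) (hS : S.ShortExact) (i : ℤ)
    (h₁ : VanT d R' i S.X₁) (h₃ : VanT d R' i S.X₃) : VanT d R' i S.X₂ := by
  have hT := Dtri_distinguished d.I d.inj S hS
  have key : ∀ f : D d S.X₂ ⟶ R'⟦i⟧, f = 0 := by
    intro f
    have h0 : (Dtri d.I d.inj S hS).mor₁ ≫ f = 0 := h₃.elim _ _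
    obtain ⟨g, hg⟩ := Triangle.yoneda_exact₂ _ hT f h0
    have hg0 : g = 0 := h₁.elim _ _
    rw [hg, hg0]
    exact comp_zero
  exact ⟨fun f g => by rw [key f, key g]⟩

/-- if `Hom(D(S.X₁), R'[i+1]) = 0` then `Hom(D(S.X₂), R'[i]) → Hom(D(S.X₃), R'[i])` is onto -/
lemma exists_of_vanT_X₁ (S : ShortComplex (ModuleCat.{u} A)) (hS : S.ShortExact) (i : ℤ)
    (h₁ : VanT d R' (i + 1) S.X₁) (f : D d S.X₃ ⟶ R'⟦i⟧) :
    ∃ g : D d S.X₂ ⟶ R'⟦i⟧, f = Dmap d S.g ≫ g := by
  have hT := inv_rot_of_distTriang _ (Dtri_distinguished d.I d.inj S hS)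
  have hsub : Subsingleton ((D d S.X₁)⟦(-1 : ℤ)⟧ ⟶ R'⟦i⟧) :=
    Groth.Agent.Helper3.DualCx.subsingleton_shift_hom _ R' i (-1) (i + 1) (by omega) h₁
  have h0 : (Dtri d.I d.inj S hS).invRotate.mor₁ ≫ f = 0 := hsub.elim _ _
  obtain ⟨g, hg⟩ := Triangle.yoneda_exact₂ _ hT f h0
  exact ⟨g, hg⟩

/-- the short exact sequence `0 → M → M → M/xM → 0` -/
noncomputable abbrev regSC (M : Type u) [AddCommGroup M] [Module A M] (x : A) :
    ShortComplex (ModuleCat.{u} A) :=
  ModuleCat.shortComplexOfCompEqZero (LinearMap.lsmul A M x)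
    ((x • (⊤ : Submodule A M)).mkQ) (LinearMap.exact_lsmul_mkQ_smul_top M x).linearMap_comp_eq_zero

lemma regSC_shortExact (M : Type u) [AddCommGroup M] [Module A M] (x : A)
    (hreg : IsSMulRegular M x) : (regSC M x).ShortExact :=
  shortExact_of_exact (LinearMap.lsmul A M x) _ hreg (Submodule.mkQ_surjective _)
    (LinearMap.exact_lsmul_mkQ_smul_top M x)

lemma regSC_f (M : Type u) [AddCommGroup M] [Module A M] (x : A) :
    (regSC M x).f = x • 𝟙 (ModuleCat.of A M) := by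
  ext m
  simp [regSC]

/-- in the regular-element sequence, an element of `Hom(D(M), R'[i])` dying in
`Hom(D(M/xM), R'[i])` is divisible by `x` -/
lemma exists_smul_of_reg (M : Type u) [AddCommGroup M] [Module A M] (x : A)
    (hreg : IsSMulRegular M x) (Z : Dual.D A) (ψ : D d (ModuleCat.of A M) ⟶ Z)
    (h0 : Dmap d (regSC M x).g ≫ ψ = 0) :
    ∃ φ : D d (ModuleCat.of A M) ⟶ Z, ψ = x • φ := by
  have hS := regSC_shortExact M x hreg
  have hT := Dtri_distinguished d.I d.inj _ hS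
  obtain ⟨(φ : D d (ModuleCat.of A M) ⟶ Z), hφ⟩ := Triangle.yoneda_exact₂ _ hT ψ h0
  refine ⟨φ, ?_⟩
  have hφ' : ψ = Dmap d (regSC M x).f ≫ φ := hφ
  rw [hφ', regSC_f, Dmap_smul_id, Linear.smul_comp, Category.id_comp]

variable [IsLocalRing A]

/-- Nakayama step -/
lemma vanT_of_regular (M : Type u) [AddCommGroup M] [Module A M] (x : A)
    (hx : x ∈ IsLocalRing.maximalIdeal A) (hreg : IsSMulRegular M x) (i : ℤ)
    (hfin : Module.Finite A (D d (ModuleCat.of A M) ⟶ R'⟦i⟧))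
    (h : VanT d R' i (ModuleCat.of A (QuotSMulTop x M))) : VanT d R' i (ModuleCat.of A M) := by
  have hxj : x ∈ Ideal.jacobson (⊥ : Ideal A) := by
    rw [IsLocalRing.jacobson_eq_maximalIdeal _ bot_ne_top]
    exact hx
  have htop : (⊤ : Submodule A (D d (ModuleCat.of A M) ⟶ R'⟦i⟧)) = ⊥ := by
    apply Submodule.eq_bot_of_le_smul_of_le_jacobson_bot (Ideal.span {x}) ⊤
      (Module.Finite.fg_top)
    · intro ψ _
      obtain ⟨φ, rfl⟩ := exists_smul_of_reg d M x hreg (R'⟦i⟧) ψ (h.elim _ _)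
      exact Submodule.smul_mem_smul (Ideal.subset_span rfl) Submodule.mem_top
    · rw [Ideal.span_le]
      intro y hy
      rw [Set.mem_singleton_iff.1 hy]
      exact hxj
  exact ⟨fun φ ψ => by
    have h1 : φ ∈ (⊤ : Submodule A (D d (ModuleCat.of A M) ⟶ R'⟦i⟧)) := Submodule.mem_top
    have h2 : ψ ∈ (⊤ : Submodule A (D d (ModuleCat.of A M) ⟶ R'⟦i⟧)) := Submodule.mem_top
    rw [htop, Submodule.mem_bot] at h1 h2
    rw [h1, h2]⟩

variable [IsNoetherianRing A]

/-- vanishing of `Hom(D(k), R'[i])` propagates to all finite modules -/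
theorem vanT_of_residue (i : ℤ)
    (hF : ∀ (M : Type u) [AddCommGroup M] [Module A M] [Module.Finite A M],
      Module.Finite A (D d (ModuleCat.of A M) ⟶ R'⟦i⟧))
    (hk : VanT d R' i (ModuleCat.of A (A ⧸ IsLocalRing.maximalIdeal A)))
    (M : Type u) [AddCommGroup M] [Module A M] [Module.Finite A M] :
    VanT d R' i (ModuleCat.of A M) := by
  refine LocInd.finite_module_induction_local'
    (P := fun (M : Type u) [AddCommGroup M] [Module A M] => VanT d R' i (ModuleCat.of A M))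
    ?_ ?_ ?_ hk ?_ M
  · intro M _ _ _
    exact vanT_of_isZero d R' _ (ModuleCat.isZero_of_subsingleton _) i
  · intro M N _ _ _ _ e h
    exact vanT_of_iso d R' e.toModuleIso i h
  · intro N₁ N₂ N₃ _ _ _ _ _ _ _ _ _ f g hf hg hfg h₁ h₃
    exact vanT_X₂ d R' _ (shortExact_of_exact f g hf hg hfg) i h₁ h₃
  · intro M _ _ _ x hx hreg h
    exact vanT_of_regular d R' M x hx hreg i (hF M) h

end VanT

end Groth.Agent.Helper3.PhiDev
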