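import Mathlib
import Groth.Agent.Lib.Helper3.PhiDev

/-!
# Biduality by dévissage from the residue field
-/

set_option autoImplicit false
universe u
open CategoryTheory CategoryTheory.Limits DerivedCategory Pretriangulated Triangulated

attribute [local instance] HasDerivedCategory.standard

namespace Groth.Agent.Helper3.EtaDev

open Groth.Agent.Helper3.DualCx Groth.Agent.Helper3.DualFun Groth.Agent.Helper3.PhiDev
open Groth.Agent.Helper5.InjAmp
open scoped Pointwise

variable {A : Type u} [CommRing A] {ω : Dual.D A} (d : Data A ω)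

section Chain

/-- if evaluation at `1 ∈ A/J` is zero in the derived category, then `RHom(A/J, ω) = 0` -/
theorem van_of_eta_one_eq_zero (J : Ideal A)
    (h : eta d (ModuleCat.of A (A ⧸ J)) (Submodule.Quotient.mk (1 : A)) = 0) (j : ℤ) :
    Van ω j (A ⧸ J) := by
  haveI := d.kinj
  have h1 : Q.map (evm d (ModuleCat.of A (A ⧸ J)) (Submodule.Quotient.mk (1 : A))) =
      Q.map 0 := by
    rw [Functor.map_zero]
    have h2 : Q.map (evm d (ModuleCat.of A (A ⧸ J)) (Submodule.Quotient.mk (1 : A))) ≫
        d.e.hom = 0 := h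
    exact (cancel_mono d.e.hom).1 (h2.trans zero_comp.symm)
  obtain ⟨H⟩ := Groth.Agent.Helper5.ToInj.nonempty_homotopy_of_Q_map_eq _ _ h1
  have key : ∀ u : Q.obj (S j (ModuleCat.of A (A ⧸ J))) ⟶ Q.obj d.I, u = 0 := by
    intro u
    obtain ⟨⟨l, hl⟩, rfl⟩ := Phi_surjective d.I (ModuleCat.of A (A ⧸ J)) j u
    have hl' : (show ModuleCat.of A (A ⧸ J) ⟶ d.I.X j from l) ≫ d.I.d j (j + 1) = 0 :=
      (mem_Zj d.I _ j l).1 hl
    rw [Phi_apply]
    let w : d.I.X (j - 1) := (H.hom j (j - 1)).hom l
    have hw : ∀ a ∈ J, a • w = 0 := by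
      intro a ha
      have h3 : a • l = 0 := by
        apply ModuleCat.hom_ext
        apply LinearMap.ext
        intro y
        show a • (show ModuleCat.of A (A ⧸ J) ⟶ d.I.X j from l).hom y = 0
        rw [← map_smul]
        have : a • y = 0 := by
          obtain ⟨b, rfl⟩ := Submodule.Quotient.mk_surjective J y
          rw [← Submodule.Quotient.mk_smul, Submodule.Quotient.mk_eq_zero]
          exact J.mul_mem_right b ha
        rw [this, map_zero]
      show a • (H.hom j (j - 1)).hom l = 0
      rw [← map_smul, h3, map_zero]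
    let s : ModuleCat.of A (A ⧸ J) ⟶ d.I.X (j - 1) :=
      ModuleCat.ofHom (J.liftQ (LinearMap.toSpanSingleton A _ w) (fun a ha => by
        rw [LinearMap.mem_ker, LinearMap.toSpanSingleton_apply]
        exact hw a ha))
    refine Q_map_fromSingle_eq_zero d.I j _ _ s ?_
    have hcomm := H.comm j
    rw [dNext_eq _ (show (ComplexShape.up ℤ).Rel j (j + 1) from rfl),
      prevD_eq _ (show (ComplexShape.up ℤ).Rel (j - 1) j by simp), HomologicalComplex.zero_f,
      add_zero] at hcomm
    have h4 := congrArg (fun t => t.hom l) hcomm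
    have h5 : (show ModuleCat.of A (A ⧸ J) ⟶ d.I.X j from l).hom (Submodule.Quotient.mk (1 : A)) =
        (d.I.d (j - 1) j).hom w := by
      have h6 : ((Dc d.I (ModuleCat.of A (A ⧸ J))).d j (j + 1)).hom l = 0 := hl'
      have h7 : (((Dc d.I (ModuleCat.of A (A ⧸ J))).d j (j + 1) ≫ H.hom (j + 1) j +
          H.hom j (j - 1) ≫ d.I.d (j - 1) j).hom l) =
          (H.hom (j + 1) j).hom (((Dc d.I (ModuleCat.of A (A ⧸ J))).d j (j + 1)).hom l) +
            (d.I.d (j - 1) j).hom ((H.hom j (j - 1)).hom l) := rfl
      rw [h6, map_zero, zero_add] at h7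
      exact h4.trans h7
    apply ModuleCat.hom_ext
    apply Submodule.linearMap_qext
    apply LinearMap.ext_ring
    show (show ModuleCat.of A (A ⧸ J) ⟶ d.I.X j from l).hom (Submodule.Quotient.mk (1 : A)) =
      (d.I.d (j - 1) j).hom ((J.liftQ (LinearMap.toSpanSingleton A _ w) _)
        (Submodule.Quotient.mk (1 : A)))
    rw [Submodule.liftQ_apply, LinearMap.toSpanSingleton_apply, one_smul]
    exact h5
  exact ⟨fun f g => (extEquiv d (ModuleCat.of A (A ⧸ J)) j).injective
    ((key _).trans (key _).symm)⟩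

end Chain

section Induction

variable [IsLocalRing A] [IsNoetherianRing A]

/-- biduality for the residue field implies biduality for all finite modules -/
theorem eta_bijective_of_residue
    (hF0 : ∀ (M : Type u) [AddCommGroup M] [Module A M] [Module.Finite A M],
      Module.Finite A (D d (ModuleCat.of A M) ⟶ ω))
    (hV : ∀ (M : Type u) [AddCommGroup M] [Module A M] [Module.Finite A M],
      VanT d ω (-1) (ModuleCat.of A M))
    (hk : Function.Bijective (eta d (ModuleCat.of A (A ⧸ IsLocalRing.maximalIdeal A))))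
    (M : Type u) [AddCommGroup M] [Module A M] [Module.Finite A M] :
    Function.Bijective (eta d (ModuleCat.of A M)) := by
  refine LocInd.finite_module_induction_local'
    (P := fun (M : Type u) [AddCommGroup M] [Module A M] =>
      Function.Bijective (eta d (ModuleCat.of A M))) ?_ ?_ ?_ hk ?_ M
  · intro M _ _ _
    refine ⟨fun x y _ => Subsingleton.elim (α := M) x y, fun y => ⟨0, ?_⟩⟩
    rw [map_zero]
    exact (isZero_D d _ (ModuleCat.isZero_of_subsingleton _)).eq_of_src _ _
  · intro M N _ _ _ _ e h
    exact ⟨eta_injective_of_iso d e.toModuleIso h.1, eta_surjective_of_iso d e.toModuleIso h.2⟩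
  · intro N₁ N₂ N₃ _ _ _ _ _ _ _ _ _ f g hf hg hfg h₁ h₃
    have hS := shortExact_of_exact f g hf hg hfg
    have hT := Dtri_distinguished d.I d.inj _ hS
    constructor
    · have h₁' := h₁.1
      have h₃' := h₃.1
      rw [← LinearMap.ker_eq_bot, LinearMap.ker_eq_bot'] at h₁' h₃' ⊢
      intro m hm
      have h1 : eta d (ModuleCat.of A N₃) (g m) = 0 := by
        have := eta_naturality d (ModuleCat.ofHom g) m
        rw [hm, comp_zero] at this
        exact this.symm
      have h2 : g m = 0 := h₃' _ h1
      obtain ⟨m₁, rfl⟩ := (hfg m).1 h2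
      have h3 : (Dtri d.I d.inj _ hS).mor₂ ≫ eta d (ModuleCat.of A N₁) m₁ = 0 := by
        show Dmap d (ModuleCat.ofHom f) ≫ eta d (ModuleCat.of A N₁) m₁ = 0
        rw [eta_naturality]
        exact hm
      obtain ⟨ψ, hψ⟩ := Triangle.yoneda_exact₃ _ hT _ h3
      have hsub : Subsingleton ((D d (ModuleCat.of A N₃))⟦(1 : ℤ)⟧ ⟶ ω) :=
        subsingleton_shift_hom' _ ω 1 (-1) (by omega) (hV N₃)
      have h4 : ψ = 0 := hsub.elim _ _
      have h5 : eta d (ModuleCat.of A N₁) m₁ = 0 := by
        rw [hψ, h4]
        exact comp_zero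
      rw [h₁' _ h5, map_zero]
    · intro y
      obtain ⟨n₃, hn₃⟩ := h₃.2 (Dmap d (ModuleCat.ofHom g) ≫ y)
      obtain ⟨n₂, rfl⟩ := hg n₃
      have h0 : (Dtri d.I d.inj _ hS).mor₁ ≫ (y - eta d (ModuleCat.of A N₂) n₂) = 0 := by
        show Dmap d (ModuleCat.ofHom g) ≫ (y - eta d (ModuleCat.of A N₂) n₂) = 0
        rw [Preadditive.comp_sub, eta_naturality, ← hn₃]
        exact sub_self _
      obtain ⟨z, hz⟩ := Triangle.yoneda_exact₂ _ hT _ h0
      obtain ⟨n₁, rfl⟩ := h₁.2 z
      refine ⟨n₂ + f n₁, ?_⟩
      rw [map_add]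
      have h1 : eta d (ModuleCat.of A N₂) (f n₁) =
          Dmap d (ModuleCat.ofHom f) ≫ eta d (ModuleCat.of A N₁) n₁ :=
        (eta_naturality d _ _).symm
      rw [h1]
      have h2 : y - eta d (ModuleCat.of A N₂) n₂ =
          Dmap d (ModuleCat.ofHom f) ≫ eta d (ModuleCat.of A N₁) n₁ := hz
      rw [← h2]
      abel
  · intro M _ _ _ x hx hreg h
    have hxj : Ideal.span {x} ≤ Ideal.jacobson (⊥ : Ideal A) := by
      rw [Ideal.span_le]
      intro y hy
      rw [Set.mem_singleton_iff.1 hy, IsLocalRing.jacobson_eq_maximalIdeal _ bot_ne_top]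
      exact hx
    have hS := regSC_shortExact M x hreg
    have hT := Dtri_distinguished d.I d.inj _ hS
    -- multiplication by `x` is injective on `Hom(D(M), ω)`
    have hinjx : ∀ φ : D d (ModuleCat.of A M) ⟶ ω, x • φ = 0 → φ = 0 := by
      intro φ hφ
      have h3 : (Dtri d.I d.inj _ hS).mor₂ ≫ φ = 0 := by
        show Dmap d (regSC M x).f ≫ φ = 0
        rw [regSC_f, Dmap_smul_id, Linear.smul_comp, Category.id_comp]
        exact hφ
      obtain ⟨ψ, hψ⟩ := Triangle.yoneda_exact₃ _ hT _ h3
      have hsub : Subsingleton ((D d (ModuleCat.of A (QuotSMulTop x M)))⟦(1 : ℤ)⟧ ⟶ ω) :=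
        subsingleton_shift_hom' _ ω 1 (-1) (by omega) (hV (QuotSMulTop x M))
      have h4 : ψ = 0 := hsub.elim _ _
      rw [hψ, h4]
      exact comp_zero
    constructor
    · -- injectivity
      have hK : LinearMap.ker (eta d (ModuleCat.of A M)) = ⊥ := by
        haveI : IsNoetherian A M := isNoetherian_of_isNoetherianRing_of_finite A M
        apply Submodule.eq_bot_of_le_smul_of_le_jacobson_bot (Ideal.span {x}) _
          (IsNoetherian.noetherian _) _ hxj
        intro m hm
        rw [LinearMap.mem_ker] at hm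
        have h1 : eta d (ModuleCat.of A (QuotSMulTop x M)) ((regSC M x).g.hom m) = 0 := by
          rw [← eta_naturality, hm, comp_zero]
        have h2 : (regSC M x).g.hom m = 0 := by
          have := h.1
          rw [← LinearMap.ker_eq_bot, LinearMap.ker_eq_bot'] at this
          exact this _ h1
        have h2' : m ∈ x • (⊤ : Submodule A M) := by
          have : (x • (⊤ : Submodule A M)).mkQ m = 0 := h2
          rwa [Submodule.mkQ_apply, Submodule.Quotient.mk_eq_zero] at this
        rw [Submodule.mem_smul_pointwise_iff_exists] at h2'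
        obtain ⟨m', -, rfl⟩ := h2'
        have h3 : eta d (ModuleCat.of A M) m' = 0 := by
          apply hinjx
          rw [← map_smul]
          exact hm
        exact Submodule.smul_mem_smul (Ideal.subset_span rfl) (LinearMap.mem_ker.2 h3)
      exact LinearMap.ker_eq_bot.1 hK
    · -- surjectivity
      haveI := hF0 M
      have hle : (⊤ : Submodule A (D d (ModuleCat.of A M) ⟶ ω)) ≤
          LinearMap.range (eta d (ModuleCat.of A M)) := by
        apply Submodule.le_of_le_smul_of_le_jacobson_bot (Module.Finite.fg_top) hxj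
        intro y _
        obtain ⟨mb, hmb⟩ := h.2 (Dmap d (regSC M x).g ≫ y)
        obtain ⟨m, rfl⟩ := Submodule.mkQ_surjective _ mb
        have h0 : Dmap d (regSC M x).g ≫ (y - eta d (ModuleCat.of A M) m) = 0 := by
          rw [Preadditive.comp_sub, eta_naturality, ← hmb]
          exact sub_self _
        obtain ⟨φ, hφ⟩ := exists_smul_of_reg d M x hreg ω _ h0
        have h1 : y = eta d (ModuleCat.of A M) m + x • φ := by
          rw [← hφ]
          abel
        rw [h1]
        exact Submodule.add_mem_sup (LinearMap.mem_range_self _ m)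
          (Submodule.smul_mem_smul (Ideal.subset_span rfl) Submodule.mem_top)
      intro y
      exact hle Submodule.mem_top

end Induction

end Groth.Agent.Helper3.EtaDev
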