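import Mathlib
import Groth.Agent.Lib.Helper3.EtaDev

/-!
# A criterion for dualizing complexes over a Noetherian local ring
-/

set_option autoImplicit false
universe u
open CategoryTheory CategoryTheory.Limits DerivedCategory Pretriangulated Triangulated

attribute [local instance] HasDerivedCategory.standard

namespace Groth.Agent.Helper3.Crit

open Groth.Agent.Helper3.DualCx Groth.Agent.Helper3.DualFun Groth.Agent.Helper3.PhiDev
open Groth.Agent.Helper3.EtaDev Groth.Agent.Helper3.BassLem

variable {A : Type u} [CommRing A]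

/-- a bounded complex of injectives representing a complex of finite injective dimension -/
lemma nonempty_data_of_hasFiniteInjDim {ω : Dual.D A} (h : DRing.HasFiniteInjDim A ω) :
    Nonempty (Data A ω) := by
  obtain ⟨a, b, E, h1, h2, ⟨e⟩⟩ := h
  exact ⟨{ I := E
           inj := fun q => by
             haveI := h2 q
             exact Module.injective_object_of_injective_module A (E.X q)
           kinj := Groth.Agent.Helper5.InjAmp.isKInjective_of_injAmp E h1 h2
           a := a
           b := b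
           van := h1
           e := e }⟩

variable [IsLocalRing A] [IsNoetherianRing A]

instance isSimpleModule_residue : IsSimpleModule A (A ⧸ IsLocalRing.maximalIdeal A) :=
  isSimpleModule_iff_isCoatom.2 (Ideal.isMaximal_def.1 inferInstance)

/-- the criterion: a bounded below complex with finite cohomology whose `Ext^i(k, R)` is `k`
in one degree and zero elsewhere is dualizing -/
theorem isDualizing_of_residue (R : Dual.D A)
    (hfin : ∀ i : ℤ, Module.Finite A (Dual.HD A R i)) (a : ℤ) [R.IsGE a] (n : ℤ)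
    (hvan : ∀ i : ℤ, i ≠ n → Van R i (A ⧸ IsLocalRing.maximalIdeal A))
    (hn : Nonempty ((Dual.inD A (A ⧸ IsLocalRing.maximalIdeal A) ⟶ R⟦n⟧) ≃ₗ[A]
      (A ⧸ IsLocalRing.maximalIdeal A))) : Dual.IsDualizing A R := by
  obtain ⟨en⟩ := hn
  have hinj : ∀ (N : Type u) [AddCommGroup N] [Module A N] (i : ℤ), (i < a ∨ n < i) →
      Subsingleton (Dual.inD A N ⟶ R⟦i⟧) := fun N _ _ i hi =>
    injdim_of_residue R a n hfin (fun i hi => hvan i (by omega)) N i hi
  have hout := (Groth.Agent.Helper5.InjAmp.s6965 R a n).out 1 0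
  have hfid : DRing.HasFiniteInjDim A R := ⟨a, n, hout.1 hinj⟩
  obtain ⟨d⟩ := nonempty_data_of_hasFiniteInjDim hfid
  -- finiteness
  have hK : ∀ (M : Type u) [AddCommGroup M] [Module A M] [Module.Finite A M] (j : ℤ),
      Module.Finite A (Dual.HD A (D d (ModuleCat.of A M)) j) := fun M _ _ _ j => by
    haveI := finite_ext_of_isGE R a hfin M j
    exact Module.Finite.equiv (extIso d (ModuleCat.of A M) j)
  have hF : ∀ (i : ℤ) (M : Type u) [AddCommGroup M] [Module A M] [Module.Finite A M],
      Module.Finite A (D d (ModuleCat.of A M) ⟶ R⟦i⟧) := fun i M _ _ _ =>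
    Groth.Agent.Helper3.HomFin.main_S1746 _ R (hK M) hfin hfid i
  let e0 : ∀ X : Dual.D A, (X ⟶ R⟦(0 : ℤ)⟧) ≃ₗ[A] (X ⟶ R) := fun X =>
    Linear.homCongr A (Iso.refl X) ((shiftFunctorZero (Dual.D A) ℤ).app R)
  have hF0 : ∀ (M : Type u) [AddCommGroup M] [Module A M] [Module.Finite A M],
      Module.Finite A (D d (ModuleCat.of A M) ⟶ R) := fun M _ _ _ => by
    haveI := hF 0 M
    exact Module.Finite.equiv (e0 _)
  -- the dual of the residue field
  let k : ModuleCat.{u} A := ModuleCat.of A (A ⧸ IsLocalRing.maximalIdeal A)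
  have hHk : ∀ i : ℤ, i ≠ n → IsZero ((homologyFunctor (ModuleCat.{u} A) i).obj (D d k)) := by
    intro i hi
    haveI : Subsingleton (Dual.inD A (A ⧸ IsLocalRing.maximalIdeal A) ⟶ R⟦i⟧) := hvan i hi
    haveI : Subsingleton (Dual.HD A (D d k) i) := (extIso d k i).symm.subsingleton
    exact ModuleCat.isZero_of_subsingleton _
  haveI : (D d k).IsGE n := (DerivedCategory.isGE_iff _ n).2 (fun i hi => hHk i (by omega))
  haveI : (D d k).IsLE n := (DerivedCategory.isLE_iff _ n).2 (fun i hi => hHk i (by omega))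
  obtain ⟨Y, ⟨eY⟩, hY⟩ := exists_heart_equiv (D d k) n
  let u : Y ≃ₗ[A] (A ⧸ IsLocalRing.maximalIdeal A) :=
    eY.toLinearEquiv ≪≫ₗ (extIso d k n).symm ≪≫ₗ en
  have hVk : ∀ i : ℤ, i ≠ 0 → VanT d R i k := by
    intro i hi
    obtain ⟨E⟩ := hY R i (i + n) rfl
    haveI : Subsingleton (Dual.inD A Y ⟶ R⟦i + n⟧) :=
      van_of_equiv R (i + n) u.symm (hvan (i + n) (by omega))
    exact E.symm.subsingleton
  have hVT : ∀ (i : ℤ), i ≠ 0 → ∀ (M : Type u) [AddCommGroup M] [Module A M]
      [Module.Finite A M], VanT d R i (ModuleCat.of A M) := fun i hi M _ _ _ =>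
    vanT_of_residue d R i (hF i) (hVk i hi) M
  -- biduality for the residue field
  have hk : Function.Bijective (eta d k) := by
    obtain ⟨E⟩ := hY R 0 n (by omega)
    let uD : Dual.inD A Y ≅ Dual.inD A (A ⧸ IsLocalRing.maximalIdeal A) :=
      (DerivedCategory.singleFunctor (ModuleCat.{u} A) 0).mapIso u.toModuleIso
    let E' : (D d k ⟶ R) ≃ₗ[A] (A ⧸ IsLocalRing.maximalIdeal A) :=
      (e0 _).symm ≪≫ₗ E.symm ≪≫ₗ Linear.homCongr A uD (Iso.refl _) ≪≫ₗ en
    haveI : IsSimpleModule A (D d k ⟶ R) := IsSimpleModule.congr E'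
    apply LinearMap.bijective_of_ne_zero
    intro h0
    have h1 : eta d k (Submodule.Quotient.mk (1 : A)) = 0 := by rw [h0]; rfl
    have h2 := van_of_eta_one_eq_zero d (IsLocalRing.maximalIdeal A) h1 n
    haveI : Subsingleton (Dual.inD A (A ⧸ IsLocalRing.maximalIdeal A) ⟶ R⟦n⟧) := h2
    haveI : Subsingleton (A ⧸ IsLocalRing.maximalIdeal A) := en.symm.subsingleton
    exact not_subsingleton (A ⧸ IsLocalRing.maximalIdeal A) inferInstance
  have hA : Function.Bijective (eta d (ModuleCat.of A A)) :=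
    eta_bijective_of_residue d hF0 (hVT (-1) (by omega)) hk A
  refine
    { isNoetherianRing := inferInstance
      finite_injective_dimension := ⟨a, n, hinj⟩
      finite_cohomology := hfin
      toEnd_bijective := ?_
      ext_self_subsingleton := ?_ }
  · have h1 : Function.Bijective (fun g : D d (ModuleCat.of A A) ⟶ R => (DA d).inv ≫ g) :=
      ⟨fun g g' h => (cancel_epi _).1 h, fun g => ⟨(DA d).hom ≫ g, by simp⟩⟩
    have h2 := h1.comp hA
    convert h2 using 1
    ext r
    simp only [Function.comp_apply]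
    rw [eta_self, Iso.inv_hom_id_assoc]
  · intro i hi
    have := hVT i hi A
    exact ⟨fun f g => by
      have h := this.elim ((DA d).hom ≫ f) ((DA d).hom ≫ g)
      exact (cancel_epi _).1 h⟩

theorem main_S11171 (A : Type u) [CommRing A] [IsLocalRing A] [IsNoetherianRing A] (R : Dual.D A)
    (hfin : ∀ i : ℤ, Module.Finite A (Dual.HD A R i))
    (hbdd : ∃ a : ℤ, ∀ i : ℤ, i < a → Subsingleton (Dual.HD A R i)) (d : ℤ)
    (hvan : ∀ i : ℤ, i ≠ d → Subsingleton (Dual.inD A (IsLocalRing.ResidueField A) ⟶ R⟦i⟧))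
    (hd : Nonempty ((Dual.inD A (IsLocalRing.ResidueField A) ⟶ R⟦d⟧) ≃ₗ[A]
      IsLocalRing.ResidueField A)) : Dual.IsDualizing A R := by
  obtain ⟨a, ha⟩ := hbdd
  haveI : R.IsGE a := (DerivedCategory.isGE_iff R a).2 (fun i hi => by
    haveI := ha i hi
    exact ModuleCat.isZero_of_subsingleton _)
  exact isDualizing_of_residue R hfin a d hvan hd

end Groth.Agent.Helper3.Crit
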