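import Mathlib
import Groth.Prelude.Def_Wider
import Groth.Prelude.Def_DDual2
import Groth.Agent.Lib.Helper3.Crit
import Groth.Agent.Lib.Helper3.BCFlat

/-!
# Right adjoints of restriction of scalars: the basic Hom computation
-/

set_option autoImplicit false
universe u
open CategoryTheory CategoryTheory.Limits DerivedCategory Pretriangulated Triangulated

attribute [local instance] HasDerivedCategory.standard

namespace Groth.Agent.Helper3.FinAdj

open Groth.Agent.Helper3.DualCx

section Res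

variable {A B : Type u} [CommRing A] [CommRing B] (φ : A →+* B)

/-- restriction of scalars on modules -/
noncomputable abbrev resM : ModuleCat.{u} B ⥤ ModuleCat.{u} A := ModuleCat.restrictScalars.{u} φ

/-- restriction of scalars on complexes -/
noncomputable abbrev resC : DRing.Cx B ⥤ DRing.Cx A :=
  (resM φ).mapHomologicalComplex (ComplexShape.up ℤ)

/-- restriction of scalars on derived categories -/
noncomputable abbrev res : Dual.D B ⥤ Dual.D A := DRing.restrictD φ

lemma resM_map_smul_id (a : A) (M : ModuleCat.{u} B) :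
    (resM φ).map (φ a • 𝟙 M) = a • 𝟙 ((resM φ).obj M) := by
  ext x
  rfl

lemma resC_map_smul_id (a : A) (K : DRing.Cx B) :
    (resC φ).map (φ a • 𝟙 K) = a • 𝟙 ((resC φ).obj K) := by
  ext i : 1
  show (resM φ).map ((φ a • 𝟙 K : K ⟶ K).f i) = (a • 𝟙 ((resC φ).obj K) : _ ⟶ _).f i
  rw [HomologicalComplex.smul_f_apply, HomologicalComplex.smul_f_apply]
  simp only [HomologicalComplex.id_f]
  exact resM_map_smul_id φ a (K.X i)

lemma res_map_smul_id_Q (a : A) (K : DRing.Cx B) :
    (res φ).map (φ a • 𝟙 (Q.obj K)) = a • 𝟙 ((res φ).obj (Q.obj K)) := by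
  have h1 : φ a • 𝟙 (Q.obj K) = Q.map (φ a • 𝟙 K) := by
    rw [Functor.map_smul, Q.map_id]
  let eK : (res φ).obj (Q.obj K) ≅ Q.obj ((resC φ).obj K) :=
    (resM φ).mapDerivedCategoryFactors.app K
  have h2 : (res φ).map (Q.map (φ a • 𝟙 K)) ≫ eK.hom =
      eK.hom ≫ Q.map ((resC φ).map (φ a • 𝟙 K)) :=
    (resM φ).mapDerivedCategoryFactors_hom_naturality (φ a • 𝟙 K)
  rw [resC_map_smul_id, Functor.map_smul (F := Q) (R := A), CategoryTheory.Functor.map_id,
    Linear.comp_smul, Category.comp_id] at h2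
  rw [h1]
  have h3 : (res φ).map (Q.map (φ a • 𝟙 K)) =
      ((res φ).map (Q.map (φ a • 𝟙 K)) ≫ eK.hom) ≫ eK.inv := by
    rw [Category.assoc, Iso.hom_inv_id, Category.comp_id]
  rw [h3, h2, Linear.smul_comp, Iso.hom_inv_id]

/-- restriction of scalars is semilinear -/
theorem res_map_smul (a : A) {X Y : Dual.D B} (f : X ⟶ Y) :
    (res φ).map (φ a • f) = a • (res φ).map f := by
  have key : (res φ).map (φ a • 𝟙 X) = a • 𝟙 ((res φ).obj X) := by
    let i : Q.obj (Q.objPreimage X) ≅ X := Q.objObjPreimageIso X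
    have h1 : φ a • 𝟙 X = i.inv ≫ (φ a • 𝟙 (Q.obj (Q.objPreimage X))) ≫ i.hom := by
      rw [Linear.smul_comp, Linear.comp_smul, Category.id_comp, Iso.inv_hom_id]
    rw [h1, Functor.map_comp, Functor.map_comp, res_map_smul_id_Q, Linear.smul_comp,
      Linear.comp_smul, Category.id_comp, ← Functor.map_comp, Iso.inv_hom_id,
      CategoryTheory.Functor.map_id]
  have h2 : φ a • f = (φ a • 𝟙 X) ≫ f := by rw [Linear.smul_comp, Category.id_comp]
  rw [h2, Functor.map_comp, key, Linear.smul_comp, Category.id_comp]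

/-- restriction of a module placed in degree zero -/
noncomputable def resInD (N : ModuleCat.{u} B) :
    (res φ).obj ((DerivedCategory.singleFunctor (ModuleCat.{u} B) 0).obj N) ≅
      (DerivedCategory.singleFunctor (ModuleCat.{u} A) 0).obj ((resM φ).obj N) :=
  ((resM φ).mapDerivedCategorySingleFunctor 0).app N

end Res

section Adj

variable {A B : Type u} [CommRing A] [CommRing B] (φ : A →+* B)
  {R : Dual.D A ⥤ Dual.D B} (adj : res φ ⊣ R)

/-- a right adjoint of restriction of scalars commutes with shifts -/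
noncomputable def shiftIso (Y : Dual.D A) (i : ℤ) : R.obj (Y⟦i⟧) ≅ (R.obj Y)⟦i⟧ :=
  (Adjunction.RightAdjointCommShift.iso adj i).app Y

/-- the basic Hom computation for a right adjoint of restriction of scalars -/
noncomputable def homEquiv (X : Dual.D B) (Y : Dual.D A) (i : ℤ) :
    (X ⟶ (R.obj Y)⟦i⟧) ≃+ ((res φ).obj X ⟶ Y⟦i⟧) where
  toFun f := (adj.homEquiv X (Y⟦i⟧)).symm (f ≫ (shiftIso φ adj Y i).inv)
  invFun g := adj.homEquiv X (Y⟦i⟧) g ≫ (shiftIso φ adj Y i).hom
  left_inv f := by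
    simp only [Equiv.apply_symm_apply, Category.assoc, Iso.inv_hom_id, Category.comp_id]
  right_inv g := by
    simp only [Category.assoc, Iso.hom_inv_id, Category.comp_id, Equiv.symm_apply_apply]
  map_add' f g := by
    rw [Preadditive.add_comp]
    exact adj.homAddEquiv_symm_add X (Y⟦i⟧) _ _

lemma homEquiv_comp {X X' : Dual.D B} (g : X' ⟶ X) (Y : Dual.D A) (i : ℤ)
    (f : X ⟶ (R.obj Y)⟦i⟧) :
    homEquiv φ adj X' Y i (g ≫ f) = (res φ).map g ≫ homEquiv φ adj X Y i f := by
  show (adj.homEquiv X' (Y⟦i⟧)).symm ((g ≫ f) ≫ (shiftIso φ adj Y i).inv) =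
    (res φ).map g ≫ (adj.homEquiv X (Y⟦i⟧)).symm (f ≫ (shiftIso φ adj Y i).inv)
  rw [Category.assoc, Adjunction.homEquiv_naturality_left_symm]

/-- the Hom computation is semilinear -/
lemma homEquiv_smul (X : Dual.D B) (Y : Dual.D A) (i : ℤ) (a : A) (f : X ⟶ (R.obj Y)⟦i⟧) :
    homEquiv φ adj X Y i (φ a • f) = a • homEquiv φ adj X Y i f := by
  have h : φ a • f = (φ a • 𝟙 X) ≫ f := by rw [Linear.smul_comp, Category.id_comp]
  rw [h, homEquiv_comp, res_map_smul, CategoryTheory.Functor.map_id, Linear.smul_comp,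
    Category.id_comp]

/-- the Hom computation for modules -/
noncomputable def extEquiv (N : ModuleCat.{u} B) (Y : Dual.D A) (i : ℤ) :
    ((DerivedCategory.singleFunctor (ModuleCat.{u} B) 0).obj N ⟶ (R.obj Y)⟦i⟧) ≃+
      ((DerivedCategory.singleFunctor (ModuleCat.{u} A) 0).obj ((resM φ).obj N) ⟶ Y⟦i⟧) :=
  (homEquiv φ adj _ Y i).trans
    { toFun := fun f => (resInD φ N).inv ≫ f
      invFun := fun g => (resInD φ N).hom ≫ g
      left_inv := fun f => by simp
      right_inv := fun g => by simp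
      map_add' := fun f g => Preadditive.comp_add _ _ _ _ _ _ }

lemma extEquiv_apply (N : ModuleCat.{u} B) (Y : Dual.D A) (i : ℤ)
    (f : (DerivedCategory.singleFunctor (ModuleCat.{u} B) 0).obj N ⟶ (R.obj Y)⟦i⟧) :
    extEquiv φ adj N Y i f = (resInD φ N).inv ≫ homEquiv φ adj _ Y i f := rfl

lemma extEquiv_smul (N : ModuleCat.{u} B) (Y : Dual.D A) (i : ℤ) (a : A)
    (f : (DerivedCategory.singleFunctor (ModuleCat.{u} B) 0).obj N ⟶ (R.obj Y)⟦i⟧) :
    extEquiv φ adj N Y i (φ a • f) = a • extEquiv φ adj N Y i f := by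
  rw [extEquiv_apply, extEquiv_apply, homEquiv_smul, Linear.comp_smul]

end Adj

end Groth.Agent.Helper3.FinAdj
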