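import Mathlib
import Groth.Prelude.Def_Wider
import Groth.Prelude.Def_DDual2
import Groth.Agent.Lib.Helper3.FinAdj

/-!
# Right adjoints of restriction of scalars along a surjection: the dimension function
-/

set_option autoImplicit false
universe u
open CategoryTheory CategoryTheory.Limits DerivedCategory Pretriangulated Triangulated

attribute [local instance] HasDerivedCategory.standard

namespace Groth.Agent.Helper3.FinAdj

section ModLevel

variable {A B : Type u} [CommRing A] [CommRing B] (φ : A →+* B)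
  {R : Dual.D A ⥤ Dual.D B} (adj : res φ ⊣ R)

/-- the Hom computation for a `B`-module whose restriction is identified with an `A`-module -/
noncomputable def extEquivOf (N : Type u) [AddCommGroup N] [Module B N]
    (M : Type u) [AddCommGroup M] [Module A M]
    (e : M ≃ₗ[A] ((resM φ).obj (ModuleCat.of B N))) (Y : Dual.D A) (i : ℤ) :
    (Dual.inD B N ⟶ (R.obj Y)⟦i⟧) ≃+ (Dual.inD A M ⟶ Y⟦i⟧) :=
  (extEquiv φ adj (ModuleCat.of B N) Y i).trans
    { toFun := fun f =>
        (DerivedCategory.singleFunctor (ModuleCat.{u} A) 0).map e.toModuleIso.hom ≫ f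
      invFun := fun g =>
        (DerivedCategory.singleFunctor (ModuleCat.{u} A) 0).map e.toModuleIso.inv ≫ g
      left_inv := fun f => by
        show _ ≫ _ ≫ f = f
        rw [← Category.assoc, ← Functor.map_comp, Iso.inv_hom_id,
          CategoryTheory.Functor.map_id, Category.id_comp]
      right_inv := fun g => by
        show _ ≫ _ ≫ g = g
        rw [← Category.assoc, ← Functor.map_comp, Iso.hom_inv_id,
          CategoryTheory.Functor.map_id, Category.id_comp]
      map_add' := fun f g => Preadditive.comp_add _ _ _ _ _ _ }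

lemma extEquivOf_smul (N : Type u) [AddCommGroup N] [Module B N]
    (M : Type u) [AddCommGroup M] [Module A M]
    (e : M ≃ₗ[A] ((resM φ).obj (ModuleCat.of B N))) (Y : Dual.D A) (i : ℤ) (a : A)
    (f : Dual.inD B N ⟶ (R.obj Y)⟦i⟧) :
    extEquivOf φ adj N M e Y i (φ a • f) = a • extEquivOf φ adj N M e Y i f := by
  show (DerivedCategory.singleFunctor (ModuleCat.{u} A) 0).map e.toModuleIso.hom ≫
      extEquiv φ adj (ModuleCat.of B N) Y i (φ a • f) =
    a • ((DerivedCategory.singleFunctor (ModuleCat.{u} A) 0).map e.toModuleIso.hom ≫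
      extEquiv φ adj (ModuleCat.of B N) Y i f)
  rw [extEquiv_smul, Linear.comp_smul]

end ModLevel

section Transfer

variable {A B : Type u} [CommRing A] [CommRing B] (φ : A →+* B)

/-- transfer of the nontriviality of a localization along a semilinear bijection -/
lemma nontrivial_localizedModule_iff (hφ : Function.Surjective φ) (q : Ideal B) [q.IsPrime]
    {E₁ E₂ : Type*} [AddCommGroup E₁] [Module B E₁] [AddCommGroup E₂] [Module A E₂]
    (Ψ : E₁ ≃+ E₂) (hΨ : ∀ (a : A) (e : E₁), Ψ (φ a • e) = a • Ψ e) :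
    Nontrivial (LocalizedModule q.primeCompl E₁) ↔
      Nontrivial (LocalizedModule (q.comap φ).primeCompl E₂) := by
  rw [← not_subsingleton_iff_nontrivial, ← not_subsingleton_iff_nontrivial,
    LocalizedModule.subsingleton_iff, LocalizedModule.subsingleton_iff]
  refine not_congr ⟨fun h m => ?_, fun h m => ?_⟩
  · obtain ⟨r, hr, hrm⟩ := h (Ψ.symm m)
    obtain ⟨a, rfl⟩ := hφ r
    refine ⟨a, fun ha => hr ha, ?_⟩
    have := hΨ a (Ψ.symm m)
    rw [hrm, map_zero, AddEquiv.apply_symm_apply] at this
    exact this.symm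
  · obtain ⟨a, ha, ham⟩ := h (Ψ m)
    refine ⟨φ a, fun h' => ha h', ?_⟩
    apply Ψ.injective
    rw [hΨ, ham, map_zero]

/-- `A/φ⁻¹(q) ≃ B/q` for surjective `φ` -/
noncomputable def quotEquiv (hφ : Function.Surjective φ) (q : Ideal B) :
    (A ⧸ q.comap φ) ≃ₗ[A] ((resM φ).obj (ModuleCat.of B (B ⧸ q))) := by
  let g : A →ₗ[A] ((resM φ).obj (ModuleCat.of B (B ⧸ q))) :=
    { toFun := fun a => (Ideal.Quotient.mk q (φ a) : B ⧸ q)
      map_add' := fun a b => by
        rw [map_add, map_add]
        rfl
      map_smul' := fun a b => by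
        rw [smul_eq_mul, map_mul, map_mul]
        rfl }
  have hg : Function.Surjective g := by
    intro x
    obtain ⟨b, hb⟩ := Ideal.Quotient.mk_surjective (I := q) (show B ⧸ q from x)
    obtain ⟨a, rfl⟩ := hφ b
    exact ⟨a, hb⟩
  have hk : LinearMap.ker g = q.comap φ := by
    ext a
    rw [LinearMap.mem_ker, Ideal.mem_comap]
    exact Ideal.Quotient.eq_zero_iff_mem
  exact (Submodule.quotEquivOfEq _ _ hk.symm) ≪≫ₗ g.quotKerEquivOfSurjective hg

end Transfer

theorem main_S8970 (A B : Type u) [CommRing A] [CommRing B] [IsNoetherianRing A]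
    [IsNoetherianRing B] [Algebra A B] (hs : Function.Surjective (algebraMap A B))
    (R : Dual.D A ⥤ Dual.D B) (adj : DRing.restrictD (algebraMap A B) ⊣ R) (ω : Dual.D A)
    (_hω : Dual.IsDualizing A ω) (q : PrimeSpectrum B) (i : ℤ) :
    Nontrivial (LocalizedModule q.asIdeal.primeCompl
      (Dual.inD B (B ⧸ q.asIdeal) ⟶ (R.obj ω)⟦i⟧)) ↔
    Nontrivial (LocalizedModule (q.asIdeal.comap (algebraMap A B)).primeCompl
      (Dual.inD A (A ⧸ q.asIdeal.comap (algebraMap A B)) ⟶ ω⟦i⟧)) := by
  haveI := q.isPrime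
  exact nontrivial_localizedModule_iff (algebraMap A B) hs q.asIdeal
    (extEquivOf (algebraMap A B) adj (B ⧸ q.asIdeal) (A ⧸ q.asIdeal.comap (algebraMap A B))
      (quotEquiv (algebraMap A B) hs q.asIdeal) ω i)
    (extEquivOf_smul (algebraMap A B) adj _ _ _ ω i)

end Groth.Agent.Helper3.FinAdj
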