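import Mathlib
import Groth.Prelude.Def_Wider
import Groth.Prelude.Def_DDual2
import Groth.Agent.Lib.Helper3.FinAdj2

/-!
# Modules killed by a maximal ideal: vanishing and length of `Ext` into a dualizing complex
-/

set_option autoImplicit false
universe u
open CategoryTheory CategoryTheory.Limits DerivedCategory Pretriangulated Triangulated

attribute [local instance] HasDerivedCategory.standard

namespace Groth.Agent.Helper3.FinAdj

open Groth.Agent.Helper3.DualCx

section Alg

variable {A B : Type u} [CommRing A] [CommRing B] (φ : A →+* B)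

/-- finiteness transfers backwards along a semilinear bijection -/
lemma finite_of_semilinear {E₁ E₂ : Type*} [AddCommGroup E₁] [Module B E₁] [AddCommGroup E₂]
    [Module A E₂] (Ψ : E₁ ≃+ E₂) (hΨ : ∀ (a : A) (e : E₁), Ψ (φ a • e) = a • Ψ e)
    [Module.Finite A E₂] : Module.Finite B E₁ := by
  classical
  obtain ⟨S, hS⟩ := (Module.finite_def (R := A) (M := E₂)).1 inferInstance
  refine ⟨⟨S.image Ψ.symm, ?_⟩⟩
  rw [eq_top_iff]
  intro e _
  have key : ∀ x ∈ Submodule.span A (S : Set E₂),
      Ψ.symm x ∈ Submodule.span B ((S.image Ψ.symm : Finset E₁) : Set E₁) := by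
    intro x hx
    induction hx using Submodule.span_induction with
    | mem x hx =>
      exact Submodule.subset_span (Finset.mem_coe.2 (Finset.mem_image_of_mem _ hx))
    | zero => rw [map_zero]; exact Submodule.zero_mem _
    | add x y _ _ hx hy => rw [map_add]; exact Submodule.add_mem _ hx hy
    | smul a x _ hx =>
      have : Ψ.symm (a • x) = φ a • Ψ.symm x := by
        apply Ψ.injective
        rw [hΨ, AddEquiv.apply_symm_apply, AddEquiv.apply_symm_apply]
      rw [this]
      exact Submodule.smul_mem _ _ hx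
  have := key (Ψ e) (hS ▸ Submodule.mem_top)
  rwa [AddEquiv.symm_apply_apply] at this

end Alg

section Len

variable {A : Type u} [CommRing A]

/-- a finite module killed by a maximal ideal has finite length -/
lemma isFiniteLength_of_annihilated (m : Ideal A) [m.IsMaximal] (M : Type*) [AddCommGroup M]
    [Module A M] [Module.Finite A M] (hM : ∀ x ∈ m, ∀ y : M, x • y = 0) :
    IsFiniteLength A M := by
  have hT : Module.IsTorsionBySet A M m := fun y a => hM a.1 a.2 y
  letI := hT.module
  letI : Field (A ⧸ m) := Ideal.Quotient.field m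
  haveI h1 : IsSemisimpleModule (A ⧸ m) M := inferInstance
  have h2 : IsSemisimpleModule (A ⧸ m) M ↔ IsSemisimpleModule A M := hT.isSemisimpleModule_iff
  haveI : IsSemisimpleModule A M := h2.1 h1
  have h3 : Module.Finite A M ↔ IsFiniteLength A M := IsSemisimpleModule.finite_tfae.out 0 3
  exact h3.1 inferInstance

/-- a simple module killed by a maximal ideal is the residue field -/
lemma nonempty_equiv_of_simple (m : Ideal A) [m.IsMaximal] (M : Type*) [AddCommGroup M]
    [Module A M] [IsSimpleModule A M] (hM : ∀ x ∈ m, ∀ y : M, x • y = 0) :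
    Nonempty (M ≃ₗ[A] A ⧸ m) := by
  obtain ⟨I, hI, ⟨e⟩⟩ := isSimpleModule_iff_quot_maximal.1 (inferInstance : IsSimpleModule A M)
  have hle : m ≤ I := by
    intro x hx
    have h1 := hM x hx (e.symm 1)
    rw [← map_smul, LinearEquiv.map_eq_zero_iff] at h1
    rw [← Ideal.Quotient.eq_zero_iff_mem]
    have h2 : x • (1 : A ⧸ I) = Ideal.Quotient.mk I x := by
      rw [Algebra.smul_def, mul_one]
      rfl
    rw [← h2, h1]
  have hmI : m = I := Ideal.IsMaximal.eq_of_le inferInstance hI.ne_top hle
  subst hmI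
  exact ⟨e⟩

end Len

section VanLen

variable {A : Type u} [CommRing A] (ω : Dual.D A)

/-- injectivity of `Ext^d(N₃, ω) → Ext^d(N₂, ω)` when `Ext^{d-1}(N₁, ω) = 0` -/
lemma extMap_injective {N₁ N₂ N₃ : Type u} [AddCommGroup N₁] [Module A N₁] [AddCommGroup N₂]
    [Module A N₂] [AddCommGroup N₃] [Module A N₃] (f : N₁ →ₗ[A] N₂) (g : N₂ →ₗ[A] N₃)
    (hf : Function.Injective f) (hg : Function.Surjective g) (hfg : Function.Exact f g)
    (d : ℤ) (h₁ : Van ω (d - 1) N₁) : Function.Injective (extMap (ω⟦d⟧) g) := by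
  have hS := shortExact_of_exact f g hf hg hfg
  have hT := hS.singleTriangle_distinguished
  haveI hsub : Subsingleton ((Dual.inD A N₁)⟦(1 : ℤ)⟧ ⟶ ω⟦d⟧) :=
    subsingleton_shift_hom (Dual.inD A N₁) ω d 1 (d - 1) (by ring) h₁
  rw [injective_iff_map_eq_zero]
  intro φ h0
  obtain ⟨ψ, hψ⟩ := Triangle.yoneda_exact₃ _ hT φ h0
  have hψ0 : ψ = 0 := hsub.elim _ _
  rw [hψ, hψ0]
  exact comp_zero

variable (m : Ideal A) [m.IsMaximal] (d : ℤ)
  (hvan : ∀ i : ℤ, i ≠ d → Van ω i (A ⧸ m))
  (ε : (Dual.inD A (A ⧸ m) ⟶ ω⟦d⟧) ≃ₗ[A] A ⧸ m)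

include hvan ε in
/-- for modules of finite length killed by the maximal ideal `m`, the functor `Ext^d(-, ω)`
preserves length and the other `Ext` vanish -/
theorem van_length_of_isFiniteLength (M : Type u) [AddCommGroup M] [Module A M]
    (hfl : IsFiniteLength A M) : (∀ x ∈ m, ∀ y : M, x • y = 0) →
    (∀ i : ℤ, i ≠ d → Van ω i M) ∧
      Module.length A (Dual.inD A M ⟶ ω⟦d⟧) = Module.length A M := by
  induction hfl with
  | @of_subsingleton M _ _ _ =>
    intro _
    refine ⟨fun i _ => van_of_subsingleton ω i _, ?_⟩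
    haveI : Subsingleton (Dual.inD A M ⟶ ω⟦d⟧) := van_of_subsingleton ω d _
    rw [Module.length_eq_zero, Module.length_eq_zero]
  | @of_simple_quotient M _ _ N _ hN ih =>
    intro hM
    obtain ⟨ih1, ih2⟩ := ih (fun x hx y => Subtype.ext (by simpa using hM x hx y.1))
    have hQ : ∀ x ∈ m, ∀ y : M ⧸ N, x • y = 0 := by
      intro x hx y
      obtain ⟨y, rfl⟩ := Submodule.Quotient.mk_surjective N y
      rw [← Submodule.Quotient.mk_smul, hM x hx y, Submodule.Quotient.mk_zero]
    obtain ⟨e⟩ := nonempty_equiv_of_simple m (M ⧸ N) hQ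
    have hQ1 : ∀ i : ℤ, i ≠ d → Van ω i (M ⧸ N) :=
      fun i hi => van_of_equiv ω i e.symm (hvan i hi)
    have hQ2 : Module.length A (Dual.inD A (M ⧸ N) ⟶ ω⟦d⟧) = Module.length A (M ⧸ N) := by
      let e1 : (Dual.inD A (M ⧸ N) ⟶ ω⟦d⟧) ≃ₗ[A] (Dual.inD A (A ⧸ m) ⟶ ω⟦d⟧) :=
        Linear.homCongr A
          ((DerivedCategory.singleFunctor (ModuleCat.{u} A) 0).mapIso e.toModuleIso)
          (Iso.refl _)
      exact (e1 ≪≫ₗ ε ≪≫ₗ e.symm).length_eq
    have hf := Submodule.injective_subtype N
    have hg := N.mkQ_surjective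
    have hfg : Function.Exact N.subtype N.mkQ := LinearMap.exact_subtype_mkQ N
    refine ⟨fun i hi => van_of_exact ω i N.subtype N.mkQ hf hg hfg (ih1 i hi) (hQ1 i hi), ?_⟩
    have hinj : Function.Injective (extMap (ω⟦d⟧) N.mkQ) :=
      extMap_injective ω N.subtype N.mkQ hf hg hfg d (ih1 (d - 1) (by omega))
    have hsurj : Function.Surjective (extMap (ω⟦d⟧) N.subtype) := by
      intro φ
      obtain ⟨ψ, hψ⟩ := exists_extension ω d N.subtype N.mkQ hf hg hfg
        (hQ1 (d + 1) (by omega)) φ
      exact ⟨ψ, hψ.symm⟩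
    rw [Module.length_eq_add_of_exact (extMap (ω⟦d⟧) N.mkQ) (extMap (ω⟦d⟧) N.subtype)
      hinj hsurj (exact_extMap _ _ _ hf hg hfg), hQ2, ih2, add_comm]
    exact (Module.length_eq_add_of_exact N.subtype N.mkQ hf hg hfg).symm

include hvan ε in
theorem van_length_of_annihilated [IsNoetherianRing A] (M : Type u) [AddCommGroup M]
    [Module A M] [Module.Finite A M] (hM : ∀ x ∈ m, ∀ y : M, x • y = 0) :
    (∀ i : ℤ, i ≠ d → Van ω i M) ∧
      Module.length A (Dual.inD A M ⟶ ω⟦d⟧) = Module.length A M :=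
  van_length_of_isFiniteLength ω m d hvan ε M (isFiniteLength_of_annihilated m M hM) hM

end VanLen

section Simple

variable {A B : Type u} [CommRing A] [CommRing B] [Algebra A B]

/-- a `B`-module killed by a maximal ideal `n` with the same finite `A`-length as `B/n` is `B/n` -/
theorem nonempty_equiv_of_length (n : Ideal B) [n.IsMaximal] (E : Type*) [AddCommGroup E]
    [Module B E] [Module A E] [IsScalarTower A B E] (hkill : ∀ b ∈ n, ∀ e : E, b • e = 0)
    (hlen : Module.length A E = Module.length A (B ⧸ n))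
    (hfin : Module.length A (B ⧸ n) ≠ ⊤) : Nonempty (E ≃ₗ[B] B ⧸ n) := by
  haveI : Nontrivial (B ⧸ n) := Ideal.Quotient.nontrivial_iff.2 (Ideal.IsMaximal.ne_top ‹_›)
  have hpos : 0 < Module.length A E := hlen ▸ Module.length_pos
  haveI : Nontrivial E := Module.length_pos_iff.1 hpos
  obtain ⟨f, hf⟩ := exists_ne (0 : E)
  let g : (B ⧸ n) →ₗ[B] E := Submodule.liftQ n (LinearMap.toSpanSingleton B E f) (by
    intro b hb
    rw [LinearMap.mem_ker, LinearMap.toSpanSingleton_apply]
    exact hkill b hb f)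
  haveI : IsSimpleModule B (B ⧸ n) :=
    isSimpleModule_iff_isCoatom.2 (Ideal.isMaximal_def.1 inferInstance)
  have hg0 : g ≠ 0 := by
    intro h0
    have : g (Submodule.Quotient.mk 1) = f := by
      show Submodule.liftQ n _ _ (Submodule.Quotient.mk 1) = f
      rw [Submodule.liftQ_apply, LinearMap.toSpanSingleton_apply, one_smul]
    rw [h0, LinearMap.zero_apply] at this
    exact hf this.symm
  have hinj : Function.Injective g := LinearMap.injective_of_ne_zero hg0
  have hsurj : Function.Surjective g := by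
    let gA : (B ⧸ n) →ₗ[A] E := g.restrictScalars A
    have hgA : Function.Injective gA := hinj
    have h1 := Module.length_eq_add_of_exact gA (LinearMap.range gA).mkQ hgA
      (Submodule.mkQ_surjective _) (LinearMap.exact_map_mkQ_range gA)
    rw [hlen] at h1
    have h2 : Module.length A (E ⧸ LinearMap.range gA) = 0 := by
      have h3 : Module.length A (B ⧸ n) + 0 =
          Module.length A (B ⧸ n) + Module.length A (E ⧸ LinearMap.range gA) := by
        rw [add_zero]
        exact h1
      exact ((WithTop.add_left_inj hfin).1 h3).symm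
    rw [Module.length_eq_zero_iff, Submodule.Quotient.subsingleton_iff] at h2
    intro e
    have : e ∈ LinearMap.range gA := h2 ▸ Submodule.mem_top
    exact this
  exact ⟨(LinearEquiv.ofBijective g ⟨hinj, hsurj⟩).symm⟩

end Simple

end Groth.Agent.Helper3.FinAdj
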