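import Mathlib
import Groth.Prelude.Def_Wider
import Groth.Prelude.Def_DDual2
import Groth.Agent.Lib.Helper3.FinAdj3

/-!
# A criterion for dualizing complexes over a Noetherian ring in terms of the residue fields at
the maximal ideals
-/

set_option autoImplicit false
universe u u₁ u₂ v₁ v₂ w₁ w₂
open CategoryTheory CategoryTheory.Limits DerivedCategory Pretriangulated Triangulated TensorProduct

attribute [local instance] HasDerivedCategory.standard

namespace Groth.Agent.Helper3.FinAdj

open Groth.Agent.Helper3.BCAbs Groth.Agent.Helper3.BCDer Groth.Agent.Helper3.BCDual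
  Groth.Agent.Helper3.BCDesc Groth.Agent.Helper5.FlatBC Groth.Agent.Helper3.DualCx
  Groth.Agent.Helper3.BassLem Groth.Agent.Helper3.BCFlat Groth.Agent.Helper3.Crit

section CmpLin

variable {A : Type w₁} {B : Type w₂} [CommRing A] [CommRing B] [Algebra A B]
  {C : Type u₁} [Category.{v₁} C] [Preadditive C] [Linear A C]
  {D : Type u₂} [Category.{v₂} D] [Preadditive D] [Linear B D]
  (G : C ⥤ D) [G.Additive] (hG : SemiLinear A B G)

lemma cmp_smul (X Y : C) (b : B) (z : B ⊗[A] (X ⟶ Y)) :
    cmp G hG X Y (b • z) = b • cmp G hG X Y z := by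
  induction z using TensorProduct.induction_on with
  | zero => rw [smul_zero, map_zero, smul_zero]
  | tmul b' φ =>
    rw [TensorProduct.smul_tmul', cmp_tmul, cmp_tmul, smul_eq_mul, mul_smul]
  | add x y hx hy => rw [smul_add, map_add, map_add, hx, hy, smul_add]

/-- the comparison map as a linear equivalence -/
noncomputable def cmpLinEquiv (X Y : C) (h : BijBC G hG X Y) :
    B ⊗[A] (X ⟶ Y) ≃ₗ[B] (G.obj X ⟶ G.obj Y) :=
  LinearEquiv.ofBijective
    { toFun := cmp G hG X Y
      map_add' := map_add _
      map_smul' := fun b z => cmp_smul G hG X Y b z } h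

end CmpLin

section Global

variable {B : Type u} [CommRing B] [IsNoetherianRing B]

/-- the residue field criterion at a maximal ideal, after localization -/
theorem isDualizing_localization_of_residue (K : Dual.D B)
    (hfin : ∀ i : ℤ, Module.Finite B (Dual.HD B K i)) (a : ℤ) [K.IsGE a] (hK : Bdd K)
    (n : Ideal B) [n.IsMaximal] (d : ℤ) (hvan : ∀ i : ℤ, i ≠ d → Van K i (B ⧸ n))
    (ε : (Dual.inD B (B ⧸ n) ⟶ K⟦d⟧) ≃ₗ[B] B ⧸ n) :
    Dual.IsDualizing (Localization.AtPrime n)
      ((G (A := B) (Localization.AtPrime n)).obj K) := by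
  haveI : IsNoetherianRing (Localization.AtPrime n) :=
    IsLocalization.isNoetherianRing n.primeCompl _ inferInstance
  haveI : Module.Flat B (Localization.AtPrime n) := IsLocalization.flat _ n.primeCompl
  haveI := isGE_G (Localization.AtPrime n) K a
  have hp : n.map (algebraMap B (Localization.AtPrime n)) =
      IsLocalRing.maximalIdeal (Localization.AtPrime n) :=
    Localization.AtPrime.map_eq_maximalIdeal
  refine isDualizing_of_residue ((G (A := B) (Localization.AtPrime n)).obj K)
    (fun i => by haveI := hfin i; exact finite_homology_G (Localization.AtPrime n) K i) a d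
    (fun i hi => van_of_equiv _ i (Submodule.quotEquivOfEq _ _ hp)
      (van_G_cyclic (Localization.AtPrime n) K hK n i (hvan i hi))) ?_
  let e0 : (Localization.AtPrime n ⧸ n.map (algebraMap B (Localization.AtPrime n))) ≃ₗ[Localization.AtPrime n]
      (Localization.AtPrime n ⧸ IsLocalRing.maximalIdeal (Localization.AtPrime n)) :=
    Submodule.quotEquivOfEq _ _ hp
  let e1 : (Dual.inD (Localization.AtPrime n)
        (Localization.AtPrime n ⧸ IsLocalRing.maximalIdeal (Localization.AtPrime n)) ⟶
        ((G (A := B) (Localization.AtPrime n)).obj K)⟦d⟧) ≃ₗ[Localization.AtPrime n]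
      ((G (A := B) (Localization.AtPrime n)).obj (Dual.inD B (B ⧸ n)) ⟶
        (G (A := B) (Localization.AtPrime n)).obj (K⟦d⟧)) :=
    Linear.homCongr (Localization.AtPrime n)
      ((DerivedCategory.singleFunctor (ModuleCat.{u} (Localization.AtPrime n)) 0).mapIso
        e0.symm.toModuleIso ≪≫ cyclicIso (Localization.AtPrime n) n)
      (GshiftIso (Localization.AtPrime n) K d).symm
  let e2 := cmpLinEquiv (G (A := B) (Localization.AtPrime n))
    (semiLinear_G (Localization.AtPrime n)) (Dual.inD B (B ⧸ n)) (K⟦d⟧)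
    (bijBC_main (Localization.AtPrime n) _ _ (bdd_inD _) (finite_homology_inD (B ⧸ n))
      (bdd_shift _ d hK))
  let e3 : (Localization.AtPrime n) ⊗[B] (Dual.inD B (B ⧸ n) ⟶ K⟦d⟧) ≃ₗ[Localization.AtPrime n]
      (Localization.AtPrime n) ⊗[B] (B ⧸ n) :=
    TensorProduct.AlgebraTensorModule.congr (LinearEquiv.refl _ _) ε
  let e4 : (Localization.AtPrime n) ⊗[B] (B ⧸ n) ≃ₗ[Localization.AtPrime n]
      (Localization.AtPrime n ⧸ n.map (algebraMap B (Localization.AtPrime n))) :=
    (Algebra.TensorProduct.quotIdealMapEquivTensorQuot (Localization.AtPrime n) n).symm.toLinearEquiv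
  exact ⟨e1 ≪≫ₗ e2.symm ≪≫ₗ e3 ≪≫ₗ e4 ≪≫ₗ e0⟩

/-- **the residue field criterion**: a complex with finite cohomology and finite injective
dimension over a Noetherian ring, whose `Ext^i(B/n, K)` is `B/n` in one degree and zero otherwise
for each maximal ideal `n`, is dualizing -/
theorem isDualizing_of_residue_global (K : Dual.D B)
    (hfin : ∀ i : ℤ, Module.Finite B (Dual.HD B K i))
    (hinj : ∃ a b : ℤ, ∀ (N : Type u) [AddCommGroup N] [Module B N] (i : ℤ),
      (i < a ∨ b < i) → Subsingleton (Dual.inD B N ⟶ K⟦i⟧))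
    (hres : ∀ (n : Ideal B) [n.IsMaximal], ∃ d : ℤ, (∀ i : ℤ, i ≠ d → Van K i (B ⧸ n)) ∧
      Nonempty ((Dual.inD B (B ⧸ n) ⟶ K⟦d⟧) ≃ₗ[B] B ⧸ n)) :
    Dual.IsDualizing B K := by
  obtain ⟨a, b, hab⟩ := hinj
  have hK : Bdd K := bdd_of_injdim K a b hab
  haveI : K.IsGE a := by
    rw [DerivedCategory.isGE_iff]
    intro i hi
    have h1 : Van K i B := hab B i (Or.inl hi)
    rw [van_self_iff] at h1
    exact ModuleCat.isZero_of_subsingleton _
  refine isDualizing_of_family (fun m : MaximalSpectrum B => Localization.AtPrime m.asIdeal)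
    jf_of_maximal jf_of_maximal K hK hfin ⟨a, b, hab⟩ (fun m => ?_)
  haveI := m.isMaximal
  obtain ⟨d, hvan, ⟨ε⟩⟩ := hres m.asIdeal
  exact isDualizing_localization_of_residue K hfin a hK m.asIdeal d hvan ε

end Global

end Groth.Agent.Helper3.FinAdj
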