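import Mathlib
import Groth.Prelude.Def_Wider
import Groth.Prelude.Def_DDual2
import Groth.Agent.Lib.Helper3.FinAdj4
import Groth.Agent.Lib.Helper3.DualSupp

/-!
# `RHom_A(B, ω)` is dualizing for a finite `A`-algebra `B`
-/

set_option autoImplicit false
universe u
open CategoryTheory CategoryTheory.Limits DerivedCategory Pretriangulated Triangulated TensorProduct

attribute [local instance] HasDerivedCategory.standard

namespace Groth.Agent.Helper3.FinAdj

open Groth.Agent.Helper3.BCDual Groth.Agent.Helper3.DualCx Groth.Agent.Helper3.Crit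
  Groth.Agent.Helper3.DualFun Groth.Agent.Helper3.DualSupp

section Tower

variable {A B : Type u} [CommRing A] [CommRing B] [Algebra A B]

/-- the restriction of a `B`-module with a compatible `A`-module structure -/
noncomputable def towerEquiv (N : Type u) [AddCommGroup N] [Module B N] [Module A N]
    [IsScalarTower A B N] : N ≃ₗ[A] ((resM (algebraMap A B)).obj (ModuleCat.of B N)) where
  toFun x := x
  invFun x := x
  map_add' _ _ := rfl
  map_smul' a x := (algebraMap_smul B a x).symm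
  left_inv _ := rfl
  right_inv _ := rfl

variable {R : Dual.D A ⥤ Dual.D B} (adj : DRing.restrictD (algebraMap A B) ⊣ R)

/-- the `Ext` computation for a module with compatible structures -/
noncomputable def extT (N : Type u) [AddCommGroup N] [Module B N] [Module A N]
    [IsScalarTower A B N] (Y : Dual.D A) (i : ℤ) :
    (Dual.inD B N ⟶ (R.obj Y)⟦i⟧) ≃+ (Dual.inD A N ⟶ Y⟦i⟧) :=
  extEquivOf (algebraMap A B) adj N N (towerEquiv N) Y i

lemma extT_smul (N : Type u) [AddCommGroup N] [Module B N] [Module A N]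
    [IsScalarTower A B N] (Y : Dual.D A) (i : ℤ) (a : A) (f : Dual.inD B N ⟶ (R.obj Y)⟦i⟧) :
    extT adj N Y i (algebraMap A B a • f) = a • extT adj N Y i f :=
  extEquivOf_smul (algebraMap A B) adj N N (towerEquiv N) Y i a f

include adj in
lemma injdim_R (ω : Dual.D A) (a b : ℤ)
    (hab : ∀ (M : Type u) [AddCommGroup M] [Module A M] (i : ℤ),
      (i < a ∨ b < i) → Subsingleton (Dual.inD A M ⟶ ω⟦i⟧))
    (N : Type u) [AddCommGroup N] [Module B N] (i : ℤ) (hi : i < a ∨ b < i) :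
    Subsingleton (Dual.inD B N ⟶ (R.obj ω)⟦i⟧) := by
  haveI := hab ((resM (algebraMap A B)).obj (ModuleCat.of B N)) i hi
  exact (extEquiv (algebraMap A B) adj (ModuleCat.of B N) ω i).toEquiv.subsingleton

variable [IsNoetherianRing A] [IsNoetherianRing B] [Module.Finite A B] {ω : Dual.D A}
  (hω : Dual.IsDualizing A ω)

include adj hω in
lemma finite_homology_R (i : ℤ) : Module.Finite B (Dual.HD B (R.obj ω) i) := by
  obtain ⟨a, b, hab⟩ := hω.finite_injective_dimension
  have hout := (Groth.Agent.Helper5.InjAmp.s6965 (R.obj ω) a b).out 1 0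
  have hfid : DRing.HasFiniteInjDim B (R.obj ω) :=
    ⟨a, b, hout.1 (fun N _ _ i hi => injdim_R adj ω a b hab N i hi)⟩
  obtain ⟨dd⟩ := nonempty_data_of_hasFiniteInjDim hfid
  haveI : Module.Finite A (Dual.inD A B ⟶ ω⟦i⟧) := finite_ext hω B i
  haveI : Module.Finite B (Dual.inD B B ⟶ (R.obj ω)⟦i⟧) :=
    finite_of_semilinear (algebraMap A B) (extT adj B ω i) (extT_smul adj B ω i)
  exact Module.Finite.equiv (extSelfIso dd i)

include adj in
/-- the `Ext` of the residue field of a maximal ideal of `B` into `R(ω)` -/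
theorem residue_R (ω : Dual.D A) (n : Ideal B) [n.IsMaximal] [(n.comap (algebraMap A B)).IsMaximal]
    (d : ℤ) (hvan : ∀ i : ℤ, i ≠ d → Van ω i (A ⧸ n.comap (algebraMap A B)))
    (ε : (Dual.inD A (A ⧸ n.comap (algebraMap A B)) ⟶ ω⟦d⟧) ≃ₗ[A]
      A ⧸ n.comap (algebraMap A B)) :
    (∀ i : ℤ, i ≠ d → Van (R.obj ω) i (B ⧸ n)) ∧
      Nonempty ((Dual.inD B (B ⧸ n) ⟶ (R.obj ω)⟦d⟧) ≃ₗ[B] B ⧸ n) := by
  haveI : Module.Finite A (B ⧸ n) := Module.Finite.trans B (B ⧸ n)
  have hM : ∀ x ∈ n.comap (algebraMap A B), ∀ y : B ⧸ n, x • y = 0 := by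
    intro x hx y
    obtain ⟨y, rfl⟩ := Ideal.Quotient.mk_surjective y
    show Ideal.Quotient.mk n (x • y) = 0
    rw [Ideal.Quotient.eq_zero_iff_mem, Algebra.smul_def]
    exact n.mul_mem_right _ (Ideal.mem_comap.1 hx)
  obtain ⟨h1, h2⟩ := van_length_of_annihilated ω (n.comap (algebraMap A B)) d hvan ε (B ⧸ n) hM
  refine ⟨fun i hi => ?_, ?_⟩
  · haveI : Subsingleton (Dual.inD A (B ⧸ n) ⟶ ω⟦i⟧) := h1 i hi
    exact (extT adj (B ⧸ n) ω i).toEquiv.subsingleton
  · letI : Module A (Dual.inD B (B ⧸ n) ⟶ (R.obj ω)⟦d⟧) :=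
      Module.compHom _ (algebraMap A B)
    haveI : IsScalarTower A B (Dual.inD B (B ⧸ n) ⟶ (R.obj ω)⟦d⟧) :=
      IsScalarTower.of_algebraMap_smul fun r x => rfl
    let Ψ : (Dual.inD B (B ⧸ n) ⟶ (R.obj ω)⟦d⟧) ≃ₗ[A] (Dual.inD A (B ⧸ n) ⟶ ω⟦d⟧) :=
      { extT adj (B ⧸ n) ω d with
        map_smul' := fun a e => extT_smul adj (B ⧸ n) ω d a e }
    refine nonempty_equiv_of_length (A := A) n _ ?_ (Ψ.length_eq.trans h2)
      (Module.length_ne_top_iff.2 (isFiniteLength_of_annihilated _ (B ⧸ n) hM))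
    intro b hb e
    have h3 := annihilator_le_annihilator_ext ((R.obj ω)⟦d⟧) (B ⧸ n)
    rw [Ideal.annihilator_quotient] at h3
    exact Module.mem_annihilator.1 (h3 hb) e

include adj hω in
theorem isDualizing_R : Dual.IsDualizing B (R.obj ω) := by
  obtain ⟨a, b, hab⟩ := hω.finite_injective_dimension
  refine isDualizing_of_residue_global (R.obj ω) (finite_homology_R adj hω)
    ⟨a, b, fun N _ _ i hi => injdim_R adj ω a b hab N i hi⟩ (fun n _ => ?_)
  haveI : (n.comap (algebraMap A B)).IsMaximal :=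
    Ideal.isMaximal_comap_of_isIntegral_of_isMaximal n
  obtain ⟨d, hvan, ⟨ε⟩⟩ := main_S0364 A ω hω (n.comap (algebraMap A B))
  exact ⟨d, residue_R adj ω n d hvan ε⟩

end Tower

theorem main_S1772 (A B : Type u) [CommRing A] [CommRing B] [Algebra A B] [IsNoetherianRing A]
    [IsNoetherianRing B] [Module.Finite A B] (R : Dual.D A ⥤ Dual.D B)
    (adj : DRing.restrictD (algebraMap A B) ⊣ R) (ω : Dual.D A) (hω : Dual.IsDualizing A ω) :
    Dual.IsDualizing B (R.obj ω) :=
  isDualizing_R adj hω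

theorem main_S1773 (A B : Type u) [CommRing A] [CommRing B] [IsLocalRing A] [IsLocalRing B]
    [Algebra A B] [IsLocalHom (algebraMap A B)] [IsNoetherianRing A] [IsNoetherianRing B]
    [Module.Finite A B] (R : Dual.D A ⥤ Dual.D B) (adj : DRing.restrictD (algebraMap A B) ⊣ R)
    (ω : Dual.D A) (hω : Dual.IsDualizing A ω) (hn : Dual.IsNormalized A ω) :
    Dual.IsDualizing B (R.obj ω) ∧ Dual.IsNormalized B (R.obj ω) := by
  refine ⟨isDualizing_R adj hω, ?_⟩
  haveI hmax : ((IsLocalRing.maximalIdeal B).comap (algebraMap A B)).IsMaximal :=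
    Ideal.isMaximal_comap_of_isIntegral_of_isMaximal _
  have hm : (IsLocalRing.maximalIdeal B).comap (algebraMap A B) = IsLocalRing.maximalIdeal A :=
    IsLocalRing.eq_maximalIdeal hmax
  obtain ⟨d, hvan, ⟨ε⟩⟩ := main_S0364 A ω hω ((IsLocalRing.maximalIdeal B).comap (algebraMap A B))
  have hd : d = 0 := by
    by_contra hne
    have h0 : Subsingleton (Dual.inD A (IsLocalRing.ResidueField A) ⟶ ω⟦d⟧) := hn d hne
    have h1 : Subsingleton (Dual.inD A (A ⧸ IsLocalRing.maximalIdeal A) ⟶ ω⟦d⟧) := h0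
    rw [← hm] at h1
    haveI := ε.symm.toEquiv.subsingleton
    haveI : Nontrivial (A ⧸ (IsLocalRing.maximalIdeal B).comap (algebraMap A B)) :=
      Ideal.Quotient.nontrivial_iff.2 hmax.ne_top
    exact not_subsingleton _ ‹_›
  subst hd
  intro i hi
  exact (residue_R adj ω (IsLocalRing.maximalIdeal B) 0 hvan ε).1 i hi

end Groth.Agent.Helper3.FinAdj
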