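import Mathlib
import Groth.Prelude.Def_Wider
import Groth.Prelude.Def_DDual2
import Groth.Agent.Lib.Helper3.FinAdj5

/-!
# An abstract criterion: an object of `D(B)` computing `RHom_A(B, ω)` on modules is dualizing
-/

set_option autoImplicit false
universe u
open CategoryTheory CategoryTheory.Limits DerivedCategory Pretriangulated Triangulated TensorProduct

attribute [local instance] HasDerivedCategory.standard

namespace Groth.Agent.Helper3.FinEx

open Groth.Agent.Helper3.BCDual Groth.Agent.Helper3.DualCx Groth.Agent.Helper3.Crit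
  Groth.Agent.Helper3.DualFun Groth.Agent.Helper3.DualSupp Groth.Agent.Helper3.FinAdj

variable {A B : Type u} [CommRing A] [CommRing B] [Algebra A B]

/-- `K ∈ D(B)` computes `RHom_A(B, ω)` on modules: `Ext_B^i(N, K) ≃ Ext_A^i(N, ω)`, semilinearly -/
structure ExtAdj (K : Dual.D B) (ω : Dual.D A) where
  e : ∀ (N : Type u) [AddCommGroup N] [Module B N] [Module A N] [IsScalarTower A B N] (i : ℤ),
    (Dual.inD B N ⟶ K⟦i⟧) ≃+ (Dual.inD A N ⟶ ω⟦i⟧)
  smul : ∀ (N : Type u) [AddCommGroup N] [Module B N] [Module A N] [IsScalarTower A B N] (i : ℤ)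
    (a : A) (f : Dual.inD B N ⟶ K⟦i⟧), e N i (algebraMap A B a • f) = a • e N i f

variable {K : Dual.D B} {ω : Dual.D A} (E : ExtAdj K ω)

include E in
lemma injdim_K (a b : ℤ)
    (hab : ∀ (M : Type u) [AddCommGroup M] [Module A M] (i : ℤ),
      (i < a ∨ b < i) → Subsingleton (Dual.inD A M ⟶ ω⟦i⟧))
    (N : Type u) [AddCommGroup N] [Module B N] (i : ℤ) (hi : i < a ∨ b < i) :
    Subsingleton (Dual.inD B N ⟶ K⟦i⟧) := by
  letI : Module A N := Module.compHom N (algebraMap A B)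
  haveI : IsScalarTower A B N := IsScalarTower.of_algebraMap_smul fun r x => rfl
  haveI := hab N i hi
  exact (E.e N i).toEquiv.subsingleton

variable [IsNoetherianRing A] [IsNoetherianRing B] [Module.Finite A B]
  (hω : Dual.IsDualizing A ω)

include E hω in
lemma finite_homology_K (i : ℤ) : Module.Finite B (Dual.HD B K i) := by
  obtain ⟨a, b, hab⟩ := hω.finite_injective_dimension
  have hout := (Groth.Agent.Helper5.InjAmp.s6965 K a b).out 1 0
  have hfid : DRing.HasFiniteInjDim B K :=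
    ⟨a, b, hout.1 (fun N _ _ i hi => injdim_K E a b hab N i hi)⟩
  obtain ⟨dd⟩ := nonempty_data_of_hasFiniteInjDim hfid
  haveI : Module.Finite A (Dual.inD A B ⟶ ω⟦i⟧) := finite_ext hω B i
  haveI : Module.Finite B (Dual.inD B B ⟶ K⟦i⟧) :=
    finite_of_semilinear (algebraMap A B) (E.e B i) (E.smul B i)
  exact Module.Finite.equiv (extSelfIso dd i)

include E in
/-- the `Ext` of the residue field of a maximal ideal of `B` into `K` -/
theorem residue_K (n : Ideal B) [n.IsMaximal] [(n.comap (algebraMap A B)).IsMaximal]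
    (d : ℤ) (hvan : ∀ i : ℤ, i ≠ d → Van ω i (A ⧸ n.comap (algebraMap A B)))
    (ε : (Dual.inD A (A ⧸ n.comap (algebraMap A B)) ⟶ ω⟦d⟧) ≃ₗ[A]
      A ⧸ n.comap (algebraMap A B)) :
    (∀ i : ℤ, i ≠ d → Van K i (B ⧸ n)) ∧
      Nonempty ((Dual.inD B (B ⧸ n) ⟶ K⟦d⟧) ≃ₗ[B] B ⧸ n) := by
  haveI : Module.Finite A (B ⧸ n) := Module.Finite.trans B (B ⧸ n)
  have hM : ∀ x ∈ n.comap (algebraMap A B), ∀ y : B ⧸ n, x • y = 0 := by
    intro x hx y
    obtain ⟨y, rfl⟩ := Ideal.Quotient.mk_surjective y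
    show Ideal.Quotient.mk n (x • y) = 0
    rw [Ideal.Quotient.eq_zero_iff_mem, Algebra.smul_def]
    exact n.mul_mem_right _ (Ideal.mem_comap.1 hx)
  obtain ⟨h1, h2⟩ := van_length_of_annihilated ω (n.comap (algebraMap A B)) d hvan ε (B ⧸ n) hM
  refine ⟨fun i hi => ?_, ?_⟩
  · haveI : Subsingleton (Dual.inD A (B ⧸ n) ⟶ ω⟦i⟧) := h1 i hi
    exact (E.e (B ⧸ n) i).toEquiv.subsingleton
  · letI : Module A (Dual.inD B (B ⧸ n) ⟶ K⟦d⟧) :=
      Module.compHom _ (algebraMap A B)
    haveI : IsScalarTower A B (Dual.inD B (B ⧸ n) ⟶ K⟦d⟧) :=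
      IsScalarTower.of_algebraMap_smul fun r x => rfl
    let Ψ : (Dual.inD B (B ⧸ n) ⟶ K⟦d⟧) ≃ₗ[A] (Dual.inD A (B ⧸ n) ⟶ ω⟦d⟧) :=
      { E.e (B ⧸ n) d with
        map_smul' := fun a e => E.smul (B ⧸ n) d a e }
    refine nonempty_equiv_of_length (A := A) n _ ?_ (Ψ.length_eq.trans h2)
      (Module.length_ne_top_iff.2 (isFiniteLength_of_annihilated _ (B ⧸ n) hM))
    intro b hb e
    have h3 := annihilator_le_annihilator_ext (K⟦d⟧) (B ⧸ n)
    rw [Ideal.annihilator_quotient] at h3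
    exact Module.mem_annihilator.1 (h3 hb) e

include E hω in
theorem isDualizing_K : Dual.IsDualizing B K := by
  obtain ⟨a, b, hab⟩ := hω.finite_injective_dimension
  refine isDualizing_of_residue_global K (finite_homology_K E hω)
    ⟨a, b, fun N _ _ i hi => injdim_K E a b hab N i hi⟩ (fun n _ => ?_)
  haveI : (n.comap (algebraMap A B)).IsMaximal :=
    Ideal.isMaximal_comap_of_isIntegral_of_isMaximal n
  obtain ⟨d, hvan, ⟨ε⟩⟩ := main_S0364 A ω hω (n.comap (algebraMap A B))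
  exact ⟨d, residue_K E n d hvan ε⟩

end Groth.Agent.Helper3.FinEx
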