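import Mathlib
import Groth.Prelude.Def_Wider
import Groth.Prelude.Def_DDual2
import Groth.Agent.Lib.Helper3.FinEx1

/-!
# The complex `Hom_A(B, I^•)` and its `Ext` groups
-/

set_option autoImplicit false
universe u
open CategoryTheory CategoryTheory.Limits DerivedCategory Pretriangulated Triangulated TensorProduct

attribute [local instance] HasDerivedCategory.standard

namespace Groth.Agent.Helper3.FinEx

open Groth.Agent.Helper3.BCDual Groth.Agent.Helper3.DualCx Groth.Agent.Helper3.Crit
  Groth.Agent.Helper3.DualFun Groth.Agent.Helper3.DualSupp Groth.Agent.Helper3.FinAdj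
  Groth.Agent.Helper5.InjAmp

section Transfer

variable {Z₁ Z₂ H₁ H₂ : Type*} [AddCommGroup Z₁] [AddCommGroup Z₂] [AddCommGroup H₁]
  [AddCommGroup H₂]

/-- transfer of an equivalence to quotients presented by surjections -/
noncomputable def transfer (π₁ : Z₁ →+ H₁) (π₂ : Z₂ →+ H₂) (h₁ : Function.Surjective π₁)
    (h₂ : Function.Surjective π₂) (α : Z₁ ≃+ Z₂) (hα : ∀ z, π₁ z = 0 ↔ π₂ (α z) = 0) :
    H₁ ≃+ H₂ :=
  (QuotientAddGroup.quotientKerEquivOfSurjective π₁ h₁).symm.trans
    ((QuotientAddGroup.congr π₁.ker π₂.ker α (by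
      ext z
      constructor
      · rintro ⟨w, hw, rfl⟩
        exact (hα w).1 hw
      · intro hz
        refine ⟨α.symm z, (hα _).2 (by simpa using hz), by simp⟩)).trans
    (QuotientAddGroup.quotientKerEquivOfSurjective π₂ h₂))

lemma transfer_apply (π₁ : Z₁ →+ H₁) (π₂ : Z₂ →+ H₂) (h₁ : Function.Surjective π₁)
    (h₂ : Function.Surjective π₂) (α : Z₁ ≃+ Z₂) (hα : ∀ z, π₁ z = 0 ↔ π₂ (α z) = 0) (z : Z₁) :
    transfer π₁ π₂ h₁ h₂ α hα (π₁ z) = π₂ (α z) := by
  have h : (QuotientAddGroup.quotientKerEquivOfSurjective π₁ h₁).symm (π₁ z) =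
      QuotientAddGroup.mk z := by
    rw [AddEquiv.symm_apply_eq]
    rfl
  simp only [transfer, AddEquiv.trans_apply, h]
  rfl

end Transfer

section Alpha

variable {A B : Type u} [CommRing A] [CommRing B] [Algebra A B]

/-- coextension of scalars `Hom_A(B, -)` -/
noncomputable abbrev coext : ModuleCat.{u} A ⥤ ModuleCat.{u} B :=
  ModuleCat.coextendScalars (algebraMap A B)

open ModuleCat.RestrictionCoextensionAdj in
/-- the adjunction bijection `Hom_B(N, Hom_A(B, Y)) ≃ Hom_A(N, Y)` -/
noncomputable def alpha (N : Type u) [AddCommGroup N] [Module B N] [Module A N]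
    [IsScalarTower A B N] (Y : ModuleCat.{u} A) :
    (ModuleCat.of B N ⟶ (coext (A := A) (B := B)).obj Y) ≃+ (ModuleCat.of A N ⟶ Y) where
  toFun g := (towerEquiv N).toModuleIso.hom ≫ HomEquiv.toRestriction (algebraMap A B) g
  invFun h := HomEquiv.fromRestriction (algebraMap A B) ((towerEquiv N).toModuleIso.inv ≫ h)
  left_inv g := by
    apply ModuleCat.hom_ext
    apply LinearMap.ext
    intro n
    apply ModuleCat.CoextendScalars.ext
    apply LinearMap.ext
    intro b
    let b' : B := b
    have h1 : (ModuleCat.Hom.hom g) (b' • (n : N)) = b' • (ModuleCat.Hom.hom g) n :=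
      map_smul _ _ _
    have h2 := ModuleCat.CoextendScalars.smul_apply (algebraMap A B) Y
      ((ModuleCat.Hom.hom g) n) b' (1 : B)
    rw [one_mul] at h2
    refine Eq.trans ?_ h2
    rw [← h1]
    rfl
  right_inv h := by
    ext n
    simp
    exact congrArg (ModuleCat.Hom.hom h) (one_smul B (n : N))
  map_add' g g' := by
    ext n
    simp

lemma alpha_apply (N : Type u) [AddCommGroup N] [Module B N] [Module A N]
    [IsScalarTower A B N] (Y : ModuleCat.{u} A)
    (g : ModuleCat.of B N ⟶ (coext (A := A) (B := B)).obj Y) (n : N) :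
    (alpha N Y g).hom n = (g.hom n) (1 : B) := rfl

lemma alpha_smul (N : Type u) [AddCommGroup N] [Module B N] [Module A N]
    [IsScalarTower A B N] (Y : ModuleCat.{u} A) (a : A)
    (g : ModuleCat.of B N ⟶ (coext (A := A) (B := B)).obj Y) :
    alpha N Y (algebraMap A B a • g) = a • alpha N Y g := by
  apply ModuleCat.hom_ext
  apply LinearMap.ext
  intro n
  rw [alpha_apply]
  have h1 : (ModuleCat.Hom.hom (algebraMap A B a • g)) n = algebraMap A B a • (g.hom n) := rfl
  have h2 : (ModuleCat.Hom.hom (a • alpha N Y g)) n = a • ((alpha N Y g).hom n) := rfl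
  rw [h1, h2, alpha_apply]
  have h3 := ModuleCat.CoextendScalars.smul_apply (algebraMap A B) Y (g.hom n)
    (algebraMap A B a) (1 : B)
  rw [one_mul] at h3
  refine h3.trans ?_
  let one' : (ModuleCat.restrictScalars (algebraMap A B)).obj (ModuleCat.of B B) := (1 : B)
  have h5 := (ModuleCat.CoextendScalars.equiv (algebraMap A B) Y (g.hom n)).map_smul a one'
  refine Eq.trans ?_ h5
  congr 1
  have h6 := ModuleCat.restrictScalars.smul_def (algebraMap A B) (M := ModuleCat.of B B) a one'
  rw [h6]
  show algebraMap A B a = algebraMap A B a * (1 : B)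
  rw [mul_one]

lemma alpha_comp (N : Type u) [AddCommGroup N] [Module B N] [Module A N]
    [IsScalarTower A B N] {Y Y' : ModuleCat.{u} A} (u : Y ⟶ Y')
    (g : ModuleCat.of B N ⟶ (coext (A := A) (B := B)).obj Y) :
    alpha N Y' (g ≫ (coext (A := A) (B := B)).map u) = alpha N Y g ≫ u := by
  apply ModuleCat.hom_ext
  apply LinearMap.ext
  intro n
  rfl

end Alpha

section Cx

variable {A B : Type u} [CommRing A] [CommRing B] [Algebra A B]

instance : (coext (A := A) (B := B)).Additive :=
  (ModuleCat.restrictCoextendScalarsAdj (algebraMap A B)).right_adjoint_additive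

/-- the complex `Hom_A(B, I^•)` of `B`-modules -/
noncomputable abbrev coCx (I : DRing.Cx A) : DRing.Cx B :=
  ((coext (A := A) (B := B)).mapHomologicalComplex (ComplexShape.up ℤ)).obj I

lemma injective_coCx (I : DRing.Cx A) (hI : ∀ q : ℤ, Injective (I.X q)) (q : ℤ) :
    Injective ((coCx (B := B) I).X q) := by
  haveI := hI q
  exact Injective.injective_of_adjoint
    (ModuleCat.restrictCoextendScalarsAdj.{u, u, u} (algebraMap A B)) (I.X q)

lemma vanishesOutside_coCx (I : DRing.Cx A) (a b : ℤ) (h : DRing.VanishesOutside I a b) :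
    DRing.VanishesOutside (coCx (B := B) I) a b := by
  intro i hi
  exact (coext (A := A) (B := B)).map_isZero (h i hi)

lemma Phi_eq_zero_iff {R : Type u} [CommRing R] (I : DRing.Cx R) [I.IsKInjective]
    (M : ModuleCat.{u} R) (j : ℤ) (z : Zj I M j) :
    Phi I M j z = 0 ↔
      ∃ s : M ⟶ I.X (j - 1), (show M ⟶ I.X j from z.1) = s ≫ I.d (j - 1) j := by
  constructor
  · intro hz
    rw [Phi_apply] at hz
    obtain ⟨H⟩ := Groth.Agent.Helper5.ToInj.nonempty_homotopy_of_Q_map_eq _ 0
      (hz.trans (Functor.map_zero _ _ _).symm)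
    exact exists_lift_of_homotopy I j _ _ H (j - 1) (by omega)
  · rintro ⟨s, hs⟩
    rw [Phi_apply]
    exact Q_map_fromSingle_eq_zero I j _ _ s hs

/-- the data over `B` -/
noncomputable def dataB {ω : Dual.D A} (d : Data A ω) :
    Data B (Q.obj (coCx (B := B) d.I)) where
  I := coCx d.I
  inj := injective_coCx d.I d.inj
  kinj := by
    haveI : (coCx (B := B) d.I).IsStrictlyGE d.a := by
      rw [CochainComplex.isStrictlyGE_iff]
      exact fun i hi => vanishesOutside_coCx d.I d.a d.b d.van i (Or.inl hi)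
    haveI := injective_coCx (B := B) d.I d.inj
    exact CochainComplex.isKInjective_of_injective _ d.a
  a := d.a
  b := d.b
  van := vanishesOutside_coCx d.I d.a d.b d.van
  e := Iso.refl _

variable (I : DRing.Cx A) (N : Type u) [AddCommGroup N] [Module B N] [Module A N]
  [IsScalarTower A B N] (j : ℤ)

/-- cocycles of `Hom_B(N, Hom_A(B, I^•))` and of `Hom_A(N, I^•)` -/
noncomputable def zEquiv :
    Zj (coCx (B := B) I) (ModuleCat.of B N) j ≃+ Zj I (ModuleCat.of A N) j where
  toFun z := ⟨(show (Dc I (ModuleCat.of A N)).X j from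
      alpha (B := B) N (I.X j) (show ModuleCat.of B N ⟶ (coext (A := A) (B := B)).obj (I.X j) from z.1)), by
    rw [mem_Zj]
    have h1 := (mem_Zj (coCx (B := B) I) (ModuleCat.of B N) j z.1).1 z.2
    have h2 := alpha_comp (B := B) N (I.d j (j + 1))
      (show ModuleCat.of B N ⟶ (coext (A := A) (B := B)).obj (I.X j) from z.1)
    refine h2.symm.trans ?_
    have h3 : (show ModuleCat.of B N ⟶ (coext (A := A) (B := B)).obj (I.X j) from z.1) ≫
        (coext (A := A) (B := B)).map (I.d j (j + 1)) = 0 := h1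
    rw [h3, map_zero]⟩
  invFun w := ⟨(show (Dc (coCx (B := B) I) (ModuleCat.of B N)).X j from
      (alpha (B := B) N (I.X j)).symm (show ModuleCat.of A N ⟶ I.X j from w.1)), by
    rw [mem_Zj]
    have h1 := (mem_Zj I (ModuleCat.of A N) j w.1).1 w.2
    apply (alpha (B := B) N (I.X (j + 1))).injective
    have h2 := alpha_comp (B := B) N (I.d j (j + 1))
      ((alpha (B := B) N (I.X j)).symm (show ModuleCat.of A N ⟶ I.X j from w.1))
    rw [AddEquiv.apply_symm_apply] at h2
    exact (h2.trans h1).trans (map_zero _).symm⟩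
  left_inv z := by
    apply Subtype.ext
    exact (alpha (B := B) N (I.X j)).symm_apply_apply _
  right_inv w := by
    apply Subtype.ext
    exact (alpha (B := B) N (I.X j)).apply_symm_apply _
  map_add' z z' := by
    apply Subtype.ext
    exact (alpha (B := B) N (I.X j)).map_add _ _

lemma zEquiv_smul (a : A) (z : Zj (coCx (B := B) I) (ModuleCat.of B N) j) :
    zEquiv I N j (algebraMap A B a • z) = a • zEquiv I N j z := by
  apply Subtype.ext
  exact alpha_smul (B := B) N (I.X j) a _

variable [I.IsKInjective] [(coCx (B := B) I).IsKInjective]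

lemma Phi_zero_iff_zEquiv (z : Zj (coCx (B := B) I) (ModuleCat.of B N) j) :
    Phi (coCx (B := B) I) (ModuleCat.of B N) j z = 0 ↔
      Phi I (ModuleCat.of A N) j (zEquiv I N j z) = 0 := by
  rw [Phi_eq_zero_iff, Phi_eq_zero_iff]
  constructor
  · rintro ⟨s, hs⟩
    refine ⟨alpha (B := B) N (I.X (j - 1)) s, ?_⟩
    have h1 := alpha_comp (B := B) N (I.d (j - 1) j) s
    refine Eq.trans ?_ h1
    exact congrArg (alpha (B := B) N (I.X j)) hs
  · rintro ⟨t, ht⟩
    refine ⟨(alpha (B := B) N (I.X (j - 1))).symm t, ?_⟩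
    apply (alpha (B := B) N (I.X j)).injective
    have h1 := alpha_comp (B := B) N (I.d (j - 1) j) ((alpha (B := B) N (I.X (j - 1))).symm t)
    rw [AddEquiv.apply_symm_apply] at h1
    exact ht.trans h1.symm

/-- `Hom_{D(B)}(N[-j], Hom_A(B, I)) ≃ Hom_{D(A)}(N[-j], I)` -/
noncomputable def homEquivQ :
    (Q.obj (S j (ModuleCat.of B N)) ⟶ Q.obj (coCx (B := B) I)) ≃+
      (Q.obj (S j (ModuleCat.of A N)) ⟶ Q.obj I) :=
  transfer (Phi (coCx (B := B) I) (ModuleCat.of B N) j).toAddMonoidHom
    (Phi I (ModuleCat.of A N) j).toAddMonoidHom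
    (Phi_surjective (coCx (B := B) I) (ModuleCat.of B N) j)
    (Phi_surjective I (ModuleCat.of A N) j) (zEquiv I N j) (Phi_zero_iff_zEquiv I N j)

lemma homEquivQ_Phi (z : Zj (coCx (B := B) I) (ModuleCat.of B N) j) :
    homEquivQ I N j (Phi (coCx (B := B) I) (ModuleCat.of B N) j z) =
      Phi I (ModuleCat.of A N) j (zEquiv I N j z) :=
  transfer_apply _ _ _ _ _ _ z

lemma homEquivQ_smul (a : A)
    (f : Q.obj (S j (ModuleCat.of B N)) ⟶ Q.obj (coCx (B := B) I)) :
    homEquivQ I N j (algebraMap A B a • f) = a • homEquivQ I N j f := by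
  obtain ⟨z, rfl⟩ := Phi_surjective (coCx (B := B) I) (ModuleCat.of B N) j f
  rw [← map_smul, homEquivQ_Phi, homEquivQ_Phi, zEquiv_smul, map_smul]

end Cx

section Main

variable {A B : Type u} [CommRing A] [CommRing B] [Algebra A B] {ω : Dual.D A} (d : Data A ω)

/-- `Hom_A(B, I^•)` computes `RHom_A(B, ω)` on modules -/
noncomputable def extAdj : ExtAdj (Q.obj (coCx (B := B) d.I)) ω where
  e N _ _ _ _ i :=
    haveI := d.kinj
    haveI : (coCx (B := B) d.I).IsKInjective := (dataB (B := B) d).kinj
    (extEquiv (dataB (B := B) d) (ModuleCat.of B N) i).toAddEquiv.trans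
      ((homEquivQ d.I N i).trans (extEquiv d (ModuleCat.of A N) i).symm.toAddEquiv)
  smul N _ _ _ _ i a f := by
    haveI := d.kinj
    haveI : (coCx (B := B) d.I).IsKInjective := (dataB (B := B) d).kinj
    show (extEquiv d (ModuleCat.of A N) i).symm (homEquivQ d.I N i
        (extEquiv (dataB (B := B) d) (ModuleCat.of B N) i (algebraMap A B a • f))) =
      a • (extEquiv d (ModuleCat.of A N) i).symm (homEquivQ d.I N i
        (extEquiv (dataB (B := B) d) (ModuleCat.of B N) i f))
    have h1 : extEquiv (dataB (B := B) d) (ModuleCat.of B N) i (algebraMap A B a • f) =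
        algebraMap A B a • extEquiv (dataB (B := B) d) (ModuleCat.of B N) i f := map_smul _ _ _
    have h2 := homEquivQ_smul d.I N i a (extEquiv (dataB (B := B) d) (ModuleCat.of B N) i f)
    have h3 := map_smul (extEquiv d (ModuleCat.of A N) i).symm a
      (homEquivQ d.I N i (extEquiv (dataB (B := B) d) (ModuleCat.of B N) i f))
    exact (congrArg (extEquiv d (ModuleCat.of A N) i).symm
      ((congrArg (homEquivQ d.I N i) h1).trans h2)).trans h3

/-- **existence of dualizing complexes for finite algebras** -/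
theorem exists_isDualizing_of_finite [IsNoetherianRing A] [IsNoetherianRing B] [Module.Finite A B]
    (hω : Dual.IsDualizing A ω) : ∃ K : Dual.D B, Dual.IsDualizing B K ∧ Nonempty (ExtAdj K ω) := by
  obtain ⟨d⟩ := nonempty_data hω
  exact ⟨_, isDualizing_K (extAdj d) hω, ⟨extAdj d⟩⟩

end Main

end Groth.Agent.Helper3.FinEx
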