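import Mathlib
import Groth.Prelude.Def_Wider
import Groth.Prelude.Def_DDual2
import Groth.Agent.Lib.Helper3.FinAdj4
import Groth.Agent.Lib.Helper3.DualFun3

/-!
# Flat base change of `Ext` of cyclic modules, and the local computation for Gorenstein fibres
-/

set_option autoImplicit false
universe u
open CategoryTheory CategoryTheory.Limits DerivedCategory Pretriangulated Triangulated TensorProduct

attribute [local instance] HasDerivedCategory.standard

namespace Groth.Agent.Helper3.GorBC

open Groth.Agent.Helper3.BCAbs Groth.Agent.Helper3.BCDer Groth.Agent.Helper3.BCDual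
  Groth.Agent.Helper3.BCDesc Groth.Agent.Helper5.FlatBC Groth.Agent.Helper3.DualCx
  Groth.Agent.Helper3.BassLem Groth.Agent.Helper3.BCFlat Groth.Agent.Helper3.Crit
  Groth.Agent.Helper3.FinAdj

section ExtBC

variable {A : Type u} [CommRing A] [IsNoetherianRing A] (B : Type u) [CommRing B] [Algebra A B]
  [Module.Flat A B]

/-- flat base change for `Ext` of a cyclic module -/
noncomputable def extBCEquiv (L : Dual.D A) (hL : Bdd L) (I : Ideal A) (j : ℤ) :
    B ⊗[A] (Dual.inD A (A ⧸ I) ⟶ L⟦j⟧) ≃ₗ[B]
      (Dual.inD B (B ⧸ I.map (algebraMap A B)) ⟶ ((G (A := A) B).obj L)⟦j⟧) :=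
  cmpLinEquiv (G (A := A) B) (semiLinear_G B) (Dual.inD A (A ⧸ I)) (L⟦j⟧)
      (bijBC_main B _ _ (bdd_inD _) (finite_homology_inD (A ⧸ I)) (bdd_shift _ j hL)) ≪≫ₗ
    Linear.homCongr B (cyclicIso B I).symm (GshiftIso B L j)

end ExtBC

section Local

variable {A : Type u} [CommRing A] [IsNoetherianRing A] (B : Type u) [CommRing B] [Algebra A B]
  [Module.Flat A B] [IsNoetherianRing B]

/-- **the local computation**: for `A → B` flat, `ω` dualizing over `A`, `m` a prime of `B` over
`p`, `C = B_m`: `Ext^j_C(C/pC, ω ⊗ C)` vanishes except in one degree `d` where it is `C/pC` -/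
theorem exists_ext_fibre (ω : Dual.D A) (hω : Dual.IsDualizing A ω) (m : Ideal B) [m.IsPrime] :
    ∃ d : ℤ,
      (∀ j : ℤ, j ≠ d → Van ((G (A := B) (Localization.AtPrime m)).obj ((G (A := A) B).obj ω)) j
        (Localization.AtPrime m ⧸ (((m.comap (algebraMap A B)).map (algebraMap A B)).map
          (algebraMap B (Localization.AtPrime m))))) ∧
      Nonempty ((Dual.inD (Localization.AtPrime m) (Localization.AtPrime m ⧸
          (((m.comap (algebraMap A B)).map (algebraMap A B)).map
            (algebraMap B (Localization.AtPrime m)))) ⟶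
          ((G (A := B) (Localization.AtPrime m)).obj
            ((G (A := A) B).obj ω))⟦d⟧) ≃ₗ[Localization.AtPrime m]
        (Localization.AtPrime m ⧸ (((m.comap (algebraMap A B)).map (algebraMap A B)).map
          (algebraMap B (Localization.AtPrime m))))) := by
  classical
  let p : Ideal A := m.comap (algebraMap A B)
  haveI : p.IsPrime := Ideal.comap_isPrime _ _
  haveI : m.LiesOver p := ⟨rfl⟩
  letI : Algebra (Localization.AtPrime p) (Localization.AtPrime m) :=
    Localization.AtPrime.algebraOfLiesOver p m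
  haveI : IsScalarTower A (Localization.AtPrime p) (Localization.AtPrime m) := inferInstance
  haveI : IsNoetherianRing (Localization.AtPrime p) :=
    IsLocalization.isNoetherianRing p.primeCompl _ inferInstance
  haveI : IsNoetherianRing (Localization.AtPrime m) :=
    IsLocalization.isNoetherianRing m.primeCompl _ inferInstance
  haveI : Module.Flat A (Localization.AtPrime p) := IsLocalization.flat _ p.primeCompl
  haveI : Module.Flat B (Localization.AtPrime m) := IsLocalization.flat _ m.primeCompl
  have hpp : p.map (algebraMap A (Localization.AtPrime p)) =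
      IsLocalRing.maximalIdeal (Localization.AtPrime p) := Localization.AtPrime.map_eq_maximalIdeal
  haveI : (p.map (algebraMap A (Localization.AtPrime p))).IsMaximal :=
    hpp ▸ IsLocalRing.maximalIdeal.isMaximal (Localization.AtPrime p)
  have hωp : Dual.IsDualizing (Localization.AtPrime p)
      ((G (A := A) (Localization.AtPrime p)).obj ω) :=
    isDualizing_G_of_isLocalization (Localization.AtPrime p) p.primeCompl ω hω
  obtain ⟨d, hv, ⟨ε⟩⟩ := DualFun.main_S0364 (Localization.AtPrime p) _ hωp
    (p.map (algebraMap A (Localization.AtPrime p)))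
  have hbω := bdd_of_isDualizing hω
  have hbG := bdd_G B ω hbω
  -- the chain of base change isomorphisms
  let e1 : ∀ j : ℤ, (Localization.AtPrime m) ⊗[B]
      (Dual.inD B (B ⧸ p.map (algebraMap A B)) ⟶ ((G (A := A) B).obj ω)⟦j⟧) ≃ₗ[Localization.AtPrime m]
      (Dual.inD (Localization.AtPrime m) (Localization.AtPrime m ⧸
          ((p.map (algebraMap A B)).map (algebraMap B (Localization.AtPrime m)))) ⟶
        ((G (A := B) (Localization.AtPrime m)).obj ((G (A := A) B).obj ω))⟦j⟧) :=
    fun j => extBCEquiv (Localization.AtPrime m) _ hbG (p.map (algebraMap A B)) j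
  let e2 : ∀ j : ℤ, (Localization.AtPrime m) ⊗[B] (B ⊗[A] (Dual.inD A (A ⧸ p) ⟶ ω⟦j⟧))
      ≃ₗ[Localization.AtPrime m] (Localization.AtPrime m) ⊗[B]
      (Dual.inD B (B ⧸ p.map (algebraMap A B)) ⟶ ((G (A := A) B).obj ω)⟦j⟧) :=
    fun j => TensorProduct.AlgebraTensorModule.congr (LinearEquiv.refl _ _)
      (extBCEquiv B ω hbω p j)
  let e3 : ∀ j : ℤ, (Localization.AtPrime m) ⊗[B] (B ⊗[A] (Dual.inD A (A ⧸ p) ⟶ ω⟦j⟧))
      ≃ₗ[Localization.AtPrime m] (Localization.AtPrime m) ⊗[A] (Dual.inD A (A ⧸ p) ⟶ ω⟦j⟧) :=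
    fun j => TensorProduct.AlgebraTensorModule.cancelBaseChange A B (Localization.AtPrime m)
      (Localization.AtPrime m) _
  let e4 : ∀ j : ℤ, (Localization.AtPrime m) ⊗[Localization.AtPrime p]
      ((Localization.AtPrime p) ⊗[A] (Dual.inD A (A ⧸ p) ⟶ ω⟦j⟧))
      ≃ₗ[Localization.AtPrime m] (Localization.AtPrime m) ⊗[A] (Dual.inD A (A ⧸ p) ⟶ ω⟦j⟧) :=
    fun j => TensorProduct.AlgebraTensorModule.cancelBaseChange A (Localization.AtPrime p)
      (Localization.AtPrime m) (Localization.AtPrime m) _
  let e5 : ∀ j : ℤ, (Localization.AtPrime m) ⊗[Localization.AtPrime p]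
      ((Localization.AtPrime p) ⊗[A] (Dual.inD A (A ⧸ p) ⟶ ω⟦j⟧))
      ≃ₗ[Localization.AtPrime m] (Localization.AtPrime m) ⊗[Localization.AtPrime p]
      (Dual.inD (Localization.AtPrime p)
        (Localization.AtPrime p ⧸ p.map (algebraMap A (Localization.AtPrime p))) ⟶
        ((G (A := A) (Localization.AtPrime p)).obj ω)⟦j⟧) :=
    fun j => TensorProduct.AlgebraTensorModule.congr (LinearEquiv.refl _ _)
      (extBCEquiv (Localization.AtPrime p) ω hbω p j)
  have hP : (p.map (algebraMap A (Localization.AtPrime p))).map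
      (algebraMap (Localization.AtPrime p) (Localization.AtPrime m)) =
      (p.map (algebraMap A B)).map (algebraMap B (Localization.AtPrime m)) := by
    rw [Ideal.map_map, Ideal.map_map, ← IsScalarTower.algebraMap_eq, ← IsScalarTower.algebraMap_eq]
  refine ⟨d, fun j hj => ?_, ⟨?_⟩⟩
  · haveI : Subsingleton (Dual.inD (Localization.AtPrime p)
        (Localization.AtPrime p ⧸ p.map (algebraMap A (Localization.AtPrime p))) ⟶
        ((G (A := A) (Localization.AtPrime p)).obj ω)⟦j⟧) := hv j hj
    exact ((e1 j).symm ≪≫ₗ (e2 j).symm ≪≫ₗ e3 j ≪≫ₗ (e4 j).symm ≪≫ₗ e5 j).toEquiv.subsingleton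
  · let e6 : (Localization.AtPrime m) ⊗[Localization.AtPrime p]
        (Dual.inD (Localization.AtPrime p)
          (Localization.AtPrime p ⧸ p.map (algebraMap A (Localization.AtPrime p))) ⟶
          ((G (A := A) (Localization.AtPrime p)).obj ω)⟦d⟧) ≃ₗ[Localization.AtPrime m]
        (Localization.AtPrime m) ⊗[Localization.AtPrime p]
          (Localization.AtPrime p ⧸ p.map (algebraMap A (Localization.AtPrime p))) :=
      TensorProduct.AlgebraTensorModule.congr (LinearEquiv.refl _ _) ε
    let e7 : (Localization.AtPrime m) ⊗[Localization.AtPrime p]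
          (Localization.AtPrime p ⧸ p.map (algebraMap A (Localization.AtPrime p)))
        ≃ₗ[Localization.AtPrime m]
        (Localization.AtPrime m ⧸ (p.map (algebraMap A (Localization.AtPrime p))).map
          (algebraMap (Localization.AtPrime p) (Localization.AtPrime m))) :=
      (Algebra.TensorProduct.quotIdealMapEquivTensorQuot (Localization.AtPrime m)
        (p.map (algebraMap A (Localization.AtPrime p)))).symm.toLinearEquiv
    exact (e1 d).symm ≪≫ₗ (e2 d).symm ≪≫ₗ e3 d ≪≫ₗ (e4 d).symm ≪≫ₗ e5 d ≪≫ₗ e6 ≪≫ₗ e7 ≪≫ₗ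
      Submodule.quotEquivOfEq _ _ hP

end Local

end Groth.Agent.Helper3.GorBC
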