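import Mathlib
import Groth.Prelude.Def_Wider
import Groth.Prelude.Def_DDual2
import Groth.Agent.Lib.Helper3.DualSupp2
import Groth.Agent.Lib.Helper3.FinAdj3

/-!
# The long exact `Ext` sequence with a linear connecting map
-/

set_option autoImplicit false
universe u
open CategoryTheory CategoryTheory.Limits DerivedCategory Pretriangulated Triangulated

attribute [local instance] HasDerivedCategory.standard

namespace Groth.Agent.Helper3.ExtConn

open Groth.Agent.Helper3.DualCx Groth.Agent.Helper3.DualSupp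

section Conn

variable {A : Type u} [CommRing A] (ω : Dual.D A) (i : ℤ)
  {N₁ N₂ N₃ : Type u} [AddCommGroup N₁] [Module A N₁] [AddCommGroup N₂]
  [Module A N₂] [AddCommGroup N₃] [Module A N₃] (f : N₁ →ₗ[A] N₂) (g : N₂ →ₗ[A] N₃)
  (hf : Function.Injective f) (hg : Function.Surjective g) (hfg : Function.Exact f g)

/-- the connecting map `Ext^i(N₁, ω) → Ext^{i+1}(N₃, ω)` of a short exact sequence -/
noncomputable def conn : (Dual.inD A N₁ ⟶ ω⟦i⟧) →ₗ[A] (Dual.inD A N₃ ⟶ ω⟦i + 1⟧) :=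
  (Linear.leftComp A (ω⟦i + 1⟧) (shortExact_of_exact f g hf hg hfg).singleTriangle.mor₃).comp
    (shiftOneLinEquiv (Dual.inD A N₁) ω i).toLinearMap

lemma conn_apply (φ : Dual.inD A N₁ ⟶ ω⟦i⟧) :
    conn ω i f g hf hg hfg φ = (shortExact_of_exact f g hf hg hfg).singleTriangle.mor₃ ≫
      shiftOneLinEquiv (Dual.inD A N₁) ω i φ := rfl

lemma shiftOneLinEquiv_apply (X Y : Dual.D A) (φ : X ⟶ Y⟦i⟧) :
    shiftOneLinEquiv X Y i φ = φ⟦(1 : ℤ)⟧' ≫
      ((shiftFunctorAdd' (Dual.D A) i 1 (i + 1) rfl).app Y).inv := rfl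

lemma exact_conn_extMap :
    Function.Exact (conn ω i f g hf hg hfg) (extMap (ω⟦i + 1⟧) g) := by
  have hS := shortExact_of_exact f g hf hg hfg
  have hT := hS.singleTriangle_distinguished
  intro φ
  constructor
  · intro h0
    obtain ⟨ψ, hψ⟩ := Triangle.yoneda_exact₃ _ hT φ h0
    obtain ⟨ψ', rfl⟩ := (shiftOneLinEquiv (Dual.inD A N₁) ω i).surjective ψ
    exact ⟨ψ', hψ.symm⟩
  · rintro ⟨ψ, rfl⟩
    rw [conn_apply]
    simp only [extMap_apply]
    have h1 := comp_distTriang_mor_zero₂₃ _ hT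
    exact (Category.assoc _ _ _).symm.trans ((congrArg (· ≫ _) h1).trans zero_comp)

omit [CommRing A] in
lemma exists_of_mor₃_comp_eq_zero {C : Type*} [Category C] [Preadditive C] [HasZeroObject C]
    [HasShift C ℤ] [∀ n : ℤ, (shiftFunctor C n).Additive] [Pretriangulated C]
    (T : Triangle C) (hT : T ∈ distTriang C) {Y : C} (ψ : T.obj₁⟦(1 : ℤ)⟧ ⟶ Y)
    (h : T.mor₃ ≫ ψ = 0) : ∃ χ : T.obj₂⟦(1 : ℤ)⟧ ⟶ Y, ψ = T.mor₁⟦(1 : ℤ)⟧' ≫ χ := by
  have hT' := rot_of_distTriang _ hT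
  obtain ⟨χ, hχ⟩ : ∃ χ : T.obj₂⟦(1 : ℤ)⟧ ⟶ Y, ψ = (-T.mor₁⟦(1 : ℤ)⟧') ≫ χ :=
    Triangle.yoneda_exact₃ _ hT' ψ h
  refine ⟨-χ, ?_⟩
  rw [hχ, Preadditive.neg_comp, Preadditive.comp_neg]

lemma exact_extMap_conn :
    Function.Exact (extMap (ω⟦i⟧) f) (conn ω i f g hf hg hfg) := by
  have hS := shortExact_of_exact f g hf hg hfg
  have hT := hS.singleTriangle_distinguished
  intro φ
  constructor
  · intro h0
    rw [conn_apply] at h0
    obtain ⟨χ, hχ⟩ := exists_of_mor₃_comp_eq_zero _ hT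
      (shiftOneLinEquiv (Dual.inD A N₁) ω i φ) h0
    obtain ⟨φ', hφ'⟩ := (shiftOneLinEquiv (Dual.inD A N₂) ω i).surjective χ
    refine ⟨φ', ?_⟩
    apply (shiftOneLinEquiv (Dual.inD A N₁) ω i).injective
    rw [hχ, ← hφ', extMap_apply, shiftOneLinEquiv_apply, shiftOneLinEquiv_apply,
      Functor.map_comp, Category.assoc]
    rfl
  · rintro ⟨ψ, rfl⟩
    rw [conn_apply, extMap_apply, shiftOneLinEquiv_apply, Functor.map_comp, Category.assoc]
    have h1 := comp_distTriang_mor_zero₃₁ _ hT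
    exact (Category.assoc _ _ _).symm.trans ((congrArg (· ≫ _) h1).trans zero_comp)

end Conn

end Groth.Agent.Helper3.ExtConn
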