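import Mathlib
import Groth.Prelude.Def_Wider
import Groth.Prelude.Def_DDual2
import Groth.Agent.Lib.Helper3.ExtConn
import Groth.Agent.Lib.Helper3.BCPoly

/-!
# `Ext` into a complex: cutting down by a regular element
-/

set_option autoImplicit false
universe u
open CategoryTheory CategoryTheory.Limits DerivedCategory Pretriangulated Triangulated

attribute [local instance] HasDerivedCategory.standard

namespace Groth.Agent.Helper3.GorFib

open Groth.Agent.Helper3.DualCx Groth.Agent.Helper3.DualSupp Groth.Agent.Helper3.ExtConn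
  Groth.Agent.Helper3.BCPoly

section RegStep

variable {C : Type u} [CommRing C] (X : Dual.D C) {M M' : Type u} [AddCommGroup M] [Module C M]
  [AddCommGroup M'] [Module C M'] (y : C) (g : M →ₗ[C] M')
  (hreg : IsSMulRegular M y) (hg : Function.Surjective g)
  (hfg : Function.Exact (LinearMap.lsmul C M y) g) (d : ℤ)
  (hvan : ∀ i : ℤ, i ≠ d → Van X i M) (ε : (Dual.inD C M ⟶ X⟦d⟧) ≃ₗ[C] M)

include hreg hg hfg hvan ε in
/-- vanishing after cutting down by a regular element -/
theorem van_reg_step (i : ℤ) (hi : i ≠ d + 1) : Van X i M' := by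
  have hf : Function.Injective (LinearMap.lsmul C M y) := hreg
  by_cases hid : i = d
  · subst hid
    -- `Ext^i(M') → Ext^i(M)` is injective and lands in the kernel of multiplication by `y`
    have hinj : Function.Injective (extMap (X⟦i⟧) g) :=
      FinAdj.extMap_injective X (LinearMap.lsmul C M y) g hf hg hfg i (hvan (i - 1) (by omega))
    have hex := exact_extMap (X⟦i⟧) (LinearMap.lsmul C M y) g hf hg hfg
    have key : ∀ φ : Dual.inD C M' ⟶ X⟦i⟧, φ = 0 := by
      intro φ
      apply hinj
      rw [map_zero]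
      have h1 : extMap (X⟦i⟧) (LinearMap.lsmul C M y) (extMap (X⟦i⟧) g φ) = 0 :=
        hex.apply_apply_eq_zero φ
      rw [extMap_lsmul] at h1
      have h2 : y • ε (extMap (X⟦i⟧) g φ) = 0 := by rw [← map_smul, h1, map_zero]
      have h3 : ε (extMap (X⟦i⟧) g φ) = 0 := hreg (by
        show y • _ = y • (0 : M)
        rw [h2, smul_zero])
      exact ε.injective (by rw [h3, map_zero])
    exact ⟨fun φ ψ => by rw [key φ, key ψ]⟩
  · have h1 : Van X (i - 1) M := hvan (i - 1) (by omega)
    have h2 : Van X (i - 1 + 1) M := hvan _ (by omega)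
    have := van_X₃ X (i - 1) (LinearMap.lsmul C M y) g hf hg hfg h1 h2
    rwa [show i - 1 + 1 = i by omega] at this

include hreg hg hfg hvan ε in
/-- the top `Ext` after cutting down by a regular element -/
theorem equiv_reg_step : Nonempty ((Dual.inD C M' ⟶ X⟦d + 1⟧) ≃ₗ[C] M') := by
  have hf : Function.Injective (LinearMap.lsmul C M y) := hreg
  let δ := conn X d (LinearMap.lsmul C M y) g hf hg hfg
  have hδsurj : Function.Surjective δ := by
    intro φ
    have hex := exact_conn_extMap X d (LinearMap.lsmul C M y) g hf hg hfg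
    have : extMap (X⟦d + 1⟧) g φ = 0 := (hvan (d + 1) (by omega)).elim _ _
    exact (hex φ).1 this
  let Φ : (Dual.inD C M ⟶ X⟦d⟧) →ₗ[C] M' := g.comp ε.toLinearMap
  have hΦsurj : Function.Surjective Φ := hg.comp ε.surjective
  have hker : LinearMap.ker δ = LinearMap.ker Φ := by
    have hex := exact_extMap_conn X d (LinearMap.lsmul C M y) g hf hg hfg
    ext φ
    rw [LinearMap.mem_ker, LinearMap.mem_ker, hex φ]
    show _ ↔ g (ε φ) = 0
    rw [hfg (ε φ)]
    constructor
    · rintro ⟨ψ, rfl⟩
      refine ⟨ε ψ, ?_⟩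
      rw [extMap_lsmul, map_smul]
      rfl
    · rintro ⟨m, hm⟩
      refine ⟨ε.symm m, ?_⟩
      rw [extMap_lsmul]
      apply ε.injective
      rw [map_smul, LinearEquiv.apply_symm_apply, ← hm]
      rfl
  exact ⟨(δ.quotKerEquivOfSurjective hδsurj).symm ≪≫ₗ Submodule.quotEquivOfEq _ _ hker ≪≫ₗ
    Φ.quotKerEquivOfSurjective hΦsurj⟩

end RegStep

end Groth.Agent.Helper3.GorFib
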