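import Mathlib
import Groth.Prelude.Def_Wider
import Groth.Prelude.Def_DDual2
import Groth.Agent.Lib.Helper3.GorFib1
import Groth.Agent.Lib.Helper8.GorArt1

/-!
# `Ext` of the residue field from `Ext` of a finite length module with simple socle
-/

set_option autoImplicit false
universe u
open CategoryTheory CategoryTheory.Limits DerivedCategory Pretriangulated Triangulated

attribute [local instance] HasDerivedCategory.standard

namespace Groth.Agent.Helper3.GorFib

open Groth.Agent.Helper3.DualCx Groth.Agent.Helper3.DualSupp Groth.Agent.Helper3.ExtConn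
  Groth.Agent.Helper3.BCPoly Groth.Agent.Helper8.GorArt

section Gen

variable {C : Type u} [CommRing C] (X : Dual.D C)

/-- no `Ext` below the lowest cohomological degree -/
lemma van_of_isGE (a : ℤ) [X.IsGE a] (N : Type u) [AddCommGroup N] [Module C N] (i : ℤ)
    (hi : i < a) : Van X i N := by
  let t : TStructure (Dual.D C) := TStructure.t
  haveI hRt : t.IsGE X a := ‹X.IsGE a›
  haveI h3ge' : t.IsGE (X⟦i⟧) (a - i) := t.isGE_shift _ a i (a - i) (by omega)
  haveI h3ge : t.IsGE (X⟦i⟧) 1 := t.isGE_of_ge _ 1 (a - i) (by omega)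
  haveI hMle : t.IsLE (Dual.inD C N) 0 := inferInstanceAs ((Dual.inD C N).IsLE 0)
  exact ⟨fun f g => by
    rw [t.zero_of_isLE_of_isGE f 0 1 (by omega) hMle h3ge,
      t.zero_of_isLE_of_isGE g 0 1 (by omega) hMle h3ge]⟩

omit [CommRing C] in
/-- length along an exact sequence -/
lemma length_le_of_exact {R : Type*} [Ring R] {M₁ M₂ M₃ : Type*} [AddCommGroup M₁] [Module R M₁]
    [AddCommGroup M₂] [Module R M₂] [AddCommGroup M₃] [Module R M₃] (u : M₁ →ₗ[R] M₂)
    (v : M₂ →ₗ[R] M₃) (h : Function.Exact u v) :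
    Module.length R M₂ ≤ Module.length R M₁ + Module.length R M₃ := by
  have h1 := Module.length_eq_add_of_exact (LinearMap.ker v).subtype v.rangeRestrict
    (Submodule.subtype_injective _) v.surjective_rangeRestrict (by
      intro x
      rw [Set.mem_range]
      constructor
      · intro hx
        refine ⟨⟨x, ?_⟩, rfl⟩
        rw [LinearMap.mem_ker]
        have := congrArg Subtype.val hx
        simpa using this
      · rintro ⟨⟨x, hx⟩, rfl⟩
        ext
        simpa using hx)
  rw [h1]
  have h2 : Module.length R (LinearMap.ker v) ≤ Module.length R M₁ := by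
    rw [(LinearMap.exact_iff.1 h)]
    exact Module.length_le_of_surjective u.rangeRestrict u.surjective_rangeRestrict
  have h3 : Module.length R (LinearMap.range v) ≤ Module.length R M₃ :=
    Module.length_le_of_injective (LinearMap.range v).subtype (Submodule.subtype_injective _)
  exact add_le_add h2 h3

end Gen

section Local

variable {C : Type u} [CommRing C] [IsLocalRing C] (X : Dual.D C)

/-- a simple module over a local ring is the residue field -/
lemma nonempty_equiv_residue (N : Type*) [AddCommGroup N] [Module C N] [IsSimpleModule C N] :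
    Nonempty (N ≃ₗ[C] C ⧸ IsLocalRing.maximalIdeal C) := by
  obtain ⟨I, hI, ⟨e⟩⟩ := isSimpleModule_iff_quot_maximal.1 (inferInstance : IsSimpleModule C N)
  have : I = IsLocalRing.maximalIdeal C := IsLocalRing.eq_maximalIdeal hI
  subst this
  exact ⟨e⟩

/-- dévissage: vanishing of `Ext^i(κ, X)` gives vanishing for all modules of finite length -/
theorem van_of_isFiniteLength (i : ℤ) (h : Van X i (C ⧸ IsLocalRing.maximalIdeal C))
    (N : Type u) [AddCommGroup N] [Module C N] (hN : IsFiniteLength C N) : Van X i N := by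
  induction hN with
  | @of_subsingleton N _ _ _ => exact van_of_subsingleton X i N
  | @of_simple_quotient N _ _ N' _ hN' ih =>
    obtain ⟨e⟩ := nonempty_equiv_residue (C := C) (N ⧸ N')
    exact van_of_exact X i N'.subtype N'.mkQ (Submodule.injective_subtype N')
      N'.mkQ_surjective (LinearMap.exact_subtype_mkQ N') ih (van_of_equiv X i e.symm h)

end Local

section Art

variable {C : Type u} [CommRing C] [IsLocalRing C] (X : Dual.D C) (a : ℤ) [X.IsGE a]
  {F : Type u} [AddCommGroup F] [Module C F] (hF : IsFiniteLength C F)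
  (π : F →ₗ[C] C ⧸ IsLocalRing.maximalIdeal C) (hπ : Function.Surjective π)
  (hsoc : Module.length C (Soc C F) ≤ 1)
  (d : ℤ) (hvan : ∀ i : ℤ, i ≠ d → Van X i F) (ε : (Dual.inD C F ⟶ X⟦d⟧) ≃ₗ[C] F)

include hF in
lemma isFiniteLength_ker : IsFiniteLength C (LinearMap.ker π) :=
  hF.of_injective (f := (LinearMap.ker π).subtype) (Submodule.subtype_injective _)

include hF hπ hvan in
lemma van_lt_aux (k : ℕ) : ∀ i : ℤ, i < d → i < a + k →
    Van X i (C ⧸ IsLocalRing.maximalIdeal C) := by
  induction k with
  | zero =>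
    intro i _ hik
    exact van_of_isGE X a _ i (by simpa using hik)
  | succ k ih =>
    intro i hid hik
    by_cases h : i < a + k
    · exact ih i hid h
    · have hprev : Van X (i - 1) (LinearMap.ker π) :=
        van_of_isFiniteLength X (i - 1) (ih (i - 1) (by omega) (by push_cast at hik; omega)) _
          (isFiniteLength_ker hF π)
      have hinj := FinAdj.extMap_injective X (LinearMap.ker π).subtype π
        (Submodule.subtype_injective _) hπ (LinearMap.exact_subtype_ker_map π) i hprev
      exact ⟨fun φ ψ => hinj ((hvan i (ne_of_lt hid)).elim _ _)⟩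

include a hF hπ hvan in
lemma van_below (i : ℤ) (hi : i < d) : Van X i (C ⧸ IsLocalRing.maximalIdeal C) := by
  have h1 := Int.self_le_toNat (i - a + 1)
  exact van_lt_aux X a hF π hπ d hvan (i - a + 1).toNat i hi (by omega)

include a hF hπ hsoc hvan ε in
/-- `Ext^d(κ, X)` has length at most one -/
lemma length_ext_residue_le : Module.length C
    (Dual.inD C (C ⧸ IsLocalRing.maximalIdeal C) ⟶ X⟦d⟧) ≤ 1 := by
  have hprev : Van X (d - 1) (LinearMap.ker π) :=
    van_of_isFiniteLength X (d - 1) (van_below X a hF π hπ d hvan (d - 1) (by omega)) _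
      (isFiniteLength_ker hF π)
  have hinj := FinAdj.extMap_injective X (LinearMap.ker π).subtype π
    (Submodule.subtype_injective _) hπ (LinearMap.exact_subtype_ker_map π) d hprev
  let j : (Dual.inD C (C ⧸ IsLocalRing.maximalIdeal C) ⟶ X⟦d⟧) →ₗ[C] Soc C F :=
    LinearMap.codRestrict (Soc C F) (ε.toLinearMap ∘ₗ extMap (X⟦d⟧) π) (fun φ => by
      intro r hr
      show r • ε (extMap (X⟦d⟧) π φ) = 0
      rw [← map_smul, ← map_smul]
      have h3 := annihilator_le_annihilator_ext (X⟦d⟧) (C ⧸ IsLocalRing.maximalIdeal C)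
      rw [Ideal.annihilator_quotient] at h3
      rw [Module.mem_annihilator.1 (h3 hr) φ, map_zero, map_zero])
  have hj : Function.Injective j := by
    intro φ ψ h
    have h1 := congrArg Subtype.val h
    exact hinj (ε.injective h1)
  exact (Module.length_le_of_injective j hj).trans hsoc

include a hF hπ hsoc hvan ε in
/-- `Ext^d(-, X)` does not increase the length -/
lemma length_ext_le (N : Type u) [AddCommGroup N] [Module C N] (hN : IsFiniteLength C N) :
    Module.length C (Dual.inD C N ⟶ X⟦d⟧) ≤ Module.length C N := by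
  induction hN with
  | @of_subsingleton N _ _ _ =>
    haveI : Subsingleton (Dual.inD C N ⟶ X⟦d⟧) := van_of_subsingleton X d N
    rw [Module.length_eq_zero]
    exact bot_le
  | @of_simple_quotient N _ _ N' _ hN' ih =>
    obtain ⟨e⟩ := nonempty_equiv_residue (C := C) (N ⧸ N')
    let e1 : (Dual.inD C (N ⧸ N') ⟶ X⟦d⟧) ≃ₗ[C]
        (Dual.inD C (C ⧸ IsLocalRing.maximalIdeal C) ⟶ X⟦d⟧) :=
      Linear.homCongr C
        ((DerivedCategory.singleFunctor (ModuleCat.{u} C) 0).mapIso e.toModuleIso) (Iso.refl _)
    have h1 : Module.length C (Dual.inD C (N ⧸ N') ⟶ X⟦d⟧) ≤ Module.length C (N ⧸ N') := by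
      rw [e1.length_eq, Module.length_eq_one C (N ⧸ N')]
      exact length_ext_residue_le X a hF π hπ hsoc d hvan ε
    have h2 := length_le_of_exact (extMap (X⟦d⟧) N'.mkQ) (extMap (X⟦d⟧) N'.subtype)
      (exact_extMap _ _ _ (Submodule.injective_subtype N') N'.mkQ_surjective
        (LinearMap.exact_subtype_mkQ N'))
    rw [Module.length_eq_add_of_exact N'.subtype N'.mkQ (Submodule.injective_subtype N')
      N'.mkQ_surjective (LinearMap.exact_subtype_mkQ N'), add_comm]
    exact h2.trans (add_le_add h1 ih)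

include a hF hπ hsoc hvan ε in
/-- the key counting step: `Ext^d(κ, X)` is simple and `Ext^d(F, X) → Ext^d(ker π, X)` is onto -/
lemma counting : Module.length C (Dual.inD C (C ⧸ IsLocalRing.maximalIdeal C) ⟶ X⟦d⟧) = 1 ∧
    Function.Surjective (extMap (X⟦d⟧) (LinearMap.ker π).subtype) := by
  have hK := isFiniteLength_ker hF π
  have hι := Submodule.subtype_injective (LinearMap.ker π)
  have hex := LinearMap.exact_subtype_ker_map π
  have hprev : Van X (d - 1) (LinearMap.ker π) :=
    van_of_isFiniteLength X (d - 1) (van_below X a hF π hπ d hvan (d - 1) (by omega)) _ hK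
  have hinj := FinAdj.extMap_injective X (LinearMap.ker π).subtype π hι hπ hex d hprev
  set u := extMap (X⟦d⟧) π with hu
  set v := extMap (X⟦d⟧) (LinearMap.ker π).subtype with hv
  have huv : Function.Exact u v := exact_extMap (X⟦d⟧) _ _ hι hπ hex
  have huv' : Function.Exact u v.rangeRestrict := by
    rw [LinearMap.exact_iff, LinearMap.ker_rangeRestrict]
    exact LinearMap.exact_iff.1 huv
  have h1 := Module.length_eq_add_of_exact u v.rangeRestrict hinj v.surjective_rangeRestrict huv'
  have h2 : Module.length C F = Module.length C (LinearMap.ker π) + 1 := by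
    rw [Module.length_eq_add_of_exact _ π hι hπ hex,
      Module.length_eq_one C (C ⧸ IsLocalRing.maximalIdeal C)]
  have h3 : Module.length C (Dual.inD C F ⟶ X⟦d⟧) = Module.length C F := ε.length_eq
  have h4 := length_ext_residue_le X a hF π hπ hsoc d hvan ε
  have h5 : Module.length C (LinearMap.range v) ≤
      Module.length C (Dual.inD C (LinearMap.ker π) ⟶ X⟦d⟧) :=
    Module.length_le_of_injective (LinearMap.range v).subtype (Submodule.subtype_injective _)
  have h6 := length_ext_le X a hF π hπ hsoc d hvan ε (LinearMap.ker π) hK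
  have hKtop : Module.length C (LinearMap.ker π) ≠ ⊤ := Module.length_ne_top_iff.2 hK
  rw [h3, h2] at h1
  -- pass to natural numbers
  obtain ⟨k, hk⟩ := ENat.ne_top_iff_exists.1 hKtop
  have htop6 : Module.length C (Dual.inD C (LinearMap.ker π) ⟶ X⟦d⟧) ≠ ⊤ :=
    ne_top_of_le_ne_top hKtop h6
  obtain ⟨t, ht⟩ := ENat.ne_top_iff_exists.1 htop6
  obtain ⟨r, hr⟩ := ENat.ne_top_iff_exists.1 (ne_top_of_le_ne_top htop6 h5)
  obtain ⟨x, hx⟩ := ENat.ne_top_iff_exists.1
    (ne_top_of_le_ne_top ENat.one_ne_top h4)
  rw [← hk, ← hr, ← hx] at h1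
  rw [← hx] at h4
  rw [← hr, ← ht] at h5
  rw [← ht, ← hk] at h6
  have h1' : k + 1 = x + r := by exact_mod_cast h1
  have h4' : x ≤ 1 := by exact_mod_cast h4
  have h5' : r ≤ t := by exact_mod_cast h5
  have h6' : t ≤ k := by exact_mod_cast h6
  have hx1 : x = 1 := by omega
  have hrt : r = t := by omega
  refine ⟨by rw [← hx, hx1]; rfl, ?_⟩
  have hfl : IsFiniteLength C (Dual.inD C (LinearMap.ker π) ⟶ X⟦d⟧) :=
    Module.length_ne_top_iff.1 htop6
  obtain ⟨_, _⟩ := isFiniteLength_iff_isNoetherian_isArtinian.1 hfl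
  have hrange : LinearMap.range v = ⊤ := by
    by_contra hne
    have := Submodule.length_lt hne
    rw [← hr, ← ht, hrt] at this
    exact lt_irrefl _ this
  exact LinearMap.range_eq_top.1 hrange

include a hF hπ hsoc hvan ε in
lemma van_succ : Van X (d + 1) (C ⧸ IsLocalRing.maximalIdeal C) := by
  have hι := Submodule.subtype_injective (LinearMap.ker π)
  have hex := LinearMap.exact_subtype_ker_map π
  obtain ⟨-, hsurj⟩ := counting X a hF π hπ hsoc d hvan ε
  have key : ∀ ψ : Dual.inD C (C ⧸ IsLocalRing.maximalIdeal C) ⟶ X⟦d + 1⟧, ψ = 0 := by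
    intro ψ
    have h0 : extMap (X⟦d + 1⟧) π ψ = 0 := (hvan (d + 1) (by omega)).elim _ _
    obtain ⟨χ, rfl⟩ := (exact_conn_extMap X d _ π hι hπ hex ψ).1 h0
    obtain ⟨χ', rfl⟩ := hsurj χ
    exact (exact_extMap_conn X d _ π hι hπ hex).apply_apply_eq_zero χ'
  exact ⟨fun φ ψ => by rw [key φ, key ψ]⟩

include a hF hπ hsoc hvan ε in
lemma van_gt_aux (k : ℕ) : ∀ j : ℤ, d ≤ j → j ≤ d + k →
    Van X (j + 1) (C ⧸ IsLocalRing.maximalIdeal C) := by
  induction k with
  | zero =>
    intro j h1 h2
    have : j = d := by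
      simp only [Nat.cast_zero, add_zero] at h2
      exact le_antisymm h2 h1
    subst this
    exact van_succ X a hF π hπ hsoc j hvan ε
  | succ k ih =>
    intro j h1 h2
    by_cases h : j ≤ d + k
    · exact ih j h1 h
    · have hj : Van X j (C ⧸ IsLocalRing.maximalIdeal C) := by
        have := ih (j - 1) (by omega) (by push_cast at h2; omega)
        rwa [show j - 1 + 1 = j by omega] at this
      have hprev : Van X j (LinearMap.ker π) :=
        van_of_isFiniteLength X j hj _ (isFiniteLength_ker hF π)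
      have hι := Submodule.subtype_injective (LinearMap.ker π)
      have hex := LinearMap.exact_subtype_ker_map π
      have key : ∀ ψ : Dual.inD C (C ⧸ IsLocalRing.maximalIdeal C) ⟶ X⟦j + 1⟧, ψ = 0 := by
        intro ψ
        have h0 : extMap (X⟦j + 1⟧) π ψ = 0 := (hvan (j + 1) (by omega)).elim _ _
        obtain ⟨χ, rfl⟩ := (exact_conn_extMap X j _ π hι hπ hex ψ).1 h0
        rw [hprev.elim χ 0, map_zero]
      exact ⟨fun φ ψ => by rw [key φ, key ψ]⟩

include a hF hπ hsoc hvan ε in
/-- **the Artinian case**: if `F` is a cyclic module of finite length with simple socle,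
`Ext^i(F, X) = 0` for `i ≠ d` and `Ext^d(F, X) ≃ F`, then the same holds for the residue field -/
theorem residue_of_finiteLength :
    (∀ i : ℤ, i ≠ d → Van X i (C ⧸ IsLocalRing.maximalIdeal C)) ∧
      Nonempty ((Dual.inD C (C ⧸ IsLocalRing.maximalIdeal C) ⟶ X⟦d⟧) ≃ₗ[C]
        C ⧸ IsLocalRing.maximalIdeal C) := by
  refine ⟨fun i hi => ?_, ?_⟩
  · rcases lt_or_gt_of_ne hi with h | h
    · exact van_below X a hF π hπ d hvan i h
    · have h1 := Int.self_le_toNat (i - 1 - d)
      have := van_gt_aux X a hF π hπ hsoc d hvan ε (i - 1 - d).toNat (i - 1) (by omega) (by omega)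
      rwa [show i - 1 + 1 = i by omega] at this
  · obtain ⟨h1, -⟩ := counting X a hF π hπ hsoc d hvan ε
    haveI : IsSimpleModule C (Dual.inD C (C ⧸ IsLocalRing.maximalIdeal C) ⟶ X⟦d⟧) :=
      Module.length_eq_one_iff.1 h1
    exact nonempty_equiv_residue (C := C) _

end Art

end Groth.Agent.Helper3.GorFib
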