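import Mathlib
import Groth.Prelude.Def_Wider
import Groth.Prelude.Def_DDual2
import Groth.Agent.Lib.Helper3.GorFib2
import Groth.Agent.Lib.Helper8.GorFlat10

/-!
# `Ext` of the residue field from `Ext` of a Gorenstein quotient
-/

set_option autoImplicit false
universe u
open CategoryTheory CategoryTheory.Limits DerivedCategory Pretriangulated Triangulated

attribute [local instance] HasDerivedCategory.standard

namespace Groth.Agent.Helper3.GorFib

open Groth.Agent.Helper3.DualCx Groth.Agent.Helper3.DualSupp Groth.Agent.Helper3.ExtConn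
  Groth.Agent.Helper3.BCPoly Groth.Agent.Helper8.GorArt Groth.Agent.Helper8.GorFlat LocCoh

section Quot

variable {C : Type u} [CommRing C] [IsLocalRing C] {F : Type u} [CommRing F] [IsLocalRing F]
  [Algebra C F]

/-- the residue field of `C` as a quotient of a local quotient ring `F` of `C` -/
lemma exists_surjective_residue (hsurj : Function.Surjective (algebraMap C F)) :
    ∃ π : F →ₗ[C] C ⧸ IsLocalRing.maximalIdeal C, Function.Surjective π := by
  let q : C →ₗ[C] F := Algebra.linearMap C F
  have hq : Function.Surjective q := hsurj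
  have hle : LinearMap.ker q ≤ LinearMap.ker (Submodule.mkQ (IsLocalRing.maximalIdeal C)) := by
    intro x hx
    rw [LinearMap.mem_ker] at hx
    rw [Submodule.ker_mkQ]
    by_contra hu
    have hunit : IsUnit x := by
      by_contra h'
      exact hu ((IsLocalRing.mem_maximalIdeal x).2 h')
    have h1 : IsUnit (algebraMap C F x) := hunit.map (algebraMap C F)
    have h2 : algebraMap C F x = 0 := hx
    rw [h2] at h1
    exact not_isUnit_zero h1
  refine ⟨(Submodule.liftQ (LinearMap.ker q) (Submodule.mkQ (IsLocalRing.maximalIdeal C)) hle) ∘ₗ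
    (q.quotKerEquivOfSurjective hq).symm.toLinearMap, ?_⟩
  rw [LinearMap.coe_comp]
  refine Function.Surjective.comp ?_ (LinearEquiv.surjective _)
  rw [← LinearMap.range_eq_top, Submodule.range_liftQ, LinearMap.range_eq_top]
  exact Submodule.mkQ_surjective _

end Quot

section Main

variable {C : Type u} [CommRing C] [IsLocalRing C] [IsNoetherianRing C] (X : Dual.D C) (a : ℤ)
  [X.IsGE a]

include a in
/-- **the Gorenstein fibre lemma**: if `F` is a Gorenstein local quotient of `C` of dimension `n`
with `Ext^i(F, X) = 0` for `i ≠ d` and `Ext^d(F, X) ≃ F`, then `Ext^i(κ, X) = 0` for `i ≠ d + n`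
and `Ext^{d+n}(κ, X) ≃ κ` -/
theorem residue_of_gorenstein (n : ℕ) : ∀ (F : Type u) [CommRing F] [IsLocalRing F]
    [IsNoetherianRing F] [Algebra C F] (_ : Function.Surjective (algebraMap C F))
    (_ : NumCM F n) (_ : IsGorensteinLocalRing F) (d : ℤ)
    (_ : ∀ i : ℤ, i ≠ d → Van X i F) (_ : Nonempty ((Dual.inD C F ⟶ X⟦d⟧) ≃ₗ[C] F)),
    (∀ i : ℤ, i ≠ d + n → Van X i (C ⧸ IsLocalRing.maximalIdeal C)) ∧
      Nonempty ((Dual.inD C (C ⧸ IsLocalRing.maximalIdeal C) ⟶ X⟦d + n⟧) ≃ₗ[C]
        C ⧸ IsLocalRing.maximalIdeal C) := by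
  induction n with
  | zero =>
    intro F _ _ _ _ hsurj hCM hG d hvan ⟨ε⟩
    haveI := isArtinianRing_of_numCM_zero F hCM
    have hF : IsFiniteLength C F := by
      rw [← Module.length_ne_top_iff, Module.length_eq_of_surjective (R := F) hsurj]
      exact Module.length_ne_top
    obtain ⟨π, hπ⟩ := exists_surjective_residue (C := C) (F := F) hsurj
    have hsoc : Module.length C (Soc C F) ≤ 1 := by
      rw [length_soc_of_surjective hsurj F]
      exact (isGorensteinLocalRing_iff_length_soc_le_one F).1 hG
    have := residue_of_finiteLength X a hF π hπ hsoc d hvan ε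
    have hcast : d + ((0 : ℕ) : ℤ) = d := by simp
    rwa [hcast]
  | succ n ih =>
    intro F _ _ _ _ hsurj hCM hG d hvan ⟨ε⟩
    obtain ⟨y', hym, hyreg⟩ := exists_regular_of_numCM F hCM
    obtain ⟨y, rfl⟩ := hsurj y'
    haveI := isLocalRing_quot _ (span_singleton_le_maximalIdeal hym)
    have hCM' := numCM_quot F hCM _ hym hyreg
    have hG' := (Groth.Agent.Helper8.LD.isGorensteinLocalRing_iff_quotient F _ hym hyreg).1 hG
    have hsurj' : Function.Surjective
        (algebraMap C (F ⧸ Ideal.span {algebraMap C F y})) := by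
      intro z
      obtain ⟨z, rfl⟩ := Ideal.Quotient.mk_surjective z
      obtain ⟨c, rfl⟩ := hsurj z
      exact ⟨c, rfl⟩
    let g : F →ₗ[C] (F ⧸ Ideal.span {algebraMap C F y}) :=
      (Ideal.Quotient.mkₐ C (Ideal.span {algebraMap C F y})).toLinearMap
    have hg : Function.Surjective g := Ideal.Quotient.mk_surjective
    have hreg : IsSMulRegular F y := by
      intro x x' h
      apply hyreg
      show algebraMap C F y • x = algebraMap C F y • x'
      rw [algebraMap_smul, algebraMap_smul]
      exact h
    have hfg : Function.Exact (LinearMap.lsmul C F y) g := by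
      intro x
      show Ideal.Quotient.mk _ x = 0 ↔ _
      rw [Ideal.Quotient.eq_zero_iff_mem, Ideal.mem_span_singleton']
      constructor
      · rintro ⟨z, rfl⟩
        exact ⟨z, by rw [LinearMap.lsmul_apply, Algebra.smul_def, mul_comm]⟩
      · rintro ⟨z, rfl⟩
        exact ⟨z, by rw [LinearMap.lsmul_apply, Algebra.smul_def, mul_comm]⟩
    have hvan' : ∀ i : ℤ, i ≠ d + 1 → Van X i (F ⧸ Ideal.span {algebraMap C F y}) :=
      fun i hi => van_reg_step X y g hreg hg hfg d hvan ε i hi
    have hε' := equiv_reg_step X y g hreg hg hfg d hvan ε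
    have := ih (F ⧸ Ideal.span {algebraMap C F y}) hsurj' hCM' hG' (d + 1) hvan' hε'
    have hcast : d + 1 + (n : ℤ) = d + ((n + 1 : ℕ) : ℤ) := by push_cast; ring
    rwa [hcast] at this

end Main

end Groth.Agent.Helper3.GorFib
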