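import Mathlib
import Groth.Prelude.Def_Wider
import Groth.Prelude.Def_DDual2
import Groth.Agent.Lib.Helper3.GorBC1
import Groth.Agent.Lib.Helper3.GorFib3

/-!
# Flat base change of a dualizing complex along a map with Gorenstein fibres
-/

set_option autoImplicit false
universe u
open CategoryTheory CategoryTheory.Limits DerivedCategory Pretriangulated Triangulated TensorProduct

attribute [local instance] HasDerivedCategory.standard

namespace Groth.Agent.Helper3.GorBC

open Groth.Agent.Helper3.BCAbs Groth.Agent.Helper3.BCDer Groth.Agent.Helper3.BCDual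
  Groth.Agent.Helper3.BCDesc Groth.Agent.Helper5.FlatBC Groth.Agent.Helper3.DualCx
  Groth.Agent.Helper3.BassLem Groth.Agent.Helper3.BCFlat Groth.Agent.Helper3.Crit
  Groth.Agent.Helper3.FinAdj Groth.Agent.Helper3.GorFib Groth.Agent.Helper8.GorFlat LocCoh

section Local

variable {A : Type u} [CommRing A] [IsNoetherianRing A] (B : Type u) [CommRing B] [Algebra A B]
  [Module.Flat A B] [IsNoetherianRing B]

/-- the local statement: the residue field computation for `(ω ⊗ B)_m` -/
theorem exists_ext_residue (ω : Dual.D A) (hω : Dual.IsDualizing A ω) (a b : ℤ) [ω.IsGE a]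
    (hb : ∀ (N : Type u) [AddCommGroup N] [Module A N] (i : ℤ), b < i →
      Subsingleton (Dual.inD A N ⟶ ω⟦i⟧))
    (m : Ideal B) [m.IsPrime]
    (hG : IsGorensteinLocalRing (EGA4.FibLocRing A B m)) (E : ℕ)
    (hE : ringKrullDim (Localization.AtPrime m) ≤ E) :
    ∃ e : ℤ, e ≤ b + E ∧
      (∀ j : ℤ, j ≠ e → Van ((G (A := B) (Localization.AtPrime m)).obj ((G (A := A) B).obj ω)) j
        (Localization.AtPrime m ⧸ IsLocalRing.maximalIdeal (Localization.AtPrime m))) ∧
      Nonempty ((Dual.inD (Localization.AtPrime m)
          (Localization.AtPrime m ⧸ IsLocalRing.maximalIdeal (Localization.AtPrime m)) ⟶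
          ((G (A := B) (Localization.AtPrime m)).obj
            ((G (A := A) B).obj ω))⟦e⟧) ≃ₗ[Localization.AtPrime m]
        (Localization.AtPrime m ⧸ IsLocalRing.maximalIdeal (Localization.AtPrime m))) := by
  haveI : IsNoetherianRing (Localization.AtPrime m) :=
    IsLocalization.isNoetherianRing m.primeCompl _ inferInstance
  haveI : Module.Flat B (Localization.AtPrime m) := IsLocalization.flat _ m.primeCompl
  haveI := isGE_G B ω a
  haveI := isGE_G (Localization.AtPrime m) ((G (A := A) B).obj ω) a
  have hbω := bdd_of_isDualizing hω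
  have hbG := bdd_G B ω hbω
  obtain ⟨d, hvan, ⟨ε⟩⟩ := exists_ext_fibre B ω hω m
  have hP' : (m.comap (algebraMap A B)).map (algebraMap A (Localization.AtPrime m)) =
      ((m.comap (algebraMap A B)).map (algebraMap A B)).map
        (algebraMap B (Localization.AtPrime m)) := by
    rw [Ideal.map_map, ← IsScalarTower.algebraMap_eq]
  have hGF : IsGorensteinLocalRing (Localization.AtPrime m ⧸
      ((m.comap (algebraMap A B)).map (algebraMap A B)).map
        (algebraMap B (Localization.AtPrime m))) :=
    isGorensteinLocalRing_of_ringEquiv (Ideal.quotEquivOfEq hP') hG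
  haveI : IsLocalRing (Localization.AtPrime m ⧸
      ((m.comap (algebraMap A B)).map (algebraMap A B)).map
        (algebraMap B (Localization.AtPrime m))) := hGF.toIsLocalRing
  haveI : IsNoetherianRing (Localization.AtPrime m ⧸
      ((m.comap (algebraMap A B)).map (algebraMap A B)).map
        (algebraMap B (Localization.AtPrime m))) := hGF.toIsNoetherian
  have hCM := Groth.Agent.Helper8.Goren.isCohenMacaulayLocalRing_of_isGorensteinLocalRing
    (Localization.AtPrime m ⧸ ((m.comap (algebraMap A B)).map (algebraMap A B)).map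
        (algebraMap B (Localization.AtPrime m)))
  obtain ⟨n, hn⟩ := exists_numCM_of_cm _ hCM
  have hsurj : Function.Surjective (algebraMap (Localization.AtPrime m)
      (Localization.AtPrime m ⧸ ((m.comap (algebraMap A B)).map (algebraMap A B)).map
        (algebraMap B (Localization.AtPrime m)))) := Ideal.Quotient.mk_surjective
  obtain ⟨h1, h2⟩ := residue_of_gorenstein
    ((G (A := B) (Localization.AtPrime m)).obj ((G (A := A) B).obj ω)) a n _ hsurj hn hGF d hvan ⟨ε⟩
  refine ⟨d + n, ?_, h1, h2⟩
  have hd : d ≤ b := by
    by_contra hlt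
    push Not at hlt
    have hv : Van ((G (A := B) (Localization.AtPrime m)).obj ((G (A := A) B).obj ω)) d
        (Localization.AtPrime m ⧸ ((m.comap (algebraMap A B)).map (algebraMap A B)).map
          (algebraMap B (Localization.AtPrime m))) :=
      van_G_cyclic (Localization.AtPrime m) _ hbG _ d
        (van_G_cyclic B ω hbω (m.comap (algebraMap A B)) d (hb _ d hlt))
    haveI : Subsingleton (Dual.inD (Localization.AtPrime m) (Localization.AtPrime m ⧸
        ((m.comap (algebraMap A B)).map (algebraMap A B)).map
          (algebraMap B (Localization.AtPrime m))) ⟶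
        ((G (A := B) (Localization.AtPrime m)).obj ((G (A := A) B).obj ω))⟦d⟧) := hv
    have hs : Subsingleton (Localization.AtPrime m ⧸
        ((m.comap (algebraMap A B)).map (algebraMap A B)).map
          (algebraMap B (Localization.AtPrime m))) := ε.symm.toEquiv.subsingleton
    exact not_subsingleton _ hs
  have hn' : (n : ℤ) ≤ E := by
    have h3 : ringKrullDim (Localization.AtPrime m ⧸
        ((m.comap (algebraMap A B)).map (algebraMap A B)).map
          (algebraMap B (Localization.AtPrime m))) ≤ ringKrullDim (Localization.AtPrime m) :=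
      ringKrullDim_quotient_le _
    rw [hn.1] at h3
    have h4 := h3.trans hE
    exact_mod_cast h4
  omega

end Local

section Global

variable {A : Type u} [CommRing A] [IsNoetherianRing A] (B : Type u) [CommRing B] [Algebra A B]
  [Module.Flat A B] [IsNoetherianRing B]

/-- **flat base change of a dualizing complex with Gorenstein fibres**: if `A → B` is a flat map
of Noetherian rings, `B` has finite Krull dimension and the local rings of the fibres at the
closed points of `B` are Gorenstein, then `ω ⊗ B` is dualizing for every dualizing `ω`. -/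
theorem isDualizing_G_of_gorenstein (ω : Dual.D A) (hω : Dual.IsDualizing A ω) (E : ℕ)
    (hE : ringKrullDim B ≤ E)
    (H : ∀ (m : Ideal B) [m.IsMaximal], IsGorensteinLocalRing (EGA4.FibLocRing A B m)) :
    Dual.IsDualizing B ((G (A := A) B).obj ω) := by
  obtain ⟨a, b, hab⟩ := hω.finite_injective_dimension
  have hbdd := bdd_of_injdim ω a b hab
  haveI : ω.IsGE a := by
    rw [DerivedCategory.isGE_iff]
    intro i hi
    have h1 : Van ω i A := hab A i (Or.inl hi)
    rw [van_self_iff] at h1
    exact ModuleCat.isZero_of_subsingleton _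
  refine isDualizing_G_of_injdim B ω hω ⟨a, b + E, fun J i hi => ?_⟩
  haveI hGE := isGE_G B ω a
  rcases hi with hi | hi
  · let t : TStructure (Dual.D B) := TStructure.t
    haveI hRt : t.IsGE ((G (A := A) B).obj ω) a := hGE
    haveI h3ge' : t.IsGE (((G (A := A) B).obj ω)⟦i⟧) (a - i) :=
      t.isGE_shift _ a i (a - i) (by omega)
    haveI h3ge : t.IsGE (((G (A := A) B).obj ω)⟦i⟧) 1 := t.isGE_of_ge _ 1 (a - i) (by omega)
    haveI hMle : t.IsLE (Dual.inD B (B ⧸ J)) 0 := inferInstanceAs ((Dual.inD B (B ⧸ J)).IsLE 0)
    exact ⟨fun f g => by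
      rw [t.zero_of_isLE_of_isGE f 0 1 (by omega) hMle h3ge,
        t.zero_of_isLE_of_isGE g 0 1 (by omega) hMle h3ge]⟩
  · apply jf_of_maximal.{u, u + 1} (A := B)
    intro m
    haveI := m.isMaximal
    haveI : IsNoetherianRing (Localization.AtPrime m.asIdeal) :=
      IsLocalization.isNoetherianRing m.asIdeal.primeCompl _ inferInstance
    haveI : Module.Flat B (Localization.AtPrime m.asIdeal) :=
      IsLocalization.flat _ m.asIdeal.primeCompl
    have hL' : Bdd ((G (A := A) B).obj ω) := bdd_G B ω hbdd
    have hfin' : ∀ j : ℤ, Module.Finite B (Dual.HD B ((G (A := A) B).obj ω) j) := fun j => by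
      haveI := hω.finite_cohomology j
      exact finite_homology_G B ω j
    have hfin'' : ∀ j : ℤ, Module.Finite (Localization.AtPrime m.asIdeal)
        (Dual.HD (Localization.AtPrime m.asIdeal)
          ((G (A := B) (Localization.AtPrime m.asIdeal)).obj ((G (A := A) B).obj ω)) j) :=
      fun j => by
        haveI := hfin' j
        exact finite_homology_G (Localization.AtPrime m.asIdeal) _ j
    have hdimC : ringKrullDim (Localization.AtPrime m.asIdeal) ≤ E := by
      rw [IsLocalization.AtPrime.ringKrullDim_eq_height m.asIdeal]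
      exact Ideal.height_le_ringKrullDim_of_isPrime.trans hE
    obtain ⟨e, he, hv, -⟩ := exists_ext_residue B ω hω a b
      (fun N _ _ i hi => hab N i (Or.inr hi)) m.asIdeal (H m.asIdeal) E hdimC
    haveI := isGE_G (Localization.AtPrime m.asIdeal) ((G (A := A) B).obj ω) a
    have key := injdim_of_residue
      ((G (A := B) (Localization.AtPrime m.asIdeal)).obj ((G (A := A) B).obj ω)) a e hfin''
      (fun j hj => hv j (ne_of_gt hj))
      (Localization.AtPrime m.asIdeal ⧸ J.map (algebraMap B (Localization.AtPrime m.asIdeal)))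
      i (Or.inr (by omega))
    haveI : Subsingleton ((G (A := B) (Localization.AtPrime m.asIdeal)).obj (Dual.inD B (B ⧸ J)) ⟶
        (G (A := B) (Localization.AtPrime m.asIdeal)).obj (((G (A := A) B).obj ω)⟦i⟧)) :=
      (Iso.homCongr (cyclicIso (Localization.AtPrime m.asIdeal) J)
        (GshiftIso (Localization.AtPrime m.asIdeal) ((G (A := A) B).obj ω) i).symm).symm.subsingleton
    exact subsingleton_tensor_of_injBC (G (A := B) (Localization.AtPrime m.asIdeal))
      (semiLinear_G (Localization.AtPrime m.asIdeal)) (Dual.inD B (B ⧸ J))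
      (((G (A := A) B).obj ω)⟦i⟧)
      (bijBC_main (Localization.AtPrime m.asIdeal) _ _ (bdd_inD _) (finite_homology_inD (B ⧸ J))
        (bdd_shift _ i hL')).1

end Global

end Groth.Agent.Helper3.GorBC
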