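import Mathlib
import Groth.Prelude.Def_Wider
import Groth.Prelude.Def_DDual2
import Groth.Agent.Lib.Helper3.GorBC2

/-!
# Base change of dualizing complexes along finite type flat maps with Gorenstein fibres
-/

set_option autoImplicit false
universe u
open CategoryTheory CategoryTheory.Limits DerivedCategory Pretriangulated Triangulated TensorProduct

attribute [local instance] HasDerivedCategory.standard

namespace Groth.Agent.Helper3.GorBC

open Groth.Agent.Helper3.BCAbs Groth.Agent.Helper3.BCDer Groth.Agent.Helper3.BCDual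
  Groth.Agent.Helper3.BCDesc Groth.Agent.Helper5.FlatBC Groth.Agent.Helper3.DualCx
  Groth.Agent.Helper3.BassLem Groth.Agent.Helper3.BCFlat Groth.Agent.Helper3.Crit
  Groth.Agent.Helper3.FinAdj Groth.Agent.Helper3.GorFib Groth.Agent.Helper8.GorFlat LocCoh

lemma exists_nat_ge_of_lt_top {x : WithBot ℕ∞} (h : x < ⊤) : ∃ E : ℕ, x ≤ E := by
  induction x using WithBot.recBotCoe with
  | bot => exact ⟨0, bot_le⟩
  | coe y =>
    have hy : y ≠ ⊤ := by
      rintro rfl
      exact lt_irrefl _ h
    obtain ⟨n, hn⟩ := ENat.ne_top_iff_exists.mp hy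
    exact ⟨n, by rw [← hn]; rfl⟩

/-- a finite type algebra over a Noetherian ring of finite Krull dimension has finite Krull
dimension -/
lemma exists_dim_le_of_finiteType (A B : Type u) [CommRing A] [CommRing B] [Algebra A B]
    [IsNoetherianRing A] [Algebra.FiniteType A B] (hA : ringKrullDim A < ⊤) :
    ∃ E : ℕ, ringKrullDim B ≤ E := by
  obtain ⟨n, f, hf⟩ := Algebra.FiniteType.iff_quotient_mvPolynomial''.1
    (inferInstance : Algebra.FiniteType A B)
  obtain ⟨E, hE⟩ := exists_nat_ge_of_lt_top hA
  refine ⟨E + n, ?_⟩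
  have h1 : ringKrullDim B ≤ ringKrullDim (MvPolynomial (Fin n) A) :=
    ringKrullDim_le_of_surjective f.toRingHom hf
  rw [MvPolynomial.ringKrullDim_of_isNoetherianRing] at h1
  refine h1.trans ?_
  rw [Nat.card_eq_fintype_card, Fintype.card_fin]
  push_cast
  exact add_le_add hE le_rfl

section Main

variable (A B : Type u) [CommRing A] [CommRing B] [Algebra A B] [IsNoetherianRing A]
  [IsNoetherianRing B] [Module.Flat A B]

/-- Gorenstein fibre rings give Gorenstein fibre local rings -/
lemma fibLocRing_of_fibres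
    (hG : ∀ p : PrimeSpectrum A, IsGorensteinRing (B ⊗[A] p.asIdeal.ResidueField))
    (m : Ideal B) [m.IsPrime] : IsGorensteinLocalRing (EGA4.FibLocRing A B m) := by
  haveI : (m.comap (algebraMap A B)).IsPrime := Ideal.comap_isPrime _ _
  refine isGorensteinLocalRing_fibLocRing_of_fiber (m.comap (algebraMap A B)) ?_ m rfl
  exact isGorensteinRing_of_ringEquiv
    (Algebra.TensorProduct.comm A B (m.comap (algebraMap A B)).ResidueField).toRingEquiv
    (hG ⟨m.comap (algebraMap A B), inferInstance⟩)

theorem isDualizing_G_of_finiteType_gorenstein [Algebra.FiniteType A B]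
    (hG : ∀ p : PrimeSpectrum A, IsGorensteinRing (B ⊗[A] p.asIdeal.ResidueField))
    (ω : Dual.D A) (hω : Dual.IsDualizing A ω) :
    Dual.IsDualizing B ((G (A := A) B).obj ω) := by
  obtain ⟨E, hE⟩ := exists_dim_le_of_finiteType A B (DualSupp.main_S0371 A ω hω)
  exact isDualizing_G_of_gorenstein B ω hω E hE (fun m _ => fibLocRing_of_fibres A B hG m)

end Main

theorem main_S1788 (A B : Type u) [CommRing A] [CommRing B] [Algebra A B] [IsNoetherianRing A]
    [IsNoetherianRing B] [Module.FaithfullyFlat A B] [Algebra.FiniteType A B]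
    (hG : ∀ p : PrimeSpectrum A, LocCoh.IsGorensteinRing (B ⊗[A] p.asIdeal.ResidueField))
    [DRing.HasLBaseChange (algebraMap A B)] (K : Dual.D A) :
    Dual.IsDualizing A K ↔
      Dual.IsDualizing B ((DRing.LBaseChange (algebraMap A B)).obj K) := by
  constructor
  · intro hK
    exact isDualizing_of_iso ((lbcIsoG (A := A) B).app K).symm
      (isDualizing_G_of_finiteType_gorenstein A B hG K hK)
  · intro hK
    exact main_S1780 A B K hK

end Groth.Agent.Helper3.GorBC
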