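import Mathlib
import Groth.Prelude.Def_Wider
import Groth.Prelude.Def_DDual2
import Groth.Agent.Lib.Helper3.GorBC3
import Groth.Agent.Lib.Helper8.AdicFS17

/-!
# Base change of dualizing complexes along smooth maps
-/

set_option autoImplicit false
universe u
open CategoryTheory CategoryTheory.Limits DerivedCategory Pretriangulated Triangulated TensorProduct

attribute [local instance] HasDerivedCategory.standard

namespace Groth.Agent.Helper3.GorBC

open Groth.Agent.Helper3.BCAbs Groth.Agent.Helper3.BCDer Groth.Agent.Helper3.BCDual
  Groth.Agent.Helper3.BCDesc Groth.Agent.Helper5.FlatBC Groth.Agent.Helper3.DualCx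
  Groth.Agent.Helper3.BassLem Groth.Agent.Helper3.BCFlat Groth.Agent.Helper3.Crit
  Groth.Agent.Helper3.FinAdj Groth.Agent.Helper3.GorFib Groth.Agent.Helper8.GorFlat LocCoh

/-- the fibre local rings of a formally smooth map of Noetherian rings are Gorenstein -/
theorem fibLocRing_of_formallySmooth (A B : Type u) [CommRing A] [CommRing B] [Algebra A B]
    [IsNoetherianRing A] [IsNoetherianRing B] [Algebra.FormallySmooth A B]
    (m : Ideal B) [m.IsPrime] : IsGorensteinLocalRing (EGA4.FibLocRing A B m) := by
  haveI : (m.comap (algebraMap A B)).IsPrime := Ideal.comap_isPrime _ _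
  refine isGorensteinLocalRing_fibLocRing_of_fiber (m.comap (algebraMap A B)) ?_ m rfl
  haveI := Groth.Agent.Helper8.AdicFS.isNoetherianRing_fiber A B (m.comap (algebraMap A B))
  haveI : Algebra.FormallySmooth (m.comap (algebraMap A B)).ResidueField
      ((m.comap (algebraMap A B)).Fiber B) := inferInstance
  haveI := Groth.Agent.Helper8.AdicFS.isRegularRing_of_formallySmooth_field
    (m.comap (algebraMap A B)).ResidueField ((m.comap (algebraMap A B)).Fiber B)
  exact isGorensteinRing_of_isRegularRing _

theorem main_S11177 (A B : Type u) [CommRing A] [CommRing B] [Algebra A B] [IsNoetherianRing A]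
    [Algebra.Smooth A B] [DRing.HasLBaseChange (algebraMap A B)] (ω : Dual.D A)
    (hω : Dual.IsDualizing A ω) :
    Dual.IsDualizing B ((DRing.LBaseChange (algebraMap A B)).obj ω) := by
  haveI : Algebra.FiniteType A B := inferInstance
  haveI : IsNoetherianRing B := Algebra.FiniteType.isNoetherianRing A B
  haveI : Module.Flat A B := inferInstance
  obtain ⟨E, hE⟩ := exists_dim_le_of_finiteType A B (DualSupp.main_S0371 A ω hω)
  exact isDualizing_of_iso ((lbcIsoG (A := A) B).app ω).symm
    (isDualizing_G_of_gorenstein B ω hω E hE
      (fun m _ => fibLocRing_of_formallySmooth A B m))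

end Groth.Agent.Helper3.GorBC
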