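import Mathlib
import Groth.Prelude.Def_Wider
import Groth.Prelude.Def_DDual2
import Groth.Agent.Lib.Helper3.FinEx2
import Groth.Agent.Lib.Helper3.GorBC5

/-!
# Existence of dualizing complexes for algebras essentially of finite type
-/

set_option autoImplicit false
universe u
open CategoryTheory CategoryTheory.Limits DerivedCategory Pretriangulated Triangulated TensorProduct

attribute [local instance] HasDerivedCategory.standard

namespace Groth.Agent.Helper3.FinEx

open Groth.Agent.Helper3.BCDual Groth.Agent.Helper3.BCDer Groth.Agent.Helper3.GorBC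

/-- base change of a dualizing complex along a smooth map is dualizing (the `G` version) -/
theorem isDualizing_G_of_smooth (A B : Type u) [CommRing A] [CommRing B] [Algebra A B]
    [IsNoetherianRing A] [IsNoetherianRing B] [Algebra.Smooth A B] (ω : Dual.D A)
    (hω : Dual.IsDualizing A ω) :
    Dual.IsDualizing B ((G (A := A) B).obj ω) := by
  haveI : Algebra.FiniteType A B := inferInstance
  obtain ⟨E, hE⟩ := exists_dim_le_of_finiteType A B (DualSupp.main_S0371 A ω hω)
  exact isDualizing_G_of_gorenstein B ω hω E hE
    (fun m _ => fibLocRing_of_formallySmooth A B m)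

/-- a quotient (or finite algebra) of a ring with a dualizing complex has a dualizing complex -/
theorem exists_isDualizing_of_surjective (A B : Type u) [CommRing A] [CommRing B]
    [IsNoetherianRing A] (f : A →+* B) (hf : Function.Surjective f) (ω : Dual.D A)
    (hω : Dual.IsDualizing A ω) : ∃ K : Dual.D B, Dual.IsDualizing B K := by
  letI : Algebra A B := f.toAlgebra
  haveI : IsNoetherianRing B := isNoetherianRing_of_surjective A B f hf
  haveI : Module.Finite A B := Module.Finite.of_surjective (Algebra.linearMap A B) hf
  obtain ⟨K, hK, -⟩ := exists_isDualizing_of_finite (B := B) hω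
  exact ⟨K, hK⟩

/-- finite type algebras over a ring with a dualizing complex have dualizing complexes -/
theorem exists_isDualizing_of_finiteType (A B : Type u) [CommRing A] [CommRing B] [Algebra A B]
    [IsNoetherianRing A] [Algebra.FiniteType A B] (ω : Dual.D A)
    (hω : Dual.IsDualizing A ω) : ∃ K : Dual.D B, Dual.IsDualizing B K := by
  obtain ⟨n, f, hf⟩ := Algebra.FiniteType.iff_quotient_mvPolynomial''.1
    (inferInstance : Algebra.FiniteType A B)
  haveI : Algebra.Smooth A (MvPolynomial (Fin n) A) := ⟨inferInstance, inferInstance⟩
  have h1 := isDualizing_G_of_smooth A (MvPolynomial (Fin n) A) ω hω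
  exact exists_isDualizing_of_surjective (MvPolynomial (Fin n) A) B f.toRingHom hf _ h1

theorem main_S0377 (A : Type u) [CommRing A] [IsNoetherianRing A] (ω : Dual.D A)
    (hω : Dual.IsDualizing A ω) (B : Type u) [CommRing B] [Algebra A B]
    [Algebra.EssFiniteType A B] : ∃ ω' : Dual.D B, Dual.IsDualizing B ω' := by
  obtain ⟨K, hK⟩ := exists_isDualizing_of_finiteType A (Algebra.EssFiniteType.subalgebra A B) ω hω
  haveI : IsNoetherianRing (Algebra.EssFiniteType.subalgebra A B) :=
    Algebra.FiniteType.isNoetherianRing A _
  haveI : Module.Flat (Algebra.EssFiniteType.subalgebra A B) B :=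
    IsLocalization.flat B (Algebra.EssFiniteType.submonoid A B)
  exact ⟨_, isDualizing_G_of_isLocalization B (Algebra.EssFiniteType.submonoid A B) K hK⟩

end Groth.Agent.Helper3.FinEx
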