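import Mathlib
import Groth.Prelude.Def_Wider
import Groth.Agent.Lib.Helper3.RegDual

/-!
# A Noetherian local ring is Gorenstein iff `A[0]` is a dualizing complex
-/

set_option autoImplicit false
universe u
open CategoryTheory CategoryTheory.Limits Pretriangulated Triangulated

attribute [local instance] HasDerivedCategory.standard

namespace Groth.Agent.Helper3.GorDual

open DerivedCategory Groth.Agent.Helper3.RegGlDim Groth.Agent.Helper3.RegDual

variable {A : Type u} [CommRing A]

/-- `Ext^k(Y, X) = 0` iff there are no maps `Y[0] ⟶ X[0][k]` in `D(A)` -/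
lemma subsingleton_ext_iff (X Y : ModuleCat.{u} A) (k : ℕ) :
    letI := HasExt.standard (ModuleCat.{u} A)
    Subsingleton (Abelian.Ext Y X k) ↔
      Subsingleton ((DerivedCategory.singleFunctor (ModuleCat.{u} A) 0).obj Y ⟶
        ((DerivedCategory.singleFunctor (ModuleCat.{u} A) 0).obj X)⟦(k : ℤ)⟧) := by
  letI := HasExt.standard (ModuleCat.{u} A)
  exact (Abelian.Ext.homEquiv (X := Y) (Y := X) (n := k)).subsingleton_congr

theorem main_S11179 (A : Type u) [CommRing A] [IsLocalRing A] [IsNoetherianRing A] :
    LocCoh.IsGorensteinLocalRing A ↔ Dual.IsDualizing A (Dual.inD A A) := by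
  letI := HasExt.standard (ModuleCat.{u} A)
  let t : TStructure (Dual.D A) := TStructure.t
  constructor
  · intro hG
    obtain ⟨n, hn⟩ := hG.exists_hasInjectiveDimensionLT
    have hshift : ∀ (N : ModuleCat.{u} A) (i : ℤ),
        t.IsLE (((DerivedCategory.singleFunctor (ModuleCat.{u} A) 0).obj N)⟦i⟧) (-i) := by
      intro N i
      haveI h0 : t.IsLE ((DerivedCategory.singleFunctor (ModuleCat.{u} A) 0).obj N) 0 :=
        inferInstanceAs (((DerivedCategory.singleFunctor (ModuleCat.{u} A) 0).obj N).IsLE 0)
      exact t.isLE_shift _ 0 i (-i) (by omega)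
    refine ⟨inferInstance, ⟨0, n, ?_⟩, fun i => finite_HD_single A i, toEnd_bijective_single, ?_⟩
    · intro M _ _ i hi
      rcases hi with hi | hi
      · exact subsingleton_single_neg (ModuleCat.of A M) (ModuleCat.of A A) i hi
      · obtain ⟨k, rfl⟩ : ∃ k : ℕ, i = (k : ℤ) := ⟨i.toNat, by omega⟩
        have := HasInjectiveDimensionLT.subsingleton (ModuleCat.of A A) n k (by omega)
          (ModuleCat.of A M)
        exact (subsingleton_ext_iff (ModuleCat.of A A) (ModuleCat.of A M) k).1 this
    · intro i hi
      rcases lt_or_gt_of_ne hi with h | h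
      · exact subsingleton_single_neg (ModuleCat.of A A) (ModuleCat.of A A) i h
      · haveI := hshift (ModuleCat.of A A) i
        haveI hL : (((DerivedCategory.singleFunctor (ModuleCat.{u} A) 0).obj
            (ModuleCat.of A A))⟦i⟧).IsLE (-1) :=
          t.isLE_of_le _ (-i) _ (by omega)
        haveI : Projective (ModuleCat.of A A) :=
          ModuleCat.projective_of_categoryTheory_projective _
        exact subsingleton_hom_of_projective (ModuleCat.of A A) _
  · intro hD
    obtain ⟨a, b, h⟩ := hD.finite_injective_dimension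
    refine { exists_hasInjectiveDimensionLT := ⟨(b + 1).toNat, ?_⟩ }
    rw [hasInjectiveDimensionLT_iff]
    intro k hk Y e
    have h1 := h Y (k : ℤ) (Or.inr (by omega))
    have h2 : Subsingleton (Abelian.Ext (ModuleCat.of A Y) (ModuleCat.of A A) k) :=
      (subsingleton_ext_iff (ModuleCat.of A A) (ModuleCat.of A Y) k).2 h1
    exact h2.elim _ _

end Groth.Agent.Helper3.GorDual
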