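import Mathlib
import Groth.Agent.Lib.Helper3.Crit
import Groth.Agent.Lib.Helper3.TriShift

/-!
# Uniqueness of dualizing complexes over a Noetherian local ring
-/

set_option autoImplicit false
universe u
open CategoryTheory CategoryTheory.Limits DerivedCategory Pretriangulated Triangulated

attribute [local instance] HasDerivedCategory.standard

namespace Groth.Agent.Helper3.Uniq

open Groth.Agent.Helper3.DualCx Groth.Agent.Helper3.DualFun Groth.Agent.Helper3.PhiDev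
open Groth.Agent.Helper3.EtaDev Groth.Agent.Helper3.BassLem Groth.Agent.Helper3.Crit
open Groth.Agent.Helper3.HomFin

variable {A : Type u} [CommRing A]

section Cone

/-- if `T.mor₁` induces bijections on `Hom(X, -[i])` for all `i`, then `Hom(X, T.obj₃[p]) = 0` -/
lemma hom_cone_eq_zero (X : Dual.D A) (T : Triangle (Dual.D A)) (hT : T ∈ distTriang _)
    (hψ : ∀ i : ℤ, Function.Bijective (fun ε : X ⟶ T.obj₁⟦i⟧ => ε ≫ T.mor₁⟦i⟧'))
    (p : ℤ) (x : X ⟶ T.obj₃⟦p⟧) : x = 0 := by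
  -- the image of `x` in `Hom(X, T.obj₁[1][p])` vanishes
  have h1 : x ≫ T.mor₃⟦p⟧' = 0 := by
    let α := shiftFunctorAdd' (Dual.D A) 1 p (1 + p) rfl
    have h2 : (x ≫ T.mor₃⟦p⟧' ≫ α.inv.app T.obj₁) ≫ T.mor₁⟦1 + p⟧' = 0 := by
      have hnat : α.inv.app T.obj₁ ≫ T.mor₁⟦1 + p⟧' = (T.mor₁⟦(1 : ℤ)⟧')⟦p⟧' ≫ α.inv.app T.obj₂ :=
        (α.inv.naturality T.mor₁).symm
      rw [Category.assoc, Category.assoc, hnat, ← Category.assoc (T.mor₃⟦p⟧'),
        ← Functor.map_comp, comp_distTriang_mor_zero₃₁ T hT, Functor.map_zero, zero_comp,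
        comp_zero]
    have h3 : x ≫ T.mor₃⟦p⟧' ≫ α.inv.app T.obj₁ = 0 :=
      (hψ (1 + p)).1 (h2.trans zero_comp.symm)
    have h4 : (x ≫ T.mor₃⟦p⟧') ≫ α.inv.app T.obj₁ = 0 := by rw [Category.assoc]; exact h3
    exact (cancel_mono (α.inv.app T.obj₁)).1 (h4.trans zero_comp.symm)
  obtain ⟨z, hz⟩ := TriShift.shift_exact₃ T hT p x h1
  obtain ⟨w, hw⟩ := (hψ p).2 z
  rw [hz, ← hw]
  show (w ≫ T.mor₁⟦p⟧') ≫ T.mor₂⟦p⟧' = 0
  rw [Category.assoc, ← Functor.map_comp, comp_distTriang_mor_zero₁₂ T hT, Functor.map_zero,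
    comp_zero]

end Cone

section Local

variable [IsLocalRing A] [IsNoetherianRing A]

/-- variant of `isZero_of_residue` with finiteness of `Ext` as a hypothesis -/
theorem isZero_of_residue' (R : Dual.D A)
    (hfin : ∀ (M : Type u) [AddCommGroup M] [Module A M] [Module.Finite A M] (i : ℤ),
      Module.Finite A (Dual.inD A M ⟶ R⟦i⟧))
    (hk : ∀ i : ℤ, Van R i (A ⧸ IsLocalRing.maximalIdeal A)) : IsZero R := by
  have h1 : ∀ i : ℤ, Van R i A := fun i =>
    van_of_residue R hfin Set.univ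
      (fun i _ => Set.mem_univ _) (fun i _ => hk i) A i (Set.mem_univ _)
  have h2 : ∀ i : ℤ, IsZero ((homologyFunctor (ModuleCat.{u} A) i).obj R) := fun i => by
    haveI : Subsingleton (Dual.HD A R i) := (van_self_iff R i).1 (h1 i)
    exact ModuleCat.isZero_of_subsingleton _
  let t : TStructure (Dual.D A) := TStructure.t
  haveI : R.IsGE 1 := (DerivedCategory.isGE_iff R 1).2 (fun i _ => h2 i)
  haveI : R.IsLE 0 := (DerivedCategory.isLE_iff R 0).2 (fun i _ => h2 i)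
  exact t.isZero R 0 1 (by omega)

/-- uniqueness: a dualizing complex `ω` is isomorphic to any `R'` with the same `Ext^•(k, -)`
and the relevant finiteness -/
theorem iso_of_residue (ω : Dual.D A) (hω : Dual.IsDualizing A ω) (R' : Dual.D A) (n : ℤ)
    (hvan : ∀ i : ℤ, i ≠ n → Van ω i (A ⧸ IsLocalRing.maximalIdeal A))
    (hn : Nonempty ((Dual.inD A (A ⧸ IsLocalRing.maximalIdeal A) ⟶ ω⟦n⟧) ≃ₗ[A]
      (A ⧸ IsLocalRing.maximalIdeal A)))
    (hfin' : ∀ (K : Dual.D A), (∀ j : ℤ, Module.Finite A (Dual.HD A K j)) → ∀ i : ℤ,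
      Module.Finite A (K ⟶ R'⟦i⟧))
    (hvan' : ∀ i : ℤ, i ≠ n → Van R' i (A ⧸ IsLocalRing.maximalIdeal A))
    (hn' : Nonempty ((Dual.inD A (A ⧸ IsLocalRing.maximalIdeal A) ⟶ R'⟦n⟧) ≃ₗ[A]
      (A ⧸ IsLocalRing.maximalIdeal A))) : Nonempty (ω ≅ R') := by
  obtain ⟨en⟩ := hn
  obtain ⟨en'⟩ := hn'
  obtain ⟨d⟩ := nonempty_data hω
  have hK : ∀ (M : Type u) [AddCommGroup M] [Module A M] [Module.Finite A M] (j : ℤ),
      Module.Finite A (Dual.HD A (D d (ModuleCat.of A M)) j) := fun M _ _ _ j => by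
    haveI := finite_ext hω M j
    exact Module.Finite.equiv (extIso d (ModuleCat.of A M) j)
  have hF : ∀ (i : ℤ) (M : Type u) [AddCommGroup M] [Module A M] [Module.Finite A M],
      Module.Finite A (D d (ModuleCat.of A M) ⟶ R'⟦i⟧) := fun i M _ _ _ =>
    hfin' _ (hK M) i
  -- the dual of the residue field
  let k : ModuleCat.{u} A := ModuleCat.of A (A ⧸ IsLocalRing.maximalIdeal A)
  have hHk : ∀ i : ℤ, i ≠ n → IsZero ((homologyFunctor (ModuleCat.{u} A) i).obj (D d k)) := by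
    intro i hi
    haveI : Subsingleton (Dual.inD A (A ⧸ IsLocalRing.maximalIdeal A) ⟶ ω⟦i⟧) := hvan i hi
    haveI : Subsingleton (Dual.HD A (D d k) i) := (extIso d k i).symm.subsingleton
    exact ModuleCat.isZero_of_subsingleton _
  haveI : (D d k).IsGE n := (DerivedCategory.isGE_iff _ n).2 (fun i hi => hHk i (by omega))
  haveI : (D d k).IsLE n := (DerivedCategory.isLE_iff _ n).2 (fun i hi => hHk i (by omega))
  obtain ⟨Y, ⟨eY⟩, hY⟩ := exists_heart_equiv (D d k) n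
  let u : Y ≃ₗ[A] (A ⧸ IsLocalRing.maximalIdeal A) :=
    eY.toLinearEquiv ≪≫ₗ (extIso d k n).symm ≪≫ₗ en
  let uD : Dual.inD A Y ≅ Dual.inD A (A ⧸ IsLocalRing.maximalIdeal A) :=
    (DerivedCategory.singleFunctor (ModuleCat.{u} A) 0).mapIso u.toModuleIso
  -- `Hom(D(k), K[i])` in terms of `Ext^{i+n}(k, K)`
  have hsub : ∀ (K : Dual.D A) (i : ℤ), Van K (i + n) (A ⧸ IsLocalRing.maximalIdeal A) →
      Subsingleton (D d k ⟶ K⟦i⟧) := by
    intro K i h
    obtain ⟨E⟩ := hY K i (i + n) rfl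
    haveI : Subsingleton (Dual.inD A Y ⟶ K⟦i + n⟧) := van_of_equiv K (i + n) u.symm h
    exact E.symm.subsingleton
  have hsimple : ∀ (K : Dual.D A), ((Dual.inD A (A ⧸ IsLocalRing.maximalIdeal A) ⟶ K⟦n⟧) ≃ₗ[A]
      (A ⧸ IsLocalRing.maximalIdeal A)) → IsSimpleModule A (D d k ⟶ K⟦(0 : ℤ)⟧) := by
    intro K eK
    obtain ⟨E⟩ := hY K 0 n (by omega)
    exact IsSimpleModule.congr (E.symm ≪≫ₗ Linear.homCongr A uD (Iso.refl _) ≪≫ₗ eK)
  have hVT : ∀ (i : ℤ), i ≠ 0 → ∀ (M : Type u) [AddCommGroup M] [Module A M]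
      [Module.Finite A M], VanT d R' i (ModuleCat.of A M) := fun i hi M _ _ _ =>
    vanT_of_residue d R' i (hF i) (hsub R' i (hvan' (i + n) (by omega))) M
  -- choose a morphism
  haveI hs' : IsSimpleModule A (D d k ⟶ R'⟦(0 : ℤ)⟧) := hsimple R' en'
  haveI hs : IsSimpleModule A (D d k ⟶ ω⟦(0 : ℤ)⟧) := hsimple ω en
  haveI : Nontrivial (D d k ⟶ R'⟦(0 : ℤ)⟧) := IsSimpleModule.nontrivial A _
  obtain ⟨f, hf⟩ := exists_ne (0 : D d k ⟶ R'⟦(0 : ℤ)⟧)
  obtain ⟨g, hg⟩ := exists_of_vanT_X₁ d R' (idealSC (IsLocalRing.maximalIdeal A))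
    (idealSC_shortExact _) 0 (hVT (0 + 1) (by omega) (IsLocalRing.maximalIdeal A)) f
  let φ : ω ⟶ R' := (DA d).inv ≫ g ≫ (shiftFunctorZero (Dual.D A) ℤ).hom.app R'
  obtain ⟨C, m₂, m₃, hT⟩ := distinguished_cocone_triangle φ
  -- `φ` induces bijections on `Hom(D(k), -[i])`
  have hbij : ∀ i : ℤ, Function.Bijective (fun ε : D d k ⟶ ω⟦i⟧ => ε ≫ φ⟦i⟧') := by
    intro i
    by_cases hi : i = 0
    · subst hi
      have hne : Linear.rightComp A (D d k) (φ⟦(0 : ℤ)⟧') ≠ 0 := by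
        intro h0
        apply hf
        let ε₀ : D d k ⟶ ω⟦(0 : ℤ)⟧ :=
          Dmap d (idealSC (IsLocalRing.maximalIdeal A)).g ≫ (DA d).hom ≫
            (shiftFunctorZero (Dual.D A) ℤ).inv.app ω
        have h1 : ε₀ ≫ φ⟦(0 : ℤ)⟧' = 0 := by
          have := congrArg (fun L => L ε₀) h0
          exact this
        have hnat : (shiftFunctorZero (Dual.D A) ℤ).inv.app ω ≫ φ⟦(0 : ℤ)⟧' =
            φ ≫ (shiftFunctorZero (Dual.D A) ℤ).inv.app R' :=
          ((shiftFunctorZero (Dual.D A) ℤ).inv.naturality φ).symm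
        have h2 : ε₀ ≫ φ⟦(0 : ℤ)⟧' = f := by
          simp only [ε₀, Category.assoc]
          rw [hnat]
          simp only [φ, Category.assoc, Iso.hom_inv_id_app, Iso.hom_inv_id_assoc]
          rw [Category.comp_id]
          exact hg.symm
        rw [← h2, h1]
      exact LinearMap.bijective_of_ne_zero hne
    · haveI := hsub ω i (hvan (i + n) (by omega))
      haveI := hsub R' i (hvan' (i + n) (by omega))
      exact ⟨fun x y _ => Subsingleton.elim x y, fun y => ⟨0, Subsingleton.elim _ _⟩⟩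
  -- the cone vanishes
  have hC : ∀ j : ℤ, Van C j (A ⧸ IsLocalRing.maximalIdeal A) := by
    intro j
    obtain ⟨E⟩ := hY C (j - n) j (by omega)
    haveI : Subsingleton (D d k ⟶ C⟦j - n⟧) :=
      ⟨fun x y => by
        rw [hom_cone_eq_zero (D d k) _ hT hbij (j - n) x,
          hom_cone_eq_zero (D d k) _ hT hbij (j - n) y]⟩
    haveI : Subsingleton (Dual.inD A Y ⟶ C⟦j⟧) := E.subsingleton
    exact van_of_equiv C j u ‹_›
  have hfinC : ∀ (M : Type u) [AddCommGroup M] [Module A M] [Module.Finite A M] (i : ℤ),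
      Module.Finite A (Dual.inD A M ⟶ C⟦i⟧) := by
    intro M _ _ _ i
    have hT' := rot_of_distTriang _ hT
    have h1 : Module.Finite A (Dual.inD A M ⟶ R'⟦i⟧) :=
      hfin' _ (fun j => Groth.Agent.Helper3.RegDual.finite_HD_single M j) i
    have h3 : Module.Finite A (Dual.inD A M ⟶ (ω⟦(1 : ℤ)⟧)⟦i⟧) := by
      haveI := finite_ext hω M (1 + i)
      exact Module.Finite.equiv (Linear.homCongr A (Iso.refl (Dual.inD A M))
        ((shiftFunctorAdd' (Dual.D A) 1 i (1 + i) rfl).app ω))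
    exact finite_coyoneda_shift (Dual.inD A M) _ hT' i h1 h3
  have hzero : IsZero C := isZero_of_residue' C hfinC hC
  haveI : IsIso φ := (Triangle.isZero₃_iff_isIso₁ _ hT).1 hzero
  exact ⟨asIso φ⟩

theorem main_S1747 (A : Type u) [CommRing A] [IsLocalRing A] [IsNoetherianRing A]
    (ω ω' : Dual.D A) (hω : Dual.IsDualizing A ω) (hω' : Dual.IsDualizing A ω') :
    ∃ n : ℤ, Nonempty (ω' ≅ ω⟦n⟧) := by
  obtain ⟨n, hvan, ⟨en⟩⟩ := main_S0364 A ω hω (IsLocalRing.maximalIdeal A)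
  obtain ⟨n', hvan', hn'⟩ := main_S0364 A ω' hω' (IsLocalRing.maximalIdeal A)
  refine ⟨n - n', ?_⟩
  let sh : ∀ (X : Dual.D A) (i j : ℤ) (_ : (n - n') + i = j),
      (X ⟶ (ω⟦n - n'⟧)⟦i⟧) ≃ₗ[A] (X ⟶ ω⟦j⟧) := fun X i j h =>
    Linear.homCongr A (Iso.refl X) ((shiftFunctorAdd' (Dual.D A) (n - n') i j h).app ω).symm
  refine iso_of_residue ω' hω' (ω⟦n - n'⟧) n' hvan' hn' ?_ ?_ ?_
  · intro K hK i
    haveI := finite_hom hω K hK ((n - n') + i)
    exact Module.Finite.equiv (sh K i _ rfl).symm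
  · intro i hi
    haveI : Subsingleton (Dual.inD A (A ⧸ IsLocalRing.maximalIdeal A) ⟶ ω⟦(n - n') + i⟧) :=
      hvan _ (by omega)
    exact (sh _ i _ rfl).subsingleton
  · exact ⟨sh _ n' n (by omega) ≪≫ₗ en⟩

end Local

end Groth.Agent.Helper3.Uniq
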