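import Mathlib
import Groth.Prelude.Def_Wider
import Groth.Agent.Lib.Helper3.Uniq
import Groth.Agent.Lib.Helper3.GorDual
import Groth.Agent.Lib.Helper3.BCDual

/-!
# The Gorenstein locus of a Noetherian ring with a dualizing complex is open
-/

set_option autoImplicit false
universe u
open CategoryTheory CategoryTheory.Limits DerivedCategory Pretriangulated Triangulated TensorProduct

attribute [local instance] HasDerivedCategory.standard

namespace Groth.Agent.Helper3.GorLocus

open Groth.Agent.Helper3.DualCx Groth.Agent.Helper3.BCDer Groth.Agent.Helper3.BCDual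
  Groth.Agent.Helper5.FlatBC

variable {A : Type u} [CommRing A]

section Shift

/-- being dualizing is invariant under shifts -/
theorem isDualizing_shift {ω : Dual.D A} (hω : Dual.IsDualizing A ω) (s : ℤ) :
    Dual.IsDualizing A (ω⟦s⟧) where
  isNoetherianRing := hω.isNoetherianRing
  finite_injective_dimension := by
    obtain ⟨a, b, hab⟩ := hω.finite_injective_dimension
    refine ⟨a - s, b - s, fun M _ _ i hi => ?_⟩
    haveI := hab M (s + i) (by omega)
    exact (Iso.homCongr (Iso.refl (Dual.inD A M))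
      ((shiftFunctorAdd' (Dual.D A) s i (s + i) rfl).app ω).symm).subsingleton
  finite_cohomology i := by
    haveI := hω.finite_cohomology (s + i)
    have e : Dual.HD A ω (s + i) ≃ₗ[A] Dual.HD A (ω⟦s⟧) i :=
      (((DerivedCategory.homologyFunctor (ModuleCat.{u} A) 0).shiftIso s i (s + i) rfl).app
        ω).symm.toLinearEquiv
    exact Module.Finite.equiv e
  toEnd_bijective := by
    have h1 := hω.toEnd_bijective
    have h2 : (fun a : A => a • 𝟙 (ω⟦s⟧)) =
        (fun φ : ω ⟶ ω => φ⟦s⟧') ∘ (fun a : A => a • 𝟙 ω) := by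
      funext a
      simp only [Function.comp_apply, Functor.map_smul, CategoryTheory.Functor.map_id]
    rw [h2]
    refine Function.Bijective.comp ⟨?_, ?_⟩ h1
    · exact (shiftFunctor (Dual.D A) s).map_injective
    · exact (shiftFunctor (Dual.D A) s).map_surjective
  ext_self_subsingleton i hi := by
    haveI := hω.ext_self_subsingleton i hi
    refine ⟨fun f g => ?_⟩
    let c : (ω⟦s⟧)⟦i⟧ ≅ (ω⟦i⟧)⟦s⟧ := (shiftFunctorComm (Dual.D A) s i).app ω
    obtain ⟨f', hf'⟩ := (shiftFunctor (Dual.D A) s).map_surjective (f ≫ c.hom)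
    obtain ⟨g', hg'⟩ := (shiftFunctor (Dual.D A) s).map_surjective (g ≫ c.hom)
    have : f' = g' := Subsingleton.elim _ _
    rw [← cancel_mono c.hom, ← hf', ← hg', this]

end Shift

section Single

/-- an object is a shift of the unit iff its cohomology is the ring in one degree -/
theorem nonempty_iso_shift_unit_iff (X : Dual.D A) (n : ℤ) :
    Nonempty (X ≅ (Dual.inD A A)⟦n⟧) ↔
      (∀ i : ℤ, i ≠ -n → Subsingleton (Dual.HD A X i)) ∧ Nonempty (Dual.HD A X (-n) ≃ₗ[A] A) := by
  constructor
  · rintro ⟨e⟩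
    have h1 : ∀ i : ℤ, Dual.HD A X i ≃ₗ[A] Dual.HD A (Dual.inD A A) (n + i) := fun i =>
      ((DerivedCategory.homologyFunctor (ModuleCat.{u} A) i).mapIso e).toLinearEquiv ≪≫ₗ
        (show Dual.HD A ((Dual.inD A A)⟦n⟧) i ≃ₗ[A] Dual.HD A (Dual.inD A A) (n + i) from
          (((DerivedCategory.homologyFunctor (ModuleCat.{u} A) 0).shiftIso n i (n + i) rfl).app
            (Dual.inD A A)).toLinearEquiv)
    refine ⟨fun i hi => ?_, ?_⟩
    · have hz : IsZero ((DerivedCategory.homologyFunctor (ModuleCat.{u} A) (n + i)).obj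
          (Dual.inD A A)) := by
        rcases lt_or_gt_of_ne (show n + i ≠ 0 by omega) with h | h
        · exact isZero_of_isGE (Dual.inD A A) 0 _ h
        · exact isZero_of_isLE (Dual.inD A A) 0 _ h
      haveI := ModuleCat.subsingleton_of_isZero hz
      exact (h1 i).subsingleton
    · have e0 : Dual.HD A (Dual.inD A A) (n + -n) ≃ₗ[A] A := by
        rw [show n + -n = 0 by omega]
        exact ((DerivedCategory.singleFunctorCompHomologyFunctorIso (ModuleCat.{u} A) 0).app
          (ModuleCat.of A A)).toLinearEquiv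
      exact ⟨h1 (-n) ≪≫ₗ e0⟩
  · rintro ⟨hvan, ⟨ε⟩⟩
    have hz : ∀ i : ℤ, i ≠ -n →
        IsZero ((DerivedCategory.homologyFunctor (ModuleCat.{u} A) i).obj X) := fun i hi => by
      haveI := hvan i hi
      exact ModuleCat.isZero_of_subsingleton _
    haveI : X.IsGE (-n) := (DerivedCategory.isGE_iff X (-n)).2 (fun i hi => hz i (by omega))
    haveI : X.IsLE (-n) := (DerivedCategory.isLE_iff X (-n)).2 (fun i hi => hz i (by omega))
    obtain ⟨Y, ⟨e⟩⟩ := exists_iso_singleFunctor_obj_of_isGE_of_isLE X (-n)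
    let eY : Y ≅ ModuleCat.of A A :=
      ((DerivedCategory.singleFunctorCompHomologyFunctorIso (ModuleCat.{u} A) (-n)).app Y).symm ≪≫
        (DerivedCategory.homologyFunctor (ModuleCat.{u} A) (-n)).mapIso e.symm ≪≫
        ε.toModuleIso
    exact ⟨e ≪≫ (DerivedCategory.singleFunctor (ModuleCat.{u} A) (-n)).mapIso eY ≪≫
      (((DerivedCategory.singleFunctors (ModuleCat.{u} A)).shiftIso n (-n) 0 (by lia)).app
        (ModuleCat.of A A)).symm⟩

end Single

section Local

variable [IsLocalRing A] [IsNoetherianRing A]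

/-- over a local ring with a dualizing complex `ω`: Gorenstein iff `ω` is a shift of the ring -/
theorem gorenstein_iff_iso_shift {ω : Dual.D A} (hω : Dual.IsDualizing A ω) :
    LocCoh.IsGorensteinLocalRing A ↔ ∃ n : ℤ, Nonempty (ω ≅ (Dual.inD A A)⟦n⟧) := by
  rw [Groth.Agent.Helper3.GorDual.main_S11179]
  constructor
  · intro hA
    exact Groth.Agent.Helper3.Uniq.main_S1747 A (Dual.inD A A) ω hA hω
  · rintro ⟨n, ⟨e⟩⟩
    have h1 : Dual.IsDualizing A ((Dual.inD A A)⟦n⟧) := isDualizing_of_iso e hω
    have h2 := isDualizing_shift h1 (-n)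
    exact isDualizing_of_iso (shiftShiftNeg (Dual.inD A A) n) h2

end Local

section Locus

variable [IsNoetherianRing A]

/-- the locus where a complex is a shift of the structure sheaf, in terms of cohomology modules -/
def locusN (ω : Dual.D A) (n : ℤ) : Set (PrimeSpectrum A) :=
  {p | (∀ i : ℤ, i ≠ -n → p ∉ Module.support A (Dual.HD A ω i)) ∧
    p ∈ Module.freeLocus A (Dual.HD A ω (-n)) ∧ Module.rankAtStalk (Dual.HD A ω (-n)) p = 1}

lemma subsingleton_tensor_iff (p : PrimeSpectrum A) (M : Type u) [AddCommGroup M] [Module A M] :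
    Subsingleton (Localization.AtPrime p.asIdeal ⊗[A] M) ↔ p ∉ Module.support A M := by
  rw [Module.notMem_support_iff]
  exact (LocalizedModule.equivTensorProduct p.asIdeal.primeCompl M).symm.toEquiv.subsingleton_congr

lemma nonempty_tensor_equiv_iff (p : PrimeSpectrum A) (N : Type u) [AddCommGroup N] [Module A N]
    [Module.Finite A N] :
    Nonempty ((Localization.AtPrime p.asIdeal ⊗[A] N) ≃ₗ[Localization.AtPrime p.asIdeal]
      Localization.AtPrime p.asIdeal) ↔
    p ∈ Module.freeLocus A N ∧ Module.rankAtStalk N p = 1 := by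
  rw [Module.mem_freeLocus_iff_tensor p (Localization.AtPrime p.asIdeal),
    Module.rankAtStalk_eq_finrank_tensorProduct]
  constructor
  · rintro ⟨e⟩
    exact ⟨Module.Free.of_equiv e.symm, by rw [e.finrank_eq, Module.finrank_self]⟩
  · rintro ⟨h1, h2⟩
    haveI := h1
    exact FiniteDimensional.nonempty_linearEquiv_of_finrank_eq (by rw [h2, Module.finrank_self])

theorem gorenstein_localization_iff {ω : Dual.D A} (hω : Dual.IsDualizing A ω)
    (p : PrimeSpectrum A) :
    LocCoh.IsGorensteinLocalRing (Localization.AtPrime p.asIdeal) ↔ ∃ n : ℤ, p ∈ locusN ω n := by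
  haveI : IsNoetherianRing (Localization.AtPrime p.asIdeal) :=
    IsLocalization.isNoetherianRing p.asIdeal.primeCompl _ inferInstance
  haveI : Module.Flat A (Localization.AtPrime p.asIdeal) :=
    IsLocalization.flat _ p.asIdeal.primeCompl
  have hωp := isDualizing_G_of_isLocalization (Localization.AtPrime p.asIdeal)
    p.asIdeal.primeCompl ω hω
  rw [gorenstein_iff_iso_shift hωp]
  have e : ∀ i : ℤ, Dual.HD (Localization.AtPrime p.asIdeal)
      ((G (A := A) (Localization.AtPrime p.asIdeal)).obj ω) i ≃ₗ[Localization.AtPrime p.asIdeal]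
      (Localization.AtPrime p.asIdeal) ⊗[A] Dual.HD A ω i := fun i =>
    (homologyGIso (Localization.AtPrime p.asIdeal) ω i).toLinearEquiv ≪≫ₗ
      (eqvT (Localization.AtPrime p.asIdeal) (Dual.HD A ω i)).symm
  haveI := hω.finite_cohomology
  refine exists_congr fun n => ?_
  rw [nonempty_iso_shift_unit_iff, locusN, Set.mem_setOf_eq, ← nonempty_tensor_equiv_iff]
  refine and_congr (forall_congr' fun i => forall_congr' fun _ => ?_) ?_
  · rw [← subsingleton_tensor_iff]
    exact (e i).toEquiv.subsingleton_congr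
  · exact ⟨fun ⟨ε⟩ => ⟨(e (-n)).symm ≪≫ₗ ε⟩, fun ⟨ε⟩ => ⟨e (-n) ≪≫ₗ ε⟩⟩

theorem isOpen_locusN {ω : Dual.D A} (hω : Dual.IsDualizing A ω) (n : ℤ) :
    IsOpen (locusN ω n) := by
  haveI := hω.finite_cohomology
  obtain ⟨a, b, ha, hb⟩ := bdd_of_isDualizing hω
  have hsupp : ∀ i : ℤ, IsClosed (Module.support A (Dual.HD A ω i)) := fun i => by
    rw [Module.support_eq_zeroLocus]
    exact PrimeSpectrum.isClosed_zeroLocus _
  -- the first condition only involves finitely many degrees
  have h1 : {p : PrimeSpectrum A | ∀ i : ℤ, i ≠ -n → p ∉ Module.support A (Dual.HD A ω i)} =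
      ⋂ i ∈ (Finset.Icc a b).filter (fun i => i ≠ -n), (Module.support A (Dual.HD A ω i))ᶜ := by
    ext p
    simp only [Set.mem_setOf_eq, Set.mem_iInter, Set.mem_compl_iff, Finset.mem_filter,
      Finset.mem_Icc]
    constructor
    · intro h i hi
      exact h i hi.2
    · intro h i hi
      by_cases hab : a ≤ i ∧ i ≤ b
      · exact h i ⟨hab, hi⟩
      · have hz : IsZero ((DerivedCategory.homologyFunctor (ModuleCat.{u} A) i).obj ω) := by
          by_cases hia : a ≤ i
          · exact isZero_of_isLE ω b i (by omega)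
          · exact isZero_of_isGE ω a i (by omega)
        haveI := ModuleCat.subsingleton_of_isZero hz
        rw [Module.support_eq_empty]
        exact Set.notMem_empty _
  have ho1 : IsOpen {p : PrimeSpectrum A |
      ∀ i : ℤ, i ≠ -n → p ∉ Module.support A (Dual.HD A ω i)} := by
    rw [h1]
    exact isOpen_biInter_finset (fun i _ => (hsupp i).isOpen_compl)
  haveI : Module.FinitePresentation A (Dual.HD A ω (-n)) :=
    Module.finitePresentation_of_finite A _
  have ho2 : IsOpen {p : PrimeSpectrum A | p ∈ Module.freeLocus A (Dual.HD A ω (-n)) ∧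
      Module.rankAtStalk (Dual.HD A ω (-n)) p = 1} := by
    have hlc := Module.isLocallyConstant_rankAtStalk_freeLocus (R := A) (M := Dual.HD A ω (-n))
    have hopen : IsOpen ((fun x : Module.freeLocus A (Dual.HD A ω (-n)) =>
        Module.rankAtStalk (Dual.HD A ω (-n)) x.1) ⁻¹' {1}) := hlc.isOpen_fiber 1
    have h2 := (Module.isOpen_freeLocus (R := A) (M := Dual.HD A ω (-n))).isOpenMap_subtype_val _
      hopen
    convert h2 using 1
    ext p
    simp only [Set.mem_setOf_eq, Set.mem_image, Set.mem_preimage, Set.mem_singleton_iff,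
      Subtype.exists, exists_and_right, exists_eq_right]
    constructor
    · rintro ⟨h, h'⟩
      exact ⟨h, h'⟩
    · rintro ⟨h, h'⟩
      exact ⟨h, h'⟩
  exact ho1.inter ho2

theorem main_S0373 (A : Type u) [CommRing A] [IsNoetherianRing A] (ω : Dual.D A)
    (hω : Dual.IsDualizing A ω) :
    IsOpen {p : PrimeSpectrum A |
      LocCoh.IsGorensteinLocalRing (Localization.AtPrime p.asIdeal)} := by
  have h : {p : PrimeSpectrum A |
      LocCoh.IsGorensteinLocalRing (Localization.AtPrime p.asIdeal)} = ⋃ n : ℤ, locusN ω n := by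
    ext p
    rw [Set.mem_setOf_eq, gorenstein_localization_iff hω p, Set.mem_iUnion]
  rw [h]
  exact isOpen_iUnion (fun n => isOpen_locusN hω n)

end Locus

end Groth.Agent.Helper3.GorLocus
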