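import Mathlib
import Groth.Prelude.Def_Wider
import Groth.Prelude.Def_DDual2
import Groth.Prelude.Def_DualSh
import Groth.Agent.Lib.Helper3.GorBC5
import Groth.Agent.Lib.Helper3.FinAdj5
import Groth.Agent.Lib.Helper3.GorLocus

/-!
# The upper shriek of a dualizing complex along a finite type map is dualizing
-/

set_option autoImplicit false
universe u
open CategoryTheory CategoryTheory.Limits DerivedCategory Pretriangulated Triangulated TensorProduct

attribute [local instance] HasDerivedCategory.standard

namespace Groth.Agent.Helper3.GorBC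

open Groth.Agent.Helper3.FinAdj

theorem main_S1782 (R A : Type u) [CommRing R] [CommRing A] [IsNoetherianRing R]
    [IsNoetherianRing A] [Algebra R A] (n : ℕ) (ψ : MvPolynomial (Fin n) R →ₐ[R] A)
    (hψ : Function.Surjective ψ)
    [DRing.HasLBaseChange (algebraMap R (MvPolynomial (Fin n) R))]
    (Rψ : Dual.D (MvPolynomial (Fin n) R) ⥤ Dual.D A) (adj : DRing.restrictD ψ.toRingHom ⊣ Rψ)
    (ω : Dual.D R) (hω : Dual.IsDualizing R ω) :
    Dual.IsDualizing A (Dual2.shriekVia n Rψ ω) := by
  haveI : Algebra.Smooth R (MvPolynomial (Fin n) R) := ⟨inferInstance, inferInstance⟩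
  have h1 : Dual.IsDualizing (MvPolynomial (Fin n) R)
      ((DRing.LBaseChange (algebraMap R (MvPolynomial (Fin n) R))).obj ω) :=
    main_S11177 R (MvPolynomial (Fin n) R) ω hω
  letI : Algebra (MvPolynomial (Fin n) R) A := ψ.toRingHom.toAlgebra
  haveI : Module.Finite (MvPolynomial (Fin n) R) A :=
    Module.Finite.of_surjective (Algebra.linearMap (MvPolynomial (Fin n) R) A) hψ
  have h2 : Dual.IsDualizing A
      (Rψ.obj ((DRing.LBaseChange (algebraMap R (MvPolynomial (Fin n) R))).obj ω)) :=
    main_S1772 (MvPolynomial (Fin n) R) A Rψ adj _ h1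
  exact Groth.Agent.Helper3.GorLocus.isDualizing_shift h2 (n : ℤ)

end Groth.Agent.Helper3.GorBC
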