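import Mathlib
import Groth.Prelude.Def_Wider
import Groth.Prelude.Def_DDual2
import Groth.Agent.Lib.Helper3.GorBC2
import Groth.Agent.Lib.Helper4.DimFT1

/-!
# The degree of the residue field `Ext` after flat base change with Gorenstein fibres
-/

set_option autoImplicit false
universe u
open CategoryTheory CategoryTheory.Limits DerivedCategory Pretriangulated Triangulated TensorProduct

attribute [local instance] HasDerivedCategory.standard

namespace Groth.Agent.Helper3.GorBC

open Groth.Agent.Helper3.BCAbs Groth.Agent.Helper3.BCDer Groth.Agent.Helper3.BCDual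
  Groth.Agent.Helper3.BCDesc Groth.Agent.Helper5.FlatBC Groth.Agent.Helper3.DualCx
  Groth.Agent.Helper3.BassLem Groth.Agent.Helper3.BCFlat Groth.Agent.Helper3.Crit
  Groth.Agent.Helper3.FinAdj Groth.Agent.Helper3.GorFib Groth.Agent.Helper8.GorFlat LocCoh

section Local

variable {A : Type u} [CommRing A] [IsNoetherianRing A] (B : Type u) [CommRing B] [Algebra A B]
  [Module.Flat A B] [IsNoetherianRing B]

/-- the refined local statement: if `Ext^•(A/p, ω)` is concentrated in degree `d₀` and the fibre
local ring at `m` is Gorenstein of dimension `n`, then `Ext^•(κ(m), (ω ⊗ B)_m)` is `κ(m)` in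
degree `d₀ + n` -/
theorem ext_residue_of_fibre (ω : Dual.D A) (hω : Dual.IsDualizing A ω) (a : ℤ) [ω.IsGE a]
    (m : Ideal B) [m.IsPrime]
    (hG : IsGorensteinLocalRing (EGA4.FibLocRing A B m)) (d₀ : ℤ)
    (hd₀ : ∀ j : ℤ, j ≠ d₀ → Van ω j (A ⧸ m.comap (algebraMap A B))) (n : ℕ)
    (hn : ringKrullDim (EGA4.FibLocRing A B m) = n) :
    (∀ j : ℤ, j ≠ d₀ + n →
      Van ((G (A := B) (Localization.AtPrime m)).obj ((G (A := A) B).obj ω)) j
        (Localization.AtPrime m ⧸ IsLocalRing.maximalIdeal (Localization.AtPrime m))) ∧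
      Nonempty ((Dual.inD (Localization.AtPrime m)
          (Localization.AtPrime m ⧸ IsLocalRing.maximalIdeal (Localization.AtPrime m)) ⟶
          ((G (A := B) (Localization.AtPrime m)).obj
            ((G (A := A) B).obj ω))⟦d₀ + n⟧) ≃ₗ[Localization.AtPrime m]
        (Localization.AtPrime m ⧸ IsLocalRing.maximalIdeal (Localization.AtPrime m))) := by
  haveI : IsNoetherianRing (Localization.AtPrime m) :=
    IsLocalization.isNoetherianRing m.primeCompl _ inferInstance
  haveI : Module.Flat B (Localization.AtPrime m) := IsLocalization.flat _ m.primeCompl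
  haveI := isGE_G B ω a
  haveI := isGE_G (Localization.AtPrime m) ((G (A := A) B).obj ω) a
  have hbω := bdd_of_isDualizing hω
  have hbG := bdd_G B ω hbω
  obtain ⟨d, hvan, ⟨ε⟩⟩ := exists_ext_fibre B ω hω m
  have hP' : (m.comap (algebraMap A B)).map (algebraMap A (Localization.AtPrime m)) =
      ((m.comap (algebraMap A B)).map (algebraMap A B)).map
        (algebraMap B (Localization.AtPrime m)) := by
    rw [Ideal.map_map, ← IsScalarTower.algebraMap_eq]
  have hGF : IsGorensteinLocalRing (Localization.AtPrime m ⧸
      ((m.comap (algebraMap A B)).map (algebraMap A B)).map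
        (algebraMap B (Localization.AtPrime m))) :=
    isGorensteinLocalRing_of_ringEquiv (Ideal.quotEquivOfEq hP') hG
  haveI : IsLocalRing (Localization.AtPrime m ⧸
      ((m.comap (algebraMap A B)).map (algebraMap A B)).map
        (algebraMap B (Localization.AtPrime m))) := hGF.toIsLocalRing
  haveI : IsNoetherianRing (Localization.AtPrime m ⧸
      ((m.comap (algebraMap A B)).map (algebraMap A B)).map
        (algebraMap B (Localization.AtPrime m))) := hGF.toIsNoetherian
  have hCM := Groth.Agent.Helper8.Goren.isCohenMacaulayLocalRing_of_isGorensteinLocalRing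
    (Localization.AtPrime m ⧸ ((m.comap (algebraMap A B)).map (algebraMap A B)).map
        (algebraMap B (Localization.AtPrime m)))
  obtain ⟨n', hn'⟩ := exists_numCM_of_cm _ hCM
  have hsurj : Function.Surjective (algebraMap (Localization.AtPrime m)
      (Localization.AtPrime m ⧸ ((m.comap (algebraMap A B)).map (algebraMap A B)).map
        (algebraMap B (Localization.AtPrime m)))) := Ideal.Quotient.mk_surjective
  have hres := residue_of_gorenstein
    ((G (A := B) (Localization.AtPrime m)).obj ((G (A := A) B).obj ω)) a n' _ hsurj hn' hGF d hvan ⟨ε⟩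
  have hd : d = d₀ := by
    by_contra hne
    have hv : Van ((G (A := B) (Localization.AtPrime m)).obj ((G (A := A) B).obj ω)) d
        (Localization.AtPrime m ⧸ ((m.comap (algebraMap A B)).map (algebraMap A B)).map
          (algebraMap B (Localization.AtPrime m))) :=
      van_G_cyclic (Localization.AtPrime m) _ hbG _ d
        (van_G_cyclic B ω hbω (m.comap (algebraMap A B)) d (hd₀ d hne))
    haveI : Subsingleton (Dual.inD (Localization.AtPrime m) (Localization.AtPrime m ⧸
        ((m.comap (algebraMap A B)).map (algebraMap A B)).map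
          (algebraMap B (Localization.AtPrime m))) ⟶
        ((G (A := B) (Localization.AtPrime m)).obj ((G (A := A) B).obj ω))⟦d⟧) := hv
    have hs : Subsingleton (Localization.AtPrime m ⧸
        ((m.comap (algebraMap A B)).map (algebraMap A B)).map
          (algebraMap B (Localization.AtPrime m))) := ε.symm.toEquiv.subsingleton
    exact not_subsingleton _ hs
  have hnn : n' = n := by
    have h1 := ringKrullDim_eq_of_ringEquiv (Ideal.quotEquivOfEq hP')
    rw [hn, hn'.1] at h1
    exact_mod_cast h1.symm
  rw [hd, hnn] at hres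
  exact hres

end Local

section PolyFibre

variable (R : Type u) [CommRing R] (n : ℕ)

/-- the local ring of a polynomial ring over a field-fibre at a closed point has dimension `n` -/
theorem ringKrullDim_fibLocRing_mvPolynomial (p : Ideal R) [p.IsMaximal]
    (M : Ideal (MvPolynomial (Fin n) R)) [M.IsMaximal]
    (h : M.comap (algebraMap R (MvPolynomial (Fin n) R)) = p) :
    ringKrullDim (EGA4.FibLocRing R (MvPolynomial (Fin n) R) M) = n := by
  obtain ⟨Q', hQ', hQ'M⟩ := Groth.Agent.Helper8.Fib.exists_fiber_prime p M h
  haveI := hQ'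
  obtain ⟨e⟩ := Groth.Agent.Helper8.Fib.nonempty_ringEquiv_fibLocRing p Q' M hQ'M
  rw [← ringKrullDim_eq_of_ringEquiv e,
    IsLocalization.AtPrime.ringKrullDim_eq_height Q' (Localization.AtPrime Q')]
  have hsurj : Function.Surjective (Algebra.TensorProduct.includeRight :
      MvPolynomial (Fin n) R →ₐ[R] p.Fiber (MvPolynomial (Fin n) R)) := by
    intro z
    induction z using TensorProduct.induction_on with
    | zero => exact ⟨0, map_zero _⟩
    | tmul c x =>
      obtain ⟨r, rfl⟩ := p.algebraMap_residueField_surjective c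
      refine ⟨r • x, ?_⟩
      rw [Algebra.TensorProduct.includeRight_apply, TensorProduct.tmul_smul,
        TensorProduct.smul_tmul', Algebra.algebraMap_eq_smul_one]
    | add x y hx hy =>
      obtain ⟨a, rfl⟩ := hx
      obtain ⟨b, rfl⟩ := hy
      exact ⟨a + b, map_add _ _ _⟩
  haveI hQmax : Q'.IsMaximal := by
    have h1 : Q' = M.map (Algebra.TensorProduct.includeRight :
        MvPolynomial (Fin n) R →ₐ[R] p.Fiber (MvPolynomial (Fin n) R)) := by
      rw [← hQ'M, Ideal.map_comap_of_surjective _ hsurj]
    rw [h1]
    refine Ideal.IsMaximal.map_of_surjective_of_ker_le hsurj ?_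
    rw [← hQ'M]
    exact Ideal.comap_mono bot_le
  let ε : p.Fiber (MvPolynomial (Fin n) R) ≃+* MvPolynomial (Fin n) p.ResidueField :=
    (MvPolynomial.algebraTensorAlgEquiv R p.ResidueField (σ := Fin n)).toRingEquiv
  rw [← ε.height_map Q']
  haveI : (Q'.map ε).IsMaximal := Ideal.map_isMaximal_of_equiv ε
  rw [Groth.Agent.Lib.Helper4.DimFT1.mvPolynomial_height_of_isMaximal]
  rfl

end PolyFibre

end Groth.Agent.Helper3.GorBC
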