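import Mathlib
import Groth.Prelude.Def_Wider
import Groth.Prelude.Def_DDual2
import Groth.Prelude.Def_DualSh
import Groth.Agent.Lib.Helper3.GorBC6
import Groth.Agent.Lib.Helper3.GorBC7
import Groth.Agent.Lib.Helper3.FinEx3

/-!
# The upper shriek of a normalized dualizing complex is normalized at closed points
-/

set_option autoImplicit false
universe u
open CategoryTheory CategoryTheory.Limits DerivedCategory Pretriangulated Triangulated TensorProduct

attribute [local instance] HasDerivedCategory.standard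

namespace Groth.Agent.Helper3.GorBC

open Groth.Agent.Helper3.BCAbs Groth.Agent.Helper3.BCDer Groth.Agent.Helper3.BCDual
  Groth.Agent.Helper3.BCDesc Groth.Agent.Helper5.FlatBC Groth.Agent.Helper3.DualCx
  Groth.Agent.Helper3.BassLem Groth.Agent.Helper3.BCFlat Groth.Agent.Helper3.Crit
  Groth.Agent.Helper3.FinAdj Groth.Agent.Helper3.GorFib Groth.Agent.Helper8.GorFlat LocCoh
  Groth.Agent.Helper3.FinEx

section Poly

variable (R : Type u) [CommRing R] [IsNoetherianRing R] [IsLocalRing R] (n : ℕ)

/-- over a polynomial ring on a local ring with normalized dualizing complex `ω`, the `Ext` of the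
residue field of a closed point over the closed point into `ω ⊗ P` sits in degree `n` -/
theorem ext_poly_residue (ω : Dual.D R) (hω : Dual.IsDualizing R ω) (hn : Dual.IsNormalized R ω)
    (M : Ideal (MvPolynomial (Fin n) R)) [M.IsMaximal]
    (hM : M.comap (algebraMap R (MvPolynomial (Fin n) R)) = IsLocalRing.maximalIdeal R) :
    (∀ j : ℤ, j ≠ n → Van ((G (A := R) (MvPolynomial (Fin n) R)).obj ω) j
      (MvPolynomial (Fin n) R ⧸ M)) ∧
    Nonempty ((Dual.inD (MvPolynomial (Fin n) R) (MvPolynomial (Fin n) R ⧸ M) ⟶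
      ((G (A := R) (MvPolynomial (Fin n) R)).obj ω)⟦(n : ℤ)⟧) ≃ₗ[MvPolynomial (Fin n) R]
        (MvPolynomial (Fin n) R ⧸ M)) := by
  haveI : Algebra.Smooth R (MvPolynomial (Fin n) R) := ⟨inferInstance, inferInstance⟩
  have hωP := isDualizing_G_of_smooth R (MvPolynomial (Fin n) R) ω hω
  obtain ⟨a, b, hab⟩ := hω.finite_injective_dimension
  haveI : ω.IsGE a := by
    rw [DerivedCategory.isGE_iff]
    intro i hi
    have h1 : Van ω i R := hab R i (Or.inl hi)
    rw [van_self_iff] at h1
    exact ModuleCat.isZero_of_subsingleton _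
  have hd₀ : ∀ j : ℤ, j ≠ 0 → Van ω j
      (R ⧸ M.comap (algebraMap R (MvPolynomial (Fin n) R))) := by
    intro j hj
    rw [hM]
    exact hn j hj
  have hdim := ringKrullDim_fibLocRing_mvPolynomial R n (IsLocalRing.maximalIdeal R) M hM
  have hG := fibLocRing_of_formallySmooth R (MvPolynomial (Fin n) R) M
  obtain ⟨h1, -⟩ := ext_residue_of_fibre (MvPolynomial (Fin n) R) ω hω a M hG 0 hd₀ n hdim
  obtain ⟨d', hv', ⟨ε'⟩⟩ := DualFun.main_S0364 (MvPolynomial (Fin n) R) _ hωP M
  have hd' : d' = n := by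
    by_contra hne
    haveI : IsNoetherianRing (Localization.AtPrime M) :=
      IsLocalization.isNoetherianRing M.primeCompl _ inferInstance
    haveI : Module.Flat (MvPolynomial (Fin n) R) (Localization.AtPrime M) :=
      IsLocalization.flat _ M.primeCompl
    have h2 := h1 d' (by omega)
    have hmax : M.map (algebraMap (MvPolynomial (Fin n) R) (Localization.AtPrime M)) =
        IsLocalRing.maximalIdeal (Localization.AtPrime M) :=
      Localization.AtPrime.map_eq_maximalIdeal
    have h3 : Van ((G (A := MvPolynomial (Fin n) R) (Localization.AtPrime M)).obj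
        ((G (A := R) (MvPolynomial (Fin n) R)).obj ω)) d'
        (Localization.AtPrime M ⧸
          M.map (algebraMap (MvPolynomial (Fin n) R) (Localization.AtPrime M))) :=
      van_of_equiv _ d' (Submodule.quotEquivOfEq _ _ hmax.symm) h2
    haveI : Subsingleton (Dual.inD (Localization.AtPrime M) (Localization.AtPrime M ⧸
          M.map (algebraMap (MvPolynomial (Fin n) R) (Localization.AtPrime M))) ⟶
        ((G (A := MvPolynomial (Fin n) R) (Localization.AtPrime M)).obj
          ((G (A := R) (MvPolynomial (Fin n) R)).obj ω))⟦d'⟧) := h3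
    have e1 := extBCEquiv (Localization.AtPrime M) ((G (A := R) (MvPolynomial (Fin n) R)).obj ω)
      (bdd_of_isDualizing hωP) M d'
    haveI : Subsingleton ((Localization.AtPrime M) ⊗[MvPolynomial (Fin n) R]
        (Dual.inD (MvPolynomial (Fin n) R) (MvPolynomial (Fin n) R ⧸ M) ⟶
          ((G (A := R) (MvPolynomial (Fin n) R)).obj ω)⟦d'⟧)) := e1.toEquiv.subsingleton
    let e2 : (Localization.AtPrime M) ⊗[MvPolynomial (Fin n) R]
        (Dual.inD (MvPolynomial (Fin n) R) (MvPolynomial (Fin n) R ⧸ M) ⟶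
          ((G (A := R) (MvPolynomial (Fin n) R)).obj ω)⟦d'⟧) ≃ₗ[Localization.AtPrime M]
        (Localization.AtPrime M) ⊗[MvPolynomial (Fin n) R] (MvPolynomial (Fin n) R ⧸ M) :=
      TensorProduct.AlgebraTensorModule.congr (LinearEquiv.refl _ _) ε'
    let e3 : (Localization.AtPrime M) ⊗[MvPolynomial (Fin n) R] (MvPolynomial (Fin n) R ⧸ M)
        ≃ₗ[Localization.AtPrime M] (Localization.AtPrime M ⧸
          M.map (algebraMap (MvPolynomial (Fin n) R) (Localization.AtPrime M))) :=
      (Algebra.TensorProduct.quotIdealMapEquivTensorQuot (Localization.AtPrime M)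
        M).symm.toLinearEquiv
    haveI : Subsingleton (Localization.AtPrime M ⧸
          M.map (algebraMap (MvPolynomial (Fin n) R) (Localization.AtPrime M))) :=
      (e2 ≪≫ₗ e3).symm.toEquiv.subsingleton
    have htop : M.map (algebraMap (MvPolynomial (Fin n) R) (Localization.AtPrime M)) = ⊤ :=
      Ideal.Quotient.subsingleton_iff.1 inferInstance
    rw [hmax] at htop
    exact (IsLocalRing.maximalIdeal.isMaximal _).ne_top htop
  subst hd'
  exact ⟨hv', ⟨ε'⟩⟩

end Poly

section Transport

variable {A : Type u} [CommRing A]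

lemma van_of_iso {K K' : Dual.D A} (e : K ≅ K') (i : ℤ) (M : Type u) [AddCommGroup M]
    [Module A M] (h : Van K i M) : Van K' i M := by
  haveI : Subsingleton (Dual.inD A M ⟶ K⟦i⟧) := h
  exact (Iso.homCongr (Iso.refl (Dual.inD A M))
    ((shiftFunctor (Dual.D A) i).mapIso e)).symm.subsingleton

lemma van_shift (K : Dual.D A) (s i : ℤ) (M : Type u) [AddCommGroup M] [Module A M]
    (h : Van K (s + i) M) : Van (K⟦s⟧) i M := by
  haveI : Subsingleton (Dual.inD A M ⟶ K⟦s + i⟧) := h
  let e : K⟦s + i⟧ ≅ (K⟦s⟧)⟦i⟧ := (shiftFunctorAdd' (Dual.D A) s i (s + i) rfl).app K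
  show Subsingleton (Dual.inD A M ⟶ (K⟦s⟧)⟦i⟧)
  refine ⟨fun f g => ?_⟩
  have h1 : f ≫ e.inv = g ≫ e.inv := Subsingleton.elim _ _
  exact (cancel_mono e.inv).1 h1

end Transport

theorem main_S1789 (R A : Type u) [CommRing R] [CommRing A] [IsNoetherianRing R]
    [IsNoetherianRing A] [Algebra R A] (n : ℕ) (ψ : MvPolynomial (Fin n) R →ₐ[R] A)
    (hψ : Function.Surjective ψ)
    [DRing.HasLBaseChange (algebraMap R (MvPolynomial (Fin n) R))]
    (Rψ : Dual.D (MvPolynomial (Fin n) R) ⥤ Dual.D A) (adj : DRing.restrictD ψ.toRingHom ⊣ Rψ)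
    [IsLocalRing R] (m : Ideal A) [m.IsMaximal]
    (hm : m.comap (algebraMap R A) = IsLocalRing.maximalIdeal R) (ω : Dual.D R)
    (hω : Dual.IsDualizing R ω) (hn : Dual.IsNormalized R ω)
    [DRing.HasLBaseChange (algebraMap A (Localization.AtPrime m))] :
    Dual.IsDualizing (Localization.AtPrime m)
        ((DRing.LBaseChange (algebraMap A (Localization.AtPrime m))).obj
          (Dual2.shriekVia n Rψ ω)) ∧
      Dual.IsNormalized (Localization.AtPrime m)
        ((DRing.LBaseChange (algebraMap A (Localization.AtPrime m))).obj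
          (Dual2.shriekVia n Rψ ω)) := by
  have hX := main_S1782 R A n ψ hψ Rψ adj ω hω
  haveI : IsNoetherianRing (Localization.AtPrime m) :=
    IsLocalization.isNoetherianRing m.primeCompl _ inferInstance
  haveI : Module.Flat A (Localization.AtPrime m) := IsLocalization.flat _ m.primeCompl
  have hZ : Dual.IsDualizing (Localization.AtPrime m)
      ((G (A := A) (Localization.AtPrime m)).obj (Dual2.shriekVia n Rψ ω)) :=
    isDualizing_G_of_isLocalization (Localization.AtPrime m) m.primeCompl _ hX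
  let eZ := (lbcIsoG (A := A) (Localization.AtPrime m)).app (Dual2.shriekVia n Rψ ω)
  refine ⟨isDualizing_of_iso eZ.symm hZ, ?_⟩
  -- the normalization
  letI : Algebra (MvPolynomial (Fin n) R) A := ψ.toRingHom.toAlgebra
  haveI : Module.Finite (MvPolynomial (Fin n) R) A :=
    Module.Finite.of_surjective (Algebra.linearMap (MvPolynomial (Fin n) R) A) hψ
  haveI hMmax : (m.comap (algebraMap (MvPolynomial (Fin n) R) A)).IsMaximal :=
    Ideal.comap_isMaximal_of_surjective _ hψ
  have hM : (m.comap (algebraMap (MvPolynomial (Fin n) R) A)).comap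
      (algebraMap R (MvPolynomial (Fin n) R)) = IsLocalRing.maximalIdeal R := by
    rw [← hm]
    ext r
    simp only [Ideal.mem_comap]
    have : algebraMap (MvPolynomial (Fin n) R) A (algebraMap R (MvPolynomial (Fin n) R) r) =
        algebraMap R A r := ψ.commutes r
    rw [this]
  obtain ⟨hvP, ⟨εP⟩⟩ := ext_poly_residue R n ω hω hn
    (m.comap (algebraMap (MvPolynomial (Fin n) R) A)) hM
  -- transport to the `LBaseChange` version
  let e₀ := (lbcIsoG (A := R) (MvPolynomial (Fin n) R)).app ω
  have hvP' : ∀ j : ℤ, j ≠ n → Van ((DRing.LBaseChange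
      (algebraMap R (MvPolynomial (Fin n) R))).obj ω) j
      (MvPolynomial (Fin n) R ⧸ m.comap (algebraMap (MvPolynomial (Fin n) R) A)) :=
    fun j hj => van_of_iso e₀.symm j _ (hvP j hj)
  let εP' : (Dual.inD (MvPolynomial (Fin n) R)
      (MvPolynomial (Fin n) R ⧸ m.comap (algebraMap (MvPolynomial (Fin n) R) A)) ⟶
      ((DRing.LBaseChange (algebraMap R (MvPolynomial (Fin n) R))).obj ω)⟦(n : ℤ)⟧)
        ≃ₗ[MvPolynomial (Fin n) R]
      (MvPolynomial (Fin n) R ⧸ m.comap (algebraMap (MvPolynomial (Fin n) R) A)) :=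
    Linear.homCongr (MvPolynomial (Fin n) R) (Iso.refl _)
      ((shiftFunctor (Dual.D (MvPolynomial (Fin n) R)) (n : ℤ)).mapIso e₀) ≪≫ₗ εP
  obtain ⟨hvA, -⟩ := residue_R adj
    ((DRing.LBaseChange (algebraMap R (MvPolynomial (Fin n) R))).obj ω) m n hvP' εP'
  -- shift and localize
  have hvX : ∀ i : ℤ, i ≠ 0 → Van (Dual2.shriekVia n Rψ ω) i (A ⧸ m) :=
    fun i hi => van_shift _ (n : ℤ) i _ (hvA ((n : ℤ) + i) (by omega))
  intro i hi
  have h1 := van_G_cyclic (Localization.AtPrime m) (Dual2.shriekVia n Rψ ω)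
    (bdd_of_isDualizing hX) m i (hvX i hi)
  have hmax : m.map (algebraMap A (Localization.AtPrime m)) =
      IsLocalRing.maximalIdeal (Localization.AtPrime m) :=
    Localization.AtPrime.map_eq_maximalIdeal
  have h2 : Van ((G (A := A) (Localization.AtPrime m)).obj (Dual2.shriekVia n Rψ ω)) i
      (Localization.AtPrime m ⧸ IsLocalRing.maximalIdeal (Localization.AtPrime m)) :=
    van_of_equiv _ i (Submodule.quotEquivOfEq _ _ hmax) h1
  exact van_of_iso eZ.symm i _ h2

end Groth.Agent.Helper3.GorBC
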