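import Mathlib
import Groth.Prelude.Def_Wider
import Groth.Prelude.Def_DRing2
import Groth.Agent.Lib.Helper3.DualFun3
import Groth.Agent.Lib.Helper1.MatlisL2

/-!
# Dualizing complexes over Artinian local rings
-/

set_option autoImplicit false
universe u
open CategoryTheory CategoryTheory.Limits Pretriangulated Triangulated Opposite

attribute [local instance] HasDerivedCategory.standard

namespace Groth.Agent.Helper3.DualFun

open DerivedCategory Groth.Agent.Helper3.DualCx Groth.Agent.Helper3.RegGlDim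

variable {A : Type u} [CommRing A]

section General

variable [IsNoetherianRing A] (ω : Dual.D A)

/-- dévissage over all primes -/
theorem van_of_forall_prime (i : ℤ) (h : ∀ p : PrimeSpectrum A, Van ω i (A ⧸ p.asIdeal))
    (M : Type u) [AddCommGroup M] [Module A M] [hM : Module.Finite A M] : Van ω i M := by
  induction hM using IsNoetherianRing.induction_on_isQuotientEquivQuotientPrime A with
  | subsingleton N => exact van_of_subsingleton ω i N
  | quotient N p e => exact van_of_equiv ω i e.symm (h p)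
  | exact N₁ N₂ N₃ f g hf hg hfg h₁ h₃ => exact van_of_exact ω i f g hf hg hfg h₁ h₃

/-- a module `W` with `Ext^1(A/I, W) = 0` for all ideals `I` is injective; stated for an
object `ω ≅ W[0]` of the derived category -/
theorem injective_of_van (W : ModuleCat.{u} A)
    (e : ω ≅ (DerivedCategory.singleFunctor (ModuleCat.{u} A) 0).obj W)
    (h : ∀ I : Ideal A, Van ω 1 (A ⧸ I)) : Module.Injective A W := by
  apply Module.Baer.injective
  intro I g
  let φ : Dual.inD A I ⟶ ω⟦(0 : ℤ)⟧ :=
    (DerivedCategory.singleFunctor (ModuleCat.{u} A) 0).map (ModuleCat.ofHom g) ≫ e.inv ≫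
      (shiftFunctorZero (Dual.D A) ℤ).inv.app ω
  obtain ⟨ψ, hψ⟩ := exists_extension ω 0 I.subtype I.mkQ (Submodule.injective_subtype I)
    (Submodule.mkQ_surjective I) (LinearMap.exact_subtype_mkQ I) (h I) φ
  let ψ' : (DerivedCategory.singleFunctor (ModuleCat.{u} A) 0).obj (ModuleCat.of A A) ⟶
      (DerivedCategory.singleFunctor (ModuleCat.{u} A) 0).obj W :=
    ψ ≫ (shiftFunctorZero (Dual.D A) ℤ).hom.app ω ≫ e.hom
  obtain ⟨g', hg'⟩ := (DerivedCategory.singleFunctor (ModuleCat.{u} A) 0).map_surjective ψ'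
  refine ⟨g'.hom, fun x hx => ?_⟩
  have h1 : (DerivedCategory.singleFunctor (ModuleCat.{u} A) 0).map
      (ModuleCat.ofHom I.subtype ≫ g') =
      (DerivedCategory.singleFunctor (ModuleCat.{u} A) 0).map (ModuleCat.ofHom g) := by
    rw [Functor.map_comp, hg']
    simp only [ψ']
    rw [← Category.assoc, ← hψ]
    simp [φ]
  have h2 := (DerivedCategory.singleFunctor (ModuleCat.{u} A) 0).map_injective h1
  have h3 := congrArg (fun k => k.hom ⟨x, hx⟩) h2
  simpa using h3

/-- `Hom_A(M, W) ≃ Hom_{D(A)}(M, ω[0])` for `ω ≅ W[0]` -/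
noncomputable def homEquivOfIso (W : ModuleCat.{u} A)
    (e : ω ≅ (DerivedCategory.singleFunctor (ModuleCat.{u} A) 0).obj W)
    (M : Type u) [AddCommGroup M] [Module A M] :
    (M →ₗ[A] W) ≃ₗ[A] (Dual.inD A M ⟶ ω⟦(0 : ℤ)⟧) :=
  (ModuleCat.homLinearEquiv (S := A) (M := ModuleCat.of A M) (N := W)).symm ≪≫ₗ
    LinearEquiv.ofBijective
      ((DerivedCategory.singleFunctor (ModuleCat.{u} A) 0).mapLinearMap A)
      ⟨(DerivedCategory.singleFunctor (ModuleCat.{u} A) 0).map_injective,
        (DerivedCategory.singleFunctor (ModuleCat.{u} A) 0).map_surjective⟩ ≪≫ₗ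
    Linear.homCongr A (Iso.refl _) (e.symm ≪≫ ((shiftFunctorZero (Dual.D A) ℤ).app ω).symm)

end General

section Artinian

theorem main_S0375 (A : Type u) [CommRing A] [IsLocalRing A] [IsNoetherianRing A]
    (h0 : ringKrullDim A = 0) (ω : Dual.D A) (hω : Dual.IsDualizing A ω)
    (hn : Dual.IsNormalized A ω) (E : Type u) [AddCommGroup E] [Module A E]
    (f : IsLocalRing.ResidueField A →ₗ[A] E) (hf : InjHull.IsInjectiveHull f) :
    Nonempty (ω ≅ Dual.inD A E) := by
  haveI hK : Ring.KrullDimLE 0 A := by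
    rw [Ring.krullDimLE_iff, h0]
    rfl
  -- every prime is the maximal ideal
  have hprime : ∀ p : PrimeSpectrum A, p.asIdeal = IsLocalRing.maximalIdeal A := by
    intro p
    have := Ring.krullDimLE_zero_iff.1 hK p.asIdeal p.isPrime
    exact IsLocalRing.eq_maximalIdeal this
  -- vanishing of `Ext^i(M, ω)` for `i ≠ 0`
  have hvan : ∀ (i : ℤ), i ≠ 0 → ∀ (M : Type u) [AddCommGroup M] [Module A M]
      [Module.Finite A M], Van ω i M := by
    intro i hi M _ _ _
    refine van_of_forall_prime ω i (fun p => ?_) M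
    rw [hprime p]
    exact van_residue hn i hi
  -- `ω` is a module in degree `0`
  haveI : ω.IsGE 0 := isGE_of_subsingleton ω 0
    (fun i hi => (van_self_iff ω i).1 (hvan i (by omega) A))
  haveI : ω.IsLE 0 := isLE_of_subsingleton ω 0
    (fun i hi => (van_self_iff ω i).1 (hvan i (by omega) A))
  obtain ⟨W, ⟨e⟩⟩ := exists_iso_singleFunctor_obj_of_isGE_of_isLE ω 0
  -- `W` is injective
  have hWinj : Module.Injective A W :=
    injective_of_van ω W e (fun I => hvan 1 one_ne_zero (A ⧸ I))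
  -- `W` is power torsion
  haveI hArt : IsArtinianRing A := isArtinianRing_iff_krullDimLE_zero.2 hK
  obtain ⟨n, hn'⟩ := (isArtinianRing_iff_isNilpotent_maximalIdeal A).1 hArt
  have hWtors : LocCoh.IsPowerTorsion (IsLocalRing.maximalIdeal A) W := by
    intro w
    refine ⟨n, fun a ha => ?_⟩
    rw [hn'] at ha
    have : a = 0 := by simpa using ha
    rw [this, zero_smul]
  -- `Hom(κ, W)` is simple
  obtain ⟨n₀, hn₀, ⟨ε⟩⟩ := main_S0364 A ω hω (IsLocalRing.maximalIdeal A)
  haveI : Nontrivial (A ⧸ IsLocalRing.maximalIdeal A) :=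
    Ideal.Quotient.nontrivial_iff.2 (IsLocalRing.maximalIdeal.isMaximal A).ne_top
  have hn₀0 : n₀ = 0 := by
    by_contra hne
    have : Subsingleton (Dual.inD A (A ⧸ IsLocalRing.maximalIdeal A) ⟶ ω⟦n₀⟧) :=
      van_residue hn n₀ hne
    exact not_subsingleton _ ε.symm.toEquiv.subsingleton
  subst hn₀0
  have hsimple : IsSimpleModule A (IsLocalRing.ResidueField A →ₗ[A] W) := by
    haveI : IsSimpleModule A (A ⧸ IsLocalRing.maximalIdeal A) :=
      isSimpleModule_iff_isCoatom.2 (Ideal.isMaximal_def.1 (IsLocalRing.maximalIdeal.isMaximal A))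
    let E1 : ((A ⧸ IsLocalRing.maximalIdeal A) →ₗ[A] W) ≃ₗ[A] (A ⧸ IsLocalRing.maximalIdeal A) :=
      homEquivOfIso ω W e (A ⧸ IsLocalRing.maximalIdeal A) ≪≫ₗ ε
    exact (E1.isSimpleModule_iff).2 inferInstance
  obtain ⟨g, hg⟩ := (Groth.Agent.Helper1.MatlisL2.isInjectiveHull_iff (R := A) (E := W)).2
    ⟨hWinj, hWtors, hsimple⟩
  obtain ⟨eEW, -⟩ := Groth.Agent.Helper1.InjHullL.injectiveHull_unique f hf g hg
  exact ⟨e ≪≫ (DerivedCategory.singleFunctor (ModuleCat.{u} A) 0).mapIso eEW.symm.toModuleIso⟩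

end Artinian

end Groth.Agent.Helper3.DualFun
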