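import Mathlib
import Groth.Prelude.Def_Wider
import Groth.Prelude.Def_DRing2
import Groth.Agent.Lib.Helper3.DualFun5
import Groth.Agent.Lib.Helper3.DualSupp2
import Groth.Agent.Lib.Helper1.MatlisL

/-!
# Dualizing complexes: the dualizing functor on modules of finite length
-/

set_option autoImplicit false
universe u
open CategoryTheory CategoryTheory.Limits Pretriangulated Triangulated Opposite

attribute [local instance] HasDerivedCategory.standard

namespace Groth.Agent.Helper3.DualFL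

open DerivedCategory Groth.Agent.Helper3.DualCx Groth.Agent.Helper3.RegGlDim
  Groth.Agent.Helper3.DualFun

variable {A : Type u} [CommRing A]

section ExtMap

variable (Y : Dual.D A) {M N P : Type u} [AddCommGroup M] [Module A M] [AddCommGroup N]
  [Module A N] [AddCommGroup P] [Module A P]

lemma extMap_add (f g : M →ₗ[A] N) : extMap Y (f + g) = extMap Y f + extMap Y g := by
  ext φ
  have h1 : ModuleCat.ofHom (f + g) = ModuleCat.ofHom f + ModuleCat.ofHom g := rfl
  rw [LinearMap.add_apply, extMap_apply, extMap_apply, extMap_apply, h1, Functor.map_add,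
    Preadditive.add_comp]

lemma extMap_smul (a : A) (f : M →ₗ[A] N) : extMap Y (a • f) = a • extMap Y f := by
  ext φ
  have h1 : ModuleCat.ofHom (a • f) = a • ModuleCat.ofHom f := rfl
  rw [LinearMap.smul_apply, extMap_apply, extMap_apply, h1, Functor.map_smul, Linear.smul_comp]

lemma extMap_zero : extMap Y (0 : M →ₗ[A] N) = 0 := by
  ext φ
  have h1 : ModuleCat.ofHom (0 : M →ₗ[A] N) = 0 := rfl
  rw [extMap_apply, h1, Functor.map_zero, zero_comp, LinearMap.zero_apply]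

lemma extMap_comp (f : M →ₗ[A] N) (g : N →ₗ[A] P) :
    extMap Y (g ∘ₗ f) = extMap Y f ∘ₗ extMap Y g := by
  ext φ
  have h1 : ModuleCat.ofHom (g ∘ₗ f) = ModuleCat.ofHom f ≫ ModuleCat.ofHom g := rfl
  rw [LinearMap.comp_apply, extMap_apply, extMap_apply, extMap_apply, h1, Functor.map_comp,
    Category.assoc]

lemma extMap_comp_apply (f : M →ₗ[A] N) (g : N →ₗ[A] P) (φ : Dual.inD A P ⟶ Y) :
    extMap Y (g ∘ₗ f) φ = extMap Y f (extMap Y g φ) := by
  rw [extMap_comp, LinearMap.comp_apply]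

lemma extMap_id : extMap Y (LinearMap.id : M →ₗ[A] M) = LinearMap.id := by
  ext φ
  have h1 : ModuleCat.ofHom (LinearMap.id : M →ₗ[A] M) = 𝟙 (ModuleCat.of A M) := rfl
  rw [extMap_apply, h1, CategoryTheory.Functor.map_id, Category.id_comp, LinearMap.id_apply]

/-- `Hom(-, Y)` applied to a linear equivalence -/
noncomputable def extMapEquiv (e : M ≃ₗ[A] N) : (Dual.inD A N ⟶ Y) ≃ₗ[A] (Dual.inD A M ⟶ Y) :=
  LinearEquiv.ofLinearMap (extMap Y e.toLinearMap) (extMap Y e.symm.toLinearMap)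
    (by rw [← extMap_comp, LinearEquiv.symm_comp, extMap_id])
    (by rw [← extMap_comp, LinearEquiv.comp_symm, extMap_id])

lemma extMap_smul_id (a : A) (φ : Dual.inD A M ⟶ Y) :
    extMap Y (a • (LinearMap.id : M →ₗ[A] M)) φ = a • φ := by
  have : a • (LinearMap.id : M →ₗ[A] M) = LinearMap.lsmul A M a := by
    ext m
    simp
  rw [this, extMap_lsmul]

end ExtMap

section Exact

variable (ω : Dual.D A) (i : ℤ) {N₁ N₂ N₃ : Type u} [AddCommGroup N₁] [Module A N₁]
  [AddCommGroup N₂] [Module A N₂] [AddCommGroup N₃] [Module A N₃] (f : N₁ →ₗ[A] N₂)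
  (g : N₂ →ₗ[A] N₃) (hf : Function.Injective f) (hg : Function.Surjective g)
  (hfg : Function.Exact f g)

include hf hg hfg in
/-- if `Ext^{i+1}(N₃, ω) = 0` then `Ext^i(N₂, ω) → Ext^i(N₁, ω)` is surjective -/
lemma extMap_surjective_of_van (h₃ : Van ω (i + 1) N₃) :
    Function.Surjective (extMap (ω⟦i⟧) f) := by
  intro φ
  obtain ⟨ψ, hψ⟩ := exists_extension ω i f g hf hg hfg h₃ φ
  exact ⟨ψ, hψ.symm⟩

include hf hg hfg in
/-- if `Ext^i(N₁, ω) = 0` then `Ext^{i+1}(N₃, ω) → Ext^{i+1}(N₂, ω)` is injective -/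
lemma extMap_injective_of_van (h₁ : Van ω i N₁) :
    Function.Injective (extMap (ω⟦i + 1⟧) g) := by
  have hS := shortExact_of_exact f g hf hg hfg
  have hT := hS.singleTriangle_distinguished
  have hsub : Subsingleton ((Dual.inD A N₁)⟦(1 : ℤ)⟧ ⟶ ω⟦i + 1⟧) :=
    (Groth.Agent.Helper3.DualSupp.shiftOneLinEquiv (Dual.inD A N₁) ω
      i).symm.toEquiv.subsingleton_congr.2 h₁
  rw [← LinearMap.ker_eq_bot, LinearMap.ker_eq_bot']
  intro φ h0
  obtain ⟨ψ, hψ⟩ := Triangle.yoneda_exact₃ _ hT φ h0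
  have hψ0 : ψ = 0 := hsub.elim _ _
  rw [hψ, hψ0, comp_zero]
  rfl

end Exact

section FiniteLength

variable [IsLocalRing A] (ω : Dual.D A)

/-- a simple module over a local ring is the residue field -/
lemma nonempty_equiv_of_simple (Q : Type u) [AddCommGroup Q] [Module A Q] [IsSimpleModule A Q] :
    Nonempty (Q ≃ₗ[A] (A ⧸ IsLocalRing.maximalIdeal A)) := by
  obtain ⟨m, hm, ⟨e⟩⟩ := isSimpleModule_iff_quot_maximal.mp (inferInstance : IsSimpleModule A Q)
  rw [IsLocalRing.eq_maximalIdeal hm] at e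
  exact ⟨e⟩

/-- vanishing of `Ext^i(N, ω)` for `N` of finite length from that for the residue field -/
theorem van_of_isFiniteLength (i : ℤ) (hκ : Van ω i (A ⧸ IsLocalRing.maximalIdeal A))
    (N : Type u) [AddCommGroup N] [Module A N] (hN : IsFiniteLength A N) : Van ω i N := by
  induction hN with
  | of_subsingleton => exact van_of_subsingleton ω i _
  | @of_simple_quotient M _ _ N' _ _ ih =>
    obtain ⟨e⟩ := nonempty_equiv_of_simple (A := A) (M ⧸ N')
    exact van_of_exact ω i N'.subtype N'.mkQ (Submodule.injective_subtype N')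
      (Submodule.mkQ_surjective N') (LinearMap.exact_subtype_mkQ N') ih
      (van_of_equiv ω i e.symm hκ)

end FiniteLength

section Phi

variable (Y : Dual.D A) (I : Ideal A)

/-- the map `A/I → N`, `1 ↦ n`, for `N` killed by `I` -/
noncomputable def rho0 (N : Type u) [AddCommGroup N] [Module A N]
    (hN : ∀ a ∈ I, ∀ n : N, a • n = 0) (n : N) : (A ⧸ I) →ₗ[A] N :=
  Submodule.liftQ I (LinearMap.toSpanSingleton A N n) (fun a ha => by
    rw [LinearMap.mem_ker, LinearMap.toSpanSingleton_apply]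
    exact hN a ha n)

lemma rho0_mk (N : Type u) [AddCommGroup N] [Module A N]
    (hN : ∀ a ∈ I, ∀ n : N, a • n = 0) (n : N) (a : A) :
    rho0 I N hN n (Submodule.Quotient.mk a) = a • n := by
  unfold rho0
  rw [Submodule.liftQ_apply, LinearMap.toSpanSingleton_apply]

/-- the map `A/I → N`, `1 ↦ n`, for `N` killed by `I`, linear in `n` -/
noncomputable def rho (N : Type u) [AddCommGroup N] [Module A N]
    (hN : ∀ a ∈ I, ∀ n : N, a • n = 0) : N →ₗ[A] ((A ⧸ I) →ₗ[A] N) where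
  toFun n := rho0 I N hN n
  map_add' n n' := by
    refine LinearMap.ext fun x => ?_
    obtain ⟨a, rfl⟩ := Submodule.Quotient.mk_surjective I x
    rw [LinearMap.add_apply, rho0_mk, rho0_mk, rho0_mk, smul_add]
  map_smul' b n := by
    refine LinearMap.ext fun x => ?_
    obtain ⟨a, rfl⟩ := Submodule.Quotient.mk_surjective I x
    rw [LinearMap.smul_apply, rho0_mk, rho0_mk, RingHom.id_apply, smul_comm]

variable {I}

lemma rho_mk (N : Type u) [AddCommGroup N] [Module A N]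
    (hN : ∀ a ∈ I, ∀ n : N, a • n = 0) (n : N) (a : A) :
    rho I N hN n (Submodule.Quotient.mk a) = a • n :=
  rho0_mk I N hN n a

lemma comp_rho {N N' : Type u} [AddCommGroup N] [Module A N] [AddCommGroup N'] [Module A N']
    (hN : ∀ a ∈ I, ∀ n : N, a • n = 0) (hN' : ∀ a ∈ I, ∀ n : N', a • n = 0)
    (h : N →ₗ[A] N') (n : N) : h ∘ₗ rho I N hN n = rho I N' hN' (h n) := by
  refine LinearMap.ext fun x => ?_
  obtain ⟨a, rfl⟩ := Submodule.Quotient.mk_surjective I x
  rw [LinearMap.comp_apply, rho_mk, rho_mk, map_smul]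

variable (I)

/-- the comparison map `Hom_D(N, Y) → Hom_A(N, Hom_D(A/I, Y))` -/
noncomputable def Phi (N : Type u) [AddCommGroup N] [Module A N]
    (hN : ∀ a ∈ I, ∀ n : N, a • n = 0) :
    (Dual.inD A N ⟶ Y) →ₗ[A] (N →ₗ[A] (Dual.inD A (A ⧸ I) ⟶ Y)) where
  toFun φ :=
    { toFun := fun n => extMap Y (rho I N hN n) φ
      map_add' := fun n n' => by rw [map_add, extMap_add, LinearMap.add_apply]
      map_smul' := fun a n => by
        rw [map_smul, extMap_smul, LinearMap.smul_apply, RingHom.id_apply] }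
  map_add' φ φ' := by
    ext n
    simp
  map_smul' a φ := by
    ext n
    simp

variable {I}

lemma Phi_apply (N : Type u) [AddCommGroup N] [Module A N]
    (hN : ∀ a ∈ I, ∀ n : N, a • n = 0) (φ : Dual.inD A N ⟶ Y) (n : N) :
    Phi Y I N hN φ n = extMap Y (rho I N hN n) φ := rfl

lemma Phi_extMap {N N' : Type u} [AddCommGroup N] [Module A N] [AddCommGroup N'] [Module A N']
    (hN : ∀ a ∈ I, ∀ n : N, a • n = 0) (hN' : ∀ a ∈ I, ∀ n : N', a • n = 0)
    (h : N →ₗ[A] N') (φ' : Dual.inD A N' ⟶ Y) :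
    Phi Y I N hN (extMap Y h φ') = Phi Y I N' hN' φ' ∘ₗ h := by
  ext n
  rw [Phi_apply, LinearMap.comp_apply, Phi_apply, ← extMap_comp_apply, comp_rho hN hN']

end Phi

section Bij

variable [IsLocalRing A] (ω : Dual.D A) (I : Ideal A)
  (hB : IsFiniteLength A (A ⧸ I))
  (hvan : ∀ (i : ℤ), i ≠ 0 → Van ω i (A ⧸ IsLocalRing.maximalIdeal A))

include hB hvan in
/-- injectivity of `Φ` on cyclic modules -/
lemma eq_zero_of_cyclic (Q : Type u) [AddCommGroup Q] [Module A Q]
    (hQ : ∀ a ∈ I, ∀ n : Q, a • n = 0) (q₀ : Q) (hgen : ∀ q : Q, ∃ a : A, q = a • q₀)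
    (φ : Dual.inD A Q ⟶ ω⟦(0 : ℤ)⟧) (h : extMap (ω⟦(0 : ℤ)⟧) (rho I Q hQ q₀) φ = 0) : φ = 0 := by
  have hsurj : Function.Surjective (rho I Q hQ q₀) := by
    intro q
    obtain ⟨a, rfl⟩ := hgen q
    exact ⟨Submodule.Quotient.mk a, rho_mk Q hQ q₀ a⟩
  have hK : IsFiniteLength A (LinearMap.ker (rho I Q hQ q₀)) :=
    hB.of_injective (Submodule.injective_subtype _)
  have hvK : Van ω (-1) (LinearMap.ker (rho I Q hQ q₀)) :=
    van_of_isFiniteLength ω (-1) (hvan (-1) (by omega)) _ hK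
  have hinj := extMap_injective_of_van ω (-1) (LinearMap.ker (rho I Q hQ q₀)).subtype
    (rho I Q hQ q₀) (Submodule.injective_subtype _) hsurj
    (LinearMap.exact_subtype_ker_map _) hvK
  apply hinj
  rw [map_zero]
  exact h

include hB hvan in
/-- `Φ` is injective on modules of finite length killed by `I` -/
theorem Phi_injective (N : Type u) [AddCommGroup N] [Module A N] (hN : IsFiniteLength A N) :
    ∀ (hIN : ∀ a ∈ I, ∀ n : N, a • n = 0), Function.Injective (Phi (ω⟦(0 : ℤ)⟧) I N hIN) := by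
  induction hN with
  | @of_subsingleton M _ _ _ =>
    intro hIN
    haveI : Subsingleton (Dual.inD A M ⟶ ω⟦(0 : ℤ)⟧) := van_of_subsingleton ω 0 M
    exact Function.injective_of_subsingleton _
  | @of_simple_quotient M _ _ N' _ _ ih =>
    intro hIN
    have hIN' : ∀ a ∈ I, ∀ n : N', a • n = 0 := fun a ha n => Subtype.ext (hIN a ha n.1)
    have hIQ : ∀ a ∈ I, ∀ n : M ⧸ N', a • n = 0 := by
      intro a ha n
      obtain ⟨x, rfl⟩ := Submodule.Quotient.mk_surjective N' n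
      rw [← Submodule.Quotient.mk_smul, hIN a ha x, Submodule.Quotient.mk_zero]
    rw [← LinearMap.ker_eq_bot, LinearMap.ker_eq_bot']
    intro φ hφ
    have h1 : Phi (ω⟦(0 : ℤ)⟧) I N' hIN' (extMap (ω⟦(0 : ℤ)⟧) N'.subtype φ) = 0 := by
      rw [Phi_extMap (ω⟦(0 : ℤ)⟧) hIN' hIN, hφ, LinearMap.zero_comp]
    have h2 : extMap (ω⟦(0 : ℤ)⟧) N'.subtype φ = 0 := by
      apply ih hIN'
      rw [h1, map_zero]
    obtain ⟨φ'', rfl⟩ := (exact_extMap (ω⟦(0 : ℤ)⟧) N'.subtype N'.mkQ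
      (Submodule.injective_subtype N') (Submodule.mkQ_surjective N')
      (LinearMap.exact_subtype_mkQ N') φ).1 h2
    rw [Phi_extMap (ω⟦(0 : ℤ)⟧) hIN hIQ] at hφ
    have h3 : Phi (ω⟦(0 : ℤ)⟧) I (M ⧸ N') hIQ φ'' = 0 := by
      refine LinearMap.ext fun q => ?_
      obtain ⟨x, rfl⟩ := Submodule.Quotient.mk_surjective N' q
      exact LinearMap.congr_fun hφ x
    -- the simple quotient is cyclic
    haveI : Nontrivial (M ⧸ N') := IsSimpleModule.nontrivial A (M ⧸ N')
    obtain ⟨q₀, hq₀⟩ := exists_ne (0 : M ⧸ N')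
    have hgen : ∀ q : M ⧸ N', ∃ a : A, q = a • q₀ := by
      intro q
      have := IsSimpleModule.toSpanSingleton_surjective A hq₀ q
      obtain ⟨a, ha⟩ := this
      exact ⟨a, ha.symm⟩
    have h4 := eq_zero_of_cyclic ω I hB hvan (M ⧸ N') hIQ q₀ hgen φ''
      (by rw [← Phi_apply, h3, LinearMap.zero_apply])
    rw [h4, map_zero]

omit [IsLocalRing A] in
lemma smul_quotient_eq_zero (a : A) (ha : a ∈ I) (b : A ⧸ I) : a • b = 0 := by
  obtain ⟨c, rfl⟩ := Submodule.Quotient.mk_surjective I b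
  rw [← Submodule.Quotient.mk_smul, Submodule.Quotient.mk_eq_zero, smul_eq_mul]
  exact I.mul_mem_right c ha

omit [IsLocalRing A] in
lemma rho_quotient_mk (a : A) :
    rho I (A ⧸ I) (smul_quotient_eq_zero I) (Submodule.Quotient.mk a) =
      a • (LinearMap.id : (A ⧸ I) →ₗ[A] (A ⧸ I)) := by
  refine LinearMap.ext fun x => ?_
  obtain ⟨c, rfl⟩ := Submodule.Quotient.mk_surjective I x
  rw [rho_mk, LinearMap.smul_apply, LinearMap.id_apply, ← Submodule.Quotient.mk_smul,
    ← Submodule.Quotient.mk_smul, smul_eq_mul, smul_eq_mul, mul_comm]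

include hB hvan in
/-- surjectivity of `Φ` on cyclic modules -/
lemma exists_of_cyclic (Q : Type u) [AddCommGroup Q] [Module A Q]
    (hQ : ∀ a ∈ I, ∀ n : Q, a • n = 0) (q₀ : Q) (hgen : ∀ q : Q, ∃ a : A, q = a • q₀)
    (h'' : Q →ₗ[A] (Dual.inD A (A ⧸ I) ⟶ ω⟦(0 : ℤ)⟧)) :
    ∃ φ'' : Dual.inD A Q ⟶ ω⟦(0 : ℤ)⟧, Phi (ω⟦(0 : ℤ)⟧) I Q hQ φ'' = h'' := by
  have hsurj : Function.Surjective (rho I Q hQ q₀) := by
    intro q
    obtain ⟨a, rfl⟩ := hgen q
    exact ⟨Submodule.Quotient.mk a, rho_mk Q hQ q₀ a⟩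
  have hK : IsFiniteLength A (LinearMap.ker (rho I Q hQ q₀)) :=
    hB.of_injective (Submodule.injective_subtype _)
  have hIK : ∀ a ∈ I, ∀ y : LinearMap.ker (rho I Q hQ q₀), a • y = 0 :=
    fun a ha y => Subtype.ext (smul_quotient_eq_zero I a ha y.1)
  have hv : Phi (ω⟦(0 : ℤ)⟧) I _ hIK
      (extMap (ω⟦(0 : ℤ)⟧) (LinearMap.ker (rho I Q hQ q₀)).subtype (h'' q₀)) = 0 := by
    refine LinearMap.ext fun y => ?_
    rw [Phi_apply, ← extMap_comp_apply, comp_rho hIK (smul_quotient_eq_zero I),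
      LinearMap.zero_apply]
    obtain ⟨a, ha⟩ := Submodule.Quotient.mk_surjective I y.1
    have hy : rho I Q hQ q₀ (Submodule.Quotient.mk a) = 0 := by
      rw [ha]
      exact y.2
    rw [Submodule.subtype_apply, ← ha, rho_quotient_mk, extMap_smul_id, ← map_smul,
      ← rho_mk Q hQ q₀ a, hy, map_zero]
  have hv0 : extMap (ω⟦(0 : ℤ)⟧) (LinearMap.ker (rho I Q hQ q₀)).subtype (h'' q₀) = 0 := by
    apply Phi_injective ω I hB hvan _ hK hIK
    rw [hv, map_zero]
  obtain ⟨φ'', hφ''⟩ := (exact_extMap (ω⟦(0 : ℤ)⟧) (LinearMap.ker (rho I Q hQ q₀)).subtype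
    (rho I Q hQ q₀) (Submodule.injective_subtype _) hsurj
    (LinearMap.exact_subtype_ker_map _) (h'' q₀)).1 hv0
  refine ⟨φ'', LinearMap.ext fun q => ?_⟩
  obtain ⟨a, rfl⟩ := hgen q
  rw [map_smul, map_smul, Phi_apply, hφ'']

include hB hvan in
/-- `Φ` is surjective on modules of finite length killed by `I` -/
theorem Phi_surjective (N : Type u) [AddCommGroup N] [Module A N] (hN : IsFiniteLength A N) :
    ∀ (hIN : ∀ a ∈ I, ∀ n : N, a • n = 0), Function.Surjective (Phi (ω⟦(0 : ℤ)⟧) I N hIN) := by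
  induction hN with
  | @of_subsingleton M _ _ _ =>
    intro hIN h
    exact ⟨0, Subsingleton.elim _ _⟩
  | @of_simple_quotient M _ _ N' _ hN' ih =>
    intro hIN h
    have hIN' : ∀ a ∈ I, ∀ n : N', a • n = 0 := fun a ha n => Subtype.ext (hIN a ha n.1)
    have hIQ : ∀ a ∈ I, ∀ n : M ⧸ N', a • n = 0 := by
      intro a ha n
      obtain ⟨x, rfl⟩ := Submodule.Quotient.mk_surjective N' n
      rw [← Submodule.Quotient.mk_smul, hIN a ha x, Submodule.Quotient.mk_zero]
    obtain ⟨e⟩ := nonempty_equiv_of_simple (A := A) (M ⧸ N')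
    obtain ⟨φ', hφ'⟩ := ih hIN' (h ∘ₗ N'.subtype)
    have hvQ : Van ω (0 + 1) (M ⧸ N') :=
      van_of_equiv ω (0 + 1) e.symm (hvan (0 + 1) (by omega))
    obtain ⟨φ, hφ⟩ := extMap_surjective_of_van ω 0 N'.subtype N'.mkQ
      (Submodule.injective_subtype N') (Submodule.mkQ_surjective N')
      (LinearMap.exact_subtype_mkQ N') hvQ φ'
    have hker : N' ≤ LinearMap.ker (h - Phi (ω⟦(0 : ℤ)⟧) I M hIN φ) := by
      intro x hx
      rw [LinearMap.mem_ker, LinearMap.sub_apply, sub_eq_zero]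
      have h1 := LinearMap.congr_fun hφ' ⟨x, hx⟩
      rw [← hφ, Phi_extMap (ω⟦(0 : ℤ)⟧) hIN' hIN] at h1
      exact h1.symm
    haveI : Nontrivial (M ⧸ N') := IsSimpleModule.nontrivial A (M ⧸ N')
    obtain ⟨q₀, hq₀⟩ := exists_ne (0 : M ⧸ N')
    have hgen : ∀ q : M ⧸ N', ∃ a : A, q = a • q₀ := by
      intro q
      obtain ⟨a, ha⟩ := IsSimpleModule.toSpanSingleton_surjective A hq₀ q
      exact ⟨a, ha.symm⟩
    obtain ⟨φ'', hφ''⟩ := exists_of_cyclic ω I hB hvan (M ⧸ N') hIQ q₀ hgen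
      (N'.liftQ (h - Phi (ω⟦(0 : ℤ)⟧) I M hIN φ) hker)
    refine ⟨φ + extMap (ω⟦(0 : ℤ)⟧) N'.mkQ φ'', ?_⟩
    rw [map_add, Phi_extMap (ω⟦(0 : ℤ)⟧) hIN hIQ, hφ'']
    refine LinearMap.ext fun x => ?_
    rw [LinearMap.add_apply, LinearMap.comp_apply, Submodule.mkQ_apply, Submodule.liftQ_apply,
      LinearMap.sub_apply]
    abel

/-- `Hom_D(N, ω[0]) ≃ Hom_A(N, Hom_D(A/I, ω[0]))` for `N` of finite length killed by `I` -/
noncomputable def PhiEquiv (N : Type u) [AddCommGroup N] [Module A N] (hN : IsFiniteLength A N)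
    (hIN : ∀ a ∈ I, ∀ n : N, a • n = 0) :
    (Dual.inD A N ⟶ ω⟦(0 : ℤ)⟧) ≃ₗ[A] (N →ₗ[A] (Dual.inD A (A ⧸ I) ⟶ ω⟦(0 : ℤ)⟧)) :=
  LinearEquiv.ofBijective (Phi (ω⟦(0 : ℤ)⟧) I N hIN)
    ⟨Phi_injective ω I hB hvan N hN hIN, Phi_surjective ω I hB hvan N hN hIN⟩

end Bij

section Length

variable [IsLocalRing A] (ω : Dual.D A)
  (hvan : ∀ (i : ℤ), i ≠ 0 → Van ω i (A ⧸ IsLocalRing.maximalIdeal A))
  (ε : (Dual.inD A (A ⧸ IsLocalRing.maximalIdeal A) ⟶ ω⟦(0 : ℤ)⟧) ≃ₗ[A]
    (A ⧸ IsLocalRing.maximalIdeal A))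

include hvan ε in
/-- the dualizing functor preserves length -/
theorem length_F (N : Type u) [AddCommGroup N] [Module A N] (hN : IsFiniteLength A N) :
    Module.length A (Dual.inD A N ⟶ ω⟦(0 : ℤ)⟧) = Module.length A N := by
  induction hN with
  | @of_subsingleton M _ _ _ =>
    haveI : Subsingleton (Dual.inD A M ⟶ ω⟦(0 : ℤ)⟧) := van_of_subsingleton ω 0 M
    rw [Module.length_eq_zero, Module.length_eq_zero]
  | @of_simple_quotient M _ _ N' _ hN' ih =>
    obtain ⟨e⟩ := nonempty_equiv_of_simple (A := A) (M ⧸ N')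
    have hvQ : Van ω (0 + 1) (M ⧸ N') :=
      van_of_equiv ω (0 + 1) e.symm (hvan (0 + 1) (by omega))
    have hvN : Van ω (-1) N' := van_of_isFiniteLength ω (-1) (hvan (-1) (by omega)) _ hN'
    have h1 := Module.length_eq_add_of_exact (extMap (ω⟦(0 : ℤ)⟧) N'.mkQ)
      (extMap (ω⟦(0 : ℤ)⟧) N'.subtype)
      (extMap_injective_of_van ω (-1) N'.subtype N'.mkQ (Submodule.injective_subtype N')
        (Submodule.mkQ_surjective N') (LinearMap.exact_subtype_mkQ N') hvN)
      (extMap_surjective_of_van ω 0 N'.subtype N'.mkQ (Submodule.injective_subtype N')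
        (Submodule.mkQ_surjective N') (LinearMap.exact_subtype_mkQ N') hvQ)
      (exact_extMap (ω⟦(0 : ℤ)⟧) N'.subtype N'.mkQ (Submodule.injective_subtype N')
        (Submodule.mkQ_surjective N') (LinearMap.exact_subtype_mkQ N'))
    have h2 := Module.length_eq_add_of_exact N'.subtype N'.mkQ (Submodule.injective_subtype N')
      (Submodule.mkQ_surjective N') (LinearMap.exact_subtype_mkQ N')
    have h3 : Module.length A (Dual.inD A (M ⧸ N') ⟶ ω⟦(0 : ℤ)⟧) = Module.length A (M ⧸ N') :=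
      ((extMapEquiv (ω⟦(0 : ℤ)⟧) e.symm).trans (ε.trans e.symm)).length_eq
    rw [h1, h2, ih, h3, add_comm]

end Length

section Main

open Groth.Agent.Helper1.MatlisL Groth.Agent.Helper1.MatlisL2 Groth.Agent.Helper1.InjHullL

/-- a module of finite length over a local ring is killed by a power of the maximal ideal -/
lemma exists_pow_smul_eq_zero [IsLocalRing A] (N : Type u) [AddCommGroup N] [Module A N]
    (hN : IsFiniteLength A N) :
    ∃ k : ℕ, ∀ a ∈ IsLocalRing.maximalIdeal A ^ k, ∀ n : N, a • n = 0 := by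
  induction hN with
  | @of_subsingleton M _ _ _ => exact ⟨0, fun a _ n => Subsingleton.elim _ _⟩
  | @of_simple_quotient M _ _ N' _ hN' ih =>
    obtain ⟨k, hk⟩ := ih
    obtain ⟨e⟩ := nonempty_equiv_of_simple (A := A) (M ⧸ N')
    have hQ : ∀ c ∈ IsLocalRing.maximalIdeal A, ∀ x : M, c • x ∈ N' := by
      intro c hc x
      rw [← Submodule.Quotient.mk_eq_zero, Submodule.Quotient.mk_smul]
      apply e.injective
      rw [map_smul, map_zero]
      obtain ⟨y, hy⟩ := Submodule.Quotient.mk_surjective _ (e (Submodule.Quotient.mk x))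
      rw [← hy, ← Submodule.Quotient.mk_smul, Submodule.Quotient.mk_eq_zero, smul_eq_mul]
      exact Ideal.mul_mem_right _ _ hc
    refine ⟨k + 1, fun a ha n => ?_⟩
    rw [pow_succ] at ha
    refine Submodule.mul_induction_on ha ?_ ?_
    · intro b hb c hc
      rw [mul_smul]
      have := hk b hb ⟨c • n, hQ c hc n⟩
      exact congrArg Subtype.val this
    · intro x y hx hy
      rw [add_smul, hx, hy, add_zero]

theorem main_S1749 (A : Type u) [CommRing A] [IsLocalRing A] [IsNoetherianRing A] (ω : Dual.D A)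
    (hω : Dual.IsDualizing A ω) (hn : Dual.IsNormalized A ω) (E : Type u) [AddCommGroup E]
    [Module A E] (f : IsLocalRing.ResidueField A →ₗ[A] E) (hf : InjHull.IsInjectiveHull f)
    (N : Type u) [AddCommGroup N] [Module A N] (hN : IsFiniteLength A N) :
    (∀ i : ℤ, i ≠ 0 → Subsingleton (Dual.inD A N ⟶ ω⟦i⟧)) ∧
      Nonempty ((Dual.inD A N ⟶ ω) ≃ₗ[A] (N →ₗ[A] E)) := by
  have hvan : ∀ (i : ℤ), i ≠ 0 → Van ω i (A ⧸ IsLocalRing.maximalIdeal A) :=
    fun i hi => van_residue hn i hi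
  refine ⟨fun i hi => van_of_isFiniteLength ω i (hvan i hi) N hN, ?_⟩
  -- `Ext^0(κ, ω) ≃ κ`
  obtain ⟨n₀, hn₀, ⟨ε⟩⟩ := main_S0364 A ω hω (IsLocalRing.maximalIdeal A)
  haveI : Nontrivial (A ⧸ IsLocalRing.maximalIdeal A) :=
    Ideal.Quotient.nontrivial_iff.2 (IsLocalRing.maximalIdeal.isMaximal A).ne_top
  have hn₀0 : n₀ = 0 := by
    by_contra hne
    have : Subsingleton (Dual.inD A (A ⧸ IsLocalRing.maximalIdeal A) ⟶ ω⟦n₀⟧) :=
      van_residue hn n₀ hne
    exact not_subsingleton _ ε.symm.toEquiv.subsingleton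
  subst hn₀0
  -- the ideal `I = m^(k+1)` kills `N`
  obtain ⟨k, hk⟩ := exists_pow_smul_eq_zero N hN
  let I : Ideal A := IsLocalRing.maximalIdeal A ^ (k + 1)
  have hIN : ∀ a ∈ I, ∀ n : N, a • n = 0 :=
    fun a ha n => hk a (Ideal.pow_le_pow_right (Nat.le_succ k) ha) n
  have hIm : I ≤ IsLocalRing.maximalIdeal A := Ideal.pow_le_self (Nat.succ_ne_zero k)
  have hB : IsFiniteLength A (A ⧸ I) := isFiniteLength_quotient_of_pow_le I (k + 1) le_rfl
  have hκ : IsFiniteLength A (A ⧸ IsLocalRing.maximalIdeal A) :=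
    isFiniteLength_quotient_of_pow_le _ 1 (by rw [pow_one])
  have hIκ : ∀ a ∈ I, ∀ x : A ⧸ IsLocalRing.maximalIdeal A, a • x = 0 :=
    fun a ha x => smul_quotient_eq_zero _ a (hIm ha) x
  -- a model `W` in `Type u` of `Hom_D(A/I, ω[0])`
  obtain ⟨dat⟩ := nonempty_data hω
  let W : Type u := Dual.HD A (D dat (ModuleCat.of A (A ⧸ I))) 0
  let eW : (Dual.inD A (A ⧸ I) ⟶ ω⟦(0 : ℤ)⟧) ≃ₗ[A] W := extIso dat (ModuleCat.of A (A ⧸ I)) 0
  have hWtors : LocCoh.IsPowerTorsion (IsLocalRing.maximalIdeal A) W := by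
    intro w
    refine ⟨k + 1, fun a ha => ?_⟩
    have h1 : a ∈ Module.annihilator A (Dual.inD A (A ⧸ I) ⟶ ω⟦(0 : ℤ)⟧) := by
      apply annihilator_le_annihilator_ext
      rw [Ideal.annihilator_quotient]
      exact ha
    have h2 := Module.mem_annihilator.1 h1 (eW.symm w)
    rw [← eW.apply_symm_apply w, ← map_smul, h2, map_zero]
  -- `Hom(κ, W) ≃ κ`
  let E1 : ((A ⧸ IsLocalRing.maximalIdeal A) →ₗ[A] W) ≃ₗ[A] (A ⧸ IsLocalRing.maximalIdeal A) :=
    (LinearEquiv.congrRight eW).symm ≪≫ₗ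
      (PhiEquiv ω I hB hvan (A ⧸ IsLocalRing.maximalIdeal A) hκ hIκ).symm ≪≫ₗ ε
  have hsimple : IsSimpleModule A (IsLocalRing.ResidueField A →ₗ[A] W) := by
    haveI : IsSimpleModule A (A ⧸ IsLocalRing.maximalIdeal A) :=
      isSimpleModule_iff_isCoatom.2 (Ideal.isMaximal_def.1 (IsLocalRing.maximalIdeal.isMaximal A))
    exact (E1.isSimpleModule_iff).2 inferInstance
  haveI := IsSimpleModule.nontrivial A (IsLocalRing.ResidueField A →ₗ[A] W)
  obtain ⟨f₀, hf₀⟩ := exists_ne (0 : IsLocalRing.ResidueField A →ₗ[A] W)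
  have hess := isEssentialInj_of_simple_hom hWtors hsimple f₀ hf₀
  haveI := hf.isInjective
  obtain ⟨ι, hι⟩ := Module.Injective.extension_property A E _ _ f₀ hess.injective f
  have hιinj : Function.Injective ι :=
    essInj_injective_of_comp hess ι (by rw [hι]; exact hf.injective)
  -- composition with `ι`
  let χ : (N →ₗ[A] W) →ₗ[A] (N →ₗ[A] E) := LinearMap.llcomp A _ _ _ ι
  have hχinj : Function.Injective χ := by
    intro φ ψ h
    apply LinearMap.ext
    intro y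
    apply hιinj
    exact LinearMap.congr_fun h y
  have hlen : Module.length A (N →ₗ[A] W) = Module.length A N := by
    rw [← length_F ω hvan ε N hN]
    exact ((LinearEquiv.congrRight eW).symm ≪≫ₗ (PhiEquiv ω I hB hvan N hN hIN).symm).length_eq
  have hχsurj : Function.Surjective χ := by
    apply surjective_of_injective_of_length_le χ hχinj
    · rw [hlen, Module.length_ne_top_iff]
      exact hN
    · rw [length_dual f hf N hN, hlen]
  exact ⟨Linear.homCongr A (Iso.refl _) ((shiftFunctorZero (Dual.D A) ℤ).app ω).symm ≪≫ₗ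
    PhiEquiv ω I hB hvan N hN hIN ≪≫ₗ LinearEquiv.congrRight eW ≪≫ₗ
    LinearEquiv.ofBijective χ ⟨hχinj, hχsurj⟩⟩

end Main

end Groth.Agent.Helper3.DualFL
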