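import Mathlib
import Groth.Prelude.Def_Wider
import Groth.Prelude.Def_DRing2
import Groth.Agent.Lib.Helper3.DualFL

/-!
# Local duality I: a compatible system of embeddings `Hom_D(A/m^n, ω) ↪ E`
-/

set_option autoImplicit false
universe u
open CategoryTheory CategoryTheory.Limits Pretriangulated Triangulated Opposite

attribute [local instance] HasDerivedCategory.standard

namespace Groth.Agent.Helper3.LocDual

open DerivedCategory Groth.Agent.Helper3.DualCx Groth.Agent.Helper3.RegGlDim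
  Groth.Agent.Helper3.DualFun Groth.Agent.Helper3.DualFL
  Groth.Agent.Helper1.MatlisL Groth.Agent.Helper1.MatlisL2 Groth.Agent.Helper1.InjHullL

variable {A : Type u} [CommRing A] [IsLocalRing A] [IsNoetherianRing A]

/-- `Hom_D(A/m^n, ω[0])` -/
abbrev V (ω : Dual.D A) (n : ℕ) : Type (u + 1) :=
  (Dual.inD A (A ⧸ IsLocalRing.maximalIdeal A ^ n) ⟶ ω⟦(0 : ℤ)⟧)

/-- the projection `A/m^k → A/m^n` for `n ≤ k` -/
noncomputable def pr {n k : ℕ} (h : n ≤ k) :
    (A ⧸ IsLocalRing.maximalIdeal A ^ k) →ₗ[A] (A ⧸ IsLocalRing.maximalIdeal A ^ n) :=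
  Submodule.mapQ _ _ LinearMap.id (Ideal.pow_le_pow_right h)

lemma pr_surjective {n k : ℕ} (h : n ≤ k) : Function.Surjective (pr (A := A) h) := by
  intro x
  obtain ⟨a, rfl⟩ := Submodule.Quotient.mk_surjective _ x
  exact ⟨Submodule.Quotient.mk a, rfl⟩

lemma pr_comp {n k l : ℕ} (h : n ≤ k) (h' : k ≤ l) :
    pr (A := A) h ∘ₗ pr h' = pr (h.trans h') := by
  apply LinearMap.ext
  intro x
  obtain ⟨a, rfl⟩ := Submodule.Quotient.mk_surjective _ x
  rfl

lemma pr_refl (n : ℕ) : pr (A := A) (le_refl n) = LinearMap.id := by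
  apply LinearMap.ext
  intro x
  obtain ⟨a, rfl⟩ := Submodule.Quotient.mk_surjective _ x
  rfl

/-- the transition map `V n → V k` -/
noncomputable def tau (ω : Dual.D A) {n k : ℕ} (h : n ≤ k) : V ω n →ₗ[A] V ω k :=
  extMap (ω⟦(0 : ℤ)⟧) (pr h)

lemma tau_comp (ω : Dual.D A) {n k l : ℕ} (h : n ≤ k) (h' : k ≤ l) :
    tau ω h' ∘ₗ tau ω h = tau ω (h.trans h') := by
  unfold tau
  rw [← extMap_comp, pr_comp]

lemma tau_refl (ω : Dual.D A) (n : ℕ) : tau ω (le_refl n) = LinearMap.id := by
  unfold tau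
  rw [pr_refl, extMap_id]

lemma subsingleton_V_zero (ω : Dual.D A) : Subsingleton (V ω 0) := by
  haveI : Subsingleton (A ⧸ IsLocalRing.maximalIdeal A ^ 0) := by
    rw [pow_zero, Ideal.one_eq_top]
    exact Ideal.Quotient.subsingleton_iff.2 rfl
  exact van_of_subsingleton ω 0 _

section

variable {ω : Dual.D A} (hω : Dual.IsDualizing A ω) (hn : Dual.IsNormalized A ω)

include hn in
lemma tau_injective {n k : ℕ} (h : n ≤ k) : Function.Injective (tau ω h) := by
  have hvan : ∀ (i : ℤ), i ≠ 0 → Van ω i (A ⧸ IsLocalRing.maximalIdeal A) :=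
    fun i hi => van_residue hn i hi
  have hB : IsFiniteLength A (A ⧸ IsLocalRing.maximalIdeal A ^ k) :=
    isFiniteLength_quotient_of_pow_le _ k le_rfl
  have hK : IsFiniteLength A (LinearMap.ker (pr (A := A) h)) :=
    hB.of_injective (Submodule.injective_subtype _)
  have hvK : Van ω (-1) (LinearMap.ker (pr (A := A) h)) :=
    van_of_isFiniteLength ω (-1) (hvan (-1) (by omega)) _ hK
  have hinj := extMap_injective_of_van ω (-1) (LinearMap.ker (pr (A := A) h)).subtype
    (pr h) (Submodule.injective_subtype _) (pr_surjective h)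
    (LinearMap.exact_subtype_ker_map _) hvK
  exact hinj

include hω hn in
/-- a model in `Type u` of `V n`, power torsion with simple socle -/
lemma exists_model (n : ℕ) (hn1 : 1 ≤ n) :
    ∃ (W : Type u) (_ : AddCommGroup W) (_ : Module A W) (_ : V ω n ≃ₗ[A] W),
      LocCoh.IsPowerTorsion (IsLocalRing.maximalIdeal A) W ∧
        IsSimpleModule A (IsLocalRing.ResidueField A →ₗ[A] W) := by
  have hvan : ∀ (i : ℤ), i ≠ 0 → Van ω i (A ⧸ IsLocalRing.maximalIdeal A) :=
    fun i hi => van_residue hn i hi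
  obtain ⟨n₀, hn₀, ⟨ε⟩⟩ := main_S0364 A ω hω (IsLocalRing.maximalIdeal A)
  haveI : Nontrivial (A ⧸ IsLocalRing.maximalIdeal A) :=
    Ideal.Quotient.nontrivial_iff.2 (IsLocalRing.maximalIdeal.isMaximal A).ne_top
  have hn₀0 : n₀ = 0 := by
    by_contra hne
    have : Subsingleton (Dual.inD A (A ⧸ IsLocalRing.maximalIdeal A) ⟶ ω⟦n₀⟧) :=
      van_residue hn n₀ hne
    exact not_subsingleton _ ε.symm.toEquiv.subsingleton
  subst hn₀0
  let I : Ideal A := IsLocalRing.maximalIdeal A ^ n
  have hIm : I ≤ IsLocalRing.maximalIdeal A := Ideal.pow_le_self (by omega)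
  have hB : IsFiniteLength A (A ⧸ I) := isFiniteLength_quotient_of_pow_le I n le_rfl
  have hκ : IsFiniteLength A (A ⧸ IsLocalRing.maximalIdeal A) :=
    isFiniteLength_quotient_of_pow_le _ 1 (by rw [pow_one])
  have hIκ : ∀ a ∈ I, ∀ x : A ⧸ IsLocalRing.maximalIdeal A, a • x = 0 :=
    fun a ha x => smul_quotient_eq_zero _ a (hIm ha) x
  obtain ⟨dat⟩ := nonempty_data hω
  let W : Type u := Dual.HD A (D dat (ModuleCat.of A (A ⧸ I))) 0
  let eW : (Dual.inD A (A ⧸ I) ⟶ ω⟦(0 : ℤ)⟧) ≃ₗ[A] W := extIso dat (ModuleCat.of A (A ⧸ I)) 0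
  have hWtors : LocCoh.IsPowerTorsion (IsLocalRing.maximalIdeal A) W := by
    intro w
    refine ⟨n, fun a ha => ?_⟩
    have h1 : a ∈ Module.annihilator A (Dual.inD A (A ⧸ I) ⟶ ω⟦(0 : ℤ)⟧) := by
      apply annihilator_le_annihilator_ext
      rw [Ideal.annihilator_quotient]
      exact ha
    have h2 := Module.mem_annihilator.1 h1 (eW.symm w)
    rw [← eW.apply_symm_apply w, ← map_smul, h2, map_zero]
  let E1 : ((A ⧸ IsLocalRing.maximalIdeal A) →ₗ[A] W) ≃ₗ[A] (A ⧸ IsLocalRing.maximalIdeal A) :=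
    (LinearEquiv.congrRight eW).symm ≪≫ₗ
      (PhiEquiv ω I hB hvan (A ⧸ IsLocalRing.maximalIdeal A) hκ hIκ).symm ≪≫ₗ ε
  have hsimple : IsSimpleModule A (IsLocalRing.ResidueField A →ₗ[A] W) := by
    haveI : IsSimpleModule A (A ⧸ IsLocalRing.maximalIdeal A) :=
      isSimpleModule_iff_isCoatom.2 (Ideal.isMaximal_def.1 (IsLocalRing.maximalIdeal.isMaximal A))
    exact (E1.isSimpleModule_iff).2 inferInstance
  exact ⟨W, inferInstance, inferInstance, eW, hWtors, hsimple⟩

variable {E : Type u} [AddCommGroup E] [Module A E]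
  (f : IsLocalRing.ResidueField A →ₗ[A] E) (hf : InjHull.IsInjectiveHull f)

include hω hn hf in
lemma exists_injective_one : ∃ j : V ω 1 →ₗ[A] E, Function.Injective j := by
  obtain ⟨W, _, _, eW, hpt, hsimple⟩ := exists_model hω hn 1 le_rfl
  haveI := IsSimpleModule.nontrivial A (IsLocalRing.ResidueField A →ₗ[A] W)
  obtain ⟨f₀, hf₀⟩ := exists_ne (0 : IsLocalRing.ResidueField A →ₗ[A] W)
  have hess := isEssentialInj_of_simple_hom hpt hsimple f₀ hf₀
  haveI := hf.isInjective
  obtain ⟨ι, hι⟩ := Module.Injective.extension_property A E _ _ f₀ hess.injective f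
  have hιinj : Function.Injective ι :=
    essInj_injective_of_comp hess ι (by rw [hι]; exact hf.injective)
  exact ⟨ι ∘ₗ eW.toLinearMap, hιinj.comp eW.injective⟩

include hω hn hf in
lemma exists_step (n : ℕ) (j : V ω n →ₗ[A] E) (hj : Function.Injective j) :
    ∃ j' : V ω (n + 1) →ₗ[A] E, Function.Injective j' ∧ j' ∘ₗ tau ω (Nat.le_succ n) = j := by
  rcases Nat.eq_zero_or_pos n with h0 | hpos
  · subst h0
    obtain ⟨j', hj'⟩ := exists_injective_one hω hn f hf
    refine ⟨j', hj', ?_⟩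
    haveI := subsingleton_V_zero ω
    apply LinearMap.ext
    intro x
    rw [Subsingleton.elim x 0, map_zero, map_zero]
  · obtain ⟨W, _, _, eW, hpt, hsimple⟩ := exists_model hω hn n hpos
    obtain ⟨W', _, _, eW', hpt', hsimple'⟩ := exists_model hω hn (n + 1) (by omega)
    haveI := IsSimpleModule.nontrivial A (IsLocalRing.ResidueField A →ₗ[A] W)
    obtain ⟨g₀, hg₀⟩ := exists_ne (0 : IsLocalRing.ResidueField A →ₗ[A] W)
    have hess := isEssentialInj_of_simple_hom hpt hsimple g₀ hg₀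
    let f₀' : IsLocalRing.ResidueField A →ₗ[A] W' :=
      eW'.toLinearMap ∘ₗ tau ω (Nat.le_succ n) ∘ₗ eW.symm.toLinearMap ∘ₗ g₀
    have hf₀'inj : Function.Injective f₀' :=
      eW'.injective.comp ((tau_injective hn (Nat.le_succ n)).comp
        (eW.symm.injective.comp hess.injective))
    have hf₀' : f₀' ≠ 0 := by
      intro h0
      haveI : Nontrivial (IsLocalRing.ResidueField A) := inferInstance
      have h1 : (1 : IsLocalRing.ResidueField A) = 0 := by
        apply hf₀'inj
        rw [h0, LinearMap.zero_apply, LinearMap.zero_apply]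
      exact one_ne_zero h1
    have hess' := isEssentialInj_of_simple_hom hpt' hsimple' f₀' hf₀'
    haveI := hf.isInjective
    obtain ⟨j', hj'⟩ := Module.Injective.extension_property A E _ _ (tau ω (Nat.le_succ n))
      (tau_injective hn (Nat.le_succ n)) j
    refine ⟨j', ?_, hj'⟩
    have hιinj : Function.Injective (j' ∘ₗ eW'.symm.toLinearMap) := by
      apply essInj_injective_of_comp hess'
      have h1 : (j' ∘ₗ eW'.symm.toLinearMap) ∘ₗ f₀' = j ∘ₗ eW.symm.toLinearMap ∘ₗ g₀ := by
        apply LinearMap.ext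
        intro x
        simp only [f₀', LinearMap.comp_apply, LinearEquiv.coe_coe, LinearEquiv.symm_apply_apply]
        exact LinearMap.congr_fun hj' _
      rw [h1]
      exact hj.comp (eW.symm.injective.comp hess.injective)
    intro x y hxy
    apply eW'.injective
    apply hιinj
    simp only [LinearMap.comp_apply, LinearEquiv.coe_coe, LinearEquiv.symm_apply_apply]
    exact hxy

/-- the compatible system of embeddings -/
noncomputable def jSeq : (n : ℕ) → {j : V ω n →ₗ[A] E // Function.Injective j}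
  | 0 => ⟨0, by
      haveI := subsingleton_V_zero ω
      exact Function.injective_of_subsingleton _⟩
  | (n + 1) => ⟨Classical.choose (exists_step hω hn f hf n (jSeq n).1 (jSeq n).2),
      (Classical.choose_spec (exists_step hω hn f hf n (jSeq n).1 (jSeq n).2)).1⟩

/-- the embedding `V n ↪ E` -/
noncomputable def jmap (n : ℕ) : V ω n →ₗ[A] E := (jSeq hω hn f hf n).1

lemma jmap_injective (n : ℕ) : Function.Injective (jmap hω hn f hf n) := (jSeq hω hn f hf n).2

lemma jmap_succ (n : ℕ) :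
    jmap hω hn f hf (n + 1) ∘ₗ tau ω (Nat.le_succ n) = jmap hω hn f hf n :=
  (Classical.choose_spec (exists_step hω hn f hf n (jSeq hω hn f hf n).1
    (jSeq hω hn f hf n).2)).2

lemma jmap_tau {n k : ℕ} (h : n ≤ k) :
    jmap hω hn f hf k ∘ₗ tau ω h = jmap hω hn f hf n := by
  induction k, h using Nat.le_induction with
  | base => rw [tau_refl, LinearMap.comp_id]
  | succ k hk ih =>
    rw [← tau_comp ω hk (Nat.le_succ k), ← LinearMap.comp_assoc, jmap_succ, ih]

lemma jmap_tau_apply {n k : ℕ} (h : n ≤ k) (v : V ω n) :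
    jmap hω hn f hf k (tau ω h v) = jmap hω hn f hf n v :=
  LinearMap.congr_fun (jmap_tau hω hn f hf h) v

end

end Groth.Agent.Helper3.LocDual
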