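import Mathlib
import Groth.Prelude.Def_Wider

/-!
# Local duality II: the contravariant long exact sequence of `Hom_D(-, ω[j])` and its dual
-/

set_option autoImplicit false
universe u
open CategoryTheory CategoryTheory.Limits Pretriangulated Opposite

attribute [local instance] HasDerivedCategory.standard

namespace Groth.Agent.Helper3.LocDual

open DerivedCategory

variable {A : Type u} [CommRing A]

/-- a module as an object of `D(A)` -/
noncomputable abbrev sg (M : ModuleCat.{u} A) : Dual.D A :=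
  (DerivedCategory.singleFunctor (ModuleCat.{u} A) 0).obj M

/-- `Hom_D(M, ω[j])` -/
abbrev F (ω : Dual.D A) (j : ℤ) (M : ModuleCat.{u} A) : Type (u + 1) := (sg M ⟶ ω⟦j⟧)

/-- contravariant functoriality -/
noncomputable def Fmap (ω : Dual.D A) (j : ℤ) {M N : ModuleCat.{u} A} (f : M ⟶ N) :
    F ω j N →ₗ[A] F ω j M :=
  Linear.leftComp A (ω⟦j⟧) ((DerivedCategory.singleFunctor (ModuleCat.{u} A) 0).map f)

lemma Fmap_apply (ω : Dual.D A) (j : ℤ) {M N : ModuleCat.{u} A} (f : M ⟶ N) (φ : F ω j N) :
    Fmap ω j f φ = (DerivedCategory.singleFunctor (ModuleCat.{u} A) 0).map f ≫ φ := rfl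

variable (ω : Dual.D A) {S : ShortComplex (ModuleCat.{u} A)} (hS : S.ShortExact)

/-- the connecting map -/
noncomputable def Fδ (j j' : ℤ) (h : j + 1 = j') : F ω j S.X₁ →ₗ[A] F ω j' S.X₃ where
  toFun φ := ShiftedHom.comp (hS.extClass.hom) φ (by simpa using h)
  map_add' φ ψ := ShiftedHom.comp_add _ _ _ _
  map_smul' a φ := ShiftedHom.comp_smul _ _ _ _

lemma Fδ_apply (j j' : ℤ) (h : j + 1 = j') (φ : F ω j S.X₁) :
    Fδ ω hS j j' h φ = ShiftedHom.comp (hS.extClass.hom) φ (by simpa using h) := rfl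

include hS in
lemma Fexact_g_f (j : ℤ) : Function.Exact (Fmap ω j S.g) (Fmap ω j S.f) := by
  have := (preadditiveYoneda.obj ω).homologySequence_exact₂ _
    (op_distinguished _ hS.singleTriangle_distinguished) j
  rw [ShortComplex.ab_exact_iff_function_exact] at this
  exact this

lemma homologySequenceδ_eq (j j' : ℤ) (h : j + 1 = j') (φ : F ω j S.X₁) :
    (preadditiveYoneda.obj ω).homologySequenceδ
      ((triangleOpEquivalence _).functor.obj (op hS.singleTriangle)) j j' h φ =
      Fδ ω hS j j' h φ := by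
  rw [preadditiveYoneda_homologySequenceδ_apply, Fδ_apply, hS.extClass_hom, ShiftedHom.comp]
  rfl

lemma Fexact_f_δ (j j' : ℤ) (h : j + 1 = j') :
    Function.Exact (Fmap ω j S.f) (Fδ ω hS j j' h) := by
  have := (preadditiveYoneda.obj ω).homologySequence_exact₃ _
    (op_distinguished _ hS.singleTriangle_distinguished) j j' h
  rw [ShortComplex.ab_exact_iff_function_exact] at this
  intro φ
  rw [← homologySequenceδ_eq]
  exact this φ

lemma Fexact_δ_g (j j' : ℤ) (h : j + 1 = j') :
    Function.Exact (Fδ ω hS j j' h) (Fmap ω j' S.g) := by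
  have := (preadditiveYoneda.obj ω).homologySequence_exact₁ _
    (op_distinguished _ hS.singleTriangle_distinguished) j j' h
  rw [ShortComplex.ab_exact_iff_function_exact] at this
  intro φ
  refine (this φ).trans ?_
  constructor
  · rintro ⟨ψ, hψ⟩
    exact ⟨ψ, (homologySequenceδ_eq ω hS j j' h ψ).symm.trans hψ⟩
  · rintro ⟨ψ, hψ⟩
    exact ⟨ψ, (homologySequenceδ_eq ω hS j j' h ψ).trans hψ⟩

section Dual

/-- `Hom(-, E)` is exact for an injective module `E` (any universes) -/
lemma exact_lcomp {E : Type u} [AddCommGroup E] [Module A E] [Module.Injective A E]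
    {X Y Z : Type*} [AddCommGroup X] [Module A X] [AddCommGroup Y] [Module A Y]
    [AddCommGroup Z] [Module A Z] (α : X →ₗ[A] Y) (β : Y →ₗ[A] Z) (h : Function.Exact α β) :
    Function.Exact (LinearMap.lcomp A E β) (LinearMap.lcomp A E α) := by
  intro c
  constructor
  · intro hc
    -- `c` kills the image of `α`, i.e. the kernel of `β`
    have hker : LinearMap.ker β ≤ LinearMap.ker c := by
      intro y hy
      obtain ⟨x, rfl⟩ := (h y).1 hy
      exact LinearMap.congr_fun hc x
    -- the induced map on the range of `β`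
    let c' : LinearMap.range β →ₗ[A] E :=
      (LinearMap.ker β).liftQ c hker ∘ₗ (LinearMap.quotKerEquivRange β).symm.toLinearMap
    obtain ⟨d, hd⟩ := Module.Injective.extension_property A E _ _ (LinearMap.range β).subtype
      (Submodule.injective_subtype _) c'
    refine ⟨d, ?_⟩
    apply LinearMap.ext
    intro y
    have h1 := LinearMap.congr_fun hd ⟨β y, LinearMap.mem_range_self β y⟩
    simp only [LinearMap.comp_apply, Submodule.subtype_apply] at h1
    rw [LinearMap.lcomp_apply, h1]
    simp only [c', LinearMap.comp_apply, LinearEquiv.coe_coe]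
    have h2 : (LinearMap.quotKerEquivRange β).symm ⟨β y, LinearMap.mem_range_self β y⟩ =
        Submodule.Quotient.mk y := by
      rw [LinearEquiv.symm_apply_eq]
      rfl
    rw [h2, Submodule.liftQ_apply]
  · rintro ⟨d, rfl⟩
    apply LinearMap.ext
    intro x
    rw [LinearMap.lcomp_apply, LinearMap.lcomp_apply, h.apply_apply_eq_zero, map_zero,
      LinearMap.zero_apply]

variable (E : Type u) [AddCommGroup E] [Module A E]

/-- the `E`-dual of `Hom_D(M, ω[j])` -/
abbrev T (j : ℤ) (M : ModuleCat.{u} A) : Type (u + 1) := F ω j M →ₗ[A] E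

/-- covariant functoriality of `T` -/
noncomputable def Tmap (j : ℤ) {M N : ModuleCat.{u} A} (f : M ⟶ N) : T ω E j M →ₗ[A] T ω E j N :=
  LinearMap.lcomp A E (Fmap ω j f)

lemma Tmap_apply (j : ℤ) {M N : ModuleCat.{u} A} (f : M ⟶ N) (c : T ω E j M) (φ : F ω j N) :
    Tmap ω E j f c φ = c (Fmap ω j f φ) := rfl

/-- the connecting map of `T` -/
noncomputable def Tδ (j j' : ℤ) (h : j + 1 = j') : T ω E j' S.X₃ →ₗ[A] T ω E j S.X₁ :=
  LinearMap.lcomp A E (Fδ ω hS j j' h)

lemma Tδ_apply (j j' : ℤ) (h : j + 1 = j') (c : T ω E j' S.X₃) (φ : F ω j S.X₁) :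
    Tδ ω hS E j j' h c φ = c (Fδ ω hS j j' h φ) := rfl

variable [Module.Injective A E]

include hS in
lemma Texact_f_g (j : ℤ) : Function.Exact (Tmap ω E j S.f) (Tmap ω E j S.g) :=
  exact_lcomp _ _ (Fexact_g_f ω hS j)

lemma Texact_δ_f (j j' : ℤ) (h : j + 1 = j') :
    Function.Exact (Tδ ω hS E j j' h) (Tmap ω E j S.f) :=
  exact_lcomp _ _ (Fexact_f_δ ω hS j j' h)

lemma Texact_g_δ (j j' : ℤ) (h : j + 1 = j') :
    Function.Exact (Tmap ω E j' S.g) (Tδ ω hS E j j' h) :=
  exact_lcomp _ _ (Fexact_δ_g ω hS j j' h)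

end Dual

end Groth.Agent.Helper3.LocDual
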