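import Mathlib
import Groth.Prelude.Def_Wider
import Groth.Agent.Lib.Helper3.LocDual1
import Groth.Agent.Lib.Helper3.LocDual2
import Groth.Agent.Lib.Helper8.LC8

/-!
# Local duality III: the natural pairing `H^i_m(M) → Hom_A(Hom_D(M, ω[-i]), E)`
-/

set_option autoImplicit false
universe u
open CategoryTheory CategoryTheory.Limits Pretriangulated Opposite

attribute [local instance] HasDerivedCategory.standard

namespace Groth.Agent.Helper3.LocDual

open DerivedCategory Abelian Groth.Agent.Helper8.LC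

variable {A : Type u} [CommRing A] [IsLocalRing A] [IsNoetherianRing A]
  {ω : Dual.D A} (hω : Dual.IsDualizing A ω) (hn : Dual.IsNormalized A ω)
  {E : Type u} [AddCommGroup E] [Module A E]
  (f : IsLocalRing.ResidueField A →ₗ[A] E) (hf : InjHull.IsInjectiveHull f)

/-- the pairing at level `n` -/
noncomputable def pairL (i : ℕ) (n : ℕ) (M : ModuleCat.{u} A) :
    Ext (Q (IsLocalRing.maximalIdeal A) n) M i →ₗ[A] T ω E (-(i : ℤ)) M where
  toFun e :=
    { toFun := fun φ => jmap hω hn f hf n (ShiftedHom.comp e.hom φ (neg_add_cancel (i : ℤ)))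
      map_add' := fun φ ψ => by rw [ShiftedHom.comp_add, map_add]
      map_smul' := fun a φ => by rw [ShiftedHom.comp_smul, map_smul, RingHom.id_apply] }
  map_add' e e' := by
    apply LinearMap.ext
    intro φ
    simp only [LinearMap.coe_mk, AddHom.coe_mk, LinearMap.add_apply]
    rw [Ext.add_hom, ShiftedHom.add_comp, map_add]
  map_smul' a e := by
    apply LinearMap.ext
    intro φ
    simp only [LinearMap.coe_mk, AddHom.coe_mk, LinearMap.smul_apply, RingHom.id_apply]
    rw [Ext.smul_hom, ShiftedHom.smul_comp, map_smul]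

lemma pairL_apply (i n : ℕ) (M : ModuleCat.{u} A)
    (e : Ext (Q (IsLocalRing.maximalIdeal A) n) M i) (φ : F ω (-(i : ℤ)) M) :
    pairL hω hn f hf i n M e φ =
      jmap hω hn f hf n (ShiftedHom.comp e.hom φ (neg_add_cancel (i : ℤ))) := rfl

lemma pairL_compat (i : ℕ) (M : ModuleCat.{u} A) (n k : ℕ) (h : n ≤ k)
    (e : Ext (Q (IsLocalRing.maximalIdeal A) n) M i) :
    pairL hω hn f hf i k M ((Ext.mk₀ (proj (IsLocalRing.maximalIdeal A) h)).comp e (zero_add i)) =
      pairL hω hn f hf i n M e := by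
  apply LinearMap.ext
  intro φ
  rw [pairL_apply, pairL_apply, ← jmap_tau_apply hω hn f hf h]
  congr 1
  rw [Ext.comp_hom, Ext.mk₀_hom]
  rw [ShiftedHom.comp_assoc _ _ _ _ (neg_add_cancel (i : ℤ)) (by simp)]
  rw [ShiftedHom.mk₀_comp]
  rfl

/-- the natural map `H^i_m(M) → Hom_A(Hom_D(M, ω[-i]), E)` -/
noncomputable def Psi (i : ℕ) (M : ModuleCat.{u} A) :
    (localCohomology (IsLocalRing.maximalIdeal A) i).obj M →ₗ[A] T ω E (-(i : ℤ)) M :=
  desc (IsLocalRing.maximalIdeal A) i (fun n => pairL hω hn f hf i n M)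
    (fun n k h e => pairL_compat hω hn f hf i M n k h e)

lemma Psi_ι (i : ℕ) (M : ModuleCat.{u} A) (n : ℕ)
    (e : Ext (Q (IsLocalRing.maximalIdeal A) n) M i) :
    Psi hω hn f hf i M (ι (IsLocalRing.maximalIdeal A) i n M e) = pairL hω hn f hf i n M e :=
  desc_ι _ _ _ _ e

/-- naturality in the module -/
lemma Psi_map (i : ℕ) {M N : ModuleCat.{u} A} (g : M ⟶ N)
    (x : (localCohomology (IsLocalRing.maximalIdeal A) i).obj M) :
    Psi hω hn f hf i N ((localCohomology (IsLocalRing.maximalIdeal A) i).map g x) =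
      Tmap ω E (-(i : ℤ)) g (Psi hω hn f hf i M x) := by
  obtain ⟨n, e, rfl⟩ := ι_rep (IsLocalRing.maximalIdeal A) i M x
  rw [ι_map, Psi_ι, Psi_ι]
  apply LinearMap.ext
  intro φ
  rw [Tmap_apply, pairL_apply, pairL_apply]
  congr 1
  rw [Ext.comp_hom, Ext.mk₀_hom]
  rw [ShiftedHom.comp_assoc _ _ _ _ (show -(i : ℤ) + ((0 : ℕ) : ℤ) = -(i : ℤ) by simp) (by simp)]
  rw [ShiftedHom.mk₀_comp]
  rfl

/-- compatibility with the connecting maps -/
lemma Psi_δ {S : ShortComplex (ModuleCat.{u} A)} (hS : S.ShortExact) (i : ℕ)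
    (x : (localCohomology (IsLocalRing.maximalIdeal A) i).obj S.X₃) :
    Psi hω hn f hf (i + 1) S.X₁ (δ (IsLocalRing.maximalIdeal A) i hS x) =
      Tδ ω hS E (-((i + 1 : ℕ) : ℤ)) (-(i : ℤ)) (by push_cast; ring)
        (Psi hω hn f hf i S.X₃ x) := by
  obtain ⟨n, e, rfl⟩ := ι_rep (IsLocalRing.maximalIdeal A) i S.X₃ x
  rw [δ_ι, Psi_ι, Psi_ι]
  apply LinearMap.ext
  intro φ
  rw [Tδ_apply, pairL_apply, pairL_apply, Fδ_apply]
  congr 1
  rw [Ext.comp_hom]
  exact ShiftedHom.comp_assoc _ _ _ _ _ (by push_cast; ring)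

end Groth.Agent.Helper3.LocDual
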