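import Mathlib
import Groth.Prelude.Def_Wider
import Groth.Agent.Lib.Helper3.LocDual3
import Groth.Agent.Lib.Helper8.LC9
import Groth.Agent.Lib.Helper8.LC18

/-!
# Local duality IV: dévissage
-/

set_option autoImplicit false
universe u
open CategoryTheory CategoryTheory.Limits Pretriangulated Opposite

attribute [local instance] HasDerivedCategory.standard

namespace Groth.Agent.Helper3.LocDual

open DerivedCategory Abelian Groth.Agent.Helper8.LC Groth.Agent.Helper3.DualCx

variable {A : Type u} [CommRing A] [IsLocalRing A] [IsNoetherianRing A]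
  {ω : Dual.D A} (hω : Dual.IsDualizing A ω) (hn : Dual.IsNormalized A ω)
  {E : Type u} [AddCommGroup E] [Module A E]
  (f : IsLocalRing.ResidueField A →ₗ[A] E) (hf : InjHull.IsInjectiveHull f)

/-- the property: the pairing is bijective in all degrees -/
def P (M : ModuleCat.{u} A) : Prop := ∀ i : ℕ, Function.Bijective (Psi hω hn f hf i M)

lemma smul_quotient_eq_zero' {R : Type u} [CommRing R] (I : Ideal R) (a : R) (ha : a ∈ I)
    (b : R ⧸ I) : a • b = 0 := by
  obtain ⟨c, rfl⟩ := Submodule.Quotient.mk_surjective I b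
  rw [← Submodule.Quotient.mk_smul, Submodule.Quotient.mk_eq_zero, smul_eq_mul]
  exact I.mul_mem_right c ha

/-- dual of a surjection is injective -/
lemma lcomp_injective_of_surjective {X Y : Type*} [AddCommGroup X] [Module A X]
    [AddCommGroup Y] [Module A Y] (α : X →ₗ[A] Y) (hα : Function.Surjective α) :
    Function.Injective (LinearMap.lcomp A E α) := by
  intro c c' h
  apply LinearMap.ext
  intro y
  obtain ⟨x, rfl⟩ := hα y
  exact LinearMap.congr_fun h x

section SES

variable {S : ShortComplex (ModuleCat.{u} A)} (hS : S.ShortExact)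

include hω hn hS in
/-- `Hom_D(X₂, ω[0]) → Hom_D(X₁, ω[0])` is surjective, as `Ext^1(X₃, ω) = 0` -/
lemma Fmap_f_surjective_zero [Module.Finite A S.X₃] (j : ℤ) (hj : j = 0) :
    Function.Surjective (Fmap ω j S.f) := by
  subst hj
  intro φ
  have hsub : Subsingleton (F ω 1 S.X₃) := van_pos hω hn S.X₃ 1 (by omega)
  have h0 : Fδ ω hS 0 1 (by omega) φ = 0 := hsub.elim _ _
  exact (Fexact_f_δ ω hS 0 1 (by omega) φ).1 h0

include hω hn hS in
lemma Tmap_f_injective_zero [Module.Finite A S.X₃] (j : ℤ) (hj : j = 0) :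
    Function.Injective (Tmap ω E j S.f) :=
  lcomp_injective_of_surjective _ (Fmap_f_surjective_zero hω hn hS j hj)

include hS in
/-- the five lemma step -/
theorem P_of_shortExact [Module.Finite A S.X₃] (h₁ : P hω hn f hf S.X₁) (h₃ : P hω hn f hf S.X₃) :
    P hω hn f hf S.X₂ := by
  haveI := hf.isInjective
  intro i
  constructor
  · rw [injective_iff_map_eq_zero]
    intro t ht
    have h1 : Psi hω hn f hf i S.X₃
        ((localCohomology (IsLocalRing.maximalIdeal A) i).map S.g t) = 0 := by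
      rw [Psi_map, ht, map_zero]
    have h2 : (localCohomology (IsLocalRing.maximalIdeal A) i).map S.g t = 0 :=
      (h₃ i).1 (by rw [h1, map_zero])
    obtain ⟨t', rfl⟩ := (exact_f_g (IsLocalRing.maximalIdeal A) i hS t).1 h2
    have h3 : Tmap ω E (-(i : ℤ)) S.f (Psi hω hn f hf i S.X₁ t') = 0 := by
      rw [← Psi_map, ht]
    cases i with
    | zero =>
      have h4 : Psi hω hn f hf 0 S.X₁ t' = 0 :=
        Tmap_f_injective_zero hω hn hS _ (by simp) (by rw [h3, map_zero])
      have h5 : t' = 0 := (h₁ 0).1 (by rw [h4, map_zero])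
      rw [h5, map_zero]
    | succ i' =>
      obtain ⟨s', hs'⟩ := (Texact_δ_f ω hS E (-((i' + 1 : ℕ) : ℤ)) (-(i' : ℤ))
        (by push_cast; ring) (Psi hω hn f hf (i' + 1) S.X₁ t')).1 h3
      obtain ⟨s, rfl⟩ := (h₃ i').2 s'
      have h4 : Psi hω hn f hf (i' + 1) S.X₁ t' =
          Psi hω hn f hf (i' + 1) S.X₁ (δ (IsLocalRing.maximalIdeal A) i' hS s) := by
        rw [Psi_δ]
        exact hs'.symm
      have h5 : t' = δ (IsLocalRing.maximalIdeal A) i' hS s := (h₁ (i' + 1)).1 h4
      rw [h5]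
      exact (exact_δ_f (IsLocalRing.maximalIdeal A) i' hS).apply_apply_eq_zero s
  · intro c
    obtain ⟨s'', hs''⟩ := (h₃ i).2 (Tmap ω E (-(i : ℤ)) S.g c)
    have h1 : Psi hω hn f hf (i + 1) S.X₁ (δ (IsLocalRing.maximalIdeal A) i hS s'') = 0 := by
      rw [Psi_δ, hs'']
      exact (Texact_g_δ ω hS E (-((i + 1 : ℕ) : ℤ)) (-(i : ℤ))
        (by push_cast; ring)).apply_apply_eq_zero c
    have h2 : δ (IsLocalRing.maximalIdeal A) i hS s'' = 0 :=
      (h₁ (i + 1)).1 (by rw [h1, map_zero])
    obtain ⟨s, rfl⟩ := (exact_g_δ (IsLocalRing.maximalIdeal A) i hS s'').1 h2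
    have h3 : Tmap ω E (-(i : ℤ)) S.g (c - Psi hω hn f hf i S.X₂ s) = 0 := by
      rw [map_sub, ← Psi_map, hs'', sub_self]
    obtain ⟨c', hc'⟩ := (Texact_f_g ω hS E (-(i : ℤ)) (c - Psi hω hn f hf i S.X₂ s)).1 h3
    obtain ⟨s', rfl⟩ := (h₁ i).2 c'
    refine ⟨s + (localCohomology (IsLocalRing.maximalIdeal A) i).map S.f s', ?_⟩
    rw [map_add, Psi_map, hc']
    abel

end SES

section Small

include hω hn f hf in
/-- zero modules -/
lemma P_of_subsingleton (M : ModuleCat.{u} A) [Subsingleton M] : P hω hn f hf M := by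
  intro i
  have hH : Subsingleton ((localCohomology (IsLocalRing.maximalIdeal A) i).obj M) := by
    refine ⟨fun x y => ?_⟩
    have key : ∀ z : (localCohomology (IsLocalRing.maximalIdeal A) i).obj M, z = 0 := by
      intro z
      obtain ⟨n, e, rfl⟩ := ι_rep (IsLocalRing.maximalIdeal A) i M z
      have h0 : (𝟙 M : M ⟶ M) = 0 := by
        apply ModuleCat.hom_ext
        apply LinearMap.ext
        intro m
        exact Subsingleton.elim _ _
      have h1 : e = 0 := by
        rw [← Ext.comp_mk₀_id e, h0, Ext.mk₀_zero, Ext.comp_zero]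
      rw [h1, map_zero]
    rw [key x, key y]
  have hF : Subsingleton (F ω (-(i : ℤ)) M) := van_of_subsingleton ω (-(i : ℤ)) M
  have hT : Subsingleton (T ω E (-(i : ℤ)) M) := by
    refine ⟨fun c c' => ?_⟩
    apply LinearMap.ext
    intro φ
    rw [Subsingleton.elim φ 0, map_zero, map_zero]
  exact ⟨Function.injective_of_subsingleton _, fun c => ⟨0, Subsingleton.elim _ _⟩⟩

include hω hn f hf in
/-- invariance under isomorphism -/
lemma P_of_linearEquiv {M N : Type u} [AddCommGroup M] [Module A M] [AddCommGroup N]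
    [Module A N] [Module.Finite A M] (e : M ≃ₗ[A] N) (h : P hω hn f hf (ModuleCat.of A M)) :
    P hω hn f hf (ModuleCat.of A N) := by
  have hex : Function.Exact (0 : PUnit.{u + 1} →ₗ[A] N) e.symm.toLinearMap := by
    intro y
    constructor
    · intro hy
      refine ⟨0, ?_⟩
      rw [LinearMap.zero_apply]
      exact (e.symm.injective (by rw [map_zero]; exact hy)).symm
    · rintro ⟨x, rfl⟩
      rw [LinearMap.zero_apply, map_zero]
  have hS := shortExact_of_exact (0 : PUnit.{u + 1} →ₗ[A] N) e.symm.toLinearMap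
    (Function.injective_of_subsingleton _) e.symm.surjective hex
  haveI : Module.Finite A
      (ModuleCat.shortComplexOfCompEqZero (0 : PUnit.{u + 1} →ₗ[A] N) e.symm.toLinearMap
        hex.linearMap_comp_eq_zero).X₃ := ‹Module.Finite A M›
  haveI : Subsingleton (ModuleCat.shortComplexOfCompEqZero (0 : PUnit.{u + 1} →ₗ[A] N)
      e.symm.toLinearMap hex.linearMap_comp_eq_zero).X₁ :=
    (inferInstance : Subsingleton PUnit.{u + 1})
  exact P_of_shortExact hω hn f hf hS (P_of_subsingleton hω hn f hf _) h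

end Small

section Residue

open Groth.Agent.Helper3.DualFun Groth.Agent.Helper1.InjHullL Groth.Agent.Helper1.MatlisL2

/-- vanishing criterion for a composition with a degree zero isomorphism -/
lemma mk₀_comp_eq_zero_iff {X Y Z : Dual.D A} (m₀ : ℤ) (hm₀ : m₀ = 0) (u : X ⟶ Y) [IsIso u]
    {a c : ℤ} (φ : ShiftedHom Y Z a) (h : a + m₀ = c) :
    (ShiftedHom.mk₀ m₀ hm₀ u).comp φ h = 0 ↔ φ = 0 := by
  subst hm₀
  obtain rfl : a = c := by simpa using h
  rw [ShiftedHom.mk₀_comp]
  constructor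
  · intro h0
    exact (cancel_epi u).1 (by rw [h0, comp_zero])
  · intro h0
    rw [h0, comp_zero]

/-- the residue field as an object of `ModuleCat` -/
abbrev kk (A : Type u) [CommRing A] [IsLocalRing A] : ModuleCat.{u} A :=
  ModuleCat.of A (A ⧸ IsLocalRing.maximalIdeal A)

lemma isSimpleModule_residue : IsSimpleModule A (A ⧸ IsLocalRing.maximalIdeal A) :=
  isSimpleModule_iff_isCoatom.2 (Ideal.isMaximal_def.1 (IsLocalRing.maximalIdeal.isMaximal A))

/-- `H^0_m(k)` is a simple module -/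
lemma isSimpleModule_H0_residue :
    IsSimpleModule A ((localCohomology (IsLocalRing.maximalIdeal A) 0).obj (kk A)) := by
  haveI := isSimpleModule_residue (A := A)
  have htop : DRing.torsionSub (IsLocalRing.maximalIdeal A) (A ⧸ IsLocalRing.maximalIdeal A) = ⊤ := by
    rw [eq_top_iff]
    intro x _
    refine ⟨1, fun a ha => ?_⟩
    rw [pow_one] at ha
    exact smul_quotient_eq_zero' _ a ha x
  let e : (localCohomology (IsLocalRing.maximalIdeal A) 0).obj (kk A) ≃ₗ[A]
      (A ⧸ IsLocalRing.maximalIdeal A) :=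
    (h0Equiv (IsLocalRing.maximalIdeal A) (kk A)).trans
      ((LinearEquiv.ofEq _ _ htop).trans Submodule.topEquiv)
  exact (e.isSimpleModule_iff).2 inferInstance

include hω hn in
/-- `Hom_D(k, ω[0]) ≃ k` -/
lemma nonempty_eps : Nonempty ((Dual.inD A (A ⧸ IsLocalRing.maximalIdeal A) ⟶ ω⟦(0 : ℤ)⟧) ≃ₗ[A]
    (A ⧸ IsLocalRing.maximalIdeal A)) := by
  obtain ⟨n₀, hn₀, ⟨ε⟩⟩ := main_S0364 A ω hω (IsLocalRing.maximalIdeal A)
  haveI : Nontrivial (A ⧸ IsLocalRing.maximalIdeal A) :=
    Ideal.Quotient.nontrivial_iff.2 (IsLocalRing.maximalIdeal.isMaximal A).ne_top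
  have hn₀0 : n₀ = 0 := by
    by_contra hne
    have : Subsingleton (Dual.inD A (A ⧸ IsLocalRing.maximalIdeal A) ⟶ ω⟦n₀⟧) :=
      van_residue hn n₀ hne
    exact not_subsingleton _ ε.symm.toEquiv.subsingleton
  subst hn₀0
  exact ⟨ε⟩

include hω hn hf in
/-- `T^0(k)` is a simple module -/
lemma isSimpleModule_T0_residue (j : ℤ) (hj : j = 0) : IsSimpleModule A (T ω E j (kk A)) := by
  subst hj
  obtain ⟨ε⟩ := nonempty_eps hω hn
  have h1 : IsSimpleModule A (IsLocalRing.ResidueField A →ₗ[A] E) :=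
    ((isInjectiveHull_iff (E := E)).1 ⟨f, hf⟩).2.2
  let e : T ω E 0 (kk A) ≃ₗ[A] ((A ⧸ IsLocalRing.maximalIdeal A) →ₗ[A] E) :=
    LinearEquiv.arrowCongr ε (LinearEquiv.refl A E)
  exact (e.isSimpleModule_iff).2 h1

include hω hn in
lemma nontrivial_F0_residue (j : ℤ) (hj : j = 0) : Nontrivial (F ω j (kk A)) := by
  subst hj
  obtain ⟨ε⟩ := nonempty_eps hω hn
  haveI : Nontrivial (A ⧸ IsLocalRing.maximalIdeal A) :=
    Ideal.Quotient.nontrivial_iff.2 (IsLocalRing.maximalIdeal.isMaximal A).ne_top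
  exact ε.toEquiv.nontrivial

/-- the isomorphism `A/m^1 ≅ A/m` -/
noncomputable def uIso : Q (IsLocalRing.maximalIdeal A) 1 ≅ kk A :=
  (Submodule.quotEquivOfEq _ _ (pow_one (IsLocalRing.maximalIdeal A))).toModuleIso

include hω hn f hf in
/-- the case of the residue field -/
theorem P_residue : P hω hn f hf (kk A) := by
  intro i
  rcases Nat.eq_zero_or_pos i with h0 | hpos
  · subst h0
    haveI := isSimpleModule_H0_residue (A := A)
    haveI := isSimpleModule_T0_residue hω hn f hf (-((0 : ℕ) : ℤ)) (by simp)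
    apply LinearMap.bijective_of_ne_zero
    intro hzero
    haveI := nontrivial_F0_residue hω hn (-((0 : ℕ) : ℤ)) (by simp)
    obtain ⟨φ, hφ⟩ := exists_ne (0 : F ω (-((0 : ℕ) : ℤ)) (kk A))
    have h1 : Psi hω hn f hf 0 (kk A)
        (ι (IsLocalRing.maximalIdeal A) 0 1 (kk A) (Ext.mk₀ (uIso (A := A)).hom)) φ = 0 := by
      rw [hzero]
      rfl
    rw [Psi_ι, pairL_apply, Ext.mk₀_hom] at h1
    have h2 := (jmap_injective hω hn f hf 1) (h1.trans (map_zero _).symm)
    haveI : IsIso ((DerivedCategory.singleFunctor (ModuleCat.{u} A) 0).map (uIso (A := A)).hom) :=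
      inferInstance
    exact hφ ((mk₀_comp_eq_zero_iff _ _ _ φ _).1 h2)
  · have hH : Subsingleton ((localCohomology (IsLocalRing.maximalIdeal A) i).obj (kk A)) := by
      apply subsingleton_of_supportDim_lt (IsLocalRing.maximalIdeal A)
        (A ⧸ IsLocalRing.maximalIdeal A) i
      refine lt_of_le_of_lt (Groth.Agent.Helper3.DualCx.supportDim_le_zero_of_le_annihilator ?_) ?_
      · rw [Ideal.annihilator_quotient]
      · exact_mod_cast hpos
    have hF : Subsingleton (F ω (-(i : ℤ)) (kk A)) := van_residue hn (-(i : ℤ)) (by omega)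
    have hT : Subsingleton (T ω E (-(i : ℤ)) (kk A)) := by
      refine ⟨fun c c' => ?_⟩
      apply LinearMap.ext
      intro φ
      rw [Subsingleton.elim φ 0, map_zero, map_zero]
    exact ⟨Function.injective_of_subsingleton _, fun c => ⟨0, Subsingleton.elim _ _⟩⟩

end Residue

end Groth.Agent.Helper3.LocDual
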