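import Mathlib
import Groth.Prelude.Def_Wider
import Groth.Agent.Lib.Helper3.LocDual4

/-!
# Local duality V: the regular element step and the main theorem
-/

set_option autoImplicit false
universe u
open CategoryTheory CategoryTheory.Limits Pretriangulated Opposite

attribute [local instance] HasDerivedCategory.standard

namespace Groth.Agent.Helper3.LocDual

open DerivedCategory Abelian Groth.Agent.Helper8.LC Groth.Agent.Helper3.DualCx

variable {A : Type u} [CommRing A] [IsLocalRing A] [IsNoetherianRing A]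
  {ω : Dual.D A} (hω : Dual.IsDualizing A ω) (hn : Dual.IsNormalized A ω)
  {E : Type u} [AddCommGroup E] [Module A E]
  (f : IsLocalRing.ResidueField A →ₗ[A] E) (hf : InjHull.IsInjectiveHull f)

section Smul

variable (M : Type u) [AddCommGroup M] [Module A M]

lemma ofHom_lsmul (a : A) :
    ModuleCat.ofHom (LinearMap.lsmul A M a) = a • 𝟙 (ModuleCat.of A M) := by
  ext m
  simp

lemma H_map_lsmul (a : A) (i : ℕ)
    (y : (localCohomology (IsLocalRing.maximalIdeal A) i).obj (ModuleCat.of A M)) :
    (localCohomology (IsLocalRing.maximalIdeal A) i).map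
      (ModuleCat.ofHom (LinearMap.lsmul A M a)) y = a • y := by
  obtain ⟨n, e, rfl⟩ := ι_rep (IsLocalRing.maximalIdeal A) i (ModuleCat.of A M) y
  rw [ι_map, ofHom_lsmul, ← Ext.smul_eq_comp_mk₀, map_smul]

lemma Tmap_lsmul (a : A) (j : ℤ) (c : T ω E j (ModuleCat.of A M)) :
    Tmap ω E j (ModuleCat.ofHom (LinearMap.lsmul A M a)) c = a • c := by
  apply LinearMap.ext
  intro φ
  rw [Tmap_apply, Fmap_apply, ofHom_lsmul, Functor.map_smul, CategoryTheory.Functor.map_id,
    Linear.smul_comp, Category.id_comp, map_smul, LinearMap.smul_apply]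

end Smul

section Torsion

open Groth.Agent.Helper1.MatlisL

variable (M : Type u) [AddCommGroup M] [Module A M] [Module.Finite A M]

include hω hf in
/-- elements of `T^j(M)` are killed by powers of elements of the maximal ideal -/
lemma exists_pow_smul_T (x : A) (hx : x ∈ IsLocalRing.maximalIdeal A) (j : ℤ)
    (c : T ω E j (ModuleCat.of A M)) : ∃ k : ℕ, 1 ≤ k ∧ x ^ k • c = 0 := by
  haveI : Module.Finite A (F ω j (ModuleCat.of A M)) := finite_ext hω M j
  obtain ⟨s, hs⟩ := (Module.finite_def.1 (inferInstance : Module.Finite A (F ω j (ModuleCat.of A M))))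
  have hE := hull_isPowerTorsion f hf
  choose nf hnf using fun φ : F ω j (ModuleCat.of A M) => hE (c φ)
  refine ⟨s.sup nf + 1, by omega, ?_⟩
  apply LinearMap.ext_on hs
  intro φ hφ
  rw [LinearMap.smul_apply, LinearMap.zero_apply]
  apply hnf φ
  apply Ideal.pow_le_pow_right (Finset.le_sup (f := nf) hφ |>.trans (Nat.le_succ _))
  exact Ideal.pow_mem_pow hx _

lemma exists_pow_smul_H (x : A) (hx : x ∈ IsLocalRing.maximalIdeal A) (i : ℕ)
    (t : (localCohomology (IsLocalRing.maximalIdeal A) i).obj (ModuleCat.of A M)) :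
    ∃ k : ℕ, 1 ≤ k ∧ x ^ k • t = 0 := by
  obtain ⟨n, hn⟩ := isPowerTorsion (IsLocalRing.maximalIdeal A) i (ModuleCat.of A M) t
  refine ⟨n + 1, by omega, ?_⟩
  apply hn
  exact Ideal.pow_le_pow_right (Nat.le_succ n) (Ideal.pow_mem_pow hx _)

end Torsion

section Regular

variable (M : Type u) [AddCommGroup M] [Module A M] [Module.Finite A M]

/-- the quotient `M / aM` -/
abbrev Mq (a : A) : Type u := M ⧸ LinearMap.range (LinearMap.lsmul A M a)

lemma ses_exact (a : A) :
    Function.Exact (LinearMap.lsmul A M a) (LinearMap.range (LinearMap.lsmul A M a)).mkQ :=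
  LinearMap.exact_map_mkQ_range _

set_option maxRecDepth 4000 in
include hω hn f hf in
/-- the regular element step -/
theorem P_of_regular (x : A) (hx : x ∈ IsLocalRing.maximalIdeal A) (hreg : IsSMulRegular M x)
    (h : ∀ k : ℕ, 1 ≤ k → P hω hn f hf (ModuleCat.of A (Mq M (x ^ k)))) :
    P hω hn f hf (ModuleCat.of A M) := by
  haveI := hf.isInjective
  have hS : ∀ k : ℕ, (ModuleCat.shortComplexOfCompEqZero (LinearMap.lsmul A M (x ^ k))
      (LinearMap.range (LinearMap.lsmul A M (x ^ k))).mkQ
      (ses_exact M (x ^ k)).linearMap_comp_eq_zero).ShortExact := fun k =>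
    shortExact_of_exact _ _ (fun a b hab => (hreg.pow k) hab) (Submodule.mkQ_surjective _)
      (ses_exact M (x ^ k))
  have hsurj : ∀ i, Function.Surjective (Psi hω hn f hf i (ModuleCat.of A M)) := by
    intro i c
    obtain ⟨k, hk1, hk⟩ := exists_pow_smul_T hω f hf M x hx _ c
    haveI : Module.Finite A (ModuleCat.shortComplexOfCompEqZero (LinearMap.lsmul A M (x ^ k))
        (LinearMap.range (LinearMap.lsmul A M (x ^ k))).mkQ
        (ses_exact M (x ^ k)).linearMap_comp_eq_zero).X₃ :=
      (inferInstance : Module.Finite A (Mq M (x ^ k)))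
    have h0 : Tmap ω E (-(i : ℤ)) (ModuleCat.ofHom (LinearMap.lsmul A M (x ^ k))) c = 0 :=
      (Tmap_lsmul M (x ^ k) _ c).trans hk
    cases i with
    | zero =>
      have hc : c = 0 :=
        Tmap_f_injective_zero hω hn (hS k) _ (by simp) (h0.trans (map_zero _).symm)
      exact ⟨0, by rw [hc, map_zero]⟩
    | succ i' =>
      obtain ⟨s', hs'⟩ := (Texact_δ_f ω (hS k) E (-((i' + 1 : ℕ) : ℤ)) (-(i' : ℤ))
        (by push_cast; ring) c).1 h0
      obtain ⟨s, rfl⟩ := ((h k hk1) i').2 s'
      exact ⟨δ (IsLocalRing.maximalIdeal A) i' (hS k) s,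
        (Psi_δ hω hn f hf (hS k) i' s).trans hs'⟩
  intro i
  refine ⟨?_, hsurj i⟩
  rw [injective_iff_map_eq_zero]
  intro t ht
  obtain ⟨k, hk1, hk⟩ := exists_pow_smul_H M x hx i t
  have h0 : (localCohomology (IsLocalRing.maximalIdeal A) i).map
      (ModuleCat.ofHom (LinearMap.lsmul A M (x ^ k))) t = 0 := (H_map_lsmul M (x ^ k) i t).trans hk
  cases i with
  | zero =>
    exact map_f_injective_zero (IsLocalRing.maximalIdeal A) (hS k) (h0.trans (map_zero _).symm)
  | succ i' =>
    obtain ⟨s, rfl⟩ := (exact_δ_f (IsLocalRing.maximalIdeal A) i' (hS k) t).1 h0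
    have h1 : Tδ ω (hS k) E (-((i' + 1 : ℕ) : ℤ)) (-(i' : ℤ)) (by push_cast; ring)
        (Psi hω hn f hf i' _ s) = 0 :=
      (Psi_δ hω hn f hf (hS k) i' s).symm.trans ht
    obtain ⟨u, hu⟩ := (Texact_g_δ ω (hS k) E (-((i' + 1 : ℕ) : ℤ)) (-(i' : ℤ))
      (by push_cast; ring) (Psi hω hn f hf i' _ s)).1 h1
    obtain ⟨h', rfl⟩ := hsurj i' u
    have h2 : Psi hω hn f hf i' _ s = Psi hω hn f hf i' _
        ((localCohomology (IsLocalRing.maximalIdeal A) i').map
          (ModuleCat.ofHom (LinearMap.range (LinearMap.lsmul A M (x ^ k))).mkQ) h') :=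
      hu.symm.trans (Psi_map hω hn f hf i' _ h').symm
    have h3 := ((h k hk1) i').1 h2
    rw [h3]
    exact (exact_g_δ (IsLocalRing.maximalIdeal A) i' (hS k)).apply_apply_eq_zero h'

end Regular

section Main

include hω hn f hf in
/-- local duality, by Noetherian induction on the annihilator -/
theorem P_of_annihilated (I : Ideal A) :
    ∀ (M : Type u) [AddCommGroup M] [Module A M] [Module.Finite A M],
      I ≤ Module.annihilator A M → P hω hn f hf (ModuleCat.of A M) := by
  induction I using IsNoetherian.induction with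
  | hgt I IH =>
    intro M _ _ hM
    induction hM using IsNoetherianRing.induction_on_isQuotientEquivQuotientPrime A with
    | subsingleton N =>
      intro _
      exact P_of_subsingleton hω hn f hf _
    | quotient N p e =>
      intro hI
      refine P_of_linearEquiv hω hn f hf e.symm ?_
      have hIp : I ≤ p.asIdeal := by
        rw [e.annihilator_eq, Ideal.annihilator_quotient] at hI
        exact hI
      rcases lt_or_eq_of_le hIp with hlt | heq
      · exact IH p.asIdeal hlt (A ⧸ p.asIdeal) (by rw [Ideal.annihilator_quotient])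
      · by_cases hpm : p.asIdeal = IsLocalRing.maximalIdeal A
        · rw [hpm]
          exact P_residue hω hn f hf
        · haveI := p.isPrime
          obtain ⟨x, hxm, hxp⟩ := exists_mem_maximal_not_mem p.asIdeal hpm
          refine P_of_regular hω hn f hf (A ⧸ p.asIdeal) x hxm
            (isSMulRegular_quotient_prime p.asIdeal x hxp) ?_
          intro k hk1
          have hxk : x ^ k ∉ p.asIdeal := fun hmem => hxp (Ideal.IsPrime.mem_of_pow_mem ‹_› k hmem)
          have hJ : I < p.asIdeal ⊔ Ideal.span {x ^ k} :=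
            heq ▸ Groth.Agent.Helper3.DualCx.lt_sup_span p.asIdeal (x ^ k) hxk
          refine IH _ hJ _ ?_
          have := le_annihilator_quot_range (A ⧸ p.asIdeal) (x ^ k)
          rwa [Ideal.annihilator_quotient] at this
    | exact N₁ N₂ N₃ g₁ g₂ hg₁ hg₂ hg h₁ h₃ =>
      intro hI
      have hS := shortExact_of_exact g₁ g₂ hg₁ hg₂ hg
      haveI : Module.Finite A (ModuleCat.shortComplexOfCompEqZero g₁ g₂
          hg.linearMap_comp_eq_zero).X₃ := ‹Module.Finite A N₃›
      exact P_of_shortExact hω hn f hf hS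
        (h₁ (hI.trans (g₁.annihilator_le_of_injective hg₁)))
        (h₃ (hI.trans (g₂.annihilator_le_of_surjective hg₂)))

/-- **Grothendieck local duality** -/
theorem main_S11172 (A : Type u) [CommRing A] [IsLocalRing A] [IsNoetherianRing A] (ω : Dual.D A)
    (hω : Dual.IsDualizing A ω) (hn : Dual.IsNormalized A ω) (E : Type u) [AddCommGroup E]
    [Module A E] (f : IsLocalRing.ResidueField A →ₗ[A] E) (hf : InjHull.IsInjectiveHull f)
    (M : Type u) [AddCommGroup M] [Module A M] [Module.Finite A M] (i : ℕ) :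
    Nonempty (LocCoh.H (IsLocalRing.maximalIdeal A) i M ≃ₗ[A]
      ((Dual.inD A M ⟶ ω⟦(-(i : ℤ))⟧) →ₗ[A] E)) :=
  ⟨LinearEquiv.ofBijective (Psi hω hn f hf i (ModuleCat.of A M))
    (P_of_annihilated hω hn f hf ⊥ M bot_le i)⟩

end Main

end Groth.Agent.Helper3.LocDual
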