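import Mathlib

/-!
# Fibrewise criteria over `Spec A` (helper3)

* `surjective_of_fibre`: a linear map into a finite module which is surjective on all fibres
  `κ(p) ⊗ -` is surjective.
* `isNilpotent_of_fibre`: an endomorphism of a finite projective module which is nilpotent on all
  fibres is nilpotent.
* `map_ad_pow`: bracket preserving maps commute with powers of `ad`.
-/

open scoped TensorProduct

universe u

namespace Groth.Agent.Helper3.CartEng

variable {A : Type u} [CommRing A]

/-- A linear map into a finite module which is surjective on all residue fibres is surjective. -/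
theorem surjective_of_fibre {M N : Type*} [AddCommGroup M] [Module A M] [AddCommGroup N]
    [Module A N] [Module.Finite A N] (f : M →ₗ[A] N)
    (h : ∀ p : PrimeSpectrum A, Function.Surjective (f.baseChange p.asIdeal.ResidueField)) :
    Function.Surjective f := by
  rw [← LinearMap.range_eq_top]
  have hC : Subsingleton (N ⧸ LinearMap.range f) := by
    rw [← Module.support_eq_empty_iff (R := A)]
    ext p
    simp only [Set.mem_empty_iff_false, iff_false]
    rw [Module.mem_support_iff_nontrivial_residueField_tensorProduct,
      not_nontrivial_iff_subsingleton]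
    have h1 : Function.Surjective
        ((LinearMap.range f).mkQ.baseChange p.asIdeal.ResidueField) := by
      rw [LinearMap.baseChange_eq_ltensor]
      exact LinearMap.lTensor_surjective _ (Submodule.mkQ_surjective _)
    have h2 : ((LinearMap.range f).mkQ.baseChange p.asIdeal.ResidueField) ∘ₗ
        (f.baseChange p.asIdeal.ResidueField) = 0 := by
      rw [← LinearMap.baseChange_comp, LinearMap.range_mkQ_comp, LinearMap.baseChange_zero]
    constructor
    intro x y
    obtain ⟨x', rfl⟩ := h1 x
    obtain ⟨x'', rfl⟩ := h p x'
    obtain ⟨y', rfl⟩ := h1 y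
    obtain ⟨y'', rfl⟩ := h p y'
    have e1 := LinearMap.congr_fun h2 x''
    have e2 := LinearMap.congr_fun h2 y''
    simp only [LinearMap.comp_apply, LinearMap.zero_apply] at e1 e2
    rw [e1, e2]
  exact Submodule.Quotient.subsingleton_iff.mp hC

/-- An endomorphism of a finite projective module which is nilpotent on every residue fibre is
nilpotent. -/
theorem isNilpotent_of_fibre {S : Type*} [AddCommGroup S] [Module A S] [Module.Finite A S]
    [Module.Projective A S] (E : S →ₗ[A] S)
    (h : ∀ p : PrimeSpectrum A, IsNilpotent (E.baseChange p.asIdeal.ResidueField)) :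
    IsNilpotent E := by
  classical
  obtain ⟨n, f, hf⟩ := Module.Finite.exists_fin' A S
  obtain ⟨g, hg⟩ := Module.projective_lifting_property f LinearMap.id hf
  have hgx : ∀ s, f (g s) = s := fun s => LinearMap.congr_fun hg s
  set E' : Module.End A (Fin n → A) := g ∘ₗ E ∘ₗ f with hE'
  have hpow : ∀ k x, (E' ^ (k + 1)) x = g ((E ^ (k + 1)) (f x)) := by
    intro k
    induction k with
    | zero => intro x; simp [hE']
    | succ k ih =>
      intro x
      rw [pow_succ', Module.End.mul_apply, ih, pow_succ' E (k + 1), Module.End.mul_apply]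
      simp [hE', hgx]
  have hpowL : ∀ k, E' ^ (k + 1) = g ∘ₗ (E ^ (k + 1)) ∘ₗ f := fun k =>
    LinearMap.ext fun x => by rw [hpow]; rfl
  suffices hnil : IsNilpotent E' by
    obtain ⟨k, hk⟩ := hnil
    refine ⟨k + 1, LinearMap.ext fun s => ?_⟩
    have e1 := hpow k (g s)
    rw [pow_succ, hk, hgx] at e1
    have e2 := congrArg f e1
    rw [hgx] at e2
    simpa using e2.symm
  -- fibrewise nilpotency of `E'`
  have hfib : ∀ p : PrimeSpectrum A, IsNilpotent (E'.baseChange p.asIdeal.ResidueField) := by
    intro p
    obtain ⟨k, hk⟩ := h p
    refine ⟨k + 1, ?_⟩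
    rw [← LinearMap.baseChange_pow, hpowL k, LinearMap.baseChange_comp, LinearMap.baseChange_comp,
      LinearMap.baseChange_pow, pow_succ, hk]
    simp
  set N := (LinearMap.charpoly E').natDegree with hN
  set q : Polynomial A := LinearMap.charpoly E' - Polynomial.X ^ N with hq
  have hqmap : ∀ p : PrimeSpectrum A,
      q.map (algebraMap A p.asIdeal.ResidueField) = 0 := by
    intro p
    have h1 : (LinearMap.charpoly E').map (algebraMap A p.asIdeal.ResidueField) =
        Polynomial.X ^ Module.finrank p.asIdeal.ResidueField
          (p.asIdeal.ResidueField ⊗[A] (Fin n → A)) := by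
      rw [← LinearMap.charpoly_baseChange]
      exact IsNilpotent.charpoly_eq_X_pow_finrank (hfib p)
    have h2 : Module.finrank p.asIdeal.ResidueField
        (p.asIdeal.ResidueField ⊗[A] (Fin n → A)) = N := by
      have := congrArg Polynomial.natDegree h1
      rw [(LinearMap.charpoly_monic E').natDegree_map, Polynomial.natDegree_X_pow] at this
      exact this.symm
    rw [hq, Polynomial.map_sub, h1, h2, Polynomial.map_pow, Polynomial.map_X, sub_self]
  have hqnil : IsNilpotent q := by
    rw [Polynomial.isNilpotent_iff]
    intro i
    rw [nilpotent_iff_mem_prime]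
    intro J hJ
    have := congrArg (fun r => Polynomial.coeff r i) (hqmap ⟨J, hJ⟩)
    simp only [Polynomial.coeff_map, Polynomial.coeff_zero] at this
    exact Ideal.algebraMap_residueField_eq_zero.mp this
  have hch : LinearMap.charpoly E' = Polynomial.X ^ N + q := by rw [hq]; ring
  have h0 := LinearMap.aeval_self_charpoly E'
  rw [hch, map_add, map_pow, Polynomial.aeval_X] at h0
  have h3 : IsNilpotent (Polynomial.aeval E' q) := hqnil.map (Polynomial.aeval E')
  have h4 : E' ^ N = -(Polynomial.aeval E' q) := eq_neg_of_add_eq_zero_left h0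
  have h5 : IsNilpotent (E' ^ N) := by rw [h4]; exact h3.neg
  exact h5.of_pow

/-- Bracket preserving maps commute with powers of `ad`. -/
theorem map_ad_pow {R R' L L' : Type*} [CommRing R] [CommRing R'] [LieRing L] [LieAlgebra R L]
    [LieRing L'] [LieAlgebra R' L'] (v : L → L') (hv : ∀ x y, v ⁅x, y⁆ = ⁅v x, v y⁆) (x y : L)
    (n : ℕ) :
    v (((LieAlgebra.ad R L x) ^ n) y) = ((LieAlgebra.ad R' L' (v x)) ^ n) (v y) := by
  induction n generalizing y with
  | zero => simp
  | succ n ih =>
    simp only [pow_succ, Module.End.mul_apply]
    rw [ih, LieAlgebra.ad_apply, LieAlgebra.ad_apply, hv]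

end Groth.Agent.Helper3.CartEng
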