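import Mathlib
import Groth.Agent.Lib.Helper3.CartEng1

/-!
# Engel subalgebras of regular elements over a field (helper3)

* `engel_sup_range_ad`: `engel K x ⊔ range (ad x) = ⊤`.
* `eq_engel_of_le_of_finrank`: a subspace of `engel K x` of dimension `rank` is `engel K x`
  (`x` regular).
* `isRegular_map_equiv`: regularity is invariant under automorphisms.
* `rank_baseChange`, `isRegular_baseChange`: rank / regularity under field extension.
* `engel_le_engel_of_isRegular`: for regular `x` and `y ∈ engel K x`, `engel K x ≤ engel K y`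
  (any field, via base change to the algebraic closure).
-/

open scoped TensorProduct

namespace Groth.Agent.Helper3.CartEng

theorem natTrailingDegree_map_of_injective {R S : Type*} [Semiring R] [Semiring S] {f : R →+* S}
    (hf : Function.Injective f) (p : Polynomial R) :
    (p.map f).natTrailingDegree = p.natTrailingDegree := by
  simp only [Polynomial.natTrailingDegree, Polynomial.trailingDegree,
    Polynomial.support_map_of_injective p hf]

section Field

variable {K : Type*} [Field K] {M : Type*} [LieRing M] [LieAlgebra K M] [Module.Finite K M]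

theorem engel_sup_range_ad (x : M) :
    (LieSubalgebra.engel K x).toSubmodule ⊔ LinearMap.range (LieAlgebra.ad K M x : M →ₗ[K] M) =
      ⊤ := by
  obtain ⟨n, hn1, hn⟩ := ((Filter.eventually_ge_atTop 1).and
    (LinearMap.eventually_isCompl_ker_pow_range_pow (LieAlgebra.ad K M x))).exists
  rw [eq_top_iff, ← hn.sup_eq_top]
  refine sup_le_sup ?_ ?_
  · intro y hy
    rw [LinearMap.mem_ker] at hy
    exact (LieSubalgebra.mem_engel_iff K x y).mpr ⟨n, hy⟩
  · rintro _ ⟨z, rfl⟩
    obtain ⟨m, rfl⟩ : ∃ m, n = m + 1 := ⟨n - 1, by omega⟩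
    rw [pow_succ', Module.End.mul_apply]
    exact LinearMap.mem_range_self _ _

theorem eq_engel_of_le_of_finrank {x : M} (hx : LieAlgebra.IsRegular K x) (S : Submodule K M)
    (hle : S ≤ (LieSubalgebra.engel K x).toSubmodule)
    (hr : Module.finrank K S = LieAlgebra.rank K M) :
    S = (LieSubalgebra.engel K x).toSubmodule :=
  Submodule.eq_of_le_of_finrank_eq hle
    (hr.trans ((LieAlgebra.isRegular_iff_finrank_engel_eq_rank K x).mp hx).symm)

theorem engel_map_equiv (v : M ≃ₗ[K] M) (hv : ∀ x y, v ⁅x, y⁆ = ⁅v x, v y⁆) (x : M) :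
    (LieSubalgebra.engel K (v x)).toSubmodule =
      (LieSubalgebra.engel K x).toSubmodule.map (v : M →ₗ[K] M) := by
  ext y
  simp only [Submodule.mem_map, LieSubalgebra.mem_toSubmodule, LieSubalgebra.mem_engel_iff,
    LinearEquiv.coe_coe]
  constructor
  · rintro ⟨n, hn⟩
    refine ⟨v.symm y, ⟨n, ?_⟩, v.apply_symm_apply y⟩
    apply v.injective
    rw [map_ad_pow (R := K) (R' := K) (⇑v) hv, v.apply_symm_apply, hn, map_zero]
  · rintro ⟨w, ⟨n, hn⟩, rfl⟩
    exact ⟨n, by rw [← map_ad_pow (R := K) (R' := K) (⇑v) hv, hn, map_zero]⟩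

theorem isRegular_map_equiv (v : M ≃ₗ[K] M) (hv : ∀ x y, v ⁅x, y⁆ = ⁅v x, v y⁆) {x : M}
    (hx : LieAlgebra.IsRegular K x) : LieAlgebra.IsRegular K (v x) := by
  rw [LieAlgebra.isRegular_iff_finrank_engel_eq_rank] at hx ⊢
  rw [← hx]
  have := LinearEquiv.finrank_map_eq v (LieSubalgebra.engel K x).toSubmodule
  rw [← engel_map_equiv v hv x] at this
  exact this

theorem engel_le_engel_aux (h : (Module.finrank K M : Cardinal) ≤ Cardinal.mk K) {x : M}
    (hx : LieAlgebra.IsRegular K x) {y : M} (hy : y ∈ LieSubalgebra.engel K x) :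
    LieSubalgebra.engel K x ≤ LieSubalgebra.engel K y := by
  set Ex : {LieSubalgebra.engel K z | z ∈ LieSubalgebra.engel K x} :=
    ⟨LieSubalgebra.engel K x, x, LieSubalgebra.self_mem_engel _ _, rfl⟩
  suffices IsBot Ex from @this ⟨LieSubalgebra.engel K y, y, hy, rfl⟩
  apply LieAlgebra.engel_isBot_of_isMin h (LieSubalgebra.engel K x) Ex le_rfl
  rintro ⟨_, y, hy, rfl⟩ hyx
  suffices Module.finrank K (LieSubalgebra.engel K x) ≤
      Module.finrank K (LieSubalgebra.engel K y) by
    suffices LieSubalgebra.engel K y = LieSubalgebra.engel K x from this.ge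
    apply LieSubalgebra.toSubmodule_injective
    exact Submodule.eq_of_le_of_finrank_le hyx this
  rw [(LieAlgebra.isRegular_iff_finrank_engel_eq_rank K x).mp hx]
  apply LieAlgebra.rank_le_finrank_engel

section BaseChange

variable (K' : Type*) [Field K'] [Algebra K K']

theorem ad_baseChange_eq :
    (LieAlgebra.ad K' (K' ⊗[K] M) : K' ⊗[K] M →ₗ[K'] Module.End K' (K' ⊗[K] M)) =
      LinearMap.tensorProduct K K' M M ∘ₗ
        (LieAlgebra.ad K M : M →ₗ[K] Module.End K M).baseChange K' := by
  refine TensorProduct.AlgebraTensorModule.ext fun c x => ?_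
  refine TensorProduct.AlgebraTensorModule.ext fun d y => ?_
  simp [LinearMap.tensorProduct, LieAlgebra.ExtendScalars.bracket_tmul, TensorProduct.smul_tmul']

theorem rank_baseChange : LieAlgebra.rank K' (K' ⊗[K] M) = LieAlgebra.rank K M := by
  classical
  let b := Module.Free.chooseBasis K M
  rw [LieAlgebra.rank_eq_natTrailingDegree K M b,
    LieAlgebra.rank_eq_natTrailingDegree K' (K' ⊗[K] M) (Algebra.TensorProduct.basis K' b),
    ad_baseChange_eq K', LinearMap.polyCharpoly_baseChange]
  exact natTrailingDegree_map_of_injective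
    (MvPolynomial.map_injective _ (algebraMap K K').injective) _

theorem isRegular_baseChange {x : M} (hx : LieAlgebra.IsRegular K x) :
    LieAlgebra.IsRegular K' ((1 : K') ⊗ₜ[K] x) := by
  rw [LieAlgebra.isRegular_iff_natTrailingDegree_charpoly_eq_rank] at hx ⊢
  rw [rank_baseChange K', ← hx]
  have : LieAlgebra.ad K' (K' ⊗[K] M) ((1 : K') ⊗ₜ[K] x) = (LieAlgebra.ad K M x).baseChange K' :=
    LieModule.toEnd_baseChange K K' M M x
  rw [this, LinearMap.charpoly_baseChange]
  exact natTrailingDegree_map_of_injective (algebraMap K K').injective _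

end BaseChange

/-- For a regular element `x` and `y ∈ engel K x` one has `engel K x ≤ engel K y` (so that
`engel K x` is nilpotent by Engel's theorem); valid over any field. -/
theorem engel_le_engel_of_isRegular {x : M} (hx : LieAlgebra.IsRegular K x) {y : M}
    (hy : y ∈ LieSubalgebra.engel K x) : LieSubalgebra.engel K x ≤ LieSubalgebra.engel K y := by
  intro z hz
  let v : M → AlgebraicClosure K ⊗[K] M := fun m => (1 : AlgebraicClosure K) ⊗ₜ[K] m
  have hv : ∀ a b, v ⁅a, b⁆ = ⁅v a, v b⁆ := fun a b => by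
    simp [v, LieAlgebra.ExtendScalars.bracket_tmul]
  have hvinj : Function.Injective v :=
    Module.Flat.tensorProduct_mk_injective (R := K) (S := AlgebraicClosure K) (M := M)
  have hmem : ∀ a b : M, b ∈ LieSubalgebra.engel K a →
      v b ∈ LieSubalgebra.engel (AlgebraicClosure K) (v a) := by
    intro a b hb
    rw [LieSubalgebra.mem_engel_iff] at hb ⊢
    obtain ⟨n, hn⟩ := hb
    exact ⟨n, by rw [← map_ad_pow (R := K) (R' := AlgebraicClosure K) v hv, hn]; simp [v]⟩
  have hcard : (Module.finrank (AlgebraicClosure K) (AlgebraicClosure K ⊗[K] M) : Cardinal) ≤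
      Cardinal.mk (AlgebraicClosure K) :=
    (Cardinal.natCast_le_aleph0).trans (Cardinal.infinite_iff.mp inferInstance)
  have h1 := engel_le_engel_aux hcard (isRegular_baseChange (AlgebraicClosure K) hx)
    (hmem x y hy) (hmem x z hz)
  rw [LieSubalgebra.mem_engel_iff] at h1 ⊢
  obtain ⟨n, hn⟩ := h1
  refine ⟨n, hvinj ?_⟩
  rw [map_ad_pow (R := K) (R' := AlgebraicClosure K) v hv, hn]
  simp [v]

end Field

end Groth.Agent.Helper3.CartEng
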