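import Mathlib
import Groth.Prelude.Def_W4sga3xiixivxvCartan
import Groth.Agent.Lib.Helper3.CartEng1
import Groth.Agent.Lib.Helper3.CartEng2

/-!
# Relative Cartan subalgebras and Engel subalgebras of quasi-regular elements (helper3)

Main results (over an affine base `Spec A`, `L` a finite projective Lie algebra):
* `eq_engel_of_isCartanRel`: a relative Cartan subalgebra containing a quasi-regular `a` is
  `engel A a`; moreover `ad a` is bijective modulo `H`.
* `isCartanRel_engel`: conversely `engel A a` is a relative Cartan subalgebra as soon as the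
  quotient is projective and `ad a` is surjective modulo it.
* `s8372`, `s8373`.
-/

open scoped TensorProduct

namespace Groth.Agent.Helper3.CartEng

universe u

section General

variable {A : Type*} [CommRing A] {L : Type*} [LieRing L] [LieAlgebra A L]

/-- A submodule stable under `ad a` with `S + [a, L] = L` is "saturated" for `ad a` and contains
the Engel subalgebra of `a`. -/
theorem engel_le_of_sup_range [Module.Finite A L] (S : Submodule A L) (a : L)
    (hst : ∀ s ∈ S, ⁅a, s⁆ ∈ S) (hsurj : ∀ y : L, ∃ s ∈ S, ∃ z : L, y = s + ⁅a, z⁆) :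
    (∀ z : L, ⁅a, z⁆ ∈ S → z ∈ S) ∧ (LieSubalgebra.engel A a).toSubmodule ≤ S := by
  have hst' : S ≤ S.comap (LieAlgebra.ad A L a : L →ₗ[A] L) := fun s hs => hst s hs
  have hDs : Function.Surjective (S.mapQ S (LieAlgebra.ad A L a : L →ₗ[A] L) hst') := by
    intro q
    obtain ⟨y, rfl⟩ := Submodule.mkQ_surjective _ q
    obtain ⟨s, hs, z, rfl⟩ := hsurj y
    refine ⟨S.mkQ z, ?_⟩
    show S.mapQ S _ hst' (Submodule.Quotient.mk z) = Submodule.Quotient.mk (s + ⁅a, z⁆)
    rw [Submodule.mapQ_apply, Submodule.Quotient.mk_add, (Submodule.Quotient.mk_eq_zero S).mpr hs,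
      zero_add]
    rfl
  have hDi := OrzechProperty.injective_of_surjective_endomorphism _ hDs
  have hinj : ∀ z : L, ⁅a, z⁆ ∈ S → z ∈ S := by
    intro z hz
    have h0 : S.mapQ S (LieAlgebra.ad A L a : L →ₗ[A] L) hst' (Submodule.Quotient.mk z) = 0 := by
      rw [Submodule.mapQ_apply]
      exact (Submodule.Quotient.mk_eq_zero S).mpr hz
    have := hDi (h0.trans (map_zero _).symm)
    exact (Submodule.Quotient.mk_eq_zero S).mp this
  refine ⟨hinj, ?_⟩
  intro y hy
  obtain ⟨n, hn⟩ := (LieSubalgebra.mem_engel_iff A a y).mp hy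
  clear hy
  induction n generalizing y with
  | zero =>
    have : y = 0 := by simpa using hn
    rw [this]; exact S.zero_mem
  | succ n ih =>
    rw [pow_succ, Module.End.mul_apply] at hn
    exact hinj y (by apply ih; exact hn)

section BC

variable (K : Type*) [CommRing K] [Algebra A K]

theorem one_tmul_lie (x y : L) :
    ((1 : K) ⊗ₜ[A] ⁅x, y⁆ : K ⊗[A] L) = ⁅((1 : K) ⊗ₜ[A] x : K ⊗[A] L), (1 : K) ⊗ₜ[A] y⁆ := by
  simp [LieAlgebra.ExtendScalars.bracket_tmul]

theorem ad_pow_one_tmul (x y : L) (n : ℕ) :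
    ((LieAlgebra.ad K (K ⊗[A] L) ((1 : K) ⊗ₜ[A] x)) ^ n) ((1 : K) ⊗ₜ[A] y) =
      (1 : K) ⊗ₜ[A] (((LieAlgebra.ad A L x) ^ n) y) :=
  (map_ad_pow (R := A) (R' := K) (fun m : L => ((1 : K) ⊗ₜ[A] m : K ⊗[A] L))
    (one_tmul_lie K) x y n).symm

theorem one_tmul_mem_engel {x y : L} (hy : y ∈ LieSubalgebra.engel A x) :
    ((1 : K) ⊗ₜ[A] y : K ⊗[A] L) ∈ LieSubalgebra.engel K ((1 : K) ⊗ₜ[A] x : K ⊗[A] L) := by
  obtain ⟨n, hn⟩ := (LieSubalgebra.mem_engel_iff A x y).mp hy
  exact (LieSubalgebra.mem_engel_iff K _ _).mpr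
    ⟨n, by rw [ad_pow_one_tmul, hn, TensorProduct.tmul_zero]⟩

/-- Base change of a Lie algebra homomorphism preserves brackets. -/
theorem baseChange_lie {L' : Type*} [LieRing L'] [LieAlgebra A L'] (g : L' →ₗ⁅A⁆ L)
    (x y : K ⊗[A] L') :
    (g : L' →ₗ[A] L).baseChange K ⁅x, y⁆ =
      ⁅(g : L' →ₗ[A] L).baseChange K x, (g : L' →ₗ[A] L).baseChange K y⁆ := by
  have key : ∀ w, (g : L' →ₗ[A] L).baseChange K w =
      LieAlgebra.ExtendScalars.map (AlgHom.id A K) g w := by
    intro w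
    induction w using TensorProduct.induction_on with
    | zero => simp
    | tmul c l => simp
    | add w1 w2 h1 h2 => rw [map_add, map_add, h1, h2]
  rw [key, key, key, LieHom.map_lie]

variable (H : LieSubalgebra A L)

/-- The fibre inclusion `K ⊗ H → K ⊗ L`. -/
noncomputable def iota : K ⊗[A] H →ₗ[K] K ⊗[A] L := (H.incl : H →ₗ[A] L).baseChange K

theorem iota_tmul (c : K) (h : H) : iota K H (c ⊗ₜ[A] h) = c ⊗ₜ[A] (h : L) := rfl

theorem iota_lie (u v : K ⊗[A] H) : iota K H ⁅u, v⁆ = ⁅iota K H u, iota K H v⁆ :=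
  baseChange_lie K H.incl u v

theorem range_iota : LinearMap.range (iota K H) = H.toSubmodule.baseChange K := by
  apply le_antisymm
  · rintro _ ⟨u, rfl⟩
    induction u using TensorProduct.induction_on with
    | zero => rw [map_zero]; exact Submodule.zero_mem _
    | tmul c h => exact Submodule.tmul_mem_baseChange_of_mem c h.2
    | add u1 u2 h1 h2 => rw [map_add]; exact Submodule.add_mem _ h1 h2
  · rw [Submodule.baseChange_eq_span, Submodule.span_le]
    rintro _ ⟨h, hh, rfl⟩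
    exact ⟨(1 : K) ⊗ₜ[A] (⟨h, hh⟩ : H), rfl⟩

theorem one_tmul_mem_engel_of_isNilpotent [LieRing.IsNilpotent (K ⊗[A] H)] {a h : L}
    (ha : a ∈ H) (hh : h ∈ H) :
    ((1 : K) ⊗ₜ[A] h : K ⊗[A] L) ∈ LieSubalgebra.engel K ((1 : K) ⊗ₜ[A] a : K ⊗[A] L) := by
  obtain ⟨k, hk⟩ := LieAlgebra.nilpotent_ad_of_nilpotent_algebra K (K ⊗[A] H)
  refine (LieSubalgebra.mem_engel_iff K _ _).mpr ⟨k, ?_⟩
  have := map_ad_pow (R := K) (R' := K) (⇑(iota K H)) (iota_lie K H)
    ((1 : K) ⊗ₜ[A] (⟨a, ha⟩ : H)) ((1 : K) ⊗ₜ[A] (⟨h, hh⟩ : H)) k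
  rw [hk, LinearMap.zero_apply, map_zero] at this
  exact this.symm

end BC

/-- A subalgebra with projective quotient is a retract. -/
theorem exists_retraction (H : LieSubalgebra A L)
    (hproj : Module.Projective A (L ⧸ H.toSubmodule)) :
    ∃ ρ : L →ₗ[A] H, ρ ∘ₗ (H.incl : H →ₗ[A] L) = LinearMap.id := by
  obtain ⟨σ, hσ⟩ := Module.projective_lifting_property H.toSubmodule.mkQ LinearMap.id
    (Submodule.mkQ_surjective _)
  have hσ' : ∀ l : L, (Submodule.Quotient.mk (σ (Submodule.Quotient.mk l)) : L ⧸ H.toSubmodule) =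
      Submodule.Quotient.mk l := fun l => LinearMap.congr_fun hσ (Submodule.Quotient.mk l)
  have hmem : ∀ l : L, l - σ (Submodule.Quotient.mk l) ∈ H := by
    intro l
    have : (l - σ (Submodule.Quotient.mk l)) ∈ H.toSubmodule := by
      rw [← Submodule.Quotient.mk_eq_zero, Submodule.Quotient.mk_sub, hσ', sub_self]
    exact this
  refine ⟨{ toFun := fun l => ⟨l - σ (Submodule.Quotient.mk l), hmem l⟩
            map_add' := fun x y => Subtype.ext (by
              show (x + y) - σ (Submodule.Quotient.mk (x + y)) =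
                (x - σ (Submodule.Quotient.mk x)) + (y - σ (Submodule.Quotient.mk y))
              rw [Submodule.Quotient.mk_add, map_add]; abel)
            map_smul' := fun c x => Subtype.ext (by
              show c • x - σ (Submodule.Quotient.mk (c • x)) =
                c • (x - σ (Submodule.Quotient.mk x))
              rw [Submodule.Quotient.mk_smul, map_smul, smul_sub]) }, ?_⟩
  refine LinearMap.ext fun h => Subtype.ext ?_
  have h0 : (Submodule.Quotient.mk (h : L) : L ⧸ H.toSubmodule) = 0 :=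
    (Submodule.Quotient.mk_eq_zero _).mpr h.2
  show (h : L) - σ (Submodule.Quotient.mk (h : L)) = h
  rw [h0, map_zero, sub_zero]

end General

section Relative

variable {A : Type u} [CommRing A] {L : Type u} [LieRing L] [LieAlgebra A L] [Module.Finite A L]

theorem fibreSubmodule_le_engel (H : LieSubalgebra A L) (p : PrimeSpectrum A)
    [LieRing.IsNilpotent (p.asIdeal.ResidueField ⊗[A] H)] {a : L} (ha : a ∈ H) :
    SGA3t2b.fibreSubmodule p H ≤ (LieSubalgebra.engel p.asIdeal.ResidueField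
      ((1 : p.asIdeal.ResidueField) ⊗ₜ[A] a)).toSubmodule := by
  rw [SGA3t2b.fibreSubmodule, Submodule.baseChange_eq_span, Submodule.span_le]
  rintro _ ⟨h, hh, rfl⟩
  exact one_tmul_mem_engel_of_isNilpotent _ H ha hh

theorem fibre_eq_engel (H : LieSubalgebra A L) (hH : SGA3t2b.IsCartanRel H) {a : L} (ha : a ∈ H)
    (p : PrimeSpectrum A)
    (hreg : LieAlgebra.IsRegular p.asIdeal.ResidueField ((1 : p.asIdeal.ResidueField) ⊗ₜ[A] a)) :
    SGA3t2b.fibreSubmodule p H = (LieSubalgebra.engel p.asIdeal.ResidueField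
      ((1 : p.asIdeal.ResidueField) ⊗ₜ[A] a)).toSubmodule := by
  haveI := (hH.2 p).1
  exact eq_engel_of_le_of_finrank hreg _ (fibreSubmodule_le_engel H p ha) (hH.2 p).2.2

theorem exists_add_lie_of_fibre (H : LieSubalgebra A L) {a : L}
    (hfib : ∀ p : PrimeSpectrum A, (LieSubalgebra.engel p.asIdeal.ResidueField
      ((1 : p.asIdeal.ResidueField) ⊗ₜ[A] a)).toSubmodule ≤ SGA3t2b.fibreSubmodule p H) :
    ∀ y : L, ∃ h ∈ H, ∃ z : L, y = h + ⁅a, z⁆ := by
  have hsurj : Function.Surjective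
      ((H.toSubmodule.subtype).coprod (LieAlgebra.ad A L a : L →ₗ[A] L)) := by
    apply surjective_of_fibre
    intro p w
    have hw : w ∈ (⊤ : Submodule p.asIdeal.ResidueField (p.asIdeal.ResidueField ⊗[A] L)) :=
      trivial
    rw [← engel_sup_range_ad ((1 : p.asIdeal.ResidueField) ⊗ₜ[A] a), Submodule.mem_sup] at hw
    obtain ⟨e, he, r, hr, rfl⟩ := hw
    have he' : e ∈ LinearMap.range
        (H.toSubmodule.subtype.baseChange p.asIdeal.ResidueField) := hfib p he
    obtain ⟨e', rfl⟩ := he'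
    obtain ⟨r', rfl⟩ := hr
    have h1 : ((H.toSubmodule.subtype).coprod
          (LieAlgebra.ad A L a : L →ₗ[A] L)).baseChange p.asIdeal.ResidueField ∘ₗ
        (LinearMap.inl A H.toSubmodule L).baseChange p.asIdeal.ResidueField =
        H.toSubmodule.subtype.baseChange p.asIdeal.ResidueField := by
      rw [← LinearMap.baseChange_comp, LinearMap.coprod_inl]
    have h2 : ((H.toSubmodule.subtype).coprod
          (LieAlgebra.ad A L a : L →ₗ[A] L)).baseChange p.asIdeal.ResidueField ∘ₗ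
        (LinearMap.inr A H.toSubmodule L).baseChange p.asIdeal.ResidueField =
        (LieAlgebra.ad A L a : L →ₗ[A] L).baseChange p.asIdeal.ResidueField := by
      rw [← LinearMap.baseChange_comp, LinearMap.coprod_inr]
    have h3 : (LieAlgebra.ad p.asIdeal.ResidueField (p.asIdeal.ResidueField ⊗[A] L)
        ((1 : p.asIdeal.ResidueField) ⊗ₜ[A] a)) =
        (LieAlgebra.ad A L a : L →ₗ[A] L).baseChange p.asIdeal.ResidueField :=
      LieModule.toEnd_baseChange A p.asIdeal.ResidueField L L a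
    have e1 := LinearMap.congr_fun h1 e'
    have e2 := LinearMap.congr_fun h2 r'
    rw [LinearMap.comp_apply] at e1 e2
    refine ⟨(LinearMap.inl A H.toSubmodule L).baseChange p.asIdeal.ResidueField e' +
      (LinearMap.inr A H.toSubmodule L).baseChange p.asIdeal.ResidueField r', ?_⟩
    rw [map_add, e1, e2, h3]
  intro y
  obtain ⟨⟨h, z⟩, hy⟩ := hsurj y
  refine ⟨h, h.2, z, ?_⟩
  rw [← hy, LinearMap.coprod_apply]
  rfl

theorem le_engel_of_nilp [Module.Projective A L] (H : LieSubalgebra A L)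
    (hproj : Module.Projective A (L ⧸ H.toSubmodule))
    (hnil : ∀ p : PrimeSpectrum A, LieRing.IsNilpotent (p.asIdeal.ResidueField ⊗[A] H)) {a : L}
    (ha : a ∈ H) : H ≤ LieSubalgebra.engel A a := by
  obtain ⟨ρ, hρ⟩ := exists_retraction H hproj
  have hρs : Function.Surjective ρ := fun h => ⟨(h : L), LinearMap.congr_fun hρ h⟩
  haveI : Module.Finite A H := Module.Finite.of_surjective ρ hρs
  haveI : Module.Projective A H := Module.Projective.of_split (H.incl : H →ₗ[A] L) ρ hρ
  have hE : IsNilpotent (LieAlgebra.ad A H ⟨a, ha⟩ : Module.End A H) := by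
    apply isNilpotent_of_fibre
    intro p
    haveI := hnil p
    obtain ⟨k, hk⟩ := LieAlgebra.nilpotent_ad_of_nilpotent_algebra p.asIdeal.ResidueField
      (p.asIdeal.ResidueField ⊗[A] H)
    refine ⟨k, ?_⟩
    have h3 : (LieAlgebra.ad p.asIdeal.ResidueField (p.asIdeal.ResidueField ⊗[A] H)
        ((1 : p.asIdeal.ResidueField) ⊗ₜ[A] (⟨a, ha⟩ : H))) =
        (LieAlgebra.ad A H ⟨a, ha⟩ : H →ₗ[A] H).baseChange p.asIdeal.ResidueField :=
      LieModule.toEnd_baseChange A p.asIdeal.ResidueField H H (⟨a, ha⟩ : H)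
    rw [← h3]
    exact hk _
  obtain ⟨k, hk⟩ := hE
  intro h hh
  refine (LieSubalgebra.mem_engel_iff A a h).mpr ⟨k, ?_⟩
  have := LieSubalgebra.coe_ad_pow A L H ⟨a, ha⟩ ⟨h, hh⟩ k
  rw [hk] at this
  simpa using this.symm

/-- **Main theorem (i)**: a relative Cartan subalgebra containing the quasi-regular element `a`
is `engel A a`, and `ad a` is injective and surjective modulo it. -/
theorem eq_engel_of_isCartanRel [Module.Projective A L] (H : LieSubalgebra A L)
    (hH : SGA3t2b.IsCartanRel H) {a : L} (ha : a ∈ H) (hq : SGA3t2b.IsQuasiRegular A L a) :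
    H = LieSubalgebra.engel A a ∧ (∀ z : L, ⁅a, z⁆ ∈ H → z ∈ H) ∧
      (∀ y : L, ∃ h ∈ H, ∃ z : L, y = h + ⁅a, z⁆) := by
  have hfib := fun p => fibre_eq_engel H hH ha p (hq p)
  have hsurj := exists_add_lie_of_fibre H (fun p => (hfib p).ge)
  have h2 := engel_le_of_sup_range H.toSubmodule a (fun s hs => H.lie_mem ha hs) hsurj
  refine ⟨le_antisymm ?_ h2.2, h2.1, hsurj⟩
  exact le_engel_of_nilp H hH.1 (fun p => (hH.2 p).1) ha

theorem lie_mem_fibreSubmodule (H : LieSubalgebra A L) (p : PrimeSpectrum A) {a : L}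
    (ha : a ∈ H) :
    ∀ s ∈ SGA3t2b.fibreSubmodule p H,
      ⁅((1 : p.asIdeal.ResidueField) ⊗ₜ[A] a : p.asIdeal.ResidueField ⊗[A] L), s⁆ ∈
        SGA3t2b.fibreSubmodule p H := by
  intro s hs
  rw [SGA3t2b.fibreSubmodule, Submodule.baseChange_eq_span] at hs ⊢
  induction hs using Submodule.span_induction with
  | mem x hx =>
    obtain ⟨h, hh, rfl⟩ := hx
    refine Submodule.subset_span ⟨⁅a, h⁆, H.lie_mem ha hh, ?_⟩
    simp [LieAlgebra.ExtendScalars.bracket_tmul]
  | zero => rw [lie_zero]; exact Submodule.zero_mem _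
  | add x y _ _ hx hy => rw [lie_add]; exact Submodule.add_mem _ hx hy
  | smul c x _ hx => rw [lie_smul]; exact Submodule.smul_mem _ c hx

theorem exists_add_lie_fibre (H : LieSubalgebra A L) (p : PrimeSpectrum A) {a : L}
    (hsurj : ∀ y : L, ∃ h ∈ H, ∃ z : L, y = h + ⁅a, z⁆) :
    ∀ y : p.asIdeal.ResidueField ⊗[A] L, ∃ s ∈ SGA3t2b.fibreSubmodule p H, ∃ z,
      y = s + ⁅((1 : p.asIdeal.ResidueField) ⊗ₜ[A] a : p.asIdeal.ResidueField ⊗[A] L), z⁆ := by
  intro y
  induction y using TensorProduct.induction_on with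
  | zero => exact ⟨0, Submodule.zero_mem _, 0, by simp⟩
  | tmul c l =>
    obtain ⟨h, hh, z, rfl⟩ := hsurj l
    refine ⟨c ⊗ₜ[A] h, Submodule.tmul_mem_baseChange_of_mem c hh, c ⊗ₜ[A] z, ?_⟩
    rw [TensorProduct.tmul_add, LieAlgebra.ExtendScalars.bracket_tmul, one_mul]
  | add y1 y2 h1 h2 =>
    obtain ⟨s1, hs1, z1, rfl⟩ := h1
    obtain ⟨s2, hs2, z2, rfl⟩ := h2
    exact ⟨s1 + s2, Submodule.add_mem _ hs1 hs2, z1 + z2, by rw [lie_add]; abel⟩

theorem fibre_engel_eq (a : L) (p : PrimeSpectrum A)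
    (hsurj : ∀ y : L, ∃ h ∈ LieSubalgebra.engel A a, ∃ z : L, y = h + ⁅a, z⁆) :
    SGA3t2b.fibreSubmodule p (LieSubalgebra.engel A a) =
      (LieSubalgebra.engel p.asIdeal.ResidueField
        ((1 : p.asIdeal.ResidueField) ⊗ₜ[A] a)).toSubmodule := by
  apply le_antisymm
  · rw [SGA3t2b.fibreSubmodule, Submodule.baseChange_eq_span, Submodule.span_le]
    rintro _ ⟨h, hh, rfl⟩
    exact one_tmul_mem_engel _ hh
  · exact (engel_le_of_sup_range (SGA3t2b.fibreSubmodule p (LieSubalgebra.engel A a)) _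
      (lie_mem_fibreSubmodule _ p (LieSubalgebra.self_mem_engel A a))
      (exists_add_lie_fibre _ p hsurj)).2

theorem isNilpotent_fibre_engel (a : L) (p : PrimeSpectrum A)
    (hproj : Module.Projective A (L ⧸ (LieSubalgebra.engel A a).toSubmodule))
    (hreg : LieAlgebra.IsRegular p.asIdeal.ResidueField ((1 : p.asIdeal.ResidueField) ⊗ₜ[A] a))
    (hδ : SGA3t2b.fibreSubmodule p (LieSubalgebra.engel A a) =
      (LieSubalgebra.engel p.asIdeal.ResidueField
        ((1 : p.asIdeal.ResidueField) ⊗ₜ[A] a)).toSubmodule) :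
    LieRing.IsNilpotent (p.asIdeal.ResidueField ⊗[A] (LieSubalgebra.engel A a)) := by
  obtain ⟨ρ, hρ⟩ := exists_retraction (LieSubalgebra.engel A a) hproj
  have hρs : Function.Surjective ρ := fun h => ⟨(h : L), LinearMap.congr_fun hρ h⟩
  haveI : Module.Finite A (LieSubalgebra.engel A a) := Module.Finite.of_surjective ρ hρs
  have hinj : Function.Injective (iota p.asIdeal.ResidueField (LieSubalgebra.engel A a)) := by
    have : ρ.baseChange p.asIdeal.ResidueField ∘ₗ
        iota p.asIdeal.ResidueField (LieSubalgebra.engel A a) = LinearMap.id := by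
      show ρ.baseChange p.asIdeal.ResidueField ∘ₗ
        ((LieSubalgebra.engel A a).incl : LieSubalgebra.engel A a →ₗ[A] L).baseChange
          p.asIdeal.ResidueField = LinearMap.id
      rw [← LinearMap.baseChange_comp, hρ, LinearMap.baseChange_id]
    exact Function.LeftInverse.injective (g := ρ.baseChange p.asIdeal.ResidueField)
      (fun u => LinearMap.congr_fun this u)
  have hmem : ∀ u, iota p.asIdeal.ResidueField (LieSubalgebra.engel A a) u ∈
      LieSubalgebra.engel p.asIdeal.ResidueField ((1 : p.asIdeal.ResidueField) ⊗ₜ[A] a) := by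
    intro u
    have h1 : iota p.asIdeal.ResidueField (LieSubalgebra.engel A a) u ∈
        LinearMap.range (iota p.asIdeal.ResidueField (LieSubalgebra.engel A a)) := ⟨u, rfl⟩
    rw [range_iota] at h1
    have h2 : iota p.asIdeal.ResidueField (LieSubalgebra.engel A a) u ∈
        SGA3t2b.fibreSubmodule p (LieSubalgebra.engel A a) := h1
    rw [hδ] at h2
    exact h2
  rw [LieAlgebra.isNilpotent_iff_forall (R := p.asIdeal.ResidueField)]
  intro u
  rw [Module.End.isNilpotent_iff_of_finite]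
  intro v
  obtain ⟨n, hn⟩ := (LieSubalgebra.mem_engel_iff _ _ _).mp
    (engel_le_engel_of_isRegular hreg (hmem u) (hmem v))
  refine ⟨n, hinj ?_⟩
  rw [map_ad_pow (R := p.asIdeal.ResidueField) (R' := p.asIdeal.ResidueField)
    (⇑(iota p.asIdeal.ResidueField (LieSubalgebra.engel A a)))
    (iota_lie p.asIdeal.ResidueField (LieSubalgebra.engel A a)), hn, map_zero]

/-- **Converse**: `engel A a` is a relative Cartan subalgebra if `a` is quasi-regular, the quotient
is projective and `ad a` is surjective modulo `engel A a`. -/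
theorem isCartanRel_engel (a : L) (hq : SGA3t2b.IsQuasiRegular A L a)
    (hproj : Module.Projective A (L ⧸ (LieSubalgebra.engel A a).toSubmodule))
    (hsurj : ∀ y : L, ∃ h ∈ LieSubalgebra.engel A a, ∃ z : L, y = h + ⁅a, z⁆) :
    SGA3t2b.IsCartanRel (LieSubalgebra.engel A a) := by
  refine ⟨hproj, fun p => ?_⟩
  have hδ := fibre_engel_eq a p hsurj
  refine ⟨isNilpotent_fibre_engel a p hproj (hq p) hδ, ?_, ?_⟩
  · intro x hx
    rw [hδ] at hx ⊢
    have : x ∈ (LieSubalgebra.engel p.asIdeal.ResidueField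
        ((1 : p.asIdeal.ResidueField) ⊗ₜ[A] a)).normalizer :=
      (LieSubalgebra.mem_normalizer_iff _ x).mpr hx
    rwa [LieSubalgebra.normalizer_engel] at this
  · rw [hδ]
    exact (LieAlgebra.isRegular_iff_finrank_engel_eq_rank p.asIdeal.ResidueField _).mp (hq p)

theorem s8372 [Module.Projective A L] (a : L) (ha : SGA3t2b.IsQuasiRegular A L a) :
    (∀ H : LieSubalgebra A L, SGA3t2b.IsCartanRel H → a ∈ H → H = LieSubalgebra.engel A a) ∧
    ((∃ H : LieSubalgebra A L, SGA3t2b.IsCartanRel H ∧ a ∈ H) ↔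
      (Module.Projective A (L ⧸ (LieSubalgebra.engel A a).toSubmodule) ∧
        (∀ z : L, ⁅a, z⁆ ∈ LieSubalgebra.engel A a → z ∈ LieSubalgebra.engel A a) ∧
        (∀ y : L, ∃ z : L, ⁅a, z⁆ - y ∈ LieSubalgebra.engel A a))) := by
  refine ⟨fun H hH haH => (eq_engel_of_isCartanRel H hH haH ha).1, ?_, ?_⟩
  · rintro ⟨H, hH, haH⟩
    obtain ⟨h1, h2, h3⟩ := eq_engel_of_isCartanRel H hH haH ha
    subst h1
    refine ⟨hH.1, h2, fun y => ?_⟩
    obtain ⟨h, hh, z, rfl⟩ := h3 y
    refine ⟨z, ?_⟩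
    have : ⁅a, z⁆ - (h + ⁅a, z⁆) = -h := by abel
    rw [this]
    exact neg_mem hh
  · rintro ⟨hproj, -, hsurj⟩
    refine ⟨LieSubalgebra.engel A a, isCartanRel_engel a ha hproj ?_,
      LieSubalgebra.self_mem_engel A a⟩
    intro y
    obtain ⟨z, hz⟩ := hsurj y
    refine ⟨y - ⁅a, z⁆, ?_, z, by abel⟩
    have : y - ⁅a, z⁆ = -(⁅a, z⁆ - y) := by abel
    rw [this]
    exact neg_mem hz

theorem engel_map_lieEquiv (u : L ≃ₗ⁅A⁆ L) (a : L) :
    (LieSubalgebra.engel A a).map u.toLieHom = LieSubalgebra.engel A (u a) := by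
  have hv : ∀ x y : L, u ⁅x, y⁆ = ⁅u x, u y⁆ := fun x y => LieHom.map_lie u.toLieHom x y
  have hu0 : u 0 = 0 := u.toLinearEquiv.map_zero
  have hinj : Function.Injective (fun x => u x) := fun x y h => by
    simpa using congrArg u.symm h
  ext y
  rw [LieSubalgebra.mem_map, LieSubalgebra.mem_engel_iff]
  constructor
  · rintro ⟨w, hw, rfl⟩
    obtain ⟨n, hn⟩ := (LieSubalgebra.mem_engel_iff A a w).mp hw
    refine ⟨n, ?_⟩
    have := map_ad_pow (R := A) (R' := A) (⇑u) hv a w n
    rw [hn, hu0] at this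
    exact this.symm
  · rintro ⟨n, hn⟩
    refine ⟨u.symm y, (LieSubalgebra.mem_engel_iff A a _).mpr ⟨n, ?_⟩, u.apply_symm_apply y⟩
    apply hinj
    show u (((LieAlgebra.ad A L a) ^ n) (u.symm y)) = u 0
    rw [map_ad_pow (R := A) (R' := A) (⇑u) hv, u.apply_symm_apply, hn, hu0]

theorem isQuasiRegular_map (u : L ≃ₗ⁅A⁆ L) {a : L} (ha : SGA3t2b.IsQuasiRegular A L a) :
    SGA3t2b.IsQuasiRegular A L (u a) := by
  intro p
  have h12 : (u.toLieHom : L →ₗ[A] L).baseChange p.asIdeal.ResidueField ∘ₗ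
      (u.symm.toLieHom : L →ₗ[A] L).baseChange p.asIdeal.ResidueField = LinearMap.id := by
    rw [← LinearMap.baseChange_comp]
    have : (u.toLieHom : L →ₗ[A] L) ∘ₗ (u.symm.toLieHom : L →ₗ[A] L) = LinearMap.id :=
      LinearMap.ext fun x => u.apply_symm_apply x
    rw [this, LinearMap.baseChange_id]
  have h21 : (u.symm.toLieHom : L →ₗ[A] L).baseChange p.asIdeal.ResidueField ∘ₗ
      (u.toLieHom : L →ₗ[A] L).baseChange p.asIdeal.ResidueField = LinearMap.id := by
    rw [← LinearMap.baseChange_comp]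
    have : (u.symm.toLieHom : L →ₗ[A] L) ∘ₗ (u.toLieHom : L →ₗ[A] L) = LinearMap.id :=
      LinearMap.ext fun x => u.symm_apply_apply x
    rw [this, LinearMap.baseChange_id]
  have := isRegular_map_equiv (LinearEquiv.ofLinearMap _ _ h12 h21)
    (fun x y => baseChange_lie p.asIdeal.ResidueField u.toLieHom x y) (ha p)
  exact this

theorem s8373 [Module.Projective A L] (H : LieSubalgebra A L) (hH : SGA3t2b.IsCartanRel H)
    (a : L) (haH : a ∈ H) (ha : SGA3t2b.IsQuasiRegular A L a) (u : L ≃ₗ⁅A⁆ L) :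
    H.map u.toLieHom = H ↔ u a ∈ H := by
  constructor
  · intro h
    rw [← h]
    exact (LieSubalgebra.mem_map _ _ _).mpr ⟨a, haH, rfl⟩
  · intro hu
    have h1 := (eq_engel_of_isCartanRel H hH haH ha).1
    have h2 := (eq_engel_of_isCartanRel H hH hu (isQuasiRegular_map u ha)).1
    calc H.map u.toLieHom = (LieSubalgebra.engel A a).map u.toLieHom := by rw [← h1]
      _ = LieSubalgebra.engel A (u a) := engel_map_lieEquiv u a
      _ = H := h2.symm

end Relative

end Groth.Agent.Helper3.CartEng
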