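import Mathlib
import Groth.Prelude.Def_AzInv

/-!
# Local constancy of the dimension of symmetric elements on the ramification locus (helper3)

* `clear_denoms`: clearing denominators of finitely many elements of a residue field.
* `exists_linearIndependent_basicOpen`: for a finite projective module, linear independence of
  `1 ⊗ a_j` in the fibre at `q` spreads to a basic open neighbourhood.
* `finrank_span_le_basicOpen`: lower semicontinuity of the dimension of the span of the images of a
  family of elements.
* `finrank_plus_add_finrank_minus`: at a ramified prime, the fibre is the direct sum of the spans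
  of symmetric and skew elements.
* `main`: the dimension of the span of symmetric elements is locally constant on the ramified locus.
-/

open scoped TensorProduct

namespace Groth.Agent.Helper3.SymLoc

universe u v w

section General

variable {R : Type*} [CommRing R]

theorem clear_denoms (q : PrimeSpectrum R) {ι : Type*} [Finite ι]
    (P : ι → q.asIdeal.ResidueField) :
    ∃ s : R, s ∉ q.asIdeal ∧ ∃ P' : ι → R, ∀ i,
      algebraMap R q.asIdeal.ResidueField (P' i) =
        algebraMap R q.asIdeal.ResidueField s * P i := by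
  obtain ⟨b, hb⟩ := IsLocalization.exist_integer_multiples_of_finite
    (nonZeroDivisors (R ⧸ q.asIdeal)) P
  obtain ⟨s, hs⟩ := Ideal.Quotient.mk_surjective (b : R ⧸ q.asIdeal)
  have hs' : s ∉ q.asIdeal := by
    intro h
    have h0 : (b : R ⧸ q.asIdeal) = 0 := by
      rw [← hs]; exact Ideal.Quotient.eq_zero_iff_mem.mpr h
    exact nonZeroDivisors.coe_ne_zero b h0
  have hb' : ∀ i, ∃ y : R ⧸ q.asIdeal,
      algebraMap (R ⧸ q.asIdeal) q.asIdeal.ResidueField y = (b : R ⧸ q.asIdeal) • P i :=
    fun i => RingHom.mem_rangeS.mp (hb i)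
  choose y hy using hb'
  choose P' hP' using fun i => Ideal.Quotient.mk_surjective (y i)
  refine ⟨s, hs', P', fun i => ?_⟩
  rw [IsScalarTower.algebraMap_apply R (R ⧸ q.asIdeal) q.asIdeal.ResidueField (P' i),
    IsScalarTower.algebraMap_apply R (R ⧸ q.asIdeal) q.asIdeal.ResidueField s,
    Ideal.Quotient.algebraMap_eq, hP', hs, hy, Algebra.smul_def]

theorem exists_linearIndependent_basicOpen {M : Type*} [AddCommGroup M] [Module R M]
    [Module.Finite R M] [Module.Projective R M] {m : ℕ} (a : Fin m → M) (q : PrimeSpectrum R)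
    (h : LinearIndependent q.asIdeal.ResidueField
      (fun j => ((1 : q.asIdeal.ResidueField) ⊗ₜ[R] a j : q.asIdeal.ResidueField ⊗[R] M))) :
    ∃ f : R, f ∉ q.asIdeal ∧ ∀ q' : PrimeSpectrum R, f ∉ q'.asIdeal →
      LinearIndependent q'.asIdeal.ResidueField
        (fun j => ((1 : q'.asIdeal.ResidueField) ⊗ₜ[R] a j : q'.asIdeal.ResidueField ⊗[R] M)) := by
  classical
  obtain ⟨N, pr, hpr⟩ := Module.Finite.exists_fin' R M
  obtain ⟨Φ, hΦ⟩ := Module.projective_lifting_property pr LinearMap.id hpr
  set u : Fin N → M := fun k => pr (fun j => if k = j then 1 else 0) with hu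
  have hdual : ∀ x : M, x = ∑ k, (Φ x k) • u k := fun x =>
    (LinearMap.congr_fun hΦ x).symm.trans (LinearMap.pi_apply_eq_sum_univ pr (Φ x))
  have hinj : LinearMap.ker (Fintype.linearCombination q.asIdeal.ResidueField
      (fun j => ((1 : q.asIdeal.ResidueField) ⊗ₜ[R] a j : q.asIdeal.ResidueField ⊗[R] M))) = ⊥ :=
    LinearMap.ker_eq_bot.mpr (linearIndependent_iff_injective_fintypeLinearCombination.mp h)
  obtain ⟨G0, hG0⟩ := LinearMap.exists_leftInverse_of_injective _ hinj
  have hG0w : ∀ j, G0 ((1 : q.asIdeal.ResidueField) ⊗ₜ[R] a j) = Pi.single j 1 := by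
    intro j
    have := LinearMap.congr_fun hG0 (Pi.single j 1)
    rw [LinearMap.comp_apply, Fintype.linearCombination_apply_single, one_smul] at this
    exact this
  obtain ⟨s, hs, P', hP'⟩ := clear_denoms q
    (fun ik : Fin m × Fin N => G0 ((1 : q.asIdeal.ResidueField) ⊗ₜ[R] u ik.2) ik.1)
  have h1 : ∀ i j, G0 ((1 : q.asIdeal.ResidueField) ⊗ₜ[R] a j) i =
      ∑ k, algebraMap R q.asIdeal.ResidueField (Φ (a j) k) *
        G0 ((1 : q.asIdeal.ResidueField) ⊗ₜ[R] u k) i := by
    intro i j
    conv_lhs => rw [hdual (a j)]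
    rw [TensorProduct.tmul_sum, map_sum, Finset.sum_apply]
    refine Finset.sum_congr rfl fun k _ => ?_
    rw [TensorProduct.tmul_smul, ← algebraMap_smul q.asIdeal.ResidueField (Φ (a j) k), map_smul,
      Pi.smul_apply, smul_eq_mul]
  set D : Matrix (Fin m) (Fin m) R := fun i j => ∑ k, P' (i, k) * Φ (a j) k with hDdef
  have hDij : ∀ i j, D i j = ∑ k, P' (i, k) * Φ (a j) k := fun i j => rfl
  have hD : ∀ i j, algebraMap R q.asIdeal.ResidueField (D i j) =
      if i = j then algebraMap R q.asIdeal.ResidueField s else 0 := by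
    intro i j
    have h2 : algebraMap R q.asIdeal.ResidueField (D i j) =
        algebraMap R q.asIdeal.ResidueField s *
          G0 ((1 : q.asIdeal.ResidueField) ⊗ₜ[R] a j) i := by
      rw [h1, Finset.mul_sum, hDij, map_sum]
      refine Finset.sum_congr rfl fun k _ => ?_
      rw [map_mul, hP']
      ring
    rw [h2, hG0w, Pi.single_apply]
    split_ifs <;> simp
  have hdet : algebraMap R q.asIdeal.ResidueField D.det =
      (algebraMap R q.asIdeal.ResidueField s) ^ m := by
    rw [RingHom.map_det]
    have : (algebraMap R q.asIdeal.ResidueField).mapMatrix D =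
        algebraMap R q.asIdeal.ResidueField s •
          (1 : Matrix (Fin m) (Fin m) q.asIdeal.ResidueField) := by
      ext i j
      rw [RingHom.mapMatrix_apply, Matrix.map_apply, hD, Matrix.smul_apply, Matrix.one_apply,
        smul_eq_mul, mul_ite, mul_one, mul_zero]
    rw [this, Matrix.det_smul, Matrix.det_one, mul_one, Fintype.card_fin]
  refine ⟨D.det, fun hmem => ?_, fun q' hq' => ?_⟩
  · have h0 := Ideal.algebraMap_residueField_eq_zero.mpr hmem
    rw [hdet] at h0
    have h3 : algebraMap R q.asIdeal.ResidueField s = 0 := IsNilpotent.eq_zero ⟨m, h0⟩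
    exact hs (Ideal.algebraMap_residueField_eq_zero.mp h3)
  · rw [Fintype.linearIndependent_iff]
    intro c hc
    have hB : ∀ k, ∑ j, c j * algebraMap R q'.asIdeal.ResidueField (Φ (a j) k) = 0 := by
      intro k
      have := congrArg (LinearMap.liftBaseChange q'.asIdeal.ResidueField
        ((Algebra.linearMap R q'.asIdeal.ResidueField) ∘ₗ (LinearMap.proj k ∘ₗ Φ))) hc
      rw [map_sum, map_zero] at this
      rw [← this]
      refine Finset.sum_congr rfl fun j _ => ?_
      rw [map_smul, LinearMap.liftBaseChange_tmul, one_smul, smul_eq_mul]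
      rfl
    have key : ∀ i, ∑ j, algebraMap R q'.asIdeal.ResidueField (D i j) * c j = 0 := by
      intro i
      have hj : ∀ j, algebraMap R q'.asIdeal.ResidueField (D i j) * c j =
          ∑ k, algebraMap R q'.asIdeal.ResidueField (P' (i, k)) *
            (c j * algebraMap R q'.asIdeal.ResidueField (Φ (a j) k)) := by
        intro j
        rw [hDij, map_sum, Finset.sum_mul]
        refine Finset.sum_congr rfl fun k _ => ?_
        rw [map_mul]; ring
      simp_rw [hj]
      rw [Finset.sum_comm]
      refine Finset.sum_eq_zero fun k _ => ?_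
      rw [← Finset.mul_sum, hB, mul_zero]
    have hDc : ((algebraMap R q'.asIdeal.ResidueField).mapMatrix D).mulVec c = 0 := by
      ext i
      simpa [Matrix.mulVec, dotProduct] using key i
    have hdet' : ((algebraMap R q'.asIdeal.ResidueField).mapMatrix D).det ≠ 0 := by
      rw [← RingHom.map_det]
      intro h0
      exact hq' (Ideal.algebraMap_residueField_eq_zero.mp h0)
    have := Matrix.eq_zero_of_mulVec_eq_zero hdet' hDc
    exact fun j => congrFun this j

theorem finrank_span_le_basicOpen {M : Type*} [AddCommGroup M] [Module R M]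
    [Module.Finite R M] [Module.Projective R M] (P : M → Prop) (q : PrimeSpectrum R) :
    ∃ f : R, f ∉ q.asIdeal ∧ ∀ q' : PrimeSpectrum R, f ∉ q'.asIdeal →
      Module.finrank q.asIdeal.ResidueField (Submodule.span q.asIdeal.ResidueField
        (Set.range fun a : {a : M // P a} =>
          ((1 : q.asIdeal.ResidueField) ⊗ₜ[R] (a : M) : q.asIdeal.ResidueField ⊗[R] M))) ≤
      Module.finrank q'.asIdeal.ResidueField (Submodule.span q'.asIdeal.ResidueField
        (Set.range fun a : {a : M // P a} =>
          ((1 : q'.asIdeal.ResidueField) ⊗ₜ[R] (a : M) : q'.asIdeal.ResidueField ⊗[R] M))) := by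
  obtain ⟨g, hg, -, hgi⟩ := Submodule.exists_fun_fin_finrank_span_eq q.asIdeal.ResidueField
    (Set.range fun a : {a : M // P a} =>
      ((1 : q.asIdeal.ResidueField) ⊗ₜ[R] (a : M) : q.asIdeal.ResidueField ⊗[R] M))
  choose b hb using hg
  have hgb : g = fun j => ((1 : q.asIdeal.ResidueField) ⊗ₜ[R] ((b j : {a : M // P a}) : M) :
      q.asIdeal.ResidueField ⊗[R] M) := funext fun j => (hb j).symm
  rw [hgb] at hgi
  obtain ⟨f, hf, hf'⟩ := exists_linearIndependent_basicOpen
    (fun j => ((b j : {a : M // P a}) : M)) q hgi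
  refine ⟨f, hf, fun q' hq' => ?_⟩
  have hli := hf' q' hq'
  have h1 := finrank_span_eq_card hli
  rw [Fintype.card_fin] at h1
  rw [← h1]
  refine Submodule.finrank_mono (Submodule.span_mono ?_)
  rintro _ ⟨j, rfl⟩
  exact ⟨b j, rfl⟩

end General

section Inv

variable {R : Type v} [CommRing R] {A : Type w} [Ring A] [Algebra R A] {lam : R → R}

/-- The `R`-linear map `a ↦ 1 ⊗ t a` at a ramified prime. -/
noncomputable def tauLin (t : AzInv.LamInv R A lam) (p : PrimeSpectrum R)
    (hp : ∀ r : R, lam r - r ∈ p.asIdeal) : A →ₗ[R] p.asIdeal.ResidueField ⊗[R] A where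
  toFun a := (1 : p.asIdeal.ResidueField) ⊗ₜ[R] t a
  map_add' a b := by rw [t.map_add, TensorProduct.tmul_add]
  map_smul' r a := by
    rw [t.map_smul, RingHom.id_apply, TensorProduct.tmul_smul,
      ← algebraMap_smul p.asIdeal.ResidueField (lam r),
      ← algebraMap_smul p.asIdeal.ResidueField r]
    congr 1
    have := Ideal.algebraMap_residueField_eq_zero.mpr (hp r)
    rwa [map_sub, sub_eq_zero] at this

/-- The induced `κ(p)`-linear involution of the fibre. -/
noncomputable def tbar (t : AzInv.LamInv R A lam) (p : PrimeSpectrum R)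
    (hp : ∀ r : R, lam r - r ∈ p.asIdeal) :
    p.asIdeal.ResidueField ⊗[R] A →ₗ[p.asIdeal.ResidueField] p.asIdeal.ResidueField ⊗[R] A :=
  (tauLin t p hp).liftBaseChange p.asIdeal.ResidueField

theorem tbar_one_tmul (t : AzInv.LamInv R A lam) (p : PrimeSpectrum R)
    (hp : ∀ r : R, lam r - r ∈ p.asIdeal) (a : A) :
    tbar t p hp ((1 : p.asIdeal.ResidueField) ⊗ₜ[R] a) = (1 : p.asIdeal.ResidueField) ⊗ₜ[R] t a := by
  rw [tbar, LinearMap.liftBaseChange_tmul, one_smul]
  rfl

/-- span of the images of the elements with `t a = a` -/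
noncomputable def Vplus (t : AzInv.LamInv R A lam) (p : PrimeSpectrum R) :
    Submodule p.asIdeal.ResidueField (p.asIdeal.ResidueField ⊗[R] A) :=
  Submodule.span p.asIdeal.ResidueField
    (Set.range fun a : {a : A // t a = a} => (1 : p.asIdeal.ResidueField) ⊗ₜ[R] (a : A))

/-- span of the images of the elements with `t a = -a` -/
noncomputable def Vminus (t : AzInv.LamInv R A lam) (p : PrimeSpectrum R) :
    Submodule p.asIdeal.ResidueField (p.asIdeal.ResidueField ⊗[R] A) :=
  Submodule.span p.asIdeal.ResidueField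
    (Set.range fun a : {a : A // t a = -a} => (1 : p.asIdeal.ResidueField) ⊗ₜ[R] (a : A))

theorem tbar_eq_of_mem_Vplus (t : AzInv.LamInv R A lam) (p : PrimeSpectrum R)
    (hp : ∀ r : R, lam r - r ∈ p.asIdeal) {v : p.asIdeal.ResidueField ⊗[R] A}
    (hv : v ∈ Vplus t p) : tbar t p hp v = v := by
  induction hv using Submodule.span_induction with
  | mem x hx =>
    obtain ⟨a, rfl⟩ := hx
    show tbar t p hp ((1 : p.asIdeal.ResidueField) ⊗ₜ[R] (a : A)) = _
    rw [tbar_one_tmul, a.2]
  | zero => rw [map_zero]
  | add x y _ _ hx hy => rw [map_add, hx, hy]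
  | smul c x _ hx => rw [map_smul, hx]

theorem tbar_eq_neg_of_mem_Vminus (t : AzInv.LamInv R A lam) (p : PrimeSpectrum R)
    (hp : ∀ r : R, lam r - r ∈ p.asIdeal) {v : p.asIdeal.ResidueField ⊗[R] A}
    (hv : v ∈ Vminus t p) : tbar t p hp v = -v := by
  induction hv using Submodule.span_induction with
  | mem x hx =>
    obtain ⟨a, rfl⟩ := hx
    show tbar t p hp ((1 : p.asIdeal.ResidueField) ⊗ₜ[R] (a : A)) = _
    rw [tbar_one_tmul, a.2, TensorProduct.tmul_neg]
  | zero => rw [map_zero, neg_zero]
  | add x y _ _ hx hy => rw [map_add, hx, hy, neg_add]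
  | smul c x _ hx => rw [map_smul, hx, smul_neg]

theorem finrank_plus_add_finrank_minus [Module.Finite R A] (t : AzInv.LamInv R A lam)
    (p : PrimeSpectrum R) (hp : ∀ r : R, lam r - r ∈ p.asIdeal) (half : R)
    (hhalf : 2 * half = 1) (hlam : lam half = half) :
    Module.finrank p.asIdeal.ResidueField (Vplus t p) +
      Module.finrank p.asIdeal.ResidueField (Vminus t p) =
      Module.finrank p.asIdeal.ResidueField (p.asIdeal.ResidueField ⊗[R] A) := by
  have h2ne : (2 : p.asIdeal.ResidueField) ≠ 0 := by
    intro h0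
    have := congrArg (algebraMap R p.asIdeal.ResidueField) hhalf
    rw [map_mul, map_ofNat, h0, zero_mul, map_one] at this
    exact zero_ne_one this
  have hinf : Vplus t p ⊓ Vminus t p = ⊥ := by
    rw [eq_bot_iff]
    rintro v ⟨hv1, hv2⟩
    have h12 : v = -v := (tbar_eq_of_mem_Vplus t p hp hv1).symm.trans
      (tbar_eq_neg_of_mem_Vminus t p hp hv2)
    have h3 : (2 : p.asIdeal.ResidueField) • v = 0 := by
      rw [two_smul]
      nth_rewrite 2 [h12]
      exact add_neg_cancel v
    exact (Submodule.mem_bot _).mpr ((smul_eq_zero.mp h3).resolve_left h2ne)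
  have hsup : Vplus t p ⊔ Vminus t p = ⊤ := by
    rw [eq_top_iff]
    rintro v -
    induction v using TensorProduct.induction_on with
    | zero => exact Submodule.zero_mem _
    | tmul c a =>
      have hs1 : t (half • (a + t a)) = half • (a + t a) := by
        rw [t.map_smul, t.map_add, t.invol, hlam, add_comm]
      have hs2 : t (half • (a - t a)) = -(half • (a - t a)) := by
        rw [t.map_smul, t.map_sub, t.invol, hlam, ← smul_neg, neg_sub]
      have ha : a = half • (a + t a) + half • (a - t a) := by
        rw [← smul_add, add_add_sub_cancel, ← two_smul R a, smul_smul, mul_comm, hhalf, one_smul]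
      have h1 : ((1 : p.asIdeal.ResidueField) ⊗ₜ[R] a : p.asIdeal.ResidueField ⊗[R] A) ∈
          Vplus t p ⊔ Vminus t p := by
        rw [ha, TensorProduct.tmul_add]
        refine Submodule.add_mem_sup (Submodule.subset_span ⟨⟨_, hs1⟩, rfl⟩)
          (Submodule.subset_span ⟨⟨_, hs2⟩, rfl⟩)
      have h2 : (c ⊗ₜ[R] a : p.asIdeal.ResidueField ⊗[R] A) =
          c • ((1 : p.asIdeal.ResidueField) ⊗ₜ[R] a) := by
        rw [TensorProduct.smul_tmul', smul_eq_mul, mul_one]
      rw [h2]
      exact Submodule.smul_mem _ c h1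
    | add x y hx hy => exact Submodule.add_mem _ hx hy
  have := Submodule.finrank_sup_add_finrank_inf_eq (Vplus t p) (Vminus t p)
  rw [hsup, hinf, finrank_top, finrank_bot, add_zero] at this
  exact this.symm

end Inv

/-- **S17362**: the dimension of the span of symmetric elements is locally constant on the
ramification locus. -/
theorem main (S : Type u) (R : Type v) [CommRing S] [CommRing R] [Algebra S R]
    (lam : R ≃ₐ[S] R) (h2 : IsUnit (2 : S))
    (A : Type w) [Ring A] [Algebra R A]
    (n : ℕ) (hA : AzInv.IsAzumayaDeg R A n) (t : AzInv.LamInv R A lam)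
    (q : PrimeSpectrum R) (hq : ∀ r : R, lam r - r ∈ q.asIdeal) :
    ∃ f : R, f ∉ q.asIdeal ∧ ∀ q' : PrimeSpectrum R, (∀ r : R, lam r - r ∈ q'.asIdeal) →
      f ∉ q'.asIdeal →
      Module.finrank q'.asIdeal.ResidueField
          (Submodule.span q'.asIdeal.ResidueField
            (Set.range fun a : {a : A // t a = a} =>
              (1 : q'.asIdeal.ResidueField) ⊗ₜ[R] (a : A))) =
        Module.finrank q.asIdeal.ResidueField
            (Submodule.span q.asIdeal.ResidueField
              (Set.range fun a : {a : A // t a = a} =>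
                (1 : q.asIdeal.ResidueField) ⊗ₜ[R] (a : A))) := by
  haveI := hA.1
  obtain ⟨u, hu⟩ := h2
  have hhalf : 2 * algebraMap S R (↑u⁻¹ : S) = 1 := by
    have : (2 : S) * (↑u⁻¹ : S) = 1 := by rw [← hu]; exact u.mul_inv
    have h := congrArg (algebraMap S R) this
    rwa [map_mul, map_ofNat, map_one] at h
  have hlamh : lam (algebraMap S R (↑u⁻¹ : S)) = algebraMap S R (↑u⁻¹ : S) := lam.commutes _
  obtain ⟨f1, hf1, hf1'⟩ := finrank_span_le_basicOpen (fun a : A => t a = a) q
  obtain ⟨f2, hf2, hf2'⟩ := finrank_span_le_basicOpen (fun a : A => t a = -a) q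
  refine ⟨f1 * f2, fun h => ?_, fun q' hq' hfq' => ?_⟩
  · rcases (q.isPrime.mem_or_mem h) with h | h
    · exact hf1 h
    · exact hf2 h
  · have h1 := hf1' q' (fun h => hfq' (Ideal.mul_mem_right _ _ h))
    have h2' := hf2' q' (fun h => hfq' (Ideal.mul_mem_left _ _ h))
    have hs := finrank_plus_add_finrank_minus t q hq _ hhalf hlamh
    have hs' := finrank_plus_add_finrank_minus t q' hq' _ hhalf hlamh
    have hr : Module.finrank q.asIdeal.ResidueField (q.asIdeal.ResidueField ⊗[R] A) = n ^ 2 := by
      rw [← hA.2 q]; exact (Module.rankAtStalk_eq q).symm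
    have hr' : Module.finrank q'.asIdeal.ResidueField (q'.asIdeal.ResidueField ⊗[R] A) =
        n ^ 2 := by
      rw [← hA.2 q']; exact (Module.rankAtStalk_eq q').symm
    rw [hr] at hs
    rw [hr'] at hs'
    change Module.finrank q.asIdeal.ResidueField (Vplus t q) ≤
      Module.finrank q'.asIdeal.ResidueField (Vplus t q') at h1
    change Module.finrank q.asIdeal.ResidueField (Vminus t q) ≤
      Module.finrank q'.asIdeal.ResidueField (Vminus t q') at h2'
    change Module.finrank q'.asIdeal.ResidueField (Vplus t q') =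
      Module.finrank q.asIdeal.ResidueField (Vplus t q)
    omega

end Groth.Agent.Helper3.SymLoc
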