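import Mathlib
import Groth.Prelude.Def_W4sga3xiixivxvCartan
import Groth.Agent.Lib.Helper3.CartEng3
import Groth.Agent.Lib.Helper3.SymLoc1

/-!
# Openness of the regular locus of a section (helper3)

* `engel_eq_ker_pow`, `isRegular_iff_le`: regularity in terms of the rank of `(ad x)^(dim)`.
* `range_baseChange_eq_span`
* `exists_basicOpen_isRegular`: if the nilpotent rank is locally constant and `1 ⊗ a` is regular at
  `p`, it is regular on a basic open neighbourhood of `p`.
* `s8375`.
-/

open scoped TensorProduct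

namespace Groth.Agent.Helper3.CartEng

universe u

section Field

variable {K : Type*} [Field K] {M : Type*} [LieRing M] [LieAlgebra K M] [Module.Finite K M]

theorem engel_eq_ker_pow (x : M) :
    (LieSubalgebra.engel K x).toSubmodule =
      LinearMap.ker ((LieAlgebra.ad K M x) ^ Module.finrank K M) := by
  ext y
  rw [LieSubalgebra.mem_toSubmodule, LieSubalgebra.mem_engel_iff, LinearMap.mem_ker]
  constructor
  · rintro ⟨n, hn⟩
    have : y ∈ LinearMap.ker ((LieAlgebra.ad K M x) ^ n) := hn
    exact Module.End.ker_pow_le_ker_pow_finrank _ n this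
  · intro h
    exact ⟨_, h⟩

theorem isRegular_iff_le (x : M) :
    LieAlgebra.IsRegular K x ↔ Module.finrank K M ≤ LieAlgebra.rank K M +
      Module.finrank K (LinearMap.range ((LieAlgebra.ad K M x) ^ Module.finrank K M)) := by
  rw [LieAlgebra.isRegular_iff_finrank_engel_eq_rank]
  have h1 := LieAlgebra.rank_le_finrank_engel K x
  have h2 := LinearMap.finrank_range_add_finrank_ker ((LieAlgebra.ad K M x) ^ Module.finrank K M)
  have h3 : Module.finrank K (LieSubalgebra.engel K x) =
      Module.finrank K (LinearMap.ker ((LieAlgebra.ad K M x) ^ Module.finrank K M)) := by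
    have := engel_eq_ker_pow (K := K) x
    exact congrArg (fun S : Submodule K M => Module.finrank K S) this
  omega

end Field

theorem range_baseChange_eq_span {R : Type*} [CommRing R] {M N : Type*} [AddCommGroup M]
    [Module R M] [AddCommGroup N] [Module R N] (K : Type*) [CommRing K] [Algebra R K]
    (F : M →ₗ[R] N) :
    LinearMap.range (F.baseChange K) = Submodule.span K
      (Set.range fun x : {y : N // y ∈ LinearMap.range F} => ((1 : K) ⊗ₜ[R] (x : N) : K ⊗[R] N)) := by
  apply le_antisymm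
  · rintro _ ⟨w, rfl⟩
    induction w using TensorProduct.induction_on with
    | zero => rw [map_zero]; exact Submodule.zero_mem _
    | tmul c l =>
      have : F.baseChange K (c ⊗ₜ[R] l) = c • ((1 : K) ⊗ₜ[R] F l) := by
        rw [LinearMap.baseChange_tmul, TensorProduct.smul_tmul', smul_eq_mul, mul_one]
      rw [this]
      exact Submodule.smul_mem _ c (Submodule.subset_span ⟨⟨F l, l, rfl⟩, rfl⟩)
    | add x y hx hy => rw [map_add]; exact Submodule.add_mem _ hx hy
  · rw [Submodule.span_le]
    rintro _ ⟨⟨y, l, rfl⟩, rfl⟩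
    exact ⟨(1 : K) ⊗ₜ[R] l, rfl⟩

section Relative

variable {A : Type u} [CommRing A] {L : Type u} [LieRing L] [LieAlgebra A L] [Module.Finite A L]
  [Module.Projective A L]

/-- If the nilpotent rank is constant on `D(f0)` and `1 ⊗ a` is regular at `p ∈ D(f0)`, then
`1 ⊗ a` is regular on a basic open neighbourhood of `p`. -/
theorem exists_basicOpen_isRegular (a : L) (p : PrimeSpectrum A) (f0 : A) (hf0 : f0 ∉ p.asIdeal)
    (hr : ∀ q : PrimeSpectrum A, f0 ∉ q.asIdeal →
        LieAlgebra.rank q.asIdeal.ResidueField (q.asIdeal.ResidueField ⊗[A] L) =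
          LieAlgebra.rank p.asIdeal.ResidueField (p.asIdeal.ResidueField ⊗[A] L))
    (hp : LieAlgebra.IsRegular p.asIdeal.ResidueField ((1 : p.asIdeal.ResidueField) ⊗ₜ[A] a)) :
    ∃ f : A, f ∉ p.asIdeal ∧ ∀ q : PrimeSpectrum A, f ∉ q.asIdeal →
      LieAlgebra.IsRegular q.asIdeal.ResidueField ((1 : q.asIdeal.ResidueField) ⊗ₜ[A] a) := by
  haveI : Module.FinitePresentation A L := Module.finitePresentation_of_projective A L
  have hlc := Module.isLocallyConstant_rankAtStalk (R := A) (M := L)
  obtain ⟨_, ⟨f1, rfl⟩, hpf1, hf1sub⟩ :=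
    PrimeSpectrum.isTopologicalBasis_basic_opens.exists_subset_of_mem_open
      (a := p) (u := (Module.rankAtStalk L) ⁻¹' {Module.rankAtStalk L p}) rfl
      (hlc.isOpen_fiber _)
  have hfin : ∀ q : PrimeSpectrum A, Module.finrank q.asIdeal.ResidueField
      (q.asIdeal.ResidueField ⊗[A] L) = Module.rankAtStalk L q :=
    fun q => (Module.rankAtStalk_eq q).symm
  have hpow : ∀ q : PrimeSpectrum A, ∀ n : ℕ,
      (LieAlgebra.ad q.asIdeal.ResidueField (q.asIdeal.ResidueField ⊗[A] L)
        ((1 : q.asIdeal.ResidueField) ⊗ₜ[A] a)) ^ n =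
      ((LieAlgebra.ad A L a : L →ₗ[A] L) ^ n).baseChange q.asIdeal.ResidueField := by
    intro q n
    rw [LinearMap.baseChange_pow]
    congr 1
    exact LieModule.toEnd_baseChange A q.asIdeal.ResidueField L L a
  obtain ⟨f2, hf2, hf2'⟩ := SymLoc.finrank_span_le_basicOpen
    (fun y : L => y ∈ LinearMap.range ((LieAlgebra.ad A L a : L →ₗ[A] L) ^ Module.rankAtStalk L p)) p
  refine ⟨f0 * f1 * f2, fun h => ?_, fun q hq => ?_⟩
  · rcases p.isPrime.mem_or_mem h with h | h
    · rcases p.isPrime.mem_or_mem h with h | h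
      · exact hf0 h
      · exact hpf1 h
    · exact hf2 h
  · have hq0 : f0 ∉ q.asIdeal := fun h =>
      hq (Ideal.mul_mem_right _ _ (Ideal.mul_mem_right _ _ h))
    have hq1 : f1 ∉ q.asIdeal := fun h =>
      hq (Ideal.mul_mem_right _ _ (Ideal.mul_mem_left _ _ h))
    have hq2 : f2 ∉ q.asIdeal := fun h => hq (Ideal.mul_mem_left _ _ h)
    have hd : Module.rankAtStalk L q = Module.rankAtStalk L p := hf1sub hq1
    have hle := hf2' q hq2
    rw [← range_baseChange_eq_span, ← range_baseChange_eq_span] at hle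
    rw [isRegular_iff_le, hfin, hpow] at hp ⊢
    rw [hd, hr q hq0]
    omega

theorem s8375 (hC0 : ∀ p : PrimeSpectrum A, ∃ f : A, f ∉ p.asIdeal ∧ ∀ q : PrimeSpectrum A,
      f ∉ q.asIdeal →
        LieAlgebra.rank q.asIdeal.ResidueField (q.asIdeal.ResidueField ⊗[A] L) =
          LieAlgebra.rank p.asIdeal.ResidueField (p.asIdeal.ResidueField ⊗[A] L)) (a : L) :
    IsOpen {p : PrimeSpectrum A |
      LieAlgebra.IsRegular p.asIdeal.ResidueField ((1 : p.asIdeal.ResidueField) ⊗ₜ[A] a)} := by
  rw [isOpen_iff_forall_mem_open]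
  intro p hp
  obtain ⟨f0, hf0, hr⟩ := hC0 p
  obtain ⟨f, hf, hf'⟩ := exists_basicOpen_isRegular a p f0 hf0 hr hp
  exact ⟨PrimeSpectrum.basicOpen f, fun q hq => hf' q hq, PrimeSpectrum.isOpen_basicOpen, hf⟩

end Relative

end Groth.Agent.Helper3.CartEng
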