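import Mathlib
import Groth.Prelude.Def_W4sga3xiixivxvCartan
import Groth.Agent.Lib.Helper3.CartEng4

/-!
# Existence of relative Cartan subalgebras Zariski locally under (C₂) (helper3)

* `charpoly_ad_equiv`, `rank_eq_of_equiv`, `isRegular_of_equiv`: invariance under bracket preserving
  linear equivalences (between different Lie algebras over a field).
* `isRegular_smul`.
* `cancelBaseChange_lie`: `B ⊗[A] (A ⊗[R] L) ≃ B ⊗[R] L` preserves brackets.
* `isRegular_tmul_tmul`: regularity in the fibre of `B ⊗ L` over `p'` from regularity in the fibre of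
  `L` over the contraction of `p'`.
* `exists_smul_eq_one_tmul`: every element of the fibre is a unit multiple of some `1 ⊗ a`.
* `s8376`.
-/

open scoped TensorProduct

namespace Groth.Agent.Helper3.CartEng

universe u

section Field

variable {K : Type*} [Field K] {M : Type*} [LieRing M] [LieAlgebra K M] [Module.Finite K M]
  {M' : Type*} [LieRing M'] [LieAlgebra K M'] [Module.Finite K M']

theorem charpoly_ad_equiv (e : M ≃ₗ[K] M') (he : ∀ x y, e ⁅x, y⁆ = ⁅e x, e y⁆) (x : M) :
    (LieAlgebra.ad K M' (e x)).charpoly = (LieAlgebra.ad K M x).charpoly := by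
  have : LieAlgebra.ad K M' (e x) = e.conj (LieAlgebra.ad K M x) := by
    ext y
    rw [LinearEquiv.conj_apply]
    simp only [LinearMap.comp_apply, LinearEquiv.coe_coe, LieAlgebra.ad_apply]
    rw [he, e.apply_symm_apply]
  rw [this, LinearEquiv.charpoly_conj]

theorem symm_lie (e : M ≃ₗ[K] M') (he : ∀ x y, e ⁅x, y⁆ = ⁅e x, e y⁆) (x y : M') :
    e.symm ⁅x, y⁆ = ⁅e.symm x, e.symm y⁆ := by
  apply e.injective
  rw [he, e.apply_symm_apply, e.apply_symm_apply, e.apply_symm_apply]

theorem rank_le_of_equiv (e : M ≃ₗ[K] M') (he : ∀ x y, e ⁅x, y⁆ = ⁅e x, e y⁆) :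
    LieAlgebra.rank K M' ≤ LieAlgebra.rank K M := by
  obtain ⟨y, hy⟩ := LieAlgebra.exists_isRegular (AlgebraicClosure K) (AlgebraicClosure K ⊗[K] M)
  have he'' : ∀ u v : AlgebraicClosure K ⊗[K] M,
      (LinearEquiv.baseChange K (AlgebraicClosure K) M M' e) ⁅u, v⁆ =
        ⁅(LinearEquiv.baseChange K (AlgebraicClosure K) M M' e) u,
          (LinearEquiv.baseChange K (AlgebraicClosure K) M M' e) v⁆ := fun u v =>
    baseChange_lie (AlgebraicClosure K)
      ({ e.toLinearMap with map_lie' := fun {x y} => he x y } : M →ₗ⁅K⁆ M') u v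
  have h1 := charpoly_ad_equiv (LinearEquiv.baseChange K (AlgebraicClosure K) M M' e) he'' y
  have h2 := LieAlgebra.rank_le_natTrailingDegree_charpoly_ad (AlgebraicClosure K)
    ((LinearEquiv.baseChange K (AlgebraicClosure K) M M' e) y)
  rw [h1, (LieAlgebra.isRegular_iff_natTrailingDegree_charpoly_eq_rank (AlgebraicClosure K) y).mp hy,
    rank_baseChange, rank_baseChange] at h2
  exact h2

theorem rank_eq_of_equiv (e : M ≃ₗ[K] M') (he : ∀ x y, e ⁅x, y⁆ = ⁅e x, e y⁆) :
    LieAlgebra.rank K M' = LieAlgebra.rank K M :=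
  le_antisymm (rank_le_of_equiv e he) (rank_le_of_equiv e.symm (symm_lie e he))

theorem isRegular_of_equiv (e : M ≃ₗ[K] M') (he : ∀ x y, e ⁅x, y⁆ = ⁅e x, e y⁆) {x : M}
    (hx : LieAlgebra.IsRegular K x) : LieAlgebra.IsRegular K (e x) := by
  rw [LieAlgebra.isRegular_iff_natTrailingDegree_charpoly_eq_rank] at hx ⊢
  rw [charpoly_ad_equiv e he, rank_eq_of_equiv e he, hx]

theorem isRegular_smul {x : M} (hx : LieAlgebra.IsRegular K x) {c : K} (hc : c ≠ 0) :
    LieAlgebra.IsRegular K (c • x) := by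
  rw [LieAlgebra.isRegular_iff_finrank_engel_eq_rank] at hx ⊢
  have hsm : LieAlgebra.ad K M (c • x) = c • LieAlgebra.ad K M x :=
    LinearMap.ext fun y => by simp [LieAlgebra.ad_apply, smul_lie]
  have hpow : ∀ n, ((LieAlgebra.ad K M (c • x)) ^ n) = c ^ n • ((LieAlgebra.ad K M x) ^ n) := by
    intro n; rw [hsm, smul_pow]
  have : LieSubalgebra.engel K (c • x) = LieSubalgebra.engel K x := by
    ext y
    rw [LieSubalgebra.mem_engel_iff, LieSubalgebra.mem_engel_iff]
    constructor
    · rintro ⟨n, hn⟩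
      refine ⟨n, ?_⟩
      rw [hpow, LinearMap.smul_apply] at hn
      exact (smul_eq_zero.mp hn).resolve_left (pow_ne_zero n hc)
    · rintro ⟨n, hn⟩
      exact ⟨n, by rw [hpow, LinearMap.smul_apply, hn, smul_zero]⟩
  rw [this]
  exact hx

end Field

theorem cancelBaseChange_lie {R : Type*} [CommRing R] {L : Type*} [LieRing L] [LieAlgebra R L]
    (A B : Type*) [CommRing A] [CommRing B] [Algebra R A] [Algebra R B] [Algebra A B]
    [IsScalarTower R A B] (x y : B ⊗[A] (A ⊗[R] L)) :
    TensorProduct.AlgebraTensorModule.cancelBaseChange R A B B L ⁅x, y⁆ =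
      ⁅TensorProduct.AlgebraTensorModule.cancelBaseChange R A B B L x,
        TensorProduct.AlgebraTensorModule.cancelBaseChange R A B B L y⁆ := by
  have hz1 : ∀ y : B ⊗[A] (A ⊗[R] L), ⁅(0 : B ⊗[A] (A ⊗[R] L)), y⁆ = 0 := fun y => zero_lie y
  have hz2 : ∀ x : B ⊗[A] (A ⊗[R] L), ⁅x, (0 : B ⊗[A] (A ⊗[R] L))⁆ = 0 := fun x => lie_zero x
  have ha1 : ∀ x1 x2 y : B ⊗[A] (A ⊗[R] L), ⁅x1 + x2, y⁆ = ⁅x1, y⁆ + ⁅x2, y⁆ :=
    fun x1 x2 y => add_lie x1 x2 y
  have ha2 : ∀ x y1 y2 : B ⊗[A] (A ⊗[R] L), ⁅x, y1 + y2⁆ = ⁅x, y1⁆ + ⁅x, y2⁆ :=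
    fun x y1 y2 => lie_add x y1 y2
  induction x using TensorProduct.induction_on with
  | zero => rw [hz1, map_zero, zero_lie]
  | add x1 x2 h1 h2 => rw [ha1, map_add, map_add, h1, h2, add_lie]
  | tmul b1 w1 =>
    induction y using TensorProduct.induction_on with
    | zero => rw [hz2, map_zero, lie_zero]
    | add y1 y2 h1 h2 => rw [ha2, map_add, map_add, h1, h2, lie_add]
    | tmul b2 w2 =>
      induction w1 using TensorProduct.induction_on with
      | zero => rw [TensorProduct.tmul_zero, hz1, map_zero, zero_lie]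
      | add u1 u2 h1 h2 =>
        rw [TensorProduct.tmul_add, ha1, map_add, map_add, h1, h2, add_lie]
      | tmul a1 l1 =>
        induction w2 using TensorProduct.induction_on with
        | zero => rw [TensorProduct.tmul_zero, hz2, map_zero, lie_zero]
        | add v1 v2 h1 h2 =>
          rw [TensorProduct.tmul_add, ha2, map_add, map_add, h1, h2, lie_add]
        | tmul a2 l2 =>
          simp only [LieAlgebra.ExtendScalars.bracket_tmul,
            TensorProduct.AlgebraTensorModule.cancelBaseChange_tmul]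
          rw [smul_mul_smul_comm]

section Relative

variable {A : Type u} [CommRing A] {L : Type u} [LieRing L] [LieAlgebra A L] [Module.Finite A L]

theorem isRegular_tmul_tmul (B : Type u) [CommRing B] [Algebra A B] (p' : PrimeSpectrum B) (a : L)
    (h : LieAlgebra.IsRegular (PrimeSpectrum.comap (algebraMap A B) p').asIdeal.ResidueField
      ((1 : (PrimeSpectrum.comap (algebraMap A B) p').asIdeal.ResidueField) ⊗ₜ[A] a)) :
    LieAlgebra.IsRegular p'.asIdeal.ResidueField
      ((1 : p'.asIdeal.ResidueField) ⊗ₜ[B] ((1 : B) ⊗ₜ[A] a)) := by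
  letI : Algebra (PrimeSpectrum.comap (algebraMap A B) p').asIdeal.ResidueField
      p'.asIdeal.ResidueField :=
    (Ideal.ResidueField.map (PrimeSpectrum.comap (algebraMap A B) p').asIdeal p'.asIdeal
      (algebraMap A B) rfl).toAlgebra
  haveI : IsScalarTower A (PrimeSpectrum.comap (algebraMap A B) p').asIdeal.ResidueField
      p'.asIdeal.ResidueField := IsScalarTower.of_algebraMap_eq (fun r => by
    rw [RingHom.algebraMap_toAlgebra, Ideal.ResidueField.map_algebraMap]
    exact IsScalarTower.algebraMap_apply A B p'.asIdeal.ResidueField r)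
  have h1 := isRegular_baseChange p'.asIdeal.ResidueField h
  have h2 := isRegular_of_equiv
    (TensorProduct.AlgebraTensorModule.cancelBaseChange A
      (PrimeSpectrum.comap (algebraMap A B) p').asIdeal.ResidueField p'.asIdeal.ResidueField
      p'.asIdeal.ResidueField L)
    (cancelBaseChange_lie (PrimeSpectrum.comap (algebraMap A B) p').asIdeal.ResidueField
      p'.asIdeal.ResidueField) h1
  rw [TensorProduct.AlgebraTensorModule.cancelBaseChange_tmul, one_smul] at h2
  have h3 := isRegular_of_equiv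
    (TensorProduct.AlgebraTensorModule.cancelBaseChange A B p'.asIdeal.ResidueField
      p'.asIdeal.ResidueField L).symm
    (symm_lie _ (cancelBaseChange_lie B p'.asIdeal.ResidueField)) h2
  rw [TensorProduct.AlgebraTensorModule.cancelBaseChange_symm_tmul] at h3
  exact h3

theorem exists_smul_eq_one_tmul (p : PrimeSpectrum A) (x : p.asIdeal.ResidueField ⊗[A] L) :
    ∃ (a : L) (s : A), s ∉ p.asIdeal ∧
      ((1 : p.asIdeal.ResidueField) ⊗ₜ[A] a : p.asIdeal.ResidueField ⊗[A] L) =
        algebraMap A p.asIdeal.ResidueField s • x := by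
  induction x using TensorProduct.induction_on with
  | zero => exact ⟨0, 1, (Ideal.ne_top_iff_one _).mp p.isPrime.ne_top, by simp⟩
  | tmul c l =>
    obtain ⟨s, hs, P', hP'⟩ := SymLoc.clear_denoms p (fun _ : Unit => c)
    refine ⟨P' () • l, s, hs, ?_⟩
    rw [TensorProduct.tmul_smul, ← algebraMap_smul p.asIdeal.ResidueField (P' ()), hP',
      TensorProduct.smul_tmul', TensorProduct.smul_tmul', smul_eq_mul, smul_eq_mul, mul_one]
  | add x1 x2 h1 h2 =>
    obtain ⟨a1, s1, hs1, e1⟩ := h1
    obtain ⟨a2, s2, hs2, e2⟩ := h2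
    refine ⟨s2 • a1 + s1 • a2, s1 * s2, ?_, ?_⟩
    · intro h
      rcases p.isPrime.mem_or_mem h with h | h
      · exact hs1 h
      · exact hs2 h
    · rw [TensorProduct.tmul_add, TensorProduct.tmul_smul, TensorProduct.tmul_smul,
        ← algebraMap_smul p.asIdeal.ResidueField s2, ← algebraMap_smul p.asIdeal.ResidueField s1,
        e1, e2, smul_add, map_mul, smul_smul, smul_smul,
        mul_comm (algebraMap A p.asIdeal.ResidueField s2)]

theorem s8376 [Module.Projective A L]
    (hC2 : ((∀ p : PrimeSpectrum A, ∃ f : A, f ∉ p.asIdeal ∧ ∀ q : PrimeSpectrum A,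
        f ∉ q.asIdeal →
        LieAlgebra.rank q.asIdeal.ResidueField (q.asIdeal.ResidueField ⊗[A] L) =
          LieAlgebra.rank p.asIdeal.ResidueField (p.asIdeal.ResidueField ⊗[A] L)) ∧
      ∀ (A' : Type u) [CommRing A'] [Algebra A A'] (a' : A' ⊗[A] L),
        SGA3t2b.IsQuasiRegular A' (A' ⊗[A] L) a' → SGA3t2b.IsRegularRel A' (A' ⊗[A] L) a'))
    (p : PrimeSpectrum A)
    (hp : ∃ x : p.asIdeal.ResidueField ⊗[A] L, LieAlgebra.IsRegular p.asIdeal.ResidueField x) :
    ∃ f : A, f ∉ p.asIdeal ∧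
      ∃ H : LieSubalgebra (Localization.Away f) (Localization.Away f ⊗[A] L),
        SGA3t2b.IsCartanRel H := by
  obtain ⟨x, hx⟩ := hp
  obtain ⟨a, s, hs, has⟩ := exists_smul_eq_one_tmul p x
  have hreg : LieAlgebra.IsRegular p.asIdeal.ResidueField
      ((1 : p.asIdeal.ResidueField) ⊗ₜ[A] a) := by
    rw [has]
    exact isRegular_smul hx (fun h0 => hs (Ideal.algebraMap_residueField_eq_zero.mp h0))
  obtain ⟨f0, hf0, hr⟩ := hC2.1 p
  obtain ⟨f, hf, hf'⟩ := exists_basicOpen_isRegular a p f0 hf0 hr hreg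
  refine ⟨f, hf, ?_⟩
  have hq : SGA3t2b.IsQuasiRegular (Localization.Away f) (Localization.Away f ⊗[A] L)
      ((1 : Localization.Away f) ⊗ₜ[A] a) := by
    intro p'
    apply isRegular_tmul_tmul (Localization.Away f) p' a
    apply hf'
    intro h
    have h1 : algebraMap A (Localization.Away f) f ∈ p'.asIdeal := h
    exact p'.isPrime.ne_top
      (Ideal.eq_top_of_isUnit_mem _ h1 (IsLocalization.Away.algebraMap_isUnit f))
  obtain ⟨_, H, hH, _⟩ := hC2.2 (Localization.Away f) _ hq
  exact ⟨H, hH⟩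

end Relative

end Groth.Agent.Helper3.CartEng
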