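import Mathlib
import Groth.Prelude.Def_W4sga3xiixivxvCartan
import Groth.Agent.Lib.Helper3.CartEng5

/-!
# Regular sections of a relative Cartan subalgebra near a point with infinite residue field (helper3)

* `le_of_normalizing`, `exists_engel_le`: over an infinite field, a self-normalizing subalgebra `U`
  with `U ≤ engel x` for all `x ∈ U` contains some `x` with `engel x ≤ U` (Barnes' lemma + Engel).
* `exists_comp_eq_smul`, `exists_comp_eq_smul'`: an endomorphism of a finite projective module which is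
  surjective on the fibre at `p` is invertible up to a scalar `f ∉ p`.
* `exists_rank_const`: the nilpotent rank of the fibres is locally constant when a relative Cartan
  subalgebra exists.
* `s8374`.
-/

open scoped TensorProduct

namespace Groth.Agent.Helper3.CartEng

universe u

section Field

variable {K : Type*} [Field K] {V : Type*} [LieRing V] [LieAlgebra K V] [Module.Finite K V]

theorem le_of_normalizing (E U : LieSubalgebra K V) (hUE : U ≤ E)
    (hnil : ∀ y ∈ U, E ≤ LieSubalgebra.engel K y)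
    (hnorm : ∀ x : V, (∀ y ∈ U, ⁅x, y⁆ ∈ U) → x ∈ U) : E ≤ U := by
  have hmem : ∀ z : E, z ∈ LieSubalgebra.ofLe hUE ↔ (z : V) ∈ U :=
    fun z => LieSubalgebra.mem_ofLe hUE z
  have hself : (LieSubalgebra.ofLe hUE).normalizer = LieSubalgebra.ofLe hUE := by
    refine le_antisymm ?_ (LieSubalgebra.ofLe hUE).le_normalizer
    intro z hz
    rw [LieSubalgebra.mem_normalizer_iff] at hz
    rw [hmem]
    apply hnorm
    intro y hy
    have h1 := hz ⟨y, hUE hy⟩ ((hmem _).mpr hy)
    rw [hmem] at h1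
    exact h1
  rw [(LieSubalgebra.ofLe hUE).normalizer_eq_self_iff] at hself
  by_contra hne
  have hne' : ((LieSubalgebra.ofLe hUE).toLieSubmodule : Submodule K E) ≠ ⊤ := by
    intro htop
    apply hne
    intro z hz
    have h1 : (⟨z, hz⟩ : E) ∈ ((LieSubalgebra.ofLe hUE).toLieSubmodule : Submodule K E) := by
      rw [htop]; trivial
    exact (hmem _).mp h1
  haveI : Nontrivial (E ⧸ (LieSubalgebra.ofLe hUE).toLieSubmodule) :=
    Submodule.Quotient.nontrivial_iff.2 hne'
  haveI : LieModule.IsNilpotent (LieSubalgebra.ofLe hUE)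
      (E ⧸ (LieSubalgebra.ofLe hUE).toLieSubmodule) := by
    rw [LieModule.isNilpotent_iff_forall' (R := K)]
    intro x
    have hx : IsNilpotent (LieAlgebra.ad K E (x : E)) := by
      rw [Module.End.isNilpotent_iff_of_finite]
      intro m
      obtain ⟨n, hn⟩ := (LieSubalgebra.mem_engel_iff K (((x : E) : V)) (m : V)).mp
        (hnil _ ((hmem _).mp x.2) m.2)
      refine ⟨n, Subtype.ext ?_⟩
      rw [LieSubalgebra.coe_ad_pow]
      exact hn
    apply Module.End.IsNilpotent.mapQ ?_ hx
    intro X HX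
    simp only [LieSubalgebra.coe_toLieSubmodule, LieSubalgebra.mem_toSubmodule] at HX
    simp only [LieSubalgebra.coe_toLieSubmodule, Submodule.mem_comap, LieAlgebra.ad_apply,
      LieSubalgebra.mem_toSubmodule]
    exact LieSubalgebra.lie_mem _ x.prop HX
  have hnt := LieModule.nontrivial_max_triv_of_isNilpotent K (LieSubalgebra.ofLe hUE)
    (E ⧸ (LieSubalgebra.ofLe hUE).toLieSubmodule)
  exact (LieSubmodule.nontrivial_iff_ne_bot K _ _).mp hnt hself

theorem exists_engel_le [Infinite K] (U : LieSubalgebra K V)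
    (hnil : ∀ x ∈ U, U ≤ LieSubalgebra.engel K x)
    (hnorm : ∀ x : V, (∀ y ∈ U, ⁅x, y⁆ ∈ U) → x ∈ U) :
    ∃ x ∈ U, LieSubalgebra.engel K x ≤ U := by
  classical
  have hLK : (Module.finrank K V : Cardinal) ≤ Cardinal.mk K :=
    Cardinal.natCast_lt_aleph0.le.trans (Cardinal.infinite_iff.mp ‹Infinite K›)
  have hne : ∃ n, ∃ x ∈ U, Module.finrank K (LieSubalgebra.engel K x) = n :=
    ⟨_, 0, U.zero_mem, rfl⟩
  obtain ⟨x₀, hx₀U, hx₀⟩ := Nat.find_spec hne
  have hmin : ∀ y ∈ U, Module.finrank K (LieSubalgebra.engel K x₀) ≤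
      Module.finrank K (LieSubalgebra.engel K y) := by
    intro y hy
    rw [hx₀]
    exact Nat.find_min' hne ⟨y, hy, rfl⟩
  refine ⟨x₀, hx₀U, ?_⟩
  have hbot : IsBot (⟨LieSubalgebra.engel K x₀, x₀, hx₀U, rfl⟩ :
      {LieSubalgebra.engel K z | z ∈ U}) := by
    apply LieAlgebra.engel_isBot_of_isMin hLK U _ (hnil x₀ hx₀U)
    rintro ⟨_, y, hy, rfl⟩ hyx
    have h1 := hmin y hy
    suffices LieSubalgebra.engel K y = LieSubalgebra.engel K x₀ from this.ge
    apply LieSubalgebra.toSubmodule_injective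
    exact Submodule.eq_of_le_of_finrank_le hyx h1
  apply le_of_normalizing _ U (hnil x₀ hx₀U) ?_ hnorm
  intro y hy
  exact @hbot ⟨LieSubalgebra.engel K y, y, hy, rfl⟩

end Field

section Nak

variable {A : Type*} [CommRing A] {Q : Type*} [AddCommGroup Q] [Module A Q]
  [Module.Finite A Q] [Module.Projective A Q]

theorem exists_comp_eq_smul (D : Q →ₗ[A] Q) (p : PrimeSpectrum A)
    (h : Function.Surjective (D.baseChange p.asIdeal.ResidueField)) :
    ∃ g : A, g ∉ p.asIdeal ∧ ∃ ρ : Q →ₗ[A] Q, D ∘ₗ ρ = g • LinearMap.id := by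
  have hC : Subsingleton (p.asIdeal.ResidueField ⊗[A] (Q ⧸ LinearMap.range D)) := by
    have h1 : Function.Surjective
        ((LinearMap.range D).mkQ.baseChange p.asIdeal.ResidueField) := by
      rw [LinearMap.baseChange_eq_ltensor]
      exact LinearMap.lTensor_surjective _ (Submodule.mkQ_surjective _)
    have h2 : ((LinearMap.range D).mkQ.baseChange p.asIdeal.ResidueField) ∘ₗ
        (D.baseChange p.asIdeal.ResidueField) = 0 := by
      rw [← LinearMap.baseChange_comp, LinearMap.range_mkQ_comp, LinearMap.baseChange_zero]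
    constructor
    intro x y
    obtain ⟨x', rfl⟩ := h1 x
    obtain ⟨x'', rfl⟩ := h x'
    obtain ⟨y', rfl⟩ := h1 y
    obtain ⟨y'', rfl⟩ := h y'
    have e1 := LinearMap.congr_fun h2 x''
    have e2 := LinearMap.congr_fun h2 y''
    simp only [LinearMap.comp_apply, LinearMap.zero_apply] at e1 e2
    rw [e1, e2]
  have hsupp : p ∉ Module.support A (Q ⧸ LinearMap.range D) := by
    rw [Module.mem_support_iff_nontrivial_residueField_tensorProduct,
      not_nontrivial_iff_subsingleton]
    exact hC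
  rw [Module.mem_support_iff_of_finite] at hsupp
  obtain ⟨g, hgann, hgp⟩ := SetLike.not_le_iff_exists.mp hsupp
  refine ⟨g, hgp, ?_⟩
  have hg : ∀ q : Q, (g • (LinearMap.id : Q →ₗ[A] Q)) q ∈ LinearMap.range D := by
    intro q
    have h1 := Module.mem_annihilator.mp hgann (Submodule.Quotient.mk q)
    rw [← Submodule.Quotient.mk_smul, Submodule.Quotient.mk_eq_zero] at h1
    exact h1
  obtain ⟨ρ, hρ⟩ := Module.projective_lifting_property D.rangeRestrict
    ((g • (LinearMap.id : Q →ₗ[A] Q)).codRestrict (LinearMap.range D) hg)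
    D.surjective_rangeRestrict
  refine ⟨ρ, LinearMap.ext fun q => ?_⟩
  have h1 := congrArg Subtype.val (LinearMap.congr_fun hρ q)
  simpa using h1

theorem exists_comp_eq_smul' (D : Q →ₗ[A] Q) (p : PrimeSpectrum A)
    (h : Function.Surjective (D.baseChange p.asIdeal.ResidueField)) :
    ∃ f : A, f ∉ p.asIdeal ∧ ∃ σ : Q →ₗ[A] Q, σ ∘ₗ D = f • LinearMap.id := by
  obtain ⟨g, hg, ρ, hρ⟩ := exists_comp_eq_smul D p h
  have hρp : Function.Surjective (ρ.baseChange p.asIdeal.ResidueField) := by
    have hinj : Function.Injective (ρ.baseChange p.asIdeal.ResidueField) := by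
      rw [← LinearMap.ker_eq_bot, LinearMap.ker_eq_bot']
      intro v hv
      have h1 : (D.baseChange p.asIdeal.ResidueField)
          ((ρ.baseChange p.asIdeal.ResidueField) v) = g • v := by
        rw [← LinearMap.comp_apply, ← LinearMap.baseChange_comp, hρ, LinearMap.baseChange_smul,
          LinearMap.baseChange_id, LinearMap.smul_apply, LinearMap.id_apply]
      rw [hv, map_zero, ← algebraMap_smul p.asIdeal.ResidueField g v] at h1
      have hg0 : algebraMap A p.asIdeal.ResidueField g ≠ 0 := fun h0 =>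
        hg (Ideal.algebraMap_residueField_eq_zero.mp h0)
      exact (smul_eq_zero.mp h1.symm).resolve_left hg0
    exact LinearMap.injective_iff_surjective.mp hinj
  obtain ⟨g', hg', ρ', hρ'⟩ := exists_comp_eq_smul ρ p hρp
  refine ⟨g * g', fun hmem => ?_, g' • ρ, LinearMap.ext fun q => ?_⟩
  · rcases p.isPrime.mem_or_mem hmem with h1 | h1
    exacts [hg h1, hg' h1]
  · have e1 : ∀ z, D (ρ z) = g • z := fun z => by simpa using LinearMap.congr_fun hρ z
    have e2 : ∀ z, ρ (ρ' z) = g' • z := fun z => by simpa using LinearMap.congr_fun hρ' z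
    show g' • ρ (D q) = (g * g') • q
    calc g' • ρ (D q) = ρ (D (g' • q)) := by rw [map_smul, map_smul]
      _ = ρ (D (ρ (ρ' q))) := by rw [e2]
      _ = ρ (g • ρ' q) := by rw [e1]
      _ = g • ρ (ρ' q) := by rw [map_smul]
      _ = g • g' • q := by rw [e2]
      _ = (g * g') • q := by rw [smul_smul]

theorem pow_comp_pow {σ D : Q →ₗ[A] Q} {f : A} (h : σ ∘ₗ D = f • LinearMap.id) (n : ℕ) (q : Q) :
    (σ ^ n) ((D ^ n) q) = f ^ n • q := by
  have e : ∀ z, σ (D z) = f • z := fun z => by simpa using LinearMap.congr_fun h z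
  induction n generalizing q with
  | zero => simp
  | succ n ih =>
    rw [pow_succ σ, pow_succ' D, Module.End.mul_apply, Module.End.mul_apply, e, map_smul, ih,
      smul_smul, ← pow_succ']

end Nak

section Relative

variable {A : Type u} [CommRing A] {L : Type u} [LieRing L] [LieAlgebra A L] [Module.Finite A L]

theorem exists_rank_const [Module.Projective A L] (H : LieSubalgebra A L) (hH : SGA3t2b.IsCartanRel H)
    (p : PrimeSpectrum A) :
    ∃ f0 : A, f0 ∉ p.asIdeal ∧ ∀ q : PrimeSpectrum A, f0 ∉ q.asIdeal →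
      LieAlgebra.rank q.asIdeal.ResidueField (q.asIdeal.ResidueField ⊗[A] L) =
        LieAlgebra.rank p.asIdeal.ResidueField (p.asIdeal.ResidueField ⊗[A] L) := by
  obtain ⟨ρ, hρ⟩ := exists_retraction H hH.1
  have hρs : Function.Surjective ρ := fun h => ⟨(h : L), LinearMap.congr_fun hρ h⟩
  haveI : Module.Finite A H := Module.Finite.of_surjective ρ hρs
  haveI : Module.Projective A H := Module.Projective.of_split (H.incl : H →ₗ[A] L) ρ hρ
  haveI : Module.FinitePresentation A H := Module.finitePresentation_of_projective A H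
  have hrk : ∀ q : PrimeSpectrum A,
      LieAlgebra.rank q.asIdeal.ResidueField (q.asIdeal.ResidueField ⊗[A] L) =
        Module.rankAtStalk (R := A) (↥H) q := by
    intro q
    rw [← (hH.2 q).2.2, Module.rankAtStalk_eq q, SGA3t2b.fibreSubmodule, ← range_iota]
    apply LinearMap.finrank_range_of_inj
    have h1 : (ρ.baseChange q.asIdeal.ResidueField) ∘ₗ iota q.asIdeal.ResidueField H =
        LinearMap.id := by
      rw [iota, ← LinearMap.baseChange_comp, hρ, LinearMap.baseChange_id]
    exact Function.LeftInverse.injective (fun v => LinearMap.congr_fun h1 v)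
  have hlc := Module.isLocallyConstant_rankAtStalk (R := A) (M := ↥H)
  obtain ⟨_, ⟨f1, rfl⟩, hpf1, hf1sub⟩ :=
    PrimeSpectrum.isTopologicalBasis_basic_opens.exists_subset_of_mem_open
      (a := p) (u := (Module.rankAtStalk (R := A) (↥H)) ⁻¹' {Module.rankAtStalk (R := A) (↥H) p})
      rfl (hlc.isOpen_fiber _)
  refine ⟨f1, hpf1, fun q hq => ?_⟩
  rw [hrk, hrk]
  exact hf1sub hq

theorem s8374 [Module.Projective A L]
    (H : LieSubalgebra A L) (hH : SGA3t2b.IsCartanRel H) (p : PrimeSpectrum A)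
    (hp : Infinite p.asIdeal.ResidueField) :
    ∃ f : A, f ∉ p.asIdeal ∧ ∃ a : L, a ∈ H ∧
      (∀ q : PrimeSpectrum A, f ∉ q.asIdeal →
        LieAlgebra.IsRegular q.asIdeal.ResidueField ((1 : q.asIdeal.ResidueField) ⊗ₜ[A] a)) ∧
      H ≤ LieSubalgebra.engel A a ∧
      ∀ y : L, y ∈ LieSubalgebra.engel A a → ∃ n : ℕ, f ^ n • y ∈ H := by
  obtain ⟨ρ, hρ⟩ := exists_retraction H hH.1
  have hρs : Function.Surjective ρ := fun h => ⟨(h : L), LinearMap.congr_fun hρ h⟩
  haveI : Module.Finite A H := Module.Finite.of_surjective ρ hρs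
  haveI := (hH.2 p).1
  -- the fibre of `H` at `p` as a Lie subalgebra
  have hWrange : SGA3t2b.fibreSubmodule p H = LinearMap.range (iota p.asIdeal.ResidueField H) :=
    (range_iota p.asIdeal.ResidueField H).symm
  have hWlie : ∀ {u v : p.asIdeal.ResidueField ⊗[A] L}, u ∈ SGA3t2b.fibreSubmodule p H →
      v ∈ SGA3t2b.fibreSubmodule p H → ⁅u, v⁆ ∈ SGA3t2b.fibreSubmodule p H := by
    intro u v hu hv
    rw [hWrange] at hu hv ⊢
    obtain ⟨u', rfl⟩ := hu
    obtain ⟨v', rfl⟩ := hv
    exact ⟨⁅u', v'⁆, iota_lie _ H u' v'⟩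
  let U : LieSubalgebra p.asIdeal.ResidueField (p.asIdeal.ResidueField ⊗[A] L) :=
    { SGA3t2b.fibreSubmodule p H with lie_mem' := fun hu hv => hWlie hu hv }
  have hUmem : ∀ x, x ∈ U ↔ x ∈ SGA3t2b.fibreSubmodule p H := fun x => Iff.rfl
  have hnil : ∀ x ∈ U, U ≤ LieSubalgebra.engel p.asIdeal.ResidueField x := by
    intro x hx y hy
    rw [hUmem, hWrange] at hx hy
    obtain ⟨x', rfl⟩ := hx
    obtain ⟨y', rfl⟩ := hy
    obtain ⟨k, hk⟩ := LieAlgebra.nilpotent_ad_of_nilpotent_algebra p.asIdeal.ResidueField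
      (p.asIdeal.ResidueField ⊗[A] H)
    refine (LieSubalgebra.mem_engel_iff _ _ _).mpr ⟨k, ?_⟩
    have h1 := map_ad_pow (R := p.asIdeal.ResidueField) (R' := p.asIdeal.ResidueField)
      (⇑(iota p.asIdeal.ResidueField H)) (iota_lie p.asIdeal.ResidueField H) x' y' k
    rw [hk, LinearMap.zero_apply, map_zero] at h1
    exact h1.symm
  have hnorm : ∀ x : p.asIdeal.ResidueField ⊗[A] L, (∀ y ∈ U, ⁅x, y⁆ ∈ U) → x ∈ U :=
    fun x hx => (hH.2 p).2.1 x hx
  obtain ⟨x₀, hx₀U, hx₀⟩ := exists_engel_le U hnil hnorm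
  have hx₀reg : LieAlgebra.IsRegular p.asIdeal.ResidueField x₀ := by
    rw [LieAlgebra.isRegular_iff_finrank_engel_eq_rank]
    apply le_antisymm _ (LieAlgebra.rank_le_finrank_engel _ x₀)
    rw [← (hH.2 p).2.2]
    exact Submodule.finrank_mono (show (LieSubalgebra.engel p.asIdeal.ResidueField x₀).toSubmodule ≤
      SGA3t2b.fibreSubmodule p H from hx₀)
  -- lift to a global element of `H`
  have hx₀W : x₀ ∈ LinearMap.range (iota p.asIdeal.ResidueField H) := by
    rw [← hWrange]; exact hx₀U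
  obtain ⟨z, hz⟩ := hx₀W
  obtain ⟨a', s, hs, has⟩ := exists_smul_eq_one_tmul (L := ↥H) p z
  have ha'reg : LieAlgebra.IsRegular p.asIdeal.ResidueField
      ((1 : p.asIdeal.ResidueField) ⊗ₜ[A] (a' : L)) := by
    have h1 := congrArg (iota p.asIdeal.ResidueField H) has
    rw [map_smul, hz, iota_tmul] at h1
    rw [h1]
    exact isRegular_smul hx₀reg (fun h0 => hs (Ideal.algebraMap_residueField_eq_zero.mp h0))
  obtain ⟨f0, hf0, hr⟩ := exists_rank_const H hH p
  obtain ⟨f, hf, hf'⟩ := exists_basicOpen_isRegular (a' : L) p f0 hf0 hr ha'reg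
  have hle : H ≤ LieSubalgebra.engel A (a' : L) :=
    le_engel_of_nilp H hH.1 (fun q => (hH.2 q).1) a'.2
  -- `ad a` on the quotient
  have hst : H.toSubmodule ≤ H.toSubmodule.comap (LieAlgebra.ad A L (a' : L) : L →ₗ[A] L) :=
    fun s hs => H.lie_mem a'.2 hs
  haveI : Module.Projective A (L ⧸ H.toSubmodule) := hH.1
  have hDsurj : Function.Surjective
      ((H.toSubmodule.mapQ H.toSubmodule (LieAlgebra.ad A L (a' : L) : L →ₗ[A] L)
        hst).baseChange p.asIdeal.ResidueField) := by
    intro w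
    have hmk : Function.Surjective (H.toSubmodule.mkQ.baseChange p.asIdeal.ResidueField) := by
      rw [LinearMap.baseChange_eq_ltensor]
      exact LinearMap.lTensor_surjective _ (Submodule.mkQ_surjective _)
    obtain ⟨v, rfl⟩ := hmk w
    have hv : v ∈ (⊤ : Submodule p.asIdeal.ResidueField (p.asIdeal.ResidueField ⊗[A] L)) :=
      trivial
    rw [← engel_sup_range_ad ((1 : p.asIdeal.ResidueField) ⊗ₜ[A] (a' : L)), Submodule.mem_sup] at hv
    obtain ⟨e, he, r, hr', rfl⟩ := hv
    rw [← fibre_eq_engel H hH a'.2 p ha'reg] at he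
    have he' : e ∈ LinearMap.range
        (H.toSubmodule.subtype.baseChange p.asIdeal.ResidueField) := he
    obtain ⟨e', rfl⟩ := he'
    obtain ⟨r', rfl⟩ := hr'
    have h0 : H.toSubmodule.mkQ ∘ₗ H.toSubmodule.subtype = 0 :=
      LinearMap.ext fun h => (Submodule.Quotient.mk_eq_zero _).mpr h.2
    have h1 : (H.toSubmodule.mkQ.baseChange p.asIdeal.ResidueField)
        ((H.toSubmodule.subtype.baseChange p.asIdeal.ResidueField) e') = 0 := by
      rw [← LinearMap.comp_apply, ← LinearMap.baseChange_comp, h0, LinearMap.baseChange_zero,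
        LinearMap.zero_apply]
    have h3 : (LieAlgebra.ad p.asIdeal.ResidueField (p.asIdeal.ResidueField ⊗[A] L)
        ((1 : p.asIdeal.ResidueField) ⊗ₜ[A] (a' : L))) =
        (LieAlgebra.ad A L (a' : L) : L →ₗ[A] L).baseChange p.asIdeal.ResidueField :=
      LieModule.toEnd_baseChange A p.asIdeal.ResidueField L L (a' : L)
    refine ⟨(H.toSubmodule.mkQ.baseChange p.asIdeal.ResidueField) r', ?_⟩
    rw [map_add, h1, zero_add, h3, ← LinearMap.comp_apply, ← LinearMap.comp_apply,
      ← LinearMap.baseChange_comp, ← LinearMap.baseChange_comp, Submodule.mapQ_mkQ]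
  obtain ⟨f₁, hf₁, σ, hσ⟩ := exists_comp_eq_smul' _ p hDsurj
  refine ⟨f * f₁, fun hmem => ?_, (a' : L), a'.2, fun q hq => ?_, hle, fun y hy => ?_⟩
  · rcases p.isPrime.mem_or_mem hmem with h1 | h1
    exacts [hf h1, hf₁ h1]
  · exact hf' q (fun h1 => hq (Ideal.mul_mem_right _ _ h1))
  · obtain ⟨n, hn⟩ := (LieSubalgebra.mem_engel_iff A (a' : L) y).mp hy
    refine ⟨n, ?_⟩
    have h1 := pow_comp_pow hσ n (Submodule.Quotient.mk y)
    rw [← Submodule.mapQ_pow H.toSubmodule hst n, Submodule.mapQ_apply, hn, Submodule.Quotient.mk_zero,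
      map_zero] at h1
    have h2 : f₁ ^ n • y ∈ H.toSubmodule := by
      rw [← Submodule.Quotient.mk_eq_zero, Submodule.Quotient.mk_smul]
      exact h1.symm
    rw [mul_pow, mul_smul]
    exact H.toSubmodule.smul_mem _ h2

end Relative

end Groth.Agent.Helper3.CartEng
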