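import Mathlib
import Groth.Prelude.Def_W4sga3xiixivxvCartan
import Groth.Agent.Lib.Helper3.CartEng6

/-!
# Conditions (C₁) ⇒ (C₀) and (C₂) ⇒ (C′₁) for Lie algebras over a ring (helper3)

* `rank_tmul_tmul`: the nilpotent rank of the fibre of `B ⊗ L` at `p'` equals that of the fibre of `L`
  at the contraction of `p'`.
* `s8378`: if `A' ⊗ L` has a relative Cartan subalgebra for some faithfully flat `A'`, the nilpotent
  rank of the fibres of `L` is locally constant.
* `exists_regular_section`, `faithfullyFlat_pi`, `isQuasiRegular_sum`, `s8377`.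
-/

open scoped TensorProduct

namespace Groth.Agent.Helper3.CartEng

universe u

section Relative

variable {A : Type u} [CommRing A] {L : Type u} [LieRing L] [LieAlgebra A L] [Module.Finite A L]

theorem rank_tmul_tmul (B : Type u) [CommRing B] [Algebra A B] (p' : PrimeSpectrum B) :
    LieAlgebra.rank p'.asIdeal.ResidueField (p'.asIdeal.ResidueField ⊗[B] (B ⊗[A] L)) =
      LieAlgebra.rank (PrimeSpectrum.comap (algebraMap A B) p').asIdeal.ResidueField
        ((PrimeSpectrum.comap (algebraMap A B) p').asIdeal.ResidueField ⊗[A] L) := by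
  letI : Algebra (PrimeSpectrum.comap (algebraMap A B) p').asIdeal.ResidueField
      p'.asIdeal.ResidueField :=
    (Ideal.ResidueField.map (PrimeSpectrum.comap (algebraMap A B) p').asIdeal p'.asIdeal
      (algebraMap A B) rfl).toAlgebra
  haveI : IsScalarTower A (PrimeSpectrum.comap (algebraMap A B) p').asIdeal.ResidueField
      p'.asIdeal.ResidueField := IsScalarTower.of_algebraMap_eq (fun r => by
    rw [RingHom.algebraMap_toAlgebra, Ideal.ResidueField.map_algebraMap]
    exact IsScalarTower.algebraMap_apply A B p'.asIdeal.ResidueField r)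
  have h1 := rank_baseChange
    (K := (PrimeSpectrum.comap (algebraMap A B) p').asIdeal.ResidueField)
    (M := (PrimeSpectrum.comap (algebraMap A B) p').asIdeal.ResidueField ⊗[A] L)
    p'.asIdeal.ResidueField
  have h2 := rank_eq_of_equiv
    (TensorProduct.AlgebraTensorModule.cancelBaseChange A
      (PrimeSpectrum.comap (algebraMap A B) p').asIdeal.ResidueField p'.asIdeal.ResidueField
      p'.asIdeal.ResidueField L)
    (cancelBaseChange_lie (PrimeSpectrum.comap (algebraMap A B) p').asIdeal.ResidueField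
      p'.asIdeal.ResidueField)
  have h3 := rank_eq_of_equiv
    (TensorProduct.AlgebraTensorModule.cancelBaseChange A B p'.asIdeal.ResidueField
      p'.asIdeal.ResidueField L)
    (cancelBaseChange_lie B p'.asIdeal.ResidueField)
  rw [← h3, h2, h1]

theorem s8378 [Module.Projective A L]
    (hC1 : ∃ (A' : Type u) (_ : CommRing A') (_ : Algebra A A'), Module.FaithfullyFlat A A' ∧
        ∃ H : LieSubalgebra A' (A' ⊗[A] L), SGA3t2b.IsCartanRel H) :
    ∀ p : PrimeSpectrum A, ∃ f : A, f ∉ p.asIdeal ∧ ∀ q : PrimeSpectrum A, f ∉ q.asIdeal →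
        LieAlgebra.rank q.asIdeal.ResidueField (q.asIdeal.ResidueField ⊗[A] L) =
          LieAlgebra.rank p.asIdeal.ResidueField (p.asIdeal.ResidueField ⊗[A] L) := by
  obtain ⟨A', _, _, hff, H, hH⟩ := hC1
  haveI := hff
  intro p
  have hquot : Topology.IsQuotientMap (PrimeSpectrum.comap (algebraMap A A')) :=
    PrimeSpectrum.isQuotientMap_of_generalizingMap
      PrimeSpectrum.comap_surjective_of_faithfullyFlat
      (RingHom.Flat.generalizingMap_comap (RingHom.flat_algebraMap_iff.mpr inferInstance))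
  have hopen : IsOpen {q : PrimeSpectrum A |
      LieAlgebra.rank q.asIdeal.ResidueField (q.asIdeal.ResidueField ⊗[A] L) =
        LieAlgebra.rank p.asIdeal.ResidueField (p.asIdeal.ResidueField ⊗[A] L)} := by
    rw [← hquot.isCoinducing.isOpen_preimage, isOpen_iff_forall_mem_open]
    intro q' hq'
    obtain ⟨g, hg, hgr⟩ := exists_rank_const H hH q'
    refine ⟨PrimeSpectrum.basicOpen g, fun q'' hq'' => ?_, PrimeSpectrum.isOpen_basicOpen, hg⟩
    have e1 := hgr q'' hq''
    rw [rank_tmul_tmul, rank_tmul_tmul] at e1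
    exact e1.trans hq'
  have hmem : p ∈ {q : PrimeSpectrum A |
      LieAlgebra.rank q.asIdeal.ResidueField (q.asIdeal.ResidueField ⊗[A] L) =
        LieAlgebra.rank p.asIdeal.ResidueField (p.asIdeal.ResidueField ⊗[A] L)} := rfl
  obtain ⟨_, ⟨f, rfl⟩, hpf, hfsub⟩ :=
    PrimeSpectrum.isTopologicalBasis_basic_opens.exists_subset_of_mem_open hmem hopen
  exact ⟨f, hpf, fun q hq => hfsub hq⟩

theorem exists_regular_section [Module.Projective A L]
    (hC0 : ∀ p : PrimeSpectrum A, ∃ f : A, f ∉ p.asIdeal ∧ ∀ q : PrimeSpectrum A, f ∉ q.asIdeal →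
        LieAlgebra.rank q.asIdeal.ResidueField (q.asIdeal.ResidueField ⊗[A] L) =
          LieAlgebra.rank p.asIdeal.ResidueField (p.asIdeal.ResidueField ⊗[A] L))
    (p : PrimeSpectrum A)
    (hp : ∃ x : p.asIdeal.ResidueField ⊗[A] L, LieAlgebra.IsRegular p.asIdeal.ResidueField x) :
    ∃ f : A, f ∉ p.asIdeal ∧ ∃ a : L, ∀ q : PrimeSpectrum A, f ∉ q.asIdeal →
      LieAlgebra.IsRegular q.asIdeal.ResidueField ((1 : q.asIdeal.ResidueField) ⊗ₜ[A] a) := by
  obtain ⟨x, hx⟩ := hp
  obtain ⟨a, s, hs, has⟩ := exists_smul_eq_one_tmul p x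
  have hreg : LieAlgebra.IsRegular p.asIdeal.ResidueField
      ((1 : p.asIdeal.ResidueField) ⊗ₜ[A] a) := by
    rw [has]
    exact isRegular_smul hx (fun h0 => hs (Ideal.algebraMap_residueField_eq_zero.mp h0))
  obtain ⟨f0, hf0, hr⟩ := hC0 p
  obtain ⟨f, hf, hf'⟩ := exists_basicOpen_isRegular a p f0 hf0 hr hreg
  exact ⟨f, hf, a, hf'⟩

omit [Module.Finite A L] [LieRing L] [LieAlgebra A L] in
theorem faithfullyFlat_pi (s : Finset A) (hs : Ideal.span (s : Set A) = ⊤) :
    Module.FaithfullyFlat A ((f : s) → Localization.Away (f : A)) := by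
  apply Module.FaithfullyFlat.of_comap_surjective
  intro p
  have hex : ∃ f ∈ s, f ∉ p.asIdeal := by
    by_contra hcon
    push Not at hcon
    have h1 : Ideal.span (s : Set A) ≤ p.asIdeal := Ideal.span_le.mpr (fun f hf => hcon f hf)
    rw [hs] at h1
    exact p.isPrime.ne_top (top_le_iff.mp h1)
  obtain ⟨f, hf, hfp⟩ := hex
  have hrange := PrimeSpectrum.localization_away_comap_range (Localization.Away f) f
  have hp : p ∈ Set.range (PrimeSpectrum.comap (algebraMap A (Localization.Away f))) := by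
    rw [hrange]; exact hfp
  obtain ⟨P, hP⟩ := hp
  have hcomp : (Pi.evalRingHom (fun g : s => Localization.Away (g : A)) ⟨f, hf⟩).comp
      (algebraMap A ((g : s) → Localization.Away (g : A))) =
      algebraMap A (Localization.Away f) := RingHom.ext fun x => rfl
  refine ⟨PrimeSpectrum.comap (Pi.evalRingHom (fun g : s => Localization.Away (g : A)) ⟨f, hf⟩) P,
    ?_⟩
  rw [← hP, ← hcomp, PrimeSpectrum.comap_comp]
  rfl

theorem isQuasiRegular_sum [DecidableEq A] (s : Finset A) (a : A → L)
    (ha : ∀ f ∈ s, ∀ q : PrimeSpectrum A, f ∉ q.asIdeal →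
      LieAlgebra.IsRegular q.asIdeal.ResidueField ((1 : q.asIdeal.ResidueField) ⊗ₜ[A] a f)) :
    SGA3t2b.IsQuasiRegular ((f : s) → Localization.Away (f : A))
      (((f : s) → Localization.Away (f : A)) ⊗[A] L)
      (∑ f : s, (Pi.single f 1 : (g : s) → Localization.Away (g : A)) ⊗ₜ[A] a f) := by
  intro q'
  have hsum : ∑ f : s, (Pi.single f 1 : (g : s) → Localization.Away (g : A)) = 1 :=
    Finset.univ_sum_single (1 : (g : s) → Localization.Away (g : A))
  have hmul : ∀ f g : s, f ≠ g →
      (Pi.single f 1 : (g : s) → Localization.Away (g : A)) * Pi.single g 1 = 0 := by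
    intro f g hfg
    funext k
    rw [Pi.mul_apply, Pi.zero_apply]
    by_cases hk : k = f
    · subst hk
      rw [Pi.single_eq_of_ne hfg, mul_zero]
    · rw [Pi.single_eq_of_ne hk, zero_mul]
  have hex : ∃ f₀ : s, (Pi.single f₀ 1 : (g : s) → Localization.Away (g : A)) ∉ q'.asIdeal := by
    by_contra hcon
    push Not at hcon
    have h1 : (1 : (g : s) → Localization.Away (g : A)) ∈ q'.asIdeal := by
      rw [← hsum]
      exact Ideal.sum_mem _ (fun f _ => hcon f)
    exact q'.isPrime.ne_top ((Ideal.eq_top_iff_one _).mpr h1)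
  obtain ⟨f₀, hf₀⟩ := hex
  have hother : ∀ g : s, g ≠ f₀ →
      algebraMap ((g : s) → Localization.Away (g : A)) q'.asIdeal.ResidueField
        (Pi.single g 1) = 0 := by
    intro g hg
    rw [Ideal.algebraMap_residueField_eq_zero]
    have h1 : (Pi.single g 1 : (g : s) → Localization.Away (g : A)) * Pi.single f₀ 1 ∈
        q'.asIdeal := by
      rw [hmul g f₀ hg]; exact Ideal.zero_mem _
    exact (q'.isPrime.mem_or_mem h1).resolve_right hf₀
  have hself : algebraMap ((g : s) → Localization.Away (g : A)) q'.asIdeal.ResidueField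
      (Pi.single f₀ 1) = 1 := by
    have h1 := congrArg (algebraMap ((g : s) → Localization.Away (g : A))
      q'.asIdeal.ResidueField) hsum
    rw [map_sum, map_one, Finset.sum_eq_single f₀ (fun g _ hg => hother g hg)
      (fun h => absurd (Finset.mem_univ _) h)] at h1
    exact h1
  have hterm : ∀ g : s, ((1 : q'.asIdeal.ResidueField) ⊗ₜ[(g : s) → Localization.Away (g : A)]
      ((Pi.single g 1 : (g : s) → Localization.Away (g : A)) ⊗ₜ[A] a g) :
        q'.asIdeal.ResidueField ⊗[(g : s) → Localization.Away (g : A)]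
          (((g : s) → Localization.Away (g : A)) ⊗[A] L)) =
      (algebraMap ((g : s) → Localization.Away (g : A)) q'.asIdeal.ResidueField
        (Pi.single g 1)) ⊗ₜ[(g : s) → Localization.Away (g : A)]
        ((1 : (g : s) → Localization.Away (g : A)) ⊗ₜ[A] a g) := by
    intro g
    have e1 : ((Pi.single g 1 : (g : s) → Localization.Away (g : A)) ⊗ₜ[A] a g :
        ((g : s) → Localization.Away (g : A)) ⊗[A] L) =
        (Pi.single g 1 : (g : s) → Localization.Away (g : A)) •
          ((1 : (g : s) → Localization.Away (g : A)) ⊗ₜ[A] a g) := by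
      rw [TensorProduct.smul_tmul', smul_eq_mul, mul_one]
    rw [e1, ← TensorProduct.smul_tmul, Algebra.smul_def, mul_one]
  have hel : ((1 : q'.asIdeal.ResidueField) ⊗ₜ[(g : s) → Localization.Away (g : A)]
      (∑ f : s, (Pi.single f 1 : (g : s) → Localization.Away (g : A)) ⊗ₜ[A] a f) :
        q'.asIdeal.ResidueField ⊗[(g : s) → Localization.Away (g : A)]
          (((g : s) → Localization.Away (g : A)) ⊗[A] L)) =
      (1 : q'.asIdeal.ResidueField) ⊗ₜ[(g : s) → Localization.Away (g : A)]
        ((1 : (g : s) → Localization.Away (g : A)) ⊗ₜ[A] a f₀) := by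
    rw [TensorProduct.tmul_sum, Finset.sum_eq_single f₀ (fun g _ hg => by
      rw [hterm g, hother g hg, TensorProduct.zero_tmul])
      (fun h => absurd (Finset.mem_univ _) h), hterm f₀, hself]
  rw [hel]
  apply isRegular_tmul_tmul ((g : s) → Localization.Away (g : A)) q' (a f₀)
  apply ha f₀ f₀.2
  intro hmem
  have hmem' : algebraMap A ((g : s) → Localization.Away (g : A)) (f₀ : A) ∈ q'.asIdeal := hmem
  apply hf₀
  have e2 : (Pi.single f₀ 1 : (g : s) → Localization.Away (g : A)) =
      algebraMap A ((g : s) → Localization.Away (g : A)) (f₀ : A) *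
        Pi.single f₀ (IsLocalization.Away.invSelf (S := Localization.Away (f₀ : A)) (f₀ : A)) := by
    funext k
    rw [Pi.mul_apply]
    by_cases hk : k = f₀
    · subst hk
      rw [Pi.single_eq_same, Pi.single_eq_same]
      exact (IsLocalization.Away.mul_invSelf (S := Localization.Away (k : A)) (k : A)).symm
    · rw [Pi.single_eq_of_ne hk, Pi.single_eq_of_ne hk, mul_zero]
  rw [e2]
  exact Ideal.mul_mem_right _ _ hmem'

theorem s8377 [Module.Projective A L]
    (hC2 : ((∀ p : PrimeSpectrum A, ∃ f : A, f ∉ p.asIdeal ∧ ∀ q : PrimeSpectrum A,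
        f ∉ q.asIdeal →
        LieAlgebra.rank q.asIdeal.ResidueField (q.asIdeal.ResidueField ⊗[A] L) =
          LieAlgebra.rank p.asIdeal.ResidueField (p.asIdeal.ResidueField ⊗[A] L)) ∧
      ∀ (A' : Type u) [CommRing A'] [Algebra A A'] (a' : A' ⊗[A] L),
        SGA3t2b.IsQuasiRegular A' (A' ⊗[A] L) a' → SGA3t2b.IsRegularRel A' (A' ⊗[A] L) a'))
    (hreg : ∀ p : PrimeSpectrum A, ∃ x : p.asIdeal.ResidueField ⊗[A] L,
      LieAlgebra.IsRegular p.asIdeal.ResidueField x) :
    ∃ (A' : Type u) (_ : CommRing A') (_ : Algebra A A'), Algebra.Etale A A' ∧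
      Module.FaithfullyFlat A A' ∧
        ∃ H : LieSubalgebra A' (A' ⊗[A] L), SGA3t2b.IsCartanRel H := by
  classical
  have hS : Ideal.span {f : A | ∃ a : L, ∀ q : PrimeSpectrum A, f ∉ q.asIdeal →
      LieAlgebra.IsRegular q.asIdeal.ResidueField ((1 : q.asIdeal.ResidueField) ⊗ₜ[A] a)} = ⊤ := by
    by_contra hne
    obtain ⟨m, hm, hle⟩ := Ideal.exists_le_maximal _ hne
    obtain ⟨f, hf, a, ha⟩ := exists_regular_section hC2.1 ⟨m, hm.isPrime⟩ (hreg _)
    exact hf (hle (Ideal.subset_span ⟨a, ha⟩))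
  obtain ⟨s, hsS, hs⟩ := (Ideal.span_eq_top_iff_finite _).mp hS
  choose! a ha using (fun (f : A) (hf : f ∈ {f : A | ∃ a : L, ∀ q : PrimeSpectrum A,
      f ∉ q.asIdeal → LieAlgebra.IsRegular q.asIdeal.ResidueField
        ((1 : q.asIdeal.ResidueField) ⊗ₜ[A] a)}) => hf)
  haveI := faithfullyFlat_pi s hs
  have hq := isQuasiRegular_sum s a (fun f hf => ha f (hsS hf))
  obtain ⟨_, H, hH, _⟩ := hC2.2 _ _ hq
  exact ⟨(f : s) → Localization.Away (f : A), inferInstance, inferInstance, inferInstance,
    inferInstance, H, hH⟩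

end Relative

end Groth.Agent.Helper3.CartEng
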