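import Mathlib
import Groth.Prelude.Def_W4sga3xiixivxvCartan
import Groth.Agent.Lib.Helper3.CartEng7

/-!
# Condition (C₀) implies (C₂) over a reduced base (helper3)

* `fitting_of_poly`: a polynomial identity `D^N Q(D) = 0` with `Q(0) = 1` for `D = ad a` yields the
  Fitting decomposition: `L / engel a` is projective and `L = engel a + [a, L]`.
* `exists_poly_of_local`: such an identity exists as soon as it exists "locally" (partition of unity on
  the constant coefficients).
* `mat0`: for a "dual basis system" `(λ_i, ℓ_i)` of a finite projective Lie algebra, the matrix of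
  `ι ∘ ad y ∘ ρ`; Cayley–Hamilton (`aeval_ad_eq_zero`), functoriality (`mat0_bc`, `mat0_one_tmul`),
  and its characteristic polynomial over a field (`charpoly_mat0`).
* `s8379`.
-/

open scoped TensorProduct
open Polynomial

namespace Groth.Agent.Helper3.CartEng

universe u

section Fitting

variable {R : Type*} [CommRing R] {M : Type*} [LieRing M] [LieAlgebra R M]

/-- Fitting decomposition from a polynomial identity `D^N Q(D) = 0` with `Q(0) = 1`. -/
theorem fitting_of_poly [Module.Projective R M] (a : M) (N : ℕ) (Q : R[X]) (hQ : Q.coeff 0 = 1)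
    (h : aeval (LieAlgebra.ad R M a : Module.End R M) (X ^ N * Q) = 0) :
    Module.Projective R (M ⧸ (LieSubalgebra.engel R a).toSubmodule) ∧
      ∀ y : M, ∃ h ∈ LieSubalgebra.engel R a, ∃ z : M, y = h + ⁅a, z⁆ := by
  obtain ⟨D, hD⟩ : ∃ D : Module.End R M, D = LieAlgebra.ad R M a := ⟨_, rfl⟩
  rw [← hD] at h
  have hDa : ∀ z : M, D z = ⁅a, z⁆ := fun z => by rw [hD, LieAlgebra.ad_apply]
  have hcop : IsCoprime (X ^ (N + 1) : R[X]) Q := by
    apply IsCoprime.pow_left
    refine ⟨-Q.divX, 1, ?_⟩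
    have := Q.divX_mul_X_add
    rw [hQ, map_one] at this
    linear_combination (-1 : R[X]) * this
  obtain ⟨α, β, hαβ⟩ := hcop
  obtain ⟨ρ, hρ⟩ : ∃ ρ : Module.End R M, ρ = aeval D (α * X ^ (N + 1)) := ⟨_, rfl⟩
  obtain ⟨π, hπ⟩ : ∃ π : Module.End R M, π = aeval D (β * Q) := ⟨_, rfl⟩
  obtain ⟨G, hG⟩ : ∃ G : Module.End R M, G = aeval D (α * X ^ N) := ⟨_, rfl⟩
  have h1 : ρ + π = 1 := by rw [hρ, hπ, ← map_add, hαβ, map_one]
  have hρG : ρ = G * D := by
    have : (α * X ^ (N + 1) : R[X]) = α * X ^ N * X := by ring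
    rw [hρ, hG, this, map_mul, aeval_X]
  have hρD : ρ = D * G := by
    have : (α * X ^ (N + 1) : R[X]) = X * (α * X ^ N) := by ring
    rw [hρ, hG, this, map_mul, aeval_X]
  have hDπ : D ^ (N + 1) * π = 0 := by
    have h3 : (X ^ (N + 1) * (β * Q) : R[X]) = (β * X) * (X ^ N * Q) := by ring
    have h2 : aeval D (X ^ (N + 1) * (β * Q)) = 0 := by rw [h3, map_mul, h, mul_zero]
    rw [map_mul, map_pow, aeval_X, ← hπ] at h2
    exact h2
  have hρπ : ρ * π = 0 := by
    have h3 : (α * X ^ (N + 1) * (β * Q) : R[X]) = (α * β * X) * (X ^ N * Q) := by ring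
    rw [hρ, hπ, ← map_mul, h3, map_mul, h, mul_zero]
  have hρρ : ρ * ρ = ρ := by
    calc ρ * ρ = ρ * ρ + ρ * π := by rw [hρπ, add_zero]
      _ = ρ * (ρ + π) := by rw [mul_add]
      _ = ρ := by rw [h1, mul_one]
  have hcomm : D * ρ = ρ * D := by
    calc D * ρ = D * (G * D) := by rw [← hρG]
      _ = (D * G) * D := (mul_assoc _ _ _).symm
      _ = ρ * D := by rw [← hρD]
  have hker : ∀ w : M, ρ w = w → D w = 0 → w = 0 := by
    intro w hw hDw
    rw [← hw, hρG, Module.End.mul_apply, hDw, map_zero]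
  have hengel : ∀ (k : ℕ) (y : M), (D ^ k) y = 0 → ρ y = 0 := by
    intro k
    induction k with
    | zero =>
      intro y hy
      rw [pow_zero, Module.End.one_apply] at hy
      rw [hy, map_zero]
    | succ k ih =>
      intro y hy
      rw [pow_succ, Module.End.mul_apply] at hy
      have h3 : ρ (D y) = 0 := ih (D y) hy
      apply hker (ρ y)
      · rw [← Module.End.mul_apply, hρρ]
      · have : D (ρ y) = ρ (D y) := by
          rw [← Module.End.mul_apply, hcomm, Module.End.mul_apply]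
        rw [this, h3]
  have hπmem : ∀ y : M, π y ∈ LieSubalgebra.engel R a := by
    intro y
    rw [LieSubalgebra.mem_engel_iff]
    refine ⟨N + 1, ?_⟩
    rw [← hD, ← Module.End.mul_apply, hDπ, LinearMap.zero_apply]
  have hsum : ∀ y : M, ρ y + π y = y := by
    intro y
    have := LinearMap.congr_fun h1 y
    rw [LinearMap.add_apply, Module.End.one_apply] at this
    exact this
  have heq : (LieSubalgebra.engel R a).toSubmodule = LinearMap.ker ρ := by
    ext y
    rw [LieSubalgebra.mem_toSubmodule, LinearMap.mem_ker]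
    constructor
    · intro hy
      rw [LieSubalgebra.mem_engel_iff, ← hD] at hy
      obtain ⟨k, hk⟩ := hy
      exact hengel k y hk
    · intro hy
      have h4 : y = π y := by
        have := hsum y
        rw [hy, zero_add] at this
        exact this.symm
      rw [h4]
      exact hπmem y
  refine ⟨?_, ?_⟩
  · have e1 := Submodule.quotEquivOfEq _ _ heq
    have e2 := LinearMap.quotKerEquivRange ρ
    haveI : Module.Projective R (LinearMap.range ρ) := by
      refine Module.Projective.of_split (LinearMap.range ρ).subtype ρ.rangeRestrict ?_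
      apply LinearMap.ext
      rintro ⟨w, w', rfl⟩
      apply Subtype.ext
      show ρ (ρ w') = ρ w'
      rw [← Module.End.mul_apply, hρρ]
    exact Module.Projective.of_equiv' (e1.trans e2).symm
  · intro y
    refine ⟨π y, hπmem y, G y, ?_⟩
    calc y = ρ y + π y := (hsum y).symm
      _ = π y + ρ y := add_comm _ _
      _ = π y + ⁅a, G y⁆ := by rw [hρD, Module.End.mul_apply, hDa]

/-- Partition of unity on constant coefficients of annihilating polynomials. -/
theorem exists_poly_of_local (D : Module.End R M)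
    (hloc : ∀ p : PrimeSpectrum R, ∃ (r : ℕ) (q : R[X]), q.coeff 0 ∉ p.asIdeal ∧
      aeval D (X ^ r * q) = 0) :
    ∃ (N : ℕ) (Q : R[X]), Q.coeff 0 = 1 ∧ aeval D (X ^ N * Q) = 0 := by
  let J : Ideal R :=
    { carrier := {s | ∃ (N : ℕ) (q : R[X]), q.coeff 0 = s ∧ aeval D (X ^ N * q) = 0}
      add_mem' := by
        rintro s t ⟨N1, q1, rfl, h1⟩ ⟨N2, q2, rfl, h2⟩
        refine ⟨N1 + N2, q1 + q2, coeff_add _ _ _, ?_⟩
        have h3 : (X ^ (N1 + N2) * (q1 + q2) : R[X]) =
            X ^ N2 * (X ^ N1 * q1) + X ^ N1 * (X ^ N2 * q2) := by ring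
        rw [h3, map_add, map_mul, h1, mul_zero, map_mul, h2, mul_zero, add_zero]
      zero_mem' := ⟨0, 0, coeff_zero 0, by rw [mul_zero, map_zero]⟩
      smul_mem' := by
        rintro c s ⟨N, q, rfl, h⟩
        refine ⟨N, C c * q, by rw [coeff_C_mul, smul_eq_mul], ?_⟩
        have h3 : (X ^ N * (C c * q) : R[X]) = C c * (X ^ N * q) := by ring
        rw [h3, map_mul, h, mul_zero] }
  have hJ : J = ⊤ := by
    by_contra hne
    obtain ⟨m, hm, hJm⟩ := Ideal.exists_le_maximal J hne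
    obtain ⟨r, q, hq, hq0⟩ := hloc ⟨m, hm.isPrime⟩
    exact hq (hJm ⟨r, q, rfl, hq0⟩)
  have h1 : (1 : R) ∈ J := by rw [hJ]; exact Submodule.mem_top
  obtain ⟨N, Q, hQ, hQ0⟩ := h1
  exact ⟨N, Q, hQ, hQ0⟩

end Fitting

section System

variable {R₀ : Type*} [CommRing R₀] {𝔏 : Type*} [LieRing 𝔏] [LieAlgebra R₀ 𝔏] {n : ℕ}
  (lam : Fin n → 𝔏 →ₗ[R₀] R₀) (ell : Fin n → 𝔏)

/-- The matrix of `ι ∘ ad y ∘ ρ` for a dual basis system `(lam, ell)`. -/
def mat0 (y : 𝔏) : Matrix (Fin n) (Fin n) R₀ := Matrix.of fun i j => lam i ⁅y, ell j⁆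

theorem mat0_apply (y : 𝔏) (i j : Fin n) : mat0 lam ell y i j = lam i ⁅y, ell j⁆ := rfl

/-- The surjection `R₀^n → 𝔏` attached to `ell`. -/
def rho : (Fin n → R₀) →ₗ[R₀] 𝔏 where
  toFun v := ∑ i, v i • ell i
  map_add' v w := by simp only [Pi.add_apply, add_smul, Finset.sum_add_distrib]
  map_smul' c v := by
    simp only [Pi.smul_apply, smul_eq_mul, mul_smul, Finset.smul_sum, RingHom.id_apply]

theorem rho_apply (v : Fin n → R₀) : rho ell v = ∑ i, v i • ell i := rfl

theorem mulVec_mat0 (y : 𝔏) (v : Fin n → R₀) (i : Fin n) :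
    (mat0 lam ell y).mulVec v i = lam i ⁅y, rho ell v⁆ := by
  rw [rho_apply, lie_sum, map_sum]
  simp only [Matrix.mulVec, dotProduct, mat0_apply, lie_smul, map_smul, smul_eq_mul]
  exact Finset.sum_congr rfl fun j _ => mul_comm _ _

variable {lam ell}

theorem rho_mulVec (hsys : ∀ y : 𝔏, ∑ i, lam i y • ell i = y) (y : 𝔏) (v : Fin n → R₀) :
    rho ell ((mat0 lam ell y).mulVec v) = ⁅y, rho ell v⁆ := by
  rw [rho_apply]
  simp only [mulVec_mat0]
  exact hsys _

theorem rho_pow_mulVec (hsys : ∀ y : 𝔏, ∑ i, lam i y • ell i = y) (y : 𝔏) (k : ℕ)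
    (v : Fin n → R₀) :
    rho ell (((mat0 lam ell y) ^ k).mulVec v) = ((LieAlgebra.ad R₀ 𝔏 y) ^ k) (rho ell v) := by
  induction k generalizing v with
  | zero => simp only [pow_zero, Matrix.one_mulVec, Module.End.one_apply]
  | succ k ih =>
    rw [pow_succ', ← Matrix.mulVec_mulVec, rho_mulVec hsys, ih, pow_succ', Module.End.mul_apply,
      LieAlgebra.ad_apply]

theorem rho_aeval_mulVec (hsys : ∀ y : 𝔏, ∑ i, lam i y • ell i = y) (y : 𝔏) (P : R₀[X])
    (v : Fin n → R₀) :
    rho ell ((aeval (mat0 lam ell y) P).mulVec v) =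
      (aeval (LieAlgebra.ad R₀ 𝔏 y : Module.End R₀ 𝔏) P) (rho ell v) := by
  induction P using Polynomial.induction_on' with
  | add p q hp hq =>
    rw [map_add, map_add, Matrix.add_mulVec, map_add, hp, hq, LinearMap.add_apply]
  | monomial k c =>
    rw [aeval_monomial, aeval_monomial, ← Algebra.smul_def, ← Algebra.smul_def,
      Matrix.smul_mulVec, map_smul, rho_pow_mulVec hsys, LinearMap.smul_apply]

theorem rho_surjective (hsys : ∀ y : 𝔏, ∑ i, lam i y • ell i = y) :
    Function.Surjective (rho (R₀ := R₀) ell) :=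
  fun y => ⟨fun i => lam i y, by rw [rho_apply]; exact hsys y⟩

/-- Cayley–Hamilton transfer: a polynomial annihilating the matrix annihilates `ad y`. -/
theorem aeval_ad_eq_zero (hsys : ∀ y : 𝔏, ∑ i, lam i y • ell i = y) (y : 𝔏) (P : R₀[X])
    (h : aeval (mat0 lam ell y) P = 0) :
    aeval (LieAlgebra.ad R₀ 𝔏 y : Module.End R₀ 𝔏) P = 0 := by
  apply LinearMap.ext
  intro w
  obtain ⟨v, rfl⟩ := rho_surjective hsys w
  rw [← rho_aeval_mulVec hsys, h, Matrix.zero_mulVec, map_zero, LinearMap.zero_apply]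

end System

section Field

variable {κ : Type*} [Field κ] {𝔏 : Type*} [LieRing 𝔏] [LieAlgebra κ 𝔏] [Module.Finite κ 𝔏]
  {n : ℕ} {lam : Fin n → 𝔏 →ₗ[κ] κ} {ell : Fin n → 𝔏}

theorem charpoly_mat0 (hsys : ∀ y : 𝔏, ∑ i, lam i y • ell i = y) (y : 𝔏) :
    Module.finrank κ 𝔏 ≤ n ∧
    (mat0 lam ell y).charpoly =
      (LieAlgebra.ad κ 𝔏 y : Module.End κ 𝔏).charpoly * X ^ (n - Module.finrank κ 𝔏) := by
  classical
  let iota : 𝔏 →ₗ[κ] (Fin n → κ) := LinearMap.pi lam
  have hiota : ∀ w i, iota w i = lam i w := fun w i => rfl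
  have hρι : ∀ w, rho ell (iota w) = w := fun w => by
    rw [rho_apply]
    simp only [hiota]
    exact hsys w
  have hsurj := rho_surjective hsys
  have hfin : Module.finrank κ 𝔏 + Module.finrank κ (LinearMap.ker (rho (R₀ := κ) ell)) = n := by
    have := LinearMap.finrank_range_add_finrank_ker (rho (R₀ := κ) ell)
    rw [LinearMap.range_eq_top.mpr hsurj, finrank_top, Module.finrank_fin_fun] at this
    exact this
  have hM : ∀ v, (mat0 lam ell y).toLin' v = iota ⁅y, rho ell v⁆ := by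
    intro v
    rw [Matrix.toLin'_apply]
    funext i
    rw [mulVec_mat0, hiota]
  have hK : ∀ v, ((LinearMap.id : (Fin n → κ) →ₗ[κ] (Fin n → κ)) - iota ∘ₗ rho ell) v ∈
      LinearMap.ker (rho (R₀ := κ) ell) := by
    intro v
    rw [LinearMap.mem_ker, LinearMap.sub_apply, LinearMap.id_apply, LinearMap.comp_apply, map_sub,
      hρι, sub_self]
  let f : (Fin n → κ) →ₗ[κ] 𝔏 × LinearMap.ker (rho (R₀ := κ) ell) :=
    (rho ell).prod
      (((LinearMap.id : (Fin n → κ) →ₗ[κ] (Fin n → κ)) - iota ∘ₗ rho ell).codRestrict _ hK)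
  let g : 𝔏 × LinearMap.ker (rho (R₀ := κ) ell) →ₗ[κ] (Fin n → κ) :=
    iota.coprod (LinearMap.ker (rho (R₀ := κ) ell)).subtype
  have hf : ∀ v, f v = (rho ell v, ⟨v - iota (rho ell v), hK v⟩) := fun v => rfl
  have hg : ∀ w k, g (w, k) = iota w + (k : Fin n → κ) := fun w k => by
    simp only [g, LinearMap.coprod_apply, Submodule.subtype_apply]
  have hfg : f.comp g = LinearMap.id := by
    apply LinearMap.ext
    rintro ⟨w, k⟩
    rw [LinearMap.comp_apply, hg, hf, LinearMap.id_apply]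
    have hk : rho ell (k : Fin n → κ) = 0 := LinearMap.mem_ker.mp k.2
    have h1 : rho ell (iota w + (k : Fin n → κ)) = w := by rw [map_add, hρι, hk, add_zero]
    refine Prod.ext h1 (Subtype.ext ?_)
    show iota w + (k : Fin n → κ) - iota (rho ell (iota w + (k : Fin n → κ))) = k
    rw [h1, add_sub_cancel_left]
  have hgf : g.comp f = LinearMap.id := by
    apply LinearMap.ext
    intro v
    rw [LinearMap.comp_apply, hf, hg, LinearMap.id_apply]
    show iota (rho ell v) + (v - iota (rho ell v)) = v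
    rw [add_sub_cancel]
  let Φ : (Fin n → κ) ≃ₗ[κ] 𝔏 × LinearMap.ker (rho (R₀ := κ) ell) :=
    LinearEquiv.ofLinearMap f g hfg hgf
  have hΦ : ∀ v, Φ v = f v := fun v => rfl
  have hΦs : ∀ x, Φ.symm x = g x := fun x => rfl
  have hconj : Φ.conj (mat0 lam ell y).toLin' =
      (LieAlgebra.ad κ 𝔏 y : Module.End κ 𝔏).prodMap
        (0 : Module.End κ (LinearMap.ker (rho (R₀ := κ) ell))) := by
    apply LinearMap.ext
    rintro ⟨w, k⟩
    rw [LinearEquiv.conj_apply_apply, hΦs, hg, hM, hΦ, hf]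
    have hk : rho ell (k : Fin n → κ) = 0 := LinearMap.mem_ker.mp k.2
    have h1 : rho ell (iota w + (k : Fin n → κ)) = w := by rw [map_add, hρι, hk, add_zero]
    rw [h1]
    refine Prod.ext ?_ (Subtype.ext ?_)
    · show rho ell (iota ⁅y, w⁆) = _
      rw [hρι]
      rfl
    · show iota ⁅y, w⁆ - iota (rho ell (iota ⁅y, w⁆)) = _
      rw [hρι, sub_self]
      rfl
  refine ⟨by omega, ?_⟩
  calc (mat0 lam ell y).charpoly = ((mat0 lam ell y).toLin').charpoly :=
        (Matrix.charpoly_toLin' _).symm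
    _ = (Φ.conj (mat0 lam ell y).toLin').charpoly := (LinearEquiv.charpoly_conj Φ _).symm
    _ = (LieAlgebra.ad κ 𝔏 y : Module.End κ 𝔏).charpoly *
          (0 : Module.End κ (LinearMap.ker (rho (R₀ := κ) ell))).charpoly := by
        rw [hconj, LinearMap.charpoly_prodMap]
    _ = (LieAlgebra.ad κ 𝔏 y : Module.End κ 𝔏).charpoly * X ^ (n - Module.finrank κ 𝔏) := by
        rw [LinearMap.charpoly_zero]
        congr 2
        omega

theorem coeff_charpoly_mat0_eq_zero (hsys : ∀ y : 𝔏, ∑ i, lam i y • ell i = y) (y : 𝔏) {i : ℕ}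
    (hi : i < (n - Module.finrank κ 𝔏) + LieAlgebra.rank κ 𝔏) :
    (mat0 lam ell y).charpoly.coeff i = 0 := by
  rw [(charpoly_mat0 hsys y).2, mul_comm, coeff_X_pow_mul']
  split_ifs with h
  · apply coeff_eq_zero_of_lt_natTrailingDegree
    have := LieAlgebra.rank_le_natTrailingDegree_charpoly_ad κ y
    omega
  · rfl

theorem coeff_charpoly_mat0_ne_zero (hsys : ∀ y : 𝔏, ∑ i, lam i y • ell i = y) (y : 𝔏)
    (hy : LieAlgebra.IsRegular κ y) :
    (mat0 lam ell y).charpoly.coeff ((n - Module.finrank κ 𝔏) + LieAlgebra.rank κ 𝔏) ≠ 0 := by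
  rw [(charpoly_mat0 hsys y).2, mul_comm, coeff_X_pow_mul', if_pos (Nat.le_add_right _ _),
    Nat.add_sub_cancel_left]
  exact hy

end Field

section Induced

variable {R₀ : Type*} [CommRing R₀] {𝔏 : Type*} [LieRing 𝔏] [LieAlgebra R₀ 𝔏] {n : ℕ}
  (lam : Fin n → 𝔏 →ₗ[R₀] R₀) (ell : Fin n → 𝔏) (R : Type*) [CommRing R] [Algebra R₀ R]

/-- The induced linear forms on `R ⊗ 𝔏`. -/
noncomputable def lamR (i : Fin n) : R ⊗[R₀] 𝔏 →ₗ[R] R :=
  LinearMap.liftBaseChange R ((Algebra.linearMap R₀ R) ∘ₗ lam i)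

/-- The induced elements of `R ⊗ 𝔏`. -/
def ellR (i : Fin n) : R ⊗[R₀] 𝔏 := (1 : R) ⊗ₜ[R₀] ell i

theorem lamR_tmul (i : Fin n) (r : R) (l : 𝔏) :
    lamR lam R i (r ⊗ₜ[R₀] l) = r * algebraMap R₀ R (lam i l) := by
  rw [lamR, LinearMap.liftBaseChange_tmul, LinearMap.comp_apply, Algebra.linearMap_apply,
    smul_eq_mul]

variable {lam ell}

theorem sum_lamR (hsys : ∀ y : 𝔏, ∑ i, lam i y • ell i = y) (w : R ⊗[R₀] 𝔏) :
    ∑ i, lamR lam R i w • ellR ell R i = w := by
  induction w using TensorProduct.induction_on with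
  | zero => simp only [map_zero, zero_smul, Finset.sum_const_zero]
  | tmul r l =>
    have : ∀ i, lamR lam R i (r ⊗ₜ[R₀] l) • ellR ell R i = r ⊗ₜ[R₀] (lam i l • ell i) := by
      intro i
      rw [lamR_tmul, ellR, TensorProduct.smul_tmul', smul_eq_mul, mul_one, TensorProduct.tmul_smul,
        TensorProduct.smul_tmul', Algebra.smul_def, mul_comm]
    simp only [this]
    rw [← TensorProduct.tmul_sum, hsys]
  | add x y hx hy =>
    simp only [map_add, add_smul, Finset.sum_add_distrib, hx, hy]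

theorem mat0_one_tmul (y : 𝔏) :
    mat0 (lamR lam R) (ellR ell R) ((1 : R) ⊗ₜ[R₀] y) =
      (mat0 lam ell y).map (algebraMap R₀ R) := by
  ext i j
  rw [mat0_apply, Matrix.map_apply, mat0_apply, ellR, LieAlgebra.ExtendScalars.bracket_tmul,
    lamR_tmul, mul_one, one_mul]

variable {R} {R' : Type*} [CommRing R'] [Algebra R₀ R'] (ψ : R →ₐ[R₀] R')

/-- Base change of elements along an algebra map. -/
noncomputable def bc : R ⊗[R₀] 𝔏 →ₗ[R₀] R' ⊗[R₀] 𝔏 := LinearMap.rTensor 𝔏 ψ.toLinearMap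

theorem bc_tmul (r : R) (l : 𝔏) : bc (𝔏 := 𝔏) ψ (r ⊗ₜ[R₀] l) = ψ r ⊗ₜ[R₀] l := rfl

theorem bc_lie (x y : R ⊗[R₀] 𝔏) : bc (𝔏 := 𝔏) ψ ⁅x, y⁆ = ⁅bc ψ x, bc ψ y⁆ := by
  induction x using TensorProduct.induction_on with
  | zero => rw [zero_lie, map_zero, zero_lie]
  | add x1 x2 h1 h2 => rw [add_lie, map_add, map_add, h1, h2, add_lie]
  | tmul r1 l1 =>
    induction y using TensorProduct.induction_on with
    | zero => rw [lie_zero, map_zero, lie_zero]
    | add y1 y2 h1 h2 => rw [lie_add, map_add, map_add, h1, h2, lie_add]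
    | tmul r2 l2 =>
      rw [LieAlgebra.ExtendScalars.bracket_tmul, bc_tmul, bc_tmul, bc_tmul,
        LieAlgebra.ExtendScalars.bracket_tmul, map_mul]

theorem lamR_bc (i : Fin n) (w : R ⊗[R₀] 𝔏) :
    lamR lam R' i (bc ψ w) = ψ (lamR lam R i w) := by
  induction w using TensorProduct.induction_on with
  | zero => simp only [map_zero]
  | tmul r l => rw [bc_tmul, lamR_tmul, lamR_tmul, map_mul, AlgHom.commutes]
  | add x y hx hy => simp only [map_add, hx, hy]

theorem mat0_bc (w : R ⊗[R₀] 𝔏) :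
    mat0 (lamR lam R') (ellR ell R') (bc ψ w) =
      (mat0 (lamR lam R) (ellR ell R) w).map (ψ : R →+* R') := by
  ext i j
  rw [mat0_apply, Matrix.map_apply, mat0_apply]
  show _ = ψ _
  rw [← lamR_bc, bc_lie]
  congr 2
  rw [ellR, ellR, bc_tmul, map_one]

end Induced

section Main

variable {A : Type u} [CommRing A] {L : Type u} [LieRing L] [LieAlgebra A L] [Module.Finite A L]
  [Module.Projective A L]

theorem exists_system : ∃ (n : ℕ) (lam : Fin n → L →ₗ[A] A) (ell : Fin n → L),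
    ∀ y : L, ∑ i, lam i y • ell i = y := by
  obtain ⟨n, f, hf⟩ := Module.Finite.exists_fin' A L
  obtain ⟨s, hs⟩ := Module.projective_lifting_property f LinearMap.id hf
  refine ⟨n, fun i => (LinearMap.proj i : (Fin n → A) →ₗ[A] A) ∘ₗ s,
    fun i => f (fun j => if i = j then 1 else 0), fun y => ?_⟩
  have h1 := LinearMap.pi_apply_eq_sum_univ f (s y)
  have h2 : f (s y) = y := LinearMap.congr_fun hs y
  rw [h2] at h1
  exact h1.symm

theorem finrank_fibre_tmul (B : Type u) [CommRing B] [Algebra A B] (P' : PrimeSpectrum B) :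
    Module.finrank P'.asIdeal.ResidueField (P'.asIdeal.ResidueField ⊗[B] (B ⊗[A] L)) =
      Module.rankAtStalk L (PrimeSpectrum.comap (algebraMap A B) P') := by
  rw [← Module.rankAtStalk_baseChange (S := B) P']
  exact (Module.rankAtStalk_eq P').symm

/-- Vanishing of the low coefficients of the charpoly over a reduced base. -/
theorem coeff_universal_eq_zero {n : ℕ} {lam : Fin n → L →ₗ[A] A} {ell : Fin n → L}
    (hsys : ∀ y : L, ∑ i, lam i y • ell i = y) (B : Type u) [CommRing B] [Algebra A B]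
    [IsReduced B] (u : B ⊗[A] L) (f : A) (l₀ r₀ : ℕ)
    (hl : ∀ q : PrimeSpectrum A, f ∉ q.asIdeal → Module.rankAtStalk L q = l₀)
    (hr : ∀ q : PrimeSpectrum A, f ∉ q.asIdeal →
      LieAlgebra.rank q.asIdeal.ResidueField (q.asIdeal.ResidueField ⊗[A] L) = r₀)
    {i : ℕ} (hi : i < (n - l₀) + r₀) :
    algebraMap A B f * (mat0 (lamR lam B) (ellR ell B) u).charpoly.coeff i = 0 := by
  apply IsNilpotent.eq_zero
  rw [nilpotent_iff_mem_prime]
  intro P hP
  by_cases hfP : algebraMap A B f ∈ P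
  · exact P.mul_mem_right _ hfP
  · apply P.mul_mem_left
    have hq : f ∉ (PrimeSpectrum.comap (algebraMap A B) ⟨P, hP⟩).asIdeal := hfP
    have hsysB := sum_lamR B hsys
    have hsysκ := sum_lamR (⟨P, hP⟩ : PrimeSpectrum B).asIdeal.ResidueField hsysB
    have e0 := mat0_one_tmul (lam := lamR lam B) (ell := ellR ell B)
      (⟨P, hP⟩ : PrimeSpectrum B).asIdeal.ResidueField u
    have hz := coeff_charpoly_mat0_eq_zero hsysκ
      ((1 : (⟨P, hP⟩ : PrimeSpectrum B).asIdeal.ResidueField) ⊗ₜ[B] u) (i := i) (by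
        rw [finrank_fibre_tmul B ⟨P, hP⟩, rank_tmul_tmul B ⟨P, hP⟩, hl _ hq, hr _ hq]
        exact hi)
    rw [e0, Matrix.charpoly_map, coeff_map] at hz
    exact Ideal.algebraMap_residueField_eq_zero.mp hz

theorem coeff_notMem_of_isRegular {n : ℕ} {lam : Fin n → L →ₗ[A] A} {ell : Fin n → L}
    (hsys : ∀ y : L, ∑ i, lam i y • ell i = y) (B : Type u) [CommRing B] [Algebra A B]
    (u : B ⊗[A] L) (P' : PrimeSpectrum B)
    (hreg : LieAlgebra.IsRegular P'.asIdeal.ResidueField
      ((1 : P'.asIdeal.ResidueField) ⊗ₜ[B] u)) :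
    (mat0 (lamR lam B) (ellR ell B) u).charpoly.coeff
      ((n - Module.rankAtStalk L (PrimeSpectrum.comap (algebraMap A B) P')) +
        LieAlgebra.rank (PrimeSpectrum.comap (algebraMap A B) P').asIdeal.ResidueField
          ((PrimeSpectrum.comap (algebraMap A B) P').asIdeal.ResidueField ⊗[A] L)) ∉
      P'.asIdeal := by
  intro hmem
  have hsysB := sum_lamR B hsys
  have hsysκ := sum_lamR P'.asIdeal.ResidueField hsysB
  have e0 := mat0_one_tmul (lam := lamR lam B) (ell := ellR ell B) P'.asIdeal.ResidueField u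
  have hne := coeff_charpoly_mat0_ne_zero hsysκ ((1 : P'.asIdeal.ResidueField) ⊗ₜ[B] u) hreg
  rw [finrank_fibre_tmul B P', rank_tmul_tmul B P', e0, Matrix.charpoly_map, coeff_map] at hne
  exact hne (Ideal.algebraMap_residueField_eq_zero.mpr hmem)

theorem exists_local_poly [IsReduced A]
    (hC0 : ∀ p : PrimeSpectrum A, ∃ f : A, f ∉ p.asIdeal ∧ ∀ q : PrimeSpectrum A, f ∉ q.asIdeal →
        LieAlgebra.rank q.asIdeal.ResidueField (q.asIdeal.ResidueField ⊗[A] L) =
          LieAlgebra.rank p.asIdeal.ResidueField (p.asIdeal.ResidueField ⊗[A] L))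
    (A' : Type u) [CommRing A'] [Algebra A A'] (a' : A' ⊗[A] L)
    (ha' : SGA3t2b.IsQuasiRegular A' (A' ⊗[A] L) a') (p' : PrimeSpectrum A') :
    ∃ (r : ℕ) (q : A'[X]), q.coeff 0 ∉ p'.asIdeal ∧
      aeval (LieAlgebra.ad A' (A' ⊗[A] L) a' : Module.End A' (A' ⊗[A] L)) (X ^ r * q) = 0 := by
  classical
  obtain ⟨n, lam, ell, hsys⟩ := exists_system (A := A) (L := L)
  obtain ⟨f0, hf0, hr⟩ := hC0 (PrimeSpectrum.comap (algebraMap A A') p')
  haveI : Module.FinitePresentation A L := Module.finitePresentation_of_projective A L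
  have hlc := Module.isLocallyConstant_rankAtStalk (R := A) (M := L)
  obtain ⟨_, ⟨f1, rfl⟩, hpf1, hf1sub⟩ :=
    PrimeSpectrum.isTopologicalBasis_basic_opens.exists_subset_of_mem_open
      (a := PrimeSpectrum.comap (algebraMap A A') p')
      (u := (Module.rankAtStalk L) ⁻¹'
        {Module.rankAtStalk L (PrimeSpectrum.comap (algebraMap A A') p')}) rfl
      (hlc.isOpen_fiber _)
  have hl : ∀ q : PrimeSpectrum A, f0 * f1 ∉ q.asIdeal → Module.rankAtStalk L q =
      Module.rankAtStalk L (PrimeSpectrum.comap (algebraMap A A') p') := by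
    intro q hq
    have hq1 : f1 ∉ q.asIdeal := fun h => hq (Ideal.mul_mem_left _ _ h)
    exact hf1sub hq1
  have hr' : ∀ q : PrimeSpectrum A, f0 * f1 ∉ q.asIdeal →
      LieAlgebra.rank q.asIdeal.ResidueField (q.asIdeal.ResidueField ⊗[A] L) =
        LieAlgebra.rank (PrimeSpectrum.comap (algebraMap A A') p').asIdeal.ResidueField
          ((PrimeSpectrum.comap (algebraMap A A') p').asIdeal.ResidueField ⊗[A] L) := by
    intro q hq
    exact hr q (fun h => hq (Ideal.mul_mem_right _ _ h))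
  have hsysA' := sum_lamR A' hsys
  obtain ⟨φ, hφ⟩ : ∃ φ : MvPolynomial (Fin n) A →ₐ[A] A',
      φ = MvPolynomial.aeval (fun k => lamR lam A' k a') := ⟨_, rfl⟩
  obtain ⟨u, hu⟩ : ∃ u : MvPolynomial (Fin n) A ⊗[A] L,
      u = ∑ k, (MvPolynomial.X k : MvPolynomial (Fin n) A) ⊗ₜ[A] ell k := ⟨_, rfl⟩
  have hφu : bc φ u = a' := by
    have h2 : ∀ k, (lamR lam A' k a') ⊗ₜ[A] ell k = lamR lam A' k a' • ellR ell A' k := fun k => by
      rw [ellR, TensorProduct.smul_tmul', smul_eq_mul, mul_one]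
    calc bc φ u = ∑ k, bc φ ((MvPolynomial.X k : MvPolynomial (Fin n) A) ⊗ₜ[A] ell k) := by
          rw [hu, map_sum]
      _ = ∑ k, (lamR lam A' k a') ⊗ₜ[A] ell k := by
          refine Finset.sum_congr rfl (fun k _ => ?_)
          rw [bc_tmul, hφ, MvPolynomial.aeval_X]
      _ = ∑ k, lamR lam A' k a' • ellR ell A' k := Finset.sum_congr rfl (fun k _ => h2 k)
      _ = a' := hsysA' a'
  have hχ : (mat0 (lamR lam A') (ellR ell A') a').charpoly =
      ((mat0 (lamR lam (MvPolynomial (Fin n) A)) (ellR ell (MvPolynomial (Fin n) A)) u).charpoly).map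
        (φ : MvPolynomial (Fin n) A →+* A') := by
    have := mat0_bc (lam := lam) (ell := ell) φ u
    rw [hφu] at this
    rw [this, Matrix.charpoly_map]
  have hvan : ∀ i < (n - Module.rankAtStalk L (PrimeSpectrum.comap (algebraMap A A') p')) +
      LieAlgebra.rank (PrimeSpectrum.comap (algebraMap A A') p').asIdeal.ResidueField
          ((PrimeSpectrum.comap (algebraMap A A') p').asIdeal.ResidueField ⊗[A] L),
      algebraMap A A' (f0 * f1) * (mat0 (lamR lam A') (ellR ell A') a').charpoly.coeff i = 0 := by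
    intro i hi
    have h1 := coeff_universal_eq_zero hsys (MvPolynomial (Fin n) A) u (f0 * f1) _ _ hl hr' hi
    have h2 := congrArg φ h1
    rw [map_mul, map_zero, AlgHom.commutes] at h2
    rw [hχ, coeff_map]
    exact h2
  have hne := coeff_notMem_of_isRegular hsys A' a' p' (ha' p')
  have hg' : algebraMap A A' (f0 * f1) ∉ p'.asIdeal := by
    intro h
    have h3 : f0 * f1 ∈ (PrimeSpectrum.comap (algebraMap A A') p').asIdeal := h
    rcases (PrimeSpectrum.comap (algebraMap A A') p').isPrime.mem_or_mem h3 with h4 | h4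
    · exact hf0 h4
    · exact hpf1 h4
  have hdvd : X ^ ((n - Module.rankAtStalk L (PrimeSpectrum.comap (algebraMap A A') p')) +
      LieAlgebra.rank (PrimeSpectrum.comap (algebraMap A A') p').asIdeal.ResidueField
          ((PrimeSpectrum.comap (algebraMap A A') p').asIdeal.ResidueField ⊗[A] L)) ∣
      C (algebraMap A A' (f0 * f1)) * (mat0 (lamR lam A') (ellR ell A') a').charpoly := by
    rw [X_pow_dvd_iff]
    intro d hd
    rw [coeff_C_mul]
    exact hvan d hd
  obtain ⟨q, hq⟩ := hdvd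
  refine ⟨(n - Module.rankAtStalk L (PrimeSpectrum.comap (algebraMap A A') p')) +
      LieAlgebra.rank (PrimeSpectrum.comap (algebraMap A A') p').asIdeal.ResidueField
          ((PrimeSpectrum.comap (algebraMap A A') p').asIdeal.ResidueField ⊗[A] L), q, ?_, ?_⟩
  · have h3 := coeff_X_pow_mul q ((n - Module.rankAtStalk L
      (PrimeSpectrum.comap (algebraMap A A') p')) +
      LieAlgebra.rank (PrimeSpectrum.comap (algebraMap A A') p').asIdeal.ResidueField
          ((PrimeSpectrum.comap (algebraMap A A') p').asIdeal.ResidueField ⊗[A] L)) 0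
    rw [zero_add, ← hq, coeff_C_mul] at h3
    rw [← h3]
    intro h
    rcases p'.isPrime.mem_or_mem h with h4 | h4
    · exact hg' h4
    · exact hne h4
  · have hCH := aeval_ad_eq_zero hsysA' a' _
      (Matrix.aeval_self_charpoly (mat0 (lamR lam A') (ellR ell A') a'))
    rw [← hq, map_mul, hCH, mul_zero]

/-- **S8379**: over a reduced base with locally constant nilpotent rank, quasi-regular sections of
every base change are regular. -/
theorem s8379 [IsReduced A]
    (hC0 : ∀ p : PrimeSpectrum A, ∃ f : A, f ∉ p.asIdeal ∧ ∀ q : PrimeSpectrum A, f ∉ q.asIdeal →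
        LieAlgebra.rank q.asIdeal.ResidueField (q.asIdeal.ResidueField ⊗[A] L) =
          LieAlgebra.rank p.asIdeal.ResidueField (p.asIdeal.ResidueField ⊗[A] L))
    (A' : Type u) [CommRing A'] [Algebra A A'] (a' : A' ⊗[A] L)
    (ha' : SGA3t2b.IsQuasiRegular A' (A' ⊗[A] L) a') :
    SGA3t2b.IsRegularRel A' (A' ⊗[A] L) a' := by
  obtain ⟨N, Q, hQ, hNQ⟩ := exists_poly_of_local
    (LieAlgebra.ad A' (A' ⊗[A] L) a' : Module.End A' (A' ⊗[A] L))
    (fun p' => exists_local_poly hC0 A' a' ha' p')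
  obtain ⟨hproj, hsurj⟩ := fitting_of_poly a' N Q hQ hNQ
  exact ⟨ha', LieSubalgebra.engel A' a', isCartanRel_engel a' ha' hproj hsurj,
    LieSubalgebra.self_mem_engel A' a'⟩

end Main

end Groth.Agent.Helper3.CartEng
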