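import Mathlib

/-! Flatness over `κ[X]`-like quotients from torsion-freeness (helper3). -/

set_option autoImplicit false
set_option backward.isDefEq.respectTransparency.types false
set_option synthInstance.maxHeartbeats 400000
universe u
namespace Groth.Agent.Helper3.FibReg

open TensorProduct Polynomial

section Decomp

variable {L : Type u} [CommRing L] [IsLocalRing L]

/-- a polynomial with a coefficient outside the maximal ideal is `X^n * h` modulo `𝔪[X]` with
`h(0)` a unit -/
theorem exists_eq_X_pow_mul_add (n : ℕ) : ∀ (r : L[X]),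
    (∀ k < n, r.coeff k ∈ IsLocalRing.maximalIdeal L) → r.coeff n ∉ IsLocalRing.maximalIdeal L →
    ∃ (h j : L[X]), IsUnit (h.coeff 0) ∧ j ∈ (IsLocalRing.maximalIdeal L).map (C : L →+* L[X]) ∧
      r = X ^ n * h + j := by
  induction n with
  | zero =>
    intro r _ h0
    exact ⟨r, 0, IsLocalRing.notMem_maximalIdeal.mp h0, Ideal.zero_mem _, by simp⟩
  | succ n ih =>
    intro r hlt hn
    obtain ⟨h, j, hu, hj, hr⟩ := ih (divX r)
      (fun k hk => by rw [coeff_divX]; exact hlt (k + 1) (by omega))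
      (by rw [coeff_divX]; exact hn)
    refine ⟨h, X * j + C (r.coeff 0), hu, ?_, ?_⟩
    · exact Ideal.add_mem _ (Ideal.mul_mem_left _ _ hj)
        (Ideal.mem_map_of_mem _ (hlt 0 (by omega)))
    · conv_lhs => rw [← divX_mul_X_add r, hr]
      ring

theorem exists_eq_X_pow_mul_add_of_notMem (r : L[X])
    (hr : r ∉ (IsLocalRing.maximalIdeal L).map (C : L →+* L[X])) :
    ∃ (n : ℕ) (h j : L[X]), IsUnit (h.coeff 0) ∧
      j ∈ (IsLocalRing.maximalIdeal L).map (C : L →+* L[X]) ∧ r = X ^ n * h + j := by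
  classical
  rw [Ideal.mem_map_C_iff] at hr
  push Not at hr
  have hex : ∃ k, r.coeff k ∉ IsLocalRing.maximalIdeal L := hr
  refine ⟨Nat.find hex, ?_⟩
  exact exists_eq_X_pow_mul_add (Nat.find hex) r
    (fun k hk => by_contra fun h => Nat.find_min hex hk h) (Nat.find_spec hex)

end Decomp

section Flat

variable {L : Type u} [CommRing L] [IsLocalRing L]

set_option maxHeartbeats 1000000 in
/-- flatness of the fibre module over `L[X]/𝔪[X] = κ[X]` from regularity of `X` and of the
polynomials with unit constant term -/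
theorem flat_quot_of_regular (J : Ideal L[X])
    (hJ : J = (IsLocalRing.maximalIdeal L).map (C : L →+* L[X]))
    (N : Type u) [AddCommGroup N] [Module L[X] N]
    (hX : ∀ n : N, (X : L[X]) • n ∈ J • (⊤ : Submodule L[X] N) →
      n ∈ J • (⊤ : Submodule L[X] N))
    (hU : ∀ h : L[X], IsUnit (h.coeff 0) → ∃ g : N →ₗ[L[X]] N, ∀ n, g (h • n) = n) :
    Module.Flat (L[X] ⧸ J) ((L[X] ⧸ J) ⊗[L[X]] N) := by
  subst hJ
  set m := IsLocalRing.maximalIdeal L with hm
  set J := m.map (C : L →+* L[X]) with hJdef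
  letI : Field (L ⧸ m) := Ideal.Quotient.field m
  let e : (L ⧸ m)[X] ≃+* L[X] ⧸ J := Ideal.polynomialQuotientEquivQuotientPolynomial m
  haveI : J.IsPrime := Ideal.isPrime_map_C_of_isPrime
  haveI : IsPrincipalIdealRing (L[X] ⧸ J) :=
    IsPrincipalIdealRing.of_surjective e.toRingHom e.surjective
  rw [Module.Flat.flat_iff_torsion_eq_bot_of_isBezout, eq_bot_iff]
  -- `X` is regular on the fibre module
  have hXreg : ∀ y : (L[X] ⧸ J) ⊗[L[X]] N, (X : L[X]) • y = 0 → y = 0 := by
    intro y hy
    let eq := TensorProduct.quotTensorEquivQuotSMul N J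
    apply eq.injective
    rw [map_zero]
    obtain ⟨n, hn⟩ := Submodule.mkQ_surjective _ (eq y)
    have h1 : (J • (⊤ : Submodule L[X] N)).mkQ ((X : L[X]) • n) = 0 := by
      rw [map_smul, hn, ← map_smul, hy, map_zero]
    rw [← hn]
    rw [Submodule.mkQ_apply, Submodule.Quotient.mk_eq_zero] at h1 ⊢
    exact hX n h1
  have hXpow : ∀ (k : ℕ) (y : (L[X] ⧸ J) ⊗[L[X]] N), (X ^ k : L[X]) • y = 0 → y = 0 := by
    intro k
    induction k with
    | zero => intro y hy; simpa using hy
    | succ k ih =>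
      intro y hy
      apply ih
      apply hXreg
      rw [smul_smul, ← pow_succ']
      exact hy
  -- unit constant term
  have hUreg : ∀ h : L[X], IsUnit (h.coeff 0) → ∀ y : (L[X] ⧸ J) ⊗[L[X]] N, h • y = 0 → y = 0 := by
    intro h hh y hy
    obtain ⟨g, hg⟩ := hU h hh
    have key : ∀ y : (L[X] ⧸ J) ⊗[L[X]] N, g.lTensor (L[X] ⧸ J) (h • y) = y := by
      intro y
      induction y using TensorProduct.induction_on with
      | zero => simp
      | tmul c n => rw [← TensorProduct.tmul_smul, LinearMap.lTensor_tmul, hg]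
      | add y₁ y₂ h₁ h₂ => rw [smul_add, map_add, h₁, h₂]
    rw [← key y, hy, map_zero]
  intro y hy
  rw [Submodule.mem_torsion_iff] at hy
  obtain ⟨⟨rb, hrb⟩, hry⟩ := hy
  rw [Submodule.mem_bot]
  obtain ⟨r, rfl⟩ := Ideal.Quotient.mk_surjective rb
  have hrJ : r ∉ J := by
    intro hr
    have : Ideal.Quotient.mk J r = 0 := Ideal.Quotient.eq_zero_iff_mem.mpr hr
    exact nonZeroDivisors.ne_zero hrb this
  obtain ⟨n, h, j, hu, hj, hr⟩ := exists_eq_X_pow_mul_add_of_notMem r hrJ
  have h1 : (Ideal.Quotient.mk J r) • y = r • y := by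
    rw [← IsScalarTower.algebraMap_smul (L[X] ⧸ J) r y]
    rfl
  have hj0 : j • y = 0 := by
    rw [← IsScalarTower.algebraMap_smul (L[X] ⧸ J) j y]
    have : algebraMap L[X] (L[X] ⧸ J) j = 0 := Ideal.Quotient.eq_zero_iff_mem.mpr hj
    rw [this]
    exact zero_smul (L[X] ⧸ J) y
  have h2 : (X ^ n : L[X]) • (h • y) = 0 := by
    have : r • y = 0 := by rw [← h1]; exact hry
    rw [hr, add_smul, hj0, add_zero, mul_smul] at this
    exact this
  exact hUreg h hu y (hXpow n _ h2)

end Flat

end Groth.Agent.Helper3.FibReg
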