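import Mathlib
import Groth.Agent.Lib.Lead.CritFib14
import Groth.Agent.Lib.Lead.FlatLoc12

/-! Fibrewise criterion of flatness modulo a nil ideal (from lead's critère de platitude par
fibres). -/

set_option autoImplicit false
set_option backward.isDefEq.respectTransparency.types false
set_option synthInstance.maxHeartbeats 400000
universe u
namespace Groth.Agent.Helper3.NilFib

open TensorProduct Groth.Agent.Lead.CritFib Groth.Agent.Lead.FlatLoc

attribute [local instance] Algebra.TensorProduct.rightAlgebra

section Glob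

variable {A C : Type u} [CommRing A] [CommRing C] [Algebra A C]
variable (M : Type u) [AddCommGroup M] [Module A M] [Module C M] [IsScalarTower A C M]

/-- flatness over `A` of a `C`-module can be checked at the primes of `C` -/
theorem flat_of_forall_prime
    (H : ∀ (r : Ideal C) [r.IsPrime], Module.Flat A (LocalizedModule r.primeCompl M)) :
    Module.Flat A M := by
  haveI : Module.Flat A (LocalizedModule (⊥ : Submonoid C) M) :=
    flat_localizedModule_of_forall_prime M ⊥ fun r _ _ => H r
  haveI : IsLocalizedModule (⊥ : Submonoid C) (LinearMap.id : M →ₗ[C] M) := by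
    refine ⟨?_, ?_, ?_⟩
    · rintro ⟨x, hx⟩
      have : x = 1 := Submonoid.mem_bot.mp hx
      subst this
      simp
    · intro y
      exact ⟨⟨y, 1⟩, by simp⟩
    · intro x y hxy
      exact ⟨1, by simpa using hxy⟩
  exact Module.Flat.of_linearEquiv
    ((IsLocalizedModule.iso (⊥ : Submonoid C) (LinearMap.id : M →ₗ[C] M)).restrictScalars A).symm

end Glob

section Fib

variable {B C : Type u} [CommRing B] [CommRing C] [Algebra B C] (J : Ideal B)
  (M : Type u) [AddCommGroup M] [Module C M] [Module B M] [IsScalarTower B C M]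

/-- fibre flatness passes to the localizations at primes of the algebra containing the ideal -/
theorem qflat_localizedModule (q : Ideal C) [q.IsPrime] (hq : J.map (algebraMap B C) ≤ q)
    [Module.Flat (B ⧸ J) ((B ⧸ J) ⊗[B] M)] :
    Module.Flat (B ⧸ J) ((B ⧸ J) ⊗[B] LocalizedModule q.primeCompl M) := by
  let q' : Ideal (C ⧸ J.map (algebraMap B C)) := q.map (Ideal.Quotient.mk _)
  have hcomap : q'.comap (algebraMap C (C ⧸ J.map (algebraMap B C))) = q := by
    show Ideal.comap (Ideal.Quotient.mk _) (Ideal.map (Ideal.Quotient.mk _) q) = q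
    rw [Ideal.comap_map_of_surjective _ Ideal.Quotient.mk_surjective, sup_eq_left]
    show Ideal.comap (Ideal.Quotient.mk (J.map (algebraMap B C))) ⊥ ≤ q
    rw [← RingHom.ker_eq_comap_bot, Ideal.mk_ker]
    exact hq
  haveI : q'.IsPrime := by
    refine Ideal.map_isPrime_of_surjective Ideal.Quotient.mk_surjective ?_
    rw [Ideal.mk_ker]
    exact hq
  haveI hpo : Algebra.IsPushout B (B ⧸ J) C (C ⧸ J.map (algebraMap B C)) :=
    isPushout_quotient (S := C) J
  haveI : Algebra.IsPushout B C (B ⧸ J) (C ⧸ J.map (algebraMap B C)) := hpo.symm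
  haveI : Module.Flat (B ⧸ J) ((C ⧸ J.map (algebraMap B C)) ⊗[C] M) :=
    Module.Flat.of_linearEquiv
      (Algebra.IsPushout.cancelBaseChange B (B ⧸ J) C (C ⧸ J.map (algebraMap B C)) M)
  haveI : Module.Flat (B ⧸ J)
      (LocalizedModule q'.primeCompl ((C ⧸ J.map (algebraMap B C)) ⊗[C] M)) :=
    Groth.Agent.Lead.FO.flat_of_isLocalizedModule_algebra (R := B ⧸ J)
      (S := C ⧸ J.map (algebraMap B C)) q'.primeCompl
      (M := (C ⧸ J.map (algebraMap B C)) ⊗[C] M)
      (Mp := LocalizedModule q'.primeCompl ((C ⧸ J.map (algebraMap B C)) ⊗[C] M))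
      (LocalizedModule.mkLinearMap q'.primeCompl ((C ⧸ J.map (algebraMap B C)) ⊗[C] M))
  have h := (qflat_iff_flat_localizedModule_quotient J M q').mpr inferInstance
  have e : ∀ (q₁ q₂ : Ideal C) [q₁.IsPrime] [q₂.IsPrime], q₁ = q₂ →
      Module.Flat (B ⧸ J) ((B ⧸ J) ⊗[B] LocalizedModule q₁.primeCompl M) →
      Module.Flat (B ⧸ J) ((B ⧸ J) ⊗[B] LocalizedModule q₂.primeCompl M) := by
    intro q₁ q₂ _ _ h12 h1
    subst h12
    exact h1
  exact e _ q hcomap h

end Fib

end Groth.Agent.Helper3.NilFib

namespace Groth.Agent.Helper3.NilFib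

open TensorProduct Groth.Agent.Lead.CritFib Groth.Agent.Lead.FlatLoc

theorem S0422_main {R S S' M : Type u} [CommRing R] [CommRing S] [CommRing S'] [Algebra R S]
    [Algebra S S'] [Algebra R S'] [IsScalarTower R S S']
    [Algebra.FiniteType R S] [Algebra.FinitePresentation R S'] (I : Ideal R)
    (hI : ∀ a ∈ I, IsNilpotent a)
    [AddCommGroup M] [Module S' M] [Module S M] [Module R M] [IsScalarTower S S' M]
    [IsScalarTower R S M]
    [Module.FinitePresentation S' M] [Module.Flat R M]
    (h : Module.Flat (S ⧸ I.map (algebraMap R S)) ((S ⧸ I.map (algebraMap R S)) ⊗[S] M)) :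
    Module.Flat S M := by
  haveI : IsScalarTower R S' M := by
    refine IsScalarTower.of_algebraMap_smul fun r m => ?_
    rw [IsScalarTower.algebraMap_apply R S S', IsScalarTower.algebraMap_smul S',
      IsScalarTower.algebraMap_smul S]
  refine flat_of_forall_prime (A := S) (C := S') M fun q _ => ?_
  let p : Ideal R := q.comap (algebraMap R S')
  haveI : p.IsPrime := Ideal.comap_isPrime _ _
  haveI : q.LiesOver p := ⟨rfl⟩
  have h1 : Module.Flat R (LocalizedModule q.primeCompl M) :=
    Groth.Agent.Lead.FO.flat_of_isLocalizedModule_algebra (R := R) (S := S') q.primeCompl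
      (M := M) (Mp := LocalizedModule q.primeCompl M)
      (LocalizedModule.mkLinearMap q.primeCompl M)
  have hIp : I ≤ p := by
    intro a ha
    obtain ⟨n, hn⟩ := hI a ha
    exact Ideal.IsPrime.mem_of_pow_mem inferInstance n (by rw [hn]; exact p.zero_mem)
  haveI := h
  haveI : Module.Flat (S ⧸ p.map (algebraMap R S)) ((S ⧸ p.map (algebraMap R S)) ⊗[S] M) :=
    flat_tensor_of_qflat (I.map (algebraMap R S)) M (R' := S ⧸ p.map (algebraMap R S))
      (fun x hx => by
        show Ideal.Quotient.mk _ x = 0
        exact Ideal.Quotient.eq_zero_iff_mem.mpr (Ideal.map_mono hIp hx))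
  have hq : (p.map (algebraMap R S)).map (algebraMap S S') ≤ q := by
    rw [Ideal.map_map, ← IsScalarTower.algebraMap_eq]
    exact Ideal.map_comap_le
  have h2 := qflat_localizedModule (p.map (algebraMap R S)) M q hq
  exact critere_ft R S S' M p q h1 h2

end Groth.Agent.Helper3.NilFib
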