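import Mathlib
import Groth.Agent.Lib.Helper3.NilFib
import Groth.Agent.Lib.Helper3.FibReg1

/-! Regularity on fibres implies regularity, via the critère de platitude par fibres applied to
`A → A[X] → B` (helper3). -/

set_option autoImplicit false
set_option backward.isDefEq.respectTransparency.types false
set_option synthInstance.maxHeartbeats 400000
universe u
namespace Groth.Agent.Helper3.FibReg

open TensorProduct Polynomial Groth.Agent.Lead.CritFib

attribute [local instance] Polynomial.algebra

section PM

variable {A B M : Type u} [CommRing A] [CommRing B] [Algebra A B]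
  [AddCommGroup M] [Module B M] [Module A M] [IsScalarTower A B M]

/-- `pM` is stable under `B` -/
theorem smul_mem_smul_top (p : Ideal A) (b : B) {m : M}
    (hm : m ∈ p • (⊤ : Submodule A M)) : b • m ∈ p • (⊤ : Submodule A M) := by
  refine Submodule.smul_induction_on hm ?_ ?_
  · intro x hx m' _
    rw [smul_comm]
    exact Submodule.smul_mem_smul hx Submodule.mem_top
  · intro y z hy hz
    rw [smul_add]
    exact Submodule.add_mem _ hy hz

variable (q : Ideal B) [q.IsPrime]

/-- elements of the localization of the form `m/s` with `m ∈ pM` -/
def InPM (p : Ideal A) (n : LocalizedModule q.primeCompl M) : Prop :=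
  ∃ m ∈ p • (⊤ : Submodule A M), ∃ s : q.primeCompl, n = LocalizedModule.mk m s

theorem inPM_add (p : Ideal A) {n n' : LocalizedModule q.primeCompl M}
    (h : InPM q p n) (h' : InPM q p n') : InPM q p (n + n') := by
  obtain ⟨m, hm, s, rfl⟩ := h
  obtain ⟨m', hm', s', rfl⟩ := h'
  refine ⟨s' • m + s • m', ?_, s * s', LocalizedModule.mk_add_mk⟩
  exact Submodule.add_mem _ (smul_mem_smul_top p (s' : B) hm) (smul_mem_smul_top p (s : B) hm')

theorem inPM_smul (p : Ideal A) {x : A} (hx : x ∈ p) (n : LocalizedModule q.primeCompl M) :
    InPM q p (x • n) := by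
  induction n using LocalizedModule.induction_on with
  | _ m s =>
    exact ⟨x • m, Submodule.smul_mem_smul hx Submodule.mem_top, s,
      LocalizedModule.smul'_mk x m s⟩

theorem inPM_zero (p : Ideal A) : InPM q p (0 : LocalizedModule q.primeCompl M) :=
  ⟨0, Submodule.zero_mem _, 1, (LocalizedModule.zero_mk 1).symm⟩

end PM

section Local

variable (A B M : Type u) [CommRing A] [CommRing B] [Algebra A B]
  [Algebra.FinitePresentation A B] [AddCommGroup M] [Module B M] [Module A M]
  [IsScalarTower A B M] [Module.FinitePresentation B M] [Module.Flat A M] (a : B)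

set_option maxHeartbeats 2000000 in
theorem eq_zero_of_smul_eq_zero_localized (q : Ideal B) [q.IsPrime] (haq : a ∈ q)
    (hfib : ∀ x : M, a • x ∈ (q.under A) • (⊤ : Submodule A M) →
      ∃ s : A, s ∉ q.under A ∧ s • x ∈ (q.under A) • (⊤ : Submodule A M))
    (n : LocalizedModule q.primeCompl M) (hn : a • n = 0) : n = 0 := by
  let p : Ideal A := q.under A
  haveI : p.IsPrime := inferInstanceAs (q.under A).IsPrime
  haveI : q.LiesOver p := ⟨rfl⟩
  -- `T = A[X] → B`, `X ↦ a`
  letI algTB : Algebra A[X] B := (Polynomial.aeval a : A[X] →ₐ[A] B).toRingHom.toAlgebra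
  have halg : ∀ t : A[X], algebraMap A[X] B t = Polynomial.aeval a t := fun t => rfl
  haveI : IsScalarTower A A[X] B := IsScalarTower.of_algebraMap_eq (fun x => by
    rw [halg, Polynomial.algebraMap_apply, Algebra.algebraMap_self, RingHom.id_apply,
      Polynomial.aeval_C])
  letI modTM : Module A[X] M := Module.compHom M (algebraMap A[X] B)
  haveI : IsScalarTower A[X] B M := IsScalarTower.of_compHom A[X] B M
  have h1 : Module.Flat A (LocalizedModule q.primeCompl M) :=
    Groth.Agent.Lead.FO.flat_of_isLocalizedModule_algebra (R := A) (S := B) q.primeCompl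
      (M := M) (Mp := LocalizedModule q.primeCompl M)
      (LocalizedModule.mkLinearMap q.primeCompl M)
  have h2 : Module.Flat (A[X] ⧸ p.map (algebraMap A A[X]))
      ((A[X] ⧸ p.map (algebraMap A A[X])) ⊗[A[X]] LocalizedModule q.primeCompl M) := by
    let L := Localization.AtPrime p
    let Bq := Localization.AtPrime q
    let W : Submonoid A[X] := Submonoid.map (C : A →+* A[X]) p.primeCompl
    haveI : IsLocalization W L[X] := Polynomial.isLocalization p.primeCompl L
    let φ₀ : L →+* Bq := Localization.localRingHom p q (algebraMap A B) rfl
    have hφ₀ : ∀ x : A, φ₀ (algebraMap A L x) = algebraMap B Bq (algebraMap A B x) :=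
      fun x => Localization.localRingHom_to_map _ _ _ _ x
    let ab : Bq := algebraMap B Bq a
    let θ : L[X] →+* Bq := Polynomial.eval₂RingHom φ₀ ab
    letI modSN : Module L[X] (LocalizedModule q.primeCompl M) := Module.compHom _ θ
    have hθsmul : ∀ (s : L[X]) (n : LocalizedModule q.primeCompl M), s • n = θ s • n :=
      fun _ _ => rfl
    have hθmap : ∀ t : A[X],
        θ (algebraMap A[X] L[X] t) = algebraMap B Bq (algebraMap A[X] B t) := by
      intro t
      show Polynomial.eval₂ φ₀ ab (t.map (algebraMap A L)) = _
      rw [Polynomial.eval₂_map, halg, Polynomial.aeval_def, Polynomial.hom_eval₂]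
      congr 1
      ext x
      exact hφ₀ x
    haveI : IsScalarTower A[X] L[X] (LocalizedModule q.primeCompl M) :=
      IsScalarTower.of_algebraMap_smul (fun t n => by
        rw [hθsmul, hθmap, IsScalarTower.algebraMap_smul, IsScalarTower.algebraMap_smul])
    have hJ : (p.map (algebraMap A A[X])).map (algebraMap A[X] L[X]) =
        (IsLocalRing.maximalIdeal L).map (C : L →+* L[X]) := by
      rw [Ideal.map_map, ← Localization.AtPrime.map_eq_maximalIdeal (I := p), Ideal.map_map]
      congr 1
      ext x
      simp
      rfl
    -- the polynomials with unit constant term act invertibly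
    have habmem : ab ∈ IsLocalRing.maximalIdeal Bq := by
      rw [← Localization.AtPrime.map_eq_maximalIdeal (I := q)]
      exact Ideal.mem_map_of_mem _ haq
    have hU : ∀ h : L[X], IsUnit (h.coeff 0) →
        ∃ g : LocalizedModule q.primeCompl M →ₗ[L[X]] LocalizedModule q.primeCompl M,
          ∀ n, g (h • n) = n := by
      intro h hh
      have hθh : IsUnit (θ h) := by
        rw [← IsLocalRing.notMem_maximalIdeal]
        intro hmem
        have h0 : θ h = φ₀ (h.coeff 0) + ab * θ (divX h) := by
          conv_lhs => rw [← divX_mul_X_add h]
          show Polynomial.eval₂ φ₀ ab (divX h * X + C (h.coeff 0)) = _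
          rw [Polynomial.eval₂_add, Polynomial.eval₂_mul, Polynomial.eval₂_X, Polynomial.eval₂_C]
          show Polynomial.eval₂ φ₀ ab (divX h) * ab + _ = _ + ab * Polynomial.eval₂ φ₀ ab (divX h)
          ring
        have h1 : φ₀ (h.coeff 0) ∈ IsLocalRing.maximalIdeal Bq := by
          have : φ₀ (h.coeff 0) = θ h - ab * θ (divX h) := by rw [h0]; ring
          rw [this]
          exact Ideal.sub_mem _ hmem (Ideal.mul_mem_right _ _ habmem)
        exact (IsLocalRing.notMem_maximalIdeal.mpr (hh.map φ₀)) h1
      obtain ⟨u, hu⟩ := hθh
      refine ⟨{ toFun := fun n => (↑u⁻¹ : Bq) • n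
                map_add' := fun x y => smul_add _ x y
                map_smul' := fun s n => by
                  simp only [RingHom.id_apply]
                  rw [hθsmul, hθsmul, smul_comm] }, fun n => ?_⟩
      show (↑u⁻¹ : Bq) • (h • n) = n
      rw [hθsmul, ← hu, smul_smul, Units.inv_mul, one_smul]
    have hAsmul : ∀ (x : A) (n : LocalizedModule q.primeCompl M),
        (algebraMap A[X] L[X] (algebraMap A A[X] x)) • n = x • n := by
      intro x n
      rw [IsScalarTower.algebraMap_smul]
      induction n using LocalizedModule.induction_on with
      | _ m s =>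
        rw [LocalizedModule.smul'_mk, LocalizedModule.smul'_mk]
        congr 1
        show (algebraMap A[X] B (algebraMap A A[X] x)) • m = x • m
        rw [← IsScalarTower.algebraMap_apply, IsScalarTower.algebraMap_smul]
    have hmem_of : ∀ n : LocalizedModule q.primeCompl M,
        n ∈ ((p.map (algebraMap A A[X])).map (algebraMap A[X] L[X])) •
          (⊤ : Submodule L[X] (LocalizedModule q.primeCompl M)) → InPM q p n := by
      have hQ : ∀ r ∈ (p.map (algebraMap A A[X])).map (algebraMap A[X] L[X]),
          ∀ n' : LocalizedModule q.primeCompl M, InPM q p (r • n') := by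
        intro r hr
        rw [Ideal.map_map] at hr
        unfold Ideal.map at hr
        induction hr using Submodule.span_induction with
        | mem r hr =>
          obtain ⟨x, hx, rfl⟩ := hr
          intro n'
          rw [RingHom.comp_apply, hAsmul]
          exact inPM_smul q p hx n'
        | zero =>
          intro n'
          rw [zero_smul]
          exact inPM_zero q p
        | add r r' _ _ ih ih' =>
          intro n'
          rw [add_smul]
          exact inPM_add q p (ih n') (ih' n')
        | smul s r _ ih =>
          intro n'
          rw [smul_eq_mul, mul_comm, mul_smul]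
          exact ih (s • n')
      intro n hn
      refine Submodule.smul_induction_on hn (fun r hr n' _ => hQ r hr n')
        (fun x y hx hy => inPM_add q p hx hy)
    have hof_mem : ∀ m ∈ p • (⊤ : Submodule A M), ∀ s : q.primeCompl,
        LocalizedModule.mk m s ∈ ((p.map (algebraMap A A[X])).map (algebraMap A[X] L[X])) •
          (⊤ : Submodule L[X] (LocalizedModule q.primeCompl M)) := by
      intro m hm s
      refine Submodule.smul_induction_on hm ?_ ?_
      · intro x hx m' _
        rw [← LocalizedModule.smul'_mk x m' s, ← hAsmul]
        exact Submodule.smul_mem_smul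
          (Ideal.mem_map_of_mem _ (Ideal.mem_map_of_mem _ hx)) Submodule.mem_top
      · intro y z hy hz
        have : LocalizedModule.mk (y + z) s = LocalizedModule.mk y s + LocalizedModule.mk z s := by
          rw [LocalizedModule.mk_add_mk, ← smul_add, LocalizedModule.mk_cancel_common_left]
        rw [this]
        exact Submodule.add_mem _ hy hz
    have hX : ∀ n : LocalizedModule q.primeCompl M,
        (X : L[X]) • n ∈ ((p.map (algebraMap A A[X])).map (algebraMap A[X] L[X])) •
          (⊤ : Submodule L[X] (LocalizedModule q.primeCompl M)) →
        n ∈ ((p.map (algebraMap A A[X])).map (algebraMap A[X] L[X])) •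
          (⊤ : Submodule L[X] (LocalizedModule q.primeCompl M)) := by
      intro n hn
      induction n using LocalizedModule.induction_on with
      | _ m s =>
        have e1 : (X : L[X]) • LocalizedModule.mk m s = LocalizedModule.mk (a • m) s := by
          rw [hθsmul]
          show Polynomial.eval₂ φ₀ ab X • _ = _
          rw [Polynomial.eval₂_X]
          show (algebraMap B Bq a) • _ = _
          rw [IsScalarTower.algebraMap_smul, LocalizedModule.smul'_mk]
        rw [e1] at hn
        obtain ⟨m', hm', s', hms⟩ := hmem_of _ hn
        rw [LocalizedModule.mk_eq] at hms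
        obtain ⟨u, hu⟩ := hms
        have h4 : a • (((u : B) * (s' : B)) • m) ∈ p • (⊤ : Submodule A M) := by
          have : a • (((u : B) * (s' : B)) • m) = (u : B) • (s : B) • m' := by
            have hu' : (u : B) • (s' : B) • (a • m) = (u : B) • (s : B) • m' := hu
            rw [← hu', smul_smul, smul_smul, smul_smul]
            congr 1
            ring
          rw [this]
          exact smul_mem_smul_top p _ (smul_mem_smul_top p _ hm')
        obtain ⟨v, hv, hvm⟩ := hfib _ h4
        have hvq : algebraMap A B v ∈ q.primeCompl := fun h => hv h
        let w : q.primeCompl := ⟨algebraMap A B v, hvq⟩ * u * s'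
        have hw : LocalizedModule.mk m s = LocalizedModule.mk (w • m) (w * s) :=
          (LocalizedModule.mk_cancel_common_left w s m).symm
        rw [hw]
        apply hof_mem
        have : w • m = v • (((u : B) * (s' : B)) • m) := by
          show ((algebraMap A B v) * (u : B) * (s' : B)) • m = _
          rw [mul_assoc, mul_smul, IsScalarTower.algebraMap_smul]
        rw [this]
        exact hvm
    haveI : Module.Flat (L[X] ⧸ (p.map (algebraMap A A[X])).map (algebraMap A[X] L[X]))
        ((L[X] ⧸ (p.map (algebraMap A A[X])).map (algebraMap A[X] L[X])) ⊗[L[X]]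
          LocalizedModule q.primeCompl M) :=
      flat_quot_of_regular _ hJ _ hX hU
    exact qflat_of_localization (S := L[X]) W (p.map (algebraMap A A[X]))
      (LocalizedModule q.primeCompl M)
  have h3 : Module.Flat A[X] (LocalizedModule q.primeCompl M) :=
    critere_ft A A[X] B M p q h1 h2
  have hreg : IsSMulRegular (LocalizedModule q.primeCompl M) (X : A[X]) :=
    Module.Flat.isSMulRegular_of_isRegular Polynomial.isRegular_X
  have hXa : ∀ n : LocalizedModule q.primeCompl M, (X : A[X]) • n = a • n := by
    intro n
    induction n using LocalizedModule.induction_on with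
    | _ m s =>
      rw [LocalizedModule.smul'_mk, LocalizedModule.smul'_mk]
      congr 1
      show (algebraMap A[X] B X) • m = a • m
      rw [halg, Polynomial.aeval_X]
  apply hreg
  show (X : A[X]) • n = (X : A[X]) • 0
  rw [smul_zero, hXa, hn]

end Local

section Global

variable (A B M : Type u) [CommRing A] [CommRing B] [Algebra A B]
  [Algebra.FinitePresentation A B] [AddCommGroup M] [Module B M] [Module A M]
  [IsScalarTower A B M] [Module.FinitePresentation B M] [Module.Flat A M] (a : B)

/-- an element which is regular on the fibres of a flat finitely presented module over a finitely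
presented algebra is regular (EGA IV 11.3.7 for a homothety) -/
theorem isSMulRegular_of_fibre
    (hfib : ∀ (p : Ideal A) [p.IsPrime] (x : M), a • x ∈ p • (⊤ : Submodule A M) →
      ∃ s : A, s ∉ p ∧ s • x ∈ p • (⊤ : Submodule A M)) :
    IsSMulRegular M a := by
  let f : M →ₗ[B] M := LinearMap.lsmul B M a
  have hf : Function.Injective f := by
    apply injective_of_localized_maximal
    intro q _
    rw [injective_iff_map_eq_zero]
    intro n hn
    have hmap : LocalizedModule.map q.primeCompl f n = a • n := by
      induction n using LocalizedModule.induction_on with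
      | _ m s =>
        rw [LocalizedModule.map_mk, LocalizedModule.smul'_mk]
        rfl
    rw [hmap] at hn
    by_cases haq : a ∈ q
    · exact eq_zero_of_smul_eq_zero_localized A B M a q haq
        (fun x hx => hfib (q.under A) x hx) n hn
    · have hu : IsUnit (algebraMap B (Localization.AtPrime q) a) :=
        IsLocalization.map_units (M := q.primeCompl) _ ⟨a, haq⟩
      rw [← IsScalarTower.algebraMap_smul (Localization.AtPrime q) a n] at hn
      obtain ⟨u, hu⟩ := hu
      rw [← hu] at hn
      have := congrArg (fun z => (↑u⁻¹ : Localization.AtPrime q) • z) hn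
      simpa [smul_smul] using this
  exact hf

end Global

end Groth.Agent.Helper3.FibReg
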