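import Mathlib
import Groth.Agent.Lib.Helper3.FibReg2
import Groth.Agent.Lib.Helper7.CAlg.ReducedSmooth

/-! Smooth Cartier divisors through a point of a smooth algebra: ring level (helper3). -/

set_option autoImplicit false
set_option backward.isDefEq.respectTransparency.types false
set_option synthInstance.maxHeartbeats 400000
universe u
namespace Groth.Agent.Helper3.CartSm

open TensorProduct KaehlerDifferential

section Reg

variable (A B : Type u) [CommRing A] [CommRing B] [Algebra A B] [Algebra.Smooth A B]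

/-- the quotients of a smooth algebra by primes of the base are reduced -/
theorem isReduced_quotient_map (p : Ideal A) [p.IsPrime] :
    IsReduced (B ⧸ p.map (algebraMap A B)) := by
  haveI : IsReduced ((A ⧸ p) ⊗[A] B) := Groth.Agent.Helper7.isReduced_of_smooth (A ⧸ p) _
  exact isReduced_of_injective
    (Algebra.TensorProduct.quotIdealMapEquivQuotTensor B p).toRingEquiv.toRingHom
    (Algebra.TensorProduct.quotIdealMapEquivQuotTensor B p).injective

/-- an element with a derivation sending it to a unit is a nonzerodivisor of a smooth algebra -/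
theorem isSMulRegular_of_derivation (h u : B) (hu : IsUnit u)
    (ℓ : Ω[B⁄A] →ₗ[B] B) (hℓ : ℓ (D A B h) = u) : IsSMulRegular B h := by
  haveI : Algebra.FinitePresentation A B := Algebra.Smooth.finitePresentation
  apply Groth.Agent.Helper3.FibReg.isSMulRegular_of_fibre A B B h
  intro p _ x hx
  refine ⟨1, fun h1 => (inferInstance : p.IsPrime).ne_top ((Ideal.eq_top_iff_one _).mpr h1), ?_⟩
  rw [one_smul]
  -- the derivation preserves `pB`
  have hδ : ∀ y ∈ p • (⊤ : Submodule A B), ℓ (D A B y) ∈ p • (⊤ : Submodule A B) := by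
    intro y hy
    refine Submodule.smul_induction_on hy ?_ ?_
    · intro a ha b _
      rw [Derivation.map_smul, LinearMap.map_smul_of_tower]
      exact Submodule.smul_mem_smul ha Submodule.mem_top
    · intro y z hy hz
      rw [map_add, map_add]
      exact Submodule.add_mem _ hy hz
  have hmem : ∀ y : B, y ∈ p • (⊤ : Submodule A B) ↔ y ∈ p.map (algebraMap A B) := by
    intro y
    rw [Ideal.smul_top_eq_map]
    rfl
  have hB : ∀ (b y : B), y ∈ p • (⊤ : Submodule A B) → b * y ∈ p • (⊤ : Submodule A B) := by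
    intro b y hy
    rw [hmem] at hy ⊢
    exact Ideal.mul_mem_left _ _ hy
  have h1 : x * u + h * ℓ (D A B x) ∈ p • (⊤ : Submodule A B) := by
    have := hδ (h • x) hx
    rw [smul_eq_mul, Derivation.leibniz, map_add, map_smul, map_smul, hℓ, smul_eq_mul,
      smul_eq_mul, add_comm] at this
    exact this
  have h2 : (x * u) ^ 2 ∈ p • (⊤ : Submodule A B) := by
    have e : (x * u) ^ 2 = (x * u) * (x * u + h * ℓ (D A B x)) - (u * ℓ (D A B x)) * (h • x) := by
      rw [smul_eq_mul]; ring
    rw [e]
    exact Submodule.sub_mem _ (hB _ _ h1) (hB _ _ hx)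
  haveI := isReduced_quotient_map A B p
  have h3 : x * u ∈ p.map (algebraMap A B) := by
    rw [hmem] at h2
    rw [← Ideal.Quotient.eq_zero_iff_mem] at h2 ⊢
    rw [map_pow] at h2
    exact IsReduced.eq_zero _ ⟨2, h2⟩
  obtain ⟨v, hv⟩ := hu.exists_right_inv
  rw [hmem]
  have : x = (x * u) * v := by rw [mul_assoc, hv, mul_one]
  rw [this]
  exact Ideal.mul_mem_right _ _ h3

end Reg

section Quot

variable (A B : Type u) [CommRing A] [CommRing B] [Algebra A B] [Algebra.Smooth A B]

set_option maxHeartbeats 1000000 in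
/-- the quotient of a smooth algebra by an element whose differential has a unit coordinate is
smooth -/
theorem smooth_quotient_span_singleton (h u : B) (hu : IsUnit u)
    (ℓ : Ω[B⁄A] →ₗ[B] B) (hℓ : ℓ (D A B h) = u) :
    Algebra.Smooth A (B ⧸ Ideal.span {h}) := by
  have hsurj : Function.Surjective (algebraMap B (B ⧸ Ideal.span {h})) :=
    Ideal.Quotient.mk_surjective
  have hker : RingHom.ker (algebraMap B (B ⧸ Ideal.span {h})) = Ideal.span {h} := Ideal.mk_ker
  haveI : Algebra.FinitePresentation A B := Algebra.Smooth.finitePresentation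
  haveI : Algebra.FormallySmooth A B := Algebra.Smooth.formallySmooth
  obtain ⟨v, hv⟩ := hu.exists_right_inv
  haveI : Algebra.FormallySmooth A (B ⧸ Ideal.span {h}) := by
    rw [Algebra.FormallySmooth.iff_split_injection hsurj]
    set I : Ideal B := RingHom.ker (algebraMap B (B ⧸ Ideal.span {h})) with hI
    have hhI : h ∈ I := by rw [hker]; exact Ideal.mem_span_singleton_self h
    let c₀ : I.Cotangent := I.toCotangent ⟨h, hhI⟩
    let ℓ'' : (B ⧸ Ideal.span {h}) ⊗[B] Ω[B⁄A] →ₗ[B ⧸ Ideal.span {h}] (B ⧸ Ideal.span {h}) :=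
      ((Algebra.linearMap B (B ⧸ Ideal.span {h})) ∘ₗ ℓ).liftBaseChange (B ⧸ Ideal.span {h})
    have hle : (Ideal.span {h} : Submodule B B) ≤
        LinearMap.ker (LinearMap.toSpanSingleton B I.Cotangent (v • c₀)) := by
      intro b hb
      obtain ⟨b', rfl⟩ := Ideal.mem_span_singleton'.mp hb
      rw [LinearMap.mem_ker, LinearMap.toSpanSingleton_apply, smul_smul, ← map_smul,
        Ideal.toCotangent_eq_zero]
      show (b' * h * v) • h ∈ I ^ 2
      rw [smul_eq_mul, pow_two]
      have : b' * h * v * h = (b' * v * h) * h := by ring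
      rw [this]
      exact Ideal.mul_mem_mul (Ideal.mul_mem_left _ _ hhI) hhI
    let φ : (B ⧸ Ideal.span {h}) →ₗ[B] I.Cotangent :=
      Submodule.liftQ _ (LinearMap.toSpanSingleton B I.Cotangent (v • c₀)) hle
    refine ⟨φ ∘ₗ (ℓ''.restrictScalars B), ?_⟩
    apply LinearMap.ext
    intro c
    obtain ⟨x, rfl⟩ := Ideal.toCotangent_surjective I c
    have hx : (x : B) ∈ Ideal.span {h} := by rw [← hker]; exact x.2
    obtain ⟨b, hb⟩ := Ideal.mem_span_singleton'.mp hx
    have hxb : x = b • (⟨h, hhI⟩ : I) := Subtype.ext (by rw [← hb]; rfl)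
    rw [hxb, map_smul, LinearMap.map_smul, LinearMap.id_apply]
    congr 1
    show φ (ℓ'' (kerCotangentToTensor A B (B ⧸ Ideal.span {h}) (I.toCotangent ⟨h, hhI⟩))) = c₀
    rw [kerCotangentToTensor_toCotangent]
    show φ (ℓ'' ((1 : B ⧸ Ideal.span {h}) ⊗ₜ[B] D A B h)) = c₀
    rw [LinearMap.liftBaseChange_tmul, one_smul, LinearMap.comp_apply, hℓ]
    show φ (Submodule.Quotient.mk u) = c₀
    rw [Submodule.liftQ_apply, LinearMap.toSpanSingleton_apply, smul_smul, hv, one_smul]
  haveI : Algebra.FinitePresentation A (B ⧸ Ideal.span {h}) :=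
    Algebra.FinitePresentation.quotient ⟨{h}, by simp⟩
  exact ⟨inferInstance, inferInstance⟩

end Quot

section Away

variable (A B : Type u) [CommRing A] [CommRing B] [Algebra A B] [Algebra.Smooth A B]

/-- the main ring-level statement: if some coordinate of `dh` is `g`, then over `B[1/g]` the element
`h` is a nonzerodivisor with smooth quotient -/
theorem main_away (h g : B) (ℓ : Ω[B⁄A] →ₗ[B] B) (hℓ : ℓ (D A B h) = g)
    (B' : Type u) [CommRing B'] [Algebra B B'] [Algebra A B'] [IsScalarTower A B B']
    [IsLocalization.Away g B'] :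
    algebraMap B B' h ∈ nonZeroDivisors B' ∧
      Algebra.Smooth A (B' ⧸ Ideal.span {algebraMap B B' h}) := by
  haveI : Algebra.FormallyEtale B B' := Algebra.FormallyEtale.of_isLocalization (Submonoid.powers g)
  haveI : Algebra.FinitePresentation B B' := IsLocalization.Away.finitePresentation g
  haveI : Algebra.Smooth B B' := ⟨inferInstance, inferInstance⟩
  haveI : Algebra.Smooth A B' := Algebra.Smooth.comp A B B'
  let ℓ' : Ω[B'⁄A] →ₗ[B'] B' :=
    (KaehlerDifferential.isBaseChange_of_formallyEtale A B B').lift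
      ((Algebra.linearMap B B') ∘ₗ ℓ)
  have hℓ' : ℓ' (D A B' (algebraMap B B' h)) = algebraMap B B' g := by
    rw [← KaehlerDifferential.map_D A A B B']
    show (KaehlerDifferential.isBaseChange_of_formallyEtale A B B').lift
      ((Algebra.linearMap B B') ∘ₗ ℓ) (KaehlerDifferential.map A A B B' (D A B h)) = _
    rw [IsBaseChange.lift_eq, LinearMap.comp_apply, hℓ]
    rfl
  have hu : IsUnit (algebraMap B B' g) := IsLocalization.Away.algebraMap_isUnit g
  refine ⟨?_, smooth_quotient_span_singleton A B' _ _ hu ℓ' hℓ'⟩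
  have hreg := isSMulRegular_of_derivation A B' _ _ hu ℓ' hℓ'
  rw [mem_nonZeroDivisors_iff_right]
  intro y hy
  apply hreg
  show algebraMap B B' h • y = algebraMap B B' h • 0
  rw [smul_zero, smul_eq_mul, mul_comm]
  exact hy

end Away

end Groth.Agent.Helper3.CartSm
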