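import Mathlib
import Groth.Agent.Lib.Helper3.CartSm1

/-! Smooth Cartier divisors through a point: translating the stalk condition (helper3). -/

set_option autoImplicit false
set_option backward.isDefEq.respectTransparency.types false
set_option synthInstance.maxHeartbeats 400000
universe u
namespace Groth.Agent.Helper3.CartSm

open AlgebraicGeometry CategoryTheory Limits TensorProduct KaehlerDifferential

section Coord

variable (A B : Type u) [CommRing A] [CommRing B] [Algebra A B] [Algebra.Smooth A B]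

/-- if `dh` does not vanish in the fibre of the differentials at `q`, some coordinate of `dh`
is not in `q` -/
theorem exists_coord_notMem (q : Ideal B) (h : B)
    (hd : D A B h ∉ q • (⊤ : Submodule B Ω[B⁄A])) :
    ∃ ℓ : Ω[B⁄A] →ₗ[B] B, ℓ (D A B h) ∉ q := by
  haveI : Algebra.FormallySmooth A B := Algebra.Smooth.formallySmooth
  obtain ⟨s, hs⟩ := (Module.projective_def'.mp (inferInstance : Module.Projective B Ω[B⁄A]))
  by_contra hcon
  push Not at hcon
  apply hd
  have h1 : D A B h = Finsupp.linearCombination B id (s (D A B h)) := by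
    rw [← LinearMap.comp_apply, hs, LinearMap.id_apply]
  rw [h1, Finsupp.linearCombination_apply]
  refine Submodule.sum_mem _ (fun ω _ => ?_)
  exact Submodule.smul_mem_smul (hcon ((Finsupp.lapply ω) ∘ₗ s)) Submodule.mem_top

end Coord

section Stalk

variable {X S : Scheme.{u}} (f : X ⟶ S) (x : X)

set_option maxHeartbeats 1000000 in
/-- the stalk condition on `dh` gives the nonvanishing of `ds` in the fibre of the differentials of
an affine chart -/
theorem D_notMem_of_stalk (V : S.Opens) (U : X.Opens) (hxU : x ∈ U) (e : U ≤ f ⁻¹ᵁ V)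
    (s : Γ(X, U))
    (hd : letI := (f.stalkMap x).hom.toAlgebra
      (1 : IsLocalRing.ResidueField ↑(X.presheaf.stalk x)) ⊗ₜ[↑(X.presheaf.stalk x)]
          (KaehlerDifferential.D ↑(S.presheaf.stalk (f x)) ↑(X.presheaf.stalk x)
            (X.presheaf.germ U x hxU s)) ≠ 0) :
    letI := (f.appLE V U e).hom.toAlgebra
    D Γ(S, V) Γ(X, U) s ∉
      ((IsLocalRing.maximalIdeal ↑(X.presheaf.stalk x)).comap (X.presheaf.germ U x hxU).hom) •
        (⊤ : Submodule Γ(X, U) Ω[Γ(X, U)⁄Γ(S, V)]) := by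
  letI a0 : Algebra Γ(S, V) Γ(X, U) := (f.appLE V U e).hom.toAlgebra
  intro hmem
  letI a1 : Algebra ↑(S.presheaf.stalk (f x)) ↑(X.presheaf.stalk x) := (f.stalkMap x).hom.toAlgebra
  apply hd
  letI a2 : Algebra Γ(S, V) ↑(S.presheaf.stalk (f x)) :=
    (S.presheaf.germ V (f x) (e hxU)).hom.toAlgebra
  letI a3 : Algebra Γ(X, U) ↑(X.presheaf.stalk x) := (X.presheaf.germ U x hxU).hom.toAlgebra
  letI a4 : Algebra Γ(S, V) ↑(X.presheaf.stalk x) :=
    ((X.presheaf.germ U x hxU).hom.comp (f.appLE V U e).hom).toAlgebra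
  haveI t1 : IsScalarTower Γ(S, V) Γ(X, U) ↑(X.presheaf.stalk x) :=
    IsScalarTower.of_algebraMap_eq' rfl
  haveI t2 : IsScalarTower Γ(S, V) ↑(S.presheaf.stalk (f x)) ↑(X.presheaf.stalk x) := by
    refine IsScalarTower.of_algebraMap_eq (fun a => ?_)
    show (X.presheaf.germ U x hxU).hom ((f.appLE V U e).hom a) =
      (f.stalkMap x).hom ((S.presheaf.germ V (f x) (e hxU)).hom a)
    have := Scheme.Hom.germ_stalkMap_apply f V x (e hxU) a
    rw [Scheme.Hom.appLE, CommRingCat.hom_comp, RingHom.comp_apply]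
    erw [X.presheaf.germ_res_apply]
    exact this.symm
  let Φ := KaehlerDifferential.map Γ(S, V) ↑(S.presheaf.stalk (f x)) Γ(X, U) ↑(X.presheaf.stalk x)
  have hΦ : Φ (D Γ(S, V) Γ(X, U) s) =
      D ↑(S.presheaf.stalk (f x)) ↑(X.presheaf.stalk x) (X.presheaf.germ U x hxU s) :=
    KaehlerDifferential.map_D _ _ _ _ s
  have h1 : ∀ ω ∈ ((IsLocalRing.maximalIdeal ↑(X.presheaf.stalk x)).comap
      (X.presheaf.germ U x hxU).hom) • (⊤ : Submodule Γ(X, U) Ω[Γ(X, U)⁄Γ(S, V)]),
      (1 : IsLocalRing.ResidueField ↑(X.presheaf.stalk x)) ⊗ₜ[↑(X.presheaf.stalk x)] (Φ ω) = 0 := by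
    intro ω hω
    refine Submodule.smul_induction_on hω ?_ ?_
    · intro b hb ω' _
      rw [map_smul, ← IsScalarTower.algebraMap_smul ↑(X.presheaf.stalk x) b (Φ ω'),
        ← TensorProduct.smul_tmul, Algebra.smul_def, mul_one]
      have : algebraMap ↑(X.presheaf.stalk x) (IsLocalRing.ResidueField ↑(X.presheaf.stalk x))
          (algebraMap Γ(X, U) ↑(X.presheaf.stalk x) b) = 0 := by
        rw [IsLocalRing.ResidueField.algebraMap_eq, IsLocalRing.residue_eq_zero_iff]
        exact hb
      rw [this, TensorProduct.zero_tmul]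
    · intro y z hy hz
      rw [map_add, TensorProduct.tmul_add, hy, hz, add_zero]
  rw [← hΦ]
  exact h1 _ hmem

end Stalk

end Groth.Agent.Helper3.CartSm
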