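import Mathlib
import Groth.Agent.Lib.Helper3.CartSm2
import Groth.Agent.S9721

/-! S9725: smooth Cartier divisor through a point with prescribed differential (helper3). -/

set_option autoImplicit false
set_option backward.isDefEq.respectTransparency.types false
set_option synthInstance.maxHeartbeats 400000
universe u
namespace Groth.Agent.Helper3.CartSm

open AlgebraicGeometry CategoryTheory Limits TensorProduct KaehlerDifferential

set_option maxHeartbeats 2000000 in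
theorem S9725_main {X S : Scheme.{u}} (f : X ⟶ S) (x : X)
    (W : X.Opens) (hxW : x ∈ W) (hW : Smooth (W.ι ≫ f))
    (h : ↑(X.presheaf.stalk x))
    (hd : letI := (f.stalkMap x).hom.toAlgebra
      (1 : IsLocalRing.ResidueField ↑(X.presheaf.stalk x)) ⊗ₜ[↑(X.presheaf.stalk x)]
          (KaehlerDifferential.D ↑(S.presheaf.stalk (f x)) ↑(X.presheaf.stalk x) h) ≠ 0) :
    ∃ (U : X.Opens) (hU : IsAffineOpen U) (hx : x ∈ U) (h' : Γ(X, U)),
      X.presheaf.germ U x hx h' = h ∧ h' ∈ nonZeroDivisors Γ(X, U) ∧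
      Smooth (Spec.map (CommRingCat.ofHom (Ideal.Quotient.mk (Ideal.span {h'}))) ≫
        hU.fromSpec ≫ f) := by
  obtain ⟨_, ⟨V, hV, rfl⟩, hxV, -⟩ :=
    S.isBasis_affineOpens.exists_subset_of_mem_open (Set.mem_univ (f x)) isOpen_univ
  obtain ⟨U₀, hU₀, hxU₀, e₀, hstd⟩ := (Groth.Agent.S9721.result f x V hV hxV).mp ⟨W, hxW, hW⟩
  obtain ⟨U₁, hxU₁, s₁, hs₁⟩ := TopCat.Presheaf.exists_germ_eq X.presheaf h
  obtain ⟨r, hrU₁, hxr⟩ := hU₀.exists_basicOpen_le ⟨x, hxU₁⟩ hxU₀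
  have hU₂ : IsAffineOpen (X.basicOpen r) := hU₀.basicOpen r
  have hU₂₀ : X.basicOpen r ≤ U₀ := X.basicOpen_le r
  have e₂ : X.basicOpen r ≤ f ⁻¹ᵁ V := hU₂₀.trans e₀
  let h₂ : Γ(X, X.basicOpen r) := (X.presheaf.map (homOfLE hrU₁).op).hom s₁
  have hgerm₂ : X.presheaf.germ (X.basicOpen r) x hxr h₂ = h := by
    rw [← hs₁]
    exact X.presheaf.germ_res_apply (homOfLE hrU₁) x hxr s₁
  letI algA₀ : Algebra Γ(S, V) Γ(X, U₀) := (f.appLE V U₀ e₀).hom.toAlgebra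
  letI algA₂ : Algebra Γ(S, V) Γ(X, X.basicOpen r) := (f.appLE V _ e₂).hom.toAlgebra
  letI alg₀₂ : Algebra Γ(X, U₀) Γ(X, X.basicOpen r) :=
    (X.presheaf.map (homOfLE hU₂₀).op).hom.toAlgebra
  haveI : IsScalarTower Γ(S, V) Γ(X, U₀) Γ(X, X.basicOpen r) :=
    IsScalarTower.of_algebraMap_eq' (by
      show (f.appLE V _ e₂).hom = (X.presheaf.map (homOfLE hU₂₀).op).hom.comp (f.appLE V U₀ e₀).hom
      rw [← CommRingCat.hom_comp, Scheme.Hom.appLE_map])
  haveI : IsLocalization.Away r Γ(X, X.basicOpen r) := hU₀.isLocalization_basicOpen r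
  haveI : Algebra.IsStandardSmooth Γ(S, V) Γ(X, U₀) := hstd
  haveI : Algebra.Smooth Γ(S, V) Γ(X, U₀) := inferInstance
  haveI : Algebra.FormallyEtale Γ(X, U₀) Γ(X, X.basicOpen r) :=
    Algebra.FormallyEtale.of_isLocalization (Submonoid.powers r)
  haveI : Algebra.FinitePresentation Γ(X, U₀) Γ(X, X.basicOpen r) :=
    IsLocalization.Away.finitePresentation r
  haveI : Algebra.Smooth Γ(X, U₀) Γ(X, X.basicOpen r) := ⟨inferInstance, inferInstance⟩
  haveI smB : Algebra.Smooth Γ(S, V) Γ(X, X.basicOpen r) :=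
    Algebra.Smooth.comp Γ(S, V) Γ(X, U₀) Γ(X, X.basicOpen r)
  have hnot := D_notMem_of_stalk f x V (X.basicOpen r) hxr e₂ h₂ (by rw [hgerm₂]; exact hd)
  obtain ⟨ℓ, hℓ⟩ := exists_coord_notMem Γ(S, V) Γ(X, X.basicOpen r) _ h₂ hnot
  obtain ⟨g, hg⟩ : ∃ g, g = ℓ (D Γ(S, V) Γ(X, X.basicOpen r) h₂) := ⟨_, rfl⟩
  have hxg : x ∈ X.basicOpen g := by
    rw [X.mem_basicOpen g x hxr]
    rw [← IsLocalRing.notMem_maximalIdeal]
    intro hmem
    apply hℓ
    rw [← hg]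
    exact hmem
  have hU₃ : IsAffineOpen (X.basicOpen g) := hU₂.basicOpen g
  have hU₃₂ : X.basicOpen g ≤ X.basicOpen r := X.basicOpen_le g
  have e₃ : X.basicOpen g ≤ f ⁻¹ᵁ V := hU₃₂.trans e₂
  letI algA₃ : Algebra Γ(S, V) Γ(X, X.basicOpen g) := (f.appLE V _ e₃).hom.toAlgebra
  letI alg₂₃ : Algebra Γ(X, X.basicOpen r) Γ(X, X.basicOpen g) :=
    (X.presheaf.map (homOfLE hU₃₂).op).hom.toAlgebra
  haveI : IsScalarTower Γ(S, V) Γ(X, X.basicOpen r) Γ(X, X.basicOpen g) :=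
    IsScalarTower.of_algebraMap_eq' (by
      show (f.appLE V _ e₃).hom =
        (X.presheaf.map (homOfLE hU₃₂).op).hom.comp (f.appLE V _ e₂).hom
      rw [← CommRingCat.hom_comp, Scheme.Hom.appLE_map])
  haveI : IsLocalization.Away g Γ(X, X.basicOpen g) := hU₂.isLocalization_basicOpen g
  obtain ⟨hnzd, hsm⟩ := main_away Γ(S, V) Γ(X, X.basicOpen r) h₂ g ℓ hg.symm Γ(X, X.basicOpen g)
  refine ⟨X.basicOpen g, hU₃, hxg, algebraMap Γ(X, X.basicOpen r) Γ(X, X.basicOpen g) h₂, ?_,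
    hnzd, ?_⟩
  · rw [← hgerm₂]
    exact X.presheaf.germ_res_apply (homOfLE hU₃₂) x hxg h₂
  · rw [← IsAffineOpen.SpecMap_appLE_fromSpec f hV hU₃ e₃, ← Category.assoc, ← Spec.map_comp]
    have hsm' : (f.appLE V (X.basicOpen g) e₃ ≫ CommRingCat.ofHom (Ideal.Quotient.mk
        (Ideal.span {algebraMap Γ(X, X.basicOpen r) Γ(X, X.basicOpen g) h₂}))).hom.Smooth :=
      RingHom.smooth_algebraMap.mpr hsm
    haveI : Smooth (Spec.map (f.appLE V (X.basicOpen g) e₃ ≫ CommRingCat.ofHom (Ideal.Quotient.mk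
        (Ideal.span {algebraMap Γ(X, X.basicOpen r) Γ(X, X.basicOpen g) h₂})))) :=
      (HasRingHomProperty.Spec_iff (P := @Smooth)).mpr hsm'
    infer_instance

end Groth.Agent.Helper3.CartSm
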