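import Mathlib
import Groth.Agent.Lib.Helper3.CartSm3

/-! S9751: smooth Cartier divisor through a point when the cotangent map has a kernel (helper3). -/

set_option autoImplicit false
set_option backward.isDefEq.respectTransparency.types false
set_option synthInstance.maxHeartbeats 400000
universe u
namespace Groth.Agent.Helper3.CartSm

open AlgebraicGeometry CategoryTheory Limits TensorProduct KaehlerDifferential

set_option maxHeartbeats 2000000 in
theorem S9751_main {X S : Scheme.{u}} (f : X ⟶ S) (x : X)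
    (W : X.Opens) (hxW : x ∈ W) (hW : Smooth (W.ι ≫ f))
    (hker : letI := (f.stalkMap x).hom.toAlgebra
      letI := ((IsLocalRing.residue ↑(X.presheaf.stalk x)).comp (f.stalkMap x).hom).toAlgebra
      haveI : IsScalarTower ↑(S.presheaf.stalk (f x)) ↑(X.presheaf.stalk x)
          (IsLocalRing.ResidueField ↑(X.presheaf.stalk x)) :=
        IsScalarTower.of_algebraMap_eq (fun _ => rfl)
      LinearMap.ker (KaehlerDifferential.mapBaseChange ↑(S.presheaf.stalk (f x))
        ↑(X.presheaf.stalk x) (IsLocalRing.ResidueField ↑(X.presheaf.stalk x))) ≠ ⊥) :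
    ∃ (U : X.Opens) (hU : IsAffineOpen U) (hx : x ∈ U) (h' : Γ(X, U)),
      h' ∈ nonZeroDivisors Γ(X, U) ∧
      X.presheaf.germ U x hx h' ∈ IsLocalRing.maximalIdeal ↑(X.presheaf.stalk x) ∧
      Smooth (Spec.map (CommRingCat.ofHom (Ideal.Quotient.mk (Ideal.span {h'}))) ≫
        hU.fromSpec ≫ f) := by
  letI a1 : Algebra ↑(S.presheaf.stalk (f x)) ↑(X.presheaf.stalk x) := (f.stalkMap x).hom.toAlgebra
  letI a2 : Algebra ↑(S.presheaf.stalk (f x)) (IsLocalRing.ResidueField ↑(X.presheaf.stalk x)) :=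
    ((IsLocalRing.residue ↑(X.presheaf.stalk x)).comp (f.stalkMap x).hom).toAlgebra
  haveI t : IsScalarTower ↑(S.presheaf.stalk (f x)) ↑(X.presheaf.stalk x)
      (IsLocalRing.ResidueField ↑(X.presheaf.stalk x)) :=
    IsScalarTower.of_algebraMap_eq (fun _ => rfl)
  have hsurj : Function.Surjective (algebraMap ↑(X.presheaf.stalk x)
      (IsLocalRing.ResidueField ↑(X.presheaf.stalk x))) := IsLocalRing.residue_surjective
  have hex := KaehlerDifferential.exact_kerCotangentToTensor_mapBaseChange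
    ↑(S.presheaf.stalk (f x)) ↑(X.presheaf.stalk x)
    (IsLocalRing.ResidueField ↑(X.presheaf.stalk x)) hsurj
  obtain ⟨z, hz, hz0⟩ := (Submodule.ne_bot_iff _).mp hker
  obtain ⟨c, hc⟩ := (hex z).mp hz
  obtain ⟨y, rfl⟩ := Ideal.toCotangent_surjective _ c
  rw [kerCotangentToTensor_toCotangent] at hc
  have hym : (y : ↑(X.presheaf.stalk x)) ∈ IsLocalRing.maximalIdeal ↑(X.presheaf.stalk x) := by
    have h0 : IsLocalRing.residue ↑(X.presheaf.stalk x) (y : ↑(X.presheaf.stalk x)) = 0 :=
      RingHom.mem_ker.mp y.2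
    exact (IsLocalRing.residue_eq_zero_iff _).mp h0
  obtain ⟨U, hU, hx, h', hg, hnzd, hsm⟩ := S9725_main f x W hxW hW (y : ↑(X.presheaf.stalk x))
    (by rw [hc]; exact hz0)
  exact ⟨U, hU, hx, h', hnzd, by rw [hg]; exact hym, hsm⟩

end Groth.Agent.Helper3.CartSm
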