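import Mathlib

/-! A local algebra lemma: at a smooth point with separable residue field extension which is not
generic in its fibre, some element of the maximal ideal has nonzero differential in the fibre of
`Ω` (helper3). -/

set_option autoImplicit false
set_option backward.isDefEq.respectTransparency.types false
set_option synthInstance.maxHeartbeats 400000
universe u
namespace Groth.Agent.Helper3.CartSm

open TensorProduct KaehlerDifferential IsLocalRing

section Local

variable (A B : Type u) [CommRing A] [CommRing B] [IsLocalRing A] [IsLocalRing B] [Algebra A B]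
  [IsLocalHom (algebraMap A B)] [Algebra.FormallySmooth A B] [Algebra.EssFiniteType A B]

set_option maxHeartbeats 2000000 in
theorem exists_D_ne_zero_aux
    [Algebra.FormallySmooth (A ⧸ maximalIdeal A) (B ⧸ maximalIdeal B)]
    (b : B) (hb : b ∈ maximalIdeal B)
    (hb' : b ∉ (maximalIdeal A).map (algebraMap A B)) :
    ∃ y ∈ maximalIdeal B, (1 : B ⧸ maximalIdeal B) ⊗ₜ[B] D A B y ≠ 0 := by
  set J : Ideal B := (maximalIdeal A).map (algebraMap A B) with hJ
  have hJle : J ≤ maximalIdeal B :=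
    ((local_hom_TFAE (algebraMap A B)).out 0 2 rfl rfl).mp inferInstance
  -- formally smooth fibre ring
  haveI : Algebra.FormallySmooth (A ⧸ maximalIdeal A) ((A ⧸ maximalIdeal A) ⊗[A] B) := inferInstance
  haveI fsP : Algebra.FormallySmooth (A ⧸ maximalIdeal A) (B ⧸ J) :=
    Algebra.FormallySmooth.of_equiv
      (Algebra.TensorProduct.quotIdealMapEquivQuotTensor B (maximalIdeal A)).symm
  haveI : Algebra.EssFiniteType (A ⧸ maximalIdeal A) (B ⧸ J) :=
    Algebra.EssFiniteType.quotient_map A B (maximalIdeal A)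
  letI : Field (A ⧸ maximalIdeal A) := Ideal.Quotient.field (maximalIdeal A)
  haveI : IsNoetherianRing (B ⧸ J) :=
    Algebra.EssFiniteType.isNoetherianRing (A ⧸ maximalIdeal A) _
  letI algPK : Algebra (B ⧸ J) (B ⧸ maximalIdeal B) := (Ideal.Quotient.factor hJle).toAlgebra
  haveI tkPK : IsScalarTower (A ⧸ maximalIdeal A) (B ⧸ J) (B ⧸ maximalIdeal B) := by
    refine IsScalarTower.of_algebraMap_eq (fun c => ?_)
    obtain ⟨a, rfl⟩ := Ideal.Quotient.mk_surjective c
    rfl
  haveI tBPK : IsScalarTower B (B ⧸ J) (B ⧸ maximalIdeal B) :=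
    IsScalarTower.of_algebraMap_eq (fun c => rfl)
  have hsurj : Function.Surjective (algebraMap (B ⧸ J) (B ⧸ maximalIdeal B)) :=
    Ideal.Quotient.factor_surjective hJle
  have hinj : Function.Injective
      (kerCotangentToTensor (A ⧸ maximalIdeal A) (B ⧸ J) (B ⧸ maximalIdeal B)) :=
    (Algebra.FormallySmooth.kerCotangentToTensor_injective_iff hsurj).mpr inferInstance
  set I : Ideal (B ⧸ J) := RingHom.ker (algebraMap (B ⧸ J) (B ⧸ maximalIdeal B)) with hI
  have hfac : ∀ c : B, algebraMap (B ⧸ J) (B ⧸ maximalIdeal B) (Ideal.Quotient.mk J c) =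
      Ideal.Quotient.mk (maximalIdeal B) c := fun c => rfl
  haveI : Nontrivial (B ⧸ J) :=
    Ideal.Quotient.nontrivial_iff.mpr (fun h => (maximalIdeal.isMaximal B).ne_top (top_le_iff.mp (h ▸ hJle)))
  haveI : IsLocalRing (B ⧸ J) :=
    IsLocalRing.of_surjective' (Ideal.Quotient.mk J) Ideal.Quotient.mk_surjective
  have hIjac : I ≤ (⊥ : Ideal (B ⧸ J)).jacobson := by
    letI : Field (B ⧸ maximalIdeal B) := Ideal.Quotient.field (maximalIdeal B)
    have hImax : I.IsMaximal := RingHom.ker_isMaximal_of_surjective _ hsurj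
    rw [IsLocalRing.eq_maximalIdeal hImax, IsLocalRing.jacobson_eq_maximalIdeal ⊥ bot_ne_top]
  have hbI : Ideal.Quotient.mk J b ∈ I := by
    rw [hI, RingHom.mem_ker, hfac, Ideal.Quotient.eq_zero_iff_mem]
    exact hb
  have hIne : I ≠ ⊥ := by
    intro h0
    apply hb'
    have := h0 ▸ hbI
    rwa [Ideal.mem_bot, Ideal.Quotient.eq_zero_iff_mem] at this
  have hnot : ¬ (I ≤ I ^ 2) := by
    intro hle
    apply hIne
    exact Submodule.eq_bot_of_le_smul_of_le_jacobson_bot I I (IsNoetherian.noetherian I)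
      (by rwa [smul_eq_mul, ← pow_two]) hIjac
  obtain ⟨β, hβI, hβ2⟩ := SetLike.not_le_iff_exists.mp hnot
  obtain ⟨b', rfl⟩ := Ideal.Quotient.mk_surjective β
  have hb'm : b' ∈ maximalIdeal B := by
    have := hβI
    rw [hI, RingHom.mem_ker, hfac, Ideal.Quotient.eq_zero_iff_mem] at this
    exact this
  refine ⟨b', hb'm, fun h0 => ?_⟩
  have h1 : D A B b' ∈ maximalIdeal B • (⊤ : Submodule B Ω[B⁄A]) := by
    rw [← (TensorProduct.quotTensorEquivQuotSMul Ω[B⁄A] (maximalIdeal B)).map_eq_zero_iff,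
      TensorProduct.quotTensorEquivQuotSMul_mk_one_tmul, Submodule.Quotient.mk_eq_zero] at h0
    exact h0
  haveI : SMulCommClass (A ⧸ maximalIdeal A) B (B ⧸ J) :=
    ⟨fun s c z => by rw [Algebra.smul_def, Algebra.smul_def, Algebra.smul_def, Algebra.smul_def,
      mul_left_comm]⟩
  let Φ := KaehlerDifferential.map A (A ⧸ maximalIdeal A) B (B ⧸ J)
  have h2 : ∀ ω ∈ maximalIdeal B • (⊤ : Submodule B Ω[B⁄A]),
      (1 : B ⧸ maximalIdeal B) ⊗ₜ[B ⧸ J] Φ ω = 0 := by
    intro ω hω
    refine Submodule.smul_induction_on hω ?_ ?_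
    · intro m hm ω' _
      rw [map_smul, ← IsScalarTower.algebraMap_smul (B ⧸ J) m (Φ ω'), ← TensorProduct.smul_tmul,
        Algebra.smul_def, mul_one]
      have : algebraMap (B ⧸ J) (B ⧸ maximalIdeal B) (algebraMap B (B ⧸ J) m) = 0 := by
        show algebraMap (B ⧸ J) (B ⧸ maximalIdeal B) (Ideal.Quotient.mk J m) = 0
        rw [hfac, Ideal.Quotient.eq_zero_iff_mem]
        exact hm
      rw [this, TensorProduct.zero_tmul]
    · intro y z hy hz
      rw [map_add, TensorProduct.tmul_add, hy, hz, add_zero]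
  have h3 := h2 _ h1
  have hΦ : Φ (D A B b') = D (A ⧸ maximalIdeal A) (B ⧸ J) (Ideal.Quotient.mk J b') :=
    KaehlerDifferential.map_D _ _ _ _ b'
  rw [hΦ] at h3
  have h4 : kerCotangentToTensor (A ⧸ maximalIdeal A) (B ⧸ J) (B ⧸ maximalIdeal B)
      (I.toCotangent ⟨Ideal.Quotient.mk J b', hβI⟩) = 0 := by
    rw [kerCotangentToTensor_toCotangent]
    exact h3
  have h5 := hinj (h4.trans (map_zero _).symm)
  rw [Ideal.toCotangent_eq_zero] at h5
  exact hβ2 h5

end Local

end Groth.Agent.Helper3.CartSm
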