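import Mathlib
import Groth.Agent.Lib.Helper3.CartSm4
import Groth.Agent.Lib.Helper3.CartSm5
import Groth.Agent.Lib.Helper3.FibStalk2

/-! S9724: smooth Cartier divisor through a non-generic point of the fibre with separable residue
field (helper3). -/

set_option autoImplicit false
set_option backward.isDefEq.respectTransparency.types false
set_option synthInstance.maxHeartbeats 400000
universe u
namespace Groth.Agent.Helper3.CartSm

open AlgebraicGeometry CategoryTheory Limits TensorProduct KaehlerDifferential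

theorem formallySmooth_stalkMap_of_chart {X S : Scheme.{u}} (f : X ⟶ S) (x : X) (V : S.Opens)
    (hV : IsAffineOpen V) (U : X.Opens) (hU : IsAffineOpen U) (e : U ≤ f ⁻¹ᵁ V) (hx : x ∈ U)
    (hsm : letI := (f.appLE V U e).hom.toAlgebra; Algebra.Smooth Γ(S, V) Γ(X, U)) :
    (f.stalkMap x).hom.FormallySmooth := by
  letI := (f.appLE V U e).hom.toAlgebra
  rw [formallySmooth_stalkMap_iff V hV U hU e hx, Algebra.smoothLocus_eq_univ]
  exact Set.mem_univ _

theorem essFiniteType_stalkMap_of_chart {X S : Scheme.{u}} (f : X ⟶ S) (x : X) (V : S.Opens)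
    (hV : IsAffineOpen V) (U : X.Opens) (hU : IsAffineOpen U) (e : U ≤ f ⁻¹ᵁ V) (hx : x ∈ U)
    (hft : (f.appLE V U e).hom.FiniteType) :
    (f.stalkMap x).hom.EssFiniteType := by
  rw [RingHom.EssFiniteType.respectsIso.arrow_mk_iso_iff
    (IsAffineOpen.arrowStalkMapIso f V hV U hU e hx)]
  exact RingHom.EssFiniteType.holdsForLocalization.localRingHom
    RingHom.EssFiniteType.stableUnderComposition
    RingHom.EssFiniteType.isStableUnderBaseChange.localizationPreserves
    (congr($(IsAffineOpen.comap_primeIdealOf_appLE V hV U hU e hx).1).symm)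
    (RingHom.FiniteType.essFiniteType hft)

set_option maxHeartbeats 2000000 in
theorem S9724_main {X S : Scheme.{u}} (f : X ⟶ S) (x : X)
    (W : X.Opens) (hxW : x ∈ W) (hW : Smooth (W.ι ≫ f))
    (hsep : letI := (f.residueFieldMap x).hom.toAlgebra
      Algebra.FormallySmooth (S.residueField (f x)) (X.residueField x))
    (hgen : IsLocalRing.maximalIdeal ↑((f.fiber (f x)).presheaf.stalk (f.asFiber x)) ≠ ⊥) :
    ∃ (U : X.Opens) (hU : IsAffineOpen U) (hx : x ∈ U) (h' : Γ(X, U)),
      h' ∈ nonZeroDivisors Γ(X, U) ∧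
      X.presheaf.germ U x hx h' ∈ IsLocalRing.maximalIdeal ↑(X.presheaf.stalk x) ∧
      Smooth (Spec.map (CommRingCat.ofHom (Ideal.Quotient.mk (Ideal.span {h'}))) ≫
        hU.fromSpec ≫ f) := by
  obtain ⟨_, ⟨V, hV, rfl⟩, hxV, -⟩ :=
    S.isBasis_affineOpens.exists_subset_of_mem_open (Set.mem_univ (f x)) isOpen_univ
  obtain ⟨U₀, hU₀, hxU₀, e₀, hstd⟩ := (Groth.Agent.S9721.result f x V hV hxV).mp ⟨W, hxW, hW⟩
  letI a1 : Algebra ↑(S.presheaf.stalk (f x)) ↑(X.presheaf.stalk x) := (f.stalkMap x).hom.toAlgebra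
  haveI : IsLocalHom (algebraMap ↑(S.presheaf.stalk (f x)) ↑(X.presheaf.stalk x)) :=
    inferInstanceAs (IsLocalHom (f.stalkMap x).hom)
  haveI fs : Algebra.FormallySmooth ↑(S.presheaf.stalk (f x)) ↑(X.presheaf.stalk x) := by
    letI := (f.appLE V U₀ e₀).hom.toAlgebra
    haveI : Algebra.IsStandardSmooth Γ(S, V) Γ(X, U₀) := hstd
    have := formallySmooth_stalkMap_of_chart f x V hV U₀ hU₀ e₀ hxU₀ inferInstance
    exact RingHom.formallySmooth_algebraMap.mp this
  haveI eft : Algebra.EssFiniteType ↑(S.presheaf.stalk (f x)) ↑(X.presheaf.stalk x) := by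
    letI := (f.appLE V U₀ e₀).hom.toAlgebra
    haveI : Algebra.IsStandardSmooth Γ(S, V) Γ(X, U₀) := hstd
    haveI : Algebra.FiniteType Γ(S, V) Γ(X, U₀) := inferInstance
    have hft : (f.appLE V U₀ e₀).hom.FiniteType :=
      RingHom.finiteType_algebraMap.mpr (inferInstance : Algebra.FiniteType Γ(S, V) Γ(X, U₀))
    have := essFiniteType_stalkMap_of_chart f x V hV U₀ hU₀ e₀ hxU₀ hft
    exact RingHom.essFiniteType_algebraMap.mp this
  haveI hkk : Algebra.FormallySmooth
      (↑(S.presheaf.stalk (f x)) ⧸ IsLocalRing.maximalIdeal ↑(S.presheaf.stalk (f x)))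
      (↑(X.presheaf.stalk x) ⧸ IsLocalRing.maximalIdeal ↑(X.presheaf.stalk x)) := by
    have key : ∀ (i1 i2 : Algebra
        (↑(S.presheaf.stalk (f x)) ⧸ IsLocalRing.maximalIdeal ↑(S.presheaf.stalk (f x)))
        (↑(X.presheaf.stalk x) ⧸ IsLocalRing.maximalIdeal ↑(X.presheaf.stalk x))), i1 = i2 →
        @Algebra.FormallySmooth _ _ _ _ i1 → @Algebra.FormallySmooth _ _ _ _ i2 := by
      rintro _ _ rfl h
      exact h
    refine key (f.residueFieldMap x).hom.toAlgebra _ (Algebra.algebra_ext _ _ (fun r => ?_)) hsep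
    obtain ⟨a, rfl⟩ := Ideal.Quotient.mk_surjective r
    rfl
  obtain ⟨γ, hγ, hk⟩ := Groth.Agent.Helper3.FibStalk.exists_fibre_presentation f x
  obtain ⟨c, hc, hc0⟩ := Submodule.exists_mem_ne_zero_of_ne_bot hgen
  obtain ⟨b, rfl⟩ := hγ c
  have hbm : b ∈ IsLocalRing.maximalIdeal ↑(X.presheaf.stalk x) := by
    by_contra hb
    have hu : IsUnit b := by
      by_contra hnu
      exact hb ((IsLocalRing.mem_maximalIdeal b).mpr hnu)
    exact ((IsLocalRing.mem_maximalIdeal _).mp hc) (hu.map γ)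
  have hbJ : b ∉ (IsLocalRing.maximalIdeal ↑(S.presheaf.stalk (f x))).map
      (algebraMap ↑(S.presheaf.stalk (f x)) ↑(X.presheaf.stalk x)) := by
    intro hb
    apply hc0
    have : b ∈ RingHom.ker γ := by
      rw [hk]
      exact hb
    exact this
  obtain ⟨y, hym, hy⟩ := exists_D_ne_zero_aux ↑(S.presheaf.stalk (f x)) ↑(X.presheaf.stalk x)
    b hbm hbJ
  obtain ⟨U, hU, hx, h', hg, hnzd, hsm⟩ := S9725_main f x W hxW hW y hy
  exact ⟨U, hU, hx, h', hnzd, by rw [hg]; exact hym, hsm⟩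

end Groth.Agent.Helper3.CartSm
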