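import Mathlib

/-!
# Surjectivity of `C ↦ C_ij + C_ji − a_ji C_jj` for Cartan matrices of finite type

Key lemma (`exists_good`): every nonempty set `T` of simple roots contains a vertex with at most
one neighbour in `T`, joined to it by an edge on which it is the short (or equal) end.  Proved
with the positive definite canonical form, without any graph theory.
-/

open RootPairing

namespace Groth.Agent.Helper3.CartanSurj

universe u v w x

variable {ι : Type u} {R : Type v} {M : Type w} {N : Type x} [CommRing R] [IsDomain R] [CharZero R]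
    [AddCommGroup M] [Module R M] [AddCommGroup N] [Module R N] (P : RootPairing ι R M N)
    [Finite ι] [P.IsCrystallographic] [P.IsReduced] (b : P.Base)

omit [Finite ι] [P.IsReduced] in
lemma pairingIn_zero_symm {i j : ι} (h : P.pairingIn ℤ i j = 0) : P.pairingIn ℤ j i = 0 := by
  have : Module.IsReflexive R M := .of_isPerfPair P.toLinearMap
  exact P.pairingIn_eq_zero_iff.mp h

include b in
lemma pair_fact {i j : ι} (hi : i ∈ b.support) (hj : j ∈ b.support) (hij : i ≠ j) :
    (P.pairingIn ℤ i j = 0 ∧ P.pairingIn ℤ j i = 0) ∨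
    (P.pairingIn ℤ i j = -1 ∧ P.pairingIn ℤ j i ≤ -1) ∨
    (P.pairingIn ℤ j i = -1 ∧ P.pairingIn ℤ i j ≤ -1) := by
  have h1 := P.pairingIn_pairingIn_mem_set_of_isCrystal_of_isRed' i j
    (fun h => hij (P.root.injective h)) (b.root_ne_neg_of_ne hi hj hij)
  have h2 := b.pairingIn_le_zero_of_ne hij hi hj
  have h3 := b.pairingIn_le_zero_of_ne hij.symm hj hi
  simp only [Set.mem_insert_iff, Set.mem_singleton_iff, Prod.mk.injEq] at h1
  omega

open Classical in
/-- the neighbours of `v` inside `T` -/
noncomputable def nbr (T : Finset ι) (v : ι) : Finset ι :=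
  T.filter (fun u => u ≠ v ∧ P.pairingIn ℤ u v ≠ 0)

omit [IsDomain R] [CharZero R] [Finite ι] [P.IsReduced] in
lemma mem_nbr {T : Finset ι} {v u : ι} :
    u ∈ nbr P T v ↔ u ∈ T ∧ u ≠ v ∧ P.pairingIn ℤ u v ≠ 0 := by
  classical
  simp [nbr]

include b in
lemma exists_good (T : Finset ι) (hT : T ⊆ b.support) (hne : T.Nonempty) :
    ∃ v ∈ T, (nbr P T v).card ≤ 1 ∧ ∀ u ∈ nbr P T v, P.pairingIn ℤ v u = -1 := by
  classical
  by_contra hcon
  push Not at hcon
  letI : Fintype ι := Fintype.ofFinite ι
  set c : ι → ℤ := fun v => if (nbr P T v).card ≤ 1 then 1 else 2 with hc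
  have hc1 : ∀ v, 1 ≤ c v := by
    intro v
    simp only [hc]
    split_ifs <;> norm_num
  have hcle : ∀ v, (nbr P T v).card ≤ 1 → c v = 1 := fun v h => by simp [hc, h]
  have hcgt : ∀ v, ¬ (nbr P T v).card ≤ 1 → c v = 2 := fun v h => by simp [hc, h]
  -- each neighbour contributes at most `-2`
  have hterm : ∀ v ∈ T, ∀ u ∈ nbr P T v, c u * P.pairingIn ℤ u v ≤ -2 := by
    intro v hv u hu
    obtain ⟨huT, huv, hne0⟩ := (mem_nbr P).mp hu
    have hle : P.pairingIn ℤ u v ≤ 0 := b.pairingIn_le_zero_of_ne huv (hT huT) (hT hv)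
    by_cases hcu : (nbr P T u).card ≤ 1
    · rw [hcle u hcu, one_mul]
      obtain ⟨u', hu', hne1⟩ := hcon u huT hcu
      have hvu : v ∈ nbr P T u :=
        (mem_nbr P).mpr ⟨hv, huv.symm, fun h => hne0 (pairingIn_zero_symm P h)⟩
      have h' : u' = v := Finset.card_le_one.mp hcu u' hu' v hvu
      rw [h'] at hne1
      omega
    · rw [hcgt u hcu]
      omega
  set p : ι → ℤ := fun k => ∑ u ∈ T, c u * P.pairingIn ℤ u k with hp
  have hpv : ∀ v ∈ T, p v ≤ 0 := by
    intro v hv
    have hsub : nbr P T v ⊆ T := fun u hu => ((mem_nbr P).mp hu).1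
    have hsplit : p v = c v * 2 + ∑ u ∈ nbr P T v, c u * P.pairingIn ℤ u v := by
      simp only [hp]
      rw [← Finset.sum_sdiff hsub]
      congr 1
      rw [Finset.sum_eq_single_of_mem v]
      · rw [P.pairingIn_same ℤ v]
      · rw [Finset.mem_sdiff]
        exact ⟨hv, fun h => ((mem_nbr P).mp h).2.1 rfl⟩
      · intro u hu huv
        rw [Finset.mem_sdiff] at hu
        have h0 : P.pairingIn ℤ u v = 0 := by
          by_contra h0
          exact hu.2 ((mem_nbr P).mpr ⟨hu.1, huv, h0⟩)
        rw [h0, mul_zero]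
    rw [hsplit]
    by_cases hcv : (nbr P T v).card ≤ 1
    · rw [hcle v hcv]
      obtain ⟨u, hu, -⟩ := hcon v hv hcv
      have hsingle : nbr P T v = {u} :=
        Finset.eq_singleton_iff_unique_mem.mpr
          ⟨hu, fun y hy => Finset.card_le_one.mp hcv y hy u hu⟩
      rw [hsingle, Finset.sum_singleton]
      have := hterm v hv u hu
      linarith
    · rw [hcgt v hcv]
      have h2 : 2 ≤ (nbr P T v).card := by omega
      have hsum : ∑ u ∈ nbr P T v, c u * P.pairingIn ℤ u v ≤ ∑ _u ∈ nbr P T v, (-2 : ℤ) :=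
        Finset.sum_le_sum (fun u hu => hterm v hv u hu)
      rw [Finset.sum_const, nsmul_eq_mul] at hsum
      have h2' : (2 : ℤ) ≤ ((nbr P T v).card : ℤ) := by exact_mod_cast h2
      linarith
  -- the element `x = ∑ c_u α_u`
  set xM : M := ∑ u ∈ T, (c u : R) • P.root u with hx
  have hcoroot : ∀ k, P.coroot' k xM = ((p k : ℤ) : R) := by
    intro k
    simp only [hx, hp, map_sum, map_smul, smul_eq_mul, Int.cast_sum, Int.cast_mul]
    refine Finset.sum_congr rfl fun u _ => ?_
    rw [P.root_coroot'_eq_pairing, ← P.algebraMap_pairingIn ℤ, eq_intCast]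
  have hform : ∀ v, (2 : R) * P.RootForm xM (P.root v) =
      ((p v : ℤ) : R) * P.RootForm (P.root v) (P.root v) := by
    intro v
    have h1 : P.RootForm xM (P.root v) =
        ∑ u ∈ T, (c u : R) * P.RootForm (P.root u) (P.root v) := by
      simp only [hx, map_sum, map_smul, LinearMap.sum_apply, LinearMap.smul_apply, smul_eq_mul]
    have h2 : ((p v : ℤ) : R) = ∑ u ∈ T, (c u : R) * P.pairing u v := by
      simp only [hp, Int.cast_sum, Int.cast_mul]
      refine Finset.sum_congr rfl fun u _ => ?_
      rw [← P.algebraMap_pairingIn ℤ, eq_intCast]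
    rw [h1, h2, Finset.mul_sum, Finset.sum_mul]
    refine Finset.sum_congr rfl fun u _ => ?_
    have h3 := (P.toInvariantForm).two_mul_apply_root_root u v
    simp only [toInvariantForm_form] at h3
    linear_combination (c u : R) * h3
  have hself : P.RootForm xM xM = ∑ k, ((p k : ℤ) : R) * ((p k : ℤ) : R) := by
    rw [P.rootForm_apply_apply]
    refine Finset.sum_congr rfl fun k _ => ?_
    rw [hcoroot]
  have hself2 : P.RootForm xM xM = ∑ v ∈ T, (c v : R) * P.RootForm xM (P.root v) := by
    calc P.RootForm xM xM = P.RootForm xM (∑ v ∈ T, (c v : R) • P.root v) := by rw [← hx]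
      _ = ∑ v ∈ T, (c v : R) * P.RootForm xM (P.root v) := by
        simp only [map_sum, map_smul, smul_eq_mul]
  set L : ι → ℤ := fun v => ∑ k, P.pairingIn ℤ v k * P.pairingIn ℤ v k with hLdef
  have hL : ∀ v, P.RootForm (P.root v) (P.root v) = ((L v : ℤ) : R) := by
    intro v
    rw [P.rootForm_root_self v]
    simp only [hLdef, Int.cast_sum, Int.cast_mul]
    refine Finset.sum_congr rfl fun k _ => ?_
    rw [← P.algebraMap_pairingIn ℤ, eq_intCast]
  have hint : 2 * ∑ k, p k * p k = ∑ v ∈ T, c v * (p v * L v) := by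
    apply Int.cast_injective (α := R)
    push_cast
    rw [← hself, hself2, Finset.mul_sum]
    refine Finset.sum_congr rfl fun v _ => ?_
    rw [← hL v]
    linear_combination (c v : R) * hform v
  have hL0 : ∀ v, 0 ≤ L v := fun v => Finset.sum_nonneg fun k _ => mul_self_nonneg _
  have hrhs : ∑ v ∈ T, c v * (p v * L v) ≤ 0 := by
    refine Finset.sum_nonpos fun v hv => ?_
    refine mul_nonpos_iff.mpr (Or.inl ⟨by linarith [hc1 v], ?_⟩)
    exact mul_nonpos_iff.mpr (Or.inr ⟨hpv v hv, hL0 v⟩)
  have hsq0 : ∑ k, p k * p k = 0 := by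
    have h0 : 0 ≤ ∑ k, p k * p k := Finset.sum_nonneg fun k _ => mul_self_nonneg _
    linarith
  have hpk : ∀ k, p k = 0 := by
    intro k
    have := (Finset.sum_eq_zero_iff_of_nonneg (fun k _ => mul_self_nonneg (p k))).mp hsq0 k
      (Finset.mem_univ k)
    exact mul_self_eq_zero.mp this
  have hker : xM ∈ LinearMap.ker P.RootForm := by
    rw [LinearMap.mem_ker]
    ext y
    rw [P.rootForm_apply_apply]
    simp only [LinearMap.zero_apply]
    refine Finset.sum_eq_zero fun k _ => ?_
    rw [hcoroot, hpk k, Int.cast_zero, zero_mul]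
  have hspan : xM ∈ P.rootSpan R := by
    rw [hx]
    exact Submodule.sum_mem _ fun u _ =>
      Submodule.smul_mem _ _ (Submodule.subset_span ⟨u, rfl⟩)
  have hx0 : xM = 0 :=
    Submodule.disjoint_def.mp P.disjoint_rootSpan_ker_rootForm xM hspan hker
  have hli := linearIndepOn_iff'.mp b.linearIndepOn_root T (fun u => (c u : R))
    (by exact_mod_cast hT) hx0
  obtain ⟨v, hv⟩ := hne
  have h0 := hli v hv
  have h1 := hc1 v
  simp only [Int.cast_eq_zero] at h0
  omega

include b in
lemma exists_diag (d : ι → ι → ℤ)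
    (hd : ∀ i ∈ b.support, ∀ j ∈ b.support, i ≠ j → P.pairingIn ℤ i j = 0 → d i j = d j i) :
    ∀ (n : ℕ) (T : Finset ι), T.card = n → T ⊆ b.support →
      ∃ c : ι → ℤ, ∀ i ∈ T, ∀ j ∈ T, i ≠ j →
        d i j + P.pairingIn ℤ j i * c j = d j i + P.pairingIn ℤ i j * c i := by
  classical
  intro n
  induction n with
  | zero =>
    intro T hcard _
    rw [Finset.card_eq_zero] at hcard
    subst hcard
    exact ⟨fun _ => 0, fun i hi => absurd hi (Finset.notMem_empty i)⟩
  | succ n ih =>
    intro T hcard hT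
    have hne : T.Nonempty := by
      rw [← Finset.card_pos]; omega
    obtain ⟨v, hv, hcardv, hgood⟩ := exists_good P b T hT hne
    obtain ⟨c', hc'⟩ := ih (T.erase v) (by rw [Finset.card_erase_of_mem hv, hcard]; rfl)
      ((Finset.erase_subset v T).trans hT)
    by_cases hN : (nbr P T v).Nonempty
    · obtain ⟨u₀, hu₀⟩ := hN
      have huniq : ∀ u ∈ nbr P T v, u = u₀ :=
        fun u hu => Finset.card_le_one.mp hcardv u hu u₀ hu₀
      have ha : P.pairingIn ℤ v u₀ = -1 := hgood u₀ hu₀
      refine ⟨Function.update c' v (d u₀ v - d v u₀ - P.pairingIn ℤ u₀ v * c' u₀), ?_⟩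
      intro i hi j hj hij
      by_cases hiv : i = v
      · subst hiv
        have hjv : j ≠ i := fun h => hij h.symm
        rw [Function.update_self, Function.update_of_ne hjv]
        by_cases h0 : P.pairingIn ℤ j i = 0
        · simp only [h0, pairingIn_zero_symm P h0, zero_mul, add_zero]
          exact hd i (hT hi) j (hT hj) hij (pairingIn_zero_symm P h0)
        · have h' : j = u₀ := huniq j ((mem_nbr P).mpr ⟨hj, hjv, h0⟩)
          subst h'
          rw [ha]; ring
      · by_cases hjv : j = v
        · subst hjv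
          rw [Function.update_self, Function.update_of_ne hiv]
          by_cases h0 : P.pairingIn ℤ i j = 0
          · simp only [h0, pairingIn_zero_symm P h0, zero_mul, add_zero]
            exact hd i (hT hi) j (hT hj) hij h0
          · have h' : i = u₀ := huniq i ((mem_nbr P).mpr ⟨hi, hiv, h0⟩)
            subst h'
            rw [ha]; ring
        · rw [Function.update_of_ne hiv, Function.update_of_ne hjv]
          exact hc' i (Finset.mem_erase.mpr ⟨hiv, hi⟩) j (Finset.mem_erase.mpr ⟨hjv, hj⟩) hij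
    · rw [Finset.not_nonempty_iff_eq_empty] at hN
      have hzero : ∀ j ∈ T, j ≠ v → P.pairingIn ℤ j v = 0 := by
        intro j hj hjv
        by_contra h0
        have h' : j ∈ nbr P T v := (mem_nbr P).mpr ⟨hj, hjv, h0⟩
        rw [hN] at h'
        exact Finset.notMem_empty _ h'
      refine ⟨c', ?_⟩
      intro i hi j hj hij
      by_cases hiv : i = v
      · subst hiv
        have h0 := hzero j hj (fun h => hij h.symm)
        simp only [h0, pairingIn_zero_symm P h0, zero_mul, add_zero]
        exact hd i (hT hi) j (hT hj) hij (pairingIn_zero_symm P h0)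
      · by_cases hjv : j = v
        · subst hjv
          have h0 := hzero i hi hiv
          simp only [h0, pairingIn_zero_symm P h0, zero_mul, add_zero]
          exact hd i (hT hi) j (hT hj) hij h0
        · exact hc' i (Finset.mem_erase.mpr ⟨hiv, hi⟩) j (Finset.mem_erase.mpr ⟨hjv, hj⟩) hij

include b in
theorem main (d : ι → ι → ℤ)
    (hd : ∀ i ∈ b.support, ∀ j ∈ b.support, i ≠ j → P.pairingIn ℤ i j = 0 → d i j = d j i) :
    ∃ C : ι → ι → ℤ, ∀ i ∈ b.support, ∀ j ∈ b.support, i ≠ j →
      C i j + C j i - P.pairingIn ℤ j i * C j j = d i j := by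
  classical
  obtain ⟨c, hc⟩ := exists_diag P b d hd b.support.card b.support rfl (Finset.Subset.refl _)
  obtain ⟨n, ⟨e⟩⟩ := Finite.exists_equiv_fin ι
  refine ⟨fun i j => if i = j then c i else
    if e i < e j then d i j + P.pairingIn ℤ j i * c j else 0, ?_⟩
  intro i hi j hj hij
  have hji : j ≠ i := hij.symm
  have heq := hc i hi j hj hij
  simp only [hij, hji, ↓reduceIte]
  rcases lt_trichotomy (e i) (e j) with h | h | h
  · rw [if_pos h, if_neg (not_lt.mpr h.le)]; ring
  · exact absurd (e.injective h) hij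
  · rw [if_neg (not_lt.mpr h.le), if_pos h]; linarith

end Groth.Agent.Helper3.CartanSurj
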