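import Mathlib

/-!
# Categorical quotients of affine schemes: abstract form

`Spec B → Spec C` is a categorical quotient (in schemes) of a pair `ρ, ι : B → T` as soon as
`C` is the equaliser, there is a `C`-linear retraction `E : B → C` and `E` is computed by a
`ι`-linear map `L : T → B` composed with `ρ`.
-/

set_option autoImplicit false
universe u

open CategoryTheory AlgebraicGeometry TensorProduct

namespace Groth.Agent.Helper3.CatQuot

/-- A morphism from an affine scheme landing in an affine open factors through it. -/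
theorem exists_factor {Z : Scheme.{u}} {U : Z.Opens} (hU : IsAffineOpen U) {R : CommRingCat.{u}}
    (t : Spec R ⟶ Z) (ht : ∀ x : Spec R, t x ∈ U) :
    ∃ θ : Γ(Z, U) ⟶ R, t = Spec.map θ ≫ hU.fromSpec := by
  have H : Set.range t ⊆ Set.range hU.fromSpec := by
    rw [hU.range_fromSpec]
    rintro _ ⟨x, rfl⟩
    exact ht x
  refine ⟨Spec.preimage (IsOpenImmersion.lift hU.fromSpec t H), ?_⟩
  rw [Spec.map_preimage, IsOpenImmersion.lift_fac]

theorem factor_unique {Z : Scheme.{u}} {U : Z.Opens} (hU : IsAffineOpen U) {R : CommRingCat.{u}}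
    (θ θ' : Γ(Z, U) ⟶ R) (h : Spec.map θ ≫ hU.fromSpec = Spec.map θ' ≫ hU.fromSpec) : θ = θ' :=
  Spec.map_injective ((cancel_mono hU.fromSpec).mp h)

theorem awayMap_injective {C B : Type u} [CommRing C] [CommRing B] (φ : C →+* B)
    (hφ : Function.Injective φ) (r : C) : Function.Injective (Localization.awayMap φ r) := by
  rw [Localization.awayMap_injective_iff]
  intro a ha
  refine ⟨0, ?_⟩
  rw [pow_zero, one_mul]
  exact hφ (by rw [ha, map_zero])

theorem sq_away {C B : Type u} [CommRing C] [CommRing B] (φ : C →+* B) (r : C) :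
    Spec.map (CommRingCat.ofHom (Localization.awayMap φ r)) ≫
        Spec.map (CommRingCat.ofHom (algebraMap C (Localization.Away r))) =
      Spec.map (CommRingCat.ofHom (algebraMap B (Localization.Away (φ r)))) ≫
        Spec.map (CommRingCat.ofHom φ) := by
  have hring : (Localization.awayMap φ r).comp (algebraMap C (Localization.Away r)) =
      (algebraMap B (Localization.Away (φ r))).comp φ := IsLocalization.map_comp _
  rw [← Spec.map_comp, ← Spec.map_comp, ← CommRingCat.ofHom_comp, ← CommRingCat.ofHom_comp, hring]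

theorem not_mem_of_away {C : Type u} [CommRing C] (r : C)
    (x : Spec (CommRingCat.of (Localization.Away r))) :
    r ∉ (Spec.map (CommRingCat.ofHom (algebraMap C (Localization.Away r))) x).asIdeal := by
  have : Spec.map (CommRingCat.ofHom (algebraMap C (Localization.Away r))) x ∈
      Set.range (PrimeSpectrum.comap (algebraMap C (Localization.Away r))) := ⟨x, rfl⟩
  rw [PrimeSpectrum.localization_away_comap_range (Localization.Away r) r] at this
  exact (PrimeSpectrum.mem_basicOpen r _).mp this

theorem comap_surjective_of_retraction {C B : Type u} [CommRing C] [CommRing B] [Algebra C B]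
    (E : B →ₗ[C] C) (hE : E 1 = 1) (q : PrimeSpectrum C) :
    ∃ p : PrimeSpectrum B, PrimeSpectrum.comap (algebraMap C B) p = q := by
  have key : ∀ y ∈ Ideal.map (algebraMap C B) q.asIdeal, ∀ b : B, E (b * y) ∈ q.asIdeal := by
    intro y hy
    refine Submodule.span_induction ?_ ?_ ?_ ?_ hy
    · rintro _ ⟨c, hc, rfl⟩ b
      have : b * algebraMap C B c = c • b := by rw [Algebra.smul_def, mul_comm]
      rw [this, map_smul, smul_eq_mul]
      exact q.asIdeal.mul_mem_right _ hc
    · intro b; simp
    · intro y y' _ _ hy hy' b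
      rw [mul_add, map_add]; exact q.asIdeal.add_mem (hy b) (hy' b)
    · intro a y _ hy b
      rw [smul_eq_mul, ← mul_assoc]; exact hy (b * a)
  have hcm : (q.asIdeal.map (algebraMap C B)).comap (algebraMap C B) = q.asIdeal := by
    apply le_antisymm
    · intro x hx
      rw [Ideal.mem_comap] at hx
      have h1 := key _ hx 1
      rw [one_mul] at h1
      have h2 : E (algebraMap C B x) = x := by
        rw [Algebra.algebraMap_eq_smul_one, map_smul, hE, smul_eq_mul, mul_one]
      rwa [h2] at h1
    · exact Ideal.le_comap_map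
  obtain ⟨p, hp, hpq⟩ := (Ideal.comap_map_eq_self_iff_of_isPrime q.asIdeal).mp hcm
  exact ⟨⟨p, hp⟩, PrimeSpectrum.ext hpq⟩

theorem injective_of_retraction {C B : Type u} [CommRing C] [CommRing B] [Algebra C B]
    (E : B →ₗ[C] C) (hE : E 1 = 1) : Function.Injective (algebraMap C B) := by
  intro a b hab
  have h2 : ∀ x : C, E (algebraMap C B x) = x := by
    intro x
    rw [Algebra.algebraMap_eq_smul_one, map_smul, hE, smul_eq_mul, mul_one]
  rw [← h2 a, ← h2 b, hab]

/-- Two morphisms out of `Spec C` agreeing on `Spec B` agree on a basic open whose image lies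
in a common affine open. -/
theorem local_eq {C B : Type u} [CommRing C] [CommRing B] [Algebra C B]
    (hinj : Function.Injective (algebraMap C B))
    {Z : Scheme.{u}} (g g' : Spec (CommRingCat.of C) ⟶ Z)
    (h : Spec.map (CommRingCat.ofHom (algebraMap C B)) ≫ g =
      Spec.map (CommRingCat.ofHom (algebraMap C B)) ≫ g')
    (r : C) {U : Z.Opens} (hU : IsAffineOpen U)
    (hg : ∀ x : Spec (CommRingCat.of C), r ∉ x.asIdeal → g x ∈ U)
    (hg' : ∀ x : Spec (CommRingCat.of C), r ∉ x.asIdeal → g' x ∈ U) :
    Spec.map (CommRingCat.ofHom (algebraMap C (Localization.Away r))) ≫ g =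
      Spec.map (CommRingCat.ofHom (algebraMap C (Localization.Away r))) ≫ g' := by
  obtain ⟨θ, hθ⟩ := exists_factor hU
    (Spec.map (CommRingCat.ofHom (algebraMap C (Localization.Away r))) ≫ g)
    (fun x => by rw [Scheme.Hom.comp_apply]; exact hg _ (not_mem_of_away r x))
  obtain ⟨θ', hθ'⟩ := exists_factor hU
    (Spec.map (CommRingCat.ofHom (algebraMap C (Localization.Away r))) ≫ g')
    (fun x => by rw [Scheme.Hom.comp_apply]; exact hg' _ (not_mem_of_away r x))
  have h1 : Spec.map (CommRingCat.ofHom (Localization.awayMap (algebraMap C B) r)) ≫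
        Spec.map θ ≫ hU.fromSpec =
      Spec.map (CommRingCat.ofHom (Localization.awayMap (algebraMap C B) r)) ≫
        Spec.map θ' ≫ hU.fromSpec := by
    rw [← hθ, ← hθ', ← Category.assoc, ← Category.assoc, sq_away, Category.assoc, Category.assoc, h]
  rw [← Category.assoc, ← Category.assoc, cancel_mono, ← Spec.map_comp, ← Spec.map_comp] at h1
  have h2 := Spec.map_injective h1
  have h3 : θ = θ' := by
    ext s
    apply awayMap_injective _ hinj r
    have h4 := congrArg (fun m => m.hom s) h2
    simp only [CommRingCat.hom_comp, CommRingCat.hom_ofHom, RingHom.comp_apply] at h4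
    exact h4
  rw [hθ, hθ', h3]

/-- `Spec B → Spec C` is an epimorphism of schemes when `C → B` has a `C`-linear retraction. -/
theorem epi_of_retraction {C B : Type u} [CommRing C] [CommRing B] [Algebra C B]
    (E : B →ₗ[C] C) (hE : E 1 = 1) {Z : Scheme.{u}}
    (g g' : Spec (CommRingCat.of C) ⟶ Z)
    (h : Spec.map (CommRingCat.ofHom (algebraMap C B)) ≫ g =
      Spec.map (CommRingCat.ofHom (algebraMap C B)) ≫ g') : g = g' := by
  have hinj := injective_of_retraction E hE
  obtain ⟨S, hS⟩ : ∃ S : Set C, S = {r | Spec.map (CommRingCat.ofHom (algebraMap C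
      (Localization.Away r))) ≫ g = Spec.map (CommRingCat.ofHom (algebraMap C
      (Localization.Away r))) ≫ g'} := ⟨_, rfl⟩
  have hspan : Ideal.span S = ⊤ := by
    by_contra hne
    obtain ⟨m, hm, hle⟩ := Ideal.exists_le_maximal _ hne
    obtain ⟨q, hq⟩ : ∃ q : Spec (CommRingCat.of C), q.asIdeal = m :=
      ⟨(⟨m, hm.isPrime⟩ : PrimeSpectrum C), rfl⟩
    obtain ⟨p, hp⟩ := comap_surjective_of_retraction E hE q
    have hp' : Spec.map (CommRingCat.ofHom (algebraMap C B)) p = q := hp
    have hgq : g q = g' q := by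
      have e1 : (Spec.map (CommRingCat.ofHom (algebraMap C B)) ≫ g) p =
          (Spec.map (CommRingCat.ofHom (algebraMap C B)) ≫ g') p := by rw [h]
      rw [Scheme.Hom.comp_apply, Scheme.Hom.comp_apply, hp'] at e1
      exact e1
    obtain ⟨U, hU, hqU, -⟩ := exists_isAffineOpen_mem_and_subset (x := g q) (U := ⊤)
      (TopologicalSpace.Opens.mem_top _)
    have hqU' : g' q ∈ U := hgq ▸ hqU
    have hb : ∀ {V : TopologicalSpace.Opens (PrimeSpectrum C)} {x : PrimeSpectrum C}, x ∈ V →
        ∃ U' ∈ Set.range (PrimeSpectrum.basicOpen (R := C)), x ∈ U' ∧ U' ≤ V :=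
      TopologicalSpace.Opens.isBasis_iff_nbhd.mp (PrimeSpectrum.isBasis_basic_opens (R := C))
    have hqV : q ∈ (g ⁻¹ᵁ U ⊓ g' ⁻¹ᵁ U : (Spec (CommRingCat.of C)).Opens) := ⟨hqU, hqU'⟩
    obtain ⟨_, ⟨r, rfl⟩, hqr, hrsub⟩ := hb hqV
    have hrq : r ∉ q.asIdeal := (PrimeSpectrum.mem_basicOpen r q).mp hqr
    have hrS : r ∈ S := by
      rw [hS]
      refine local_eq hinj g g' h r hU ?_ ?_
      · intro x hx
        exact (hrsub ((PrimeSpectrum.mem_basicOpen r x).mpr hx)).1
      · intro x hx
        exact (hrsub ((PrimeSpectrum.mem_basicOpen r x).mpr hx)).2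
    apply hrq
    rw [hq]
    exact hle (Ideal.subset_span hrS)
  have hspan' : Ideal.span (Set.range fun s : S => (s : C)) = ⊤ := by
    rw [Subtype.range_coe]; exact hspan
  have key : ∀ s : S, Spec.map (CommRingCat.ofHom (algebraMap C (Localization.Away (s : C)))) ≫ g =
      Spec.map (CommRingCat.ofHom (algebraMap C (Localization.Away (s : C)))) ≫ g' := by
    intro s
    exact (Set.ext_iff.mp hS (s : C)).mp s.2
  exact Scheme.Cover.hom_ext (Scheme.affineOpenCoverOfSpanRangeEqTop (R := CommRingCat.of C)
    (fun s : S => (s : C)) hspan').openCover g g' key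

/-- The equaliser of the localised pair is the localisation of the equaliser. -/
theorem eqLocus_away {B T : Type u} [CommRing B] [CommRing T] (ρ ι : B →+* T) (f : B)
    (hf : ρ f = ι f)
    (ρf ιf : Localization.Away f →+* Localization.Away (ι f))
    (hρ : ρf.comp (algebraMap B (Localization.Away f)) =
      (algebraMap T (Localization.Away (ι f))).comp ρ)
    (hι : ιf.comp (algebraMap B (Localization.Away f)) =
      (algebraMap T (Localization.Away (ι f))).comp ι)
    (x : Localization.Away f) (hx : ρf x = ιf x) :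
    ∃ (n : ℕ) (c : B), ρ c = ι c ∧
      x * algebraMap B (Localization.Away f) f ^ n = algebraMap B (Localization.Away f) c := by
  obtain ⟨n, b, hb⟩ := IsLocalization.Away.surj f x
  have e1 : ρf x * algebraMap T (Localization.Away (ι f)) (ι f) ^ n =
      algebraMap T (Localization.Away (ι f)) (ρ b) := by
    have h0 := congrArg ρf hb
    rw [map_mul, map_pow] at h0
    have h1 : ρf (algebraMap B _ f) = algebraMap T _ (ρ f) := RingHom.congr_fun hρ f
    have h2 : ρf (algebraMap B _ b) = algebraMap T _ (ρ b) := RingHom.congr_fun hρ b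
    rw [h1, h2, hf] at h0
    exact h0
  have e2 : ιf x * algebraMap T (Localization.Away (ι f)) (ι f) ^ n =
      algebraMap T (Localization.Away (ι f)) (ι b) := by
    have h0 := congrArg ιf hb
    rw [map_mul, map_pow] at h0
    have h1 : ιf (algebraMap B _ f) = algebraMap T _ (ι f) := RingHom.congr_fun hι f
    have h2 : ιf (algebraMap B _ b) = algebraMap T _ (ι b) := RingHom.congr_fun hι b
    rw [h1, h2] at h0
    exact h0
  have e3 : algebraMap T (Localization.Away (ι f)) (ρ b) =
      algebraMap T (Localization.Away (ι f)) (ι b) := by rw [← e1, ← e2, hx]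
  obtain ⟨m, hm⟩ := IsLocalization.Away.exists_of_eq (ι f) e3
  refine ⟨n + m, f ^ m * b, ?_, ?_⟩
  · rw [map_mul, map_mul, map_pow, map_pow, hf, hm]
  · rw [pow_add, ← mul_assoc, hb, map_mul, map_pow, mul_comm]

theorem L_mem {B T : Type u} [CommRing B] [CommRing T] (ι : B →+* T) (L : T →+ B)
    (hL : ∀ (b : B) (y : T), L (ι b * y) = b * L y) (J : Ideal B) (y : T)
    (hy : y ∈ Ideal.map ι J) : L y ∈ J := by
  have key : ∀ y ∈ Ideal.map ι J, ∀ t : T, L (t * y) ∈ J := by
    intro y hy
    refine Submodule.span_induction ?_ ?_ ?_ ?_ hy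
    · rintro _ ⟨j, hj, rfl⟩ t
      rw [mul_comm, hL]
      exact J.mul_mem_right _ hj
    · intro t; simp
    · intro y y' _ _ h h' t
      rw [mul_add, map_add]; exact J.add_mem (h t) (h' t)
    · intro a y _ h t
      rw [smul_eq_mul, ← mul_assoc]; exact h (t * a)
  have := key y hy 1
  rwa [one_mul] at this

/-- Local construction of the quotient morphism on a basic open of `Spec C`. -/
theorem local_exists {B T C : Type u} [CommRing B] [CommRing T] [CommRing C] [Algebra C B]
    (ρ ι : B →+* T)
    (hinj : Function.Injective (algebraMap C B))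
    (hC : ∀ b : B, ρ b = ι b → ∃ c : C, algebraMap C B c = b)
    {Z : Scheme.{u}} (ψ : Spec (CommRingCat.of B) ⟶ Z)
    (hψ : Spec.map (CommRingCat.ofHom ρ) ≫ ψ = Spec.map (CommRingCat.ofHom ι) ≫ ψ)
    (f : C) (hf : ρ (algebraMap C B f) = ι (algebraMap C B f))
    {U : Z.Opens} (hU : IsAffineOpen U)
    (hfU : ∀ x : Spec (CommRingCat.of B), algebraMap C B f ∉ x.asIdeal → ψ x ∈ U) :
    ∃ χ : Spec (CommRingCat.of (Localization.Away f)) ⟶ Z,
      Spec.map (CommRingCat.ofHom (Localization.awayMap (algebraMap C B) f)) ≫ χ =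
        Spec.map (CommRingCat.ofHom (algebraMap B (Localization.Away (algebraMap C B f)))) ≫ ψ := by
  -- the localised pair
  have hunit : IsUnit (((algebraMap T (Localization.Away (ι (algebraMap C B f)))).comp ρ)
      (algebraMap C B f)) := by
    rw [RingHom.comp_apply, hf]
    exact IsLocalization.Away.algebraMap_isUnit _
  obtain ⟨ρf, hρf⟩ : ∃ ρf : Localization.Away (algebraMap C B f) →+*
      Localization.Away (ι (algebraMap C B f)),
      ρf.comp (algebraMap B (Localization.Away (algebraMap C B f))) =
        (algebraMap T (Localization.Away (ι (algebraMap C B f)))).comp ρ :=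
    ⟨IsLocalization.Away.lift (algebraMap C B f) hunit, IsLocalization.Away.lift_comp _ _⟩
  obtain ⟨ιf, hιf⟩ : ∃ ιf : Localization.Away (algebraMap C B f) →+*
      Localization.Away (ι (algebraMap C B f)),
      ιf.comp (algebraMap B (Localization.Away (algebraMap C B f))) =
        (algebraMap T (Localization.Away (ι (algebraMap C B f)))).comp ι :=
    ⟨Localization.awayMap ι (algebraMap C B f), IsLocalization.map_comp _⟩
  -- factor through `U`
  obtain ⟨θ, hθ⟩ := exists_factor hU
    (Spec.map (CommRingCat.ofHom (algebraMap B (Localization.Away (algebraMap C B f)))) ≫ ψ)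
    (fun x => by rw [Scheme.Hom.comp_apply]; exact hfU _ (not_mem_of_away _ x))
  have sq1 : Spec.map (CommRingCat.ofHom ρf) ≫
      Spec.map (CommRingCat.ofHom (algebraMap B (Localization.Away (algebraMap C B f)))) =
      Spec.map (CommRingCat.ofHom (algebraMap T (Localization.Away (ι (algebraMap C B f))))) ≫
        Spec.map (CommRingCat.ofHom ρ) := by
    rw [← Spec.map_comp, ← Spec.map_comp, ← CommRingCat.ofHom_comp, ← CommRingCat.ofHom_comp, hρf]
  have sq2 : Spec.map (CommRingCat.ofHom ιf) ≫
      Spec.map (CommRingCat.ofHom (algebraMap B (Localization.Away (algebraMap C B f)))) =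
      Spec.map (CommRingCat.ofHom (algebraMap T (Localization.Away (ι (algebraMap C B f))))) ≫
        Spec.map (CommRingCat.ofHom ι) := by
    rw [← Spec.map_comp, ← Spec.map_comp, ← CommRingCat.ofHom_comp, ← CommRingCat.ofHom_comp, hιf]
  have hinv : Spec.map (CommRingCat.ofHom ρf) ≫ Spec.map θ ≫ hU.fromSpec =
      Spec.map (CommRingCat.ofHom ιf) ≫ Spec.map θ ≫ hU.fromSpec := by
    rw [← hθ, ← Category.assoc, ← Category.assoc, sq1, sq2, Category.assoc, Category.assoc, hψ]
  rw [← Category.assoc, ← Category.assoc, cancel_mono, ← Spec.map_comp, ← Spec.map_comp] at hinv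
  have hinv2 := Spec.map_injective hinv
  have hinv3 : ∀ s, ρf (θ.hom s) = ιf (θ.hom s) := by
    intro s
    have h4 := congrArg (fun m => m.hom s) hinv2
    simp only [CommRingCat.hom_comp, CommRingCat.hom_ofHom, RingHom.comp_apply] at h4
    exact h4
  have hφinj := awayMap_injective _ hinj f
  have hrange : ∀ s, θ.hom s ∈ (Localization.awayMap (algebraMap C B) f).range := by
    intro s
    obtain ⟨n, c, hc, hx⟩ := eqLocus_away ρ ι (algebraMap C B f) hf ρf ιf hρf hιf (θ.hom s)
      (hinv3 s)
    obtain ⟨c₀, rfl⟩ := hC c hc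
    refine ⟨IsLocalization.mk' (Localization.Away f) c₀
      (⟨f ^ n, n, rfl⟩ : Submonoid.powers f), ?_⟩
    have hu : IsUnit (algebraMap B (Localization.Away (algebraMap C B f)) (algebraMap C B f) ^ n) :=
      IsLocalization.Away.algebraMap_pow_isUnit _ n
    apply hu.mul_left_injective
    simp only
    rw [hx]
    have e1 : algebraMap B (Localization.Away (algebraMap C B f)) (algebraMap C B f) ^ n =
        Localization.awayMap (algebraMap C B) f (algebraMap C (Localization.Away f) (f ^ n)) := by
      rw [show Localization.awayMap (algebraMap C B) f (algebraMap C (Localization.Away f) (f ^ n)) =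
        algebraMap B _ (algebraMap C B (f ^ n)) from IsLocalization.map_eq _ _, map_pow, map_pow]
    rw [e1, ← map_mul, IsLocalization.mk'_spec]
    exact IsLocalization.map_eq _ _
  obtain ⟨θ₀, hθ₀⟩ : ∃ θ₀ : Γ(Z, U) →+* Localization.Away f,
      (Localization.awayMap (algebraMap C B) f).comp θ₀ = θ.hom := by
    let e : Localization.Away f ≃+* (Localization.awayMap (algebraMap C B) f).range :=
      RingEquiv.ofBijective (Localization.awayMap (algebraMap C B) f).rangeRestrict
        ⟨fun a b hab => hφinj (congrArg Subtype.val hab),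
          (Localization.awayMap (algebraMap C B) f).rangeRestrict_surjective⟩
    refine ⟨(e.symm : (Localization.awayMap (algebraMap C B) f).range →+*
      Localization.Away f).comp (θ.hom.codRestrict _ hrange), ?_⟩
    ext s
    have := e.apply_symm_apply ⟨θ.hom s, hrange s⟩
    exact congrArg Subtype.val this
  refine ⟨Spec.map (CommRingCat.ofHom θ₀) ≫ hU.fromSpec, ?_⟩
  rw [hθ, ← Category.assoc, ← Spec.map_comp, ← CommRingCat.ofHom_comp, hθ₀, CommRingCat.ofHom_hom]

end Groth.Agent.Helper3.CatQuot
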