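import Mathlib
import Groth.Agent.Lib.Helper3.CatQuot1

/-!
# Categorical quotients of affine schemes: gluing and the abstract theorem
-/

set_option autoImplicit false
universe u

open CategoryTheory AlgebraicGeometry TensorProduct CategoryTheory.Limits

namespace Groth.Agent.Helper3.CatQuot

/-- One side of the compatibility: after base change along `C''`, the local piece composed with
`Spec C'' → Spec C_s` is `ψ` restricted to `Spec (C'' ⊗ B)`. -/
theorem one_side {C B C'' : Type u} [CommRing C] [CommRing B] [CommRing C''] [Algebra C B]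
    [Algebra C C''] {Z : Scheme.{u}} (ψ : Spec (CommRingCat.of B) ⟶ Z) (s : C)
    (χ : Spec (CommRingCat.of (Localization.Away s)) ⟶ Z)
    (hχ : Spec.map (CommRingCat.ofHom (Localization.awayMap (algebraMap C B) s)) ≫ χ =
      Spec.map (CommRingCat.ofHom (algebraMap B (Localization.Away (algebraMap C B s)))) ≫ ψ)
    (a : Localization.Away s →+* C'')
    (ha : a.comp (algebraMap C (Localization.Away s)) = algebraMap C C'') :
    Spec.map (CommRingCat.ofHom (algebraMap C'' (C'' ⊗[C] B))) ≫ Spec.map (CommRingCat.ofHom a) ≫ χ =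
      Spec.map (CommRingCat.ofHom
        (Algebra.TensorProduct.includeRight : B →ₐ[C] C'' ⊗[C] B).toRingHom) ≫ ψ := by
  have hkey : ∀ c : C, (1 : C'') ⊗ₜ[C] (algebraMap C B c) = (algebraMap C C'' c) ⊗ₜ[C] (1 : B) := by
    intro c
    rw [Algebra.algebraMap_eq_smul_one, Algebra.algebraMap_eq_smul_one (A := C''),
      TensorProduct.smul_tmul]
  have hunit : IsUnit ((Algebra.TensorProduct.includeRight : B →ₐ[C] C'' ⊗[C] B).toRingHom
      (algebraMap C B s)) := by
    have h1 : IsUnit (a (algebraMap C (Localization.Away s) s)) :=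
      (IsLocalization.Away.algebraMap_isUnit s).map a
    have h2 : a (algebraMap C (Localization.Away s) s) = algebraMap C C'' s :=
      RingHom.congr_fun ha s
    rw [h2] at h1
    have h3 := h1.map (Algebra.TensorProduct.includeLeftRingHom : C'' →+* C'' ⊗[C] B)
    have h4 : (Algebra.TensorProduct.includeRight : B →ₐ[C] C'' ⊗[C] B).toRingHom
        (algebraMap C B s) = (Algebra.TensorProduct.includeLeftRingHom : C'' →+* C'' ⊗[C] B)
          (algebraMap C C'' s) := hkey s
    rw [h4]
    exact h3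
  obtain ⟨β, hβ⟩ : ∃ β : Localization.Away (algebraMap C B s) →+* C'' ⊗[C] B,
      β.comp (algebraMap B (Localization.Away (algebraMap C B s))) =
        (Algebra.TensorProduct.includeRight : B →ₐ[C] C'' ⊗[C] B).toRingHom :=
    ⟨IsLocalization.Away.lift (algebraMap C B s) hunit, IsLocalization.Away.lift_comp _ _⟩
  have hii : β.comp (Localization.awayMap (algebraMap C B) s) =
      (algebraMap C'' (C'' ⊗[C] B)).comp a := by
    apply IsLocalization.ringHom_ext (Submonoid.powers s)
    ext c
    simp only [RingHom.comp_apply]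
    have e1 : Localization.awayMap (algebraMap C B) s (algebraMap C (Localization.Away s) c) =
        algebraMap B (Localization.Away (algebraMap C B s)) (algebraMap C B c) :=
      IsLocalization.map_eq _ c
    have e2 : β (algebraMap B (Localization.Away (algebraMap C B s)) (algebraMap C B c)) =
        (1 : C'') ⊗ₜ[C] (algebraMap C B c) := RingHom.congr_fun hβ (algebraMap C B c)
    have e3 : a (algebraMap C (Localization.Away s) c) = algebraMap C C'' c := RingHom.congr_fun ha c
    rw [e1, e2, e3, hkey c]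
    rfl
  calc Spec.map (CommRingCat.ofHom (algebraMap C'' (C'' ⊗[C] B))) ≫ Spec.map (CommRingCat.ofHom a) ≫ χ
      = Spec.map (CommRingCat.ofHom ((algebraMap C'' (C'' ⊗[C] B)).comp a)) ≫ χ := by
        rw [← Category.assoc, ← Spec.map_comp, ← CommRingCat.ofHom_comp]
    _ = Spec.map (CommRingCat.ofHom β) ≫
          Spec.map (CommRingCat.ofHom (Localization.awayMap (algebraMap C B) s)) ≫ χ := by
        rw [← hii, CommRingCat.ofHom_comp, Spec.map_comp, Category.assoc]
    _ = Spec.map (CommRingCat.ofHom β) ≫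
          Spec.map (CommRingCat.ofHom (algebraMap B (Localization.Away (algebraMap C B s)))) ≫ ψ := by
        rw [hχ]
    _ = _ := by
        rw [← Category.assoc, ← Spec.map_comp, ← CommRingCat.ofHom_comp, hβ]

/-- Compatibility of two local pieces over any common `C`-algebra `C''`. -/
theorem compat {C B C'' : Type u} [CommRing C] [CommRing B] [CommRing C''] [Algebra C B]
    [Algebra C C''] (E : B →ₗ[C] C) (hE : E 1 = 1)
    {Z : Scheme.{u}} (ψ : Spec (CommRingCat.of B) ⟶ Z) (s s' : C)
    (χ : Spec (CommRingCat.of (Localization.Away s)) ⟶ Z)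
    (hχ : Spec.map (CommRingCat.ofHom (Localization.awayMap (algebraMap C B) s)) ≫ χ =
      Spec.map (CommRingCat.ofHom (algebraMap B (Localization.Away (algebraMap C B s)))) ≫ ψ)
    (χ' : Spec (CommRingCat.of (Localization.Away s')) ⟶ Z)
    (hχ' : Spec.map (CommRingCat.ofHom (Localization.awayMap (algebraMap C B) s')) ≫ χ' =
      Spec.map (CommRingCat.ofHom (algebraMap B (Localization.Away (algebraMap C B s')))) ≫ ψ)
    (a : Localization.Away s →+* C'')
    (ha : a.comp (algebraMap C (Localization.Away s)) = algebraMap C C'')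
    (a' : Localization.Away s' →+* C'')
    (ha' : a'.comp (algebraMap C (Localization.Away s')) = algebraMap C C'') :
    Spec.map (CommRingCat.ofHom a) ≫ χ = Spec.map (CommRingCat.ofHom a') ≫ χ' := by
  -- the retraction after base change
  let E'' : C'' ⊗[C] B →ₗ[C''] C'' :=
    (TensorProduct.AlgebraTensorModule.rid C C'' C'').toLinearMap ∘ₗ (LinearMap.baseChange C'' E)
  have hE'' : E'' 1 = 1 := by
    show (TensorProduct.AlgebraTensorModule.rid C C'' C'') ((LinearMap.baseChange C'' E) 1) = 1
    rw [Algebra.TensorProduct.one_def, LinearMap.baseChange_tmul, hE,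
      TensorProduct.AlgebraTensorModule.rid_tmul, one_smul]
  apply epi_of_retraction E'' hE''
  rw [one_side ψ s χ hχ a ha, one_side ψ s' χ' hχ' a' ha']

/-- **Abstract categorical quotient.** -/
theorem catQuot {B T C : Type u} [CommRing B] [CommRing T] [CommRing C] [Algebra C B]
    (ρ ι : B →+* T)
    (hC : ∀ b : B, ρ b = ι b ↔ ∃ c : C, algebraMap C B c = b)
    (E : B →ₗ[C] C) (hE : E 1 = 1)
    (L : T →+ B) (hL : ∀ (b : B) (y : T), L (ι b * y) = b * L y)
    (hEL : ∀ b : B, algebraMap C B (E b) = L (ρ b))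
    {Z : Scheme.{u}} (ψ : Spec (CommRingCat.of B) ⟶ Z)
    (hψ : Spec.map (CommRingCat.ofHom ρ) ≫ ψ = Spec.map (CommRingCat.ofHom ι) ≫ ψ) :
    ∃! χ : Spec (CommRingCat.of C) ⟶ Z,
      Spec.map (CommRingCat.ofHom (algebraMap C B)) ≫ χ = ψ := by
  have hinj := injective_of_retraction E hE
  have hCf : ∀ c : C, ρ (algebraMap C B c) = ι (algebraMap C B c) := fun c => (hC _).mpr ⟨c, rfl⟩
  obtain ⟨S, hS⟩ : ∃ S : Set C, S = {f | ∃ U : Z.Opens, IsAffineOpen U ∧
      ∀ x : Spec (CommRingCat.of B), algebraMap C B f ∉ x.asIdeal → ψ x ∈ U} := ⟨_, rfl⟩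
  -- Step 1: the good elements generate the unit ideal
  have hspan : Ideal.span S = ⊤ := by
    obtain ⟨ψ', hψ', hψ'c⟩ : ∃ ψ' : PrimeSpectrum B → Z,
        (∀ x : Spec (CommRingCat.of B), ψ' x = ψ x) ∧ Continuous ψ' :=
      ⟨fun x => ψ x, fun _ => rfl, ψ.continuous⟩
    obtain ⟨W, hW⟩ : ∃ W : Z.affineOpens → Set (PrimeSpectrum B),
        W = fun U => {x : PrimeSpectrum B | ψ' x ∉ U.1} := ⟨_, rfl⟩
    have hWmem : ∀ (U : Z.affineOpens) (x : PrimeSpectrum B), x ∈ W U ↔ ψ' x ∉ U.1 := by
      intro U x; rw [hW]; rfl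
    have hWcl : ∀ U : Z.affineOpens, IsClosed (W U) := by
      intro U
      have h1 : IsOpen (ψ' ⁻¹' (U.1 : Set Z)) := U.1.2.preimage hψ'c
      have h2 : W U = (ψ' ⁻¹' (U.1 : Set Z))ᶜ := by rw [hW]; rfl
      rw [h2]; exact h1.isClosed_compl
    obtain ⟨J, hJ⟩ : ∃ J : Z.affineOpens → Ideal B,
        J = fun U => PrimeSpectrum.vanishingIdeal (W U) := ⟨_, rfl⟩
    obtain ⟨I, hI⟩ : ∃ I : Z.affineOpens → Ideal B,
        I = fun U => Ideal.comap ρ (Ideal.map ι (J U)) := ⟨_, rfl⟩
    have hJmem : ∀ (U : Z.affineOpens) (b : B), b ∈ J U ↔ ∀ x ∈ W U, b ∈ x.asIdeal := by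
      intro U b; rw [hJ]; exact PrimeSpectrum.mem_vanishingIdeal _ _
    have hImem : ∀ (U : Z.affineOpens) (b : B), b ∈ I U ↔ ρ b ∈ Ideal.map ι (J U) := by
      intro U b; rw [hI]; exact Ideal.mem_comap
    have hcl : ∀ U : Z.affineOpens, PrimeSpectrum.zeroLocus (J U : Set B) = W U := by
      intro U
      rw [hJ]
      show PrimeSpectrum.zeroLocus ((PrimeSpectrum.vanishingIdeal (W U) : Ideal B) : Set B) = W U
      rw [PrimeSpectrum.zeroLocus_vanishingIdeal_eq_closure]
      exact (hWcl U).closure_eq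
    -- Claim A
    have hA : ∀ (U : Z.affineOpens) (b : B), b ∈ I U → E b ∈ S := by
      intro U b hb
      rw [hS]
      refine ⟨U.1, U.2, fun x hx => ?_⟩
      by_contra hxU
      apply hx
      have hxW : (x : PrimeSpectrum B) ∈ W U := (hWmem U x).mpr (by rw [hψ' x]; exact hxU)
      have h1 : algebraMap C B (E b) ∈ J U := by
        rw [hEL]
        exact L_mem ι L hL (J U) _ ((hImem U b).mp hb)
      exact (hJmem U _).mp h1 x hxW
    -- Claim B
    have hB : ⨆ U, I U = ⊤ := by
      by_contra hne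
      obtain ⟨m, hm, hle⟩ := Ideal.exists_le_maximal _ hne
      obtain ⟨x₀, hx₀⟩ : ∃ x₀ : PrimeSpectrum B, x₀.asIdeal = m :=
        ⟨(⟨m, hm.isPrime⟩ : PrimeSpectrum B), rfl⟩
      obtain ⟨U, hU, hxU, -⟩ := exists_isAffineOpen_mem_and_subset (x := ψ' x₀) (U := ⊤)
        (TopologicalSpace.Opens.mem_top _)
      obtain ⟨U', hU'⟩ : ∃ U' : Z.affineOpens, U'.1 = U := ⟨⟨U, hU⟩, rfl⟩
      have hx₀W : x₀ ∉ W U' := by
        rw [hWmem, hU']
        exact fun h => h hxU
      obtain ⟨b₀, hb₀J, hb₀m⟩ : ∃ b₀ ∈ J U', b₀ ∉ x₀.asIdeal := by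
        rw [← hcl U', PrimeSpectrum.mem_zeroLocus] at hx₀W
        exact Set.not_subset.mp hx₀W
      have hrad : ρ b₀ ∈ (Ideal.map ι (J U')).radical := by
        rw [← PrimeSpectrum.vanishingIdeal_zeroLocus_eq_radical, PrimeSpectrum.mem_vanishingIdeal]
        intro t ht
        rw [PrimeSpectrum.mem_zeroLocus] at ht
        have h1 : PrimeSpectrum.comap ι t ∈ W U' := by
          rw [← hcl U', PrimeSpectrum.mem_zeroLocus]
          intro j hj
          exact ht (Ideal.mem_map_of_mem ι hj)
        have e : (Spec.map (CommRingCat.ofHom ρ) ≫ ψ) t = (Spec.map (CommRingCat.ofHom ι) ≫ ψ) t := by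
          rw [hψ]
        rw [Scheme.Hom.comp_apply, Scheme.Hom.comp_apply] at e
        have h2 : ψ' (PrimeSpectrum.comap ρ t) = ψ' (PrimeSpectrum.comap ι t) :=
          (hψ' (Spec.map (CommRingCat.ofHom ρ) t)).trans
            (e.trans (hψ' (Spec.map (CommRingCat.ofHom ι) t)).symm)
        have h3 : PrimeSpectrum.comap ρ t ∈ W U' :=
          (hWmem U' _).mpr (by rw [h2]; exact (hWmem U' _).mp h1)
        exact (hJmem U' b₀).mp hb₀J _ h3
      obtain ⟨n, hn⟩ := hrad
      have hbI : b₀ ^ n ∈ I U' := by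
        rw [hImem, map_pow]; exact hn
      have hbm : b₀ ^ n ∈ m := hle (le_iSup I U' hbI)
      rw [← hx₀] at hbm
      exact hb₀m (x₀.2.mem_of_pow_mem n hbm)
    have h1 : (1 : B) ∈ ⨆ U, I U := by rw [hB]; trivial
    have h2 : E 1 ∈ Ideal.span S := by
      refine Submodule.iSup_induction I (motive := fun b => E b ∈ Ideal.span S) h1 ?_ ?_ ?_
      · intro U b hb; exact Ideal.subset_span (hA U b hb)
      · simp
      · intro x y hx hy; rw [map_add]; exact Ideal.add_mem _ hx hy
    rw [hE] at h2
    exact (Ideal.eq_top_iff_one _).mpr h2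
  -- Step 2: local pieces
  have hloc : ∀ s : S, ∃ χ : Spec (CommRingCat.of (Localization.Away (s : C))) ⟶ Z,
      Spec.map (CommRingCat.ofHom (Localization.awayMap (algebraMap C B) (s : C))) ≫ χ =
        Spec.map (CommRingCat.ofHom (algebraMap B
          (Localization.Away (algebraMap C B (s : C))))) ≫ ψ := by
    intro s
    obtain ⟨U, hU, hfU⟩ := (Set.ext_iff.mp hS (s : C)).mp s.2
    exact local_exists ρ ι hinj (fun b hb => (hC b).mp hb) ψ hψ (s : C) (hCf _) hU hfU
  choose χs hχs using hloc
  -- Step 3: glue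
  have hspan' : Ideal.span (Set.range fun s : S => (s : C)) = ⊤ := by
    rw [Subtype.range_coe]; exact hspan
  obtain ⟨𝒰, h𝒰⟩ : ∃ 𝒰 : (Spec (CommRingCat.of C)).OpenCover,
      𝒰 = (Scheme.affineOpenCoverOfSpanRangeEqTop (R := CommRingCat.of C)
        (fun s : S => (s : C)) hspan').openCover := ⟨_, rfl⟩
  subst h𝒰
  have hcompat : ∀ s s' : S,
      pullback.fst (Spec.map (CommRingCat.ofHom (algebraMap C (Localization.Away (s : C)))))
        (Spec.map (CommRingCat.ofHom (algebraMap C (Localization.Away (s' : C))))) ≫ χs s =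
      pullback.snd (Spec.map (CommRingCat.ofHom (algebraMap C (Localization.Away (s : C)))))
        (Spec.map (CommRingCat.ofHom (algebraMap C (Localization.Away (s' : C))))) ≫ χs s' := by
    intro s s'
    rw [← cancel_epi (pullbackSpecIso C (Localization.Away (s : C)) (Localization.Away (s' : C))).inv,
      pullbackSpecIso_inv_fst_assoc, pullbackSpecIso_inv_snd_assoc]
    refine compat E hE ψ (s : C) (s' : C) (χs s) (hχs s) (χs s') (hχs s') _ ?_ _ ?_
    · ext c
      simp [Algebra.TensorProduct.algebraMap_apply]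
    · ext c
      simp only [RingHom.comp_apply]
      show (1 : Localization.Away (s : C)) ⊗ₜ[C] (algebraMap C (Localization.Away (s' : C)) c) =
        algebraMap C (Localization.Away (s : C) ⊗[C] Localization.Away (s' : C)) c
      rw [Algebra.TensorProduct.algebraMap_apply, Algebra.algebraMap_eq_smul_one,
        Algebra.algebraMap_eq_smul_one (A := Localization.Away (s : C)), TensorProduct.smul_tmul]
  let χ : Spec (CommRingCat.of C) ⟶ Z :=
    Scheme.Cover.glueMorphisms ((Scheme.affineOpenCoverOfSpanRangeEqTop (R := CommRingCat.of C)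
        (fun s : S => (s : C)) hspan').openCover) χs hcompat
  have hglue : ∀ s : S, Spec.map (CommRingCat.ofHom (algebraMap C (Localization.Away (s : C)))) ≫ χ =
      χs s := fun s =>
    Scheme.Cover.ι_glueMorphisms ((Scheme.affineOpenCoverOfSpanRangeEqTop (R := CommRingCat.of C)
        (fun s : S => (s : C)) hspan').openCover) χs hcompat s
  -- Step 4
  have hχ : Spec.map (CommRingCat.ofHom (algebraMap C B)) ≫ χ = ψ := by
    have hspanB : Ideal.span (Set.range fun s : S => algebraMap C B (s : C)) = ⊤ := by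
      have : Set.range (fun s : S => algebraMap C B (s : C)) = algebraMap C B '' S := by
        ext b; constructor
        · rintro ⟨s, rfl⟩; exact ⟨s, s.2, rfl⟩
        · rintro ⟨c, hc, rfl⟩; exact ⟨⟨c, hc⟩, rfl⟩
      rw [this, ← Ideal.map_span, hspan, Ideal.map_top]
    have key : ∀ s : S,
        Spec.map (CommRingCat.ofHom (algebraMap B (Localization.Away (algebraMap C B (s : C))))) ≫
          Spec.map (CommRingCat.ofHom (algebraMap C B)) ≫ χ =
        Spec.map (CommRingCat.ofHom (algebraMap B (Localization.Away (algebraMap C B (s : C))))) ≫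
          ψ := by
      intro s
      rw [← Category.assoc, ← sq_away, Category.assoc, hglue s, hχs s]
    exact Scheme.Cover.hom_ext (Scheme.affineOpenCoverOfSpanRangeEqTop (R := CommRingCat.of B)
      (fun s : S => algebraMap C B (s : C)) hspanB).openCover _ _ key
  refine ⟨χ, hχ, fun χ' hχ' => ?_⟩
  exact epi_of_retraction E hE χ' χ (by rw [hχ', hχ])

end Groth.Agent.Helper3.CatQuot
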