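import Mathlib
import Groth.Prelude.Def_DRing3
import Groth.Prelude.Def_DRing4
import Groth.Prelude.Def_DerCA
import Groth.Prelude.Def_DTen
import Groth.Agent.Lib.Helper5.RHomK.AwayAway
import Groth.Agent.Lib.Helper5.RHomK.QisFirst
import Groth.Agent.Lib.Helper5.RHomK.RHomComplete
import Groth.Agent.Lib.Helper5.RHomE.HomH
import Groth.Agent.Lib.Helper5.HomCx.UnitIso
import Groth.Agent.Lib.Helper6.ExtCech
import Groth.Agent.Lib.Helper9.FlatKernel

/-!
# Derived completion as `RHom(extended Čech complex, -)` (helper3)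

`K^∧ ≅ RHom_A(Č, K)` for `Č = extCech A fs`, `I = (fs)`.

Route: (1) `RHom(Č, K)` is derived complete (curry + braiding + universal property of localisation:
`Hom•(A_g, Hom•(Č, J)) ≅ Hom•(Č_g, Hom•(A_g, J))` and `Č_g` is acyclic);
(2) for derived complete `M`, `M → RHom(Č, M)` is an isomorphism (induction on `fs`);
(3) helper5's `rhom_completion`.
-/

set_option autoImplicit false
set_option linter.unusedSectionVars false
set_option linter.unusedVariables false
universe u
open CategoryTheory CategoryTheory.Limits CochainComplex CochainComplex.HomComplex MonoidalCategory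
  Pretriangulated

attribute [local instance] HasDerivedCategory.standard

namespace Groth.Agent.Helper3.CechComp1

open Groth.Agent.Lib.Helper5.HomCx

variable {A : Type u} [CommRing A]

/-! ### generalities -/

lemma acyclic_of_iso' {K L : DRing.Cx A} (e : K ≅ L) (h : K.Acyclic) : L.Acyclic := fun n =>
  (HomologicalComplex.exactAt_iff_isZero_homology _ _).2
    (((HomologicalComplex.exactAt_iff_isZero_homology _ _).1 (h n)).of_iso
      ((HomologicalComplex.homologyFunctor _ _ n).mapIso e.symm))

/-- `Hom•(N, X)` is acyclic for acyclic `N` and K-injective `X` -/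
theorem acyclic_homCx_of_acyclic (N X : DRing.Cx A) [X.IsKInjective] (hN : N.Acyclic) :
    (DRing.homCx N X).Acyclic := by
  intro n
  rw [HomologicalComplex.exactAt_iff' _ (n - 1) n (n + 1) (by simp) (by simp),
    ShortComplex.moduleCat_exact_iff]
  intro (z : Cochain N X n) hz
  obtain ⟨y, hy⟩ := IsKInjective.eq_δ_of_cocycle (Cocycle.mk z (n + 1) rfl hz) hN (n - 1)
    (by omega)
  exact ⟨y, hy⟩

lemma subsingleton_hom_of_acyclic (W E : DRing.Cx A) [E.IsKInjective]
    (hac : (DRing.homCx W E).Acyclic) (n : ℤ) :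
    Subsingleton (DerivedCategory.Q.obj W ⟶ (DerivedCategory.Q.obj E)⟦n⟧) := by
  haveI : Subsingleton ((DRing.homCx W E).homology n) := by
    rw [← ModuleCat.isZero_iff_subsingleton]
    exact (HomologicalComplex.exactAt_iff_isZero_homology _ _).1 (hac n)
  exact (Helper5.RHomE.homCxHomologyEquiv W E n).symm.toEquiv.subsingleton

/-! ### localisation -/

section Loc
variable (S : Submonoid A) (C X : DRing.Cx A)

theorem precomp_loc_bijective
    (hX : ∀ (s : S) (q : ℤ), IsUnit (algebraMap A (Module.End A (X.X q)) (s : A))) (n : ℤ) :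
    Function.Bijective (precompLin (DerCA.locCxUnit S C) X n) := by
  constructor
  · intro z z' h
    have h' : (Cochain.ofHom (DerCA.locCxUnit S C)).comp z (zero_add n) =
        (Cochain.ofHom (DerCA.locCxUnit S C)).comp z' (zero_add n) := h
    refine Cochain.ext _ _ (fun p q hpq => ?_)
    have h1 := Cochain.congr_v h' p q hpq
    rw [Cochain.zero_cochain_comp_v, Cochain.zero_cochain_comp_v, Cochain.ofHom_v] at h1
    apply ModuleCat.hom_ext
    refine IsLocalizedModule.ext S (LocalizedModule.mkLinearMap S (C.X p)) (fun s => hX s q) ?_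
    exact congrArg ModuleCat.Hom.hom h1
  · intro y
    refine ⟨Cochain.mk (fun p q hpq => (ModuleCat.ofHom
      (LocalizedModule.lift S (y.v p q hpq).hom (fun s => hX s q)) :
        ((DerCA.locCx S).obj C).X p ⟶ X.X q)), ?_⟩
    change (Cochain.ofHom (DerCA.locCxUnit S C)).comp _ (zero_add n) = y
    refine Cochain.ext _ _ (fun p q hpq => ?_)
    rw [Cochain.zero_cochain_comp_v, Cochain.ofHom_v, Cochain.mk_v]
    apply ModuleCat.hom_ext
    exact LocalizedModule.lift_comp S (y.v p q hpq).hom (fun s => hX s q)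

theorem isIso_homCxPre_loc
    (hX : ∀ (s : S) (q : ℤ), IsUnit (algebraMap A (Module.End A (X.X q)) (s : A))) :
    IsIso (homCxPre (DerCA.locCxUnit S C) X) := by
  haveI : ∀ n, IsIso ((homCxPre (DerCA.locCxUnit S C) X).f n) := fun n => by
    rw [ConcreteCategory.isIso_iff_bijective]
    exact precomp_loc_bijective S C X hX n
  exact HomologicalComplex.Hom.isIso_of_components _

end Loc

/-- the termwise localisation at `h` of a complex with `h`-power torsion cohomology is acyclic -/
theorem acyclic_locCx_of_torsion (h : A) (C : DRing.Cx A)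
    (ht : ∀ (q : ℤ) (w : C.homology q), ∃ n : ℕ, h ^ n • w = 0) :
    ((DerCA.locCx (Submonoid.powers h)).obj C).Acyclic := by
  intro q
  rw [HomologicalComplex.exactAt_iff_isZero_homology, ModuleCat.isZero_iff_subsingleton]
  refine ⟨fun x y => ?_⟩
  suffices H : ∀ z : ((DerCA.locCx (Submonoid.powers h)).obj C).homology q, z = 0 by
    rw [H x, H y]
  intro z
  obtain ⟨s, w, hsw⟩ :=
    Groth.Agent.Lib.Helper6.ExtCech.exists_smul_eq_map (Submonoid.powers h) C q z
  obtain ⟨n, hn⟩ := ht q w
  have h1 : (h ^ n * (s : A)) • z = 0 := by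
    rw [mul_smul, hsw, ← map_smul, hn, map_zero]
  exact Groth.Agent.Lib.Helper6.ExtCech.eq_zero_of_smul_eq_zero (Submonoid.powers h) C q z
    (⟨h ^ n, n, rfl⟩ * s) h1

/-- elements of `S` act invertibly on a termwise localisation at `S` (in `D(A)`) -/
theorem isIso_smul_locCx (S : Submonoid A) (s : S) (K : DRing.Cx A) :
    IsIso ((s : A) • 𝟙 (DerivedCategory.Q.obj ((DerCA.locCx S).obj K))) := by
  have hc : IsIso ((s : A) • 𝟙 ((DerCA.locCx S).obj K)) := by
    haveI : ∀ n : ℤ, IsIso (((s : A) • 𝟙 ((DerCA.locCx S).obj K)).f n) := by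
      intro n
      rw [ConcreteCategory.isIso_iff_bijective]
      have h := IsLocalizedModule.map_units (LocalizedModule.mkLinearMap S (K.X n)) s
      exact (Module.End.isUnit_iff _).1 h
    exact HomologicalComplex.Hom.isIso_of_components _
  have hq : DerivedCategory.Q.map ((s : A) • 𝟙 ((DerCA.locCx S).obj K)) =
      (s : A) • 𝟙 (DerivedCategory.Q.obj ((DerCA.locCx S).obj K)) := by
    simp only [Functor.map_smul, CategoryTheory.Functor.map_id]
  rw [← hq]
  infer_instance

/-! ### the extended Čech complex is K-flat -/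

theorem flat_terms : ∀ (fs : List A) (q : ℤ),
    Module.Flat A ((DerCA.extCech (ModuleCat.of A A) fs).X q) := by
  intro fs
  induction fs with
  | nil =>
    intro q
    by_cases hq : q = 0
    · subst hq
      exact Groth.Agent.Lib.Helper5.KFlat.flat_of_iso
        (HomologicalComplex.singleObjXSelf (ComplexShape.up ℤ) 0 (ModuleCat.of A A)).symm
        (inferInstanceAs (Module.Flat A A))
    · exact Groth.Agent.Lib.Helper5.KFlat.flat_of_isZero
        (HomologicalComplex.isZero_single_obj_X (ComplexShape.up ℤ) 0 _ q hq)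
  | cons g fs ih =>
    intro q
    refine Groth.Agent.Lib.Helper5.KFlat.flat_of_iso (DerCA.mappingCoconeXIso
      (DerCA.locCxUnit (Submonoid.powers g) (DerCA.extCech (ModuleCat.of A A) fs)) q).symm ?_
    haveI := ih q
    haveI : Module.Flat A (((DerCA.locCx (Submonoid.powers g)).obj
        (DerCA.extCech (ModuleCat.of A A) fs)).X (q - 1)) := by
      haveI := ih (q - 1)
      change Module.Flat A (LocalizedModule (Submonoid.powers g)
        ((DerCA.extCech (ModuleCat.of A A) fs).X (q - 1)))
      exact Module.Flat.trans A (Localization (Submonoid.powers g)) _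
    exact Groth.Agent.Lib.Helper5.KFlat.flat_of_iso (ModuleCat.biprodIsoProd _ _).symm
      Groth.Agent.Helper9.flat_prod

theorem isKFlat_extCech (fs : List A) :
    DRing.IsKFlat A (DerCA.extCech (ModuleCat.of A A) fs) :=
  Groth.Agent.Lib.Helper5.KFlat.isKFlat_of_bounded_above _ (fs.length : ℤ)
    (fun i hi => Groth.Agent.Lib.Helper6.ExtCech.isZero_terms _ fs i (Or.inr hi))
    (flat_terms fs)

/-! ### invertible scalars on Hom complexes -/

lemma isIso_smul_single (a : A) (M : ModuleCat.{u} A)
    (hM : Function.Bijective (fun m : M => a • m)) : IsIso (a • 𝟙 (Helper5.RHomK.S M)) := by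
  haveI : ∀ n, IsIso ((a • 𝟙 (Helper5.RHomK.S M)).f n) := fun n => by
    by_cases hn : n = 0
    · subst hn
      exact Groth.Agent.Lib.Helper6.ExtCech.actsIso_of_iso a
        (HomologicalComplex.singleObjXSelf (ComplexShape.up ℤ) 0 M).symm
        (Groth.Agent.Lib.Helper6.ExtCech.actsIso_of_bijective a M hM)
    · exact Groth.Agent.Lib.Helper6.ExtCech.actsIso_of_isZero a
        (HomologicalComplex.isZero_single_obj_X (ComplexShape.up ℤ) 0 M n hn)
  exact HomologicalComplex.Hom.isIso_of_components _

lemma bijective_smul_cochain (a : A) (W J : DRing.Cx A) [IsIso (a • 𝟙 W)] (q : ℤ) :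
    Function.Bijective (fun z : Cochain W J q => a • z) := by
  rw [Function.bijective_iff_has_inverse]
  have h2 : ∀ φ : W ⟶ W, Cochain.ofHom (a • φ) = a • Cochain.ofHom φ := by
    intro φ
    ext p
    simp
  have h1 : a • Cochain.ofHom (inv (a • 𝟙 W)) = Cochain.ofHom (𝟙 W) := by
    rw [← h2]
    congr 1
    have := IsIso.hom_inv_id (a • 𝟙 W)
    rwa [Linear.smul_comp, Category.id_comp] at this
  refine ⟨fun z => (Cochain.ofHom (inv (a • 𝟙 W))).comp z (zero_add q), ?_, ?_⟩
  · intro z
    change (Cochain.ofHom (inv (a • 𝟙 W))).comp (a • z) (zero_add q) = z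
    rw [Cochain.comp_smul, ← Cochain.smul_comp, h1, Cochain.id_comp]
  · intro z
    change a • (Cochain.ofHom (inv (a • 𝟙 W))).comp z (zero_add q) = z
    rw [← Cochain.smul_comp, h1, Cochain.id_comp]

/-! ### (1): `Hom•(Č, J)` is derived complete -/

theorem acyclic_homCx_single_homCx (g : A) (P J : DRing.Cx A) [J.IsKInjective]
    (ht : ∀ (q : ℤ) (w : P.homology q), ∃ n : ℕ, g ^ n • w = 0) :
    (DRing.homCx (Helper5.RHomK.S (ModuleCat.of A (Localization.Away g)))
      (DRing.homCx P J)).Acyclic := by
  let W : DRing.Cx A := Helper5.RHomK.S (ModuleCat.of A (Localization.Away g))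
  have hWflat : DRing.IsKFlat A W := Helper5.RHomK.isKFlat_S _
    (IsLocalization.flat (Localization.Away g) (Submonoid.powers g))
  let X : DRing.Cx A := DRing.homCx W J
  haveI : X.IsKInjective := Helper5.RHomK.isKInjective_homCx W J hWflat
  have hX : ∀ (s : Submonoid.powers g) (q : ℤ),
      IsUnit (algebraMap A (Module.End A (X.X q)) (s : A)) := by
    intro s q
    have hb : Function.Bijective
        (fun m : (ModuleCat.of A (Localization.Away g)) => (s : A) • m) := by
      have hu : IsUnit (algebraMap A (Localization.Away g) (s : A)) :=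
        IsLocalization.map_units (Localization.Away g) s
      have h0 : (fun m : Localization.Away g => (s : A) • m) =
          fun m => algebraMap A (Localization.Away g) (s : A) * m := by
        funext m
        exact Algebra.smul_def _ _
      change Function.Bijective (fun m : Localization.Away g => (s : A) • m)
      rw [h0]
      exact IsUnit.isUnit_iff_mulLeft_bijective.mp hu
    haveI : IsIso ((s : A) • 𝟙 W) := isIso_smul_single (s : A) _ hb
    exact (Module.End.isUnit_iff _).2 (bijective_smul_cochain (s : A) W J q)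
  haveI := isIso_homCxPre_loc (Submonoid.powers g) P X hX
  let e : DRing.homCx W (DRing.homCx P J) ≅
      DRing.homCx ((DerCA.locCx (Submonoid.powers g)).obj P) X :=
    curryIso W P J ≪≫ Helper5.RHomK.homCxPreIso (DTen.braidCx P W) J ≪≫ (curryIso P W J).symm ≪≫
      (asIso (homCxPre (DerCA.locCxUnit (Submonoid.powers g) P) X)).symm
  have hac := acyclic_homCx_of_acyclic _ X (acyclic_locCx_of_torsion g P ht)
  exact acyclic_of_iso' e.symm hac

theorem idc_homCx_extCech (fs : List A) (I : Ideal A) (hI : Ideal.span {x : A | x ∈ fs} = I)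
    (J : DRing.Cx A) [J.IsKInjective] :
    DRing.IsDerivedComplete I
      (DerivedCategory.Q.obj (DRing.homCx (DerCA.extCech (ModuleCat.of A A) fs) J)) := by
  haveI : (DRing.homCx (DerCA.extCech (ModuleCat.of A A) fs) J).IsKInjective :=
    Helper5.RHomK.isKInjective_homCx _ J (isKFlat_extCech fs)
  rw [Helper5.DComp.idc_Q_iff]
  intro g hg n
  rw [← hI] at hg
  refine Helper5.DMod.DC_of_mem_span (s := {x : A | x ∈ fs}) (fun h hh => ?_) hg
  have h1 : DRing.IsDerivedComplete (Ideal.span {h})
      (DerivedCategory.Q.obj (DRing.homCx (DerCA.extCech (ModuleCat.of A A) fs) J)) := by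
    intro g' hg' m
    obtain ⟨a, rfl⟩ := Ideal.mem_span_singleton'.1 hg'
    have ht : ∀ (q : ℤ) (w : (DerCA.extCech (ModuleCat.of A A) fs).homology q),
        ∃ k : ℕ, (a * h) ^ k • w = 0 := by
      intro q w
      obtain ⟨k, hk⟩ :=
        Groth.Agent.Lib.Helper6.ExtCech.torsion (ModuleCat.of A A) fs h hh q w
      exact ⟨k, by rw [mul_pow, mul_smul, hk, smul_zero]⟩
    have hac := acyclic_homCx_single_homCx (a * h) (DerCA.extCech (ModuleCat.of A A) fs) J ht
    have hss := subsingleton_hom_of_acyclic
      (Helper5.RHomK.S (ModuleCat.of A (Localization.Away (a * h))))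
      (DRing.homCx (DerCA.extCech (ModuleCat.of A A) fs) J) hac m
    let e := (DerivedCategory.singleFunctorIsoCompQ (ModuleCat.{u} A) 0).app
      (ModuleCat.of A (Localization.Away (a * h)))
    exact ⟨fun x y => (cancel_epi e.inv).1 (@Subsingleton.elim _ hss (e.inv ≫ x) (e.inv ≫ y))⟩
  rw [Helper5.DComp.idc_Q_iff] at h1
  exact h1 h (Ideal.subset_span rfl) n

/-! ### (2): `M → Hom•(Č, M)` is a quasi-isomorphism for derived complete `M` -/

/-- `Hom•(u, I)` is a quasi-isomorphism as soon as `Hom•(Cone u, I)` is acyclic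
(generalisation of helper5's `acyclic_cone_homCxPre`, same proof) -/
theorem quasiIso_homCxPre_of_acyclic (I : DRing.Cx A) {P E : DRing.Cx A} (u : P ⟶ E)
    (hC : (DRing.homCx (mappingCone u) I).Acyclic) : QuasiIso (homCxPre u I) := by
  refine (Groth.Agent.Helper5.FlatAcyc.quasiIso_iff_acyclic_cone _).2 ?_
  intro i
  rw [Groth.Agent.Helper5.ConeEl.exactAt_cone_iff (homCxPre u I) (i - 1) i (i + 1) (i + 1 + 1)
    (by omega) rfl rfl]
  intro (f : Cochain E I (i + 1)) (g : Cochain P I i) hf hg
  have hf' : δ (i + 1) (i + 1 + 1) f = 0 := hf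
  have hg' : (Cochain.ofHom u).comp f (zero_add (i + 1)) + δ i (i + 1) g = 0 := hg
  let w : Cochain (mappingCone u) I (i + 1) :=
    mappingCone.descCochain u ((i + 1 + 1).negOnePow • g) f rfl
  have hw : δ (i + 1) (i + 1 + 1) w = 0 := by
    rw [mappingCone.δ_descCochain u _ f rfl (i + 1 + 1) rfl, hf', Cochain.comp_zero, add_zero,
      δ_units_smul, ← smul_add, add_comm (δ i (i + 1) g), hg', smul_zero, Cochain.comp_zero]
  obtain ⟨v, hv⟩ : ∃ v : Cochain (mappingCone u) I i, δ i (i + 1) v = w := by
    have hex := hC (i + 1)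
    rw [HomologicalComplex.exactAt_iff' _ i (i + 1) (i + 1 + 1) (by simp) (by simp),
      ShortComplex.moduleCat_exact_iff] at hex
    exact hex w hw
  let α' : Cochain P I (i - 1) := (mappingCone.inl u).comp v (by omega)
  let β' : Cochain E I i := (Cochain.ofHom (mappingCone.inr u)).comp v (zero_add i)
  have hv' : v = mappingCone.descCochain u α' β' (by omega) := by
    rw [mappingCone.ext_cochain_from_iff u (i - 1) i (by omega)]
    exact ⟨(mappingCone.inl_descCochain u α' β' (by omega)).symm,
      (mappingCone.inr_descCochain u α' β' (by omega)).symm⟩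
  have h2 : δ i (i + 1) v = mappingCone.descCochain u
      (δ (i - 1) i α' + (i + 1).negOnePow • (Cochain.ofHom u).comp β' (zero_add i))
      (δ i (i + 1) β') rfl := by
    conv_lhs => rw [hv', mappingCone.δ_descCochain u α' β' (by omega) (i + 1) rfl]
    rfl
  have hv2 : mappingCone.descCochain u
      (δ (i - 1) i α' + (i + 1).negOnePow • (Cochain.ofHom u).comp β' (zero_add i))
      (δ i (i + 1) β') rfl = w := by
    rw [← h2]
    exact hv
  have e1 := congrArg (fun c => (mappingCone.inl u).comp c (show (-1 : ℤ) + (i + 1) = i by omega)) hv2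
  have e2 := congrArg (fun c => (Cochain.ofHom (mappingCone.inr u)).comp c (zero_add (i + 1))) hv2
  dsimp only [w] at e1 e2
  rw [mappingCone.inl_descCochain, mappingCone.inl_descCochain] at e1
  rw [mappingCone.inr_descCochain, mappingCone.inr_descCochain] at e2
  refine ⟨-β', (i + 1 + 1).negOnePow • α', ?_, ?_⟩
  · change -(δ i (i + 1) (-β')) = f
    rw [δ_neg, neg_neg]
    exact e2
  · change (Cochain.ofHom u).comp (-β') (zero_add i) +
      δ (i - 1) i ((i + 1 + 1).negOnePow • α') = g
    rw [δ_units_smul, Cochain.comp_neg]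
    have e3 := congrArg (fun c => (i + 1 + 1).negOnePow • c) e1
    rw [smul_smul, Int.units_mul_self, one_smul, smul_add, smul_smul] at e3
    rw [← e3]
    have : (i + 1 + 1).negOnePow * (i + 1).negOnePow = -1 := by
      rw [Int.negOnePow_succ (i + 1)]
      simp
    rw [this, Units.neg_smul, one_smul]
    abel

theorem acyclic_homCx_cone_fst (I : Ideal A) (f : A) (hf : f ∈ I) (C J' : DRing.Cx A)
    [J'.IsKInjective] (hJ : DRing.IsDerivedComplete I (DerivedCategory.Q.obj J')) :
    (DRing.homCx (mappingCone (mappingCocone.fst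
      (DerCA.locCxUnit (Submonoid.powers f) C))) J').Acyclic := by
  have hT1 := DerivedCategory.mappingCone_triangle_distinguished
    (mappingCocone.fst (DerCA.locCxUnit (Submonoid.powers f) C))
  have hT2 := DerivedCategory.mappingCocone_triangle_distinguished
    (DerCA.locCxUnit (Submonoid.powers f) C)
  let θ := Pretriangulated.isoTriangleOfIso₁₂ _ _ hT1 hT2 (Iso.refl _) (Iso.refl _)
    ((Category.comp_id _).trans (Category.id_comp _).symm)
  let e3 : DerivedCategory.Q.obj (mappingCone (mappingCocone.fst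
      (DerCA.locCxUnit (Submonoid.powers f) C))) ≅
      DerivedCategory.Q.obj ((DerCA.locCx (Submonoid.powers f)).obj C) :=
    Triangle.π₃.mapIso θ
  haveI hl : IsIso (f • 𝟙 (DerivedCategory.Q.obj ((DerCA.locCx (Submonoid.powers f)).obj C))) :=
    isIso_smul_locCx (Submonoid.powers f) ⟨f, 1, pow_one f⟩ C
  haveI hiso : IsIso (f • 𝟙 (DerivedCategory.Q.obj (mappingCone (mappingCocone.fst
      (DerCA.locCxUnit (Submonoid.powers f) C))))) := by
    have : f • 𝟙 (DerivedCategory.Q.obj (mappingCone (mappingCocone.fst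
        (DerCA.locCxUnit (Submonoid.powers f) C)))) =
        e3.hom ≫ (f • 𝟙 _) ≫ e3.inv := by
      rw [Linear.smul_comp, Linear.comp_smul, Category.id_comp, e3.hom_inv_id]
    rw [this]
    infer_instance
  intro n
  rw [HomologicalComplex.exactAt_iff_isZero_homology, ModuleCat.isZero_iff_subsingleton]
  haveI : Subsingleton (DerivedCategory.Q.obj (mappingCone (mappingCocone.fst
      (DerCA.locCxUnit (Submonoid.powers f) C))) ⟶ (DerivedCategory.Q.obj J')⟦n⟧) :=
    ⟨fun a b => by
      rw [Helper5.DComp.hom_eq_zero_direct f I hf _ _ (Helper5.DMod.isDerivedComplete_shift I hJ n) a,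
        Helper5.DComp.hom_eq_zero_direct f I hf _ _ (Helper5.DMod.isDerivedComplete_shift I hJ n) b]⟩
  exact (Helper5.RHomE.homCxHomologyEquiv _ J' n).toEquiv.subsingleton

/-- the projection `Č ⟶ A[0]` -/
noncomputable def proj : (fs : List A) → (DerCA.extCech (ModuleCat.of A A) fs ⟶ U A)
  | [] => 𝟙 _
  | f :: fs => mappingCocone.fst
      (DerCA.locCxUnit (Submonoid.powers f) (DerCA.extCech (ModuleCat.of A A) fs)) ≫ proj fs

theorem quasiIso_homCxPre_proj (I : Ideal A) (J' : DRing.Cx A) [J'.IsKInjective]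
    (hJ : DRing.IsDerivedComplete I (DerivedCategory.Q.obj J')) :
    ∀ fs : List A, (∀ g ∈ fs, g ∈ I) → QuasiIso (homCxPre (proj fs) J') := by
  intro fs
  induction fs with
  | nil =>
    intro _
    haveI : IsIso (homCxPre (proj ([] : List A)) J') := by
      have : homCxPre (proj ([] : List A)) J' = 𝟙 _ := homCxPre_id _ _
      rw [this]
      exact IsIso.id _
    infer_instance
  | cons f fs ih =>
    intro h
    haveI := ih (fun g hg => h g (List.mem_cons_of_mem _ hg))
    haveI : QuasiIso (homCxPre (mappingCocone.fst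
        (DerCA.locCxUnit (Submonoid.powers f) (DerCA.extCech (ModuleCat.of A A) fs))) J') :=
      quasiIso_homCxPre_of_acyclic J' _
        (acyclic_homCx_cone_fst I f (h f List.mem_cons_self) _ J' hJ)
    change QuasiIso (homCxPre (mappingCocone.fst
        (DerCA.locCxUnit (Submonoid.powers f) (DerCA.extCech (ModuleCat.of A A) fs)) ≫ proj fs) J')
    rw [homCxPre_comp]
    infer_instance

/-! ### the theorem -/

theorem main_S7097 (fs : List A) (I : Ideal A)
    (hI : Ideal.span {x : A | x ∈ fs} = I) [DRing.HasDerivedCompletion I]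
    [DRing.HasRHomCx (DerCA.extCech (ModuleCat.of A A) fs)] (K : Dual.D A) :
    Nonempty (((DRing.derivedCompletion I).obj K).obj ≅
      (DRing.RHomCx (DerCA.extCech (ModuleCat.of A A) fs)).obj K) := by
  classical
  have hFG : I.FG := ⟨fs.toFinset, by rw [List.coe_toFinset]; exact hI⟩
  have hmem : ∀ g ∈ fs, g ∈ I := fun g hg => by
    rw [← hI]
    exact Ideal.subset_span hg
  -- Step 1: `RHom(Č, K)` is derived complete
  obtain ⟨J, j, hJ, hj⟩ :=
    Helper5.KInj.exists_kinjective_resolution (DerivedCategory.Q.objPreimage K)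
  haveI := hJ
  haveI : IsIso (DerivedCategory.Q.map j) :=
    (DerivedCategory.isIso_Q_map_iff_quasiIso (φ := j)).2 hj
  let eK : K ≅ DerivedCategory.Q.obj J :=
    (DerivedCategory.Q.objObjPreimageIso K).symm ≪≫ asIso (DerivedCategory.Q.map j)
  have hY : DRing.IsDerivedComplete I
      ((DRing.RHomCx (DerCA.extCech (ModuleCat.of A A) fs)).obj K) :=
    Helper5.DMod.isDerivedComplete_of_iso I
      ((DRing.RHomCx (DerCA.extCech (ModuleCat.of A A) fs)).mapIso eK ≪≫
        Helper5.RHomK.rhomIso (DerCA.extCech (ModuleCat.of A A) fs) J).symm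
      (idc_homCx_extCech fs I hI J)
  -- Step 2: `RHom(Č, K) ≅ RHom(Č, K^∧)`
  obtain ⟨hZ, huniv⟩ :=
    Helper5.RHomK.rhom_completion I hFG (DerCA.extCech (ModuleCat.of A A) fs) K
  obtain ⟨r, hr⟩ := (huniv _ hY).2 (𝟙 _)
  have hr1 : (DRing.RHomCx (DerCA.extCech (ModuleCat.of A A) fs)).map
      (DRing.toDerivedCompletion I K) ≫ r = 𝟙 _ := hr
  have hr2 : r ≫ (DRing.RHomCx (DerCA.extCech (ModuleCat.of A A) fs)).map
      (DRing.toDerivedCompletion I K) = 𝟙 _ := by
    apply (huniv _ hZ).1
    dsimp only
    rw [← Category.assoc, hr1, Category.id_comp, Category.comp_id]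
  let eYZ : (DRing.RHomCx (DerCA.extCech (ModuleCat.of A A) fs)).obj K ≅
      (DRing.RHomCx (DerCA.extCech (ModuleCat.of A A) fs)).obj
        ((DRing.derivedCompletion I).obj K).obj :=
    ⟨_, r, hr1, hr2⟩
  -- Step 3: `RHom(Č, K^∧) ≅ K^∧`
  have hKc : DRing.IsDerivedComplete I ((DRing.derivedCompletion I).obj K).obj :=
    ((DRing.derivedCompletion I).obj K).property
  obtain ⟨J', j', hJ', hj'⟩ := Helper5.KInj.exists_kinjective_resolution
    (DerivedCategory.Q.objPreimage ((DRing.derivedCompletion I).obj K).obj)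
  haveI := hJ'
  haveI : IsIso (DerivedCategory.Q.map j') :=
    (DerivedCategory.isIso_Q_map_iff_quasiIso (φ := j')).2 hj'
  let eKc : ((DRing.derivedCompletion I).obj K).obj ≅ DerivedCategory.Q.obj J' :=
    (DerivedCategory.Q.objObjPreimageIso _).symm ≪≫ asIso (DerivedCategory.Q.map j')
  have hJ'c : DRing.IsDerivedComplete I (DerivedCategory.Q.obj J') :=
    Helper5.DMod.isDerivedComplete_of_iso I eKc hKc
  haveI hq : QuasiIso (homCxPre (proj fs) J') := quasiIso_homCxPre_proj I J' hJ'c fs hmem
  haveI : IsIso (DerivedCategory.Q.map (homCxPre (proj fs) J')) :=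
    (DerivedCategory.isIso_Q_map_iff_quasiIso (φ := homCxPre (proj fs) J')).2 hq
  let eZ : (DRing.RHomCx (DerCA.extCech (ModuleCat.of A A) fs)).obj
      ((DRing.derivedCompletion I).obj K).obj ≅ ((DRing.derivedCompletion I).obj K).obj :=
    (DRing.RHomCx (DerCA.extCech (ModuleCat.of A A) fs)).mapIso eKc ≪≫
      Helper5.RHomK.rhomIso (DerCA.extCech (ModuleCat.of A A) fs) J' ≪≫
      (asIso (DerivedCategory.Q.map (homCxPre (proj fs) J'))).symm ≪≫
      DerivedCategory.Q.mapIso (homCxUnitIso J') ≪≫ eKc.symm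
  exact ⟨eZ.symm ≪≫ eYZ.symm⟩

end Groth.Agent.Helper3.CechComp1
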