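import Mathlib
import Groth.Prelude.Def_EtCech
import Groth.Prelude.Def_DeltaF
import Groth.Agent.Lib.Helper3.FCFreeG

/-!
Čech cohomology with respect to a family as a cohomological δ-functor on abelian presheaves
(universe-general version, for the prelude's `EtCech.cechHFunctor`).
-/

set_option autoImplicit false
universe w v u
open CategoryTheory Limits Opposite

namespace Groth.Agent.Helper3.CechDeltaG

variable {C : Type u} [Category.{v} C] {U : C} [HasFiniteProducts (Over U)] {ι : Type w}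
  (Y : ι → Over U)

/-- iterated fibre product over `U` -/
noncomputable abbrev YY {n : ℕ} (a : Fin (n + 1) → ι) : C := (∏ᶜ fun k => Y (a k)).left

/-- the Čech complex functor on presheaves -/
noncomputable abbrev cxFunctor :
    (Cᵒᵖ ⥤ AddCommGrpCat.{w}) ⥤ CochainComplex AddCommGrpCat.{w} ℕ :=
  (Functor.whiskeringLeft (Over U)ᵒᵖ Cᵒᵖ AddCommGrpCat.{w}).obj (Over.forget U).op ⋙
    cechComplexFunctor Y

/-- the Čech complex of a presheaf with respect to a family over `U` -/
noncomputable abbrev K (P : Cᵒᵖ ⥤ AddCommGrpCat.{w}) : CochainComplex AddCommGrpCat.{w} ℕ :=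
  (cxFunctor Y).obj P

/-- functoriality of the Čech complex in the presheaf -/
noncomputable abbrev Kmap {P Q : Cᵒᵖ ⥤ AddCommGrpCat.{w}} (φ : P ⟶ Q) : K Y P ⟶ K Y Q :=
  (cxFunctor Y).map φ

/-- the components of a Čech cochain -/
noncomputable def proj (P : Cᵒᵖ ⥤ AddCommGrpCat.{w}) (n : ℕ) (a : Fin (n + 1) → ι) :
    (K Y P).X n ⟶ P.obj (op (YY Y a)) :=
  Pi.π (fun a : Fin (n + 1) → ι => P.obj (op (YY Y a))) a

lemma ext (P : Cᵒᵖ ⥤ AddCommGrpCat.{w}) (n : ℕ) (x y : (K Y P).X n)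
    (h : ∀ a, (proj Y P n a).hom x = (proj Y P n a).hom y) : x = y :=
  FCFreeG.pi_ext (fun a : Fin (n + 1) → ι => P.obj (op (YY Y a))) x y h

lemma exists_cochain (P : Cᵒᵖ ⥤ AddCommGrpCat.{w}) (n : ℕ)
    (f : ∀ a : Fin (n + 1) → ι, P.obj (op (YY Y a))) :
    ∃ x : (K Y P).X n, ∀ a, (proj Y P n a).hom x = f a :=
  ⟨(FCFreeG.piIso (fun a : Fin (n + 1) → ι => P.obj (op (YY Y a)))).inv f,
    fun a => FCFreeG.π_piIso_inv_apply _ f a⟩

lemma Kmap_proj {P Q : Cᵒᵖ ⥤ AddCommGrpCat.{w}} (φ : P ⟶ Q) (n : ℕ) (a : Fin (n + 1) → ι) :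
    (Kmap Y φ).f n ≫ proj Y Q n a = proj Y P n a ≫ φ.app (op (YY Y a)) := by
  have h : (Kmap Y φ).f n = Limits.Pi.map (fun a : Fin (n + 1) → ι => φ.app (op (YY Y a))) := rfl
  rw [h]
  exact Pi.map_π _ a

lemma Kmap_proj_apply {P Q : Cᵒᵖ ⥤ AddCommGrpCat.{w}} (φ : P ⟶ Q) (n : ℕ) (a : Fin (n + 1) → ι)
    (x : (K Y P).X n) :
    (proj Y Q n a).hom (((Kmap Y φ).f n).hom x) = (φ.app (op (YY Y a))).hom ((proj Y P n a).hom x) :=
  ConcreteCategory.congr_hom (Kmap_proj Y φ n a) x

instance additive_cx : (cxFunctor (C := C) Y).Additive where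
  map_add {P Q} f g := by
    ext n x
    apply ext Y Q n
    intro a
    change (proj Y Q n a).hom (((Kmap Y (f + g)).f n).hom x) =
      (proj Y Q n a).hom (((Kmap Y f).f n).hom x + ((Kmap Y g).f n).hom x)
    rw [map_add, Kmap_proj_apply, Kmap_proj_apply, Kmap_proj_apply]
    rfl

/-- evaluation of a short exact sequence of presheaves -/
lemma eval_shortExact (S : ShortComplex (Cᵒᵖ ⥤ AddCommGrpCat.{w})) (hS : S.ShortExact) (V : Cᵒᵖ) :
    (S.map ((evaluation Cᵒᵖ AddCommGrpCat.{w}).obj V)).ShortExact :=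
  hS.map_of_exact _

lemma cx_shortExact (S : ShortComplex (Cᵒᵖ ⥤ AddCommGrpCat.{w})) (hS : S.ShortExact) :
    (S.map (cxFunctor Y)).ShortExact := by
  have hinj : ∀ (n : ℕ) (a : Fin (n + 1) → ι), Function.Injective (S.f.app (op (YY Y a))).hom :=
    fun n a => (AddCommGrpCat.mono_iff_injective _).1 (eval_shortExact S hS (op (YY Y a))).mono_f
  have hex : ∀ (n : ℕ) (a : Fin (n + 1) → ι) (y : S.X₂.obj (op (YY Y a))),
      (S.g.app (op (YY Y a))).hom y = 0 → ∃ x, (S.f.app (op (YY Y a))).hom x = y :=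
    fun n a y hy => (ShortComplex.ab_exact_iff _).1 (eval_shortExact S hS (op (YY Y a))).exact y hy
  have hsurj : ∀ (n : ℕ) (a : Fin (n + 1) → ι), Function.Surjective (S.g.app (op (YY Y a))).hom :=
    fun n a => (AddCommGrpCat.epi_iff_surjective _).1 (eval_shortExact S hS (op (YY Y a))).epi_g
  apply HomologicalComplex.shortExact_of_degreewise_shortExact
  intro n
  have hm : Mono ((Kmap Y S.f).f n) := by
    rw [AddCommGrpCat.mono_iff_injective]
    intro x y hxy
    apply ext Y S.X₁ n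
    intro a
    apply hinj n a
    have := congrArg (proj Y S.X₂ n a).hom hxy
    rw [Kmap_proj_apply, Kmap_proj_apply] at this
    exact this
  have he : Epi ((Kmap Y S.g).f n) := by
    rw [AddCommGrpCat.epi_iff_surjective]
    intro z
    choose y hy using fun a => hsurj n a ((proj Y S.X₃ n a).hom z)
    obtain ⟨w, hw⟩ := exists_cochain Y S.X₂ n y
    refine ⟨w, ?_⟩
    apply ext Y S.X₃ n
    intro a
    have := Kmap_proj_apply Y S.g n a w
    exact this.trans ((congrArg _ (hw a)).trans (hy a))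
  refine ShortComplex.ShortExact.mk' ?_ hm he
  rw [ShortComplex.ab_exact_iff]
  intro y hy
  have hy' : ∀ a, (S.g.app (op (YY Y a))).hom ((proj Y S.X₂ n a).hom y) = 0 := by
    intro a
    have h1 := Kmap_proj_apply Y S.g n a y
    have h2 : ((Kmap Y S.g).f n).hom y = 0 := hy
    rw [h2, map_zero] at h1
    exact h1.symm
  choose x hx using fun a => hex n a _ (hy' a)
  obtain ⟨w, hw⟩ := exists_cochain Y S.X₁ n x
  refine ⟨w, ?_⟩
  apply ext Y S.X₂ n
  intro a
  have := Kmap_proj_apply Y S.f n a w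
  exact this.trans ((congrArg _ (hw a)).trans (hx a))

open DeltaF in
/-- Čech cohomology with respect to a family, as a cohomological δ-functor on abelian presheaves -/
noncomputable def cechDelta :
    CohDeltaFunctor (Cᵒᵖ ⥤ AddCommGrpCat.{w}) AddCommGrpCat.{w} ℕ where
  F n := EtCech.cechHFunctor Y n
  additive n := inferInstanceAs
    ((cxFunctor Y ⋙ HomologicalComplex.homologyFunctor _ _ n).Additive)
  δ S hS n₀ n₁ h := (cx_shortExact Y S hS).δ n₀ n₁ h
  δ_natural {S S'} hS hS' φ n₀ n₁ h :=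
    (HomologicalComplex.HomologySequence.δ_naturality ((cxFunctor Y).mapShortComplex.map φ)
      (cx_shortExact Y S hS) (cx_shortExact Y S' hS') n₀ n₁ h).symm
  exact₂ S hS n := (cx_shortExact Y S hS).homology_exact₂ n
  comp_δ S hS n₀ n₁ h := (cx_shortExact Y S hS).comp_δ n₀ n₁ h
  exact₃ S hS n₀ n₁ h := (cx_shortExact Y S hS).homology_exact₃ n₀ n₁ h
  δ_comp S hS n₀ n₁ h := (cx_shortExact Y S hS).δ_comp n₀ n₁ h
  exact₁ S hS n₀ n₁ h := (cx_shortExact Y S hS).homology_exact₁ n₀ n₁ h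

lemma cechDelta_F (n : ℕ) : (cechDelta Y).F n = EtCech.cechHFunctor Y n := rfl

/-- `Ȟ⁰` sends monomorphisms of short exact sequences to monomorphisms -/
lemma cechDelta_zeroMono : (cechDelta Y).ZeroMono := by
  intro S hS
  have := (cx_shortExact Y S hS).mono_f
  exact HomologicalComplex.mono_homologyMap_of_mono_of_not_rel
    ((S.map (cxFunctor Y)).f) 0 (by simp)

end Groth.Agent.Helper3.CechDeltaG
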