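import Mathlib
import Groth.Prelude.Def_CechEdge
import Groth.Agent.Lib.Helper3.CechEdgeA

set_option autoImplicit false
universe u
open CategoryTheory Limits Opposite

namespace Groth.Agent.Helper3.CechEdgeB

open CechLow DeltaF CechDelta CechEdgeA

variable {C : Type u} [SmallCategory C] [HasPullbacks C] {U : C} {ι κ : Type u}
  (Y : ι → Over U) (Y' : κ → Over U) (f : FormalCoproduct.mk ι Y ⟶ FormalCoproduct.mk κ Y')

/-- the refinement map, typed between the Čech complexes -/
noncomputable def refineCx (P : Cᵒᵖ ⥤ AddCommGrpCat.{u}) : CechEdge.cx P Y' ⟶ CechEdge.cx P Y :=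
  CohCx.cechRefine P f

/-- the refinement map as a natural transformation between Čech complex functors -/
noncomputable def refineNat : CechEdge.cxFunctor Y' ⟶ CechEdge.cxFunctor Y where
  app P := refineCx Y Y' f P
  naturality {P Q} φ := by
    change (AlgebraicTopology.alternatingCofaceMapComplex AddCommGrpCat.{u}).map _ ≫
      (AlgebraicTopology.alternatingCofaceMapComplex AddCommGrpCat.{u}).map _ =
      (AlgebraicTopology.alternatingCofaceMapComplex AddCommGrpCat.{u}).map _ ≫
      (AlgebraicTopology.alternatingCofaceMapComplex AddCommGrpCat.{u}).map _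
    rw [← Functor.map_comp, ← Functor.map_comp]
    congr 1
    apply NatTrans.ext
    funext n
    exact (((FormalCoproduct.evalOp.{u} (Over U) AddCommGrpCat.{u}).map
        (Functor.whiskerLeft (Over.forget U).op φ)).naturality
      ((FormalCoproduct.cechFunctor.map f).app (op n)).op).symm

lemma refine_f_proj (P : Cᵒᵖ ⥤ AddCommGrpCat.{u}) (n : ℕ) (a : Fin (n + 1) → ι) :
    (refineCx Y Y' f P).f n ≫ proj Y P n a =
      proj Y' P n (f.f ∘ a) ≫ P.map (Limits.Pi.map (fun k => f.φ (a k))).left.op := by
  change ((FormalCoproduct.evalOp.{u} (Over U) AddCommGrpCat.{u}).obj ((Over.forget U).op ⋙ P)).map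
    ((FormalCoproduct.cechFunctor.map f).app (op (SimplexCategory.mk n))).op ≫ _ = _
  rw [FormalCoproduct.evalOp_obj_map]
  erw [Pi.lift_π]
  rfl

lemma toCech₀_refine (P : Cᵒᵖ ⥤ AddCommGrpCat.{u}) :
    CechEdge.toCech₀ P Y' ≫ (refineCx Y Y' f P).f 0 = CechEdge.toCech₀ P Y := by
  ext s
  apply CechLow.ext Y P 0
  intro b
  have h1 := ConcreteCategory.congr_hom (refine_f_proj Y Y' f P 0 b) ((CechEdge.toCech₀ P Y').hom s)
  refine h1.trans ?_
  change (P.map _).hom ((proj Y' P 0 (f.f ∘ b)).hom ((CechEdge.toCech₀ P Y').hom s)) = _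
  rw [proj_toCech₀, proj_toCech₀]
  have e : P.map (∏ᶜ fun k => Y' ((f.f ∘ b) k)).hom.op ≫ P.map (Limits.Pi.map (fun k => f.φ (b k))).left.op =
      P.map (∏ᶜ fun k => Y (b k)).hom.op := by
    rw [← P.map_comp, ← op_comp]
    congr 2
    exact Over.w (Limits.Pi.map (fun k => f.φ (b k)))
  exact ConcreteCategory.congr_hom e s

lemma toCech_refine (P : Cᵒᵖ ⥤ AddCommGrpCat.{u}) (s : P.obj (op U)) :
    (HomologicalComplex.homologyMap (refineCx Y Y' f P) 0).hom (CechEdge.toCech Y' P s) =
      CechEdge.toCech Y P s := by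
  have hc : CechEdge.toCycles P Y' ≫ HomologicalComplex.cyclesMap (refineCx Y Y' f P) 0 =
      CechEdge.toCycles P Y := by
    rw [← cancel_mono ((CechEdge.cx P Y).iCycles 0), Category.assoc,
      HomologicalComplex.cyclesMap_i, CechEdge.toCycles_i, ← Category.assoc, CechEdge.toCycles_i]
    exact toCech₀_refine Y Y' f P
  have h : (CechEdge.toCycles P Y' ≫ (CechEdge.cx P Y').homologyπ 0) ≫
      HomologicalComplex.homologyMap (refineCx Y Y' f P) 0 =
      CechEdge.toCycles P Y ≫ (CechEdge.cx P Y).homologyπ 0 := by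
    rw [Category.assoc, HomologicalComplex.homologyπ_naturality, ← Category.assoc, hc]
  exact ConcreteCategory.congr_hom h s

section Edge

variable (J : GrothendieckTopology C)
  (e : ∀ (P : Cᵒᵖ ⥤ AddCommGrpCat.{u}) (p : ℕ), CohCx.cechH P Y p →+ CohSite.HU (CechEdge.shf J P) p U)

/-- an edge family for `Y` composed with refinement -/
noncomputable def refEdge (P : Cᵒᵖ ⥤ AddCommGrpCat.{u}) (p : ℕ) :
    CohCx.cechH P Y' p →+ CohSite.HU (CechEdge.shf J P) p U :=
  (e P p).comp (HomologicalComplex.homologyMap (refineCx Y Y' f P) p).hom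

theorem isEdge_refEdge (he : CechEdge.IsEdge J Y e)
    (hY' : Sieve.ofArrows (fun i => (Y' i).left) (fun i => (Y' i).hom) ∈ J U) :
    CechEdge.IsEdge J Y' (refEdge Y Y' f J e) where
  cover := hY'
  zero P s := by
    change e P 0 ((HomologicalComplex.homologyMap (refineCx Y Y' f P) 0).hom (CechEdge.toCech Y' P s)) = _
    rw [toCech_refine]
    exact he.zero P s
  natural P Q φ p x := by
    change e Q p ((HomologicalComplex.homologyMap (refineCx Y Y' f Q) p).hom
      ((HomologicalComplex.homologyMap ((CechEdge.cxFunctor Y').map φ) p).hom x)) =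
      CechEdge.HUmap (CechEdge.shfMap J φ) p U
        (e P p ((HomologicalComplex.homologyMap (refineCx Y Y' f P) p).hom x))
    rw [← he.natural]
    congr 1
    have h : HomologicalComplex.homologyMap ((CechEdge.cxFunctor Y').map φ) p ≫
        HomologicalComplex.homologyMap (refineCx Y Y' f Q) p =
        HomologicalComplex.homologyMap (refineCx Y Y' f P) p ≫
        HomologicalComplex.homologyMap ((CechEdge.cxFunctor Y).map φ) p := by
      rw [← HomologicalComplex.homologyMap_comp, ← HomologicalComplex.homologyMap_comp]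
      congr 1
      exact (refineNat Y Y' f).naturality φ
    exact ConcreteCategory.congr_hom h x
  delta S hS hC p x := by
    change e S.X₁ (p + 1) ((HomologicalComplex.homologyMap (refineCx Y Y' f S.X₁) (p + 1)).hom
      ((hC.δ p (p + 1) rfl).hom x)) =
        CechEdge.extδ (hS.map_of_exact (presheafToSheaf J AddCommGrpCat.{u})) U p
        (e S.X₃ p ((HomologicalComplex.homologyMap (refineCx Y Y' f S.X₃) p).hom x))
    rw [← he.delta S hS (cx_shortExact Y S hS)]
    congr 1
    have h := HomologicalComplex.HomologySequence.δ_naturality (S.mapNatTrans (refineNat Y Y' f))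
      hC (cx_shortExact Y S hS) p (p + 1) rfl
    exact ConcreteCategory.congr_hom h x

end Edge

end Groth.Agent.Helper3.CechEdgeB
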