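import Mathlib
import Groth.Prelude.Def_CechEdge
import Groth.Agent.Lib.Helper3.CechEdgeA

set_option autoImplicit false
universe u
open CategoryTheory Limits Opposite

namespace Groth.Agent.Helper3.CechEdgeE

open CechLow CechEdgeA

variable {C : Type u} [SmallCategory C] [HasPullbacks C] (J : GrothendieckTopology C)
  (P : Cᵒᵖ ⥤ AddCommGrpCat.{u})

lemma dg_pr0 {U : C} {ι : Type u} (Y : ι → Over U) (i : ι) :
    dg Y i ≫ pr0 Y (fun _ : Fin 1 => i) = 𝟙 _ := by
  rw [dg, pr0, ← Over.comp_left, Pi.lift_π]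
  rfl

/-- the family of all arrows of a sieve -/
abbrev Idx {V : C} (S : Sieve V) : Type u := Σ W : C, {f : W ⟶ V // S f}

def fam {V : C} (S : Sieve V) : Idx S → Over V := fun i => Over.mk i.2.1

lemma ofArrows_fam {V : C} (S : Sieve V) :
    Sieve.ofArrows (fun i => (fam S i).left) (fun i => (fam S i).hom) = S := by
  apply le_antisymm
  · rintro W f ⟨W', g, h, ⟨i⟩, rfl⟩
    exact S.downward_closed i.2.2 g
  · intro W f hf
    exact ⟨W, 𝟙 W, f, Presieve.ofArrows.mk (⟨W, f, hf⟩ : Idx S), Category.id_comp f⟩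

/-- every cocycle is in the image of the cycles -/
lemma exists_cycle {U : C} {ι : Type u} (Y : ι → Over U) (c : (K Y P).X 0)
    (hc : ((K Y P).d 0 1).hom c = 0) :
    ∃ z : (CechEdge.cx P Y).cycles 0, ((CechEdge.cx P Y).iCycles 0).hom z = c := by
  let A := AddCommGrpCat.of ↥(AddMonoidHom.ker ((K Y P).d 0 1).hom)
  let k : A ⟶ (K Y P).X 0 := AddCommGrpCat.ofHom (AddMonoidHom.ker ((K Y P).d 0 1).hom).subtype
  have hk : k ≫ (K Y P).d 0 1 = 0 := by
    ext x
    exact x.2
  refine ⟨((K Y P).liftCycles k 1 (by simp) hk).hom ⟨c, hc⟩, ?_⟩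
  exact ConcreteCategory.congr_hom ((K Y P).liftCycles_i k 1 (by simp) hk) ⟨c, hc⟩

theorem isSheaf_of_toCech_bijective
    (h : ∀ (U : C) (ι : Type u) (Y : ι → Over U),
      Sieve.ofArrows (fun i => (Y i).left) (fun i => (Y i).hom) ∈ J U →
        Function.Bijective (CechEdge.toCech Y P)) :
    Presheaf.IsSheaf J P := by
  rw [Presheaf.isSheaf_iff_isSheaf_forget J P (forget AddCommGrpCat.{u}), isSheaf_iff_isSheaf_of_type]
  intro V S hS
  have hY : Sieve.ofArrows (fun i => (fam S i).left) (fun i => (fam S i).hom) ∈ J V := by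
    rw [ofArrows_fam]; exact hS
  have hb := h V (Idx S) (fam S) hY
  -- restriction of sections in terms of toCech₀
  have hres : ∀ (t₁ t₂ : P.obj (op V)), (∀ {W : C} (f : W ⟶ V), S f →
      (P.map f.op).hom t₁ = (P.map f.op).hom t₂) → t₁ = t₂ := by
    intro t₁ t₂ ht
    apply hb.1
    have e0 : (CechEdge.toCech₀ P (fam S)).hom t₁ = (CechEdge.toCech₀ P (fam S)).hom t₂ := by
      apply CechLow.ext (fam S) P 0
      intro b
      rw [proj_toCech₀, proj_toCech₀]
      have hmem : S (∏ᶜ fun k => fam S (b k)).hom := by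
        have e : (∏ᶜ fun k => fam S (b k)).hom = pr0 (fam S) b ≫ (fam S (b 0)).hom :=
          (Over.w (Pi.π (fun k => fam S (b k)) 0)).symm
        rw [e]
        exact S.downward_closed (b 0).2.2 _
      exact ht _ hmem
    have e1 : (CechEdge.toCycles P (fam S)).hom t₁ = (CechEdge.toCycles P (fam S)).hom t₂ := by
      have hm : Function.Injective ((CechEdge.cx P (fam S)).iCycles 0).hom :=
        (AddCommGrpCat.mono_iff_injective _).1 inferInstance
      apply hm
      have h1 := ConcreteCategory.congr_hom (CechEdge.toCycles_i P (fam S)) t₁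
      have h2 := ConcreteCategory.congr_hom (CechEdge.toCycles_i P (fam S)) t₂
      exact h1.trans (e0.trans h2.symm)
    exact congrArg ((CechEdge.cx P (fam S)).homologyπ 0).hom e1
  intro x hx
  -- the cochain of the family
  obtain ⟨c, hc⟩ := exists_cochain (fam S) P 0
    (fun b => (P.map (pr0 (fam S) b).op).hom (x (b 0).2.1 (b 0).2.2))
  have hcoc : ((K (fam S) P).d 0 1).hom c = 0 := by
    apply CechLow.ext (fam S) P 1
    intro a
    rw [d0_apply, hc, hc, map_zero]
    have key : ∀ i : Fin 2, (P.map (face (fam S) a i).op).hom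
        ((P.map (pr0 (fam S) (fun k => a (i.succAbove k))).op).hom
          (x (a (i.succAbove 0)).2.1 (a (i.succAbove 0)).2.2)) =
        (P.map (Pi.π (fun k => fam S (a k)) (i.succAbove 0)).left.op).hom
          (x (a (i.succAbove 0)).2.1 (a (i.succAbove 0)).2.2) := by
      intro i
      have e : P.map (pr0 (fam S) (fun k => a (i.succAbove k))).op ≫ P.map (face (fam S) a i).op =
          P.map (Pi.π (fun k => fam S (a k)) (i.succAbove 0)).left.op := by
        rw [← P.map_comp, ← op_comp, face_pr0]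
      exact ConcreteCategory.congr_hom e _
    rw [key 0, key 1]
    refine sub_eq_zero.2 ?_
    exact hx _ _ (a ((0 : Fin 2).succAbove 0)).2.2 (a ((1 : Fin 2).succAbove 0)).2.2
      ((Over.w (Pi.π (fun k => fam S (a k)) ((0 : Fin 2).succAbove 0))).trans
        (Over.w (Pi.π (fun k => fam S (a k)) ((1 : Fin 2).succAbove 0))).symm)
  obtain ⟨z, hz⟩ := exists_cycle P (fam S) c hcoc
  obtain ⟨τ, hτ⟩ := hb.2 (((CechEdge.cx P (fam S)).homologyπ 0).hom z)
  have hτz : (CechEdge.toCycles P (fam S)).hom τ = z :=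
    (ConcreteCategory.bijective_of_isIso ((CechEdge.cx P (fam S)).homologyπ 0)).1 hτ
  have hτc : (CechEdge.toCech₀ P (fam S)).hom τ = c := by
    have h1 := ConcreteCategory.congr_hom (CechEdge.toCycles_i P (fam S)) τ
    rw [← h1, ← hz]
    exact congrArg _ hτz
  have hτx : ∀ {W : C} (f : W ⟶ V) (hf : S f), (P.map f.op).hom τ = x f hf := by
    intro W f hf
    let i : Idx S := ⟨W, f, hf⟩
    have h1 : (proj (fam S) P 0 (fun _ => i)).hom ((CechEdge.toCech₀ P (fam S)).hom τ) =
        (P.map (pr0 (fam S) (fun _ => i)).op).hom (x f hf) := by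
      rw [hτc, hc]
    rw [proj_toCech₀] at h1
    have h2 := congrArg (P.map (dg (fam S) i).op).hom h1
    have e1 : P.map (∏ᶜ fun _ : Fin 1 => fam S i).hom.op ≫ P.map (dg (fam S) i).op = P.map f.op := by
      rw [← P.map_comp, ← op_comp, dg_hom]
      rfl
    have e2 : P.map (pr0 (fam S) (fun _ : Fin 1 => i)).op ≫ P.map (dg (fam S) i).op = 𝟙 _ := by
      rw [← P.map_comp, ← op_comp, dg_pr0, op_id, P.map_id]
    have h3 := ConcreteCategory.congr_hom e1 τ
    have h4 := ConcreteCategory.congr_hom e2 (x f hf)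
    exact h3.symm.trans (h2.trans h4)
  exact ⟨τ, fun W f hf => hτx f hf, fun t ht => hres t τ (fun f hf => (ht f hf).trans (hτx f hf).symm)⟩

theorem isSheaf_iff_toCech_bijective :
    Presheaf.IsSheaf J P ↔ ∀ (U : C) (ι : Type u) (Y : ι → Over U),
      Sieve.ofArrows (fun i => (Y i).left) (fun i => (Y i).hom) ∈ J U →
        Function.Bijective (CechEdge.toCech Y P) :=
  ⟨fun hP U ι Y hY => ⟨toCech_injective Y J ⟨P, hP⟩ hY, toCech_surjective Y J ⟨P, hP⟩ hY⟩,
    isSheaf_of_toCech_bijective J P⟩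

end Groth.Agent.Helper3.CechEdgeE
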