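import Mathlib

/-!
# Components and differential of Mathlib's Čech complex for a family of opens, with values in any
preadditive category with products (helper3 library; generalizes Helper1 `TCx`)
-/

set_option autoImplicit false
universe u v' u'
open CategoryTheory CategoryTheory.Limits Opposite TopologicalSpace

namespace Groth.Agent.Helper3.CechGen

variable {T : Type u} [TopologicalSpace T] {ι : Type u} (U : ι → Opens T)
  {A : Type u'} [Category.{v'} A] [Preadditive A] [HasProducts.{u} A] (P : (Opens T)ᵒᵖ ⥤ A)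

/-- the (categorical) intersection of the members of the family indexed by a tuple -/
noncomputable abbrev W {n : ℕ} (a : Fin (n + 1) → ι) : Opens T := ∏ᶜ fun k => U (a k)

lemma W_le {n : ℕ} (a : Fin (n + 1) → ι) (k : Fin (n + 1)) : W U a ≤ U (a k) :=
  leOfHom (Pi.π (fun k => U (a k)) k)

lemma le_W {n : ℕ} (a : Fin (n + 1) → ι) (O : Opens T) (h : ∀ k, O ≤ U (a k)) : O ≤ W U a :=
  leOfHom (Pi.lift fun k => homOfLE (h k))

lemma W_eq_iInf {n : ℕ} (a : Fin (n + 1) → ι) : W U a = ⨅ k, U (a k) :=
  le_antisymm (le_iInf fun k => W_le U a k) (le_W U a _ fun k => iInf_le _ k)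

lemma W_face_le {n : ℕ} (a : Fin (n + 2) → ι) (i : Fin (n + 2)) :
    W U a ≤ W U (fun k => a (i.succAbove k)) :=
  le_W U _ _ fun k => W_le U a (i.succAbove k)

/-- the Čech complex -/
noncomputable abbrev K : CochainComplex A ℕ := (cechComplexFunctor U).obj P

/-- components of a cochain -/
noncomputable def proj (n : ℕ) (a : Fin (n + 1) → ι) : (K U P).X n ⟶ P.obj (op (W U a)) :=
  Pi.π (fun a : Fin (n + 1) → ι => P.obj (op (W U a))) a

lemma hom_ext {Z : A} (n : ℕ) (f g : Z ⟶ (K U P).X n)
    (h : ∀ a, f ≫ proj U P n a = g ≫ proj U P n a) : f = g :=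
  Pi.hom_ext (f := fun a : Fin (n + 1) → ι => P.obj (op (W U a))) f g h

/-- coface maps -/
noncomputable abbrev coface (n : ℕ) (i : Fin (n + 2)) : (K U P).X n ⟶ (K U P).X (n + 1) :=
  ((FormalCoproduct.cosimplicialObjectFunctor (FormalCoproduct.mk _ U).cech).obj P).δ i

lemma coface_proj (n : ℕ) (i : Fin (n + 2)) (a : Fin (n + 2) → ι) :
    coface U P n i ≫ proj U P (n + 1) a =
      proj U P n (fun k => a (i.succAbove k)) ≫ P.map (homOfLE (W_face_le U a i)).op := by
  have h : coface U P n i = Pi.lift (fun (b : Fin (n + 2) → ι) =>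
      Pi.π (fun (c : Fin (n + 1) → ι) => P.obj (op (W U c))) (fun k => b (i.succAbove k)) ≫
        P.map (homOfLE (W_face_le U b i)).op) := rfl
  rw [h]
  exact Pi.lift_π _ a

lemma d_eq (n : ℕ) :
    (K U P).d n (n + 1) = ∑ i : Fin (n + 2), (-1 : ℤ) ^ (i : ℕ) • coface U P n i := by
  exact CochainComplex.of_d (V := A) _
    (AlgebraicTopology.AlternatingCofaceMapComplex.objD
      ((FormalCoproduct.cosimplicialObjectFunctor (FormalCoproduct.mk _ U).cech).obj P)) n

lemma d_proj (n : ℕ) (a : Fin (n + 2) → ι) :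
    (K U P).d n (n + 1) ≫ proj U P (n + 1) a =
      ∑ i : Fin (n + 2), (-1 : ℤ) ^ (i : ℕ) •
        (proj U P n (fun k => a (i.succAbove k)) ≫ P.map (homOfLE (W_face_le U a i)).op) := by
  rw [d_eq, Preadditive.sum_comp]
  refine Finset.sum_congr rfl fun i _ => ?_
  rw [Preadditive.zsmul_comp, coface_proj]

end Groth.Agent.Helper3.CechGen
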