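import Mathlib

set_option autoImplicit false
open CategoryTheory CategoryTheory.Limits Simplicial Opposite

universe v u

namespace Groth.Agent.Helper3.CechHtpy

lemma val_succAbove {n : ℕ} (i : Fin (n + 2)) (k : Fin (n + 1)) :
    ((i.succAbove k : Fin (n + 2)) : ℕ) = if (k : ℕ) < i then (k : ℕ) else k + 1 := by
  unfold Fin.succAbove
  split_ifs with h1 h2 h2
  · rfl
  · exact absurd (Fin.lt_def.1 h1) h2
  · exact absurd (Fin.lt_def.2 h2) h1
  · rfl

lemma val_predAbove {n : ℕ} (i : Fin (n + 1)) (k : Fin (n + 2)) :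
    ((i.predAbove k : Fin (n + 1)) : ℕ) = if (i : ℕ) < k then (k : ℕ) - 1 else k := by
  unfold Fin.predAbove
  split_ifs with h1 h2 h2
  · rfl
  · exact absurd (Fin.lt_def.1 h1) h2
  · exact absurd (Fin.lt_def.2 h2) h1
  · rfl

variable {C : Type u} [Category.{v} C] {Y X : C} (p : Y ⟶ X)
  [∀ n : ℕ, HasWidePullback (Arrow.mk p).right (fun _ : Fin (n + 1) => (Arrow.mk p).left)
    (fun _ => (Arrow.mk p).hom)]

/-- the Čech nerve -/
noncomputable abbrev N : SimplicialObject C := (Arrow.mk p).cechNerve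

/-- projection from the `n`-simplices -/
noncomputable abbrev pr (n : ℕ) (k : Fin (n + 1)) : (N p) _⦋n⦌ ⟶ Y :=
  WidePullback.π (fun _ : Fin (n + 1) => (Arrow.mk p).hom) k

noncomputable abbrev bs (n : ℕ) : (N p) _⦋n⦌ ⟶ X :=
  WidePullback.base (fun _ : Fin (n + 1) => (Arrow.mk p).hom)

lemma hom_ext' {n : ℕ} {Z : C} (g₁ g₂ : Z ⟶ (N p) _⦋n⦌)
    (h : ∀ k, g₁ ≫ pr p n k = g₂ ≫ pr p n k) (hb : g₁ ≫ bs p n = g₂ ≫ bs p n) : g₁ = g₂ :=
  WidePullback.hom_ext _ _ _ h hb

lemma map_pr {n m : ℕ} (θ : ⦋m⦌ ⟶ ⦋n⦌) (k : Fin (m + 1)) :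
    (N p).map θ.op ≫ pr p m k = pr p n (θ.toOrderHom k) := by
  exact WidePullback.lift_π (fun _ : Fin (m + 1) => (Arrow.mk p).hom) _ _ _ _

lemma map_bs {n m : ℕ} (θ : ⦋m⦌ ⟶ ⦋n⦌) :
    (N p).map θ.op ≫ bs p m = bs p n := by
  exact WidePullback.lift_base (fun _ : Fin (m + 1) => (Arrow.mk p).hom) _ _ _

lemma pr_p (n : ℕ) (k : Fin (n + 1)) : pr p n k ≫ p = bs p n :=
  WidePullback.π_arrow (fun _ : Fin (n + 1) => (Arrow.mk p).hom) k

variable (a b : Y ⟶ Y) (ha : a ≫ p = p) (hb : b ≫ p = p)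

/-- the homotopy maps -/
noncomputable def hmap {n : ℕ} (i : Fin (n + 1)) : (N p) _⦋n⦌ ⟶ (N p) _⦋n + 1⦌ :=
  WidePullback.lift (bs p n)
    (fun k : Fin (n + 2) => pr p n (i.predAbove k) ≫ (if k ≤ i.castSucc then a else b))
    (by
      intro k
      dsimp
      split_ifs
      · rw [Category.assoc, ha]; exact pr_p p n _
      · rw [Category.assoc, hb]; exact pr_p p n _)

lemma hmap_pr {n : ℕ} (i : Fin (n + 1)) (k : Fin (n + 2)) :
    hmap p a b ha hb i ≫ pr p (n + 1) k =
      pr p n (i.predAbove k) ≫ (if k ≤ i.castSucc then a else b) :=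
  WidePullback.lift_π (fun _ : Fin (n + 2) => (Arrow.mk p).hom) _ _ _ _

lemma hmap_bs {n : ℕ} (i : Fin (n + 1)) :
    hmap p a b ha hb i ≫ bs p (n + 1) = bs p n :=
  WidePullback.lift_base (fun _ : Fin (n + 2) => (Arrow.mk p).hom) _ _ _

@[reassoc]
lemma δ_pr {n : ℕ} (i : Fin (n + 2)) (k : Fin (n + 1)) :
    (N p).δ i ≫ pr p n k = pr p (n + 1) (i.succAbove k) :=
  map_pr p (SimplexCategory.δ i) k

lemma δ_bs {n : ℕ} (i : Fin (n + 2)) : (N p).δ i ≫ bs p n = bs p (n + 1) :=
  map_bs p (SimplexCategory.δ i)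

@[reassoc]
lemma σ_pr {n : ℕ} (i : Fin (n + 1)) (k : Fin (n + 2)) :
    (N p).σ i ≫ pr p (n + 1) k = pr p n (i.predAbove k) :=
  map_pr p (SimplexCategory.σ i) k

lemma σ_bs {n : ℕ} (i : Fin (n + 1)) : (N p).σ i ≫ bs p (n + 1) = bs p n :=
  map_bs p (SimplexCategory.σ i)

lemma pr_ite_congr {n : ℕ} (k k' : Fin (n + 1)) (c c' : Prop) [Decidable c] [Decidable c']
    (hk : k = k') (hc : c ↔ c') :
    pr p n k ≫ (if c then a else b) = pr p n k' ≫ (if c' then a else b) := by
  subst hk
  by_cases h : c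
  · rw [if_pos h, if_pos (hc.1 h)]
  · rw [if_neg h, if_neg (fun h' => h (hc.2 h'))]

/-- the homotopy -/
noncomputable def htpy (F G : N p ⟶ N p)
    (hF : ∀ n k, F.app (op ⦋n⦌) ≫ pr p n k = pr p n k ≫ a)
    (hFb : ∀ n, F.app (op ⦋n⦌) ≫ bs p n = bs p n)
    (hG : ∀ n k, G.app (op ⦋n⦌) ≫ pr p n k = pr p n k ≫ b)
    (hGb : ∀ n, G.app (op ⦋n⦌) ≫ bs p n = bs p n) :
    SimplicialObject.Homotopy F G where
  h i := hmap p a b ha hb i
  h_zero_comp_δ_zero n := by
    refine hom_ext' p _ _ (fun k => ?_) ?_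
    · rw [Category.assoc, δ_pr, hmap_pr, hG]
      have h1 : (0 : Fin (n + 1)).predAbove ((0 : Fin (n + 2)).succAbove k) = k := by
        ext
        simp only [val_succAbove, val_predAbove, Fin.val_zero]
        split_ifs <;> omega
      have h2 : ¬ ((0 : Fin (n + 2)).succAbove k ≤ (0 : Fin (n + 1)).castSucc) := by
        simp only [Fin.le_def, val_succAbove, Fin.val_castSucc, Fin.val_zero]
        split_ifs <;> omega
      rw [h1, if_neg h2]
    · rw [Category.assoc, δ_bs, hmap_bs, hGb]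
  h_last_comp_δ_last n := by
    refine hom_ext' p _ _ (fun k => ?_) ?_
    · rw [Category.assoc, δ_pr, hmap_pr, hF]
      have h1 : (Fin.last n).predAbove ((Fin.last (n + 1)).succAbove k) = k := by
        ext
        simp only [val_succAbove, val_predAbove, Fin.val_last]
        split_ifs <;> omega
      have h2 : ((Fin.last (n + 1)).succAbove k ≤ (Fin.last n).castSucc) := by
        simp only [Fin.le_def, val_succAbove, Fin.val_castSucc, Fin.val_last]
        have := k.2
        split_ifs <;> omega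
      rw [h1, if_pos h2]
    · rw [Category.assoc, δ_bs, hmap_bs, hFb]
  h_succ_comp_δ_castSucc_of_lt i j hij := by
    have hij' := Fin.le_def.1 hij
    simp only [Fin.val_castSucc] at hij'
    refine hom_ext' p _ _ (fun k => ?_) ?_
    · rw [Category.assoc, δ_pr, hmap_pr, Category.assoc, hmap_pr, δ_pr_assoc]
      refine pr_ite_congr p a b _ _ _ _ ?_ ?_
      · ext
        simp only [val_succAbove, val_predAbove, Fin.val_castSucc, Fin.val_succ]
        split_ifs <;> omega
      · simp only [Fin.le_def, val_succAbove, val_predAbove, Fin.val_castSucc, Fin.val_succ]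
        split_ifs <;> omega
    · rw [Category.assoc, δ_bs, hmap_bs, Category.assoc, hmap_bs, δ_bs]
  h_succ_comp_δ_castSucc_succ j := by
    refine hom_ext' p _ _ (fun k => ?_) ?_
    · rw [Category.assoc, δ_pr, hmap_pr, Category.assoc, δ_pr, hmap_pr]
      refine pr_ite_congr p a b _ _ _ _ ?_ ?_
      · ext
        simp only [val_succAbove, val_predAbove, Fin.val_castSucc, Fin.val_succ]
        split_ifs <;> omega
      · simp only [Fin.le_def, val_succAbove, val_predAbove, Fin.val_castSucc, Fin.val_succ]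
        split_ifs <;> omega
    · rw [Category.assoc, δ_bs, hmap_bs, Category.assoc, δ_bs, hmap_bs]
  h_castSucc_comp_δ_succ_of_lt i j hji := by
    have hji' := Fin.lt_def.1 hji
    simp only [Fin.val_castSucc] at hji'
    refine hom_ext' p _ _ (fun k => ?_) ?_
    · rw [Category.assoc, δ_pr, hmap_pr, Category.assoc, hmap_pr, δ_pr_assoc]
      refine pr_ite_congr p a b _ _ _ _ ?_ ?_
      · ext
        simp only [val_succAbove, val_predAbove, Fin.val_castSucc, Fin.val_succ]
        split_ifs <;> omega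
      · simp only [Fin.le_def, val_succAbove, val_predAbove, Fin.val_castSucc, Fin.val_succ]
        split_ifs <;> omega
    · rw [Category.assoc, δ_bs, hmap_bs, Category.assoc, hmap_bs, δ_bs]
  h_comp_σ_castSucc_of_le i j hij := by
    have hij' := Fin.le_def.1 hij
    refine hom_ext' p _ _ (fun k => ?_) ?_
    · rw [Category.assoc, σ_pr, hmap_pr, Category.assoc, hmap_pr, σ_pr_assoc]
      refine pr_ite_congr p a b _ _ _ _ ?_ ?_
      · ext
        simp only [val_succAbove, val_predAbove, Fin.val_castSucc, Fin.val_succ]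
        split_ifs <;> omega
      · simp only [Fin.le_def, val_succAbove, val_predAbove, Fin.val_castSucc, Fin.val_succ]
        split_ifs <;> omega
    · rw [Category.assoc, σ_bs, hmap_bs, Category.assoc, hmap_bs, σ_bs]
  h_comp_σ_succ_of_lt i j hji := by
    have hji' := Fin.le_def.1 hji
    refine hom_ext' p _ _ (fun k => ?_) ?_
    · rw [Category.assoc, σ_pr, hmap_pr, Category.assoc, hmap_pr, σ_pr_assoc]
      refine pr_ite_congr p a b _ _ _ _ ?_ ?_
      · ext
        simp only [val_succAbove, val_predAbove, Fin.val_castSucc, Fin.val_succ]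
        split_ifs <;> omega
      · simp only [Fin.le_def, val_succAbove, val_predAbove, Fin.val_castSucc, Fin.val_succ]
        split_ifs <;> omega
    · rw [Category.assoc, σ_bs, hmap_bs, Category.assoc, hmap_bs, σ_bs]

end Groth.Agent.Helper3.CechHtpy
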