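import Mathlib
import Groth.Agent.Lib.Helper3.FCFree
import Groth.Agent.Lib.Helper3.CechExt
import Groth.Agent.Lib.Helper3.FreeQI
import Groth.Agent.Lib.Helper3.EDType

/-!
Čech nerve resolution, relative to a functor `u : C ⥤ D` preserving the iterated fibre products
of the family (generalises `CechNerveRes`, which is the case `u = 𝟭`).
-/

set_option autoImplicit false
universe u
open CategoryTheory Limits Opposite Simplicial

namespace Groth.Agent.Helper3.CechNerveResU

open FCFree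

variable {C D : Type u} [SmallCategory C] [SmallCategory D] (u : C ⥤ D)
  {X : C} [HasFiniteProducts (Over X)] [PreservesFiniteProducts (Over.post (X := X) u)]
  {ι : Type u} (Y : ι → Over X)

/-- the functor through which presheaves on `D` are restricted -/
abbrev Ψ : Over X ⥤ D := Over.forget X ⋙ u

/-- the family as a formal coproduct -/
abbrev U : FormalCoproduct.{u} (Over X) := FormalCoproduct.mk ι Y

/-- the Čech nerve of the family -/
noncomputable abbrev K : SimplicialObject (FormalCoproduct.{u} (Over X)) := (U Y).cech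

/-- the sieve generated by the image family -/
abbrev S : Sieve (u.obj X) :=
  Sieve.ofArrows (fun i => u.obj (Y i).left) (fun i => u.map (Y i).hom)

lemma map_w {α : Type} [Finite α] (i : α → ι) (k : α) :
    u.map (Pi.π (Y ∘ i) k).left ≫ u.map (Y (i k)).hom = u.map (∏ᶜ (Y ∘ i)).hom := by
  rw [← u.map_comp]
  exact congrArg u.map (Over.w (Pi.π (Y ∘ i) k))

lemma mem_S {W : D} {α : Type} [Finite α] (i : α → ι) (k : α)
    (g : W ⟶ u.obj (∏ᶜ (Y ∘ i)).left) : S u Y (g ≫ u.map (∏ᶜ (Y ∘ i)).hom) := by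
  have h : g ≫ u.map (∏ᶜ (Y ∘ i)).hom = (g ≫ u.map (Pi.π (Y ∘ i) k).left) ≫ u.map (Y (i k)).hom := by
    rw [Category.assoc, map_w]
  rw [h]
  exact Sieve.downward_closed _ (Sieve.ofArrows_mk _ _ (i k)) _

/-- the base map of the `n`-th term of the Čech nerve to the sieve -/
noncomputable def toS (n : SimplexCategoryᵒᵖ) : gset (Ψ (X := X) u) ((K Y).obj n) ⟶ (S u Y).functor where
  app W := ↾fun x => ⟨x.2 ≫ u.map (∏ᶜ (Y ∘ x.1)).hom, mem_S u Y x.1 (0 : Fin (n.unop.len + 1)) x.2⟩
  naturality W W' a := by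
    refine ConcreteCategory.hom_ext _ _ fun x => ?_
    obtain ⟨i, g⟩ := x
    apply Subtype.ext
    exact Category.assoc _ _ _

/-- the augmented simplicial presheaf of sets: image of the Čech nerve over the sieve -/
noncomputable def Aset : SimplicialObject.Augmented (Dᵒᵖ ⥤ Type u) where
  left := K Y ⋙ gsetFunctor (Ψ (X := X) u)
  right := (S u Y).functor
  hom :=
    { app := fun n => toS u Y n
      naturality := fun n m θ => by
        refine NatTrans.ext (funext fun W => ConcreteCategory.hom_ext _ _ fun x => ?_)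
        obtain ⟨i, g⟩ := x
        apply Subtype.ext
        change (g ≫ u.map (((K Y).map θ).φ i).left) ≫ _ = g ≫ _
        refine (Category.assoc _ _ _).trans (congrArg (g ≫ ·) ?_)
        refine (u.map_comp _ _).symm.trans (congrArg u.map ?_)
        exact Over.w (((K Y).map θ).φ i) }

section fixedW

variable (W : Dᵒᵖ)

/-- sections of the coproduct of the image family -/
abbrev E : Type u := (gset (Ψ (X := X) u) (U Y)).obj W

/-- the structure map to the sieve -/
def p (x : E u Y W) : (S u Y).functor.obj W :=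
  ⟨x.2 ≫ u.map (Y x.1).hom, Sieve.downward_closed _ (Sieve.ofArrows_mk _ _ x.1) _⟩

lemma p_surjective : Function.Surjective (p u Y W) := by
  rintro ⟨g, hg⟩
  obtain ⟨i, a, rfl⟩ := (Sieve.mem_ofArrows_iff _ _ g).1 hg
  exact ⟨⟨i, a⟩, rfl⟩

/-- the components of a section of the `n`-th term of the Čech nerve -/
noncomputable def β (n : ℕ) (x : (gset (Ψ (X := X) u) ((K Y) _⦋n⦌)).obj W) (k : Fin (n + 1)) : E u Y W :=
  (gsetMap (Ψ (X := X) u) ((U Y).powerπ (α := ToType ⦋n⦌) k)).app W x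

lemma β_mk (n : ℕ) (i : Fin (n + 1) → ι) (g : W.unop ⟶ u.obj (∏ᶜ (Y ∘ i)).left) (k : Fin (n + 1)) :
    β u Y W n (gset.mk (F := (K Y) _⦋n⦌) i g) k =
      gset.mk (F := U Y) (i k) (g ≫ u.map (Pi.π (Y ∘ i) k).left) := rfl

lemma β_nat {m n : ℕ} (θ : ⦋m⦌ ⟶ ⦋n⦌) (x : (gset (Ψ (X := X) u) ((K Y) _⦋n⦌)).obj W)
    (k : Fin (m + 1)) :
    β u Y W m ((gsetMap (Ψ (X := X) u) ((K Y).map θ.op)).app W x) k = β u Y W n x (θ.toOrderHom k) := by
  have h : (K Y).map θ.op ≫ (U Y).powerπ (α := ToType ⦋m⦌) k =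
      (U Y).powerπ (α := ToType ⦋n⦌) (θ.toOrderHom k) :=
    FormalCoproduct.mapPower_π (U Y) _ k
  have h2 := congrArg (fun f => (gsetMap (Ψ (X := X) u) f).app W x) h
  refine Eq.trans ?_ h2
  change _ = ((gsetFunctor (Ψ (X := X) u)).map ((K Y).map θ.op ≫ (U Y).powerπ (α := ToType ⦋m⦌) k)).app W x
  rw [Functor.map_comp]
  rfl

end fixedW

section fixedW2

variable (W : Dᵒᵖ)

/-- the image of the product cone is a limit cone -/
noncomputable def hl (n : ℕ) (i : Fin (n + 1) → ι) :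
    IsLimit ((Over.post (X := X) u).mapCone (limit.cone (Discrete.functor (Y ∘ i)))) :=
  isLimitOfPreserves _ (limit.isLimit _)

lemma β_mk_injective (n : ℕ) (i i' : Fin (n + 1) → ι) (g : W.unop ⟶ u.obj (∏ᶜ (Y ∘ i)).left)
    (g' : W.unop ⟶ u.obj (∏ᶜ (Y ∘ i')).left)
    (h : ∀ k, (gset.mk (F := U Y) (i k) (g ≫ u.map (Pi.π (Y ∘ i) k).left) : E u Y W) =
      gset.mk (F := U Y) (i' k) (g' ≫ u.map (Pi.π (Y ∘ i') k).left)) :
    (gset.mk (F := (K Y) _⦋n⦌) i g : (gset (Ψ (X := X) u) ((K Y) _⦋n⦌)).obj W) =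
      gset.mk (F := (K Y) _⦋n⦌) i' g' := by
  have h1 : i = i' := funext fun k => congrArg Sigma.fst (h k)
  subst h1
  have h2 : ∀ k, g ≫ u.map (Pi.π (Y ∘ i) k).left = g' ≫ u.map (Pi.π (Y ∘ i) k).left := fun k =>
    eq_of_heq (Sigma.mk.inj (h k)).2
  have hφ : g' ≫ u.map (∏ᶜ (Y ∘ i)).hom = g ≫ u.map (∏ᶜ (Y ∘ i)).hom := by
    rw [← map_w u Y i 0, ← Category.assoc, ← Category.assoc, h2 0]
  have h3 : Over.homMk (U := Over.mk (g ≫ u.map (∏ᶜ (Y ∘ i)).hom))
        (V := (Over.post (X := X) u).obj (∏ᶜ (Y ∘ i))) g rfl =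
      Over.homMk (U := Over.mk (g ≫ u.map (∏ᶜ (Y ∘ i)).hom))
        (V := (Over.post (X := X) u).obj (∏ᶜ (Y ∘ i))) g' hφ := by
    apply (hl u Y n i).hom_ext
    rintro ⟨k⟩
    apply Over.OverMorphism.ext
    exact h2 k
  have h4 := congrArg CommaMorphism.left h3
  simp only [Over.homMk_left] at h4
  subst h4
  rfl

lemma β_injective (n : ℕ) : Function.Injective (β u Y W n) := by
  rintro ⟨i, g⟩ ⟨i', g'⟩ h
  exact β_mk_injective u Y W n i i' g g' (fun k => congrFun h k)

lemma β_surj (n : ℕ) (e : Fin (n + 1) → E u Y W) (b : (S u Y).functor.obj W)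
    (h : ∀ k, p u Y W (e k) = b) : ∃ x, β u Y W n x = e := by
  have hk : ∀ k, (e k).2 ≫ u.map (Y (e k).1).hom = b.1 := fun k => congrArg Subtype.val (h k)
  let i : Fin (n + 1) → ι := fun k => (e k).1
  let f : ∀ k : Fin (n + 1), Over.mk b.1 ⟶ (Over.post (X := X) u).obj (Y (i k)) := fun k =>
    Over.homMk (e k).2 (hk k)
  let c : Cone (Discrete.functor (Y ∘ i) ⋙ Over.post (X := X) u) :=
    { pt := Over.mk b.1
      π := Discrete.natTrans fun ⟨k⟩ => f k }
  let l := (hl u Y n i).lift c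
  refine ⟨gset.mk (F := (K Y) _⦋n⦌) i l.left, ?_⟩
  funext k
  rw [β_mk]
  have h1 : l.left ≫ u.map (Pi.π (Y ∘ i) k).left = (e k).2 := by
    have := (hl u Y n i).fac c ⟨k⟩
    exact congrArg CommaMorphism.left this
  exact congrArg (gset.mk (F := U Y) (e k).1) h1

lemma p_β (n : ℕ) (x : (gset (Ψ (X := X) u) ((K Y) _⦋n⦌)).obj W) (k : Fin (n + 1)) :
    p u Y W (β u Y W n x k) = (toS u Y (op ⦋n⦌)).app W x := by
  obtain ⟨i, g⟩ := x
  apply Subtype.ext
  change (g ≫ u.map (Pi.π (Y ∘ i) k).left) ≫ u.map (Y (i k)).hom = g ≫ u.map (∏ᶜ (Y ∘ i)).hom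
  refine (Category.assoc _ _ _).trans (congrArg (g ≫ ·) ?_)
  exact map_w u Y (α := Fin (n + 1)) i k

end fixedW2

theorem nonempty_extraDegeneracy (W : Dᵒᵖ) :
    Nonempty (SimplicialObject.Augmented.ExtraDegeneracy (FreeQI.evalAug (Aset u Y) W)) :=
  EDType.nonempty_extraDegeneracy (FreeQI.evalAug (Aset u Y) W) (E := E u Y W) (p u Y W)
    (fun n => β u Y W n) (fun θ x k => β_nat u Y W θ x k) (fun n => β_injective u Y W n)
    (fun n x k => p_β u Y W n x k) (fun n e b h => β_surj u Y W n e b h) (p_surjective u Y W)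

/-- the free abelian presheaf on the sieve generated by the image family -/
abbrev ZS : Dᵒᵖ ⥤ AddCommGrpCat.{u} := (S u Y).functor ⋙ AddCommGrpCat.free.{u}

/-- the augmentation of the free complex of the Čech nerve -/
noncomputable def π : CechExt.freeCx (Ψ (X := X) u) (K Y) ⟶ (ChainComplex.single₀ _).obj (ZS u Y) :=
  AlgebraicTopology.AlternatingFaceMapComplex.ε.app (FreeQI.freeAug (Aset u Y))

instance : QuasiIso (π u Y) :=
  FreeQI.quasiIso_ε_freeAug (Aset u Y) (nonempty_extraDegeneracy u Y)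

attribute [local instance] PShInst.isGrothendieckAbelian_psh

/-- Čech cohomology of the restricted presheaf with respect to a family is `Ext` out of the free
presheaf on the sieve generated by the image family -/
noncomputable def cechExtIso (M : Dᵒᵖ ⥤ AddCommGrpCat.{u}) (n : ℕ) :
    ((cechComplexFunctor Y).obj ((Over.forget X).op ⋙ u.op ⋙ M)).homology n ≅
      AddCommGrpCat.of (Abelian.Ext.{u} (ZS u Y) M n) :=
  CechExt.cechExtIso (Ψ (X := X) u) (K Y) (π u Y) M n

/-- Čech cohomology of the restriction of an injective presheaf vanishes in positive degrees -/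
theorem isZero_cech_of_injective (M : Dᵒᵖ ⥤ AddCommGrpCat.{u}) [Injective M] (p : ℕ) :
    IsZero (((cechComplexFunctor Y).obj ((Over.forget X).op ⋙ u.op ⋙ M)).homology (p + 1)) := by
  refine IsZero.of_iso ?_ (cechExtIso u Y M (p + 1))
  have : Subsingleton (Abelian.Ext.{u} (ZS u Y) M (p + 1)) :=
    subsingleton_of_forall_eq 0 fun x => Abelian.Ext.eq_zero_of_injective x
  exact AddCommGrpCat.isZero_of_subsingleton _

end Groth.Agent.Helper3.CechNerveResU
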