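import Mathlib
import Groth.Agent.Lib.Helper3.FCFree

/-!
# Sections of `O_X`-modules over opens: products, monos, epis, exactness (helper3 library)
-/

set_option autoImplicit false
universe u
open CategoryTheory CategoryTheory.Limits AlgebraicGeometry Opposite TopologicalSpace

namespace Groth.Agent.Helper3.SecMod

variable {X : Scheme.{u}}

/-- the sections functor `M ↦ Γ(M, V)` -/
noncomputable abbrev sec (V : X.Opens) : X.Modules ⥤ AddCommGrpCat.{u} :=
  Scheme.Modules.toPresheaf X ⋙ (evaluation _ _).obj (op V)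

instance (V : X.Opens) : (sec V).Additive where
  map_add := rfl

instance (V : X.Opens) : PreservesLimits (sec V) :=
  haveI : PreservesLimits ((evaluation (X.Opens)ᵒᵖ AddCommGrpCat.{u}).obj (op V)) :=
    ⟨fun {_} _ => inferInstance⟩
  comp_preservesLimits _ _

lemma sec_map {M N : X.Modules} (φ : M ⟶ N) (V : X.Opens) : (sec V).map φ = φ.app V := rfl

/-- restriction of sections -/
noncomputable abbrev res (M : X.Modules) {V V' : X.Opens} (h : V' ≤ V) (s : Γ(M, V)) : Γ(M, V') :=
  M.presheaf.map (homOfLE h).op s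

lemma res_res (M : X.Modules) {V V' V'' : X.Opens} (h : V' ≤ V) (h' : V'' ≤ V') (s : Γ(M, V)) :
    res M h' (res M h s) = res M (h'.trans h) s := by
  change (M.presheaf.map (homOfLE h).op ≫ M.presheaf.map (homOfLE h').op) s = _
  rw [← M.presheaf.map_comp]
  rfl

lemma res_self (M : X.Modules) {V : X.Opens} (h : V ≤ V) (s : Γ(M, V)) : res M h s = s := by
  change M.presheaf.map (𝟙 (op V)) s = s
  rw [M.presheaf.map_id]
  rfl

lemma app_res {M N : X.Modules} (φ : M ⟶ N) {V V' : X.Opens} (h : V' ≤ V) (s : Γ(M, V)) :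
    φ.app V' (res M h s) = res N h (φ.app V s) := by
  exact ConcreteCategory.congr_hom (φ.mapPresheaf.naturality (homOfLE h).op) s

lemma app_injective_of_mono {M N : X.Modules} (φ : M ⟶ N) [Mono φ] (V : X.Opens) :
    Function.Injective (φ.app V) := by
  have : (sec (X := X) V).PreservesMonomorphisms := preservesMonomorphisms_of_preservesLimitsOfShape _
  have h : Mono ((sec V).map φ) := inferInstance
  exact (AddCommGrpCat.mono_iff_injective _).1 h

lemma mono_of_injective {M N : X.Modules} (φ : M ⟶ N)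
    (h : ∀ V : X.Opens, Function.Injective (φ.app V)) : Mono φ := by
  have h1 : Mono ((Scheme.Modules.toPresheaf X).map φ) := by
    haveI : ∀ c, Mono (((Scheme.Modules.toPresheaf X).map φ).app c) := fun c =>
      (AddCommGrpCat.mono_iff_injective _).2 (h c.unop)
    exact NatTrans.mono_of_mono_app _
  exact (Scheme.Modules.toPresheaf X).mono_of_mono_map h1

lemma epi_of_locally_surjective {M N : X.Modules} (φ : M ⟶ N)
    (h : ∀ (V : X.Opens) (s : Γ(N, V)) (z : X), z ∈ V →
      ∃ (V' : X.Opens) (hV : V' ≤ V), z ∈ V' ∧ ∃ t : Γ(M, V'), φ.app V' t = res N hV s) :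
    Epi φ := by
  have h1 : Sheaf.IsLocallySurjective ((SheafOfModules.toSheaf X.ringCatSheaf).map φ) := by
    refine ⟨fun {U} s => ?_⟩
    rw [Opens.mem_grothendieckTopology]
    intro z hz
    obtain ⟨V', hV, hzV, t, ht⟩ := h U s z hz
    exact ⟨V', homOfLE hV, ⟨t, ht⟩, hzV⟩
  have h2 : Epi ((SheafOfModules.toSheaf X.ringCatSheaf).map φ) :=
    (Sheaf.isLocallySurjective_iff_epi' (φ := (SheafOfModules.toSheaf X.ringCatSheaf).map φ)).1 h1
  exact (SheafOfModules.toSheaf X.ringCatSheaf).epi_of_epi_map h2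

lemma exact_of_locally (S : ShortComplex X.Modules)
    (h : ∀ (V : X.Opens) (s : Γ(S.X₂, V)), S.g.app V s = 0 → ∀ z : X, z ∈ V →
      ∃ (V' : X.Opens) (hV : V' ≤ V), z ∈ V' ∧ ∃ t : Γ(S.X₁, V'), S.f.app V' t = res S.X₂ hV s) :
    S.Exact := by
  rw [S.exact_iff_epi_kernel_lift]
  apply epi_of_locally_surjective
  intro V s z hz
  have h0 : S.g.app V ((kernel.ι S.g).app V s) = 0 := by
    change ((kernel.ι S.g).app V ≫ S.g.app V) s = 0
    rw [← Scheme.Modules.Hom.comp_app, kernel.condition]
    rfl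
  obtain ⟨V', hV, hzV, t, ht⟩ := h V _ h0 z hz
  refine ⟨V', hV, hzV, t, ?_⟩
  apply app_injective_of_mono (kernel.ι S.g) V'
  rw [app_res, ← ht]
  change ((kernel.lift S.g S.f S.zero).app V' ≫ (kernel.ι S.g).app V') t = _
  rw [← Scheme.Modules.Hom.comp_app, kernel.lift_ι]

/-! ### sections of products -/

section Pi
variable {J : Type u} (M : J → X.Modules) (V : X.Opens)

lemma pi_ext (s s' : Γ(∏ᶜ M, V)) (h : ∀ j, (Pi.π M j).app V s = (Pi.π M j).app V s') : s = s' := by
  let e := PreservesProduct.iso (sec V) M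
  have hinj : Function.Injective e.hom := by
    intro a b hab
    have := congrArg e.inv hab
    change (e.hom ≫ e.inv) a = (e.hom ≫ e.inv) b at this
    rw [Iso.hom_inv_id] at this
    exact this
  apply hinj
  apply FCFree.pi_ext
  intro j
  have h1 : e.hom ≫ Pi.π (fun j => (sec V).obj (M j)) j = (sec V).map (Pi.π M j) := by
    rw [PreservesProduct.iso_hom, piComparison_comp_π]
  have h2 := ConcreteCategory.congr_hom h1 s
  have h3 := ConcreteCategory.congr_hom h1 s'
  rw [ConcreteCategory.comp_apply] at h2 h3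
  rw [h2, h3]
  exact h j

lemma pi_exists (f : ∀ j, Γ(M j, V)) : ∃ s : Γ(∏ᶜ M, V), ∀ j, (Pi.π M j).app V s = f j := by
  let e := PreservesProduct.iso (sec V) M
  refine ⟨e.inv ((FCFree.piIso (fun j => (sec V).obj (M j))).inv f), fun j => ?_⟩
  have h1 : e.inv ≫ (sec V).map (Pi.π M j) = Pi.π (fun j => (sec V).obj (M j)) j := by
    rw [Iso.inv_comp_eq, PreservesProduct.iso_hom, piComparison_comp_π]
  have h2 := ConcreteCategory.congr_hom h1 ((FCFree.piIso (fun j => (sec V).obj (M j))).inv f)
  rw [ConcreteCategory.comp_apply] at h2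
  exact h2.trans (FCFree.π_piIso_inv_apply _ f j)

end Pi

end Groth.Agent.Helper3.SecMod
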