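import Mathlib
import Groth.Prelude.Def_CechOX
import Groth.Agent.Lib.Helper3.SecMod
import Groth.Agent.Lib.Helper3.CechGen

/-!
# The Čech complex of sheaves of an `O_X`-module for an open covering is a resolution
(helper3 library)
-/

set_option autoImplicit false
universe u
open CategoryTheory CategoryTheory.Limits AlgebraicGeometry Opposite TopologicalSpace

namespace Groth.Agent.Helper3.CechShRes

open Groth.Agent.Helper3

variable {X : Scheme.{u}}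

/-- `V ∩ W`, in the form in which it appears in the sections of `(j_W)_*(F|_W)` -/
abbrev iv (W V : X.Opens) : X.Opens := W.ι ''ᵁ (W.ι ⁻¹ᵁ V)

lemma iv_eq (W V : X.Opens) : iv W V = W ⊓ V := by
  rw [iv, Scheme.Hom.image_preimage_eq_opensRange_inf, Scheme.Opens.opensRange_ι]

lemma iv_le_right (W V : X.Opens) : iv W V ≤ V := W.ι.image_preimage_le V

lemma iv_le_left (W V : X.Opens) : iv W V ≤ W := by
  rw [iv_eq]; exact inf_le_left

lemma le_iv {O W V : X.Opens} (h1 : O ≤ W) (h2 : O ≤ V) : O ≤ iv W V := by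
  rw [iv_eq]; exact le_inf h1 h2

lemma iv_mono_right (W : X.Opens) {V V' : X.Opens} (h : V' ≤ V) : iv W V' ≤ iv W V :=
  W.ι.image_mono (W.ι.preimage_mono h)

section Res
variable (M : X.Modules) {V V' : X.Opens} (h : V' ≤ V)

lemma res_add (s s' : Γ(M, V)) : SecMod.res M h (s + s') = SecMod.res M h s + SecMod.res M h s' :=
  map_add _ _ _
lemma res_neg (s : Γ(M, V)) : SecMod.res M h (-s) = -SecMod.res M h s := map_neg _ _
lemma res_zero : SecMod.res M h (0 : Γ(M, V)) = 0 := map_zero _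
lemma res_zsmul (c : ℤ) (s : Γ(M, V)) : SecMod.res M h (c • s) = c • SecMod.res M h s :=
  map_zsmul _ _ _
lemma res_sum {α : Type*} (t : Finset α) (f : α → Γ(M, V)) :
    SecMod.res M h (∑ i ∈ t, f i) = ∑ i ∈ t, SecMod.res M h (f i) := map_sum _ _ _
end Res

lemma app_sum {M N : X.Modules} {m : ℕ} (c : Fin m → ℤ) (φ : Fin m → (M ⟶ N)) (V : X.Opens)
    (x : Γ(M, V)) :
    (∑ i, c i • φ i).app V x = ∑ i, c i • (φ i).app V x := by
  have h : (∑ i, c i • φ i).app V = ∑ i, c i • (φ i).app V := by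
    have h' := (SecMod.sec V).map_sum (fun i => c i • φ i) Finset.univ
    simp only [Functor.map_zsmul] at h'
    exact h'
  rw [h]
  have h2 : (∑ i, c i • (φ i).app V).hom = ∑ i, (c i • (φ i).app V).hom :=
    map_sum (AddCommGrpCat.homAddEquiv (M := Γ(M, V)) (N := Γ(N, V))) _ _
  change (∑ i, c i • (φ i).app V).hom x = _
  rw [h2, AddMonoidHom.finsetSum_apply]
  rfl

variable {ι : Type u} (𝒰 : ι → X.Opens) (F : X.Modules)

/-- the presheaf of modules `W ↦ (j_W)_*(F|_W)` -/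
noncomputable abbrev P : (X.Opens)ᵒᵖ ⥤ X.Modules := CechOX.pushRestrFam.flip.obj F

/-- the Čech complex of sheaves -/
noncomputable abbrev K : CochainComplex X.Modules ℕ := CechGen.K 𝒰 (P F)

lemma cechSh_obj : (CechOX.cechSh 𝒰).obj F = K 𝒰 F := rfl

/-- the unit `F ⟶ (j_W)_*(F|_W)` -/
noncomputable abbrev η (W : X.Opens) : F ⟶ (P F).obj (op W) :=
  (Scheme.Modules.restrictAdjunction W.ι).unit.app F

lemma η_app (W V : X.Opens) :
    (η F W).app V = F.presheaf.map (homOfLE (iv_le_right W V)).op := rfl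

lemma P_map_app {W W' : X.Opens} (h : W' ≤ W) (V : X.Opens) :
    ((P F).map (homOfLE h).op).app V =
      F.presheaf.map (homOfLE (CechOX.image_preimage_mono h V)).op := rfl

lemma η_map {W W' : X.Opens} (h : W' ≤ W) : η F W ≫ (P F).map (homOfLE h).op = η F W' := by
  apply Scheme.Modules.hom_ext
  intro V
  rw [Scheme.Modules.Hom.comp_app, η_app, η_app, P_map_app]
  exact (F.presheaf.map_comp _ _).symm

/-- the coaugmentation -/
noncomputable abbrev aug : F ⟶ (K 𝒰 F).X 0 := CechOX.cechShAug 𝒰 F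

lemma aug_proj (a : Fin 1 → ι) :
    aug 𝒰 F ≫ CechGen.proj 𝒰 (P F) 0 a = η F (CechGen.W 𝒰 a) :=
  Pi.lift_π _ a

theorem aug_d : aug 𝒰 F ≫ (K 𝒰 F).d 0 1 = 0 := by
  apply CechGen.hom_ext 𝒰 (P F) 1
  intro a
  have h : (K 𝒰 F).d 0 1 ≫ CechGen.proj 𝒰 (P F) 1 a = _ := CechGen.d_proj 𝒰 (P F) 0 a
  rw [Category.assoc, h, zero_comp, Preadditive.comp_sum, Fin.sum_univ_two]
  simp only [Fin.val_zero, pow_zero, one_smul, Fin.val_one, pow_one, neg_smul,
    Preadditive.comp_neg]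
  rw [← Category.assoc, ← Category.assoc, aug_proj, aug_proj, η_map, η_map]
  exact add_neg_cancel _

section Elements
variable {𝒰 F}

/-- the components of a section of `𝔠^n` -/
noncomputable def cmp (n : ℕ) (a : Fin (n + 1) → ι) {V : X.Opens} (s : Γ((K 𝒰 F).X n, V)) :
    Γ(F, iv (CechGen.W 𝒰 a) V) :=
  (CechGen.proj 𝒰 (P F) n a).app V s

lemma cmp_zero (n : ℕ) (a : Fin (n + 1) → ι) {V : X.Opens} :
    cmp n a (0 : Γ((K 𝒰 F).X n, V)) = 0 :=
  map_zero ((CechGen.proj 𝒰 (P F) n a).app V).hom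

lemma cmp_ext (n : ℕ) (V : X.Opens) (s s' : Γ((K 𝒰 F).X n, V))
    (h : ∀ a, cmp n a s = cmp n a s') : s = s' :=
  SecMod.pi_ext (fun a : Fin (n + 1) → ι => (P F).obj (op (CechGen.W 𝒰 a))) V s s' h

lemma cmp_exists (n : ℕ) (V : X.Opens) (f : ∀ a : Fin (n + 1) → ι, Γ(F, iv (CechGen.W 𝒰 a) V)) :
    ∃ s : Γ((K 𝒰 F).X n, V), ∀ a, cmp n a s = f a :=
  SecMod.pi_exists (fun a : Fin (n + 1) → ι => (P F).obj (op (CechGen.W 𝒰 a))) V f

lemma cmp_res (n : ℕ) (a : Fin (n + 1) → ι) {V V' : X.Opens} (h : V' ≤ V)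
    (s : Γ((K 𝒰 F).X n, V)) :
    cmp n a (SecMod.res ((K 𝒰 F).X n) h s) = SecMod.res F (iv_mono_right _ h) (cmp n a s) :=
  SecMod.app_res (CechGen.proj 𝒰 (P F) n a) h s

lemma cmp_congr {n : ℕ} (a a' : Fin (n + 1) → ι) (h : a = a') {V : X.Opens}
    (s : Γ((K 𝒰 F).X n, V)) (O : X.Opens) (h1 : O ≤ iv (CechGen.W 𝒰 a) V)
    (h2 : O ≤ iv (CechGen.W 𝒰 a') V) :
    SecMod.res F h1 (cmp n a s) = SecMod.res F h2 (cmp n a' s) := by
  subst h
  rfl

lemma cmp_d (n : ℕ) (b : Fin (n + 2) → ι) {V : X.Opens} (s : Γ((K 𝒰 F).X n, V)) :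
    cmp (n + 1) b (((K 𝒰 F).d n (n + 1)).app V s) =
      ∑ i : Fin (n + 2), (-1 : ℤ) ^ (i : ℕ) •
        SecMod.res F (CechOX.image_preimage_mono (CechGen.W_face_le 𝒰 b i) V)
          (cmp n (fun k => b (i.succAbove k)) s) := by
  have h1 : cmp (n + 1) b (((K 𝒰 F).d n (n + 1)).app V s) =
      ((K 𝒰 F).d n (n + 1) ≫ CechGen.proj 𝒰 (P F) (n + 1) b).app V s := rfl
  rw [h1, CechGen.d_proj, app_sum]
  rfl

lemma cmp_aug (a : Fin 1 → ι) {V : X.Opens} (t : Γ(F, V)) :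
    cmp 0 a ((aug 𝒰 F).app V t) = SecMod.res F (iv_le_right _ _) t := by
  change ((aug 𝒰 F ≫ CechGen.proj 𝒰 (P F) 0 a).app V) t = _
  rw [aug_proj]
  rfl

end Elements


/-! ### Exactness in positive degrees -/

section Core
variable {𝒰 F} (j : ι)

lemma hcons {n : ℕ} (a : Fin (n + 1) → ι) {V : X.Opens} (hV : V ≤ 𝒰 j) :
    iv (CechGen.W 𝒰 a) V ≤ iv (CechGen.W 𝒰 (Fin.cons j a : Fin (n + 2) → ι)) V := by
  apply le_iv
  · apply CechGen.le_W
    intro k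
    refine Fin.cases ?_ (fun k' => ?_) k
    · rw [Fin.cons_zero]; exact (iv_le_right _ _).trans hV
    · rw [Fin.cons_succ]; exact (iv_le_left _ _).trans (CechGen.W_le 𝒰 a k')
  · exact iv_le_right _ _

lemma cons_succAbove_zero {n : ℕ} (b : Fin (n + 1) → ι) :
    (fun k => (Fin.cons j b : Fin (n + 2) → ι) ((0 : Fin (n + 2)).succAbove k)) = b := by
  funext k
  rw [Fin.succAbove_zero]
  exact Fin.cons_succ _ _ _

lemma cons_succAbove_succ {n : ℕ} (b : Fin (n + 2) → ι) (i : Fin (n + 2)) :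
    (fun k => (Fin.cons j b : Fin (n + 3) → ι) (i.succ.succAbove k)) =
      (Fin.cons j (fun k => b (i.succAbove k)) : Fin (n + 2) → ι) := by
  funext k
  refine Fin.cases ?_ (fun k' => ?_) k
  · rw [Fin.succ_succAbove_zero, Fin.cons_zero, Fin.cons_zero]
  · rw [Fin.succ_succAbove_succ, Fin.cons_succ, Fin.cons_succ]

theorem core {V : X.Opens} (hV : V ≤ 𝒰 j) (p : ℕ) (s : Γ((K 𝒰 F).X (p + 1), V))
    (hs : ((K 𝒰 F).d (p + 1) (p + 2)).app V s = 0) :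
    ∃ t : Γ((K 𝒰 F).X p, V), ((K 𝒰 F).d p (p + 1)).app V t = s := by
  obtain ⟨t, ht⟩ := cmp_exists (𝒰 := 𝒰) (F := F) p V
    (fun a => SecMod.res F (hcons j a hV) (cmp (p + 1) (Fin.cons j a) s))
  refine ⟨t, cmp_ext (p + 1) V _ _ (fun b => ?_)⟩
  rw [cmp_d]
  have h0 : cmp (p + 2) (Fin.cons j b) (((K 𝒰 F).d (p + 1) (p + 2)).app V s) = 0 := by
    rw [hs]; exact cmp_zero _ _
  rw [cmp_d, Fin.sum_univ_succ] at h0
  have h1 := congrArg (SecMod.res F (hcons j b hV)) h0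
  rw [res_add, res_sum, res_zero, res_zsmul, SecMod.res_res] at h1
  -- the first term
  have e0 := cmp_congr (𝒰 := 𝒰) (F := F) _ b (cons_succAbove_zero j b) s
    (iv (CechGen.W 𝒰 b) V)
    ((hcons j b hV).trans (CechOX.image_preimage_mono (CechGen.W_face_le 𝒰 (Fin.cons j b) 0) V))
    le_rfl
  rw [SecMod.res_self] at e0
  rw [e0] at h1
  -- the other terms
  have e1 : ∀ i : Fin (p + 2),
      SecMod.res F (hcons j b hV) ((-1 : ℤ) ^ ((i.succ : Fin (p + 3)) : ℕ) •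
        SecMod.res F (CechOX.image_preimage_mono (CechGen.W_face_le 𝒰 (Fin.cons j b) i.succ) V)
          (cmp (p + 1) (fun k => (Fin.cons j b : Fin (p + 3) → ι) (i.succ.succAbove k)) s)) =
      -((-1 : ℤ) ^ (i : ℕ) •
        SecMod.res F (CechOX.image_preimage_mono (CechGen.W_face_le 𝒰 b i) V)
          (cmp p (fun k => b (i.succAbove k)) t)) := by
    intro i
    rw [res_zsmul, SecMod.res_res, ht, SecMod.res_res, Fin.val_succ, pow_succ, mul_neg_one,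
      neg_smul]
    congr 2
    exact cmp_congr _ _ (cons_succAbove_succ j b i) s _ _ _
  rw [Finset.sum_congr rfl (fun i _ => e1 i), Finset.sum_neg_distrib, Fin.val_zero, pow_zero,
    one_smul, add_neg_eq_zero] at h1
  exact h1.symm

theorem exactAt_succ (h𝒰 : ⨆ i, 𝒰 i = ⊤) (p : ℕ) : (K 𝒰 F).ExactAt (p + 1) := by
  rw [(K 𝒰 F).exactAt_iff' p (p + 1) (p + 2) (by simp) (by simp)]
  apply SecMod.exact_of_locally
  intro V s hs z hz
  have hz' : z ∈ (⨆ i, 𝒰 i : X.Opens) := by rw [h𝒰]; trivial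
  obtain ⟨j, hj⟩ := Opens.mem_iSup.1 hz'
  refine ⟨V ⊓ 𝒰 j, inf_le_left, ⟨hz, hj⟩, ?_⟩
  have hs' : ((K 𝒰 F).d (p + 1) (p + 2)).app (V ⊓ 𝒰 j)
      (SecMod.res ((K 𝒰 F).X (p + 1)) inf_le_left s) = 0 := by
    rw [SecMod.app_res]
    exact (congrArg (SecMod.res ((K 𝒰 F).X (p + 2)) inf_le_left) hs).trans (res_zero _ _)
  exact core j inf_le_right p _ hs'

end Core


/-! ### Degree zero -/

section Zero
variable {𝒰 F}

/-- the covering `V ∩ U_i` of `V` -/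
noncomputable abbrev Uc (𝒰 : ι → X.Opens) (V : X.Opens) : ι → X.Opens :=
  fun i => iv (CechGen.W 𝒰 (fun _ : Fin 1 => i)) V

lemma cover (h𝒰 : ⨆ i, 𝒰 i = ⊤) (V : X.Opens) : V ≤ iSup (Uc 𝒰 V) := by
  intro z hz
  have hz' : z ∈ (⨆ i, 𝒰 i : X.Opens) := by rw [h𝒰]; trivial
  obtain ⟨j, hj⟩ := Opens.mem_iSup.1 hz'
  refine Opens.mem_iSup.2 ⟨j, ?_⟩
  have h1 : 𝒰 j ⊓ V ≤ Uc 𝒰 V j :=
    le_iv (inf_le_left.trans (CechGen.le_W 𝒰 _ _ (fun _ => le_rfl))) inf_le_right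
  exact h1 ⟨hj, hz⟩

theorem mono_aug (h𝒰 : ⨆ i, 𝒰 i = ⊤) : Mono (aug 𝒰 F) := by
  apply SecMod.mono_of_injective
  intro V
  rw [injective_iff_map_eq_zero]
  intro s hs
  apply TopCat.Sheaf.eq_of_locally_eq' (⟨F.presheaf, F.isSheaf⟩ : TopCat.Sheaf Ab X) (Uc 𝒰 V) V
    (fun i => homOfLE (iv_le_right _ _)) (cover h𝒰 V)
  intro i
  have h2 := cmp_aug (𝒰 := 𝒰) (F := F) (fun _ => i) s
  rw [hs, cmp_zero] at h2
  exact h2.symm.trans (res_zero F _).symm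

theorem exact_zero (h𝒰 : ⨆ i, 𝒰 i = ⊤) :
    (ShortComplex.mk (aug 𝒰 F) ((K 𝒰 F).d 0 1) (aug_d 𝒰 F)).Exact := by
  apply SecMod.exact_of_locally
  intro V s hs z hz
  refine ⟨V, le_rfl, hz, ?_⟩
  change ((K 𝒰 F).d 0 1).app V s = 0 at hs
  change ∃ t : Γ(F, V), (aug 𝒰 F).app V t = SecMod.res ((K 𝒰 F).X 0) le_rfl s
  let sf : ∀ i, Γ(F, Uc 𝒰 V i) := fun i => cmp 0 (fun _ => i) s
  have hcompat : TopCat.Presheaf.IsCompatible F.presheaf (Uc 𝒰 V) sf := by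
    intro i i'
    let a : Fin 2 → ι := Fin.cons i (fun _ => i')
    have h0 : cmp 1 a (((K 𝒰 F).d 0 1).app V s) = 0 := by rw [hs]; exact cmp_zero _ _
    have hd := cmp_d (𝒰 := 𝒰) (F := F) 0 a s
    rw [Fin.sum_univ_two] at hd
    simp only [Fin.val_zero, pow_zero, one_smul, Fin.val_one, pow_one, neg_smul] at hd
    have hO : Uc 𝒰 V i ⊓ Uc 𝒰 V i' ≤ iv (CechGen.W 𝒰 a) V := by
      apply le_iv
      · apply CechGen.le_W
        intro k
        refine Fin.cases ?_ (fun k' => ?_) k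
        · exact inf_le_left.trans ((iv_le_left _ _).trans (CechGen.W_le 𝒰 (fun _ => i) 0))
        · exact inf_le_right.trans ((iv_le_left _ _).trans (CechGen.W_le 𝒰 (fun _ => i') 0))
      · exact inf_le_left.trans (iv_le_right _ _)
    have h1 := congrArg (SecMod.res F hO) (hd.symm.trans h0)
    rw [res_add, res_neg, res_zero, SecMod.res_res, SecMod.res_res, add_neg_eq_zero] at h1
    have e0 : (fun k : Fin 1 => a ((0 : Fin 2).succAbove k)) = fun _ => i' := by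
      funext k
      rw [Fin.succAbove_zero]
      exact Fin.cons_succ _ _ _
    have e1 : (fun k : Fin 1 => a ((1 : Fin 2).succAbove k)) = fun _ => i := by
      funext k
      have hk : k = 0 := Subsingleton.elim _ _
      subst hk
      rfl
    rw [cmp_congr _ _ e0 s _ _ inf_le_right, cmp_congr _ _ e1 s _ _ inf_le_left] at h1
    exact h1.symm
  obtain ⟨t, ht, -⟩ := TopCat.Sheaf.existsUnique_gluing'
    (⟨F.presheaf, F.isSheaf⟩ : TopCat.Sheaf Ab X) (Uc 𝒰 V) V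
    (fun i => homOfLE (iv_le_right _ _)) (cover h𝒰 V) sf hcompat
  refine ⟨t, ?_⟩
  rw [SecMod.res_self]
  apply cmp_ext 0 V
  intro a
  rw [cmp_aug]
  have e : a = fun _ => a 0 := by
    funext k
    have hk : k = 0 := Fin.fin_one_eq_zero k
    rw [hk]
  have h3 := cmp_congr a (fun _ => a 0) e s (iv (CechGen.W 𝒰 a) V) le_rfl
    (congrArg (fun a' => iv (CechGen.W 𝒰 a') V) e).le
  rw [SecMod.res_self] at h3
  rw [h3]
  have h4 : cmp 0 (fun _ => a 0) s = SecMod.res F (iv_le_right _ _) t := (ht (a 0)).symm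
  rw [h4, SecMod.res_res]

theorem kernel_prop (h𝒰 : ⨆ i, 𝒰 i = ⊤) (G : X.Modules) (g : G ⟶ (K 𝒰 F).X 0)
    (hg : g ≫ (K 𝒰 F).d 0 1 = 0) : ∃! g' : G ⟶ F, g' ≫ aug 𝒰 F = g := by
  haveI := mono_aug (𝒰 := 𝒰) (F := F) h𝒰
  have hS := exact_zero (𝒰 := 𝒰) (F := F) h𝒰
  haveI : Mono (ShortComplex.mk (aug 𝒰 F) ((K 𝒰 F).d 0 1) (aug_d 𝒰 F)).f :=
    mono_aug (𝒰 := 𝒰) (F := F) h𝒰
  refine ⟨hS.lift g hg, hS.lift_f g hg, fun g'' hg'' => ?_⟩
  rw [← cancel_mono (aug 𝒰 F), hg'']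
  exact (hS.lift_f g hg).symm

end Zero

/-- the Čech complex of sheaves of a covering is a resolution -/
theorem main (h𝒰 : ⨆ i, 𝒰 i = ⊤) :
    Mono (CechOX.cechShAug 𝒰 F) ∧
    CechOX.cechShAug 𝒰 F ≫ ((CechOX.cechSh 𝒰).obj F).d 0 1 = 0 ∧
    (∀ (G : X.Modules) (g : G ⟶ ((CechOX.cechSh 𝒰).obj F).X 0),
      g ≫ ((CechOX.cechSh 𝒰).obj F).d 0 1 = 0 →
      ∃! g' : G ⟶ F, g' ≫ CechOX.cechShAug 𝒰 F = g) ∧
    ∀ p : ℕ, IsZero (((CechOX.cechSh 𝒰).obj F).homology (p + 1)) :=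
  ⟨mono_aug h𝒰, aug_d 𝒰 F, fun G g hg => kernel_prop h𝒰 G g hg, fun p =>
    (HomologicalComplex.exactAt_iff_isZero_homology _ _).1 (exactAt_succ h𝒰 p)⟩

end Groth.Agent.Helper3.CechShRes
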