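import Mathlib
import Groth.Prelude.Def_CechOX
import Groth.Prelude.Def_DCoh2
import Groth.Agent.Lib.Helper3.CechShRes
import Groth.Agent.Lib.Helper3.MapExtend
import Groth.Agent.Lib.Helper3.RDAdd
import Groth.Agent.Lib.Helper5.QC.UnitAcyc
import Groth.Agent.Lib.Helper5.ProperPush.ModLeray
import Groth.Agent.Lib.Helper1.PushQc
import Groth.Agent.Lib.Helper1.QcProd
import Groth.Agent.Lib.Helper5.QC.TildePush

/-!
# The relative Čech complex of a finite affine covering computes `Rf_*` (helper3 library)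
-/

set_option autoImplicit false
universe u
open CategoryTheory CategoryTheory.Limits AlgebraicGeometry Opposite TopologicalSpace

attribute [local instance] HasDerivedCategory.standard

namespace Groth.Agent.Helper3.CechRel

open Groth.Agent.Helper3 Groth.Agent.Helper1
open Groth.Agent.Lib.Helper5.QC Groth.Agent.Lib.Helper5.MV Groth.Agent.Lib.Helper5.LpullLib

section Affine

theorem isAffineHom_of_isAffine_src {Y S : Scheme.{u}} [IsAffine Y] (g : Y ⟶ S)
    [IsAffineHom (pullback.diagonal (terminal.from S))] : IsAffineHom g := by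
  haveI : MorphismProperty.HasOfPostcompProperty @IsAffineHom
      (MorphismProperty.diagonal @IsAffineHom) :=
    MorphismProperty.hasOfPostcompProperty_iff_le_diagonal.mpr le_rfl
  have h1 : IsAffineHom (g ≫ terminal.from S) := inferInstance
  exact MorphismProperty.of_postcomp (W := @IsAffineHom)
    (W' := MorphismProperty.diagonal @IsAffineHom) g (terminal.from S)
    (show IsAffineHom (pullback.diagonal (terminal.from S)) from inferInstance) h1

theorem isAffineOpen_W {X : Scheme.{u}} [IsAffineHom (pullback.diagonal (terminal.from X))]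
    {ι : Type u} (𝒰 : ι → X.Opens) (h𝒰 : ∀ i, IsAffineOpen (𝒰 i)) {n : ℕ}
    (a : Fin (n + 1) → ι) : IsAffineOpen (CechGen.W 𝒰 a) := by
  rw [CechGen.W_eq_iInf]
  exact IsAffineOpen.iInf (fun k => h𝒰 (a k))

end Affine

section Acyc

variable {X S : Scheme.{u}} (f : X ⟶ S)

theorem isZero_rpush_of_affine {Y : Scheme.{u}} (g : Y ⟶ S) [IsAffineHom g]
    [HasInjectiveResolutions Y.Modules] (G : Y.Modules) [G.IsQuasicoherent] (q : ℕ) (hq : 0 < q) :
    IsZero (((Scheme.Modules.pushforward g).rightDerived q).obj G) := by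
  obtain ⟨m, rfl⟩ : ∃ m, q = m + 1 := ⟨q - 1, by omega⟩
  apply RpushComp.isZero_of_toAb
  obtain ⟨e⟩ := RpushComp.nonempty_iso g G (m + 1)
  exact IsZero.of_iso (RpushZero.rpushAb_isZero g G m) e

theorem acyc_term [HasInjectiveResolutions X.Modules] (W : X.Opens) [IsAffineHom W.ι]
    [IsAffineHom (W.ι ≫ f)] [HasInjectiveResolutions (W : Scheme.{u}).Modules]
    (G : (W : Scheme.{u}).Modules) [G.IsQuasicoherent] (q : ℕ) (hq : 0 < q) :
    IsZero (((Scheme.Modules.pushforward f).rightDerived q).obj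
      ((Scheme.Modules.pushforward W.ι).obj G)) := by
  obtain ⟨e⟩ := Groth.Agent.Lib.Helper5.ModLeray.nonempty_rpush_comp W.ι f G q
  exact IsZero.of_iso (isZero_rpush_of_affine (W.ι ≫ f) G q hq) e.symm

theorem isZero_pi {C : Type*} [Category C] [HasZeroMorphisms C] {J : Type*} (Z : J → C)
    [HasProduct Z] (h : ∀ j, IsZero (Z j)) : IsZero (∏ᶜ Z) := by
  rw [IsZero.iff_id_eq_zero]
  apply Pi.hom_ext
  intro j
  exact (h j).eq_of_tgt _ _

theorem acyc_pi [HasInjectiveResolutions X.Modules] {J : Type u} [Finite J] (M : J → X.Modules)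
    (q : ℕ) (h : ∀ j, IsZero (((Scheme.Modules.pushforward f).rightDerived q).obj (M j))) :
    IsZero (((Scheme.Modules.pushforward f).rightDerived q).obj (∏ᶜ M)) :=
  IsZero.of_iso (isZero_pi _ h)
    (PreservesProduct.iso ((Scheme.Modules.pushforward f).rightDerived q) M)

end Acyc


section Main

variable {X S : Scheme.{u}} (f : X ⟶ S) {ι : Type u} (𝒰 : ι → X.Opens) (F : X.Modules)

/-- the terms of the Čech complex of sheaves -/
noncomputable abbrev M (n : ℕ) : (Fin (n + 1) → ι) → X.Modules :=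
  fun a => (CechShRes.P F).obj (op (CechGen.W 𝒰 a))

/-- the intersection, as an open of the scheme -/
noncomputable abbrev Wo {n : ℕ} (a : Fin (n + 1) → ι) : X.Opens := CechGen.W 𝒰 a

/-- the coaugmentation as a morphism of complexes -/
noncomputable def augHom : (CochainComplex.single₀ X.Modules).obj F ⟶ CechShRes.K 𝒰 F :=
  (CochainComplex.fromSingle₀Equiv _ _).symm ⟨CechShRes.aug 𝒰 F, CechShRes.aug_d 𝒰 F⟩

theorem quasiIso_augHom (hcov : ⨆ i, 𝒰 i = ⊤) : QuasiIso (augHom 𝒰 F) := ⟨fun n => by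
    cases n with
    | zero =>
      rw [CochainComplex.quasiIsoAt₀_iff, ShortComplex.quasiIso_iff_of_zeros]
      · refine (ShortComplex.exact_and_mono_f_iff_of_iso ?_).2
          ⟨CechShRes.exact_zero (𝒰 := 𝒰) (F := F) hcov, CechShRes.mono_aug (𝒰 := 𝒰) (F := F) hcov⟩
        exact ShortComplex.isoMk (Iso.refl _) (Iso.refl _) (Iso.refl _)
          (by simp [augHom]; exact (Category.id_comp _).trans (Category.comp_id _).symm)
          (by simp; exact (Category.id_comp _).trans (Category.comp_id _).symm)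
      all_goals rfl
    | succ n =>
      rw [quasiIsoAt_iff_exactAt]
      · exact CechShRes.exactAt_succ hcov n
      · apply CochainComplex.exactAt_succ_single_obj⟩

theorem nonempty_iso_inD (hcov : ⨆ i, 𝒰 i = ⊤) :
    Nonempty (DCoh.toD X (CechOX.cechShZ 𝒰 F) ≅ DCoh.inD X F) := by
  haveI := quasiIso_augHom 𝒰 F hcov
  let φZ := HomologicalComplex.extendMap (augHom 𝒰 F) ComplexShape.embeddingUpNat
  haveI : QuasiIso φZ := inferInstance
  haveI : IsIso (DerivedCategory.Q.map φZ) :=
    (DerivedCategory.isIso_Q_map_iff_quasiIso _ φZ).2 inferInstance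
  let s := HomologicalComplex.extendSingleIso ComplexShape.embeddingUpNat F (0 : ℕ) (0 : ℤ) rfl
  exact ⟨(asIso (DerivedCategory.Q.map φZ)).symm ≪≫ DerivedCategory.Q.mapIso s ≪≫
    ((DerivedCategory.singleFunctorIsoCompQ X.Modules 0).app F).symm⟩

variable [IsAffineHom (pullback.diagonal (terminal.from X))]
  [IsAffineHom (pullback.diagonal (terminal.from S))]
  (hF : F.IsQuasicoherent) (h𝒰 : ∀ i, IsAffineOpen (𝒰 i))

include hF h𝒰 in
theorem isQuasicoherent_push_M (n : ℕ) (a : Fin (n + 1) → ι) :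
    ((Scheme.Modules.pushforward f).obj (M 𝒰 F n a)).IsQuasicoherent := by
  haveI : IsAffine (Wo 𝒰 a : Scheme.{u}) := isAffineOpen_W 𝒰 h𝒰 a
  haveI : IsAffineHom (Wo 𝒰 a).ι := isAffineHom_of_isAffine_src _
  haveI : IsAffineHom ((Wo 𝒰 a).ι ≫ f) := isAffineHom_of_isAffine_src _
  haveI := hF
  haveI : ((Scheme.Modules.pushforward ((Wo 𝒰 a).ι ≫ f)).obj
      ((Scheme.Modules.restrictFunctor (Wo 𝒰 a).ι).obj F)).IsQuasicoherent :=
    PushQc.isQuasicoherent_pushforward _ _
  exact QcAbel.isQuasicoherent_of_iso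
    ((Scheme.Modules.pushforwardComp (Wo 𝒰 a).ι f).app
      ((Scheme.Modules.restrictFunctor (Wo 𝒰 a).ι).obj F)).symm

include hF h𝒰 in
theorem isQCoh_relCech [Finite ι] (p : ℕ) : Coh.IsQCoh (((CechOX.relCech 𝒰 f).obj F).X p) := by
  haveI : ∀ a, ((Scheme.Modules.pushforward f).obj (M 𝒰 F p a)).IsQuasicoherent :=
    fun a => isQuasicoherent_push_M f 𝒰 F hF h𝒰 p a
  haveI : (∏ᶜ fun a => (Scheme.Modules.pushforward f).obj (M 𝒰 F p a)).IsQuasicoherent :=
    QcAbel.isQuasicoherent_pi _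
  exact QcAbel.isQuasicoherent_of_iso
    (PreservesProduct.iso (Scheme.Modules.pushforward f) (M 𝒰 F p)).symm

include hF h𝒰 in
theorem main [Finite ι] (hcov : ⨆ i, 𝒰 i = ⊤) [DCoh.HasRpush f] :
    Nonempty (DCoh.toD S (CechOX.relCechZ 𝒰 f F) ≅ (DCoh.Rpush f).obj (DCoh.inD X F)) := by
  haveI : EnoughInjectives X.Modules := Groth.Agent.S0485.result _ X.ringCatSheaf
  let L := CechOX.cechShZ 𝒰 F
  haveI : L.IsStrictlyGE 0 := by
    rw [CochainComplex.isStrictlyGE_iff]
    intro i hi
    apply HomologicalComplex.isZero_extend_X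
    intro n hn
    change (n : ℤ) = i at hn
    omega
  have hac : ∀ (n : ℤ) (i : ℕ), 0 < i →
      IsZero (((Scheme.Modules.pushforward f).rightDerived i).obj (L.X n)) := by
    intro n i hi
    by_cases hn : 0 ≤ n
    · obtain ⟨m, rfl⟩ := Int.eq_ofNat_of_zero_le hn
      have e1 : L.X (m : ℤ) ≅ (CechShRes.K 𝒰 F).X m :=
        (CechShRes.K 𝒰 F).extendXIso ComplexShape.embeddingUpNat rfl
      refine IsZero.of_iso ?_ (((Scheme.Modules.pushforward f).rightDerived i).mapIso e1)
      apply acyc_pi f (M 𝒰 F m) i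
      intro a
      haveI : IsAffine (Wo 𝒰 a : Scheme.{u}) := isAffineOpen_W 𝒰 h𝒰 a
      haveI : IsAffineHom (Wo 𝒰 a).ι := isAffineHom_of_isAffine_src _
      haveI : IsAffineHom ((Wo 𝒰 a).ι ≫ f) := isAffineHom_of_isAffine_src _
      haveI : EnoughInjectives (Wo 𝒰 a : Scheme.{u}).Modules :=
        Groth.Agent.S0485.result _ (Wo 𝒰 a : Scheme.{u}).ringCatSheaf
      haveI := hF
      exact acyc_term f (Wo 𝒰 a)
        ((Scheme.Modules.restrictFunctor (Wo 𝒰 a).ι).obj F) i hi
    · apply RDAdd.isZero_rightDerived_obj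
      apply HomologicalComplex.isZero_extend_X
      intro m hm
      change (m : ℤ) = n at hm
      omega
  haveI : IsIso ((rpushθ f).app L) := isIso_rpushUnit_of_bddBelow f L 0 hac
  obtain ⟨e3⟩ := nonempty_iso_inD 𝒰 F hcov
  let e1 : CechOX.relCechZ 𝒰 f F ≅ (pushC f).obj L :=
    (MapExtend.mapExtendIso (Scheme.Modules.pushforward f) (CechShRes.K 𝒰 F)
      ComplexShape.embeddingUpNat).symm
  exact ⟨DerivedCategory.Q.mapIso e1 ≪≫ asIso ((rpushθ f).app L) ≪≫ (DCoh.Rpush f).mapIso e3⟩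

end Main

end Groth.Agent.Helper3.CechRel
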