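import Mathlib
import Groth.Prelude.Def_CohTop

set_option autoImplicit false
universe u
open CategoryTheory Limits Opposite

namespace Groth.Agent.Helper3.CechThin

variable {C D : Type u} [SmallCategory C] [SmallCategory D] (Φ : C ⥤ D)
  [HasFiniteProducts C] [HasFiniteProducts D] [Quiver.IsThin D]
  {ι : Type u} (Y : ι → C) (Z : ι → D) (P : Dᵒᵖ ⥤ AddCommGrpCat.{u})
  (c : ∀ (n : SimplexCategory) (a : ToType n → ι),
    Φ.obj (∏ᶜ fun k => Y (a k)) ≅ ∏ᶜ fun k => Z (a k))

/-- the two cosimplicial groups of Čech cochains -/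
noncomputable abbrev A : CosimplicialObject AddCommGrpCat.{u} :=
  (FormalCoproduct.cosimplicialObjectFunctor (FormalCoproduct.mk _ Y).cech).obj (Φ.op ⋙ P)

noncomputable abbrev B : CosimplicialObject AddCommGrpCat.{u} :=
  (FormalCoproduct.cosimplicialObjectFunctor (FormalCoproduct.mk _ Z).cech).obj P

noncomputable def termIso (n : SimplexCategory) : (A Φ Y P).obj n ≅ (B Z P).obj n :=
  Pi.mapIso fun (a : ToType n → ι) => P.mapIso (c n a).symm.op

include c in
lemma termIso_naturality {n m : SimplexCategory} (θ : n ⟶ m) :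
    (A Φ Y P).map θ ≫ (termIso Φ Y Z P c m).hom = (termIso Φ Y Z P c n).hom ≫ (B Z P).map θ := by
  apply Pi.hom_ext
  intro a
  have hA : (A Φ Y P).map θ = Pi.lift (fun (b : ToType m → ι) =>
      Pi.π (fun (c : ToType n → ι) => P.obj (op (Φ.obj (∏ᶜ fun k => Y (c k))))) (b ∘ θ.toOrderHom) ≫
        P.map (Φ.map (Pi.lift (fun k => Pi.π (fun k => Y (b k)) (θ.toOrderHom k)))).op) := rfl
  have hB : (B Z P).map θ = Pi.lift (fun (b : ToType m → ι) =>
      Pi.π (fun (c : ToType n → ι) => P.obj (op (∏ᶜ fun k => Z (c k)))) (b ∘ θ.toOrderHom) ≫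
        P.map ((Pi.lift (fun k => Pi.π (fun k => Z (b k)) (θ.toOrderHom k)))).op) := rfl
  rw [hA, hB]
  have h1 : (termIso Φ Y Z P c m).hom ≫ Pi.π _ a =
      Pi.π (fun (c : ToType m → ι) => P.obj (op (Φ.obj (∏ᶜ fun k => Y (c k))))) a ≫
        (P.mapIso (c m a).symm.op).hom :=
    Pi.mapIso_hom_π _ a
  have h2 : ∀ c' : ToType n → ι, (termIso Φ Y Z P c n).hom ≫
      Pi.π (fun (c : ToType n → ι) => P.obj (op (∏ᶜ fun k => Z (c k)))) c' =
      Pi.π (fun (c : ToType n → ι) => P.obj (op (Φ.obj (∏ᶜ fun k => Y (c k))))) c' ≫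
        (P.mapIso (c n c').symm.op).hom := fun c' =>
    Pi.mapIso_hom_π _ c'
  refine (Category.assoc _ _ _).trans ((congrArg (_ ≫ ·) h1).trans ?_)
  refine ((Category.assoc _ _ _).symm.trans (congrArg (· ≫ _) (Pi.lift_π _ a))).trans ?_
  refine Eq.symm ((Category.assoc _ _ _).trans ((congrArg (_ ≫ ·) (Pi.lift_π _ a)).trans ?_))
  refine ((Category.assoc _ _ _).symm.trans (congrArg (· ≫ _) (h2 _))).trans ?_
  refine (Category.assoc _ _ _).trans (Eq.trans ?_ (Category.assoc _ _ _).symm)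
  refine congrArg (_ ≫ ·) ?_
  dsimp only [Functor.mapIso_hom]
  rw [← P.map_comp, ← P.map_comp]
  congr 1
  apply Quiver.Hom.unop_inj
  exact Subsingleton.elim _ _

/-- the Čech cosimplicial groups agree -/
noncomputable def cosimpIso : A Φ Y P ≅ B Z P :=
  NatIso.ofComponents (termIso Φ Y Z P c) (fun θ => termIso_naturality Φ Y Z P c θ)

/-- Čech cohomology of the restricted presheaf agrees with Čech cohomology of the image family -/
noncomputable def cechHIso (p : ℕ) :
    ((cechComplexFunctor Y).obj (Φ.op ⋙ P)).homology p ≅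
      ((cechComplexFunctor Z).obj P).homology p :=
  (HomologicalComplex.homologyFunctor _ _ p).mapIso
    ((AlgebraicTopology.alternatingCofaceMapComplex AddCommGrpCat.{u}).mapIso (cosimpIso Φ Y Z P c))

end Groth.Agent.Helper3.CechThin
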