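import Mathlib

set_option autoImplicit false
open CategoryTheory CategoryTheory.Limits Simplicial Opposite

universe u

namespace Groth.Agent.Helper3.CechTriv

open SimplicialObject

lemma comp_const_map_id {X : SSet.{u}} {B : Type u}
    (b : X ⟶ (SimplicialObject.const (Type u)).obj B) :
    b ≫ (SimplicialObject.const (Type u)).map (𝟙 B) = b := by
  rw [CategoryTheory.Functor.map_id]; exact Category.comp_id b

variable {A B : Type u} (f : A ⟶ B)

theorem rlp_augmentedCechNerve (hf : Function.Surjective f) :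
    SSet.modelCategoryQuillen.I.rlp (Arrow.mk f).augmentedCechNerve.hom := by
  classical
  rintro _ _ _ ⟨n⟩
  constructor
  intro t b sq
  -- the augmented object `Δ[n] → B`
  let Xaug : SimplicialObject.Augmented (Type u) := { left := Δ[n], right := B, hom := b }
  let Yaug : SimplicialObject.Augmented (Type u) :=
    { left := (∂Δ[n] : SSet.{u}), right := B, hom := ∂Δ[n].ι ≫ b }
  -- vertex map
  let v : (Δ[n] : SSet.{u}) _⦋0⦌ → A := fun y =>
    if h : ∃ x : (∂Δ[n] : SSet.{u}) _⦋0⦌, (∂Δ[n] : SSet.Subcomplex Δ[n]).ι.app _ x = y then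
      WidePullback.π (fun _ : Fin (0 + 1) => (Arrow.mk f).hom) 0 (t.app _ h.choose)
    else (hf (b.app (op ⦋0⦌) y)).choose
  have hv : ∀ y, f (v y) = b.app (op ⦋0⦌) y := by
    intro y
    dsimp only [v]
    split_ifs with h
    · have h1 := ConcreteCategory.congr_hom
        (WidePullback.π_arrow (fun _ : Fin (0 + 1) => (Arrow.mk f).hom) 0) (t.app _ h.choose)
      have h2 := ConcreteCategory.congr_hom (congr_app sq.w (op ⦋0⦌)) h.choose
      exact (h1.trans h2).trans (congrArg (b.app (op ⦋0⦌)) h.choose_spec)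
    · exact (hf (b.app (op ⦋0⦌) y)).choose_spec
  let G : SimplicialObject.Augmented.toArrow.obj Xaug ⟶ Arrow.mk f :=
    Arrow.homMk (↾v) (𝟙 B) (by
      ext y
      exact hv y)
  let L : Xaug ⟶ (Arrow.mk f).augmentedCechNerve :=
    SimplicialObject.cechNerveEquiv Xaug (Arrow.mk f) G
  have hL : SimplicialObject.equivalenceRightToLeft Xaug (Arrow.mk f) L = G :=
    (SimplicialObject.cechNerveEquiv Xaug (Arrow.mk f)).left_inv G
  have hLv : ∀ y : (Δ[n] : SSet.{u}) _⦋0⦌,
      WidePullback.π (fun _ : Fin (0 + 1) => (Arrow.mk f).hom) 0 (L.left.app (op ⦋0⦌) y) = v y := by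
    intro y
    have := congrArg (fun k => k.left) hL
    exact ConcreteCategory.congr_hom this y
  have hLr : L.right = 𝟙 B := rfl
  have facr : L.left ≫ (Arrow.mk f).augmentedCechNerve.hom = b := by
    have this' : L.left ≫ (Arrow.mk f).augmentedCechNerve.hom =
        b ≫ (SimplicialObject.const (Type u)).map (𝟙 B) := L.w
    exact this'.trans (comp_const_map_id b)
  let M₁ : Yaug ⟶ (Arrow.mk f).augmentedCechNerve :=
    { left := ∂Δ[n].ι ≫ L.left
      right := 𝟙 B
      w := by
        change (∂Δ[n].ι ≫ L.left) ≫ (Arrow.mk f).augmentedCechNerve.hom =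
          (∂Δ[n].ι ≫ b) ≫ (SimplicialObject.const (Type u)).map (𝟙 B)
        rw [Category.assoc, facr]
        exact (comp_const_map_id (∂Δ[n].ι ≫ b)).symm }
  let M₂ : Yaug ⟶ (Arrow.mk f).augmentedCechNerve :=
    { left := t
      right := 𝟙 B
      w := by
        change t ≫ (Arrow.mk f).augmentedCechNerve.hom =
          (∂Δ[n].ι ≫ b) ≫ (SimplicialObject.const (Type u)).map (𝟙 B)
        rw [sq.w]
        exact (comp_const_map_id (∂Δ[n].ι ≫ b)).symm }
  have hM : M₁ = M₂ := by
    apply (SimplicialObject.cechNerveEquiv Yaug (Arrow.mk f)).symm.injective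
    apply Arrow.hom_ext
    · ext x
      change WidePullback.π (fun _ : Fin (0 + 1) => (Arrow.mk f).hom) 0
          (L.left.app _ ((∂Δ[n] : SSet.Subcomplex Δ[n]).ι.app _ x)) =
        WidePullback.π (fun _ : Fin (0 + 1) => (Arrow.mk f).hom) 0 (t.app _ x)
      rw [hLv]
      have hex : ∃ x' : (∂Δ[n] : SSet.{u}) _⦋0⦌,
          (∂Δ[n] : SSet.Subcomplex Δ[n]).ι.app _ x' = (∂Δ[n] : SSet.Subcomplex Δ[n]).ι.app _ x :=
        ⟨x, rfl⟩
      dsimp only [v]
      rw [dif_pos hex]
      have : hex.choose = x := Subtype.ext hex.choose_spec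
      rw [this]
    · rfl
  exact ⟨⟨{ l := L.left
            fac_left := congrArg (fun k => k.left) hM
            fac_right := facr }⟩⟩

end Groth.Agent.Helper3.CechTriv
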