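import Mathlib

namespace Groth.Agent.Helper3.ChainIneq

open Finset

section ListPhase

variable {α : Type*}

/-- cost of a chain: twice the area under the polygonal path. -/
def cost (E r : α → ℝ) : List α → ℝ
  | [] => 0
  | [_] => 0
  | a :: b :: l => (E b - E a) * (r b + r a) + cost E r (b :: l)

@[simp] lemma cost_nil (E r : α → ℝ) : cost E r [] = 0 := rfl
@[simp] lemma cost_singleton (E r : α → ℝ) (a : α) : cost E r [a] = 0 := rfl
@[simp] lemma cost_cons_cons (E r : α → ℝ) (a b : α) (l : List α) :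
    cost E r (a :: b :: l) = (E b - E a) * (r b + r a) + cost E r (b :: l) := rfl

lemma cost_append (E r : α → ℝ) (l₁ : List α) (a : α) (l₂ : List α) :
    cost E r (l₁ ++ a :: l₂) = cost E r (l₁ ++ [a]) + cost E r (a :: l₂) := by
  induction l₁ with
  | nil => simp
  | cons x l ih =>
    cases l with
    | nil => simp
    | cons y l' =>
      simp only [List.cons_append, cost_cons_cons] at ih ⊢
      rw [ih]; ring

lemma cost_eq_sum (E r : α → ℝ) (d₀ : α) (l : List α) :
    cost E r l = ∑ j ∈ range (l.length - 1),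
      (E (l.getD (j+1) d₀) - E (l.getD j d₀)) * (r (l.getD (j+1) d₀) + r (l.getD j d₀)) := by
  induction l with
  | nil => simp
  | cons a l ih =>
    cases l with
    | nil => simp
    | cons b l' =>
      rw [cost_cons_cons, ih]
      simp only [List.length_cons, Nat.add_sub_cancel]
      rw [Finset.sum_range_succ']
      simp only [List.getD_cons_succ, List.getD_cons_zero]
      ring

lemma cost_mono_E [Preorder α] (E E' r : α → ℝ) (hr : Antitone r) (z : α) (hz : E' z = E z) :
    ∀ l : List α, l.Pairwise (· < ·) → (∀ x ∈ l, E x ≤ E' x) → l.getLast? = some z →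
      ∀ a, l.head? = some a → cost E r l - 2 * (E' a - E a) * r a ≤ cost E' r l := by
  intro l
  induction l with
  | nil => intro _ _ _ a ha; simp at ha
  | cons x l ih =>
    intro hp hle hlast a ha
    simp only [List.head?_cons, Option.some.injEq] at ha
    subst ha
    cases l with
    | nil =>
      simp only [List.getLast?_singleton, Option.some.injEq] at hlast
      subst hlast
      simp [hz]
    | cons y l' =>
      rw [List.getLast?_cons_cons] at hlast
      rw [List.pairwise_cons] at hp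
      have hxy : x < y := hp.1 y (by simp)
      have h1 := ih hp.2 (fun w hw => hle w (List.mem_cons_of_mem _ hw)) hlast y (by simp)
      have hrxy : r y ≤ r x := hr hxy.le
      have hx := hle x (by simp)
      have hy := hle y (by simp)
      simp only [cost_cons_cons]
      nlinarith [mul_nonneg (add_nonneg (sub_nonneg.2 hx) (sub_nonneg.2 hy)) (sub_nonneg.2 hrxy)]

/-- chains from `a₀` to `a₁`. -/
def IsChainL [LT α] (a₀ a₁ : α) (l : List α) : Prop :=
  l.Pairwise (· < ·) ∧ l.head? = some a₀ ∧ l.getLast? = some a₁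

lemma finite_chains [Fintype α] [Preorder α] (a₀ a₁ : α) : {l : List α | IsChainL a₀ a₁ l}.Finite := by
  refine (List.finite_length_le α (Fintype.card α)).subset ?_
  intro l hl
  have hnd : l.Nodup := hl.1.imp (fun h => ne_of_lt h)
  exact hnd.length_le_card

lemma exists_min_chain [Fintype α] [Preorder α] (E r : α → ℝ) (a₀ a₁ : α) (h01 : a₀ < a₁) :
    ∃ l₀, IsChainL a₀ a₁ l₀ ∧ ∀ l, IsChainL a₀ a₁ l → cost E r l₀ ≤ cost E r l := by
  have hne : {l : List α | IsChainL a₀ a₁ l}.Nonempty := by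
    refine ⟨[a₀, a₁], ?_, by simp, by simp⟩
    simp [h01]
  obtain ⟨l₀, hl₀, hmin⟩ := Set.exists_min_image _ (cost E r) (finite_chains a₀ a₁) hne
  exact ⟨l₀, hl₀, hmin⟩

lemma isChainL_insert [Preorder α] {a₀ a₁ : α} (l₁ : List α) (a k b : α) (l₂ : List α)
    (h : IsChainL a₀ a₁ (l₁ ++ a :: b :: l₂)) (hak : a < k) (hkb : k < b) :
    IsChainL a₀ a₁ (l₁ ++ a :: k :: b :: l₂) := by
  obtain ⟨hp, hh, hl⟩ := h
  refine ⟨?_, ?_, ?_⟩
  · rw [List.pairwise_append] at hp ⊢
    obtain ⟨h1, h2, h3⟩ := hp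
    rw [List.pairwise_cons] at h2
    obtain ⟨h2a, h2b⟩ := h2
    rw [List.pairwise_cons] at h2b
    refine ⟨h1, ?_, ?_⟩
    · rw [List.pairwise_cons, List.pairwise_cons, List.pairwise_cons]
      refine ⟨?_, ?_, h2b⟩
      · intro w hw
        rcases List.mem_cons.1 hw with rfl | hw
        · exact hak
        · exact h2a w hw
      · intro w hw
        rcases List.mem_cons.1 hw with rfl | hw
        · exact hkb
        · exact lt_trans hkb (h2b.1 w hw)
    · intro x hx w hw
      rcases List.mem_cons.1 hw with rfl | hw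
      · exact h3 x hx _ (by simp)
      · rcases List.mem_cons.1 hw with rfl | hw
        · exact lt_trans (h3 x hx a (by simp)) hak
        · exact h3 x hx w (List.mem_cons_of_mem _ hw)
  · cases l₁ <;> simpa using hh
  · simpa [List.getLast?_append, List.getLast?_cons_cons] using hl

lemma isChainL_erase [Preorder α] {a₀ a₁ : α} (l₁ : List α) (a k b : α) (l₂ : List α)
    (h : IsChainL a₀ a₁ (l₁ ++ a :: k :: b :: l₂)) :
    IsChainL a₀ a₁ (l₁ ++ a :: b :: l₂) := by
  obtain ⟨hp, hh, hl⟩ := h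
  refine ⟨?_, ?_, ?_⟩
  · rw [List.pairwise_append] at hp ⊢
    obtain ⟨h1, h2, h3⟩ := hp
    rw [List.pairwise_cons] at h2
    obtain ⟨h2a, h2b⟩ := h2
    rw [List.pairwise_cons] at h2b
    refine ⟨h1, ?_, ?_⟩
    · rw [List.pairwise_cons]
      refine ⟨?_, h2b.2⟩
      intro w hw
      exact h2a w (List.mem_cons_of_mem _ hw)
    · intro x hx w hw
      rcases List.mem_cons.1 hw with rfl | hw
      · exact h3 x hx _ (by simp)
      · exact h3 x hx w (List.mem_cons_of_mem _ (List.mem_cons_of_mem _ hw))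
  · cases l₁ <;> simpa using hh
  · simpa [List.getLast?_append, List.getLast?_cons_cons] using hl

lemma min_above [Preorder α] (E r : α → ℝ) {a₀ a₁ : α} (l₁ : List α) (a k b : α) (l₂ : List α)
    (h : IsChainL a₀ a₁ (l₁ ++ a :: b :: l₂))
    (hmin : ∀ l, IsChainL a₀ a₁ l → cost E r (l₁ ++ a :: b :: l₂) ≤ cost E r l)
    (hak : a < k) (hkb : k < b) :
    r a * (E b - E k) + r b * (E k - E a) ≤ r k * (E b - E a) := by
  have h1 := hmin _ (isChainL_insert l₁ a k b l₂ h hak hkb)
  rw [cost_append E r l₁ a (b :: l₂), cost_append E r l₁ a (k :: b :: l₂)] at h1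
  simp only [cost_cons_cons] at h1
  linarith

lemma min_convex [Preorder α] (E r : α → ℝ) {a₀ a₁ : α} (l₁ : List α) (a k b : α) (l₂ : List α)
    (h : IsChainL a₀ a₁ (l₁ ++ a :: k :: b :: l₂))
    (hmin : ∀ l, IsChainL a₀ a₁ l → cost E r (l₁ ++ a :: k :: b :: l₂) ≤ cost E r l) :
    r k * (E b - E a) ≤ r a * (E b - E k) + r b * (E k - E a) := by
  have h1 := hmin _ (isChainL_erase l₁ a k b l₂ h)
  rw [cost_append E r l₁ a (b :: l₂), cost_append E r l₁ a (k :: b :: l₂)] at h1
  simp only [cost_cons_cons] at h1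
  linarith

end ListPhase


noncomputable section FunPhase

/-- partial sums of `E`. -/
def Av (E : ℕ → ℝ) (k : ℕ) : ℝ := ∑ i ∈ range k, E i

/-- the gap function of the key inequality. -/
def Gf (n : ℕ) (dd : ℝ) (E : ℕ → ℝ) (k : ℕ) : ℝ :=
  ((n:ℝ)+1) * (E k)^2 / 2 - dd * ((k:ℝ) * E k - Av E k)

/-- (negated) slope of the `i`-th segment of the chain. -/
def slope (E r : ℕ → ℝ) (c : ℕ → ℕ) (i : ℕ) : ℝ :=
  (r (c i) - r (c (i+1))) / (E (c (i+1)) - E (c i))

/-- partial cost of the chain. -/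
def Sp (E r : ℕ → ℝ) (c : ℕ → ℕ) (j : ℕ) : ℝ :=
  ∑ i ∈ range j, (E (c (i+1)) - E (c i)) * (r (c (i+1)) + r (c i))

theorem main_fun (n μ : ℕ) (dd : ℝ) (E r : ℕ → ℝ) (c : ℕ → ℕ)
    (hc0 : c 0 = 0) (hcμ : c μ = n) (hcmono : ∀ j, j < μ → c j < c (j+1))
    (hE0 : E 0 = 0) (hEn : E n = dd) (hEmono : ∀ i j, i < j → j ≤ n → E i < E j)
    (hranti : ∀ i j, i ≤ j → j ≤ n → r j ≤ r i)
    (hsum : ∑ i ∈ range (n+1), r i = 0) (hr0n : r n < r 0)
    (hA : ∀ j, j < μ → ∀ k, c j < k → k < c (j+1) →
      r (c j) * (E (c (j+1)) - E k) + r (c (j+1)) * (E k - E (c j))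
        ≤ r k * (E (c (j+1)) - E (c j)))
    (hB : ∀ j, j + 1 < μ →
      r (c (j+1)) * (E (c (j+2)) - E (c j)) ≤
        r (c j) * (E (c (j+2)) - E (c (j+1))) + r (c (j+2)) * (E (c (j+1)) - E (c j)))
    (hkey : ∀ k, 1 ≤ k → k ≤ n → Gf n dd E k ≤ -1/2) :
    Sp E r c μ < 0 := by
  have hn0 : n ≠ 0 := by
    rintro rfl
    exact lt_irrefl _ hr0n
  have hμ0 : μ ≠ 0 := by
    rintro rfl
    rw [hc0] at hcμ; exact hn0 hcμ.symm
  have hcle : ∀ j, j ≤ μ → ∀ i, i ≤ j → c i ≤ c j := by
    intro j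
    induction j with
    | zero => intro _ i hi; rw [Nat.le_zero.1 hi]
    | succ j ih =>
      intro hj i hi
      rcases Nat.lt_or_ge i (j+1) with h | h
      · exact le_trans (ih (by omega) i (by omega)) (hcmono j (by omega)).le
      · have : i = j+1 := by omega
        rw [this]
  have hcn : ∀ j, j ≤ μ → c j ≤ n := fun j hj => by
    have := hcle μ le_rfl j hj; rwa [hcμ] at this
  have hΔ : ∀ j, j < μ → 0 < E (c (j+1)) - E (c j) := fun j hj =>
    sub_pos.2 (hEmono _ _ (hcmono j hj) (hcn (j+1) (by omega)))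
  have hdd : 0 < dd := by
    rw [← hEn, ← hE0]; exact hEmono 0 n (Nat.pos_of_ne_zero hn0) le_rfl
  have hs_nonneg : ∀ j, j < μ → 0 ≤ slope E r c j := fun j hj =>
    div_nonneg (sub_nonneg.2 (hranti _ _ (hcmono j hj).le (hcn (j+1) (by omega)))) (hΔ j hj).le
  have hs_mul : ∀ j, j < μ →
      slope E r c j * (E (c (j+1)) - E (c j)) = r (c j) - r (c (j+1)) := fun j hj => by
    unfold slope; exact div_mul_cancel₀ _ (hΔ j hj).ne'
  have hs_anti : ∀ j, j + 1 < μ → slope E r c (j+1) ≤ slope E r c j := by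
    intro j hj
    unfold slope
    rw [div_le_div_iff₀ (hΔ (j+1) hj) (hΔ j (by omega))]
    have := hB j hj
    linarith
  have hs_le0 : ∀ j, j < μ → slope E r c j ≤ slope E r c 0 := by
    intro j
    induction j with
    | zero => intro _; exact le_rfl
    | succ j ih => intro hj; exact le_trans (hs_anti j hj) (ih (by omega))
  have hlow : ∀ j, j ≤ μ → r 0 - slope E r c 0 * E (c j) ≤ r (c j) := by
    intro j
    induction j with
    | zero => intro _; rw [hc0, hE0]; simp
    | succ j ih =>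
      intro hj
      have h1 := ih (by omega)
      have h2 := hs_mul j (by omega)
      have h3 := hs_le0 j (by omega)
      have h4 := hΔ j (by omega)
      nlinarith [mul_le_mul_of_nonneg_right h3 h4.le]
  have hs0 : 0 < slope E r c 0 := by
    have h := hlow μ le_rfl
    rw [hcμ, hEn] at h
    by_contra hneg
    push Not at hneg
    nlinarith [mul_nonneg (neg_nonneg.2 hneg) hdd.le]
  have hseg : ∀ j, j < μ → ∀ i, c j ≤ i → i < c (j+1) →
      r (c (j+1)) + slope E r c j * (E (c (j+1)) - E i) ≤ r i := by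
    intro j hj i hi1 hi2
    have h2 := hs_mul j hj
    have h4 := hΔ j hj
    rcases Nat.eq_or_lt_of_le hi1 with h | h
    · rw [← h]; linarith
    · have hA' := hA j hj i h hi2
      have e : slope E r c j * (E (c (j+1)) - E i) * (E (c (j+1)) - E (c j))
          = (r (c j) - r (c (j+1))) * (E (c (j+1)) - E i) := by
        rw [← h2]; ring
      have : (r (c (j+1)) + slope E r c j * (E (c (j+1)) - E i)) * (E (c (j+1)) - E (c j))
          ≤ r i * (E (c (j+1)) - E (c j)) := by
        nlinarith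
      exact le_of_mul_le_mul_right this h4
  have hinv : ∀ j, j ≤ μ →
      ((n:ℝ)+1) * (Sp E r c j / 2 - r (c j) * E (c j))
        - dd * ((∑ i ∈ range (c j), r i) - (c j : ℝ) * r (c j))
        ≤ slope E r c (j-1) * (Gf n dd E (c j) + 1/2) - slope E r c 0 / 2 := by
    intro j
    induction j with
    | zero =>
      intro _
      simp [Sp, Gf, Av, hc0, hE0]
      linarith
    | succ j ih =>
      intro hj
      have ihj := ih (by omega)
      have hjμ : j < μ := by omega
      have hab : c j < c (j+1) := hcmono j hjμ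
      have h2 := hs_mul j hjμ
      have h4 := hΔ j hjμ
      have hSp : Sp E r c (j+1)
          = Sp E r c j + (E (c (j+1)) - E (c j)) * (r (c (j+1)) + r (c j)) := by
        unfold Sp; rw [Finset.sum_range_succ]
      have hR : ∑ i ∈ range (c (j+1)), r i
          = ∑ i ∈ range (c j), r i + ∑ i ∈ Ico (c j) (c (j+1)), r i := by
        rw [Finset.sum_Ico_eq_sub _ hab.le]; ring
      have hAv : Av E (c (j+1)) = Av E (c j) + ∑ i ∈ Ico (c j) (c (j+1)), E i := by
        unfold Av; rw [Finset.sum_Ico_eq_sub _ hab.le]; ring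
      have hbound : ∑ i ∈ Ico (c j) (c (j+1)),
          (r (c (j+1)) + slope E r c j * (E (c (j+1)) - E i))
            ≤ ∑ i ∈ Ico (c j) (c (j+1)), r i := by
        apply Finset.sum_le_sum
        intro i hi
        rw [Finset.mem_Ico] at hi
        exact hseg j hjμ i hi.1 hi.2
      have hbound' : ∑ i ∈ Ico (c j) (c (j+1)),
          (r (c (j+1)) + slope E r c j * (E (c (j+1)) - E i))
          = ((c (j+1) : ℝ) - c j) * r (c (j+1)) + slope E r c j *
              (((c (j+1) : ℝ) - c j) * E (c (j+1)) - ∑ i ∈ Ico (c j) (c (j+1)), E i) := by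
        rw [Finset.sum_add_distrib, ← Finset.mul_sum, Finset.sum_sub_distrib]
        simp only [Finset.sum_const, Nat.card_Ico, nsmul_eq_mul]
        rw [Nat.cast_sub hab.le]
      rw [hbound'] at hbound
      have hX := mul_le_mul_of_nonneg_left hbound hdd.le
      have hmulσ : (slope E r c (j-1) - slope E r c j) * (Gf n dd E (c j) + 1/2) ≤ 0 := by
        rcases j with _ | j'
        · simp
        · have h5 : slope E r c (j'+1) ≤ slope E r c j' := hs_anti j' (by omega)
          have h6 : 1 ≤ c (j'+1) := by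
            have := hcmono j' (by omega); omega
          have h7 := hkey (c (j'+1)) h6 (hcn (j'+1) (by omega))
          simp only [Nat.add_sub_cancel]
          exact mul_nonpos_of_nonneg_of_nonpos (sub_nonneg.2 h5) (by linarith)
      have hra : r (c j) = r (c (j+1)) + slope E r c j * (E (c (j+1)) - E (c j)) := by linarith
      simp only [Nat.add_sub_cancel]
      rw [hSp, hR]
      unfold Gf at ihj hmulσ ⊢
      rw [hAv]
      rw [hra] at ihj ⊢
      nlinarith [ihj, hX, hmulσ]
  have hfin := hinv μ le_rfl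
  rw [hcμ, hEn] at hfin
  have hsumn : ∑ i ∈ range n, r i + r n = 0 := by rw [← Finset.sum_range_succ]; exact hsum
  have hk := hkey n (Nat.pos_of_ne_zero hn0) le_rfl
  have hsl := hs_nonneg (μ-1) (by omega)
  have hprod : slope E r c (μ-1) * (Gf n dd E n + 1/2) ≤ 0 :=
    mul_nonpos_of_nonneg_of_nonpos hsl (by linarith)
  have hR : ∑ i ∈ range n, r i = - r n := by linarith
  rw [hR] at hfin
  have hn1 : (0:ℝ) < (n:ℝ) + 1 := by positivity
  have : ((n:ℝ)+1) * (Sp E r c μ / 2) ≤ - slope E r c 0 / 2 := by nlinarith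
  nlinarith

end FunPhase

section EmaxPhase

/-- the extremal sequence -/
def Emax (m g : ℕ) (i : ℕ) : ℝ := if i ≤ m then (i:ℝ) else (i:ℝ) + g

lemma Av_Emax_le (m g : ℕ) (k : ℕ) (hk : k ≤ m + 1) :
    Av (Emax m g) k = (k:ℝ) * ((k:ℝ) - 1) / 2 := by
  induction k with
  | zero => simp [Av]
  | succ k ih =>
    have := ih (by omega)
    unfold Av at this ⊢
    rw [Finset.sum_range_succ, this]
    unfold Emax
    rw [if_pos (by omega)]
    push_cast; ring

lemma Av_Emax_ge (m g : ℕ) (k : ℕ) (hk : m + 1 ≤ k) :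
    Av (Emax m g) k = (k:ℝ) * ((k:ℝ) - 1) / 2 + (g:ℝ) * ((k:ℝ) - m - 1) := by
  induction k, hk using Nat.le_induction with
  | base =>
    rw [Av_Emax_le m g (m+1) le_rfl]; push_cast; ring
  | succ k hk ih =>
    unfold Av at ih ⊢
    rw [Finset.sum_range_succ, ih]
    unfold Emax
    rw [if_neg (by omega)]
    push_cast; ring

lemma key_Emax (n g : ℕ) (hg : 1 ≤ g) (hn : 2*g ≤ n) (k : ℕ) (hk1 : 1 ≤ k) (hkn : k ≤ n) :
    Gf n ((n:ℝ)+g) (Emax (n-g) g) k ≤ -1/2 := by
  have hgn : g ≤ n := by omega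
  have hG : (1:ℝ) ≤ g := by exact_mod_cast hg
  have hN : 2 * (g:ℝ) ≤ n := by exact_mod_cast hn
  have hK1 : (1:ℝ) ≤ k := by exact_mod_cast hk1
  have hKN : (k:ℝ) ≤ n := by exact_mod_cast hkn
  have hM : ((n - g : ℕ) : ℝ) = (n:ℝ) - g := by rw [Nat.cast_sub hgn]
  unfold Gf
  rcases Nat.lt_or_ge (n - g) k with h | h
  · -- k > m
    rw [Av_Emax_ge (n-g) g k (by omega)]
    unfold Emax
    rw [if_neg (by omega), hM]
    have h1 : 0 ≤ ((n:ℝ) - k) * ((n:ℝ) - g + 2 * g) :=
      mul_nonneg (by linarith) (by linarith)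
    have h2 : 0 ≤ ((g:ℝ) - 1) * ((n:ℝ) - k)^2 := mul_nonneg (by linarith) (sq_nonneg _)
    have h3 : 1 ≤ ((n:ℝ) + g) * g * ((n:ℝ) + 1 - 2 * g) := by
      have a1 : (1:ℝ) ≤ (n:ℝ) + g := by linarith
      have a2 : (1:ℝ) ≤ (n:ℝ) + 1 - 2 * g := by linarith
      have := one_le_mul_of_one_le_of_one_le (one_le_mul_of_one_le_of_one_le a1 hG) a2
      linarith
    nlinarith [h1, h2, h3]
  · -- k ≤ m
    rw [Av_Emax_le (n-g) g k (by omega)]
    unfold Emax
    rw [if_pos h]
    have h1 : 0 ≤ ((g:ℝ) - 1) * (k:ℝ)^2 := mul_nonneg (by linarith) (sq_nonneg _)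
    have h2 : 0 ≤ ((n:ℝ) + g) * ((k:ℝ) - 1) := mul_nonneg (by linarith) (by linarith)
    nlinarith [h1, h2]

end EmaxPhase


section Glue

variable {α : Type*}

lemma decomp2 (l : List α) (j : ℕ) (hj : j + 1 < l.length) :
    l = l.take j ++ l[j] :: l[j+1] :: l.drop (j+2) := by
  conv_lhs => rw [← List.take_append_drop j l]
  rw [List.drop_eq_getElem_cons (by omega : j < l.length), List.drop_eq_getElem_cons hj]

lemma decomp3 (l : List α) (j : ℕ) (hj : j + 2 < l.length) :
    l = l.take j ++ l[j] :: l[j+1] :: l[j+2] :: l.drop (j+3) := by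
  conv_lhs => rw [← List.take_append_drop j l]
  rw [List.drop_eq_getElem_cons (by omega : j < l.length),
    List.drop_eq_getElem_cons (by omega : j + 1 < l.length), List.drop_eq_getElem_cons hj]

lemma min_above' [Preorder α] (E r : α → ℝ) {a₀ a₁ : α} (l₀ : List α)
    (h : IsChainL a₀ a₁ l₀) (hmin : ∀ l, IsChainL a₀ a₁ l → cost E r l₀ ≤ cost E r l)
    (j : ℕ) (hj : j + 1 < l₀.length) (k : α) (hak : l₀[j] < k) (hkb : k < l₀[j+1]) :
    r l₀[j] * (E l₀[j+1] - E k) + r l₀[j+1] * (E k - E l₀[j]) ≤ r k * (E l₀[j+1] - E l₀[j]) := by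
  have hdec := decomp2 l₀ j hj
  generalize l₀[j] = a at hdec hak ⊢
  generalize l₀[j+1] = b at hdec hkb ⊢
  generalize l₀.take j = l₁ at hdec
  generalize l₀.drop (j+2) = l₂ at hdec
  subst hdec
  exact min_above E r l₁ a k b l₂ h hmin hak hkb

lemma min_convex' [Preorder α] (E r : α → ℝ) {a₀ a₁ : α} (l₀ : List α)
    (h : IsChainL a₀ a₁ l₀) (hmin : ∀ l, IsChainL a₀ a₁ l → cost E r l₀ ≤ cost E r l)
    (j : ℕ) (hj : j + 2 < l₀.length) :
    r l₀[j+1] * (E l₀[j+2] - E l₀[j]) ≤
      r l₀[j] * (E l₀[j+2] - E l₀[j+1]) + r l₀[j+2] * (E l₀[j+1] - E l₀[j]) := by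
  have hdec := decomp3 l₀ j hj
  generalize l₀[j] = a at hdec ⊢
  generalize l₀[j+1] = k at hdec ⊢
  generalize l₀[j+2] = b at hdec ⊢
  generalize l₀.take j = l₁ at hdec
  generalize l₀.drop (j+3) = l₂ at hdec
  subst hdec
  exact min_convex E r l₁ a k b l₂ h hmin

end Glue

theorem main_S12549 (n g : ℕ) (hg : 1 ≤ g) (hn : 2 * g ≤ n)
    (e : Fin (n + 1) → ℕ) (he0 : e 0 = 0) (hen : e (Fin.last n) = n + g) (hmono : Monotone e)
    (hle : ∀ i : Fin (n + 1), (i : ℕ) ≤ n - g → e i ≤ (i : ℕ))
    (hle' : ∀ i : Fin (n + 1), e i ≤ (i : ℕ) + g)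
    (r : Fin (n + 1) → ℝ) (hanti : Antitone r) (hsum : ∑ i, r i = 0) (hr : r ≠ 0) :
    ∃ (μ : ℕ) (c : Fin (μ + 1) → Fin (n + 1)), StrictMono c ∧ c 0 = 0 ∧
      c (Fin.last μ) = Fin.last n ∧
      ∑ j : Fin μ, ((e (c j.succ) : ℝ) - (e (c j.castSucc) : ℝ)) *
        (r (c j.succ) + r (c j.castSucc)) < 0 := by
  classical
  have hn2 : 2 ≤ n := by omega
  set m := n - g with hm
  set EF : Fin (n+1) → ℝ := fun i => Emax m g (i : ℕ) with hEF
  set eF : Fin (n+1) → ℝ := fun i => (e i : ℝ) with heF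
  have h0last : (0 : Fin (n+1)) < Fin.last n := by
    rw [Fin.lt_def]; simp only [Fin.val_zero, Fin.val_last]; omega
  obtain ⟨l₀, hl₀, hmin⟩ := exists_min_chain EF r 0 (Fin.last n) h0last
  obtain ⟨hp, hhead, hlast⟩ := id hl₀
  -- basic facts about the list
  have hget0 : l₀.getD 0 0 = 0 := by
    cases l₀ with
    | nil => simp at hhead
    | cons x t => simpa using hhead
  have hgetlast : l₀.getD (l₀.length - 1) 0 = Fin.last n := by
    rw [List.getD_eq_getElem?_getD, ← List.getLast?_eq_getElem?, hlast]; rfl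
  have hlen : 2 ≤ l₀.length := by
    by_contra hcon
    push Not at hcon
    have : l₀.length - 1 = 0 := by omega
    rw [this, hget0] at hgetlast
    exact absurd hgetlast (ne_of_lt h0last)
  set μ := l₀.length - 1 with hμ
  have hlenμ : l₀.length = μ + 1 := by omega
  have hpair : ∀ i j (hi : i < l₀.length) (hj : j < l₀.length), i < j → l₀[i] < l₀[j] :=
    List.pairwise_iff_getElem.1 hp
  -- clamp and extensions
  set cl : ℕ → Fin (n+1) := fun i => ⟨min i n, by omega⟩ with hcl
  have hclv : ∀ v : Fin (n+1), cl (v : ℕ) = v := fun v =>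
    Fin.ext (min_eq_left (Nat.le_of_lt_succ v.2))
  set r' : ℕ → ℝ := fun i => r (cl i) with hr'
  set c : ℕ → ℕ := fun j => ((l₀.getD j 0 : Fin (n+1)) : ℕ) with hc
  have hcget : ∀ j (hj : j < l₀.length), c j = (l₀[j] : ℕ) := fun j hj => by
    simp only [hc, List.getD_eq_getElem _ _ hj]
  have hr'c : ∀ j, r' (c j) = r (l₀.getD j 0) := fun j => by
    simp only [hr', hc, hclv]
  -- r 0 > r last
  have hr0n : r (Fin.last n) < r 0 := by
    by_contra hcon
    push Not at hcon
    have hall : ∀ i, r i = r 0 := fun i =>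
      le_antisymm (hanti (Fin.zero_le i)) (le_trans hcon (hanti (Fin.le_last i)))
    have : ∑ i : Fin (n+1), r i = ((n:ℝ) + 1) * r 0 := by
      rw [Finset.sum_congr rfl (fun i _ => hall i)]
      simp
    rw [this] at hsum
    have hn1 : (0:ℝ) < (n:ℝ) + 1 := by positivity
    have h0 : r 0 = 0 := by
      rcases mul_eq_zero.1 hsum with h | h
      · linarith
      · exact h
    exact hr (funext fun i => by rw [hall i, h0]; rfl)
  have hmn : m < n := by omega
  have hmain : Sp (Emax m g) r' c μ < 0 := by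
    refine main_fun n μ ((n:ℝ) + g) (Emax m g) r' c ?_ ?_ ?_ ?_ ?_ ?_ ?_ ?_ ?_ ?_ ?_ ?_
    · simp only [hc, hget0, Fin.val_zero]
    · simp only [hc, hgetlast, Fin.val_last]
    · intro j hj
      rw [hcget j (by omega), hcget (j+1) (by omega)]
      exact Fin.lt_def.1 (hpair j (j+1) (by omega) (by omega) (by omega))
    · simp [Emax]
    · unfold Emax; rw [if_neg (by omega)]
    · intro i j hij hjn
      unfold Emax
      have hG : (0:ℝ) ≤ g := by positivity
      have hij' : (i:ℝ) < j := by exact_mod_cast hij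
      split_ifs with h1 h2 h2
      · exact hij'
      · linarith
      · exfalso; omega
      · linarith
    · intro i j hij hjn
      apply hanti
      rw [Fin.le_def]
      simp only [hcl]
      exact min_le_min_right n hij
    · rw [Finset.sum_range]
      rw [← hsum]
      apply Finset.sum_congr rfl
      intro i _
      simp only [hr', hclv]
    · have e1 : cl n = Fin.last n := Fin.ext (by simp [hcl])
      have e2 : cl 0 = 0 := Fin.ext (by simp [hcl])
      simp only [hr', e1, e2]; exact hr0n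
    · intro j hj k hk1 hk2
      have hj1 : j + 1 < l₀.length := by omega
      rw [hcget j (by omega)] at hk1
      rw [hcget (j+1) hj1] at hk2
      have hkn : k < n + 1 := lt_of_lt_of_le hk2 (Nat.le_of_lt_succ (l₀[j+1]).2) |>.trans_le (by omega)
      have := min_above' EF r l₀ hl₀ hmin j hj1 ⟨k, hkn⟩ (Fin.lt_def.2 hk1) (Fin.lt_def.2 hk2)
      have hrk : r' k = r ⟨k, hkn⟩ := by
        simp only [hr']; congr 1; exact Fin.ext (min_eq_left (Nat.le_of_lt_succ hkn))
      rw [hr'c j, hr'c (j+1), hrk, hcget j (by omega), hcget (j+1) hj1,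
        List.getD_eq_getElem _ _ (by omega : j < l₀.length), List.getD_eq_getElem _ _ hj1]
      exact this
    · intro j hj
      have hj2 : j + 2 < l₀.length := by omega
      have := min_convex' EF r l₀ hl₀ hmin j hj2
      rw [hr'c j, hr'c (j+1), hr'c (j+2), hcget j (by omega), hcget (j+1) (by omega),
        hcget (j+2) hj2, List.getD_eq_getElem _ _ (by omega : j < l₀.length),
        List.getD_eq_getElem _ _ (by omega : j + 1 < l₀.length), List.getD_eq_getElem _ _ hj2]
      exact this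
    · intro k hk1 hkn
      exact key_Emax n g hg hn k hk1 hkn
  -- cost with EF equals Sp
  have hcostEF : cost EF r l₀ = Sp (Emax m g) r' c μ := by
    rw [cost_eq_sum EF r 0 l₀]
    unfold Sp
    apply Finset.sum_congr rfl
    intro j _
    rw [hr'c j, hr'c (j+1)]
  -- monotonicity
  have hpt : ∀ x ∈ l₀, eF x ≤ EF x := by
    intro x _
    simp only [heF, hEF, Emax]
    split_ifs with h1
    · exact_mod_cast hle x h1
    · exact_mod_cast hle' x
  have hzE : EF (Fin.last n) = eF (Fin.last n) := by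
    simp only [heF, hEF, Emax, Fin.val_last, hen]
    rw [if_neg (by omega)]; push_cast; ring
  have hmonoE := cost_mono_E eF EF r hanti (Fin.last n) hzE l₀ hp hpt hlast 0 hhead
  have hE00 : EF 0 - eF 0 = 0 := by
    simp [heF, hEF, Emax, he0]
  rw [hE00] at hmonoE
  have hcost_e : cost eF r l₀ < 0 := by linarith
  -- final chain
  refine ⟨μ, fun j => l₀.getD (j : ℕ) 0, ?_, ?_, ?_, ?_⟩
  · intro i j hij
    have hi : (i : ℕ) < l₀.length := by omega
    have hj : (j : ℕ) < l₀.length := by omega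
    simp only [List.getD_eq_getElem _ _ hi, List.getD_eq_getElem _ _ hj]
    exact hpair i j hi hj (Fin.lt_def.1 hij)
  · simpa using hget0
  · simpa [hμ] using hgetlast
  · rw [cost_eq_sum eF r 0 l₀, Finset.sum_range] at hcost_e
    simpa [heF] using hcost_e

end Groth.Agent.Helper3.ChainIneq
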