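import Mathlib
import Groth.Agent.Lib.Helper3.EtQuot

/-!
# Noether normalization adapted to an increasing family of ideals (helper library for S12439)
-/

namespace Groth.Agent.Lib.Helper3.ChainNN

universe u

theorem add_nat_le_of_succ {x : WithBot ℕ∞} {m n : ℕ}
    (h : x + ((m + 1 : ℕ) : WithBot ℕ∞) ≤ ((n + 1 : ℕ) : WithBot ℕ∞)) :
    x + (m : WithBot ℕ∞) ≤ (n : WithBot ℕ∞) := by
  induction x using WithBot.recBotCoe with
  | bot => simp
  | coe y =>
    induction y using ENat.recTopCoe with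
    | top =>
      exfalso
      have h1 : ((⊤ : ℕ∞) : WithBot ℕ∞) + ((m + 1 : ℕ) : WithBot ℕ∞) =
          ((⊤ : ℕ∞) : WithBot ℕ∞) := by
        rw [← WithBot.coe_natCast, ← WithBot.coe_add, top_add]
      rw [h1] at h
      have h2 : (⊤ : ℕ∞) ≤ ((n + 1 : ℕ) : ℕ∞) := by exact_mod_cast h
      exact absurd h2 (by simp)
    | coe y =>
      have h' : y + (m + 1) ≤ n + 1 := by exact_mod_cast h
      have : y + m ≤ n := by omega
      exact_mod_cast this

/-- Noether normalization adapted to an increasing family of ideals `a 0 ≤ a 1 ≤ …` with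
`dim A/a l + l + 1 ≤ d`: there are `x_0, …, x_{d-1}` with `x_l ∈ a l` and `A` finite over `k[x]`. -/
theorem adaptedNN (k : Type u) [Field k] : ∀ (d : ℕ) (A : Type u) [CommRing A] [Algebra k A]
    [Algebra.FiniteType k A], ringKrullDim A ≤ d →
    ∀ (a : ℕ → Ideal A), Monotone a →
      (∀ l, l < d → ringKrullDim (A ⧸ a l) + ((l + 1 : ℕ) : WithBot ℕ∞) ≤ (d : WithBot ℕ∞)) →
      ∃ x : Fin d → A, (∀ l : Fin d, x l ∈ a l) ∧
        (MvPolynomial.aeval x : MvPolynomial (Fin d) k →ₐ[k] A).toRingHom.Finite := by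
  intro d
  induction d with
  | zero =>
    intro A _ _ _ hdim a _ _
    obtain ⟨y, -, hfin⟩ := Groth.Agent.Lib.Helper3.FieldNN.main k A 0 hdim (fun i => i.elim0) 1
      le_rfl
    exact ⟨fun i => i.elim0 + y i, fun l => l.elim0, hfin⟩
  | succ d ih =>
    intro A _ _ _ hdim a hmono ha
    haveI : Algebra.FiniteType k (A ⧸ a 0) :=
      Algebra.FiniteType.of_surjective (Ideal.Quotient.mkₐ k (a 0))
        (Ideal.Quotient.mkₐ_surjective k (a 0))
    have hdim' : ringKrullDim (A ⧸ a 0) ≤ (d : WithBot ℕ∞) := by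
      have h0 := ha 0 (Nat.succ_pos d)
      have h1 := add_nat_le_of_succ (x := ringKrullDim (A ⧸ a 0)) (m := 0) (n := d)
        (by simpa using h0)
      simpa using h1
    have hmono' : Monotone (fun l => (a (l + 1)).map (Ideal.Quotient.mk (a 0))) := by
      intro l l' hll
      exact Ideal.map_mono (hmono (Nat.succ_le_succ hll))
    have ha' : ∀ l, l < d → ringKrullDim ((A ⧸ a 0) ⧸ (a (l + 1)).map (Ideal.Quotient.mk (a 0))) +
        ((l + 1 : ℕ) : WithBot ℕ∞) ≤ (d : WithBot ℕ∞) := by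
      intro l hl
      have hle : a 0 ≤ a (l + 1) := hmono (Nat.zero_le _)
      rw [ringKrullDim_eq_of_ringEquiv (DoubleQuot.quotQuotEquivQuotOfLE hle)]
      exact add_nat_le_of_succ (ha (l + 1) (Nat.succ_lt_succ hl))
    obtain ⟨x', hx'mem, hx'fin⟩ := ih (A ⧸ a 0) hdim' _ hmono' ha'
    have hlift : ∀ l : Fin d, ∃ z ∈ a ((l : ℕ) + 1), Ideal.Quotient.mk (a 0) z = x' l := by
      intro l
      exact (Ideal.mem_map_iff_of_surjective (Ideal.Quotient.mk (a 0))
        Ideal.Quotient.mk_surjective).mp (hx'mem l)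
    choose z hz hzx using hlift
    have hJ : ((Ideal.Quotient.mk (a 0)).comp
        (MvPolynomial.aeval (Fin.cons 0 z : Fin (d + 1) → A) :
          MvPolynomial (Fin (d + 1)) k →ₐ[k] A).toRingHom).IsIntegral := by
      have hcomp : (MvPolynomial.aeval x' : MvPolynomial (Fin d) k →ₐ[k] A ⧸ a 0).toRingHom =
          ((Ideal.Quotient.mk (a 0)).comp
            (MvPolynomial.aeval (Fin.cons 0 z : Fin (d + 1) → A) :
              MvPolynomial (Fin (d + 1)) k →ₐ[k] A).toRingHom).comp
            (MvPolynomial.rename Fin.succ : MvPolynomial (Fin d) k →ₐ[k]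
              MvPolynomial (Fin (d + 1)) k).toRingHom := by
        apply MvPolynomial.ringHom_ext
        · intro c
          simp
        · intro i
          simp [hzx]
      have h1 : (MvPolynomial.aeval x' : MvPolynomial (Fin d) k →ₐ[k] A ⧸ a 0).toRingHom.IsIntegral :=
        hx'fin.to_isIntegral
      rw [hcomp] at h1
      exact RingHom.IsIntegral.tower_top _ _ h1
    obtain ⟨y, -, hyJ, hfin⟩ := Groth.Agent.Lib.Helper3.EtQuot.main_J k A (d + 1) hdim
      (Fin.cons 0 z : Fin (d + 1) → A) 1 le_rfl (a 0) hJ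
    refine ⟨fun i => (Fin.cons 0 z : Fin (d + 1) → A) i + y i, fun l => ?_, hfin⟩
    refine Fin.cases ?_ (fun l' => ?_) l
    · simp only [Fin.cons_zero, zero_add]
      exact hyJ 0
    · simp only [Fin.cons_succ]
      have h1 : ((Fin.succ l' : Fin (d + 1)) : ℕ) = (l' : ℕ) + 1 := Fin.val_succ l'
      rw [h1]
      exact Ideal.add_mem _ (hz l') (hmono (Nat.zero_le _) (hyJ _))

end Groth.Agent.Lib.Helper3.ChainNN
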