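import Mathlib

/-!
# Finite endomorphisms of polynomial rings used in the strong Noether normalization
-/

namespace Groth.Agent.Helper3.NNorm

open MvPolynomial

variable {k : Type*} [Field k] {m : ℕ}

/-- Reconstruct a polynomial from its expansion in `X 0`. -/
theorem eval₂_finSuccEquiv (g : MvPolynomial (Fin (m + 1)) k) :
    Polynomial.eval₂ (rename Fin.succ : MvPolynomial (Fin m) k →ₐ[k] _).toRingHom (X 0)
      (finSuccEquiv k m g) = g := by
  let E : MvPolynomial (Fin (m + 1)) k →+* MvPolynomial (Fin (m + 1)) k :=
    (Polynomial.eval₂RingHom (rename Fin.succ : MvPolynomial (Fin m) k →ₐ[k] _).toRingHom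
      (X 0)).comp (finSuccEquiv k m).toRingEquiv.toRingHom
  have hE : E = RingHom.id _ := by
    apply MvPolynomial.ringHom_ext
    · intro a
      simp [E, finSuccEquiv_apply]
    · intro i
      cases i using Fin.cases with
      | zero => simp [E, finSuccEquiv_X_zero]
      | succ i => simp [E, finSuccEquiv_X_succ]
  exact congrFun (congrArg DFunLike.coe hE) g

/-- The substitution `X 0 ↦ g`, `X (i+1) ↦ X (i+1)`. -/
noncomputable def subst0 (g : MvPolynomial (Fin (m + 1)) k) :
    MvPolynomial (Fin (m + 1)) k →ₐ[k] MvPolynomial (Fin (m + 1)) k :=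
  aeval (Fin.cases g (fun i => X i.succ))

@[simp] theorem subst0_X_zero (g : MvPolynomial (Fin (m + 1)) k) : subst0 g (X 0) = g := by
  simp [subst0]

@[simp] theorem subst0_X_succ (g : MvPolynomial (Fin (m + 1)) k) (i : Fin m) :
    subst0 g (X i.succ) = X i.succ := by
  simp [subst0]

theorem subst0_rename_succ (g : MvPolynomial (Fin (m + 1)) k) (b : MvPolynomial (Fin m) k) :
    subst0 g (rename Fin.succ b) = rename Fin.succ b := by
  induction b using MvPolynomial.induction_on with
  | C a => simp [subst0]
  | add p q hp hq => rw [map_add, map_add, hp, hq]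
  | mul_X p i hp => rw [map_mul, map_mul, hp, rename_X, subst0_X_succ]

/-- A ring hom from a finitely generated `k`-algebra which is integral is finite. -/
theorem finite_of_isIntegral {n : ℕ}
    (ψ : MvPolynomial (Fin n) k →ₐ[k] MvPolynomial (Fin n) k)
    (h : ∀ i, ψ.toRingHom.IsIntegralElem (X i)) : ψ.toRingHom.Finite := by
  have hint : ψ.toRingHom.IsIntegral := by
    intro p
    induction p using MvPolynomial.induction_on with
    | C a =>
      have : (C a : MvPolynomial (Fin n) k) = ψ.toRingHom (C a) := by
        simp
      rw [this]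
      exact ψ.toRingHom.isIntegralElem_map
    | add p q hp hq => exact RingHom.IsIntegralElem.add _ hp hq
    | mul_X p i hp => exact RingHom.IsIntegralElem.mul _ hp (h i)
  apply RingHom.IsIntegral.to_finite hint
  apply RingHom.FiniteType.of_comp_finiteType (f := algebraMap k (MvPolynomial (Fin n) k))
  have : ψ.toRingHom.comp (algebraMap k (MvPolynomial (Fin n) k)) =
      algebraMap k (MvPolynomial (Fin n) k) := by
    ext a
    simp
  rw [this]
  exact RingHom.finiteType_algebraMap.mpr inferInstance

theorem subst0_finite (g : MvPolynomial (Fin (m + 1)) k)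
    (hu : IsUnit (finSuccEquiv k m g).leadingCoeff)
    (hd : 0 < (finSuccEquiv k m g).natDegree) : (subst0 g).toRingHom.Finite := by
  apply finite_of_isIntegral
  intro i
  cases i using Fin.cases with
  | succ i =>
    have : (X i.succ : MvPolynomial (Fin (m + 1)) k) = (subst0 g).toRingHom (X i.succ) := by
      simp
    rw [this]
    exact (subst0 g).toRingHom.isIntegralElem_map
  | zero =>
    set G := finSuccEquiv k m g with hG
    let ι : MvPolynomial (Fin m) k →+* MvPolynomial (Fin (m + 1)) k :=
      (rename Fin.succ : MvPolynomial (Fin m) k →ₐ[k] _).toRingHom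
    let p : Polynomial (MvPolynomial (Fin (m + 1)) k) := G.map ι - Polynomial.C (X 0)
    have hdeg : (Polynomial.C (X 0 : MvPolynomial (Fin (m + 1)) k)).degree < (G.map ι).degree := by
      have hinj : Function.Injective ι := rename_injective _ (Fin.succ_injective m)
      rw [Polynomial.degree_map_eq_of_injective hinj]
      refine lt_of_le_of_lt Polynomial.degree_C_le ?_
      rw [Polynomial.degree_eq_natDegree (fun h0 => by rw [h0] at hd; simp at hd)]
      exact_mod_cast hd
    have hlead : p.leadingCoeff = ι G.leadingCoeff := by
      have hinj : Function.Injective ι := rename_injective _ (Fin.succ_injective m)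
      rw [Polynomial.leadingCoeff_sub_of_degree_lt hdeg,
        Polynomial.leadingCoeff_map_of_injective hinj]
    have hpu : IsUnit p.leadingCoeff := by
      rw [hlead]
      exact hu.map ι
    have hmonic := Polynomial.monic_of_isUnit_leadingCoeff_inv_smul hpu
    refine ⟨_, hmonic, ?_⟩
    have hev : Polynomial.eval₂ (subst0 g).toRingHom (X 0) p = 0 := by
      rw [Polynomial.eval₂_sub, Polynomial.eval₂_C, Polynomial.eval₂_map]
      have h1 : (subst0 g).toRingHom.comp ι = ι := by
        ext b
        · simp [ι]
        · simp [ι]
      rw [h1]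
      have h2 := eval₂_finSuccEquiv g
      simp only [ι]
      rw [h2]
      simp
    rw [Units.smul_def, Polynomial.smul_eq_C_mul, Polynomial.eval₂_mul, hev, mul_zero]

end Groth.Agent.Helper3.NNorm
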