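import Mathlib
import Groth.Agent.Lib.Helper3.NNorm2

/-!
# Extending an endomorphism of `k[X_1..X_m]` to `k[X_0..X_m]`
-/

namespace Groth.Agent.Helper3.NNorm

open MvPolynomial

variable {k : Type*} [Field k] {m : ℕ}

/-- Extend `φ'` by `X 0 ↦ X 0`. -/
noncomputable def extend0 (φ' : MvPolynomial (Fin m) k →ₐ[k] MvPolynomial (Fin m) k) :
    MvPolynomial (Fin (m + 1)) k →ₐ[k] MvPolynomial (Fin (m + 1)) k :=
  aeval (Fin.cases (X 0) (fun i => rename Fin.succ (φ' (X i))))

@[simp] theorem extend0_X_zero (φ' : MvPolynomial (Fin m) k →ₐ[k] MvPolynomial (Fin m) k) :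
    extend0 φ' (X 0) = X 0 := by
  simp [extend0]

@[simp] theorem extend0_X_succ (φ' : MvPolynomial (Fin m) k →ₐ[k] MvPolynomial (Fin m) k)
    (i : Fin m) : extend0 φ' (X i.succ) = rename Fin.succ (φ' (X i)) := by
  simp [extend0]

theorem extend0_rename_succ (φ' : MvPolynomial (Fin m) k →ₐ[k] MvPolynomial (Fin m) k)
    (b : MvPolynomial (Fin m) k) :
    extend0 φ' (rename Fin.succ b) = rename Fin.succ (φ' b) := by
  induction b using MvPolynomial.induction_on with
  | C a => simp [extend0]
  | add p q hp hq => rw [map_add, map_add, map_add, map_add, hp, hq]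
  | mul_X p i hp => rw [map_mul, map_mul, map_mul, map_mul, hp, rename_X, extend0_X_succ]

theorem extend0_finite (φ' : MvPolynomial (Fin m) k →ₐ[k] MvPolynomial (Fin m) k)
    (hφ' : φ'.toRingHom.Finite) : (extend0 φ').toRingHom.Finite := by
  apply finite_of_isIntegral
  intro i
  cases i using Fin.cases with
  | zero =>
    have : (X 0 : MvPolynomial (Fin (m + 1)) k) = (extend0 φ').toRingHom (X 0) := by
      simp
    rw [this]
    exact (extend0 φ').toRingHom.isIntegralElem_map
  | succ i =>
    obtain ⟨p, hp, hev⟩ := hφ'.to_isIntegral (X i)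
    let ι : MvPolynomial (Fin m) k →+* MvPolynomial (Fin (m + 1)) k :=
      (rename Fin.succ : MvPolynomial (Fin m) k →ₐ[k] _).toRingHom
    refine ⟨p.map ι, hp.map ι, ?_⟩
    rw [Polynomial.eval₂_map]
    have h1 : (extend0 φ').toRingHom.comp ι = ι.comp φ'.toRingHom := by
      apply RingHom.ext
      intro b
      exact extend0_rename_succ φ' b
    rw [h1]
    have h2 : (X i.succ : MvPolynomial (Fin (m + 1)) k) = ι (X i) := by simp [ι]
    rw [h2, ← Polynomial.hom_eval₂, hev, map_zero]

/-- The projection `X 0 ↦ 0`, `X (i+1) ↦ X i`. -/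
noncomputable def proj0 : MvPolynomial (Fin (m + 1)) k →ₐ[k] MvPolynomial (Fin m) k :=
  aeval (Fin.cases 0 (fun i => X i))

theorem sub_rename_proj0_mem (h : MvPolynomial (Fin (m + 1)) k) :
    h - rename Fin.succ (proj0 h) ∈ Ideal.span {(X 0 : MvPolynomial (Fin (m + 1)) k)} := by
  rw [← Ideal.Quotient.eq]
  let F₁ : MvPolynomial (Fin (m + 1)) k →+* _ :=
    Ideal.Quotient.mk (Ideal.span {(X 0 : MvPolynomial (Fin (m + 1)) k)})
  let F₂ : MvPolynomial (Fin (m + 1)) k →+* _ :=
    F₁.comp ((rename Fin.succ : MvPolynomial (Fin m) k →ₐ[k] _).toRingHom.comp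
      (proj0 (k := k) (m := m)).toRingHom)
  have : F₁ = F₂ := by
    apply MvPolynomial.ringHom_ext
    · intro a
      simp [F₁, F₂, proj0]
    · intro i
      cases i using Fin.cases with
      | zero =>
        have h0 : F₁ (X 0) = 0 :=
          Ideal.Quotient.eq_zero_iff_mem.mpr (Ideal.mem_span_singleton_self _)
        simp [F₂, proj0, h0]
      | succ i => simp [F₁, F₂, proj0]
  exact congrFun (congrArg DFunLike.coe this) h

theorem comap_extend0 (φ' : MvPolynomial (Fin m) k →ₐ[k] MvPolynomial (Fin m) k)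
    (I' : Ideal (MvPolynomial (Fin (m + 1)) k)) (h0 : (X 0 : MvPolynomial (Fin (m + 1)) k) ∈ I')
    (U' : Set (Fin m))
    (hU' : (I'.comap (rename Fin.succ : MvPolynomial (Fin m) k →ₐ[k] _)).comap φ' =
      Ideal.span (X '' U')) :
    I'.comap (extend0 φ') = Ideal.span (X '' (insert 0 (Fin.succ '' U'))) := by
  apply le_antisymm
  · intro h hh
    have hh' : extend0 φ' h ∈ I' := hh
    have h1 := sub_rename_proj0_mem h
    have h2 : extend0 φ' (h - rename Fin.succ (proj0 h)) ∈ I' := by
      obtain ⟨c, hc⟩ := Ideal.mem_span_singleton.mp h1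
      rw [hc, map_mul, extend0_X_zero]
      exact I'.mul_mem_right _ h0
    have h3 : extend0 φ' (rename Fin.succ (proj0 h)) ∈ I' := by
      have : extend0 φ' (rename Fin.succ (proj0 h)) =
          extend0 φ' h - extend0 φ' (h - rename Fin.succ (proj0 h)) := by
        rw [map_sub]; ring
      rw [this]
      exact I'.sub_mem hh' h2
    rw [extend0_rename_succ] at h3
    have h4 : proj0 h ∈ Ideal.span (X '' U') := by
      rw [← hU']
      exact h3
    have h5 : rename Fin.succ (proj0 h) ∈
        Ideal.span (X '' (insert (0 : Fin (m + 1)) (Fin.succ '' U'))) := by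
      have hle : Ideal.map (rename Fin.succ : MvPolynomial (Fin m) k →ₐ[k] _)
          (Ideal.span (X '' U')) ≤ Ideal.span (X '' (insert (0 : Fin (m + 1)) (Fin.succ '' U'))) := by
        rw [Ideal.map_span]
        apply Ideal.span_le.mpr
        rintro _ ⟨_, ⟨i, hi, rfl⟩, rfl⟩
        apply Ideal.subset_span
        refine ⟨i.succ, Set.mem_insert_of_mem _ ⟨i, hi, rfl⟩, ?_⟩
        simp
      exact hle (Ideal.mem_map_of_mem _ h4)
    have h6 : h - rename Fin.succ (proj0 h) ∈
        Ideal.span (X '' (insert (0 : Fin (m + 1)) (Fin.succ '' U'))) := by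
      refine Ideal.span_mono ?_ h1
      rintro _ rfl
      exact ⟨0, Set.mem_insert _ _, rfl⟩
    have : h = (h - rename Fin.succ (proj0 h)) + rename Fin.succ (proj0 h) := by ring
    rw [this]
    exact Ideal.add_mem _ h6 h5
  · apply Ideal.span_le.mpr
    rintro _ ⟨j, hj, rfl⟩
    show extend0 φ' (X j) ∈ I'
    rcases hj with rfl | ⟨i, hi, rfl⟩
    · rw [extend0_X_zero]; exact h0
    · rw [extend0_X_succ]
      have : (X i : MvPolynomial (Fin m) k) ∈
          (I'.comap (rename Fin.succ : MvPolynomial (Fin m) k →ₐ[k] _)).comap φ' := by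
        rw [hU']
        exact Ideal.subset_span ⟨i, hi, rfl⟩
      exact this

end Groth.Agent.Helper3.NNorm
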