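import Mathlib
import Groth.Agent.Lib.Helper3.NNorm1
import Groth.Agent.Lib.Helper3.NNorm3

/-!
# Strong Noether normalization for an ideal of a polynomial ring
-/

namespace Groth.Agent.Helper3.NNorm

open MvPolynomial

variable {k : Type*} [Field k]

theorem comap_ne_top_of_algHom {A B : Type*} [CommRing A] [CommRing B] [Algebra k A] [Algebra k B]
    (φ : A →ₐ[k] B) (I : Ideal B) (hI : I ≠ ⊤) : I.comap φ ≠ ⊤ := by
  intro h
  apply hI
  rw [Ideal.eq_top_iff_one] at h ⊢
  have : φ 1 ∈ I := h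
  rwa [map_one] at this

theorem exists_finite_comap_eq_span : ∀ (n : ℕ) (I : Ideal (MvPolynomial (Fin n) k)), I ≠ ⊤ →
    ∃ (U : Set (Fin n)) (φ : MvPolynomial (Fin n) k →ₐ[k] MvPolynomial (Fin n) k),
      φ.toRingHom.Finite ∧ I.comap φ = Ideal.span (X '' U) := by
  intro n
  induction n with
  | zero =>
    intro I hI
    refine ⟨∅, AlgHom.id k _, RingHom.Finite.id _, ?_⟩
    have hbot : I = ⊥ := by
      rw [eq_bot_iff]
      intro x hx
      by_contra hx0
      apply hI
      rw [Ideal.eq_top_iff_one]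
      obtain ⟨a, rfl⟩ : ∃ a, x = C a := ⟨_, MvPolynomial.eq_C_of_isEmpty x⟩
      have ha : a ≠ 0 := by
        rintro rfl
        exact hx0 (by simp)
      have : (C a⁻¹ : MvPolynomial (Fin 0) k) * C a = 1 := by
        rw [← C_mul, inv_mul_cancel₀ ha, C_1]
      rw [← this]
      exact I.mul_mem_left _ hx
    rw [hbot]
    simp
  | succ m ih =>
    intro I hI
    by_cases hbot : I = ⊥
    · refine ⟨∅, AlgHom.id k _, RingHom.Finite.id _, ?_⟩
      rw [hbot]
      simp
    obtain ⟨f, hfI, hf0⟩ := Submodule.exists_mem_ne_zero_of_ne_bot hbot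
    obtain ⟨T, hT⟩ := exists_algEquiv_isUnit_leadingCoeff f hf0
    set g := T f with hg
    let I₁ : Ideal (MvPolynomial (Fin (m + 1)) k) := I.comap (T.symm : _ →ₐ[k] _)
    have hI₁ : I₁ ≠ ⊤ := comap_ne_top_of_algHom _ I hI
    have hgI₁ : g ∈ I₁ := by
      show T.symm (T f) ∈ I
      rw [AlgEquiv.symm_apply_apply]
      exact hfI
    have hd : 0 < (finSuccEquiv k m g).natDegree := by
      by_contra hd
      have hd0 : (finSuccEquiv k m g).natDegree = 0 := by omega
      apply hI₁
      rw [Ideal.eq_top_iff_one]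
      obtain ⟨c, hc⟩ := Polynomial.natDegree_eq_zero.mp hd0
      have hcu : IsUnit c := by
        rw [← hc, Polynomial.leadingCoeff_C] at hT
        exact hT
      have hgu : IsUnit g := by
        have h1 : IsUnit (finSuccEquiv k m g) := by
          rw [← hc]
          exact hcu.map Polynomial.C
        have h2 := h1.map (finSuccEquiv k m).symm
        rwa [AlgEquiv.symm_apply_apply] at h2
      obtain ⟨u, hu⟩ := hgu
      have : (↑u⁻¹ : MvPolynomial (Fin (m + 1)) k) * g = 1 := by
        rw [← hu]; exact u.inv_mul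
      rw [← this]
      exact I₁.mul_mem_left _ hgI₁
    have hψ := subst0_finite g hT hd
    let I' : Ideal (MvPolynomial (Fin (m + 1)) k) := I₁.comap (subst0 g)
    have hI' : I' ≠ ⊤ := comap_ne_top_of_algHom _ I₁ hI₁
    have h0 : (X 0 : MvPolynomial (Fin (m + 1)) k) ∈ I' := by
      show subst0 g (X 0) ∈ I₁
      rw [subst0_X_zero]
      exact hgI₁
    have hI'' : I'.comap (rename Fin.succ : MvPolynomial (Fin m) k →ₐ[k] _) ≠ ⊤ :=
      comap_ne_top_of_algHom _ I' hI'
    obtain ⟨U', φ', hφ', hU'⟩ := ih _ hI''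
    have hΦ := extend0_finite φ' hφ'
    have hcomap := comap_extend0 φ' I' h0 U' hU'
    refine ⟨insert 0 (Fin.succ '' U'),
      ((T.symm : _ →ₐ[k] _).comp (subst0 g)).comp (extend0 φ'), ?_, ?_⟩
    · have hT' : (T.symm : MvPolynomial (Fin (m + 1)) k →ₐ[k] _).toRingHom.Finite :=
        RingHom.Finite.of_surjective _ (fun x => T.symm.surjective x)
      exact (hT'.comp hψ).comp hΦ
    · rw [← hcomap]
      rfl

end Groth.Agent.Helper3.NNorm
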