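import Mathlib
import Groth.Agent.Lib.Helper3.NNorm4

/-!
# Noether normalization adapted to a prime: transcendence degree count and final statement
-/

namespace Groth.Agent.Helper3.NNorm

open MvPolynomial Cardinal

universe u

variable {k : Type u} [Field k] {n : ℕ}

section Trdeg

variable (q : Ideal (MvPolynomial (Fin n) k)) [q.IsPrime] (U : Set (Fin n))
  (φ : MvPolynomial (Fin n) k →ₐ[k] MvPolynomial (Fin n) k)

open Classical in
/-- Kill the variables in `U`. -/
noncomputable def killU : MvPolynomial (Fin n) k →ₐ[k] MvPolynomial {j : Fin n // j ∉ U} k :=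
  aeval (fun i => if hi : i ∈ U then 0 else X ⟨i, hi⟩)

theorem killU_X_of_mem {i : Fin n} (hi : i ∈ U) : killU (k := k) U (X i) = 0 := by
  simp [killU, hi]

theorem killU_X_of_not_mem {i : Fin n} (hi : i ∉ U) : killU (k := k) U (X i) = X ⟨i, hi⟩ := by
  simp [killU, hi]

theorem killU_rename (h : MvPolynomial {j : Fin n // j ∉ U} k) :
    killU U (rename Subtype.val h) = h := by
  induction h using MvPolynomial.induction_on with
  | C a => simp [killU]
  | add p q hp hq => rw [map_add, map_add, hp, hq]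
  | mul_X p i hp => rw [map_mul, map_mul, hp, rename_X, killU_X_of_not_mem U i.2]

theorem killU_eq_zero_of_mem_span {x : MvPolynomial (Fin n) k}
    (hx : x ∈ Ideal.span (X '' U : Set (MvPolynomial (Fin n) k))) : killU U x = 0 := by
  have hle : Ideal.span (X '' U : Set (MvPolynomial (Fin n) k)) ≤
      RingHom.ker (killU (k := k) U).toRingHom := by
    apply Ideal.span_le.mpr
    rintro _ ⟨i, hi, rfl⟩
    exact killU_X_of_mem U hi
  exact hle hx

/-- The comparison map `k[X_j : j ∉ U] → A ⧸ q`. -/
noncomputable def theta : MvPolynomial {j : Fin n // j ∉ U} k →ₐ[k] MvPolynomial (Fin n) k ⧸ q :=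
  (Ideal.Quotient.mkₐ k q).comp (φ.comp (rename Subtype.val))

variable {q U φ}

theorem theta_injective (hU : q.comap φ = Ideal.span (X '' U)) :
    Function.Injective (theta q U φ) := by
  rw [injective_iff_map_eq_zero]
  intro h hh
  have h1 : φ (rename Subtype.val h) ∈ q := Ideal.Quotient.eq_zero_iff_mem.mp hh
  have h2 : rename Subtype.val h ∈ Ideal.span (X '' U : Set (MvPolynomial (Fin n) k)) := by
    rw [← hU]; exact h1
  rw [← killU_rename U h, killU_eq_zero_of_mem_span U h2]

theorem theta_comp_killU (hU : q.comap φ = Ideal.span (X '' U)) :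
    (theta q U φ).comp (killU U) = (Ideal.Quotient.mkₐ k q).comp φ := by
  apply MvPolynomial.algHom_ext
  intro i
  by_cases hi : i ∈ U
  · rw [AlgHom.comp_apply, killU_X_of_mem U hi, map_zero, AlgHom.comp_apply]
    symm
    apply Ideal.Quotient.eq_zero_iff_mem.mpr
    have : (X i : MvPolynomial (Fin n) k) ∈ q.comap φ := by
      rw [hU]; exact Ideal.subset_span ⟨i, hi, rfl⟩
    exact this
  · rw [AlgHom.comp_apply, killU_X_of_not_mem U hi]
    simp [theta]

theorem theta_isIntegral (hφ : φ.toRingHom.Finite) (hU : q.comap φ = Ideal.span (X '' U)) :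
    (theta q U φ).toRingHom.IsIntegral := by
  have h1 : ((Ideal.Quotient.mkₐ k q).comp φ).toRingHom.IsIntegral := by
    have h2 : (Ideal.Quotient.mkₐ k q).toRingHom.IsIntegral :=
      RingHom.isIntegral_of_surjective _ (Ideal.Quotient.mkₐ_surjective k q)
    exact RingHom.IsIntegral.trans _ _ hφ.to_isIntegral h2
  rw [← theta_comp_killU hU] at h1
  exact RingHom.IsIntegral.tower_top (killU (k := k) U).toRingHom (theta q U φ).toRingHom h1

open Classical in
theorem trdeg_residueField (hφ : φ.toRingHom.Finite) (hU : q.comap φ = Ideal.span (X '' U)) :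
    Algebra.trdeg k q.ResidueField = (Fintype.card {j : Fin n // j ∉ U} : Cardinal.{u}) := by
  letI : Algebra (MvPolynomial {j : Fin n // j ∉ U} k) (MvPolynomial (Fin n) k ⧸ q) :=
    (theta q U φ).toRingHom.toAlgebra
  haveI : IsScalarTower k (MvPolynomial {j : Fin n // j ∉ U} k) (MvPolynomial (Fin n) k ⧸ q) :=
    IsScalarTower.of_algebraMap_eq (fun a => ((theta q U φ).commutes a).symm)
  haveI hint : Algebra.IsIntegral (MvPolynomial {j : Fin n // j ∉ U} k)
      (MvPolynomial (Fin n) k ⧸ q) := ⟨theta_isIntegral hφ hU⟩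
  haveI : FaithfulSMul (MvPolynomial {j : Fin n // j ∉ U} k) (MvPolynomial (Fin n) k ⧸ q) :=
    (faithfulSMul_iff_algebraMap_injective _ _).mpr (theta_injective hU)
  have h1 := trdeg_add_eq k (MvPolynomial {j : Fin n // j ∉ U} k)
    (A := MvPolynomial (Fin n) k ⧸ q)
  have h2 : Algebra.trdeg (MvPolynomial {j : Fin n // j ∉ U} k) (MvPolynomial (Fin n) k ⧸ q) = 0 :=
    trdeg_eq_zero
  have h3 : Algebra.trdeg k (MvPolynomial {j : Fin n // j ∉ U} k) =
      (Fintype.card {j : Fin n // j ∉ U} : Cardinal.{u}) := by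
    rw [MvPolynomial.trdeg_of_isDomain, Cardinal.mk_fintype, Cardinal.lift_natCast]
  have h4 := trdeg_add_eq k (MvPolynomial (Fin n) k ⧸ q) (A := q.ResidueField)
  have h5 : Algebra.trdeg (MvPolynomial (Fin n) k ⧸ q) q.ResidueField = 0 := by
    haveI : Algebra.IsAlgebraic (MvPolynomial (Fin n) k ⧸ q) q.ResidueField :=
      IsLocalization.isAlgebraic _ (nonZeroDivisors (MvPolynomial (Fin n) k ⧸ q))
    exact trdeg_eq_zero
  rw [← h4, h5, add_zero, ← h1, h2, add_zero, h3]

end Trdeg

theorem main_S2100 (n r : ℕ) (q : Ideal (MvPolynomial (Fin n) k))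
    [q.IsPrime] (hr : Algebra.trdeg k q.ResidueField = r) :
    ∃ φ : MvPolynomial (Fin n) k →ₐ[k] MvPolynomial (Fin n) k, φ.toRingHom.Finite ∧
      q.comap φ = Ideal.span (Set.range fun i : {i : Fin n // r ≤ (i : ℕ)} =>
        MvPolynomial.X (i : Fin n)) := by
  classical
  obtain ⟨U, φ, hφ, hU⟩ := exists_finite_comap_eq_span n q (Ideal.IsPrime.ne_top inferInstance)
  have htr := trdeg_residueField hφ hU
  rw [hr] at htr
  have hcard : Fintype.card {j : Fin n // j ∉ U} = r := (Nat.cast_injective htr).symm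
  have hrn : r ≤ n := by
    rw [← hcard]
    exact (Fintype.card_subtype_le _).trans (by simp)
  have hcard2 : Fintype.card {i : Fin n // (i : ℕ) < r} = Fintype.card {j : Fin n // j ∉ U} := by
    rw [hcard, Fintype.card_fin_lt_of_le hrn]
  let e₀ : {i : Fin n // (i : ℕ) < r} ≃ {j : Fin n // j ∉ U} := Fintype.equivOfCardEq hcard2
  let e : Equiv.Perm (Fin n) := e₀.extendSubtype
  have he : ∀ i : Fin n, e i ∈ U ↔ r ≤ (i : ℕ) := by
    intro i
    constructor
    · intro hi
      by_contra hlt
      exact e₀.extendSubtype_mem i (by omega) hi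
    · intro hi
      by_contra hni
      exact e₀.extendSubtype_not_mem i (by omega) hni
  refine ⟨φ.comp (rename e), ?_, ?_⟩
  · have h1 : (rename e : MvPolynomial (Fin n) k →ₐ[k] _).toRingHom.Finite :=
      RingHom.Finite.of_surjective _ (fun x => rename_surjective e e.surjective x)
    exact hφ.comp h1
  · have hc : q.comap (φ.comp (rename e)) =
        (q.comap φ).comap (rename e : MvPolynomial (Fin n) k →ₐ[k] _) := rfl
    rw [hc, hU]
    apply le_antisymm
    · intro x hx
      have hx' : rename e x ∈ Ideal.span (X '' U : Set (MvPolynomial (Fin n) k)) := hx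
      have h2 : rename e.symm (rename e x) ∈ Ideal.map
          (rename e.symm : MvPolynomial (Fin n) k →ₐ[k] _)
          (Ideal.span (X '' U : Set (MvPolynomial (Fin n) k))) := Ideal.mem_map_of_mem _ hx'
      rw [rename_rename] at h2
      have h3 : (e.symm ∘ e : Fin n → Fin n) = id := by ext; simp
      rw [h3, rename_id_apply] at h2
      rw [Ideal.map_span] at h2
      refine Ideal.span_mono ?_ h2
      rintro _ ⟨_, ⟨u, hu, rfl⟩, rfl⟩
      refine ⟨⟨e.symm u, ?_⟩, ?_⟩
      · rw [← he, Equiv.apply_symm_apply]; exact hu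
      · simp
    · apply Ideal.span_le.mpr
      rintro _ ⟨⟨i, hi⟩, rfl⟩
      show rename e (X i) ∈ Ideal.span (X '' U : Set (MvPolynomial (Fin n) k))
      rw [rename_X]
      exact Ideal.subset_span ⟨e i, (he i).mpr hi, rfl⟩

end Groth.Agent.Helper3.NNorm
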