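import Mathlib
import Groth.Agent.Lib.Helper3.ChainNN1
import Groth.Agent.Lib.Helper3.NNorm5

/-!
# Coordinate primes of a polynomial ring and Noether normalization adapted to a chain of primes
(helper library for S12439, part (1))
-/

set_option maxHeartbeats 400000

namespace Groth.Agent.Lib.Helper3.ChainNN

universe u

open MvPolynomial
open Groth.Agent.Helper3.NNorm

section coord

variable {k : Type u} [Field k] {n : ℕ} (U : Set (Fin n))

theorem sub_rename_killU_mem (p : MvPolynomial (Fin n) k) :
    p - rename Subtype.val (killU U p) ∈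
      Ideal.span (X '' U : Set (MvPolynomial (Fin n) k)) := by
  classical
  induction p using MvPolynomial.induction_on with
  | C a =>
    have : killU (k := k) U (C a) = C a := by simp [killU]
    rw [this, rename_C, sub_self]
    exact zero_mem _
  | add p q hp hq =>
    have : p + q - rename Subtype.val (killU U (p + q)) =
        (p - rename Subtype.val (killU U p)) + (q - rename Subtype.val (killU U q)) := by
      rw [map_add, map_add]; ring
    rw [this]
    exact Ideal.add_mem _ hp hq
  | mul_X p i hp =>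
    by_cases hi : i ∈ U
    · rw [map_mul, killU_X_of_mem U hi, mul_zero, map_zero, sub_zero]
      exact Ideal.mul_mem_left _ _ (Ideal.subset_span ⟨i, hi, rfl⟩)
    · rw [map_mul, killU_X_of_not_mem U hi, map_mul, rename_X]
      have : p * X i - rename Subtype.val (killU U p) * X i =
          (p - rename Subtype.val (killU U p)) * X i := by ring
      change p * X i - rename Subtype.val (killU U p) * X i ∈ _
      rw [this]
      exact Ideal.mul_mem_right _ _ hp

theorem ker_killU : RingHom.ker (killU (k := k) U).toRingHom =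
    Ideal.span (X '' U : Set (MvPolynomial (Fin n) k)) := by
  apply le_antisymm
  · intro p hp
    have h0 : killU U p = 0 := hp
    have := sub_rename_killU_mem U p
    rwa [h0, map_zero, sub_zero] at this
  · intro p hp
    exact killU_eq_zero_of_mem_span U hp

theorem isPrime_span : (Ideal.span (X '' U : Set (MvPolynomial (Fin n) k))).IsPrime := by
  rw [← ker_killU]
  exact RingHom.ker_isPrime _

theorem killU_surjective : Function.Surjective (killU (k := k) U).toRingHom :=
  fun h => ⟨rename Subtype.val h, killU_rename U h⟩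

/-- The quotient by a coordinate prime is a polynomial ring. -/
noncomputable def quotEquiv :
    (MvPolynomial (Fin n) k ⧸ Ideal.span (X '' U : Set (MvPolynomial (Fin n) k))) ≃+*
      MvPolynomial {j : Fin n // j ∉ U} k :=
  (Ideal.quotEquivOfEq (ker_killU U).symm).trans
    (RingHom.quotientKerEquivOfSurjective (killU_surjective U))

theorem isIntegrallyClosed_quot :
    IsIntegrallyClosed (MvPolynomial (Fin n) k ⧸
      Ideal.span (X '' U : Set (MvPolynomial (Fin n) k))) :=
  IsIntegrallyClosed.of_equiv (quotEquiv U).symm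

theorem X_not_mem_span {i : Fin n} (hi : i ∉ U) :
    (X i : MvPolynomial (Fin n) k) ∉ Ideal.span (X '' U : Set (MvPolynomial (Fin n) k)) := by
  intro hmem
  have h1 := killU_eq_zero_of_mem_span U hmem
  rw [killU_X_of_not_mem U hi] at h1
  exact X_ne_zero _ h1

end coord

theorem ringKrullDim_quot_le {k : Type u} [Field k] (d h : ℕ) (hh : h ≤ d) :
    ringKrullDim (MvPolynomial (Fin d) k ⧸
      Ideal.span (X '' {l : Fin d | (l : ℕ) < h} : Set (MvPolynomial (Fin d) k))) ≤
      ((d - h : ℕ) : WithBot ℕ∞) := by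
  classical
  rw [ringKrullDim_eq_of_ringEquiv (quotEquiv _), MvPolynomial.ringKrullDim_of_isNoetherianRing,
    ringKrullDim_eq_zero_of_field, zero_add]
  have hcard : Nat.card {j : Fin d // j ∉ {l : Fin d | (l : ℕ) < h}} = d - h := by
    have e : {j : Fin d // j ∉ {l : Fin d | (l : ℕ) < h}} ≃ Fin (d - h) :=
      { toFun := fun j => ⟨(j.1 : ℕ) - h, by
          have h1 := j.1.2
          have h2 : ¬ ((j.1 : ℕ) < h) := j.2
          omega⟩
        invFun := fun i => ⟨⟨h + i, by have := i.2; omega⟩, by
          show ¬ (h + (i : ℕ) < h)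
          omega⟩
        left_inv := fun j => by
          have h2 : ¬ ((j.1 : ℕ) < h) := j.2
          apply Subtype.ext
          apply Fin.ext
          show h + ((j.1 : ℕ) - h) = (j.1 : ℕ)
          omega
        right_inv := fun i => by
          apply Fin.ext
          show h + (i : ℕ) - h = (i : ℕ)
          omega }
    rw [Nat.card_congr e, Nat.card_fin]
  rw [hcard]

/-- Part (1) of S12439. -/
theorem part1 (k A : Type u) [Field k] [CommRing A] [IsDomain A] [Algebra k A]
    [Algebra.FiniteType k A] (d : ℕ) (hd : ringKrullDim A = (d : WithBot ℕ∞))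
    (r : ℕ) (q : Fin r → PrimeSpectrum A) (hq : StrictMono q) (h : Fin r → ℕ)
    (hh : ∀ i, h i ≤ d)
    (hdim : ∀ i, ringKrullDim (A ⧸ (q i).asIdeal) = ((d - h i : ℕ) : WithBot ℕ∞)) :
    ∃ φ : MvPolynomial (Fin d) k →ₐ[k] A, φ.toRingHom.Finite ∧ Function.Injective φ ∧
      ∀ i, (q i).asIdeal.comap φ =
        Ideal.span (MvPolynomial.X '' {l : Fin d | (l : ℕ) < h i}) := by
  classical
  obtain ⟨a, ha_def⟩ : ∃ a : ℕ → Ideal A,
      ∀ l, a l = ⨅ (i : Fin r) (_ : l < h i), (q i).asIdeal := ⟨_, fun _ => rfl⟩
  have hmono : Monotone a := by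
    intro l l' hll
    rw [ha_def l, ha_def l']
    refine le_iInf₂ (f := fun (i : Fin r) (_ : l' < h i) => (q i).asIdeal) fun i hi => ?_
    exact iInf₂_le (f := fun (i : Fin r) (_ : l < h i) => (q i).asIdeal) i
      (lt_of_le_of_lt hll hi)
  have hale : ∀ l i, l < h i → a l ≤ (q i).asIdeal := by
    intro l i hi
    rw [ha_def l]
    exact iInf₂_le (f := fun (i : Fin r) (_ : l < h i) => (q i).asIdeal) i hi
  have ha : ∀ l, l < d →
      ringKrullDim (A ⧸ a l) + ((l + 1 : ℕ) : WithBot ℕ∞) ≤ (d : WithBot ℕ∞) := by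
    intro l hl
    by_cases hex : ∃ i, l < h i
    · have hne : (Finset.univ.filter (fun i : Fin r => l < h i)).Nonempty := by
        obtain ⟨i, hi⟩ := hex
        exact ⟨i, by simp [hi]⟩
      obtain ⟨i₀, hi₀, hmin⟩ := Finset.exists_min_image _ (fun i : Fin r => i) hne
      have hi₀' : l < h i₀ := by simpa using hi₀
      have hal : a l = (q i₀).asIdeal := by
        apply le_antisymm (hale l i₀ hi₀')
        rw [ha_def l]
        refine le_iInf₂ (f := fun (i : Fin r) (_ : l < h i) => (q i).asIdeal) fun i hi => ?_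
        have : i₀ ≤ i := hmin i (by simp [hi])
        exact hq.monotone this
      rw [hal, hdim i₀]
      have : (d - h i₀) + (l + 1) ≤ d := by have := hh i₀; omega
      exact_mod_cast this
    · push Not at hex
      have hal : a l = ⊤ := by
        rw [ha_def l, eq_top_iff]
        refine le_iInf₂ (f := fun (i : Fin r) (_ : l < h i) => (q i).asIdeal) fun i hi => ?_
        exact absurd hi (not_lt.mpr (hex i))
      rw [hal]
      haveI : Subsingleton (A ⧸ (⊤ : Ideal A)) := Ideal.Quotient.subsingleton_iff.mpr rfl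
      rw [ringKrullDim_eq_bot_of_subsingleton]
      simp
  obtain ⟨x, hxmem, hfin⟩ := adaptedNN k d A hd.le a hmono ha
  have hint : Algebra.IsIntegral (Algebra.adjoin k (Set.range x)) A :=
    (Groth.Agent.Helper9.IdealRed.intOver_iff x).mp hfin.to_isIntegral
  have hai : AlgebraicIndependent k x :=
    Groth.Agent.Helper9.IdealRed.algebraicIndependent_of_le_ringKrullDim x hint hd.ge
  have hinj : Function.Injective (MvPolynomial.aeval x : MvPolynomial (Fin d) k →ₐ[k] A) :=
    algebraicIndependent_iff_injective_aeval.mp hai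
  refine ⟨MvPolynomial.aeval x, hfin, hinj, fun i => ?_⟩
  letI algSA : Algebra (MvPolynomial (Fin d) k) A :=
    (MvPolynomial.aeval x : MvPolynomial (Fin d) k →ₐ[k] A).toRingHom.toAlgebra
  haveI : Module.Finite (MvPolynomial (Fin d) k) A := hfin
  haveI : Algebra.IsIntegral (MvPolynomial (Fin d) k) A := Algebra.IsIntegral.of_finite _ _
  have hP' : (q i).asIdeal.comap (MvPolynomial.aeval x : MvPolynomial (Fin d) k →ₐ[k] A) =
      (q i).asIdeal.comap (algebraMap (MvPolynomial (Fin d) k) A) := rfl
  rw [hP']
  haveI h𝔭prime : (Ideal.span (MvPolynomial.X '' {l : Fin d | (l : ℕ) < h i} :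
      Set (MvPolynomial (Fin d) k))).IsPrime := isPrime_span _
  have hle : Ideal.span (MvPolynomial.X '' {l : Fin d | (l : ℕ) < h i} :
      Set (MvPolynomial (Fin d) k)) ≤
      (q i).asIdeal.comap (algebraMap (MvPolynomial (Fin d) k) A) := by
    rw [Ideal.span_le]
    rintro _ ⟨l, hl, rfl⟩
    show (MvPolynomial.aeval x : MvPolynomial (Fin d) k →ₐ[k] A) (X l) ∈ (q i).asIdeal
    rw [aeval_X]
    exact hale l i hl (hxmem l)
  by_contra hne
  have hlt : Ideal.span (MvPolynomial.X '' {l : Fin d | (l : ℕ) < h i} :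
      Set (MvPolynomial (Fin d) k)) <
      (q i).asIdeal.comap (algebraMap (MvPolynomial (Fin d) k) A) :=
    lt_of_le_of_ne hle (Ne.symm hne)
  obtain ⟨z, hz, hz𝔭⟩ := SetLike.exists_of_lt hlt
  have h1 : ringKrullDim (MvPolynomial (Fin d) k ⧸
      (q i).asIdeal.comap (algebraMap (MvPolynomial (Fin d) k) A)) + 1 ≤
      ringKrullDim (MvPolynomial (Fin d) k ⧸
        Ideal.span (MvPolynomial.X '' {l : Fin d | (l : ℕ) < h i} :
          Set (MvPolynomial (Fin d) k))) := by
    refine ringKrullDim_succ_le_of_surjective (Ideal.Quotient.factor hle)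
      (Ideal.Quotient.factor_surjective hle) (r := Ideal.Quotient.mk _ z) ?_ ?_
    · exact mem_nonZeroDivisors_of_ne_zero (by rwa [Ne, Ideal.Quotient.eq_zero_iff_mem])
    · rw [Ideal.Quotient.factor_mk, Ideal.Quotient.eq_zero_iff_mem]
      exact hz
  have h2 : ringKrullDim (A ⧸ (q i).asIdeal) = ringKrullDim (MvPolynomial (Fin d) k ⧸
      (q i).asIdeal.comap (algebraMap (MvPolynomial (Fin d) k) A)) :=
    Groth.Agent.Lib.Helper4.DimFT1.ringKrullDim_eq_of_isIntegral_of_injective _ _
      Ideal.algebraMap_quotient_injective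
  have h3 := ringKrullDim_quot_le (k := k) d (h i) (hh i)
  rw [← h2, hdim i] at h1
  have h4 : ((d - h i : ℕ) : WithBot ℕ∞) + 1 ≤ ((d - h i : ℕ) : WithBot ℕ∞) := h1.trans h3
  have h5 : (d - h i) + 1 ≤ d - h i := by exact_mod_cast h4
  omega

end Groth.Agent.Lib.Helper3.ChainNN
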