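import Mathlib
import Groth.Agent.Lib.Helper3.ChainNN2

/-!
# Completing a chain of primes over the coordinate flag of a polynomial ring
(helper library for S12439, part (2))
-/

set_option maxHeartbeats 400000

namespace Groth.Agent.Lib.Helper3.ChainNN

universe u

open MvPolynomial

/-- The coordinate prime `(X_l : l < j)`. -/
noncomputable def pp (k : Type u) [Field k] (d j : ℕ) : Ideal (MvPolynomial (Fin d) k) :=
  Ideal.span (X '' {l : Fin d | (l : ℕ) < j})

section pp

variable {k : Type u} [Field k] {d : ℕ}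

theorem pp_isPrime {j : ℕ} : (pp k d j).IsPrime := isPrime_span _

theorem pp_mono {j j' : ℕ} (hjj : j ≤ j') : pp k d j ≤ pp k d j' :=
  Ideal.span_mono (Set.image_mono (fun l (hl : (l : ℕ) < j) => lt_of_lt_of_le hl hjj))

theorem pp_zero : pp k d 0 = ⊥ := by
  unfold pp
  have : {l : Fin d | (l : ℕ) < 0} = ∅ := by
    ext l
    simp
  rw [this, Set.image_empty, Ideal.span_empty]

theorem pp_ne_succ {m : ℕ} (hm : m < d) : pp k d m ≠ pp k d (m + 1) := by
  intro heq
  have h1 : (X ⟨m, hm⟩ : MvPolynomial (Fin d) k) ∈ pp k d (m + 1) :=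
    Ideal.subset_span ⟨⟨m, hm⟩, by simp, rfl⟩
  rw [← heq] at h1
  exact X_not_mem_span _ (by simp) h1

end pp

section gd

variable {k : Type u} [Field k] {d : ℕ} {A : Type u} [CommRing A] [IsDomain A]
  [Algebra (MvPolynomial (Fin d) k) A] [Algebra.IsIntegral (MvPolynomial (Fin d) k) A]

/-- One going-down step between `L` and `Q` over the coordinate flag. -/
theorem step_down (L Q : Ideal A) [hL : L.IsPrime] [hQ : Q.IsPrime] (hLQ : L ≤ Q) (a m : ℕ)
    (ham : a ≤ m)
    (hL' : L.comap (algebraMap (MvPolynomial (Fin d) k) A) = pp k d a)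
    (hQ' : Q.comap (algebraMap (MvPolynomial (Fin d) k) A) = pp k d (m + 1)) :
    ∃ Q'' : Ideal A, Q''.IsPrime ∧ L ≤ Q'' ∧ Q'' ≤ Q ∧
      Q''.comap (algebraMap (MvPolynomial (Fin d) k) A) = pp k d m := by
  classical
  haveI : IsIntegrallyClosed (MvPolynomial (Fin d) k ⧸
      L.comap (algebraMap (MvPolynomial (Fin d) k) A)) := by
    haveI h1 : IsIntegrallyClosed (MvPolynomial (Fin d) k ⧸ pp k d a) :=
      isIntegrallyClosed_quot _
    exact IsIntegrallyClosed.of_equiv (Ideal.quotEquivOfEq hL'.symm)
  haveI : FaithfulSMul (MvPolynomial (Fin d) k ⧸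
      L.comap (algebraMap (MvPolynomial (Fin d) k) A)) (A ⧸ L) :=
    (faithfulSMul_iff_algebraMap_injective _ _).mpr Ideal.algebraMap_quotient_injective
  haveI : Algebra.HasGoingDown (MvPolynomial (Fin d) k ⧸
      L.comap (algebraMap (MvPolynomial (Fin d) k) A)) (A ⧸ L) := inferInstance
  have hker : RingHom.ker (Ideal.Quotient.mk L) ≤ Q := by
    rw [Ideal.mk_ker]
    exact hLQ
  haveI hQbar : (Q.map (Ideal.Quotient.mk L)).IsPrime :=
    Ideal.map_isPrime_of_surjective Ideal.Quotient.mk_surjective hker
  have hp₀m : L.comap (algebraMap (MvPolynomial (Fin d) k) A) ≤ pp k d m := by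
    rw [hL']
    exact pp_mono ham
  have hp₀m1 : L.comap (algebraMap (MvPolynomial (Fin d) k) A) ≤ pp k d (m + 1) :=
    hp₀m.trans (pp_mono (Nat.le_succ m))
  haveI : (pp k d m).IsPrime := pp_isPrime
  haveI : (pp k d (m + 1)).IsPrime := pp_isPrime
  haveI hpbar : ((pp k d m).map (Ideal.Quotient.mk
      (L.comap (algebraMap (MvPolynomial (Fin d) k) A)))).IsPrime :=
    Ideal.map_isPrime_of_surjective Ideal.Quotient.mk_surjective (by
      rw [Ideal.mk_ker]
      exact hp₀m)
  haveI hqbar : ((pp k d (m + 1)).map (Ideal.Quotient.mk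
      (L.comap (algebraMap (MvPolynomial (Fin d) k) A)))).IsPrime :=
    Ideal.map_isPrime_of_surjective Ideal.Quotient.mk_surjective (by
      rw [Ideal.mk_ker]
      exact hp₀m1)
  have halg : ∀ s : MvPolynomial (Fin d) k,
      algebraMap (MvPolynomial (Fin d) k ⧸ L.comap (algebraMap (MvPolynomial (Fin d) k) A))
        (A ⧸ L) (Ideal.Quotient.mk _ s) =
      Ideal.Quotient.mk L (algebraMap (MvPolynomial (Fin d) k) A s) := fun s => rfl
  haveI hlo : (Q.map (Ideal.Quotient.mk L)).LiesOver ((pp k d (m + 1)).map (Ideal.Quotient.mk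
      (L.comap (algebraMap (MvPolynomial (Fin d) k) A)))) := by
    constructor
    ext x
    obtain ⟨s, rfl⟩ := Ideal.Quotient.mk_surjective x
    rw [Ideal.under_def, Ideal.mem_comap, halg, Ideal.mem_quotient_iff_mem hLQ,
      Ideal.mem_quotient_iff_mem hp₀m1, ← hQ']
    rfl
  obtain ⟨P, hPQ, hPprime, hPlo⟩ := Ideal.exists_ideal_le_liesOver_of_le
    (p := (pp k d m).map (Ideal.Quotient.mk (L.comap (algebraMap (MvPolynomial (Fin d) k) A))))
    (q := (pp k d (m + 1)).map (Ideal.Quotient.mk
      (L.comap (algebraMap (MvPolynomial (Fin d) k) A))))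
    (Q.map (Ideal.Quotient.mk L)) (Ideal.map_mono (pp_mono (Nat.le_succ m)))
  refine ⟨P.comap (Ideal.Quotient.mk L), Ideal.comap_isPrime _ _, ?_, ?_, ?_⟩
  · intro x hx
    rw [Ideal.mem_comap, Ideal.Quotient.eq_zero_iff_mem.mpr hx]
    exact zero_mem _
  · intro x hx
    rw [Ideal.mem_comap] at hx
    exact (Ideal.mem_quotient_iff_mem hLQ).mp (hPQ hx)
  · ext s
    rw [Ideal.mem_comap, Ideal.mem_comap, ← halg]
    have h1 : algebraMap (MvPolynomial (Fin d) k ⧸
        L.comap (algebraMap (MvPolynomial (Fin d) k) A)) (A ⧸ L) (Ideal.Quotient.mk _ s) ∈ P ↔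
        Ideal.Quotient.mk _ s ∈ P.under (MvPolynomial (Fin d) k ⧸
          L.comap (algebraMap (MvPolynomial (Fin d) k) A)) := Iff.rfl
    rw [h1, ← hPlo.over, Ideal.mem_quotient_iff_mem hp₀m]

end gd

/-- Part (2) of S12439. -/
theorem part2 (k A : Type u) [Field k] [CommRing A] [IsDomain A] [Algebra k A] (d : ℕ)
    (r : ℕ) (q : Fin r → PrimeSpectrum A) (hq : StrictMono q) (h : Fin r → ℕ)
    (hh : ∀ i, h i ≤ d)
    (φ : MvPolynomial (Fin d) k →ₐ[k] A) (hfin : φ.toRingHom.Finite)
    (hinj : Function.Injective φ)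
    (hcom : ∀ i, (q i).asIdeal.comap φ =
      Ideal.span (MvPolynomial.X '' {l : Fin d | (l : ℕ) < h i})) :
    ∃ Q : ℕ → PrimeSpectrum A,
      (∀ j, j ≤ d → (Q j).asIdeal.comap φ =
        Ideal.span (MvPolynomial.X '' {l : Fin d | (l : ℕ) < j})) ∧
      (∀ j, j < d → Q j < Q (j + 1)) ∧ (∀ i, Q (h i) = q i) := by
  classical
  letI algSA : Algebra (MvPolynomial (Fin d) k) A := φ.toRingHom.toAlgebra
  haveI : Module.Finite (MvPolynomial (Fin d) k) A := hfin
  haveI : Algebra.IsIntegral (MvPolynomial (Fin d) k) A := Algebra.IsIntegral.of_finite _ _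
  have hinj' : Function.Injective (algebraMap (MvPolynomial (Fin d) k) A) := hinj
  have hcom' : ∀ i, (q i).asIdeal.comap (algebraMap (MvPolynomial (Fin d) k) A) =
      pp k d (h i) := fun i => hcom i
  have hsm := Groth.Agent.Lib.Helper4.DimFT1.strictMono_comap_of_isIntegral
    (MvPolynomial (Fin d) k) A
  have hlt_comap : ∀ P P' : PrimeSpectrum A, P < P' →
      P.asIdeal.comap (algebraMap (MvPolynomial (Fin d) k) A) <
        P'.asIdeal.comap (algebraMap (MvPolynomial (Fin d) k) A) := by
    intro P P' hlt
    exact hsm hlt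
  have hhmono : StrictMono h := by
    intro i i' hii
    have h4 := hlt_comap _ _ (hq hii)
    rw [hcom', hcom'] at h4
    by_contra hcon
    push Not at hcon
    exact absurd (pp_mono (k := k) (d := d) hcon) (not_le_of_gt h4)
  have heq_of_le : ∀ P P' : PrimeSpectrum A, P ≤ P' →
      P.asIdeal.comap (algebraMap (MvPolynomial (Fin d) k) A) =
        P'.asIdeal.comap (algebraMap (MvPolynomial (Fin d) k) A) → P = P' := by
    intro P P' hle hc
    by_contra hne
    have h4 := hlt_comap _ _ (lt_of_le_of_ne hle hne)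
    rw [hc] at h4
    exact lt_irrefl _ h4
  have htop : ∃ Itop : Ideal A,
      Itop.comap (algebraMap (MvPolynomial (Fin d) k) A) ≤ pp k d d ∧
        ∀ i, (q i).asIdeal ≤ Itop := by
    by_cases hne : Nonempty (Fin r)
    · obtain ⟨i₁, -, hmax⟩ := Finset.exists_max_image (Finset.univ : Finset (Fin r))
        (fun i => i) Finset.univ_nonempty
      refine ⟨(q i₁).asIdeal, ?_, fun i => hq.monotone (hmax i (Finset.mem_univ _))⟩
      rw [hcom']
      exact pp_mono (hh i₁)
    · refine ⟨⊥, ?_, fun i => absurd ⟨i⟩ hne⟩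
      rw [Ideal.comap_bot_of_injective _ hinj']
      exact bot_le
  obtain ⟨Itop, hItop, hqItop⟩ := htop
  haveI : (pp k d d).IsPrime := pp_isPrime
  obtain ⟨Qd, hQdI, hQdprime, hQdcom⟩ :=
    Ideal.exists_ideal_over_prime_of_isIntegral (pp k d d) Itop hItop
  have key : ∀ t m : ℕ, m + t = d → ∃ Q : ℕ → PrimeSpectrum A,
      (∀ j, m ≤ j → j ≤ d →
        (Q j).asIdeal.comap (algebraMap (MvPolynomial (Fin d) k) A) = pp k d j) ∧
      (∀ j, m ≤ j → j < d → Q j < Q (j + 1)) ∧
      (∀ i, m ≤ h i → Q (h i) = q i) ∧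
      (∀ i, h i ≤ m → q i ≤ Q m) := by
    intro t
    induction t with
    | zero =>
      intro m hm
      refine ⟨fun _ => ⟨Qd, hQdprime⟩, ?_, ?_, ?_, ?_⟩
      · intro j hj hjd
        have : j = d := by omega
        rw [this]
        exact hQdcom
      · intro j hj hjd
        omega
      · intro i hi
        have hid : h i = d := le_antisymm (hh i) (by omega)
        symm
        apply heq_of_le (q i) ⟨Qd, hQdprime⟩ ((hqItop i).trans hQdI)
        rw [hcom', hid]
        exact hQdcom.symm
      · intro i _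
        exact (hqItop i).trans hQdI
    | succ t ih =>
      intro m hm
      obtain ⟨Q, hP1, hP2, hP3, hP4⟩ := ih (m + 1) (by omega)
      have hmd : m < d := by omega
      have hQm1 : (Q (m + 1)).asIdeal.comap (algebraMap (MvPolynomial (Fin d) k) A) =
          pp k d (m + 1) := hP1 (m + 1) le_rfl (by omega)
      by_cases hex : ∃ i₀, h i₀ = m
      · obtain ⟨i₀, hi₀⟩ := hex
        refine ⟨Function.update Q m (q i₀), ?_, ?_, ?_, ?_⟩
        · intro j hj hjd
          by_cases hjm : j = m
          · rw [hjm, Function.update_self, hcom', hi₀]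
          · rw [Function.update_of_ne hjm]
            exact hP1 j (by omega) hjd
        · intro j hj hjd
          by_cases hjm : j = m
          · rw [hjm, Function.update_self, Function.update_of_ne (by omega : m + 1 ≠ m)]
            have hle : q i₀ ≤ Q (m + 1) := hP4 i₀ (by omega)
            refine lt_of_le_of_ne hle (fun heq => ?_)
            have h5 := hcom' i₀
            rw [heq, hQm1, hi₀] at h5
            exact pp_ne_succ hmd h5.symm
          · rw [Function.update_of_ne hjm, Function.update_of_ne (by omega : j + 1 ≠ m)]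
            exact hP2 j (by omega) hjd
        · intro i hi
          by_cases him : h i = m
          · have hii : i = i₀ := hhmono.injective (him.trans hi₀.symm)
            rw [him, Function.update_self, hii]
          · rw [Function.update_of_ne him]
            exact hP3 i (by omega)
        · intro i hi
          rw [Function.update_self]
          have hii : i ≤ i₀ := by
            by_contra hcon
            push Not at hcon
            have := hhmono hcon
            omega
          exact hq.monotone hii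
      · push Not at hex
        have hL : ∃ L : PrimeSpectrum A, ∃ a, a ≤ m ∧
            L.asIdeal.comap (algebraMap (MvPolynomial (Fin d) k) A) = pp k d a ∧
            L ≤ Q (m + 1) ∧ ∀ i, h i ≤ m → q i ≤ L := by
          by_cases hne : ∃ i, h i ≤ m
          · have hne' : (Finset.univ.filter (fun i : Fin r => h i ≤ m)).Nonempty := by
              obtain ⟨i, hi⟩ := hne
              exact ⟨i, by simp [hi]⟩
            obtain ⟨i₁, hi₁, hmax⟩ := Finset.exists_max_image _ (fun i : Fin r => i) hne'
            have hi₁' : h i₁ ≤ m := by simpa using hi₁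
            exact ⟨q i₁, h i₁, hi₁', hcom' i₁, hP4 i₁ (by omega),
              fun i hi => hq.monotone (hmax i (by simp [hi]))⟩
          · push Not at hne
            refine ⟨⟨⊥, Ideal.bot_prime⟩, 0, Nat.zero_le _, ?_, ?_,
              fun i hi => absurd hi (not_le.mpr (hne i))⟩
            · rw [pp_zero]
              exact Ideal.comap_bot_of_injective _ hinj'
            · show (⊥ : Ideal A) ≤ (Q (m + 1)).asIdeal
              exact bot_le
        obtain ⟨L, a, ham, hLcom, hLQ, hLq⟩ := hL
        haveI := L.isPrime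
        haveI := (Q (m + 1)).isPrime
        obtain ⟨Q'', hQ''prime, hLQ'', hQ''Q, hQ''com⟩ :=
          step_down L.asIdeal (Q (m + 1)).asIdeal hLQ a m ham hLcom hQm1
        refine ⟨Function.update Q m ⟨Q'', hQ''prime⟩, ?_, ?_, ?_, ?_⟩
        · intro j hj hjd
          by_cases hjm : j = m
          · rw [hjm, Function.update_self]
            exact hQ''com
          · rw [Function.update_of_ne hjm]
            exact hP1 j (by omega) hjd
        · intro j hj hjd
          by_cases hjm : j = m
          · rw [hjm, Function.update_self, Function.update_of_ne (by omega : m + 1 ≠ m)]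
            have hle : (⟨Q'', hQ''prime⟩ : PrimeSpectrum A) ≤ Q (m + 1) := hQ''Q
            refine lt_of_le_of_ne hle (fun heq => ?_)
            have h5 : (⟨Q'', hQ''prime⟩ : PrimeSpectrum A).asIdeal.comap
                (algebraMap (MvPolynomial (Fin d) k) A) = pp k d m := hQ''com
            rw [heq, hQm1] at h5
            exact pp_ne_succ hmd h5.symm
          · rw [Function.update_of_ne hjm, Function.update_of_ne (by omega : j + 1 ≠ m)]
            exact hP2 j (by omega) hjd
        · intro i hi
          have him : h i ≠ m := hex i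
          rw [Function.update_of_ne him]
          exact hP3 i (by omega)
        · intro i hi
          rw [Function.update_self]
          exact (hLq i hi).trans hLQ''
  obtain ⟨Q, hP1, hP2, hP3, -⟩ := key d 0 (by omega)
  exact ⟨Q, fun j hj => hP1 j (Nat.zero_le _) hj, fun j hj => hP2 j (Nat.zero_le _) hj,
    fun i => hP3 i (Nat.zero_le _)⟩

end Groth.Agent.Lib.Helper3.ChainNN
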