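import Mathlib
import Groth.Prelude.Def_W4c4chowquasisplitNorm

set_option autoImplicit false
set_option linter.unusedVariables false
set_option linter.unusedSectionVars false
set_option linter.style.haveILetI false

/-! helper3: CH_0(Spec k) = ℤ via the coefficient at the point; the push-forward along
Spec F ⟶ Spec k multiplies by [F : k]; the norm subgroup of the point relative to K/k is the
subgroup of ℤ generated by the degrees of the finite nontrivial intermediate fields
(S17743, S17744). -/

namespace Groth.Agent.Helper3.ChowPt1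

open AlgebraicGeometry CategoryTheory

universe u

section ResDeg

theorem bijective_ev (R : Type u) [Field R] (y : Spec (CommRingCat.of R)) :
    Function.Bijective ((Scheme.ΓSpecIso (CommRingCat.of R)).inv ≫
      (Spec (CommRingCat.of R)).Γevaluation y).hom := by
  have h : (Scheme.ΓSpecIso (CommRingCat.of R)).inv ≫ (Spec (CommRingCat.of R)).Γevaluation y =
      CommRingCat.ofHom (algebraMap R (y.asIdeal.ResidueField)) ≫
        (Scheme.Spec.residueFieldIso (CommRingCat.of R) y).inv :=
    (Scheme.Spec.algebraMap_residueFieldIso_inv (CommRingCat.of R) y).symm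
  rw [h, CommRingCat.hom_comp, RingHom.coe_comp]
  refine Function.Bijective.comp (ConcreteCategory.bijective_of_isIso _) ?_
  haveI : (y.asIdeal : Ideal R).IsMaximal := IsArtinianRing.isMaximal_of_isPrime _
  exact ⟨(algebraMap R y.asIdeal.ResidueField).injective,
    Ideal.algebraMap_residueField_surjective _⟩

theorem residueDegree_specMap (k F : Type u) [Field k] [Field F] [Algebra k F]
    (x : Spec (CommRingCat.of F)) :
    (Spec.map (CommRingCat.ofHom (algebraMap k F))).residueDegree x = Module.finrank k F := by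
  letI : Algebra ((Spec (CommRingCat.of k)).residueField
      ((Spec.map (CommRingCat.ofHom (algebraMap k F))) x))
      ((Spec (CommRingCat.of F)).residueField x) :=
    ((Spec.map (CommRingCat.ofHom (algebraMap k F))).residueFieldMap x).hom.toAlgebra
  change Module.finrank ((Spec (CommRingCat.of k)).residueField
      ((Spec.map (CommRingCat.ofHom (algebraMap k F))) x))
      ((Spec (CommRingCat.of F)).residueField x) = _
  symm
  refine Algebra.finrank_eq_of_equiv_equiv
    (RingEquiv.ofBijective _ (bijective_ev k ((Spec.map (CommRingCat.ofHom (algebraMap k F))) x)))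
    (RingEquiv.ofBijective _ (bijective_ev F x)) ?_
  have hnat : (Scheme.ΓSpecIso (CommRingCat.of k)).inv ≫
      (Spec (CommRingCat.of k)).Γevaluation ((Spec.map (CommRingCat.ofHom (algebraMap k F))) x) ≫
        (Spec.map (CommRingCat.ofHom (algebraMap k F))).residueFieldMap x
      = CommRingCat.ofHom (algebraMap k F) ≫ (Scheme.ΓSpecIso (CommRingCat.of F)).inv ≫
        (Spec (CommRingCat.of F)).Γevaluation x := by
    rw [Scheme.Γevaluation_naturality, ← Category.assoc, ← Scheme.ΓSpecIso_inv_naturality,
      Category.assoc]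
  ext r
  exact congrArg (fun ψ => ψ.hom r) hnat

end ResDeg

section Deg

variable (k : Type u) [Field k]

theorem map_apply' {X Y : Scheme.{u}} (p : X ⟶ Y) [QuasiCompact p] (δX : X → ℤ) (δY : Y → ℤ)
    (a : AlgebraicCycle X ℤ) (y : Y) :
    AlgebraicCycle.map p δX δY a y =
      ∑ᶠ x ∈ p ⁻¹' {y}, a x * ((AlgebraicCycle.mapCoeff p δX δY x : ℕ) : ℤ) := rfl

theorem mapCoeff_eq' {X Y : Scheme.{u}} (p : X ⟶ Y) (δX : X → ℤ) (δY : Y → ℤ) (x : X) :
    AlgebraicCycle.mapCoeff p δX δY x = if δX x = δY (p x) then p.residueDegree x else 0 := rfl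

/-- the coefficient at the point, on 0-cycles of Spec k -/
noncomputable def evHom :
    ↥(ChowOps.zk (Spec (CommRingCat.of k)) (fun _ => (0 : ℤ)) 0) →+ ℤ where
  toFun a := (a : AlgebraicCycle (Spec (CommRingCat.of k)) ℤ) default
  map_zero' := rfl
  map_add' a b := by
    show ((a : AlgebraicCycle (Spec (CommRingCat.of k)) ℤ) +
      (b : AlgebraicCycle (Spec (CommRingCat.of k)) ℤ)) default = _
    rw [Function.locallyFinsuppWithin.coe_add, Pi.add_apply]

theorem ratTriv_le_ker :
    ChowOps.ratTriv (Spec (CommRingCat.of k)) (fun _ => (0 : ℤ)) 0 ≤ (evHom k).ker := by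
  unfold ChowOps.ratTriv
  rw [AddSubgroup.closure_le]
  rintro a ⟨ι, ξ, f, hδ, -, -, hsum⟩
  haveI : IsEmpty ι := ⟨fun i => by have := hδ i; norm_num at this⟩
  rw [SetLike.mem_coe, AddMonoidHom.mem_ker]
  show (a : AlgebraicCycle (Spec (CommRingCat.of k)) ℤ) default = 0
  rw [hsum default, finsum_of_isEmpty]

/-- the degree isomorphism CH_0(Spec k) ≅ ℤ, as a homomorphism -/
noncomputable def degHom : ChowOps.CH (Spec (CommRingCat.of k)) (fun _ => (0 : ℤ)) 0 →+ ℤ :=
  QuotientAddGroup.lift _ (evHom k) (ratTriv_le_ker k)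

theorem degHom_cl (α : AlgebraicCycle (Spec (CommRingCat.of k)) ℤ)
    (h : α ∈ Cyc.Zk (Spec (CommRingCat.of k)) (fun _ => (0 : ℤ)) 0) :
    degHom k (ChowOps.cl α h) = α default := rfl

theorem degHom_injective : Function.Injective (degHom k) := by
  rw [injective_iff_map_eq_zero]
  intro c hc
  obtain ⟨a, rfl⟩ := QuotientAddGroup.mk_surjective c
  have h0 : (a : AlgebraicCycle (Spec (CommRingCat.of k)) ℤ) default = 0 := hc
  have : a = 0 := by
    apply Subtype.ext
    apply Function.locallyFinsuppWithin.ext
    intro x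
    rw [Subsingleton.elim x default, h0]
    rfl
  rw [this]
  rfl

theorem degHom_surjective : Function.Surjective (degHom k) := by
  classical
  intro n
  refine ⟨ChowOps.cl (Function.locallyFinsuppWithin.single default n) (fun x hx => absurd rfl hx), ?_⟩
  rw [degHom_cl, Function.locallyFinsuppWithin.single_apply, if_pos rfl]

theorem map_specMap_apply (F : Type u) [Field F] [Algebra k F]
    (α : AlgebraicCycle (Spec (CommRingCat.of F)) ℤ) :
    AlgebraicCycle.map (Spec.map (CommRingCat.ofHom (algebraMap k F)))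
      (fun _ => (0 : ℤ)) (fun _ => (0 : ℤ)) α default = α default * (Module.finrank k F : ℤ) := by
  rw [map_apply']
  have hpre : (Spec.map (CommRingCat.ofHom (algebraMap k F))) ⁻¹' {default} = Set.univ := by
    ext x
    simp only [Set.mem_preimage, Set.mem_singleton_iff, Set.mem_univ, iff_true]
    exact Subsingleton.elim _ _
  rw [hpre, finsum_mem_univ, finsum_unique, mapCoeff_eq', if_pos rfl, residueDegree_specMap]

/-- the set of integer multiples of degrees of finite nontrivial intermediate fields -/
def degSet (K : Type u) [Field K] [Algebra k K] : Set ℤ :=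
  {n | ∃ (F : IntermediateField k K), FiniteDimensional k F ∧ F ≠ ⊥ ∧
    ∃ m : ℤ, n = m * (Module.finrank k F : ℤ)}

theorem map_ptNormSubgroup (K : Type u) [Field K] [Algebra k K] :
    (QsChow.ptNormSubgroup k K).map (degHom k) = AddSubgroup.closure (degSet k K) := by
  unfold QsChow.ptNormSubgroup
  rw [AddMonoidHom.map_closure]
  congr 1
  ext n
  constructor
  · rintro ⟨c, ⟨F, hFfin, hFne, α, h, rfl⟩, rfl⟩
    refine ⟨F, hFfin, hFne, α default, ?_⟩
    rw [degHom_cl, map_specMap_apply]
  · rintro ⟨F, hFfin, hFne, m, rfl⟩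
    classical
    refine ⟨ChowOps.cl (AlgebraicCycle.map (Spec.map (CommRingCat.ofHom (algebraMap k F)))
      (fun _ => (0 : ℤ)) (fun _ => (0 : ℤ)) (Function.locallyFinsuppWithin.single default m))
      (fun x hx => absurd rfl hx), ⟨F, hFfin, hFne, _, _, rfl⟩, ?_⟩
    rw [degHom_cl, map_specMap_apply, Function.locallyFinsuppWithin.single_apply, if_pos rfl]

end Deg

section IntLemma

theorem int_subgroup_eq_top (H : AddSubgroup ℤ)
    (h : ∀ q : ℕ, q.Prime → ∃ d : ℕ, (d : ℤ) ∈ H ∧ ¬ q ∣ d) : H = ⊤ := by
  obtain ⟨a, ha⟩ := Int.subgroup_cyclic H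
  rw [← AddSubgroup.zmultiples_eq_closure] at ha
  have hdvd : ∀ d : ℤ, d ∈ H → a ∣ d := fun d hd => by
    rw [ha] at hd
    exact Int.mem_zmultiples_iff.mp hd
  by_cases h1 : a.natAbs = 1
  · rw [eq_top_iff]
    intro n _
    rw [ha, Int.mem_zmultiples_iff]
    exact (Int.isUnit_iff_natAbs_eq.mpr h1).dvd
  · obtain ⟨q, hq, hqa⟩ := Nat.exists_prime_and_dvd h1
    obtain ⟨d, hd, hqd⟩ := h q hq
    exfalso
    apply hqd
    have h2 : a.natAbs ∣ ((d : ℤ)).natAbs := Int.natAbs_dvd_natAbs.mpr (hdvd d hd)
    rw [Int.natAbs_natCast] at h2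
    exact hqa.trans h2

end IntLemma

section Fields

theorem finrank_fixedField (k : Type u) [Field k] (L : Type u) [Field L] [Algebra k L]
    [FiniteDimensional k L] [IsGalois k L] (H : Subgroup (L ≃ₐ[k] L)) :
    Nat.card H * Module.finrank k (IntermediateField.fixedField H) = Module.finrank k L := by
  rw [IntermediateField.finrank_eq_fixingSubgroup_index,
    IntermediateField.fixingSubgroup_fixedField, Subgroup.card_mul_index,
    IsGalois.card_aut_eq_finrank]

theorem exists_field_not_dvd (k K : Type u) [Field k] [Field K] [Algebra k K]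
    (L : IntermediateField k K) [FiniteDimensional k L] [IsGalois k L]
    (hL : ∀ p n : ℕ, p.Prime → Module.finrank k L ≠ p ^ n) (q : ℕ) (hq : q.Prime) :
    ∃ F : IntermediateField k K, FiniteDimensional k F ∧ F ≠ ⊥ ∧ ¬ q ∣ Module.finrank k F := by
  haveI : Fact q.Prime := ⟨hq⟩
  obtain ⟨P⟩ : Nonempty (Sylow q (L ≃ₐ[k] L)) := inferInstance
  obtain ⟨E, hE⟩ : ∃ E : IntermediateField k L,
      E = IntermediateField.fixedField (P : Subgroup (L ≃ₐ[k] L)) := ⟨_, rfl⟩
  have hcard : Nat.card (P : Subgroup (L ≃ₐ[k] L)) * Module.finrank k E = Module.finrank k L := by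
    rw [hE]
    exact finrank_fixedField k L _
  have hidx : Module.finrank k E = (P : Subgroup (L ≃ₐ[k] L)).index := by
    rw [hE, IntermediateField.finrank_eq_fixingSubgroup_index,
      IntermediateField.fixingSubgroup_fixedField]
  have hfr : Module.finrank k (IntermediateField.lift E) = Module.finrank k E :=
    (LinearEquiv.finrank_eq (IntermediateField.liftAlgEquiv E).toLinearEquiv).symm
  refine ⟨IntermediateField.lift E,
    Module.Finite.equiv (IntermediateField.liftAlgEquiv E).toLinearEquiv, ?_, ?_⟩
  · intro hbot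
    have h1 : Module.finrank k (IntermediateField.lift E) = 1 := by
      rw [hbot]
      exact IntermediateField.finrank_bot
    rw [hfr] at h1
    obtain ⟨m, hm⟩ := IsPGroup.iff_card.mp P.2
    rw [h1, mul_one, hm] at hcard
    exact hL q m hq hcard.symm
  · rw [hfr, hidx]
    exact P.not_dvd_index

theorem exists_field_deg_p (k K : Type u) [Field k] [Field K] [Algebra k K]
    (L : IntermediateField k K) [FiniteDimensional k L] [IsGalois k L]
    (p n : ℕ) (hp : p.Prime) (hn : 1 ≤ n) (hL : Module.finrank k L = p ^ n) :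
    ∃ F : IntermediateField k K, FiniteDimensional k F ∧ F ≠ ⊥ ∧ Module.finrank k F = p := by
  haveI : Fact p.Prime := ⟨hp⟩
  have hcardG : Nat.card (L ≃ₐ[k] L) = p ^ n := by
    rw [IsGalois.card_aut_eq_finrank, hL]
  obtain ⟨H, hH⟩ := Sylow.exists_subgroup_card_pow_prime (G := L ≃ₐ[k] L) p (n := n - 1)
    (by rw [hcardG]; exact pow_dvd_pow p (Nat.sub_le n 1))
  obtain ⟨E, hE⟩ : ∃ E : IntermediateField k L, E = IntermediateField.fixedField H := ⟨_, rfl⟩
  have hcard : Nat.card H * Module.finrank k E = Module.finrank k L := by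
    rw [hE]
    exact finrank_fixedField k L _
  have hdeg : Module.finrank k E = p := by
    rw [hH, hL] at hcard
    have h2 : p ^ n = p ^ (n - 1) * p := by rw [← pow_succ, Nat.sub_add_cancel hn]
    rw [h2] at hcard
    exact Nat.eq_of_mul_eq_mul_left (pow_pos hp.pos _) hcard
  have hfr : Module.finrank k (IntermediateField.lift E) = Module.finrank k E :=
    (LinearEquiv.finrank_eq (IntermediateField.liftAlgEquiv E).toLinearEquiv).symm
  refine ⟨IntermediateField.lift E,
    Module.Finite.equiv (IntermediateField.liftAlgEquiv E).toLinearEquiv, ?_, hfr.trans hdeg⟩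
  intro hbot
  have h1 : Module.finrank k (IntermediateField.lift E) = 1 := by
    rw [hbot]
    exact IntermediateField.finrank_bot
  rw [hfr, hdeg] at h1
  exact hp.one_lt.ne' h1

end Fields

section Main

theorem main_S17743 (k : Type u) [Field k] (K : Type u) [Field K] [Algebra k K]
    (L : IntermediateField k K) [FiniteDimensional k L] [IsGalois k L]
    (hL : ∀ p n : ℕ, p.Prime → Module.finrank k L ≠ p ^ n) :
    QsChow.ptNormSubgroup k K = ⊤ := by
  have h1 : (QsChow.ptNormSubgroup k K).map (degHom k) = ⊤ := by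
    rw [map_ptNormSubgroup]
    apply int_subgroup_eq_top
    intro q hq
    obtain ⟨F, hFfin, hFne, hqF⟩ := exists_field_not_dvd k K L hL q hq
    exact ⟨Module.finrank k F,
      AddSubgroup.subset_closure ⟨F, hFfin, hFne, 1, (one_mul _).symm⟩, hqF⟩
  have h2 := AddSubgroup.comap_map_eq_self_of_injective (degHom_injective k)
    (QsChow.ptNormSubgroup k K)
  rw [← h2, h1, AddSubgroup.comap_top]

theorem main_S17744 (k : Type u) [Field k] (K : Type u) [Field K] [Algebra k K]
    (L : IntermediateField k K) [FiniteDimensional k L] [IsGalois k L]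
    (p n : ℕ) (hp : p.Prime) (hn : 1 ≤ n) (hL : Module.finrank k L = p ^ n)
    (hF : ∀ F : IntermediateField k K, FiniteDimensional k F →
      ∃ e : ℕ, Module.finrank k F = p ^ e) :
    (QsChow.ptNormSubgroup k K).index = p := by
  rw [← AddSubgroup.index_map_of_bijective ⟨degHom_injective k, degHom_surjective k⟩,
    map_ptNormSubgroup]
  have hcl : AddSubgroup.closure (degSet k K) = AddSubgroup.zmultiples (p : ℤ) := by
    apply le_antisymm
    · rw [AddSubgroup.closure_le]
      rintro n ⟨F, hFfin, hFne, m, rfl⟩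
      rw [SetLike.mem_coe, Int.mem_zmultiples_iff]
      obtain ⟨e, he⟩ := hF F hFfin
      have he1 : e ≠ 0 := by
        rintro rfl
        rw [pow_zero] at he
        exact hFne (IntermediateField.finrank_eq_one_iff.mp he)
      rw [he]
      apply Dvd.dvd.mul_left
      exact_mod_cast dvd_pow_self p he1
    · rw [AddSubgroup.zmultiples_le]
      obtain ⟨F, hFfin, hFne, hdeg⟩ := exists_field_deg_p k K L p n hp hn hL
      exact AddSubgroup.subset_closure ⟨F, hFfin, hFne, 1, by rw [hdeg, one_mul]⟩
  rw [hcl, Int.index_zmultiples, Int.natAbs_natCast]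

end Main

end Groth.Agent.Helper3.ChowPt1
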