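import Mathlib
import Groth.Prelude.Def_W4c4chowquasisplitNorm
import Groth.Agent.Lib.Helper3.ChowPt1

set_option autoImplicit false
set_option linter.unusedVariables false
set_option linter.unusedSectionVars false
set_option linter.style.haveILetI false

/-! helper3: push-forward of cycles along a section followed by the projection is the identity;
the norm subgroup of CH_j(X) relative to K/k is everything when X is an F-scheme for a finite
nontrivial intermediate field F (S17745). -/

namespace Groth.Agent.Helper3.ChowPt2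

open AlgebraicGeometry CategoryTheory CategoryTheory.Limits

universe u

theorem residueDegree_comp' {X Y Z : Scheme.{u}} (f : X ⟶ Y) (g : Y ⟶ Z) (x : X) :
    (f ≫ g).residueDegree x = g.residueDegree (f x) * f.residueDegree x := by
  letI a1 : Algebra (Z.residueField (g (f x))) (Y.residueField (f x)) :=
    (g.residueFieldMap (f x)).hom.toAlgebra
  letI a2 : Algebra (Y.residueField (f x)) (X.residueField x) :=
    (f.residueFieldMap x).hom.toAlgebra
  letI a3 : Algebra (Z.residueField (g (f x))) (X.residueField x) :=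
    ((f ≫ g).residueFieldMap x).hom.toAlgebra
  haveI : IsScalarTower (Z.residueField (g (f x))) (Y.residueField (f x)) (X.residueField x) := by
    apply IsScalarTower.of_algebraMap_eq
    intro a
    change ((f ≫ g).residueFieldMap x).hom a =
      (f.residueFieldMap x).hom ((g.residueFieldMap (f x)).hom a)
    rw [Scheme.residueFieldMap_comp]
    rfl
  exact (Module.finrank_mul_finrank (Z.residueField (g (f x))) (Y.residueField (f x))
    (X.residueField x)).symm

theorem residueDegree_section {X P : Scheme.{u}} (s : X ⟶ P) (π : P ⟶ X) (h : s ≫ π = 𝟙 X)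
    (x : X) : s.residueDegree x = 1 ∧ π.residueDegree (s x) = 1 := by
  have h1 := residueDegree_comp' s π x
  rw [h, Scheme.Hom.residueDegree_id] at h1
  exact ⟨Nat.dvd_one.mp (Dvd.intro_left _ h1.symm), Nat.dvd_one.mp (Dvd.intro _ h1.symm)⟩

theorem map_mem_Zk {X Y : Scheme.{u}} (p : X ⟶ Y) [QuasiCompact p] (δX : X → ℤ) (δY : Y → ℤ)
    (k : ℤ) (a : AlgebraicCycle X ℤ) (ha : a ∈ Cyc.Zk X δX k) :
    AlgebraicCycle.map p δX δY a ∈ Cyc.Zk Y δY k := by
  intro y hy
  rw [ChowPt1.map_apply']
  apply finsum_mem_eq_zero_of_forall_eq_zero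
  intro x hx
  have hx' : p x = y := hx
  by_cases h1 : δX x = k
  · have h2 : AlgebraicCycle.mapCoeff p δX δY x = 0 := by
      rw [ChowPt1.mapCoeff_eq', if_neg]
      rw [hx', h1]
      exact fun h => hy h.symm
    rw [h2, Nat.cast_zero, mul_zero]
  · rw [ha x h1, zero_mul]

theorem map_map_section {X P : Scheme.{u}} (s : X ⟶ P) (π : P ⟶ X) [QuasiCompact s]
    [QuasiCompact π] (h : s ≫ π = 𝟙 X) (δ : X → ℤ) (β : AlgebraicCycle X ℤ) :
    AlgebraicCycle.map π (δ ∘ ⇑π.base) δ (AlgebraicCycle.map s δ (δ ∘ ⇑π.base) β) = β := by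
  have hπs : ∀ x : X, π (s x) = x := fun x => by
    have h1 : (s ≫ π) x = (𝟙 X : X ⟶ X) x := by rw [h]
    simpa using h1
  apply Function.locallyFinsuppWithin.ext
  intro x
  rw [ChowPt1.map_apply', finsum_mem_def]
  rw [finsum_eq_single _ (s x)]
  · rw [Set.indicator_of_mem (show s x ∈ π ⁻¹' {x} from hπs x), ChowPt1.map_apply']
    have hpre : s ⁻¹' {s x} = {x} := by
      ext z
      constructor
      · intro hz
        have h1 : s z = s x := hz
        have h2 := congrArg (fun y => π y) h1
        simp only [hπs] at h2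
        exact h2
      · rintro rfl
        rfl
    have c1 : AlgebraicCycle.mapCoeff s δ (δ ∘ ⇑π.base) x = 1 := by
      rw [ChowPt1.mapCoeff_eq', if_pos, (residueDegree_section s π h x).1]
      show δ x = δ (π (s x))
      rw [hπs]
    have c2 : AlgebraicCycle.mapCoeff π (δ ∘ ⇑π.base) δ (s x) = 1 := by
      rw [ChowPt1.mapCoeff_eq', if_pos (show (δ ∘ ⇑π.base) (s x) = δ (π (s x)) from rfl),
        (residueDegree_section s π h x).2]
    rw [hpre, finsum_mem_singleton, c1, c2]
    simp
  · intro y hy
    by_cases hyx : y ∈ π ⁻¹' {x}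
    · rw [Set.indicator_of_mem hyx, ChowPt1.map_apply']
      have hpre : s ⁻¹' {y} = ∅ := by
        ext z
        simp only [Set.mem_preimage, Set.mem_singleton_iff, Set.mem_empty_iff_false, iff_false]
        intro hz
        apply hy
        have h1 : π y = x := hyx
        rw [← hz, hπs] at h1
        rw [← hz, h1]
      rw [hpre, finsum_mem_empty, zero_mul]
    · rw [Set.indicator_of_notMem hyx]

theorem main_S17745 (k : Type u) [Field k] (K : Type u) [Field K] [Algebra k K]
    (F : IntermediateField k K) [FiniteDimensional k F] (hF : F ≠ ⊥)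
    (X : Scheme.{u}) [X.Over (Spec (CommRingCat.of k))] (g : X ⟶ Spec (CommRingCat.of F))
    (hg : g ≫ Spec.map (CommRingCat.ofHom (algebraMap k F)) = X ↘ Spec (CommRingCat.of k))
    (δ : X → ℤ) (j : ℤ) :
    QsChow.normSubgroup k K X δ j = ⊤ := by
  rw [eq_top_iff]
  intro c _
  obtain ⟨⟨β, hβ⟩, rfl⟩ := QuotientAddGroup.mk_surjective c
  apply AddSubgroup.subset_closure
  let s : X ⟶ Curv2.bc k X F := pullback.lift (𝟙 X) g (by rw [Category.id_comp, hg])
  have hs : s ≫ Curv2.bcFst k X F = 𝟙 X := pullback.lift_fst _ _ _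
  haveI : IsClosedImmersion (s ≫ Curv2.bcFst k X F) := by rw [hs]; infer_instance
  haveI : IsClosedImmersion s := IsClosedImmersion.of_comp s (Curv2.bcFst k X F)
  have hkey := map_map_section s (Curv2.bcFst k X F) hs δ β
  have gen : ∀ (γ : AlgebraicCycle X ℤ) (hγ : γ ∈ Cyc.Zk X δ j), γ = β →
      ((QuotientAddGroup.mk ⟨β, hβ⟩ : ChowOps.CH X δ j)) = ChowOps.cl γ hγ := by
    rintro γ hγ rfl
    rfl
  exact ⟨F, inferInstance, hF, AlgebraicCycle.map s δ (δ ∘ ⇑(Curv2.bcFst k X F).base) β,
    map_mem_Zk s _ _ j β hβ, by rw [hkey]; exact hβ, gen _ _ hkey⟩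

end Groth.Agent.Helper3.ChowPt2
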