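import Mathlib
import Groth.Prelude.Def_W4c4chowquasisplitNorm
import Groth.Agent.Lib.Helper3.ChowPt2
import Groth.Agent.Lib.Helper7.GeomConn.GaloisBC

set_option autoImplicit false
set_option linter.unusedVariables false
set_option linter.unusedSectionVars false
set_option linter.style.haveILetI false
set_option backward.isDefEq.respectTransparency.types false

/-! helper3: a connected k-scheme whose base change to a finite Galois extension L/k is
disconnected maps to Spec F for a nontrivial intermediate field F of L/k (positive version of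
helper7's `idempotent_trivial_of_max`); consequence for norm subgroups of Chow groups (S17746). -/

open scoped Classical

namespace Groth.Agent.Helper3.ChowPt3

open CategoryTheory AlgebraicGeometry CategoryTheory.Limits Groth.Agent.Helper7.GeomConn

universe u

section Alg

variable {L E : Type u} [Field L] [Field E] [Algebra L E] [FiniteDimensional L E] [IsGalois L E]
  {A B : Type u} [CommRing A] [CommRing B]

theorem exists_fixedField_hom_of_idem
    (α : A →+* B) (hα : Function.Injective α) (β : E →+* B) (ι : L →+* A)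
    (hιβ : ∀ c : L, α (ι c) = β (algebraMap L E c))
    (ρ : (E ≃ₐ[L] E) →* (B →+* B))
    (hβ : ∀ (σ : E ≃ₐ[L] E) (c : E), ρ σ (β c) = β (σ c))
    (hρα : ∀ (σ : E ≃ₐ[L] E) (a : A), ρ σ (α a) = α a)
    (hinvB : ∀ b : B, (∀ σ, ρ σ b = b) → ∃ a : A, α a = b)
    (hA : ∀ a : A, IsIdempotentElem a → a = 0 ∨ a = 1)
    (e : B) (he : IsIdempotentElem e) (he0 : e ≠ 0) (he1 : e ≠ 1) :
    ∃ F : IntermediateField L E, F ≠ ⊥ ∧
      ∃ ψ : ↥F →+* A, ∀ c : L, ψ (algebraMap L _ c) = ι c := by
  have hinv : ∀ e : B, IsIdempotentElem e → (∀ σ, ρ σ e = e) → e = 0 ∨ e = 1 := by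
    intro b hb hσ
    obtain ⟨a, rfl⟩ := hinvB b hσ
    have ha : IsIdempotentElem a := by
      apply hα
      rw [map_mul]; exact hb
    rcases hA a ha with h | h
    · left; rw [h, map_zero]
    · right; rw [h, map_one]
  obtain ⟨H, f, hf, hf0, hfe, hfH, hfnH, hsum⟩ := exists_subgroup_idem ρ hinv e he he0
  obtain ⟨φ, hφinv, hφL⟩ := exists_ringHom_fixedField β ρ hβ H f hf hfH hfnH hsum
  have hex : ∀ c : ↥(IntermediateField.fixedField H), ∃ a : A, α a = φ c :=
    fun c => hinvB (φ c) (hφinv c)
  let ψ₀ : ↥(IntermediateField.fixedField H) → A := fun c => (hex c).choose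
  have hψ₀ : ∀ c, α (ψ₀ c) = φ c := fun c => (hex c).choose_spec
  let ψ : ↥(IntermediateField.fixedField H) →+* A :=
    { toFun := ψ₀
      map_one' := hα (by rw [hψ₀, map_one, map_one])
      map_mul' := fun c d => hα (by rw [hψ₀, map_mul, map_mul, hψ₀, hψ₀])
      map_zero' := hα (by rw [hψ₀, map_zero, map_zero])
      map_add' := fun c d => hα (by rw [hψ₀, map_add, map_add, hψ₀, hψ₀]) }
  have hψL : ∀ c : L, ψ (algebraMap L ↥(IntermediateField.fixedField H) c) = ι c := by
    intro c
    apply hα
    show α (ψ₀ (algebraMap L ↥(IntermediateField.fixedField H) c)) = α (ι c)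
    rw [hψ₀, hφL, hιβ]
  refine ⟨IntermediateField.fixedField H, ?_, ψ, hψL⟩
  intro hFbot
  have hHtop : H = ⊤ := by
    have h1 := IntermediateField.fixingSubgroup_fixedField H
    rw [hFbot] at h1
    rw [← h1]
    exact IntermediateField.fixingSubgroup_bot
  have hfinv : ∀ σ, ρ σ f = f := fun σ => hfH σ (by rw [hHtop]; trivial)
  have hf1 : f = 1 := (hinv f hf hfinv).resolve_left hf0
  rw [hf1, one_mul] at hfe
  exact he1 hfe

end Alg

section Sch

variable {L E : Type u} [Field L] [Field E] [Algebra L E] [FiniteDimensional L E] [IsGalois L E]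
  {X : Scheme.{u}} (g : X ⟶ Spec (CommRingCat.of L))

theorem exists_fixedField_hom_of_not_connected [ConnectedSpace X]
    (h : ¬ ConnectedSpace ↥(pullback g (sE L E))) :
    ∃ F : IntermediateField L E, F ≠ ⊥ ∧
      ∃ ψ : ↥F →+* Γ(X, ⊤), ∀ c : L, ψ (algebraMap L _ c) = (ιT g).hom c := by
  haveI : Nonempty ↥(pullback g (sE L E)) := by
    obtain ⟨x⟩ : Nonempty X := inferInstance
    obtain ⟨y, -⟩ := (pullback.fst g (sE L E)).surjective x
    exact ⟨y⟩
  have hex : ∃ e : Γ(pullback g (sE L E), ⊤), IsIdempotentElem e ∧ e ≠ 0 ∧ e ≠ 1 := by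
    by_contra hne
    apply h
    apply connectedSpace_of_idempotent_trivial
    intro e he
    by_cases he0 : e = 0
    · exact Or.inl he0
    · right
      by_contra he1
      exact hne ⟨e, he, he0, he1⟩
  obtain ⟨e, he, he0, he1⟩ := hex
  refine exists_fixedField_hom_of_idem (L := L) (E := E) (pullback.fst g (sE L E)).appTop.hom
    (appTop_injective g) (βT g).hom (ιT g).hom ?_ (ρ g) ?_ ?_ (exists_of_invariant g)
    (idempotent_trivial_of_connected X) e he he0 he1
  · intro c
    have := ιT_appTop (E := E) g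
    exact congrArg (fun φ => φ.hom c) this
  · intro σ c
    have := βT_act g σ
    exact congrArg (fun φ => φ.hom c) this
  · intro σ a
    have := fst_act_appTop g σ
    exact congrArg (fun φ => φ.hom a) this

end Sch

section Main

theorem exists_hom_to_spec_intermediate (k : Type u) [Field k] (K : Type u) [Field K] [Algebra k K]
    (L : IntermediateField k K) [FiniteDimensional k L] [IsGalois k L]
    (X : Scheme.{u}) [X.Over (Spec (CommRingCat.of k))]
    [ConnectedSpace X] (hdisc : ¬ ConnectedSpace ↥(Curv2.bc k X L)) :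
    ∃ (F : IntermediateField k K) (_ : FiniteDimensional k F) (_ : F ≠ ⊥)
      (gF : X ⟶ Spec (CommRingCat.of F)),
      gF ≫ Spec.map (CommRingCat.ofHom (algebraMap k F)) = X ↘ Spec (CommRingCat.of k) := by
  obtain ⟨F₀, hF₀ne, ψ, hψ⟩ := exists_fixedField_hom_of_not_connected (L := k) (E := ↥L)
    (X ↘ Spec (CommRingCat.of k)) hdisc
  have hfr : Module.finrank k (IntermediateField.lift F₀) = Module.finrank k F₀ :=
    (LinearEquiv.finrank_eq (IntermediateField.liftAlgEquiv F₀).toLinearEquiv).symm
  have hFne : IntermediateField.lift F₀ ≠ ⊥ := by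
    intro hbot
    have h1 : Module.finrank k (IntermediateField.lift F₀) = 1 := by
      rw [hbot]
      exact IntermediateField.finrank_bot
    rw [hfr] at h1
    exact hF₀ne (IntermediateField.finrank_eq_one_iff.mp h1)
  have hfin : FiniteDimensional k (IntermediateField.lift F₀) :=
    Module.Finite.equiv (IntermediateField.liftAlgEquiv F₀).toLinearEquiv
  let ψ' : ↥(IntermediateField.lift F₀) →+* Γ(X, ⊤) :=
    ψ.comp (IntermediateField.liftAlgEquiv F₀).symm.toAlgHom.toRingHom
  refine ⟨IntermediateField.lift F₀, hfin, hFne,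
    X.toSpecΓ ≫ Spec.map (CommRingCat.ofHom ψ'), ?_⟩
  have h1 : CommRingCat.ofHom (algebraMap k ↥(IntermediateField.lift F₀)) ≫ CommRingCat.ofHom ψ' =
      ιT (X ↘ Spec (CommRingCat.of k)) := by
    refine CommRingCat.hom_ext (RingHom.ext fun c => ?_)
    show ψ ((IntermediateField.liftAlgEquiv F₀).symm (algebraMap k _ c)) = _
    rw [AlgEquiv.commutes, hψ]
  rw [Category.assoc, ← Spec.map_comp, h1]
  unfold ιT
  rw [Spec.map_comp, ← Scheme.toSpecΓ_naturality_assoc, toSpecΓ_SpecMap_ΓSpecIso_inv,
    Category.comp_id]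

theorem main_S17746 (k : Type u) [Field k] (K : Type u) [Field K] [Algebra k K]
    (L : IntermediateField k K) [FiniteDimensional k L] [IsGalois k L]
    (X : Scheme.{u}) [X.Over (Spec (CommRingCat.of k))]
    [ConnectedSpace X] (hdisc : ¬ ConnectedSpace ↥(Curv2.bc k X L))
    (δ : X → ℤ) (j : ℤ) :
    QsChow.normSubgroup k K X δ j = ⊤ := by
  obtain ⟨F, hfin, hFne, gF, hgF⟩ := exists_hom_to_spec_intermediate k K L X hdisc
  exact ChowPt2.main_S17745 k K F hFne X gF hgF δ j

end Main

end Groth.Agent.Helper3.ChowPt3
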