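import Mathlib
import Groth.Prelude.Def_W4c4chowquasisplitNorm
import Groth.Prelude.Def_Pi1
import Groth.Agent.Lib.Helper3.ChowPt3
import Groth.Agent.Lib.Helper6.Normal.Pointwise
import Groth.Agent.Lib.Helper6.Normal.Etale
import Groth.Agent.Lib.Helper6.Normal.GeomRed
import Groth.Agent.Lib.Helper1.Conn1

set_option autoImplicit false
set_option linter.unusedVariables false
set_option linter.unusedSectionVars false
set_option linter.style.haveILetI false
set_option backward.isDefEq.respectTransparency.types false

/-! helper3: an irreducible normal k-variety whose base change to a finite Galois extension L/k is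
not irreducible has its structure morphism factoring through Spec F for a nontrivial intermediate
field F of L/k (S17738). -/

namespace Groth.Agent.Helper3.ChowPt4

open CategoryTheory AlgebraicGeometry CategoryTheory.Limits TensorProduct
open Groth.Agent.Helper7.GeomConn Groth.Agent.Lib.Helper6.Normal

universe u

attribute [local instance] Curv2.stalkAlgebra

theorem stalks_isDomain_bc (k : Type u) [Field k] (X : Scheme.{u})
    [X.Over (Spec (CommRingCat.of k))] (hX : Pi1.IsNormalScheme X)
    (L : Type u) [Field L] [Algebra k L] [FiniteDimensional k L] [Algebra.IsSeparable k L]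
    (x' : ↥(Curv2.bc k X L)) : IsDomain ((Curv2.bc k X L).presheaf.stalk x') := by
  obtain ⟨hd, hic⟩ := hX (Curv2.bcFst k X L x')
  haveI := hd
  haveI := hic
  haveI : Algebra.FormallyEtale k L := Algebra.FormallyEtale.of_isSeparable k L
  haveI : Algebra.FinitePresentation k L := Algebra.FinitePresentation.of_finiteType.mp inferInstance
  haveI : Algebra.Etale k L := {}
  have h1 : EGA4.IsNormalRing (↥(X.presheaf.stalk (Curv2.bcFst k X L x')) ⊗[k] L) :=
    isNormalRing_of_etale (X.presheaf.stalk (Curv2.bcFst k X L x'))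
      (↥(X.presheaf.stalk (Curv2.bcFst k X L x')) ⊗[k] L)
  have h2 : EGA4.IsNormalRing (L ⊗[k] ↥(X.presheaf.stalk (Curv2.bcFst k X L x'))) :=
    isNormalRing_of_ringEquiv (Algebra.TensorProduct.comm k _ L).toRingEquiv h1
  exact (stalk_normal_of_isNormalRing_tensor k X (Curv2.bcFst k X L x') L h2 x' rfl).1

theorem main_S17738 (k : Type u) [Field k] (X : Scheme.{u}) [X.Over (Spec (CommRingCat.of k))]
    [IrreducibleSpace X] (hX : Pi1.IsNormalScheme X)
    [LocallyOfFiniteType (X ↘ Spec (CommRingCat.of k))]
    [QuasiCompact (X ↘ Spec (CommRingCat.of k))]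
    (L : Type u) [Field L] [Algebra k L] [FiniteDimensional k L] [IsGalois k L]
    (hred : ¬ IrreducibleSpace ↥(Curv2.bc k X L)) :
    ∃ F : IntermediateField k L, F ≠ ⊥ ∧
      ∃ g : X ⟶ Spec (CommRingCat.of F),
        g ≫ Spec.map (CommRingCat.ofHom (algebraMap k F)) = X ↘ Spec (CommRingCat.of k) := by
  have hdisc : ¬ ConnectedSpace ↥(Curv2.bc k X L) := by
    intro hconn
    apply hred
    haveI : IsLocallyNoetherian (Curv2.bc k X L) :=
      LocallyOfFiniteType.isLocallyNoetherian (Curv2.bcSnd k X L)
    haveI : CompactSpace ↥(Curv2.bc k X L) := inferInstance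
    haveI : IsNoetherian (Curv2.bc k X L) := {}
    exact Groth.Agent.Helper1.Conn1.irreducibleSpace_of_connected _
      (fun x' => stalks_isDomain_bc k X hX L x')
  haveI : ConnectedSpace X := inferInstance
  obtain ⟨F₀, hF₀ne, ψ, hψ⟩ := ChowPt3.exists_fixedField_hom_of_not_connected (L := k) (E := L)
    (X ↘ Spec (CommRingCat.of k)) hdisc
  refine ⟨F₀, hF₀ne, X.toSpecΓ ≫ Spec.map (CommRingCat.ofHom ψ), ?_⟩
  have h1 : CommRingCat.ofHom (algebraMap k ↥F₀) ≫ CommRingCat.ofHom ψ =
      ιT (X ↘ Spec (CommRingCat.of k)) := by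
    refine CommRingCat.hom_ext (RingHom.ext fun c => ?_)
    exact hψ c
  rw [Category.assoc, ← Spec.map_comp, h1]
  unfold ιT
  rw [Spec.map_comp, ← Scheme.toSpecΓ_naturality_assoc, toSpecΓ_SpecMap_ΓSpecIso_inv,
    Category.comp_id]

end Groth.Agent.Helper3.ChowPt4
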