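import Mathlib
import Groth.Prelude.Def_CohTop

set_option autoImplicit false
universe u
open CategoryTheory Limits Opposite TopologicalSpace

namespace Groth.Agent.Helper3.CoarseTop

variable {X : TopCat.{u}} {ι : Type u} (U : ι → Opens X)

/-- the union of the family -/
abbrev W : Opens X := iSup U

/-- the points of the union, to be given the topology generated by the `U i` -/
def Pt' : Type u := ↥(W U)

/-- the subbasis -/
def gen : Set (Set ↥(W U)) := Set.range fun i => ((Subtype.val : ↥(W U) → X) ⁻¹' (U i : Set X))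

instance : TopologicalSpace (Pt' U) := TopologicalSpace.generateFrom (gen U)

/-- the union with the coarse topology -/
def X' : TopCat.{u} := TopCat.of (Pt' U)

/-- the identity map, from the subspace topology to the coarse topology -/
def g : TopCat.of ↥(W U) ⟶ X' U :=
  TopCat.ofHom ⟨fun x => (x : Pt' U), by
    refine continuous_generateFrom_iff.2 ?_
    rintro s ⟨i, rfl⟩
    exact (U i).isOpen.preimage continuous_subtype_val⟩

lemma forall_append {α : Type*} (P : α → Prop) {m n N : ℕ} (h : N = m + n) (f : Fin m → α)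
    (f' : Fin n → α) :
    (∀ j : Fin N, P (Fin.append f f' (Fin.cast h j))) ↔ (∀ i, P (f i)) ∧ (∀ i, P (f' i)) := by
  subst h
  constructor
  · intro H
    exact ⟨fun i => by simpa using H (Fin.castAdd n i), fun i => by simpa using H (Fin.natAdd m i)⟩
  · rintro ⟨H1, H2⟩ j
    refine Fin.addCases (fun i => ?_) (fun i => ?_) j
    · simpa using H1 i
    · simpa using H2 i

/-- every open of the coarse topology is a union of finite intersections of the `U i` -/
lemma repr_set (s : Set ↥(W U)) (hs : TopologicalSpace.GenerateOpen (gen U) s) :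
    ∃ (κ : Type u) (a : κ → Σ p : ℕ, Fin (p + 1) → ι),
      (Subtype.val : ↥(W U) → X) '' s = ⋃ k, ⋂ j, (U ((a k).2 j) : Set X) := by
  induction hs with
  | basic s hs =>
    obtain ⟨i, rfl⟩ := hs
    refine ⟨PUnit.{u + 1}, fun _ => ⟨0, fun _ => i⟩, ?_⟩
    dsimp only
    rw [Set.image_preimage_eq_inter_range, Subtype.range_coe_subtype]
    simp only [Set.iUnion_const, Set.iInter_const]
    refine Set.inter_eq_left.2 ?_
    exact fun x hx => Opens.mem_iSup.2 ⟨i, hx⟩
  | univ =>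
    refine ⟨ι, fun i => ⟨0, fun _ => i⟩, ?_⟩
    rw [Set.image_univ, Subtype.range_coe_subtype]
    simp only [Set.iInter_const]
    exact Opens.coe_iSup _
  | inter s t hs ht ihs iht =>
    obtain ⟨κ₁, a₁, h₁⟩ := ihs
    obtain ⟨κ₂, a₂, h₂⟩ := iht
    refine ⟨κ₁ × κ₂, fun k => ⟨(a₁ k.1).1 + (a₂ k.2).1 + 1,
      fun j => Fin.append (a₁ k.1).2 (a₂ k.2).2 (Fin.cast (by omega) j)⟩, ?_⟩
    rw [Set.image_inter Subtype.val_injective, h₁, h₂]
    ext x
    simp only [Set.mem_inter_iff, Set.mem_iUnion, Set.mem_iInter, SetLike.mem_coe]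
    constructor
    · rintro ⟨⟨k₁, hk₁⟩, ⟨k₂, hk₂⟩⟩
      refine ⟨(k₁, k₂), ?_⟩
      exact (forall_append (fun i => x ∈ U i) _ _ _).2 ⟨hk₁, hk₂⟩
    · rintro ⟨k, hk⟩
      obtain ⟨H1, H2⟩ := (forall_append (fun i => x ∈ U i) _ _ _).1 hk
      exact ⟨⟨k.1, H1⟩, ⟨k.2, H2⟩⟩
  | sUnion S hS ih =>
    choose κ a h using ih
    refine ⟨Σ s : S, κ s.1 s.2, fun k => a k.1.1 k.1.2 k.2, ?_⟩
    rw [Set.sUnion_eq_iUnion, Set.image_iUnion, Set.iUnion_sigma]
    exact Set.iUnion_congr fun s => h s.1 s.2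

/-- the inclusion of the coarse opens into the opens of `X` -/
noncomputable def Φ : Opens (X' U) ⥤ Opens X :=
  Opens.map (g U) ⋙ (W U).isOpenEmbedding.isOpenMap.functor

lemma coe_Φ (V : Opens (X' U)) :
    ((Φ U).obj V : Set X) = (Subtype.val : ↥(W U) → X) '' V.carrier := rfl

lemma Φ_top : (Φ U).obj ⊤ = W U := by
  apply Opens.ext
  rw [coe_Φ]
  change Subtype.val '' (Set.univ : Set ↥(W U)) = _
  rw [Set.image_univ, Subtype.range_coe_subtype]
  rfl

lemma Φ_repr (V : Opens (X' U)) :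
    ∃ (κ : Type u) (a : κ → Σ p : ℕ, Fin (p + 1) → ι),
      (Φ U).obj V = ⨆ k, ⨅ j, U ((a k).2 j) := by
  obtain ⟨κ, a, h⟩ := repr_set U V.carrier V.isOpen
  refine ⟨κ, a, Opens.ext ?_⟩
  rw [coe_Φ, h, Opens.coe_iSup]
  exact Set.iUnion_congr fun k => (Opens.coe_iInf _).symm

/-- the family of coarse opens -/
def U' (i : ι) : Opens (X' U) :=
  ⟨(Subtype.val : ↥(W U) → X) ⁻¹' (U i : Set X), TopologicalSpace.GenerateOpen.basic _ ⟨i, rfl⟩⟩

/-- the restriction of an abelian sheaf to the coarse topology -/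
noncomputable def F' (F : CohTop.Ab X) : CohTop.Ab (X' U) :=
  (CohTop.push (g U)).obj (CohTop.restr F (W U))

lemma F'_obj (F : CohTop.Ab X) : (F' U F).obj = (Φ U).op ⋙ F.obj := rfl

section flasque

variable (F : CohTop.Ab X)
  (h : ∀ (κ : Type u) (a : κ → Σ p : ℕ, Fin (p + 1) → ι),
      Function.Surjective (F.obj.map (homOfLE
        (iSup_le fun k => (iInf_le _ ⟨0, Nat.succ_pos _⟩).trans (le_iSup U ((a k).2 ⟨0, Nat.succ_pos _⟩)) :
          (⨆ k, ⨅ j, U ((a k).2 j)) ≤ iSup U)).op))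

include h in
lemma surj_transport (A B : Opens X) (f : B ⟶ A) (hA : A = iSup U)
    (κ : Type u) (a : κ → Σ p : ℕ, Fin (p + 1) → ι) (hB : B = ⨆ k, ⨅ j, U ((a k).2 j)) :
    Function.Surjective (F.obj.map f.op) := by
  subst hA hB
  exact h κ a

include h in
lemma isFlasque_F' : TopCat.Sheaf.IsFlasque (F' U F) := by
  constructor
  intro V₁ V₂ i
  rw [AddCommGrpCat.epi_iff_surjective]
  have ht : Function.Surjective ((F' U F).obj.map ((homOfLE le_top : V₁.unop ⟶ ⊤).op ≫ i)) := by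
    obtain ⟨κ, a, hκ⟩ := Φ_repr U V₂.unop
    exact surj_transport U F h _ _ ((Φ U).map ((homOfLE le_top : V₁.unop ⟶ ⊤).op ≫ i).unop)
      (Φ_top U) κ a hκ
  rw [Functor.map_comp] at ht
  exact Function.Surjective.of_comp ht

end flasque

/-- comparison of finite intersections -/
noncomputable def c (n : SimplexCategory) (a : ToType n → ι) :
    (Φ U).obj (∏ᶜ fun k => U' U (a k)) ≅ ∏ᶜ fun k => U (a k) where
  hom := Pi.lift (fun k => homOfLE (by
    have h1 : (∏ᶜ fun k => U' U (a k)) ≤ U' U (a k) := (Pi.π (fun k => U' U (a k)) k).le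
    intro x hx
    obtain ⟨y, hy, rfl⟩ := hx
    exact h1 hy))
  inv := homOfLE (by
    intro x hx
    have hk : ∀ k, x ∈ U (a k) := fun k => (Pi.π (fun k => U (a k)) k).le hx
    have hW : x ∈ W U := Opens.mem_iSup.2 ⟨a (0 : Fin (n.len + 1)), hk _⟩
    have h2 : (⨅ k, U' U (a k)) ≤ ∏ᶜ fun k => U' U (a k) :=
      (Pi.lift (fun k => homOfLE (iInf_le _ k))).le
    refine ⟨⟨x, hW⟩, h2 ?_, rfl⟩
    rw [← SetLike.mem_coe, Opens.coe_iInf]
    simp only [Set.mem_iInter]
    exact hk)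
  hom_inv_id := Subsingleton.elim _ _
  inv_hom_id := Subsingleton.elim _ _

end Groth.Agent.Helper3.CoarseTop
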