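import Mathlib

/-!
# Morphisms from a single object to a K-injective complex in the derived category

For a K-injective complex `L`, an object `P` and `n : ℤ`, the morphisms
`Q (P[0]) ⟶ (Q L)⟦n⟧` are the classes of cycles `z : P ⟶ L.X n`, and the class of `z` vanishes
iff `z` is a boundary.
-/

universe w v u

open CategoryTheory Limits DerivedCategory CochainComplex.HomComplex

namespace Groth.Agent.Helper3.KPush

variable {A : Type u} [Category.{v} A] [Abelian A] [HasDerivedCategory.{w} A]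

/-- the morphism in the derived category attached to a cocycle -/
noncomputable def rho {K L : CochainComplex A ℤ} {n : ℤ} (x : Cocycle K L n) :
    Q.obj K ⟶ (Q.obj L)⟦n⟧ :=
  Q.map (Cocycle.equivHomShift.symm x) ≫ (Q.commShiftIso n).hom.app L

lemma rho_add {K L : CochainComplex A ℤ} {n : ℤ} (x y : Cocycle K L n) :
    rho (x + y) = rho x + rho y := by
  unfold rho
  rw [map_add, Functor.map_add, Preadditive.add_comp]

lemma rho_precomp {K K' L : CochainComplex A ℤ} {n : ℤ} (x : Cocycle K L n) (g : K' ⟶ K) :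
    rho (x.precomp g) = Q.map g ≫ rho x := by
  unfold rho
  rw [Cocycle.equivHomShift_symm_precomp, Functor.map_comp, Category.assoc]

lemma rho_surjective {K L : CochainComplex A ℤ} [L.IsKInjective] {n : ℤ}
    (ξ : Q.obj K ⟶ (Q.obj L)⟦n⟧) : ∃ x : Cocycle K L n, rho x = ξ := by
  obtain ⟨φ, hφ⟩ := (CochainComplex.IsKInjective.Qh_map_bijective
    ((HomotopyCategory.quotient _ _).obj K) (L⟦n⟧)).2 (ξ ≫ (Q.commShiftIso n).inv.app L)
  obtain ⟨f, rfl⟩ := (HomotopyCategory.quotient _ _).map_surjective φ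
  refine ⟨Cocycle.equivHomShift f, ?_⟩
  unfold rho
  rw [AddEquiv.symm_apply_apply]
  have : Q.map f = ξ ≫ (Q.commShiftIso n).inv.app L := hφ
  rw [this, Category.assoc, Iso.inv_hom_id_app]
  exact Category.comp_id ξ

lemma rho_eq_zero_iff {K L : CochainComplex A ℤ} [L.IsKInjective] {n : ℤ}
    (x : Cocycle K L n) : rho x = 0 ↔ x ∈ coboundaries K L n := by
  rw [← CohomologyClass.toHom_mk_eq_zero_iff, CohomologyClass.toHom_mk]
  unfold rho
  constructor
  · intro h
    have h1 : Q.map (Cocycle.equivHomShift.symm x) = 0 := by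
      have := congrArg (fun φ => φ ≫ (Q.commShiftIso n).inv.app L) h
      simpa using this
    apply (CochainComplex.IsKInjective.Qh_map_bijective
      ((HomotopyCategory.quotient _ _).obj K) (L⟦n⟧)).1
    rw [Functor.map_zero]
    exact h1
  · intro h
    have h1 : Q.map (Cocycle.equivHomShift.symm x) = 0 := by
      change Qh.map ((HomotopyCategory.quotient _ _).map (Cocycle.equivHomShift.symm x)) = 0
      rw [h, Functor.map_zero]
    rw [h1, zero_comp]

section Single

variable (P : A) (L : CochainComplex A ℤ) (n : ℤ)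

/-- the class of a cycle `z : P ⟶ L.X n` -/
noncomputable def clsHom (z : P ⟶ L.X n) (hz : z ≫ L.d n (n + 1) = 0) :
    Q.obj ((CochainComplex.singleFunctor A 0).obj P) ⟶ (Q.obj L)⟦n⟧ :=
  rho (Cocycle.fromSingleMk z (zero_add n) (n + 1) rfl hz)

variable {P L n}

lemma clsHom_add (z z' : P ⟶ L.X n) (hz : z ≫ L.d n (n + 1) = 0)
    (hz' : z' ≫ L.d n (n + 1) = 0) :
    clsHom P L n (z + z') (by rw [Preadditive.add_comp, hz, hz', add_zero]) =
      clsHom P L n z hz + clsHom P L n z' hz' := by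
  unfold clsHom
  rw [Cocycle.fromSingleMk_add _ _ _ _ _ hz hz', rho_add]

lemma clsHom_precomp {P' : A} (g : P' ⟶ P) (z : P ⟶ L.X n) (hz : z ≫ L.d n (n + 1) = 0) :
    Q.map ((CochainComplex.singleFunctor A 0).map g) ≫ clsHom P L n z hz =
      clsHom P' L n (g ≫ z) (by rw [Category.assoc, hz, comp_zero]) := by
  unfold clsHom
  rw [Cocycle.fromSingleMk_precomp g z (zero_add n) (n + 1) rfl hz, rho_precomp]

lemma clsHom_surjective [L.IsKInjective]
    (ξ : Q.obj ((CochainComplex.singleFunctor A 0).obj P) ⟶ (Q.obj L)⟦n⟧) :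
    ∃ (z : P ⟶ L.X n) (hz : z ≫ L.d n (n + 1) = 0), clsHom P L n z hz = ξ := by
  obtain ⟨x, rfl⟩ := rho_surjective ξ
  obtain ⟨z, hz, rfl⟩ := Cocycle.fromSingleMk_surjective x n (zero_add n) (n + 1) rfl
  exact ⟨z, hz, rfl⟩

lemma clsHom_eq_zero_iff [L.IsKInjective] (z : P ⟶ L.X n) (hz : z ≫ L.d n (n + 1) = 0) :
    clsHom P L n z hz = 0 ↔ ∃ y : P ⟶ L.X (n - 1), y ≫ L.d (n - 1) n = z := by
  unfold clsHom
  rw [rho_eq_zero_iff, Cocycle.fromSingleMk_mem_coboundaries_iff z (zero_add n) (n + 1) rfl hz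
    (n - 1) (by omega)]

lemma clsHom_zero : clsHom P L n 0 (by rw [zero_comp]) = 0 := by
  have h := clsHom_add (P := P) (L := L) (n := n) 0 0 (by rw [zero_comp]) (by rw [zero_comp])
  simp only [add_zero] at h
  exact left_eq_add.mp h

/-- the group of morphisms `Q (P[0]) ⟶ (Q L)⟦n⟧` is trivial iff every cycle `P ⟶ L.X n` is a
boundary -/
theorem subsingleton_iff [L.IsKInjective] :
    Subsingleton (Q.obj ((CochainComplex.singleFunctor A 0).obj P) ⟶ (Q.obj L)⟦n⟧) ↔
      ∀ (z : P ⟶ L.X n), z ≫ L.d n (n + 1) = 0 →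
        ∃ y : P ⟶ L.X (n - 1), y ≫ L.d (n - 1) n = z := by
  constructor
  · intro h z hz
    rw [← clsHom_eq_zero_iff z hz]
    exact Subsingleton.elim _ _
  · intro h
    refine ⟨fun ξ ξ' => ?_⟩
    obtain ⟨z, hz, rfl⟩ := clsHom_surjective ξ
    obtain ⟨z', hz', rfl⟩ := clsHom_surjective ξ'
    rw [(clsHom_eq_zero_iff z hz).2 (h z hz), (clsHom_eq_zero_iff z' hz').2 (h z' hz')]

end Single

end Groth.Agent.Helper3.KPush
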