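import Mathlib
import Groth.Agent.Lib.Helper3.CompDer1
import Groth.Agent.Lib.Helper3.KPush1

set_option autoImplicit false
universe w v u

open CategoryTheory Limits DerivedCategory CochainComplex.HomComplex

namespace Groth.Agent.Helper3.CompDer

open Groth.Agent.Helper3.KPush

variable {A : Type u} [Category.{v} A] [Abelian A] [HasDerivedCategory.{w} A]

lemma rho_postcomp {K L L' : CochainComplex A ℤ} {n : ℤ} (x : Cocycle K L n) (f : L ⟶ L') :
    rho (x.postcomp f) = rho x ≫ (Q.map f)⟦n⟧' := by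
  unfold rho
  rw [Cocycle.equivHomShift_symm_postcomp, Functor.map_comp, Category.assoc, Category.assoc]
  congr 1
  exact (Q.commShiftIso n).hom.naturality f

section Cls0

variable (P : A) (L : CochainComplex A ℤ)

/-- the class of a degree zero cycle -/
noncomputable def cls0 (z : P ⟶ L.X 0) (hz : z ≫ L.d 0 1 = 0) :
    Q.obj ((CochainComplex.singleFunctor A 0).obj P) ⟶ Q.obj L :=
  clsHom P L 0 z hz ≫ (shiftFunctorZero (DerivedCategory A) ℤ).hom.app (Q.obj L)

variable {P L}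

lemma cls0_add (z z' : P ⟶ L.X 0) (hz : z ≫ L.d 0 1 = 0) (hz' : z' ≫ L.d 0 1 = 0) :
    cls0 P L (z + z') (by rw [Preadditive.add_comp, hz, hz', add_zero]) =
      cls0 P L z hz + cls0 P L z' hz' := by
  unfold cls0
  rw [clsHom_add z z' hz hz', Preadditive.add_comp]

lemma cls0_zero : cls0 P L 0 (by rw [zero_comp]) = 0 := by
  unfold cls0
  rw [clsHom_zero, zero_comp]

lemma cls0_surjective [L.IsKInjective]
    (ξ : Q.obj ((CochainComplex.singleFunctor A 0).obj P) ⟶ Q.obj L) :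
    ∃ (z : P ⟶ L.X 0) (hz : z ≫ L.d 0 1 = 0), cls0 P L z hz = ξ := by
  obtain ⟨z, hz, h⟩ := clsHom_surjective (P := P) (L := L) (n := 0)
    (ξ ≫ (shiftFunctorZero (DerivedCategory A) ℤ).inv.app (Q.obj L))
  refine ⟨z, hz, ?_⟩
  unfold cls0
  rw [h, Category.assoc, Iso.inv_hom_id_app]
  exact Category.comp_id ξ

lemma cls0_eq_zero_iff [L.IsKInjective] (z : P ⟶ L.X 0) (hz : z ≫ L.d 0 1 = 0) :
    cls0 P L z hz = 0 ↔ ∃ y : P ⟶ L.X (-1), y ≫ L.d (-1) 0 = z := by
  have key := clsHom_eq_zero_iff (P := P) (L := L) (n := 0) z hz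
  have key' : clsHom P L 0 z hz = 0 ↔ ∃ y : P ⟶ L.X (-1), y ≫ L.d (-1) 0 = z := key
  rw [← key']
  unfold cls0
  constructor
  · intro h
    have := congrArg (fun φ => φ ≫ (shiftFunctorZero (DerivedCategory A) ℤ).inv.app (Q.obj L)) h
    simpa using this
  · intro h
    rw [h, zero_comp]

lemma cls0_postcomp {L' : CochainComplex A ℤ} (f : L ⟶ L') (z : P ⟶ L.X 0)
    (hz : z ≫ L.d 0 1 = 0) :
    cls0 P L z hz ≫ Q.map f =
      cls0 P L' (z ≫ f.f 0) (by rw [Category.assoc, f.comm, reassoc_of% hz, zero_comp]) := by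
  unfold cls0
  have h1 := (shiftFunctorZero (DerivedCategory A) ℤ).hom.naturality (Q.map f)
  have h2 : clsHom P L 0 z hz ≫ (Q.map f)⟦(0 : ℤ)⟧' =
      clsHom P L' 0 (z ≫ f.f 0) (by
        have hz' : z ≫ L.d 0 (0 + 1) = 0 := hz
        rw [Category.assoc, f.comm, reassoc_of% hz', zero_comp]) := by
    unfold clsHom
    rw [← rho_postcomp, ← Cocycle.fromSingleMk_postcomp]
  rw [Category.assoc, ← h2, Category.assoc]
  congr 1
  exact h1.symm

/-- degree zero cycles -/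
def cyc0 (P : A) (L : CochainComplex A ℤ) : AddSubgroup (P ⟶ L.X 0) :=
  (Preadditive.rightComp P (L.d 0 1)).ker

lemma mem_cyc0 {z : P ⟶ L.X 0} : z ∈ cyc0 P L ↔ z ≫ L.d 0 1 = 0 := Iff.rfl

/-- the class map as an additive map on cycles -/
noncomputable def cls0Hom (P : A) (L : CochainComplex A ℤ) :
    cyc0 P L →+ (Q.obj ((CochainComplex.singleFunctor A 0).obj P) ⟶ Q.obj L) :=
  AddMonoidHom.mk' (fun z => cls0 P L z.1 z.2) (fun z z' => cls0_add z.1 z'.1 z.2 z'.2)

lemma cls0Hom_apply (z : cyc0 P L) : cls0Hom P L z = cls0 P L z.1 z.2 := rfl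

/-- the class map on a finite sum of cycles -/
lemma cls0_sum {ι : Type*} (s : Finset ι) (z : ι → (P ⟶ L.X 0)) (hz : ∀ i, z i ≫ L.d 0 1 = 0) :
    cls0 P L (∑ i ∈ s, z i) (by rw [Preadditive.sum_comp]; exact Finset.sum_eq_zero (fun i _ => hz i)) =
      ∑ i ∈ s, cls0 P L (z i) (hz i) := by
  have h := map_sum (cls0Hom P L) (fun i => (⟨z i, hz i⟩ : cyc0 P L)) s
  have h2 : ((∑ i ∈ s, (⟨z i, hz i⟩ : cyc0 P L) : cyc0 P L) : P ⟶ L.X 0) = ∑ i ∈ s, z i := by
    rw [AddSubgroup.val_finsetSum]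
  rw [cls0Hom_apply] at h
  simp only [cls0Hom_apply] at h
  rw [← h]
  congr 1
  exact h2.symm

end Cls0

end Groth.Agent.Helper3.CompDer
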