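import Mathlib
import Groth.Agent.Lib.Helper3.CompDer2
import Groth.Agent.Lib.Helper3.DCoprod
import Groth.Agent.Lib.Helper3.Splice
import Groth.Agent.Lib.Helper3.RDTwo
import Groth.Agent.Lib.Helper3.ExtRD
import Groth.Agent.Lib.Helper3.AbHomol

set_option autoImplicit false
universe w w' v u

open CategoryTheory Limits DerivedCategory Opposite

namespace Groth.Agent.Helper3.CompDer

open Groth.Agent.Helper3.DCoprod

section DS

open Classical in
lemma toAddMonoid_eq_sum {I : Type*} {G : I → Type*} [∀ i, AddCommGroup (G i)]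
    {T : Type*} [AddCommGroup T] (c : ∀ i, G i →+ T) (x : DirectSum I G) :
    DirectSum.toAddMonoid c x = ∑ i ∈ DFinsupp.support x, c i (x i) := by
  conv_lhs => rw [← DirectSum.sum_support_of x]
  rw [map_sum]
  refine Finset.sum_congr rfl (fun i _ => ?_)
  rw [DirectSum.toAddMonoid_of]

open Classical in
lemma toAddMonoid_sum_of {I : Type*} {G : I → Type*} [∀ i, AddCommGroup (G i)]
    {T : Type*} [AddCommGroup T] (c : ∀ i, G i →+ T) (s : Finset I) (g : ∀ i, G i) :
    DirectSum.toAddMonoid c (∑ i ∈ s, DirectSum.of G i (g i)) = ∑ i ∈ s, c i (g i) := by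
  rw [map_sum]
  refine Finset.sum_congr rfl (fun j _ => ?_)
  rw [DirectSum.toAddMonoid_of]

open Classical in
lemma sum_of_apply {I : Type*} {G : I → Type*} [∀ i, AddCommGroup (G i)]
    (s : Finset I) (g : ∀ i, G i) (i : I) (hi : i ∈ s) :
    (∑ j ∈ s, DirectSum.of G j (g j)) i = g i := by
  rw [DFinsupp.finsetSum_apply, Finset.sum_eq_single i]
  · exact DirectSum.of_eq_same i (g i)
  · intro j _ hji
    exact DirectSum.of_eq_of_ne j i (g j) hji.symm
  · intro h; exact (h hi).elim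

end DS

section Nat

variable {A : Type u} [Category.{v} A] [Preadditive A] {I : Type w'} (P : A)

open Classical in
/-- the canonical map `⊕ Hom(P, X i) → Hom(P, ∐ X)` -/
noncomputable def Φ (X : I → A) [HasCoproduct X] : DirectSum I (fun i => P ⟶ X i) →+ (P ⟶ ∐ X) :=
  DirectSum.toAddMonoid (fun i => Preadditive.rightComp P (Sigma.ι X i))

open Classical in
lemma Φ_of (X : I → A) [HasCoproduct X] (i : I) (g : P ⟶ X i) :
    Φ P X (DirectSum.of (fun i => P ⟶ X i) i g) = g ≫ Sigma.ι X i := by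
  unfold Φ
  rw [DirectSum.toAddMonoid_of]
  rfl

open Classical in
lemma Φ_map {X Y : I → A} [HasCoproduct X] [HasCoproduct Y] (f : ∀ i, X i ⟶ Y i)
    (ξ : DirectSum I (fun i => P ⟶ X i)) :
    Φ P Y (DirectSum.map (fun i => Preadditive.rightComp P (f i)) ξ) =
      Φ P X ξ ≫ Limits.Sigma.map f := by
  have h : (Φ P Y).comp (DirectSum.map (fun i => Preadditive.rightComp P (f i))) =
      (Preadditive.rightComp P (Limits.Sigma.map f)).comp (Φ P X) := by
    refine DirectSum.addHom_ext (fun i g => ?_)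
    rw [AddMonoidHom.comp_apply, AddMonoidHom.comp_apply, DirectSum.map_of, Φ_of, Φ_of]
    change (g ≫ f i) ≫ _ = (g ≫ _) ≫ _
    rw [Category.assoc, Category.assoc, Limits.Sigma.ι_map]
  exact DFunLike.congr_fun h ξ

end Nat

section Main

variable {A : Type u} [Category.{v} A] [Abelian A] [HasDerivedCategory.{w} A] [EnoughInjectives A]
  [HasExt.{v} A] {I : Type w'} [HasCoproductsOfShape I A] [HasExactColimitsOfShape (Discrete I) A]
  (P : A)

/-- `Hom(P, -)` -/
noncomputable abbrev FP : A ⥤ AddCommGrpCat.{v} := preadditiveCoyoneda.obj (op P)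

/-- acyclic objects for `Hom(P, -)` -/
def Acy (X : A) : Prop := ∀ p : ℕ, 0 < p → IsZero (((FP P).rightDerived p).obj X)

lemma acy_of_injective (X : A) [Injective X] : Acy P X := by
  intro p hp
  obtain ⟨m, rfl⟩ : ∃ m, p = m + 1 := ⟨p - 1, by omega⟩
  exact (FP P).isZero_rightDerived_obj_injective_succ m X

lemma acy_of_ext (X : A) (h : ∀ p : ℕ, 0 < p → ∀ x : Abelian.Ext.{v} P X p, x = 0) : Acy P X := by
  intro p hp
  refine IsZero.of_iso ?_ (ExtRD.coyonedaRightDerivedIso P X p)
  haveI : Subsingleton (Abelian.Ext.{v} P X p) := ⟨fun x y => (h p hp x).trans (h p hp y).symm⟩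
  exact AddCommGrpCat.isZero_of_subsingleton _

lemma adapted : Splice.Adapted (FP P) (Acy P) := by
  letI : HasDerivedCategory.{v + 1} AddCommGrpCat.{v} := HasDerivedCategory.standard _
  exact
    { zero := fun Z hZ => by
        haveI := hZ.injective
        exact acy_of_injective P Z
      two := fun S hS h₁ h₂ => RDTwo.two_of_three (FP P) S hS h₁ h₂ }

lemma isStrictlyGE_cK (L : I → CochainComplex A ℤ) (a : ℤ) [∀ i, (L i).IsStrictlyGE a] :
    (cK L).IsStrictlyGE a := by
  rw [CochainComplex.isStrictlyGE_iff]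
  intro n hn
  rw [IsZero.iff_id_eq_zero]
  apply Limits.Sigma.hom_ext
  intro i
  exact ((L i).isZero_of_isStrictlyGE a n hn).eq_of_src _ _

open Classical in
/-- a compact object of `A` whose `Ext` kills coproducts of injectives is "compact for uniformly
bounded below families" in the derived category -/
theorem bijective_derived
    (h0 : ∀ X : I → A, Function.Bijective (Φ P X))
    (hacyc : ∀ X : I → A, (∀ i, Injective (X i)) → ∀ p : ℕ, 0 < p →
      ∀ x : Abelian.Ext.{v} P (∐ X) p, x = 0)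
    (L : I → CochainComplex A ℤ) (a : ℤ) [∀ i, (L i).IsStrictlyGE a]
    (hL : ∀ i n, Injective ((L i).X n)) :
    Function.Bijective (DirectSum.toAddMonoid (fun i =>
      Preadditive.rightComp (Q.obj ((CochainComplex.singleFunctor A 0).obj P))
        (Q.map (inK L i)))) := by
  haveI hKa : (cK L).IsStrictlyGE a := isStrictlyGE_cK L a
  haveI hKa' : (cK L).IsStrictlyGE (a - 1) := (cK L).isStrictlyGE_of_ge (a - 1) a (by omega)
  obtain ⟨Jc, j, hj_mono, hj_qis, hJinj, hJge⟩ :=
    CochainComplex.Plus.modelCategoryQuillen.exists_mono_quasiIso_injective (cK L) (a - 1) a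
  haveI : Jc.IsKInjective := CochainComplex.isKInjective_of_injective Jc (a - 1)
  haveI : ∀ i, (L i).IsKInjective := fun i => by
    haveI := hL i
    exact CochainComplex.isKInjective_of_injective (L i) a
  have hF : QuasiIso (((FP P).mapHomologicalComplex (.up ℤ)).map j) :=
    Splice.quasiIso_map_of_mono (adapted P) (a - 1) j
      (fun n => acy_of_ext P _ (hacyc _ (fun i => hL i n)))
      (fun n => by haveI := hJinj n; exact acy_of_injective P _)
  haveI hIso : IsIso (Q.map j) := (isIso_Q_map_iff_quasiIso A j).2 hj_qis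
  haveI hFi : IsIso (HomologicalComplex.homologyMap
      (((FP P).mapHomologicalComplex (.up ℤ)).map j) 0) := by
    rw [← quasiIsoAt_iff_isIso_homologyMap]
    infer_instance
  have hm := (AbHomol.mono_homologyMap_iff (((FP P).mapHomologicalComplex (.up ℤ)).map j)
    (-1) 0 1 (by simp) (by simp)).1 inferInstance
  have he := (AbHomol.epi_homologyMap_iff (((FP P).mapHomologicalComplex (.up ℤ)).map j)
    (-1) 0 1 (by simp) (by simp)).1 inferInstance
  have hm' : ∀ x : P ⟶ (cK L).X 0, x ≫ (cK L).d 0 1 = 0 → ∀ y : P ⟶ Jc.X (-1),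
      x ≫ j.f 0 = y ≫ Jc.d (-1) 0 → ∃ z : P ⟶ (cK L).X (-1), x = z ≫ (cK L).d (-1) 0 :=
    fun x hx y hy => hm x hx y hy
  have he' : ∀ y : P ⟶ Jc.X 0, y ≫ Jc.d 0 1 = 0 → ∃ x : P ⟶ (cK L).X 0,
      x ≫ (cK L).d 0 1 = 0 ∧ ∃ w : P ⟶ Jc.X (-1), y = x ≫ j.f 0 + w ≫ Jc.d (-1) 0 :=
    fun y hy => he y hy
  have hcyc : ∀ (i : I) (z : P ⟶ (L i).X 0), z ≫ (L i).d 0 1 = 0 →
      (z ≫ (inK L i).f 0) ≫ (cK L).d 0 1 = 0 := by
    intro i z hz
    rw [Category.assoc, (inK L i).comm, reassoc_of% hz, zero_comp]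
  constructor
  · rw [injective_iff_map_eq_zero]
    intro γ hγ
    rw [toAddMonoid_eq_sum] at hγ
    choose z hz hzγ using fun i => cls0_surjective (P := P) (L := L i) (γ i)
    have hx : (∑ i ∈ DFinsupp.support γ, z i ≫ (inK L i).f 0) ≫ (cK L).d 0 1 = 0 := by
      rw [Preadditive.sum_comp]
      exact Finset.sum_eq_zero (fun i _ => hcyc i (z i) (hz i))
    have e1 : cls0 P (cK L) (∑ i ∈ DFinsupp.support γ, z i ≫ (inK L i).f 0) hx = 0 := by
      rw [cls0_sum (DFinsupp.support γ) (fun i => z i ≫ (inK L i).f 0)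
        (fun i => hcyc i (z i) (hz i)), ← hγ]
      refine Finset.sum_congr rfl (fun i _ => ?_)
      rw [← cls0_postcomp (inK L i) (z i) (hz i), hzγ]
      rfl
    have e2 := cls0_postcomp j _ hx
    rw [e1, zero_comp] at e2
    obtain ⟨y, hy⟩ := (cls0_eq_zero_iff _ _).1 e2.symm
    obtain ⟨v, hv⟩ := hm' _ hx y hy.symm
    obtain ⟨ν, hν⟩ := (h0 (fun i => (L i).X (-1))).2 v
    have e3 : Φ P (fun i => (L i).X 0) (∑ i ∈ DFinsupp.support γ,
        DirectSum.of (fun i => P ⟶ (L i).X 0) i (z i)) =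
        Φ P (fun i => (L i).X 0)
          (DirectSum.map (fun i => Preadditive.rightComp P ((L i).d (-1) 0)) ν) := by
      rw [Φ_map, hν]
      refine Eq.trans ?_ hv
      unfold Φ
      rw [toAddMonoid_sum_of]
      rfl
    have e4 := (h0 (fun i => (L i).X 0)).1 e3
    ext i
    by_cases hi : i ∈ DFinsupp.support γ
    · have e5 := DFunLike.congr_fun e4 i
      rw [sum_of_apply _ z i hi, DirectSum.map_apply] at e5
      rw [← hzγ i]
      exact (cls0_eq_zero_iff (z i) (hz i)).2 ⟨ν i, e5.symm⟩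
    · simpa using hi
  · intro t
    obtain ⟨z', hz', e1⟩ := cls0_surjective (P := P) (L := Jc) (t ≫ Q.map j)
    obtain ⟨x, hx, w, e2⟩ := he' z' hz'
    subst e2
    have hw : (w ≫ Jc.d (-1) 0) ≫ Jc.d 0 1 = 0 := by
      rw [Category.assoc, Jc.d_comp_d, comp_zero]
    have hxj : (x ≫ j.f 0) ≫ Jc.d 0 1 = 0 := by
      rw [Category.assoc, j.comm, reassoc_of% hx, zero_comp]
    have hw0 : cls0 P Jc (w ≫ Jc.d (-1) 0) hw = 0 := (cls0_eq_zero_iff _ hw).2 ⟨w, rfl⟩
    have e3 : t ≫ Q.map j = cls0 P (cK L) x hx ≫ Q.map j := by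
      rw [← e1, cls0_add _ _ hxj hw, hw0, add_zero, cls0_postcomp]
    have e4 : t = cls0 P (cK L) x hx := by
      rw [← cancel_mono (Q.map j)]
      exact e3
    obtain ⟨ξ, hξ⟩ := (h0 (fun i => (L i).X 0)).2 x
    have hξd : ∀ i, ξ i ≫ (L i).d 0 1 = 0 := by
      have h1 : Φ P (fun i => (L i).X 1)
          (DirectSum.map (fun i => Preadditive.rightComp P ((L i).d 0 1)) ξ) = 0 := by
        rw [Φ_map, hξ]
        exact hx
      have h2 := (h0 (fun i => (L i).X 1)).1 (h1.trans (map_zero _).symm)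
      intro i
      have h3 := DFunLike.congr_fun h2 i
      rw [DirectSum.map_apply] at h3
      exact h3
    refine ⟨∑ i ∈ DFinsupp.support ξ,
      DirectSum.of _ i (cls0 P (L i) (ξ i) (hξd i)), ?_⟩
    rw [toAddMonoid_sum_of, e4]
    have hx2 : x = ∑ i ∈ DFinsupp.support ξ, ξ i ≫ (inK L i).f 0 := by
      rw [← hξ]
      exact toAddMonoid_eq_sum _ ξ
    subst hx2
    rw [cls0_sum (DFinsupp.support ξ) (fun i => ξ i ≫ (inK L i).f 0)
      (fun i => hcyc i (ξ i) (hξd i))]
    refine Finset.sum_congr rfl (fun i _ => ?_)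
    exact cls0_postcomp (inK L i) (ξ i) (hξd i)

end Main

end Groth.Agent.Helper3.CompDer
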