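import Mathlib
import Groth.Prelude.Def_CohCx
import Groth.Prelude.Def_CohDer
import Groth.Agent.Lib.Helper3.CompDer1
import Groth.Agent.Lib.Helper3.CompDer3

set_option autoImplicit false
universe w w' v u

open CategoryTheory Limits DerivedCategory Opposite

namespace Groth.Agent.Helper3.CompDer

open Groth.Agent.Helper3.DCoprod

section Transport

open Classical in
/-- transport of bijectivity of a map out of a direct sum along compatible bijections -/
lemma bijective_transport {I : Type*} {G G' : I → Type*} [∀ i, AddCommGroup (G i)]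
    [∀ i, AddCommGroup (G' i)] {T T' : Type*} [AddCommGroup T] [AddCommGroup T']
    (c : ∀ i, G i →+ T) (c' : ∀ i, G' i →+ T')
    (e : ∀ i, G i →+ G' i) (e' : ∀ i, G' i → G i) (he : ∀ i x, e i (e' i x) = x)
    (eT : T →+ T') (eT' : T' → T) (hT : ∀ t, eT (eT' t) = t) (hTinj : Function.Injective eT)
    (hcomm : ∀ i g, eT (c i g) = c' i (e i g))
    (h : Function.Bijective (DirectSum.toAddMonoid c)) :
    Function.Bijective (DirectSum.toAddMonoid c') := by
  rw [toAddMonoid_bijective_iff] at h ⊢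
  obtain ⟨h1, h2⟩ := h
  constructor
  · intro t'
    obtain ⟨s, g, hg⟩ := h1 (eT' t')
    refine ⟨s, fun i => e i (g i), ?_⟩
    rw [← hT t', hg, map_sum]
    exact Finset.sum_congr rfl (fun i _ => hcomm i (g i))
  · intro s g' hg' i hi
    have h3 : ∑ i ∈ s, c i (e' i (g' i)) = 0 := by
      apply hTinj
      rw [map_sum, map_zero, ← hg']
      refine Finset.sum_congr rfl (fun i _ => ?_)
      rw [hcomm, he]
    have h4 := h2 s (fun i => e' i (g' i)) h3 i hi
    have h5 : e i (e' i (g' i)) = 0 := by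
      rw [show e' i (g' i) = 0 from h4, map_zero]
    rwa [he] at h5

end Transport

section Iso

variable {D : Type u} [Category.{v} D] [Preadditive D]

open Classical in
/-- bijectivity of `homSumToHomCoprod` can be checked on any colimit cofan of an isomorphic family -/
lemma bijective_homSumToHomCoprod_of_iso (K : D) {I : Type v} (X : I → D) [HasCoproduct X]
    (Y : I → D) (c : Cofan Y) (hc : IsColimit c) (e : ∀ i, X i ≅ Y i)
    (h : Function.Bijective (DirectSum.toAddMonoid
      (fun i => Preadditive.rightComp K (c.inj i)))) :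
    Function.Bijective (CohDer.homSumToHomCoprod K X) := by
  let ψ : c.pt ⟶ ∐ X := Cofan.IsColimit.desc hc (fun i => (e i).inv ≫ Sigma.ι X i)
  let φ : ∐ X ⟶ c.pt := Sigma.desc (fun i => (e i).hom ≫ c.inj i)
  have hψ : ∀ i, c.inj i ≫ ψ = (e i).inv ≫ Sigma.ι X i := fun i =>
    Cofan.IsColimit.fac hc _ i
  have h1 : ψ ≫ φ = 𝟙 _ := by
    refine Cofan.IsColimit.hom_ext hc _ _ (fun i => ?_)
    rw [← Category.assoc, hψ, Category.assoc, Sigma.ι_desc, Iso.inv_hom_id_assoc, Category.comp_id]
  have h2 : φ ≫ ψ = 𝟙 _ := by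
    refine Sigma.hom_ext _ _ (fun i => ?_)
    rw [← Category.assoc, Sigma.ι_desc, Category.assoc, hψ, Iso.hom_inv_id_assoc, Category.comp_id]
  unfold CohDer.homSumToHomCoprod
  refine bijective_transport (fun i => Preadditive.rightComp K (c.inj i))
    (fun i => Preadditive.rightComp K (Sigma.ι X i))
    (fun i => Preadditive.rightComp K (e i).inv) (fun i g => g ≫ (e i).hom) ?_
    (Preadditive.rightComp K ψ) (fun t => t ≫ φ) ?_ ?_ ?_ h
  · intro i x
    change (x ≫ (e i).hom) ≫ (e i).inv = x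
    rw [Category.assoc, Iso.hom_inv_id, Category.comp_id]
  · intro t
    change (t ≫ φ) ≫ ψ = t
    rw [Category.assoc, h2, Category.comp_id]
  · intro x y hxy
    have h3 : x ≫ ψ = y ≫ ψ := hxy
    have h4 := congrArg (fun t => t ≫ φ) h3
    simpa only [Category.assoc, h1, Category.comp_id] using h4
  · intro i g
    change (g ≫ c.inj i) ≫ ψ = (g ≫ (e i).inv) ≫ Sigma.ι X i
    rw [Category.assoc, hψ, Category.assoc]

end Iso

section Sheaf

variable {C : Type u} [SmallCategory C] (J : GrothendieckTopology C) (U : C)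

/-- `F ↦ H^p(U, F)` -/
noncomputable abbrev EU (p : ℕ) : Sheaf J AddCommGrpCat.{u} ⥤ AddCommGrpCat.{u} :=
  (Sheaf.cohomologyPresheafFunctor J p).flip.obj (op U)

open Classical in
lemma ext_bijective (p : ℕ) {I : Type u} [PreservesColimitsOfShape (Discrete I) (EU J U p)]
    (X : I → Sheaf J AddCommGrpCat.{u}) :
    Function.Bijective (DirectSum.toAddMonoid (fun i =>
      ((Abelian.Ext.mk₀ (Sigma.ι X i)).postcomp (CohCx.freeSheaf J U) (add_zero p)))) := by
  have hc := isColimitOfHasCoproductOfPreservesColimit (EU J U p) X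
  exact bijective_of_isColimit (fun i => (EU J U p).obj (X i)) _ hc

open Classical in
lemma h0_sheaf {I : Type u} [PreservesColimitsOfShape (Discrete I) (EU J U 0)]
    (X : I → Sheaf J AddCommGrpCat.{u}) :
    Function.Bijective (Φ (CohCx.freeSheaf J U) X) := by
  have h := ext_bijective J U 0 X
  unfold Φ
  refine bijective_transport _ (fun i => Preadditive.rightComp (CohCx.freeSheaf J U) (Sigma.ι X i))
    (fun i => (Abelian.Ext.addEquiv₀ :
      Abelian.Ext (CohCx.freeSheaf J U) (X i) 0 ≃+ (CohCx.freeSheaf J U ⟶ X i)).toAddMonoidHom)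
    (fun i g => Abelian.Ext.mk₀ g) ?_
    ((Abelian.Ext.addEquiv₀ :
      Abelian.Ext (CohCx.freeSheaf J U) (∐ X) 0 ≃+ (CohCx.freeSheaf J U ⟶ ∐ X)).toAddMonoidHom)
    (fun g => Abelian.Ext.mk₀ g) ?_ ?_ ?_ h
  · intro i x
    exact Abelian.Ext.addEquiv₀.apply_symm_apply x
  · intro t
    exact Abelian.Ext.addEquiv₀.apply_symm_apply t
  · exact Abelian.Ext.addEquiv₀.injective
  · intro i g
    obtain ⟨g, rfl⟩ := Abelian.Ext.addEquiv₀.symm.surjective g
    change Abelian.Ext.addEquiv₀ ((Abelian.Ext.mk₀ g).comp (Abelian.Ext.mk₀ (Sigma.ι X i)) (add_zero 0)) =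
      Abelian.Ext.addEquiv₀ (Abelian.Ext.mk₀ g) ≫ Sigma.ι X i
    rw [Abelian.Ext.mk₀_comp_mk₀]
    change Abelian.Ext.addEquiv₀ (Abelian.Ext.addEquiv₀.symm _) =
      Abelian.Ext.addEquiv₀ (Abelian.Ext.addEquiv₀.symm _) ≫ _
    rw [AddEquiv.apply_symm_apply, AddEquiv.apply_symm_apply]

lemma hacyc_sheaf {I : Type u} (p : ℕ) (hp : 0 < p)
    [PreservesColimitsOfShape (Discrete I) (EU J U p)]
    (X : I → Sheaf J AddCommGrpCat.{u}) (hX : ∀ i, Injective (X i))
    (x : Abelian.Ext (CohCx.freeSheaf J U) (∐ X) p) : x = 0 := by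
  classical
  obtain ⟨ξ, rfl⟩ := (ext_bijective J U p X).2 x
  have : ξ = 0 := by
    ext i
    obtain ⟨m, rfl⟩ : ∃ m, p = m + 1 := ⟨p - 1, by omega⟩
    haveI := hX i
    exact Abelian.Ext.eq_zero_of_injective _
  rw [this, map_zero]

end Sheaf

section Main

variable {C : Type u} [SmallCategory C] (J : GrothendieckTopology C) (U : C)
  [HasDerivedCategory.{u} (Sheaf J AddCommGrpCat.{u})]

theorem s0936_main
    (h : ∀ (p : ℕ) (ι : Type u), PreservesColimitsOfShape (Discrete ι)
      ((Sheaf.cohomologyPresheafFunctor J p).flip.obj (op U)))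
    {I : Type u} (M : I → DerivedCategory (Sheaf J AddCommGrpCat.{u})) [HasCoproduct M] (a : ℤ)
    (hM : ∀ i, (M i).IsGE a) :
    Function.Bijective (CohDer.homSumToHomCoprod
      ((DerivedCategory.singleFunctor (Sheaf J AddCommGrpCat.{u}) 0).obj
        (CohCx.freeSheaf J U)) M) := by
  classical
  have hmod : ∀ i, ∃ (L : CochainComplex (Sheaf J AddCommGrpCat.{u}) ℤ), L.IsStrictlyGE a ∧
      (∀ n, Injective (L.X n)) ∧ Nonempty (M i ≅ Q.obj L) := by
    intro i
    haveI := hM i
    obtain ⟨K, hK, ⟨e⟩⟩ := DerivedCategory.exists_iso_Q_obj_of_isGE (M i) a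
    obtain ⟨L, j, hj, hL, hLge⟩ :=
      CochainComplex.Plus.modelCategoryQuillen.exists_quasiIso_injective K a
    haveI : IsIso (Q.map j) := (isIso_Q_map_iff_quasiIso _ j).2 hj
    exact ⟨L, hLge, hL, ⟨e ≪≫ asIso (Q.map j)⟩⟩
  choose L hLge hLinj hLiso using hmod
  haveI : ∀ i, (L i).IsStrictlyGE a := hLge
  have e : ∀ i, M i ≅ Q.obj (L i) := fun i => (hLiso i).some
  haveI : ∀ p, PreservesColimitsOfShape (Discrete I) (EU J U p) := fun p => h p I
  have hb := bijective_derived (CohCx.freeSheaf J U) (fun X => h0_sheaf J U X)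
    (fun X hX p hp x => hacyc_sheaf J U p hp X hX x) L a hLinj
  exact bijective_homSumToHomCoprod_of_iso _ M (fun i => Q.obj (L i)) _ (isColimitCofan L) e hb

end Main

end Groth.Agent.Helper3.CompDer
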