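import Mathlib
import Groth.Agent.Lib.Helper3.CompDer4
import Groth.Agent.Lib.Helper3.KInjD
import Groth.Prelude.Def_CohSite

set_option autoImplicit false
universe w w' v u

open CategoryTheory Limits DerivedCategory Opposite

namespace Groth.Agent.Helper3.CompDer

open Groth.Agent.Helper3.DCoprod

section Cyc

variable {A : Type u} [Category.{v} A] [Abelian A] (K : CochainComplex A ℤ)

lemma epi_toCycles' (n : ℤ) (hex : K.ExactAt (n + 1)) : Epi (K.toCycles n (n + 1)) := by
  rw [epi_iff_surjective_up_to_refinements]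
  intro B y
  have hex' := (K.exactAt_iff_exact_up_to_refinements n (n + 1) (n + 1 + 1) (by simp) (by simp)).1
    hex
  obtain ⟨B', π, hπ, x₁, hx₁⟩ := hex' (y ≫ K.iCycles (n + 1)) (by simp)
  refine ⟨B', π, hπ, x₁, ?_⟩
  rw [← cancel_mono (K.iCycles (n + 1)), Category.assoc, Category.assoc,
    HomologicalComplex.toCycles_i]
  exact hx₁

lemma cycSES_shortExact' (n : ℤ) (hex : K.ExactAt (n + 1)) :
    (Splice.cycSES K n).ShortExact := by
  have : Mono (Splice.cycSES K n).f := inferInstanceAs (Mono (K.iCycles n))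
  have : Epi (Splice.cycSES K n).g := epi_toCycles' K n hex
  refine ShortComplex.ShortExact.mk ?_
  rw [ShortComplex.exact_iff_exact_up_to_refinements]
  intro B (x₂ : B ⟶ K.X n) (h1 : x₂ ≫ K.toCycles n (n + 1) = 0)
  have hx : x₂ ≫ K.d n (n + 1) = 0 := by
    rw [← K.toCycles_i n (n + 1), ← Category.assoc, h1, zero_comp]
  exact ⟨B, 𝟙 B, inferInstance, K.liftCycles x₂ (n + 1) (by simp) hx, by
    change 𝟙 B ≫ x₂ = K.liftCycles x₂ (n + 1) (by simp) hx ≫ K.iCycles n
    rw [Category.id_comp, HomologicalComplex.liftCycles_i]⟩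

end Cyc

section Vanish

variable {A : Type u} [Category.{v} A] [Abelian A] [HasExt.{v} A]
  (P : A) (d : ℕ) (hd : ∀ (F : A) (p : ℕ), d < p → ∀ x : Abelian.Ext.{v} P F p, x = 0)

include hd in
lemma ext_cycles_eq_zero (I : CochainComplex A ℤ) (hI : ∀ n, Injective (I.X n))
    (hex : ∀ q : ℤ, -(d : ℤ) ≤ q → q ≤ 0 → I.ExactAt q) :
    ∀ (n : ℕ) (q : ℤ), q = -(d : ℤ) - 1 + n → n ≤ d → ∀ p : ℕ, d - n < p →
      ∀ x : Abelian.Ext.{v} P (I.cycles q) p, x = 0 := by
  intro n
  induction n with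
  | zero =>
    intro q _ _ p hp x
    exact hd _ p (by omega) x
  | succ n ih =>
    intro q hq hn p hp x
    obtain ⟨q', rfl⟩ : ∃ q', q = q' + 1 := ⟨q - 1, by omega⟩
    have hq' : q' = -(d : ℤ) - 1 + n := by push_cast at hq; omega
    have hS := cycSES_shortExact' I q' (hex (q' + 1) (by omega) (by omega))
    have h1 : x.comp hS.extClass (rfl : p + 1 = p + 1) = 0 :=
      ih q' hq' (by omega) (p + 1) (by omega) _
    obtain ⟨x₂, hx₂⟩ := Abelian.Ext.covariant_sequence_exact₃ P hS x rfl h1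
    obtain ⟨m, rfl⟩ : ∃ m, p = m + 1 := ⟨p - 1, by omega⟩
    haveI : Injective (Splice.cycSES I q').X₂ := hI q'
    have h2 : x₂ = 0 := Abelian.Ext.eq_zero_of_injective x₂
    rw [← hx₂, h2]
    exact Abelian.Ext.zero_comp P (m + 1) _ _ _

include hd in
lemma exists_coboundary (I : CochainComplex A ℤ) (hI : ∀ n, Injective (I.X n))
    (hex : ∀ q : ℤ, -(d : ℤ) ≤ q → q ≤ 0 → I.ExactAt q)
    (z : P ⟶ I.X 0) (hz : z ≫ I.d 0 1 = 0) : ∃ y : P ⟶ I.X (-1), y ≫ I.d (-1) 0 = z := by
  have key : ∀ (q : ℤ) (hq : q = -1) (z : P ⟶ I.X (q + 1)) (hz : z ≫ I.d (q + 1) (q + 1 + 1) = 0),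
      ∃ y : P ⟶ I.X q, y ≫ I.d q (q + 1) = z := by
    intro q hq z hz
    have hS := cycSES_shortExact' I q (hex (q + 1) (by omega) (by omega))
    let z' : P ⟶ I.cycles (q + 1) := I.liftCycles z (q + 1 + 1) (by simp) hz
    have h1 : (Abelian.Ext.mk₀ z').comp hS.extClass (zero_add 1) = 0 :=
      ext_cycles_eq_zero P d hd I hI hex d q (by omega) le_rfl 1 (by omega) _
    obtain ⟨x₂, hx₂⟩ := Abelian.Ext.covariant_sequence_exact₃ P hS (Abelian.Ext.mk₀ z')
      (zero_add 1) h1
    obtain ⟨y, hy⟩ := (Abelian.Ext.mk₀_bijective P (I.X q)).2 x₂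
    refine ⟨y, ?_⟩
    have hx₃ : (Abelian.Ext.mk₀ y).comp (Abelian.Ext.mk₀ (I.toCycles q (q + 1))) (add_zero 0) =
        Abelian.Ext.mk₀ z' := by
      rw [hy]
      exact hx₂
    rw [Abelian.Ext.mk₀_comp_mk₀] at hx₃
    have h2 : y ≫ I.toCycles q (q + 1) = z' := (Abelian.Ext.mk₀_bijective _ _).1 hx₃
    have h3 : y ≫ I.d q (q + 1) = (y ≫ I.toCycles q (q + 1)) ≫ I.iCycles (q + 1) := by
      rw [Category.assoc, I.toCycles_i q (q + 1)]
    refine h3.trans ?_
    rw [h2]
    exact I.liftCycles_i _ _ _ _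
  exact key (-1) rfl z hz

end Vanish

section LemmaA

variable {A : Type u} [Category.{v} A] [Abelian A] [HasDerivedCategory.{w} A] [HasExt.{v} A]
  (P : A) (d : ℕ) (hd : ∀ (F : A) (p : ℕ), d < p → ∀ x : Abelian.Ext.{v} P F p, x = 0)

include hd in
lemma hom_eq_zero_of_exact (I : CochainComplex A ℤ) [I.IsKInjective]
    (hI : ∀ n, Injective (I.X n))
    (hex : ∀ q : ℤ, -(d : ℤ) ≤ q → q ≤ 0 → I.ExactAt q)
    (f : Q.obj ((CochainComplex.singleFunctor A 0).obj P) ⟶ Q.obj I) : f = 0 := by
  obtain ⟨z, hz, rfl⟩ := cls0_surjective (P := P) (L := I) f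
  exact (cls0_eq_zero_iff z hz).2 (exists_coboundary P d hd I hI hex z hz)

include hd in
lemma hom_eq_zero_of_isStrictlyLE [IsGrothendieckAbelian.{v} A] (K : CochainComplex A ℤ) (n : ℤ)
    (hn : n < -(d : ℤ)) [K.IsStrictlyLE n]
    (f : Q.obj ((CochainComplex.singleFunctor A 0).obj P) ⟶ Q.obj K) : f = 0 := by
  obtain ⟨I, j, hIK, hj, _, hI⟩ := KInjD.exists_kInjective_resolution K
  haveI := hIK
  haveI := hj
  haveI : IsIso (Q.map j) := (isIso_Q_map_iff_quasiIso _ j).2 hj
  have hex : ∀ q : ℤ, -(d : ℤ) ≤ q → q ≤ 0 → I.ExactAt q := by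
    intro q hq _
    have hK : K.ExactAt q :=
      ShortComplex.exact_of_isZero_X₂ _ (K.isZero_of_isStrictlyLE n q (by omega))
    exact (quasiIsoAt_iff_exactAt j q hK).1 inferInstance
  have h := hom_eq_zero_of_exact P d hd I hI hex (f ≫ Q.map j)
  rw [← cancel_mono (Q.map j), h, zero_comp]

include hd in
lemma bijective_postcomp_g [IsGrothendieckAbelian.{v} A] (S : ShortComplex (CochainComplex A ℤ))
    (hS : S.ShortExact) (n : ℤ) (hn : n < -(d : ℤ)) [S.X₁.IsStrictlyLE n] :
    Function.Bijective (fun t : Q.obj ((CochainComplex.singleFunctor A 0).obj P) ⟶ Q.obj S.X₂ =>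
      t ≫ Q.map S.g) := by
  have hT := DerivedCategory.triangleOfSES_distinguished hS
  constructor
  · intro t t' htt'
    have h0 : (t - t') ≫ (triangleOfSES hS).mor₂ = 0 := by
      change (t - t') ≫ Q.map S.g = 0
      rw [Preadditive.sub_comp]
      exact sub_eq_zero.2 htt'
    obtain ⟨s, hs⟩ := Pretriangulated.Triangle.coyoneda_exact₂ _ hT (t - t') h0
    have hs0 : s = 0 := hom_eq_zero_of_isStrictlyLE P d hd S.X₁ n hn s
    rw [hs0, zero_comp] at hs
    exact sub_eq_zero.1 hs
  · intro s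
    have h0 : s ≫ (triangleOfSES hS).mor₃ = 0 := by
      haveI : (S.X₁⟦(1 : ℤ)⟧).IsStrictlyLE (n - 1) :=
        CochainComplex.isStrictlyLE_shift S.X₁ n 1 (n - 1) (by omega)
      haveI : (S.X₁⟦(1 : ℤ)⟧).IsStrictlyLE n :=
        CochainComplex.isStrictlyLE_of_le _ (n - 1) n (by omega)
      have h1 := hom_eq_zero_of_isStrictlyLE P d hd (S.X₁⟦(1 : ℤ)⟧) n hn
        ((s ≫ (triangleOfSES hS).mor₃) ≫ ((Q.commShiftIso (1 : ℤ)).app S.X₁).inv)
      exact (cancel_mono (((Q.commShiftIso (1 : ℤ)).app S.X₁).inv)).1 (h1.trans zero_comp.symm)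
    obtain ⟨t, ht⟩ := Pretriangulated.Triangle.coyoneda_exact₃ _ hT s h0
    exact ⟨t, ht.symm⟩

end LemmaA

section Square

open Classical in
/-- bijectivity of the top row of a commutative square with bijective vertical maps -/
lemma bijective_of_bijective_square {I : Type*} {G G' : I → Type*} [∀ i, AddCommGroup (G i)]
    [∀ i, AddCommGroup (G' i)] {T T' : Type*} [AddCommGroup T] [AddCommGroup T']
    (c : ∀ i, G i →+ T) (c' : ∀ i, G' i →+ T')
    (e : ∀ i, G i →+ G' i) (he : ∀ i, Function.Bijective (e i))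
    (eT : T →+ T') (heT : Function.Bijective eT)
    (hcomm : ∀ i g, eT (c i g) = c' i (e i g))
    (h : Function.Bijective (DirectSum.toAddMonoid c')) :
    Function.Bijective (DirectSum.toAddMonoid c) := by
  rw [toAddMonoid_bijective_iff] at h ⊢
  obtain ⟨h1, h2⟩ := h
  constructor
  · intro t
    obtain ⟨s, g', hg'⟩ := h1 (eT t)
    choose g hg using fun i => (he i).2 (g' i)
    refine ⟨s, g, heT.1 ?_⟩
    rw [hg', map_sum]
    refine Finset.sum_congr rfl (fun i _ => ?_)
    rw [hcomm, hg]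
  · intro s g hg i hi
    have h3 : ∑ i ∈ s, c' i (e i (g i)) = 0 := by
      have h4 := congrArg eT hg
      rw [map_sum, map_zero] at h4
      rw [← h4]
      exact Finset.sum_congr rfl (fun i _ => (hcomm i (g i)).symm)
    have h5 := h2 s (fun i => e i (g i)) h3 i hi
    exact (he i).1 (h5.trans (map_zero _).symm)

end Square

section Cofan

variable {D : Type u} [Category.{v} D] [Preadditive D]

open Classical in
/-- bijectivity of `⊕ Hom(K, X i) → Hom(K, pt)` does not depend on the colimit cofan, and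
is invariant under isomorphisms of families -/
lemma bijective_cofan_of_iso (K : D) {I : Type*} (X Y : I → D)
    (cX : Cofan X) (hcX : IsColimit cX) (cY : Cofan Y) (hcY : IsColimit cY)
    (e : ∀ i, X i ≅ Y i)
    (h : Function.Bijective (DirectSum.toAddMonoid
      (fun i => Preadditive.rightComp K (cY.inj i)))) :
    Function.Bijective (DirectSum.toAddMonoid
      (fun i => Preadditive.rightComp K (cX.inj i))) := by
  let ψ : cY.pt ⟶ cX.pt := Cofan.IsColimit.desc hcY (fun i => (e i).inv ≫ cX.inj i)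
  let φ : cX.pt ⟶ cY.pt := Cofan.IsColimit.desc hcX (fun i => (e i).hom ≫ cY.inj i)
  have hψ : ∀ i, cY.inj i ≫ ψ = (e i).inv ≫ cX.inj i := fun i =>
    Cofan.IsColimit.fac hcY _ i
  have hφ : ∀ i, cX.inj i ≫ φ = (e i).hom ≫ cY.inj i := fun i =>
    Cofan.IsColimit.fac hcX _ i
  have h1 : ψ ≫ φ = 𝟙 _ := by
    refine Cofan.IsColimit.hom_ext hcY _ _ (fun i => ?_)
    rw [← Category.assoc, hψ, Category.assoc, hφ, Iso.inv_hom_id_assoc, Category.comp_id]
  have h2 : φ ≫ ψ = 𝟙 _ := by
    refine Cofan.IsColimit.hom_ext hcX _ _ (fun i => ?_)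
    rw [← Category.assoc, hφ, Category.assoc, hψ, Iso.hom_inv_id_assoc, Category.comp_id]
  refine bijective_transport (fun i => Preadditive.rightComp K (cY.inj i))
    (fun i => Preadditive.rightComp K (cX.inj i))
    (fun i => Preadditive.rightComp K (e i).inv) (fun i g => g ≫ (e i).hom) ?_
    (Preadditive.rightComp K ψ) (fun t => t ≫ φ) ?_ ?_ ?_ h
  · intro i x
    change (x ≫ (e i).hom) ≫ (e i).inv = x
    rw [Category.assoc, Iso.hom_inv_id, Category.comp_id]
  · intro t
    change (t ≫ φ) ≫ ψ = t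
    rw [Category.assoc, h2, Category.comp_id]
  · intro x y hxy
    have h3 : x ≫ ψ = y ≫ ψ := hxy
    have h4 := congrArg (fun t => t ≫ φ) h3
    simpa only [Category.assoc, h1, Category.comp_id] using h4
  · intro i g
    change (g ≫ cY.inj i) ≫ ψ = (g ≫ (e i).inv) ≫ cX.inj i
    rw [Category.assoc, hψ, Category.assoc]

end Cofan

section AB4

variable {A : Type u} [Category.{v} A] [Abelian A] {I : Type w'} [HasCoproductsOfShape I A]
  [HasExactColimitsOfShape (Discrete I) A]

lemma mono_sigmaMap {X Y : I → A} (f : ∀ i, X i ⟶ Y i) [∀ i, Mono (f i)] :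
    Mono (Limits.Sigma.map f) := by
  haveI : ∀ j : Discrete I, Mono ((Discrete.natTrans (fun i : Discrete I => f i.as) :
      Discrete.functor X ⟶ Discrete.functor Y).app j) := fun j => by
    change Mono (f j.as)
    infer_instance
  haveI : Mono (Discrete.natTrans (fun i : Discrete I => f i.as) :
      Discrete.functor X ⟶ Discrete.functor Y) := NatTrans.mono_of_mono_app _
  exact inferInstanceAs (Mono ((colim : (Discrete I ⥤ A) ⥤ A).map
    (Discrete.natTrans (fun i : Discrete I => f i.as) :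
      Discrete.functor X ⟶ Discrete.functor Y)))

omit [HasExactColimitsOfShape (Discrete I) A] in
lemma epi_sigmaMap {X Y : I → A} (f : ∀ i, X i ⟶ Y i) [∀ i, Epi (f i)] :
    Epi (Limits.Sigma.map f) := by
  constructor
  intro Z a b hab
  refine Limits.Sigma.hom_ext _ _ (fun i => ?_)
  have h1 := congrArg (fun t => Sigma.ι X i ≫ t) hab
  simp only [Limits.Sigma.ι_map_assoc] at h1
  exact (cancel_epi (f i)).1 h1

/-- a coproduct of short exact sequences is short exact (AB4) -/
lemma shortExact_sigma (S : I → ShortComplex A) (hS : ∀ i, (S i).ShortExact) :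
    (ShortComplex.mk (Limits.Sigma.map fun i => (S i).f) (Limits.Sigma.map fun i => (S i).g)
      (by
        refine Limits.Sigma.hom_ext _ _ (fun i => ?_)
        rw [Limits.Sigma.ι_map_assoc, Limits.Sigma.ι_map, ← Category.assoc, (S i).zero,
          zero_comp, comp_zero])).ShortExact := by
  haveI : ∀ i, Mono (S i).f := fun i => (hS i).mono_f
  haveI : ∀ i, Epi (S i).g := fun i => (hS i).epi_g
  haveI h1 : Mono (Limits.Sigma.map fun i => (S i).f) := mono_sigmaMap _
  haveI h2 : Epi (Limits.Sigma.map fun i => (S i).g) := epi_sigmaMap _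
  refine ShortComplex.ShortExact.mk' ?_ h1 h2
  apply ShortComplex.exact_of_g_is_cokernel
  refine CokernelCofork.IsColimit.ofπ _ _
    (fun {Z} h hh => Limits.Sigma.desc (fun i => (hS i).gIsCokernel.desc
      (CokernelCofork.ofπ (Sigma.ι (fun i => (S i).X₂) i ≫ h) (by
        have := congrArg (fun t => Sigma.ι (fun i => (S i).X₁) i ≫ t) hh
        simp only [Limits.Sigma.ι_map_assoc, comp_zero] at this
        exact this)))) ?_ ?_
  · intro Z h hh
    refine Limits.Sigma.hom_ext _ _ (fun i => ?_)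
    rw [Limits.Sigma.ι_map_assoc, Limits.Sigma.ι_desc]
    exact Cofork.IsColimit.π_desc (hS i).gIsCokernel
  · intro Z h hh b hb
    rw [← cancel_epi (Limits.Sigma.map fun i => (S i).g), hb]
    refine Limits.Sigma.hom_ext _ _ (fun i => ?_)
    rw [Limits.Sigma.ι_map_assoc, Limits.Sigma.ι_desc]
    symm
    exact Cofork.IsColimit.π_desc (hS i).gIsCokernel

end AB4

section CK

variable {A : Type u} [Category.{v} A] [Abelian A] {I : Type w'} [HasCoproductsOfShape I A]
  [HasExactColimitsOfShape (Discrete I) A]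

omit [HasExactColimitsOfShape (Discrete I) A] in
lemma mapK_comp_mapK_eq_zero (S : I → ShortComplex (CochainComplex A ℤ)) :
    mapK (fun i => (S i).f) ≫ mapK (fun i => (S i).g) = 0 := by
  refine HomologicalComplex.hom_ext _ _ (fun n => ?_)
  rw [HomologicalComplex.comp_f, mapK_f, mapK_f, HomologicalComplex.zero_f]
  apply Limits.Sigma.hom_ext
  intro i
  rw [Limits.Sigma.ι_map_assoc, Limits.Sigma.ι_map, ← Category.assoc,
    ← HomologicalComplex.comp_f, (S i).zero, HomologicalComplex.zero_f, zero_comp, comp_zero]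

/-- the termwise coproduct of short exact sequences of complexes is short exact -/
lemma shortExact_mapK (S : I → ShortComplex (CochainComplex A ℤ)) (hS : ∀ i, (S i).ShortExact) :
    (ShortComplex.mk (mapK (fun i => (S i).f)) (mapK (fun i => (S i).g))
      (mapK_comp_mapK_eq_zero S)).ShortExact := by
  refine HomologicalComplex.shortExact_of_degreewise_shortExact _ (fun n => ?_)
  have h1 : ∀ i, ((S i).map (HomologicalComplex.eval A (ComplexShape.up ℤ) n)).ShortExact := by
    intro i
    have := (hS i).mono_f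
    have := (hS i).epi_g
    exact (hS i).map (HomologicalComplex.eval A (ComplexShape.up ℤ) n)
  have h2 := shortExact_sigma
    (fun i => (S i).map (HomologicalComplex.eval A (ComplexShape.up ℤ) n)) h1
  refine ShortComplex.shortExact_of_iso ?_ h2
  refine ShortComplex.isoMk (Iso.refl _) (Iso.refl _) (Iso.refl _) ?_ ?_
  · change 𝟙 _ ≫ (mapK (fun i => (S i).f)).f n = Limits.Sigma.map (fun i => ((S i).f).f n) ≫ 𝟙 _
    rw [mapK_f, Category.comp_id, Category.id_comp]
  · change 𝟙 _ ≫ (mapK (fun i => (S i).g)).f n = Limits.Sigma.map (fun i => ((S i).g).f n) ≫ 𝟙 _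
    rw [mapK_f, Category.comp_id, Category.id_comp]

omit [Abelian A] [HasExactColimitsOfShape (Discrete I) A] in
lemma isStrictlyLE_cK [Preadditive A] (L : I → CochainComplex A ℤ) (a : ℤ)
    [∀ i, (L i).IsStrictlyLE a] : (cK L).IsStrictlyLE a := by
  rw [CochainComplex.isStrictlyLE_iff]
  intro n hn
  rw [IsZero.iff_id_eq_zero]
  apply Limits.Sigma.hom_ext
  intro i
  exact ((L i).isZero_of_isStrictlyLE a n hn).eq_of_src _ _

end CK

section General

variable {A : Type u} [Category.{v} A] [Abelian A] [HasDerivedCategory.{w} A] [EnoughInjectives A]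
  [HasExt.{v} A] {I : Type w'} [HasCoproductsOfShape I A] [HasExactColimitsOfShape (Discrete I) A]
  (P : A)

open Classical in
/-- `Hom(P[0], -)` commutes with coproducts of uniformly bounded below families in `D(A)` -/
theorem bijective_of_isGE
    (h0 : ∀ X : I → A, Function.Bijective (Φ P X))
    (hacyc : ∀ X : I → A, (∀ i, Injective (X i)) → ∀ p : ℕ, 0 < p →
      ∀ x : Abelian.Ext.{v} P (∐ X) p, x = 0)
    (N : I → DerivedCategory A) (a : ℤ) (hN : ∀ i, (N i).IsGE a) (c : Cofan N)
    (hc : IsColimit c) :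
    Function.Bijective (DirectSum.toAddMonoid (fun i =>
      Preadditive.rightComp (Q.obj ((CochainComplex.singleFunctor A 0).obj P)) (c.inj i))) := by
  have hmod : ∀ i, ∃ (L : CochainComplex A ℤ), L.IsStrictlyGE a ∧
      (∀ n, Injective (L.X n)) ∧ Nonempty (N i ≅ Q.obj L) := by
    intro i
    haveI := hN i
    obtain ⟨K, hK, ⟨e⟩⟩ := DerivedCategory.exists_iso_Q_obj_of_isGE (N i) a
    obtain ⟨L, j, hj, hL, hLge⟩ :=
      CochainComplex.Plus.modelCategoryQuillen.exists_quasiIso_injective K a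
    haveI : IsIso (Q.map j) := (isIso_Q_map_iff_quasiIso _ j).2 hj
    exact ⟨L, hLge, hL, ⟨e ≪≫ asIso (Q.map j)⟩⟩
  choose L hLge hLinj hLiso using hmod
  haveI : ∀ i, (L i).IsStrictlyGE a := hLge
  have e : ∀ i, N i ≅ Q.obj (L i) := fun i => (hLiso i).some
  have hb := bijective_derived P h0 hacyc L a hLinj
  exact bijective_cofan_of_iso _ N (fun i => Q.obj (L i)) c hc _ (isColimitCofan L) e hb

open Classical in
/-- if moreover `Ext^p(P, -) = 0` for `p > d`, then `Hom(P[0], -)` commutes with all coproducts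
in `D(A)` -/
theorem bijective_all [IsGrothendieckAbelian.{v} A] (d : ℕ)
    (hd : ∀ (F : A) (p : ℕ), d < p → ∀ x : Abelian.Ext.{v} P F p, x = 0)
    (h0 : ∀ X : I → A, Function.Bijective (Φ P X))
    (hacyc : ∀ X : I → A, (∀ i, Injective (X i)) → ∀ p : ℕ, 0 < p →
      ∀ x : Abelian.Ext.{v} P (∐ X) p, x = 0)
    (L : I → CochainComplex A ℤ) :
    Function.Bijective (DirectSum.toAddMonoid (fun i =>
      Preadditive.rightComp (Q.obj ((CochainComplex.singleFunctor A 0).obj P))
        (Q.map (inK L i)))) := by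
  obtain ⟨n, hn⟩ : ∃ n : ℤ, n = -(d : ℤ) - 1 := ⟨_, rfl⟩
  let S : I → ShortComplex (CochainComplex A ℤ) := fun i => (L i).shortComplexTruncLE n
  have hS : ∀ i, (S i).ShortExact := fun i => (L i).shortComplexTruncLE_shortExact n
  have hS' := shortExact_mapK S hS
  haveI hW : ∀ i, ((S i).X₁).IsStrictlyLE n := fun i => by
    change ((L i).truncLE n).IsStrictlyLE n
    infer_instance
  haveI : (cK fun i => (S i).X₁).IsStrictlyLE n := isStrictlyLE_cK _ n
  have B : ∀ i, Function.Bijective
      (fun t : Q.obj ((CochainComplex.singleFunctor A 0).obj P) ⟶ Q.obj (L i) =>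
        t ≫ Q.map (S i).g) :=
    fun i => bijective_postcomp_g P d hd (S i) (hS i) n (by omega)
  have B' : Function.Bijective
      (fun t : Q.obj ((CochainComplex.singleFunctor A 0).obj P) ⟶ Q.obj (cK L) =>
        t ≫ Q.map (mapK fun i => (S i).g)) :=
    bijective_postcomp_g P d hd _ hS' n (by omega)
  have hT : ∀ i, (Q.obj (S i).X₃).IsGE (n + 1) := by
    intro i
    haveI : IsIso (Q.map ((L i).shortComplexTruncLEX₃ToTruncGE n (n + 1) rfl)) :=
      (isIso_Q_map_iff_quasiIso _ _).2 inferInstance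
    haveI : (Q.obj ((L i).truncGE (n + 1))).IsGE (n + 1) :=
      (isGE_Q_obj_iff _ _).2 inferInstance
    exact DerivedCategory.TStructure.t.isGE_of_iso
      (asIso (Q.map ((L i).shortComplexTruncLEX₃ToTruncGE n (n + 1) rfl))).symm (n + 1)
  have bot := bijective_of_isGE P h0 hacyc (fun i => Q.obj (S i).X₃) (n + 1) hT _
    (isColimitCofan fun i => (S i).X₃)
  refine bijective_of_bijective_square _
    (fun i => Preadditive.rightComp (Q.obj ((CochainComplex.singleFunctor A 0).obj P))
      (Q.map (inK (fun i => (S i).X₃) i)))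
    (fun i => Preadditive.rightComp (Q.obj ((CochainComplex.singleFunctor A 0).obj P))
      (Q.map (S i).g)) B
    (Preadditive.rightComp (Q.obj ((CochainComplex.singleFunctor A 0).obj P))
      (Q.map (mapK fun i => (S i).g))) B' ?_ bot
  intro i t
  change (t ≫ Q.map (inK L i)) ≫ Q.map (mapK fun i => (S i).g) =
    (t ≫ Q.map (S i).g) ≫ Q.map (inK (fun i => (S i).X₃) i)
  rw [Category.assoc, Category.assoc, ← Q.map_comp, ← Q.map_comp]
  congr 2
  exact inK_mapK (fun i => (S i).g) i

end General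

section S0872

variable {C : Type u} [SmallCategory C] (J : GrothendieckTopology C) (U : C)
  [HasDerivedCategory.{u} (Sheaf J AddCommGrpCat.{u})]

theorem s0872_main
    [HasCoproducts.{u} (DerivedCategory (Sheaf J AddCommGrpCat.{u}))]
    (d : ℕ) (h1 : ∀ (F : Sheaf J AddCommGrpCat.{u}) (p : ℕ), d < p →
      Subsingleton (CohSite.HU F p U))
    (h2 : ∀ (p : ℕ) (ι : Type u), PreservesColimitsOfShape (Discrete ι)
      ((Sheaf.cohomologyPresheafFunctor J p).flip.obj (op U))) :
    CohDer.IsCompactObject ((DerivedCategory.singleFunctor (Sheaf J AddCommGrpCat.{u}) 0).obj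
      (CohCx.freeSheaf J U)) := by
  intro ι X
  have hd : ∀ (F : Sheaf J AddCommGrpCat.{u}) (p : ℕ), d < p →
      ∀ x : Abelian.Ext.{u} (CohCx.freeSheaf J U) F p, x = 0 := by
    intro F p hp x
    haveI : Subsingleton (Abelian.Ext.{u} (CohCx.freeSheaf J U) F p) := h1 F p hp
    exact Subsingleton.elim _ _
  haveI : ∀ p, PreservesColimitsOfShape (Discrete ι) (EU J U p) := fun p => h2 p ι
  let L : ι → CochainComplex (Sheaf J AddCommGrpCat.{u}) ℤ := fun i => Q.objPreimage (X i)
  have e : ∀ i, X i ≅ Q.obj (L i) := fun i => (Q.objObjPreimageIso (X i)).symm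
  have hb := bijective_all (CohCx.freeSheaf J U) d hd (fun X => h0_sheaf J U X)
    (fun X hX p hp x => hacyc_sheaf J U p hp X hX x) L
  exact bijective_homSumToHomCoprod_of_iso _ X (fun i => Q.obj (L i)) _ (isColimitCofan L) e hb

end S0872

end Groth.Agent.Helper3.CompDer
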