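import Mathlib
import Groth.Agent.Lib.Helper3.CompDer5

set_option autoImplicit false
universe w w' v u

open CategoryTheory Limits DerivedCategory Opposite CochainComplex.HomComplex

namespace Groth.Agent.Helper3.CompDer

open Groth.Agent.Helper3.DCoprod Groth.Agent.Helper3.KPush

section KProj

variable {A : Type u} [Category.{v} A] [Abelian A] [HasDerivedCategory.{w} A]

lemma rho_surjective_of_kproj {K L : CochainComplex A ℤ} [K.IsKProjective] {n : ℤ}
    (ξ : Q.obj K ⟶ (Q.obj L)⟦n⟧) : ∃ x : Cocycle K L n, rho x = ξ := by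
  obtain ⟨φ, hφ⟩ := (CochainComplex.IsKProjective.Qh_map_bijective K
    ((HomotopyCategory.quotient _ _).obj (L⟦n⟧))).2 (ξ ≫ (Q.commShiftIso n).inv.app L)
  obtain ⟨f, rfl⟩ := (HomotopyCategory.quotient _ _).map_surjective φ
  refine ⟨Cocycle.equivHomShift f, ?_⟩
  unfold rho
  rw [AddEquiv.symm_apply_apply]
  have : Q.map f = ξ ≫ (Q.commShiftIso n).inv.app L := hφ
  rw [this, Category.assoc, Iso.inv_hom_id_app]
  exact Category.comp_id ξ

lemma rho_eq_zero_iff_of_kproj {K L : CochainComplex A ℤ} [K.IsKProjective] {n : ℤ}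
    (x : Cocycle K L n) : rho x = 0 ↔ x ∈ coboundaries K L n := by
  rw [← CohomologyClass.toHom_mk_eq_zero_iff, CohomologyClass.toHom_mk]
  unfold rho
  constructor
  · intro h
    have h1 : Q.map (Cocycle.equivHomShift.symm x) = 0 := by
      have := congrArg (fun φ => φ ≫ (Q.commShiftIso n).inv.app L) h
      simpa using this
    apply (CochainComplex.IsKProjective.Qh_map_bijective K
      ((HomotopyCategory.quotient _ _).obj (L⟦n⟧))).1
    rw [Functor.map_zero]
    exact h1
  · intro h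
    have h1 : Q.map (Cocycle.equivHomShift.symm x) = 0 := by
      change Qh.map ((HomotopyCategory.quotient _ _).map (Cocycle.equivHomShift.symm x)) = 0
      rw [h, Functor.map_zero]
    rw [h1, zero_comp]

variable (P : A) [((CochainComplex.singleFunctor A 0).obj P).IsKProjective]
  {L : CochainComplex A ℤ}

lemma cls0_surjective_of_kproj
    (ξ : Q.obj ((CochainComplex.singleFunctor A 0).obj P) ⟶ Q.obj L) :
    ∃ (z : P ⟶ L.X 0) (hz : z ≫ L.d 0 1 = 0), cls0 P L z hz = ξ := by
  obtain ⟨x, hx⟩ := rho_surjective_of_kproj (n := 0)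
    (ξ ≫ (shiftFunctorZero (DerivedCategory A) ℤ).inv.app (Q.obj L))
  obtain ⟨z, hz, rfl⟩ := Cocycle.fromSingleMk_surjective x 0 (zero_add 0) (0 + 1) rfl
  refine ⟨z, hz, ?_⟩
  unfold cls0 clsHom
  rw [hx, Category.assoc, Iso.inv_hom_id_app]
  exact Category.comp_id ξ

lemma cls0_eq_zero_iff_of_kproj (z : P ⟶ L.X 0) (hz : z ≫ L.d 0 1 = 0) :
    cls0 P L z hz = 0 ↔ ∃ y : P ⟶ L.X (-1), y ≫ L.d (-1) 0 = z := by
  have key : clsHom P L 0 z hz = 0 ↔ ∃ y : P ⟶ L.X (0 - 1), y ≫ L.d (0 - 1) 0 = z := by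
    unfold clsHom
    rw [rho_eq_zero_iff_of_kproj,
      Cocycle.fromSingleMk_mem_coboundaries_iff z (zero_add 0) (0 + 1) rfl hz (0 - 1) (by omega)]
  have key' : clsHom P L 0 z hz = 0 ↔ ∃ y : P ⟶ L.X (-1), y ≫ L.d (-1) 0 = z := key
  rw [← key']
  unfold cls0
  constructor
  · intro h
    have := congrArg (fun φ => φ ≫ (shiftFunctorZero (DerivedCategory A) ℤ).inv.app (Q.obj L)) h
    simpa using this
  · intro h
    rw [h, zero_comp]

end KProj

section Main

variable {A : Type u} [Category.{v} A] [Abelian A] [HasDerivedCategory.{w} A]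
  {I : Type w'} [HasCoproductsOfShape I A]
  (P : A) [((CochainComplex.singleFunctor A 0).obj P).IsKProjective]

open Classical in
/-- for a (K-)projective object `P` such that `Hom(P, -)` commutes with coproducts,
`Hom_D(P[0], -)` commutes with termwise coproducts of arbitrary complexes -/
theorem bijective_of_kprojective
    (h0 : ∀ X : I → A, Function.Bijective (Φ P X))
    (L : I → CochainComplex A ℤ) :
    Function.Bijective (DirectSum.toAddMonoid (fun i =>
      Preadditive.rightComp (Q.obj ((CochainComplex.singleFunctor A 0).obj P))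
        (Q.map (inK L i)))) := by
  have hcyc : ∀ (i : I) (z : P ⟶ (L i).X 0), z ≫ (L i).d 0 1 = 0 →
      (z ≫ (inK L i).f 0) ≫ (cK L).d 0 1 = 0 := by
    intro i z hz
    rw [Category.assoc, (inK L i).comm, reassoc_of% hz, zero_comp]
  constructor
  · rw [injective_iff_map_eq_zero]
    intro γ hγ
    rw [toAddMonoid_eq_sum] at hγ
    choose z hz hzγ using fun i => cls0_surjective_of_kproj P (L := L i) (γ i)
    have hx : (∑ i ∈ DFinsupp.support γ, z i ≫ (inK L i).f 0) ≫ (cK L).d 0 1 = 0 := by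
      rw [Preadditive.sum_comp]
      exact Finset.sum_eq_zero (fun i _ => hcyc i (z i) (hz i))
    have e1 : cls0 P (cK L) (∑ i ∈ DFinsupp.support γ, z i ≫ (inK L i).f 0) hx = 0 := by
      rw [cls0_sum (DFinsupp.support γ) (fun i => z i ≫ (inK L i).f 0)
        (fun i => hcyc i (z i) (hz i)), ← hγ]
      refine Finset.sum_congr rfl (fun i _ => ?_)
      rw [← cls0_postcomp (inK L i) (z i) (hz i), hzγ]
      rfl
    obtain ⟨v, hv⟩ := (cls0_eq_zero_iff_of_kproj P _ hx).1 e1
    obtain ⟨ν, hν⟩ := (h0 (fun i => (L i).X (-1))).2 v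
    have e3 : Φ P (fun i => (L i).X 0) (∑ i ∈ DFinsupp.support γ,
        DirectSum.of (fun i => P ⟶ (L i).X 0) i (z i)) =
        Φ P (fun i => (L i).X 0)
          (DirectSum.map (fun i => Preadditive.rightComp P ((L i).d (-1) 0)) ν) := by
      rw [Φ_map, hν]
      refine Eq.trans ?_ hv.symm
      unfold Φ
      rw [toAddMonoid_sum_of]
      rfl
    have e4 := (h0 (fun i => (L i).X 0)).1 e3
    ext i
    by_cases hi : i ∈ DFinsupp.support γ
    · have e5 := DFunLike.congr_fun e4 i
      rw [sum_of_apply _ z i hi, DirectSum.map_apply] at e5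
      rw [← hzγ i]
      exact (cls0_eq_zero_iff_of_kproj P (z i) (hz i)).2 ⟨ν i, e5.symm⟩
    · simpa using hi
  · intro t
    obtain ⟨x, hx, e4⟩ := cls0_surjective_of_kproj P (L := cK L) t
    obtain ⟨ξ, hξ⟩ := (h0 (fun i => (L i).X 0)).2 x
    have hξd : ∀ i, ξ i ≫ (L i).d 0 1 = 0 := by
      have h1 : Φ P (fun i => (L i).X 1)
          (DirectSum.map (fun i => Preadditive.rightComp P ((L i).d 0 1)) ξ) = 0 := by
        rw [Φ_map, hξ]
        exact hx
      have h2 := (h0 (fun i => (L i).X 1)).1 (h1.trans (map_zero _).symm)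
      intro i
      have h3 := DFunLike.congr_fun h2 i
      rw [DirectSum.map_apply] at h3
      exact h3
    refine ⟨∑ i ∈ DFinsupp.support ξ,
      DirectSum.of _ i (cls0 P (L i) (ξ i) (hξd i)), ?_⟩
    rw [toAddMonoid_sum_of, ← e4]
    have hx2 : x = ∑ i ∈ DFinsupp.support ξ, ξ i ≫ (inK L i).f 0 := by
      rw [← hξ]
      exact toAddMonoid_eq_sum _ ξ
    subst hx2
    rw [cls0_sum (DFinsupp.support ξ) (fun i => ξ i ≫ (inK L i).f 0)
      (fun i => hcyc i (ξ i) (hξd i))]
    refine Finset.sum_congr rfl (fun i _ => ?_)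
    exact cls0_postcomp (inK L i) (ξ i) (hξd i)

end Main

end Groth.Agent.Helper3.CompDer
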