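import Mathlib
import Groth.Prelude.Def_CohDer
import Groth.Agent.Lib.Helper3.Compact

/-!
# Maps from compact objects factor through finite envelopes (helper3)

`fact_base`, `fact_step`: in a tower built from coproducts of shifts of compact objects `E i`,
every map from a compact object factors through an object of the triangulated envelope of a
finite subfamily.
-/

set_option autoImplicit false
set_option linter.unusedSectionVars false
universe v u

open CategoryTheory CategoryTheory.Limits CategoryTheory.Pretriangulated Opposite ZeroObject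

namespace Groth.Agent.Helper3.CompactEnv

open Groth.Agent.Helper3.Compact

variable {D : Type u} [Category.{v} D] [Preadditive D] [HasZeroObject D] [HasShift D ℤ]
  [∀ n : ℤ, (shiftFunctor D n).Additive] [Pretriangulated D] [HasCoproducts.{v} D]

section FiniteFactor

/-- the inclusion of a finite subsum -/
noncomputable def jS {κ : Type v} (Z : κ → D) (S : Finset κ) :
    (∐ fun k : S => Z k.1) ⟶ ∐ Z :=
  Sigma.desc (fun k : S => Sigma.ι Z k.1)

lemma exists_factor {κ : Type v} (Z : κ → D) {C : D} (hC : CohDer.IsCompactObject C)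
    (ψ : C ⟶ ∐ Z) : ∃ (S : Finset κ) (g : C ⟶ ∐ fun k : S => Z k.1), g ≫ jS Z S = ψ := by
  obtain ⟨S, g, hg⟩ := (isCompact_iff C).1 hC κ Z ψ
  refine ⟨S, ∑ k : S, g k.1 ≫ Sigma.ι (fun k : S => Z k.1) k, ?_⟩
  rw [jS, Preadditive.sum_comp, hg]
  simp only [Category.assoc, Sigma.ι_desc]
  exact Finset.sum_coe_sort S (fun k => g k ≫ Sigma.ι Z k)

lemma exists_factor_shift {κ : Type v} (Z : κ → D) {C : D} (hC : CohDer.IsCompactObject C)
    (ψ : C ⟶ (∐ Z)⟦(1 : ℤ)⟧) :
    ∃ (S : Finset κ) (g : C ⟶ (∐ fun k : S => Z k.1)⟦(1 : ℤ)⟧),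
      g ≫ (shiftFunctor D (1 : ℤ)).map (jS Z S) = ψ := by
  let e : (C⟦(-1 : ℤ)⟧)⟦(1 : ℤ)⟧ ≅ C := (shiftFunctorCompIsoId D (-1 : ℤ) 1 (by omega)).app C
  obtain ⟨ψ', hψ'⟩ := (shiftFunctor D (1 : ℤ)).map_surjective (e.hom ≫ ψ)
  obtain ⟨S, g', hg'⟩ := exists_factor Z (compact_shift hC (-1)) ψ'
  refine ⟨S, e.inv ≫ (shiftFunctor D (1 : ℤ)).map g', ?_⟩
  rw [Category.assoc, ← Functor.map_comp, hg', hψ', Iso.inv_hom_id_assoc]

end FiniteFactor

section Env

variable [IsTriangulated D] {ι : Type v} (E : ι → D)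

/-- the finite subfamily indexed by `s` -/
def Pfin (s : Finset ι) : ObjectProperty D := fun Y => ∃ i ∈ s, Y = E i

/-- the triangulated envelope of a finite subfamily -/
abbrev Env (s : Finset ι) : ObjectProperty D := (Pfin E s).triangEnvelope

lemma Env_mono {s t : Finset ι} (h : s ⊆ t) : Env E s ≤ Env E t :=
  ObjectProperty.monotone_triangEnvelope (fun _ ⟨i, hi, e⟩ => ⟨i, h hi, e⟩)

lemma Pfin_nonempty {s : Finset ι} (hs : s.Nonempty) : (Pfin E s).Nonempty := by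
  obtain ⟨i, hi⟩ := hs
  exact ⟨⟨E i, i, hi, rfl⟩⟩

lemma env_E {s : Finset ι} {i : ι} (hi : i ∈ s) : Env E s (E i) :=
  ObjectProperty.le_triangEnvelope _ _ ⟨i, hi, rfl⟩

lemma env_shift {s : Finset ι} {X : D} (h : Env E s X) (n : ℤ) : Env E s (X⟦n⟧) :=
  (Env E s).le_shift n _ h

lemma env_ext₃ {s : Finset ι} (hs : s.Nonempty) (T : Triangle D) (hT : T ∈ distTriang D)
    (h₁ : Env E s T.obj₁) (h₂ : Env E s T.obj₂) : Env E s T.obj₃ := by
  have := Pfin_nonempty E hs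
  exact (Env E s).ext_of_isTriangulatedClosed₃ T hT h₁ h₂

lemma env_biprod {s : Finset ι} (hs : s.Nonempty) {X Y : D}
    (hX : Env E s X) (hY : Env E s Y) : Env E s (X ⊞ Y) := by
  have := Pfin_nonempty E hs
  exact (Env E s).prop_of_isLimit_binaryFan (BinaryBiproduct.isLimit X Y) hX hY

lemma env_coproduct {s : Finset ι} (hs : s.Nonempty) {J : Type v} [Finite J] (Z : J → D)
    (hZ : ∀ j, Env E s (Z j)) : Env E s (∐ Z) := by
  have := Pfin_nonempty E hs
  have h : Env E s (⨁ Z) := (Env E s).prop_of_isLimit_fan (biproduct.isLimit Z) hZ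
  exact (Env E s).prop_of_iso (biproduct.isoCoproduct Z) h

end Env

section Main

variable [IsTriangulated D] {ι : Type v} (E : ι → D)

lemma prop_finite_coproduct (P : ObjectProperty D) [P.IsTriangulated]
    [P.IsClosedUnderIsomorphisms] {J : Type v} [Finite J] (Z : J → D) (hZ : ∀ j, P (Z j)) :
    P (∐ Z) :=
  P.prop_of_iso (biproduct.isoCoproduct Z) (P.prop_of_isLimit_fan (biproduct.isLimit Z) hZ)

/-- every map from a compact object to `K` factors through the envelope of a finite subfamily -/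
def Fact (K : D) : Prop := ∀ (C : D), CohDer.IsCompactObject C → ∀ φ : C ⟶ K,
  ∃ (s : Finset ι) (_ : s.Nonempty) (E' : D) (g : C ⟶ E') (h : E' ⟶ K), Env E s E' ∧ g ≫ h = φ

lemma Fact.of_iso {K K' : D} (e : K ≅ K') (h : Fact E K) : Fact E K' := by
  intro C hC φ
  obtain ⟨s, hs, E', g, h', hE', hgh⟩ := h C hC (φ ≫ e.inv)
  exact ⟨s, hs, E', g, h' ≫ e.hom, hE', by rw [← Category.assoc, hgh]; simp⟩

variable (hc : ∀ i, CohDer.IsCompactObject (E i)) [Nonempty ι]

/-- the finite set of indices occurring in a finite subsum -/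
noncomputable def idx {κ : Type v} (a : κ → ι) (S : Finset κ) : Finset ι := by
  classical
  exact insert (Classical.arbitrary ι) (S.image a)

lemma idx_nonempty {κ : Type v} (a : κ → ι) (S : Finset κ) : (idx a S).Nonempty := by
  classical
  exact ⟨_, Finset.mem_insert_self _ _⟩

lemma mem_idx {κ : Type v} (a : κ → ι) (S : Finset κ) (k : S) : a k.1 ∈ idx a S := by
  classical
  exact Finset.mem_insert_of_mem (Finset.mem_image_of_mem a k.2)

lemma env_finsum {κ : Type v} (a : κ → ι) (m : κ → ℤ) (S : Finset κ) :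
    Env E (idx a S) (∐ fun k : S => (E (a k.1))⟦m k.1⟧) :=
  env_coproduct E (idx_nonempty a S) _ (fun k => env_shift E (env_E E (mem_idx a S k)) _)

include hc in
lemma compact_finsum {κ : Type v} (a : κ → ι) (m : κ → ℤ) (S : Finset κ) :
    CohDer.IsCompactObject (∐ fun k : S => (E (a k.1))⟦m k.1⟧) :=
  prop_finite_coproduct compactProp _ (fun _ => compact_shift (hc _) _)

lemma fact_base {κ : Type v} (a : κ → ι) (m : κ → ℤ) :
    Fact E (∐ fun k => (E (a k))⟦m k⟧) := by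
  intro C hC φ
  obtain ⟨S, g, hg⟩ := exists_factor (fun k => (E (a k))⟦m k⟧) hC φ
  exact ⟨idx a S, idx_nonempty a S, (∐ fun k : S => (E (a k.1))⟦m k.1⟧), g,
    jS (fun k => (E (a k))⟦m k⟧) S, env_finsum E a m S, hg⟩

include hc in
lemma fact_step {κ : Type v} (a : κ → ι) (m : κ → ℤ) {K K' : D}
    (y : (∐ fun k => (E (a k))⟦m k⟧) ⟶ K) (f : K ⟶ K')
    (z : K' ⟶ (∐ fun k => (E (a k))⟦m k⟧)⟦(1 : ℤ)⟧)
    (hT : Triangle.mk y f z ∈ distTriang D) (hK : Fact E K) : Fact E K' := by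
  classical
  intro C hC φ
  -- step 1: factor `φ ≫ z` through a finite subsum
  obtain ⟨S, g₁, hg₁⟩ := exists_factor_shift (fun k => (E (a k))⟦m k⟧) hC (φ ≫ z)
  let F : D := ∐ fun k : S => (E (a k.1))⟦m k.1⟧
  let j : F ⟶ ∐ fun k => (E (a k))⟦m k⟧ := jS (fun k => (E (a k))⟦m k⟧) S
  have hF : Env E (idx a S) F := env_finsum E a m S
  have hFc : CohDer.IsCompactObject F := compact_finsum E hc a m S
  -- step 2: the fibre of `g₁`
  obtain ⟨C', d', c, hT₁⟩ := distinguished_cocone_triangle₂ (g₁ : C ⟶ F⟦(1 : ℤ)⟧)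
  have hC' : CohDer.IsCompactObject C' := compact_ext _ hT₁ hFc hC
  -- step 3: map to `K`
  obtain ⟨ψ, hψ₁, hψ₂⟩ : ∃ ψ : C' ⟶ K, d' ≫ ψ = j ≫ y ∧ c ≫ φ = ψ ≫ f :=
    complete_distinguished_triangle_morphism₂ _ _ hT₁ hT j φ hg₁
  obtain ⟨sψ, hsψ, Eψ, gψ, hψ', hEψ, hgψ⟩ := hK C' hC' ψ
  -- step 4: the cone of `d' ≫ gψ`
  obtain ⟨E', p, q, hT₂⟩ := distinguished_cocone_triangle (d' ≫ gψ)
  let s' : Finset ι := idx a S ∪ sψ
  have hs' : s'.Nonempty := (idx_nonempty a S).mono Finset.subset_union_left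
  have hF' : Env E s' F := Env_mono E Finset.subset_union_left _ hF
  have hEψ' : Env E s' Eψ := Env_mono E Finset.subset_union_right _ hEψ
  have hE' : Env E s' E' := env_ext₃ E hs' _ hT₂ hF' hEψ'
  -- step 5: maps `C ⟶ E' ⟶ K'`
  obtain ⟨g, hg⟩ : ∃ g : C ⟶ E', c ≫ g = gψ ≫ p := by
    obtain ⟨g, hg, -⟩ := Pretriangulated.complete_distinguished_triangle_morphism _ _ hT₁ hT₂
      (𝟙 F) gψ (by change d' ≫ gψ = 𝟙 F ≫ d' ≫ gψ; rw [Category.id_comp])
    exact ⟨g, hg⟩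
  obtain ⟨h, hh⟩ : ∃ h : E' ⟶ K', p ≫ h = hψ' ≫ f := by
    obtain ⟨h, hh, -⟩ := Pretriangulated.complete_distinguished_triangle_morphism _ _ hT₂ hT
      j hψ' (by change (d' ≫ gψ) ≫ hψ' = j ≫ y; rw [Category.assoc, hgψ, hψ₁])
    exact ⟨h, hh⟩
  -- step 6: the difference factors through `g₁`
  have hΔ : c ≫ (φ - g ≫ h) = 0 := by
    rw [Preadditive.comp_sub, hψ₂, ← Category.assoc, hg, Category.assoc, hh, ← Category.assoc,
      hgψ, sub_self]
  obtain ⟨θ, hθ⟩ : ∃ θ : F⟦(1 : ℤ)⟧ ⟶ K', φ - g ≫ h = g₁ ≫ θ :=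
    Triangle.yoneda_exact₃ _ hT₁ (φ - g ≫ h) hΔ
  refine ⟨s', hs', E' ⊞ F⟦(1 : ℤ)⟧, biprod.lift g g₁, biprod.desc h θ,
    env_biprod E hs' hE' (env_shift E hF' 1), ?_⟩
  rw [biprod.lift_desc, ← hθ]
  abel

end Main

end Groth.Agent.Helper3.CompactEnv
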