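import Mathlib
import Groth.Prelude.Def_CohDer
import Groth.Prelude.Def_DerLim
import Groth.Agent.Lib.Helper3.Compact

/-!
# Compact objects and homotopy colimits (helper3)

`compact_claimA`: `𝟙 - shift` is injective on maps from a compact object into `∐ K`.
`exists_factor_hocolim`: a map from a compact object to a homotopy colimit factors through a
finite stage.
-/

set_option autoImplicit false
set_option linter.unusedSectionVars false
universe v u

open CategoryTheory CategoryTheory.Limits CategoryTheory.Pretriangulated Opposite ZeroObject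

namespace Groth.Agent.Helper3.CompactHocolim

open Groth.Agent.Helper3.Compact

variable {D : Type u} [Category.{v} D] [Preadditive D] [HasZeroObject D] [HasShift D ℤ]
  [∀ n : ℤ, (shiftFunctor D n).Additive] [Pretriangulated D] [HasCoproducts.{v} D]

section ULiftTower

/-! towers indexed by `ℕ` when coproducts are indexed by types in `Type v` -/

variable [HasColimitsOfShape (Discrete ℕ) D]

/-- a map from a compact object to a countable coproduct has finite support -/
lemma exists_finset_nat {P : D} (hP : CohDer.IsCompactObject P) (K : ℕ → D) (g : P ⟶ ∐ K) :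
    ∃ S : Finset ℕ, g = ∑ n ∈ S, (g ≫ Sigma.π K n) ≫ Sigma.ι K n := by
  classical
  let K' : ULift.{v} ℕ → D := fun m => K m.down
  let r : ∐ K ⟶ ∐ K' := Sigma.desc (fun n => Sigma.ι K' ⟨n⟩)
  let r' : ∐ K' ⟶ ∐ K := Sigma.desc (fun m => Sigma.ι K m.down)
  have hrr' : r ≫ r' = 𝟙 _ := by
    apply Sigma.hom_ext
    intro n
    simp [r, r', K']
  obtain ⟨S, x, hx⟩ := (isCompact_iff P).1 hP _ K' (g ≫ r)
  have h1 : g = ∑ m ∈ S, x m ≫ Sigma.ι K m.down := by
    have : g = (g ≫ r) ≫ r' := by rw [Category.assoc, hrr', Category.comp_id]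
    rw [this, hx, Preadditive.sum_comp]
    apply Finset.sum_congr rfl
    intro m _
    simp [r', K']
  refine ⟨S.image ULift.down, ?_⟩
  rw [Finset.sum_image (fun a _ b _ h => ULift.ext a b h)]
  conv_lhs => rw [h1]
  apply Finset.sum_congr rfl
  intro m hm
  congr 1
  rw [h1, Preadditive.sum_comp, Finset.sum_eq_single m]
  · rw [Category.assoc, Sigma.ι_π_eq_id]
    exact (Category.comp_id _).symm
  · intro m' _ hm'
    have : m'.down ≠ m.down := fun h => hm' (ULift.ext _ _ h)
    rw [Category.assoc, Sigma.ι_π_of_ne _ this, comp_zero]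
  · intro h
    exact absurd hm h

variable (K : ℕ → D) (f : ∀ n, K n ⟶ K (n + 1))

lemma shiftMap_π_zero : DerLim.shiftMap K f ≫ Sigma.π K 0 = 0 := by
  apply Sigma.hom_ext
  intro n
  simp only [DerLim.shiftMap, Sigma.ι_desc_assoc, Category.assoc, comp_zero]
  rw [Sigma.ι_π_of_ne _ (Nat.succ_ne_zero n), comp_zero]

lemma shiftMap_π_succ (k : ℕ) :
    DerLim.shiftMap K f ≫ Sigma.π K (k + 1) = Sigma.π K k ≫ f k := by
  apply Sigma.hom_ext
  intro n
  simp only [DerLim.shiftMap, Sigma.ι_desc_assoc, Category.assoc]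
  by_cases h : n = k
  · subst h
    simp
  · have h' : n + 1 ≠ k + 1 := fun h' => h (Nat.succ_injective h')
    rw [Sigma.ι_π_of_ne _ h', comp_zero, Sigma.ι_π_of_ne_assoc _ h, zero_comp]

/-- `𝟙 - shift` is injective on maps from compact objects -/
lemma compact_claimA {P : D} (hP : CohDer.IsCompactObject P) (g : P ⟶ ∐ K)
    (hg : g ≫ DerLim.shiftMap K f = g) : g = 0 := by
  have h0 : ∀ k, g ≫ Sigma.π K k = 0 := by
    intro k
    induction k with
    | zero => rw [← hg, Category.assoc, shiftMap_π_zero, comp_zero]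
    | succ k ih =>
      rw [← hg, Category.assoc, shiftMap_π_succ, ← Category.assoc, ih, zero_comp]
  obtain ⟨S, hS⟩ := exists_finset_nat hP K g
  rw [hS]
  apply Finset.sum_eq_zero
  intro n _
  rw [h0, zero_comp]

end ULiftTower

section Hocolim

variable [HasColimitsOfShape (Discrete ℕ) D] (K : ℕ → D) (f : ∀ n, K n ⟶ K (n + 1))
  (L : D) (i : ∀ n, K n ⟶ L) (hL : DerLim.IsHocolim K f L i)

include hL in
lemma i_eq (n : ℕ) : i n = f n ≫ i (n + 1) := by
  obtain ⟨c, hT⟩ := hL
  have h : (𝟙 (∐ K) - DerLim.shiftMap K f) ≫ Sigma.desc i = 0 :=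
    comp_distTriang_mor_zero₁₂ _ hT
  have h2 := Sigma.ι K n ≫= h
  rw [Preadditive.sub_comp, Preadditive.comp_sub, Category.id_comp, comp_zero, sub_eq_zero] at h2
  simpa [DerLim.shiftMap] using h2

include hL in
lemma exists_factor_range {X : D} (N : ℕ) (a : ∀ n, X ⟶ K n) :
    ∃ u : X ⟶ K N, u ≫ i N = ∑ n ∈ Finset.range (N + 1), a n ≫ i n := by
  induction N with
  | zero => exact ⟨a 0, by simp⟩
  | succ N ih =>
    obtain ⟨u, hu⟩ := ih
    refine ⟨u ≫ f N + a (N + 1), ?_⟩
    rw [Finset.sum_range_succ, ← hu, Preadditive.add_comp, Category.assoc,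
      ← i_eq K f L i hL N]

include hL in
/-- a map from a compact object to a homotopy colimit factors through a finite stage -/
lemma exists_factor_hocolim {X : D} (hX : CohDer.IsCompactObject X) (φ : X ⟶ L) :
    ∃ (N : ℕ) (u : X ⟶ K N), u ≫ i N = φ := by
  classical
  have hL' := hL
  obtain ⟨c, hT⟩ := hL
  -- step 1
  have h1 : φ ≫ c = 0 := by
    let e : (X⟦(-1 : ℤ)⟧)⟦(1 : ℤ)⟧ ≅ X := (shiftFunctorCompIsoId D (-1 : ℤ) 1 (by omega)).app X
    obtain ⟨g, hg⟩ := (shiftFunctor D (1 : ℤ)).map_surjective (e.hom ≫ φ ≫ c)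
    have hg0 : g = 0 := by
      apply compact_claimA K f (compact_shift hX (-1)) g
      have h2 : g ≫ (𝟙 _ - DerLim.shiftMap K f) = 0 := by
        apply (shiftFunctor D (1 : ℤ)).map_injective
        rw [Functor.map_comp, hg, Functor.map_zero, Category.assoc, Category.assoc]
        have h3 : c ≫ (shiftFunctor D (1 : ℤ)).map (𝟙 _ - DerLim.shiftMap K f) = 0 :=
          comp_distTriang_mor_zero₃₁ _ hT
        rw [h3, comp_zero, comp_zero]
      rw [Preadditive.comp_sub, Category.comp_id, sub_eq_zero] at h2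
      exact h2.symm
    rw [hg0, Functor.map_zero] at hg
    have h3 : e.inv ≫ e.hom ≫ φ ≫ c = 0 := by rw [← hg, comp_zero]
    simpa using h3
  -- step 2
  obtain ⟨σ, hσ⟩ : ∃ σ : X ⟶ ∐ K, φ = σ ≫ Sigma.desc i := Triangle.coyoneda_exact₃ _ hT φ h1
  obtain ⟨S, hS⟩ := exists_finset_nat hX K σ
  let N := S.sup id
  obtain ⟨u, hu⟩ := exists_factor_range K f L i hL' N
    (fun n => if n ∈ S then σ ≫ Sigma.π K n else 0)
  refine ⟨N, u, ?_⟩
  rw [hu, hσ]
  conv_rhs => rw [hS]
  rw [Preadditive.sum_comp]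
  have hsub : S ⊆ Finset.range (N + 1) := by
    intro n hn
    rw [Finset.mem_range]
    exact Nat.lt_succ_of_le (Finset.le_sup (f := id) hn)
  rw [← Finset.sum_subset hsub]
  · apply Finset.sum_congr rfl
    intro n hn
    simp [hn]
  · intro n _ hn
    simp [hn]

end Hocolim

end Groth.Agent.Helper3.CompactHocolim
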