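import Mathlib
import Groth.Prelude.Def_MultCurve
import Groth.Prelude.Def_Pic
import Groth.Agent.Lib.Lead.IdM7
import Groth.Agent.Lib.Lead.Rib2

/-!
# Principal of order two ⇔ the conormal sheaf is invertible (helper3)
-/

set_option autoImplicit false
set_option backward.isDefEq.respectTransparency.types false
set_option linter.style.haveILetI false
set_option linter.unusedSectionVars false
set_option synthInstance.maxHeartbeats 400000
set_option maxHeartbeats 4000000
universe u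
open CategoryTheory CategoryTheory.Limits AlgebraicGeometry TopologicalSpace Opposite TensorProduct

namespace Groth.Agent.Helper3.ConInv

section Alg

variable {B A : Type u} [CommRing B] [CommRing A] [Algebra B A]

theorem smul_eq_of_map_eq
    (hKK : RingHom.ker (algebraMap B A) * RingHom.ker (algebraMap B A) = ⊥)
    {b b' : B} (h : algebraMap B A b = algebraMap B A b') (k : RingHom.ker (algebraMap B A)) :
    b • k = b' • k := by
  have h1 : b - b' ∈ RingHom.ker (algebraMap B A) := by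
    rw [RingHom.mem_ker, map_sub, h, sub_self]
  have h2 : (b - b') * (k : B) ∈
      RingHom.ker (algebraMap B A) * RingHom.ker (algebraMap B A) :=
    Ideal.mul_mem_mul h1 k.2
  rw [hKK, Ideal.mem_bot] at h2
  apply Subtype.ext
  show b * (k : B) = b' * (k : B)
  have h3 : b * (k : B) - b' * (k : B) = 0 := by rw [← sub_mul]; exact h2
  exact sub_eq_zero.mp h3

noncomputable def act (hs : Function.Surjective (algebraMap B A)) (a : A)
    (k : RingHom.ker (algebraMap B A)) : RingHom.ker (algebraMap B A) :=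
  (Classical.choose (hs a)) • k

theorem act_eq (hs : Function.Surjective (algebraMap B A))
    (hKK : RingHom.ker (algebraMap B A) * RingHom.ker (algebraMap B A) = ⊥)
    {a : A} {b : B} (h : algebraMap B A b = a) (k : RingHom.ker (algebraMap B A)) :
    act hs a k = b • k :=
  smul_eq_of_map_eq hKK ((Classical.choose_spec (hs a)).trans h.symm) k

noncomputable def rho (hs : Function.Surjective (algebraMap B A))
    (hKK : RingHom.ker (algebraMap B A) * RingHom.ker (algebraMap B A) = ⊥) :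
    A ⊗[B] RingHom.ker (algebraMap B A) →ₗ[B] RingHom.ker (algebraMap B A) :=
  TensorProduct.lift (LinearMap.mk₂ B (act hs)
    (fun a₁ a₂ k => by
      obtain ⟨b₁, rfl⟩ := hs a₁
      obtain ⟨b₂, rfl⟩ := hs a₂
      rw [act_eq hs hKK (map_add (algebraMap B A) b₁ b₂) k, act_eq hs hKK (b := b₁) rfl k,
        act_eq hs hKK (b := b₂) rfl k, add_smul])
    (fun c a k => by
      obtain ⟨b, rfl⟩ := hs a
      have h1 : algebraMap B A (c * b) = c • algebraMap B A b := by
        rw [map_mul, Algebra.smul_def]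
      rw [act_eq hs hKK h1 k, act_eq hs hKK (b := b) rfl k, mul_smul])
    (fun a k₁ k₂ => by
      obtain ⟨b, rfl⟩ := hs a
      rw [act_eq hs hKK (b := b) rfl, act_eq hs hKK (b := b) rfl, act_eq hs hKK (b := b) rfl,
        smul_add])
    (fun c a k => by
      obtain ⟨b, rfl⟩ := hs a
      rw [act_eq hs hKK (b := b) rfl, act_eq hs hKK (b := b) rfl, smul_comm]))

theorem rho_tmul (hs : Function.Surjective (algebraMap B A))
    (hKK : RingHom.ker (algebraMap B A) * RingHom.ker (algebraMap B A) = ⊥)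
    (b : B) (k : RingHom.ker (algebraMap B A)) :
    rho hs hKK (algebraMap B A b ⊗ₜ[B] k) = b • k := by
  unfold rho
  rw [TensorProduct.lift.tmul]
  exact act_eq hs hKK rfl k

theorem rho_one_tmul (hs : Function.Surjective (algebraMap B A))
    (hKK : RingHom.ker (algebraMap B A) * RingHom.ker (algebraMap B A) = ⊥)
    (k : RingHom.ker (algebraMap B A)) :
    rho hs hKK ((1 : A) ⊗ₜ[B] k) = k := by
  unfold rho
  rw [TensorProduct.lift.tmul]
  exact (act_eq hs hKK (b := 1) (map_one _) k).trans (one_smul _ _)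

theorem exists_equiv_of_principal (hs : Function.Surjective (algebraMap B A))
    (hKK : RingHom.ker (algebraMap B A) * RingHom.ker (algebraMap B A) = ⊥) (z : B)
    (hz : RingHom.ker (algebraMap B A) = Ideal.span {z})
    (hann : ∀ a : B, a * z = 0 → a ∈ RingHom.ker (algebraMap B A)) :
    Nonempty (A ≃ₗ[A] A ⊗[B] RingHom.ker (algebraMap B A)) := by
  have hzK : z ∈ RingHom.ker (algebraMap B A) := by
    rw [hz]; exact Ideal.mem_span_singleton_self z
  let z' : RingHom.ker (algebraMap B A) := ⟨z, hzK⟩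
  let f : A →ₗ[A] A ⊗[B] RingHom.ker (algebraMap B A) :=
    LinearMap.toSpanSingleton A (A ⊗[B] RingHom.ker (algebraMap B A)) ((1 : A) ⊗ₜ[B] z')
  have hf : ∀ a : A, f a = a ⊗ₜ[B] z' := fun a => by
    show a • ((1 : A) ⊗ₜ[B] z') = _
    rw [TensorProduct.smul_tmul', smul_eq_mul, mul_one]
  have hinj : Function.Injective f := by
    rw [injective_iff_map_eq_zero]
    intro a ha
    obtain ⟨b, rfl⟩ := hs a
    rw [hf] at ha
    have h1 := congrArg (rho hs hKK) ha
    rw [rho_tmul, map_zero] at h1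
    have h2 : b * z = 0 := congrArg Subtype.val h1
    exact (RingHom.mem_ker).1 (hann b h2)
  have hsurj : Function.Surjective f := by
    intro t
    induction t using TensorProduct.induction_on with
    | zero => exact ⟨0, map_zero f⟩
    | tmul a k =>
      have hk2 : (k : B) ∈ Ideal.span {z} := by rw [← hz]; exact k.2
      obtain ⟨c, hc⟩ := Ideal.mem_span_singleton'.1 hk2
      refine ⟨c • a, ?_⟩
      have hk : k = c • z' := Subtype.ext hc.symm
      rw [hf, hk, TensorProduct.smul_tmul]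
    | add t₁ t₂ h₁ h₂ =>
      obtain ⟨a₁, rfl⟩ := h₁
      obtain ⟨a₂, rfl⟩ := h₂
      exact ⟨a₁ + a₂, map_add f a₁ a₂⟩
  exact ⟨LinearEquiv.ofBijective f ⟨hinj, hsurj⟩⟩

theorem one_tmul_surjective (hs : Function.Surjective (algebraMap B A))
    (t : A ⊗[B] RingHom.ker (algebraMap B A)) :
    ∃ k : RingHom.ker (algebraMap B A), (1 : A) ⊗ₜ[B] k = t := by
  induction t using TensorProduct.induction_on with
  | zero => exact ⟨0, by rw [TensorProduct.tmul_zero]⟩
  | tmul a k =>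
    obtain ⟨b, rfl⟩ := hs a
    refine ⟨b • k, ?_⟩
    rw [Algebra.algebraMap_eq_smul_one, TensorProduct.smul_tmul]
  | add t₁ t₂ h₁ h₂ =>
    obtain ⟨k₁, rfl⟩ := h₁
    obtain ⟨k₂, rfl⟩ := h₂
    exact ⟨k₁ + k₂, by rw [TensorProduct.tmul_add]⟩

theorem exists_principal_of_equiv (hs : Function.Surjective (algebraMap B A))
    (hKK : RingHom.ker (algebraMap B A) * RingHom.ker (algebraMap B A) = ⊥)
    (θ : (A ⊗[B] RingHom.ker (algebraMap B A)) ≃ₗ[A] A) :
    ∃ z : B, RingHom.ker (algebraMap B A) = Ideal.span {z} ∧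
      ∀ a : B, a * z = 0 → a ∈ RingHom.ker (algebraMap B A) := by
  obtain ⟨z', hz'⟩ := one_tmul_surjective hs (θ.symm 1)
  have key : ∀ a : A, θ.symm a = a ⊗ₜ[B] z' := by
    intro a
    have h1 : θ.symm a = a • θ.symm 1 := by
      have := map_smul θ.symm a (1 : A)
      rw [smul_eq_mul, mul_one] at this
      exact this
    rw [h1, ← hz', TensorProduct.smul_tmul', smul_eq_mul, mul_one]
  refine ⟨(z' : B), le_antisymm ?_ ?_, ?_⟩
  · intro k hk
    obtain ⟨b, hb⟩ := hs (θ ((1 : A) ⊗ₜ[B] (⟨k, hk⟩ : RingHom.ker (algebraMap B A))))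
    have h3 : θ.symm (θ ((1 : A) ⊗ₜ[B] (⟨k, hk⟩ : RingHom.ker (algebraMap B A)))) =
        algebraMap B A b ⊗ₜ[B] z' := by
      rw [← hb]; exact key _
    rw [LinearEquiv.symm_apply_apply] at h3
    have h2 : (1 : A) ⊗ₜ[B] (⟨k, hk⟩ : RingHom.ker (algebraMap B A)) =
        (1 : A) ⊗ₜ[B] (b • z') := by
      rw [h3, Algebra.algebraMap_eq_smul_one, TensorProduct.smul_tmul]
    have h4 := congrArg (rho hs hKK) h2
    rw [rho_one_tmul, rho_one_tmul] at h4
    have h5 : k = b * (z' : B) := congrArg Subtype.val h4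
    rw [h5]
    exact Ideal.mul_mem_left _ _ (Ideal.mem_span_singleton_self _)
  · rw [Ideal.span_singleton_le_iff_mem]
    exact z'.2
  · intro a ha
    have h1 : θ.symm (algebraMap B A a) = 0 := by
      rw [key, Algebra.algebraMap_eq_smul_one, TensorProduct.smul_tmul]
      have h0 : a • z' = 0 := Subtype.ext ha
      rw [h0, TensorProduct.tmul_zero]
    have h2 := congrArg θ h1
    rw [LinearEquiv.apply_symm_apply, map_zero] at h2
    exact (RingHom.mem_ker).2 h2

end Alg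

section Sch

/-- for a surjective closed immersion every open is a preimage. -/
theorem exists_preimage_eq {D C' : Scheme.{u}} (j : D ⟶ C') [IsClosedImmersion j]
    (hsurj : Function.Surjective j) (V : D.Opens) : ∃ U' : C'.Opens, V = j ⁻¹ᵁ U' := by
  let h : D ≃ₜ C' := (j.isClosedEmbedding.isEmbedding).toHomeomorphOfSurjective hsurj
  refine ⟨⟨h '' (V : Set D), h.isOpenMap _ V.isOpen⟩, ?_⟩
  refine SetLike.ext fun y => ⟨fun hy => ?_, fun hy => ?_⟩
  · exact ⟨y, hy, rfl⟩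
  · have hy2 : j y ∈ h '' (V : Set D) := hy
    obtain ⟨y', hy', hyy⟩ := hy2
    have h3 : y' = y := h.injective hyy
    exact h3 ▸ hy'

/-- a trivialisation along an open immersion restricts to any open immersion with smaller range -/
theorem restrict_iso_unit_of_range_le {Y Z Z' : Scheme.{u}} (M : Y.Modules) (j : Z ⟶ Y)
    [IsOpenImmersion j] (e : M.restrict j ≅ SheafOfModules.unit Z.ringCatSheaf)
    (j' : Z' ⟶ Y) [IsOpenImmersion j'] (H : Set.range j' ⊆ Set.range j) :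
    Nonempty (M.restrict j' ≅ SheafOfModules.unit Z'.ringCatSheaf) := by
  have hl : IsOpenImmersion.lift j j' H ≫ j = j' := IsOpenImmersion.lift_fac j j' H
  haveI : IsOpenImmersion (IsOpenImmersion.lift j j' H) := by
    haveI : IsOpenImmersion (IsOpenImmersion.lift j j' H ≫ j) := by rw [hl]; infer_instance
    exact IsOpenImmersion.of_comp (IsOpenImmersion.lift j j' H) j
  exact ⟨(Scheme.Modules.restrictFunctorCongr hl.symm).app M ≪≫
    (Scheme.Modules.restrictFunctorComp (IsOpenImmersion.lift j j' H) j).app M ≪≫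
    (Scheme.Modules.restrictFunctor (IsOpenImmersion.lift j j' H)).mapIso e ≪≫
    Scheme.Modules.restrictUnitIso (IsOpenImmersion.lift j j' H)⟩

theorem ideal_mul_self_eq_bot {C : Scheme.{u}} (I : C.IdealSheafData) (hI : I ^ 2 = ⊥)
    (U : C.affineOpens) : I.ideal U * I.ideal U = ⊥ := by
  have h2 : (I ^ 2).ideal U = (⊥ : C.IdealSheafData).ideal U := by rw [hI]
  have h3 : (I.ideal U) ^ 2 = ⊥ := h2
  rw [pow_two] at h3
  exact h3

theorem forward (C : Scheme.{u}) (I : C.IdealSheafData) (hI : I ^ 2 = ⊥)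
    (h : MultCurve.IsPrincipalOfOrder I 2) :
    PicF.IsInvertible (Omega.conormal I.subschemeι) := by
  intro y
  obtain ⟨U, hxU, z, hz, hann⟩ := h (I.subschemeι y)
  have hV : IsAffineOpen (I.subschemeι ⁻¹ᵁ U.1) := U.2.preimage I.subschemeι
  letI := (I.subschemeι.appLE U.1 (I.subschemeι ⁻¹ᵁ U.1) le_rfl).hom.toAlgebra
  obtain ⟨e2⟩ := Groth.Agent.Lead.IdM.conormal_restrict_affine I.subschemeι U.2 hV
  have hK : RingHom.ker (algebraMap Γ(C, U.1) Γ(I.subscheme, I.subschemeι ⁻¹ᵁ U.1)) =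
      I.ideal U := by
    show RingHom.ker (I.subschemeι.appLE U.1 (I.subschemeι ⁻¹ᵁ U.1) le_rfl).hom = _
    rw [Scheme.Hom.appLE_eq_app]
    exact I.ker_subschemeι_app U
  have hs : Function.Surjective
      (algebraMap Γ(C, U.1) Γ(I.subscheme, I.subschemeι ⁻¹ᵁ U.1)) := by
    show Function.Surjective (I.subschemeι.appLE U.1 (I.subschemeι ⁻¹ᵁ U.1) le_rfl).hom
    rw [Scheme.Hom.appLE_eq_app]
    exact I.subschemeι_app_surjective U
  have hKK : RingHom.ker (algebraMap Γ(C, U.1) Γ(I.subscheme, I.subschemeι ⁻¹ᵁ U.1)) *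
      RingHom.ker (algebraMap Γ(C, U.1) Γ(I.subscheme, I.subschemeι ⁻¹ᵁ U.1)) = ⊥ := by
    rw [hK]; exact ideal_mul_self_eq_bot I hI U
  have hz' : RingHom.ker (algebraMap Γ(C, U.1) Γ(I.subscheme, I.subschemeι ⁻¹ᵁ U.1)) =
      Ideal.span {z} := hK.trans hz
  have hann' : ∀ a : Γ(C, U.1), a * z = 0 →
      a ∈ RingHom.ker (algebraMap Γ(C, U.1) Γ(I.subscheme, I.subschemeι ⁻¹ᵁ U.1)) := by
    intro a ha
    rw [hK]
    refine hann a ?_
    rw [show (2 - 1 : ℕ) = 1 from rfl, pow_one]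
    exact ha
  obtain ⟨eqv⟩ := exists_equiv_of_principal hs hKK z hz' hann'
  let e3 : (Omega.conormal I.subschemeι).restrict hV.fromSpec ≅
      SheafOfModules.unit (Spec Γ(I.subscheme, I.subschemeι ⁻¹ᵁ U.1)).ringCatSheaf :=
    e2 ≪≫ (tilde.functor Γ(I.subscheme, I.subschemeι ⁻¹ᵁ U.1)).mapIso eqv.symm.toModuleIso ≪≫
      tildeSelf
  have H : Set.range hV.fromSpec.opensRange.ι ⊆ Set.range hV.fromSpec := by
    intro p hp
    rw [Scheme.Opens.range_ι] at hp
    exact hp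
  obtain ⟨e4⟩ := restrict_iso_unit_of_range_le (Omega.conormal I.subschemeι) hV.fromSpec e3
    hV.fromSpec.opensRange.ι H
  refine ⟨hV.fromSpec.opensRange, ?_, ⟨e4⟩⟩
  rw [hV.opensRange_fromSpec]
  exact hxU

theorem backward (C : Scheme.{u}) (I : C.IdealSheafData) (hI : I ^ 2 = ⊥)
    (h : PicF.IsInvertible (Omega.conormal I.subschemeι)) :
    MultCurve.IsPrincipalOfOrder I 2 := by
  intro x
  have hI' : I.subschemeι.ker ^ 2 = ⊥ := by rw [I.ker_subschemeι]; exact hI
  have hsurj : Function.Surjective I.subschemeι :=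
    Groth.Agent.Lead.Rib2.surjective_of_sq I.subschemeι hI'
  obtain ⟨y, rfl⟩ := hsurj x
  obtain ⟨V, hyV, ⟨e⟩⟩ := h y
  obtain ⟨U₀, rfl⟩ := exists_preimage_eq I.subschemeι hsurj V
  have hy0 : I.subschemeι y ∈ U₀ := hyV
  obtain ⟨_, ⟨U, hU, rfl⟩, hxU, hUU₀⟩ :=
    C.isBasis_affineOpens.exists_subset_of_mem_open hy0 U₀.isOpen
  have hV' : IsAffineOpen (I.subschemeι ⁻¹ᵁ U) := hU.preimage I.subschemeι
  letI := (I.subschemeι.appLE U (I.subschemeι ⁻¹ᵁ U) le_rfl).hom.toAlgebra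
  obtain ⟨e2⟩ := Groth.Agent.Lead.IdM.conormal_restrict_affine I.subschemeι hU hV'
  have hK : RingHom.ker (algebraMap Γ(C, U) Γ(I.subscheme, I.subschemeι ⁻¹ᵁ U)) =
      I.ideal ⟨U, hU⟩ := by
    show RingHom.ker (I.subschemeι.appLE U (I.subschemeι ⁻¹ᵁ U) le_rfl).hom = _
    rw [Scheme.Hom.appLE_eq_app]
    exact I.ker_subschemeι_app ⟨U, hU⟩
  have hs : Function.Surjective
      (algebraMap Γ(C, U) Γ(I.subscheme, I.subschemeι ⁻¹ᵁ U)) := by
    show Function.Surjective (I.subschemeι.appLE U (I.subschemeι ⁻¹ᵁ U) le_rfl).hom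
    rw [Scheme.Hom.appLE_eq_app]
    exact I.subschemeι_app_surjective ⟨U, hU⟩
  have hKK : RingHom.ker (algebraMap Γ(C, U) Γ(I.subscheme, I.subschemeι ⁻¹ᵁ U)) *
      RingHom.ker (algebraMap Γ(C, U) Γ(I.subscheme, I.subschemeι ⁻¹ᵁ U)) = ⊥ := by
    rw [hK]; exact ideal_mul_self_eq_bot I hI ⟨U, hU⟩
  have H : Set.range hV'.fromSpec ⊆ Set.range (I.subschemeι ⁻¹ᵁ U₀).ι := by
    rw [hV'.range_fromSpec, Scheme.Opens.range_ι]
    intro p hp
    exact hUU₀ hp
  obtain ⟨e5⟩ := restrict_iso_unit_of_range_le (Omega.conormal I.subschemeι)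
    (I.subschemeι ⁻¹ᵁ U₀).ι e hV'.fromSpec H
  let e6 : tilde (R := Γ(I.subscheme, I.subschemeι ⁻¹ᵁ U))
      (ModuleCat.of Γ(I.subscheme, I.subschemeι ⁻¹ᵁ U)
        (Γ(I.subscheme, I.subschemeι ⁻¹ᵁ U) ⊗[Γ(C, U)]
          (RingHom.ker (algebraMap Γ(C, U) Γ(I.subscheme, I.subschemeι ⁻¹ᵁ U))))) ≅
      tilde (R := Γ(I.subscheme, I.subschemeι ⁻¹ᵁ U))
        (ModuleCat.of Γ(I.subscheme, I.subschemeι ⁻¹ᵁ U) Γ(I.subscheme, I.subschemeι ⁻¹ᵁ U)) :=
    e2.symm ≪≫ e5 ≪≫ tildeSelf.symm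
  let e7 : ModuleCat.of Γ(I.subscheme, I.subschemeι ⁻¹ᵁ U)
        (Γ(I.subscheme, I.subschemeι ⁻¹ᵁ U) ⊗[Γ(C, U)]
          (RingHom.ker (algebraMap Γ(C, U) Γ(I.subscheme, I.subschemeι ⁻¹ᵁ U)))) ≅
      ModuleCat.of Γ(I.subscheme, I.subschemeι ⁻¹ᵁ U) Γ(I.subscheme, I.subschemeι ⁻¹ᵁ U) :=
    (tilde.functor Γ(I.subscheme, I.subschemeι ⁻¹ᵁ U)).preimageIso e6
  let θ : (Γ(I.subscheme, I.subschemeι ⁻¹ᵁ U) ⊗[Γ(C, U)]
        (RingHom.ker (algebraMap Γ(C, U) Γ(I.subscheme, I.subschemeι ⁻¹ᵁ U))))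
      ≃ₗ[Γ(I.subscheme, I.subschemeι ⁻¹ᵁ U)] Γ(I.subscheme, I.subschemeι ⁻¹ᵁ U) :=
    e7.toLinearEquiv
  obtain ⟨z, hz, hann⟩ := exists_principal_of_equiv hs hKK θ
  refine ⟨⟨U, hU⟩, hxU, z, hK.symm.trans hz, fun a ha => ?_⟩
  rw [← hK]
  refine hann a ?_
  rw [show (2 - 1 : ℕ) = 1 from rfl, pow_one] at ha
  exact ha

end Sch

end Groth.Agent.Helper3.ConInv
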