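import Mathlib
import Groth.Prelude.Def_OmegaPn
import Groth.Agent.Lib.Lead.ConPb
import Groth.Agent.Lib.Lead.ConNbhd

/-!
# Base change of the conormal sheaf of a section

For a cartesian square `X = X' ×_{Z'} Z` with compatible sections `i' : Z' ⟶ X'`, `i : Z ⟶ X`
(closed immersions), the canonical map `gZ^* C_{Z'/X'} ⟶ C_{Z/X}` is an isomorphism
(no flatness needed: the ideal of a section is a direct summand).
-/

set_option autoImplicit false
set_option backward.isDefEq.respectTransparency.types false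
set_option linter.style.haveILetI false
set_option linter.unusedSectionVars false
set_option synthInstance.maxHeartbeats 400000
set_option maxHeartbeats 4000000

universe u
open CategoryTheory CategoryTheory.Limits AlgebraicGeometry TopologicalSpace Opposite

namespace Groth.Agent.Helper3.ConSec

open OmegaSh Groth.Agent.Lead.DerU Groth.Agent.Lead.IdM Groth.Agent.Lead.OmU
  Groth.Agent.Lead.BCU Groth.Agent.Lead.ConMap Groth.Agent.Lead.ConChart Groth.Agent.Lead.PbI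
  Groth.Agent.Lead.ConPb

section Alg

variable {R A C C' : Type u} [CommRing R] [CommRing A] [CommRing C] [CommRing C']
  (ρ : R →+* A) (π : A →+* C) (π' : R →+* C') (β : C' →+* C) (σ' : C' →+* R) (σ : C →+* A)
  (hπρ : π.comp ρ = β.comp π') (hσ' : π'.comp σ' = RingHom.id C')
  (hσ : π.comp σ = RingHom.id C) (hρσ : ρ.comp σ' = σ.comp β)
  (hpo : IsPushout (CommRingCat.ofHom σ') (CommRingCat.ofHom β)
    (CommRingCat.ofHom ρ) (CommRingCat.ofHom σ))
  {M' : Type u} [AddCommGroup M'] [Module R M'] (ι' : M' →ₗ[R] R) (hι' : Function.Injective ι')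
  (hr' : LinearMap.range ι' = RingHom.ker π')
  {M : Type u} [AddCommGroup M] [Module A M]
  (ι : M →ₗ[A] A) (hr : LinearMap.range ι = RingHom.ker π)
  (γ : M' → M) (hγ : ∀ m', ι (γ m') = ρ (ι' m'))
  {P : Type u} [AddCommGroup P] [Module C P] (L : M' → P) (hL : IsBC (π.comp ρ) L)
  {N : Type u} [AddCommGroup N] [Module C N] (l : M → N) (hl : IsBC π l)
  (φ : P →ₗ[C] N) (hφ : ∀ m', φ (L m') = l (γ m'))

include hπρ hσ' hσ hρσ hpo hι' hr' hr hγ hL hl hφ in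
/-- for compatible sections of a pushout square of rings the conormal module of the extended
ideal is the base change of the conormal module: injectivity of the comparison map. -/
theorem injective_of_section_isBC : Function.Injective φ := by
  letI algRA : Algebra R A := ρ.toAlgebra
  letI algAC : Algebra A C := π.toAlgebra
  letI algRC : Algebra R C := (π.comp ρ).toAlgebra
  haveI : IsScalarTower R A C := IsScalarTower.of_algebraMap_eq' rfl
  letI modRP : Module R P := Module.compHom P (π.comp ρ)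
  haveI : IsScalarTower R C P := ⟨fun a a' n => by
    change ((π.comp ρ) a * a') • n = (π.comp ρ) a • a' • n
    exact mul_smul _ _ _⟩
  letI modAN : Module A N := Module.compHom N π
  haveI : IsScalarTower A C N := ⟨fun a a' n => by
    change (π a * a') • n = π a • a' • n
    exact mul_smul _ _ _⟩
  obtain ⟨L', hL', hbL⟩ := hL
  obtain ⟨l', hl', hbl⟩ := hl
  letI algC'R : Algebra C' R := σ'.toAlgebra
  letI algC'C : Algebra C' C := β.toAlgebra
  letI algCA : Algebra C A := σ.toAlgebra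
  letI algC'A : Algebra C' A := (ρ.comp σ').toAlgebra
  haveI : IsScalarTower C' R A := IsScalarTower.of_algebraMap_eq' rfl
  haveI : IsScalarTower C' C A := IsScalarTower.of_algebraMap_eq' hρσ
  have hP : Algebra.IsPushout C' C R A := CommRingCat.isPushout_iff_isPushout.mp hpo.flip
  have hbc : IsBaseChange C (IsScalarTower.toAlgHom C' R A).toLinearMap := hP.out
  letI modC'P : Module C' P := Module.compHom P β
  haveI : IsScalarTower C' C P := ⟨fun a a' n => by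
    change (β a * a') • n = β a • a' • n
    exact mul_smul _ _ _⟩
  letI modAP : Module A P := Module.compHom P π
  haveI : IsScalarTower A C P := ⟨fun a a' n => by
    change (π a * a') • n = π a • a' • n
    exact mul_smul _ _ _⟩
  have hπσ : ∀ c : C, π (σ c) = c := fun c => congrArg (fun χ => χ c) hσ
  have hπ'σ' : ∀ c : C', π' (σ' c) = c := fun c => congrArg (fun χ => χ c) hσ'
  have hπρ' : ∀ x : R, π (ρ x) = β (π' x) := fun x => congrArg (fun χ => χ x) hπρ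
  have hπ'ι' : ∀ m', π' (ι' m') = 0 := by
    intro m'
    have h1 : ι' m' ∈ LinearMap.range ι' := LinearMap.mem_range_self ι' m'
    rw [hr'] at h1
    exact h1
  have hπι : ∀ m, π (ι m) = 0 := by
    intro m
    have h1 : ι m ∈ LinearMap.range ι := LinearMap.mem_range_self ι m
    rw [hr] at h1
    exact h1
  have hκex : ∀ x : R, ∃ m' : M', ι' m' = x - σ' (π' x) := by
    intro x
    have h1 : x - σ' (π' x) ∈ RingHom.ker π' := by
      rw [RingHom.mem_ker, map_sub, hπ'σ', sub_self]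
    rw [← hr'] at h1
    exact LinearMap.mem_range.1 h1
  choose κ hκ using hκex
  have hκ_add : ∀ x₁ x₂, κ (x₁ + x₂) = κ x₁ + κ x₂ := by
    intro x₁ x₂
    apply hι'
    rw [map_add, hκ, hκ, hκ, map_add, map_add]
    ring
  have hκ_mul : ∀ x₁ x₂, κ (x₁ * x₂) = x₁ • κ x₂ + σ' (π' x₂) • κ x₁ := by
    intro x₁ x₂
    apply hι'
    have e1 : σ' (π' (x₁ * x₂)) = σ' (π' x₁) * σ' (π' x₂) := by rw [map_mul, map_mul]
    rw [map_add, map_smul, map_smul, hκ, hκ, hκ, smul_eq_mul, smul_eq_mul, e1]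
    ring
  have hκι' : ∀ m', κ (ι' m') = m' := by
    intro m'
    apply hι'
    rw [hκ, hπ'ι', map_zero, sub_zero]
  have hκσ' : ∀ c : C', κ (σ' c) = 0 := by
    intro c
    apply hι'
    rw [hκ, map_zero, hπ'σ', sub_self]
  have hRP : ∀ (x : R) (p : P), x • p = β (π' x) • p := by
    intro x p
    change (π.comp ρ) x • p = β (π' x) • p
    rw [hπρ]
    rfl
  have hτ₀_mul : ∀ x₁ x₂, L' (κ (x₁ * x₂)) = β (π' x₁) • L' (κ x₂) + β (π' x₂) • L' (κ x₁) := by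
    intro x₁ x₂
    rw [hκ_mul, map_add, map_smul, map_smul, hRP, hRP, hπ'σ']
  let τ₀ : R →ₗ[C'] P :=
    { toFun := fun x => L' (κ x)
      map_add' := fun x₁ x₂ => by rw [hκ_add, map_add]
      map_smul' := fun c x => by
        change L' (κ (σ' c * x)) = β c • L' (κ x)
        rw [hτ₀_mul, hκσ', map_zero, smul_zero, add_zero, hπ'σ'] }
  let τ : A →ₗ[C] P := hbc.lift τ₀
  have hτρ : ∀ x, τ (ρ x) = L' (κ x) := fun x => hbc.lift_eq τ₀ x
  have hτ_mul : ∀ a y : A, τ (a * y) = π a • τ y + π y • τ a := by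
    intro a y
    refine hbc.inductionOn a (fun a => τ (a * y) = π a • τ y + π y • τ a) ?_ ?_ ?_ ?_
    · change τ (0 * y) = π 0 • τ y + π y • τ 0
      rw [zero_mul, map_zero, map_zero, zero_smul, smul_zero, add_zero]
    · intro x₁
      change τ (ρ x₁ * y) = π (ρ x₁) • τ y + π y • τ (ρ x₁)
      refine hbc.inductionOn y (fun y => τ (ρ x₁ * y) = π (ρ x₁) • τ y + π y • τ (ρ x₁))
        ?_ ?_ ?_ ?_
      · change τ (ρ x₁ * 0) = π (ρ x₁) • τ 0 + π 0 • τ (ρ x₁)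
        rw [mul_zero, map_zero, map_zero, zero_smul, smul_zero, add_zero]
      · intro x₂
        change τ (ρ x₁ * ρ x₂) = π (ρ x₁) • τ (ρ x₂) + π (ρ x₂) • τ (ρ x₁)
        rw [← map_mul, hτρ, hτρ, hτρ, hτ₀_mul, hπρ', hπρ']
      · intro c y ih
        change τ (ρ x₁ * (c • y)) = π (ρ x₁) • τ (c • y) + π (c • y) • τ (ρ x₁)
        have e1 : ρ x₁ * (c • y) = c • (ρ x₁ * y) := mul_smul_comm c (ρ x₁) y
        have e2 : π (c • y) = c * π y := by
          change π (σ c * y) = c * π y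
          rw [map_mul, hπσ]
        rw [e1, τ.map_smul, τ.map_smul, ih, e2, smul_add, smul_comm c (π (ρ x₁)) (τ y),
          mul_smul]
      · intro y₁ y₂ ih₁ ih₂
        change τ (ρ x₁ * (y₁ + y₂)) = π (ρ x₁) • τ (y₁ + y₂) + π (y₁ + y₂) • τ (ρ x₁)
        rw [mul_add]
        simp only [map_add, ih₁, ih₂, add_smul, smul_add] <;> abel
    · intro c a ih
      change τ ((c • a) * y) = π (c • a) • τ y + π y • τ (c • a)
      have e1 : (c • a) * y = c • (a * y) := smul_mul_assoc c a y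
      have e2 : π (c • a) = c * π a := by
        change π (σ c * a) = c * π a
        rw [map_mul, hπσ]
      rw [e1, τ.map_smul, τ.map_smul, ih, e2, smul_add, mul_smul, smul_comm c (π y) (τ a)]
    · intro a₁ a₂ ih₁ ih₂
      change τ ((a₁ + a₂) * y) = π (a₁ + a₂) • τ y + π y • τ (a₁ + a₂)
      rw [add_mul]
      simp only [map_add, ih₁, ih₂, add_smul, smul_add] <;> abel
  let ψ₀ : M →ₗ[A] P :=
    { toFun := fun m => τ (ι m)
      map_add' := fun m₁ m₂ => by rw [map_add, map_add]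
      map_smul' := fun a m => by
        change τ (ι (a • m)) = π a • τ (ι m)
        rw [ι.map_smul, smul_eq_mul, hτ_mul, hπι, zero_smul, add_zero] }
  let ψ : N →ₗ[C] P := hbl.lift ψ₀
  have hψ : ∀ m, ψ (l' m) = τ (ι m) := fun m => hbl.lift_eq ψ₀ m
  have hcomp : ψ.comp φ = LinearMap.id := by
    apply hbL.algHom_ext
    intro m'
    change ψ (φ (L' m')) = L' m'
    have e1 : φ (L' m') = l' (γ m') := by rw [hL', hφ, hl']
    rw [e1, hψ, hγ, hτρ, hκι']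
  intro p₁ p₂ h
  have h1 := congrArg ψ h
  have e : ∀ p, ψ (φ p) = p := fun p => congrArg (fun χ => χ p) hcomp
  rw [e, e] at h1
  exact h1

end Alg

section Aux

theorem appLE_congr' {A B : Scheme.{u}} (p q : A ⟶ B) (hpq : p = q) (U : B.Opens) (V : A.Opens)
    (e₁ : V ≤ p ⁻¹ᵁ U) (e₂ : V ≤ q ⁻¹ᵁ U) : p.appLE U V e₁ = q.appLE U V e₂ := by
  subst hpq
  rfl

theorem appLE_of_eq_id {Z : Scheme.{u}} (p : Z ⟶ Z) (hp : p = 𝟙 Z) (T : Z.Opens)
    (e : T ≤ p ⁻¹ᵁ T) : p.appLE T T e = 𝟙 _ := by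
  subst hp
  have h2 : Z.presheaf.map (homOfLE e).op = 𝟙 _ := by
    have h1 : (homOfLE e).op = 𝟙 (op T) := Subsingleton.elim _ _
    rw [h1]
    exact Z.presheaf.map_id _
  change (𝟙 Z : Z ⟶ Z).app T ≫ Z.presheaf.map (homOfLE e).op = 𝟙 _
  rw [h2]
  exact Category.comp_id _

theorem mem_inf_iff {X : Scheme.{u}} (U V : X.Opens) (x : X) : x ∈ U ⊓ V ↔ x ∈ U ∧ x ∈ V :=
  Iff.rfl

theorem isAffineOpen_of_isPullback {X Y S T : Scheme.{u}} {f : T ⟶ S} {g : Y ⟶ X} {iX : X ⟶ S}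
    {iY : Y ⟶ T} (H : IsPullback g iY iX f) {US : S.Opens} {UT : T.Opens} {UX : X.Opens}
    (hUST : UT ≤ f ⁻¹ᵁ US) (hUSX : UX ≤ iX ⁻¹ᵁ US) {UY : Y.Opens}
    (hUY : UY = g ⁻¹ᵁ UX ⊓ iY ⁻¹ᵁ UT) (hUS : IsAffineOpen US) (hUT : IsAffineOpen UT)
    (hUX : IsAffineOpen UX) : IsAffineOpen UY := by
  have : IsAffine _ := hUS
  have : IsAffine _ := hUT
  have : IsAffine _ := hUX
  exact IsAffine.of_isIso (Scheme.Hom.isPullback_resLE H hUST hUSX hUY).isoPullback.hom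

theorem ker_pow_one {X Y : Scheme.{u}} (f : Y ⟶ X) : f.ker ^ 1 = f.ker := by
  apply Scheme.IdealSheafData.ext
  funext U
  rw [Scheme.IdealSheafData.ideal_pow]
  exact pow_one _

end Aux

section ChartEx

variable {Z X Z' X' : Scheme.{u}} (i : Z ⟶ X) (i' : Z' ⟶ X') (g : X ⟶ X') (gZ : Z ⟶ Z')
  (r : X ⟶ Z) (r' : X' ⟶ Z') (hr : i ≫ r = 𝟙 Z) (hr' : i' ≫ r' = 𝟙 Z')
  (hsq : gZ ≫ i' = i ≫ g) (H2 : IsPullback g r r' gZ)

include hr hr' hsq H2 in
theorem exists_chart_section (z : Z) :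
    ∃ (W' : X'.Opens) (W : X.Opens), IsAffineOpen W' ∧ IsAffineOpen W ∧ W ≤ g ⁻¹ᵁ W' ∧
      W' ≤ r' ⁻¹ᵁ (i' ⁻¹ᵁ W') ∧ W ≤ r ⁻¹ᵁ (i ⁻¹ᵁ W) ∧ W = g ⁻¹ᵁ W' ⊓ r ⁻¹ᵁ (i ⁻¹ᵁ W) ∧
      z ∈ i ⁻¹ᵁ W := by
  have hri : ∀ y : Z, r.base (i.base y) = y := fun y => by
    have := congrArg (fun χ => χ.base y) hr
    exact this
  have hr'i' : ∀ y : Z', r'.base (i'.base y) = y := fun y => by
    have := congrArg (fun χ => χ.base y) hr'
    exact this
  have hcomm : ∀ y : Z, i'.base (gZ.base y) = g.base (i.base y) := fun y => by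
    have := congrArg (fun χ => χ.base y) hsq
    exact this
  obtain ⟨_, ⟨V₀, hV₀, rfl⟩, hzV₀, -⟩ := Z'.isBasis_affineOpens.exists_subset_of_mem_open
    (Set.mem_univ (gZ.base z)) isOpen_univ
  have hx' : i'.base (gZ.base z) ∈ ((r' ⁻¹ᵁ V₀ : X'.Opens) : Set X') := by
    change r'.base (i'.base (gZ.base z)) ∈ V₀
    rw [hr'i']
    exact hzV₀
  obtain ⟨_, ⟨U, hU, rfl⟩, hxU, hUle⟩ := X'.isBasis_affineOpens.exists_subset_of_mem_open hx'
    (r' ⁻¹ᵁ V₀).2
  have hUle' : U ≤ r' ⁻¹ᵁ V₀ := fun y hy => hUle hy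
  have hzU : gZ.base z ∈ i' ⁻¹ᵁ U := hxU
  obtain ⟨a, haU, hza⟩ := hV₀.exists_basicOpen_le (V := i' ⁻¹ᵁ U) ⟨gZ.base z, hzU⟩ hzV₀
  have hT' : IsAffineOpen (Z'.basicOpen a) := hV₀.basicOpen a
  have hW' : IsAffineOpen (U ⊓ r' ⁻¹ᵁ (Z'.basicOpen a)) := by
    rw [← Scheme.basicOpen_appLE r' U V₀ hUle' a]
    exact hU.basicOpen _
  have hz2 : z ∈ ((gZ ⁻¹ᵁ (Z'.basicOpen a) : Z.Opens) : Set Z) := hza
  obtain ⟨_, ⟨V, hV, rfl⟩, hzV, hVle⟩ := Z.isBasis_affineOpens.exists_subset_of_mem_open hz2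
    (gZ ⁻¹ᵁ (Z'.basicOpen a)).2
  have hVle' : V ≤ gZ ⁻¹ᵁ (Z'.basicOpen a) := fun y hy => hVle hy
  have hVW' : ∀ y : Z, y ∈ V → i'.base (gZ.base y) ∈ U ⊓ r' ⁻¹ᵁ (Z'.basicOpen a) := by
    intro y hy
    have h1 : gZ.base y ∈ Z'.basicOpen a := hVle' hy
    refine (mem_inf_iff _ _ _).2 ⟨haU h1, ?_⟩
    change r'.base (i'.base (gZ.base y)) ∈ Z'.basicOpen a
    rw [hr'i']
    exact h1
  have hiW : i ⁻¹ᵁ (g ⁻¹ᵁ (U ⊓ r' ⁻¹ᵁ (Z'.basicOpen a)) ⊓ r ⁻¹ᵁ V) = V := by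
    apply le_antisymm
    · intro y hy
      have h1 : r.base (i.base y) ∈ V := ((mem_inf_iff _ _ _).1 hy).2
      rw [hri] at h1
      exact h1
    · intro y hy
      refine (mem_inf_iff _ _ _).2 ⟨?_, ?_⟩
      · change g.base (i.base y) ∈ U ⊓ r' ⁻¹ᵁ (Z'.basicOpen a)
        rw [← hcomm]
        exact hVW' y hy
      · change r.base (i.base y) ∈ V
        rw [hri]
        exact hy
  refine ⟨U ⊓ r' ⁻¹ᵁ (Z'.basicOpen a),
    g ⁻¹ᵁ (U ⊓ r' ⁻¹ᵁ (Z'.basicOpen a)) ⊓ r ⁻¹ᵁ V, hW', ?_, inf_le_left, ?_, ?_, ?_, ?_⟩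
  · exact isAffineOpen_of_isPullback H2 (US := Z'.basicOpen a) (UT := V)
      (UX := U ⊓ r' ⁻¹ᵁ (Z'.basicOpen a)) hVle' inf_le_right rfl hT' hV hW'
  · intro x hx
    have h1 : r'.base x ∈ Z'.basicOpen a := ((mem_inf_iff _ _ _).1 hx).2
    refine (mem_inf_iff _ _ _).2 ⟨haU h1, ?_⟩
    change r'.base (i'.base (r'.base x)) ∈ Z'.basicOpen a
    rw [hr'i']
    exact h1
  · rw [hiW]
    exact inf_le_right
  · rw [hiW]
  · rw [hiW]
    exact hzV

end ChartEx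

section Chart

variable {Z X Z' X' : Scheme.{u}} (i : Z ⟶ X) (i' : Z' ⟶ X') [IsClosedImmersion i]
  [IsClosedImmersion i'] (g : X ⟶ X') (gZ : Z ⟶ Z')
  (r : X ⟶ Z) (r' : X' ⟶ Z') (hr : i ≫ r = 𝟙 Z) (hr' : i' ≫ r' = 𝟙 Z')
  (H : IsPullback i gZ g i') (H2 : IsPullback g r r' gZ)
  (φ : (Scheme.Modules.pullback gZ).obj (Omega.conormal i') ⟶ Omega.conormal i)
  (hφ : IsConormalMap i i' g gZ φ)
  {W' : X'.Opens} {W : X.Opens} (e : W ≤ g ⁻¹ᵁ W')
  (hW' : IsAffineOpen W') (hW : IsAffineOpen W)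
  (hr'W : W' ≤ r' ⁻¹ᵁ (i' ⁻¹ᵁ W')) (hrW : W ≤ r ⁻¹ᵁ (i ⁻¹ᵁ W))
  (hWeq : W = g ⁻¹ᵁ W' ⊓ r ⁻¹ᵁ (i ⁻¹ᵁ W))

include hr hr' H H2 hφ e hW' hW hr'W hrW hWeq in
theorem φ_injective_chart_section : Function.Injective (φ.app (i ⁻¹ᵁ W)) := by
  have hsq : gZ ≫ i' = i ≫ g := H.w.symm
  have hW'c : W' ≤ i'.coborderRange := by
    rw [Groth.Agent.Lead.ConNbhd.coborderRange_eq_top]
    exact le_top
  have hWc : W ≤ i.coborderRange := by
    rw [Groth.Agent.Lead.ConNbhd.coborderRange_eq_top]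
    exact le_top
  have hT : IsAffineOpen (i' ⁻¹ᵁ W') := isAffineOpen_preimage_of_le_coborder i' hW' hW'c
  have hO : IsAffineOpen (i ⁻¹ᵁ W) := isAffineOpen_preimage_of_le_coborder i hW hWc
  have hpre : i ⁻¹ᵁ W ≤ gZ ⁻¹ᵁ (i' ⁻¹ᵁ W') := pre_le i i' g gZ hsq e
  haveI : (ClSub.idealMod i'.ker).IsQuasicoherent :=
    Groth.Agent.Helper1.IdealModL.isQuasicoherent_idealMod i'.ker
  haveI : (Omega.conormal i').IsQuasicoherent :=
    Groth.Agent.Lead.PB.isQuasicoherent_pullback _ _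
  haveI : (ClSub.idealMod i.ker).IsQuasicoherent :=
    Groth.Agent.Helper1.IdealModL.isQuasicoherent_idealMod i.ker
  have hb1 := isBC_unitRes i' (ClSub.idealMod i'.ker) hW' hT le_rfl
  have hb2 := isBC_unitRes gZ (Omega.conormal i') hT hO hpre
  have hb12 := Groth.Agent.Lead.FlatBC.isBC_comp _ _ hb1 hb2
  have hrings : (gZ.appLE (i' ⁻¹ᵁ W') (i ⁻¹ᵁ W) hpre).hom.comp
      (i'.appLE W' (i' ⁻¹ᵁ W') le_rfl).hom =
      (i.appLE W (i ⁻¹ᵁ W) le_rfl).hom.comp (g.appLE W' W e).hom := by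
    rw [← CommRingCat.hom_comp, ← CommRingCat.hom_comp, Scheme.Hom.appLE_comp_appLE,
      Scheme.Hom.appLE_comp_appLE]
    exact congrArg CommRingCat.Hom.hom (appLE_congr' _ _ hsq _ _ _ _)
  rw [hrings] at hb12
  have hb3 := isBC_unitRes i (ClSub.idealMod i.ker) hW hO le_rfl
  let φlin : Γ((Scheme.Modules.pullback gZ).obj (Omega.conormal i'), i ⁻¹ᵁ W) →ₗ[Γ(Z, i ⁻¹ᵁ W)]
      Γ(Omega.conormal i, i ⁻¹ᵁ W) :=
    { toFun := fun t => φ.app (i ⁻¹ᵁ W) t
      map_add' := fun x y => map_add _ x y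
      map_smul' := fun r x => by
        rw [Scheme.Modules.Hom.app_smul]
        rfl }
  have hσ' : (i'.appLE W' (i' ⁻¹ᵁ W') le_rfl).hom.comp
      (r'.appLE (i' ⁻¹ᵁ W') W' hr'W).hom = RingHom.id _ := by
    rw [← CommRingCat.hom_comp, Scheme.Hom.appLE_comp_appLE]
    exact congrArg CommRingCat.Hom.hom (appLE_of_eq_id _ hr' _ _)
  have hσ : (i.appLE W (i ⁻¹ᵁ W) le_rfl).hom.comp
      (r.appLE (i ⁻¹ᵁ W) W hrW).hom = RingHom.id _ := by
    rw [← CommRingCat.hom_comp, Scheme.Hom.appLE_comp_appLE]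
    exact congrArg CommRingCat.Hom.hom (appLE_of_eq_id _ hr _ _)
  have hρσ : (g.appLE W' W e).hom.comp (r'.appLE (i' ⁻¹ᵁ W') W' hr'W).hom =
      (r.appLE (i ⁻¹ᵁ W) W hrW).hom.comp (gZ.appLE (i' ⁻¹ᵁ W') (i ⁻¹ᵁ W) hpre).hom := by
    rw [← CommRingCat.hom_comp, ← CommRingCat.hom_comp, Scheme.Hom.appLE_comp_appLE,
      Scheme.Hom.appLE_comp_appLE]
    exact congrArg CommRingCat.Hom.hom (appLE_congr' _ _ H2.w _ _ _ _)
  have hiso := isIso_pushoutSection_of_isAffineOpen H2 hpre hr'W hWeq hT hO hW'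
  have hpo := (isIso_pushoutSection_iff H2 hpre hr'W hWeq).1 hiso
  have hK' : LinearMap.range (ιL i'.ker W') =
      RingHom.ker (i'.appLE W' (i' ⁻¹ᵁ W') le_rfl).hom := by
    rw [range_ιL i'.ker ⟨W', hW'⟩, Scheme.Hom.ker_apply, Scheme.Hom.appLE_eq_app]
  have hK : LinearMap.range (ιL i.ker W) = RingHom.ker (i.appLE W (i ⁻¹ᵁ W) le_rfl).hom := by
    rw [range_ιL i.ker ⟨W, hW⟩, Scheme.Hom.ker_apply, Scheme.Hom.appLE_eq_app]
  exact injective_of_section_isBC (g.appLE W' W e).hom (i.appLE W (i ⁻¹ᵁ W) le_rfl).hom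
    (i'.appLE W' (i' ⁻¹ᵁ W') le_rfl).hom (gZ.appLE (i' ⁻¹ᵁ W') (i ⁻¹ᵁ W) hpre).hom
    (r'.appLE (i' ⁻¹ᵁ W') W' hr'W).hom (r.appLE (i ⁻¹ᵁ W) W hrW).hom
    hrings.symm hσ' hσ hρσ hpo
    (ιL i'.ker W') (ιL_injective i'.ker W') hK'
    (ιL i.ker W) hK
    (fun m' => (ClSub.idealMod i.ker).presheaf.map (homOfLE e).op (liftI i i' g gZ hsq W' m'))
    (fun m' => by
      change idealSect i.ker W _ = _
      rw [idealSect_map, liftI_spec]
      rfl)
    _ hb12 _ hb3 φlin (fun m' => by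
      change φ.app (i ⁻¹ᵁ W) (unitRes gZ (Omega.conormal i') hpre
        (unitRes i' (ClSub.idealMod i'.ker) le_rfl m')) = unitRes i (ClSub.idealMod i.ker) le_rfl _
      rw [unitRes_self, unitRes_self]
      exact φ_res_cls i i' g gZ hsq φ hφ e m')

include hr hr' H H2 hφ in
/-- **Base change of the conormal sheaf of a section.** -/
theorem isIso_of_section : IsIso φ := by
  have hsq : gZ ≫ i' = i ≫ g := H.w.symm
  haveI : (ClSub.idealMod i'.ker).IsQuasicoherent :=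
    Groth.Agent.Helper1.IdealModL.isQuasicoherent_idealMod i'.ker
  haveI : (Omega.conormal i').IsQuasicoherent :=
    Groth.Agent.Lead.PB.isQuasicoherent_pullback _ _
  haveI : ((Scheme.Modules.pullback gZ).obj (Omega.conormal i')).IsQuasicoherent :=
    Groth.Agent.Lead.PB.isQuasicoherent_pullback _ _
  haveI : (ClSub.idealMod i.ker).IsQuasicoherent :=
    Groth.Agent.Helper1.IdealModL.isQuasicoherent_idealMod i.ker
  haveI : (Omega.conormal i).IsQuasicoherent :=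
    Groth.Agent.Lead.PB.isQuasicoherent_pullback _ _
  apply Groth.Agent.Lead.QcIso.isIso_of_bijective_affine
  intro z
  obtain ⟨W', W, hW', hW, e, hr'W, hrW, hWeq, hzW⟩ :=
    exists_chart_section i i' g gZ r r' hr hr' hsq H2 z
  have hW'c : W' ≤ i'.coborderRange := by
    rw [Groth.Agent.Lead.ConNbhd.coborderRange_eq_top]
    exact le_top
  have hWc : W ≤ i.coborderRange := by
    rw [Groth.Agent.Lead.ConNbhd.coborderRange_eq_top]
    exact le_top
  refine ⟨i ⁻¹ᵁ W, isAffineOpen_preimage_of_le_coborder i hW hWc, hzW, ?_, ?_⟩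
  · exact φ_injective_chart_section i i' g gZ r r' hr hr' H H2 φ hφ e hW' hW hr'W hrW hWeq
  · intro n
    exact φ_surjective_chart i i' g gZ φ hφ e H hW' hW hW'c hWc n

end Chart

section Gen

variable {Z X Z' X' : Scheme.{u}} (i : Z ⟶ X) (i' : Z' ⟶ X') [IsClosedImmersion i]
  [IsClosedImmersion i'] (g : X ⟶ X') (gZ : Z ⟶ Z')
  (r : X ⟶ Z) (r' : X' ⟶ Z') (hr : i ≫ r = 𝟙 Z) (hr' : i' ≫ r' = 𝟙 Z')
  (H : IsPullback i gZ g i') (H2 : IsPullback g r r' gZ)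

include hr hr' H H2 in
/-- the same with the ideal sheaves replaced by equal ones (to cover `i.ker ^ 1`). -/
theorem isIso_gen (J : X.IdealSheafData) (J' : X'.IdealSheafData) (hJ : J = i.ker)
    (hJ' : J' = i'.ker)
    (φ : (Scheme.Modules.pullback gZ).obj ((Scheme.Modules.pullback i').obj (ClSub.idealMod J')) ⟶
      (Scheme.Modules.pullback i).obj (ClSub.idealMod J))
    (hφ : gZ ≫ i' = i ≫ g ∧
      ∀ (U' : X'.Opens) (s' : Γ(ClSub.idealMod J', U')) (s : Γ(ClSub.idealMod J, g ⁻¹ᵁ U')),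
        OmegaSh.idealSect J (g ⁻¹ᵁ U') s = g.app U' (OmegaSh.idealSect J' U' s') →
        ∀ (V : Z.Opens) (h₁ : V ≤ gZ ⁻¹ᵁ (i' ⁻¹ᵁ U')) (h₂ : V ≤ i ⁻¹ᵁ (g ⁻¹ᵁ U')),
          ((Scheme.Modules.pullback i).obj (ClSub.idealMod J)).presheaf.map (homOfLE h₁).op
              (φ.app (gZ ⁻¹ᵁ (i' ⁻¹ᵁ U'))
                (OmegaSh.pullSect gZ ((Scheme.Modules.pullback i').obj (ClSub.idealMod J'))
                  (i' ⁻¹ᵁ U') (OmegaSh.pullSect i' (ClSub.idealMod J') U' s'))) =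
            ((Scheme.Modules.pullback i).obj (ClSub.idealMod J)).presheaf.map (homOfLE h₂).op
              (OmegaSh.pullSect i (ClSub.idealMod J) (g ⁻¹ᵁ U') s)) :
    IsIso φ := by
  subst hJ hJ'
  exact isIso_of_section i i' g gZ r r' hr hr' H H2 φ hφ

end Gen

end Groth.Agent.Helper3.ConSec
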