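import Mathlib
import Groth.Prelude.Def_NonAbH2
import Groth.Prelude.Def_Red
import Groth.Prelude.Def_Omega3
import Groth.Agent.Lib.Helper3.ConSecA

/-!
# The relative differentials of a torsor: `Ω_{X/Y} ≅ O_X ⊗ 𝔤^∨`

For a pseudo-torsor `X` under `G_Y`, the square (diagonal of `X/Y`, `X → S`, difference map
`g : X ×_Y X → G`, unit section of `G`) is cartesian and consists of compatible sections of
`pr₂` and `G → S`, so the conormal map is an isomorphism (`ConSecA`).
-/

set_option autoImplicit false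
set_option backward.isDefEq.respectTransparency.types false
set_option linter.style.haveILetI false
set_option linter.unusedSectionVars false
set_option synthInstance.maxHeartbeats 400000
set_option maxHeartbeats 4000000

universe u
open CategoryTheory CategoryTheory.Limits AlgebraicGeometry TopologicalSpace Opposite
open MonoidalCategory CartesianMonoidalCategory MonObj

namespace Groth.Agent.Helper3.ConTors

/-- conormal isomorphism for a cartesian square of compatible sections. -/
theorem exists_conormal_iso_of_section {X P Gs E : Scheme.{u}} (Δ : X ⟶ P) (pr : P ⟶ X)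
    (hΔ : Δ ≫ pr = 𝟙 X) (e : E ⟶ Gs) (s : Gs ⟶ E) (he : e ≫ s = 𝟙 E) [IsSeparated s]
    (g : P ⟶ Gs) (t : X ⟶ E) (H2 : IsPullback g pr s t) (hcomm : Δ ≫ g = t ≫ e) :
    ∃ φ : (Scheme.Modules.pullback t).obj (Omega.conormal e) ⟶ Omega.conormal Δ,
      OmegaSh.IsConormalMap Δ e g t φ ∧ IsIso φ := by
  haveI : IsClosedImmersion e := by
    haveI : IsClosedImmersion (e ≫ s) := by
      rw [he]
      infer_instance
    exact IsClosedImmersion.of_comp e s
  have H : IsPullback Δ t g e := by
    refine IsPullback.of_right ?_ hcomm H2.flip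
    rw [hΔ, he]
    exact IsPullback.of_horiz_isIso ⟨by rw [Category.id_comp, Category.comp_id]⟩
  haveI : IsClosedImmersion Δ :=
    MorphismProperty.of_isPullback (P := @IsClosedImmersion) H.flip inferInstance
  obtain ⟨φ, hφ, -⟩ := Groth.Agent.Lead.ConMap.existsUnique_conormalMap Δ e g t hcomm.symm
  exact ⟨φ, hφ, Groth.Agent.Helper3.ConSec.isIso_of_section Δ e g t pr s hΔ he H H2 φ hφ⟩

/-- unit axiom of an action on points (copy of helper4 `TorsFC1.action_one_point`) -/
lemma action_one_point {S : Scheme.{u}} {G X : Over S} [GrpObj G] (a : AlgGrp.Action G X)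
    {T : Over S} (q : T ⟶ X) : lift (toUnit T ≫ η[G]) q ≫ a.act = q := by
  have h1 : lift (toUnit T ≫ η[G]) q = lift (toUnit T) q ≫ (η[G] ▷ X) := by
    rw [lift_whiskerRight]
  rw [h1, Category.assoc, a.one_act, lift_leftUnitor_hom]

/-- the unit of a base-changed group (copy of helper4 `NeutralSet1.eta_bc_fst`) -/
theorem eta_bc_fst {S S' : Scheme.{u}} (f : S' ⟶ S) (G : Over S) [GrpObj G] :
    η[Red.bc f G].left ≫ pullback.fst G.hom f = f ≫ η[G].left := by
  rw [Functor.obj.η_def, Over.comp_left]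
  have : ((Over.pullback f).map η[G]).left ≫ pullback.fst G.hom f =
      pullback.fst _ _ ≫ η[G].left := by
    simp only [Over.pullback, Over.homMk_left]
    exact pullback.lift_fst _ _ _
  rw [Category.assoc, this]
  have h1 : (Functor.LaxMonoidal.ε (Over.pullback f)).left ≫
      pullback.fst (𝟙_ (Over S)).hom f = f := by
    have hc : pullback.fst (𝟙_ (Over S)).hom f ≫ (𝟙_ (Over S)).hom = pullback.snd _ _ ≫ f :=
      pullback.condition
    have hw : (Functor.LaxMonoidal.ε (Over.pullback f)).left ≫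
        pullback.snd (𝟙_ (Over S)).hom f = 𝟙 S' :=
      Over.w (Functor.LaxMonoidal.ε (Over.pullback f))
    have hc' : pullback.fst (𝟙_ (Over S)).hom f = pullback.snd (𝟙_ (Over S)).hom f ≫ f :=
      (Category.comp_id _).symm.trans hc
    rw [hc', ← Category.assoc, hw]
    exact Category.id_comp _
  rw [← Category.assoc, h1]

section Tors

variable {S : Scheme.{u}} {G Y : Over S} [GrpObj G] [IsSeparated G.hom]
  {X : Over Y.left} (a : AlgGrp.Action (Red.bc Y.hom G) X)

include a in
theorem main (hX : NonAbH1.IsPseudoTorsorSch a)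
    (g : pullback X.hom X.hom ⟶ G.left)
    (hg : (lift a.act (snd (Red.bc Y.hom G) X)).left ≫ g =
      (fst (Red.bc Y.hom G) X).left ≫ pullback.fst G.hom Y.hom) :
    ∃ φ : (Scheme.Modules.pullback (toUnit (Over.mk (X.hom ≫ Y.hom) : Over S)).left).obj
        (Omega.conormal (η[G]).left) ⟶ Omega.conormal (pullback.diagonal X.hom),
      OmegaSh.IsConormalMap (pullback.diagonal X.hom) (η[G]).left g
        (toUnit (Over.mk (X.hom ≫ Y.hom) : Over S)).left φ ∧ IsIso φ := by
  have hiso : IsIso (lift a.act (snd (Red.bc Y.hom G) X)) := hX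
  have hΘiso : IsIso (lift a.act (snd (Red.bc Y.hom G) X)).left := by
    have := (Over.forget Y.left).map_isIso (lift a.act (snd (Red.bc Y.hom G) X))
    exact this
  have hΘsnd0 : (lift a.act (snd (Red.bc Y.hom G) X)).left ≫ pullback.snd X.hom X.hom =
      pullback.snd (Red.bc Y.hom G).hom X.hom :=
    congrArg CommaMorphism.left (lift_snd a.act (snd (Red.bc Y.hom G) X))
  -- the unit section of `G_Y × X`
  have h1 : lift (toUnit X ≫ η[Red.bc Y.hom G]) (𝟙 X) ≫ a.act = 𝟙 X := action_one_point a (𝟙 X)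
  have h2 : lift (toUnit X ≫ η[Red.bc Y.hom G]) (𝟙 X) ≫ lift a.act (snd (Red.bc Y.hom G) X) =
      lift (𝟙 X) (𝟙 X) := by
    rw [comp_lift, h1, lift_snd]
  have h3 : (lift (𝟙 X) (𝟙 X)).left = pullback.diagonal X.hom := by
    apply pullback.hom_ext
    · rw [pullback.diagonal_fst]
      exact congrArg CommaMorphism.left (lift_fst (𝟙 X) (𝟙 X))
    · rw [pullback.diagonal_snd]
      exact congrArg CommaMorphism.left (lift_snd (𝟙 X) (𝟙 X))
  have h4 : (lift (toUnit X ≫ η[Red.bc Y.hom G]) (𝟙 X)).left ≫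
      (lift a.act (snd (Red.bc Y.hom G) X)).left = pullback.diagonal X.hom := by
    rw [← h3, ← h2]
    rfl
  have h5 : (lift (toUnit X ≫ η[Red.bc Y.hom G]) (𝟙 X)).left ≫
      pullback.fst (Red.bc Y.hom G).hom X.hom = X.hom ≫ η[Red.bc Y.hom G].left :=
    congrArg CommaMorphism.left (lift_fst (toUnit X ≫ η[Red.bc Y.hom G]) (𝟙 X))
  obtain ⟨Θ, hΘdef⟩ : ∃ Θ, Θ = (lift a.act (snd (Red.bc Y.hom G) X)).left := ⟨_, rfl⟩
  rw [← hΘdef] at hg hΘsnd0 h4 hΘiso
  haveI : IsIso Θ := hΘiso
  have hg' : Θ ≫ g = pullback.fst (Red.bc Y.hom G).hom X.hom ≫ pullback.fst G.hom Y.hom := hg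
  have hpaste : IsPullback (pullback.fst (Red.bc Y.hom G).hom X.hom ≫ pullback.fst G.hom Y.hom)
      (pullback.snd (Red.bc Y.hom G).hom X.hom) G.hom (X.hom ≫ Y.hom) :=
    (IsPullback.of_hasPullback (Red.bc Y.hom G).hom X.hom).paste_horiz
      (IsPullback.of_hasPullback G.hom Y.hom)
  have H2 : IsPullback g (pullback.snd X.hom X.hom) G.hom (X.hom ≫ Y.hom) :=
    IsPullback.of_iso hpaste (asIso Θ) (Iso.refl _) (Iso.refl _) (Iso.refl _)
      (by rw [Iso.refl_hom, Category.comp_id, asIso_hom]; exact hg'.symm)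
      (by rw [Iso.refl_hom, Category.comp_id, asIso_hom]; exact hΘsnd0.symm)
      (by simp) (by simp)
  have hcomm : pullback.diagonal X.hom ≫ g = (X.hom ≫ Y.hom) ≫ η[G].left := by
    calc pullback.diagonal X.hom ≫ g
        = (lift (toUnit X ≫ η[Red.bc Y.hom G]) (𝟙 X)).left ≫ Θ ≫ g := by
          rw [← Category.assoc, h4]
      _ = (lift (toUnit X ≫ η[Red.bc Y.hom G]) (𝟙 X)).left ≫
            pullback.fst (Red.bc Y.hom G).hom X.hom ≫ pullback.fst G.hom Y.hom := by rw [hg']
      _ = X.hom ≫ η[Red.bc Y.hom G].left ≫ pullback.fst G.hom Y.hom := by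
          rw [← Category.assoc, h5, Category.assoc]
      _ = X.hom ≫ Y.hom ≫ η[G].left := by rw [eta_bc_fst]
      _ = (X.hom ≫ Y.hom) ≫ η[G].left := (Category.assoc _ _ _).symm
  have he : η[G].left ≫ G.hom = 𝟙 S := Over.w η[G]
  exact exists_conormal_iso_of_section (X := X.left) (P := pullback X.hom X.hom) (Gs := G.left)
    (E := S) (pullback.diagonal X.hom) (pullback.snd X.hom X.hom) (pullback.diagonal_snd X.hom)
    η[G].left G.hom he g (X.hom ≫ Y.hom) H2 hcomm

end Tors

end Groth.Agent.Helper3.ConTors
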