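import Mathlib
import Groth.Prelude.Def_Conn

set_option autoImplicit false
universe v u

namespace Groth.Agent.Helper3.ConnLib

open TensorProduct

section Detect

variable {B Ω E Y : Type u} [CommRing B] [AddCommGroup Ω] [Module B Ω]
  [AddCommGroup E] [Module B E] [AddCommGroup Y] [Module B Y]

theorem rid_lTensor_map {X X' : Type u} [AddCommGroup X] [Module B X] [AddCommGroup X']
    [Module B X'] (f : X →ₗ[B] X') (θ : Ω →ₗ[B] B) (z : X ⊗[B] Ω) :
    TensorProduct.rid B X' (TensorProduct.map LinearMap.id θ (TensorProduct.map f LinearMap.id z)) =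
      f (TensorProduct.rid B X (TensorProduct.map LinearMap.id θ z)) := by
  induction z using TensorProduct.induction_on with
  | zero => simp
  | tmul x ω => simp
  | add x y hx hy => simp only [map_add, hx, hy]

theorem tensor_ext_of_basis {ι : Type*} [Finite ι] (b : Module.Basis ι B Ω)
    {X : Type u} [AddCommGroup X] [Module B X] (z w : X ⊗[B] Ω)
    (h : ∀ i, TensorProduct.rid B X (TensorProduct.map LinearMap.id (b.coord i) z) =
      TensorProduct.rid B X (TensorProduct.map LinearMap.id (b.coord i) w)) : z = w := by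
  classical
  apply (TensorProduct.equivFinsuppOfBasisRight (M := X) b).injective
  ext i
  rw [TensorProduct.equivFinsuppOfBasisRight_apply, TensorProduct.equivFinsuppOfBasisRight_apply]
  exact h i

theorem tensor_ext_applyₗ_of_basis {ι : Type*} [Finite ι] (b : Module.Basis ι B Ω)
    (z w : (E →ₗ[B] Y) ⊗[B] Ω)
    (h : ∀ e : E, TensorProduct.map (LinearMap.applyₗ e) LinearMap.id z =
      TensorProduct.map (LinearMap.applyₗ e) LinearMap.id w) : z = w := by
  apply tensor_ext_of_basis b
  intro i
  ext e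
  have h1 := rid_lTensor_map (LinearMap.applyₗ (R := B) (M₂ := Y) e) (b.coord i) z
  have h2 := rid_lTensor_map (LinearMap.applyₗ (R := B) (M₂ := Y) e) (b.coord i) w
  rw [h e] at h1
  rw [h1] at h2
  exact h2

theorem tensor_ext_applyₗ [Module.Finite B Ω] [Module.Free B Ω]
    (z w : (E →ₗ[B] Y) ⊗[B] Ω)
    (h : ∀ e : E, TensorProduct.map (LinearMap.applyₗ e) LinearMap.id z =
      TensorProduct.map (LinearMap.applyₗ e) LinearMap.id w) : z = w :=
  tensor_ext_applyₗ_of_basis (Module.Free.chooseBasis B Ω) z w h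

end Detect

section Along

variable {A : Type v} {B Ω M M' : Type u} [CommRing A] [CommRing B] [Algebra A B]
  [AddCommGroup Ω] [Module B Ω] [Module A Ω] [IsScalarTower A B Ω]
  [AddCommGroup M] [Module B M] [Module A M] [IsScalarTower A B M]
  [AddCommGroup M'] [Module B M'] [Module A M'] [IsScalarTower A B M']

theorem along_hom_apply (nabla : M →ₗ[A] M ⊗[B] Ω) (nabla' : M' →ₗ[A] M' ⊗[B] Ω)
    (nablaE : (M →ₗ[B] M') →ₗ[A] (M →ₗ[B] M') ⊗[B] Ω) (hE : Conn.IsHomConn nabla nabla' nablaE)
    (θ : Ω →ₗ[B] B) (ψ : M →ₗ[B] M') (m : M) :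
    (Conn.along nablaE θ ψ) m = Conn.along nabla' θ (ψ m) - ψ (Conn.along nabla θ m) := by
  rw [Conn.along_apply, Conn.along_apply, Conn.along_apply]
  have h1 := rid_lTensor_map (LinearMap.applyₗ (R := B) (M₂ := M') m) θ (nablaE ψ)
  have h2 := rid_lTensor_map ψ θ (nabla m)
  rw [hE ψ m] at h1
  rw [← h2]
  simp only [map_sub] at h1
  rw [h1]
  rfl

end Along

end Groth.Agent.Helper3.ConnLib
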