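import Groth.Agent.Lib.Helper3.ConnA

set_option autoImplicit false
universe v u

namespace Groth.Agent.Helper3.ConnLib

open TensorProduct

section Trace

variable {A : Type v} {B Ω M : Type u} [CommRing A] [CommRing B] [Algebra A B]
  [AddCommGroup Ω] [Module B Ω] [Module A Ω] [IsScalarTower A B Ω]
  [AddCommGroup M] [Module B M] [Module A M] [IsScalarTower A B M]

theorem map_sum_smul_left {ι : Type*} (s : Finset ι) {X Y : Type u} [AddCommGroup X] [Module B X]
    [AddCommGroup Y] [Module B Y] (c : ι → B) (f : ι → X →ₗ[B] Y) (z : X ⊗[B] Ω) :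
    TensorProduct.map (∑ j ∈ s, c j • f j) LinearMap.id z =
      ∑ j ∈ s, c j • TensorProduct.map (f j) (LinearMap.id : Ω →ₗ[B] Ω) z := by
  have h : TensorProduct.map (∑ j ∈ s, c j • f j) (LinearMap.id : Ω →ₗ[B] Ω) =
      ∑ j ∈ s, c j • TensorProduct.map (f j) (LinearMap.id : Ω →ₗ[B] Ω) := by
    have := map_sum (LinearMap.rTensorHom (R := B) Ω (N := X) (P := Y)) (fun j => c j • f j) s
    simp only [map_smul, LinearMap.coe_rTensorHom] at this
    exact this
  rw [h]
  simp

/-- general trace computation: the weighted trace of the induced connection. -/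
theorem trace_horizontal {ι : Type*} [Fintype ι] [DecidableEq ι] (b : Module.Basis ι B M)
    (δ : Derivation A B Ω) (nabla : M →ₗ[A] M ⊗[B] Ω) (hc : Conn.IsConn δ nabla)
    (nablaE : (M →ₗ[B] M) →ₗ[A] (M →ₗ[B] M) ⊗[B] Ω) (hE : Conn.IsHomConn nabla nabla nablaE)
    (φ : M →ₗ[B] M) :
    Conn.triv δ (LinearMap.trace B M φ) =
      TensorProduct.map (LinearMap.trace B M) LinearMap.id (nablaE φ) := by
  -- trace as a sum
  have htr : ∀ ψ : M →ₗ[B] M, LinearMap.trace B M ψ = ∑ i, b.coord i (ψ (b i)) := by
    intro ψ
    rw [LinearMap.trace_eq_matrix_trace B b ψ, Matrix.trace]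
    apply Finset.sum_congr rfl
    intro i _
    rw [Matrix.diag_apply, LinearMap.toMatrix_apply]
    rfl
  have hT : ∀ z : (M →ₗ[B] M) ⊗[B] Ω,
      ∑ i, TensorProduct.map (b.coord i) LinearMap.id
        (TensorProduct.map (LinearMap.applyₗ (b i)) LinearMap.id z) =
      TensorProduct.map (LinearMap.trace B M) LinearMap.id z := by
    intro z
    induction z using TensorProduct.induction_on with
    | zero => simp
    | tmul ψ ω =>
      simp only [TensorProduct.map_tmul, LinearMap.id_apply, LinearMap.applyₗ_apply_apply]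
      rw [← TensorProduct.sum_tmul, htr ψ]
    | add x y hx hy =>
      simp only [map_add, Finset.sum_add_distrib, hx, hy]
  rw [← hT]
  simp_rw [hE φ]
  simp only [map_sub, Finset.sum_sub_distrib]
  -- coefficients
  set c : ι → ι → B := fun j i => b.coord j (φ (b i)) with hcdef
  have hφb : ∀ i, φ (b i) = ∑ j, c j i • b j := by
    intro i
    rw [hcdef]
    exact (b.sum_repr (φ (b i))).symm
  have hcoordφ : ∀ i, (b.coord i) ∘ₗ φ = ∑ j, c i j • b.coord j := by
    intro i
    apply b.ext
    intro k
    simp only [LinearMap.comp_apply, LinearMap.sum_apply, LinearMap.smul_apply, Module.Basis.coord_apply,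
      Module.Basis.repr_self, smul_eq_mul]
    rw [Finset.sum_eq_single k]
    · simp [hcdef]
    · intro j _ hjk
      rw [Finsupp.single_apply, if_neg (Ne.symm hjk), mul_zero]
    · intro h; exact absurd (Finset.mem_univ k) h
  have hmapcomp : ∀ (i : ι) (z : M ⊗[B] Ω),
      TensorProduct.map (b.coord i) LinearMap.id (TensorProduct.map φ LinearMap.id z) =
        TensorProduct.map ((b.coord i) ∘ₗ φ) LinearMap.id z := by
    intro i z
    induction z using TensorProduct.induction_on with
    | zero => simp
    | tmul e' ω => rfl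
    | add x y hx hy => simp only [map_add, hx, hy]
  have h2 : ∑ i, TensorProduct.map (b.coord i) LinearMap.id
      (TensorProduct.map φ LinearMap.id (nabla (b i))) =
      ∑ i, ∑ j, c i j • TensorProduct.map (b.coord j) LinearMap.id (nabla (b i)) := by
    apply Finset.sum_congr rfl
    intro i _
    rw [hmapcomp, hcoordφ, map_sum_smul_left]
  have h1 : ∑ i, TensorProduct.map (b.coord i) LinearMap.id (nabla (φ (b i))) =
      ∑ i, ∑ j, c j i • TensorProduct.map (b.coord i) LinearMap.id (nabla (b j)) +
        Conn.triv δ (LinearMap.trace B M φ) := by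
    have : ∀ i, TensorProduct.map (b.coord i) LinearMap.id (nabla (φ (b i))) =
        ∑ j, c j i • TensorProduct.map (b.coord i) LinearMap.id (nabla (b j)) +
          (1 : B) ⊗ₜ[B] δ (c i i) := by
      intro i
      rw [hφb i, map_sum, map_sum]
      have hc' : ∀ (x : B) (m : M), nabla (x • m) = x • nabla m + m ⊗ₜ[B] δ x := hc
      simp_rw [hc', map_add, map_smul, TensorProduct.map_tmul, LinearMap.id_apply]
      rw [Finset.sum_add_distrib]
      congr 1
      rw [Finset.sum_eq_single i]
      · simp
      · intro j _ hji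
        simp only [Module.Basis.coord_apply, Module.Basis.repr_self]
        rw [Finsupp.single_apply, if_neg hji, TensorProduct.zero_tmul]
      · intro h; exact absurd (Finset.mem_univ i) h
    simp_rw [this]
    rw [Finset.sum_add_distrib]
    congr 1
    rw [Conn.triv_apply, htr φ, map_sum, TensorProduct.tmul_sum]
  rw [h1, h2]
  rw [Finset.sum_comm]
  abel

end Trace

end Groth.Agent.Helper3.ConnLib
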