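import Groth.Agent.Lib.Helper3.ConnB

set_option autoImplicit false
universe v u

namespace Groth.Agent.Helper3.ConnLib

open TensorProduct

section Super

variable {A : Type v} {B Ω M : Type u} [CommRing A] [CommRing B] [Algebra A B]
  [AddCommGroup Ω] [Module B Ω] [Module A Ω] [IsScalarTower A B Ω]
  [AddCommGroup M] [Module B M] [Module A M] [IsScalarTower A B M]

/-- composing with a horizontal endomorphism is horizontal for the induced connection -/
theorem nablaE_comp_of_horizontal [Module.Finite B Ω] [Module.Free B Ω]
    (nabla : M →ₗ[A] M ⊗[B] Ω)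
    (nablaE : (M →ₗ[B] M) →ₗ[A] (M →ₗ[B] M) ⊗[B] Ω) (hE : Conn.IsHomConn nabla nabla nablaE)
    (ε : M →ₗ[B] M) (hε : ∀ x : M, nabla (ε x) = TensorProduct.map ε LinearMap.id (nabla x))
    (φ : M →ₗ[B] M) :
    nablaE (ε ∘ₗ φ) = TensorProduct.map (LinearMap.llcomp B M M M ε) LinearMap.id (nablaE φ) := by
  apply tensor_ext_applyₗ
  intro e
  have hnat : ∀ z : (M →ₗ[B] M) ⊗[B] Ω,
      TensorProduct.map (LinearMap.applyₗ e) LinearMap.id
        (TensorProduct.map (LinearMap.llcomp B M M M ε) LinearMap.id z) =
      TensorProduct.map ε LinearMap.id (TensorProduct.map (LinearMap.applyₗ e) LinearMap.id z) := by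
    intro z
    induction z using TensorProduct.induction_on with
    | zero => simp
    | tmul ψ ω => rfl
    | add x y hx hy => simp only [map_add, hx, hy]
  have hc : ∀ z : M ⊗[B] Ω,
      TensorProduct.map (ε ∘ₗ φ) LinearMap.id z =
        TensorProduct.map ε LinearMap.id (TensorProduct.map φ LinearMap.id z) := by
    intro z
    induction z using TensorProduct.induction_on with
    | zero => simp
    | tmul e' ω => rfl
    | add x y hx hy => simp only [map_add, hx, hy]
  rw [hnat, hE, hE, map_sub, hc, LinearMap.comp_apply, hε]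

end Super

section Graded

variable {A : Type v} {B Ω ι : Type u} [CommRing A] [CommRing B] [Algebra A B]
  [AddCommGroup Ω] [Module B Ω] [Module A Ω] [IsScalarTower A B Ω]
  [Fintype ι] [DecidableEq ι] (M : ι → Type u)
  [∀ i, AddCommGroup (M i)] [∀ i, Module B (M i)] [∀ i, Module A (M i)]
  [∀ i, IsScalarTower A B (M i)]

theorem derivation_neg_one_pow (δ : Derivation A B Ω) (n : ℕ) : δ ((-1 : B) ^ n) = 0 := by
  have h1 : δ (-1 : B) = 0 := by
    rw [map_neg, Derivation.map_one_eq_zero, neg_zero]
  rw [Derivation.leibniz_pow, h1, smul_zero, smul_zero]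

theorem grading_horizontal (s : ι → B) (hs : ∀ i, ∀ δ : Derivation A B Ω, δ (s i) = 0)
    (δ : Derivation A B Ω) (nabla : (Π k, M k) →ₗ[A] (Π k, M k) ⊗[B] Ω) (hc : Conn.IsConn δ nabla)
    (hgr : ∀ i j : ι, s i ≠ s j → ∀ m : M i,
      TensorProduct.map (LinearMap.proj j : (Π k, M k) →ₗ[B] M j) LinearMap.id
        (nabla (LinearMap.single B M i m)) = 0)
    (x : Π k, M k) :
    nabla ((∑ i : ι, (LinearMap.single B M i) ∘ₗ (s i • (LinearMap.proj i : (Π k, M k) →ₗ[B] M i))) x) =
      TensorProduct.map (∑ i : ι, (LinearMap.single B M i) ∘ₗ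
        (s i • (LinearMap.proj i : (Π k, M k) →ₗ[B] M i))) LinearMap.id (nabla x) := by
  set ε : (Π k, M k) →ₗ[B] (Π k, M k) :=
    ∑ i : ι, (LinearMap.single B M i) ∘ₗ (s i • (LinearMap.proj i : (Π k, M k) →ₗ[B] M i)) with hεdef
  have hc' : ∀ (b : B) (m : Π k, M k), nabla (b • m) = b • nabla m + m ⊗ₜ[B] δ b := hc
  have hε_single : ∀ (i : ι) (m : M i), ε (LinearMap.single B M i m) = s i • LinearMap.single B M i m := by
    intro i m
    rw [hεdef, LinearMap.sum_apply, Finset.sum_eq_single i]
    · simp only [LinearMap.comp_apply, LinearMap.smul_apply, LinearMap.proj_apply,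
        LinearMap.single_apply, Pi.single_eq_same]
      exact (LinearMap.single B M i).map_smul (s i) m
    · intro j _ hji
      simp only [LinearMap.comp_apply, LinearMap.smul_apply, LinearMap.proj_apply,
        LinearMap.single_apply]
      rw [Pi.single_eq_of_ne hji, smul_zero]
      exact Pi.single_zero j
    · intro h; exact absurd (Finset.mem_univ i) h
  -- decomposition of the identity
  have hid : ∀ z : (Π k, M k) ⊗[B] Ω, z = ∑ j : ι, TensorProduct.map (LinearMap.single B M j) LinearMap.id
      (TensorProduct.map (LinearMap.proj j : (Π k, M k) →ₗ[B] M j) LinearMap.id z) := by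
    intro z
    induction z using TensorProduct.induction_on with
    | zero => simp
    | tmul y ω =>
      simp only [TensorProduct.map_tmul, LinearMap.id_apply, LinearMap.proj_apply]
      rw [← TensorProduct.sum_tmul]
      congr 1
      exact (LinearMap.sum_single_apply M y).symm
    | add x y hx hy =>
      simp only [map_add, Finset.sum_add_distrib]
      rw [← hx, ← hy]
  have hεmap : ∀ z : (Π k, M k) ⊗[B] Ω, TensorProduct.map ε LinearMap.id z =
      ∑ j : ι, s j • TensorProduct.map (LinearMap.single B M j) LinearMap.id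
        (TensorProduct.map (LinearMap.proj j : (Π k, M k) →ₗ[B] M j) LinearMap.id z) := by
    intro z
    induction z using TensorProduct.induction_on with
    | zero => simp
    | tmul y ω =>
      simp only [TensorProduct.map_tmul, LinearMap.id_apply, LinearMap.proj_apply]
      rw [hεdef, LinearMap.sum_apply, TensorProduct.sum_tmul]
      apply Finset.sum_congr rfl
      intro j _
      simp only [LinearMap.comp_apply, LinearMap.smul_apply, LinearMap.proj_apply, map_smul]
      rw [TensorProduct.smul_tmul']
    | add x y hx hy =>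
      simp only [map_add, Finset.sum_add_distrib, smul_add]
      rw [← hx, ← hy]
  have hkey : ∀ (i : ι) (m : M i), TensorProduct.map ε LinearMap.id (nabla (LinearMap.single B M i m)) =
      s i • nabla (LinearMap.single B M i m) := by
    intro i m
    rw [hεmap]
    conv_rhs => rw [hid (nabla (LinearMap.single B M i m)), Finset.smul_sum]
    apply Finset.sum_congr rfl
    intro j _
    by_cases hij : s i = s j
    · rw [hij]
    · rw [hgr i j hij m, map_zero, smul_zero, smul_zero]
  have hx : x = ∑ i : ι, LinearMap.single B M i (x i) := (LinearMap.sum_single_apply M x).symm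
  conv_lhs => rw [hx]
  conv_rhs => rw [hx]
  rw [map_sum, map_sum, map_sum, map_sum]
  apply Finset.sum_congr rfl
  intro i _
  rw [hε_single, hc', hs i δ, TensorProduct.tmul_zero, add_zero, hkey]

end Graded

end Groth.Agent.Helper3.ConnLib
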