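import Groth.Agent.Lib.Helper3.CoskLift

/-!
# Homotopies between maps of coskeletal simplicial sets agreeing in low degrees (helper3)
-/

namespace Groth.Agent.Helper3.CoskLift

open CategoryTheory Simplicial SSet Opposite MonoidalCategory

universe u

/-- For `X` `n`-coskeletal, restriction to `n`-truncations is a bijection on morphisms. -/
lemma bijective_truncation_map {X W : SSet.{u}} (n : ℕ) [SimplicialObject.IsCoskeletal X n] :
    Function.Bijective (fun g : W ⟶ X => (SSet.truncation n).map g) := by
  let e : X ≅ (SSet.cosk n).obj X := SimplicialObject.isoCoskOfIsCoskeletal X n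
  let φ : (W ⟶ X) ≃ ((SSet.truncation n).obj W ⟶ (SSet.truncation n).obj X) :=
    (e.homToEquiv (Z := W)).trans ((SSet.coskAdj n).homEquiv W _).symm
  have hφ : ∀ g : W ⟶ X, φ g = (SSet.truncation n).map g := by
    intro g
    simp only [φ, Equiv.trans_apply, Iso.homToEquiv_apply, Adjunction.homEquiv_counit,
      Functor.map_comp, Category.assoc]
    have : (SSet.truncation n).map e.hom ≫ (SSet.coskAdj n).counit.app _ = 𝟙 _ :=
      (SSet.coskAdj n).left_triangle_components X
    rw [this, Category.comp_id]
  have : (fun g : W ⟶ X => (SSet.truncation n).map g) = φ := by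
    funext g
    exact (hφ g).symm
  rw [this]
  exact φ.bijective

/-- A simplex of `Δ[1]` is "zero" when it is constant with value `0`. -/
def IsZeroSimplex {k : SimplexCategoryᵒᵖ} (α : (Δ[1] : SSet.{u}).obj k) : Prop :=
  ∀ p, stdSimplex.asOrderHom α p = 0

lemma isZeroSimplex_map {k k' : SimplexCategoryᵒᵖ} (g : k ⟶ k') (α : (Δ[1] : SSet.{u}).obj k)
    (h : IsZeroSimplex α) : IsZeroSimplex ((Δ[1] : SSet.{u}).map g α) := by
  intro p
  exact h (g.unop.toOrderHom p)

lemma not_surjective_of_isZeroSimplex_map {k k' : SimplexCategoryᵒᵖ} (g : k ⟶ k')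
    (α : (Δ[1] : SSet.{u}).obj k) (h : ¬ IsZeroSimplex α)
    (h' : IsZeroSimplex ((Δ[1] : SSet.{u}).map g α)) :
    ¬ Function.Surjective g.unop.toOrderHom := by
  intro hs
  apply h
  intro p
  obtain ⟨q, rfl⟩ := hs p
  exact h' q

lemma isZeroSimplex_ι₀ {V : SSet.{u}} {k : SimplexCategoryᵒᵖ} (v : V.obj k) :
    IsZeroSimplex ((ι₀.app k v : (V ⊗ Δ[1]).obj k).2) := by
  intro p
  rfl

lemma not_isZeroSimplex_ι₁ {V : SSet.{u}} {k : SimplexCategoryᵒᵖ} (v : V.obj k) :
    ¬ IsZeroSimplex ((ι₁.app k v : (V ⊗ Δ[1]).obj k).2) := by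
  intro h
  have h0 := h 0
  have h1 : stdSimplex.asOrderHom ((ι₁.app k v : (V ⊗ Δ[1]).obj k).2) 0 = 1 := rfl
  rw [h1] at h0
  exact absurd h0 (by decide)

section Htpy

variable {U V : SSet.{u}} (f₀ f₁ : V ⟶ U) (n : ℕ)

/-- If `f₀` and `f₁` agree in degrees `< n` then they agree on simplices pulled back along a non
surjective map whose target has dimension `≤ n`. -/
lemma app_map_eq_of_not_surjective
    (h : ∀ i : ℕ, i < n → f₀.app (op (SimplexCategory.mk i)) = f₁.app (op (SimplexCategory.mk i)))
    {k k' : SimplexCategory} (hk : k.len ≤ n) (θ : k' ⟶ k)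
    (hθ : ¬ Function.Surjective θ.toOrderHom) (v : V.obj (op k)) :
    f₀.app (op k') (V.map θ.op v) = f₁.app (op k') (V.map θ.op v) := by
  induction k using SimplexCategory.rec with
  | _ a =>
    obtain _ | m := a
    · exfalso
      apply hθ
      intro q
      refine ⟨0, ?_⟩
      exact Subsingleton.elim (α := Fin 1) _ _
    · obtain ⟨i, θ', rfl⟩ := SimplexCategory.eq_comp_δ_of_not_surjective θ hθ
      have hm : m < n := by
        have : (SimplexCategory.mk (m + 1)).len = m + 1 := rfl
        omega
      have e1 : V.map (θ' ≫ SimplexCategory.δ i).op v = V.map θ'.op (V.map (SimplexCategory.δ i).op v) := by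
        rw [op_comp, Functor.map_comp]
        rfl
      rw [e1]
      have n0 := congrArg (fun g => g (V.map (SimplexCategory.δ i).op v)) (f₀.naturality θ'.op)
      have n1 := congrArg (fun g => g (V.map (SimplexCategory.δ i).op v)) (f₁.naturality θ'.op)
      simp only [types_comp_apply] at n0 n1
      rw [n0, n1, h m hm]

open Classical in
/-- The truncated homotopy. -/
noncomputable def hTr
    (h : ∀ i : ℕ, i < n → f₀.app (op (SimplexCategory.mk i)) = f₁.app (op (SimplexCategory.mk i))) :
    (SSet.truncation n).obj (V ⊗ Δ[1]) ⟶ (SSet.truncation n).obj U where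
  app K := ↾(fun p : (V ⊗ Δ[1]).obj (op K.unop.obj) =>
    if IsZeroSimplex p.2 then f₀.app (op K.unop.obj) p.1 else f₁.app (op K.unop.obj) p.1)
  naturality K K' g := by
    ext ⟨v, α⟩
    show (if IsZeroSimplex ((Δ[1] : SSet.{u}).map (g.unop.hom).op α) then
        f₀.app (op K'.unop.obj) (V.map (g.unop.hom).op v)
        else f₁.app (op K'.unop.obj) (V.map (g.unop.hom).op v)) =
      U.map (g.unop.hom).op (if IsZeroSimplex α then f₀.app (op K.unop.obj) v
        else f₁.app (op K.unop.obj) v)
    by_cases hα : IsZeroSimplex α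
    · have hα' := isZeroSimplex_map (g.unop.hom).op α hα
      simp only [if_pos hα, if_pos hα']
      have n0 := congrArg (fun q => q v) (f₀.naturality (g.unop.hom).op)
      simp only [types_comp_apply] at n0
      exact n0
    · simp only [if_neg hα]
      have n1 := congrArg (fun q => q v) (f₁.naturality (g.unop.hom).op)
      simp only [types_comp_apply] at n1
      by_cases hα' : IsZeroSimplex ((Δ[1] : SSet.{u}).map (g.unop.hom).op α)
      · simp only [if_pos hα']
        have hns := not_surjective_of_isZeroSimplex_map (g.unop.hom).op α hα hα'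
        rw [app_map_eq_of_not_surjective f₀ f₁ n h K.unop.property (g.unop.hom) hns v]
        exact n1
      · simp only [if_neg hα']
        exact n1

open Classical in
/-- Two maps to an `n`-coskeletal simplicial set which agree in degrees `< n` are homotopic. -/
theorem nonempty_homotopy_of_eq_below
    (h : ∀ i : ℕ, i < n → f₀.app (op (SimplexCategory.mk i)) = f₁.app (op (SimplexCategory.mk i)))
    [SimplicialObject.IsCoskeletal U n] : Nonempty (SSet.Homotopy f₀ f₁) := by
  obtain ⟨H, hH⟩ := (bijective_truncation_map (X := U) (W := V ⊗ Δ[1]) n).surjective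
    (hTr f₀ f₁ n h)
  have hH' : (SSet.truncation n).map H = hTr f₀ f₁ n h := hH
  have h0 : ι₀ ≫ H = f₀ := by
    apply (bijective_truncation_map (X := U) (W := V) n).injective
    show (SSet.truncation n).map (ι₀ ≫ H) = (SSet.truncation n).map f₀
    rw [Functor.map_comp, hH']
    ext K v
    show (if IsZeroSimplex ((ι₀.app (op K.unop.obj) v : (V ⊗ Δ[1]).obj _).2) then
        f₀.app (op K.unop.obj) v else f₁.app (op K.unop.obj) v) = f₀.app (op K.unop.obj) v
    exact if_pos (isZeroSimplex_ι₀ (V := V) (k := op K.unop.obj) v)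
  have h1 : ι₁ ≫ H = f₁ := by
    apply (bijective_truncation_map (X := U) (W := V) n).injective
    show (SSet.truncation n).map (ι₁ ≫ H) = (SSet.truncation n).map f₁
    rw [Functor.map_comp, hH']
    ext K v
    show (if IsZeroSimplex ((ι₁.app (op K.unop.obj) v : (V ⊗ Δ[1]).obj _).2) then
        f₀.app (op K.unop.obj) v else f₁.app (op K.unop.obj) v) = f₁.app (op K.unop.obj) v
    exact if_neg (not_isZeroSimplex_ι₁ (V := V) (k := op K.unop.obj) v)
  refine ⟨{ h := H, h₀ := h0, h₁ := h1, rel := ?_ }⟩
  ext k ⟨⟨x, hx⟩, _⟩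
  exact hx.elim

end Htpy

end Groth.Agent.Helper3.CoskLift
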