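import Mathlib

set_option linter.style.haveILetI false

/-!
# Lifting against boundary inclusions for coskeletal simplicial sets (helper3)
-/

namespace Groth.Agent.Helper3.CoskLift

open CategoryTheory Simplicial SSet Opposite

universe u

/-- If `X` is `n`-coskeletal and `ι : A ⟶ B` induces an isomorphism on `n`-truncations, then
every map `A ⟶ X` extends uniquely along `ι`. -/
lemma bijective_precomp {X A B : SSet.{u}} (n : ℕ) [SimplicialObject.IsCoskeletal X n] (ι : A ⟶ B)
    [IsIso ((SSet.truncation n).map ι)] : Function.Bijective (fun g : B ⟶ X => ι ≫ g) := by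
  let e : X ≅ (SSet.cosk n).obj X := SimplicialObject.isoCoskOfIsCoskeletal X n
  let φ : ∀ W : SSet.{u}, (W ⟶ X) ≃ ((SSet.truncation n).obj W ⟶ (SSet.truncation n).obj X) :=
    fun W => (e.homToEquiv (Z := W)).trans ((SSet.coskAdj n).homEquiv W _).symm
  have hφ : ∀ g : B ⟶ X, φ A (ι ≫ g) = (SSet.truncation n).map ι ≫ φ B g := by
    intro g
    simp only [φ, Equiv.trans_apply, Iso.homToEquiv_apply, Category.assoc]
    exact (SSet.coskAdj n).homEquiv_naturality_left_symm ι (g ≫ e.hom)
  have : (fun g : B ⟶ X => ι ≫ g) =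
      (φ A).symm ∘ (fun k => (SSet.truncation n).map ι ≫ k) ∘ (φ B) := by
    funext g
    simp only [Function.comp_apply]
    rw [← hφ g, Equiv.symm_apply_apply]
  rw [this]
  refine (φ A).symm.bijective.comp (Function.Bijective.comp ?_ (φ B).bijective)
  exact (Iso.homFromEquiv (asIso ((SSet.truncation n).map ι))).symm.bijective

/-- The inclusion of the boundary of `Δ[m]` is an isomorphism on `n`-truncations when `n < m`. -/
lemma isIso_truncation_boundary_ι (n m : ℕ) (h : n < m) :
    IsIso ((SSet.truncation n).map (∂Δ[m] : Subcomplex.{u} _).ι) := by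
  rw [NatTrans.isIso_iff_isIso_app]
  rintro ⟨⟨k, hk⟩⟩
  induction k using SimplexCategory.rec with
  | _ a =>
    have ha : a ≤ n := hk
    rw [isIso_iff_bijective]
    constructor
    · intro x y hxy
      exact Subtype.ext hxy
    · intro x
      have hx : x ∈ (boundary.{u} m).obj (op ⦋a⦌) := by
        rw [boundary_obj_eq_univ a m (by omega)]
        exact Set.mem_univ _
      exact ⟨⟨x, hx⟩, rfl⟩

/-- A map of `n`-coskeletal simplicial sets which is bijective in degrees `< n` and surjective in
degree `n` is a trivial Kan fibration. -/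
theorem trivialKanFibration_of_isCoskeletal {U V : SSet.{u}} (f : V ⟶ U) (n : ℕ)
    (h1 : ∀ i : ℕ, i < n → Function.Bijective (f.app (op (SimplexCategory.mk i))))
    (h2 : Function.Surjective (f.app (op (SimplexCategory.mk n))))
    [SimplicialObject.IsCoskeletal U n] [SimplicialObject.IsCoskeletal V n] :
    SSet.modelCategoryQuillen.I.rlp f := by
  intro A B g hg
  obtain ⟨m⟩ := hg
  refine ⟨fun {t b} sq => ?_⟩
  by_cases hm : n < m
  · -- coskeletal extension
    haveI := isIso_truncation_boundary_ι.{u} n m hm
    obtain ⟨l, hl⟩ := (bijective_precomp (X := V) n (∂Δ[m] : Subcomplex.{u} _).ι).surjective t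
    have hl' : (∂Δ[m] : Subcomplex.{u} _).ι ≫ l = t := hl
    refine ⟨⟨{ l := l, fac_left := hl', fac_right := ?_ }⟩⟩
    apply (bijective_precomp (X := U) n (∂Δ[m] : Subcomplex.{u} _).ι).injective
    change (∂Δ[m] : Subcomplex.{u} _).ι ≫ l ≫ f = (∂Δ[m] : Subcomplex.{u} _).ι ≫ b
    rw [← Category.assoc, hl', sq.w]
  · -- m ≤ n
    have hsurj : Function.Surjective (f.app (op ⦋m⦌)) := by
      rcases Nat.lt_or_ge m n with h | h
      · exact (h1 m h).surjective
      · obtain rfl : m = n := by omega
        exact h2
    obtain ⟨v, hv⟩ := hsurj (SSet.yonedaEquiv b)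
    refine ⟨⟨{ l := SSet.yonedaEquiv.symm v, fac_left := ?_, fac_right := ?_ }⟩⟩
    · obtain _ | m' := m
      · exact boundary.hom_ext₀
      · apply boundary.hom_ext
        intro j
        rw [← Category.assoc, boundary.ι_ι, stdSimplex.δ_comp_yonedaEquiv_symm]
        have hinj : Function.Injective (f.app (op ⦋m'⦌)) := (h1 m' (by omega)).injective
        have : V.δ j v = SSet.yonedaEquiv (boundary.ι j ≫ t) := by
          apply hinj
          rw [SSet.δ_naturality_apply, hv, ← stdSimplex.yonedaEquiv_δ_comp, ← SSet.yonedaEquiv_comp,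
            Category.assoc, sq.w, ← Category.assoc, boundary.ι_ι]
        rw [this]
        exact Equiv.symm_apply_apply _ _
    · rw [SSet.yonedaEquiv_symm_comp, hv]
      exact Equiv.symm_apply_apply _ _

end Groth.Agent.Helper3.CoskLift
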