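import Mathlib

/-!
# Weyl group chain lemma for root pairings (towards S2957)

For a finite crystallographic reduced root pairing with base `b`: inversion counts, the exchange
condition, `w` fixing the positive system is trivial, rank-two reduction, and the chain lemma.
-/

open RootPairing
open scoped Pointwise

namespace Groth.Agent.Lib.Helper3.WeylChain1

variable {ι R M N : Type*} [CommRing R] [CharZero R] [IsDomain R] [AddCommGroup M] [Module R M]
    [AddCommGroup N] [Module R N] {P : RootPairing ι R M N}

lemma root_smul (w : P.Aut) (i : ι) : P.root (w • i) = w • P.root i :=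
  RootPairing.Equiv.root_indexEquiv_eq_smul P i w

lemma refl_smul_idx (j i : ι) :
    RootPairing.Equiv.reflection P j • i = P.reflectionPerm j i := rfl

lemma smul_neg_idx (w : P.Aut) (i : ι) :
    w • (P.reflectionPerm i i) = P.reflectionPerm (w • i) (w • i) := by
  apply P.root.injective
  rw [root_smul, P.root_reflectionPerm, P.reflection_apply_self, P.root_reflectionPerm,
    P.reflection_apply_self, root_smul, smul_neg]

lemma isPos_neg_iff (b : P.Base) (i : ι) : b.IsPos (P.reflectionPerm i i) ↔ ¬ b.IsPos i :=
  RootPairing.Base.IsPos.neg_iff_not b i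

lemma refl_mul_self (i : ι) :
    RootPairing.Equiv.reflection P i * RootPairing.Equiv.reflection P i = 1 := by
  rw [mul_eq_one_iff_inv_eq, RootPairing.Equiv.reflection_inv P i]

/-- The inversion set of `w`. -/
def Inv (b : P.Base) (w : P.Aut) : Set ι := {i | b.IsPos i ∧ ¬ b.IsPos (w • i)}

/-- The number of inversions of `w`. -/
noncomputable def NN (b : P.Base) (w : P.Aut) : ℕ := (Inv b w).ncard

lemma NN_mul_refl_lt [Finite ι] [P.IsCrystallographic] [P.IsReduced] (b : P.Base) (w : P.Aut)
    {j : ι} (hj : j ∈ b.support) (hneg : ¬ b.IsPos (w • j)) :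
    NN b (w * RootPairing.Equiv.reflection P j) < NN b w := by
  have hjB : j ∈ Inv b w := ⟨RootPairing.Base.isPos_of_mem_support hj, hneg⟩
  have hfin : (Inv b w).Finite := Set.toFinite _
  refine lt_of_le_of_lt ?_ (Set.ncard_sdiff_singleton_lt_of_mem hjB hfin)
  refine Set.ncard_le_ncard_of_injOn (fun i => P.reflectionPerm j i) ?_ ?_
    (hfin.subset Set.sdiff_subset)
  · rintro i ⟨hi, hni⟩
    have hij : i ≠ j := by
      rintro rfl
      apply hni
      rw [mul_smul, refl_smul_idx, smul_neg_idx, isPos_neg_iff]
      exact hneg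
    refine ⟨⟨hi.reflectionPerm hj hij, ?_⟩, ?_⟩
    · rw [mul_smul, refl_smul_idx] at hni
      exact hni
    · intro h
      have h' : P.reflectionPerm j i = j := h
      have h2 : i = P.reflectionPerm j j := by
        have h3 := P.reflectionPerm_self j i
        rw [h'] at h3
        exact h3.symm
      have hi' := hi
      rw [h2, isPos_neg_iff] at hi'
      exact hi' (RootPairing.Base.isPos_of_mem_support hj)
  · exact (P.reflectionPerm j).injective.injOn

lemma coroot'_smul (v : P.Aut) (i : ι) (x : M) :
    P.coroot' (v • i) (v • x) = P.coroot' i x := by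
  have h := RootPairing.Hom.weight_coweight_transpose_apply P P (P.coroot (v • i)) v.toHom
  have h2 := RootPairing.Hom.coroot_coweightMap_apply P P (v • i) v.toHom
  have h3 : v.toHom.indexEquiv.symm (v • i) = i := v.toHom.indexEquiv.symm_apply_apply i
  rw [h3] at h2
  rw [h2] at h
  have h4 := LinearMap.congr_fun h x
  have hvx : v • x = v.toHom.weightMap x := rfl
  rw [hvx]
  simpa using h4

lemma refl_conj (v : P.Aut) (i : ι) :
    v * RootPairing.Equiv.reflection P i = RootPairing.Equiv.reflection P (v • i) * v := by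
  apply RootPairing.Equiv.weightHom_injective
  ext x
  show (v * RootPairing.Equiv.reflection P i) • x =
    (RootPairing.Equiv.reflection P (v • i) * v) • x
  rw [mul_smul, mul_smul, RootPairing.Equiv.reflection_smul, RootPairing.Equiv.reflection_smul,
    P.reflection_apply, P.reflection_apply, smul_sub, smul_comm v, ← root_smul, coroot'_smul]

lemma refl_reflectionPerm_eq (j i : ι) :
    RootPairing.Equiv.reflection P (P.reflectionPerm j i) =
      RootPairing.Equiv.reflection P j * RootPairing.Equiv.reflection P i *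
        RootPairing.Equiv.reflection P j := by
  have h := refl_conj (RootPairing.Equiv.reflection P j) i
  rw [refl_smul_idx] at h
  rw [h, mul_assoc, refl_mul_self, mul_one]

lemma refl_neg_eq (i : ι) :
    RootPairing.Equiv.reflection P (P.reflectionPerm i i) = RootPairing.Equiv.reflection P i := by
  rw [refl_reflectionPerm_eq, refl_mul_self, one_mul]

/-- The product of the simple reflections along a word. -/
noncomputable def wprod (P : RootPairing ι R M N) (L : List ι) : P.Aut :=
  (L.map (RootPairing.Equiv.reflection P)).prod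

lemma wprod_nil : wprod P [] = 1 := rfl

lemma wprod_cons (a : ι) (L : List ι) :
    wprod P (a :: L) = RootPairing.Equiv.reflection P a * wprod P L := by
  simp [wprod]

lemma wprod_append (L1 L2 : List ι) : wprod P (L1 ++ L2) = wprod P L1 * wprod P L2 := by
  simp [wprod]

lemma wprod_reverse (L : List ι) : wprod P L.reverse = (wprod P L)⁻¹ := by
  induction L with
  | nil => simp [wprod]
  | cons a L ih =>
    rw [List.reverse_cons, wprod_append, ih, wprod_cons a L, mul_inv_rev, wprod_cons, wprod_nil,
      mul_one, RootPairing.Equiv.reflection_inv]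

lemma refl_mem_simple [Finite ι] [P.IsCrystallographic] [P.IsReduced] (b : P.Base) (i : ι) :
    RootPairing.Equiv.reflection P i ∈
      Subgroup.closure ((RootPairing.Equiv.reflection P) '' (b.support : Set ι)) := by
  refine b.induction_reflect i
    (p := fun i => RootPairing.Equiv.reflection P i ∈
      Subgroup.closure ((RootPairing.Equiv.reflection P) '' (b.support : Set ι))) ?_ ?_ ?_
  · intro i hi
    rw [refl_neg_eq]
    exact hi
  · intro i hi
    exact Subgroup.subset_closure ⟨i, hi, rfl⟩
  · intro i j hi hj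
    rw [refl_reflectionPerm_eq]
    exact mul_mem (mul_mem (Subgroup.subset_closure ⟨j, hj, rfl⟩) hi)
      (Subgroup.subset_closure ⟨j, hj, rfl⟩)

lemma exists_word [Finite ι] [P.IsCrystallographic] [P.IsReduced] (b : P.Base) {w : P.Aut}
    (hw : w ∈ P.weylGroup) :
    ∃ L : List ι, (∀ j ∈ L, j ∈ b.support) ∧ w = wprod P L := by
  have hw' : w ∈ Subgroup.closure ((RootPairing.Equiv.reflection P) '' (b.support : Set ι)) := by
    refine (Subgroup.closure_le _).mpr ?_ hw
    rintro _ ⟨i, rfl⟩
    exact refl_mem_simple b i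
  clear hw
  induction hw' using Subgroup.closure_induction with
  | mem x hx =>
    obtain ⟨j, hj, rfl⟩ := hx
    exact ⟨[j], by simpa using hj, by simp [wprod]⟩
  | one => exact ⟨[], by simp, rfl⟩
  | mul x y _ _ hx hy =>
    obtain ⟨L1, h1, rfl⟩ := hx
    obtain ⟨L2, h2, rfl⟩ := hy
    refine ⟨L1 ++ L2, ?_, (wprod_append L1 L2).symm⟩
    intro j hj
    rcases List.mem_append.mp hj with hj | hj
    · exact h1 j hj
    · exact h2 j hj
  | inv x _ hx =>
    obtain ⟨L, h, rfl⟩ := hx
    exact ⟨L.reverse, by simpa using h, (wprod_reverse L).symm⟩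

lemma exchange [Finite ι] [P.IsCrystallographic] [P.IsReduced] (b : P.Base) {γ : ι}
    (hγ : γ ∈ b.support) :
    ∀ L : List ι, (∀ j ∈ L, j ∈ b.support) → ¬ b.IsPos (wprod P L • γ) →
      ∃ L' : List ι, (∀ j ∈ L', j ∈ b.support) ∧ L'.length + 1 = L.length ∧
        wprod P L * RootPairing.Equiv.reflection P γ = wprod P L' := by
  intro L
  induction L with
  | nil =>
    intro _ h
    rw [wprod_nil, one_smul] at h
    exact absurd (RootPairing.Base.isPos_of_mem_support hγ) h
  | cons a L₀ ih =>
    intro hL hneg
    have ha : a ∈ b.support := hL a (List.mem_cons_self ..)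
    have hL₀ : ∀ j ∈ L₀, j ∈ b.support := fun j hj => hL j (List.mem_cons_of_mem _ hj)
    rw [wprod_cons, mul_smul, refl_smul_idx] at hneg
    by_cases hpos : b.IsPos (wprod P L₀ • γ)
    · have hia : wprod P L₀ • γ = a := by
        by_contra hne
        exact hneg (hpos.reflectionPerm ha hne)
      refine ⟨L₀, hL₀, rfl, ?_⟩
      rw [wprod_cons, mul_assoc, refl_conj, hia, ← mul_assoc, refl_mul_self, one_mul]
    · obtain ⟨L', hL', hlen, heq⟩ := ih hL₀ hpos
      refine ⟨a :: L', ?_, by simp [hlen], ?_⟩
      · intro j hj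
        rcases List.mem_cons.mp hj with rfl | hj
        · exact ha
        · exact hL' j hj
      · rw [wprod_cons, mul_assoc, heq, wprod_cons]

lemma eq_one_of_pos [Finite ι] [P.IsCrystallographic] [P.IsReduced] (b : P.Base) :
    ∀ (n : ℕ) (L : List ι), L.length = n → (∀ j ∈ L, j ∈ b.support) →
      (∀ γ ∈ b.support, b.IsPos (wprod P L • γ)) → wprod P L = 1 := by
  intro n
  induction n using Nat.strong_induction_on with
  | _ n ih =>
    intro L hlen hL hpos
    rcases List.eq_nil_or_concat L with rfl | ⟨L₁, γ, rfl⟩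
    · rfl
    · rw [List.concat_eq_append] at hlen hL hpos ⊢
      have hγ : γ ∈ b.support := hL γ (by simp)
      have hL₁ : ∀ j ∈ L₁, j ∈ b.support := fun j hj => hL j (by simp [hj])
      have hw : wprod P (L₁ ++ [γ]) = wprod P L₁ * RootPairing.Equiv.reflection P γ := by
        rw [wprod_append, wprod_cons, wprod_nil, mul_one]
      have hneg : ¬ b.IsPos (wprod P L₁ • γ) := by
        have h1 := hpos γ hγ
        rw [hw, mul_smul, refl_smul_idx, smul_neg_idx, isPos_neg_iff] at h1
        exact h1
      obtain ⟨L', hL', hlen', heq⟩ := exchange b hγ L₁ hL₁ hneg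
      rw [hw, heq]
      apply ih L'.length ?_ L' rfl hL'
      · rw [← heq, ← hw]
        exact hpos
      · simp at hlen
        omega

lemma pos_of_pos_simple [Finite ι] [P.IsCrystallographic] (b : P.Base) (w : P.Aut)
    (h : ∀ γ ∈ b.support, b.IsPos (w • γ)) {i : ι} (hi : b.IsPos i) : b.IsPos (w • i) := by
  refine hi.induction_on_add (p := fun i => b.IsPos (w • i)) h ?_
  intro i j k hk hpi hj
  refine hpi.add (h j hj) ?_
  rw [root_smul, root_smul, root_smul, hk, smul_add]

lemma exists_simple_neg [Finite ι] [P.IsCrystallographic] (b : P.Base) (w : P.Aut)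
    (h : NN b w ≠ 0) : ∃ γ ∈ b.support, ¬ b.IsPos (w • γ) := by
  by_contra hcon
  push Not at hcon
  apply h
  have : Inv b w = ∅ := by
    ext i
    simp only [Inv, Set.mem_ofPred_eq, Set.mem_empty_iff_false, iff_false, not_and, not_not]
    intro hi
    exact pos_of_pos_simple b w hcon hi
  rw [NN, this, Set.ncard_empty]

lemma rank2_reduce [Finite ι] [P.IsCrystallographic] [P.IsReduced] (b : P.Base) {x y : ι}
    (hx : x ∈ b.support) (hy : y ∈ b.support) :
    ∀ (n : ℕ) (w : P.Aut), NN b w = n →
      ∃ u ∈ Subgroup.closure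
          {RootPairing.Equiv.reflection P x, RootPairing.Equiv.reflection P y},
        b.IsPos ((w * u) • x) ∧ b.IsPos ((w * u) • y) ∧ NN b (w * u) ≤ NN b w ∧
          ((¬ b.IsPos (w • x) ∨ ¬ b.IsPos (w • y)) → NN b (w * u) < NN b w) := by
  intro n
  induction n using Nat.strong_induction_on with
  | _ n ih =>
    intro w hn
    have step : ∀ δ, δ ∈ b.support →
        RootPairing.Equiv.reflection P δ ∈ Subgroup.closure
          {RootPairing.Equiv.reflection P x, RootPairing.Equiv.reflection P y} →
        ¬ b.IsPos (w • δ) →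
        ∃ u ∈ Subgroup.closure
          {RootPairing.Equiv.reflection P x, RootPairing.Equiv.reflection P y},
        b.IsPos ((w * u) • x) ∧ b.IsPos ((w * u) • y) ∧ NN b (w * u) ≤ NN b w ∧
          ((¬ b.IsPos (w • x) ∨ ¬ b.IsPos (w • y)) → NN b (w * u) < NN b w) := by
      intro δ hδ hmem hneg
      have hlt := NN_mul_refl_lt b w hδ hneg
      obtain ⟨u₁, hu₁, p1, p2, hle, -⟩ :=
        ih (NN b (w * RootPairing.Equiv.reflection P δ)) (hn ▸ hlt)
          (w * RootPairing.Equiv.reflection P δ) rfl
      refine ⟨RootPairing.Equiv.reflection P δ * u₁, mul_mem hmem hu₁, ?_, ?_, ?_, ?_⟩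
      · rw [← mul_assoc]; exact p1
      · rw [← mul_assoc]; exact p2
      · rw [← mul_assoc]; exact hle.trans hlt.le
      · intro _
        rw [← mul_assoc]; exact lt_of_le_of_lt hle hlt
    by_cases h1 : b.IsPos (w • x)
    · by_cases h2 : b.IsPos (w • y)
      · refine ⟨1, one_mem _, by simpa using h1, by simpa using h2, by simp, ?_⟩
        rintro (h | h)
        · exact absurd h1 h
        · exact absurd h2 h
      · exact step y hy (Subgroup.subset_closure (by simp)) h2
    · exact step x hx (Subgroup.subset_closure (by simp)) h1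

lemma refl_span_pair [P.IsCrystallographic] (x y δ : ι) (hδ : δ = x ∨ δ = y) :
    ∀ v ∈ Submodule.span ℤ {P.root x, P.root y},
      RootPairing.Equiv.reflection P δ • v ∈ Submodule.span ℤ {P.root x, P.root y} := by
  have hδmem : P.root δ ∈ Submodule.span ℤ {P.root x, P.root y} := by
    rcases hδ with rfl | rfl
    · exact Submodule.subset_span (by simp)
    · exact Submodule.subset_span (by simp)
  have hle : (Submodule.span ℤ {P.root x, P.root y}).map
      ((DistribSMul.toAddMonoidHom M (RootPairing.Equiv.reflection P δ)).toIntLinearMap) ≤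
      Submodule.span ℤ {P.root x, P.root y} := by
    rw [Submodule.map_span_le]
    intro m hm
    have key : ∀ k : ι, P.root k ∈ Submodule.span ℤ {P.root x, P.root y} →
        RootPairing.Equiv.reflection P δ • P.root k ∈ Submodule.span ℤ {P.root x, P.root y} := by
      intro k hk
      rw [RootPairing.Equiv.reflection_smul, P.reflection_apply_root' ℤ]
      exact sub_mem hk (Submodule.smul_mem _ _ hδmem)
    rcases hm with rfl | rfl
    · exact key x (Submodule.subset_span (by simp))
    · exact key y (Submodule.subset_span (by simp))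
  intro v hv
  exact hle (Submodule.mem_map_of_mem hv)

lemma closure_span_pair [P.IsCrystallographic] (x y : ι) {u : P.Aut}
    (hu : u ∈ Subgroup.closure
      {RootPairing.Equiv.reflection P x, RootPairing.Equiv.reflection P y}) :
    (∀ v ∈ Submodule.span ℤ {P.root x, P.root y},
      u • v ∈ Submodule.span ℤ {P.root x, P.root y}) ∧
    (∀ v ∈ Submodule.span ℤ {P.root x, P.root y},
      u⁻¹ • v ∈ Submodule.span ℤ {P.root x, P.root y}) := by
  induction hu using Subgroup.closure_induction with
  | mem g hg =>
    rcases hg with rfl | rfl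
    · rw [RootPairing.Equiv.reflection_inv]
      exact ⟨refl_span_pair x y x (Or.inl rfl), refl_span_pair x y x (Or.inl rfl)⟩
    · rw [RootPairing.Equiv.reflection_inv]
      exact ⟨refl_span_pair x y y (Or.inr rfl), refl_span_pair x y y (Or.inr rfl)⟩
  | one => simp
  | mul g h _ _ hg hh =>
    refine ⟨fun v hv => ?_, fun v hv => ?_⟩
    · rw [mul_smul]; exact hg.1 _ (hh.1 v hv)
    · rw [mul_inv_rev, mul_smul]; exact hh.2 _ (hg.2 v hv)
  | inv g _ hg =>
    refine ⟨hg.2, ?_⟩
    rw [inv_inv]; exact hg.1

lemma same_sign (b : P.Base) {x y k : ι} (hx : x ∈ b.support) (hy : y ∈ b.support)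
    (hxy : x ≠ y) {a c : ℤ} (hk : P.root k = a • P.root x + c • P.root y) :
    (0 ≤ a ∧ 0 ≤ c) ∨ (a ≤ 0 ∧ c ≤ 0) := by
  classical
  set f : ι → ℤ := fun j => if j = x then a else if j = y then c else 0 with hf
  have hfx : f x = a := by simp [hf]
  have hfy : f y = c := by simp [hf, hxy.symm]
  have hsum : ∑ j ∈ b.support, f j • P.root j = a • P.root x + c • P.root y := by
    rw [Finset.sum_eq_add_of_mem x y hx hy hxy, hfx, hfy]
    intro j _ hj
    simp [hf, hj.1, hj.2]
  have hsupp : f.support ⊆ b.support := by
    intro j hj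
    rw [Function.mem_support] at hj
    by_cases h1 : j = x
    · rw [h1]; exact hx
    · by_cases h2 : j = y
      · rw [h2]; exact hy
      · exact absurd (by simp [hf, h1, h2]) hj
  have hmem : ∑ j ∈ b.support, f j • P.root j ∈ Set.range P.root := ⟨k, by rw [hsum, hk]⟩
  rcases b.pos_or_neg_of_sum_smul_root_mem f hmem hsupp with h | h
  · left
    exact ⟨hfx ▸ h.le x, hfy ▸ h.le y⟩
  · right
    exact ⟨hfx ▸ h.le x, hfy ▸ h.le y⟩

lemma height_lin (b : P.Base) {i j k : ι} {a c : ℤ}
    (hk : P.root k = a • P.root i + c • P.root j) :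
    b.height k = a * b.height i + c * b.height j := by
  obtain ⟨f, -, -, hf⟩ := b.exists_root_eq_sum_int i
  obtain ⟨g, -, -, hg⟩ := b.exists_root_eq_sum_int j
  have hfg : P.root k = ∑ l ∈ b.support, (a • f + c • g) l • P.root l := by
    simp_rw [Pi.add_apply, Pi.smul_apply, add_smul, smul_assoc, Finset.sum_add_distrib,
      ← Finset.smul_sum, ← hf, ← hg, hk]
  simp_rw [RootPairing.Base.height_eq_sum hf, RootPairing.Base.height_eq_sum hg,
    RootPairing.Base.height_eq_sum hfg, Pi.add_apply, Pi.smul_apply,
    Finset.sum_add_distrib, ← Finset.smul_sum, smul_eq_mul]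

lemma int_aux {a c h1 h2 : ℤ} (hh : 1 = a * h1 + c * h2) (p1 : 0 < h1) (p2 : 0 < h2)
    (hs : (0 ≤ a ∧ 0 ≤ c) ∨ (a ≤ 0 ∧ c ≤ 0)) : (a = 1 ∧ c = 0) ∨ (a = 0 ∧ c = 1) := by
  rcases hs with ⟨ha, hc⟩ | ⟨ha, hc⟩
  · by_cases ha0 : a = 0
    · right
      subst ha0
      refine ⟨rfl, ?_⟩
      have h : c * h2 = 1 := by linarith
      rcases Int.eq_one_or_neg_one_of_mul_eq_one h with h' | h'
      · exact h'
      · omega
    · left
      have ha1 : 1 ≤ a := by omega
      have hc0 : c = 0 := by
        by_contra hc0
        have hc1 : 1 ≤ c := by omega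
        nlinarith [mul_le_mul ha1 (show (1 : ℤ) ≤ h1 from p1) (by norm_num) (by linarith),
          mul_le_mul hc1 (show (1 : ℤ) ≤ h2 from p2) (by norm_num) (by linarith)]
      subst hc0
      refine ⟨?_, rfl⟩
      have h : a * h1 = 1 := by linarith
      rcases Int.eq_one_or_neg_one_of_mul_eq_one h with h' | h'
      · exact h'
      · omega
  · exfalso
    nlinarith [mul_nonneg (neg_nonneg.2 ha) p1.le, mul_nonneg (neg_nonneg.2 hc) p2.le]

lemma step_simple [Finite ι] [P.IsCrystallographic] (b : P.Base) {x y z : ι}
    (hx : x ∈ b.support) (hy : y ∈ b.support) (hz : z ∈ b.support) (hxy : x ≠ y)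
    {w' u' : P.Aut}
    (hu' : u' ∈ Subgroup.closure
      {RootPairing.Equiv.reflection P x, RootPairing.Equiv.reflection P y})
    (h1 : b.IsPos (w' • x)) (h2 : b.IsPos (w' • y)) (hz' : w' • (u' • x) = z) :
    u' • x = x ∨ u' • x = y := by
  have hmem : P.root (u' • x) ∈ Submodule.span ℤ {P.root x, P.root y} := by
    rw [root_smul]
    exact (closure_span_pair x y hu').1 _ (Submodule.subset_span (by simp))
  obtain ⟨a, c, hac⟩ := Submodule.mem_span_pair.mp hmem
  have hsign := same_sign b hx hy hxy hac.symm
  have hroot : P.root z = a • P.root (w' • x) + c • P.root (w' • y) := by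
    rw [← hz', root_smul, ← hac, smul_add, root_smul, root_smul, smul_comm w' a,
      smul_comm w' c]
  have hh := height_lin b hroot
  rw [RootPairing.Base.height_one_of_mem_support hz] at hh
  rcases int_aux hh h1 h2 hsign with ⟨rfl, rfl⟩ | ⟨rfl, rfl⟩
  · left
    apply P.root.injective
    rw [← hac]; simp
  · right
    apply P.root.injective
    rw [← hac]; simp

/-- The chain lemma. -/
theorem chain [Finite ι] [P.IsCrystallographic] [P.IsReduced] (b : P.Base) :
    ∀ (n : ℕ) (w : P.Aut), NN b w = n → w ∈ P.weylGroup → ∀ (x z : ι), x ∈ b.support →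
      z ∈ b.support → w • x = z →
    ∃ (m : ℕ) (a : Fin (m + 1) → ι) (ws : Fin m → P.Aut),
      (∀ i, a i ∈ b.support) ∧ a 0 = x ∧ a (Fin.last m) = z ∧
      (∀ i, ws i ∈ P.weylGroup) ∧
      w = (List.ofFn fun i : Fin m => ws (Fin.rev i)).prod ∧
      (∀ i : Fin m, ws i • a (Fin.castSucc i) = a (Fin.succ i)) ∧
      ∀ i : Fin m, ∃ γ ∈ b.support,
        ws i ∈ Subgroup.closure {RootPairing.Equiv.reflection P (a (Fin.castSucc i)),
          RootPairing.Equiv.reflection P γ} ∧
        (a (Fin.castSucc i) ≠ a (Fin.succ i) → γ = a (Fin.succ i)) := by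
  intro n
  induction n using Nat.strong_induction_on with
  | _ n ih =>
    intro w hn hw x z hx hz hwx
    by_cases hN : NN b w = 0
    · -- `w = 1`
      have hall : ∀ γ ∈ b.support, b.IsPos (w • γ) := by
        intro γ hγ
        by_contra hneg
        have hmem : γ ∈ Inv b w := ⟨RootPairing.Base.isPos_of_mem_support hγ, hneg⟩
        have hfin : (Inv b w).Finite := Set.toFinite _
        have : Inv b w = ∅ := (Set.ncard_eq_zero hfin).mp hN
        rw [this] at hmem
        exact hmem
      obtain ⟨L, hL, rfl⟩ := exists_word b hw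
      have h1 := eq_one_of_pos b L.length L rfl hL hall
      rw [h1, one_smul] at hwx
      refine ⟨0, fun _ => x, fun i => i.elim0, fun _ => hx, rfl, hwx, fun i => i.elim0, ?_,
        fun i => i.elim0, fun i => i.elim0⟩
      rw [h1]; simp
    · obtain ⟨y, hy, hyneg⟩ := exists_simple_neg b w hN
      have hxy : x ≠ y := by
        rintro rfl
        apply hyneg
        rw [hwx]
        exact RootPairing.Base.isPos_of_mem_support hz
      obtain ⟨u, hu, p1, p2, -, hlt⟩ := rank2_reduce b hx hy (NN b w) w rfl
      have hlt' := hlt (Or.inr hyneg)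
      have hu' : u⁻¹ ∈ Subgroup.closure
          {RootPairing.Equiv.reflection P x, RootPairing.Equiv.reflection P y} := inv_mem hu
      have hwu : (w * u) * u⁻¹ = w := mul_inv_cancel_right w u
      have hz' : (w * u) • (u⁻¹ • x) = z := by
        rw [← mul_smul, hwu]; exact hwx
      have hx₁ := step_simple b hx hy hz hxy hu' p1 p2 hz'
      have hx₁mem : u⁻¹ • x ∈ b.support := by
        rcases hx₁ with h | h
        · rw [h]; exact hx
        · rw [h]; exact hy
      have hcl : Subgroup.closure
          {RootPairing.Equiv.reflection P x, RootPairing.Equiv.reflection P y} ≤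
          P.weylGroup := by
        refine (Subgroup.closure_le _).mpr ?_
        rintro _ (rfl | rfl)
        · exact P.reflection_mem_weylGroup _
        · exact P.reflection_mem_weylGroup _
      have hwuW : w * u ∈ P.weylGroup := mul_mem hw (hcl hu)
      obtain ⟨m', a', ws', ha', ha0, halast, hws', hprod, hstep, hgam⟩ :=
        ih (NN b (w * u)) (hn ▸ hlt') (w * u) rfl hwuW (u⁻¹ • x) z hx₁mem hz hz'
      refine ⟨m' + 1, Fin.cons (α := fun _ => ι) x a', Fin.cons (α := fun _ => P.Aut) u⁻¹ ws',
        ?_, ?_, ?_, ?_, ?_, ?_, ?_⟩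
      · refine Fin.cases ?_ ?_
        · simpa using hx
        · intro i; simpa using ha' i
      · simp
      · rw [← Fin.succ_last, Fin.cons_succ]; exact halast
      · refine Fin.cases ?_ ?_
        · simpa using hcl hu'
        · intro i; simpa using hws' i
      · rw [List.ofFn_succ']
        simp only [Fin.rev_castSucc, Fin.cons_succ, Fin.rev_last, Fin.cons_zero,
          List.concat_eq_append, List.prod_append, List.prod_singleton, ← hprod]
        exact hwu.symm
      · refine Fin.cases ?_ ?_
        · simp only [Fin.castSucc_zero, Fin.cons_zero, Fin.cons_succ]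
          exact ha0.symm
        · intro i
          rw [← Fin.succ_castSucc]
          simp only [Fin.cons_succ]
          exact hstep i
      · refine Fin.cases ?_ ?_
        · refine ⟨y, hy, ?_, ?_⟩
          · simpa using hu'
          · simp only [Fin.castSucc_zero, Fin.cons_zero, Fin.cons_succ]
            intro hne
            rw [ha0]
            rcases hx₁ with h | h
            · exact absurd (ha0.trans h).symm hne
            · exact h.symm
        · intro i
          obtain ⟨γ, hγ, hmem, himp⟩ := hgam i
          refine ⟨γ, hγ, ?_, ?_⟩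
          · rw [← Fin.succ_castSucc]
            simpa only [Fin.cons_succ] using hmem
          · rw [← Fin.succ_castSucc]
            simpa only [Fin.cons_succ] using himp

end Groth.Agent.Lib.Helper3.WeylChain1
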