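import Mathlib
import Groth.Agent.Lib.Helper3.WeylChain1
import Groth.Agent.Lib.Helper3.RootIsog1

/-!
# Length function and strong exchange for Weyl groups of root pairings (towards S15245, S19548)
-/

open RootPairing

namespace Groth.Agent.Lib.Helper3.WeylLen1

open Groth.Agent.Lib.Helper3.WeylChain1 Groth.Agent.Lib.Helper3.RootIsog1

section General

variable {ι R M N : Type*} [CommRing R] [CharZero R] [IsDomain R] [AddCommGroup M] [Module R M]
    [AddCommGroup N] [Module R N] {P : RootPairing ι R M N}

lemma NN_mul_refl_le [Finite ι] [P.IsCrystallographic] [P.IsReduced] (b : P.Base) (w : P.Aut)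
    {j : ι} (hj : j ∈ b.support) :
    NN b (w * RootPairing.Equiv.reflection P j) ≤ NN b w + 1 := by
  classical
  have hfin : (WeylChain1.Inv b w).Finite := Set.toFinite _
  have hsub : WeylChain1.Inv b (w * RootPairing.Equiv.reflection P j) ⊆
      insert j ((fun i => P.reflectionPerm j i) '' WeylChain1.Inv b w) := by
    rintro a ⟨ha, hna⟩
    by_cases haj : a = j
    · exact Or.inl haj
    · right
      refine ⟨P.reflectionPerm j a, ⟨ha.reflectionPerm hj haj, ?_⟩, P.reflectionPerm_self j a⟩
      rw [mul_smul, refl_smul_idx] at hna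
      exact hna
  calc NN b (w * RootPairing.Equiv.reflection P j)
      ≤ (insert j ((fun i => P.reflectionPerm j i) '' WeylChain1.Inv b w)).ncard :=
        Set.ncard_le_ncard hsub (Set.toFinite _)
    _ ≤ ((fun i => P.reflectionPerm j i) '' WeylChain1.Inv b w).ncard + 1 := Set.ncard_insert_le _ _
    _ ≤ NN b w + 1 := by
        have := Set.ncard_image_le (f := fun i => P.reflectionPerm j i) hfin
        unfold NN; omega

lemma NN_one [Finite ι] (b : P.Base) : NN b (1 : P.Aut) = 0 := by
  have : WeylChain1.Inv b (1 : P.Aut) = ∅ := by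
    ext a
    simp only [WeylChain1.Inv, Set.mem_ofPred_eq, one_smul, Set.mem_empty_iff_false, iff_false, not_and,
      not_not]
    exact id
  rw [NN, this, Set.ncard_empty]

lemma NN_wprod_le [Finite ι] [P.IsCrystallographic] [P.IsReduced] (b : P.Base) :
    ∀ L : List ι, (∀ j ∈ L, j ∈ b.support) → NN b (wprod P L) ≤ L.length := by
  intro L
  induction L using List.reverseRecOn with
  | nil => intro _; rw [wprod_nil, NN_one]; simp
  | append_singleton L₁ γ ih =>
    intro hL
    have hγ : γ ∈ b.support := hL γ (by simp)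
    have hL₁ : ∀ j ∈ L₁, j ∈ b.support := fun j hj => hL j (by simp [hj])
    rw [wprod_append, wprod_cons, wprod_nil, mul_one, List.length_append, List.length_singleton]
    exact (NN_mul_refl_le b _ hγ).trans (Nat.succ_le_succ (ih hL₁))

lemma exists_short_word [Finite ι] [P.IsCrystallographic] [P.IsReduced] (b : P.Base) :
    ∀ (n : ℕ) (w : P.Aut), NN b w = n → w ∈ P.weylGroup →
      ∃ L : List ι, (∀ j ∈ L, j ∈ b.support) ∧ w = wprod P L ∧ L.length ≤ n := by
  intro n
  induction n using Nat.strong_induction_on with
  | _ n ih =>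
    intro w hn hw
    by_cases hN : NN b w = 0
    · have hall : ∀ γ ∈ b.support, b.IsPos (w • γ) := by
        intro γ hγ
        by_contra hneg
        have hmem : γ ∈ WeylChain1.Inv b w := ⟨RootPairing.Base.isPos_of_mem_support hγ, hneg⟩
        have hfin : (WeylChain1.Inv b w).Finite := Set.toFinite _
        have : WeylChain1.Inv b w = ∅ := (Set.ncard_eq_zero hfin).mp hN
        rw [this] at hmem
        exact hmem
      obtain ⟨L, hL, rfl⟩ := exists_word b hw
      have h1 := eq_one_of_pos b L.length L rfl hL hall
      exact ⟨[], by simp, by rw [h1, wprod_nil], by simp⟩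
    · obtain ⟨y, hy, hyneg⟩ := exists_simple_neg b w hN
      have hlt := NN_mul_refl_lt b w hy hyneg
      have hw' : w * RootPairing.Equiv.reflection P y ∈ P.weylGroup :=
        mul_mem hw (P.reflection_mem_weylGroup y)
      obtain ⟨L₁, hL₁, heq, hlen⟩ := ih _ (hn ▸ hlt) _ rfl hw'
      refine ⟨L₁ ++ [y], ?_, ?_, ?_⟩
      · intro j hj
        rcases List.mem_append.mp hj with hj | hj
        · exact hL₁ j hj
        · rw [List.mem_singleton.mp hj]; exact hy
      · rw [wprod_append, wprod_cons, wprod_nil, mul_one, ← heq, mul_assoc, refl_mul_self,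
          mul_one]
      · rw [List.length_append, List.length_singleton]
        omega

lemma refl_comm_conj (a c : ι) :
    RootPairing.Equiv.reflection P c * RootPairing.Equiv.reflection P a =
      RootPairing.Equiv.reflection P a *
        RootPairing.Equiv.reflection P (P.reflectionPerm a c) := by
  rw [refl_reflectionPerm_eq, ← mul_assoc, ← mul_assoc, refl_mul_self, one_mul]

lemma strong_exchange [Finite ι] [P.IsCrystallographic] [P.IsReduced] (b : P.Base) :
    ∀ (L : List ι), (∀ j ∈ L, j ∈ b.support) → ∀ c : ι, b.IsPos c →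
      ¬ b.IsPos ((wprod P L)⁻¹ • c) →
      ∃ i : ℕ, i < L.length ∧
        RootPairing.Equiv.reflection P c * wprod P (L.take (i + 1)) = wprod P (L.take i) := by
  intro L
  induction L with
  | nil =>
    intro _ c hc h
    rw [wprod_nil, inv_one, one_smul] at h
    exact absurd hc h
  | cons a L₀ ih =>
    intro hL c hc hneg
    have ha : a ∈ b.support := hL a (List.mem_cons_self ..)
    have hL₀ : ∀ j ∈ L₀, j ∈ b.support := fun j hj => hL j (List.mem_cons_of_mem _ hj)
    by_cases hca : c = a
    · refine ⟨0, by simp, ?_⟩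
      rw [hca]
      simp only [zero_add, List.take_succ_cons, List.take_zero]
      rw [wprod_cons, wprod_nil, mul_one, refl_mul_self]
    · have hc' : b.IsPos (P.reflectionPerm a c) := hc.reflectionPerm ha hca
      have hneg' : ¬ b.IsPos ((wprod P L₀)⁻¹ • (P.reflectionPerm a c)) := by
        rw [wprod_cons, mul_inv_rev, mul_smul, RootPairing.Equiv.reflection_inv,
          refl_smul_idx] at hneg
        exact hneg
      obtain ⟨i₀, hi₀, heq⟩ := ih hL₀ _ hc' hneg'
      refine ⟨i₀ + 1, by simpa using hi₀, ?_⟩
      rw [List.take_succ_cons, List.take_succ_cons, wprod_cons, wprod_cons, ← mul_assoc,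
        refl_comm_conj, mul_assoc, heq]

lemma len_lt [Finite ι] [P.IsCrystallographic] [P.IsReduced] (b : P.Base) {w : P.Aut}
    (hw : w ∈ P.weylGroup) {c : ι} (hc : b.IsPos c) (hneg : ¬ b.IsPos (w⁻¹ • c)) :
    NN b (RootPairing.Equiv.reflection P c * w) < NN b w := by
  obtain ⟨L, hL, rfl, hlen⟩ := exists_short_word b _ w rfl hw
  obtain ⟨i, hi, heq⟩ := strong_exchange b L hL c hc hneg
  have hsplit : wprod P L = wprod P (L.take (i + 1)) * wprod P (L.drop (i + 1)) := by
    rw [← wprod_append, List.take_append_drop]
  have h1 : RootPairing.Equiv.reflection P c * wprod P L =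
      wprod P (L.take i ++ L.drop (i + 1)) := by
    rw [hsplit, ← mul_assoc, heq, wprod_append]
  have h2 : ∀ j ∈ L.take i ++ L.drop (i + 1), j ∈ b.support := by
    intro j hj
    rcases List.mem_append.mp hj with hj | hj
    · exact hL j (List.mem_of_mem_take hj)
    · exact hL j (List.mem_of_mem_drop hj)
  have h3 := NN_wprod_le b _ h2
  rw [← h1] at h3
  have h4 : (L.take i ++ L.drop (i + 1)).length < L.length := by
    rw [List.length_append, List.length_take, List.length_drop]
    omega
  omega

lemma len_gt [Finite ι] [P.IsCrystallographic] [P.IsReduced] (b : P.Base) {w : P.Aut}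
    (hw : w ∈ P.weylGroup) {c : ι} (hc : b.IsPos c) (hpos : b.IsPos (w⁻¹ • c)) :
    NN b w < NN b (RootPairing.Equiv.reflection P c * w) := by
  have hw' : RootPairing.Equiv.reflection P c * w ∈ P.weylGroup :=
    mul_mem (P.reflection_mem_weylGroup c) hw
  have hneg : ¬ b.IsPos ((RootPairing.Equiv.reflection P c * w)⁻¹ • c) := by
    rw [mul_inv_rev, mul_smul, RootPairing.Equiv.reflection_inv, refl_smul_idx, smul_neg_idx,
      isPos_neg_iff, not_not]
    exact hpos
  have := len_lt b hw' hc hneg
  rwa [← mul_assoc, refl_mul_self, one_mul] at this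

lemma indexHom_wprod (l : List ι) :
    RootPairing.Equiv.indexHom P (wprod P l) = (l.map P.reflectionPerm).prod := by
  rw [wprod, map_list_prod, List.map_map]
  rfl

lemma wprod_mem_weylGroup (l : List ι) : wprod P l ∈ P.weylGroup := by
  refine Subgroup.list_prod_mem _ ?_
  intro x hx
  obtain ⟨i, -, rfl⟩ := List.mem_map.mp hx
  exact P.reflection_mem_weylGroup i

end General

section IntBridge

variable {ι M N : Type*} [AddCommGroup M] [mM : Module ℤ M] [AddCommGroup N] [mN : Module ℤ N]
  [Fintype ι]

lemma rho_nonneg_of_mem (P : RootPairing ι ℤ M N) [P.IsReduced] (b : P.Base) {m : M}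
    (hm : m ∈ AddSubmonoid.closure (P.root '' (b.support : Set ι))) : 0 ≤ rhoF P b m := by
  induction hm using AddSubmonoid.closure_induction with
  | mem x hx =>
    obtain ⟨j, hj, rfl⟩ := hx
    rw [rhoF_simple P b hj]; norm_num
  | zero => simp
  | add x y _ _ hx hy => rw [map_add]; exact add_nonneg hx hy

lemma pos_iff (P : RootPairing ι ℤ M N) [P.IsReduced] (b : P.Base) (a : ι) :
    P.root a ∈ AddSubmonoid.closure (P.root '' (b.support : Set ι)) ↔ b.IsPos a := by
  constructor
  · intro h
    have h1 := rho_nonneg_of_mem P b h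
    rw [rhoF_root] at h1
    rw [RootPairing.Base.isPos_iff']
    omega
  · intro h
    rcases b.root_mem_or_neg_mem a with h' | h'
    · exact h'
    · exfalso
      have h1 := rho_nonneg_of_mem P b h'
      rw [map_neg, rhoF_root] at h1
      rw [RootPairing.Base.isPos_iff] at h
      omega

lemma neg_iff (P : RootPairing ι ℤ M N) [P.IsReduced] (b : P.Base) (a : ι) :
    -P.root a ∈ AddSubmonoid.closure (P.root '' (b.support : Set ι)) ↔ ¬ b.IsPos a := by
  constructor
  · intro h
    have h1 := rho_nonneg_of_mem P b h
    rw [map_neg, rhoF_root] at h1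
    rw [RootPairing.Base.isPos_iff]
    omega
  · intro h
    rcases b.root_mem_or_neg_mem a with h' | h'
    · exact absurd ((pos_iff P b a).mp h') h
    · exact h'

/-- S15245 in explicit form. -/
theorem len_iff (P : RootPairing ι ℤ M N) [P.IsReduced] (b : P.Base) (l : List ι) (c : ι)
    (hc : P.root c ∈ AddSubmonoid.closure (P.root '' (b.support : Set ι))) :
    Set.ncard {a : ι | P.root a ∈ AddSubmonoid.closure (P.root '' (b.support : Set ι)) ∧
        -P.root ((l.map P.reflectionPerm).prod a) ∈
          AddSubmonoid.closure (P.root '' (b.support : Set ι))} <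
      Set.ncard {a : ι | P.root a ∈ AddSubmonoid.closure (P.root '' (b.support : Set ι)) ∧
        -P.root ((P.reflectionPerm c * (l.map P.reflectionPerm).prod) a) ∈
          AddSubmonoid.closure (P.root '' (b.support : Set ι))} ↔
      P.root (((l.map P.reflectionPerm).prod)⁻¹ c) ∈
        AddSubmonoid.closure (P.root '' (b.support : Set ι)) := by
  have hcpos : b.IsPos c := (pos_iff P b c).mp hc
  have hW := wprod_mem_weylGroup (P := P) l
  have e1 : {a : ι | P.root a ∈ AddSubmonoid.closure (P.root '' (b.support : Set ι)) ∧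
        -P.root ((l.map P.reflectionPerm).prod a) ∈
          AddSubmonoid.closure (P.root '' (b.support : Set ι))} = WeylChain1.Inv b (wprod P l) := by
    ext a
    simp only [Set.mem_ofPred_eq, WeylChain1.Inv, pos_iff, neg_iff, ← indexHom_wprod]
    rfl
  have e2 : {a : ι | P.root a ∈ AddSubmonoid.closure (P.root '' (b.support : Set ι)) ∧
        -P.root ((P.reflectionPerm c * (l.map P.reflectionPerm).prod) a) ∈
          AddSubmonoid.closure (P.root '' (b.support : Set ι))} =
      WeylChain1.Inv b (RootPairing.Equiv.reflection P c * wprod P l) := by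
    ext a
    simp only [Set.mem_ofPred_eq, WeylChain1.Inv, pos_iff, neg_iff, ← indexHom_wprod]
    rfl
  have e3 : ((l.map P.reflectionPerm).prod)⁻¹ c = (wprod P l)⁻¹ • c := by
    rw [← indexHom_wprod, ← map_inv]
    rfl
  rw [e1, e2, e3, pos_iff]
  constructor
  · intro h
    by_contra hneg
    have := len_lt b hW hcpos hneg
    unfold NN at this
    omega
  · intro h
    exact len_gt b hW hcpos h

/-- S19548 in explicit form (reducedness of the word is not needed). -/
theorem strong_exchange_perm (P : RootPairing ι ℤ M N) [P.IsReduced] (b : P.Base) (l : List ι)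
    (hl : ∀ a ∈ l, a ∈ b.support) (c : ι)
    (hc : P.root c ∈ AddSubmonoid.closure (P.root '' (b.support : Set ι)))
    (hneg : -P.root (((l.map P.reflectionPerm).prod).symm c) ∈
      AddSubmonoid.closure (P.root '' (b.support : Set ι))) :
    ∃ i : ℕ, i < l.length ∧
      P.reflectionPerm c * ((l.take (i + 1)).map P.reflectionPerm).prod =
        ((l.take i).map P.reflectionPerm).prod := by
  have hcpos : b.IsPos c := (pos_iff P b c).mp hc
  have e3 : ((l.map P.reflectionPerm).prod).symm c = (wprod P l)⁻¹ • c := by
    rw [← indexHom_wprod]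
    show ((RootPairing.Equiv.indexHom P) (wprod P l))⁻¹ c = _
    rw [← map_inv]
    rfl
  rw [e3, neg_iff] at hneg
  obtain ⟨i, hi, heq⟩ := strong_exchange b l hl c hcpos hneg
  refine ⟨i, hi, ?_⟩
  have := congrArg (RootPairing.Equiv.indexHom P) heq
  rw [map_mul, indexHom_wprod, indexHom_wprod] at this
  exact this

end IntBridge

end Groth.Agent.Lib.Helper3.WeylLen1
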