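import Mathlib
import Groth.Agent.Lib.Helper3.WeylChain1
import Groth.Agent.Lib.Helper3.WeylLen1

set_option autoImplicit false

/-!
# The Weyl group of a root pairing with a base is a Coxeter group

Abstract part: a group generated by involutions with a length function satisfying the
(left) exchange condition has the word property (Tits / Matsumoto), hence is presented
by the Coxeter relations.  Concrete part: the Weyl group of a finite reduced crystallographic
root pairing with a base.
-/

namespace Groth.Agent.Lib.Helper3.CoxWeyl1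

open CoxeterSystem (alternatingWord alternatingWord_succ alternatingWord_succ')

section Abstract

variable {B : Type*}

/-- product of a word -/
def wp {K : Type*} [Monoid K] (f : B → K) (L : List B) : K := (L.map f).prod

section wpLemmas
variable {K : Type*} [Monoid K] (f : B → K)

lemma wp_nil : wp f ([] : List B) = 1 := by simp [wp]
lemma wp_cons (a : B) (L : List B) : wp f (a :: L) = f a * wp f L := by simp [wp]
lemma wp_append (L1 L2 : List B) : wp f (L1 ++ L2) = wp f L1 * wp f L2 := by simp [wp]
lemma wp_singleton (a : B) : wp f [a] = f a := by simp [wp]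
end wpLemmas

lemma wp_alt {K : Type*} [Group K] (f : B → K) (i i' : B) (m : ℕ) :
    wp f (alternatingWord i i' m) = (if Even m then 1 else f i') * (f i * f i') ^ (m / 2) := by
  induction m with
  | zero => simp [alternatingWord, wp]
  | succ m ih =>
    rw [alternatingWord_succ', wp_cons, ih]
    by_cases hm : Even m
    · have h₁ : ¬ Even (m + 1) := by simp [hm, parity_simps]
      have h₂ : (m + 1) / 2 = m / 2 := Nat.succ_div_of_not_dvd <| by rwa [← even_iff_two_dvd]
      simp only [if_pos hm, if_neg h₁, h₂, one_mul]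
    · have h₁ : Even (m + 1) := by simp [hm, parity_simps]
      have h₂ : (m + 1) / 2 = m / 2 + 1 := Nat.succ_div_of_dvd h₁.two_dvd
      simp only [if_neg hm, if_pos h₁, h₂, one_mul, pow_succ', mul_assoc]

lemma alt_eq_iff {K : Type*} [Group K] (f : B → K) (hf : ∀ j, f j * f j = 1) (c d : B) (q : ℕ) :
    wp f (alternatingWord c d q) = wp f (alternatingWord d c q) ↔ (f c * f d) ^ q = 1 := by
  have hinv : f d * f c = (f c * f d)⁻¹ := by
    rw [eq_inv_iff_mul_eq_one]
    calc f d * f c * (f c * f d) = f d * (f c * f c) * f d := by group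
      _ = 1 := by rw [hf, mul_one, hf]
  obtain ⟨ρ, hρ⟩ : ∃ ρ, ρ = f c * f d := ⟨_, rfl⟩
  rw [wp_alt, wp_alt, hinv, ← hρ]
  obtain ⟨p, rfl | rfl⟩ := Nat.even_or_odd' q
  · have h2 : 2 * p / 2 = p := by omega
    have he : Even (2 * p) := even_two_mul p
    rw [if_pos he, if_pos he, h2, one_mul, one_mul, inv_pow, eq_inv_iff_mul_eq_one, ← pow_add,
      two_mul]
  · have h2 : (2 * p + 1) / 2 = p := by omega
    have ho : ¬ Even (2 * p + 1) := by
      rw [Nat.not_even_iff_odd]; exact odd_two_mul_add_one p
    rw [if_neg ho, if_neg ho, h2, inv_pow]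
    constructor
    · intro h
      have h' : f c * (f d * ρ ^ p) = f c * (f c * (ρ ^ p)⁻¹) := by rw [h]
      rw [← mul_assoc, ← mul_assoc, hf, one_mul, ← hρ, eq_inv_iff_mul_eq_one, ← pow_succ',
        ← pow_add] at h'
      have e : 2 * p + 1 = p + 1 + p := by omega
      rw [e]; exact h'
    · intro h
      have h1 : ρ ^ (p + 1) * ρ ^ p = 1 := by
        rw [← pow_add]
        have e : p + 1 + p = 2 * p + 1 := by omega
        rw [e]; exact h
      have h3 : ρ * ρ ^ p = (ρ ^ p)⁻¹ := by
        rw [← pow_succ']; exact eq_inv_of_mul_eq_one_left h1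
      calc f d * ρ ^ p = f c * (f c * f d * ρ ^ p) := by
            rw [mul_assoc (f c) (f d), ← mul_assoc (f c) (f c), hf, one_mul]
        _ = f c * (ρ ^ p)⁻¹ := by rw [← hρ, h3]

variable {G H : Type*} [Group G] [Group H]

lemma dihedral {s : B → G} {t : B → H}
    (hs : ∀ j, s j * s j = 1) (ht : ∀ j, t j * t j = 1)
    (hbr : ∀ j k, (t j * t k) ^ orderOf (s j * s k) = 1) (c d : B) (q : ℕ)
    (hp : wp s (alternatingWord c d q) = wp s (alternatingWord d c q)) :
    wp t (alternatingWord c d q) = wp t (alternatingWord d c q) := by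
  rw [alt_eq_iff s hs] at hp
  rw [alt_eq_iff t ht]
  obtain ⟨e, he⟩ := orderOf_dvd_of_pow_eq_one hp
  rw [he, pow_mul, hbr, one_pow]

/-- A system of involutive generators with a length function satisfying the exchange condition. -/
structure ExSys (s : B → G) (ℓ : G → ℕ) : Prop where
  sq : ∀ j, s j * s j = 1
  len_le : ∀ L : List B, ℓ (wp s L) ≤ L.length
  mul_le : ∀ g j, ℓ (g * s j) ≤ ℓ g + 1
  le_mul : ∀ g j, ℓ (s j * g) ≤ ℓ g + 1
  exch : ∀ (L : List B) (j : B), ℓ (s j * wp s L) ≤ ℓ (wp s L) →
    ∃ (L1 : List B) (c : B) (L2 : List B), L = L1 ++ c :: L2 ∧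
      s j * wp s (L1 ++ [c]) = wp s L1
  short : ∀ L : List B, ∃ R : List B, wp s R = wp s L ∧ R.length ≤ ℓ (wp s L)

/-- reduced words -/
def Red (s : B → G) (ℓ : G → ℕ) (L : List B) : Prop := L.length ≤ ℓ (wp s L)

variable {s : B → G} {ℓ : G → ℕ}

lemma red_tail (hS : ExSys s ℓ) {a : B} {L : List B} (h : Red s ℓ (a :: L)) : Red s ℓ L := by
  unfold Red at *
  rw [wp_cons] at h
  have := hS.le_mul (wp s L) a
  simp only [List.length_cons] at h
  omega

lemma red_init (hS : ExSys s ℓ) {z : B} {L : List B} (h : Red s ℓ (L ++ [z])) : Red s ℓ L := by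
  unfold Red at *
  rw [wp_append, wp_singleton] at h
  have := hS.mul_le (wp s L) z
  simp only [List.length_append, List.length_singleton] at h
  omega

lemma red_len_eq (hS : ExSys s ℓ) {L : List B} (h : Red s ℓ L) : ℓ (wp s L) = L.length :=
  le_antisymm (hS.len_le L) h

lemma red_of_eq {L L' : List B} (h : Red s ℓ L) (hp : wp s L' = wp s L)
    (hl : L'.length = L.length) : Red s ℓ L' := by
  unfold Red at *
  rw [hp, hl]; exact h

/-- The word property for reduced words of length `q`. -/
def TitsAt (s : B → G) (ℓ : G → ℕ) (t : B → H) (q : ℕ) : Prop :=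
  ∀ X Y : List B, X.length = q → Y.length = q → Red s ℓ X → Red s ℓ Y →
    wp s X = wp s Y → wp t X = wp t Y

lemma same_head (hS : ExSys s ℓ) (t : B → H) {q : ℕ} (hIH : ∀ q' < q, TitsAt s ℓ t q')
    (a : B) (X1 Y1 : List B) (hX : (a :: X1).length = q) (hY : (a :: Y1).length = q)
    (rX : Red s ℓ (a :: X1)) (rY : Red s ℓ (a :: Y1)) (hp : wp s (a :: X1) = wp s (a :: Y1)) :
    wp t (a :: X1) = wp t (a :: Y1) := by
  rw [wp_cons, wp_cons] at hp ⊢
  have hp' := mul_left_cancel hp
  simp only [List.length_cons] at hX hY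
  rw [hIH X1.length (by omega) X1 Y1 rfl (by omega) (red_tail hS rX) (red_tail hS rY) hp']

lemma same_last (hS : ExSys s ℓ) (t : B → H) {q : ℕ} (hIH : ∀ q' < q, TitsAt s ℓ t q')
    (z : B) (X0 Y0 : List B) (hX : (X0 ++ [z]).length = q) (hY : (Y0 ++ [z]).length = q)
    (rX : Red s ℓ (X0 ++ [z])) (rY : Red s ℓ (Y0 ++ [z]))
    (hp : wp s (X0 ++ [z]) = wp s (Y0 ++ [z])) :
    wp t (X0 ++ [z]) = wp t (Y0 ++ [z]) := by
  rw [wp_append, wp_append] at hp ⊢
  have hp' := mul_right_cancel hp
  simp only [List.length_append, List.length_singleton] at hX hY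
  rw [hIH X0.length (by omega) X0 Y0 rfl (by omega) (red_init hS rX) (red_init hS rY) hp']

lemma stepA (hS : ExSys s ℓ) (t : B → H) {q : ℕ} (hIH : ∀ q' < q, TitsAt s ℓ t q')
    (x : B) (X1 Y : List B) (hX : (x :: X1).length = q) (hY : Y.length = q)
    (rX : Red s ℓ (x :: X1)) (rY : Red s ℓ Y) (hp : wp s (x :: X1) = wp s Y)
    (hnext : ∀ (Y0 : List B) (z0 : B), Y = Y0 ++ [z0] → wp s (x :: Y0) = wp s Y →
      wp t Y = wp t (x :: Y0)) :
    wp t (x :: X1) = wp t Y := by
  have hlen : ℓ (s x * wp s Y) ≤ ℓ (wp s Y) := by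
    have h1 : s x * wp s Y = wp s X1 := by rw [← hp, wp_cons, ← mul_assoc, hS.sq, one_mul]
    rw [h1, red_len_eq hS rY]
    have := hS.len_le X1
    simp only [List.length_cons] at hX
    omega
  obtain ⟨Y1, c, Y2, hYeq, hex⟩ := hS.exch Y x hlen
  subst hYeq
  have hU : wp s (x :: (Y1 ++ Y2)) = wp s (Y1 ++ c :: Y2) := by
    calc wp s (x :: (Y1 ++ Y2)) = s x * wp s Y1 * wp s Y2 := by
          rw [wp_cons, wp_append, mul_assoc]
      _ = s x * (s x * wp s (Y1 ++ [c])) * wp s Y2 := by rw [hex]
      _ = wp s (Y1 ++ [c]) * wp s Y2 := by rw [← mul_assoc, hS.sq, one_mul]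
      _ = wp s (Y1 ++ c :: Y2) := by rw [← wp_append]; simp
  have hUlen : (x :: (Y1 ++ Y2)).length = q := by
    rw [← hY]; simp only [List.length_cons, List.length_append]; omega
  have rU : Red s ℓ (x :: (Y1 ++ Y2)) := red_of_eq rY hU (by rw [hUlen, hY])
  have hXU : wp t (x :: X1) = wp t (x :: (Y1 ++ Y2)) :=
    same_head hS t hIH x X1 (Y1 ++ Y2) hX hUlen rX rU (hp.trans hU.symm)
  rw [hXU]
  rcases List.eq_nil_or_concat' Y2 with rfl | ⟨Y2', z, rfl⟩
  · simp only [List.append_nil] at hU ⊢
    exact (hnext Y1 c rfl hU).symm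
  · have e1 : x :: (Y1 ++ (Y2' ++ [z])) = (x :: (Y1 ++ Y2')) ++ [z] := by simp
    have e2 : Y1 ++ c :: (Y2' ++ [z]) = (Y1 ++ c :: Y2') ++ [z] := by simp
    rw [e1] at hUlen rU hU ⊢
    rw [e2] at hY rY hU ⊢
    exact same_last hS t hIH z _ _ hUlen hY rU rY hU

lemma chain_claim (hS : ExSys s ℓ) (t : B → H) (ht : ∀ j, t j * t j = 1)
    (hbr : ∀ j k, (t j * t k) ^ orderOf (s j * s k) = 1) (c d : B) :
    ∀ (n : ℕ) (V : List B), V.length = n → ∀ (k : ℕ) (z : B),
      (∃ V1, V ++ [z] = c :: V1) →
      (∀ q' < k + 1 + n, TitsAt s ℓ t q') →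
      Red s ℓ (alternatingWord c d k ++ (V ++ [z])) →
      Red s ℓ (alternatingWord c d (k + 1) ++ V) →
      wp s (alternatingWord c d k ++ (V ++ [z])) = wp s (alternatingWord c d (k + 1) ++ V) →
      wp t (alternatingWord c d k ++ (V ++ [z])) = wp t (alternatingWord c d (k + 1) ++ V) := by
  intro n
  induction n with
  | zero =>
    intro V hV k z hc _ _ _ hp
    obtain rfl : V = [] := List.length_eq_zero_iff.mp hV
    obtain ⟨V1, hV1⟩ := hc
    simp only [List.nil_append, List.cons.injEq] at hV1
    have hz : z = c := hV1.1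
    have e : alternatingWord c d k ++ [c] = alternatingWord d c (k + 1) := by
      rw [alternatingWord_succ, List.concat_eq_append]
    simp only [List.nil_append, List.append_nil] at hp ⊢
    rw [hz, e] at hp ⊢
    exact dihedral hS.sq ht hbr d c (k + 1) hp
  | succ n ih =>
    intro V hV k z hc hIH rX rY hp
    obtain ⟨V0, z', rfl⟩ : ∃ V0 z', V = V0 ++ [z'] := by
      rcases List.eq_nil_or_concat' V with h | h
      · rw [h] at hV; simp at hV
      · exact h
    have hV0 : V0.length = n := by simpa using hV
    have hc' : ∃ V1', V0 ++ [z'] = c :: V1' := by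
      obtain ⟨V1, hV1⟩ := hc
      cases hW : V0 ++ [z'] with
      | nil => simp at hW
      | cons w W' =>
        rw [hW] at hV1
        simp only [List.cons_append, List.cons.injEq] at hV1
        exact ⟨W', by rw [hV1.1]⟩
    obtain ⟨X1, hX1⟩ : ∃ X1, alternatingWord c d k ++ ((V0 ++ [z']) ++ [z]) =
        (if Even (k + 1) then d else c) :: X1 := by
      obtain ⟨V1, hV1⟩ := hc
      cases k with
      | zero =>
        refine ⟨V1, ?_⟩
        have e0 : alternatingWord c d 0 = [] := rfl
        rw [e0, List.nil_append, hV1]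
        simp
      | succ k' =>
        refine ⟨alternatingWord c d k' ++ ((V0 ++ [z']) ++ [z]), ?_⟩
        rw [alternatingWord_succ', List.cons_append]
        congr 1
        have : Even (k' + 1 + 1) ↔ Even k' := by
          simp [Nat.even_add_one]
        simp only [this]
    obtain ⟨x, hx⟩ : ∃ x, x = (if Even (k + 1) then d else c) := ⟨_, rfl⟩
    rw [← hx] at hX1
    have hqX : (alternatingWord c d k ++ ((V0 ++ [z']) ++ [z])).length = k + 1 + (n + 1) := by
      simp only [List.length_append, CoxeterSystem.length_alternatingWord, List.length_singleton,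
        hV0]
      omega
    have hqY : (alternatingWord c d (k + 1) ++ (V0 ++ [z'])).length = k + 1 + (n + 1) := by
      simp only [List.length_append, CoxeterSystem.length_alternatingWord, List.length_singleton,
        hV0]
    rw [hX1] at hqX rX hp ⊢
    refine stepA hS t hIH x X1 _ hqX hqY rX rY hp ?_
    intro Y0 z0 hY0 hsU
    have hY0' : (alternatingWord c d (k + 1) ++ V0) ++ [z'] = Y0 ++ [z0] := by
      rw [← hY0]; simp
    obtain ⟨hY0eq, -⟩ := List.append_inj' hY0' rfl
    subst hY0eq
    have e2 : x :: (alternatingWord c d (k + 1) ++ V0) = alternatingWord c d (k + 1 + 1) ++ V0 := by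
      rw [alternatingWord_succ' c d (k + 1), List.cons_append, hx]
    rw [e2] at hsU ⊢
    have hlenU : (alternatingWord c d (k + 1 + 1) ++ V0).length =
        (alternatingWord c d (k + 1) ++ (V0 ++ [z'])).length := by
      simp only [List.length_append, CoxeterSystem.length_alternatingWord, List.length_singleton]
      omega
    exact ih V0 hV0 (k + 1) z' hc' (fun q' hq' => hIH q' (by omega)) rY
      (red_of_eq rY hsU hlenU) hsU.symm

theorem tits (hS : ExSys s ℓ) (t : B → H) (ht : ∀ j, t j * t j = 1)
    (hbr : ∀ j k, (t j * t k) ^ orderOf (s j * s k) = 1) : ∀ q, TitsAt s ℓ t q := by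
  intro q
  induction q using Nat.strong_induction_on with
  | _ q IH =>
    intro X Y hX hY rX rY hp
    cases X with
    | nil =>
      simp only [List.length_nil] at hX
      subst hX
      obtain rfl := List.length_eq_zero_iff.mp hY
      rfl
    | cons a' X1 =>
      cases Y with
      | nil =>
        simp only [List.length_nil] at hY
        subst hY
        simp at hX
      | cons a Y1 =>
        refine stepA hS t IH a' X1 (a :: Y1) hX hY rX rY hp ?_
        intro Y0 z0 hY0 hsU
        have hq : Y0.length + 1 = q := by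
          rw [← hY, hY0]; simp
        have e0 : alternatingWord a a' 0 = [] := rfl
        have e1 : alternatingWord a a' (0 + 1) = [a'] := rfl
        have h := chain_claim hS t ht hbr a a' Y0.length Y0 rfl 0 z0 ⟨Y1, hY0.symm⟩
          (fun q' hq' => IH q' (by omega))
          (by rw [e0, List.nil_append, ← hY0]; exact rY)
          (by
            rw [e1, List.singleton_append]
            exact red_of_eq rY hsU (by rw [hY0]; simp))
          (by rw [e0, e1, List.nil_append, List.singleton_append, ← hY0]; exact hsU.symm)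
        rw [e0, e1, List.nil_append, List.singleton_append, ← hY0] at h
        exact h

/-- The word property: any word has the same `t`-product as any reduced word of the same element. -/
theorem word_prop (hS : ExSys s ℓ) (t : B → H) (ht : ∀ j, t j * t j = 1)
    (hbr : ∀ j k, (t j * t k) ^ orderOf (s j * s k) = 1) :
    ∀ (L R : List B), Red s ℓ R → wp s R = wp s L → wp t L = wp t R := by
  intro L
  induction L with
  | nil =>
    intro R rR hp
    have h0 : ℓ (wp s R) ≤ 0 := by rw [hp]; exact hS.len_le []
    have h1 : R.length = 0 := by unfold Red at rR; omega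
    rw [List.length_eq_zero_iff.mp h1]
  | cons j L0 ih =>
    intro R rR hp
    obtain ⟨R0, hR0, hR0len⟩ := hS.short L0
    have rR0 : Red s ℓ R0 := by unfold Red; rw [hR0]; exact hR0len
    rw [wp_cons] at hp ⊢
    by_cases hred : Red s ℓ (j :: R0)
    · rw [ih R0 rR0 hR0]
      have hp2 : wp s R = wp s (j :: R0) := by rw [wp_cons, hR0]; exact hp
      have hlen : (j :: R0).length = R.length := by
        have h1 := red_len_eq hS rR
        have h2 := red_len_eq hS hred
        rw [hp2] at h1; omega
      have := tits hS t ht hbr R.length R (j :: R0) rfl hlen rR hred hp2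
      rw [this, wp_cons]
    · have hpj : wp s (j :: R) = wp s L0 := by rw [wp_cons, hp, ← mul_assoc, hS.sq, one_mul]
      have rjR : Red s ℓ (j :: R) := by
        unfold Red at hred
        rw [not_le, wp_cons] at hred
        have hR0eq := red_len_eq hS rR0
        have hle : ℓ (s j * wp s R0) ≤ ℓ (wp s R0) := by
          simp only [List.length_cons] at hred; omega
        obtain ⟨L1, c, L2, hL, hex⟩ := hS.exch R0 j hle
        have hprod : s j * wp s R0 = wp s (L1 ++ L2) := by
          rw [hL]
          calc s j * wp s (L1 ++ c :: L2) = s j * wp s (L1 ++ [c]) * wp s L2 := by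
                rw [mul_assoc, ← wp_append]; simp
            _ = wp s (L1 ++ L2) := by rw [hex, wp_append]
        have hle2 : ℓ (s j * wp s R0) ≤ L1.length + L2.length := by
          rw [hprod]; simpa using hS.len_le (L1 ++ L2)
        have hR0len' : R0.length = L1.length + L2.length + 1 := by
          rw [hL]; simp; omega
        have hRlen := red_len_eq hS rR
        rw [hp, ← hR0] at hRlen
        unfold Red
        rw [hpj, ← hR0, hR0eq]
        simp only [List.length_cons]
        omega
      rw [ih (j :: R) rjR hpj, wp_cons, ← mul_assoc, ht, one_mul]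

end Abstract

section Weyl

open WeylChain1 WeylLen1

variable {ι R M N : Type*} [CommRing R] [CharZero R] [IsDomain R] [AddCommGroup M] [Module R M]
    [AddCommGroup N] [Module R N] {P : RootPairing ι R M N}

lemma NN_refl_mul_le [Finite ι] [P.IsCrystallographic] [P.IsReduced] (b : P.Base) (w : P.Aut)
    {j : ι} (hj : j ∈ b.support) :
    NN b (RootPairing.Equiv.reflection P j * w) ≤ NN b w + 1 := by
  classical
  have hsub : WeylChain1.Inv b (RootPairing.Equiv.reflection P j * w) ⊆
      insert (w⁻¹ • j) (WeylChain1.Inv b w) := by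
    rintro i ⟨hi, hneg⟩
    rw [mul_smul, refl_smul_idx] at hneg
    by_cases hx : b.IsPos (w • i)
    · have hwi : w • i = j := by
        by_contra hne
        exact hneg (hx.reflectionPerm hj hne)
      exact Or.inl (by rw [← hwi, inv_smul_smul])
    · exact Or.inr ⟨hi, hx⟩
  calc NN b (RootPairing.Equiv.reflection P j * w)
      ≤ (insert (w⁻¹ • j) (WeylChain1.Inv b w)).ncard :=
        Set.ncard_le_ncard hsub (Set.toFinite _)
    _ ≤ NN b w + 1 := Set.ncard_insert_le _ _

/-- simple reflections indexed by the support of the base -/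
noncomputable def sref (b : P.Base) (j : ↥b.support) : P.Aut :=
  RootPairing.Equiv.reflection P (j : ι)

lemma sref_mul_self (b : P.Base) (j : ↥b.support) : sref b j * sref b j = 1 :=
  refl_mul_self (j : ι)

lemma sref_inv (b : P.Base) (j : ↥b.support) : (sref b j)⁻¹ = sref b j :=
  RootPairing.Equiv.reflection_inv P (j : ι)

lemma wp_sref (b : P.Base) (L : List ↥b.support) :
    wp (sref b) L = wprod P (L.map Subtype.val) := by
  unfold wp wprod
  rw [List.map_map]
  rfl

lemma mem_supp (b : P.Base) (L : List ↥b.support) :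
    ∀ j ∈ L.map Subtype.val, j ∈ b.support := by
  intro j hj
  obtain ⟨x, -, rfl⟩ := List.mem_map.mp hj
  exact x.2

lemma exSys [Finite ι] [P.IsCrystallographic] [P.IsReduced] (b : P.Base) :
    ExSys (sref b) (NN b) where
  sq j := sref_mul_self b j
  len_le L := by
    rw [wp_sref]
    simpa using NN_wprod_le b (L.map Subtype.val) (mem_supp b L)
  mul_le g j := NN_mul_refl_le b g j.2
  le_mul g j := NN_refl_mul_le b g j.2
  exch L j h := by
    rw [wp_sref] at h
    have hw := wprod_mem_weylGroup (P := P) (L.map Subtype.val)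
    have hjpos : b.IsPos (j : ι) := RootPairing.Base.isPos_of_mem_support j.2
    have hneg : ¬ b.IsPos ((wprod P (L.map Subtype.val))⁻¹ • (j : ι)) := by
      intro hpos
      have := len_gt b hw hjpos hpos
      exact (not_le.mpr this) h
    obtain ⟨i, hi, heq⟩ := strong_exchange b (L.map Subtype.val) (mem_supp b L) (j : ι) hjpos hneg
    rw [List.length_map] at hi
    refine ⟨L.take i, L[i], L.drop (i + 1), ?_, ?_⟩
    · rw [← List.drop_eq_getElem_cons hi, List.take_append_drop]
    · rw [← List.take_succ_eq_append_getElem hi, wp_sref, wp_sref, List.map_take, List.map_take]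
      exact heq
  short L := by
    have hw := wprod_mem_weylGroup (P := P) (L.map Subtype.val)
    obtain ⟨L', hL', heq, hlen⟩ := exists_short_word b _ _ rfl hw
    lift L' to List ↥b.support using hL'
    exact ⟨L', by rw [wp_sref, wp_sref, ← heq], by rw [wp_sref]; simpa using hlen⟩

/-- the Coxeter matrix of orders of products of simple reflections -/
noncomputable def coxM [Finite ι] [P.IsCrystallographic] [P.IsReduced] (b : P.Base) :
    CoxeterMatrix ↥b.support where
  M := Matrix.of fun j k => orderOf (sref b j * sref b k)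
  isSymm := by
    apply Matrix.IsSymm.ext
    intro j k
    simp only [Matrix.of_apply]
    rw [← orderOf_inv (sref b k * sref b j), mul_inv_rev, sref_inv, sref_inv]
  diagonal j := by
    simp only [Matrix.of_apply]
    rw [sref_mul_self, orderOf_one]
  off_diagonal j k hjk := by
    simp only [Matrix.of_apply]
    rw [Ne, orderOf_eq_one_iff]
    intro h
    have h' : sref b j = sref b k := by
      rw [mul_eq_one_iff_eq_inv, sref_inv] at h
      exact h
    have h1 : sref b j • (j : ι) = sref b k • (j : ι) := by rw [h']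
    unfold sref at h1
    rw [refl_smul_idx, refl_smul_idx] at h1
    have hjpos : b.IsPos (j : ι) := RootPairing.Base.isPos_of_mem_support j.2
    have hpos : b.IsPos (P.reflectionPerm (k : ι) (j : ι)) :=
      hjpos.reflectionPerm k.2 (fun h => hjk (Subtype.ext h))
    rw [← h1, isPos_neg_iff] at hpos
    exact hpos hjpos

noncomputable def sW (b : P.Base) (j : ↥b.support) : P.weylGroup :=
  ⟨sref b j, P.reflection_mem_weylGroup (j : ι)⟩

lemma liftable [Finite ι] [P.IsCrystallographic] [P.IsReduced] (b : P.Base) :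
    (coxM b).IsLiftable (sW b) := by
  intro j k
  apply Subtype.ext
  rw [Subgroup.coe_pow, Subgroup.coe_mul, Subgroup.coe_one]
  exact pow_orderOf_eq_one (sref b j * sref b k)

noncomputable def phi [Finite ι] [P.IsCrystallographic] [P.IsReduced] (b : P.Base) :
    (coxM b).Group →* P.weylGroup :=
  (coxM b).toCoxeterSystem.lift ⟨sW b, liftable b⟩

lemma phi_simple [Finite ι] [P.IsCrystallographic] [P.IsReduced] (b : P.Base) (j : ↥b.support) :
    phi b ((coxM b).toCoxeterSystem.simple j) = sW b j :=
  (coxM b).toCoxeterSystem.lift_apply_simple (liftable b) j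

lemma phi_wp [Finite ι] [P.IsCrystallographic] [P.IsReduced] (b : P.Base) (L : List ↥b.support) :
    ((phi b (wp (coxM b).toCoxeterSystem.simple L) : P.weylGroup) : P.Aut) = wp (sref b) L := by
  induction L with
  | nil => rw [wp_nil, wp_nil, map_one]; rfl
  | cons a L ih => rw [wp_cons, wp_cons, map_mul, Subgroup.coe_mul, ih, phi_simple]; rfl

lemma phi_injective [Finite ι] [P.IsCrystallographic] [P.IsReduced] (b : P.Base) :
    Function.Injective (phi b) := by
  rw [injective_iff_map_eq_one]
  intro x hx
  obtain ⟨L, rfl⟩ := (coxM b).toCoxeterSystem.wordProd_surjective x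
  have h1 : wp (sref b) L = 1 := by
    rw [← phi_wp b L]
    show ((phi b ((coxM b).toCoxeterSystem.wordProd L) : P.weylGroup) : P.Aut) = 1
    rw [hx]; rfl
  have key := word_prop (exSys b) (coxM b).toCoxeterSystem.simple
    (fun j => (coxM b).toCoxeterSystem.simple_mul_simple_self j)
    (fun j k => (coxM b).toCoxeterSystem.simple_mul_simple_pow j k) L [] (Nat.zero_le _)
    (by rw [wp_nil, h1])
  rw [wp_nil] at key
  exact key

lemma phi_surjective [Finite ι] [P.IsCrystallographic] [P.IsReduced] (b : P.Base) :
    Function.Surjective (phi b) := by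
  rintro ⟨w, hw⟩
  obtain ⟨L, hL, rfl⟩ := exists_word b hw
  lift L to List ↥b.support using hL
  refine ⟨wp (coxM b).toCoxeterSystem.simple L, Subtype.ext ?_⟩
  rw [phi_wp, wp_sref]

theorem main [Finite ι] [P.IsCrystallographic] [P.IsReduced] (b : P.Base) :
    ∃ (C : CoxeterMatrix ↥b.support) (cs : CoxeterSystem C P.weylGroup),
      (∀ j : ↥b.support, ((cs.simple j : P.weylGroup) : P.Aut) =
        RootPairing.Equiv.reflection P (j : ι)) ∧
      ∀ j k : ↥b.support, C.M j k =
        orderOf (RootPairing.Equiv.reflection P (j : ι) *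
          RootPairing.Equiv.reflection P (k : ι)) := by
  refine ⟨coxM b,
    ⟨(MulEquiv.ofBijective (phi b) ⟨phi_injective b, phi_surjective b⟩).symm⟩, ?_, ?_⟩
  · intro j
    show ((phi b ((coxM b).toCoxeterSystem.simple j) : P.weylGroup) : P.Aut) = _
    rw [phi_simple]; rfl
  · intro j k; rfl

end Weyl

end Groth.Agent.Lib.Helper3.CoxWeyl1
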