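import Mathlib
import Groth.Agent.Lib.Helper2.CompleteNoeth
import Groth.Agent.Lib.Helper8.AdicFS2
import Groth.Agent.Lib.Helper3.AdicDimA

/-!
# The completed principal localization `A_{f}` and primes `p` with `f` invertible modulo `p`
-/

set_option autoImplicit false
universe u

namespace Groth.Agent.Helper3.CplLoc

/-- a ring map from a complete ring to a separated ring which is bijective modulo all powers
is bijective -/
theorem bijective_of_complete {R S : Type*} [CommRing R] [CommRing S] (ψ : R →+* S) (K : Ideal R)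
    [IsAdicComplete K R] (hS : IsHausdorff (K.map ψ) S)
    (hsurj : ∀ (n : ℕ) (s : S), ∃ r : R, ψ r - s ∈ (K ^ n).map ψ)
    (hinj : ∀ (n : ℕ) (r : R), ψ r ∈ (K ^ n).map ψ → r ∈ K ^ n) :
    Function.Bijective ψ := by
  constructor
  · rw [injective_iff_map_eq_zero]
    intro r hr
    apply IsHausdorff.haus (I := K) (M := R) inferInstance
    intro n
    rw [SModEq.zero, smul_eq_mul, Ideal.mul_top]
    apply hinj
    rw [hr]
    exact zero_mem _
  · intro s
    choose r hr using fun n => hsurj n s
    have hcau : ∀ {m n : ℕ}, m ≤ n → r m ≡ r n [SMOD (K ^ m • ⊤ : Submodule R R)] := by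
      intro m n hmn
      rw [SModEq.sub_mem, smul_eq_mul, Ideal.mul_top]
      apply hinj
      rw [map_sub]
      have h1 := hr m
      have h2 : ψ (r n) - s ∈ (K ^ m).map ψ :=
        Ideal.map_mono (Ideal.pow_le_pow_right hmn) (hr n)
      have : ψ (r m) - ψ (r n) = (ψ (r m) - s) - (ψ (r n) - s) := by ring
      rw [this]
      exact sub_mem h1 h2
    obtain ⟨L, hL⟩ := IsPrecomplete.prec (I := K) (M := R) inferInstance hcau
    refine ⟨L, ?_⟩
    rw [← sub_eq_zero]
    apply IsHausdorff.haus hS
    intro n
    rw [SModEq.zero, smul_eq_mul, Ideal.mul_top, ← Ideal.map_pow]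
    have h1 : r n - L ∈ K ^ n := by
      have := hL n
      rwa [SModEq.sub_mem, smul_eq_mul, Ideal.mul_top] at this
    have h2 : ψ (r n) - ψ L ∈ (K ^ n).map ψ := by
      rw [← map_sub]
      exact Ideal.mem_map_of_mem ψ h1
    have : ψ L - s = (ψ (r n) - s) - (ψ (r n) - ψ L) := by ring
    rw [this]
    exact sub_mem (hr n) h2

end Groth.Agent.Helper3.CplLoc
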