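import Mathlib
import Groth.Agent.Lib.Helper3.CplLoc1

/-!
# The completed principal localization `A_{f}` and primes `p` with `f` invertible modulo `p`
-/

set_option autoImplicit false
universe u

namespace Groth.Agent.Helper3.CplLoc

section aux

variable {A : Type u} [CommRing A] (p : Ideal A) (f g : A) (hfg : f * g - 1 ∈ p)
include hfg

theorem one_sub_pow_mem (k : ℕ) : 1 - (f * g) ^ k ∈ p := by
  rw [← Ideal.Quotient.eq_zero_iff_mem] at hfg ⊢
  rw [map_sub, map_one, sub_eq_zero] at hfg
  rw [map_sub, map_pow, hfg, one_pow, map_one, sub_self]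

/-- if `f ^ k * a ∈ Q` with `p ≤ Q` then `a ∈ Q` -/
theorem mem_of_pow_mul_mem (Q : Ideal A) (hpQ : p ≤ Q) (k : ℕ) (a : A) (h : a * f ^ k ∈ Q) :
    a ∈ Q := by
  have h1 : a = a * (1 - (f * g) ^ k) + g ^ k * (a * f ^ k) := by rw [mul_pow]; ring
  rw [h1]
  exact add_mem (Ideal.mul_mem_left _ _ (hpQ (one_sub_pow_mem p f g hfg k)))
    (Ideal.mul_mem_left _ _ h)

end aux

variable (A : Type u) [CommRing A] [IsNoetherianRing A] (I : Ideal A) [IsAdicComplete I A]
  (p : Ideal A) [p.IsPrime] (f : A)

/-- the completed localization -/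
abbrev Cpl : Type u :=
  AdicCompletion (I.map (algebraMap A (Localization.Away f))) (Localization.Away f)

theorem bijective_quotientMap (hf : IsUnit (Ideal.Quotient.mk p f)) :
    Function.Bijective (Ideal.quotientMap (p.map (algebraMap A (Cpl A I f)))
      (algebraMap A (Cpl A I f)) Ideal.le_comap_map) := by
  obtain ⟨g', hg'⟩ := hf.exists_right_inv
  obtain ⟨g, rfl⟩ := Ideal.Quotient.mk_surjective g'
  have hfg : f * g - 1 ∈ p := by
    rw [← Ideal.Quotient.eq_zero_iff_mem, map_sub, map_mul, hg', map_one, sub_self]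
  set Af := Localization.Away f with hAf
  set J := I.map (algebraMap A Af) with hJ
  set C := Cpl A I f with hC
  set P := p.map (algebraMap A C) with hP
  set ψ := Ideal.quotientMap P (algebraMap A C) Ideal.le_comap_map with hψ
  set K := I.map (Ideal.Quotient.mk p) with hK
  haveI : IsNoetherianRing C :=
    Groth.Agent.Helper2.CompleteNoeth.isNoetherianRing_adicCompletion Af J
      (IsNoetherian.noetherian J)
  haveI : IsAdicComplete (J.map (algebraMap Af C)) C :=
    AdicCompletion.isAdicComplete_self J (IsNoetherian.noetherian J)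
  haveI : IsAdicComplete K (A ⧸ p) := AdicDim.isAdicComplete_quotient I p
  have hCP : IsAdicComplete ((J.map (algebraMap Af C)).map (Ideal.Quotient.mk P)) (C ⧸ P) :=
    AdicDim.isAdicComplete_quotient _ P
  have hcomp : ψ.comp (Ideal.Quotient.mk p) = (Ideal.Quotient.mk P).comp (algebraMap A C) := by
    ext a; simp [hψ]
  have hAC : algebraMap A C = (algebraMap Af C).comp (algebraMap A Af) := by
    ext a; rfl
  have hKn : ∀ n : ℕ, (K ^ n).map ψ
      = ((J ^ n).map (algebraMap Af C)).map (Ideal.Quotient.mk P) := by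
    intro n
    rw [hK, ← Ideal.map_pow, Ideal.map_map, hcomp, hJ, ← Ideal.map_pow, Ideal.map_map,
      Ideal.map_map, RingHom.comp_assoc, ← hAC]
  have hK1 : K.map ψ = (J.map (algebraMap Af C)).map (Ideal.Quotient.mk P) := by
    have := hKn 1
    simpa using this
  have hker : ∀ n : ℕ, RingHom.ker (AdicCompletion.evalₐ J n)
      = (J ^ n).map (algebraMap Af C) := fun n =>
    le_antisymm (Groth.Agent.Helper8.AdicFS.ker_evalₐ_le_map_pow J (IsNoetherian.noetherian J) n)
      (Groth.Agent.Helper8.AdicFS.map_pow_le_ker_evalₐ J n)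
  refine bijective_of_complete ψ K ?_ ?_ ?_
  · rw [hK1]; exact hCP.toIsHausdorff
  · intro n s
    obtain ⟨c, rfl⟩ := Ideal.Quotient.mk_surjective s
    obtain ⟨y, hy⟩ := Ideal.Quotient.mk_surjective (AdicCompletion.evalₐ J n c)
    obtain ⟨k, a, hya⟩ := IsLocalization.Away.surj f y
    refine ⟨Ideal.Quotient.mk p (a * g ^ k), ?_⟩
    rw [hKn]
    have h1 : y - algebraMap A Af (a * g ^ k) ∈ p.map (algebraMap A Af) := by
      have : y - algebraMap A Af (a * g ^ k) = y * algebraMap A Af (1 - (f * g) ^ k) := by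
        rw [map_mul, ← hya, map_sub, map_one, map_pow, map_pow, map_mul, mul_pow]
        ring
      rw [this]
      exact Ideal.mul_mem_left _ _ (Ideal.mem_map_of_mem _ (one_sub_pow_mem p f g hfg k))
    have h2 : c - algebraMap Af C y ∈ (J ^ n).map (algebraMap Af C) := by
      rw [← hker, RingHom.mem_ker, map_sub, AlgHom.commutes, Ideal.Quotient.algebraMap_eq, hy,
        sub_self]
    have h3 : algebraMap Af C (y - algebraMap A Af (a * g ^ k)) ∈ P := by
      rw [hP, hAC, ← Ideal.map_map]
      exact Ideal.mem_map_of_mem _ h1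
    have h4 : ψ (Ideal.Quotient.mk p (a * g ^ k)) - Ideal.Quotient.mk P c
        = - Ideal.Quotient.mk P (c - algebraMap Af C y)
          - Ideal.Quotient.mk P (algebraMap Af C (y - algebraMap A Af (a * g ^ k))) := by
      have : ψ (Ideal.Quotient.mk p (a * g ^ k)) = Ideal.Quotient.mk P (algebraMap A C (a * g ^ k)) := by
        simp [hψ]
      rw [this, hAC]
      simp only [RingHom.comp_apply, map_sub]
      ring
    rw [h4, Ideal.Quotient.eq_zero_iff_mem.2 h3, sub_zero]
    exact neg_mem (Ideal.mem_map_of_mem _ h2)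
  · intro n r hr
    obtain ⟨a, rfl⟩ := Ideal.Quotient.mk_surjective r
    rw [hKn] at hr
    have h0 : ψ (Ideal.Quotient.mk p a) = Ideal.Quotient.mk P (algebraMap A C a) := by
      simp [hψ]
    rw [h0, Ideal.mem_map_iff_of_surjective _ Ideal.Quotient.mk_surjective] at hr
    obtain ⟨z, hz, hza⟩ := hr
    have h1 : algebraMap A C a - z ∈ P := by
      rw [← Ideal.Quotient.eq_zero_iff_mem, map_sub, hza, sub_self]
    -- apply `evalₐ`
    have h2 : AdicCompletion.evalₐ J n (algebraMap A C a - z)
        ∈ (p.map (algebraMap A Af)).map (Ideal.Quotient.mk (J ^ n)) := by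
      have hle : P ≤ ((p.map (algebraMap A Af)).map (Ideal.Quotient.mk (J ^ n))).comap
          (AdicCompletion.evalₐ J n : C →+* Af ⧸ J ^ n) := by
        rw [hP, Ideal.map_le_iff_le_comap]
        intro x hx
        rw [Ideal.mem_comap, Ideal.mem_comap]
        have : (AdicCompletion.evalₐ J n : C →+* Af ⧸ J ^ n) (algebraMap A C x)
            = Ideal.Quotient.mk (J ^ n) (algebraMap A Af x) := by
          rw [hAC, RingHom.comp_apply]
          exact (AdicCompletion.evalₐ J n).commutes (algebraMap A Af x)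
        rw [this]
        exact Ideal.mem_map_of_mem _ (Ideal.mem_map_of_mem _ hx)
      exact hle h1
    have h3 : AdicCompletion.evalₐ J n z = 0 := by
      rw [← RingHom.mem_ker, hker]; exact hz
    have h4 : AdicCompletion.evalₐ J n (algebraMap A C a)
        = Ideal.Quotient.mk (J ^ n) (algebraMap A Af a) := by
      rw [hAC, RingHom.comp_apply]
      exact (AdicCompletion.evalₐ J n).commutes (algebraMap A Af a)
    rw [map_sub, h3, sub_zero, h4, Ideal.mem_map_iff_of_surjective _ Ideal.Quotient.mk_surjective]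
      at h2
    obtain ⟨w, hw, hwa⟩ := h2
    have h5 : algebraMap A Af a - w ∈ J ^ n := by
      rw [← Ideal.Quotient.eq_zero_iff_mem, map_sub, hwa, sub_self]
    have h6 : algebraMap A Af a ∈ (p ⊔ I ^ n).map (algebraMap A Af) := by
      have : algebraMap A Af a = w + (algebraMap A Af a - w) := by ring
      rw [this, Ideal.map_sup]
      refine Submodule.add_mem_sup hw ?_
      rw [Ideal.map_pow]
      exact h5
    rw [IsLocalization.algebraMap_mem_map_algebraMap_iff (Submonoid.powers f)] at h6
    obtain ⟨m, ⟨k, rfl⟩, hm⟩ := h6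
    have h7 : a ∈ p ⊔ I ^ n :=
      mem_of_pow_mul_mem p f g hfg _ le_sup_left k a (by rwa [mul_comm])
    have h8 : Ideal.Quotient.mk p a ∈ (p ⊔ I ^ n).map (Ideal.Quotient.mk p) :=
      Ideal.mem_map_of_mem _ h7
    rw [Ideal.map_sup, Ideal.map_quotient_self, bot_sup_eq, Ideal.map_pow] at h8
    exact h8

theorem main_S8837 (hf : IsUnit (Ideal.Quotient.mk p f)) :
    (p.map (algebraMap A (Cpl A I f))).IsPrime ∧
    Function.Bijective (Ideal.quotientMap (p.map (algebraMap A (Cpl A I f)))
      (algebraMap A (Cpl A I f)) Ideal.le_comap_map) := by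
  have hb := bijective_quotientMap A I p f hf
  refine ⟨?_, hb⟩
  rw [← Ideal.Quotient.isDomain_iff_prime]
  exact (RingEquiv.ofBijective _ hb).symm.toMulEquiv.isDomain (A ⧸ p)

end Groth.Agent.Helper3.CplLoc
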