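import Mathlib
import Groth.Agent.Lib.Helper3.CplLoc2

/-!
# The completed principal localization `R_{g}` as an adic Noetherian ring
-/

set_option autoImplicit false
universe u

namespace Groth.Agent.Helper3.CplLoc

section General

variable (R : Type u) [CommRing R] [IsNoetherianRing R] (J : Ideal R) (g : R)

theorem cpl_isNoetherianRing : IsNoetherianRing (Cpl R J g) :=
  Groth.Agent.Helper2.CompleteNoeth.isNoetherianRing_adicCompletion (Localization.Away g)
    (J.map (algebraMap R (Localization.Away g))) (IsNoetherian.noetherian _)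

theorem cpl_algebraMap_eq : algebraMap R (Cpl R J g) =
    (algebraMap (Localization.Away g) (Cpl R J g)).comp (algebraMap R (Localization.Away g)) := by
  ext a; rfl

theorem cpl_map_eq : J.map (algebraMap R (Cpl R J g)) =
    (J.map (algebraMap R (Localization.Away g))).map
      (algebraMap (Localization.Away g) (Cpl R J g)) := by
  rw [Ideal.map_map, ← cpl_algebraMap_eq]

theorem cpl_isAdicComplete : IsAdicComplete (J.map (algebraMap R (Cpl R J g))) (Cpl R J g) := by
  rw [cpl_map_eq]
  exact AdicCompletion.isAdicComplete_self _ (IsNoetherian.noetherian _)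

theorem cpl_flat : Module.Flat R (Cpl R J g) := by
  haveI : Module.Flat R (Localization.Away g) := IsLocalization.flat _ (Submonoid.powers g)
  haveI : Module.Flat (Localization.Away g) (Cpl R J g) := AdicCompletion.flat_of_isNoetherian _
  exact Module.Flat.trans R (Localization.Away g) (Cpl R J g)

theorem cpl_isUnit : IsUnit (algebraMap R (Cpl R J g) g) := by
  rw [cpl_algebraMap_eq, RingHom.comp_apply]
  exact (IsLocalization.Away.algebraMap_isUnit g).map _

theorem cpl_ker_evalₐ (n : ℕ) :
    RingHom.ker (AdicCompletion.evalₐ (J.map (algebraMap R (Localization.Away g))) n) =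
      (J ^ n).map (algebraMap R (Cpl R J g)) := by
  rw [cpl_algebraMap_eq, ← Ideal.map_map, Ideal.map_pow]
  exact le_antisymm
    (Groth.Agent.Helper8.AdicFS.ker_evalₐ_le_map_pow _ (IsNoetherian.noetherian _) n)
    (Groth.Agent.Helper8.AdicFS.map_pow_le_ker_evalₐ _ n)

/-- every element of `R_{g}` is congruent to an element of `R_g` modulo `Jⁿ` -/
theorem cpl_exists_sub_mem (n : ℕ) (c : Cpl R J g) :
    ∃ y : Localization.Away g,
      c - algebraMap (Localization.Away g) (Cpl R J g) y ∈ (J ^ n).map (algebraMap R (Cpl R J g)) := by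
  obtain ⟨y, hy⟩ := Ideal.Quotient.mk_surjective
    (AdicCompletion.evalₐ (J.map (algebraMap R (Localization.Away g))) n c)
  refine ⟨y, ?_⟩
  rw [← cpl_ker_evalₐ, RingHom.mem_ker, map_sub, AlgHom.commutes, Ideal.Quotient.algebraMap_eq, hy,
    sub_self]

theorem cpl_finiteType :
    Algebra.FiniteType R (Cpl R J g ⧸ J.map (algebraMap R (Cpl R J g))) := by
  haveI : Algebra.FiniteType R (Localization.Away g) :=
    IsLocalization.finiteType_of_monoid_fg (Submonoid.powers g) _
  let φ : Localization.Away g →ₐ[R] (Cpl R J g ⧸ J.map (algebraMap R (Cpl R J g))) :=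
    (IsScalarTower.toAlgHom R (Cpl R J g) _).comp
      (IsScalarTower.toAlgHom R (Localization.Away g) (Cpl R J g))
  refine Algebra.FiniteType.of_surjective φ ?_
  intro z
  obtain ⟨c, rfl⟩ := Ideal.Quotient.mk_surjective z
  obtain ⟨y, hy⟩ := cpl_exists_sub_mem R J g 1 c
  refine ⟨y, ?_⟩
  rw [pow_one] at hy
  show Ideal.Quotient.mk _ (algebraMap (Localization.Away g) (Cpl R J g) y) = Ideal.Quotient.mk _ c
  rw [eq_comm, Ideal.Quotient.eq]
  exact hy

theorem cpl_isJacobsonRing [IsJacobsonRing (R ⧸ J)] :
    IsJacobsonRing (Cpl R J g ⧸ J.map (algebraMap R (Cpl R J g))) := by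
  haveI := cpl_finiteType R J g
  haveI : Algebra.FiniteType (R ⧸ J) (Cpl R J g ⧸ J.map (algebraMap R (Cpl R J g))) :=
    Algebra.FiniteType.of_restrictScalars_finiteType R (R ⧸ J) _
  exact isJacobsonRing_of_finiteType (A := R ⧸ J)

end General

section Pair

variable (A : Type u) [CommRing A] [IsNoetherianRing A] (I : Ideal A)
  (B : Type u) [CommRing B] [Algebra A B] [IsNoetherianRing B] (f : A)
  (ψ : Cpl A I f →+* Cpl B (I.map (algebraMap A B)) (algebraMap A B f))
  (hψ : ψ.comp (algebraMap (Localization.Away f) (Cpl A I f)) =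
    (algebraMap (Localization.Away (algebraMap A B f))
      (Cpl B (I.map (algebraMap A B)) (algebraMap A B f))).comp
      (Localization.awayMap (algebraMap A B) f))

include hψ in
theorem psi_comp_algebraMap :
    ψ.comp (algebraMap A (Cpl A I f)) =
      algebraMap A (Cpl B (I.map (algebraMap A B)) (algebraMap A B f)) := by
  rw [cpl_algebraMap_eq, ← RingHom.comp_assoc, hψ, RingHom.comp_assoc]
  have h1 : (Localization.awayMap (algebraMap A B) f).comp (algebraMap A (Localization.Away f)) =
      (algebraMap B (Localization.Away (algebraMap A B f))).comp (algebraMap A B) :=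
    IsLocalization.map_comp _
  rw [h1]
  ext a
  rfl

end Pair

section FT

/-- transitivity of finite type modulo an ideal -/
theorem finiteType_quotient_trans (A B C : Type u) [CommRing A] [CommRing B] [CommRing C]
    [Algebra A B] [Algebra B C] [Algebra A C] [IsScalarTower A B C] (J : Ideal B)
    (h1 : Algebra.FiniteType A (B ⧸ J))
    (h2 : Algebra.FiniteType B (C ⧸ J.map (algebraMap B C))) :
    Algebra.FiniteType A (C ⧸ J.map (algebraMap B C)) := by
  haveI : Algebra.FiniteType (B ⧸ J) (C ⧸ J.map (algebraMap B C)) :=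
    Algebra.FiniteType.of_restrictScalars_finiteType B (B ⧸ J) _
  haveI : IsScalarTower A (B ⧸ J) (C ⧸ J.map (algebraMap B C)) :=
    IsScalarTower.of_algebraMap_eq fun a => by
      rw [IsScalarTower.algebraMap_apply A C (C ⧸ J.map (algebraMap B C)),
        IsScalarTower.algebraMap_apply A B C]
      rfl
  exact Algebra.FiniteType.trans h1 inferInstance

end FT

section PairAlg

variable (A : Type u) [CommRing A] [IsNoetherianRing A] (I : Ideal A)
  (B : Type u) [CommRing B] [Algebra A B] [IsNoetherianRing B] (f : A)
  [Algebra (Cpl A I f) (Cpl B (I.map (algebraMap A B)) (algebraMap A B f))]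
  [IsScalarTower A (Cpl A I f) (Cpl B (I.map (algebraMap A B)) (algebraMap A B f))]

theorem pair_ideal_eq :
    (I.map (algebraMap A (Cpl A I f))).map
      (algebraMap (Cpl A I f) (Cpl B (I.map (algebraMap A B)) (algebraMap A B f))) =
    (I.map (algebraMap A B)).map
      (algebraMap B (Cpl B (I.map (algebraMap A B)) (algebraMap A B f))) := by
  have h1 := Ideal.map_map (I := I) (algebraMap A (Cpl A I f))
    (algebraMap (Cpl A I f) (Cpl B (I.map (algebraMap A B)) (algebraMap A B f)))
  have h2 := Ideal.map_map (I := I) (algebraMap A B)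
    (algebraMap B (Cpl B (I.map (algebraMap A B)) (algebraMap A B f)))
  rw [h1, h2, ← IsScalarTower.algebraMap_eq, ← IsScalarTower.algebraMap_eq]

theorem pair_isAdicComplete :
    IsAdicComplete ((I.map (algebraMap A (Cpl A I f))).map
      (algebraMap (Cpl A I f) (Cpl B (I.map (algebraMap A B)) (algebraMap A B f))))
      (Cpl B (I.map (algebraMap A B)) (algebraMap A B f)) := by
  rw [pair_ideal_eq]
  exact cpl_isAdicComplete B _ _

theorem pair_finiteType (hft : Algebra.FiniteType A (B ⧸ (I.map (algebraMap A B)))) :
    Algebra.FiniteType (Cpl A I f)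
      (Cpl B (I.map (algebraMap A B)) (algebraMap A B f) ⧸
        (I.map (algebraMap A (Cpl A I f))).map
          (algebraMap (Cpl A I f) (Cpl B (I.map (algebraMap A B)) (algebraMap A B f)))) := by
  have h1 : Algebra.FiniteType A (Cpl B (I.map (algebraMap A B)) (algebraMap A B f) ⧸
      (I.map (algebraMap A B)).map
        (algebraMap B (Cpl B (I.map (algebraMap A B)) (algebraMap A B f)))) :=
    finiteType_quotient_trans A B _ (I.map (algebraMap A B)) hft
      (cpl_finiteType B (I.map (algebraMap A B)) (algebraMap A B f))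
  have h2 : Algebra.FiniteType A (Cpl B (I.map (algebraMap A B)) (algebraMap A B f) ⧸
      (I.map (algebraMap A (Cpl A I f))).map
        (algebraMap (Cpl A I f) (Cpl B (I.map (algebraMap A B)) (algebraMap A B f)))) := by
    haveI := h1
    exact Algebra.FiniteType.of_surjective
      (Ideal.quotientEquivAlgOfEq A (pair_ideal_eq A I B f).symm).toAlgHom
      (Ideal.quotientEquivAlgOfEq A (pair_ideal_eq A I B f).symm).surjective
  haveI := h2
  exact Algebra.FiniteType.of_restrictScalars_finiteType A (Cpl A I f) _

end PairAlg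

end Groth.Agent.Helper3.CplLoc
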