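import Mathlib
import Groth.Prelude.Def_CohDer
import Groth.Prelude.Def_DRing2
import Groth.Agent.Lib.Helper3.CptMod
import Groth.Agent.Lib.Helper5.DRing.Thick
import Groth.Agent.Lib.Helper5.DRing.AmpPerf

/-!
# Perfect objects of `D(R)` are the compact objects
-/

set_option autoImplicit false
set_option linter.unusedSectionVars false
universe u

open CategoryTheory CategoryTheory.Limits HomologicalComplex Opposite

attribute [local instance] HasDerivedCategory.standard

namespace Groth.Agent.Helper3.CptPerf

open Groth.Agent.Helper3.CptGen Groth.Agent.Helper3.CptTri DerivedCategory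

section General

variable {D : Type*} [Category D] [Preadditive D]

/-- the canonical map from the direct sum of the Hom groups is injective -/
lemma homSum_injective.{v'} {D : Type*} [Category.{v'} D] [Preadditive D] (K : D) {κ : Type v'}
    (X : κ → D) [HasCoproduct X] :
    Function.Injective (CohDer.homSumToHomCoprod K X) := by
  classical
  rw [injective_iff_map_eq_zero]
  intro x hx
  apply DFinsupp.ext
  intro k
  have h1 : CohDer.homSumToHomCoprod K X x ≫ Sigma.π X k = x k := by
    rw [NatCompact.homSum_eq_sum', Preadditive.sum_comp]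
    by_cases hk : k ∈ x.support
    · rw [Finset.sum_eq_single k]
      · simp
      · intro j _ hj
        rw [Category.assoc, Sigma.ι_π_of_ne _ hj, comp_zero]
      · intro h
        exact absurd hk h
    · rw [Finset.sum_eq_zero]
      · simp only [DFinsupp.mem_support_toFun, ne_eq, not_not] at hk
        exact hk.symm
      · intro j hj
        have : j ≠ k := fun h => hk (h ▸ hj)
        rw [Category.assoc, Sigma.ι_π_of_ne _ this, comp_zero]
  rw [← h1, hx, zero_comp]
  rfl

end General

variable (R : Type u) [CommRing R]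

/-- the restricted notion of compactness of the statement -/
def Cpt (K : Dual.D R) : Prop :=
  ∀ (I : Type u) (E : I → Dual.D R) [HasCoproduct fun i : ULift.{u + 1} I => E i.down],
    Function.Bijective (CohDer.homSumToHomCoprod K (fun i : ULift.{u + 1} I => E i.down))

lemma weakCpt_of_cpt (K : Dual.D R) (hK : Cpt R K) : WeakCpt.{u} K :=
  weakCpt_of_ulift.{u + 1, u} K (fun I E _ => (hK I E).2)

lemma cpt_of_weakCpt (K : Dual.D R) (hK : WeakCpt.{u} K) : Cpt R K := by
  classical
  intro I E _
  refine ⟨homSum_injective K _, ?_⟩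
  intro f
  let X : ULift.{u + 1} I → Dual.D R := fun i => E i.down
  have hc : IsColimit (Cofan.mk (∐ X) (fun i : I => Sigma.ι X ⟨i⟩)) :=
    Cofan.IsColimit.mk _
      (fun t => Sigma.desc (fun i : ULift.{u + 1} I => t.inj i.down))
      (fun t i => by
        change Sigma.ι X ⟨i⟩ ≫ _ = _
        rw [Sigma.ι_desc])
      (fun t m hm => by
        change ∐ X ⟶ t.pt at m
        refine Sigma.hom_ext (f := X) m _ (fun i => ?_)
        rw [Sigma.ι_desc]
        exact hm i.down)
  obtain ⟨S, x, hx⟩ := hK I E _ _ hc f
  refine ⟨∑ i ∈ S, DirectSum.of (fun i : ULift.{u + 1} I => K ⟶ X i) ⟨i⟩ (x i), ?_⟩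
  rw [map_sum, hx]
  apply Finset.sum_congr rfl
  intro i _
  rw [NatCompact.homSum_of']

/-- `R` is weakly compact -/
lemma weakCpt_R : WeakCpt.{u} (Dual.inD R R) := by
  have h := CptRing.weakCpt_single (A := ModuleCat.{u} R) (ModuleCat.of R R)
  exact weakCpt_of_iso ((singleFunctorIsoCompQ (ModuleCat.{u} R) 0).app (ModuleCat.of R R)) h

/-- perfect objects are weakly compact -/
theorem weakCpt_of_perfect (K : Dual.D R) (hK : DRing.IsPerfect R K) : WeakCpt.{u} K := by
  let P : ObjectProperty (Dual.D R) := fun K => WeakCpt.{u} K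
  have : P.IsClosedUnderIsomorphisms := ⟨fun e h => weakCpt_of_iso e.symm h⟩
  exact Groth.Agent.Helper5.DRingCone.prop_perfect P (weakCpt_R R)
    (fun K n h => weakCpt_shift h n)
    (fun T hT h1 h3 => weakCpt_ext T hT h1 h3)
    (fun X Y _ h => weakCpt_of_retract biprod.inl biprod.fst biprod.inl_fst h) K hK

/-- weakly compact objects are perfect -/
theorem perfect_of_weakCpt (K : Dual.D R) (hK : WeakCpt.{u} K) : DRing.IsPerfect R K := by
  obtain ⟨L, a, b, hz, hL, ⟨r⟩⟩ := CptMain.main (A := ModuleCat.{u} R)
    ({ModuleCat.of R R} : Set (ModuleCat.{u} R)) (CptMod.exists_epi R)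
    (fun E hE ι => by
      obtain rfl : E = ModuleCat.of R R := hE
      infer_instance) K hK
  have hperf : DRing.IsPerfect R (Q.obj L) := by
    refine ⟨L, a, b, hz, fun i => ?_, ⟨Iso.refl _⟩⟩
    obtain ⟨n, E, hE, ⟨e⟩⟩ := hL i
    have hE' : E = fun _ => ModuleCat.of R R := funext hE
    subst hE'
    let e' : L.X i ≅ ModuleCat.of R (Fin n → R) :=
      e ≪≫ ModuleCat.biproductIsoPi (fun _ : Fin n => ModuleCat.of R R)
    have h1 : Module.Finite R (Fin n → R) := inferInstance
    have h2 : Module.Projective R (Fin n → R) := inferInstance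
    exact ⟨Module.Finite.equiv e'.symm.toLinearEquiv,
      Module.Projective.of_equiv e'.symm.toLinearEquiv⟩
  rw [Groth.Agent.Helper5.Summand.amp_iff] at hperf ⊢
  obtain ⟨a', b', hab, h⟩ := hperf
  exact ⟨a', b', hab, Groth.Agent.Helper5.Summand.Amp.retract Groth.Agent.Helper5.Summand.hyp_fp hab
    r.i r.r r.retract h⟩

theorem main (K : Dual.D R) : DRing.IsPerfect R K ↔ Cpt R K :=
  ⟨fun h => cpt_of_weakCpt R K (weakCpt_of_perfect R K h),
    fun h => perfect_of_weakCpt R K (weakCpt_of_cpt R K h)⟩

end Groth.Agent.Helper3.CptPerf
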