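import Mathlib

/-!
# Abstract reduction functors `T = A/I ⊗ -` on `ModuleCat A`

An additive endofunctor `T` of `ModuleCat A` with a natural surjection `η : X ⟶ T X`
whose kernel is `I X` and such that `I` kills `T X`.  We prove lifting results for a nilpotent
ideal `I`.
-/

namespace Groth.Agent.Helper3.RedFun

open CategoryTheory Limits

universe u

variable {A : Type u} [CommRing A]

/-- reduction data modulo an ideal `I` -/
structure RedData (I : Ideal A) where
  T : ModuleCat.{u} A ⥤ ModuleCat.{u} A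
  add : T.Additive
  η : 𝟭 (ModuleCat.{u} A) ⟶ T
  surj : ∀ X, Function.Surjective (η.app X).hom
  ker_le : ∀ (X : ModuleCat.{u} A) (x : X), (η.app X).hom x = 0 → x ∈ (I • ⊤ : Submodule A X)
  kills : ∀ (X : ModuleCat.{u} A) (a : A) (_ : a ∈ I) (y : T.obj X), a • y = 0

variable {I : Ideal A} (D : RedData I)

instance : D.T.Additive := D.add

/-- a module killed by `I` -/
def Killed (I : Ideal A) (Y : ModuleCat.{u} A) : Prop := ∀ (a : A), a ∈ I → ∀ y : Y, a • y = 0

lemma killed_T (X : ModuleCat.{u} A) : Killed I (D.T.obj X) := fun a ha y => D.kills X a ha y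

lemma epi_η (X : ModuleCat.{u} A) : Epi (D.η.app X) :=
  (ModuleCat.epi_iff_surjective _).2 (D.surj X)

lemma η_nat {X Y : ModuleCat.{u} A} (φ : X ⟶ Y) : φ ≫ D.η.app Y = D.η.app X ≫ D.T.map φ :=
  D.η.naturality φ

lemma map_eq_iff {X Y : ModuleCat.{u} A} (φ : X ⟶ Y) (ψ : D.T.obj X ⟶ D.T.obj Y) :
    D.T.map φ = ψ ↔ φ ≫ D.η.app Y = D.η.app X ≫ ψ := by
  have := epi_η D X
  rw [η_nat, cancel_epi]

/-- lifting morphisms out of a projective object -/
lemma exists_lift_hom {X Y : ModuleCat.{u} A} [Projective X] (ψ : D.T.obj X ⟶ D.T.obj Y) :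
    ∃ φ : X ⟶ Y, D.T.map φ = ψ := by
  have := epi_η D Y
  refine ⟨Projective.factorThru (D.η.app X ≫ ψ) (D.η.app Y), ?_⟩
  rw [map_eq_iff, Projective.factorThru_comp]

lemma mem_of_map_eq_zero {X Y : ModuleCat.{u} A} (φ : X ⟶ Y) (h : D.T.map φ = 0) (x : X) :
    φ.hom x ∈ (I • ⊤ : Submodule A Y) := by
  apply D.ker_le
  have h1 : φ ≫ D.η.app Y = 0 := by rw [η_nat, h, comp_zero]
  have h2 := congrArg (fun g => g.hom x) h1
  simpa using h2

lemma pow_mem {X : ModuleCat.{u} A} (φ : End X) (h : D.T.map φ = 0) (k : ℕ) (x : X) :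
    (φ ^ k).hom x ∈ (I ^ k • ⊤ : Submodule A X) := by
  induction k generalizing x with
  | zero => simp
  | succ k ih =>
    have h1 : (φ ^ (k + 1)).hom x = φ.hom ((φ ^ k).hom x) := by
      rw [pow_succ', End.mul_def]
      rfl
    rw [h1]
    have h2 : φ.hom ((φ ^ k).hom x) ∈ (I ^ k • ⊤ : Submodule A X).map φ.hom :=
      Submodule.mem_map_of_mem (ih x)
    rw [Submodule.map_smul''] at h2
    have h3 : (⊤ : Submodule A X).map φ.hom ≤ (I • ⊤ : Submodule A X) := by
      rintro _ ⟨y, -, rfl⟩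
      exact mem_of_map_eq_zero D φ h y
    have h4 := Submodule.smul_mono (le_refl (I ^ k)) h3 h2
    rwa [← Submodule.mul_smul, ← pow_succ] at h4

lemma isNilpotent_of_map_eq_zero (hI : IsNilpotent I) {X : ModuleCat.{u} A} (φ : End X)
    (h : D.T.map φ = 0) : IsNilpotent φ := by
  obtain ⟨n, hn⟩ := hI
  refine ⟨n, ?_⟩
  apply ModuleCat.hom_ext
  apply LinearMap.ext
  intro x
  have := pow_mem D φ h n x
  rw [hn, Ideal.zero_eq_bot, Submodule.bot_smul, Submodule.mem_bot] at this
  rw [this]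
  rfl

/-- `T.map` as a ring hom on endomorphism rings -/
noncomputable def endMap (F : ModuleCat.{u} A) : End F →+* End (D.T.obj F) where
  toFun φ := D.T.map φ
  map_one' := D.T.map_id F
  map_mul' x y := D.T.map_comp y x
  map_zero' := D.T.map_zero _ _
  map_add' x y := D.T.map_add

lemma endMap_apply (F : ModuleCat.{u} A) (φ : End F) : endMap D F φ = D.T.map φ := rfl

/-- an endomorphism reducing to the identity is an isomorphism -/
lemma isIso_of_map_eq_id (hI : IsNilpotent I) {X : ModuleCat.{u} A} (φ : X ⟶ X)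
    (h : D.T.map φ = 𝟙 _) : IsIso φ := by
  have h0 : D.T.map (φ - 𝟙 X) = 0 := by
    rw [Functor.map_sub, h, CategoryTheory.Functor.map_id, sub_self]
  have h1 : IsNilpotent (show End X from φ - 𝟙 X) := isNilpotent_of_map_eq_zero D hI _ h0
  have h2 : IsUnit ((1 : End X) + (show End X from φ - 𝟙 X)) := h1.isUnit_one_add
  have h3 : ((1 : End X) + (show End X from φ - 𝟙 X)) = (show End X from φ) := by
    change 𝟙 X + (φ - 𝟙 X) = φ
    abel
  rw [h3] at h2
  obtain ⟨⟨u, v, huv, hvu⟩, hu⟩ := h2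
  change u = φ at hu
  subst hu
  exact ⟨⟨v, hvu, huv⟩⟩

/-- lifting split monomorphisms -/
lemma exists_retraction (hI : IsNilpotent I) {X Y : ModuleCat.{u} A} [Projective Y]
    (j : X ⟶ Y) (r₀ : D.T.obj Y ⟶ D.T.obj X) (h : D.T.map j ≫ r₀ = 𝟙 _) :
    ∃ r : Y ⟶ X, j ≫ r = 𝟙 X := by
  obtain ⟨r, hr⟩ := exists_lift_hom D r₀
  have h1 : D.T.map (j ≫ r) = 𝟙 _ := by rw [Functor.map_comp, hr, h]
  have := isIso_of_map_eq_id D hI (j ≫ r) h1
  exact ⟨r ≫ inv (j ≫ r), by rw [← Category.assoc, IsIso.hom_inv_id]⟩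

/-- factorisation through the unit of morphisms to a module killed by `I` -/
lemma exists_factor {X Y : ModuleCat.{u} A} (hY : Killed I Y) (l : X ⟶ Y) :
    ∃ l' : D.T.obj X ⟶ Y, D.η.app X ≫ l' = l := by
  have hker : LinearMap.ker (D.η.app X).hom ≤ LinearMap.ker l.hom := by
    intro x hx
    rw [LinearMap.mem_ker] at hx ⊢
    have hx' := D.ker_le X x hx
    refine Submodule.smul_induction_on hx' ?_ ?_
    · intro a ha n _
      rw [map_smul]
      exact hY a ha _
    · intro x y hx hy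
      rw [map_add, hx, hy, add_zero]
  let e := LinearMap.quotKerEquivOfSurjective (D.η.app X).hom (D.surj X)
  refine ⟨ModuleCat.ofHom (((LinearMap.ker (D.η.app X).hom).liftQ l.hom hker) ∘ₗ e.symm.toLinearMap), ?_⟩
  apply ModuleCat.hom_ext
  apply LinearMap.ext
  intro x
  change ((LinearMap.ker (D.η.app X).hom).liftQ l.hom hker) (e.symm ((D.η.app X).hom x)) = l.hom x
  have : e.symm ((D.η.app X).hom x) = Submodule.Quotient.mk x := by
    rw [LinearEquiv.symm_apply_eq]
    rfl
  rw [this]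
  rfl

/-- relative projectivity: retracts of `T F` for `F` finite projective -/
def IsTP (X : ModuleCat.{u} A) : Prop :=
  ∃ (F : ModuleCat.{u} A) (_ : Module.Finite A F) (_ : Module.Projective A F)
    (i : X ⟶ D.T.obj F) (r : D.T.obj F ⟶ X), i ≫ r = 𝟙 X

lemma isTP_T (F : ModuleCat.{u} A) [Module.Finite A F] [Module.Projective A F] :
    IsTP D (D.T.obj F) := ⟨F, inferInstance, inferInstance, 𝟙 _, 𝟙 _, Category.id_comp _⟩

lemma isTP_of_retract {X Y : ModuleCat.{u} A} (hY : IsTP D Y) (i : X ⟶ Y) (r : Y ⟶ X)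
    (h : i ≫ r = 𝟙 X) : IsTP D X := by
  obtain ⟨F, h1, h2, i', r', h'⟩ := hY
  refine ⟨F, h1, h2, i ≫ i', r' ≫ r, ?_⟩
  rw [Category.assoc, reassoc_of% h', h]

lemma isTP_of_iso {X Y : ModuleCat.{u} A} (hY : IsTP D Y) (e : X ≅ Y) : IsTP D X :=
  isTP_of_retract D hY e.hom e.inv e.hom_inv_id

lemma isTP_of_isZero {X : ModuleCat.{u} A} (hX : IsZero X) : IsTP D X := by
  refine ⟨ModuleCat.of A PUnit, inferInstance, inferInstance, 0, 0, hX.eq_of_src _ _⟩

lemma killed_of_isTP {X : ModuleCat.{u} A} (hX : IsTP D X) : Killed I X := by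
  obtain ⟨F, _, _, i, r, h⟩ := hX
  intro a ha x
  have h1 : r.hom (i.hom x) = x := by
    have := congrArg (fun g => g.hom x) h
    simpa using this
  calc a • x = a • r.hom (i.hom x) := by rw [h1]
    _ = r.hom (a • i.hom x) := (map_smul _ _ _).symm
    _ = r.hom 0 := by rw [D.kills F a ha]
    _ = 0 := map_zero _

/-- epimorphisms onto relatively projective objects from killed modules split -/
lemma exists_section {X Y : ModuleCat.{u} A} (hY : IsTP D Y) (hX : Killed I X) (g : X ⟶ Y)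
    [Epi g] : ∃ s : Y ⟶ X, s ≫ g = 𝟙 Y := by
  obtain ⟨F, _, _, i, r, h⟩ := hY
  have hF : Projective F := ModuleCat.projective_of_categoryTheory_projective _
  let l : F ⟶ X := Projective.factorThru (D.η.app F ≫ r) g
  have hl : l ≫ g = D.η.app F ≫ r := Projective.factorThru_comp _ _
  obtain ⟨l', hl'⟩ := exists_factor D hX l
  have := epi_η D F
  have h2 : l' ≫ g = r := by
    rw [← cancel_epi (D.η.app F), reassoc_of% hl', hl]
  exact ⟨i ≫ l', by rw [Category.assoc, h2, h]⟩

/-- relatively projective objects lift to finite projective modules -/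
theorem exists_lift (hI : IsNilpotent I) {X : ModuleCat.{u} A} (hX : IsTP D X) :
    ∃ P : ModuleCat.{u} A, Module.Finite A P ∧ Module.Projective A P ∧
      Nonempty (D.T.obj P ≅ X) := by
  obtain ⟨F, hFf, hFp, i₀, r₀, h₀⟩ := hX
  have hF : Projective F := ModuleCat.projective_of_categoryTheory_projective _
  let e₀ : End (D.T.obj F) := r₀ ≫ i₀
  have he₀ : IsIdempotentElem e₀ := by
    change (r₀ ≫ i₀) ≫ (r₀ ≫ i₀) = r₀ ≫ i₀
    rw [Category.assoc, reassoc_of% h₀]
  obtain ⟨e, he, hee⟩ := exists_isIdempotentElem_eq_of_ker_isNilpotent (endMap D F)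
    (fun x hx => isNilpotent_of_map_eq_zero D hI x hx) e₀
    (exists_lift_hom D e₀) he₀
  have he' : e ≫ e = e := he
  have hee' : D.T.map e = r₀ ≫ i₀ := hee
  let P : ModuleCat.{u} A := ModuleCat.of A (LinearMap.range e.hom)
  let i : P ⟶ F := ModuleCat.ofHom (Submodule.subtype _)
  let r : F ⟶ P := ModuleCat.ofHom (LinearMap.rangeRestrict e.hom)
  have hri : r ≫ i = e := by
    apply ModuleCat.hom_ext
    apply LinearMap.ext
    intro x
    rfl
  have hir : i ≫ r = 𝟙 P := by
    apply ModuleCat.hom_ext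
    apply LinearMap.ext
    rintro ⟨y, x, rfl⟩
    apply Subtype.ext
    change e.hom (e.hom x) = e.hom x
    have := congrArg (fun g => g.hom x) he'
    simpa using this
  have hrs : Function.Surjective r.hom := by
    intro y
    refine ⟨i.hom y, ?_⟩
    have := congrArg (fun g => g.hom y) hir
    simpa using this
  refine ⟨P, Module.Finite.of_surjective r.hom hrs, ?_,
    ⟨⟨D.T.map i ≫ r₀, i₀ ≫ D.T.map r, ?_, ?_⟩⟩⟩
  · refine Module.Projective.of_split i.hom r.hom ?_
    have := congrArg (fun g => g.hom) hir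
    simpa using this
  · have h1 : i ≫ e ≫ r = 𝟙 P := by rw [← hri, Category.assoc, reassoc_of% hir, hir]
    rw [Category.assoc, ← Category.assoc r₀, ← hee', ← Functor.map_comp, ← Functor.map_comp, h1,
      CategoryTheory.Functor.map_id]
  · rw [Category.assoc, ← Category.assoc (D.T.map r), ← Functor.map_comp, hri, hee',
      Category.assoc, h₀, Category.comp_id, h₀]

end Groth.Agent.Helper3.RedFun
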