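import Mathlib

/-!
# Split (contractible) cochain complexes as sums of elementary complexes
-/

namespace Groth.Agent.Helper3.SplitCx

open CategoryTheory Limits

universe v v' u u'

variable {C : Type u} [Category.{v} C] [Preadditive C] [HasBinaryBiproducts C]

/-- the elementary contractible complex with terms `P i ⊞ P (i+1)` and differential
`(x, y) ↦ (y, 0)` -/
noncomputable def elem (P : ℤ → C) : CochainComplex C ℤ :=
  CochainComplex.of (fun i => P i ⊞ P (i + 1)) (fun i => biprod.snd ≫ biprod.inl)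
    (fun n => by simp)

lemma elem_d (P : ℤ → C) (i : ℤ) :
    (elem P).d i (i + 1) = biprod.snd ≫ biprod.inl := by
  simp [elem]

/-- Splitting data of a cochain complex. -/
structure SplitData (K : CochainComplex C ℤ) where
  Z : ℤ → C
  ι : ∀ i, Z i ⟶ K.X i
  p : ∀ i, K.X i ⟶ Z (i + 1)
  σ : ∀ i, Z (i + 1) ⟶ K.X i
  ρ : ∀ i, K.X i ⟶ Z i
  ι_ρ : ∀ i, ι i ≫ ρ i = 𝟙 _
  σ_p : ∀ i, σ i ≫ p i = 𝟙 _
  σ_ρ : ∀ i, σ i ≫ ρ i = 0
  ι_p : ∀ i, ι i ≫ p i = 0
  total : ∀ i, ρ i ≫ ι i + p i ≫ σ i = 𝟙 _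
  d_eq : ∀ i, K.d i (i + 1) = p i ≫ ι (i + 1)

variable {D : Type u'} [Category.{v'} D] [Preadditive D] [HasBinaryBiproducts D]

section

variable {K : CochainComplex C ℤ} (S : SplitData K) (E : D ⥤ C) [E.Additive]
  (P : ℤ → D) (α : ∀ i, E.obj (P i) ≅ S.Z i)

/-- forward map -/
noncomputable def homApp (i : ℤ) : E.obj (P i ⊞ P (i + 1)) ⟶ K.X i :=
  E.map biprod.fst ≫ (α i).hom ≫ S.ι i + E.map biprod.snd ≫ (α (i + 1)).hom ≫ S.σ i

/-- backward map -/
noncomputable def invApp (i : ℤ) : K.X i ⟶ E.obj (P i ⊞ P (i + 1)) :=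
  S.ρ i ≫ (α i).inv ≫ E.map biprod.inl + S.p i ≫ (α (i + 1)).inv ≫ E.map biprod.inr

lemma homApp_invApp (i : ℤ) : homApp S E P α i ≫ invApp S E P α i = 𝟙 _ := by
  simp only [homApp, invApp, Preadditive.add_comp, Preadditive.comp_add, Category.assoc]
  rw [reassoc_of% (S.ι_ρ i), reassoc_of% (S.ι_p i), reassoc_of% (S.σ_ρ i), reassoc_of% (S.σ_p i)]
  simp only [zero_comp, comp_zero, add_zero, zero_add, Iso.hom_inv_id_assoc]
  rw [← Functor.map_comp, ← Functor.map_comp, ← Functor.map_add, biprod.total,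
    CategoryTheory.Functor.map_id]

lemma invApp_homApp (i : ℤ) : invApp S E P α i ≫ homApp S E P α i = 𝟙 _ := by
  simp only [homApp, invApp, Preadditive.add_comp, Preadditive.comp_add, Category.assoc]
  have h1 : E.map (biprod.inl : P i ⟶ P i ⊞ P (i + 1)) ≫ E.map biprod.fst = 𝟙 _ := by
    rw [← Functor.map_comp, biprod.inl_fst, CategoryTheory.Functor.map_id]
  have h2 : E.map (biprod.inl : P i ⟶ P i ⊞ P (i + 1)) ≫ E.map biprod.snd = 0 := by
    rw [← Functor.map_comp, biprod.inl_snd, Functor.map_zero]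
  have h3 : E.map (biprod.inr : P (i + 1) ⟶ P i ⊞ P (i + 1)) ≫ E.map biprod.fst = 0 := by
    rw [← Functor.map_comp, biprod.inr_fst, Functor.map_zero]
  have h4 : E.map (biprod.inr : P (i + 1) ⟶ P i ⊞ P (i + 1)) ≫ E.map biprod.snd = 𝟙 _ := by
    rw [← Functor.map_comp, biprod.inr_snd, CategoryTheory.Functor.map_id]
  rw [reassoc_of% h1, reassoc_of% h2, reassoc_of% h3, reassoc_of% h4]
  simp only [zero_comp, comp_zero, add_zero, zero_add, Iso.inv_hom_id_assoc]
  exact S.total i

lemma homApp_d (i : ℤ) :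
    homApp S E P α i ≫ K.d i (i + 1) =
      E.map (biprod.snd ≫ biprod.inl) ≫ homApp S E P α (i + 1) := by
  simp only [homApp, Preadditive.add_comp, Preadditive.comp_add, Category.assoc]
  have h1 : S.ι i ≫ K.d i (i + 1) = 0 := by
    rw [S.d_eq, reassoc_of% (S.ι_p i), zero_comp]
  have h2 : S.σ i ≫ K.d i (i + 1) = S.ι (i + 1) := by
    rw [S.d_eq, reassoc_of% (S.σ_p i)]
  rw [h1, h2]
  have h3 : E.map (biprod.snd ≫ biprod.inl : P i ⊞ P (i + 1) ⟶ P (i + 1) ⊞ P (i + 1 + 1)) ≫
      E.map biprod.fst = E.map biprod.snd := by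
    rw [← Functor.map_comp, Category.assoc, biprod.inl_fst, Category.comp_id]
  have h4 : E.map (biprod.snd ≫ biprod.inl : P i ⊞ P (i + 1) ⟶ P (i + 1) ⊞ P (i + 1 + 1)) ≫
      E.map biprod.snd = 0 := by
    rw [← Functor.map_comp, Category.assoc, biprod.inl_snd, comp_zero, Functor.map_zero]
  rw [reassoc_of% h3, reassoc_of% h4]
  simp

/-- the image under an additive functor of an elementary complex is isomorphic to a complex
with splitting data whose cycle objects are the images. -/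
noncomputable def isoOfSplitData :
    (E.mapHomologicalComplex (ComplexShape.up ℤ)).obj (elem P) ≅ K :=
  HomologicalComplex.Hom.isoOfComponents
    (fun i => ⟨homApp S E P α i, invApp S E P α i, homApp_invApp S E P α i,
      invApp_homApp S E P α i⟩)
    (by
      rintro i j (rfl : i + 1 = j)
      have h : ((E.mapHomologicalComplex (ComplexShape.up ℤ)).obj (elem P)).d i (i + 1) =
          E.map (biprod.snd ≫ biprod.inl) := by
        rw [Functor.mapHomologicalComplex_obj_d, elem_d]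
        rfl
      change homApp S E P α i ≫ K.d i (i + 1) = _ ≫ homApp S E P α (i + 1)
      rw [h]
      exact (homApp_d S E P α i))

end

end Groth.Agent.Helper3.SplitCx
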