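import Mathlib
import Groth.Agent.Lib.Helper3.SplitCx

/-!
# Acyclic bounded-above complexes of projective modules are split
-/

namespace Groth.Agent.Helper3.SplitCx

open CategoryTheory Limits

universe v u w

section Abelian

variable {C : Type u} [Category.{v} C] [Abelian C]

lemma exact_of_contraction (S : ShortComplex C) (h₁ : S.X₂ ⟶ S.X₁) (h₂ : S.X₃ ⟶ S.X₂)
    (h : h₁ ≫ S.f + S.g ≫ h₂ = 𝟙 S.X₂) : S.Exact := by
  rw [S.exact_iff_kernel_ι_comp_cokernel_π_zero]
  have : kernel.ι S.g ≫ 𝟙 S.X₂ ≫ cokernel.π S.f = 0 := by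
    rw [← h]
    simp
  simpa using this

/-- the contracting homotopy of an elementary complex -/
noncomputable def hc (P : ℤ → C) (i : ℤ) : (elem P).X (i + 1) ⟶ (elem P).X i :=
  (biprod.fst ≫ biprod.inr : P (i + 1) ⊞ P (i + 1 + 1) ⟶ P i ⊞ P (i + 1))

lemma hc_spec (P : ℤ → C) (i : ℤ) :
    hc P i ≫ (elem P).d i (i + 1) + (elem P).d (i + 1) (i + 1 + 1) ≫ hc P (i + 1) =
      𝟙 ((elem P).X (i + 1)) := by
  rw [elem_d, elem_d]
  change (biprod.fst ≫ biprod.inr) ≫ (biprod.snd ≫ biprod.inl) +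
    (biprod.snd ≫ biprod.inl) ≫ (biprod.fst ≫ biprod.inr) = 𝟙 (P (i + 1) ⊞ P (i + 1 + 1))
  simp only [Category.assoc, biprod.inr_snd_assoc, biprod.inl_fst_assoc]
  exact biprod.total

lemma elem_acyclic (P : ℤ → C) : (elem P).Acyclic := by
  intro j
  obtain ⟨i, rfl⟩ : ∃ i, j = i + 1 := ⟨j - 1, by ring⟩
  rw [(elem P).exactAt_iff' i (i + 1) (i + 1 + 1) (by simp) (by simp)]
  exact exact_of_contraction _ (hc P i) (hc P (i + 1)) (hc_spec P i)

lemma elem_isZero (P : ℤ → C) (i : ℤ) (h₁ : IsZero (P i)) (h₂ : IsZero (P (i + 1))) :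
    IsZero ((elem P).X i) := by
  change IsZero (P i ⊞ P (i + 1))
  rw [IsZero.iff_id_eq_zero, ← biprod.total, h₁.eq_of_tgt biprod.fst 0, h₂.eq_of_tgt biprod.snd 0]
  simp

end Abelian

section Module

variable {R : Type u} [Ring R]

lemma elem_projective [Small.{w} R] (P : ℤ → ModuleCat.{w} R) (hP : ∀ i, Module.Projective R (P i)) (i : ℤ) :
    Module.Projective R ((elem P).X i) := by
  change Module.Projective R (P i ⊞ P (i + 1) : ModuleCat.{w} R)
  have h1 : Projective (P i) := ModuleCat.projective_of_categoryTheory_projective _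
  have h2 : Projective (P (i + 1)) := ModuleCat.projective_of_categoryTheory_projective _
  exact ModuleCat.projective_of_module_projective _

variable (K : CochainComplex (ModuleCat.{w} R) ℤ)

/-- the cycles -/
noncomputable abbrev Zc (i : ℤ) : ModuleCat.{w} R :=
  ModuleCat.of R (LinearMap.ker (K.d i (i + 1)).hom)

noncomputable def ιc (i : ℤ) : Zc K i ⟶ K.X i := ModuleCat.ofHom (Submodule.subtype _)

noncomputable def pc (i : ℤ) : K.X i ⟶ Zc K (i + 1) :=
  ModuleCat.ofHom (LinearMap.codRestrict _ (K.d i (i + 1)).hom (fun x => by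
    rw [LinearMap.mem_ker, ← LinearMap.comp_apply, ← ModuleCat.hom_comp,
      HomologicalComplex.d_comp_d]
    rfl))

lemma pc_ιc (i : ℤ) : pc K i ≫ ιc K (i + 1) = K.d i (i + 1) := rfl

lemma ιc_pc (i : ℤ) : ιc K i ≫ pc K i = 0 := by
  apply ModuleCat.hom_ext
  apply LinearMap.ext
  rintro ⟨z, hz⟩
  apply Subtype.ext
  exact hz

lemma pc_surjective (hK : K.Acyclic) (i : ℤ) : Function.Surjective (pc K i).hom := by
  rintro ⟨y, hy⟩
  have h := (K.exactAt_iff' i (i + 1) (i + 1 + 1) (by simp) (by simp)).1 (hK (i + 1))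
  rw [ShortComplex.moduleCat_exact_iff] at h
  obtain ⟨x, hx⟩ := h y hy
  exact ⟨x, Subtype.ext hx⟩

lemma mono_ιc (i : ℤ) : Function.Injective (ιc K i).hom := Subtype.val_injective

/-- If `Z (i+1)` is projective then the sequence splits at `i`. -/
lemma exists_section (hK : K.Acyclic) (i : ℤ) [Module.Projective R (Zc K (i + 1))] :
    ∃ s : Zc K (i + 1) ⟶ K.X i, s ≫ pc K i = 𝟙 _ := by
  obtain ⟨s, hs⟩ := Module.projective_lifting_property (pc K i).hom LinearMap.id
    (pc_surjective K hK i)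
  refine ⟨ModuleCat.ofHom s, ?_⟩
  apply ModuleCat.hom_ext
  exact hs

/-- the retraction associated to a section -/
noncomputable def ρc (i : ℤ) (s : Zc K (i + 1) ⟶ K.X i) (hs : s ≫ pc K i = 𝟙 _) :
    K.X i ⟶ Zc K i :=
  ModuleCat.ofHom (LinearMap.codRestrict _ (LinearMap.id - s.hom ∘ₗ (pc K i).hom) (fun x => by
    rw [LinearMap.mem_ker]
    have h1 : (K.d i (i + 1)).hom (s.hom ((pc K i).hom x)) = (K.d i (i + 1)).hom x := by
      have h2 : (pc K i).hom (s.hom ((pc K i).hom x)) = (pc K i).hom x := by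
        have := congrArg (fun g => g.hom ((pc K i).hom x)) hs
        simpa using this
      have := congrArg (fun y => (ιc K (i + 1)).hom y) h2
      exact this
    simp [h1]))

lemma ρc_apply (i : ℤ) (s : Zc K (i + 1) ⟶ K.X i) (hs : s ≫ pc K i = 𝟙 _) (x : K.X i) :
    (ιc K i).hom ((ρc K i s hs).hom x) = x - s.hom ((pc K i).hom x) := rfl

lemma ιc_ρc (i : ℤ) (s : Zc K (i + 1) ⟶ K.X i) (hs : s ≫ pc K i = 𝟙 _) :
    ιc K i ≫ ρc K i s hs = 𝟙 _ := by
  apply ModuleCat.hom_ext
  apply LinearMap.ext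
  intro z
  apply mono_ιc K i
  change (ιc K i).hom ((ρc K i s hs).hom ((ιc K i).hom z)) = (ιc K i).hom z
  rw [ρc_apply]
  have h : (pc K i).hom ((ιc K i).hom z) = 0 := by
    have := congrArg (fun g => g.hom z) (ιc_pc K i)
    simpa using this
  rw [h, map_zero, sub_zero]

lemma σ_ρc (i : ℤ) (s : Zc K (i + 1) ⟶ K.X i) (hs : s ≫ pc K i = 𝟙 _) :
    s ≫ ρc K i s hs = 0 := by
  apply ModuleCat.hom_ext
  apply LinearMap.ext
  intro z
  apply mono_ιc K i
  change (ιc K i).hom ((ρc K i s hs).hom (s.hom z)) = (ιc K i).hom 0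
  rw [ρc_apply]
  have h : (pc K i).hom (s.hom z) = z := by
    have := congrArg (fun g => g.hom z) hs
    simpa using this
  rw [h, sub_self, map_zero]

lemma total_c (i : ℤ) (s : Zc K (i + 1) ⟶ K.X i) (hs : s ≫ pc K i = 𝟙 _) :
    ρc K i s hs ≫ ιc K i + pc K i ≫ s = 𝟙 _ := by
  apply ModuleCat.hom_ext
  apply LinearMap.ext
  intro x
  change (ιc K i).hom ((ρc K i s hs).hom x) + s.hom ((pc K i).hom x) = x
  rw [ρc_apply]
  abel

/-- cycles are projective if the next cycles are and the term is -/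
lemma projective_Zc_of_succ (hK : K.Acyclic) (i : ℤ) [Module.Projective R (K.X i)]
    [Module.Projective R (Zc K (i + 1))] : Module.Projective R (Zc K i) := by
  obtain ⟨s, hs⟩ := exists_section K hK i
  refine Module.Projective.of_split (ιc K i).hom (ρc K i s hs).hom ?_
  have := congrArg (fun g => g.hom) (ιc_ρc K i s hs)
  simpa using this

lemma projective_Zc (hK : K.Acyclic) (hP : ∀ i, Module.Projective R (K.X i)) (b : ℤ)
    (hb : ∀ i : ℤ, b < i → IsZero (K.X i)) (i : ℤ) : Module.Projective R (Zc K i) := by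
  have key : ∀ (n : ℕ) (i : ℤ), b + 1 ≤ i + n → Module.Projective R (Zc K i) := by
    intro n
    induction n with
    | zero =>
      intro i hi
      have h0 : IsZero (K.X i) := hb i (by simpa using hi)
      have : Subsingleton (K.X i) := ModuleCat.subsingleton_of_isZero h0
      have : Subsingleton (Zc K i) := ⟨fun a b => Subtype.ext (Subsingleton.elim _ _)⟩
      infer_instance
    | succ n ih =>
      intro i hi
      have := ih (i + 1) (by push_cast at hi; omega)
      have := hP i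
      exact projective_Zc_of_succ K hK i
  exact key (b + 1 - i).toNat i (by omega)

/-- the splitting data of an acyclic bounded above complex of projectives -/
noncomputable def splitData (hK : K.Acyclic) (hP : ∀ i, Module.Projective R (K.X i)) (b : ℤ)
    (hb : ∀ i : ℤ, b < i → IsZero (K.X i)) : SplitData K :=
  have hZ : ∀ i, Module.Projective R (Zc K i) := projective_Zc K hK hP b hb
  have hs : ∀ i, ∃ s : Zc K (i + 1) ⟶ K.X i, s ≫ pc K i = 𝟙 _ := fun i => exists_section K hK i
  { Z := Zc K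
    ι := ιc K
    p := pc K
    σ := fun i => (hs i).choose
    ρ := fun i => ρc K i (hs i).choose (hs i).choose_spec
    ι_ρ := fun i => ιc_ρc K i _ _
    σ_p := fun i => (hs i).choose_spec
    σ_ρ := fun i => σ_ρc K i _ _
    ι_p := fun i => ιc_pc K i
    total := fun i => total_c K i _ _
    d_eq := fun i => (pc_ιc K i).symm }

lemma splitData_Z (hK : K.Acyclic) (hP : ∀ i, Module.Projective R (K.X i)) (b : ℤ)
    (hb : ∀ i : ℤ, b < i → IsZero (K.X i)) (i : ℤ) :
    (splitData K hK hP b hb).Z i = Zc K i := rfl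

lemma isZero_Zc (i : ℤ) (h : IsZero (K.X i)) : IsZero (Zc K i) := by
  have : Subsingleton (K.X i) := ModuleCat.subsingleton_of_isZero h
  have : Subsingleton (Zc K i) := ⟨fun a b => Subtype.ext (Subsingleton.elim _ _)⟩
  exact ModuleCat.isZero_of_subsingleton _

end Module

end Groth.Agent.Helper3.SplitCx
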