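import Mathlib
import Groth.Agent.Lib.Helper3.SplitCxMod

/-!
# Disk maps out of elementary complexes and relative splittings
-/

namespace Groth.Agent.Helper3.SplitCx

open CategoryTheory Limits

universe v v' u u' w

section Disk

variable {C : Type u} [Category.{v} C] [Preadditive C] [HasBinaryBiproducts C]

section emaps

variable (P : ℤ → C) (i : ℤ)

noncomputable def eFst : (elem P).X i ⟶ P i := (biprod.fst : P i ⊞ P (i + 1) ⟶ P i)
noncomputable def eSnd : (elem P).X i ⟶ P (i + 1) := (biprod.snd : P i ⊞ P (i + 1) ⟶ P (i + 1))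
noncomputable def eInl : P i ⟶ (elem P).X i := (biprod.inl : P i ⟶ P i ⊞ P (i + 1))
noncomputable def eInr : P (i + 1) ⟶ (elem P).X i := (biprod.inr : P (i + 1) ⟶ P i ⊞ P (i + 1))

@[reassoc (attr := simp)] lemma eInl_eFst : eInl P i ≫ eFst P i = 𝟙 _ := biprod.inl_fst
@[reassoc (attr := simp)] lemma eInl_eSnd : eInl P i ≫ eSnd P i = 0 := biprod.inl_snd
@[reassoc (attr := simp)] lemma eInr_eFst : eInr P i ≫ eFst P i = 0 := biprod.inr_fst
@[reassoc (attr := simp)] lemma eInr_eSnd : eInr P i ≫ eSnd P i = 𝟙 _ := biprod.inr_snd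
lemma e_total : eFst P i ≫ eInl P i + eSnd P i ≫ eInr P i = 𝟙 _ := biprod.total

lemma elem_d' : (elem P).d i (i + 1) = eSnd P i ≫ eInl P (i + 1) := elem_d P i

end emaps

variable {X : CochainComplex C ℤ} {P : ℤ → C} (wd : ∀ i, P (i + 1) ⟶ X.X i)

/-- auxiliary: the `inl`-component of a disk map -/
noncomputable def zOf (j k : ℤ) (h : k + 1 = j) : P j ⟶ X.X j :=
  eqToHom (by subst h; rfl) ≫ wd k ≫ X.d k j

lemma zOf_eq (j k k' : ℤ) (h : k + 1 = j) (h' : k' + 1 = j) : zOf wd j k h = zOf wd j k' h' := by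
  obtain rfl : k = k' := by omega
  rfl

/-- the `inl`-component of a disk map -/
noncomputable def zd (j : ℤ) : P j ⟶ X.X j := zOf wd j (j - 1) (by ring)

lemma zd_succ (i : ℤ) : zd wd (i + 1) = wd i ≫ X.d i (i + 1) := by
  unfold zd
  rw [zOf_eq wd (i + 1) (i + 1 - 1) i (by ring) rfl]
  simp [zOf]

lemma zd_d (j : ℤ) : zd wd j ≫ X.d j (j + 1) = 0 := by
  simp [zd, zOf]

/-- the chain map out of an elementary complex determined by its `inr`-components -/
noncomputable def diskMap : elem P ⟶ X where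
  f i := eFst P i ≫ zd wd i + eSnd P i ≫ wd i
  comm' := by
    rintro i j (rfl : i + 1 = j)
    rw [elem_d']
    simp only [Preadditive.add_comp, Preadditive.comp_add, Category.assoc, zd_d, comp_zero,
      zero_add, ← zd_succ, eInl_eFst_assoc, eInl_eSnd_assoc, zero_comp, add_zero]

lemma inr_diskMap (i : ℤ) : eInr P i ≫ (diskMap wd).f i = wd i := by
  change eInr P i ≫ (eFst P i ≫ zd wd i + eSnd P i ≫ wd i) = _
  simp

variable {D : Type u'} [Category.{v'} D] [Preadditive D] [HasBinaryBiproducts D]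

/-- chain maps out of the image of an elementary complex are determined by their
`inr`-components -/
lemma hom_ext_elem (E : C ⥤ D) [E.Additive] {Y : CochainComplex D ℤ}
    (g g' : (E.mapHomologicalComplex (ComplexShape.up ℤ)).obj (elem P) ⟶ Y)
    (h : ∀ i, E.map (eInr P i) ≫ g.f i = E.map (eInr P i) ≫ g'.f i) : g = g' := by
  have h2 : ∀ (g : (E.mapHomologicalComplex (ComplexShape.up ℤ)).obj (elem P) ⟶ Y) (i : ℤ),
      E.map (eInl P (i + 1)) ≫ g.f (i + 1) = (E.map (eInr P i) ≫ g.f i) ≫ Y.d i (i + 1) := by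
    intro g i
    have h1 : eInl P (i + 1) = eInr P i ≫ (elem P).d i (i + 1) := by
      rw [elem_d']
      simp
    calc E.map (eInl P (i + 1)) ≫ g.f (i + 1)
        = E.map (eInr P i ≫ (elem P).d i (i + 1)) ≫ g.f (i + 1) := by rw [h1]
      _ = E.map (eInr P i) ≫
          (((E.mapHomologicalComplex (ComplexShape.up ℤ)).obj (elem P)).d i (i + 1) ≫
            g.f (i + 1)) := by
          rw [Functor.map_comp, Category.assoc]
          rfl
      _ = E.map (eInr P i) ≫ (g.f i ≫ Y.d i (i + 1)) :=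
          congrArg (fun t => E.map (eInr P i) ≫ t) (g.comm i (i + 1)).symm
      _ = _ := (Category.assoc _ _ _).symm
  ext j
  obtain ⟨i, rfl⟩ : ∃ i, j = i + 1 := ⟨j - 1, by ring⟩
  have h3 : 𝟙 (E.obj ((elem P).X (i + 1))) =
      E.map (eFst P (i + 1)) ≫ E.map (eInl P (i + 1)) +
        E.map (eSnd P (i + 1)) ≫ E.map (eInr P (i + 1)) := by
    rw [← Functor.map_comp, ← Functor.map_comp, ← Functor.map_add, e_total,
      CategoryTheory.Functor.map_id]
  have h4 : ∀ g : (E.mapHomologicalComplex (ComplexShape.up ℤ)).obj (elem P) ⟶ Y,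
      g.f (i + 1) = E.map (eFst P (i + 1)) ≫ E.map (eInl P (i + 1)) ≫ g.f (i + 1) +
        E.map (eSnd P (i + 1)) ≫ E.map (eInr P (i + 1)) ≫ g.f (i + 1) := by
    intro g
    have : g.f (i + 1) = 𝟙 (E.obj ((elem P).X (i + 1))) ≫ g.f (i + 1) :=
      (Category.id_comp _).symm
    rw [h3, Preadditive.add_comp, Category.assoc, Category.assoc] at this
    exact this
  rw [h4 g, h4 g', h2 g, h2 g', h i, h (i + 1)]

section DiskE

variable (E : C ⥤ D) [E.Additive] {Y : CochainComplex D ℤ} (we : ∀ i, E.obj (P (i + 1)) ⟶ Y.X i)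

/-- auxiliary: the `inl`-component of a disk map out of `E (elem P)` -/
noncomputable def zOfE (j k : ℤ) (h : k + 1 = j) : E.obj (P j) ⟶ Y.X j :=
  eqToHom (by subst h; rfl) ≫ we k ≫ Y.d k j

lemma zOfE_eq (j k k' : ℤ) (h : k + 1 = j) (h' : k' + 1 = j) :
    zOfE E we j k h = zOfE E we j k' h' := by
  obtain rfl : k = k' := by omega
  rfl

/-- the `inl`-component of a disk map -/
noncomputable def zdE (j : ℤ) : E.obj (P j) ⟶ Y.X j := zOfE E we j (j - 1) (by ring)

lemma zdE_succ (i : ℤ) : zdE E we (i + 1) = we i ≫ Y.d i (i + 1) := by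
  unfold zdE
  rw [zOfE_eq E we (i + 1) (i + 1 - 1) i (by ring) rfl]
  simp [zOfE]

lemma zdE_d (j : ℤ) : zdE E we j ≫ Y.d j (j + 1) = 0 := by
  simp [zdE, zOfE]

lemma diskMapE_comm (i : ℤ) :
    (E.map (eFst P i) ≫ zdE E we i + E.map (eSnd P i) ≫ we i) ≫ Y.d i (i + 1) =
      E.map ((elem P).d i (i + 1)) ≫
        (E.map (eFst P (i + 1)) ≫ zdE E we (i + 1) + E.map (eSnd P (i + 1)) ≫ we (i + 1)) := by
  rw [elem_d', Functor.map_comp]
  have h1 : E.map (eInl P (i + 1)) ≫ E.map (eFst P (i + 1)) = 𝟙 _ := by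
    rw [← Functor.map_comp, eInl_eFst, CategoryTheory.Functor.map_id]
  have h2 : E.map (eInl P (i + 1)) ≫ E.map (eSnd P (i + 1)) = 0 := by
    rw [← Functor.map_comp, eInl_eSnd, Functor.map_zero]
  simp only [Preadditive.add_comp, Preadditive.comp_add, Category.assoc, zdE_d, comp_zero,
    zero_add, ← zdE_succ, reassoc_of% h1, reassoc_of% h2, zero_comp, add_zero]

/-- the chain map out of the image of an elementary complex determined by its
`inr`-components -/
noncomputable def diskMapE : (E.mapHomologicalComplex (ComplexShape.up ℤ)).obj (elem P) ⟶ Y where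
  f i := E.map (eFst P i) ≫ zdE E we i + E.map (eSnd P i) ≫ we i
  comm' := by
    rintro i j (rfl : i + 1 = j)
    exact diskMapE_comm E we i

lemma inr_diskMapE (i : ℤ) : E.map (eInr P i) ≫ (diskMapE E we).f i = we i := by
  change E.map (eInr P i) ≫ (E.map (eFst P i) ≫ zdE E we i + E.map (eSnd P i) ≫ we i) = _
  have h1 : E.map (eInr P i) ≫ E.map (eFst P i) = 0 := by
    rw [← Functor.map_comp, eInr_eFst, Functor.map_zero]
  have h2 : E.map (eInr P i) ≫ E.map (eSnd P i) = 𝟙 _ := by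
    rw [← Functor.map_comp, eInr_eSnd, CategoryTheory.Functor.map_id]
  rw [Preadditive.comp_add, reassoc_of% h1, reassoc_of% h2, zero_comp, zero_add]

end DiskE

/-- the canonical splitting data of an elementary complex -/
noncomputable def canonSplit (Q : ℤ → C) : SplitData (elem Q) where
  Z := Q
  ι := eInl Q
  p := eSnd Q
  σ := eInr Q
  ρ := eFst Q
  ι_ρ := eInl_eFst Q
  σ_p := eInr_eSnd Q
  σ_ρ := eInr_eFst Q
  ι_p := eInl_eSnd Q
  total := e_total Q
  d_eq := elem_d' Q

/-- the image of an elementary complex under an additive functor is elementary -/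
noncomputable def mapElemIso (E : C ⥤ D) [E.Additive] (P : ℤ → C) :
    (E.mapHomologicalComplex (ComplexShape.up ℤ)).obj (elem P) ≅ elem (fun i => E.obj (P i)) :=
  isoOfSplitData (canonSplit (fun i => E.obj (P i))) E P (fun _ => Iso.refl _)

end Disk

section Rel

variable {R : Type u} [Ring R] (K : CochainComplex (ModuleCat.{w} R) ℤ)
  (Pr : ModuleCat.{w} R → Prop)

/-- relative version of the splitting data: `Pr` is a class of objects such that epimorphisms
between `Pr`-objects split, closed under retracts and containing zero objects. -/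
lemma pr_Zc
    (hsec : ∀ {X Y : ModuleCat.{w} R} (g : X ⟶ Y), Pr X → Pr Y → Function.Surjective g.hom →
      ∃ s : Y ⟶ X, s ≫ g = 𝟙 Y)
    (hret : ∀ {X Y : ModuleCat.{w} R} (i : X ⟶ Y) (r : Y ⟶ X), Pr Y → i ≫ r = 𝟙 X → Pr X)
    (hzero : ∀ X : ModuleCat.{w} R, IsZero X → Pr X)
    (hK : K.Acyclic) (hP : ∀ i, Pr (K.X i)) (b : ℤ)
    (hb : ∀ i : ℤ, b < i → IsZero (K.X i)) (i : ℤ) : Pr (Zc K i) := by
  have key : ∀ (n : ℕ) (i : ℤ), b + 1 ≤ i + n → Pr (Zc K i) := by
    intro n
    induction n with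
    | zero =>
      intro i hi
      exact hzero _ (isZero_Zc K i (hb i (by simpa using hi)))
    | succ n ih =>
      intro i hi
      have h1 := ih (i + 1) (by push_cast at hi; omega)
      obtain ⟨s, hs⟩ := hsec (pc K i) (hP i) h1 (pc_surjective K hK i)
      exact hret (ιc K i) (ρc K i s hs) (hP i) (ιc_ρc K i s hs)
  exact key (b + 1 - i).toNat i (by omega)

/-- relative splitting data -/
noncomputable def splitDataRel
    (hsec : ∀ {X Y : ModuleCat.{w} R} (g : X ⟶ Y), Pr X → Pr Y → Function.Surjective g.hom →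
      ∃ s : Y ⟶ X, s ≫ g = 𝟙 Y)
    (hret : ∀ {X Y : ModuleCat.{w} R} (i : X ⟶ Y) (r : Y ⟶ X), Pr Y → i ≫ r = 𝟙 X → Pr X)
    (hzero : ∀ X : ModuleCat.{w} R, IsZero X → Pr X)
    (hK : K.Acyclic) (hP : ∀ i, Pr (K.X i)) (b : ℤ)
    (hb : ∀ i : ℤ, b < i → IsZero (K.X i)) : SplitData K :=
  have hZ : ∀ i, Pr (Zc K i) := pr_Zc K Pr hsec hret hzero hK hP b hb
  have hs : ∀ i, ∃ s : Zc K (i + 1) ⟶ K.X i, s ≫ pc K i = 𝟙 _ := fun i =>
    hsec (pc K i) (hP i) (hZ (i + 1)) (pc_surjective K hK i)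
  { Z := Zc K
    ι := ιc K
    p := pc K
    σ := fun i => (hs i).choose
    ρ := fun i => ρc K i (hs i).choose (hs i).choose_spec
    ι_ρ := fun i => ιc_ρc K i _ _
    σ_p := fun i => (hs i).choose_spec
    σ_ρ := fun i => σ_ρc K i _ _
    ι_p := fun i => ιc_pc K i
    total := fun i => total_c K i _ _
    d_eq := fun i => (pc_ιc K i).symm }

end Rel

section QuasiIso

variable {C : Type u} [Category.{v} C] [Abelian C]

lemma quasiIso_g_of_acyclic_X₁ {S : ShortComplex (CochainComplex C ℤ)} (hS : S.ShortExact)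
    (h : S.X₁.Acyclic) : QuasiIso S.g := by
  rw [quasiIso_iff]
  intro n
  rw [quasiIsoAt_iff_isIso_homologyMap]
  have hz : ∀ m, IsZero (S.X₁.homology m) := fun m =>
    (HomologicalComplex.exactAt_iff_isZero_homology _ _).1 (h m)
  have hm : Mono (HomologicalComplex.homologyMap S.g n) :=
    (hS.homology_exact₂ n).mono_g ((hz n).eq_of_src _ _)
  have he : Epi (HomologicalComplex.homologyMap S.g n) :=
    (hS.homology_exact₃ n (n + 1) (by simp)).epi_f ((hz (n + 1)).eq_of_tgt _ _)
  exact isIso_of_mono_of_epi _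

lemma acyclic_of_iso {K K' : CochainComplex C ℤ} (e : K ≅ K') (h : K.Acyclic) : K'.Acyclic := by
  intro i
  rw [HomologicalComplex.exactAt_iff_isZero_homology]
  exact IsZero.of_iso ((HomologicalComplex.exactAt_iff_isZero_homology _ _).1 (h i))
    ((HomologicalComplex.homologyFunctor C (ComplexShape.up ℤ) i).mapIso e.symm)

lemma map_elem_acyclic {C' : Type u'} [Category.{v'} C'] [Preadditive C'] [HasBinaryBiproducts C']
    (E : C' ⥤ C) [E.Additive] (P : ℤ → C') :
    ((E.mapHomologicalComplex (ComplexShape.up ℤ)).obj (elem P)).Acyclic :=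
  acyclic_of_iso (mapElemIso E P).symm (elem_acyclic _)

lemma quasiIso_f_of_acyclic_X₃ {S : ShortComplex (CochainComplex C ℤ)} (hS : S.ShortExact)
    (h : S.X₃.Acyclic) : QuasiIso S.f := by
  rw [quasiIso_iff]
  intro n
  rw [quasiIsoAt_iff_isIso_homologyMap]
  have hz : ∀ m, IsZero (S.X₃.homology m) := fun m =>
    (HomologicalComplex.exactAt_iff_isZero_homology _ _).1 (h m)
  have hm : Mono (HomologicalComplex.homologyMap S.f n) :=
    (hS.homology_exact₁ (n - 1) n (by simp)).mono_g ((hz (n - 1)).eq_of_src _ _)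
  have he : Epi (HomologicalComplex.homologyMap S.f n) :=
    (hS.homology_exact₂ n).epi_f ((hz n).eq_of_tgt _ _)
  exact isIso_of_mono_of_epi _

end QuasiIso

end Groth.Agent.Helper3.SplitCx
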