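import Mathlib
import Groth.Agent.Lib.Helper3.RedFun
import Groth.Agent.Lib.Helper3.SplitCxRel

/-!
# Lifting complexes along a reduction functor: the termwise epi case
-/

namespace Groth.Agent.Helper3.CxLift

open CategoryTheory Limits Groth.Agent.Helper3.RedFun Groth.Agent.Helper3.SplitCx

universe v u

section TwoSplittings

variable {C : Type u} [Category.{v} C] [Preadditive C]

/-- two split cokernels of maps with the same "image" are canonically isomorphic -/
lemma iso_of_two_splittings {X₁ X₁' X₂ X₃ X₃' : C} (f : X₁ ⟶ X₂) (g : X₂ ⟶ X₃) (r : X₂ ⟶ X₁)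
    (s : X₃ ⟶ X₂) (f' : X₁' ⟶ X₂) (g' : X₂ ⟶ X₃') (r' : X₂ ⟶ X₁') (s' : X₃' ⟶ X₂)
    (h1 : r ≫ f + g ≫ s = 𝟙 _) (h2 : s ≫ g = 𝟙 _)
    (h1' : r' ≫ f' + g' ≫ s' = 𝟙 _) (h2' : s' ≫ g' = 𝟙 _)
    (h3 : f ≫ g' = 0) (h3' : f' ≫ g = 0) :
    ∃ e : X₃ ≅ X₃', g ≫ e.hom = g' := by
  have hgs : g ≫ s = 𝟙 _ - r ≫ f := by rw [← h1, add_sub_cancel_left]
  have hgs' : g' ≫ s' = 𝟙 _ - r' ≫ f' := by rw [← h1', add_sub_cancel_left]
  refine ⟨⟨s ≫ g', s' ≫ g, ?_, ?_⟩, ?_⟩
  · rw [Category.assoc, reassoc_of% hgs', Preadditive.sub_comp, Preadditive.comp_sub,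
      Category.id_comp, h2, Category.assoc, h3', comp_zero, comp_zero, sub_zero]
  · rw [Category.assoc, reassoc_of% hgs, Preadditive.sub_comp, Preadditive.comp_sub,
      Category.id_comp, h2', Category.assoc, h3, comp_zero, comp_zero, sub_zero]
  · change g ≫ s ≫ g' = g'
    rw [reassoc_of% hgs, Preadditive.sub_comp, Category.id_comp, Category.assoc, h3, comp_zero,
      sub_zero]

end TwoSplittings

variable {A : Type u} [CommRing A] {I : Ideal A} (D : RedData I)

/-- the reduction functor on complexes -/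
abbrev TC : CochainComplex (ModuleCat.{u} A) ℤ ⥤ CochainComplex (ModuleCat.{u} A) ℤ :=
  D.T.mapHomologicalComplex (ComplexShape.up ℤ)

theorem exists_lift_of_epi (hI : IsNilpotent I) (M N' : CochainComplex (ModuleCat.{u} A) ℤ)
    (hMf : ∀ i, Module.Finite A (M.X i)) (hMp : ∀ i, Module.Projective A (M.X i))
    (b : ℤ) (hb : ∀ i, b < i → IsZero (M.X i))
    (hN : ∀ i, IsTP D (N'.X i))
    (ψ : (D.T.mapHomologicalComplex (ComplexShape.up ℤ)).obj M ⟶ N') [QuasiIso ψ]
    (hψ : ∀ i, Epi (ψ.f i)) :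
    ∃ (L : CochainComplex (ModuleCat.{u} A) ℤ) (c : M ⟶ L)
      (e : (D.T.mapHomologicalComplex (ComplexShape.up ℤ)).obj L ≅ N'),
      (∀ i, ∃ s : L.X i ⟶ M.X i, s ≫ c.f i = 𝟙 _) ∧ QuasiIso c ∧
      (D.T.mapHomologicalComplex (ComplexShape.up ℤ)).map c ≫ e.hom = ψ := by
  have hMpc : ∀ i, Projective (M.X i) := fun i =>
    ModuleCat.projective_of_categoryTheory_projective _
  -- Step 1: the kernel of ψ
  have hψe : Epi ψ := HomologicalComplex.epi_of_epi_f ψ hψ
  let S₀ : ShortComplex (CochainComplex (ModuleCat.{u} A) ℤ) :=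
    ShortComplex.mk (kernel.ι ψ) ψ (kernel.condition ψ)
  have hS₀ : S₀.ShortExact :=
    { exact := ShortComplex.exact_kernel ψ
      mono_f := inferInstanceAs (Mono (kernel.ι ψ))
      epi_g := hψe }
  have hK₀ac : (kernel ψ).Acyclic := hS₀.acyclic_X₁ (inferInstanceAs (QuasiIso ψ))
  have hS₀n : ∀ n : ℤ, (S₀.map (HomologicalComplex.eval _ (ComplexShape.up ℤ) n)).ShortExact :=
    fun n => hS₀.map_of_exact _
  -- Step 2: splittings of the kernel sequence
  have hTM : ∀ n, IsTP D (((TC D).obj M).X n) := by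
    intro n
    have := hMf n
    have := hMp n
    exact isTP_T D (M.X n)
  have hspl₀ : ∀ n : ℤ, ∃ (r : ((TC D).obj M).X n ⟶ (kernel ψ).X n) (s : N'.X n ⟶ ((TC D).obj M).X n),
      (kernel.ι ψ).f n ≫ r = 𝟙 _ ∧ s ≫ ψ.f n = 𝟙 _ ∧
        r ≫ (kernel.ι ψ).f n + ψ.f n ≫ s = 𝟙 _ := by
    intro n
    haveI : Epi (ψ.f n) := hψ n
    obtain ⟨s, hs⟩ := RedFun.exists_section D (X := ((TC D).obj M).X n) (hN n)
      (killed_T D (M.X n)) (ψ.f n)
    let spl := ShortComplex.Splitting.ofExactOfSection _ (hS₀n n).exact s hs (hS₀n n).mono_f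
    exact ⟨spl.r, spl.s, spl.f_r, spl.s_g, spl.id⟩
  choose r₀ s₀ hr₀ hs₀ hid₀ using hspl₀
  have hK₀TP : ∀ n, IsTP D ((kernel ψ).X n) := fun n =>
    isTP_of_retract D (hTM n) ((kernel.ι ψ).f n) (r₀ n) (hr₀ n)
  have hK₀b : ∀ n, b < n → IsZero ((kernel ψ).X n) := by
    intro n hn
    have h0 : IsZero (((TC D).obj M).X n) := Functor.map_isZero D.T (hb n hn)
    have : Mono ((kernel.ι ψ).f n) := (hS₀n n).mono_f
    rw [IsZero.iff_id_eq_zero, ← cancel_mono ((kernel.ι ψ).f n)]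
    exact h0.eq_of_tgt _ _
  -- Step 3: split data for the kernel
  have hsec : ∀ {X Y : ModuleCat.{u} A} (g : X ⟶ Y), IsTP D X → IsTP D Y →
      Function.Surjective g.hom → ∃ s : Y ⟶ X, s ≫ g = 𝟙 Y := by
    intro X Y g hX hY hg
    have : Epi g := (ModuleCat.epi_iff_surjective _).2 hg
    exact RedFun.exists_section D hY (killed_of_isTP D hX) g
  have hret : ∀ {X Y : ModuleCat.{u} A} (i : X ⟶ Y) (r : Y ⟶ X), IsTP D Y → i ≫ r = 𝟙 X →
      IsTP D X := fun i r hY h => isTP_of_retract D hY i r h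
  have hzero : ∀ X : ModuleCat.{u} A, IsZero X → IsTP D X := fun X hX => isTP_of_isZero D hX
  let S := splitDataRel (kernel ψ) (IsTP D) hsec hret hzero hK₀ac hK₀TP b hK₀b
  have hZ : ∀ i, IsTP D (Zc (kernel ψ) i) :=
    pr_Zc (kernel ψ) (IsTP D) hsec hret hzero hK₀ac hK₀TP b hK₀b
  have hex : ∀ i, ∃ P : ModuleCat.{u} A, Module.Finite A P ∧ Module.Projective A P ∧
      Nonempty (D.T.obj P ≅ Zc (kernel ψ) i) := fun i => RedFun.exists_lift D hI (hZ i)
  choose P' hP'f hP'p hα using hex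
  have hP'c : ∀ i, Projective (P' i) := fun i =>
    ModuleCat.projective_of_categoryTheory_projective _
  let κ : (TC D).obj (elem P') ≅ kernel ψ :=
    isoOfSplitData S D.T P' (fun i => (hα i).some)
  let g : (TC D).obj (elem P') ⟶ (TC D).obj M := κ.hom ≫ kernel.ι ψ
  have hgf : ∀ n, g.f n = κ.hom.f n ≫ (kernel.ι ψ).f n := fun n => rfl
  have hgψ : ∀ n, g.f n ≫ ψ.f n = 0 := by
    intro n
    rw [hgf, Category.assoc, ← HomologicalComplex.comp_f, kernel.condition]
    simp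
  -- Step 4: lift g to a chain map
  have hw : ∀ i, ∃ w : P' (i + 1) ⟶ M.X i, D.T.map w = D.T.map (eInr P' i) ≫ g.f i :=
    fun i => exists_lift_hom D _
  choose w hw using hw
  let j : elem P' ⟶ M := diskMap w
  have hj : (TC D).map j = g := by
    apply hom_ext_elem D.T
    intro i
    rw [← hw i, ← inr_diskMap w i, Functor.map_comp]
    rfl
  have hjf : ∀ n, ((TC D).map j).f n = κ.hom.f n ≫ (kernel.ι ψ).f n := fun n => by rw [hj, hgf]
  -- Step 5: j is termwise split mono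
  have hjr : ∀ i, ∃ r : M.X i ⟶ (elem P').X i, j.f i ≫ r = 𝟙 _ := by
    intro i
    have h2 : ((TC D).map j).f i ≫ (r₀ i ≫ κ.inv.f i) = 𝟙 _ := by
      rw [hjf, Category.assoc, reassoc_of% (hr₀ i)]
      rw [← HomologicalComplex.comp_f, κ.hom_inv_id]
      rfl
    exact exists_retraction D hI (j.f i) _ h2
  have hjm : Mono j := HomologicalComplex.mono_of_mono_f j (fun i => by
    obtain ⟨r, hr⟩ := hjr i
    exact mono_of_mono_fac hr)
  -- Step 6: the cokernel
  let S₁ : ShortComplex (CochainComplex (ModuleCat.{u} A) ℤ) :=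
    ShortComplex.mk j (cokernel.π j) (cokernel.condition j)
  have hS₁ : S₁.ShortExact :=
    { exact := ShortComplex.exact_cokernel j
      mono_f := hjm
      epi_g := inferInstanceAs (Epi (cokernel.π j)) }
  have hS₁n : ∀ n : ℤ, (S₁.map (HomologicalComplex.eval _ (ComplexShape.up ℤ) n)).ShortExact :=
    fun n => hS₁.map_of_exact _
  have hcq : QuasiIso (cokernel.π j) := quasiIso_g_of_acyclic_X₁ hS₁ (elem_acyclic P')
  have hspl₁ : ∀ n : ℤ, ∃ (r : M.X n ⟶ (elem P').X n) (s : (cokernel j).X n ⟶ M.X n),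
      j.f n ≫ r = 𝟙 _ ∧ s ≫ (cokernel.π j).f n = 𝟙 _ ∧
        r ≫ j.f n + (cokernel.π j).f n ≫ s = 𝟙 _ := by
    intro n
    obtain ⟨r, hr⟩ := hjr n
    let spl := ShortComplex.Splitting.ofExactOfRetraction _ (hS₁n n).exact r hr (hS₁n n).epi_g
    exact ⟨spl.r, spl.s, spl.f_r, spl.s_g, spl.id⟩
  choose r₁ s₁ hr₁ hs₁ hid₁ using hspl₁
  have hjc : ∀ n, j.f n ≫ (cokernel.π j).f n = 0 := by
    intro n
    rw [← HomologicalComplex.comp_f, cokernel.condition]
    rfl
  -- Step 7: the isomorphisms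
  have he : ∀ n : ℤ, ∃ e : ((TC D).obj (cokernel j)).X n ≅ N'.X n,
      ((TC D).map (cokernel.π j)).f n ≫ e.hom = ψ.f n := by
    intro n
    refine iso_of_two_splittings (((TC D).map j).f n) (((TC D).map (cokernel.π j)).f n)
      (D.T.map (r₁ n)) (D.T.map (s₁ n))
      ((kernel.ι ψ).f n) (ψ.f n) (r₀ n) (s₀ n) ?_ ?_ (hid₀ n) (hs₀ n) ?_ ?_
    · have := congrArg (fun t => D.T.map t) (hid₁ n)
      simp only [Functor.map_add, Functor.map_comp, CategoryTheory.Functor.map_id] at this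
      exact this
    · have := congrArg (fun t => D.T.map t) (hs₁ n)
      simp only [Functor.map_comp, CategoryTheory.Functor.map_id] at this
      exact this
    · rw [hj]
      exact hgψ n
    · have h2 : (kernel.ι ψ).f n = κ.inv.f n ≫ ((TC D).map j).f n := by
        rw [hjf, ← Category.assoc, ← HomologicalComplex.comp_f, κ.inv_hom_id,
          HomologicalComplex.id_f, Category.id_comp]
      rw [h2, Category.assoc]
      have h3 : ((TC D).map j).f n ≫ ((TC D).map (cokernel.π j)).f n = 0 := by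
        have := congrArg (fun t => D.T.map t) (hjc n)
        simp only [Functor.map_comp, Functor.map_zero] at this
        exact this
      rw [h3, comp_zero]
  choose e he using he
  have hTc : ∀ n, Epi (((TC D).map (cokernel.π j)).f n) := by
    intro n
    have h2 : D.T.map (s₁ n) ≫ ((TC D).map (cokernel.π j)).f n = 𝟙 _ := by
      have := congrArg (fun t => D.T.map t) (hs₁ n)
      simp only [Functor.map_comp, CategoryTheory.Functor.map_id] at this
      exact this
    haveI : IsSplitEpi (((TC D).map (cokernel.π j)).f n) := IsSplitEpi.mk' ⟨D.T.map (s₁ n), h2⟩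
    infer_instance
  refine ⟨cokernel j, cokernel.π j,
    HomologicalComplex.Hom.isoOfComponents e ?_, ?_, hcq, ?_⟩
  · rintro n m (rfl : n + 1 = m)
    have := hTc n
    rw [← cancel_epi (((TC D).map (cokernel.π j)).f n)]
    rw [reassoc_of% (he n), ψ.comm n (n + 1), ← Category.assoc,
      ((TC D).map (cokernel.π j)).comm n (n + 1), Category.assoc, he (n + 1)]
  · intro n
    exact ⟨s₁ n, hs₁ n⟩
  · refine HomologicalComplex.hom_ext _ _ (fun n => ?_)
    rw [HomologicalComplex.comp_f]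
    exact he n

end Groth.Agent.Helper3.CxLift
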