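import Groth.Prelude.Def_CohCx
import Mathlib

/-!
# Towers of three-term complexes of abelian groups: cohomology of the termwise limit

Elementary (element-level) statement and proof of: if `lim¹` of the terms in degrees `m-2`,
`m-1` and of `H^{m-1}` vanish and `H^m(A_{n+1}) → H^m(A_n)` is bijective for `n ≥ n₀`, then
`H^m(lim A_n) → H^m(A_{n₀})` is bijective.
-/

universe u

namespace Groth.Agent.Helper3.CxLim

section Trans

variable {A : ℕ → Type u} [∀ n, AddCommGroup (A n)] (t : ∀ n, A (n + 1) →+ A n)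

/-- composite transition map `A b → A a` for `a ≤ b` -/
noncomputable def trans {a b : ℕ} (h : a ≤ b) : A b →+ A a :=
  Nat.leRecOn (C := fun k => A k →+ A a) h (fun {k} f => f.comp (t k)) (AddMonoidHom.id _)

lemma trans_self (a : ℕ) (h : a ≤ a) (x : A a) : trans t h x = x := by
  unfold trans
  rw [Nat.leRecOn_self]
  rfl

lemma trans_succ {a b : ℕ} (h : a ≤ b) (h' : a ≤ b + 1) (x : A (b + 1)) :
    trans t h' x = trans t h (t b x) := by
  unfold trans
  rw [Nat.leRecOn_succ h]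
  rfl

lemma t_trans {a b : ℕ} (h : a + 1 ≤ b) (h' : a ≤ b) (x : A b) :
    t a (trans t h x) = trans t h' x := by
  induction b, h using Nat.le_induction with
  | base =>
    rw [trans_self, trans_succ t (le_refl a), trans_self]
  | succ b hb ih =>
    rw [trans_succ t hb, trans_succ t (Nat.le_of_succ_le hb)]
    exact ih _ _

/-- a family compatible above `n₀` gives a compatible family everywhere -/
lemma exists_compatible (n₀ : ℕ) (c : ∀ n, A n) (hc : ∀ n, n₀ ≤ n → t n (c (n + 1)) = c n) :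
    ∃ y : ∀ n, A n, (∀ n, t n (y (n + 1)) = y n) ∧ ∀ n, n₀ ≤ n → y n = c n := by
  have key : ∀ (a b : ℕ) (h : a ≤ b), n₀ ≤ b → ∀ b' (hb : b ≤ b'),
      trans t (h.trans hb) (c b') = trans t h (c b) := by
    intro a b h hb b' hbb'
    induction b', hbb' using Nat.le_induction with
    | base => rfl
    | succ b' hb' ih =>
      rw [trans_succ t (h.trans hb'), hc b' (hb.trans hb')]
      exact ih
  refine ⟨fun n => trans t (Nat.le_add_right n n₀) (c (n + n₀)), ?_, ?_⟩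
  · intro n
    change t n (trans t (Nat.le_add_right (n + 1) n₀) (c (n + 1 + n₀))) = _
    rw [t_trans t _ ((Nat.le_succ n).trans (Nat.le_add_right (n + 1) n₀))]
    have h1 : n + n₀ ≤ n + 1 + n₀ := by omega
    exact key n (n + n₀) (Nat.le_add_right n n₀) (Nat.le_add_left n₀ n) (n + 1 + n₀) h1
  · intro n hn
    change trans t (Nat.le_add_right n n₀) (c (n + n₀)) = c n
    have := key n n (le_refl n) hn (n + n₀) (Nat.le_add_right n n₀)
    rw [this, trans_self]

end Trans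

section Main

variable {P Q R S : ℕ → Type u} [∀ n, AddCommGroup (P n)] [∀ n, AddCommGroup (Q n)]
  [∀ n, AddCommGroup (R n)] [∀ n, AddCommGroup (S n)]
  (tP : ∀ n, P (n + 1) →+ P n) (tQ : ∀ n, Q (n + 1) →+ Q n) (tR : ∀ n, R (n + 1) →+ R n)
  (dP : ∀ n, P n →+ Q n) (dQ : ∀ n, Q n →+ R n) (dR : ∀ n, R n →+ S n)
  {Q' R' S' : Type u} [AddCommGroup Q'] [AddCommGroup R'] [AddCommGroup S']
  (dQ' : Q' →+ R') (dR' : R' →+ S')
  (pQ : ∀ n, Q' →+ Q n) (pR : ∀ n, R' →+ R n) (pS : ∀ n, S' →+ S n)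

include tP tQ tR dP dQ dR dQ' pQ pR in
/-- injectivity of `H(lim A) → H(A_{n₀})` -/
theorem injective_of_tower (n₀ : ℕ)
    (hPQ : ∀ n x, dQ n (dP n x) = 0)
    (cP : ∀ n x, dP n (tP n x) = tQ n (dP (n + 1) x))
    (cQ : ∀ n x, dQ n (tQ n x) = tR n (dQ (n + 1) x))
    (hpR : ∀ n x, tR n (pR (n + 1) x) = pR n x)
    (cQ' : ∀ n x, dQ n (pQ n x) = pR n (dQ' x)) (cR' : ∀ n x, dR n (pR n x) = pS n (dR' x))
    (exQ : ∀ x : ∀ n, Q n, (∀ n, tQ n (x (n + 1)) = x n) → ∃ y, ∀ n, pQ n y = x n)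
    (unR : ∀ y : R', (∀ n, pR n y = 0) → y = 0)
    (hP1 : CohCx.LimOneIsZero P tP)
    (hH1 : ∀ z : ∀ n, Q n, (∀ n, dQ n (z n) = 0) → ∃ (w : ∀ n, Q n) (p : ∀ n, P n),
      (∀ n, dQ n (w n) = 0) ∧ ∀ n, z n = w n - tQ n (w (n + 1)) + dP n (p n))
    (hcI : ∀ n, n₀ ≤ n → ∀ r : R (n + 1), dR (n + 1) r = 0 → (∃ q, dQ n q = tR n r) →
      ∃ q', dQ (n + 1) q' = r)
    (r : R') (hr : dR' r = 0) (h0 : ∃ q, dQ n₀ q = pR n₀ r) : ∃ q', dQ' q' = r := by
  -- all components of `r` are boundaries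
  have hup : ∀ n, n₀ ≤ n → ∃ q, dQ n q = pR n r := by
    intro n hn
    induction n, hn using Nat.le_induction with
    | base => exact h0
    | succ n hn ih =>
      obtain ⟨q, hq⟩ := ih
      refine hcI n hn (pR (n + 1) r) ?_ ⟨q, ?_⟩
      · rw [cR', hr, map_zero]
      · rw [hq, hpR]
  have hdown : ∀ b, (∃ q, dQ b q = pR b r) → ∀ a, a ≤ b → ∃ q, dQ a q = pR a r := by
    intro b
    induction b with
    | zero =>
      intro h a ha
      obtain rfl : a = 0 := Nat.le_zero.1 ha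
      exact h
    | succ b ih =>
      intro h a ha
      rcases Nat.lt_or_ge b a with hlt | hge
      · obtain rfl : a = b + 1 := le_antisymm ha hlt
        exact h
      · refine ih ?_ a hge
        obtain ⟨q, hq⟩ := h
        exact ⟨tQ b q, by rw [cQ, hq, hpR]⟩
  have hall : ∀ n, ∃ q, dQ n q = pR n r := by
    intro n
    rcases le_total n₀ n with h | h
    · exact hup n h
    · exact hdown n₀ h0 n h
  choose q hq using hall
  -- the defect of compatibility
  have hz : ∀ n, dQ n (tQ n (q (n + 1)) - q n) = 0 := by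
    intro n
    rw [map_sub, cQ, hq, hq, hpR, sub_self]
  obtain ⟨w, p, hw, hzwp⟩ := hH1 (fun n => tQ n (q (n + 1)) - q n) hz
  obtain ⟨p', hp'⟩ := hP1 p
  have hp'' : ∀ n, p' n - tP n (p' (n + 1)) = p n := fun n => congrFun hp' n
  obtain ⟨y, hy⟩ := exQ (fun n => q n + w n + dP n (p' n)) (by
    intro n
    have h1 := hzwp n
    have h2 := hp'' n
    simp only [map_add]
    rw [← cP]
    have h3 : tQ n (q (n + 1)) = q n + (w n - tQ n (w (n + 1)) + dP n (p n)) := by
      rw [← h1]; abel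
    rw [h3, ← h2, map_sub]
    abel)
  refine ⟨y, ?_⟩
  have : dQ' y - r = 0 := by
    apply unR
    intro n
    rw [map_sub, ← cQ', hy, map_add, map_add, hq, hw]
    rw [hPQ]
    abel
  exact sub_eq_zero.1 this

variable (tS : ∀ n, S (n + 1) →+ S n)

include tQ tR tS dQ dR dR' pR pS in
/-- surjectivity of `H(lim A) → H(A_{n₀})` -/
theorem surjective_of_tower (n₀ : ℕ)
    (hQR : ∀ n x, dR n (dQ n x) = 0)
    (cQ : ∀ n x, dQ n (tQ n x) = tR n (dQ (n + 1) x))
    (cR : ∀ n x, dR n (tR n x) = tS n (dR (n + 1) x))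
    (cR' : ∀ n x, dR n (pR n x) = pS n (dR' x))
    (exR : ∀ x : ∀ n, R n, (∀ n, tR n (x (n + 1)) = x n) → ∃ y, ∀ n, pR n y = x n)
    (unS : ∀ y : S', (∀ n, pS n y = 0) → y = 0)
    (hQ1 : CohCx.LimOneIsZero Q tQ)
    (hcS : ∀ n, n₀ ≤ n → ∀ r : R n, dR n r = 0 →
      ∃ (r' : R (n + 1)) (q : Q n), dR (n + 1) r' = 0 ∧ tR n r' = r + dQ n q)
    (ρ : ∀ n, R n) (hρ : ∀ n, dR n (ρ n) = 0) :
    ∃ (r' : R') (q : Q n₀), dR' r' = 0 ∧ pR n₀ r' = ρ n₀ + dQ n₀ q := by
  choose lift corr hl using hcS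
  let c : ∀ n, {x : R n // dR n x = 0} := fun n => Nat.rec (motive := fun n => {x : R n // dR n x = 0})
    ⟨ρ 0, hρ 0⟩
    (fun n cn => if h : n₀ ≤ n then ⟨lift n h cn.1 cn.2, (hl n h cn.1 cn.2).1⟩
      else ⟨ρ (n + 1), hρ (n + 1)⟩) n
  have hc0 : (c n₀).1 = ρ n₀ := by
    cases n₀ with
    | zero => rfl
    | succ j =>
      change (if h : j + 1 ≤ j then _ else _ : {x : R (j + 1) // dR (j + 1) x = 0}).1 = _
      rw [dif_neg (Nat.not_succ_le_self j)]
  have hcs : ∀ n (h : n₀ ≤ n), (c (n + 1)).1 = lift n h (c n).1 (c n).2 := by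
    intro n h
    change (if h : n₀ ≤ n then _ else _ : {x : R (n + 1) // dR (n + 1) x = 0}).1 = _
    rw [dif_pos h]
  let e : ∀ n, Q n := fun n => if h : n₀ ≤ n then corr n h (c n).1 (c n).2 else 0
  have he : ∀ n, n₀ ≤ n → tR n (c (n + 1)).1 = (c n).1 + dQ n (e n) := by
    intro n h
    rw [hcs n h, (hl n h _ _).2]
    change _ = _ + dQ n (if h : n₀ ≤ n then corr n h (c n).1 (c n).2 else 0)
    rw [dif_pos h]
  obtain ⟨x, hx⟩ := hQ1 e
  have hx' : ∀ n, x n - tQ n (x (n + 1)) = e n := fun n => congrFun hx n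
  have hc' : ∀ n, n₀ ≤ n →
      tR n ((c (n + 1)).1 + dQ (n + 1) (x (n + 1))) = (c n).1 + dQ n (x n) := by
    intro n h
    rw [map_add, he n h, ← cQ, ← hx' n, map_sub]
    abel
  obtain ⟨y, hy1, hy2⟩ := exists_compatible tR n₀ (fun n => (c n).1 + dQ n (x n)) hc'
  have hcyc_up : ∀ n, n₀ ≤ n → dR n (y n) = 0 := by
    intro n h
    rw [hy2 n h, map_add, (c n).2, hQR, add_zero]
  have hcyc_down : ∀ b, dR b (y b) = 0 → ∀ a, a ≤ b → dR a (y a) = 0 := by
    intro b
    induction b with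
    | zero =>
      intro h a ha
      obtain rfl : a = 0 := Nat.le_zero.1 ha
      exact h
    | succ b ih =>
      intro h a ha
      rcases Nat.lt_or_ge b a with hlt | hge
      · obtain rfl : a = b + 1 := le_antisymm ha hlt
        exact h
      · refine ih ?_ a hge
        rw [← hy1 b, cR, h, map_zero]
  have hcyc : ∀ n, dR n (y n) = 0 := by
    intro n
    rcases le_total n₀ n with h | h
    · exact hcyc_up n h
    · exact hcyc_down n₀ (hcyc_up n₀ le_rfl) n h
  obtain ⟨r', hr'⟩ := exR y hy1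
  refine ⟨r', x n₀, ?_, ?_⟩
  · apply unS
    intro n
    rw [← cR', hr', hcyc]
  · rw [hr', hy2 n₀ le_rfl, hc0]

end Main

end Groth.Agent.Helper3.CxLim
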