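import Groth.Prelude.Def_CohCx
import Mathlib

/-!
# Element-level description of the homology of complexes of abelian groups
-/

universe u

open CategoryTheory Limits

namespace Groth.Agent.Helper3.CxLim

section SC

variable (S : ShortComplex AddCommGrpCat.{u})

/-- the class of a cycle -/
noncomputable def scCls : AddMonoidHom.ker S.g.hom →+ S.homology :=
  (S.homologyπ).hom.comp (S.abCyclesIso.inv).hom

lemma scCls_surjective : Function.Surjective (scCls S) := by
  have h1 : Function.Surjective S.homologyπ := by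
    rw [← AddCommGrpCat.epi_iff_surjective]; infer_instance
  have h2 : Function.Surjective S.abCyclesIso.inv := by
    rw [← AddCommGrpCat.epi_iff_surjective]; infer_instance
  exact h1.comp h2

lemma scCls_eq_zero_iff (z : AddMonoidHom.ker S.g.hom) :
    scCls S z = 0 ↔ ∃ y : S.X₁, S.f y = z.1 := by
  -- exactness of `X₁ ⟶ cycles ⟶ homology`
  have hex : (ShortComplex.mk S.toCycles S.homologyπ (by simp)).Exact :=
    ShortComplex.exact_of_g_is_cokernel _ S.homologyIsCokernel
  rw [ShortComplex.ab_exact_iff] at hex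
  constructor
  · intro h
    obtain ⟨y, hy⟩ := hex (S.abCyclesIso.inv z) h
    refine ⟨y, ?_⟩
    have h1 := congrArg S.iCycles hy
    rw [S.abCyclesIso_inv_apply_iCycles] at h1
    rw [← h1]
    change _ = (S.toCycles ≫ S.iCycles) y
    rw [S.toCycles_i]
  · rintro ⟨y, hy⟩
    have h1 : S.toCycles y = S.abCyclesIso.inv z := by
      apply (AddCommGrpCat.mono_iff_injective S.iCycles).1 inferInstance
      rw [S.abCyclesIso_inv_apply_iCycles, ← hy]
      change (S.toCycles ≫ S.iCycles) y = _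
      rw [S.toCycles_i]
    change S.homologyπ (S.abCyclesIso.inv z) = 0
    rw [← h1]
    change (S.toCycles ≫ S.homologyπ) y = 0
    rw [S.toCycles_comp_homologyπ]
    rfl

variable {S} in
lemma homologyMap_scCls {S' : ShortComplex AddCommGrpCat.{u}} (φ : S ⟶ S')
    (z : AddMonoidHom.ker S.g.hom) (hz : φ.τ₂ z.1 ∈ AddMonoidHom.ker S'.g.hom) :
    ShortComplex.homologyMap φ (scCls S z) = scCls S' ⟨φ.τ₂ z.1, hz⟩ := by
  change (S.homologyπ ≫ ShortComplex.homologyMap φ) (S.abCyclesIso.inv z) = _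
  rw [ShortComplex.homologyπ_naturality]
  change S'.homologyπ (ShortComplex.cyclesMap φ (S.abCyclesIso.inv z)) =
    S'.homologyπ (S'.abCyclesIso.inv _)
  congr 1
  apply (AddCommGrpCat.mono_iff_injective S'.iCycles).1 inferInstance
  rw [S'.abCyclesIso_inv_apply_iCycles]
  change (ShortComplex.cyclesMap φ ≫ S'.iCycles) _ = _
  rw [ShortComplex.cyclesMap_i]
  change φ.τ₂ (S.iCycles (S.abCyclesIso.inv z)) = _
  rw [S.abCyclesIso_inv_apply_iCycles]

end SC

section HC

variable (K : CochainComplex AddCommGrpCat.{u} ℤ) (j j' : ℤ) (hj : j + 1 = j')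

include hj in
lemma sc_g_eq_zero_iff (x : K.X j) : (K.sc j).g.hom x = 0 ↔ K.d j j' x = 0 := by
  have h : (ComplexShape.up ℤ).next j = j' := by rw [CochainComplex.next]; exact hj
  change K.d j ((ComplexShape.up ℤ).next j) x = 0 ↔ _
  generalize (ComplexShape.up ℤ).next j = k at h
  subst h
  rfl

lemma sc_f_exists_iff (i : ℤ) (hi : i + 1 = j) (x : K.X j) :
    (∃ y : (K.sc j).X₁, (K.sc j).f y = x) ↔ ∃ y : K.X i, K.d i j y = x := by
  have h : (ComplexShape.up ℤ).prev j = i := by rw [CochainComplex.prev]; omega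
  change (∃ y : K.X ((ComplexShape.up ℤ).prev j), K.d ((ComplexShape.up ℤ).prev j) j y = x) ↔ _
  generalize (ComplexShape.up ℤ).prev j = k at h
  subst h
  rfl

/-- the class of a cycle in degree `j` -/
noncomputable def cls (x : K.X j) (hx : K.d j j' x = 0) : K.homology j :=
  scCls (K.sc j) ⟨x, (sc_g_eq_zero_iff K j j' hj x).2 hx⟩

lemma cls_surjective (h : K.homology j) : ∃ (x : K.X j) (hx : K.d j j' x = 0),
    cls K j j' hj x hx = h := by
  obtain ⟨⟨x, hx⟩, rfl⟩ := scCls_surjective (K.sc j) h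
  exact ⟨x, (sc_g_eq_zero_iff K j j' hj x).1 hx, rfl⟩

lemma cls_eq_zero_iff (i : ℤ) (hi : i + 1 = j) (x : K.X j) (hx : K.d j j' x = 0) :
    cls K j j' hj x hx = 0 ↔ ∃ y : K.X i, K.d i j y = x :=
  (scCls_eq_zero_iff (K.sc j) ⟨x, (sc_g_eq_zero_iff K j j' hj x).2 hx⟩).trans
    (sc_f_exists_iff K j i hi x)

lemma cls_add (x y : K.X j) (hx : K.d j j' x = 0) (hy : K.d j j' y = 0) :
    cls K j j' hj (x + y) (by rw [map_add, hx, hy, add_zero]) =
      cls K j j' hj x hx + cls K j j' hj y hy :=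
  map_add (scCls (K.sc j))
    (⟨x, (sc_g_eq_zero_iff K j j' hj x).2 hx⟩ : AddMonoidHom.ker (K.sc j).g.hom)
    ⟨y, (sc_g_eq_zero_iff K j j' hj y).2 hy⟩

lemma cls_sub (x y : K.X j) (hx : K.d j j' x = 0) (hy : K.d j j' y = 0) :
    cls K j j' hj (x - y) (by rw [map_sub, hx, hy, sub_zero]) =
      cls K j j' hj x hx - cls K j j' hj y hy :=
  map_sub (scCls (K.sc j))
    (⟨x, (sc_g_eq_zero_iff K j j' hj x).2 hx⟩ : AddMonoidHom.ker (K.sc j).g.hom)
    ⟨y, (sc_g_eq_zero_iff K j j' hj y).2 hy⟩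

lemma cls_eq_iff (i : ℤ) (hi : i + 1 = j) (x y : K.X j) (hx : K.d j j' x = 0)
    (hy : K.d j j' y = 0) :
    cls K j j' hj x hx = cls K j j' hj y hy ↔ ∃ w : K.X i, K.d i j w = x - y := by
  rw [← sub_eq_zero, ← cls_sub, cls_eq_zero_iff K j j' hj i hi]

variable {K} in
lemma homologyMap_cls {L : CochainComplex AddCommGrpCat.{u} ℤ} (φ : K ⟶ L)
    (x : K.X j) (hx : K.d j j' x = 0) (hx' : L.d j j' (φ.f j x) = 0) :
    HomologicalComplex.homologyMap φ j (cls K j j' hj x hx) = cls L j j' hj (φ.f j x) hx' := by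
  unfold cls
  exact homologyMap_scCls ((HomologicalComplex.shortComplexFunctor _ _ j).map φ) _ _

end HC

end Groth.Agent.Helper3.CxLim
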