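import Groth.Prelude.Def_CohCx
import Mathlib

/-!
# Cohomology sheaves of a complex of abelian sheaves via sections
-/

universe u

open CategoryTheory Limits Opposite

namespace Groth.Agent.Helper3.CxLim

section General

variable {C₁ C₂ : Type*} [Category C₁] [Category C₂] [Abelian C₁] [Abelian C₂]
  (F : C₁ ⥤ C₂) [F.Additive] [F.PreservesHomology] {ι : Type*} {c : ComplexShape ι}
  {K L : HomologicalComplex C₁ c} (φ : K ⟶ L) (i : ι)

lemma quasiIsoAt_map_iff_isIso_map_homologyMap :
    QuasiIsoAt ((F.mapHomologicalComplex c).map φ) i ↔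
      IsIso (F.map (HomologicalComplex.homologyMap φ i)) := by
  rw [quasiIsoAt_iff]
  let γ := ShortComplex.leftHomologyMapData
    ((HomologicalComplex.shortComplexFunctor C₁ c i).map φ)
    (K.sc i).homologyData.left (L.sc i).homologyData.left
  exact (γ.map F).quasiIso_iff

end General

section Sheaf

variable {C : Type u} [SmallCategory C] (J : GrothendieckTopology C)

/-- bijectivity on a covering class of objects implies local bijectivity -/
lemma locallyBijective_of_bijective_on (B : Set C)
    (hB : ∀ U : C, ∃ (ι : Type u) (Y : ι → C) (f : ∀ i, Y i ⟶ U),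
      Sieve.ofArrows Y f ∈ J U ∧ ∀ i, Y i ∈ B)
    {P P' : Cᵒᵖ ⥤ AddCommGrpCat.{u}} (θ : P ⟶ P')
    (h : ∀ U ∈ B, Function.Bijective (θ.app (op U))) :
    Presheaf.IsLocallyInjective J θ ∧ Presheaf.IsLocallySurjective J θ := by
  constructor
  · constructor
    intro X x y hxy
    obtain ⟨ι, Y, f, hcov, hY⟩ := hB X.unop
    refine J.superset_covering ?_ hcov
    intro V g hg
    obtain ⟨i, b, rfl⟩ := (Sieve.mem_ofArrows_iff Y f g).1 hg
    apply Sieve.downward_closed
    change P.map (f i).op x = P.map (f i).op y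
    apply (h (Y i) (hY i)).1
    have h1 := ConcreteCategory.congr_hom (θ.naturality (f i).op) x
    have h2 := ConcreteCategory.congr_hom (θ.naturality (f i).op) y
    change θ.app _ (P.map (f i).op x) = P'.map (f i).op (θ.app _ x) at h1
    change θ.app _ (P.map (f i).op y) = P'.map (f i).op (θ.app _ y) at h2
    rw [h1, h2, hxy]
  · constructor
    intro U s
    obtain ⟨ι, Y, f, hcov, hY⟩ := hB U
    refine J.superset_covering ?_ hcov
    intro V g hg
    obtain ⟨i, b, rfl⟩ := (Sieve.mem_ofArrows_iff Y f g).1 hg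
    apply Sieve.downward_closed
    obtain ⟨t, ht⟩ := (h (Y i) (hY i)).2 (P'.map (f i).op s)
    exact ⟨t, ht⟩

variable {J}

lemma quasiIsoAt_iff_sheafify {G G' : CochainComplex (Sheaf J AddCommGrpCat.{u}) ℤ}
    (π : G ⟶ G') (m : ℤ) :
    QuasiIsoAt π m ↔ QuasiIsoAt
      (((presheafToSheaf J AddCommGrpCat.{u}).mapHomologicalComplex (ComplexShape.up ℤ)).map
        (((sheafToPresheaf J AddCommGrpCat.{u}).mapHomologicalComplex (ComplexShape.up ℤ)).map π))
      m := by
  let e : (sheafToPresheaf J AddCommGrpCat.{u} ⋙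
      presheafToSheaf J AddCommGrpCat.{u}).mapHomologicalComplex (ComplexShape.up ℤ) ≅ 𝟭 _ :=
    NatIso.mapHomologicalComplex (asIso (sheafificationAdjunction J AddCommGrpCat.{u}).counit)
      (ComplexShape.up ℤ) ≪≫ Functor.mapHomologicalComplexIdIso _ _
  haveI i1 : IsIso (e.hom.app G') := inferInstanceAs (IsIso (e.app G').hom)
  haveI i2 : IsIso (e.hom.app G) := inferInstanceAs (IsIso (e.app G).hom)
  have key : QuasiIsoAt π m ↔ QuasiIsoAt (((sheafToPresheaf J AddCommGrpCat.{u} ⋙
      presheafToSheaf J AddCommGrpCat.{u}).mapHomologicalComplex (ComplexShape.up ℤ)).map π)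
      m := by
    have hnat : ((sheafToPresheaf J AddCommGrpCat.{u} ⋙
      presheafToSheaf J AddCommGrpCat.{u}).mapHomologicalComplex (ComplexShape.up ℤ)).map π ≫
        e.hom.app G' = e.hom.app G ≫ π := e.hom.naturality π
    have h1 := quasiIsoAt_iff_comp_right (((sheafToPresheaf J AddCommGrpCat.{u} ⋙
      presheafToSheaf J AddCommGrpCat.{u}).mapHomologicalComplex (ComplexShape.up ℤ)).map π)
      (e.hom.app G') m
    have h2 := quasiIsoAt_iff_comp_left (e.hom.app G) π m
    rw [← h2, ← hnat]
    exact h1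
  exact key

/-- a morphism of complexes of abelian sheaves is a quasi-isomorphism in degree `m` as soon as it
is so on sections over the members of a covering class of objects -/
theorem quasiIsoAt_of_sections (B : Set C)
    (hB : ∀ U : C, ∃ (ι : Type u) (Y : ι → C) (f : ∀ i, Y i ⟶ U),
      Sieve.ofArrows Y f ∈ J U ∧ ∀ i, Y i ∈ B)
    {G G' : CochainComplex (Sheaf J AddCommGrpCat.{u}) ℤ} (π : G ⟶ G') (m : ℤ)
    (h : ∀ U ∈ B, QuasiIsoAt ((CohCx.sectCx J U).map π) m) : QuasiIsoAt π m := by
  rw [quasiIsoAt_iff_sheafify, quasiIsoAt_map_iff_isIso_map_homologyMap, ← J.W_iff]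
  obtain ⟨h1, h2⟩ := locallyBijective_of_bijective_on J B hB
    (HomologicalComplex.homologyMap
      (((sheafToPresheaf J AddCommGrpCat.{u}).mapHomologicalComplex (ComplexShape.up ℤ)).map π) m)
    (by
      intro U hU
      rw [← ConcreteCategory.isIso_iff_bijective]
      have := h U hU
      exact (quasiIsoAt_map_iff_isIso_map_homologyMap
        ((evaluation Cᵒᵖ AddCommGrpCat.{u}).obj (op U))
        (((sheafToPresheaf J AddCommGrpCat.{u}).mapHomologicalComplex (ComplexShape.up ℤ)).map π)
        m).1 this)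
  exact J.W_of_isLocallyBijective _

end Sheaf

end Groth.Agent.Helper3.CxLim
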