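import Groth.Agent.Lib.Helper3.CxLim1
import Groth.Agent.Lib.Helper3.CxLim2
import Groth.Agent.Lib.Helper3.CxLim3

/-!
# Cohomology sheaves of a termwise limit of complexes of abelian sheaves
-/

universe u

open CategoryTheory Limits Opposite

namespace Groth.Agent.Helper3.CxLim

variable {C : Type u} [SmallCategory C] {J : GrothendieckTopology C} (U : C)

section Sec

/-- sections over `U` of a morphism of complexes in degree `j` -/
abbrev secF {G G' : CochainComplex (Sheaf J AddCommGrpCat.{u}) ℤ} (φ : G ⟶ G') (j : ℤ) :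
    (G.X j).obj.obj (op U) →+ (G'.X j).obj.obj (op U) := ((φ.f j).hom.app (op U)).hom

/-- sections over `U` of the differential -/
abbrev secD (G : CochainComplex (Sheaf J AddCommGrpCat.{u}) ℤ) (i j : ℤ) :
    (G.X i).obj.obj (op U) →+ (G.X j).obj.obj (op U) := ((G.d i j).hom.app (op U)).hom

lemma secD_comp (G : CochainComplex (Sheaf J AddCommGrpCat.{u}) ℤ) (i j k : ℤ)
    (x : (G.X i).obj.obj (op U)) : secD U G j k (secD U G i j x) = 0 := by
  have h := congrArg (fun f => f.hom.app (op U)) (G.d_comp_d i j k)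
  exact ConcreteCategory.congr_hom h x

lemma secF_comm {G G' : CochainComplex (Sheaf J AddCommGrpCat.{u}) ℤ} (φ : G ⟶ G') (i j : ℤ)
    (x : (G.X i).obj.obj (op U)) :
    secD U G' i j (secF U φ i x) = secF U φ j (secD U G i j x) := by
  have h := congrArg (fun f => f.hom.app (op U)) (φ.comm i j)
  exact ConcreteCategory.congr_hom h x

lemma secF_comp {G G' G'' : CochainComplex (Sheaf J AddCommGrpCat.{u}) ℤ} (φ : G ⟶ G')
    (ψ : G' ⟶ G'') (j : ℤ) (x : (G.X j).obj.obj (op U)) :
    secF U (φ ≫ ψ) j x = secF U ψ j (secF U φ j x) := rfl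

end Sec

section Lim

variable (F : ℕ → CochainComplex (Sheaf J AddCommGrpCat.{u}) ℤ) (t : ∀ n, F (n + 1) ⟶ F n)

/-- the functor "sections over `U` in degree `j`" to types -/
noncomputable abbrev secFun (j : ℤ) : CochainComplex (Sheaf J AddCommGrpCat.{u}) ℤ ⥤ Type u :=
  HomologicalComplex.eval _ _ j ⋙ sheafToPresheaf J AddCommGrpCat.{u} ⋙
    (evaluation Cᵒᵖ AddCommGrpCat.{u}).obj (op U) ⋙ forget AddCommGrpCat.{u}

lemma secFun_map_succ (j : ℤ) (x : ∀ n, ((F n).X j).obj.obj (op U))
    (hx : ∀ n, secF U (t n) j (x (n + 1)) = x n) (n n' : ℕ) (h : n ≤ n') :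
    (CohCx.opSequence F t ⋙ secFun U j).map (homOfLE h).op (x n') = x n := by
  induction n', h using Nat.le_induction with
  | base =>
    have : (homOfLE (le_refl n)).op = 𝟙 (op n) := rfl
    rw [this, CategoryTheory.Functor.map_id]
    rfl
  | succ n' hn' ih =>
    have : (homOfLE (hn'.trans (Nat.le_succ n'))).op =
        (homOfLE (Nat.le_add_right n' 1)).op ≫ (homOfLE hn').op := rfl
    rw [this, Functor.map_comp]
    change (CohCx.opSequence F t ⋙ secFun U j).map (homOfLE hn').op
      ((secFun U j).map ((CohCx.opSequence F t).map (homOfLE (Nat.le_add_right n' 1)).op)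
        (x (n' + 1))) = _
    rw [Functor.ofOpSequence_map_homOfLE_succ]
    exact (congrArg _ (hx n')).trans ih

lemma sect_exists (j : ℤ) (x : ∀ n, ((F n).X j).obj.obj (op U))
    (hx : ∀ n, secF U (t n) j (x (n + 1)) = x n) :
    ∃ y : ((limit (CohCx.opSequence F t)).X j).obj.obj (op U),
      ∀ n, secF U (limit.π (CohCx.opSequence F t) (op n)) j y = x n := by
  have hlim := isLimitOfPreserves (secFun U j) (limit.isLimit (CohCx.opSequence F t))
  let s : (CohCx.opSequence F t ⋙ secFun U j).sections := ⟨fun a => x a.unop, by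
    intro a b f
    have : f = (homOfLE (leOfHom f.unop)).op := rfl
    rw [this]
    exact secFun_map_succ U F t j x hx b.unop a.unop _⟩
  refine ⟨(Types.isLimitEquivSections hlim).symm s, fun n => ?_⟩
  exact Types.isLimitEquivSections_symm_apply hlim s (op n)

lemma sect_unique (j : ℤ) (y : ((limit (CohCx.opSequence F t)).X j).obj.obj (op U))
    (hy : ∀ n, secF U (limit.π (CohCx.opSequence F t) (op n)) j y = 0) : y = 0 := by
  have hlim := isLimitOfPreserves (secFun U j) (limit.isLimit (CohCx.opSequence F t))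
  apply (Types.isLimitEquivSections hlim).injective
  apply Subtype.ext
  funext a
  rw [Types.isLimitEquivSections_apply, Types.isLimitEquivSections_apply]
  change secF U (limit.π (CohCx.opSequence F t) (op a.unop)) j y =
    secF U (limit.π (CohCx.opSequence F t) (op a.unop)) j 0
  rw [hy, map_zero]

end Lim

section Main

variable (F : ℕ → CochainComplex (Sheaf J AddCommGrpCat.{u}) ℤ) (t : ∀ n, F (n + 1) ⟶ F n)

/-- the elementary form of the vanishing of `lim¹` of the `H^{m-1}` of the sections -/
lemma hH1_of_limOne (m : ℤ)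
    (hb : CohCx.LimOneIsZero
      (fun n => ((CohCx.sectCx J U).obj (F n)).homology (m - 1))
      (fun n => (HomologicalComplex.homologyMap ((CohCx.sectCx J U).map (t n)) (m - 1)).hom))
    (z : ∀ n, ((F n).X (m - 1)).obj.obj (op U))
    (hz : ∀ n, secD U (F n) (m - 1) m (z n) = 0) :
    ∃ (w : ∀ n, ((F n).X (m - 1)).obj.obj (op U)) (p : ∀ n, ((F n).X (m - 2)).obj.obj (op U)),
      (∀ n, secD U (F n) (m - 1) m (w n) = 0) ∧
      ∀ n, z n = w n - secF U (t n) (m - 1) (w (n + 1)) + secD U (F n) (m - 2) (m - 1) (p n) := by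
  have h01 : m - 1 + 1 = m := by omega
  have h12 : m - 2 + 1 = m - 1 := by omega
  obtain ⟨g, hg⟩ := hb (fun n => cls ((CohCx.sectCx J U).obj (F n)) (m - 1) m h01 (z n) (hz n))
  have hg' : ∀ n, g n - HomologicalComplex.homologyMap ((CohCx.sectCx J U).map (t n)) (m - 1)
      (g (n + 1)) = cls ((CohCx.sectCx J U).obj (F n)) (m - 1) m h01 (z n) (hz n) :=
    fun n => congrFun hg n
  have hsurj : ∀ n, ∃ (x : ((F n).X (m - 1)).obj.obj (op U))
      (hx : secD U (F n) (m - 1) m x = 0),
      cls ((CohCx.sectCx J U).obj (F n)) (m - 1) m h01 x hx = g n :=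
    fun n => cls_surjective ((CohCx.sectCx J U).obj (F n)) (m - 1) m h01 (g n)
  choose w hw hwg using hsurj
  have hcyc : ∀ n, secD U (F n) (m - 1) m (secF U (t n) (m - 1) (w (n + 1))) = 0 := by
    intro n
    rw [secF_comm]
    exact (congrArg _ (hw (n + 1))).trans (map_zero _)
  have key : ∀ n, ∃ y : ((F n).X (m - 2)).obj.obj (op U),
      secD U (F n) (m - 2) (m - 1) y = (w n - secF U (t n) (m - 1) (w (n + 1))) - z n := by
    intro n
    have h1 := hg' n
    rw [← hwg n, ← hwg (n + 1),
      homologyMap_cls (m - 1) m h01 ((CohCx.sectCx J U).map (t n)) (w (n + 1)) (hw (n + 1))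
        (hcyc n), ← cls_sub] at h1
    exact (cls_eq_iff ((CohCx.sectCx J U).obj (F n)) (m - 1) m h01 (m - 2) h12 _ _ _ _).1 h1
  choose y hy using key
  refine ⟨w, fun n => - y n, hw, fun n => ?_⟩
  rw [map_neg, hy n]
  abel

/-- the projection from the limit, with its natural type -/
noncomputable abbrev pr (n : ℕ) : limit (CohCx.opSequence F t) ⟶ F n :=
  limit.π (CohCx.opSequence F t) (op n)

/-- single-step isomorphisms from the isomorphisms `H^m(A_{n₀+k}) → H^m(A_{n₀})` -/
lemma isIso_step (m : ℤ) (n₀ : ℕ)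
    (hc : ∀ k : ℕ, IsIso (HomologicalComplex.homologyMap
      ((CohCx.sectCx J U).map (CohCx.transition F t n₀ k)) m))
    (n : ℕ) (hn : n₀ ≤ n) :
    IsIso (HomologicalComplex.homologyMap ((CohCx.sectCx J U).map (t n)) m) := by
  obtain ⟨k, rfl⟩ := Nat.exists_eq_add_of_le hn
  have h1 : CohCx.transition F t n₀ (k + 1) = t (n₀ + k) ≫ CohCx.transition F t n₀ k := rfl
  have h2 : HomologicalComplex.homologyMap ((CohCx.sectCx J U).map (t (n₀ + k))) m ≫
      HomologicalComplex.homologyMap ((CohCx.sectCx J U).map (CohCx.transition F t n₀ k)) m =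
      HomologicalComplex.homologyMap
        ((CohCx.sectCx J U).map (CohCx.transition F t n₀ (k + 1))) m := by
    rw [h1, Functor.map_comp, HomologicalComplex.homologyMap_comp]
  haveI := hc k
  haveI : IsIso (HomologicalComplex.homologyMap ((CohCx.sectCx J U).map (t (n₀ + k))) m ≫
      HomologicalComplex.homologyMap ((CohCx.sectCx J U).map (CohCx.transition F t n₀ k)) m) := by
    rw [h2]; exact hc (k + 1)
  exact IsIso.of_isIso_comp_right _
    (HomologicalComplex.homologyMap ((CohCx.sectCx J U).map (CohCx.transition F t n₀ k)) m)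

theorem isIso_homologyMap_sect (m : ℤ) (n₀ : ℕ)
    (ha : ∀ j : ℤ, (j = m - 2 ∨ j = m - 1) →
      CohCx.LimOneIsZero (fun n => ((F n).X j).obj.obj (op U))
        (fun n => (((t n).f j).hom.app (op U)).hom))
    (hb : CohCx.LimOneIsZero
      (fun n => ((CohCx.sectCx J U).obj (F n)).homology (m - 1))
      (fun n => (HomologicalComplex.homologyMap ((CohCx.sectCx J U).map (t n)) (m - 1)).hom))
    (hc : ∀ k : ℕ, IsIso (HomologicalComplex.homologyMap
      ((CohCx.sectCx J U).map (CohCx.transition F t n₀ k)) m)) :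
    IsIso (HomologicalComplex.homologyMap
      ((CohCx.sectCx J U).map (limit.π (CohCx.opSequence F t) (op n₀))) m) := by
  have h01 : m - 1 + 1 = m := by omega
  have hstep := isIso_step U F t m n₀ hc
  -- compatibilities
  have hpi : ∀ (j : ℤ) (n : ℕ) (x : ((limit (CohCx.opSequence F t)).X j).obj.obj (op U)),
      secF U (t n) j (secF U (pr F t (n + 1)) j x) =
        secF U (pr F t n) j x := by
    intro j n x
    have h : pr F t (n + 1) ≫ t n = pr F t n := by
      have h' := limit.w (CohCx.opSequence F t) (homOfLE (Nat.le_add_right n 1)).op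
      rw [Functor.ofOpSequence_map_homOfLE_succ] at h'
      exact h'
    rw [← h]
    rfl
  -- bijectivity of the single steps, elementwise
  have hcI : ∀ n, n₀ ≤ n → ∀ r : ((F (n + 1)).X m).obj.obj (op U),
      secD U (F (n + 1)) m (m + 1) r = 0 →
      (∃ q, secD U (F n) (m - 1) m q = secF U (t n) m r) →
      ∃ q', secD U (F (n + 1)) (m - 1) m q' = r := by
    intro n hn r hr hq
    haveI := hstep n hn
    have hinj := ((ConcreteCategory.isIso_iff_bijective
      (HomologicalComplex.homologyMap ((CohCx.sectCx J U).map (t n)) m)).1 inferInstance).1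
    have hr' : secD U (F n) m (m + 1) (secF U (t n) m r) = 0 := by
      rw [secF_comm]; exact (congrArg _ hr).trans (map_zero _)
    have h1 : cls ((CohCx.sectCx J U).obj (F n)) m (m + 1) rfl (secF U (t n) m r) hr' = 0 :=
      (cls_eq_zero_iff _ m (m + 1) rfl (m - 1) h01 _ _).2 hq
    have h2 := homologyMap_cls m (m + 1) rfl ((CohCx.sectCx J U).map (t n)) r hr hr'
    have h3 : cls ((CohCx.sectCx J U).obj (F (n + 1))) m (m + 1) rfl r hr = 0 :=
      hinj ((h2.trans h1).trans (map_zero _).symm)
    exact (cls_eq_zero_iff _ m (m + 1) rfl (m - 1) h01 _ _).1 h3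
  have hcS : ∀ n, n₀ ≤ n → ∀ r : ((F n).X m).obj.obj (op U), secD U (F n) m (m + 1) r = 0 →
      ∃ (r' : ((F (n + 1)).X m).obj.obj (op U)) (q : ((F n).X (m - 1)).obj.obj (op U)),
        secD U (F (n + 1)) m (m + 1) r' = 0 ∧
        secF U (t n) m r' = r + secD U (F n) (m - 1) m q := by
    intro n hn r hr
    haveI := hstep n hn
    have hsurj := ((ConcreteCategory.isIso_iff_bijective
      (HomologicalComplex.homologyMap ((CohCx.sectCx J U).map (t n)) m)).1 inferInstance).2
    obtain ⟨h', hh'⟩ := hsurj (cls ((CohCx.sectCx J U).obj (F n)) m (m + 1) rfl r hr)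
    obtain ⟨r', hr', rfl⟩ :
        ∃ (x : ((F (n + 1)).X m).obj.obj (op U)) (hx : secD U (F (n + 1)) m (m + 1) x = 0),
          cls ((CohCx.sectCx J U).obj (F (n + 1))) m (m + 1) rfl x hx = h' :=
      cls_surjective _ m (m + 1) rfl h'
    have hr'' : secD U (F n) m (m + 1) (secF U (t n) m r') = 0 := by
      rw [secF_comm]; exact (congrArg _ hr').trans (map_zero _)
    rw [homologyMap_cls m (m + 1) rfl ((CohCx.sectCx J U).map (t n)) r' hr' hr''] at hh'
    obtain ⟨q, hq⟩ := (cls_eq_iff _ m (m + 1) rfl (m - 1) h01 _ _ _ _).1 hh'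
    have hq' : secD U (F n) (m - 1) m q = secF U (t n) m r' - r := hq
    refine ⟨r', q, hr', ?_⟩
    rw [hq']
    abel
  change IsIso (HomologicalComplex.homologyMap ((CohCx.sectCx J U).map (pr F t n₀)) m)
  rw [ConcreteCategory.isIso_iff_bijective]
  constructor
  · -- injectivity
    have hinj : Function.Injective (HomologicalComplex.homologyMap
        ((CohCx.sectCx J U).map (pr F t n₀)) m).hom := by
      rw [injective_iff_map_eq_zero]
      intro h hh
      obtain ⟨r, hr, rfl⟩ :
          ∃ (x : ((limit (CohCx.opSequence F t)).X m).obj.obj (op U))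
            (hx : secD U (limit (CohCx.opSequence F t)) m (m + 1) x = 0),
            cls ((CohCx.sectCx J U).obj (limit (CohCx.opSequence F t))) m (m + 1) rfl x hx = h :=
        cls_surjective _ m (m + 1) rfl h
      have hr' : secD U (F n₀) m (m + 1)
          (secF U (pr F t n₀) m r) = 0 := by
        rw [secF_comm]; exact (congrArg _ hr).trans (map_zero _)
      have h2 := homologyMap_cls m (m + 1) rfl
        ((CohCx.sectCx J U).map (pr F t n₀)) r hr hr'
      have h3 : cls ((CohCx.sectCx J U).obj (F n₀)) m (m + 1) rfl _ hr' = 0 := h2.symm.trans hh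
      have h0 := (cls_eq_zero_iff _ m (m + 1) rfl (m - 1) h01 _ _).1 h3
      refine (cls_eq_zero_iff _ m (m + 1) rfl (m - 1) h01 _ _).2 ?_
      exact injective_of_tower
        (P := fun n => ((F n).X (m - 2)).obj.obj (op U))
        (Q := fun n => ((F n).X (m - 1)).obj.obj (op U))
        (R := fun n => ((F n).X m).obj.obj (op U))
        (S := fun n => ((F n).X (m + 1)).obj.obj (op U))
        (fun n => secF U (t n) (m - 2)) (fun n => secF U (t n) (m - 1))
        (fun n => secF U (t n) m)
        (fun n => secD U (F n) (m - 2) (m - 1)) (fun n => secD U (F n) (m - 1) m)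
        (fun n => secD U (F n) m (m + 1))
        (secD U (limit (CohCx.opSequence F t)) (m - 1) m)
        (secD U (limit (CohCx.opSequence F t)) m (m + 1))
        (fun n => secF U (pr F t n) (m - 1))
        (fun n => secF U (pr F t n) m)
        (fun n => secF U (pr F t n) (m + 1))
        n₀
        (fun n x => secD_comp U (F n) _ _ _ x)
        (fun n x => secF_comm U (t n) _ _ x)
        (fun n x => secF_comm U (t n) _ _ x)
        (fun n x => hpi m n x)
        (fun n x => secF_comm U (pr F t n) _ _ x)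
        (fun n x => secF_comm U (pr F t n) _ _ x)
        (sect_exists U F t (m - 1))
        (sect_unique U F t m)
        (ha (m - 2) (Or.inl rfl))
        (hH1_of_limOne U F t m hb)
        hcI r hr h0
    exact hinj
  · -- surjectivity
    intro h
    obtain ⟨r0, hr0, rfl⟩ :
        ∃ (x : ((F n₀).X m).obj.obj (op U)) (hx : secD U (F n₀) m (m + 1) x = 0),
          cls ((CohCx.sectCx J U).obj (F n₀)) m (m + 1) rfl x hx = h :=
      cls_surjective _ m (m + 1) rfl h
    let ρ : ∀ n, ((F n).X m).obj.obj (op U) := Function.update (fun n => (0 : ((F n).X m).obj.obj (op U))) n₀ r0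
    have hρ : ∀ n, secD U (F n) m (m + 1) (ρ n) = 0 := by
      intro n
      by_cases hn : n = n₀
      · subst hn
        change secD U (F n) m (m + 1) (Function.update (fun n => (0 : ((F n).X m).obj.obj (op U))) n r0 n) = 0
        rw [Function.update_self]
        exact hr0
      · change secD U (F n) m (m + 1) (Function.update (fun n => (0 : ((F n).X m).obj.obj (op U))) n₀ r0 n) = 0
        rw [Function.update_of_ne hn]
        exact map_zero _
    have hρ0 : ρ n₀ = r0 := Function.update_self _ _ _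
    obtain ⟨r', q, hr', hrq⟩ := surjective_of_tower
        (Q := fun n => ((F n).X (m - 1)).obj.obj (op U))
        (R := fun n => ((F n).X m).obj.obj (op U))
        (S := fun n => ((F n).X (m + 1)).obj.obj (op U))
        (fun n => secF U (t n) (m - 1))
        (fun n => secF U (t n) m)
        (fun n => secD U (F n) (m - 1) m)
        (fun n => secD U (F n) m (m + 1))
        (secD U (limit (CohCx.opSequence F t)) m (m + 1))
        (fun n => secF U (pr F t n) m)
        (fun n => secF U (pr F t n) (m + 1))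
        (fun n => secF U (t n) (m + 1))
        n₀
        (fun n x => secD_comp U (F n) _ _ _ x)
        (fun n x => secF_comm U (t n) _ _ x)
        (fun n x => secF_comm U (t n) _ _ x)
        (fun n x => secF_comm U (pr F t n) _ _ x)
        (sect_exists U F t m)
        (sect_unique U F t (m + 1))
        (ha (m - 1) (Or.inr rfl))
        hcS ρ hρ
    rw [hρ0] at hrq
    have hr'' : secD U (F n₀) m (m + 1)
        (secF U (pr F t n₀) m r') = 0 := by
      rw [secF_comm]; exact (congrArg _ hr').trans (map_zero _)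
    refine ⟨cls ((CohCx.sectCx J U).obj (limit (CohCx.opSequence F t))) m (m + 1) rfl r' hr', ?_⟩
    refine (homologyMap_cls m (m + 1) rfl
      ((CohCx.sectCx J U).map (pr F t n₀)) r' hr' hr'').trans ?_
    refine (cls_eq_iff _ m (m + 1) rfl (m - 1) h01 _ _ _ _).2 ⟨q, ?_⟩
    change secD U (F n₀) (m - 1) m q = secF U (pr F t n₀) m r' - r0
    rw [hrq]
    abel

end Main

section Final

theorem s0899_main (J : GrothendieckTopology C)
    (F : ℕ → CochainComplex (Sheaf J AddCommGrpCat.{u}) ℤ) (t : ∀ n, F (n + 1) ⟶ F n) (m : ℤ)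
    (B : Set C)
    (hB : ∀ U : C, ∃ (ι : Type u) (Y : ι → C) (f : ∀ i, Y i ⟶ U),
      Sieve.ofArrows Y f ∈ J U ∧ ∀ i, Y i ∈ B)
    (n₀ : ℕ)
    (ha : ∀ U ∈ B, ∀ j : ℤ, (j = m - 2 ∨ j = m - 1) →
      CohCx.LimOneIsZero (fun n => ((F n).X j).obj.obj (op U))
        (fun n => (((t n).f j).hom.app (op U)).hom))
    (hb : ∀ U ∈ B, CohCx.LimOneIsZero
      (fun n => ((CohCx.sectCx J U).obj (F n)).homology (m - 1))
      (fun n => (HomologicalComplex.homologyMap ((CohCx.sectCx J U).map (t n)) (m - 1)).hom))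
    (hc : ∀ U ∈ B, ∀ k : ℕ, IsIso (HomologicalComplex.homologyMap
      ((CohCx.sectCx J U).map (CohCx.transition F t n₀ k)) m)) :
    IsIso (HomologicalComplex.homologyMap (limit.π (CohCx.opSequence F t) (op n₀)) m) := by
  rw [← quasiIsoAt_iff_isIso_homologyMap]
  refine quasiIsoAt_of_sections B hB _ m ?_
  intro U hU
  rw [quasiIsoAt_iff_isIso_homologyMap]
  exact isIso_homologyMap_sect U F t m n₀ (ha U hU) (hb U hU) (hc U hU)

open TopologicalSpace in
theorem s0897_main {X : TopCat.{u}}
    (F : ℕ → CochainComplex (CohTop.Ab X) ℤ) (t : ∀ n, F (n + 1) ⟶ F n) (m : ℤ)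
    (B : Set (Opens X)) (hB : Opens.IsBasis B) (n₀ : ℕ)
    (ha : ∀ U ∈ B, ∀ j : ℤ, (j = m - 2 ∨ j = m - 1) →
      CohCx.LimOneIsZero (fun n => ((F n).X j).obj.obj (op U))
        (fun n => (((t n).f j).hom.app (op U)).hom))
    (hb : ∀ U ∈ B, CohCx.LimOneIsZero
      (fun n => ((CohCx.sectCx (Opens.grothendieckTopology X) U).obj (F n)).homology (m - 1))
      (fun n => (HomologicalComplex.homologyMap
        ((CohCx.sectCx (Opens.grothendieckTopology X) U).map (t n)) (m - 1)).hom))
    (hc : ∀ U ∈ B, ∀ k : ℕ, IsIso (HomologicalComplex.homologyMap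
      ((CohCx.sectCx (Opens.grothendieckTopology X) U).map (CohCx.transition F t n₀ k)) m)) :
    IsIso (HomologicalComplex.homologyMap (limit.π (CohCx.opSequence F t) (op n₀)) m) := by
  refine s0899_main (Opens.grothendieckTopology X) F t m B ?_ n₀ ha hb hc
  intro U
  refine ⟨{V : Opens X // V ∈ B ∧ V ≤ U}, fun i => i.1, fun i => homOfLE i.2.2, ?_,
    fun i => i.2.1⟩
  rw [Opens.mem_grothendieckTopology]
  intro x hx
  obtain ⟨V, hV, hxV, hVU⟩ := Opens.isBasis_iff_nbhd.1 hB hx
  exact ⟨V, homOfLE hVU, (Sieve.mem_ofArrows_iff _ _ _).2 ⟨⟨V, hV, hVU⟩, 𝟙 _, rfl⟩, hxV⟩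

end Final

end Groth.Agent.Helper3.CxLim
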