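import Mathlib
import Groth.Agent.Lib.Helper3.DerAdj
import Groth.Agent.Lib.Helper3.AdjWayOut
import Groth.Agent.Lib.Helper3.RDAcyc

/-!
# Full faithfulness on `D⁺` of the functor induced by an exact left adjoint whose unit is an
isomorphism and whose right adjoint has vanishing higher derived functors on the image
-/

set_option autoImplicit false
set_option backward.isDefEq.respectTransparency false

universe w w' v v' u u'

open CategoryTheory Limits DerivedCategory

namespace Groth.Agent.Helper3.DC1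

variable {A : Type u} [Category.{v} A] [Abelian A] {B : Type u'} [Category.{v'} B] [Abelian B]
  [HasDerivedCategory.{w} A] [HasDerivedCategory.{w'} B]
  {Φ : A ⥤ B} {Ψ : B ⥤ A} (adj : Φ ⊣ Ψ) [Φ.Additive] [Ψ.Additive]
  [PreservesFiniteLimits Φ] [PreservesFiniteColimits Φ]

/-- the derived unit at `Q K` is an isomorphism as soon as the adjoint of a K-injective
resolution of `Φ K` is a quasi-isomorphism -/
lemma isIso_unit_Q {G : DerivedCategory B ⥤ DerivedCategory A} (adj' : Φ.mapDerivedCategory ⊣ G)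
    (K : CochainComplex A ℤ) (I : CochainComplex B ℤ) [I.IsKInjective]
    (ι₀ : (Φ.mapHomologicalComplex (ComplexShape.up ℤ)).obj K ⟶ I) [QuasiIso ι₀]
    (hη : QuasiIso ((DerAdj.adjC adj (ComplexShape.up ℤ)).homEquiv K I ι₀)) :
    IsIso (adj'.unit.app (Q.obj K)) := by
  set η := (DerAdj.adjC adj (ComplexShape.up ℤ)).homEquiv K I ι₀ with hηdef
  have h1 : IsIso (Q.map η) := (isIso_Q_map_iff_quasiIso A _).2 hη
  have h2 : IsIso (Q.map ι₀) := (isIso_Q_map_iff_quasiIso B _).2 inferInstance
  let θ : Q.obj I ≅ Φ.mapDerivedCategory.obj (Q.obj K) :=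
    (asIso (Q.map ι₀)).symm ≪≫ (Φ.mapDerivedCategoryFactors.app K).symm
  let φ := IsTerminal.uniqueUpToIso
    (mkTerminalOfRightAdjoint _ adj' (Φ.mapDerivedCategory.obj (Q.obj K)))
    (DerAdj.isTerminalMk adj I θ)
  have hφ : Φ.mapDerivedCategory.map φ.hom.left ≫ DerAdj.cmp adj I ≫ θ.hom =
      adj'.counit.app _ := CostructuredArrow.w φ.hom
  have hφi : IsIso φ.hom.left :=
    inferInstanceAs (IsIso ((CostructuredArrow.proj _ _).map φ.hom))
  obtain ⟨h₀, -, huniq⟩ := DerAdj.existsUnique_lift adj I θ (Q.obj K)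
    (𝟙 (Φ.mapDerivedCategory.obj (Q.obj K)))
  have e1 : adj'.unit.app (Q.obj K) ≫ φ.hom.left = h₀ := by
    apply huniq
    rw [Functor.map_comp, Category.assoc, hφ]
    exact adj'.left_triangle_components (Q.obj K)
  have e2 : Q.map η = h₀ := by
    apply huniq
    have hnat := Φ.mapDerivedCategoryFactors_hom_naturality η
    have hc : (Φ.mapHomologicalComplex (ComplexShape.up ℤ)).map η ≫
        (DerAdj.adjC adj (ComplexShape.up ℤ)).counit.app I = ι₀ :=
      ((DerAdj.adjC adj (ComplexShape.up ℤ)).homEquiv_counit K I η).symm.trans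
        (Equiv.symm_apply_apply _ ι₀)
    have hcmp : Φ.mapDerivedCategory.map (Q.map η) ≫ DerAdj.cmp adj I =
        Φ.mapDerivedCategoryFactors.hom.app K ≫ Q.map ι₀ := by
      dsimp only [DerAdj.cmp]
      rw [← Category.assoc, hnat, Category.assoc, ← Q.map_comp, hc]
    rw [← Category.assoc, hcmp]
    dsimp only [θ, Iso.trans_hom, Iso.symm_hom, asIso_inv, Iso.app_inv]
    rw [Category.assoc, IsIso.hom_inv_id_assoc, Iso.hom_inv_id_app]
    rfl
  have e3 : adj'.unit.app (Q.obj K) = Q.map η ≫ inv φ.hom.left := by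
    rw [e2, ← e1, Category.assoc, IsIso.hom_inv_id, Category.comp_id]
  rw [e3]
  infer_instance

variable [EnoughInjectives B]

include adj in
lemma preservesFiniteLimits_right : PreservesFiniteLimits Ψ := by
  haveI : PreservesLimitsOfSize.{0, 0} Ψ := adj.rightAdjoint_preservesLimits
  exact PreservesLimitsOfSize.preservesFiniteLimits _

/-- the derived unit at a single object -/
lemma isIso_unit_single {G : DerivedCategory B ⥤ DerivedCategory A}
    (adj' : Φ.mapDerivedCategory ⊣ G) (M : A)
    (hunit : ∀ M : A, IsIso (adj.unit.app M))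
    (hacyc : ∀ n : ℕ, 0 < n → IsZero ((Ψ.rightDerived n).obj (Φ.obj M))) :
    IsIso (adj'.unit.app ((singleFunctor A 0).obj M)) := by
  haveI := preservesFiniteLimits_right adj
  let R := injectiveResolution (Φ.obj M)
  let K₀ : CochainComplex A ℤ := (CochainComplex.singleFunctor A 0).obj M
  let e₀ : (Φ.mapHomologicalComplex (ComplexShape.up ℤ)).obj K₀ ≅
      (CochainComplex.singleFunctor B 0).obj (Φ.obj M) :=
    (HomologicalComplex.singleMapHomologicalComplex Φ (ComplexShape.up ℤ) 0).app M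
  let ι₀ : (Φ.mapHomologicalComplex (ComplexShape.up ℤ)).obj K₀ ⟶ R.cochainComplex :=
    e₀.hom ≫ R.ι'
  haveI : QuasiIso ι₀ := by dsimp only [ι₀]; infer_instance
  have hq1 : QuasiIso ((Ψ.mapHomologicalComplex (ComplexShape.up ℤ)).map R.ι') := by
    rw [RDAcyc.quasiIso_map_ι'_iff, RDAcyc.quasiIso_map_ι_iff]
    exact ⟨inferInstance, hacyc⟩
  have hq2 : QuasiIso ((Ψ.mapHomologicalComplex (ComplexShape.up ℤ)).map ι₀) := by
    dsimp only [ι₀]
    rw [Functor.map_comp]
    infer_instance
  have hu : IsIso ((DerAdj.adjC adj (ComplexShape.up ℤ)).unit.app K₀) := by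
    have : ∀ n, IsIso (((DerAdj.adjC adj (ComplexShape.up ℤ)).unit.app K₀).f n) := fun n =>
      inferInstanceAs (IsIso (adj.unit.app (K₀.X n)))
    exact HomologicalComplex.Hom.isIso_of_components _
  have hη : QuasiIso ((DerAdj.adjC adj (ComplexShape.up ℤ)).homEquiv K₀ R.cochainComplex ι₀) := by
    rw [(DerAdj.adjC adj (ComplexShape.up ℤ)).homEquiv_unit]
    infer_instance
  have h := isIso_unit_Q adj adj' K₀ R.cochainComplex ι₀ hη
  exact (NatTrans.isIso_app_iff_of_iso adj'.unit
    ((DerivedCategory.singleFunctorIsoCompQ A 0).app M)).2 h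

variable (hres : ∀ M : CochainComplex B ℤ, ∃ (I : CochainComplex B ℤ) (f : M ⟶ I),
  I.IsKInjective ∧ QuasiIso f)

include adj hres in
/-- full faithfulness on `D⁺` -/
theorem bijective_of_acyclic
    (hunit : ∀ M : A, IsIso (adj.unit.app M))
    (hacyc : ∀ (M : A) (n : ℕ), 0 < n → IsZero ((Ψ.rightDerived n).obj (Φ.obj M)))
    (K L : DerivedCategory.Plus A) :
    Function.Bijective (fun g : K.obj ⟶ L.obj => Φ.mapDerivedCategory.map g) := by
  haveI := DerAdj.isLeftAdjoint_mapDerivedCategory adj hres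
  let adj' := Adjunction.ofIsLeftAdjoint Φ.mapDerivedCategory
  obtain ⟨n₀, hn₀⟩ := L.property
  haveI : L.obj.IsGE n₀ := hn₀
  have hL : IsIso (adj'.unit.app L.obj) :=
    AdjWayOut.isIso_unit_of_isGE adj' L.obj n₀
      (fun q => isIso_unit_single adj adj' _ hunit (hacyc _))
  have key : ∀ g : K.obj ⟶ L.obj,
      adj'.homEquiv K.obj (Φ.mapDerivedCategory.obj L.obj) (Φ.mapDerivedCategory.map g) =
        g ≫ adj'.unit.app L.obj := by
    intro g
    rw [adj'.homEquiv_unit]
    exact (adj'.unit.naturality g).symm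
  constructor
  · intro g g' h
    have h' := congrArg (adj'.homEquiv K.obj (Φ.mapDerivedCategory.obj L.obj)) h
    rw [key, key] at h'
    exact (cancel_mono _).1 h'
  · intro f
    refine ⟨adj'.homEquiv K.obj _ f ≫ inv (adj'.unit.app L.obj), ?_⟩
    apply (adj'.homEquiv K.obj (Φ.mapDerivedCategory.obj L.obj)).injective
    change adj'.homEquiv K.obj _ (Φ.mapDerivedCategory.map _) = _
    rw [key, Category.assoc, IsIso.inv_hom_id, Category.comp_id]

end Groth.Agent.Helper3.DC1
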