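import Mathlib
import Groth.Agent.Lib.Helper3.DC1

/-!
# Converse: full faithfulness on `D⁺` gives the unit isomorphism and the vanishing of the higher
derived functors on the image
-/

set_option autoImplicit false
set_option backward.isDefEq.respectTransparency false

universe w w' v v' u u'

open CategoryTheory Limits DerivedCategory

namespace Groth.Agent.Helper3.DC10

variable {A : Type u} [Category.{v} A] [Abelian A] {B : Type u'} [Category.{v'} B] [Abelian B]
  [HasDerivedCategory.{w} A] [HasDerivedCategory.{w'} B]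
  {Φ : A ⥤ B} {Ψ : B ⥤ A} (adj : Φ ⊣ Ψ) [Φ.Additive] [Ψ.Additive]
  [PreservesFiniteLimits Φ] [PreservesFiniteColimits Φ]

/-- converse of `DC1.isIso_unit_Q` -/
lemma quasiIso_of_isIso_unit_Q {G : DerivedCategory B ⥤ DerivedCategory A}
    (adj' : Φ.mapDerivedCategory ⊣ G)
    (K : CochainComplex A ℤ) (I : CochainComplex B ℤ) [I.IsKInjective]
    (ι₀ : (Φ.mapHomologicalComplex (ComplexShape.up ℤ)).obj K ⟶ I) [QuasiIso ι₀]
    (hu : IsIso (adj'.unit.app (Q.obj K))) :
    QuasiIso ((DerAdj.adjC adj (ComplexShape.up ℤ)).homEquiv K I ι₀) := by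
  set η := (DerAdj.adjC adj (ComplexShape.up ℤ)).homEquiv K I ι₀ with hηdef
  have h2 : IsIso (Q.map ι₀) := (isIso_Q_map_iff_quasiIso B _).2 inferInstance
  let θ : Q.obj I ≅ Φ.mapDerivedCategory.obj (Q.obj K) :=
    (asIso (Q.map ι₀)).symm ≪≫ (Φ.mapDerivedCategoryFactors.app K).symm
  let φ := IsTerminal.uniqueUpToIso
    (mkTerminalOfRightAdjoint _ adj' (Φ.mapDerivedCategory.obj (Q.obj K)))
    (DerAdj.isTerminalMk adj I θ)
  have hφ : Φ.mapDerivedCategory.map φ.hom.left ≫ DerAdj.cmp adj I ≫ θ.hom =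
      adj'.counit.app _ := CostructuredArrow.w φ.hom
  have hφi : IsIso φ.hom.left :=
    inferInstanceAs (IsIso ((CostructuredArrow.proj _ _).map φ.hom))
  obtain ⟨h₀, -, huniq⟩ := DerAdj.existsUnique_lift adj I θ (Q.obj K)
    (𝟙 (Φ.mapDerivedCategory.obj (Q.obj K)))
  have e1 : adj'.unit.app (Q.obj K) ≫ φ.hom.left = h₀ := by
    apply huniq
    rw [Functor.map_comp, Category.assoc, hφ]
    exact adj'.left_triangle_components (Q.obj K)
  have e2 : Q.map η = h₀ := by
    apply huniq
    have hnat := Φ.mapDerivedCategoryFactors_hom_naturality η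
    have hc : (Φ.mapHomologicalComplex (ComplexShape.up ℤ)).map η ≫
        (DerAdj.adjC adj (ComplexShape.up ℤ)).counit.app I = ι₀ :=
      ((DerAdj.adjC adj (ComplexShape.up ℤ)).homEquiv_counit K I η).symm.trans
        (Equiv.symm_apply_apply _ ι₀)
    have hcmp : Φ.mapDerivedCategory.map (Q.map η) ≫ DerAdj.cmp adj I =
        Φ.mapDerivedCategoryFactors.hom.app K ≫ Q.map ι₀ := by
      dsimp only [DerAdj.cmp]
      rw [← Category.assoc, hnat, Category.assoc, ← Q.map_comp, hc]
    rw [← Category.assoc, hcmp]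
    dsimp only [θ, Iso.trans_hom, Iso.symm_hom, asIso_inv, Iso.app_inv]
    rw [Category.assoc, IsIso.hom_inv_id_assoc, Iso.hom_inv_id_app]
    rfl
  have e3 : Q.map η = adj'.unit.app (Q.obj K) ≫ φ.hom.left := by
    rw [e2, ← e1]
  have h1 : IsIso (Q.map η) := by
    rw [e3]
    infer_instance
  exact (isIso_Q_map_iff_quasiIso A _).1 h1

variable [EnoughInjectives B]

variable (hres : ∀ M : CochainComplex B ℤ, ∃ (I : CochainComplex B ℤ) (f : M ⟶ I),
  I.IsKInjective ∧ QuasiIso f)

variable (hFF : ∀ K L : DerivedCategory.Plus A,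
  Function.Bijective (fun g : K.obj ⟶ L.obj => Φ.mapDerivedCategory.map g))

include hFF in
/-- `Φ` is fully faithful -/
lemma bijective_map (M' M : A) : Function.Bijective (fun f : M' ⟶ M => Φ.map f) := by
  let e := Φ.mapDerivedCategorySingleFunctor 0
  let K : DerivedCategory.Plus A := ⟨(singleFunctor A 0).obj M', ⟨0, inferInstance⟩⟩
  let L : DerivedCategory.Plus A := ⟨(singleFunctor A 0).obj M, ⟨0, inferInstance⟩⟩
  have hb := hFF K L
  have key : ∀ f : M' ⟶ M, Φ.mapDerivedCategory.map ((singleFunctor A 0).map f) =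
      e.hom.app M' ≫ (singleFunctor B 0).map (Φ.map f) ≫ e.inv.app M := by
    intro f
    have := e.hom.naturality f
    rw [← cancel_mono (e.hom.app M), Category.assoc, Category.assoc, Iso.inv_hom_id_app]
    exact this.trans (congrArg (fun t => e.hom.app M' ≫ t) (Category.comp_id _).symm)
  constructor
  · intro f f' h
    have h' : Φ.map f = Φ.map f' := h
    apply (singleFunctor A 0).map_injective
    apply hb.1
    change Φ.mapDerivedCategory.map _ = Φ.mapDerivedCategory.map _
    rw [key, key, h']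
  · intro g
    obtain ⟨g', hg'⟩ := hb.2 (e.hom.app M' ≫ (singleFunctor B 0).map g ≫ e.inv.app M)
    obtain ⟨f, rfl⟩ := (singleFunctor A 0).map_surjective g'
    refine ⟨f, ?_⟩
    apply (singleFunctor B 0).map_injective
    have h1 : Φ.mapDerivedCategory.map ((singleFunctor A 0).map f) =
        e.hom.app M' ≫ (singleFunctor B 0).map g ≫ e.inv.app M := hg'
    rw [key] at h1
    have h2 := (cancel_epi (e.hom.app M')).1 h1
    exact (cancel_mono (e.inv.app M)).1 h2

include adj hFF in
lemma isIso_unit (M : A) : IsIso (adj.unit.app M) := by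
  haveI : Φ.Full := ⟨fun {X Y} g => (bijective_map hFF X Y).2 g⟩
  haveI : Φ.Faithful := ⟨fun {X Y} f g h => (bijective_map hFF X Y).1 h⟩
  infer_instance

include adj hres hFF in
lemma isZero_rightDerived (M : A) (n : ℕ) (hn : 0 < n) :
    IsZero ((Ψ.rightDerived n).obj (Φ.obj M)) := by
  haveI := DerAdj.isLeftAdjoint_mapDerivedCategory adj hres
  let adj' := Adjunction.ofIsLeftAdjoint Φ.mapDerivedCategory
  haveI := DC1.preservesFiniteLimits_right adj
  -- the derived unit at `M[0]` is an isomorphism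
  let L₀ : DerivedCategory A := (singleFunctor A 0).obj M
  let P : DerivedCategory A :=
    Φ.mapDerivedCategory.rightAdjoint.obj (Φ.mapDerivedCategory.obj L₀)
  haveI : L₀.IsGE 0 := inferInstance
  haveI : (Φ.mapDerivedCategory.obj L₀).IsGE 0 := AdjWayOut.isGE_map Φ L₀ 0
  haveI : P.IsGE 0 := AdjWayOut.isGE_right adj' _ 0
  have hbij : ∀ (K : DerivedCategory A) (n₀ : ℤ), K.IsGE n₀ →
      Function.Bijective (fun g : K ⟶ L₀ => g ≫ adj'.unit.app L₀) := by
    intro K n₀ hK
    have hb := hFF ⟨K, ⟨n₀, hK⟩⟩ ⟨L₀, ⟨0, inferInstance⟩⟩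
    have key : ∀ g : K ⟶ L₀,
        adj'.homEquiv K (Φ.mapDerivedCategory.obj L₀) (Φ.mapDerivedCategory.map g) =
          g ≫ adj'.unit.app L₀ := by
      intro g
      rw [adj'.homEquiv_unit]
      exact (adj'.unit.naturality g).symm
    have : (fun g : K ⟶ L₀ => g ≫ adj'.unit.app L₀) =
        (adj'.homEquiv K (Φ.mapDerivedCategory.obj L₀)) ∘
          (fun g : K ⟶ L₀ => Φ.mapDerivedCategory.map g) := by
      funext g
      exact (key g).symm
    rw [this]
    exact (adj'.homEquiv K _).bijective.comp hb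
  have hu : IsIso (adj'.unit.app L₀) := by
    obtain ⟨r, hr⟩ := (hbij P 0 inferInstance).2 (𝟙 P)
    have hr' : r ≫ adj'.unit.app L₀ = 𝟙 P := hr
    refine ⟨r, ?_, hr'⟩
    apply (hbij L₀ 0 inferInstance).1
    change (adj'.unit.app L₀ ≫ r) ≫ adj'.unit.app L₀ = 𝟙 _ ≫ adj'.unit.app L₀
    rw [Category.assoc, hr']
    exact (Category.comp_id _).trans (Category.id_comp _).symm
  -- translate into complexes
  have hunit := isIso_unit adj hFF
  let R := injectiveResolution (Φ.obj M)
  let K₀ : CochainComplex A ℤ := (CochainComplex.singleFunctor A 0).obj M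
  let e₀ : (Φ.mapHomologicalComplex (ComplexShape.up ℤ)).obj K₀ ≅
      (CochainComplex.singleFunctor B 0).obj (Φ.obj M) :=
    (HomologicalComplex.singleMapHomologicalComplex Φ (ComplexShape.up ℤ) 0).app M
  let ι₀ : (Φ.mapHomologicalComplex (ComplexShape.up ℤ)).obj K₀ ⟶ R.cochainComplex :=
    e₀.hom ≫ R.ι'
  haveI : QuasiIso ι₀ := by dsimp only [ι₀]; infer_instance
  have hu' : IsIso (adj'.unit.app (Q.obj K₀)) :=
    (NatTrans.isIso_app_iff_of_iso adj'.unit
      ((DerivedCategory.singleFunctorIsoCompQ A 0).app M)).1 hu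
  have hη := quasiIso_of_isIso_unit_Q adj adj' K₀ R.cochainComplex ι₀ hu'
  rw [(DerAdj.adjC adj (ComplexShape.up ℤ)).homEquiv_unit] at hη
  have hiu : IsIso ((DerAdj.adjC adj (ComplexShape.up ℤ)).unit.app K₀) := by
    have : ∀ n, IsIso (((DerAdj.adjC adj (ComplexShape.up ℤ)).unit.app K₀).f n) := fun n =>
      inferInstanceAs (IsIso (adj.unit.app (K₀.X n)))
    exact HomologicalComplex.Hom.isIso_of_components _
  have hq2 : QuasiIso ((Ψ.mapHomologicalComplex (ComplexShape.up ℤ)).map ι₀) :=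
    (quasiIso_iff_comp_left _ _).1 hη
  have hq1 : QuasiIso ((Ψ.mapHomologicalComplex (ComplexShape.up ℤ)).map R.ι') := by
    dsimp only [ι₀] at hq2
    rw [Functor.map_comp] at hq2
    exact (quasiIso_iff_comp_left _ _).1 hq2
  rw [RDAcyc.quasiIso_map_ι'_iff, RDAcyc.quasiIso_map_ι_iff] at hq1
  exact hq1.2 n hn

end Groth.Agent.Helper3.DC10
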