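import Mathlib
import Groth.Agent.Lib.Helper6.RDU.Acyc

/-!
# Localisation of the unit isomorphism and of the vanishing of higher direct images

`adj : pull ⊣ push` between `𝒮` and `𝒯`, `adj' : pull' ⊣ push'` between `𝒮'` and `𝒯'`, exact "restriction"
functors `rS : 𝒮 ⥤ 𝒮'`, `r : 𝒯 ⥤ 𝒯'` with right adjoints `rS'`, `r'`, and an isomorphism
`γ : r' ⋙ push ≅ push' ⋙ rS'`.
-/

set_option autoImplicit false
set_option backward.isDefEq.respectTransparency false

universe v₁ u₁ v₂ u₂ v₃ u₃ v₄ u₄

open CategoryTheory Limits Opposite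

namespace Groth.Agent.Helper3.DC11

variable {𝒮 : Type u₁} [Category.{v₁} 𝒮] [Abelian 𝒮]
  {𝒯 : Type u₂} [Category.{v₂} 𝒯] [Abelian 𝒯] [EnoughInjectives 𝒯]
  {𝒮' : Type u₃} [Category.{v₃} 𝒮'] [Abelian 𝒮']
  {𝒯' : Type u₄} [Category.{v₄} 𝒯'] [Abelian 𝒯'] [EnoughInjectives 𝒯']
  {pull : 𝒮 ⥤ 𝒯} {push : 𝒯 ⥤ 𝒮} (adj : pull ⊣ push) [push.Additive] [PreservesFiniteLimits push]
  {pull' : 𝒮' ⥤ 𝒯'} {push' : 𝒯' ⥤ 𝒮'} (adj' : pull' ⊣ push') [push'.Additive]
  [PreservesFiniteLimits push']
  {rS : 𝒮 ⥤ 𝒮'} {rS' : 𝒮' ⥤ 𝒮} (aS : rS ⊣ rS') [IsIso aS.counit]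
  [rS.Additive] [PreservesFiniteLimits rS] [PreservesFiniteColimits rS]
  {r : 𝒯 ⥤ 𝒯'} {r' : 𝒯' ⥤ 𝒯} (a : r ⊣ r')
  [r.Additive] [PreservesFiniteLimits r] [PreservesFiniteColimits r]
  (γ : r' ⋙ push ≅ push' ⋙ rS')
  (hL : ∀ N : 𝒯, IsIso (rS.map (push.map (a.unit.app N))))

/-- the base change morphism -/
def α : push ⋙ rS ⟶ r ⋙ push' where
  app N := rS.map (push.map (a.unit.app N)) ≫ rS.map (γ.hom.app (r.obj N)) ≫
    aS.counit.app (push'.obj (r.obj N))
  naturality N N' f := by
    have h1 := a.unit.naturality f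
    have h2 := γ.hom.naturality (r.map f)
    have h3 := aS.counit.naturality (push'.map (r.map f))
    dsimp at h1 h2 h3 ⊢
    simp only [Category.assoc]
    rw [← h3, ← rS.map_comp_assoc, ← rS.map_comp_assoc, ← rS.map_comp_assoc, ← rS.map_comp_assoc]
    congr 2
    rw [← push.map_comp, h1, push.map_comp, Category.assoc, h2, Category.assoc]

include hL in
lemma isIso_α : IsIso (α aS a γ) := by
  haveI : ∀ N, IsIso ((α aS a γ).app N) := by
    intro N
    haveI := hL N
    dsimp only [α]
    infer_instance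
  exact NatIso.isIso_of_isIso_app _

include aS γ hL in
/-- the restriction of the unit is an isomorphism as soon as the local unit is -/
lemma isIso_rS_unit (hunit' : ∀ M' : 𝒮', IsIso (adj'.unit.app M')) (M : 𝒮) :
    IsIso (rS.map (adj.unit.app M)) := by
  let adjL := adj.comp a
  let adjR := aS.comp adj'
  let adjL' := adjL.ofNatIsoRight γ
  let β := adjL'.leftAdjointUniq adjR
  have hcompat : adjL'.unit.app M ≫ (push' ⋙ rS').map (β.hom.app M) = adjR.unit.app M :=
    Adjunction.unit_leftAdjointUniq_hom_app adjL' adjR M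
  have hL' : adjL'.unit.app M = (adj.unit.app M ≫ push.map (a.unit.app (pull.obj M))) ≫
      γ.hom.app (r.obj (pull.obj M)) := by
    simp [adjL', adjL]
  have hR : adjR.unit.app M = aS.unit.app M ≫ rS'.map (adj'.unit.app (rS.obj M)) := by
    simp [adjR]
  rw [hL', hR] at hcompat
  have h2 : rS.map (adj.unit.app M) ≫ (rS.map (push.map (a.unit.app (pull.obj M))) ≫
      rS.map (γ.hom.app (r.obj (pull.obj M))) ≫ rS.map ((push' ⋙ rS').map (β.hom.app M))) =
      rS.map (aS.unit.app M) ≫ rS.map (rS'.map (adj'.unit.app (rS.obj M))) := by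
    have := congrArg (fun t => rS.map t) hcompat
    simpa only [Functor.map_comp, Category.assoc] using this
  -- the right hand side is an isomorphism
  haveI : IsIso (rS.map (aS.unit.app M)) := by
    have ht := aS.left_triangle_components M
    haveI : IsIso (aS.counit.app (rS.obj M)) := inferInstance
    haveI : IsIso (rS.map (aS.unit.app M) ≫ aS.counit.app (rS.obj M)) := by
      rw [ht]
      exact inferInstanceAs (IsIso (𝟙 (rS.obj M)))
    exact IsIso.of_isIso_comp_right _ (aS.counit.app (rS.obj M))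
  haveI := hunit' (rS.obj M)
  haveI := hL (pull.obj M)
  have hrhs : IsIso (rS.map (aS.unit.app M) ≫ rS.map (rS'.map (adj'.unit.app (rS.obj M)))) :=
    inferInstance
  rw [← h2] at hrhs
  haveI : IsIso (rS.map (push.map (a.unit.app (pull.obj M))) ≫
      rS.map (γ.hom.app (r.obj (pull.obj M))) ≫ rS.map ((push' ⋙ rS').map (β.hom.app M))) :=
    inferInstance
  exact IsIso.of_isIso_comp_right (rS.map (adj.unit.app M))
    (rS.map (push.map (a.unit.app (pull.obj M))) ≫
      rS.map (γ.hom.app (r.obj (pull.obj M))) ≫ rS.map ((push' ⋙ rS').map (β.hom.app M)))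

section vanishing

open Groth.Agent.Helper6.RDU

variable (hA : ∀ (I : 𝒯), Injective I → AcycFrom push' 0 (r.obj I))

/-- the short exact sequence `N → I → Q` with `I` injective -/
noncomputable def sesInj (N : 𝒯) : ShortComplex 𝒯 :=
  ShortComplex.mk (Injective.ι N) (cokernel.π (Injective.ι N)) (cokernel.condition _)

lemma sesInj_shortExact (N : 𝒯) : (sesInj N).ShortExact :=
  ShortComplex.ShortExact.mk' (ShortComplex.exact_cokernel _)
    (inferInstanceAs (Mono (Injective.ι N))) (inferInstanceAs (Epi (cokernel.π (Injective.ι N))))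

include hL aS a γ hA in
lemma isZero_rS_rightDerived (n : ℕ) : ∀ N : 𝒯, AcycFrom push' 0 (r.obj N) →
    IsZero (rS.obj ((push.rightDerived (n + 1)).obj N)) := by
  induction n with
  | zero =>
    intro N hN
    let S := sesInj N
    have hS : S.ShortExact := sesInj_shortExact N
    have hS' : (S.map r).ShortExact := hS.map_of_exact r
    have ex1 := (les push).exact₁ S hS 0 1 rfl
    have ex3 := (les push).exact₃ S hS 0 1 rfl
    have hI : IsZero ((push.rightDerived 1).obj S.X₂) :=
      push.isZero_rightDerived_obj_injective_succ 0 (Injective.under N)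
    haveI hepiδ : Epi ((les push).δ S hS 0 1 rfl) := ex1.epi_f (hI.eq_of_tgt _ _)
    -- `push' (r g)` is an epimorphism
    haveI hepi' : Epi (push'.map (r.map S.g)) :=
      epi_map_of_shortExact push' (S.map r) hS' (hN 1 Nat.one_pos)
    -- hence so is `rS (push g)`
    haveI := isIso_α aS a γ hL
    haveI hepi : Epi (rS.map (push.map S.g)) := by
      have hnat := (α aS a γ).naturality S.g
      have e : rS.map (push.map S.g) = (α aS a γ).app S.X₂ ≫ push'.map (r.map S.g) ≫
          inv ((α aS a γ).app S.X₃) := by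
        rw [← Category.assoc]
        exact (IsIso.eq_comp_inv _).2 hnat
      rw [e]
      infer_instance
    haveI hepi0 : Epi (rS.map ((push.rightDerived 0).map S.g)) := by
      have hnat := push.rightDerivedZeroIsoSelf.hom.naturality S.g
      have e : (push.rightDerived 0).map S.g = push.rightDerivedZeroIsoSelf.hom.app S.X₂ ≫
          push.map S.g ≫ push.rightDerivedZeroIsoSelf.inv.app S.X₃ := by
        rw [← Category.assoc, ← hnat, Category.assoc, Iso.hom_inv_id_app, Category.comp_id]
      rw [e, Functor.map_comp, Functor.map_comp]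
      infer_instance
    have hz : rS.map ((les push).δ S hS 0 1 rfl) = 0 := by
      rw [← cancel_epi (rS.map ((push.rightDerived 0).map S.g)), ← rS.map_comp,
        (les push).comp_δ, Functor.map_zero, comp_zero]
    haveI : Epi (rS.map ((les push).δ S hS 0 1 rfl)) := inferInstance
    exact IsZero.of_epi_eq_zero (rS.map ((les push).δ S hS 0 1 rfl)) hz
  | succ n ih =>
    intro N hN
    let S := sesInj N
    have hS : S.ShortExact := sesInj_shortExact N
    have hS' : (S.map r).ShortExact := hS.map_of_exact r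
    have ex1 := (les push).exact₁ S hS (n + 1) (n + 2) rfl
    have hI : IsZero ((push.rightDerived (n + 2)).obj S.X₂) :=
      push.isZero_rightDerived_obj_injective_succ (n + 1) (Injective.under N)
    haveI hepiδ : Epi ((les push).δ S hS (n + 1) (n + 2) rfl) := ex1.epi_f (hI.eq_of_tgt _ _)
    have hQ : AcycFrom push' 0 (r.obj S.X₃) :=
      acycFrom_shift push' 0 (S.map r) hS' (hA _ (inferInstanceAs (Injective (Injective.under N))))
        (acycFrom_mono push' (Nat.zero_le 1) hN)
    have hz := ih S.X₃ hQ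
    haveI : Epi (rS.map ((les push).δ S hS (n + 1) (n + 2) rfl)) := inferInstance
    exact IsZero.of_epi_eq_zero (rS.map ((les push).δ S hS (n + 1) (n + 2) rfl)) (hz.eq_of_src _ _)

include hL aS a γ hA adj adj' in
/-- the restriction of the higher direct images of an inverse image vanish as soon as this holds
locally -/
lemma isZero_rS_rightDerived_pull
    (hacyc' : ∀ (M' : 𝒮') (n : ℕ), 0 < n → IsZero ((push'.rightDerived n).obj (pull'.obj M')))
    (M : 𝒮) (n : ℕ) (hn : 0 < n) :
    IsZero (rS.obj ((push.rightDerived n).obj (pull.obj M))) := by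
  let adjL := adj.comp a
  let adjR := aS.comp adj'
  let adjL' := adjL.ofNatIsoRight γ
  let β : pull ⋙ r ≅ rS ⋙ pull' := adjL'.leftAdjointUniq adjR
  obtain ⟨n, rfl⟩ := Nat.exists_eq_succ_of_ne_zero (Nat.pos_iff_ne_zero.1 hn)
  apply isZero_rS_rightDerived aS a γ hL hA n
  exact acycFrom_of_iso push' 0 (β.app M).symm (fun k hk => hacyc' _ k hk)

end vanishing

end Groth.Agent.Helper3.DC11
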