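import Mathlib
import Groth.Prelude.Def_FibDesc
import Groth.Agent.Lib.Helper5.Misc.FibTot

set_option autoImplicit false
set_option backward.isDefEq.respectTransparency false
open CategoryTheory Limits Opposite TopologicalSpace Pseudofunctor.CoGrothendieck

universe u v₁ u₁ v₂ u₂
namespace Groth.Agent.Helper3.DC2

open Groth.Agent.Lib.Helper5

section thin

variable {𝒮 : Type u₁} [Category.{v₁} 𝒮] {F : Pseudofunctor (LocallyDiscrete 𝒮ᵒᵖ) Cat.{v₂, u₂}}

/-- thin fibres -/
def Thin (F : Pseudofunctor (LocallyDiscrete 𝒮ᵒᵖ) Cat.{v₂, u₂}) : Prop :=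
  ∀ (S : 𝒮) (a b : F.obj ⟨op S⟩), Subsingleton (a ⟶ b)

lemma hom_ext_base (hF : Thin F) {a b : ∫ᶜ F} (f g : a ⟶ b) (h : f.base = g.base) : f = g :=
  Hom.ext f g h ((hF _ _ _).elim _ _)

end thin

variable {D : Type} [SmallCategory D] (Y : (WithInitial D)ᵒᵖ ⥤ TopCat.{u})

lemma thin_topAug : Thin (FibDesc.topAug Y) := by
  intro S a b
  change Subsingleton ((a : Opens (Y.obj S)) ⟶ (b : Opens (Y.obj S)))
  infer_instance

lemma thin_part : Thin (FibDesc.part (FibDesc.topAug Y)) := by
  intro S a b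
  exact thin_topAug Y ((FibDesc.toAug D).obj S) a b

theorem isPreFibSite : FibSite.IsPreFibSite (FibDesc.topAug Y) (FibDesc.topAugTop Y) := by
  intro R S f
  exact inferInstanceAs ((Opens.map (Y.map f)).IsContinuous
    (Opens.grothendieckTopology (Y.obj S)) (Opens.grothendieckTopology (Y.obj R)))

theorem isPreFibSite_part :
    FibSite.IsPreFibSite (FibDesc.part (FibDesc.topAug Y))
      (FibDesc.partTop (FibDesc.topAug Y) (FibDesc.topAugTop Y)) := by
  intro R S f
  exact inferInstanceAs ((Opens.map (Y.map ((FibDesc.toAug D).map f))).IsContinuous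
    (Opens.grothendieckTopology (Y.obj ((FibDesc.toAug D).obj S)))
    (Opens.grothendieckTopology (Y.obj ((FibDesc.toAug D).obj R))))

instance eps_continuous : (FibDesc.eps (FibDesc.topAug Y)).IsContinuous
    (FibDesc.topAugTop Y (FibDesc.bot D)) (FibDesc.totAug (FibDesc.topAug Y) (FibDesc.topAugTop Y)) :=
  FibTot.isContinuous_ι _ (isPreFibSite Y) _

instance eps_isRightAdjoint : ((FibDesc.eps (FibDesc.topAug Y)).sheafPushforwardContinuous
    AddCommGrpCat.{u} (FibDesc.topAugTop Y (FibDesc.bot D))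
    (FibDesc.totAug (FibDesc.topAug Y) (FibDesc.topAugTop Y))).IsRightAdjoint := by
  infer_instance

/-- the unique map to the base point -/
def toBot (i : (WithInitial D)ᵒᵖ) : i ⟶ FibDesc.bot D := (WithInitial.starInitial.to i.unop).op

lemma toBot_unique {i : (WithInitial D)ᵒᵖ} (f g : i ⟶ FibDesc.bot D) : f = g :=
  Quiver.Hom.unop_inj (WithInitial.starInitial.hom_ext _ _)

/-- the natural isomorphism between the two fibre inclusions -/
noncomputable def ιInclIso (n : Dᵒᵖ) :
    ι (FibDesc.part (FibDesc.topAug Y)) n ⋙ FibDesc.incl (FibDesc.topAug Y) ≅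
      ι (FibDesc.topAug Y) ((FibDesc.toAug D).obj n) :=
  NatIso.ofComponents (fun U => Iso.refl _) (by
    intro U V g
    apply hom_ext_base (thin_topAug Y)
    simp
    exact (FibDesc.toAug D).map_id n)

instance incl_continuous : (FibDesc.incl (FibDesc.topAug Y)).IsContinuous
    (FibDesc.totPart (FibDesc.topAug Y) (FibDesc.topAugTop Y))
    (FibDesc.totAug (FibDesc.topAug Y) (FibDesc.topAugTop Y)) := by
  rw [FibTot.isContinuous_iff _ (isPreFibSite_part Y)]
  intro n
  haveI := FibTot.isContinuous_ι _ (isPreFibSite Y) ((FibDesc.toAug D).obj n)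
  exact Functor.isContinuous_of_iso (ιInclIso Y n).symm _ _

lemma incl_map_ι_map (n : Dᵒᵖ) {U V : Opens (Y.obj ((FibDesc.toAug D).obj n))} (g : U ⟶ V) :
    (FibDesc.incl (FibDesc.topAug Y)).map ((ι (FibDesc.part (FibDesc.topAug Y)) n).map g) =
      (ι (FibDesc.topAug Y) ((FibDesc.toAug D).obj n)).map g := by
  apply hom_ext_base (thin_topAug Y)
  simp
  exact (FibDesc.toAug D).map_id n

instance incl_cocontinuous : (FibDesc.incl (FibDesc.topAug Y)).IsCocontinuous
    (FibDesc.totPart (FibDesc.topAug Y) (FibDesc.topAugTop Y))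
    (FibDesc.totAug (FibDesc.topAug Y) (FibDesc.topAugTop Y)) where
  cover_lift {t T} hT := by
    obtain ⟨R, hR, hle⟩ := (FibTot.mem_totalTopology_iff _ (isPreFibSite Y) _ T).1 hT
    refine (FibTot.mem_totalTopology_iff _ (isPreFibSite_part Y) _ _).2 ⟨R, hR, ?_⟩
    rintro Z h ⟨W, e, b, he, rfl⟩
    change T ((FibDesc.incl (FibDesc.topAug Y)).map (b ≫ _))
    rw [Functor.map_comp]
    apply T.downward_closed
    rw [incl_map_ι_map]
    exact hle _ (Sieve.image_mem_functorPushforward _ _ he)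

instance incl_ran (P : (∫ᶜ (FibDesc.part (FibDesc.topAug Y)))ᵒᵖ ⥤ AddCommGrpCat.{u}) :
    (FibDesc.incl (FibDesc.topAug Y)).op.HasPointwiseRightKanExtension P := by
  infer_instance

/-- the fibre component as an open set -/
abbrev fib (X : ∫ᶜ (FibDesc.topAug Y)) : Opens (Y.obj X.base) := X.fiber

lemma le_of_hom_eps {X : ∫ᶜ (FibDesc.topAug Y)} {U : Opens (Y.obj (FibDesc.bot D))}
    (f : X ⟶ (FibDesc.eps (FibDesc.topAug Y)).obj U) :
    fib Y X ≤ (Opens.map (Y.map (toBot X.base))).obj U := by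
  obtain ⟨b, φ⟩ := f
  obtain rfl : b = toBot _ := toBot_unique _ _
  exact leOfHom φ

/-- constructor for morphisms to the base fibre -/
def homEps (X : ∫ᶜ (FibDesc.topAug Y)) (U : Opens (Y.obj (FibDesc.bot D)))
    (h : fib Y X ≤ (Opens.map (Y.map (toBot X.base))).obj U) :
    X ⟶ (FibDesc.eps (FibDesc.topAug Y)).obj U :=
  ⟨toBot X.base, (homOfLE h : fib Y X ⟶ (Opens.map (Y.map (toBot X.base))).obj U)⟩

lemma hom_eps_ext {X : ∫ᶜ (FibDesc.topAug Y)} {U : Opens (Y.obj (FibDesc.bot D))}
    (f g : X ⟶ (FibDesc.eps (FibDesc.topAug Y)).obj U) : f = g :=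
  hom_ext_base (thin_topAug Y) _ _ (toBot_unique _ _)

instance eps_flat : RepresentablyFlat (FibDesc.eps (FibDesc.topAug Y)) where
  cofiltered X := by
    haveI : Nonempty (StructuredArrow X (FibDesc.eps (FibDesc.topAug Y))) :=
      ⟨StructuredArrow.mk (homEps Y X ⊤ le_top)⟩
    haveI : IsCofilteredOrEmpty (StructuredArrow X (FibDesc.eps (FibDesc.topAug Y))) := by
      refine ⟨?_, ?_⟩
      · intro A B
        have hA := le_of_hom_eps Y A.hom
        have hB := le_of_hom_eps Y B.hom
        let a : Opens (Y.obj (FibDesc.bot D)) := A.right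
        let b : Opens (Y.obj (FibDesc.bot D)) := B.right
        let W : Opens (Y.obj (FibDesc.bot D)) := a ⊓ b
        refine ⟨StructuredArrow.mk (homEps Y X W (le_inf hA hB)),
          StructuredArrow.homMk (homOfLE inf_le_left : W ⟶ a) (hom_eps_ext Y _ _),
          StructuredArrow.homMk (homOfLE inf_le_right : W ⟶ b) (hom_eps_ext Y _ _), trivial⟩
      · intro A B f g
        refine ⟨A, 𝟙 A, ?_⟩
        have : f = g := by
          apply StructuredArrow.ext
          exact Subsingleton.elim _ _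
        rw [this]
    exact {}

instance extend_preservesFiniteLimits : PreservesFiniteLimits (FibSite.extend (FibDesc.topAug Y)
    (FibDesc.topAugTop Y) AddCommGrpCat.{u} (FibDesc.bot D)) :=
  Functor.SmallCategories.instPreservesFiniteLimitsSheafSheafPullbackOfRepresentablyFlat
    (FibDesc.eps (FibDesc.topAug Y)) AddCommGrpCat.{u} (FibDesc.topAugTop Y (FibDesc.bot D))
    (FibDesc.totAug (FibDesc.topAug Y) (FibDesc.topAugTop Y))

instance pull_preservesFiniteLimits :
    PreservesFiniteLimits (FibDesc.pull (FibDesc.topAug Y) (FibDesc.topAugTop Y) AddCommGrpCat.{u}) := by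
  haveI : PreservesFiniteLimits ((FibDesc.incl (FibDesc.topAug Y)).sheafPushforwardContinuous
      AddCommGrpCat.{u} (FibDesc.totPart (FibDesc.topAug Y) (FibDesc.topAugTop Y))
      (FibDesc.totAug (FibDesc.topAug Y) (FibDesc.topAugTop Y))) := by
    infer_instance
  exact comp_preservesFiniteLimits _ _

end Groth.Agent.Helper3.DC2
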