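import Mathlib
import Groth.Agent.Lib.Helper6.RDU.Acyc

/-!
# Acyclicity for a left exact functor to sheaves computed by complexes

`G : 𝒜 ⥤ Sheaf KB Ab` left exact, for each `U` a functor `Cx U` to cochain complexes of abelian groups
with `H⁰ (Cx U) ≅ Γ(U, G -)`.  If a class `𝔉` of objects contains the cokernels of embeddings of its
members into injectives and turns such short exact sequences into short exact sequences of complexes,
and the complexes of injectives are exact in positive degrees, then every member of `𝔉` whose complexes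
are exact in positive degrees is `G`-acyclic.
-/

set_option autoImplicit false
set_option backward.isDefEq.respectTransparency false

universe v u w

open CategoryTheory Limits Opposite

namespace Groth.Agent.Helper3.DC3

section cyc

/-- an epimorphism on `H⁰` of cochain complexes of abelian groups is surjective on `0`-cocycles -/
lemma exists_cycle_of_epi_homologyMap {K K' : CochainComplex AddCommGrpCat.{w} ℕ} (φ : K ⟶ K')
    (hφ : Epi (HomologicalComplex.homologyMap φ 0)) (x' : K'.X 0) (hx' : (K'.d 0 1).hom x' = 0) :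
    ∃ x : K.X 0, (K.d 0 1).hom x = 0 ∧ (φ.f 0).hom x = x' := by
  have hex : ∀ (L : CochainComplex AddCommGrpCat.{w} ℕ) (y : L.X 0), (L.d 0 1).hom y = 0 →
      ∃ z : L.cycles 0, (L.iCycles 0).hom z = y := by
    intro L y hy
    have hE : (ShortComplex.mk (L.iCycles 0) (L.d 0 1) (L.iCycles_d 0 1)).Exact :=
      ShortComplex.exact_of_f_is_kernel _ (L.cyclesIsKernel 0 1 (by simp))
    rw [ShortComplex.ab_exact_iff] at hE
    exact hE y hy
  obtain ⟨z', hz'⟩ := hex K' x' hx'
  have hsurj : Function.Surjective (HomologicalComplex.homologyMap φ 0).hom :=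
    (AddCommGrpCat.epi_iff_surjective _).1 hφ
  obtain ⟨h, hh⟩ := hsurj ((K'.homologyπ 0).hom z')
  haveI : IsIso (K.homologyπ 0) := by
    have : K.homologyπ 0 = (CochainComplex.isoHomologyπ₀ K).hom := rfl
    rw [this]; infer_instance
  haveI : IsIso (K'.homologyπ 0) := by
    have : K'.homologyπ 0 = (CochainComplex.isoHomologyπ₀ K').hom := rfl
    rw [this]; infer_instance
  have hsπ : Function.Surjective (K.homologyπ 0).hom :=
    (AddCommGrpCat.epi_iff_surjective _).1 inferInstance
  have hiπ : Function.Injective (K'.homologyπ 0).hom :=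
    (AddCommGrpCat.mono_iff_injective _).1 inferInstance
  obtain ⟨z, rfl⟩ := hsπ h
  have h1 : (K'.homologyπ 0).hom ((HomologicalComplex.cyclesMap φ 0).hom z) =
      (K'.homologyπ 0).hom z' := by
    rw [← hh]
    exact (ConcreteCategory.congr_hom (HomologicalComplex.homologyπ_naturality φ 0) z).symm
  have h2 := hiπ h1
  refine ⟨(K.iCycles 0).hom z, ?_, ?_⟩
  · exact ConcreteCategory.congr_hom (K.iCycles_d 0 1) z
  · rw [← hz', ← h2]
    exact (ConcreteCategory.congr_hom (HomologicalComplex.cyclesMap_i φ 0) z).symm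

end cyc

variable {𝒜 : Type u} [Category.{v} 𝒜] [Abelian 𝒜] [EnoughInjectives 𝒜]
  {B : Type w} [Category.{w} B] (KB : GrothendieckTopology B)
  (G : 𝒜 ⥤ Sheaf KB AddCommGrpCat.{w}) [G.Additive] [PreservesFiniteLimits G]
  (Cx : B → 𝒜 ⥤ CochainComplex AddCommGrpCat.{w} ℕ) [∀ U, (Cx U).PreservesZeroMorphisms]
  (hepi : ∀ {N N' : 𝒜} (g : N ⟶ N'), (∀ (U : B) (x' : ((Cx U).obj N').X 0),
    (((Cx U).obj N').d 0 1).hom x' = 0 →
      ∃ x : ((Cx U).obj N).X 0, (((Cx U).obj N).d 0 1).hom x = 0 ∧
        (((Cx U).map g).f 0).hom x = x') → Epi (G.map g))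
  (𝔉 : 𝒜 → Prop)
  (h𝔉 : ∀ S : ShortComplex 𝒜, S.ShortExact → 𝔉 S.X₁ → Injective S.X₂ →
    𝔉 S.X₃ ∧ ∀ U, (S.map (Cx U)).ShortExact)
  (hinj : ∀ (I : 𝒜), Injective I → ∀ (U : B) (n : ℕ), 0 < n →
    IsZero (((Cx U).obj I).homology n))

include hepi in
lemma epi_of_epi_homologyMap {N N' : 𝒜} (g : N ⟶ N')
    (h : ∀ U, Epi (HomologicalComplex.homologyMap ((Cx U).map g) 0)) : Epi (G.map g) :=
  hepi g fun U x' hx' => exists_cycle_of_epi_homologyMap _ (h U) x' hx'

include hepi h𝔉 hinj in
theorem isZero_rightDerived (n : ℕ) : ∀ (N : 𝒜), 𝔉 N →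
    (∀ U k, 0 < k → IsZero (((Cx U).obj N).homology k)) →
    IsZero ((G.rightDerived (n + 1)).obj N) := by
  induction n with
  | zero =>
    intro N hN hC
    let S : ShortComplex 𝒜 := ShortComplex.mk (Injective.ι N) (cokernel.π (Injective.ι N))
      (cokernel.condition _)
    have hS : S.ShortExact :=
      ShortComplex.ShortExact.mk' (ShortComplex.exact_cokernel _) inferInstance inferInstance
    obtain ⟨-, hSES⟩ := h𝔉 S hS hN (inferInstanceAs (Injective (Injective.under N)))
    have hepi : Epi (G.map S.g) := by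
      apply epi_of_epi_homologyMap KB G Cx hepi
      intro U
      have ex := (hSES U).homology_exact₃ 0 1 rfl
      exact ex.epi_f ((hC U 1 Nat.one_pos).eq_of_tgt _ _)
    have hepi0 : Epi ((G.rightDerived 0).map S.g) := by
      have hnat := G.rightDerivedZeroIsoSelf.hom.naturality S.g
      have e : (G.rightDerived 0).map S.g = G.rightDerivedZeroIsoSelf.hom.app S.X₂ ≫ G.map S.g ≫
          G.rightDerivedZeroIsoSelf.inv.app S.X₃ := by
        rw [← Category.assoc, ← hnat, Category.assoc, Iso.hom_inv_id_app, Category.comp_id]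
      rw [e]
      infer_instance
    have hδ : (Groth.Agent.Helper6.RDU.les G).δ S hS 0 1 rfl = 0 := by
      rw [← cancel_epi ((G.rightDerived 0).map S.g), comp_zero]
      exact (Groth.Agent.Helper6.RDU.les G).comp_δ S hS 0 1 rfl
    have ex := (Groth.Agent.Helper6.RDU.les G).exact₁ S hS 0 1 rfl
    refine ex.isZero_of_both_zeros hδ ?_
    exact (G.isZero_rightDerived_obj_injective_succ 0 (Injective.under N)).eq_of_tgt _ _
  | succ m ih =>
    intro N hN hC
    let S : ShortComplex 𝒜 := ShortComplex.mk (Injective.ι N) (cokernel.π (Injective.ι N))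
      (cokernel.condition _)
    have hS : S.ShortExact :=
      ShortComplex.ShortExact.mk' (ShortComplex.exact_cokernel _) inferInstance inferInstance
    obtain ⟨hQ, hSES⟩ := h𝔉 S hS hN (inferInstanceAs (Injective (Injective.under N)))
    have hCQ : ∀ U k, 0 < k → IsZero (((Cx U).obj S.X₃).homology k) := by
      intro U k hk
      have ex := (hSES U).homology_exact₃ k (k + 1) rfl
      refine ex.isZero_of_both_zeros ?_ ?_
      · exact (hinj S.X₂ (inferInstanceAs (Injective (Injective.under N))) U k hk).eq_of_src _ _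
      · exact (hC U (k + 1) (Nat.succ_pos k)).eq_of_tgt _ _
    have ex := (Groth.Agent.Helper6.RDU.les G).exact₁ S hS (m + 1) (m + 1 + 1) rfl
    refine ex.isZero_of_both_zeros ?_ ?_
    · exact (ih S.X₃ hQ hCQ).eq_of_src _ _
    · exact (G.isZero_rightDerived_obj_injective_succ (m + 1) (Injective.under N)).eq_of_tgt _ _

end Groth.Agent.Helper3.DC3
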