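import Mathlib
/-!
# The cochain complex of a contravariant functor on an augmented simplicial object with an
extra degeneracy
-/
set_option autoImplicit false
universe w v u
open CategoryTheory CategoryTheory.Limits Opposite Simplicial
open CategoryTheory.SimplicialObject CategoryTheory.SimplicialObject.Augmented

namespace Groth.Agent.Helper3.DescCos

lemma down_symm : (ComplexShape.down ℕ).symm = ComplexShape.up ℕ := rfl

variable {C : Type u} [Category.{v} C] (Φ : Cᵒᵖ ⥤ AddCommGrpCat.{w})
  (X : SimplicialObject.Augmented C)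

/-- the augmented simplicial object of `AddCommGrpCatᵒᵖ` -/
noncomputable abbrev Y : SimplicialObject.Augmented AddCommGrpCat.{w}ᵒᵖ :=
  ((Augmented.whiskering _ _).obj Φ.rightOp).obj X

/-- the chain complex in the opposite category -/
noncomputable abbrev ch : ChainComplex AddCommGrpCat.{w}ᵒᵖ ℕ :=
  AlgebraicTopology.AlternatingFaceMapComplex.obj (drop.obj (Y Φ X))

/-- the cochain complex `p ↦ Φ(X_p)` -/
noncomputable def cx : CochainComplex AddCommGrpCat.{w} ℕ := (ch Φ X).unop

lemma cx_X (p : ℕ) : (cx Φ X).X p = Φ.obj (op (X.left.obj (op ⦋p⦌))) := rfl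

variable {X}

/-- the homology of `cx` -/
noncomputable def homologyIso (ed : ExtraDegeneracy X) (p : ℕ) :
    (cx Φ X).homology p ≅
      unop (((ChainComplex.single₀ AddCommGrpCat.{w}ᵒᵖ).obj (point.obj (Y Φ X))).homology p) :=
  (ch Φ X).homologyUnop p ≪≫ ((ed.map Φ.rightOp).homotopyEquiv.toHomologyIso p).symm.unop

lemma nonempty_homology_zero (ed : ExtraDegeneracy X) :
    Nonempty ((cx Φ X).homology 0 ≅ Φ.obj (op X.right)) := by
  refine ⟨homologyIso Φ ed 0 ≪≫ Iso.unop ?_⟩
  exact (HomologicalComplex.singleObjHomologySelfIso (ComplexShape.down ℕ) 0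
    (point.obj (Y Φ X))).symm

lemma isZero_homology (ed : ExtraDegeneracy X) (p : ℕ) (hp : p ≠ 0) :
    IsZero ((cx Φ X).homology p) := by
  refine IsZero.of_iso ?_ (homologyIso Φ ed p)
  have h : ((ChainComplex.single₀ AddCommGrpCat.{w}ᵒᵖ).obj (point.obj (Y Φ X))).ExactAt p :=
    HomologicalComplex.exactAt_single_obj _ _ _ _ hp
  exact (h.isZero_homology).unop

end Groth.Agent.Helper3.DescCos
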