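import Mathlib
import Groth.Agent.Lib.Helper3.CechAcy
import Groth.Agent.Lib.Helper3.CechExtG
import Groth.Agent.Lib.Helper3.DescCos

/-!
# Free abelian presheaves on representables, Čech-type complexes along a simplicial object
-/

set_option autoImplicit false
set_option backward.isDefEq.respectTransparency false
universe u
open CategoryTheory Limits Opposite Simplicial

namespace Groth.Agent.Helper3.DC4

variable {C : Type u} [SmallCategory C]

/-- free abelian presheaf on a representable -/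
abbrev zy : C ⥤ (Cᵒᵖ ⥤ AddCommGrpCat.{u}) :=
  yoneda ⋙ (Functor.whiskeringRight _ _ _).obj AddCommGrpCat.free.{u}

section yE

variable (X : C) (M : Cᵒᵖ ⥤ AddCommGrpCat.{u})

/-- the generator -/
def gen : ((zy.obj X).obj (op X)) := FreeAbelianGroup.of (𝟙 X)

/-- evaluation on the generator -/
def toM : (zy.obj X ⟶ M) →+ M.obj (op X) where
  toFun f := (f.app (op X)).hom (gen X)
  map_zero' := rfl
  map_add' f g := rfl

/-- the morphism determined by a section -/
def ofM (x : M.obj (op X)) : zy.obj X ⟶ M where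
  app W := AddCommGrpCat.ofHom (FreeAbelianGroup.lift fun (g : W.unop ⟶ X) => (M.map g.op).hom x)
  naturality W W' a := by
    apply AddCommGrpCat.hom_ext
    apply FreeAbelianGroup.lift_ext
    intro g
    change FreeAbelianGroup.lift (fun (g : W'.unop ⟶ X) => (M.map g.op).hom x)
        (FreeAbelianGroup.map ((yoneda.obj X).map a) (FreeAbelianGroup.of g)) =
      (M.map a).hom (FreeAbelianGroup.lift (fun (g : W.unop ⟶ X) => (M.map g.op).hom x)
        (FreeAbelianGroup.of g))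
    rw [FreeAbelianGroup.map_of_apply, FreeAbelianGroup.lift_apply_of, FreeAbelianGroup.lift_apply_of]
    change (M.map (a.unop ≫ g).op).hom x = (M.map a).hom ((M.map g.op).hom x)
    rw [op_comp, Quiver.Hom.op_unop, M.map_comp]
    rfl

lemma ofM_app_of (x : M.obj (op X)) {W : Cᵒᵖ} (g : W.unop ⟶ X) :
    ((ofM X M x).app W).hom (FreeAbelianGroup.of g) = (M.map g.op).hom x := by
  change FreeAbelianGroup.lift _ (FreeAbelianGroup.of g) = _
  rw [FreeAbelianGroup.lift_apply_of]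

lemma toM_ofM (x : M.obj (op X)) : toM X M (ofM X M x) = x := by
  change ((ofM X M x).app _).hom (FreeAbelianGroup.of (𝟙 X)) = x
  rw [ofM_app_of, op_id, M.map_id]
  rfl

lemma app_of (f : zy.obj X ⟶ M) {W : Cᵒᵖ} (g : W.unop ⟶ X) :
    (f.app W).hom (FreeAbelianGroup.of g) = (M.map g.op).hom (toM X M f) := by
  have h := ConcreteCategory.congr_hom (f.naturality g.op) (gen X)
  refine Eq.trans ?_ h
  change _ = (f.app W).hom (FreeAbelianGroup.map ((yoneda.obj X).map g.op)
    (FreeAbelianGroup.of (𝟙 X)))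
  rw [FreeAbelianGroup.map_of_apply]
  congr 2
  exact (Category.comp_id _).symm

lemma ofM_toM (f : zy.obj X ⟶ M) : ofM X M (toM X M f) = f := by
  apply NatTrans.ext
  funext W
  apply AddCommGrpCat.hom_ext
  apply FreeAbelianGroup.lift_ext
  intro g
  exact (ofM_app_of X M _ g).trans (app_of X M f g).symm

/-- Yoneda for free abelian presheaves -/
def yE : (zy.obj X ⟶ M) ≃+ M.obj (op X) :=
  { toM X M with
    invFun := ofM X M
    left_inv := ofM_toM X M
    right_inv := toM_ofM X M }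

lemma yE_apply (f : zy.obj X ⟶ M) : yE X M f = (f.app (op X)).hom (gen X) := rfl

lemma yE_symm_app_of (x : M.obj (op X)) {W : Cᵒᵖ} (g : W.unop ⟶ X) :
    (((yE X M).symm x).app W).hom (FreeAbelianGroup.of g) = (M.map g.op).hom x :=
  ofM_app_of X M x g

end yE

lemma yE_comp (X : C) {M M' : Cᵒᵖ ⥤ AddCommGrpCat.{u}} (g : zy.obj X ⟶ M) (α : M ⟶ M') :
    yE X M' (g ≫ α) = (α.app (op X)).hom (yE X M g) := rfl

lemma yE_map_comp {X X' : C} (a : X ⟶ X') (M : Cᵒᵖ ⥤ AddCommGrpCat.{u}) (g : zy.obj X' ⟶ M) :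
    yE X M (zy.map a ≫ g) = (M.map a.op).hom (yE X' M g) := by
  have h := app_of X' M g (W := op X) a
  refine Eq.trans ?_ h
  change (g.app _).hom (FreeAbelianGroup.map ((yoneda.map a).app (op X))
    (FreeAbelianGroup.of (𝟙 X))) = _
  rw [FreeAbelianGroup.map_of_apply]
  congr 2
  exact Category.id_comp _

lemma yE_symm_comp (X : C) {M M' : Cᵒᵖ ⥤ AddCommGrpCat.{u}} (y : M.obj (op X)) (α : M ⟶ M') :
    (yE X M').symm ((α.app (op X)).hom y) = (yE X M).symm y ≫ α := by
  apply (yE X M').injective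
  rw [AddEquiv.apply_symm_apply, yE_comp, AddEquiv.apply_symm_apply]

section complexes

variable (σ : SimplicialObject C)

/-- the chain complex of free abelian presheaves on the `σ_n` -/
noncomputable abbrev freeCx : ChainComplex (Cᵒᵖ ⥤ AddCommGrpCat.{u}) ℕ :=
  AlgebraicTopology.AlternatingFaceMapComplex.obj (σ ⋙ zy)

/-- the cochain complex `M ↦ M(σ_•)`, as a functor -/
noncomputable abbrev CCF : (Cᵒᵖ ⥤ AddCommGrpCat.{u}) ⥤ CochainComplex AddCommGrpCat.{u} ℕ :=
  (Functor.whiskeringLeft _ _ _).obj σ.rightOp ⋙ AlgebraicTopology.alternatingCofaceMapComplex _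

variable (M : Cᵒᵖ ⥤ AddCommGrpCat.{u})

lemma CCF_d (n : ℕ) : ((CCF σ).obj M).d n (n + 1) =
    ∑ j : Fin (n + 2), (-1 : ℤ) ^ (j : ℕ) • CosimplicialObject.δ (σ.rightOp ⋙ M) j := by
  exact CochainComplex.of_d (V := AddCommGrpCat.{u}) (fun n => (σ.rightOp ⋙ M).obj ⦋n⦌)
    (AlgebraicTopology.AlternatingCofaceMapComplex.objD (σ.rightOp ⋙ M)) n

open CechExtG in
lemma he (n : ℕ) (f : zy.obj (σ _⦋n⦌) ⟶ M) :
    yE (σ _⦋n + 1⦌) M ((freeCx σ).d (n + 1) n ≫ f) =
      (((CCF σ).obj M).d n (n + 1)).hom (yE (σ _⦋n⦌) M f) := by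
  have hL : (freeCx σ).d (n + 1) n =
      ∑ j : Fin (n + 2), (-1 : ℤ) ^ (j : ℕ) • SimplicialObject.δ (σ ⋙ zy) j :=
    AlgebraicTopology.AlternatingFaceMapComplex.obj_d_eq _ n
  rw [hL, CCF_d, Preadditive.sum_comp, map_sum]
  refine Eq.trans ?_ (hom_sum_apply _ _ _).symm
  refine Finset.sum_congr rfl fun j _ => ?_
  rw [Preadditive.zsmul_comp, map_zsmul]
  refine Eq.trans ?_ (hom_zsmul_apply _ _ _).symm
  congr 1
  exact yE_map_comp (σ.δ j) M f

variable {P : Cᵒᵖ ⥤ AddCommGrpCat.{u}}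
  (π : freeCx σ ⟶ (ChainComplex.single₀ _).obj P) [QuasiIso π]

include π in
lemma freeCx_exact (n : ℕ) : (ShortComplex.mk ((freeCx σ).d (n + 2) (n + 1))
    ((freeCx σ).d (n + 1) n) ((freeCx σ).d_comp_d _ _ _)).Exact := by
  have h : (freeCx σ).ExactAt (n + 1) := by
    rw [← quasiIsoAt_iff_exactAt' π (n + 1) (ChainComplex.exactAt_succ_single_obj _ _)]
    infer_instance
  exact (HomologicalComplex.exactAt_iff' _ (n + 2) (n + 1) n (by simp) (by simp)).1 h

include π in
/-- the complex `M(σ_•)` of an injective presheaf is exact in positive degrees -/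
theorem isZero_homology_of_injective [Injective M] (n : ℕ) :
    IsZero (((CCF σ).obj M).homology (n + 1)) := by
  rw [← HomologicalComplex.exactAt_iff_isZero_homology,
    HomologicalComplex.exactAt_iff' _ n (n + 1) (n + 2) (by simp) (by simp),
    ShortComplex.ab_exact_iff]
  intro x hx
  change (((CCF σ).obj M).d (n + 1) (n + 2)).hom x = 0 at hx
  change ∃ y, (((CCF σ).obj M).d n (n + 1)).hom y = x
  obtain ⟨g, rfl⟩ := (yE (σ _⦋n + 1⦌) M).surjective x
  rw [← he] at hx
  have hg : (freeCx σ).d (n + 2) (n + 1) ≫ g = 0 := by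
    apply (yE (σ _⦋n + 1 + 1⦌) M).injective
    exact hx.trans (map_zero _).symm
  let g' := (freeCx_exact σ π n).descToInjective g hg
  have hg' : (freeCx σ).d (n + 1) n ≫ g' = g := (freeCx_exact σ π n).comp_descToInjective g hg
  refine ⟨yE (σ _⦋n⦌) M g', ?_⟩
  rw [← he, hg']

omit [QuasiIso π] in
lemma d_yE_π (f : P ⟶ M) :
    (((CCF σ).obj M).d 0 1).hom (yE (σ _⦋0⦌) M (π.f 0 ≫ f)) = 0 := by
  rw [← he, ← Category.assoc, CechAcy.d_comp_π, zero_comp, map_zero]

include π in
lemma yE_π_injective (f f' : P ⟶ M)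
    (h : yE (σ _⦋0⦌) M (π.f 0 ≫ f) = yE (σ _⦋0⦌) M (π.f 0 ≫ f')) : f = f' := by
  have h' := (yE (σ _⦋0⦌) M).injective h
  haveI := CechAcy.epi_π _ _ π
  exact (cancel_epi (π.f 0)).1 h'

include π in
lemma exists_of_cycle (x : M.obj (op (σ _⦋0⦌))) (hx : (((CCF σ).obj M).d 0 1).hom x = 0) :
    ∃ f : P ⟶ M, yE (σ _⦋0⦌) M (π.f 0 ≫ f) = x := by
  let g := (yE (σ _⦋0⦌) M).symm x
  have hg : (freeCx σ).d 1 0 ≫ g = 0 := by
    apply (yE (σ _⦋0 + 1⦌) M).injective
    rw [he, AddEquiv.apply_symm_apply, hx, map_zero]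
  refine ⟨(CechAcy.isColimitCokernelCofork _ _ π).desc (CokernelCofork.ofπ g hg), ?_⟩
  have hfac : π.f 0 ≫ (CechAcy.isColimitCokernelCofork _ _ π).desc (CokernelCofork.ofπ g hg) = g :=
    (CechAcy.isColimitCokernelCofork _ _ π).fac (CokernelCofork.ofπ g hg) WalkingParallelPair.one
  rw [hfac]
  exact (yE (σ _⦋0⦌) M).apply_symm_apply x

end complexes

section ed

open CategoryTheory.SimplicialObject CategoryTheory.SimplicialObject.Augmented

variable (X : SimplicialObject.Augmented C) (M : Cᵒᵖ ⥤ AddCommGrpCat.{u})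

/-- comparison of the two models of the cochain complex -/
noncomputable def cxIso : DescCos.cx M X ≅ (CCF X.left).obj M :=
  HomologicalComplex.Hom.isoOfComponents (fun n => Iso.refl _) (by
    rintro i j (rfl : i + 1 = j)
    rw [CCF_d]
    change 𝟙 _ ≫ _ = ((DescCos.ch M X).d (i + 1) i).unop ≫ 𝟙 _
    rw [Category.id_comp, Category.comp_id]
    have h : (DescCos.ch M X).d (i + 1) i = _ :=
      AlgebraicTopology.AlternatingFaceMapComplex.obj_d_eq _ i
    rw [h, unop_sum]
    refine Finset.sum_congr rfl fun j _ => ?_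
    rw [unop_zsmul]
    rfl)

variable {X}

theorem isZero_homology_of_extraDegeneracy (ed : ExtraDegeneracy X) (n : ℕ) :
    IsZero (((CCF X.left).obj M).homology (n + 1)) :=
  IsZero.of_iso (DescCos.isZero_homology M ed (n + 1) (Nat.succ_ne_zero n))
    ((HomologicalComplex.homologyFunctor _ _ (n + 1)).mapIso (cxIso X M)).symm

lemma map_ε_injective (ed : ExtraDegeneracy X) :
    Function.Injective (M.map (X.hom.app (op ⦋0⦌)).op).hom := by
  intro a b hab
  have h : ∀ c : M.obj (op X.right), (M.map ed.s'.op).hom ((M.map (X.hom.app (op ⦋0⦌)).op).hom c) = c := by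
    intro c
    have h1 : M.map (X.hom.app (op ⦋0⦌)).op ≫ M.map ed.s'.op = 𝟙 _ := by
      rw [← M.map_comp, ← op_comp, ed.s'_comp_ε]
      exact M.map_id _
    exact ConcreteCategory.congr_hom h1 c
  rw [← h a, ← h b, hab]

lemma exists_of_cycle_ed (ed : ExtraDegeneracy X) (x : M.obj (op (X.left _⦋0⦌)))
    (hx : (((CCF X.left).obj M).d 0 1).hom x = 0) :
    ∃ y : M.obj (op X.right), (M.map (X.hom.app (op ⦋0⦌)).op).hom y = x := by
  have hd : (M.map (X.left.δ (0 : Fin 2)).op).hom x = (M.map (X.left.δ (1 : Fin 2)).op).hom x := by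
    rw [CCF_d] at hx
    rw [Fin.sum_univ_two] at hx
    simp only [Fin.val_zero, pow_zero, one_smul, Fin.val_one, pow_one, neg_smul] at hx
    rw [← sub_eq_add_neg] at hx
    have hx' : (M.map (X.left.δ (0 : Fin 2)).op).hom x - (M.map (X.left.δ (1 : Fin 2)).op).hom x = 0 :=
      hx
    exact sub_eq_zero.1 hx'
  refine ⟨(M.map ed.s'.op).hom x, ?_⟩
  have h0 : (M.map (ed.s 0).op).hom ((M.map (X.left.δ (0 : Fin 2)).op).hom x) = x := by
    have h1 : M.map (X.left.δ (0 : Fin 2)).op ≫ M.map (ed.s 0).op = 𝟙 _ := by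
      rw [← M.map_comp, ← op_comp, ed.s_comp_δ₀]
      exact M.map_id _
    exact ConcreteCategory.congr_hom h1 x
  have h1 : (M.map (ed.s 0).op).hom ((M.map (X.left.δ (1 : Fin 2)).op).hom x) =
      (M.map (X.hom.app (op ⦋0⦌)).op).hom ((M.map ed.s'.op).hom x) := by
    have h2 : M.map (X.left.δ (1 : Fin 2)).op ≫ M.map (ed.s 0).op =
        M.map ed.s'.op ≫ M.map (X.hom.app (op ⦋0⦌)).op := by
      rw [← M.map_comp, ← op_comp, ← M.map_comp, ← op_comp, ed.s₀_comp_δ₁]
    exact ConcreteCategory.congr_hom h2 x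
  rw [← h1, ← hd, h0]

end ed

section ran

variable {D : Type u} [SmallCategory D] (G : C ⥤ D)

/-- sections of a right Kan extension as morphisms from the restricted free presheaf -/
noncomputable def secEquiv (N : Cᵒᵖ ⥤ AddCommGrpCat.{u}) (X : D) :
    (G.op.ran.obj N).obj (op X) ≃ (G.op ⋙ zy.obj X ⟶ N) :=
  (yE X (G.op.ran.obj N)).symm.toEquiv.trans
    ((G.op.ranAdjunction AddCommGrpCat.{u}).homEquiv (zy.obj X) N).symm

lemma secEquiv_naturality {N N' : Cᵒᵖ ⥤ AddCommGrpCat.{u}} (α : N ⟶ N') (X : D)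
    (y : (G.op.ran.obj N).obj (op X)) :
    secEquiv G N' X (((G.op.ran.map α).app (op X)).hom y) = secEquiv G N X y ≫ α := by
  change ((G.op.ranAdjunction AddCommGrpCat.{u}).homEquiv (zy.obj X) N').symm
      ((yE X (G.op.ran.obj N')).symm (((G.op.ran.map α).app (op X)).hom y)) =
    ((G.op.ranAdjunction AddCommGrpCat.{u}).homEquiv (zy.obj X) N).symm
      ((yE X (G.op.ran.obj N)).symm y) ≫ α
  rw [yE_symm_comp, Adjunction.homEquiv_naturality_right_symm]

lemma secEquiv_unit (Q : Dᵒᵖ ⥤ AddCommGrpCat.{u}) (X : D) (x : Q.obj (op X)) :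
    secEquiv G (G.op ⋙ Q) X
      ((((G.op.ranAdjunction AddCommGrpCat.{u}).unit.app Q).app (op X)).hom x) =
      Functor.whiskerLeft G.op ((yE X Q).symm x) := by
  change ((G.op.ranAdjunction AddCommGrpCat.{u}).homEquiv (zy.obj X) (G.op ⋙ Q)).symm
      ((yE X (G.op.ran.obj (G.op ⋙ Q))).symm
        ((((G.op.ranAdjunction AddCommGrpCat.{u}).unit.app Q).app (op X)).hom x)) = _
  have h1 : (yE X (G.op.ran.obj (G.op ⋙ Q))).symm
      ((((G.op.ranAdjunction AddCommGrpCat.{u}).unit.app Q).app (op X)).hom x) =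
      (yE X Q).symm x ≫ (G.op.ranAdjunction AddCommGrpCat.{u}).unit.app Q :=
    yE_symm_comp X x _
  refine (congrArg _ h1).trans ?_
  apply ((G.op.ranAdjunction AddCommGrpCat.{u}).homEquiv (zy.obj X) (G.op ⋙ Q)).injective
  rw [Equiv.apply_symm_apply, Adjunction.homEquiv_unit]
  exact (G.op.ranAdjunction AddCommGrpCat.{u}).unit.naturality ((yE X Q).symm x)

end ran

end Groth.Agent.Helper3.DC4
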