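import Mathlib
import Groth.Prelude.Def_FibDesc
import Groth.Agent.Lib.Helper3.DC2
import Groth.Agent.Lib.Helper3.DC3
import Groth.Agent.Lib.Helper3.DC4
import Groth.Agent.Lib.Helper3.FreeQI
import Groth.Agent.Lib.Helper3.CechInj

/-!
# The Čech-type resolution on the total site of a simplicial space
-/

set_option autoImplicit false
set_option backward.isDefEq.respectTransparency false
open CategoryTheory Limits Opposite TopologicalSpace Pseudofunctor.CoGrothendieck Simplicial

universe u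
namespace Groth.Agent.Helper3.DC5

open DC2 DC4

noncomputable section

section simplex

open SSet.Augmented.StandardSimplex

lemma δ_zero_shift {n : ℕ} {Δ' : SimplexCategory} (φ : ⦋n⦌ ⟶ Δ') :
    SimplexCategory.δ 0 ≫ shift φ = φ := by
  apply SimplexCategory.Hom.ext
  ext i : 2
  rfl

lemma δ_succ_shift {n : ℕ} {Δ' : SimplexCategory} (φ : ⦋n + 1⦌ ⟶ Δ') (i : Fin (n + 2)) :
    SimplexCategory.δ i.succ ≫ shift φ = shift (SimplexCategory.δ i ≫ φ) := by
  apply SimplexCategory.Hom.ext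
  ext j : 2
  dsimp [SimplexCategory.δ]
  cases j using Fin.cases <;> simp

lemma σ_succ_shift {n : ℕ} {Δ' : SimplexCategory} (φ : ⦋n⦌ ⟶ Δ') (i : Fin (n + 1)) :
    SimplexCategory.σ i.succ ≫ shift φ = shift (SimplexCategory.σ i ≫ φ) := by
  apply SimplexCategory.Hom.ext
  ext j : 2
  dsimp [SimplexCategory.σ]
  cases j using Fin.cases <;> simp

lemma δ_one_shift {Δ' : SimplexCategory} (φ : ⦋0⦌ ⟶ Δ') :
    SimplexCategory.δ 1 ≫ shift φ = SimplexCategory.const ⦋0⦌ Δ' 0 := by
  apply SimplexCategory.Hom.ext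
  ext j : 2
  fin_cases j
  rfl

end simplex

variable (Y : (WithInitial SimplexCategory)ᵒᵖ ⥤ TopCat.{u})

/-- the total category of the simplicial part -/
abbrev TP := ∫ᶜ (FibDesc.part (FibDesc.topAug Y))

/-- the total category of the augmented simplicial space -/
abbrev TA := ∫ᶜ (FibDesc.topAug Y)

/-- the base space -/
abbrev S₀ : TopCat.{u} := Y.obj (FibDesc.bot SimplexCategory)

/-- the structure maps to the base -/
abbrev aug (i : (WithInitial SimplexCategory)ᵒᵖ) : Y.obj i ⟶ S₀ Y := Y.map (toBot i)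

/-- the simplicial index, augmented -/
abbrev tA (n : SimplexCategoryᵒᵖ) : (WithInitial SimplexCategory)ᵒᵖ :=
  (FibDesc.toAug SimplexCategory).obj n

lemma map_toBot {i i' : (WithInitial SimplexCategory)ᵒᵖ} (f : i ⟶ i') (U : Opens (S₀ Y)) :
    (Opens.map (Y.map f)).obj ((Opens.map (aug Y i')).obj U) = (Opens.map (aug Y i)).obj U := by
  have h : Y.map f ≫ aug Y i' = aug Y i := by
    rw [← Y.map_comp, toBot_unique (f ≫ toBot i') (toBot i)]
  rw [← h]
  rfl

/-- the fibre component as an open set -/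
abbrev fibP (t : TP Y) : Opens (Y.obj (tA t.base)) := t.fiber

/-- the preimage of an open of the base in `Y_n` -/
abbrev preU (U : Opens (S₀ Y)) (n : SimplexCategoryᵒᵖ) : Opens (Y.obj (tA n)) :=
  (Opens.map (aug Y (tA n))).obj U

/-- the object `(n, a_n⁻¹ U)` -/
def secObj (U : Opens (S₀ Y)) (n : SimplexCategoryᵒᵖ) : TP Y := ⟨n, preU Y U n⟩

/-- constructor for morphisms to `(n, a_n⁻¹ U)` -/
def homSec (U : Opens (S₀ Y)) (t : TP Y) (n : SimplexCategoryᵒᵖ) (φ : t.base ⟶ n)
    (h : fibP Y t ≤ preU Y U t.base) : t ⟶ secObj Y U n :=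
  ⟨φ, (homOfLE (h.trans (le_of_eq (map_toBot Y ((FibDesc.toAug SimplexCategory).map φ) U).symm)) :
    fibP Y t ⟶ (Opens.map (Y.map ((FibDesc.toAug SimplexCategory).map φ))).obj (preU Y U n))⟩

lemma le_of_hom_sec {U : Opens (S₀ Y)} {t : TP Y} {n : SimplexCategoryᵒᵖ} (g : t ⟶ secObj Y U n) :
    fibP Y t ≤ preU Y U t.base := by
  have h : fibP Y t ≤ (Opens.map (Y.map ((FibDesc.toAug SimplexCategory).map g.base))).obj
      (preU Y U n) := leOfHom g.fiber
  exact h.trans (le_of_eq (map_toBot Y ((FibDesc.toAug SimplexCategory).map g.base) U))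

lemma homP_ext {t t' : TP Y} (f g : t ⟶ t') (h : f.base = g.base) : f = g :=
  hom_ext_base (thin_part Y) f g h

/-- the simplicial object `n ↦ (n, a_n⁻¹ U)` of the total category -/
def sec (U : Opens (S₀ Y)) : SimplicialObject (TP Y) where
  obj n := secObj Y U n
  map {n m} φ := homSec Y U (secObj Y U n) m φ le_rfl
  map_id n := homP_ext Y _ _ rfl
  map_comp f g := homP_ext Y _ _ rfl

/-- the canonical map `(n, a_n⁻¹ U) ⟶ (⋆, U)` in the augmented total category -/
def cAug (U : Opens (S₀ Y)) (n : SimplexCategoryᵒᵖ) :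
    (FibDesc.incl (FibDesc.topAug Y)).obj ((sec Y U).obj n) ⟶
      (FibDesc.eps (FibDesc.topAug Y)).obj U :=
  homEps Y _ U le_rfl

/-- the augmented simplicial presheaf of sets `Hom(-, σ_U •) ⟶ Hom(incl -, (⋆, U))` -/
def Aset (U : Opens (S₀ Y)) : SimplicialObject.Augmented ((TP Y)ᵒᵖ ⥤ Type u) where
  left := sec Y U ⋙ yoneda
  right := (FibDesc.incl (FibDesc.topAug Y)).op ⋙ yoneda.obj ((FibDesc.eps (FibDesc.topAug Y)).obj U)
  hom :=
    { app := fun n =>
        { app := fun t => ↾fun (g : t.unop ⟶ (sec Y U).obj n) =>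
            (FibDesc.incl (FibDesc.topAug Y)).map g ≫ cAug Y U n
          naturality := by
            intro t t' a
            ext g
            exact hom_eps_ext Y _ _ }
      naturality := by
        intro n m φ
        ext t g
        exact hom_eps_ext Y _ _ }

open SSet.Augmented.StandardSimplex in
/-- the pointwise extra degeneracy -/
def edPt (U : Opens (S₀ Y)) (t : (TP Y)ᵒᵖ) :
    SimplicialObject.Augmented.ExtraDegeneracy (FreeQI.evalAug (Aset Y U) t) where
  s' := ↾fun (c : (FibDesc.incl (FibDesc.topAug Y)).obj t.unop ⟶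
      (FibDesc.eps (FibDesc.topAug Y)).obj U) =>
    homSec Y U t.unop (op ⦋0⦌) (SimplexCategory.const ⦋0⦌ t.unop.base.unop 0).op (le_of_hom_eps Y c)
  s n := ↾fun (g : t.unop ⟶ (sec Y U).obj (op ⦋n⦌)) =>
    homSec Y U t.unop (op ⦋n + 1⦌) (shift g.base.unop).op (le_of_hom_sec Y g)
  s'_comp_ε := by
    ext c
    exact hom_eps_ext Y _ _
  s₀_comp_δ₁ := by
    ext g
    apply homP_ext
    exact congrArg Quiver.Hom.op (δ_one_shift g.base.unop)
  s_comp_δ₀ n := by
    ext g
    apply homP_ext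
    exact congrArg Quiver.Hom.op (δ_zero_shift g.base.unop)
  s_comp_δ n i := by
    ext g
    apply homP_ext
    exact congrArg Quiver.Hom.op (δ_succ_shift g.base.unop i)
  s_comp_σ n i := by
    ext g
    apply homP_ext
    exact congrArg Quiver.Hom.op (σ_succ_shift g.base.unop i)

/-- the free abelian presheaf `t ↦ ℤ[Hom(incl t, (⋆, U))]` -/
abbrev PU (U : Opens (S₀ Y)) : (TP Y)ᵒᵖ ⥤ AddCommGrpCat.{u} :=
  (FibDesc.incl (FibDesc.topAug Y)).op ⋙ zy.obj ((FibDesc.eps (FibDesc.topAug Y)).obj U)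

/-- the resolution of `PU` by the free presheaves on the `(n, a_n⁻¹ U)` -/
def πU (U : Opens (S₀ Y)) : freeCx (sec Y U) ⟶ (ChainComplex.single₀ _).obj (PU Y U) :=
  AlgebraicTopology.AlternatingFaceMapComplex.ε.app (FreeQI.freeAug (Aset Y U))

instance quasiIso_πU (U : Opens (S₀ Y)) : QuasiIso (πU Y U) :=
  FreeQI.quasiIso_ε_freeAug (Aset Y U) (fun t => ⟨edPt Y U t⟩)

lemma πU_f_zero_app_of (U : Opens (S₀ Y)) (t : (TP Y)ᵒᵖ) (g : t.unop ⟶ (sec Y U).obj (op ⦋0⦌)) :
    (((πU Y U).f 0).app t).hom (FreeAbelianGroup.of g) =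
      FreeAbelianGroup.of ((FibDesc.incl (FibDesc.topAug Y)).map g ≫ cAug Y U (op ⦋0⦌)) := by
  have h : (πU Y U).f 0 = (FreeQI.freeAug (Aset Y U)).hom.app (op ⦋0⦌) :=
    AlgebraicTopology.AlternatingFaceMapComplex.ε_app_f_zero _
  rw [h]
  change FreeAbelianGroup.map _ (FreeAbelianGroup.of g) = _
  rw [FreeAbelianGroup.map_of_apply]
  rfl

section cyc

variable (U : Opens (S₀ Y)) (N : (TP Y)ᵒᵖ ⥤ AddCommGrpCat.{u})

/-- the `0`-cochain of the complex `N(σ_U •)` attached to a section of the right Kan extension of `N`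
over `(⋆, U)` -/
def cycOf (y : ((FibDesc.incl (FibDesc.topAug Y)).op.ran.obj N).obj
    (op ((FibDesc.eps (FibDesc.topAug Y)).obj U))) : N.obj (op ((sec Y U) _⦋0⦌)) :=
  yE ((sec Y U) _⦋0⦌) N ((πU Y U).f 0 ≫
    secEquiv (FibDesc.incl (FibDesc.topAug Y)) N ((FibDesc.eps (FibDesc.topAug Y)).obj U) y)

lemma d_cycOf (y : ((FibDesc.incl (FibDesc.topAug Y)).op.ran.obj N).obj
    (op ((FibDesc.eps (FibDesc.topAug Y)).obj U))) :
    (((CCF (sec Y U)).obj N).d 0 1).hom (cycOf Y U N y) = 0 :=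
  d_yE_π (sec Y U) N (πU Y U) _

lemma cycOf_injective : Function.Injective (cycOf Y U N) := by
  intro y y' h
  have h' := yE_π_injective (sec Y U) N (πU Y U) _ _ h
  exact (secEquiv _ N _).injective h'

lemma exists_cycOf (x : N.obj (op ((sec Y U) _⦋0⦌)))
    (hx : (((CCF (sec Y U)).obj N).d 0 1).hom x = 0) : ∃ y, cycOf Y U N y = x := by
  obtain ⟨f, hf⟩ := exists_of_cycle (sec Y U) N (πU Y U) x hx
  refine ⟨(secEquiv _ N _).symm f, ?_⟩
  unfold cycOf
  rw [Equiv.apply_symm_apply]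
  exact hf

variable {N} in
lemma cycOf_naturality {N' : (TP Y)ᵒᵖ ⥤ AddCommGrpCat.{u}} (α : N ⟶ N')
    (y : ((FibDesc.incl (FibDesc.topAug Y)).op.ran.obj N).obj
      (op ((FibDesc.eps (FibDesc.topAug Y)).obj U))) :
    cycOf Y U N' ((((FibDesc.incl (FibDesc.topAug Y)).op.ran.map α).app _).hom y) =
      (α.app _).hom (cycOf Y U N y) := by
  unfold cycOf
  rw [secEquiv_naturality, ← Category.assoc, yE_comp]

lemma cycOf_unit (Q : (TA Y)ᵒᵖ ⥤ AddCommGrpCat.{u})
    (x : Q.obj (op ((FibDesc.eps (FibDesc.topAug Y)).obj U))) :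
    cycOf Y U ((FibDesc.incl (FibDesc.topAug Y)).op ⋙ Q)
      (((((FibDesc.incl (FibDesc.topAug Y)).op.ranAdjunction AddCommGrpCat.{u}).unit.app Q).app
        (op ((FibDesc.eps (FibDesc.topAug Y)).obj U))).hom x) =
      (Q.map (cAug Y U (op ⦋0⦌)).op).hom x := by
  unfold cycOf
  rw [secEquiv_unit, yE_apply]
  change ((yE _ Q).symm x).app _ ((((πU Y U).f 0).app _).hom (FreeAbelianGroup.of (𝟙 _))) = _
  rw [πU_f_zero_app_of, yE_symm_app_of]
  exact congrArg (fun m => (Q.map (Quiver.Hom.op m)).hom x) (hom_eps_ext Y _ _)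

end cyc

section sheaf

open Groth.Agent.Lib.Helper5

instance ι_part_continuous (n : SimplexCategoryᵒᵖ) :
    (ι (FibDesc.part (FibDesc.topAug Y)) n).IsContinuous
      (FibDesc.partTop (FibDesc.topAug Y) (FibDesc.topAugTop Y) n)
      (FibSite.totalTopology (FibDesc.part (FibDesc.topAug Y))
        (FibDesc.partTop (FibDesc.topAug Y) (FibDesc.topAugTop Y))) :=
  FibTot.isContinuous_ι _ (isPreFibSite_part Y) n

instance ι_part_cocontinuous (n : SimplexCategoryᵒᵖ) :
    (ι (FibDesc.part (FibDesc.topAug Y)) n).IsCocontinuous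
      (FibDesc.partTop (FibDesc.topAug Y) (FibDesc.topAugTop Y) n)
      (FibSite.totalTopology (FibDesc.part (FibDesc.topAug Y))
        (FibDesc.partTop (FibDesc.topAug Y) (FibDesc.topAugTop Y))) :=
  FibTot.isCocontinuous_ι _ (isPreFibSite_part Y) n

/-- abelian sheaves on the total site of the simplicial part -/
abbrev DShY := FibDesc.DSh (FibDesc.topAug Y) (FibDesc.topAugTop Y) AddCommGrpCat.{u}

/-- the direct image to the base -/
abbrev pushY : DShY Y ⥤ FibDesc.BaseSh (FibDesc.topAug Y) (FibDesc.topAugTop Y) AddCommGrpCat.{u} :=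
  FibDesc.push (FibDesc.topAug Y) (FibDesc.topAugTop Y) AddCommGrpCat.{u}

/-- the Čech-type complex of a sheaf -/
abbrev CxU (U : Opens (S₀ Y)) : DShY Y ⥤ CochainComplex AddCommGrpCat.{u} ℕ :=
  sheafToPresheaf _ _ ⋙ CCF (sec Y U)

lemma epi_push_map {N N' : DShY Y} (g : N ⟶ N')
    (h : ∀ (U : Opens (S₀ Y)) (x' : N'.obj.obj (op ((sec Y U) _⦋0⦌))),
      (((CCF (sec Y U)).obj N'.obj).d 0 1).hom x' = 0 →
      ∃ x : N.obj.obj (op ((sec Y U) _⦋0⦌)), (((CCF (sec Y U)).obj N.obj).d 0 1).hom x = 0 ∧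
        (g.hom.app _).hom x = x') :
    Epi ((pushY Y).map g) := by
  have hs : ∀ V : (Opens (S₀ Y))ᵒᵖ, Function.Surjective (((pushY Y).map g).hom.app V).hom := by
    intro V y'
    obtain ⟨x, hx, hxx⟩ := h V.unop (cycOf Y V.unop N'.obj y') (d_cycOf Y V.unop N'.obj y')
    obtain ⟨y, hy⟩ := exists_cycOf Y V.unop N.obj x hx
    refine ⟨y, ?_⟩
    apply cycOf_injective Y V.unop N'.obj
    rw [← hxx, ← hy]
    exact cycOf_naturality Y V.unop g.hom y
  haveI : Sheaf.IsLocallySurjective ((pushY Y).map g) :=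
    Presheaf.isLocallySurjective_of_surjective _ _ hs
  exact (Sheaf.isLocallySurjective_iff_epi' (φ := (pushY Y).map g)).1 inferInstance

lemma isZero_homology_CxU_of_injective (I : DShY Y) [Injective I] (U : Opens (S₀ Y)) (n : ℕ) :
    IsZero (((CxU Y U).obj I).homology (n + 1)) := by
  haveI : Injective I.obj := CechInj.injective_sheaf_obj _ I
  exact isZero_homology_of_injective (sec Y U) I.obj (πU Y U) n

/-- restriction to the level `n` -/
abbrev restrN (n : SimplexCategoryᵒᵖ) :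
    DShY Y ⥤ Sheaf (Opens.grothendieckTopology (Y.obj (tA n))) AddCommGrpCat.{u} :=
  FibSite.restr (FibDesc.part (FibDesc.topAug Y))
    (FibDesc.partTop (FibDesc.topAug Y) (FibDesc.topAugTop Y)) AddCommGrpCat.{u} n

/-- levelwise flasque sheaves -/
def LevelFlasque (N : DShY Y) : Prop :=
  ∀ n : SimplexCategoryᵒᵖ, TopCat.Sheaf.IsFlasque (X := Y.obj (tA n)) ((restrN Y n).obj N)

lemma mono_ι_map (n : SimplexCategoryᵒᵖ) {V W : Opens (Y.obj (tA n))} (i : V ⟶ W) :
    Mono ((ι (FibDesc.part (FibDesc.topAug Y)) n).map i) :=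
  ⟨fun f g h => homP_ext Y f g (by
    have h' : f.base ≫ 𝟙 n = g.base ≫ 𝟙 n := congrArg Hom.base h
    exact (Category.comp_id f.base).symm.trans (h'.trans (Category.comp_id g.base)))⟩

lemma mono_zy_map {C : Type u} [SmallCategory C] {X X' : C} (m : X ⟶ X') [Mono m] :
    Mono (zy.map m) := by
  rw [NatTrans.mono_iff_mono_app]
  intro t
  haveI : Mono ((yoneda.map m).app t) := by
    rw [mono_iff_injective]
    intro a b h
    exact (cancel_mono m).1 h
  exact inferInstanceAs (Mono (AddCommGrpCat.free.map ((yoneda.map m).app t)))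

lemma levelFlasque_of_injective (I : DShY Y) [Injective I] : LevelFlasque Y I := by
  intro n
  haveI : Injective I.obj := CechInj.injective_sheaf_obj _ I
  constructor
  intro U V i
  rw [AddCommGrpCat.epi_iff_surjective]
  intro x
  haveI := mono_ι_map Y n i.unop
  haveI := mono_zy_map ((ι (FibDesc.part (FibDesc.topAug Y)) n).map i.unop)
  let g := (yE _ I.obj).symm x
  refine ⟨yE _ I.obj (Injective.factorThru g
    (zy.map ((ι (FibDesc.part (FibDesc.topAug Y)) n).map i.unop))), ?_⟩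
  have h := yE_map_comp ((ι (FibDesc.part (FibDesc.topAug Y)) n).map i.unop) I.obj
    (Injective.factorThru g (zy.map ((ι (FibDesc.part (FibDesc.topAug Y)) n).map i.unop)))
  rw [Injective.comp_factorThru] at h
  exact h.symm.trans ((yE _ I.obj).apply_symm_apply x)

instance restrN_preservesFiniteLimits (n : SimplexCategoryᵒᵖ) :
    PreservesFiniteLimits (restrN Y n) := by
  infer_instance

instance restrN_preservesFiniteColimits (n : SimplexCategoryᵒᵖ) :
    PreservesFiniteColimits (restrN Y n) := by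
  haveI : (restrN Y n).IsLeftAdjoint :=
    ((ι (FibDesc.part (FibDesc.topAug Y)) n).sheafAdjunctionCocontinuous AddCommGrpCat.{u}
      (FibDesc.partTop (FibDesc.topAug Y) (FibDesc.topAugTop Y) n)
      (FibSite.totalTopology (FibDesc.part (FibDesc.topAug Y))
        (FibDesc.partTop (FibDesc.topAug Y) (FibDesc.topAugTop Y)))).isLeftAdjoint
  infer_instance

lemma shortExact_restrN {S : ShortComplex (DShY Y)} (hS : S.ShortExact) (n : SimplexCategoryᵒᵖ) :
    (S.map (restrN Y n)).ShortExact :=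
  hS.map_of_exact (restrN Y n)

/-- sections over an object of the total site -/
abbrev secAt (t : TP Y) : DShY Y ⥤ AddCommGrpCat.{u} :=
  sheafToPresheaf _ _ ⋙ (evaluation _ _).obj (op t)

instance (U : Opens (S₀ Y)) : (CxU Y U).PreservesZeroMorphisms where
  map_zero N N' := by
    ext k
    rfl

lemma h𝔉 (S : ShortComplex (DShY Y)) (hS : S.ShortExact) (h1 : LevelFlasque Y S.X₁)
    (h2 : Injective S.X₂) :
    LevelFlasque Y S.X₃ ∧ ∀ U : Opens (S₀ Y), (S.map (CxU Y U)).ShortExact := by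
  have h2' := levelFlasque_of_injective Y S.X₂
  constructor
  · intro n
    haveI : TopCat.Sheaf.IsFlasque (X := Y.obj (tA n)) (S.map (restrN Y n)).X₁ := h1 n
    haveI : TopCat.Sheaf.IsFlasque (X := Y.obj (tA n)) (S.map (restrN Y n)).X₂ := h2' n
    exact TopCat.Sheaf.IsFlasque.of_shortExact_of_isFlasque₁₂ (X := Y.obj (tA n))
      (shortExact_restrN Y hS n)
  · intro U
    apply HomologicalComplex.shortExact_of_degreewise_shortExact
    intro k
    have hl := ((Functor.preservesFiniteLimits_tfae (secAt Y ((sec Y U) _⦋k⦌))).out 1 3 rfl rfl).mpr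
      inferInstance S ⟨hS.exact, hS.mono_f⟩
    haveI : TopCat.Sheaf.IsFlasque (X := Y.obj (tA (op ⦋k⦌))) (S.map (restrN Y (op ⦋k⦌))).X₁ :=
      h1 (op ⦋k⦌)
    have he : Epi ((S.map (secAt Y ((sec Y U) _⦋k⦌))).g) :=
      TopCat.Sheaf.IsFlasque.epi_of_shortExact (X := Y.obj (tA (op ⦋k⦌)))
        (U := preU Y U (op ⦋k⦌)) (shortExact_restrN Y hS (op ⦋k⦌))
    have hse : (S.map (secAt Y ((sec Y U) _⦋k⦌))).ShortExact :=
      ShortComplex.ShortExact.mk' hl.1 hl.2 he
    exact hse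

theorem isZero_rightDerived_push (N : DShY Y) (hN : LevelFlasque Y N)
    (hC : ∀ (U : Opens (S₀ Y)) (k : ℕ), 0 < k → IsZero (((CxU Y U).obj N).homology k)) (n : ℕ) :
    IsZero (((pushY Y).rightDerived (n + 1)).obj N) := by
  haveI : PreservesFiniteLimits (pushY Y) := PreservesLimitsOfSize.preservesFiniteLimits _
  refine DC3.isZero_rightDerived (FibDesc.topAugTop Y (FibDesc.bot SimplexCategory)) (pushY Y)
    (fun U => CxU Y U) ?_ (LevelFlasque Y) (h𝔉 Y) ?_ n N hN hC
  · intro N N' g h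
    exact epi_push_map Y g h
  · intro I hI U k hk
    obtain ⟨k, rfl⟩ := Nat.exists_eq_succ_of_ne_zero (Nat.pos_iff_ne_zero.1 hk)
    exact isZero_homology_CxU_of_injective Y I U k

end sheaf

end

end Groth.Agent.Helper3.DC5
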