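import Mathlib
import Groth.Prelude.Def_FibDesc
import Groth.Agent.Lib.Helper3.DC5

/-!
# The split site: the total site of the spaces `Y_i` over the category of all maps over the base
-/

set_option autoImplicit false
set_option backward.isDefEq.respectTransparency false
open CategoryTheory Limits Opposite TopologicalSpace Pseudofunctor.CoGrothendieck Simplicial

universe u
namespace Groth.Agent.Helper3.DC6

open DC2 DC4 DC5 Groth.Agent.Lib.Helper5

noncomputable section

section generic

universe v₁ u₁ v₂ u₂ v₃ u₃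

variable {C : Type u₁} [Category.{v₁} C] {D : Type u₂} [Category.{v₂} D]
  {H : Type u₃} [Category.{v₃} H]

/-- the identity structured arrow is initial as soon as the functor is bijective on morphisms out of
the given object -/
def mkIdInitial' (T : C ⥤ D) (X : C)
    (h : ∀ Z : C, Function.Bijective (fun f : X ⟶ Z => T.map f)) :
    IsInitial (StructuredArrow.mk (𝟙 (T.obj X)) : StructuredArrow (T.obj X) T) where
  desc c := StructuredArrow.homMk ((h c.pt.right).2 c.pt.hom).choose
    ((Category.id_comp _).trans ((h c.pt.right).2 c.pt.hom).choose_spec)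
  uniq c m _ := by
    apply CommaMorphism.ext
    · exact Subsingleton.elim _ _
    · apply (h c.pt.right).1
      have h1 := ((h c.pt.right).2 c.pt.hom).choose_spec
      have h2 : 𝟙 (T.obj X) ≫ T.map m.right = c.pt.hom := StructuredArrow.w m
      rw [Category.id_comp] at h2
      exact h2.trans h1.symm

lemma isIso_ranCounit_app_of_bijective (L : C ⥤ D) (F : C ⥤ H)
    [∀ F : C ⥤ H, L.HasPointwiseRightKanExtension F] (X : C)
    (h : ∀ Z : C, Function.Bijective (fun f : X ⟶ Z => L.map f)) :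
    IsIso ((L.ranCounit.app F).app X) := by
  simpa using (L.isPointwiseRightKanExtensionRanCounit F (L.obj X)).isIso_π_app_of_isInitial _
    (mkIdInitial' L X h)

end generic

/-- the index category: the objects are the indices, the morphisms all continuous maps over the base -/
structure BT (Y : (WithInitial SimplexCategory)ᵒᵖ ⥤ TopCat.{u}) where
  /-- the index -/
  idx : (WithInitial SimplexCategory)ᵒᵖ

variable (Y : (WithInitial SimplexCategory)ᵒᵖ ⥤ TopCat.{u})

variable {Y} in
/-- morphisms over the base -/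
@[ext]
structure BT.Hom (a b : BT Y) where
  /-- the continuous map -/
  map : Y.obj a.idx ⟶ Y.obj b.idx
  /-- it commutes with the maps to the base -/
  w : map ≫ aug Y b.idx = aug Y a.idx

instance : Category (BT Y) where
  Hom a b := BT.Hom a b
  id a := ⟨𝟙 _, Category.id_comp _⟩
  comp f g := ⟨f.map ≫ g.map, by rw [Category.assoc, g.w, f.w]⟩
  id_comp f := BT.Hom.ext (Category.id_comp _)
  comp_id f := BT.Hom.ext (Category.comp_id _)
  assoc f g h := BT.Hom.ext (Category.assoc _ _ _)

variable {Y} in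
@[ext]
lemma BT.hom_ext {a b : BT Y} (f g : a ⟶ b) (h : f.map = g.map) : f = g := BT.Hom.ext h

@[simp] lemma BT.id_map (a : BT Y) : (𝟙 a : a ⟶ a).map = 𝟙 _ := rfl
@[simp] lemma BT.comp_map {a b c : BT Y} (f : a ⟶ b) (g : b ⟶ c) : (f ≫ g).map = f.map ≫ g.map := rfl

/-- the underlying spaces -/
def ZT : BT Y ⥤ TopCat.{u} where
  obj a := Y.obj a.idx
  map f := f.map

/-- the functor from the index category of the augmented simplicial space -/
def k₀ : (WithInitial SimplexCategory)ᵒᵖ ⥤ BT Y where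
  obj i := ⟨i⟩
  map {i j} f := ⟨Y.map f, by
    change Y.map f ≫ Y.map _ = Y.map _
    rw [← Y.map_comp, toBot_unique (f ≫ toBot j) (toBot i)]⟩
  map_id i := BT.Hom.ext (Y.map_id i)
  map_comp f g := BT.Hom.ext (Y.map_comp f g)

/-- the fibred category of open sets over `BT` -/
abbrev FT : Pseudofunctor (LocallyDiscrete (BT Y)ᵒᵖ) Cat.{u, u} :=
  ((ZT Y).op ⋙ FibDesc.opensCat).toPseudofunctor'

/-- its fibre topologies -/
abbrev JT : FibSite.Topologies (FT Y) :=
  fun b => Opens.grothendieckTopology (Y.obj b.idx)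

example (b : BT Y) : ((FT Y).obj ⟨op b⟩ : Type u) = Opens (Y.obj b.idx) := rfl

example {a b : BT Y} (f : a ⟶ b) : FibSite.invImage (FT Y) f = Opens.map f.map := rfl

lemma thin_FT : Thin (FT Y) := by
  intro S a b
  change Subsingleton ((a : Opens (Y.obj S.idx)) ⟶ (b : Opens (Y.obj S.idx)))
  infer_instance

theorem isPreFibSite_FT : FibSite.IsPreFibSite (FT Y) (JT Y) := by
  intro R S f
  exact inferInstanceAs ((Opens.map f.map).IsContinuous
    (Opens.grothendieckTopology (Y.obj S.idx)) (Opens.grothendieckTopology (Y.obj R.idx)))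

/-- the total category of the split site -/
abbrev TT := ∫ᶜ (FT Y)

/-- its topology -/
abbrev KT : GrothendieckTopology (TT Y) := FibSite.totalTopology (FT Y) (JT Y)

lemma homT_ext {t t' : TT Y} (f g : t ⟶ t') (h : f.base = g.base) : f = g :=
  hom_ext_base (thin_FT Y) f g h

/-- the functor from the total category of the augmented simplicial space -/
def kT : TA Y ⥤ TT Y where
  obj X := ⟨⟨X.base⟩, X.fiber⟩
  map φ := ⟨(k₀ Y).map φ.base, φ.fiber⟩
  map_id X := homT_ext Y _ _ ((k₀ Y).map_id _)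
  map_comp f g := homT_ext Y _ _ ((k₀ Y).map_comp _ _)

/-- the base point of the index category -/
abbrev botT : BT Y := ⟨FibDesc.bot SimplexCategory⟩

lemma aug_bot : aug Y (FibDesc.bot SimplexCategory) = 𝟙 _ := by
  change Y.map _ = _
  rw [toBot_unique (toBot (FibDesc.bot SimplexCategory)) (𝟙 _), Y.map_id]

/-- the unique map to the base point -/
def toBotT (a : BT Y) : a ⟶ botT Y := ⟨aug Y a.idx, by
  change aug Y a.idx ≫ aug Y (FibDesc.bot SimplexCategory) = _
  rw [aug_bot, Category.comp_id]⟩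

lemma toBotT_unique {a : BT Y} (f g : a ⟶ botT Y) : f = g := by
  have h : ∀ f : a ⟶ botT Y, f.map = aug Y a.idx := by
    intro f
    have hf : f.map ≫ aug Y (FibDesc.bot SimplexCategory) = aug Y a.idx := f.w
    rwa [aug_bot, Category.comp_id] at hf
  exact BT.hom_ext _ _ ((h f).trans (h g).symm)

/-- the inclusion of the base fibre in the split site -/
abbrev epsT : Opens (S₀ Y) ⥤ TT Y := ι (FT Y) (botT Y)

lemma hom_epsT_ext {t : TT Y} {U : Opens (S₀ Y)} (f g : t ⟶ (epsT Y).obj U) : f = g :=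
  homT_ext Y f g (toBotT_unique Y _ _)

/-- the fibre component as an open set -/
abbrev fibT (t : TT Y) : Opens (Y.obj t.base.idx) := t.fiber

lemma le_of_hom_epsT {t : TT Y} {U : Opens (S₀ Y)} (f : t ⟶ (epsT Y).obj U) :
    fibT Y t ≤ (Opens.map (aug Y t.base.idx)).obj U := by
  obtain ⟨b, φ⟩ := f
  obtain rfl : b = toBotT Y _ := toBotT_unique Y _ _
  exact leOfHom φ

/-- the two inclusions of the base fibre agree -/
def epsIso : FibDesc.eps (FibDesc.topAug Y) ⋙ kT Y ≅ epsT Y :=
  NatIso.ofComponents (fun U => Iso.refl _) (by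
    intro U V g
    apply homT_ext
    change ((k₀ Y).map (𝟙 _)) ≫ 𝟙 _ = 𝟙 _ ≫ 𝟙 _
    rw [(k₀ Y).map_id])

/-- the fibre inclusions correspond -/
def ιkIso (i : (WithInitial SimplexCategory)ᵒᵖ) :
    ι (FibDesc.topAug Y) i ⋙ kT Y ≅ ι (FT Y) ⟨i⟩ :=
  NatIso.ofComponents (fun U => Iso.refl _) (by
    intro U V g
    apply homT_ext
    change ((k₀ Y).map (𝟙 _)) ≫ 𝟙 _ = 𝟙 _ ≫ 𝟙 _
    rw [(k₀ Y).map_id])

instance epsT_continuous : (epsT Y).IsContinuous (JT Y (botT Y)) (KT Y) :=
  FibTot.isContinuous_ι _ (isPreFibSite_FT Y) _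

instance epsT_cocontinuous : (epsT Y).IsCocontinuous (JT Y (botT Y)) (KT Y) :=
  FibTot.isCocontinuous_ι _ (isPreFibSite_FT Y) _

instance kT_continuous : (kT Y).IsContinuous
    (FibDesc.totAug (FibDesc.topAug Y) (FibDesc.topAugTop Y)) (KT Y) := by
  rw [FibTot.isContinuous_iff _ (isPreFibSite Y)]
  intro i
  haveI := FibTot.isContinuous_ι _ (isPreFibSite_FT Y) (⟨i⟩ : BT Y)
  exact Functor.isContinuous_of_iso (ιkIso Y i).symm _ _

lemma kT_map_ι_map (i : (WithInitial SimplexCategory)ᵒᵖ) {U V : Opens (Y.obj i)} (g : U ⟶ V) :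
    (kT Y).map ((ι (FibDesc.topAug Y) i).map g) = (ι (FT Y) ⟨i⟩).map g := by
  apply homT_ext
  exact (k₀ Y).map_id _

instance kT_cocontinuous : (kT Y).IsCocontinuous
    (FibDesc.totAug (FibDesc.topAug Y) (FibDesc.topAugTop Y)) (KT Y) where
  cover_lift {t T} hT := by
    obtain ⟨R, hR, hle⟩ := (FibTot.mem_totalTopology_iff _ (isPreFibSite_FT Y) _ T).1 hT
    refine (FibTot.mem_totalTopology_iff _ (isPreFibSite Y) _ _).2 ⟨R, hR, ?_⟩
    rintro Z h ⟨W, e, b, he, rfl⟩
    change T ((kT Y).map (b ≫ _))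
    rw [Functor.map_comp]
    apply T.downward_closed
    rw [kT_map_ι_map]
    exact hle _ (Sieve.image_mem_functorPushforward _ _ he)

section ed

/-- constructor for morphisms of the split total category -/
def homTT {t t' : TT Y} (g : t.base ⟶ t'.base) (h : fibT Y t ≤ (Opens.map g.map).obj (fibT Y t')) :
    t ⟶ t' :=
  ⟨g, (homOfLE h : fibT Y t ⟶ (Opens.map g.map).obj (fibT Y t'))⟩

lemma map_aug_of_w {a b : BT Y} (g : a ⟶ b) (U : Opens (S₀ Y)) :
    (Opens.map g.map).obj ((Opens.map (aug Y b.idx)).obj U) = (Opens.map (aug Y a.idx)).obj U := by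
  rw [← g.w]
  rfl

/-- the augmented simplicial object `(n, a_n⁻¹ U) ⟶ (⋆, U)` of the split total category -/
def XU (U : Opens (S₀ Y)) : SimplicialObject.Augmented (TT Y) where
  left := sec Y U ⋙ FibDesc.incl (FibDesc.topAug Y) ⋙ kT Y
  right := (epsT Y).obj U
  hom :=
    { app := fun n => (kT Y).map (cAug Y U n)
      naturality := by
        intro n m φ
        exact hom_epsT_ext Y _ _ }

/-- the augmented simplicial space -/
abbrev XS : SimplicialObject.Augmented TopCat.{u} :=
  AugmentedSimplexCategory.equivAugmentedSimplicialObject.functor.obj Y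

variable {Y} (ed : (XS Y).ExtraDegeneracy)

lemma ed_s'_w : ed.s' ≫ aug Y (tA (op ⦋0⦌)) = aug Y (FibDesc.bot SimplexCategory) := by
  have h := ed.s'_comp_ε
  have h2 : (XS Y).hom.app (op ⦋0⦌) = aug Y (tA (op ⦋0⦌)) := by
    change Y.map _ = Y.map _
    congr 1
  rw [h2] at h
  rw [aug_bot]
  exact h

lemma δ_aug (n : ℕ) (i : Fin (n + 2)) :
    (XS Y).left.δ i ≫ aug Y (tA (op ⦋n⦌)) = aug Y (tA (op ⦋n + 1⦌)) := by
  change Y.map _ ≫ Y.map _ = Y.map _
  rw [← Y.map_comp]
  congr 1

lemma ed_s_w (n : ℕ) : ed.s n ≫ aug Y (tA (op ⦋n + 1⦌)) = aug Y (tA (op ⦋n⦌)) := by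
  rw [← δ_aug n 0, ← Category.assoc, ed.s_comp_δ₀, Category.id_comp]

/-- the section, as a morphism of the index category -/
def sBT' : botT Y ⟶ (⟨tA (op ⦋0⦌)⟩ : BT Y) := ⟨ed.s', ed_s'_w ed⟩

/-- the extra degeneracy, as a morphism of the index category -/
def sBT (n : ℕ) : (⟨tA (op ⦋n⦌)⟩ : BT Y) ⟶ (⟨tA (op ⦋n + 1⦌)⟩ : BT Y) := ⟨ed.s n, ed_s_w ed n⟩

/-- the extra degeneracy of `XU` -/
def edU (U : Opens (S₀ Y)) : (XU Y U).ExtraDegeneracy where
  s' := homTT Y (t := (epsT Y).obj U) (t' := (XU Y U).left _⦋0⦌) (sBT' ed) (by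
    refine le_of_eq ?_
    refine Eq.trans ?_ (map_aug_of_w Y (sBT' ed) U).symm
    change U = (Opens.map (aug Y (FibDesc.bot SimplexCategory))).obj U
    rw [aug_bot]
    rfl)
  s n := homTT Y (t := (XU Y U).left _⦋n⦌) (t' := (XU Y U).left _⦋n + 1⦌) (sBT ed n)
    (le_of_eq (map_aug_of_w Y (sBT ed n) U).symm)
  s'_comp_ε := hom_epsT_ext Y _ _
  s₀_comp_δ₁ := by
    apply homT_ext
    apply BT.hom_ext
    exact ed.s₀_comp_δ₁
  s_comp_δ₀ n := by
    apply homT_ext
    apply BT.hom_ext
    exact ed.s_comp_δ₀ n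
  s_comp_δ n i := by
    apply homT_ext
    apply BT.hom_ext
    exact ed.s_comp_δ n i
  s_comp_σ n i := by
    apply homT_ext
    apply BT.hom_ext
    exact ed.s_comp_σ n i

end ed

section sheaves

/-- abelian sheaves on the split site -/
abbrev ShT := Sheaf (KT Y) AddCommGrpCat.{u}

/-- abelian sheaves on the augmented total site -/
abbrev ShA := Sheaf (FibDesc.totAug (FibDesc.topAug Y) (FibDesc.topAugTop Y)) AddCommGrpCat.{u}

/-- abelian sheaves on the base -/
abbrev ShS := FibDesc.BaseSh (FibDesc.topAug Y) (FibDesc.topAugTop Y) AddCommGrpCat.{u}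

instance kT_ran (P : (TA Y)ᵒᵖ ⥤ AddCommGrpCat.{u}) : (kT Y).op.HasPointwiseRightKanExtension P := by
  infer_instance

/-- restriction along `kT` -/
abbrev kS : ShT Y ⥤ ShA Y :=
  (kT Y).sheafPushforwardContinuous AddCommGrpCat.{u}
    (FibDesc.totAug (FibDesc.topAug Y) (FibDesc.topAugTop Y)) (KT Y)

/-- restriction along `incl` -/
abbrev inclS : ShA Y ⥤ DShY Y :=
  (FibDesc.incl (FibDesc.topAug Y)).sheafPushforwardContinuous AddCommGrpCat.{u}
    (FibDesc.totPart (FibDesc.topAug Y) (FibDesc.topAugTop Y))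
    (FibDesc.totAug (FibDesc.topAug Y) (FibDesc.topAugTop Y))

/-- restriction to the base fibre -/
abbrev epsS : ShA Y ⥤ ShS Y :=
  FibSite.restr (FibDesc.topAug Y) (FibDesc.topAugTop Y) AddCommGrpCat.{u}
    (FibDesc.bot SimplexCategory)

/-- restriction of sheaves on the split site to the base fibre -/
abbrev evT : ShT Y ⥤ ShS Y :=
  (epsT Y).sheafPushforwardContinuous AddCommGrpCat.{u} (JT Y (botT Y)) (KT Y)

/-- extension from the base fibre to the split site -/
abbrev thetaT : ShS Y ⥤ ShT Y :=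
  (epsT Y).sheafPullback AddCommGrpCat.{u} (JT Y (botT Y)) (KT Y)

/-- right Kan extension along `incl` -/
abbrev RanI : DShY Y ⥤ ShA Y :=
  (FibDesc.incl (FibDesc.topAug Y)).sheafPushforwardCocontinuous AddCommGrpCat.{u}
    (FibDesc.totPart (FibDesc.topAug Y) (FibDesc.topAugTop Y))
    (FibDesc.totAug (FibDesc.topAug Y) (FibDesc.topAugTop Y))

/-- right Kan extension along `kT` -/
abbrev RanK : ShA Y ⥤ ShT Y :=
  (kT Y).sheafPushforwardCocontinuous AddCommGrpCat.{u}
    (FibDesc.totAug (FibDesc.topAug Y) (FibDesc.topAugTop Y)) (KT Y)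

/-- restriction from the split site to the simplicial part -/
abbrev rho : ShT Y ⥤ DShY Y := kS Y ⋙ inclS Y

/-- the adjunctions -/
abbrev adjθ : thetaT Y ⊣ evT Y :=
  (epsT Y).sheafAdjunctionContinuous AddCommGrpCat.{u} (JT Y (botT Y)) (KT Y)

abbrev adjK : kS Y ⊣ RanK Y :=
  (kT Y).sheafAdjunctionCocontinuous AddCommGrpCat.{u}
    (FibDesc.totAug (FibDesc.topAug Y) (FibDesc.topAugTop Y)) (KT Y)

abbrev adjI : inclS Y ⊣ RanI Y :=
  (FibDesc.incl (FibDesc.topAug Y)).sheafAdjunctionCocontinuous AddCommGrpCat.{u}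
    (FibDesc.totPart (FibDesc.topAug Y) (FibDesc.topAugTop Y))
    (FibDesc.totAug (FibDesc.topAug Y) (FibDesc.topAugTop Y))

/-- restriction to the base fibre factors through `kT` -/
def i1 : kS Y ⋙ epsS Y ≅ evT Y :=
  haveI : (epsT Y).IsContinuous (FibDesc.topAugTop Y (FibDesc.bot SimplexCategory)) (KT Y) :=
    epsT_continuous Y
  Functor.sheafPushforwardContinuousComp' (epsIso Y) AddCommGrpCat.{u}
    (FibDesc.topAugTop Y (FibDesc.bot SimplexCategory))
    (FibDesc.totAug (FibDesc.topAug Y) (FibDesc.topAugTop Y)) (KT Y)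

example : RanI Y ⋙ epsS Y = pushY Y := rfl

variable {Y} in
lemma bijective_unit (ed : (XS Y).ExtraDegeneracy) (U : Opens (S₀ Y))
    (M : (TT Y)ᵒᵖ ⥤ AddCommGrpCat.{u}) :
    Function.Bijective ((((FibDesc.incl (FibDesc.topAug Y)).op.ranAdjunction
      AddCommGrpCat.{u}).unit.app ((kT Y).op ⋙ M)).app
        (op ((FibDesc.eps (FibDesc.topAug Y)).obj U))).hom := by
  have key : ∀ x, cycOf Y U ((FibDesc.incl (FibDesc.topAug Y)).op ⋙ (kT Y).op ⋙ M)
      (((((FibDesc.incl (FibDesc.topAug Y)).op.ranAdjunction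
        AddCommGrpCat.{u}).unit.app ((kT Y).op ⋙ M)).app
          (op ((FibDesc.eps (FibDesc.topAug Y)).obj U))).hom x) =
      (M.map ((XU Y U).hom.app (op ⦋0⦌)).op).hom x := fun x =>
    cycOf_unit Y U ((kT Y).op ⋙ M) x
  constructor
  · intro a b hab
    have h := congrArg (cycOf Y U ((FibDesc.incl (FibDesc.topAug Y)).op ⋙ (kT Y).op ⋙ M)) hab
    rw [key, key] at h
    exact map_ε_injective M (edU ed U) h
  · intro y
    have hd := d_cycOf Y U ((FibDesc.incl (FibDesc.topAug Y)).op ⋙ (kT Y).op ⋙ M) y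
    obtain ⟨x, hx⟩ := exists_of_cycle_ed (X := XU Y U) M (edU ed U)
      (cycOf Y U ((FibDesc.incl (FibDesc.topAug Y)).op ⋙ (kT Y).op ⋙ M) y) hd
    refine ⟨x, ?_⟩
    apply cycOf_injective Y U ((FibDesc.incl (FibDesc.topAug Y)).op ⋙ (kT Y).op ⋙ M)
    exact (key x).trans hx

/-- the comparison from the restriction to the base fibre to the direct image of the restriction to the
simplicial part -/
def tau : kS Y ⋙ epsS Y ⟶ rho Y ⋙ pushY Y :=
  Functor.whiskerLeft (kS Y) (Functor.whiskerRight (adjI Y).unit (epsS Y))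

variable {Y} in
lemma isIso_tau (ed : (XS Y).ExtraDegeneracy) : IsIso (tau Y) := by
  haveI : ∀ N : ShT Y, IsIso ((tau Y).app N) := by
    intro N
    haveI : IsIso ((sheafToPresheaf _ _).map ((tau Y).app N)) := by
      haveI : ∀ V, IsIso (((sheafToPresheaf _ _).map ((tau Y).app N)).app V) := by
        intro V
        rw [ConcreteCategory.isIso_iff_bijective]
        have h := bijective_unit ed V.unop N.obj
        have e : ((adjI Y).unit.app ((kS Y).obj N)).hom = _ :=
          Functor.sheafAdjunctionCocontinuous_unit_app_hom _ _ _ _ ((kS Y).obj N)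
        change Function.Bijective ((((adjI Y).unit.app ((kS Y).obj N)).hom.app
          (op ((FibDesc.eps (FibDesc.topAug Y)).obj V.unop))).hom)
        rw [e]
        exact h
      exact NatIso.isIso_of_isIso_app _
    exact isIso_of_reflects_iso _ (sheafToPresheaf _ _)
  exact NatIso.isIso_of_isIso_app _

lemma kT_op_bijective (U : Opens (S₀ Y)) (Z : (TA Y)ᵒᵖ) :
    Function.Bijective
      (fun f : op ((FibDesc.eps (FibDesc.topAug Y)).obj U) ⟶ Z => (kT Y).op.map f) := by
  constructor
  · intro f g _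
    exact Quiver.Hom.unop_inj (hom_eps_ext Y _ _)
  · intro h
    have hle := le_of_hom_epsT Y (t := (kT Y).obj Z.unop) (U := U) h.unop
    refine ⟨(homEps Y Z.unop U hle).op, ?_⟩
    exact Quiver.Hom.unop_inj (hom_epsT_ext Y (t := (kT Y).obj Z.unop) (U := U) _ _)

lemma isIso_counit_app (G : ShA Y) (U : Opens (S₀ Y)) :
    IsIso ((((adjK Y).counit.app G).hom).app (op ((FibDesc.eps (FibDesc.topAug Y)).obj U))) := by
  have e : ((adjK Y).counit.app G).hom = _ :=
    Functor.sheafAdjunctionCocontinuous_counit_app_hom _ _ _ _ G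
  rw [e, Functor.ranAdjunction_counit]
  exact isIso_ranCounit_app_of_bijective (kT Y).op G.obj
    (op ((FibDesc.eps (FibDesc.topAug Y)).obj U)) (kT_op_bijective Y U)

/-- the counit of `kS ⊣ RanK` restricted to the base fibre -/
def counitEps : RanK Y ⋙ kS Y ⋙ epsS Y ⟶ epsS Y :=
  Functor.whiskerRight (adjK Y).counit (epsS Y)

lemma isIso_counitEps : IsIso (counitEps Y) := by
  haveI : ∀ G : ShA Y, IsIso ((counitEps Y).app G) := by
    intro G
    haveI : IsIso ((sheafToPresheaf _ _).map ((counitEps Y).app G)) := by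
      haveI : ∀ V, IsIso (((sheafToPresheaf _ _).map ((counitEps Y).app G)).app V) := by
        intro V
        exact isIso_counit_app Y G V.unop
      exact NatIso.isIso_of_isIso_app _
    exact isIso_of_reflects_iso _ (sheafToPresheaf _ _)
  exact NatIso.isIso_of_isIso_app _

/-- the composite adjunction through the split site -/
abbrev adjB : (thetaT Y ⋙ kS Y) ⋙ inclS Y ⊣ RanI Y ⋙ RanK Y ⋙ evT Y :=
  ((adjθ Y).comp (adjK Y)).comp (adjI Y)

/-- its right adjoint is the direct image -/
def eR : RanI Y ⋙ RanK Y ⋙ evT Y ≅ pushY Y :=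
  haveI := isIso_counitEps Y
  Functor.isoWhiskerLeft (RanI Y)
    (Functor.isoWhiskerLeft (RanK Y) (i1 Y).symm ≪≫ asIso (counitEps Y))

/-- the inverse image factors through the split site -/
def e₁ : FibDesc.pull (FibDesc.topAug Y) (FibDesc.topAugTop Y) AddCommGrpCat.{u} ≅
    thetaT Y ⋙ rho Y :=
  (FibDesc.adj (FibDesc.topAug Y) (FibDesc.topAugTop Y) AddCommGrpCat.{u}).leftAdjointUniq
    ((adjB Y).ofNatIsoRight (eR Y))

variable {Y} in
/-- the restriction to the base fibre is the direct image of the restriction to the simplicial part -/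
def e₂ (ed : (XS Y).ExtraDegeneracy) : evT Y ≅ rho Y ⋙ pushY Y :=
  haveI := isIso_tau ed
  (i1 Y).symm ≪≫ asIso (tau Y)

instance epsT_faithful : (epsT Y).Faithful where
  map_injective := fun _ => Subsingleton.elim _ _

instance epsT_full : (epsT Y).Full where
  map_surjective {U V} h := by
    have hle := le_of_hom_epsT Y h
    have e : (Opens.map (aug Y (FibDesc.bot SimplexCategory))).obj V = V := by
      rw [aug_bot]
      rfl
    refine ⟨homOfLE (hle.trans (le_of_eq e)), ?_⟩
    exact hom_epsT_ext Y _ _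

instance epsT_ran (P : (Opens (S₀ Y))ᵒᵖ ⥤ AddCommGrpCat.{u}) :
    (epsT Y).op.HasPointwiseRightKanExtension P := by
  infer_instance

/-- the adjoint triple at the base fibre of the split site -/
def tripleT : Adjunction.Triple (thetaT Y) (evT Y)
    ((epsT Y).sheafPushforwardCocontinuous AddCommGrpCat.{u} (JT Y (botT Y)) (KT Y)) :=
  ⟨adjθ Y, (epsT Y).sheafAdjunctionCocontinuous AddCommGrpCat.{u} (JT Y (botT Y)) (KT Y)⟩

lemma isIso_unit_adjθ : IsIso (adjθ Y).unit := by
  change IsIso (tripleT Y).adj₁.unit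
  rw [(tripleT Y).isIso_unit_iff_isIso_counit]
  haveI : ∀ a, IsIso ((tripleT Y).adj₂.counit.app a) := by
    intro a
    haveI : IsIso ((sheafToPresheaf _ _).map ((tripleT Y).adj₂.counit.app a)) := by
      have e : ((tripleT Y).adj₂.counit.app a).hom = _ :=
        Functor.sheafAdjunctionCocontinuous_counit_app_hom (epsT Y) AddCommGrpCat.{u}
          (JT Y (botT Y)) (KT Y) a
      change IsIso ((tripleT Y).adj₂.counit.app a).hom
      rw [e]
      haveI : (epsT Y).op.Full := inferInstance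
      haveI : (epsT Y).op.Faithful := inferInstance
      infer_instance
    exact isIso_of_reflects_iso _ (sheafToPresheaf _ _)
  exact NatIso.isIso_of_isIso_app _

/-- extension from the base fibre followed by restriction to it is the identity -/
def e₃ : thetaT Y ⋙ evT Y ≅ 𝟭 (ShS Y) :=
  haveI := isIso_unit_adjθ Y
  (asIso (adjθ Y).unit).symm

lemma surjective_map_of_mono {C : Type u} [SmallCategory C] (M : Cᵒᵖ ⥤ AddCommGrpCat.{u})
    [Injective M] {X X' : C} (m : X ⟶ X') [Mono m] : Function.Surjective (M.map m.op).hom := by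
  intro x
  haveI := mono_zy_map m
  let g := (yE _ M).symm x
  refine ⟨yE _ M (Injective.factorThru g (zy.map m)), ?_⟩
  have h := yE_map_comp m M (Injective.factorThru g (zy.map m))
  rw [Injective.comp_factorThru] at h
  exact h.symm.trans ((yE _ M).apply_symm_apply x)

lemma mono_ι_map_FT (b : BT Y) {V W : Opens (Y.obj b.idx)} (i : V ⟶ W) :
    Mono ((ι (FT Y) b).map i) :=
  ⟨fun f g h => homT_ext Y f g (by
    have h' : f.base ≫ 𝟙 b = g.base ≫ 𝟙 b := congrArg Hom.base h
    exact (Category.comp_id f.base).symm.trans (h'.trans (Category.comp_id g.base)))⟩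

lemma levelFlasque_rho (I : ShT Y) [Injective I] : LevelFlasque Y ((rho Y).obj I) := by
  intro n
  haveI : Injective I.obj := CechInj.injective_sheaf_obj _ I
  constructor
  intro U V i
  rw [AddCommGrpCat.epi_iff_surjective]
  have hm : (kT Y).map ((FibDesc.incl (FibDesc.topAug Y)).map
      ((ι (FibDesc.part (FibDesc.topAug Y)) n).map i.unop)) = (ι (FT Y) ⟨tA n⟩).map i.unop :=
    (congrArg (kT Y).map (incl_map_ι_map Y n i.unop)).trans (kT_map_ι_map Y (tA n) i.unop)
  haveI : Mono ((kT Y).map ((FibDesc.incl (FibDesc.topAug Y)).map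
      ((ι (FibDesc.part (FibDesc.topAug Y)) n).map i.unop))) := by
    rw [hm]
    exact mono_ι_map_FT Y ⟨tA n⟩ i.unop
  exact surjective_map_of_mono I.obj ((kT Y).map ((FibDesc.incl (FibDesc.topAug Y)).map
      ((ι (FibDesc.part (FibDesc.topAug Y)) n).map i.unop)))

variable {Y} in
lemma isZero_homology_CxU_rho (ed : (XS Y).ExtraDegeneracy) (N : ShT Y) (U : Opens (S₀ Y)) (k : ℕ) :
    IsZero (((CxU Y U).obj ((rho Y).obj N)).homology (k + 1)) :=
  isZero_homology_of_extraDegeneracy (X := XU Y U) N.obj (edU ed U) k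

variable {Y} in
lemma isZero_rightDerived_push_rho (ed : (XS Y).ExtraDegeneracy) (I : ShT Y) (hI : Injective I)
    (n : ℕ) : IsZero (((pushY Y).rightDerived (n + 1)).obj ((rho Y).obj I)) :=
  isZero_rightDerived_push Y _ (levelFlasque_rho Y I) (fun U k hk => by
    obtain ⟨k, rfl⟩ := Nat.exists_eq_succ_of_ne_zero (Nat.pos_iff_ne_zero.1 hk)
    exact isZero_homology_CxU_rho ed I U k) n

end sheaves

end

end Groth.Agent.Helper3.DC6
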