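import Mathlib
import Groth.Agent.Lib.Helper6.RDU.Acyc

/-!
# An abstract criterion: unit isomorphism and acyclicity through an auxiliary "split" category
-/

set_option autoImplicit false
set_option backward.isDefEq.respectTransparency false

universe v₁ u₁ v₂ u₂ v₃ u₃

open CategoryTheory Limits Opposite

namespace Groth.Agent.Helper3.DC7

variable {𝒮 : Type u₁} [Category.{v₁} 𝒮] [Abelian 𝒮]
  {𝒯 : Type u₂} [Category.{v₂} 𝒯] [Abelian 𝒯] [EnoughInjectives 𝒯]
  {𝒯' : Type u₃} [Category.{v₃} 𝒯'] [Abelian 𝒯'] [EnoughInjectives 𝒯']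
  {pull : 𝒮 ⥤ 𝒯} {push : 𝒯 ⥤ 𝒮} (adj : pull ⊣ push) [push.Additive] [PreservesFiniteLimits push]
  (θ : 𝒮 ⥤ 𝒯') (ρ : 𝒯' ⥤ 𝒯) [ρ.Additive] [PreservesFiniteLimits ρ] [PreservesFiniteColimits ρ]
  (ev : 𝒯' ⥤ 𝒮) [ev.PreservesEpimorphisms]
  (e₁ : pull ≅ θ ⋙ ρ) (e₂ : ev ≅ ρ ⋙ push) (e₃ : θ ⋙ ev ≅ 𝟭 𝒮)
  (hd : ∀ (I : 𝒯'), Injective I → ∀ n : ℕ, IsZero ((push.rightDerived (n + 1)).obj (ρ.obj I)))

include adj e₁ e₂ e₃ in
lemma isIso_unit (M : 𝒮) : IsIso (adj.unit.app M) := by
  have e : pull ⋙ push ≅ 𝟭 𝒮 :=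
    Functor.isoWhiskerRight e₁ push ≪≫ Functor.associator _ _ _ ≪≫
      Functor.isoWhiskerLeft θ e₂.symm ≪≫ e₃
  haveI := adj.isIso_unit_of_iso e
  infer_instance

include e₂ hd in
lemma isZero_rightDerived_ρ (n : ℕ) : ∀ N : 𝒯', IsZero ((push.rightDerived (n + 1)).obj (ρ.obj N)) := by
  induction n with
  | zero =>
    intro N
    let S' : ShortComplex 𝒯' := ShortComplex.mk (Injective.ι N) (cokernel.π (Injective.ι N))
      (cokernel.condition _)
    have hS' : S'.ShortExact :=
      ShortComplex.ShortExact.mk' (ShortComplex.exact_cokernel _) inferInstance inferInstance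
    let S := S'.map ρ
    have hS : S.ShortExact := hS'.map_of_exact ρ
    have hepi : Epi (push.map S.g) := by
      haveI : Epi S'.g := hS'.epi_g
      have hnat := e₂.hom.naturality S'.g
      have e : push.map S.g = e₂.inv.app S'.X₂ ≫ ev.map S'.g ≫ e₂.hom.app S'.X₃ := by
        rw [hnat, Iso.inv_hom_id_app_assoc]
        rfl
      rw [e]
      infer_instance
    have hepi0 : Epi ((push.rightDerived 0).map S.g) := by
      have hnat := push.rightDerivedZeroIsoSelf.hom.naturality S.g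
      have e : (push.rightDerived 0).map S.g = push.rightDerivedZeroIsoSelf.hom.app S.X₂ ≫
          push.map S.g ≫ push.rightDerivedZeroIsoSelf.inv.app S.X₃ := by
        rw [← Category.assoc, ← hnat, Category.assoc, Iso.hom_inv_id_app, Category.comp_id]
      rw [e]
      infer_instance
    have hδ : (Groth.Agent.Helper6.RDU.les push).δ S hS 0 1 rfl = 0 := by
      rw [← cancel_epi ((push.rightDerived 0).map S.g), comp_zero]
      exact (Groth.Agent.Helper6.RDU.les push).comp_δ S hS 0 1 rfl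
    have ex := (Groth.Agent.Helper6.RDU.les push).exact₁ S hS 0 1 rfl
    refine ex.isZero_of_both_zeros hδ ?_
    exact (hd (Injective.under N) inferInstance 0).eq_of_tgt _ _
  | succ m ih =>
    intro N
    let S' : ShortComplex 𝒯' := ShortComplex.mk (Injective.ι N) (cokernel.π (Injective.ι N))
      (cokernel.condition _)
    have hS' : S'.ShortExact :=
      ShortComplex.ShortExact.mk' (ShortComplex.exact_cokernel _) inferInstance inferInstance
    let S := S'.map ρ
    have hS : S.ShortExact := hS'.map_of_exact ρ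
    have ex := (Groth.Agent.Helper6.RDU.les push).exact₁ S hS (m + 1) (m + 1 + 1) rfl
    refine ex.isZero_of_both_zeros ?_ ?_
    · exact (ih S'.X₃).eq_of_src _ _
    · exact (hd (Injective.under N) inferInstance (m + 1)).eq_of_tgt _ _

include e₁ e₂ hd in
lemma isZero_rightDerived_pull (M : 𝒮) (n : ℕ) (hn : 0 < n) :
    IsZero ((push.rightDerived n).obj (pull.obj M)) := by
  obtain ⟨n, rfl⟩ := Nat.exists_eq_succ_of_ne_zero (Nat.pos_iff_ne_zero.1 hn)
  exact IsZero.of_iso (isZero_rightDerived_ρ ρ ev e₂ hd n (θ.obj M))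
    ((push.rightDerived (n + 1)).mapIso (e₁.app M))

end Groth.Agent.Helper3.DC7
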