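import Mathlib
import Groth.Prelude.Def_FibDesc
import Groth.Agent.Lib.Helper3.DC1
import Groth.Agent.Lib.Helper3.DC6
import Groth.Agent.Lib.Helper3.DC7
import Groth.Agent.Lib.Helper3.KInjD

/-!
# An augmented simplicial space with an extra degeneracy is of cohomological descent
-/

set_option autoImplicit false
set_option backward.isDefEq.respectTransparency false
open CategoryTheory Limits Opposite TopologicalSpace Pseudofunctor.CoGrothendieck Simplicial

universe u
namespace Groth.Agent.Helper3.DC8

open DC2 DC4 DC5 DC6

attribute [local instance] HasDerivedCategory.standard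

variable (Y : (WithInitial SimplexCategory)ᵒᵖ ⥤ TopCat.{u})

instance : (kS Y).Additive where
instance : (inclS Y).Additive where

instance : PreservesFiniteLimits (rho Y) := by
  haveI : PreservesFiniteLimits (kS Y) := inferInstance
  haveI : PreservesFiniteLimits (inclS Y) := inferInstance
  exact comp_preservesFiniteLimits _ _

instance : PreservesFiniteColimits (rho Y) := by
  haveI : (kS Y).IsLeftAdjoint := (adjK Y).isLeftAdjoint
  haveI : (inclS Y).IsLeftAdjoint := (adjI Y).isLeftAdjoint
  haveI : PreservesFiniteColimits (kS Y) := inferInstance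
  haveI : PreservesFiniteColimits (inclS Y) := inferInstance
  exact comp_preservesFiniteColimits _ _

instance : (evT Y).PreservesEpimorphisms :=
  Functor.preservesEpimorphisms_of_adjunction (tripleT Y).adj₂

/-- the general criterion: it suffices that the unit is an isomorphism and the higher direct images of
inverse images vanish -/
theorem isCohDescentTop_of_acyclic
    (hunit : ∀ M, IsIso ((FibDesc.adj (FibDesc.topAug Y) (FibDesc.topAugTop Y)
      AddCommGrpCat.{u}).unit.app M))
    (hacyc : ∀ M (n : ℕ), 0 < n → IsZero (((pushY Y).rightDerived n).obj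
      ((FibDesc.pull (FibDesc.topAug Y) (FibDesc.topAugTop Y) AddCommGrpCat.{u}).obj M))) :
    FibDesc.IsCohDescentTop Y := by
  refine ⟨inferInstance, inferInstance, inferInstance, inferInstance, inferInstance,
    inferInstance, ?_⟩
  exact DC1.bijective_of_acyclic
    (FibDesc.adj (FibDesc.topAug Y) (FibDesc.topAugTop Y) AddCommGrpCat.{u})
    (fun M => by
      obtain ⟨I, f, hI, hf, -, -⟩ := KInjD.exists_kInjective_resolution M
      exact ⟨I, f, hI, hf⟩) hunit hacyc

variable {Y} in
theorem isCohDescentTop_of_extraDegeneracy (ed : (XS Y).ExtraDegeneracy) :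
    FibDesc.IsCohDescentTop Y := by
  haveI : PreservesFiniteLimits (pushY Y) := PreservesLimitsOfSize.preservesFiniteLimits _
  apply isCohDescentTop_of_acyclic
  · intro M
    exact DC7.isIso_unit (FibDesc.adj (FibDesc.topAug Y) (FibDesc.topAugTop Y) AddCommGrpCat.{u})
      (thetaT Y) (rho Y) (evT Y) (e₁ Y) (e₂ ed) (e₃ Y) M
  · intro M n hn
    exact DC7.isZero_rightDerived_pull (thetaT Y) (rho Y) (evT Y) (e₁ Y) (e₂ ed)
      (isZero_rightDerived_push_rho ed) M n hn

end Groth.Agent.Helper3.DC8
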