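import Mathlib
import Groth.Prelude.Def_FibDesc
import Groth.Agent.Lib.Helper3.DC5
import Groth.Agent.Lib.Helper3.DC6
import Groth.Agent.Lib.Helper3.DC8
import Groth.Agent.Lib.Helper3.DC10
import Groth.Agent.Lib.Helper3.DC11

/-!
# Restriction of an augmented simplicial space along a levelwise open embedding
-/

set_option autoImplicit false
set_option backward.isDefEq.respectTransparency false
open CategoryTheory Limits Opposite TopologicalSpace Pseudofunctor.CoGrothendieck Simplicial Topology

universe u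
namespace Groth.Agent.Helper3.DC12

open DC2 DC4 DC5

noncomputable section

variable {Y' Y : (WithInitial SimplexCategory)ᵒᵖ ⥤ TopCat.{u}} (φ : Y' ⟶ Y)

/-- levelwise open embedding -/
def IsOE : Prop := ∀ i, IsOpenEmbedding (φ.app i)

/-- cartesian over the base -/
def IsCart : Prop :=
  ∀ i, Set.range (φ.app i) = (aug Y i) ⁻¹' Set.range (φ.app (FibDesc.bot SimplexCategory))

section homs

variable (Y)

/-- constructor for morphisms of the augmented total category -/
def homA {t t' : TA Y} (f : t.base ⟶ t'.base)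
    (h : fib Y t ≤ (Opens.map (Y.map f)).obj (fib Y t')) : t ⟶ t' :=
  ⟨f, (homOfLE h : fib Y t ⟶ (Opens.map (Y.map f)).obj (fib Y t'))⟩

/-- constructor for morphisms of the total category of the simplicial part -/
def homP {t t' : TP Y} (f : t.base ⟶ t'.base)
    (h : fibP Y t ≤ (Opens.map (Y.map ((FibDesc.toAug SimplexCategory).map f))).obj (fibP Y t')) :
    t ⟶ t' :=
  ⟨f, (homOfLE h : fibP Y t ⟶
    (Opens.map (Y.map ((FibDesc.toAug SimplexCategory).map f))).obj (fibP Y t'))⟩

variable {Y}

lemma le_of_homA {t t' : TA Y} (g : t ⟶ t') :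
    fib Y t ≤ (Opens.map (Y.map g.base)).obj (fib Y t') := leOfHom g.fiber

lemma le_of_homP {t t' : TP Y} (g : t ⟶ t') :
    fibP Y t ≤ (Opens.map (Y.map ((FibDesc.toAug SimplexCategory).map g.base))).obj (fibP Y t') :=
  leOfHom g.fiber

lemma homA_ext {t t' : TA Y} (f g : t ⟶ t') (h : f.base = g.base) : f = g :=
  hom_ext_base (thin_topAug Y) f g h

end homs

variable (hφ : IsOE φ)

include hφ in
lemma image_le {i i' : (WithInitial SimplexCategory)ᵒᵖ} (f : i ⟶ i') (W : Opens (Y'.obj i))
    (W' : Opens (Y'.obj i')) (h : W ≤ (Opens.map (Y'.map f)).obj W') :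
    (hφ i).isOpenMap.functor.obj W ≤
      (Opens.map (Y.map f)).obj ((hφ i').isOpenMap.functor.obj W') := by
  rintro _ ⟨w, hw, rfl⟩
  refine ⟨(Y'.map f) w, h hw, ?_⟩
  exact ConcreteCategory.congr_hom (φ.naturality f) w

lemma preimage_le {i i' : (WithInitial SimplexCategory)ᵒᵖ} (f : i ⟶ i') (W : Opens (Y.obj i))
    (W' : Opens (Y.obj i')) (h : W ≤ (Opens.map (Y.map f)).obj W') :
    (Opens.map (φ.app i)).obj W ≤
      (Opens.map (Y'.map f)).obj ((Opens.map (φ.app i')).obj W') := by
  intro w hw
  have h1 : (Y.map f) ((φ.app i) w) ∈ W' := h hw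
  have h2 : (φ.app i') ((Y'.map f) w) = (Y.map f) ((φ.app i) w) :=
    ConcreteCategory.congr_hom (φ.naturality f) w
  change (φ.app i') ((Y'.map f) w) ∈ W'
  rw [h2]
  exact h1

/-- the image functor on the augmented total categories -/
def ΦA : TA Y' ⥤ TA Y where
  obj t := ⟨t.base, (hφ t.base).isOpenMap.functor.obj (fib Y' t)⟩
  map {t t'} g := homA Y (t := ⟨t.base, (hφ t.base).isOpenMap.functor.obj (fib Y' t)⟩)
    (t' := ⟨t'.base, (hφ t'.base).isOpenMap.functor.obj (fib Y' t')⟩) g.base
    (image_le φ hφ g.base _ _ (le_of_homA g))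
  map_id _ := homA_ext _ _ rfl
  map_comp _ _ := homA_ext _ _ rfl

/-- the preimage functor on the augmented total categories -/
def ΨA : TA Y ⥤ TA Y' where
  obj t := ⟨t.base, (Opens.map (φ.app t.base)).obj (fib Y t)⟩
  map {t t'} g := homA Y' (t := ⟨t.base, (Opens.map (φ.app t.base)).obj (fib Y t)⟩)
    (t' := ⟨t'.base, (Opens.map (φ.app t'.base)).obj (fib Y t')⟩) g.base
    (preimage_le φ g.base _ _ (le_of_homA g))
  map_id _ := homA_ext _ _ rfl
  map_comp _ _ := homA_ext _ _ rfl

/-- the image functor on the total categories of the simplicial parts -/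
def ΦP : TP Y' ⥤ TP Y where
  obj t := ⟨t.base, (hφ (tA t.base)).isOpenMap.functor.obj (fibP Y' t)⟩
  map {t t'} g := homP Y (t := ⟨t.base, (hφ (tA t.base)).isOpenMap.functor.obj (fibP Y' t)⟩)
    (t' := ⟨t'.base, (hφ (tA t'.base)).isOpenMap.functor.obj (fibP Y' t')⟩) g.base
    (image_le φ hφ ((FibDesc.toAug SimplexCategory).map g.base) _ _ (le_of_homP g))
  map_id _ := homP_ext Y _ _ rfl
  map_comp _ _ := homP_ext Y _ _ rfl

/-- the preimage functor on the total categories of the simplicial parts -/
def ΨP : TP Y ⥤ TP Y' where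
  obj t := ⟨t.base, (Opens.map (φ.app (tA t.base))).obj (fibP Y t)⟩
  map {t t'} g := homP Y' (t := ⟨t.base, (Opens.map (φ.app (tA t.base))).obj (fibP Y t)⟩)
    (t' := ⟨t'.base, (Opens.map (φ.app (tA t'.base))).obj (fibP Y t')⟩) g.base
    (preimage_le φ ((FibDesc.toAug SimplexCategory).map g.base) _ _ (le_of_homP g))
  map_id _ := homP_ext Y' _ _ rfl
  map_comp _ _ := homP_ext Y' _ _ rfl

lemma le_map_id {i : (WithInitial SimplexCategory)ᵒᵖ} {W W' : Opens (Y.obj i)} (h : W ≤ W') :
    W ≤ (Opens.map (Y.map (𝟙 i))).obj W' := by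
  intro w hw
  change (Y.map (𝟙 i)) w ∈ W'
  rw [Y.map_id]
  exact h hw

lemma le_map_idP {n : SimplexCategoryᵒᵖ} {W W' : Opens (Y.obj (tA n))} (h : W ≤ W') :
    W ≤ (Opens.map (Y.map ((FibDesc.toAug SimplexCategory).map (𝟙 n)))).obj W' := by
  intro w hw
  change (Y.map ((FibDesc.toAug SimplexCategory).map (𝟙 n))) w ∈ W'
  rw [(FibDesc.toAug SimplexCategory).map_id, Y.map_id]
  exact h hw

/-- the adjunction between image and preimage, on the augmented total categories -/
def adjA : ΦA φ hφ ⊣ ΨA φ :=
  Adjunction.mkOfUnitCounit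
    { unit :=
        { app := fun t' => homA Y' (t := t') (t' := (ΨA φ).obj ((ΦA φ hφ).obj t')) (𝟙 t'.base)
            (le_map_id (fun w hw => ⟨w, hw, rfl⟩))
          naturality := by
            intro t₁ t₂ f
            apply homA_ext
            exact (Category.comp_id _).trans (Category.id_comp _).symm }
      counit :=
        { app := fun t => homA Y (t := (ΦA φ hφ).obj ((ΨA φ).obj t)) (t' := t) (𝟙 t.base)
            (le_map_id (by rintro _ ⟨w, hw, rfl⟩; exact hw))
          naturality := by
            intro t₁ t₂ f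
            apply homA_ext
            exact (Category.comp_id _).trans (Category.id_comp _).symm }
      left_triangle := by
        refine NatTrans.ext (funext fun t' => ?_)
        apply homA_ext
        exact (Category.id_comp _).trans (Category.id_comp _)
      right_triangle := by
        refine NatTrans.ext (funext fun t => ?_)
        apply homA_ext
        exact (Category.id_comp _).trans (Category.id_comp _) }

/-- the adjunction between image and preimage, on the total categories of the simplicial parts -/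
def adjP : ΦP φ hφ ⊣ ΨP φ :=
  Adjunction.mkOfUnitCounit
    { unit :=
        { app := fun t' => homP Y' (t := t') (t' := (ΨP φ).obj ((ΦP φ hφ).obj t')) (𝟙 t'.base)
            (le_map_idP (fun w hw => ⟨w, hw, rfl⟩))
          naturality := by
            intro t₁ t₂ f
            apply homP_ext
            exact (Category.comp_id _).trans (Category.id_comp _).symm }
      counit :=
        { app := fun t => homP Y (t := (ΦP φ hφ).obj ((ΨP φ).obj t)) (t' := t) (𝟙 t.base)
            (le_map_idP (by rintro _ ⟨w, hw, rfl⟩; exact hw))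
          naturality := by
            intro t₁ t₂ f
            apply homP_ext
            exact (Category.comp_id _).trans (Category.id_comp _).symm }
      left_triangle := by
        refine NatTrans.ext (funext fun t' => ?_)
        apply homP_ext
        exact (Category.id_comp _).trans (Category.id_comp _)
      right_triangle := by
        refine NatTrans.ext (funext fun t => ?_)
        apply homP_ext
        exact (Category.id_comp _).trans (Category.id_comp _) }

section topologies

variable (Y)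

/-- the topology on the total category of the simplicial part -/
abbrev JP : GrothendieckTopology (TP Y) :=
  FibDesc.totPart (FibDesc.topAug Y) (FibDesc.topAugTop Y)

/-- the topology on the augmented total category -/
abbrev JA : GrothendieckTopology (TA Y) :=
  FibDesc.totAug (FibDesc.topAug Y) (FibDesc.topAugTop Y)

/-- the category of opens of the base, as the fibre over the base point -/
abbrev OS : Type u := (FibDesc.topAug Y).obj ⟨op (FibDesc.bot SimplexCategory)⟩

/-- the topology of the base -/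
abbrev JS : GrothendieckTopology (OS Y) :=
  FibDesc.topAugTop Y (FibDesc.bot SimplexCategory)

end topologies

open Groth.Agent.Lib.Helper5

instance ι_aug_continuous (i : (WithInitial SimplexCategory)ᵒᵖ) :
    (ι (FibDesc.topAug Y) i).IsContinuous (FibDesc.topAugTop Y i) (JA Y) :=
  FibTot.isContinuous_ι _ (isPreFibSite Y) i

instance ΦP_continuous : (ΦP φ hφ).IsContinuous (JP Y') (JP Y) := by
  rw [FibTot.isContinuous_iff _ (isPreFibSite_part Y')]
  intro n
  haveI := (hφ (tA n)).functor_isContinuous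
  let F : Opens (Y'.obj (tA n)) ⥤ TP Y :=
    (hφ (tA n)).isOpenMap.functor ⋙ ι (FibDesc.part (FibDesc.topAug Y)) n
  haveI h1 : (ι (FibDesc.part (FibDesc.topAug Y)) n).IsContinuous
      (Opens.grothendieckTopology (Y.obj (tA n))) (JP Y) := ι_part_continuous Y n
  haveI : F.IsContinuous (Opens.grothendieckTopology (Y'.obj (tA n))) (JP Y) :=
    Functor.isContinuous_comp (hφ (tA n)).isOpenMap.functor
      (ι (FibDesc.part (FibDesc.topAug Y)) n) _
      (Opens.grothendieckTopology (Y.obj (tA n))) _
  let e : F ≅ ι (FibDesc.part (FibDesc.topAug Y')) n ⋙ ΦP φ hφ :=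
    NatIso.ofComponents (fun U => Iso.refl _) (by
      intro U V g
      apply homP_ext
      rfl)
  exact Functor.isContinuous_of_iso e _ _

instance ΨP_continuous : (ΨP φ).IsContinuous (JP Y) (JP Y') := by
  rw [FibTot.isContinuous_iff _ (isPreFibSite_part Y)]
  intro n
  let F : Opens (Y.obj (tA n)) ⥤ TP Y' :=
    Opens.map (φ.app (tA n)) ⋙ ι (FibDesc.part (FibDesc.topAug Y')) n
  haveI h1 : (ι (FibDesc.part (FibDesc.topAug Y')) n).IsContinuous
      (Opens.grothendieckTopology (Y'.obj (tA n))) (JP Y') := ι_part_continuous Y' n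
  haveI : F.IsContinuous (Opens.grothendieckTopology (Y.obj (tA n))) (JP Y') :=
    Functor.isContinuous_comp (Opens.map (φ.app (tA n)))
      (ι (FibDesc.part (FibDesc.topAug Y')) n) _
      (Opens.grothendieckTopology (Y'.obj (tA n))) _
  let e : F ≅ ι (FibDesc.part (FibDesc.topAug Y)) n ⋙ ΨP φ :=
    NatIso.ofComponents (fun U => Iso.refl _) (by
      intro U V g
      apply homP_ext
      rfl)
  exact Functor.isContinuous_of_iso e _ _

instance ΦA_continuous : (ΦA φ hφ).IsContinuous (JA Y') (JA Y) := by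
  rw [FibTot.isContinuous_iff _ (isPreFibSite Y')]
  intro i
  haveI := (hφ i).functor_isContinuous
  let F : Opens (Y'.obj i) ⥤ TA Y :=
    (hφ i).isOpenMap.functor ⋙ ι (FibDesc.topAug Y) i
  haveI h1 : (ι (FibDesc.topAug Y) i).IsContinuous
      (Opens.grothendieckTopology (Y.obj i)) (JA Y) := ι_aug_continuous i
  haveI : F.IsContinuous (Opens.grothendieckTopology (Y'.obj i)) (JA Y) :=
    Functor.isContinuous_comp (hφ i).isOpenMap.functor
      (ι (FibDesc.topAug Y) i) _
      (Opens.grothendieckTopology (Y.obj i)) _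
  let e : F ≅ ι (FibDesc.topAug Y') i ⋙ ΦA φ hφ :=
    NatIso.ofComponents (fun U => Iso.refl _) (by
      intro U V g
      apply homA_ext
      rfl)
  exact Functor.isContinuous_of_iso e _ _

instance ΨA_continuous : (ΨA φ).IsContinuous (JA Y) (JA Y') := by
  rw [FibTot.isContinuous_iff _ (isPreFibSite Y)]
  intro i
  let F : Opens (Y.obj i) ⥤ TA Y' :=
    Opens.map (φ.app i) ⋙ ι (FibDesc.topAug Y') i
  haveI h1 : (ι (FibDesc.topAug Y') i).IsContinuous
      (Opens.grothendieckTopology (Y'.obj i)) (JA Y') := ι_aug_continuous i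
  haveI : F.IsContinuous (Opens.grothendieckTopology (Y.obj i)) (JA Y') :=
    Functor.isContinuous_comp (Opens.map (φ.app i))
      (ι (FibDesc.topAug Y') i) _
      (Opens.grothendieckTopology (Y'.obj i)) _
  let e : F ≅ ι (FibDesc.topAug Y) i ⋙ ΨA φ :=
    NatIso.ofComponents (fun U => Iso.refl _) (by
      intro U V g
      apply homA_ext
      rfl)
  exact Functor.isContinuous_of_iso e _ _

section sheaves

/-- abelian sheaves on the base -/
abbrev BSh (Y : (WithInitial SimplexCategory)ᵒᵖ ⥤ TopCat.{u}) :=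
  FibDesc.BaseSh (FibDesc.topAug Y) (FibDesc.topAugTop Y) AddCommGrpCat.{u}

/-- restriction of sheaves on the total site of the simplicial part -/
abbrev rP : DShY Y ⥤ DShY Y' :=
  (ΦP φ hφ).sheafPushforwardContinuous AddCommGrpCat.{u} (JP Y') (JP Y)

/-- direct image of sheaves on the total site of the simplicial part -/
abbrev rP' : DShY Y' ⥤ DShY Y :=
  (ΨP φ).sheafPushforwardContinuous AddCommGrpCat.{u} (JP Y) (JP Y')

/-- restriction is left adjoint to direct image -/
def aP : rP φ hφ ⊣ rP' φ :=
  (adjP φ hφ).sheafPushforwardContinuous (E := AddCommGrpCat.{u}) (JP Y') (JP Y)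

/-- the image functor on the opens of the base -/
def ΦS : OS Y' ⥤ OS Y := (hφ (FibDesc.bot SimplexCategory)).isOpenMap.functor

/-- the preimage functor on the opens of the base -/
def ΨS : OS Y ⥤ OS Y' := Opens.map (φ.app (FibDesc.bot SimplexCategory))

instance ΨS_continuous : (ΨS φ).IsContinuous (JS Y) (JS Y') :=
  inferInstanceAs ((Opens.map (φ.app (FibDesc.bot SimplexCategory))).IsContinuous
    (Opens.grothendieckTopology (Y.obj (FibDesc.bot SimplexCategory)))
    (Opens.grothendieckTopology (Y'.obj (FibDesc.bot SimplexCategory))))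

/-- image is left adjoint to preimage -/
def adjS : ΦS φ hφ ⊣ ΨS φ := (hφ (FibDesc.bot SimplexCategory)).isOpenMap.adjunction

instance ΦS_continuous : (ΦS φ hφ).IsContinuous (JS Y') (JS Y) :=
  (hφ (FibDesc.bot SimplexCategory)).functor_isContinuous

/-- restriction of sheaves on the base -/
abbrev rS : BSh Y ⥤ BSh Y' :=
  (ΦS φ hφ).sheafPushforwardContinuous AddCommGrpCat.{u} (JS Y') (JS Y)

/-- direct image of sheaves on the base -/
abbrev rS' : BSh Y' ⥤ BSh Y :=
  (ΨS φ).sheafPushforwardContinuous AddCommGrpCat.{u} (JS Y) (JS Y')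

/-- restriction is left adjoint to direct image -/
def aS : rS φ hφ ⊣ rS' φ :=
  (adjS φ hφ).sheafPushforwardContinuous (E := AddCommGrpCat.{u}) (JS Y') (JS Y)

instance : (rP φ hφ).Additive where
instance : (rS φ hφ).Additive where

instance : PreservesFiniteLimits (rP φ hφ) := by infer_instance
instance : PreservesFiniteLimits (rS φ hφ) := by infer_instance

instance : PreservesFiniteColimits (rP φ hφ) := by
  haveI : (rP φ hφ).IsLeftAdjoint := (aP φ hφ).isLeftAdjoint
  infer_instance

instance : PreservesFiniteColimits (rS φ hφ) := by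
  haveI : (rS φ hφ).IsLeftAdjoint := (aS φ hφ).isLeftAdjoint
  infer_instance

instance isIso_aS_counit : IsIso (aS φ hφ).counit := by
  haveI : ∀ M', IsIso ((aS φ hφ).counit.app M') := by
    intro M'
    haveI : IsIso ((sheafToPresheaf _ _).map ((aS φ hφ).counit.app M')) := by
      haveI : ∀ V, IsIso (((sheafToPresheaf _ _).map ((aS φ hφ).counit.app M')).app V) := by
        intro V
        have hV : (ΨS φ).obj ((ΦS φ hφ).obj V.unop) = V.unop :=
          Opens.map_functor_eq' _ (hφ (FibDesc.bot SimplexCategory)) V.unop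
        have e : ((sheafToPresheaf _ _).map ((aS φ hφ).counit.app M')).app V =
            M'.obj.map (eqToHom (congrArg op hV)) := by
          dsimp [aS]
          congr 1
        rw [e]
        infer_instance
      exact NatIso.isIso_of_isIso_app _
    exact isIso_of_reflects_iso _ (sheafToPresheaf _ _)
  exact NatIso.isIso_of_isIso_app _

end sheaves

section gamma

open DC6

/-- restriction of sheaves on the augmented total site -/
abbrev rA : ShA Y ⥤ ShA Y' :=
  (ΦA φ hφ).sheafPushforwardContinuous AddCommGrpCat.{u} (JA Y') (JA Y)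

/-- direct image of sheaves on the augmented total site -/
abbrev rA' : ShA Y' ⥤ ShA Y :=
  (ΨA φ).sheafPushforwardContinuous AddCommGrpCat.{u} (JA Y) (JA Y')

/-- restriction is left adjoint to direct image -/
def aA : rA φ hφ ⊣ rA' φ :=
  (adjA φ hφ).sheafPushforwardContinuous (E := AddCommGrpCat.{u}) (JA Y') (JA Y)

/-- the image functors commute with the inclusions -/
def F1 : ΦP φ hφ ⋙ FibDesc.incl (FibDesc.topAug Y) ≅
    FibDesc.incl (FibDesc.topAug Y') ⋙ ΦA φ hφ :=
  NatIso.ofComponents (fun t => Iso.refl _) (by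
    intro t t' g
    apply homA_ext
    rfl)

/-- the preimage functors commute with the inclusions of the base -/
def F2 : FibDesc.eps (FibDesc.topAug Y) ⋙ ΨA φ ≅ ΨS φ ⋙ FibDesc.eps (FibDesc.topAug Y') :=
  NatIso.ofComponents (fun U => Iso.refl _) (by
    intro U V g
    apply homA_ext
    rfl)

/-- the left adjoints agree -/
def L12 : inclS Y ⋙ rP φ hφ ≅ rA φ hφ ⋙ inclS Y' :=
  haveI : (FibDesc.incl (FibDesc.topAug Y') ⋙ ΦA φ hφ).IsContinuous (JP Y') (JA Y) :=
    Functor.isContinuous_comp (FibDesc.incl (FibDesc.topAug Y')) (ΦA φ hφ) (JP Y') (JA Y') (JA Y)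
  Functor.sheafPushforwardContinuousComp' (F1 φ hφ) AddCommGrpCat.{u} (JP Y') (JP Y) (JA Y) ≪≫
    (Functor.sheafPushforwardContinuousComp (FibDesc.incl (FibDesc.topAug Y')) (ΦA φ hφ)
      AddCommGrpCat.{u} (JP Y') (JA Y') (JA Y)).symm

/-- the right Kan extensions commute with the direct images -/
def e1 : rP' φ ⋙ RanI Y ≅ RanI Y' ⋙ rA' φ :=
  (((adjI Y).comp (aP φ hφ)).ofNatIsoLeft (L12 φ hφ)).rightAdjointUniq
    ((aA φ hφ).comp (adjI Y'))

/-- restriction to the base commutes with the direct images -/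
def e2 : rA' φ ⋙ epsS Y ≅ epsS Y' ⋙ rS' φ :=
  haveI h0 : (FibDesc.eps (FibDesc.topAug Y')).IsContinuous (JS Y') (JA Y') := eps_continuous Y'
  haveI : (ΨS φ ⋙ FibDesc.eps (FibDesc.topAug Y')).IsContinuous (JS Y) (JA Y') :=
    Functor.isContinuous_comp (ΨS φ) (FibDesc.eps (FibDesc.topAug Y')) (JS Y) (JS Y') (JA Y')
  Functor.sheafPushforwardContinuousComp' (F2 φ) AddCommGrpCat.{u} (JS Y) (JA Y) (JA Y') ≪≫
    (Functor.sheafPushforwardContinuousComp (ΨS φ) (FibDesc.eps (FibDesc.topAug Y'))
      AddCommGrpCat.{u} (JS Y) (JS Y') (JA Y')).symm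

/-- the direct images to the base commute with the direct images along `φ` -/
def γ : rP' φ ⋙ pushY Y ≅ pushY Y' ⋙ rS' φ :=
  (Functor.associator _ _ _).symm ≪≫ Functor.isoWhiskerRight (e1 φ hφ) (epsS Y) ≪≫
    Functor.associator _ _ _ ≪≫ Functor.isoWhiskerLeft (RanI Y') (e2 φ) ≪≫
    (Functor.associator _ _ _).symm

end gamma

section hL

lemma bijective_push_map_app {N N' : DShY Y} (g : N ⟶ N') (U : Opens (S₀ Y))
    (h0 : Function.Bijective (g.hom.app (op ((sec Y U) _⦋0⦌))).hom)
    (h1 : Function.Injective (g.hom.app (op ((sec Y U) _⦋1⦌))).hom) :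
    Function.Bijective (((pushY Y).map g).hom.app (op U)).hom := by
  constructor
  · intro y y' h
    apply cycOf_injective Y U N.obj
    apply h0.1
    refine (cycOf_naturality Y U g.hom y).symm.trans (Eq.trans ?_ (cycOf_naturality Y U g.hom y'))
    exact congrArg (cycOf Y U N'.obj) h
  · intro y'
    obtain ⟨x, hx⟩ := h0.2 (cycOf Y U N'.obj y')
    have hdx : (((CCF (sec Y U)).obj N.obj).d 0 1).hom x = 0 := by
      apply h1
      rw [map_zero]
      have hcomm := ((CCF (sec Y U)).map g.hom).comm 0 1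
      have h2 := ConcreteCategory.congr_hom hcomm x
      have h3 : (g.hom.app (op ((sec Y U) _⦋1⦌))).hom
          ((((CCF (sec Y U)).obj N.obj).d 0 1).hom x) =
          (((CCF (sec Y U)).obj N'.obj).d 0 1).hom ((g.hom.app (op ((sec Y U) _⦋0⦌))).hom x) :=
        h2.symm
      rw [h3, hx]
      exact d_cycOf Y U N'.obj y'
    obtain ⟨y, hy⟩ := exists_cycOf Y U N.obj x hdx
    refine ⟨y, ?_⟩
    apply cycOf_injective Y U N'.obj
    rw [← hx, ← hy]
    exact cycOf_naturality Y U g.hom y

lemma isIso_counit_app (t : TP Y)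
    (h : (fibP Y t : Set (Y.obj (tA t.base))) ⊆ Set.range (φ.app (tA t.base))) :
    IsIso ((adjP φ hφ).counit.app t) := by
  refine ⟨homP Y (t := t) (t' := (ΦP φ hφ).obj ((ΨP φ).obj t)) (𝟙 t.base)
    (le_map_idP (fun w hw => ?_)), homP_ext Y _ _ ?_, homP_ext Y _ _ ?_⟩
  · obtain ⟨w', rfl⟩ := h hw
    exact ⟨w', hw, rfl⟩
  · exact Category.comp_id _
  · exact Category.comp_id _

variable (hc : IsCart φ)

include hc in
lemma sec_subset_range (U' : Opens (S₀ Y')) (n : SimplexCategoryᵒᵖ) :
    ((preU Y ((ΦS φ hφ).obj U') n : Opens (Y.obj (tA n))) : Set (Y.obj (tA n))) ⊆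
      Set.range (φ.app (tA n)) := by
  intro w hw
  rw [hc (tA n)]
  obtain ⟨s, _, hs⟩ := hw
  exact ⟨s, hs⟩

lemma unit_app_hom_app (N : DShY Y) (t : TP Y) :
    ((aP φ hφ).unit.app N).hom.app (op t) = N.obj.map ((adjP φ hφ).counit.app t).op := by
  dsimp [aP]
  rfl

include hc in
lemma hL (N : DShY Y) :
    IsIso ((rS φ hφ).map ((pushY Y).map ((aP φ hφ).unit.app N))) := by
  haveI : IsIso ((sheafToPresheaf _ _).map
      ((rS φ hφ).map ((pushY Y).map ((aP φ hφ).unit.app N)))) := by
    haveI : ∀ V, IsIso (((sheafToPresheaf _ _).map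
        ((rS φ hφ).map ((pushY Y).map ((aP φ hφ).unit.app N)))).app V) := by
      intro V
      rw [ConcreteCategory.isIso_iff_bijective]
      change Function.Bijective ((((pushY Y).map ((aP φ hφ).unit.app N)).hom.app
        (op ((ΦS φ hφ).obj V.unop))).hom)
      have key : ∀ n : SimplexCategoryᵒᵖ, Function.Bijective
          (((aP φ hφ).unit.app N).hom.app (op ((sec Y ((ΦS φ hφ).obj V.unop)).obj n))).hom := by
        intro n
        rw [unit_app_hom_app]
        haveI := isIso_counit_app φ hφ ((sec Y ((ΦS φ hφ).obj V.unop)).obj n)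
          (sec_subset_range φ hφ hc V.unop n)
        exact (ConcreteCategory.isIso_iff_bijective _).1 inferInstance
      exact bijective_push_map_app _ _ (key _) (key _).1
    exact NatIso.isIso_of_isIso_app _
  exact isIso_of_reflects_iso _ (sheafToPresheaf _ _)

end hL

section acyclic

open Groth.Agent.Helper6.RDU

lemma mono_ΦP_map_ι_map (n : SimplexCategoryᵒᵖ) {V W : Opens (Y'.obj (tA n))} (i : V ⟶ W) :
    Mono ((ΦP φ hφ).map ((ι (FibDesc.part (FibDesc.topAug Y')) n).map i)) :=
  ⟨fun f g h => homP_ext Y f g (by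
    have h' : f.base ≫ 𝟙 n = g.base ≫ 𝟙 n := congrArg Hom.base h
    exact (Category.comp_id f.base).symm.trans (h'.trans (Category.comp_id g.base)))⟩

lemma levelFlasque_rP (I : DShY Y) [Injective I] : LevelFlasque Y' ((rP φ hφ).obj I) := by
  intro n
  haveI : Injective I.obj := CechInj.injective_sheaf_obj _ I
  constructor
  intro U V i
  rw [AddCommGrpCat.epi_iff_surjective]
  haveI := mono_ΦP_map_ι_map φ hφ n i.unop
  exact DC6.surjective_map_of_mono I.obj
    ((ΦP φ hφ).map ((ι (FibDesc.part (FibDesc.topAug Y')) n).map i.unop))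

variable (hc : IsCart φ)

include hc in
lemma image_preU (U' : Opens (S₀ Y')) (n : SimplexCategoryᵒᵖ) :
    (hφ (tA n)).isOpenMap.functor.obj (preU Y' U' n) = preU Y ((ΦS φ hφ).obj U') n := by
  ext w
  constructor
  · rintro ⟨w', hw', rfl⟩
    exact ⟨aug Y' (tA n) w', hw', ConcreteCategory.congr_hom (φ.naturality (toBot (tA n))) w'⟩
  · intro hw
    obtain ⟨s, hs, hsw⟩ := hw
    have hr : w ∈ Set.range (φ.app (tA n)) := by
      rw [hc (tA n)]
      exact ⟨s, hsw⟩
    obtain ⟨w', rfl⟩ := hr
    refine ⟨w', ?_, rfl⟩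
    have h1 : (φ.app (FibDesc.bot SimplexCategory)) (aug Y' (tA n) w') =
        aug Y (tA n) (φ.app (tA n) w') :=
      ConcreteCategory.congr_hom (φ.naturality (toBot (tA n))) w'
    have h2 : aug Y' (tA n) w' = s :=
      (hφ (FibDesc.bot SimplexCategory)).injective (h1.trans hsw.symm)
    change aug Y' (tA n) w' ∈ U'
    rw [h2]
    exact hs

/-- the image of the simplicial object of `U'` is the simplicial object of the image of `U'` -/
def secIso (U' : Opens (S₀ Y')) : sec Y' U' ⋙ ΦP φ hφ ≅ sec Y ((ΦS φ hφ).obj U') :=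
  NatIso.ofComponents (fun n =>
    { hom := homP Y (t := (ΦP φ hφ).obj ((sec Y' U').obj n))
        (t' := (sec Y ((ΦS φ hφ).obj U')).obj n) (𝟙 n)
        (le_map_idP (le_of_eq (image_preU φ hφ hc U' n)))
      inv := homP Y (t := (sec Y ((ΦS φ hφ).obj U')).obj n)
        (t' := (ΦP φ hφ).obj ((sec Y' U').obj n)) (𝟙 n)
        (le_map_idP (le_of_eq (image_preU φ hφ hc U' n).symm))
      hom_inv_id := homP_ext Y _ _ (Category.comp_id _)
      inv_hom_id := homP_ext Y _ _ (Category.comp_id _) }) (by
    intro n m f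
    apply homP_ext
    exact (Category.comp_id _).trans (Category.id_comp _).symm)

include hc in
lemma isZero_homology_CxU_rP (I : DShY Y) [Injective I] (U' : Opens (S₀ Y')) (k : ℕ) :
    IsZero (((CxU Y' U').obj ((rP φ hφ).obj I)).homology (k + 1)) := by
  haveI : Injective I.obj := CechInj.injective_sheaf_obj _ I
  let e := (AlgebraicTopology.alternatingFaceMapComplex _).mapIso
    (Functor.isoWhiskerRight (secIso φ hφ hc U') zy)
  let π : freeCx (sec Y' U' ⋙ ΦP φ hφ) ⟶
      (ChainComplex.single₀ _).obj (PU Y ((ΦS φ hφ).obj U')) :=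
    e.hom ≫ πU Y ((ΦS φ hφ).obj U')
  haveI : QuasiIso π := inferInstance
  exact isZero_homology_of_injective (sec Y' U' ⋙ ΦP φ hφ) I.obj π k

include hc in
lemma acyc_rP (I : DShY Y) (hI : Injective I) : AcycFrom (pushY Y') 0 ((rP φ hφ).obj I) := by
  intro k hk
  obtain ⟨k, rfl⟩ := Nat.exists_eq_succ_of_ne_zero (Nat.pos_iff_ne_zero.1 hk)
  exact isZero_rightDerived_push Y' _ (levelFlasque_rP φ hφ I) (fun U j hj => by
    obtain ⟨j, rfl⟩ := Nat.exists_eq_succ_of_ne_zero (Nat.pos_iff_ne_zero.1 hj)
    exact isZero_homology_CxU_rP φ hφ hc I U j) k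

end acyclic

section main

attribute [local instance] HasDerivedCategory.standard

/-- the inverse image of the augmentation -/
abbrev pullY (Y : (WithInitial SimplexCategory)ᵒᵖ ⥤ TopCat.{u}) : DC6.ShS Y ⥤ DShY Y :=
  FibDesc.pull (FibDesc.topAug Y) (FibDesc.topAugTop Y) AddCommGrpCat.{u}

/-- the adjunction of the augmentation -/
abbrev adjY (Y : (WithInitial SimplexCategory)ᵒᵖ ⥤ TopCat.{u}) : pullY Y ⊣ pushY Y :=
  FibDesc.adj (FibDesc.topAug Y) (FibDesc.topAugTop Y) AddCommGrpCat.{u}

theorem isIso_unit_of_isCohDescentTop (h : FibDesc.IsCohDescentTop Y) (M : BSh Y) :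
    IsIso ((adjY Y).unit.app M) := by
  obtain ⟨_, _, _, _, _, h6, hFF⟩ := h
  haveI : PreservesFiniteLimits (pullY Y) := h6
  exact DC10.isIso_unit (adjY Y) hFF M

theorem isZero_rightDerived_of_isCohDescentTop (h : FibDesc.IsCohDescentTop Y) (M : BSh Y)
    (n : ℕ) (hn : 0 < n) : IsZero (((pushY Y).rightDerived n).obj ((pullY Y).obj M)) := by
  obtain ⟨_, _, _, _, _, h6, hFF⟩ := h
  haveI : PreservesFiniteLimits (pullY Y) := h6
  exact DC10.isZero_rightDerived (adjY Y) (fun M => by
      obtain ⟨I, f, hI, hf, -, -⟩ := KInjD.exists_kInjective_resolution M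
      exact ⟨I, f, hI, hf⟩) hFF M n hn

variable (hc : IsCart φ)

include hc in
/-- the unit is an isomorphism over the image of `φ` -/
theorem isIso_rS_unit (h' : FibDesc.IsCohDescentTop Y') (M : BSh Y) :
    IsIso ((rS φ hφ).map ((adjY Y).unit.app M)) := by
  haveI : PreservesFiniteLimits (pushY Y) := PreservesLimitsOfSize.preservesFiniteLimits _
  haveI : PreservesFiniteLimits (pushY Y') := PreservesLimitsOfSize.preservesFiniteLimits _
  exact DC11.isIso_rS_unit (adjY Y) (adjY Y') (aS φ hφ) (aP φ hφ) (γ φ hφ) (hL φ hφ hc)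
    (isIso_unit_of_isCohDescentTop h') M

include hc in
/-- the higher direct images of an inverse image vanish over the image of `φ` -/
theorem isZero_rS_rightDerived_pull (h' : FibDesc.IsCohDescentTop Y') (M : BSh Y)
    (n : ℕ) (hn : 0 < n) :
    IsZero ((rS φ hφ).obj (((pushY Y).rightDerived n).obj ((pullY Y).obj M))) := by
  haveI : PreservesFiniteLimits (pushY Y) := PreservesLimitsOfSize.preservesFiniteLimits _
  haveI : PreservesFiniteLimits (pushY Y') := PreservesLimitsOfSize.preservesFiniteLimits _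
  exact DC11.isZero_rS_rightDerived_pull (adjY Y) (adjY Y') (aS φ hφ) (aP φ hφ) (γ φ hφ)
    (hL φ hφ hc) (acyc_rP φ hφ hc) (isZero_rightDerived_of_isCohDescentTop h') M n hn

end main

end

end Groth.Agent.Helper3.DC12
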