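import Mathlib
import Groth.Prelude.Def_FibDesc
import Groth.Agent.Lib.Helper3.DC12

/-!
# Cohomological descent of augmented simplicial spaces is local on the base
-/

set_option autoImplicit false
set_option backward.isDefEq.respectTransparency false
open CategoryTheory Limits Opposite TopologicalSpace Pseudofunctor.CoGrothendieck Simplicial Topology

universe u
namespace Groth.Agent.Helper3.DC14

open DC2 DC4 DC5 DC12

variable {Y : (WithInitial SimplexCategory)ᵒᵖ ⥤ TopCat.{u}} {ι : Type u}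
  (Yi : ι → ((WithInitial SimplexCategory)ᵒᵖ ⥤ TopCat.{u})) (φ : ∀ i, Yi i ⟶ Y)
  (hφ : ∀ i, IsOE (φ i))
  (hcov : ∀ s : S₀ Y, ∃ i, s ∈ Set.range ((φ i).app (FibDesc.bot SimplexCategory)))

include hcov in
lemma sections_eq_zero (Z : BSh Y) (h : ∀ i, IsZero ((rS (φ i) (hφ i)).obj Z))
    (U : Opens (S₀ Y)) (x : Z.obj.obj (op U)) : x = 0 := by
  let Ui : ι → Opens (S₀ Y) := fun i => (ΦS (φ i) (hφ i)).obj ((ΨS (φ i)).obj U)
  have hle : ∀ i, Ui i ≤ U := fun i => by
    rintro _ ⟨w, hw, rfl⟩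
    exact hw
  refine TopCat.Sheaf.eq_of_locally_eq' (X := S₀ Y) Z Ui U (fun i => homOfLE (hle i)) ?_ x 0 ?_
  · intro s hs
    obtain ⟨i, w, rfl⟩ := hcov s
    exact Opens.mem_iSup.2 ⟨i, w, hs, rfl⟩
  · intro i
    rw [map_zero]
    have h0 : 𝟙 ((rS (φ i) (hφ i)).obj Z) = 0 := (h i).eq_of_src _ _
    exact congrArg (fun f => (f.hom.app (op ((ΨS (φ i)).obj U))).hom
      ((Z.obj.map (homOfLE (hle i)).op).hom x)) h0

include hcov in
lemma isZero_of_rS (Z : BSh Y) (h : ∀ i, IsZero ((rS (φ i) (hφ i)).obj Z)) : IsZero Z := by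
  rw [IsZero.iff_id_eq_zero]
  apply Sheaf.hom_ext
  apply NatTrans.ext
  funext U
  apply AddCommGrpCat.hom_ext
  ext x
  exact sections_eq_zero Yi φ hφ hcov Z h U.unop _

include hcov in
lemma isIso_of_rS {A B : BSh Y} (f : A ⟶ B) (h : ∀ i, IsIso ((rS (φ i) (hφ i)).map f)) :
    IsIso f := by
  have hk : IsZero (kernel f) := isZero_of_rS Yi φ hφ hcov _ (fun i => by
    haveI := h i
    exact IsZero.of_iso (isZero_kernel_of_mono ((rS (φ i) (hφ i)).map f))
      (PreservesKernel.iso (rS (φ i) (hφ i)) f))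
  have hck : IsZero (cokernel f) := isZero_of_rS Yi φ hφ hcov _ (fun i => by
    haveI := h i
    exact IsZero.of_iso (isZero_cokernel_of_epi ((rS (φ i) (hφ i)).map f))
      (PreservesCokernel.iso (rS (φ i) (hφ i)) f))
  haveI : Mono f := Preadditive.mono_of_kernel_zero (hk.eq_of_src _ _)
  haveI : Epi f := Preadditive.epi_of_cokernel_zero (hck.eq_of_tgt _ _)
  exact isIso_of_mono_of_epi f

include hcov hφ in
/-- cohomological descent is local on the base -/
theorem isCohDescentTop_of_local (hc : ∀ i, IsCart (φ i))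
    (h : ∀ i, FibDesc.IsCohDescentTop (Yi i)) : FibDesc.IsCohDescentTop Y := by
  apply DC8.isCohDescentTop_of_acyclic
  · intro M
    exact isIso_of_rS Yi φ hφ hcov _
      (fun i => DC12.isIso_rS_unit (φ i) (hφ i) (hc i) (h i) M)
  · intro M n hn
    exact isZero_of_rS Yi φ hφ hcov _
      (fun i => DC12.isZero_rS_rightDerived_pull (φ i) (hφ i) (hc i) (h i) M n hn)

end Groth.Agent.Helper3.DC14
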