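import Mathlib
import Groth.Prelude.Def_FibDesc
import Groth.Agent.Lib.Helper3.DC14

/-!
# The Čech nerve commutes with base change; cohomological descent of maps is local on the base
-/

set_option autoImplicit false
set_option backward.isDefEq.respectTransparency false
open CategoryTheory Limits Opposite TopologicalSpace Simplicial Topology

universe u v w
namespace Groth.Agent.Helper3.DC13

section general

variable {C : Type u} [Category.{v} C] {f' f : Arrow C}
  [∀ n : ℕ, HasWidePullback f'.right (fun _ : Fin (n + 1) => f'.left) fun _ => f'.hom]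
  [∀ n : ℕ, HasWidePullback f.right (fun _ : Fin (n + 1) => f.left) fun _ => f.hom]
  (F : f' ⟶ f) (hF : IsPullback F.left f'.hom f.hom F.right)

include hF in
lemma isPullback_mapCechNerve (n : SimplexCategoryᵒᵖ) :
    IsPullback ((Arrow.mapCechNerve F).app n)
      (WidePullback.base (fun _ : Fin (n.unop.len + 1) => f'.hom))
      (WidePullback.base (fun _ : Fin (n.unop.len + 1) => f.hom)) F.right := by
  have w : (Arrow.mapCechNerve F).app n ≫ WidePullback.base (fun _ : Fin (n.unop.len + 1) => f.hom) =
      WidePullback.base (fun _ : Fin (n.unop.len + 1) => f'.hom) ≫ F.right := by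
    simp
  have hk : ∀ (s : PullbackCone (WidePullback.base (fun _ : Fin (n.unop.len + 1) => f.hom)) F.right)
      (k : Fin (n.unop.len + 1)),
      (s.fst ≫ WidePullback.π (fun _ : Fin (n.unop.len + 1) => f.hom) k) ≫ f.hom =
        s.snd ≫ F.right := by
    intro s k
    rw [Category.assoc, WidePullback.π_arrow]
    exact s.condition
  refine ⟨⟨w⟩, ⟨PullbackCone.IsLimit.mk w
    (fun s => WidePullback.lift s.snd (fun k => hF.lift
      (s.fst ≫ WidePullback.π (fun _ : Fin (n.unop.len + 1) => f.hom) k) s.snd (hk s k))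
      (fun k => hF.lift_snd _ _ _)) ?_ ?_ ?_⟩⟩
  · intro s
    apply WidePullback.hom_ext
    · intro k
      simp
    · simp [s.condition]
  · intro s
    simp
  · intro s m h1 h2
    apply WidePullback.hom_ext
    · intro k
      rw [WidePullback.lift_π]
      apply hF.hom_ext
      · rw [hF.lift_fst, ← h1]
        simp
      · rw [hF.lift_snd, ← h2, Category.assoc, WidePullback.π_arrow]
    · rw [WidePullback.lift_base]
      exact h2

end general

section top

open DC2 DC5 DC12

lemma isOpenEmbedding_of_isPullback {P X Y S : TopCat.{u}} {fst : P ⟶ X} {snd : P ⟶ Y}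
    {f : X ⟶ S} {g : Y ⟶ S} (h : IsPullback fst snd f g) (hg : IsOpenEmbedding g) :
    IsOpenEmbedding fst := by
  have e : fst = h.isoPullback.hom ≫ pullback.fst f g := h.isoPullback_hom_fst.symm
  rw [e, TopCat.coe_comp]
  exact (TopCat.fst_isOpenEmbedding_of_right f hg).comp
    (TopCat.homeoOfIso h.isoPullback).isOpenEmbedding

lemma range_of_isPullback {P X Y S : TopCat.{u}} {fst : P ⟶ X} {snd : P ⟶ Y}
    {f : X ⟶ S} {g : Y ⟶ S} (h : IsPullback fst snd f g) :
    Set.range fst = f ⁻¹' Set.range g := by
  have e : fst = h.isoPullback.hom ≫ pullback.fst f g := h.isoPullback_hom_fst.symm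
  have hs : Function.Surjective h.isoPullback.hom :=
    (TopCat.homeoOfIso h.isoPullback).surjective
  rw [e, TopCat.coe_comp, hs.range_comp, TopCat.pullback_fst_range]
  ext x
  constructor
  · rintro ⟨y, hy⟩
    exact ⟨y, hy.symm⟩
  · rintro ⟨y, hy⟩
    exact ⟨y, hy.symm⟩

variable {X S S' : TopCat.{u}} (u : X ⟶ S) (j : S' ⟶ S)

/-- the base change square as a morphism of arrows -/
noncomputable def arrowHom : Arrow.mk (pullback.snd u j) ⟶ Arrow.mk u :=
  Arrow.homMk (pullback.fst u j) j pullback.condition

/-- the induced morphism of augmented Čech nerves -/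
noncomputable def cechHom : FibDesc.cechAug (pullback.snd u j) ⟶ FibDesc.cechAug u :=
  AugmentedSimplexCategory.equivAugmentedSimplicialObject.inverse.map
    (Arrow.mapAugmentedCechNerve (arrowHom u j))

lemma cechHom_app_bot : (cechHom u j).app (FibDesc.bot SimplexCategory) = j := rfl

lemma cechHom_app_tA (n : SimplexCategoryᵒᵖ) :
    (cechHom u j).app (tA n) = (Arrow.mapCechNerve (arrowHom u j)).app n := rfl

lemma aug_cechAug (n : SimplexCategoryᵒᵖ) :
    aug (FibDesc.cechAug u) (tA n) =
      WidePullback.base (fun _ : Fin (n.unop.len + 1) => (Arrow.mk u).hom) := rfl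

lemma isPullback_arrowHom : IsPullback (arrowHom u j).left (Arrow.mk (pullback.snd u j)).hom
    (Arrow.mk u).hom (arrowHom u j).right :=
  IsPullback.of_hasPullback u j

lemma isPullback_cechHom (n : SimplexCategoryᵒᵖ) :
    IsPullback ((cechHom u j).app (tA n)) (aug (FibDesc.cechAug (pullback.snd u j)) (tA n))
      (aug (FibDesc.cechAug u) (tA n)) j :=
  isPullback_mapCechNerve (arrowHom u j) (isPullback_arrowHom u j) n

variable (hj : IsOpenEmbedding j)

include hj in
theorem isOE_cechHom : IsOE (cechHom u j) := by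
  rintro ⟨i⟩
  cases i with
  | of n => exact isOpenEmbedding_of_isPullback (isPullback_cechHom u j (op n)) hj
  | star => exact hj

theorem isCart_cechHom : IsCart (cechHom u j) := by
  rintro ⟨i⟩
  cases i with
  | of n => exact range_of_isPullback (isPullback_cechHom u j (op n))
  | star =>
    change Set.range j = (aug (FibDesc.cechAug u) (FibDesc.bot SimplexCategory)) ⁻¹' Set.range j
    rw [DC6.aug_bot]
    rfl

end top

/-- cohomological descent of a continuous map is local on the base -/
theorem isCohDescentMap_of_local {X S : TopCat.{u}} (u : X ⟶ S) {ι : Type u} (V : ι → Opens S)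
    (hV : iSup V = ⊤)
    (h : ∀ i, FibDesc.IsCohDescentMap
      (pullback.snd u (TopCat.ofHom ⟨Subtype.val, continuous_subtype_val⟩ : TopCat.of (V i) ⟶ S))) :
    FibDesc.IsCohDescentMap u := by
  let j : ∀ i, TopCat.of (V i) ⟶ S := fun i => TopCat.ofHom ⟨Subtype.val, continuous_subtype_val⟩
  have hj : ∀ i, IsOpenEmbedding (j i) := fun i => (V i).isOpenEmbedding
  refine DC14.isCohDescentTop_of_local (Y := FibDesc.cechAug u)
    (fun i => FibDesc.cechAug (pullback.snd u (j i))) (fun i => cechHom u (j i))
    (fun i => isOE_cechHom u (j i) (hj i)) ?_ (fun i => isCart_cechHom u (j i)) h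
  intro s
  have hs : s ∈ (⊤ : Opens S) := trivial
  rw [← hV] at hs
  obtain ⟨i, hi⟩ := Opens.mem_iSup.1 hs
  exact ⟨i, ⟨s, hi⟩, rfl⟩

end Groth.Agent.Helper3.DC13
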