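import Mathlib
import Groth.Prelude.Def_FibDesc
import Groth.Agent.Lib.Helper3.DC8

/-!
# A continuous map with a section is of cohomological descent
-/

set_option autoImplicit false
set_option backward.isDefEq.respectTransparency false
open CategoryTheory Limits Opposite TopologicalSpace Simplicial

universe u
namespace Groth.Agent.Helper3.DC9

open DC6 DC8

theorem isCohDescentMap_of_splitEpi {X S : TopCat.{u}} (f : X ⟶ S) (sp : SplitEpi f) :
    FibDesc.IsCohDescentMap f := by
  have ed₀ : (Arrow.mk f).augmentedCechNerve.ExtraDegeneracy :=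
    Arrow.AugmentedCechNerve.extraDegeneracy (Arrow.mk f) sp
  have ed : (XS (FibDesc.cechAug f)).ExtraDegeneracy :=
    ed₀.ofIso (AugmentedSimplexCategory.equivAugmentedSimplicialObject.counitIso.app
      (Arrow.mk f).augmentedCechNerve).symm
  exact isCohDescentTop_of_extraDegeneracy ed

theorem isUnivCohDescentMap_of_section {X S : TopCat.{u}} (f : X ⟶ S) (s : S ⟶ X)
    (h : s ≫ f = 𝟙 S) : FibDesc.IsUnivCohDescentMap f := by
  intro S' g
  apply isCohDescentMap_of_splitEpi
  exact ⟨pullback.lift (g ≫ s) (𝟙 S') (by rw [Category.assoc, h, Category.comp_id, Category.id_comp]),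
    pullback.lift_snd _ _ _⟩

end Groth.Agent.Helper3.DC9
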