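import Mathlib
import Groth.Prelude.Def_FibDesc
import Groth.Agent.Lib.Helper3.DC9
import Groth.Agent.Lib.Helper3.DC13

/-!
# A surjective local homeomorphism is universally of cohomological descent
-/

set_option autoImplicit false
set_option backward.isDefEq.respectTransparency false
open CategoryTheory Limits Opposite TopologicalSpace Simplicial Topology

universe u
namespace Groth.Agent.Helper3.DC15

/-- a continuous map with local sections is universally of cohomological descent -/
theorem isCohDescentMap_of_local_sections {X S : TopCat.{u}} (f : X ⟶ S)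
    (h : ∀ s : S, ∃ (V : Opens S), s ∈ V ∧ ∃ σ : TopCat.of V ⟶ X,
      σ ≫ f = (TopCat.ofHom ⟨Subtype.val, continuous_subtype_val⟩ : TopCat.of V ⟶ S)) :
    FibDesc.IsCohDescentMap f := by
  choose V hV σ hσ using h
  apply DC13.isCohDescentMap_of_local f V
  · apply top_unique
    intro s _
    exact Opens.mem_iSup.2 ⟨s, hV s⟩
  · intro s
    apply DC9.isCohDescentMap_of_splitEpi
    exact ⟨pullback.lift (σ s) (𝟙 _) (by rw [hσ s, Category.id_comp]), pullback.lift_snd _ _ _⟩

theorem isUnivCohDescentMap_of_isLocalHomeomorph {X S : TopCat.{u}} (f : X ⟶ S)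
    (hf : IsLocalHomeomorph f) (hsurj : Function.Surjective f) :
    FibDesc.IsUnivCohDescentMap f := by
  intro S' g
  apply isCohDescentMap_of_local_sections
  intro s'
  obtain ⟨x, hx⟩ := hsurj (g s')
  obtain ⟨e, hxe, hfe⟩ := hf x
  have hgs : g s' ∈ e.target := by
    rw [← hx, hfe]
    exact e.map_source hxe
  let V : Opens S' := ⟨g ⁻¹' e.target, e.open_target.preimage g.hom.continuous⟩
  refine ⟨V, hgs, ?_⟩
  let σ₀ : TopCat.of V ⟶ X := TopCat.ofHom ⟨fun v => e.symm (g v.1),
    e.continuousOn_symm.comp_continuous (g.hom.continuous.comp continuous_subtype_val)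
      (fun v => v.2)⟩
  have hσ₀ : σ₀ ≫ f =
      (TopCat.ofHom ⟨Subtype.val, continuous_subtype_val⟩ : TopCat.of V ⟶ S') ≫ g := by
    ext v
    change f (e.symm (g v.1)) = g v.1
    rw [hfe]
    exact e.right_inv v.2
  exact ⟨pullback.lift σ₀ (TopCat.ofHom ⟨Subtype.val, continuous_subtype_val⟩) hσ₀,
    pullback.lift_snd _ _ _⟩

end Groth.Agent.Helper3.DC15
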