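import Mathlib
import Groth.Prelude.Def_FibDesc
import Groth.Agent.Lib.Helper3.DC12

/-!
# The total site of a diagram of spaces over an arbitrary small index category; change of index
-/

set_option autoImplicit false
set_option backward.isDefEq.respectTransparency false
open CategoryTheory Limits Opposite TopologicalSpace Pseudofunctor.CoGrothendieck Simplicial Topology

universe u
namespace Groth.Agent.Helper3.DC16

open DC2 DC4 DC5 Groth.Agent.Lib.Helper5

noncomputable section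

variable {𝒮 : Type} [SmallCategory 𝒮] (Q : 𝒮 ⥤ TopCat.{u})

/-- the fibred category of open sets of a diagram of spaces -/
abbrev FQ : Pseudofunctor (LocallyDiscrete 𝒮ᵒᵖ) Cat.{u, u} :=
  (Q.op ⋙ FibDesc.opensCat).toPseudofunctor'

/-- its fibre topologies -/
abbrev JQ : FibSite.Topologies (FQ Q) := fun s => Opens.grothendieckTopology (Q.obj s)

example (s : 𝒮) : ((FQ Q).obj ⟨op s⟩ : Type u) = Opens (Q.obj s) := rfl

example {a b : 𝒮} (f : a ⟶ b) : FibSite.invImage (FQ Q) f = Opens.map (Q.map f) := rfl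

lemma thin_FQ : Thin (FQ Q) := by
  intro S a b
  change Subsingleton ((a : Opens (Q.obj S)) ⟶ (b : Opens (Q.obj S)))
  infer_instance

theorem isPreFibSite_FQ : FibSite.IsPreFibSite (FQ Q) (JQ Q) := by
  intro R S f
  exact inferInstanceAs ((Opens.map (Q.map f)).IsContinuous
    (Opens.grothendieckTopology (Q.obj S)) (Opens.grothendieckTopology (Q.obj R)))

/-- the total category -/
abbrev TQ := ∫ᶜ (FQ Q)

/-- the total topology -/
abbrev KQ : GrothendieckTopology (TQ Q) := FibSite.totalTopology (FQ Q) (JQ Q)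

/-- the fibre component as an open set -/
abbrev fibQ (t : TQ Q) : Opens (Q.obj t.base) := t.fiber

/-- constructor for morphisms -/
def homQ {t t' : TQ Q} (f : t.base ⟶ t'.base)
    (h : fibQ Q t ≤ (Opens.map (Q.map f)).obj (fibQ Q t')) : t ⟶ t' :=
  ⟨f, (homOfLE h : fibQ Q t ⟶ (Opens.map (Q.map f)).obj (fibQ Q t'))⟩

variable {Q}

lemma le_of_homQ {t t' : TQ Q} (g : t ⟶ t') :
    fibQ Q t ≤ (Opens.map (Q.map g.base)).obj (fibQ Q t') := leOfHom g.fiber

lemma homQ_ext {t t' : TQ Q} (f g : t ⟶ t') (h : f.base = g.base) : f = g :=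
  hom_ext_base (thin_FQ Q) f g h

@[simp] lemma homQ_base {t t' : TQ Q} (f : t.base ⟶ t'.base)
    (h : fibQ Q t ≤ (Opens.map (Q.map f)).obj (fibQ Q t')) : (homQ Q f h).base = f := rfl

variable (Q)

instance ιQ_continuous (s : 𝒮) : (ι (FQ Q) s).IsContinuous (JQ Q s) (KQ Q) :=
  FibTot.isContinuous_ι _ (isPreFibSite_FQ Q) s

instance ιQ_cocontinuous (s : 𝒮) : (ι (FQ Q) s).IsCocontinuous (JQ Q s) (KQ Q) :=
  FibTot.isCocontinuous_ι _ (isPreFibSite_FQ Q) s

lemma mono_of_base_mono {t t' : TQ Q} (m : t ⟶ t') [Mono m.base] : Mono m :=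
  ⟨fun f g h => homQ_ext f g (by
    have h' : f.base ≫ m.base = g.base ≫ m.base := congrArg Hom.base h
    exact (cancel_mono m.base).1 h')⟩

section indexChange

variable {𝒮' : Type} [SmallCategory 𝒮'] (k : 𝒮' ⥤ 𝒮)

/-- change of index category -/
def Tk : TQ (k ⋙ Q) ⥤ TQ Q where
  obj X := ⟨k.obj X.base, X.fiber⟩
  map φ := ⟨k.map φ.base, φ.fiber⟩
  map_id X := homQ_ext _ _ (k.map_id _)
  map_comp f g := homQ_ext _ _ (k.map_comp _ _)

@[simp] lemma Tk_map_base {X Y : TQ (k ⋙ Q)} (φ : X ⟶ Y) : ((Tk Q k).map φ).base = k.map φ.base := rfl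

/-- the fibre inclusions correspond -/
def ιTkIso (s : 𝒮') : ι (FQ (k ⋙ Q)) s ⋙ Tk Q k ≅ ι (FQ Q) (k.obj s) :=
  NatIso.ofComponents (fun U => Iso.refl _) (by
    intro U V g
    apply homQ_ext
    change (k.map (𝟙 _)) ≫ 𝟙 _ = 𝟙 _ ≫ 𝟙 _
    rw [k.map_id])

instance Tk_continuous : (Tk Q k).IsContinuous (KQ (k ⋙ Q)) (KQ Q) := by
  rw [FibTot.isContinuous_iff _ (isPreFibSite_FQ (k ⋙ Q))]
  intro i
  haveI : (ι (FQ Q) (k.obj i)).IsContinuous (JQ (k ⋙ Q) i) (KQ Q) := ιQ_continuous Q (k.obj i)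
  exact Functor.isContinuous_of_iso (ιTkIso Q k i).symm _ _

lemma Tk_map_ι_map (s : 𝒮') {U V : Opens (Q.obj (k.obj s))} (g : U ⟶ V) :
    (Tk Q k).map ((ι (FQ (k ⋙ Q)) s).map g) = (ι (FQ Q) (k.obj s)).map g := by
  apply homQ_ext
  exact k.map_id _

instance Tk_cocontinuous : (Tk Q k).IsCocontinuous (KQ (k ⋙ Q)) (KQ Q) where
  cover_lift {t T} hT := by
    obtain ⟨R, hR, hle⟩ := (FibTot.mem_totalTopology_iff _ (isPreFibSite_FQ Q) _ T).1 hT
    refine (FibTot.mem_totalTopology_iff _ (isPreFibSite_FQ (k ⋙ Q)) _ _).2 ⟨R, hR, ?_⟩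
    rintro Z h ⟨W, e, b, he, rfl⟩
    change T ((Tk Q k).map (b ≫ _))
    rw [Functor.map_comp]
    apply T.downward_closed
    rw [Tk_map_ι_map]
    exact hle _ (Sieve.image_mem_functorPushforward _ _ he)

instance Tk_faithful [k.Faithful] : (Tk Q k).Faithful where
  map_injective {X Y} f g h := by
    apply homQ_ext
    apply k.map_injective
    exact congrArg Hom.base h

instance Tk_full [k.Full] : (Tk Q k).Full where
  map_surjective {X Y} h := by
    have hle := le_of_homQ h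
    refine ⟨homQ (k ⋙ Q) (k.preimage h.base) ?_, ?_⟩
    · change fibQ (k ⋙ Q) X ≤ (Opens.map (Q.map (k.map (k.preimage h.base)))).obj (fibQ (k ⋙ Q) Y)
      rw [k.map_preimage]
      exact hle
    · apply homQ_ext
      exact k.map_preimage h.base

end indexChange

end

end Groth.Agent.Helper3.DC16
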