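import Mathlib
import Groth.Agent.Lib.Helper3.DC4
import Groth.Agent.Lib.Helper3.FreeQI
import Groth.Agent.Lib.Helper3.CechAcy

/-!
# Right Kan extensions of abelian presheaves along a functor and simplicial objects of the target
with pointwise extra degeneracies
-/

set_option autoImplicit false
set_option backward.isDefEq.respectTransparency false
universe u
open CategoryTheory Limits Opposite Simplicial AlgebraicTopology

namespace Groth.Agent.Helper3.DC17

open DC4

variable {C D : Type u} [SmallCategory C] [SmallCategory D] (J : C ⥤ D)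

/-- restriction of abelian presheaves along `J` -/
abbrev WJ : (Dᵒᵖ ⥤ AddCommGrpCat.{u}) ⥤ (Cᵒᵖ ⥤ AddCommGrpCat.{u}) :=
  (Functor.whiskeringLeft Cᵒᵖ Dᵒᵖ AddCommGrpCat.{u}).obj J.op

variable {J}

lemma homEquiv_symm_zero (X : Dᵒᵖ ⥤ AddCommGrpCat.{u}) (N : Cᵒᵖ ⥤ AddCommGrpCat.{u}) :
    ((J.op.ranAdjunction AddCommGrpCat.{u}).homEquiv X N).symm 0 = 0 := by
  rw [Adjunction.homEquiv_counit, Functor.map_zero, zero_comp]

/-- extension of morphisms to the right Kan extension of an injective presheaf along a sequence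
whose restriction is exact -/
lemma exists_desc_ran (N : Cᵒᵖ ⥤ AddCommGrpCat.{u}) [Injective N]
    (S : ShortComplex (Dᵒᵖ ⥤ AddCommGrpCat.{u})) (hS : (S.map (WJ J)).Exact)
    (g : S.X₂ ⟶ J.op.ran.obj N) (hg : S.f ≫ g = 0) :
    ∃ h : S.X₃ ⟶ J.op.ran.obj N, S.g ≫ h = g := by
  let adj := J.op.ranAdjunction AddCommGrpCat.{u}
  let g' : (S.map (WJ J)).X₂ ⟶ N := (adj.homEquiv _ _).symm g
  have hg' : (S.map (WJ J)).f ≫ g' = 0 := by
    change (WJ J).map S.f ≫ (adj.homEquiv _ _).symm g = 0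
    rw [← adj.homEquiv_naturality_left_symm, hg]
    exact homEquiv_symm_zero _ _
  let h' : (S.map (WJ J)).X₃ ⟶ N := hS.descToInjective g' hg'
  have hh' : (S.map (WJ J)).g ≫ h' = g' := hS.comp_descToInjective g' hg'
  refine ⟨adj.homEquiv _ _ h', ?_⟩
  rw [← adj.homEquiv_naturality_left]
  have : (WJ J).map S.g ≫ h' = g' := hh'
  rw [this]
  exact (adj.homEquiv _ _).apply_symm_apply g

section complexes

variable (σ : SimplicialObject D) (N : Cᵒᵖ ⥤ AddCommGrpCat.{u})

/-- the complex of sections over `σ_•` of the right Kan extension of an injective presheaf is exact in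
positive degrees as soon as the restriction of the free complex is -/
theorem isZero_homology_ran_of_injective [Injective N]
    (hE : ∀ n : ℕ, ((ShortComplex.mk ((freeCx σ).d (n + 2) (n + 1))
      ((freeCx σ).d (n + 1) n) ((freeCx σ).d_comp_d _ _ _)).map (WJ J)).Exact) (n : ℕ) :
    IsZero (((CCF σ).obj (J.op.ran.obj N)).homology (n + 1)) := by
  rw [← HomologicalComplex.exactAt_iff_isZero_homology,
    HomologicalComplex.exactAt_iff' _ n (n + 1) (n + 2) (by simp) (by simp),
    ShortComplex.ab_exact_iff]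
  intro x hx
  change (((CCF σ).obj (J.op.ran.obj N)).d (n + 1) (n + 2)).hom x = 0 at hx
  change ∃ y, (((CCF σ).obj (J.op.ran.obj N)).d n (n + 1)).hom y = x
  obtain ⟨g, rfl⟩ := (yE (σ _⦋n + 1⦌) (J.op.ran.obj N)).surjective x
  rw [← he] at hx
  have hg : (freeCx σ).d (n + 2) (n + 1) ≫ g = 0 := by
    apply (yE (σ _⦋n + 1 + 1⦌) (J.op.ran.obj N)).injective
    exact hx.trans (map_zero _).symm
  obtain ⟨g', hg'⟩ := exists_desc_ran N _ (hE n) g hg
  refine ⟨yE (σ _⦋n⦌) (J.op.ran.obj N) g', ?_⟩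
  rw [← he]
  exact congrArg _ hg'

lemma CCF_d_zero_iff (M : Dᵒᵖ ⥤ AddCommGrpCat.{u}) (x : M.obj (op (σ _⦋0⦌))) :
    (((CCF σ).obj M).d 0 1).hom x = 0 ↔
      (M.map (σ.δ (0 : Fin 2)).op).hom x = (M.map (σ.δ (1 : Fin 2)).op).hom x := by
  rw [CCF_d, Fin.sum_univ_two]
  simp only [Fin.val_zero, pow_zero, one_smul, Fin.val_one, pow_one, neg_smul]
  rw [← sub_eq_add_neg]
  exact sub_eq_zero

end complexes

section kan

variable (Sg : SimplicialObject.Augmented D)

/-- the augmented simplicial presheaf of sets represented by `Sg` -/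
abbrev yAug : SimplicialObject.Augmented (Dᵒᵖ ⥤ Type u) :=
  ((SimplicialObject.Augmented.whiskering _ _).obj yoneda).obj Sg

/-- the augmentation of the free complex -/
noncomputable def πD : freeCx Sg.left ⟶ (ChainComplex.single₀ _).obj (zy.obj Sg.right) :=
  AlternatingFaceMapComplex.ε.app (FreeQI.freeAug (yAug Sg))

/-- the augmentation in degree zero -/
abbrev ε₀ : Sg.left _⦋0⦌ ⟶ Sg.right := Sg.hom.app (op ⦋0⦌)

lemma πD_f_zero : (πD Sg).f 0 = zy.map (ε₀ Sg) :=
  AlternatingFaceMapComplex.ε_app_f_zero _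

variable (J) in
/-- the augmented simplicial presheaf of sets `t ↦ Hom(J t, Sg_•)` -/
abbrev AsetC : SimplicialObject.Augmented (Cᵒᵖ ⥤ Type u) :=
  ((SimplicialObject.Augmented.whiskering _ _).obj
    (yoneda ⋙ (Functor.whiskeringLeft Cᵒᵖ Dᵒᵖ (Type u)).obj J.op)).obj Sg

theorem quasiIso_of_ed
    (h : ∀ t : Cᵒᵖ, Nonempty (SimplicialObject.Augmented.ExtraDegeneracy
      (FreeQI.evalAug (AsetC J Sg) t))) :
    QuasiIso (((WJ J).mapHomologicalComplex _).map (πD Sg)) := by
  apply FreeQI.quasiIso_ε_of_whiskering (WJ J) (FreeQI.freeAug (yAug Sg))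
  exact FreeQI.quasiIso_ε_freeAug (AsetC J Sg) h

end kan

section kan2

variable (J) (Sg : SimplicialObject.Augmented D)

/-- the restricted free complex -/
noncomputable abbrev KW : ChainComplex (Cᵒᵖ ⥤ AddCommGrpCat.{u}) ℕ :=
  ((WJ J).mapHomologicalComplex _).obj (freeCx Sg.left)

/-- its augmentation -/
noncomputable def πW : KW J Sg ⟶ (ChainComplex.single₀ _).obj ((WJ J).obj (zy.obj Sg.right)) :=
  ((WJ J).mapHomologicalComplex _).map (πD Sg) ≫
    (HomologicalComplex.singleMapHomologicalComplex (WJ J) (ComplexShape.down ℕ) 0).hom.app _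

/-- the comparison in degree zero -/
noncomputable def θW : (((WJ J).mapHomologicalComplex (ComplexShape.down ℕ)).obj
    ((ChainComplex.single₀ _).obj (zy.obj Sg.right))).X 0 ≅
    ((ChainComplex.single₀ _).obj ((WJ J).obj (zy.obj Sg.right))).X 0 :=
  (HomologicalComplex.eval _ _ 0).mapIso
    ((HomologicalComplex.singleMapHomologicalComplex (WJ J) (ComplexShape.down ℕ) 0).app _)

lemma πW_f_zero : (πW J Sg).f 0 = (WJ J).map (zy.map (ε₀ Sg)) ≫ (θW J Sg).hom := by
  change (WJ J).map ((πD Sg).f 0) ≫ _ = _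
  rw [πD_f_zero]
  rfl

variable (hQ : QuasiIso (((WJ J).mapHomologicalComplex _).map (πD Sg)))

include hQ in
lemma quasiIso_πW : QuasiIso (πW J Sg) := by
  haveI := hQ
  dsimp only [πW]
  infer_instance

include hQ in
lemma exact_of_quasiIso (n : ℕ) : ((ShortComplex.mk ((freeCx Sg.left).d (n + 2) (n + 1))
    ((freeCx Sg.left).d (n + 1) n) ((freeCx Sg.left).d_comp_d _ _ _)).map (WJ J)).Exact := by
  haveI := quasiIso_πW J Sg hQ
  have h : (KW J Sg).ExactAt (n + 1) := by
    rw [← quasiIsoAt_iff_exactAt' (πW J Sg) (n + 1) (ChainComplex.exactAt_succ_single_obj _ _)]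
    infer_instance
  exact (HomologicalComplex.exactAt_iff' _ (n + 2) (n + 1) n (by simp) (by simp)).1 h

include hQ in
/-- sections of a right Kan extension over the augmentation object are the `0`-cocycles of the
sections over `σ_•` -/
theorem ran_kan (N : Cᵒᵖ ⥤ AddCommGrpCat.{u}) :
    Function.Injective ((J.op.ran.obj N).map (ε₀ Sg).op).hom ∧
      ∀ x : (J.op.ran.obj N).obj (op (Sg.left _⦋0⦌)),
        (((CCF Sg.left).obj (J.op.ran.obj N)).d 0 1).hom x = 0 →
          ∃ y, ((J.op.ran.obj N).map (ε₀ Sg).op).hom y = x := by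
  haveI := quasiIso_πW J Sg hQ
  let adj := J.op.ranAdjunction AddCommGrpCat.{u}
  have hepi : Epi ((WJ J).map (zy.map (ε₀ Sg))) := by
    haveI := CechAcy.epi_π _ _ (πW J Sg)
    have e : (WJ J).map (zy.map (ε₀ Sg)) = (πW J Sg).f 0 ≫ (θW J Sg).inv := by
      rw [πW_f_zero, Category.assoc, Iso.hom_inv_id, Category.comp_id]
    rw [e]
    infer_instance
  constructor
  · intro y y' hyy
    have h1 : zy.map (ε₀ Sg) ≫ (yE Sg.right (J.op.ran.obj N)).symm y =
        zy.map (ε₀ Sg) ≫ (yE Sg.right (J.op.ran.obj N)).symm y' := by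
      apply (yE (Sg.left _⦋0⦌) (J.op.ran.obj N)).injective
      rw [yE_map_comp, yE_map_comp, AddEquiv.apply_symm_apply, AddEquiv.apply_symm_apply]
      exact hyy
    have h2 := congrArg (adj.homEquiv _ _).symm h1
    rw [adj.homEquiv_naturality_left_symm, adj.homEquiv_naturality_left_symm] at h2
    have h3 := (cancel_epi ((WJ J).map (zy.map (ε₀ Sg)))).1 h2
    have h4 := (adj.homEquiv _ _).symm.injective h3
    exact (yE Sg.right (J.op.ran.obj N)).symm.injective h4
  · intro x hx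
    let g := (yE (Sg.left _⦋0⦌) (J.op.ran.obj N)).symm x
    have hg : (freeCx Sg.left).d 1 0 ≫ g = 0 := by
      apply (yE (Sg.left _⦋0 + 1⦌) (J.op.ran.obj N)).injective
      rw [he, AddEquiv.apply_symm_apply, hx, map_zero]
    let g' : (WJ J).obj (zy.obj (Sg.left _⦋0⦌)) ⟶ N := (adj.homEquiv _ _).symm g
    have hg' : (KW J Sg).d 1 0 ≫ g' = 0 := by
      change (WJ J).map ((freeCx Sg.left).d 1 0) ≫ (adj.homEquiv _ _).symm g = 0
      rw [← adj.homEquiv_naturality_left_symm, hg]
      exact homEquiv_symm_zero _ _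
    let cok := CechAcy.isColimitCokernelCofork _ _ (πW J Sg)
    let h'' := cok.desc (CokernelCofork.ofπ g' hg')
    have hfac : (πW J Sg).f 0 ≫ h'' = g' := cok.fac (CokernelCofork.ofπ g' hg') WalkingParallelPair.one
    let h : zy.obj Sg.right ⟶ J.op.ran.obj N := adj.homEquiv _ _ ((θW J Sg).hom ≫ h'')
    have hh : zy.map (ε₀ Sg) ≫ h = g := by
      rw [← adj.homEquiv_naturality_left]
      have e : (WJ J).map (zy.map (ε₀ Sg)) ≫ (θW J Sg).hom ≫ h'' = g' := by
        rw [← Category.assoc, ← πW_f_zero]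
        exact hfac
      rw [e]
      exact (adj.homEquiv _ _).apply_symm_apply g
    refine ⟨yE Sg.right (J.op.ran.obj N) h, ?_⟩
    rw [← yE_map_comp, hh]
    exact (yE _ _).apply_symm_apply x

omit hQ in
/-- the image of the augmentation consists of cocycles -/
lemma d_map_ε₀ (M : Dᵒᵖ ⥤ AddCommGrpCat.{u}) (y : M.obj (op Sg.right)) :
    (((CCF Sg.left).obj M).d 0 1).hom ((M.map (ε₀ Sg).op).hom y) = 0 := by
  have h := d_yE_π Sg.left M (πD Sg) ((yE Sg.right M).symm y)
  rw [πD_f_zero, yE_map_comp, AddEquiv.apply_symm_apply] at h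
  exact h

include hQ in
theorem isZero_homology_ran (N : Cᵒᵖ ⥤ AddCommGrpCat.{u}) [Injective N] (n : ℕ) :
    IsZero (((CCF Sg.left).obj (J.op.ran.obj N)).homology (n + 1)) :=
  isZero_homology_ran_of_injective Sg.left N (exact_of_quasiIso J Sg hQ) n

end kan2

end Groth.Agent.Helper3.DC17
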