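import Mathlib
import Groth.Prelude.Def_FibDesc
import Groth.Agent.Lib.Helper3.DC16

/-!
# Lines: augmented simplicial spaces inside a diagram of spaces, and the extension from a terminal
vertex restricted to a line
-/

set_option autoImplicit false
set_option backward.isDefEq.respectTransparency false
open CategoryTheory Limits Opposite TopologicalSpace Pseudofunctor.CoGrothendieck Simplicial Topology

universe u
namespace Groth.Agent.Helper3.DC18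

open DC2 DC4 DC5 DC12 DC16 Groth.Agent.Lib.Helper5

noncomputable section

variable {𝒮 : Type} [SmallCategory 𝒮] (Q : 𝒮 ⥤ TopCat.{u})
  (ℓ : (WithInitial SimplexCategory)ᵒᵖ ⥤ 𝒮)

/-- the augmented simplicial space of a line -/
abbrev YL : (WithInitial SimplexCategory)ᵒᵖ ⥤ TopCat.{u} := ℓ ⋙ Q

/-- the functor from the augmented total category of a line -/
def LG : TA (YL Q ℓ) ⥤ TQ Q where
  obj X := ⟨ℓ.obj X.base, X.fiber⟩
  map φ := ⟨ℓ.map φ.base, φ.fiber⟩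
  map_id X := homQ_ext _ _ (ℓ.map_id _)
  map_comp f g := homQ_ext _ _ (ℓ.map_comp _ _)

@[simp] lemma LG_map_base {X Y : TA (YL Q ℓ)} (φ : X ⟶ Y) :
    ((LG Q ℓ).map φ).base = ℓ.map φ.base := rfl

/-- the fibre inclusions correspond -/
def ιLGIso (i : (WithInitial SimplexCategory)ᵒᵖ) :
    ι (FibDesc.topAug (YL Q ℓ)) i ⋙ LG Q ℓ ≅ ι (FQ Q) (ℓ.obj i) :=
  NatIso.ofComponents (fun U => Iso.refl _) (by
    intro U V g
    apply homQ_ext
    change (ℓ.map (𝟙 _)) ≫ 𝟙 _ = 𝟙 _ ≫ 𝟙 _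
    rw [ℓ.map_id])

instance LG_continuous : (LG Q ℓ).IsContinuous (JA (YL Q ℓ)) (KQ Q) := by
  rw [FibTot.isContinuous_iff _ (isPreFibSite (YL Q ℓ))]
  intro i
  haveI : (ι (FQ Q) (ℓ.obj i)).IsContinuous (FibDesc.topAugTop (YL Q ℓ) i) (KQ Q) :=
    ιQ_continuous Q (ℓ.obj i)
  exact Functor.isContinuous_of_iso (ιLGIso Q ℓ i).symm _ _

lemma LG_map_ι_map (i : (WithInitial SimplexCategory)ᵒᵖ) {U V : Opens (Q.obj (ℓ.obj i))}
    (g : U ⟶ V) :
    (LG Q ℓ).map ((ι (FibDesc.topAug (YL Q ℓ)) i).map g) = (ι (FQ Q) (ℓ.obj i)).map g := by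
  apply homQ_ext
  exact ℓ.map_id _

instance LG_cocontinuous : (LG Q ℓ).IsCocontinuous (JA (YL Q ℓ)) (KQ Q) where
  cover_lift {t T} hT := by
    obtain ⟨R, hR, hle⟩ := (FibTot.mem_totalTopology_iff _ (isPreFibSite_FQ Q) _ T).1 hT
    refine (FibTot.mem_totalTopology_iff _ (isPreFibSite (YL Q ℓ)) _ _).2 ⟨R, hR, ?_⟩
    rintro Z h ⟨W, e, b, he, rfl⟩
    change T ((LG Q ℓ).map (b ≫ _))
    rw [Functor.map_comp]
    apply T.downward_closed
    rw [LG_map_ι_map]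
    exact hle _ (Sieve.image_mem_functorPushforward _ _ he)

/-- abelian sheaves on the total site of the diagram -/
abbrev ShQ := Sheaf (KQ Q) AddCommGrpCat.{u}

instance LG_ran (P : (TA (YL Q ℓ))ᵒᵖ ⥤ AddCommGrpCat.{u}) :
    (LG Q ℓ).op.HasPointwiseRightKanExtension P := by
  infer_instance

/-- restriction of sheaves to a line -/
abbrev GS : ShQ Q ⥤ DC6.ShA (YL Q ℓ) :=
  (LG Q ℓ).sheafPushforwardContinuous AddCommGrpCat.{u} (JA (YL Q ℓ)) (KQ Q)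

/-- right Kan extension of sheaves from a line -/
abbrev RanG : DC6.ShA (YL Q ℓ) ⥤ ShQ Q :=
  (LG Q ℓ).sheafPushforwardCocontinuous AddCommGrpCat.{u} (JA (YL Q ℓ)) (KQ Q)

/-- the adjunction -/
abbrev adjG : GS Q ℓ ⊣ RanG Q ℓ :=
  (LG Q ℓ).sheafAdjunctionCocontinuous AddCommGrpCat.{u} (JA (YL Q ℓ)) (KQ Q)

section terminal

variable {s₀ : 𝒮} (hT : IsTerminal s₀)

/-- the inclusion of the fibre over the terminal vertex -/
abbrev EQ (s₀ : 𝒮) : (FQ Q).obj ⟨op s₀⟩ ⥤ TQ Q := ι (FQ Q) s₀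

include hT in
lemma hom_EQ_ext {t : TQ Q} {U : (FQ Q).obj ⟨op s₀⟩} (f g : t ⟶ (EQ Q s₀).obj U) : f = g :=
  homQ_ext f g (hT.hom_ext _ _)

/-- abelian sheaves on the space over a vertex -/
abbrev ShB (s : 𝒮) := Sheaf (JQ Q s) AddCommGrpCat.{u}

instance EQ_isRightAdjoint : ((EQ Q s₀).sheafPushforwardContinuous
    AddCommGrpCat.{u} (JQ Q s₀) (KQ Q)).IsRightAdjoint := by
  infer_instance

/-- extension of sheaves from the terminal vertex -/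
abbrev P₂ (s₀ : 𝒮) : ShB Q s₀ ⥤ ShQ Q :=
  (EQ Q s₀).sheafPullback AddCommGrpCat.{u} (JQ Q s₀) (KQ Q)

/-- restriction of sheaves to the terminal vertex -/
abbrev ES (s₀ : 𝒮) : ShQ Q ⥤ ShB Q s₀ :=
  (EQ Q s₀).sheafPushforwardContinuous AddCommGrpCat.{u} (JQ Q s₀) (KQ Q)

/-- the adjunction -/
abbrev adjE (s₀ : 𝒮) : P₂ Q s₀ ⊣ ES Q s₀ :=
  (EQ Q s₀).sheafAdjunctionContinuous AddCommGrpCat.{u} (JQ Q s₀) (KQ Q)

/-- the map from the base of the line to the terminal vertex -/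
abbrev qL : Q.obj (ℓ.obj (FibDesc.bot SimplexCategory)) ⟶ Q.obj s₀ :=
  Q.map (hT.from (ℓ.obj (FibDesc.bot SimplexCategory)))

/-- the preimage functor on open sets -/
def qF : (FQ Q).obj ⟨op s₀⟩ ⥤ OS (YL Q ℓ) := Opens.map (qL Q ℓ hT)

instance qF_continuous : (qF Q ℓ hT).IsContinuous (JQ Q s₀) (JS (YL Q ℓ)) :=
  inferInstanceAs ((Opens.map (qL Q ℓ hT)).IsContinuous
    (Opens.grothendieckTopology (Q.obj s₀))
    (Opens.grothendieckTopology (Q.obj (ℓ.obj (FibDesc.bot SimplexCategory)))))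

/-- the relative right adjoint of the inclusion of the terminal vertex -/
abbrev μL : (FQ Q).obj ⟨op s₀⟩ ⥤ TA (YL Q ℓ) := qF Q ℓ hT ⋙ FibDesc.eps (FibDesc.topAug (YL Q ℓ))

lemma map_qinv (b : (WithInitial SimplexCategory)ᵒᵖ) (f : ℓ.obj b ⟶ s₀) (U : Opens (Q.obj s₀)) :
    (Opens.map ((YL Q ℓ).map (toBot b))).obj ((Opens.map (qL Q ℓ hT)).obj U) =
      (Opens.map (Q.map f)).obj U := by
  have h : f = ℓ.map (toBot b) ≫ hT.from (ℓ.obj (FibDesc.bot SimplexCategory)) := hT.hom_ext _ _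
  rw [h, Q.map_comp]
  rfl

/-- the counit of the relative adjunction -/
def cL (U : (FQ Q).obj ⟨op s₀⟩) : (LG Q ℓ).obj ((μL Q ℓ hT).obj U) ⟶ (EQ Q s₀).obj U :=
  homQ Q (t := (LG Q ℓ).obj ((μL Q ℓ hT).obj U)) (t' := (EQ Q s₀).obj U)
    (hT.from (ℓ.obj (FibDesc.bot SimplexCategory))) le_rfl

/-- the transpose of a morphism to the terminal fibre -/
def trL {t : TA (YL Q ℓ)} {U : (FQ Q).obj ⟨op s₀⟩} (f : (LG Q ℓ).obj t ⟶ (EQ Q s₀).obj U) :
    t ⟶ (μL Q ℓ hT).obj U :=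
  homEps (YL Q ℓ) t ((qF Q ℓ hT).obj U) (by
    have h := le_of_homQ f
    exact h.trans (le_of_eq (map_qinv Q ℓ hT t.base f.base U).symm))

/-- the structured arrow of the counit is initial -/
def initialSA (U : (FQ Q).obj ⟨op s₀⟩) :
    IsInitial (StructuredArrow.mk (cL Q ℓ hT U).op :
      StructuredArrow (op ((EQ Q s₀).obj U)) (LG Q ℓ).op) :=
  IsInitial.ofUniqueHom
    (fun X => StructuredArrow.homMk (trL Q ℓ hT X.hom.unop).op
      (Quiver.Hom.unop_inj (hom_EQ_ext Q hT _ _)))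
    (fun X m => by
      apply CommaMorphism.ext
      · exact Subsingleton.elim _ _
      · exact Quiver.Hom.unop_inj (hom_eps_ext (YL Q ℓ) _ _))

/-- the counit of the relative adjunction, as a natural transformation -/
def cLNat : μL Q ℓ hT ⋙ LG Q ℓ ⟶ EQ Q s₀ where
  app U := cL Q ℓ hT U
  naturality U V g := hom_EQ_ext Q hT _ _

/-- the comparison from the right Kan extension along the line, restricted to the terminal vertex -/
def τL (F : (TA (YL Q ℓ))ᵒᵖ ⥤ AddCommGrpCat.{u}) :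
    (EQ Q s₀).op ⋙ (LG Q ℓ).op.ran.obj F ⟶ (μL Q ℓ hT).op ⋙ F :=
  Functor.whiskerRight (NatTrans.op (cLNat Q ℓ hT)) ((LG Q ℓ).op.ran.obj F) ≫
    Functor.whiskerLeft (μL Q ℓ hT).op ((LG Q ℓ).op.ranCounit.app F)

lemma τL_app (F : (TA (YL Q ℓ))ᵒᵖ ⥤ AddCommGrpCat.{u}) (U : ((FQ Q).obj ⟨op s₀⟩)ᵒᵖ) :
    (τL Q ℓ hT F).app U = ((LG Q ℓ).op.ran.obj F).map (cL Q ℓ hT U.unop).op ≫
      ((LG Q ℓ).op.ranCounit.app F).app (op ((μL Q ℓ hT).obj U.unop)) := rfl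

instance isIso_τL_app (F : (TA (YL Q ℓ))ᵒᵖ ⥤ AddCommGrpCat.{u})
    (U : ((FQ Q).obj ⟨op s₀⟩)ᵒᵖ) : IsIso ((τL Q ℓ hT F).app U) := by
  have h := ((LG Q ℓ).op.isPointwiseRightKanExtensionRanCounit F
    (op ((EQ Q s₀).obj U.unop))).isIso_π_app_of_isInitial _ (initialSA Q ℓ hT U.unop)
  rw [τL_app]
  exact h

instance isIso_τL (F : (TA (YL Q ℓ))ᵒᵖ ⥤ AddCommGrpCat.{u}) : IsIso (τL Q ℓ hT F) :=
  NatIso.isIso_of_isIso_app _

/-- direct image of sheaves along the map from the base of the line to the terminal vertex -/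
abbrev qS : BSh (YL Q ℓ) ⥤ ShB Q s₀ :=
  (qF Q ℓ hT).sheafPushforwardContinuous AddCommGrpCat.{u} (JQ Q s₀) (JS (YL Q ℓ))

/-- the comparison of sheaves -/
def νLhom : RanG Q ℓ ⋙ ES Q s₀ ⟶ DC6.epsS (YL Q ℓ) ⋙ qS Q ℓ hT where
  app F := ⟨τL Q ℓ hT F.obj⟩
  naturality F F' f := by
    apply Sheaf.hom_ext
    apply NatTrans.ext
    funext U
    change ((LG Q ℓ).op.ran.map f.hom).app (op ((EQ Q s₀).obj U.unop)) ≫ (τL Q ℓ hT F'.obj).app U =
      (τL Q ℓ hT F.obj).app U ≫ f.hom.app (op ((μL Q ℓ hT).obj U.unop))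
    rw [τL_app, τL_app, Category.assoc]
    have h1 := ((LG Q ℓ).op.ran.map f.hom).naturality (cL Q ℓ hT U.unop).op
    have h2 : ((LG Q ℓ).op.ran.map f.hom).app (op ((LG Q ℓ).obj ((μL Q ℓ hT).obj U.unop))) ≫
        ((LG Q ℓ).op.ranCounit.app F'.obj).app (op ((μL Q ℓ hT).obj U.unop)) =
        ((LG Q ℓ).op.ranCounit.app F.obj).app (op ((μL Q ℓ hT).obj U.unop)) ≫
          f.hom.app (op ((μL Q ℓ hT).obj U.unop)) :=
      congrArg (fun t => t.app (op ((μL Q ℓ hT).obj U.unop)))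
        ((LG Q ℓ).op.ranCounit.naturality f.hom)
    rw [← h2, ← Category.assoc, ← Category.assoc, h1]

instance isIso_νLhom_app (F : DC6.ShA (YL Q ℓ)) : IsIso ((νLhom Q ℓ hT).app F) := by
  haveI : IsIso ((sheafToPresheaf _ _).map ((νLhom Q ℓ hT).app F)) :=
    isIso_τL Q ℓ hT F.obj
  exact isIso_of_reflects_iso _ (sheafToPresheaf _ _)

instance isIso_νLhom : IsIso (νLhom Q ℓ hT) := NatIso.isIso_of_isIso_app _

/-- the right adjoints agree -/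
def νL : RanG Q ℓ ⋙ ES Q s₀ ≅ DC6.epsS (YL Q ℓ) ⋙ qS Q ℓ hT := asIso (νLhom Q ℓ hT)

instance qS_isRightAdjoint : (qS Q ℓ hT).IsRightAdjoint := by
  infer_instance

/-- inverse image of sheaves along the map from the base of the line to the terminal vertex -/
abbrev pbL : ShB Q s₀ ⥤ BSh (YL Q ℓ) :=
  (qF Q ℓ hT).sheafPullback AddCommGrpCat.{u} (JQ Q s₀) (JS (YL Q ℓ))

/-- the adjunction -/
abbrev adjq : pbL Q ℓ hT ⊣ qS Q ℓ hT :=
  (qF Q ℓ hT).sheafAdjunctionContinuous AddCommGrpCat.{u} (JQ Q s₀) (JS (YL Q ℓ))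

/-- extension from the base of the line -/
abbrev extL : BSh (YL Q ℓ) ⥤ DC6.ShA (YL Q ℓ) :=
  FibSite.extend (FibDesc.topAug (YL Q ℓ)) (FibDesc.topAugTop (YL Q ℓ)) AddCommGrpCat.{u}
    (FibDesc.bot SimplexCategory)

/-- the adjunction -/
abbrev adjExt : extL Q ℓ ⊣ DC6.epsS (YL Q ℓ) :=
  (FibDesc.eps (FibDesc.topAug (YL Q ℓ))).sheafAdjunctionContinuous AddCommGrpCat.{u}
    (JS (YL Q ℓ)) (JA (YL Q ℓ))

/-- the extension from the terminal vertex restricted to a line is the extension from the base of the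
line of the inverse image -/
def F1 : P₂ Q s₀ ⋙ GS Q ℓ ≅ pbL Q ℓ hT ⋙ extL Q ℓ :=
  (((adjE Q s₀).comp (adjG Q ℓ)).ofNatIsoRight (νL Q ℓ hT)).leftAdjointUniq
    ((adjq Q ℓ hT).comp (adjExt Q ℓ))

/-- for a line whose base is the terminal vertex, every sheaf on the base is an inverse image -/
lemma exists_pbL_iso (hbot : ℓ.obj (FibDesc.bot SimplexCategory) = s₀) (M' : BSh (YL Q ℓ)) :
    ∃ M : ShB Q s₀, Nonempty ((pbL Q ℓ hT).obj M ≅ M') := by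
  subst hbot
  have hq : qL Q ℓ hT = 𝟙 _ := by
    rw [qL, hT.hom_ext (hT.from _) (𝟙 _), Q.map_id]
  let F'' : OS (YL Q ℓ) ⥤ OS (YL Q ℓ) := qF Q ℓ hT
  let e : F'' ≅ 𝟭 (OS (YL Q ℓ)) :=
    (Opens.mapIso (qL Q ℓ hT) (𝟙 _) hq) ≪≫ Opens.mapId _
  haveI : F''.IsContinuous (JS (YL Q ℓ)) (JS (YL Q ℓ)) := qF_continuous Q ℓ hT
  let e' : F''.sheafPushforwardContinuous AddCommGrpCat.{u} (JS (YL Q ℓ)) (JS (YL Q ℓ)) ≅ 𝟭 _ :=
    Functor.sheafPushforwardContinuousId' e AddCommGrpCat.{u} (JS (YL Q ℓ))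
  let adj' : pbL Q ℓ hT ⊣ 𝟭 (BSh (YL Q ℓ)) := (adjq Q ℓ hT).ofNatIsoRight e'
  let e'' : pbL Q ℓ hT ≅ 𝟭 (BSh (YL Q ℓ)) := adj'.leftAdjointUniq Adjunction.id
  exact ⟨M', ⟨e''.app M'⟩⟩

end terminal

end

end Groth.Agent.Helper3.DC18
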