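import Mathlib
import Groth.Prelude.Def_FibDesc
import Groth.Agent.Lib.Helper3.DC12
import Groth.Agent.Lib.Helper3.DC17

/-!
# The unit of the augmentation adjunction at an extended sheaf, in terms of sections
-/

set_option autoImplicit false
set_option backward.isDefEq.respectTransparency false
open CategoryTheory Limits Opposite TopologicalSpace Pseudofunctor.CoGrothendieck Simplicial Topology

universe u
namespace Groth.Agent.Helper3.DC19

open DC2 DC4 DC5 DC6 DC12 Groth.Agent.Lib.Helper5

section iseq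

universe v₁ u₁

variable {𝒯 : Type u₁} [Category.{v₁} 𝒯]

/-- `N(x)` is the equaliser of `N(y) ⇉ N(z)` -/
def IsEq (N : 𝒯ᵒᵖ ⥤ AddCommGrpCat.{u}) {x y z : 𝒯} (ε : y ⟶ x) (d0 d1 : z ⟶ y) : Prop :=
  Function.Injective (N.map ε.op).hom ∧
    ∀ t : N.obj (op y), (N.map d0.op).hom t = (N.map d1.op).hom t → ∃ s, (N.map ε.op).hom s = t

end iseq

noncomputable section

variable (Y : (WithInitial SimplexCategory)ᵒᵖ ⥤ TopCat.{u})

/-- the sections over `(⋆, U)` are the equaliser of the sections over `(0, a₀⁻¹ U) ⇉ (1, a₁⁻¹ U)` -/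
def IsEqSec (H : (TA Y)ᵒᵖ ⥤ AddCommGrpCat.{u}) (U : Opens (S₀ Y)) : Prop :=
  IsEq H (cAug Y U (op ⦋0⦌))
    ((FibDesc.incl (FibDesc.topAug Y)).map ((sec Y U).δ (0 : Fin 2)))
    ((FibDesc.incl (FibDesc.topAug Y)).map ((sec Y U).δ (1 : Fin 2)))

lemma d_zero_iff (H : (TA Y)ᵒᵖ ⥤ AddCommGrpCat.{u}) (U : Opens (S₀ Y))
    (t : H.obj (op ((FibDesc.incl (FibDesc.topAug Y)).obj ((sec Y U) _⦋0⦌)))) :
    (((CCF (sec Y U)).obj ((FibDesc.incl (FibDesc.topAug Y)).op ⋙ H)).d 0 1).hom t = 0 ↔
      (H.map ((FibDesc.incl (FibDesc.topAug Y)).map ((sec Y U).δ (0 : Fin 2))).op).hom t =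
        (H.map ((FibDesc.incl (FibDesc.topAug Y)).map ((sec Y U).δ (1 : Fin 2))).op).hom t :=
  DC17.CCF_d_zero_iff (sec Y U) ((FibDesc.incl (FibDesc.topAug Y)).op ⋙ H) t

lemma bijective_unit_iff (H : (TA Y)ᵒᵖ ⥤ AddCommGrpCat.{u}) (U : Opens (S₀ Y)) :
    Function.Bijective ((((FibDesc.incl (FibDesc.topAug Y)).op.ranAdjunction
      AddCommGrpCat.{u}).unit.app H).app (op ((FibDesc.eps (FibDesc.topAug Y)).obj U))).hom ↔
      IsEqSec Y H U := by
  have key : ∀ x, cycOf Y U ((FibDesc.incl (FibDesc.topAug Y)).op ⋙ H)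
      (((((FibDesc.incl (FibDesc.topAug Y)).op.ranAdjunction
        AddCommGrpCat.{u}).unit.app H).app
          (op ((FibDesc.eps (FibDesc.topAug Y)).obj U))).hom x) =
      (H.map (cAug Y U (op ⦋0⦌)).op).hom x := fun x => cycOf_unit Y U H x
  constructor
  · intro hb
    constructor
    · intro a b hab
      apply hb.1
      apply cycOf_injective Y U ((FibDesc.incl (FibDesc.topAug Y)).op ⋙ H)
      rw [key, key]
      exact hab
    · intro t ht
      have hd := (d_zero_iff Y H U t).2 ht
      obtain ⟨y, hy⟩ := exists_cycOf Y U ((FibDesc.incl (FibDesc.topAug Y)).op ⋙ H) t hd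
      obtain ⟨x, rfl⟩ := hb.2 y
      exact ⟨x, (key x).symm.trans hy⟩
  · rintro ⟨hinj, hex⟩
    constructor
    · intro a b hab
      apply hinj
      rw [← key, ← key, hab]
    · intro y
      have hd := d_cycOf Y U ((FibDesc.incl (FibDesc.topAug Y)).op ⋙ H) y
      obtain ⟨x, hx⟩ := hex _ ((d_zero_iff Y H U _).1 hd)
      refine ⟨x, ?_⟩
      apply cycOf_injective Y U ((FibDesc.incl (FibDesc.topAug Y)).op ⋙ H)
      exact (key x).trans hx

section sheaves

instance eps_faithful : (FibDesc.eps (FibDesc.topAug Y)).Faithful where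
  map_injective := fun _ => (thin_topAug Y _ _ _).elim _ _

instance eps_full : (FibDesc.eps (FibDesc.topAug Y)).Full where
  map_surjective {U V} h := by
    let U' : Opens (S₀ Y) := U
    let V' : Opens (S₀ Y) := V
    have hle : U' ≤ (Opens.map (aug Y (FibDesc.bot SimplexCategory))).obj V' := le_of_hom_eps Y h
    have e : (Opens.map (aug Y (FibDesc.bot SimplexCategory))).obj V' = V' := by
      rw [aug_bot]
      rfl
    have hle' : U' ≤ V' := hle.trans (le_of_eq e)
    refine ⟨(homOfLE hle' : U' ⟶ V'), ?_⟩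
    exact hom_eps_ext Y _ _

instance eps_cocontinuous : (FibDesc.eps (FibDesc.topAug Y)).IsCocontinuous (JS Y) (JA Y) :=
  FibTot.isCocontinuous_ι _ (isPreFibSite Y) _

instance eps_ran (P : (OS Y)ᵒᵖ ⥤ AddCommGrpCat.{u}) :
    (FibDesc.eps (FibDesc.topAug Y)).op.HasPointwiseRightKanExtension P := by
  infer_instance

/-- extension from the base -/
abbrev extY : BSh Y ⥤ ShA Y :=
  FibSite.extend (FibDesc.topAug Y) (FibDesc.topAugTop Y) AddCommGrpCat.{u}
    (FibDesc.bot SimplexCategory)

/-- the adjunction -/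
abbrev adjExtY : extY Y ⊣ epsS Y :=
  (FibDesc.eps (FibDesc.topAug Y)).sheafAdjunctionContinuous AddCommGrpCat.{u} (JS Y) (JA Y)

/-- the adjoint triple at the base fibre -/
def tripleY : Adjunction.Triple (extY Y) (epsS Y)
    ((FibDesc.eps (FibDesc.topAug Y)).sheafPushforwardCocontinuous AddCommGrpCat.{u} (JS Y) (JA Y)) :=
  ⟨adjExtY Y, (FibDesc.eps (FibDesc.topAug Y)).sheafAdjunctionCocontinuous AddCommGrpCat.{u}
    (JS Y) (JA Y)⟩

instance isIso_unit_adjExtY : IsIso (adjExtY Y).unit := by
  change IsIso (tripleY Y).adj₁.unit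
  rw [(tripleY Y).isIso_unit_iff_isIso_counit]
  haveI : ∀ a, IsIso ((tripleY Y).adj₂.counit.app a) := by
    intro a
    haveI : IsIso ((sheafToPresheaf _ _).map ((tripleY Y).adj₂.counit.app a)) := by
      have e : ((tripleY Y).adj₂.counit.app a).hom = _ :=
        Functor.sheafAdjunctionCocontinuous_counit_app_hom (FibDesc.eps (FibDesc.topAug Y))
          AddCommGrpCat.{u} (JS Y) (JA Y) a
      change IsIso ((tripleY Y).adj₂.counit.app a).hom
      rw [e]
      haveI : (FibDesc.eps (FibDesc.topAug Y)).op.Full := inferInstance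
      haveI : (FibDesc.eps (FibDesc.topAug Y)).op.Faithful := inferInstance
      infer_instance
    exact isIso_of_reflects_iso _ (sheafToPresheaf _ _)
  exact NatIso.isIso_of_isIso_app _

lemma isIso_sheafHom_iff {𝒞 : Type u} [SmallCategory 𝒞] {K : GrothendieckTopology 𝒞}
    {A B : Sheaf K AddCommGrpCat.{u}} (f : A ⟶ B) :
    IsIso f ↔ ∀ V : 𝒞ᵒᵖ, Function.Bijective (f.hom.app V).hom := by
  constructor
  · intro hf V
    haveI : IsIso ((sheafToPresheaf _ _).map f) := inferInstance
    haveI : IsIso (((sheafToPresheaf _ _).map f).app V) := inferInstance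
    exact (ConcreteCategory.isIso_iff_bijective (((sheafToPresheaf _ _).map f).app V)).1 inferInstance
  · intro h
    haveI : IsIso ((sheafToPresheaf _ _).map f) := by
      haveI : ∀ V, IsIso (((sheafToPresheaf _ _).map f).app V) := fun V =>
        (ConcreteCategory.isIso_iff_bijective _).2 (h V)
      exact NatIso.isIso_of_isIso_app _
    exact isIso_of_reflects_iso _ (sheafToPresheaf _ _)

/-- the restriction to the base fibre of the unit of `inclS ⊣ RanI` is an isomorphism iff the
sections over the base are the equalisers -/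
lemma isIso_epsS_unit_iff (H' : ShA Y) :
    IsIso ((epsS Y).map ((adjI Y).unit.app H')) ↔ ∀ U, IsEqSec Y H'.obj U := by
  rw [isIso_sheafHom_iff]
  have e : ((adjI Y).unit.app H').hom = _ :=
    Functor.sheafAdjunctionCocontinuous_unit_app_hom _ _ _ _ H'
  constructor
  · intro h U
    rw [← bijective_unit_iff]
    have := h (op U)
    change Function.Bijective ((((adjI Y).unit.app H').hom.app
      (op ((FibDesc.eps (FibDesc.topAug Y)).obj U))).hom) at this
    rw [e] at this
    exact this
  · intro h V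
    change Function.Bijective ((((adjI Y).unit.app H').hom.app
      (op ((FibDesc.eps (FibDesc.topAug Y)).obj V.unop))).hom)
    rw [e]
    exact (bijective_unit_iff Y H'.obj V.unop).2 (h V.unop)

/-- the unit of the augmentation adjunction at `M'` is an isomorphism iff the sections over the base
of a sheaf isomorphic to the extension of `M'` are the equalisers -/
theorem isIso_unit_iff (M' : BSh Y) (H' : ShA Y) (e : H' ≅ (extY Y).obj M') :
    IsIso ((adjY Y).unit.app M') ↔ ∀ U, IsEqSec Y H'.obj U := by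
  rw [← isIso_epsS_unit_iff]
  have h1 : (adjY Y).unit.app M' = (adjExtY Y).unit.app M' ≫
      (epsS Y).map ((adjI Y).unit.app ((extY Y).obj M')) :=
    Adjunction.comp_unit_app _ _ _
  rw [h1, isIso_comp_left_iff]
  have hnat := (adjI Y).unit.naturality e.hom
  have h2 : (epsS Y).map ((adjI Y).unit.app H') =
      (epsS Y).map e.hom ≫ (epsS Y).map ((adjI Y).unit.app ((extY Y).obj M')) ≫
        inv ((epsS Y).map ((inclS Y ⋙ RanI Y).map e.hom)) := by
    rw [← Category.assoc, IsIso.eq_comp_inv, ← Functor.map_comp, ← Functor.map_comp]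
    exact congrArg (epsS Y).map hnat.symm
  rw [h2]
  constructor
  · intro h
    infer_instance
  · intro h
    have h3 : IsIso ((epsS Y).map ((adjI Y).unit.app ((extY Y).obj M')) ≫
        inv ((epsS Y).map ((inclS Y ⋙ RanI Y).map e.hom))) :=
      IsIso.of_isIso_comp_left ((epsS Y).map e.hom) _
    exact IsIso.of_isIso_comp_right _ (inv ((epsS Y).map ((inclS Y ⋙ RanI Y).map e.hom)))

end sheaves

end

end Groth.Agent.Helper3.DC19
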