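import Mathlib
import Groth.Prelude.Def_FibDesc
import Groth.Agent.Lib.Helper3.DC18
import Groth.Agent.Lib.Helper3.DC19

/-!
# Lines in a diagram of spaces and right Kan extension from a full subdiagram
-/

set_option autoImplicit false
set_option backward.isDefEq.respectTransparency false
open CategoryTheory Limits Opposite TopologicalSpace Pseudofunctor.CoGrothendieck Simplicial Topology

universe u
namespace Groth.Agent.Helper3.DC20

open DC2 DC4 DC5 DC6 DC12 DC16 DC18 DC19 Groth.Agent.Lib.Helper5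

noncomputable section

variable {𝒮 : Type} [SmallCategory 𝒮] (Q : 𝒮 ⥤ TopCat.{u})
  {𝒮' : Type} [SmallCategory 𝒮'] (k : 𝒮' ⥤ 𝒮)
  (ℓ : (WithInitial SimplexCategory)ᵒᵖ ⥤ 𝒮)

/-- an extra degeneracy of the line relative to the subdiagram, at the level of index categories -/
structure LineED where
  /-- the section -/
  s' : ∀ {x : 𝒮'}, (k.obj x ⟶ ℓ.obj (FibDesc.bot SimplexCategory)) →
    (k.obj x ⟶ ℓ.obj (tA (op ⦋0⦌)))
  /-- the extra degeneracy -/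
  s : ∀ {x : 𝒮'} (n : ℕ), (k.obj x ⟶ ℓ.obj (tA (op ⦋n⦌))) → (k.obj x ⟶ ℓ.obj (tA (op ⦋n + 1⦌)))
  s'_comp_ε : ∀ {x : 𝒮'} (c : k.obj x ⟶ ℓ.obj (FibDesc.bot SimplexCategory)),
    s' c ≫ ℓ.map (toBot (tA (op ⦋0⦌))) = c
  s₀_comp_δ₁ : ∀ {x : 𝒮'} (g : k.obj x ⟶ ℓ.obj (tA (op ⦋0⦌))),
    s 0 g ≫ ℓ.map ((FibDesc.toAug SimplexCategory).map (SimplexCategory.δ (1 : Fin 2)).op) =
      s' (g ≫ ℓ.map (toBot (tA (op ⦋0⦌))))
  s_comp_δ₀ : ∀ {x : 𝒮'} (n : ℕ) (g : k.obj x ⟶ ℓ.obj (tA (op ⦋n⦌))),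
    s n g ≫ ℓ.map ((FibDesc.toAug SimplexCategory).map (SimplexCategory.δ (0 : Fin (n + 2))).op) = g
  s_comp_δ : ∀ {x : 𝒮'} (n : ℕ) (g : k.obj x ⟶ ℓ.obj (tA (op ⦋n + 1⦌))) (i : Fin (n + 2)),
    s (n + 1) g ≫ ℓ.map ((FibDesc.toAug SimplexCategory).map (SimplexCategory.δ i.succ).op) =
      s n (g ≫ ℓ.map ((FibDesc.toAug SimplexCategory).map (SimplexCategory.δ i).op))
  s_comp_σ : ∀ {x : 𝒮'} (n : ℕ) (g : k.obj x ⟶ ℓ.obj (tA (op ⦋n⦌))) (i : Fin (n + 1)),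
    s n g ≫ ℓ.map ((FibDesc.toAug SimplexCategory).map (SimplexCategory.σ i.succ).op) =
      s (n + 1) (g ≫ ℓ.map ((FibDesc.toAug SimplexCategory).map (SimplexCategory.σ i).op))

/-- the subdiagram's total category -/
abbrev TZ := TQ (k ⋙ Q)

/-- abelian sheaves on the total site of the subdiagram -/
abbrev ShZ := Sheaf (KQ (k ⋙ Q)) AddCommGrpCat.{u}

instance Tk_ran (P : (TZ Q k)ᵒᵖ ⥤ AddCommGrpCat.{u}) :
    (Tk Q k).op.HasPointwiseRightKanExtension P := by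
  infer_instance

/-- restriction of sheaves to the subdiagram -/
abbrev jS : ShQ Q ⥤ ShZ Q k :=
  (Tk Q k).sheafPushforwardContinuous AddCommGrpCat.{u} (KQ (k ⋙ Q)) (KQ Q)

/-- right Kan extension of sheaves from the subdiagram -/
abbrev R₂ : ShZ Q k ⥤ ShQ Q :=
  (Tk Q k).sheafPushforwardCocontinuous AddCommGrpCat.{u} (KQ (k ⋙ Q)) (KQ Q)

/-- the adjunction -/
abbrev adjJ : jS Q k ⊣ R₂ Q k :=
  (Tk Q k).sheafAdjunctionCocontinuous AddCommGrpCat.{u} (KQ (k ⋙ Q)) (KQ Q)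

section sigma

variable (U : Opens (S₀ (YL Q ℓ)))

/-- the augmented simplicial object `(ℓ n, a_n⁻¹ U) ⟶ (ℓ ⋆, U)` of the total category of the diagram -/
def SgL : SimplicialObject.Augmented (TQ Q) where
  left := sec (YL Q ℓ) U ⋙ FibDesc.incl (FibDesc.topAug (YL Q ℓ)) ⋙ LG Q ℓ
  right := (LG Q ℓ).obj ((FibDesc.eps (FibDesc.topAug (YL Q ℓ))).obj U)
  hom :=
    { app := fun n => (LG Q ℓ).map (cAug (YL Q ℓ) U n)
      naturality := by
        intro n m φ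
        change (LG Q ℓ).map _ ≫ (LG Q ℓ).map _ = (LG Q ℓ).map _ ≫ 𝟙 _
        rw [Category.comp_id, ← Functor.map_comp]
        exact congrArg (LG Q ℓ).map (hom_eps_ext (YL Q ℓ) _ _) }

lemma toBot_comp (n : SimplexCategoryᵒᵖ) {m : SimplexCategoryᵒᵖ} (φ : m ⟶ n) :
    (FibDesc.toAug SimplexCategory).map φ ≫ toBot (tA n) = toBot (tA m) := toBot_unique _ _

variable {Q ℓ U}

lemma le_of_hom_secQ {τ : TQ Q} {n : SimplexCategoryᵒᵖ} (g : τ ⟶ (SgL Q ℓ U).left.obj n) :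
    fibQ Q τ ≤ (Opens.map (Q.map (g.base ≫ ℓ.map (toBot (tA n))))).obj U := by
  have h := le_of_homQ g
  rw [Q.map_comp]
  exact h

variable (Q ℓ U) in
/-- constructor for morphisms to `(ℓ n, a_n⁻¹ U)` -/
def homSecQ (τ : TQ Q) (n : SimplexCategoryᵒᵖ) (g₀ : τ.base ⟶ ℓ.obj (tA n))
    (h : fibQ Q τ ≤ (Opens.map (Q.map (g₀ ≫ ℓ.map (toBot (tA n))))).obj U) :
    τ ⟶ (SgL Q ℓ U).left.obj n :=
  homQ Q (t := τ) (t' := (SgL Q ℓ U).left.obj n) g₀ (by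
    rw [Q.map_comp] at h
    exact h)

lemma le_of_hom_epsQ {τ : TQ Q} (c : τ ⟶ (SgL Q ℓ U).right) :
    fibQ Q τ ≤ (Opens.map (Q.map c.base)).obj U := le_of_homQ c

variable (Q ℓ U)

variable {k ℓ} in
lemma LineED.s_comp_toBot (ed : LineED k ℓ) {x : 𝒮'} (n : ℕ) (g : k.obj x ⟶ ℓ.obj (tA (op ⦋n⦌))) :
    ed.s n g ≫ ℓ.map (toBot (tA (op ⦋n + 1⦌))) = g ≫ ℓ.map (toBot (tA (op ⦋n⦌))) := by
  rw [← toBot_comp (op ⦋n⦌) (SimplexCategory.δ (0 : Fin (n + 2))).op, ℓ.map_comp, ← Category.assoc,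
    ed.s_comp_δ₀]

variable (ed : LineED k ℓ)

/-- the pointwise extra degeneracy -/
def edL (t : (TZ Q k)ᵒᵖ) : SimplicialObject.Augmented.ExtraDegeneracy
    (FreeQI.evalAug (DC17.AsetC (Tk Q k) (SgL Q ℓ U)) t) where
  s' := ↾fun (c : (Tk Q k).obj t.unop ⟶ (SgL Q ℓ U).right) =>
    homSecQ Q ℓ U ((Tk Q k).obj t.unop) (op ⦋0⦌) (ed.s' (x := t.unop.base) c.base) (by
      rw [ed.s'_comp_ε]
      exact le_of_hom_epsQ c)
  s n := ↾fun (g : (Tk Q k).obj t.unop ⟶ (SgL Q ℓ U).left.obj (op ⦋n⦌)) =>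
    homSecQ Q ℓ U ((Tk Q k).obj t.unop) (op ⦋n + 1⦌) (ed.s (x := t.unop.base) n g.base) (by
      rw [ed.s_comp_toBot]
      exact le_of_hom_secQ g)
  s'_comp_ε := by
    ext c
    exact homQ_ext _ _ (ed.s'_comp_ε _)
  s₀_comp_δ₁ := by
    ext g
    exact homQ_ext _ _ (ed.s₀_comp_δ₁ _)
  s_comp_δ₀ n := by
    ext g
    exact homQ_ext _ _ (ed.s_comp_δ₀ n _)
  s_comp_δ n i := by
    ext g
    exact homQ_ext _ _ (ed.s_comp_δ n _ i)
  s_comp_σ n i := by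
    ext g
    exact homQ_ext _ _ (ed.s_comp_σ n _ i)

include ed in
/-- the restricted free complex of `SgL` is a resolution -/
theorem quasiIso_SgL : QuasiIso (((DC17.WJ (Tk Q k)).mapHomologicalComplex _).map
    (DC17.πD (SgL Q ℓ U))) :=
  DC17.quasiIso_of_ed (SgL Q ℓ U) (fun t => ⟨edL Q k ℓ U ed t⟩)

end sigma

section main

open Groth.Agent.Helper6.RDU

variable (ed : LineED k ℓ)

/-- the restriction to the part of the line of the right Kan extension from the subdiagram -/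
abbrev ΛL : ShZ Q k ⥤ DShY (YL Q ℓ) := R₂ Q k ⋙ GS Q ℓ ⋙ inclS (YL Q ℓ)

include ed in
lemma isEqSec_GS_R₂ (N : ShZ Q k) (U : Opens (S₀ (YL Q ℓ))) :
    IsEqSec (YL Q ℓ) ((GS Q ℓ).obj ((R₂ Q k).obj N)).obj U := by
  obtain ⟨h1, h2⟩ := DC17.ran_kan (Tk Q k) (SgL Q ℓ U) (quasiIso_SgL Q k ℓ U ed) N.obj
  refine ⟨h1, fun t ht => h2 t ?_⟩
  exact (DC17.CCF_d_zero_iff (SgL Q ℓ U).left _ t).2 ht

/-- the comparison between the restriction to the base of the line and the direct image of the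
restriction to the part of the line -/
def tauL : R₂ Q k ⋙ GS Q ℓ ⋙ epsS (YL Q ℓ) ⟶ ΛL Q k ℓ ⋙ pushY (YL Q ℓ) :=
  Functor.whiskerLeft (R₂ Q k ⋙ GS Q ℓ)
    (Functor.whiskerRight (adjI (YL Q ℓ)).unit (epsS (YL Q ℓ)))

include ed in
lemma isIso_tauL : IsIso (tauL Q k ℓ) := by
  haveI : ∀ N, IsIso ((tauL Q k ℓ).app N) := by
    intro N
    exact (isIso_epsS_unit_iff (YL Q ℓ) ((GS Q ℓ).obj ((R₂ Q k).obj N))).2
      (isEqSec_GS_R₂ Q k ℓ ed N)
  exact NatIso.isIso_of_isIso_app _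

include ed in
/-- restriction to the base of the line of the right Kan extension is the direct image of the
restriction to the part of the line -/
def C1 : R₂ Q k ⋙ GS Q ℓ ⋙ epsS (YL Q ℓ) ≅ ΛL Q k ℓ ⋙ pushY (YL Q ℓ) :=
  haveI := isIso_tauL Q k ℓ ed
  asIso (tauL Q k ℓ)

lemma mono_LG_incl_ι_map (n : SimplexCategoryᵒᵖ) {V W : Opens ((YL Q ℓ).obj (tA n))} (i : V ⟶ W) :
    Mono ((LG Q ℓ).map ((FibDesc.incl (FibDesc.topAug (YL Q ℓ))).map
      ((ι (FibDesc.part (FibDesc.topAug (YL Q ℓ))) n).map i))) := by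
  have h : ((LG Q ℓ).map ((FibDesc.incl (FibDesc.topAug (YL Q ℓ))).map
      ((ι (FibDesc.part (FibDesc.topAug (YL Q ℓ))) n).map i))).base = 𝟙 _ := by
    change ℓ.map ((FibDesc.toAug SimplexCategory).map (𝟙 n)) = 𝟙 _
    rw [CategoryTheory.Functor.map_id, CategoryTheory.Functor.map_id]
  haveI : Mono ((LG Q ℓ).map ((FibDesc.incl (FibDesc.topAug (YL Q ℓ))).map
      ((ι (FibDesc.part (FibDesc.topAug (YL Q ℓ))) n).map i))).base := by
    rw [h]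
    infer_instance
  exact mono_of_base_mono Q _

lemma levelFlasque_ΛL (I : ShZ Q k) [Injective I] :
    LevelFlasque (YL Q ℓ) ((ΛL Q k ℓ).obj I) := by
  intro n
  haveI : Injective ((R₂ Q k).obj I) := Injective.injective_of_adjoint (adjJ Q k) I
  haveI : Injective ((R₂ Q k).obj I).obj := CechInj.injective_sheaf_obj _ _
  constructor
  intro V W i
  rw [AddCommGrpCat.epi_iff_surjective]
  haveI := mono_LG_incl_ι_map Q ℓ n i.unop
  exact DC6.surjective_map_of_mono ((R₂ Q k).obj I).obj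
    ((LG Q ℓ).map ((FibDesc.incl (FibDesc.topAug (YL Q ℓ))).map
      ((ι (FibDesc.part (FibDesc.topAug (YL Q ℓ))) n).map i.unop)))

include ed in
lemma isZero_homology_CxU_ΛL (I : ShZ Q k) [Injective I] (U : Opens (S₀ (YL Q ℓ))) (j : ℕ) :
    IsZero (((CxU (YL Q ℓ) U).obj ((ΛL Q k ℓ).obj I)).homology (j + 1)) := by
  haveI : Injective I.obj := CechInj.injective_sheaf_obj _ I
  exact DC17.isZero_homology_ran (Tk Q k) (SgL Q ℓ U) (quasiIso_SgL Q k ℓ U ed) I.obj j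

include ed in
/-- the restriction to the part of the line of the right Kan extension of an injective sheaf is
acyclic for the direct image of the line -/
lemma acyc_ΛL (I : ShZ Q k) (hI : Injective I) :
    AcycFrom (pushY (YL Q ℓ)) 0 ((ΛL Q k ℓ).obj I) := by
  intro j hj
  obtain ⟨j, rfl⟩ := Nat.exists_eq_succ_of_ne_zero (Nat.pos_iff_ne_zero.1 hj)
  exact isZero_rightDerived_push (YL Q ℓ) _ (levelFlasque_ΛL Q k ℓ I) (fun U i hi => by
    obtain ⟨i, rfl⟩ := Nat.exists_eq_succ_of_ne_zero (Nat.pos_iff_ne_zero.1 hi)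
    exact isZero_homology_CxU_ΛL Q k ℓ ed I U i) j

end main

end

end Groth.Agent.Helper3.DC20
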