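import Mathlib
import Groth.Prelude.Def_FibDesc
import Groth.Agent.Lib.Helper3.DC20

/-!
# Lines whose simplicial part lies in the subdiagram
-/

set_option autoImplicit false
set_option backward.isDefEq.respectTransparency false
open CategoryTheory Limits Opposite TopologicalSpace Pseudofunctor.CoGrothendieck Simplicial Topology

universe u
namespace Groth.Agent.Helper3.DC21

open DC2 DC4 DC5 DC6 DC12 DC16 DC18 DC19 DC20 Groth.Agent.Lib.Helper5

noncomputable section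

variable {𝒮 : Type} [SmallCategory 𝒮] (Q : 𝒮 ⥤ TopCat.{u})
  {𝒮' : Type} [SmallCategory 𝒮'] (k : 𝒮' ⥤ 𝒮) [k.Full] [k.Faithful]
  (ℓ : (WithInitial SimplexCategory)ᵒᵖ ⥤ 𝒮)

section counit

instance isIso_adjJ_counit_app (N : ShZ Q k) : IsIso ((adjJ Q k).counit.app N) := by
  haveI : IsIso ((sheafToPresheaf _ _).map ((adjJ Q k).counit.app N)) := by
    have e : ((adjJ Q k).counit.app N).hom = _ :=
      Functor.sheafAdjunctionCocontinuous_counit_app_hom (Tk Q k) AddCommGrpCat.{u}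
        (KQ (k ⋙ Q)) (KQ Q) N
    change IsIso ((adjJ Q k).counit.app N).hom
    rw [e]
    haveI : (Tk Q k).op.Full := inferInstance
    haveI : (Tk Q k).op.Faithful := inferInstance
    infer_instance
  exact isIso_of_reflects_iso _ (sheafToPresheaf _ _)

instance isIso_adjJ_counit : IsIso (adjJ Q k).counit := NatIso.isIso_of_isIso_app _

/-- the unit of the right Kan extension is bijective over the objects of the subdiagram -/
lemma bijective_unit_Tk (H : ShQ Q) (z : TZ Q k) :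
    Function.Bijective (((adjJ Q k).unit.app H).hom.app (op ((Tk Q k).obj z))).hom := by
  have h1 := (adjJ Q k).left_triangle_components H
  haveI : IsIso ((jS Q k).map ((adjJ Q k).unit.app H)) := by
    have : IsIso ((jS Q k).map ((adjJ Q k).unit.app H) ≫ (adjJ Q k).counit.app ((jS Q k).obj H)) := by
      rw [h1]
      exact IsIso.id _
    exact IsIso.of_isIso_comp_right _ ((adjJ Q k).counit.app ((jS Q k).obj H))
  exact (isIso_sheafHom_iff ((jS Q k).map ((adjJ Q k).unit.app H))).1 inferInstance (op z)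

end counit

variable (ρ : TP (YL Q ℓ) ⥤ TZ Q k)
  (eρ : ρ ⋙ Tk Q k ≅ FibDesc.incl (FibDesc.topAug (YL Q ℓ)) ⋙ LG Q ℓ)
  [ρ.IsContinuous (JP (YL Q ℓ)) (KQ (k ⋙ Q))] [ρ.IsCocontinuous (JP (YL Q ℓ)) (KQ (k ⋙ Q))]

/-- restriction of sheaves on the subdiagram to the part of the line -/
abbrev ρS : ShZ Q k ⥤ DShY (YL Q ℓ) :=
  ρ.sheafPushforwardContinuous AddCommGrpCat.{u} (JP (YL Q ℓ)) (KQ (k ⋙ Q))

instance : (ρS Q k ℓ ρ).Additive where

instance : PreservesFiniteLimits (ρS Q k ℓ ρ) := by infer_instance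

instance ρ_ran (P : (TP (YL Q ℓ))ᵒᵖ ⥤ AddCommGrpCat.{u}) : ρ.op.HasPointwiseRightKanExtension P := by
  infer_instance

instance : PreservesFiniteColimits (ρS Q k ℓ ρ) := by
  haveI : (ρS Q k ℓ ρ).IsLeftAdjoint :=
    (ρ.sheafAdjunctionCocontinuous AddCommGrpCat.{u} (JP (YL Q ℓ)) (KQ (k ⋙ Q))).isLeftAdjoint
  infer_instance

include eρ in
lemma bijective_unit_LG_incl (H : ShQ Q) (t : TP (YL Q ℓ)) :
    Function.Bijective (((adjJ Q k).unit.app H).hom.app
      (op ((LG Q ℓ).obj ((FibDesc.incl (FibDesc.topAug (YL Q ℓ))).obj t)))).hom := by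
  have hb := bijective_unit_Tk Q k H (ρ.obj t)
  let e := eρ.app t
  have hnat : H.obj.map e.hom.op ≫ ((adjJ Q k).unit.app H).hom.app (op ((Tk Q k).obj (ρ.obj t))) =
      ((adjJ Q k).unit.app H).hom.app
        (op ((LG Q ℓ).obj ((FibDesc.incl (FibDesc.topAug (YL Q ℓ))).obj t))) ≫
        ((R₂ Q k).obj ((jS Q k).obj H)).obj.map e.hom.op :=
    ((adjJ Q k).unit.app H).hom.naturality e.hom.op
  -- conjugate by the isomorphism
  have h1 : Function.Bijective (H.obj.map e.hom.op).hom :=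
    (ConcreteCategory.isIso_iff_bijective _).1 inferInstance
  have h2 : Function.Bijective ((((R₂ Q k).obj ((jS Q k).obj H)).obj.map e.inv.op).hom) :=
    (ConcreteCategory.isIso_iff_bijective _).1 inferInstance
  have key : ((adjJ Q k).unit.app H).hom.app
      (op ((LG Q ℓ).obj ((FibDesc.incl (FibDesc.topAug (YL Q ℓ))).obj t))) =
      H.obj.map e.hom.op ≫ ((adjJ Q k).unit.app H).hom.app (op ((Tk Q k).obj (ρ.obj t))) ≫
        ((R₂ Q k).obj ((jS Q k).obj H)).obj.map e.inv.op := by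
    rw [← Category.assoc, hnat, Category.assoc]
    change _ = _ ≫ (((R₂ Q k).obj ((jS Q k).obj H)).obj.map e.hom.op ≫
      ((R₂ Q k).obj ((jS Q k).obj H)).obj.map e.inv.op)
    rw [← Functor.map_comp, ← op_comp, e.inv_hom_id, op_id, CategoryTheory.Functor.map_id,
      Category.comp_id]
  rw [key]
  exact (h2.comp hb).comp h1

/-- the two restrictions to the part of the line agree -/
def eρS : GS Q ℓ ⋙ inclS (YL Q ℓ) ≅ jS Q k ⋙ ρS Q k ℓ ρ :=
  haveI : (FibDesc.incl (FibDesc.topAug (YL Q ℓ)) ⋙ LG Q ℓ).IsContinuous (JP (YL Q ℓ)) (KQ Q) :=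
    Functor.isContinuous_comp (FibDesc.incl (FibDesc.topAug (YL Q ℓ))) (LG Q ℓ) (JP (YL Q ℓ))
      (JA (YL Q ℓ)) (KQ Q)
  Functor.sheafPushforwardContinuousComp (FibDesc.incl (FibDesc.topAug (YL Q ℓ))) (LG Q ℓ)
      AddCommGrpCat.{u} (JP (YL Q ℓ)) (JA (YL Q ℓ)) (KQ Q) ≪≫
    (Functor.sheafPushforwardContinuousComp' eρ AddCommGrpCat.{u} (JP (YL Q ℓ))
      (KQ (k ⋙ Q)) (KQ Q)).symm

/-- the restriction of the right Kan extension to the part of the line is the restriction -/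
def ΛρIso : ΛL Q k ℓ ≅ ρS Q k ℓ ρ :=
  Functor.isoWhiskerLeft (R₂ Q k) (eρS Q k ℓ ρ eρ) ≪≫ (Functor.associator _ _ _).symm ≪≫
    Functor.isoWhiskerRight (asIso (adjJ Q k).counit) (ρS Q k ℓ ρ) ≪≫ Functor.leftUnitor _

section acyc

open Groth.Agent.Helper6.RDU

variable (ed : LineED k ℓ)

include ed eρ in
lemma acyc_ρS (I : ShZ Q k) (hI : Injective I) :
    AcycFrom (pushY (YL Q ℓ)) 0 ((ρS Q k ℓ ρ).obj I) :=
  acycFrom_of_iso (pushY (YL Q ℓ)) 0 ((ΛρIso Q k ℓ ρ eρ).app I) (acyc_ΛL Q k ℓ ed I hI)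

include ed in
/-- restriction to the base of the line of the right Kan extension is the direct image of the
restriction to the part of the line -/
def C1ρ : R₂ Q k ⋙ GS Q ℓ ⋙ epsS (YL Q ℓ) ≅ ρS Q k ℓ ρ ⋙ pushY (YL Q ℓ) :=
  C1 Q k ℓ ed ≪≫ Functor.isoWhiskerRight (ΛρIso Q k ℓ ρ eρ) (pushY (YL Q ℓ))

end acyc

end

end Groth.Agent.Helper3.DC21
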