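import Mathlib
import Groth.Prelude.Def_FibDesc
import Groth.Agent.Lib.Helper3.DC21
import Groth.Agent.Lib.Helper3.LerayCol3
import Groth.Agent.Lib.Helper5.Misc.RDComp
import Groth.Agent.Lib.Helper5.Misc.RDExact

/-!
# A line through the terminal vertex crossed by lines of cohomological descent
-/

set_option autoImplicit false
set_option backward.isDefEq.respectTransparency false
open CategoryTheory Limits Opposite TopologicalSpace Pseudofunctor.CoGrothendieck Simplicial Topology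

universe u
namespace Groth.Agent.Helper3.DC22

open DC2 DC4 DC5 DC6 DC12 DC16 DC18 DC19 DC20 DC21 Groth.Agent.Lib.Helper5

section generic

universe v₁ u₁

variable {𝒯 : Type u₁} [Category.{v₁} 𝒯]

lemma bijective_of_isEq {N N' : 𝒯ᵒᵖ ⥤ AddCommGrpCat.{u}} (η : N ⟶ N') {x y z : 𝒯} (ε : y ⟶ x)
    (d0 d1 : z ⟶ y) (hε : d0 ≫ ε = d1 ≫ ε) (hN : IsEq N ε d0 d1) (hN' : IsEq N' ε d0 d1)
    (hy : Function.Bijective (η.app (op y)).hom) (hz : Function.Injective (η.app (op z)).hom) :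
    Function.Bijective (η.app (op x)).hom := by
  have nat : ∀ {a b : 𝒯} (f : a ⟶ b) (s : N.obj (op b)),
      (η.app (op a)).hom ((N.map f.op).hom s) = (N'.map f.op).hom ((η.app (op b)).hom s) :=
    fun f s => ConcreteCategory.congr_hom (η.naturality f.op) s
  constructor
  · intro a b hab
    apply hN.1
    apply hy.1
    rw [nat, nat, hab]
  · intro c
    obtain ⟨t, ht⟩ := hy.2 ((N'.map ε.op).hom c)
    have hd : (N.map d0.op).hom t = (N.map d1.op).hom t := by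
      apply hz
      rw [nat, nat, ht]
      have h1 : N'.map ε.op ≫ N'.map d0.op = N'.map ε.op ≫ N'.map d1.op := by
        rw [← N'.map_comp, ← N'.map_comp, ← op_comp, ← op_comp, hε]
      exact ConcreteCategory.congr_hom h1 c
    obtain ⟨s, hs⟩ := hN.2 t hd
    refine ⟨s, ?_⟩
    apply hN'.1
    rw [← nat, hs, ht]

end generic

noncomputable section

lemma isZero_of_restrN (Y : (WithInitial SimplexCategory)ᵒᵖ ⥤ TopCat.{u}) (Z : DShY Y)
    (h : ∀ n, IsZero ((restrN Y n).obj Z)) : IsZero Z := by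
  rw [IsZero.iff_id_eq_zero]
  apply Sheaf.hom_ext
  apply NatTrans.ext
  funext t
  apply AddCommGrpCat.hom_ext
  ext x
  have h0 : 𝟙 ((restrN Y t.unop.base).obj Z) = 0 := (h _).eq_of_src _ _
  exact congrArg (fun f => (f.hom.app (op (fibP Y t.unop))).hom x) h0

variable {𝒮 : Type} [SmallCategory 𝒮] (Q : 𝒮 ⥤ TopCat.{u})
  {𝒮' : Type} [SmallCategory 𝒮'] (k : 𝒮' ⥤ 𝒮) [k.Full] [k.Faithful]

instance : PreservesFiniteLimits (R₂ Q k) := by
  haveI : PreservesLimitsOfSize.{0, 0} (R₂ Q k) := (adjJ Q k).rightAdjoint_preservesLimits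
  exact PreservesLimitsOfSize.preservesFiniteLimits _

attribute [local instance] preservesBinaryBiproducts_of_preservesBinaryProducts in
instance : (R₂ Q k).Additive := by
  haveI : PreservesLimitsOfSize.{0, 0} (R₂ Q k) := (adjJ Q k).rightAdjoint_preservesLimits
  exact Functor.additive_of_preservesBinaryBiproducts _

/-- the augmented simplex category, opposite -/
abbrev W' := (WithInitial SimplexCategory)ᵒᵖ

/-- the index category of doubly augmented bisimplicial objects -/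
abbrev WW := W' × W'

/-- the row with first index `i` -/
abbrev rowL (i : W') : W' ⥤ WW := CategoryTheory.Prod.sectR i W'

/-- the column with second index `j` -/
abbrev colL (j : W') : W' ⥤ WW := rowL j ⋙ CategoryTheory.Prod.swap W' W'

variable (g : WW ⥤ 𝒮)

/-- the line through the corner -/
abbrev ℓb : W' ⥤ 𝒮 := rowL (FibDesc.bot SimplexCategory) ⋙ g

/-- the crossing lines -/
abbrev ℓx (n : SimplexCategoryᵒᵖ) : W' ⥤ 𝒮 := colL (tA n) ⋙ g

example (n : SimplexCategoryᵒᵖ) : (ℓb g).obj (tA n) = (ℓx g n).obj (FibDesc.bot SimplexCategory) := rfl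

variable {s₀ : 𝒮} (hT : IsTerminal s₀)
  (edx : ∀ n, LineED k (ℓx g n))
  (ρ : ∀ n, TP (YL Q (ℓx g n)) ⥤ TZ Q k)
  (eρ : ∀ n, ρ n ⋙ Tk Q k ≅ FibDesc.incl (FibDesc.topAug (YL Q (ℓx g n))) ⋙ LG Q (ℓx g n))
  (hρc : ∀ n, (ρ n).IsContinuous (JP (YL Q (ℓx g n))) (KQ (k ⋙ Q)))
  (hρcc : ∀ n, (ρ n).IsCocontinuous (JP (YL Q (ℓx g n))) (KQ (k ⋙ Q)))
  (hdesc : ∀ n, FibDesc.IsCohDescentTop (YL Q (ℓx g n)))

include hT hdesc in
/-- the sections of the extension from the terminal vertex over the bases of the crossing lines are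
equalisers -/
lemma isEqSec_GS_P₂ (M : ShB Q s₀) (n : SimplexCategoryᵒᵖ) (V : Opens (S₀ (YL Q (ℓx g n)))) :
    IsEqSec (YL Q (ℓx g n)) ((GS Q (ℓx g n)).obj ((P₂ Q s₀).obj M)).obj V :=
  (isIso_unit_iff (YL Q (ℓx g n)) ((pbL Q (ℓx g n) hT).obj M)
    ((GS Q (ℓx g n)).obj ((P₂ Q s₀).obj M)) ((F1 Q (ℓx g n) hT).app M)).1
    (isIso_unit_of_isCohDescentTop (hdesc n) _) V

include hT hdesc edx eρ hρc hρcc in
/-- the unit of the right Kan extension from the subdiagram is bijective over the line through the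
corner -/
lemma bijective_unit_ℓb (M : ShB Q s₀) (t : TP (YL Q (ℓb g))) :
    Function.Bijective (((adjJ Q k).unit.app ((P₂ Q s₀).obj M)).hom.app
      (op ((LG Q (ℓb g)).obj ((FibDesc.incl (FibDesc.topAug (YL Q (ℓb g)))).obj t)))).hom := by
  let n := t.base
  let V : Opens (S₀ (YL Q (ℓx g n))) := t.fiber
  let H := (P₂ Q s₀).obj M
  haveI := hρc n
  haveI := hρcc n
  have h1 := isEqSec_GS_P₂ Q g hT hdesc M n V
  have h2 := isEqSec_GS_R₂ Q k (ℓx g n) (edx n) ((jS Q k).obj H) V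
  have h3 := bijective_unit_LG_incl Q k (ℓx g n) (ρ n) (eρ n) H ((sec (YL Q (ℓx g n)) V) _⦋0⦌)
  have h4 := bijective_unit_LG_incl Q k (ℓx g n) (ρ n) (eρ n) H ((sec (YL Q (ℓx g n)) V) _⦋1⦌)
  have hε : (LG Q (ℓx g n)).map ((FibDesc.incl (FibDesc.topAug (YL Q (ℓx g n)))).map
        ((sec (YL Q (ℓx g n)) V).δ (0 : Fin 2))) ≫ (LG Q (ℓx g n)).map (cAug (YL Q (ℓx g n)) V (op ⦋0⦌)) =
      (LG Q (ℓx g n)).map ((FibDesc.incl (FibDesc.topAug (YL Q (ℓx g n)))).map
        ((sec (YL Q (ℓx g n)) V).δ (1 : Fin 2))) ≫ (LG Q (ℓx g n)).map (cAug (YL Q (ℓx g n)) V (op ⦋0⦌)) := by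
    rw [← Functor.map_comp, ← Functor.map_comp]
    exact congrArg (LG Q (ℓx g n)).map (hom_eps_ext (YL Q (ℓx g n)) _ _)
  exact bijective_of_isEq ((adjJ Q k).unit.app H).hom
    ((LG Q (ℓx g n)).map (cAug (YL Q (ℓx g n)) V (op ⦋0⦌)))
    ((LG Q (ℓx g n)).map ((FibDesc.incl (FibDesc.topAug (YL Q (ℓx g n)))).map
        ((sec (YL Q (ℓx g n)) V).δ (0 : Fin 2))))
    ((LG Q (ℓx g n)).map ((FibDesc.incl (FibDesc.topAug (YL Q (ℓx g n)))).map
        ((sec (YL Q (ℓx g n)) V).δ (1 : Fin 2)))) hε h1 h2 h3 h4.1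

/-- the comparison induced by the unit of the right Kan extension -/
def φb (M : ShB Q s₀) : (inclS (YL Q (ℓb g))).obj ((GS Q (ℓb g)).obj ((P₂ Q s₀).obj M)) ⟶
    (ΛL Q k (ℓb g)).obj ((jS Q k).obj ((P₂ Q s₀).obj M)) :=
  (inclS (YL Q (ℓb g))).map ((GS Q (ℓb g)).map ((adjJ Q k).unit.app ((P₂ Q s₀).obj M)))

include hT hdesc edx eρ hρc hρcc in
lemma isIso_φb (M : ShB Q s₀) : IsIso (φb Q k g M) := by
  rw [isIso_sheafHom_iff]
  intro t
  exact bijective_unit_ℓb Q k g hT edx ρ eρ hρc hρcc hdesc M t.unop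

include hT hdesc edx eρ hρc hρcc in
/-- the restriction to the line through the corner of the right Kan extension of the restriction of
the extension from the terminal vertex is the inverse image -/
lemma nonempty_O1 (M : ShB Q s₀) :
    Nonempty ((ΛL Q k (ℓb g)).obj ((jS Q k).obj ((P₂ Q s₀).obj M)) ≅
      (pullY (YL Q (ℓb g))).obj ((pbL Q (ℓb g) hT).obj M)) := by
  haveI := isIso_φb Q k g hT edx ρ eρ hρc hρcc hdesc M
  exact ⟨(asIso (φb Q k g M)).symm ≪≫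
    (inclS (YL Q (ℓb g))).mapIso ((F1 Q (ℓb g) hT).app M)⟩

section cross

variable (n : SimplexCategoryᵒᵖ)

/-- the inclusion of the `n`-th level of the line through the corner -/
def F₁ : OS (YL Q (ℓx g n)) ⥤ TQ Q :=
  ι (FibDesc.part (FibDesc.topAug (YL Q (ℓb g)))) n ⋙
    FibDesc.incl (FibDesc.topAug (YL Q (ℓb g))) ⋙ LG Q (ℓb g)

/-- the inclusion of the base of the crossing line -/
def F₂ : OS (YL Q (ℓx g n)) ⥤ TQ Q :=
  FibDesc.eps (FibDesc.topAug (YL Q (ℓx g n))) ⋙ LG Q (ℓx g n)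

/-- they agree -/
def χ : F₁ Q g n ≅ F₂ Q g n :=
  NatIso.ofComponents (fun V => Iso.refl _) (by
    intro U V i
    apply homQ_ext
    change (ℓb g).map ((FibDesc.toAug SimplexCategory).map (𝟙 n)) ≫ 𝟙 _ =
      𝟙 _ ≫ (ℓx g n).map (𝟙 _)
    rw [CategoryTheory.Functor.map_id, CategoryTheory.Functor.map_id,
      CategoryTheory.Functor.map_id]
    rfl)

instance F₁_continuous : (F₁ Q g n).IsContinuous (JS (YL Q (ℓx g n))) (KQ Q) := by
  haveI h1 : (ι (FibDesc.part (FibDesc.topAug (YL Q (ℓb g)))) n).IsContinuous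
      (JS (YL Q (ℓx g n))) (JP (YL Q (ℓb g))) := ι_part_continuous (YL Q (ℓb g)) n
  haveI h2 : (FibDesc.incl (FibDesc.topAug (YL Q (ℓb g))) ⋙ LG Q (ℓb g)).IsContinuous
      (JP (YL Q (ℓb g))) (KQ Q) :=
    Functor.isContinuous_comp (FibDesc.incl (FibDesc.topAug (YL Q (ℓb g)))) (LG Q (ℓb g))
      (JP (YL Q (ℓb g))) (JA (YL Q (ℓb g))) (KQ Q)
  exact Functor.isContinuous_comp (ι (FibDesc.part (FibDesc.topAug (YL Q (ℓb g)))) n)
    (FibDesc.incl (FibDesc.topAug (YL Q (ℓb g))) ⋙ LG Q (ℓb g))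
    (JS (YL Q (ℓx g n))) (JP (YL Q (ℓb g))) (KQ Q)

instance F₂_continuous : (F₂ Q g n).IsContinuous (JS (YL Q (ℓx g n))) (KQ Q) :=
  Functor.isContinuous_comp (FibDesc.eps (FibDesc.topAug (YL Q (ℓx g n)))) (LG Q (ℓx g n))
    (JS (YL Q (ℓx g n))) (JA (YL Q (ℓx g n))) (KQ Q)

/-- restriction to the `n`-th level of the line through the corner is restriction to the base of the
crossing line -/
def α₀ : GS Q (ℓb g) ⋙ inclS (YL Q (ℓb g)) ⋙ restrN (YL Q (ℓb g)) n ≅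
    GS Q (ℓx g n) ⋙ epsS (YL Q (ℓx g n)) :=
  (Iso.refl _ : GS Q (ℓb g) ⋙ inclS (YL Q (ℓb g)) ⋙ restrN (YL Q (ℓb g)) n ≅
      (F₁ Q g n).sheafPushforwardContinuous AddCommGrpCat.{u} (JS (YL Q (ℓx g n))) (KQ Q)) ≪≫
    Functor.sheafPushforwardContinuousIso (χ Q g n) AddCommGrpCat.{u} (JS (YL Q (ℓx g n))) (KQ Q) ≪≫
    (Iso.refl _ : (F₂ Q g n).sheafPushforwardContinuous AddCommGrpCat.{u}
      (JS (YL Q (ℓx g n))) (KQ Q) ≅ GS Q (ℓx g n) ⋙ epsS (YL Q (ℓx g n)))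

end cross

section O2

open Groth.Agent.Helper6.RDU Groth.Agent.Lib.Helper5.Misc

instance (ℓ : W' ⥤ 𝒮) : (GS Q ℓ).Additive where

instance (Y : (WithInitial SimplexCategory)ᵒᵖ ⥤ TopCat.{u}) (n : SimplexCategoryᵒᵖ) :
    (restrN Y n).Additive where

instance (ℓ : W' ⥤ 𝒮) : PreservesFiniteLimits (ΛL Q k ℓ) := by
  haveI : PreservesFiniteLimits (GS Q ℓ) := inferInstance
  haveI : PreservesFiniteLimits (inclS (YL Q ℓ)) := inferInstance
  haveI : PreservesFiniteLimits (GS Q ℓ ⋙ inclS (YL Q ℓ)) := comp_preservesFiniteLimits _ _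
  exact comp_preservesFiniteLimits _ _

instance (Y : (WithInitial SimplexCategory)ᵒᵖ ⥤ TopCat.{u}) : PreservesFiniteLimits (pushY Y) :=
  PreservesLimitsOfSize.preservesFiniteLimits _

/-- the base change isomorphism at the `n`-th level -/
def α' (n : SimplexCategoryᵒᵖ) : ΛL Q k (ℓb g) ⋙ restrN (YL Q (ℓb g)) n ≅
    (haveI := hρc n; ρS Q k (ℓx g n) (ρ n)) ⋙ pushY (YL Q (ℓx g n)) :=
  haveI := hρc n
  haveI := hρcc n
  Functor.isoWhiskerLeft (R₂ Q k) (α₀ Q g n) ≪≫ C1ρ Q k (ℓx g n) (ρ n) (eρ n) (edx n)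

include hT hdesc edx eρ hρc hρcc in
/-- the higher derived functors of the restriction to the line through the corner vanish on the
restriction of the extension from the terminal vertex -/
lemma isZero_rightDerived_ΛL_b (M : ShB Q s₀) (q : ℕ) (hq : 0 < q) :
    IsZero (((ΛL Q k (ℓb g)).rightDerived q).obj ((jS Q k).obj ((P₂ Q s₀).obj M))) := by
  apply isZero_of_restrN
  intro n
  haveI := hρc n
  haveI := hρcc n
  let K := (jS Q k).obj ((P₂ Q s₀).obj M)
  have e1 := RDComp.postIso (ΛL Q k (ℓb g)) (restrN (YL Q (ℓb g)) n) K q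
  have e2 := (RDComp.natIso (α' Q k g edx ρ eρ hρc n) q).app K
  obtain ⟨e3⟩ := LerayCol3.nonempty_iso_row (ρS Q k (ℓx g n) (ρ n)) (pushY (YL Q (ℓx g n)))
    (fun I hI j hj => acyc_ρS Q k (ℓx g n) (ρ n) (eρ n) (edx n) I hI j hj) K
    (fun j hj => by
      obtain ⟨j, rfl⟩ := Nat.exists_eq_succ_of_ne_zero (Nat.pos_iff_ne_zero.1 hj)
      exact RDExact.isZero_rightDerived_succ (ρS Q k (ℓx g n) (ρ n)) K j) q
  have e4 : (ρS Q k (ℓx g n) (ρ n)).obj K ≅
      (pullY (YL Q (ℓx g n))).obj ((pbL Q (ℓx g n) hT).obj M) :=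
    ((eρS Q k (ℓx g n) (ρ n) (eρ n)).app ((P₂ Q s₀).obj M)).symm ≪≫
      (inclS (YL Q (ℓx g n))).mapIso ((F1 Q (ℓx g n) hT).app M)
  have hz := isZero_rightDerived_of_isCohDescentTop (hdesc n) ((pbL Q (ℓx g n) hT).obj M) q hq
  exact IsZero.of_iso hz (e1.symm ≪≫ e2 ≪≫ e3 ≪≫
    ((pushY (YL Q (ℓx g n))).rightDerived q).mapIso e4)

variable (edb : LineED k (ℓb g))

include hT hdesc edx eρ hρc hρcc edb in
/-- the derived functors of the restriction to the terminal vertex of the right Kan extension, at the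
restriction of the extension of `M`, are the higher direct images of the inverse image of `M` along
the line through the corner -/
theorem nonempty_O3 (M : ShB Q s₀) (n : ℕ) :
    Nonempty (((R₂ Q k ⋙ GS Q (ℓb g) ⋙ epsS (YL Q (ℓb g))).rightDerived n).obj
        ((jS Q k).obj ((P₂ Q s₀).obj M)) ≅
      ((pushY (YL Q (ℓb g))).rightDerived n).obj
        ((pullY (YL Q (ℓb g))).obj ((pbL Q (ℓb g) hT).obj M))) := by
  let K := (jS Q k).obj ((P₂ Q s₀).obj M)
  have e1 := (RDComp.natIso (C1 Q k (ℓb g) edb) n).app K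
  obtain ⟨e2⟩ := LerayCol3.nonempty_iso_row (ΛL Q k (ℓb g)) (pushY (YL Q (ℓb g)))
    (fun I hI j hj => acyc_ΛL Q k (ℓb g) edb I hI j hj) K
    (fun j hj => isZero_rightDerived_ΛL_b Q k g hT edx ρ eρ hρc hρcc hdesc M j hj) n
  obtain ⟨e3⟩ := nonempty_O1 Q k g hT edx ρ eρ hρc hρcc hdesc M
  exact ⟨e1 ≪≫ e2 ≪≫ ((pushY (YL Q (ℓb g))).rightDerived n).mapIso e3⟩

end O2

end

end Groth.Agent.Helper3.DC22
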