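import Mathlib
import Groth.Prelude.Def_FibDesc
import Groth.Agent.Lib.Helper3.DC22

/-!
# Doubly augmented bisimplicial spaces: rows and columns
-/

set_option autoImplicit false
set_option backward.isDefEq.respectTransparency false
open CategoryTheory Limits Opposite TopologicalSpace Pseudofunctor.CoGrothendieck Simplicial Topology

universe u
namespace Groth.Agent.Helper3.DC23

open DC2 DC4 DC5 DC6 DC12 DC16 DC18 DC19 DC20 DC21 DC22 Groth.Agent.Lib.Helper5

noncomputable section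

/-- the index category of bisimplicial objects -/
abbrev ZZ := SimplexCategoryᵒᵖ × SimplexCategoryᵒᵖ

/-- the inclusion of the bisimplicial part -/
abbrev kk : ZZ ⥤ WW := (FibDesc.toAug SimplexCategory).prod (FibDesc.toAug SimplexCategory)

instance : kk.Faithful where
  map_injective {X Y} f g h := by
    apply Prod.hom_ext
    · exact (FibDesc.toAug SimplexCategory).map_injective (congrArg Prod.fst h)
    · exact (FibDesc.toAug SimplexCategory).map_injective (congrArg Prod.snd h)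

instance : kk.Full where
  map_surjective {X Y} h :=
    ⟨((FibDesc.toAug SimplexCategory).preimage h.1, (FibDesc.toAug SimplexCategory).preimage h.2),
      Prod.hom_ext ((FibDesc.toAug SimplexCategory).map_preimage h.1)
        ((FibDesc.toAug SimplexCategory).map_preimage h.2)⟩

/-- the corner -/
abbrev s₀ : WW := (FibDesc.bot SimplexCategory, FibDesc.bot SimplexCategory)

/-- the corner is terminal -/
def hT₀ : IsTerminal s₀ :=
  IsTerminal.ofUniqueHom (fun X => (toBot X.1, toBot X.2))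
    (fun X m => Prod.hom_ext (toBot_unique _ _) (toBot_unique _ _))

section shift

open SSet.Augmented.StandardSimplex

/-- the shift of a morphism of the augmented simplex category between simplices -/
def shiftW {a : SimplexCategoryᵒᵖ} {n : ℕ} (h : tA a ⟶ tA (op ⦋n⦌)) : tA a ⟶ tA (op ⦋n + 1⦌) :=
  (FibDesc.toAug SimplexCategory).map (shift ((FibDesc.toAug SimplexCategory).preimage h).unop).op

/-- the constant morphism -/
def constW (a : SimplexCategoryᵒᵖ) : tA a ⟶ tA (op ⦋0⦌) :=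
  (FibDesc.toAug SimplexCategory).map (SimplexCategory.const ⦋0⦌ a.unop 0).op

lemma preimage_comp_map {a b c : SimplexCategoryᵒᵖ} (h : tA a ⟶ tA b) (φ : b ⟶ c) :
    (FibDesc.toAug SimplexCategory).preimage (h ≫ (FibDesc.toAug SimplexCategory).map φ) =
      (FibDesc.toAug SimplexCategory).preimage h ≫ φ := by
  apply (FibDesc.toAug SimplexCategory).map_injective
  rw [Functor.map_preimage, Functor.map_comp, Functor.map_preimage]

lemma shiftW_comp_δ₁ {a : SimplexCategoryᵒᵖ} (h : tA a ⟶ tA (op ⦋0⦌)) :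
    shiftW h ≫ (FibDesc.toAug SimplexCategory).map (SimplexCategory.δ (1 : Fin 2)).op = constW a := by
  unfold shiftW constW
  rw [← Functor.map_comp, ← op_comp, δ_one_shift]

lemma shiftW_comp_δ₀ {a : SimplexCategoryᵒᵖ} {n : ℕ} (h : tA a ⟶ tA (op ⦋n⦌)) :
    shiftW h ≫ (FibDesc.toAug SimplexCategory).map (SimplexCategory.δ (0 : Fin (n + 2))).op = h := by
  unfold shiftW
  rw [← Functor.map_comp, ← op_comp, δ_zero_shift, Quiver.Hom.op_unop, Functor.map_preimage]

lemma shiftW_comp_δ {a : SimplexCategoryᵒᵖ} {n : ℕ} (h : tA a ⟶ tA (op ⦋n + 1⦌)) (i : Fin (n + 2)) :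
    shiftW h ≫ (FibDesc.toAug SimplexCategory).map (SimplexCategory.δ i.succ).op =
      shiftW (h ≫ (FibDesc.toAug SimplexCategory).map (SimplexCategory.δ i).op) := by
  unfold shiftW
  rw [← Functor.map_comp, ← op_comp, δ_succ_shift, preimage_comp_map]
  rfl

lemma shiftW_comp_σ {a : SimplexCategoryᵒᵖ} {n : ℕ} (h : tA a ⟶ tA (op ⦋n⦌)) (i : Fin (n + 1)) :
    shiftW h ≫ (FibDesc.toAug SimplexCategory).map (SimplexCategory.σ i.succ).op =
      shiftW (h ≫ (FibDesc.toAug SimplexCategory).map (SimplexCategory.σ i).op) := by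
  unfold shiftW
  rw [← Functor.map_comp, ← op_comp, σ_succ_shift, preimage_comp_map]
  rfl

end shift

/-- the extra degeneracy of a row -/
def edRow (i : W') : LineED kk (rowL i) where
  s' {x} c := (c.1, constW x.2)
  s {x} n g := (g.1, shiftW g.2)
  s'_comp_ε c := Prod.hom_ext (Category.comp_id _) (toBot_unique _ _)
  s₀_comp_δ₁ g := Prod.hom_ext rfl (shiftW_comp_δ₁ g.2)
  s_comp_δ₀ n g := Prod.hom_ext (Category.comp_id _) (shiftW_comp_δ₀ g.2)
  s_comp_δ n g i := Prod.hom_ext rfl (shiftW_comp_δ g.2 i)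
  s_comp_σ n g i := Prod.hom_ext rfl (shiftW_comp_σ g.2 i)

/-- the extra degeneracy of a column -/
def edCol (j : W') : LineED kk (colL j) where
  s' {x} c := (constW x.1, c.2)
  s {x} n g := (shiftW g.1, g.2)
  s'_comp_ε c := Prod.hom_ext (toBot_unique _ _) (Category.comp_id _)
  s₀_comp_δ₁ g := Prod.hom_ext (shiftW_comp_δ₁ g.1) rfl
  s_comp_δ₀ n g := Prod.hom_ext (shiftW_comp_δ₀ g.1) (Category.comp_id _)
  s_comp_δ n g i := Prod.hom_ext (shiftW_comp_δ g.1 i) rfl
  s_comp_σ n g i := Prod.hom_ext (shiftW_comp_σ g.1 i) rfl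

section rho

variable (Q : WW ⥤ TopCat.{u})

lemma kk_map_row (m : SimplexCategoryᵒᵖ) {a b : SimplexCategoryᵒᵖ} (φ : a ⟶ b) :
    kk.map ((𝟙 m, φ) : (m, a) ⟶ (m, b)) =
      (rowL (tA m)).map ((FibDesc.toAug SimplexCategory).map φ) :=
  Prod.hom_ext ((FibDesc.toAug SimplexCategory).map_id m) rfl

lemma kk_map_col (n : SimplexCategoryᵒᵖ) {a b : SimplexCategoryᵒᵖ} (φ : a ⟶ b) :
    kk.map ((φ, 𝟙 n) : (a, n) ⟶ (b, n)) =
      (colL (tA n)).map ((FibDesc.toAug SimplexCategory).map φ) :=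
  Prod.hom_ext rfl ((FibDesc.toAug SimplexCategory).map_id n)

/-- the inclusion of the simplicial part of a row in the bisimplicial part -/
def ρRow (m : SimplexCategoryᵒᵖ) : TP (YL Q (rowL (tA m))) ⥤ TZ Q kk where
  obj t := ⟨(m, t.base), t.fiber⟩
  map {t t'} g := homQ (kk ⋙ Q) (t := ⟨(m, t.base), t.fiber⟩) (t' := ⟨(m, t'.base), t'.fiber⟩)
    ((𝟙 m, g.base) : (m, t.base) ⟶ (m, t'.base)) (by
      have h := le_of_homP g
      change fibP (YL Q (rowL (tA m))) t ≤ (Opens.map (Q.map (kk.map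
        ((𝟙 m, g.base) : (m, t.base) ⟶ (m, t'.base))))).obj (fibP (YL Q (rowL (tA m))) t')
      rw [kk_map_row]
      exact h)
  map_id t := homQ_ext _ _ rfl
  map_comp f g := homQ_ext _ _ (Prod.hom_ext (Category.id_comp _).symm rfl)

/-- it lies over the inclusion of the row -/
def eρRow (m : SimplexCategoryᵒᵖ) : ρRow Q m ⋙ Tk Q kk ≅
    FibDesc.incl (FibDesc.topAug (YL Q (rowL (tA m)))) ⋙ LG Q (rowL (tA m)) :=
  NatIso.ofComponents (fun t => Iso.refl _) (by
    intro t t' g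
    apply homQ_ext
    change kk.map ((𝟙 m, g.base) : (m, t.base) ⟶ (m, t'.base)) ≫ 𝟙 _ =
      𝟙 _ ≫ (rowL (tA m)).map ((FibDesc.toAug SimplexCategory).map g.base)
    rw [kk_map_row, Category.comp_id, Category.id_comp])

/-- the fibre inclusions correspond -/
def ιρRowIso (m n : SimplexCategoryᵒᵖ) :
    ι (FibDesc.part (FibDesc.topAug (YL Q (rowL (tA m))))) n ⋙ ρRow Q m ≅
      ι (FQ (kk ⋙ Q)) (m, n) :=
  NatIso.ofComponents (fun U => Iso.refl _) (by
    intro U V g
    apply homQ_ext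
    rfl)

instance ρRow_continuous (m : SimplexCategoryᵒᵖ) :
    (ρRow Q m).IsContinuous (JP (YL Q (rowL (tA m)))) (KQ (kk ⋙ Q)) := by
  rw [FibTot.isContinuous_iff _ (isPreFibSite_part (YL Q (rowL (tA m))))]
  intro n
  haveI : (ι (FQ (kk ⋙ Q)) (m, n)).IsContinuous
      (FibDesc.partTop (FibDesc.topAug (YL Q (rowL (tA m))))
        (FibDesc.topAugTop (YL Q (rowL (tA m)))) n) (KQ (kk ⋙ Q)) :=
    ιQ_continuous (kk ⋙ Q) (m, n)
  exact Functor.isContinuous_of_iso (ιρRowIso Q m n).symm _ _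

lemma ρRow_map_ι_map (m n : SimplexCategoryᵒᵖ) {U V : Opens ((YL Q (rowL (tA m))).obj (tA n))}
    (g : U ⟶ V) :
    (ρRow Q m).map ((ι (FibDesc.part (FibDesc.topAug (YL Q (rowL (tA m))))) n).map g) =
      (ι (FQ (kk ⋙ Q)) (m, n)).map g := by
  apply homQ_ext
  rfl

instance ρRow_cocontinuous (m : SimplexCategoryᵒᵖ) :
    (ρRow Q m).IsCocontinuous (JP (YL Q (rowL (tA m)))) (KQ (kk ⋙ Q)) where
  cover_lift {t T} hT := by
    obtain ⟨R, hR, hle⟩ := (FibTot.mem_totalTopology_iff _ (isPreFibSite_FQ (kk ⋙ Q)) _ T).1 hT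
    refine (FibTot.mem_totalTopology_iff _ (isPreFibSite_part (YL Q (rowL (tA m)))) _ _).2
      ⟨R, hR, ?_⟩
    rintro Z h ⟨W, e, b, he, rfl⟩
    change T ((ρRow Q m).map (b ≫ _))
    rw [Functor.map_comp]
    apply T.downward_closed
    rw [ρRow_map_ι_map]
    exact hle _ (Sieve.image_mem_functorPushforward _ _ he)

/-- the inclusion of the simplicial part of a column in the bisimplicial part -/
def ρCol (n : SimplexCategoryᵒᵖ) : TP (YL Q (colL (tA n))) ⥤ TZ Q kk where
  obj t := ⟨(t.base, n), t.fiber⟩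
  map {t t'} g := homQ (kk ⋙ Q) (t := ⟨(t.base, n), t.fiber⟩) (t' := ⟨(t'.base, n), t'.fiber⟩)
    ((g.base, 𝟙 n) : (t.base, n) ⟶ (t'.base, n)) (by
      have h := le_of_homP g
      change fibP (YL Q (colL (tA n))) t ≤ (Opens.map (Q.map (kk.map
        ((g.base, 𝟙 n) : (t.base, n) ⟶ (t'.base, n))))).obj (fibP (YL Q (colL (tA n))) t')
      rw [kk_map_col]
      exact h)
  map_id t := homQ_ext _ _ rfl
  map_comp f g := homQ_ext _ _ (Prod.hom_ext rfl (Category.id_comp _).symm)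

/-- it lies over the inclusion of the column -/
def eρCol (n : SimplexCategoryᵒᵖ) : ρCol Q n ⋙ Tk Q kk ≅
    FibDesc.incl (FibDesc.topAug (YL Q (colL (tA n)))) ⋙ LG Q (colL (tA n)) :=
  NatIso.ofComponents (fun t => Iso.refl _) (by
    intro t t' g
    apply homQ_ext
    change kk.map ((g.base, 𝟙 n) : (t.base, n) ⟶ (t'.base, n)) ≫ 𝟙 _ =
      𝟙 _ ≫ (colL (tA n)).map ((FibDesc.toAug SimplexCategory).map g.base)
    rw [kk_map_col, Category.comp_id, Category.id_comp])

/-- the fibre inclusions correspond -/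
def ιρColIso (n m : SimplexCategoryᵒᵖ) :
    ι (FibDesc.part (FibDesc.topAug (YL Q (colL (tA n))))) m ⋙ ρCol Q n ≅
      ι (FQ (kk ⋙ Q)) (m, n) :=
  NatIso.ofComponents (fun U => Iso.refl _) (by
    intro U V g
    apply homQ_ext
    rfl)

instance ρCol_continuous (n : SimplexCategoryᵒᵖ) :
    (ρCol Q n).IsContinuous (JP (YL Q (colL (tA n)))) (KQ (kk ⋙ Q)) := by
  rw [FibTot.isContinuous_iff _ (isPreFibSite_part (YL Q (colL (tA n))))]
  intro m
  haveI : (ι (FQ (kk ⋙ Q)) (m, n)).IsContinuous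
      (FibDesc.partTop (FibDesc.topAug (YL Q (colL (tA n))))
        (FibDesc.topAugTop (YL Q (colL (tA n)))) m) (KQ (kk ⋙ Q)) :=
    ιQ_continuous (kk ⋙ Q) (m, n)
  exact Functor.isContinuous_of_iso (ιρColIso Q n m).symm _ _

lemma ρCol_map_ι_map (n m : SimplexCategoryᵒᵖ) {U V : Opens ((YL Q (colL (tA n))).obj (tA m))}
    (g : U ⟶ V) :
    (ρCol Q n).map ((ι (FibDesc.part (FibDesc.topAug (YL Q (colL (tA n))))) m).map g) =
      (ι (FQ (kk ⋙ Q)) (m, n)).map g := by
  apply homQ_ext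
  rfl

instance ρCol_cocontinuous (n : SimplexCategoryᵒᵖ) :
    (ρCol Q n).IsCocontinuous (JP (YL Q (colL (tA n)))) (KQ (kk ⋙ Q)) where
  cover_lift {t T} hT := by
    obtain ⟨R, hR, hle⟩ := (FibTot.mem_totalTopology_iff _ (isPreFibSite_FQ (kk ⋙ Q)) _ T).1 hT
    refine (FibTot.mem_totalTopology_iff _ (isPreFibSite_part (YL Q (colL (tA n)))) _ _).2
      ⟨R, hR, ?_⟩
    rintro Z h ⟨W, e, b, he, rfl⟩
    change T ((ρCol Q n).map (b ≫ _))
    rw [Functor.map_comp]
    apply T.downward_closed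
    rw [ρCol_map_ι_map]
    exact hle _ (Sieve.image_mem_functorPushforward _ _ he)

end rho

end

end Groth.Agent.Helper3.DC23
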