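import Mathlib
import Groth.Prelude.Def_FibDesc
import Groth.Agent.Lib.Helper3.DC23

/-!
# The comparison theorem for doubly augmented bisimplicial spaces: the unit
-/

set_option autoImplicit false
set_option backward.isDefEq.respectTransparency false
open CategoryTheory Limits Opposite TopologicalSpace Pseudofunctor.CoGrothendieck Simplicial Topology

universe u
namespace Groth.Agent.Helper3.DC24

open DC2 DC4 DC5 DC6 DC12 DC16 DC18 DC19 DC20 DC21 DC22 DC23 Groth.Agent.Lib.Helper5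

section generic

universe v₁ u₁

variable {𝒯 : Type u₁} [Category.{v₁} 𝒯] (H : 𝒯ᵒᵖ ⥤ AddCommGrpCat.{u})

lemma map_comp_apply {a b c : 𝒯} (f : a ⟶ b) (g : b ⟶ c) (s : H.obj (op c)) :
    (H.map f.op).hom ((H.map g.op).hom s) = (H.map (f ≫ g).op).hom s := by
  rw [op_comp, H.map_comp]
  rfl

lemma bijective_map_iso {a b : 𝒯} (e : a ≅ b) : Function.Bijective (H.map e.hom.op).hom :=
  (ConcreteCategory.isIso_iff_bijective _).1 inferInstance

/-- transport of the equaliser property along isomorphisms -/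
lemma IsEq.of_iso {x x' y y' z z' : 𝒯} (ex : x' ≅ x) (ey : y' ≅ y) (ez : z' ≅ z)
    {ε : y ⟶ x} {d0 d1 : z ⟶ y} {ε' : y' ⟶ x'} {d0' d1' : z' ⟶ y'}
    (hε : ε' ≫ ex.hom = ey.hom ≫ ε) (h0 : d0' ≫ ey.hom = ez.hom ≫ d0)
    (h1 : d1' ≫ ey.hom = ez.hom ≫ d1) (h : IsEq H ε d0 d1) : IsEq H ε' d0' d1' := by
  have bx := bijective_map_iso H ex
  have by' := bijective_map_iso H ey
  have bz := bijective_map_iso H ez
  constructor
  · intro s s' hss
    obtain ⟨r, rfl⟩ := bx.2 s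
    obtain ⟨r', rfl⟩ := bx.2 s'
    rw [map_comp_apply, map_comp_apply, hε, ← map_comp_apply, ← map_comp_apply] at hss
    rw [h.1 (by'.1 hss)]
  · intro t ht
    obtain ⟨r, rfl⟩ := by'.2 t
    have hr : (H.map d0.op).hom r = (H.map d1.op).hom r := by
      apply bz.1
      rw [map_comp_apply, map_comp_apply, ← h0, ← h1, ← map_comp_apply, ← map_comp_apply]
      exact ht
    obtain ⟨s, hs⟩ := h.2 r hr
    refine ⟨(H.map ex.hom.op).hom s, ?_⟩
    rw [map_comp_apply, hε, ← map_comp_apply, hs]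

/-- the diagram chase -/
lemma isEq_of_grid {x a0 a1 b0 b1 k00 k01 k10 : 𝒯}
    (εa : a0 ⟶ x) (da0 da1 : a1 ⟶ a0) (εb : b0 ⟶ x) (db0 db1 : b1 ⟶ b0)
    (ra : k00 ⟶ a0) (rb : k00 ⟶ b0) (dr0 dr1 : k01 ⟶ k00) (dc0 dc1 : k10 ⟶ k00)
    (ra1 : k10 ⟶ a1) (rb1 : k01 ⟶ b1)
    (c1 : ra ≫ εa = rb ≫ εb)
    (c30 : ra1 ≫ da0 = dc0 ≫ ra) (c31 : ra1 ≫ da1 = dc1 ≫ ra)
    (c40 : rb1 ≫ db0 = dr0 ≫ rb) (c41 : rb1 ≫ db1 = dr1 ≫ rb)
    (c5 : dr0 ≫ ra = dr1 ≫ ra)
    (hR0 : IsEq H ra dr0 dr1) (hR1 : Function.Injective (H.map ra1.op).hom)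
    (hC0 : IsEq H rb dc0 dc1) (hC1 : Function.Injective (H.map rb1.op).hom)
    (hB : IsEq H εb db0 db1) : IsEq H εa da0 da1 := by
  constructor
  · intro s s' hss
    apply hB.1
    apply hC0.1
    rw [map_comp_apply, map_comp_apply, ← c1, ← map_comp_apply, ← map_comp_apply, hss]
  · intro y hy
    have hk : (H.map dc0.op).hom ((H.map ra.op).hom y) = (H.map dc1.op).hom ((H.map ra.op).hom y) := by
      rw [map_comp_apply, map_comp_apply, ← c30, ← c31, ← map_comp_apply, ← map_comp_apply, hy]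
    obtain ⟨z, hz⟩ := hC0.2 _ hk
    have hzz : (H.map db0.op).hom z = (H.map db1.op).hom z := by
      apply hC1
      rw [map_comp_apply, map_comp_apply, c40, c41, ← map_comp_apply, ← map_comp_apply, hz,
        map_comp_apply, map_comp_apply, c5]
    obtain ⟨s, hs⟩ := hB.2 z hzz
    refine ⟨s, ?_⟩
    apply hR0.1
    rw [map_comp_apply, c1, ← map_comp_apply, hs, hz]

end generic

noncomputable section

section pt

variable {𝒮 : Type} [SmallCategory 𝒮] (Q : 𝒮 ⥤ TopCat.{u}) {s₀ : 𝒮} (hT : IsTerminal s₀)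

/-- the object `(s, preimage of U)` -/
def pt (s : 𝒮) (U : Opens (Q.obj s₀)) : TQ Q := ⟨s, (Opens.map (Q.map (hT.from s))).obj U⟩

/-- the canonical morphisms between these objects -/
def ptMap {s s' : 𝒮} (f : s ⟶ s') (U : Opens (Q.obj s₀)) : pt Q hT s U ⟶ pt Q hT s' U :=
  homQ Q (t := pt Q hT s U) (t' := pt Q hT s' U) f (le_of_eq (by
    have h : hT.from s = f ≫ hT.from s' := hT.hom_ext _ _
    change (Opens.map (Q.map (hT.from s))).obj U =
      (Opens.map (Q.map f)).obj ((Opens.map (Q.map (hT.from s'))).obj U)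
    rw [h, Q.map_comp]
    rfl))

lemma ptMap_comp {s s' s'' : 𝒮} (f : s ⟶ s') (g : s' ⟶ s'') (U : Opens (Q.obj s₀)) :
    ptMap Q hT f U ≫ ptMap Q hT g U = ptMap Q hT (f ≫ g) U :=
  homQ_ext _ _ rfl

lemma ptMap_comp_eq {s s' s'' t' : 𝒮} (f : s ⟶ s') (g : s' ⟶ s'') (f' : s ⟶ t') (g' : t' ⟶ s'')
    (U : Opens (Q.obj s₀)) (h : f ≫ g = f' ≫ g') :
    ptMap Q hT f U ≫ ptMap Q hT g U = ptMap Q hT f' U ≫ ptMap Q hT g' U := by
  rw [ptMap_comp, ptMap_comp]
  exact homQ_ext _ _ h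

/-- the equaliser property of a presheaf along a line, over the preimages of an open set of the
terminal vertex -/
def PtEq (H : (TQ Q)ᵒᵖ ⥤ AddCommGrpCat.{u}) (ℓ : W' ⥤ 𝒮) (U : Opens (Q.obj s₀)) : Prop :=
  IsEq H (ptMap Q hT (ℓ.map (toBot (tA (op ⦋0⦌)))) U)
    (ptMap Q hT (ℓ.map ((FibDesc.toAug SimplexCategory).map (SimplexCategory.δ (0 : Fin 2)).op)) U)
    (ptMap Q hT (ℓ.map ((FibDesc.toAug SimplexCategory).map (SimplexCategory.δ (1 : Fin 2)).op)) U)

lemma le_map_id {s : 𝒮} {V V' : Opens (Q.obj s)} (h : V ≤ V') :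
    V ≤ (Opens.map (Q.map (𝟙 s))).obj V' := by
  intro w hw
  change (Q.map (𝟙 s)) w ∈ V'
  rw [Q.map_id]
  exact h hw

/-- objects with equal fibres are isomorphic -/
def fibIso (s : 𝒮) (V V' : Opens (Q.obj s)) (h : V = V') : (⟨s, V⟩ : TQ Q) ≅ ⟨s, V'⟩ where
  hom := homQ Q (t := ⟨s, V⟩) (t' := ⟨s, V'⟩) (𝟙 s) (le_map_id Q (le_of_eq h))
  inv := homQ Q (t := ⟨s, V'⟩) (t' := ⟨s, V⟩) (𝟙 s) (le_map_id Q (le_of_eq h.symm))
  hom_inv_id := homQ_ext _ _ (Category.comp_id _)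
  inv_hom_id := homQ_ext _ _ (Category.comp_id _)

variable (ℓ : W' ⥤ 𝒮)

/-- the preimage in the base of the line of an open set of the terminal vertex -/
abbrev VU (U : Opens (Q.obj s₀)) : Opens (S₀ (YL Q ℓ)) := (Opens.map (qL Q ℓ hT)).obj U

/-- comparison of the objects of the line with the canonical objects -/
def secPtIso (U : Opens (Q.obj s₀)) (n : SimplexCategoryᵒᵖ) :
    (LG Q ℓ).obj ((FibDesc.incl (FibDesc.topAug (YL Q ℓ))).obj ((sec (YL Q ℓ) (VU Q hT ℓ U)).obj n)) ≅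
      pt Q hT (ℓ.obj (tA n)) U :=
  fibIso Q (ℓ.obj (tA n)) _ _ (map_qinv Q ℓ hT (tA n) (hT.from _) U)

lemma isEqSec_iff_ptEq (H : (TQ Q)ᵒᵖ ⥤ AddCommGrpCat.{u}) (U : Opens (Q.obj s₀)) :
    IsEqSec (YL Q ℓ) ((LG Q ℓ).op ⋙ H) (VU Q hT ℓ U) ↔ PtEq Q hT H ℓ U := by
  constructor
  · intro h
    refine IsEq.of_iso H (Iso.refl _) (secPtIso Q hT ℓ U (op ⦋0⦌)).symm
      (secPtIso Q hT ℓ U (op ⦋1⦌)).symm ?_ ?_ ?_ h
    · apply homQ_ext
      exact (Category.comp_id _).trans (Category.id_comp _).symm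
    · apply homQ_ext
      exact (Category.comp_id _).trans (Category.id_comp _).symm
    · apply homQ_ext
      exact (Category.comp_id _).trans (Category.id_comp _).symm
  · intro h
    refine IsEq.of_iso H (Iso.refl _) (secPtIso Q hT ℓ U (op ⦋0⦌))
      (secPtIso Q hT ℓ U (op ⦋1⦌)) ?_ ?_ ?_ h
    · apply homQ_ext
      exact (Category.comp_id _).trans (Category.id_comp _).symm
    · apply homQ_ext
      exact (Category.comp_id _).trans (Category.id_comp _).symm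
    · apply homQ_ext
      exact (Category.comp_id _).trans (Category.id_comp _).symm

end pt

section unitline

variable {𝒮 : Type} [SmallCategory 𝒮] (Q : 𝒮 ⥤ TopCat.{u}) {s₀ : 𝒮} (hT : IsTerminal s₀)
  (ℓ : W' ⥤ 𝒮)

include hT in
/-- along a line of cohomological descent, the sections of an extension from the terminal vertex
are equalisers -/
lemma isEqSec_GS_P₂_of_desc (hdesc : FibDesc.IsCohDescentTop (YL Q ℓ)) (M : ShB Q s₀)
    (V : Opens (S₀ (YL Q ℓ))) :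
    IsEqSec (YL Q ℓ) ((GS Q ℓ).obj ((P₂ Q s₀).obj M)).obj V :=
  (isIso_unit_iff (YL Q ℓ) ((pbL Q ℓ hT).obj M)
    ((GS Q ℓ).obj ((P₂ Q s₀).obj M)) ((DC18.F1 Q ℓ hT).app M)).1
    (isIso_unit_of_isCohDescentTop hdesc _) V

lemma ptEq_of_desc (hdesc : FibDesc.IsCohDescentTop (YL Q ℓ)) (M : ShB Q s₀)
    (U : Opens (Q.obj s₀)) : PtEq Q hT ((P₂ Q s₀).obj M).obj ℓ U :=
  (isEqSec_iff_ptEq Q hT ℓ ((P₂ Q s₀).obj M).obj U).1
    (isEqSec_GS_P₂_of_desc Q hT ℓ hdesc M _)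

end unitline

section grid

variable (Q : WW ⥤ TopCat.{u}) (H : (TQ Q)ᵒᵖ ⥤ AddCommGrpCat.{u}) (U : Opens (Q.obj s₀))

/-- the equaliser property along the two first rows, the two first columns and the row through the
corner gives the equaliser property along the column through the corner -/
lemma ptEq_colL_bot
    (hR0 : PtEq Q hT₀ H (rowL (tA (op ⦋0⦌))) U) (hR1 : PtEq Q hT₀ H (rowL (tA (op ⦋1⦌))) U)
    (hC0 : PtEq Q hT₀ H (colL (tA (op ⦋0⦌))) U) (hC1 : PtEq Q hT₀ H (colL (tA (op ⦋1⦌))) U)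
    (hB : PtEq Q hT₀ H (rowL (FibDesc.bot SimplexCategory)) U) :
    PtEq Q hT₀ H (colL (FibDesc.bot SimplexCategory)) U := by
  refine isEq_of_grid H _ _ _ _ _ _ _ _ _ _ _ _ _ _ ?_ ?_ ?_ ?_ ?_ ?_ hR0 hR1.1 hC0 hC1.1 hB
  all_goals
    refine ptMap_comp_eq Q hT₀ _ _ _ _ U (Prod.hom_ext ?_ ?_)
    all_goals
      first
        | exact (Category.comp_id _).symm
        | exact (Category.id_comp _).symm
        | exact Category.comp_id _
        | exact Category.id_comp _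
        | exact toBot_unique _ _
        | exact (Category.comp_id _).trans (Category.id_comp _).symm
        | exact (Category.id_comp _).trans (Category.comp_id _).symm
        | simp

/-- the unit part of the comparison theorem -/
theorem isIso_unit_colL_bot
    (hrow : ∀ m : SimplexCategoryᵒᵖ, FibDesc.IsCohDescentTop (YL Q (rowL (tA m))))
    (hcol : ∀ n : SimplexCategoryᵒᵖ, FibDesc.IsCohDescentTop (YL Q (colL (tA n))))
    (hb : FibDesc.IsCohDescentTop (YL Q (rowL (FibDesc.bot SimplexCategory))))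
    (M' : BSh (YL Q (colL (FibDesc.bot SimplexCategory)))) :
    IsIso ((adjY (YL Q (colL (FibDesc.bot SimplexCategory)))).unit.app M') := by
  obtain ⟨M, ⟨e⟩⟩ := exists_pbL_iso Q (colL (FibDesc.bot SimplexCategory)) hT₀ rfl M'
  rw [← NatTrans.isIso_app_iff_of_iso _ e]
  refine (isIso_unit_iff (YL Q (colL (FibDesc.bot SimplexCategory)))
    ((pbL Q (colL (FibDesc.bot SimplexCategory)) hT₀).obj M)
    ((GS Q (colL (FibDesc.bot SimplexCategory))).obj ((P₂ Q s₀).obj M))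
    ((DC18.F1 Q (colL (FibDesc.bot SimplexCategory)) hT₀).app M)).2 (fun V => ?_)
  have hV : VU Q hT₀ (colL (FibDesc.bot SimplexCategory)) V = V := by
    have key : ∀ (f : S₀ (YL Q (colL (FibDesc.bot SimplexCategory))) ⟶
        S₀ (YL Q (colL (FibDesc.bot SimplexCategory)))), f = 𝟙 _ → (Opens.map f).obj V = V := by
      rintro _ rfl
      rfl
    refine key (qL Q (colL (FibDesc.bot SimplexCategory)) hT₀) ?_
    have h1 : hT₀.from s₀ = 𝟙 s₀ := hT₀.hom_ext _ _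
    change Q.map (hT₀.from s₀) = 𝟙 _
    rw [h1, Q.map_id]
  have h := (isEqSec_iff_ptEq Q hT₀ (colL (FibDesc.bot SimplexCategory))
    ((P₂ Q s₀).obj M).obj V).2
    (ptEq_colL_bot Q _ V (ptEq_of_desc Q hT₀ _ (hrow _) M V) (ptEq_of_desc Q hT₀ _ (hrow _) M V)
      (ptEq_of_desc Q hT₀ _ (hcol _) M V) (ptEq_of_desc Q hT₀ _ (hcol _) M V)
      (ptEq_of_desc Q hT₀ _ hb M V))
  rw [hV] at h
  exact h

end grid

end

end Groth.Agent.Helper3.DC24
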