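import Mathlib
import Groth.Prelude.Def_FibDesc
import Groth.Agent.Lib.Helper3.DC24

/-!
# The comparison theorem for doubly augmented bisimplicial spaces
-/

set_option autoImplicit false
set_option backward.isDefEq.respectTransparency false
open CategoryTheory Limits Opposite TopologicalSpace Pseudofunctor.CoGrothendieck Simplicial Topology

universe u
namespace Groth.Agent.Helper3.DC25

open DC2 DC4 DC5 DC6 DC12 DC16 DC18 DC19 DC20 DC21 DC22 DC23 DC24 Groth.Agent.Lib.Helper5
open Groth.Agent.Lib.Helper5.Misc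

noncomputable section

section beta

variable {𝒮 : Type} [SmallCategory 𝒮] (Q : 𝒮 ⥤ TopCat.{u}) (ℓ : W' ⥤ 𝒮)

/-- restriction to the base of a line is restriction to the vertex -/
def βL : GS Q ℓ ⋙ epsS (YL Q ℓ) ≅ ES Q (ℓ.obj (FibDesc.bot SimplexCategory)) :=
  haveI : (ι (FQ Q) (ℓ.obj (FibDesc.bot SimplexCategory))).IsContinuous
      (FibDesc.topAugTop (YL Q ℓ) (FibDesc.bot SimplexCategory)) (KQ Q) :=
    ιQ_continuous Q (ℓ.obj (FibDesc.bot SimplexCategory))
  Functor.sheafPushforwardContinuousComp' (ιLGIso Q ℓ (FibDesc.bot SimplexCategory))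
    AddCommGrpCat.{u} _ _ _

end beta

section main

variable (Q : WW ⥤ TopCat.{u})

/-- first application: the crossing lines are the columns -/
lemma nonempty_O3_row
    (hcol : ∀ n : SimplexCategoryᵒᵖ, FibDesc.IsCohDescentTop (YL Q (colL (tA n))))
    (M : ShB Q s₀) (n : ℕ) :
    Nonempty (((R₂ Q kk ⋙ GS Q (rowL (FibDesc.bot SimplexCategory)) ⋙
        epsS (YL Q (rowL (FibDesc.bot SimplexCategory)))).rightDerived n).obj
        ((jS Q kk).obj ((P₂ Q s₀).obj M)) ≅
      ((pushY (YL Q (rowL (FibDesc.bot SimplexCategory)))).rightDerived n).obj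
        ((pullY (YL Q (rowL (FibDesc.bot SimplexCategory)))).obj
          ((pbL Q (rowL (FibDesc.bot SimplexCategory)) hT₀).obj M))) :=
  nonempty_O3 Q kk (𝟭 WW) hT₀ (fun n => edCol (tA n)) (fun n => ρCol Q n) (fun n => eρCol Q n)
    (fun n => ρCol_continuous Q n) (fun n => ρCol_cocontinuous Q n) hcol
    (edRow (FibDesc.bot SimplexCategory)) M n

/-- second application: the crossing lines are the rows -/
lemma nonempty_O3_col
    (hrow : ∀ m : SimplexCategoryᵒᵖ, FibDesc.IsCohDescentTop (YL Q (rowL (tA m))))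
    (M : ShB Q s₀) (n : ℕ) :
    Nonempty (((R₂ Q kk ⋙ GS Q (colL (FibDesc.bot SimplexCategory)) ⋙
        epsS (YL Q (colL (FibDesc.bot SimplexCategory)))).rightDerived n).obj
        ((jS Q kk).obj ((P₂ Q s₀).obj M)) ≅
      ((pushY (YL Q (colL (FibDesc.bot SimplexCategory)))).rightDerived n).obj
        ((pullY (YL Q (colL (FibDesc.bot SimplexCategory)))).obj
          ((pbL Q (colL (FibDesc.bot SimplexCategory)) hT₀).obj M))) :=
  nonempty_O3 Q kk (CategoryTheory.Prod.swap W' W') hT₀ (fun n => edRow (tA n))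
    (fun n => ρRow Q n) (fun n => eρRow Q n)
    (fun n => ρRow_continuous Q n) (fun n => ρRow_cocontinuous Q n) hrow
    (edCol (FibDesc.bot SimplexCategory)) M n

instance (s : WW) : (ES Q s).Additive where

/-- **The comparison theorem**: for a doubly augmented bisimplicial space all of whose rows and
columns of non-negative index are of cohomological descent, the augmentation column is of
cohomological descent as soon as the augmentation row is -/
theorem isCohDescentTop_colL_bot
    (hrow : ∀ m : SimplexCategoryᵒᵖ, FibDesc.IsCohDescentTop (YL Q (rowL (tA m))))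
    (hcol : ∀ n : SimplexCategoryᵒᵖ, FibDesc.IsCohDescentTop (YL Q (colL (tA n))))
    (hb : FibDesc.IsCohDescentTop (YL Q (rowL (FibDesc.bot SimplexCategory)))) :
    FibDesc.IsCohDescentTop (YL Q (colL (FibDesc.bot SimplexCategory))) := by
  refine DC8.isCohDescentTop_of_acyclic _ (fun M' => isIso_unit_colL_bot Q hrow hcol hb M')
    (fun M' n hn => ?_)
  obtain ⟨M, ⟨e⟩⟩ := exists_pbL_iso Q (colL (FibDesc.bot SimplexCategory)) hT₀ rfl M'
  refine IsZero.of_iso ?_ (((pushY (YL Q (colL (FibDesc.bot SimplexCategory)))).rightDerived n).mapIso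
    ((pullY (YL Q (colL (FibDesc.bot SimplexCategory)))).mapIso e.symm))
  obtain ⟨ea⟩ := nonempty_O3_col Q hrow M n
  obtain ⟨eb⟩ := nonempty_O3_row Q hcol M n
  have hzb := isZero_rightDerived_of_isCohDescentTop hb
    ((pbL Q (rowL (FibDesc.bot SimplexCategory)) hT₀).obj M) n hn
  let K := (jS Q kk).obj ((P₂ Q s₀).obj M)
  have h1 : IsZero (((R₂ Q kk ⋙ GS Q (rowL (FibDesc.bot SimplexCategory)) ⋙
      epsS (YL Q (rowL (FibDesc.bot SimplexCategory)))).rightDerived n).obj K) :=
    IsZero.of_iso hzb eb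
  have e1 : R₂ Q kk ⋙ GS Q (rowL (FibDesc.bot SimplexCategory)) ⋙
      epsS (YL Q (rowL (FibDesc.bot SimplexCategory))) ≅ R₂ Q kk ⋙ ES Q s₀ :=
    Functor.isoWhiskerLeft _ (βL Q (rowL (FibDesc.bot SimplexCategory)))
  have e2 : R₂ Q kk ⋙ GS Q (colL (FibDesc.bot SimplexCategory)) ⋙
      epsS (YL Q (colL (FibDesc.bot SimplexCategory))) ≅ R₂ Q kk ⋙ ES Q s₀ :=
    Functor.isoWhiskerLeft _ (βL Q (colL (FibDesc.bot SimplexCategory)))
  have h2 : IsZero (((R₂ Q kk ⋙ ES Q s₀).rightDerived n).obj K) :=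
    IsZero.of_iso h1 ((RDComp.natIso e1 n).app K).symm
  have h3 : IsZero (((R₂ Q kk ⋙ GS Q (colL (FibDesc.bot SimplexCategory)) ⋙
      epsS (YL Q (colL (FibDesc.bot SimplexCategory)))).rightDerived n).obj K) :=
    IsZero.of_iso h2 ((RDComp.natIso e2 n).app K)
  exact IsZero.of_iso h3 ea.symm

end main

end

end Groth.Agent.Helper3.DC25
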