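import Mathlib
import Groth.Prelude.Def_FibDesc
import Groth.Agent.Lib.Helper3.DC13
import Groth.Agent.Lib.Helper3.DC25

/-!
# The comparison theorem for the Čech nerves of two maps
-/

set_option autoImplicit false
set_option backward.isDefEq.respectTransparency false
open CategoryTheory Limits Opposite TopologicalSpace Simplicial Topology

universe u
namespace Groth.Agent.Helper3.DC26

open DC2 DC5 DC12 DC13 DC18 DC22 DC23 DC25

noncomputable section

/-- cohomological descent is invariant under isomorphisms -/
theorem isCohDescentTop_of_iso {Y Y' : W' ⥤ TopCat.{u}} (e : Y' ≅ Y)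
    (h : FibDesc.IsCohDescentTop Y') : FibDesc.IsCohDescentTop Y := by
  have hsurj : ∀ i, Function.Surjective (e.hom.app i) := fun i =>
    (TopCat.homeoOfIso (e.app i)).surjective
  refine DC14.isCohDescentTop_of_local (Y := Y) (ι := PUnit.{u + 1}) (fun _ => Y')
    (fun _ => e.hom) (fun _ i => (TopCat.homeoOfIso (e.app i)).isOpenEmbedding) ?_ ?_ (fun _ => h)
  · intro s
    obtain ⟨t, ht⟩ := hsurj _ s
    exact ⟨PUnit.unit, t, ht⟩
  · intro _ i
    rw [Set.range_eq_univ.2 (hsurj i), Set.range_eq_univ.2 (hsurj _), Set.preimage_univ]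

/-- the augmentation, as a natural transformation -/
def augNat (Y : W' ⥤ TopCat.{u}) : Y ⟶ (Functor.const W').obj (S₀ Y) where
  app i := aug Y i
  naturality i j f := by
    change Y.map f ≫ Y.map (toBot j) = Y.map (toBot i) ≫ 𝟙 _
    rw [← Y.map_comp, Category.comp_id, toBot_unique (f ≫ toBot j) (toBot i)]

section char

variable {Z S S' : TopCat.{u}} (w : Z ⟶ S) (g : S' ⟶ S)

lemma isPullback_cechHom_all (i : W') :
    IsPullback ((cechHom w g).app i) (aug (FibDesc.cechAug (pullback.snd w g)) i)
      (aug (FibDesc.cechAug w) i) g := by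
  obtain ⟨i⟩ := i
  cases i with
  | of n => exact isPullback_cechHom w g (op n)
  | star =>
    have h1 : aug (FibDesc.cechAug (pullback.snd w g)) (FibDesc.bot SimplexCategory) = 𝟙 _ :=
      DC6.aug_bot _
    have h2 : aug (FibDesc.cechAug w) (FibDesc.bot SimplexCategory) = 𝟙 _ := DC6.aug_bot _
    change IsPullback g (aug (FibDesc.cechAug (pullback.snd w g)) (FibDesc.bot SimplexCategory))
      (aug (FibDesc.cechAug w) (FibDesc.bot SimplexCategory)) g
    rw [h1, h2]
    exact IsPullback.id_vert g

variable (P : W' ⥤ TopCat.{u}) (p₁ : P ⟶ FibDesc.cechAug w) (p₂ : P ⟶ (Functor.const W').obj S')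
  (hp : ∀ i, IsPullback (p₁.app i) (p₂.app i) (aug (FibDesc.cechAug w) i) g)

/-- an augmented simplicial space which is levelwise the base change of a Čech nerve is the Čech
nerve of the base change -/
def cechBCIso : P ≅ FibDesc.cechAug (pullback.snd w g) :=
  NatIso.ofComponents (fun i => (hp i).isoIsPullback _ _ (isPullback_cechHom_all w g i)) (by
    intro i j f
    apply (isPullback_cechHom_all w g j).hom_ext
    · rw [Category.assoc, IsPullback.isoIsPullback_hom_fst, Category.assoc,
        (cechHom w g).naturality f, IsPullback.isoIsPullback_hom_fst_assoc]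
      exact p₁.naturality f
    · have e1 := IsPullback.isoIsPullback_hom_snd _ _ (hp j) (isPullback_cechHom_all w g j)
      have e2 := IsPullback.isoIsPullback_hom_snd _ _ (hp i) (isPullback_cechHom_all w g i)
      have h1 : (FibDesc.cechAug (pullback.snd w g)).map f ≫
          aug (FibDesc.cechAug (pullback.snd w g)) j =
          aug (FibDesc.cechAug (pullback.snd w g)) i :=
        ((augNat (FibDesc.cechAug (pullback.snd w g))).naturality f).trans (Category.comp_id _)
      refine (Category.assoc _ _ _).trans ?_
      refine (congrArg (fun z => P.map f ≫ z) e1).trans ?_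
      refine ((p₂.naturality f).trans (Category.comp_id _)).trans ?_
      refine e2.symm.trans ?_
      refine (congrArg (fun z => _ ≫ z) h1.symm).trans ?_
      exact (Category.assoc _ _ _).symm)

end char

section grid

variable {A B : W' ⥤ TopCat.{u}} {S : TopCat.{u}} (a : A ⟶ (Functor.const W').obj S)
  (b : B ⟶ (Functor.const W').obj S)

lemma nat_app {A : W' ⥤ TopCat.{u}} {S : TopCat.{u}} (a : A ⟶ (Functor.const W').obj S)
    {i j : W'} (f : i ⟶ j) : A.map f ≫ a.app j = a.app i :=
  (a.naturality f).trans (Category.comp_id _)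

/-- the doubly augmented bisimplicial space of fibre products of two augmented simplicial spaces
over the same base -/
def Q₂ : WW ⥤ TopCat.{u} where
  obj x := pullback (a.app x.1) (b.app x.2)
  map {x y} f := pullback.map (a.app x.1) (b.app x.2) (a.app y.1) (b.app y.2) (A.map f.1)
    (B.map f.2) (𝟙 S) ((Category.comp_id _).trans (nat_app a f.1).symm)
    ((Category.comp_id _).trans (nat_app b f.2).symm)
  map_id x := by
    apply pullback.hom_ext
    · simp
    · simp
  map_comp f g := by
    apply pullback.hom_ext
    · simp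
    · simp

lemma Q₂_map_fst {x y : WW} (f : x ⟶ y) :
    (Q₂ a b).map f ≫ pullback.fst (a.app y.1) (b.app y.2) =
      pullback.fst (a.app x.1) (b.app x.2) ≫ A.map f.1 :=
  pullback.lift_fst _ _ _

lemma Q₂_map_snd {x y : WW} (f : x ⟶ y) :
    (Q₂ a b).map f ≫ pullback.snd (a.app y.1) (b.app y.2) =
      pullback.snd (a.app x.1) (b.app x.2) ≫ B.map f.2 :=
  pullback.lift_snd _ _ _

/-- the projection of a row to the second factor -/
def rowSnd (i : W') : rowL i ⋙ Q₂ a b ⟶ B where
  app j := pullback.snd (a.app i) (b.app j)
  naturality j j' f := Q₂_map_snd a b ((rowL i).map f)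

/-- the projection of a row to the first factor -/
def rowFst (i : W') : rowL i ⋙ Q₂ a b ⟶ (Functor.const W').obj (A.obj i) where
  app j := pullback.fst (a.app i) (b.app j)
  naturality j j' f := (Q₂_map_fst a b ((rowL i).map f)).trans
    (congrArg (fun z => pullback.fst (a.app i) (b.app j) ≫ z) (A.map_id i))

/-- the projection of a column to the first factor -/
def colFst (j : W') : colL j ⋙ Q₂ a b ⟶ A where
  app i := pullback.fst (a.app i) (b.app j)
  naturality i i' f := Q₂_map_fst a b ((colL j).map f)

/-- the projection of a column to the second factor -/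
def colSnd (j : W') : colL j ⋙ Q₂ a b ⟶ (Functor.const W').obj (B.obj j) where
  app i := pullback.snd (a.app i) (b.app j)
  naturality i i' f := (Q₂_map_snd a b ((colL j).map f)).trans
    (congrArg (fun z => pullback.snd (a.app i) (b.app j) ≫ z) (B.map_id j))

end grid

section cech

variable {X Y S : TopCat.{u}} (u : X ⟶ S) (v : Y ⟶ S)

/-- the augmentation of the Čech nerve -/
abbrev aU : FibDesc.cechAug u ⟶ (Functor.const W').obj S := augNat (FibDesc.cechAug u)

/-- the doubly augmented bisimplicial space of two maps to the same space -/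
abbrev QQ : WW ⥤ TopCat.{u} := Q₂ (aU u) (aU v)

/-- the rows are the Čech nerves of the base changes of the second map -/
def rowIso (i : W') : rowL i ⋙ QQ u v ≅ FibDesc.cechAug (pullback.snd v ((aU u).app i)) :=
  cechBCIso v ((aU u).app i) _ (rowSnd (aU u) (aU v) i) (rowFst (aU u) (aU v) i)
    (fun j => (IsPullback.of_hasPullback ((aU u).app i) ((aU v).app j)).flip)

/-- the columns are the Čech nerves of the base changes of the first map -/
def colIso (j : W') : colL j ⋙ QQ u v ≅ FibDesc.cechAug (pullback.snd u ((aU v).app j)) :=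
  cechBCIso u ((aU v).app j) _ (colFst (aU u) (aU v) j) (colSnd (aU u) (aU v) j)
    (fun i => IsPullback.of_hasPullback ((aU u).app i) ((aU v).app j))

/-- comparison of the cohomological descent of the Čech nerves of two maps -/
theorem isCohDescentMap_of_cech (hv : FibDesc.IsUnivCohDescentMap v)
    (h : ∀ n : SimplexCategoryᵒᵖ,
      FibDesc.IsCohDescentMap (pullback.snd u ((aU v).app (tA n)))) :
    FibDesc.IsCohDescentMap u := by
  have hrow : ∀ i : W', FibDesc.IsCohDescentTop (YL (QQ u v) (rowL i)) := fun i =>
    isCohDescentTop_of_iso (rowIso u v i).symm (hv _ _)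
  have hcol : ∀ n : SimplexCategoryᵒᵖ, FibDesc.IsCohDescentTop (YL (QQ u v) (colL (tA n))) :=
    fun n => isCohDescentTop_of_iso (colIso u v (tA n)).symm (h n)
  have hmain := isCohDescentTop_colL_bot (QQ u v) (fun m => hrow _) hcol (hrow _)
  have hbot : (aU v).app (FibDesc.bot SimplexCategory) = 𝟙 _ := DC6.aug_bot (FibDesc.cechAug v)
  haveI : IsIso ((aU v).app (FibDesc.bot SimplexCategory)) := by
    rw [hbot]
    infer_instance
  haveI : ∀ i, IsIso ((colFst (aU u) (aU v) (FibDesc.bot SimplexCategory)).app i) := fun i => by
    change IsIso (pullback.fst ((aU u).app i) ((aU v).app (FibDesc.bot SimplexCategory)))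
    infer_instance
  haveI := NatIso.isIso_of_isIso_app (colFst (aU u) (aU v) (FibDesc.bot SimplexCategory))
  exact isCohDescentTop_of_iso (asIso (colFst (aU u) (aU v) (FibDesc.bot SimplexCategory))) hmain

end cech

end

end Groth.Agent.Helper3.DC26
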