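import Mathlib
import Groth.Prelude.Def_FibDesc
import Groth.Agent.Lib.Helper3.DC9
import Groth.Agent.Lib.Helper3.DC26

/-!
# Maps universally of cohomological descent: base change, composition, products
-/

set_option autoImplicit false
set_option backward.isDefEq.respectTransparency false
open CategoryTheory Limits Opposite TopologicalSpace Simplicial Topology

universe u
namespace Groth.Agent.Helper3.DC27

open DC2 DC5 DC12 DC13 DC18 DC22 DC23 DC25 DC26

noncomputable section

section square

variable {P X T S : TopCat.{u}} {fst : P ⟶ X} {snd : P ⟶ T} {f : X ⟶ S} {k : T ⟶ S}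

/-- the morphism of arrows of a commutative square -/
def sqArrowHom (w : fst ≫ f = snd ≫ k) : Arrow.mk snd ⟶ Arrow.mk f := Arrow.homMk fst k w

/-- the induced morphism of augmented Čech nerves -/
def cechHomSq (w : fst ≫ f = snd ≫ k) : FibDesc.cechAug snd ⟶ FibDesc.cechAug f :=
  AugmentedSimplexCategory.equivAugmentedSimplicialObject.inverse.map
    (Arrow.mapAugmentedCechNerve (sqArrowHom w))

lemma isPullback_cechHomSq (sq : IsPullback fst snd f k) (i : W') :
    IsPullback ((cechHomSq sq.w).app i) (aug (FibDesc.cechAug snd) i)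
      (aug (FibDesc.cechAug f) i) k := by
  obtain ⟨i⟩ := i
  cases i with
  | of n => exact isPullback_mapCechNerve (sqArrowHom sq.w) sq (op n)
  | star =>
    have h1 : aug (FibDesc.cechAug snd) (FibDesc.bot SimplexCategory) = 𝟙 _ :=
      DC6.aug_bot (FibDesc.cechAug snd)
    have h2 : aug (FibDesc.cechAug f) (FibDesc.bot SimplexCategory) = 𝟙 _ :=
      DC6.aug_bot (FibDesc.cechAug f)
    change IsPullback k (aug (FibDesc.cechAug snd) (FibDesc.bot SimplexCategory))
      (aug (FibDesc.cechAug f) (FibDesc.bot SimplexCategory)) k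
    rw [h1, h2]
    exact IsPullback.id_vert k

/-- the Čech nerve of a base change, for an arbitrary pullback square -/
def cechSqIso (sq : IsPullback fst snd f k) :
    FibDesc.cechAug snd ≅ FibDesc.cechAug (pullback.snd f k) :=
  cechBCIso f k (FibDesc.cechAug snd) (cechHomSq sq.w) (augNat (FibDesc.cechAug snd))
    (fun i => isPullback_cechHomSq sq i)

theorem isCohDescentMap_iff_of_isPullback (sq : IsPullback fst snd f k) :
    FibDesc.IsCohDescentMap snd ↔ FibDesc.IsCohDescentMap (pullback.snd f k) :=
  ⟨fun h => isCohDescentTop_of_iso (cechSqIso sq) h,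
    fun h => isCohDescentTop_of_iso (cechSqIso sq).symm h⟩

theorem isUnivCohDescentMap_of_isPullback (hf : FibDesc.IsUnivCohDescentMap f)
    (sq : IsPullback fst snd f k) : FibDesc.IsUnivCohDescentMap snd := by
  intro T' h
  have sq' : IsPullback (pullback.fst snd h ≫ fst) (pullback.snd snd h) f (h ≫ k) :=
    (IsPullback.of_hasPullback snd h).paste_horiz sq
  exact (isCohDescentMap_iff_of_isPullback sq').2 (hf _ (h ≫ k))

end square

theorem isCohDescentMap_of_univ {X S : TopCat.{u}} {f : X ⟶ S}
    (hf : FibDesc.IsUnivCohDescentMap f) : FibDesc.IsCohDescentMap f :=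
  (isCohDescentMap_iff_of_isPullback (IsPullback.id_horiz f)).2 (hf S (𝟙 S))

/-- a map is universally of cohomological descent as soon as its base change along a map
universally of cohomological descent is -/
theorem isUnivCohDescentMap_of_baseChange {X S S' : TopCat.{u}} (f : X ⟶ S) (g : S' ⟶ S)
    (hg : FibDesc.IsUnivCohDescentMap g)
    (hf' : FibDesc.IsUnivCohDescentMap (pullback.snd f g)) : FibDesc.IsUnivCohDescentMap f := by
  intro T k
  have hgT : FibDesc.IsUnivCohDescentMap (pullback.snd g k) :=
    isUnivCohDescentMap_of_isPullback hg (IsPullback.of_hasPullback g k)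
  refine isCohDescentMap_of_cech (pullback.snd f k) (pullback.snd g k) hgT (fun n => ?_)
  let π0 : (FibDesc.cechAug (pullback.snd g k)).obj (tA n) ⟶ pullback g k :=
    WidePullback.π (fun _ : Fin (n.unop.len + 1) => (Arrow.mk (pullback.snd g k)).hom) 0
  have hπ0 : π0 ≫ pullback.snd g k = (aU (pullback.snd g k)).app (tA n) :=
    WidePullback.π_arrow (fun _ : Fin (n.unop.len + 1) => (Arrow.mk (pullback.snd g k)).hom) 0
  let c : (FibDesc.cechAug (pullback.snd g k)).obj (tA n) ⟶ S' := π0 ≫ pullback.fst g k
  have hc : c ≫ g = (aU (pullback.snd g k)).app (tA n) ≫ k := by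
    rw [← hπ0, Category.assoc, Category.assoc, pullback.condition]
  have sq1 : IsPullback
      (pullback.fst (pullback.snd f k) ((aU (pullback.snd g k)).app (tA n)) ≫ pullback.fst f k)
      (pullback.snd (pullback.snd f k) ((aU (pullback.snd g k)).app (tA n))) f
      ((aU (pullback.snd g k)).app (tA n) ≫ k) :=
    (IsPullback.of_hasPullback _ _).paste_horiz (IsPullback.of_hasPullback f k)
  have sq2 : IsPullback (pullback.fst (pullback.snd f g) c ≫ pullback.fst f g)
      (pullback.snd (pullback.snd f g) c) f (c ≫ g) :=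
    (IsPullback.of_hasPullback _ _).paste_horiz (IsPullback.of_hasPullback f g)
  rw [hc] at sq2
  exact (isCohDescentMap_iff_of_isPullback sq1).2
    ((isCohDescentMap_iff_of_isPullback sq2).1 (hf' _ c))

/-- base change along a map universally of cohomological descent detects maps universally of
cohomological descent -/
theorem isUnivCohDescentMap_iff_baseChange {X S S' : TopCat.{u}} (f : X ⟶ S) (g : S' ⟶ S)
    (hg : FibDesc.IsUnivCohDescentMap g) :
    FibDesc.IsUnivCohDescentMap f ↔ FibDesc.IsUnivCohDescentMap (pullback.snd f g) :=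
  ⟨fun hf => isUnivCohDescentMap_of_isPullback hf (IsPullback.of_hasPullback f g),
    isUnivCohDescentMap_of_baseChange f g hg⟩

/-- if a composite is universally of cohomological descent, so is its second factor -/
theorem isUnivCohDescentMap_of_comp {X Y S : TopCat.{u}} (f : X ⟶ Y) (g : Y ⟶ S)
    (h : FibDesc.IsUnivCohDescentMap (f ≫ g)) : FibDesc.IsUnivCohDescentMap g := by
  refine isUnivCohDescentMap_of_baseChange g (f ≫ g) h ?_
  exact DC9.isUnivCohDescentMap_of_section _
    (pullback.lift f (𝟙 X) (by rw [Category.id_comp])) (pullback.lift_snd _ _ _)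

/-- the composite of two maps universally of cohomological descent is of cohomological descent -/
theorem isCohDescentMap_comp {X Y S : TopCat.{u}} (f : X ⟶ Y) (g : Y ⟶ S)
    (hf : FibDesc.IsUnivCohDescentMap f) (hg : FibDesc.IsUnivCohDescentMap g) :
    FibDesc.IsCohDescentMap (f ≫ g) := by
  refine isCohDescentMap_of_cech (f ≫ g) g hg (fun n => ?_)
  let π0 : (FibDesc.cechAug g).obj (tA n) ⟶ Y :=
    WidePullback.π (fun _ : Fin (n.unop.len + 1) => (Arrow.mk g).hom) 0
  have hπ0 : π0 ≫ g = (aU g).app (tA n) :=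
    WidePullback.π_arrow (fun _ : Fin (n.unop.len + 1) => (Arrow.mk g).hom) 0
  let t : pullback f π0 ⟶ pullback (f ≫ g) ((aU g).app (tA n)) :=
    pullback.lift (pullback.fst f π0) (pullback.snd f π0) (by
      rw [← hπ0, ← Category.assoc, pullback.condition, Category.assoc])
  have ht : t ≫ pullback.snd (f ≫ g) ((aU g).app (tA n)) = pullback.snd f π0 :=
    pullback.lift_snd _ _ _
  have h1 : FibDesc.IsUnivCohDescentMap (t ≫ pullback.snd (f ≫ g) ((aU g).app (tA n))) := by
    rw [ht]
    exact isUnivCohDescentMap_of_isPullback hf (IsPullback.of_hasPullback f π0)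
  exact isCohDescentMap_of_univ (isUnivCohDescentMap_of_comp _ _ h1)

/-- the composite of two maps universally of cohomological descent is universally of cohomological
descent -/
theorem isUnivCohDescentMap_comp {X Y S : TopCat.{u}} (f : X ⟶ Y) (g : Y ⟶ S)
    (hf : FibDesc.IsUnivCohDescentMap f) (hg : FibDesc.IsUnivCohDescentMap g) :
    FibDesc.IsUnivCohDescentMap (f ≫ g) := by
  intro T k
  have hgT : FibDesc.IsUnivCohDescentMap (pullback.snd g k) :=
    isUnivCohDescentMap_of_isPullback hg (IsPullback.of_hasPullback g k)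
  have hfT : FibDesc.IsUnivCohDescentMap (pullback.snd f (pullback.fst g k)) :=
    isUnivCohDescentMap_of_isPullback hf (IsPullback.of_hasPullback f (pullback.fst g k))
  have sq : IsPullback (pullback.fst f (pullback.fst g k))
      (pullback.snd f (pullback.fst g k) ≫ pullback.snd g k) (f ≫ g) k :=
    (IsPullback.of_hasPullback f (pullback.fst g k)).paste_vert (IsPullback.of_hasPullback g k)
  exact (isCohDescentMap_iff_of_isPullback sq).1 (isCohDescentMap_comp _ _ hfT hgT)

/-- fibre products of maps universally of cohomological descent -/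
theorem isUnivCohDescentMap_pullbackMap {X X' Y Y' S : TopCat.{u}} (pX : X' ⟶ S) (pY : Y' ⟶ S)
    (f : X ⟶ X') (g : Y ⟶ Y') (hf : FibDesc.IsUnivCohDescentMap f)
    (hg : FibDesc.IsUnivCohDescentMap g) :
    FibDesc.IsUnivCohDescentMap
      (pullback.map (f ≫ pX) (g ≫ pY) pX pY f g (𝟙 S) (Category.comp_id _)
        (Category.comp_id _)) := by
  let m₁ : pullback (f ≫ pX) (g ≫ pY) ⟶ pullback (f ≫ pX) pY :=
    pullback.map (f ≫ pX) (g ≫ pY) (f ≫ pX) pY (𝟙 X) g (𝟙 S)
      ((Category.comp_id _).trans (Category.id_comp _).symm) (Category.comp_id _)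
  let m₂ : pullback (f ≫ pX) pY ⟶ pullback pX pY :=
    pullback.map (f ≫ pX) pY pX pY f (𝟙 Y') (𝟙 S) (Category.comp_id _)
      ((Category.comp_id _).trans (Category.id_comp _).symm)
  have h1f : m₁ ≫ pullback.fst (f ≫ pX) pY = pullback.fst (f ≫ pX) (g ≫ pY) :=
    (pullback.lift_fst _ _ _).trans (Category.comp_id _)
  have h1s : m₁ ≫ pullback.snd (f ≫ pX) pY = pullback.snd (f ≫ pX) (g ≫ pY) ≫ g :=
    pullback.lift_snd _ _ _
  have h2f : m₂ ≫ pullback.fst pX pY = pullback.fst (f ≫ pX) pY ≫ f :=
    pullback.lift_fst _ _ _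
  have h2s : m₂ ≫ pullback.snd pX pY = pullback.snd (f ≫ pX) pY :=
    (pullback.lift_snd _ _ _).trans (Category.comp_id _)
  have hm : pullback.map (f ≫ pX) (g ≫ pY) pX pY f g (𝟙 S) (Category.comp_id _)
      (Category.comp_id _) = m₁ ≫ m₂ := by
    apply pullback.hom_ext
    · rw [pullback.lift_fst, Category.assoc, h2f, ← Category.assoc, h1f]
    · rw [pullback.lift_snd, Category.assoc, h2s, h1s]
  have sq2 : IsPullback (pullback.fst (f ≫ pX) pY) m₂ f (pullback.fst pX pY) := by
    refine IsPullback.of_bot ?_ h2f.symm (IsPullback.of_hasPullback pX pY)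
    rw [h2s]
    exact IsPullback.of_hasPullback (f ≫ pX) pY
  have sq1 : IsPullback (pullback.snd (f ≫ pX) (g ≫ pY)) m₁ g (pullback.snd (f ≫ pX) pY) := by
    refine IsPullback.of_bot ?_ h1s.symm (IsPullback.of_hasPullback (f ≫ pX) pY).flip
    rw [h1f]
    exact (IsPullback.of_hasPullback (f ≫ pX) (g ≫ pY)).flip
  rw [hm]
  exact isUnivCohDescentMap_comp m₁ m₂ (isUnivCohDescentMap_of_isPullback hg sq1)
    (isUnivCohDescentMap_of_isPullback hf sq2)

end

end Groth.Agent.Helper3.DC27
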