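import Mathlib
import Groth.Prelude

/-!
# A separatedness criterion used for derived complete modules (helper3)

Let `B` be a flat Noetherian `A`-algebra, `π : M → Q` a surjection of `A`-modules onto a finite
`B`-module whose kernel lies in `⋂ I^k M`.  Then `ker π = I • ker π`.
-/

universe u

namespace Groth.Agent.Helper3.DCompFin

open Submodule

section helper
variable {A : Type*} [CommRing A] {X : Type*} [AddCommGroup X] [Module A X]

/-- elements of `(f_1,…,f_s) P` are combinations `Σ f_t p_t` with `p_t ∈ P` -/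
lemma exists_sum_of_mem_span_smul {s : ℕ} (f : Fin s → A) (P : Submodule A X) {x : X}
    (hx : x ∈ Ideal.span (Set.range f) • P) :
    ∃ p : Fin s → X, (∀ t, p t ∈ P) ∧ x = ∑ t, f t • p t := by
  induction hx using Submodule.smul_induction_on' with
  | smul a ha y hy =>
    obtain ⟨c, hc⟩ := Ideal.mem_span_range_iff_exists_fun.mp ha
    refine ⟨fun t => c t • y, fun t => P.smul_mem _ hy, ?_⟩
    rw [← hc, Finset.sum_smul]
    refine Finset.sum_congr rfl fun t _ => ?_
    rw [smul_smul, mul_comm]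
  | add y₁ h₁ y₂ h₂ ih₁ ih₂ =>
    obtain ⟨p₁, hp₁, e₁⟩ := ih₁
    obtain ⟨p₂, hp₂, e₂⟩ := ih₂
    refine ⟨p₁ + p₂, fun t => P.add_mem (hp₁ t) (hp₂ t), ?_⟩
    rw [e₁, e₂, ← Finset.sum_add_distrib]
    refine Finset.sum_congr rfl fun t _ => ?_
    rw [Pi.add_apply, smul_add]

variable {B : Type*} [CommRing B] [Algebra A B] [Module B X] [IsScalarTower A B X]

lemma mem_smul_restrictScalars_of_mem_map_smul (I : Ideal A) (R' : Submodule B X) {x : X}
    (hx : x ∈ I.map (algebraMap A B) • R') : x ∈ I • (R'.restrictScalars A) := by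
  refine Submodule.smul_induction_on hx ?_ (fun _ _ h h' => add_mem h h')
  intro j hj
  refine Submodule.span_induction (p := fun j _ => ∀ r ∈ R', j • r ∈ I • (R'.restrictScalars A))
    ?_ ?_ ?_ ?_ hj
  · rintro _ ⟨a, ha, rfl⟩ r hr
    rw [algebraMap_smul]
    exact Submodule.smul_mem_smul ha hr
  · intro r _
    rw [zero_smul]
    exact zero_mem _
  · intro j₁ j₂ _ _ h₁ h₂ r hr
    rw [add_smul]
    exact add_mem (h₁ r hr) (h₂ r hr)
  · intro b j' _ h r hr
    rw [smul_eq_mul, mul_comm, mul_smul]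
    exact h _ (R'.smul_mem b hr)

lemma mem_map_pow_smul_top (I : Ideal A) (n : ℕ) {x : X}
    (hx : x ∈ I ^ n • (⊤ : Submodule A X)) :
    x ∈ (I.map (algebraMap A B)) ^ n • (⊤ : Submodule B X) := by
  refine Submodule.smul_induction_on hx (fun a ha g _ => ?_) (fun _ _ h h' => add_mem h h')
  rw [← algebraMap_smul B a g]
  refine Submodule.smul_mem_smul ?_ mem_top
  rw [← Ideal.map_pow]
  exact Ideal.mem_map_of_mem _ ha

end helper

theorem ker_le_smul_ker {A : Type*} [CommRing A] (I : Ideal A) (hI : I.FG)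
    {B : Type*} [CommRing B] [Algebra A B] [IsNoetherianRing B] [Module.Flat A B]
    {M : Type*} [AddCommGroup M] [Module A M]
    {Q : Type*} [AddCommGroup Q] [Module A Q] [Module B Q] [IsScalarTower A B Q]
    [Module.Finite B Q]
    (π : M →ₗ[A] Q) (hπ : Function.Surjective π)
    (hN : ∀ k : ℕ, LinearMap.ker π ≤ I ^ k • (⊤ : Submodule A M)) :
    LinearMap.ker π ≤ I • LinearMap.ker π := by
  classical
  obtain ⟨k, q, hq⟩ := Module.Finite.exists_fin (R := B) (M := Q)
  let ψ : (Fin k →₀ B) →ₗ[B] Q := Finsupp.linearCombination B q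
  have hψ : Function.Surjective ψ := by
    rw [← LinearMap.range_eq_top, Finsupp.range_linearCombination, hq]
  haveI : Module.Flat A (Fin k →₀ B) := Module.Flat.trans A B (Fin k →₀ B)
  obtain ⟨c, hc⟩ := Ideal.exists_pow_inf_eq_pow_smul (I.map (algebraMap A B)) (LinearMap.ker ψ)
  have hAR : ∀ x : Fin k →₀ B, x ∈ I ^ (c + 1) • (⊤ : Submodule A (Fin k →₀ B)) → ψ x = 0 →
      x ∈ I • ((LinearMap.ker ψ).restrictScalars A) := by
    intro x hx hx0
    have h1 := mem_map_pow_smul_top (B := B) I (c + 1) hx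
    have h2 : x ∈ (I.map (algebraMap A B)) ^ (c + 1) • (⊤ : Submodule B (Fin k →₀ B)) ⊓
        LinearMap.ker ψ := ⟨h1, hx0⟩
    rw [hc (c + 1) (by omega), Nat.add_sub_cancel_left, pow_one] at h2
    exact mem_smul_restrictScalars_of_mem_map_smul I _
      (Submodule.smul_mono le_rfl inf_le_right h2)
  obtain ⟨s, f, hf⟩ : ∃ (s : ℕ) (f : Fin s → A), Ideal.span (Set.range f) = I :=
    Submodule.fg_iff_exists_fin_generating_family.mp hI
  intro n hn
  have hn' : n ∈ I • (I ^ c • (⊤ : Submodule A M)) := by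
    have := hN (c + 1) hn
    rwa [pow_succ', Submodule.mul_smul] at this
  have hn'' : n ∈ Ideal.span (Set.range f) • (I ^ c • (⊤ : Submodule A M)) := by
    rw [hf]
    exact hn'
  obtain ⟨w, hw, hnw⟩ := exists_sum_of_mem_span_smul f _ hn''
  have hu : ∀ t, ∃ u ∈ I ^ c • (⊤ : Submodule A (Fin k →₀ B)), ψ u = π (w t) := by
    intro t
    have h1 : π (w t) ∈ I ^ c • (⊤ : Submodule A Q) := by
      have : π (w t) ∈ (I ^ c • (⊤ : Submodule A M)).map π := ⟨w t, hw t, rfl⟩
      rw [Submodule.map_smul''] at this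
      exact Submodule.smul_mono le_rfl le_top this
    have h2 : (I ^ c • (⊤ : Submodule A (Fin k →₀ B))).map (ψ.restrictScalars A) =
        I ^ c • (⊤ : Submodule A Q) := by
      rw [Submodule.map_smul'', Submodule.map_top]
      congr 1
      rw [LinearMap.range_eq_top]
      exact hψ
    rw [← h2] at h1
    obtain ⟨u, hu, hu'⟩ := h1
    exact ⟨u, hu, hu'⟩
  choose u hu1 hu2 using hu
  have hfI : ∀ t, f t ∈ I := fun t => by
    rw [← hf]
    exact Ideal.subset_span ⟨t, rfl⟩
  have hψsum : ψ (∑ t, f t • u t) = 0 := by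
    rw [map_sum]
    have : ∀ t, ψ (f t • u t) = f t • π (w t) := fun t => by
      rw [LinearMap.map_smul_of_tower, hu2]
    simp only [this]
    rw [← Finset.sum_congr rfl (fun t _ => (map_smul π (f t) (w t)))]
    rw [← map_sum, ← hnw]
    exact hn
  have hΦ : ∑ t, f t • u t ∈ I • ((LinearMap.ker ψ).restrictScalars A) := by
    apply hAR _ _ hψsum
    rw [pow_succ', Submodule.mul_smul]
    exact Submodule.sum_mem _ fun t _ => Submodule.smul_mem_smul (hfI t) (hu1 t)
  have hΦ' : ∑ t, f t • u t ∈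
      Ideal.span (Set.range f) • ((LinearMap.ker ψ).restrictScalars A) := by
    rw [hf]
    exact hΦ
  obtain ⟨ρ, hρ, hΦρ⟩ := exists_sum_of_mem_span_smul f _ hΦ'
  have hv : ∑ t, f t • (u t - ρ t) = 0 := by
    simp only [smul_sub, Finset.sum_sub_distrib]
    rw [hΦρ, sub_self]
  obtain ⟨κ, a, y, hy1, hy2⟩ :=
    Module.Flat.isTrivialRelation_of_sum_smul_eq_zero (R := A) (M := Fin k →₀ B) hv
  choose y' hy' using fun j => hπ (ψ (y j))
  have hw' : ∀ t, w t - ∑ j, a t j • y' j ∈ LinearMap.ker π := by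
    intro t
    rw [LinearMap.mem_ker, map_sub, map_sum]
    have e1 : ∀ j, π (a t j • y' j) = ψ (a t j • y j) := fun j => by
      rw [map_smul, hy', LinearMap.map_smul_of_tower]
    simp only [e1]
    rw [← map_sum, ← hy1 t, ← hu2 t, ← map_sub]
    have : u t - (u t - ρ t) = ρ t := by abel
    rw [this]
    exact hρ t
  have hfinal : n = ∑ t, f t • (w t - ∑ j, a t j • y' j) := by
    simp only [smul_sub, Finset.sum_sub_distrib]
    rw [← hnw]
    have : ∑ t, f t • ∑ j, a t j • y' j = 0 := by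
      simp only [Finset.smul_sum, smul_smul]
      rw [Finset.sum_comm]
      refine Finset.sum_eq_zero fun j _ => ?_
      rw [← Finset.sum_smul, hy2 j, zero_smul]
    rw [this, sub_zero]
  rw [hfinal]
  exact Submodule.sum_mem _ fun t _ => Submodule.smul_mem_smul (hfI t) (hw' t)

end Groth.Agent.Helper3.DCompFin
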