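import Mathlib
import Groth.Prelude
import Groth.Agent.Lib.Helper2.CompleteNoeth
import Groth.Agent.Lib.Helper3.DCompFin1
import Groth.Agent.S7048
import Groth.Agent.S7049
import Groth.Agent.S7051
import Groth.Agent.S7053

/-!
# Derived complete modules with `M/IM` finite over a Noetherian ring (helper3)
-/

universe u

attribute [local instance] HasDerivedCategory.standard

namespace Groth.Agent.Helper3.DCompFin

open Submodule

section fin
variable {A : Type u} [CommRing A] (I : Ideal A) (M : Type u) [AddCommGroup M] [Module A M]

/-- if `M/IM` is finite then the completion of `M` is finite over the completion of `A` -/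
theorem finite_adicCompletion (hf : Module.Finite A (M ⧸ I • (⊤ : Submodule A M))) :
    Module.Finite (AdicCompletion I A) (AdicCompletion I M) := by
  classical
  obtain ⟨n, s, hs⟩ := Module.Finite.exists_fin (R := A) (M := M ⧸ I • (⊤ : Submodule A M))
  choose x hx using fun i => Submodule.mkQ_surjective (I • (⊤ : Submodule A M)) (s i)
  let f : (Fin n → A) →ₗ[A] M := Fintype.linearCombination A x
  have hsurj : Function.Surjective (Submodule.mkQ (I • (⊤ : Submodule A M)) ∘ₗ f) := by
    rw [← LinearMap.range_eq_top, LinearMap.range_comp, Fintype.range_linearCombination,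
      Submodule.map_span, ← Set.range_comp]
    have : (Submodule.mkQ (I • (⊤ : Submodule A M))) ∘ x = s := funext hx
    rw [this, hs]
  have h2 := AdicCompletion.map_surjective_of_mkQ_comp_surjective (I := I) hsurj
  haveI : Module.Finite (AdicCompletion I A) (AdicCompletion I (Fin n → A)) :=
    Module.Finite.equiv (AdicCompletion.piEquivFin I n).symm
  exact Module.Finite.of_surjective (AdicCompletion.map I f) h2

lemma ker_of_le (k : ℕ) :
    LinearMap.ker (AdicCompletion.of I M) ≤ I ^ k • (⊤ : Submodule A M) := by
  intro x hx
  have h := congrArg (fun z => AdicCompletion.eval I M k z) (LinearMap.mem_ker.mp hx)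
  simp only [AdicCompletion.eval_of, map_zero] at h
  exact (Submodule.Quotient.mk_eq_zero _).mp h

end fin

theorem main {A : Type u} [CommRing A] [IsNoetherianRing A] (I : Ideal A) (M : Type u)
    [AddCommGroup M] [Module A M]
    (hc : DRing.IsDerivedComplete I (Dual.inD A M))
    (hf : Module.Finite A (M ⧸ I • (⊤ : Submodule A M))) :
    IsAdicComplete I M ∧ Module.Finite (AdicCompletion I A) (AdicCompletion I M) := by
  have hI : I.FG := IsNoetherian.noetherian I
  haveI hfin : Module.Finite (AdicCompletion I A) (AdicCompletion I M) :=
    finite_adicCompletion I M hf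
  refine ⟨?_, hfin⟩
  haveI : IsNoetherianRing (AdicCompletion I A) :=
    Groth.Agent.Helper2.CompleteNoeth.isNoetherianRing_adicCompletion A I hI
  haveI : IsAdicComplete I (AdicCompletion I M) := AdicCompletion.isAdicComplete hI
  have hcM : DRing.IsDerivedComplete I (Dual.inD A (AdicCompletion I M)) :=
    Groth.Agent.S7048.result I (AdicCompletion I M)
  have hsurj : Function.Surjective (AdicCompletion.of I M) := Groth.Agent.S7049.result I hI M hc
  have hcN : DRing.IsDerivedComplete I (Dual.inD A (LinearMap.ker (AdicCompletion.of I M))) :=
    (Groth.Agent.S7051.result I M (AdicCompletion I M) (AdicCompletion.of I M) hc hcM).1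
  have hle : LinearMap.ker (AdicCompletion.of I M) ≤ I • LinearMap.ker (AdicCompletion.of I M) :=
    ker_le_smul_ker I hI (B := AdicCompletion I A) (AdicCompletion.of I M) hsurj (ker_of_le I M)
  have htop : I • (⊤ : Submodule A (LinearMap.ker (AdicCompletion.of I M))) = ⊤ := by
    rw [eq_top_iff]
    rintro ⟨n, hn⟩ -
    have h1 : n ∈ (I • (⊤ : Submodule A (LinearMap.ker (AdicCompletion.of I M)))).map
        (LinearMap.ker (AdicCompletion.of I M)).subtype := by
      rw [Submodule.map_smul'', Submodule.map_top, Submodule.range_subtype]
      exact hle hn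
    obtain ⟨n', hn', e⟩ := h1
    have : n' = ⟨n, hn⟩ := Subtype.ext e
    rwa [this] at hn'
  haveI hsub : Subsingleton (LinearMap.ker (AdicCompletion.of I M)) :=
    Groth.Agent.S7053.result I hI _ hcN htop
  have hinj : Function.Injective (AdicCompletion.of I M) := by
    rw [← LinearMap.ker_eq_bot]
    exact Submodule.eq_bot_of_subsingleton
  exact (AdicCompletion.of_bijective_iff).mp ⟨hinj, hsurj⟩

end Groth.Agent.Helper3.DCompFin
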