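import Mathlib
import Groth.Prelude.Def_DRing4
import Groth.Agent.Lib.Helper5.DTenLib.Basic
import Groth.Agent.Lib.Helper5.KFlat.Bdd

/-!
# The one-variable derived tensor product `- ⊗^L E` with a complex `E`

Values on K-projective complexes, and the terms of the tensor product of two
bounded above complexes.
-/

set_option autoImplicit false
universe u
open CategoryTheory CategoryTheory.Limits MonoidalCategory
attribute [local instance] HasDerivedCategory.standard

namespace Groth.Agent.Helper3.LTenCx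

open Groth.Agent.Lib.Helper5.KProj Groth.Agent.Lib.Helper5.KFlat Groth.Agent.Lib.Helper5.DTenLib

section DirectSum

open DirectSum

variable {R : Type u} [CommRing R] {ι : Type} (Z : ι → ModuleCat.{u} R)

lemma finite_directSum [DecidableEq ι] (S : Finset ι) (hS : ∀ i, i ∉ S → Subsingleton (Z i))
    (hfin : ∀ i, Module.Finite R (Z i)) : Module.Finite R (⨁ i, Z i) := by
  constructor
  have h1 : (⊤ : Submodule R (⨁ i, Z i)) =
      ⨆ i ∈ S, LinearMap.range (DirectSum.lof R ι (fun i => Z i) i) := by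
    apply le_antisymm
    · have h2 : (⊤ : Submodule R (⨁ i, Z i)) =
          ⨆ i, LinearMap.range (DirectSum.lof R ι (fun i => Z i) i) :=
        (DFinsupp.iSup_range_lsingle (R := R) (M := fun i => Z i)).symm
      rw [h2]
      refine iSup_le fun i => ?_
      by_cases hi : i ∈ S
      · exact le_biSup (fun i => LinearMap.range (DirectSum.lof R ι (fun i => Z i) i)) hi
      · haveI := hS i hi
        rintro x ⟨y, rfl⟩
        rw [Subsingleton.elim y 0, map_zero]
        exact Submodule.zero_mem _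
    · exact le_top
  rw [h1]
  refine Submodule.fg_biSup S _ fun i _ => ?_
  rw [LinearMap.range_eq_map]
  exact ((hfin i).fg_top).map _

end DirectSum

section Coprod

variable {R : Type u} [CommRing R] {ι : Type} (Z : ι → ModuleCat.{u} R) [HasCoproduct Z]

lemma finite_coprod (S : Finset ι) (hS : ∀ i, i ∉ S → IsZero (Z i))
    (hfin : ∀ i, Module.Finite R (Z i)) : Module.Finite R (∐ Z : ModuleCat.{u} R) := by
  classical
  haveI := finite_directSum Z S (fun i hi => ModuleCat.subsingleton_of_isZero (hS i hi)) hfin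
  exact Module.Finite.equiv (ModuleCat.coprodIsoDirectSum Z).toLinearEquiv.symm

lemma projective_coprod (hproj : ∀ i, Module.Projective R (Z i)) :
    Module.Projective R (∐ Z : ModuleCat.{u} R) := by
  classical
  exact Module.Projective.of_equiv (ModuleCat.coprodIsoDirectSum Z).toLinearEquiv.symm

lemma free_coprod (hfree : ∀ i, Module.Free R (Z i)) :
    Module.Free R (∐ Z : ModuleCat.{u} R) := by
  classical
  exact Module.Free.of_equiv (ModuleCat.coprodIsoDirectSum Z).toLinearEquiv.symm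

lemma isZero_coprod (h : ∀ i, IsZero (Z i)) : IsZero (∐ Z : ModuleCat.{u} R) := by
  rw [IsZero.iff_id_eq_zero]
  apply Sigma.hom_ext
  intro i
  exact (h i).eq_of_src _ _

end Coprod

section Terms

variable {A : Type u} [CommRing A] (P P' : DRing.Cx A)

/-- the total-degree map on pairs of integers -/
abbrev π' : ℤ × ℤ → ℤ :=
  ComplexShape.π (ComplexShape.up ℤ) (ComplexShape.up ℤ) (ComplexShape.up ℤ)

/-- the summands of `(P ⊗ P').X n` -/
noncomputable abbrev fam (n : ℤ) : (π' ⁻¹' {n}) → ModuleCat.{u} A :=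
  fun i => (P.X i.1.1 ⊗ P'.X i.1.2 : ModuleCat.{u} A)

lemma tensor_X_eq (n : ℤ) : (P ⊗ P').X n = ∐ (fam P P' n) := rfl

lemma isZero_tensor_left {M N : ModuleCat.{u} A} (h : IsZero M) : IsZero (M ⊗ N : ModuleCat.{u} A) :=
  Functor.map_isZero (tensorRight N) h

lemma isZero_tensor_right {M N : ModuleCat.{u} A} (h : IsZero N) : IsZero (M ⊗ N : ModuleCat.{u} A) :=
  Functor.map_isZero (tensorLeft M) h

variable {P P'}

lemma isZero_fam_of_bounds (b b' : ℤ) (hb : ∀ i, b < i → IsZero (P.X i))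
    (hb' : ∀ i, b' < i → IsZero (P'.X i)) (n : ℤ) (i : π' ⁻¹' {n})
    (hi : b < i.1.1 ∨ b' < i.1.2) : IsZero (fam P P' n i) := by
  rcases hi with hi | hi
  · exact isZero_tensor_left (hb _ hi)
  · exact isZero_tensor_right (hb' _ hi)

theorem isZero_tensor_X_above (b b' : ℤ) (hb : ∀ i, b < i → IsZero (P.X i))
    (hb' : ∀ i, b' < i → IsZero (P'.X i)) (n : ℤ) (hn : b + b' < n) :
    IsZero ((P ⊗ P').X n) := by
  rw [tensor_X_eq]
  apply isZero_coprod
  rintro ⟨⟨i₁, i₂⟩, hi⟩
  have hi' : i₁ + i₂ = n := hi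
  apply isZero_fam_of_bounds b b' hb hb'
  dsimp only
  by_contra hcon
  push Not at hcon
  omega

theorem isZero_tensor_X_below (a a' : ℤ) (ha : ∀ i, i < a → IsZero (P.X i))
    (ha' : ∀ i, i < a' → IsZero (P'.X i)) (n : ℤ) (hn : n < a + a') :
    IsZero ((P ⊗ P').X n) := by
  rw [tensor_X_eq]
  apply isZero_coprod
  rintro ⟨⟨i₁, i₂⟩, hi⟩
  have hi' : i₁ + i₂ = n := hi
  by_cases h1 : i₁ < a
  · exact isZero_tensor_left (ha _ h1)
  · exact isZero_tensor_right (ha' _ (by dsimp only; omega))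

theorem finite_tensor_X (b b' : ℤ) (hb : ∀ i, b < i → IsZero (P.X i))
    (hb' : ∀ i, b' < i → IsZero (P'.X i)) (hfin : ∀ i, Module.Finite A (P.X i))
    (hfin' : ∀ i, Module.Finite A (P'.X i)) (n : ℤ) : Module.Finite A ((P ⊗ P').X n) := by
  classical
  rw [tensor_X_eq]
  refine finite_coprod (fam P P' n)
    (((Finset.Icc (n - b') b).image (fun i => (i, n - i))).subtype (fun x => x ∈ π' ⁻¹' {n}))
    ?_ ?_
  · rintro ⟨⟨i₁, i₂⟩, hi⟩ hnot
    have hi' : i₁ + i₂ = n := hi
    apply isZero_fam_of_bounds b b' hb hb'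
    dsimp only
    by_contra hcon
    push Not at hcon
    apply hnot
    rw [Finset.mem_subtype, Finset.mem_image]
    refine ⟨i₁, Finset.mem_Icc.2 ⟨by omega, hcon.1⟩, ?_⟩
    ext
    · rfl
    · dsimp only
      omega
  · rintro ⟨⟨i₁, i₂⟩, hi⟩
    haveI := hfin i₁
    haveI := hfin' i₂
    exact inferInstanceAs (Module.Finite A (TensorProduct A (P.X i₁) (P'.X i₂)))

theorem projective_tensor_X (hproj : ∀ i, Module.Projective A (P.X i))
    (hproj' : ∀ i, Module.Projective A (P'.X i)) (n : ℤ) :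
    Module.Projective A ((P ⊗ P').X n) := by
  rw [tensor_X_eq]
  refine projective_coprod (fam P P' n) ?_
  rintro ⟨⟨i₁, i₂⟩, hi⟩
  haveI := hproj i₁
  haveI := hproj' i₂
  exact inferInstanceAs (Module.Projective A (TensorProduct A (P.X i₁) (P'.X i₂)))

theorem free_tensor_X (hfree : ∀ i, Module.Free A (P.X i))
    (hfree' : ∀ i, Module.Free A (P'.X i)) (n : ℤ) :
    Module.Free A ((P ⊗ P').X n) := by
  rw [tensor_X_eq]
  refine free_coprod (fam P P' n) ?_
  rintro ⟨⟨i₁, i₂⟩, hi⟩
  haveI := hfree i₁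
  haveI := hfree' i₂
  exact inferInstanceAs (Module.Free A (TensorProduct A (P.X i₁) (P'.X i₂)))

end Terms

section Derived

variable {A : Type u} [CommRing A]

/-- quasi-isomorphisms of complexes -/
abbrev W : MorphismProperty (DRing.Cx A) :=
  HomologicalComplex.quasiIso (ModuleCat.{u} A) (ComplexShape.up ℤ)

theorem good (E P : DRing.Cx A) [P.IsKProjective] :
    PtKan.Good DerivedCategory.Q (DRing.tensorCxQ A E) P where
  surj Y u := exists_Q_map_eq P Y u
  inv Y f g h := by
    obtain ⟨h1⟩ := homotopy_of_Q_map_eq P f g h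
    have h2 := Q_map_tensorHom_eq h1 (Homotopy.refl (𝟙 E))
    rw [MonoidalCategory.tensorHom_id, MonoidalCategory.tensorHom_id] at h2
    exact h2

theorem enough (E X : DRing.Cx A) :
    ∃ (P : DRing.Cx A) (f : P ⟶ X), W f ∧ PtKan.Good DerivedCategory.Q (DRing.tensorCxQ A E) P :=
  ⟨res X, resMap X, (HomologicalComplex.mem_quasiIso_iff _).2 inferInstance, good E _⟩

/-- the counit of the derived tensor product -/
noncomputable def counit (E : DRing.Cx A) [DRing.HasLTensorCx A E] :
    DerivedCategory.Q ⋙ DRing.LTensorCx A E ⟶ DRing.tensorCxQ A E :=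
  (DRing.tensorCxQ A E).totalLeftDerivedCounit DerivedCategory.Q W

instance (E : DRing.Cx A) [DRing.HasLTensorCx A E] :
    (DRing.LTensorCx A E).IsLeftDerivedFunctor (counit E) W := by
  unfold counit
  infer_instance

theorem isIso_counit_app (E : DRing.Cx A) [DRing.HasLTensorCx A E] (P : DRing.Cx A)
    [P.IsKProjective] : IsIso ((counit E).app P) :=
  PtKan.isIso_counit_app DerivedCategory.Q (DRing.tensorCxQ A E) W (enough E)
    (DRing.LTensorCx A E) (counit E) (good E P)

/-- `(Q P) ⊗^L E = Q (P ⊗ E)` for K-projective `P` -/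
noncomputable def ltcIso (E : DRing.Cx A) [DRing.HasLTensorCx A E] (P : DRing.Cx A)
    [P.IsKProjective] :
    (DRing.LTensorCx A E).obj (DRing.toD P) ≅ DRing.toD (P ⊗ E) :=
  haveI := isIso_counit_app E P
  asIso ((counit E).app P)

/-- the value of `K ⊗^L E` when `K` and `E` have K-projective representatives, the first being
K-flat -/
theorem nonempty_iso_tensor (E : DRing.Cx A) [DRing.HasLTensorCx A E] (K : Dual.D A)
    (P P' : DRing.Cx A) [P.IsKProjective] [P'.IsKProjective] (hP : DRing.IsKFlat A P)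
    (e : DRing.toD P ≅ K) (e' : DRing.toD P' ≅ DRing.toD E) :
    Nonempty ((DRing.LTensorCx A E).obj K ≅ DRing.toD (P ⊗ P')) := by
  obtain ⟨f, hf⟩ := exists_Q_map_eq P' E e'.hom
  have hq : QuasiIso f := by
    rw [← DerivedCategory.isIso_Q_map_iff_quasiIso, hf]
    infer_instance
  haveI := quasiIso_whiskerLeft hP f hq
  exact ⟨(DRing.LTensorCx A E).mapIso e.symm ≪≫ ltcIso E P ≪≫
    (asIso (DerivedCategory.Q.map (P ◁ f))).symm⟩

lemma isKProjective_of_bdd (P : DRing.Cx A) (b : ℤ) (hb : ∀ i, b < i → IsZero (P.X i))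
    (hproj : ∀ i, Module.Projective A (P.X i)) : P.IsKProjective := by
  haveI : P.IsStrictlyLE b := (CochainComplex.isStrictlyLE_iff P b).2 hb
  haveI : ∀ n : ℤ, Projective (P.X n) := fun n =>
    haveI := hproj n
    ModuleCat.projective_of_categoryTheory_projective _
  exact CochainComplex.isKProjective_of_projective P b

lemma isKFlat_of_bdd (P : DRing.Cx A) (b : ℤ) (hb : ∀ i, b < i → IsZero (P.X i))
    (hproj : ∀ i, Module.Projective A (P.X i)) : DRing.IsKFlat A P :=
  isKFlat_of_bounded_above P b hb (fun n => haveI := hproj n; inferInstance)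

theorem main_S6959 (R : Type u) [CommRing R] (K : Dual.D R) (hK : DRing.IsPerfect R K)
    (L : DRing.Cx R) (hL : DRing.IsPerfect R (DRing.toD L)) [DRing.HasLTensorCx R L] :
    DRing.IsPerfect R ((DRing.LTensorCx R L).obj K) := by
  obtain ⟨P, a, b, hP, hPt, ⟨e⟩⟩ := hK
  obtain ⟨P', a', b', hP', hPt', ⟨e'⟩⟩ := hL
  have hb : ∀ i, b < i → IsZero (P.X i) := fun i hi => hP i (Or.inr hi)
  have hb' : ∀ i, b' < i → IsZero (P'.X i) := fun i hi => hP' i (Or.inr hi)
  haveI := isKProjective_of_bdd P b hb (fun i => (hPt i).2)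
  haveI := isKProjective_of_bdd P' b' hb' (fun i => (hPt' i).2)
  obtain ⟨φ⟩ := nonempty_iso_tensor L K P P' (isKFlat_of_bdd P b hb (fun i => (hPt i).2)) e e'
  refine ⟨P ⊗ P', a + a', b + b', ?_, ?_, ⟨φ.symm⟩⟩
  · rintro i (hi | hi)
    · exact isZero_tensor_X_below a a' (fun i hi => hP i (Or.inl hi))
        (fun i hi => hP' i (Or.inl hi)) i hi
    · exact isZero_tensor_X_above b b' hb hb' i hi
  · intro i
    exact ⟨finite_tensor_X b b' hb hb' (fun i => (hPt i).1) (fun i => (hPt' i).1) i,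
      projective_tensor_X (fun i => (hPt i).2) (fun i => (hPt' i).2) i⟩

theorem main_S7037 (R : Type u) [CommRing R] (K : Dual.D R) (hK : DRing.IsPseudoCoherent' R K)
    (L : DRing.Cx R) (hL : DRing.IsPseudoCoherent' R (DRing.toD L)) [DRing.HasLTensorCx R L] :
    DRing.IsPseudoCoherent' R ((DRing.LTensorCx R L).obj K) := by
  obtain ⟨P, b, hb, hPt, ⟨e⟩⟩ := hK
  obtain ⟨P', b', hb', hPt', ⟨e'⟩⟩ := hL
  have hpr : ∀ i, Module.Projective R (P.X i) := fun i =>
    haveI := (hPt i).2
    Module.Projective.of_free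
  have hpr' : ∀ i, Module.Projective R (P'.X i) := fun i =>
    haveI := (hPt' i).2
    Module.Projective.of_free
  haveI := isKProjective_of_bdd P b hb hpr
  haveI := isKProjective_of_bdd P' b' hb' hpr'
  obtain ⟨φ⟩ := nonempty_iso_tensor L K P P' (isKFlat_of_bdd P b hb hpr) e e'
  refine ⟨P ⊗ P', b + b', ?_, ?_, ⟨φ.symm⟩⟩
  · intro i hi
    exact isZero_tensor_X_above b b' hb hb' i hi
  · intro i
    exact ⟨finite_tensor_X b b' hb hb' (fun i => (hPt i).1) (fun i => (hPt' i).1) i,
      free_tensor_X (fun i => (hPt i).2) (fun i => (hPt' i).2) i⟩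

end Derived

end Groth.Agent.Helper3.LTenCx
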