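import Mathlib

/-!
# The complex of homology objects, when cycles split onto homology
-/

namespace Groth.Agent.Helper3.HomologyCx

open CategoryTheory Limits

universe v u

variable {C : Type u} [Category.{v} C] [Abelian C]

/-- the complex of homology objects with zero differentials -/
noncomputable def Hcx (N : CochainComplex C ℤ) : CochainComplex C ℤ where
  X i := N.homology i
  d i j := 0
  shape := by intros; rfl
  d_comp_d' := by intros; simp

@[simp] lemma Hcx_d (N : CochainComplex C ℤ) (i j : ℤ) : (Hcx N).d i j = 0 := rfl

lemma Hcx_X (N : CochainComplex C ℤ) (i : ℤ) : (Hcx N).X i = N.homology i := rfl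

variable (N : CochainComplex C ℤ) (s : ∀ i, N.homology i ⟶ N.cycles i)

/-- the map from the homology complex given by sections of `cycles → homology` -/
noncomputable def ι : Hcx N ⟶ N where
  f i := s i ≫ N.iCycles i
  comm' i j hij := by
    rw [Hcx_d, zero_comp, Category.assoc, N.iCycles_d, comp_zero]

/-- a morphism between complexes with zero differentials is a quasi-isomorphism iff it is
a termwise isomorphism -/
lemma isIso_f_iff_of_d_eq_zero {X Y : CochainComplex C ℤ} (hX : ∀ i j, X.d i j = 0)
    (hY : ∀ i j, Y.d i j = 0) (f : X ⟶ Y) (i : ℤ) :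
    IsIso (f.f i) ↔ IsIso (HomologicalComplex.homologyMap f i) := by
  have h1 := X.isIso_iCycles i (i + 1) (by simp) (hX _ _)
  have h2 := Y.isIso_iCycles i (i + 1) (by simp) (hY _ _)
  have h3 := X.isIso_homologyπ (i - 1) i (by simp) (hX _ _)
  have h4 := Y.isIso_homologyπ (i - 1) i (by simp) (hY _ _)
  have e1 : HomologicalComplex.cyclesMap f i ≫ Y.iCycles i = X.iCycles i ≫ f.f i :=
    HomologicalComplex.cyclesMap_i f i
  have e2 : X.homologyπ i ≫ HomologicalComplex.homologyMap f i =
      HomologicalComplex.cyclesMap f i ≫ Y.homologyπ i :=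
    HomologicalComplex.homologyπ_naturality f i
  have e3 : IsIso (f.f i) ↔ IsIso (HomologicalComplex.cyclesMap f i) := by
    constructor
    · intro h
      have : IsIso (HomologicalComplex.cyclesMap f i ≫ Y.iCycles i) := by
        rw [e1]; infer_instance
      exact IsIso.of_isIso_comp_right _ (Y.iCycles i)
    · intro h
      have : IsIso (X.iCycles i ≫ f.f i) := by
        rw [← e1]; infer_instance
      exact IsIso.of_isIso_comp_left (X.iCycles i) _
  rw [e3]
  constructor
  · intro h
    have : IsIso (X.homologyπ i ≫ HomologicalComplex.homologyMap f i) := by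
      rw [e2]; infer_instance
    exact IsIso.of_isIso_comp_left (X.homologyπ i) _
  · intro h
    have : IsIso (HomologicalComplex.cyclesMap f i ≫ Y.homologyπ i) := by
      rw [← e2]; infer_instance
    exact IsIso.of_isIso_comp_right _ (Y.homologyπ i)

variable (hs : ∀ i, s i ≫ N.homologyπ i = 𝟙 _)

include hs in
lemma quasiIso_ι : QuasiIso (ι N s) := by
  rw [quasiIso_iff]
  intro i
  rw [quasiIsoAt_iff_isIso_homologyMap]
  have h1 := (Hcx N).isIso_iCycles i (i + 1) (by simp) (Hcx_d N _ _)
  have h3 := (Hcx N).isIso_homologyπ (i - 1) i (by simp) (Hcx_d N _ _)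
  have e1 : HomologicalComplex.cyclesMap (ι N s) i = (Hcx N).iCycles i ≫ s i := by
    rw [← cancel_mono (N.iCycles i), HomologicalComplex.cyclesMap_i, Category.assoc]
    rfl
  have e2 : (Hcx N).homologyπ i ≫ HomologicalComplex.homologyMap (ι N s) i =
      (Hcx N).iCycles i := by
    refine (HomologicalComplex.homologyπ_naturality _ _).trans ?_
    rw [e1]
    exact (Category.assoc _ _ _).trans
      ((congrArg (fun t => (Hcx N).iCycles i ≫ t) (hs i)).trans (Category.comp_id _))
  have : IsIso ((Hcx N).homologyπ i ≫ HomologicalComplex.homologyMap (ι N s) i) := by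
    rw [e2]; exact h1
  exact IsIso.of_isIso_comp_left ((Hcx N).homologyπ i) _

section Field

variable {κ : Type u} [Field κ] (N : CochainComplex (ModuleCat.{u} κ) ℤ)

lemma projective_of_field (M : ModuleCat.{u} κ) : Projective M := by
  have : Module.Projective κ M := Module.Projective.of_free
  exact ModuleCat.projective_of_categoryTheory_projective _

lemma exists_section (i : ℤ) : ∃ s : N.homology i ⟶ N.cycles i, s ≫ N.homologyπ i = 𝟙 _ := by
  have := projective_of_field (N.homology i)
  exact ⟨Projective.factorThru (𝟙 _) (N.homologyπ i), Projective.factorThru_comp _ _⟩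

/-- over a field, every complex is quasi-isomorphic to its homology with zero differentials -/
theorem exists_quasiIso_Hcx : ∃ f : Hcx N ⟶ N, QuasiIso f := by
  choose s hs using exists_section N
  exact ⟨ι N s, quasiIso_ι N s hs⟩

lemma finite_cycles (i : ℤ) [Module.Finite κ (N.X i)] : Module.Finite κ (N.cycles i) :=
  Module.Finite.of_injective (N.iCycles i).hom
    ((ModuleCat.mono_iff_injective _).1 inferInstance)

lemma finite_homology (i : ℤ) [Module.Finite κ (N.X i)] : Module.Finite κ (N.homology i) := by
  have := finite_cycles N i
  exact Module.Finite.of_surjective (N.homologyπ i).hom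
    ((ModuleCat.epi_iff_surjective _).1 inferInstance)

lemma finrank_homology_le (i : ℤ) [Module.Finite κ (N.X i)] :
    Module.finrank κ (N.homology i) ≤ Module.finrank κ (N.X i) := by
  have := finite_cycles N i
  have h1 : Module.finrank κ (N.homology i) ≤ Module.finrank κ (N.cycles i) :=
    LinearMap.finrank_le_finrank_of_surjective (f := (N.homologyπ i).hom)
      ((ModuleCat.epi_iff_surjective _).1 inferInstance)
  have h2 : Module.finrank κ (N.cycles i) ≤ Module.finrank κ (N.X i) :=
    LinearMap.finrank_le_finrank_of_injective (f := (N.iCycles i).hom)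
      ((ModuleCat.mono_iff_injective _).1 inferInstance)
  exact h1.trans h2

/-- if the homology has the same dimension as the term, the outgoing differential vanishes -/
lemma d_eq_zero_of_finrank_eq (i j : ℤ) [Module.Finite κ (N.X i)]
    (h : Module.finrank κ (N.X i) = Module.finrank κ (N.homology i)) : N.d i j = 0 := by
  have := finite_cycles N i
  have h1 : Module.finrank κ (N.homology i) ≤ Module.finrank κ (N.cycles i) :=
    LinearMap.finrank_le_finrank_of_surjective (f := (N.homologyπ i).hom)
      ((ModuleCat.epi_iff_surjective _).1 inferInstance)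
  have h2 : Module.finrank κ (N.cycles i) ≤ Module.finrank κ (N.X i) :=
    LinearMap.finrank_le_finrank_of_injective (f := (N.iCycles i).hom)
      ((ModuleCat.mono_iff_injective _).1 inferInstance)
  have h3 : Module.finrank κ (N.cycles i) = Module.finrank κ (N.X i) := by omega
  have hinj : Function.Injective (N.iCycles i).hom :=
    (ModuleCat.mono_iff_injective _).1 inferInstance
  have hsurj : Function.Surjective (N.iCycles i).hom :=
    (LinearMap.injective_iff_surjective_of_finrank_eq_finrank h3).1 hinj
  have : Epi (N.iCycles i) := (ModuleCat.epi_iff_surjective _).2 hsurj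
  rw [← cancel_epi (N.iCycles i), N.iCycles_d, comp_zero]

end Field

end Groth.Agent.Helper3.HomologyCx
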