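import Mathlib

/-!
# Lifting projective modules along a surjection with nilpotent kernel
-/

namespace Groth.Agent.Helper3.ProjLiftNil

open CategoryTheory Limits

universe u

variable {A : Type u} [CommRing A] (I : Ideal A)

/-- extension of scalars along `A → A/I` -/
noncomputable abbrev E : ModuleCat.{u} A ⥤ ModuleCat.{u} (A ⧸ I) :=
  ModuleCat.extendScalars (Ideal.Quotient.mk I)

noncomputable abbrev Rs : ModuleCat.{u} (A ⧸ I) ⥤ ModuleCat.{u} A :=
  ModuleCat.restrictScalars (Ideal.Quotient.mk I)

noncomputable abbrev adj : E I ⊣ Rs I := ModuleCat.extendRestrictScalarsAdj.{u, u, u} (Ideal.Quotient.mk I)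

instance : (E I).Additive := (adj I).left_adjoint_additive

lemma unit_apply (M : ModuleCat.{u} A) (m : M) :
    ((adj I).unit.app M).hom m = ((1 : A ⧸ I) ⊗ₜ[A] m : (E I).obj M) := rfl

lemma unit_surjective (M : ModuleCat.{u} A) :
    Function.Surjective ((adj I).unit.app M).hom := by
  intro y
  change (E I).obj M at y
  induction y using TensorProduct.induction_on with
  | zero => exact ⟨0, map_zero _⟩
  | tmul s m =>
    obtain ⟨a, rfl⟩ := Ideal.Quotient.mk_surjective s
    refine ⟨a • m, ?_⟩
    have h := TensorProduct.smul_tmul (R := A) (R' := A) a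
      ((1 : A ⧸ I) : (Rs I).obj (ModuleCat.of (A ⧸ I) (A ⧸ I))) (m : M)
    refine Eq.trans ?_ (Eq.trans h.symm ?_)
    · rfl
    · congr 1
      exact mul_one (Ideal.Quotient.mk I a)
  | add x y hx hy =>
    obtain ⟨a, rfl⟩ := hx
    obtain ⟨b, rfl⟩ := hy
    exact ⟨a + b, map_add _ _ _⟩

/-- the quotient `M / I M` as an `A/I`-module -/
noncomputable abbrev Q (M : ModuleCat.{u} A) : ModuleCat.{u} (A ⧸ I) :=
  ModuleCat.of (A ⧸ I) (M ⧸ (I • ⊤ : Submodule A M))

/-- the quotient map `M → M / I M`, as a map to the restriction of scalars -/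
noncomputable def toQ (M : ModuleCat.{u} A) : M ⟶ (Rs I).obj (Q I M) :=
  ModuleCat.ofHom
    { toFun := fun m => Submodule.Quotient.mk m
      map_add' := fun x y => rfl
      map_smul' := fun a x => rfl }

lemma toQ_apply (M : ModuleCat.{u} A) (m : M) :
    (toQ I M).hom m = (Submodule.Quotient.mk m : M ⧸ (I • ⊤ : Submodule A M)) := rfl

lemma mem_of_unit_eq_zero (M : ModuleCat.{u} A) (m : M)
    (h : ((adj I).unit.app M).hom m = 0) : m ∈ (I • ⊤ : Submodule A M) := by
  have h1 : (toQ I M) = (adj I).unit.app M ≫ (Rs I).map (((adj I).homEquiv _ _).symm (toQ I M)) := by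
    exact ((Equiv.apply_symm_apply ((adj I).homEquiv _ _) (toQ I M)).symm.trans
      ((adj I).homEquiv_unit _ _ _))
  have h2 : (toQ I M).hom m = 0 := by
    rw [h1]
    rw [ModuleCat.hom_comp, LinearMap.comp_apply, h, map_zero]
  rw [toQ_apply] at h2
  exact (Submodule.Quotient.mk_eq_zero _).1 h2

/-- `E.map` as a ring hom on endomorphism rings -/
noncomputable def endMap (F : ModuleCat.{u} A) : End F →+* End ((E I).obj F) where
  toFun φ := (E I).map φ
  map_one' := (E I).map_id F
  map_mul' x y := (E I).map_comp y x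
  map_zero' := (E I).map_zero _ _
  map_add' x y := (E I).map_add

lemma endMap_apply (F : ModuleCat.{u} A) (φ : End F) : endMap I F φ = (E I).map φ := rfl

lemma endMap_surjective (F : ModuleCat.{u} A) [Projective F] :
    Function.Surjective (endMap I F) := by
  intro ψ
  have hepi : Epi ((adj I).unit.app F) :=
    (ModuleCat.epi_iff_surjective _).2 (unit_surjective I F)
  let φ : F ⟶ F := Projective.factorThru ((adj I).homEquiv _ _ ψ) ((adj I).unit.app F)
  have hφ : φ ≫ (adj I).unit.app F = (adj I).homEquiv _ _ ψ := Projective.factorThru_comp _ _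
  refine ⟨φ, ?_⟩
  apply ((adj I).homEquiv _ _).injective
  rw [← hφ, endMap_apply, Adjunction.homEquiv_unit]
  exact ((adj I).unit.naturality φ).symm

lemma mem_of_endMap_eq_zero (F : ModuleCat.{u} A) (φ : End F) (h : endMap I F φ = 0) (x : F) :
    φ.hom x ∈ (I • ⊤ : Submodule A F) := by
  apply mem_of_unit_eq_zero
  have h1 : φ ≫ (adj I).unit.app F = 0 := by
    have := (adj I).unit.naturality φ
    rw [endMap_apply] at h
    simp only [Functor.id_obj, Functor.id_map, Functor.comp_obj, Functor.comp_map] at this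
    rw [this, h, Functor.map_zero, comp_zero]
  have h2 := congrArg (fun g => g.hom x) h1
  simpa using h2

lemma pow_mem (F : ModuleCat.{u} A) (φ : End F) (h : endMap I F φ = 0) (k : ℕ) (x : F) :
    (φ ^ k).hom x ∈ (I ^ k • ⊤ : Submodule A F) := by
  induction k generalizing x with
  | zero => simp
  | succ k ih =>
    have h1 : (φ ^ (k + 1)).hom x = φ.hom ((φ ^ k).hom x) := by
      rw [pow_succ', End.mul_def]
      rfl
    rw [h1]
    have h2 : φ.hom ((φ ^ k).hom x) ∈ (I ^ k • ⊤ : Submodule A F).map φ.hom :=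
      Submodule.mem_map_of_mem (ih x)
    rw [Submodule.map_smul''] at h2
    have h3 : (⊤ : Submodule A F).map φ.hom ≤ (I • ⊤ : Submodule A F) := by
      rintro _ ⟨y, -, rfl⟩
      exact mem_of_endMap_eq_zero I F φ h y
    have h4 := Submodule.smul_mono (le_refl (I ^ k)) h3 h2
    rwa [← Submodule.mul_smul, ← pow_succ] at h4

lemma isNilpotent_of_endMap_eq_zero (hI : IsNilpotent I) (F : ModuleCat.{u} A) (φ : End F)
    (h : endMap I F φ = 0) : IsNilpotent φ := by
  obtain ⟨n, hn⟩ := hI
  refine ⟨n, ?_⟩
  apply ModuleCat.hom_ext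
  apply LinearMap.ext
  intro x
  have := pow_mem I F φ h n x
  rw [hn, Ideal.zero_eq_bot, Submodule.bot_smul, Submodule.mem_bot] at this
  rw [this]
  rfl

/-- the canonical surjection from a free module -/
noncomputable def fromFree (M : ModuleCat.{u} A) : ModuleCat.of A (M →₀ A) ⟶ M :=
  ModuleCat.ofHom (Finsupp.linearCombination A (fun m : M => m))

lemma fromFree_surjective (M : ModuleCat.{u} A) : Function.Surjective (fromFree M).hom := by
  intro p
  refine ⟨Finsupp.single p 1, ?_⟩
  change Finsupp.linearCombination A (fun m : M => m) (Finsupp.single p 1) = p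
  rw [Finsupp.linearCombination_single, one_smul]

theorem exists_lift (hI : IsNilpotent I) (P₀ : ModuleCat.{u} (A ⧸ I))
    [Module.Projective (A ⧸ I) P₀] :
    ∃ P : ModuleCat.{u} A, Module.Projective A P ∧ Nonempty ((E I).obj P ≅ P₀) := by
  let F : ModuleCat.{u} A := ModuleCat.of A (((Rs I).obj P₀) →₀ A)
  have hF : Projective F := ModuleCat.projective_of_free (Finsupp.basisSingleOne)
  have hFm : Module.Projective A F := Module.Projective.of_free
  let π₀ : F ⟶ (Rs I).obj P₀ := fromFree ((Rs I).obj P₀)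
  let π : (E I).obj F ⟶ P₀ := ((adj I).homEquiv _ _).symm π₀
  have hπ₀ : Function.Surjective π₀.hom := fromFree_surjective _
  have hπu : (adj I).unit.app F ≫ (Rs I).map π = π₀ := by
    exact ((adj I).homEquiv_unit _ _ _).symm.trans (Equiv.apply_symm_apply _ _)
  have hπ : Function.Surjective π.hom := by
    intro p
    obtain ⟨x, hx⟩ := hπ₀ p
    refine ⟨((adj I).unit.app F).hom x, ?_⟩
    rw [← hπu] at hx
    exact hx
  have hepi : Epi π := (ModuleCat.epi_iff_surjective _).2 hπ
  have hP₀ : Projective P₀ := ModuleCat.projective_of_categoryTheory_projective _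
  let s : P₀ ⟶ (E I).obj F := Projective.factorThru (𝟙 P₀) π
  have hs : s ≫ π = 𝟙 P₀ := Projective.factorThru_comp _ _
  let e₀ : End ((E I).obj F) := π ≫ s
  have he₀ : IsIdempotentElem e₀ := by
    change (π ≫ s) ≫ (π ≫ s) = π ≫ s
    rw [Category.assoc, reassoc_of% hs]
  obtain ⟨e, he, hee⟩ := exists_isIdempotentElem_eq_of_ker_isNilpotent (endMap I F)
    (fun x hx => isNilpotent_of_endMap_eq_zero I hI F x hx) e₀
    (endMap_surjective I F e₀) he₀
  have he' : e ≫ e = e := he
  have hee' : (E I).map e = π ≫ s := hee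
  let P : ModuleCat.{u} A := ModuleCat.of A (LinearMap.range e.hom)
  let i : P ⟶ F := ModuleCat.ofHom (Submodule.subtype _)
  let r : F ⟶ P := ModuleCat.ofHom (LinearMap.rangeRestrict e.hom)
  have hri : r ≫ i = e := by
    apply ModuleCat.hom_ext
    apply LinearMap.ext
    intro x
    rfl
  have hir : i ≫ r = 𝟙 P := by
    apply ModuleCat.hom_ext
    apply LinearMap.ext
    rintro ⟨y, x, rfl⟩
    apply Subtype.ext
    change e.hom (e.hom x) = e.hom x
    have := congrArg (fun g => g.hom x) he'
    simpa using this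
  refine ⟨P, ?_, ⟨⟨(E I).map i ≫ π, s ≫ (E I).map r, ?_, ?_⟩⟩⟩
  · refine Module.Projective.of_split i.hom r.hom ?_
    have := congrArg (fun g => g.hom) hir
    simpa using this
  · have h1 : i ≫ e ≫ r = 𝟙 P := by rw [← hri, Category.assoc, reassoc_of% hir, hir]
    rw [Category.assoc, ← Category.assoc π, ← hee', ← Functor.map_comp, ← Functor.map_comp, h1,
      CategoryTheory.Functor.map_id]
  · rw [Category.assoc, ← Category.assoc ((E I).map r), ← Functor.map_comp, hri, hee',
      Category.assoc, hs, Category.comp_id, hs]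

end Groth.Agent.Helper3.ProjLiftNil
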