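import Mathlib
import Groth.Agent.Lib.Helper3.ProjLiftNil

/-!
# Lifting along `A → A/I` for classes of projective modules satisfying a Nakayama property
-/

namespace Groth.Agent.Helper3.PcLift

open CategoryTheory Limits Groth.Agent.Helper3.ProjLiftNil
open scoped TensorProduct

universe u

variable {A : Type u} [CommRing A] (I : Ideal A)

lemma epi_unit (X : ModuleCat.{u} A) : Epi ((adj I).unit.app X) :=
  (ModuleCat.epi_iff_surjective _).2 (unit_surjective I X)

lemma unit_nat {X Y : ModuleCat.{u} A} (φ : X ⟶ Y) :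
    φ ≫ (adj I).unit.app Y = (adj I).unit.app X ≫ (Rs I).map ((E I).map φ) :=
  (adj I).unit.naturality φ

lemma map_eq_iff {X Y : ModuleCat.{u} A} (φ : X ⟶ Y) (ψ : (E I).obj X ⟶ (E I).obj Y) :
    (E I).map φ = ψ ↔ φ ≫ (adj I).unit.app Y = (adj I).unit.app X ≫ (Rs I).map ψ := by
  rw [unit_nat]
  constructor
  · intro h
    rw [h]
  · intro h
    apply ((adj I).homEquiv _ _).injective
    rw [Adjunction.homEquiv_unit, Adjunction.homEquiv_unit]
    exact h

lemma exists_lift_hom {X Y : ModuleCat.{u} A} [Projective X] (ψ : (E I).obj X ⟶ (E I).obj Y) :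
    ∃ φ : X ⟶ Y, (E I).map φ = ψ := by
  have := epi_unit I Y
  refine ⟨Projective.factorThru ((adj I).unit.app X ≫ (Rs I).map ψ) ((adj I).unit.app Y), ?_⟩
  rw [map_eq_iff, Projective.factorThru_comp]

lemma range_sup_eq_top {X Y : ModuleCat.{u} A} (f : X ⟶ Y)
    (hf : Function.Surjective ((E I).map f).hom) :
    LinearMap.range f.hom ⊔ (I • ⊤ : Submodule A Y) = ⊤ := by
  rw [eq_top_iff]
  intro y _
  obtain ⟨z, hz⟩ := hf (((adj I).unit.app Y).hom y)
  obtain ⟨x, hx⟩ := unit_surjective I X z
  have h1 : ((adj I).unit.app Y).hom (y - f.hom x) = 0 := by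
    rw [map_sub, ← hz, ← hx]
    have := congrArg (fun g => g.hom x) (unit_nat I f)
    simp only [ModuleCat.hom_comp, LinearMap.comp_apply] at this
    rw [this]
    exact sub_self _
  have h2 := mem_of_unit_eq_zero I Y _ h1
  have h3 : y = f.hom x + (y - f.hom x) := by abel
  rw [h3]
  exact Submodule.add_mem_sup (LinearMap.mem_range_self _ x) h2

lemma smul_top_eq_top_of_isZero {Y : ModuleCat.{u} A} (h : IsZero ((E I).obj Y)) :
    (I • ⊤ : Submodule A Y) = ⊤ := by
  rw [eq_top_iff]
  intro y _
  apply mem_of_unit_eq_zero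
  have : Subsingleton ((E I).obj Y) := ModuleCat.subsingleton_of_isZero h
  exact Subsingleton.elim (α := (E I).obj Y) _ _

/-- the hypotheses on a class of modules -/
structure PcHyp (Pc : ObjectProperty (ModuleCat.{u} A)) : Prop where
  iso : ∀ {X Y : ModuleCat.{u} A} (_ : X ≅ Y), Pc X → Pc Y
  proj : ∀ X : ModuleCat.{u} A, Pc X → Module.Projective A X
  cancel : ∀ X Y : ModuleCat.{u} A, Pc X → Pc (ModuleCat.of A (X × Y)) → Pc Y
  surj : ∀ (X Y : ModuleCat.{u} A) (f : X ⟶ Y), Pc X → Pc Y →
    LinearMap.range f.hom ⊔ I • (⊤ : Submodule A Y) = ⊤ → Function.Surjective f.hom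

variable {I} {Pc : ObjectProperty (ModuleCat.{u} A)} (H : PcHyp I Pc)

include H

lemma PcHyp.projective {X : ModuleCat.{u} A} (hX : Pc X) : Projective X := by
  have := H.proj X hX
  exact ModuleCat.projective_of_categoryTheory_projective _

lemma PcHyp.zero {X₀ : ModuleCat.{u} A} (h₀ : Pc X₀) : Pc (ModuleCat.of A PUnit.{u + 1}) := by
  refine H.cancel X₀ _ h₀ (H.iso ?_ h₀)
  exact (LinearEquiv.toModuleIso (LinearEquiv.symm (LinearEquiv.prodUnique (R := A) (M := X₀)
    (M₂ := PUnit.{u + 1}))))

lemma PcHyp.of_isZero {X₀ X : ModuleCat.{u} A} (h₀ : Pc X₀) (hX : IsZero X) : Pc X :=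
  H.iso ((ModuleCat.isZero_of_subsingleton (ModuleCat.of A PUnit.{u + 1})).iso hX) (H.zero h₀)

/-- A morphism in the class which is surjective modulo `I` is split surjective with kernel in
the class. -/
lemma PcHyp.exists_split {X Y : ModuleCat.{u} A} (hX : Pc X) (hY : Pc Y) (f : X ⟶ Y)
    (hf : Function.Surjective ((E I).map f).hom) :
    ∃ (Y' : ModuleCat.{u} A) (k : Y' ⟶ X) (s : Y ⟶ X) (r : X ⟶ Y'), Pc Y' ∧ k ≫ f = 0 ∧
      s ≫ f = 𝟙 Y ∧ k ≫ r = 𝟙 Y' ∧ r ≫ k + f ≫ s = 𝟙 X := by
  have hfs : Function.Surjective f.hom := H.surj X Y f hX hY (range_sup_eq_top I f hf)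
  have hYp := H.proj Y hY
  obtain ⟨s, hs⟩ := Module.projective_lifting_property f.hom LinearMap.id hfs
  have hs' : ∀ y, f.hom (s y) = y := fun y => congrArg (fun g => g y) hs
  let Y' : ModuleCat.{u} A := ModuleCat.of A (LinearMap.ker f.hom)
  let k : Y' ⟶ X := ModuleCat.ofHom (Submodule.subtype _)
  let r : X ⟶ Y' := ModuleCat.ofHom (LinearMap.codRestrict _ (LinearMap.id - s ∘ₗ f.hom)
    (fun x => by
      rw [LinearMap.mem_ker, LinearMap.sub_apply, map_sub, LinearMap.comp_apply, hs']
      exact sub_self _))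
  have hkr : k ≫ r = 𝟙 Y' := by
    apply ModuleCat.hom_ext
    apply LinearMap.ext
    rintro ⟨z, hz⟩
    apply Subtype.ext
    rw [LinearMap.mem_ker] at hz
    change z - s (f.hom z) = z
    rw [hz, map_zero, sub_zero]
  have htot : r ≫ k + f ≫ ModuleCat.ofHom s = 𝟙 X := by
    apply ModuleCat.hom_ext
    apply LinearMap.ext
    intro x
    change (x - s (f.hom x)) + s (f.hom x) = x
    abel
  refine ⟨Y', k, ModuleCat.ofHom s, r, ?_, ?_, ?_, hkr, htot⟩
  · refine H.cancel Y Y' hY (H.iso ?_ hX)
    refine LinearEquiv.toModuleIso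
      { toFun := fun x => (f.hom x, r.hom x)
        map_add' := fun x y => by simp
        map_smul' := fun a x => by simp
        invFun := fun p => s p.1 + k.hom p.2
        left_inv := fun x => by
          have := congrArg (fun g => g.hom x) htot
          simp only [ModuleCat.hom_add, ModuleCat.hom_comp, LinearMap.add_apply,
            LinearMap.comp_apply, ModuleCat.hom_id, LinearMap.id_apply, ModuleCat.hom_ofHom] at this
          change s (f.hom x) + k.hom (r.hom x) = x
          rw [add_comm]
          exact this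
        right_inv := fun p => by
          obtain ⟨y, z⟩ := p
          have hz : f.hom (k.hom z) = 0 := z.2
          have h1 : r.hom (s y) = 0 := by
            apply Subtype.ext
            change s y - s (f.hom (s y)) = 0
            rw [hs', sub_self]
          have h2 : r.hom (k.hom z) = z := by
            have := congrArg (fun g => g.hom z) hkr
            simpa using this
          simp only [map_add, hs', hz, add_zero, h1, h2, zero_add] }
  · apply ModuleCat.hom_ext
    apply LinearMap.ext
    rintro ⟨z, hz⟩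
    exact hz
  · apply ModuleCat.hom_ext
    exact hs

/-- A morphism in the class which is an isomorphism modulo `I` is an isomorphism. -/
lemma PcHyp.isIso_of_map_isIso {X Y : ModuleCat.{u} A} (hX : Pc X) (hY : Pc Y) (f : X ⟶ Y)
    (hf : IsIso ((E I).map f)) : IsIso f := by
  have hfs : Function.Surjective ((E I).map f).hom :=
    (ModuleCat.epi_iff_surjective _).1 inferInstance
  obtain ⟨Y', k, s, r, hY', hkf, hsf, hkr, htot⟩ := H.exists_split hX hY f hfs
  have h0 : IsZero ((E I).obj Y') := by
    rw [IsZero.iff_id_eq_zero]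
    have h1 : (E I).map k = 0 := by
      rw [← cancel_mono ((E I).map f), ← Functor.map_comp, hkf, Functor.map_zero, zero_comp]
    rw [← CategoryTheory.Functor.map_id, ← hkr, Functor.map_comp, h1, zero_comp]
  have hz : Pc (ModuleCat.of A PUnit.{u + 1}) := H.zero hX
  have hs0 : Function.Surjective (0 : ModuleCat.of A PUnit.{u + 1} ⟶ Y').hom :=
    H.surj _ _ 0 hz hY' (by rw [smul_top_eq_top_of_isZero I h0]; exact sup_top_eq _)
  have hY'0 : IsZero Y' := by
    have : Subsingleton Y' := ⟨fun a b => by
      obtain ⟨x, rfl⟩ := hs0 a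
      obtain ⟨y, rfl⟩ := hs0 b
      rfl⟩
    exact ModuleCat.isZero_of_subsingleton _
  have hfs' : f ≫ s = 𝟙 X := by
    rw [← htot, hY'0.eq_of_tgt r 0, zero_comp, zero_add]
  exact ⟨⟨s, hfs', hsf⟩⟩

/-- lifting split monomorphisms -/
lemma PcHyp.exists_retraction {X Y : ModuleCat.{u} A} (hX : Pc X) [Projective Y]
    (j : X ⟶ Y) (r₀ : (E I).obj Y ⟶ (E I).obj X) (h : (E I).map j ≫ r₀ = 𝟙 _) :
    ∃ r : Y ⟶ X, j ≫ r = 𝟙 X := by
  obtain ⟨r, hr⟩ := exists_lift_hom I r₀
  have h1 : (E I).map (j ≫ r) = 𝟙 _ := by rw [Functor.map_comp, hr, h]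
  have : IsIso (j ≫ r) := H.isIso_of_map_isIso hX hX (j ≫ r) (by rw [h1]; infer_instance)
  exact ⟨r ≫ inv (j ≫ r), by rw [← Category.assoc, IsIso.hom_inv_id]⟩

/-- the complement of a direct summand in the class is in the class -/
lemma PcHyp.of_splitting {X Y L : ModuleCat.{u} A} (hX : Pc X) (hY : Pc Y) (j : X ⟶ Y)
    (c : Y ⟶ L) (r : Y ⟶ X) (s : L ⟶ Y) (hjr : j ≫ r = 𝟙 X) (hsc : s ≫ c = 𝟙 L)
    (hjc : j ≫ c = 0) (htot : r ≫ j + c ≫ s = 𝟙 Y) : Pc L := by
  refine H.cancel X L hX (H.iso ?_ hY)
  have hsr : s ≫ r = 0 := by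
    have h1 : s ≫ (r ≫ j + c ≫ s) = s := by rw [htot, Category.comp_id]
    rw [Preadditive.comp_add, reassoc_of% hsc, add_eq_right, ← Category.assoc] at h1
    have h2 : (s ≫ r) ≫ j ≫ r = 0 := by rw [← Category.assoc, h1, zero_comp]
    rw [hjr, Category.comp_id] at h2
    exact h2
  refine LinearEquiv.toModuleIso
    { toFun := fun y => (r.hom y, c.hom y)
      map_add' := fun x y => by simp
      map_smul' := fun a x => by simp
      invFun := fun p => j.hom p.1 + s.hom p.2
      left_inv := fun y => by
        have := congrArg (fun g => g.hom y) htot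
        simpa using this
      right_inv := fun p => by
        obtain ⟨x, l⟩ := p
        have h1 : r.hom (j.hom x) = x := by
          have := congrArg (fun g => g.hom x) hjr
          simpa using this
        have h2 : c.hom (s.hom l) = l := by
          have := congrArg (fun g => g.hom l) hsc
          simpa using this
        have h3 : c.hom (j.hom x) = 0 := by
          have := congrArg (fun g => g.hom x) hjc
          simpa using this
        have h4 : r.hom (s.hom l) = 0 := by
          have := congrArg (fun g => g.hom l) hsr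
          simpa using this
        simp only [map_add, h1, h2, h3, h4, add_zero, zero_add] }

omit H in
/-- the class of all projective modules satisfies the hypotheses when `I` is nilpotent -/
lemma pcHyp_projective (hI : IsNilpotent I) :
    PcHyp I (fun X : ModuleCat.{u} A => Module.Projective A X) where
  iso := fun e hX => by
    have := hX
    exact Module.Projective.of_equiv e.toLinearEquiv
  proj := fun X hX => hX
  cancel := fun X Y hX hXY => by
    have : Module.Projective A (X × Y) := hXY
    exact Module.Projective.of_split (LinearMap.inr A X Y) (LinearMap.snd A X Y)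
      (by ext; simp)
  surj := fun X Y f _ _ h => by
    obtain ⟨n, hn⟩ := hI
    have key : ∀ k : ℕ, LinearMap.range f.hom ⊔ (I ^ k • ⊤ : Submodule A Y) = ⊤ := by
      intro k
      induction k with
      | zero => simp
      | succ k ih =>
        rw [eq_top_iff]
        calc (⊤ : Submodule A Y) = LinearMap.range f.hom ⊔ (I ^ k • ⊤ : Submodule A Y) := ih.symm
          _ = LinearMap.range f.hom ⊔
              (I ^ k • (LinearMap.range f.hom ⊔ (I • ⊤ : Submodule A Y)) : Submodule A Y) := by
                rw [h]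
          _ ≤ LinearMap.range f.hom ⊔ (I ^ (k + 1) • ⊤ : Submodule A Y) := by
                rw [Submodule.smul_sup, ← Submodule.mul_smul, ← pow_succ]
                refine sup_le le_sup_left (sup_le ?_ le_sup_right)
                exact le_trans Submodule.smul_le_right le_sup_left
    have := key n
    rw [hn, Ideal.zero_eq_bot, Submodule.bot_smul, sup_bot_eq] at this
    exact LinearMap.range_eq_top.1 this

section Bridge

omit H

variable (I)

/-- the identity as an `A`-linear equivalence between the two `A`-module structures on `A/I` -/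
noncomputable def quotEquiv :
    (A ⧸ I) ≃ₗ[A] ((Rs I).obj (ModuleCat.of (A ⧸ I) (A ⧸ I))) where
  toFun := fun s => s
  map_add' := fun _ _ => rfl
  map_smul' := fun a s => by
    change a • s = (Ideal.Quotient.mk I a) * s
    rw [Algebra.smul_def]
    rfl
  invFun := fun s => s
  left_inv := fun _ => rfl
  right_inv := fun _ => rfl

/-- the comparison between the standard tensor product and extension of scalars -/
noncomputable def tensorEquiv (X : ModuleCat.{u} A) :
    ((A ⧸ I) ⊗[A] X) ≃ₗ[A ⧸ I] ((E I).obj X) :=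
  let e₁ : ((A ⧸ I) ⊗[A] X) ≃ₗ[A] (((Rs I).obj (ModuleCat.of (A ⧸ I) (A ⧸ I))) ⊗[A] X) :=
    TensorProduct.congr (quotEquiv I) (LinearEquiv.refl A X)
  let g : (A ⧸ I) ⊗[A] X → ((E I).obj X : Type u) := fun y => e₁ y
  have hg0 : g 0 = 0 := map_zero e₁
  have hgadd : ∀ y z, g (y + z) = g y + g z := fun y z => map_add e₁ y z
  { toFun := g
    map_add' := hgadd
    map_smul' := fun s y => by
      change g (s • y) = s • g y
      induction y using TensorProduct.induction_on with
      | zero => rw [smul_zero, hg0, smul_zero]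
      | tmul s' x => rfl
      | add y z hy hz => rw [smul_add, hgadd, hgadd, hy, hz, smul_add]
    invFun := fun y => e₁.symm y
    left_inv := fun y => e₁.symm_apply_apply y
    right_inv := fun y => e₁.apply_symm_apply y }

/-- the comparison isomorphism -/
noncomputable def tensorIso (X : ModuleCat.{u} A) :
    ModuleCat.of (A ⧸ I) ((A ⧸ I) ⊗[A] X) ≅ (E I).obj X :=
  (tensorEquiv I X).toModuleIso

end Bridge

end Groth.Agent.Helper3.PcLift
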