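import Mathlib
import Groth.Agent.Lib.Helper3.PcLift
import Groth.Agent.Lib.Helper3.SplitCxRel

/-!
# Lifting bounded above acyclic complexes modulo an ideal
-/

namespace Groth.Agent.Helper3.PcLift

open CategoryTheory Limits Groth.Agent.Helper3.ProjLiftNil Groth.Agent.Helper3.SplitCx

universe v u

section General

variable {C : Type u} [Category.{v} C] [Preadditive C]

/-- two split kernels of the same morphism are canonically isomorphic -/
lemma iso_of_two_kernel_splittings {X₁ X₁' X₂ X₃ : C} (f : X₁ ⟶ X₂) (f' : X₁' ⟶ X₂) (g : X₂ ⟶ X₃)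
    (r : X₂ ⟶ X₁) (s : X₃ ⟶ X₂) (r' : X₂ ⟶ X₁') (s' : X₃ ⟶ X₂)
    (h0 : f ≫ g = 0) (h0' : f' ≫ g = 0) (h1 : f ≫ r = 𝟙 _) (h1' : f' ≫ r' = 𝟙 _)
    (h2 : r ≫ f + g ≫ s = 𝟙 _) (h2' : r' ≫ f' + g ≫ s' = 𝟙 _) :
    ∃ e : X₁ ≅ X₁', e.hom ≫ f' = f := by
  have hrf : r ≫ f = 𝟙 _ - g ≫ s := by rw [← h2, add_sub_cancel_right]
  have hrf' : r' ≫ f' = 𝟙 _ - g ≫ s' := by rw [← h2', add_sub_cancel_right]
  refine ⟨⟨f ≫ r', f' ≫ r, ?_, ?_⟩, ?_⟩
  · rw [Category.assoc, reassoc_of% hrf', Preadditive.sub_comp, Preadditive.comp_sub,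
      Category.id_comp, h1, Category.assoc, reassoc_of% h0, zero_comp, sub_zero]
  · rw [Category.assoc, reassoc_of% hrf, Preadditive.sub_comp, Preadditive.comp_sub,
      Category.id_comp, h1', Category.assoc, reassoc_of% h0', zero_comp, sub_zero]
  · change (f ≫ r') ≫ f' = f
    rw [Category.assoc, hrf', Preadditive.comp_sub, Category.comp_id, reassoc_of% h0, zero_comp,
      sub_zero]

end General

variable {A : Type u} [CommRing A] {I : Ideal A}

lemma projective_E_obj (X : ModuleCat.{u} A) [Module.Projective A X] :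
    Module.Projective (A ⧸ I) ((E I).obj X) := by
  have h1 : Projective X := ModuleCat.projective_of_categoryTheory_projective _
  have h2 : Projective ((E I).obj X) := (adj I).map_projective X h1
  exact ModuleCat.projective_of_module_projective _

variable {Pc : ObjectProperty (ModuleCat.{u} A)} (H : PcHyp I Pc)
  (N₀ : CochainComplex (ModuleCat.{u} (A ⧸ I)) ℤ)

/-- `P` is a lift in the class of the `i`-th cycles of `N₀` -/
def Good (i : ℤ) (P : ModuleCat.{u} A) : Prop :=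
  Pc P ∧ Nonempty ((E I).obj P ≅ Zc N₀ i)

include H in
/-- the inductive step: a lift of `Z^{i+1}` gives a complementary lift of `Z^i` -/
lemma good_step (hK : N₀.Acyclic) (hP : ∀ i, Module.Projective (A ⧸ I) (N₀.X i)) (b : ℤ)
    (hb : ∀ i : ℤ, b < i → IsZero (N₀.X i)) (i : ℤ)
    (hEt : ∃ X : ModuleCat.{u} A, Pc X ∧ Nonempty ((E I).obj X ≅ N₀.X i))
    (P₁ : ModuleCat.{u} A) (h₁ : Good (Pc := Pc) N₀ (i + 1) P₁) :
    ∃ P₀ : ModuleCat.{u} A, Good (Pc := Pc) N₀ i P₀ ∧ Pc (P₀ ⊞ P₁) := by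
  let S := splitData N₀ hK hP b hb
  obtain ⟨X, hX, ⟨θ⟩⟩ := hEt
  obtain ⟨hP₁, ⟨α₁'⟩⟩ := h₁
  let α₁ : (E I).obj P₁ ≅ S.Z (i + 1) := α₁'
  have hXp := H.projective hX
  obtain ⟨f, hf⟩ := exists_lift_hom I (θ.hom ≫ S.p i ≫ α₁.inv)
  have hfs : Function.Surjective ((E I).map f).hom := by
    rw [hf]
    have : IsSplitEpi (S.p i) := IsSplitEpi.mk' ⟨S.σ i, S.σ_p i⟩
    exact (ModuleCat.epi_iff_surjective _).1 inferInstance
  obtain ⟨Y', k, s, r, hY', hkf, hsf, hkr, htot⟩ := H.exists_split hX hP₁ f hfs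
  have hTkf : (E I).map k ≫ (E I).map f = 0 := by
    rw [← Functor.map_comp, hkf, Functor.map_zero]
  have hTkr : (E I).map k ≫ (E I).map r = 𝟙 _ := by
    rw [← Functor.map_comp, hkr, CategoryTheory.Functor.map_id]
  have hTtot : (E I).map r ≫ (E I).map k + (E I).map f ≫ (E I).map s = 𝟙 _ := by
    rw [← Functor.map_comp, ← Functor.map_comp, ← Functor.map_add, htot,
      CategoryTheory.Functor.map_id]
  obtain ⟨e, -⟩ := iso_of_two_kernel_splittings ((E I).map k) (S.ι i ≫ θ.inv) ((E I).map f)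
    ((E I).map r) ((E I).map s) (θ.hom ≫ S.ρ i) (α₁.hom ≫ S.σ i ≫ θ.inv) hTkf
    (by rw [hf, Category.assoc, Iso.inv_hom_id_assoc, reassoc_of% (S.ι_p i), zero_comp])
    hTkr (by rw [Category.assoc, Iso.inv_hom_id_assoc, S.ι_ρ])
    hTtot (by
      rw [hf]
      simp only [Category.assoc, Iso.inv_hom_id_assoc]
      rw [← Preadditive.comp_add, ← Category.assoc (S.ρ i), ← Category.assoc (S.p i),
        ← Preadditive.add_comp, S.total, Category.id_comp, Iso.hom_inv_id])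
  refine ⟨Y', ⟨hY', ⟨(e : (E I).obj Y' ≅ S.Z i)⟩⟩, ?_⟩
  let SC : ShortComplex (ModuleCat.{u} A) := ShortComplex.mk k f hkf
  let spl : SC.Splitting := { r := r, s := s, f_r := hkr, s_g := hsf, id := htot }
  exact H.iso spl.isoBinaryBiproduct hX

open Classical in
/-- the step function used to build the lifts of cycles by descending recursion -/
noncomputable def stepFun (i : ℤ) (P₁ : ModuleCat.{u} A) : ModuleCat.{u} A :=
  if h : ∃ P₀ : ModuleCat.{u} A, Good (Pc := Pc) N₀ i P₀ ∧ Pc (P₀ ⊞ P₁) then h.choose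
  else ModuleCat.of A PUnit.{u + 1}

lemma stepFun_spec (i : ℤ) (P₁ : ModuleCat.{u} A)
    (h : ∃ P₀ : ModuleCat.{u} A, Good (Pc := Pc) N₀ i P₀ ∧ Pc (P₀ ⊞ P₁)) :
    Good (Pc := Pc) N₀ i (stepFun (Pc := Pc) N₀ i P₁) ∧ Pc (stepFun (Pc := Pc) N₀ i P₁ ⊞ P₁) := by
  unfold stepFun
  rw [dif_pos h]
  exact h.choose_spec

/-- the lifts of the cycles, indexed by the distance to the top -/
noncomputable def seqP (b : ℤ) : ℕ → ModuleCat.{u} A
  | 0 => ModuleCat.of A PUnit.{u + 1}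
  | n + 1 => stepFun (Pc := Pc) N₀ (b + 1 - (n + 1 : ℕ)) (seqP b n)

include H in
lemma seqP_spec (hK : N₀.Acyclic) (hP : ∀ i, Module.Projective (A ⧸ I) (N₀.X i)) (b : ℤ)
    (hb : ∀ i : ℤ, b < i → IsZero (N₀.X i))
    (hEt : ∀ i, ∃ X : ModuleCat.{u} A, Pc X ∧ Nonempty ((E I).obj X ≅ N₀.X i)) (n : ℕ) :
    Good (Pc := Pc) N₀ (b + 1 - (n : ℕ)) (seqP (Pc := Pc) N₀ b n) ∧
      Pc (seqP (Pc := Pc) N₀ b (n + 1) ⊞ seqP (Pc := Pc) N₀ b n) := by
  have hgood : ∀ n : ℕ, Good (Pc := Pc) N₀ (b + 1 - (n : ℕ)) (seqP (Pc := Pc) N₀ b n) := by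
    intro n
    induction n with
    | zero =>
      obtain ⟨X₀, hX₀, -⟩ := hEt 0
      refine ⟨H.zero hX₀, ⟨IsZero.iso ?_ ?_⟩⟩
      · exact Functor.map_isZero _
          (ModuleCat.isZero_of_subsingleton (ModuleCat.of A PUnit.{u + 1}))
      · exact isZero_Zc N₀ _ (hb _ (by simp))
    | succ n ih =>
      have h1 : Good (Pc := Pc) N₀ (b + 1 - ((n + 1 : ℕ) : ℤ) + 1) (seqP (Pc := Pc) N₀ b n) := by
        have : b + 1 - ((n + 1 : ℕ) : ℤ) + 1 = b + 1 - (n : ℕ) := by push_cast; ring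
        rw [this]
        exact ih
      exact (stepFun_spec N₀ _ _ (good_step H N₀ hK hP b hb _ (hEt _) _ h1)).1
  refine ⟨hgood n, ?_⟩
  have h1 : Good (Pc := Pc) N₀ (b + 1 - ((n + 1 : ℕ) : ℤ) + 1) (seqP (Pc := Pc) N₀ b n) := by
    have : b + 1 - ((n + 1 : ℕ) : ℤ) + 1 = b + 1 - (n : ℕ) := by push_cast; ring
    rw [this]
    exact hgood n
  exact (stepFun_spec N₀ _ _ (good_step H N₀ hK hP b hb _ (hEt _) _ h1)).2

include H in
/-- **Lifting acyclic complexes** (elementary form). -/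
theorem exists_elem_lift (hK : N₀.Acyclic) (b : ℤ)
    (hb : ∀ i : ℤ, b < i → IsZero (N₀.X i))
    (hEt : ∀ i, ∃ X : ModuleCat.{u} A, Pc X ∧ Nonempty ((E I).obj X ≅ N₀.X i)) :
    ∃ P : ℤ → ModuleCat.{u} A, (∀ i, Pc (P i)) ∧ (∀ i, Pc ((elem P).X i)) ∧
      (∀ i, b < i → IsZero (P i)) ∧
      Nonempty (((E I).mapHomologicalComplex (ComplexShape.up ℤ)).obj (elem P) ≅ N₀) := by
  have hP : ∀ i, Module.Projective (A ⧸ I) (N₀.X i) := by
    intro i
    obtain ⟨X, hX, ⟨θ⟩⟩ := hEt i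
    have := H.proj X hX
    have := projective_E_obj (I := I) X
    exact Module.Projective.of_equiv θ.toLinearEquiv
  let P : ℤ → ModuleCat.{u} A := fun i => seqP (Pc := Pc) N₀ b (b + 1 - i).toNat
  have hspec := seqP_spec H N₀ hK hP b hb hEt
  have hP0 : ∀ i, b < i → P i = ModuleCat.of A PUnit.{u + 1} := by
    intro i hi
    have : (b + 1 - i).toNat = 0 := by omega
    change seqP (Pc := Pc) N₀ b (b + 1 - i).toNat = _
    rw [this]
    rfl
  obtain ⟨X₀, hX₀, -⟩ := hEt 0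
  have hgood : ∀ i, Good (Pc := Pc) N₀ i (P i) := by
    intro i
    by_cases hi : i ≤ b + 1
    · have h1 := (hspec (b + 1 - i).toNat).1
      have h2 : b + 1 - ((b + 1 - i).toNat : ℤ) = i := by omega
      rw [h2] at h1
      exact h1
    · rw [hP0 i (by omega)]
      refine ⟨H.zero hX₀, ⟨IsZero.iso ?_ ?_⟩⟩
      · exact Functor.map_isZero _
          (ModuleCat.isZero_of_subsingleton (ModuleCat.of A PUnit.{u + 1}))
      · exact isZero_Zc N₀ _ (hb _ (by omega))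
  have hsum : ∀ i, Pc (P i ⊞ P (i + 1)) := by
    intro i
    by_cases hi : i ≤ b
    · obtain ⟨m, hm⟩ : ∃ m : ℕ, (b + 1 - i).toNat = m + 1 := ⟨(b - i).toNat, by omega⟩
      have hm' : (b + 1 - (i + 1)).toNat = m := by omega
      have h1 := (hspec m).2
      change Pc (seqP (Pc := Pc) N₀ b (b + 1 - i).toNat ⊞
        seqP (Pc := Pc) N₀ b (b + 1 - (i + 1)).toNat)
      rw [hm, hm']
      exact h1
    · rw [hP0 i (by omega), hP0 (i + 1) (by omega)]
      refine H.of_isZero hX₀ ?_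
      rw [IsZero.iff_id_eq_zero]
      have hz : IsZero (ModuleCat.of A PUnit.{u + 1}) :=
        ModuleCat.isZero_of_subsingleton (ModuleCat.of A PUnit.{u + 1})
      rw [← biprod.total, hz.eq_of_tgt biprod.fst 0, hz.eq_of_tgt biprod.snd 0]
      simp
  refine ⟨P, fun i => (hgood i).1, hsum, fun i hi => ?_, ?_⟩
  · rw [hP0 i hi]
    exact ModuleCat.isZero_of_subsingleton (ModuleCat.of A PUnit.{u + 1})
  · exact ⟨isoOfSplitData (splitData N₀ hK hP b hb) (E I) P (fun i => (hgood i).2.some)⟩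

end Groth.Agent.Helper3.PcLift
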