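import Mathlib
import Groth.Agent.Lib.Helper3.PcAcyc
import Groth.Agent.Lib.Helper3.CxLiftEpi

/-!
# Lifting complexes modulo an ideal along quasi-isomorphisms (classes with Nakayama property)
-/

namespace Groth.Agent.Helper3.PcLift

open CategoryTheory Limits Groth.Agent.Helper3.ProjLiftNil Groth.Agent.Helper3.SplitCx
open Groth.Agent.Helper3.CxLift (iso_of_two_splittings)

universe u

variable {A : Type u} [CommRing A] (I : Ideal A)

/-- termwise reduction of complexes -/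
noncomputable abbrev TCE : CochainComplex (ModuleCat.{u} A) ℤ ⥤ CochainComplex (ModuleCat.{u} (A ⧸ I)) ℤ :=
  (E I).mapHomologicalComplex (ComplexShape.up ℤ)

variable {I} {Pc : ObjectProperty (ModuleCat.{u} A)} (H : PcHyp I Pc)

include H in
/-- splitting a short exact sequence `0 → K → T M → N → 0` with `N ≅ T X` and lifting `K` -/
lemma split_kernel_lift {M X : ModuleCat.{u} A} (hM : Pc M) (hX : Pc X)
    {N K : ModuleCat.{u} (A ⧸ I)} (θ : (E I).obj X ≅ N) (ι : K ⟶ (E I).obj M)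
    (ψ : (E I).obj M ⟶ N) (hψ : Epi ψ) (w : ι ≫ ψ = 0) (hex : (ShortComplex.mk ι ψ w).ShortExact) :
    ∃ (r : (E I).obj M ⟶ K) (s : N ⟶ (E I).obj M) (Y : ModuleCat.{u} A),
      ι ≫ r = 𝟙 _ ∧ s ≫ ψ = 𝟙 _ ∧ r ≫ ι + ψ ≫ s = 𝟙 _ ∧ Pc Y ∧ Nonempty ((E I).obj Y ≅ K) := by
  have := H.projective hM
  obtain ⟨f, hf⟩ := exists_lift_hom I (X := M) (Y := X) (ψ ≫ θ.inv)
  have hfs : Function.Surjective ((E I).map f).hom := by
    rw [hf]
    exact (ModuleCat.epi_iff_surjective _).1 (epi_comp ψ θ.inv)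
  obtain ⟨Y, k, s, r, hY, hkf, hsf, hkr, htot⟩ := H.exists_split hM hX f hfs
  have hf' : (E I).map f ≫ θ.hom = ψ := by rw [hf, Category.assoc, Iso.inv_hom_id,
    Category.comp_id]
  have hsec : (θ.inv ≫ (E I).map s) ≫ ψ = 𝟙 _ := by
    rw [← hf', Category.assoc, ← Functor.map_comp_assoc, hsf, CategoryTheory.Functor.map_id,
      Category.id_comp, Iso.inv_hom_id]
  let spl := ShortComplex.Splitting.ofExactOfSection _ hex.exact
    (θ.inv ≫ (E I).map s) hsec hex.mono_f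
  have hfr : ι ≫ spl.r = 𝟙 _ := spl.f_r
  have hsplid : spl.r ≫ ι + ψ ≫ (θ.inv ≫ (E I).map s) = 𝟙 _ := spl.id
  have hkψ : (E I).map k ≫ ψ = 0 := by
    rw [← hf', ← Functor.map_comp_assoc, hkf, Functor.map_zero, zero_comp]
  have hTkr : (E I).map k ≫ (E I).map r = 𝟙 _ := by
    rw [← Functor.map_comp, hkr, CategoryTheory.Functor.map_id]
  have hTtot : (E I).map r ≫ (E I).map k + ψ ≫ (θ.inv ≫ (E I).map s) = 𝟙 _ := by
    rw [← hf', Category.assoc, Iso.hom_inv_id_assoc, ← Functor.map_comp, ← Functor.map_comp,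
      ← Functor.map_add, htot, CategoryTheory.Functor.map_id]
  obtain ⟨e, -⟩ := iso_of_two_kernel_splittings ((E I).map k) ι ψ
    ((E I).map r) (θ.inv ≫ (E I).map s) spl.r (θ.inv ≫ (E I).map s) hkψ w hTkr hfr hTtot hsplid
  exact ⟨spl.r, θ.inv ≫ (E I).map s, Y, hfr, hsec, hsplid, hY, ⟨e⟩⟩

include H in
theorem exists_lift_of_epi (M : CochainComplex (ModuleCat.{u} A) ℤ)
    (N₀ : CochainComplex (ModuleCat.{u} (A ⧸ I)) ℤ)
    (hMc : ∀ i, Pc (M.X i)) (b : ℤ) (hb : ∀ i, b < i → IsZero (M.X i))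
    (hEt : ∀ i, ∃ X : ModuleCat.{u} A, Pc X ∧ Nonempty ((E I).obj X ≅ N₀.X i))
    (ψ : (TCE I).obj M ⟶ N₀) [QuasiIso ψ] (hψ : ∀ i, Epi (ψ.f i)) :
    ∃ (L : CochainComplex (ModuleCat.{u} A) ℤ) (c : M ⟶ L) (e : (TCE I).obj L ≅ N₀),
      (∀ i, Pc (L.X i)) ∧ (∀ i, ∃ s : L.X i ⟶ M.X i, s ≫ c.f i = 𝟙 _) ∧ QuasiIso c ∧
      (TCE I).map c ≫ e.hom = ψ := by
  have hMpc : ∀ i, Projective (M.X i) := fun i => H.projective (hMc i)
  -- Step 1: the kernel of ψ
  have hψe : Epi ψ := HomologicalComplex.epi_of_epi_f ψ hψ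
  let S₀ : ShortComplex (CochainComplex (ModuleCat.{u} (A ⧸ I)) ℤ) :=
    ShortComplex.mk (kernel.ι ψ) ψ (kernel.condition ψ)
  have hS₀ : S₀.ShortExact :=
    { exact := ShortComplex.exact_kernel ψ
      mono_f := inferInstanceAs (Mono (kernel.ι ψ))
      epi_g := hψe }
  have hK₀ac : (kernel ψ).Acyclic := hS₀.acyclic_X₁ (inferInstanceAs (QuasiIso ψ))
  have hS₀n : ∀ n : ℤ, (S₀.map (HomologicalComplex.eval _ (ComplexShape.up ℤ) n)).ShortExact :=
    fun n => hS₀.map_of_exact _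
  -- Step 2: splittings of the kernel sequence and lifts of the kernel terms
  have hspl₀ : ∀ n : ℤ, ∃ (r : ((TCE I).obj M).X n ⟶ (kernel ψ).X n)
      (s : N₀.X n ⟶ ((TCE I).obj M).X n) (Y : ModuleCat.{u} A),
      (kernel.ι ψ).f n ≫ r = 𝟙 _ ∧ s ≫ ψ.f n = 𝟙 _ ∧
        r ≫ (kernel.ι ψ).f n + ψ.f n ≫ s = 𝟙 _ ∧ Pc Y ∧ Nonempty ((E I).obj Y ≅ (kernel ψ).X n) := by
    intro n
    obtain ⟨X, hX, ⟨θ⟩⟩ := hEt n
    have hιψ : (kernel.ι ψ).f n ≫ ψ.f n = 0 := by
      rw [← HomologicalComplex.comp_f, kernel.condition]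
      rfl
    exact split_kernel_lift H (hMc n) hX θ ((kernel.ι ψ).f n) (ψ.f n) (hψ n) hιψ (hS₀n n)
  choose r₀ s₀ Y₀ hr₀ hs₀ hid₀ hY₀ hY₀iso using hspl₀
  have hK₀b : ∀ n, b < n → IsZero ((kernel ψ).X n) := by
    intro n hn
    have h0 : IsZero (((TCE I).obj M).X n) := Functor.map_isZero (E I) (hb n hn)
    have : Mono ((kernel.ι ψ).f n) := (hS₀n n).mono_f
    rw [IsZero.iff_id_eq_zero, ← cancel_mono ((kernel.ι ψ).f n)]
    exact h0.eq_of_tgt _ _
  -- Step 3: lift the kernel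
  obtain ⟨P', hP'c, hP'e, -, ⟨κ⟩⟩ := exists_elem_lift H (kernel ψ) hK₀ac b hK₀b
    (fun n => ⟨Y₀ n, hY₀ n, hY₀iso n⟩)
  have hP'p : ∀ i, Projective (P' i) := fun i => H.projective (hP'c i)
  let g : (TCE I).obj (elem P') ⟶ (TCE I).obj M := κ.hom ≫ kernel.ι ψ
  have hgf : ∀ n, g.f n = κ.hom.f n ≫ (kernel.ι ψ).f n := fun n => rfl
  have hgψ : ∀ n, g.f n ≫ ψ.f n = 0 := by
    intro n
    rw [hgf, Category.assoc, ← HomologicalComplex.comp_f, kernel.condition]
    simp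
  -- Step 4: lift g to a chain map
  have hw : ∀ i, ∃ w : P' (i + 1) ⟶ M.X i, (E I).map w = (E I).map (eInr P' i) ≫ g.f i :=
    fun i => exists_lift_hom I _
  choose w hw using hw
  let j : elem P' ⟶ M := diskMap w
  have hj : (TCE I).map j = g := by
    apply hom_ext_elem (E I)
    intro i
    rw [← hw i, ← inr_diskMap w i, Functor.map_comp]
    rfl
  have hjf : ∀ n, ((TCE I).map j).f n = κ.hom.f n ≫ (kernel.ι ψ).f n := fun n => by rw [hj, hgf]
  -- Step 5: j is termwise split mono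
  have hjr : ∀ i, ∃ r : M.X i ⟶ (elem P').X i, j.f i ≫ r = 𝟙 _ := by
    intro i
    have h2 : ((TCE I).map j).f i ≫ (r₀ i ≫ κ.inv.f i) = 𝟙 _ := by
      rw [hjf, Category.assoc, reassoc_of% (hr₀ i)]
      rw [← HomologicalComplex.comp_f, κ.hom_inv_id]
      rfl
    have := hMpc i
    exact H.exists_retraction (hP'e i) (j.f i) _ h2
  have hjm : Mono j := HomologicalComplex.mono_of_mono_f j (fun i => by
    obtain ⟨r, hr⟩ := hjr i
    exact mono_of_mono_fac hr)
  -- Step 6: the cokernel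
  let S₁ : ShortComplex (CochainComplex (ModuleCat.{u} A) ℤ) :=
    ShortComplex.mk j (cokernel.π j) (cokernel.condition j)
  have hS₁ : S₁.ShortExact :=
    { exact := ShortComplex.exact_cokernel j
      mono_f := hjm
      epi_g := inferInstanceAs (Epi (cokernel.π j)) }
  have hS₁n : ∀ n : ℤ, (S₁.map (HomologicalComplex.eval _ (ComplexShape.up ℤ) n)).ShortExact :=
    fun n => hS₁.map_of_exact _
  have hcq : QuasiIso (cokernel.π j) := quasiIso_g_of_acyclic_X₁ hS₁ (elem_acyclic P')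
  have hspl₁ : ∀ n : ℤ, ∃ (r : M.X n ⟶ (elem P').X n) (s : (cokernel j).X n ⟶ M.X n),
      j.f n ≫ r = 𝟙 _ ∧ s ≫ (cokernel.π j).f n = 𝟙 _ ∧
        r ≫ j.f n + (cokernel.π j).f n ≫ s = 𝟙 _ := by
    intro n
    obtain ⟨r, hr⟩ := hjr n
    let spl := ShortComplex.Splitting.ofExactOfRetraction _ (hS₁n n).exact r hr (hS₁n n).epi_g
    exact ⟨spl.r, spl.s, spl.f_r, spl.s_g, spl.id⟩
  choose r₁ s₁ hr₁ hs₁ hid₁ using hspl₁
  have hjc : ∀ n, j.f n ≫ (cokernel.π j).f n = 0 := by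
    intro n
    rw [← HomologicalComplex.comp_f, cokernel.condition]
    rfl
  -- Step 7: the isomorphisms
  have he : ∀ n : ℤ, ∃ e : ((TCE I).obj (cokernel j)).X n ≅ N₀.X n,
      ((TCE I).map (cokernel.π j)).f n ≫ e.hom = ψ.f n := by
    intro n
    refine iso_of_two_splittings (((TCE I).map j).f n) (((TCE I).map (cokernel.π j)).f n)
      ((E I).map (r₁ n)) ((E I).map (s₁ n))
      ((kernel.ι ψ).f n) (ψ.f n) (r₀ n) (s₀ n) ?_ ?_ (hid₀ n) (hs₀ n) ?_ ?_
    · have := congrArg (fun t => (E I).map t) (hid₁ n)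
      simp only [Functor.map_add, Functor.map_comp, CategoryTheory.Functor.map_id] at this
      exact this
    · have := congrArg (fun t => (E I).map t) (hs₁ n)
      simp only [Functor.map_comp, CategoryTheory.Functor.map_id] at this
      exact this
    · rw [hj]
      exact hgψ n
    · have h2 : (kernel.ι ψ).f n = κ.inv.f n ≫ ((TCE I).map j).f n := by
        rw [hjf, ← Category.assoc, ← HomologicalComplex.comp_f, κ.inv_hom_id,
          HomologicalComplex.id_f, Category.id_comp]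
      rw [h2, Category.assoc]
      have h3 : ((TCE I).map j).f n ≫ ((TCE I).map (cokernel.π j)).f n = 0 := by
        have := congrArg (fun t => (E I).map t) (hjc n)
        simp only [Functor.map_comp, Functor.map_zero] at this
        exact this
      rw [h3, comp_zero]
  choose e he using he
  have hTc : ∀ n, Epi (((TCE I).map (cokernel.π j)).f n) := by
    intro n
    have h2 : (E I).map (s₁ n) ≫ ((TCE I).map (cokernel.π j)).f n = 𝟙 _ := by
      have := congrArg (fun t => (E I).map t) (hs₁ n)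
      simp only [Functor.map_comp, CategoryTheory.Functor.map_id] at this
      exact this
    haveI : IsSplitEpi (((TCE I).map (cokernel.π j)).f n) :=
      IsSplitEpi.mk' ⟨(E I).map (s₁ n), h2⟩
    infer_instance
  refine ⟨cokernel j, cokernel.π j,
    HomologicalComplex.Hom.isoOfComponents e ?_, ?_, ?_, hcq, ?_⟩
  · rintro n m (rfl : n + 1 = m)
    have := hTc n
    rw [← cancel_epi (((TCE I).map (cokernel.π j)).f n)]
    rw [reassoc_of% (he n), ψ.comm n (n + 1), ← Category.assoc,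
      ((TCE I).map (cokernel.π j)).comm n (n + 1), Category.assoc, he (n + 1)]
  · intro n
    exact H.of_splitting (hP'e n) (hMc n) (j.f n) ((cokernel.π j).f n) (r₁ n) (s₁ n) (hr₁ n)
      (hs₁ n) (hjc n) (hid₁ n)
  · intro n
    exact ⟨s₁ n, hs₁ n⟩
  · refine HomologicalComplex.hom_ext _ _ (fun n => ?_)
    rw [HomologicalComplex.comp_f]
    exact he n

include H in
theorem exists_lift_general
    (hsum : ∀ X Y : ModuleCat.{u} A, Pc X → Pc Y → Pc (X ⊞ Y))
    (M : CochainComplex (ModuleCat.{u} A) ℤ) (N₀ : CochainComplex (ModuleCat.{u} (A ⧸ I)) ℤ)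
    (hMc : ∀ i, Pc (M.X i)) (b : ℤ) (hb : ∀ i, b < i → IsZero (M.X i))
    (hN0 : ∀ i, b < i → IsZero (N₀.X i))
    (hEt : ∀ i, ∃ X : ModuleCat.{u} A, Pc X ∧ Nonempty ((E I).obj X ≅ N₀.X i))
    (ψ : (TCE I).obj M ⟶ N₀) [QuasiIso ψ] :
    ∃ (L : CochainComplex (ModuleCat.{u} A) ℤ) (φ : M ⟶ L) (e : (TCE I).obj L ≅ N₀),
      (∀ i, Pc (L.X i)) ∧ (∀ i, b + 1 < i → IsZero (L.X i)) ∧ QuasiIso φ ∧
      (TCE I).map φ ≫ e.hom = ψ := by
  obtain ⟨X₀, hX₀, -⟩ := hEt 0
  -- Step 1: the auxiliary modules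
  have hex : ∀ j : ℤ, ∃ (P : ModuleCat.{u} A) (u : (E I).obj P ⟶ N₀.X (j - 1)),
      Pc P ∧ Epi u ∧ (IsZero (N₀.X (j - 1)) → IsZero P) := by
    intro j
    by_cases h0 : IsZero (N₀.X (j - 1))
    · refine ⟨ModuleCat.of A PUnit.{u + 1}, 0, H.zero hX₀, ?_, fun _ =>
        ModuleCat.isZero_of_subsingleton (ModuleCat.of A PUnit.{u + 1})⟩
      exact ⟨fun f g _ => h0.eq_of_src _ _⟩
    · obtain ⟨X, hX, ⟨θ⟩⟩ := hEt (j - 1)
      exact ⟨X, θ.hom, hX, inferInstance, fun h => absurd h h0⟩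
  choose P u hPc hu hP0 using hex
  let w : ∀ i, (E I).obj (P (i + 1)) ⟶ N₀.X i := fun i =>
    u (i + 1) ≫ (N₀.XIsoOfEq (show i + 1 - 1 = i by ring)).hom
  have hw : ∀ i, Epi (w i) := fun i => by
    have := hu (i + 1)
    exact epi_comp _ _
  let q : (TCE I).obj (elem P) ⟶ N₀ := diskMapE (E I) w
  have hq : ∀ i, (E I).map (eInr P i) ≫ q.f i = w i := fun i => inr_diskMapE (E I) w i
  have hqe : ∀ i, Epi (q.f i) := fun i => by
    have := hw i
    exact epi_of_epi_fac (hq i)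
  -- Step 2: the enlarged complex
  let M' : CochainComplex (ModuleCat.{u} A) ℤ := M ⊞ elem P
  let ψ' : (TCE I).obj M' ⟶ N₀ :=
    (TCE I).map (biprod.fst : M' ⟶ M) ≫ ψ + (TCE I).map (biprod.snd : M' ⟶ elem P) ≫ q
  have hinlψ' : (TCE I).map (biprod.inl : M ⟶ M') ≫ ψ' = ψ := by
    change (TCE I).map (biprod.inl : M ⟶ M') ≫ ((TCE I).map (biprod.fst : M' ⟶ M) ≫ ψ +
      (TCE I).map (biprod.snd : M' ⟶ elem P) ≫ q) = ψ
    rw [Preadditive.comp_add, ← Functor.map_comp_assoc, ← Functor.map_comp_assoc, biprod.inl_fst,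
      biprod.inl_snd, CategoryTheory.Functor.map_id, Functor.map_zero, Category.id_comp,
      zero_comp, add_zero]
  have hinrψ' : (TCE I).map (biprod.inr : elem P ⟶ M') ≫ ψ' = q := by
    change (TCE I).map (biprod.inr : elem P ⟶ M') ≫ ((TCE I).map (biprod.fst : M' ⟶ M) ≫ ψ +
      (TCE I).map (biprod.snd : M' ⟶ elem P) ≫ q) = q
    rw [Preadditive.comp_add, ← Functor.map_comp_assoc, ← Functor.map_comp_assoc, biprod.inr_fst,
      biprod.inr_snd, CategoryTheory.Functor.map_id, Functor.map_zero, Category.id_comp,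
      zero_comp, zero_add]
  have hψ'e : ∀ i, Epi (ψ'.f i) := by
    intro i
    have := hqe i
    have h1 : ((TCE I).map (biprod.inr : elem P ⟶ M')).f i ≫ ψ'.f i = q.f i := by
      rw [← HomologicalComplex.comp_f, hinrψ']
    exact epi_of_epi_fac h1
  -- quasi-isomorphisms
  let spl : (ShortComplex.mk (biprod.inl : M ⟶ M') (biprod.snd : M' ⟶ elem P)
      (by simp)).Splitting := ShortComplex.Splitting.ofHasBinaryBiproduct M (elem P)
  have hinl : QuasiIso (biprod.inl : M ⟶ M') :=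
    quasiIso_f_of_acyclic_X₃ spl.shortExact (elem_acyclic P)
  have hTinl : QuasiIso ((TCE I).map (biprod.inl : M ⟶ M')) :=
    quasiIso_f_of_acyclic_X₃ (spl.map (TCE I)).shortExact (map_elem_acyclic (E I) P)
  have hψ'q : QuasiIso ψ' := by
    have : QuasiIso ((TCE I).map (biprod.inl : M ⟶ M') ≫ ψ') := by rw [hinlψ']; infer_instance
    exact quasiIso_of_comp_left ((TCE I).map (biprod.inl : M ⟶ M')) ψ'
  -- properties of M'
  have hPe : ∀ i, Pc ((elem P).X i) := fun i => hsum _ _ (hPc i) (hPc (i + 1))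
  have hM'c : ∀ i, Pc (M'.X i) := fun i =>
    H.iso (HomologicalComplex.biprodXIso M (elem P) i).symm (hsum _ _ (hMc i) (hPe i))
  have hM'0 : ∀ i, b + 1 < i → IsZero (M'.X i) := by
    intro i hi
    refine IsZero.of_iso ?_ (HomologicalComplex.biprodXIso M (elem P) i)
    have h1 : IsZero (M.X i) := hb i (by omega)
    have h2 : IsZero ((elem P).X i) :=
      elem_isZero P i (hP0 i (hN0 _ (by omega))) (hP0 (i + 1) (hN0 _ (by omega)))
    rw [IsZero.iff_id_eq_zero, ← biprod.total, h1.eq_of_tgt biprod.fst 0,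
      h2.eq_of_tgt biprod.snd 0]
    simp
  -- Step 3: apply the epi case
  obtain ⟨L, c, e, hLc, hcs, hcq, hce⟩ := exists_lift_of_epi H M' N₀ hM'c (b + 1) hM'0 hEt ψ' hψ'e
  refine ⟨L, biprod.inl ≫ c, e, hLc, ?_, inferInstance, ?_⟩
  · intro i hi
    obtain ⟨s, hs⟩ := hcs i
    rw [IsZero.iff_id_eq_zero, ← hs]
    rw [(hM'0 i hi).eq_of_tgt s 0, zero_comp]
  · rw [Functor.map_comp, Category.assoc, hce, hinlψ']

end Groth.Agent.Helper3.PcLift
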