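import Mathlib
import Groth.Agent.Lib.Helper3.PcAcyc

namespace Groth.Agent.Helper3.PcLift

open CategoryTheory Limits Groth.Agent.Helper3.ProjLiftNil Groth.Agent.Helper3.SplitCx

universe u

lemma pcHyp_of {R : Type u} [CommRing R] (I : Ideal R)
    (Pc : ObjectProperty (ModuleCat.{u} R)) [Pc.IsClosedUnderIsomorphisms]
    (h1 : ∀ X : ModuleCat.{u} R, Pc X → Module.Projective R X)
    (h2 : ∀ X Y : ModuleCat.{u} R, Pc X → Pc (ModuleCat.of R (X × Y)) → Pc Y)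
    (h3 : ∀ (X Y : ModuleCat.{u} R) (f : X ⟶ Y), Pc X → Pc Y →
      LinearMap.range f.hom ⊔ I • (⊤ : Submodule R Y) = ⊤ → Function.Surjective f.hom) :
    PcHyp I Pc where
  iso := fun e hX => Pc.prop_of_iso e hX
  proj := h1
  cancel := h2
  surj := h3

lemma hEt_convert {R : Type u} [CommRing R] (I : Ideal R)
    (Pc : ObjectProperty (ModuleCat.{u} R)) (N₀ : CochainComplex (ModuleCat.{u} (R ⧸ I)) ℤ)
    (hEt : ∀ i : ℤ, ∃ X : ModuleCat.{u} R, Pc X ∧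
      Nonempty (TensorProduct R (R ⧸ I) X ≃ₗ[R ⧸ I] N₀.X i)) :
    ∀ i, ∃ X : ModuleCat.{u} R, Pc X ∧ Nonempty ((E I).obj X ≅ N₀.X i) := by
  intro i
  obtain ⟨X, hX, ⟨e⟩⟩ := hEt i
  exact ⟨X, hX, ⟨(tensorIso I X).symm ≪≫ e.toModuleIso⟩⟩

theorem main_S7012 (R : Type u) [CommRing R] (I : Ideal R)
    (Pc : ObjectProperty (ModuleCat.{u} R)) [Pc.IsClosedUnderIsomorphisms]
    (h1 : ∀ X : ModuleCat.{u} R, Pc X → Module.Projective R X)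
    (h2 : ∀ X Y : ModuleCat.{u} R, Pc X → Pc (ModuleCat.of R (X × Y)) → Pc Y)
    (h3 : ∀ (X Y : ModuleCat.{u} R) (f : X ⟶ Y), Pc X → Pc Y →
      LinearMap.range f.hom ⊔ I • (⊤ : Submodule R Y) = ⊤ → Function.Surjective f.hom)
    (N₀ : CochainComplex (ModuleCat.{u} (R ⧸ I)) ℤ) (b : ℤ)
    (hEb : ∀ i : ℤ, b < i → IsZero (N₀.X i)) (hEa : N₀.Acyclic)
    (hEt : ∀ i : ℤ, ∃ X : ModuleCat.{u} R, Pc X ∧
      Nonempty (TensorProduct R (R ⧸ I) X ≃ₗ[R ⧸ I] N₀.X i)) :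
    ∃ (P : CochainComplex (ModuleCat.{u} R) ℤ) (b' : ℤ), (∀ i : ℤ, b' < i → IsZero (P.X i)) ∧
      P.Acyclic ∧ (∀ i : ℤ, Pc (P.X i)) ∧
      Nonempty ((((ModuleCat.extendScalars (Ideal.Quotient.mk I)).mapHomologicalComplex
        (ComplexShape.up ℤ)).obj P) ≅ N₀) := by
  have H := pcHyp_of I Pc h1 h2 h3
  obtain ⟨P, -, hP2, hP0, hiso⟩ := exists_elem_lift H N₀ hEa b hEb (hEt_convert I Pc N₀ hEt)
  exact ⟨elem P, b, fun i hi => elem_isZero P i (hP0 i hi) (hP0 (i + 1) (by omega)),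
    elem_acyclic P, hP2, hiso⟩

end Groth.Agent.Helper3.PcLift
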