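import Mathlib
import Groth.Prelude.Def_DDual2
import Groth.Agent.Lib.Helper3.PcCx
import Groth.Agent.Lib.Helper3.S7012Lib
import Groth.Agent.Lib.Helper5.KProj.Tri

/-!
# Lifting complexes modulo an ideal: derived category form
-/

namespace Groth.Agent.Helper3.PcLift

open CategoryTheory Limits Groth.Agent.Helper3.ProjLiftNil Groth.Agent.Helper3.SplitCx
open DerivedCategory

universe u

attribute [local instance] HasDerivedCategory.standard

variable {R : Type u} [CommRing R] (I : Ideal R)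

/-- a bounded above complex of projectives is K-projective -/
lemma isKProjective_of_bdd (P : CochainComplex (ModuleCat.{u} R) ℤ) (c : ℤ)
    (hc : ∀ i : ℤ, c < i → IsZero (P.X i)) (hp : ∀ i, Module.Projective R (P.X i)) :
    P.IsKProjective := by
  have : P.IsStrictlyLE c := Groth.Agent.Helper5.TorAmp.isStrictlyLE_of_vanishesAbove hc
  have : ∀ n, Projective (P.X n) := fun n => by
    have := hp n
    exact ModuleCat.projective_of_categoryTheory_projective _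
  exact CochainComplex.isKProjective_of_projective P c

/-- the derived-category form of the lifting theorem -/
theorem lift_derived [DRing.HasLBaseChange (Ideal.Quotient.mk I)]
    {Pc : ObjectProperty (ModuleCat.{u} R)} (H : PcHyp I Pc)
    (hsum : ∀ X Y : ModuleCat.{u} R, Pc X → Pc Y → Pc (X ⊞ Y))
    (K : Dual.D R) (Q₀ : CochainComplex (ModuleCat.{u} R) ℤ) (c : ℤ)
    (hQc : ∀ i : ℤ, c < i → IsZero (Q₀.X i)) (hQt : ∀ i, Pc (Q₀.X i))
    (eK : DRing.toD Q₀ ≅ K)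
    (N₀ : CochainComplex (ModuleCat.{u} (R ⧸ I)) ℤ) (b : ℤ)
    (hEb : ∀ i : ℤ, b < i → IsZero (N₀.X i))
    (hEt : ∀ i, ∃ X : ModuleCat.{u} R, Pc X ∧ Nonempty ((E I).obj X ≅ N₀.X i))
    (hE : DRing.toD N₀ ≅ (DRing.LBaseChange (Ideal.Quotient.mk I)).obj K) :
    ∃ (P : CochainComplex (ModuleCat.{u} R) ℤ) (b' : ℤ), (∀ i : ℤ, b' < i → IsZero (P.X i)) ∧
      (∀ i : ℤ, Pc (P.X i)) ∧ Nonempty (DRing.toD P ≅ K) ∧
      Nonempty ((((ModuleCat.extendScalars (Ideal.Quotient.mk I)).mapHomologicalComplex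
        (ComplexShape.up ℤ)).obj P) ≅ N₀) := by
  haveI : Q₀.IsKProjective := isKProjective_of_bdd Q₀ c hQc (fun i => H.proj _ (hQt i))
  haveI : ((TCE I).obj Q₀).IsKProjective := by
    refine isKProjective_of_bdd _ c (fun i hi => Functor.map_isZero (E I) (hQc i hi)) (fun i => ?_)
    have := H.proj _ (hQt i)
    exact projective_E_obj (I := I) (Q₀.X i)
  let ι : DRing.toD ((TCE I).obj Q₀) ≅ DRing.toD N₀ :=
    (Groth.Agent.Lib.Helper5.KProj.lbcIso (Ideal.Quotient.mk I) Q₀).symm ≪≫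
      (DRing.LBaseChange (Ideal.Quotient.mk I)).mapIso eK ≪≫ hE.symm
  obtain ⟨ψ, hψ⟩ := Groth.Agent.Helper5.DRingCone.exists_chain_map ((TCE I).obj Q₀) N₀ ι.hom
  haveI : QuasiIso ψ := by
    rw [← DerivedCategory.isIso_Q_map_iff_quasiIso, hψ]
    infer_instance
  let b₀ := max c b
  obtain ⟨L, φ, e, hLc, hL0, hφ, -⟩ := exists_lift_general H hsum Q₀ N₀ hQt b₀
    (fun i hi => hQc i (lt_of_le_of_lt (le_max_left c b) hi))
    (fun i hi => hEb i (lt_of_le_of_lt (le_max_right c b) hi)) hEt ψ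
  have : IsIso (Q.map φ) := by
    rw [DerivedCategory.isIso_Q_map_iff_quasiIso]
    exact hφ
  exact ⟨L, b₀ + 1, hL0, hLc, ⟨(asIso (Q.map φ)).symm ≪≫ eK⟩, ⟨e⟩⟩

theorem main_S7013 (R : Type u) [CommRing R] (I : Ideal R)
    [DRing.HasLBaseChange (Ideal.Quotient.mk I)]
    (Pc : ObjectProperty (ModuleCat.{u} R)) [Pc.IsClosedUnderIsomorphisms]
    (h1 : ∀ X : ModuleCat.{u} R, Pc X → Module.Projective R X)
    (h2 : ∀ X Y : ModuleCat.{u} R, Pc X → (Pc (ModuleCat.of R (X × Y)) ↔ Pc Y))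
    (h3 : ∀ (X Y : ModuleCat.{u} R) (f : X ⟶ Y), Pc X → Pc Y →
      LinearMap.range f.hom ⊔ I • (⊤ : Submodule R Y) = ⊤ → Function.Surjective f.hom)
    (K : Dual.D R) (hK : ∃ (Q : DRing.Cx R) (c : ℤ), DRing.VanishesAbove Q c ∧
      (∀ i : ℤ, Pc (Q.X i)) ∧ Nonempty (DRing.toD Q ≅ K))
    (N₀ : DRing.Cx (R ⧸ I)) (b : ℤ) (hEb : DRing.VanishesAbove N₀ b)
    (hEt : ∀ i : ℤ, ∃ X : ModuleCat.{u} R, Pc X ∧
      Nonempty (TensorProduct R (R ⧸ I) X ≃ₗ[R ⧸ I] N₀.X i))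
    (hE : Nonempty (DRing.toD N₀ ≅ (DRing.LBaseChange (Ideal.Quotient.mk I)).obj K)) :
    ∃ (P : DRing.Cx R) (b' : ℤ), DRing.VanishesAbove P b' ∧ (∀ i : ℤ, Pc (P.X i)) ∧
      Nonempty (DRing.toD P ≅ K) ∧
      Nonempty ((((ModuleCat.extendScalars (Ideal.Quotient.mk I)).mapHomologicalComplex
        (ComplexShape.up ℤ)).obj P) ≅ N₀) := by
  obtain ⟨Q₀, c, hQc, hQt, ⟨eK⟩⟩ := hK
  have H : PcHyp I Pc := pcHyp_of I Pc h1 (fun X Y hX h => (h2 X Y hX).1 h) h3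
  have hsum : ∀ X Y : ModuleCat.{u} R, Pc X → Pc Y → Pc (X ⊞ Y) := fun X Y hX hY =>
    Pc.prop_of_iso (ModuleCat.biprodIsoProd X Y).symm ((h2 X Y hX).2 hY)
  exact lift_derived I H hsum K Q₀ c hQc hQt eK N₀ b hEb (hEt_convert I Pc N₀ hEt) hE.some

end Groth.Agent.Helper3.PcLift
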