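import Mathlib
import Groth.Agent.Lib.Helper3.PcDer

/-!
# Lifting finitely generated stably free modules modulo an ideal in the Jacobson radical
-/

namespace Groth.Agent.Helper3.StabFree

open CategoryTheory Limits Groth.Agent.Helper3.ProjLiftNil Groth.Agent.Helper3.PcLift
open TensorProduct

universe u

variable {A : Type u} [CommRing A]

/-- the class of finitely generated stably free modules -/
def Psf : ObjectProperty (ModuleCat.{u} A) :=
  fun X => Module.Finite A X ∧ Module.IsStablyFree A X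

section Modules

variable (X Y : Type u) [AddCommGroup X] [Module A X] [AddCommGroup Y] [Module A Y]

/-- a reshuffling of a product of four modules -/
def shuffle (N₁ N₂ : Type u) [AddCommGroup N₁] [Module A N₁] [AddCommGroup N₂] [Module A N₂] :
    (((X × Y) × N₂) × N₁) ≃ₗ[A] (Y × ((X × N₁) × N₂)) where
  toFun := fun p => (p.1.1.2, ((p.1.1.1, p.2), p.1.2))
  map_add' := fun _ _ => rfl
  map_smul' := fun _ _ => rfl
  invFun := fun q => (((q.2.1.1, q.1), q.2.2), q.2.1.2)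
  left_inv := fun _ => rfl
  right_inv := fun _ => rfl

lemma isStablyFree_of_prod [Module.Finite A X] [Module.IsStablyFree A X]
    [Module.IsStablyFree A (X × Y)] : Module.IsStablyFree A Y := by
  obtain ⟨N₁, _, _, _, _, _⟩ := Module.IsStablyFree.exist_free_prod A X
  obtain ⟨N₂, _, _, _, _, _⟩ := Module.IsStablyFree.exist_free_prod A (X × Y)
  haveI : Module.Free A ((X × N₁) × N₂) := inferInstance
  haveI : Module.Finite A ((X × N₁) × N₂) := inferInstance
  haveI : Module.Free A (((X × Y) × N₂) × N₁) := inferInstance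
  haveI : Module.Free A (Y × ((X × N₁) × N₂)) := Module.Free.of_equiv (shuffle X Y N₁ N₂)
  exact Module.IsStablyFree.of_free_prod A Y ((X × N₁) × N₂)

lemma isStablyFree_prod [Module.IsStablyFree A X] [Module.IsStablyFree A Y] :
    Module.IsStablyFree A (X × Y) := by
  obtain ⟨N₁, _, _, _, _, _⟩ := Module.IsStablyFree.exist_free_prod A X
  obtain ⟨N₂, _, _, _, _, _⟩ := Module.IsStablyFree.exist_free_prod A Y
  haveI : Module.Free A ((X × N₁) × (Y × N₂)) := inferInstance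
  haveI : Module.Free A ((X × Y) × (N₁ × N₂)) :=
    Module.Free.of_equiv (LinearEquiv.prodProdProdComm A X Y N₁ N₂).symm
  exact Module.IsStablyFree.of_free_prod A (X × Y) (N₁ × N₂)

end Modules

variable (I : Ideal A)

/-- the class of finitely generated stably free modules satisfies the lifting hypotheses when `I`
is contained in the Jacobson radical -/
lemma pcHyp_sf (hI : I ≤ Ideal.jacobson (⊥ : Ideal A)) : PcHyp I (Psf (A := A)) where
  iso := fun e hX => by
    obtain ⟨h1, h2⟩ := hX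
    exact ⟨Module.Finite.equiv e.toLinearEquiv, Module.IsStablyFree.equiv e.toLinearEquiv⟩
  proj := fun X hX => by
    obtain ⟨h1, h2⟩ := hX
    infer_instance
  cancel := fun X Y hX hXY => by
    obtain ⟨h1, h2⟩ := hX
    obtain ⟨h3, h4⟩ := hXY
    have h3' : Module.Finite A (X × Y) := h3
    have h4' : Module.IsStablyFree A (X × Y) := h4
    exact ⟨Module.Finite.of_surjective (LinearMap.snd A X Y) LinearMap.snd_surjective,
      isStablyFree_of_prod X Y⟩
  surj := fun X Y f _ hY h => by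
    obtain ⟨h1, h2⟩ := hY
    rw [← LinearMap.range_eq_top, eq_top_iff]
    exact Submodule.le_of_le_smul_of_le_jacobson_bot Module.Finite.fg_top hI (by rw [h])

lemma psf_biprod (X Y : ModuleCat.{u} A) (hX : Psf X) (hY : Psf Y) : Psf (X ⊞ Y) := by
  obtain ⟨h1, h2⟩ := hX
  obtain ⟨h3, h4⟩ := hY
  have : Module.IsStablyFree A (X × Y) := isStablyFree_prod X Y
  have : Module.Finite A (X × Y) := inferInstance
  exact ⟨Module.Finite.equiv (ModuleCat.biprodIsoProd X Y).symm.toLinearEquiv,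
    Module.IsStablyFree.equiv (ModuleCat.biprodIsoProd X Y).symm.toLinearEquiv⟩

lemma psf_of_free (X : ModuleCat.{u} A) [Module.Finite A X] [Module.Free A X] : Psf X :=
  ⟨inferInstance, inferInstance⟩

/-- the reduction of a standard free module -/
noncomputable def freeIso (ι : Type u) [Fintype ι] [DecidableEq ι] :
    (E I).obj (ModuleCat.of A (ι → A)) ≅ ModuleCat.of (A ⧸ I) (ι → A ⧸ I) :=
  (tensorIso I (ModuleCat.of A (ι → A))).symm ≪≫
    (TensorProduct.piScalarRight A (A ⧸ I) (A ⧸ I) ι).toModuleIso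

/-- finite free modules lift -/
lemma exists_free_lift (M : ModuleCat.{u} (A ⧸ I)) [Module.Finite (A ⧸ I) M]
    [Module.Free (A ⧸ I) M] :
    ∃ X : ModuleCat.{u} A, Module.Finite A X ∧ Module.Free A X ∧ Nonempty ((E I).obj X ≅ M) := by
  classical
  let ι := Module.Free.ChooseBasisIndex (A ⧸ I) M
  let bs := Module.Free.chooseBasis (A ⧸ I) M
  exact ⟨ModuleCat.of A (ι → A), inferInstance, inferInstance,
    ⟨freeIso I ι ≪≫ bs.equivFun.symm.toModuleIso⟩⟩

variable {I}

/-- finitely generated stably free modules lift -/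
lemma exists_lift_sf (H : PcHyp I (Psf (A := A))) (E₀ : ModuleCat.{u} (A ⧸ I))
    [Module.Finite (A ⧸ I) E₀] [Module.IsStablyFree (A ⧸ I) E₀] :
    ∃ X : ModuleCat.{u} A, Psf X ∧ Nonempty ((E I).obj X ≅ E₀) := by
  obtain ⟨N, _, _, _, _, _⟩ := Module.IsStablyFree.exist_free_prod (A ⧸ I) E₀
  let F₀ : ModuleCat.{u} (A ⧸ I) := ModuleCat.of (A ⧸ I) (E₀ × N)
  let N' : ModuleCat.{u} (A ⧸ I) := ModuleCat.of (A ⧸ I) N
  haveI : Module.Finite (A ⧸ I) F₀ := inferInstanceAs (Module.Finite (A ⧸ I) (E₀ × N))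
  haveI : Module.Free (A ⧸ I) F₀ := inferInstanceAs (Module.Free (A ⧸ I) (E₀ × N))
  haveI : Module.Finite (A ⧸ I) N' := inferInstanceAs (Module.Finite (A ⧸ I) N)
  haveI : Module.Free (A ⧸ I) N' := inferInstanceAs (Module.Free (A ⧸ I) N)
  obtain ⟨XF, hXF1, hXF2, ⟨eF⟩⟩ := exists_free_lift I F₀
  obtain ⟨XN, hXN1, hXN2, ⟨eN⟩⟩ := exists_free_lift I N'
  let i₀ : E₀ ⟶ F₀ := ModuleCat.ofHom (LinearMap.inl (A ⧸ I) E₀ N)
  let p₀ : F₀ ⟶ N' := ModuleCat.ofHom (LinearMap.snd (A ⧸ I) E₀ N)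
  let r₀ : F₀ ⟶ E₀ := ModuleCat.ofHom (LinearMap.fst (A ⧸ I) E₀ N)
  let s₀ : N' ⟶ F₀ := ModuleCat.ofHom (LinearMap.inr (A ⧸ I) E₀ N)
  have hip : i₀ ≫ p₀ = 0 := by
    apply ModuleCat.hom_ext; apply LinearMap.ext; intro x; rfl
  have hir : i₀ ≫ r₀ = 𝟙 _ := by
    apply ModuleCat.hom_ext; apply LinearMap.ext; intro x; rfl
  have hsp : s₀ ≫ p₀ = 𝟙 _ := by
    apply ModuleCat.hom_ext; apply LinearMap.ext; intro x; rfl
  have htot₀ : r₀ ≫ i₀ + p₀ ≫ s₀ = 𝟙 _ := by
    apply ModuleCat.hom_ext; apply LinearMap.ext; rintro ⟨x, y⟩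
    change ((x, (0 : N)) : E₀ × N) + ((0 : E₀), y) = (x, y)
    simp
  let p' : (E I).obj XF ⟶ (E I).obj XN := eF.hom ≫ p₀ ≫ eN.inv
  have hXFp' : Module.Projective A XF := Module.Projective.of_free
  have hXFp : Projective XF := ModuleCat.projective_of_categoryTheory_projective _
  obtain ⟨p, hp⟩ := exists_lift_hom I p'
  have hp'epi : Epi p' := by
    have : IsSplitEpi p₀ := IsSplitEpi.mk' ⟨s₀, hsp⟩
    infer_instance
  have hsurj : Function.Surjective ((E I).map p).hom := by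
    rw [hp]
    exact (ModuleCat.epi_iff_surjective _).1 hp'epi
  obtain ⟨Y', k, s, r, hY', hkf, hsf, hkr, htot⟩ :=
    H.exists_split (psf_of_free XF) (psf_of_free XN) p hsurj
  obtain ⟨e, -⟩ := iso_of_two_kernel_splittings ((E I).map k) (i₀ ≫ eF.inv) p' ((E I).map r)
    ((E I).map s) (eF.hom ≫ r₀) (eN.hom ≫ s₀ ≫ eF.inv)
    (by rw [← hp, ← Functor.map_comp, hkf, Functor.map_zero])
    (by
      change (i₀ ≫ eF.inv) ≫ eF.hom ≫ p₀ ≫ eN.inv = 0
      rw [Category.assoc, Iso.inv_hom_id_assoc, reassoc_of% hip, zero_comp])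
    (by rw [← Functor.map_comp, hkr, CategoryTheory.Functor.map_id])
    (by rw [Category.assoc, Iso.inv_hom_id_assoc, hir])
    (by rw [← hp, ← Functor.map_comp, ← Functor.map_comp, ← Functor.map_add, htot,
      CategoryTheory.Functor.map_id])
    (by
      change (eF.hom ≫ r₀) ≫ i₀ ≫ eF.inv + (eF.hom ≫ p₀ ≫ eN.inv) ≫ eN.hom ≫ s₀ ≫ eF.inv = 𝟙 _
      have : (eF.hom ≫ r₀) ≫ i₀ ≫ eF.inv + (eF.hom ≫ p₀ ≫ eN.inv) ≫ eN.hom ≫ s₀ ≫ eF.inv =
          eF.hom ≫ (r₀ ≫ i₀ + p₀ ≫ s₀) ≫ eF.inv := by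
        simp only [Category.assoc, Iso.inv_hom_id_assoc, Preadditive.add_comp,
          Preadditive.comp_add]
      rw [this, htot₀, Category.id_comp, Iso.hom_inv_id])
  exact ⟨Y', hY', ⟨e⟩⟩

/-- a module in the class whose reduction is free is free -/
lemma free_of_free_E (H : PcHyp I (Psf (A := A))) (X : ModuleCat.{u} A) (hX : Psf X)
    (M : ModuleCat.{u} (A ⧸ I)) [Module.Finite (A ⧸ I) M] [Module.Free (A ⧸ I) M]
    (e : (E I).obj X ≅ M) : Module.Free A X := by
  obtain ⟨XF, hXF1, hXF2, ⟨eF⟩⟩ := exists_free_lift I M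
  have hXFp' : Module.Projective A XF := Module.Projective.of_free
  have hXFp : Projective XF := ModuleCat.projective_of_categoryTheory_projective _
  obtain ⟨f, hf⟩ := exists_lift_hom I (eF.hom ≫ e.inv)
  have : IsIso f := H.isIso_of_map_isIso (psf_of_free XF) hX f (by rw [hf]; infer_instance)
  exact Module.Free.of_equiv (asIso f).toLinearEquiv

attribute [local instance] HasDerivedCategory.standard

theorem main_S7011 (R : Type u) [CommRing R] (I : Ideal R)
    (hI : I ≤ Ideal.jacobson (⊥ : Ideal R)) [DRing.HasLBaseChange (Ideal.Quotient.mk I)]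
    (K : Dual.D R) (hK : DRing.IsPseudoCoherent' R K) (N₀ : DRing.Cx (R ⧸ I)) (b : ℤ)
    (hEb : DRing.VanishesAbove N₀ b)
    (hEs : ∀ i : ℤ, Module.Finite (R ⧸ I) (N₀.X i) ∧ Module.IsStablyFree (R ⧸ I) (N₀.X i))
    (hE : Nonempty (DRing.toD N₀ ≅ (DRing.LBaseChange (Ideal.Quotient.mk I)).obj K)) :
    ∃ (P : DRing.Cx R) (b' : ℤ), DRing.VanishesAbove P b' ∧
      (∀ i : ℤ, Module.Finite R (P.X i) ∧ Module.IsStablyFree R (P.X i)) ∧
      Nonempty (DRing.toD P ≅ K) ∧
      Nonempty ((((ModuleCat.extendScalars (Ideal.Quotient.mk I)).mapHomologicalComplex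
        (ComplexShape.up ℤ)).obj P) ≅ N₀) ∧
      ∀ i : ℤ, Module.Free (R ⧸ I) (N₀.X i) → Module.Free R (P.X i) := by
  have H := pcHyp_sf I hI
  obtain ⟨Q₀, c, hQc, hQt, ⟨eK⟩⟩ := hK
  obtain ⟨P, b', hP0, hPc, ⟨eP⟩, ⟨e⟩⟩ := lift_derived I H psf_biprod K Q₀ c hQc
    (fun i => by
      obtain ⟨h1, h2⟩ := hQt i
      exact psf_of_free _) eK N₀ b hEb
    (fun i => by
      obtain ⟨h1, h2⟩ := hEs i
      exact exists_lift_sf H (N₀.X i)) hE.some
  refine ⟨P, b', hP0, hPc, ⟨eP⟩, ⟨e⟩, fun i hi => ?_⟩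
  have := (hEs i).1
  exact free_of_free_E H (P.X i) (hPc i) (N₀.X i) ((HomologicalComplex.eval _ _ i).mapIso e)

end Groth.Agent.Helper3.StabFree
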