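import Mathlib
import Groth.Agent.Lib.Helper3.StabFree
import Groth.Agent.Lib.Helper3.HomologyCx

/-!
# Minimal complexes over a local ring
-/

namespace Groth.Agent.Helper3.MinCx

open CategoryTheory Limits DerivedCategory Groth.Agent.Helper3.ProjLiftNil
open Groth.Agent.Helper3.PcLift Groth.Agent.Lib.Helper5.KProj Groth.Agent.Helper3.StabFree
open Groth.Agent.Helper3.HomologyCx

universe u

section Modules

variable {A : Type u} [CommRing A] {I : Ideal A}

lemma isZero_of_isZero_E {Pc : ObjectProperty (ModuleCat.{u} A)} (H : PcHyp I Pc)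
    {X : ModuleCat.{u} A} (hX : Pc X) (h0 : IsZero ((E I).obj X)) : IsZero X := by
  have hz : Pc (ModuleCat.of A PUnit.{u + 1}) := H.zero hX
  have hs0 : Function.Surjective (0 : ModuleCat.of A PUnit.{u + 1} ⟶ X).hom :=
    H.surj _ _ 0 hz hX (by rw [smul_top_eq_top_of_isZero I h0]; exact sup_top_eq _)
  have : Subsingleton X := ⟨fun a b => by
    obtain ⟨x, rfl⟩ := hs0 a
    obtain ⟨y, rfl⟩ := hs0 b
    rfl⟩
  exact ModuleCat.isZero_of_subsingleton _

end Modules

attribute [local instance] HasDerivedCategory.standard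

variable {R : Type u} [CommRing R] (I : Ideal R) [hmax : I.IsMaximal]

/-- a complex with zero differentials is its own homology -/
noncomputable def xIsoHomology {C : Type*} [Category C] [Abelian C] (N : CochainComplex C ℤ)
    (hN : ∀ i j, N.d i j = 0) (i : ℤ) : N.X i ≅ N.homology i :=
  (N.iCyclesIso i (i + 1) (by simp) (hN _ _)).symm ≪≫ N.isoHomologyπ (i - 1) i (by simp) (hN _ _)

variable [DRing.HasLBaseChange (Ideal.Quotient.mk I)]

theorem exists_minimal (hI : I ≤ Ideal.jacobson (⊥ : Ideal R)) (K : Dual.D R)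
    (hK : DRing.IsPseudoCoherent' R K) :
    ∃ (P : DRing.Cx R) (b : ℤ), DRing.VanishesAbove P b ∧
      (∀ i, Module.Finite R (P.X i) ∧ Module.Free R (P.X i)) ∧ Nonempty (DRing.toD P ≅ K) ∧
      ∀ i, Nonempty ((E I).obj (P.X i) ≅ (homologyFunctor (ModuleCat.{u} (R ⧸ I)) i).obj
        ((DRing.LBaseChange (Ideal.Quotient.mk I)).obj K)) := by
  letI : Field (R ⧸ I) := Ideal.Quotient.field I
  obtain ⟨F, c, hF0, hFt, ⟨eF⟩⟩ := hK
  haveI : F.IsKProjective := isKProjective_of_bdd F c hF0 (fun i => by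
    obtain ⟨h1, h2⟩ := hFt i
    exact Module.Projective.of_free)
  let F' : DRing.Cx (R ⧸ I) := (bcCx (Ideal.Quotient.mk I)).obj F
  have hfin : ∀ i, Module.Finite (R ⧸ I) (F'.X i) := fun i =>
    (termwiseFiniteFree_bcCx (Ideal.Quotient.mk I) F hFt i).1
  obtain ⟨f, hf⟩ := exists_quasiIso_Hcx F'
  have hiso : IsIso (Q.map f) := by
    rw [DerivedCategory.isIso_Q_map_iff_quasiIso]; exact hf
  let eE : DRing.toD (Hcx F') ≅ (DRing.LBaseChange (Ideal.Quotient.mk I)).obj K :=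
    asIso (Q.map f) ≪≫ (lbcIso (Ideal.Quotient.mk I) F).symm ≪≫
      (DRing.LBaseChange (Ideal.Quotient.mk I)).mapIso eF
  have hEb : DRing.VanishesAbove (Hcx F') c := fun i hi =>
    ShortComplex.isZero_homology_of_isZero_X₂ (F'.sc i)
      (vanishesAbove_bcCx (Ideal.Quotient.mk I) F c hF0 i hi)
  have hEfree : ∀ i, Module.Free (R ⧸ I) ((Hcx F').X i) := fun i => Module.Free.of_divisionRing _ _
  have hEs : ∀ i : ℤ, Module.Finite (R ⧸ I) ((Hcx F').X i) ∧
      Module.IsStablyFree (R ⧸ I) ((Hcx F').X i) := fun i => by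
    have := hfin i
    have := hEfree i
    exact ⟨finite_homology F' i, inferInstance⟩
  obtain ⟨P, b', hP0, hPs, ⟨eP⟩, ⟨e⟩, hfree⟩ := main_S7011 R I hI K ⟨F, c, hF0, hFt, ⟨eF⟩⟩
    (Hcx F') c hEb hEs ⟨eE⟩
  refine ⟨P, b', hP0, fun i => ⟨(hPs i).1, hfree i (hEfree i)⟩, ⟨eP⟩, fun i => ⟨?_⟩⟩
  exact (HomologicalComplex.eval _ _ i).mapIso e ≪≫ xIsoHomology (Hcx F') (Hcx_d F') i ≪≫
    ((homologyFunctorFactors _ i).app (Hcx F')).symm ≪≫ (homologyFunctor _ i).mapIso eE

theorem perfect_of_vanishing (hI : I ≤ Ideal.jacobson (⊥ : Ideal R)) (K : Dual.D R)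
    (hK : DRing.IsPseudoCoherent' R K) (a : ℤ)
    (h : ∀ i : ℤ, i < a → Subsingleton ((homologyFunctor (ModuleCat.{u} (R ⧸ I)) i).obj
        ((DRing.LBaseChange (Ideal.Quotient.mk I)).obj K))) :
    DRing.IsPerfect R K := by
  obtain ⟨P, b, hP0, hPt, ⟨eP⟩, hH⟩ := exists_minimal I hI K hK
  refine ⟨P, a, b, ?_, fun i => ?_, ⟨eP⟩⟩
  · rintro i (hi | hi)
    · obtain ⟨e⟩ := hH i
      have := h i hi
      obtain ⟨h1, h2⟩ := hPt i
      exact isZero_of_isZero_E (pcHyp_sf I hI) (psf_of_free (P.X i))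
        ((ModuleCat.isZero_of_subsingleton _).of_iso e)
    · exact hP0 i hi
  · obtain ⟨h1, h2⟩ := hPt i
    exact ⟨h1, Module.Projective.of_free⟩

theorem main_S6975 (R : Type u) [CommRing R] [IsLocalRing R]
    [DRing.HasLBaseChange (IsLocalRing.residue R)] (K : Dual.D R)
    (hK : DRing.IsPseudoCoherent' R K) (a : ℤ)
    (h : ∀ i : ℤ, i < a → Subsingleton (Dual.HD (IsLocalRing.ResidueField R)
      ((DRing.LBaseChange (IsLocalRing.residue R)).obj K) i)) :
    DRing.IsPerfect R K := by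
  haveI : DRing.HasLBaseChange (Ideal.Quotient.mk (IsLocalRing.maximalIdeal R)) :=
    ‹DRing.HasLBaseChange (IsLocalRing.residue R)›
  exact perfect_of_vanishing (IsLocalRing.maximalIdeal R)
    (IsLocalRing.maximalIdeal_le_jacobson ⊥) K hK a h

end Groth.Agent.Helper3.MinCx
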