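import Mathlib
import Groth.Agent.Lib.Helper3.MinCx

/-!
# Minimal complexes over a local ring: ranks and uniqueness
-/

namespace Groth.Agent.Helper3.MinCx

open CategoryTheory Limits DerivedCategory Groth.Agent.Helper3.ProjLiftNil
open Groth.Agent.Helper3.PcLift Groth.Agent.Lib.Helper5.KProj Groth.Agent.Helper3.StabFree
open Groth.Agent.Helper3.HomologyCx

universe u

attribute [local instance] HasDerivedCategory.standard

variable {R : Type u} [CommRing R] (I : Ideal R) [hmax : I.IsMaximal]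

include hmax in
lemma finrank_E (X : ModuleCat.{u} R) [Module.Free R X] :
    Module.finrank (R ⧸ I) ((E I).obj X) = Module.finrank R X := by
  letI : Field (R ⧸ I) := Ideal.Quotient.field I
  have : Nontrivial R := (Ideal.Quotient.mk I).domain_nontrivial
  rw [← (tensorEquiv I X).finrank_eq]
  exact Module.finrank_baseChange

variable [DRing.HasLBaseChange (Ideal.Quotient.mk I)]

/-- the homology of the reduction of a K-projective representative computes the cohomology of
the derived base change -/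
noncomputable def homologyIso {K : Dual.D R} (P : DRing.Cx R) [P.IsKProjective]
    (eP : DRing.toD P ≅ K) (i : ℤ) :
    ((bcCx (Ideal.Quotient.mk I)).obj P).homology i ≅
      (homologyFunctor (ModuleCat.{u} (R ⧸ I)) i).obj
        ((DRing.LBaseChange (Ideal.Quotient.mk I)).obj K) :=
  ((homologyFunctorFactors _ i).app _).symm ≪≫ (homologyFunctor _ i).mapIso
    ((lbcIso (Ideal.Quotient.mk I) P).symm ≪≫
      (DRing.LBaseChange (Ideal.Quotient.mk I)).mapIso eP)

include hmax in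
lemma d_reduction_eq_zero {K : Dual.D R} (P : DRing.Cx R) [P.IsKProjective]
    (hPt : ∀ i, Module.Free R (P.X i) ∧ Module.Finite R (P.X i)) (eP : DRing.toD P ≅ K)
    (hr : ∀ i, Module.finrank R (P.X i) = Module.finrank (R ⧸ I)
      ((homologyFunctor (ModuleCat.{u} (R ⧸ I)) i).obj
        ((DRing.LBaseChange (Ideal.Quotient.mk I)).obj K))) (i j : ℤ) :
    ((bcCx (Ideal.Quotient.mk I)).obj P).d i j = 0 := by
  letI : Field (R ⧸ I) := Ideal.Quotient.field I
  obtain ⟨h1, h2⟩ := hPt i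
  have hfin : Module.Finite (R ⧸ I) (((bcCx (Ideal.Quotient.mk I)).obj P).X i) :=
    (finite_free_extendScalars (Ideal.Quotient.mk I) (P.X i)).1
  refine d_eq_zero_of_finrank_eq ((bcCx (Ideal.Quotient.mk I)).obj P) i j ?_
  have e1 : Module.finrank (R ⧸ I) (((bcCx (Ideal.Quotient.mk I)).obj P).X i) =
      Module.finrank R (P.X i) := finrank_E I (P.X i)
  rw [e1, hr i]
  exact (homologyIso I P eP i).symm.toLinearEquiv.finrank_eq

include hmax in
theorem minimal_unique (hI : I ≤ Ideal.jacobson (⊥ : Ideal R)) {K : Dual.D R}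
    (P P' : DRing.Cx R) (b b' : ℤ) (hP0 : DRing.VanishesAbove P b)
    (hP'0 : DRing.VanishesAbove P' b')
    (hPt : ∀ i, Module.Free R (P.X i) ∧ Module.Finite R (P.X i))
    (hP't : ∀ i, Module.Free R (P'.X i) ∧ Module.Finite R (P'.X i))
    (eP : DRing.toD P ≅ K) (eP' : DRing.toD P' ≅ K)
    (hr : ∀ i, Module.finrank R (P.X i) = Module.finrank (R ⧸ I)
      ((homologyFunctor (ModuleCat.{u} (R ⧸ I)) i).obj
        ((DRing.LBaseChange (Ideal.Quotient.mk I)).obj K)))
    (hr' : ∀ i, Module.finrank R (P'.X i) = Module.finrank (R ⧸ I)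
      ((homologyFunctor (ModuleCat.{u} (R ⧸ I)) i).obj
        ((DRing.LBaseChange (Ideal.Quotient.mk I)).obj K))) :
    Nonempty (P ≅ P') := by
  haveI : P.IsKProjective := isKProjective_of_bdd P b hP0 (fun i => by
    obtain ⟨h1, h2⟩ := hPt i
    exact Module.Projective.of_free)
  haveI : P'.IsKProjective := isKProjective_of_bdd P' b' hP'0 (fun i => by
    obtain ⟨h1, h2⟩ := hP't i
    exact Module.Projective.of_free)
  obtain ⟨f, hf⟩ := Groth.Agent.Helper5.DRingCone.exists_chain_map P P' (eP.hom ≫ eP'.inv)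
  have hQf : IsIso (Q.map f) := by rw [hf]; infer_instance
  have h1 := lbc_map_Q (Ideal.Quotient.mk I) f
  have hQf' : IsIso (Q.map ((bcCx (Ideal.Quotient.mk I)).map f)) := by
    have : IsIso ((DRing.LBaseChange (Ideal.Quotient.mk I)).map (Q.map f)) := inferInstance
    rw [h1] at this
    have h2 : Q.map ((bcCx (Ideal.Quotient.mk I)).map f) =
        (lbcIso (Ideal.Quotient.mk I) P).inv ≫
          ((lbcIso (Ideal.Quotient.mk I) P).hom ≫ Q.map ((bcCx (Ideal.Quotient.mk I)).map f) ≫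
            (lbcIso (Ideal.Quotient.mk I) P').inv) ≫ (lbcIso (Ideal.Quotient.mk I) P').hom := by
      simp
    rw [h2]
    infer_instance
  have hqis : QuasiIso ((bcCx (Ideal.Quotient.mk I)).map f) := by
    rw [← DerivedCategory.isIso_Q_map_iff_quasiIso]; exact hQf'
  have hd := d_reduction_eq_zero I P hPt eP hr
  have hd' := d_reduction_eq_zero I P' hP't eP' hr'
  have hiso : ∀ i, IsIso (f.f i) := by
    intro i
    have h3 : IsIso (((bcCx (Ideal.Quotient.mk I)).map f).f i) := by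
      rw [isIso_f_iff_of_d_eq_zero hd hd']
      have := hqis.quasiIsoAt i
      rw [quasiIsoAt_iff_isIso_homologyMap] at this
      exact this
    obtain ⟨h4, h5⟩ := hPt i
    obtain ⟨h6, h7⟩ := hP't i
    exact (pcHyp_sf I hI).isIso_of_map_isIso (psf_of_free (P.X i)) (psf_of_free (P'.X i))
      (f.f i) h3
  exact ⟨HomologicalComplex.Hom.isoOfComponents (fun i => asIso (f.f i)) (fun i j _ => by simp)⟩

include hmax in
theorem main_general (hI : I ≤ Ideal.jacobson (⊥ : Ideal R)) (K : Dual.D R)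
    (hK : DRing.IsPseudoCoherent' R K) :
    let H := fun i : ℤ => (homologyFunctor (ModuleCat.{u} (R ⧸ I)) i).obj
        ((DRing.LBaseChange (Ideal.Quotient.mk I)).obj K)
    let Minimal := fun P : DRing.Cx R => (∃ b : ℤ, DRing.VanishesAbove P b) ∧
      (∀ i : ℤ, Module.Free R (P.X i) ∧ Module.Finite R (P.X i) ∧
        Module.finrank R (P.X i) = Module.finrank (R ⧸ I) (H i)) ∧ Nonempty (DRing.toD P ≅ K)
    (∀ i : ℤ, Module.Finite (R ⧸ I) (H i)) ∧ (∃ b : ℤ, ∀ i : ℤ, b < i → Subsingleton (H i)) ∧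
      (∃ P : DRing.Cx R, Minimal P) ∧
      ∀ P Q : DRing.Cx R, Minimal P → Minimal Q → Nonempty (P ≅ Q) := by
  intro H Minimal
  obtain ⟨P, b, hP0, hPt, ⟨eP⟩, hH⟩ := exists_minimal I hI K hK
  refine ⟨fun i => ?_, ⟨b, fun i hi => ?_⟩, ⟨P, ⟨b, hP0⟩, fun i => ?_, ⟨eP⟩⟩, ?_⟩
  · obtain ⟨e⟩ := hH i
    obtain ⟨h1, h2⟩ := hPt i
    have := (finite_free_extendScalars (Ideal.Quotient.mk I) (P.X i)).1
    exact Module.Finite.equiv e.toLinearEquiv
  · obtain ⟨e⟩ := hH i
    have hz : IsZero ((E I).obj (P.X i)) := Functor.map_isZero (E I) (hP0 i hi)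
    exact ModuleCat.subsingleton_of_isZero (hz.of_iso e.symm)
  · obtain ⟨e⟩ := hH i
    obtain ⟨h1, h2⟩ := hPt i
    refine ⟨h2, h1, ?_⟩
    rw [← finrank_E I (P.X i)]
    exact e.toLinearEquiv.finrank_eq
  · rintro P₁ P₂ ⟨⟨b₁, h10⟩, h1t, ⟨e1⟩⟩ ⟨⟨b₂, h20⟩, h2t, ⟨e2⟩⟩
    exact minimal_unique I hI P₁ P₂ b₁ b₂ h10 h20 (fun i => ⟨(h1t i).1, (h1t i).2.1⟩)
      (fun i => ⟨(h2t i).1, (h2t i).2.1⟩) e1 e2 (fun i => (h1t i).2.2) (fun i => (h2t i).2.2)

theorem main_S6972 (R : Type u) [CommRing R] [IsLocalRing R]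
    [DRing.HasLBaseChange (IsLocalRing.residue R)] (K : Dual.D R)
    (hK : DRing.IsPseudoCoherent' R K) :
    let κ := IsLocalRing.ResidueField R
    let Kκ := (DRing.LBaseChange (IsLocalRing.residue R)).obj K
    let Minimal := fun P : DRing.Cx R => (∃ b : ℤ, DRing.VanishesAbove P b) ∧
      (∀ i : ℤ, Module.Free R (P.X i) ∧ Module.Finite R (P.X i) ∧
        Module.finrank R (P.X i) = Module.finrank κ (Dual.HD κ Kκ i)) ∧ Nonempty (DRing.toD P ≅ K)
    (∀ i : ℤ, Module.Finite κ (Dual.HD κ Kκ i)) ∧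
      (∃ b : ℤ, ∀ i : ℤ, b < i → Subsingleton (Dual.HD κ Kκ i)) ∧
      (∃ P : DRing.Cx R, Minimal P) ∧
      ∀ P Q : DRing.Cx R, Minimal P → Minimal Q → Nonempty (P ≅ Q) := by
  haveI : DRing.HasLBaseChange (Ideal.Quotient.mk (IsLocalRing.maximalIdeal R)) :=
    ‹DRing.HasLBaseChange (IsLocalRing.residue R)›
  exact main_general (IsLocalRing.maximalIdeal R) (IsLocalRing.maximalIdeal_le_jacobson ⊥) K hK

end Groth.Agent.Helper3.MinCx
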