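import Mathlib
import Groth.Prelude.Def_DRing4
import Groth.Agent.Lib.Helper3.MinCxUniq
import Groth.Agent.Lib.Helper3.LTenCx
import Groth.Agent.Lib.Helper3.Brutal
import Groth.Agent.Lib.Helper5.DRing.PCCoh
import Groth.Agent.Lib.Helper5.DTenLib.Base

/-!
# Invertible objects of `D(A)` for a Noetherian local ring `A`

If `L ⊗^L E ≅ A[0]` with `L`, `E` bounded above with finite cohomology, then `L ≅ A[n]` and
`E ≅ A[-n]`.  The proof uses minimal free complexes: the tensor product of two minimal complexes is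
minimal, hence its ranks are those of the minimal complex of `A[0]`.
-/

set_option autoImplicit false
universe u
open CategoryTheory CategoryTheory.Limits MonoidalCategory
attribute [local instance] HasDerivedCategory.standard

namespace Groth.Agent.Helper3.InvObj

open Groth.Agent.Helper3.ProjLiftNil Groth.Agent.Helper3.PcLift
open Groth.Agent.Lib.Helper5.KProj

section Reduction

variable {A : Type u} [CommRing A] (I : Ideal A)

lemma unit_eq_zero_of_mem (M : ModuleCat.{u} A) (m : M) (hm : m ∈ (I • ⊤ : Submodule A M)) :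
    ((adj I).unit.app M).hom m = 0 := by
  refine Submodule.smul_induction_on hm (fun a ha z _ => ?_) (fun x y hx hy => ?_)
  · rw [map_smul]
    refine (ModuleCat.restrictScalars.smul_def (Ideal.Quotient.mk I) a _).trans ?_
    have h0 : Ideal.Quotient.mk I a = 0 := Ideal.Quotient.eq_zero_iff_mem.2 ha
    rw [h0]
    exact zero_smul _ _
  · rw [map_add, hx, hy, add_zero]

lemma map_eq_zero_iff {X Y : ModuleCat.{u} A} (φ : X ⟶ Y) :
    (E I).map φ = 0 ↔ ∀ x : X, φ.hom x ∈ (I • ⊤ : Submodule A Y) := by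
  refine Iff.trans (map_eq_iff I φ 0) ?_
  constructor
  · intro h x
    apply mem_of_unit_eq_zero
    have h2 : ((adj I).unit.app Y).hom (φ.hom x) =
        ((Rs I).map (0 : (E I).obj X ⟶ (E I).obj Y)).hom (((adj I).unit.app X).hom x) :=
      congrArg (fun g => g.hom x) h
    exact h2.trans rfl
  · intro h
    apply ModuleCat.hom_ext
    apply LinearMap.ext
    intro x
    have h1 : ((adj I).unit.app Y).hom (φ.hom x) = 0 := unit_eq_zero_of_mem I Y _ (h x)
    have h2 : (((adj I).unit.app X ≫ (Rs I).map (0 : (E I).obj X ⟶ (E I).obj Y))).hom x = 0 := rfl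
    exact h1.trans h2.symm

lemma smul_top_map {M N : Type u} [AddCommGroup M] [Module A M] [AddCommGroup N] [Module A N]
    (f : M →ₗ[A] N) {x : M} (hx : x ∈ (I • ⊤ : Submodule A M)) :
    f x ∈ (I • ⊤ : Submodule A N) := by
  refine Submodule.smul_induction_on hx (fun a ha m _ => ?_) (fun x y hx hy => ?_)
  · rw [map_smul]
    exact Submodule.smul_mem_smul ha Submodule.mem_top
  · rw [map_add]
    exact Submodule.add_mem _ hx hy

lemma tmul_mem_left {M N : Type u} [AddCommGroup M] [Module A M] [AddCommGroup N] [Module A N]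
    {x : M} (hx : x ∈ (I • ⊤ : Submodule A M)) (y : N) :
    x ⊗ₜ[A] y ∈ (I • ⊤ : Submodule A (TensorProduct A M N)) :=
  smul_top_map I ((TensorProduct.mk A M N).flip y) hx

lemma tmul_mem_right {M N : Type u} [AddCommGroup M] [Module A M] [AddCommGroup N] [Module A N]
    (x : M) {y : N} (hy : y ∈ (I • ⊤ : Submodule A N)) :
    x ⊗ₜ[A] y ∈ (I • ⊤ : Submodule A (TensorProduct A M N)) :=
  smul_top_map I (TensorProduct.mk A M N x) hy

lemma whiskerRight_mem {M M' : ModuleCat.{u} A} (f : M ⟶ M') (N : ModuleCat.{u} A)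
    (hf : ∀ x, f.hom x ∈ (I • ⊤ : Submodule A M')) (w : (M ⊗ N : ModuleCat.{u} A)) :
    (f ▷ N).hom w ∈ (I • ⊤ : Submodule A (M' ⊗ N : ModuleCat.{u} A)) := by
  refine TensorProduct.induction_on w ?_ (fun x y => ?_) (fun a b ha hb => ?_)
  · rw [map_zero]
    exact Submodule.zero_mem _
  · exact tmul_mem_left I (hf x) y
  · rw [map_add]
    exact Submodule.add_mem _ ha hb

lemma whiskerLeft_mem (M : ModuleCat.{u} A) {N N' : ModuleCat.{u} A} (f : N ⟶ N')
    (hf : ∀ x, f.hom x ∈ (I • ⊤ : Submodule A N')) (w : (M ⊗ N : ModuleCat.{u} A)) :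
    (M ◁ f).hom w ∈ (I • ⊤ : Submodule A (M ⊗ N' : ModuleCat.{u} A)) := by
  refine TensorProduct.induction_on w ?_ (fun x y => ?_) (fun a b ha hb => ?_)
  · rw [map_zero]
    exact Submodule.zero_mem _
  · exact tmul_mem_right I x (hf y)
  · rw [map_add]
    exact Submodule.add_mem _ ha hb

lemma units_smul_mem {X Y : ModuleCat.{u} A} (N : Submodule A Y) (ε : ℤˣ) (g : X ⟶ Y)
    (hg : ∀ z, g.hom z ∈ N) : ∀ z, (ε • g).hom z ∈ N := by
  rcases Int.units_eq_one_or ε with rfl | rfl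
  · rw [one_smul]
    exact hg
  · intro z
    have h1 : ((-1 : ℤˣ) • g) = -g := by
      rw [Units.smul_def]
      simp
    rw [h1, ModuleCat.hom_neg, LinearMap.neg_apply]
    exact N.neg_mem (hg z)

/-- the differentials of `P` vanish modulo `I` -/
def RedZero (P : DRing.Cx A) : Prop :=
  ∀ (i j : ℤ) (x : P.X i), (P.d i j).hom x ∈ (I • ⊤ : Submodule A (P.X j))

end Reduction

section Tensor

variable {A : Type u} [CommRing A] (I : Ideal A) (P P' : DRing.Cx A)

lemma mem_of_forall_ι {n : ℤ} {Y : ModuleCat.{u} A} (g : (P ⊗ P').X n ⟶ Y) (N : Submodule A Y)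
    (h : ∀ (i₁ i₂ : ℤ) (hi : i₁ + i₂ = n) (z : (P.X i₁ ⊗ P'.X i₂ : ModuleCat.{u} A)),
      g.hom ((HomologicalComplex.ιTensorObj P P' i₁ i₂ n hi).hom z) ∈ N) (x : (P ⊗ P').X n) :
    g.hom x ∈ N := by
  let q : Y ⟶ ModuleCat.of A (Y ⧸ N) := ModuleCat.ofHom N.mkQ
  have hq : g ≫ q = 0 := by
    refine HomologicalComplex.mapBifunctor.hom_ext (K₁ := P) (K₂ := P')
      (F := curriedTensor (ModuleCat.{u} A)) (c := ComplexShape.up ℤ) (fun i₁ i₂ hi => ?_)
    rw [comp_zero]
    apply ModuleCat.hom_ext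
    apply LinearMap.ext
    intro z
    show N.mkQ (g.hom ((HomologicalComplex.ιTensorObj P P' i₁ i₂ n hi).hom z)) = 0
    exact (Submodule.Quotient.mk_eq_zero N).2 (h i₁ i₂ hi z)
  have h2 : N.mkQ (g.hom x) = 0 := congrArg (fun f => f.hom x) hq
  exact (Submodule.Quotient.mk_eq_zero N).1 h2

theorem redZero_tensor (hP : RedZero I P) (hP' : RedZero I P') : RedZero I (P ⊗ P') := by
  intro n m x
  by_cases hnm : n + 1 = m
  swap
  · have h0 : (P ⊗ P').d n m = 0 := HomologicalComplex.shape _ _ _ hnm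
    rw [h0, ModuleCat.hom_zero, LinearMap.zero_apply]
    exact Submodule.zero_mem _
  subst hnm
  refine mem_of_forall_ι P P' ((P ⊗ P').d n (n + 1)) _ (fun i₁ i₂ hi z => ?_) x
  have h1 : i₁ + 1 + i₂ = n + 1 := by omega
  have h2 : i₁ + (i₂ + 1) = n + 1 := by omega
  have key : HomologicalComplex.ιMapBifunctor P P' (curriedTensor (ModuleCat.{u} A))
        (ComplexShape.up ℤ) i₁ i₂ n hi ≫
      (HomologicalComplex.mapBifunctor P P' (curriedTensor (ModuleCat.{u} A))
        (ComplexShape.up ℤ)).d n (n + 1) =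
      ComplexShape.ε₁ (ComplexShape.up ℤ) (ComplexShape.up ℤ) (ComplexShape.up ℤ) (i₁, i₂) •
        (((curriedTensor (ModuleCat.{u} A)).map (P.d i₁ (i₁ + 1))).app (P'.X i₂) ≫
          HomologicalComplex.ιMapBifunctor P P' (curriedTensor (ModuleCat.{u} A))
            (ComplexShape.up ℤ) (i₁ + 1) i₂ (n + 1) h1) +
      ComplexShape.ε₂ (ComplexShape.up ℤ) (ComplexShape.up ℤ) (ComplexShape.up ℤ) (i₁, i₂) •
        (((curriedTensor (ModuleCat.{u} A)).obj (P.X i₁)).map (P'.d i₂ (i₂ + 1)) ≫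
          HomologicalComplex.ιMapBifunctor P P' (curriedTensor (ModuleCat.{u} A))
            (ComplexShape.up ℤ) i₁ (i₂ + 1) (n + 1) h2) := by
    rw [HomologicalComplex.mapBifunctor.d_eq, Preadditive.comp_add,
      HomologicalComplex.mapBifunctor.ι_D₁, HomologicalComplex.mapBifunctor.ι_D₂,
      HomologicalComplex.mapBifunctor.d₁_eq P P' _ _
        (show (ComplexShape.up ℤ).Rel i₁ (i₁ + 1) from rfl) i₂ (n + 1) h1,
      HomologicalComplex.mapBifunctor.d₂_eq P P' _ _ i₁
        (show (ComplexShape.up ℤ).Rel i₂ (i₂ + 1) from rfl) (n + 1) h2]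
  have h3 : ∀ w, (HomologicalComplex.ιMapBifunctor P P' (curriedTensor (ModuleCat.{u} A))
        (ComplexShape.up ℤ) i₁ i₂ n hi ≫
      (HomologicalComplex.mapBifunctor P P' (curriedTensor (ModuleCat.{u} A))
        (ComplexShape.up ℤ)).d n (n + 1)).hom w ∈
      (I • ⊤ : Submodule A ((P ⊗ P').X (n + 1))) := by
    rw [key]
    intro w
    rw [ModuleCat.hom_add, LinearMap.add_apply]
    refine Submodule.add_mem _ ?_ ?_
    · refine units_smul_mem _ _ _ (fun w' => ?_) w
      rw [ModuleCat.hom_comp, LinearMap.comp_apply]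
      exact smul_top_map I _
        (whiskerRight_mem I (P.d i₁ (i₁ + 1)) (P'.X i₂) (hP i₁ (i₁ + 1)) w')
    · refine units_smul_mem _ _ _ (fun w' => ?_) w
      rw [ModuleCat.hom_comp, LinearMap.comp_apply]
      exact smul_top_map I _
        (whiskerLeft_mem I (P.X i₁) (P'.d i₂ (i₂ + 1)) (hP' i₂ (i₂ + 1)) w')
  exact h3 z

lemma ι_injective (i₁ i₂ n : ℤ) (h : i₁ + i₂ = n) :
    Function.Injective (HomologicalComplex.ιTensorObj P P' i₁ i₂ n h).hom := by
  classical
  let f : ∀ (j₁ j₂ : ℤ) (_ : ComplexShape.π (ComplexShape.up ℤ) (ComplexShape.up ℤ)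
      (ComplexShape.up ℤ) ⟨j₁, j₂⟩ = n),
      ((curriedTensor (ModuleCat.{u} A)).obj (P.X j₁)).obj (P'.X j₂) ⟶
        (P.X i₁ ⊗ P'.X i₂ : ModuleCat.{u} A) :=
    fun j₁ j₂ _ => if hj : j₁ = i₁ ∧ j₂ = i₂ then
      eqToHom (by obtain ⟨rfl, rfl⟩ := hj; rfl) else 0
  let r : (P ⊗ P').X n ⟶ (P.X i₁ ⊗ P'.X i₂ : ModuleCat.{u} A) :=
    HomologicalComplex.mapBifunctorDesc (K₁ := P) (K₂ := P')
      (F := curriedTensor (ModuleCat.{u} A)) (c := ComplexShape.up ℤ) f
  have hr : HomologicalComplex.ιTensorObj P P' i₁ i₂ n h ≫ r = 𝟙 _ := by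
    refine (HomologicalComplex.ι_mapBifunctorDesc f i₁ i₂ h).trans ?_
    dsimp only [f]
    rw [dif_pos ⟨rfl, rfl⟩]
    rfl
  intro x y hxy
  have h2 : ∀ z, r.hom ((HomologicalComplex.ιTensorObj P P' i₁ i₂ n h).hom z) = z := fun z =>
    congrArg (fun g => g.hom z) hr
  exact (h2 x).symm.trans ((congrArg r.hom hxy).trans (h2 y))

lemma finrank_mul_le [Nontrivial A] (hfree : ∀ i, Module.Free A (P.X i))
    (hfree' : ∀ i, Module.Free A (P'.X i))
    (hfinT : ∀ n, Module.Finite A ((P ⊗ P').X n)) (i j : ℤ) :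
    Module.finrank A (P.X i) * Module.finrank A (P'.X j) ≤
      Module.finrank A ((P ⊗ P').X (i + j)) := by
  haveI := hfree i
  haveI := hfree' j
  haveI := hfinT (i + j)
  have h1 : Module.finrank A (TensorProduct A (P.X i) (P'.X j)) =
      Module.finrank A (P.X i) * Module.finrank A (P'.X j) := Module.finrank_tensorProduct
  have h2 : Module.finrank A (TensorProduct A (P.X i) (P'.X j)) ≤
      Module.finrank A ((P ⊗ P').X (i + j)) :=
    LinearMap.finrank_le_finrank_of_injective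
      (f := (HomologicalComplex.ιTensorObj P P' i j (i + j) rfl).hom)
      (ι_injective P P' i j (i + j) rfl)
  exact le_of_eq_of_le h1.symm h2

end Tensor

section Combinatorics

lemma combinatorics (r r' : ℤ → ℕ) (h : ∀ i j, r i * r' j ≤ if i + j = 0 then 1 else 0)
    (hr : ∃ i, r i ≠ 0) (hr' : ∃ j, r' j ≠ 0) :
    ∃ i₀ j₀ : ℤ, j₀ + i₀ = 0 ∧ r i₀ = 1 ∧ r' j₀ = 1 ∧ (∀ i, i ≠ i₀ → r i = 0) ∧
      (∀ j, j ≠ j₀ → r' j = 0) := by
  obtain ⟨i₀, hi₀⟩ := hr
  obtain ⟨j₀, hj₀⟩ := hr'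
  have hp1 : 1 ≤ r i₀ := Nat.pos_of_ne_zero hi₀
  have hp2 : 1 ≤ r' j₀ := Nat.pos_of_ne_zero hj₀
  have hpos : 0 < r i₀ * r' j₀ := Nat.mul_pos hp1 hp2
  have h00 := h i₀ j₀
  have hsum : i₀ + j₀ = 0 := by
    by_contra hne
    rw [if_neg hne] at h00
    omega
  rw [if_pos hsum] at h00
  have h3 : r i₀ ≤ r i₀ * r' j₀ := Nat.le_mul_of_pos_right _ hp2
  have h4 : r' j₀ ≤ r i₀ * r' j₀ := Nat.le_mul_of_pos_left _ hp1
  have hr1 : r i₀ = 1 := by omega
  have hr'1 : r' j₀ = 1 := by omega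
  refine ⟨i₀, j₀, by omega, hr1, hr'1, fun i hi => ?_, fun j hj => ?_⟩
  · have h5 := h i j₀
    rw [if_neg (by omega), hr'1, mul_one] at h5
    omega
  · have h5 := h i₀ j
    rw [if_neg (by omega), hr1, one_mul] at h5
    omega

end Combinatorics

section Main

open DerivedCategory Groth.Agent.Helper3.MinCx

variable {A : Type u} [CommRing A] (I : Ideal A) [hmax : I.IsMaximal]
  [DRing.HasLBaseChange (Ideal.Quotient.mk I)]

include hmax in
lemma finrank_eq_of_redZero {K : Dual.D A} (T : DRing.Cx A) [T.IsKProjective]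
    (hTt : ∀ i, Module.Free A (T.X i) ∧ Module.Finite A (T.X i)) (eT : DRing.toD T ≅ K)
    (hd : RedZero I T) (i : ℤ) :
    Module.finrank A (T.X i) = Module.finrank (A ⧸ I)
      ((homologyFunctor (ModuleCat.{u} (A ⧸ I)) i).obj
        ((DRing.LBaseChange (Ideal.Quotient.mk I)).obj K)) := by
  have hd' : ∀ i j, ((bcCx (Ideal.Quotient.mk I)).obj T).d i j = 0 := fun i j =>
    (map_eq_zero_iff I (T.d i j)).2 (hd i j)
  haveI := (hTt i).1
  rw [← finrank_E I (T.X i)]
  exact (xIsoHomology ((bcCx (Ideal.Quotient.mk I)).obj T) hd' i ≪≫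
    homologyIso I T eT i).toLinearEquiv.finrank_eq

include hmax in
lemma redZero_of_minimal {K : Dual.D A} (P : DRing.Cx A) [P.IsKProjective]
    (hPt : ∀ i, Module.Finite A (P.X i) ∧ Module.Free A (P.X i)) (eP : DRing.toD P ≅ K)
    (hH : ∀ i, Nonempty ((E I).obj (P.X i) ≅ (homologyFunctor (ModuleCat.{u} (A ⧸ I)) i).obj
        ((DRing.LBaseChange (Ideal.Quotient.mk I)).obj K))) : RedZero I P := by
  intro i j
  have hr : ∀ i, Module.finrank A (P.X i) = Module.finrank (A ⧸ I)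
      ((homologyFunctor (ModuleCat.{u} (A ⧸ I)) i).obj
        ((DRing.LBaseChange (Ideal.Quotient.mk I)).obj K)) := fun i => by
    obtain ⟨e⟩ := hH i
    haveI := (hPt i).2
    rw [← finrank_E I (P.X i)]
    exact e.toLinearEquiv.finrank_eq
  have h0 := d_reduction_eq_zero I P (fun i => ⟨(hPt i).2, (hPt i).1⟩) eP hr i j
  exact (map_eq_zero_iff I (P.d i j)).1 h0

include hmax in
/-- the ranks of a minimal complex representing `A[0]` -/
lemma finrank_of_unit [Nontrivial A] (T : DRing.Cx A) [T.IsKProjective]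
    (hTt : ∀ i, Module.Free A (T.X i) ∧ Module.Finite A (T.X i))
    (eT : DRing.toD T ≅ Dual.inD A A) (hd : RedZero I T) (n : ℤ) :
    Module.finrank A (T.X n) = if n = 0 then 1 else 0 := by
  let S : DRing.Cx A :=
    (CochainComplex.singleFunctor (ModuleCat.{u} A) 0).obj (ModuleCat.of A A)
  have hSz : ∀ i : ℤ, i ≠ 0 → IsZero (S.X i) := fun i hi =>
    HomologicalComplex.isZero_single_obj_X (ComplexShape.up ℤ) 0 _ i hi
  let e0 : S.X 0 ≅ ModuleCat.of A A :=
    HomologicalComplex.singleObjXSelf (ComplexShape.up ℤ) 0 _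
  have hSt : ∀ i, Module.Free A (S.X i) ∧ Module.Finite A (S.X i) := fun i => by
    by_cases hi : i = 0
    · subst hi
      exact ⟨Module.Free.of_equiv e0.toLinearEquiv.symm,
        Module.Finite.equiv e0.toLinearEquiv.symm⟩
    · haveI : Subsingleton (S.X i) := ModuleCat.subsingleton_of_isZero (hSz i hi)
      exact ⟨inferInstance, inferInstance⟩
  haveI : S.IsKProjective := Groth.Agent.Helper3.LTenCx.isKProjective_of_bdd S 0
    (fun i hi => hSz i (by omega)) (fun i => by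
      haveI := (hSt i).1
      exact Module.Projective.of_free)
  let eS : DRing.toD S ≅ Dual.inD A A :=
    ((DerivedCategory.singleFunctorIsoCompQ (ModuleCat.{u} A) 0).app (ModuleCat.of A A)).symm
  have hSr : RedZero I S := fun i j x => by
    have h0 : (S.d i j).hom x = 0 := by
      rw [show S.d i j = 0 from rfl]
      rfl
    rw [h0]
    exact Submodule.zero_mem _
  have h1 := finrank_eq_of_redZero I T hTt eT hd n
  have h2 := finrank_eq_of_redZero I S hSt eS hSr n
  rw [h1, ← h2]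
  split_ifs with hn
  · subst hn
    exact e0.toLinearEquiv.finrank_eq.trans (Module.finrank_self A)
  · haveI : Subsingleton (S.X n) := ModuleCat.subsingleton_of_isZero (hSz n hn)
    exact Module.finrank_zero_of_subsingleton

lemma nonempty_iso_shift [Nontrivial A] (P : DRing.Cx A) (i₀ n : ℤ) (hn : n + i₀ = 0)
    (hfree : Module.Free A (P.X i₀)) (hfin : Module.Finite A (P.X i₀))
    (h1 : Module.finrank A (P.X i₀) = 1) (hz : ∀ i, i ≠ i₀ → IsZero (P.X i)) :
    Nonempty (DRing.toD P ≅ (Dual.inD A A)⟦n⟧) := by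
  obtain ⟨e⟩ := Groth.Agent.Helper3.Brutal.exists_iso_single_X P i₀ hz
  obtain ⟨l⟩ : Nonempty ((P.X i₀) ≃ₗ[A] A) :=
    FiniteDimensional.nonempty_linearEquiv_of_finrank_eq (by rw [h1, Module.finrank_self])
  let eX : P.X i₀ ≅ ModuleCat.of A A := l.toModuleIso
  exact ⟨DerivedCategory.Q.mapIso
      (e ≪≫ (CochainComplex.singleFunctor (ModuleCat.{u} A) i₀).mapIso eX) ≪≫
    ((DerivedCategory.singleFunctorIsoCompQ (ModuleCat.{u} A) i₀).app (ModuleCat.of A A)).symm ≪≫
    (((DerivedCategory.singleFunctors (ModuleCat.{u} A)).shiftIso n i₀ 0 hn).app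
      (ModuleCat.of A A)).symm⟩

include hmax in
theorem core (L : Dual.D A) (E₀ : DRing.Cx A)
    [DRing.HasLTensorCx A E₀] (P P' : DRing.Cx A) (b b' : ℤ)
    (hP0 : DRing.VanishesAbove P b) (hP'0 : DRing.VanishesAbove P' b')
    (hPt : ∀ i, Module.Finite A (P.X i) ∧ Module.Free A (P.X i))
    (hP't : ∀ i, Module.Finite A (P'.X i) ∧ Module.Free A (P'.X i))
    (eP : DRing.toD P ≅ L) (eP' : DRing.toD P' ≅ DRing.toD E₀)
    (hH : ∀ i, Nonempty ((E I).obj (P.X i) ≅ (homologyFunctor (ModuleCat.{u} (A ⧸ I)) i).obj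
        ((DRing.LBaseChange (Ideal.Quotient.mk I)).obj L)))
    (hH' : ∀ i, Nonempty ((E I).obj (P'.X i) ≅ (homologyFunctor (ModuleCat.{u} (A ⧸ I)) i).obj
        ((DRing.LBaseChange (Ideal.Quotient.mk I)).obj (DRing.toD E₀))))
    (h : Nonempty ((DRing.LTensorCx A E₀).obj L ≅ Dual.inD A A)) :
    ∃ n : ℤ, Nonempty (L ≅ (Dual.inD A A)⟦n⟧) ∧
      Nonempty (DRing.toD E₀ ≅ (Dual.inD A A)⟦(-n)⟧) := by
  letI : Field (A ⧸ I) := Ideal.Quotient.field I
  haveI : Nontrivial A := (Ideal.Quotient.mk I).domain_nontrivial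
  haveI hKP : P.IsKProjective := Groth.Agent.Helper3.LTenCx.isKProjective_of_bdd P b hP0
    (fun i => by
      obtain ⟨h1, h2⟩ := hPt i
      exact Module.Projective.of_free)
  haveI hKP' : P'.IsKProjective := Groth.Agent.Helper3.LTenCx.isKProjective_of_bdd P' b' hP'0
    (fun i => by
      obtain ⟨h1, h2⟩ := hP't i
      exact Module.Projective.of_free)
  have hflat : DRing.IsKFlat A P := Groth.Agent.Helper3.LTenCx.isKFlat_of_bdd P b hP0
    (fun i => by
      obtain ⟨h1, h2⟩ := hPt i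
      exact Module.Projective.of_free)
  obtain ⟨eT0⟩ := Groth.Agent.Helper3.LTenCx.nonempty_iso_tensor E₀ L P P' hflat eP eP'
  obtain ⟨h⟩ := h
  have eT : DRing.toD (P ⊗ P') ≅ Dual.inD A A := eT0.symm ≪≫ h
  have hTt : ∀ i, Module.Free A ((P ⊗ P').X i) ∧ Module.Finite A ((P ⊗ P').X i) := fun i =>
    ⟨Groth.Agent.Helper3.LTenCx.free_tensor_X (fun i => (hPt i).2) (fun i => (hP't i).2) i,
     Groth.Agent.Helper3.LTenCx.finite_tensor_X b b' hP0 hP'0 (fun i => (hPt i).1)
      (fun i => (hP't i).1) i⟩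
  haveI : (P ⊗ P').IsKProjective := Groth.Agent.Helper3.LTenCx.isKProjective_of_bdd (P ⊗ P')
    (b + b') (Groth.Agent.Helper3.LTenCx.isZero_tensor_X_above b b' hP0 hP'0) (fun i => by
      haveI := (hTt i).1
      exact Module.Projective.of_free)
  have hPr : RedZero I P := redZero_of_minimal I P hPt eP hH
  have hP'r : RedZero I P' := redZero_of_minimal I P' hP't eP' hH'
  have hTr : RedZero I (P ⊗ P') := redZero_tensor I P P' hPr hP'r
  have hrank := finrank_of_unit I (P ⊗ P') hTt eT hTr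
  -- the rank inequalities
  have hle : ∀ i j, Module.finrank A (P.X i) * Module.finrank A (P'.X j) ≤
      if i + j = 0 then 1 else 0 := fun i j => by
    rw [← hrank (i + j)]
    exact finrank_mul_le P P' (fun i => (hPt i).2) (fun i => (hP't i).2) (fun n => (hTt n).2) i j
  have hT0 : Module.finrank A ((P ⊗ P').X 0) = 1 := by
    rw [hrank 0, if_pos rfl]
  have hex : ∃ i, Module.finrank A (P.X i) ≠ 0 := by
    by_contra hcon
    push Not at hcon
    have hz : IsZero ((P ⊗ P').X 0) := by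
      rw [Groth.Agent.Helper3.LTenCx.tensor_X_eq]
      apply Groth.Agent.Helper3.LTenCx.isZero_coprod
      rintro ⟨⟨i₁, i₂⟩, hi⟩
      refine Groth.Agent.Helper3.LTenCx.isZero_tensor_left ?_
      haveI := (hPt i₁).1
      haveI := (hPt i₁).2
      haveI : Subsingleton (P.X i₁) := (Module.finrank_eq_zero_iff_of_free A _).1 (hcon i₁)
      exact ModuleCat.isZero_of_subsingleton _
    haveI : Subsingleton ((P ⊗ P').X 0) := ModuleCat.subsingleton_of_isZero hz
    have h0 : Module.finrank A ((P ⊗ P').X 0) = 0 := Module.finrank_zero_of_subsingleton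
    omega
  have hex' : ∃ j, Module.finrank A (P'.X j) ≠ 0 := by
    by_contra hcon
    push Not at hcon
    have hz : IsZero ((P ⊗ P').X 0) := by
      rw [Groth.Agent.Helper3.LTenCx.tensor_X_eq]
      apply Groth.Agent.Helper3.LTenCx.isZero_coprod
      rintro ⟨⟨i₁, i₂⟩, hi⟩
      refine Groth.Agent.Helper3.LTenCx.isZero_tensor_right ?_
      haveI := (hP't i₂).1
      haveI := (hP't i₂).2
      haveI : Subsingleton (P'.X i₂) := (Module.finrank_eq_zero_iff_of_free A _).1 (hcon i₂)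
      exact ModuleCat.isZero_of_subsingleton _
    haveI : Subsingleton ((P ⊗ P').X 0) := ModuleCat.subsingleton_of_isZero hz
    have h0 : Module.finrank A ((P ⊗ P').X 0) = 0 := Module.finrank_zero_of_subsingleton
    omega
  obtain ⟨i₀, j₀, hsum, hr1, hr'1, hzP, hzP'⟩ := combinatorics
    (fun i => Module.finrank A (P.X i)) (fun j => Module.finrank A (P'.X j)) hle hex hex'
  have hzero : ∀ i, i ≠ i₀ → IsZero (P.X i) := fun i hi => by
    haveI := (hPt i).1
    haveI := (hPt i).2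
    haveI : Subsingleton (P.X i) := (Module.finrank_eq_zero_iff_of_free A _).1 (hzP i hi)
    exact ModuleCat.isZero_of_subsingleton _
  have hzero' : ∀ j, j ≠ j₀ → IsZero (P'.X j) := fun j hj => by
    haveI := (hP't j).1
    haveI := (hP't j).2
    haveI : Subsingleton (P'.X j) := (Module.finrank_eq_zero_iff_of_free A _).1 (hzP' j hj)
    exact ModuleCat.isZero_of_subsingleton _
  obtain ⟨u1⟩ := nonempty_iso_shift P i₀ j₀ hsum (hPt i₀).2 (hPt i₀).1 hr1 hzero
  obtain ⟨u2⟩ := nonempty_iso_shift P' j₀ (-j₀) (by omega) (hP't j₀).2 (hP't j₀).1 hr'1 hzero'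
  exact ⟨j₀, ⟨eP.symm ≪≫ u1⟩, ⟨eP'.symm ≪≫ u2⟩⟩

theorem main_S11182 (A : Type u) [CommRing A] [IsLocalRing A] [IsNoetherianRing A]
    (L : Dual.D A) (E₀ : DRing.Cx A) [DRing.HasLTensorCx A E₀]
    (hLfin : ∀ i : ℤ, Module.Finite A (Dual.HD A L i))
    (hLbdd : ∃ b : ℤ, ∀ i : ℤ, b < i → Subsingleton (Dual.HD A L i))
    (hEfin : ∀ i : ℤ, Module.Finite A (Dual.HD A (DRing.toD E₀) i))
    (hEbdd : ∃ b : ℤ, ∀ i : ℤ, b < i → Subsingleton (Dual.HD A (DRing.toD E₀) i))
    (h : Nonempty ((DRing.LTensorCx A E₀).obj L ≅ Dual.inD A A)) :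
    ∃ n : ℤ, Nonempty (L ≅ (Dual.inD A A)⟦n⟧) ∧
      Nonempty (DRing.toD E₀ ≅ (Dual.inD A A)⟦(-n)⟧) := by
  haveI : (IsLocalRing.maximalIdeal A).IsMaximal := IsLocalRing.maximalIdeal.isMaximal A
  haveI : DRing.HasLBaseChange (Ideal.Quotient.mk (IsLocalRing.maximalIdeal A)) :=
    Groth.Agent.Lib.Helper5.DTenLib.hasLBaseChange _
  have hI : IsLocalRing.maximalIdeal A ≤ Ideal.jacobson (⊥ : Ideal A) :=
    IsLocalRing.maximalIdeal_le_jacobson ⊥
  have hR : ∀ J : Ideal A, J.FG → Module.FinitePresentation A J := fun J _ =>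
    Module.finitePresentation_of_finite A J
  have hL : DRing.IsPseudoCoherent' A L :=
    (Groth.Agent.Helper5.PCCoh.s6943 A hR L hLbdd 0).2.2 (fun i => by
      haveI := hLfin i
      exact Module.finitePresentation_of_finite A _)
  have hE : DRing.IsPseudoCoherent' A (DRing.toD E₀) :=
    (Groth.Agent.Helper5.PCCoh.s6943 A hR (DRing.toD E₀) hEbdd 0).2.2 (fun i => by
      haveI := hEfin i
      exact Module.finitePresentation_of_finite A _)
  obtain ⟨P, b, hP0, hPt, ⟨eP⟩, hH⟩ := exists_minimal (IsLocalRing.maximalIdeal A) hI L hL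
  obtain ⟨P', b', hP'0, hP't, ⟨eP'⟩, hH'⟩ :=
    exists_minimal (IsLocalRing.maximalIdeal A) hI (DRing.toD E₀) hE
  exact core (IsLocalRing.maximalIdeal A) L E₀ P P' b b' hP0 hP'0 hPt hP't eP eP' hH hH' h

end Main

end Groth.Agent.Helper3.InvObj
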