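import Mathlib
import Groth.Agent.Lib.Helper3.InvObj1
import Groth.Agent.Lib.Helper5.TorAmp.FlatAcyc

/-!
# Tensoring with the adic completion `Â` of a Noetherian ring (helper3, S7060 part 1)

Module-level facts: `x ↦ x ⊗ 1 : M → M ⊗_A Â` becomes an isomorphism after `A/I ⊗_A -`, the
comparison `M ⊗_A Â ≃ M^` for finite `M`, and the homology of a termwise natural transformation
`𝟭 ⟶ Φ` for an exact functor `Φ`.
-/

set_option autoImplicit false
universe u v
open CategoryTheory CategoryTheory.Limits MonoidalCategory TensorProduct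

namespace Groth.Agent.Helper3.DCompFlat

open Groth.Agent.Helper3.ProjLiftNil Groth.Agent.Helper3.PcLift Groth.Agent.Helper3.InvObj
open Groth.Agent.Helper5.FlatAcyc

section Hom

/-- homology of a termwise natural transformation `𝟭 ⟶ Φ` for an exact functor `Φ` -/
theorem exists_homologyIso_natTrans {C : Type u} [Category.{v} C] [Abelian C] (Φ : C ⥤ C)
    [Φ.Additive] [Φ.PreservesHomology] (τ : 𝟭 C ⟶ Φ) (P : CochainComplex C ℤ) (n : ℤ)
    (φ : P ⟶ (Φ.mapHomologicalComplex (ComplexShape.up ℤ)).obj P)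
    (hφ : ∀ i, φ.f i = τ.app (P.X i)) :
    ∃ θ : ((Φ.mapHomologicalComplex (ComplexShape.up ℤ)).obj P).homology n ≅ Φ.obj (P.homology n),
      HomologicalComplex.homologyMap φ n ≫ θ.hom = τ.app (P.homology n) := by
  let S := P.sc n
  let h := S.homologyData.left
  let φ' : S ⟶ S.map Φ := (HomologicalComplex.shortComplexFunctor C (ComplexShape.up ℤ) n).map φ
  have h1 : φ'.τ₁ = τ.app S.X₁ := hφ _
  have h2 : φ'.τ₂ = τ.app S.X₂ := hφ _
  let ψ : ShortComplex.LeftHomologyMapData φ' h (h.map Φ) :=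
    { φK := τ.app h.K
      φH := τ.app h.H
      commi := by
        rw [ShortComplex.LeftHomologyData.map_i, h2]
        exact (τ.naturality h.i).symm
      commf' := by
        rw [ShortComplex.LeftHomologyData.map_f', h1]
        exact τ.naturality h.f'
      commπ := by
        rw [ShortComplex.LeftHomologyData.map_π]
        exact τ.naturality h.π }
  have key : ShortComplex.homologyMap φ' =
      h.homologyIso.hom ≫ τ.app h.H ≫ (h.map Φ).homologyIso.inv := ψ.homologyMap_eq
  refine ⟨(h.map Φ).homologyIso ≪≫ Φ.mapIso h.homologyIso.symm, ?_⟩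
  have hn : τ.app h.H ≫ Φ.map h.homologyIso.inv = h.homologyIso.inv ≫ τ.app S.homology :=
    (τ.naturality h.homologyIso.inv).symm
  have aux : ∀ {X Y Z W V : C} (a : X ≅ Y) (t : Y ⟶ Z) (b : W ≅ Z) (c : Z ⟶ V),
      (a.hom ≫ t ≫ b.inv) ≫ (b.hom ≫ c) = a.hom ≫ t ≫ c := by
    intro X Y Z W V a t b c
    simp
  show ShortComplex.homologyMap φ' ≫ ((h.map Φ).homologyIso.hom ≫ Φ.map h.homologyIso.inv) = _
  rw [key]
  refine (aux h.homologyIso (τ.app h.H) (h.map Φ).homologyIso (Φ.map h.homologyIso.inv)).trans ?_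
  rw [hn, Iso.hom_inv_id_assoc]
  rfl

end Hom

variable {A : Type u} [CommRing A] (I : Ideal A)

/-- the completion `Â` as an `A`-module -/
noncomputable abbrev Ah : ModuleCat.{u} A := ModuleCat.of A (AdicCompletion I A)

/-- `x ↦ x ⊗ 1 : X ⟶ X ⊗ Â` -/
noncomputable def nu (X : ModuleCat.{u} A) : X ⟶ X ⊗ Ah I :=
  ModuleCat.ofHom ((TensorProduct.mk A X (AdicCompletion I A)).flip 1)

lemma nu_apply (X : ModuleCat.{u} A) (x : X) :
    (nu I X).hom x = x ⊗ₜ[A] (1 : AdicCompletion I A) := rfl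

lemma nu_naturality {X Y : ModuleCat.{u} A} (f : X ⟶ Y) :
    f ≫ nu I Y = nu I X ≫ (f ▷ Ah I) := by
  ext x
  rfl

/-- `ν` as a natural transformation `𝟭 ⟶ - ⊗ Â` -/
noncomputable def nuNat : 𝟭 (ModuleCat.{u} A) ⟶ tensorRight (Ah I) where
  app X := nu I X
  naturality _ _ f := nu_naturality I f

/-- the chain map `P ⟶ P ⊗ Â` -/
noncomputable def nuCx (P : CochainComplex (ModuleCat.{u} A) ℤ) : P ⟶ (TM (Ah I)).obj P where
  f i := nu I (P.X i)
  comm' i j _ := (nu_naturality I (P.d i j)).symm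

lemma pfc_tensorRight (M : ModuleCat.{u} A) : PreservesFiniteColimits (tensorRight M) :=
  preservesFiniteColimits_of_natIso (BraidedCategory.tensorLeftIsoTensorRight M)

section Mod

/-- elements of `Â` killed by `Â → A/I` lie in `I Â` -/
lemma mem_smul_top_of_evalOne (hfg : I.FG) (a : AdicCompletion I A)
    (h : AdicCompletion.evalOneₐ I a = 0) :
    a ∈ (I • ⊤ : Submodule A (AdicCompletion I A)) := by
  have h1 : a ∈ RingHom.ker (AdicCompletion.evalOneₐ I).toRingHom := h
  rw [AdicCompletion.ker_evalOneₐ_eq_map I hfg] at h1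
  refine Submodule.span_induction
    (p := fun x _ => x ∈ (I • ⊤ : Submodule A (AdicCompletion I A))) ?_ ?_ ?_ ?_ h1
  · rintro _ ⟨i, hi, rfl⟩
    have h2 : algebraMap A (AdicCompletion I A) i = i • (1 : AdicCompletion I A) := by
      rw [Algebra.smul_def, mul_one]
    rw [h2]
    exact Submodule.smul_mem_smul hi Submodule.mem_top
  · exact Submodule.zero_mem _
  · intro x y _ _ hx hy
    exact Submodule.add_mem _ hx hy
  · intro b x _ hx
    rw [smul_eq_mul]
    exact smul_top_map I (LinearMap.mulLeft A b) hx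

lemma quot_smul_eq_zero (X : Type u) [AddCommGroup X] [Module A X] {a : A} (ha : a ∈ I)
    (z : X ⧸ (I • ⊤ : Submodule A X)) : a • z = 0 := by
  obtain ⟨w, rfl⟩ := Submodule.Quotient.mk_surjective _ z
  rw [← Submodule.Quotient.mk_smul, Submodule.Quotient.mk_eq_zero]
  exact Submodule.smul_mem_smul ha Submodule.mem_top

/-- the retraction `X ⊗ Â → X / I X` -/
noncomputable def retr (X : Type u) [AddCommGroup X] [Module A X] :
    X ⊗[A] AdicCompletion I A →ₗ[A] X ⧸ (I • ⊤ : Submodule A X) :=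
  (TensorProduct.tensorQuotEquivQuotSMul X I).toLinearMap ∘ₗ
    LinearMap.lTensor X (AdicCompletion.evalOneₐ I).toLinearMap

lemma retr_tmul_one (X : Type u) [AddCommGroup X] [Module A X] (x : X) :
    retr I X (x ⊗ₜ[A] (1 : AdicCompletion I A)) = Submodule.Quotient.mk x := by
  show TensorProduct.tensorQuotEquivQuotSMul X I
    (x ⊗ₜ[A] (AdicCompletion.evalOneₐ I (1 : AdicCompletion I A))) = _
  rw [map_one, ← map_one (Ideal.Quotient.mk I), TensorProduct.tensorQuotEquivQuotSMul_tmul_mk,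
    one_smul]

lemma retr_eq_zero_of_mem (X : Type u) [AddCommGroup X] [Module A X]
    {y : X ⊗[A] AdicCompletion I A}
    (hy : y ∈ (I • ⊤ : Submodule A (X ⊗[A] AdicCompletion I A))) : retr I X y = 0 := by
  refine Submodule.smul_induction_on hy (fun a ha w _ => ?_) (fun x y hx hy => ?_)
  · rw [map_smul]
    exact quot_smul_eq_zero I X ha _
  · rw [map_add, hx, hy, add_zero]

lemma nu_inj_mod (X : ModuleCat.{u} A) (x : X)
    (h : (nu I X).hom x ∈ (I • ⊤ : Submodule A (X ⊗ Ah I : ModuleCat.{u} A))) :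
    x ∈ (I • ⊤ : Submodule A X) := by
  have h1 : retr I X (x ⊗ₜ[A] (1 : AdicCompletion I A)) = 0 := retr_eq_zero_of_mem I X h
  rw [retr_tmul_one] at h1
  exact (Submodule.Quotient.mk_eq_zero _).1 h1

lemma nu_surj_mod (hfg : I.FG) (X : ModuleCat.{u} A) (y : (X ⊗ Ah I : ModuleCat.{u} A)) :
    ∃ x : X, y - (nu I X).hom x ∈ (I • ⊤ : Submodule A (X ⊗ Ah I : ModuleCat.{u} A)) := by
  refine TensorProduct.induction_on y ?_ (fun m a => ?_) (fun y₁ y₂ h₁ h₂ => ?_)
  · exact ⟨0, by rw [map_zero, sub_zero]; exact Submodule.zero_mem _⟩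
  · obtain ⟨a₀, ha₀⟩ := Ideal.Quotient.mk_surjective (AdicCompletion.evalOneₐ I a)
    refine ⟨a₀ • m, ?_⟩
    have h1 : a - a₀ • (1 : AdicCompletion I A) ∈ (I • ⊤ : Submodule A (AdicCompletion I A)) := by
      apply mem_smul_top_of_evalOne I hfg
      rw [map_sub, map_smul, map_one, sub_eq_zero, ← ha₀, Algebra.smul_def, mul_one]
      rfl
    have h2 : m ⊗ₜ[A] a - (nu I X).hom (a₀ • m) =
        m ⊗ₜ[A] (a - a₀ • (1 : AdicCompletion I A)) := by
      rw [nu_apply, TensorProduct.tmul_sub, TensorProduct.tmul_smul, TensorProduct.smul_tmul']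
    rw [h2]
    exact tmul_mem_right I m h1
  · obtain ⟨x₁, hx₁⟩ := h₁
    obtain ⟨x₂, hx₂⟩ := h₂
    refine ⟨x₁ + x₂, ?_⟩
    have h3 : y₁ + y₂ - (nu I X).hom (x₁ + x₂) =
        (y₁ - (nu I X).hom x₁) + (y₂ - (nu I X).hom x₂) := by
      rw [map_add]
      abel
    rw [h3]
    exact Submodule.add_mem _ hx₁ hx₂

/-- criterion for `A/I ⊗ φ` to be bijective -/
lemma bijective_E_map {X Y : ModuleCat.{u} A} (φ : X ⟶ Y)
    (hs : ∀ y : Y, ∃ x : X, y - φ.hom x ∈ (I • ⊤ : Submodule A Y))
    (hi : ∀ x : X, φ.hom x ∈ (I • ⊤ : Submodule A Y) → x ∈ (I • ⊤ : Submodule A X)) :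
    Function.Bijective ((E I).map φ).hom := by
  have hnat : ∀ x : X, ((adj I).unit.app Y).hom (φ.hom x) =
      ((E I).map φ).hom (((adj I).unit.app X).hom x) := by
    intro x
    exact congrArg (fun g => g.hom x) (unit_nat I φ)
  constructor
  · rw [injective_iff_map_eq_zero]
    intro z hz
    obtain ⟨x, hx⟩ := unit_surjective I X z
    have hz' : ((adj I).unit.app Y).hom (φ.hom x) = 0 := by
      rw [hnat]
      exact (congrArg ((E I).map φ).hom hx).trans hz
    have h0 := unit_eq_zero_of_mem I X x (hi x (mem_of_unit_eq_zero I Y _ hz'))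
    exact hx.symm.trans h0
  · intro z
    obtain ⟨y, hy⟩ := unit_surjective I Y z
    obtain ⟨x, hx⟩ := hs y
    refine ⟨((adj I).unit.app X).hom x, ?_⟩
    rw [← hnat]
    have h0 := unit_eq_zero_of_mem I Y _ hx
    rw [map_sub, sub_eq_zero] at h0
    exact h0.symm.trans hy

/-- `A/I ⊗ (M → M ⊗ Â)` is an isomorphism -/
theorem isIso_E_map_nu (hfg : I.FG) (X : ModuleCat.{u} A) : IsIso ((E I).map (nu I X)) :=
  (ConcreteCategory.isIso_iff_bijective _).2
    (bijective_E_map I (nu I X) (nu_surj_mod I hfg X) (nu_inj_mod I X))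

end Mod

section Fin

variable [IsNoetherianRing A]

/-- `M ⊗ Â ≃ M^` for a finite module over a Noetherian ring -/
noncomputable def tensorEquivCompletion (M : Type u) [AddCommGroup M] [Module A M]
    [Module.Finite A M] : (M ⊗[A] AdicCompletion I A) ≃ₗ[A] AdicCompletion I M :=
  (TensorProduct.comm A M (AdicCompletion I A)) ≪≫ₗ
    (AdicCompletion.ofTensorProductEquivOfFiniteNoetherian I M).restrictScalars A

lemma tensorEquivCompletion_tmul_one (M : Type u) [AddCommGroup M] [Module A M]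
    [Module.Finite A M] (m : M) :
    tensorEquivCompletion I M (m ⊗ₜ[A] (1 : AdicCompletion I A)) = AdicCompletion.of I M m := by
  show AdicCompletion.ofTensorProduct I M ((1 : AdicCompletion I A) ⊗ₜ[A] m) = _
  rw [AdicCompletion.ofTensorProduct_tmul, one_smul]

end Fin

end Groth.Agent.Helper3.DCompFlat
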