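import Mathlib
import Groth.Prelude.Def_DDual2
import Groth.Agent.Lib.Helper5.KProj.DerAdj
import Groth.Agent.Lib.Helper5.KProj.LBC

/-!
# Derived Nakayama for nilpotent ideals
-/

namespace Groth.Agent.Helper3.DerNak

open CategoryTheory Limits DerivedCategory Pretriangulated

universe w v u

section General

variable {C : Type u} [Category.{v} C] [Abelian C] [HasDerivedCategory.{w} C]

/-- the object of the derived category given by `M` placed in degree `j` -/
noncomputable abbrev Sg (j : ℤ) (M : C) : DerivedCategory C :=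
  Q.obj ((HomologicalComplex.single C (ComplexShape.up ℤ) j).obj M)

/-- vanishing of maps to the middle term of a short exact sequence -/
lemma hom_eq_zero_of_ses (K : DerivedCategory C) (j : ℤ) (S : ShortComplex C) (hS : S.ShortExact)
    (h₁ : ∀ f : K ⟶ Sg j S.X₁, f = 0) (h₃ : ∀ f : K ⟶ Sg j S.X₃, f = 0)
    (f : K ⟶ Sg j S.X₂) : f = 0 := by
  have hS' : (S.map (HomologicalComplex.single C (ComplexShape.up ℤ) j)).ShortExact :=
    hS.map_of_exact _
  have hT := triangleOfSES_distinguished hS'
  obtain ⟨g, hg⟩ := Triangle.coyoneda_exact₂ _ hT f (h₃ _)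
  rw [hg, h₁ g]
  exact zero_comp

/-- if every map in the derived category from `P` to an injective object placed in degree `j`
vanishes, then `P` is exact in degree `j` -/
lemma isZero_homology_of_hom_eq_zero [EnoughInjectives C] (P : CochainComplex C ℤ) (j : ℤ)
    (h : ∀ (J : C) [Injective J] (f : Q.obj P ⟶ Sg j J), f = 0) : IsZero (P.homology j) := by
  let H := P.homology j
  let J := Injective.under H
  let ι : H ⟶ J := Injective.ι H
  let φ : P.X j ⟶ J := Injective.factorThru (P.homologyπ j ≫ ι) (P.iCycles j)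
  have hφ : P.iCycles j ≫ φ = P.homologyπ j ≫ ι := Injective.comp_factorThru _ _
  have hφ' : ∀ i, (ComplexShape.up ℤ).Rel i j → P.d i j ≫ φ = 0 := by
    intro i hi
    rw [← P.toCycles_i i j, Category.assoc, hφ, P.toCycles_comp_homologyπ_assoc, zero_comp]
  let f : P ⟶ (HomologicalComplex.single C (ComplexShape.up ℤ) j).obj J :=
    HomologicalComplex.mkHomToSingle φ hφ'
  have hf : Q.map f = 0 := h J _
  have h0 : HomologicalComplex.homologyMap f j = 0 := by
    have h1 : (homologyFunctor C j).map (Q.map f) ≫ (homologyFunctorFactors C j).hom.app _ =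
        (homologyFunctorFactors C j).hom.app P ≫ HomologicalComplex.homologyMap f j :=
      (homologyFunctorFactors C j).hom.naturality f
    rw [hf, Functor.map_zero, zero_comp] at h1
    have : IsIso ((homologyFunctorFactors C j).hom.app P) := inferInstance
    exact (cancel_epi ((homologyFunctorFactors C j).hom.app P)).1 (h1.symm.trans comp_zero.symm)
  have key : HomologicalComplex.homologyMap f j ≫
      (HomologicalComplex.singleObjHomologySelfIso (ComplexShape.up ℤ) j J).hom = ι := by
    rw [← cancel_epi (P.homologyπ j), HomologicalComplex.homologyπ_naturality_assoc,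
      HomologicalComplex.homologyπ_singleObjHomologySelfIso_hom,
      HomologicalComplex.singleObjCyclesSelfIso_hom, HomologicalComplex.cyclesMap_i_assoc,
      HomologicalComplex.mkHomToSingle_f, Category.assoc, Iso.inv_hom_id, Category.comp_id, hφ]
  rw [h0, zero_comp] at key
  have : Mono (0 : H ⟶ J) := by
    rw [key]
    infer_instance
  exact IsZero.of_mono_eq_zero (0 : H ⟶ J) rfl

end General

section Ring

attribute [local instance] HasDerivedCategory.standard

variable {R : Type u} [CommRing R] (I : Ideal R)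

/-- restriction of scalars along `R → R/I` -/
noncomputable abbrev Rs : ModuleCat.{u} (R ⧸ I) ⥤ ModuleCat.{u} R :=
  ModuleCat.restrictScalars (Ideal.Quotient.mk I)

/-- the derived adjunction between derived base change and restriction of scalars -/
noncomputable def lbcAdj [DRing.HasLBaseChange (Ideal.Quotient.mk I)] :
    DRing.LBaseChange (Ideal.Quotient.mk I) ⊣ DRing.restrictD (Ideal.Quotient.mk I) :=
  Groth.Agent.Lib.Helper5.KProj.derivedAdj
    (ModuleCat.extendRestrictScalarsAdj.{u, u, u} (Ideal.Quotient.mk I))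
    (Groth.Agent.Lib.Helper5.KProj.hasKProjRes_moduleCat R)

/-- restriction of scalars of a module placed in degree `j` -/
noncomputable def restrictSgIso (j : ℤ) (N : ModuleCat.{u} (R ⧸ I)) :
    (DRing.restrictD (Ideal.Quotient.mk I)).obj (Sg j N) ≅ Sg j ((Rs I).obj N) :=
  (Functor.mapDerivedCategoryFactors (Rs I)).app _ ≪≫
    Q.mapIso ((HomologicalComplex.singleMapHomologicalComplex (Rs I) (ComplexShape.up ℤ) j).app N)

variable [DRing.HasLBaseChange (Ideal.Quotient.mk I)]

lemma hom_eq_zero_restrict (K : Dual.D R) (b : ℤ)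
    [((DRing.LBaseChange (Ideal.Quotient.mk I)).obj K).IsLE b] (j : ℤ) (hj : b < j)
    (N : ModuleCat.{u} (R ⧸ I)) (f : K ⟶ Sg j ((Rs I).obj N)) : f = 0 := by
  have h : f ≫ (restrictSgIso I j N).inv = 0 := by
    have h1 : ((lbcAdj I).homEquiv _ _).symm (f ≫ (restrictSgIso I j N).inv) = 0 :=
      TStructure.t.zero_of_isLE_of_isGE _ b j hj inferInstance inferInstance
    have h2 := congrArg ((lbcAdj I).homEquiv _ _) h1
    rw [Equiv.apply_symm_apply] at h2
    rw [h2, Adjunction.homEquiv_unit, Functor.map_zero, comp_zero]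
  rw [← cancel_mono (restrictSgIso I j N).inv, h, zero_comp]

/-- the quotient `M / I M` as an `R/I`-module -/
noncomputable abbrev Qt (M : ModuleCat.{u} R) : ModuleCat.{u} (R ⧸ I) :=
  ModuleCat.of (R ⧸ I) (M ⧸ (I • ⊤ : Submodule R M))

/-- the quotient map `M → M / I M`, as a map to the restriction of scalars -/
noncomputable def toQt (M : ModuleCat.{u} R) : M ⟶ (Rs I).obj (Qt I M) :=
  ModuleCat.ofHom
    { toFun := fun m => Submodule.Quotient.mk m
      map_add' := fun x y => rfl
      map_smul' := fun a x => rfl }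

lemma toQt_apply (M : ModuleCat.{u} R) (m : M) :
    (toQt I M).hom m = (Submodule.Quotient.mk m : M ⧸ (I • ⊤ : Submodule R M)) := rfl

/-- the short exact sequence `0 → IM → M → M/IM → 0` -/
noncomputable def sesI (M : ModuleCat.{u} R) : ShortComplex (ModuleCat.{u} R) :=
  ShortComplex.mk (ModuleCat.ofHom (I • ⊤ : Submodule R M).subtype) (toQt I M) (by
    ext ⟨x, hx⟩
    change (toQt I M).hom x = 0
    rw [toQt_apply]
    exact (Submodule.Quotient.mk_eq_zero _).2 hx)

lemma sesI_shortExact (M : ModuleCat.{u} R) : (sesI I M).ShortExact := by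
  refine ShortComplex.ShortExact.mk' ?_ ?_ ?_
  · rw [ShortComplex.moduleCat_exact_iff]
    intro x hx
    change (toQt I M).hom x = 0 at hx
    rw [toQt_apply] at hx
    exact ⟨⟨x, (Submodule.Quotient.mk_eq_zero _).1 hx⟩, rfl⟩
  · rw [ModuleCat.mono_iff_injective]
    exact Subtype.val_injective
  · rw [ModuleCat.epi_iff_surjective]
    intro y
    obtain ⟨x, rfl⟩ := Submodule.Quotient.mk_surjective _ y
    exact ⟨x, rfl⟩

lemma pow_smul_top_sub (M : ModuleCat.{u} R) (k : ℕ)
    (h : (I ^ (k + 1) • ⊤ : Submodule R M) = ⊥) :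
    (I ^ k • ⊤ : Submodule R ↥(I • ⊤ : Submodule R M)) = ⊥ := by
  have h1 : Submodule.map (I • ⊤ : Submodule R M).subtype
      (I ^ k • ⊤ : Submodule R ↥(I • ⊤ : Submodule R M)) = ⊥ := by
    rw [Submodule.map_smul'', Submodule.map_subtype_top, ← Submodule.mul_smul, ← pow_succ, h]
  exact Submodule.map_injective_of_injective (f := (I • ⊤ : Submodule R M).subtype)
    Subtype.val_injective (h1.trans (Submodule.map_bot _).symm)

lemma hom_eq_zero_of_pow (K : Dual.D R) (b : ℤ)
    [((DRing.LBaseChange (Ideal.Quotient.mk I)).obj K).IsLE b] (j : ℤ) (hj : b < j) (k : ℕ) :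
    ∀ (M : ModuleCat.{u} R), (I ^ k • ⊤ : Submodule R M) = ⊥ → ∀ f : K ⟶ Sg j M, f = 0 := by
  induction k with
  | zero =>
    intro M hM f
    have hz : IsZero M := by
      have : Subsingleton M := by
        refine ⟨fun x y => ?_⟩
        have hx : x ∈ (I ^ 0 • ⊤ : Submodule R M) := by
          rw [pow_zero, Ideal.one_eq_top, Submodule.top_smul]; trivial
        have hy : y ∈ (I ^ 0 • ⊤ : Submodule R M) := by
          rw [pow_zero, Ideal.one_eq_top, Submodule.top_smul]; trivial
        rw [hM] at hx hy
        rw [(Submodule.mem_bot R).1 hx, (Submodule.mem_bot R).1 hy]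
      exact ModuleCat.isZero_of_subsingleton M
    have hz' : IsZero (Sg j M) :=
      Functor.map_isZero Q (Functor.map_isZero (HomologicalComplex.single _ _ j) hz)
    exact hz'.eq_of_tgt _ _
  | succ k ih =>
    intro M hM f
    exact hom_eq_zero_of_ses K j (sesI I M) (sesI_shortExact I M)
      (ih _ (pow_smul_top_sub I M k hM))
      (hom_eq_zero_restrict I K b j hj (Qt I M)) f

/-- derived Nakayama: if `I` is nilpotent and `K ⊗^L R/I` is in `D^{≤ b}` then so is `K` -/
theorem isLE_of_isLE_LBaseChange (hI : IsNilpotent I) (K : Dual.D R) (b : ℤ)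
    [((DRing.LBaseChange (Ideal.Quotient.mk I)).obj K).IsLE b] : K.IsLE b := by
  obtain ⟨n, hn⟩ := hI
  let P := Q.objPreimage K
  let e : Q.obj P ≅ K := Q.objObjPreimageIso K
  rw [isLE_iff]
  intro j hj
  have h1 : IsZero (P.homology j) := by
    refine isZero_homology_of_hom_eq_zero P j (fun J _ f => ?_)
    have := hom_eq_zero_of_pow I K b j hj n J (by
      rw [hn, Ideal.zero_eq_bot, Submodule.bot_smul]) (e.inv ≫ f)
    rw [← cancel_epi e.inv, this, comp_zero]
  exact h1.of_iso ((homologyFunctor _ j).mapIso e.symm ≪≫ (homologyFunctorFactors _ j).app P)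

end Ring

end Groth.Agent.Helper3.DerNak
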