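import Mathlib

/-!
# The projection formula for extension / restriction of scalars of modules
-/

namespace Groth.Agent.Helper3.ProjForm

open CategoryTheory Limits MonoidalCategory TensorProduct

universe u

variable {A B : Type u} [CommRing A] [CommRing B] (f : A →+* B)

/-- the projection formula as a linear equivalence -/
noncomputable def projEquiv (X : ModuleCat.{u} A) (N : ModuleCat.{u} B) :
    ((ModuleCat.restrictScalars f).obj ((ModuleCat.extendScalars f).obj X ⊗ N) : Type u) ≃ₗ[A]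
      ((X ⊗ (ModuleCat.restrictScalars f).obj N : ModuleCat.{u} A) : Type u) :=
  letI : Algebra A B := f.toAlgebra
  letI : Module A N := Module.compHom N f
  haveI : IsScalarTower A B N := ⟨fun a b n => by
    change (f a * b) • n = f a • (b • n)
    rw [mul_smul]⟩
  let e₁ : ((ModuleCat.extendScalars f).obj X ⊗[B] N) ≃ₗ[B] N ⊗[B] (B ⊗[A] X) :=
    TensorProduct.comm B _ _
  let e₂ : N ⊗[B] (B ⊗[A] X) ≃ₗ[B] N ⊗[A] X :=
    AlgebraTensorModule.cancelBaseChange A B B N X
  let e₃ : N ⊗[A] X ≃ₗ[A] X ⊗[A] N := TensorProduct.comm A N X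
  have hadd : ∀ s t : ((ModuleCat.extendScalars f).obj X ⊗[B] N),
      e₃ (e₂ (e₁ (s + t))) = e₃ (e₂ (e₁ s)) + e₃ (e₂ (e₁ t)) := fun s t => by
    rw [map_add, map_add, map_add]
  have hsmul : ∀ (a : A) (t : ((ModuleCat.extendScalars f).obj X ⊗[B] N)),
      e₃ (e₂ (e₁ (f a • t))) = a • e₃ (e₂ (e₁ t)) := fun a t => by
    have h1 : e₂ (e₁ (f a • t)) = f a • e₂ (e₁ t) := by rw [map_smul, map_smul]
    have h2 : (f a • e₂ (e₁ t) : N ⊗[A] X) = a • e₂ (e₁ t) :=
      algebraMap_smul (R := A) (M := N ⊗[A] X) B a (e₂ (e₁ t))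
    rw [h1, h2, map_smul]
  { toFun := fun t => e₃ (e₂ (e₁ t))
    map_add' := fun s t => hadd s t
    map_smul' := fun a t => hsmul a t
    invFun := fun t => e₁.symm (e₂.symm (e₃.symm t))
    left_inv := fun t => by
      have : ∀ t : ((ModuleCat.extendScalars f).obj X ⊗[B] N),
          e₁.symm (e₂.symm (e₃.symm (e₃ (e₂ (e₁ t))))) = t := fun t => by
        rw [e₃.symm_apply_apply, e₂.symm_apply_apply, e₁.symm_apply_apply]
      exact this t
    right_inv := fun t => by
      have : ∀ t : X ⊗[A] N, e₃ (e₂ (e₁ (e₁.symm (e₂.symm (e₃.symm t))))) = t := fun t => by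
        rw [e₁.apply_symm_apply, e₂.apply_symm_apply, e₃.apply_symm_apply]
      exact this t }

lemma addHom_ext₀ {R M N Z : Type*} [CommSemiring R] [AddCommMonoid M] [AddCommMonoid N]
    [Module R M] [Module R N] [AddCommMonoid Z] (φ ψ : M ⊗[R] N →+ Z)
    (h : ∀ m n, φ (m ⊗ₜ[R] n) = ψ (m ⊗ₜ[R] n)) : φ = ψ := by
  ext w
  induction w using TensorProduct.induction_on with
  | zero => rw [map_zero, map_zero]
  | add s t hs ht => rw [map_add, map_add, hs, ht]
  | tmul m n => exact h m n

lemma addHom_ext {X : ModuleCat.{u} A} {N : ModuleCat.{u} B} {Z : Type*} [AddCommMonoid Z]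
    (φ ψ : ((ModuleCat.extendScalars f).obj X ⊗[B] N) →+ Z)
    (h : ∀ (b : (ModuleCat.restrictScalars f).obj (ModuleCat.of B B)) (x : X) (n : N),
      φ ((b ⊗ₜ[A] x : (ModuleCat.extendScalars f).obj X) ⊗ₜ[B] n) =
        ψ ((b ⊗ₜ[A] x : (ModuleCat.extendScalars f).obj X) ⊗ₜ[B] n)) : φ = ψ := by
  refine addHom_ext₀ φ ψ (fun t n => ?_)
  let T : (ModuleCat.extendScalars f).obj X →+ ((ModuleCat.extendScalars f).obj X ⊗[B] N) :=
    ((TensorProduct.mk B ((ModuleCat.extendScalars f).obj X) N).flip n).toAddMonoidHom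
  have key : φ.comp T = ψ.comp T :=
    addHom_ext₀ (R := A) (M := (ModuleCat.restrictScalars f).obj (ModuleCat.of B B)) (N := X)
      (φ.comp T) (ψ.comp T) (fun b x => h b x n)
  exact DFunLike.congr_fun key t

lemma projEquiv_tmul (X : ModuleCat.{u} A) (N : ModuleCat.{u} B)
    (b : (ModuleCat.restrictScalars f).obj (ModuleCat.of B B)) (x : X) (n : N) :
    projEquiv f X N ((b ⊗ₜ[A] x : (ModuleCat.extendScalars f).obj X) ⊗ₜ[B] n) =
      x ⊗ₜ[A] (show (ModuleCat.restrictScalars f).obj N from ((show B from b) • n)) := rfl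

/-- the projection formula as a natural isomorphism -/
noncomputable def projIso (N : ModuleCat.{u} B) :
    ModuleCat.extendScalars f ⋙ tensorRight N ⋙ ModuleCat.restrictScalars f ≅
      tensorRight ((ModuleCat.restrictScalars f).obj N) :=
  NatIso.ofComponents (fun X => (projEquiv f X N).toModuleIso) (by
    intro X Y g
    apply ModuleCat.hom_ext
    apply LinearMap.toAddMonoidHom_injective
    exact addHom_ext f (X := X) (N := N) _ _ (fun b x n => rfl))

end Groth.Agent.Helper3.ProjForm
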