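import Mathlib
import Groth.Prelude.Def_DDual2
import Groth.Agent.Lib.Helper5.KProj.Tri

/-!
# Transport of derived base change along a surjection to the quotient by the kernel
-/

namespace Groth.Agent.Helper3.SurjTr

open CategoryTheory Limits DerivedCategory Groth.Agent.Lib.Helper5.KProj

universe u

attribute [local instance] HasDerivedCategory.standard

variable {R' R : Type u} [CommRing R'] [CommRing R] (φ : R' →+* R)

theorem hasLBaseChange : DRing.HasLBaseChange φ :=
  have := hasPointwiseLeftDerivedFunctor (DRing.baseChangeKh φ) (hasKProjRes_moduleCat R')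
  inferInstance

variable (hφ : Function.Surjective φ)

/-- the ring isomorphism `R'/ker φ ≃ R` -/
noncomputable def ψ : (R' ⧸ RingHom.ker φ) ≃+* R := RingHom.quotientKerEquivOfSurjective hφ

lemma ψ_mk (x : R') : ψ φ hφ (Ideal.Quotient.mk (RingHom.ker φ) x) = φ x :=
  RingHom.quotientKerEquivOfSurjective_apply_mk hφ x

/-- restriction of scalars along `ψ` -/
noncomputable abbrev ρ : ModuleCat.{u} R ⥤ ModuleCat.{u} (R' ⧸ RingHom.ker φ) :=
  (ModuleCat.restrictScalarsEquivalenceOfRingEquiv (ψ φ hφ)).functor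

/-- the adjunction between `(- ⊗ R)` viewed over `R'/ker φ` and restriction of scalars -/
noncomputable def adjρ :
    ModuleCat.extendScalars.{u, u, u} φ ⋙ ρ φ hφ ⊣
      ModuleCat.restrictScalars.{u} (Ideal.Quotient.mk (RingHom.ker φ)) :=
  ((ModuleCat.extendRestrictScalarsAdj.{u, u, u} φ).comp
    (ModuleCat.restrictScalarsEquivalenceOfRingEquiv (ψ φ hφ)).toAdjunction).ofNatIsoRight
    (ModuleCat.restrictScalarsComp'.{u} φ ((ψ φ hφ).symm : R →+* R' ⧸ RingHom.ker φ)
      (Ideal.Quotient.mk (RingHom.ker φ)) (by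
        ext x
        apply (ψ φ hφ).injective
        simp [ψ_mk])).symm

/-- the comparison of the two extensions of scalars -/
noncomputable def α :
    ModuleCat.extendScalars.{u, u, u} φ ⋙ ρ φ hφ ≅
      ModuleCat.extendScalars.{u, u, u} (Ideal.Quotient.mk (RingHom.ker φ)) :=
  (adjρ φ hφ).leftAdjointUniq
    (ModuleCat.extendRestrictScalarsAdj.{u, u, u} (Ideal.Quotient.mk (RingHom.ker φ)))

instance : (ρ φ hφ).Additive :=
  ModuleCat.restrictScalarsEquivalenceOfRingEquiv_additive (ψ φ hφ)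

/-- the comparison on complexes -/
noncomputable def cxIso (P : DRing.Cx R') :
    ((ρ φ hφ).mapHomologicalComplex (ComplexShape.up ℤ)).obj ((bcCx φ).obj P) ≅
      (bcCx (Ideal.Quotient.mk (RingHom.ker φ))).obj P :=
  (NatIso.mapHomologicalComplex (α φ hφ) (ComplexShape.up ℤ)).app P

/-- restriction along `ψ` on derived categories -/
noncomputable abbrev ρD : Dual.D R ⥤ Dual.D (R' ⧸ RingHom.ker φ) :=
  (ρ φ hφ).mapDerivedCategory

theorem lbc_transport [DRing.HasLBaseChange φ]
    [DRing.HasLBaseChange (Ideal.Quotient.mk (RingHom.ker φ))] (K' : Dual.D R') :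
    Nonempty ((ρD φ hφ).obj ((DRing.LBaseChange φ).obj K') ≅
      (DRing.LBaseChange (Ideal.Quotient.mk (RingHom.ker φ))).obj K') := by
  obtain ⟨P, hP, ⟨e⟩⟩ := exists_kproj_rep K'
  exact ⟨(ρD φ hφ).mapIso ((DRing.LBaseChange φ).mapIso e.symm ≪≫ lbcIso φ P) ≪≫
    ((ρ φ hφ).mapDerivedCategoryFactors).app _ ≪≫ Q.mapIso (cxIso φ hφ P) ≪≫
    (lbcIso (Ideal.Quotient.mk (RingHom.ker φ)) P).symm ≪≫
    (DRing.LBaseChange (Ideal.Quotient.mk (RingHom.ker φ))).mapIso e⟩

/-- finite free modules stay finite free under restriction along `ψ` -/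
lemma finite_free_ρ (M : ModuleCat.{u} R) [Module.Finite R M] [Module.Free R M] :
    Module.Finite (R' ⧸ RingHom.ker φ) ((ρ φ hφ).obj M) ∧
      Module.Free (R' ⧸ RingHom.ker φ) ((ρ φ hφ).obj M) := by
  let b := Module.Free.chooseBasis R M
  letI : Module (R' ⧸ RingHom.ker φ) M := Module.compHom M (ψ φ hφ).toRingHom
  let b' : Module.Basis (Module.Free.ChooseBasisIndex R M) (R' ⧸ RingHom.ker φ) M :=
    b.mapCoeffs (ψ φ hφ).symm (fun c x => by
      change (ψ φ hφ) ((ψ φ hφ).symm c) • x = c • x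
      rw [RingEquiv.apply_symm_apply])
  have h1 : Module.Finite (R' ⧸ RingHom.ker φ) M := Module.Finite.of_basis b'
  have h2 : Module.Free (R' ⧸ RingHom.ker φ) M := Module.Free.of_basis b'
  exact ⟨h1, h2⟩

theorem isPseudoCoherent'_ρD (X : Dual.D R) (hX : DRing.IsPseudoCoherent' R X) :
    DRing.IsPseudoCoherent' (R' ⧸ RingHom.ker φ) ((ρD φ hφ).obj X) := by
  obtain ⟨F, b, hF0, hFt, ⟨e⟩⟩ := hX
  refine ⟨((ρ φ hφ).mapHomologicalComplex (ComplexShape.up ℤ)).obj F, b,
    fun i hi => Functor.map_isZero (ρ φ hφ) (hF0 i hi), fun i => ?_,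
    ⟨(((ρ φ hφ).mapDerivedCategoryFactors).app F).symm ≪≫ (ρD φ hφ).mapIso e⟩⟩
  obtain ⟨h1, h2⟩ := hFt i
  exact finite_free_ρ φ hφ (F.X i)

end Groth.Agent.Helper3.SurjTr
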