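import Mathlib
import Groth.Agent.Lib.Helper3.ProjForm
import Groth.Agent.Lib.Helper3.DerNak
import Groth.Agent.Lib.Helper3.SurjTr
import Groth.Agent.Lib.Helper3.PcDer
import Groth.Agent.Lib.Helper5.KFlat.LBCFlat
import Groth.Agent.Lib.Helper5.TorAmp.BaseChange

/-!
# Tor amplitude along surjections with nilpotent kernel
-/

namespace Groth.Agent.Helper3.NilTor

open CategoryTheory Limits DerivedCategory MonoidalCategory
open Groth.Agent.Helper5.TorAmp Groth.Agent.Helper5.FlatAcyc
open Groth.Agent.Helper3.PcLift Groth.Agent.Lib.Helper5.KProj Groth.Agent.Helper3.DerNak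
open Groth.Agent.Helper3.ProjForm

universe u

attribute [local instance] HasDerivedCategory.standard

section Proj

variable {A B : Type u} [CommRing A] [CommRing B] (f : A →+* B)

/-- the projection formula for complexes -/
noncomputable def projCx (N : ModuleCat.{u} B) (P : DRing.Cx A) :
    ((ModuleCat.restrictScalars f).mapHomologicalComplex (ComplexShape.up ℤ)).obj
      ((TM N).obj ((bcCx f).obj P)) ≅ (TM ((ModuleCat.restrictScalars f).obj N)).obj P :=
  (NatIso.mapHomologicalComplex (projIso f N) (ComplexShape.up ℤ)).app P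

lemma exactAt_restrict (K : DRing.Cx B) (i : ℤ) (h : K.ExactAt i) :
    (((ModuleCat.restrictScalars f).mapHomologicalComplex (ComplexShape.up ℤ)).obj K).ExactAt i := by
  have h1 : ((K.sc i).map (ModuleCat.restrictScalars f)).Exact :=
    (ShortComplex.exact_map_iff_of_faithful (K.sc i) (ModuleCat.restrictScalars f)).2 h
  exact h1

lemma exactAt_TM_restrict (N : ModuleCat.{u} B) (P : DRing.Cx A) (i : ℤ)
    (h : ((TM N).obj ((bcCx f).obj P)).ExactAt i) :
    ((TM ((ModuleCat.restrictScalars f).obj N)).obj P).ExactAt i :=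
  (exactAt_restrict f _ i h).of_iso (projCx f N P)

end Proj

section Dev

variable {R : Type u} [CommRing R]

/-- functoriality of `P ⊗ M` in `M` -/
noncomputable def tmMap {M M' : ModuleCat.{u} R} (g : M ⟶ M') (P : DRing.Cx R) :
    (TM M).obj P ⟶ (TM M').obj P :=
  (NatTrans.mapHomologicalComplex ((tensoringRight (ModuleCat.{u} R)).map g)
    (ComplexShape.up ℤ)).app P

lemma tmMap_f {M M' : ModuleCat.{u} R} (g : M ⟶ M') (P : DRing.Cx R) (n : ℤ) :
    (tmMap g P).f n = P.X n ◁ g := rfl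

/-- the short complex of complexes `P ⊗ S` -/
noncomputable def tmSC (S : ShortComplex (ModuleCat.{u} R)) (P : DRing.Cx R) :
    ShortComplex (DRing.Cx R) :=
  ShortComplex.mk (tmMap S.f P) (tmMap S.g P) (by
    refine HomologicalComplex.hom_ext _ _ (fun n => ?_)
    have h1 : P.X n ◁ S.f ≫ P.X n ◁ S.g = 0 := by
      rw [← MonoidalCategory.whiskerLeft_comp, S.zero, MonoidalPreadditive.whiskerLeft_zero]
    exact h1)

lemma tmSC_shortExact (S : ShortComplex (ModuleCat.{u} R)) (hS : S.ShortExact) (P : DRing.Cx R)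
    (hflat : DRing.TermwiseFlat P) : (tmSC S P).ShortExact := by
  refine HomologicalComplex.shortExact_of_degreewise_shortExact _ (fun n => ?_)
  have := hflat n
  exact hS.map_of_exact (tensorLeft (P.X n))

lemma exactAt_of_ses (S : ShortComplex (ModuleCat.{u} R)) (hS : S.ShortExact) (P : DRing.Cx R)
    (hflat : DRing.TermwiseFlat P) (i : ℤ) (h1 : ((TM S.X₁).obj P).ExactAt i)
    (h3 : ((TM S.X₃).obj P).ExactAt i) : ((TM S.X₂).obj P).ExactAt i := by
  have hex := (tmSC_shortExact S hS P hflat).homology_exact₂ i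
  rw [HomologicalComplex.exactAt_iff_isZero_homology] at h1 h3 ⊢
  exact hex.isZero_X₂ (h1.eq_of_src _ _) (h3.eq_of_tgt _ _)

variable (I : Ideal R)

lemma exactAt_of_pow (P : DRing.Cx R) (hflat : DRing.TermwiseFlat P) (a b : ℤ)
    (h : TorVan a b ((bcCx (Ideal.Quotient.mk I)).obj P)) (i : ℤ) (hi : i < a ∨ b < i) (k : ℕ) :
    ∀ (M : ModuleCat.{u} R), (I ^ k • ⊤ : Submodule R M) = ⊥ → ((TM M).obj P).ExactAt i := by
  haveI : DRing.HasLBaseChange (Ideal.Quotient.mk I) :=
    Groth.Agent.Helper3.SurjTr.hasLBaseChange (Ideal.Quotient.mk I)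
  induction k with
  | zero =>
    intro M hM
    have hz : IsZero M := by
      have : Subsingleton M := by
        refine ⟨fun x y => ?_⟩
        have hx : x ∈ (I ^ 0 • ⊤ : Submodule R M) := by
          rw [pow_zero, Ideal.one_eq_top, Submodule.top_smul]; trivial
        have hy : y ∈ (I ^ 0 • ⊤ : Submodule R M) := by
          rw [pow_zero, Ideal.one_eq_top, Submodule.top_smul]; trivial
        rw [hM] at hx hy
        rw [(Submodule.mem_bot R).1 hx, (Submodule.mem_bot R).1 hy]
      exact ModuleCat.isZero_of_subsingleton M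
    apply HomologicalComplex.ExactAt.of_isZero
    exact Functor.map_isZero (tensorLeft (P.X i)) hz
  | succ k ih =>
    intro M hM
    exact exactAt_of_ses (sesI I M) (sesI_shortExact I M) P hflat i
      (ih _ (pow_smul_top_sub I M k hM))
      (exactAt_TM_restrict (Ideal.Quotient.mk I) (Qt I M) P i (h (Qt I M) i hi))

/-- tor amplitude lifts along the quotient by a nilpotent ideal -/
theorem hasTorAmplitudeIn_of_nilpotent (hI : IsNilpotent I)
    [DRing.HasLBaseChange (Ideal.Quotient.mk I)] (K : Dual.D R) (a b : ℤ)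
    (h : DRing.HasTorAmplitudeIn (R ⧸ I) a b ((DRing.LBaseChange (Ideal.Quotient.mk I)).obj K)) :
    DRing.HasTorAmplitudeIn R a b K := by
  haveI : ((DRing.LBaseChange (Ideal.Quotient.mk I)).obj K).IsLE b := isLE_of_hasTorAmplitudeIn h
  haveI : K.IsLE b := isLE_of_isLE_LBaseChange I hI K b
  obtain ⟨P, hPb, hproj, hKP, ⟨e⟩⟩ := exists_proj_rep K b
  have hflat : DRing.TermwiseFlat P := termwiseFlat_of_projective P hproj
  have hflat' : DRing.TermwiseFlat ((bcCx (Ideal.Quotient.mk I)).obj P) :=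
    Groth.Agent.Lib.Helper5.KFlat.termwiseFlat_bcCx (Ideal.Quotient.mk I) P hflat
  have hb' : DRing.VanishesAbove ((bcCx (Ideal.Quotient.mk I)).obj P) b :=
    vanishesAbove_bcCx (Ideal.Quotient.mk I) P b hPb
  have hT : TorVan a b ((bcCx (Ideal.Quotient.mk I)).obj P) :=
    (hasTorAmplitudeIn_iff' _ hflat' b hb'
      ((lbcIso (Ideal.Quotient.mk I) P).symm ≪≫
        (DRing.LBaseChange (Ideal.Quotient.mk I)).mapIso e) a b).1 h
  obtain ⟨n, hn⟩ := hI
  refine (hasTorAmplitudeIn_iff' P hflat b hPb e a b).2 (fun M i hi => ?_)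
  exact exactAt_of_pow I P hflat a b hT i hi n M (by
    rw [hn, Ideal.zero_eq_bot, Submodule.bot_smul])

end Dev

section Transport

open Groth.Agent.Helper3.SurjTr

variable {R' R : Type u} [CommRing R'] [CommRing R] (φ : R' →+* R) (hφ : Function.Surjective φ)

/-- flat modules stay flat under restriction along the ring isomorphism `ψ` -/
lemma flat_ρ (M : ModuleCat.{u} R) [Module.Flat R M] :
    Module.Flat (R' ⧸ RingHom.ker φ) ((ρ φ hφ).obj M) := by
  letI : Algebra (R' ⧸ RingHom.ker φ) R := (ψ φ hφ).toRingHom.toAlgebra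
  letI : Module (R' ⧸ RingHom.ker φ) M := Module.compHom M (ψ φ hφ).toRingHom
  haveI : IsScalarTower (R' ⧸ RingHom.ker φ) R M := ⟨fun a r m => by
    change ((ψ φ hφ) a * r) • m = (ψ φ hφ) a • (r • m)
    rw [mul_smul]⟩
  let e : R ≃ₗ[R' ⧸ RingHom.ker φ] (R' ⧸ RingHom.ker φ) :=
    { toFun := (ψ φ hφ).symm
      map_add' := map_add _
      map_smul' := fun a r => by
        change (ψ φ hφ).symm ((ψ φ hφ) a * r) = a * (ψ φ hφ).symm r
        rw [map_mul, RingEquiv.symm_apply_apply]
      invFun := (ψ φ hφ)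
      left_inv := (ψ φ hφ).apply_symm_apply
      right_inv := (ψ φ hφ).symm_apply_apply }
  haveI : Module.Flat (R' ⧸ RingHom.ker φ) R := Module.Flat.of_linearEquiv e
  have h : Module.Flat (R' ⧸ RingHom.ker φ) M := Module.Flat.trans (R' ⧸ RingHom.ker φ) R M
  exact h

theorem hasTorAmplitudeIn_ρD (X : Dual.D R) (a b : ℤ) (hX : DRing.HasTorAmplitudeIn R a b X) :
    DRing.HasTorAmplitudeIn (R' ⧸ RingHom.ker φ) a b ((ρD φ hφ).obj X) := by
  obtain ⟨F, hF0, hFt, ⟨e⟩⟩ := hX
  refine ⟨((ρ φ hφ).mapHomologicalComplex (ComplexShape.up ℤ)).obj F,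
    fun i hi => Functor.map_isZero (ρ φ hφ) (hF0 i hi), fun i => ?_,
    ⟨(((ρ φ hφ).mapDerivedCategoryFactors).app F).symm ≪≫ (ρD φ hφ).mapIso e⟩⟩
  have := hFt i
  exact flat_ρ φ hφ (F.X i)

theorem main_S6952 {R' R : Type u} [CommRing R']
    [CommRing R] (φ : R' →+* R) (hφ : Function.Surjective φ) (hnil : IsNilpotent (RingHom.ker φ))
    [DRing.HasLBaseChange φ] (K' : Dual.D R') (a b : ℤ) :
    DRing.HasTorAmplitudeIn R a b ((DRing.LBaseChange φ).obj K') ↔
      DRing.HasTorAmplitudeIn R' a b K' := by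
  constructor
  · intro h
    haveI := Groth.Agent.Helper3.SurjTr.hasLBaseChange (Ideal.Quotient.mk (RingHom.ker φ))
    obtain ⟨t⟩ := lbc_transport φ hφ K'
    exact hasTorAmplitudeIn_of_nilpotent (RingHom.ker φ) hnil K' a b
      (hasTorAmplitudeIn_of_iso t (hasTorAmplitudeIn_ρD φ hφ _ a b h))
  · intro h
    exact Groth.Agent.Lib.Helper5.KFlat.hasTorAmplitudeIn_LBaseChange φ K' a b h

end Transport

end Groth.Agent.Helper3.NilTor
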