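import Mathlib
import Groth.Agent.Lib.Helper3.NilTor
import Groth.Agent.Lib.Helper5.KProj.LTen
import Groth.Agent.Lib.Helper5.KFlat.Res
import Groth.Agent.Lib.Helper5.DTenLib.ExtQis
import Groth.Agent.Lib.Helper3.AdjHtpyPlus

/-!
# Dévissage for derived tensor products with modules killed by a power of an ideal
-/

namespace Groth.Agent.Helper3.LTenDev

open CategoryTheory Limits DerivedCategory MonoidalCategory
open Groth.Agent.Helper5.TorAmp Groth.Agent.Helper5.FlatAcyc
open Groth.Agent.Helper3.PcLift Groth.Agent.Lib.Helper5.KProj Groth.Agent.Helper3.DerNak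
open Groth.Agent.Helper3.ProjForm Groth.Agent.Helper3.NilTor

universe u

attribute [local instance] HasDerivedCategory.standard

section General

variable {A : Type u} [CommRing A]

theorem hasLTensor (M : ModuleCat.{u} A) : DRing.HasLTensor A M :=
  have := hasPointwiseLeftDerivedFunctor (DRing.tensorKh A M) (hasKProjRes_moduleCat A)
  inferInstance

/-- every object has a K-projective representative with flat terms -/
theorem exists_kproj_flat_rep (K : Dual.D A) :
    ∃ P : DRing.Cx A, P.IsKProjective ∧ DRing.TermwiseFlat P ∧ Nonempty (DRing.toD P ≅ K) :=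
  ⟨res (Q.objPreimage K), inferInstance, fun n => Groth.Agent.Lib.Helper5.KFlat.flat_res _ n,
    ⟨asIso (Q.map (resMap (Q.objPreimage K))) ≪≫ Q.objObjPreimageIso K⟩⟩

/-- the derived tensor product with a module is right t-exact -/
theorem isLE_LTensor (M : ModuleCat.{u} A) [DRing.HasLTensor A M] (K : Dual.D A) (c : ℤ)
    [K.IsLE c] : ((DRing.LTensor A M).obj K).IsLE c := by
  obtain ⟨P, hP, -, hPk, ⟨e⟩⟩ := exists_proj_rep K c
  have : ((TM M).obj P).IsStrictlyLE c :=
    isStrictlyLE_of_vanishesAbove (fun i hi => Functor.map_isZero (tensorRight M) (hP i hi))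
  have : (Q.obj ((TM M).obj P)).IsLE c := inferInstance
  exact TStructure.t.isLE_of_iso ((ltIso M P).symm ≪≫ (DRing.LTensor A M).mapIso e) c

/-- a K-projective complex in `D^{≤ c}` stays exact above `c` after tensoring with a module -/
theorem exactAt_TM_of_isLE (P : DRing.Cx A) [P.IsKProjective] (c : ℤ) [(DRing.toD P).IsLE c]
    (M : ModuleCat.{u} A) (i : ℤ) (hi : c < i) : ((TM M).obj P).ExactAt i := by
  haveI := hasLTensor M
  haveI : ((DRing.LTensor A M).obj (DRing.toD P)).IsLE c := isLE_LTensor M _ c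
  haveI : (Q.obj ((TM M).obj P)).IsLE c := TStructure.t.isLE_of_iso (ltIso M P) c
  rw [HomologicalComplex.exactAt_iff_isZero_homology]
  exact ((Q.obj ((TM M).obj P)).isZero_of_isLE c i hi).of_iso
    ((homologyFunctorFactors (ModuleCat.{u} A) i).app _).symm

end General

section BC

open Groth.Agent.Helper3.AdjHtpyPlus

variable {A B : Type u} [CommRing A] [CommRing B] (f : A →+* B)

/-- extension of scalars preserves K-projective complexes -/
theorem isKProjective_bcCx (P : DRing.Cx A) [P.IsKProjective] :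
    ((bcCx f).obj P).IsKProjective where
  nonempty_homotopy_zero {L} g hL := by
    let adj := ModuleCat.extendRestrictScalarsAdj.{u, u, u} f
    let g' : P ⟶ ((ModuleCat.restrictScalars f).mapHomologicalComplex (ComplexShape.up ℤ)).obj L :=
      unitC adj (ComplexShape.up ℤ) P ≫
        ((ModuleCat.restrictScalars f).mapHomologicalComplex (ComplexShape.up ℤ)).map g
    have hL' : (((ModuleCat.restrictScalars f).mapHomologicalComplex
        (ComplexShape.up ℤ)).obj L).Acyclic := fun i => exactAt_restrict f L i (hL i)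
    have h' : Homotopy g' 0 := CochainComplex.IsKProjective.homotopyZero g' hL'
    have hg : g = (bcCx f).map g' ≫ counitC adj (ComplexShape.up ℤ) L := by
      have h1 : (bcCx f).map g' = (bcCx f).map (unitC adj (ComplexShape.up ℤ) P) ≫
          (bcCx f).map (((ModuleCat.restrictScalars f).mapHomologicalComplex
            (ComplexShape.up ℤ)).map g) := Functor.map_comp _ _ _
      rw [h1, Category.assoc, counitC_naturality adj (ComplexShape.up ℤ) g, ← Category.assoc,
        left_triangleC adj (ComplexShape.up ℤ) P, Category.id_comp]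
    have h2 : Homotopy ((bcCx f).map g' ≫ counitC adj (ComplexShape.up ℤ) L)
        ((bcCx f).map 0 ≫ counitC adj (ComplexShape.up ℤ) L) :=
      ((ModuleCat.extendScalars.{u, u, u} f).mapHomotopy h').compRight _
    rw [hg]
    exact ⟨h2.trans (Homotopy.ofEq (by rw [Functor.map_zero, zero_comp]))⟩

lemma exactAt_of_restrict (K : DRing.Cx B) (i : ℤ)
    (h : (((ModuleCat.restrictScalars f).mapHomologicalComplex
      (ComplexShape.up ℤ)).obj K).ExactAt i) : K.ExactAt i := by
  have h1 : ((K.sc i).map (ModuleCat.restrictScalars f)).Exact := h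
  exact (ShortComplex.exact_map_iff_of_faithful (K.sc i) (ModuleCat.restrictScalars f)).1 h1

/-- `(P ⊗ B)` restricted to `A` is `P ⊗ B_A` -/
noncomputable def resBcIso (P : DRing.Cx A) :
    ((ModuleCat.restrictScalars f).mapHomologicalComplex (ComplexShape.up ℤ)).obj
      ((bcCx f).obj P) ≅ (TM (Groth.Agent.Lib.Helper5.DTenLib.AR f)).obj P :=
  (NatIso.mapHomologicalComplex (Groth.Agent.Lib.Helper5.DTenLib.extResIso f)
    (ComplexShape.up ℤ)).app P

/-- functoriality of `P ⊗ M` in isomorphisms of `M` -/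
noncomputable def tmIsoOfIso {M M' : ModuleCat.{u} A} (e : M ≅ M') (P : DRing.Cx A) :
    (TM M).obj P ≅ (TM M').obj P :=
  (NatIso.mapHomologicalComplex ((tensoringRight (ModuleCat.{u} A)).mapIso e)
    (ComplexShape.up ℤ)).app P

end BC

section Dev

variable {R : Type u} [CommRing R] (I : Ideal R)

/-- `R/I` as an `R`-module, in its two guises -/
noncomputable def quotIso : ModuleCat.of R (R ⧸ I) ≅
    Groth.Agent.Lib.Helper5.DTenLib.AR (Ideal.Quotient.mk I) :=
  LinearEquiv.toModuleIso
    { toFun := fun x => x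
      map_add' := fun _ _ => rfl
      map_smul' := fun r x => by
        change r • x = Ideal.Quotient.mk I r * x
        rw [Algebra.smul_def]
        rfl
      invFun := fun x => x
      left_inv := fun _ => rfl
      right_inv := fun _ => rfl }

lemma exactAt_bcCx_of_TM (P : DRing.Cx R) (i : ℤ)
    (h : ((TM (ModuleCat.of R (R ⧸ I))).obj P).ExactAt i) :
    ((bcCx (Ideal.Quotient.mk I)).obj P).ExactAt i :=
  exactAt_of_restrict (Ideal.Quotient.mk I) _ i
    ((h.of_iso (tmIsoOfIso (quotIso I) P)).of_iso (resBcIso (Ideal.Quotient.mk I) P).symm)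

lemma exactAt_of_pow' (P : DRing.Cx R) (hflat : DRing.TermwiseFlat P) (i : ℤ)
    (h : ∀ N' : ModuleCat.{u} (R ⧸ I),
      ((TM N').obj ((bcCx (Ideal.Quotient.mk I)).obj P)).ExactAt i) (k : ℕ) :
    ∀ (M : ModuleCat.{u} R), (I ^ k • ⊤ : Submodule R M) = ⊥ → ((TM M).obj P).ExactAt i := by
  haveI : DRing.HasLBaseChange (Ideal.Quotient.mk I) :=
    Groth.Agent.Helper3.SurjTr.hasLBaseChange (Ideal.Quotient.mk I)
  induction k with
  | zero =>
    intro M hM
    have hz : IsZero M := by
      have : Subsingleton M := by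
        refine ⟨fun x y => ?_⟩
        have hx : x ∈ (I ^ 0 • ⊤ : Submodule R M) := by
          rw [pow_zero, Ideal.one_eq_top, Submodule.top_smul]; trivial
        have hy : y ∈ (I ^ 0 • ⊤ : Submodule R M) := by
          rw [pow_zero, Ideal.one_eq_top, Submodule.top_smul]; trivial
        rw [hM] at hx hy
        rw [(Submodule.mem_bot R).1 hx, (Submodule.mem_bot R).1 hy]
      exact ModuleCat.isZero_of_subsingleton M
    apply HomologicalComplex.ExactAt.of_isZero
    exact Functor.map_isZero (tensorLeft (P.X i)) hz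
  | succ k ih =>
    intro M hM
    exact exactAt_of_ses (sesI I M) (sesI_shortExact I M) P hflat i
      (ih _ (pow_smul_top_sub I M k hM))
      (exactAt_TM_restrict (Ideal.Quotient.mk I) (Qt I M) P i (h (Qt I M)))

theorem main_S7084 {R : Type u} [CommRing R] (I : Ideal R)
    [DRing.HasLTensor R (ModuleCat.of R (R ⧸ I))] (K : Dual.D R)
    (hK : ∀ i : ℤ, 0 < i →
      Subsingleton (Dual.HD R ((DRing.LTensor R (ModuleCat.of R (R ⧸ I))).obj K) i))
    (N : Type u) [AddCommGroup N] [Module R N] (n : ℕ) (hN : I ^ n • (⊤ : Submodule R N) = ⊥)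
    [DRing.HasLTensor R (ModuleCat.of R N)] (i : ℤ) (hi : 0 < i) :
    Subsingleton (Dual.HD R ((DRing.LTensor R (ModuleCat.of R N)).obj K) i) := by
  obtain ⟨P, hP, hflat, ⟨e⟩⟩ := exists_kproj_flat_rep K
  haveI := isKProjective_bcCx (Ideal.Quotient.mk I) P
  -- the reduction is in `D^{≤ 0}`
  have hex : ∀ j : ℤ, 0 < j → ((bcCx (Ideal.Quotient.mk I)).obj P).ExactAt j := fun j hj => by
    refine exactAt_bcCx_of_TM I P j ?_
    rw [exactAt_iff_subsingleton_HD]
    exact subsingleton_HD_of_iso
      ((DRing.LTensor R (ModuleCat.of R (R ⧸ I))).mapIso e.symm ≪≫ ltIso _ P) j (hK j hj)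
  haveI : (DRing.toD ((bcCx (Ideal.Quotient.mk I)).obj P)).IsLE 0 := by
    rw [DerivedCategory.isLE_iff]
    intro j hj
    have := hex j hj
    rw [HomologicalComplex.exactAt_iff_isZero_homology] at this
    exact this.of_iso ((homologyFunctorFactors (ModuleCat.{u} (R ⧸ I)) j).app _)
  have h1 : ((TM (ModuleCat.of R N)).obj P).ExactAt i :=
    exactAt_of_pow' I P hflat i
      (fun N' => exactAt_TM_of_isLE ((bcCx (Ideal.Quotient.mk I)).obj P) 0 N' i hi) n
      (ModuleCat.of R N) hN
  rw [exactAt_iff_subsingleton_HD] at h1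
  exact subsingleton_HD_of_iso
    ((ltIso _ P).symm ≪≫ (DRing.LTensor R (ModuleCat.of R N)).mapIso e) i h1

end Dev

end Groth.Agent.Helper3.LTenDev
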