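import Mathlib
import Groth.Prelude.Def_Wider
import Groth.Prelude.Def_DDual2
import Groth.Agent.Lib.Helper3.BCDesc2
import Groth.Agent.Lib.Helper3.GorLocus
import Groth.Agent.Lib.Helper3.KosBC1
import Groth.Agent.Lib.Helper3.DualSupp
import Groth.Agent.Lib.Helper3.GorBC3
import Groth.Agent.Lib.Helper8.Goren5
import Groth.Agent.Lib.Helper8.GorFlat4
import Groth.Agent.Lib.Helper3.RegDual

/-!
# Over a Noetherian ring with a dualizing complex and Gorenstein local rings, `A[0]` is dualizing
(helper3)
-/

set_option autoImplicit false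
universe u w
open CategoryTheory CategoryTheory.Limits Pretriangulated Triangulated TensorProduct DerivedCategory

attribute [local instance] HasDerivedCategory.standard

namespace Groth.Agent.Helper3.GorUnit

open Groth.Agent.Helper3.BCAbs Groth.Agent.Helper3.BCDer Groth.Agent.Helper3.BCDual
  Groth.Agent.Helper5.FlatBC Groth.Agent.Helper3.DualCx Groth.Agent.Helper3.BCDesc

section Descent

variable {A : Type u} [CommRing A] [IsNoetherianRing A] {ι : Type*} (B : ι → Type u)
  [∀ i, CommRing (B i)] [∀ i, Algebra A (B i)] [∀ i, Module.Flat A (B i)]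

/-- finite injective dimension descends along a jointly faithful flat family, given uniform
bounds -/
theorem injdim_of_family_uniform (h2 : JF.{u, u + 1} A B) (K : Dual.D A) (hK : Bdd K) (a b : ℤ)
    (hab : ∀ i, ∀ (M : Type u) [AddCommGroup M] [Module (B i) M] (n : ℤ),
      (n < a ∨ b < n) → Subsingleton (Dual.inD (B i) M ⟶ ((G (A := A) (B i)).obj K)⟦n⟧)) :
    ∀ (M : Type u) [AddCommGroup M] [Module A M] (n : ℤ),
      (n < a ∨ b < n) → Subsingleton (Dual.inD A M ⟶ K⟦n⟧) := by
  have h3 : ∀ (I : Ideal A) (n : ℤ), (n < a ∨ b < n) →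
      Subsingleton (DRing.ExtD A (Dual.inD A (A ⧸ I)) K n) := by
    intro I n hn
    apply h2
    intro i
    haveI : Subsingleton ((G (A := A) (B i)).obj (Dual.inD A (A ⧸ I)) ⟶
        (G (A := A) (B i)).obj (K⟦n⟧)) := by
      have := hab i ((Ef (R := A) (B i)).obj (ModuleCat.of A (A ⧸ I))) n hn
      exact (Iso.homCongr (GinDIso (B i) (A ⧸ I)) (GshiftIso (B i) K n)).subsingleton
    exact subsingleton_tensor_of_injBC (G (A := A) (B i)) (semiLinear_G (B i))
      (Dual.inD A (A ⧸ I)) (K⟦n⟧)
      (bijBC_main (B i) (Dual.inD A (A ⧸ I)) (K⟦n⟧) (bdd_inD _) (finite_homology_inD (A ⧸ I))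
        (bdd_shift K n hK)).1
  exact ((Groth.Agent.Helper5.InjAmp.s6965 K a b).out 2 1).1 h3

end Descent


section Main

variable (A : Type u) [CommRing A] [IsNoetherianRing A]

/-- vanishing of `Ext^i(M, R)` outside `[0, N]` over a Gorenstein local ring of dimension `≤ N` -/
theorem subsingleton_hom_unit_of_gorenstein (R : Type u) [CommRing R]
    (hR : LocCoh.IsGorensteinLocalRing R) (N : ℕ) (hN : ringKrullDim R ≤ N)
    (M : Type u) [AddCommGroup M] [Module R M] (n : ℤ) (hn : n < 0 ∨ (N : ℤ) < n) :
    Subsingleton (Dual.inD R M ⟶ (Dual.inD R R)⟦n⟧) := by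
  letI := HasExt.standard (ModuleCat.{u} R)
  rcases hn with hn | hn
  · exact Groth.Agent.Helper3.RegDual.subsingleton_single_neg (ModuleCat.of R M)
      (ModuleCat.of R R) n hn
  · obtain ⟨d, hd⟩ := Groth.Agent.Helper8.GorFlat.exists_dim_eq R
    have hdN : d ≤ N := by
      rw [hd] at hN
      exact_mod_cast hN
    have h1 := (Groth.Agent.Helper8.Goren.exists_injectiveDimension_eq_dim R d hd).1
    obtain ⟨k, rfl⟩ : ∃ k : ℕ, n = (k : ℤ) := ⟨n.toNat, by omega⟩
    have := HasInjectiveDimensionLT.subsingleton (ModuleCat.of R R) (d + 1) k (by omega)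
      (ModuleCat.of R M)
    exact (Groth.Agent.Helper3.GorDual.subsingleton_ext_iff (ModuleCat.of R R)
      (ModuleCat.of R M) k).1 this

/-- the base change of `A[0]` to a flat algebra `B` is `B[0]` -/
noncomputable def GunitIso (B : Type u) [CommRing B] [Algebra A B] [Module.Flat A B] :
    (G (A := A) B).obj (Dual.inD A A) ≅ Dual.inD B B :=
  GinDIso B A ≪≫ (DerivedCategory.singleFunctor (ModuleCat.{u} B) 0).mapIso
    (Groth.Agent.Helper3.KosBC.EfUnitIso A B)

theorem isDualizing_unit_of_gorenstein (ω : Dual.D A) (hω : Dual.IsDualizing A ω)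
    (hG : ∀ p : PrimeSpectrum A, LocCoh.IsGorensteinLocalRing (Localization.AtPrime p.asIdeal)) :
    Dual.IsDualizing A (Dual.inD A A) := by
  obtain ⟨N, hN⟩ := Groth.Agent.Helper3.GorBC.exists_nat_ge_of_lt_top
    (Groth.Agent.Helper3.DualSupp.main_S0371 A ω hω)
  have hdim : ∀ p : PrimeSpectrum A, ringKrullDim (Localization.AtPrime p.asIdeal) ≤ N := by
    intro p
    rw [IsLocalization.AtPrime.ringKrullDim_eq_height p.asIdeal]
    exact Ideal.height_le_ringKrullDim_of_isPrime.trans hN
  have hdual : ∀ p : PrimeSpectrum A, Dual.IsDualizing (Localization.AtPrime p.asIdeal)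
      ((G (A := A) (Localization.AtPrime p.asIdeal)).obj (Dual.inD A A)) := by
    intro p
    haveI : IsNoetherianRing (Localization.AtPrime p.asIdeal) :=
      IsLocalization.isNoetherianRing p.asIdeal.primeCompl _ inferInstance
    exact isDualizing_of_iso (GunitIso A (Localization.AtPrime p.asIdeal)).symm
      ((Groth.Agent.Helper3.GorDual.main_S11179 (Localization.AtPrime p.asIdeal)).1 (hG p))
  have hinj := injdim_of_family_uniform
    (fun p : PrimeSpectrum A => Localization.AtPrime p.asIdeal) jf_of_prime (Dual.inD A A)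
    (bdd_inD A) 0 N (by
      intro p M _ _ n hn
      have e := GunitIso A (Localization.AtPrime p.asIdeal)
      have h1 := subsingleton_hom_unit_of_gorenstein (Localization.AtPrime p.asIdeal) (hG p) N
        (hdim p) M n hn
      exact (Iso.homCongr (Iso.refl _) ((shiftFunctor _ n).mapIso e)).subsingleton)
  exact isDualizing_of_family (fun p : PrimeSpectrum A => Localization.AtPrime p.asIdeal)
    jf_of_prime jf_of_prime (Dual.inD A A) (bdd_inD A) (finite_homology_inD A) ⟨0, N, hinj⟩ hdual

end Main

end Groth.Agent.Helper3.GorUnit
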