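import Mathlib
import Groth.Prelude.Def_DualSch
import Groth.Prelude.Def_Dual3
import Groth.Agent.Lib.Helper3.GorUnit
import Groth.Agent.Lib.Helper3.FibStalk4

/-!
# Dualizing complexes on Gorenstein schemes (helper3)
-/

set_option autoImplicit false
universe u
open CategoryTheory CategoryTheory.Limits AlgebraicGeometry

attribute [local instance] HasDerivedCategory.standard

namespace Groth.Agent.Helper3.SchDual

/-- restriction of `O_X[0]` along an open immersion is `O_U[0]` -/
noncomputable def restrictDUnitIso {U X : Scheme.{u}} (j : U ⟶ X) [IsOpenImmersion j]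
    [PreservesFiniteLimits (Scheme.Modules.restrictFunctor j)] :
    (DCoh.restrictD j).obj (DCoh.inD X (Coh.structureModule X)) ≅
      DCoh.inD U (Coh.structureModule U) :=
  ((Scheme.Modules.restrictFunctor j).mapDerivedCategorySingleFunctor 0).app _ ≪≫
    (DerivedCategory.singleFunctor _ 0).mapIso (Scheme.Modules.restrictUnitIso j)

/-- the derived tilde functor sends `R[0]` to `O_{Spec R}[0]` -/
noncomputable def tildeDUnitIso' (R : CommRingCat.{u})
    [PreservesFiniteLimits (tilde.functor R)] :
    (DCoh.tildeD R).obj ((DerivedCategory.singleFunctor (ModuleCat.{u} R) 0).obj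
      (ModuleCat.of R R)) ≅
      DCoh.inD (Spec (CommRingCat.of R)) (Coh.structureModule (Spec (CommRingCat.of R))) :=
  ((tilde.functor R).mapDerivedCategorySingleFunctor 0).app _ ≪≫
    (DerivedCategory.singleFunctor _ 0).mapIso (tildeSelf (R := R))

/-- the derived tilde functor sends `A[0]` to `O_{Spec A}[0]` -/
noncomputable def tildeDUnitIso (A : Type u) [CommRing A]
    [PreservesFiniteLimits (tilde.functor (CommRingCat.of A))] :
    (DCoh.tildeD (CommRingCat.of A)).obj (Dual.inD A A) ≅
      DCoh.inD (Spec (CommRingCat.of A)) (Coh.structureModule (Spec (CommRingCat.of A))) :=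
  tildeDUnitIso' (CommRingCat.of A)

/-- the local rings of an affine open of a scheme with Gorenstein local rings are Gorenstein -/
theorem gor_localization_of_openImmersion {X : Scheme.{u}} (A : Type u) [CommRing A]
    (j : Spec (CommRingCat.of A) ⟶ X) [IsOpenImmersion j]
    (hX : ∀ x : X, LocCoh.IsGorensteinLocalRing (X.presheaf.stalk x)) (p : PrimeSpectrum A) :
    LocCoh.IsGorensteinLocalRing (Localization.AtPrime p.asIdeal) := by
  have h1 : LocCoh.IsGorensteinLocalRing ((Spec (CommRingCat.of A)).presheaf.stalk p) :=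
    Groth.Agent.Helper8.GorFlat.isGorensteinLocalRing_of_ringEquiv
      (asIso (j.stalkMap p)).commRingCatIsoToRingEquiv (hX (j p))
  letI alg0 : Algebra A ((Spec (CommRingCat.of A)).presheaf.stalk p) :=
    StructureSheaf.stalkAlgebra (R := A) p
  haveI loc0 : IsLocalization.AtPrime ((Spec (CommRingCat.of A)).presheaf.stalk p) p.asIdeal :=
    StructureSheaf.IsLocalization.to_stalk A p
  haveI := p.isPrime
  exact Groth.Agent.Helper8.GorFlat.isGorensteinLocalRing_of_ringEquiv
    (IsLocalization.algEquiv p.asIdeal.primeCompl (Localization.AtPrime p.asIdeal)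
      ((Spec (CommRingCat.of A)).presheaf.stalk p)).toRingEquiv.symm h1

theorem main_S3622 (X : Scheme.{u}) (hX : Dual3.IsGorenstein X)
    [∀ (U V : Scheme.{u}) (j : U ⟶ V) [IsOpenImmersion j],
      PreservesFiniteLimits (Scheme.Modules.restrictFunctor j)]
    [∀ (R : CommRingCat.{u}), PreservesFiniteLimits (tilde.functor R)] :
    (∃ K : DCoh.D X, Dual2.IsDualizingSch X K) ↔
      Dual2.IsDualizingSch X (DCoh.inD X (Coh.structureModule X)) := by
  constructor
  · rintro ⟨K, hK⟩
    intro A _ j _
    obtain ⟨ω, hω, -⟩ := hK A j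
    haveI := hω.isNoetherianRing
    refine ⟨Dual.inD A A, Groth.Agent.Helper3.GorUnit.isDualizing_unit_of_gorenstein A ω hω
      (gor_localization_of_openImmersion A j hX.2), ⟨?_⟩⟩
    exact restrictDUnitIso j ≪≫ (tildeDUnitIso A).symm
  · intro h
    exact ⟨_, h⟩

end Groth.Agent.Helper3.SchDual
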