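import Mathlib
import Groth.Prelude.Def_DualSch
import Groth.Prelude.Def_Dual3
import Groth.Agent.Lib.Helper3.SchDual1
import Groth.Agent.Lib.Helper3.DualSupp3
import Groth.Agent.Lib.Helper8.Serre1

/-!
# Dualizing complexes on schemes: cohomology sheaves and Cohen–Macaulay points (helper3)
-/

set_option autoImplicit false
universe u w₁ w₂ v₁ v₂ u₁ u₂
open CategoryTheory CategoryTheory.Limits AlgebraicGeometry

attribute [local instance] HasDerivedCategory.standard

namespace Groth.Agent.Helper3.SchDual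

section General

variable {C₁ : Type u₁} [Category.{v₁} C₁] [Abelian C₁] [HasDerivedCategory.{w₁} C₁]
  {C₂ : Type u₂} [Category.{v₂} C₂] [Abelian C₂] [HasDerivedCategory.{w₂} C₂]
  (F : C₁ ⥤ C₂) [F.Additive] [PreservesFiniteLimits F] [PreservesFiniteColimits F]

/-- cohomology commutes with the functor induced on derived categories by an exact functor -/
noncomputable def homologyMapDerivedIso (L : DerivedCategory C₁) (i : ℤ) :
    (DerivedCategory.homologyFunctor C₂ i).obj (F.mapDerivedCategory.obj L) ≅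
      F.obj ((DerivedCategory.homologyFunctor C₁ i).obj L) :=
  (DerivedCategory.homologyFunctor C₂ i).mapIso
      (F.mapDerivedCategory.mapIso (DerivedCategory.Q.objObjPreimageIso L).symm ≪≫
        F.mapDerivedCategoryFactors.app (DerivedCategory.Q.objPreimage L)) ≪≫
    (DerivedCategory.homologyFunctorFactors C₂ i).app _ ≪≫
    ((DerivedCategory.Q.objPreimage L).sc i).mapHomologyIso F ≪≫
    F.mapIso (((DerivedCategory.homologyFunctorFactors C₁ i).app
        (DerivedCategory.Q.objPreimage L)).symm ≪≫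
      (DerivedCategory.homologyFunctor C₁ i).mapIso (DerivedCategory.Q.objObjPreimageIso L))

end General

section Stalks

/-- isomorphic modules have isomorphic stalks -/
noncomputable def stalkIsoOfIso {X : Scheme.{u}} {M N : X.Modules} (e : M ≅ N) (x : X) :
    M.presheaf.stalk x ≅ N.presheaf.stalk x :=
  (Scheme.Modules.toPresheaf X ⋙ TopCat.Presheaf.stalkFunctor _ x).mapIso e

/-- the stalk of a restriction along an open immersion -/
noncomputable def restrictStalkIso {U X : Scheme.{u}} (j : U ⟶ X) [IsOpenImmersion j]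
    (M : X.Modules) (p : U) :
    ((Scheme.Modules.restrictFunctor j).obj M).presheaf.stalk p ≅ M.presheaf.stalk (j p) :=
  (Scheme.Modules.restrictStalkNatIso j p).app M

theorem nontrivial_stalk_tilde_iff (R : CommRingCat.{u}) (N : ModuleCat.{u} R)
    (p : PrimeSpectrum R) :
    Nontrivial ((tilde N).presheaf.stalk p) ↔ p ∈ Module.support R N := by
  rw [Module.mem_support_iff]
  have e : LocalizedModule p.asIdeal.primeCompl N ≃ₗ[R] ((tilde N).presheaf.stalk p) :=
    IsLocalizedModule.iso p.asIdeal.primeCompl (tilde.toStalk N p).hom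
  exact ⟨fun h => e.toEquiv.nontrivial, fun h => e.symm.toEquiv.nontrivial⟩

theorem nontrivial_stalk_HD_iff' {X : Scheme.{u}} (R : CommRingCat.{u})
    (j : Spec (CommRingCat.of R) ⟶ X) [IsOpenImmersion j]
    [PreservesFiniteLimits (Scheme.Modules.restrictFunctor j)]
    [PreservesFiniteLimits (tilde.functor R)]
    (K : DCoh.D X) (ω : DerivedCategory (ModuleCat.{u} R))
    (e : (DCoh.restrictD j).obj K ≅ (DCoh.tildeD R).obj ω) (p : PrimeSpectrum R) (i : ℤ) :
    Nontrivial ((DCoh.HD K i).presheaf.stalk (j p)) ↔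
      p ∈ Module.support R ((DerivedCategory.homologyFunctor (ModuleCat.{u} R) i).obj ω) := by
  rw [← nontrivial_stalk_tilde_iff]
  have e1 : (DCoh.HD K i).presheaf.stalk (j p) ≅
      (tilde ((DerivedCategory.homologyFunctor (ModuleCat.{u} R) i).obj ω)).presheaf.stalk p :=
    (restrictStalkIso j (DCoh.HD K i) p).symm ≪≫
      stalkIsoOfIso ((homologyMapDerivedIso (Scheme.Modules.restrictFunctor j) K i).symm ≪≫
        (DerivedCategory.homologyFunctor _ i).mapIso e ≪≫
        homologyMapDerivedIso (tilde.functor R) ω i) p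
  exact ⟨fun h => e1.addCommGroupIsoToAddEquiv.symm.toEquiv.nontrivial,
    fun h => e1.addCommGroupIsoToAddEquiv.toEquiv.nontrivial⟩

theorem nontrivial_stalk_HD_iff {X : Scheme.{u}} (A : Type u) [CommRing A]
    (j : Spec (CommRingCat.of A) ⟶ X) [IsOpenImmersion j]
    [PreservesFiniteLimits (Scheme.Modules.restrictFunctor j)]
    [PreservesFiniteLimits (tilde.functor (CommRingCat.of A))]
    (K : DCoh.D X) (ω : Dual.D A)
    (e : (DCoh.restrictD j).obj K ≅ (DCoh.tildeD (CommRingCat.of A)).obj ω)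
    (p : PrimeSpectrum A) (i : ℤ) :
    Nontrivial ((DCoh.HD K i).presheaf.stalk (j p)) ↔
      p ∈ Module.support A (Dual.HD A ω i) :=
  nontrivial_stalk_HD_iff' (CommRingCat.of A) j K ω e p i

end Stalks

section CM

open LocCoh

theorem cm_of_ringEquiv {R₁ R₂ : Type u} [CommRing R₁] [CommRing R₂] (σ : R₁ ≃+* R₂)
    (h : IsCohenMacaulayLocalRing R₁) : IsCohenMacaulayLocalRing R₂ := by
  haveI : IsNoetherianRing R₁ := h.toIsNoetherian
  haveI := h.toIsLocalRing
  haveI : IsNoetherianRing R₂ := isNoetherianRing_of_ringEquiv R₁ σ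
  haveI : IsLocalRing R₂ := σ.isLocalRing
  refine { supportDim_eq_depth := ?_ }
  rw [Module.supportDim_self_eq_ringKrullDim,
    Groth.Agent.Helper8.Serre.depth_self_eq_of_ringEquiv σ, ← ringKrullDim_eq_of_ringEquiv σ,
    ← Module.supportDim_self_eq_ringKrullDim]
  exact h.supportDim_eq_depth

theorem cm_stalk_iff {X : Scheme.{u}} (A : Type u) [CommRing A]
    (j : Spec (CommRingCat.of A) ⟶ X) [IsOpenImmersion j] (p : PrimeSpectrum A) :
    IsCohenMacaulayLocalRing (X.presheaf.stalk (j p)) ↔
      IsCohenMacaulayLocalRing (Localization.AtPrime p.asIdeal) := by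
  letI alg0 : Algebra A ((Spec (CommRingCat.of A)).presheaf.stalk p) :=
    StructureSheaf.stalkAlgebra (R := A) p
  haveI loc0 : IsLocalization.AtPrime ((Spec (CommRingCat.of A)).presheaf.stalk p) p.asIdeal :=
    StructureSheaf.IsLocalization.to_stalk A p
  haveI := p.isPrime
  let σ : X.presheaf.stalk (j p) ≃+* Localization.AtPrime p.asIdeal :=
    (asIso (j.stalkMap p)).commRingCatIsoToRingEquiv.trans
      (IsLocalization.algEquiv p.asIdeal.primeCompl (Localization.AtPrime p.asIdeal)
        ((Spec (CommRingCat.of A)).presheaf.stalk p)).toRingEquiv.symm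
  exact ⟨cm_of_ringEquiv σ, cm_of_ringEquiv σ.symm⟩

theorem exists_affine_chart (X : Scheme.{u}) (x : X) :
    ∃ (A : Type u) (_ : CommRing A) (j : Spec (CommRingCat.of A) ⟶ X) (_ : IsOpenImmersion j)
      (p : PrimeSpectrum A), j p = x := by
  obtain ⟨p, hp⟩ := X.affineOpenCover.covers x
  exact ⟨X.affineOpenCover.X (X.affineOpenCover.idx x), inferInstance,
    X.affineOpenCover.f (X.affineOpenCover.idx x), inferInstance, p, hp⟩

open Groth.Agent.Helper3.DualSupp Groth.Agent.Helper8.Depth in
/-- at a prime of a Noetherian ring with a dualizing complex `ω`, the localization is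
Cohen–Macaulay iff exactly one cohomology module of `ω` is supported there -/
theorem cm_localization_iff_existsUnique (A : Type u) [CommRing A] [IsNoetherianRing A]
    (ω : Dual.D A) (hω : Dual.IsDualizing A ω) (p : PrimeSpectrum A) :
    IsCohenMacaulayLocalRing (Localization.AtPrime p.asIdeal) ↔
      ∃! i : ℤ, p ∈ Module.support A (Dual.HD A ω i) := by
  haveI hnt : Nontrivial (LocalizedModule p.asIdeal.primeCompl A) :=
    (localizedModuleSelfEquiv p.asIdeal).toEquiv.nontrivial
  rw [cmLocalRing_iff, cm_iff hω p A]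
  obtain ⟨i₀, hi₀⟩ := exists_mem_ES_of_mem_support hω A p (Module.mem_support_iff.2 hnt)
  rw [ES_self_eq hω] at hi₀
  constructor
  · intro h
    refine ⟨i₀, hi₀, fun i hi => h i i₀ ?_ ?_⟩
    · rw [ES_self_eq hω]; exact hi
    · rw [ES_self_eq hω]; exact hi₀
  · rintro ⟨i, hi, huniq⟩ a b ha hb
    rw [ES_self_eq hω] at ha hb
    rw [huniq a ha, huniq b hb]

end CM

section Main

open LocCoh

theorem cm_stalk_iff_existsUnique {X : Scheme.{u}} (A : Type u) [CommRing A]
    (j : Spec (CommRingCat.of A) ⟶ X) [IsOpenImmersion j]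
    [PreservesFiniteLimits (Scheme.Modules.restrictFunctor j)]
    [PreservesFiniteLimits (tilde.functor (CommRingCat.of A))]
    (K : DCoh.D X) (ω : Dual.D A) (hω : Dual.IsDualizing A ω)
    (e : (DCoh.restrictD j).obj K ≅ (DCoh.tildeD (CommRingCat.of A)).obj ω)
    (p : PrimeSpectrum A) :
    IsCohenMacaulayLocalRing (X.presheaf.stalk (j p)) ↔
      ∃! i : ℤ, Nontrivial ((DCoh.HD K i).presheaf.stalk (j p)) := by
  haveI := hω.isNoetherianRing
  rw [cm_stalk_iff, cm_localization_iff_existsUnique A ω hω p]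
  simp only [nontrivial_stalk_HD_iff A j K ω e p]

theorem main_S1809 (X : Scheme.{u}) [IsLocallyNoetherian X]
    [∀ (U : Scheme.{u}) (j : U ⟶ X) [IsOpenImmersion j],
      PreservesFiniteLimits (Scheme.Modules.restrictFunctor j)]
    [∀ (R : CommRingCat.{u}), PreservesFiniteLimits (tilde.functor R)]
    (ω : DCoh.D X) (hω : Dual2.IsDualizingSch X ω) :
    (∀ x : X, LocCoh.IsCohenMacaulayLocalRing (X.presheaf.stalk x) ↔
      ∃! i : ℤ, Nontrivial ((DCoh.HD ω i).presheaf.stalk x)) ∧
    IsOpen {x : X | LocCoh.IsCohenMacaulayLocalRing (X.presheaf.stalk x)} := by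
  constructor
  · intro x
    obtain ⟨A, _, j, _, p, rfl⟩ := exists_affine_chart X x
    obtain ⟨ωA, hωA, ⟨e⟩⟩ := hω A j
    exact cm_stalk_iff_existsUnique A j ω ωA hωA e p
  · rw [isOpen_iff_forall_mem_open]
    intro x hx
    obtain ⟨A, _, j, _, p, rfl⟩ := exists_affine_chart X x
    obtain ⟨ωA, hωA, -⟩ := hω A j
    haveI := hωA.isNoetherianRing
    refine ⟨j '' {q : PrimeSpectrum A |
      IsCohenMacaulayLocalRing (Localization.AtPrime q.asIdeal)}, ?_, ?_, ?_⟩
    · rintro _ ⟨q, hq, rfl⟩
      exact (cm_stalk_iff A j q).2 hq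
    · exact j.isOpenEmbedding.isOpenMap _
        (Groth.Agent.Helper3.DualSupp.main_S0372 A ωA hωA).1
    · exact ⟨p, (cm_stalk_iff A j p).1 hx, rfl⟩

theorem subsingleton_stalk_of_isZero {X : Scheme.{u}} {M : X.Modules} (hz : IsZero M) (x : X) :
    Subsingleton (M.presheaf.stalk x) := by
  have h1 : IsZero ((Scheme.Modules.toPresheaf X ⋙ TopCat.Presheaf.stalkFunctor _ x).obj M) :=
    Functor.map_isZero _ hz
  exact AddCommGrpCat.subsingleton_of_isZero h1

theorem main_S3675 (X : Scheme.{u}) [IsLocallyNoetherian X]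
    [∀ (U V : Scheme.{u}) (j : U ⟶ V) [IsOpenImmersion j],
      PreservesFiniteLimits (Scheme.Modules.restrictFunctor j)]
    [∀ (R : CommRingCat.{u}), PreservesFiniteLimits (tilde.functor R)]
    (ω : X.Modules) (hω : Coh.IsCoh ω) (hD : Dual2.IsDualizingSch X (DCoh.inD X ω)) (x : X) :
    LocCoh.IsCohenMacaulayLocalRing (X.presheaf.stalk x) := by
  obtain ⟨A, _, j, _, p, rfl⟩ := exists_affine_chart X x
  obtain ⟨ωA, hωA, ⟨e⟩⟩ := hD A j
  have key : ∀ i : ℤ, Nontrivial ((DCoh.HD (DCoh.inD X ω) i).presheaf.stalk (j p)) → i = 0 := by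
    intro i hi
    by_contra hne
    have hz : IsZero (DCoh.HD (DCoh.inD X ω) i) := by
      rcases lt_or_gt_of_ne hne with h | h
      · exact DerivedCategory.isZero_of_isGE (DCoh.inD X ω) 0 i h
      · exact DerivedCategory.isZero_of_isLE (DCoh.inD X ω) 0 i h
    have := subsingleton_stalk_of_isZero hz (j p)
    exact not_subsingleton _ this
  have h1 := cm_stalk_iff_existsUnique A j (DCoh.inD X ω) ωA hωA e p
  by_contra hcon
  -- existence of an index: from the algebra side
  haveI := hωA.isNoetherianRing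
  haveI hnt : Nontrivial (LocalizedModule p.asIdeal.primeCompl A) :=
    (Groth.Agent.Helper8.Depth.localizedModuleSelfEquiv p.asIdeal).toEquiv.nontrivial
  obtain ⟨i₀, hi₀⟩ := Groth.Agent.Helper3.DualSupp.exists_mem_ES_of_mem_support hωA A p
    (Module.mem_support_iff.2 hnt)
  rw [Groth.Agent.Helper3.DualSupp.ES_self_eq hωA,
    ← nontrivial_stalk_HD_iff A j (DCoh.inD X ω) ωA e p i₀] at hi₀
  exact hcon (h1.2 ⟨i₀, hi₀, fun i hi => by rw [key i hi, key i₀ hi₀]⟩)

end Main

end Groth.Agent.Helper3.SchDual
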