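import Mathlib
import Groth.Prelude.Def_DualSch
import Groth.Prelude.Def_Dual3
import Groth.Agent.Lib.Helper3.SchDual2
import Groth.Agent.Lib.Helper3.GorLocus
import Groth.Agent.Lib.Helper1.TildeBC

/-!
# Dualizing complexes on schemes: Gorenstein iff invertible (helper3)
-/

set_option autoImplicit false
universe u w₁ w₂ w₃ v₁ v₂ v₃ u₁ u₂ u₃
open CategoryTheory CategoryTheory.Limits AlgebraicGeometry

attribute [local instance] HasDerivedCategory.standard

namespace Groth.Agent.Helper3.SchDual

section General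

variable {C₁ : Type u₁} [Category.{v₁} C₁] [Abelian C₁] [HasDerivedCategory.{w₁} C₁]
  {C₂ : Type u₂} [Category.{v₂} C₂] [Abelian C₂] [HasDerivedCategory.{w₂} C₂]
  {C₃ : Type u₃} [Category.{v₃} C₃] [Abelian C₃] [HasDerivedCategory.{w₃} C₃]
  (F : C₁ ⥤ C₂) [F.Additive] [PreservesFiniteLimits F] [PreservesFiniteColimits F]
  (G : C₂ ⥤ C₃) [G.Additive] [PreservesFiniteLimits G] [PreservesFiniteColimits G]
  (H : C₁ ⥤ C₃) [H.Additive] [PreservesFiniteLimits H] [PreservesFiniteColimits H]

/-- the functor induced on derived categories by a composite of exact functors, on objects -/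
noncomputable def mapDerivedCompObjIso (α : H ≅ F ⋙ G) (K : DerivedCategory C₁) :
    H.mapDerivedCategory.obj K ≅ G.mapDerivedCategory.obj (F.mapDerivedCategory.obj K) :=
  H.mapDerivedCategory.mapIso (DerivedCategory.Q.objObjPreimageIso K).symm ≪≫
    H.mapDerivedCategoryFactors.app (DerivedCategory.Q.objPreimage K) ≪≫
    DerivedCategory.Q.mapIso
      ((Functor.mapHomologicalComplexCompIso α.symm (ComplexShape.up ℤ)).symm.app
        (DerivedCategory.Q.objPreimage K)) ≪≫
    (G.mapDerivedCategoryFactors.app _).symm ≪≫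
    G.mapDerivedCategory.mapIso ((F.mapDerivedCategoryFactors.app _).symm ≪≫
      F.mapDerivedCategory.mapIso (DerivedCategory.Q.objObjPreimageIso K))

end General

section Scheme

/-- restriction along a composite of open immersions, on objects -/
noncomputable def restrictDObjIsoOfEq {V U X : Scheme.{u}} (f : V ⟶ X) (g : V ⟶ U) (j : U ⟶ X)
    [IsOpenImmersion f] [IsOpenImmersion g] [IsOpenImmersion j] (h : g ≫ j = f)
    [PreservesFiniteLimits (Scheme.Modules.restrictFunctor f)]
    [PreservesFiniteLimits (Scheme.Modules.restrictFunctor g)]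
    [PreservesFiniteLimits (Scheme.Modules.restrictFunctor j)] (K : DCoh.D X) :
    (DCoh.restrictD f).obj K ≅ (DCoh.restrictD g).obj ((DCoh.restrictD j).obj K) :=
  mapDerivedCompObjIso (Scheme.Modules.restrictFunctor j) (Scheme.Modules.restrictFunctor g)
    (Scheme.Modules.restrictFunctor f)
    (Scheme.Modules.restrictFunctorCongr h.symm ≪≫ Scheme.Modules.restrictFunctorComp g j) K

/-- restriction of `O_X[n]` along an open immersion is `O_U[n]` -/
noncomputable def restrictDUnitShiftIso {U X : Scheme.{u}} (j : U ⟶ X) [IsOpenImmersion j]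
    [PreservesFiniteLimits (Scheme.Modules.restrictFunctor j)] (n : ℤ) :
    (DCoh.restrictD j).obj ((DCoh.inD X (Coh.structureModule X))⟦n⟧) ≅
      (DCoh.inD U (Coh.structureModule U))⟦n⟧ :=
  ((DCoh.restrictD j).commShiftIso n).app _ ≪≫ (shiftFunctor _ n).mapIso (restrictDUnitIso j)

/-- the derived tilde functor sends `R[n]` to `O_{Spec R}[n]` -/
noncomputable def tildeDUnitShiftIso' (R : CommRingCat.{u})
    [PreservesFiniteLimits (tilde.functor R)] (n : ℤ) :
    (DCoh.tildeD R).obj (((DerivedCategory.singleFunctor (ModuleCat.{u} R) 0).obj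
      (ModuleCat.of R R))⟦n⟧) ≅
      (DCoh.inD (Spec (CommRingCat.of R)) (Coh.structureModule (Spec (CommRingCat.of R))))⟦n⟧ :=
  ((DCoh.tildeD R).commShiftIso n).app _ ≪≫ (shiftFunctor _ n).mapIso (tildeDUnitIso' R)

/-- restricting `M~` along `Spec S ⟶ Spec R` (an open immersion) is the tilde of the base change,
on derived categories -/
noncomputable def restrictDTildeDIso {R S : CommRingCat.{u}} (φ : R ⟶ S)
    [IsOpenImmersion (Spec.map φ)]
    [PreservesFiniteLimits (Scheme.Modules.restrictFunctor (Spec.map φ))]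
    [PreservesFiniteLimits (tilde.functor R)] [PreservesFiniteLimits (tilde.functor S)]
    [PreservesFiniteLimits (ModuleCat.extendScalars.{u, u, u} φ.hom)]
    (ω : DerivedCategory (ModuleCat.{u} R)) :
    (DCoh.restrictD (Spec.map φ)).obj ((DCoh.tildeD R).obj ω) ≅
      (DCoh.tildeD S).obj ((ModuleCat.extendScalars.{u, u, u} φ.hom).mapDerivedCategory.obj ω) :=
  (mapDerivedCompObjIso (tilde.functor R) (Scheme.Modules.restrictFunctor (Spec.map φ))
      (tilde.functor R ⋙ Scheme.Modules.restrictFunctor (Spec.map φ)) (Iso.refl _) ω).symm ≪≫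
    mapDerivedCompObjIso (ModuleCat.extendScalars.{u, u, u} φ.hom) (tilde.functor S)
      (tilde.functor R ⋙ Scheme.Modules.restrictFunctor (Spec.map φ))
      (Functor.isoWhiskerLeft _ (Scheme.Modules.restrictFunctorIsoPullback (Spec.map φ)) ≪≫
        Groth.Agent.Helper1.TildeBC.pullbackTildeIso φ) ω

end Scheme

section Alg

open TensorProduct Groth.Agent.Helper3.GorLocus Groth.Agent.Helper3.BCDer Groth.Agent.Helper3.BCDual
  Groth.Agent.Helper5.FlatBC

/-- base change of a free module of rank one along a tower -/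
theorem nonempty_tensor_equiv_of_tower (A A₁ B : Type u) [CommRing A] [CommRing A₁] [CommRing B]
    [Algebra A A₁] [Algebra A B] [Algebra A₁ B] [IsScalarTower A A₁ B] (N : Type u)
    [AddCommGroup N] [Module A N] (e : A₁ ⊗[A] N ≃ₗ[A₁] A₁) : Nonempty (B ⊗[A] N ≃ₗ[B] B) :=
  ⟨(AlgebraTensorModule.cancelBaseChange A A₁ B B N).symm ≪≫ₗ
    AlgebraTensorModule.congr (LinearEquiv.refl B B) e ≪≫ₗ AlgebraTensorModule.rid A₁ B B⟩

theorem exists_away_free_rank_one (A : Type u) [CommRing A] [IsNoetherianRing A] (N : Type u)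
    [AddCommGroup N] [Module A N] [Module.Finite A N] (p : PrimeSpectrum A)
    (hp : p ∈ Module.freeLocus A N) (hr : Module.rankAtStalk N p = 1) :
    ∃ r : A, r ∉ p.asIdeal ∧
      Nonempty (Localization.Away r ⊗[A] N ≃ₗ[Localization.Away r] Localization.Away r) := by
  haveI : Module.FinitePresentation A N := Module.finitePresentation_of_finite A N
  haveI : Module.Free (Localization.AtPrime p.asIdeal)
      (LocalizedModule p.asIdeal.primeCompl N) := Module.mem_freeLocus.1 hp
  obtain ⟨r, hr1, hfree, hrank⟩ := Module.FinitePresentation.exists_free_localizedModule_powers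
    p.asIdeal.primeCompl (LocalizedModule.mkLinearMap p.asIdeal.primeCompl N)
    (Localization.AtPrime p.asIdeal)
  have hle : Submonoid.powers r ≤ p.asIdeal.primeCompl := Submonoid.powers_le.mpr hr1
  haveI : Nontrivial (Localization (Submonoid.powers r)) :=
    (show Localization (.powers r) →+* Localization.AtPrime p.asIdeal from
      IsLocalization.map (M := .powers r) (T := p.asIdeal.primeCompl) _ (RingHom.id _)
        hle).domain_nontrivial
  have h1 : Module.finrank (Localization (.powers r)) (LocalizedModule.Away r N) = 1 :=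
    hrank.trans hr
  have e1 : LocalizedModule.Away r N ≃ₗ[Localization (.powers r)] Localization (.powers r) :=
    LinearEquiv.ofFinrankEq _ _ (by rw [h1, Module.finrank_self])
  exact ⟨r, hr1, ⟨(LocalizedModule.equivTensorProduct (.powers r) N).symm ≪≫ₗ e1⟩⟩

/-- near a point of `locusN ω n`, the dualizing complex `ω` is a shift of the ring -/
theorem exists_away_iso_shift (A : Type u) [CommRing A] [IsNoetherianRing A] (ω : Dual.D A)
    (hω : Dual.IsDualizing A ω) (p : PrimeSpectrum A) (n : ℤ) (hp : p ∈ locusN ω n) :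
    ∃ f : A, f ∉ p.asIdeal ∧ ∃ (_ : Module.Flat A (Localization.Away f)),
      Nonempty ((G (A := A) (Localization.Away f)).obj ω ≅
        (Dual.inD (Localization.Away f) (Localization.Away f))⟦n⟧) := by
  haveI := hω.finite_cohomology
  obtain ⟨r, hr, ⟨er⟩⟩ := exists_away_free_rank_one A (Dual.HD A ω (-n)) p hp.2.1 hp.2.2
  -- a basic open neighbourhood inside the locus
  obtain ⟨_, ⟨s, rfl⟩, hps, hsub⟩ :=
    PrimeSpectrum.isTopologicalBasis_basic_opens.exists_subset_of_mem_open hp
      (isOpen_locusN hω n)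
  have hs : s ∉ p.asIdeal := hps
  refine ⟨r * s, fun h => (p.isPrime.mem_or_mem h).elim hr hs, IsLocalization.flat _ (.powers (r * s)), ?_⟩
  haveI : Module.Flat A (Localization.Away (r * s)) := IsLocalization.flat _ (.powers (r * s))
  rw [nonempty_iso_shift_unit_iff]
  have key : ∀ i : ℤ, Dual.HD (Localization.Away (r * s))
      ((G (A := A) (Localization.Away (r * s))).obj ω) i ≃ₗ[Localization.Away (r * s)]
      Localization.Away (r * s) ⊗[A] Dual.HD A ω i := fun i =>
    (homologyGIso (Localization.Away (r * s)) ω i).toLinearEquiv ≪≫ₗ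
      (eqvT (Localization.Away (r * s)) (Dual.HD A ω i)).symm
  constructor
  · intro i hi
    have h1 : Subsingleton (LocalizedModule.Away (r * s) (Dual.HD A ω i)) := by
      rw [LocalizedModule.subsingleton_iff_support_subset]
      intro q hq
      rw [PrimeSpectrum.mem_zeroLocus, Set.singleton_subset_iff]
      by_contra hcon
      have hq' : q ∈ (PrimeSpectrum.basicOpen s : Set (PrimeSpectrum A)) := by
        intro hsq
        exact hcon (Ideal.mul_mem_left _ r hsq)
      exact (hsub hq').1 i hi hq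
    exact ((key i).trans
      (LocalizedModule.equivTensorProduct (.powers (r * s)) (Dual.HD A ω i)).symm).toEquiv.subsingleton
  · letI : Algebra (Localization.Away r) (Localization.Away (r * s)) :=
      (IsLocalization.Away.awayToAwayRight r s).toAlgebra
    haveI : IsScalarTower A (Localization.Away r) (Localization.Away (r * s)) :=
      IsScalarTower.of_algebraMap_eq (fun a =>
        (IsLocalization.Away.awayToAwayRight_eq (S := Localization.Away r)
          (P := Localization.Away (r * s)) r s a).symm)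
    obtain ⟨e2⟩ := nonempty_tensor_equiv_of_tower A (Localization.Away r)
      (Localization.Away (r * s)) (Dual.HD A ω (-n)) er
    exact ⟨(key (-n)).trans e2⟩

/-- if `ω` is a shift of the ring, all localizations are Gorenstein -/
theorem gor_localization_of_iso_shift (A : Type u) [CommRing A] [IsNoetherianRing A]
    (ω : Dual.D A) (hω : Dual.IsDualizing A ω) (n : ℤ) (e : ω ≅ (Dual.inD A A)⟦n⟧)
    (p : PrimeSpectrum A) : LocCoh.IsGorensteinLocalRing (Localization.AtPrime p.asIdeal) := by
  have h1 : Dual.IsDualizing A ((Dual.inD A A)⟦n⟧) := isDualizing_of_iso e hω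
  have h2 : Dual.IsDualizing A (Dual.inD A A) :=
    isDualizing_of_iso (shiftShiftNeg (Dual.inD A A) n) (isDualizing_shift h1 (-n))
  haveI : IsNoetherianRing (Localization.AtPrime p.asIdeal) :=
    IsLocalization.isNoetherianRing p.asIdeal.primeCompl _ inferInstance
  haveI : Module.Flat A (Localization.AtPrime p.asIdeal) :=
    IsLocalization.flat _ p.asIdeal.primeCompl
  have h3 := isDualizing_G_of_isLocalization (Localization.AtPrime p.asIdeal)
    p.asIdeal.primeCompl (Dual.inD A A) h2
  exact (Groth.Agent.Helper3.GorDual.main_S11179 (Localization.AtPrime p.asIdeal)).2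
    (isDualizing_of_iso (Groth.Agent.Helper3.GorUnit.GunitIso A
      (Localization.AtPrime p.asIdeal)) h3)

end Alg

section Tilde

open Groth.Agent.Helper3.GorLocus

/-- if the derived tildes are isomorphic, the cohomology modules are isomorphic -/
noncomputable def homologyIsoOfTildeDIso' (R : CommRingCat.{u})
    [PreservesFiniteLimits (tilde.functor R)] (ω ω' : DerivedCategory (ModuleCat.{u} R))
    (e : (DCoh.tildeD R).obj ω ≅ (DCoh.tildeD R).obj ω') (i : ℤ) :
    (DerivedCategory.homologyFunctor (ModuleCat.{u} R) i).obj ω ≅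
      (DerivedCategory.homologyFunctor (ModuleCat.{u} R) i).obj ω' :=
  (tilde.fullyFaithfulFunctor (R := R)).preimageIso
    ((homologyMapDerivedIso (tilde.functor R) ω i).symm ≪≫
      (DerivedCategory.homologyFunctor _ i).mapIso e ≪≫
      homologyMapDerivedIso (tilde.functor R) ω' i)

theorem nonempty_iso_shift_of_tildeD_iso (A : Type u) [CommRing A]
    [PreservesFiniteLimits (tilde.functor (CommRingCat.of A))] (ω : Dual.D A) (n : ℤ)
    (e : (DCoh.tildeD (CommRingCat.of A)).obj ω ≅
      (DCoh.tildeD (CommRingCat.of A)).obj ((Dual.inD A A)⟦n⟧)) :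
    Nonempty (ω ≅ (Dual.inD A A)⟦n⟧) := by
  rw [nonempty_iso_shift_unit_iff]
  obtain ⟨h1, ⟨h2⟩⟩ := (nonempty_iso_shift_unit_iff ((Dual.inD A A)⟦n⟧) n).1 ⟨Iso.refl _⟩
  have key : ∀ i : ℤ, Dual.HD A ω i ≃ₗ[A] Dual.HD A ((Dual.inD A A)⟦n⟧) i := fun i =>
    (homologyIsoOfTildeDIso' (CommRingCat.of A) ω _ e i).toLinearEquiv
  refine ⟨fun i hi => ?_, ⟨(key (-n)).trans h2⟩⟩
  haveI := h1 i hi
  exact (key i).toEquiv.subsingleton

theorem gor_stalk_iff_localization {X : Scheme.{u}} (A : Type u) [CommRing A]
    (j : Spec (CommRingCat.of A) ⟶ X) [IsOpenImmersion j] (p : PrimeSpectrum A) :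
    LocCoh.IsGorensteinLocalRing (X.presheaf.stalk (j p)) ↔
      LocCoh.IsGorensteinLocalRing (Localization.AtPrime p.asIdeal) := by
  letI alg0 : Algebra A ((Spec (CommRingCat.of A)).presheaf.stalk p) :=
    StructureSheaf.stalkAlgebra (R := A) p
  haveI loc0 : IsLocalization.AtPrime ((Spec (CommRingCat.of A)).presheaf.stalk p) p.asIdeal :=
    StructureSheaf.IsLocalization.to_stalk A p
  haveI := p.isPrime
  let σ : X.presheaf.stalk (j p) ≃+* Localization.AtPrime p.asIdeal :=
    (asIso (j.stalkMap p)).commRingCatIsoToRingEquiv.trans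
      (IsLocalization.algEquiv p.asIdeal.primeCompl (Localization.AtPrime p.asIdeal)
        ((Spec (CommRingCat.of A)).presheaf.stalk p)).toRingEquiv.symm
  exact ⟨Groth.Agent.Helper8.GorFlat.isGorensteinLocalRing_of_ringEquiv σ,
    Groth.Agent.Helper8.GorFlat.isGorensteinLocalRing_of_ringEquiv σ.symm⟩

end Tilde

section Main

open Groth.Agent.Helper3.GorLocus Groth.Agent.Helper3.BCDer Groth.Agent.Helper5.FlatBC

theorem invertible_of_gorenstein (X : Scheme.{u})
    [∀ (U V : Scheme.{u}) (j : U ⟶ V) [IsOpenImmersion j],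
      PreservesFiniteLimits (Scheme.Modules.restrictFunctor j)]
    [∀ (R : CommRingCat.{u}), PreservesFiniteLimits (tilde.functor R)]
    (K : DCoh.D X) (hK : Dual2.IsDualizingSch X K)
    (hX : ∀ x : X, LocCoh.IsGorensteinLocalRing (X.presheaf.stalk x)) :
    Dual3.IsInvertibleD K := by
  intro x
  obtain ⟨A, _, j, _, p, rfl⟩ := exists_affine_chart X x
  obtain ⟨ωA, hωA, ⟨e⟩⟩ := hK A j
  haveI := hωA.isNoetherianRing
  obtain ⟨n, hn⟩ := (gorenstein_localization_iff hωA p).1
    ((gor_stalk_iff_localization A j p).1 (hX (j p)))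
  obtain ⟨f, hf, hflat, ⟨iso₁⟩⟩ := exists_away_iso_shift A ωA hωA p n hn
  let φ : CommRingCat.of A ⟶ CommRingCat.of (Localization.Away f) :=
    CommRingCat.ofHom (algebraMap A (Localization.Away f))
  haveI : IsOpenImmersion (Spec.map φ) := inferInstance
  let g : Spec (CommRingCat.of (Localization.Away f)) ⟶ X := Spec.map φ ≫ j
  let h : (g.opensRange : Scheme.{u}) ⟶ Spec (CommRingCat.of (Localization.Away f)) :=
    g.isoOpensRange.inv
  have hhg : h ≫ g = g.opensRange.ι := g.isoOpensRange_inv_comp
  haveI : PreservesFiniteLimits (ModuleCat.extendScalars.{u, u, u} φ.hom) :=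
    (inferInstance : PreservesFiniteLimits (Ef (R := A) (Localization.Away f)))
  refine ⟨g.opensRange, n, ?_, ⟨?_⟩⟩
  · -- the point lies in the open
    have hp : p ∈ Set.range (PrimeSpectrum.comap (algebraMap A (Localization.Away f))) := by
      rw [PrimeSpectrum.localization_away_comap_range (Localization.Away f) f]
      exact hf
    obtain ⟨q, hq⟩ := hp
    refine ⟨q, ?_⟩
    change j ((Spec.map φ) q) = j p
    congr 1
  · exact restrictDObjIsoOfEq g.opensRange.ι h g hhg K ≪≫
      (DCoh.restrictD h).mapIso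
        (restrictDObjIsoOfEq g (Spec.map φ) j rfl K ≪≫
          (DCoh.restrictD (Spec.map φ)).mapIso e ≪≫
          restrictDTildeDIso φ ωA ≪≫
          (DCoh.tildeD (CommRingCat.of (Localization.Away f))).mapIso iso₁ ≪≫
          tildeDUnitShiftIso' (CommRingCat.of (Localization.Away f)) n) ≪≫
      restrictDUnitShiftIso h n

theorem gorenstein_of_invertible (X : Scheme.{u})
    [∀ (U V : Scheme.{u}) (j : U ⟶ V) [IsOpenImmersion j],
      PreservesFiniteLimits (Scheme.Modules.restrictFunctor j)]
    [∀ (R : CommRingCat.{u}), PreservesFiniteLimits (tilde.functor R)]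
    (K : DCoh.D X) (hK : Dual2.IsDualizingSch X K) (hinv : Dual3.IsInvertibleD K) (x : X) :
    LocCoh.IsGorensteinLocalRing (X.presheaf.stalk x) := by
  obtain ⟨U, n, hxU, ⟨eU⟩⟩ := hinv x
  obtain ⟨A, _, j', _, p, hp⟩ := exists_affine_chart (U : Scheme.{u}) ⟨x, hxU⟩
  let j : Spec (CommRingCat.of A) ⟶ X := j' ≫ U.ι
  obtain ⟨ωA, hωA, ⟨e⟩⟩ := hK A j
  haveI := hωA.isNoetherianRing
  have hx : j p = x := by
    change U.ι (j' p) = x
    rw [hp]
    rfl
  have iso : (DCoh.tildeD (CommRingCat.of A)).obj ωA ≅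
      (DCoh.tildeD (CommRingCat.of A)).obj ((Dual.inD A A)⟦n⟧) :=
    e.symm ≪≫ restrictDObjIsoOfEq j j' U.ι rfl K ≪≫ (DCoh.restrictD j').mapIso eU ≪≫
      restrictDUnitShiftIso j' n ≪≫ (tildeDUnitShiftIso' (CommRingCat.of A) n).symm
  obtain ⟨iso'⟩ := nonempty_iso_shift_of_tildeD_iso A ωA n iso
  rw [← hx, gor_stalk_iff_localization A j p]
  exact gor_localization_of_iso_shift A ωA hωA n iso' p

theorem main_S3620 (X : Scheme.{u}) [IsLocallyNoetherian X]
    [∀ (U V : Scheme.{u}) (j : U ⟶ V) [IsOpenImmersion j],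
      PreservesFiniteLimits (Scheme.Modules.restrictFunctor j)]
    [∀ (R : CommRingCat.{u}), PreservesFiniteLimits (tilde.functor R)]
    (K : DCoh.D X) (hK : Dual2.IsDualizingSch X K) :
    Dual3.IsGorenstein X ↔ Dual3.IsInvertibleD K :=
  ⟨fun h => invertible_of_gorenstein X K hK h.2,
    fun h => ⟨inferInstance, gorenstein_of_invertible X K hK h⟩⟩

end Main

end Groth.Agent.Helper3.SchDual
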