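import Mathlib
import Groth.Prelude.Def_Wider
import Groth.Agent.Lib.Helper3.GorLocus
import Groth.Agent.Lib.Helper3.SchDual3

/-!
# Spreading out: a bounded complex with finite cohomology which is a shift of the ring at a
prime is so on a principal open neighbourhood (helper3)
-/

set_option autoImplicit false
universe u
open CategoryTheory CategoryTheory.Limits DerivedCategory TensorProduct

attribute [local instance] HasDerivedCategory.standard

namespace Groth.Agent.Helper3.GorInv

open Groth.Agent.Helper3.GorLocus Groth.Agent.Helper3.BCDer Groth.Agent.Helper3.BCDual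
  Groth.Agent.Helper5.FlatBC Groth.Agent.Helper3.SchDual

variable {A : Type u} [CommRing A] [IsNoetherianRing A]

/-- membership of `locusN` in terms of the localization -/
theorem mem_locusN_iff (ω : Dual.D A) (hfin : ∀ i : ℤ, Module.Finite A (Dual.HD A ω i))
    (p : PrimeSpectrum A) (n : ℤ) :
    p ∈ locusN ω n ↔
      Nonempty ((G (A := A) (Localization.AtPrime p.asIdeal)).obj ω ≅
        (Dual.inD (Localization.AtPrime p.asIdeal) (Localization.AtPrime p.asIdeal))⟦n⟧) := by
  have e : ∀ i : ℤ, Dual.HD (Localization.AtPrime p.asIdeal)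
      ((G (A := A) (Localization.AtPrime p.asIdeal)).obj ω) i ≃ₗ[Localization.AtPrime p.asIdeal]
      (Localization.AtPrime p.asIdeal) ⊗[A] Dual.HD A ω i := fun i =>
    (homologyGIso (Localization.AtPrime p.asIdeal) ω i).toLinearEquiv ≪≫ₗ
      (eqvT (Localization.AtPrime p.asIdeal) (Dual.HD A ω i)).symm
  haveI := hfin
  rw [nonempty_iso_shift_unit_iff, locusN, Set.mem_setOf_eq, ← nonempty_tensor_equiv_iff]
  refine (and_congr (forall_congr' fun i => forall_congr' fun _ => ?_) ?_).symm
  · rw [← subsingleton_tensor_iff]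
    exact (e i).toEquiv.subsingleton_congr
  · exact ⟨fun ⟨ε⟩ => ⟨(e (-n)).symm ≪≫ₗ ε⟩, fun ⟨ε⟩ => ⟨e (-n) ≪≫ₗ ε⟩⟩

/-- openness of `locusN` for a bounded complex with finite cohomology -/
theorem isOpen_locusN' (ω : Dual.D A) (a b : ℤ) [ω.IsGE a] [ω.IsLE b]
    (hfin : ∀ i : ℤ, Module.Finite A (Dual.HD A ω i)) (n : ℤ) : IsOpen (locusN ω n) := by
  haveI := hfin
  have hsupp : ∀ i : ℤ, IsClosed (Module.support A (Dual.HD A ω i)) := fun i => by
    rw [Module.support_eq_zeroLocus]
    exact PrimeSpectrum.isClosed_zeroLocus _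
  have h1 : {p : PrimeSpectrum A | ∀ i : ℤ, i ≠ -n → p ∉ Module.support A (Dual.HD A ω i)} =
      ⋂ i ∈ (Finset.Icc a b).filter (fun i => i ≠ -n), (Module.support A (Dual.HD A ω i))ᶜ := by
    ext p
    simp only [Set.mem_setOf_eq, Set.mem_iInter, Set.mem_compl_iff, Finset.mem_filter,
      Finset.mem_Icc]
    constructor
    · intro h i hi
      exact h i hi.2
    · intro h i hi
      by_cases hab : a ≤ i ∧ i ≤ b
      · exact h i ⟨hab, hi⟩
      · have hz : IsZero ((DerivedCategory.homologyFunctor (ModuleCat.{u} A) i).obj ω) := by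
          by_cases hia : a ≤ i
          · exact isZero_of_isLE ω b i (by omega)
          · exact isZero_of_isGE ω a i (by omega)
        haveI := ModuleCat.subsingleton_of_isZero hz
        rw [Module.support_eq_empty]
        exact Set.notMem_empty _
  have ho1 : IsOpen {p : PrimeSpectrum A |
      ∀ i : ℤ, i ≠ -n → p ∉ Module.support A (Dual.HD A ω i)} := by
    rw [h1]
    exact isOpen_biInter_finset (fun i _ => (hsupp i).isOpen_compl)
  haveI : Module.FinitePresentation A (Dual.HD A ω (-n)) :=
    Module.finitePresentation_of_finite A _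
  have ho2 : IsOpen {p : PrimeSpectrum A | p ∈ Module.freeLocus A (Dual.HD A ω (-n)) ∧
      Module.rankAtStalk (Dual.HD A ω (-n)) p = 1} := by
    have hlc := Module.isLocallyConstant_rankAtStalk_freeLocus (R := A) (M := Dual.HD A ω (-n))
    have hopen : IsOpen ((fun x : Module.freeLocus A (Dual.HD A ω (-n)) =>
        Module.rankAtStalk (Dual.HD A ω (-n)) x.1) ⁻¹' {1}) := hlc.isOpen_fiber 1
    have h2 := (Module.isOpen_freeLocus (R := A) (M := Dual.HD A ω (-n))).isOpenMap_subtype_val _
      hopen
    convert h2 using 1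
    ext p
    simp only [Set.mem_setOf_eq, Set.mem_image, Set.mem_preimage, Set.mem_singleton_iff,
      Subtype.exists, exists_and_right, exists_eq_right]
    constructor
    · rintro ⟨h, h'⟩
      exact ⟨h, h'⟩
    · rintro ⟨h, h'⟩
      exact ⟨h, h'⟩
  exact ho1.inter ho2

/-- near a point of `locusN ω n`, the complex `ω` is a shift of the ring -/
theorem exists_away_iso_shift' (ω : Dual.D A) (a b : ℤ) [ω.IsGE a] [ω.IsLE b]
    (hfin : ∀ i : ℤ, Module.Finite A (Dual.HD A ω i)) (p : PrimeSpectrum A) (n : ℤ)
    (hp : p ∈ locusN ω n) :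
    ∃ f : A, f ∉ p.asIdeal ∧
      Nonempty ((G (A := A) (Localization.Away f)).obj ω ≅
        (Dual.inD (Localization.Away f) (Localization.Away f))⟦n⟧) := by
  haveI := hfin
  obtain ⟨r, hr, ⟨er⟩⟩ := exists_away_free_rank_one A (Dual.HD A ω (-n)) p hp.2.1 hp.2.2
  obtain ⟨_, ⟨s, rfl⟩, hps, hsub⟩ :=
    PrimeSpectrum.isTopologicalBasis_basic_opens.exists_subset_of_mem_open hp
      (isOpen_locusN' ω a b hfin n)
  have hs : s ∉ p.asIdeal := hps
  refine ⟨r * s, fun h => (p.isPrime.mem_or_mem h).elim hr hs, ?_⟩
  rw [nonempty_iso_shift_unit_iff]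
  have key : ∀ i : ℤ, Dual.HD (Localization.Away (r * s))
      ((G (A := A) (Localization.Away (r * s))).obj ω) i ≃ₗ[Localization.Away (r * s)]
      Localization.Away (r * s) ⊗[A] Dual.HD A ω i := fun i =>
    (homologyGIso (Localization.Away (r * s)) ω i).toLinearEquiv ≪≫ₗ
      (eqvT (Localization.Away (r * s)) (Dual.HD A ω i)).symm
  constructor
  · intro i hi
    have h1 : Subsingleton (LocalizedModule.Away (r * s) (Dual.HD A ω i)) := by
      rw [LocalizedModule.subsingleton_iff_support_subset]
      intro q hq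
      rw [PrimeSpectrum.mem_zeroLocus, Set.singleton_subset_iff]
      by_contra hcon
      have hq' : q ∈ (PrimeSpectrum.basicOpen s : Set (PrimeSpectrum A)) := by
        intro hsq
        exact hcon (Ideal.mul_mem_left _ r hsq)
      exact (hsub hq').1 i hi hq
    exact ((key i).trans
      (LocalizedModule.equivTensorProduct (.powers (r * s))
        (Dual.HD A ω i)).symm).toEquiv.subsingleton
  · letI : Algebra (Localization.Away r) (Localization.Away (r * s)) :=
      (IsLocalization.Away.awayToAwayRight r s).toAlgebra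
    haveI : IsScalarTower A (Localization.Away r) (Localization.Away (r * s)) :=
      IsScalarTower.of_algebraMap_eq (fun a =>
        (IsLocalization.Away.awayToAwayRight_eq (S := Localization.Away r)
          (P := Localization.Away (r * s)) r s a).symm)
    obtain ⟨e2⟩ := nonempty_tensor_equiv_of_tower A (Localization.Away r)
      (Localization.Away (r * s)) (Dual.HD A ω (-n)) er
    exact ⟨(key (-n)).trans e2⟩

end Groth.Agent.Helper3.GorInv
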