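import Mathlib
import Groth.Prelude.Def_Wider
import Groth.Prelude.Def_DRing2
import Groth.Agent.Lib.Helper3.DualFun2
import Groth.Agent.Lib.Helper3.DRGen
import Groth.Agent.Lib.Helper3.CptRing

/-!
# `Hom_{D(A)}(A[0], X[j]) ≃ H^j(X)` for every object `X` of `D(A)`
-/

set_option autoImplicit false
universe u
open CategoryTheory CategoryTheory.Limits Pretriangulated Triangulated Opposite

attribute [local instance] HasDerivedCategory.standard

namespace Groth.Agent.Helper3.HomUnit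

open DerivedCategory Groth.Agent.Helper5.InjAmp Groth.Agent.Helper3.DualFun

variable {A : Type u} [CommRing A]

section Cohomology

variable (K : DRing.Cx A) (M : ModuleCat.{u} A) [Projective M] (j : ℤ)

instance isKProjective_S : (S j M).IsKProjective :=
  CochainComplex.isKProjective_of_projective (S j M) j

lemma Phi_surjective' : Function.Surjective (Phi K M j) := by
  intro u
  obtain ⟨φ, rfl⟩ := Groth.Agent.Helper3.CptRing.exists_Q_map_eq (S j M) K u
  obtain ⟨l, hl, rfl⟩ := exists_eq_fromSingle K j φ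
  exact ⟨⟨l, (mem_Zj K M j l).2 hl⟩, rfl⟩

lemma ker_Phi' : LinearMap.ker (Phi K M j) =
    LinearMap.range ((Dc K M).sc' (j - 1) j (j + 1)).moduleCatToCycles := by
  ext z
  constructor
  · intro hz
    replace hz : Phi K M j z = 0 := LinearMap.mem_ker.1 hz
    rw [Phi_apply] at hz
    obtain ⟨H⟩ := Groth.Agent.Helper3.DRGen.homotopy_of_Q_map_eq _ 0
      (hz.trans (Functor.map_zero _ _ _).symm)
    obtain ⟨s, hs⟩ := exists_lift_of_homotopy K j _ _ H (j - 1) (by omega)
    refine ⟨(show (Dc K M).X (j - 1) from s), ?_⟩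
    apply Subtype.ext
    exact hs.symm
  · rintro ⟨(s : M ⟶ K.X (j - 1)), rfl⟩
    apply LinearMap.mem_ker.2
    rw [Phi_apply]
    exact Q_map_fromSingle_eq_zero K j _ _ s rfl

/-- `H^j(Hom_A(M, K^•)) ≃ Hom_{D(A)}(M[-j], K)` for projective `M` -/
noncomputable def homologyEquiv' :
    ((Dc K M).homology j) ≃ₗ[A] (Q.obj (S j M) ⟶ Q.obj K) :=
  ((Dc K M).homologyIsoSc' (j - 1) j (j + 1) (by simp) (by simp) ≪≫
      ((Dc K M).sc' (j - 1) j (j + 1)).moduleCatHomologyIso).toLinearEquiv ≪≫ₗ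
    (Submodule.quotEquivOfEq _ _ (ker_Phi' K M j).symm) ≪≫ₗ
    (Phi K M j).quotKerEquivOfSurjective (Phi_surjective' K M j)

end Cohomology

section Ev

variable (K : DRing.Cx A)

/-- evaluation at `1` : `Hom_A(A, K^•) → K^•` -/
noncomputable def ev1 : Dc K (ModuleCat.of A A) ⟶ K where
  f q := ModuleCat.ofHom
    { toFun := fun (φ : ModuleCat.of A A ⟶ K.X q) => φ.hom (1 : A)
      map_add' := fun _ _ => rfl
      map_smul' := fun _ _ => rfl }
  comm' _ _ _ := rfl

instance isIso_ev1 : IsIso (ev1 K) := by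
  haveI : ∀ q : ℤ, IsIso ((ev1 K).f q) := by
    intro q
    rw [ConcreteCategory.isIso_iff_bijective]
    exact (CptMod.homEquiv A (K.X q)).bijective
  exact HomologicalComplex.Hom.isIso_of_components _

end Ev

section Main

/-- `Hom(A[0], (Q K)[j]) ≃ H^j(K)` -/
noncomputable def unitEquivQ (K : DRing.Cx A) (j : ℤ) :
    (Dual.inD A A ⟶ (Q.obj K)⟦j⟧) ≃ₗ[A] Dual.HD A (Q.obj K) j :=
  haveI : Projective (ModuleCat.of A A) := ModuleCat.projective_of_categoryTheory_projective _
  shiftLinEquiv _ _ j ≪≫ₗ Linear.homCongr A (theta (ModuleCat.of A A) j) (Iso.refl _) ≪≫ₗ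
    (homologyEquiv' K (ModuleCat.of A A) j).symm ≪≫ₗ
    ((HomologicalComplex.homologyFunctor _ _ j).mapIso (asIso (ev1 K))).toLinearEquiv ≪≫ₗ
    ((DerivedCategory.homologyFunctorFactors (ModuleCat.{u} A) j).app K).symm.toLinearEquiv

/-- `Hom(A[0], X[j]) ≃ H^j(X)` -/
noncomputable def unitEquiv (X : Dual.D A) (j : ℤ) :
    (Dual.inD A A ⟶ X⟦j⟧) ≃ₗ[A] Dual.HD A X j :=
  Linear.homCongr A (Iso.refl _)
      ((shiftFunctor (Dual.D A) j).mapIso (Q.objObjPreimageIso X).symm) ≪≫ₗ
    unitEquivQ (Q.objPreimage X) j ≪≫ₗ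
    ((DerivedCategory.homologyFunctor (ModuleCat.{u} A) j).mapIso
      (Q.objObjPreimageIso X)).toLinearEquiv

end Main

end Groth.Agent.Helper3.HomUnit
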