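import Mathlib
import Groth.Prelude.Def_Wider
import Groth.Prelude.Def_DDual2
import Groth.Agent.Lib.Helper5.TwoTerm.TSOrth
import Groth.Agent.Lib.Helper5.DTenLib.Base
import Groth.Agent.Lib.Helper3.HomUnit

/-!
# A local derived Nakayama lemma, part 1 (helper3)

`B` is a local ring, `ρ : B → k` a ring map to a field killing the maximal ideal.  If `X` is in
`D^{≤ c}(B)` with `H^c(X)` finite and `X ⊗^L_B k` lies in `D^{≤ c-1}(k)`, then `X` lies in
`D^{≤ c-1}(B)`.
-/

set_option autoImplicit false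
universe u
open CategoryTheory CategoryTheory.Limits DerivedCategory Pretriangulated Triangulated

attribute [local instance] HasDerivedCategory.standard

namespace Groth.Agent.Helper3.LocNak

open Groth.Agent.Lib.Helper5.DTenLib

section TS

variable {C : Type*} [Category C] [Abelian C] [HasDerivedCategory C]

lemma isIso_homologyMap_truncGEπ (X : DerivedCategory C) (n : ℤ) :
    IsIso ((homologyFunctor C n).map (((TStructure.t : TStructure (DerivedCategory C)).truncGEπ
      n).app X)) := by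
  let t : TStructure (DerivedCategory C) := TStructure.t
  have : ((t.triangleLTGE n).obj X).obj₁.IsLE (n - 1) :=
    inferInstanceAs (t.IsLE ((t.triangleLTGE n).obj X).obj₁ (n - 1))
  exact Helper5.TwoTerm.isIso_homologyMap_mor₂ _ (t.triangleLTGE_distinguished n X) n (n + 1) rfl
    (isZero_of_isLE _ (n - 1) n (by lia)) (isZero_of_isLE _ (n - 1) (n + 1) (by lia))

lemma isIso_homologyMap_truncLTι (Y : DerivedCategory C) (n : ℤ) :
    IsIso ((homologyFunctor C n).map (((TStructure.t : TStructure (DerivedCategory C)).truncLTι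
      (n + 1)).app Y)) := by
  let t : TStructure (DerivedCategory C) := TStructure.t
  have : ((t.triangleLTGE (n + 1)).obj Y).obj₃.IsGE (n + 1) :=
    inferInstanceAs (t.IsGE ((t.triangleLTGE (n + 1)).obj Y).obj₃ (n + 1))
  exact Helper5.TwoTerm.isIso_homologyMap_mor₁ _ (t.triangleLTGE_distinguished (n + 1) Y)
    (n - 1) n (by lia)
    (isZero_of_isGE _ (n + 1) (n - 1) (by lia)) (isZero_of_isGE _ (n + 1) n (by lia))

/-- existence of morphisms with prescribed effect on `Hⁿ` from an object `≤ n` to an object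
`≥ n` -/
theorem exists_hom_of_homologyMap {X Y : DerivedCategory C} (n : ℤ) [X.IsLE n] [Y.IsGE n]
    (φ : (homologyFunctor C n).obj X ⟶ (homologyFunctor C n).obj Y) :
    ∃ f : X ⟶ Y, (homologyFunctor C n).map f = φ := by
  let t : TStructure (DerivedCategory C) := TStructure.t
  haveI iπ := isIso_homologyMap_truncGEπ X n
  haveI iι := isIso_homologyMap_truncLTι Y n
  have hA1 : ((t.truncGE n).obj X).IsGE n := inferInstanceAs (t.IsGE ((t.truncGE n).obj X) n)
  have hA2 : ((t.truncGE n).obj X).IsLE n := inferInstanceAs (t.IsLE ((t.truncGE n).obj X) n)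
  have hB1 : ((t.truncLT (n + 1)).obj Y).IsGE n :=
    inferInstanceAs (t.IsGE ((t.truncLT (n + 1)).obj Y) n)
  have hB2 : ((t.truncLT (n + 1)).obj Y).IsLE n :=
    inferInstanceAs (t.IsLE ((t.truncLT (n + 1)).obj Y) n)
  obtain ⟨A₀, ⟨eA⟩⟩ := exists_iso_singleFunctor_obj_of_isGE_of_isLE ((t.truncGE n).obj X) n
  obtain ⟨B₀, ⟨eB⟩⟩ :=
    exists_iso_singleFunctor_obj_of_isGE_of_isLE ((t.truncLT (n + 1)).obj Y) n
  let θ := singleFunctorCompHomologyFunctorIso C n
  let a : (homologyFunctor C n).obj X ≅ A₀ :=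
    asIso ((homologyFunctor C n).map ((t.truncGEπ n).app X)) ≪≫
      (homologyFunctor C n).mapIso eA ≪≫ θ.app A₀
  let b : B₀ ≅ (homologyFunctor C n).obj Y :=
    (θ.app B₀).symm ≪≫ (homologyFunctor C n).mapIso eB.symm ≪≫
      asIso ((homologyFunctor C n).map ((t.truncLTι (n + 1)).app Y))
  let g₀ : A₀ ⟶ B₀ := a.inv ≫ φ ≫ b.inv
  refine ⟨(t.truncGEπ n).app X ≫ eA.hom ≫ (singleFunctor C n).map g₀ ≫ eB.inv ≫
    (t.truncLTι (n + 1)).app Y, ?_⟩
  have hnat : (homologyFunctor C n).map ((singleFunctor C n).map g₀) =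
      θ.hom.app A₀ ≫ g₀ ≫ θ.inv.app B₀ := by
    have := NatIso.naturality_2 θ g₀
    dsimp at this
    rw [← this]
  have ha : a.hom = (homologyFunctor C n).map ((t.truncGEπ n).app X) ≫
      (homologyFunctor C n).map eA.hom ≫ θ.hom.app A₀ := rfl
  have hb : b.hom = θ.inv.app B₀ ≫ (homologyFunctor C n).map eB.inv ≫
      (homologyFunctor C n).map ((t.truncLTι (n + 1)).app Y) := rfl
  calc (homologyFunctor C n).map ((t.truncGEπ n).app X ≫ eA.hom ≫ (singleFunctor C n).map g₀ ≫
        eB.inv ≫ (t.truncLTι (n + 1)).app Y)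
      = a.hom ≫ g₀ ≫ b.hom := by
        rw [ha, hb]
        simp only [Functor.map_comp, hnat, Category.assoc]
    _ = φ := by
        simp only [g₀, Category.assoc, Iso.inv_hom_id, Category.comp_id, Iso.hom_inv_id_assoc]

end TS

section Unit

variable {B : Type u} [CommRing B]

/-- morphisms from the unit with prescribed effect on `H⁰` -/
theorem exists_hom_from_unit (K : Dual.D B) [K.IsLE 0]
    (θ : (homologyFunctor (ModuleCat.{u} B) 0).obj (Dual.inD B B) ⟶
      (homologyFunctor (ModuleCat.{u} B) 0).obj K) :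
    ∃ g : Dual.inD B B ⟶ K, (homologyFunctor (ModuleCat.{u} B) 0).map g = θ := by
  let t : TStructure (Dual.D B) := TStructure.t
  haveI iπ : IsIso ((homologyFunctor (ModuleCat.{u} B) 0).map ((t.truncGEπ 0).app K)) :=
    isIso_homologyMap_truncGEπ K 0
  haveI : ((t.truncGE 0).obj K).IsGE 0 := inferInstanceAs (t.IsGE ((t.truncGE 0).obj K) 0)
  obtain ⟨g', hg'⟩ := exists_hom_of_homologyMap (X := Dual.inD B B) (Y := (t.truncGE 0).obj K) 0
    (θ ≫ (homologyFunctor (ModuleCat.{u} B) 0).map ((t.truncGEπ 0).app K))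
  have hT := t.triangleLTGE_distinguished 0 K
  have hz : g' ≫ ((t.triangleLTGE 0).obj K).mor₃ = 0 := by
    haveI : ((t.truncLT 0).obj K).IsLE (0 - 1) :=
      inferInstanceAs (t.IsLE ((t.truncLT 0).obj K) (0 - 1))
    haveI hsub : Subsingleton (Dual.HD B ((t.truncLT 0).obj K) 1) :=
      ModuleCat.subsingleton_of_isZero (isZero_of_isLE _ (0 - 1) 1 (by lia))
    exact (Groth.Agent.Helper3.HomUnit.unitEquiv ((t.truncLT 0).obj K) 1).injective
      (Subsingleton.elim _ _)
  obtain ⟨g, hg⟩ := Triangle.coyoneda_exact₃ _ hT g' hz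
  refine ⟨g, ?_⟩
  have h1 : (homologyFunctor (ModuleCat.{u} B) 0).map g ≫
      (homologyFunctor (ModuleCat.{u} B) 0).map ((t.truncGEπ 0).app K) =
      θ ≫ (homologyFunctor (ModuleCat.{u} B) 0).map ((t.truncGEπ 0).app K) := by
    rw [← Functor.map_comp, ← hg']
    congr 1
    exact hg.symm
  exact (cancel_mono ((homologyFunctor (ModuleCat.{u} B) 0).map ((t.truncGEπ 0).app K))).1 h1

end Unit

section Nak

variable {B : Type u} [CommRing B] [IsLocalRing B]

/-- Nakayama: a finite module over a local ring with no nonzero maps to a module having a nonzero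
element killed by the maximal ideal is zero -/
theorem subsingleton_of_forall_hom_eq_zero (M : Type u) [AddCommGroup M] [Module B M]
    [Module.Finite B M] (N : Type u) [AddCommGroup N] [Module B N] (y : N) (hy : y ≠ 0)
    (hmy : ∀ a ∈ IsLocalRing.maximalIdeal B, a • y = 0) (h : ∀ φ : M →ₗ[B] N, φ = 0) :
    Subsingleton M := by
  by_contra hM
  rw [not_subsingleton_iff_nontrivial] at hM
  rcases IsCoatomic.eq_top_or_exists_le_coatom (⊥ : Submodule B M) with h0 | ⟨M', hM', -⟩
  · exact bot_ne_top h0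
  · haveI : IsSimpleModule B (M ⧸ M') := isSimpleModule_iff_isCoatom.2 hM'
    obtain ⟨I, hI, ⟨ε⟩⟩ := isSimpleModule_iff_quot_maximal.1 ‹IsSimpleModule B (M ⧸ M')›
    have hIm : I = IsLocalRing.maximalIdeal B := IsLocalRing.eq_maximalIdeal hI
    let ψ : (B ⧸ I) →ₗ[B] N := Submodule.liftQ I (LinearMap.toSpanSingleton B N y) (by
      intro a ha
      rw [LinearMap.mem_ker, LinearMap.toSpanSingleton_apply]
      exact hmy a (hIm ▸ ha))
    let φ : M →ₗ[B] N := ψ ∘ₗ ε.toLinearMap ∘ₗ M'.mkQ
    obtain ⟨x, hx⟩ := M'.mkQ_surjective (ε.symm (Submodule.Quotient.mk 1))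
    have h1 : φ x = y := by
      change ψ (ε (M'.mkQ x)) = y
      rw [hx, LinearEquiv.apply_symm_apply]
      change Submodule.liftQ I (LinearMap.toSpanSingleton B N y) _ (Submodule.Quotient.mk 1) = y
      rw [Submodule.liftQ_apply, LinearMap.toSpanSingleton_apply, one_smul]
    rw [h φ] at h1
    exact hy h1.symm

end Nak

section D1

variable {B : Type u} [CommRing B] [IsLocalRing B] {k : Type u} [Field k] (ρ : B →+* k)
  (hρ : ∀ a ∈ IsLocalRing.maximalIdeal B, ρ a = 0)

/-- the residue module: `k` as a `B`-module -/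
noncomputable def kB : ModuleCat.{u} B :=
  (ModuleCat.restrictScalars ρ).obj (ModuleCat.of k k)

/-- restriction of scalars of `k` placed in degree `c` -/
noncomputable def resSingleIso (c : ℤ) :
    (DRing.restrictD ρ).obj ((singleFunctor (ModuleCat.{u} k) c).obj (ModuleCat.of k k)) ≅
      (singleFunctor (ModuleCat.{u} B) c).obj (kB ρ) :=
  ((ModuleCat.restrictScalars ρ).mapDerivedCategorySingleFunctor c).app (ModuleCat.of k k)

lemma hom_single_eq_zero (X : Dual.D B) (c : ℤ)
    [((DRing.LBaseChange ρ).obj X).IsLE (c - 1)]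
    (f : X ⟶ (singleFunctor (ModuleCat.{u} B) c).obj (kB ρ)) : f = 0 := by
  have h : f ≫ (resSingleIso ρ c).inv = 0 := by
    have h1 : ((myAdj ρ).homEquiv _ _).symm (f ≫ (resSingleIso ρ c).inv) = 0 :=
      TStructure.t.zero_of_isLE_of_isGE _ (c - 1) c (by lia) inferInstance inferInstance
    have h2 := congrArg ((myAdj ρ).homEquiv _ _) h1
    rw [Equiv.apply_symm_apply] at h2
    rw [h2, Adjunction.homEquiv_unit, Functor.map_zero, comp_zero]
  rw [← cancel_mono (resSingleIso ρ c).inv, h, zero_comp]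

include hρ in
/-- the key step of the local derived Nakayama lemma -/
theorem isLE_pred (X : Dual.D B) (c : ℤ) [X.IsLE c] [Module.Finite B (Dual.HD B X c)]
    [((DRing.LBaseChange ρ).obj X).IsLE (c - 1)] : X.IsLE (c - 1) := by
  let Z : Dual.D B := (singleFunctor (ModuleCat.{u} B) c).obj (kB ρ)
  let θ : (homologyFunctor (ModuleCat.{u} B) c).obj Z ≅ kB ρ :=
    (singleFunctorCompHomologyFunctorIso (ModuleCat.{u} B) c).app (kB ρ)
  have hsub : Subsingleton (Dual.HD B X c) := by
    let y : kB ρ := (1 : k)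
    have hy : y ≠ 0 := (one_ne_zero : (1 : k) ≠ 0)
    refine subsingleton_of_forall_hom_eq_zero (B := B) (Dual.HD B X c) (kB ρ) y hy ?_ ?_
    · intro a ha
      have h0 : a • y = ρ a • (1 : k) := rfl
      rw [h0, hρ a ha, zero_smul]
      rfl
    · intro φ
      let φ₀ := ModuleCat.ofHom φ
      have hφ₀ : φ₀.hom = φ := rfl
      let φ' : (homologyFunctor (ModuleCat.{u} B) c).obj X ⟶ kB ρ := φ₀
      obtain ⟨f, hf⟩ := exists_hom_of_homologyMap (X := X) (Y := Z) c (φ' ≫ θ.inv)
      have h1 : φ' ≫ θ.inv = 0 := by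
        rw [← hf, hom_single_eq_zero ρ X c f, Functor.map_zero]
      have h2 : φ' = 0 := by
        rw [← cancel_mono θ.inv, h1, zero_comp]
      have h3 : φ'.hom = 0 := by rw [h2]; rfl
      exact hφ₀.symm.trans h3
  rw [isLE_iff]
  intro i hi
  by_cases h : i = c
  · subst h
    exact ModuleCat.isZero_of_subsingleton _
  · exact isZero_of_isLE X c i (by lia)

include hρ in
/-- derived Nakayama for bounded above complexes with finite cohomology over a local ring:
the amplitude of `K` is bounded above by that of `K ⊗^L k` -/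
theorem isLE_of_isLE_lbc (K : Dual.D B) (c₀ : ℤ) [K.IsLE c₀]
    (hfin : ∀ i : ℤ, Module.Finite B (Dual.HD B K i)) (c : ℤ)
    [((DRing.LBaseChange ρ).obj K).IsLE c] : K.IsLE c := by
  have key : ∀ n : ℕ, K.IsLE (c + n) → K.IsLE c := by
    intro n
    induction n with
    | zero =>
      intro h
      simpa using h
    | succ n ih =>
      intro h
      apply ih
      haveI := h
      haveI := hfin (c + ((n + 1 : ℕ) : ℤ))
      haveI : ((DRing.LBaseChange ρ).obj K).IsLE (c + ((n + 1 : ℕ) : ℤ) - 1) :=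
        TStructure.t.isLE_of_le _ c _ (by push_cast; lia)
      have h1 := isLE_pred ρ hρ K (c + ((n + 1 : ℕ) : ℤ))
      have e : c + ((n + 1 : ℕ) : ℤ) - 1 = c + (n : ℤ) := by push_cast; ring
      rw [e] at h1
      exact h1
  exact key (c₀ - c).toNat (TStructure.t.isLE_of_le K c₀ _ (by omega))

end D1

end Groth.Agent.Helper3.LocNak
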