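import Mathlib
import Groth.Prelude.Def_Wider
import Groth.Prelude.Def_DDual2
import Groth.Prelude.Def_DualSh
import Groth.Agent.Lib.Helper3.HomFin
import Groth.Agent.Lib.Helper3.HomUnit
import Groth.Agent.Lib.Helper3.FinAdj5
import Groth.Agent.Lib.Helper3.BCDual

/-!
# Finiteness of `Ext^i(M, X)` for `X` bounded below with finite cohomology, and consequences
for right adjoints of restriction of scalars
-/

set_option autoImplicit false
universe u
open CategoryTheory CategoryTheory.Limits DerivedCategory Pretriangulated Triangulated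

attribute [local instance] HasDerivedCategory.standard

namespace Groth.Agent.Helper3.FinCoh

open Groth.Agent.Helper3.HomFin Groth.Agent.Helper3.FinAdj Groth.Agent.Helper3.DualFun

variable {A : Type u} [CommRing A] [IsNoetherianRing A]

/-- a finite module over a Noetherian ring is pseudo-coherent -/
lemma pseudoCoherent_inD (M : Type u) [AddCommGroup M] [Module A M] [Module.Finite A M] :
    DRing.IsPseudoCoherent' A (Dual.inD A M) := by
  refine ((Groth.Agent.Helper5.PCCoh.s6943 A
    (fun I _ => Module.finitePresentation_of_finite A I) (Dual.inD A M)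
    ⟨0, fun j hj => ?_⟩ 0).2).2 (fun j => ?_)
  · exact ModuleCat.subsingleton_of_isZero (isZero_of_isLE (Dual.inD A M) 0 j hj)
  · haveI : Module.Finite A (Dual.HD A (Dual.inD A M) j) :=
      Groth.Agent.Helper3.BCDual.finite_homology_inD M j
    exact Module.finitePresentation_of_finite A _

/-- maps from a pseudo-coherent object to shifts of a bounded object with finite cohomology
form finite modules -/
theorem finite_hom_of_bounded (K₂ : Dual.D A) (hpc : DRing.IsPseudoCoherent' A K₂)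
    (L : Dual.D A) (a b : ℤ) [L.IsGE a] [L.IsLE b]
    (hL : ∀ i : ℤ, Module.Finite A (Dual.HD A L i)) (p : ℤ) :
    Module.Finite A (K₂ ⟶ L⟦p⟧) := by
  let 𝒬 : ObjectProperty (Dual.D A) := fun Y => ∀ p : ℤ, Module.Finite A (K₂ ⟶ Y⟦p⟧)
  haveI : 𝒬.IsClosedUnderIsomorphisms := ⟨fun {X Y} e h p => by
    haveI := h p
    refine Module.Finite.of_surjective (Linear.rightComp A K₂ (e.hom⟦p⟧'))
      (fun g => ⟨g ≫ e.inv⟦p⟧', ?_⟩)
    change (g ≫ e.inv⟦p⟧') ≫ e.hom⟦p⟧' = g
    rw [Category.assoc, ← CategoryTheory.Functor.map_comp, e.inv_hom_id,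
      CategoryTheory.Functor.map_id]
    exact Category.comp_id _⟩
  have hshift : ∀ (X : Dual.D A) (n : ℤ), 𝒬 X → 𝒬 (X⟦n⟧) := fun X n h p => by
    haveI := h (n + p)
    refine Module.Finite.of_surjective
      (Linear.rightComp A K₂ ((shiftFunctorAdd' (Dual.D A) n p (n + p) rfl).hom.app X))
      (fun g => ⟨g ≫ (shiftFunctorAdd' (Dual.D A) n p (n + p) rfl).inv.app X, ?_⟩)
    change (g ≫ _) ≫ _ = g
    rw [Category.assoc, Iso.inv_hom_id_app]
    exact Category.comp_id _
  have hext : ∀ T ∈ distTriang (Dual.D A), 𝒬 T.obj₁ → 𝒬 T.obj₃ → 𝒬 T.obj₂ :=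
    fun T hT h₁ h₃ p => finite_coyoneda_shift K₂ T hT p (h₁ p) (h₃ p)
  have hP : ∀ M : ModuleCat.{u} A, Pfin M →
      𝒬 ((singleFunctor (ModuleCat.{u} A) 0).obj M) := fun M hM p => by
    haveI : Module.Finite A M := hM
    exact ExtSys.finite_ext K₂ hpc M p
  have hQL : 𝒬 L := CohWayOut.prop_of_bounded 𝒬 hshift hext Pfin hP ((b - a).toNat + 1) L a b
    (by omega) hL
  exact hQL p

/-- `Ext^i(M, X)` is finite for `M` finite and `X` bounded below with finite cohomology -/
theorem finite_hom_of_isGE (M : Type u) [AddCommGroup M] [Module A M] [Module.Finite A M]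
    (X : Dual.D A) (a : ℤ) [X.IsGE a] (hX : ∀ i : ℤ, Module.Finite A (Dual.HD A X i)) (i : ℤ) :
    Module.Finite A (Dual.inD A M ⟶ X⟦i⟧) := by
  let t : TStructure (Dual.D A) := TStructure.t
  have hT := t.triangleLTGE_distinguished (i + 1) X
  have h0 : ∀ Z : ModuleCat.{u} A, IsZero Z → Pfin Z := fun Z hZ => by
    haveI := ModuleCat.subsingleton_of_isZero hZ
    exact (inferInstance : Module.Finite A Z)
  let Y := (t.truncLT (i + 1)).obj X
  have hYfin : ∀ j, Pfin ((homologyFunctor _ j).obj Y) :=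
    _root_.Helper5.DCat.prop_homology_truncLT Pfin X (i + 1) hX h0
  haveI hYle : Y.IsLE i := by
    have h : t.IsLE ((t.truncLT (i + 1)).obj X) (i + 1 - 1) := inferInstance
    rwa [show i + 1 - 1 = i by omega] at h
  haveI hYge : Y.IsGE a := inferInstanceAs (t.IsGE ((t.truncLT (i + 1)).obj X) a)
  haveI h1 : Module.Finite A (Dual.inD A M ⟶ Y⟦i⟧) :=
    finite_hom_of_bounded (Dual.inD A M) (pseudoCoherent_inD M) Y a i hYfin i
  refine Module.Finite.of_surjective
    (Linear.rightComp A (Dual.inD A M) (((t.truncLTι (i + 1)).app X)⟦i⟧')) ?_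
  intro g
  -- the composite to the truncation above vanishes
  have hz : g ≫ (((t.truncGEπ (i + 1)).app X)⟦i⟧') = 0 := by
    haveI hge : ((t.truncGE (i + 1)).obj X).IsGE (i + 1) :=
      inferInstanceAs (t.IsGE ((t.truncGE (i + 1)).obj X) (i + 1))
    haveI : (((t.truncGE (i + 1)).obj X)⟦i⟧).IsGE 1 :=
      t.isGE_shift ((t.truncGE (i + 1)).obj X) (i + 1) i 1 (by omega)
    exact t.zero_of_isLE_of_isGE _ 0 1 (by omega) (inferInstance) (inferInstance)
  obtain ⟨g', hg'⟩ := TriShift.shift_exact₂ _ hT i g hz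
  exact ⟨g', hg'.symm⟩


section Adj

variable {A' B : Type u} [CommRing A'] [CommRing B] [Algebra A' B] [IsNoetherianRing A']
  [IsNoetherianRing B] [Module.Finite A' B]
  {R : Dual.D A' ⥤ Dual.D B} (adj : DRing.restrictD (algebraMap A' B) ⊣ R)

include adj in
/-- cohomology of `R(K)` is finite for `K` bounded below with finite cohomology -/
theorem finite_homology_R (K : Dual.D A') (a : ℤ) [K.IsGE a]
    (hK : ∀ i : ℤ, Module.Finite A' (Dual.HD A' K i)) (i : ℤ) :
    Module.Finite B (Dual.HD B (R.obj K) i) := by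
  haveI : Module.Finite A' (Dual.inD A' B ⟶ K⟦i⟧) := finite_hom_of_isGE B K a hK i
  haveI : Module.Finite B (Dual.inD B B ⟶ (R.obj K)⟦i⟧) :=
    finite_of_semilinear (algebraMap A' B) (extT adj B K i) (extT_smul adj B K i)
  exact Module.Finite.equiv (Groth.Agent.Helper3.HomUnit.unitEquiv (R.obj K) i)

include adj in
/-- cohomology of `R(K)` vanishes below `a` if that of `K` does -/
theorem subsingleton_homology_R (K : Dual.D A') (a : ℤ) [K.IsGE a] (i : ℤ) (hi : i < a) :
    Subsingleton (Dual.HD B (R.obj K) i) := by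
  haveI : Subsingleton (Dual.inD A' B ⟶ K⟦i⟧) := by
    refine ⟨fun f g => ?_⟩
    let t : TStructure (Dual.D A') := TStructure.t
    haveI : (K⟦i⟧).IsGE (a - i) := t.isGE_shift K a i (a - i) (by omega)
    have hz : ∀ f : Dual.inD A' B ⟶ K⟦i⟧, f = 0 := fun f =>
      t.zero_of_isLE_of_isGE f 0 (a - i) (by omega) (inferInstance) (inferInstance)
    rw [hz f, hz g]
  haveI : Subsingleton (Dual.inD B B ⟶ (R.obj K)⟦i⟧) :=
    (extT adj B K i).toEquiv.subsingleton
  exact (Groth.Agent.Helper3.HomUnit.unitEquiv (R.obj K) i).symm.toEquiv.subsingleton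

end Adj

theorem main_S1774 (A B : Type u) [CommRing A] [CommRing B] [Algebra A B] [IsNoetherianRing A]
    [IsNoetherianRing B] [Module.Finite A B] (R : Dual.D A ⥤ Dual.D B)
    (adj : DRing.restrictD (algebraMap A B) ⊣ R) (K : Dual.D A) (a : ℤ)
    (hKa : ∀ i : ℤ, i < a → Subsingleton (Dual.HD A K i))
    (hK : ∀ i : ℤ, Module.Finite A (Dual.HD A K i)) (i : ℤ) :
    Module.Finite B (Dual.HD B (R.obj K) i) := by
  haveI : K.IsGE a := Groth.Agent.Helper3.RegGlDim.isGE_of_subsingleton K a hKa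
  exact finite_homology_R adj K a hK i

open Groth.Agent.Helper3.BCDer Groth.Agent.Helper3.BCDual in
theorem main_S1783 (R A : Type u) [CommRing R] [CommRing A] [IsNoetherianRing R]
    [IsNoetherianRing A] [Algebra R A] (n : ℕ) (ψ : MvPolynomial (Fin n) R →ₐ[R] A)
    (hψ : Function.Surjective ψ) [DRing.HasLBaseChange (algebraMap R (MvPolynomial (Fin n) R))]
    (Rψ : Dual.D (MvPolynomial (Fin n) R) ⥤ Dual.D A) (adj : DRing.restrictD ψ.toRingHom ⊣ Rψ)
    (K : Dual.D R) (a : ℤ) (hKa : ∀ i : ℤ, i < a → Subsingleton (Dual.HD R K i)) :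
    (∃ b : ℤ, ∀ i : ℤ, i < b → Subsingleton (Dual.HD A (Dual2.shriekVia n Rψ K) i)) ∧
      ((∀ i : ℤ, Module.Finite R (Dual.HD R K i)) →
        ∀ i : ℤ, Module.Finite A (Dual.HD A (Dual2.shriekVia n Rψ K) i)) := by
  haveI : K.IsGE a := Groth.Agent.Helper3.RegGlDim.isGE_of_subsingleton K a hKa
  letI : Algebra (MvPolynomial (Fin n) R) A := ψ.toRingHom.toAlgebra
  haveI : Module.Finite (MvPolynomial (Fin n) R) A :=
    Module.Finite.of_surjective (Algebra.linearMap (MvPolynomial (Fin n) R) A) hψ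
  let P := MvPolynomial (Fin n) R
  let X : Dual.D P := (DRing.LBaseChange (algebraMap R P)).obj K
  let e : X ≅ (G (A := R) P).obj K := (lbcIsoG (A := R) P).app K
  haveI hXge : X.IsGE a := by
    haveI := isGE_G P K a
    exact (TStructure.t).isGE_of_iso e.symm a
  have hsh : ∀ i : ℤ, Dual.HD A (Rψ.obj X) ((n : ℤ) + i) ≃ₗ[A]
      Dual.HD A (Dual2.shriekVia n Rψ K) i := fun i =>
    (((DerivedCategory.homologyFunctor (ModuleCat.{u} A) 0).shiftIso (n : ℤ) i ((n : ℤ) + i)
      rfl).app (Rψ.obj X)).symm.toLinearEquiv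
  refine ⟨⟨a - n, fun i hi => ?_⟩, fun hfin i => ?_⟩
  · haveI := subsingleton_homology_R (A' := P) (B := A) adj X a ((n : ℤ) + i) (by omega)
    exact (hsh i).symm.toEquiv.subsingleton
  · have hXfin : ∀ j : ℤ, Module.Finite P (Dual.HD P X j) := fun j => by
      haveI := hfin j
      haveI := finite_homology_G P K j
      exact Module.Finite.equiv
        ((DerivedCategory.homologyFunctor (ModuleCat.{u} P) j).mapIso e.symm).toLinearEquiv
    haveI := finite_homology_R (A' := P) (B := A) adj X a hXfin ((n : ℤ) + i)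
    exact Module.Finite.equiv (hsh i)

end Groth.Agent.Helper3.FinCoh
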