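import Mathlib
import Groth.Agent.Lib.Helper5.Shriek.HypMain
import Groth.Agent.Lib.Helper4.RegSpread1

/-!
# Duality for a quotient by a regular sequence (helper3)

For a surjection `π : C → D` whose kernel is generated by a weakly regular sequence of length `k`,
every right adjoint of restriction of scalars along `π` is derived base change shifted by `-k`
(`Helper5.Shriek.Good π k`).
-/

set_option autoImplicit false
universe u
open CategoryTheory CategoryTheory.Limits RingTheory.Sequence

attribute [local instance] HasDerivedCategory.standard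

namespace Groth.Agent.Helper3.ShrLci

open Helper5.Shriek

/-- passing to the quotient by the first element of a weakly regular sequence -/
lemma isWeaklyRegular_quot {C : Type u} [CommRing C] (r : C) (rs : List C)
    (h : IsWeaklyRegular C (r :: rs)) :
    IsWeaklyRegular (C ⧸ Ideal.span {r}) (rs.map (Ideal.Quotient.mk (Ideal.span {r}))) := by
  rw [Groth.Agent.Lib.Helper4.RegSpread1.isWeaklyRegular_iff_elementwise] at h ⊢
  intro i hi x hx
  rw [List.length_map] at hi
  obtain ⟨x, rfl⟩ := Ideal.Quotient.mk_surjective x
  have h1 := h (i + 1) (by simpa using hi) x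
  rw [List.getElem_cons_succ, List.take_succ_cons, Ideal.ofList_cons] at h1
  rw [List.getElem_map, ← List.map_take, ← Ideal.map_ofList, ← map_mul,
    Ideal.mem_quotient_iff_mem_sup] at hx
  rw [← List.map_take, ← Ideal.map_ofList, Ideal.mem_quotient_iff_mem_sup]
  rw [sup_comm] at hx ⊢
  exact h1 hx

theorem good_of_weaklyRegular : ∀ (k : ℕ) (C D : Type u) [CommRing C] [CommRing D]
    (π : C →+* D) (_ : Function.Surjective π) (rs : List C) (_ : rs.length = k)
    (_ : RingHom.ker π = Ideal.ofList rs) (_ : IsWeaklyRegular C rs), Good π (k : ℤ) := by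
  intro k
  induction k with
  | zero =>
    intro C D _ _ π hπ rs hlen hker hreg
    have hrs : rs = [] := List.eq_nil_of_length_eq_zero hlen
    subst hrs
    rw [Ideal.ofList_nil] at hker
    have hinj : Function.Injective π := (RingHom.injective_iff_ker_eq_bot π).2 hker
    let e : C ≃+* D := RingEquiv.ofBijective π ⟨hinj, hπ⟩
    exact (good_of_ringEquiv e).congr (RingHom.ext fun x => rfl) (by simp)
  | succ k ih =>
    intro C D _ _ π hπ rs hlen hker hreg
    obtain ⟨r, rs', rfl⟩ : ∃ r rs', rs = r :: rs' := by
      cases rs with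
      | nil => simp at hlen
      | cons r rs' => exact ⟨r, rs', rfl⟩
    have hlen' : rs'.length = k := by simpa using hlen
    have hle : Ideal.span {r} ≤ RingHom.ker π := by
      rw [hker, Ideal.ofList_cons]
      exact le_sup_left
    let π₁ : C →+* C ⧸ Ideal.span {r} := Ideal.Quotient.mk (Ideal.span {r})
    let π₂ : C ⧸ Ideal.span {r} →+* D := Ideal.Quotient.lift (Ideal.span {r}) π hle
    have hcomp : π₂.comp π₁ = π := RingHom.ext fun x => rfl
    have hπ₂ : Function.Surjective π₂ := Ideal.Quotient.lift_surjective_of_surjective _ hle hπ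
    have hker₂ : RingHom.ker π₂ = Ideal.ofList (rs'.map π₁) := by
      rw [Ideal.ker_quotient_lift, hker, Ideal.ofList_cons, Ideal.map_sup,
        Ideal.map_mk_eq_bot_of_le le_rfl, bot_sup_eq, Ideal.map_ofList]
    have hreg₂ := isWeaklyRegular_quot r rs' hreg
    have h2 : Good π₂ (k : ℤ) := ih _ D π₂ hπ₂ (rs'.map π₁) (by simpa using hlen') hker₂ hreg₂
    have hr : IsSMulRegular C r := ((isWeaklyRegular_cons_iff C r rs').1 hreg).1
    have h1 : Good π₁ 1 := good_of_ker_span π₁ Ideal.Quotient.mk_surjective r Ideal.mk_ker
      (fun x hx => hr (by simpa using hx))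
    exact (h1.comp h2).congr hcomp (by push_cast; ring)

end Groth.Agent.Helper3.ShrLci
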