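import Mathlib
import Groth.Prelude.Def_LCI2
import Groth.Agent.Lib.Helper3.KosBC3
import Groth.Agent.Lib.Helper4.RegSpread1

/-!
# A Koszul-regular ideal of a Noetherian ring is locally generated by a regular sequence (helper3)
-/

set_option autoImplicit false
universe u
open CategoryTheory CategoryTheory.Limits CochainComplex RingTheory.Sequence CohIII

namespace Groth.Agent.Helper3.ShrLci

open Groth.Agent.Helper3.KosBC Groth.Agent.Helper8.KoszulLib IsLocalRing

lemma ofList_reverse {S : Type u} [CommRing S] (l : List S) :
    Ideal.ofList l.reverse = Ideal.ofList l := by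
  unfold Ideal.ofList
  congr 1
  ext y
  simp

/-- over a Noetherian local ring a Koszul-regular sequence in the maximal ideal is (after
reversal) a regular sequence -/
theorem isRegular_reverse_of_koszulRegular {S : Type u} [CommRing S] [IsNoetherianRing S]
    [IsLocalRing S] (l : List S) (hl : ∀ x ∈ l, x ∈ maximalIdeal S)
    (h : ∀ i : ℤ, i ≠ 0 → IsZero ((koszulCx (ModuleCat.of S S) l).homology i)) :
    IsRegular S l.reverse := by
  induction l with
  | nil => exact IsRegular.nil S S
  | cons x xs ih =>
    have hx := hl x List.mem_cons_self
    obtain ⟨h1, h2⟩ := koszulRegular_cons x xs hx h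
    have ih' := ih (fun y hy => hl y (List.mem_cons_of_mem x hy)) h1
    rw [List.reverse_cons]
    refine ⟨(isWeaklyRegular_append_iff S xs.reverse [x]).2 ⟨ih'.1, ?_⟩, ?_⟩
    · rw [isWeaklyRegular_cons_iff]
      refine ⟨?_, IsWeaklyRegular.nil _ _⟩
      have he : (Ideal.ofList xs : Submodule S S) =
          (Ideal.ofList xs.reverse • ⊤ : Submodule S S) := by
        rw [ofList_reverse, smul_eq_mul, Ideal.mul_top]
      exact ((Submodule.quotEquivOfEq _ _ he).isSMulRegular_congr x).1 h2
    · intro htop
      have h3 : Ideal.ofList (xs.reverse ++ [x]) ≤ maximalIdeal S := by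
        unfold Ideal.ofList
        rw [Ideal.span_le]
        intro y hy
        apply hl y
        simp only [Set.mem_setOf_eq, List.mem_append, List.mem_reverse, List.mem_singleton] at hy
        rcases hy with hy | hy
        · exact List.mem_cons_of_mem x hy
        · rw [hy]; exact List.mem_cons_self
      rw [smul_eq_mul, Ideal.mul_top] at htop
      exact (Ideal.IsMaximal.ne_top (inferInstance : (maximalIdeal S).IsMaximal))
        (top_le_iff.1 (htop.le.trans h3))

/-- a Koszul-regular ideal of a Noetherian ring is generated by a regular sequence on a basic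
open neighbourhood of any prime containing it -/
theorem exists_away_regular_of_koszulRegularIdeal {P : Type u} [CommRing P] [IsNoetherianRing P]
    (I : Ideal P) (hI : LCI.IsKoszulRegularIdeal I) (q : Ideal P) [q.IsPrime] (hIq : I ≤ q) :
    ∃ (r : P) (as : List P), r ∉ q ∧
      ∀ (B : Type u) [CommRing B] [Algebra P B] [IsLocalization.Away r B],
        IsRegular B (as.map (algebraMap P B)) ∧
          I.map (algebraMap P B) = Ideal.ofList (as.map (algebraMap P B)) := by
  obtain ⟨g, hg, l, hl, hspan⟩ := hI ⟨q, inferInstance⟩ hIq
  set S := Localization.AtPrime q with hS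
  have hu : IsUnit (algebraMap P S g) :=
    IsLocalization.map_units S (⟨g, hg⟩ : q.primeCompl)
  letI : Algebra (Localization.Away g) S :=
    (IsLocalization.Away.lift (S := Localization.Away g) g hu).toAlgebra
  haveI : IsScalarTower P (Localization.Away g) S :=
    IsScalarTower.of_algebraMap_eq (fun x => (IsLocalization.Away.lift_eq g hu x).symm)
  have hle : Submonoid.powers g ≤ q.primeCompl := by
    rw [Submonoid.powers_le]
    exact hg
  haveI : IsLocalization (q.primeCompl.map (algebraMap P (Localization.Away g))) S :=
    IsLocalization.isLocalization_of_submonoid_le (Localization.Away g) S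
      (Submonoid.powers g) q.primeCompl hle
  haveI : Module.Flat (Localization.Away g) S :=
    IsLocalization.flat S (q.primeCompl.map (algebraMap P (Localization.Away g)))
  have hl' := isKoszulRegularSeq_map_of_flat (Localization.Away g) S l hl
  have hof : Ideal.ofList (l.map (algebraMap (Localization.Away g) S)) =
      I.map (algebraMap P S) := by
    rw [ofList_map, IsScalarTower.algebraMap_eq P (Localization.Away g) S, ← Ideal.map_map,
      hspan]
  have hmem : ∀ x ∈ l.map (algebraMap (Localization.Away g) S), x ∈ maximalIdeal S := by
    intro x hx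
    have h1 : x ∈ Ideal.ofList (l.map (algebraMap (Localization.Away g) S)) :=
      Ideal.subset_span hx
    rw [hof] at h1
    have h2 : I.map (algebraMap P S) ≤ maximalIdeal S := by
      rw [← Localization.AtPrime.map_eq_maximalIdeal]
      exact Ideal.map_mono hIq
    exact h2 h1
  rw [isKoszulRegularSeq_iff] at hl'
  have hreg := isRegular_reverse_of_koszulRegular _ hmem hl'
  have hI' : I.map (algebraMap P S) =
      Ideal.ofList (l.map (algebraMap (Localization.Away g) S)).reverse := by
    rw [ofList_reverse, hof]
  obtain ⟨r, as, hr, -, hB⟩ :=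
    Groth.Agent.Lib.Helper4.RegSpread1.exists_away_regular I q S _ hreg hI'
  exact ⟨r, as, hr, hB⟩

end Groth.Agent.Helper3.ShrLci
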