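import Mathlib
import Groth.Prelude.Def_DualSh
import Groth.Prelude.Def_LCI2
import Groth.Agent.Lib.Helper3.ShrLci1
import Groth.Agent.Lib.Helper3.ShrLci2
import Groth.Agent.Lib.Helper4.KosQuot3
import Groth.Agent.Lib.Helper5.Shriek.Comp
import Groth.Agent.Lib.Helper5.Shriek.RAdj
import Groth.Agent.Lib.Helper5.Gen.LTModel

/-!
# The relative dualizing complex of a local complete intersection is invertible (helper3, S1828)
-/

set_option autoImplicit false
universe u
open CategoryTheory CategoryTheory.Limits RingTheory.Sequence MonoidalCategory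

attribute [local instance] HasDerivedCategory.standard

namespace Groth.Agent.Helper3.ShrLci

open Helper5.Shriek DerivedCategory Groth.Agent.Lib.Helper5.DTenLib

/-- the ring in degree zero is the image of the tensor unit complex -/
noncomputable def unitInD (A : Type u) [CommRing A] :
    Q.obj (𝟙_ (DRing.Cx A)) ≅ Dual.inD A A :=
  ((singleFunctorIsoCompQ (ModuleCat.{u} A) 0).app (ModuleCat.of A A)).symm

/-- derived base change of the ring is the ring -/
noncomputable def lbcRing {A B : Type u} [CommRing A] [CommRing B] (φ : A →+* B)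
    [DRing.HasLBaseChange φ] : (DRing.LBaseChange φ).obj (Dual.inD A A) ≅ Dual.inD B B :=
  Helper5.Gen.lbcUnitIso φ ≪≫ unitInD B

theorem main (R A : Type u) [CommRing R] [CommRing A] [IsNoetherianRing R] [IsNoetherianRing A]
    [Algebra R A] (hl : LCI.IsLCI R A) (n : ℕ) (ψ : MvPolynomial (Fin n) R →ₐ[R] A)
    (hψ : Function.Surjective ψ) [DRing.HasLBaseChange (algebraMap R (MvPolynomial (Fin n) R))]
    (Rψ : Dual.D (MvPolynomial (Fin n) R) ⥤ Dual.D A) (adj : DRing.restrictD ψ.toRingHom ⊣ Rψ)
    [hL : ∀ f : A, DRing.HasLBaseChange (algebraMap A (Localization.Away f))]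
    (q : PrimeSpectrum A) :
    ∃ (f : A) (_ : f ∉ q.asIdeal) (m : ℤ),
      Nonempty ((DRing.LBaseChange (algebraMap A (Localization.Away f))).obj
        (Dual2.shriekVia n Rψ (Dual.inD R R)) ≅
          (Dual.inD (Localization.Away f) (Localization.Away f))⟦m⟧) := by
  obtain ⟨-, k, β, hβ, hKβ⟩ := hl
  have hK : LCI.IsKoszulRegularIdeal (RingHom.ker ψ.toRingHom) :=
    Groth.Agent.Lib.Helper4.KosQuot3.S9269_main R A k n β hβ ψ hψ hKβ
  let 𝔮 : Ideal (MvPolynomial (Fin n) R) := q.asIdeal.comap ψ.toRingHom
  haveI : 𝔮.IsPrime := Ideal.comap_isPrime _ _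
  have hle : RingHom.ker ψ.toRingHom ≤ 𝔮 := fun x hx => by
    show ψ.toRingHom x ∈ q.asIdeal
    rw [(RingHom.mem_ker).1 hx]
    exact zero_mem _
  obtain ⟨r, as, hr, hB⟩ := exists_away_regular_of_koszulRegularIdeal _ hK 𝔮 hle
  refine ⟨ψ r, hr, (-(as.length : ℤ)) + n, ?_⟩
  -- notation and instances
  letI : Algebra (MvPolynomial (Fin n) R) A := ψ.toRingHom.toAlgebra
  let φ' : Localization.Away r →+* Localization.Away (ψ r) :=
    IsLocalization.Away.map (Localization.Away r) (Localization.Away (ψ r)) ψ.toRingHom r
  letI : Algebra (Localization.Away r) (Localization.Away (ψ r)) := φ'.toAlgebra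
  haveI : IsScalarTower (MvPolynomial (Fin n) R) (Localization.Away r)
      (Localization.Away (ψ r)) := IsScalarTower.of_algebraMap_eq (fun x => by
    rw [IsScalarTower.algebraMap_apply (MvPolynomial (Fin n) R) A (Localization.Away (ψ r))]
    change _ = φ' (algebraMap _ _ x)
    simp only [φ', IsLocalization.Away.map, IsLocalization.map_eq]
    rfl)
  have hsub : Algebra.algebraMapSubmonoid A (Submonoid.powers r) = Submonoid.powers (ψ r) := by
    rw [Algebra.algebraMapSubmonoid, Submonoid.map_powers]
    rfl
  haveI : IsLocalization (Algebra.algebraMapSubmonoid A (Submonoid.powers r))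
      (Localization.Away (ψ r)) := by
    rw [hsub]
    infer_instance
  haveI : Algebra.IsPushout (MvPolynomial (Fin n) R) (Localization.Away r) A
      (Localization.Away (ψ r)) :=
    (Algebra.isPushout_of_isLocalization (Submonoid.powers r) (Localization.Away r) A
      (Localization.Away (ψ r))).symm
  haveI : Module.Flat (MvPolynomial (Fin n) R) (Localization.Away r) :=
    IsLocalization.flat _ (Submonoid.powers r)
  haveI : Module.Flat A (Localization.Away (ψ r)) := IsLocalization.flat _ (Submonoid.powers (ψ r))
  have hψA : Function.Surjective (algebraMap (MvPolynomial (Fin n) R) A) := hψ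
  haveI : IsLocalization ((Submonoid.powers r).map ψ.toRingHom) (Localization.Away (ψ r)) := by
    rw [Submonoid.map_powers]
    infer_instance
  have hψ' : Function.Surjective (algebraMap (Localization.Away r) (Localization.Away (ψ r))) :=
    IsLocalization.map_surjective_of_surjective (Submonoid.powers r) (Localization.Away r)
      (Localization.Away (ψ r)) hψ
  -- kernel of the localized presentation
  have hker : RingHom.ker (algebraMap (Localization.Away r) (Localization.Away (ψ r))) =
      Ideal.ofList (as.map (algebraMap (MvPolynomial (Fin n) R) (Localization.Away r))) := by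
    rw [← (hB (Localization.Away r)).2]
    exact IsLocalization.ker_map (Localization.Away (ψ r)) ψ.toRingHom
      (Submonoid.map_powers ψ.toRingHom r)
  have hgood : Good (algebraMap (Localization.Away r) (Localization.Away (ψ r)))
      (as.length : ℤ) :=
    good_of_weaklyRegular as.length (Localization.Away r) (Localization.Away (ψ r)) _ hψ'
      (as.map (algebraMap (MvPolynomial (Fin n) R) (Localization.Away r))) (by simp) hker
      (hB (Localization.Away r)).1.1
  -- the right adjoint over the localization
  let R' := RCoext (algebraMap (Localization.Away r) (Localization.Away (ψ r)))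
  let adj' := rAdj (algebraMap (Localization.Away r) (Localization.Away (ψ r)))
  -- the object `N = P[0]`
  let N : Dual.D (MvPolynomial (Fin n) R) := Dual.inD (MvPolynomial (Fin n) R) (MvPolynomial (Fin n) R)
  let eN : (DRing.LBaseChange (algebraMap R (MvPolynomial (Fin n) R))).obj (Dual.inD R R) ≅ N :=
    lbcRing _
  haveI : N.IsGE 0 := by
    dsimp only [N, Dual.inD]
    infer_instance
  obtain ⟨e1⟩ := lbc_R_iso (adj := adj) (adj' := adj') hψA hψ' N 0
  obtain ⟨e2⟩ := hgood R' adj'
    ((DRing.LBaseChange (algebraMap (MvPolynomial (Fin n) R) (Localization.Away r))).obj N)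
  let e3 : (DRing.LBaseChange (algebraMap (Localization.Away r) (Localization.Away (ψ r)))).obj
      ((DRing.LBaseChange (algebraMap (MvPolynomial (Fin n) R) (Localization.Away r))).obj N) ≅
      Dual.inD (Localization.Away (ψ r)) (Localization.Away (ψ r)) :=
    (DRing.LBaseChange _).mapIso (lbcRing _) ≪≫ lbcRing _
  -- assemble
  let X := Rψ.obj ((DRing.LBaseChange (algebraMap R (MvPolynomial (Fin n) R))).obj (Dual.inD R R))
  let e0 : (DRing.LBaseChange (algebraMap A (Localization.Away (ψ r)))).obj (X⟦(n : ℤ)⟧) ≅
      ((DRing.LBaseChange (algebraMap A (Localization.Away (ψ r)))).obj X)⟦(n : ℤ)⟧ :=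
    lbcShiftIso (Localization.Away (ψ r)) X n
  let e4 : (DRing.LBaseChange (algebraMap A (Localization.Away (ψ r)))).obj X ≅
      (Dual.inD (Localization.Away (ψ r)) (Localization.Away (ψ r)))⟦-(as.length : ℤ)⟧ :=
    (DRing.LBaseChange _).mapIso (Rψ.mapIso eN) ≪≫ e1 ≪≫ e2 ≪≫
      (shiftFunctor _ (-(as.length : ℤ))).mapIso e3
  exact ⟨e0 ≪≫ (shiftFunctor _ (n : ℤ)).mapIso e4 ≪≫
    (shiftFunctorAdd' (Dual.D (Localization.Away (ψ r))) (-(as.length : ℤ)) (n : ℤ)
      (-(as.length : ℤ) + n) rfl).symm.app _⟩

end Groth.Agent.Helper3.ShrLci
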