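import Mathlib
import Groth.Prelude.Def_Wider
import Groth.Prelude.Def_DDual2
import Groth.Agent.Lib.Helper3.LocNak1
import Groth.Agent.Lib.Helper3.ShrLci3
import Groth.Agent.Lib.Helper3.RegDual
import Groth.Agent.Lib.Helper3.BCDual
import Groth.Agent.Lib.Helper5.DRing.PCNoeth
import Groth.Agent.Lib.Helper5.TBC.ShriekBC

/-!
# A local derived Nakayama lemma, part 2 (helper3)

`B` is a Noetherian local ring, `ρ : B → k` a ring map to a field killing the maximal ideal,
`K` a bounded above object of `D(B)` with finite cohomology modules.  If `K ⊗^L_B k ≅ k[m]` then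
`K ≅ B[m]`.
-/

set_option autoImplicit false
universe u
open CategoryTheory CategoryTheory.Limits DerivedCategory Pretriangulated Triangulated

attribute [local instance] HasDerivedCategory.standard

namespace Groth.Agent.Helper3.LocNak

open Groth.Agent.Lib.Helper5.DTenLib

variable {B : Type u} [CommRing B] [IsLocalRing B] [IsNoetherianRing B] {k : Type u} [Field k]
  (ρ : B →+* k) (hρ : ∀ a ∈ IsLocalRing.maximalIdeal B, ρ a = 0)

include hρ in
/-- a morphism of bounded above complexes with finite cohomology over a local ring is an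
isomorphism if its derived base change to the residue field is -/
theorem isIso_of_isIso_lbc {X Y : Dual.D B} (g : X ⟶ Y) (c : ℤ) [X.IsLE c] [Y.IsLE c]
    (hX : ∀ i : ℤ, Module.Finite B (Dual.HD B X i))
    (hY : ∀ i : ℤ, Module.Finite B (Dual.HD B Y i))
    [IsIso ((DRing.LBaseChange ρ).map g)] : IsIso g := by
  letI : (DRing.LBaseChange ρ).CommShift ℤ := (myAdj ρ).leftAdjointCommShift ℤ
  haveI : (myAdj ρ).CommShift ℤ := (myAdj ρ).commShift_of_rightAdjoint ℤ
  haveI : (DRing.LBaseChange ρ).IsTriangulated := (myAdj ρ).isTriangulated_leftAdjoint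
  obtain ⟨C, g₂, g₃, hT⟩ := distinguished_cocone_triangle g
  have hLC : IsZero ((DRing.LBaseChange ρ).obj C) := by
    have hT' := (DRing.LBaseChange ρ).map_distinguished _ hT
    exact (Triangle.isZero₃_iff_isIso₁ _ hT').2
      (show IsIso ((DRing.LBaseChange ρ).map g) from inferInstance)
  have hCfin : ∀ i : ℤ, Module.Finite B (Dual.HD B C i) := by
    intro i
    have h1 := hY i
    have h2 := hX (i + 1)
    exact @Groth.Agent.Helper5.PCDev.finite_of_exact B _ _ _
      (HomologySequence.exact₃ _ hT i (i + 1) rfl) h1 h2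
  haveI hCle : C.IsLE c := by
    rw [isLE_iff]
    intro i hi
    refine (HomologySequence.exact₃ _ hT i (i + 1) rfl).isZero_of_both_zeros ?_ ?_
    · exact (isZero_of_isLE Y c i hi).eq_of_src _ _
    · exact (isZero_of_isLE X c (i + 1) (by lia)).eq_of_tgt _ _
  have hCz : ∀ i : ℤ, IsZero ((homologyFunctor (ModuleCat.{u} B) i).obj C) := by
    intro i
    haveI : ((DRing.LBaseChange ρ).obj C).IsLE (i - 1) := TStructure.t.isLE_of_isZero hLC _
    haveI := isLE_of_isLE_lbc ρ hρ C c hCfin (i - 1)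
    exact isZero_of_isLE C (i - 1) i (by lia)
  have hC : IsZero C := by
    haveI : C.IsLE (-1) := (isLE_iff C (-1)).2 (fun i _ => hCz i)
    haveI : C.IsGE 0 := (isGE_iff C 0).2 (fun i _ => hCz i)
    exact TStructure.t.isZero C (-1) 0 (by lia)
  exact (Triangle.isZero₃_iff_isIso₁ _ hT).1 hC

include hρ in
/-- the case `m = 0` -/
theorem nonempty_iso_unit (K : Dual.D B) (c₀ : ℤ) [K.IsLE c₀]
    (hfin : ∀ i : ℤ, Module.Finite B (Dual.HD B K i))
    (e : (DRing.LBaseChange ρ).obj K ≅ Dual.inD k k) : Nonempty (K ≅ Dual.inD B B) := by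
  let H0 := homologyFunctor (ModuleCat.{u} B) 0
  haveI : ((DRing.LBaseChange ρ).obj K).IsLE 0 := TStructure.t.isLE_of_iso e.symm 0
  haveI hK0 : K.IsLE 0 := isLE_of_isLE_lbc ρ hρ K c₀ hfin 0
  let adj := myAdj ρ
  let Uk : Dual.D k := Dual.inD k k
  let Z : Dual.D B := (DRing.restrictD ρ).obj Uk
  haveI : Z.IsGE 0 := TStructure.t.isGE_of_iso (resSingleIso ρ 0).symm 0
  let v : K ⟶ Z := adj.homEquiv K Uk e.hom
  have hUk : ¬ IsZero Uk := by
    intro hz
    have h1 : IsZero ((homologyFunctor (ModuleCat.{u} k) 0).obj Uk) := Functor.map_isZero _ hz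
    have h2 : IsZero (ModuleCat.of k k) :=
      h1.of_iso ((singleFunctorCompHomologyFunctorIso (ModuleCat.{u} k) 0).app
        (ModuleCat.of k k)).symm
    haveI := ModuleCat.subsingleton_of_isZero h2
    exact one_ne_zero (Subsingleton.elim (1 : k) 0)
  have hadj0 : ∀ (X : Dual.D B) (Y : Dual.D k), adj.homEquiv X Y 0 = 0 := by
    intro X Y
    rw [Adjunction.homEquiv_unit, Functor.map_zero, comp_zero]
  have hv : v ≠ 0 := by
    intro hv0
    have h1 : e.hom = 0 := (adj.homEquiv K Uk).injective (hv0.trans (hadj0 K Uk).symm)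
    apply hUk
    rw [IsZero.iff_id_eq_zero, ← e.inv_hom_id, h1, comp_zero]
  have hHv : H0.map v ≠ 0 :=
    fun h => hv (Helper5.TwoTerm.eq_zero_of_homologyMap_eq_zero 0 v h)
  obtain ⟨x, hx⟩ : ∃ x : Dual.HD B K 0, (H0.map v).hom x ≠ 0 := by
    by_contra hcon
    push Not at hcon
    apply hHv
    apply ModuleCat.hom_ext
    apply LinearMap.ext
    intro x
    simpa using hcon x
  let θB : H0.obj (Dual.inD B B) ≅ ModuleCat.of B B :=
    (singleFunctorCompHomologyFunctorIso (ModuleCat.{u} B) 0).app (ModuleCat.of B B)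
  let sx := ModuleCat.ofHom (LinearMap.toSpanSingleton B (Dual.HD B K 0) x)
  let sx' : ModuleCat.of B B ⟶ H0.obj K := sx
  obtain ⟨g, hg⟩ := exists_hom_from_unit K (θB.hom ≫ sx')
  have hgv : g ≫ v ≠ 0 := by
    intro h0
    have h1 : (θB.hom ≫ sx') ≫ H0.map v = 0 := by
      rw [← hg, ← Functor.map_comp, h0, Functor.map_zero]
    have h2 : sx' ≫ H0.map v = 0 := by
      rw [← cancel_epi θB.hom, ← Category.assoc, h1, comp_zero]
    have h3 := congrArg (fun f => f.hom (1 : B)) h2
    apply hx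
    have h4 : (sx' ≫ H0.map v).hom (1 : B) = (H0.map v).hom x := by
      change (H0.map v).hom (LinearMap.toSpanSingleton B (Dual.HD B K 0) x 1) = _
      rw [LinearMap.toSpanSingleton_apply, one_smul]
    rw [← h4]
    exact h3
  let w : (DRing.LBaseChange ρ).obj (Dual.inD B B) ⟶ Uk := (DRing.LBaseChange ρ).map g ≫ e.hom
  have hw : w ≠ 0 := by
    intro h0
    apply hgv
    have h1 := adj.homEquiv_naturality_left g e.hom
    rw [← h1]
    exact (congrArg (adj.homEquiv _ _) h0).trans (hadj0 _ _)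
  let ι := Groth.Agent.Helper3.ShrLci.lbcRing ρ
  let u : Uk ⟶ Uk := ι.inv ≫ w
  have hu : u ≠ 0 := by
    intro h0
    apply hw
    rw [← cancel_epi ι.inv]
    exact h0.trans comp_zero.symm
  have hk : Dual.IsDualizing k (Dual.inD k k) :=
    Groth.Agent.Helper3.RegDual.main_S11185 k (fun p => inferInstance) (by
      rw [ringKrullDim_eq_zero_of_field]
      exact WithBot.coe_lt_coe.2 (by simp))
  obtain ⟨a, ha⟩ := hk.toEnd_bijective.2 u
  have ha' : a • 𝟙 Uk = u := ha
  have ha0 : a ≠ 0 := by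
    rintro rfl
    apply hu
    rw [← ha', zero_smul]
  haveI : IsIso u := by
    rw [← ha']
    refine ⟨⟨a⁻¹ • 𝟙 Uk, ?_, ?_⟩⟩
    · rw [Linear.smul_comp, Category.id_comp, smul_smul, mul_inv_cancel₀ ha0, one_smul]
    · rw [Linear.smul_comp, Category.id_comp, smul_smul, inv_mul_cancel₀ ha0, one_smul]
  haveI : IsIso ((DRing.LBaseChange ρ).map g) := by
    have h : (DRing.LBaseChange ρ).map g = ι.hom ≫ u ≫ e.inv := by
      simp only [u, w, Category.assoc, Iso.hom_inv_id_assoc, Iso.hom_inv_id, Category.comp_id]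
    rw [h]
    infer_instance
  haveI : (Dual.inD B B).IsLE 0 := inferInstance
  haveI := isIso_of_isIso_lbc ρ hρ g 0 (Groth.Agent.Helper3.BCDual.finite_homology_inD B) hfin
  exact ⟨(asIso g).symm⟩

include hρ in
/-- **local derived Nakayama for invertibility**: if `K ⊗^L_B k ≅ k[m]` then `K ≅ B[m]` -/
theorem nonempty_iso_shift_unit (K : Dual.D B) (c₀ : ℤ) [K.IsLE c₀]
    (hfin : ∀ i : ℤ, Module.Finite B (Dual.HD B K i)) (m : ℤ)
    (e : (DRing.LBaseChange ρ).obj K ≅ (Dual.inD k k)⟦m⟧) :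
    Nonempty (K ≅ (Dual.inD B B)⟦m⟧) := by
  let K' : Dual.D B := K⟦-m⟧
  haveI : K'.IsLE (c₀ + m) := TStructure.t.isLE_shift K c₀ (-m) (c₀ + m) (by lia)
  have hfin' : ∀ i : ℤ, Module.Finite B (Dual.HD B K' i) := by
    intro i
    haveI := hfin (-m + i)
    have e1 : Dual.HD B K (-m + i) ≃ₗ[B] Dual.HD B K' i :=
      (((DerivedCategory.homologyFunctor (ModuleCat.{u} B) 0).shiftIso (-m) i (-m + i) rfl).app
        K).symm.toLinearEquiv
    exact Module.Finite.equiv e1
  let e' : (DRing.LBaseChange ρ).obj K' ≅ Dual.inD k k :=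
    Helper5.Shriek.lbcShiftIso' ρ K (-m) ≪≫ (shiftFunctor (Dual.D k) (-m)).mapIso e ≪≫
      shiftShiftNeg (Dual.inD k k) m
  obtain ⟨ε⟩ := nonempty_iso_unit ρ hρ K' (c₀ + m) hfin' e'
  exact ⟨(shiftNegShift K m).symm ≪≫ (shiftFunctor (Dual.D B) m).mapIso ε⟩

end Groth.Agent.Helper3.LocNak
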