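import Mathlib
import Groth.Prelude.Def_DualSh
import Groth.Agent.Lib.Helper3.FinAdj
import Groth.Agent.Lib.Helper5.Shriek.RAdj
import Groth.Agent.Lib.Helper5.RHomK.PerfDual
import Groth.Agent.Lib.Helper5.RHomE.HomGamma
import Groth.Agent.Lib.Helper5.DRing.PerfRes2

/-!
# `res_ψ (Rψ N) ≅ RHom_P(A, N)` in `D(P)` for a right adjoint `Rψ` of restriction of scalars
-/

set_option autoImplicit false
universe u
open CategoryTheory CategoryTheory.Limits CochainComplex CochainComplex.HomComplex DerivedCategory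

attribute [local instance] HasDerivedCategory.standard

namespace Groth.Agent.Helper3.RelDual

variable {P A : Type u} [CommRing P] [CommRing A] (ψ : P →+* A)

/-- `A` as a `P`-module -/
noncomputable abbrev AP : ModuleCat.{u} P :=
  (ModuleCat.restrictScalars.{u} ψ).obj (ModuleCat.of A A)

/-- `A` as a complex of `P`-modules in degree zero -/
noncomputable abbrev SA : DRing.Cx P :=
  (CochainComplex.singleFunctor (ModuleCat.{u} P) 0).obj (AP ψ)

/-- coextension of scalars on complexes -/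
noncomputable abbrev coC : DRing.Cx P ⥤ DRing.Cx A :=
  (ModuleCat.coextendScalars.{u, u, u} ψ).mapHomologicalComplex (ComplexShape.up ℤ)

/-- the restricted coextension of a module -/
noncomputable abbrev RC (Y : ModuleCat.{u} P) : ModuleCat.{u} P :=
  (ModuleCat.restrictScalars.{u} ψ).obj ((ModuleCat.coextendScalars.{u, u, u} ψ).obj Y)

/-- an element of the restricted coextension as a linear map -/
def toLin (Y : ModuleCat.{u} P) (g : RC ψ Y) : AP ψ →ₗ[P] Y := g

/-- a linear map as an element of the restricted coextension -/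
def ofLin (Y : ModuleCat.{u} P) (g : AP ψ →ₗ[P] Y) : RC ψ Y := g

lemma ofLin_smul (Y : ModuleCat.{u} P) (a : P) (g : AP ψ →ₗ[P] Y) :
    ofLin ψ Y (a • g) = a • ofLin ψ Y g := by
  apply (ModuleCat.CoextendScalars.equiv ψ Y).injective
  apply LinearMap.ext
  intro x
  let x' : A := x
  have h1 : (a • x : AP ψ) = (x' * ψ a : A) := by
    show ψ a * x' = x' * ψ a
    exact mul_comm _ _
  have h2 : g (a • x) = a • g x := g.map_smul a x
  refine Eq.trans (b := a • g x) rfl ?_
  rw [← h2, h1]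
  rfl

/-- cochains from `A[0]` to `I` are `P`-linear maps `A → I^n` -/
noncomputable def cEquiv (I : DRing.Cx P) (n : ℤ) :
    Cochain (SA ψ) I n ≃ₗ[P] RC ψ (I.X n) where
  toFun z := ofLin ψ _ (Cochain.fromSingleEquiv (zero_add n) z).hom
  invFun g := Cochain.fromSingleMk (ModuleCat.ofHom (toLin ψ _ g)) (zero_add n)
  map_add' z z' := by
    rw [map_add]
    rfl
  map_smul' a z := by
    have h : Cochain.fromSingleEquiv (zero_add n) (a • z) =
        a • Cochain.fromSingleEquiv (zero_add n) z := by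
      show _ ≫ (a • z).v 0 n _ = a • (_ ≫ z.v 0 n _)
      rw [Cochain.smul_v, Linear.comp_smul]
    rw [h, RingHom.id_apply, ← ofLin_smul]
    rfl
  left_inv z := by
    obtain ⟨f, rfl⟩ := Cochain.fromSingleMk_surjective z n (zero_add n)
    dsimp only
    rw [Cochain.fromSingleEquiv_fromSingleMk]
    rfl
  right_inv g := by
    dsimp only
    rw [Cochain.fromSingleEquiv_fromSingleMk]
    rfl

lemma cEquiv_mk (I : DRing.Cx P) (n : ℤ) (f : AP ψ ⟶ I.X n) :
    cEquiv ψ I n (Cochain.fromSingleMk f (zero_add n)) = ofLin ψ _ f.hom := by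
  show ofLin ψ _ (Cochain.fromSingleEquiv (zero_add n) (Cochain.fromSingleMk f (zero_add n))).hom = _
  rw [Cochain.fromSingleEquiv_fromSingleMk]

/-- `Hom•(A[0], I) ≅ res (Hom_P(A, I))` as complexes of `P`-modules -/
noncomputable def coIso (I : DRing.Cx P) :
    DRing.homCx (SA ψ) I ≅ (FinAdj.resC ψ).obj ((coC ψ).obj I) :=
  HomologicalComplex.Hom.isoOfComponents (fun n => (cEquiv ψ I n).toModuleIso)
    (by
      intro n m hnm
      have hnm' : n + 1 = m := hnm
      apply ModuleCat.hom_ext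
      apply LinearMap.ext
      intro (z : Cochain (SA ψ) I n)
      obtain ⟨f, rfl⟩ := Cochain.fromSingleMk_surjective z n (zero_add n)
      show (ModuleCat.coextendScalars.{u, u, u} ψ).map (I.d n m)
          (cEquiv ψ I n (Cochain.fromSingleMk f (zero_add n))) =
        cEquiv ψ I m (δ n m (Cochain.fromSingleMk f (zero_add n)))
      rw [Cochain.δ_fromSingleMk f (zero_add n) m m (zero_add m), cEquiv_mk, cEquiv_mk]
      rfl)

/-- the value of the derived coextension on a K-injective complex -/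
noncomputable def rcoextIso (I : DRing.Cx P) [I.IsKInjective] :
    (Helper5.Shriek.RCoext ψ).obj (Q.obj I) ≅ Q.obj ((coC ψ).obj I) := by
  haveI := Helper5.KInj.hasR (H := ModuleCat.coextendScalars.{u, u, u} ψ)
    (Helper5.RHomK.hasKInjRes_moduleCat (A := P))
  haveI := Helper5.KInj.isIso_app_of_isKInjective
    (Helper5.KInj.KhR (ModuleCat.coextendScalars.{u, u, u} ψ))
    (Helper5.RHomK.hasKInjRes_moduleCat (A := P))
    (Helper5.KInj.RD (ModuleCat.coextendScalars.{u, u, u} ψ))
    (Helper5.KInj.Rη (ModuleCat.coextendScalars.{u, u, u} ψ)) I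
  exact (Helper5.Shriek.RCoext ψ).mapIso ((quotientCompQhIso (ModuleCat.{u} P)).app I).symm ≪≫
    (asIso ((Helper5.KInj.Rη (ModuleCat.coextendScalars.{u, u, u} ψ)).app
      ((HomotopyCategory.quotient _ _).obj I))).symm ≪≫
    Qh.mapIso (((ModuleCat.coextendScalars.{u, u, u} ψ).mapHomotopyCategoryFactors
      (ComplexShape.up ℤ)).app I) ≪≫
    (quotientCompQhIso (ModuleCat.{u} A)).app ((coC ψ).obj I)

/-- `res_ψ (Rψ N) ≅ RHom_P(A, N)` -/
theorem nonempty_res_R_iso (Rψ : Dual.D P ⥤ Dual.D A) (adj : DRing.restrictD ψ ⊣ Rψ)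
    [DRing.HasRHomCx (SA ψ)] (N : Dual.D P) :
    Nonempty ((DRing.restrictD ψ).obj (Rψ.obj N) ≅ (DRing.RHomCx (SA ψ)).obj N) := by
  obtain ⟨I, ι, hI, hι⟩ := Helper5.RHomK.hasKInjRes_moduleCat (Q.objPreimage N)
  haveI := hI
  haveI : IsIso (Q.map ι) := by
    rw [DerivedCategory.isIso_Q_map_iff_quasiIso]
    exact hι
  let eN : N ≅ Q.obj I := (Q.objObjPreimageIso N).symm ≪≫ asIso (Q.map ι)
  let e1 : Rψ ≅ Helper5.Shriek.RCoext ψ := adj.rightAdjointUniq (Helper5.Shriek.rAdj ψ)
  exact ⟨(DRing.restrictD ψ).mapIso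
      (e1.app N ≪≫ (Helper5.Shriek.RCoext ψ).mapIso eN ≪≫ rcoextIso ψ I) ≪≫
    (ModuleCat.restrictScalars.{u} ψ).mapDerivedCategoryFactors.app _ ≪≫
    Q.mapIso (coIso ψ I).symm ≪≫ (Helper5.RHomK.rhomIso (SA ψ) I).symm ≪≫
    (DRing.RHomCx (SA ψ)).mapIso eN.symm⟩

/-- `A[0]` over `P` in the derived category -/
noncomputable def saIso : DRing.toD (SA ψ) ≅ (DRing.restrictD ψ).obj (Dual.inD A A) :=
  ((DerivedCategory.singleFunctorIsoCompQ (ModuleCat.{u} P) 0).app (AP ψ)).symm ≪≫
    (FinAdj.resInD ψ (ModuleCat.of A A)).symm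

/-- if `A` is perfect over `P` then `res_ψ (Rψ P)` is perfect over `P` -/
theorem perfect_res_R (Rψ : Dual.D P ⥤ Dual.D A) (adj : DRing.restrictD ψ ⊣ Rψ)
    (hperf : DRing.IsPerfect P ((DRing.restrictD ψ).obj (Dual.inD A A))) :
    DRing.IsPerfect P ((DRing.restrictD ψ).obj (Rψ.obj (Dual.inD P P))) := by
  haveI := Helper5.RHomE.hasRHomCx (SA ψ)
  obtain ⟨e⟩ := nonempty_res_R_iso ψ Rψ adj (Dual.inD P P)
  have h := (Helper5.RHomK.perfect_duality _ hperf (SA ψ) (saIso ψ)).1
  exact Groth.Agent.Helper5.PerfRes.perfect_of_iso e.symm h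

end Groth.Agent.Helper3.RelDual
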