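import Mathlib
import Groth.Prelude.Def_DualSh
import Groth.Agent.Lib.Helper3.RelDual1
import Groth.Agent.Lib.Helper3.FinCoh
import Groth.Agent.Lib.Helper3.ShrLci3
import Groth.Agent.Lib.Helper5.DRing.PCCoh
import Groth.Agent.Lib.Helper5.DRing.RelPerf
import Groth.Agent.Lib.Helper5.DMod.DCRestrict
import Groth.Agent.Lib.Helper5.Gen.PerfFlat
import Groth.Agent.Lib.Helper5.Shriek.FLI
import Groth.Agent.Lib.Helper5.Shriek.FinMain
import Groth.Agent.Lib.Helper5.Shriek.Comp
import Groth.Agent.Lib.Helper5.TBC.ShriekBC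

/-!
# `ω_{A/R} = φ^!(R)` is a relative dualizing complex for `R → A` flat of finite type
-/

set_option autoImplicit false
universe u
open CategoryTheory CategoryTheory.Limits DerivedCategory
open scoped TensorProduct

attribute [local instance] HasDerivedCategory.standard

namespace Groth.Agent.Helper3.RelDual

open Helper5.Shriek Groth.Agent.Lib.Helper5.DTenLib Groth.Agent.Helper5.PerfRes

section Perf

/-- `ω_{A/R}` is `R`-perfect -/
theorem relPerfect_omega (R A : Type u) [CommRing R] [CommRing A] [IsNoetherianRing R]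
    [IsNoetherianRing A] [Algebra R A] [Module.Flat R A] (n : ℕ)
    (ψ : MvPolynomial (Fin n) R →ₐ[R] A) (hψ : Function.Surjective ψ)
    [DRing.HasLBaseChange (algebraMap R (MvPolynomial (Fin n) R))]
    (Rψ : Dual.D (MvPolynomial (Fin n) R) ⥤ Dual.D A) (adj : DRing.restrictD ψ.toRingHom ⊣ Rψ) :
    Dual2.IsRelPerfect R A (Dual2.shriekVia n Rψ (Dual.inD R R)) := by
  let P := MvPolynomial (Fin n) R
  let N : Dual.D P := (DRing.LBaseChange (algebraMap R P)).obj (Dual.inD R R)
  let eN : N ≅ Dual.inD P P := Groth.Agent.Helper3.ShrLci.lbcRing _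
  have hperfA := Helper5.Gen.perfect_of_flat_presentation R A n ψ hψ
  have hperf : DRing.IsPerfect P ((DRing.restrictD ψ.toRingHom).obj (Rψ.obj N)) :=
    perfect_of_iso ((DRing.restrictD ψ.toRingHom).mapIso (Rψ.mapIso eN.symm))
      (perfect_res_R ψ.toRingHom Rψ adj hperfA)
  have hcomp : algebraMap R A = ψ.toRingHom.comp (algebraMap R P) := by
    ext r
    exact (ψ.commutes r).symm
  let eres : DRing.restrictD (algebraMap R A) ≅
      DRing.restrictD ψ.toRingHom ⋙ DRing.restrictD (algebraMap R P) :=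
    restrictDEqIso hcomp ≪≫ restrictDCompIso (algebraMap R P) ψ.toRingHom
  refine ⟨?_, ?_⟩
  · -- pseudo-coherence over `A`
    have hcoh : ∀ I : Ideal A, I.FG → Module.FinitePresentation A I := fun I _ =>
      Module.finitePresentation_of_finite A I
    obtain ⟨E, a, b, hE, -, ⟨eE⟩⟩ := hperf
    have hbP : ∀ i : ℤ, b < i → Subsingleton (Dual.HD A (Rψ.obj N) i) := by
      intro i hi
      have hz : IsZero ((homologyFunctor (ModuleCat.{u} P) i).obj
          ((DRing.restrictD ψ.toRingHom).obj (Rψ.obj N))) := by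
        refine IsZero.of_iso ?_ ((homologyFunctor _ i).mapIso eE.symm)
        rw [← Groth.Agent.Helper5.TorAmp.exactAt_iff_isZero_H]
        exact HomologicalComplex.ExactAt.of_isZero (hE i (Or.inr hi))
      haveI := ModuleCat.subsingleton_of_isZero hz
      exact (Helper5.DMod.HDrestrictEquiv ψ.toRingHom (Rψ.obj N) i).symm.toEquiv.subsingleton
    have hsh : ∀ i : ℤ, Dual.HD A (Rψ.obj N) ((n : ℤ) + i) ≃ₗ[A]
        Dual.HD A (Dual2.shriekVia n Rψ (Dual.inD R R)) i := fun i =>
      (((DerivedCategory.homologyFunctor (ModuleCat.{u} A) 0).shiftIso (n : ℤ) i ((n : ℤ) + i)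
        rfl).app (Rψ.obj N)).symm.toLinearEquiv
    have hb : ∃ b : ℤ, ∀ i : ℤ, b < i →
        Subsingleton (Dual.HD A (Dual2.shriekVia n Rψ (Dual.inD R R)) i) := by
      refine ⟨b - n, fun i hi => ?_⟩
      haveI := hbP ((n : ℤ) + i) (by omega)
      exact (hsh i).symm.toEquiv.subsingleton
    have h0 : ∀ i : ℤ, i < 0 → Subsingleton (Dual.HD R (Dual.inD R R) i) := by
      intro i hi
      exact ModuleCat.subsingleton_of_isZero (isZero_of_isGE (Dual.inD R R) 0 i hi)
    have hfin := (Groth.Agent.Helper3.FinCoh.main_S1783 R A n ψ hψ Rψ adj (Dual.inD R R) 0 h0).2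
      (fun i => Groth.Agent.Helper3.BCDual.finite_homology_inD (A := R) R i)
    refine ((Groth.Agent.Helper5.PCCoh.s6943 A hcoh _ hb 0).2).2 (fun i => ?_)
    haveI := hfin i
    exact Module.finitePresentation_of_finite A _
  · -- finite tor dimension over `R`
    have hft : DRing.HasFiniteTorDimCx R ((DRing.restrictD (algebraMap R P)).obj
        ((DRing.restrictD ψ.toRingHom).obj (Rψ.obj N))) :=
      (s7073 (R := R) (A := P) _ hperf).2
    have hft' : DRing.HasFiniteTorDimCx R ((DRing.restrictD (algebraMap R A)).obj (Rψ.obj N)) :=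
      finTor_of_iso (eres.app (Rψ.obj N)).symm hft
    exact finTor_of_iso
      (((DRing.restrictD (algebraMap R A)).commShiftIso (n : ℤ)).app (Rψ.obj N)).symm
      (finTor_shift _ (n : ℤ) hft')

end Perf

section Diag

variable (R A : Type u) [CommRing R] [CommRing A] [Algebra R A]

/-- the swap of the two factors of `A ⊗ A` -/
noncomputable abbrev swp : (A ⊗[R] A) ≃+* (A ⊗[R] A) :=
  (Algebra.TensorProduct.comm R A A).toRingEquiv

/-- the left coprojection -/
noncomputable abbrev i1 : A →+* A ⊗[R] A := Algebra.TensorProduct.includeLeftRingHom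

/-- the right coprojection -/
noncomputable abbrev i2 : A →+* A ⊗[R] A :=
  (Algebra.TensorProduct.includeRight : A →ₐ[R] A ⊗[R] A).toRingHom

/-- the multiplication map -/
noncomputable abbrev mu : A ⊗[R] A →+* A := (Algebra.TensorProduct.lmul' R (S := A)).toRingHom

lemma swp_i2 : (swp R A).toRingHom.comp (i2 R A) = i1 R A := by
  ext a
  show Algebra.TensorProduct.comm R A A ((1 : A) ⊗ₜ[R] a) = a ⊗ₜ[R] (1 : A)
  rw [Algebra.TensorProduct.comm_tmul]

lemma mu_swp : (mu R A).comp (swp R A).toRingHom = mu R A := by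
  refine RingHom.ext fun x => ?_
  show Algebra.TensorProduct.lmul' R (S := A) (Algebra.TensorProduct.comm R A A x) =
    Algebra.TensorProduct.lmul' R (S := A) x
  induction x using TensorProduct.induction_on with
  | zero => simp
  | tmul a b =>
    rw [Algebra.TensorProduct.comm_tmul, Algebra.TensorProduct.lmul'_apply_tmul,
      Algebra.TensorProduct.lmul'_apply_tmul, mul_comm]
  | add x y hx hy => rw [map_add, map_add, map_add, hx, hy]

lemma mu_surjective : Function.Surjective (mu R A) := fun a =>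
  ⟨a ⊗ₜ[R] (1 : A), by
    show Algebra.TensorProduct.lmul' R (S := A) (a ⊗ₜ[R] (1 : A)) = a
    rw [Algebra.TensorProduct.lmul'_apply_tmul, mul_one]⟩

/-- base change along the left coprojection in terms of the right one -/
noncomputable def lbcSwapIso : DRing.LBaseChange (i1 R A) ≅
    DRing.LBaseChange (i2 R A) ⋙ DRing.restrictD (swp R A).symm.toRingHom :=
  lbcEqIso (swp_i2 R A).symm ≪≫ lbcCompIso (i2 R A) (swp R A).toRingHom ≪≫
    Functor.isoWhiskerLeft _ ((myAdj (swp R A).toRingHom).leftAdjointUniq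
      (restrictDEquiv (swp R A)).toAdjunction)

/-- a right adjoint of restriction along the multiplication absorbs the swap -/
noncomputable def rmuSwapIso (Rμ : Dual.D (A ⊗[R] A) ⥤ Dual.D A)
    (adjμ : DRing.restrictD (mu R A) ⊣ Rμ) :
    Rμ ≅ DRing.restrictD (swp R A).symm.toRingHom ⋙ Rμ :=
  adjμ.rightAdjointUniq (Adjunction.ofNatIsoLeft
    (adjμ.comp (restrictDEquiv (swp R A)).symm.toAdjunction)
    ((restrictDCompIso (swp R A).toRingHom (mu R A)).symm ≪≫ restrictDEqIso (mu_swp R A)))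

end Diag

/-- the diagonal part -/
theorem diag_omega (R A : Type u) [CommRing R] [CommRing A] [IsNoetherianRing R]
    [IsNoetherianRing A] [Algebra R A] [Module.Flat R A] [Algebra.FiniteType R A] (n : ℕ)
    (ψ : MvPolynomial (Fin n) R →ₐ[R] A) (hψ : Function.Surjective ψ)
    [DRing.HasLBaseChange (algebraMap R (MvPolynomial (Fin n) R))]
    (Rψ : Dual.D (MvPolynomial (Fin n) R) ⥤ Dual.D A) (adj : DRing.restrictD ψ.toRingHom ⊣ Rψ)
    [DRing.HasLBaseChange (Algebra.TensorProduct.includeLeftRingHom : A →+* TensorProduct R A A)]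
    (Rμ : Dual.D (TensorProduct R A A) ⥤ Dual.D A)
    (adjμ : DRing.restrictD (Algebra.TensorProduct.lmul' R (S := A)).toRingHom ⊣ Rμ) :
    Nonempty (Rμ.obj ((DRing.LBaseChange
      (Algebra.TensorProduct.includeLeftRingHom : A →+* TensorProduct R A A)).obj
        (Dual2.shriekVia n Rψ (Dual.inD R R))) ≅ Dual.inD A A) := by
  let ω : Dual.D A := Dual2.shriekVia n Rψ (Dual.inD R R)
  haveI : Algebra.FiniteType A (A ⊗[R] A) := inferInstance
  haveI : IsNoetherianRing (A ⊗[R] A) := Algebra.FiniteType.isNoetherianRing A (A ⊗[R] A)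
  obtain ⟨m, ψ', hψ'⟩ := Algebra.FiniteType.iff_quotient_mvPolynomial''.1
    (inferInstance : Algebra.FiniteType A (A ⊗[R] A))
  let Rψ' := RCoext ψ'.toRingHom
  let adj' : DRing.restrictD ψ'.toRingHom ⊣ Rψ' := rAdj ψ'.toRingHom
  let K₀ : Dual.D A := (DRing.LBaseChange (algebraMap R A)).obj (Dual.inD R R)
  let eK : K₀ ≅ Dual.inD A A := Groth.Agent.Helper3.ShrLci.lbcRing _
  obtain ⟨e3a⟩ := shriek_flat_ft_bc R A A n ψ hψ Rψ adj m ψ' hψ' Rψ' adj' (Dual.inD R R)
  let X : Dual.D (A ⊗[R] A) := Dual2.shriekVia m Rψ' K₀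
  -- the multiplication as an algebra structure
  letI algBA : Algebra (A ⊗[R] A) A := (mu R A).toAlgebra
  haveI : IsScalarTower A (A ⊗[R] A) A := IsScalarTower.of_algebraMap_eq (fun a => by
    show a = Algebra.TensorProduct.lmul' R (S := A) (a ⊗ₜ[R] (1 : A))
    rw [Algebra.TensorProduct.lmul'_apply_tmul, mul_one])
  haveI : Module.Finite (A ⊗[R] A) A :=
    Module.Finite.of_surjective (Algebra.linearMap (A ⊗[R] A) A) (mu_surjective R A)
  let χ : MvPolynomial (Fin 0) (A ⊗[R] A) →ₐ[A ⊗[R] A] A := MvPolynomial.aeval (fun _ => 0)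
  have hχ : Function.Surjective χ := by
    intro a
    obtain ⟨b, hb⟩ := mu_surjective R A a
    exact ⟨MvPolynomial.C b, by rw [MvPolynomial.aeval_C]; exact hb⟩
  let θ : MvPolynomial (Fin 0) A →ₐ[A] A := MvPolynomial.aeval (fun _ => 0)
  have hθ : Function.Surjective θ := by
    intro a
    exact ⟨MvPolynomial.C a, by rw [MvPolynomial.aeval_C]; rfl⟩
  let Rχ := RCoext χ.toRingHom
  let adjχ : DRing.restrictD χ.toRingHom ⊣ Rχ := rAdj χ.toRingHom
  let Rθ := RCoext θ.toRingHom
  let adjθ : DRing.restrictD θ.toRingHom ⊣ Rθ := rAdj θ.toRingHom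
  have adjμ' : DRing.restrictD (algebraMap (A ⊗[R] A) A) ⊣ Rμ := adjμ
  have adjId : DRing.restrictD (algebraMap A A) ⊣ 𝟭 (Dual.D A) :=
    Adjunction.ofNatIsoLeft Adjunction.id (restrictDIdIso A).symm
  have hK₀ : ∀ i : ℤ, i < 0 → Subsingleton (Dual.HD A K₀ i) := by
    intro i hi
    haveI : K₀.IsGE 0 := (TStructure.t).isGE_of_iso eK.symm 0
    exact ModuleCat.subsingleton_of_isZero (isZero_of_isGE K₀ 0 i hi)
  obtain ⟨c1⟩ := finite_shriek (A ⊗[R] A) A 0 χ hχ Rχ adjχ Rμ adjμ' X
  obtain ⟨c2⟩ := shriek_comp A (A ⊗[R] A) A m ψ' hψ' Rψ' adj' 0 χ hχ Rχ adjχ 0 θ hθ Rθ adjθ K₀ 0 hK₀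
  obtain ⟨c3⟩ := finite_shriek A A 0 θ hθ Rθ adjθ (𝟭 _) adjId K₀
  exact ⟨Rμ.mapIso ((lbcSwapIso R A).app ω) ≪≫ ((rmuSwapIso R A Rμ adjμ).app _).symm ≪≫
    Rμ.mapIso e3a ≪≫ c1.symm ≪≫ c2.symm ≪≫ c3 ≪≫ eK⟩

theorem main_S1795 (R A : Type u) [CommRing R] [CommRing A] [IsNoetherianRing R]
    [IsNoetherianRing A] [Algebra R A] [Module.Flat R A] [Algebra.FinitePresentation R A] (n : ℕ)
    (ψ : MvPolynomial (Fin n) R →ₐ[R] A) (hψ : Function.Surjective ψ)
    [DRing.HasLBaseChange (algebraMap R (MvPolynomial (Fin n) R))]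
    (Rψ : Dual.D (MvPolynomial (Fin n) R) ⥤ Dual.D A) (adj : DRing.restrictD ψ.toRingHom ⊣ Rψ)
    [DRing.HasLBaseChange (Algebra.TensorProduct.includeLeftRingHom : A →+* TensorProduct R A A)]
    (Rμ : Dual.D (TensorProduct R A A) ⥤ Dual.D A)
    (adjμ : DRing.restrictD (Algebra.TensorProduct.lmul' R (S := A)).toRingHom ⊣ Rμ) :
    Dual2.IsRelDualizing R A Rμ (Dual2.shriekVia n Rψ (Dual.inD R R)) :=
  ⟨relPerfect_omega R A n ψ hψ Rψ adj, diag_omega R A n ψ hψ Rψ adj Rμ adjμ⟩

end Groth.Agent.Helper3.RelDual
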