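import Mathlib
import Groth.Prelude.Def_DualSh
import Groth.Agent.Lib.Helper3.RelDual2
import Groth.Agent.Lib.Helper3.GorBC6
import Groth.Agent.Lib.Helper3.RegDual
import Groth.Agent.Lib.Helper5.RHomE.HomH

/-!
# Properties of `ω_{A/R} = φ^!(R)` for `R → A` flat of finite type: endomorphisms and fibres
-/

set_option autoImplicit false
universe u
open CategoryTheory CategoryTheory.Limits DerivedCategory
open scoped TensorProduct

attribute [local instance] HasDerivedCategory.standard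

namespace Groth.Agent.Helper3.RelDual

open Helper5.Shriek Groth.Agent.Lib.Helper5.DTenLib Groth.Agent.Helper5.PerfRes

section Trick

variable {A : Type u} [CommRing A] {C : Type*} [Category C] [Preadditive C] [Linear A C]

/-- if `End(X)` is free of rank one then it is `A` via `a ↦ a • id` -/
theorem bijective_smul_id_of_linearEquiv (X : C) (e : (X ⟶ X) ≃ₗ[A] A) :
    Function.Bijective (fun a : A => a • 𝟙 X) := by
  set g : X ⟶ X := e.symm 1 with hg
  have heg : e g = 1 := by rw [hg, LinearEquiv.apply_symm_apply]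
  have hgen : ∀ f : X ⟶ X, f = e f • g := by
    intro f
    apply e.injective
    rw [map_smul, heg, smul_eq_mul, mul_one]
  set u : A := e (𝟙 X) with hu
  set v : A := e (g ≫ g) with hv
  have h1 : 𝟙 X = u • g := hgen _
  have h2 : g ≫ g = v • g := hgen _
  have huv : u * v = 1 := by
    have h3 : g = (u * v) • g := by
      calc g = g ≫ 𝟙 X := (Category.comp_id g).symm
        _ = g ≫ (u • g) := by rw [← h1]
        _ = u • (g ≫ g) := by rw [Linear.comp_smul]
        _ = u • v • g := by rw [h2]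
        _ = (u * v) • g := (mul_smul _ _ _).symm
    have h4 := congrArg e h3
    rw [map_smul, heg, smul_eq_mul, mul_one] at h4
    exact h4.symm
  constructor
  · intro a b hab
    have h5 : e (a • 𝟙 X) = e (b • 𝟙 X) := congrArg e hab
    rw [map_smul, map_smul, smul_eq_mul, smul_eq_mul, ← hu] at h5
    calc a = a * (u * v) := by rw [huv, mul_one]
      _ = (a * u) * v := (mul_assoc _ _ _).symm
      _ = (b * u) * v := by rw [h5]
      _ = b * (u * v) := mul_assoc _ _ _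
      _ = b := by rw [huv, mul_one]
  · intro f
    refine ⟨e f * v, ?_⟩
    show (e f * v) • 𝟙 X = f
    rw [h1, smul_smul, mul_assoc, mul_comm v u, huv, mul_one]
    exact (hgen f).symm

end Trick

section EndCalc

variable {P A : Type u} [CommRing P] [CommRing A] (ψ : P →+* A)
  (Rψ : Dual.D P ⥤ Dual.D A) (adj : DRing.restrictD ψ ⊣ Rψ)

include adj in
/-- `Hom(Rψ P, (Rψ P)[i]) ≃ H^i(A[0])`, semilinearly -/
theorem exists_hom_equiv (hperf : DRing.IsPerfect P ((DRing.restrictD ψ).obj (Dual.inD A A)))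
    (N : Dual.D P) (eN : N ≅ Dual.inD P P) (i : ℤ) :
    ∃ e : (Rψ.obj N ⟶ (Rψ.obj N)⟦i⟧) ≃+ Dual.HD A (Dual.inD A A) i,
      ∀ (p : P) (f : Rψ.obj N ⟶ (Rψ.obj N)⟦i⟧), e (ψ p • f) = ψ p • e f := by
  haveI := Helper5.RHomE.hasRHomCx (SA ψ)
  let X := Rψ.obj N
  obtain ⟨e0⟩ := nonempty_res_R_iso ψ Rψ adj N
  let E' : DRing.Cx P := Q.objPreimage ((DRing.restrictD ψ).obj X)
  let eE : Q.obj E' ≅ (DRing.restrictD ψ).obj X := Q.objObjPreimageIso _
  haveI := Helper5.RHomE.hasRHomCx E'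
  let eD : DRing.toD E' ≅ (DRing.RHomCx (SA ψ)).obj (Dual.inD P P) :=
    eE ≪≫ e0 ≪≫ (DRing.RHomCx (SA ψ)).mapIso eN
  obtain ⟨e5⟩ := (Helper5.RHomK.perfect_duality _ hperf (SA ψ) (saIso ψ)).2 E' eD
  obtain ⟨e4⟩ := Helper5.RHomE.nonempty_rhom_HD_equiv E' i (Dual.inD P P)
  let h2 := FinAdj.homEquiv ψ adj X N i
  let h3 : ((DRing.restrictD ψ).obj X ⟶ N⟦i⟧) ≃ₗ[P] (Q.obj E' ⟶ (Dual.inD P P)⟦i⟧) :=
    Linear.homCongr P eE.symm ((shiftFunctor (Dual.D P) i).mapIso eN)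
  let h5 : Dual.HD P ((DRing.RHomCx E').obj (Dual.inD P P)) i ≃ₗ[P]
      Dual.HD P ((DRing.restrictD ψ).obj (Dual.inD A A)) i :=
    ((DerivedCategory.homologyFunctor (ModuleCat.{u} P) i).mapIso e5).toLinearEquiv
  let h6 := Helper5.DMod.HDrestrictEquiv ψ (Dual.inD A A) i
  let eP := h3 ≪≫ₗ e4.symm ≪≫ₗ h5 ≪≫ₗ h6
  refine ⟨h2.trans eP.toAddEquiv, fun p f => ?_⟩
  show eP (h2 (ψ p • f)) = ψ p • eP (h2 f)
  rw [FinAdj.homEquiv_smul, map_smul]
  rfl

end EndCalc

section Omega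

variable (R A : Type u) [CommRing R] [CommRing A] [IsNoetherianRing R]
  [IsNoetherianRing A] [Algebra R A] [Module.Flat R A] (n : ℕ)
  (ψ : MvPolynomial (Fin n) R →ₐ[R] A) (hψ : Function.Surjective ψ)
  [DRing.HasLBaseChange (algebraMap R (MvPolynomial (Fin n) R))]
  (Rψ : Dual.D (MvPolynomial (Fin n) R) ⥤ Dual.D A) (adj : DRing.restrictD ψ.toRingHom ⊣ Rψ)

include hψ adj in
/-- `Hom(X, X[i]) ≃ H^i(A[0])` for `X = Rψ(P)` -/
theorem exists_hom_equiv_omega (i : ℤ) :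
    ∃ e : (Rψ.obj ((DRing.LBaseChange (algebraMap R (MvPolynomial (Fin n) R))).obj (Dual.inD R R)) ⟶
        (Rψ.obj ((DRing.LBaseChange (algebraMap R (MvPolynomial (Fin n) R))).obj
          (Dual.inD R R)))⟦i⟧) ≃+ Dual.HD A (Dual.inD A A) i,
      ∀ (a : A) (f : _), e (a • f) = a • e f := by
  obtain ⟨e, he⟩ := exists_hom_equiv ψ.toRingHom Rψ adj
    (Helper5.Gen.perfect_of_flat_presentation R A n ψ hψ)
    ((DRing.LBaseChange (algebraMap R (MvPolynomial (Fin n) R))).obj (Dual.inD R R))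
    (Groth.Agent.Helper3.ShrLci.lbcRing (algebraMap R (MvPolynomial (Fin n) R))) i
  refine ⟨e, fun a f => ?_⟩
  obtain ⟨p, rfl⟩ := hψ a
  exact he p f

include hψ adj in
/-- no self-maps of nonzero degree -/
theorem subsingleton_hom_omega (i : ℤ) (hi : i ≠ 0) :
    Subsingleton (Dual2.shriekVia n Rψ (Dual.inD R R) ⟶
      (Dual2.shriekVia n Rψ (Dual.inD R R))⟦i⟧) := by
  let X := Rψ.obj ((DRing.LBaseChange (algebraMap R (MvPolynomial (Fin n) R))).obj (Dual.inD R R))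
  obtain ⟨e, -⟩ := exists_hom_equiv_omega R A n ψ hψ Rψ adj i
  have hz : IsZero ((DerivedCategory.homologyFunctor (ModuleCat.{u} A) i).obj (Dual.inD A A)) := by
    rcases lt_or_gt_of_ne hi with h | h
    · exact isZero_of_isGE (Dual.inD A A) 0 i h
    · exact isZero_of_isLE (Dual.inD A A) 0 i h
  haveI : Subsingleton (Dual.HD A (Dual.inD A A) i) := ModuleCat.subsingleton_of_isZero hz
  haveI : Subsingleton (X ⟶ X⟦i⟧) := e.toEquiv.subsingleton
  refine ⟨fun f g => ?_⟩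
  let c := shiftComm X (n : ℤ) i
  obtain ⟨f', hf'⟩ := (shiftFunctor (Dual.D A) (n : ℤ)).map_surjective (f ≫ c.hom)
  obtain ⟨g', hg'⟩ := (shiftFunctor (Dual.D A) (n : ℤ)).map_surjective (g ≫ c.hom)
  have h : f ≫ c.hom = g ≫ c.hom := by rw [← hf', ← hg', Subsingleton.elim f' g']
  exact (cancel_mono c.hom).1 h

include hψ adj in
/-- `A → End(ω)` is bijective -/
theorem bijective_smul_id_omega :
    Function.Bijective (fun a : A => a • 𝟙 (Dual2.shriekVia n Rψ (Dual.inD R R))) := by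
  let X := Rψ.obj ((DRing.LBaseChange (algebraMap R (MvPolynomial (Fin n) R))).obj (Dual.inD R R))
  obtain ⟨e, he⟩ := exists_hom_equiv_omega R A n ψ hψ Rψ adj 0
  let s1 : (X ⟶ X) ≃ₗ[A] (X⟦(n : ℤ)⟧ ⟶ X⟦(n : ℤ)⟧) :=
    LinearEquiv.ofBijective ((shiftFunctor (Dual.D A) (n : ℤ)).mapLinearMap A)
      ⟨(shiftFunctor (Dual.D A) (n : ℤ)).map_injective,
        (shiftFunctor (Dual.D A) (n : ℤ)).map_surjective⟩
  let s2 : (X ⟶ X) ≃ₗ[A] (X ⟶ X⟦(0 : ℤ)⟧) :=
    Linear.homCongr A (Iso.refl X) ((shiftFunctorZero (Dual.D A) ℤ).app X).symm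
  let eL : (X ⟶ X⟦(0 : ℤ)⟧) ≃ₗ[A] Dual.HD A (Dual.inD A A) 0 :=
    { e with map_smul' := fun a f => he a f }
  let h7 : Dual.HD A (Dual.inD A A) 0 ≃ₗ[A] A :=
    ((DerivedCategory.singleFunctorCompHomologyFunctorIso (ModuleCat.{u} A) 0).app
      (ModuleCat.of A A)).toLinearEquiv
  exact bijective_smul_id_of_linearEquiv (A := A) (X⟦(n : ℤ)⟧)
    (s1.symm ≪≫ₗ s2 ≪≫ₗ eL ≪≫ₗ h7)

include hψ adj in
/-- the fibres of `ω` are dualizing -/
theorem fibre_dualizing (k : Type u) [Field k] [Algebra R k]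
    [DRing.HasLBaseChange (Algebra.TensorProduct.includeRight : A →ₐ[R] k ⊗[R] A).toRingHom] :
    Dual.IsDualizing (k ⊗[R] A) ((DRing.LBaseChange
      (Algebra.TensorProduct.includeRight : A →ₐ[R] k ⊗[R] A).toRingHom).obj
        (Dual2.shriekVia n Rψ (Dual.inD R R))) := by
  haveI : Algebra.FiniteType R A := Algebra.FiniteType.of_surjective ψ hψ
  haveI : Algebra.FiniteType k (k ⊗[R] A) := inferInstance
  haveI : IsNoetherianRing (k ⊗[R] A) := Algebra.FiniteType.isNoetherianRing k (k ⊗[R] A)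
  obtain ⟨m, ψ', hψ'⟩ := Algebra.FiniteType.iff_quotient_mvPolynomial''.1
    (inferInstance : Algebra.FiniteType k (k ⊗[R] A))
  let Rψ' := RCoext ψ'.toRingHom
  let adj' : DRing.restrictD ψ'.toRingHom ⊣ Rψ' := rAdj ψ'.toRingHom
  obtain ⟨e⟩ := shriek_flat_ft_bc R k A n ψ hψ Rψ adj m ψ' hψ' Rψ' adj' (Dual.inD R R)
  have hk : Dual.IsDualizing k (Dual.inD k k) :=
    Groth.Agent.Helper3.RegDual.main_S11185 k (fun p => inferInstance) (by
      rw [ringKrullDim_eq_zero_of_field]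
      exact WithBot.coe_lt_coe.2 (by simp))
  have hk' : Dual.IsDualizing k ((DRing.LBaseChange (algebraMap R k)).obj (Dual.inD R R)) :=
    Groth.Agent.Helper3.BCDual.isDualizing_of_iso (Groth.Agent.Helper3.ShrLci.lbcRing _).symm hk
  exact Groth.Agent.Helper3.BCDual.isDualizing_of_iso e.symm
    (Groth.Agent.Helper3.GorBC.main_S1782 k (k ⊗[R] A) m ψ' hψ' Rψ' adj' _ hk')

include hψ adj in
theorem main_S1801 :
    (∃ a b : ℤ, ∀ i : ℤ, (i < a ∨ b < i) →
      Subsingleton (Dual.HD A (Dual2.shriekVia n Rψ (Dual.inD R R)) i)) ∧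
    (∀ i : ℤ, Module.Finite A (Dual.HD A (Dual2.shriekVia n Rψ (Dual.inD R R)) i)) ∧
    DRing.HasFiniteTorDimCx R ((DRing.restrictD (algebraMap R A)).obj
      (Dual2.shriekVia n Rψ (Dual.inD R R))) ∧
    (Function.Bijective (fun a : A => a • CategoryTheory.CategoryStruct.id
        (Dual2.shriekVia n Rψ (Dual.inD R R))) ∧
      ∀ i : ℤ, i ≠ 0 → Subsingleton (Dual2.shriekVia n Rψ (Dual.inD R R) ⟶
        (Dual2.shriekVia n Rψ (Dual.inD R R))⟦i⟧)) ∧
    ∀ (k : Type u) [Field k] [Algebra R k]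
      [DRing.HasLBaseChange (Algebra.TensorProduct.includeRight : A →ₐ[R] k ⊗[R] A).toRingHom],
      Dual.IsDualizing (k ⊗[R] A) ((DRing.LBaseChange
        (Algebra.TensorProduct.includeRight : A →ₐ[R] k ⊗[R] A).toRingHom).obj
          (Dual2.shriekVia n Rψ (Dual.inD R R))) := by
  have hrel := relPerfect_omega R A n ψ hψ Rψ adj
  have h0 : ∀ i : ℤ, i < 0 → Subsingleton (Dual.HD R (Dual.inD R R) i) := by
    intro i hi
    exact ModuleCat.subsingleton_of_isZero (isZero_of_isGE (Dual.inD R R) 0 i hi)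
  have hS := Groth.Agent.Helper3.FinCoh.main_S1783 R A n ψ hψ Rψ adj (Dual.inD R R) 0 h0
  refine ⟨?_, hS.2 (fun i => Groth.Agent.Helper3.BCDual.finite_homology_inD (A := R) R i),
    hrel.2, ⟨bijective_smul_id_omega R A n ψ hψ Rψ adj,
      fun i hi => subsingleton_hom_omega R A n ψ hψ Rψ adj i hi⟩,
    fun k _ _ _ => fibre_dualizing R A n ψ hψ Rψ adj k⟩
  obtain ⟨a, ha⟩ := hS.1
  obtain ⟨E, b, hE, -, ⟨eE⟩⟩ := hrel.1
  refine ⟨a, b, fun i hi => ?_⟩
  rcases hi with hi | hi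
  · exact ha i hi
  · apply ModuleCat.subsingleton_of_isZero
    refine IsZero.of_iso ?_ ((homologyFunctor _ i).mapIso eE.symm)
    rw [← Groth.Agent.Helper5.TorAmp.exactAt_iff_isZero_H]
    exact HomologicalComplex.ExactAt.of_isZero (hE i hi)

end Omega

end Groth.Agent.Helper3.RelDual
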