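import Mathlib
import Groth.Prelude.Def_DualSh
import Groth.Agent.Lib.Helper3.RelDual3
import Groth.Agent.Lib.Helper3.GorInv1
import Groth.Agent.Lib.Helper3.LocNak2
import Groth.Agent.Lib.Helper3.FinAdj5

/-!
# Gorenstein fibres and invertibility of the relative dualizing complex (helper3, S1786)
-/

set_option autoImplicit false
universe u
open CategoryTheory CategoryTheory.Limits DerivedCategory
open scoped TensorProduct

attribute [local instance] HasDerivedCategory.standard

namespace Groth.Agent.Helper3.GorInv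

open Helper5.Shriek Groth.Agent.Lib.Helper5.DTenLib Groth.Agent.Helper3.GorLocus
  Groth.Agent.Helper3.BCDer Groth.Agent.Helper3.BCDual Groth.Agent.Helper5.FlatBC
  Groth.Agent.Helper3.RelDual

section Swap

variable (R A : Type u) [CommRing R] [CommRing A] [Algebra R A]

/-- the swap `k ⊗ A ≃ A ⊗ k` -/
noncomputable abbrev sw (k : Type u) [CommRing k] [Algebra R k] : (k ⊗[R] A) ≃+* (A ⊗[R] k) :=
  (Algebra.TensorProduct.comm R k A).toRingEquiv

lemma sw_comp (k : Type u) [CommRing k] [Algebra R k] :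
    (sw R A k).toRingHom.comp
        (Algebra.TensorProduct.includeRight : A →ₐ[R] k ⊗[R] A).toRingHom =
      algebraMap A (A ⊗[R] k) := by
  ext a
  show Algebra.TensorProduct.comm R k A ((1 : k) ⊗ₜ[R] a) = algebraMap A (A ⊗[R] k) a
  rw [Algebra.TensorProduct.comm_tmul]
  rfl

end Swap

section Main

variable (R A : Type u) [CommRing R] [CommRing A] [IsNoetherianRing R] [IsNoetherianRing A]
  [Algebra R A] [Module.Flat R A] (n : ℕ) (ψ : MvPolynomial (Fin n) R →ₐ[R] A)
  (hψ : Function.Surjective ψ) [DRing.HasLBaseChange (algebraMap R (MvPolynomial (Fin n) R))]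
  (Rψ : Dual.D (MvPolynomial (Fin n) R) ⥤ Dual.D A) (adj : DRing.restrictD ψ.toRingHom ⊣ Rψ)

include hψ adj in
/-- the fibres of `ω`, with the residue field on the right, are dualizing -/
theorem fibre_dualizing' (k : Type u) [Field k] [Algebra R k] :
    Dual.IsDualizing (A ⊗[R] k) ((DRing.LBaseChange (algebraMap A (A ⊗[R] k))).obj
      (Dual2.shriekVia n Rψ (Dual.inD R R))) := by
  haveI : Algebra.FiniteType R A := Algebra.FiniteType.of_surjective ψ hψ
  haveI : Algebra.FiniteType k (k ⊗[R] A) := inferInstance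
  haveI : IsNoetherianRing (k ⊗[R] A) := Algebra.FiniteType.isNoetherianRing k (k ⊗[R] A)
  haveI : IsNoetherianRing (A ⊗[R] k) := isNoetherianRing_of_ringEquiv (k ⊗[R] A) (sw R A k)
  have h1 := fibre_dualizing R A n ψ hψ Rψ adj k
  letI alg : Algebra (k ⊗[R] A) (A ⊗[R] k) := (sw R A k).toRingHom.toAlgebra
  haveI : Module.Finite (k ⊗[R] A) (A ⊗[R] k) :=
    Module.Finite.of_surjective (Algebra.linearMap (k ⊗[R] A) (A ⊗[R] k)) (sw R A k).surjective
  have h2 := Groth.Agent.Helper3.FinAdj.main_S1772 (k ⊗[R] A) (A ⊗[R] k)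
    (DRing.restrictD (sw R A k).symm.toRingHom) (restrictDEquiv (sw R A k)).symm.toAdjunction _ h1
  refine Groth.Agent.Helper3.BCDual.isDualizing_of_iso ?_ h2
  exact ((lbcEqIso (sw_comp R A k).symm ≪≫
    lbcCompIso (Algebra.TensorProduct.includeRight : A →ₐ[R] k ⊗[R] A).toRingHom
      (sw R A k).toRingHom ≪≫
    Functor.isoWhiskerLeft _ ((myAdj (sw R A k).toRingHom).leftAdjointUniq
      (restrictDEquiv (sw R A k)).toAdjunction)).app _).symm

include hψ adj in
/-- if `ω` is locally a shift of the ring then the fibres are Gorenstein -/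
theorem gorenstein_of_invertible (k : Type u) [Field k] [Algebra R k]
    (hinv : ∀ q : PrimeSpectrum A, ∃ (f : A) (_ : f ∉ q.asIdeal) (m : ℤ),
      Nonempty ((DRing.LBaseChange (algebraMap A (Localization.Away f))).obj
        (Dual2.shriekVia n Rψ (Dual.inD R R)) ≅
          (Dual.inD (Localization.Away f) (Localization.Away f))⟦m⟧)) :
    LocCoh.IsGorensteinRing (A ⊗[R] k) := by
  have hωF := fibre_dualizing' R A n ψ hψ Rψ adj k
  haveI : IsNoetherianRing (A ⊗[R] k) := hωF.isNoetherianRing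
  refine { isGorensteinLocalRing_localization := fun Q hQ => ?_ }
  haveI : IsNoetherianRing (Localization.AtPrime Q) :=
    IsLocalization.isNoetherianRing Q.primeCompl _ inferInstance
  have hd := isDualizing_G_of_isLocalization (Localization.AtPrime Q) Q.primeCompl _ hωF
  rw [gorenstein_iff_iso_shift hd]
  obtain ⟨f, hf, m, ⟨ε⟩⟩ := hinv ⟨Q.comap (algebraMap A (A ⊗[R] k)), inferInstance⟩
  let β : A →+* Localization.AtPrime Q :=
    (algebraMap (A ⊗[R] k) (Localization.AtPrime Q)).comp (algebraMap A (A ⊗[R] k))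
  have hunit : IsUnit (β f) :=
    IsLocalization.map_units (Localization.AtPrime Q)
      (⟨algebraMap A (A ⊗[R] k) f, hf⟩ : Q.primeCompl)
  let τ : Localization.Away f →+* Localization.AtPrime Q := IsLocalization.Away.lift f hunit
  have hτ : τ.comp (algebraMap A (Localization.Away f)) = β :=
    IsLocalization.Away.lift_comp f hunit
  refine ⟨m, ⟨?_⟩⟩
  exact ((lbcIsoG (A := A ⊗[R] k) (Localization.AtPrime Q)).app _).symm ≪≫
    ((lbcCompIso (algebraMap A (A ⊗[R] k))
      (algebraMap (A ⊗[R] k) (Localization.AtPrime Q))).app _).symm ≪≫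
    (lbcEqIso hτ.symm).app _ ≪≫
    (lbcCompIso (algebraMap A (Localization.Away f)) τ).app _ ≪≫
    (DRing.LBaseChange τ).mapIso ε ≪≫
    lbcShiftIso' τ _ m ≪≫
    (shiftFunctor (Dual.D (Localization.AtPrime Q)) m).mapIso
      (Groth.Agent.Helper3.ShrLci.lbcRing τ)

include hψ adj in
/-- if the fibre over `p` is Gorenstein then `ω` is a shift of the ring near every prime over
`p` -/
theorem invertible_of_gorenstein (q : PrimeSpectrum A) (p : PrimeSpectrum R)
    (hp : p.asIdeal = q.asIdeal.comap (algebraMap R A))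
    (hG : LocCoh.IsGorensteinRing (A ⊗[R] p.asIdeal.ResidueField)) :
    ∃ (f : A) (_ : f ∉ q.asIdeal) (m : ℤ),
      Nonempty ((DRing.LBaseChange (algebraMap A (Localization.Away f))).obj
        (Dual2.shriekVia n Rψ (Dual.inD R R)) ≅
          (Dual.inD (Localization.Away f) (Localization.Away f))⟦m⟧) := by
  have hωF := fibre_dualizing' R A n ψ hψ Rψ adj p.asIdeal.ResidueField
  haveI : IsNoetherianRing (A ⊗[R] p.asIdeal.ResidueField) := hωF.isNoetherianRing
  let χ : p.asIdeal.ResidueField →ₐ[R] q.asIdeal.ResidueField :=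
    Ideal.ResidueField.mapₐ p.asIdeal q.asIdeal (Algebra.ofId R A) hp
  let τ : A ⊗[R] p.asIdeal.ResidueField →ₐ[R] q.asIdeal.ResidueField :=
    Algebra.TensorProduct.lift (IsScalarTower.toAlgHom R A q.asIdeal.ResidueField) χ
      (fun _ _ => Commute.all _ _)
  have hτ : ∀ a : A, τ (algebraMap A (A ⊗[R] p.asIdeal.ResidueField) a) =
      algebraMap A q.asIdeal.ResidueField a := by
    intro a
    change τ (a ⊗ₜ[R] (1 : p.asIdeal.ResidueField)) = _
    rw [Algebra.TensorProduct.lift_tmul, map_one, mul_one]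
    rfl
  let Q : Ideal (A ⊗[R] p.asIdeal.ResidueField) := RingHom.ker τ.toRingHom
  haveI hQ : Q.IsPrime := RingHom.ker_isPrime τ.toRingHom
  haveI : IsNoetherianRing (Localization.AtPrime Q) :=
    IsLocalization.isNoetherianRing Q.primeCompl _ inferInstance
  have hgor : LocCoh.IsGorensteinLocalRing (Localization.AtPrime Q) :=
    hG.isGorensteinLocalRing_localization Q
  have hd := isDualizing_G_of_isLocalization (Localization.AtPrime Q) Q.primeCompl _ hωF
  obtain ⟨m, ⟨ε⟩⟩ := (gorenstein_iff_iso_shift hd).1 hgor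
  have hunits : ∀ y : Q.primeCompl, IsUnit (τ.toRingHom y) := fun y => by
    have h0 : τ.toRingHom y ≠ 0 := fun h =>
      (Ideal.mem_primeCompl_iff.1 y.2) (RingHom.mem_ker.2 h)
    exact isUnit_iff_ne_zero.2 h0
  let ρ' : Localization.AtPrime Q →+* q.asIdeal.ResidueField :=
    IsLocalization.lift (M := Q.primeCompl) hunits
  have hρ' : ρ'.comp (algebraMap _ (Localization.AtPrime Q)) = τ.toRingHom :=
    IsLocalization.lift_comp hunits
  let ρ : Localization.AtPrime q.asIdeal →+* q.asIdeal.ResidueField := algebraMap _ _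
  have hρ : ∀ a ∈ IsLocalRing.maximalIdeal (Localization.AtPrime q.asIdeal), ρ a = 0 :=
    fun a ha => (IsLocalRing.residue_eq_zero_iff a).2 ha
  let β : A →+* Localization.AtPrime Q :=
    (algebraMap (A ⊗[R] p.asIdeal.ResidueField) (Localization.AtPrime Q)).comp
      (algebraMap A (A ⊗[R] p.asIdeal.ResidueField))
  have hcomp1 : ρ.comp (algebraMap A (Localization.AtPrime q.asIdeal)) = ρ'.comp β := by
    ext a
    have h1 : ρ' (algebraMap _ (Localization.AtPrime Q)
        (algebraMap A (A ⊗[R] p.asIdeal.ResidueField) a)) = τ (algebraMap A _ a) :=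
      RingHom.congr_fun hρ' _
    change algebraMap (Localization.AtPrime q.asIdeal) q.asIdeal.ResidueField
        (algebraMap A _ a) =
      ρ' (algebraMap _ (Localization.AtPrime Q)
        (algebraMap A (A ⊗[R] p.asIdeal.ResidueField) a))
    rw [h1, hτ, ← IsScalarTower.algebraMap_apply]
  haveI : IsNoetherianRing (Localization.AtPrime q.asIdeal) :=
    IsLocalization.isNoetherianRing q.asIdeal.primeCompl _ inferInstance
  let eK : (DRing.LBaseChange ρ).obj ((G (A := A) (Localization.AtPrime q.asIdeal)).obj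
      (Dual2.shriekVia n Rψ (Dual.inD R R))) ≅
      (Dual.inD q.asIdeal.ResidueField q.asIdeal.ResidueField)⟦m⟧ :=
    (DRing.LBaseChange ρ).mapIso
      ((lbcIsoG (A := A) (Localization.AtPrime q.asIdeal)).app _).symm ≪≫
    ((lbcCompIso (algebraMap A (Localization.AtPrime q.asIdeal)) ρ).app _).symm ≪≫
    (lbcEqIso hcomp1).app _ ≪≫
    (lbcCompIso β ρ').app _ ≪≫
    (DRing.LBaseChange ρ').mapIso
      ((lbcCompIso (algebraMap A (A ⊗[R] p.asIdeal.ResidueField))
          (algebraMap (A ⊗[R] p.asIdeal.ResidueField) (Localization.AtPrime Q))).app _ ≪≫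
        (lbcIsoG (A := A ⊗[R] p.asIdeal.ResidueField) (Localization.AtPrime Q)).app _ ≪≫ ε) ≪≫
    lbcShiftIso' ρ' _ m ≪≫
    (shiftFunctor (Dual.D q.asIdeal.ResidueField) m).mapIso
      (Groth.Agent.Helper3.ShrLci.lbcRing ρ')
  obtain ⟨⟨a, b, hab⟩, hfin, -, -, -⟩ := main_S1801 R A n ψ hψ Rψ adj
  haveI : (Dual2.shriekVia n Rψ (Dual.inD R R)).IsGE a :=
    (isGE_iff _ a).2 (fun i hi => by
      haveI := hab i (Or.inl hi)
      exact ModuleCat.isZero_of_subsingleton _)
  haveI : (Dual2.shriekVia n Rψ (Dual.inD R R)).IsLE b :=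
    (isLE_iff _ b).2 (fun i hi => by
      haveI := hab i (Or.inr hi)
      exact ModuleCat.isZero_of_subsingleton _)
  haveI : ((G (A := A) (Localization.AtPrime q.asIdeal)).obj
      (Dual2.shriekVia n Rψ (Dual.inD R R))).IsLE b :=
    isLE_G (Localization.AtPrime q.asIdeal) _ b
  have hKfin : ∀ i : ℤ, Module.Finite (Localization.AtPrime q.asIdeal)
      (Dual.HD _ ((G (A := A) (Localization.AtPrime q.asIdeal)).obj
        (Dual2.shriekVia n Rψ (Dual.inD R R))) i) := fun i => by
    haveI := hfin i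
    exact finite_homology_G (Localization.AtPrime q.asIdeal) _ i
  obtain ⟨eq⟩ := Groth.Agent.Helper3.LocNak.nonempty_iso_shift_unit ρ hρ _ b hKfin m eK
  have hmem : q ∈ locusN (Dual2.shriekVia n Rψ (Dual.inD R R)) m :=
    (mem_locusN_iff _ hfin q m).2 ⟨eq⟩
  obtain ⟨f, hf, ⟨e⟩⟩ := exists_away_iso_shift' _ a b hfin q m hmem
  exact ⟨f, hf, m, ⟨(lbcIsoG (A := A) (Localization.Away f)).app _ ≪≫ e⟩⟩

end Main

theorem main_S1786 (R A : Type u) [CommRing R] [CommRing A] [IsNoetherianRing R]
    [IsNoetherianRing A] [Algebra R A] (n : ℕ) (ψ : MvPolynomial (Fin n) R →ₐ[R] A)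
    (hψ : Function.Surjective ψ) [DRing.HasLBaseChange (algebraMap R (MvPolynomial (Fin n) R))]
    (Rψ : Dual.D (MvPolynomial (Fin n) R) ⥤ Dual.D A) (adj : DRing.restrictD ψ.toRingHom ⊣ Rψ)
    [Module.Flat R A]
    [hL : ∀ f : A, DRing.HasLBaseChange (algebraMap A (Localization.Away f))] :
    (∀ p : PrimeSpectrum R, LocCoh.IsGorensteinRing (A ⊗[R] p.asIdeal.ResidueField)) ↔
      (∀ q : PrimeSpectrum A, ∃ (f : A) (_ : f ∉ q.asIdeal) (m : ℤ),
        Nonempty ((DRing.LBaseChange (algebraMap A (Localization.Away f))).obj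
          (Dual2.shriekVia n Rψ (Dual.inD R R)) ≅
            (Dual.inD (Localization.Away f) (Localization.Away f))⟦m⟧)) := by
  constructor
  · intro hG q
    exact invertible_of_gorenstein R A n ψ hψ Rψ adj q
      ⟨q.asIdeal.comap (algebraMap R A), inferInstance⟩ rfl (hG _)
  · intro hinv p
    exact gorenstein_of_invertible R A n ψ hψ Rψ adj p.asIdeal.ResidueField hinv

end Groth.Agent.Helper3.GorInv
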