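import Mathlib
import Groth.Prelude.Def_DualSh
import Groth.Prelude.Def_QFDual
import Groth.Prelude.Def_RegImm
import Groth.Agent.Lib.Helper3.RelDual3
import Groth.Agent.Lib.Helper3.ShrLci3
import Groth.Agent.Lib.Helper3.RegGlDim
import Groth.Agent.Lib.Helper5.Shriek.QFin
import Groth.Agent.Lib.Helper5.Gen.PerfFlat
import Groth.Agent.Lib.Helper2.Synt.BridgeMp
import Groth.Agent.Lib.Helper2.Alg.RankOne

/-!
# The relative dualizing module of a quasi-finite syntomic ring map is invertible (helper3, S8964)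
-/

set_option autoImplicit false
universe u
open CategoryTheory CategoryTheory.Limits TensorProduct AlgebraicGeometry Triangulated

attribute [local instance] HasDerivedCategory.standard

namespace Groth.Agent.Helper3.QFSynt

open DerivedCategory Helper5.Shriek Groth.Agent.Lib.Helper5.DTenLib
  Groth.Agent.Helper5.TorAmp Groth.Agent.Helper5.PolyTor Groth.Agent.Helper5.PerfHom
  Groth.Agent.Helper3.BCDual Groth.Agent.Helper3.BCDer

section Upper

variable (R A : Type u) [CommRing R] [CommRing A] [IsNoetherianRing R]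
  [Algebra R A] [Module.Flat R A] (n : ℕ) (ψ : MvPolynomial (Fin n) R →ₐ[R] A)
  (hψ : Function.Surjective ψ)

include hψ in
/-- a flat finite type algebra has a finite projective resolution of length `n` over a polynomial
ring in `n` variables surjecting onto it -/
theorem exists_res :
    ∃ E : DRing.Cx (MvPolynomial (Fin n) R), DRing.VanishesOutside E (-(n : ℤ)) 0 ∧
      DRing.TermwiseFiniteProjective E ∧
      Nonempty (DRing.toD E ≅ (DRing.restrictD ψ.toRingHom).obj (Dual.inD A A)) := by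
  letI := ψ.toRingHom.toAlgebra
  haveI : Module.Finite (MvPolynomial (Fin n) R) A :=
    Module.Finite.of_surjective (Algebra.linearMap (MvPolynomial (Fin n) R) A) hψ
  have hpc : DRing.IsPseudoCoherent' (MvPolynomial (Fin n) R)
      (Dual.inD (MvPolynomial (Fin n) R) A) :=
    Groth.Agent.Helper3.FinCoh.pseudoCoherent_inD (A := MvPolynomial (Fin n) R) A
  haveI : Module.Flat R (ModuleCat.of R A) := inferInstanceAs (Module.Flat R A)
  have h1 : DRing.HasTorAmplitudeIn R (-((0 : ℕ) : ℤ)) 0 (Dual.inD R A) := by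
    simpa using hasTorAmplitudeIn_single_of_flat (ModuleCat.of R A)
  have h2 := torAmp_mv n R 0 (ModuleCat.of (MvPolynomial (Fin n) R) A)
    (hasTorAmplitudeIn_of_iso (resIso ψ).symm h1)
  have h2' : DRing.HasTorAmplitudeIn (MvPolynomial (Fin n) R) (-(n : ℤ)) 0
      (Dual.inD (MvPolynomial (Fin n) R) A) :=
    hasTorAmplitudeIn_mono h2 (by push_cast; omega) le_rfl
  obtain ⟨E, hE1, hE2, ⟨eE⟩⟩ := perfAmp_of_pc' hpc h2'
  refine ⟨E, hE1, hE2, ⟨eE ≪≫ ?_⟩⟩
  exact (DerivedCategory.singleFunctor _ 0).mapIso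
      (Groth.Agent.Helper5.PCHom.algEquiv (B := MvPolynomial (Fin n) R) (C := A)).toModuleIso.symm ≪≫
    (Groth.Agent.Helper5.PCHom.restrictDSingle (algebraMap (MvPolynomial (Fin n) R) A)
      (ModuleCat.of A A)).symm

include hψ in
/-- `Ext^j_P(A, P) = 0` for `j > n` -/
theorem isZero_homology_R_unit
    (Rψ : Dual.D (MvPolynomial (Fin n) R) ⥤ Dual.D A) (adj : DRing.restrictD ψ.toRingHom ⊣ Rψ)
    (j : ℤ) (hj : (n : ℤ) < j) :
    IsZero ((homologyFunctor (ModuleCat.{u} A) j).obj
      (Rψ.obj (Dual.inD (MvPolynomial (Fin n) R) (MvPolynomial (Fin n) R)))) := by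
  let P := MvPolynomial (Fin n) R
  obtain ⟨E, hE1, hE2, ⟨eE⟩⟩ := exists_res R A n ψ hψ
  haveI : E.IsKProjective := Groth.Agent.Lib.Helper5.HomCx.isKProjective_of_vanishesAbove E 0
    (fun i hi => hE1 i (Or.inr hi)) (fun i => (hE2 i).2)
  haveI := Helper5.RHomE.hasRHomCx (RelDual.SA ψ.toRingHom)
  obtain ⟨e1⟩ := Helper5.RHomK.nonempty_rhom_iso_of_kproj (RelDual.SA ψ.toRingHom) E
    (eE ≪≫ (RelDual.saIso ψ.toRingHom).symm) (Helper5.RHomK.UA P)
  obtain ⟨e2⟩ := RelDual.nonempty_res_R_iso ψ.toRingHom Rψ adj (Dual.inD P P)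
  let eD : (DRing.restrictD ψ.toRingHom).obj (Rψ.obj (Dual.inD P P)) ≅
      DRing.toD (Helper5.RHomK.dualCx E) :=
    e2 ≪≫ (DRing.RHomCx (RelDual.SA ψ.toRingHom)).mapIso (Helper5.RHomK.inDIso P) ≪≫ e1 ≪≫
      Q.mapIso (Helper5.RHomK.homCxUAIso E)
  have hD := Helper5.RHomK.vanishesOutside_dualCx E (-(n : ℤ)) 0 hE1
  have hz : IsZero ((homologyFunctor (ModuleCat.{u} P) j).obj
      ((DRing.restrictD ψ.toRingHom).obj (Rψ.obj (Dual.inD P P)))) := by
    refine IsZero.of_iso ?_ ((homologyFunctor _ j).mapIso eD)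
    rw [← Groth.Agent.Helper5.TorAmp.exactAt_iff_isZero_H]
    exact HomologicalComplex.ExactAt.of_isZero (hD j (Or.inr (by omega)))
  haveI := ModuleCat.subsingleton_of_isZero hz
  haveI : Subsingleton (Dual.HD A (Rψ.obj (Dual.inD P P)) j) :=
    (Helper5.DMod.HDrestrictEquiv ψ.toRingHom (Rψ.obj (Dual.inD P P)) j).symm.toEquiv.subsingleton
  exact ModuleCat.isZero_of_subsingleton _

include hψ in
/-- for `R → A` flat of finite type, `ω_{A/R}` has no cohomology in positive degrees -/
theorem isLE_omega [DRing.HasLBaseChange (algebraMap R (MvPolynomial (Fin n) R))]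
    (Rψ : Dual.D (MvPolynomial (Fin n) R) ⥤ Dual.D A) (adj : DRing.restrictD ψ.toRingHom ⊣ Rψ) :
    (Dual2.shriekVia n Rψ (Dual.inD R R)).IsLE 0 := by
  let P := MvPolynomial (Fin n) R
  let N : Dual.D P := (DRing.LBaseChange (algebraMap R P)).obj (Dual.inD R R)
  let eN : N ≅ Dual.inD P P := Groth.Agent.Helper3.ShrLci.lbcRing _
  rw [DerivedCategory.isLE_iff]
  intro i hi
  have h1 := isZero_homology_R_unit R A n ψ hψ Rψ adj ((n : ℤ) + i) (by omega)
  have h2 : IsZero ((homologyFunctor (ModuleCat.{u} A) ((n : ℤ) + i)).obj (Rψ.obj N)) :=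
    h1.of_iso ((homologyFunctor _ _).mapIso (Rψ.mapIso eN))
  exact h2.of_iso
    (((homologyFunctor (ModuleCat.{u} A) 0).shiftIso (n : ℤ) i ((n : ℤ) + i) rfl).app (Rψ.obj N))

end Upper

section QF

/-- the structure of `ω_{B/A}` for a quasi-finite map `A → B' → B` -/
theorem qfin_iso (A B B' : Type u) [CommRing A] [CommRing B] [CommRing B'] [IsNoetherianRing A]
    [IsNoetherianRing B] [Algebra A B] [Algebra A B'] [Algebra B' B] [IsScalarTower A B' B]
    [Module.Finite A B']
    (hopen : IsOpenImmersion (Spec.map (CommRingCat.ofHom (algebraMap B' B)))) (n : ℕ)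
    (ψ : MvPolynomial (Fin n) A →ₐ[A] B) (hψ : Function.Surjective ψ)
    (Rψ : Dual.D (MvPolynomial (Fin n) A) ⥤ Dual.D B) (adj : DRing.restrictD ψ.toRingHom ⊣ Rψ) :
    ∃ M : Dual.D B', (∀ i : ℤ, i < 0 → Subsingleton (Dual.HD B' M i)) ∧
      Nonempty (Dual2.shriekVia n Rψ (Dual.inD A A) ≅
        (DRing.LBaseChange (algebraMap B' B)).obj M) := by
  haveI : IsNoetherianRing B' := IsNoetherianRing.of_finite A B'
  haveI : Module.Flat B' B := flat_of_isOpenImmersion B' B hopen
  haveI : Algebra.IsEpi B' B := isEpi_of_isOpenImmersion B' B hopen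
  have hft : Algebra.FiniteType A B' := inferInstance
  obtain ⟨n', ψ', hψ'⟩ := Algebra.FiniteType.iff_quotient_mvPolynomial''.1 hft
  let χ : MvPolynomial (Fin n) B' →ₐ[B'] B := MvPolynomial.aeval (fun i => ψ (MvPolynomial.X i))
  have hχ : Function.Surjective χ := by
    intro y
    obtain ⟨p, rfl⟩ := hψ y
    refine ⟨MvPolynomial.map (algebraMap A B') p, ?_⟩
    show MvPolynomial.aeval (fun i => ψ (MvPolynomial.X i)) (MvPolynomial.map (algebraMap A B') p)
      = ψ p
    rw [MvPolynomial.aeval_map_algebraMap]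
    conv_rhs => rw [MvPolynomial.aeval_unique ψ]
    rfl
  let K : Dual.D A := Dual.inD A A
  haveI : K.IsGE 0 := inferInstance
  have hK : ∀ i : ℤ, i < 0 → Subsingleton (Dual.HD A K i) := by
    intro i hi
    exact ModuleCat.subsingleton_of_isZero (DerivedCategory.isZero_of_isGE K 0 i hi)
  let R' : Dual.D A ⥤ Dual.D B' := RCoext (algebraMap A B')
  have adjR' : DRing.restrictD (algebraMap A B') ⊣ R' := rAdj _
  let M : Dual.D B' := R'.obj K
  obtain ⟨i1⟩ := shriek_comp A B' B n' ψ' hψ' (RCoext ψ'.toRingHom) (rAdj _)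
    n χ hχ (RCoext χ.toRingHom) (rAdj _) n ψ hψ Rψ adj K 0 hK
  obtain ⟨i2⟩ := finite_shriek A B' n' ψ' hψ' (RCoext ψ'.toRingHom) (rAdj _) R' adjR' K
  have hM : ∀ i : ℤ, i < 0 → Subsingleton (Dual.HD B' M i) := fun i hi =>
    Groth.Agent.Helper3.FinCoh.subsingleton_homology_R adjR' K 0 i hi
  obtain ⟨i3⟩ := shriek_of_epi_flat B' B n χ hχ (RCoext χ.toRingHom) (rAdj _) M 0 hM
  let i2' : Dual2.shriekVia n (RCoext χ.toRingHom)
        (Dual2.shriekVia n' (RCoext ψ'.toRingHom) K) ≅
      Dual2.shriekVia n (RCoext χ.toRingHom) M :=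
    (shiftFunctor (Dual.D B) (n : ℤ)).mapIso ((RCoext χ.toRingHom).mapIso
      ((DRing.LBaseChange (algebraMap B' (MvPolynomial (Fin n) B'))).mapIso i2))
  exact ⟨M, hM, ⟨i1 ≪≫ i2' ≪≫ i3⟩⟩

/-- for a quasi-finite map, `ω_{B/A}` has no cohomology in negative degrees -/
theorem isGE_omega_qf (A B B' : Type u) [CommRing A] [CommRing B] [CommRing B']
    [IsNoetherianRing A] [IsNoetherianRing B] [Algebra A B] [Algebra A B'] [Algebra B' B]
    [IsScalarTower A B' B] [Module.Finite A B']
    (hopen : IsOpenImmersion (Spec.map (CommRingCat.ofHom (algebraMap B' B)))) (n : ℕ)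
    (ψ : MvPolynomial (Fin n) A →ₐ[A] B) (hψ : Function.Surjective ψ)
    (Rψ : Dual.D (MvPolynomial (Fin n) A) ⥤ Dual.D B) (adj : DRing.restrictD ψ.toRingHom ⊣ Rψ) :
    (Dual2.shriekVia n Rψ (Dual.inD A A)).IsGE 0 := by
  obtain ⟨M, hM, ⟨e⟩⟩ := qfin_iso A B B' hopen n ψ hψ Rψ adj
  haveI : Module.Flat B' B := flat_of_isOpenImmersion B' B hopen
  haveI : M.IsGE 0 := Groth.Agent.Helper3.RegGlDim.isGE_of_subsingleton M 0 hM
  haveI : ((G (A := B') B).obj M).IsGE 0 := isGE_G B M 0
  exact (TStructure.t : TStructure (Dual.D B)).isGE_of_iso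
    (e ≪≫ (lbcIsoG (A := B') B).app M).symm 0

end QF

section Local

variable {B : Type u} [CommRing B]

/-- if a complex concentrated in degree `0` becomes a shift of the unit after inverting `f ≠ 0`,
the shift is zero and `H⁰` becomes free of rank one -/
theorem nonempty_equiv_of_iso_shift (X : Dual.D B) [X.IsGE 0] [X.IsLE 0] (f : B)
    [Nontrivial (Localization.Away f)] (m : ℤ)
    (e : (DRing.LBaseChange (algebraMap B (Localization.Away f))).obj X ≅
      (Dual.inD (Localization.Away f) (Localization.Away f))⟦m⟧) :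
    Nonempty ((Localization.Away f ⊗[B] Dual.HD B X 0) ≃ₗ[Localization.Away f]
      Localization.Away f) := by
  let Bf := Localization.Away f
  let Y : Dual.D Bf := (DRing.LBaseChange (algebraMap B Bf)).obj X
  let eG : Y ≅ (G (A := B) Bf).obj X := (lbcIsoG (A := B) Bf).app X
  haveI : ((G (A := B) Bf).obj X).IsGE 0 := isGE_G Bf X 0
  haveI : ((G (A := B) Bf).obj X).IsLE 0 := isLE_G Bf X 0
  haveI : Y.IsGE 0 := (TStructure.t : TStructure (Dual.D Bf)).isGE_of_iso eG.symm 0
  haveI : Y.IsLE 0 := (TStructure.t : TStructure (Dual.D Bf)).isLE_of_iso eG.symm 0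
  let U : Dual.D Bf := Dual.inD Bf Bf
  let eU : (homologyFunctor (ModuleCat.{u} Bf) 0).obj U ≅ ModuleCat.of Bf Bf :=
    (singleFunctorCompHomologyFunctorIso (ModuleCat.{u} Bf) 0).app (ModuleCat.of Bf Bf)
  have hU : ¬ IsZero ((homologyFunctor (ModuleCat.{u} Bf) 0).obj U) := by
    intro hz
    have hz' : IsZero (ModuleCat.of Bf Bf) := hz.of_iso eU.symm
    have hs : Subsingleton Bf := ModuleCat.subsingleton_of_isZero hz'
    exact not_subsingleton Bf hs
  have hm : m = 0 := by
    by_contra hne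
    apply hU
    have hY : IsZero ((homologyFunctor (ModuleCat.{u} Bf) (-m)).obj Y) := by
      rcases lt_or_gt_of_ne hne with h | h
      · exact isZero_of_isLE Y 0 (-m) (by omega)
      · exact isZero_of_isGE Y 0 (-m) (by omega)
    have h1 : IsZero ((homologyFunctor (ModuleCat.{u} Bf) (-m)).obj (U⟦m⟧)) :=
      hY.of_iso ((homologyFunctor _ _).mapIso e.symm)
    exact h1.of_iso
      (((homologyFunctor (ModuleCat.{u} Bf) 0).shiftIso m (-m) 0 (by omega)).app U).symm
  subst hm
  let e1 : Dual.HD Bf Y 0 ≃ₗ[Bf] Bf :=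
    ((homologyFunctor (ModuleCat.{u} Bf) 0).mapIso
      (e ≪≫ (shiftFunctorZero (Dual.D Bf) ℤ).app U) ≪≫ eU).toLinearEquiv
  let e2 : Dual.HD Bf Y 0 ≃ₗ[Bf] (Bf ⊗[B] Dual.HD B X 0) :=
    Helper5.Shriek.QFin.hdLbc B Bf X (Dual.HD B X 0) (LinearEquiv.refl B _)
  exact ⟨e2.symm ≪≫ₗ e1⟩

/-- a finite module over a Noetherian ring which is locally free of rank one is invertible -/
theorem invertible_of_locally_free_rank_one (B : Type u) [CommRing B] [IsNoetherianRing B]
    (M : Type u) [AddCommGroup M] [Module B M] [Module.Finite B M]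
    (h : ∀ q : PrimeSpectrum B, ∃ f : B, f ∉ q.asIdeal ∧
      Nonempty ((Localization.Away f ⊗[B] M) ≃ₗ[Localization.Away f] Localization.Away f)) :
    Module.Invertible B M := by
  haveI : Module.FinitePresentation B M := Module.finitePresentation_of_finite B M
  haveI : Module.Projective B M := by
    rw [← Module.freeLocus_eq_univ_iff, Set.eq_univ_iff_forall]
    intro q
    obtain ⟨f, hf, ⟨e⟩⟩ := h q
    have hsub : (PrimeSpectrum.basicOpen f : Set (PrimeSpectrum B)) ⊆ Module.freeLocus B M := by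
      rw [Module.basicOpen_subset_freeLocus_iff]
      let e' : LocalizedModule.Away f M ≃ₗ[Localization.Away f] Localization.Away f :=
        (LocalizedModule.equivTensorProduct (Submonoid.powers f) M) ≪≫ₗ e
      exact Module.Projective.of_equiv e'.symm
    exact hsub ((PrimeSpectrum.mem_basicOpen f q).2 hf)
  apply Groth.Agent.Helper2.RankOne.invertible
  intro q
  obtain ⟨f, hf, ⟨e⟩⟩ := h q
  have hq : q ∈ Set.range (PrimeSpectrum.comap (algebraMap B (Localization.Away f))) := by
    rw [PrimeSpectrum.localization_away_comap_range (Localization.Away f) f]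
    exact (PrimeSpectrum.mem_basicOpen f q).2 hf
  obtain ⟨p, hp⟩ := hq
  haveI : Nontrivial (Localization.Away f) := p.nontrivial
  rw [← hp, ← Module.rankAtStalk_baseChange (S := Localization.Away f) (M := M) p,
    congrFun (Module.rankAtStalk_eq_of_equiv e) p,
    congrFun (Module.rankAtStalk_self (R := Localization.Away f)) p]
  rfl

end Local

section Main

/-- a quasi-finite syntomic map has an invertible relative dualizing module -/
theorem main_S8964 (A B' B : Type u) [CommRing A] [CommRing B'] [CommRing B] [IsNoetherianRing A]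
    [Algebra A B'] [Algebra B' B] [Algebra A B] [IsScalarTower A B' B]
    (hf : QFDual.IsQFFactor A B' B) (hs : Synt.IsSyntomic A B) :
    Module.Invertible B (QFDual.omega A B' B) := by
  obtain ⟨hflat, hlci⟩ := (Groth.Agent.Helper2.Synt.isSyntomic_iff_flat_and_isLCI A B).1 hs
  haveI := hflat
  have hft : Algebra.FiniteType A B := hlci.1
  haveI : IsNoetherianRing B := Algebra.FiniteType.isNoetherianRing A B
  haveI := hf.finite
  have hopen := hf.isOpenImmersion
  obtain ⟨n, ψ, hψ⟩ := Algebra.FiniteType.iff_quotient_mvPolynomial''.1 hft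
  let Rψ := RCoext ψ.toRingHom
  let adj := rAdj ψ.toRingHom
  obtain ⟨e0⟩ := Helper5.Shriek.QFin.qfin_main A B B' hopen n ψ hψ Rψ adj
  let X : Dual.D B := Dual2.shriekVia n Rψ (Dual.inD A A)
  haveI : X.IsLE 0 := isLE_omega A B n ψ hψ Rψ adj
  haveI : X.IsGE 0 := isGE_omega_qf A B B' hopen n ψ hψ Rψ adj
  have h0 : ∀ i : ℤ, i < 0 → Subsingleton (Dual.HD A (Dual.inD A A) i) := fun i hi =>
    ModuleCat.subsingleton_of_isZero (isZero_of_isGE (Dual.inD A A) 0 i hi)
  have hfin := (Groth.Agent.Helper3.FinCoh.main_S1783 A B n ψ hψ Rψ adj (Dual.inD A A) 0 h0).2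
    (fun i => Groth.Agent.Helper3.BCDual.finite_homology_inD (A := A) A i)
  haveI : Module.Finite B (Dual.HD B X 0) := hfin 0
  haveI : Module.Invertible B (Dual.HD B X 0) := by
    apply invertible_of_locally_free_rank_one
    intro q
    obtain ⟨f, hfq, m, ⟨e⟩⟩ := Groth.Agent.Helper3.ShrLci.main A B hlci n ψ hψ Rψ adj q
    have hq : q ∈ Set.range (PrimeSpectrum.comap (algebraMap B (Localization.Away f))) := by
      rw [PrimeSpectrum.localization_away_comap_range (Localization.Away f) f]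
      exact (PrimeSpectrum.mem_basicOpen f q).2 hfq
    obtain ⟨p, -⟩ := hq
    haveI : Nontrivial (Localization.Away f) := p.nontrivial
    exact ⟨f, hfq, nonempty_equiv_of_iso_shift X f m e⟩
  exact Module.Invertible.congr e0

end Main

end Groth.Agent.Helper3.QFSynt
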