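import Mathlib
import Groth.Prelude.Def_DualSh
import Groth.Prelude.Def_QFDual
import Groth.Agent.Lib.Helper3.QFSynt1
import Groth.Agent.Lib.Helper3.GorInv2
import Groth.Agent.Lib.Helper3.SchDual3
import Groth.Agent.Lib.Helper8.GorFlat5

/-!
# Invertibility of the relative dualizing module of a flat quasi-finite map is fibrewise
(helper3, S8963)
-/

set_option autoImplicit false
universe u
open CategoryTheory CategoryTheory.Limits TensorProduct AlgebraicGeometry Triangulated

attribute [local instance] HasDerivedCategory.standard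

namespace Groth.Agent.Helper3.QFFib

open DerivedCategory Helper5.Shriek Groth.Agent.Lib.Helper5.DTenLib
  Groth.Agent.Helper3.BCDual Groth.Agent.Helper3.BCDer Groth.Agent.Helper3.QFSynt

section Factor

variable (A B' B : Type u) [CommRing A] [CommRing B'] [CommRing B]
  [Algebra A B'] [Algebra B' B] [Algebra A B] [IsScalarTower A B' B]

/-- a quasi-finite factorisation makes `B` of finite type over `A` -/
theorem finiteType_of_qf (hf : QFDual.IsQFFactor A B' B) : Algebra.FiniteType A B := by
  haveI := hf.finite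
  haveI := hf.isOpenImmersion
  have h : LocallyOfFiniteType (Spec.map (CommRingCat.ofHom (algebraMap B' B))) := inferInstance
  rw [HasRingHomProperty.Spec_iff (P := @LocallyOfFiniteType)] at h
  have h2 : Algebra.FiniteType B' B := RingHom.finiteType_algebraMap.1 h
  exact Algebra.FiniteType.trans (inferInstance : Algebra.FiniteType A B') h2

end Factor

section BaseChange

variable (A B' B κ B'₁ B₁ : Type u) [CommRing A] [CommRing B'] [CommRing B] [CommRing κ]
  [CommRing B'₁] [CommRing B₁]
  [Algebra A B'] [Algebra B' B] [Algebra A B] [IsScalarTower A B' B]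
  [Algebra A κ]
  [Algebra B' B'₁] [Algebra κ B'₁] [Algebra A B'₁] [IsScalarTower A κ B'₁] [IsScalarTower A B' B'₁]
  [Algebra B B₁] [Algebra κ B₁] [Algebra A B₁] [IsScalarTower A κ B₁] [IsScalarTower A B B₁]
  [Algebra B'₁ B₁] [Algebra B' B₁] [IsScalarTower B' B'₁ B₁] [IsScalarTower B' B B₁]
  [IsScalarTower κ B'₁ B₁]

/-- quasi-finite factorisations are stable under base change -/
theorem isQFFactor_baseChange (hf : QFDual.IsQFFactor A B' B)
    (h1 : Algebra.IsPushout A κ B' B'₁) (h2 : Algebra.IsPushout A κ B B₁) :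
    QFDual.IsQFFactor κ B'₁ B₁ := by
  haveI : IsScalarTower A B'₁ B₁ := IsScalarTower.of_algebraMap_eq fun a => by
    rw [IsScalarTower.algebraMap_apply A κ B₁, IsScalarTower.algebraMap_apply κ B'₁ B₁,
      ← IsScalarTower.algebraMap_apply A κ B'₁]
  haveI := hf.finite
  refine ⟨?_, ?_⟩
  · exact Module.Finite.equiv h1.out.equiv
  · haveI h1' : Algebra.IsPushout A B' κ B'₁ := h1.symm
    have h3 : Algebra.IsPushout B' B B'₁ B₁ :=
      (Algebra.IsPushout.comp_iff (R := A) (S := B') (R' := κ) (S' := B'₁) (T := B)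
        (T' := B₁)).1 h2.symm
    have h4 := CommRingCat.isPushout_iff_isPushout.2 h3
    have h5 := isPullback_SpecMap_of_isPushout _ _ _ _ h4
    exact MorphismProperty.of_isPullback (P := @IsOpenImmersion) h5 hf.isOpenImmersion

end BaseChange

section Key

variable (A B' B : Type u) [CommRing A] [CommRing B'] [CommRing B] [IsNoetherianRing A]
  [IsNoetherianRing B] [Algebra A B'] [Algebra B' B] [Algebra A B] [IsScalarTower A B' B]
  [Module.Flat A B]

/-- for a flat quasi-finite map, `ω_{B/A}` is invertible iff all fibres are Gorenstein -/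
theorem invertible_iff_fibres (hf : QFDual.IsQFFactor A B' B) :
    Module.Invertible B (QFDual.omega A B' B) ↔
      ∀ p : PrimeSpectrum A, LocCoh.IsGorensteinRing (B ⊗[A] p.asIdeal.ResidueField) := by
  haveI := hf.finite
  have hopen := hf.isOpenImmersion
  have hft : Algebra.FiniteType A B := finiteType_of_qf A B' B hf
  obtain ⟨n, ψ, hψ⟩ := Algebra.FiniteType.iff_quotient_mvPolynomial''.1 hft
  let Rψ := RCoext ψ.toRingHom
  let adj := rAdj ψ.toRingHom
  obtain ⟨e0⟩ := Helper5.Shriek.QFin.qfin_main A B B' hopen n ψ hψ Rψ adj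
  let X : Dual.D B := Dual2.shriekVia n Rψ (Dual.inD A A)
  haveI : X.IsLE 0 := isLE_omega A B n ψ hψ Rψ adj
  haveI : X.IsGE 0 := isGE_omega_qf A B B' hopen n ψ hψ Rψ adj
  have h0 : ∀ i : ℤ, i < 0 → Subsingleton (Dual.HD A (Dual.inD A A) i) := fun i hi =>
    ModuleCat.subsingleton_of_isZero (isZero_of_isGE (Dual.inD A A) 0 i hi)
  have hfin := (Groth.Agent.Helper3.FinCoh.main_S1783 A B n ψ hψ Rψ adj (Dual.inD A A) 0 h0).2
    (fun i => Groth.Agent.Helper3.BCDual.finite_homology_inD (A := A) A i)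
  haveI : Module.Finite B (Dual.HD B X 0) := hfin 0
  refine Iff.trans ?_ (Groth.Agent.Helper3.GorInv.main_S1786 A B n ψ hψ Rψ adj).symm
  constructor
  · intro hinv q
    haveI := hinv
    haveI : Module.Invertible B (Dual.HD B X 0) := Module.Invertible.congr e0.symm
    haveI : Module.FinitePresentation B (Dual.HD B X 0) :=
      Module.finitePresentation_of_finite B _
    have hfree : q ∈ Module.freeLocus B (Dual.HD B X 0) := by
      have h1 : Module.freeLocus B (Dual.HD B X 0) = Set.univ :=
        Module.freeLocus_eq_univ_iff.2 inferInstance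
      rw [h1]
      exact Set.mem_univ q
    have hr : Module.rankAtStalk (Dual.HD B X 0) q = 1 := by
      simp [Module.rankAtStalk, Module.Invertible.finrank_eq_one]
    obtain ⟨f, hfq, ⟨e⟩⟩ := Groth.Agent.Helper3.SchDual.exists_away_free_rank_one B
      (Dual.HD B X 0) q hfree hr
    refine ⟨f, hfq, 0, ?_⟩
    let Bf := Localization.Away f
    let Y : Dual.D Bf := (DRing.LBaseChange (algebraMap B Bf)).obj X
    let eG : Y ≅ (G (A := B) Bf).obj X := (lbcIsoG (A := B) Bf).app X
    haveI : ((G (A := B) Bf).obj X).IsGE 0 := isGE_G Bf X 0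
    haveI : ((G (A := B) Bf).obj X).IsLE 0 := isLE_G Bf X 0
    haveI : Y.IsGE 0 := (TStructure.t : TStructure (Dual.D Bf)).isGE_of_iso eG.symm 0
    haveI : Y.IsLE 0 := (TStructure.t : TStructure (Dual.D Bf)).isLE_of_iso eG.symm 0
    have hY : Nonempty (Y ≅ (Dual.inD Bf Bf)⟦(0 : ℤ)⟧) := by
      rw [Groth.Agent.Helper3.GorLocus.nonempty_iso_shift_unit_iff]
      refine ⟨fun i hi => ?_, ?_⟩
      · have hi' : i ≠ 0 := by simpa using hi
        rcases lt_or_gt_of_ne hi' with h | h
        · exact ModuleCat.subsingleton_of_isZero (isZero_of_isGE Y 0 i h)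
        · exact ModuleCat.subsingleton_of_isZero (isZero_of_isLE Y 0 i h)
      · let e2 : Dual.HD Bf Y 0 ≃ₗ[Bf] (Bf ⊗[B] Dual.HD B X 0) :=
          Helper5.Shriek.QFin.hdLbc B Bf X (Dual.HD B X 0) (LinearEquiv.refl B _)
        have h3 : Nonempty (Dual.HD Bf Y 0 ≃ₗ[Bf] Bf) := ⟨e2 ≪≫ₗ e⟩
        rw [neg_zero]
        exact h3
    exact hY
  · intro hloc
    haveI : Module.Invertible B (Dual.HD B X 0) := by
      apply invertible_of_locally_free_rank_one
      intro q
      obtain ⟨f, hfq, m, ⟨e⟩⟩ := hloc q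
      have hq : q ∈ Set.range (PrimeSpectrum.comap (algebraMap B (Localization.Away f))) := by
        rw [PrimeSpectrum.localization_away_comap_range (Localization.Away f) f]
        exact (PrimeSpectrum.mem_basicOpen f q).2 hfq
      obtain ⟨p, -⟩ := hq
      haveI : Nontrivial (Localization.Away f) := p.nontrivial
      exact ⟨f, hfq, nonempty_equiv_of_iso_shift X f m e⟩
    exact Module.Invertible.congr e0

end Key

section Field

/-- over a field, tensoring with the residue field of a prime of the field changes nothing -/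
theorem gor_tensor_residueField_iff (κ S : Type u) [Field κ] [CommRing S] [Algebra κ S]
    (p' : PrimeSpectrum κ) :
    LocCoh.IsGorensteinRing (S ⊗[κ] p'.asIdeal.ResidueField) ↔ LocCoh.IsGorensteinRing S := by
  let e : S ≃+* (S ⊗[κ] p'.asIdeal.ResidueField) :=
    ((Algebra.TensorProduct.rid κ κ S).symm.trans
      (Algebra.TensorProduct.congr (AlgEquiv.refl : S ≃ₐ[κ] S)
        (Ideal.algEquivResidueFieldOfField p'.asIdeal))).toRingEquiv
  exact ⟨fun h => Groth.Agent.Helper8.GorFlat.isGorensteinRing_of_ringEquiv e.symm h,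
    fun h => Groth.Agent.Helper8.GorFlat.isGorensteinRing_of_ringEquiv e h⟩

/-- over a field, `ω` is invertible iff the ring is Gorenstein -/
theorem invertible_iff_gorenstein_field (κ B'₁ B₁ : Type u) [Field κ] [CommRing B'₁]
    [CommRing B₁] [IsNoetherianRing B₁] [Algebra κ B'₁] [Algebra B'₁ B₁] [Algebra κ B₁]
    [IsScalarTower κ B'₁ B₁] (hf : QFDual.IsQFFactor κ B'₁ B₁) :
    Module.Invertible B₁ (QFDual.omega κ B'₁ B₁) ↔ LocCoh.IsGorensteinRing B₁ := by
  refine (invertible_iff_fibres κ B'₁ B₁ hf).trans ?_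
  constructor
  · intro h
    exact (gor_tensor_residueField_iff κ B₁ ⟨⊥, Ideal.bot_prime⟩).1 (h _)
  · intro h p'
    exact (gor_tensor_residueField_iff κ B₁ p').2 h

end Field

section Tensor

variable (A B' B κ : Type u) [CommRing A] [CommRing B'] [CommRing B] [Field κ]
  [Algebra A B'] [Algebra B' B] [Algebra A B] [IsScalarTower A B' B] [Algebra A κ]

attribute [local instance] Algebra.TensorProduct.rightAlgebra

/-- the algebra structure of `B ⊗ κ` over `B' ⊗ κ` -/
noncomputable abbrev tAlg : Algebra (B' ⊗[A] κ) (B ⊗[A] κ) :=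
  (Algebra.TensorProduct.map (IsScalarTower.toAlgHom A B' B) (AlgHom.id A κ)).toRingHom.toAlgebra

attribute [local instance] tAlg

instance tower1 : IsScalarTower B' (B' ⊗[A] κ) (B ⊗[A] κ) :=
  IsScalarTower.of_algebraMap_eq fun b' => by
    show algebraMap B' (B ⊗[A] κ) b' =
      Algebra.TensorProduct.map (IsScalarTower.toAlgHom A B' B) (AlgHom.id A κ)
        (algebraMap B' (B' ⊗[A] κ) b')
    rw [Algebra.TensorProduct.algebraMap_apply, Algebra.TensorProduct.algebraMap_apply,
      Algebra.TensorProduct.map_tmul]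
    simp

instance tower2 : IsScalarTower κ (B' ⊗[A] κ) (B ⊗[A] κ) :=
  IsScalarTower.of_algebraMap_eq fun c => by
    show (1 : B) ⊗ₜ[A] c =
      Algebra.TensorProduct.map (IsScalarTower.toAlgHom A B' B) (AlgHom.id A κ)
        ((1 : B') ⊗ₜ[A] c)
    rw [Algebra.TensorProduct.map_tmul]
    simp

variable [IsNoetherianRing A] [IsNoetherianRing B]

/-- if `ω` of the standard fibre over `κ` is invertible, that fibre is Gorenstein -/
theorem fibre_gorenstein (hf : QFDual.IsQFFactor A B' B)
    (hall : ∀ (B'₁ B₁ : Type u) [CommRing B'₁] [CommRing B₁] [Algebra B' B'₁] [Algebra κ B'₁]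
      [Algebra A B'₁] [IsScalarTower A κ B'₁] [IsScalarTower A B' B'₁] [Algebra B B₁]
      [Algebra κ B₁] [Algebra A B₁] [IsScalarTower A κ B₁] [IsScalarTower A B B₁]
      [Algebra B'₁ B₁] [Algebra B' B₁] [IsScalarTower B' B'₁ B₁] [IsScalarTower B' B B₁]
      [IsScalarTower κ B'₁ B₁], Algebra.IsPushout A κ B' B'₁ → Algebra.IsPushout A κ B B₁ →
      Module.Invertible B₁ (QFDual.omega κ B'₁ B₁)) :
    LocCoh.IsGorensteinRing (B ⊗[A] κ) := by
  have h1 : Algebra.IsPushout A κ B' (B' ⊗[A] κ) := TensorProduct.isPushout'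
  have h2 : Algebra.IsPushout A κ B (B ⊗[A] κ) := TensorProduct.isPushout'
  have hinv := hall (B' ⊗[A] κ) (B ⊗[A] κ) h1 h2
  have hf1 : QFDual.IsQFFactor κ (B' ⊗[A] κ) (B ⊗[A] κ) :=
    isQFFactor_baseChange A B' B κ _ _ hf h1 h2
  have hft : Algebra.FiniteType κ (B ⊗[A] κ) := finiteType_of_qf κ (B' ⊗[A] κ) (B ⊗[A] κ) hf1
  haveI : IsNoetherianRing (B ⊗[A] κ) := Algebra.FiniteType.isNoetherianRing κ _
  exact (invertible_iff_gorenstein_field κ (B' ⊗[A] κ) (B ⊗[A] κ) hf1).1 hinv

end Tensor

section Main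

/-- invertibility of the relative dualizing module of a flat quasi-finite map is fibrewise -/
theorem main_S8963 (A B' B : Type u) [CommRing A] [CommRing B'] [CommRing B] [IsNoetherianRing A]
    [IsNoetherianRing B] [Algebra A B'] [Algebra B' B] [Algebra A B] [IsScalarTower A B' B]
    [Module.Flat A B] (hf : QFDual.IsQFFactor A B' B) :
    Module.Invertible B (QFDual.omega A B' B) ↔
      ∀ (p : Ideal A) [p.IsPrime] (B'₁ B₁ : Type u) [CommRing B'₁] [CommRing B₁] [Algebra B' B'₁]
        [Algebra p.ResidueField B'₁] [Algebra A B'₁] [IsScalarTower A p.ResidueField B'₁]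
        [IsScalarTower A B' B'₁] [Algebra B B₁] [Algebra p.ResidueField B₁] [Algebra A B₁]
        [IsScalarTower A p.ResidueField B₁] [IsScalarTower A B B₁] [Algebra B'₁ B₁]
        [Algebra B' B₁] [IsScalarTower B' B'₁ B₁] [IsScalarTower B' B B₁]
        [IsScalarTower p.ResidueField B'₁ B₁], Algebra.IsPushout A p.ResidueField B' B'₁ →
        Algebra.IsPushout A p.ResidueField B B₁ →
        Module.Invertible B₁ (QFDual.omega p.ResidueField B'₁ B₁) := by
  refine (invertible_iff_fibres A B' B hf).trans ?_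
  constructor
  · intro hG p hp B'₁ B₁ i1 i2 i3 i4 i5 i6 i7 i8 i9 i10 i11 i12 i13 i14 i15 i16 i17 h1 h2
    have hf1 : QFDual.IsQFFactor p.ResidueField B'₁ B₁ :=
      isQFFactor_baseChange A B' B p.ResidueField B'₁ B₁ hf h1 h2
    have hft : Algebra.FiniteType p.ResidueField B₁ :=
      finiteType_of_qf p.ResidueField B'₁ B₁ hf1
    haveI : IsNoetherianRing B₁ := Algebra.FiniteType.isNoetherianRing p.ResidueField B₁
    refine (invertible_iff_gorenstein_field p.ResidueField B'₁ B₁ hf1).2 ?_
    have hg := hG ⟨p, hp⟩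
    haveI := h2
    let e : (B ⊗[A] p.ResidueField) ≃+* B₁ :=
      (Algebra.TensorProduct.comm A B p.ResidueField).toRingEquiv.trans
        (Algebra.IsPushout.equiv A p.ResidueField B B₁).toRingEquiv
    exact Groth.Agent.Helper8.GorFlat.isGorensteinRing_of_ringEquiv e hg
  · intro hall p
    refine fibre_gorenstein A B' B p.asIdeal.ResidueField hf ?_
    intro B'₁ B₁ i1 i2 i3 i4 i5 i6 i7 i8 i9 i10 i11 i12 i13 i14 i15 i16 i17 h1 h2
    exact hall p.asIdeal B'₁ B₁ h1 h2

end Main

end Groth.Agent.Helper3.QFFib
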