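import Mathlib
import Groth.Prelude.Def_DualSh
import Groth.Prelude.Def_QFDual
import Groth.Agent.Lib.Helper3.QFFib1
import Groth.Agent.Lib.Helper3.NilTor
import Groth.Agent.Lib.Helper5.TBC.ShriekBC
import Groth.Agent.Lib.Helper5.TBC.Pushout
import Groth.Agent.Lib.Helper5.TorAmp.FlatTrunc
import Groth.Agent.Lib.Helper5.KProj.LTen
import Groth.Agent.Lib.Helper5.DMod.DCRestrict

/-!
# The relative dualizing module of a flat quasi-finite map is flat over the base (helper3, S8944)
-/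

set_option autoImplicit false
universe u
open CategoryTheory CategoryTheory.Limits TensorProduct AlgebraicGeometry Triangulated
  MonoidalCategory

attribute [local instance] HasDerivedCategory.standard

namespace Groth.Agent.Helper3.QFFlat

open DerivedCategory

section Bridge

open Groth.Agent.Helper5.TorAmp Groth.Agent.Helper5.FlatAcyc Groth.Agent.Lib.Helper5.KProj
  Groth.Agent.Helper3.NilTor

variable {A : Type u} [CommRing A]

/-- `P ⊗ M ≅ P ⊗ M'` for isomorphic modules -/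
noncomputable def tmIso {M M' : ModuleCat.{u} A} (g : M ≅ M') (P : DRing.Cx A) :
    (TM M).obj P ≅ (TM M').obj P where
  hom := tmMap g.hom P
  inv := tmMap g.inv P
  hom_inv_id := by
    refine HomologicalComplex.hom_ext _ _ (fun n => ?_)
    show P.X n ◁ g.hom ≫ P.X n ◁ g.inv = 𝟙 (P.X n ⊗ M)
    rw [← MonoidalCategory.whiskerLeft_comp, Iso.hom_inv_id, MonoidalCategory.whiskerLeft_id]
  inv_hom_id := by
    refine HomologicalComplex.hom_ext _ _ (fun n => ?_)
    show P.X n ◁ g.inv ≫ P.X n ◁ g.hom = 𝟙 (P.X n ⊗ M')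
    rw [← MonoidalCategory.whiskerLeft_comp, Iso.inv_hom_id, MonoidalCategory.whiskerLeft_id]

/-- a module whose derived base changes to all quotients `A ⧸ I` have no `H^{-1}` is flat -/
theorem flat_of_lbc_quotient (M : ModuleCat.{u} A)
    (h : ∀ I : Ideal A, Subsingleton (Dual.HD (A ⧸ I)
      ((DRing.LBaseChange (algebraMap A (A ⧸ I))).obj
        ((singleFunctor (ModuleCat.{u} A) 0).obj M)) (-1))) :
    Module.Flat A M := by
  let K : Dual.D A := (singleFunctor (ModuleCat.{u} A) 0).obj M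
  haveI : K.IsLE 0 := inferInstance
  haveI : K.IsGE 0 := inferInstance
  obtain ⟨P, hPb, hproj, hKP, ⟨e⟩⟩ := exists_proj_rep K 0
  haveI := hKP
  have hflat : DRing.TermwiseFlat P := termwiseFlat_of_projective P hproj
  have hP : P.ExactAt (0 - 1) := by
    rw [exactAt_iff_subsingleton_HD]
    refine subsingleton_HD_of_iso e.symm _ ?_
    exact ModuleCat.subsingleton_of_isZero (isZero_of_isGE K 0 (0 - 1) (by omega))
  have hT : ∀ I : Ideal A, ((TM (ModuleCat.of A (A ⧸ I))).obj P).ExactAt (0 - 1) := by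
    intro I
    have h1 : ((bcCx (algebraMap A (A ⧸ I))).obj P).ExactAt (0 - 1) := by
      rw [exactAt_iff_subsingleton_HD]
      exact subsingleton_HD_of_iso
        ((DRing.LBaseChange (algebraMap A (A ⧸ I))).mapIso e.symm ≪≫
          lbcIso (algebraMap A (A ⧸ I)) P) _ (h I)
    have h2 : ((TM (𝟙_ (ModuleCat.{u} (A ⧸ I)))).obj
        ((bcCx (algebraMap A (A ⧸ I))).obj P)).ExactAt (0 - 1) :=
      h1.of_iso (tmUnitIso ((bcCx (algebraMap A (A ⧸ I))).obj P)).symm
    have h3 := exactAt_TM_restrict (algebraMap A (A ⧸ I)) (𝟙_ (ModuleCat.{u} (A ⧸ I))) P (0 - 1) h2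
    exact h3.of_iso (tmIso (Helper5.Shriek.resUnitLin A (A ⧸ I)).toModuleIso P)
  haveI : Module.Flat A (P.opcycles 0) := flat_opcycles P hflat 0 hP hT
  have hd : P.d 0 1 = 0 := (hPb 1 (by omega)).eq_of_tgt _ _
  let e1 : P.homology 0 ≅ P.opcycles 0 := P.isoHomologyι 0 1 (by simp) hd
  let e2 : (homologyFunctor (ModuleCat.{u} A) 0).obj (Q.obj P) ≅ P.homology 0 :=
    (homologyFunctorFactors (ModuleCat.{u} A) 0).app P
  let e3 : (homologyFunctor (ModuleCat.{u} A) 0).obj K ≅ M :=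
    (singleFunctorCompHomologyFunctorIso (ModuleCat.{u} A) 0).app M
  let e4 : M ≅ P.opcycles 0 :=
    e3.symm ≪≫ (homologyFunctor (ModuleCat.{u} A) 0).mapIso e.symm ≪≫ e2 ≪≫ e1
  exact Module.Flat.of_linearEquiv e4.toLinearEquiv

end Bridge

section PerIdeal

open Helper5.Shriek Groth.Agent.Lib.Helper5.DTenLib Groth.Agent.Helper3.QFSynt
  Groth.Agent.Helper3.QFFib Groth.Agent.Lib.Helper5.TBC Groth.Agent.Helper1.TorL
  Groth.Agent.Lib.Helper5.KProj

variable (A B B' : Type u) [CommRing A] [CommRing B] [CommRing B'] [IsNoetherianRing A]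
  [IsNoetherianRing B] [Algebra A B] [Module.Flat A B] [Algebra A B'] [Algebra B' B]
  [IsScalarTower A B' B] [Module.Finite A B']
  (κ : Type u) [CommRing κ] [Algebra A κ] [IsNoetherianRing κ]

attribute [local instance] Algebra.TensorProduct.rightAlgebra

/-- the derived base change to `κ` of `ω_{B/A}` (as a complex over `A`) has no `H^{-1}` -/
theorem subsingleton_lbc
    (hopen : IsOpenImmersion (Spec.map (CommRingCat.ofHom (algebraMap B' B))))
    (n : ℕ) (ψ : MvPolynomial (Fin n) A →ₐ[A] B) (hψ : Function.Surjective ψ)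
    (Rψ : Dual.D (MvPolynomial (Fin n) A) ⥤ Dual.D B) (adj : DRing.restrictD ψ.toRingHom ⊣ Rψ) :
    Subsingleton (Dual.HD κ ((DRing.LBaseChange (algebraMap A κ)).obj
      ((DRing.restrictD (algebraMap A B)).obj (Dual2.shriekVia n Rψ (Dual.inD A A)))) (-1)) := by
  letI : Algebra (κ ⊗[A] B') (κ ⊗[A] B) :=
    (Algebra.TensorProduct.map (AlgHom.id A κ) (IsScalarTower.toAlgHom A B' B)).toRingHom.toAlgebra
  letI : Algebra B' (κ ⊗[A] B) :=
    ((algebraMap B (κ ⊗[A] B)).comp (algebraMap B' B)).toAlgebra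
  haveI t1 : IsScalarTower B' B (κ ⊗[A] B) := IsScalarTower.of_algebraMap_eq fun _ => rfl
  haveI t2 : IsScalarTower B' (κ ⊗[A] B') (κ ⊗[A] B) :=
    IsScalarTower.of_algebraMap_eq fun b' => by
      show (1 : κ) ⊗ₜ[A] (algebraMap B' B b') =
        Algebra.TensorProduct.map (AlgHom.id A κ) (IsScalarTower.toAlgHom A B' B)
          ((1 : κ) ⊗ₜ[A] b')
      rw [Algebra.TensorProduct.map_tmul]
      rfl
  haveI t3 : IsScalarTower κ (κ ⊗[A] B') (κ ⊗[A] B) :=
    IsScalarTower.of_algebraMap_eq fun c => by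
      show algebraMap κ (κ ⊗[A] B) c =
        Algebra.TensorProduct.map (AlgHom.id A κ) (IsScalarTower.toAlgHom A B' B)
          (algebraMap κ (κ ⊗[A] B') c)
      rw [Algebra.TensorProduct.algebraMap_apply, Algebra.TensorProduct.algebraMap_apply,
        Algebra.TensorProduct.map_tmul]
      simp
  have h1 : Algebra.IsPushout A κ B' (κ ⊗[A] B') := TensorProduct.isPushout
  have h2 : Algebra.IsPushout A κ B (κ ⊗[A] B) := TensorProduct.isPushout
  have hf1 : QFDual.IsQFFactor κ (κ ⊗[A] B') (κ ⊗[A] B) :=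
    isQFFactor_baseChange A B' B κ (κ ⊗[A] B') (κ ⊗[A] B) ⟨inferInstance, hopen⟩ h1 h2
  haveI := hf1.finite
  have hft1 : Algebra.FiniteType κ (κ ⊗[A] B) :=
    finiteType_of_qf κ (κ ⊗[A] B') (κ ⊗[A] B) hf1
  haveI : IsNoetherianRing (κ ⊗[A] B) := Algebra.FiniteType.isNoetherianRing κ (κ ⊗[A] B)
  obtain ⟨m, ψ', hψ'⟩ := Algebra.FiniteType.iff_quotient_mvPolynomial''.1 hft1
  let Rψ' := RCoext ψ'.toRingHom
  let adj' := rAdj ψ'.toRingHom
  let X : Dual.D B := Dual2.shriekVia n Rψ (Dual.inD A A)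
  haveI hGE : (Dual2.shriekVia m Rψ' (Dual.inD κ κ)).IsGE 0 :=
    isGE_omega_qf κ (κ ⊗[A] B) (κ ⊗[A] B') hf1.isOpenImmersion m ψ' hψ' Rψ' adj'
  obtain ⟨i1⟩ := shriek_flat_ft_bc A κ B n ψ hψ Rψ adj m ψ' hψ' Rψ' adj' (Dual.inD A A)
  let eK : (DRing.LBaseChange (algebraMap A κ)).obj (Dual.inD A A) ≅ Dual.inD κ κ :=
    Groth.Agent.Helper3.ShrLci.lbcRing _
  let i2 : Dual2.shriekVia m Rψ' ((DRing.LBaseChange (algebraMap A κ)).obj (Dual.inD A A)) ≅
      Dual2.shriekVia m Rψ' (Dual.inD κ κ) :=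
    (shiftFunctor (Dual.D (κ ⊗[A] B)) (m : ℤ)).mapIso (Rψ'.mapIso
      ((DRing.LBaseChange (algebraMap κ (MvPolynomial (Fin m) κ))).mapIso eK))
  let Y : Dual.D (κ ⊗[A] B) := (DRing.LBaseChange (algebraMap B (κ ⊗[A] B))).obj X
  haveI : Y.IsGE 0 :=
    (TStructure.t : TStructure (Dual.D (κ ⊗[A] B))).isGE_of_iso (i1 ≪≫ i2).symm 0
  have hsq : (algebraMap B (κ ⊗[A] B)).comp (algebraMap A B) =
      (algebraMap κ (κ ⊗[A] B)).comp (algebraMap A κ) := by
    refine RingHom.ext fun r => ?_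
    show algebraMap B (κ ⊗[A] B) (algebraMap A B r) = algebraMap κ (κ ⊗[A] B) (algebraMap A κ r)
    rw [← IsScalarTower.algebraMap_apply A B (κ ⊗[A] B),
      ← IsScalarTower.algebraMap_apply A κ (κ ⊗[A] B)]
  haveI : Module.Flat A ((ModuleCat.restrictScalars.{u} (algebraMap A B)).obj (ModuleCat.of B B)) :=
    Module.Flat.of_linearEquiv (resUnitLin A B)
  have hta : TorIndep (algebraMap A B) (algebraMap A κ) := TA.of_flat _ _
  have hcmp : IsIso (TrivBC.cmp (myAdj (algebraMap A κ)) (myAdj (algebraMap B (κ ⊗[A] B))) hsq X) :=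
    isIso_cmp_myAdj hsq (isCocart_of_isPushout A B κ (κ ⊗[A] B) hsq) hta X
  let c := @asIso _ _ _ _
    (TrivBC.cmp (myAdj (algebraMap A κ)) (myAdj (algebraMap B (κ ⊗[A] B))) hsq X) hcmp
  have hW : Subsingleton (Dual.HD κ ((DRing.restrictD (algebraMap κ (κ ⊗[A] B))).obj Y) (-1)) := by
    haveI : Subsingleton ((ModuleCat.restrictScalars (algebraMap κ (κ ⊗[A] B))).obj
        ((homologyFunctor (ModuleCat.{u} (κ ⊗[A] B)) (-1)).obj Y)) :=
      ModuleCat.subsingleton_of_isZero
        (Functor.map_isZero _ (isZero_of_isGE Y 0 (-1) (by omega)))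
    exact (Helper5.DMod.HDrestrictEquiv (algebraMap κ (κ ⊗[A] B)) Y (-1)).toEquiv.subsingleton
  exact subsingleton_HD_of_iso c.symm (-1) hW

end PerIdeal

section Main

open Helper5.Shriek Groth.Agent.Helper3.QFSynt Groth.Agent.Helper3.QFFib
  Groth.Agent.Lib.Helper5.KProj

/-- **S8944**: the relative dualizing module of a flat quasi-finite map is flat over the base -/
theorem main_S8944 (A B B' : Type u) [CommRing A] [CommRing B] [CommRing B'] [IsNoetherianRing A]
    [IsNoetherianRing B] [Algebra A B] [Module.Flat A B] [Algebra A B'] [Algebra B' B]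
    [IsScalarTower A B' B] [Module.Finite A B']
    (hopen : IsOpenImmersion (Spec.map (CommRingCat.ofHom (algebraMap B' B)))) :
    Module.Flat A (B ⊗[B'] Disc.Omega A B') := by
  have hf : QFDual.IsQFFactor A B' B := ⟨inferInstance, hopen⟩
  have hft : Algebra.FiniteType A B := finiteType_of_qf A B' B hf
  obtain ⟨n, ψ, hψ⟩ := Algebra.FiniteType.iff_quotient_mvPolynomial''.1 hft
  let Rψ := RCoext ψ.toRingHom
  let adj := rAdj ψ.toRingHom
  obtain ⟨e0⟩ := Helper5.Shriek.QFin.qfin_main A B B' hopen n ψ hψ Rψ adj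
  let X : Dual.D B := Dual2.shriekVia n Rψ (Dual.inD A A)
  haveI : X.IsLE 0 := isLE_omega A B n ψ hψ Rψ adj
  haveI : X.IsGE 0 := isGE_omega_qf A B B' hopen n ψ hψ Rψ adj
  obtain ⟨N, ⟨eX⟩⟩ := exists_iso_singleFunctor_obj_of_isGE_of_isLE X 0
  let MA : ModuleCat.{u} A := (ModuleCat.restrictScalars (algebraMap A B)).obj N
  let eZ : (DRing.restrictD (algebraMap A B)).obj X ≅
      (singleFunctor (ModuleCat.{u} A) 0).obj MA :=
    (DRing.restrictD (algebraMap A B)).mapIso eX ≪≫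
      Groth.Agent.Helper3.FinAdj.resInD (algebraMap A B) N
  haveI : Module.Flat A MA := by
    apply flat_of_lbc_quotient
    intro I
    have h := subsingleton_lbc A B B' (A ⧸ I) hopen n ψ hψ Rψ adj
    exact subsingleton_HD_of_iso ((DRing.LBaseChange (algebraMap A (A ⧸ I))).mapIso eZ) (-1) h
  let eN : N ≅ (homologyFunctor (ModuleCat.{u} B) 0).obj X :=
    ((singleFunctorCompHomologyFunctorIso (ModuleCat.{u} B) 0).app N).symm ≪≫
      (homologyFunctor (ModuleCat.{u} B) 0).mapIso eX.symm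
  let eB : N ≃ₗ[B] (B ⊗[B'] Disc.Omega A B') := eN.toLinearEquiv ≪≫ₗ e0
  let eA : (B ⊗[B'] Disc.Omega A B') ≃ₗ[A] MA :=
    { toFun := fun x => eB.symm x
      invFun := fun y => eB y
      left_inv := fun x => eB.apply_symm_apply x
      right_inv := fun y => eB.symm_apply_apply y
      map_add' := fun x y => map_add eB.symm x y
      map_smul' := fun a x => by
        show eB.symm (a • x) = algebraMap A B a • eB.symm x
        rw [← map_smul, algebraMap_smul] }
  exact Module.Flat.of_linearEquiv eA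

end Main

end Groth.Agent.Helper3.QFFlat
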