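import Mathlib
import Groth.Prelude.Def_DRing3
import Groth.Agent.Lib.Helper3.DCompFlat1
import Groth.Agent.Lib.Helper3.QFFlat1
import Groth.Agent.Lib.Helper3.LTenDev
import Groth.Agent.Lib.Helper5.Nak.Nakayama
import Groth.Agent.Lib.Helper5.DComp.Main
import Groth.Agent.Lib.Helper5.DMod.DCRestrict
import Groth.Agent.Lib.Helper5.DMod.DCExact
import Groth.Agent.Lib.Helper5.DMod.DCCx
import Groth.Agent.Lib.Helper5.KFlat.LBCFlat
import Groth.Agent.Lib.Helper5.DTenLib.Base

/-!
# Derived completion of complexes with finite cohomology over a Noetherian ring (helper3, S7060)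

For `K ∈ D(A)` with finite cohomology modules, `K^ ≅ K ⊗_A Â` (compatibly with the maps from `K`);
hence `H^n(K^) ≅ H^n(K)^`.  The comparison map `K^ → K ⊗ Â` exists by the universal property
(`K ⊗ Â` is derived complete, its cohomology being adically complete); it becomes an isomorphism
after `- ⊗^L A/I`, so its cone vanishes by the derived Nakayama lemma.
-/

set_option autoImplicit false
universe u
open CategoryTheory CategoryTheory.Limits MonoidalCategory TensorProduct DerivedCategory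
  Pretriangulated Triangulated

attribute [local instance] HasDerivedCategory.standard

namespace Groth.Agent.Helper3.DCompFlat

open Groth.Agent.Helper5.FlatAcyc Groth.Agent.Lib.Helper5.KProj Groth.Agent.Lib.Helper5.KFlat
  Groth.Agent.Lib.Helper5.DTenLib Helper5.DMod Groth.Agent.Helper5.TorAmp

variable {A : Type u} [CommRing A]

section Bridge

variable (I : Ideal A)

/-- if `Z ⊗^L A/I` vanishes as an object of `D(A/I)`, it vanishes as an object of `D(A)` -/
lemma isZero_ltensor_of_isZero_lbc (Z : Dual.D A) [DRing.HasLTensor A (Helper5.Nak.AI I)]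
    (h : IsZero ((DRing.LBaseChange (algebraMap A (A ⧸ I))).obj Z)) :
    IsZero ((DRing.LTensor A (Helper5.Nak.AI I)).obj Z) := by
  let X := Q.objPreimage Z
  let P : DRing.Cx A := res X
  let e : Q.obj P ≅ Z := asIso (Q.map (resMap X)) ≪≫ Q.objObjPreimageIso Z
  have h1 : IsZero (Q.obj ((bcCx (algebraMap A (A ⧸ I))).obj P)) :=
    h.of_iso ((lbcIso (algebraMap A (A ⧸ I)) P).symm ≪≫
      (DRing.LBaseChange (algebraMap A (A ⧸ I))).mapIso e)
  have h2 : ((bcCx (algebraMap A (A ⧸ I))).obj P).Acyclic := (isZero_Q_iff_acyclic _).1 h1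
  have h3 : ((TM (Helper5.Nak.AI I)).obj P).Acyclic := by
    intro i
    have a1 : ((TM (𝟙_ (ModuleCat.{u} (A ⧸ I)))).obj
        ((bcCx (algebraMap A (A ⧸ I))).obj P)).ExactAt i :=
      (h2 i).of_iso (tmUnitIso ((bcCx (algebraMap A (A ⧸ I))).obj P)).symm
    have a2 := Groth.Agent.Helper3.NilTor.exactAt_TM_restrict (algebraMap A (A ⧸ I))
      (𝟙_ (ModuleCat.{u} (A ⧸ I))) P i a1
    exact a2.of_iso (Groth.Agent.Helper3.QFFlat.tmIso
      (Helper5.Shriek.resUnitLin A (A ⧸ I)).toModuleIso P)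
  have h4 : IsZero (Q.obj ((TM (Helper5.Nak.AI I)).obj P)) := (isZero_Q_iff_acyclic _).2 h3
  exact h4.of_iso ((DRing.LTensor A (Helper5.Nak.AI I)).mapIso e.symm ≪≫
    ltIso (Helper5.Nak.AI I) P)

/-- objects coming from `D(A/I)` are derived complete -/
lemma isDerivedComplete_restrictD (W : Dual.D (A ⧸ I)) :
    DRing.IsDerivedComplete I ((DRing.restrictD (algebraMap A (A ⧸ I))).obj W) := by
  rw [← isDerivedComplete_map_iff, isDerivedComplete_iff]
  intro f hf n
  have h0 : I.map (algebraMap A (A ⧸ I)) = ⊥ := Ideal.map_quotient_self I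
  rw [h0] at hf
  have hf0 : f = 0 := hf
  rw [hf0]
  exact DC_zero

/-- the unit `K → K^` becomes an isomorphism after derived base change to `A/I` -/
lemma isIso_lbc_unit [DRing.HasDerivedCompletion I] (K : Dual.D A) :
    IsIso ((DRing.LBaseChange (algebraMap A (A ⧸ I))).map (DRing.toDerivedCompletion I K)) := by
  letI : (DRing.LBaseChange (algebraMap A (A ⧸ I))).CommShift ℤ :=
    (myAdj (algebraMap A (A ⧸ I))).leftAdjointCommShift ℤ
  haveI : (myAdj (algebraMap A (A ⧸ I))).CommShift ℤ :=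
    (myAdj (algebraMap A (A ⧸ I))).commShift_of_rightAdjoint ℤ
  haveI : (DRing.LBaseChange (algebraMap A (A ⧸ I))).IsTriangulated :=
    (myAdj (algebraMap A (A ⧸ I))).isTriangulated_leftAdjoint
  obtain ⟨C, g₂, g₃, hT⟩ := distinguished_cocone_triangle (DRing.toDerivedCompletion I K)
  have hT' := (DRing.LBaseChange (algebraMap A (A ⧸ I))).map_distinguished _ hT
  refine (Triangle.isZero₃_iff_isIso₁ _ hT').1 ?_
  show IsZero ((DRing.LBaseChange (algebraMap A (A ⧸ I))).obj C)
  have e12 : DRing.toDerivedCompletion I K ≫ g₂ = 0 := comp_distTriang_mor_zero₁₂ _ hT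
  have e31 : g₃ ≫ (DRing.toDerivedCompletion I K)⟦(1 : ℤ)⟧' = 0 :=
    comp_distTriang_mor_zero₃₁ _ hT
  have horth : ∀ Y' : Dual.D A, DRing.IsDerivedComplete I Y' → ∀ g : C ⟶ Y', g = 0 := by
    intro Y' hY' g
    have h1 : g₂ ≫ g = 0 := by
      apply (unit_comp_bijective I K Y' hY').1
      show DRing.toDerivedCompletion I K ≫ (g₂ ≫ g) = DRing.toDerivedCompletion I K ≫ 0
      rw [comp_zero, ← Category.assoc, e12, zero_comp]
    obtain ⟨h, hh⟩ := Triangle.yoneda_exact₃ _ hT g h1
    obtain ⟨h', hh'⟩ := (unit_shift_comp_bijective I K Y' hY' 1).2 h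
    have hh2 : (DRing.toDerivedCompletion I K)⟦(1 : ℤ)⟧' ≫ h' = h := hh'
    have hh3 : g = g₃ ≫ h := hh
    rw [hh3, ← hh2, ← Category.assoc, e31, zero_comp]
  rw [IsZero.iff_id_eq_zero]
  apply ((myAdj (algebraMap A (A ⧸ I))).homEquiv C
    ((DRing.LBaseChange (algebraMap A (A ⧸ I))).obj C)).injective
  have hR := isDerivedComplete_restrictD I ((DRing.LBaseChange (algebraMap A (A ⧸ I))).obj C)
  rw [horth _ hR ((myAdj (algebraMap A (A ⧸ I))).homEquiv _ _ (𝟙 _)),
    horth _ hR ((myAdj (algebraMap A (A ⧸ I))).homEquiv _ _ 0)]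

end Bridge

section Noeth

variable [IsNoetherianRing A] (I : Ideal A)

lemma DC_tensor (M : ModuleCat.{u} A) [Module.Finite A M] (f : A) (hf : f ∈ I) :
    DC f ((tensorRight (Ah I)).obj M) := by
  haveI : IsAdicComplete I (AdicCompletion I M) :=
    AdicCompletion.isAdicComplete (IsNoetherian.noetherian I)
  exact (DC.of_isAdicComplete (I := I) (M := AdicCompletion I M) hf).of_equiv
    (tensorEquivCompletion I M).symm

/-- `P ⊗ Â` is derived complete when `P` has finite cohomology -/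
lemma isDerivedComplete_tensor (P : DRing.Cx A) (hP : ∀ n, Module.Finite A (P.homology n)) :
    DRing.IsDerivedComplete I (Q.obj ((TM (Ah I)).obj P)) := by
  haveI := pfc_tensorRight (Ah I)
  haveI : Module.Flat A (Ah I) := show Module.Flat A (AdicCompletion I A) from inferInstance
  rw [Helper5.DComp.idc_Q_iff]
  intro g hg n
  haveI := hP n
  obtain ⟨θ, -⟩ := exists_homologyIso_natTrans (tensorRight (Ah I)) (nuNat I) P n (nuCx I P)
    (fun i => rfl)
  exact (DC_tensor I (P.homology n) g hg).of_equiv θ.symm.toLinearEquiv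

/-- `P ⊗ Â` is K-flat when `P` is -/
lemma isKFlat_TM (P : DRing.Cx A) (hP : DRing.IsKFlat A P) :
    DRing.IsKFlat A ((TM (Ah I)).obj P) := by
  let Qc : DRing.Cx A :=
    (HomologicalComplex.single (ModuleCat.{u} A) (ComplexShape.up ℤ) 0).obj (Ah I)
  have hz : ∀ n, n ≠ 0 → IsZero (Qc.X n) := fun n hn =>
    HomologicalComplex.isZero_single_obj_X (ComplexShape.up ℤ) 0 (Ah I) n hn
  let e : Qc.X 0 ≅ Ah I := HomologicalComplex.singleObjXSelf (ComplexShape.up ℤ) 0 (Ah I)
  have hfl : Module.Flat A (Ah I) := show Module.Flat A (AdicCompletion I A) from inferInstance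
  have hQ : DRing.IsKFlat A Qc := isKFlat_of_concentrated Qc 0 hz (flat_of_iso e.symm hfl)
  refine isKFlat_of_iso (tensorConcIso P Qc hz e).symm ?_
  intro M hM i
  have h1 : ∀ j, IsZero ((M ⊗ P).homology j) := hP M hM
  have h2 := hQ (M ⊗ P) h1 i
  exact h2.of_iso ((HomologicalComplex.homologyFunctor (ModuleCat.{u} A) (ComplexShape.up ℤ)
    i).mapIso (α_ M P Qc).symm)

/-- `P → P ⊗ Â` becomes an isomorphism after derived base change to `A/I` -/
lemma isIso_lbc_nu (P : DRing.Cx A) [P.IsKProjective] (hP : DRing.IsKFlat A P) :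
    IsIso ((DRing.LBaseChange (algebraMap A (A ⧸ I))).map (Q.map (nuCx I P))) := by
  have hnat := (lbcCmp (algebraMap A (A ⧸ I))).naturality (nuCx I P)
  haveI i1 : IsIso ((lbcCmp (algebraMap A (A ⧸ I))).app P) := inferInstance
  haveI i2 : IsIso ((lbcCmp (algebraMap A (A ⧸ I))).app ((TM (Ah I)).obj P)) :=
    isIso_lbcCmp_of_isKFlat (algebraMap A (A ⧸ I)) _ (isKFlat_TM I P hP)
  haveI i3 : IsIso ((bcCx (algebraMap A (A ⧸ I))).map (nuCx I P)) := by
    haveI : ∀ n, IsIso (((bcCx (algebraMap A (A ⧸ I))).map (nuCx I P)).f n) := fun n =>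
      isIso_E_map_nu I (IsNoetherian.noetherian I) (P.X n)
    exact HomologicalComplex.Hom.isIso_of_components _
  haveI i4 : IsIso ((bcCx (algebraMap A (A ⧸ I)) ⋙ Q).map (nuCx I P)) := by
    show IsIso (Q.map ((bcCx (algebraMap A (A ⧸ I))).map (nuCx I P)))
    infer_instance
  have key : (DRing.LBaseChange (algebraMap A (A ⧸ I))).map (Q.map (nuCx I P)) =
      (lbcCmp (algebraMap A (A ⧸ I))).app P ≫
        (bcCx (algebraMap A (A ⧸ I)) ⋙ Q).map (nuCx I P) ≫
          inv ((lbcCmp (algebraMap A (A ⧸ I))).app ((TM (Ah I)).obj P)) := by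
    rw [← Category.assoc, ← hnat, Category.assoc, IsIso.hom_inv_id, Category.comp_id]
    rfl
  rw [key]
  infer_instance

variable [DRing.HasDerivedCompletion I]

/-- the derived completion of a complex with finite cohomology is `K ⊗ Â` -/
theorem exists_iso_completion (K : Dual.D A)
    (hK : ∀ n : ℤ, Module.Finite A (Dual.HD A K n)) :
    ∃ (P : DRing.Cx A) (e₀ : Q.obj P ≅ K)
      (v : ((DRing.derivedCompletion I).obj K).obj ≅ Q.obj ((TM (Ah I)).obj P)),
      DRing.toDerivedCompletion I K ≫ v.hom = e₀.inv ≫ Q.map (nuCx I P) := by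
  let X := Q.objPreimage K
  let P : DRing.Cx A := res X
  let e₀ : Q.obj P ≅ K := asIso (Q.map (resMap X)) ≪≫ Q.objObjPreimageIso K
  have hPfin : ∀ n, Module.Finite A (P.homology n) := by
    intro n
    haveI := hK n
    exact Module.Finite.equiv ((HDEquivOfIso e₀.symm n) ≪≫ₗ Helper5.DComp.HDQEquiv P n)
  have hPflat : DRing.IsKFlat A P := isKFlat_res X
  have hY : DRing.IsDerivedComplete I (Q.obj ((TM (Ah I)).obj P)) :=
    isDerivedComplete_tensor I P hPfin
  obtain ⟨v, hv0⟩ := (unit_comp_bijective I K (Q.obj ((TM (Ah I)).obj P)) hY).2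
    (e₀.inv ≫ Q.map (nuCx I P))
  have hv : DRing.toDerivedCompletion I K ≫ v = e₀.inv ≫ Q.map (nuCx I P) := hv0
  suffices hiso : IsIso v from ⟨P, e₀, asIso v, hv⟩
  letI : (DRing.LBaseChange (algebraMap A (A ⧸ I))).CommShift ℤ :=
    (myAdj (algebraMap A (A ⧸ I))).leftAdjointCommShift ℤ
  haveI : (myAdj (algebraMap A (A ⧸ I))).CommShift ℤ :=
    (myAdj (algebraMap A (A ⧸ I))).commShift_of_rightAdjoint ℤ
  haveI : (DRing.LBaseChange (algebraMap A (A ⧸ I))).IsTriangulated :=
    (myAdj (algebraMap A (A ⧸ I))).isTriangulated_leftAdjoint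
  haveI hA := isIso_lbc_unit I K
  haveI hC0 := isIso_lbc_nu I P hPflat
  haveI hC : IsIso ((DRing.LBaseChange (algebraMap A (A ⧸ I))).map
      (e₀.inv ≫ Q.map (nuCx I P))) := by
    rw [Functor.map_comp]
    infer_instance
  have hfac : (DRing.LBaseChange (algebraMap A (A ⧸ I))).map (DRing.toDerivedCompletion I K) ≫
      (DRing.LBaseChange (algebraMap A (A ⧸ I))).map v =
      (DRing.LBaseChange (algebraMap A (A ⧸ I))).map (e₀.inv ≫ Q.map (nuCx I P)) := by
    rw [← Functor.map_comp, hv]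
  have hLv : IsIso ((DRing.LBaseChange (algebraMap A (A ⧸ I))).map v) :=
    IsIso.of_isIso_fac_left hfac
  obtain ⟨Z, g₂, g₃, hT⟩ := distinguished_cocone_triangle v
  have hLZ : IsZero ((DRing.LBaseChange (algebraMap A (A ⧸ I))).obj Z) := by
    have hT' := (DRing.LBaseChange (algebraMap A (A ⧸ I))).map_distinguished _ hT
    exact (Triangle.isZero₃_iff_isIso₁ _ hT').2 hLv
  have hZc : DRing.IsDerivedComplete I Z :=
    isDerivedComplete_obj₃ I _ hT ((DRing.derivedCompletion I).obj K).property hY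
  haveI : DRing.HasLTensor A (Helper5.Nak.AI I) := Groth.Agent.Helper3.LTenDev.hasLTensor _
  have hZ : IsZero Z := Helper5.Nak.nakayama I (IsNoetherian.noetherian I) Z hZc
    (isZero_ltensor_of_isZero_lbc I Z hLZ)
  exact (Triangle.isZero₃_iff_isIso₁ _ hT).1 hZ

/-- assembling the cohomology isomorphism -/
theorem assemble (H : Dual.D A ⥤ ModuleCat.{u} A) (n : ℤ)
    (K : Dual.D A) [Module.Finite A (H.obj K)]
    (P : DRing.Cx A) (e₀ : Q.obj P ≅ K)
    (v : ((DRing.derivedCompletion I).obj K).obj ≅ Q.obj ((TM (Ah I)).obj P))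
    (hv : DRing.toDerivedCompletion I K ≫ v.hom = e₀.inv ≫ Q.map (nuCx I P))
    (aP : H.obj (Q.obj P) ≅ P.homology n)
    (aY : H.obj (Q.obj ((TM (Ah I)).obj P)) ≅ ((TM (Ah I)).obj P).homology n)
    (s2 : H.map (Q.map (nuCx I P)) ≫ aY.hom =
      aP.hom ≫ HomologicalComplex.homologyMap (nuCx I P) n) :
    ∃ e : H.obj ((DRing.derivedCompletion I).obj K).obj ≃ₗ[A] AdicCompletion I (H.obj K),
      ∀ x : H.obj K, e ((H.map (DRing.toDerivedCompletion I K)).hom x) =
        AdicCompletion.of I (H.obj K) x := by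
  haveI := pfc_tensorRight (Ah I)
  haveI : Module.Flat A (Ah I) := show Module.Flat A (AdicCompletion I A) from inferInstance
  obtain ⟨θ, hθ⟩ := exists_homologyIso_natTrans (tensorRight (Ah I)) (nuNat I) P n (nuCx I P)
    (fun i => rfl)
  let β : P.homology n ≅ H.obj K := aP.symm ≪≫ H.mapIso e₀
  let α : H.obj ((DRing.derivedCompletion I).obj K).obj ≅ (tensorRight (Ah I)).obj (H.obj K) :=
    H.mapIso v ≪≫ aY ≪≫ θ ≪≫ (tensorRight (Ah I)).mapIso β
  have s1 : H.map (DRing.toDerivedCompletion I K) ≫ H.map v.hom =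
      H.map e₀.inv ≫ H.map (Q.map (nuCx I P)) := by
    rw [← H.map_comp, hv, H.map_comp]
  have s3 : nu I (P.homology n) ≫ (tensorRight (Ah I)).map β.hom = β.hom ≫ nu I (H.obj K) :=
    (nu_naturality I β.hom).symm
  have s4 : H.map e₀.inv ≫ aP.hom ≫ β.hom = 𝟙 _ := by
    show H.map e₀.inv ≫ aP.hom ≫ (aP.inv ≫ H.map e₀.hom) = 𝟙 _
    rw [Iso.hom_inv_id_assoc, ← H.map_comp, Iso.inv_hom_id, H.map_id]
  have hθ' : HomologicalComplex.homologyMap (nuCx I P) n ≫ θ.hom = nu I (P.homology n) := hθ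
  have hα : H.map (DRing.toDerivedCompletion I K) ≫ α.hom = nu I (H.obj K) := by
    calc H.map (DRing.toDerivedCompletion I K) ≫ α.hom
        = (H.map (DRing.toDerivedCompletion I K) ≫ H.map v.hom) ≫
            aY.hom ≫ θ.hom ≫ (tensorRight (Ah I)).map β.hom := by
          show H.map (DRing.toDerivedCompletion I K) ≫ (H.map v.hom ≫
            aY.hom ≫ θ.hom ≫ (tensorRight (Ah I)).map β.hom) = _
          rw [Category.assoc]
      _ = H.map e₀.inv ≫ (H.map (Q.map (nuCx I P)) ≫ aY.hom) ≫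
            θ.hom ≫ (tensorRight (Ah I)).map β.hom := by
          rw [s1]
          simp only [Category.assoc]
      _ = H.map e₀.inv ≫ aP.hom ≫ (HomologicalComplex.homologyMap (nuCx I P) n ≫ θ.hom) ≫
            (tensorRight (Ah I)).map β.hom := by
          rw [s2]
          simp only [Category.assoc]
      _ = H.map e₀.inv ≫ aP.hom ≫ (nu I (P.homology n) ≫
            (tensorRight (Ah I)).map β.hom) := by
          rw [hθ']
      _ = (H.map e₀.inv ≫ aP.hom ≫ β.hom) ≫ nu I (H.obj K) := by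
          rw [s3]
          simp only [Category.assoc]
      _ = nu I (H.obj K) := by rw [s4, Category.id_comp]
  refine ⟨α.toLinearEquiv ≪≫ₗ tensorEquivCompletion I (H.obj K), fun x => ?_⟩
  have h1 : α.hom.hom ((H.map (DRing.toDerivedCompletion I K)).hom x) =
      x ⊗ₜ[A] (1 : AdicCompletion I A) := congrArg (fun g => g.hom x) hα
  show tensorEquivCompletion I (H.obj K)
    (α.hom.hom ((H.map (DRing.toDerivedCompletion I K)).hom x)) = _
  exact (congrArg (tensorEquivCompletion I (H.obj K)) h1).trans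
    (tensorEquivCompletion_tmul_one I (H.obj K) x)

/-- S7060 -/
theorem main_S7060 (K : Dual.D A)
    (hK : ∀ n : ℤ, Module.Finite A (Dual.HD A K n)) (n : ℤ) :
    ∃ e : Dual.HD A ((DRing.derivedCompletion I).obj K).obj n ≃ₗ[A]
        AdicCompletion I (Dual.HD A K n),
      ∀ x : Dual.HD A K n,
        e (((DerivedCategory.homologyFunctor (ModuleCat.{u} A) n).map
          (DRing.toDerivedCompletion I K)).hom x) = AdicCompletion.of I (Dual.HD A K n) x := by
  obtain ⟨P, e₀, v, hv⟩ := exists_iso_completion I K hK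
  haveI := hK n
  exact assemble I (DerivedCategory.homologyFunctor (ModuleCat.{u} A) n) n K P e₀ v hv
    ((DerivedCategory.homologyFunctorFactors (ModuleCat.{u} A) n).app P)
    ((DerivedCategory.homologyFunctorFactors (ModuleCat.{u} A) n).app ((TM (Ah I)).obj P))
    ((DerivedCategory.homologyFunctorFactors (ModuleCat.{u} A) n).hom.naturality (nuCx I P))

end Noeth

end Groth.Agent.Helper3.DCompFlat
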