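import Mathlib
import Groth.Prelude.Def_DRing3
import Groth.Prelude.Def_DRing4
import Groth.Agent.Lib.Helper3.DCompFlat2
import Groth.Agent.Lib.Helper3.LTenCx
import Groth.Agent.Lib.Helper5.TorAmp.Rep
import Groth.Agent.Lib.Helper5.DMod.DCCx
import Groth.Agent.Lib.Helper5.DMod.TriHom
import Groth.Agent.Lib.Helper5.KFlat.Symm

/-!
# Derived completion commutes with `- ⊗^L F` for pseudo-coherent `F` (helper3, S7103)

`F` is a bounded above complex of finite free modules.
* `K ⊗^L F → K^ ⊗^L F` is universal among maps to derived complete objects: its cone `C` satisfies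
  `C ⊗^L A/I = 0`, hence `C^ = 0` by the derived Nakayama lemma.
* `L ⊗^L F` is derived complete when `L` is derived complete and bounded above: dévissage along the
  stupid truncations of `F`.
-/

set_option autoImplicit false
universe u
open CategoryTheory CategoryTheory.Limits MonoidalCategory TensorProduct DerivedCategory
  Pretriangulated Triangulated

attribute [local instance] HasDerivedCategory.standard

namespace Groth.Agent.Helper3.DCompTen

open Groth.Agent.Helper5.FlatAcyc Groth.Agent.Lib.Helper5.KProj Groth.Agent.Lib.Helper5.KFlat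
  Groth.Agent.Lib.Helper5.DTenLib Helper5.DMod Groth.Agent.Helper5.TorAmp
  Groth.Agent.Lib.Helper5.Misc.KFlatGen Groth.Agent.Lib.Helper5.Misc.StupidTrunc
  Groth.Agent.Helper3.DCompFlat Groth.Agent.Helper3.LTenCx

variable {A : Type u} [CommRing A]

section KFlat

lemma isKFlat_tensor {P F : DRing.Cx A} (hP : DRing.IsKFlat A P) (hF : DRing.IsKFlat A F) :
    DRing.IsKFlat A (P ⊗ F) := by
  intro M hM i
  have h1 : ∀ j, IsZero ((M ⊗ P).homology j) := hP M hM
  have h2 := hF (M ⊗ P) h1 i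
  exact h2.of_iso ((HomologicalComplex.homologyFunctor (ModuleCat.{u} A) (ComplexShape.up ℤ)
    i).mapIso (α_ M P F).symm)

/-- swapping the last two factors -/
lemma quasiIso_swap {X Y : DRing.Cx A} (f : X ⟶ Y) (S F : DRing.Cx A)
    (h : QuasiIso ((f ▷ S) ▷ F)) : QuasiIso ((f ▷ F) ▷ S) := by
  let θ : S ⊗ F ≅ F ⊗ S := DTen.braidCx S F
  let sw : ∀ Z : DRing.Cx A, (Z ⊗ S) ⊗ F ≅ (Z ⊗ F) ⊗ S := fun Z =>
    α_ Z S F ≪≫ whiskerLeftIso Z θ ≪≫ (α_ Z F S).symm
  have hnat : (f ▷ S) ▷ F ≫ (sw Y).hom = (sw X).hom ≫ (f ▷ F) ▷ S := by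
    show (f ▷ S) ▷ F ≫ ((α_ Y S F).hom ≫ Y ◁ θ.hom ≫ (α_ Y F S).inv) =
      ((α_ X S F).hom ≫ X ◁ θ.hom ≫ (α_ X F S).inv) ≫ (f ▷ F) ▷ S
    calc (f ▷ S) ▷ F ≫ ((α_ Y S F).hom ≫ Y ◁ θ.hom ≫ (α_ Y F S).inv)
        = ((f ▷ S) ▷ F ≫ (α_ Y S F).hom) ≫ Y ◁ θ.hom ≫ (α_ Y F S).inv := by
          rw [Category.assoc]
      _ = ((α_ X S F).hom ≫ f ▷ (S ⊗ F)) ≫ Y ◁ θ.hom ≫ (α_ Y F S).inv := by
          rw [associator_naturality_left]
      _ = (α_ X S F).hom ≫ (f ▷ (S ⊗ F) ≫ Y ◁ θ.hom) ≫ (α_ Y F S).inv := by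
          simp only [Category.assoc]
      _ = (α_ X S F).hom ≫ (X ◁ θ.hom ≫ f ▷ (F ⊗ S)) ≫ (α_ Y F S).inv := by
          rw [← whisker_exchange]
      _ = (α_ X S F).hom ≫ X ◁ θ.hom ≫ (f ▷ (F ⊗ S) ≫ (α_ Y F S).inv) := by
          simp only [Category.assoc]
      _ = (α_ X S F).hom ≫ X ◁ θ.hom ≫ ((α_ X F S).inv ≫ (f ▷ F) ▷ S) := by
          rw [associator_inv_naturality_left]
      _ = ((α_ X S F).hom ≫ X ◁ θ.hom ≫ (α_ X F S).inv) ≫ (f ▷ F) ▷ S := by
          simp only [Category.assoc]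
  have h' : (f ▷ F) ▷ S = (sw X).inv ≫ ((f ▷ S) ▷ F) ≫ (sw Y).hom := by
    rw [hnat, Iso.inv_hom_id_assoc]
  rw [h']
  infer_instance

end KFlat

section BaseChange

variable {B : Type u} [CommRing B] (φ : A →+* B)

/-- `B` as a complex of `A`-modules in degree `0` -/
noncomputable abbrev SC : DRing.Cx A :=
  (HomologicalComplex.single (ModuleCat.{u} A) (ComplexShape.up ℤ) 0).obj (AR φ)

lemma quasiIso_bcCx_map_iff {X Y : DRing.Cx A} (g : X ⟶ Y) :
    QuasiIso ((bcCx φ).map g) ↔ QuasiIso (g ▷ SC φ) := by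
  have hz : ∀ n, n ≠ 0 → IsZero ((SC φ).X n) := fun n hn =>
    HomologicalComplex.isZero_single_obj_X (ComplexShape.up ℤ) 0 (AR φ) n hn
  let e : (SC φ).X 0 ≅ AR φ := HomologicalComplex.singleObjXSelf (ComplexShape.up ℤ) 0 (AR φ)
  have hnat := tensorConcIso_naturality (SC φ) hz e g
  have h1 : QuasiIso ((TM (AR φ)).map g) ↔ QuasiIso (g ▷ SC φ) := by
    constructor
    · intro h
      have h' : g ▷ SC φ = (tensorConcIso X (SC φ) hz e).inv ≫ (TM (AR φ)).map g ≫
          (tensorConcIso Y (SC φ) hz e).hom := by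
        rw [hnat, Iso.inv_hom_id_assoc]
      rw [h']
      infer_instance
    · intro h
      have h' : (TM (AR φ)).map g = (tensorConcIso X (SC φ) hz e).hom ≫ (g ▷ SC φ) ≫
          (tensorConcIso Y (SC φ) hz e).inv := by
        rw [← Category.assoc, ← hnat, Category.assoc, Iso.hom_inv_id, Category.comp_id]
      rw [h']
      infer_instance
  have h2 : QuasiIso (((ModuleCat.extendScalars.{u, u, u} φ ⋙
      ModuleCat.restrictScalars.{u} φ).mapHomologicalComplex (ComplexShape.up ℤ)).map g) ↔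
      QuasiIso ((TM (AR φ)).map g) := by
    constructor
    · intro h
      exact quasiIso_of_natIso
        (NatIso.mapHomologicalComplex (extResIso φ) (ComplexShape.up ℤ)).symm g h
    · intro h
      exact quasiIso_of_natIso
        (NatIso.mapHomologicalComplex (extResIso φ) (ComplexShape.up ℤ)) g h
  have h3 : QuasiIso ((bcCx φ).map g) ↔ QuasiIso (((ModuleCat.extendScalars.{u, u, u} φ ⋙
      ModuleCat.restrictScalars.{u} φ).mapHomologicalComplex (ComplexShape.up ℤ)).map g) :=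
    (HomologicalComplex.quasiIso_map_iff_of_preservesHomology ((bcCx φ).map g)
      (ModuleCat.restrictScalars.{u} φ)).symm
  exact h3.trans (h2.trans h1)

/-- if `η ⊗^L B` is an isomorphism then so is `(η ⊗^L F) ⊗^L B`, for K-flat `F` -/
theorem isIso_lbc_ltensorCx_map (F : DRing.Cx A) (hF : DRing.IsKFlat A F) [DRing.HasLTensorCx A F]
    {K L : Dual.D A} (η : K ⟶ L) (h : IsIso ((DRing.LBaseChange φ).map η)) :
    IsIso ((DRing.LBaseChange φ).map ((DRing.LTensorCx A F).map η)) := by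
  let XK := Q.objPreimage K
  let P : DRing.Cx A := res XK
  let e : Q.obj P ≅ K := asIso (Q.map (resMap XK)) ≪≫ Q.objObjPreimageIso K
  let XL := Q.objPreimage L
  let P' : DRing.Cx A := res XL
  let e' : Q.obj P' ≅ L := asIso (Q.map (resMap XL)) ≪≫ Q.objObjPreimageIso L
  obtain ⟨f, hf⟩ := exists_Q_map_eq P P' (e.hom ≫ η ≫ e'.inv)
  have hη : η = e.inv ≫ Q.map f ≫ e'.hom := by
    rw [hf]
    simp
  haveI := h
  have s1 : IsIso ((DRing.LBaseChange φ).map (Q.map f)) := by
    rw [hf, Functor.map_comp, Functor.map_comp]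
    infer_instance
  have s2 : QuasiIso ((bcCx φ).map f) := by
    have hnat := (lbcCmp φ).naturality f
    haveI : IsIso ((Q ⋙ DRing.LBaseChange φ).map f) := s1
    have h1 : (bcCx φ ⋙ Q).map f = inv ((lbcCmp φ).app P) ≫
        (Q ⋙ DRing.LBaseChange φ).map f ≫ (lbcCmp φ).app P' := by
      rw [hnat, IsIso.inv_hom_id_assoc]
    have h2 : IsIso ((bcCx φ ⋙ Q).map f) := by
      rw [h1]
      infer_instance
    rw [← DerivedCategory.isIso_Q_map_iff_quasiIso]
    exact h2
  have s3 : QuasiIso (f ▷ SC φ) := (quasiIso_bcCx_map_iff φ f).1 s2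
  have s4 : QuasiIso ((f ▷ SC φ) ▷ F) := quasiIso_whiskerRight hF (f ▷ SC φ) s3
  have s5 : QuasiIso ((f ▷ F) ▷ SC φ) := quasiIso_swap f (SC φ) F s4
  have s6 : QuasiIso ((bcCx φ).map (f ▷ F)) := (quasiIso_bcCx_map_iff φ (f ▷ F)).2 s5
  have hPF : DRing.IsKFlat A (P ⊗ F) := isKFlat_tensor (isKFlat_res XK) hF
  have hPF' : DRing.IsKFlat A (P' ⊗ F) := isKFlat_tensor (isKFlat_res XL) hF
  have s7 : IsIso ((DRing.LBaseChange φ).map (Q.map (f ▷ F))) := by
    have hnat := (lbcCmp φ).naturality (f ▷ F)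
    haveI i1 : IsIso ((lbcCmp φ).app (P ⊗ F)) := isIso_lbcCmp_of_isKFlat φ _ hPF
    haveI i2 : IsIso ((lbcCmp φ).app (P' ⊗ F)) := isIso_lbcCmp_of_isKFlat φ _ hPF'
    haveI i3 : IsIso ((bcCx φ ⋙ Q).map (f ▷ F)) := by
      show IsIso (Q.map ((bcCx φ).map (f ▷ F)))
      infer_instance
    have key : (DRing.LBaseChange φ).map (Q.map (f ▷ F)) =
        (lbcCmp φ).app (P ⊗ F) ≫ (bcCx φ ⋙ Q).map (f ▷ F) ≫ inv ((lbcCmp φ).app (P' ⊗ F)) := by
      rw [← Category.assoc, ← hnat, Category.assoc, IsIso.hom_inv_id, Category.comp_id]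
      rfl
    rw [key]
    infer_instance
  have s8 : IsIso ((DRing.LBaseChange φ).map ((DRing.LTensorCx A F).map (Q.map f))) := by
    have hnat := (counit F).naturality f
    haveI i1 := isIso_counit_app F P
    haveI i2 := isIso_counit_app F P'
    have key : (DRing.LTensorCx A F).map (Q.map f) =
        (counit F).app P ≫ Q.map (f ▷ F) ≫ inv ((counit F).app P') := by
      have hnat' : (DRing.LTensorCx A F).map (Q.map f) ≫ (counit F).app P' =
          (counit F).app P ≫ Q.map (f ▷ F) := hnat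
      rw [← Category.assoc, ← hnat', Category.assoc, IsIso.hom_inv_id, Category.comp_id]
    rw [key, Functor.map_comp, Functor.map_comp]
    infer_instance
  rw [hη, Functor.map_comp, Functor.map_comp, Functor.map_comp, Functor.map_comp]
  infer_instance

end BaseChange

section Univ

variable (I : Ideal A) [DRing.HasDerivedCompletion I]

/-- objects killed by `- ⊗^L A/I` have no maps to derived complete objects -/
lemma hom_eq_zero_of_isZero_lbc (hI : I.FG) (W : Dual.D A)
    (hW : IsZero ((DRing.LBaseChange (algebraMap A (A ⧸ I))).obj W)) (Y' : Dual.D A)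
    (hY' : DRing.IsDerivedComplete I Y') (g : W ⟶ Y') : g = 0 := by
  haveI := isIso_lbc_unit I W
  have h1 : IsZero ((DRing.LBaseChange (algebraMap A (A ⧸ I))).obj
      ((DRing.derivedCompletion I).obj W).obj) :=
    hW.of_iso (asIso ((DRing.LBaseChange (algebraMap A (A ⧸ I))).map
      (DRing.toDerivedCompletion I W))).symm
  haveI : DRing.HasLTensor A (Helper5.Nak.AI I) := Groth.Agent.Helper3.LTenDev.hasLTensor _
  have h2 : IsZero ((DRing.derivedCompletion I).obj W).obj :=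
    Helper5.Nak.nakayama I hI _ ((DRing.derivedCompletion I).obj W).property
      (isZero_ltensor_of_isZero_lbc I _ h1)
  obtain ⟨g', hg'⟩ := (unit_comp_bijective I W Y' hY').2 g
  have hg2 : DRing.toDerivedCompletion I W ≫ g' = g := hg'
  have hg3 : g' = 0 := h2.eq_of_src _ _
  rw [← hg2, hg3, comp_zero]

/-- the universal property of `K ⊗^L F → K^ ⊗^L F` -/
theorem bijective_ltensorCx_unit (hI : I.FG) (F : DRing.Cx A) (hF : DRing.IsKFlat A F)
    [DRing.HasLTensorCx A F] (K : Dual.D A) (E : Dual.D A) (hE : DRing.IsDerivedComplete I E) :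
    Function.Bijective
      (fun φ : (DRing.LTensorCx A F).obj ((DRing.derivedCompletion I).obj K).obj ⟶ E =>
        (DRing.LTensorCx A F).map (DRing.toDerivedCompletion I K) ≫ φ) := by
  letI : (DRing.LBaseChange (algebraMap A (A ⧸ I))).CommShift ℤ :=
    (myAdj (algebraMap A (A ⧸ I))).leftAdjointCommShift ℤ
  haveI : (myAdj (algebraMap A (A ⧸ I))).CommShift ℤ :=
    (myAdj (algebraMap A (A ⧸ I))).commShift_of_rightAdjoint ℤ
  haveI : (DRing.LBaseChange (algebraMap A (A ⧸ I))).IsTriangulated :=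
    (myAdj (algebraMap A (A ⧸ I))).isTriangulated_leftAdjoint
  obtain ⟨C', g₂, g₃, hT⟩ := distinguished_cocone_triangle
    ((DRing.LTensorCx A F).map (DRing.toDerivedCompletion I K))
  have hiso := isIso_lbc_ltensorCx_map (algebraMap A (A ⧸ I)) F hF
    (DRing.toDerivedCompletion I K) (isIso_lbc_unit I K)
  have hLC : IsZero ((DRing.LBaseChange (algebraMap A (A ⧸ I))).obj C') := by
    have hT' := (DRing.LBaseChange (algebraMap A (A ⧸ I))).map_distinguished _ hT
    exact (Triangle.isZero₃_iff_isIso₁ _ hT').2 hiso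
  have hsub : ∀ n : ℤ, Subsingleton (C' ⟶ E⟦n⟧) := fun n => ⟨fun a b => by
    rw [hom_eq_zero_of_isZero_lbc I hI C' hLC _ (isDerivedComplete_shift I hE n) a,
      hom_eq_zero_of_isZero_lbc I hI C' hLC _ (isDerivedComplete_shift I hE n) b]⟩
  have hbij := (forall_subsingleton_iff_forall_bijective
    (Triangle.mk ((DRing.LTensorCx A F).map (DRing.toDerivedCompletion I K)) g₂ g₃) hT E).1 hsub 0
  let e0 : E⟦(0 : ℤ)⟧ ≅ E := (shiftFunctorZero (Dual.D A) ℤ).app E
  constructor
  · intro φ₁ φ₂ h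
    have h' : (DRing.LTensorCx A F).map (DRing.toDerivedCompletion I K) ≫ φ₁ =
        (DRing.LTensorCx A F).map (DRing.toDerivedCompletion I K) ≫ φ₂ := h
    have h2 : φ₁ ≫ e0.inv = φ₂ ≫ e0.inv := by
      apply hbij.1
      show (DRing.LTensorCx A F).map (DRing.toDerivedCompletion I K) ≫ (φ₁ ≫ e0.inv) =
        (DRing.LTensorCx A F).map (DRing.toDerivedCompletion I K) ≫ (φ₂ ≫ e0.inv)
      rw [← Category.assoc, ← Category.assoc, h']
    exact (cancel_mono e0.inv).1 h2
  · intro ψ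
    obtain ⟨α, hα⟩ := hbij.2 (ψ ≫ e0.inv)
    have hα' : (DRing.LTensorCx A F).map (DRing.toDerivedCompletion I K) ≫ α = ψ ≫ e0.inv := hα
    refine ⟨α ≫ e0.hom, ?_⟩
    show (DRing.LTensorCx A F).map (DRing.toDerivedCompletion I K) ≫ (α ≫ e0.hom) = ψ
    rw [← Category.assoc, hα', Category.assoc, Iso.inv_hom_id, Category.comp_id]

end Univ

section Complete

variable (I : Ideal A)

lemma DC_tensor_finite_free {f : A} (N M : Type u) [AddCommGroup N] [Module A N]
    [AddCommGroup M] [Module A M] [Module.Finite A M] [Module.Free A M] (h : DC f N) :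
    DC f (N ⊗[A] M) := by
  classical
  let b := Module.Free.chooseBasis A M
  let e : (N ⊗[A] M) ≃ₗ[A] (Module.Free.ChooseBasisIndex A M → N) :=
    (TensorProduct.congr (LinearEquiv.refl A N) b.equivFun) ≪≫ₗ
      TensorProduct.piScalarRight A A N (Module.Free.ChooseBasisIndex A M)
  exact (h.pi).of_equiv e.symm

/-- two out of three for short exact sequences of complexes -/
lemma idc_middle_of_ses (S : ShortComplex (DRing.Cx A)) (hS : S.ShortExact)
    (h₁ : DRing.IsDerivedComplete I (Q.obj S.X₁)) (h₃ : DRing.IsDerivedComplete I (Q.obj S.X₃)) :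
    DRing.IsDerivedComplete I (Q.obj S.X₂) := by
  have hT := DerivedCategory.triangleOfSES_distinguished hS
  have hT' := inv_rot_of_distTriang _ hT
  exact isDerivedComplete_obj₃ I _ hT' (isDerivedComplete_shift I h₃ (-1)) h₁

/-- homology of a tensor product with a complex concentrated in one degree -/
lemma homologyIso_concentrated (X Qc : DRing.Cx A) (a : ℤ)
    (hz : ∀ n, n ≠ a → IsZero (Qc.X n)) (n : ℤ) :
    Nonempty ((X ⊗ Qc).homology n ≅ ((TM (Qc.X a)).obj X).homology (n - a)) := by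
  have h0 : (n - a - 1) + a = n - 1 := by omega
  have h1 : (n - a) + a = n := by omega
  have h2 : (n - a + 1) + a = n + 1 := by omega
  have i0 := isIso_ι_concentrated (curriedTensor (ModuleCat.{u} A)) X Qc a hz (n - a - 1) (n - 1) h0
  have i1 := isIso_ι_concentrated (curriedTensor (ModuleCat.{u} A)) X Qc a hz (n - a) n h1
  have i2 := isIso_ι_concentrated (curriedTensor (ModuleCat.{u} A)) X Qc a hz (n - a + 1) (n + 1) h2
  let e : ((TM (Qc.X a)).obj X).sc' (n - a - 1) (n - a) (n - a + 1) ≅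
      (X ⊗ Qc).sc' (n - 1) n (n + 1) :=
    ShortComplex.isoMk
      (@asIso _ _ _ _ (HomologicalComplex.ιMapBifunctor X Qc (curriedTensor (ModuleCat.{u} A))
        (ComplexShape.up ℤ) (n - a - 1) a (n - 1) h0) i0)
      (@asIso _ _ _ _ (HomologicalComplex.ιMapBifunctor X Qc (curriedTensor (ModuleCat.{u} A))
        (ComplexShape.up ℤ) (n - a) a n h1) i1)
      (@asIso _ _ _ _ (HomologicalComplex.ιMapBifunctor X Qc (curriedTensor (ModuleCat.{u} A))
        (ComplexShape.up ℤ) (n - a + 1) a (n + 1) h2) i2)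
      (ι_d_concentrated' (curriedTensor (ModuleCat.{u} A)) X Qc a hz (n - a - 1) (n - a) (n - 1) n
        (by omega) (by omega) h0 h1)
      (ι_d_concentrated' (curriedTensor (ModuleCat.{u} A)) X Qc a hz (n - a) (n - a + 1) n (n + 1)
        rfl rfl h1 h2)
  exact ⟨(X ⊗ Qc).homologyIsoSc' (n - 1) n (n + 1) (by simp) (by simp) ≪≫
    (ShortComplex.homologyMapIso e).symm ≪≫
    (((TM (Qc.X a)).obj X).homologyIsoSc' (n - a - 1) (n - a) (n - a + 1)
      (by simp) (by simp)).symm⟩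

lemma idc_tensor_concentrated (X Qc : DRing.Cx A) (a : ℤ)
    (hz : ∀ n, n ≠ a → IsZero (Qc.X n))
    [Module.Finite A (Qc.X a)] [Module.Free A (Qc.X a)]
    (hX : DRing.IsDerivedComplete I (Q.obj X)) :
    DRing.IsDerivedComplete I (Q.obj (X ⊗ Qc)) := by
  rw [Helper5.DComp.idc_Q_iff] at hX ⊢
  intro g hg n
  obtain ⟨e⟩ := homologyIso_concentrated X Qc a hz n
  haveI : Module.Flat A (Qc.X a) := inferInstance
  haveI := pfc_tensorRight (Qc.X a)
  let e2 := mapHCHomologyIso (tensorRight (Qc.X a)) X (n - a)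
  have h1 : DC g ((tensorRight (Qc.X a)).obj (X.homology (n - a))) :=
    DC_tensor_finite_free (X.homology (n - a)) (Qc.X a) (hX g hg (n - a))
  exact h1.of_equiv (e ≪≫ e2).symm.toLinearEquiv

/-- dévissage along the stupid truncations -/
theorem idc_tensor_sigmaGE (X F : DRing.Cx A) (c : ℤ) [F.IsStrictlyLE c]
    (hff : ∀ i, Module.Finite A (F.X i) ∧ Module.Free A (F.X i))
    (hX : DRing.IsDerivedComplete I (Q.obj X)) (m : ℕ) :
    DRing.IsDerivedComplete I (Q.obj (X ⊗ sigmaGE F (c - m))) := by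
  induction m with
  | zero =>
    have hz : ∀ n, n ≠ c - ((0 : ℕ) : ℤ) → IsZero ((sigmaGE F (c - ((0 : ℕ) : ℤ))).X n) := by
      intro n hn
      by_cases h : c - ((0 : ℕ) : ℤ) ≤ n
      · have hn' : c < n := by
          have : c - ((0 : ℕ) : ℤ) = c := by simp
          omega
        exact IsZero.of_iso (F.isZero_of_isStrictlyLE c n hn')
          (@asIso _ _ _ _ (tι F (c - ((0 : ℕ) : ℤ)) n) (isIso_tι F h))
      · exact isZero_tX F h
    let e0 : (sigmaGE F (c - ((0 : ℕ) : ℤ))).X (c - ((0 : ℕ) : ℤ)) ≅ F.X (c - ((0 : ℕ) : ℤ)) :=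
      @asIso _ _ _ _ (tι F (c - ((0 : ℕ) : ℤ)) (c - ((0 : ℕ) : ℤ))) (isIso_tι F (le_refl _))
    haveI := (hff (c - ((0 : ℕ) : ℤ))).1
    haveI := (hff (c - ((0 : ℕ) : ℤ))).2
    haveI : Module.Finite A ((sigmaGE F (c - ((0 : ℕ) : ℤ))).X (c - ((0 : ℕ) : ℤ))) :=
      Module.Finite.equiv e0.symm.toLinearEquiv
    haveI : Module.Free A ((sigmaGE F (c - ((0 : ℕ) : ℤ))).X (c - ((0 : ℕ) : ℤ))) :=
      Module.Free.of_equiv e0.symm.toLinearEquiv
    exact idc_tensor_concentrated I X _ (c - ((0 : ℕ) : ℤ)) hz hX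
  | succ m ih =>
    have e : c - ((m + 1 : ℕ) : ℤ) + 1 = c - (m : ℤ) := by push_cast; ring
    have hS := quotSC_shortExact F (c - ((m + 1 : ℕ) : ℤ))
    let e3 := quotSCX₃Iso F (c - ((m + 1 : ℕ) : ℤ))
    haveI := (hff (c - ((m + 1 : ℕ) : ℤ))).1
    haveI := (hff (c - ((m + 1 : ℕ) : ℤ))).2
    haveI hfin3 : Module.Finite A ((quotSC F (c - ((m + 1 : ℕ) : ℤ))).X₃.X (c - ((m + 1 : ℕ) : ℤ))) :=
      Module.Finite.equiv e3.symm.toLinearEquiv
    haveI hfree3 : Module.Free A ((quotSC F (c - ((m + 1 : ℕ) : ℤ))).X₃.X (c - ((m + 1 : ℕ) : ℤ))) :=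
      Module.Free.of_equiv e3.symm.toLinearEquiv
    have h3 : ∀ n : ℤ, Module.Flat A ((quotSC F (c - ((m + 1 : ℕ) : ℤ))).X₃.X n) := by
      intro n
      by_cases hn : n = c - ((m + 1 : ℕ) : ℤ)
      · subst hn
        infer_instance
      · exact flat_of_isZero (isZero_quotSC_X₃ F _ n hn)
    obtain ⟨z, hz⟩ := shortExact_tensor _ hS h3 X
    have h1 : DRing.IsDerivedComplete I (Q.obj (X ⊗ (quotSC F (c - ((m + 1 : ℕ) : ℤ))).X₁)) := by
      show DRing.IsDerivedComplete I (Q.obj (X ⊗ sigmaGE F (c - ((m + 1 : ℕ) : ℤ) + 1)))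
      rw [e]
      exact ih
    have hQ3 : DRing.IsDerivedComplete I (Q.obj (X ⊗ (quotSC F (c - ((m + 1 : ℕ) : ℤ))).X₃)) :=
      idc_tensor_concentrated I X _ (c - ((m + 1 : ℕ) : ℤ))
        (fun n hn => isZero_quotSC_X₃ F _ n hn) hX
    exact idc_middle_of_ses I _ hz h1 hQ3

/-- `X ⊗ σ^{≥ a} F → X ⊗ F` is an isomorphism in high degrees when `X` is bounded above -/
lemma isIso_whiskerLeft_ιGE_f (X F : DRing.Cx A) (b' : ℤ) (hX : ∀ i, b' < i → IsZero (X.X i))
    (a k : ℤ) (hk : a + b' ≤ k) : IsIso ((X ◁ ιGE F a).f k) := by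
  let r : (X ⊗ F).X k ⟶ (X ⊗ sigmaGE F a).X k :=
    HomologicalComplex.mapBifunctorDesc (K₁ := X) (K₂ := F)
      (F := curriedTensor (ModuleCat.{u} A)) (c := ComplexShape.up ℤ)
      (fun p q h => (X.X p ◁ tπ F a q) ≫
        HomologicalComplex.ιMapBifunctor X (sigmaGE F a) (curriedTensor (ModuleCat.{u} A))
          (ComplexShape.up ℤ) p q k h)
  have hι : ∀ (p q : ℤ) (h : p + q = k),
      HomologicalComplex.ιMapBifunctor X (sigmaGE F a) (curriedTensor (ModuleCat.{u} A))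
        (ComplexShape.up ℤ) p q k h ≫ (X ◁ ιGE F a).f k =
      (X.X p ◁ tι F a q) ≫ HomologicalComplex.ιMapBifunctor X F
        (curriedTensor (ModuleCat.{u} A)) (ComplexShape.up ℤ) p q k h := by
    intro p q h
    have h' := HomologicalComplex.ι_mapBifunctorMap (𝟙 X) (ιGE F a)
      (curriedTensor (ModuleCat.{u} A)) (ComplexShape.up ℤ) p q k h
    rw [HomologicalComplex.id_f, CategoryTheory.Functor.map_id, NatTrans.id_app,
      Category.id_comp] at h'
    exact h'
  have hr : ∀ (p q : ℤ) (h : p + q = k),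
      HomologicalComplex.ιMapBifunctor X F (curriedTensor (ModuleCat.{u} A))
        (ComplexShape.up ℤ) p q k h ≫ r =
      (X.X p ◁ tπ F a q) ≫ HomologicalComplex.ιMapBifunctor X (sigmaGE F a)
        (curriedTensor (ModuleCat.{u} A)) (ComplexShape.up ℤ) p q k h := by
    intro p q h
    exact HomologicalComplex.ι_mapBifunctorDesc _ p q h
  have aux : ∀ {U V W Z : ModuleCat.{u} A} (ι₁ : U ⟶ V) (m : V ⟶ W) (r' : W ⟶ V) (s : U ⟶ Z)
      (ι₂ : Z ⟶ W) (t : Z ⟶ U) (_ : ι₁ ≫ m = s ≫ ι₂) (_ : ι₂ ≫ r' = t ≫ ι₁) (_ : s ≫ t = 𝟙 U),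
      ι₁ ≫ (m ≫ r') = ι₁ ≫ 𝟙 V := by
    intro U V W Z ι₁ m r' s ι₂ t e1 e2 e3
    rw [← Category.assoc, e1, Category.assoc, e2, ← Category.assoc, e3, Category.id_comp,
      Category.comp_id]
  have h1 : (X ◁ ιGE F a).f k ≫ r = 𝟙 _ := by
    refine HomologicalComplex.mapBifunctor.hom_ext (K₁ := X) (K₂ := sigmaGE F a)
      (F := curriedTensor (ModuleCat.{u} A)) (c := ComplexShape.up ℤ) (fun p q h => ?_)
    have hst : (X.X p ◁ tι F a q) ≫ (X.X p ◁ tπ F a q) = 𝟙 _ := by
      rw [← MonoidalCategory.whiskerLeft_comp, tι_tπ, MonoidalCategory.whiskerLeft_id]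
    exact aux _ _ _ _ _ _ (hι p q h) (hr p q h) hst
  have h2 : r ≫ (X ◁ ιGE F a).f k = 𝟙 _ := by
    refine HomologicalComplex.mapBifunctor.hom_ext (K₁ := X) (K₂ := F)
      (F := curriedTensor (ModuleCat.{u} A)) (c := ComplexShape.up ℤ) (fun p q h => ?_)
    by_cases hq : a ≤ q
    · have hst : (X.X p ◁ tπ F a q) ≫ (X.X p ◁ tι F a q) = 𝟙 _ := by
        rw [← MonoidalCategory.whiskerLeft_comp, tπ_tι F hq, MonoidalCategory.whiskerLeft_id]
      exact aux _ _ _ _ _ _ (hr p q h) (hι p q h) hst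
    · have hp : b' < p := by
        have h' : p + q = k := h
        omega
      exact (isZero_tensor_left (N := F.X q) (hX p hp)).eq_of_src _ _
  exact ⟨⟨r, h1, h2⟩⟩

lemma isIso_homologyMap_whiskerLeft_ιGE (X F : DRing.Cx A) (b' : ℤ)
    (hX : ∀ i, b' < i → IsZero (X.X i)) (a n : ℤ) (hn : a + b' ≤ n - 1) :
    IsIso (HomologicalComplex.homologyMap (X ◁ ιGE F a) n) := by
  have hall : ∀ k, n - 1 ≤ k → IsIso ((X ◁ ιGE F a).f k) := fun k hk =>
    isIso_whiskerLeft_ιGE_f X F b' hX a k (by omega)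
  have i1 : IsIso ((X ◁ ιGE F a).f ((ComplexShape.up ℤ).prev n)) :=
    hall _ (by rw [CochainComplex.prev])
  have i2 : IsIso ((X ◁ ιGE F a).f n) := hall _ (by omega)
  have i3 : IsIso ((X ◁ ιGE F a).f ((ComplexShape.up ℤ).next n)) :=
    hall _ (by rw [CochainComplex.next]; omega)
  exact ShortComplex.isIso_homologyMap_of_epi_of_isIso_of_mono'
    ((HomologicalComplex.shortComplexFunctor (ModuleCat.{u} A) (ComplexShape.up ℤ) n).map
      (X ◁ ιGE F a))
    (by
      show Epi ((X ◁ ιGE F a).f ((ComplexShape.up ℤ).prev n))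
      infer_instance)
    (by
      show IsIso ((X ◁ ιGE F a).f n)
      exact i2)
    (by
      show Mono ((X ◁ ιGE F a).f ((ComplexShape.up ℤ).next n))
      infer_instance)

/-- `L ⊗^L F` is derived complete for `L` derived complete and bounded above -/
theorem isDerivedComplete_ltensorCx (F : DRing.Cx A) (c : ℤ) (hFc : DRing.VanishesAbove F c)
    (hFf : DRing.TermwiseFiniteFree F) [DRing.HasLTensorCx A F]
    (L : Dual.D A) (b : ℤ) [L.IsLE b] (hL : DRing.IsDerivedComplete I L) :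
    DRing.IsDerivedComplete I ((DRing.LTensorCx A F).obj L) := by
  obtain ⟨X, hXb, hproj, hKP, ⟨e⟩⟩ := exists_proj_rep L b
  haveI := hKP
  haveI : F.IsStrictlyLE c := (CochainComplex.isStrictlyLE_iff F c).2 hFc
  have hX : DRing.IsDerivedComplete I (Q.obj X) := isDerivedComplete_of_iso I e.symm hL
  refine isDerivedComplete_of_iso I ((ltcIso F X).symm ≪≫ (DRing.LTensorCx A F).mapIso e) ?_
  rw [Helper5.DComp.idc_Q_iff]
  intro g hg n
  obtain ⟨m, hm⟩ : ∃ m : ℕ, c - (m : ℤ) + b ≤ n - 1 := ⟨(c + b - n + 1).toNat, by omega⟩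
  have h4 := idc_tensor_sigmaGE I X F c hFf hX m
  rw [Helper5.DComp.idc_Q_iff] at h4
  haveI := isIso_homologyMap_whiskerLeft_ιGE X F b hXb (c - m) n hm
  exact (h4 g hg n).of_equiv
    (asIso (HomologicalComplex.homologyMap (X ◁ ιGE F (c - m)) n)).toLinearEquiv

end Complete

/-- S7103 -/
theorem main_S7103 [IsNoetherianRing A] (I : Ideal A) [DRing.HasDerivedCompletion I]
    (F : DRing.Cx A) (c : ℤ) (hFc : DRing.VanishesAbove F c)
    (hFf : DRing.TermwiseFiniteFree F) [DRing.HasLTensorCx A F]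
    (K : Dual.D A) (b : ℤ) (hK : ∀ i : ℤ, b < i → Subsingleton (Dual.HD A K i)) :
    DRing.IsDerivedComplete I
        ((DRing.LTensorCx A F).obj ((DRing.derivedCompletion I).obj K).obj) ∧
      ∀ E : Dual.D A, DRing.IsDerivedComplete I E →
        Function.Bijective
          (fun φ : (DRing.LTensorCx A F).obj ((DRing.derivedCompletion I).obj K).obj ⟶ E =>
            (DRing.LTensorCx A F).map (DRing.toDerivedCompletion I K) ≫ φ) := by
  have hflat : ∀ n, Module.Flat A (F.X n) := fun n => by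
    haveI := (hFf n).2
    infer_instance
  have hF : DRing.IsKFlat A F := isKFlat_of_bounded_above F c hFc hflat
  haveI hKle : K.IsLE b := by
    rw [DerivedCategory.isLE_iff]
    intro i hi
    exact @ModuleCat.isZero_of_subsingleton _ _ _ (hK i hi)
  haveI := Helper5.DComp.isLE_completion I K b hKle
  exact ⟨isDerivedComplete_ltensorCx I F c hFc hFf _ b
      ((DRing.derivedCompletion I).obj K).property,
    fun E hE => bijective_ltensorCx_unit I (IsNoetherian.noetherian I) F hF K E hE⟩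

end Groth.Agent.Helper3.DCompTen
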