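import Mathlib
import Groth.Prelude.Def_DRing3
import Groth.Prelude.Def_DRing4
import Groth.Agent.Lib.Helper3.DCompTen1
import Groth.Agent.Lib.Helper5.Gen.LTModel
import Groth.Agent.Lib.Helper5.DRing.PCNoeth

/-!
# Derived completion commutes with `- ⊗^L M` for a finite module `M` over a Noetherian ring
(helper3, S7095)

Reduction to `DCompTen1` through a resolution `E → M[0]` by finite free modules: on K-projective
complexes `P` one has `P ⊗^L M = P ⊗ M[0] ← P ⊗ E = P ⊗^L E`, naturally in `P`.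
-/

set_option autoImplicit false
universe u
open CategoryTheory CategoryTheory.Limits MonoidalCategory TensorProduct DerivedCategory
  Pretriangulated Triangulated

attribute [local instance] HasDerivedCategory.standard

namespace Groth.Agent.Helper3.DCompTen2

open Groth.Agent.Helper5.FlatAcyc Groth.Agent.Lib.Helper5.KProj Groth.Agent.Lib.Helper5.KFlat
  Groth.Agent.Lib.Helper5.DTenLib Helper5.DMod Groth.Agent.Helper5.TorAmp
  Groth.Agent.Helper3.DCompFlat Groth.Agent.Helper3.LTenCx Groth.Agent.Helper3.DCompTen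

variable {A : Type u} [CommRing A]

/-- pasting four commutative squares, two of them with invertible horizontal maps pointing
backwards -/
lemma square_chain {C : Type*} [Category C] {X0 X1 X2 X3 X4 Y0 Y1 Y2 Y3 Y4 : C}
    (a : X0 ⟶ X1) (b : X1 ⟶ X2) (c : X3 ⟶ X2) [IsIso c] (d : X4 ⟶ X3) [IsIso d]
    (a' : Y0 ⟶ Y1) (b' : Y1 ⟶ Y2) (c' : Y3 ⟶ Y2) [IsIso c'] (d' : Y4 ⟶ Y3) [IsIso d']
    (f0 : X0 ⟶ Y0) (f1 : X1 ⟶ Y1) (f2 : X2 ⟶ Y2) (f3 : X3 ⟶ Y3) (f4 : X4 ⟶ Y4)
    (h1 : f0 ≫ a' = a ≫ f1) (h2 : f1 ≫ b' = b ≫ f2) (h3 : c ≫ f2 = f3 ≫ c')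
    (h4 : d ≫ f3 = f4 ≫ d') :
    f0 ≫ (a' ≫ b' ≫ inv c' ≫ inv d') = (a ≫ b ≫ inv c ≫ inv d) ≫ f4 := by
  have e3 : f2 ≫ inv c' = inv c ≫ f3 := by
    rw [IsIso.comp_inv_eq, Category.assoc, ← h3, IsIso.inv_hom_id_assoc]
  have e4 : f3 ≫ inv d' = inv d ≫ f4 := by
    rw [IsIso.comp_inv_eq, Category.assoc, ← h4, IsIso.inv_hom_id_assoc]
  calc f0 ≫ (a' ≫ b' ≫ inv c' ≫ inv d')
      = (f0 ≫ a') ≫ b' ≫ inv c' ≫ inv d' := by rw [Category.assoc]
    _ = (a ≫ f1) ≫ b' ≫ inv c' ≫ inv d' := by rw [h1]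
    _ = a ≫ (f1 ≫ b') ≫ inv c' ≫ inv d' := by simp only [Category.assoc]
    _ = a ≫ (b ≫ f2) ≫ inv c' ≫ inv d' := by rw [h2]
    _ = a ≫ b ≫ (f2 ≫ inv c') ≫ inv d' := by simp only [Category.assoc]
    _ = a ≫ b ≫ (inv c ≫ f3) ≫ inv d' := by rw [e3]
    _ = a ≫ b ≫ inv c ≫ (f3 ≫ inv d') := by simp only [Category.assoc]
    _ = a ≫ b ≫ inv c ≫ (inv d ≫ f4) := by rw [e4]
    _ = (a ≫ b ≫ inv c ≫ inv d) ≫ f4 := by simp only [Category.assoc]

/-- `M` as a complex in degree `0` -/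
noncomputable abbrev SM (M : ModuleCat.{u} A) : DRing.Cx A :=
  (HomologicalComplex.single (ModuleCat.{u} A) (ComplexShape.up ℤ) 0).obj M

/-- comparison of `- ⊗^L M` and `- ⊗^L E` on K-projective complexes, for a resolution
`E → M[0]`, compatible with maps -/
theorem exists_cmp (M : ModuleCat.{u} A) [DRing.HasLTensor A M] (E : DRing.Cx A)
    [DRing.HasLTensorCx A E] (g : E ⟶ SM M) (hq : QuasiIso g)
    {P P' : DRing.Cx A} [P.IsKProjective] [P'.IsKProjective] (hP : DRing.IsKFlat A P)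
    (hP' : DRing.IsKFlat A P') (f : P ⟶ P') :
    ∃ (α : (DRing.LTensor A M).obj (Q.obj P) ≅ (DRing.LTensorCx A E).obj (Q.obj P))
      (α' : (DRing.LTensor A M).obj (Q.obj P') ≅ (DRing.LTensorCx A E).obj (Q.obj P')),
      (DRing.LTensor A M).map (Q.map f) ≫ α'.hom =
        α.hom ≫ (DRing.LTensorCx A E).map (Q.map f) := by
  have hz : ∀ n, n ≠ 0 → IsZero ((SM M).X n) := fun n hn =>
    HomologicalComplex.isZero_single_obj_X (ComplexShape.up ℤ) 0 M n hn
  let e : (SM M).X 0 ≅ M := HomologicalComplex.singleObjXSelf (ComplexShape.up ℤ) 0 M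
  haveI i1 : QuasiIso (P ◁ g) := quasiIso_whiskerLeft hP g hq
  haveI i1' : QuasiIso (P' ◁ g) := quasiIso_whiskerLeft hP' g hq
  haveI i2 : IsIso ((counit E).app P) := isIso_counit_app E P
  haveI i2' : IsIso ((counit E).app P') := isIso_counit_app E P'
  haveI i3 : IsIso (Q.map (P ◁ g)) := inferInstance
  haveI i3' : IsIso (Q.map (P' ◁ g)) := inferInstance
  haveI i4 : IsIso ((ltCmp M).app P) := inferInstance
  haveI i4' : IsIso ((ltCmp M).app P') := inferInstance
  haveI i5 : IsIso (Q.map (tensorConcIso P (SM M) hz e).hom) := inferInstance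
  haveI i5' : IsIso (Q.map (tensorConcIso P' (SM M) hz e).hom) := inferInstance
  have h1 : (DRing.LTensor A M).map (Q.map f) ≫ (ltCmp M).app P' =
      (ltCmp M).app P ≫ Q.map ((TM M).map f) := (ltCmp M).naturality f
  have h2 : Q.map ((TM M).map f) ≫ Q.map (tensorConcIso P' (SM M) hz e).hom =
      Q.map (tensorConcIso P (SM M) hz e).hom ≫ Q.map (f ▷ SM M) := by
    rw [← Q.map_comp, ← Q.map_comp, tensorConcIso_naturality (SM M) hz e f]
  have h3 : Q.map (P ◁ g) ≫ Q.map (f ▷ SM M) = Q.map (f ▷ E) ≫ Q.map (P' ◁ g) := by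
    rw [← Q.map_comp, ← Q.map_comp, whisker_exchange]
  have h4 : (counit E).app P ≫ Q.map (f ▷ E) =
      (DRing.LTensorCx A E).map (Q.map f) ≫ (counit E).app P' :=
    ((counit E).naturality f).symm
  have key := square_chain ((ltCmp M).app P) (Q.map (tensorConcIso P (SM M) hz e).hom)
    (Q.map (P ◁ g)) ((counit E).app P) ((ltCmp M).app P')
    (Q.map (tensorConcIso P' (SM M) hz e).hom) (Q.map (P' ◁ g)) ((counit E).app P')
    ((DRing.LTensor A M).map (Q.map f)) (Q.map ((TM M).map f)) (Q.map (f ▷ SM M))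
    (Q.map (f ▷ E)) ((DRing.LTensorCx A E).map (Q.map f)) h1 h2 h3 h4
  haveI j : IsIso ((ltCmp M).app P ≫ Q.map (tensorConcIso P (SM M) hz e).hom ≫
      inv (Q.map (P ◁ g)) ≫ inv ((counit E).app P)) := inferInstance
  haveI j' : IsIso ((ltCmp M).app P' ≫ Q.map (tensorConcIso P' (SM M) hz e).hom ≫
      inv (Q.map (P' ◁ g)) ≫ inv ((counit E).app P')) := inferInstance
  exact ⟨asIso ((ltCmp M).app P ≫ Q.map (tensorConcIso P (SM M) hz e).hom ≫
      inv (Q.map (P ◁ g)) ≫ inv ((counit E).app P)),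
    asIso ((ltCmp M).app P' ≫ Q.map (tensorConcIso P' (SM M) hz e).hom ≫
      inv (Q.map (P' ◁ g)) ≫ inv ((counit E).app P')), key⟩

section BaseChange

variable {B : Type u} [CommRing B] (φ : A →+* B)

/-- if `η ⊗^L B` is an isomorphism then so is `(η ⊗^L M) ⊗^L B`, when `M` has a K-flat
resolution `E` -/
theorem isIso_lbc_ltensor_map (M : ModuleCat.{u} A) [DRing.HasLTensor A M] (E : DRing.Cx A)
    [DRing.HasLTensorCx A E] (hE : DRing.IsKFlat A E) (g : E ⟶ SM M) (hq : QuasiIso g)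
    {K L : Dual.D A} (η : K ⟶ L) (h : IsIso ((DRing.LBaseChange φ).map η)) :
    IsIso ((DRing.LBaseChange φ).map ((DRing.LTensor A M).map η)) := by
  let XK := Q.objPreimage K
  let P : DRing.Cx A := res XK
  let e : Q.obj P ≅ K := asIso (Q.map (resMap XK)) ≪≫ Q.objObjPreimageIso K
  let XL := Q.objPreimage L
  let P' : DRing.Cx A := res XL
  let e' : Q.obj P' ≅ L := asIso (Q.map (resMap XL)) ≪≫ Q.objObjPreimageIso L
  obtain ⟨f, hf⟩ := exists_Q_map_eq P P' (e.hom ≫ η ≫ e'.inv)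
  have hη : η = e.inv ≫ Q.map f ≫ e'.hom := by
    rw [hf]
    simp
  haveI := h
  have s1 : IsIso ((DRing.LBaseChange φ).map (Q.map f)) := by
    rw [hf, Functor.map_comp, Functor.map_comp]
    infer_instance
  have s2 : IsIso ((DRing.LBaseChange φ).map ((DRing.LTensorCx A E).map (Q.map f))) :=
    isIso_lbc_ltensorCx_map φ E hE (Q.map f) s1
  obtain ⟨α, α', hnat⟩ := exists_cmp M E g hq (isKFlat_res XK) (isKFlat_res XL) f
  have key : (DRing.LTensor A M).map (Q.map f) =
      α.hom ≫ (DRing.LTensorCx A E).map (Q.map f) ≫ α'.inv := by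
    rw [← Category.assoc, ← hnat, Category.assoc, Iso.hom_inv_id, Category.comp_id]
  have s3 : IsIso ((DRing.LBaseChange φ).map ((DRing.LTensor A M).map (Q.map f))) := by
    rw [key, Functor.map_comp, Functor.map_comp]
    infer_instance
  rw [hη, Functor.map_comp, Functor.map_comp, Functor.map_comp, Functor.map_comp]
  infer_instance

end BaseChange

section Univ

variable (I : Ideal A) [DRing.HasDerivedCompletion I]

/-- a map inverted by `- ⊗^L A/I` is universal towards derived complete objects -/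
theorem bijective_comp_of_isIso_lbc (hI : I.FG) {X Y : Dual.D A} (u : X ⟶ Y)
    (hiso : IsIso ((DRing.LBaseChange (algebraMap A (A ⧸ I))).map u))
    (E : Dual.D A) (hE : DRing.IsDerivedComplete I E) :
    Function.Bijective (fun φ : Y ⟶ E => u ≫ φ) := by
  letI : (DRing.LBaseChange (algebraMap A (A ⧸ I))).CommShift ℤ :=
    (myAdj (algebraMap A (A ⧸ I))).leftAdjointCommShift ℤ
  haveI : (myAdj (algebraMap A (A ⧸ I))).CommShift ℤ :=
    (myAdj (algebraMap A (A ⧸ I))).commShift_of_rightAdjoint ℤ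
  haveI : (DRing.LBaseChange (algebraMap A (A ⧸ I))).IsTriangulated :=
    (myAdj (algebraMap A (A ⧸ I))).isTriangulated_leftAdjoint
  obtain ⟨C', g₂, g₃, hT⟩ := distinguished_cocone_triangle u
  have hLC : IsZero ((DRing.LBaseChange (algebraMap A (A ⧸ I))).obj C') := by
    have hT' := (DRing.LBaseChange (algebraMap A (A ⧸ I))).map_distinguished _ hT
    exact (Triangle.isZero₃_iff_isIso₁ _ hT').2 hiso
  have hsub : ∀ n : ℤ, Subsingleton (C' ⟶ E⟦n⟧) := fun n => ⟨fun a b => by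
    rw [hom_eq_zero_of_isZero_lbc I hI C' hLC _ (isDerivedComplete_shift I hE n) a,
      hom_eq_zero_of_isZero_lbc I hI C' hLC _ (isDerivedComplete_shift I hE n) b]⟩
  have hbij := (forall_subsingleton_iff_forall_bijective
    (Triangle.mk u g₂ g₃) hT E).1 hsub 0
  let e0 : E⟦(0 : ℤ)⟧ ≅ E := (shiftFunctorZero (Dual.D A) ℤ).app E
  constructor
  · intro φ₁ φ₂ h
    have h' : u ≫ φ₁ = u ≫ φ₂ := h
    have h2 : φ₁ ≫ e0.inv = φ₂ ≫ e0.inv := by
      apply hbij.1
      show u ≫ (φ₁ ≫ e0.inv) = u ≫ (φ₂ ≫ e0.inv)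
      rw [← Category.assoc, ← Category.assoc, h']
    exact (cancel_mono e0.inv).1 h2
  · intro ψ
    obtain ⟨α, hα⟩ := hbij.2 (ψ ≫ e0.inv)
    have hα' : u ≫ α = ψ ≫ e0.inv := hα
    refine ⟨α ≫ e0.hom, ?_⟩
    show u ≫ (α ≫ e0.hom) = ψ
    rw [← Category.assoc, hα', Category.assoc, Iso.inv_hom_id, Category.comp_id]

end Univ

/-- S7095 -/
theorem main_S7095 [IsNoetherianRing A] (I : Ideal A) [DRing.HasDerivedCompletion I]
    (M : Type u) [AddCommGroup M] [Module A M] [Module.Finite A M]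
    [DRing.HasLTensor A (ModuleCat.of A M)] (K : Dual.D A) (b : ℤ)
    (hK : ∀ i : ℤ, b < i → Subsingleton (Dual.HD A K i)) :
    DRing.IsDerivedComplete I
        ((DRing.LTensor A (ModuleCat.of A M)).obj ((DRing.derivedCompletion I).obj K).obj) ∧
      ∀ E : Dual.D A, DRing.IsDerivedComplete I E →
        Function.Bijective
          (fun φ : (DRing.LTensor A (ModuleCat.of A M)).obj
              ((DRing.derivedCompletion I).obj K).obj ⟶ E =>
            (DRing.LTensor A (ModuleCat.of A M)).map (DRing.toDerivedCompletion I K) ≫ φ) := by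
  obtain ⟨F, c, hFc, hFf, ⟨e0⟩⟩ :=
    (Groth.Agent.Helper5.PCDev.pcModule_iff_noetherian (R := A) M).2 inferInstance
  haveI : DRing.HasLTensorCx A F := Helper5.Gen.hasLTensorCx F
  have hpr : ∀ i, Module.Projective A (F.X i) := fun i =>
    haveI := (hFf i).2
    Module.Projective.of_free
  have hflat : ∀ n, Module.Flat A (F.X n) := fun n => by
    haveI := (hFf n).2
    infer_instance
  have hF : DRing.IsKFlat A F := isKFlat_of_bounded_above F c hFc hflat
  haveI := isKProjective_of_bdd F c hFc hpr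
  let e' : Q.obj F ≅ Q.obj (SM (ModuleCat.of A M)) :=
    e0 ≪≫ (DerivedCategory.singleFunctorIsoCompQ (ModuleCat.{u} A) 0).app (ModuleCat.of A M)
  obtain ⟨g, hg⟩ := exists_Q_map_eq F (SM (ModuleCat.of A M)) e'.hom
  have hq : QuasiIso g := by
    rw [← DerivedCategory.isIso_Q_map_iff_quasiIso, hg]
    infer_instance
  haveI hKle : K.IsLE b := by
    rw [DerivedCategory.isLE_iff]
    intro i hi
    exact @ModuleCat.isZero_of_subsingleton _ _ _ (hK i hi)
  haveI := Helper5.DComp.isLE_completion I K b hKle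
  constructor
  · obtain ⟨X, hXb, hproj, hKP, ⟨e⟩⟩ := exists_proj_rep ((DRing.derivedCompletion I).obj K).obj b
    haveI := hKP
    have hXflat : DRing.IsKFlat A X :=
      isKFlat_of_bounded_above X b hXb (fun n => haveI := hproj n; inferInstance)
    obtain ⟨α, _, _⟩ := exists_cmp (ModuleCat.of A M) F g hq hXflat hXflat (𝟙 X)
    have h1 := isDerivedComplete_ltensorCx I F c hFc hFf _ b
      ((DRing.derivedCompletion I).obj K).property
    exact isDerivedComplete_of_iso I ((DRing.LTensorCx A F).mapIso e.symm ≪≫ α.symm ≪≫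
      (DRing.LTensor A (ModuleCat.of A M)).mapIso e) h1
  · intro E hE
    exact bijective_comp_of_isIso_lbc I (IsNoetherian.noetherian I)
      ((DRing.LTensor A (ModuleCat.of A M)).map (DRing.toDerivedCompletion I K))
      (isIso_lbc_ltensor_map (algebraMap A (A ⧸ I)) (ModuleCat.of A M) F hF g hq
        (DRing.toDerivedCompletion I K) (isIso_lbc_unit I K)) E hE

end Groth.Agent.Helper3.DCompTen2
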