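import Groth.Agent.Lib.Helper3.TowerSite2

/-!
# Injectivity of the map from the cohomology sheaf of a derived limit
-/

universe v u

open CategoryTheory Limits Opposite Pretriangulated

namespace Groth.Agent.Helper3.DLimInj

section Tri

variable {T : Type u} [Category.{v} T] [Preadditive T] [HasZeroObject T] [HasShift T ℤ]
  [∀ n : ℤ, (shiftFunctor T n).Additive] [Pretriangulated T]
variable {K : ℕ → T} {t : ∀ n, K (n + 1) ⟶ K n} [HasProduct K] {L : T} {a : ∀ n, L ⟶ K n}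

lemma a_succ (hL : CohCx.IsRlimVia K t L a) (n : ℕ) : a (n + 1) ≫ t n = a n := by
  obtain ⟨c, hc⟩ := hL
  have h0 := comp_distTriang_mor_zero₁₂ _ hc
  have h1 : (Pi.lift a ≫ Pi.lift fun n => Pi.π K n - Pi.π K (n + 1) ≫ t n) ≫ Pi.π K n =
      0 ≫ Pi.π K n := congrArg (fun z => z ≫ Pi.π K n) h0
  rw [Category.assoc, Pi.lift_π, Preadditive.comp_sub, Pi.lift_π, Pi.lift_π_assoc, zero_comp] at h1
  exact (sub_eq_zero.1 h1).symm

lemma a_transition (hL : CohCx.IsRlimVia K t L a) (n k : ℕ) :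
    a (n + k) ≫ CohCx.transition K t n k = a n := by
  induction k with
  | zero => simp [CohCx.transition]
  | succ k ih =>
    have : a (n + (k + 1)) ≫ t (n + k) = a (n + k) := a_succ hL (n + k)
    simp only [CohCx.transition]
    rw [reassoc_of% this, ih]

theorem eq_zero_of_comp_eq_zero (hL : CohCx.IsRlimVia K t L a) (Z : T) (m : ℤ) (n₀ : ℕ)
    (h1 : CohCx.LimOneIsZero (fun n => Z ⟶ (K n)⟦m - 1⟧)
      (fun n => Preadditive.rightComp _ ((t n)⟦m - 1⟧')))
    (h2 : ∀ k : ℕ, Function.Injective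
      (Preadditive.rightComp _ ((CohCx.transition K t n₀ k)⟦m⟧') :
        (Z ⟶ (K (n₀ + k))⟦m⟧) → (Z ⟶ (K n₀)⟦m⟧)))
    (ξ : Z ⟶ L⟦m⟧) (hξ : ξ ≫ (a n₀)⟦m⟧' = 0) : ξ = 0 := by
  apply Milnor.eq_zero_of_limOne hL Z m h1 ξ
  have hge : ∀ k, ξ ≫ (a (n₀ + k))⟦m⟧' = 0 := by
    intro k
    apply h2 k
    change (ξ ≫ (a (n₀ + k))⟦m⟧') ≫ (CohCx.transition K t n₀ k)⟦m⟧' =
      0 ≫ (CohCx.transition K t n₀ k)⟦m⟧'
    rw [Category.assoc, ← Functor.map_comp, a_transition hL, hξ, zero_comp]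
  have hle : ∀ d n, n + d = n₀ → ξ ≫ (a n)⟦m⟧' = 0 := by
    intro d
    induction d with
    | zero => intro n hn; rw [add_zero] at hn; subst hn; exact hξ
    | succ d ih =>
      intro n hn
      have h1 := ih (n + 1) (by omega)
      rw [← a_succ hL n, Functor.map_comp, reassoc_of% h1, zero_comp]
  intro n
  rcases le_total n n₀ with h | h
  · exact hle (n₀ - n) n (by omega)
  · obtain ⟨k, rfl⟩ := Nat.exists_eq_add_of_le h
    exact hge k

end Tri

section Site

open Groth.Agent.Helper6.DRef Groth.Agent.Helper3.TowerSite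

variable {C : Type u} [SmallCategory C] {J : GrothendieckTopology C}
  [HasDerivedCategory.{u} (Sheaf J AddCommGrpCat.{u})]

/-- `H⁰` on the derived category of abelian sheaves -/
noncomputable abbrev H0 (J : GrothendieckTopology C)
    [HasDerivedCategory.{u} (Sheaf J AddCommGrpCat.{u})] :
    DerivedCategory (Sheaf J AddCommGrpCat.{u}) ⥤ Sheaf J AddCommGrpCat.{u} :=
  DerivedCategory.homologyFunctor (Sheaf J AddCommGrpCat.{u}) 0

lemma phiFun_postcomp {M M' : DerivedCategory (Sheaf J AddCommGrpCat.{u})} (κ : M ⟶ M') (U : C)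
    (ξ : (sg J).obj ((Fr J).obj U) ⟶ M) :
    phiFun J M' U (ξ ≫ κ) = ((H0 J).map κ).hom.app (op U) (phiFun J M U ξ) := by
  unfold phiFun
  have : cls (toQ J (ξ ≫ κ)) = cls (toQ J ξ) ≫ (H0 J).map κ := cls_postcomp (toQ J ξ) κ
  rw [this, secEquiv_comp]

lemma phiFun_zero (M : DerivedCategory (Sheaf J AddCommGrpCat.{u})) (U : C) :
    phiFun J M U 0 = 0 := by
  have := phiFun_add J M U 0 0
  rw [add_zero] at this
  exact left_eq_add.mp this

/-- the sieve of arrows over which `s` is represented by a class killed by `κ` -/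
def goodSieve {M M' : DerivedCategory (Sheaf J AddCommGrpCat.{u})} (κ : M ⟶ M') {V : C}
    (s : ToType (((H0 J).obj M).obj.obj (op V))) : Sieve V where
  arrows W g := ∃ ξ : (sg J).obj ((Fr J).obj W) ⟶ M,
    phiFun J M W ξ = ((H0 J).obj M).obj.map g.op s ∧ ξ ≫ κ = 0
  downward_closed := by
    rintro W W' g ⟨ξ, h1, h2⟩ k
    refine ⟨(sg J).map ((Fr J).map k) ≫ ξ, ?_, ?_⟩
    · rw [phiFun_map, h1, op_comp, Functor.map_comp]
      rfl
    · rw [Category.assoc, h2, comp_zero]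

lemma goodSieve_mem {M M' : DerivedCategory (Sheaf J AddCommGrpCat.{u})} (κ : M ⟶ M') {V : C}
    (s : ToType (((H0 J).obj M).obj.obj (op V)))
    (hs : ((H0 J).map κ).hom.app (op V) s = 0) : goodSieve κ s ∈ J V := by
  have hloc := Presheaf.imageSieve_mem J (phi J M) s
  refine J.transitive hloc _ ?_
  rintro V' f ⟨ξ, hξ⟩
  change (sg J).obj ((Fr J).obj V') ⟶ M at ξ
  have hξ' : phiFun J M V' ξ = ((H0 J).obj M).obj.map f.op s := hξ
  -- `ξ ≫ κ` is locally zero
  have h0 : phiFun J M' V' (ξ ≫ κ) = phiFun J M' V' 0 := by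
    rw [phiFun_postcomp, hξ', phiFun_zero]
    have hn := ConcreteCategory.congr_hom (((H0 J).map κ).hom.naturality f.op) s
    refine hn.trans ?_
    change ((H0 J).obj M').obj.map f.op (((H0 J).map κ).hom.app (op V) s) = 0
    rw [hs, map_zero]
  have heq : Presheaf.equalizerSieve (F := hPre J M') (X := op V') (ξ ≫ κ) 0 ∈ J V' :=
    Presheaf.equalizerSieve_mem J (phi J M') _ _ h0
  refine J.superset_covering ?_ heq
  intro W g hg
  have hg' : (sg J).map ((Fr J).map g) ≫ (ξ ≫ κ) = (sg J).map ((Fr J).map g) ≫ 0 := hg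
  refine ⟨(sg J).map ((Fr J).map g) ≫ ξ, ?_, ?_⟩
  · rw [phiFun_map, hξ', op_comp, Functor.map_comp]
    rfl
  · rw [Category.assoc, hg', comp_zero]

end Site

end Groth.Agent.Helper3.DLimInj
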