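import Groth.Agent.Lib.Helper3.DLimInj1

/-!
# Injectivity of the map from the cohomology sheaf of a derived limit: sections
-/

universe u

open CategoryTheory Limits Opposite Pretriangulated

namespace Groth.Agent.Helper3.DLimInj

open Groth.Agent.Helper6.DRef Groth.Agent.Helper3.TowerSite

variable {C : Type u} [SmallCategory C] {J : GrothendieckTopology C}
  [HasDerivedCategory.{u} (Sheaf J AddCommGrpCat.{u})]


section Transport

/-- transport of sections of `Hᵐ(A)` to sections of `H⁰(A⟦m⟧)` -/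
noncomputable def tr (m : ℤ) (A : DerivedCategory (Sheaf J AddCommGrpCat.{u})) (V : C) :
    ((DerivedCategory.homologyFunctor (Sheaf J AddCommGrpCat.{u}) m).obj A).obj.obj (op V) ⟶
      ((H0 J).obj (A⟦m⟧)).obj.obj (op V) :=
  ((((DerivedCategory.homologyFunctor (Sheaf J AddCommGrpCat.{u}) 0).shiftIso m 0 m
    (by simp)).inv.app A).hom.app (op V))

lemma tr_injective (m : ℤ) (A : DerivedCategory (Sheaf J AddCommGrpCat.{u})) (V : C) :
    Function.Injective (tr (J := J) m A V) := by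
  intro s s' h
  let iso := (DerivedCategory.homologyFunctor (Sheaf J AddCommGrpCat.{u}) 0).shiftIso m 0 m
    (by simp)
  have h4 := congrArg (fun φ => φ.hom.app (op V)) (iso.inv_hom_id_app A)
  have h5 := ConcreteCategory.congr_hom h4 s
  have h6 := ConcreteCategory.congr_hom h4 s'
  have h7 := congrArg ((iso.hom.app A).hom.app (op V)) h
  exact h5.symm.trans (h7.trans h6)

lemma tr_map (m : ℤ) {A B : DerivedCategory (Sheaf J AddCommGrpCat.{u})} (κ : A ⟶ B) (V : C)
    (s : ToType (((DerivedCategory.homologyFunctor (Sheaf J AddCommGrpCat.{u}) m).obj A).obj.obj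
      (op V))) :
    ((H0 J).map (κ⟦m⟧')).hom.app (op V) (tr m A V s) =
      tr m B V (((DerivedCategory.homologyFunctor _ m).map κ).hom.app (op V) s) := by
  let iso := (DerivedCategory.homologyFunctor (Sheaf J AddCommGrpCat.{u}) 0).shiftIso m 0 m
    (by simp)
  have hnat := iso.inv.naturality κ
  have h1 := congrArg (fun φ => φ.hom.app (op V)) hnat
  exact (ConcreteCategory.congr_hom h1 s).symm

lemma tr_res (m : ℤ) (A : DerivedCategory (Sheaf J AddCommGrpCat.{u})) {V W : C} (g : W ⟶ V)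
    (s : ToType (((DerivedCategory.homologyFunctor (Sheaf J AddCommGrpCat.{u}) m).obj A).obj.obj
      (op V))) :
    ((H0 J).obj (A⟦m⟧)).obj.map g.op (tr m A V s) =
      tr m A W (((DerivedCategory.homologyFunctor _ m).obj A).obj.map g.op s) := by
  let iso := (DerivedCategory.homologyFunctor (Sheaf J AddCommGrpCat.{u}) 0).shiftIso m 0 m
    (by simp)
  exact (ConcreteCategory.congr_hom ((iso.inv.app A).hom.naturality g.op) s).symm

lemma tr_zero (m : ℤ) (A : DerivedCategory (Sheaf J AddCommGrpCat.{u})) (V : C) :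
    tr (J := J) m A V 0 = 0 := map_zero _

end Transport

/-- the key step: a section of `H⁰(L⟦m⟧)` killed by `a n₀` vanishes on every good object over
which it is represented by a class killed by `a n₀` -/
lemma restrict_eq_zero
    {K : ℕ → DerivedCategory (Sheaf J AddCommGrpCat.{u})} {t : ∀ n, K (n + 1) ⟶ K n} [HasProduct K]
    {L : DerivedCategory (Sheaf J AddCommGrpCat.{u})} {a : ∀ n, L ⟶ K n}
    (hL : CohCx.IsRlimVia K t L a) (m : ℤ) (n₀ : ℕ) {V W : C} (g : W ⟶ V)
    (s : ToType (((H0 J).obj (L⟦m⟧)).obj.obj (op V)))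
    (hg : (goodSieve ((a n₀)⟦m⟧') s).arrows g)
    (h1 : CohCx.LimOneIsZero (fun n => CohCx.HDU (K n) (m - 1) W)
      (fun n => Preadditive.rightComp _ ((shiftFunctor _ (m - 1)).map (t n))))
    (h2 : ∀ k : ℕ, Function.Injective
      (Preadditive.rightComp _ ((shiftFunctor _ m).map (CohCx.transition K t n₀ k)) :
        CohCx.HDU (K (n₀ + k)) m W → CohCx.HDU (K n₀) m W)) :
    ((H0 J).obj (L⟦m⟧)).obj.map g.op s = 0 := by
  obtain ⟨ξ, hξ1, hξ2⟩ := hg
  have h0 : ξ = 0 := eq_zero_of_comp_eq_zero hL _ m n₀ h1 h2 ξ hξ2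
  rw [← hξ1, h0, phiFun_zero]

theorem injective_H0 {K : ℕ → DerivedCategory (Sheaf J AddCommGrpCat.{u})}
    {t : ∀ n, K (n + 1) ⟶ K n} [HasProduct K]
    {L : DerivedCategory (Sheaf J AddCommGrpCat.{u})} {a : ∀ n, L ⟶ K n}
    (hL : CohCx.IsRlimVia K t L a) (V : C) (m : ℤ) (nV : ℕ)
    (h : ∀ T ∈ J V, ∃ (ι : Type u) (Y : ι → C) (f : ∀ i, Y i ⟶ V), (∀ i, T.arrows (f i)) ∧
      Sieve.ofArrows Y f ∈ J V ∧ ∀ i,
        CohCx.LimOneIsZero (fun n => CohCx.HDU (K n) (m - 1) (Y i))
          (fun n => Preadditive.rightComp _ ((shiftFunctor _ (m - 1)).map (t n))) ∧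
        ∀ k : ℕ, Function.Injective
          (Preadditive.rightComp _ ((shiftFunctor _ m).map (CohCx.transition K t nV k)) :
            CohCx.HDU (K (nV + k)) m (Y i) → CohCx.HDU (K nV) m (Y i)))
    (s : ToType (((H0 J).obj (L⟦m⟧)).obj.obj (op V)))
    (hs : ((H0 J).map ((a nV)⟦m⟧')).hom.app (op V) s = 0) : s = 0 := by
  obtain ⟨ι, Y, f, hf, hcov, hY⟩ := h _ (goodSieve_mem ((a nV)⟦m⟧') s hs)
  refine eq_zero_of_locally_zero _ s _ hcov ?_
  intro W k hk
  obtain ⟨i, b, rfl⟩ := (Sieve.mem_ofArrows_iff Y f k).1 hk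
  rw [op_comp, Functor.map_comp]
  have := restrict_eq_zero hL m nV (f i) s (hf i) (hY i).1 (hY i).2
  change ((H0 J).obj (L⟦m⟧)).obj.map b.op (((H0 J).obj (L⟦m⟧)).obj.map (f i).op s) = 0
  rw [this, map_zero]

theorem s0880_main {K : ℕ → DerivedCategory (Sheaf J AddCommGrpCat.{u})}
    (t : ∀ n, K (n + 1) ⟶ K n) [HasProduct K]
    (L : DerivedCategory (Sheaf J AddCommGrpCat.{u})) (a : ∀ n, L ⟶ K n)
    (hL : CohCx.IsRlimVia K t L a) (V : C) (m : ℤ) (nV : ℕ)
    (h : ∀ T ∈ J V, ∃ (ι : Type u) (Y : ι → C) (f : ∀ i, Y i ⟶ V), (∀ i, T.arrows (f i)) ∧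
      Sieve.ofArrows Y f ∈ J V ∧ ∀ i,
        CohCx.LimOneIsZero (fun n => CohCx.HDU (K n) (m - 1) (Y i))
          (fun n => Preadditive.rightComp _ ((shiftFunctor _ (m - 1)).map (t n))) ∧
        ∀ k : ℕ, Function.Injective
          (Preadditive.rightComp _ ((shiftFunctor _ m).map (CohCx.transition K t nV k)) :
            CohCx.HDU (K (nV + k)) m (Y i) → CohCx.HDU (K nV) m (Y i))) :
    Function.Injective (((DerivedCategory.homologyFunctor _ m).map (a nV)).hom.app (op V)) := by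
  let iso := (DerivedCategory.homologyFunctor (Sheaf J AddCommGrpCat.{u}) 0).shiftIso m 0 m
    (by simp)
  rw [injective_iff_map_eq_zero]
  intro s hs
  -- transport to `H⁰` of the shifted objects
  let s' : ToType (((H0 J).obj (L⟦m⟧)).obj.obj (op V)) := (iso.inv.app L).hom.app (op V) s
  have hs' : ((H0 J).map ((a nV)⟦m⟧')).hom.app (op V) s' = 0 := by
    have hnat := iso.inv.naturality (a nV)
    have h1 := congrArg (fun φ => φ.hom.app (op V)) hnat
    have h2 := ConcreteCategory.congr_hom h1 s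
    refine h2.symm.trans ?_
    change (iso.inv.app (K nV)).hom.app (op V)
      (((DerivedCategory.homologyFunctor _ m).map (a nV)).hom.app (op V) s) = 0
    rw [hs]
    exact map_zero _
  have h0 := injective_H0 hL V m nV h s' hs'
  have h3 : (iso.hom.app L).hom.app (op V) s' = s := by
    have h4 := congrArg (fun φ => φ.hom.app (op V)) (iso.inv_hom_id_app L)
    exact ConcreteCategory.congr_hom h4 s
  rw [← h3, h0]
  exact map_zero _


namespace Top

open TopologicalSpace

variable {X : TopCat.{u}} [HasDerivedCategory.{u} (CohTop.Ab X)]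

theorem s0874_main {K : ℕ → DerivedCategory (CohTop.Ab X)} (t : ∀ n, K (n + 1) ⟶ K n)
    [HasProduct K]
    (L : DerivedCategory (CohTop.Ab X)) (a : ∀ n, L ⟶ K n) (hL : CohCx.IsRlimVia K t L a)
    (x : X) (m : ℤ) (nx : ℕ)
    (h : ∀ V : Opens X, x ∈ V → ∃ U : Opens X, x ∈ U ∧ U ≤ V ∧
      CohCx.LimOneIsZero (fun n => CohCx.HDU (K n) (m - 1) U)
        (fun n => Preadditive.rightComp _ ((shiftFunctor _ (m - 1)).map (t n))) ∧
      ∀ k : ℕ, Function.Injective
        (Preadditive.rightComp _ ((shiftFunctor _ m).map (CohCx.transition K t nx k)) :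
          CohCx.HDU (K (nx + k)) m U → CohCx.HDU (K nx) m U)) :
    Function.Injective ((TopCat.Presheaf.stalkFunctor AddCommGrpCat.{u} x).map
      ((DerivedCategory.homologyFunctor (CohTop.Ab X) m).map (a nx)).hom) := by
  rw [injective_iff_map_eq_zero]
  intro ξ hξ
  obtain ⟨V₀, hxV₀, s, rfl⟩ := TopCat.Presheaf.exists_germ_eq _ ξ
  rw [TopCat.Presheaf.stalkFunctor_map_germ_apply] at hξ
  have h0 : TopCat.Presheaf.germ
      ((DerivedCategory.homologyFunctor (CohTop.Ab X) m).obj (K nx)).obj V₀ x hxV₀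
        (((DerivedCategory.homologyFunctor (CohTop.Ab X) m).map (a nx)).hom.app (op V₀) s) =
      TopCat.Presheaf.germ
        ((DerivedCategory.homologyFunctor (CohTop.Ab X) m).obj (K nx)).obj V₀ x hxV₀ 0 := by
    exact hξ.trans (map_zero _).symm
  obtain ⟨W, hxW, iU, iV, e⟩ := TopCat.Presheaf.germ_eq _ x hxV₀ hxV₀ _ _ h0
  rw [map_zero] at e
  -- restrict `s` to `W`
  have hsW : ((DerivedCategory.homologyFunctor (CohTop.Ab X) m).map (a nx)).hom.app (op W)
      (((DerivedCategory.homologyFunctor (CohTop.Ab X) m).obj L).obj.map iU.op s) = 0 := by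
    have hn := ConcreteCategory.congr_hom
      (((DerivedCategory.homologyFunctor (CohTop.Ab X) m).map (a nx)).hom.naturality iU.op) s
    exact hn.trans e
  have hs' : ((H0 _).map ((a nx)⟦m⟧')).hom.app (op W)
      (tr m L W (((DerivedCategory.homologyFunctor (CohTop.Ab X) m).obj L).obj.map iU.op s)) =
        0 := by
    rw [tr_map, hsW, tr_zero]
  obtain ⟨W', g, hg, hxW'⟩ := goodSieve_mem ((a nx)⟦m⟧') _ hs' x hxW
  obtain ⟨U, hxU, hUW', h1, h2⟩ := h W' hxW'
  have hgU : (goodSieve ((a nx)⟦m⟧') (tr m L W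
      (((DerivedCategory.homologyFunctor (CohTop.Ab X) m).obj L).obj.map iU.op s))).arrows
        (homOfLE hUW' ≫ g) := Sieve.downward_closed _ hg _
  have hz := restrict_eq_zero hL m nx (homOfLE hUW' ≫ g) _ hgU h1 h2
  rw [tr_res, ← tr_zero m L U] at hz
  have hz' := tr_injective m L U hz
  -- conclude
  rw [← TopCat.Presheaf.germ_res_apply _ iU x hxW s,
    ← TopCat.Presheaf.germ_res_apply _ (homOfLE hUW' ≫ g) x hxU, hz']
  exact map_zero _

end Top

end Groth.Agent.Helper3.DLimInj
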