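import Mathlib
import Groth.Agent.Lib.Helper3.KInjProd

/-!
# Products in the derived category of an abelian category with exact products

If products of shape `J` are exact in `B`, the termwise product of a family of cochain complexes
is a product in the derived category.
-/

set_option autoImplicit false
set_option linter.unusedSectionVars false
universe w w' v u

open CategoryTheory CategoryTheory.Limits

namespace Groth.Agent.Helper3.DProd

open KInjProd

section Termwise

variable {A : Type u} [Category.{v} A] [Abelian A] {J : Type w} [HasProductsOfShape J A]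

/-- the map between termwise products -/
noncomputable def mapP {K K' : J → CochainComplex A ℤ} (s : ∀ j, K j ⟶ K' j) : pK K ⟶ pK K' :=
  liftK (fun j => prK K j ≫ s j)

lemma mapP_prK {K K' : J → CochainComplex A ℤ} (s : ∀ j, K j ⟶ K' j) (j : J) :
    mapP s ≫ prK K' j = prK K j ≫ s j := liftK_prK _ j

lemma mapP_f {K K' : J → CochainComplex A ℤ} (s : ∀ j, K j ⟶ K' j) (n : ℤ) :
    (mapP s).f n = Limits.Pi.map (fun j => (s j).f n) := by
  change Limits.Pi.lift (fun j => (prK K j ≫ s j).f n) = _
  apply Limits.Pi.hom_ext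
  intro j
  rw [Limits.Pi.map_π, Limits.Pi.lift_π]
  rfl

end Termwise

/-- `lim` is additive -/
instance limAdditive {J C : Type*} [Category J] [Category C] [HasLimitsOfShape J C]
    [Preadditive C] : (lim (J := J) (C := C)).Additive where
  map_add {X Y f g} := by
    apply limit.hom_ext
    intro j
    simp

section QIso

variable {A : Type u} [Category.{v} A] [Abelian A] {J : Type w}
  [HasLimitsOfShape (Discrete J) A] [HasExactLimitsOfShape (Discrete J) A]

/-- the family as a complex in the functor category -/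
def famCx (K : J → CochainComplex A ℤ) : CochainComplex (Discrete J ⥤ A) ℤ where
  X n := Discrete.functor (fun j => (K j).X n)
  d n m := Discrete.natTrans (fun j => (K j.as).d n m)
  shape n m h := by
    ext ⟨j⟩
    simp [(K j).shape n m h]
  d_comp_d' n m l _ _ := by
    ext ⟨j⟩
    simp

/-- a family of maps as a map in the functor category -/
def famMap {K K' : J → CochainComplex A ℤ} (s : ∀ j, K j ⟶ K' j) : famCx K ⟶ famCx K' where
  f n := Discrete.natTrans (fun j => (s j.as).f n)
  comm' n m _ := by
    ext ⟨j⟩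
    simp [famCx]

lemma quasiIso_famMap {K K' : J → CochainComplex A ℤ} (s : ∀ j, K j ⟶ K' j)
    (hs : ∀ j, QuasiIso (s j)) : QuasiIso (famMap s) := by
  rw [HomologicalComplex.quasiIso_iff_evaluation]
  rintro ⟨j⟩
  refine (_root_.quasiIso_iff_of_arrow_mk_iso _ (s j) ?_).2 (hs j)
  refine Arrow.isoMk (HomologicalComplex.Hom.isoOfComponents (fun n => Iso.refl _) ?_)
    (HomologicalComplex.Hom.isoOfComponents (fun n => Iso.refl _) ?_) ?_
  · intro n m _
    simp [famCx]
    exact (Category.id_comp _).trans (Category.comp_id _).symm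
  · intro n m _
    simp [famCx]
    exact (Category.id_comp _).trans (Category.comp_id _).symm
  · ext n
    simp [famMap, famCx]
    exact (Category.id_comp _).trans (Category.comp_id _).symm

/-- the termwise product is the image of the family under `lim` -/
noncomputable def limIso (K : J → CochainComplex A ℤ) :
    ((lim : (Discrete J ⥤ A) ⥤ A).mapHomologicalComplex (ComplexShape.up ℤ)).obj (famCx K) ≅
      pK K :=
  HomologicalComplex.Hom.isoOfComponents (fun n => Iso.refl _) (by
    intro n m _
    exact (Category.id_comp _).trans (Category.comp_id _).symm)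

lemma quasiIso_mapP {K K' : J → CochainComplex A ℤ} (s : ∀ j, K j ⟶ K' j)
    (hs : ∀ j, QuasiIso (s j)) : QuasiIso (mapP s) := by
  have h1 := quasiIso_famMap s hs
  have h2 : QuasiIso (((lim : (Discrete J ⥤ A) ⥤ A).mapHomologicalComplex
      (ComplexShape.up ℤ)).map (famMap s)) := inferInstance
  refine (_root_.quasiIso_iff_of_arrow_mk_iso _ (mapP s) ?_).1 h2
  refine Arrow.isoMk (limIso K) (limIso K') ?_
  ext n
  change (𝟙 _ ≫ (mapP s).f n) = limMap (Discrete.natTrans (fun j => (s j.as).f n)) ≫ 𝟙 _
  rw [mapP_f]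
  exact (Category.id_comp _).trans (Category.comp_id _).symm

end QIso

section Derived

variable {A : Type u} [Category.{v} A] [Abelian A] [HasDerivedCategory.{w'} A] {J : Type w}
  [HasLimitsOfShape (Discrete J) A] [HasExactLimitsOfShape (Discrete J) A]

open DerivedCategory

lemma exists_lift (K : J → CochainComplex A ℤ) (L : CochainComplex A ℤ)
    (φ : ∀ j, Q.obj L ⟶ Q.obj (K j)) :
    ∃ Φ : Q.obj L ⟶ Q.obj (pK K), ∀ j, Φ ≫ Q.map (prK K j) = φ j := by
  have h := fun j => left_fac (φ j)
  choose K' g s hs hg using h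
  have hq : ∀ j, QuasiIso (s j) := fun j => (isIso_Q_map_iff_quasiIso A _).1 (hs j)
  have hS : IsIso (Q.map (mapP s)) := (isIso_Q_map_iff_quasiIso A _).2 (quasiIso_mapP s hq)
  refine ⟨Q.map (liftK g) ≫ inv (Q.map (mapP s)), fun j => ?_⟩
  have h1 : Q.map (prK K j) = Q.map (mapP s) ≫ Q.map (prK K' j) ≫ inv (Q.map (s j)) := by
    rw [← Category.assoc, ← Functor.map_comp, mapP_prK, Functor.map_comp, Category.assoc,
      IsIso.hom_inv_id, Category.comp_id]
  rw [h1, Category.assoc, IsIso.inv_hom_id_assoc, ← Category.assoc, ← Functor.map_comp,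
    liftK_prK, hg]

lemma exists_qis_homotopy {M N : CochainComplex A ℤ} (u : M ⟶ N) (hu : Q.map u = 0) :
    ∃ (N' : CochainComplex A ℤ) (s : N ⟶ N'), QuasiIso s ∧ Nonempty (Homotopy (u ≫ s) 0) := by
  have h1 : Qh.map ((HomotopyCategory.quotient _ _).map u) =
      Qh.map ((HomotopyCategory.quotient _ _).map (0 : M ⟶ N)) := by
    have h2 := quotientCompQhIso_hom_naturality u
    rw [hu, comp_zero] at h2
    have h3 : Qh.map ((HomotopyCategory.quotient _ _).map u) = 0 := by
      rw [← cancel_mono ((quotientCompQhIso A).hom.app N), h2, zero_comp]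
    rw [h3, Functor.map_zero, Functor.map_zero]
  rw [MorphismProperty.map_eq_iff_postcomp Qh (HomotopyCategory.quasiIso A (ComplexShape.up ℤ))] at h1
  obtain ⟨Z, s, hs, hfac⟩ := h1
  obtain ⟨N', rfl⟩ := HomotopyCategory.quotient_obj_surjective Z
  obtain ⟨s, rfl⟩ := (HomotopyCategory.quotient _ _).map_surjective s
  rw [HomotopyCategory.quotient_map_mem_quasiIso_iff] at hs
  rw [← Functor.map_comp, ← Functor.map_comp, zero_comp] at hfac
  exact ⟨N', s, hs, ⟨HomotopyCategory.homotopyOfEq _ _ hfac⟩⟩

lemma eq_zero_of_prK (K : J → CochainComplex A ℤ) (L : CochainComplex A ℤ)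
    (Φ : Q.obj L ⟶ Q.obj (pK K)) (hΦ : ∀ j, Φ ≫ Q.map (prK K j) = 0) : Φ = 0 := by
  obtain ⟨L', t, ht, g, rfl⟩ := right_fac Φ
  have h1 : ∀ j, Q.map (g ≫ prK K j) = 0 := by
    intro j
    have := hΦ j
    rw [Category.assoc, ← Functor.map_comp] at this
    rw [← cancel_epi (inv (Q.map t)), this, comp_zero]
  have h2 := fun j => exists_qis_homotopy _ (h1 j)
  choose M' s hs hh using h2
  have hS : IsIso (Q.map (mapP s)) := (isIso_Q_map_iff_quasiIso A _).2 (quasiIso_mapP s hs)
  have h3 : Nonempty (Homotopy (g ≫ mapP s) 0) := by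
    apply homotopy_of_components
    intro j
    rw [Category.assoc, mapP_prK, ← Category.assoc, zero_comp]
    exact hh j
  have h4 : Q.map (g ≫ mapP s) = 0 := by
    rw [Q_map_eq_of_homotopy A h3.some, Functor.map_zero]
  rw [Functor.map_comp] at h4
  have h5 : Q.map g = 0 := by
    rw [← cancel_mono (Q.map (mapP s)), h4, zero_comp]
  rw [h5, comp_zero]

lemma exists_lift' (K : J → CochainComplex A ℤ) (Y : DerivedCategory A)
    (φ : ∀ j, Y ⟶ Q.obj (K j)) :
    ∃ Φ : Y ⟶ Q.obj (pK K), ∀ j, Φ ≫ Q.map (prK K j) = φ j := by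
  obtain ⟨Φ, hΦ⟩ := exists_lift K (Q.objPreimage Y) (fun j => (Q.objObjPreimageIso Y).hom ≫ φ j)
  exact ⟨(Q.objObjPreimageIso Y).inv ≫ Φ, fun j => by
    rw [Category.assoc, hΦ, Iso.inv_hom_id_assoc]⟩

lemma eq_zero_of_prK' (K : J → CochainComplex A ℤ) (Y : DerivedCategory A)
    (Φ : Y ⟶ Q.obj (pK K)) (hΦ : ∀ j, Φ ≫ Q.map (prK K j) = 0) : Φ = 0 := by
  have := eq_zero_of_prK K (Q.objPreimage Y) ((Q.objObjPreimageIso Y).hom ≫ Φ) (fun j => by
    rw [Category.assoc, hΦ, comp_zero])
  rw [← cancel_epi (Q.objObjPreimageIso Y).hom, this, comp_zero]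

/-- the image of the termwise product is a product in the derived category -/
noncomputable def isLimitFan (K : J → CochainComplex A ℤ) :
    IsLimit (Fan.mk (Q.obj (pK K)) (fun j => Q.map (prK K j))) :=
  Fan.IsLimit.mk _ (fun s => (exists_lift' K s.pt (fun j => s.proj j)).choose)
    (fun s j => (exists_lift' K s.pt (fun j => s.proj j)).choose_spec j)
    (fun s m hm => by
      have h := (exists_lift' K s.pt (fun j => s.proj j)).choose_spec
      rw [← sub_eq_zero]
      apply eq_zero_of_prK'
      intro j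
      rw [Preadditive.sub_comp]
      have h1 := hm j
      have h2 := h j
      change m ≫ Q.map (prK K j) = s.proj j at h1
      rw [h1, h2, sub_self])

end Derived

end Groth.Agent.Helper3.DProd
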