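import Mathlib
import Groth.Agent.Lib.Helper7.Hensel.IntegralDomain

/-!
# Finite extensions of complete discrete valuation rings (helper3)

`A` a complete DVR, `B` a Dedekind domain which is a finite torsion-free `A`-algebra.

* `maximal_unique`, `isLocalRing_B`, `liesOver`, `M_ne_bot`, `ideal_eq_pow`: `B` is local, every
  nonzero ideal is a power of the maximal ideal.
* `ramificationIdx_mul_inertiaDeg`: `e f = n`.
* `s11088`: `v(N(x)) = f w(x)`.
* `s11087`: Teichmüller-type lifting of the residue field when it is perfect.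
* `s11089`: tamely totally ramified extensions are generated by an `n`-th root of a uniformizer.
-/

open Polynomial

namespace Groth.Agent.Helper3.DVRExt

universe u

theorem M_not_isUnit (B : Type*) [CommRing B] (M : Ideal B) [hM : M.IsMaximal] : ¬ IsUnit M := by
  rw [Ideal.isUnit_iff]; exact hM.ne_top

section Setup

variable (A B : Type u) [CommRing A] [IsDomain A] [IsDiscreteValuationRing A]
    [IsAdicComplete (IsLocalRing.maximalIdeal A) A]
    [CommRing B] [IsDedekindDomain B] [Algebra A B] [Module.Finite A B] [Module.IsTorsionFree A B]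

theorem henselianLocalRing_A : HenselianLocalRing A :=
  Groth.Agent.Helper7.Hensel.henselianLocalRing_of_henselianRing inferInstance

include A

theorem isLocalRing_B : IsLocalRing B := by
  haveI := henselianLocalRing_A A
  exact Groth.Agent.Helper7.Hensel.isLocalRing_of_isIntegral_domain A B

theorem henselianLocalRing_B : HenselianLocalRing B := by
  haveI := henselianLocalRing_A A
  haveI := isLocalRing_B A B
  exact Groth.Agent.Helper7.Hensel.henselianLocalRing_of_isIntegral_of_isLocalRing A B

theorem maximal_unique (M M' : Ideal B) [M.IsMaximal] [M'.IsMaximal] : M' = M := by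
  haveI := henselianLocalRing_A A
  exact Groth.Agent.Helper7.Hensel.maximal_eq_of_isIntegral_domain A B M' M

theorem liesOver (M : Ideal B) [M.IsMaximal] : M.LiesOver (IsLocalRing.maximalIdeal A) :=
  ⟨(IsLocalRing.eq_maximalIdeal (Ideal.isMaximal_comap_of_isIntegral_of_isMaximal M)).symm⟩

theorem not_isField_B : ¬ IsField B := fun h =>
  IsDiscreteValuationRing.not_isField A
    (isField_of_isIntegral_of_isField (FaithfulSMul.algebraMap_injective A B) h)

theorem M_ne_bot (M : Ideal B) [hM : M.IsMaximal] : M ≠ ⊥ :=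
  Ring.ne_bot_of_isMaximal_of_not_isField hM (not_isField_B A B)

theorem eq_maximalIdeal (M : Ideal B) [hM : M.IsMaximal] :
    letI := isLocalRing_B A B
    M = IsLocalRing.maximalIdeal B := by
  letI := isLocalRing_B A B
  exact IsLocalRing.eq_maximalIdeal hM

theorem ideal_eq_pow (M : Ideal B) [hM : M.IsMaximal] (I : Ideal B) (hI : I ≠ ⊥) :
    ∃ n : ℕ, I = M ^ n := by
  haveI := isLocalRing_B A B
  have htfae := IsDiscreteValuationRing.TFAE B (not_isField_B A B)
  have h26 : IsDedekindDomain B →
      ∀ I : Ideal B, I ≠ ⊥ → ∃ n : ℕ, I = IsLocalRing.maximalIdeal B ^ n := (htfae.out 2 6).mp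
  have h := h26 inferInstance I hI
  rwa [← IsLocalRing.eq_maximalIdeal hM] at h

/-- `m B = M ^ e` with `e` the ramification index. -/
theorem map_maximalIdeal_eq_pow (M : Ideal B) [hM : M.IsMaximal] :
    (IsLocalRing.maximalIdeal A).map (algebraMap A B) = M ^ M.ramificationIdx A := by
  haveI := liesOver A B M
  have hmB : (IsLocalRing.maximalIdeal A).map (algebraMap A B) ≠ ⊥ :=
    Ideal.map_ne_bot_of_ne_bot (IsDiscreteValuationRing.not_a_field A)
  obtain ⟨e, he⟩ := ideal_eq_pow A B M _ hmB
  have he' : M.ramificationIdx A = e := by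
    rw [Ideal.IsDedekindDomain.ramificationIdx_eq_multiplicity (IsLocalRing.maximalIdeal A) M hmB,
      he, multiplicity_pow_self (M_ne_bot A B M) (M_not_isUnit B M)]
  rw [he', he]

theorem ramificationIdx_mul_inertiaDeg (M : Ideal B) [hM : M.IsMaximal] :
    M.ramificationIdx A * M.inertiaDeg A = Module.finrank A B := by
  haveI := liesOver A B M
  letI : Unique ((IsLocalRing.maximalIdeal A).primesOver B) :=
    { default := ⟨M, hM.isPrime, liesOver A B M⟩
      uniq := fun q => by
        haveI : q.1.IsPrime := q.2.1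
        haveI : q.1.LiesOver (IsLocalRing.maximalIdeal A) := q.2.2
        haveI : q.1.IsMaximal :=
          Ideal.IsMaximal.of_liesOver_isMaximal q.1 (IsLocalRing.maximalIdeal A)
        exact Subtype.ext (maximal_unique A B M q.1) }
  have h := Ideal.sum_ramification_inertia_eq_finrank (IsLocalRing.maximalIdeal A) B
  rw [Fintype.sum_unique] at h
  exact h

omit [IsAdicComplete (IsLocalRing.maximalIdeal A) A] in
theorem emultiplicity_pow_maximalIdeal (k : ℕ) :
    emultiplicity (IsLocalRing.maximalIdeal A) (IsLocalRing.maximalIdeal A ^ k) = k :=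
  emultiplicity_pow_self (IsDiscreteValuationRing.not_a_field A)
    (by rw [Ideal.isUnit_iff]; exact Ideal.IsMaximal.ne_top inferInstance) k

/-- The relative norm of the maximal ideal. -/
theorem relNorm_M (M : Ideal B) [hM : M.IsMaximal] :
    Ideal.relNorm A M = IsLocalRing.maximalIdeal A ^ M.inertiaDeg A := by
  haveI := liesOver A B M
  obtain ⟨s, hs⟩ := Ideal.exists_relNorm_eq_pow_of_isPrime M (IsLocalRing.maximalIdeal A)
  have h1 := Ideal.relNorm_algebraMap B (IsLocalRing.maximalIdeal A)
  rw [map_maximalIdeal_eq_pow A B M, map_pow, hs, ← pow_mul] at h1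
  have h2 := congrArg (emultiplicity (IsLocalRing.maximalIdeal A)) h1
  rw [emultiplicity_pow_maximalIdeal, emultiplicity_pow_maximalIdeal, Nat.cast_inj,
    ← ramificationIdx_mul_inertiaDeg A B M, mul_comm] at h2
  have h3 : s = M.inertiaDeg A :=
    Nat.eq_of_mul_eq_mul_left (Ideal.ramificationIdx_pos M A) h2
  rw [hs, h3]

theorem s11088 (M : Ideal B) [hM : M.IsMaximal] (x : B) (hx : x ≠ 0) :
    emultiplicity (IsLocalRing.maximalIdeal A) (Ideal.span {Algebra.intNorm A B x}) =
      (M.inertiaDeg A : ℕ∞) * emultiplicity M (Ideal.span {x}) := by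
  obtain ⟨w, hw⟩ := ideal_eq_pow A B M (Ideal.span {x})
    (by rwa [Ne, Ideal.span_singleton_eq_bot])
  rw [← Ideal.relNorm_singleton A x, hw, map_pow, relNorm_M A B M, ← pow_mul,
    emultiplicity_pow_maximalIdeal, emultiplicity_pow_self (M_ne_bot A B M) (M_not_isUnit B M)]
  push_cast
  rfl

end Setup

/-- An element of a proper ideal of a domain which is algebraic over a subfield is zero. -/
theorem eq_zero_of_isAlgebraic_of_mem {K B : Type*} [Field K] [CommRing B] [IsDomain B]
    [Algebra K B] (M : Ideal B) (hM : M ≠ ⊤) {d : B} (hd : IsAlgebraic K d) (hdM : d ∈ M) :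
    d = 0 := by
  by_contra hd0
  have hint := hd.isIntegral
  have h0 : (minpoly K d).coeff 0 ≠ 0 := fun h => hd0 ((minpoly.coeff_zero_eq_zero hint).mp h)
  have h1 : Polynomial.aeval d ((minpoly K d).divX * X + C ((minpoly K d).coeff 0)) = 0 := by
    rw [Polynomial.divX_mul_X_add]; exact minpoly.aeval K d
  rw [map_add, map_mul, Polynomial.aeval_X, Polynomial.aeval_C] at h1
  have h2 : algebraMap K B ((minpoly K d).coeff 0) ∈ M := by
    have h3 : algebraMap K B ((minpoly K d).coeff 0) =
        -(Polynomial.aeval d (minpoly K d).divX * d) := eq_neg_of_add_eq_zero_right h1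
    rw [h3]
    exact M.neg_mem (Ideal.mul_mem_left _ _ hdM)
  exact hM (Ideal.eq_top_of_isUnit_mem _ h2 ((h0.isUnit).map _))

section Teich

variable (K A B : Type u) [Field K] [PerfectField K] [CommRing A] [IsDomain A]
    [IsDiscreteValuationRing A] [IsAdicComplete (IsLocalRing.maximalIdeal A) A]
    [Algebra K A]
    [CommRing B] [IsDedekindDomain B] [Algebra A B] [Module.Finite A B] [Module.IsTorsionFree A B]
    [Algebra K B] [IsScalarTower K A B]

theorem s11087 (hK : Function.Bijective ((IsLocalRing.residue A).comp (algebraMap K A)))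
    (M : Ideal B) [hM : M.IsMaximal] (b : B) :
    ∃! c : B, IsAlgebraic K c ∧ b - c ∈ M := by
  haveI := henselianLocalRing_A A
  haveI := isLocalRing_B A B
  haveI := henselianLocalRing_B A B
  haveI : IsLocalHom (algebraMap A B) := Groth.Agent.Helper7.Hensel.isLocalHom_of_isIntegral
  have hMeq : M = IsLocalRing.maximalIdeal B := IsLocalRing.eq_maximalIdeal hM
  let σ : K ≃+* IsLocalRing.ResidueField A := RingEquiv.ofBijective _ hK
  have hint : IsIntegral (IsLocalRing.ResidueField A) (IsLocalRing.residue B b) :=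
    Algebra.IsIntegral.isIntegral _
  set q := minpoly (IsLocalRing.ResidueField A) (IsLocalRing.residue B b) with hq
  set g : K[X] := q.map (σ.symm : IsLocalRing.ResidueField A →+* K) with hg
  have hgq : g.map (σ : K →+* IsLocalRing.ResidueField A) = q := by
    rw [hg, Polynomial.map_map]
    have h1 : (σ : K →+* IsLocalRing.ResidueField A).comp
        (σ.symm : IsLocalRing.ResidueField A →+* K) = RingHom.id _ := by
      ext x; simp
    rw [h1, Polynomial.map_id]
  have hgirr : Irreducible g := by
    have h1 : g = Polynomial.mapEquiv σ.symm q := rfl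
    rw [h1, MulEquiv.irreducible_iff]
    exact minpoly.irreducible hint
  have hgsep : g.Separable := PerfectField.separable_of_irreducible hgirr
  have hqsep : q.Separable := by rw [← hgq]; exact hgsep.map
  have hgmonic : g.Monic := (minpoly.monic hint).map _
  have hcompat : ∀ (p : K[X]) (y : B),
      IsLocalRing.residue B ((p.map (algebraMap K B)).eval y) =
      Polynomial.aeval (IsLocalRing.residue B y)
        (p.map (σ : K →+* IsLocalRing.ResidueField A)) := by
    intro p y
    rw [Polynomial.eval_map, Polynomial.hom_eval₂, Polynomial.aeval_def, Polynomial.eval₂_map]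
    congr 1
    ext k
    simp only [RingHom.comp_apply]
    rw [IsScalarTower.algebraMap_apply K A B]
    rfl
  have h1 : ((g.map (algebraMap K B)).eval b) ∈ IsLocalRing.maximalIdeal B := by
    rw [← IsLocalRing.residue_eq_zero_iff, hcompat, hgq]
    exact minpoly.aeval _ _
  have h2 : IsUnit ((g.map (algebraMap K B)).derivative.eval b) := by
    rw [← IsLocalRing.residue_ne_zero_iff_isUnit, Polynomial.derivative_map, hcompat,
      ← Polynomial.derivative_map, hgq]
    exact hqsep.aeval_derivative_ne_zero (minpoly.aeval _ _)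
  obtain ⟨c, hc, hcb⟩ := HenselianLocalRing.is_henselian (g.map (algebraMap K B))
    (hgmonic.map _) b h1 h2
  have hcalg : IsAlgebraic K c := by
    refine ⟨g, hgmonic.ne_zero, ?_⟩
    rw [Polynomial.aeval_def, ← Polynomial.eval_map]
    exact hc
  have hbc : b - c ∈ M := by
    rw [hMeq, ← neg_sub]
    exact (IsLocalRing.maximalIdeal B).neg_mem hcb
  refine ⟨c, ⟨hcalg, hbc⟩, ?_⟩
  rintro c' ⟨hc'alg, hc'M⟩
  have hd : c' - c ∈ M := by
    have h3 : c' - c = (b - c) - (b - c') := by ring
    rw [h3]
    exact M.sub_mem hbc hc'M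
  have h0 := eq_zero_of_isAlgebraic_of_mem M hM.ne_top (hc'alg.sub hcalg) hd
  exact sub_eq_zero.mp h0

end Teich

section Tame

variable (A B : Type u) [CommRing A] [IsDomain A] [IsDiscreteValuationRing A]
    [IsAdicComplete (IsLocalRing.maximalIdeal A) A]
    [CommRing B] [IsDedekindDomain B] [Algebra A B] [Module.Finite A B] [Module.IsTorsionFree A B]

theorem s11089 (M : Ideal B) [hM : M.IsMaximal]
    (hram : M.ramificationIdx A = Module.finrank A B)
    (hm : IsUnit ((Module.finrank A B : ℕ) : A)) :
    ∃ u : B, u ∈ M ∧ u ∉ M ^ 2 ∧ u ^ Module.finrank A B ∈ (algebraMap A B).range ∧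
      (minpoly A u).natDegree = Module.finrank A B := by
  haveI := henselianLocalRing_A A
  haveI := isLocalRing_B A B
  haveI := henselianLocalRing_B A B
  haveI := liesOver A B M
  have hMeq : M = IsLocalRing.maximalIdeal B := IsLocalRing.eq_maximalIdeal hM
  set n := Module.finrank A B with hn
  have hn0 : n ≠ 0 := by
    intro h0
    rw [h0, Nat.cast_zero] at hm
    exact not_isUnit_zero hm
  have hf : M.inertiaDeg A = 1 := by
    have h := ramificationIdx_mul_inertiaDeg A B M
    rw [hram] at h
    exact Nat.eq_of_mul_eq_mul_left (Nat.pos_of_ne_zero hn0) (by rw [h, mul_one])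
  have hres : ∀ y : B, ∃ a : A, y - algebraMap A B a ∈ M := by
    intro y
    haveI : Module.Free (A ⧸ IsLocalRing.maximalIdeal A) (B ⧸ M) := by
      letI : Field (A ⧸ IsLocalRing.maximalIdeal A) := Ideal.Quotient.field _
      exact Module.Free.of_divisionRing _ _
    haveI : Nontrivial (B ⧸ M) := Ideal.Quotient.nontrivial_iff.mpr hM.ne_top
    have h1 : Module.finrank (A ⧸ IsLocalRing.maximalIdeal A) (B ⧸ M) = 1 := by
      rw [← Ideal.inertiaDeg_eq_of_isMaximal (IsLocalRing.maximalIdeal A) M, hf]
    have h2 := Subalgebra.bot_eq_top_of_finrank_eq_one h1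
    have h3 : Ideal.Quotient.mk M y ∈
        (⊥ : Subalgebra (A ⧸ IsLocalRing.maximalIdeal A) (B ⧸ M)) := by
      rw [h2]; trivial
    obtain ⟨a', ha'⟩ := Algebra.mem_bot.mp h3
    obtain ⟨a, rfl⟩ := Ideal.Quotient.mk_surjective a'
    refine ⟨a, ?_⟩
    rw [← Ideal.Quotient.eq]
    exact ha'.symm
  obtain ⟨p, hp⟩ := IsDiscreteValuationRing.exists_irreducible A
  have hmp : IsLocalRing.maximalIdeal A = Ideal.span {p} := hp.maximalIdeal_eq
  haveI : IsDiscreteValuationRing B := by
    have htfae := IsDiscreteValuationRing.TFAE B (not_isField_B A B)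
    have h20 : IsDedekindDomain B → IsDiscreteValuationRing B := (htfae.out 2 0).mp
    exact h20 inferInstance
  obtain ⟨P, hP⟩ := IsDiscreteValuationRing.exists_irreducible B
  have hMP : M = Ideal.span {P} := hMeq.trans hP.maximalIdeal_eq
  have hmap := map_maximalIdeal_eq_pow A B M
  rw [hram, hmp, Ideal.map_span, Set.image_singleton, hMP, Ideal.span_singleton_pow,
    Ideal.span_singleton_eq_span_singleton] at hmap
  obtain ⟨ε, hε⟩ := hmap
  obtain ⟨a, ha⟩ := hres (ε : B)
  have ha_unit : IsUnit a := by
    by_contra hna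
    have h1 : a ∈ IsLocalRing.maximalIdeal A := (IsLocalRing.mem_maximalIdeal a).mpr hna
    have h2 : algebraMap A B a ∈ M := by
      rw [(liesOver A B M).over] at h1
      exact h1
    have h3 : (ε : B) ∈ M := by
      have h4 := M.add_mem ha h2
      rwa [sub_add_cancel] at h4
    exact hM.ne_top (Ideal.eq_top_of_isUnit_mem _ h3 ε.isUnit)
  set s : B := ↑ε⁻¹ * algebraMap A B a with hs
  have hs1 : s - 1 ∈ M := by
    have h1 : s - 1 = -(↑ε⁻¹ * ((ε : B) - algebraMap A B a)) := by
      rw [hs, mul_sub, Units.inv_mul]; ring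
    rw [h1]
    exact M.neg_mem (Ideal.mul_mem_left _ _ ha)
  have hmon : (X ^ n - C s : B[X]).Monic := monic_X_pow_sub_C s hn0
  have hev : (X ^ n - C s : B[X]).eval 1 ∈ IsLocalRing.maximalIdeal B := by
    rw [eval_sub, eval_pow, eval_X, eval_C, one_pow, ← hMeq, ← neg_sub]
    exact M.neg_mem hs1
  have hder : IsUnit ((X ^ n - C s : B[X]).derivative.eval 1) := by
    rw [derivative_sub, derivative_C, sub_zero, derivative_X_pow, eval_mul, eval_C, eval_pow,
      eval_X, one_pow, mul_one]
    have h1 : ((n : ℕ) : B) = algebraMap A B ((n : ℕ) : A) := (map_natCast _ n).symm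
    rw [h1]
    exact hm.map _
  obtain ⟨w, hw, hw1⟩ := HenselianLocalRing.is_henselian _ hmon 1 hev hder
  have hwn : w ^ n = s := by
    have h1 : (X ^ n - C s : B[X]).eval w = 0 := hw
    rw [eval_sub, eval_pow, eval_X, eval_C, sub_eq_zero] at h1
    exact h1
  have hw_unit : IsUnit w := by
    by_contra hnw
    have h1 : w ∈ IsLocalRing.maximalIdeal B := (IsLocalRing.mem_maximalIdeal w).mpr hnw
    have h2 : (1 : B) ∈ IsLocalRing.maximalIdeal B := by
      have h3 := (IsLocalRing.maximalIdeal B).sub_mem h1 hw1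
      rwa [sub_sub_cancel] at h3
    exact (Ideal.ne_top_iff_one _).mp (IsLocalRing.maximalIdeal.isMaximal B).ne_top h2
  have hun : (P * w) ^ n = algebraMap A B (p * a) := by
    rw [mul_pow, hwn, ← hε, hs, map_mul, mul_assoc, ← mul_assoc (ε : B), Units.mul_inv, one_mul]
  refine ⟨P * w, ?_, ?_, ⟨p * a, hun.symm⟩, ?_⟩
  · rw [hMP]
    exact Ideal.mul_mem_right _ _ (Ideal.mem_span_singleton_self P)
  · rw [hMP, Ideal.span_singleton_pow, Ideal.mem_span_singleton, pow_two]
    intro hdvd
    have h1 : P ∣ w := (mul_dvd_mul_iff_left hP.ne_zero).mp hdvd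
    exact hP.not_isUnit (isUnit_of_dvd_unit h1 hw_unit)
  · have hPmon : (X ^ n - C (p * a) : A[X]).Monic := monic_X_pow_sub_C (p * a) hn0
    have haev : Polynomial.aeval (P * w) (X ^ n - C (p * a) : A[X]) = 0 := by
      rw [map_sub, map_pow, aeval_X, aeval_C, hun, sub_self]
    have hc_mem : p * a ∈ IsLocalRing.maximalIdeal A := by
      rw [hmp]
      exact Ideal.mul_mem_right _ _ (Ideal.mem_span_singleton_self p)
    have hc_not : p * a ∉ IsLocalRing.maximalIdeal A ^ 2 := by
      rw [hmp, Ideal.span_singleton_pow, Ideal.mem_span_singleton, pow_two]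
      intro hdvd
      have h1 : p ∣ a := (mul_dvd_mul_iff_left hp.ne_zero).mp hdvd
      exact hp.not_isUnit (isUnit_of_dvd_unit h1 ha_unit)
    have hEis : (X ^ n - C (p * a) : A[X]).IsEisensteinAt (IsLocalRing.maximalIdeal A) := by
      refine ⟨?_, ?_, ?_⟩
      · rw [hPmon.leadingCoeff]
        exact (Ideal.ne_top_iff_one _).mp (IsLocalRing.maximalIdeal.isMaximal A).ne_top
      · intro i hi
        rw [natDegree_X_pow_sub_C] at hi
        rw [coeff_sub, coeff_X_pow, coeff_C, if_neg hi.ne]
        split_ifs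
        · rw [zero_sub]
          exact (IsLocalRing.maximalIdeal A).neg_mem hc_mem
        · rw [sub_zero]
          exact zero_mem _
      · rw [coeff_sub, coeff_X_pow, coeff_C_zero, if_neg (Ne.symm hn0), zero_sub, neg_mem_iff]
        exact hc_not
    have hirr : Irreducible (X ^ n - C (p * a) : A[X]) :=
      hEis.irreducible (IsLocalRing.maximalIdeal.isMaximal A).isPrime hPmon.isPrimitive
        (by rw [natDegree_X_pow_sub_C]; exact Nat.pos_of_ne_zero hn0)
    have hint : IsIntegral A (P * w) := Algebra.IsIntegral.isIntegral _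
    obtain ⟨v, hv⟩ := minpoly.isIntegrallyClosed_dvd hint haev
    have hvu : IsUnit v := (hirr.isUnit_or_isUnit hv).resolve_left (minpoly.not_isUnit A (P * w))
    have hassoc : Associated (minpoly A (P * w)) (X ^ n - C (p * a)) :=
      ⟨hvu.unit, by rw [IsUnit.unit_spec]; exact hv.symm⟩
    rw [eq_of_monic_of_associated (minpoly.monic hint) hPmon hassoc, natDegree_X_pow_sub_C]

end Tame

end Groth.Agent.Helper3.DVRExt
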