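import Mathlib
import Groth.Agent.Lib.Helper3.DSplit

/-!
# Vanishing of composites of maps inducing zero on cohomology
-/

open CategoryTheory Limits Pretriangulated DerivedCategory

universe w v u

namespace Groth.Agent.Helper3.DZero

open Groth.Agent.Helper3.DSplit

variable {C : Type u} [Category.{v} C] [Abelian C] [HasDerivedCategory.{w} C]

/-- a map between shifted singles in the same degree which is zero on cohomology is zero -/
lemma single_hom_eq_zero {X Y : C} (m : ℤ)
    (φ : (singleFunctor C m).obj X ⟶ (singleFunctor C m).obj Y)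
    (h : (homologyFunctor C m).map φ = 0) : φ = 0 := by
  obtain ⟨ψ, rfl⟩ := (singleFunctor C m).map_surjective φ
  have h1 := NatIso.naturality_1 (singleFunctorCompHomologyFunctorIso C m) ψ
  dsimp at h1
  have h2 : ψ = 0 := by
    rw [← h1, h]
    simp
  rw [h2, Functor.map_zero]

/-- a map from `D^{≤ m}` to `D^{≥ m}` is zero as soon as it is zero on `H^m` -/
lemma hom_eq_zero_of_homology_zero {L N : DerivedCategory C} (m : ℤ) (φ : L ⟶ N)
    (hL : ∀ p, m < p → IsZero (Hm p L)) (hN : ∀ p, p < m → IsZero (Hm p N))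
    (h : (homologyFunctor C m).map φ = 0) : φ = 0 := by
  obtain ⟨A, B, f, g, δ, hT, hA, hB, isoA, isoB⟩ := exists_trunc_triangle N (m + 1)
  obtain ⟨A', B', f', g', δ', hT', hA', hB', isoA', isoB'⟩ := exists_trunc_triangle L m
  have iL : (TStructure.t (C := C)).IsLE L m := (isLE_iff L m).2 hL
  have iB : (TStructure.t (C := C)).IsGE B (m + 1) := (isGE_iff B (m + 1)).2 hB
  have h1 : φ ≫ g = 0 := (TStructure.t (C := C)).zero _ m (m + 1)
  obtain ⟨φ₁, hφ₁⟩ : ∃ φ₁ : L ⟶ A, φ = φ₁ ≫ f := Triangle.coyoneda_exact₂ _ hT φ h1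
  have hAlo : ∀ p, p < m → IsZero (Hm p A) := fun p hp => by
    have := isoA p (by lia)
    exact (hN p hp).of_iso (asIso ((homologyFunctor C p).map f))
  have hAhi : ∀ p, m < p → IsZero (Hm p A) := fun p hp => hA p (by lia)
  have iA : (TStructure.t (C := C)).IsGE A m := (isGE_iff A m).2 hAlo
  have iA' : (TStructure.t (C := C)).IsLE A' (m - 1) := (isLE_iff A' (m - 1)).2 hA'
  have h2 : f' ≫ φ₁ = 0 := (TStructure.t (C := C)).zero _ (m - 1) m
  obtain ⟨φ₂, hφ₂⟩ : ∃ φ₂ : B' ⟶ A, φ₁ = g' ≫ φ₂ := Triangle.yoneda_exact₂ _ hT' φ₁ h2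
  have hB'hi : ∀ p, m < p → IsZero (Hm p B') := fun p hp => by
    have := isoB' p (by lia)
    exact (hL p hp).of_iso (asIso ((homologyFunctor C p).map g')).symm
  obtain ⟨e⟩ := exists_iso_single m hAlo hAhi
  obtain ⟨e'⟩ := exists_iso_single m hB' hB'hi
  have i1 := isoA m (by lia)
  have i2 := isoB' m le_rfl
  have h3 : (homologyFunctor C m).map φ₂ = 0 := by
    have : (homologyFunctor C m).map g' ≫ (homologyFunctor C m).map φ₂ ≫
        (homologyFunctor C m).map f = 0 := by
      rw [← Functor.map_comp, ← Functor.map_comp, ← Category.assoc, ← hφ₂, ← hφ₁, h]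
    have h4 := (cancel_epi ((homologyFunctor C m).map g')).1 (this.trans comp_zero.symm)
    exact (cancel_mono ((homologyFunctor C m).map f)).1 (h4.trans zero_comp.symm)
  have h5 : e'.inv ≫ φ₂ ≫ e.hom = 0 := by
    apply single_hom_eq_zero m
    rw [Functor.map_comp, Functor.map_comp, h3, zero_comp, comp_zero]
  have h6 : φ₂ = 0 := by
    have : φ₂ = e'.hom ≫ (e'.inv ≫ φ₂ ≫ e.hom) ≫ e.inv := by simp
    rw [this, h5, zero_comp, comp_zero]
  rw [hφ₁, hφ₂, h6, comp_zero, zero_comp]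

/-- composites of `n` morphisms satisfying `P` -/
inductive Chain (P : MorphismProperty (DerivedCategory C)) :
    ℕ → ∀ ⦃M N : DerivedCategory C⦄, (M ⟶ N) → Prop
  | zero (M : DerivedCategory C) : Chain P 0 (𝟙 M)
  | succ {n : ℕ} {M M' N : DerivedCategory C} (g : M ⟶ M') (c : M' ⟶ N) :
      P g → Chain P n c → Chain P (n + 1) (g ≫ c)

/-- morphisms with target in `D^{≥ 0}` inducing zero on `H^p` for `p < k` -/
def Pk (k : ℕ) : MorphismProperty (DerivedCategory C) := fun _ N g =>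
  (∀ p : ℤ, p < 0 → IsZero (Hm p N)) ∧ ∀ p : ℤ, p < k → (homologyFunctor C p).map g = 0

lemma comp_eq_zero_of_chain (k : ℕ) (m : ℕ) (hm : m ≤ k) :
    ∀ {L M N : DerivedCategory C} (u : L ⟶ M) (c : M ⟶ N),
      (∀ p : ℤ, p < 0 ∨ (m : ℤ) ≤ p → IsZero (Hm p L)) → Chain (Pk k) m c → u ≫ c = 0 := by
  induction m with
  | zero =>
    intro L M N u c hL _
    exact (isZero_of_bounds 0 (-1) (by lia) (fun i hi => hL i (Or.inl hi))
      (fun i hi => hL i (Or.inr (by push_cast; lia)))).eq_of_src _ _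
  | succ m ih =>
    intro L M N u c hL hc
    cases hc with
    | succ g c' hg hc' =>
      rename_i M'
      obtain ⟨A, B, fA, gB, δ, hT, hA, hB, isoA, isoB⟩ := exists_trunc_triangle M' (m : ℤ)
      have h1 : (u ≫ g) ≫ gB = 0 := by
        refine hom_eq_zero_of_homology_zero (m : ℤ) _
          (fun p hp => hL p (Or.inr (by push_cast; lia))) hB ?_
        rw [Functor.map_comp, Functor.map_comp, hg.2 (m : ℤ) (by exact_mod_cast (by lia)),
          comp_zero, zero_comp]
      obtain ⟨w', hw'⟩ : ∃ w' : L ⟶ A, u ≫ g = w' ≫ fA := Triangle.coyoneda_exact₂ _ hT _ h1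
      have hA' : ∀ p : ℤ, p < 0 ∨ (m : ℤ) ≤ p → IsZero (Hm p A) := by
        rintro p (hp | hp)
        · have := isoA p (by lia)
          exact (hg.1 p hp).of_iso (asIso ((homologyFunctor C p).map fA))
        · exact hA p (by lia)
      have h2 : fA ≫ c' = 0 := ih (by lia) fA c' hA' hc'
      rw [← Category.assoc, hw', Category.assoc, h2, comp_zero]

lemma chain_map' (k n : ℕ) (K : ComposableArrows (DerivedCategory C) n)
    (hK : ∀ (i : ℕ) (hi : i ≤ n) (p : ℤ), p < 0 → IsZero (Hm p (K.obj' i)))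
    (hf : ∀ (i : ℕ) (hi : i < n) (p : ℤ), p < (k : ℤ) →
      (homologyFunctor C p).map (K.map' i (i + 1)) = 0) :
    ∀ (d i j : ℕ) (hij : i + d = j) (hj : j ≤ n),
      Chain (Pk k) d (K.map' i j (by lia) hj) := by
  intro d
  induction d with
  | zero =>
    intro i j hij hj
    obtain rfl : i = j := by lia
    rw [K.map'_self i]
    exact Chain.zero _
  | succ d ih =>
    intro i j hij hj
    rw [K.map'_comp i (i + 1) j (by lia) (by lia) hj]
    exact Chain.succ _ _ ⟨fun p hp => hK (i + 1) (by lia) p hp, fun p hp => hf i (by lia) p hp⟩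
      (ih (i + 1) j (by lia) hj)

/-- S3731 -/
theorem exists_factor (k : ℕ) (K : ComposableArrows (DerivedCategory C) (2 * k))
    (hK : ∀ (i : ℕ) (hi : i ≤ 2 * k) (p : ℤ), p < 0 ∨ (k : ℤ) < p →
      IsZero ((homologyFunctor C p).obj (K.obj' i)))
    (hf : ∀ (i : ℕ) (hi : i < 2 * k) (p : ℤ), p < (k : ℤ) →
      (homologyFunctor C p).map (K.map' i (i + 1)) = 0)
    (π : K.obj' 0 ⟶ (singleFunctor C (k : ℤ)).obj ((homologyFunctor C (k : ℤ)).obj (K.obj' 0)))
    (hπ : (homologyFunctor C (k : ℤ)).map π ≫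
      (singleFunctorCompHomologyFunctorIso C (k : ℤ)).hom.app
        ((homologyFunctor C (k : ℤ)).obj (K.obj' 0)) = 𝟙 _) :
    ∃ φ : (singleFunctor C (k : ℤ)).obj ((homologyFunctor C (k : ℤ)).obj (K.obj' 0)) ⟶
        K.obj' (2 * k), K.map' 0 (2 * k) = π ≫ φ := by
  have hch := chain_map' k (2 * k) K (fun i hi p hp => hK i hi p (Or.inl hp)) hf k 0 k
    (Nat.zero_add k) (by omega)
  obtain ⟨A, B, fA, gB, δ, hT, hA, hB, isoA, isoB⟩ := exists_trunc_triangle (K.obj' 0) (k : ℤ)
  have hA' : ∀ p : ℤ, p < 0 ∨ (k : ℤ) ≤ p → IsZero (Hm p A) := by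
    rintro p (hp | hp)
    · have := isoA p (by lia)
      exact (hK 0 (Nat.zero_le _) p (Or.inl hp)).of_iso (asIso ((homologyFunctor C p).map fA))
    · exact hA p (by lia)
  have h1 : fA ≫ K.map' 0 k = 0 := comp_eq_zero_of_chain k k le_rfl fA _ hA' hch
  have h2 : fA ≫ K.map' 0 (2 * k) = 0 := by
    rw [K.map'_comp 0 k (2 * k), ← Category.assoc, h1, zero_comp]
  obtain ⟨c, hc⟩ : ∃ c : B ⟶ K.obj' (2 * k), K.map' 0 (2 * k) = gB ≫ c :=
    Triangle.yoneda_exact₂ _ hT _ h2
  have iA : (TStructure.t (C := C)).IsLE A ((k : ℤ) - 1) := (isLE_iff A _).2 hA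
  have h3 : fA ≫ π = 0 := (TStructure.t (C := C)).zero _ ((k : ℤ) - 1) (k : ℤ)
  obtain ⟨π', hπ'⟩ : ∃ π' : B ⟶ (singleFunctor C (k : ℤ)).obj
      ((homologyFunctor C (k : ℤ)).obj (K.obj' 0)), π = gB ≫ π' :=
    Triangle.yoneda_exact₂ _ hT _ h3
  have hπiso : IsIso ((homologyFunctor C (k : ℤ)).map π) := by
    have : (homologyFunctor C (k : ℤ)).map π = inv ((singleFunctorCompHomologyFunctorIso C
        (k : ℤ)).hom.app ((homologyFunctor C (k : ℤ)).obj (K.obj' 0))) := by
      rw [← cancel_mono ((singleFunctorCompHomologyFunctorIso C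
        (k : ℤ)).hom.app ((homologyFunctor C (k : ℤ)).obj (K.obj' 0))), IsIso.inv_hom_id]
      exact hπ
    rw [this]
    infer_instance
  have hπ'iso : IsIso π' := by
    rw [isIso_iff]
    intro p
    by_cases hp : p = (k : ℤ)
    · subst hp
      have i1 := isoB (k : ℤ) le_rfl
      have i2 : IsIso ((homologyFunctor C (k : ℤ)).map gB ≫
          (homologyFunctor C (k : ℤ)).map π') := by
        rw [← Functor.map_comp, ← hπ']
        exact hπiso
      exact IsIso.of_isIso_comp_left ((homologyFunctor C (k : ℤ)).map gB) _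
    · have hsrc : IsZero (Hm p B) := by
        by_cases hpk : p < (k : ℤ)
        · exact hB p hpk
        · have := isoB p (by lia)
          exact (hK 0 (Nat.zero_le _) p (Or.inr (by lia))).of_iso
            (asIso ((homologyFunctor C p).map gB)).symm
      exact ⟨0, hsrc.eq_of_src _ _, (isZero_Hm_single _ (k : ℤ) p hp).eq_of_src _ _⟩
  refine ⟨inv π' ≫ c, ?_⟩
  rw [hc, hπ', Category.assoc, IsIso.hom_inv_id_assoc]

end Groth.Agent.Helper3.DZero
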