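import Mathlib
import Groth.Prelude.Def_ArtFun4
import Groth.Agent.Lib.Helper9.ThickAff

/-! Deformation functor of a scheme: basic facts (closed fibre inclusion is a surjective closed
immersion, deformations over the base field, recognising base changes) (helper3). -/

set_option autoImplicit false
set_option linter.style.haveILetI false
universe u
open CategoryTheory CategoryTheory.Limits AlgebraicGeometry

namespace Groth.Agent.Helper3.DefGl

open ArtFun ArtFun.Art

variable {Λ : Type u} {k : Type u} [CommRing Λ] [Field k] [Algebra Λ k]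

section Base

theorem ker_res_nilpotent (A : Art Λ k) : IsNilpotent (RingHom.ker A.res.toRingHom) := by
  have hIm : (RingHom.ker A.res.toRingHom).IsMaximal :=
    RingHom.ker_isMaximal_of_surjective _ A.res_surjective
  rw [IsLocalRing.eq_maximalIdeal hIm, ← IsLocalRing.jacobson_eq_maximalIdeal ⊥ bot_ne_top]
  exact IsArtinianRing.isNilpotent_jacobson_bot

instance isClosedImmersion_specRes (A : Art Λ k) : IsClosedImmersion (specRes A) :=
  IsClosedImmersion.spec_of_surjective _ A.res_surjective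

theorem surjective_specRes (A : Art Λ k) : Surjective (specRes A) := by
  refine ⟨fun p => ?_⟩
  have key : ∀ q : PrimeSpectrum A, ∃ q' : PrimeSpectrum k,
      PrimeSpectrum.comap A.res.toRingHom q' = q := by
    intro q
    haveI : q.asIdeal.IsMaximal := inferInstance
    have hIm : (RingHom.ker A.res.toRingHom).IsMaximal :=
      RingHom.ker_isMaximal_of_surjective _ A.res_surjective
    have hq : q.asIdeal = RingHom.ker A.res.toRingHom := by
      rw [IsLocalRing.eq_maximalIdeal hIm, IsLocalRing.eq_maximalIdeal ‹q.asIdeal.IsMaximal›]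
    refine ⟨⟨⊥, Ideal.isPrime_bot⟩, ?_⟩
    apply PrimeSpectrum.ext
    show Ideal.comap A.res.toRingHom ⊥ = q.asIdeal
    rw [hq]; rfl
  obtain ⟨q', hq'⟩ := key p
  exact ⟨q', hq'⟩

end Base

section Def

variable {X : Scheme.{u}} {x : X ⟶ specPt k}

instance isClosedImmersion_i {A : Art Λ k} (ξ : DefSch X x A) : IsClosedImmersion ξ.i :=
  MorphismProperty.of_isPullback (P := @IsClosedImmersion) ξ.isPullback.flip inferInstance

theorem surjective_i {A : Art Λ k} (ξ : DefSch X x A) : Surjective ξ.i :=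
  MorphismProperty.of_isPullback (P := @Surjective) ξ.isPullback.flip (surjective_specRes A)

theorem isIso_i_base (ξ : DefSch X x (base Λ k)) : IsIso ξ.i :=
  ξ.isPullback.isIso_fst_of_isIso

/-- any two deformations over the base field are isomorphic -/
noncomputable def isoOfBase (ξ₁ ξ₂ : DefSch X x (base Λ k)) : ξ₁.Iso ξ₂ :=
  haveI := isIso_i_base ξ₁
  haveI := isIso_i_base ξ₂
  { iso := (asIso ξ₁.i).symm ≪≫ asIso ξ₂.i
    hom_f := by
      show (inv ξ₁.i ≫ ξ₂.i) ≫ ξ₂.f = ξ₁.f
      rw [Category.assoc, ξ₂.i_f, ← ξ₁.i_f, IsIso.inv_hom_id_assoc]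
    i_hom := by
      show ξ₁.i ≫ inv ξ₁.i ≫ ξ₂.i = ξ₂.i
      rw [IsIso.hom_inv_id_assoc] }

theorem h0 (X : Scheme.{u}) (x : X ⟶ specPt k) : H0 (defFunctor (Λ := Λ) X x) := by
  refine ⟨⟨(DefSch.self (Λ := Λ) X x inferInstance).cl⟩, ⟨fun a b => ?_⟩⟩
  obtain ⟨ξ₁, rfl⟩ := Quotient.exists_rep a
  obtain ⟨ξ₂, rfl⟩ := Quotient.exists_rep b
  exact Quotient.sound ⟨isoOfBase ξ₁ ξ₂⟩

/-- a deformation over `C` mapping to `ζ` by a cartesian square over `Spec C → Spec B` is the
base change of `ζ` -/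
noncomputable def isoOfIsPullback {B C : Art Λ k} (ζ : DefSch X x B) (g : B ⟶ C)
    (ξ : DefSch X x C) (a : ξ.total ⟶ ζ.total) (hpb : IsPullback a ξ.f ζ.f (specMap g))
    (hi : ξ.i ≫ a = ζ.i) : (ζ.baseChange g).Iso ξ where
  iso := hpb.isoPullback.symm
  hom_f := by
    show hpb.isoPullback.inv ≫ ξ.f = pullback.snd ζ.f (specMap g)
    exact hpb.isoPullback_inv_snd
  i_hom := by
    show (ζ.baseChange g).i ≫ hpb.isoPullback.inv = ξ.i
    rw [Iso.comp_inv_eq]
    apply pullback.hom_ext
    · rw [DefSch.baseChange_i_fst, Category.assoc, hpb.isoPullback_hom_fst, hi]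
    · rw [Category.assoc, hpb.isoPullback_hom_snd, ξ.i_f]
      exact DefSch.baseChange_i_f ζ g

/-- an isomorphism of deformations from an isomorphism of total spaces -/
noncomputable def isoOfIsIso {A : Art Λ k} (ξ₁ ξ₂ : DefSch X x A) (φ : ξ₁.total ⟶ ξ₂.total)
    [IsIso φ] (hf : φ ≫ ξ₂.f = ξ₁.f) (hi : ξ₁.i ≫ φ = ξ₂.i) : ξ₁.Iso ξ₂ where
  iso := asIso φ
  hom_f := hf
  i_hom := hi

end Def

end Groth.Agent.Helper3.DefGl
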