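import Mathlib
import Groth.Agent.Lib.Lead.DefoIso
import Groth.Agent.Lib.Helper8.ResK3
import Groth.Agent.Lib.Helper9.ThickAff

/-! Rigidity of regular affine schemes of finite type over an algebraically closed field under
flat deformations over a local Artin algebra (helper3). -/

set_option autoImplicit false
set_option linter.style.haveILetI false
universe u
open CategoryTheory CategoryTheory.Limits AlgebraicGeometry TensorProduct

namespace Groth.Agent.Helper3.RigidDef

section Alg

theorem residue_bij (k B : Type u) [Field k] [IsAlgClosed k] [CommRing B] [Algebra k B]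
    [Algebra.FiniteType k B] (m : Ideal B) [hm : m.IsMaximal] :
    Function.Bijective (algebraMap k (IsLocalRing.ResidueField (Localization.AtPrime m))) := by
  haveI : Algebra.FiniteType B m.ResidueField := inferInstance
  haveI : Algebra.FiniteType k m.ResidueField :=
    Algebra.FiniteType.trans (S := B) inferInstance inferInstance
  haveI : Module.Finite k m.ResidueField :=
    finite_of_finite_type_of_isJacobsonRing k m.ResidueField
  haveI : Algebra.IsIntegral k m.ResidueField := Algebra.IsIntegral.of_finite k _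
  exact IsAlgClosed.algebraMap_bijective_of_isIntegral

theorem formallySmooth_of_regular (k B : Type u) [Field k] [IsAlgClosed k] [CommRing B]
    [Algebra k B] [Algebra.FiniteType k B]
    (hreg : ∀ (P : Ideal B) [P.IsPrime], IsRegularLocalRing (Localization.AtPrime P)) :
    Algebra.FormallySmooth k B := by
  haveI : Algebra.FinitePresentation k B := Algebra.FinitePresentation.of_finiteType.mp inferInstance
  rw [← Algebra.smoothLocus_eq_univ_iff]
  have hopen : IsOpen (Algebra.smoothLocus k B) := Algebra.isOpen_smoothLocus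
  rw [Set.eq_univ_iff_forall]
  intro p
  obtain ⟨m, hm, hpm⟩ := Ideal.exists_le_maximal p.asIdeal p.2.ne_top
  haveI := hm
  have hsm : (⟨m, hm.isPrime⟩ : PrimeSpectrum B) ∈ Algebra.smoothLocus k B := by
    show Algebra.FormallySmooth k (Localization.AtPrime m)
    haveI : Algebra.EssFiniteType B (Localization.AtPrime m) :=
      Algebra.EssFiniteType.of_isLocalization (Localization.AtPrime m) m.primeCompl
    haveI : Algebra.EssFiniteType k (Localization.AtPrime m) :=
      Algebra.EssFiniteType.comp k B (Localization.AtPrime m)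
    exact Groth.Agent.Helper8.ResK.formallySmooth_of_isRegularLocalRing
      (residue_bij k B m) (hreg m)
  have hspec : p ⤳ ⟨m, hm.isPrime⟩ := (PrimeSpectrum.le_iff_specializes _ _).mp hpm
  exact hspec.mem_open hopen hsm

variable (k : Type u) [Field k] (A : Type u) [CommRing A] [IsLocalRing A] [IsArtinianRing A]
  [Algebra k A] (e : A →ₐ[k] k)

theorem ker_isNilpotent : IsNilpotent (RingHom.ker e) := by
  have hIm : (RingHom.ker e).IsMaximal :=
    RingHom.ker_isMaximal_of_surjective e (fun c => ⟨algebraMap k A c, by simp⟩)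
  rw [IsLocalRing.eq_maximalIdeal hIm, ← IsLocalRing.jacobson_eq_maximalIdeal ⊥ bot_ne_top]
  exact IsArtinianRing.isNilpotent_jacobson_bot

theorem core (B B' : Type u) [CommRing B] [CommRing B'] [Algebra k B]
    [Algebra.FormallySmooth k B] [Algebra A B'] [Module.Flat A B'] (ι : B' →+* B)
    (hι : Function.Surjective ι)
    (hker : RingHom.ker ι = Ideal.map (algebraMap A B') (RingHom.ker e))
    (hcomp : ∀ a, ι (algebraMap A B' a) = algebraMap k B (e a)) :
    ∃ (s : B →+* B') (Ψ : A ⊗[k] B ≃+* B'), (∀ a : A, Ψ (a ⊗ₜ 1) = algebraMap A B' a) ∧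
      (∀ b : B, Ψ (1 ⊗ₜ b) = s b) ∧
      (∀ c : k, s (algebraMap k B c) = algebraMap A B' (algebraMap k A c)) := by
  letI : Algebra k B' := ((algebraMap A B').comp (algebraMap k A)).toAlgebra
  haveI : IsScalarTower k A B' := IsScalarTower.of_algebraMap_eq (fun _ => rfl)
  let ιk : B' →ₐ[k] B :=
    { ι with
      commutes' := fun c => by
        show ι (algebraMap A B' (algebraMap k A c)) = algebraMap k B c
        rw [hcomp, e.commutes]; rfl }
  have hιk : ∀ x, ιk x = ι x := fun _ => rfl
  have hInil := ker_isNilpotent k A e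
  have hkerk : RingHom.ker (ιk : B' →+* B) = Ideal.map (algebraMap A B') (RingHom.ker e) := by
    rw [← hker]; rfl
  have hnil : IsNilpotent (RingHom.ker (ιk : B' →+* B)) := by
    rw [hkerk]
    obtain ⟨n, hn⟩ := hInil
    exact ⟨n, by rw [← Ideal.map_pow, hn]; exact Ideal.map_bot⟩
  let s : B →ₐ[k] B' := Algebra.FormallySmooth.liftOfSurjective (AlgHom.id k B) ιk hι hnil
  have hs : ∀ b, ι (s b) = b := fun b =>
    Algebra.FormallySmooth.liftOfSurjective_apply (AlgHom.id k B) ιk hι hnil b
  let Ψ : A ⊗[k] B →ₐ[A] B' :=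
    Algebra.TensorProduct.lift (Algebra.ofId A B') s (fun _ _ => Commute.all _ _)
  have hΨ : ∀ a b, Ψ (a ⊗ₜ b) = algebraMap A B' a * s b := fun a b => by
    simp [Ψ, Algebra.ofId_apply]
  have hbij : Function.Bijective Ψ.toLinearMap := by
    apply Groth.Agent.Lead.DefoIso.bijective_of_flat_of_nilpotent (RingHom.ker e) hInil
    · intro y
      refine ⟨1 ⊗ₜ ι y, ?_⟩
      rw [Ideal.smul_top_eq_map]
      show y - Ψ (1 ⊗ₜ ι y) ∈ Ideal.map (algebraMap A B') (RingHom.ker e)
      rw [← hker, RingHom.mem_ker, map_sub, hΨ, map_one, one_mul, hs, sub_self]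
    · intro x hx
      have hx' : Ψ x = 0 := hx
      have key : ∀ x : A ⊗[k] B,
          x - 1 ⊗ₜ ι (Ψ x) ∈ (RingHom.ker e) • (⊤ : Submodule A (A ⊗[k] B)) := by
        intro x
        induction x using TensorProduct.induction_on with
        | zero => simp
        | tmul a b =>
          have h1 : ι (Ψ (a ⊗ₜ b)) = e a • b := by
            rw [hΨ, map_mul, hcomp, hs, Algebra.smul_def]
          have h2 : (a ⊗ₜ[k] b) - 1 ⊗ₜ[k] (e a • b) =
              (a - algebraMap k A (e a)) • ((1 : A) ⊗ₜ[k] b) := by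
            rw [TensorProduct.smul_tmul', smul_eq_mul, mul_one, TensorProduct.sub_tmul,
              TensorProduct.tmul_smul, TensorProduct.smul_tmul', ← Algebra.algebraMap_eq_smul_one]
          rw [h1, h2]
          refine Submodule.smul_mem_smul ?_ Submodule.mem_top
          rw [RingHom.mem_ker, map_sub, e.commutes]
          simp
        | add x y hx hy =>
          have : x + y - 1 ⊗ₜ ι (Ψ (x + y)) = (x - 1 ⊗ₜ ι (Ψ x)) + (y - 1 ⊗ₜ ι (Ψ y)) := by
            rw [map_add, map_add, TensorProduct.tmul_add]; abel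
          rw [this]
          exact Submodule.add_mem _ hx hy
      have := key x
      rwa [hx', map_zero, TensorProduct.tmul_zero, sub_zero] at this
  refine ⟨s, RingEquiv.ofBijective (Ψ : A ⊗[k] B →+* B') hbij, ?_, ?_, ?_⟩
  · intro a
    show Ψ (a ⊗ₜ 1) = _
    rw [hΨ, map_one, mul_one]
  · intro b
    show Ψ (1 ⊗ₜ b) = _
    rw [hΨ, map_one, one_mul]; rfl
  · intro c
    exact s.commutes c

end Alg

section Cat

theorem isPushout_of_equiv (k A B B' : Type u) [CommRing k] [CommRing A] [CommRing B]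
    [CommRing B'] [Algebra k A] [Algebra k B] (f : A →+* B') (s : B →+* B')
    (Ψ : A ⊗[k] B ≃+* B') (h1 : ∀ a, Ψ (a ⊗ₜ 1) = f a) (h2 : ∀ b, Ψ (1 ⊗ₜ b) = s b) :
    IsPushout (CommRingCat.ofHom (algebraMap k B)) (CommRingCat.ofHom (algebraMap k A))
      (CommRingCat.ofHom s) (CommRingCat.ofHom f) := by
  have h := (CommRingCat.isPushout_tensorProduct k A B).flip
  refine h.of_iso (Iso.refl _) (Iso.refl _) (Iso.refl _) Ψ.toCommRingCatIso (by simp) (by simp)
    ?_ ?_
  · ext b
    simp [h2]
  · ext a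
    simp [h1]

end Cat

section Sch

theorem fact1 {X : Scheme.{u}} [IsAffine X] (R : CommRingCat.{u}) (f : X ⟶ Spec R) :
    f = X.isoSpec.hom ≫ Spec.map ((Scheme.ΓSpecIso R).inv ≫ f.appTop) := by
  rw [Spec.map_comp, Scheme.isoSpec_hom_naturality_assoc, Scheme.isoSpec_Spec_hom,
    ← Spec.map_comp, Iso.inv_hom_id, Spec.map_id, Category.comp_id]

theorem regular_localization (X : Scheme.{u}) [IsAffine X]
    (hreg : ∀ x : X, IsRegularLocalRing (X.presheaf.stalk x))
    (P : Ideal Γ(X, ⊤)) [hP : P.IsPrime] : IsRegularLocalRing (Localization.AtPrime P) := by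
  have hU := isAffineOpen_top X
  let y : PrimeSpectrum Γ(X, ⊤) := ⟨P, hP⟩
  letI : Algebra Γ(X, ⊤) (X.presheaf.stalk (hU.fromSpec y)) :=
    TopCat.Presheaf.algebra_section_stalk X.presheaf
      (⟨hU.fromSpec y, trivial⟩ : ((⊤ : X.Opens) : Type u))
  haveI : IsLocalization.AtPrime (X.presheaf.stalk (hU.fromSpec y)) P :=
    hU.isLocalization_stalk' y trivial
  haveI := hreg (hU.fromSpec y)
  exact IsRegularLocalRing.of_ringEquiv
    (IsLocalization.algEquiv P.primeCompl (X.presheaf.stalk (hU.fromSpec y))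
      (Localization.AtPrime P)).toRingEquiv

theorem ker_le_of_isPullback {R S T P : CommRingCat.{u}} (f : R ⟶ T) (φ : R ⟶ S) (h : S ⟶ P)
    (ι : T ⟶ P) (hsq : IsPullback (Spec.map ι) (Spec.map h) (Spec.map f) (Spec.map φ))
    (J : Ideal T) (ψ : S ⟶ CommRingCat.of (T ⧸ J))
    (hψ : f ≫ CommRingCat.ofHom (Ideal.Quotient.mk J) = φ ≫ ψ) : RingHom.ker ι.hom ≤ J := by
  have hc : Spec.map (CommRingCat.ofHom (Ideal.Quotient.mk J)) ≫ Spec.map f =
      Spec.map ψ ≫ Spec.map φ := by
    rw [← Spec.map_comp, ← Spec.map_comp, hψ]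
  obtain ⟨θ, hθ⟩ := Spec.map_surjective (hsq.lift _ _ hc)
  have h1 : Spec.map θ ≫ Spec.map ι = Spec.map (CommRingCat.ofHom (Ideal.Quotient.mk J)) := by
    rw [hθ]; exact hsq.lift_fst _ _ _
  rw [← Spec.map_comp] at h1
  have h2 : ι ≫ θ = CommRingCat.ofHom (Ideal.Quotient.mk J) := Spec.map_injective h1
  intro b hb
  rw [RingHom.mem_ker] at hb
  have h3 : θ.hom (ι.hom b) = Ideal.Quotient.mk J b := by
    have := congrArg (fun m => m.hom b) h2
    simpa using this
  rw [hb, map_zero] at h3
  exact Ideal.Quotient.eq_zero_iff_mem.mp h3.symm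

theorem specLevel (k : Type u) [Field k] [IsAlgClosed k] (A : Type u) [CommRing A]
    [IsLocalRing A] [IsArtinianRing A] [Algebra k A] (e : A →ₐ[k] k) (B B' : CommRingCat.{u})
    (kB : CommRingCat.of k ⟶ B) (AB' : CommRingCat.of A ⟶ B') (ι : B' ⟶ B)
    (hpb : IsPullback (Spec.map ι) (Spec.map kB) (Spec.map AB')
      (Spec.map (CommRingCat.ofHom e.toRingHom)))
    (hft : kB.hom.FiniteType) (hfl : AB'.hom.Flat)
    (hreg : ∀ (P : Ideal B) [P.IsPrime], IsRegularLocalRing (Localization.AtPrime P))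
    (hι : Function.Surjective ι.hom) :
    ∃ s : B ⟶ B', IsPullback (Spec.map s) (Spec.map AB') (Spec.map kB)
      (Spec.map (CommRingCat.ofHom (algebraMap k A))) := by
  letI : Algebra k B := kB.hom.toAlgebra
  letI : Algebra A B' := AB'.hom.toAlgebra
  haveI : Algebra.FiniteType k B := hft
  haveI : Module.Flat A B' := hfl
  haveI : Algebra.FormallySmooth k B := formallySmooth_of_regular k B hreg
  have hw : AB' ≫ ι = CommRingCat.ofHom e.toRingHom ≫ kB := by
    apply Spec.map_injective
    rw [Spec.map_comp, Spec.map_comp]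
    exact hpb.w
  have hcomp : ∀ a : A, ι.hom (algebraMap A B' a) = algebraMap k B (e a) := by
    intro a
    have := congrArg (fun m => m.hom a) hw
    exact this
  obtain ⟨J, hJ⟩ : ∃ J : Ideal B', J = Ideal.map (algebraMap A B') (RingHom.ker e) := ⟨_, rfl⟩
  have hker : RingHom.ker ι.hom = Ideal.map (algebraMap A B') (RingHom.ker e) := by
    rw [← hJ]
    apply le_antisymm
    · refine ker_le_of_isPullback AB' (CommRingCat.ofHom e.toRingHom) kB ι hpb J
        (CommRingCat.ofHom
          ((Ideal.Quotient.mk J).comp ((algebraMap A B').comp (algebraMap k A)))) ?_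
      ext a
      show Ideal.Quotient.mk J (algebraMap A B' a) =
        Ideal.Quotient.mk J (algebraMap A B' (algebraMap k A (e a)))
      rw [Ideal.Quotient.eq, ← map_sub, hJ]
      apply Ideal.mem_map_of_mem
      rw [RingHom.mem_ker, map_sub, e.commutes]
      simp
    · rw [hJ, Ideal.map_le_iff_le_comap]
      intro a ha
      rw [Ideal.mem_comap, RingHom.mem_ker, hcomp, RingHom.mem_ker.mp ha, map_zero]
  obtain ⟨s, Ψ, h1, h2, h3⟩ := core k A e B B' ι.hom hι hker hcomp
  have hpo := isPushout_of_equiv k A B B' (algebraMap A B') s Ψ h1 h2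
  refine ⟨CommRingCat.ofHom s, ?_⟩
  exact isPullback_SpecMap_of_isPushout kB (CommRingCat.ofHom (algebraMap k A))
    (CommRingCat.ofHom s) AB' hpo

theorem main (k : Type u) [Field k] [IsAlgClosed k] (X : Scheme.{u})
    (hX : X ⟶ Spec (CommRingCat.of k)) [IsAffine X] [LocallyOfFiniteType hX]
    (hreg : ∀ x : X, IsRegularLocalRing (X.presheaf.stalk x))
    (A : Type u) [CommRing A] [IsLocalRing A] [IsArtinianRing A] [Algebra k A] (e : A →ₐ[k] k)
    (X' : Scheme.{u}) (g : X' ⟶ Spec (CommRingCat.of A)) [Flat g] (i : X ⟶ X')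
    (hsq : IsPullback i hX g (Spec.map (CommRingCat.ofHom e.toRingHom))) :
    ∃ r : X' ⟶ X, IsPullback r g hX (Spec.map (CommRingCat.ofHom (algebraMap k A))) := by
  have he : Function.Surjective e := fun c => ⟨algebraMap k A c, by simp⟩
  haveI : IsClosedImmersion (Spec.map (CommRingCat.ofHom e.toRingHom)) :=
    IsClosedImmersion.spec_of_surjective _ he
  haveI : IsClosedImmersion i :=
    MorphismProperty.of_isPullback (P := @IsClosedImmersion) hsq.flip inferInstance
  haveI : Surjective (Spec.map (CommRingCat.ofHom e.toRingHom)) := by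
    refine ⟨fun p => ?_⟩
    have key : ∀ q : PrimeSpectrum A, ∃ q' : PrimeSpectrum k,
        PrimeSpectrum.comap e.toRingHom q' = q := by
      intro q
      haveI : q.asIdeal.IsMaximal := inferInstance
      have hIm : (RingHom.ker e).IsMaximal := RingHom.ker_isMaximal_of_surjective e he
      have hq : q.asIdeal = RingHom.ker e := by
        rw [IsLocalRing.eq_maximalIdeal hIm, IsLocalRing.eq_maximalIdeal ‹q.asIdeal.IsMaximal›]
      refine ⟨⟨⊥, Ideal.isPrime_bot⟩, ?_⟩
      apply PrimeSpectrum.ext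
      show Ideal.comap e.toRingHom ⊥ = q.asIdeal
      rw [hq]; rfl
    obtain ⟨q', hq'⟩ := key p
    exact ⟨q', hq'⟩
  haveI : Surjective i :=
    MorphismProperty.of_isPullback (P := @Surjective) hsq.flip inferInstance
  haveI : IsAffine X' := H9ThickAff.isAffine_of_thickening i ‹Surjective i›.surj
  let kB : CommRingCat.of k ⟶ Γ(X, ⊤) := (Scheme.ΓSpecIso (CommRingCat.of k)).inv ≫ hX.appTop
  let AB' : CommRingCat.of A ⟶ Γ(X', ⊤) := (Scheme.ΓSpecIso (CommRingCat.of A)).inv ≫ g.appTop
  have F1 : hX = X.isoSpec.hom ≫ Spec.map kB := fact1 _ hX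
  have F2 : g = X'.isoSpec.hom ≫ Spec.map AB' := fact1 _ g
  have hpb : IsPullback (Spec.map i.appTop) (Spec.map kB) (Spec.map AB')
      (Spec.map (CommRingCat.ofHom e.toRingHom)) := by
    refine hsq.of_iso X.isoSpec X'.isoSpec (Iso.refl _) (Iso.refl _) ?_ ?_ ?_ ?_
    · exact (Scheme.isoSpec_hom_naturality i).symm
    · rw [Iso.refl_hom, Category.comp_id]; exact F1
    · rw [Iso.refl_hom, Category.comp_id]; exact F2
    · simp
  have hft : kB.hom.FiniteType := by
    have h1 : RingHom.FiniteType hX.appTop.hom :=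
      (HasRingHomProperty.iff_of_isAffine (P := @LocallyOfFiniteType)).mp inferInstance
    show RingHom.FiniteType
      (hX.appTop.hom.comp (Scheme.ΓSpecIso (CommRingCat.of k)).inv.hom)
    exact RingHom.FiniteType.comp h1 (RingHom.FiniteType.of_surjective _
      (ConcreteCategory.bijective_of_isIso (Scheme.ΓSpecIso (CommRingCat.of k)).inv).2)
  have hfl : AB'.hom.Flat := by
    have h1 : RingHom.Flat g.appTop.hom :=
      (HasRingHomProperty.iff_of_isAffine (P := @Flat)).mp inferInstance
    show RingHom.Flat (g.appTop.hom.comp (Scheme.ΓSpecIso (CommRingCat.of A)).inv.hom)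
    exact RingHom.Flat.comp (RingHom.Flat.of_bijective
      (ConcreteCategory.bijective_of_isIso (Scheme.ΓSpecIso (CommRingCat.of A)).inv)) h1
  have hι : Function.Surjective i.appTop.hom :=
    (IsClosedImmersion.isAffine_surjective_of_isAffine i).2
  obtain ⟨s, hs⟩ := specLevel k A e Γ(X, ⊤) Γ(X', ⊤) kB AB' i.appTop hpb hft hfl
    (fun P _ => regular_localization X hreg P) hι
  refine ⟨X'.isoSpec.hom ≫ Spec.map s ≫ X.isoSpec.inv, ?_⟩
  refine hs.of_iso X'.isoSpec.symm X.isoSpec.symm (Iso.refl _) (Iso.refl _) ?_ ?_ ?_ ?_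
  · simp
  · rw [Iso.refl_hom, Category.comp_id, Iso.symm_hom, Iso.eq_inv_comp]; exact F2.symm
  · rw [Iso.refl_hom, Category.comp_id, Iso.symm_hom, Iso.eq_inv_comp]; exact F1.symm
  · simp

end Sch

end Groth.Agent.Helper3.RigidDef
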