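import Mathlib
import Groth.Prelude.Def_ArtFun4
import Groth.Agent.Lib.Lead.DefoIso
import Groth.Agent.Lib.Helper3.RigidDef
import Groth.Agent.Lib.Helper3.DefGl1

/-! Every morphism of deformations of a scheme over a local Artinian base is an isomorphism
(helper3). -/

set_option autoImplicit false
set_option linter.style.haveILetI false
universe u
open CategoryTheory CategoryTheory.Limits AlgebraicGeometry

namespace Groth.Agent.Helper3.DefGl

open ArtFun ArtFun.Art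

variable {Λ : Type u} {k : Type u} [CommRing Λ] [Field k] [Algebra Λ k]

theorem ker_eq_of_isPullback (A : Art Λ k) {B B' : CommRingCat.{u}} (kB : CommRingCat.of k ⟶ B)
    (AB' : CommRingCat.of A ⟶ B') (ι : B' ⟶ B)
    (hpb : IsPullback (Spec.map ι) (Spec.map kB) (Spec.map AB') (specRes A)) :
    (∀ a : A, ι.hom (AB'.hom a) = kB.hom (A.res a)) ∧
      RingHom.ker ι.hom = Ideal.map AB'.hom (RingHom.ker A.res.toRingHom) := by
  have hw : AB' ≫ ι = CommRingCat.ofHom A.res.toRingHom ≫ kB := by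
    apply Spec.map_injective
    rw [Spec.map_comp, Spec.map_comp]
    exact hpb.w
  have hcomp : ∀ a : A, ι.hom (AB'.hom a) = kB.hom (A.res a) := by
    intro a
    have := congrArg (fun m => m.hom a) hw
    exact this
  refine ⟨hcomp, ?_⟩
  obtain ⟨J, hJ⟩ : ∃ J : Ideal B', J = Ideal.map AB'.hom (RingHom.ker A.res.toRingHom) :=
    ⟨_, rfl⟩
  rw [← hJ]
  apply le_antisymm
  · have hle : RingHom.ker A.res.toRingHom ≤
        RingHom.ker ((Ideal.Quotient.mk J).comp AB'.hom) := by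
      intro a ha
      rw [RingHom.mem_ker, RingHom.comp_apply, Ideal.Quotient.eq_zero_iff_mem, hJ]
      exact Ideal.mem_map_of_mem _ ha
    let ψ : k →+* B' ⧸ J := RingHom.liftOfSurjective A.res.toRingHom A.res_surjective
      ⟨(Ideal.Quotient.mk J).comp AB'.hom, hle⟩
    have hψ : ∀ a : A, ψ (A.res a) = Ideal.Quotient.mk J (AB'.hom a) := fun a =>
      RingHom.liftOfRightInverse_comp_apply _ _ _ ⟨(Ideal.Quotient.mk J).comp AB'.hom, hle⟩ a
    refine RigidDef.ker_le_of_isPullback AB' (CommRingCat.ofHom A.res.toRingHom) kB ι hpb J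
      (CommRingCat.ofHom ψ) ?_
    refine CommRingCat.hom_ext (RingHom.ext fun a => ?_)
    exact (hψ a).symm
  · rw [hJ, Ideal.map_le_iff_le_comap]
    intro a ha
    have ha' : A.res a = 0 := RingHom.mem_ker.mp ha
    rw [Ideal.mem_comap, RingHom.mem_ker, hcomp, ha', map_zero]

theorem isIso_aff {A : Art Λ k} {X' T₁ T₂ : Scheme.{u}} [IsAffine T₂] (x' : X' ⟶ specPt k)
    (f₁ : T₁ ⟶ spec A) (f₂ : T₂ ⟶ spec A) [Flat f₁] (i₁ : X' ⟶ T₁) (i₂ : X' ⟶ T₂)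
    (h₁ : IsPullback i₁ x' f₁ (specRes A)) (h₂ : IsPullback i₂ x' f₂ (specRes A))
    (φ : T₁ ⟶ T₂) (hf : φ ≫ f₂ = f₁) (hi : i₁ ≫ φ = i₂) : IsIso φ := by
  haveI : IsClosedImmersion i₁ :=
    MorphismProperty.of_isPullback (P := @IsClosedImmersion) h₁.flip inferInstance
  haveI : IsClosedImmersion i₂ :=
    MorphismProperty.of_isPullback (P := @IsClosedImmersion) h₂.flip inferInstance
  have hs₁ : Surjective i₁ :=
    MorphismProperty.of_isPullback (P := @Surjective) h₁.flip (surjective_specRes A)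
  haveI : IsAffine X' := isAffine_of_isAffineHom i₂
  haveI : IsAffine T₁ := H9ThickAff.isAffine_of_thickening i₁ hs₁.surj
  obtain ⟨kB, hkB⟩ : ∃ kB : CommRingCat.of k ⟶ Γ(X', ⊤),
      kB = (Scheme.ΓSpecIso (CommRingCat.of k)).inv ≫ x'.appTop := ⟨_, rfl⟩
  obtain ⟨α₁, hα₁⟩ : ∃ α₁ : CommRingCat.of A ⟶ Γ(T₁, ⊤),
      α₁ = (Scheme.ΓSpecIso (CommRingCat.of A)).inv ≫ f₁.appTop := ⟨_, rfl⟩
  obtain ⟨α₂, hα₂⟩ : ∃ α₂ : CommRingCat.of A ⟶ Γ(T₂, ⊤),
      α₂ = (Scheme.ΓSpecIso (CommRingCat.of A)).inv ≫ f₂.appTop := ⟨_, rfl⟩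
  have F0 : x' = X'.isoSpec.hom ≫ Spec.map kB := by rw [hkB]; exact RigidDef.fact1 _ x'
  have F1 : f₁ = T₁.isoSpec.hom ≫ Spec.map α₁ := by rw [hα₁]; exact RigidDef.fact1 _ f₁
  have F2 : f₂ = T₂.isoSpec.hom ≫ Spec.map α₂ := by rw [hα₂]; exact RigidDef.fact1 _ f₂
  have hpb₁ : IsPullback (Spec.map i₁.appTop) (Spec.map kB) (Spec.map α₁) (specRes A) := by
    refine h₁.of_iso X'.isoSpec T₁.isoSpec (Iso.refl _) (Iso.refl _) ?_ ?_ ?_ ?_
    · exact (Scheme.isoSpec_hom_naturality i₁).symm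
    · rw [Iso.refl_hom, Category.comp_id]; exact F0
    · rw [Iso.refl_hom, Category.comp_id]; exact F1
    · simp
  have hpb₂ : IsPullback (Spec.map i₂.appTop) (Spec.map kB) (Spec.map α₂) (specRes A) := by
    refine h₂.of_iso X'.isoSpec T₂.isoSpec (Iso.refl _) (Iso.refl _) ?_ ?_ ?_ ?_
    · exact (Scheme.isoSpec_hom_naturality i₂).symm
    · rw [Iso.refl_hom, Category.comp_id]; exact F0
    · rw [Iso.refl_hom, Category.comp_id]; exact F2
    · simp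
  obtain ⟨-, hk₁⟩ := ker_eq_of_isPullback A kB α₁ i₁.appTop hpb₁
  obtain ⟨-, hk₂⟩ := ker_eq_of_isPullback A kB α₂ i₂.appTop hpb₂
  have hι₂ : Function.Surjective i₂.appTop.hom :=
    (IsClosedImmersion.isAffine_surjective_of_isAffine i₂).2
  have hψα : α₂ ≫ φ.appTop = α₁ := by
    have h0 : f₂.appTop ≫ φ.appTop = f₁.appTop := congrArg Scheme.Hom.appTop hf
    rw [hα₁, hα₂, Category.assoc, h0]
  have hψι : φ.appTop ≫ i₁.appTop = i₂.appTop := congrArg Scheme.Hom.appTop hi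
  letI : Algebra A Γ(T₁, ⊤) := α₁.hom.toAlgebra
  letI : Algebra A Γ(T₂, ⊤) := α₂.hom.toAlgebra
  haveI : Module.Flat A Γ(T₁, ⊤) := by
    have h1 : RingHom.Flat f₁.appTop.hom :=
      (HasRingHomProperty.iff_of_isAffine (P := @Flat)).mp inferInstance
    have h2 : RingHom.Flat α₁.hom := by
      rw [hα₁]
      show RingHom.Flat (f₁.appTop.hom.comp (Scheme.ΓSpecIso (CommRingCat.of A)).inv.hom)
      exact RingHom.Flat.comp (RingHom.Flat.of_bijective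
        (ConcreteCategory.bijective_of_isIso (Scheme.ΓSpecIso (CommRingCat.of A)).inv)) h1
    exact h2
  let g : Γ(T₂, ⊤) →ₗ[A] Γ(T₁, ⊤) :=
    { toFun := φ.appTop.hom
      map_add' := map_add _
      map_smul' := fun a y => by
        show φ.appTop.hom (α₂.hom a * y) = α₁.hom a * φ.appTop.hom y
        rw [map_mul]
        congr 1
        exact congrArg (fun m => m.hom a) hψα }
  have hbij : Function.Bijective g := by
    apply Groth.Agent.Lead.DefoIso.bijective_of_flat_of_nilpotent (RingHom.ker A.res.toRingHom)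
      (ker_res_nilpotent A)
    · intro y
      obtain ⟨z, hz⟩ := hι₂ (i₁.appTop.hom y)
      refine ⟨z, ?_⟩
      rw [Ideal.smul_top_eq_map]
      show y - φ.appTop.hom z ∈ Ideal.map α₁.hom (RingHom.ker A.res.toRingHom)
      have e1 : i₁.appTop.hom (φ.appTop.hom z) = i₂.appTop.hom z :=
        congrArg (fun m => m.hom z) hψι
      rw [← hk₁, RingHom.mem_ker, map_sub, sub_eq_zero, e1, hz]
    · intro z hz0
      have hz0' : φ.appTop.hom z = 0 := hz0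
      rw [Ideal.smul_top_eq_map]
      show z ∈ Ideal.map α₂.hom (RingHom.ker A.res.toRingHom)
      have e1 : i₁.appTop.hom (φ.appTop.hom z) = i₂.appTop.hom z :=
        congrArg (fun m => m.hom z) hψι
      rw [← hk₂, RingHom.mem_ker, ← e1, hz0', map_zero]
  have hbij' : Function.Bijective φ.appTop.hom := hbij
  haveI : IsIso φ.appTop := (ConcreteCategory.isIso_iff_bijective _).2 hbij'
  have hφ : φ = T₁.isoSpec.hom ≫ Spec.map φ.appTop ≫ T₂.isoSpec.inv := by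
    rw [Scheme.isoSpec_hom_naturality_assoc, Iso.hom_inv_id, Category.comp_id]
  rw [hφ]
  infer_instance

variable {X : Scheme.{u}} {x : X ⟶ specPt k}

theorem isIso_of_hom {A : Art Λ k} (ξ₁ ξ₂ : DefSch X x A) (φ : ξ₁.total ⟶ ξ₂.total)
    (hf : φ ≫ ξ₂.f = ξ₁.f) (hi : ξ₁.i ≫ φ = ξ₂.i) : IsIso φ := by
  refine IsZariskiLocalAtTarget.of_iSup_eq_top (P := MorphismProperty.isomorphisms Scheme)
    (fun W : ξ₂.total.affineOpens => (W : ξ₂.total.Opens)) (iSup_affineOpens_eq_top _)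
    (fun W => ?_)
  obtain ⟨W, hW⟩ := W
  show IsIso (φ ∣_ W)
  haveI : IsAffine W.toScheme := hW
  have hV : ξ₁.i ⁻¹ᵁ (φ ⁻¹ᵁ W) = ξ₂.i ⁻¹ᵁ W := by
    rw [← Scheme.Hom.comp_preimage, hi]
  have he : (X.isoOfEq hV).hom ≫ (ξ₂.i ⁻¹ᵁ W).ι = (ξ₁.i ⁻¹ᵁ (φ ⁻¹ᵁ W)).ι :=
    Scheme.isoOfEq_hom_ι X hV
  have P₁ : IsPullback (ξ₁.i ∣_ (φ ⁻¹ᵁ W)) ((ξ₁.i ⁻¹ᵁ (φ ⁻¹ᵁ W)).ι ≫ x)
      ((φ ⁻¹ᵁ W).ι ≫ ξ₁.f) (specRes A) :=
    (isPullback_morphismRestrict ξ₁.i (φ ⁻¹ᵁ W)).paste_vert ξ₁.isPullback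
  have P₂' : IsPullback (ξ₂.i ∣_ W) ((ξ₂.i ⁻¹ᵁ W).ι ≫ x) (W.ι ≫ ξ₂.f) (specRes A) :=
    (isPullback_morphismRestrict ξ₂.i W).paste_vert ξ₂.isPullback
  have P₂ : IsPullback ((X.isoOfEq hV).hom ≫ (ξ₂.i ∣_ W)) ((ξ₁.i ⁻¹ᵁ (φ ⁻¹ᵁ W)).ι ≫ x)
      (W.ι ≫ ξ₂.f) (specRes A) := by
    refine P₂'.of_iso (X.isoOfEq hV).symm (Iso.refl _) (Iso.refl _) (Iso.refl _) ?_ ?_ ?_ ?_
    · rw [Iso.refl_hom, Category.comp_id, Iso.symm_hom, Iso.inv_hom_id_assoc]
    · rw [Iso.refl_hom, Category.comp_id, Iso.symm_hom, ← he, Category.assoc,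
        Iso.inv_hom_id_assoc]
    · simp
    · simp
  refine isIso_aff ((ξ₁.i ⁻¹ᵁ (φ ⁻¹ᵁ W)).ι ≫ x) ((φ ⁻¹ᵁ W).ι ≫ ξ₁.f) (W.ι ≫ ξ₂.f)
    (ξ₁.i ∣_ (φ ⁻¹ᵁ W)) ((X.isoOfEq hV).hom ≫ (ξ₂.i ∣_ W)) P₁ P₂ (φ ∣_ W) ?_ ?_
  · rw [← Category.assoc, morphismRestrict_ι, Category.assoc, hf]
  · rw [← cancel_mono W.ι, Category.assoc, morphismRestrict_ι, ← Category.assoc,
      morphismRestrict_ι, Category.assoc, hi, Category.assoc, morphismRestrict_ι,
      ← Category.assoc, he]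

end Groth.Agent.Helper3.DefGl
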