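import Mathlib
import Groth.Prelude.Def_ArtFun4
import Groth.Agent.Lib.Helper9.PO.MilGeo2
import Groth.Agent.Lib.Helper3.DefGl2

/-! Gluing deformations of a scheme along a fibre product of local Artinian rings, using the
Ferrand pushouts of helper9 (helper3). -/

set_option autoImplicit false
set_option linter.style.haveILetI false
universe u
open CategoryTheory CategoryTheory.Limits AlgebraicGeometry

namespace Groth.Agent.Helper3.DefGl

open ArtFun ArtFun.Art H9PO

variable {Λ : Type u} {k : Type u} [CommRing Λ] [Field k] [Algebra Λ k]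

section Covers

variable {X' Y' Z' : Scheme.{u}} (i' : Z' ⟶ X') [IsClosedImmersion i']
  (hs : Function.Surjective i') (j' : Z' ⟶ Y') [IsAffineHom j']

include hs in
theorem isAffineOpen_img (W : Z'.Opens) (hW : IsAffineOpen W) :
    IsAffineOpen (H9ThickAff.img i' hs W) := by
  have hpre : i' ⁻¹ᵁ (H9ThickAff.img i' hs W) = W := H9ThickAff.preimage_img i' hs W
  haveI : IsAffine (i' ⁻¹ᵁ (H9ThickAff.img i' hs W)).toScheme := by
    rw [hpre]; exact hW
  have hsur : Surjective (i' ∣_ (H9ThickAff.img i' hs W)) :=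
    MorphismProperty.of_isPullback (P := @Surjective)
      (isPullback_morphismRestrict i' (H9ThickAff.img i' hs W)).flip ⟨hs⟩
  exact H9ThickAff.isAffine_of_thickening (i' ∣_ (H9ThickAff.img i' hs W)) hsur.surj

include hs in
/-- the chart attached to an affine open of `Y'` -/
noncomputable def chartOfOpen (V : Y'.Opens) (hV : IsAffineOpen V) : Chart i' j' :=
  ⟨⟨H9ThickAff.img i' hs (j' ⁻¹ᵁ V), V, H9ThickAff.preimage_img i' hs _⟩,
    isAffineOpen_img i' hs _ (hV.preimage j'), hV⟩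

include hs in
theorem covers_of_thickening : Covers i' j' where
  covX := fun x => by
    obtain ⟨z, rfl⟩ := hs x
    obtain ⟨V, hV, hzV, -⟩ := exists_isAffineOpen_mem_and_subset (x := j' z) (U := ⊤) trivial
    refine ⟨chartOfOpen i' hs j' V hV, ?_⟩
    show i' z ∈ H9ThickAff.img i' hs (j' ⁻¹ᵁ V)
    exact ⟨z, hzV, rfl⟩
  covY := fun y => by
    obtain ⟨V, hV, hyV, -⟩ := exists_isAffineOpen_mem_and_subset (x := y) (U := ⊤) trivial
    exact ⟨chartOfOpen i' hs j' V hV, hyV⟩

end Covers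

variable {X : Scheme.{u}} {x : X ⟶ specPt k}

theorem glue_core {B A A' A'' : Art Λ k} (p' : B ⟶ A') (p'' : B ⟶ A'') (f' : A' ⟶ A)
    (f'' : A'' ⟶ A)
    (hP : IsPushout (specMap f'') (specMap f') (specMap p'') (specMap p'))
    [IsClosedImmersion (specMap f'')]
    (ξ' : DefSch X x A') (ξ'' : DefSch X x A'') {Z' : Scheme.{u}} (i' : Z' ⟶ ξ''.total)
    (j' : Z' ⟶ ξ'.total) (c : Z' ⟶ spec A) (hX : IsPullback i' c ξ''.f (specMap f''))
    (hY : IsPullback j' c ξ'.f (specMap f')) (hsi' : Function.Surjective i') [IsAffineHom j']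
    (ι₀ : X ⟶ Z') (h1 : ι₀ ≫ i' = ξ''.i) (h2 : ι₀ ≫ j' = ξ'.i) :
    ∃ (ζ : DefSch X x B) (a' : ξ''.total ⟶ ζ.total) (b' : ξ'.total ⟶ ζ.total),
      IsPushout i' j' a' b' ∧ IsPullback a' ξ''.f ζ.f (specMap p'') ∧
        IsPullback b' ξ'.f ζ.f (specMap p') ∧ ξ''.i ≫ a' = ζ.i ∧ ξ'.i ≫ b' = ζ.i := by
  haveI : IsClosedImmersion i' :=
    MorphismProperty.of_isPullback (P := @IsClosedImmersion) hX.flip inferInstance
  have H' : Covers i' j' := covers_of_thickening i' hsi' j'
  obtain ⟨P', a', b', hP', -, hb'cl, ha'aff, -, -, -⟩ := exists_pushout H'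
  haveI := hb'cl
  haveI := ha'aff
  haveI : IsAffineHom b' := inferInstance
  have hw : i' ≫ ξ''.f ≫ specMap p'' = j' ≫ ξ'.f ≫ specMap p' := by
    rw [← Category.assoc, hX.w, ← Category.assoc j', hY.w, Category.assoc, Category.assoc, hP.w]
  obtain ⟨hh, ha, hb⟩ : ∃ hh : P' ⟶ spec B, a' ≫ hh = ξ''.f ≫ specMap p'' ∧
      b' ≫ hh = ξ'.f ≫ specMap p' :=
    ⟨hP'.desc (ξ''.f ≫ specMap p'') (ξ'.f ≫ specMap p') hw, hP'.inl_desc _ _ _,
      hP'.inr_desc _ _ _⟩
  have hmain := MilGeo.main (specMap f'') (specMap f') (specMap p'') (specMap p') hP ξ''.f ξ'.f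
    i' j' c hX hY a' b' hP' hh ha hb
  haveI : Flat hh := hmain.2.1.mpr ⟨inferInstance, inferInstance⟩
  have hpa : IsPullback a' ξ''.f hh (specMap p'') :=
    MilGeo.isPullback_a (specMap f'') (specMap f') (specMap p'') (specMap p') hP ξ''.f ξ'.f
      i' j' c hX hY a' b' hP' hh ha hb
  have hpb : IsPullback b' ξ'.f hh (specMap p') :=
    MilGeo.isPullback_b (specMap f'') (specMap f') (specMap p'') (specMap p') hP ξ''.f ξ'.f
      i' j' c hX hY a' b' hP' hh ha hb
  have hpull : IsPullback (ξ''.i ≫ a') x hh (specRes B) := by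
    have h0 := ξ''.isPullback.paste_horiz hpa
    rw [specRes_comp] at h0
    exact h0
  refine ⟨{ total := P', f := hh, flat := inferInstance, i := ξ''.i ≫ a', isPullback := hpull },
    a', b', hP', hpa, hpb, rfl, ?_⟩
  show ξ'.i ≫ b' = ξ''.i ≫ a'
  rw [← h1, ← h2, Category.assoc, Category.assoc, hP'.w]

theorem exists_glue {B A A' A'' : Art Λ k} (p' : B ⟶ A') (p'' : B ⟶ A'') (f' : A' ⟶ A)
    (f'' : A'' ⟶ A) (h : IsFibreProd p' p'' f' f'') (hs : Function.Surjective f'')
    (ξ' : DefSch X x A') (ξ'' : DefSch X x A'')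
    (θ : (ξ'.baseChange f').Iso (ξ''.baseChange f'')) :
    ∃ (ζ : DefSch X x B) (a' : ξ''.total ⟶ ζ.total) (b' : ξ'.total ⟶ ζ.total),
      IsPushout (pullback.fst ξ''.f (specMap f''))
        (θ.iso.inv ≫ pullback.fst ξ'.f (specMap f')) a' b' ∧
      IsPullback a' ξ''.f ζ.f (specMap p'') ∧ IsPullback b' ξ'.f ζ.f (specMap p') ∧
      ξ''.i ≫ a' = ζ.i ∧ ξ'.i ≫ b' = ζ.i ∧
      (ξ''.baseChange f'').i ≫ θ.iso.inv ≫ pullback.fst ξ'.f (specMap f') = ξ'.i := by
  let M : H9Ferrand.MSq B A' A'' A :=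
    { f := p'.toAlgHom.toRingHom
      g := p''.toAlgHom.toRingHom
      q := f'.toAlgHom.toRingHom
      p := f''.toAlgHom.toRingHom
      comm := RingHom.ext fun b => h.w_apply b
      surj := hs
      pb := fun b a' hba => by
        obtain ⟨c, hc1, hc2⟩ := h.surj b a' hba
        exact ⟨c, ⟨hc1, hc2⟩, fun c' hc' =>
          h.inj c' c (hc'.1.trans hc1.symm) (hc'.2.trans hc2.symm)⟩ }
  have hP : IsPushout (specMap f'') (specMap f') (specMap p'') (specMap p') := M.isPushout.flip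
  haveI : IsClosedImmersion (specMap f'') := IsClosedImmersion.spec_of_surjective _ hs
  have hX : IsPullback (pullback.fst ξ''.f (specMap f'')) (pullback.snd ξ''.f (specMap f''))
      ξ''.f (specMap f'') := IsPullback.of_hasPullback _ _
  have hY : IsPullback (θ.iso.inv ≫ pullback.fst ξ'.f (specMap f'))
      (pullback.snd ξ''.f (specMap f'')) ξ'.f (specMap f') := by
    refine (IsPullback.of_hasPullback ξ'.f (specMap f')).of_iso θ.iso (Iso.refl _) (Iso.refl _)
      (Iso.refl _) ?_ ?_ ?_ ?_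
    · rw [Iso.refl_hom, Category.comp_id, Iso.hom_inv_id_assoc]
    · rw [Iso.refl_hom, Category.comp_id]; exact θ.hom_f.symm
    · simp
    · simp
  have hsi' : Function.Surjective (pullback.fst ξ''.f (specMap f'')) := by
    intro t
    obtain ⟨x₀, hx₀⟩ := (surjective_i ξ'').surj t
    refine ⟨(ξ''.baseChange f'').i x₀, ?_⟩
    rw [← Scheme.Hom.comp_apply, DefSch.baseChange_i_fst]
    exact hx₀
  haveI : IsAffineHom (pullback.fst ξ'.f (specMap f')) :=
    MorphismProperty.of_isPullback (P := @IsAffineHom)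
      (IsPullback.of_hasPullback ξ'.f (specMap f')).flip inferInstance
  haveI : IsAffineHom (θ.iso.inv ≫ pullback.fst ξ'.f (specMap f')) := inferInstance
  have hθ : (ξ''.baseChange f'').i ≫ θ.iso.inv = (ξ'.baseChange f').i := by
    rw [← θ.i_hom, Category.assoc, Iso.hom_inv_id, Category.comp_id]
  have h2 : (ξ''.baseChange f'').i ≫ θ.iso.inv ≫ pullback.fst ξ'.f (specMap f') = ξ'.i := by
    rw [← Category.assoc, hθ, DefSch.baseChange_i_fst]
  obtain ⟨ζ, a', b', g1, g2, g3, g4, g5⟩ := glue_core p' p'' f' f'' hP ξ' ξ''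
    (pullback.fst ξ''.f (specMap f'')) (θ.iso.inv ≫ pullback.fst ξ'.f (specMap f'))
    (pullback.snd ξ''.f (specMap f'')) hX hY hsi' (ξ''.baseChange f'').i
    (DefSch.baseChange_i_fst ξ'' f'') h2
  exact ⟨ζ, a', b', g1, g2, g3, g4, g5, h2⟩

end Groth.Agent.Helper3.DefGl
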