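import Mathlib
import Groth.Prelude.Def_ArtFun4
import Groth.Agent.Lib.Helper3.DefGl3

/-! The deformation functor of a scheme satisfies (S1) and (H_ε) (helper3). -/

set_option autoImplicit false
set_option linter.style.haveILetI false
universe u
open CategoryTheory CategoryTheory.Limits AlgebraicGeometry

namespace Groth.Agent.Helper3.DefGl

open ArtFun ArtFun.Art

variable {Λ : Type u} {k : Type u} [CommRing Λ] [Field k] [Algebra Λ k]
variable {X : Scheme.{u}} {x : X ⟶ specPt k}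

theorem iso_of_glue {B A' A'' : Art Λ k} (p' : B ⟶ A') (p'' : B ⟶ A'') (η₁ η₂ : DefSch X x B)
    (u' : (η₁.baseChange p').Iso (η₂.baseChange p'))
    (u'' : (η₁.baseChange p'').Iso (η₂.baseChange p''))
    {Z' : Scheme.{u}} (i' : Z' ⟶ (η₁.baseChange p'').total) (j' : Z' ⟶ (η₁.baseChange p').total)
    (ι₀ : X ⟶ Z') [Epi ι₀] (e1 : ι₀ ≫ i' = (η₁.baseChange p'').i)
    (e2 : ι₀ ≫ j' = (η₁.baseChange p').i)
    (ζ : DefSch X x B) (a' : (η₁.baseChange p'').total ⟶ ζ.total)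
    (b' : (η₁.baseChange p').total ⟶ ζ.total)
    (hpo : IsPushout i' j' a' b')
    (hpa : IsPullback a' (η₁.baseChange p'').f ζ.f (specMap p''))
    (hpb : IsPullback b' (η₁.baseChange p').f ζ.f (specMap p'))
    (hia : (η₁.baseChange p'').i ≫ a' = ζ.i) : Nonempty (η₁.Iso η₂) := by
  have c1 : i' ≫ pullback.fst η₁.f (specMap p'') = j' ≫ pullback.fst η₁.f (specMap p') := by
    apply (cancel_epi ι₀).1
    have l : ι₀ ≫ i' ≫ pullback.fst η₁.f (specMap p'') = η₁.i := by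
      rw [← Category.assoc, e1, DefSch.baseChange_i_fst]
    have r : ι₀ ≫ j' ≫ pullback.fst η₁.f (specMap p') = η₁.i := by
      rw [← Category.assoc, e2, DefSch.baseChange_i_fst]
    rw [l, r]
  have c2 : i' ≫ u''.iso.hom ≫ pullback.fst η₂.f (specMap p'') =
      j' ≫ u'.iso.hom ≫ pullback.fst η₂.f (specMap p') := by
    apply (cancel_epi ι₀).1
    have l : ι₀ ≫ i' ≫ u''.iso.hom ≫ pullback.fst η₂.f (specMap p'') = η₂.i := by
      rw [← Category.assoc, e1, ← Category.assoc, u''.i_hom, DefSch.baseChange_i_fst]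
    have r : ι₀ ≫ j' ≫ u'.iso.hom ≫ pullback.fst η₂.f (specMap p') = η₂.i := by
      rw [← Category.assoc, e2, ← Category.assoc, u'.i_hom, DefSch.baseChange_i_fst]
    rw [l, r]
  obtain ⟨m₁, hm₁a, hm₁b⟩ : ∃ m : ζ.total ⟶ η₁.total,
      a' ≫ m = pullback.fst η₁.f (specMap p'') ∧ b' ≫ m = pullback.fst η₁.f (specMap p') :=
    ⟨hpo.desc _ _ c1, hpo.inl_desc _ _ _, hpo.inr_desc _ _ _⟩
  obtain ⟨m₂, hm₂a, hm₂b⟩ : ∃ m : ζ.total ⟶ η₂.total,
      a' ≫ m = u''.iso.hom ≫ pullback.fst η₂.f (specMap p'') ∧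
        b' ≫ m = u'.iso.hom ≫ pullback.fst η₂.f (specMap p') :=
    ⟨hpo.desc _ _ c2, hpo.inl_desc _ _ _, hpo.inr_desc _ _ _⟩
  have hf₁ : m₁ ≫ η₁.f = ζ.f := by
    apply hpo.hom_ext
    · rw [← Category.assoc, hm₁a, pullback.condition]
      exact hpa.w.symm
    · rw [← Category.assoc, hm₁b, pullback.condition]
      exact hpb.w.symm
  have hi₁ : ζ.i ≫ m₁ = η₁.i := by
    rw [← hia, Category.assoc, hm₁a, DefSch.baseChange_i_fst]
  have hf₂ : m₂ ≫ η₂.f = ζ.f := by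
    apply hpo.hom_ext
    · have e : pullback.fst η₂.f (specMap p'') ≫ η₂.f =
          (η₂.baseChange p'').f ≫ specMap p'' := pullback.condition
      rw [← Category.assoc, hm₂a, Category.assoc, e, ← Category.assoc, u''.hom_f]
      exact hpa.w.symm
    · have e : pullback.fst η₂.f (specMap p') ≫ η₂.f =
          (η₂.baseChange p').f ≫ specMap p' := pullback.condition
      rw [← Category.assoc, hm₂b, Category.assoc, e, ← Category.assoc, u'.hom_f]
      exact hpb.w.symm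
  have hi₂ : ζ.i ≫ m₂ = η₂.i := by
    rw [← hia, Category.assoc, hm₂a, ← Category.assoc, u''.i_hom, DefSch.baseChange_i_fst]
  haveI : IsIso m₁ := isIso_of_hom ζ η₁ m₁ hf₁ hi₁
  haveI : IsIso m₂ := isIso_of_hom ζ η₂ m₂ hf₂ hi₂
  exact ⟨(isoOfIsIso ζ η₁ m₁ hf₁ hi₁).symm.trans (isoOfIsIso ζ η₂ m₂ hf₂ hi₂)⟩

theorem s1 (X : Scheme.{u}) (x : X ⟶ specPt k) : S1 (defFunctor (Λ := Λ) X x) := by
  intro B A A' A'' p' p'' f' f'' h hs
  rintro ⟨⟨z', z''⟩, hz⟩
  obtain ⟨ξ', rfl⟩ := Quotient.exists_rep z'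
  obtain ⟨ξ'', rfl⟩ := Quotient.exists_rep z''
  have hz' : (ξ'.baseChange f').cl = (ξ''.baseChange f'').cl := hz
  have hθ : Nonempty ((ξ'.baseChange f').Iso (ξ''.baseChange f'')) := Quotient.exact hz'
  obtain ⟨θ⟩ := hθ
  obtain ⟨ζ, a', b', -, hpa, hpb, hia, hib, -⟩ := exists_glue p' p'' f' f'' h hs ξ' ξ'' θ
  refine ⟨ζ.cl, ?_⟩
  apply FibProd.ext
  · show (defFunctor X x).map p' ζ.cl = ξ'.cl
    rw [defFunctor_map_cl]
    exact Quotient.sound ⟨isoOfIsPullback ζ p' ξ' b' hpb hib⟩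
  · show (defFunctor X x).map p'' ζ.cl = ξ''.cl
    rw [defFunctor_map_cl]
    exact Quotient.sound ⟨isoOfIsPullback ζ p'' ξ'' a' hpa hia⟩

theorem heps (X : Scheme.{u}) (x : X ⟶ specPt k) : Heps (defFunctor (Λ := Λ) X x) := by
  intro B A' p' p'' h
  have hs : Function.Surjective (toBase (dual Λ k)) := (dual Λ k).res_surjective
  refine ⟨?_, s1 X x p' p'' _ _ h hs⟩
  intro z₁ z₂ hz
  obtain ⟨η₁, rfl⟩ := Quotient.exists_rep z₁
  obtain ⟨η₂, rfl⟩ := Quotient.exists_rep z₂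
  have h1 : (η₁.baseChange p').cl = (η₂.baseChange p').cl :=
    congrArg (fun t => t.1.1) hz
  have h2 : (η₁.baseChange p'').cl = (η₂.baseChange p'').cl :=
    congrArg (fun t => t.1.2) hz
  have hu' : Nonempty ((η₁.baseChange p').Iso (η₂.baseChange p')) := Quotient.exact h1
  have hu'' : Nonempty ((η₁.baseChange p'').Iso (η₂.baseChange p'')) := Quotient.exact h2
  obtain ⟨u'⟩ := hu'
  obtain ⟨u''⟩ := hu''
  let θ : ((η₁.baseChange p').baseChange (toBase A')).Iso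
      ((η₁.baseChange p'').baseChange (toBase (dual Λ k))) := isoOfBase _ _
  obtain ⟨ζ, a', b', hpo, hpa, hpb, hia, -, h6⟩ :=
    exists_glue p' p'' (toBase A') (toBase (dual Λ k)) h hs (η₁.baseChange p')
      (η₁.baseChange p'') θ
  haveI : IsIso ((η₁.baseChange p'').baseChange (toBase (dual Λ k))).i := isIso_i_base _
  have hη : Nonempty (η₁.Iso η₂) :=
    iso_of_glue p' p'' η₁ η₂ u' u'' _ _
      ((η₁.baseChange p'').baseChange (toBase (dual Λ k))).i
      (DefSch.baseChange_i_fst _ _) h6 ζ a' b' hpo hpa hpb hia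
  exact Quotient.sound hη

end Groth.Agent.Helper3.DefGl
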