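import Mathlib
import Groth.Prelude.Def_ArtFun4
import Groth.Agent.Lib.Helper3.DefGl4

/-! Deformation functor of a scheme: injectivity of the comparison map of a fibre-product
square versus lifting of automorphisms (helper3). -/

set_option autoImplicit false
set_option linter.style.haveILetI false
universe u
open CategoryTheory CategoryTheory.Limits AlgebraicGeometry

namespace Groth.Agent.Helper3.DefGl

open ArtFun ArtFun.Art

variable {Λ : Type u} {k : Type u} [CommRing Λ] [Field k] [Algebra Λ k]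
variable {X : Scheme.{u}} {x : X ⟶ specPt k}

theorem iso_ext {A : Art Λ k} {ξ₁ ξ₂ : DefSch X x A} {e e' : ξ₁.Iso ξ₂}
    (h : e.iso.hom = e'.iso.hom) : e = e' := by
  obtain ⟨i1, h1, h1'⟩ := e
  obtain ⟨i2, h2, h2'⟩ := e'
  have : i1 = i2 := CategoryTheory.Iso.ext h
  subst this
  rfl

theorem bc_hom_fst {A B : Art Λ k} {ξ₁ ξ₂ : DefSch X x A} (e : ξ₁.Iso ξ₂) (g : A ⟶ B) :
    (e.baseChange g).iso.hom ≫ pullback.fst ξ₂.f (specMap g) =
      pullback.fst ξ₁.f (specMap g) ≫ e.iso.hom :=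
  DefSch.pullMap_fst e.iso.hom e.hom_f g

theorem bc_hom_snd {A B : Art Λ k} {ξ₁ ξ₂ : DefSch X x A} (e : ξ₁.Iso ξ₂) (g : A ⟶ B) :
    (e.baseChange g).iso.hom ≫ pullback.snd ξ₂.f (specMap g) = pullback.snd ξ₁.f (specMap g) :=
  DefSch.pullMap_snd e.iso.hom e.hom_f g

theorem bc_comp_hom {A B : Art Λ k} {ξ₁ ξ₂ ξ₃ : DefSch X x A} (a : ξ₁.Iso ξ₂) (b : ξ₂.Iso ξ₃)
    (v : ξ₁.Iso ξ₃) (hv : v.iso.hom = a.iso.hom ≫ b.iso.hom) (g : A ⟶ B) :
    (v.baseChange g).iso.hom = (a.baseChange g).iso.hom ≫ (b.baseChange g).iso.hom := by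
  apply pullback.hom_ext
  · rw [bc_hom_fst, Category.assoc, bc_hom_fst, ← Category.assoc, bc_hom_fst, Category.assoc, hv]
  · rw [bc_hom_snd, Category.assoc, bc_hom_snd, bc_hom_snd]

theorem big_isPullback {B A' A : Art Λ k} (η : DefSch X x B) (p' : B ⟶ A') (f' : A' ⟶ A) :
    IsPullback (pullback.fst (η.baseChange p').f (specMap f') ≫ pullback.fst η.f (specMap p'))
      (pullback.snd (η.baseChange p').f (specMap f')) η.f (specMap (p' ≫ f')) := by
  rw [specMap_comp]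
  exact IsPullback.paste_horiz (IsPullback.of_hasPullback (η.baseChange p').f (specMap f'))
    (IsPullback.of_hasPullback η.f (specMap p'))

theorem big_isPullback' {B A' A'' A : Art Λ k} (η : DefSch X x B) (p' : B ⟶ A') (f' : A' ⟶ A)
    (p'' : B ⟶ A'') (f'' : A'' ⟶ A) (w : p' ≫ f' = p'' ≫ f'') :
    IsPullback (pullback.fst (η.baseChange p'').f (specMap f'') ≫ pullback.fst η.f (specMap p''))
      (pullback.snd (η.baseChange p'').f (specMap f'')) η.f (specMap (p' ≫ f')) := by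
  rw [w]
  exact big_isPullback η p'' f''

/-- the canonical isomorphism between the two iterated base changes along a commutative
square -/
noncomputable def canIso {B A' A'' A : Art Λ k} (η : DefSch X x B) (p' : B ⟶ A') (f' : A' ⟶ A)
    (p'' : B ⟶ A'') (f'' : A'' ⟶ A) (w : p' ≫ f' = p'' ≫ f'') :
    ((η.baseChange p').baseChange f').Iso ((η.baseChange p'').baseChange f'') where
  iso := (big_isPullback η p' f').isoIsPullback _ _ (big_isPullback' η p' f' p'' f'' w)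
  hom_f := IsPullback.isoIsPullback_hom_snd _ _ _ _
  i_hom := by
    apply (big_isPullback' η p' f' p'' f'' w).hom_ext
    · rw [Category.assoc, IsPullback.isoIsPullback_hom_fst, ← Category.assoc,
        DefSch.baseChange_i_fst, DefSch.baseChange_i_fst, ← Category.assoc,
        DefSch.baseChange_i_fst, DefSch.baseChange_i_fst]
    · rw [Category.assoc, IsPullback.isoIsPullback_hom_snd]
      exact (DefSch.baseChange_i_f _ f').trans (DefSch.baseChange_i_f _ f'').symm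

theorem canIso_hom_fst {B A' A'' A : Art Λ k} (η : DefSch X x B) (p' : B ⟶ A') (f' : A' ⟶ A)
    (p'' : B ⟶ A'') (f'' : A'' ⟶ A) (w : p' ≫ f' = p'' ≫ f'') :
    (canIso η p' f' p'' f'' w).iso.hom ≫
        pullback.fst (η.baseChange p'').f (specMap f'') ≫ pullback.fst η.f (specMap p'') =
      pullback.fst (η.baseChange p').f (specMap f') ≫ pullback.fst η.f (specMap p') :=
  IsPullback.isoIsPullback_hom_fst _ _ _ _

theorem iso_of_glue' {B A' A'' : Art Λ k} (p' : B ⟶ A') (p'' : B ⟶ A'') (η₁ η₂ : DefSch X x B)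
    (u' : (η₁.baseChange p').Iso (η₂.baseChange p'))
    (u'' : (η₁.baseChange p'').Iso (η₂.baseChange p''))
    {Z' : Scheme.{u}} (i' : Z' ⟶ (η₁.baseChange p'').total) (j' : Z' ⟶ (η₁.baseChange p').total)
    (c1 : i' ≫ pullback.fst η₁.f (specMap p'') = j' ≫ pullback.fst η₁.f (specMap p'))
    (c2 : i' ≫ u''.iso.hom ≫ pullback.fst η₂.f (specMap p'') =
      j' ≫ u'.iso.hom ≫ pullback.fst η₂.f (specMap p'))
    (ζ : DefSch X x B) (a' : (η₁.baseChange p'').total ⟶ ζ.total)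
    (b' : (η₁.baseChange p').total ⟶ ζ.total)
    (hpo : IsPushout i' j' a' b')
    (hpa : IsPullback a' (η₁.baseChange p'').f ζ.f (specMap p''))
    (hpb : IsPullback b' (η₁.baseChange p').f ζ.f (specMap p'))
    (hia : (η₁.baseChange p'').i ≫ a' = ζ.i) : Nonempty (η₁.Iso η₂) := by
  obtain ⟨m₁, hm₁a, hm₁b⟩ : ∃ m : ζ.total ⟶ η₁.total,
      a' ≫ m = pullback.fst η₁.f (specMap p'') ∧ b' ≫ m = pullback.fst η₁.f (specMap p') :=
    ⟨hpo.desc _ _ c1, hpo.inl_desc _ _ _, hpo.inr_desc _ _ _⟩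
  obtain ⟨m₂, hm₂a, hm₂b⟩ : ∃ m : ζ.total ⟶ η₂.total,
      a' ≫ m = u''.iso.hom ≫ pullback.fst η₂.f (specMap p'') ∧
        b' ≫ m = u'.iso.hom ≫ pullback.fst η₂.f (specMap p') :=
    ⟨hpo.desc _ _ c2, hpo.inl_desc _ _ _, hpo.inr_desc _ _ _⟩
  have hf₁ : m₁ ≫ η₁.f = ζ.f := by
    apply hpo.hom_ext
    · rw [← Category.assoc, hm₁a, pullback.condition]
      exact hpa.w.symm
    · rw [← Category.assoc, hm₁b, pullback.condition]
      exact hpb.w.symm
  have hi₁ : ζ.i ≫ m₁ = η₁.i := by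
    rw [← hia, Category.assoc, hm₁a, DefSch.baseChange_i_fst]
  have hf₂ : m₂ ≫ η₂.f = ζ.f := by
    apply hpo.hom_ext
    · have e : pullback.fst η₂.f (specMap p'') ≫ η₂.f =
          (η₂.baseChange p'').f ≫ specMap p'' := pullback.condition
      rw [← Category.assoc, hm₂a, Category.assoc, e, ← Category.assoc, u''.hom_f]
      exact hpa.w.symm
    · have e : pullback.fst η₂.f (specMap p') ≫ η₂.f =
          (η₂.baseChange p').f ≫ specMap p' := pullback.condition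
      rw [← Category.assoc, hm₂b, Category.assoc, e, ← Category.assoc, u'.hom_f]
      exact hpb.w.symm
  have hi₂ : ζ.i ≫ m₂ = η₂.i := by
    rw [← hia, Category.assoc, hm₂a, ← Category.assoc, u''.i_hom, DefSch.baseChange_i_fst]
  haveI : IsIso m₁ := isIso_of_hom ζ η₁ m₁ hf₁ hi₁
  haveI : IsIso m₂ := isIso_of_hom ζ η₂ m₂ hf₂ hi₂
  exact ⟨(isoOfIsIso ζ η₁ m₁ hf₁ hi₁).symm.trans (isoOfIsIso ζ η₂ m₂ hf₂ hi₂)⟩

theorem c2_aux {B A A' A'' : Art Λ k} (p' : B ⟶ A') (p'' : B ⟶ A'') (f' : A' ⟶ A)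
    (f'' : A'' ⟶ A) (η₁ η₂ : DefSch X x B)
    (u' : (η₁.baseChange p').Iso (η₂.baseChange p'))
    (v'' : (η₁.baseChange p'').Iso (η₂.baseChange p''))
    (θ : ((η₁.baseChange p').baseChange f').Iso ((η₁.baseChange p'').baseChange f''))
    (θ₂ : ((η₂.baseChange p').baseChange f').Iso ((η₂.baseChange p'').baseChange f''))
    (hθ₂ : θ₂.iso.hom ≫ pullback.fst (η₂.baseChange p'').f (specMap f'') ≫
        pullback.fst η₂.f (specMap p'') =
      pullback.fst (η₂.baseChange p').f (specMap f') ≫ pullback.fst η₂.f (specMap p'))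
    (hv : θ.iso.hom ≫ (v''.baseChange f'').iso.hom = (u'.baseChange f').iso.hom ≫ θ₂.iso.hom) :
    pullback.fst (η₁.baseChange p'').f (specMap f'') ≫ v''.iso.hom ≫
        pullback.fst η₂.f (specMap p'') =
      (θ.iso.inv ≫ pullback.fst (η₁.baseChange p').f (specMap f')) ≫ u'.iso.hom ≫
        pullback.fst η₂.f (specMap p') := by
  rw [Category.assoc, Iso.eq_inv_comp]
  have e1 : pullback.fst (η₁.baseChange p'').f (specMap f'') ≫ v''.iso.hom =
      (v''.baseChange f'').iso.hom ≫ pullback.fst (η₂.baseChange p'').f (specMap f'') :=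
    (bc_hom_fst v'' f'').symm
  have e2 : pullback.fst (η₁.baseChange p').f (specMap f') ≫ u'.iso.hom =
      (u'.baseChange f').iso.hom ≫ pullback.fst (η₂.baseChange p').f (specMap f') :=
    (bc_hom_fst u' f').symm
  rw [reassoc_of% e1, reassoc_of% hv, hθ₂, reassoc_of% e2]

theorem inj_of_autLift {B A A' A'' : Art Λ k} (p' : B ⟶ A') (p'' : B ⟶ A'') (f' : A' ⟶ A)
    (f'' : A'' ⟶ A) (h : IsFibreProd p' p'' f' f'') (hs : Function.Surjective f'')
    (hlift : ∀ ξ'' : DefSch X x A'',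
      Function.Surjective (fun e : ξ''.Iso ξ'' => e.baseChange f'')) :
    Function.Injective (cmp (defFunctor (Λ := Λ) X x) h) := by
  intro z₁ z₂ hz
  obtain ⟨η₁, rfl⟩ := Quotient.exists_rep z₁
  obtain ⟨η₂, rfl⟩ := Quotient.exists_rep z₂
  have h1 : (η₁.baseChange p').cl = (η₂.baseChange p').cl :=
    congrArg (fun t => t.1.1) hz
  have h2 : (η₁.baseChange p'').cl = (η₂.baseChange p'').cl :=
    congrArg (fun t => t.1.2) hz
  have hu' : Nonempty ((η₁.baseChange p').Iso (η₂.baseChange p')) := Quotient.exact h1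
  have hu'' : Nonempty ((η₁.baseChange p'').Iso (η₂.baseChange p'')) := Quotient.exact h2
  obtain ⟨u'⟩ := hu'
  obtain ⟨u''⟩ := hu''
  obtain ⟨θ, hθ⟩ : ∃ θ : ((η₁.baseChange p').baseChange f').Iso
      ((η₁.baseChange p'').baseChange f''),
      θ.iso.hom ≫ pullback.fst (η₁.baseChange p'').f (specMap f'') ≫
        pullback.fst η₁.f (specMap p'') =
      pullback.fst (η₁.baseChange p').f (specMap f') ≫ pullback.fst η₁.f (specMap p') :=
    ⟨canIso η₁ p' f' p'' f'' h.w, canIso_hom_fst η₁ p' f' p'' f'' h.w⟩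
  obtain ⟨θ₂, hθ₂⟩ : ∃ θ₂ : ((η₂.baseChange p').baseChange f').Iso
      ((η₂.baseChange p'').baseChange f''),
      θ₂.iso.hom ≫ pullback.fst (η₂.baseChange p'').f (specMap f'') ≫
        pullback.fst η₂.f (specMap p'') =
      pullback.fst (η₂.baseChange p').f (specMap f') ≫ pullback.fst η₂.f (specMap p') :=
    ⟨canIso η₂ p' f' p'' f'' h.w, canIso_hom_fst η₂ p' f' p'' f'' h.w⟩
  obtain ⟨α, hα0⟩ : ∃ α : ((η₁.baseChange p'').baseChange f'').Iso
      ((η₁.baseChange p'').baseChange f''),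
      α.iso.hom = θ.iso.inv ≫ (u'.baseChange f').iso.hom ≫ θ₂.iso.hom ≫
        (u''.baseChange f'').iso.inv :=
    ⟨θ.symm.trans ((u'.baseChange f').trans (θ₂.trans (u''.baseChange f'').symm)), rfl⟩
  obtain ⟨α', hα'⟩ := hlift (η₁.baseChange p'') α
  have hα1 : (α'.baseChange f'').iso.hom = α.iso.hom := congrArg (fun e => e.iso.hom) hα'
  obtain ⟨v'', hv0⟩ : ∃ v'' : (η₁.baseChange p'').Iso (η₂.baseChange p''),
      v''.iso.hom = α'.iso.hom ≫ u''.iso.hom := ⟨α'.trans u'', rfl⟩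
  have hv : θ.iso.hom ≫ (v''.baseChange f'').iso.hom =
      (u'.baseChange f').iso.hom ≫ θ₂.iso.hom := by
    rw [bc_comp_hom α' u'' v'' hv0 f'', hα1, hα0]
    simp only [Category.assoc, Iso.hom_inv_id_assoc, Iso.inv_hom_id, Category.comp_id]
  obtain ⟨ζ, a', b', hpo, hpa, hpb, hia, -, -⟩ :=
    exists_glue p' p'' f' f'' h hs (η₁.baseChange p') (η₁.baseChange p'') θ
  refine Quotient.sound (iso_of_glue' p' p'' η₁ η₂ u' v'' _ _ ?_ ?_ ζ a' b' hpo hpa hpb hia)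
  · rw [Category.assoc, Iso.eq_inv_comp]
    exact hθ
  · exact c2_aux p' p'' f' f'' η₁ η₂ u' v'' θ θ₂ hθ₂ hv

theorem autLift_of_inj {B A A' : Art Λ k} (q₁ q₂ : B ⟶ A') (p : A' ⟶ A)
    (h : IsFibreProd q₁ q₂ p p) (hs : Function.Surjective p)
    (hinj : Function.Injective (cmp (defFunctor (Λ := Λ) X x) h)) (ξ' : DefSch X x A') :
    Function.Surjective (fun e : (ξ'.baseChange p).Iso (ξ'.baseChange p) => e) ∧
    Function.Surjective (fun e : ξ'.Iso ξ' => e.baseChange p) := by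
  refine ⟨fun e => ⟨e, rfl⟩, ?_⟩
  intro e
  obtain ⟨ζ, a, b, hpo, hpa, hpb, hia, hib, -⟩ := exists_glue q₁ q₂ p p h hs ξ' ξ' e
  obtain ⟨ζ₁, a₁, b₁, hpo₁, hpa₁, hpb₁, hia₁, hib₁, -⟩ :=
    exists_glue q₁ q₂ p p h hs ξ' ξ' (DefSch.Iso.refl (ξ'.baseChange p))
  have hcl : ζ.cl = ζ₁.cl := by
    apply hinj
    apply FibProd.ext
    · show (defFunctor X x).map q₁ ζ.cl = (defFunctor X x).map q₁ ζ₁.cl
      rw [defFunctor_map_cl, defFunctor_map_cl]
      exact Quotient.sound ⟨(isoOfIsPullback ζ q₁ ξ' b hpb hib).trans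
        (isoOfIsPullback ζ₁ q₁ ξ' b₁ hpb₁ hib₁).symm⟩
    · show (defFunctor X x).map q₂ ζ.cl = (defFunctor X x).map q₂ ζ₁.cl
      rw [defFunctor_map_cl, defFunctor_map_cl]
      exact Quotient.sound ⟨(isoOfIsPullback ζ q₂ ξ' a hpa hia).trans
        (isoOfIsPullback ζ₁ q₂ ξ' a₁ hpa₁ hia₁).symm⟩
  have hΦ : Nonempty (ζ.Iso ζ₁) := Quotient.exact hcl
  obtain ⟨Φ⟩ := hΦ
  obtain ⟨φa, hφa1, hφa2⟩ : ∃ φ : ξ'.total ⟶ ξ'.total,
      φ ≫ a₁ = a ≫ Φ.iso.hom ∧ φ ≫ ξ'.f = ξ'.f :=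
    ⟨hpa₁.lift (a ≫ Φ.iso.hom) ξ'.f (by rw [Category.assoc, Φ.hom_f, hpa.w]),
      hpa₁.lift_fst _ _ _, hpa₁.lift_snd _ _ _⟩
  obtain ⟨φb, hφb1, hφb2⟩ : ∃ φ : ξ'.total ⟶ ξ'.total,
      φ ≫ b₁ = b ≫ Φ.iso.hom ∧ φ ≫ ξ'.f = ξ'.f :=
    ⟨hpb₁.lift (b ≫ Φ.iso.hom) ξ'.f (by rw [Category.assoc, Φ.hom_f, hpb.w]),
      hpb₁.lift_fst _ _ _, hpb₁.lift_snd _ _ _⟩
  have hφai : ξ'.i ≫ φa = ξ'.i := by
    apply hpa₁.hom_ext
    · rw [Category.assoc, hφa1, ← Category.assoc, hia, Φ.i_hom, hia₁]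
    · rw [Category.assoc, hφa2]
  have hφbi : ξ'.i ≫ φb = ξ'.i := by
    apply hpb₁.hom_ext
    · rw [Category.assoc, hφb1, ← Category.assoc, hib, Φ.i_hom, hib₁]
    · rw [Category.assoc, hφb2]
  haveI : IsIso φa := isIso_of_hom ξ' ξ' φa hφa2 hφai
  haveI : IsIso φb := isIso_of_hom ξ' ξ' φb hφb2 hφbi
  obtain ⟨Ea, hEa⟩ : ∃ E : ξ'.Iso ξ', E.iso.hom = φa :=
    ⟨isoOfIsIso ξ' ξ' φa hφa2 hφai, rfl⟩
  obtain ⟨Eb, hEb⟩ : ∃ E : ξ'.Iso ξ', E.iso.hom = φb :=
    ⟨isoOfIsIso ξ' ξ' φb hφb2 hφbi, rfl⟩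
  have hq₂ : Function.Surjective q₂ := by
    intro a''
    obtain ⟨c, -, hc⟩ := h.surj a'' a'' rfl
    exact ⟨c, hc⟩
  haveI : IsClosedImmersion (specMap p) := IsClosedImmersion.spec_of_surjective _ hs
  haveI : IsClosedImmersion (specMap q₂) := IsClosedImmersion.spec_of_surjective _ hq₂
  haveI : IsClosedImmersion (pullback.fst ξ'.f (specMap p)) :=
    MorphismProperty.of_isPullback (P := @IsClosedImmersion)
      (IsPullback.of_hasPullback ξ'.f (specMap p)).flip inferInstance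
  haveI : IsClosedImmersion a₁ :=
    MorphismProperty.of_isPullback (P := @IsClosedImmersion) hpa₁.flip inferInstance
  haveI : Mono (pullback.fst ξ'.f (specMap p) ≫ a₁) := inferInstance
  have hw : pullback.fst ξ'.f (specMap p) ≫ a =
      e.iso.inv ≫ pullback.fst ξ'.f (specMap p) ≫ b := by
    rw [hpo.w, Category.assoc]
  have hw₁ : pullback.fst ξ'.f (specMap p) ≫ a₁ = pullback.fst ξ'.f (specMap p) ≫ b₁ := by
    have := hpo₁.w
    rw [show (DefSch.Iso.refl (ξ'.baseChange p)).iso.inv = 𝟙 _ from rfl, Category.id_comp]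
      at this
    exact this
  have hA : (Ea.baseChange p).iso.hom ≫ pullback.fst ξ'.f (specMap p) =
      pullback.fst ξ'.f (specMap p) ≫ φa := by
    rw [bc_hom_fst, hEa]
  have hB : (Eb.baseChange p).iso.hom ≫ pullback.fst ξ'.f (specMap p) =
      pullback.fst ξ'.f (specMap p) ≫ φb := by
    rw [bc_hom_fst, hEb]
  have key : e.iso.hom ≫ (Ea.baseChange p).iso.hom = (Eb.baseChange p).iso.hom := by
    rw [← cancel_mono (pullback.fst ξ'.f (specMap p) ≫ a₁)]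
    have l : (e.iso.hom ≫ (Ea.baseChange p).iso.hom) ≫ pullback.fst ξ'.f (specMap p) ≫ a₁ =
        pullback.fst ξ'.f (specMap p) ≫ b ≫ Φ.iso.hom := by
      rw [Category.assoc, reassoc_of% hA, hφa1, reassoc_of% hw, Iso.hom_inv_id_assoc]
    have r : (Eb.baseChange p).iso.hom ≫ pullback.fst ξ'.f (specMap p) ≫ a₁ =
        pullback.fst ξ'.f (specMap p) ≫ b ≫ Φ.iso.hom := by
      rw [hw₁, reassoc_of% hB, hφb1]
    rw [l, r]
  refine ⟨Eb.trans Ea.symm, ?_⟩
  apply iso_ext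
  show ((Eb.trans Ea.symm).baseChange p).iso.hom = e.iso.hom
  rw [bc_comp_hom Eb Ea.symm (Eb.trans Ea.symm) rfl p, ← key, Category.assoc]
  have hinv : (Ea.baseChange p).iso.hom ≫ (Ea.symm.baseChange p).iso.hom = 𝟙 _ :=
    (Ea.baseChange p).iso.hom_inv_id
  rw [hinv, Category.comp_id]

end Groth.Agent.Helper3.DefGl
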