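import Mathlib

set_option linter.style.haveILetI false

universe u v w w' u'

open scoped TensorProduct

namespace Groth.Agent.Helper3.DefModLib

section Coord

variable {K : Type u} [Field K] (P : Type u') [CommRing P] [Algebra K P]
variable {ι : Type*} (b : Module.Basis ι K P)

/-- the `i`-th coordinate map `P ⊗ N → N` with respect to a basis of `P` -/
noncomputable def coordMap (N : Type*) [AddCommGroup N] [Module K N] (i : ι) :
    P ⊗[K] N →ₗ[K] N :=
  (TensorProduct.lid K N).toLinearMap ∘ₗ (b.coord i).rTensor N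

theorem coordMap_tmul (N : Type*) [AddCommGroup N] [Module K N] (i : ι) (p : P) (n : N) :
    coordMap P b N i (p ⊗ₜ n) = b.repr p i • n := by
  simp [coordMap]

theorem coordMap_lTensor {N N' : Type*} [AddCommGroup N] [Module K N] [AddCommGroup N']
    [Module K N'] (u : N →ₗ[K] N') (i : ι) (x : P ⊗[K] N) :
    coordMap P b N' i (u.lTensor P x) = u (coordMap P b N i x) := by
  induction x with
  | zero => simp
  | tmul p n => simp [coordMap_tmul]
  | add x y hx hy => simp only [map_add, hx, hy]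

theorem eq_zero_of_coordMap_eq_zero (N : Type*) [AddCommGroup N] [Module K N] (x : P ⊗[K] N)
    (h : ∀ i, coordMap P b N i x = 0) : x = 0 := by
  classical
  apply (TensorProduct.equivFinsuppOfBasisLeft b).injective
  rw [map_zero]
  ext i
  rw [TensorProduct.equivFinsuppOfBasisLeft_apply]
  exact h i

theorem sum_coordMap (N : Type*) [AddCommGroup N] [Module K N] (x : P ⊗[K] N) :
    ∃ s : Finset ι, (∀ i ∉ s, coordMap P b N i x = 0) ∧
      x = ∑ i ∈ s, b i ⊗ₜ[K] coordMap P b N i x := by
  classical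
  refine ⟨(TensorProduct.equivFinsuppOfBasisLeft b x).support, ?_, ?_⟩
  · intro i hi
    have := Finsupp.notMem_support_iff.1 hi
    rw [TensorProduct.equivFinsuppOfBasisLeft_apply] at this
    exact this
  · conv_lhs => rw [← (TensorProduct.equivFinsuppOfBasisLeft b).symm_apply_apply x]
    rw [TensorProduct.equivFinsuppOfBasisLeft_symm_apply, Finsupp.sum]
    refine Finset.sum_congr rfl (fun i _ => ?_)
    rw [TensorProduct.equivFinsuppOfBasisLeft_apply]
    rfl

end Coord

section Main

variable {K : Type u} [Field K]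
  {D : Type v} [Ring D] [Algebra K D]
  {E : Type w} [AddCommGroup E] [Module K E] [Module D E] [IsScalarTower K D E]
  {F : Type w'} [AddCommGroup F] [Module K F] [Module D F] [IsScalarTower K D F]
  (P : Type u') [CommRing P] [Algebra K P]

/-- evaluation at `e` as a `K`-linear map on `Hom_D(E, F)` -/
def evalHom (e : E) : (E →ₗ[D] F) →ₗ[K] F where
  toFun f := f e
  map_add' _ _ := rfl
  map_smul' _ _ := rfl

variable (Φ : P ⊗[K] (E →ₗ[D] F) →ₗ[P] (P ⊗[K] E →ₗ[P] P ⊗[K] F))
  (hΦ : ∀ (p : P) (f : E →ₗ[D] F), Φ (p ⊗ₜ[K] f) = p • (f.restrictScalars K).baseChange P)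

include hΦ in
theorem Phi_apply_one_tmul (x : P ⊗[K] (E →ₗ[D] F)) (e : E) :
    Φ x (1 ⊗ₜ e) = (evalHom (K := K) (D := D) (F := F) e).lTensor P x := by
  induction x with
  | zero => simp
  | tmul p f =>
    rw [hΦ, LinearMap.smul_apply, LinearMap.baseChange_tmul, TensorProduct.smul_tmul',
      smul_eq_mul, mul_one]
    rfl
  | add x y hx hy => rw [map_add, LinearMap.add_apply, hx, hy, map_add]

include hΦ in
theorem Phi_injective : Function.Injective Φ := by
  classical
  rw [injective_iff_map_eq_zero]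
  intro x hx
  let b := Module.Basis.ofVectorSpace K P
  apply eq_zero_of_coordMap_eq_zero P b
  intro i
  apply LinearMap.ext
  intro e
  have h1 := Phi_apply_one_tmul P Φ hΦ x e
  rw [hx, LinearMap.zero_apply] at h1
  have h2 := coordMap_lTensor P b (evalHom (K := K) (D := D) (F := F) e) i x
  rw [← h1, map_zero] at h2
  exact h2.symm

include hΦ in
theorem Phi_commutes (x : P ⊗[K] (E →ₗ[D] F)) (d : D) :
    Φ x ∘ₗ (DistribSMul.toLinearMap K E d).baseChange P =
      (DistribSMul.toLinearMap K F d).baseChange P ∘ₗ Φ x := by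
  induction x with
  | zero => simp
  | tmul p f =>
    rw [hΦ]
    apply TensorProduct.AlgebraTensorModule.ext
    intro q e
    simp only [LinearMap.comp_apply, LinearMap.baseChange_tmul, LinearMap.smul_apply,
      map_smul]
    congr 2
    exact f.map_smul d e
  | add x y hx hy =>
    rw [map_add, LinearMap.add_comp, LinearMap.comp_add, hx, hy]

include hΦ in
theorem mem_range_Phi [Module.Finite D E] (g : P ⊗[K] E →ₗ[P] P ⊗[K] F)
    (hg : ∀ d : D, g ∘ₗ (DistribSMul.toLinearMap K E d).baseChange P =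
      (DistribSMul.toLinearMap K F d).baseChange P ∘ₗ g) :
    g ∈ LinearMap.range Φ := by
  classical
  let b := Module.Basis.ofVectorSpace K P
  let gi : Module.Basis.ofVectorSpaceIndex K P → (E →ₗ[D] F) := fun i =>
    { toFun := fun e => coordMap P b F i (g (1 ⊗ₜ e))
      map_add' := by
        intro e e'
        rw [TensorProduct.tmul_add, map_add, map_add]
      map_smul' := by
        intro d e
        have h1 : g (1 ⊗ₜ (d • e)) =
            (DistribSMul.toLinearMap K F d).baseChange P (g (1 ⊗ₜ e)) := by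
          have := congrArg (fun t => t (1 ⊗ₜ e)) (hg d)
          simpa using this
        rw [h1, LinearMap.baseChange_eq_ltensor, coordMap_lTensor]
        rfl }
  have hgi : ∀ i e, gi i e = coordMap P b F i (g (1 ⊗ₜ e)) := fun _ _ => rfl
  obtain ⟨S, hS⟩ := Module.Finite.fg_top (R := D) (M := E)
  choose T hT1 hT2 using fun e : E => sum_coordMap P b F (g (1 ⊗ₜ e))
  let TT : Finset (Module.Basis.ofVectorSpaceIndex K P) := S.biUnion T
  have hzero : ∀ i ∉ TT, gi i = 0 := by
    intro i hi
    apply LinearMap.ext_on_range (v := fun e : S => (e : E))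
    · rw [Subtype.range_coe_subtype]
      exact hS
    · intro e
      rw [LinearMap.zero_apply, hgi]
      exact hT1 e i (fun h => hi (Finset.mem_biUnion.2 ⟨e, e.2, h⟩))
  refine ⟨∑ i ∈ TT, b i ⊗ₜ gi i, ?_⟩
  apply TensorProduct.AlgebraTensorModule.ext
  intro q e
  have hq : (q ⊗ₜ e : P ⊗[K] E) = q • (1 ⊗ₜ e) := by
    rw [TensorProduct.smul_tmul', smul_eq_mul, mul_one]
  rw [hq, map_smul, map_smul, Phi_apply_one_tmul P Φ hΦ]
  congr 1
  rw [map_sum]
  have h3 : ∀ i, (evalHom (K := K) (D := D) (F := F) e).lTensor P (b i ⊗ₜ gi i) =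
      b i ⊗ₜ coordMap P b F i (g (1 ⊗ₜ e)) := fun i => rfl
  simp only [h3]
  conv_rhs => rw [hT2 e]
  have hA : ∑ i ∈ TT, b i ⊗ₜ[K] coordMap P b F i (g (1 ⊗ₜ e)) =
      ∑ i ∈ TT ∪ T e, b i ⊗ₜ[K] coordMap P b F i (g (1 ⊗ₜ e)) := by
    apply Finset.sum_subset Finset.subset_union_left
    intro i _ hi
    rw [← hgi, hzero i hi, LinearMap.zero_apply, TensorProduct.tmul_zero]
  have hB : ∑ i ∈ T e, b i ⊗ₜ[K] coordMap P b F i (g (1 ⊗ₜ e)) =
      ∑ i ∈ TT ∪ T e, b i ⊗ₜ[K] coordMap P b F i (g (1 ⊗ₜ e)) := by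
    apply Finset.sum_subset Finset.subset_union_right
    intro i _ hi
    rw [hT1 e i hi, TensorProduct.tmul_zero]
  rw [hA, hB]

include hΦ in
theorem baseChange_hom_main [Module.Finite D E] :
    Function.Injective Φ ∧
      ∀ g : P ⊗[K] E →ₗ[P] P ⊗[K] F,
        g ∈ LinearMap.range Φ ↔
          ∀ d : D, g ∘ₗ (DistribSMul.toLinearMap K E d).baseChange P =
            (DistribSMul.toLinearMap K F d).baseChange P ∘ₗ g := by
  refine ⟨Phi_injective P Φ hΦ, fun g => ⟨?_, mem_range_Phi P Φ hΦ g⟩⟩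
  rintro ⟨x, rfl⟩ d
  exact Phi_commutes P Φ hΦ x d

end Main

end Groth.Agent.Helper3.DefModLib
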