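import Mathlib
import Groth.Agent.Lib.Helper3.DefModA

open scoped TensorProduct
open Polynomial

namespace Groth.Agent.Helper3.DefModLib

universe u v w

section Schur

variable {K : Type u} [Field K]
  {D : Type v} [Ring D] [Algebra K D]
  {E : Type w} [AddCommGroup E] [Module K E] [Module D E] [IsScalarTower K D E]
  (Kb : Type*) [Field Kb] [Algebra K Kb]

/-- the algebra hom `End_D(E) → End_Kb(Kb ⊗ E)` -/
noncomputable def endBC : Module.End D E →ₐ[K] Module.End Kb (Kb ⊗[K] E) :=
  (Module.End.baseChangeHom K Kb E).comp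
    { toFun := fun f => f.restrictScalars K
      map_one' := rfl
      map_mul' := fun _ _ => rfl
      map_zero' := rfl
      map_add' := fun _ _ => rfl
      commutes' := fun c => by ext x; simp }

theorem endBC_apply (φ : Module.End D E) :
    endBC Kb φ = (φ.restrictScalars K).baseChange Kb := rfl

theorem schur_of_absIrr [IsAlgClosed Kb] [Module.Finite K (E →ₗ[D] E)]
    (hnt : Nontrivial (Kb ⊗[K] E))
    (hirr : ∀ N : Submodule Kb (Kb ⊗[K] E),
      (∀ (d : D) (x : Kb ⊗[K] E), x ∈ N →
        (DistribSMul.toLinearMap K E d).baseChange Kb x ∈ N) → N = ⊥ ∨ N = ⊤)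
    (φ : E →ₗ[D] E) : ∃ c : K, ∀ x : E, φ x = c • x := by
  classical
  set Ψ : Module.End Kb (Kb ⊗[K] E) := endBC Kb φ with hΨ
  have hint : IsIntegral K (φ : Module.End D E) := IsIntegral.of_finite K φ
  have hintΨ : IsIntegral K Ψ := hint.map (endBC Kb)
  have hintΨ' : IsIntegral Kb Ψ := hintΨ.tower_top
  set q := minpoly Kb Ψ with hq
  have hdeg : 0 < q.degree := minpoly.degree_pos hintΨ'
  obtain ⟨μ, hμ⟩ := IsAlgClosed.exists_root q (ne_of_gt hdeg)
  obtain ⟨q', hq'⟩ := dvd_iff_isRoot.2 hμ
  have hqne : q ≠ 0 := minpoly.ne_zero hintΨ'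
  have hq'ne : q' ≠ 0 := by
    rintro rfl
    exact hqne (by rw [hq', mul_zero])
  have hq'Ψ : aeval Ψ q' ≠ 0 := by
    intro h0
    have h1 := minpoly.degree_le_of_ne_zero Kb Ψ hq'ne h0
    rw [← hq, hq', degree_mul, degree_X_sub_C, Polynomial.degree_eq_natDegree hq'ne] at h1
    norm_cast at h1
    omega
  have hzero : (Ψ - algebraMap Kb _ μ) * aeval Ψ q' = 0 := by
    have h2 := minpoly.aeval Kb Ψ
    rw [← hq, hq', map_mul, map_sub, aeval_X, aeval_C] at h2
    exact h2
  set T : Module.End Kb (Kb ⊗[K] E) := Ψ - algebraMap Kb _ μ with hT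
  have hcomm : ∀ d : D, Ψ ∘ₗ (DistribSMul.toLinearMap K E d).baseChange Kb =
      (DistribSMul.toLinearMap K E d).baseChange Kb ∘ₗ Ψ := by
    intro d
    rw [hΨ, endBC_apply, ← LinearMap.baseChange_comp, ← LinearMap.baseChange_comp]
    congr 1
    ext x
    simp
  have hTcomm : ∀ (d : D) (x : Kb ⊗[K] E), T ((DistribSMul.toLinearMap K E d).baseChange Kb x) =
      (DistribSMul.toLinearMap K E d).baseChange Kb (T x) := by
    intro d x
    have h3 := LinearMap.congr_fun (hcomm d) x
    simp only [LinearMap.comp_apply] at h3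
    simp only [hT, LinearMap.sub_apply, Module.algebraMap_end_apply, map_sub, map_smul, h3]
  have hstable : ∀ (d : D) (x : Kb ⊗[K] E), x ∈ LinearMap.ker T →
      (DistribSMul.toLinearMap K E d).baseChange Kb x ∈ LinearMap.ker T := by
    intro d x hx
    rw [LinearMap.mem_ker] at hx ⊢
    rw [hTcomm, hx, map_zero]
  rcases hirr (LinearMap.ker T) hstable with h | h
  · exfalso
    apply hq'Ψ
    refine LinearMap.ext fun x => ?_
    have h4 : T (aeval Ψ q' x) = 0 := LinearMap.congr_fun hzero x
    have h5 : aeval Ψ q' x ∈ LinearMap.ker T := h4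
    rw [h] at h5
    simpa using h5
  · have hΨμ : ∀ z, Ψ z = μ • z := by
      intro z
      have h6 : z ∈ LinearMap.ker T := by rw [h]; trivial
      have h7 := LinearMap.mem_ker.1 h6
      simp only [hT, LinearMap.sub_apply, Module.algebraMap_end_apply, sub_eq_zero] at h7
      exact h7
    -- descend to `K`
    have key : ∀ (ℓ : Module.Dual K E) (x : E),
        algebraMap K Kb (ℓ (φ x)) = μ * algebraMap K Kb (ℓ x) := by
      intro ℓ x
      have h8 := hΨμ ((1 : Kb) ⊗ₜ[K] x)
      rw [hΨ, endBC_apply, LinearMap.baseChange_tmul] at h8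
      have h9 := congrArg (LinearMap.liftBaseChange Kb ((Algebra.linearMap K Kb) ∘ₗ ℓ)) h8
      simpa [TensorProduct.smul_tmul'] using h9
    obtain ⟨x₀, hx₀⟩ : ∃ x₀ : E, x₀ ≠ 0 := by
      by_contra hall
      push Not at hall
      obtain ⟨z, hz⟩ := exists_ne (0 : Kb ⊗[K] E)
      apply hz
      induction z using TensorProduct.induction_on with
      | zero => rfl
      | tmul a e => rw [hall e, TensorProduct.tmul_zero]
      | add a b ha hb => 
        rcases eq_or_ne a 0 with rfl | ha'
        · rcases eq_or_ne b 0 with rfl | hb'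
          · simp
          · exact absurd (hb hb') hb'
        · exact absurd (ha ha') ha'
    obtain ⟨ℓ₀, hℓ₀⟩ := Module.Projective.exists_dual_eq_one K hx₀
    refine ⟨ℓ₀ (φ x₀), fun x => ?_⟩
    have hμc : μ = algebraMap K Kb (ℓ₀ (φ x₀)) := by
      have := key ℓ₀ x₀
      rw [hℓ₀, map_one, mul_one] at this
      exact this.symm
    rw [← sub_eq_zero, ← Module.forall_dual_apply_eq_zero_iff K]
    intro ℓ
    have h10 := key ℓ x
    rw [hμc, ← map_mul] at h10
    have h11 := (algebraMap K Kb).injective h10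
    rw [map_sub, map_smul, smul_eq_mul, h11, sub_self]

end Schur

end Groth.Agent.Helper3.DefModLib
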