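import Mathlib
import Groth.Agent.Lib.Helper3.DefModB

open scoped TensorProduct

namespace Groth.Agent.Helper3.DefModLib

universe u v w u' u''

section Irr

variable (K : Type u) [Field K] (D : Type v) [Ring D] [Algebra K D]
  (E : Type w) [AddCommGroup E] [Module K E] [Module D E] [IsScalarTower K D E]

/-- irreducibility of the base change `L ⊗ E` -/
def Irr (L : Type u') [Field L] [Algebra K L] : Prop :=
  Nontrivial (L ⊗[K] E) ∧ ∀ N : Submodule L (L ⊗[K] E),
    (∀ (d : D) (x : L ⊗[K] E), x ∈ N →
      (DistribSMul.toLinearMap K E d).baseChange L x ∈ N) → N = ⊥ ∨ N = ⊤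

variable {K E}

/-- extend a functional -/
noncomputable def tf (L : Type u') [Field L] [Algebra K L] (ℓ : Module.Dual K E) :
    L ⊗[K] E →ₗ[L] L :=
  LinearMap.liftBaseChange L ((Algebra.linearMap K L) ∘ₗ ℓ)

theorem tf_tmul (L : Type u') [Field L] [Algebra K L] (ℓ : Module.Dual K E) (a : L) (e : E) :
    tf L ℓ (a ⊗ₜ[K] e) = a * algebraMap K L (ℓ e) := by
  simp [tf]

theorem nontrivial_of_nontrivial_tensor (L : Type u') [Field L] [Algebra K L]
    (h : Nontrivial (L ⊗[K] E)) : Nontrivial E := by
  by_contra hE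
  rw [not_nontrivial_iff_subsingleton] at hE
  obtain ⟨z, hz⟩ := exists_ne (0 : L ⊗[K] E)
  apply hz
  induction z using TensorProduct.induction_on with
  | zero => rfl
  | tmul a e => rw [Subsingleton.elim e 0, TensorProduct.tmul_zero]
  | add a b ha hb =>
    rcases eq_or_ne a 0 with rfl | ha'
    · rcases eq_or_ne b 0 with rfl | hb'
      · simp
      · exact absurd (hb hb') hb'
    · exact absurd (ha ha') ha'

theorem nontrivial_tensor_of_nontrivial (L : Type u') [Field L] [Algebra K L]
    [Nontrivial E] : Nontrivial (L ⊗[K] E) := by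
  obtain ⟨x₀, hx₀⟩ := exists_ne (0 : E)
  obtain ⟨ℓ₀, hℓ₀⟩ := Module.Projective.exists_dual_eq_one K hx₀
  refine ⟨⟨(1 : L) ⊗ₜ[K] x₀, 0, fun h => ?_⟩⟩
  have := congrArg (tf L ℓ₀) h
  rw [tf_tmul, hℓ₀, map_one, mul_one, map_zero] at this
  exact one_ne_zero this

variable {L : Type u'} [Field L] [Algebra K L] {M : Type u''} [Field M] [Algebra K M]
  (ι : L →ₐ[K] M)

/-- the comparison map -/
noncomputable def jmap : L ⊗[K] E →ₗ[K] M ⊗[K] E := LinearMap.rTensor E ι.toLinearMap

theorem jmap_tmul (b : L) (e : E) : jmap ι (b ⊗ₜ[K] e) = ι b ⊗ₜ[K] e := rfl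

theorem jmap_smul (b : L) (z : L ⊗[K] E) : jmap ι (b • z) = ι b • jmap ι z := by
  induction z using TensorProduct.induction_on with
  | zero => simp
  | tmul a e => rw [TensorProduct.smul_tmul', jmap_tmul, jmap_tmul, TensorProduct.smul_tmul',
      smul_eq_mul, smul_eq_mul, map_mul]
  | add a b ha hb => rw [smul_add, map_add, map_add, smul_add, ha, hb]

theorem jmap_injective : Function.Injective (jmap (E := E) ι) :=
  Module.Flat.rTensor_preserves_injective_linearMap _ ι.toRingHom.injective

variable {D}

theorem jmap_comm (d : D) (z : L ⊗[K] E) :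
    jmap ι ((DistribSMul.toLinearMap K E d).baseChange L z) =
      (DistribSMul.toLinearMap K E d).baseChange M (jmap ι z) := by
  induction z using TensorProduct.induction_on with
  | zero => simp
  | tmul a e => rfl
  | add a b ha hb => rw [map_add, map_add, map_add, map_add, ha, hb]

/-- functional compatibility -/
theorem exists_ext_functional (ℓ : L ⊗[K] E →ₗ[L] L) :
    ∃ ℓ' : M ⊗[K] E →ₗ[M] M, ∀ z, ℓ' (jmap ι z) = ι (ℓ z) := by
  let l0 : E →ₗ[K] M :=
    { toFun := fun e => ι (ℓ ((1 : L) ⊗ₜ[K] e))
      map_add' := fun a b => by rw [TensorProduct.tmul_add, map_add, map_add]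
      map_smul' := fun c a => by
        rw [TensorProduct.tmul_smul, RingHom.id_apply]
        rw [← algebraMap_smul L c ((1 : L) ⊗ₜ[K] a), map_smul, smul_eq_mul, map_mul,
          AlgHom.commutes, Algebra.smul_def] }
  refine ⟨LinearMap.liftBaseChange M l0, fun z => ?_⟩
  induction z using TensorProduct.induction_on with
  | zero => simp
  | tmul a e =>
    rw [jmap_tmul, LinearMap.liftBaseChange_tmul]
    show ι a • ι (ℓ ((1 : L) ⊗ₜ[K] e)) = _
    rw [smul_eq_mul, ← map_mul, ← smul_eq_mul, ← map_smul, TensorProduct.smul_tmul', smul_eq_mul,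
      mul_one]
  | add a b ha hb => rw [map_add, map_add, map_add, map_add, ha, hb]

variable (D)

include ι in
/-- irreducibility descends along a field embedding -/
theorem Irr.descend (h : Irr K D E M) : Irr K D E L := by
  have hE : Nontrivial E := nontrivial_of_nontrivial_tensor M h.1
  refine ⟨nontrivial_tensor_of_nontrivial L, fun N hN => ?_⟩
  let N' : Submodule M (M ⊗[K] E) := Submodule.span M (jmap ι '' (N : Set (L ⊗[K] E)))
  have hN' : ∀ (d : D) (x : M ⊗[K] E), x ∈ N' →
      (DistribSMul.toLinearMap K E d).baseChange M x ∈ N' := by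
    intro d x hx
    induction hx using Submodule.span_induction with
    | mem x hx =>
      obtain ⟨z, hz, rfl⟩ := hx
      rw [← jmap_comm]
      exact Submodule.subset_span ⟨_, hN d z hz, rfl⟩
    | zero => rw [map_zero]; exact N'.zero_mem
    | add x y _ _ hx hy => rw [map_add]; exact N'.add_mem hx hy
    | smul a x _ hx => rw [map_smul]; exact N'.smul_mem a hx
  rcases h.2 N' hN' with h0 | h1
  · left
    rw [Submodule.eq_bot_iff]
    intro z hz
    have : jmap ι z ∈ N' := Submodule.subset_span ⟨z, hz, rfl⟩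
    rw [h0, Submodule.mem_bot] at this
    exact jmap_injective ι (by rw [this, map_zero])
  · right
    by_contra hne
    obtain ⟨z, hz⟩ : ∃ z, z ∉ N := by
      by_contra hall
      push Not at hall
      exact hne (Submodule.eq_top_iff'.2 hall)
    obtain ⟨ℓ, hℓz, hℓN⟩ := Submodule.exists_dual_map_eq_bot_of_notMem hz inferInstance
    obtain ⟨ℓ', hℓ'⟩ := exists_ext_functional ι ℓ
    have hkill : N' ≤ LinearMap.ker ℓ' := by
      rw [Submodule.span_le]
      rintro _ ⟨y, hy, rfl⟩
      show ℓ' (jmap ι y) = 0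
      rw [hℓ', show ℓ y = 0 from ?_, map_zero]
      have : ℓ y ∈ N.map ℓ := ⟨y, hy, rfl⟩
      rw [hℓN] at this
      exact this
    have hz' : jmap ι z ∈ N' := by rw [h1]; trivial
    have := hkill hz'
    rw [LinearMap.mem_ker, hℓ'] at this
    exact hℓz (ι.toRingHom.injective (by rw [AlgHom.toRingHom_eq_coe, RingHom.coe_coe, this, map_zero]))

omit ι in
/-- irreducibility ascends from all finite subextensions -/
theorem Irr.ascend [Algebra.IsAlgebraic K M]
    (h : ∀ (L : IntermediateField K M), FiniteDimensional K L → Irr K D E L) : Irr K D E M := by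
  classical
  have hE : Nontrivial E :=
    nontrivial_of_nontrivial_tensor (⊥ : IntermediateField K M)
      (h ⊥ inferInstance).1
  refine ⟨nontrivial_tensor_of_nontrivial M, fun N hN => ?_⟩
  by_cases hbot : N = ⊥
  · exact Or.inl hbot
  right
  obtain ⟨x, hxN, hx0⟩ := Submodule.exists_mem_ne_zero_of_ne_bot hbot
  obtain ⟨S, hS⟩ := TensorProduct.exists_finset x
  let L : IntermediateField K M := IntermediateField.adjoin K ((S.image Prod.fst : Finset M) : Set M)
  have hfd : FiniteDimensional K L :=
    IntermediateField.finiteDimensional_adjoin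
      (fun y _ => (Algebra.IsAlgebraic.isAlgebraic y).isIntegral)
  have hxr : x ∈ LinearMap.range (jmap (E := E) L.val) := by
    rw [hS]
    refine Submodule.sum_mem _ fun i hi => ?_
    have hi1 : i.1 ∈ L := IntermediateField.subset_adjoin K _
      (by rw [Finset.coe_image]; exact ⟨i, hi, rfl⟩)
    exact ⟨(⟨i.1, hi1⟩ : L) ⊗ₜ[K] i.2, rfl⟩
  obtain ⟨x', hx'⟩ := hxr
  let NL : Submodule L (L ⊗[K] E) :=
    { carrier := {z | jmap L.val z ∈ N}
      add_mem' := fun {a b} ha hb => by
        show jmap L.val (a + b) ∈ N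
        rw [map_add]; exact N.add_mem ha hb
      zero_mem' := by
        show jmap L.val 0 ∈ N
        rw [map_zero]; exact N.zero_mem
      smul_mem' := fun c {z} hz => by
        show jmap L.val (c • z) ∈ N
        rw [jmap_smul]; exact N.smul_mem _ hz }
  have hNL : ∀ (d : D) (z : L ⊗[K] E), z ∈ NL →
      (DistribSMul.toLinearMap K E d).baseChange L z ∈ NL := by
    intro d z hz
    show jmap L.val _ ∈ N
    rw [jmap_comm]
    exact hN d _ hz
  have hx'NL : x' ∈ NL := by
    show jmap L.val x' ∈ N
    rw [hx']; exact hxN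
  have hx'0 : x' ≠ 0 := by
    rintro rfl
    exact hx0 (by rw [← hx', map_zero])
  rcases (h L hfd).2 NL hNL with h0 | h1
  · exfalso
    rw [h0, Submodule.mem_bot] at hx'NL
    exact hx'0 hx'NL
  · rw [Submodule.eq_top_iff']
    intro z
    induction z using TensorProduct.induction_on with
    | zero => exact N.zero_mem
    | tmul a e =>
      have h2 : ((1 : L) ⊗ₜ[K] e) ∈ NL := by rw [h1]; trivial
      have h3 : jmap L.val ((1 : L) ⊗ₜ[K] e) ∈ N := h2
      rw [jmap_tmul, map_one] at h3
      have h4 := N.smul_mem a h3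
      rwa [TensorProduct.smul_tmul', smul_eq_mul, mul_one] at h4
    | add a b ha hb => exact N.add_mem ha hb

end Irr

section Main

variable {K : Type u} [Field K] {D : Type v} [Ring D] [Algebra K D]
  {E : Type w} [AddCommGroup E] [Module K E] [Module D E] [IsScalarTower K D E]

theorem absIrr_iff :
    Irr K D E (AlgebraicClosure K) ↔
      ∀ (L : Type u) [Field L] [Algebra K L] [FiniteDimensional K L], Irr K D E L := by
  constructor
  · intro h L _ _ _
    exact Irr.descend D (IsAlgClosed.lift : L →ₐ[K] AlgebraicClosure K) h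
  · intro h
    exact Irr.ascend D (fun L hL => h L)

end Main

end Groth.Agent.Helper3.DefModLib
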