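import Mathlib
import Groth.Agent.Lib.Helper3.DefModC

open scoped TensorProduct

namespace Groth.Agent.Helper3.DefModLib

universe u v w u' w'

set_option linter.unusedSectionVars false

section FlatColon

variable {R : Type*} [CommRing R] {F : Type*} [AddCommGroup F] [Module R F]

theorem flat_colon [Module.Flat R F] (J N : Ideal R) (t : R) (hJ : ∀ b, t * b ∈ J → b ∈ N)
    (x : F) (h : t • x ∈ J • (⊤ : Submodule R F)) : x ∈ N • (⊤ : Submodule R F) := by
  classical
  have h' : t • x ∈ J • Submodule.span R (Set.range (id : F → F)) := by simpa using h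
  obtain ⟨a, ha, hsum⟩ := (Submodule.mem_ideal_smul_span_iff_exists_sum J id (t • x)).1 h'
  let f : Option a.support → R := fun o => o.elim t (fun y => - a y)
  let xs : Option a.support → F := fun o => o.elim x (fun y => (y : F))
  have hrel : ∑ i, f i • xs i = 0 := by
    rw [Fintype.sum_option]
    have h1 : ∑ y : a.support, f (some y) • xs (some y) = - (t • x) := by
      rw [← hsum, Finsupp.sum, ← Finset.sum_coe_sort a.support (fun y => a y • id y),
        ← Finset.sum_neg_distrib]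
      refine Finset.sum_congr rfl fun y _ => ?_
      simp [f, xs]
    rw [h1]
    simp [f, xs]
  obtain ⟨k, c, z, hx, hc⟩ := Module.Flat.isTrivialRelation_of_sum_smul_eq_zero hrel
  have hx0 : x = ∑ j, c none j • z j := hx none
  rw [hx0]
  refine Submodule.sum_mem _ fun j _ => Submodule.smul_mem_smul (hJ _ ?_) trivial
  have hcj := hc j
  rw [Fintype.sum_option] at hcj
  have h2 : t * c none j = ∑ y : a.support, a y * c (some y) j := by
    have h3 : f none * c none j = - ∑ y : a.support, f (some y) * c (some y) j :=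
      eq_neg_of_add_eq_zero_left hcj
    rw [show f none = t from rfl] at h3
    rw [h3, ← Finset.sum_neg_distrib]
    refine Finset.sum_congr rfl fun y _ => ?_
    simp [f]
  rw [h2]
  exact J.sum_mem fun y _ => J.mul_mem_right _ (ha y)

end FlatColon

section Deform

variable {K : Type u} [Field K]
  {D : Type v} [Ring D] [Algebra K D]
  {E : Type w} [AddCommGroup E] [Module K E] [Module D E] [IsScalarTower K D E]
  {R : Type u'} [CommRing R] [Algebra K R]
  {F : Type w'} [AddCommGroup F] [Module K F] [Module R F] [Module D F]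
  [IsScalarTower K R F] [IsScalarTower K D F] [SMulCommClass R D F]

variable (D F) in
/-- `J F` as a `D`-submodule -/
def idealSub (J : Ideal R) : Submodule D F where
  carrier := (J • (⊤ : Submodule R F) : Submodule R F)
  add_mem' := fun ha hb => Submodule.add_mem _ ha hb
  zero_mem' := Submodule.zero_mem _
  smul_mem' := fun d z hz => by
    show d • z ∈ J • (⊤ : Submodule R F)
    have hz' : z ∈ J • (⊤ : Submodule R F) := hz
    refine Submodule.smul_induction_on hz' ?_ ?_
    · intro a ha y _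
      rw [← smul_comm a d y]
      exact Submodule.smul_mem_smul ha trivial
    · intro x y hx hy
      rw [smul_add]
      exact Submodule.add_mem _ hx hy

theorem mem_idealSub (J : Ideal R) (z : F) :
    z ∈ idealSub D F J ↔ z ∈ J • (⊤ : Submodule R F) := Iff.rfl

variable (D F) in
/-- multiplication by `r` as a `D`-linear map -/
def rsmulD (r : R) : F →ₗ[D] F where
  toFun x := r • x
  map_add' := smul_add r
  map_smul' d x := smul_comm r d x

/-- an `R`-linear map commuting with `D` as a `D`-linear map -/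
def toD (φ : F →ₗ[R] F) (hφ : ∀ (d : D) (x : F), φ (d • x) = d • φ x) : F →ₗ[D] F where
  toFun := φ
  map_add' := φ.map_add
  map_smul' := hφ

variable [IsLocalRing R]

theorem step (hE : ∀ ψ : E →ₗ[D] E, ∃ c : K, ∀ y : E, ψ y = c • y)
    [Module.Flat R F] (res : R →ₐ[K] K)
    (θ : F →ₗ[D] E) (hθ : ∀ (r : R) (x : F), θ (r • x) = res r • θ x)
    (hsurj : Function.Surjective θ)
    (hker : ∀ x : F, θ x = 0 ↔ x ∈ IsLocalRing.maximalIdeal R • (⊤ : Submodule R F))
    (I' : Ideal R) (t : R) (ht : t ∉ I')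
    (hmt : ∀ a ∈ IsLocalRing.maximalIdeal R, a * t ∈ I')
    (φ : F →ₗ[R] F) (hφ : ∀ (d : D) (x : F), φ (d • x) = d • φ x)
    (hφI : ∀ x, φ x ∈ (I' ⊔ Ideal.span {t}) • (⊤ : Submodule R F)) :
    ∃ c : K, ∀ x, φ x - (c • t) • x ∈ I' • (⊤ : Submodule R F) := by
  classical
  -- `m (I' + t) ⊆ I'`
  have hmI : ∀ a ∈ IsLocalRing.maximalIdeal R, ∀ z ∈ (I' ⊔ Ideal.span {t}) • (⊤ : Submodule R F),
      a • z ∈ I' • (⊤ : Submodule R F) := by
    intro a ha z hz
    refine Submodule.smul_induction_on hz ?_ ?_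
    · intro b hb y _
      obtain ⟨i, hi, s, hs, rfl⟩ := Submodule.mem_sup.1 hb
      obtain ⟨b', rfl⟩ := Ideal.mem_span_singleton'.1 hs
      rw [smul_smul]
      refine Submodule.smul_mem_smul ?_ trivial
      rw [mul_add]
      refine I'.add_mem (I'.mul_mem_left _ hi) ?_
      rw [← mul_assoc, mul_comm a b', mul_assoc]
      exact I'.mul_mem_left _ (hmt a ha)
    · intro x y hx hy
      rw [smul_add]
      exact Submodule.add_mem _ hx hy
  let Q := F ⧸ idealSub D F I'
  let π : F →ₗ[D] Q := (idealSub D F I').mkQ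
  have hπ : ∀ z, π z = 0 ↔ z ∈ I' • (⊤ : Submodule R F) := fun z =>
    (Submodule.Quotient.mk_eq_zero _).trans (mem_idealSub I' z)
  let T₀ : F →ₗ[D] Q := π ∘ₗ rsmulD D F t
  let Φ₀ : F →ₗ[D] Q := π ∘ₗ toD φ hφ
  have hT₀ : LinearMap.ker θ ≤ LinearMap.ker T₀ := by
    intro x hx
    rw [LinearMap.mem_ker] at hx ⊢
    rw [hker] at hx
    show π (t • x) = 0
    rw [hπ]
    refine Submodule.smul_induction_on hx ?_ ?_
    · intro a ha y _
      rw [smul_smul, mul_comm]
      exact Submodule.smul_mem_smul (hmt a ha) trivial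
    · intro x y hx hy
      rw [smul_add]
      exact Submodule.add_mem _ hx hy
  have hΦ₀ : LinearMap.ker θ ≤ LinearMap.ker Φ₀ := by
    intro x hx
    rw [LinearMap.mem_ker] at hx ⊢
    rw [hker] at hx
    show π (φ x) = 0
    rw [hπ]
    refine Submodule.smul_induction_on hx ?_ ?_
    · intro a ha y _
      rw [map_smul]
      exact hmI a ha _ (hφI y)
    · intro x y hx hy
      rw [map_add]
      exact Submodule.add_mem _ hx hy
  let e := θ.quotKerEquivOfSurjective hsurj
  let T : E →ₗ[D] Q := (LinearMap.ker θ).liftQ T₀ hT₀ ∘ₗ e.symm.toLinearMap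
  let Φ' : E →ₗ[D] Q := (LinearMap.ker θ).liftQ Φ₀ hΦ₀ ∘ₗ e.symm.toLinearMap
  have he : ∀ x, e.symm (θ x) = Submodule.Quotient.mk x := by
    intro x
    rw [LinearEquiv.symm_apply_eq]
    rfl
  have hTθ : ∀ x, T (θ x) = π (t • x) := by
    intro x
    show (LinearMap.ker θ).liftQ T₀ hT₀ (e.symm (θ x)) = _
    rw [he]
    rfl
  have hΦθ : ∀ x, Φ' (θ x) = π (φ x) := by
    intro x
    show (LinearMap.ker θ).liftQ Φ₀ hΦ₀ (e.symm (θ x)) = _
    rw [he]
    rfl
  have hcolon : ∀ b, t * b ∈ I' → b ∈ IsLocalRing.maximalIdeal R := by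
    intro b hb
    by_contra hbm
    have hu : IsUnit b := by
      by_contra hnu
      exact hbm ((IsLocalRing.mem_maximalIdeal b).2 hnu)
    obtain ⟨u, rfl⟩ := hu
    apply ht
    have := I'.mul_mem_right (↑u⁻¹ : R) hb
    rwa [mul_assoc, Units.mul_inv, mul_one] at this
  have hTinj : Function.Injective T := by
    rw [← LinearMap.ker_eq_bot, Submodule.eq_bot_iff]
    intro e' he'
    obtain ⟨x, rfl⟩ := hsurj e'
    rw [LinearMap.mem_ker, hTθ, hπ] at he'
    rw [hker]
    exact flat_colon I' _ t hcolon x he'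
  have hrange : ∀ e', Φ' e' ∈ LinearMap.range T := by
    intro e'
    obtain ⟨x, rfl⟩ := hsurj e'
    rw [hΦθ]
    have h1 := hφI x
    rw [Submodule.sup_smul, Submodule.ideal_span_singleton_smul] at h1
    obtain ⟨w, hw, s, hs, hws⟩ := Submodule.mem_sup.1 h1
    obtain ⟨y, _, rfl⟩ := (Submodule.mem_smul_pointwise_iff_exists _ _ _).1 hs
    refine ⟨θ y, ?_⟩
    rw [hTθ, ← hws, map_add, (hπ w).2 hw, zero_add]
  let ψ : E →ₗ[D] E :=
    (LinearEquiv.ofInjective T hTinj).symm.toLinearMap ∘ₗ Φ'.codRestrict (LinearMap.range T) hrange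
  have hψ : ∀ e', T (ψ e') = Φ' e' := by
    intro e'
    have := (LinearEquiv.ofInjective T hTinj).apply_symm_apply
      (Φ'.codRestrict (LinearMap.range T) hrange e')
    exact congrArg Subtype.val this
  obtain ⟨c, hc⟩ := hE ψ
  refine ⟨c, fun x => ?_⟩
  rw [← hπ, map_sub, sub_eq_zero, ← hΦθ, ← hψ, hc]
  have h2 : c • θ x = θ ((algebraMap K R c) • x) := by
    rw [hθ, AlgHom.commutes]
    rfl
  rw [h2, hTθ, smul_smul, Algebra.smul_def, mul_comm]

variable [IsArtinianRing R]

theorem exists_scalar_of_le (hE : ∀ ψ : E →ₗ[D] E, ∃ c : K, ∀ y : E, ψ y = c • y)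
    [Module.Flat R F] (res : R →ₐ[K] K)
    (θ : F →ₗ[D] E) (hθ : ∀ (r : R) (x : F), θ (r • x) = res r • θ x)
    (hsurj : Function.Surjective θ)
    (hker : ∀ x : F, θ x = 0 ↔ x ∈ IsLocalRing.maximalIdeal R • (⊤ : Submodule R F))
    (I : Ideal R) : ∀ (φ : F →ₗ[R] F), (∀ (d : D) (x : F), φ (d • x) = d • φ x) →
      (∀ x, φ x ∈ I • (⊤ : Submodule R F)) → ∃ r ∈ I, ∀ x, φ x = r • x := by
  classical
  refine IsArtinian.induction (P := fun I : Ideal R => ∀ (φ : F →ₗ[R] F),
    (∀ (d : D) (x : F), φ (d • x) = d • φ x) →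
      (∀ x, φ x ∈ I • (⊤ : Submodule R F)) → ∃ r ∈ I, ∀ x, φ x = r • x) ?_ I
  intro I ih φ hφ hφI
  by_cases hI : I = ⊥
  · subst hI
    refine ⟨0, Submodule.zero_mem _, fun x => ?_⟩
    have h0 := hφI x
    rw [Submodule.bot_smul, Submodule.mem_bot] at h0
    rw [h0, zero_smul]
  · have hne : {J : Ideal R | J < I}.Nonempty := ⟨⊥, bot_lt_iff_ne_bot.2 hI⟩
    obtain ⟨I', hI'lt, hI'max⟩ := wellFounded_gt.has_min {J : Ideal R | J < I} hne
    have hI'lt' : I' < I := hI'lt
    obtain ⟨t, htI, htI'⟩ := SetLike.exists_of_lt hI'lt'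
    have hcover : ∀ J : Ideal R, I' < J → J ≤ I → J = I := by
      intro J h1 h2
      by_contra hne'
      exact hI'max J (lt_of_le_of_ne h2 hne') h1
    have hsup : I' ⊔ Ideal.span {t} = I := by
      refine hcover _ ?_ (sup_le hI'lt'.le ((Ideal.span_singleton_le_iff_mem _).2 htI))
      refine lt_of_le_of_ne le_sup_left fun h => htI' ?_
      rw [h]
      exact Ideal.mem_sup_right (Ideal.subset_span rfl)
    have hmt : ∀ a ∈ IsLocalRing.maximalIdeal R, a * t ∈ I' := by
      intro a ha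
      by_contra hat
      have h3 : I' ⊔ Ideal.span {a * t} = I := by
        refine hcover _ ?_
          (sup_le hI'lt'.le ((Ideal.span_singleton_le_iff_mem _).2 (Ideal.mul_mem_left I a htI)))
        refine lt_of_le_of_ne le_sup_left fun h => hat ?_
        rw [h]
        exact Ideal.mem_sup_right (Ideal.subset_span rfl)
      have h4 : t ∈ I' ⊔ Ideal.span {a * t} := by rw [h3]; exact htI
      obtain ⟨i, hi, s, hs, his⟩ := Submodule.mem_sup.1 h4
      obtain ⟨b, rfl⟩ := Ideal.mem_span_singleton'.1 hs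
      have h5 : (1 - b * a) * t = i := by
        rw [sub_mul, one_mul, sub_eq_iff_eq_add, mul_assoc]
        exact his.symm
      have hba : b * a ∈ IsLocalRing.maximalIdeal R := Ideal.mul_mem_left _ b ha
      obtain ⟨u, hu'⟩ := IsLocalRing.isUnit_one_sub_self_of_mem_nonunits _
        ((IsLocalRing.mem_maximalIdeal _).1 hba)
      apply htI'
      have h6 : t = ↑u⁻¹ * i := by
        rw [← h5, ← hu', ← mul_assoc, Units.inv_mul, one_mul]
      rw [h6]
      exact I'.mul_mem_left _ hi
    rw [← hsup] at hφI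
    obtain ⟨c, hc⟩ := step hE res θ hθ hsurj hker I' t htI' hmt φ hφ hφI
    let φ' : F →ₗ[R] F := φ - (c • t) • LinearMap.id
    have hφ'D : ∀ (d : D) (x : F), φ' (d • x) = d • φ' x := by
      intro d x
      show φ (d • x) - (c • t) • (d • x) = d • (φ x - (c • t) • x)
      rw [hφ, smul_sub, smul_comm (c • t) d x]
    obtain ⟨r', hr', hφ'⟩ := ih I' hI'lt' φ' hφ'D (fun x => hc x)
    refine ⟨r' + c • t, I.add_mem (hI'lt'.le hr') ?_, fun x => ?_⟩
    · rw [Algebra.smul_def]
      exact Ideal.mul_mem_left I _ htI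
    · have h7 : φ x - (c • t) • x = r' • x := hφ' x
      rw [add_smul, ← h7, sub_add_cancel]

theorem existsUnique_scalar [Nontrivial E]
    (hE : ∀ ψ : E →ₗ[D] E, ∃ c : K, ∀ y : E, ψ y = c • y)
    [Module.Flat R F] (res : R →ₐ[K] K)
    (θ : F →ₗ[D] E) (hθ : ∀ (r : R) (x : F), θ (r • x) = res r • θ x)
    (hsurj : Function.Surjective θ)
    (hker : ∀ x : F, θ x = 0 ↔ x ∈ IsLocalRing.maximalIdeal R • (⊤ : Submodule R F))
    (φ : F →ₗ[R] F) (hφ : ∀ (d : D) (x : F), φ (d • x) = d • φ x) :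
    ∃! r : R, ∀ x : F, φ x = r • x := by
  obtain ⟨r, _, hr⟩ := exists_scalar_of_le hE res θ hθ hsurj hker ⊤ φ hφ
    (fun x => by rw [Submodule.top_smul]; trivial)
  refine ⟨r, hr, fun r' hr' => ?_⟩
  by_contra hne
  have ha : r' - r ≠ 0 := sub_ne_zero.2 hne
  have hann : ∀ x : F, (r' - r) • x = 0 := by
    intro x
    rw [sub_smul, ← hr, ← hr', sub_self]
  have hcolon : ∀ b, (r' - r) * b ∈ (⊥ : Ideal R) → b ∈ IsLocalRing.maximalIdeal R := by
    intro b hb
    rw [Submodule.mem_bot] at hb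
    by_contra hbm
    have hu : IsUnit b := by
      by_contra hnu
      exact hbm ((IsLocalRing.mem_maximalIdeal b).2 hnu)
    exact ha ((hu.mul_left_eq_zero).1 hb)
  have hall : ∀ x : F, θ x = 0 := by
    intro x
    rw [hker]
    refine flat_colon ⊥ _ (r' - r) hcolon x ?_
    rw [hann]
    exact Submodule.zero_mem _
  obtain ⟨e1, he1⟩ := exists_ne (0 : E)
  obtain ⟨x, rfl⟩ := hsurj e1
  exact he1 (hall x)

end Deform

end Groth.Agent.Helper3.DefModLib
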