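import Mathlib
import Groth.Agent.Lib.Helper3.SchlQ

set_option linter.style.haveILetI false

universe u v w w'

namespace Groth.Agent.Helper3.DefMod

open ArtFun Groth.Agent.Helper3.ArtFunLib

section

variable {K : Type u} [Field K] (R : Art K K)

theorem finite_art : Module.Finite K R := by
  haveI := (isFiniteLength_iff_isNoetherian_isArtinian.1 (isFiniteLength_art R)).1
  infer_instance

variable {F : Type w'} [AddCommGroup F] [Module R F]

/-- flatness: a relation with coefficients independent modulo `I'` forces the elements into `𝔪 F` -/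
theorem mem_smul_top_of_flat [Module.Flat R F] {I I' : Ideal R}
    (hII' : IsLocalRing.maximalIdeal R * I ≤ I')
    {ι : Type} [Fintype ι] (s : ι → R) (hs : ∀ j, s j ∈ I)
    (hind : ∀ c : ι → K, ∑ j, algebraMap K R (c j) * s j ∈ I' → ∀ j, c j = 0)
    (y : ι → F) (hy : ∑ j, s j • y j ∈ I' • (⊤ : Submodule R F)) :
    ∀ j, y j ∈ IsLocalRing.maximalIdeal R • (⊤ : Submodule R F) := by
  classical
  have h1 : ∑ j, s j • y j ∈ I' • Submodule.span R (Set.range (id : F → F)) := by
    rwa [Set.range_id, Submodule.span_univ]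
  obtain ⟨a, ha, hsum⟩ := (Submodule.mem_ideal_smul_span_iff_exists_sum I' id _).1 h1
  let f : ι ⊕ ↥a.support → R := Sum.elim s (fun z => - a z)
  let x : ι ⊕ ↥a.support → F := Sum.elim y (fun z => (z : F))
  have hrel : ∑ i, f i • x i = 0 := by
    rw [Fintype.sum_sum_type]
    simp only [f, x, Sum.elim_inl, Sum.elim_inr, neg_smul, Finset.sum_neg_distrib]
    rw [← hsum, Finsupp.sum, ← Finset.sum_coe_sort a.support (fun z => a z • id z)]
    simp
  obtain ⟨n, A, w, hxw, hA⟩ := Module.Flat.isTrivialRelation_of_sum_smul_eq_zero hrel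
  have hp : ∀ p, ∑ j, s j * A (Sum.inl j) p ∈ I' := by
    intro p
    have h2 := hA p
    rw [Fintype.sum_sum_type] at h2
    simp only [f, Sum.elim_inl, Sum.elim_inr, neg_mul, Finset.sum_neg_distrib] at h2
    have h3 : ∑ j, s j * A (Sum.inl j) p = ∑ z : ↥a.support, a z * A (Sum.inr z) p := by
      linear_combination h2
    rw [h3]
    exact Ideal.sum_mem _ fun z _ => Ideal.mul_mem_right _ _ (ha z)
  have hres : ∀ p j, R.res (A (Sum.inl j) p) = 0 := by
    intro p
    apply hind
    have h4 : ∑ j, algebraMap K R (R.res (A (Sum.inl j) p)) * s j =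
        ∑ j, s j * A (Sum.inl j) p -
          ∑ j, (A (Sum.inl j) p - algebraMap K R (R.res (A (Sum.inl j) p))) * s j := by
      rw [← Finset.sum_sub_distrib]
      apply Finset.sum_congr rfl
      intros
      ring
    rw [h4]
    refine Ideal.sub_mem _ (hp p) (Ideal.sum_mem _ fun j _ => hII' ?_)
    refine Ideal.mul_mem_mul ?_ (hs j)
    rw [Art.mem_maximalIdeal_iff, map_sub, AlgHom.commutes]
    exact sub_self _
  intro j
  have h5 := hxw (Sum.inl j)
  change y j = _ at h5
  rw [h5]
  exact Submodule.sum_mem _ fun p _ =>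
    Submodule.smul_mem_smul ((R.mem_maximalIdeal_iff _).2 (hres p j)) Submodule.mem_top

/-- a flat module over a local ring is faithful on elements outside `𝔪 F` -/
theorem eq_zero_of_smul_eq_zero [Module.Flat R F] (t : R) {x : F}
    (hx : x ∉ IsLocalRing.maximalIdeal R • (⊤ : Submodule R F)) (h : t • x = 0) : t = 0 := by
  have hrel : ∑ i : Unit, (fun _ => t) i • (fun _ => x) i = 0 := by
    simpa using h
  obtain ⟨n, A, w, hxw, hA⟩ := Module.Flat.isTrivialRelation_of_sum_smul_eq_zero hrel
  by_contra ht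
  apply hx
  have h5 := hxw ()
  change x = _ at h5
  rw [h5]
  refine Submodule.sum_mem _ fun p _ => Submodule.smul_mem_smul ?_ Submodule.mem_top
  by_contra hAp
  have hu : IsUnit (A () p) := IsLocalRing.notMem_maximalIdeal.1 hAp
  have h6 := hA p
  simp only [Finset.univ_unique, Finset.sum_singleton] at h6
  exact ht (hu.mul_left_eq_zero.1 h6)

end

section Basis

variable {K : Type u} [Field K] (R : Art K K)

/-- a finite family in `I` that is a `K`-basis modulo `I'` -/
theorem exists_basis_mod (I I' : Ideal R) :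
    ∃ (m : ℕ) (s : Fin m → R), (∀ j, s j ∈ I) ∧
      (∀ c : Fin m → K, ∑ j, algebraMap K R (c j) * s j ∈ I' → ∀ j, c j = 0) ∧
      (∀ r ∈ I, ∃ c : Fin m → K, r - ∑ j, algebraMap K R (c j) * s j ∈ I') := by
  haveI := finite_art R
  let U : Submodule K R := I.restrictScalars K
  let U' : Submodule K ↥U := (I'.restrictScalars K).comap U.subtype
  let b := Module.finBasis K (↥U ⧸ U')
  have hsurj := Submodule.mkQ_surjective U'
  let s' : Fin (Module.finrank K (↥U ⧸ U')) → ↥U := fun j => Function.surjInv hsurj (b j)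
  have hs' : ∀ j, U'.mkQ (s' j) = b j := fun j => Function.surjInv_eq hsurj (b j)
  have hcoe : ∀ c : Fin (Module.finrank K (↥U ⧸ U')) → K,
      ((∑ j, c j • s' j : ↥U) : R) = ∑ j, algebraMap K R (c j) * (s' j : R) := by
    intro c
    rw [Submodule.coe_sum]
    apply Finset.sum_congr rfl
    intro j _
    rw [Submodule.coe_smul, Algebra.smul_def]
  refine ⟨_, fun j => (s' j : R), fun j => (s' j).2, ?_, ?_⟩
  · intro c hc
    have h1 : (∑ j, c j • s' j : ↥U) ∈ U' := by
      change ((∑ j, c j • s' j : ↥U) : R) ∈ I'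
      rw [hcoe]
      exact hc
    have h2 : U'.mkQ (∑ j, c j • s' j) = 0 := (Submodule.Quotient.mk_eq_zero U').2 h1
    rw [map_sum] at h2
    simp_rw [map_smul, hs'] at h2
    exact Fintype.linearIndependent_iff.1 b.linearIndependent c h2
  · intro r hr
    refine ⟨fun j => b.repr (U'.mkQ ⟨r, hr⟩) j, ?_⟩
    have h1 : U'.mkQ (⟨r, hr⟩ - ∑ j, b.repr (U'.mkQ ⟨r, hr⟩) j • s' j) = 0 := by
      rw [map_sub, map_sum]
      simp_rw [map_smul, hs']
      rw [b.sum_repr, sub_self]
    have h2 : (⟨r, hr⟩ - ∑ j, b.repr (U'.mkQ ⟨r, hr⟩) j • s' j : ↥U) ∈ U' :=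
      (Submodule.Quotient.mk_eq_zero U').1 h1
    have h3 : ((⟨r, hr⟩ - ∑ j, b.repr (U'.mkQ ⟨r, hr⟩) j • s' j : ↥U) : R) ∈ I' := h2
    rw [Submodule.coe_sub, hcoe] at h3
    exact h3

end Basis

section Step

variable {K : Type u} [Field K] (R : Art K K)
variable {F : Type w'} [AddCommGroup F] [Module K F] [Module R F] [IsScalarTower K R F]
variable {D : Type v} [Ring D] [Module D F] [SMulCommClass R D F] [Module.Flat R F]
variable {E : Type w} [AddCommGroup E] [Module K E] [Module D E]

theorem exists_scalar_mod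
    (hE : ∀ ψ : E →ₗ[D] E, ∃ c : K, ∀ y : E, ψ y = c • y)
    (θ : F →ₗ[D] E) (hθ : ∀ (r : R) (x : F), θ (r • x) = R.res r • θ x)
    (hθsurj : Function.Surjective θ)
    (hθker : ∀ x : F, θ x = 0 ↔ x ∈ IsLocalRing.maximalIdeal R • (⊤ : Submodule R F))
    {I I' : Ideal R} (hII' : IsLocalRing.maximalIdeal R * I ≤ I')
    (β : F →ₗ[R] F) (hβD : ∀ (d : D) (x : F), β (d • x) = d • β x)
    (hβ : ∀ x, β x ∈ I • (⊤ : Submodule R F)) :
    ∃ r ∈ I, ∀ x, β x - r • x ∈ I' • (⊤ : Submodule R F) := by
  obtain ⟨m, s, hsI, hind, hspan⟩ := exists_basis_mod R I I'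
  have hex : ∀ x, ∃ y : Fin m → F, β x - ∑ j, s j • y j ∈ I' • (⊤ : Submodule R F) := by
    intro x
    refine Submodule.smul_induction_on
      (p := fun v => ∃ y : Fin m → F, v - ∑ j, s j • y j ∈ I' • (⊤ : Submodule R F)) (hβ x) ?_ ?_
    · intro r hr z _
      obtain ⟨c, hc⟩ := hspan r hr
      refine ⟨fun j => c j • z, ?_⟩
      have h1 : r • z - ∑ j, s j • (c j • z) = (r - ∑ j, algebraMap K R (c j) * s j) • z := by
        rw [sub_smul, Finset.sum_smul]
        congr 1
        apply Finset.sum_congr rfl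
        intro j _
        rw [mul_smul, algebraMap_smul, smul_algebra_smul_comm]
      rw [h1]
      exact Submodule.smul_mem_smul hc Submodule.mem_top
    · rintro v v' ⟨y, hy⟩ ⟨y', hy'⟩
      refine ⟨y + y', ?_⟩
      have h1 : v + v' - ∑ j, s j • (y + y') j =
          (v - ∑ j, s j • y j) + (v' - ∑ j, s j • y' j) := by
        simp only [Pi.add_apply, smul_add, Finset.sum_add_distrib]
        abel
      rw [h1]
      exact Submodule.add_mem _ hy hy'
  choose Y hY using hex
  have huniq : ∀ x (y : Fin m → F), β x - ∑ j, s j • y j ∈ I' • (⊤ : Submodule R F) →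
      ∀ j, θ (y j) = θ (Y x j) := by
    intro x y hy j
    have hdiff : ∑ j, s j • (y j - Y x j) ∈ I' • (⊤ : Submodule R F) := by
      have h1 : ∑ j, s j • (y j - Y x j) =
          (β x - ∑ j, s j • Y x j) - (β x - ∑ j, s j • y j) := by
        simp only [smul_sub, Finset.sum_sub_distrib]
        abel
      rw [h1]
      exact Submodule.sub_mem _ (hY x) hy
    have h2 := mem_smul_top_of_flat R hII' s hsI hind (fun j => y j - Y x j) hdiff j
    have h0 := (hθker _).2 h2
    rwa [map_sub, sub_eq_zero] at h0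
  have hDstab : ∀ (d : D) v, v ∈ I' • (⊤ : Submodule R F) →
      d • v ∈ I' • (⊤ : Submodule R F) := by
    intro d v hv
    refine Submodule.smul_induction_on hv ?_ ?_
    · intro r hr z _
      rw [← smul_comm r d z]
      exact Submodule.smul_mem_smul hr Submodule.mem_top
    · intro a b ha hb
      rw [smul_add]
      exact Submodule.add_mem _ ha hb
  let φ : Fin m → F →ₗ[D] E := fun j =>
    { toFun := fun x => θ (Y x j)
      map_add' := fun x x' => by
        rw [← map_add]
        refine (huniq (x + x') (Y x + Y x') ?_ j).symm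
        have h1 : β (x + x') - ∑ j, s j • (Y x + Y x') j =
            (β x - ∑ j, s j • Y x j) + (β x' - ∑ j, s j • Y x' j) := by
          rw [map_add]
          simp only [Pi.add_apply, smul_add, Finset.sum_add_distrib]
          abel
        rw [h1]
        exact Submodule.add_mem _ (hY x) (hY x')
      map_smul' := fun d x => by
        rw [RingHom.id_apply, ← map_smul]
        refine (huniq (d • x) (fun j => d • Y x j) ?_ j).symm
        have h1 : β (d • x) - ∑ j, s j • (d • Y x j) = d • (β x - ∑ j, s j • Y x j) := by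
          rw [hβD, smul_sub, Finset.smul_sum]
          congr 1
          apply Finset.sum_congr rfl
          intro j _
          rw [smul_comm]
        rw [h1]
        exact hDstab d _ (hY x) }
  have hφ : ∀ j x, φ j x = θ (Y x j) := fun _ _ => rfl
  have hφker : ∀ j x, θ x = 0 → φ j x = 0 := by
    intro j x hx
    have hx' := (hθker x).1 hx
    have hβx : β x ∈ I' • (⊤ : Submodule R F) := by
      refine Submodule.smul_induction_on hx' ?_ ?_
      · intro t ht z _
        rw [map_smul]
        have h1 : t • β z ∈ (IsLocalRing.maximalIdeal R * I) • (⊤ : Submodule R F) := by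
          rw [Submodule.mul_smul]
          exact Submodule.smul_mem_smul ht (hβ z)
        exact Submodule.smul_mono_left hII' h1
      · intro a b ha hb
        rw [map_add]
        exact Submodule.add_mem _ ha hb
    have h2 := huniq x (fun _ => 0) (by simpa using hβx) j
    rw [hφ, ← h2, map_zero]
  have hfac : ∀ j, ∃ c : K, ∀ x, φ j x = c • θ x := by
    intro j
    let e := θ.quotKerEquivOfSurjective hθsurj
    have hker : LinearMap.ker θ ≤ LinearMap.ker (φ j) :=
      fun x hx => LinearMap.mem_ker.2 (hφker j x (LinearMap.mem_ker.1 hx))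
    let ψ : E →ₗ[D] E := ((LinearMap.ker θ).liftQ (φ j) hker) ∘ₗ e.symm.toLinearMap
    obtain ⟨c, hc⟩ := hE ψ
    refine ⟨c, fun x => ?_⟩
    rw [← hc]
    change _ = (LinearMap.ker θ).liftQ (φ j) hker (e.symm (θ x))
    have h1 : e.symm (θ x) = Submodule.Quotient.mk x := by
      rw [LinearEquiv.symm_apply_eq]
      rfl
    rw [h1]
    rfl
  choose c hc using hfac
  have hθK : ∀ (a : K) (z : F), θ (a • z) = a • θ z := by
    intro a z
    rw [← algebraMap_smul R a z, hθ, AlgHom.commutes]
    rfl
  refine ⟨∑ j, algebraMap K R (c j) * s j,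
    Ideal.sum_mem _ fun j _ => Ideal.mul_mem_left _ _ (hsI j), fun x => ?_⟩
  have hmem : ∀ j, Y x j - c j • x ∈ IsLocalRing.maximalIdeal R • (⊤ : Submodule R F) :=
    fun j => (hθker _).1 (by rw [map_sub, hθK, ← hc j x, hφ]; exact sub_self _)
  have h1 : β x - (∑ j, algebraMap K R (c j) * s j) • x =
      (β x - ∑ j, s j • Y x j) + ∑ j, s j • (Y x j - c j • x) := by
    rw [Finset.sum_smul]
    simp only [smul_sub, Finset.sum_sub_distrib]
    have h2 : ∀ j, (algebraMap K R (c j) * s j) • x = s j • c j • x := fun j => by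
      rw [mul_smul, algebraMap_smul]
      exact (smul_algebra_smul_comm (c j) (s j) x).symm
    simp_rw [h2]
    abel
  rw [h1]
  refine Submodule.add_mem _ (hY x) (Submodule.sum_mem _ fun j _ => ?_)
  have h3 : s j • (Y x j - c j • x) ∈
      (I * IsLocalRing.maximalIdeal R) • (⊤ : Submodule R F) := by
    rw [Submodule.mul_smul]
    exact Submodule.smul_mem_smul (hsI j) (hmem j)
  exact Submodule.smul_mono_left (by rw [mul_comm]; exact hII') h3

end Step

end Groth.Agent.Helper3.DefMod
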