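import Mathlib

/-! Ring-level core of "infinitesimal automorphisms of a deformation are derivations" (helper3).

* `mem_of_smul_mem`: for a flat algebra `B` over a local ring `A`, `t ∉ J'` and `t b ∈ J' B`
  imply `b ∈ m B` (equational criterion of flatness).
* `Step`, `Chart`, `delta`: the derivation attached to an automorphism which is the identity
  modulo `J`, for a "small" pair of ideals `J' ≤ J`.
* `ideal_induction`: descending induction on ideals of an Artinian local ring along such pairs.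
-/

set_option autoImplicit false
set_option linter.style.haveILetI false
universe u

namespace Groth.Agent.Helper3.DerAut

open IsLocalRing

section FlatKer

variable {A B : Type u} [CommRing A] [IsLocalRing A] [CommRing B] [Algebra A B] [Module.Flat A B]

theorem mem_of_smul_mem (J' : Ideal A) (t : A) (ht : t ∉ J') (b : B)
    (h : t • b ∈ J' • (⊤ : Submodule A B)) :
    b ∈ maximalIdeal A • (⊤ : Submodule A B) := by
  have h' : t • b ∈ J' • Submodule.span A (Set.range (id : B → B)) := by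
    rw [Set.range_id, Submodule.span_univ]; exact h
  obtain ⟨a, ha, hsum⟩ :=
    (Submodule.mem_ideal_smul_span_iff_exists_sum J' (id : B → B) (t • b)).1 h'
  rw [Finsupp.sum] at hsum
  obtain ⟨f, hf⟩ : ∃ f : Option a.support → A, f = fun o => o.elim t (fun i => -(a i)) :=
    ⟨_, rfl⟩
  obtain ⟨xs, hxs⟩ : ∃ xs : Option a.support → B, xs = fun o => o.elim b (fun i => (i : B)) :=
    ⟨_, rfl⟩
  have hrel : ∑ o, f o • xs o = 0 := by
    rw [Fintype.sum_option, hf, hxs]
    show t • b + ∑ i : a.support, (-(a i)) • (i : B) = 0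
    have h2 : ∑ i : a.support, (-(a i)) • (i : B) = -(t • b) := by
      rw [← hsum, ← Finset.sum_coe_sort a.support (fun i => a i • id i),
        ← Finset.sum_neg_distrib]
      refine Finset.sum_congr rfl fun i _ => ?_
      rw [neg_smul]
      rfl
    rw [h2, add_neg_cancel]
  obtain ⟨n, c, y, hx, hc⟩ :=
    Module.Flat.isTrivialRelation_of_sum_smul_eq_zero (R := A) (M := B) (f := f) (x := xs) hrel
  have hb : b = ∑ j, c none j • y j := by
    have := hx none
    rw [hxs] at this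
    exact this
  rw [hb]
  refine Submodule.sum_mem _ fun j _ => Submodule.smul_mem_smul ?_ Submodule.mem_top
  have hj := hc j
  rw [Fintype.sum_option, hf] at hj
  have hj0 : t * c none j + ∑ i : a.support, (-(a i)) * c (some i) j = 0 := hj
  simp only [neg_mul, Finset.sum_neg_distrib] at hj0
  have hj' : t * c none j = ∑ i : a.support, a i * c (some i) j := by
    linear_combination hj0
  by_contra hnm
  have hu : IsUnit (c none j) := by
    by_contra hnu
    exact hnm ((IsLocalRing.mem_maximalIdeal _).2 hnu)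
  have hmem : t * c none j ∈ J' := by
    rw [hj']
    exact Ideal.sum_mem _ fun i _ => J'.mul_mem_right _ (ha i)
  exact ht ((Ideal.mul_unit_mem_iff_mem J' hu).1 hmem)

end FlatKer

/-- A "small" pair of ideals `J' ≤ J ≤ m` of a local ring: `J = J' + (t)`, `t ∉ J'`,
`m J ≤ J'`. -/
structure Step (A : Type u) [CommRing A] [IsLocalRing A] where
  J : Ideal A
  J' : Ideal A
  t : A
  htJ : t ∈ J
  ht : t ∉ J'
  hJm : J ≤ maximalIdeal A
  hmJ : maximalIdeal A * J ≤ J'
  hJ : J ≤ J' ⊔ Ideal.span {t}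

/-- An affine chart of a deformation over `A` with an automorphism: a flat `A`-algebra `B`,
a surjection `ι : B → R` with kernel `m B` and an `A`-algebra endomorphism `φ` of `B` over
`R`. -/
structure Chart (A : Type u) [CommRing A] [IsLocalRing A] (B R : Type u) [CommRing B]
    [CommRing R] where
  ρ : A →+* B
  flat : ρ.Flat
  ι : B →+* R
  surj : Function.Surjective ι
  ker : RingHom.ker ι = Ideal.map ρ (maximalIdeal A)
  φ : B →+* B
  φρ : ∀ a, φ (ρ a) = ρ a
  ιφ : ∀ s, ι (φ s) = ι s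

section Delta

variable {A : Type u} [CommRing A] [IsLocalRing A] {B R : Type u} [CommRing B] [CommRing R]
  (S : Step A) (c : Chart A B R)

theorem Chart.iota_eq_zero (b : B) (h : c.ρ S.t * b ∈ Ideal.map c.ρ S.J') : c.ι b = 0 := by
  letI : Algebra A B := c.ρ.toAlgebra
  haveI : Module.Flat A B := c.flat
  have h1 : S.t • b ∈ S.J' • (⊤ : Submodule A B) := by
    rw [Ideal.smul_top_eq_map]
    show S.t • b ∈ Ideal.map c.ρ S.J'
    rw [Algebra.smul_def]
    exact h
  have h2 := mem_of_smul_mem S.J' S.t S.ht b h1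
  rw [Ideal.smul_top_eq_map] at h2
  have h3 : b ∈ Ideal.map c.ρ (maximalIdeal A) := h2
  rw [← c.ker] at h3
  exact h3

theorem Chart.tt_mem : c.ρ (S.t * S.t) ∈ Ideal.map c.ρ S.J' :=
  Ideal.mem_map_of_mem _ (S.hmJ (Ideal.mul_mem_mul (S.hJm S.htJ) S.htJ))

variable (hP : ∀ s, c.φ s - s ∈ Ideal.map c.ρ S.J)

include hP in
theorem Chart.exists_b (s : B) : ∃ b, c.φ s - s - c.ρ S.t * b ∈ Ideal.map c.ρ S.J' := by
  have h1 : c.φ s - s ∈ Ideal.map c.ρ (S.J' ⊔ Ideal.span {S.t}) := Ideal.map_mono S.hJ (hP s)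
  rw [Ideal.map_sup, Ideal.map_span, Set.image_singleton, Submodule.mem_sup] at h1
  obtain ⟨y, hy, z, hz, hyz⟩ := h1
  obtain ⟨b, hb⟩ := Ideal.mem_span_singleton'.1 hz
  refine ⟨b, ?_⟩
  have : c.φ s - s - c.ρ S.t * b = y := by
    rw [← hyz, ← hb]; ring
  rw [this]
  exact hy

include hP in
theorem Chart.mul_mem (a : A) (ha : a ∈ maximalIdeal A) (b : B) :
    c.φ (c.ρ a * b) - c.ρ a * b ∈ Ideal.map c.ρ S.J' := by
  have h1 : c.φ (c.ρ a * b) - c.ρ a * b = c.ρ a * (c.φ b - b) := by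
    rw [map_mul, c.φρ]; ring
  rw [h1]
  have h2 : c.ρ a * (c.φ b - b) ∈ Ideal.map c.ρ (maximalIdeal A) * Ideal.map c.ρ S.J :=
    Ideal.mul_mem_mul (Ideal.mem_map_of_mem _ ha) (hP b)
  rw [← Ideal.map_mul] at h2
  exact Ideal.map_mono S.hmJ h2

include hP in
theorem Chart.sub_mem_of_mem_ker (d : B) (hd : d ∈ Ideal.map c.ρ (maximalIdeal A)) :
    c.φ d - d ∈ Ideal.map c.ρ S.J' := by
  have key : ∀ b : B, c.φ (d * b) - d * b ∈ Ideal.map c.ρ S.J' := by
    refine Submodule.span_induction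
      (p := fun d _ => ∀ b : B, c.φ (d * b) - d * b ∈ Ideal.map c.ρ S.J') ?_ ?_ ?_ ?_ hd
    · rintro _ ⟨a, ha, rfl⟩ b
      exact c.mul_mem S hP a ha b
    · intro b
      rw [zero_mul, map_zero, sub_zero]
      exact Ideal.zero_mem _
    · intro x y _ _ hx hy b
      have : c.φ ((x + y) * b) - (x + y) * b =
          (c.φ (x * b) - x * b) + (c.φ (y * b) - y * b) := by
        rw [add_mul, map_add]; ring
      rw [this]
      exact Ideal.add_mem _ (hx b) (hy b)
    · intro r x _ hx b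
      have : r • x * b = x * (r * b) := by
        rw [smul_eq_mul]; ring
      rw [this]
      exact hx (r * b)
  have := key 1
  rwa [mul_one] at this

include hP in
theorem Chart.wd (s s' b b' : B) (hs : c.ι s = c.ι s')
    (hb : c.φ s - s - c.ρ S.t * b ∈ Ideal.map c.ρ S.J')
    (hb' : c.φ s' - s' - c.ρ S.t * b' ∈ Ideal.map c.ρ S.J') : c.ι b = c.ι b' := by
  have hd : s - s' ∈ Ideal.map c.ρ (maximalIdeal A) := by
    rw [← c.ker, RingHom.mem_ker, map_sub, hs, sub_self]
  have h1 := c.sub_mem_of_mem_ker S hP (s - s') hd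
  have h2 : c.ρ S.t * (b - b') =
      (c.φ (s - s') - (s - s')) - (c.φ s - s - c.ρ S.t * b) + (c.φ s' - s' - c.ρ S.t * b') := by
    rw [map_sub]; ring
  have h3 : c.ρ S.t * (b - b') ∈ Ideal.map c.ρ S.J' := by
    rw [h2]
    exact Ideal.add_mem _ (Ideal.sub_mem _ h1 hb) hb'
  have h4 := c.iota_eq_zero S (b - b') h3
  rw [map_sub, sub_eq_zero] at h4
  exact h4

/-- the derivation attached to `φ`. -/
noncomputable def Chart.delta (r : R) : R :=
  c.ι (Classical.choose (c.exists_b S hP (Classical.choose (c.surj r))))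

theorem Chart.delta_eq (s b : B) (h : c.φ s - s - c.ρ S.t * b ∈ Ideal.map c.ρ S.J') :
    c.delta S hP (c.ι s) = c.ι b :=
  c.wd S hP _ s _ b (Classical.choose_spec (c.surj (c.ι s)))
    (Classical.choose_spec (c.exists_b S hP (Classical.choose (c.surj (c.ι s))))) h

theorem Chart.delta_add (r r' : R) :
    c.delta S hP (r + r') = c.delta S hP r + c.delta S hP r' := by
  obtain ⟨s, rfl⟩ := c.surj r
  obtain ⟨s', rfl⟩ := c.surj r'
  obtain ⟨b, hb⟩ := c.exists_b S hP s
  obtain ⟨b', hb'⟩ := c.exists_b S hP s'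
  have h : c.φ (s + s') - (s + s') - c.ρ S.t * (b + b') ∈ Ideal.map c.ρ S.J' := by
    have : c.φ (s + s') - (s + s') - c.ρ S.t * (b + b') =
        (c.φ s - s - c.ρ S.t * b) + (c.φ s' - s' - c.ρ S.t * b') := by
      rw [map_add]; ring
    rw [this]
    exact Ideal.add_mem _ hb hb'
  rw [← map_add, c.delta_eq S hP (s + s') (b + b') h, c.delta_eq S hP s b hb,
    c.delta_eq S hP s' b' hb', map_add]

theorem Chart.delta_mul (r r' : R) :
    c.delta S hP (r * r') = r * c.delta S hP r' + r' * c.delta S hP r := by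
  obtain ⟨s, rfl⟩ := c.surj r
  obtain ⟨s', rfl⟩ := c.surj r'
  obtain ⟨b, hb⟩ := c.exists_b S hP s
  obtain ⟨b', hb'⟩ := c.exists_b S hP s'
  have h : c.φ (s * s') - s * s' - c.ρ S.t * (s * b' + s' * b) ∈ Ideal.map c.ρ S.J' := by
    have : c.φ (s * s') - s * s' - c.ρ S.t * (s * b' + s' * b) =
        c.ρ (S.t * S.t) * (b * b') + (c.φ s - s - c.ρ S.t * b) * c.φ s' +
          (c.φ s' - s' - c.ρ S.t * b') * (s + c.ρ S.t * b) := by
      rw [map_mul c.φ, map_mul c.ρ]; ring
    rw [this]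
    exact Ideal.add_mem _ (Ideal.add_mem _ (Ideal.mul_mem_right _ _ (c.tt_mem S))
      (Ideal.mul_mem_right _ _ hb)) (Ideal.mul_mem_right _ _ hb')
  rw [← map_mul, c.delta_eq S hP (s * s') (s * b' + s' * b) h, c.delta_eq S hP s b hb,
    c.delta_eq S hP s' b' hb', map_add, map_mul, map_mul]

theorem Chart.delta_const (a : A) : c.delta S hP (c.ι (c.ρ a)) = 0 := by
  have h : c.φ (c.ρ a) - c.ρ a - c.ρ S.t * 0 ∈ Ideal.map c.ρ S.J' := by
    rw [c.φρ, sub_self, mul_zero, sub_zero]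
    exact Ideal.zero_mem _
  rw [c.delta_eq S hP (c.ρ a) 0 h, map_zero]

theorem Chart.sub_mem_of_delta_eq_zero (h0 : ∀ r, c.delta S hP r = 0) (s : B) :
    c.φ s - s ∈ Ideal.map c.ρ S.J' := by
  obtain ⟨b, hb⟩ := c.exists_b S hP s
  have h1 : c.ι b = 0 := by
    rw [← c.delta_eq S hP s b hb]
    exact h0 _
  have h2 : b ∈ Ideal.map c.ρ (maximalIdeal A) := by
    rw [← c.ker]
    exact h1
  have h3 : c.ρ S.t * b ∈ Ideal.map c.ρ S.J' := by
    have h4 : b * c.ρ S.t ∈ Ideal.map c.ρ (maximalIdeal A) * Ideal.map c.ρ S.J :=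
      Ideal.mul_mem_mul h2 (Ideal.mem_map_of_mem _ S.htJ)
    rw [← Ideal.map_mul] at h4
    rw [mul_comm]
    exact Ideal.map_mono S.hmJ h4
  have h5 : c.φ s - s = (c.φ s - s - c.ρ S.t * b) + c.ρ S.t * b := by ring
  rw [h5]
  exact Ideal.add_mem _ hb h3

/-- compatibility of the derivations of two charts related by a map. -/
theorem Chart.delta_compat {B₂ R₂ : Type u} [CommRing B₂] [CommRing R₂] (c₂ : Chart A B₂ R₂)
    (hP₂ : ∀ s, c₂.φ s - s ∈ Ideal.map c₂.ρ S.J)
    (β : B →+* B₂) (γ : R →+* R₂) (hβρ : ∀ a, β (c.ρ a) = c₂.ρ a)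
    (hι : ∀ s, c₂.ι (β s) = γ (c.ι s)) (hφ : ∀ s, c₂.φ (β s) = β (c.φ s)) (r : R) :
    c₂.delta S hP₂ (γ r) = γ (c.delta S hP r) := by
  obtain ⟨s, rfl⟩ := c.surj r
  obtain ⟨b, hb⟩ := c.exists_b S hP s
  have h : c₂.φ (β s) - β s - c₂.ρ S.t * β b ∈ Ideal.map c₂.ρ S.J' := by
    have h1 : c₂.φ (β s) - β s - c₂.ρ S.t * β b = β (c.φ s - s - c.ρ S.t * b) := by
      rw [map_sub, map_sub, map_mul, hβρ, hφ]
    rw [h1]
    have h2 : Ideal.map β (Ideal.map c.ρ S.J') ≤ Ideal.map c₂.ρ S.J' := by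
      rw [Ideal.map_map]
      apply le_of_eq
      congr 1
      exact RingHom.ext hβρ
    exact h2 (Ideal.mem_map_of_mem _ hb)
  rw [← hι, c₂.delta_eq S hP₂ (β s) (β b) h, c.delta_eq S hP s b hb, hι]

end Delta

section Induction

variable {A : Type u} [CommRing A] [IsLocalRing A] [IsArtinianRing A]

theorem ideal_induction (P : Ideal A → Prop) (h0 : P (maximalIdeal A))
    (hstep : ∀ S : Step A, P S.J → P S.J') : P ⊥ := by
  obtain ⟨J, ⟨hJm, hPJ⟩, hmin⟩ := IsArtinian.set_has_minimal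
    {J : Ideal A | J ≤ maximalIdeal A ∧ P J} ⟨maximalIdeal A, le_rfl, h0⟩
  by_cases hJ0 : J = ⊥
  · rw [← hJ0]; exact hPJ
  exfalso
  obtain ⟨J', hJ'lt, hmax⟩ := set_has_maximal_iff_noetherian.mpr
    (inferInstance : IsNoetherian A A) {I : Ideal A | I < J} ⟨⊥, bot_lt_iff_ne_bot.2 hJ0⟩
  have hJ'lt' : J' < J := hJ'lt
  obtain ⟨t, htJ, ht⟩ := SetLike.exists_of_lt hJ'lt'
  have hsup : J ≤ J' ⊔ Ideal.span {t} := by
    have hle : J' ⊔ Ideal.span {t} ≤ J :=
      sup_le hJ'lt'.le ((Ideal.span_singleton_le_iff_mem _).2 htJ)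
    have hlt : J' < J' ⊔ Ideal.span {t} := by
      refine lt_of_le_of_ne le_sup_left fun h => ht ?_
      rw [h]
      exact le_sup_right (α := Ideal A) (Ideal.mem_span_singleton_self t)
    by_contra hn
    have hlt2 : J' ⊔ Ideal.span {t} < J := lt_of_le_of_ne hle fun h => hn (h ▸ le_rfl)
    exact hmax _ hlt2 hlt
  have hmJ : maximalIdeal A * J ≤ J' := by
    have hle : J' ⊔ maximalIdeal A * J ≤ J := sup_le hJ'lt'.le Ideal.mul_le_right
    by_cases heq : J' ⊔ maximalIdeal A * J = J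
    · exfalso
      have hfg : (J : Submodule A A).FG := IsNoetherian.noetherian J
      have hNak : J ≤ J' := Submodule.le_of_le_smul_of_le_jacobson_bot hfg
        (IsLocalRing.maximalIdeal_le_jacobson ⊥) (by rw [Ideal.smul_eq_mul]; exact heq.ge)
      exact absurd hJ'lt' (not_lt_of_ge hNak)
    · have hlt2 : J' ⊔ maximalIdeal A * J < J := lt_of_le_of_ne hle heq
      have h3 : ¬ J' < J' ⊔ maximalIdeal A * J := hmax _ hlt2
      have h4 : J' ⊔ maximalIdeal A * J = J' := by
        by_contra hne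
        exact h3 (lt_of_le_of_ne le_sup_left (Ne.symm hne))
      rw [← h4]
      exact le_sup_right
  have hPJ' : P J' := hstep ⟨J, J', t, htJ, ht, hJm, hmJ, hsup⟩ hPJ
  exact hmin J' ⟨hJ'lt'.le.trans hJm, hPJ'⟩ hJ'lt'

end Induction

end Groth.Agent.Helper3.DerAut
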