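import Mathlib
import Groth.Prelude.Def_ArtFun4
import Groth.Agent.Lib.Helper3.DefGl2
import Groth.Agent.Lib.Helper3.DerAutA

/-! Affine charts of a deformation of a scheme over a local Artinian ring, with an
endomorphism (helper3). -/

set_option autoImplicit false
set_option linter.style.haveILetI false
universe u
open CategoryTheory CategoryTheory.Limits AlgebraicGeometry TopologicalSpace Opposite

set_option backward.isDefEq.respectTransparency.types false

namespace Groth.Agent.Helper3.DerAut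

open ArtFun ArtFun.Art

variable {Λ : Type u} {k : Type u} [CommRing Λ] [Field k] [Algebra Λ k]
variable {X : Scheme.{u}} {x : X ⟶ specPt k} {A : Art Λ k}

theorem appLE_of_eq {X Y : Scheme.{u}} {f g : X ⟶ Y} (h : f = g) (U : Y.Opens) (V : X.Opens)
    (e : V ≤ f ⁻¹ᵁ U) : f.appLE U V e = g.appLE U V (h ▸ e) := by
  subst h; rfl

theorem ker_res_eq (A : Art Λ k) :
    RingHom.ker A.res.toRingHom = IsLocalRing.maximalIdeal A := by
  ext a
  rw [A.mem_maximalIdeal_iff, RingHom.mem_ker]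
  rfl

/-- the structure map `A → Γ(𝒳, ⊤)`. -/
noncomputable def rhoTop (ξ : DefSch X x A) : A →+* Γ(ξ.total, ⊤) :=
  ξ.f.appTop.hom.comp (Scheme.ΓSpecIso (CommRingCat.of A)).inv.hom

/-- the structure map `A → Γ(𝒳, W)`. -/
noncomputable def rho (ξ : DefSch X x A) (W : ξ.total.Opens) : A →+* Γ(ξ.total, W) :=
  (ξ.total.presheaf.map (homOfLE (le_top : W ≤ ⊤)).op).hom.comp (rhoTop ξ)

/-- the structure map `k → Γ(X, ⊤)`. -/
noncomputable def kapTop (x : X ⟶ specPt k) : k →+* Γ(X, ⊤) :=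
  x.appTop.hom.comp (Scheme.ΓSpecIso (CommRingCat.of k)).inv.hom

/-- the structure map `k → Γ(X, U)`. -/
noncomputable def kap (x : X ⟶ specPt k) (U : X.Opens) : k →+* Γ(X, U) :=
  (X.presheaf.map (homOfLE (le_top : U ≤ ⊤)).op).hom.comp (kapTop x)

theorem rho_map (ξ : DefSch X x A) {W W' : ξ.total.Opens} (h : W' ≤ W) (a : A) :
    (ξ.total.presheaf.map (homOfLE h).op).hom (rho ξ W a) = rho ξ W' a := by
  show (ξ.total.presheaf.map (homOfLE (le_top : W ≤ ⊤)).op ≫
    ξ.total.presheaf.map (homOfLE h).op).hom (rhoTop ξ a) = _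
  rw [← Functor.map_comp]
  rfl

theorem kap_map (x : X ⟶ specPt k) {U U' : X.Opens} (h : U' ≤ U) (c : k) :
    (X.presheaf.map (homOfLE h).op).hom (kap x U c) = kap x U' c := by
  show (X.presheaf.map (homOfLE (le_top : U ≤ ⊤)).op ≫
    X.presheaf.map (homOfLE h).op).hom (kapTop x c) = _
  rw [← Functor.map_comp]
  rfl

theorem specRes_appTop (A : Art Λ k) (a : A) :
    (specRes A).appTop.hom ((Scheme.ΓSpecIso (CommRingCat.of A)).inv.hom a) =
      (Scheme.ΓSpecIso (CommRingCat.of k)).inv.hom (A.res a) := by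
  have := Scheme.ΓSpecIso_inv_naturality (CommRingCat.ofHom A.res.toRingHom)
  exact (congrArg (fun m => m.hom a) this).symm

theorem app_map {Y Z : Scheme.{u}} (g : Y ⟶ Z) {U V : Z.Opens} (e : V ≤ U) (s : Γ(Z, U)) :
    (g.app V).hom ((Z.presheaf.map (homOfLE e).op).hom s) =
      (Y.presheaf.map (homOfLE (g.preimage_mono e)).op).hom ((g.app U).hom s) := by
  have := g.naturality (homOfLE e).op
  exact congr($this s)

theorem iota_rho (ξ : DefSch X x A) (W : ξ.total.Opens) (a : A) :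
    (ξ.i.app W).hom (rho ξ W a) = kap x (ξ.i ⁻¹ᵁ W) (A.res a) := by
  have h1 : (ξ.i.app W).hom (rho ξ W a) =
      (X.presheaf.map (homOfLE (ξ.i.preimage_mono (le_top : W ≤ ⊤))).op).hom
        ((ξ.i.app ⊤).hom (rhoTop ξ a)) := app_map ξ.i le_top _
  have h2 : ξ.f.appTop ≫ ξ.i.appTop = (specRes A).appTop ≫ x.appTop :=
    congrArg Scheme.Hom.appTop ξ.i_f
  have h3 : (ξ.i.app ⊤).hom (rhoTop ξ a) =
      x.appTop.hom ((specRes A).appTop.hom ((Scheme.ΓSpecIso (CommRingCat.of A)).inv.hom a)) :=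
    congrArg (fun m => m.hom ((Scheme.ΓSpecIso (CommRingCat.of A)).inv.hom a)) h2
  rw [h1, h3, specRes_appTop]
  rfl

theorem rho_flat (ξ : DefSch X x A) (W : ξ.total.Opens) (hW : IsAffineOpen W) :
    (rho ξ W).Flat := by
  have h1 : (ξ.f.appLE ⊤ W le_top).hom.Flat :=
    Flat.flat_appLE ξ.f (isAffineOpen_top _) hW le_top
  have h2 : rho ξ W = (ξ.f.appLE ⊤ W le_top).hom.comp
      (Scheme.ΓSpecIso (CommRingCat.of A)).inv.hom := rfl
  rw [h2]
  exact RingHom.Flat.comp (RingHom.Flat.of_bijective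
    (ConcreteCategory.bijective_of_isIso (Scheme.ΓSpecIso (CommRingCat.of A)).inv)) h1

theorem isClosedImmersion_i (ξ : DefSch X x A) : IsClosedImmersion ξ.i :=
  MorphismProperty.of_isPullback (P := @IsClosedImmersion) ξ.isPullback.flip inferInstance

theorem app_surj (ξ : DefSch X x A) (W : ξ.total.Opens) (hW : IsAffineOpen W) :
    Function.Surjective (ξ.i.app W).hom := by
  haveI := isClosedImmersion_i ξ
  exact ξ.i.app_surjective W hW

theorem isAffineOpen_preimage (ξ : DefSch X x A) (W : ξ.total.Opens) (hW : IsAffineOpen W) :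
    IsAffineOpen (ξ.i ⁻¹ᵁ W) := by
  haveI := isClosedImmersion_i ξ
  exact hW.preimage ξ.i

theorem ker_app (ξ : DefSch X x A) (W : ξ.total.Opens) (hW : IsAffineOpen W) :
    RingHom.ker (ξ.i.app W).hom = Ideal.map (rho ξ W) (RingHom.ker A.res.toRingHom) := by
  haveI := isClosedImmersion_i ξ
  have hU : IsAffineOpen (ξ.i ⁻¹ᵁ W) := hW.preimage ξ.i
  have P0 : IsPullback (ξ.i ∣_ W) (ξ.i ⁻¹ᵁ W).ι W.ι ξ.i := isPullback_morphismRestrict ξ.i W
  have hsq : Spec.map (ξ.i.app W) ≫ hW.fromSpec = hU.fromSpec ≫ ξ.i := by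
    have := hW.SpecMap_appLE_fromSpec ξ.i hU le_rfl
    rw [Scheme.Hom.appLE_eq_app] at this
    exact this
  have P1 : IsPullback (Spec.map (ξ.i.app W)) hU.fromSpec hW.fromSpec ξ.i := by
    refine P0.of_iso hU.isoSpec hW.isoSpec (Iso.refl _) (Iso.refl _) ?_ ?_ ?_ ?_
    · rw [← cancel_mono hW.fromSpec, Category.assoc, Category.assoc, hW.isoSpec_hom_fromSpec,
        morphismRestrict_ι, hsq, hU.isoSpec_hom_fromSpec_assoc]
    · rw [Iso.refl_hom, Category.comp_id, hU.isoSpec_hom_fromSpec]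
    · rw [Iso.refl_hom, Category.comp_id, hW.isoSpec_hom_fromSpec]
    · simp
  have P2 : IsPullback (Spec.map (ξ.i.app W)) (hU.fromSpec ≫ x) (hW.fromSpec ≫ ξ.f)
      (specRes A) := P1.paste_vert ξ.isPullback
  obtain ⟨kB, hkB⟩ := Spec.map_surjective (hU.fromSpec ≫ x)
  have hAB : Spec.map ((Scheme.ΓSpecIso (CommRingCat.of A)).inv ≫ ξ.f.appLE ⊤ W le_top) =
      hW.fromSpec ≫ ξ.f := by
    rw [Spec.map_comp, ← Scheme.isoSpec_Spec_inv, ← IsAffineOpen.fromSpec_top]
    exact (isAffineOpen_top _).SpecMap_appLE_fromSpec ξ.f hW le_top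
  have hpb : IsPullback (Spec.map (ξ.i.app W)) (Spec.map kB)
      (Spec.map ((Scheme.ΓSpecIso (CommRingCat.of A)).inv ≫ ξ.f.appLE ⊤ W le_top))
      (specRes A) := by
    rw [hkB, hAB]
    exact P2
  obtain ⟨-, hk⟩ := DefGl.ker_eq_of_isPullback A kB _ (ξ.i.app W) hpb
  exact hk

section Aut

variable (ξ : DefSch X x A) (φ : ξ.total ⟶ ξ.total) (hf : φ ≫ ξ.f = ξ.f) (hi : ξ.i ≫ φ = ξ.i)

include hi in
theorem apply_eq (t : ξ.total) : φ t = t := by
  obtain ⟨p, rfl⟩ := (DefGl.surjective_i ξ).surj t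
  have h1 : (ξ.i ≫ φ) p = ξ.i p := by rw [hi]
  exact h1

include hi in
theorem preimage_eq (W : ξ.total.Opens) : φ ⁻¹ᵁ W = W := by
  refine Opens.ext (Set.ext fun t => ?_)
  show φ t ∈ W ↔ t ∈ W
  rw [apply_eq ξ φ hi t]

/-- the action of the endomorphism on sections over `W`. -/
noncomputable def phiW (W : ξ.total.Opens) : Γ(ξ.total, W) →+* Γ(ξ.total, W) :=
  (φ.appLE W W (preimage_eq ξ φ hi W).ge).hom

include hf in
theorem phiW_rho (W : ξ.total.Opens) (a : A) : phiW ξ φ hi W (rho ξ W a) = rho ξ W a := by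
  have h1 : ξ.total.presheaf.map (homOfLE (le_top : W ≤ ⊤)).op ≫
      φ.appLE W W (preimage_eq ξ φ hi W).ge =
      φ.appTop ≫ ξ.total.presheaf.map (homOfLE (le_top : W ≤ ⊤)).op := by
    rw [Scheme.Hom.map_appLE]
    rfl
  have h2 : ξ.f.appTop ≫ φ.appTop = ξ.f.appTop := congrArg Scheme.Hom.appTop hf
  have h3 := congrArg (fun m => m.hom (rhoTop ξ a)) h1
  have h4 := congrArg (fun m => m.hom ((Scheme.ΓSpecIso (CommRingCat.of A)).inv.hom a)) h2
  exact h3.trans (congrArg (ξ.total.presheaf.map (homOfLE (le_top : W ≤ ⊤)).op).hom h4)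

theorem iota_phiW (W : ξ.total.Opens) (s : Γ(ξ.total, W)) :
    (ξ.i.app W).hom (phiW ξ φ hi W s) = (ξ.i.app W).hom s := by
  have h1 : φ.appLE W W (preimage_eq ξ φ hi W).ge ≫ ξ.i.app W = ξ.i.app W := by
    rw [← Scheme.Hom.appLE_eq_app ξ.i (U := W), Scheme.Hom.appLE_comp_appLE, appLE_of_eq hi]
  exact congrArg (fun m => m.hom s) h1

theorem phiW_map {W W' : ξ.total.Opens} (h : W' ≤ W) (s : Γ(ξ.total, W)) :
    phiW ξ φ hi W' ((ξ.total.presheaf.map (homOfLE h).op).hom s) =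
      (ξ.total.presheaf.map (homOfLE h).op).hom (phiW ξ φ hi W s) := by
  have h1 : ξ.total.presheaf.map (homOfLE h).op ≫ φ.appLE W' W' (preimage_eq ξ φ hi W').ge =
      φ.appLE W W (preimage_eq ξ φ hi W).ge ≫ ξ.total.presheaf.map (homOfLE h).op := by
    rw [Scheme.Hom.map_appLE, Scheme.Hom.appLE_map]
  exact congrArg (fun m => m.hom s) h1

/-- the chart of the deformation with its endomorphism on an affine open. -/
noncomputable def chart (W : ξ.total.Opens) (hW : IsAffineOpen W) :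
    Chart A Γ(ξ.total, W) Γ(X, ξ.i ⁻¹ᵁ W) where
  ρ := rho ξ W
  flat := rho_flat ξ W hW
  ι := (ξ.i.app W).hom
  surj := app_surj ξ W hW
  ker := by rw [ker_app ξ W hW, ker_res_eq]
  φ := phiW ξ φ hi W
  φρ := phiW_rho ξ φ hf hi W
  ιφ := iota_phiW ξ φ hi W

/-- `φ` is the identity as soon as it acts trivially on sections over affine opens. -/
theorem eq_id_of_phiW (h : ∀ (W : ξ.total.Opens), IsAffineOpen W → ∀ s, phiW ξ φ hi W s = s) :
    φ = 𝟙 ξ.total := by
  refine Scheme.hom_ext_of_forall _ _ fun t => ?_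
  obtain ⟨_, ⟨W, hW, rfl⟩, htW, -⟩ := ξ.total.isBasis_affineOpens.exists_subset_of_mem_open
    (Set.mem_univ t) isOpen_univ
  refine ⟨W, htW, ?_⟩
  rw [Category.comp_id]
  have h1 : φ.appLE W W (preimage_eq ξ φ hi W).ge = 𝟙 _ :=
    CommRingCat.hom_ext (RingHom.ext fun s => h W hW s)
  have h2 := hW.SpecMap_appLE_fromSpec φ hW (preimage_eq ξ φ hi W).ge
  rw [h1, Spec.map_id, Category.id_comp] at h2
  rw [← hW.isoSpec_hom_fromSpec, Category.assoc, ← h2]

end Aut

end Groth.Agent.Helper3.DerAut
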