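import Mathlib
import Groth.Prelude.Def_DeltaF
import Groth.Agent.Lib.Helper3.DeltaEff

set_option autoImplicit false
open CategoryTheory CategoryTheory.Limits

universe v u v' u'

namespace Groth.Agent.Helper3.DeltaIso

open DeltaF Groth.Agent.Helper3.DeltaEff

section Four

variable {B : Type u'} [Category.{v'} B] [Abelian B]

/-- a four-lemma variant: the induced map on "cokernels" is mono. -/
lemma mono_of_rows {P Q R P' Q' R' : B} (a : P ⟶ Q) (d : Q ⟶ R) (w : a ≫ d = 0)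
    (a' : P' ⟶ Q') (d' : Q' ⟶ R') (w' : a' ≫ d' = 0)
    (_h₁ : (ShortComplex.mk a d w).Exact) (h₂ : (ShortComplex.mk a' d' w').Exact)
    [Epi d] (p : P ⟶ P') (q : Q ⟶ Q') (r : R ⟶ R') [Epi p] [Mono q]
    (c₁ : a ≫ q = p ≫ a') (c₂ : d ≫ r = q ≫ d') : Mono r := by
  rw [Preadditive.mono_iff_cancel_zero]
  intro W x hx
  obtain ⟨W₁, π₁, hπ₁, y, hy⟩ := surjective_up_to_refinements_of_epi d x
  have hy' : (y ≫ q) ≫ d' = 0 := by
    rw [Category.assoc, ← c₂, ← reassoc_of% hy, hx, comp_zero]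
  obtain ⟨W₂, π₂, hπ₂, z', hz'⟩ := h₂.exact_up_to_refinements (y ≫ q) hy'
  dsimp at z' hz'
  obtain ⟨W₃, π₃, hπ₃, z, hz⟩ := surjective_up_to_refinements_of_epi p z'
  have h3 : z ≫ a = π₃ ≫ π₂ ≫ y := by
    rw [← cancel_mono q, Category.assoc, c₁, ← reassoc_of% hz, ← hz']
    simp only [Category.assoc]
  have h4 : (π₃ ≫ π₂ ≫ π₁) ≫ x = 0 := by
    have e : π₃ ≫ π₂ ≫ π₁ ≫ x = (π₃ ≫ π₂ ≫ y) ≫ d := by
      rw [hy]; simp only [Category.assoc]
    rw [Category.assoc, Category.assoc, e, ← h3, Category.assoc, w, comp_zero]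
  have : Epi (π₃ ≫ π₂ ≫ π₁) := epi_comp _ _
  rwa [← cancel_epi (π₃ ≫ π₂ ≫ π₁), comp_zero]

end Four

variable {A : Type u} [Category.{v} A] [Abelian A] {B : Type u'} [Category.{v'} B] [Abelian B]
variable (T T' : CohDeltaFunctor A B ℕ) (φ : T ⟶ T')

include φ in
lemma mono_app_succ (hT : T.IsEffaceable) (i : ℕ) (h : ∀ X, IsIso ((φ.app i).app X)) (X : A) :
    Mono ((φ.app (i + 1)).app X) := by
  obtain ⟨Y, u, hu, h0⟩ := hT i X
  have hS := sc_shortExact u
  have := epi_δ T i (sc u) hS h0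
  have := h Y
  have := h (cokernel u)
  exact mono_of_rows _ _ (T.comp_δ (sc u) hS i (i + 1) rfl) _ _ (T'.comp_δ (sc u) hS i (i + 1) rfl)
    (T.exact₃ (sc u) hS i (i + 1) rfl) (T'.exact₃ (sc u) hS i (i + 1) rfl)
    ((φ.app i).app Y) ((φ.app i).app (cokernel u)) ((φ.app (i + 1)).app X)
    ((φ.app i).naturality (cokernel.π u)) (φ.comm (sc u) hS i (i + 1) rfl)

include φ in
lemma epi_app_succ (i : ℕ) (h : ∀ X, Epi ((φ.app i).app X)) (X : A)
    (hX : ∃ (Y : A) (u : X ⟶ Y), Mono u ∧ (T'.F (i + 1)).map u = 0) :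
    Epi ((φ.app (i + 1)).app X) := by
  obtain ⟨Y, u, hu, h0⟩ := hX
  have hS := sc_shortExact u
  have := epi_δ T' i (sc u) hS h0
  have := h (cokernel u)
  have hc := φ.comm (sc u) hS i (i + 1) rfl
  have : Epi (T.δ (sc u) hS i (i + 1) rfl ≫ (φ.app (i + 1)).app X) := by
    rw [hc]; exact epi_comp _ _
  exact epi_of_epi (T.δ (sc u) hS i (i + 1) rfl) _


include φ in
/-- all components iso up to degree `n` and mono in degree `n+1`, from the inductive data. -/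
lemma isIso_app_of_step (hT : T.IsEffaceable) (n : ℕ)
    (h₀ : ∀ X, IsIso ((φ.app 0).app X))
    (hstep : ∀ i, i + 1 ≤ n → (∀ X, IsIso ((φ.app i).app X)) →
      ∀ X, Epi ((φ.app (i + 1)).app X)) :
    ∀ i, i ≤ n → ∀ X, IsIso ((φ.app i).app X) := by
  intro i
  induction i with
  | zero => intro _ X; exact h₀ X
  | succ i ih =>
    intro hi X
    have hi' : ∀ X, IsIso ((φ.app i).app X) := ih (by omega)
    have := mono_app_succ T T' φ hT i hi' X
    have := hstep i hi hi' X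
    exact isIso_of_mono_of_epi _

theorem main (hT : T.IsEffaceable) (n : ℕ) :
    ((∀ i : ℕ, i ≤ n → IsIso (φ.app i)) ∧ Mono (φ.app (n + 1)) ↔
      (Mono (φ.app 0) ∧ ∀ i : ℕ, i ≤ n → Epi (φ.app i))) ∧
    ((∀ i : ℕ, i ≤ n → IsIso (φ.app i)) ∧ Mono (φ.app (n + 1)) ↔
      (IsIso (φ.app 0) ∧ ∀ i : ℕ, 0 < i → i ≤ n → ∀ X : A,
        ∃ (Y : A) (u : X ⟶ Y), Mono u ∧ (T'.F i).map u = 0)) := by
  have key : ∀ (h₀ : ∀ X, IsIso ((φ.app 0).app X))
      (hstep : ∀ i, i + 1 ≤ n → (∀ X, IsIso ((φ.app i).app X)) →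
        ∀ X, Epi ((φ.app (i + 1)).app X)),
      (∀ i : ℕ, i ≤ n → IsIso (φ.app i)) ∧ Mono (φ.app (n + 1)) := by
    intro h₀ hstep
    have hall := isIso_app_of_step T T' φ hT n h₀ hstep
    refine ⟨fun i hi => ?_, ?_⟩
    · have := hall i hi
      exact NatIso.isIso_of_isIso_app _
    · rw [NatTrans.mono_iff_mono_app]
      intro X
      exact mono_app_succ T T' φ hT n (hall n le_rfl) X
  refine ⟨⟨?_, ?_⟩, ⟨?_, ?_⟩⟩
  · rintro ⟨h1, h2⟩
    refine ⟨?_, fun i hi => ?_⟩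
    · have := h1 0 (Nat.zero_le _); infer_instance
    · have := h1 i hi; infer_instance
  · rintro ⟨h1, h2⟩
    apply key
    · intro X
      have m : Mono ((φ.app 0).app X) := (NatTrans.mono_iff_mono_app _).1 h1 X
      have e : Epi ((φ.app 0).app X) := (NatTrans.epi_iff_epi_app _).1 (h2 0 (Nat.zero_le _)) X
      exact isIso_of_mono_of_epi _
    · intro i hi _ X
      exact (NatTrans.epi_iff_epi_app _).1 (h2 (i + 1) hi) X
  · rintro ⟨h1, h2⟩
    refine ⟨h1 0 (Nat.zero_le _), fun i hi0 hin X => ?_⟩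
    obtain ⟨j, rfl⟩ : ∃ j, i = j + 1 := ⟨i - 1, by omega⟩
    obtain ⟨Y, u, hu, hu0⟩ := hT j X
    refine ⟨Y, u, hu, ?_⟩
    have := h1 (j + 1) hin
    have nat := (φ.app (j + 1)).naturality u
    rw [hu0, zero_comp] at nat
    have hX : IsIso ((φ.app (j + 1)).app X) := inferInstance
    rw [← cancel_epi ((φ.app (j + 1)).app X), ← nat, comp_zero]
  · rintro ⟨h1, h2⟩
    apply key
    · intro X; infer_instance
    · intro i hi hiso X
      refine epi_app_succ T T' φ i (fun Z => ?_) X (h2 (i + 1) (Nat.succ_pos _) hi X)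
      have := hiso Z
      infer_instance

end Groth.Agent.Helper3.DeltaIso
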