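import Mathlib

/-!
# Immersions detected on a cover by dense opens (helper3)

A separated morphism which restricts to an immersion on each member of a cover by dense open
subschemes is an immersion.
-/

set_option autoImplicit false
universe u

namespace Groth.Agent.Helper3.DenseImm

open AlgebraicGeometry CategoryTheory CategoryTheory.Limits TopologicalSpace Topology

section Top

variable {X Y : Type*} [TopologicalSpace X] [TopologicalSpace Y]

/-- A locally closed set is the intersection of an open set with its closure. -/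
theorem exists_open_inter_closure {A : Set Y} (hA : IsLocallyClosed A) :
    ∃ O : Set Y, IsOpen O ∧ A = O ∩ closure A := by
  obtain ⟨O, F, hO, hF, rfl⟩ := hA
  refine ⟨O, hO, ?_⟩
  apply subset_antisymm
  · exact fun x hx => ⟨hx.1, subset_closure hx⟩
  · rintro x ⟨hxO, hxc⟩
    refine ⟨hxO, ?_⟩
    exact (closure_minimal Set.inter_subset_right hF) hxc

/-- Topological core. -/
theorem isEmbedding_and_isLocallyClosed {ι : Type*} (f : X → Y) (hf : Continuous f)
    (hinj : Function.Injective f) (U : ι → Set X) (hUo : ∀ i, IsOpen (U i))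
    (hU : ⋃ i, U i = Set.univ) (hd : ∀ i, Dense (U i))
    (hemb : ∀ i, IsEmbedding (fun x : U i => f x.1))
    (hlc : ∀ i, IsLocallyClosed (f '' U i)) :
    IsEmbedding f ∧ IsLocallyClosed (Set.range f) := by
  set T := closure (Set.range f) with hT
  have hcl : ∀ i, closure (f '' U i) = T := by
    intro i
    apply subset_antisymm
    · exact closure_mono (Set.image_subset_range _ _)
    · apply closure_minimal _ isClosed_closure
      rintro _ ⟨x, rfl⟩
      have : x ∈ closure (U i) := by rw [(hd i).closure_eq]; trivial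
      exact image_closure_subset_closure_image hf ⟨x, this, rfl⟩
  have hO : ∀ i, ∃ O : Set Y, IsOpen O ∧ f '' U i = O ∩ T := by
    intro i
    obtain ⟨O, hO, h⟩ := exists_open_inter_closure (hlc i)
    exact ⟨O, hO, by rw [hcl i] at h; exact h⟩
  choose O hOo hOe using hO
  have hpre : ∀ i, f ⁻¹' (O i) = U i := by
    intro i
    have h1 : f ⁻¹' (O i) = f ⁻¹' (O i ∩ T) := by
      ext x
      simp only [Set.mem_preimage, Set.mem_inter_iff, iff_self_and]
      intro _
      exact subset_closure ⟨x, rfl⟩
    rw [h1, ← hOe i, Set.preimage_image_eq _ hinj]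
  have hrange : Set.range f = (⋃ i, O i) ∩ T := by
    rw [Set.iUnion_inter]
    simp_rw [← hOe]
    rw [← Set.image_iUnion, hU, Set.image_univ]
  refine ⟨⟨⟨?_⟩, hinj⟩, ?_⟩
  · apply le_antisymm hf.le_induced
    intro W hW
    rw [isOpen_induced_iff]
    have hV : ∀ i, ∃ V : Set Y, IsOpen V ∧ f ⁻¹' V ∩ U i = W ∩ U i := by
      intro i
      have h1 : IsOpen ((Subtype.val : U i → X) ⁻¹' W) := hW.preimage continuous_subtype_val
      rw [(hemb i).isInducing.isOpen_iff] at h1
      obtain ⟨V, hV, hVe⟩ := h1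
      refine ⟨V, hV, ?_⟩
      ext x
      constructor
      · rintro ⟨hx1, hx2⟩
        have : (⟨x, hx2⟩ : U i) ∈ (fun x : U i => f x.1) ⁻¹' V := hx1
        rw [hVe] at this
        exact ⟨this, hx2⟩
      · rintro ⟨hx1, hx2⟩
        have : (⟨x, hx2⟩ : U i) ∈ (Subtype.val : U i → X) ⁻¹' W := hx1
        rw [← hVe] at this
        exact ⟨this, hx2⟩
    choose V hVo hVe using hV
    refine ⟨⋃ i, V i ∩ O i, isOpen_iUnion fun i => (hVo i).inter (hOo i), ?_⟩
    rw [Set.preimage_iUnion]
    simp_rw [Set.preimage_inter, hpre, hVe]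
    rw [← Set.inter_iUnion, hU, Set.inter_univ]
  · rw [hrange]
    exact (isOpen_iUnion hOo).isLocallyClosed.inter isClosed_closure.isLocallyClosed

end Top

section Sch

variable {X Y : Scheme.{u}}

/-- Two maps `a b : P ⟶ X` over a separated `f : X ⟶ Y` which agree on a morphism with dense
range agree on points. -/
theorem apply_eq_of_dense {P W : Scheme.{u}} (f : X ⟶ Y) [IsSeparated f] (a b : P ⟶ X)
    (hab : a ≫ f = b ≫ f) (w : W ⟶ P) (hw : w ≫ a = w ≫ b) (hd : DenseRange w) (z : P) :
    a z = b z := by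
  let P' : Over Y := Over.mk (a ≫ f)
  let X' : Over Y := Over.mk f
  let W' : Over Y := Over.mk (w ≫ a ≫ f)
  let a' : P' ⟶ X' := Over.homMk a
  let b' : P' ⟶ X' := Over.homMk b hab.symm
  let w' : W' ⟶ P' := Over.homMk w
  haveI : IsSeparated X'.hom := ‹_›
  have hw' : w' ≫ a' = w' ≫ b' := by ext1; exact hw
  have hfac : (equalizer.lift w' hw').left ≫ (equalizer.ι a' b').left = w := by
    rw [← Over.comp_left, equalizer.lift_ι]; rfl
  have hsurj : Function.Surjective (equalizer.ι a' b').left := by
    have hcl : IsClosed (Set.range (equalizer.ι a' b').left) :=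
      (Scheme.Hom.isClosedEmbedding _).isClosed_range
    have hdense : Dense (Set.range (equalizer.ι a' b').left) := by
      refine hd.mono ?_
      rw [← hfac]
      rintro _ ⟨x, rfl⟩
      exact ⟨(equalizer.lift w' hw').left x, by simp⟩
    intro z
    have : z ∈ Set.range (equalizer.ι a' b').left := by
      rw [← hcl.closure_eq, hdense.closure_eq]; trivial
    exact this
  obtain ⟨t, rfl⟩ := hsurj z
  have hc : (equalizer.ι a' b').left ≫ a = (equalizer.ι a' b').left ≫ b :=
    congr($(equalizer.condition a' b').left)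
  rw [← Scheme.Hom.comp_apply, ← Scheme.Hom.comp_apply, hc]

theorem injective_of_dense_cover (f : X ⟶ Y) [IsSeparated f] {ι : Type u} (U : ι → X.Opens)
    (hU : ⨆ i, U i = ⊤) (hd : ∀ i, Dense (U i : Set X))
    (h : ∀ i, IsImmersion ((U i).ι ≫ f)) : Function.Injective f := by
  intro x x' hxx'
  have hx : x ∈ (⨆ i, U i) := hU ▸ trivial
  have hx' : x' ∈ (⨆ i, U i) := hU ▸ trivial
  obtain ⟨i, hi⟩ := Opens.mem_iSup.mp hx
  obtain ⟨j, hj⟩ := Opens.mem_iSup.mp hx'
  haveI := h i
  haveI := h j
  let fi := (U i).ι ≫ f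
  let fj := (U j).ι ≫ f
  have he : fi ⟨x, hi⟩ = fj ⟨x', hj⟩ := by
    simpa [fi, fj] using hxx'
  obtain ⟨z, hz1, hz2⟩ := Scheme.Pullback.exists_preimage_pullback (f := fi) (g := fj) _ _ he
  let a : pullback fi fj ⟶ X := pullback.fst fi fj ≫ (U i).ι
  let b : pullback fi fj ⟶ X := pullback.snd fi fj ≫ (U j).ι
  have hab : a ≫ f = b ≫ f := by
    simp only [a, b, Category.assoc]
    exact pullback.condition
  let w : (U i ⊓ U j).toScheme ⟶ pullback fi fj :=
    pullback.lift (X.homOfLE inf_le_left) (X.homOfLE inf_le_right) (by simp [fi, fj])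
  have hwa : w ≫ a = (U i ⊓ U j).ι := by
    simp only [w, a]
    rw [pullback.lift_fst_assoc, Scheme.homOfLE_ι]
  have hwb : w ≫ b = (U i ⊓ U j).ι := by
    simp only [w, b]
    rw [pullback.lift_snd_assoc, Scheme.homOfLE_ι]
  have hdw : DenseRange w := by
    have hemb : IsEmbedding (pullback.fst fi fj) := (pullback.fst fi fj).isEmbedding
    rw [DenseRange, hemb.isInducing.dense_iff]
    intro y
    rw [← Set.range_comp]
    have hwf : w ≫ pullback.fst fi fj = X.homOfLE (inf_le_left : U i ⊓ U j ≤ U i) :=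
      pullback.lift_fst _ _ _
    have h1 : (pullback.fst fi fj : _ → _) ∘ (w : _ → _) =
        (X.homOfLE (inf_le_left : U i ⊓ U j ≤ U i)) := by
      ext1 t
      rw [Function.comp_apply, ← Scheme.Hom.comp_apply, hwf]
    rw [h1]
    have h2 : Dense ((Subtype.val : (U i) → X) ⁻¹' (U j : Set X)) :=
      (hd j).preimage (U i).2.isOpenMap_subtype_val
    have h3 : (Subtype.val : (U i) → X) ⁻¹' (U j : Set X) ⊆
        Set.range (X.homOfLE (inf_le_left : U i ⊓ U j ≤ U i)) := by
      rintro ⟨t, ht⟩ ht'
      exact ⟨⟨t, ht, ht'⟩, Scheme.homOfLE_apply' _ _ _⟩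
    exact (h2.mono h3) _
  have key := apply_eq_of_dense f a b hab w (hwa.trans hwb.symm) hdw z
  simp only [a, b, Scheme.Hom.comp_apply, hz1, hz2] at key
  exact key

theorem S10878_main (f : X ⟶ Y) [IsSeparated f] {ι : Type u} (U : ι → X.Opens)
    (hU : ⨆ i, U i = ⊤) (hd : ∀ i, Dense (U i : Set X))
    (h : ∀ i, IsImmersion ((U i).ι ≫ f)) : IsImmersion f := by
  have hinj := injective_of_dense_cover f U hU hd h
  have hfun : ∀ i, (((U i).ι ≫ f : (U i).toScheme ⟶ Y) : (U i) → Y) = fun x : U i => f x.1 := by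
    intro i
    ext1 x
    rw [Scheme.Hom.comp_apply]
    rfl
  have hcov : ⋃ i, (U i : Set X) = Set.univ := by
    have := congrArg (fun V : X.Opens => (V : Set X)) hU
    simpa using this
  have htop := isEmbedding_and_isLocallyClosed (f : X → Y) f.continuous hinj
    (fun i => (U i : Set X)) (fun i => (U i).2) hcov hd
    (fun i => by
      haveI := h i
      have := ((U i).ι ≫ f).isEmbedding
      rw [hfun i] at this
      exact this)
    (fun i => by
      haveI := h i
      have := ((U i).ι ≫ f).isLocallyClosed_range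
      rw [hfun i] at this
      convert this using 1
      ext y
      constructor
      · rintro ⟨x, hx, rfl⟩
        exact ⟨⟨x, hx⟩, rfl⟩
      · rintro ⟨⟨x, hx⟩, rfl⟩
        exact ⟨x, hx, rfl⟩)
  haveI : SurjectiveOnStalks f :=
    IsZariskiLocalAtSource.of_iSup_eq_top U hU (fun i => by haveI := h i; infer_instance)
  exact { isEmbedding := htop.1, isLocallyClosed_range := htop.2 }

end Sch

end Groth.Agent.Helper3.DenseImm
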