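import Mathlib
import Groth.Agent.Lib.Lead.DefoIso

/-! Generalities for lifting flat deformations of presented algebras (helper3). -/

set_option autoImplicit false
set_option linter.style.haveILetI false
universe u

namespace Groth.Agent.Helper3.T2Lift

section Nak

variable {S M : Type*} [CommRing S] [AddCommGroup M] [Module S M]

theorem le_sup_pow_smul (I : Ideal S) (N N' : Submodule S M) (h : N ≤ N' ⊔ I • N) (n : ℕ) :
    N ≤ N' ⊔ I ^ n • N := by
  induction n with
  | zero =>
    rw [pow_zero, Ideal.one_eq_top, Submodule.top_smul]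
    exact le_sup_right
  | succ n ih =>
    calc N ≤ N' ⊔ I • N := h
      _ ≤ N' ⊔ I • (N' ⊔ I ^ n • N) := sup_le_sup_left (Submodule.smul_mono le_rfl ih) N'
      _ ≤ N' ⊔ I ^ (n + 1) • N := by
          rw [Submodule.smul_sup, ← Submodule.mul_smul, ← pow_succ']
          exact sup_le le_sup_left
            (sup_le (Submodule.smul_le_right.trans le_sup_left) le_sup_right)

/-- Nakayama for a nilpotent ideal, no finiteness. -/
theorem le_of_le_sup_smul_of_nilpotent (I : Ideal S) (hI : IsNilpotent I) (N N' : Submodule S M)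
    (h : N ≤ N' ⊔ I • N) : N ≤ N' := by
  obtain ⟨n, hn⟩ := hI
  have := le_sup_pow_smul I N N' h n
  rwa [hn, Ideal.zero_eq_bot, Submodule.bot_smul, sup_bot_eq] at this

end Nak

section Retract

variable {A M Pj : Type*} [CommRing A] [AddCommGroup M] [Module A M] [AddCommGroup Pj]
  [Module A Pj]

theorem ker_retract [Module.Projective A Pj] (ψ : M →ₗ[A] Pj) (hψ : Function.Surjective ψ) :
    ∃ r : M →ₗ[A] M, (∀ x, ψ (r x) = 0) ∧ ∀ x, ψ x = 0 → r x = x := by
  obtain ⟨t, ht⟩ := Module.projective_lifting_property ψ LinearMap.id hψ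
  refine ⟨LinearMap.id - t ∘ₗ ψ, fun x => ?_, fun x hx => ?_⟩
  · have h1 : ψ (t (ψ x)) = ψ x := LinearMap.congr_fun ht (ψ x)
    simp only [LinearMap.sub_apply, LinearMap.id_apply, LinearMap.comp_apply, map_sub]
    rw [h1, sub_self]
  · simp only [LinearMap.sub_apply, LinearMap.id_apply, LinearMap.comp_apply]
    rw [hx, map_zero, sub_zero]

theorem smul_top_inf_ker_le [Module.Projective A Pj] (ψ : M →ₗ[A] Pj)
    (hψ : Function.Surjective ψ) (𝔞 : Ideal A) :
    𝔞 • (⊤ : Submodule A M) ⊓ LinearMap.ker ψ ≤ 𝔞 • LinearMap.ker ψ := by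
  obtain ⟨r, hr1, hr2⟩ := ker_retract ψ hψ
  rintro x ⟨hx1, hx2⟩
  have hx : r x = x := hr2 x hx2
  rw [← hx]
  have h1 : r x ∈ Submodule.map r (𝔞 • ⊤) := Submodule.mem_map_of_mem hx1
  rw [Submodule.map_smul''] at h1
  refine Submodule.smul_mono le_rfl ?_ h1
  rintro _ ⟨y, -, rfl⟩
  exact hr1 y

theorem ker_projective [Module.Projective A M] [Module.Projective A Pj] (ψ : M →ₗ[A] Pj)
    (hψ : Function.Surjective ψ) : Module.Projective A (LinearMap.ker ψ) := by
  obtain ⟨r, hr1, hr2⟩ := ker_retract ψ hψ
  refine Module.Projective.of_split (LinearMap.ker ψ).subtype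
    (r.codRestrict (LinearMap.ker ψ) hr1) ?_
  ext x
  exact hr2 x x.2

end Retract

section Fs

theorem finsupp_mem_smul_top {A Λ : Type*} [CommRing A] (𝔞 : Ideal A) (x : Λ →₀ A)
    (h : ∀ l, x l ∈ 𝔞) : x ∈ 𝔞 • (⊤ : Submodule A (Λ →₀ A)) := by
  rw [← Finsupp.sum_single x]
  refine Submodule.sum_mem _ fun l _ => ?_
  rw [← Finsupp.smul_single_one]
  exact Submodule.smul_mem_smul (h l) Submodule.mem_top

/-- compatibility of linear combinations with a ring map -/
theorem lc_map {σ S T : Type*} [CommRing S] [CommRing T] (φ : S →+* T) (FS : σ → S) (FT : σ → T)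
    (h : ∀ s, φ (FS s) = FT s) (ρ : σ →₀ S) :
    φ (Finsupp.linearCombination S FS ρ) =
      Finsupp.linearCombination T FT (Finsupp.mapRange φ (map_zero φ) ρ) := by
  induction ρ using Finsupp.induction_linear with
  | zero => simp
  | add x y hx hy =>
    rw [map_add, map_add, hx, hy, Finsupp.mapRange_add (map_add φ), map_add]
  | single s r =>
    rw [Finsupp.mapRange_single, Finsupp.linearCombination_single,
      Finsupp.linearCombination_single, smul_eq_mul, smul_eq_mul, map_mul, h]

theorem isNilpotent_map_C {A ι : Type*} [CommRing A] (𝔞 : Ideal A) (h : IsNilpotent 𝔞) :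
    IsNilpotent (Ideal.map (MvPolynomial.C : A →+* MvPolynomial ι A) 𝔞) := by
  obtain ⟨n, hn⟩ := h
  exact ⟨n, by rw [← Ideal.map_pow, hn, Ideal.zero_eq_bot, Ideal.map_bot]; rfl⟩

end Fs

section Basis

variable {k : Type u} [Field k] {B₀ : Type u} [CommRing B₀] [Algebra k B₀]
  {A : Type u} [CommRing A] [Algebra k A] (e : A →ₐ[k] k)
  {B : Type u} [CommRing B] [Algebra A B] (ι₀ : B →+* B₀)

theorem iota_lc {Λ : Type u} (bas : Module.Basis Λ k B₀)
    (hcomp : ∀ a, ι₀ (algebraMap A B a) = algebraMap k B₀ (e a))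
    (E : Λ → B) (hE : ∀ l, ι₀ (E l) = bas l) (x : Λ →₀ A) :
    ι₀ (Finsupp.linearCombination A E x) =
      Finsupp.linearCombination k bas (Finsupp.mapRange e (map_zero e) x) := by
  induction x using Finsupp.induction_linear with
  | zero => simp
  | add x y hx hy =>
    rw [map_add, map_add, hx, hy, Finsupp.mapRange_add (map_add e), map_add]
  | single s r =>
    rw [Finsupp.mapRange_single, Finsupp.linearCombination_single,
      Finsupp.linearCombination_single, Algebra.smul_def, map_mul, hcomp, hE, Algebra.smul_def]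

theorem mapRange_e_algebraMap {Λ : Type*} (r : Λ →₀ k) :
    Finsupp.mapRange e (map_zero e)
      (Finsupp.mapRange (algebraMap k A) (map_zero _) r) = r := by
  ext l
  simp

/-- a lift of a basis of the closed fibre is a basis of a flat module over a nilpotent
thickening -/
theorem basis_lift_bijective [Module.Flat A B] (hnil : IsNilpotent (RingHom.ker e))
    (hker : RingHom.ker ι₀ = Ideal.map (algebraMap A B) (RingHom.ker e))
    (hcomp : ∀ a, ι₀ (algebraMap A B a) = algebraMap k B₀ (e a))
    {Λ : Type u} (bas : Module.Basis Λ k B₀) (E : Λ → B) (hE : ∀ l, ι₀ (E l) = bas l) :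
    Function.Bijective (Finsupp.linearCombination A E) := by
  apply Groth.Agent.Lead.DefoIso.bijective_of_flat_of_nilpotent (RingHom.ker e) hnil
  · intro y
    refine ⟨Finsupp.mapRange (algebraMap k A) (map_zero _) (bas.repr (ι₀ y)), ?_⟩
    rw [Ideal.smul_top_eq_map]
    show _ ∈ Ideal.map (algebraMap A B) (RingHom.ker e)
    rw [← hker, RingHom.mem_ker, map_sub, iota_lc e ι₀ bas hcomp E hE, mapRange_e_algebraMap,
      Module.Basis.linearCombination_repr, sub_self]
  · intro x hx
    apply finsupp_mem_smul_top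
    intro l
    have h1 : Finsupp.linearCombination k bas (Finsupp.mapRange e (map_zero e) x) = 0 := by
      rw [← iota_lc e ι₀ bas hcomp E hE, hx, map_zero]
    have h2 : Finsupp.mapRange e (map_zero e) x = 0 :=
      (linearIndependent_iff.mp bas.linearIndependent) _ h1
    have h3 := DFunLike.congr_fun h2 l
    rw [Finsupp.mapRange_apply, Finsupp.zero_apply] at h3
    exact h3

theorem projective_of_flat [Module.Flat A B] (hnil : IsNilpotent (RingHom.ker e))
    (hι : Function.Surjective ι₀)
    (hker : RingHom.ker ι₀ = Ideal.map (algebraMap A B) (RingHom.ker e))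
    (hcomp : ∀ a, ι₀ (algebraMap A B a) = algebraMap k B₀ (e a)) : Module.Projective A B := by
  obtain ⟨⟨Λ, bas⟩⟩ := Module.Free.exists_basis (R := k) (M := B₀)
  choose E hE using fun l => hι (bas l)
  have hb := basis_lift_bijective e ι₀ hnil hker hcomp bas E hE
  exact Module.Projective.of_equiv' (LinearEquiv.ofBijective _ hb)

end Basis

end Groth.Agent.Helper3.T2Lift
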