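import Mathlib
import Groth.Prelude.Def_ArtFun4
import Groth.Prelude.Def_Omega4
import Groth.Agent.Lib.Lead.DerU1
import Groth.Agent.Lib.Lead.OmU1
import Groth.Agent.Lib.Helper3.LH2
import Groth.Agent.Lib.Helper3.DerAutC

/-! If the trivial deformation of `X` over the dual numbers has no nontrivial automorphism,
then every `k`-derivation of `O_X` vanishes (helper3). -/

set_option autoImplicit false
set_option linter.style.haveILetI false
universe u
open CategoryTheory CategoryTheory.Limits AlgebraicGeometry TopologicalSpace Opposite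

set_option backward.isDefEq.respectTransparency.types false

namespace Groth.Agent.Helper3.DerAut

open ArtFun ArtFun.Art OmegaSh Groth.Agent.Lead.DerU

theorem Chart.iota_eq_zero' {A : Type u} [CommRing A] [IsLocalRing A] {B R : Type u}
    [CommRing B] [CommRing R] (c : Chart A B R) (J' : Ideal A) (t : A) (ht : t ∉ J') (b : B)
    (h : c.ρ t * b ∈ Ideal.map c.ρ J') : c.ι b = 0 := by
  letI : Algebra A B := c.ρ.toAlgebra
  haveI : Module.Flat A B := c.flat
  have h1 : t • b ∈ J' • (⊤ : Submodule A B) := by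
    rw [Ideal.smul_top_eq_map]
    show t • b ∈ Ideal.map c.ρ J'
    rw [Algebra.smul_def]
    exact h
  have h2 := mem_of_smul_mem J' t ht b h1
  rw [Ideal.smul_top_eq_map] at h2
  have h3 : b ∈ Ideal.map c.ρ (IsLocalRing.maximalIdeal A) := h2
  rw [← c.ker] at h3
  exact h3

section General

variable {Λ : Type u} {k : Type u} [CommRing Λ] [Field k] [Algebra Λ k]
variable {X : Scheme.{u}} {x : X ⟶ specPt k} {A : Art Λ k}

theorem iotaTop_rhoTop (ξ : DefSch X x A) (a : A) :
    ξ.i.appTop.hom (rhoTop ξ a) = kapTop x (A.res a) := by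
  have h2 : ξ.f.appTop ≫ ξ.i.appTop = (specRes A).appTop ≫ x.appTop :=
    congrArg Scheme.Hom.appTop ξ.i_f
  have h3 := congrArg (fun m => m.hom ((Scheme.ΓSpecIso (CommRingCat.of A)).inv.hom a)) h2
  exact h3.trans (congrArg x.appTop.hom (specRes_appTop A a))

end General

section Triv

variable {k : Type u} [Field k] {X : Scheme.{u}} (x : X ⟶ specPt k)
  (D : Der x (Coh.structureModule X))

/-- a derivation of `O_X` into itself, as endomorphisms of the section rings. -/
noncomputable def dfun (U : X.Opens) : Γ(X, U) →+ Γ(X, U) := (fnSect X U).comp (D.app U)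

theorem dfun_mul (U : X.Opens) (a b : Γ(X, U)) :
    dfun x D U (a * b) = a * dfun x D U b + b * dfun x D U a :=
  congrArg (fnSect X U) (der_mul D U a b)

theorem dfun_map (U V : X.Opens) (h : V ≤ U) (s : Γ(X, U)) :
    dfun x D V ((X.presheaf.map (homOfLE h).op).hom s) =
      (X.presheaf.map (homOfLE h).op).hom (dfun x D U s) :=
  congrArg (fnSect X V) (der_map D h s)

theorem dfun_kill (c : Γ(specPt k, ⊤)) : dfun x D ⊤ (x.appTop.hom c) = 0 :=
  (congrArg (fnSect X ⊤) (der_app D ⊤ c)).trans (map_zero _)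

/-- `ε` in the dual numbers as an object of `Art k k`. -/
def eps1 : (Art.dual k k : Art k k) := (DualNumber.eps : DualNumber k)

theorem eps1_mul : (eps1 : (Art.dual k k : Art k k)) * eps1 = 0 :=
  DualNumber.eps_mul_eps

theorem res_eps1 : (Art.dual k k : Art k k).res eps1 = 0 := rfl

theorem eps1_ne_zero : (eps1 : (Art.dual k k : Art k k)) ≠ 0 := by
  intro h
  have h1 := congrArg TrivSqZeroExt.snd h
  exact one_ne_zero (α := k) h1

/-- the trivial deformation over the dual numbers. -/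
noncomputable def triv : DefSch X x (Art.dual k k) :=
  DefSch.trivial X x (LH.flat_to_field x) (Art.dual k k)

/-- its projection to `X`. -/
noncomputable def tfst : (triv x).total ⟶ X :=
  pullback.fst x (specMap (ofBase (Art.dual k k)))

theorem triv_i_fst : (triv x).i ≫ tfst x = 𝟙 X := pullback.lift_fst _ _ _

theorem tfst_cond : tfst x ≫ x = (triv x).f ≫ specMap (ofBase (Art.dual k k)) :=
  pullback.condition

theorem tfst_i_apply (p : X) : tfst x ((triv x).i p) = p := by
  have h1 : ((triv x).i ≫ tfst x) p = p := by rw [triv_i_fst]; rfl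
  exact h1

theorem der_eq_zero_of_aut_trivial
    (H : ∀ e : (triv x).Iso (triv x), e.iso.hom = 𝟙 (triv x).total)
    (U : X.Opens) (s : Γ(X, U)) : D.app U s = 0 := by
  obtain ⟨ξ, hξ⟩ : ∃ ξ : DefSch X x (Art.dual k k), ξ = triv x := ⟨_, rfl⟩
  obtain ⟨η, hηdef⟩ : ∃ η : Γ((triv x).total, ⊤), η = rhoTop (triv x) eps1 := ⟨_, rfl⟩
  have hη : η * η = 0 := by rw [hηdef, ← map_mul, eps1_mul, map_zero]
  obtain ⟨φ, hφdef⟩ : ∃ φ : (triv x).total ⟶ X,
      φ = twHom (tfst x) η hη (dfun x D) (dfun_mul x D) (dfun_map x D) := ⟨_, rfl⟩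
  have ha : φ ≫ x = tfst x ≫ x := by
    rw [hφdef]
    exact twHom_comp (tfst x) η hη _ _ _ x (dfun_kill x D)
  have hj : (triv x).i.appTop.hom η = 0 := by
    rw [hηdef, iotaTop_rhoTop, res_eps1, map_zero]
  have hb : (triv x).i ≫ φ = (triv x).i ≫ tfst x := by
    rw [hφdef]
    exact comp_twHom (tfst x) η hη _ _ _ (triv x).i hj
  have hcond : φ ≫ x = (triv x).f ≫ specMap (ofBase (Art.dual k k)) :=
    ha.trans (tfst_cond x)
  obtain ⟨ψ, hψdef⟩ : ∃ ψ : (triv x).total ⟶ (triv x).total,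
      ψ = pullback.lift φ (triv x).f hcond := ⟨_, rfl⟩
  have hψf : ψ ≫ (triv x).f = (triv x).f := by
    rw [hψdef]; exact pullback.lift_snd _ _ _
  have hψfst : ψ ≫ tfst x = φ := by
    rw [hψdef]; exact pullback.lift_fst _ _ _
  have hψi : (triv x).i ≫ ψ = (triv x).i := by
    refine pullback.hom_ext ?_ ?_
    · have : ((triv x).i ≫ ψ) ≫ tfst x = (triv x).i ≫ tfst x := by
        rw [Category.assoc, hψfst]; exact hb
      exact this
    · have : ((triv x).i ≫ ψ) ≫ (triv x).f = (triv x).i ≫ (triv x).f := by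
        rw [Category.assoc, hψf]
      exact this
  haveI : IsIso ψ := DefGl.isIso_of_hom (triv x) (triv x) ψ hψf hψi
  have hψ1 : ψ = 𝟙 _ := H ⟨asIso ψ, hψf, hψi⟩
  have hφ : φ = tfst x := by rw [← hψfst, hψ1, Category.id_comp]
  have hz : ∀ (U' : X.Opens) (s' : Γ(X, U')),
      etaR η (tfst x ⁻¹ᵁ U') * ((tfst x).app U').hom (dfun x D U' s') = 0 := by
    intro U' s'
    refine eta_mul_eq_zero_of_twHom_eq (tfst x) η hη (dfun x D) (dfun_mul x D) (dfun_map x D)
      ?_ U' s'
    rw [← hφdef]; exact hφ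
  -- local analysis
  apply Groth.Agent.Lead.OmU.section_ext (Coh.structureModule X)
  intro p hp
  have hmem : (triv x).i p ∈ tfst x ⁻¹ᵁ U := by
    show tfst x ((triv x).i p) ∈ U
    rw [tfst_i_apply]; exact hp
  obtain ⟨_, ⟨W, hW, rfl⟩, hpW, hWle⟩ :=
    (triv x).total.isBasis_affineOpens.exists_subset_of_mem_open hmem (tfst x ⁻¹ᵁ U).isOpen
  have hWle' : W ≤ tfst x ⁻¹ᵁ U := hWle
  have hVU : (triv x).i ⁻¹ᵁ W ≤ U := by
    intro q hq
    have h1 : tfst x ((triv x).i q) ∈ U := hWle hq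
    rwa [tfst_i_apply] at h1
  refine ⟨(triv x).i ⁻¹ᵁ W, hVU, hpW, ?_⟩
  rw [map_zero]
  show (X.presheaf.map (homOfLE hVU).op).hom (dfun x D U s) = 0
  obtain ⟨c, hc⟩ : ∃ c : Chart (Art.dual k k : Art k k) Γ((triv x).total, W)
      Γ(X, (triv x).i ⁻¹ᵁ W), c = chart (triv x) (𝟙 _) (Category.id_comp _)
        (Category.comp_id _) W hW := ⟨_, rfl⟩
  have hcρ : c.ρ = rho (triv x) W := by rw [hc]; rfl
  have hcι : c.ι = ((triv x).i.app W).hom := by rw [hc]; rfl
  have hb0 : c.ρ eps1 * ((tfst x).appLE U W hWle').hom (dfun x D U s) = 0 := by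
    have h1 : c.ρ eps1 = ((triv x).total.presheaf.map (homOfLE hWle').op).hom
        (etaR η (tfst x ⁻¹ᵁ U)) := by
      rw [etaR_map, hcρ, hηdef]
      rfl
    have h2 : ((tfst x).appLE U W hWle').hom (dfun x D U s) =
        ((triv x).total.presheaf.map (homOfLE hWle').op).hom
          (((tfst x).app U).hom (dfun x D U s)) := rfl
    rw [h1, h2, ← map_mul, hz, map_zero]
  have hιb : c.ι (((tfst x).appLE U W hWle').hom (dfun x D U s)) = 0 := by
    refine Chart.iota_eq_zero' c ⊥ eps1 ?_ _ ?_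
    · rw [Ideal.mem_bot]; exact eps1_ne_zero
    · rw [hb0]; exact Ideal.zero_mem _
  rw [hcι] at hιb
  have h5 : (tfst x).appLE U W hWle' ≫ (triv x).i.app W =
      X.presheaf.map (homOfLE hVU).op := by
    rw [← Scheme.Hom.appLE_eq_app (triv x).i (U := W), Scheme.Hom.appLE_comp_appLE,
      appLE_of_eq (triv_i_fst x)]
    exact Category.id_comp _
  exact (congrArg (fun m => m.hom (dfun x D U s)) h5).symm.trans hιb

end Triv

end Groth.Agent.Helper3.DerAut
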