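import Mathlib
import Groth.Agent.Lib.Helper3.DerNak
import Groth.Agent.Lib.Helper3.PcDer

/-!
# Lifting complexes modulo a nilpotent ideal, for arbitrary objects of the derived category
-/

namespace Groth.Agent.Helper3.DerNak

open CategoryTheory Limits DerivedCategory Groth.Agent.Helper3.ProjLiftNil
open Groth.Agent.Helper3.PcLift

universe u

attribute [local instance] HasDerivedCategory.standard

theorem main_S6970 (R : Type u) [CommRing R] (I : Ideal R)
    (hI : IsNilpotent I) [DRing.HasLBaseChange (Ideal.Quotient.mk I)] (K : Dual.D R)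
    (N₀ : DRing.Cx (R ⧸ I)) (b : ℤ) (hEb : DRing.VanishesAbove N₀ b)
    (hEp : ∀ i : ℤ, Module.Projective (R ⧸ I) (N₀.X i))
    (hE : Nonempty (DRing.toD N₀ ≅ (DRing.LBaseChange (Ideal.Quotient.mk I)).obj K)) :
    ∃ (P : DRing.Cx R) (b' : ℤ), DRing.VanishesAbove P b' ∧
      (∀ i : ℤ, Module.Projective R (P.X i)) ∧
      Nonempty (DRing.toD P ≅ K) ∧
      Nonempty ((((ModuleCat.extendScalars (Ideal.Quotient.mk I)).mapHomologicalComplex
        (ComplexShape.up ℤ)).obj P) ≅ N₀) := by
  obtain ⟨e⟩ := hE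
  have h1 : N₀.IsStrictlyLE b := Groth.Agent.Helper5.TorAmp.isStrictlyLE_of_vanishesAbove hEb
  have h2 : (Q.obj N₀).IsLE b := inferInstance
  have h3 : ((DRing.LBaseChange (Ideal.Quotient.mk I)).obj K).IsLE b :=
    TStructure.t.isLE_of_iso e b
  have h4 : K.IsLE b := isLE_of_isLE_LBaseChange I hI K b
  obtain ⟨Q₀, hQ0, hQp, -, ⟨eK⟩⟩ := Groth.Agent.Helper5.TorAmp.exists_proj_rep K b
  have hQp' : ∀ i, Module.Projective R (Q₀.X i) := fun i => by
    have := hQp i
    exact (IsProjective.iff_projective (Q₀.X i)).2 this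
  exact lift_derived I (pcHyp_projective hI)
    (fun X Y hX hY => by
      have := hX
      have := hY
      exact Module.Projective.of_equiv (ModuleCat.biprodIsoProd X Y).symm.toLinearEquiv)
    K Q₀ b hQ0 hQp' eK N₀ b hEb
    (fun i => by
      have := hEp i
      obtain ⟨X, hX, hXe⟩ := exists_lift I hI (N₀.X i)
      exact ⟨X, hX, hXe⟩) e

end Groth.Agent.Helper3.DerNak
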