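import Mathlib
/-!
# Coherence of the compositors of left adjoints (via mates)
-/
universe v₁ v₂ v₃ v₄ u₁ u₂ u₃ u₄
open CategoryTheory Functor

namespace Groth.Agent.Helper3.DescCoh

variable {A : Type u₁} {B : Type u₂} {C : Type u₃} {D : Type u₄}
variable [Category.{v₁} A] [Category.{v₂} B] [Category.{v₃} C] [Category.{v₄} D]

lemma conjugateEquiv_leftAdjointUniq_hom {F F' : A ⥤ B} {G : B ⥤ A} (adj1 : F ⊣ G) (adj2 : F' ⊣ G) :
    conjugateEquiv adj2 adj1 (Adjunction.leftAdjointUniq adj1 adj2).hom = 𝟙 G := by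
  change conjugateEquiv adj2 adj1 ((conjugateEquiv adj2 adj1).symm (𝟙 G)) = 𝟙 G
  exact Equiv.apply_symm_apply _ _

variable {L₀₁ : A ⥤ B} {R₁₀ : B ⥤ A} {L₁₂ : B ⥤ C} {R₂₁ : C ⥤ B} {L₂₃ : C ⥤ D} {R₃₂ : D ⥤ C}
  (adj₀₁ : L₀₁ ⊣ R₁₀) (adj₁₂ : L₁₂ ⊣ R₂₁) (adj₂₃ : L₂₃ ⊣ R₃₂)
  {L₀₂ : A ⥤ C} {L₁₃ : B ⥤ D} {L₀₃ : A ⥤ D}
  (adj₀₂ : L₀₂ ⊣ R₂₁ ⋙ R₁₀) (adj₁₃ : L₁₃ ⊣ R₃₂ ⋙ R₂₁) (adj₀₃ : L₀₃ ⊣ R₃₂ ⋙ R₂₁ ⋙ R₁₀)

/-- Associativity coherence of compositors of left adjoints when the right adjoints compose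
strictly. -/
theorem assoc_coh :
    whiskerRight (Adjunction.leftAdjointUniq (adj₀₁.comp adj₁₂) adj₀₂).hom L₂₃ ≫
        (Adjunction.leftAdjointUniq (adj₀₂.comp adj₂₃) adj₀₃).hom =
      (associator L₀₁ L₁₂ L₂₃).hom ≫
        whiskerLeft L₀₁ (Adjunction.leftAdjointUniq (adj₁₂.comp adj₂₃) adj₁₃).hom ≫
          (Adjunction.leftAdjointUniq (adj₀₁.comp adj₁₃) adj₀₃).hom := by
  apply (conjugateEquiv adj₀₃ ((adj₀₁.comp adj₁₂).comp adj₂₃)).injective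
  rw [← conjugateEquiv_comp _ (adj₀₂.comp adj₂₃) _, conjugateEquiv_leftAdjointUniq_hom,
    conjugateEquiv_whiskerRight, conjugateEquiv_leftAdjointUniq_hom]
  rw [← conjugateEquiv_comp _ (adj₀₁.comp (adj₁₂.comp adj₂₃)) _, conjugateEquiv_associator_hom,
    ← conjugateEquiv_comp _ (adj₀₁.comp adj₁₃) _, conjugateEquiv_leftAdjointUniq_hom,
    conjugateEquiv_whiskerLeft, conjugateEquiv_leftAdjointUniq_hom]
  ext X
  simp

/-- Unit coherence of compositors of left adjoints when the right adjoint of `LI` is the identity. -/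
theorem unit_coh {L : A ⥤ B} {R : B ⥤ A} (adj : L ⊣ R) {LI : B ⥤ B} (adjI : LI ⊣ 𝟭 B) :
    (Adjunction.leftAdjointUniq (adj.comp adjI) (adj : L ⊣ 𝟭 B ⋙ R)).hom =
      whiskerLeft L (Adjunction.leftAdjointUniq adjI Adjunction.id).hom ≫ (rightUnitor L).hom := by
  apply (conjugateEquiv (adj : L ⊣ 𝟭 B ⋙ R) (adj.comp adjI)).injective
  rw [conjugateEquiv_leftAdjointUniq_hom]
  rw [← conjugateEquiv_comp _ (adj.comp Adjunction.id) _, conjugateEquiv_whiskerLeft,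
    conjugateEquiv_leftAdjointUniq_hom]
  have h := conjugateEquiv_rightUnitor_hom adj
  rw [h]
  ext X
  simp

end Groth.Agent.Helper3.DescCoh
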