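import Mathlib
/-!
# Coherence of mates of compositors (non-strict right adjoints)
-/
universe v₁ v₂ v₃ v₄ u₁ u₂ u₃ u₄
open CategoryTheory Functor

namespace Groth.Agent.Helper3.DescCoh2

variable {A : Type u₁} {B : Type u₂} {C : Type u₃} {D : Type u₄}
variable [Category.{v₁} A] [Category.{v₂} B] [Category.{v₃} C] [Category.{v₄} D]

/-- the mate of a transformation of right adjoints -/
def mate {L : A ⥤ B} {R : B ⥤ A} {L' : A ⥤ B} {R' : B ⥤ A} (adj : L ⊣ R) (adj' : L' ⊣ R')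
    (k : R ⟶ R') : L' ⟶ L :=
  (conjugateEquiv adj adj').symm k

lemma conjugateEquiv_mate {L : A ⥤ B} {R : B ⥤ A} {L' : A ⥤ B} {R' : B ⥤ A} (adj : L ⊣ R)
    (adj' : L' ⊣ R') (k : R ⟶ R') : conjugateEquiv adj adj' (mate adj adj' k) = k :=
  Equiv.apply_symm_apply _ _

/-- the mate of an isomorphism of right adjoints -/
def mateIso {L : A ⥤ B} {R : B ⥤ A} {L' : A ⥤ B} {R' : B ⥤ A} (adj : L ⊣ R) (adj' : L' ⊣ R')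
    (k : R ≅ R') : L' ≅ L :=
  (conjugateIsoEquiv adj adj').symm k

lemma mateIso_hom {L : A ⥤ B} {R : B ⥤ A} {L' : A ⥤ B} {R' : B ⥤ A} (adj : L ⊣ R)
    (adj' : L' ⊣ R') (k : R ≅ R') : (mateIso adj adj' k).hom = mate adj adj' k.hom := rfl

variable {L₀₁ : A ⥤ B} {R₁₀ : B ⥤ A} {L₁₂ : B ⥤ C} {R₂₁ : C ⥤ B} {L₂₃ : C ⥤ D} {R₃₂ : D ⥤ C}
  (adj₀₁ : L₀₁ ⊣ R₁₀) (adj₁₂ : L₁₂ ⊣ R₂₁) (adj₂₃ : L₂₃ ⊣ R₃₂)
  {L₀₂ : A ⥤ C} {R₂₀ : C ⥤ A} {L₁₃ : B ⥤ D} {R₃₁ : D ⥤ B} {L₀₃ : A ⥤ D} {R₃₀ : D ⥤ A}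
  (adj₀₂ : L₀₂ ⊣ R₂₀) (adj₁₃ : L₁₃ ⊣ R₃₁) (adj₀₃ : L₀₃ ⊣ R₃₀)
  (k₀₁₂ : R₂₀ ⟶ R₂₁ ⋙ R₁₀) (k₁₂₃ : R₃₁ ⟶ R₃₂ ⋙ R₂₁) (k₀₂₃ : R₃₀ ⟶ R₃₂ ⋙ R₂₀)
  (k₀₁₃ : R₃₀ ⟶ R₃₁ ⋙ R₁₀)

/-- Associativity coherence of the mates of compositors. -/
theorem assoc_coh
    (h : k₀₂₃ ≫ whiskerLeft R₃₂ k₀₁₂ =
      k₀₁₃ ≫ whiskerRight k₁₂₃ R₁₀ ≫ (associator R₃₂ R₂₁ R₁₀).hom) :
    whiskerRight (mate adj₀₂ (adj₀₁.comp adj₁₂) k₀₁₂) L₂₃ ≫ mate adj₀₃ (adj₀₂.comp adj₂₃) k₀₂₃ =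
      (associator L₀₁ L₁₂ L₂₃).hom ≫
        whiskerLeft L₀₁ (mate adj₁₃ (adj₁₂.comp adj₂₃) k₁₂₃) ≫
          mate adj₀₃ (adj₀₁.comp adj₁₃) k₀₁₃ := by
  apply (conjugateEquiv adj₀₃ ((adj₀₁.comp adj₁₂).comp adj₂₃)).injective
  rw [← conjugateEquiv_comp _ (adj₀₂.comp adj₂₃) _, conjugateEquiv_mate,
    conjugateEquiv_whiskerRight, conjugateEquiv_mate]
  rw [← conjugateEquiv_comp _ (adj₀₁.comp (adj₁₂.comp adj₂₃)) _, conjugateEquiv_associator_hom,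
    ← conjugateEquiv_comp _ (adj₀₁.comp adj₁₃) _, conjugateEquiv_mate,
    conjugateEquiv_whiskerLeft, conjugateEquiv_mate]
  rw [h, Category.assoc]

/-- Unit coherence. -/
theorem unit_coh {L : A ⥤ B} {R : B ⥤ A} (adj : L ⊣ R) {LI RI : B ⥤ B} (adjI : LI ⊣ RI)
    (k : R ⟶ RI ⋙ R) (kI : 𝟭 B ⟶ RI)
    (h : k = (leftUnitor R).inv ≫ whiskerRight kI R) :
    mate adj (adj.comp adjI) k =
      whiskerLeft L (mate Adjunction.id adjI kI) ≫ (rightUnitor L).hom := by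
  apply (conjugateEquiv adj (adj.comp adjI)).injective
  rw [conjugateEquiv_mate]
  rw [← conjugateEquiv_comp _ (adj.comp Adjunction.id) _, conjugateEquiv_whiskerLeft,
    conjugateEquiv_mate, conjugateEquiv_rightUnitor_hom, h]

end Groth.Agent.Helper3.DescCoh2
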