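import Groth.Agent.Lib.Helper3.SchDominant
import Mathlib.AlgebraicGeometry.Morphisms.Descent
import Mathlib.AlgebraicGeometry.Morphisms.UnderlyingMap
import Mathlib.AlgebraicGeometry.Morphisms.QuasiCompact
import Mathlib.AlgebraicGeometry.Morphisms.ClosedImmersion
import Mathlib.AlgebraicGeometry.PullbackCarrier

/-! fpqc descent of "quasi-compact and universally an embedding". -/

universe u

open CategoryTheory Limits AlgebraicGeometry MorphismProperty

namespace Groth.Agent.Helper3

variable {X Y Z C : Scheme.{u}}

/-- Flat base change of the closure of the image of a quasi-compact morphism. -/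
theorem preimage_closure_range_eq (h : C ⟶ Z) (f : X ⟶ Z) [QuasiCompact h] [Flat f] :
    f ⁻¹' closure (Set.range h) = closure (Set.range (pullback.snd h f)) := by
  have h1 := Scheme.Hom.support_ker (pullback.snd h f)
  have h2 := ker_pullback_snd_eq_comap_ker h f
  have h3 := Scheme.IdealSheafData.support_comap h.ker f
  have h4 := Scheme.Hom.support_ker h
  rw [← h1, h2, h3, TopologicalSpace.Closeds.coe_preimage, h4]

theorem quasiCompact_of_pullback_fst (f : X ⟶ Z) (g : Y ⟶ Z) [Surjective f] [QuasiCompact f]
    (h : QuasiCompact (pullback.fst f g)) : QuasiCompact g := by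
  refine ⟨fun U hU hUc => ?_⟩
  have h1 : IsCompact (f ⁻¹' U) := QuasiCompact.isCompact_preimage U hU hUc
  have h2 : IsCompact ((pullback.fst f g) ⁻¹' (f ⁻¹' U)) :=
    h.isCompact_preimage _ (hU.preimage f.continuous) h1
  have h3 : (pullback.fst f g) ⁻¹' (f ⁻¹' U) = (pullback.snd f g) ⁻¹' (g ⁻¹' U) := by
    ext a
    simp only [Set.mem_preimage]
    have : f (pullback.fst f g a) = g (pullback.snd f g a) := by
      rw [← Scheme.Hom.comp_apply, ← Scheme.Hom.comp_apply, pullback.condition]
    rw [this]
  rw [h3] at h2
  have h4 := h2.image (pullback.snd f g).continuous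
  rwa [Set.image_preimage_eq _ (pullback.snd f g).surjective] at h4

theorem isEmbedding_of_pullback_fst (f : X ⟶ Z) (g : Y ⟶ Z) [Flat f] [Surjective f]
    [QuasiCompact g] (hfst : Topology.IsEmbedding (pullback.fst f g)) :
    Topology.IsEmbedding g := by
  have hpt : ∀ (x : X) (y : Y), f x = g y →
      ∃ a : ↥(pullback f g), pullback.fst f g a = x ∧ pullback.snd f g a = y :=
    fun x y e => Scheme.Pullback.exists_preimage_pullback x y e
  refine ⟨⟨?_⟩, ?_⟩
  · refine TopologicalSpace.ext_isClosed fun S => ?_
    rw [isClosed_induced_iff]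
    constructor
    · intro hS
      refine ⟨closure (g '' S), isClosed_closure, subset_antisymm ?_ ?_⟩
      · intro y hy
        let ι := (Scheme.IdealSheafData.vanishingIdeal ⟨S, hS⟩).subschemeι
        have hι : Set.range ι = S := by
          rw [Scheme.IdealSheafData.range_subschemeι,
            Scheme.IdealSheafData.coe_support_vanishingIdeal]
          rfl
        have hr : Set.range (ι ≫ g) = g '' S := by
          rw [Scheme.Hom.comp_base, TopCat.coe_comp, Set.range_comp, hι]
        obtain ⟨x, hx⟩ := f.surjective (g y)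
        obtain ⟨a, ha1, ha2⟩ := hpt x y hx
        have hx' : x ∈ f ⁻¹' closure (Set.range (ι ≫ g)) := by
          rw [Set.mem_preimage, hx, hr]; exact hy
        rw [preimage_closure_range_eq] at hx'
        have hsub : Set.range (pullback.snd (ι ≫ g) f) ⊆
            (pullback.fst f g) '' ((pullback.snd f g) ⁻¹' S) := by
          rintro _ ⟨p, rfl⟩
          have e : f (pullback.snd (ι ≫ g) f p) = g (ι (pullback.fst (ι ≫ g) f p)) := by
            rw [← Scheme.Hom.comp_apply, ← pullback.condition]
            simp
          obtain ⟨a', ha'1, ha'2⟩ := hpt _ _ e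
          refine ⟨a', ?_, ha'1⟩
          rw [Set.mem_preimage, ha'2]
          exact hι.le ⟨_, rfl⟩
        have h5 : pullback.fst f g a ∈ closure ((pullback.fst f g) '' ((pullback.snd f g) ⁻¹' S)) :=
          ha1 ▸ closure_mono hsub hx'
        have h6 : a ∈ closure ((pullback.snd f g) ⁻¹' S) := by
          rw [hfst.isInducing.closure_eq_preimage_closure_image]
          exact h5
        rw [(hS.preimage (pullback.snd f g).continuous).closure_eq] at h6
        rw [← ha2]
        exact h6
      · exact fun y hy => subset_closure ⟨y, hy, rfl⟩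
    · rintro ⟨t, ht, rfl⟩
      exact ht.preimage g.continuous
  · intro y₁ y₂ e
    obtain ⟨x, hx⟩ := f.surjective (g y₁)
    obtain ⟨a₁, h11, h12⟩ := hpt x y₁ hx
    obtain ⟨a₂, h21, h22⟩ := hpt x y₂ (hx.trans e)
    have : a₁ = a₂ := hfst.injective (h11.trans h21.symm)
    rw [← h12, ← h22, this]

theorem descendsAlong_universally_isEmbedding_inf_quasiCompact :
    MorphismProperty.DescendsAlong
      (MorphismProperty.universally (topologically (fun f => Topology.IsEmbedding f)) ⊓
        @QuasiCompact : MorphismProperty Scheme.{u})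
      (@Surjective ⊓ @Flat ⊓ @QuasiCompact : MorphismProperty Scheme.{u}) := by
  apply DescendsAlong.mk'
  intro X Y Z f g _ hf hfst
  obtain ⟨⟨hf1, hf2⟩, hf3⟩ := hf
  have hf1' : Surjective f := hf1
  have hf2' : Flat f := hf2
  have hf3' : QuasiCompact f := hf3
  have hqc : QuasiCompact g := quasiCompact_of_pullback_fst f g hfst.2
  refine ⟨?_, hqc⟩
  intro Y' Z' i₁ i₂ g' sq
  have hqc' : QuasiCompact g' := MorphismProperty.of_isPullback (P := @QuasiCompact) sq.flip hqc
  let f' := pullback.snd f i₂
  apply isEmbedding_of_pullback_fst f' g'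
  -- `pullback.fst f' g'` is a base change of `pullback.fst f g`
  let j₁ : pullback f' g' ⟶ pullback f g :=
    pullback.lift (pullback.fst f' g' ≫ pullback.fst f i₂) (pullback.snd f' g' ≫ i₁)
      (by
        rw [Category.assoc, pullback.condition, ← Category.assoc, pullback.condition,
          Category.assoc, Category.assoc, sq.w])
  have hj1 : j₁ ≫ pullback.fst f g = pullback.fst f' g' ≫ pullback.fst f i₂ :=
    pullback.lift_fst _ _ _
  have hj2 : j₁ ≫ pullback.snd f g = pullback.snd f' g' ≫ i₁ := pullback.lift_snd _ _ _
  have S4 : IsPullback (pullback.snd f' g') (pullback.fst f' g') g' f' :=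
    (IsPullback.of_hasPullback f' g').flip
  have big := S4.paste_horiz sq.flip
  have hbot : f' ≫ i₂ = pullback.fst f i₂ ≫ f := pullback.condition.symm
  rw [hbot, ← hj2] at big
  have S1 : IsPullback (pullback.snd f g) (pullback.fst f g) g f :=
    (IsPullback.of_hasPullback f g).flip
  have left := IsPullback.of_right big hj1 S1
  exact hfst.1 _ _ _ left.flip

end Groth.Agent.Helper3
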