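import Mathlib
import Groth.Prelude.Def_EtBase
/-!
# Coherence of the base change functors of small étale sites
-/
set_option autoImplicit false
universe u
open CategoryTheory CategoryTheory.Limits Opposite AlgebraicGeometry

namespace Groth.Agent.Helper3.DescEt1

variable {T'' T' T Z : Scheme.{u}}

/-- the compositor `bc t ⋙ bc φ ≅ bc t'` for `φ ≫ t = t'` -/
noncomputable def β (φ : T' ⟶ T) (t : T ⟶ Z) (t' : T' ⟶ Z) (w : φ ≫ t = t') :
    EtCoh.bc t ⋙ EtCoh.bc φ ≅ EtCoh.bc t' :=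
  (MorphismProperty.Over.pullbackComp (P := EtCoh.etaleMP.{u}) (Q := ⊤) φ t t' w.symm).symm

lemma β_hom_app_left (φ : T' ⟶ T) (t : T ⟶ Z) (t' : T' ⟶ Z) (w : φ ≫ t = t') (V : Z.Etale) :
    ((β φ t t' w).hom.app V).left =
      (pullbackLeftPullbackSndIso V.hom t φ).hom ≫ (pullback.congrHom rfl w.symm).inv := by
  simp [β, EtCoh.bc]

set_option backward.isDefEq.respectTransparency false in
@[reassoc]
lemma β_hom_app_left_fst (φ : T' ⟶ T) (t : T ⟶ Z) (t' : T' ⟶ Z) (w : φ ≫ t = t') (V : Z.Etale) :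
    ((β φ t t' w).hom.app V).left ≫ pullback.fst V.hom t' =
      pullback.fst (pullback.snd V.hom t) φ ≫ pullback.fst V.hom t := by
  rw [β_hom_app_left]
  subst w
  simp

set_option backward.isDefEq.respectTransparency false in
@[reassoc]
lemma β_hom_app_left_snd (φ : T' ⟶ T) (t : T ⟶ Z) (t' : T' ⟶ Z) (w : φ ≫ t = t') (V : Z.Etale) :
    ((β φ t t' w).hom.app V).left ≫ pullback.snd V.hom t' =
      pullback.snd (pullback.snd V.hom t) φ := by
  rw [β_hom_app_left]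
  subst w
  simp

@[reassoc]
lemma bc_map_left_fst {X Y : Scheme.{u}} (f : X ⟶ Y) {U V : Y.Etale} (g : U ⟶ V) :
    ((EtCoh.bc f).map g).left ≫ pullback.fst V.hom f = pullback.fst U.hom f ≫ g.left := by
  simp only [EtCoh.bc, MorphismProperty.Over.pullback_map_left]
  exact pullback.lift_fst _ _ _

@[reassoc]
lemma bc_map_left_snd {X Y : Scheme.{u}} (f : X ⟶ Y) {U V : Y.Etale} (g : U ⟶ V) :
    ((EtCoh.bc f).map g).left ≫ pullback.snd V.hom f = pullback.snd U.hom f := by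
  simp only [EtCoh.bc, MorphismProperty.Over.pullback_map_left]
  exact pullback.lift_snd _ _ _

@[reassoc]
lemma β_fst' (φ : T' ⟶ T) (t : T ⟶ Z) (t' : T' ⟶ Z) (w : φ ≫ t = t') (V : Z.Etale) :
    ((β φ t t' w).hom.app V).left ≫ pullback.fst V.hom t' =
      pullback.fst ((EtCoh.bc t).obj V).hom φ ≫ pullback.fst V.hom t :=
  β_hom_app_left_fst φ t t' w V

@[reassoc]
lemma β_snd' (φ : T' ⟶ T) (t : T ⟶ Z) (t' : T' ⟶ Z) (w : φ ≫ t = t') (V : Z.Etale) :
    ((β φ t t' w).hom.app V).left ≫ pullback.snd V.hom t' =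
      pullback.snd ((EtCoh.bc t).obj V).hom φ :=
  β_hom_app_left_snd φ t t' w V

set_option backward.isDefEq.respectTransparency false in
theorem β_cocycle (ψ : T'' ⟶ T') (φ : T' ⟶ T) (t : T ⟶ Z) (t' : T' ⟶ Z) (t'' : T'' ⟶ Z)
    (w₁ : φ ≫ t = t') (w₂ : ψ ≫ t' = t'') (w₃ : (ψ ≫ φ) ≫ t = t'') (V : Z.Etale) :
    (EtCoh.bc ψ).map ((β φ t t' w₁).hom.app V) ≫ (β ψ t' t'' w₂).hom.app V =
      (β ψ φ (ψ ≫ φ) rfl).hom.app ((EtCoh.bc t).obj V) ≫ (β (ψ ≫ φ) t t'' w₃).hom.app V := by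
  apply MorphismProperty.Over.Hom.ext
  apply pullback.hom_ext
  · change (((EtCoh.bc ψ).map ((β φ t t' w₁).hom.app V)).left ≫ ((β ψ t' t'' w₂).hom.app V).left) ≫
        pullback.fst V.hom t'' =
      (((β ψ φ (ψ ≫ φ) rfl).hom.app ((EtCoh.bc t).obj V)).left ≫
        ((β (ψ ≫ φ) t t'' w₃).hom.app V).left) ≫ pullback.fst V.hom t''
    have h1 := β_fst' ψ t' t'' w₂ V
    have h2 := bc_map_left_fst ψ ((β φ t t' w₁).hom.app V)
    have h3 := β_fst' φ t t' w₁ V
    have h4 := β_fst' (ψ ≫ φ) t t'' w₃ V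
    have h5 := β_fst' ψ φ (ψ ≫ φ) rfl ((EtCoh.bc t).obj V)
    rw [Category.assoc, Category.assoc, h1, h4, reassoc_of% h2, h3, reassoc_of% h5]
  · change (((EtCoh.bc ψ).map ((β φ t t' w₁).hom.app V)).left ≫ ((β ψ t' t'' w₂).hom.app V).left) ≫
        pullback.snd V.hom t'' =
      (((β ψ φ (ψ ≫ φ) rfl).hom.app ((EtCoh.bc t).obj V)).left ≫
        ((β (ψ ≫ φ) t t'' w₃).hom.app V).left) ≫ pullback.snd V.hom t''
    have h1 := β_snd' ψ t' t'' w₂ V
    have h2 := bc_map_left_snd ψ ((β φ t t' w₁).hom.app V)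
    have h4 := β_snd' (ψ ≫ φ) t t'' w₃ V
    have h5 := β_snd' ψ φ (ψ ≫ φ) rfl ((EtCoh.bc t).obj V)
    rw [Category.assoc, Category.assoc, h1, h4, h2, h5]
    rfl

set_option backward.isDefEq.respectTransparency false in
/-- the unitor `bc (𝟙 T) ≅ 𝟭` -/
noncomputable def ι (T : Scheme.{u}) : EtCoh.bc (𝟙 T) ≅ 𝟭 T.Etale :=
  NatIso.ofComponents
    (fun V => MorphismProperty.Over.isoMk (asIso (pullback.fst V.hom (𝟙 T)))
      (by simp [EtCoh.bc, pullback.condition]))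
    (fun {U V} g => by
      apply MorphismProperty.Over.Hom.ext
      change ((EtCoh.bc (𝟙 T)).map g).left ≫ pullback.fst V.hom (𝟙 T) =
        pullback.fst U.hom (𝟙 T) ≫ g.left
      exact bc_map_left_fst (𝟙 T) g)

set_option backward.isDefEq.respectTransparency false in
lemma ι_hom_app_left (T : Scheme.{u}) (V : T.Etale) :
    ((ι T).hom.app V).left = pullback.fst V.hom (𝟙 T) := by
  simp [ι]

set_option backward.isDefEq.respectTransparency false in
theorem β_unit (t : T ⟶ Z) (w : 𝟙 T ≫ t = t) (V : Z.Etale) :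
    (β (𝟙 T) t t w).hom.app V = (ι T).hom.app ((EtCoh.bc t).obj V) := by
  apply MorphismProperty.Over.Hom.ext
  rw [ι_hom_app_left]
  apply pullback.hom_ext
  · rw [β_hom_app_left_fst]
    rfl
  · rw [β_hom_app_left_snd]
    have h := pullback.condition (f := ((EtCoh.bc t).obj V).hom) (g := 𝟙 T)
    rw [Category.comp_id] at h
    exact h.symm

end Groth.Agent.Helper3.DescEt1
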