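import Mathlib
import Groth.Prelude.Def_EtBase
import Groth.Agent.Lib.Helper3.DescEt1
import Groth.Agent.Lib.Helper3.DescCoh2
/-!
# Coherence of direct and inverse images of abelian étale sheaves
-/
set_option autoImplicit false
universe u
open CategoryTheory CategoryTheory.Limits Opposite AlgebraicGeometry Functor

namespace Groth.Agent.Helper3.DescEt2

open Groth.Agent.Helper3.DescEt1 Groth.Agent.Helper3.DescCoh2

variable {T'' T' T Z : Scheme.{u}}

/-- the compositor `push φ ⋙ push t ≅ push t'` for `φ ≫ t = t'` -/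
noncomputable def kpush (φ : T' ⟶ T) (t : T ⟶ Z) (t' : T' ⟶ Z) (w : φ ≫ t = t') :
    EtCoh.push φ ⋙ EtCoh.push t ≅ EtCoh.push t' :=
  Functor.sheafPushforwardContinuousComp' (F := EtCoh.bc t) (G := EtCoh.bc φ) (FG := EtCoh.bc t')
    (β φ t t' w) AddCommGrpCat.{u + 1} Z.smallEtaleTopology T.smallEtaleTopology
    T'.smallEtaleTopology

lemma kpush_inv_app_hom_app (φ : T' ⟶ T) (t : T ⟶ Z) (t' : T' ⟶ Z) (w : φ ≫ t = t')
    (M : EtCoh.Ab T') (V : Z.Etaleᵒᵖ) :
    ((kpush φ t t' w).inv.app M).hom.app V = M.obj.map ((β φ t t' w).hom.app V.unop).op := by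
  simp [kpush]

theorem kpush_cocycle (ψ : T'' ⟶ T') (φ : T' ⟶ T) (t : T ⟶ Z) (t' : T' ⟶ Z) (t'' : T'' ⟶ Z)
    (w₁ : φ ≫ t = t') (w₂ : ψ ≫ t' = t'') (w₃ : (ψ ≫ φ) ≫ t = t'') :
    (kpush ψ t' t'' w₂).inv ≫ whiskerLeft (EtCoh.push ψ) (kpush φ t t' w₁).inv =
      (kpush (ψ ≫ φ) t t'' w₃).inv ≫ whiskerRight (kpush ψ φ (ψ ≫ φ) rfl).inv (EtCoh.push t) ≫
        (associator (EtCoh.push ψ) (EtCoh.push φ) (EtCoh.push t)).hom := by
  apply NatTrans.ext
  funext M
  apply Sheaf.hom_ext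
  apply NatTrans.ext
  funext V
  simp only [NatTrans.comp_app, Functor.whiskerLeft_app, Functor.whiskerRight_app,
    Functor.associator_hom_app, Category.comp_id, ObjectProperty.FullSubcategory.comp_hom,
    kpush_inv_app_hom_app]
  have h1 : ((EtCoh.push t).map ((kpush ψ φ (ψ ≫ φ) rfl).inv.app M)).hom.app V =
      M.obj.map ((β ψ φ (ψ ≫ φ) rfl).hom.app ((EtCoh.bc t).obj V.unop)).op :=
    kpush_inv_app_hom_app ψ φ (ψ ≫ φ) rfl M (op ((EtCoh.bc t).obj V.unop))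
  have h2 : ((EtCoh.push ψ).obj M).obj.map ((β φ t t' w₁).hom.app V.unop).op =
      M.obj.map ((EtCoh.bc ψ).map ((β φ t t' w₁).hom.app V.unop)).op := rfl
  rw [h1, h2]
  have key := congrArg (fun x => M.obj.map x.op) (β_cocycle ψ φ t t' t'' w₁ w₂ w₃ V.unop)
  simp only [op_comp, Functor.map_comp] at key
  exact key

/-- the unitor `push (𝟙 T) ≅ 𝟭` -/
noncomputable def kI (T : Scheme.{u}) : EtCoh.push (𝟙 T) ≅ 𝟭 (EtCoh.Ab T) :=
  Functor.sheafPushforwardContinuousId' (ι T) AddCommGrpCat.{u + 1} T.smallEtaleTopology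

lemma kI_inv_app_hom_app (T : Scheme.{u}) (M : EtCoh.Ab T) (V : T.Etaleᵒᵖ) :
    ((kI T).inv.app M).hom.app V = M.obj.map ((ι T).hom.app V.unop).op := by
  simp [kI]

theorem kpush_unit (t : T ⟶ Z) (w : 𝟙 T ≫ t = t) :
    (kpush (𝟙 T) t t w).inv =
      (leftUnitor (EtCoh.push t)).inv ≫ whiskerRight (kI T).inv (EtCoh.push t) := by
  apply NatTrans.ext
  funext M
  apply Sheaf.hom_ext
  apply NatTrans.ext
  funext V
  simp only [NatTrans.comp_app, Functor.whiskerRight_app, Functor.leftUnitor_inv_app,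
    Category.id_comp, kpush_inv_app_hom_app]
  have h1 : ((EtCoh.push t).map ((kI T).inv.app M)).hom.app V =
      M.obj.map ((ι T).hom.app ((EtCoh.bc t).obj V.unop)).op :=
    kI_inv_app_hom_app T M (op ((EtCoh.bc t).obj V.unop))
  rw [h1, β_unit t w V.unop]

end Groth.Agent.Helper3.DescEt2
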