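import Mathlib
/-!
# `Ext.mapExactFunctor`: naturality in the functor and compatibility with composition of functors
(for categories with enough injectives)
-/
set_option autoImplicit false
universe w w' w'' v v' v'' u u' u''
open CategoryTheory CategoryTheory.Limits Abelian

namespace Groth.Agent.Helper3.DescExt

section Nat

variable {C : Type u} [Category.{v} C] [Abelian C] {D : Type u'} [Category.{v'} D] [Abelian D]
  [HasExt.{w} C] [HasExt.{w'} D] [EnoughInjectives C]
  (F G : C ⥤ D) [F.Additive] [G.Additive] [PreservesFiniteLimits F] [PreservesFiniteColimits F]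
  [PreservesFiniteLimits G] [PreservesFiniteColimits G] (τ : F ⟶ G)

/-- the morphism of short complexes induced by a natural transformation -/
def mapSC (S : ShortComplex C) : S.map F ⟶ S.map G where
  τ₁ := τ.app S.X₁
  τ₂ := τ.app S.X₂
  τ₃ := τ.app S.X₃
  comm₁₂ := (τ.naturality S.f).symm
  comm₂₃ := (τ.naturality S.g).symm

/-- the standard short exact sequence `0 → Y → I → I/Y → 0` with `I` injective -/
noncomputable def injSC (Y : C) : ShortComplex C :=
  ShortComplex.mk (Injective.ι Y) (cokernel.π (Injective.ι Y)) (cokernel.condition _)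

lemma injSC_shortExact (Y : C) : (injSC Y).ShortExact :=
  { exact := ShortComplex.exact_cokernel _
    mono_f := inferInstanceAs (Mono (Injective.ι Y))
    epi_g := inferInstanceAs (Epi (cokernel.π (Injective.ι Y))) }

lemma exists_eq_comp_extClass {X Y : C} {n : ℕ} (x : Ext.{w} X Y (n + 1)) :
    ∃ x₃ : Ext.{w} X (injSC Y).X₃ n, x₃.comp (injSC_shortExact Y).extClass rfl = x := by
  have h0 : x.comp (Ext.mk₀ (injSC Y).f) (add_zero (n + 1)) = 0 := by
    haveI : Injective (injSC Y).X₂ := inferInstanceAs (Injective (Injective.under Y))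
    exact Ext.eq_zero_of_injective _
  exact Ext.covariant_sequence_exact₁ _ (injSC_shortExact Y) x h0 rfl

lemma naturality_step {n : ℕ}
    (ih : ∀ {X Y : C} (x : Ext.{w} X Y n),
      (x.mapExactFunctor F).comp (Ext.mk₀ (τ.app Y)) (add_zero n) =
        (Ext.mk₀ (τ.app X)).comp (x.mapExactFunctor G) (zero_add n))
    {X : C} (S : ShortComplex C) (hS : S.ShortExact) (x₃ : Ext.{w} X S.X₃ n) :
    ((x₃.comp hS.extClass rfl).mapExactFunctor F).comp (Ext.mk₀ (τ.app S.X₁)) (add_zero (n + 1)) =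
      (Ext.mk₀ (τ.app X)).comp ((x₃.comp hS.extClass rfl).mapExactFunctor G) (zero_add (n + 1)) := by
  obtain ⟨ecF, hecF⟩ : ∃ e : Ext.{w'} (F.obj S.X₃) (F.obj S.X₁) 1,
    e = (hS.map_of_exact F).extClass := ⟨_, rfl⟩
  obtain ⟨ecG, hecG⟩ : ∃ e : Ext.{w'} (G.obj S.X₃) (G.obj S.X₁) 1,
    e = (hS.map_of_exact G).extClass := ⟨_, rfl⟩
  have e1 : (x₃.comp hS.extClass rfl).mapExactFunctor F = (x₃.mapExactFunctor F).comp ecF rfl := by
    rw [Ext.mapExactFunctor_comp, Ext.mapExactFunctor_extClass, hecF]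
  have e2 : (x₃.comp hS.extClass rfl).mapExactFunctor G = (x₃.mapExactFunctor G).comp ecG rfl := by
    rw [Ext.mapExactFunctor_comp, Ext.mapExactFunctor_extClass, hecG]
  have hnat' : ecF.comp (Ext.mk₀ (τ.app S.X₁)) (add_zero 1) =
      (Ext.mk₀ (τ.app S.X₃)).comp ecG (zero_add 1) := by
    rw [hecF, hecG]
    exact ShortComplex.ShortExact.extClass_naturality (hS.map_of_exact F)
      (hS.map_of_exact G) (mapSC F G τ S)
  rw [e1, e2, Ext.comp_assoc_of_third_deg_zero, hnat', ← Ext.comp_assoc_of_second_deg_zero, ih x₃]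
  exact Ext.comp_assoc (a₁ := 0) (a₂ := n) (a₃ := 1) _ _ _ (zero_add n) rfl (by omega)

theorem mapExactFunctor_naturality : ∀ (n : ℕ) {X Y : C} (x : Ext.{w} X Y n),
    (x.mapExactFunctor F).comp (Ext.mk₀ (τ.app Y)) (add_zero n) =
      (Ext.mk₀ (τ.app X)).comp (x.mapExactFunctor G) (zero_add n) := by
  intro n
  induction n with
  | zero =>
    intro X Y x
    obtain ⟨f, rfl⟩ := (Ext.mk₀_bijective X Y).2 x
    rw [Ext.mapExactFunctor_mk₀, Ext.mapExactFunctor_mk₀, Ext.mk₀_comp_mk₀, Ext.mk₀_comp_mk₀,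
      τ.naturality]
  | succ n ih =>
    intro X Y x
    obtain ⟨x₃, rfl⟩ := exists_eq_comp_extClass x
    exact naturality_step F G τ ih (injSC Y) (injSC_shortExact Y) x₃

/-- Conjugation form for a natural isomorphism. -/
theorem mapExactFunctor_iso (e : F ≅ G) {n : ℕ} {X Y : C} (x : Ext.{w} X Y n) :
    x.mapExactFunctor G = (Ext.mk₀ (e.inv.app X)).comp
      ((x.mapExactFunctor F).comp (Ext.mk₀ (e.hom.app Y)) (add_zero n)) (zero_add n) := by
  rw [mapExactFunctor_naturality F G e.hom n x, ← Ext.comp_assoc_of_second_deg_zero]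
  · rw [Ext.mk₀_comp_mk₀, Iso.inv_hom_id_app, Ext.mk₀_id_comp]

end Nat

section Comp

variable {C : Type u} [Category.{v} C] [Abelian C] {D : Type u'} [Category.{v'} D] [Abelian D]
  {E : Type u''} [Category.{v''} E] [Abelian E]
  [HasExt.{w} C] [HasExt.{w'} D] [HasExt.{w''} E] [EnoughInjectives C]
  (F : C ⥤ D) (G : D ⥤ E) [F.Additive] [G.Additive] [PreservesFiniteLimits F]
  [PreservesFiniteColimits F] [PreservesFiniteLimits G] [PreservesFiniteColimits G]

lemma comp_step {n : ℕ}
    (ih : ∀ {X Y : C} (x : Ext.{w} X Y n),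
      (x.mapExactFunctor F).mapExactFunctor G = x.mapExactFunctor (F ⋙ G))
    {X : C} (S : ShortComplex C) (hS : S.ShortExact) (x₃ : Ext.{w} X S.X₃ n) :
    ((x₃.comp hS.extClass rfl).mapExactFunctor F).mapExactFunctor G =
      (x₃.comp hS.extClass rfl).mapExactFunctor (F ⋙ G) := by
  obtain ⟨ecF, hecF⟩ : ∃ e : Ext.{w'} (F.obj S.X₃) (F.obj S.X₁) 1,
    e = (hS.map_of_exact F).extClass := ⟨_, rfl⟩
  have e1 : (x₃.comp hS.extClass rfl).mapExactFunctor F = (x₃.mapExactFunctor F).comp ecF rfl := by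
    rw [Ext.mapExactFunctor_comp, Ext.mapExactFunctor_extClass, hecF]
  have e2 : ecF.mapExactFunctor G = ((hS.map_of_exact F).map_of_exact G).extClass := by
    rw [hecF]
    exact Ext.mapExactFunctor_extClass G (hS.map_of_exact F)
  rw [e1, Ext.mapExactFunctor_comp, ih, e2, Ext.mapExactFunctor_comp, Ext.mapExactFunctor_extClass]
  rfl

theorem mapExactFunctor_mapExactFunctor : ∀ (n : ℕ) {X Y : C} (x : Ext.{w} X Y n),
    (x.mapExactFunctor F).mapExactFunctor G = x.mapExactFunctor (F ⋙ G) := by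
  intro n
  induction n with
  | zero =>
    intro X Y x
    obtain ⟨f, rfl⟩ := (Ext.mk₀_bijective X Y).2 x
    rw [Ext.mapExactFunctor_mk₀, Ext.mapExactFunctor_mk₀, Ext.mapExactFunctor_mk₀]
    rfl
  | succ n ih =>
    intro X Y x
    obtain ⟨x₃, rfl⟩ := exists_eq_comp_extClass x
    exact comp_step F G ih (injSC Y) (injSC_shortExact Y) x₃

end Comp

end Groth.Agent.Helper3.DescExt
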