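import Mathlib
import Groth.Agent.Lib.Helper3.DescExt
/-!
# The contravariant functor `T ↦ Ext^q(Z_T, F_T)` attached to two cartesian sections of a
pseudo-functor of exact pullbacks
-/
set_option autoImplicit false
universe w v u v₀ u₀
open CategoryTheory CategoryTheory.Limits Abelian Opposite

namespace Groth.Agent.Helper3.DescPhi

open Groth.Agent.Helper3.DescExt

section Conj

variable {C : Type u} [Category.{v} C] [Abelian C] [HasExt.{w} C]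

/-- conjugation of an Ext class by morphisms -/
noncomputable def conj {X X' Y Y' : C} {n : ℕ} (a : X' ⟶ X) (b : Y ⟶ Y') (x : Ext.{w} X Y n) :
    Ext.{w} X' Y' n :=
  (Ext.mk₀ a).comp (x.comp (Ext.mk₀ b) (add_zero n)) (zero_add n)

lemma conj_conj {X X' X'' Y Y' Y'' : C} {n : ℕ} (a : X' ⟶ X) (b : Y ⟶ Y') (a' : X'' ⟶ X')
    (b' : Y' ⟶ Y'') (x : Ext.{w} X Y n) :
    conj a' b' (conj a b x) = conj (a' ≫ a) (b ≫ b') x := by
  dsimp only [conj]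
  rw [← Ext.mk₀_comp_mk₀ a' a, ← Ext.mk₀_comp_mk₀ b b']
  rw [Ext.comp_assoc_of_second_deg_zero, Ext.comp_assoc_of_third_deg_zero,
    Ext.comp_assoc_of_third_deg_zero]

lemma conj_id {X Y : C} {n : ℕ} (x : Ext.{w} X Y n) : conj (𝟙 X) (𝟙 Y) x = x := by
  dsimp only [conj]
  rw [Ext.comp_mk₀_id, Ext.mk₀_id_comp]

lemma conj_add {X X' Y Y' : C} {n : ℕ} (a : X' ⟶ X) (b : Y ⟶ Y') (x y : Ext.{w} X Y n) :
    conj a b (x + y) = conj a b x + conj a b y := by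
  dsimp only [conj]
  rw [Ext.add_comp, Ext.comp_add]

variable {D : Type u} [Category.{v} D] [Abelian D] [HasExt.{w} D]
  (G : C ⥤ D) [G.Additive] [PreservesFiniteLimits G] [PreservesFiniteColimits G]

lemma map_conj {X X' Y Y' : C} {n : ℕ} (a : X' ⟶ X) (b : Y ⟶ Y') (x : Ext.{w} X Y n) :
    (conj a b x).mapExactFunctor G = conj (G.map a) (G.map b) (x.mapExactFunctor G) := by
  dsimp only [conj]
  rw [Ext.mapExactFunctor_comp, Ext.mapExactFunctor_comp, Ext.mapExactFunctor_mk₀,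
    Ext.mapExactFunctor_mk₀]

lemma map_iso [EnoughInjectives C] (G' : C ⥤ D) [G'.Additive] [PreservesFiniteLimits G']
    [PreservesFiniteColimits G'] (e : G ≅ G') {X Y : C} {n : ℕ} (x : Ext.{w} X Y n) :
    x.mapExactFunctor G' = conj (e.inv.app X) (e.hom.app Y) (x.mapExactFunctor G) :=
  mapExactFunctor_iso G G' e x

lemma map_id_functor [EnoughInjectives C] : ∀ (n : ℕ) {X Y : C} (x : Ext.{w} X Y n),
    x.mapExactFunctor (𝟭 C) = x := by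
  intro n
  induction n with
  | zero =>
    intro X Y x
    obtain ⟨f, rfl⟩ := (Ext.mk₀_bijective X Y).2 x
    rw [Ext.mapExactFunctor_mk₀]
    rfl
  | succ n ih =>
    intro X Y x
    obtain ⟨x₃, rfl⟩ := exists_eq_comp_extClass x
    have key : ∀ (S : ShortComplex C) (hS : S.ShortExact) (x₃ : Ext.{w} X S.X₃ n),
        (x₃.comp hS.extClass rfl).mapExactFunctor (𝟭 C) = x₃.comp hS.extClass rfl := by
      intro S hS x₃
      rw [Ext.mapExactFunctor_comp, Ext.mapExactFunctor_extClass, ih]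
      rfl
    exact key _ _ x₃

end Conj

variable {𝒟 : Type u₀} [Category.{v₀} 𝒟]
  (A : 𝒟 → Type u) [∀ T, Category.{v} (A T)] [∀ T, Abelian (A T)] [∀ T, HasExt.{w} (A T)]
  [∀ T, EnoughInjectives (A T)]

/-- A (contravariant) pseudo-functor of exact functors; only the data needed here. -/
structure PullSys where
  L : ∀ {T' T : 𝒟}, (T' ⟶ T) → (A T ⥤ A T')
  additive : ∀ {T' T : 𝒟} (φ : T' ⟶ T), (L φ).Additive
  lex : ∀ {T' T : 𝒟} (φ : T' ⟶ T), PreservesFiniteLimits (L φ)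
  rex : ∀ {T' T : 𝒟} (φ : T' ⟶ T), PreservesFiniteColimits (L φ)
  m : ∀ {T'' T' T : 𝒟} (ψ : T'' ⟶ T') (φ : T' ⟶ T), L φ ⋙ L ψ ≅ L (ψ ≫ φ)
  u : ∀ T : 𝒟, L (𝟙 T) ≅ 𝟭 (A T)

attribute [instance] PullSys.additive PullSys.lex PullSys.rex

variable {A}

/-- A cartesian section: objects `G_T ∈ A T` with coherent isomorphisms `φ^* G_T ≅ G_{T'}`. -/
structure CartSec (P : PullSys A) where
  obj : ∀ T : 𝒟, A T
  c : ∀ {T' T : 𝒟} (φ : T' ⟶ T), (P.L φ).obj (obj T) ≅ obj T'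
  c_comp : ∀ {T'' T' T : 𝒟} (ψ : T'' ⟶ T') (φ : T' ⟶ T),
    (P.L ψ).map (c φ).hom ≫ (c ψ).hom = (P.m ψ φ).hom.app (obj T) ≫ (c (ψ ≫ φ)).hom
  c_id : ∀ T : 𝒟, (c (𝟙 T)).hom = (P.u T).hom.app (obj T)

variable (P : PullSys A) (Z F : CartSec P)

lemma CartSec.c_comp_inv {T'' T' T : 𝒟} (ψ : T'' ⟶ T') (φ : T' ⟶ T) :
    (Z.c ψ).inv ≫ (P.L ψ).map (Z.c φ).inv = (Z.c (ψ ≫ φ)).inv ≫ (P.m ψ φ).inv.app (Z.obj T) := by
  have h : (P.L ψ).mapIso (Z.c φ) ≪≫ Z.c ψ = (P.m ψ φ).app (Z.obj T) ≪≫ Z.c (ψ ≫ φ) :=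
    Iso.ext (Z.c_comp ψ φ)
  exact congrArg Iso.inv h

/-- the transition map of `Φ` -/
noncomputable def phiMap (q : ℕ) {T' T : 𝒟} (φ : T' ⟶ T) :
    Ext.{w} (Z.obj T) (F.obj T) q →+ Ext.{w} (Z.obj T') (F.obj T') q :=
  AddMonoidHom.mk' (fun x => conj (Z.c φ).inv (F.c φ).hom (x.mapExactFunctor (P.L φ)))
    (fun x y => by rw [Ext.mapExactFunctor_add, conj_add])

lemma phiMap_apply (q : ℕ) {T' T : 𝒟} (φ : T' ⟶ T) (x : Ext.{w} (Z.obj T) (F.obj T) q) :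
    phiMap P Z F q φ x = conj (Z.c φ).inv (F.c φ).hom (x.mapExactFunctor (P.L φ)) := rfl

lemma phiMap_id (q : ℕ) (T : 𝒟) (x : Ext.{w} (Z.obj T) (F.obj T) q) :
    phiMap P Z F q (𝟙 T) x = x := by
  rw [phiMap_apply]
  have h1 : (Z.c (𝟙 T)).inv = (P.u T).inv.app (Z.obj T) := by
    have : Z.c (𝟙 T) = (P.u T).app (Z.obj T) := Iso.ext (Z.c_id T)
    rw [this]
    rfl
  rw [h1, F.c_id T]
  have h2 := map_iso (P.L (𝟙 T)) (𝟭 (A T)) (P.u T) x
  rw [map_id_functor] at h2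
  exact h2.symm

lemma phiMap_comp (q : ℕ) {T'' T' T : 𝒟} (ψ : T'' ⟶ T') (φ : T' ⟶ T)
    (x : Ext.{w} (Z.obj T) (F.obj T) q) :
    phiMap P Z F q (ψ ≫ φ) x = phiMap P Z F q ψ (phiMap P Z F q φ x) := by
  rw [phiMap_apply, phiMap_apply, phiMap_apply, map_conj, conj_conj,
    mapExactFunctor_mapExactFunctor, map_iso (P.L φ ⋙ P.L ψ) (P.L (ψ ≫ φ)) (P.m ψ φ) x, conj_conj,
    CartSec.c_comp_inv, F.c_comp]

/-- The functor `T ↦ Ext^q(Z_T, F_T)`. -/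
noncomputable def Phi (q : ℕ) : 𝒟ᵒᵖ ⥤ AddCommGrpCat.{w} where
  obj T := AddCommGrpCat.of (Ext.{w} (Z.obj T.unop) (F.obj T.unop) q)
  map f := AddCommGrpCat.ofHom (phiMap P Z F q f.unop)
  map_id T := by
    ext x
    exact phiMap_id P Z F q T.unop x
  map_comp f g := by
    ext x
    exact phiMap_comp P Z F q g.unop f.unop x

end Groth.Agent.Helper3.DescPhi
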