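import Mathlib
import Groth.Prelude.Def_EtBase
import Groth.Prelude.Def_EtCore
import Groth.Agent.Lib.Helper3.DescEt2
import Groth.Agent.Lib.Helper3.DescPhi
import Groth.Agent.Lib.Helper5.Misc.LanFlat
/-!
# The pull-back system of abelian étale sheaves on schemes over `Y`
-/
set_option autoImplicit false
universe u
open CategoryTheory CategoryTheory.Limits Opposite AlgebraicGeometry Functor

namespace Groth.Agent.Helper3.DescEt3

open Groth.Agent.Helper3.DescEt1 Groth.Agent.Helper3.DescEt2 Groth.Agent.Helper3.DescCoh2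
  Groth.Agent.Helper3.DescPhi

section Basic
variable {X Y : Scheme.{u}} (f : X ⟶ Y)

theorem ab5Ab : AB5OfSize.{u, u + 1} AddCommGrpCat.{u + 1} :=
  AB5OfSize_shrink.{u, u + 1, u + 1, u + 1} AddCommGrpCat.{u + 1}

instance pull_preservesFiniteLimits : PreservesFiniteLimits (EtCoh.pull f) := by
  have := ab5Ab.{u}
  exact Groth.Agent.Lib.Helper5.Misc.LanFlat.preservesFiniteLimits_sheafPullback
    (EtCoh.bc f) AddCommGrpCat.{u + 1} _ _

/-- the adjunction `f⁻¹ ⊣ f_*` -/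
noncomputable abbrev adj : EtCoh.pull f ⊣ EtCoh.push f := EtCoh.pullPushAdj f

end Basic

section Coh

variable {T'' T' T S : Scheme.{u}}

/-- the compositor `t⁻¹ ⋙ φ⁻¹ ≅ t'⁻¹` for `φ ≫ t = t'` -/
noncomputable def cI (φ : T' ⟶ T) (t : T ⟶ S) (t' : T' ⟶ S) (w : φ ≫ t = t') :
    EtCoh.pull t ⋙ EtCoh.pull φ ≅ EtCoh.pull t' :=
  mateIso (adj t') ((adj t).comp (adj φ)) (kpush φ t t' w).symm

/-- the unitor `(𝟙)⁻¹ ≅ 𝟭` -/
noncomputable def uI (T : Scheme.{u}) : EtCoh.pull (𝟙 T) ≅ 𝟭 (EtCoh.Ab T) :=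
  mateIso Adjunction.id (adj (𝟙 T)) (kI T).symm

theorem cI_comp (ψ : T'' ⟶ T') (φ : T' ⟶ T) (t : T ⟶ S) (t' : T' ⟶ S) (t'' : T'' ⟶ S)
    (w₁ : φ ≫ t = t') (w₂ : ψ ≫ t' = t'') (w₃ : (ψ ≫ φ) ≫ t = t'') (G : EtCoh.Ab S) :
    (EtCoh.pull ψ).map ((cI φ t t' w₁).hom.app G) ≫ (cI ψ t' t'' w₂).hom.app G =
      (cI ψ φ (ψ ≫ φ) rfl).hom.app ((EtCoh.pull t).obj G) ≫ (cI (ψ ≫ φ) t t'' w₃).hom.app G := by
  have h := congrArg (fun α => α.app G) (assoc_coh (adj t) (adj φ) (adj ψ) (adj t')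
    (adj (ψ ≫ φ)) (adj t'') (kpush φ t t' w₁).inv (kpush ψ φ (ψ ≫ φ) rfl).inv
    (kpush ψ t' t'' w₂).inv (kpush (ψ ≫ φ) t t'' w₃).inv (kpush_cocycle ψ φ t t' t'' w₁ w₂ w₃))
  simp only [NatTrans.comp_app, Functor.whiskerRight_app, Functor.whiskerLeft_app,
    Functor.associator_hom_app, Category.id_comp] at h
  exact h

theorem cI_id (t : T ⟶ S) (w : 𝟙 T ≫ t = t) (G : EtCoh.Ab S) :
    (cI (𝟙 T) t t w).hom.app G = (uI T).hom.app ((EtCoh.pull t).obj G) := by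
  have h := congrArg (fun α => α.app G) (unit_coh (adj t) (adj (𝟙 T)) (kpush (𝟙 T) t t w).inv
    (kI T).inv (kpush_unit t w))
  simp only [NatTrans.comp_app, Functor.whiskerLeft_app, Functor.rightUnitor_hom_app,
    Category.comp_id] at h
  exact h

end Coh

section Sys

variable (S : Scheme.{u})

/-- abelian étale sheaves on schemes over `S`, with inverse images -/
noncomputable def pullSys : PullSys.{u + 1} (fun T : Over S => EtCoh.Ab T.left) where
  L φ := EtCoh.pull φ.left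
  additive φ := inferInstance
  lex φ := inferInstance
  rex φ := inferInstance
  m ψ φ := cI ψ.left φ.left (ψ ≫ φ).left rfl
  u T := uI T.left

/-- the cartesian section `T ↦ t⁻¹ G` attached to a sheaf on `S` -/
noncomputable def cartSec (G : EtCoh.Ab S) : CartSec (pullSys S) where
  obj T := (EtCoh.pull T.hom).obj G
  c {T' T} φ := (cI φ.left T.hom T'.hom (Over.w φ)).app G
  c_comp {T'' T' T} ψ φ :=
    cI_comp ψ.left φ.left T.hom T'.hom T''.hom (Over.w φ) (Over.w ψ) (Over.w (ψ ≫ φ)) G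
  c_id T := cI_id T.hom (Over.w (𝟙 T)) G

end Sys

end Groth.Agent.Helper3.DescEt3
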