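import Mathlib
/-!
# An augmented simplicial object as an augmented simplicial object over its augmentation
-/
set_option autoImplicit false
universe v u
open CategoryTheory CategoryTheory.Limits Opposite Simplicial
open CategoryTheory.SimplicialObject CategoryTheory.SimplicialObject.Augmented

namespace Groth.Agent.Helper3.DescOver

variable {C : Type u} [Category.{v} C] (X : SimplicialObject.Augmented C)

lemma hom_w {m n : SimplexCategoryᵒᵖ} (φ : m ⟶ n) :
    X.left.map φ ≫ X.hom.app n = X.hom.app m := by
  have h := X.hom.naturality φ
  simpa using h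

/-- the simplicial object of `Over X.right` -/
def left : SimplicialObject (Over X.right) where
  obj n := Over.mk (X.hom.app n)
  map φ := Over.homMk (X.left.map φ) (hom_w X φ)
  map_id n := by
    ext
    simp
  map_comp φ ψ := by
    ext
    simp

/-- the augmented simplicial object of `Over X.right` -/
def toOver : SimplicialObject.Augmented (Over X.right) where
  left := left X
  right := Over.mk (𝟙 X.right)
  hom :=
    { app := fun n => Over.homMk (X.hom.app n) (by simp [left])
      naturality := fun m n φ => by
        ext
        simp [left, hom_w] }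

lemma toOver_left_obj (n : SimplexCategoryᵒᵖ) : (toOver X).left.obj n = Over.mk (X.hom.app n) := rfl

lemma toOver_right : (toOver X).right = Over.mk (𝟙 X.right) := rfl

variable {X}

lemma s_w (ed : ExtraDegeneracy X) (n : ℕ) :
    ed.s n ≫ X.hom.app (op ⦋n + 1⦌) = X.hom.app (op ⦋n⦌) := by
  have h1 : X.left.δ (0 : Fin (n + 2)) ≫ X.hom.app (op ⦋n⦌) = X.hom.app (op ⦋n + 1⦌) :=
    hom_w X _
  rw [← h1, ← Category.assoc, ed.s_comp_δ₀, Category.id_comp]

/-- the extra degeneracy over the augmentation -/
def toOverED (ed : ExtraDegeneracy X) : ExtraDegeneracy (toOver X) where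
  s' := Over.homMk ed.s' (by
    have := ed.s'_comp_ε
    simpa [toOver, left] using this)
  s n := Over.homMk (ed.s n) (s_w ed n)
  s'_comp_ε := by
    ext
    exact ed.s'_comp_ε
  s₀_comp_δ₁ := by
    ext
    exact ed.s₀_comp_δ₁
  s_comp_δ₀ n := by
    ext
    exact ed.s_comp_δ₀ n
  s_comp_δ n i := by
    ext
    exact ed.s_comp_δ n i
  s_comp_σ n i := by
    ext
    exact ed.s_comp_σ n i

end Groth.Agent.Helper3.DescOver
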