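import Mathlib
import Groth.Prelude.Def_SpSeq
import Groth.Agent.Lib.Helper1.SpSeqL
/-!
# A spectral sequence starting at page one whose rows are resolutions

Given complexes `K q` (the rows of the first page) whose cohomology is concentrated in degree `0`,
we build the (degenerate at `E₂`) spectral sequence with `E₁^{p,q} = (K q)^p`, abutting to
`H^0(K n)`.
-/
set_option autoImplicit false
universe v u
open CategoryTheory CategoryTheory.Limits

namespace Groth.Agent.Helper3.DescSS

variable {C : Type u} [Category.{v} C] [Abelian C]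

section Page

variable (K : ℤ → CochainComplex C ℤ)

/-- the differential of the first page -/
noncomputable def rowD (pq pq' : ℤ × ℤ) : (K pq.2).X pq.1 ⟶ (K pq'.2).X pq'.1 :=
  if h : pq.2 = pq'.2 then (K pq.2).d pq.1 pq'.1 ≫ eqToHom (by rw [h]) else 0

lemma rowD_same (p p' q : ℤ) : rowD K (p, q) (p', q) = (K q).d p p' := by
  simp [rowD]

lemma rowD_ne (pq pq' : ℤ × ℤ) (h : pq.2 ≠ pq'.2) : rowD K pq pq' = 0 := by
  rw [rowD, dif_neg h]

lemma rowD_comp (pq pq' pq'' : ℤ × ℤ) : rowD K pq pq' ≫ rowD K pq' pq'' = 0 := by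
  obtain ⟨p, q⟩ := pq
  obtain ⟨p', q'⟩ := pq'
  obtain ⟨p'', q''⟩ := pq''
  by_cases h : q = q'
  · subst h
    by_cases h' : q = q''
    · subst h'
      rw [rowD_same, rowD_same, HomologicalComplex.d_comp_d]
    · rw [rowD_ne K (p', q) (p'', q'') h', comp_zero]
  · rw [rowD_ne K (p, q) (p', q') h, zero_comp]

/-- the first page: rows are the complexes `K q` -/
noncomputable def rowCx : HomologicalComplex C (ComplexShape.up' (⟨1, 1 - 1⟩ : ℤ × ℤ)) where
  X pq := (K pq.2).X pq.1
  d pq pq' := rowD K pq pq'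
  shape pq pq' hrel := by
    obtain ⟨p, q⟩ := pq
    obtain ⟨p', q'⟩ := pq'
    by_cases h : q = q'
    · subst h
      rw [rowD_same]
      apply (K q).shape
      intro h'
      apply hrel
      change (p, q) + ((1 : ℤ), (1 : ℤ) - 1) = (p', q)
      change p + 1 = p' at h'
      ext
      · simpa using h'
      · simp
    · exact rowD_ne K _ _ h
  d_comp_d' pq pq' pq'' _ _ := rowD_comp K pq pq' pq''

/-- the later pages: cohomology of the rows, zero differentials -/
noncomputable def zeroCx (r : ℤ) : HomologicalComplex C (ComplexShape.up' (⟨r, 1 - r⟩ : ℤ × ℤ)) where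
  X pq := (K pq.2).homology pq.1
  d _ _ := 0
  shape _ _ _ := rfl
  d_comp_d' _ _ _ _ _ := zero_comp

/-- the pages -/
noncomputable def pg (r : ℤ) : HomologicalComplex C (ComplexShape.up' (⟨r, 1 - r⟩ : ℤ × ℤ)) :=
  if h : r = 1 then h ▸ rowCx K else zeroCx K r

lemma pg_one : pg K 1 = rowCx K := by
  unfold pg
  rw [dif_pos rfl]

lemma pg_ne (r : ℤ) (h : r ≠ 1) : pg K r = zeroCx K r := by
  unfold pg
  rw [dif_neg h]

lemma pg_d_eq_zero (r : ℤ) (h : r ≠ 1) (a b : ℤ × ℤ) : (pg K r).d a b = 0 := by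
  rw [pg_ne K r h]
  rfl

/-- the homology of the first page -/
lemma prev_rel (p q : ℤ) :
    (ComplexShape.up' (⟨1, 1 - 1⟩ : ℤ × ℤ)).prev (p, q) = (p - 1, q) := by
  apply ComplexShape.prev_eq'
  change (p - 1, q) + ((1 : ℤ), (1 : ℤ) - 1) = (p, q)
  ext <;> simp

lemma next_rel (p q : ℤ) :
    (ComplexShape.up' (⟨1, 1 - 1⟩ : ℤ × ℤ)).next (p, q) = (p + 1, q) := by
  apply ComplexShape.next_eq'
  change (p, q) + ((1 : ℤ), (1 : ℤ) - 1) = (p + 1, q)
  ext <;> simp

/-- comparison of the short complexes -/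
noncomputable def scIso (p q : ℤ) :
    (rowCx K).sc' (p - 1, q) (p, q) (p + 1, q) ≅ (K q).sc' (p - 1) p (p + 1) :=
  ShortComplex.isoMk (Iso.refl _) (Iso.refl _) (Iso.refl _)
    (by
      change 𝟙 _ ≫ (K q).d (p - 1) p = rowD K (p - 1, q) (p, q) ≫ 𝟙 _
      rw [rowD_same, Category.comp_id, Category.id_comp])
    (by
      change 𝟙 _ ≫ (K q).d p (p + 1) = rowD K (p, q) (p + 1, q) ≫ 𝟙 _
      rw [rowD_same, Category.comp_id, Category.id_comp])

/-- the homology of the first page -/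
noncomputable def rowHomologyIso (p q : ℤ) : (rowCx K).homology (p, q) ≅ (K q).homology p :=
  (rowCx K).homologyIsoSc' (p - 1, q) (p, q) (p + 1, q) (prev_rel p q) (next_rel p q) ≪≫
    ShortComplex.homologyMapIso (scIso K p q) ≪≫
    ((K q).homologyIsoSc' (p - 1) p (p + 1) (by simp) (by simp)).symm

lemma nonempty_iso (r r' : ℤ) (pq : ℤ × ℤ) (hrr' : r + 1 = r') (hr : 1 ≤ r) :
    Nonempty ((pg K r).homology pq ≅ (pg K r').X pq) := by
  subst hrr'
  obtain ⟨p, q⟩ := pq
  by_cases h : r = 1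
  · subst h
    rw [pg_one, pg_ne K (1 + 1) (by norm_num)]
    exact ⟨rowHomologyIso K p q⟩
  · rw [pg_ne K r h, pg_ne K (r + 1) (by lia)]
    exact ⟨Groth.Agent.Helper1.SpSeqL.homologyIsoX (zeroCx K r) (p, q) rfl rfl⟩

/-- the spectral sequence -/
noncomputable def ss : CohomologicalSpectralSequence C 1 where
  page r _ := pg K r
  iso r r' pq hrr' hr := Classical.choice (nonempty_iso K r r' pq hrr' hr)

lemma ss_page (r : ℤ) (hr : 1 ≤ r) : (ss K).page r hr = pg K r := rfl

end Page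

section Abut

/-- the two-step filtration -/
noncomputable def filF (X : C) (p : ℤ) : Subobject X := if p ≤ 0 then ⊤ else ⊥

lemma filF_anti (X : C) : Antitone (filF X) := by
  intro p p' h
  unfold filF
  by_cases hp : p ≤ 0
  · rw [if_pos hp]
    exact le_top
  · rw [if_neg hp, if_neg (by lia)]

lemma isZero_grPiece_of_eq {X : C} (F : ℤ → Subobject X) (hF : Antitone F) (p : ℤ)
    (h : F p = F (p + 1)) : IsZero (SpSeq.grPiece F hF p) := by
  have hle : F (p + 1) ≤ F p := hF (Int.le_add_one le_rfl)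
  haveI : IsIso ((F (p + 1)).ofLE (F p) hle) := by
    refine ⟨(F p).ofLE (F (p + 1)) h.le, ?_, ?_⟩
    · rw [Subobject.ofLE_comp_ofLE]
      exact Subobject.ofLE_refl _
    · rw [Subobject.ofLE_comp_ofLE]
      exact Subobject.ofLE_refl _
  exact isZero_cokernel_of_epi _

variable (K : ℤ → CochainComplex C ℤ) (hK : ∀ q p, p ≠ 0 → IsZero ((K q).homology p))
  (H : ℤ → C) (e : ∀ n, Nonempty ((K n).homology 0 ≅ H n))

include hK e in
lemma nonempty_beta (p q n : ℤ) (hn : p + q = n) :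
    Nonempty ((K q).homology p ≅ SpSeq.grPiece (filF (H n)) (filF_anti (H n)) p) := by
  by_cases hp : p = 0
  · subst hp
    obtain rfl : q = n := by lia
    obtain ⟨i⟩ := Groth.Agent.Helper1.SpSeqL.nonempty_iso_grPiece_of_top_bot (filF (H q))
      (filF_anti (H q)) 0 (if_pos le_rfl) (if_neg (by norm_num))
    obtain ⟨j⟩ := e q
    exact ⟨j ≪≫ i⟩
  · refine ⟨(hK q p hp).iso (isZero_grPiece_of_eq _ _ p ?_)⟩
    unfold filF
    by_cases h0 : p ≤ 0
    · rw [if_pos h0, if_pos (by lia)]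
    · rw [if_neg h0, if_neg (by lia)]

include hK e in
theorem exists_ss_int (hb : ∀ q p, (p < 0 ∨ q < 0) → IsZero ((K q).X p)) :
    ∃ (E : CohomologicalSpectralSequence C 1) (a : SpSeq.Abutment E H),
      (∀ n, a.IsFinite n) ∧ SpSeq.IsBounded E ∧
        ∀ p q : ℤ, Nonempty ((E.page 1 le_rfl).X (p, q) ≅ (K q).X p) := by
  have hstat : ∀ pq : ℤ × ℤ, SpSeq.StationaryAt (ss K) pq 2 := by
    intro pq
    refine ⟨by norm_num, fun r' h₀ hr' => ⟨?_, ?_⟩⟩
    · exact pg_d_eq_zero K r' (by lia) _ _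
    · exact pg_d_eq_zero K r' (by lia) _ _
  have hβ : ∀ pq : ℤ × ℤ, Nonempty (((ss K).page 2 (hstat pq).1).X pq ≅
      SpSeq.grPiece (filF (H (pq.1 + pq.2))) (filF_anti (H (pq.1 + pq.2))) pq.1) := by
    intro pq
    rw [ss_page, pg_ne K 2 (by norm_num)]
    exact nonempty_beta K hK H e pq.1 pq.2 _ rfl
  refine ⟨ss K, ⟨fun n => filF (H n), fun n => filF_anti (H n), fun _ => 2, hstat,
    fun pq => Classical.choice (hβ pq)⟩, ?_, ?_, ?_⟩
  · intro n
    exact ⟨⟨0, (if_pos le_rfl : filF (H n) 0 = ⊤)⟩, ⟨1, (if_neg (by norm_num) : filF (H n) 1 = ⊥)⟩⟩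
  · intro n
    apply (Set.finite_Icc (0 : ℤ) n).subset
    intro p hp
    by_contra hp'
    apply hp
    rw [ss_page, pg_one]
    apply hb
    simp only [Set.mem_Icc, not_and_or, not_le] at hp'
    rcases hp' with h | h
    · exact Or.inl h
    · exact Or.inr (by lia)
  · intro p q
    rw [ss_page, pg_one]
    exact ⟨Iso.refl _⟩

end Abut

section Nat

variable (L : ℕ → CochainComplex C ℕ) (Z : C) (hZ : IsZero Z)

/-- the zero complex on a zero object -/
noncomputable def zeroC : CochainComplex C ℤ where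
  X _ := Z
  d _ _ := 0
  shape _ _ _ := rfl
  d_comp_d' _ _ _ _ _ := zero_comp

/-- the rows, extended by zero -/
noncomputable def rows (q : ℤ) : CochainComplex C ℤ :=
  if 0 ≤ q then (L q.toNat).extend ComplexShape.embeddingUpNat else zeroC Z

include hZ in
theorem exists_ss_nat (hL : ∀ q p, p ≠ 0 → IsZero ((L q).homology p))
    (H : ℤ → C) (e : ∀ n : ℕ, Nonempty ((L n).homology 0 ≅ H n))
    (hH : ∀ n : ℤ, n < 0 → IsZero (H n)) :
    ∃ (E : CohomologicalSpectralSequence C 1) (a : SpSeq.Abutment E H),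
      (∀ n, a.IsFinite n) ∧ SpSeq.IsBounded E ∧
        ∀ p q : ℤ, Nonempty ((E.page 1 le_rfl).X (p, q) ≅
          if 0 ≤ p ∧ 0 ≤ q then (L q.toNat).X p.toNat else Z) := by
  have hX : ∀ q p : ℤ, Nonempty ((rows L Z q).X p ≅
      if 0 ≤ p ∧ 0 ≤ q then (L q.toNat).X p.toNat else Z) := by
    intro q p
    unfold rows
    by_cases hq : 0 ≤ q
    · rw [if_pos hq]
      by_cases hp : 0 ≤ p
      · rw [if_pos ⟨hp, hq⟩]
        exact ⟨(L q.toNat).extendXIso ComplexShape.embeddingUpNat
          (show ComplexShape.embeddingUpNat.f p.toNat = p from Int.toNat_of_nonneg hp)⟩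
      · rw [if_neg (fun h => hp h.1)]
        refine ⟨IsZero.iso ((L q.toNat).isZero_extend_X ComplexShape.embeddingUpNat p ?_) hZ⟩
        intro i hi
        apply hp
        rw [← hi]
        exact Int.natCast_nonneg i
    · rw [if_neg hq, if_neg (fun h => hq h.2)]
      exact ⟨Iso.refl _⟩
  have hb : ∀ q p, (p < 0 ∨ q < 0) → IsZero ((rows L Z q).X p) := by
    intro q p h
    obtain ⟨i⟩ := hX q p
    rw [if_neg (by lia)] at i
    exact hZ.of_iso i
  have hK : ∀ q p, p ≠ 0 → IsZero ((rows L Z q).homology p) := by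
    intro q p hp
    by_cases hq : 0 ≤ q
    · by_cases hp0 : 0 ≤ p
      · have h1 : ComplexShape.embeddingUpNat.f p.toNat = p := Int.toNat_of_nonneg hp0
        have h2 : rows L Z q = (L q.toNat).extend ComplexShape.embeddingUpNat := if_pos hq
        rw [h2]
        refine (hL q.toNat p.toNat ?_).of_iso
          ((L q.toNat).extendHomologyIso ComplexShape.embeddingUpNat h1)
        intro h
        apply hp
        rw [← h1, h]
        rfl
      · apply Groth.Agent.Helper1.SpSeqL.isZero_homology_of_isZero_X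
        exact hb q p (Or.inl (by lia))
    · apply Groth.Agent.Helper1.SpSeqL.isZero_homology_of_isZero_X
      exact hb q p (Or.inr (by lia))
  have e' : ∀ n, Nonempty ((rows L Z n).homology 0 ≅ H n) := by
    intro n
    by_cases hn : 0 ≤ n
    · have h2 : rows L Z n = (L n.toNat).extend ComplexShape.embeddingUpNat := if_pos hn
      rw [h2]
      obtain ⟨i⟩ := e n.toNat
      have h3 : ((n.toNat : ℕ) : ℤ) = n := Int.toNat_of_nonneg hn
      rw [h3] at i
      exact ⟨(L n.toNat).extendHomologyIso ComplexShape.embeddingUpNat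
        (show ComplexShape.embeddingUpNat.f 0 = 0 from rfl) ≪≫ i⟩
    · refine ⟨IsZero.iso ?_ (hH n (by lia))⟩
      apply Groth.Agent.Helper1.SpSeqL.isZero_homology_of_isZero_X
      exact hb n 0 (Or.inr (by lia))
  obtain ⟨E, a, h1, h2, h3⟩ := exists_ss_int (rows L Z) hK H e' hb
  refine ⟨E, a, h1, h2, fun p q => ?_⟩
  obtain ⟨i⟩ := h3 p q
  obtain ⟨j⟩ := hX q p
  exact ⟨i ≪≫ j⟩

end Nat

end Groth.Agent.Helper3.DescSS
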