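import Mathlib
import Groth.Prelude.Def_CohTop
import Groth.Agent.Lib.Helper3.DescCoh
import Groth.Agent.Lib.Helper3.DescPhi
/-!
# The pull-back system of abelian sheaves on topological spaces over `S`
-/
set_option autoImplicit false
universe u
open CategoryTheory CategoryTheory.Limits Opposite TopologicalSpace

namespace Groth.Agent.Helper3.DescTop

open Groth.Agent.Helper3.DescPhi Groth.Agent.Helper3.DescCoh

section Basic
variable {X Y : TopCat.{u}} (f : X ⟶ Y)

set_option synthInstance.maxHeartbeats 200000 in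
instance pull_preservesFiniteLimits : PreservesFiniteLimits (CohTop.pull f) := by
  haveI : ReflectsLimits (forget AddCommGrpCat.{u}) := reflectsLimits_of_reflectsIsomorphisms
  haveI h1 : PreservesFiniteLimits ((Opens.map f).op.lan :
      ((Opens Y)ᵒᵖ ⥤ AddCommGrpCat.{u}) ⥤ ((Opens X)ᵒᵖ ⥤ AddCommGrpCat.{u})) :=
    lan_preservesFiniteLimits_of_flat (E := AddCommGrpCat.{u}) (Opens.map f)
  exact Functor.sheafPullbackConstruction.preservesFiniteLimits (Opens.map f) AddCommGrpCat.{u}
    (Opens.grothendieckTopology Y) (Opens.grothendieckTopology X)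

/-- the adjunction `f⁻¹ ⊣ f_*` -/
noncomputable def adj : CohTop.pull f ⊣ CohTop.push f :=
  TopCat.Sheaf.pullbackPushforwardAdjunction AddCommGrpCat.{u} f

instance pull_preservesFiniteColimits : PreservesFiniteColimits (CohTop.pull f) := by
  have := (adj f).leftAdjoint_preservesColimits
  infer_instance

instance pull_additive : (CohTop.pull f).Additive := (adj f).left_adjoint_additive

/-- transport of the adjunction along an equality of maps -/
noncomputable def adjOf (f g : X ⟶ Y) (h : f = g) : CohTop.pull g ⊣ CohTop.push f := by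
  subst h
  exact adj f

end Basic

section Coh

variable {T'' T' T S : TopCat.{u}}

/-- the compositor `t⁻¹ ⋙ φ⁻¹ ≅ t'⁻¹` for `φ ≫ t = t'` -/
noncomputable def cI (φ : T' ⟶ T) (t : T ⟶ S) (t' : T' ⟶ S) (w : φ ≫ t = t') :
    CohTop.pull t ⋙ CohTop.pull φ ≅ CohTop.pull t' :=
  Adjunction.leftAdjointUniq ((adj t).comp (adj φ)) (adjOf (φ ≫ t) t' w)

/-- the unitor `(𝟙)⁻¹ ≅ 𝟭` -/
noncomputable def uI (T : TopCat.{u}) : CohTop.pull (𝟙 T) ≅ 𝟭 (CohTop.Ab T) :=
  Adjunction.leftAdjointUniq (adj (𝟙 T)) Adjunction.id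

theorem cI_comp (ψ : T'' ⟶ T') (φ : T' ⟶ T) (t : T ⟶ S) (t' : T' ⟶ S) (t'' : T'' ⟶ S)
    (w₁ : φ ≫ t = t') (w₂ : ψ ≫ t' = t'') (w₃ : (ψ ≫ φ) ≫ t = t'') (G : CohTop.Ab S) :
    (CohTop.pull ψ).map ((cI φ t t' w₁).hom.app G) ≫ (cI ψ t' t'' w₂).hom.app G =
      (cI ψ φ (ψ ≫ φ) rfl).hom.app ((CohTop.pull t).obj G) ≫ (cI (ψ ≫ φ) t t'' w₃).hom.app G := by
  subst w₁
  subst w₂
  have h := congrArg (fun α => α.app G) (assoc_coh (adj t) (adj φ) (adj ψ) (adj (φ ≫ t))
    (adj (ψ ≫ φ)) (adj (ψ ≫ φ ≫ t)))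
  simp only [NatTrans.comp_app, Functor.whiskerRight_app, Functor.whiskerLeft_app,
    Functor.associator_hom_app, Category.id_comp] at h
  exact h

theorem cI_id (t : T ⟶ S) (w : 𝟙 T ≫ t = t) (G : CohTop.Ab S) :
    (cI (𝟙 T) t t w).hom.app G = (uI T).hom.app ((CohTop.pull t).obj G) := by
  have h := congrArg (fun α => α.app G) (unit_coh (adj t) (adj (𝟙 T)))
  simp only [NatTrans.comp_app, Functor.whiskerLeft_app, Functor.rightUnitor_hom_app,
    Category.comp_id] at h
  exact h

end Coh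

section Sys

variable (S : TopCat.{u})

/-- abelian sheaves on spaces over `S`, with inverse images -/
noncomputable def pullSys : PullSys.{u} (fun T : Over S => CohTop.Ab T.left) where
  L φ := CohTop.pull φ.left
  additive φ := inferInstance
  lex φ := inferInstance
  rex φ := inferInstance
  m ψ φ := cI ψ.left φ.left (ψ ≫ φ).left rfl
  u T := uI T.left

/-- the cartesian section `T ↦ t⁻¹ G` attached to a sheaf on `S` -/
noncomputable def cartSec (G : CohTop.Ab S) : CartSec (pullSys S) where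
  obj T := (CohTop.pull T.hom).obj G
  c {T' T} φ := (cI φ.left T.hom T'.hom (Over.w φ)).app G
  c_comp {T'' T' T} ψ φ :=
    cI_comp ψ.left φ.left T.hom T'.hom T''.hom (Over.w φ) (Over.w ψ) (Over.w (ψ ≫ φ)) G
  c_id T := cI_id T.hom (Over.w (𝟙 T)) G

end Sys

end Groth.Agent.Helper3.DescTop
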