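import Mathlib
import Groth.Prelude.Def_CohTop
import Groth.Prelude.Def_SpSeq
import Groth.Agent.Lib.Helper3.DescTop1
import Groth.Agent.Lib.Helper3.DescSS
import Groth.Agent.Lib.Helper3.DescCos
import Groth.Agent.Lib.Helper3.DescOver
/-!
# The descent spectral sequence of a continuous map with a section
-/
set_option autoImplicit false
universe u
open CategoryTheory CategoryTheory.Limits Opposite TopologicalSpace Abelian Simplicial

namespace Groth.Agent.Helper3.DescTop2

open Groth.Agent.Helper3.DescPhi Groth.Agent.Helper3.DescTop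

/-- the constant sheaf `ℤ` -/
noncomputable abbrev Zs (T : TopCat.{u}) : CohTop.Ab T :=
  (constantSheaf (Opens.grothendieckTopology T) AddCommGrpCat.{u}).obj
    (AddCommGrpCat.of (ULift.{u} ℤ))

section ExtIso
variable {C : Type (u + 1)} [Category.{u} C] [Abelian C] [HasExt.{u} C]

/-- `Ext` of isomorphic objects -/
noncomputable def extAddEquiv {X X' Y Y' : C} (a : X' ≅ X) (b : Y ≅ Y') (n : ℕ) :
    Ext.{u} X Y n ≃+ Ext.{u} X' Y' n where
  toFun x := conj a.hom b.hom x
  invFun x := conj a.inv b.inv x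
  left_inv x := by
    dsimp only
    rw [conj_conj, a.inv_hom_id, b.hom_inv_id, conj_id]
  right_inv x := by
    dsimp only
    rw [conj_conj, a.hom_inv_id, b.inv_hom_id, conj_id]
  map_add' x y := conj_add _ _ x y

end ExtIso

section PullConst
variable {T S : TopCat.{u}} (b : T ⟶ S)

/-- the adjunction between the constant sheaf on `T` and sections over `S` of the direct image -/
noncomputable def adjT : constantSheaf (Opens.grothendieckTopology T) AddCommGrpCat.{u} ⊣
    CohTop.push b ⋙ (sheafSections (Opens.grothendieckTopology S) AddCommGrpCat.{u}).obj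
      (op (⊤ : Opens S)) :=
  constantSheafAdj (Opens.grothendieckTopology T) AddCommGrpCat.{u}
    (isTerminalTop : IsTerminal (⊤ : Opens T))

/-- the inverse image of a constant sheaf is constant -/
noncomputable def pullConstIso :
    constantSheaf (Opens.grothendieckTopology S) AddCommGrpCat.{u} ⋙ CohTop.pull b ≅
      constantSheaf (Opens.grothendieckTopology T) AddCommGrpCat.{u} :=
  Adjunction.leftAdjointUniq
    ((constantSheafAdj (Opens.grothendieckTopology S) AddCommGrpCat.{u}
      (isTerminalTop : IsTerminal (⊤ : Opens S))).comp (adj b)) (adjT b)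

end PullConst

section Main

variable {X S : TopCat.{u}} (f : X ⟶ S) (s : S ⟶ X) (hs : s ≫ f = 𝟙 S) (F : CohTop.Ab S)

/-- the functor `T ↦ H^q(T, F|T)` on spaces over `S` -/
noncomputable abbrev Φ (q : ℕ) : (Over S)ᵒᵖ ⥤ AddCommGrpCat.{u} :=
  Phi (pullSys S) (cartSec S (Zs S)) (cartSec S F) q

/-- the value of `Φ` -/
noncomputable def ΦIso (q : ℕ) (T : Over S) :
    (Φ F q).obj (op T) ≅ AddCommGrpCat.of (CohTop.H ((CohTop.pull T.hom).obj F) q) :=
  (extAddEquiv ((pullConstIso T.hom).app (AddCommGrpCat.of (ULift.{u} ℤ))).symm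
    (Iso.refl _) q).toAddCommGrpIso

/-- the value of `Φ` on the base -/
noncomputable def ΦIsoBase (q : ℕ) :
    (Φ F q).obj (op (Over.mk (𝟙 S))) ≅ AddCommGrpCat.of (CohTop.H F q) :=
  (extAddEquiv ((uI S).app (Zs S)).symm ((uI S).app F) q).toAddCommGrpIso

include hs in
theorem main :
    ∃ (E : CohomologicalSpectralSequence AddCommGrpCat.{u} 1)
      (a : SpSeq.Abutment E (fun n : ℤ =>
        if 0 ≤ n then AddCommGrpCat.of (CohTop.H F n.toNat) else AddCommGrpCat.of PUnit.{u + 1})),
      (∀ n, a.IsFinite n) ∧ SpSeq.IsBounded E ∧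
      ∀ p q : ℤ, Nonempty ((E.page 1 le_rfl).X (p, q) ≅
        (if 0 ≤ p ∧ 0 ≤ q then
          AddCommGrpCat.of (CohTop.H ((CohTop.pull
            (WidePullback.base (fun _ : Fin (p.toNat + 1) => f) :
              widePullback S (fun _ : Fin (p.toNat + 1) => X) (fun _ => f) ⟶ S)).obj F) q.toNat)
         else AddCommGrpCat.of PUnit.{u + 1})) := by
  let A : Arrow TopCat.{u} := Arrow.mk f
  let N : SimplicialObject.Augmented TopCat.{u} := A.augmentedCechNerve
  let ed : SimplicialObject.Augmented.ExtraDegeneracy N :=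
    Arrow.AugmentedCechNerve.extraDegeneracy A ⟨s, hs⟩
  let NO : SimplicialObject.Augmented (Over S) := DescOver.toOver N
  let edO : SimplicialObject.Augmented.ExtraDegeneracy NO := DescOver.toOverED ed
  let L : ℕ → CochainComplex AddCommGrpCat.{u} ℕ := fun q => DescCos.cx (Φ F q) NO
  have hZ : IsZero (AddCommGrpCat.of PUnit.{u + 1}) := AddCommGrpCat.isZero_of_subsingleton _
  obtain ⟨E, a, h1, h2, h3⟩ := DescSS.exists_ss_nat L (AddCommGrpCat.of PUnit.{u + 1}) hZ
    (fun q p hp => DescCos.isZero_homology (Φ F q) edO p hp)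
    (fun n : ℤ =>
      if 0 ≤ n then AddCommGrpCat.of (CohTop.H F n.toNat) else AddCommGrpCat.of PUnit.{u + 1})
    (fun n => by
      obtain ⟨i⟩ := DescCos.nonempty_homology_zero (Φ F n) edO
      rw [if_pos (Int.natCast_nonneg n), Int.toNat_natCast]
      exact ⟨i ≪≫ ΦIsoBase F n⟩)
    (fun n hn => by
      rw [if_neg (by lia)]
      exact hZ)
  refine ⟨E, a, h1, h2, fun p q => ?_⟩
  obtain ⟨i⟩ := h3 p q
  refine ⟨i ≪≫ ?_⟩
  by_cases hpq : 0 ≤ p ∧ 0 ≤ q
  · rw [if_pos hpq, if_pos hpq]
    exact ΦIso F q.toNat (NO.left.obj (op ⦋p.toNat⦌))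
  · rw [if_neg hpq, if_neg hpq]

end Main

end Groth.Agent.Helper3.DescTop2
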