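import Mathlib
import Groth.Prelude.Def_EtBase
import Groth.Prelude.Def_EtCore
import Groth.Prelude.Def_SpSeq
import Groth.Agent.Lib.Helper3.DescEt3
import Groth.Agent.Lib.Helper3.DescSS
import Groth.Agent.Lib.Helper3.DescCos
import Groth.Agent.Lib.Helper3.DescOver
import Groth.Agent.Lib.Helper3.DescTop2
/-!
# The descent spectral sequence of a morphism of schemes with a section (étale cohomology)
-/
set_option autoImplicit false
universe u
open CategoryTheory CategoryTheory.Limits Opposite AlgebraicGeometry Abelian Simplicial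

namespace Groth.Agent.Helper3.DescEt4

open Groth.Agent.Helper3.DescPhi Groth.Agent.Helper3.DescEt3

section Main

variable {X Y : Scheme.{u}} (f : X ⟶ Y) (s : Y ⟶ X) (hs : s ≫ f = 𝟙 Y) (F : EtCoh.Ab Y)

/-- the functor `T ↦ H^q(T, F|T)` on schemes over `Y` -/
noncomputable abbrev Φ (q : ℕ) : (Over Y)ᵒᵖ ⥤ AddCommGrpCat.{u + 1} :=
  Phi (pullSys Y) (cartSec Y (EtCoh.const Y ℤ)) (cartSec Y F) q

/-- the value of `Φ` -/
noncomputable def ΦIso (q : ℕ) (T : Over Y) :
    (Φ F q).obj (op T) ≅ AddCommGrpCat.of (EtCoh.H T.left ((EtCoh.pull T.hom).obj F) q) :=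
  (DescTop2.extAddEquiv (EtCore.pullConst T.hom ℤ).symm (Iso.refl _) q).toAddCommGrpIso

/-- the value of `Φ` on the base -/
noncomputable def ΦIsoBase (q : ℕ) :
    (Φ F q).obj (op (Over.mk (𝟙 Y))) ≅ AddCommGrpCat.of (EtCoh.H Y F q) :=
  (DescTop2.extAddEquiv ((uI Y).app (EtCoh.const Y ℤ)).symm ((uI Y).app F) q).toAddCommGrpIso

include hs in
theorem main :
    ∃ (E : CohomologicalSpectralSequence AddCommGrpCat.{u + 1} 1)
      (a : SpSeq.Abutment E (fun n : ℤ =>
        if 0 ≤ n then AddCommGrpCat.of (EtCoh.H Y F n.toNat) else AddCommGrpCat.of PUnit.{u + 2})),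
      (∀ n, a.IsFinite n) ∧ SpSeq.IsBounded E ∧
      ∀ p q : ℤ, Nonempty ((E.page 1 le_rfl).X (p, q) ≅
        (if 0 ≤ p ∧ 0 ≤ q then
          AddCommGrpCat.of (EtCoh.H (widePullback Y (fun _ : Fin (p.toNat + 1) => X) (fun _ => f))
            ((EtCoh.pull (WidePullback.base (fun _ : Fin (p.toNat + 1) => f) :
              widePullback Y (fun _ : Fin (p.toNat + 1) => X) (fun _ => f) ⟶ Y)).obj F) q.toNat)
         else AddCommGrpCat.of PUnit.{u + 2})) := by
  let A : Arrow Scheme.{u} := Arrow.mk f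
  let N : SimplicialObject.Augmented Scheme.{u} := A.augmentedCechNerve
  let ed : SimplicialObject.Augmented.ExtraDegeneracy N :=
    Arrow.AugmentedCechNerve.extraDegeneracy A ⟨s, hs⟩
  let NO : SimplicialObject.Augmented (Over Y) := DescOver.toOver N
  let edO : SimplicialObject.Augmented.ExtraDegeneracy NO := DescOver.toOverED ed
  let L : ℕ → CochainComplex AddCommGrpCat.{u + 1} ℕ := fun q => DescCos.cx (Φ F q) NO
  have hZ : IsZero (AddCommGrpCat.of PUnit.{u + 2}) := AddCommGrpCat.isZero_of_subsingleton _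
  obtain ⟨E, a, h1, h2, h3⟩ := DescSS.exists_ss_nat L (AddCommGrpCat.of PUnit.{u + 2}) hZ
    (fun q p hp => DescCos.isZero_homology (Φ F q) edO p hp)
    (fun n : ℤ =>
      if 0 ≤ n then AddCommGrpCat.of (EtCoh.H Y F n.toNat) else AddCommGrpCat.of PUnit.{u + 2})
    (fun n => by
      obtain ⟨i⟩ := DescCos.nonempty_homology_zero (Φ F n) edO
      rw [if_pos (Int.natCast_nonneg n), Int.toNat_natCast]
      exact ⟨i ≪≫ ΦIsoBase F n⟩)
    (fun n hn => by
      rw [if_neg (by lia)]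
      exact hZ)
  refine ⟨E, a, h1, h2, fun p q => ?_⟩
  obtain ⟨i⟩ := h3 p q
  refine ⟨i ≪≫ ?_⟩
  by_cases hpq : 0 ≤ p ∧ 0 ≤ q
  · rw [if_pos hpq, if_pos hpq]
    exact ΦIso F q.toNat (NO.left.obj (op ⦋p.toNat⦌))
  · rw [if_neg hpq, if_neg hpq]

end Main

end Groth.Agent.Helper3.DescEt4
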