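import Mathlib

/-!
# Determinant lemmas: Sylvester identity for linear maps, block triangular determinants
-/

namespace Groth.Agent.Helper3.Det

universe u v w

section Ring

variable {E : Type*} [Ring E]

theorem tri_factor {p q V : E} (hpq : p + q = 1) (hp : p * p = p) (hV : q * V * p = 0) :
    V = (p + q * V * q) * (1 + p * V * q) * (p * V * p + q) ∧ q * p = 0 ∧ p * q = 0 ∧
      q * q = q := by
  have hq' : q = 1 - p := by rw [← hpq]; abel
  have hqp : q * p = 0 := by rw [hq', sub_mul, one_mul, hp, sub_self]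
  have hpq0 : p * q = 0 := by rw [hq', mul_sub, mul_one, hp, sub_self]
  have hq : q * q = q := by
    have : q * q = q * (1 - p) := by rw [← hq']
    rw [this, mul_sub, mul_one, hqp, sub_zero]
  refine ⟨?_, hqp, hpq0, hq⟩
  have e1 : (1 + p * V * q) * (p * V * p + q) = p * V * p + q + p * V * q := by
    have h1 : p * V * q * (p * V * p) = 0 := by
      have : p * V * q * (p * V * p) = p * V * (q * p) * (V * p) := by simp only [mul_assoc]
      rw [this, hqp]; simp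
    have h2 : p * V * q * q = p * V * q := by rw [mul_assoc, hq]
    rw [add_mul, one_mul, mul_add, h1, h2, zero_add]
  have e2 : (p + q * V * q) * (p * V * p + q + p * V * q) = p * V * p + p * V * q + q * V * q := by
    have h1 : p * (p * V * p) = p * V * p := by rw [← mul_assoc, ← mul_assoc, hp]
    have h3 : p * (p * V * q) = p * V * q := by rw [← mul_assoc, ← mul_assoc, hp]
    have h4 : q * V * q * (p * V * p) = 0 := by
      have : q * V * q * (p * V * p) = q * V * (q * p) * (V * p) := by simp only [mul_assoc]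
      rw [this, hqp]; simp
    have h5 : q * V * q * q = q * V * q := by rw [mul_assoc, hq]
    have h6 : q * V * q * (p * V * q) = 0 := by
      have : q * V * q * (p * V * q) = q * V * (q * p) * (V * q) := by simp only [mul_assoc]
      rw [this, hqp]; simp
    simp only [add_mul, mul_add, h1, hpq0, h3, h4, h5, h6]
    abel
  have e3 : V = p * V * p + p * V * q + q * V * q := by
    calc V = (p + q) * V * (p + q) := by rw [hpq, one_mul, mul_one]
      _ = p * V * p + p * V * q + q * V * p + q * V * q := by noncomm_ring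
      _ = _ := by rw [hV, add_zero]
  rw [mul_assoc, e1, e2]
  exact e3

end Ring

variable {R : Type u} [CommRing R]
variable {M : Type v} [AddCommGroup M] [Module R M] [Module.Free R M] [Module.Finite R M]
variable {N : Type w} [AddCommGroup N] [Module R N] [Module.Free R N] [Module.Finite R N]

/-- Sylvester / Weinstein–Aronszajn identity for linear maps between finite free modules. -/
theorem det_one_add_comp_comm (A : N →ₗ[R] M) (B : M →ₗ[R] N) :
    LinearMap.det (LinearMap.id + A ∘ₗ B) = LinearMap.det (LinearMap.id + B ∘ₗ A) := by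
  classical
  let bM := Module.Free.chooseBasis R M
  let bN := Module.Free.chooseBasis R N
  rw [← LinearMap.det_toMatrix bM, ← LinearMap.det_toMatrix bN]
  rw [map_add, map_add, LinearMap.toMatrix_id, LinearMap.toMatrix_id,
    LinearMap.toMatrix_comp bM bN bM, LinearMap.toMatrix_comp bN bM bN]
  exact Matrix.det_one_add_mul_comm _ _

/-- Determinant of a block triangular endomorphism with respect to a decomposition by
complementary idempotents (the summands need not be free). -/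
theorem det_tri {p q V : Module.End R M} (hpq : p + q = 1) (hp : p * p = p)
    (hV : q * V * p = 0) :
    LinearMap.det V = LinearMap.det (p * V * p + q) * LinearMap.det (p + q * V * q) := by
  obtain ⟨hfac, hqp, -, -⟩ := tri_factor hpq hp hV
  have hmid : LinearMap.det (1 + p * V * q) = 1 := by
    have h := det_one_add_comp_comm (R := R) (M := M) (N := M) (p * V) q
    have h0 : q ∘ₗ (p * V) = 0 := by
      change q * (p * V) = 0
      rw [← mul_assoc, hqp, zero_mul]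
    rw [h0, add_zero] at h
    have : (1 : Module.End R M) + p * V * q = LinearMap.id + (p * V) ∘ₗ q := rfl
    rw [this, h]
    exact LinearMap.det_id
  conv_lhs => rw [hfac]
  rw [map_mul, map_mul, hmid, mul_one, mul_comm]

variable {N₂ : Type w} [AddCommGroup N₂] [Module R N₂] [Module.Free R N₂] [Module.Finite R N₂]

/-- Determinant of a block triangular endomorphism with respect to a decomposition into
free summands. -/
theorem det_block (ι₁ : N →ₗ[R] M) (π₁ : M →ₗ[R] N) (ι₂ : N₂ →ₗ[R] M) (π₂ : M →ₗ[R] N₂)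
    (h₁ : π₁ ∘ₗ ι₁ = LinearMap.id) (h₂ : π₂ ∘ₗ ι₂ = LinearMap.id)
    (hs : ι₁ ∘ₗ π₁ + ι₂ ∘ₗ π₂ = LinearMap.id)
    (V : M →ₗ[R] M) (hV : π₂ ∘ₗ V ∘ₗ ι₁ = 0) :
    LinearMap.det V = LinearMap.det (π₁ ∘ₗ V ∘ₗ ι₁) * LinearMap.det (π₂ ∘ₗ V ∘ₗ ι₂) := by
  let p : Module.End R M := ι₁ ∘ₗ π₁
  let q : Module.End R M := ι₂ ∘ₗ π₂
  have hpq : p + q = 1 := hs
  have hp : p * p = p := by
    change (ι₁ ∘ₗ π₁) ∘ₗ (ι₁ ∘ₗ π₁) = ι₁ ∘ₗ π₁
    rw [LinearMap.comp_assoc, ← LinearMap.comp_assoc π₁ ι₁ π₁, h₁, LinearMap.id_comp]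
  have hq : q * q = q := by
    change (ι₂ ∘ₗ π₂) ∘ₗ (ι₂ ∘ₗ π₂) = ι₂ ∘ₗ π₂
    rw [LinearMap.comp_assoc, ← LinearMap.comp_assoc π₂ ι₂ π₂, h₂, LinearMap.id_comp]
  have hV' : q * V * p = 0 := by
    change ((ι₂ ∘ₗ π₂) ∘ₗ V) ∘ₗ (ι₁ ∘ₗ π₁) = 0
    have : ((ι₂ ∘ₗ π₂) ∘ₗ V) ∘ₗ (ι₁ ∘ₗ π₁) = ι₂ ∘ₗ (π₂ ∘ₗ V ∘ₗ ι₁) ∘ₗ π₁ := by
      simp only [LinearMap.comp_assoc]
    rw [this, hV, LinearMap.zero_comp, LinearMap.comp_zero]
  rw [det_tri hpq hp hV']
  have hx1 : ∀ x, ι₁ (π₁ x) + ι₂ (π₂ x) = x := fun x => LinearMap.congr_fun hs x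
  have key1 : p * V * p + q
      = LinearMap.id + ι₁ ∘ₗ ((π₁ ∘ₗ V ∘ₗ ι₁ - LinearMap.id) ∘ₗ π₁) := by
    ext x
    have hx := eq_sub_of_add_eq' (hx1 x)
    simp only [p, q, Module.End.mul_apply, LinearMap.add_apply, LinearMap.comp_apply,
      LinearMap.sub_apply, LinearMap.id_apply, map_sub]
    rw [hx]; abel
  have key2 : p + q * V * q
      = LinearMap.id + ι₂ ∘ₗ ((π₂ ∘ₗ V ∘ₗ ι₂ - LinearMap.id) ∘ₗ π₂) := by
    ext x
    have hx := eq_sub_of_add_eq (hx1 x)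
    simp only [p, q, Module.End.mul_apply, LinearMap.add_apply, LinearMap.comp_apply,
      LinearMap.sub_apply, LinearMap.id_apply, map_sub]
    rw [hx]; abel
  rw [key1, key2, det_one_add_comp_comm ι₁, det_one_add_comp_comm ι₂]
  congr 2
  · rw [LinearMap.comp_assoc, h₁, LinearMap.comp_id]; abel
  · rw [LinearMap.comp_assoc, h₂, LinearMap.comp_id]; abel

variable {M₂ : Type w} [AddCommGroup M₂] [Module R M₂] [Module.Free R M₂] [Module.Finite R M₂]

/-- The degreewise determinant factorization for a contractible complex. -/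
theorem det_deg (p₁ q₁ V₁ : Module.End R M) (V₂ : Module.End R M₂) (d : M →ₗ[R] M₂)
    (s : M₂ →ₗ[R] M)
    (h1 : p₁ + q₁ = 1) (h2 : p₁ * p₁ = p₁) (h3 : q₁ * V₁ * p₁ = 0) (h4 : q₁ = s ∘ₗ d)
    (h5 : (d ∘ₗ s) ∘ₗ (d ∘ₗ s) = d ∘ₗ s) (h6 : V₂ ∘ₗ d = d ∘ₗ V₁) :
    LinearMap.det V₁ = LinearMap.det (1 + (V₁ - 1) * p₁) *
      LinearMap.det (1 + (V₂ - 1) * (d ∘ₗ s : Module.End R M₂)) := by
  obtain ⟨-, hqp, hpq0, hq⟩ := tri_factor h1 h2 h3
  rw [det_tri h1 h2 h3]
  have hq' : q₁ = 1 - p₁ := by rw [← h1]; abel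
  have hpVp : p₁ * V₁ * p₁ = V₁ * p₁ := by
    have h : (p₁ + q₁) * V₁ * p₁ = V₁ * p₁ := by rw [h1, one_mul]
    rw [add_mul, add_mul, h3, add_zero] at h
    exact h
  have key1 : p₁ * V₁ * p₁ + q₁ = 1 + (V₁ - 1) * p₁ := by
    rw [hpVp, hq']; noncomm_ring
  have key2 : p₁ + q₁ * V₁ * q₁ = LinearMap.id + s ∘ₗ (d ∘ₗ (V₁ - 1) ∘ₗ s ∘ₗ d) := by
    have e : s ∘ₗ (d ∘ₗ (V₁ - 1) ∘ₗ s ∘ₗ d) = q₁ * (V₁ - 1) * q₁ := by
      rw [h4]
      change _ = ((s ∘ₗ d) ∘ₗ (V₁ - 1)) ∘ₗ (s ∘ₗ d)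
      simp only [LinearMap.comp_assoc]
    rw [e]
    have : q₁ * (V₁ - 1) * q₁ = q₁ * V₁ * q₁ - q₁ := by
      rw [mul_sub, sub_mul, mul_one, hq]
    rw [this]
    change _ = 1 + (q₁ * V₁ * q₁ - q₁)
    rw [← h1]; abel
  rw [key1, key2, det_one_add_comp_comm s]
  congr 2
  have e1 : d ∘ₗ (V₁ - 1) = (V₂ - 1) ∘ₗ d := by
    rw [LinearMap.comp_sub, LinearMap.sub_comp, h6]
    rfl
  have : (d ∘ₗ (V₁ - 1) ∘ₗ s ∘ₗ d) ∘ₗ s = (V₂ - 1) ∘ₗ ((d ∘ₗ s) ∘ₗ (d ∘ₗ s)) := by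
    have : (d ∘ₗ (V₁ - 1) ∘ₗ s ∘ₗ d) ∘ₗ s = (d ∘ₗ (V₁ - 1)) ∘ₗ (s ∘ₗ d ∘ₗ s) := by
      simp only [LinearMap.comp_assoc]
    rw [this, e1]
    simp only [LinearMap.comp_assoc]
  rw [this, h5]
  rfl

end Groth.Agent.Helper3.Det
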