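import Mathlib
import Groth.Prelude.Def_SGA4hB
import Groth.Agent.Lib.Helper3.Det1

/-!
# Characteristic series of contractible complexes
-/

open CategoryTheory Polynomial TensorProduct

namespace Groth.Agent.Helper3.Det

universe u

section Finprod

variable {R : Type*} [CommMonoid R]

/-- the shift-by-one bijection between even and odd integers -/
def evenOddEquiv : {i : ℤ // Even i} ≃ {j : ℤ // Odd j} where
  toFun i := ⟨i.1 + 1, i.2.add_one⟩
  invFun j := ⟨j.1 - 1, j.2.sub_odd odd_one⟩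
  left_inv i := by ext; simp
  right_inv j := by ext; simp

/-- the shift-by-one bijection between odd and even integers -/
def oddEvenEquiv : {i : ℤ // Odd i} ≃ {j : ℤ // Even j} where
  toFun i := ⟨i.1 + 1, i.2.add_one⟩
  invFun j := ⟨j.1 - 1, j.2.sub_odd odd_one⟩
  left_inv i := by ext; simp
  right_inv j := by ext; simp

lemma hasFiniteMulSupport_comp_of_injective {α β : Type*} (x : β → R) (g : α → β)
    (hg : Function.Injective g) (hx : (Function.mulSupport x).Finite) :
    Function.HasFiniteMulSupport (fun a => x (g a)) := by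
  have : Function.mulSupport (fun a => x (g a)) = g ⁻¹' Function.mulSupport x :=
    Function.mulSupport_comp_eq_preimage x g
  show (Function.mulSupport (fun a => x (g a))).Finite
  rw [this]
  exact hx.preimage hg.injOn

lemma finprod_even_mul (x y : ℤ → R) (hx : (Function.mulSupport x).Finite)
    (hy : (Function.mulSupport y).Finite) :
    ∏ᶠ i : {i : ℤ // Even i}, (y i.1 * x (i.1 + 1)) =
      (∏ᶠ i : {i : ℤ // Even i}, y i.1) * ∏ᶠ j : {j : ℤ // Odd j}, x j.1 := by
  rw [finprod_mul_distrib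
    (hasFiniteMulSupport_comp_of_injective y _ Subtype.val_injective hy)
    (hasFiniteMulSupport_comp_of_injective x (fun i : {i : ℤ // Even i} => i.1 + 1)
      (fun a b h => Subtype.ext (by simpa using h)) hx)]
  congr 1
  exact finprod_comp_equiv evenOddEquiv (f := fun j : {j : ℤ // Odd j} => x j.1)

lemma finprod_odd_mul (x y : ℤ → R) (hx : (Function.mulSupport x).Finite)
    (hy : (Function.mulSupport y).Finite) :
    ∏ᶠ i : {i : ℤ // Odd i}, (y i.1 * x (i.1 + 1)) =
      (∏ᶠ i : {i : ℤ // Odd i}, y i.1) * ∏ᶠ j : {j : ℤ // Even j}, x j.1 := by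
  rw [finprod_mul_distrib
    (hasFiniteMulSupport_comp_of_injective y _ Subtype.val_injective hy)
    (hasFiniteMulSupport_comp_of_injective x (fun i : {i : ℤ // Odd i} => i.1 + 1)
      (fun a b h => Subtype.ext (by simpa using h)) hx)]
  congr 1
  exact finprod_comp_equiv oddEvenEquiv (f := fun j : {j : ℤ // Even j} => x j.1)

end Finprod

variable {A : Type u} [CommRing A]

/-- base change to `A[X]` of a morphism of modules -/
noncomputable abbrev bcm {M N : ModuleCat.{u} A} (g : M ⟶ N) :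
    A[X] ⊗[A] M →ₗ[A[X]] A[X] ⊗[A] N := g.hom.baseChange A[X]

lemma bcm_comp {M N P : ModuleCat.{u} A} (f : M ⟶ N) (g : N ⟶ P) :
    bcm (f ≫ g) = bcm g ∘ₗ bcm f := by
  simp only [bcm, ModuleCat.hom_comp, LinearMap.baseChange_comp]

lemma bcm_id (M : ModuleCat.{u} A) : bcm (𝟙 M) = LinearMap.id := by
  simp only [bcm, ModuleCat.hom_id, LinearMap.baseChange_id]

lemma bcm_add {M N : ModuleCat.{u} A} (f g : M ⟶ N) : bcm (f + g) = bcm f + bcm g := by
  simp only [bcm, ModuleCat.hom_add, LinearMap.baseChange_add]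

lemma bcm_sub {M N : ModuleCat.{u} A} (f g : M ⟶ N) : bcm (f - g) = bcm f - bcm g := by
  simp only [bcm, ModuleCat.hom_sub, LinearMap.baseChange_sub]

lemma bcm_zero (M N : ModuleCat.{u} A) : bcm (0 : M ⟶ N) = 0 := by
  simp only [bcm, ModuleCat.hom_zero, LinearMap.baseChange_zero]

/-- the endomorphism `1 - X u` of `A[X] ⊗ M` -/
noncomputable def vv {M : ModuleCat.{u} A} (f : M ⟶ M) : Module.End A[X] (A[X] ⊗[A] M) :=
  LinearMap.id - (X : A[X]) • bcm f

lemma detOneSub_eq (M : ModuleCat.{u} A) (f : M ⟶ M) :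
    SGA4h.detOneSub M f = LinearMap.det (vv f) := rfl

lemma vv_comm {M N : ModuleCat.{u} A} (g : M ⟶ N) (f : M ⟶ M) (f' : N ⟶ N)
    (h : g ≫ f' = f ≫ g) : vv f' ∘ₗ bcm g = bcm g ∘ₗ vv f := by
  unfold vv
  rw [LinearMap.sub_comp, LinearMap.comp_sub, LinearMap.id_comp, LinearMap.comp_id,
    LinearMap.smul_comp, LinearMap.comp_smul, ← bcm_comp, ← bcm_comp, h]

lemma detOneSub_eq_one_of_isZero (M : ModuleCat.{u} A) (f : M ⟶ M) (h : Limits.IsZero M) :
    SGA4h.detOneSub M f = 1 := by
  haveI := ModuleCat.subsingleton_of_isZero h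
  rw [detOneSub_eq]
  exact LinearMap.det_eq_one_of_subsingleton _

section Contractible

variable {C : CochainComplex (ModuleCat.{u} A) ℤ} (s : Homotopy (𝟙 C) 0)

include s in
lemma dNext_add_prevD (i : ℤ) : dNext i s.hom + prevD i s.hom = 𝟙 (C.X i) := by
  have h := s.comm i
  rw [HomologicalComplex.id_f, HomologicalComplex.zero_f, add_zero] at h
  exact h.symm

lemma d_s_d (j i : ℤ) (h : j + 1 = i) : C.d j i ≫ s.hom i j ≫ C.d j i = C.d j i := by
  have h1 := dNext_add_prevD s j
  rw [dNext_eq s.hom (show (ComplexShape.up ℤ).Rel j i from h),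
    prevD_eq s.hom (show (ComplexShape.up ℤ).Rel (j - 1) j by simp)] at h1
  calc C.d j i ≫ s.hom i j ≫ C.d j i
      = (C.d j i ≫ s.hom i j + s.hom j (j - 1) ≫ C.d (j - 1) j) ≫ C.d j i := by
        simp [Preadditive.add_comp]
    _ = 𝟙 _ ≫ C.d j i := by rw [h1]
    _ = _ := Category.id_comp _

lemma prevD_idem (i : ℤ) : prevD i s.hom ≫ prevD i s.hom = prevD i s.hom := by
  rw [prevD_eq s.hom (show (ComplexShape.up ℤ).Rel (i - 1) i by simp)]
  rw [Category.assoc, d_s_d s (i - 1) i (by simp)]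

variable (U : C ⟶ C)

/-- the auxiliary factor `z i = det(1 + (V_i - 1) p_i)` -/
noncomputable def zz (i : ℤ) : A[X] :=
  LinearMap.det (1 + (vv (U.f i) - 1) * (bcm (prevD i s.hom) : Module.End A[X] _))

lemma zz_eq_one_of_isZero (i : ℤ) (h : Limits.IsZero (C.X i)) : zz s U i = 1 := by
  haveI := ModuleCat.subsingleton_of_isZero h
  exact LinearMap.det_eq_one_of_subsingleton _

lemma detOneSub_eq_zz_mul (hC : ∀ i, Module.Finite A (C.X i) ∧ Module.Free A (C.X i)) (i : ℤ) :
    SGA4h.detOneSub (C.X i) (U.f i) = zz s U i * zz s U (i + 1) := by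
  haveI := (hC i).1
  haveI := (hC i).2
  haveI := (hC (i + 1)).1
  haveI := (hC (i + 1)).2
  rw [detOneSub_eq]
  have hrel : (ComplexShape.up ℤ).Rel i (i + 1) := rfl
  have hrel' : (ComplexShape.up ℤ).Rel (i - 1) i := by simp
  have key := det_deg (R := A[X]) (M := A[X] ⊗[A] C.X i) (M₂ := A[X] ⊗[A] C.X (i + 1))
    (bcm (prevD i s.hom)) (bcm (dNext i s.hom)) (vv (U.f i)) (vv (U.f (i + 1)))
    (bcm (C.d i (i + 1))) (bcm (s.hom (i + 1) i)) ?_ ?_ ?_ ?_ ?_ ?_
  · rw [key]
    unfold zz
    congr 3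
    rw [prevD_eq s.hom hrel, bcm_comp]
  · -- p + q = 1
    change bcm (prevD i s.hom) + bcm (dNext i s.hom) = LinearMap.id
    rw [← bcm_add, add_comm, dNext_add_prevD s i, bcm_id]
  · -- p * p = p
    change bcm (prevD i s.hom) ∘ₗ bcm (prevD i s.hom) = _
    rw [← bcm_comp, prevD_idem]
  · -- q V p = 0
    change (bcm (dNext i s.hom) ∘ₗ vv (U.f i)) ∘ₗ bcm (prevD i s.hom) = 0
    rw [prevD_eq s.hom hrel', bcm_comp, LinearMap.comp_assoc,
      ← LinearMap.comp_assoc _ (bcm (C.d (i - 1) i)) (vv (U.f i)),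
      vv_comm (C.d (i - 1) i) (U.f (i - 1)) (U.f i) (U.comm (i - 1) i).symm,
      LinearMap.comp_assoc, ← LinearMap.comp_assoc _ (bcm (C.d (i - 1) i)) (bcm (dNext i s.hom)),
      ← bcm_comp, dNext_eq s.hom hrel]
    have : C.d (i - 1) i ≫ C.d i (i + 1) ≫ s.hom (i + 1) i = 0 := by
      rw [← Category.assoc, C.d_comp_d, Limits.zero_comp]
    rw [this, bcm_zero]
    simp
  · rw [dNext_eq s.hom hrel, bcm_comp]
  · rw [← bcm_comp, ← bcm_comp]
    congr 1
    rw [Category.assoc, d_s_d s i (i + 1) rfl]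
  · exact vv_comm (C.d i (i + 1)) (U.f i) (U.f (i + 1)) (U.comm i (i + 1)).symm

lemma mulSupport_zz_finite (a b : ℤ) [C.IsStrictlyGE a] [C.IsStrictlyLE b] :
    (Function.mulSupport (zz s U)).Finite := by
  refine (Set.finite_Icc a b).subset ?_
  intro i hi
  rw [Function.mem_mulSupport] at hi
  by_contra h
  rw [Set.mem_Icc, not_and_or, not_le, not_le] at h
  rcases h with h | h
  · exact hi (zz_eq_one_of_isZero s U i (C.isZero_of_isStrictlyGE a i h))
  · exact hi (zz_eq_one_of_isZero s U i (C.isZero_of_isStrictlyLE b i h))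

include s in
/-- For a contractible bounded complex of finite free modules, the even and odd parts of the
characteristic series of any endomorphism agree. -/
theorem detEven_eq_detOdd_of_homotopy (a b : ℤ) [C.IsStrictlyGE a] [C.IsStrictlyLE b]
    (hC : ∀ i, Module.Finite A (C.X i) ∧ Module.Free A (C.X i)) :
    SGA4h.detEven C U = SGA4h.detOdd C U := by
  have hz := mulSupport_zz_finite s U a b
  unfold SGA4h.detEven SGA4h.detOdd
  have e1 : ∀ i : {i : ℤ // Even i}, SGA4h.detOneSub (C.X i.1) (U.f i.1)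
      = zz s U i.1 * zz s U (i.1 + 1) := fun i => detOneSub_eq_zz_mul s U hC i.1
  have e2 : ∀ i : {i : ℤ // Odd i}, SGA4h.detOneSub (C.X i.1) (U.f i.1)
      = zz s U i.1 * zz s U (i.1 + 1) := fun i => detOneSub_eq_zz_mul s U hC i.1
  rw [finprod_congr e1, finprod_congr e2, finprod_even_mul _ _ hz hz,
    finprod_odd_mul _ _ hz hz, mul_comm]

end Contractible

end Groth.Agent.Helper3.Det
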