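import Mathlib
import Groth.Prelude.Def_SGA4hB
import Groth.Agent.Lib.Helper3.Det2

/-!
# Characteristic series on a mapping cone
-/

open CategoryTheory Polynomial TensorProduct CochainComplex HomComplex

namespace Groth.Agent.Helper3.Det

universe u

variable {A : Type u} [CommRing A]
variable {K K' : CochainComplex (ModuleCat.{u} A) ℤ} (f : K ⟶ K') (u : K ⟶ K) (u' : K' ⟶ K')
  (H : Homotopy (u ≫ f) (f ≫ u'))

/-- the endomorphism of the mapping cone of `f` induced by `u`, `u'` and a homotopy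
`u ≫ f ∼ f ≫ u'` -/
noncomputable def coneEnd : mappingCone f ⟶ mappingCone f :=
  mappingCone.desc f
    ((Cochain.ofHom u).comp (mappingCone.inl f) (zero_add (-1)) -
      (Cochain.ofHomotopy H).comp (Cochain.ofHom (mappingCone.inr f)) (add_zero (-1)))
    (u' ≫ mappingCone.inr f)
    (by
      rw [δ_sub, δ_ofHom_comp, mappingCone.δ_inl, δ_comp_ofHom, δ_ofHomotopy]
      simp [Cochain.sub_comp, ← Cochain.ofHom_comp])

lemma inr_coneEnd (i : ℤ) :
    (mappingCone.inr f).f i ≫ (coneEnd f u u' H).f i = u'.f i ≫ (mappingCone.inr f).f i := by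
  simp [coneEnd]

lemma coneEnd_fst (i j : ℤ) (hij : i + 1 = j) :
    (coneEnd f u u' H).f i ≫ (mappingCone.fst f).1.v i j hij =
      (mappingCone.fst f).1.v i j hij ≫ u.f j := by
  rw [mappingCone.ext_from_iff f j i hij]
  constructor
  · simp [coneEnd]
  · simp [coneEnd]

/-- the terms of the mapping cone as products -/
noncomputable def coneXEquiv (i : ℤ) :
    (mappingCone f).X i ≃ₗ[A] (K.X (i + 1) × K'.X i) :=
  ((HomologicalComplex.homotopyCofiber.XIsoBiprod f i (i + 1) rfl : (mappingCone f).X i ≅ _) ≪≫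
    ModuleCat.biprodIsoProd _ _).toLinearEquiv

lemma cone_finite_free (hK : ∀ i : ℤ, Module.Finite A (K.X i) ∧ Module.Free A (K.X i))
    (hK' : ∀ i : ℤ, Module.Finite A (K'.X i) ∧ Module.Free A (K'.X i)) (i : ℤ) :
    Module.Finite A ((mappingCone f).X i) ∧ Module.Free A ((mappingCone f).X i) := by
  haveI := (hK (i + 1)).1
  haveI := (hK (i + 1)).2
  haveI := (hK' i).1
  haveI := (hK' i).2
  exact ⟨Module.Finite.equiv (coneXEquiv f i).symm, Module.Free.of_equiv (coneXEquiv f i).symm⟩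

lemma cone_isStrictlyGE (a : ℤ) [K.IsStrictlyGE a] [K'.IsStrictlyGE a] :
    (mappingCone f).IsStrictlyGE (a - 1) := by
  rw [isStrictlyGE_iff]
  intro i hi
  rw [mappingCone.isZero_X_iff]
  exact ⟨K.isZero_of_isStrictlyGE a _ (by omega), K'.isZero_of_isStrictlyGE a _ (by omega)⟩

lemma cone_isStrictlyLE (b : ℤ) [K.IsStrictlyLE b] [K'.IsStrictlyLE b] :
    (mappingCone f).IsStrictlyLE b := by
  rw [isStrictlyLE_iff]
  intro i hi
  rw [mappingCone.isZero_X_iff]
  exact ⟨K.isZero_of_isStrictlyLE b _ (by omega), K'.isZero_of_isStrictlyLE b _ (by omega)⟩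

/-- the characteristic polynomial on a term of the cone is the product of those of the two
summands -/
lemma detOneSub_coneEnd (hK : ∀ i : ℤ, Module.Finite A (K.X i) ∧ Module.Free A (K.X i))
    (hK' : ∀ i : ℤ, Module.Finite A (K'.X i) ∧ Module.Free A (K'.X i)) (i : ℤ) :
    SGA4h.detOneSub ((mappingCone f).X i) ((coneEnd f u u' H).f i) =
      SGA4h.detOneSub (K'.X i) (u'.f i) * SGA4h.detOneSub (K.X (i + 1)) (u.f (i + 1)) := by
  haveI := (hK (i + 1)).1
  haveI := (hK (i + 1)).2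
  haveI := (hK' i).1
  haveI := (hK' i).2
  haveI := (cone_finite_free f hK hK' i).1
  haveI := (cone_finite_free f hK hK' i).2
  rw [detOneSub_eq, detOneSub_eq, detOneSub_eq]
  have hV1 : vv ((coneEnd f u u' H).f i) ∘ₗ bcm ((mappingCone.inr f).f i) =
      bcm ((mappingCone.inr f).f i) ∘ₗ vv (u'.f i) :=
    vv_comm _ _ _ (inr_coneEnd f u u' H i)
  have hV2 : vv (u.f (i + 1)) ∘ₗ bcm ((mappingCone.fst f).1.v i (i + 1) rfl) =
      bcm ((mappingCone.fst f).1.v i (i + 1) rfl) ∘ₗ vv ((coneEnd f u u' H).f i) :=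
    vv_comm _ _ _ (coneEnd_fst f u u' H i (i + 1) rfl).symm
  have h₁ : bcm ((mappingCone.snd f).v i i (add_zero i)) ∘ₗ bcm ((mappingCone.inr f).f i)
      = LinearMap.id := by
    rw [← bcm_comp, mappingCone.inr_f_snd_v, bcm_id]
  have h₂ : bcm ((mappingCone.fst f).1.v i (i + 1) rfl) ∘ₗ
      bcm ((mappingCone.inl f).v (i + 1) i (by omega)) = LinearMap.id := by
    rw [← bcm_comp, mappingCone.inl_v_fst_v, bcm_id]
  have h0 : bcm ((mappingCone.fst f).1.v i (i + 1) rfl) ∘ₗ bcm ((mappingCone.inr f).f i) = 0 := by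
    rw [← bcm_comp, mappingCone.inr_f_fst_v, bcm_zero]
  rw [det_block (R := A[X]) (bcm ((mappingCone.inr f).f i))
    (bcm ((mappingCone.snd f).v i i (add_zero i)))
    (bcm ((mappingCone.inl f).v (i + 1) i (by omega)))
    (bcm ((mappingCone.fst f).1.v i (i + 1) rfl)) h₁ h₂ ?_
    (vv ((coneEnd f u u' H).f i)) ?_]
  · congr 2
    · rw [hV1, ← LinearMap.comp_assoc, h₁, LinearMap.id_comp]
    · rw [← LinearMap.comp_assoc, ← hV2, LinearMap.comp_assoc, h₂, LinearMap.comp_id]
  · rw [← bcm_comp, ← bcm_comp, ← bcm_add, add_comm, mappingCone.id_X f i (i + 1) rfl, bcm_id]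
  · rw [hV1, ← LinearMap.comp_assoc, h0, LinearMap.zero_comp]

end Groth.Agent.Helper3.Det
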