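import Mathlib
import Groth.Prelude.Def_SGA4hB
import Groth.Agent.Lib.Helper3.Det3

/-!
# Invariance of the characteristic series under isomorphisms in the derived category
-/

open CategoryTheory Polynomial TensorProduct CochainComplex HomComplex DerivedCategory

namespace Groth.Agent.Helper3.Det

universe u v w

section General

variable {C : Type u} [Category.{v} C] [Abelian C] [HasDerivedCategory.{w} C]

lemma exists_map_of_isKProjective (K L : CochainComplex C ℤ) [K.IsKProjective]
    (φ : Q.obj K ⟶ Q.obj L) : ∃ f : K ⟶ L, Q.map f = φ := by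
  obtain ⟨g, hg⟩ := (CochainComplex.IsKProjective.Qh_map_bijective K
    ((HomotopyCategory.quotient _ _).obj L)).surjective
    ((quotientCompQhIso C).hom.app K ≫ φ ≫ (quotientCompQhIso C).inv.app L)
  obtain ⟨f, rfl⟩ := (HomotopyCategory.quotient _ _).map_surjective g
  refine ⟨f, ?_⟩
  have nf := (quotientCompQhIso C).hom.naturality f
  rw [Functor.comp_map] at nf
  rw [← cancel_epi ((quotientCompQhIso C).hom.app K), ← nf, hg]
  simp

lemma nonempty_homotopy_of_Q_map_eq (K L : CochainComplex C ℤ) [K.IsKProjective]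
    (f g : K ⟶ L) (h : Q.map f = Q.map g) : Nonempty (Homotopy f g) := by
  have h1 : Qh.map ((HomotopyCategory.quotient _ _).map f) =
      Qh.map ((HomotopyCategory.quotient _ _).map g) := by
    have nf := (quotientCompQhIso C).hom.naturality f
    have ng := (quotientCompQhIso C).hom.naturality g
    rw [Functor.comp_map] at nf ng
    rw [← cancel_mono ((quotientCompQhIso C).hom.app L), nf, ng, h]
  exact ⟨HomotopyCategory.homotopyOfEq _ _
    ((CochainComplex.IsKProjective.Qh_map_bijective K _).injective h1)⟩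

lemma nonempty_homotopy_id_zero_cone {K L : CochainComplex C ℤ} [K.IsKProjective]
    [L.IsKProjective] (f : K ⟶ L) (hf : IsIso (Q.map f)) :
    Nonempty (Homotopy (𝟙 (mappingCone f)) 0) := by
  have hq : QuasiIso f := (isIso_Q_map_iff_quasiIso (φ := f)).1 hf
  have he := (CochainComplex.IsKProjective.quasiIso_iff f).1 hq
  rw [← HomotopyCategory.inverseImage_quotient_isomorphisms,
    MorphismProperty.inverseImage_iff, MorphismProperty.isomorphisms.iff] at he
  rw [← HomotopyCategory.isZero_quotient_obj_iff]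
  exact (Pretriangulated.Triangle.isZero₃_iff_isIso₁ _
    (HomotopyCategory.mappingCone_triangleh_distinguished f)).2 he

end General

attribute [local instance] HasDerivedCategory.standard

variable {A : Type u} [CommRing A]

lemma mulSupport_detOneSub_finite (K : CochainComplex (ModuleCat.{u} A) ℤ) (a b : ℤ)
    [K.IsStrictlyGE a] [K.IsStrictlyLE b] (f : K ⟶ K) :
    (Function.mulSupport fun i : ℤ => SGA4h.detOneSub (K.X i) (f.f i)).Finite := by
  refine (Set.finite_Icc a b).subset ?_
  intro i hi
  rw [Function.mem_mulSupport] at hi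
  by_contra h
  rw [Set.mem_Icc, not_and_or, not_le, not_le] at h
  rcases h with h | h
  · exact hi (detOneSub_eq_one_of_isZero _ _ (K.isZero_of_isStrictlyGE a i h))
  · exact hi (detOneSub_eq_one_of_isZero _ _ (K.isZero_of_isStrictlyLE b i h))

theorem detEven_mul_detOdd_eq (K K' : CochainComplex (ModuleCat.{u} A) ℤ) (a b : ℤ)
    [K.IsStrictlyGE a] [K.IsStrictlyLE b] [K'.IsStrictlyGE a] [K'.IsStrictlyLE b]
    (hK : ∀ i : ℤ, Module.Finite A (K.X i) ∧ Module.Free A (K.X i))
    (hK' : ∀ i : ℤ, Module.Finite A (K'.X i) ∧ Module.Free A (K'.X i))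
    (u : K ⟶ K) (u' : K' ⟶ K') (φ : DerivedCategory.Q.obj K ≅ DerivedCategory.Q.obj K')
    (hφ : DerivedCategory.Q.map u ≫ φ.hom = φ.hom ≫ DerivedCategory.Q.map u') :
    SGA4h.detEven K u * SGA4h.detOdd K' u' = SGA4h.detOdd K u * SGA4h.detEven K' u' := by
  haveI : ∀ n, Projective (K.X n) := fun n => by
    haveI := (hK n).2
    exact ModuleCat.projective_of_free (Module.Free.chooseBasis A (K.X n))
  haveI : ∀ n, Projective (K'.X n) := fun n => by
    haveI := (hK' n).2
    exact ModuleCat.projective_of_free (Module.Free.chooseBasis A (K'.X n))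
  haveI : K.IsKProjective := isKProjective_of_projective K b
  haveI : K'.IsKProjective := isKProjective_of_projective K' b
  obtain ⟨f, hf⟩ := exists_map_of_isKProjective K K' φ.hom
  have hiso : IsIso (Q.map f) := by rw [hf]; infer_instance
  obtain ⟨H⟩ := nonempty_homotopy_of_Q_map_eq K K' (u ≫ f) (f ≫ u') (by
    rw [Functor.map_comp, Functor.map_comp, hf, hφ])
  obtain ⟨s⟩ := nonempty_homotopy_id_zero_cone f hiso
  haveI := cone_isStrictlyGE f a
  haveI := cone_isStrictlyLE f b
  have key := detEven_eq_detOdd_of_homotopy s (coneEnd f u u' H) (a - 1) b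
    (cone_finite_free f hK hK')
  unfold SGA4h.detEven SGA4h.detOdd at key ⊢
  have e1 : ∀ i : {i : ℤ // Even i}, SGA4h.detOneSub ((mappingCone f).X i.1)
      ((coneEnd f u u' H).f i.1) = SGA4h.detOneSub (K'.X i.1) (u'.f i.1) *
        SGA4h.detOneSub (K.X (i.1 + 1)) (u.f (i.1 + 1)) :=
    fun i => detOneSub_coneEnd f u u' H hK hK' i.1
  have e2 : ∀ i : {i : ℤ // Odd i}, SGA4h.detOneSub ((mappingCone f).X i.1)
      ((coneEnd f u u' H).f i.1) = SGA4h.detOneSub (K'.X i.1) (u'.f i.1) *
        SGA4h.detOneSub (K.X (i.1 + 1)) (u.f (i.1 + 1)) :=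
    fun i => detOneSub_coneEnd f u u' H hK hK' i.1
  have hx := mulSupport_detOneSub_finite K a b u
  have hy := mulSupport_detOneSub_finite K' a b u'
  rw [finprod_congr e1, finprod_congr e2,
    finprod_even_mul (fun i => SGA4h.detOneSub (K.X i) (u.f i))
      (fun i => SGA4h.detOneSub (K'.X i) (u'.f i)) hx hy,
    finprod_odd_mul (fun i => SGA4h.detOneSub (K.X i) (u.f i))
      (fun i => SGA4h.detOneSub (K'.X i) (u'.f i)) hx hy] at key
  rw [mul_comm, ← key, mul_comm]

end Groth.Agent.Helper3.Det
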