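import Mathlib

universe u

namespace Groth.Agent.Lib.Helper3.DiagIndex

open Polynomial
open scoped WithZero

/-- The invariant `I(d, N)`: gcd of `d / δ` over divisors `δ ∣ d` with `1 ≤ δ ≤ N`. -/
def idx (d N : ℕ) : ℕ := ((Finset.Icc 1 N).filter (fun δ => δ ∣ d)).gcd (fun δ => d / δ)

theorem idx_dvd {d N δ : ℕ} (h1 : 1 ≤ δ) (h2 : δ ≤ N) (h3 : δ ∣ d) : idx d N ∣ d / δ := by
  unfold idx
  exact Finset.gcd_dvd (f := fun δ => d / δ)
    (by simp [Finset.mem_filter, Finset.mem_Icc, h1, h2, h3])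

theorem gcd_mem_closure (T : Set ℤ) (s : Finset ℕ) (f : ℕ → ℕ)
    (h : ∀ δ ∈ s, ((f δ : ℕ) : ℤ) ∈ AddSubgroup.closure T) :
    ((s.gcd f : ℕ) : ℤ) ∈ AddSubgroup.closure T := by
  obtain ⟨g, hg⟩ := Int.subgroup_cyclic (AddSubgroup.closure T)
  have hmem : ∀ z : ℤ, z ∈ AddSubgroup.closure T ↔ g ∣ z := by
    intro z
    rw [hg, ← AddSubgroup.zmultiples_eq_closure, Int.mem_zmultiples_iff]
  rw [hmem]
  have h1 : g.natAbs ∣ s.gcd f := Finset.dvd_gcd (fun δ hδ => by
    have h2 := (hmem _).1 (h δ hδ)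
    exact Int.natCast_dvd_natCast.1 (Int.natAbs_dvd.2 h2))
  exact Int.natAbs_dvd.1 (Int.natCast_dvd_natCast.2 h1)

/-- Core valuation-theoretic argument: the maximum is attained twice. -/
theorem val_core {F : Type*} [Field F] (w : Valuation F ℤᵐ⁰) (c : F) (hc : w c ≠ 0) (d N : ℕ)
    (hd : 1 ≤ d) (y : Fin (N + 1) → F) (hy : y ≠ 0)
    (heq : y 0 ^ d = ∑ i : Fin N, c ^ ((i : ℕ) + 1) * y i.succ ^ d) :
    ∃ δ : ℕ, 1 ≤ δ ∧ δ ≤ N ∧ δ ∣ d ∧ ((d / δ : ℕ) : ℤ) ∣ WithZero.log (w c) := by
  classical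
  have hc0 : c ≠ 0 := fun h => hc (by rw [h, map_zero])
  let a : Fin (N + 1) → F := fun i => c ^ (i : ℕ) * y i ^ d
  let b : Fin (N + 1) → F := fun i => if i = 0 then a 0 else - a i
  have hsum : ∑ i, b i = 0 := by
    rw [Fin.sum_univ_succ]
    have h0 : b 0 = y 0 ^ d := by simp [b, a]
    have hs : ∀ i : Fin N, b i.succ = - (c ^ ((i : ℕ) + 1) * y i.succ ^ d) := by
      intro i
      simp [b, a, Fin.succ_ne_zero]
    rw [h0, heq]
    simp only [hs, Finset.sum_neg_distrib]
    exact add_neg_cancel _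
  have hwb : ∀ i, w (b i) = w (a i) := by
    intro i
    by_cases h : i = 0
    · simp [b, h]
    · simp [b, h, Valuation.map_neg]
  have hwa : ∀ i, w (a i) = w c ^ (i : ℕ) * w (y i) ^ d := by
    intro i
    simp [a, map_mul, map_pow]
  obtain ⟨i0, hi0⟩ : ∃ i, y i ≠ 0 := by
    by_contra h
    push Not at h
    exact hy (funext h)
  have hai0 : w (a i0) ≠ 0 := by
    rw [hwa]
    exact mul_ne_zero (pow_ne_zero _ hc) (pow_ne_zero _ ((Valuation.ne_zero_iff w).2 hi0))
  obtain ⟨m, -, hm⟩ := Finset.exists_max_image Finset.univ (fun i => w (a i))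
    ⟨i0, Finset.mem_univ _⟩
  have hM0 : w (a m) ≠ 0 := by
    intro h
    apply hai0
    have := hm i0 (Finset.mem_univ _)
    rw [h] at this
    exact le_antisymm this zero_le
  obtain ⟨j, hjm, hj⟩ : ∃ j, j ≠ m ∧ w (a j) = w (a m) := by
    by_contra hcon
    push Not at hcon
    have hlt : ∀ j ∈ Finset.univ.erase m, w (b j) < w (a m) := fun j hj => by
      rw [hwb]
      exact lt_of_le_of_ne (hm j (Finset.mem_univ _)) (hcon j (Finset.ne_of_mem_erase hj))
    have h1 : w (∑ j ∈ Finset.univ.erase m, b j) < w (a m) := Valuation.map_sum_lt w hM0 hlt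
    have h2 : b m + ∑ j ∈ Finset.univ.erase m, b j = 0 := by
      rw [Finset.add_sum_erase _ _ (Finset.mem_univ m), hsum]
    have h3 : ∑ j ∈ Finset.univ.erase m, b j = - b m := by
      linear_combination h2
    rw [h3, Valuation.map_neg, hwb] at h1
    exact lt_irrefl _ h1
  have key : ∀ i j : Fin (N + 1), (i : ℕ) < (j : ℕ) → w (a i) = w (a j) → w (a i) ≠ 0 →
      ∃ δ : ℕ, 1 ≤ δ ∧ δ ≤ N ∧ δ ∣ d ∧ ((d / δ : ℕ) : ℤ) ∣ WithZero.log (w c) := by
    intro i j hij hwij hwi
    have hwj : w (a j) ≠ 0 := hwij ▸ hwi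
    have hd0 : d ≠ 0 := by omega
    rw [hwa] at hwi hwj
    have hyi : w (y i) ≠ 0 := fun h => hwi (by rw [h, zero_pow hd0, mul_zero])
    have hyj : w (y j) ≠ 0 := fun h => hwj (by rw [h, zero_pow hd0, mul_zero])
    have hlog := congrArg WithZero.log hwij
    rw [hwa, hwa, WithZero.log_mul (pow_ne_zero _ hc) (pow_ne_zero _ hyi),
      WithZero.log_mul (pow_ne_zero _ hc) (pow_ne_zero _ hyj), WithZero.log_pow, WithZero.log_pow,
      WithZero.log_pow, WithZero.log_pow] at hlog
    simp only [nsmul_eq_mul] at hlog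
    obtain ⟨δ', hδ'⟩ : ∃ δ' : ℕ, (j : ℕ) = (i : ℕ) + δ' := ⟨(j : ℕ) - (i : ℕ), by omega⟩
    have hδ'pos : 0 < δ' := by omega
    have hδ'N : δ' ≤ N := by have := j.isLt; omega
    have hgpos : 0 < Nat.gcd d δ' := Nat.gcd_pos_of_pos_left _ (by omega)
    refine ⟨Nat.gcd d δ', hgpos, le_trans (Nat.gcd_le_right _ hδ'pos) hδ'N,
      Nat.gcd_dvd_left _ _, ?_⟩
    have hcop : Nat.Coprime (d / Nat.gcd d δ') (δ' / Nat.gcd d δ') :=
      Nat.coprime_div_gcd_div_gcd hgpos
    have hd1 : Nat.gcd d δ' * (d / Nat.gcd d δ') = d := Nat.mul_div_cancel' (Nat.gcd_dvd_left d δ')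
    have hδ1 : Nat.gcd d δ' * (δ' / Nat.gcd d δ') = δ' :=
      Nat.mul_div_cancel' (Nat.gcd_dvd_right d δ')
    have hjcast : ((j : ℕ) : ℤ) = ((i : ℕ) : ℤ) + (δ' : ℤ) := by exact_mod_cast hδ'
    have e1 : (δ' : ℤ) * WithZero.log (w c)
        = (d : ℤ) * (WithZero.log (w (y i)) - WithZero.log (w (y j))) := by
      linear_combination -hlog - WithZero.log (w c) * hjcast
    have hg0 : ((Nat.gcd d δ' : ℕ) : ℤ) ≠ 0 := by exact_mod_cast hgpos.ne'
    have h1 : ((Nat.gcd d δ' : ℕ) : ℤ) * ((d / Nat.gcd d δ' : ℕ) : ℤ) = (d : ℤ) := by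
      exact_mod_cast hd1
    have h2 : ((Nat.gcd d δ' : ℕ) : ℤ) * ((δ' / Nat.gcd d δ' : ℕ) : ℤ) = (δ' : ℤ) := by
      exact_mod_cast hδ1
    have e2 : ((δ' / Nat.gcd d δ' : ℕ) : ℤ) * WithZero.log (w c)
        = ((d / Nat.gcd d δ' : ℕ) : ℤ) * (WithZero.log (w (y i)) - WithZero.log (w (y j))) := by
      apply mul_left_cancel₀ hg0
      rw [← mul_assoc, ← mul_assoc, h1, h2]
      exact e1
    have hcopZ : IsCoprime ((d / Nat.gcd d δ' : ℕ) : ℤ) ((δ' / Nat.gcd d δ' : ℕ) : ℤ) :=
      Nat.isCoprime_iff_coprime.2 hcop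
    exact hcopZ.dvd_of_dvd_mul_left ⟨_, e2⟩
  rcases lt_or_gt_of_ne (Fin.val_ne_of_ne hjm) with h | h
  · exact key j m h hj (hj ▸ hM0)
  · exact key m j h hj.symm hM0


/-- Separable case (with a Frobenius twist `Q`), for an abstract integral closure `S`. -/
theorem sep_case_aux (R : Type*) [CommRing R] [IsDomain R] [IsDiscreteValuationRing R]
    (K : Type*) [Field K] [Algebra R K] [IsFractionRing R K]
    (F : Type*) [Field F] [Algebra K F] [Algebra R F] [IsScalarTower R K F]
    [FiniteDimensional K F] [Algebra.IsSeparable K F]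
    (S : Type*) [CommRing S] [IsDomain S] [Algebra R S] [Algebra S F] [IsScalarTower R S F]
    [IsIntegralClosure S R F]
    (ϖ : R) (hϖ : Irreducible ϖ) (d N Q : ℕ) (hd : 1 ≤ d)
    (y : Fin (N + 1) → F) (hy : y ≠ 0)
    (heq : y 0 ^ d = ∑ i : Fin N, (algebraMap R F ϖ ^ Q) ^ ((i : ℕ) + 1) * y i.succ ^ d) :
    idx d N ∣ Q * Module.finrank K F := by
  classical
  have hinj : Function.Injective (algebraMap R F) := by
    rw [IsScalarTower.algebraMap_eq R K F]
    exact (algebraMap K F).injective.comp (IsFractionRing.injective R K)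
  haveI : Module.IsTorsionFree R F := Module.isTorsionFree_iff_algebraMap_injective.2 hinj
  haveI : IsDedekindDomain S := IsIntegralClosure.isDedekindDomain R K F S
  haveI : Module.Finite R S := IsIntegralClosure.finite R K F S
  haveI : IsFractionRing S F := IsIntegralClosure.isFractionRing_of_finite_extension R K F S
  haveI : Module.Free R S := IsIntegralClosure.module_free R K F S
  have hrank : Module.finrank R S = Module.finrank K F := IsIntegralClosure.rank R K F S
  have hp0 : IsLocalRing.maximalIdeal R ≠ ⊥ := IsDiscreteValuationRing.not_a_field R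
  haveI : Fintype ((IsLocalRing.maximalIdeal R).primesOver S) :=
    (Algebra.QuasiFinite.finite_primesOver (IsLocalRing.maximalIdeal R)).fintype
  have hsum := Ideal.sum_ramification_inertia_eq_finrank (IsLocalRing.maximalIdeal R) S
  rw [← hrank, ← hsum, Finset.mul_sum]
  refine Finset.dvd_sum (fun q _ => ?_)
  rw [← mul_assoc]
  refine Dvd.dvd.mul_right ?_ _
  haveI hqp : q.1.IsPrime := q.2.1
  haveI hql : q.1.LiesOver (IsLocalRing.maximalIdeal R) := q.2.2
  have hq0 : q.1 ≠ ⊥ := Ideal.ne_bot_of_liesOver_of_ne_bot hp0 q.1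
  let v : IsDedekindDomain.HeightOneSpectrum S := ⟨q.1, hqp, hq0⟩
  have hs0 : algebraMap R S ϖ ≠ 0 := by
    intro h
    have h2 : algebraMap R F ϖ = 0 := by
      rw [IsScalarTower.algebraMap_apply R S F, h, map_zero]
    exact hϖ.ne_zero (hinj (by rw [h2, map_zero]))
  have hmap : (IsLocalRing.maximalIdeal R).map (algebraMap R S)
      = Ideal.span {algebraMap R S ϖ} := by
    rw [hϖ.maximalIdeal_eq, Ideal.map_span, Set.image_singleton]
  have hmap0 : (IsLocalRing.maximalIdeal R).map (algebraMap R S) ≠ ⊥ := by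
    rw [hmap, Ne, Ideal.span_singleton_eq_bot]
    exact hs0
  have he : q.1.ramificationIdx R = multiplicity q.1 (Ideal.span {algebraMap R S ϖ}) := by
    rw [← hmap]
    exact Ideal.IsDedekindDomain.ramificationIdx_eq_multiplicity (IsLocalRing.maximalIdeal R)
      q.1 hmap0
  have hws : v.valuation F (algebraMap R F ϖ)
      = WithZero.exp (-(q.1.ramificationIdx R : ℤ)) := by
    rw [IsScalarTower.algebraMap_apply R S F,
      IsDedekindDomain.HeightOneSpectrum.valuation_of_algebraMap,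
      IsDedekindDomain.HeightOneSpectrum.intValuation_eq_exp_neg_multiplicity v hs0, he]
  have hwc : v.valuation F (algebraMap R F ϖ ^ Q) ≠ 0 := by
    rw [map_pow, hws]
    exact pow_ne_zero _ WithZero.exp_ne_zero
  obtain ⟨δ, h1, h2, h3, h4⟩ := val_core (v.valuation F) (algebraMap R F ϖ ^ Q) hwc d N hd y hy heq
  have hlog : WithZero.log (v.valuation F (algebraMap R F ϖ ^ Q))
      = -((Q * q.1.ramificationIdx R : ℕ) : ℤ) := by
    rw [map_pow, hws, WithZero.log_pow, WithZero.log_exp, nsmul_eq_mul]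
    push_cast
    ring
  rw [hlog, dvd_neg, Int.natCast_dvd_natCast] at h4
  exact (idx_dvd h1 h2 h3).trans h4

theorem sep_case (R : Type*) [CommRing R] [IsDomain R] [IsDiscreteValuationRing R]
    (K : Type*) [Field K] [Algebra R K] [IsFractionRing R K]
    (F : Type*) [Field F] [Algebra K F] [Algebra R F] [IsScalarTower R K F]
    [FiniteDimensional K F] [Algebra.IsSeparable K F]
    (ϖ : R) (hϖ : Irreducible ϖ) (d N Q : ℕ) (hd : 1 ≤ d)
    (y : Fin (N + 1) → F) (hy : y ≠ 0)
    (heq : y 0 ^ d = ∑ i : Fin N, (algebraMap R F ϖ ^ Q) ^ ((i : ℕ) + 1) * y i.succ ^ d) :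
    idx d N ∣ Q * Module.finrank K F :=
  sep_case_aux R K F (integralClosure R F) ϖ hϖ d N Q hd y hy heq

/-- General case, with a chosen separable subextension over which `L` is purely inseparable. -/
theorem index_dvd_aux (R : Type*) [CommRing R] [IsDomain R] [IsDiscreteValuationRing R]
    (K : Type*) [Field K] [Algebra R K] [IsFractionRing R K]
    (L : Type*) [Field L] [Algebra K L] [FiniteDimensional K L]
    (F : IntermediateField K L) [Algebra.IsSeparable K F] [IsPurelyInseparable F L]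
    (ϖ : R) (hϖ : Irreducible ϖ) (d N : ℕ) (hd : 1 ≤ d)
    (x : Fin (N + 1) → L) (hx : x ≠ 0)
    (hxeq : x 0 ^ d
      = ∑ i : Fin N, algebraMap K L (algebraMap R K (ϖ ^ ((i : ℕ) + 1))) * x i.succ ^ d) :
    idx d N ∣ Module.finrank K L := by
  classical
  obtain ⟨q, hq⟩ := ExpChar.exists K
  haveI := hq
  haveI : ExpChar F q := expChar_of_injective_algebraMap (algebraMap K F).injective q
  haveI : ExpChar L q := expChar_of_injective_algebraMap (algebraMap K L).injective q
  letI : Algebra R F := ((algebraMap K F).comp (algebraMap R K)).toAlgebra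
  haveI : IsScalarTower R K F := IsScalarTower.of_algebraMap_eq (fun _ => rfl)
  obtain ⟨k, hk⟩ := IsPurelyInseparable.finrank_eq_pow (F := F) (E := L) q
  have hpow : ∀ z : L, ∃ y : F, algebraMap F L y = z ^ Module.finrank F L := by
    intro z
    obtain ⟨n, y, hmin⟩ := IsPurelyInseparable.minpoly_eq_X_pow_sub_C (F := F) (E := L) q z
    have hdvd : q ^ n ∣ Module.finrank F L := by
      have := minpoly.degree_dvd (K := F) (L := L) (x := z) (Algebra.IsIntegral.isIntegral z)
      rwa [hmin, natDegree_X_pow_sub_C] at this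
    obtain ⟨c, hc⟩ := hdvd
    have hz : z ^ q ^ n = algebraMap F L y := by
      have := minpoly.aeval F z
      rw [hmin] at this
      simpa [sub_eq_zero] using this
    exact ⟨y ^ c, by rw [map_pow, ← hz, ← pow_mul, ← hc]⟩
  choose yf hyf using hpow
  have hfrob : ∀ z : L, (iterateFrobenius L q k) z = z ^ Module.finrank F L := fun z => by
    rw [iterateFrobenius_def, ← hk]
  have hQadd : ∀ (f : Fin N → L),
      (∑ i, f i) ^ Module.finrank F L = ∑ i, f i ^ Module.finrank F L := fun f => by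
    rw [← hfrob, map_sum]
    simp only [hfrob]
  have hA : algebraMap F L (algebraMap R F ϖ) = algebraMap K L (algebraMap R K ϖ) := rfl
  have hy0 : (fun i => yf (x i)) ≠ 0 := by
    intro h
    apply hx
    funext i
    have h1 : algebraMap F L (yf (x i)) = 0 := by
      have := congrFun h i
      simp only [Pi.zero_apply] at this
      rw [this, map_zero]
    rw [hyf] at h1
    exact (pow_eq_zero_iff (Module.finrank_pos (R := F) (M := L)).ne').1 h1
  have heqF : (fun i => yf (x i)) 0 ^ d = ∑ i : Fin N,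
      (algebraMap R F ϖ ^ Module.finrank F L) ^ ((i : ℕ) + 1) * (fun i => yf (x i)) i.succ ^ d := by
    apply (algebraMap F L).injective
    simp only []
    rw [map_pow, hyf, map_sum, ← pow_mul, mul_comm (Module.finrank F L) d, pow_mul, hxeq, hQadd]
    refine Finset.sum_congr rfl (fun i _ => ?_)
    simp only [map_mul, map_pow, hyf, hA, mul_pow]
    ring
  have hmain := sep_case R K F ϖ hϖ d N (Module.finrank F L) hd (fun i => yf (x i)) hy0 heqF
  rw [← Module.finrank_mul_finrank K F L, mul_comm]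
  exact hmain

theorem index_dvd (R : Type*) [CommRing R] [IsDomain R] [IsDiscreteValuationRing R]
    (K : Type*) [Field K] [Algebra R K] [IsFractionRing R K]
    (L : Type*) [Field L] [Algebra K L] [FiniteDimensional K L]
    (ϖ : R) (hϖ : Irreducible ϖ) (d N : ℕ) (hd : 1 ≤ d)
    (x : Fin (N + 1) → L) (hx : x ≠ 0)
    (hxeq : x 0 ^ d
      = ∑ i : Fin N, algebraMap K L (algebraMap R K (ϖ ^ ((i : ℕ) + 1))) * x i.succ ^ d) :
    idx d N ∣ Module.finrank K L :=
  index_dvd_aux R K L (separableClosure K L) ϖ hϖ d N hd x hx hxeq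


/-- For a divisor `δ ∣ d` with `1 ≤ δ ≤ N`, the Eisenstein extension `K[t]/(t^(d/δ) - ϖ)` has
degree `d / δ` and contains a nonzero solution. -/
theorem exists_ext (R : Type*) [CommRing R] [IsDomain R] [IsDiscreteValuationRing R]
    (K : Type u) [Field K] [Algebra R K] [IsFractionRing R K]
    (ϖ : R) (hϖ : Irreducible ϖ) (d N δ : ℕ) (hd : 1 ≤ d) (h1 : 1 ≤ δ) (h2 : δ ≤ N) (h3 : δ ∣ d) :
    ∃ (L : Type u) (_ : Field L) (_ : Algebra K L), FiniteDimensional K L ∧
      ((d / δ : ℕ) : ℤ) = (Module.finrank K L : ℤ) ∧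
      ∃ x : Fin (N + 1) → L, x ≠ 0 ∧ x 0 ^ d
        = ∑ i : Fin N, algebraMap K L (algebraMap R K (ϖ ^ ((i : ℕ) + 1))) * x i.succ ^ d := by
  classical
  have hepos : 0 < d / δ := Nat.div_pos (Nat.le_of_dvd hd h3) h1
  have hed : d / δ * δ = d := Nat.div_mul_cancel h3
  have hgm : (X ^ (d / δ) - C ϖ : R[X]).Monic := monic_X_pow_sub_C ϖ hepos.ne'
  have hgdeg : (X ^ (d / δ) - C ϖ : R[X]).natDegree = d / δ := natDegree_X_pow_sub_C
  have hgE : (X ^ (d / δ) - C ϖ : R[X]).IsEisensteinAt (IsLocalRing.maximalIdeal R) := by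
    apply hgm.isEisensteinAt_of_mem_of_notMem (Ideal.IsPrime.ne_top inferInstance)
    · intro n hn
      rw [hgdeg] at hn
      rw [coeff_sub, coeff_X_pow, coeff_C, if_neg hn.ne]
      by_cases h0 : n = 0
      · rw [if_pos h0, zero_sub, neg_mem_iff, hϖ.maximalIdeal_eq]
        exact Ideal.mem_span_singleton_self ϖ
      · rw [if_neg h0, sub_zero]
        exact zero_mem _
    · rw [coeff_sub, coeff_X_pow, coeff_C, if_pos rfl, if_neg hepos.ne, zero_sub, neg_mem_iff,
        hϖ.maximalIdeal_eq, Ideal.span_singleton_pow, Ideal.mem_span_singleton]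
      intro hdvd
      obtain ⟨t, ht⟩ := hdvd
      have h4 : ϖ * (1 - ϖ * t) = 0 := by linear_combination ht
      have h5 : 1 - ϖ * t = 0 := (mul_eq_zero.1 h4).resolve_left hϖ.ne_zero
      exact hϖ.not_isUnit (IsUnit.of_mul_eq_one t (by linear_combination -h5))
  have hgirr : Irreducible (X ^ (d / δ) - C ϖ : R[X]) :=
    hgE.irreducible inferInstance hgm.isPrimitive (by rw [hgdeg]; exact hepos)
  have hfirr : Irreducible ((X ^ (d / δ) - C ϖ : R[X]).map (algebraMap R K)) :=
    (hgm.irreducible_iff_irreducible_map_fraction_map).1 hgirr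
  haveI : Fact (Irreducible ((X ^ (d / δ) - C ϖ : R[X]).map (algebraMap R K))) := ⟨hfirr⟩
  have hf0 : (X ^ (d / δ) - C ϖ : R[X]).map (algebraMap R K) ≠ 0 := hfirr.ne_zero
  have hfdeg : ((X ^ (d / δ) - C ϖ : R[X]).map (algebraMap R K)).natDegree = d / δ := by
    rw [hgm.natDegree_map, hgdeg]
  refine ⟨AdjoinRoot ((X ^ (d / δ) - C ϖ : R[X]).map (algebraMap R K)), inferInstance,
    inferInstance, (AdjoinRoot.powerBasis hf0).finite, ?_, ?_⟩
  · rw [(AdjoinRoot.powerBasis hf0).finrank, AdjoinRoot.powerBasis_dim, hfdeg]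
  · have hroot : AdjoinRoot.root ((X ^ (d / δ) - C ϖ : R[X]).map (algebraMap R K)) ^ (d / δ)
        = algebraMap K _ (algebraMap R K ϖ) := by
      have := AdjoinRoot.eval₂_root ((X ^ (d / δ) - C ϖ : R[X]).map (algebraMap R K))
      simp only [Polynomial.map_sub, Polynomial.map_pow, map_X, map_C, eval₂_sub, eval₂_pow,
        eval₂_X, eval₂_C] at this
      rw [AdjoinRoot.algebraMap_eq]
      exact sub_eq_zero.1 this
    refine ⟨fun i => if i = 0 then
        AdjoinRoot.root ((X ^ (d / δ) - C ϖ : R[X]).map (algebraMap R K))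
        else if (i : ℕ) = δ then 1 else 0, ?_, ?_⟩
    · intro h
      have := congrFun h ⟨δ, by omega⟩
      have hne : (⟨δ, by omega⟩ : Fin (N + 1)) ≠ 0 := by
        intro h'
        have := congrArg Fin.val h'
        simp at this
        omega
      simp [hne] at this
    · have hd0 : d ≠ 0 := by omega
      simp only [if_pos rfl, Fin.succ_ne_zero, if_false, Fin.val_succ]
      rw [Finset.sum_eq_single (⟨δ - 1, by omega⟩ : Fin N)]
      · have h5 : δ - 1 + 1 = δ := by omega
        simp only [h5, if_pos rfl, one_pow, mul_one]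
        rw [map_pow, map_pow, ← hroot, ← pow_mul, hed]
        simp
      · intro b _ hb
        have h6 : ¬ ((b : ℕ) + 1 = δ) := by
          intro h'
          apply hb
          apply Fin.ext
          simp only
          omega
        rw [if_neg h6, zero_pow hd0, mul_zero]
      · intro h
        exact absurd (Finset.mem_univ _) h

end Groth.Agent.Lib.Helper3.DiagIndex
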