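import Mathlib

set_option autoImplicit false
universe u v w

namespace Groth.Agent.Helper3.DieudHom

open Module Submodule

section generic
variable {W : Type*} [CommRing W] [IsDomain W] [IsDiscreteValuationRing W]
  {M : Type*} [AddCommGroup M] [Module W M] [Module.Free W M] [Module.Finite W M]
  {N : Type*} [AddCommGroup N] [Module W N] [Module.Free W N] [Module.Finite W N]

lemma smul_inj_of_free {ϖ : W} (hϖ0 : ϖ ≠ 0) {x y : N} (h : ϖ • x = ϖ • y) : x = y := by
  let b := Module.Free.chooseBasis W N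
  apply b.repr.injective
  ext i
  have h1 := congrArg (fun z => b.repr z i) h
  simp only [map_smul, Finsupp.smul_apply, smul_eq_mul] at h1
  exact mul_left_cancel₀ hϖ0 h1

/-- the image of a semilinear additive map is a submodule -/
lemma mem_span_range_iff {σ : W → W} (V : N →+ N)
    (hV : ∀ a n, V (σ a • n) = a • V n) (y : N) :
    y ∈ Submodule.span W (Set.range V) ↔ ∃ n, V n = y := by
  constructor
  · intro hy
    induction hy using Submodule.span_induction with
    | mem x hx => exact hx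
    | zero => exact ⟨0, map_zero V⟩
    | add x y _ _ hx hy =>
      obtain ⟨a, rfl⟩ := hx
      obtain ⟨b, rfl⟩ := hy
      exact ⟨a + b, map_add V a b⟩
    | smul a x _ hx =>
      obtain ⟨n, rfl⟩ := hx
      exact ⟨σ a • n, hV a n⟩
  · rintro ⟨n, rfl⟩
    exact Submodule.subset_span ⟨n, rfl⟩

theorem part_a {σ : W → W} (hσ : Function.Surjective σ) {ϖ : W} (hϖ0 : ϖ ≠ 0)
    (VM : M →+ M) (FN VN : N →+ N)
    (hVM : ∀ a m, VM (σ a • m) = a • VM m) (hVN : ∀ a n, VN (σ a • n) = a • VN n)
    (hFVN : ∀ n, FN (VN n) = ϖ • n) (h : M →ₗ[W] N) :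
    (∀ m, h (VM m) ∈ Submodule.span W (Set.range VN)) ↔
      ∃ h' : M →ₗ[W] N, ∀ m, h (VM m) = VN (h' m) := by
  have hVinj : Function.Injective VN := by
    intro x y hxy
    have : ϖ • x = ϖ • y := by rw [← hFVN, ← hFVN, hxy]
    exact smul_inj_of_free hϖ0 this
  constructor
  · intro hh
    have hex : ∀ m, ∃ n, VN n = h (VM m) := fun m => (mem_span_range_iff VN hVN _).mp (hh m)
    choose h0 hh0 using hex
    refine ⟨{ toFun := h0, map_add' := ?_, map_smul' := ?_ }, fun m => (hh0 m).symm⟩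
    · intro x y
      apply hVinj
      rw [hh0, map_add, map_add, map_add, hh0, hh0]
    · intro a x
      obtain ⟨b, rfl⟩ := hσ a
      apply hVinj
      rw [RingHom.id_apply, hh0, hVM, map_smul, ← hh0, hVN]
  · rintro ⟨h', hh'⟩ m
    rw [hh']
    exact Submodule.subset_span ⟨_, rfl⟩

/-- data: Smith normal form of a submodule containing `ϖ M`. -/
lemma finrank_eq_of_smul_le {ϖ : W} (hϖ0 : ϖ ≠ 0) (P : Submodule W M)
    (hP : ∀ m : M, ϖ • m ∈ P) : Module.finrank W P = Module.finrank W M := by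
  apply le_antisymm (Submodule.finrank_le P)
  have hinj : Function.Injective (LinearMap.lsmul W M ϖ) := by
    intro x y hxy
    exact smul_inj_of_free hϖ0 hxy
  have h1 := LinearMap.finrank_range_of_inj hinj
  have h2 : LinearMap.range (LinearMap.lsmul W M ϖ) ≤ P := by
    rintro _ ⟨m, rfl⟩
    exact hP m
  rw [← h1]
  exact Submodule.finrank_mono h2

lemma coeff_dvd {ϖ : W} (P : Submodule W M) (hP : ∀ m : M, ϖ • m ∈ P) {ι : Type*} [Fintype ι]
    (e : Basis ι W M) (a : ι → W) (v : Basis ι W P) (hv : ∀ i, (v i : M) = a i • e i) (i : ι) :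
    a i ∣ ϖ := by
  classical
  obtain ⟨c, hc⟩ := v.mem_submodule_iff'.mp (hP (e i))
  have h1 := congrArg (fun z => e.repr z i) hc
  simp only [hv, ← mul_smul, e.repr_sum_self, map_smul, Finsupp.smul_apply, e.repr_self,
    Finsupp.single_eq_same, smul_eq_mul, mul_one] at h1
  exact ⟨c i, by rw [h1, mul_comm]⟩

theorem part_b {ϖ : W} (hϖ : Irreducible ϖ) (FM VM : M →+ M) (VN : N →+ N)
    (hVFM : ∀ m, VM (FM m) = ϖ • m)
    (g : Submodule.span W (Set.range VM) →ₗ[W] N ⧸ Submodule.span W (Set.range VN))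
    (hg : ∀ m : M, g ⟨VM (FM m), Submodule.subset_span ⟨FM m, rfl⟩⟩ = 0) :
    ∃ h : M →ₗ[W] N, ∀ x : Submodule.span W (Set.range VM),
      (Submodule.span W (Set.range VN)).mkQ (h x) = g x := by
  classical
  have hP : ∀ m : M, ϖ • m ∈ Submodule.span W (Set.range VM) := fun m => by
    rw [← hVFM]; exact Submodule.subset_span ⟨_, rfl⟩
  have hrk := finrank_eq_of_smul_le hϖ.ne_zero _ hP
  obtain ⟨e, he⟩ : ∃ e, e = Submodule.smithNormalFormTopBasis (Module.Free.chooseBasis W M) hrk :=
    ⟨_, rfl⟩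
  obtain ⟨a, ha⟩ : ∃ a, a = Submodule.smithNormalFormCoeffs (Module.Free.chooseBasis W M) hrk :=
    ⟨_, rfl⟩
  obtain ⟨v, hv'⟩ : ∃ v, v = Submodule.smithNormalFormBotBasis (Module.Free.chooseBasis W M) hrk :=
    ⟨_, rfl⟩
  have hv : ∀ i, (v i : M) = a i • e i := by
    intro i
    rw [hv', ha, he]
    exact Submodule.smithNormalFormBotBasis_def _ hrk i
  choose y hy using fun i => (Submodule.span W (Set.range VN)).mkQ_surjective (g (v i))
  refine ⟨e.constr W (fun i => if hu : IsUnit (a i) then (↑(hu.unit⁻¹) : W) • y i else 0),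
    fun x => ?_⟩
  have key : (Submodule.span W (Set.range VN)).mkQ ∘ₗ
      (e.constr W (fun i => if hu : IsUnit (a i) then (↑(hu.unit⁻¹) : W) • y i else 0)) ∘ₗ
      (Submodule.span W (Set.range VM)).subtype = g := by
    apply v.ext
    intro i
    rw [LinearMap.comp_apply, LinearMap.comp_apply, Submodule.subtype_apply, hv i, map_smul,
      Basis.constr_basis]
    by_cases hu : IsUnit (a i)
    · rw [dif_pos hu, smul_smul, IsUnit.mul_val_inv, one_smul, hy]
    · rw [dif_neg hu, smul_zero, map_zero]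
      have hmem : a i ∈ IsLocalRing.maximalIdeal W := hu
      rw [hϖ.maximalIdeal_eq, Ideal.mem_span_singleton'] at hmem
      obtain ⟨c, hc⟩ := hmem
      have hvi : v i = ⟨VM (FM (c • e i)), Submodule.subset_span ⟨_, rfl⟩⟩ := by
        apply Subtype.ext
        show (v i : M) = VM (FM (c • e i))
        rw [hv i, hVFM, ← hc, mul_comm, mul_smul]
      rw [hvi, hg]
  have := LinearMap.congr_fun key x
  simpa using this

theorem part_c {ϖ : W} (hϖ : Irreducible ϖ) (FM VM : M →+ M) (FN VN : N →+ N)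
    (hVFM : ∀ m, VM (FM m) = ϖ • m) (hVFN : ∀ n, VN (FN n) = ϖ • n)
    (r₂ s₁ : ℕ)
    (hr₂ : Module.length W (N ⧸ Submodule.span W (Set.range VN)) = r₂)
    (hs₁ : (Module.finrank W M : ℕ∞) =
      Module.length W (M ⧸ Submodule.span W (Set.range VM)) + s₁) :
    Module.length W ((M →ₗ[W] N) ⧸
      ⨅ m : M, (Submodule.span W (Set.range VN)).comap
        (LinearMap.applyₗ (VM m) : (M →ₗ[W] N) →ₗ[W] N)) = (r₂ * s₁ : ℕ) := by
  classical
  obtain ⟨P, hPdef⟩ : ∃ P, P = Submodule.span W (Set.range VM) := ⟨_, rfl⟩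
  obtain ⟨Q, hQdef⟩ : ∃ Q, Q = Submodule.span W (Set.range VN) := ⟨_, rfl⟩
  rw [← hPdef] at hs₁
  rw [← hQdef] at hr₂ ⊢
  have hP : ∀ m : M, ϖ • m ∈ P := fun m => by
    rw [hPdef, ← hVFM]; exact Submodule.subset_span ⟨_, rfl⟩
  have hQ : ∀ n : N, ϖ • n ∈ Q := fun n => by
    rw [hQdef, ← hVFN]; exact Submodule.subset_span ⟨_, rfl⟩
  have hrk := finrank_eq_of_smul_le hϖ.ne_zero P hP
  obtain ⟨e, he⟩ : ∃ e, e = Submodule.smithNormalFormTopBasis (Module.Free.chooseBasis W M) hrk :=
    ⟨_, rfl⟩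
  obtain ⟨a, ha⟩ : ∃ a, a = Submodule.smithNormalFormCoeffs (Module.Free.chooseBasis W M) hrk :=
    ⟨_, rfl⟩
  obtain ⟨v, hv'⟩ : ∃ v, v = Submodule.smithNormalFormBotBasis (Module.Free.chooseBasis W M) hrk :=
    ⟨_, rfl⟩
  have hv : ∀ i, (v i : M) = a i • e i := by
    intro i
    rw [hv', ha, he]
    exact Submodule.smithNormalFormBotBasis_def _ hrk i
  have hdvd : ∀ i, a i ∣ ϖ := coeff_dvd P hP e a v hv
  -- the evaluation map
  obtain ⟨Θ, hΘ⟩ : ∃ Θ : (M →ₗ[W] N) →ₗ[W] ({i // IsUnit (a i)} → N ⧸ Q),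
      ∀ h i, Θ h i = Q.mkQ (h (v i.1)) :=
    ⟨LinearMap.pi (fun i => Q.mkQ ∘ₗ LinearMap.applyₗ ((v i.1 : P) : M)), fun h i => rfl⟩
  have hsurj : Function.Surjective Θ := by
    intro y
    choose n hn using fun i => Q.mkQ_surjective (y i)
    refine ⟨e.constr W (fun i => if hu : IsUnit (a i) then (↑(hu.unit⁻¹) : W) • n ⟨i, hu⟩ else 0),
      ?_⟩
    funext i
    rw [hΘ, hv i.1, map_smul, Basis.constr_basis, dif_pos i.2, smul_smul, IsUnit.mul_val_inv,
      one_smul, hn]
  have hker : (⨅ m : M, Q.comap (LinearMap.applyₗ (VM m) : (M →ₗ[W] N) →ₗ[W] N)) =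
      LinearMap.ker Θ := by
    ext h
    simp only [Submodule.mem_iInf, Submodule.mem_comap, LinearMap.applyₗ_apply_apply,
      LinearMap.mem_ker]
    constructor
    · intro hh
      funext i
      rw [hΘ, Pi.zero_apply, Submodule.mkQ_apply, Submodule.Quotient.mk_eq_zero]
      have hle : P ≤ Q.comap h := by
        rw [hPdef, Submodule.span_le]
        rintro _ ⟨m, rfl⟩
        exact hh m
      exact hle (v i.1).2
    · intro hh m
      have hall : ∀ i, h (v i) ∈ Q := by
        intro i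
        by_cases hu : IsUnit (a i)
        · have := congrFun hh ⟨i, hu⟩
          rw [hΘ, Pi.zero_apply, Submodule.mkQ_apply, Submodule.Quotient.mk_eq_zero] at this
          exact this
        · have hmem : a i ∈ IsLocalRing.maximalIdeal W := hu
          rw [hϖ.maximalIdeal_eq, Ideal.mem_span_singleton'] at hmem
          obtain ⟨c, hc⟩ := hmem
          rw [hv i, ← hc, mul_comm, mul_smul, map_smul]
          exact hQ _
      have hm : VM m ∈ P := by rw [hPdef]; exact Submodule.subset_span ⟨m, rfl⟩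
      obtain ⟨c, hc⟩ := v.mem_submodule_iff'.mp hm
      rw [hc, map_sum]
      exact Q.sum_mem (fun i _ => by rw [map_smul]; exact Q.smul_mem _ (hall i))
  have e1 : ((M →ₗ[W] N) ⧸ ⨅ m : M, Q.comap (LinearMap.applyₗ (VM m) : (M →ₗ[W] N) →ₗ[W] N))
      ≃ₗ[W] ({i // IsUnit (a i)} → N ⧸ Q) :=
    (Submodule.quotEquivOfEq _ _ hker).trans (Θ.quotKerEquivOfSurjective hsurj)
  rw [e1.length_eq, Module.length_pi, hr₂, ENat.card_eq_coe_fintype_card]
  -- count
  have hlen1 : ∀ i, Module.length W (W ⧸ Ideal.span ({a i} : Set W)) =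
      if ¬ IsUnit (a i) then 1 else 0 := by
    intro i
    by_cases hu : IsUnit (a i)
    · rw [if_neg (not_not.mpr hu), Module.length_eq_zero_iff,
        Ideal.span_singleton_eq_top.mpr hu]
      exact Submodule.Quotient.subsingleton_iff.mpr (by simp)
    · rw [if_pos hu]
      have hassoc : Ideal.span ({a i} : Set W) = IsLocalRing.maximalIdeal W := by
        obtain ⟨c, hc⟩ := hdvd i
        have hcu : IsUnit c := (hϖ.isUnit_or_isUnit hc).resolve_left hu
        rw [hϖ.maximalIdeal_eq, hc]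
        exact (Ideal.span_singleton_mul_right_unit hcu (a i)).symm
      rw [hassoc, Module.length_eq_one_iff, isSimpleModule_iff_isCoatom]
      exact Ideal.isMaximal_def.mp (IsLocalRing.maximalIdeal.isMaximal W)
  have hlen : Module.length W (M ⧸ P) = (Fintype.card {i // ¬ IsUnit (a i)} : ℕ∞) := by
    have e2 := P.quotientEquivPiSpan (Module.Free.chooseBasis W M) hrk
    rw [e2.length_eq, Module.length_pi_of_fintype]
    rw [← ha]
    simp_rw [hlen1]
    rw [Finset.sum_boole, Fintype.card_subtype]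
  have hcard : Fintype.card (Module.Free.ChooseBasisIndex W M) =
      Fintype.card {i // IsUnit (a i)} + Fintype.card {i // ¬ IsUnit (a i)} := by
    rw [Fintype.card_subtype_compl]
    have := Fintype.card_subtype_le (fun i => IsUnit (a i))
    omega
  have hn : Module.finrank W M = Fintype.card (Module.Free.ChooseBasisIndex W M) :=
    Module.finrank_eq_card_basis e
  rw [hlen, hn] at hs₁
  have hs' : Fintype.card (Module.Free.ChooseBasisIndex W M) =
      Fintype.card {i // ¬ IsUnit (a i)} + s₁ := by exact_mod_cast hs₁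
  have hfin : Fintype.card {i // IsUnit (a i)} = s₁ := by omega
  rw [hfin]
  push_cast
  rw [mul_comm]

end generic

section witt

theorem s16417
    (p : ℕ) [Fact p.Prime] (k : Type u) [Field k] [CharP k p] [PerfectRing k p]
    (M : Type v) [AddCommGroup M] [Module (WittVector p k) M]
    [Module.Free (WittVector p k) M] [Module.Finite (WittVector p k) M]
    (N : Type w) [AddCommGroup N] [Module (WittVector p k) N]
    [Module.Free (WittVector p k) N] [Module.Finite (WittVector p k) N]
    (FM VM : M →+ M) (FN VN : N →+ N)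
    (hVM : ∀ (a : WittVector p k) (m : M), VM (WittVector.frobenius a • m) = a • VM m)
    (hVFM : ∀ m : M, VM (FM m) = (p : WittVector p k) • m)
    (hVN : ∀ (a : WittVector p k) (n : N), VN (WittVector.frobenius a • n) = a • VN n)
    (hFVN : ∀ n : N, FN (VN n) = (p : WittVector p k) • n)
    (hVFN : ∀ n : N, VN (FN n) = (p : WittVector p k) • n)
    (r₂ s₁ : ℕ)
    (hr₂ : Module.length (WittVector p k) (N ⧸ Submodule.span (WittVector p k) (Set.range VN)) = r₂)
    (hs₁ : (Module.finrank (WittVector p k) M : ℕ∞) =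
      Module.length (WittVector p k) (M ⧸ Submodule.span (WittVector p k) (Set.range VM)) + s₁) :
    (∀ h : M →ₗ[WittVector p k] N,
      (∀ m : M, h (VM m) ∈ Submodule.span (WittVector p k) (Set.range VN)) ↔
        ∃ h' : M →ₗ[WittVector p k] N, ∀ m : M, h (VM m) = VN (h' m)) ∧
    (∀ g : Submodule.span (WittVector p k) (Set.range VM) →ₗ[WittVector p k]
        N ⧸ Submodule.span (WittVector p k) (Set.range VN),
      (∀ m : M, g ⟨VM (FM m), Submodule.subset_span ⟨FM m, rfl⟩⟩ = 0) →
      ∃ h : M →ₗ[WittVector p k] N, ∀ x : Submodule.span (WittVector p k) (Set.range VM),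
        (Submodule.span (WittVector p k) (Set.range VN)).mkQ (h x) = g x) ∧
    Module.length (WittVector p k) ((M →ₗ[WittVector p k] N) ⧸
      ⨅ m : M, (Submodule.span (WittVector p k) (Set.range VN)).comap
        (LinearMap.applyₗ (VM m) : (M →ₗ[WittVector p k] N) →ₗ[WittVector p k] N)) =
          (r₂ * s₁ : ℕ) := by
  have hσ : Function.Surjective (fun a : WittVector p k => WittVector.frobenius a) :=
    (WittVector.frobenius_bijective p k).surjective
  have hϖ : Irreducible (p : WittVector p k) := WittVector.irreducible p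
  exact ⟨fun h => part_a hσ hϖ.ne_zero VM FN VN hVM hVN hFVN h,
    fun g hg => part_b hϖ FM VM VN hVFM g hg,
    part_c hϖ FM VM FN VN hVFM hVFN r₂ s₁ hr₂ hs₁⟩

end witt

end Groth.Agent.Helper3.DieudHom
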