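import Mathlib
import Groth.Prelude.Def_OmegaPn
import Groth.Prelude.Def_DiffOp
import Groth.Prelude.Def_PP16
import Groth.Prelude.Def_Coh
import Groth.Agent.Lib.Lead.PP1
import Groth.Agent.Lib.Lead.PP2
import Groth.Agent.Lib.Lead.PP7e
import Groth.Agent.Lib.Lead.BCU3
import Groth.Agent.Lib.Lead.OmU13d
import Groth.Agent.Lib.Helper1.Dv9
import Groth.Agent.Lib.Helper1.PushQc
import Groth.Agent.S3815

/-!
# Differential operators on an affine scheme from differential operators on global sections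
-/

set_option autoImplicit false
set_option backward.isDefEq.respectTransparency.types false
set_option linter.style.haveILetI false
set_option linter.unusedSectionVars false
set_option synthInstance.maxHeartbeats 400000
set_option maxHeartbeats 4000000

universe u
open CategoryTheory CategoryTheory.Limits AlgebraicGeometry TopologicalSpace Opposite
open TensorProduct

namespace Groth.Agent.Helper3.DiffGlob

open PrinPart OmegaSh Groth.Agent.Lead.OmU Groth.Agent.Lead.PP Groth.Agent.Lead.PP7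
  Groth.Agent.Lead.BCU

section Alg

/-- algebra: a differential operator of order `≤ k` (commutator sense) factors through any model
`Q` of `P^k ⊗ M` -/
theorem exists_factor {R A : Type u} [CommRing R] [CommRing A] [Algebra R A]
    {M N : Type u} [AddCommGroup M] [Module R M] [Module A M] [IsScalarTower R A M]
    [AddCommGroup N] [Module R N] [Module A N] [IsScalarTower R A N]
    (k : ℕ) (D' : M →ₗ[R] N) (hD : Diff16.IsDiffOpLE R A M N k D')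
    {B' : Type u} [CommRing B'] (lam ρ : A →+* B')
    (π : A ⊗[R] A →+* B') (hπ : ∀ a a' : A, π (a ⊗ₜ[R] a') = lam a * ρ a')
    (hsurj : Function.Surjective π)
    (hker : ∀ t, π t = 0 → t ∈ KaehlerDifferential.ideal R A ^ (k + 1))
    {Q : Type u} [AddCommGroup Q] [Module B' Q] (d : M → Q) (hd : IsBC ρ d) :
    ∃ L : Q →+ N, (∀ (a : A) (q : Q), L (lam a • q) = a • L q) ∧ ∀ m, L (d m) = D' m := by
  obtain ⟨u, ⟨hu1, hu2⟩, -⟩ := (Groth.Agent.S3815.result k R A M N D').1 hD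
  have hle : RingHom.ker π ≤
      RingHom.ker (Ideal.Quotient.mk (KaehlerDifferential.ideal R A ^ (k + 1))) := by
    intro t ht
    rw [RingHom.mem_ker] at ht
    rw [Ideal.mk_ker]
    exact hker t ht
  let σ : B' →+* PP16.P k R A := π.liftOfSurjective hsurj ⟨Ideal.Quotient.mk _, hle⟩
  have hσ : ∀ t, σ (π t) = Ideal.Quotient.mk (KaehlerDifferential.ideal R A ^ (k + 1)) t :=
    fun t => RingHom.liftOfSurjective_comp_apply π hsurj ⟨Ideal.Quotient.mk _, hle⟩ t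
  have hσlam : ∀ a : A, σ (lam a) = algebraMap A (PP16.P k R A) a := by
    intro a
    have h1 : π (a ⊗ₜ[R] (1 : A)) = lam a := by rw [hπ, map_one, mul_one]
    rw [← h1, hσ]
    rfl
  have hσρ : ∀ a : A, σ (ρ a) = PP16.dn k R A a := by
    intro a
    have h1 : π ((1 : A) ⊗ₜ[R] a) = ρ a := by rw [hπ, map_one, one_mul]
    rw [← h1, hσ]
    rfl
  letI algAB : Algebra A B' := ρ.toAlgebra
  letI modAQ : Module A Q := Module.compHom Q ρ
  haveI towABQ : IsScalarTower A B' Q := ⟨fun a b q => by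
    change (ρ a * b) • q = ρ a • b • q
    exact mul_smul _ _ _⟩
  obtain ⟨l', hl', hbl⟩ := hd
  letI modBT : Module B' (PP16.PM k R A M) := Module.compHom (PP16.PM k R A M) σ
  have hdn : ∀ (a : A) (t : PP16.PM k R A M), (PP16.dn k R A a : PP16.P k R A) • t = a • t := by
    intro a t
    induction t using TensorProduct.induction_on with
    | zero => rw [smul_zero, smul_zero]
    | tmul x m =>
      rw [TensorProduct.smul_tmul', TensorProduct.smul_tmul']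
      rfl
    | add x y hx hy => rw [smul_add, smul_add, hx, hy]
  haveI towABT : IsScalarTower A B' (PP16.PM k R A M) := ⟨fun a b t => by
    change σ (ρ a * b) • t = a • (σ b • t)
    rw [map_mul, hσρ, mul_smul, hdn]⟩
  let g : M →ₗ[A] PP16.PM k R A M := TensorProduct.mk A (PP16.Pr k R A) M 1
  let Λ : Q →ₗ[B'] PP16.PM k R A M := hbl.lift g
  have hΛ : ∀ m, Λ (l' m) = g m := fun m => hbl.lift_eq g m
  refine ⟨u.comp Λ.toAddMonoidHom, fun a q => ?_, fun m => ?_⟩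
  · change u (Λ (lam a • q)) = a • u (Λ q)
    rw [Λ.map_smul]
    change u (σ (lam a) • Λ q) = a • u (Λ q)
    rw [hσlam, hu1]
  · change u (Λ (d m)) = D' m
    rw [← hl', hΛ]
    exact hu2 m

end Alg

section AffHom

/-- on an affine scheme, a linear map of global sections out of a quasi-coherent module comes
from a morphism of modules -/
theorem exists_hom_of_affine {X : Scheme.{u}} [IsAffine X] (E G : X.Modules)
    [E.IsQuasicoherent] (θ : Γ(E, ⊤) →ₗ[Γ(X, ⊤)] Γ(G, ⊤)) :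
    ∃ φ : E ⟶ G, ∀ s : Γ(E, ⊤), φ.app ⊤ s = θ s := by
  haveI : ((Scheme.Modules.pushforward X.toSpecΓ).obj E).IsQuasicoherent :=
    Groth.Agent.Helper1.PushQc.isQuasicoherent_pushforward X.toSpecΓ E
  let θ'' : Γ((Scheme.Modules.pushforward X.toSpecΓ).obj E, (⊤ : (Spec Γ(X, ⊤)).Opens))
      →ₗ[Γ(Spec Γ(X, ⊤), ⊤)]
      Γ((Scheme.Modules.pushforward X.toSpecΓ).obj G, (⊤ : (Spec Γ(X, ⊤)).Opens)) :=
    { toFun := fun s => θ s
      map_add' := fun s s' => θ.map_add s s'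
      map_smul' := fun x s => θ.map_smul ((X.toSpecΓ.app ⊤).hom x) s }
  obtain ⟨φ', hφ'⟩ := Groth.Agent.Helper1.Dv.exists_hom_spec
    ((Scheme.Modules.pushforward X.toSpecΓ).obj E) ((Scheme.Modules.pushforward X.toSpecΓ).obj G)
    (θ''.restrictScalars Γ(X, ⊤))
  refine ⟨(Scheme.Modules.pushforward X.toSpecΓ).preimage φ', fun s => ?_⟩
  have hmap : (Scheme.Modules.pushforward X.toSpecΓ).map
      ((Scheme.Modules.pushforward X.toSpecΓ).preimage φ') = φ' := Functor.map_preimage _ _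
  have h2 : ∀ s', ((Scheme.Modules.pushforward X.toSpecΓ).map
      ((Scheme.Modules.pushforward X.toSpecΓ).preimage φ')).app ⊤ s' = θ s' := by
    rw [hmap]
    exact hφ'
  exact h2 s

end AffHom

section Chart

theorem appTop_eq {X S : Scheme.{u}} (f : X ⟶ S) (e : (⊤ : X.Opens) ≤ f ⁻¹ᵁ (⊤ : S.Opens)) :
    f.appTop = f.appLE ⊤ ⊤ e :=
  (Scheme.Hom.appLE_eq_app f (U := ⊤)).symm

theorem exists_L {X S : Scheme.{u}} [IsAffine X] [IsAffine S] (f : X ⟶ S)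
    (F G : X.Modules) [F.IsQuasicoherent] (k : ℕ)
    (e : (⊤ : X.Opens) ≤ f ⁻¹ᵁ (⊤ : S.Opens))
    (φ : Γ(S, ⊤) →+* Γ(X, ⊤)) (hφ : φ = (f.appLE ⊤ ⊤ e).hom) :
    letI : Algebra Γ(S, ⊤) Γ(X, ⊤) := φ.toAlgebra
    letI : Module Γ(S, ⊤) Γ(F, ⊤) := Module.compHom Γ(F, ⊤) φ
    letI : Module Γ(S, ⊤) Γ(G, ⊤) := Module.compHom Γ(G, ⊤) φ
    haveI : IsScalarTower Γ(S, ⊤) Γ(X, ⊤) Γ(F, ⊤) := IsScalarTower.of_algebraMap_smul fun _ _ => rfl
    haveI : IsScalarTower Γ(S, ⊤) Γ(X, ⊤) Γ(G, ⊤) := IsScalarTower.of_algebraMap_smul fun _ _ => rfl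
    ∀ D' : Γ(F, ⊤) →ₗ[Γ(S, ⊤)] Γ(G, ⊤), Diff16.IsDiffOpLE Γ(S, ⊤) Γ(X, ⊤) Γ(F, ⊤) Γ(G, ⊤) k D' →
      ∃ L : Γ(PMod f k F, ⊤) →ₗ[Γ(X, ⊤)] Γ(G, ⊤), ∀ m : Γ(F, ⊤), L (dP f k F ⊤ m) = D' m := by
  subst hφ
  intro D' hD
  letI algRA : Algebra Γ(S, ⊤) Γ(X, ⊤) := (f.appLE ⊤ ⊤ e).hom.toAlgebra
  letI modRM : Module Γ(S, ⊤) Γ(F, ⊤) := Module.compHom Γ(F, ⊤) (f.appLE ⊤ ⊤ e).hom
  letI modRN : Module Γ(S, ⊤) Γ(G, ⊤) := Module.compHom Γ(G, ⊤) (f.appLE ⊤ ⊤ e).hom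
  haveI towM : IsScalarTower Γ(S, ⊤) Γ(X, ⊤) Γ(F, ⊤) :=
    IsScalarTower.of_algebraMap_smul fun _ _ => rfl
  haveI towN : IsScalarTower Γ(S, ⊤) Γ(X, ⊤) Γ(G, ⊤) :=
    IsScalarTower.of_algebraMap_smul fun _ _ => rfl
  have hU : IsAffineOpen (⊤ : X.Opens) := isAffineOpen_top X
  have hV : IsAffineOpen (⊤ : S.Opens) := isAffineOpen_top S
  have hU' : IsAffineOpen (pr1 f k ⁻¹ᵁ (⊤ : X.Opens)) := hU.preimage (pr1 f k)
  obtain ⟨εT, hεT⟩ := exists_tensorEquiv f hU hV e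
  obtain ⟨ψ, hψ⟩ := exists_ψ f k hU hV e
  obtain ⟨hψs, hψk⟩ := chart f k hU hV e ψ hψ
  have key : ∀ t : Γ(X, ⊤) ⊗[Γ(S, ⊤)] Γ(X, ⊤), εP f k ⊤ (ψ t) = κ f k ⊤ (εT t) := by
    intro t
    induction t using TensorProduct.induction_on with
    | zero => rw [map_zero, map_zero, map_zero, map_zero]
    | tmul b b' => rw [hψ, εP_smul_dn, hεT, map_mul, κ_fst, κ_snd]
    | add x y hx hy => rw [map_add, map_add, map_add, map_add, hx, hy]
  have hb := εP_bijective f k (⊤ : X.Opens)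
  let π : Γ(X, ⊤) ⊗[Γ(S, ⊤)] Γ(X, ⊤) →+* Γ(nbhd f k, pr1 f k ⁻¹ᵁ (⊤ : X.Opens)) :=
    (κ f k ⊤).comp (εT : _ →+* _)
  have hπ : ∀ a a' : Γ(X, ⊤), π (a ⊗ₜ[Γ(S, ⊤)] a') = ((pr1 f k).app ⊤).hom a *
      ((pr2 f k).appLE ⊤ (pr1 f k ⁻¹ᵁ ⊤) (preimage_pr1 f k ⊤).le).hom a' := by
    intro a a'
    change κ f k ⊤ (εT (a ⊗ₜ a')) = _
    rw [hεT, map_mul, κ_fst, κ_snd]
  have hsurj : Function.Surjective π := by
    intro y
    obtain ⟨p, hp⟩ := hb.2 y
    obtain ⟨t, ht⟩ := hψs p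
    refine ⟨t, ?_⟩
    change κ f k ⊤ (εT t) = y
    rw [← key, ht, hp]
  have hker : ∀ t, π t = 0 → t ∈ KaehlerDifferential.ideal Γ(S, ⊤) Γ(X, ⊤) ^ (k + 1) := by
    intro t ht
    have h1 : εP f k ⊤ (ψ t) = 0 := by
      rw [key]
      exact ht
    have h2 : ψ t = 0 := hb.1 (by rw [h1, map_zero])
    have h3 : t ∈ ψ.ker := AddMonoidHom.mem_ker.2 h2
    rw [hψk] at h3
    exact h3
  have hbc := isBC_unitRes (pr2 f k) F hU hU' (preimage_pr1 f k ⊤).le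
  obtain ⟨L, hL1, hL2⟩ := exists_factor k D' hD ((pr1 f k).app ⊤).hom
    ((pr2 f k).appLE ⊤ (pr1 f k ⁻¹ᵁ ⊤) (preimage_pr1 f k ⊤).le).hom π hπ hsurj hker
    (unitRes (pr2 f k) F (preimage_pr1 f k ⊤).le) hbc
  refine ⟨{ toFun := fun q => L q
            map_add' := fun q q' => map_add L q q'
            map_smul' := fun a q => hL1 a q }, fun m => ?_⟩
  exact hL2 m

end Chart

section Main

/-- **S9715** -/
theorem main {X S : Scheme.{u}} [IsAffine X] [IsAffine S] (f : X ⟶ S)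
    (F G : X.Modules) (hF : Coh.IsQCoh F) (k : ℕ) :
    letI : Algebra Γ(S, ⊤) Γ(X, ⊤) := f.appTop.hom.toAlgebra
    letI : Module Γ(S, ⊤) Γ(F, ⊤) := Module.compHom Γ(F, ⊤) f.appTop.hom
    letI : Module Γ(S, ⊤) Γ(G, ⊤) := Module.compHom Γ(G, ⊤) f.appTop.hom
    haveI : IsScalarTower Γ(S, ⊤) Γ(X, ⊤) Γ(F, ⊤) := IsScalarTower.of_algebraMap_smul fun _ _ => rfl
    haveI : IsScalarTower Γ(S, ⊤) Γ(X, ⊤) Γ(G, ⊤) := IsScalarTower.of_algebraMap_smul fun _ _ => rfl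
    ∀ D' : Γ(F, ⊤) →ₗ[Γ(S, ⊤)] Γ(G, ⊤), Diff16.IsDiffOpLE Γ(S, ⊤) Γ(X, ⊤) Γ(F, ⊤) Γ(G, ⊤) k D' →
      ∃ D : F.presheaf ⟶ G.presheaf, PrinPart.IsDiffOpLE f F G k D ∧
        ∀ m : Γ(F, ⊤), (D.app (op ⊤)).hom m = D' m := by
  intro D' hD
  haveI : F.IsQuasicoherent := hF
  have e : (⊤ : X.Opens) ≤ f ⁻¹ᵁ (⊤ : S.Opens) := le_of_eq rfl
  obtain ⟨L, hL⟩ := exists_L f F G k e f.appTop.hom
    (congrArg CommRingCat.Hom.hom (appTop_eq f e)) D' hD
  haveI : (PMod f k F).IsQuasicoherent := isQCoh_PMod f k F hF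
  obtain ⟨u, hu⟩ := exists_hom_of_affine (PMod f k F) G L
  refine ⟨dPHom f k F ≫ Scheme.Modules.Hom.mapPresheaf u, ⟨u, fun U t => rfl⟩, fun m => ?_⟩
  change u.app ⊤ (dP f k F ⊤ m) = D' m
  rw [hu, hL]

end Main

end Groth.Agent.Helper3.DiffGlob
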