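import Mathlib

set_option autoImplicit false
universe u

namespace Groth.Agent.Helper3.DiffLoc

open nonZeroDivisors IsLocalization Algebra Submodule

section mem
variable (A K : Type u) {L : Type u} (B : Type u) [CommRing A] [Field K] [CommRing B] [Field L]
variable [Algebra A K] [Algebra B L] [Algebra A B] [Algebra K L] [Algebra A L]
variable [IsScalarTower A K L] [IsScalarTower A B L]
variable [IsDomain A] [IsFractionRing A K]
  [FiniteDimensional K L] [Algebra.IsSeparable K L] [IsIntegralClosure B A L]
  [IsFractionRing B L] [IsIntegrallyClosed A] [IsDedekindDomain B] [Module.IsTorsionFree A B]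

lemma mem_traceDual_one_iff (y : L) :
    y ∈ Submodule.traceDual A K (1 : Submodule B L) ↔
      ∀ b : B, Algebra.trace K L (y * algebraMap B L b) ∈ (algebraMap A K).range := by
  rw [Submodule.mem_traceDual]
  constructor
  · intro h b
    have := h (algebraMap B L b) (Submodule.mem_one.mpr ⟨b, rfl⟩)
    rwa [Algebra.traceForm_apply] at this
  · intro h a ha
    obtain ⟨b, rfl⟩ := Submodule.mem_one.mp ha
    rw [Algebra.traceForm_apply]
    exact h b

lemma mem_differentIdeal_iff (x : B) :
    x ∈ differentIdeal A B ↔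
      ∀ y : L, y ∈ Submodule.traceDual A K (1 : Submodule B L) →
        algebraMap B L x * y ∈ (algebraMap B L).range := by
  have hinj : Function.Injective (algebraMap B L) := IsFractionRing.injective B L
  have h1 : x ∈ differentIdeal A B ↔
      algebraMap B L x ∈ coeSubmodule L (differentIdeal A B) := by
    rw [IsLocalization.mem_coeSubmodule]
    constructor
    · intro hx; exact ⟨x, hx, rfl⟩
    · rintro ⟨y, hy, hxy⟩
      rwa [← hinj hxy]
  rw [h1, coeSubmodule_differentIdeal A K B, Submodule.mem_div_iff_forall_mul_mem]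
  refine forall₂_congr (fun y _ => ?_)
  rw [Submodule.mem_one]
  rfl

end mem

section core

/-- The different localizes (AKLB form, with compatible embeddings of the localizations into
`K` and `L`). -/
theorem core (A K L B : Type u) [CommRing A] [Field K] [CommRing B] [Field L]
    [Algebra A K] [Algebra B L] [Algebra A B] [Algebra K L] [Algebra A L]
    [IsScalarTower A K L] [IsScalarTower A B L]
    [IsDomain A] [IsFractionRing A K]
    [FiniteDimensional K L] [Algebra.IsSeparable K L] [IsIntegralClosure B A L]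
    [IsFractionRing B L] [IsIntegrallyClosed A] [IsDedekindDomain B] [Module.IsTorsionFree A B]
    [Module.Finite A B]
    (S : Submonoid A) (hS : S ≤ nonZeroDivisors A)
    (Aₛ Bₛ : Type u) [CommRing Aₛ] [CommRing Bₛ] [Algebra Aₛ K] [Algebra Bₛ L] [Algebra Aₛ Bₛ]
    [Algebra Aₛ L] [IsScalarTower Aₛ K L] [IsScalarTower Aₛ Bₛ L] [IsDomain Aₛ]
    [IsFractionRing Aₛ K]
    [IsIntegralClosure Bₛ Aₛ L] [IsFractionRing Bₛ L] [IsIntegrallyClosed Aₛ]
    [IsDedekindDomain Bₛ] [Module.IsTorsionFree Aₛ Bₛ]
    [Algebra A Aₛ] [Algebra B Bₛ] [IsScalarTower A Aₛ K] [IsScalarTower B Bₛ L]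
    [IsLocalization S Aₛ] [IsLocalization (Algebra.algebraMapSubmonoid B S) Bₛ] :
    Ideal.map (algebraMap B Bₛ) (differentIdeal A B) = differentIdeal Aₛ Bₛ := by
  have cB : ∀ b : B, algebraMap Bₛ L (algebraMap B Bₛ b) = algebraMap B L b := fun b =>
    (IsScalarTower.algebraMap_apply B Bₛ L b).symm
  have cA : ∀ a : A, algebraMap Aₛ K (algebraMap A Aₛ a) = algebraMap A K a := fun a =>
    (IsScalarTower.algebraMap_apply A Aₛ K a).symm
  have cAB : ∀ a : A, algebraMap B L (algebraMap A B a) = algebraMap K L (algebraMap A K a) :=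
    fun a => by
      rw [← IsScalarTower.algebraMap_apply A B L, IsScalarTower.algebraMap_apply A K L]
  have hjA : Function.Injective (algebraMap A K) := IsFractionRing.injective A K
  have hkL : Function.Injective (algebraMap K L) := (algebraMap K L).injective
  have hsne : ∀ s : A, s ∈ S → algebraMap K L (algebraMap A K s) ≠ 0 := by
    intro s hs h0
    have h1 : algebraMap A K s = 0 := hkL (by rw [h0, map_zero])
    have h2 : s = 0 := hjA (by rw [h1, map_zero])
    exact nonZeroDivisors.ne_zero (hS hs) h2
  have htr : ∀ (k : K) (z : L),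
      Algebra.trace K L (algebraMap K L k * z) = k * Algebra.trace K L z := by
    intro k z
    rw [← Algebra.smul_def, map_smul, smul_eq_mul]
  apply le_antisymm
  · rw [Ideal.map_le_iff_le_comap]
    intro x hx
    rw [Ideal.mem_comap, mem_differentIdeal_iff (L := L) Aₛ K Bₛ]
    intro y hy
    rw [mem_traceDual_one_iff (L := L) Aₛ K Bₛ] at hy
    rw [mem_differentIdeal_iff (L := L) A K B] at hx
    obtain ⟨G, hG⟩ := (Module.Finite.fg_top : (⊤ : Submodule A B).FG)
    have h1 : ∀ g : B, ∃ α : Aₛ,
        algebraMap Aₛ K α = Algebra.trace K L (y * algebraMap B L g) := by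
      intro g
      have := hy (algebraMap B Bₛ g)
      rw [cB] at this
      exact this
    choose α hα using h1
    obtain ⟨s, hs⟩ := IsLocalization.exist_integer_multiples S G α
    have hw : algebraMap K L (algebraMap A K s) * y ∈
        Submodule.traceDual A K (1 : Submodule B L) := by
      rw [mem_traceDual_one_iff (L := L) A K B]
      intro b
      have hb : b ∈ Submodule.span A (G : Set B) := by rw [hG]; trivial
      induction hb using Submodule.span_induction with
      | mem g hg =>
        obtain ⟨a, ha⟩ := hs g (Finset.mem_coe.mp hg)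
        refine ⟨a, ?_⟩
        rw [mul_assoc, htr, ← hα, ← cA a, ← cA (s : A), ← map_mul, ha, Algebra.smul_def]
      | zero => rw [map_zero, mul_zero, map_zero]; exact zero_mem _
      | add b₁ b₂ _ _ h₁ h₂ => rw [map_add, mul_add, map_add]; exact add_mem h₁ h₂
      | smul a b _ h =>
        rw [Algebra.smul_def, map_mul (algebraMap B L), cAB,
          mul_left_comm _ (algebraMap K L (algebraMap A K a)), htr]
        exact mul_mem ⟨a, rfl⟩ h
    obtain ⟨b₀, hb₀⟩ := hx _ hw
    have hσ : algebraMap A B s ∈ Algebra.algebraMapSubmonoid B S := ⟨s, s.2, rfl⟩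
    refine ⟨IsLocalization.mk' Bₛ b₀ ⟨algebraMap A B s, hσ⟩, ?_⟩
    have h2 := IsLocalization.mk'_spec Bₛ b₀ ⟨algebraMap A B s, hσ⟩
    have h3 := congrArg (algebraMap Bₛ L) h2
    rw [map_mul, cB, cB, cAB, hb₀] at h3
    rw [cB]
    apply mul_right_cancel₀ (hsne s s.2)
    rw [h3]; ring
  · intro z hz
    obtain ⟨b, t, rfl⟩ := IsLocalization.exists_mk'_eq (Algebra.algebraMapSubmonoid B S) z
    have hb : algebraMap B Bₛ b ∈ differentIdeal Aₛ Bₛ := by
      rw [← IsLocalization.mk'_spec Bₛ b t]
      exact Ideal.mul_mem_right _ _ hz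
    rw [mem_differentIdeal_iff (L := L) Aₛ K Bₛ] at hb
    have hsub : ∀ y : L, y ∈ Submodule.traceDual A K (1 : Submodule B L) →
        y ∈ Submodule.traceDual Aₛ K (1 : Submodule Bₛ L) := by
      intro y hy
      rw [mem_traceDual_one_iff (L := L) A K B] at hy
      rw [mem_traceDual_one_iff (L := L) Aₛ K Bₛ]
      intro c
      obtain ⟨b', t'', rfl⟩ :=
        IsLocalization.exists_mk'_eq (Algebra.algebraMapSubmonoid B S) c
      obtain ⟨s'', hs'', hst⟩ := t''.2
      obtain ⟨a, ha⟩ := hy b'
      refine ⟨IsLocalization.mk' Aₛ a ⟨s'', hs''⟩, ?_⟩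
      have h2 := IsLocalization.mk'_spec Bₛ b' t''
      have h3 := congrArg (algebraMap Bₛ L) h2
      rw [map_mul, cB, cB, ← hst, cAB] at h3
      have h4 := IsLocalization.mk'_spec Aₛ a ⟨s'', hs''⟩
      have h5 := congrArg (algebraMap Aₛ K) h4
      rw [map_mul, cA, cA] at h5
      have hne : algebraMap A K s'' ≠ 0 := fun h0 => hsne s'' hs'' (by rw [h0, map_zero])
      apply mul_right_cancel₀ hne
      rw [h5, ha, ← h3, mul_comm _ (algebraMap A K s''), ← htr]
      congr 1; ring
    have hfg : (Submodule.traceDual A K (1 : Submodule B L)).FG := by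
      rw [← FractionalIdeal.coe_dual_one A K L B]
      exact FractionalIdeal.fg_of_isNoetherianRing le_rfl _
    obtain ⟨G', hG'⟩ := hfg
    have hG'mem : ∀ g ∈ G', g ∈ Submodule.traceDual A K (1 : Submodule B L) := by
      intro g hg
      rw [← hG']
      exact Submodule.subset_span (Finset.mem_coe.mpr hg)
    have h1 : ∀ g : L, ∃ c : Bₛ, g ∈ G' → algebraMap Bₛ L c = algebraMap B L b * g := by
      intro g
      by_cases hg : g ∈ G'
      · obtain ⟨c, hc⟩ := hb g (hsub g (hG'mem g hg))
        exact ⟨c, fun _ => by rw [hc, cB]⟩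
      · exact ⟨0, fun h => absurd h hg⟩
    choose c hc using h1
    obtain ⟨t', ht'⟩ :=
      IsLocalization.exist_integer_multiples (Algebra.algebraMapSubmonoid B S) G' c
    have hmem : (t' : B) * b ∈ differentIdeal A B := by
      rw [mem_differentIdeal_iff (L := L) A K B]
      intro y hy
      rw [← hG'] at hy
      induction hy using Submodule.span_induction with
      | mem g hg =>
        obtain ⟨bg, hbg⟩ := ht' g (Finset.mem_coe.mp hg)
        refine ⟨bg, ?_⟩
        have e1 : algebraMap Bₛ L (algebraMap B Bₛ bg) =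
            algebraMap Bₛ L (algebraMap B Bₛ ↑t') * algebraMap Bₛ L (c g) := by
          rw [hbg, Algebra.smul_def, map_mul]
        rw [cB, cB, hc g (Finset.mem_coe.mp hg)] at e1
        rw [e1, map_mul, mul_assoc]
      | zero => rw [mul_zero]; exact zero_mem _
      | add y₁ y₂ _ _ h₁ h₂ => rw [mul_add]; exact add_mem h₁ h₂
      | smul b'' y _ h =>
        rw [Algebra.smul_def, mul_left_comm _ (algebraMap B L b'')]
        exact mul_mem ⟨b'', rfl⟩ h
    have hunit : IsUnit (algebraMap B Bₛ (t' : B)) := IsLocalization.map_units Bₛ t'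
    have hb' : algebraMap B Bₛ b ∈ Ideal.map (algebraMap B Bₛ) (differentIdeal A B) := by
      have := Ideal.mem_map_of_mem (algebraMap B Bₛ) hmem
      rw [map_mul] at this
      exact (Ideal.unit_mul_mem_iff_mem _ hunit).mp this
    rw [IsLocalization.mk'_eq_mul_mk'_one]
    exact Ideal.mul_mem_right _ _ hb'

end core

section final

attribute [local instance] FractionRing.liftAlgebra FractionRing.isScalarTower_liftAlgebra

theorem s11086 (A B : Type u) [CommRing A] [CommRing B]
    [IsDedekindDomain A] [IsDedekindDomain B] [Algebra A B] [Module.Finite A B]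
    [Module.IsTorsionFree A B]
    [Algebra.IsSeparable (FractionRing A) (FractionRing B)]
    (S : Submonoid A) (hS : S ≤ nonZeroDivisors A)
    (Aₛ Bₛ : Type u) [CommRing Aₛ] [CommRing Bₛ] [Algebra A Aₛ] [Algebra B Bₛ] [Algebra Aₛ Bₛ]
    [Algebra A Bₛ] [IsScalarTower A Aₛ Bₛ] [IsScalarTower A B Bₛ]
    [IsLocalization S Aₛ] [IsLocalization (Algebra.algebraMapSubmonoid B S) Bₛ]
    [IsDomain Aₛ] [IsIntegrallyClosed Aₛ] [IsDedekindDomain Bₛ] [Module.IsTorsionFree Aₛ Bₛ] :
    Ideal.map (algebraMap B Bₛ) (differentIdeal A B) = differentIdeal Aₛ Bₛ := by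
  have hAB : Function.Injective (algebraMap A B) := FaithfulSMul.algebraMap_injective A B
  -- Aₛ → K
  have hunitsA : ∀ y : S, IsUnit (algebraMap A (FractionRing A) y) := fun y =>
    IsLocalization.map_units (FractionRing A) (⟨y, hS y.2⟩ : nonZeroDivisors A)
  letI algAsK : Algebra Aₛ (FractionRing A) := (IsLocalization.lift hunitsA).toAlgebra
  haveI towA : IsScalarTower A Aₛ (FractionRing A) :=
    IsScalarTower.of_algebraMap_eq (fun a => (IsLocalization.lift_eq hunitsA a).symm)
  haveI frA : IsFractionRing Aₛ (FractionRing A) :=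
    IsFractionRing.isFractionRing_of_isDomain_of_isLocalization S Aₛ (FractionRing A)
  -- Bₛ → L
  have hSB : Algebra.algebraMapSubmonoid B S ≤ nonZeroDivisors B := by
    rintro _ ⟨s, hs, rfl⟩
    apply mem_nonZeroDivisors_of_ne_zero
    intro h0
    have : s = 0 := hAB (by rw [h0, map_zero])
    exact nonZeroDivisors.ne_zero (hS hs) this
  have hunitsB : ∀ y : Algebra.algebraMapSubmonoid B S,
      IsUnit (algebraMap B (FractionRing B) y) := fun y =>
    IsLocalization.map_units (FractionRing B) (⟨y, hSB y.2⟩ : nonZeroDivisors B)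
  letI algBsL : Algebra Bₛ (FractionRing B) := (IsLocalization.lift hunitsB).toAlgebra
  haveI towB : IsScalarTower B Bₛ (FractionRing B) :=
    IsScalarTower.of_algebraMap_eq (fun a => (IsLocalization.lift_eq hunitsB a).symm)
  haveI frB : IsFractionRing Bₛ (FractionRing B) :=
    IsFractionRing.isFractionRing_of_isDomain_of_isLocalization
      (Algebra.algebraMapSubmonoid B S) Bₛ (FractionRing B)
  -- Aₛ → L
  letI algAsL : Algebra Aₛ (FractionRing B) :=
    ((algebraMap (FractionRing A) (FractionRing B)).comp (algebraMap Aₛ (FractionRing A))).toAlgebra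
  haveI towAKL : IsScalarTower Aₛ (FractionRing A) (FractionRing B) :=
    IsScalarTower.of_algebraMap_eq (fun _ => rfl)
  haveI towABL : IsScalarTower Aₛ Bₛ (FractionRing B) := by
    apply IsScalarTower.of_algebraMap_eq'
    apply IsLocalization.ringHom_ext S
    ext a
    change algebraMap (FractionRing A) (FractionRing B)
        (algebraMap Aₛ (FractionRing A) (algebraMap A Aₛ a)) =
      algebraMap Bₛ (FractionRing B) (algebraMap Aₛ Bₛ (algebraMap A Aₛ a))
    rw [← IsScalarTower.algebraMap_apply A Aₛ (FractionRing A),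
      ← IsScalarTower.algebraMap_apply A Aₛ Bₛ, IsScalarTower.algebraMap_apply A B Bₛ,
      ← IsScalarTower.algebraMap_apply B Bₛ (FractionRing B),
      ← IsScalarTower.algebraMap_apply A (FractionRing A) (FractionRing B),
      ← IsScalarTower.algebraMap_apply A B (FractionRing B)]
  haveI : Algebra.IsIntegral A B := inferInstance
  haveI icB : IsIntegralClosure B A (FractionRing B) :=
    IsIntegralClosure.of_isIntegrallyClosed B A (FractionRing B)
  haveI finS : Module.Finite Aₛ Bₛ := Module.Finite.of_isLocalization A B S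
  haveI : Algebra.IsIntegral Aₛ Bₛ := inferInstance
  haveI icBs : IsIntegralClosure Bₛ Aₛ (FractionRing B) :=
    IsIntegralClosure.of_isIntegrallyClosed Bₛ Aₛ (FractionRing B)
  haveI : IsLocalization (Algebra.algebraMapSubmonoid B (nonZeroDivisors A)) (FractionRing B) :=
    IsIntegralClosure.isLocalization _ (FractionRing A) _ _
  haveI : FiniteDimensional (FractionRing A) (FractionRing B) :=
    Module.Finite.of_isLocalization A B (nonZeroDivisors A)
  exact core A (FractionRing A) (FractionRing B) B S hS Aₛ Bₛ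

end final

end Groth.Agent.Helper3.DiffLoc
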