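import Groth.Prelude.Def_DiffOp
import Mathlib.Algebra.Algebra.Subalgebra.Lattice
import Mathlib.Algebra.BigOperators.Ring.Finset
import Mathlib.Data.Fintype.Powerset
import Mathlib.Algebra.BigOperators.Group.Finset.Powerset

/-!
# Differential operators (order defined through commutators): basic calculus
Helper lemmas for `Diff16.IsDiffOpLE`.
-/

namespace Groth.Agent.Helper3.DiffOp

open Diff16

universe u v

variable {A B : Type u} [CommRing A] [CommRing B] [Algebra A B]
variable {M N P : Type v} [AddCommGroup M] [Module A M] [Module B M] [IsScalarTower A B M]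
  [AddCommGroup N] [Module A N] [Module B N] [IsScalarTower A B N]
  [AddCommGroup P] [Module A P] [Module B P] [IsScalarTower A B P]

@[simp] lemma commutator_apply (D : M →ₗ[A] N) (b : B) (m : M) :
    commutator A B M N D b m = D (b • m) - b • D m := by
  simp [commutator]

lemma isDiffOpLE_zero_iff (D : M →ₗ[A] N) :
    IsDiffOpLE A B M N 0 D ↔ ∀ (b : B) (m : M), D (b • m) = b • D m := Iff.rfl

lemma isDiffOpLE_succ_iff (n : ℕ) (D : M →ₗ[A] N) :
    IsDiffOpLE A B M N (n + 1) D ↔ ∀ b : B, IsDiffOpLE A B M N n (commutator A B M N D b) :=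
  Iff.rfl

@[simp] lemma commutator_zero (b : B) : commutator A B M N 0 b = 0 := by
  ext m; simp

lemma commutator_add (D₁ D₂ : M →ₗ[A] N) (b : B) :
    commutator A B M N (D₁ + D₂) b = commutator A B M N D₁ b + commutator A B M N D₂ b := by
  ext m; simp only [commutator_apply, LinearMap.add_apply, smul_add]; abel

lemma commutator_neg (D : M →ₗ[A] N) (b : B) :
    commutator A B M N (-D) b = - commutator A B M N D b := by
  ext m; simp only [commutator_apply, LinearMap.neg_apply, smul_neg]; abel

lemma commutator_sub (D₁ D₂ : M →ₗ[A] N) (b : B) :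
    commutator A B M N (D₁ - D₂) b = commutator A B M N D₁ b - commutator A B M N D₂ b := by
  ext m; simp only [commutator_apply, LinearMap.sub_apply, smul_sub]; abel

lemma commutator_add_right (D : M →ₗ[A] N) (b b' : B) :
    commutator A B M N D (b + b') = commutator A B M N D b + commutator A B M N D b' := by
  ext m; simp only [commutator_apply, LinearMap.add_apply, add_smul, map_add]; abel

lemma commutator_algebraMap (D : M →ₗ[A] N) (a : A) :
    commutator A B M N D (algebraMap A B a) = 0 := by
  ext m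
  simp only [commutator_apply, LinearMap.zero_apply, algebraMap_smul, map_smul, sub_self]

lemma isDiffOpLE_zero_map (n : ℕ) : IsDiffOpLE A B M N n (0 : M →ₗ[A] N) := by
  induction n with
  | zero => intro b m; simp
  | succ n ih => intro b; rw [commutator_zero]; exact ih

lemma isDiffOpLE_add {n : ℕ} {D₁ D₂ : M →ₗ[A] N} (h₁ : IsDiffOpLE A B M N n D₁)
    (h₂ : IsDiffOpLE A B M N n D₂) : IsDiffOpLE A B M N n (D₁ + D₂) := by
  induction n generalizing D₁ D₂ with
  | zero =>
    intro b m
    simp only [LinearMap.add_apply, smul_add]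
    rw [h₁ b m, h₂ b m]
  | succ n ih =>
    intro b
    rw [commutator_add]
    exact ih (h₁ b) (h₂ b)

lemma isDiffOpLE_neg {n : ℕ} {D : M →ₗ[A] N} (h : IsDiffOpLE A B M N n D) :
    IsDiffOpLE A B M N n (-D) := by
  induction n generalizing D with
  | zero =>
    intro b m
    simp only [LinearMap.neg_apply, smul_neg]
    rw [h b m]
  | succ n ih =>
    intro b
    rw [commutator_neg]
    exact ih (h b)

lemma isDiffOpLE_sub {n : ℕ} {D₁ D₂ : M →ₗ[A] N} (h₁ : IsDiffOpLE A B M N n D₁)
    (h₂ : IsDiffOpLE A B M N n D₂) : IsDiffOpLE A B M N n (D₁ - D₂) := by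
  rw [sub_eq_add_neg]
  exact isDiffOpLE_add h₁ (isDiffOpLE_neg h₂)

lemma commutator_eq_zero_of_isDiffOpLE_zero {D : M →ₗ[A] N} (h : IsDiffOpLE A B M N 0 D) (b : B) :
    commutator A B M N D b = 0 := by
  ext m
  simp only [commutator_apply, LinearMap.zero_apply]
  rw [h b m, sub_self]

lemma isDiffOpLE_succ {n : ℕ} {D : M →ₗ[A] N} (h : IsDiffOpLE A B M N n D) :
    IsDiffOpLE A B M N (n + 1) D := by
  induction n generalizing D with
  | zero =>
    intro b
    rw [commutator_eq_zero_of_isDiffOpLE_zero h]
    exact isDiffOpLE_zero_map 0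
  | succ n ih =>
    intro b
    exact ih (h b)

lemma isDiffOpLE_mono {n m : ℕ} (hnm : n ≤ m) {D : M →ₗ[A] N} (h : IsDiffOpLE A B M N n D) :
    IsDiffOpLE A B M N m D := by
  induction hnm with
  | refl => exact h
  | step _ ih => exact isDiffOpLE_succ ih

lemma commutator_comp (D : M →ₗ[A] N) (D' : N →ₗ[A] P) (b : B) :
    commutator A B M P (D' ∘ₗ D) b =
      D' ∘ₗ commutator A B M N D b + commutator A B N P D' b ∘ₗ D := by
  ext m
  simp only [commutator_apply, LinearMap.comp_apply, LinearMap.add_apply, map_sub]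
  abel

lemma comp_aux (k : ℕ) : ∀ (n n' : ℕ), n + n' = k → ∀ (D : M →ₗ[A] N) (D' : N →ₗ[A] P),
    IsDiffOpLE A B M N n D → IsDiffOpLE A B N P n' D' → IsDiffOpLE A B M P k (D' ∘ₗ D) := by
  induction k with
  | zero =>
    intro n n' hnn D D' hD hD'
    obtain ⟨rfl, rfl⟩ : n = 0 ∧ n' = 0 := by omega
    intro b m
    simp only [LinearMap.comp_apply]
    rw [hD b m, hD' b (D m)]
  | succ k ih =>
    intro n n' hnn D D' hD hD' b
    rw [commutator_comp]
    refine isDiffOpLE_add ?_ ?_
    · cases n with
      | zero =>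
        rw [commutator_eq_zero_of_isDiffOpLE_zero hD, LinearMap.comp_zero]
        exact isDiffOpLE_zero_map k
      | succ m =>
        exact ih m n' (by omega) _ _ (hD b) hD'
    · cases n' with
      | zero =>
        rw [commutator_eq_zero_of_isDiffOpLE_zero hD', LinearMap.zero_comp]
        exact isDiffOpLE_zero_map k
      | succ m' =>
        exact ih n m' (by omega) _ _ hD (hD' b)

lemma isDiffOpLE_comp {n n' : ℕ} {D : M →ₗ[A] N} {D' : N →ₗ[A] P}
    (hD : IsDiffOpLE A B M N n D) (hD' : IsDiffOpLE A B N P n' D') :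
    IsDiffOpLE A B M P (n + n') (D' ∘ₗ D) :=
  comp_aux (n + n') n n' rfl D D' hD hD'

/-- multiplication by `b` as an `A`-linear map is a differential operator of order `0`. -/
lemma isDiffOpLE_lsmul (b : B) :
    IsDiffOpLE A B M M 0 ((LinearMap.lsmul B M b).restrictScalars A) := by
  intro c m
  simp only [LinearMap.coe_restrictScalars, LinearMap.lsmul_apply]
  exact smul_comm b c m

lemma commutator_mul (D : M →ₗ[A] N) (b b' : B) :
    commutator A B M N D (b * b') =
      commutator A B M N D b ∘ₗ ((LinearMap.lsmul B M b').restrictScalars A) +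
        ((LinearMap.lsmul B N b).restrictScalars A) ∘ₗ commutator A B M N D b' := by
  ext m
  simp only [commutator_apply, LinearMap.add_apply, LinearMap.comp_apply,
    LinearMap.coe_restrictScalars, LinearMap.lsmul_apply, smul_sub, mul_smul]
  abel

section AltSum

variable {ι : Type*} [DecidableEq ι]

/-- The alternating sum `∑_{H ⊆ s} (-1)^|H| (∏_{i ∈ H} b i) • D ((∏_{i ∈ s \ H} b i) • t)`. -/
noncomputable def altSum (D : M →ₗ[A] N) (s : Finset ι) (b : ι → B) (t : M) : N :=
  ∑ H ∈ s.powerset, ((-1 : ℤ) ^ H.card) • ((∏ i ∈ H, b i) • D ((∏ i ∈ s \ H, b i) • t))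

omit [Algebra A B] [IsScalarTower A B M] [IsScalarTower A B N] in
lemma altSum_empty (D : M →ₗ[A] N) (b : ι → B) (t : M) :
    altSum D (∅ : Finset ι) b t = D t := by
  simp [altSum]

omit [Algebra A B] [IsScalarTower A B M] [IsScalarTower A B N] in
lemma altSum_congr (D : M →ₗ[A] N) (s : Finset ι) {b b' : ι → B} (h : ∀ i ∈ s, b i = b' i)
    (t : M) : altSum D s b t = altSum D s b' t := by
  unfold altSum
  refine Finset.sum_congr rfl fun H hH => ?_
  have hHs : H ⊆ s := Finset.mem_powerset.mp hH
  rw [Finset.prod_congr rfl (fun i hi => h i (hHs hi)),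
    Finset.prod_congr rfl (fun i hi => h i (Finset.sdiff_subset hi))]

lemma altSum_insert (D : M →ₗ[A] N) {s : Finset ι} {a : ι} (ha : a ∉ s) (b : ι → B) (t : M) :
    altSum D (insert a s) b t = altSum (commutator A B M N D (b a)) s b t := by
  unfold altSum
  rw [Finset.sum_powerset_insert ha, ← Finset.sum_add_distrib]
  refine Finset.sum_congr rfl fun H hH => ?_
  have hHs : H ⊆ s := Finset.mem_powerset.mp hH
  have haH : a ∉ H := fun h => ha (hHs h)
  have haS : a ∉ s \ H := fun h => ha (Finset.sdiff_subset h)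
  rw [Finset.insert_sdiff_of_notMem s haH, Finset.prod_insert haS,
    Finset.card_insert_of_notMem haH, Finset.prod_insert haH,
    Finset.insert_sdiff_insert, Finset.sdiff_insert_of_notMem ha, commutator_apply,
    pow_succ, mul_neg_one, neg_smul, mul_smul, mul_comm (b a), mul_smul, smul_sub, smul_sub]
  abel

lemma altSum_eq_zero_of_isDiffOpLE (n : ℕ) : ∀ (D : M →ₗ[A] N), IsDiffOpLE A B M N n D →
    ∀ (s : Finset ι), s.card = n + 1 → ∀ (b : ι → B) (t : M), altSum D s b t = 0 := by
  induction n with
  | zero =>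
    intro D hD s hs b t
    obtain ⟨a, rfl⟩ := Finset.card_eq_one.mp hs
    have : ({a} : Finset ι) = insert a ∅ := by simp
    rw [this, altSum_insert D (Finset.notMem_empty a), altSum_empty,
      commutator_eq_zero_of_isDiffOpLE_zero hD, LinearMap.zero_apply]
  | succ n ih =>
    intro D hD s hs b t
    have hne : s.Nonempty := Finset.card_pos.mp (by omega)
    obtain ⟨a, ha⟩ := hne
    rw [← Finset.insert_erase ha, altSum_insert D (Finset.notMem_erase a s)]
    refine ih _ (hD (b a)) _ ?_ b t
    rw [Finset.card_erase_of_mem ha, hs]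
    rfl

lemma isDiffOpLE_of_altSum_eq_zero (n : ℕ) : ∀ (D : M →ₗ[A] N) (s : Finset ι), s.card = n + 1 →
    (∀ (b : ι → B) (t : M), altSum D s b t = 0) → IsDiffOpLE A B M N n D := by
  induction n with
  | zero =>
    intro D s hs h b₀ m
    obtain ⟨a, rfl⟩ := Finset.card_eq_one.mp hs
    have h1 := h (fun _ => b₀) m
    have : ({a} : Finset ι) = insert a ∅ := by simp
    rw [this, altSum_insert D (Finset.notMem_empty a), altSum_empty, commutator_apply] at h1
    exact sub_eq_zero.mp h1
  | succ n ih =>
    intro D s hs h b₀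
    have hne : s.Nonempty := Finset.card_pos.mp (by omega)
    obtain ⟨a, ha⟩ := hne
    refine ih _ (s.erase a) ?_ ?_
    · rw [Finset.card_erase_of_mem ha, hs]; rfl
    · intro b' t
      have h1 := h (Function.update b' a b₀) t
      rw [← Finset.insert_erase ha, altSum_insert D (Finset.notMem_erase a s),
        Function.update_self] at h1
      rw [← h1]
      refine altSum_congr _ _ (fun i hi => ?_) t
      rw [Function.update_of_ne (Finset.ne_of_mem_erase hi)]

end AltSum

end Groth.Agent.Helper3.DiffOp
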