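import Mathlib

/-! Short exact sequences of complexes with contractible middle term. -/

set_option linter.unusedSectionVars false

namespace Groth.Agent.Helper3.DimResA

open CategoryTheory CategoryTheory.Limits HomologicalComplex

universe v u

variable {A : Type u} [Category.{v} A] [Abelian A]

variable (S : ShortComplex (CochainComplex A ℤ))
  (h : ∀ n : ℤ, S.X₂.X (n + 1) ⟶ S.X₂.X n)

/-- The degree `-1` map `σ = f ≫ h`. -/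
def sigma (n : ℤ) : S.X₁.X (n + 1) ⟶ S.X₂.X n := S.f.f (n + 1) ≫ h n

variable (hh : ∀ n : ℤ, h n ≫ S.X₂.d n (n + 1) + S.X₂.d (n + 1) (n + 1 + 1) ≫ h (n + 1) =
    𝟙 (S.X₂.X (n + 1)))

include hh in
lemma sigma_d (n : ℤ) :
    sigma S h n ≫ S.X₂.d n (n + 1) + S.X₁.d (n + 1) (n + 1 + 1) ≫ sigma S h (n + 1) =
      S.f.f (n + 1) := by
  dsimp only [sigma]
  rw [Category.assoc, ← S.f.comm_assoc, ← Preadditive.comp_add, hh, Category.comp_id]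

include hh in
lemma sigma_d' (n : ℤ) :
    sigma S h n ≫ S.X₂.d n (n + 1) =
      S.f.f (n + 1) - S.X₁.d (n + 1) (n + 1 + 1) ≫ sigma S h (n + 1) :=
  eq_sub_of_add_eq (sigma_d S h hh n)

lemma f_g (n : ℤ) : S.f.f n ≫ S.g.f n = 0 := by
  rw [← comp_f, S.zero, zero_f]

/-- The chain map `ψ : X₁⟦1⟧ ⟶ X₃`. -/
def psi : S.X₁⟦(1 : ℤ)⟧ ⟶ S.X₃ where
  f n := sigma S h n ≫ S.g.f n
  comm' := by
    rintro n _ rfl
    have hd : (S.X₁⟦(1 : ℤ)⟧).d n (n + 1) = -S.X₁.d (n + 1) (n + 1 + 1) := by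
      rw [CochainComplex.shiftFunctor_obj_d']
      simp
    rw [hd]
    change (sigma S h n ≫ S.g.f n) ≫ S.X₃.d n (n + 1) =
      (-S.X₁.d (n + 1) (n + 1 + 1)) ≫ sigma S h (n + 1) ≫ S.g.f (n + 1)
    rw [Category.assoc, S.g.comm, ← Category.assoc, sigma_d' S h hh, Preadditive.sub_comp,
      f_g, zero_sub, Preadditive.neg_comp, Category.assoc]

lemma shift_d (K : CochainComplex A ℤ) (a b : ℤ) :
    (K⟦(1 : ℤ)⟧).d a b = -K.d (a + 1) (b + 1) := by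
  rw [CochainComplex.shiftFunctor_obj_d']
  simp

variable (hS : S.ShortExact)

include hS in
lemma epi_g (n : ℤ) : Epi (S.g.f n) :=
  (hS.map_of_exact (HomologicalComplex.eval A (ComplexShape.up ℤ) n)).epi_g

include hS in
lemma mono_f (n : ℤ) : Mono (S.f.f n) :=
  (hS.map_of_exact (HomologicalComplex.eval A (ComplexShape.up ℤ) n)).mono_f

include hS in
lemma exact_fg (n : ℤ) : (ShortComplex.mk (S.f.f n) (S.g.f n) (f_g S n)).Exact :=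
  (hS.map_of_exact (HomologicalComplex.eval A (ComplexShape.up ℤ) n)).exact

include hS hh in
lemma mono_aux (n : ℤ) {W : A} (x : W ⟶ S.X₁.X (n + 1 + 1))
    (hx₂' : x ≫ S.X₁.d (n + 1 + 1) (n + 1 + 1 + 1) = 0) (y₁ : W ⟶ S.X₃.X n)
    (hy₁' : x ≫ sigma S h (n + 1) ≫ S.g.f (n + 1) = y₁ ≫ S.X₃.d n (n + 1)) :
    ∃ (W' : A) (π : W' ⟶ W) (_ : Epi π) (k : W' ⟶ S.X₁.X (n + 1)),
      π ≫ x = k ≫ S.X₁.d (n + 1) (n + 1 + 1) := by
  have := epi_g S hS n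
  obtain ⟨W₁, π₁, hπ₁, y, hy⟩ := surjective_up_to_refinements_of_epi (S.g.f n) y₁
  have h0 : (π₁ ≫ x ≫ sigma S h (n + 1) - y ≫ S.X₂.d n (n + 1)) ≫ S.g.f (n + 1) = 0 := by
    rw [Preadditive.sub_comp, Category.assoc, Category.assoc, hy₁', Category.assoc, ← S.g.comm,
      ← Category.assoc y, ← hy, Category.assoc, sub_self]
  obtain ⟨W₂, π₂, hπ₂, k, hk⟩ : ∃ (W₂ : A) (π₂ : W₂ ⟶ W₁) (_ : Epi π₂) (k : W₂ ⟶ S.X₁.X (n + 1)),
      π₂ ≫ (π₁ ≫ x ≫ sigma S h (n + 1) - y ≫ S.X₂.d n (n + 1)) = k ≫ S.f.f (n + 1) :=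
    (exact_fg S hS (n + 1)).exact_up_to_refinements _ h0
  have key : (π₂ ≫ π₁ ≫ x) ≫ S.f.f (n + 1 + 1) =
      (k ≫ S.X₁.d (n + 1) (n + 1 + 1)) ≫ S.f.f (n + 1 + 1) := by
    have h1 := congrArg (fun z => z ≫ S.X₂.d (n + 1) (n + 1 + 1)) hk
    beta_reduce at h1
    rw [Category.assoc, Preadditive.sub_comp, Category.assoc, Category.assoc, Category.assoc,
      S.X₂.d_comp_d, comp_zero, sub_zero, sigma_d' S h hh, Preadditive.comp_sub,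
      Preadditive.comp_sub, Preadditive.comp_sub, reassoc_of% hx₂', zero_comp, comp_zero,
      comp_zero, sub_zero, Category.assoc, S.f.comm] at h1
    simpa using h1
  have := mono_f S hS (n + 1 + 1)
  have key' := (cancel_mono _).1 key
  exact ⟨W₂, π₂ ≫ π₁, inferInstance, k, by rw [← key', Category.assoc]⟩

include hS hh in
lemma mono_homologyMap_psi (n : ℤ) : Mono (homologyMap (psi S h hh) (n + 1)) := by
  rw [mono_homologyMap_iff_up_to_refinements _ n (n + 1) (n + 1 + 1) (by simp) (by simp)]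
  intro W x₂ hx₂ y₁ hy₁
  obtain ⟨x, hx⟩ : ∃ x : W ⟶ S.X₁.X (n + 1 + 1), x = x₂ := ⟨x₂, rfl⟩
  have e1 : (S.X₁⟦(1 : ℤ)⟧).d (n + 1) (n + 1 + 1) = -S.X₁.d (n + 1 + 1) (n + 1 + 1 + 1) :=
    shift_d _ _ _
  have e2 : (S.X₁⟦(1 : ℤ)⟧).d n (n + 1) = -S.X₁.d (n + 1) (n + 1 + 1) := shift_d _ _ _
  have hx₂' : x ≫ (-S.X₁.d (n + 1 + 1) (n + 1 + 1 + 1)) = 0 := by
    have := hx₂
    rw [e1] at this
    rw [hx]
    exact this
  rw [Preadditive.comp_neg, neg_eq_zero] at hx₂'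
  have hy₁' : x ≫ sigma S h (n + 1) ≫ S.g.f (n + 1) = y₁ ≫ S.X₃.d n (n + 1) := by
    rw [hx]
    exact hy₁
  obtain ⟨W', π, hπ, k, hk⟩ := mono_aux S h hh hS n x hx₂' y₁ hy₁'
  refine ⟨W', π, hπ, -k, ?_⟩
  rw [e2]
  have : π ≫ x = (-k) ≫ (-S.X₁.d (n + 1) (n + 1 + 1)) := by
    rw [Preadditive.neg_comp, Preadditive.comp_neg, neg_neg]
    exact hk
  rw [hx] at this
  exact this

include hS hh in
lemma epi_aux (n : ℤ) {W : A} (y₂ : W ⟶ S.X₃.X (n + 1))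
    (hy₂ : y₂ ≫ S.X₃.d (n + 1) (n + 1 + 1) = 0) :
    ∃ (W' : A) (π : W' ⟶ W) (_ : Epi π) (k : W' ⟶ S.X₁.X (n + 1 + 1))
      (_ : k ≫ S.X₁.d (n + 1 + 1) (n + 1 + 1 + 1) = 0) (y₁ : W' ⟶ S.X₃.X n),
      π ≫ y₂ = k ≫ sigma S h (n + 1) ≫ S.g.f (n + 1) + y₁ ≫ S.X₃.d n (n + 1) := by
  have := epi_g S hS (n + 1)
  obtain ⟨W₁, π₁, hπ₁, y, hy⟩ := surjective_up_to_refinements_of_epi (S.g.f (n + 1)) y₂
  have h0 : (y ≫ S.X₂.d (n + 1) (n + 1 + 1)) ≫ S.g.f (n + 1 + 1) = 0 := by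
    rw [Category.assoc, ← S.g.comm, ← Category.assoc, ← hy, Category.assoc, hy₂, comp_zero]
  obtain ⟨W₂, π₂, hπ₂, k, hk⟩ : ∃ (W₂ : A) (π₂ : W₂ ⟶ W₁) (_ : Epi π₂)
      (k : W₂ ⟶ S.X₁.X (n + 1 + 1)),
      π₂ ≫ y ≫ S.X₂.d (n + 1) (n + 1 + 1) = k ≫ S.f.f (n + 1 + 1) :=
    (exact_fg S hS (n + 1 + 1)).exact_up_to_refinements _ h0
  have hk0 : k ≫ S.X₁.d (n + 1 + 1) (n + 1 + 1 + 1) = 0 := by
    have := mono_f S hS (n + 1 + 1 + 1)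
    rw [← cancel_mono (S.f.f (n + 1 + 1 + 1)), Category.assoc, ← S.f.comm, ← Category.assoc, ← hk,
      Category.assoc, Category.assoc, S.X₂.d_comp_d, comp_zero, comp_zero, zero_comp]
  have hz : (π₂ ≫ y - k ≫ sigma S h (n + 1)) ≫ S.X₂.d (n + 1) (n + 1 + 1) = 0 := by
    rw [Preadditive.sub_comp, Category.assoc, Category.assoc, hk, sigma_d' S h hh,
      Preadditive.comp_sub, reassoc_of% hk0, zero_comp, sub_zero, sub_self]
  have hz2 : π₂ ≫ y - k ≫ sigma S h (n + 1) =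
      ((π₂ ≫ y - k ≫ sigma S h (n + 1)) ≫ h n) ≫ S.X₂.d n (n + 1) := by
    conv_lhs => rw [← Category.comp_id (π₂ ≫ y - k ≫ sigma S h (n + 1)), ← hh n,
      Preadditive.comp_add, reassoc_of% hz, zero_comp, add_zero, ← Category.assoc]
  refine ⟨W₂, π₂ ≫ π₁, inferInstance, k, hk0,
    ((π₂ ≫ y - k ≫ sigma S h (n + 1)) ≫ h n) ≫ S.g.f n, ?_⟩
  have e : (((π₂ ≫ y - k ≫ sigma S h (n + 1)) ≫ h n) ≫ S.g.f n) ≫ S.X₃.d n (n + 1) =
      (π₂ ≫ y - k ≫ sigma S h (n + 1)) ≫ S.g.f (n + 1) := by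
    rw [Category.assoc, S.g.comm, ← Category.assoc, ← hz2]
  rw [e, Category.assoc, hy, Preadditive.sub_comp, Category.assoc, Category.assoc]
  abel

include hS hh in
lemma epi_homologyMap_psi (n : ℤ) : Epi (homologyMap (psi S h hh) (n + 1)) := by
  rw [epi_homologyMap_iff_up_to_refinements _ n (n + 1) (n + 1 + 1) (by simp) (by simp)]
  intro W y₂ hy₂
  obtain ⟨W', π, hπ, k, hk0, y₁, hy₁⟩ := epi_aux S h hh hS n y₂ hy₂
  have e1 : (S.X₁⟦(1 : ℤ)⟧).d (n + 1) (n + 1 + 1) = -S.X₁.d (n + 1 + 1) (n + 1 + 1 + 1) :=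
    shift_d _ _ _
  obtain ⟨x, hx⟩ : ∃ x : W' ⟶ (S.X₁⟦(1 : ℤ)⟧).X (n + 1), x = k := ⟨k, rfl⟩
  refine ⟨W', π, hπ, x, ?_, y₁, ?_⟩
  · have : k ≫ (-S.X₁.d (n + 1 + 1) (n + 1 + 1 + 1)) = 0 := by
      rw [Preadditive.comp_neg, neg_eq_zero]
      exact hk0
    rw [e1, hx]
    exact this
  · rw [hx]
    exact hy₁

include hS hh in
theorem quasiIso_psi : QuasiIso (psi S h hh) := by
  rw [quasiIso_iff]
  intro m
  obtain ⟨n, rfl⟩ : ∃ n, m = n + 1 := ⟨m - 1, by ring⟩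
  rw [quasiIsoAt_iff_isIso_homologyMap]
  have := mono_homologyMap_psi S h hh hS n
  have := epi_homologyMap_psi S h hh hS n
  exact isIso_of_mono_of_epi _

end Groth.Agent.Helper3.DimResA
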