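import Mathlib

/-! Colimits of termwise eventually constant sequences of cochain complexes. -/

set_option linter.unusedSectionVars false

namespace Groth.Agent.Helper3.StatColim

open CategoryTheory CategoryTheory.Limits HomologicalComplex

universe v u

variable {A : Type u} [Category.{v} A] [Abelian A]

/-- A chain map which is an isomorphism in three consecutive degrees is a quasi-isomorphism in the
middle degree. -/
lemma quasiIsoAt_of_isIso_f {K L : CochainComplex A ℤ} (f : K ⟶ L) (t : ℤ)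
    (h1 : IsIso (f.f (t - 1))) (h2 : IsIso (f.f t)) (h3 : IsIso (f.f (t + 1))) :
    QuasiIsoAt f t := by
  rw [quasiIsoAt_iff' f (t - 1) t (t + 1) (by simp) (by simp)]
  have : IsIso ((shortComplexFunctor' A (ComplexShape.up ℤ) (t - 1) t (t + 1)).map f) := by
    have : IsIso ((shortComplexFunctor' A (ComplexShape.up ℤ) (t - 1) t (t + 1)).map f).τ₁ := h1
    have : IsIso ((shortComplexFunctor' A (ComplexShape.up ℤ) (t - 1) t (t + 1)).map f).τ₂ := h2
    have : IsIso ((shortComplexFunctor' A (ComplexShape.up ℤ) (t - 1) t (t + 1)).map f).τ₃ := h3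
    exact ShortComplex.isIso_of_isIso _
  infer_instance

section

variable (F : ℕ ⥤ CochainComplex A ℤ)

lemma map_succ (i j : ℕ) (h : i ≤ j) :
    F.map (homOfLE (h.trans (Nat.le_succ j))) =
      F.map (homOfLE h) ≫ F.map (homOfLE (Nat.le_succ j)) := by
  rw [← CategoryTheory.Functor.map_comp]
  rfl

lemma quasiIso_map (hq : ∀ n, QuasiIso (F.map (homOfLE (Nat.le_succ n)))) (i j : ℕ) (h : i ≤ j) :
    QuasiIso (F.map (homOfLE h)) := by
  induction j, h using Nat.le_induction with
  | base =>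
    have : (homOfLE (le_refl i)) = 𝟙 i := rfl
    rw [this, CategoryTheory.Functor.map_id]
    infer_instance
  | succ j h ih =>
    rw [map_succ F i j h]
    have := hq j
    infer_instance

lemma isIso_map_f (t : ℤ) (i₀ : ℕ)
    (hi₀ : ∀ i, i₀ ≤ i → IsIso ((F.map (homOfLE (Nat.le_succ i))).f t)) (i j : ℕ)
    (hi : i₀ ≤ i) (h : i ≤ j) :
    IsIso ((F.map (homOfLE h)).f t) := by
  induction j, h using Nat.le_induction with
  | base =>
    have : (homOfLE (le_refl i)) = 𝟙 i := rfl
    rw [this, CategoryTheory.Functor.map_id]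
    exact (inferInstance : IsIso (𝟙 ((F.obj i).X t)))
  | succ j h ih =>
    rw [map_succ F i j h, comp_f]
    have := hi₀ j (hi.trans h)
    infer_instance

lemma mono_map_f (t : ℤ)
    (hm : ∀ i, Mono ((F.map (homOfLE (Nat.le_succ i))).f t)) (i j : ℕ) (h : i ≤ j) :
    Mono ((F.map (homOfLE h)).f t) := by
  induction j, h using Nat.le_induction with
  | base =>
    have : (homOfLE (le_refl i)) = 𝟙 i := rfl
    rw [this, CategoryTheory.Functor.map_id]
    exact (inferInstance : Mono (𝟙 ((F.obj i).X t)))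
  | succ j h ih =>
    rw [map_succ F i j h, comp_f]
    have := hm j
    exact mono_comp _ _

end

variable {X : ℕ → CochainComplex A ℤ} (f : ∀ n, X n ⟶ X (n + 1))

/-- A termwise eventually constant sequence of quasi-isomorphisms has a colimit, and the map
from the first term to the colimit is a quasi-isomorphism. -/
theorem exists_colimit (hq : ∀ n, QuasiIso (f n))
    (hst : ∀ t : ℤ, ∃ i₀ : ℕ, ∀ i, i₀ ≤ i → IsIso ((f i).f t)) :
    ∃ (L : CochainComplex A ℤ) (ι : ∀ n, X n ⟶ L), QuasiIso (ι 0) ∧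
      ∀ t : ℤ, ∃ i₀ : ℕ, ∀ i, i₀ ≤ i → IsIso ((ι i).f t) := by
  choose i₀ hi₀ using hst
  let F : ℕ ⥤ CochainComplex A ℤ := Functor.ofSequence f
  have hFf : ∀ n, F.map (homOfLE (Nat.le_succ n)) = f n := fun n =>
    Functor.ofSequence_map_homOfLE_succ f n
  have hq' : ∀ n, QuasiIso (F.map (homOfLE (Nat.le_succ n))) := fun n => by
    rw [hFf]
    exact hq n
  have hi₀' : ∀ t i, i₀ t ≤ i → IsIso ((F.map (homOfLE (Nat.le_succ i))).f t) := fun t i hi => by
    rw [hFf]
    exact hi₀ t i hi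
  have hF : ∀ t : ℤ, (F ⋙ eval A (ComplexShape.up ℤ) t).IsEventuallyConstantFrom (i₀ t) := by
    intro t j φ
    have : φ = homOfLE (leOfHom φ) := rfl
    rw [this]
    exact isIso_map_f F t (i₀ t) (hi₀' t) (i₀ t) j le_rfl _
  have : ∀ t : ℤ, HasColimit (F ⋙ eval A (ComplexShape.up ℤ) t) := fun t => (hF t).hasColimit
  have hι : ∀ (t : ℤ) (i : ℕ), i₀ t ≤ i → IsIso ((colimit.ι F i).f t) := fun t i hi =>
    (hF t).isIso_ι_of_isColimit'
      (isColimitOfPreserves (eval A (ComplexShape.up ℤ) t) (colimit.isColimit F)) i (homOfLE hi)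
  refine ⟨colimit F, fun n => colimit.ι F n, ?_, fun t => ⟨i₀ t, hι t⟩⟩
  rw [quasiIso_iff]
  intro t
  let i := max (i₀ (t - 1)) (max (i₀ t) (i₀ (t + 1)))
  have h1 : QuasiIsoAt (colimit.ι F i) t :=
    quasiIsoAt_of_isIso_f _ t (hι _ i (le_max_left _ _))
      (hι _ i ((le_max_left _ _).trans (le_max_right _ _)))
      (hι _ i ((le_max_right _ _).trans (le_max_right _ _)))
  have h2 : QuasiIso (F.map (homOfLE (Nat.zero_le i))) := quasiIso_map F hq' 0 i _
  have h3 : colimit.ι F 0 = F.map (homOfLE (Nat.zero_le i)) ≫ colimit.ι F i := (colimit.w F _).symm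
  change QuasiIsoAt (colimit.ι F 0) t
  rw [h3]
  infer_instance

/-- Variant of `exists_colimit` which also records that termwise monomorphisms are preserved. -/
theorem exists_colimit' (hq : ∀ n, QuasiIso (f n))
    (hst : ∀ t : ℤ, ∃ i₀ : ℕ, ∀ i, i₀ ≤ i → IsIso ((f i).f t)) :
    ∃ (L : CochainComplex A ℤ) (ι : ∀ n, X n ⟶ L), QuasiIso (ι 0) ∧
      (∀ t : ℤ, ∃ i₀ : ℕ, ∀ i, i₀ ≤ i → IsIso ((ι i).f t)) ∧
      (∀ t : ℤ, (∀ i, Mono ((f i).f t)) → Mono ((ι 0).f t)) := by
  choose i₀ hi₀ using hst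
  let F : ℕ ⥤ CochainComplex A ℤ := Functor.ofSequence f
  have hFf : ∀ n, F.map (homOfLE (Nat.le_succ n)) = f n := fun n =>
    Functor.ofSequence_map_homOfLE_succ f n
  have hq' : ∀ n, QuasiIso (F.map (homOfLE (Nat.le_succ n))) := fun n => by
    rw [hFf]
    exact hq n
  have hi₀' : ∀ t i, i₀ t ≤ i → IsIso ((F.map (homOfLE (Nat.le_succ i))).f t) := fun t i hi => by
    rw [hFf]
    exact hi₀ t i hi
  have hF : ∀ t : ℤ, (F ⋙ eval A (ComplexShape.up ℤ) t).IsEventuallyConstantFrom (i₀ t) := by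
    intro t j φ
    have : φ = homOfLE (leOfHom φ) := rfl
    rw [this]
    exact isIso_map_f F t (i₀ t) (hi₀' t) (i₀ t) j le_rfl _
  have : ∀ t : ℤ, HasColimit (F ⋙ eval A (ComplexShape.up ℤ) t) := fun t => (hF t).hasColimit
  have hι : ∀ (t : ℤ) (i : ℕ), i₀ t ≤ i → IsIso ((colimit.ι F i).f t) := fun t i hi =>
    (hF t).isIso_ι_of_isColimit'
      (isColimitOfPreserves (eval A (ComplexShape.up ℤ) t) (colimit.isColimit F)) i (homOfLE hi)
  refine ⟨colimit F, fun n => colimit.ι F n, ?_, fun t => ⟨i₀ t, hι t⟩, fun t hm => ?_⟩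
  · rw [quasiIso_iff]
    intro t
    let i := max (i₀ (t - 1)) (max (i₀ t) (i₀ (t + 1)))
    have h1 : QuasiIsoAt (colimit.ι F i) t :=
      quasiIsoAt_of_isIso_f _ t (hι _ i (le_max_left _ _))
        (hι _ i ((le_max_left _ _).trans (le_max_right _ _)))
        (hι _ i ((le_max_right _ _).trans (le_max_right _ _)))
    have h2 : QuasiIso (F.map (homOfLE (Nat.zero_le i))) := quasiIso_map F hq' 0 i _
    have h3 : colimit.ι F 0 = F.map (homOfLE (Nat.zero_le i)) ≫ colimit.ι F i :=
      (colimit.w F _).symm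
    change QuasiIsoAt (colimit.ι F 0) t
    rw [h3]
    infer_instance
  · have h3 : colimit.ι F 0 = F.map (homOfLE (Nat.zero_le (i₀ t))) ≫ colimit.ι F (i₀ t) :=
      (colimit.w F _).symm
    change Mono ((colimit.ι F 0).f t)
    rw [h3, comp_f]
    have hm' : ∀ i, Mono ((F.map (homOfLE (Nat.le_succ i))).f t) := fun i => by
      rw [hFf]
      exact hm i
    have := mono_map_f F t hm' 0 (i₀ t) (Nat.zero_le _)
    have := hι t (i₀ t) le_rfl
    exact mono_comp _ _

end Groth.Agent.Helper3.StatColim
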