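import Groth.Agent.Lib.Helper3.DimResA
import Groth.Agent.Lib.Helper3.StatColim

/-! Resolutions by objects of dimension zero for a dimension function. -/

set_option linter.unusedSectionVars false

namespace Groth.Agent.Helper3.DimResB

noncomputable section

open CategoryTheory CategoryTheory.Limits HomologicalComplex

universe v u

variable {A : Type u} [Category.{v} A] [Abelian A]

section OneStep

variable (K : CochainComplex A ℤ) (I : ℤ → A) (i : ∀ n, K.X n ⟶ I n)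

/-- The contractible complex `J`. -/
abbrev J : CochainComplex A ℤ :=
  CochainComplex.of (fun n => I n ⊞ I (n + 1)) (fun n => biprod.snd ≫ biprod.inl)
    (fun _ => by simp)

lemma J_d (n : ℤ) : (J I).d n (n + 1) = biprod.snd ≫ biprod.inl :=
  CochainComplex.of_d (fun n => I n ⊞ I (n + 1)) (fun n => biprod.snd ≫ biprod.inl) n

/-- The embedding `K ⟶ J`. -/
def j : K ⟶ J I where
  f n := biprod.lift (i n) (K.d n (n + 1) ≫ i (n + 1))
  comm' := by
    rintro n _ rfl
    rw [J_d]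
    apply biprod.hom_ext
    · simp
    · simp

/-- The contracting homotopy of `J`. -/
def hJ (n : ℤ) : (J I).X (n + 1) ⟶ (J I).X n := biprod.fst ≫ biprod.inr

lemma hJ_spec (n : ℤ) :
    hJ I n ≫ (J I).d n (n + 1) + (J I).d (n + 1) (n + 1 + 1) ≫ hJ I (n + 1) =
      𝟙 ((J I).X (n + 1)) := by
  rw [J_d, J_d]
  dsimp only [hJ]
  rw [Category.assoc, biprod.inr_snd_assoc, Category.assoc, biprod.inl_fst_assoc]
  exact biprod.total

variable [∀ n, Mono (i n)]

instance (n : ℤ) : Mono ((j K I i).f n) := by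
  have : Mono ((j K I i).f n ≫ biprod.fst) := by
    have : (j K I i).f n ≫ biprod.fst = i n := biprod.lift_fst _ _
    rw [this]
    infer_instance
  exact mono_of_mono ((j K I i).f n) biprod.fst

instance : Mono (j K I i) := HomologicalComplex.mono_of_mono_f _ inferInstance

/-- The short complex `K ⟶ J ⟶ J/K`. -/
abbrev SC : ShortComplex (CochainComplex A ℤ) :=
  ShortComplex.mk (j K I i) (cokernel.π (j K I i)) (by simp)

lemma SC_shortExact : (SC K I i).ShortExact :=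
  { exact := ShortComplex.exact_of_g_is_cokernel _ (cokernelIsCokernel (j K I i)) }

/-- The quasi-isomorphism `K⟦1⟧ ⟶ J/K`. -/
abbrev psi : K⟦(1 : ℤ)⟧ ⟶ (SC K I i).X₃ := DimResA.psi (SC K I i) (hJ I) (hJ_spec I)

lemma quasiIso_psi : QuasiIso (psi K I i) :=
  DimResA.quasiIso_psi (SC K I i) (hJ I) (hJ_spec I) (SC_shortExact K I i)

lemma sigma_eq (n : ℤ) : DimResA.sigma (SC K I i) (hJ I) n = i (n + 1) ≫ biprod.inr := by
  dsimp only [DimResA.sigma, hJ, j]
  rw [biprod.lift_fst_assoc]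

/-- The components of `psi`, with plain types. -/
def psi' (n : ℤ) : K.X (n + 1) ⟶ (SC K I i).X₃.X n :=
  (i (n + 1) ≫ biprod.inr) ≫ (SC K I i).g.f n

lemma psi_f (n : ℤ) : (psi K I i).f n = psi' K I i n := by
  dsimp only [psi']
  rw [← sigma_eq]
  rfl

lemma mono_psi' (n : ℤ) : Mono (psi' K I i n) := by
  dsimp only [psi']
  refine Preadditive.mono_of_cancel_zero _ (fun {W} x hx => ?_)
  obtain ⟨W', π, hπ, k, hk⟩ : ∃ (W' : A) (π : W' ⟶ W) (_ : Epi π) (k : W' ⟶ K.X n),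
      π ≫ x ≫ i (n + 1) ≫ biprod.inr = k ≫ (j K I i).f n :=
    (DimResA.exact_fg _ (SC_shortExact K I i) n).exact_up_to_refinements _ (by
      simpa using hx)
  have hk0 : k = 0 := by
    have h1 := congrArg (fun z => z ≫ biprod.fst) hk
    dsimp only [j] at h1
    simp only [Category.assoc, biprod.inr_fst, comp_zero, biprod.lift_fst] at h1
    rw [← cancel_mono (i n), zero_comp]
    exact h1.symm
  rw [hk0, zero_comp] at hk
  have h2 := congrArg (fun z => z ≫ biprod.snd) hk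
  simp only [Category.assoc, biprod.inr_snd, Category.comp_id, zero_comp] at h2
  rw [← cancel_epi π, ← cancel_mono (i (n + 1)), Category.assoc, h2]
  simp

lemma epi_psi' (n : ℤ) (h1 : IsIso (i n)) (h2 : IsIso (i (n + 1))) :
    Epi (psi' K I i n) := by
  dsimp only [psi']
  rw [epi_iff_surjective_up_to_refinements]
  intro W y
  have := DimResA.epi_g _ (SC_shortExact K I i) n
  obtain ⟨W', π, hπ, y', hy'⟩ := surjective_up_to_refinements_of_epi ((SC K I i).g.f n) y
  let k : W' ⟶ K.X n := y' ≫ biprod.fst ≫ inv (i n)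
  let x : W' ⟶ K.X (n + 1) := (y' ≫ biprod.snd - k ≫ K.d n (n + 1) ≫ i (n + 1)) ≫ inv (i (n + 1))
  have hy2 : y' = k ≫ (j K I i).f n + x ≫ i (n + 1) ≫ biprod.inr := by
    apply biprod.hom_ext
    · simp [k, x, j]
    · simp [k, x, j]
  have hfg : (j K I i).f n ≫ (SC K I i).g.f n = 0 := DimResA.f_g (SC K I i) n
  refine ⟨W', π, hπ, x, ?_⟩
  rw [hy', hy2, Preadditive.add_comp, Category.assoc, hfg, comp_zero, zero_add]
  simp

lemma isIso_psi_f (n : ℤ) (h1 : IsIso (i n)) (h2 : IsIso (i (n + 1))) :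
    IsIso ((psi K I i).f n) := by
  rw [psi_f]
  have := mono_psi' K I i n
  have := epi_psi' K I i n h1 h2
  exact isIso_of_mono_of_epi (psi' K I i n)

end OneStep

section Dim

variable (d : A → ℕ∞) (hiso : ∀ ⦃X Y : A⦄, Nonempty (X ≅ Y) → d X = d Y)
  (h1 : ∀ X : A, ∃ (Y : A) (ι : X ⟶ Y), Mono ι ∧ d Y = 0)
  (h2 : ∀ X Y : A, d (X ⊞ Y) ≤ max (d X) (d Y))
  (h3 : ∀ S : ShortComplex A, S.ShortExact → d S.X₃ ≤ max (d S.X₁ - 1) (d S.X₂))

include h1 h2 h3 in
theorem one_step (K : CochainComplex A ℤ) :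
    ∃ (K' : CochainComplex A ℤ) (φ : K ⟶ K'), QuasiIso φ ∧
      (∀ t, d (K'.X t) ≤ d (K.X (t + (-1))) - 1) ∧
      (∀ t, d (K.X (t + (-1))) = 0 → d (K.X (t + (-1) + 1)) = 0 → IsIso (φ.f t)) := by
  have hemb : ∀ n : ℤ, ∃ (Y : A) (ι : K.X n ⟶ Y), Mono ι ∧ d Y = 0 ∧
      (d (K.X n) = 0 → IsIso ι) := by
    intro n
    by_cases hn : d (K.X n) = 0
    · exact ⟨K.X n, 𝟙 _, inferInstance, hn, fun _ => inferInstance⟩
    · obtain ⟨Y, ι, hι, hY⟩ := h1 (K.X n)
      exact ⟨Y, ι, hι, hY, fun h => (hn h).elim⟩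
  choose I i hmono hd0 hIiso using hemb
  have hψ : QuasiIso (psi K I i) := quasiIso_psi K I i
  let e : K ≅ (K⟦(1 : ℤ)⟧)⟦(-1 : ℤ)⟧ :=
    (shiftEquiv (CochainComplex A ℤ) (1 : ℤ)).unitIso.app K
  refine ⟨((SC K I i).X₃)⟦(-1 : ℤ)⟧, e.hom ≫ (psi K I i)⟦(-1 : ℤ)⟧', ?_, fun t => ?_,
    fun t ht1 ht2 => ?_⟩
  · have : QuasiIso ((psi K I i)⟦(-1 : ℤ)⟧') := (CochainComplex.quasiIso_shift_iff (psi K I i) (-1)).2 hψ
    infer_instance
  · change d ((SC K I i).X₃.X (t + (-1))) ≤ _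
    have hS := (SC_shortExact K I i).map_of_exact
      (HomologicalComplex.eval A (ComplexShape.up ℤ) (t + (-1)))
    have hJ0 : d (I (t + (-1)) ⊞ I (t + (-1) + 1)) = 0 := by
      have := h2 (I (t + (-1))) (I (t + (-1) + 1))
      rw [hd0, hd0, max_self] at this
      exact le_antisymm this bot_le
    have := h3 _ hS
    have hJ0' : d (((SC K I i).map
        (HomologicalComplex.eval A (ComplexShape.up ℤ) (t + (-1)))).X₂) = 0 := hJ0
    rw [hJ0'] at this
    simpa using this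
  · rw [HomologicalComplex.comp_f]
    have : IsIso (e.hom.f t) :=
      (inferInstance : IsIso ((HomologicalComplex.eval A (ComplexShape.up ℤ) t).map e.hom))
    have : IsIso (((psi K I i)⟦(-1 : ℤ)⟧').f t) :=
      isIso_psi_f K I i (t + (-1)) (hIiso _ ht1) (hIiso _ ht2)
    infer_instance

include hiso h1 h2 h3 in
theorem main (K : CochainComplex A ℤ)
    (hK : ∀ m : ℤ, ∃ N : ℤ, ∀ n : ℤ, n ≤ N → ∃ k : ℕ, d (K.X n) = k ∧ n + k ≤ m) :
    ∃ (L : CochainComplex A ℤ) (f : K ⟶ L), QuasiIso f ∧ ∀ n, d (L.X n) = 0 := by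
  choose Ψ φ hq hbd hIso using one_step d h1 h2 h3
  let X : ℕ → CochainComplex A ℤ := fun i => Nat.rec K (fun _ Y => Ψ Y) i
  let f : ∀ i, X i ⟶ X (i + 1) := fun i => φ (X i)
  have hbound : ∀ (i : ℕ) (t : ℤ), d ((X i).X t) ≤ d (K.X (t - i)) - i := by
    intro i
    induction i with
    | zero =>
      intro t
      simp [X]
    | succ i ih =>
      intro t
      refine (hbd (X i) t).trans ?_
      refine (tsub_le_tsub_right (ih (t + (-1))) 1).trans ?_
      rw [tsub_tsub]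
      have : t + (-1) - (i : ℤ) = t - ((i + 1 : ℕ) : ℤ) := by
        push_cast
        ring
      rw [this]
      push_cast
      exact le_rfl
  have hvan : ∀ t : ℤ, ∃ i₀ : ℕ, ∀ i, i₀ ≤ i → d ((X i).X t) = 0 := by
    intro t
    obtain ⟨N, hN⟩ := hK t
    refine ⟨(t - N).toNat, fun i hi => ?_⟩
    obtain ⟨k, hk1, hk2⟩ := hN (t - i) (by lia)
    have h := hbound i t
    rw [hk1] at h
    have hki : k ≤ i := by lia
    have h0 : (k : ℕ∞) - (i : ℕ∞) = 0 := tsub_eq_zero_of_le (by exact_mod_cast hki)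
    rw [h0] at h
    exact le_antisymm h bot_le
  have hst : ∀ t : ℤ, ∃ i₀ : ℕ, ∀ i, i₀ ≤ i → IsIso ((f i).f t) := by
    intro t
    obtain ⟨a, ha⟩ := hvan (t + (-1))
    obtain ⟨b, hb⟩ := hvan t
    refine ⟨max a b, fun i hi => ?_⟩
    refine hIso (X i) t (ha i ((le_max_left _ _).trans hi)) ?_
    have : t + (-1) + 1 = t := by ring
    rw [this]
    exact hb i ((le_max_right _ _).trans hi)
  obtain ⟨L, ι, hqι, hι⟩ := StatColim.exists_colimit f (fun n => hq (X n)) hst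
  refine ⟨L, ι 0, hqι, fun t => ?_⟩
  obtain ⟨a, ha⟩ := hι t
  obtain ⟨b, hb⟩ := hvan t
  have := ha (max a b) (le_max_left _ _)
  rw [← hiso ⟨asIso ((ι (max a b)).f t)⟩]
  exact hb _ (le_max_right _ _)

end Dim

end

end Groth.Agent.Helper3.DimResB
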