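import Mathlib.CategoryTheory.Monoidal.Rigid.Basic
import Mathlib.CategoryTheory.Idempotents.Basic

open CategoryTheory CategoryTheory.Limits MonoidalCategory
universe v u

/-! Retracts of dualizable objects are dualizable when the dual idempotent splits. -/

namespace Groth.Agent.Helper3

variable {A : Type u} [Category.{v} A] [MonoidalCategory A]

/-- A retract of an object with a right dual has a right dual, provided the dual idempotent splits. -/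
@[instance_reducible]
noncomputable def exactPairingOfRetract {X X₁ Y Y₁ : A} [ExactPairing X Y]
    (i : X₁ ⟶ X) (p : X ⟶ X₁) (hip : i ≫ p = 𝟙 X₁)
    (j : Y₁ ⟶ Y) (q : Y ⟶ Y₁) (hjq : j ≫ q = 𝟙 Y₁)
    (h1 : (q ≫ j) ▷ X ≫ ε_ X Y = Y ◁ (p ≫ i) ≫ ε_ X Y)
    (h2 : η_ X Y ≫ X ◁ (q ≫ j) = η_ X Y ≫ (p ≫ i) ▷ Y) :
    ExactPairing X₁ Y₁ where
  coevaluation' := η_ X Y ≫ p ▷ Y ≫ X₁ ◁ q
  evaluation' := Y₁ ◁ i ≫ j ▷ X ≫ ε_ X Y
  coevaluation_evaluation' := by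
    have inner : η_ X Y ≫ p ▷ Y ≫ X₁ ◁ q ≫ i ▷ Y₁ = η_ X Y ≫ X ◁ q := by
      rw [whisker_exchange, ← comp_whiskerRight_assoc, ← reassoc_of% h2, ← whiskerLeft_comp,
        Category.assoc, hjq, Category.comp_id]
    calc Y₁ ◁ (η_ X Y ≫ p ▷ Y ≫ X₁ ◁ q) ≫ (α_ Y₁ X₁ Y₁).inv ≫ (Y₁ ◁ i ≫ j ▷ X ≫ ε_ X Y) ▷ Y₁
        = Y₁ ◁ (η_ X Y ≫ p ▷ Y ≫ X₁ ◁ q ≫ i ▷ Y₁) ≫ (α_ Y₁ X Y₁).inv ≫
            (j ▷ X) ▷ Y₁ ≫ ε_ X Y ▷ Y₁ := by
          simp only [comp_whiskerRight, whisker_assoc, Category.assoc, Iso.inv_hom_id_assoc,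
            whiskerLeft_comp]
      _ = Y₁ ◁ (η_ X Y ≫ X ◁ q) ≫ (α_ Y₁ X Y₁).inv ≫ (j ▷ X) ▷ Y₁ ≫ ε_ X Y ▷ Y₁ := by
          rw [inner]
      _ = j ▷ 𝟙_ A ≫ (Y ◁ η_ X Y ≫ (α_ Y X Y).inv ≫ ε_ X Y ▷ Y) ≫ 𝟙_ A ◁ q := by
          rw [← associator_inv_naturality_left_assoc, whisker_exchange_assoc, whiskerLeft_comp]
          simp only [Category.assoc]
          rw [associator_inv_naturality_right_assoc, whisker_exchange]
      _ = (ρ_ Y₁).hom ≫ (λ_ Y₁).inv := by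
          rw [ExactPairing.coevaluation_evaluation, Category.assoc, ← leftUnitor_inv_naturality,
            ← Category.assoc, ← Category.assoc, rightUnitor_naturality, Category.assoc,
            Category.assoc, reassoc_of% hjq]
  evaluation_coevaluation' := by
    have inner : q ▷ X₁ ≫ Y₁ ◁ i ≫ j ▷ X ≫ ε_ X Y = Y ◁ i ≫ ε_ X Y := by
      rw [← whisker_exchange_assoc, ← comp_whiskerRight_assoc, h1, ← whiskerLeft_comp_assoc,
        ← Category.assoc i p i, hip, Category.id_comp]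
    calc (η_ X Y ≫ p ▷ Y ≫ X₁ ◁ q) ▷ X₁ ≫ (α_ X₁ Y₁ X₁).hom ≫ X₁ ◁ (Y₁ ◁ i ≫ j ▷ X ≫ ε_ X Y)
        = η_ X Y ▷ X₁ ≫ (p ▷ Y) ▷ X₁ ≫ (α_ X₁ Y X₁).hom ≫
            X₁ ◁ (q ▷ X₁ ≫ Y₁ ◁ i ≫ j ▷ X ≫ ε_ X Y) := by
          simp only [comp_whiskerRight, whisker_assoc, Category.assoc, Iso.inv_hom_id_assoc,
            whiskerLeft_comp]
      _ = η_ X Y ▷ X₁ ≫ (p ▷ Y) ▷ X₁ ≫ (α_ X₁ Y X₁).hom ≫ X₁ ◁ (Y ◁ i ≫ ε_ X Y) := by
          rw [inner]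
      _ = 𝟙_ A ◁ i ≫ (η_ X Y ▷ X ≫ (α_ X Y X).hom ≫ X ◁ ε_ X Y) ≫ p ▷ 𝟙_ A := by
          rw [associator_naturality_left_assoc, ← whisker_exchange, whiskerLeft_comp]
          simp only [Category.assoc]
          rw [← associator_naturality_right_assoc, ← whisker_exchange_assoc]
      _ = (λ_ X₁).hom ≫ (ρ_ X₁).inv := by
          rw [ExactPairing.evaluation_coevaluation, Category.assoc, ← rightUnitor_inv_naturality,
            ← Category.assoc, ← Category.assoc, leftUnitor_naturality, Category.assoc,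
            Category.assoc, reassoc_of% hip]

theorem hasRightDual_of_retract [IsIdempotentComplete A] {X X₁ : A} (i : X₁ ⟶ X) (p : X ⟶ X₁)
    (hip : i ≫ p = 𝟙 X₁) [HasRightDual X] : Nonempty (HasRightDual X₁) := by
  have he : (p ≫ i) ≫ (p ≫ i) = p ≫ i := by
    rw [Category.assoc, reassoc_of% hip]
  have he' : ((p ≫ i)ᘁ) ≫ ((p ≫ i)ᘁ) = (p ≫ i)ᘁ := by rw [← comp_rightAdjointMate, he]
  obtain ⟨Y₁, j, q, hjq, hqj⟩ := IsIdempotentComplete.idempotents_split (Xᘁ) ((p ≫ i)ᘁ) he'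
  have h1 : (q ≫ j) ▷ X ≫ ε_ X (Xᘁ) = (Xᘁ) ◁ (p ≫ i) ≫ ε_ X (Xᘁ) := by
    rw [hqj]; exact rightAdjointMate_comp_evaluation (p ≫ i)
  have h2 : η_ X (Xᘁ) ≫ X ◁ (q ≫ j) = η_ X (Xᘁ) ≫ (p ≫ i) ▷ (Xᘁ) := by
    rw [hqj]; exact coevaluation_comp_rightAdjointMate (p ≫ i)
  exact ⟨{ rightDual := Y₁, exact := exactPairingOfRetract i p hip j q hjq h1 h2 }⟩

end Groth.Agent.Helper3
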