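import Mathlib
import Groth.Prelude.Def_Dual3
import Groth.Prelude.Def_DualSch
import Groth.Agent.Lib.Helper3.GorLocus
import Groth.Agent.Lib.Helper8.GorFlat5

/-!
# Dualizing complexes on schemes: the Gorenstein locus is open
-/

set_option autoImplicit false
universe u
open CategoryTheory CategoryTheory.Limits AlgebraicGeometry

attribute [local instance] HasDerivedCategory.standard

namespace Groth.Agent.Helper3.DualSch

open LocCoh Groth.Agent.Helper8.GorFlat

section Stalk

variable {X : Scheme.{u}}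

/-- the stalk at a point of an affine open is Gorenstein iff the localization of the ring of
sections at the corresponding prime is -/
theorem gorenstein_stalk_iff (V : X.affineOpens) (y : PrimeSpectrum Γ(X, V.1)) :
    IsGorensteinLocalRing (X.presheaf.stalk (V.2.fromSpec y)) ↔
      IsGorensteinLocalRing (Localization.AtPrime y.asIdeal) := by
  have hy : V.2.fromSpec y ∈ V.1 := by
    have h1 : V.2.fromSpec y ∈ Set.range V.2.fromSpec := ⟨y, rfl⟩
    rw [V.2.range_fromSpec] at h1
    exact h1
  letI := TopCat.Presheaf.algebra_section_stalk X.presheaf ⟨V.2.fromSpec y, hy⟩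
  haveI : IsLocalization.AtPrime (X.presheaf.stalk (V.2.fromSpec y)) y.asIdeal :=
    V.2.isLocalization_stalk' y hy
  constructor
  · intro h
    exact isGorensteinLocalRing_of_ringEquiv
      (IsLocalization.algEquiv y.asIdeal.primeCompl (X.presheaf.stalk (V.2.fromSpec y))
        (Localization.AtPrime y.asIdeal)).toRingEquiv h
  · intro h
    exact isGorensteinLocalRing_of_ringEquiv
      (IsLocalization.algEquiv y.asIdeal.primeCompl (Localization.AtPrime y.asIdeal)
        (X.presheaf.stalk (V.2.fromSpec y))).toRingEquiv h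

end Stalk

theorem main_S3621 (X : Scheme.{u}) [IsLocallyNoetherian X]
    [∀ (U V : Scheme.{u}) (j : U ⟶ V) [IsOpenImmersion j],
      PreservesFiniteLimits (Scheme.Modules.restrictFunctor j)]
    [∀ (R : CommRingCat.{u}), PreservesFiniteLimits (tilde.functor R)] (K : DCoh.D X)
    (hK : Dual2.IsDualizingSch X K) :
    IsOpen {x : X | LocCoh.IsGorensteinLocalRing (X.presheaf.stalk x)} := by
  rw [isOpen_iff_forall_mem_open]
  intro x hx
  obtain ⟨V, hxV⟩ : ∃ V : X.affineOpens, x ∈ V.1 := by
    obtain ⟨_, ⟨V, hV, rfl⟩, hxV, -⟩ :=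
      (X.isBasis_affineOpens).exists_subset_of_mem_open (Set.mem_univ x) isOpen_univ
    exact ⟨⟨V, hV⟩, hxV⟩
  haveI : IsNoetherianRing Γ(X, V.1) := IsLocallyNoetherian.component_noetherian V
  obtain ⟨ω, hω, -⟩ := hK Γ(X, V.1) V.2.fromSpec
  have hopen := Groth.Agent.Helper3.GorLocus.main_S0373 Γ(X, V.1) ω hω
  refine ⟨V.2.fromSpec '' {p : PrimeSpectrum Γ(X, V.1) |
      LocCoh.IsGorensteinLocalRing (Localization.AtPrime p.asIdeal)}, ?_, ?_, ?_⟩
  · rintro _ ⟨y, hy, rfl⟩
    exact (gorenstein_stalk_iff V y).2 hy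
  · exact V.2.fromSpec.isOpenEmbedding.isOpenMap _ hopen
  · have hx' : x ∈ Set.range V.2.fromSpec := by
      rw [V.2.range_fromSpec]; exact hxV
    obtain ⟨y, rfl⟩ := hx'
    exact ⟨y, (gorenstein_stalk_iff V y).1 hx, rfl⟩

end Groth.Agent.Helper3.DualSch
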