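import Mathlib
import Groth.Agent.Lib.Helper3.DvrCpl1
import Groth.Agent.Lib.Helper3.SkDesc1
import Groth.Agent.Lib.Helper8.AdicReg1

/-!
# Flat base change of a DVR localization with reduced fibre is a DVR
-/

set_option autoImplicit false
universe u

namespace Groth.Agent.Helper3.DvrCpl

open IsLocalRing Groth.Agent.Helper3.SkDesc

/-- in a ring with radical ideal `I`, associated primes of `B/I` are minimal over `I` -/
theorem mem_minimalPrimes_of_mem_associatedPrimes {B : Type u} [CommRing B] [IsNoetherianRing B]
    (I : Ideal B) (hrad : I.IsRadical) (q : Ideal B)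
    (hq : q ∈ associatedPrimes B (B ⧸ I)) : q ∈ I.minimalPrimes := by
  obtain ⟨hqp, x, hx⟩ := (isAssociatedPrime_iff).1 hq
  obtain ⟨b, rfl⟩ := Ideal.Quotient.mk_surjective x
  have hmem : ∀ r : B, r ∈ q ↔ r * b ∈ I := by
    intro r
    rw [hx, Submodule.mem_colon_singleton, Submodule.mem_bot]
    rw [← Ideal.Quotient.eq_zero_iff_mem, map_mul]
    rfl
  have hb : b ∉ I := by
    intro hb
    apply hqp.ne_top
    rw [Ideal.eq_top_iff_one, hmem, one_mul]
    exact hb
  have hIq : I ≤ q := fun r hr => (hmem r).2 (I.mul_mem_right b hr)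
  rw [← hrad.radical, ← Ideal.sInf_minimalPrimes, Submodule.mem_sInf] at hb
  push Not at hb
  obtain ⟨P, hP, hbP⟩ := hb
  haveI := hP.1.1
  have hqP : q ≤ P := by
    intro r hr
    have h1 : r * b ∈ P := hP.1.2 ((hmem r).1 hr)
    exact (Ideal.IsPrime.mem_or_mem inferInstance h1).resolve_right hbP
  have hPq : P ≤ q := hP.2 ⟨hqp, hIq⟩ hqP
  rw [le_antisymm hqP hPq]
  exact hP

variable (A B : Type u) [CommRing A] [CommRing B] [IsNoetherianRing A] [IsNoetherianRing B]
  [Algebra A B] [Module.Flat A B]

private theorem eq_zero_of_pow_eq_zero_aux {R : Type u} [CommRing R] [IsDomain R] {x : R} {n : ℕ}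
    (_hn : 0 < n) (h : x ^ n = 0) : x = 0 := pow_eq_zero_iff (by omega) |>.mp h

theorem isDVR_localization (p : Ideal A) [p.IsPrime]
    [IsDomain (Localization.AtPrime p)] [IsDiscreteValuationRing (Localization.AtPrime p)]
    (hred : IsReduced (B ⧸ p.map (algebraMap A B)))
    (q : Ideal B) [q.IsPrime] (hq : q ∈ associatedPrimes B (B ⧸ p.map (algebraMap A B))) :
    ∃ _ : IsDomain (Localization.AtPrime q), IsDiscreteValuationRing (Localization.AtPrime q) := by
  have hrad : (p.map (algebraMap A B)).IsRadical := (Ideal.isRadical_iff_quotient_reduced _).2 hred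
  have hmin := mem_minimalPrimes_of_mem_associatedPrimes _ hrad q hq
  haveI := liesOver_of_mem_minimalPrimes A B p q hmin
  letI := Localization.AtPrime.algebraOfLiesOver p q
  haveI := isLocalHom_algebraMap A B p q
  -- the maximal ideal of `B_q` is the extension of the maximal ideal of `A_p`
  have hradq : ((maximalIdeal (Localization.AtPrime p)).map
      (algebraMap (Localization.AtPrime p) (Localization.AtPrime q))).IsRadical := by
    rw [map_maximalIdeal_eq A B p q, IsScalarTower.algebraMap_eq A B (Localization.AtPrime q),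
      ← Ideal.map_map]
    unfold Ideal.IsRadical
    rw [← IsLocalization.map_radical q.primeCompl (Localization.AtPrime q), hrad.radical]
  have hmax : maximalIdeal (Localization.AtPrime q) =
      (maximalIdeal (Localization.AtPrime p)).map
        (algebraMap (Localization.AtPrime p) (Localization.AtPrime q)) := by
    apply le_antisymm
    · have := maximalIdeal_le_radical A B p q hmin
      rwa [hradq.radical] at this
    · exact IsLocalRing.map_maximalIdeal_le _
  obtain ⟨ϖ, hϖ⟩ := IsDiscreteValuationRing.exists_irreducible (Localization.AtPrime p)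
  have hϖm := hϖ.maximalIdeal_eq
  rw [hϖm, Ideal.map_span, Set.image_singleton] at hmax
  apply isDVR_of_principal _ hmax
  -- not nilpotent
  haveI : Module.FaithfullyFlat (Localization.AtPrime p) (Localization.AtPrime q) :=
    Module.FaithfullyFlat.of_flat_of_isLocalHom
  have hinj : Function.Injective (algebraMap (Localization.AtPrime p) (Localization.AtPrime q)) :=
    FaithfulSMul.algebraMap_injective _ _
  rintro ⟨n, hn⟩
  rw [← map_pow, ← map_zero (algebraMap (Localization.AtPrime p) (Localization.AtPrime q))] at hn
  exact hϖ.ne_zero (eq_zero_of_pow_eq_zero_aux (by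
    rcases Nat.eq_zero_or_pos n with h | h
    · subst h
      rw [pow_zero] at hn
      exact absurd (hinj hn) one_ne_zero
    · exact h) (hinj hn))

end Groth.Agent.Helper3.DvrCpl
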