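import Mathlib
import Groth.Agent.Lib.Helper4.DomDVR

/-! helper3: for coprime non-units `Δ₁, Δ₂` of a Noetherian local UFD `R` there is a discrete
valuation ring dominating `R` (inside the fraction field) in which `Δ₁ / Δ₂` is a unit congruent
to `1` modulo the maximal ideal. -/

set_option autoImplicit false

namespace Groth.Agent.Helper3.DvrRatio

universe u

open Polynomial IsLocalRing

section Gauss

variable {R : Type u} [CommRing R] [IsDomain R] [DecompositionMonoid R]
  {K : Type u} [Field K] [Algebra R K]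

/-- the denominator of a reduced fraction which is a root divides the leading coefficient -/
theorem dvd_leadingCoeff (hinj : Function.Injective (algebraMap R K)) (Δ₁ Δ₂ : R)
    (hcop : IsRelPrime Δ₁ Δ₂) (h2 : Δ₂ ≠ 0) (F : R[X])
    (hF : aeval (algebraMap R K Δ₁ / algebraMap R K Δ₂) F = 0) : Δ₂ ∣ F.leadingCoeff := by
  have hs : Δ₂ ∈ nonZeroDivisors R := mem_nonZeroDivisors_of_ne_zero h2
  have h1 : aeval (algebraMap R K Δ₁) (scaleRoots F Δ₂) = 0 :=
    scaleRoots_aeval_eq_zero_of_aeval_div_eq_zero hinj hF hs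
  have hroot : (scaleRoots F Δ₂).IsRoot Δ₁ := by
    rw [aeval_algebraMap_apply_eq_algebraMap_eval] at h1
    rw [IsRoot.def]
    exact hinj (by rw [h1, map_zero])
  have h3 : Δ₂ ∣ (scaleRoots F Δ₂).coeff F.natDegree * Δ₁ ^ F.natDegree := by
    apply dvd_term_of_isRoot_of_dvd_terms _ hroot
    intro j hj
    rw [coeff_scaleRoots]
    rcases lt_or_gt_of_ne hj with hlt | hgt
    · have : Δ₂ ∣ Δ₂ ^ (F.natDegree - j) := dvd_pow_self _ (by omega)
      exact Dvd.dvd.mul_right (Dvd.dvd.mul_left this _) _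
    · rw [coeff_eq_zero_of_natDegree_lt hgt, zero_mul, zero_mul]
      exact dvd_zero _
  rw [coeff_scaleRoots_natDegree] at h3
  exact (hcop.symm.pow_right).dvd_of_dvd_mul_right h3

/-- every polynomial vanishing at `Δ₁ / Δ₂` has its coefficients in any ideal containing
`Δ₁` and `Δ₂` -/
theorem mem_map_C_of_aeval_eq_zero (hinj : Function.Injective (algebraMap R K)) (Δ₁ Δ₂ : R)
    (hcop : IsRelPrime Δ₁ Δ₂) (h2 : Δ₂ ≠ 0) (I : Ideal R) (hI1 : Δ₁ ∈ I) (hI2 : Δ₂ ∈ I) :
    ∀ (d : ℕ) (F : R[X]), F.natDegree ≤ d →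
      aeval (algebraMap R K Δ₁ / algebraMap R K Δ₂) F = 0 → F ∈ I.map (C : R →+* R[X]) := by
  have h2K : algebraMap R K Δ₂ ≠ 0 := fun h => h2 (hinj (by rw [h, map_zero]))
  have hT : algebraMap R K Δ₂ * (algebraMap R K Δ₁ / algebraMap R K Δ₂) = algebraMap R K Δ₁ :=
    mul_div_cancel₀ _ h2K
  intro d
  induction d with
  | zero =>
    intro F hd hF
    have hC : F = C (F.coeff 0) := eq_C_of_natDegree_le_zero hd
    rw [hC, aeval_C] at hF
    have h0 : F.coeff 0 = 0 := hinj (by rw [hF, map_zero])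
    rw [hC, h0, map_zero]
    exact Submodule.zero_mem _
  | succ d ih =>
    intro F hd hF
    by_cases hle : F.natDegree ≤ d
    · exact ih F hle hF
    have hdeg : F.natDegree = d + 1 := by omega
    obtain ⟨c, hc⟩ := dvd_leadingCoeff hinj Δ₁ Δ₂ hcop h2 F hF
    have hc' : F.coeff (d + 1) = Δ₂ * c := by rw [← hdeg]; exact hc
    set G : R[X] := C (c * Δ₂) * X ^ (d + 1) - C (c * Δ₁) * X ^ d with hG
    have hGcoeff : ∀ N, G.coeff N = (if N = d + 1 then c * Δ₂ else 0) -
        (if N = d then c * Δ₁ else 0) := by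
      intro N
      rw [hG, coeff_sub, coeff_C_mul_X_pow, coeff_C_mul_X_pow]
    have hGmem : G ∈ I.map (C : R →+* R[X]) := by
      rw [Ideal.mem_map_C_iff]
      intro N
      rw [hGcoeff]
      apply I.sub_mem
      · split_ifs
        · exact I.mul_mem_left _ hI2
        · exact I.zero_mem
      · split_ifs
        · exact I.mul_mem_left _ hI1
        · exact I.zero_mem
    have hGaeval : aeval (algebraMap R K Δ₁ / algebraMap R K Δ₂) G = 0 := by
      simp only [hG, map_sub, map_mul, aeval_C, map_pow, aeval_X, pow_succ]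
      linear_combination (algebraMap R K c *
        (algebraMap R K Δ₁ / algebraMap R K Δ₂) ^ d) * hT
    have hF' : (F - G).natDegree ≤ d := by
      rw [natDegree_le_iff_coeff_eq_zero]
      intro N hN
      rw [coeff_sub, hGcoeff]
      by_cases hN1 : N = d + 1
      · subst hN1
        rw [hc', if_pos rfl, if_neg (by omega)]
        ring
      · rw [if_neg hN1, if_neg (by omega), coeff_eq_zero_of_natDegree_lt (by omega)]
        ring
    have hFG : aeval (algebraMap R K Δ₁ / algebraMap R K Δ₂) (F - G) = 0 := by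
      rw [map_sub, hF, hGaeval, sub_zero]
    have := ih (F - G) hF' hFG
    have hsum : F = (F - G) + G := by ring
    rw [hsum]
    exact Ideal.add_mem _ this hGmem

end Gauss

section Main

variable (R : Type u) [CommRing R] [IsDomain R] [IsNoetherianRing R] [UniqueFactorizationMonoid R]
  [IsLocalRing R]

theorem main (Δ₁ Δ₂ : R) (h₁ : ¬ IsUnit Δ₁) (h₂ : ¬ IsUnit Δ₂) (hcop : IsRelPrime Δ₁ Δ₂) :
    ∃ (A : Type u) (_ : CommRing A) (_ : IsDomain A) (_ : IsDiscreteValuationRing A) (f : R →+* A),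
      IsLocalHom f ∧ Function.Injective f ∧ ¬ IsUnit (f Δ₁) ∧
        ∃ u : Aˣ, (u : A) - 1 ∈ IsLocalRing.maximalIdeal A ∧ f Δ₁ = (u : A) * f Δ₂ := by
  classical
  let K := FractionRing R
  have hinj : Function.Injective (algebraMap R K) := IsFractionRing.injective R K
  have hΔ₁0 : Δ₁ ≠ 0 := by
    rintro rfl
    exact h₂ (isRelPrime_zero_left.mp hcop)
  have hΔ₂0 : Δ₂ ≠ 0 := by
    rintro rfl
    exact h₁ (isRelPrime_zero_right.mp hcop)
  have h2K : algebraMap R K Δ₂ ≠ 0 := fun h => hΔ₂0 (hinj (by rw [h, map_zero]))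
  set T : K := algebraMap R K Δ₁ / algebraMap R K Δ₂ with hTdef
  have hTmul : T * algebraMap R K Δ₂ = algebraMap R K Δ₁ := div_mul_cancel₀ _ h2K
  have hm1 : Δ₁ ∈ maximalIdeal R := (mem_maximalIdeal _).mpr h₁
  have hm2 : Δ₂ ∈ maximalIdeal R := (mem_maximalIdeal _).mpr h₂
  -- the subalgebra `R[T]` and the evaluation `R[T] → k`, `T ↦ 1`
  let φ : R[X] →ₐ[R] K := aeval T
  let S : Subalgebra R K := φ.range
  let φ' : R[X] →ₐ[R] S := φ.rangeRestrict
  have hφ'surj : Function.Surjective φ' := φ.rangeRestrict_surjective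
  let ev : R[X] →+* ResidueField R := eval₂RingHom (residue R) 1
  have hker : RingHom.ker (φ' : R[X] →+* S) ≤ RingHom.ker ev := by
    intro F hF
    rw [RingHom.mem_ker] at hF ⊢
    have hF0 : aeval T F = 0 := by
      have := congrArg (Subtype.val) hF
      exact this
    have hmem := mem_map_C_of_aeval_eq_zero hinj Δ₁ Δ₂ hcop hΔ₂0 (maximalIdeal R) hm1 hm2
      F.natDegree F le_rfl hF0
    rw [Ideal.mem_map_C_iff] at hmem
    change eval₂ (residue R) 1 F = 0
    rw [eval₂_eq_sum_range]
    apply Finset.sum_eq_zero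
    intro i _
    have : residue R (F.coeff i) = 0 := (residue_eq_zero_iff _).mpr (hmem i)
    rw [this, zero_mul]
  let ψ : S →+* ResidueField R := (φ' : R[X] →+* S).liftOfSurjective hφ'surj ⟨ev, hker⟩
  have hψ : ∀ F : R[X], ψ (φ' F) = ev F := fun F =>
    RingHom.liftOfSurjective_comp_apply (φ' : R[X] →+* S) hφ'surj ⟨ev, hker⟩ F
  let TS : S := φ' X
  have hTS : (TS : K) = T := by
    change aeval T X = T
    rw [aeval_X]
  -- the ideal `(m, T - 1)` of `R[T]` is proper
  let I : Ideal S := (maximalIdeal R).map (algebraMap R S) ⊔ Ideal.span {TS - 1}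
  have hIker : I ≤ RingHom.ker ψ := by
    apply sup_le
    · rw [Ideal.map_le_iff_le_comap]
      intro r hr
      rw [Ideal.mem_comap, RingHom.mem_ker]
      have : algebraMap R S r = φ' (C r) := by
        apply Subtype.ext
        change algebraMap R K r = aeval T (C r)
        rw [aeval_C]
      rw [this, hψ]
      change eval₂ (residue R) 1 (C r) = 0
      rw [eval₂_C]
      exact (residue_eq_zero_iff _).mpr hr
    · rw [Ideal.span_le]
      intro x hx
      rw [Set.mem_singleton_iff] at hx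
      rw [hx]
      change ψ (TS - 1) = 0
      have : TS - 1 = φ' (X - 1) := by rw [map_sub, map_one]
      rw [this, hψ]
      change eval₂ (residue R) 1 (X - 1) = 0
      rw [eval₂_sub, eval₂_X, eval₂_one, sub_self]
  have hIne : I ≠ ⊤ := by
    intro hI
    have : (1 : S) ∈ RingHom.ker ψ := hIker (hI ▸ Submodule.mem_top)
    rw [RingHom.mem_ker, map_one] at this
    exact one_ne_zero this
  obtain ⟨q, hqmax, hIq⟩ := Ideal.exists_le_maximal I hIne
  haveI : q.IsPrime := hqmax.isPrime
  -- the local ring `R[T]_q` inside `K`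
  haveI hFT : Algebra.FiniteType R S := Algebra.FiniteType.of_surjective φ' hφ'surj
  have hN : IsNoetherianRing S := Algebra.FiniteType.isNoetherianRing R S
  have hS : q.primeCompl ≤ nonZeroDivisors S := Ideal.primeCompl_le_nonZeroDivisors q
  let B : Subalgebra S K := Localization.subalgebra.ofField K q.primeCompl hS
  haveI hloc : IsLocalization.AtPrime B q :=
    Localization.subalgebra.isLocalization_ofField K q.primeCompl hS
  haveI hBloc : IsLocalRing B := IsLocalization.AtPrime.isLocalRing B q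
  haveI hBN : IsNoetherianRing B := IsLocalization.isNoetherianRing q.primeCompl B hN
  have hBmax : ∀ s : S, algebraMap S B s ∈ maximalIdeal B ↔ s ∈ q := fun s =>
    IsLocalization.AtPrime.to_map_mem_maximal_iff B q s
  have hval : ∀ s : S, ((algebraMap S B s : B) : K) = (s : K) := fun s => rfl
  have hRq : ∀ r ∈ maximalIdeal R, algebraMap R S r ∈ q := fun r hr =>
    hIq (Ideal.mem_sup_left (Ideal.mem_map_of_mem _ hr))
  have hTq : TS - 1 ∈ q := hIq (Ideal.mem_sup_right (Ideal.subset_span rfl))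
  have hBnf : ¬ IsField B := by
    intro hf
    have hbot : maximalIdeal B = ⊥ := IsLocalRing.isField_iff_maximalIdeal_eq.mp hf
    have h1 : algebraMap S B (algebraMap R S Δ₁) ∈ maximalIdeal B := (hBmax _).mpr (hRq _ hm1)
    rw [hbot, Ideal.mem_bot] at h1
    have h2 := congrArg (fun b : B => (b : K)) h1
    have h3 : algebraMap R K Δ₁ = 0 := h2
    exact hΔ₁0 (hinj (by rw [h3, map_zero]))
  obtain ⟨W, hW, hWmem, hWlt⟩ := Groth.Agent.Lib.Helper4.DomDVR.exists_dvr_finite B K hBnf K
  -- membership and valuation statements in terms of `S`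
  have hSW : ∀ s : S, (s : K) ∈ W := fun s => hWmem (algebraMap S B s)
  have hSlt : ∀ s : S, s ∈ q → W.valuation (s : K) < 1 := fun s hs =>
    hWlt (algebraMap S B s) ((hBmax s).mpr hs)
  have hRW : ∀ r : R, algebraMap R K r ∈ W := fun r => hSW (algebraMap R S r)
  let f : R →+* W := (algebraMap R K).codRestrict W hRW
  have hfval : ∀ r : R, ((f r : W) : K) = algebraMap R K r := fun r => rfl
  have hfnon : ∀ r : R, ¬ IsUnit r → ¬ IsUnit (f r) := by
    intro r hr
    have hrm : r ∈ maximalIdeal R := (mem_maximalIdeal _).mpr hr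
    have h1 : W.valuation (algebraMap R K r) < 1 := hSlt (algebraMap R S r) (hRq r hrm)
    have h2 : f r ∈ maximalIdeal W := (W.valuation_lt_one_iff (f r)).mpr h1
    exact (mem_maximalIdeal _).mp h2
  have hTW : T ∈ W := hTS ▸ hSW TS
  let uW : W := ⟨T, hTW⟩
  have huW1 : uW - 1 ∈ maximalIdeal W := by
    rw [W.valuation_lt_one_iff]
    have h1 : W.valuation ((TS - 1 : S) : K) < 1 := hSlt (TS - 1) hTq
    have h2 : ((TS - 1 : S) : K) = ((uW - 1 : W) : K) := by
      change (TS : K) - 1 = T - 1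
      rw [hTS]
    rw [h2] at h1
    exact h1
  have huWunit : IsUnit uW := by
    by_contra hnu
    have hmem : uW ∈ maximalIdeal W := (mem_maximalIdeal _).mpr hnu
    have h1 : (1 : W) ∈ maximalIdeal W := by
      have := (maximalIdeal W).sub_mem hmem huW1
      simpa using this
    exact (Ideal.ne_top_iff_one _).mp (Ideal.IsMaximal.ne_top (maximalIdeal.isMaximal W)) h1
  refine ⟨W, inferInstance, inferInstance, hW, f, ⟨fun r hr => ?_⟩, ?_, hfnon Δ₁ h₁,
    huWunit.unit, ?_, ?_⟩
  · by_contra hnr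
    exact hfnon r hnr hr
  · intro a b hab
    have := congrArg (fun w : W => (w : K)) hab
    exact hinj this
  · rw [IsUnit.unit_spec]
    exact huW1
  · rw [IsUnit.unit_spec]
    apply Subtype.ext
    change algebraMap R K Δ₁ = T * algebraMap R K Δ₂
    rw [hTmul]

end Main

end Groth.Agent.Helper3.DvrRatio
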