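import Mathlib
import Groth.Prelude.Def_Coh
import Groth.Agent.Lib.Helper1.QcExt

/-!
# Epimorphisms of O-modules on a scheme are locally surjective on sections
-/

set_option autoImplicit false
universe u
open CategoryTheory CategoryTheory.Limits Opposite TopologicalSpace AlgebraicGeometry

namespace Groth.Agent.Helper3.EdgeLS

theorem exists_local_lift {Y : Scheme.{u}} {M N : Y.Modules} (φ : M ⟶ N) [Epi φ]
    (V : Y.Opens) (t : N.presheaf.obj (op V)) (y : Y) (hy : y ∈ V) :
    ∃ (W : Y.Opens) (hWV : W ≤ V), y ∈ W ∧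
      ∃ t' : M.presheaf.obj (op W), φ.app W t' = N.presheaf.map (homOfLE hWV).op t := by
  let ψ := (Groth.Agent.Helper1.QcExt.T Y).map φ
  haveI : Epi ψ := by dsimp only [ψ]; infer_instance
  haveI : Presheaf.IsLocallySurjective (Opens.grothendieckTopology Y) ψ.hom :=
    (Sheaf.isLocallySurjective_iff_epi' (φ := ψ)).2 inferInstance
  have hmem := Presheaf.imageSieve_mem (Opens.grothendieckTopology Y) ψ.hom (U := op V) t
  obtain ⟨W, i, ⟨t', ht'⟩, hyW⟩ := hmem y hy
  exact ⟨W, leOfHom i, hyW, t', ht'⟩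

end Groth.Agent.Helper3.EdgeLS
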