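import Mathlib
import Groth.Prelude.Def_CohCmp
import Groth.Agent.Lib.Helper3.EdgeLS1
import Groth.Agent.Lib.Helper3.DeltaEff
import Groth.Agent.Lib.Helper3.GSS
import Groth.Agent.Lib.Helper1.QcExt
import Groth.Agent.Lib.Helper1.RpushComp
import Groth.Agent.Lib.Helper5.Stalk.FlatPull

/-!
# The comparison maps `H^p(f⁻¹V, F) → Γ(V, R^p f_* F)` are locally surjective
-/

set_option autoImplicit false
universe u
open CategoryTheory CategoryTheory.Limits Opposite TopologicalSpace AlgebraicGeometry
open AlgebraicGeometry.Scheme.Modules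

namespace Groth.Agent.Helper3.EdgeLS

variable {X Y : Scheme.{u}} (f : X ⟶ Y) [HasInjectiveResolutions X.Modules]

/-- restriction to an open followed by the underlying abelian sheaf preserves short exact
sequences -/
theorem shortExact_toAbOn (U : X.Opens) {S : ShortComplex X.Modules} (hS : S.ShortExact) :
    (S.map (CohCmp.toAbOn X U)).ShortExact := by
  have h1 : (S.map (Scheme.Modules.restrictFunctor U.ι)).ShortExact := hS.map_of_exact _
  exact Groth.Agent.Helper1.QcExt.Sab_shortExact h1

theorem res_res {M : Y.Modules} {V W' W : Y.Opens} (h1 : W' ≤ V) (h2 : W ≤ W')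
    (t : M.presheaf.obj (op V)) :
    M.presheaf.map (homOfLE h2).op (M.presheaf.map (homOfLE h1).op t) =
      M.presheaf.map (homOfLE (h2.trans h1)).op t := by
  rw [← ConcreteCategory.comp_apply, ← Functor.map_comp]
  rfl

theorem app_res {M N : Y.Modules} (φ : M ⟶ N) {V W : Y.Opens} (h : W ≤ V)
    (t : M.presheaf.obj (op V)) :
    φ.app W (M.presheaf.map (homOfLE h).op t) = N.presheaf.map (homOfLE h).op (φ.app V t) := by
  have := φ.mapPresheaf.naturality (homOfLE h).op
  exact (ConcreteCategory.congr_hom this t)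

variable {Δ : RDer.DerivedLES (pushforward f)} (E : CohCmp.SectCmp f Δ)

theorem locally_surjective (p : ℕ) :
    ∀ (F : X.Modules) (V : Y.Opens) (t : ((Coh.Rpush f p).obj F).presheaf.obj (op V)) (y : Y)
      (_ : y ∈ V),
      ∃ (W : Y.Opens) (hWV : W ≤ V), y ∈ W ∧
        ∃ x : Coh.HHon X F (f ⁻¹ᵁ W) p,
          E.ε W F p x = ((Coh.Rpush f p).obj F).presheaf.map (homOfLE hWV).op t := by
  haveI := GSS.enoughInjectives_of_hasInjectiveResolutions X.Modules
  induction p with
  | zero =>
    intro F V t y hy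
    haveI : IsIso ((pushforward f).toRightDerivedZero.app F) := inferInstance
    let s := (inv ((pushforward f).toRightDerivedZero.app F)).app V t
    refine ⟨V, le_rfl, hy, CohPull.sectH0 F (f ⁻¹ᵁ V) s, ?_⟩
    rw [E.zero V F s]
    have h1 : ((pushforward f).toRightDerivedZero.app F).app V s = t := by
      change ((inv ((pushforward f).toRightDerivedZero.app F)).app V ≫
        ((pushforward f).toRightDerivedZero.app F).app V) t = t
      rw [← Hom.comp_app, IsIso.inv_hom_id, Hom.id_app]
      rfl
    rw [h1]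
    change t = ((Coh.Rpush f 0).obj F).presheaf.map (𝟙 (op V)) t
    rw [CategoryTheory.Functor.map_id]
    rfl
  | succ p ih =>
    intro F V t y hy
    let S := DeltaEff.sc (Injective.ι F)
    have hS : S.ShortExact := DeltaEff.sc_shortExact (Injective.ι F)
    have hz : IsZero ((Coh.Rpush f (p + 1)).obj S.X₂) :=
      Functor.isZero_rightDerived_obj_injective_succ _ p (Injective.under F)
    haveI : Epi (Δ.δ S hS p (p + 1) rfl) := (Δ.exact₁ S hS p (p + 1) rfl).epi_f (hz.eq_of_tgt _ _)
    obtain ⟨W', hW'V, hyW', t', ht'⟩ := exists_local_lift (Δ.δ S hS p (p + 1) rfl) V t y hy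
    obtain ⟨W, hWW', hyW, x', hx'⟩ := ih S.X₃ W' t' y hyW'
    have hA := shortExact_toAbOn (f ⁻¹ᵁ W) hS
    refine ⟨W, hWW'.trans hW'V, hyW, CohCmp.extδ hA p x', ?_⟩
    have h1 := E.delta W S hS hA p x'
    refine h1.trans ?_
    rw [hx', app_res, ht']
    exact res_res hW'V hWW' t

end Groth.Agent.Helper3.EdgeLS
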