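import Mathlib
import Groth.Prelude.Def_CohBC2
import Groth.Prelude.Def_Coh
import Groth.Agent.Lib.Helper3.EdgeOutIso1
import Groth.Agent.Lib.Helper3.LerayCol4
import Groth.Agent.Lib.Helper3.LerayCol2
import Groth.Agent.Lib.Helper1.RpushComp
import Groth.Agent.Lib.Helper1.RpushZero
import Groth.Agent.Lib.Helper5.MV.Flasque
import Groth.Agent.S0030

set_option autoImplicit false
universe u

namespace Groth.Agent.Helper3.EdgeOutIso

open CategoryTheory CategoryTheory.Limits AlgebraicGeometry AlgebraicGeometry.Scheme.Modules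
open Groth.Agent.Helper3 Groth.Agent.Helper1

/-- the underlying abelian sheaf of an injective module is flasque -/
theorem isFlasque_toAb_of_injective {X : Scheme.{u}} (Q : X.Modules) [Injective Q] :
    TopCat.Sheaf.IsFlasque (Coh.toAb Q) where
  epi {V W} i := by
    rw [AddCommGrpCat.epi_iff_surjective]
    have h : W.unop ≤ V.unop := leOfHom i.unop
    exact Groth.Agent.Lib.Helper5.MV.surjective_res_of_injective Q h

/-- **the second Leray edge map `R^p (g ∘ f)_* M ⟶ g_* R^p f_* M` is an isomorphism** for `f`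
quasi-compact quasi-separated, `g` affine and `M` quasi-coherent -/
theorem S16462_main {X Y Z : Scheme.{u}} (f : X ⟶ Y) (g : Y ⟶ Z)
    [QuasiCompact f] [QuasiSeparated f] [IsAffineHom g] [HasInjectiveResolutions X.Modules]
    (M : X.Modules) [Coh.IsQCoh M] (p : ℕ) :
    IsIso (CohBC.lerayEdgeOut f g p M) := by
  haveI := LerayCol.hasInjectiveResolutions Y
  have hΦ : ∀ I : X.Modules, Injective I →
      EdgeOutIso.Acy (pushforward g) ((pushforward f).obj I) := by
    intro I hI k
    apply RpushComp.isZero_of_toAb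
    obtain ⟨e⟩ := RpushComp.nonempty_iso g ((pushforward f).obj I) (k + 1)
    refine IsZero.of_iso ?_ e
    haveI := isFlasque_toAb_of_injective I
    haveI : TopCat.Sheaf.IsFlasque (Coh.toAb ((pushforward f).obj I)) :=
      TopCat.Sheaf.IsFlasque.pushforward_isFlasque (Coh.toAb I) f.base
    exact LerayCol4.isZero_rpush_of_isFlasque g.base _ k
  have hX : ∀ q, EdgeOutIso.Acy (pushforward g) ((Coh.Rpush f q).obj M) := by
    intro q k
    haveI : ((Coh.Rpush f q).obj M).IsQuasicoherent := Groth.Agent.S0030.result f M q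
    apply RpushComp.isZero_of_toAb
    obtain ⟨e⟩ := RpushComp.nonempty_iso g ((Coh.Rpush f q).obj M) (k + 1)
    exact IsZero.of_iso (RpushZero.rpushAb_isZero g _ k) e
  have h1 := EdgeOutIso.isIso_edgeOut (pushforward f) (pushforward g) hΦ M p (fun q _ => hX q)
  dsimp only [CohBC.lerayEdgeOut]
  exact IsIso.comp_isIso' inferInstance h1

end Groth.Agent.Helper3.EdgeOutIso
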