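import Mathlib
import Groth.Agent.Lib.Helper7.Hensel.IntegralDomain

/-! helper3: Eisenstein polynomials of degree prime to the residue characteristic over a henselian
discrete valuation ring with algebraically closed residue field: the root field is a Kummer
extension `K(ϖ^{1/e})`. -/

set_option autoImplicit false

namespace Groth.Agent.Helper3.EisenKummer

universe u

open Polynomial IsLocalRing

/-- extraction of `e`-th roots of elements congruent to `1` in a henselian local ring -/
theorem exists_pow_eq_of_sub_one_mem (B : Type u) [CommRing B] [HenselianLocalRing B] (e : ℕ)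
    (he : 1 ≤ e) (t : B) (ht : t - 1 ∈ maximalIdeal B) (heu : IsUnit ((e : ℕ) : B)) :
    ∃ w : B, w ^ e = t ∧ w - 1 ∈ maximalIdeal B := by
  have hmon : (X ^ e - C t : B[X]).Monic := monic_X_pow_sub_C t (by omega)
  obtain ⟨w, hw, hw1⟩ := HenselianLocalRing.is_henselian (X ^ e - C t : B[X]) hmon 1
    (by
      have : eval 1 (X ^ e - C t : B[X]) = -(t - 1) := by simp
      rw [this]
      exact (maximalIdeal B).neg_mem ht)
    (by
      have : eval 1 (derivative (X ^ e - C t : B[X])) = (e : B) := by
        simp [derivative_X_pow]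
      rw [this]
      exact heu)
  refine ⟨w, ?_, hw1⟩
  have := hw
  rw [IsRoot.def, eval_sub, eval_pow, eval_X, eval_C] at this
  exact sub_eq_zero.mp this

/-- lifting primitive roots of unity to a henselian local ring -/
theorem exists_primitiveRoot (O : Type u) [CommRing O] [HenselianLocalRing O]
    [IsSepClosed (ResidueField O)] (e : ℕ) (he : 1 ≤ e) (hek : ((e : ℕ) : ResidueField O) ≠ 0) :
    ∃ ζ : O, IsPrimitiveRoot ζ e := by
  haveI : NeZero ((e : ℕ) : ResidueField O) := ⟨hek⟩
  obtain ⟨ζ', hζ'⟩ := HasEnoughRootsOfUnity.exists_primitiveRoot (ResidueField O) e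
  obtain ⟨z₀, hz₀⟩ := residue_surjective ζ'
  have heu : IsUnit ((e : ℕ) : O) := by
    rw [← IsLocalRing.notMem_maximalIdeal]
    intro hmem
    apply hek
    have := (residue_eq_zero_iff _).mpr hmem
    rwa [map_natCast] at this
  have hz₀u : IsUnit z₀ := by
    rw [← IsLocalRing.notMem_maximalIdeal]
    intro hmem
    have := (residue_eq_zero_iff _).mpr hmem
    rw [hz₀] at this
    exact hζ'.ne_zero (by omega) this
  have hmon : (X ^ e - C 1 : O[X]).Monic := monic_X_pow_sub_C 1 (by omega)
  obtain ⟨ζ, hζ, hζ1⟩ := HenselianLocalRing.is_henselian (X ^ e - C 1 : O[X]) hmon z₀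
    (by
      have : eval z₀ (X ^ e - C 1 : O[X]) = z₀ ^ e - 1 := by simp
      rw [this, ← residue_eq_zero_iff, map_sub, map_pow, map_one, hz₀, hζ'.pow_eq_one, sub_self])
    (by
      have : eval z₀ (derivative (X ^ e - C 1 : O[X])) = (e : O) * z₀ ^ (e - 1) := by
        simp [derivative_X_pow]
      rw [this]
      exact heu.mul (hz₀u.pow _))
  have hres : residue O ζ = ζ' := by
    have := (residue_eq_zero_iff _).mpr hζ1
    rw [map_sub, hz₀, sub_eq_zero] at this
    exact this
  have hpow : ζ ^ e = 1 := by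
    have := hζ
    rw [IsRoot.def, eval_sub, eval_pow, eval_X, eval_C] at this
    exact sub_eq_zero.mp this
  refine ⟨ζ, ⟨hpow, fun l hl => hζ'.dvd_of_pow_eq_one l ?_⟩⟩
  rw [← hres, ← map_pow, hl, map_one]

/-- normal form of an Eisenstein polynomial over a discrete valuation ring -/
theorem eisenstein_form (O : Type u) [CommRing O] [IsDomain O] [IsDiscreteValuationRing O]
    (f : O[X]) (hmon : f.Monic) (e : ℕ) (hdeg : f.natDegree = e) (he : 1 ≤ e)
    (hf : f.IsEisensteinAt (maximalIdeal O)) :
    maximalIdeal O = Ideal.span {f.coeff 0} ∧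
      ∃ h : O[X], f = X ^ e + C (f.coeff 0) * h ∧ h.coeff 0 = 1 := by
  obtain ⟨ϖ, hϖ⟩ := IsDiscreteValuationRing.exists_irreducible O
  have hm : maximalIdeal O = Ideal.span {ϖ} := hϖ.maximalIdeal_eq
  have ha₀m : f.coeff 0 ∈ maximalIdeal O := hf.mem (by omega)
  have ha₀2 : f.coeff 0 ∉ maximalIdeal O ^ 2 := hf.notMem
  obtain ⟨b, hb⟩ : ∃ b, b * ϖ = f.coeff 0 := by
    rw [hm] at ha₀m
    exact Ideal.mem_span_singleton'.mp ha₀m
  have hbu : IsUnit b := by
    rw [← IsLocalRing.notMem_maximalIdeal]
    intro hbm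
    rw [hm] at hbm
    obtain ⟨b', hb'⟩ := Ideal.mem_span_singleton'.mp hbm
    apply ha₀2
    rw [hm, Ideal.span_singleton_pow, Ideal.mem_span_singleton']
    exact ⟨b', by rw [← hb, ← hb']; ring⟩
  have hspan : maximalIdeal O = Ideal.span {f.coeff 0} := by
    rw [hm, ← hb, Ideal.span_singleton_mul_left_unit hbu]
  have ha₀0 : f.coeff 0 ≠ 0 := by
    intro h0
    apply ha₀2
    rw [h0]
    exact Ideal.zero_mem _
  refine ⟨hspan, ?_⟩
  have hg : f - X ^ e ∈ (maximalIdeal O).map (C : O →+* O[X]) := by
    rw [Ideal.mem_map_C_iff]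
    intro n
    rw [coeff_sub, coeff_X_pow]
    rcases lt_trichotomy n e with hlt | heq | hgt
    · rw [if_neg (by omega), sub_zero]
      exact hf.mem (by omega)
    · subst heq
      rw [if_pos rfl, ← hdeg, hmon.coeff_natDegree, sub_self]
      exact Ideal.zero_mem _
    · rw [if_neg (by omega), sub_zero, coeff_eq_zero_of_natDegree_lt (by omega)]
      exact Ideal.zero_mem _
  rw [hspan, Ideal.map_span, Set.image_singleton, Ideal.mem_span_singleton'] at hg
  obtain ⟨h, hh⟩ := hg
  refine ⟨h, ?_, ?_⟩
  · linear_combination -hh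
  · have h0 := congrArg (fun q : O[X] => q.coeff 0) hh
    simp only [coeff_mul_C, coeff_sub, coeff_X_pow] at h0
    rw [if_neg (by omega), sub_zero] at h0
    have : h.coeff 0 * f.coeff 0 = 1 * f.coeff 0 := by rw [h0, one_mul]
    exact mul_right_cancel₀ ha₀0 this

/-- the polynomial `X ^ e + a₀` is Eisenstein when `a₀` is a uniformizer -/
theorem isEisensteinAt_X_pow_add_C (O : Type u) [CommRing O] [IsLocalRing O] (e : ℕ) (he : 1 ≤ e)
    (a₀ : O) (ha₀m : a₀ ∈ maximalIdeal O) (ha₀2 : a₀ ∉ maximalIdeal O ^ 2) :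
    (X ^ e + C a₀ : O[X]).IsEisensteinAt (maximalIdeal O) := by
  have hdeg : (X ^ e + C a₀ : O[X]).natDegree = e := natDegree_X_pow_add_C
  have hmon : (X ^ e + C a₀ : O[X]).Monic := monic_X_pow_add_C a₀ (by omega)
  refine ⟨?_, ?_, ?_⟩
  · rw [hmon.leadingCoeff]
    exact fun h1 => (Ideal.ne_top_iff_one _).mp
      (Ideal.IsMaximal.ne_top (maximalIdeal.isMaximal O)) h1
  · intro n hn
    rw [hdeg] at hn
    rw [coeff_add, coeff_X_pow, coeff_C, if_neg (by omega), zero_add]
    split_ifs
    · exact ha₀m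
    · exact Ideal.zero_mem _
  · rw [coeff_add, coeff_X_pow, coeff_C, if_neg (by omega), zero_add, if_pos rfl]
    exact ha₀2

/-- the root field of an Eisenstein-type polynomial contains an `e`-th root of `-a₀` -/
theorem exists_pow_eq (O : Type u) [CommRing O] [HenselianLocalRing O] (E : Type u) [Field E]
    [Algebra O E] (f h : O[X]) (e : ℕ) (he : 1 ≤ e) (a₀ : O) (ha₀ : a₀ ∈ maximalIdeal O)
    (hfh : f = X ^ e + C a₀ * h) (hh0 : h.coeff 0 = 1) (heu : IsUnit ((e : ℕ) : O))
    (hmon : f.Monic) (α : E) (hα : aeval α f = 0) :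
    ∃ ρ : E, ρ ^ e = - algebraMap O E a₀ := by
  let B := integralClosure O E
  haveI : IsLocalRing B := Groth.Agent.Helper7.Hensel.isLocalRing_of_isIntegral_domain O B
  haveI : HenselianLocalRing B :=
    Groth.Agent.Helper7.Hensel.henselianLocalRing_of_isIntegral_of_isLocalRing O B
  haveI : IsLocalHom (algebraMap O B) := Groth.Agent.Helper7.Hensel.isLocalHom_of_isIntegral
  have hαint : IsIntegral O α := ⟨f, hmon, by rw [← aeval_def]; exact hα⟩
  let αB : B := ⟨α, hαint⟩
  have hαB0 : aeval αB f = 0 := by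
    apply Subtype.ext
    rw [aeval_subalgebra_coe]
    exact hα
  let tB : B := aeval αB h
  have hrel : αB ^ e + algebraMap O B a₀ * tB = 0 := by
    have := hαB0
    rw [hfh, map_add, map_pow, aeval_X, map_mul, aeval_C] at this
    exact this
  have ha₀B : algebraMap O B a₀ ∈ maximalIdeal B := by
    rw [mem_maximalIdeal, mem_nonunits_iff]
    intro hu
    exact ((mem_maximalIdeal _).mp ha₀) (isUnit_of_map_unit (algebraMap O B) a₀ hu)
  have hαBm : αB ∈ maximalIdeal B := by
    have h1 : αB ^ e ∈ maximalIdeal B := by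
      have : αB ^ e = - (algebraMap O B a₀ * tB) := eq_neg_of_add_eq_zero_left hrel
      rw [this]
      exact (maximalIdeal B).neg_mem ((maximalIdeal B).mul_mem_right _ ha₀B)
    exact (maximalIdeal.isMaximal B).isPrime.mem_of_pow_mem e h1
  have htB1 : tB - 1 ∈ maximalIdeal B := by
    have hdiv : h = divX h * X + C 1 := by
      rw [← hh0]
      exact (divX_mul_X_add h).symm
    have : tB - 1 = aeval αB (divX h) * αB := by
      change aeval αB h - 1 = _
      conv_lhs => rw [hdiv]
      rw [map_add, map_mul, aeval_X, aeval_C, map_one]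
      ring
    rw [this]
    exact (maximalIdeal B).mul_mem_left _ hαBm
  have heB : IsUnit ((e : ℕ) : B) := by
    have := heu.map (algebraMap O B)
    rwa [map_natCast] at this
  obtain ⟨w, hw, hw1⟩ := exists_pow_eq_of_sub_one_mem B e he tB htB1 heB
  have hwu : IsUnit w := by
    rw [← IsLocalRing.notMem_maximalIdeal]
    intro hwm
    have h1 : (1 : B) ∈ maximalIdeal B := by
      have := (maximalIdeal B).sub_mem hwm hw1
      simpa using this
    exact (Ideal.ne_top_iff_one _).mp (Ideal.IsMaximal.ne_top (maximalIdeal.isMaximal B)) h1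
  have hwE : algebraMap B E w ≠ 0 := by
    intro h0
    have : w = 0 := Subtype.ext h0
    rw [this] at hwu
    exact not_isUnit_zero hwu
  have hrelE : α ^ e + algebraMap O E a₀ * algebraMap B E tB = 0 := by
    have := congrArg (algebraMap B E) hrel
    rw [map_add, map_pow, map_mul, map_zero, ← IsScalarTower.algebraMap_apply O B E] at this
    exact this
  have hwtE : algebraMap B E w ^ e = algebraMap B E tB := by
    rw [← map_pow, hw]
  refine ⟨α * (algebraMap B E w)⁻¹, ?_⟩
  have htE : algebraMap B E tB ≠ 0 := by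
    rw [← hwtE]
    exact pow_ne_zero _ hwE
  rw [mul_pow, inv_pow, hwtE]
  have : α ^ e = - algebraMap O E a₀ * algebraMap B E tB := by linear_combination hrelE
  rw [this, mul_assoc, mul_inv_cancel₀ htE, mul_one]

end Groth.Agent.Helper3.EisenKummer
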