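import Mathlib
import Groth.Agent.Lib.Helper3.EisenKummer1

/-! helper3: splitting field and Galois group of an Eisenstein polynomial of degree `e < p` over a
henselian discrete valuation ring with algebraically closed residue field of characteristic `p`. -/

set_option autoImplicit false

namespace Groth.Agent.Helper3.EisenKummer

universe u

open Polynomial IsLocalRing IntermediateField

/-- a field extension `E/K` of degree `e` generated by an `e`-th root of an element of `K`, where
`K` contains a primitive `e`-th root of unity and `X ^ e + a` is irreducible, is cyclic Galois -/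
theorem kummer_of_root (K E : Type u) [Field K] [Field E] [Algebra K E] [FiniteDimensional K E]
    (e : ℕ) (hfin : Module.finrank K E = e) (ζ : K) (hζ : IsPrimitiveRoot ζ e) (he : 1 ≤ e)
    (a : K) (hirr : Irreducible (X ^ e + C a : K[X])) (ρ : E) (hρ : ρ ^ e = - algebraMap K E a) :
    IsGalois K E ∧ IsCyclic (E ≃ₐ[K] E) := by
  have hK : (primitiveRoots (Module.finrank K E) K).Nonempty := by
    rw [hfin]
    exact ⟨ζ, (mem_primitiveRoots (by omega)).mpr hζ⟩
  have hmon : (X ^ e + C a : K[X]).Monic := monic_X_pow_add_C a (by omega)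
  have haeval : aeval ρ (X ^ e + C a : K[X]) = 0 := by
    rw [map_add, map_pow, aeval_X, aeval_C, hρ, neg_add_cancel]
  have hmin : (X ^ e + C a : K[X]) = minpoly K ρ :=
    minpoly.eq_of_irreducible_of_monic hirr haeval hmon
  have htop : K⟮ρ⟯ = ⊤ := by
    rw [Field.primitive_element_iff_minpoly_natDegree_eq, ← hmin, natDegree_X_pow_add_C, hfin]
  apply ((isCyclic_tfae K E hK).out 2 0).mp
  refine ⟨ρ, ⟨-a, ?_⟩, htop⟩
  rw [hfin, hρ, map_neg]

theorem main (O : Type u) [CommRing O] [IsDomain O]
    [IsDiscreteValuationRing O] [HenselianLocalRing O] [IsAlgClosed (IsLocalRing.ResidueField O)]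
    (p : ℕ) [Fact p.Prime] [CharP (IsLocalRing.ResidueField O) p]
    (f : O[X]) (hmon : f.Monic) (e : ℕ) (hdeg : f.natDegree = e) (he : 1 ≤ e) (hep : e < p)
    (hf : f.IsEisensteinAt (IsLocalRing.maximalIdeal O)) :
    Module.finrank (FractionRing O) (f.map (algebraMap O (FractionRing O))).SplittingField = e ∧
      IsCyclic (f.map (algebraMap O (FractionRing O))).Gal := by
  classical
  set K := FractionRing O with hKdef
  set F : K[X] := f.map (algebraMap O K) with hFdef
  have hFmon : F.Monic := hmon.map _
  have hFdeg : F.natDegree = e := by rw [hFdef, hmon.natDegree_map, hdeg]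
  have hF0 : F ≠ 0 := hFmon.ne_zero
  have hprime : (maximalIdeal O).IsPrime := (maximalIdeal.isMaximal O).isPrime
  have hfirr : Irreducible f := hf.irreducible hprime hmon.isPrimitive (by omega)
  have hFirr : Irreducible F :=
    (Monic.irreducible_iff_irreducible_map_fraction_map hmon).mp hfirr
  haveI : Fact (Irreducible F) := ⟨hFirr⟩
  let E := AdjoinRoot F
  let α : E := AdjoinRoot.root F
  haveI : Module.Finite K E := hFmon.finite_adjoinRoot
  have hfin : Module.finrank K E = e := by
    rw [(AdjoinRoot.powerBasis' hFmon).finrank, AdjoinRoot.powerBasis'_dim, hFdeg]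
  have hαF : aeval α F = 0 := by
    rw [AdjoinRoot.aeval_eq, AdjoinRoot.mk_self]
  have hαf : aeval α f = 0 := by
    rw [← aeval_map_algebraMap K, hαF]
  -- residue characteristic
  have hek : ((e : ℕ) : ResidueField O) ≠ 0 := by
    intro h0
    rw [CharP.cast_eq_zero_iff (ResidueField O) p e] at h0
    exact Nat.not_dvd_of_pos_of_lt (by omega) hep h0
  have heu : IsUnit ((e : ℕ) : O) := by
    rw [← IsLocalRing.notMem_maximalIdeal]
    intro hmem
    apply hek
    have := (residue_eq_zero_iff _).mpr hmem
    rwa [map_natCast] at this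
  -- Eisenstein normal form
  obtain ⟨hspan, h, hfh, hh0⟩ := eisenstein_form O f hmon e hdeg he hf
  have ha₀m : f.coeff 0 ∈ maximalIdeal O := hf.mem (by omega)
  obtain ⟨ρ, hρ⟩ := exists_pow_eq O E f h e he (f.coeff 0) ha₀m hfh hh0 heu hmon α hαf
  -- irreducibility of `X ^ e + a₀`
  have hGeis := isEisensteinAt_X_pow_add_C O e he (f.coeff 0) ha₀m hf.notMem
  have hGmon : (X ^ e + C (f.coeff 0) : O[X]).Monic := monic_X_pow_add_C _ (by omega)
  have hGirr : Irreducible (X ^ e + C (f.coeff 0) : O[X]) :=
    hGeis.irreducible hprime hGmon.isPrimitive (by rw [natDegree_X_pow_add_C]; omega)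
  have hGKirr : Irreducible (X ^ e + C (algebraMap O K (f.coeff 0)) : K[X]) := by
    have := (Monic.irreducible_iff_irreducible_map_fraction_map (K := K) hGmon).mp hGirr
    rwa [Polynomial.map_add, Polynomial.map_pow, map_X, map_C] at this
  -- roots of unity
  obtain ⟨ζ, hζ⟩ := exists_primitiveRoot O e he hek
  have hζK : IsPrimitiveRoot (algebraMap O K ζ) e :=
    hζ.map_of_injective (IsFractionRing.injective O K)
  have hρ' : ρ ^ e = - algebraMap K E (algebraMap O K (f.coeff 0)) := by
    rw [hρ, ← IsScalarTower.algebraMap_apply]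
  obtain ⟨hgal, hcyc⟩ := kummer_of_root K E e hfin (algebraMap O K ζ) hζK he
    (algebraMap O K (f.coeff 0)) hGKirr ρ hρ'
  -- `E` is a splitting field of `F`
  have hminα : minpoly K α = F := by
    rw [AdjoinRoot.minpoly_root hF0, hFmon.leadingCoeff, inv_one, map_one, mul_one]
  haveI : IsSplittingField K E F := by
    constructor
    · have := (IsGalois.to_normal (F := K) (E := E)).splits α
      rwa [hminα] at this
    · rw [eq_top_iff, ← AdjoinRoot.adjoinRoot_eq_top (f := F)]
      apply Algebra.adjoin_mono
      rw [Set.singleton_subset_iff, mem_rootSet_of_ne hF0]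
      exact hαF
  let ψ : E ≃ₐ[K] F.SplittingField := IsSplittingField.algEquiv E F
  refine ⟨?_, ?_⟩
  · rw [← ψ.toLinearEquiv.finrank_eq, hfin]
  · change IsCyclic (F.SplittingField ≃ₐ[K] F.SplittingField)
    exact isCyclic_of_surjective (AlgEquiv.autCongr ψ).toMonoidHom (AlgEquiv.autCongr ψ).surjective

end Groth.Agent.Helper3.EisenKummer
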