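import Mathlib
import Groth.Agent.Lib.Helper3.EisenKummer1

/-! helper3: the splitting field of `∏ (X ^ r_i - v_i ϖ ^ b_i)` over the fraction field of a
henselian discrete valuation ring with algebraically closed residue field of characteristic
`p > Σ r_i` has degree `lcm r_i`. -/

set_option autoImplicit false

namespace Groth.Agent.Helper3.EisenKummer

universe u

open Polynomial IsLocalRing IntermediateField

theorem exists_bezout_nat (r b : ℕ) (hr : 1 ≤ r) (hb : 1 ≤ b) (h : Nat.Coprime r b) :
    ∃ x y : ℕ, x * b = 1 + y * r := by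
  rcases Nat.lt_or_ge 1 r with h1 | h1
  · obtain ⟨x, -, hx⟩ := Nat.exists_mul_mod_eq_one_of_coprime (k := r) (n := b) h.symm h1
    refine ⟨x, b * x / r, ?_⟩
    have := Nat.div_add_mod (b * x) r
    rw [hx] at this
    linarith [this]
  · have : r = 1 := by omega
    subst this
    exact ⟨1, b - 1, by omega⟩

/-- units have `r`-th roots in a henselian local ring with algebraically closed residue field
in which `r` is invertible -/
theorem exists_pow_eq_unit (O : Type u) [CommRing O] [HenselianLocalRing O]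
    [IsAlgClosed (ResidueField O)] (r : ℕ) (hr : 1 ≤ r) (hrk : ((r : ℕ) : ResidueField O) ≠ 0)
    (v : Oˣ) : ∃ w : O, w ^ r = (v : O) := by
  obtain ⟨w', hw'⟩ := IsAlgClosed.exists_pow_nat_eq (residue O (v : O)) (by omega : 0 < r)
  obtain ⟨w₀, hw₀⟩ := residue_surjective w'
  have hv0 : residue O (v : O) ≠ 0 := (v.isUnit.map (residue O)).ne_zero
  have hw'0 : w' ≠ 0 := by
    rintro rfl
    rw [zero_pow (by omega)] at hw'
    exact hv0 hw'.symm
  have hru : IsUnit ((r : ℕ) : O) := by
    rw [← IsLocalRing.notMem_maximalIdeal]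
    intro hmem
    apply hrk
    have := (residue_eq_zero_iff _).mpr hmem
    rwa [map_natCast] at this
  have hw₀u : IsUnit w₀ := by
    rw [← IsLocalRing.notMem_maximalIdeal]
    intro hmem
    have := (residue_eq_zero_iff _).mpr hmem
    rw [hw₀] at this
    exact hw'0 this
  have hmon : (X ^ r - C (v : O) : O[X]).Monic := monic_X_pow_sub_C _ (by omega)
  obtain ⟨w, hw, -⟩ := HenselianLocalRing.is_henselian (X ^ r - C (v : O) : O[X]) hmon w₀
    (by
      have : eval w₀ (X ^ r - C (v : O) : O[X]) = w₀ ^ r - v := by simp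
      rw [this, ← residue_eq_zero_iff, map_sub, map_pow, hw₀, hw', sub_self])
    (by
      have : eval w₀ (derivative (X ^ r - C (v : O) : O[X])) = (r : O) * w₀ ^ (r - 1) := by
        simp [derivative_X_pow]
      rw [this]
      exact hru.mul (hw₀u.pow _))
  refine ⟨w, ?_⟩
  have := hw
  rw [IsRoot.def, eval_sub, eval_pow, eval_X, eval_C] at this
  exact sub_eq_zero.mp this

/-- a unit multiple of a uniformizer is not in the square of the maximal ideal -/
theorem neg_unit_mul_notMem_sq (O : Type u) [CommRing O] [IsDomain O] [IsDiscreteValuationRing O]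
    (ϖ : O) (hϖ : Irreducible ϖ) (u : O) (hu : IsUnit u) :
    -(u * ϖ) ∈ maximalIdeal O ∧ -(u * ϖ) ∉ maximalIdeal O ^ 2 := by
  have hm : maximalIdeal O = Ideal.span {ϖ} := hϖ.maximalIdeal_eq
  constructor
  · rw [hm]
    exact (Ideal.span {ϖ}).neg_mem (Ideal.mul_mem_left _ _ (Ideal.subset_span rfl))
  · rw [hm, Ideal.span_singleton_pow, Ideal.mem_span_singleton']
    rintro ⟨c, hc⟩
    have h1 : (c * ϖ + u) * ϖ = 0 := by linear_combination hc
    have h2 : c * ϖ + u = 0 := by
      rcases mul_eq_zero.mp h1 with h | h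
      · exact h
      · exact absurd h hϖ.ne_zero
    have h3 : u ∈ maximalIdeal O := by
      have : u = -(c * ϖ) := by linear_combination h2
      rw [this, hm]
      exact (Ideal.span {ϖ}).neg_mem (Ideal.mul_mem_left _ _ (Ideal.subset_span rfl))
    exact (mem_maximalIdeal _).mp h3 hu

/-- irreducibility over the fraction field of `X ^ r + d` for `d` a uniformizer -/
theorem irreducible_X_pow_add_C (O : Type u) [CommRing O] [IsDomain O] [IsDiscreteValuationRing O]
    (K : Type u) [Field K] [Algebra O K] [IsFractionRing O K]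
    (r : ℕ) (hr : 1 ≤ r) (d : O) (hd : d ∈ maximalIdeal O) (hd2 : d ∉ maximalIdeal O ^ 2) :
    Irreducible (X ^ r + C (algebraMap O K d) : K[X]) := by
  have hprime : (maximalIdeal O).IsPrime := (maximalIdeal.isMaximal O).isPrime
  have hGeis := isEisensteinAt_X_pow_add_C O r hr d hd hd2
  have hGmon : (X ^ r + C d : O[X]).Monic := monic_X_pow_add_C _ (by omega)
  have hGirr : Irreducible (X ^ r + C d : O[X]) :=
    hGeis.irreducible hprime hGmon.isPrimitive (by rw [natDegree_X_pow_add_C]; omega)
  have := (Monic.irreducible_iff_irreducible_map_fraction_map (K := K) hGmon).mp hGirr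
  rwa [Polynomial.map_add, Polynomial.map_pow, map_X, map_C] at this

theorem main2 (O : Type u) [CommRing O] [IsDomain O]
    [IsDiscreteValuationRing O] [HenselianLocalRing O] [IsAlgClosed (IsLocalRing.ResidueField O)]
    (p : ℕ) [Fact p.Prime] [CharP (IsLocalRing.ResidueField O) p]
    (ϖ : O) (hϖ : Irreducible ϖ) (m : ℕ) (r b : Fin m → ℕ) (v : Fin m → Oˣ)
    (hr : ∀ i, 1 ≤ r i) (hb : ∀ i, 1 ≤ b i) (hrb : ∀ i, Nat.Coprime (r i) (b i))
    (hp : ∑ i, r i < p) :
    Module.finrank (FractionRing O)
        (∏ i, (X ^ (r i) - C (algebraMap O (FractionRing O) ((v i : O) * ϖ ^ (b i))))).SplittingField =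
      Finset.univ.lcm r := by
  classical
  set K := FractionRing O with hKdef
  set N := Finset.univ.lcm r with hNdef
  set P : K[X] := ∏ i, (X ^ (r i) - C (algebraMap O K ((v i : O) * ϖ ^ (b i)))) with hPdef
  have hrN : ∀ i, r i ∣ N := fun i => Finset.dvd_lcm (Finset.mem_univ i)
  have hN1 : 1 ≤ N := by
    have hdvd : N ∣ ∏ i, r i := Finset.lcm_dvd (fun i hi => Finset.dvd_prod_of_mem r hi)
    have hprod : ∏ i, r i ≠ 0 := Finset.prod_ne_zero_iff.mpr (fun i _ => by have := hr i; omega)
    have : N ≠ 0 := ne_zero_of_dvd_ne_zero hprod hdvd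
    omega
  have hrk : ∀ i, ((r i : ℕ) : ResidueField O) ≠ 0 := by
    intro i h0
    rw [CharP.cast_eq_zero_iff (ResidueField O) p (r i)] at h0
    have hle : r i ≤ ∑ j, r j := Finset.single_le_sum (fun j _ => Nat.zero_le _) (Finset.mem_univ i)
    exact Nat.not_dvd_of_pos_of_lt (by have := hr i; omega) (by omega) h0
  -- the field `E = K(ϖ^{1/N})`
  obtain ⟨hd, hd2⟩ := neg_unit_mul_notMem_sq O ϖ hϖ 1 isUnit_one
  rw [one_mul] at hd hd2
  have hQirr : Irreducible (X ^ N + C (algebraMap O K (-ϖ)) : K[X]) :=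
    irreducible_X_pow_add_C O K N hN1 (-ϖ) hd hd2
  set Q : K[X] := X ^ N + C (algebraMap O K (-ϖ)) with hQdef
  have hQmon : Q.Monic := monic_X_pow_add_C _ (by omega)
  haveI : Fact (Irreducible Q) := ⟨hQirr⟩
  let E := AdjoinRoot Q
  let π : E := AdjoinRoot.root Q
  haveI : Module.Finite K E := hQmon.finite_adjoinRoot
  have hfin : Module.finrank K E = N := by
    rw [(AdjoinRoot.powerBasis' hQmon).finrank, AdjoinRoot.powerBasis'_dim, hQdef,
      natDegree_X_pow_add_C]
  let ϖE : E := algebraMap K E (algebraMap O K ϖ)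
  have hinjOK : Function.Injective (algebraMap O K) := IsFractionRing.injective O K
  have hϖE0 : ϖE ≠ 0 := by
    intro h0
    have h1 : algebraMap O K ϖ = 0 := (algebraMap K E).injective (h0.trans (map_zero _).symm)
    exact hϖ.ne_zero (hinjOK (by rw [h1, map_zero]))
  have hπN : π ^ N = ϖE := by
    have h0 : aeval π (X ^ N + C (algebraMap O K (-ϖ)) : K[X]) = 0 := by
      change aeval π Q = 0
      rw [AdjoinRoot.aeval_eq, AdjoinRoot.mk_self]
    rw [map_add, map_pow, aeval_X, aeval_C, map_neg, map_neg] at h0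
    exact eq_of_sub_eq_zero (by rw [← h0]; ring)
  -- roots of the factors
  have hroot : ∀ i, ∃ β : E, β ^ (r i) = algebraMap K E (algebraMap O K ((v i : O) * ϖ ^ (b i))) := by
    intro i
    obtain ⟨w, hw⟩ := exists_pow_eq_unit O (r i) (hr i) (hrk i) (v i)
    refine ⟨algebraMap K E (algebraMap O K w) * π ^ (N / r i * b i), ?_⟩
    rw [mul_pow, ← map_pow, ← map_pow, hw, ← pow_mul]
    have : N / r i * b i * r i = N * b i := by
      rw [mul_assoc, mul_comm (b i) (r i), ← mul_assoc, Nat.div_mul_cancel (hrN i)]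
    rw [this, pow_mul, hπN, map_mul, map_mul, map_pow, map_pow]
  choose β hβ using hroot
  have hζ : ∀ i, ∃ ζ : E, IsPrimitiveRoot ζ (r i) := by
    intro i
    obtain ⟨ζ, hζ⟩ := exists_primitiveRoot O (r i) (hr i) (hrk i)
    exact ⟨algebraMap K E (algebraMap O K ζ),
      (hζ.map_of_injective hinjOK).map_of_injective (algebraMap K E).injective⟩
  have hfac_mon : ∀ i, (X ^ (r i) - C (algebraMap O K ((v i : O) * ϖ ^ (b i))) : K[X]).Monic :=
    fun i => monic_X_pow_sub_C _ (by have := hr i; omega)
  have hPmon : P.Monic := monic_prod_of_monic _ _ (fun i _ => hfac_mon i)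
  have hP0 : P ≠ 0 := hPmon.ne_zero
  have hβroot : ∀ i, β i ∈ P.rootSet E := by
    intro i
    rw [mem_rootSet_of_ne hP0, hPdef, map_prod]
    apply Finset.prod_eq_zero (Finset.mem_univ i)
    rw [map_sub, map_pow, aeval_X, aeval_C, hβ i, sub_self]
  -- the subfield generated by the roots
  set A : IntermediateField K E := IntermediateField.adjoin K (P.rootSet E) with hAdef
  have hβA : ∀ i, β i ∈ A := fun i => IntermediateField.subset_adjoin K _ (hβroot i)
  have hdvd : ∀ i, r i ∣ Module.finrank K A := by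
    intro i
    obtain ⟨x, y, hxy⟩ := exists_bezout_nat (r i) (b i) (hr i) (hb i) (hrb i)
    set γ : E := β i ^ x * (ϖE ^ y)⁻¹ with hγdef
    have hγA : γ ∈ A :=
      A.mul_mem (pow_mem (hβA i) x) (A.inv_mem (pow_mem (A.algebraMap_mem _) y))
    have hvE : ∀ u : O, algebraMap K E (algebraMap O K u) = algebraMap O E u := fun u =>
      (IsScalarTower.algebraMap_apply O K E u).symm
    have hγpow : γ ^ (r i) = algebraMap K E (algebraMap O K ((v i : O) ^ x * ϖ)) := by
      rw [hγdef, mul_pow, ← pow_mul, mul_comm x (r i), pow_mul, hβ i, inv_pow, ← pow_mul]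
      rw [map_mul, map_mul, map_pow, map_pow, mul_pow, ← pow_mul]
      change (_ * ϖE ^ (b i * x)) * (ϖE ^ (y * r i))⁻¹ = _
      rw [mul_comm (b i) x, hxy, pow_add, pow_one, map_mul, map_mul, map_pow, map_pow]
      change _ = _ * ϖE
      have hne : ϖE ^ (y * r i) ≠ 0 := pow_ne_zero _ hϖE0
      rw [mul_assoc, mul_assoc, mul_inv_cancel₀ hne, mul_one]
    obtain ⟨hdm, hdm2⟩ := neg_unit_mul_notMem_sq O ϖ hϖ ((v i : O) ^ x) ((v i).isUnit.pow x)
    have hGirr := irreducible_X_pow_add_C O K (r i) (hr i) (-((v i : O) ^ x * ϖ)) hdm hdm2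
    have hGmon : (X ^ (r i) + C (algebraMap O K (-((v i : O) ^ x * ϖ))) : K[X]).Monic :=
      monic_X_pow_add_C _ (by have := hr i; omega)
    have haeval : aeval γ (X ^ (r i) + C (algebraMap O K (-((v i : O) ^ x * ϖ))) : K[X]) = 0 := by
      rw [map_add, map_pow, aeval_X, aeval_C, hγpow, map_neg, map_neg, add_neg_cancel]
    have hmin := minpoly.eq_of_irreducible_of_monic hGirr haeval hGmon
    have hint : IsIntegral K γ := IsIntegral.of_finite K γ
    have hfr : Module.finrank K K⟮γ⟯ = r i := by
      rw [IntermediateField.adjoin.finrank hint, ← hmin, natDegree_X_pow_add_C]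
    have hle : K⟮γ⟯ ≤ A := by
      rw [IntermediateField.adjoin_simple_le_iff]
      exact hγA
    rw [← hfr]
    exact IntermediateField.finrank_dvd_of_le_right hle
  have hNA : N ∣ Module.finrank K A := Finset.lcm_dvd (fun i _ => hdvd i)
  have hAN : Module.finrank K A ∣ N := by
    have := IntermediateField.finrank_dvd_of_le_right (le_top : A ≤ ⊤)
    rwa [IntermediateField.finrank_top', hfin] at this
  have hAtop : A = ⊤ := by
    apply IntermediateField.eq_of_le_of_finrank_eq le_top
    rw [IntermediateField.finrank_top', hfin]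
    exact Nat.dvd_antisymm hAN hNA
  -- `E` is a splitting field of `P`
  haveI : IsSplittingField K E P := by
    constructor
    · rw [hPdef, Polynomial.map_prod]
      apply Splits.prod
      intro i _
      rw [Polynomial.map_sub, Polynomial.map_pow, map_X, map_C]
      obtain ⟨ζ, hζi⟩ := hζ i
      exact X_pow_sub_C_splits_of_isPrimitiveRoot hζi (hβ i)
    · rw [← IntermediateField.adjoin_toSubalgebra, ← hAdef, hAtop,
        IntermediateField.top_toSubalgebra]
  let ψ : E ≃ₐ[K] P.SplittingField := IsSplittingField.algEquiv E P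
  rw [← ψ.toLinearEquiv.finrank_eq, hfin]

end Groth.Agent.Helper3.EisenKummer
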