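import Mathlib

/-!
# Ideals of a polynomial ring stable under elementary automorphisms

Helper library for S7451 (helper3).  Let `J` be an ideal of `k[x_1, …, x_n]` stable under the
substitutions `x_i ↦ x_i + x_j ^ d` (`i ≠ j`).  If `J ≠ 0` and `n ≥ 2`, then in characteristic
zero `J` has no minimal primes, and in characteristic `p` every minimal prime `P` over `J`
contains `x_j ^ (p ^ m) - x_j` for suitable `m > 0` (and is therefore maximal).
-/

set_option autoImplicit false
universe u

namespace Groth.Agent.Lib.Helper3.ElemInv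
open MvPolynomial

variable {k : Type u} [Field k] {n : ℕ}

/-- The map freeing the `i`-th coordinate: `x_i ↦ u`, `x_l ↦ (class of x_l)` for `l ≠ i`. -/
noncomputable def phi (P : Ideal (MvPolynomial (Fin n) k)) (i : Fin n) :
    MvPolynomial (Fin n) k →ₐ[k] Polynomial (MvPolynomial (Fin n) k ⧸ P) :=
  aeval (Function.update (fun l => Polynomial.C (Ideal.Quotient.mk P (X l))) i Polynomial.X)

theorem phi_C (P : Ideal (MvPolynomial (Fin n) k)) (i : Fin n) (r : k) :
    phi P i (C r) = Polynomial.C (Ideal.Quotient.mk P (C r)) := by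
  rw [phi, aeval_C, Polynomial.algebraMap_apply]; rfl

theorem eval_phi (P : Ideal (MvPolynomial (Fin n) k)) (i : Fin n) (e F : MvPolynomial (Fin n) k) :
    Polynomial.eval (Ideal.Quotient.mk P e) (phi P i F) =
      Ideal.Quotient.mk P (aeval (R := k) (Function.update X i e) F) := by
  have h : (Polynomial.evalRingHom (Ideal.Quotient.mk P e)).comp (phi P i).toRingHom =
      (Ideal.Quotient.mk P).comp (aeval (R := k) (Function.update X i e)).toRingHom := by
    apply MvPolynomial.ringHom_ext
    · intro r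
      have h2 : aeval (R := k) (Function.update X i e) (C r) = C r := by
        rw [aeval_C]; rfl
      simp only [RingHom.comp_apply, AlgHom.toRingHom_eq_coe, RingHom.coe_coe, phi_C, h2,
        Polynomial.coe_evalRingHom, Polynomial.eval_C]
    · intro l
      by_cases hl : l = i
      · subst hl
        simp [phi]
      · simp [phi, Function.update_of_ne hl]
  exact RingHom.congr_fun h F

theorem phi_eq_zero_of_minimal (J P : Ideal (MvPolynomial (Fin n) k)) (hP : P ∈ J.minimalPrimes)
    (i : Fin n) (h : ℕ → MvPolynomial (Fin n) k)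
    (hstab : ∀ c, ∀ F ∈ J, aeval (R := k) (Function.update X i (X i + h c)) F ∈ P)
    (hinj : Function.Injective fun c => Ideal.Quotient.mk P (h c)) :
    ∀ F ∈ P, phi P i F = 0 := by
  haveI : P.IsPrime := hP.1.1
  have hKprime : (RingHom.ker (phi P i).toRingHom).IsPrime := RingHom.ker_isPrime _
  have hJK : J ≤ RingHom.ker (phi P i).toRingHom := by
    intro F hF
    rw [RingHom.mem_ker]
    show phi P i F = 0
    apply Polynomial.eq_zero_of_infinite_isRoot
    apply Set.infinite_of_injective_forall_mem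
      (f := fun c : ℕ => Ideal.Quotient.mk P (X i + h c))
    · intro c c' hcc
      apply hinj
      simp only [map_add] at hcc
      exact add_left_cancel hcc
    · intro c
      show Polynomial.IsRoot _ _
      rw [Polynomial.IsRoot.def, eval_phi]
      exact Ideal.Quotient.eq_zero_iff_mem.mpr (hstab c F hF)
  have hKP : RingHom.ker (phi P i).toRingHom ≤ P := by
    intro F hF
    rw [RingHom.mem_ker] at hF
    have h1 := eval_phi P i (X i) F
    have h2 : phi P i F = 0 := hF
    rw [h2, Polynomial.eval_zero, Function.update_eq_self, aeval_X_left, AlgHom.id_apply] at h1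
    exact Ideal.Quotient.eq_zero_iff_mem.mp h1.symm
  have hle := hP.2 ⟨hKprime, hJK⟩ hKP
  intro F hF
  exact hle hF

theorem step {E : Type*} [CommSemiring E] [Algebra k E] (P : Ideal (MvPolynomial (Fin n) k))
    (i : Fin n) (hφ : ∀ F ∈ P, phi P i F = 0)
    (b : Fin n → E) (hb : ∀ F ∈ P, aeval (R := k) b F = 0) (e : E) :
    ∀ F ∈ P, aeval (R := k) (Function.update b i e) F = 0 := by
  let ρ : (MvPolynomial (Fin n) k ⧸ P) →ₐ[k] E := Ideal.Quotient.liftₐ P (aeval b) hb
  have hρ : ∀ G, ρ (Ideal.Quotient.mk P G) = aeval (R := k) b G := fun G => rfl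
  have h : (aeval (R := k) (Function.update b i e)).toRingHom =
      (Polynomial.eval₂RingHom ρ.toRingHom e).comp (phi P i).toRingHom := by
    apply MvPolynomial.ringHom_ext
    · intro r
      simp only [RingHom.comp_apply, AlgHom.toRingHom_eq_coe, RingHom.coe_coe, phi_C,
        Polynomial.coe_eval₂RingHom, Polynomial.eval₂_C, aeval_C]
      rw [hρ, aeval_C]
    · intro l
      by_cases hl : l = i
      · subst hl
        simp [phi]
      · simp [phi, Function.update_of_ne hl, hρ]
  intro F hF
  have h2 := RingHom.congr_fun h F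
  simp only [RingHom.comp_apply, AlgHom.toRingHom_eq_coe, RingHom.coe_coe] at h2
  rw [h2, hφ F hF]
  simp

theorem eq_bot_of_phi (P : Ideal (MvPolynomial (Fin n) k)) (hP : P ≠ ⊤)
    (hφ : ∀ i, ∀ F ∈ P, phi P i F = 0) : P = ⊥ := by
  have : Nontrivial (MvPolynomial (Fin n) k ⧸ P) := Ideal.Quotient.nontrivial_iff.mpr hP
  have key : ∀ S : Finset (Fin n), ∀ F ∈ P,
      aeval (R := k) (fun l => if l ∈ S then
        (X l : MvPolynomial (Fin n) (MvPolynomial (Fin n) k ⧸ P))
        else C (Ideal.Quotient.mk P (X l))) F = 0 := by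
    intro S
    induction S using Finset.induction_on with
    | empty =>
      intro F hF
      have h : (aeval (R := k) (fun l : Fin n => (C (Ideal.Quotient.mk P (X l)) :
          MvPolynomial (Fin n) (MvPolynomial (Fin n) k ⧸ P)))).toRingHom =
          (C : _ →+* MvPolynomial (Fin n) (MvPolynomial (Fin n) k ⧸ P)).comp
            (Ideal.Quotient.mk P) := by
        apply MvPolynomial.ringHom_ext
        · intro r
          simp only [RingHom.comp_apply, AlgHom.toRingHom_eq_coe, RingHom.coe_coe, aeval_C,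
            MvPolynomial.algebraMap_apply]
          rfl
        · intro l
          simp
      have h2 := RingHom.congr_fun h F
      simp only [RingHom.comp_apply, AlgHom.toRingHom_eq_coe, RingHom.coe_coe] at h2
      simp only [Finset.notMem_empty, if_false]
      rw [h2, Ideal.Quotient.eq_zero_iff_mem.mpr hF, map_zero]
    | insert i S hi ih =>
      intro F hF
      have h3 := step (E := MvPolynomial (Fin n) (MvPolynomial (Fin n) k ⧸ P)) P i (hφ i) _ ih (X i) F hF
      convert h3 using 2
      congr 1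
      funext l
      by_cases hl : l = i
      · subst hl; simp
      · simp [Function.update_of_ne hl, Finset.mem_insert, hl]
  rw [eq_bot_iff]
  intro F hF
  have h1 := key Finset.univ F hF
  simp only [Finset.mem_univ, if_true] at h1
  have h : (aeval (R := k) (fun l : Fin n =>
      (X l : MvPolynomial (Fin n) (MvPolynomial (Fin n) k ⧸ P)))).toRingHom =
      MvPolynomial.map (algebraMap k (MvPolynomial (Fin n) k ⧸ P)) := by
    apply MvPolynomial.ringHom_ext
    · intro r; simp [MvPolynomial.algebraMap_apply]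
    · intro l; simp
  have h2 := RingHom.congr_fun h F
  simp only [AlgHom.toRingHom_eq_coe, RingHom.coe_coe] at h2
  rw [h2] at h1
  exact MvPolynomial.map_injective _ (algebraMap k (MvPolynomial (Fin n) k ⧸ P)).injective
    (h1.trans (map_zero _).symm)

theorem stab_nat (J : Ideal (MvPolynomial (Fin n) k)) (i j : Fin n)
    (hstab : ∀ F ∈ J, aeval (R := k) (Function.update X i (X i + X j ^ 0)) F ∈ J) :
    ∀ c : ℕ, ∀ F ∈ J, aeval (R := k) (Function.update X i (X i + C (c : k))) F ∈ J := by
  intro c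
  induction c with
  | zero =>
    intro F hF
    simpa [Function.update_eq_self] using hF
  | succ c ih =>
    intro F hF
    have h : aeval (R := k) (Function.update X i (X i + C ((c + 1 : ℕ) : k))) =
        (aeval (R := k) (Function.update X i (X i + C (c : k)))).comp
          (aeval (R := k) (Function.update X i (X i + X j ^ 0))) := by
      apply MvPolynomial.algHom_ext
      intro l
      by_cases hl : l = i
      · subst hl
        simp [add_assoc]
      · simp [Function.update_of_ne hl]
    rw [h]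
    exact ih _ (hstab F hF)

theorem no_minimalPrimes_of_charZero [CharZero k] (hn : 2 ≤ n)
    (J : Ideal (MvPolynomial (Fin n) k))
    (hstab : ∀ i j : Fin n, i ≠ j → ∀ d : ℕ, ∀ F ∈ J,
      aeval (R := k) (Function.update X i (X i + X j ^ d)) F ∈ J)
    (hJ : J ≠ ⊥) (P : Ideal (MvPolynomial (Fin n) k)) (hP : P ∈ J.minimalPrimes) : False := by
  haveI : P.IsPrime := hP.1.1
  haveI : Nontrivial (Fin n) := Fin.nontrivial_iff_two_le.mpr hn
  have hfree : ∀ i, ∀ F ∈ P, phi P i F = 0 := by
    intro i
    obtain ⟨j, hj⟩ := exists_ne i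
    apply phi_eq_zero_of_minimal J P hP i (fun c => C (c : k))
    · intro c F hF
      exact hP.1.2 (stab_nat J i j (hstab i j hj.symm 0) c F hF)
    · intro c c' hcc
      have h1 : algebraMap k (MvPolynomial (Fin n) k ⧸ P) (c : k) =
          algebraMap k (MvPolynomial (Fin n) k ⧸ P) (c' : k) := hcc
      exact Nat.cast_injective ((algebraMap k (MvPolynomial (Fin n) k ⧸ P)).injective h1)
  have h0 := eq_bot_of_phi P (Ideal.IsPrime.ne_top ‹_›) hfree
  apply hJ
  rw [eq_bot_iff, ← h0]
  exact hP.1.2

theorem inj_of_bad (p : ℕ) [Fact p.Prime] [CharP k p] (P : Ideal (MvPolynomial (Fin n) k))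
    [P.IsPrime] (j : Fin n)
    (hbad : ∀ m, 0 < m → (X j ^ (p ^ m) - X j : MvPolynomial (Fin n) k) ∉ P) :
    Function.Injective fun m : ℕ =>
      Ideal.Quotient.mk P ((X j : MvPolynomial (Fin n) k) ^ (p ^ m)) := by
  haveI : CharP (MvPolynomial (Fin n) k ⧸ P) p :=
    charP_of_injective_algebraMap (algebraMap k (MvPolynomial (Fin n) k ⧸ P)).injective p
  have main : ∀ m t : ℕ, Ideal.Quotient.mk P ((X j : MvPolynomial (Fin n) k) ^ (p ^ m)) ≠
      Ideal.Quotient.mk P (X j ^ (p ^ (m + t + 1))) := by
    intro m t heq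
    apply hbad (t + 1) (Nat.succ_pos t)
    rw [← Ideal.Quotient.eq_zero_iff_mem]
    obtain ⟨a, ha⟩ : ∃ a, a = Ideal.Quotient.mk P (X j : MvPolynomial (Fin n) k) := ⟨_, rfl⟩
    simp only [map_pow, map_sub, ← ha] at heq ⊢
    have h1 : (a ^ (p ^ (t + 1)) - a) ^ (p ^ m) = 0 := by
      rw [sub_pow_char_pow, ← pow_mul, ← pow_add, add_comm (t + 1) m, ← add_assoc, ← heq,
        sub_self]
    exact (pow_eq_zero_iff (pow_ne_zero m (Fact.out : p.Prime).ne_zero)).mp h1
  intro m m' hmm
  by_contra hne
  rcases Nat.lt_or_gt_of_ne hne with hlt | hgt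
  · obtain ⟨t, rfl⟩ := Nat.exists_eq_add_of_lt hlt
    exact main m t hmm
  · obtain ⟨t, rfl⟩ := Nat.exists_eq_add_of_lt hgt
    exact main m' t hmm.symm

theorem free_of_bad (p : ℕ) [Fact p.Prime] [CharP k p] (J P : Ideal (MvPolynomial (Fin n) k))
    (hstab : ∀ i j : Fin n, i ≠ j → ∀ d : ℕ, ∀ F ∈ J,
      aeval (R := k) (Function.update X i (X i + X j ^ d)) F ∈ J)
    (hP : P ∈ J.minimalPrimes) (i j : Fin n) (hij : i ≠ j)
    (hbad : ∀ m, 0 < m → (X j ^ (p ^ m) - X j : MvPolynomial (Fin n) k) ∉ P) :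
    ∀ F ∈ P, phi P i F = 0 := by
  haveI : P.IsPrime := hP.1.1
  apply phi_eq_zero_of_minimal J P hP i (fun m => X j ^ (p ^ m))
  · intro c F hF
    exact hP.1.2 (hstab i j hij (p ^ c) F hF)
  · exact inj_of_bad p P j hbad

theorem bad_of_free (p : ℕ) (hp : 1 < p) (P : Ideal (MvPolynomial (Fin n) k)) (hPtop : P ≠ ⊤)
    (i : Fin n) (hfree : ∀ F ∈ P, phi P i F = 0) :
    ∀ m, 0 < m → (X i ^ (p ^ m) - X i : MvPolynomial (Fin n) k) ∉ P := by
  intro m hm hmem
  have : Nontrivial (MvPolynomial (Fin n) k ⧸ P) := Ideal.Quotient.nontrivial_iff.mpr hPtop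
  have h := hfree _ hmem
  have h1 : phi P i (X i) = Polynomial.X := by simp [phi]
  rw [map_sub, map_pow, h1, sub_eq_zero] at h
  have h2 := congrArg Polynomial.natDegree h
  rw [Polynomial.natDegree_X_pow, Polynomial.natDegree_X] at h2
  have h3 : 1 < p ^ m := Nat.one_lt_pow hm.ne' hp
  omega

theorem alg_of_minimal (p : ℕ) [Fact p.Prime] [CharP k p] (hn : 2 ≤ n)
    (J : Ideal (MvPolynomial (Fin n) k))
    (hstab : ∀ i j : Fin n, i ≠ j → ∀ d : ℕ, ∀ F ∈ J,
      aeval (R := k) (Function.update X i (X i + X j ^ d)) F ∈ J)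
    (hJ : J ≠ ⊥) (P : Ideal (MvPolynomial (Fin n) k)) (hP : P ∈ J.minimalPrimes) (j : Fin n) :
    ∃ m, 0 < m ∧ (X j ^ (p ^ m) - X j : MvPolynomial (Fin n) k) ∈ P := by
  by_contra hcon
  push_neg at hcon
  haveI : P.IsPrime := hP.1.1
  have hPtop : P ≠ ⊤ := Ideal.IsPrime.ne_top ‹_›
  haveI : Nontrivial (Fin n) := Fin.nontrivial_iff_two_le.mpr hn
  obtain ⟨i, hi⟩ := exists_ne j
  have hfree_i := free_of_bad p J P hstab hP i j hi hcon
  have hbad_i := bad_of_free p (Fact.out : p.Prime).one_lt P hPtop i hfree_i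
  have hfree : ∀ l, ∀ F ∈ P, phi P l F = 0 := by
    intro l
    by_cases hl : l = j
    · subst hl
      exact free_of_bad p J P hstab hP l i hi.symm hbad_i
    · exact free_of_bad p J P hstab hP l j hl hcon
  have h0 := eq_bot_of_phi P hPtop hfree
  apply hJ
  rw [eq_bot_iff, ← h0]
  exact hP.1.2

theorem isMaximal_of_alg (p : ℕ) (hp : 1 < p) (P : Ideal (MvPolynomial (Fin n) k)) [P.IsPrime]
    (h : ∀ j : Fin n, ∃ m, 0 < m ∧ (X j ^ (p ^ m) - X j : MvPolynomial (Fin n) k) ∈ P) :
    P.IsMaximal := by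
  have hX : ∀ j : Fin n,
      IsIntegral k (Ideal.Quotient.mk P (X j : MvPolynomial (Fin n) k)) := by
    intro j
    obtain ⟨m, hm, hmem⟩ := h j
    have h1 : 1 < p ^ m := Nat.one_lt_pow hm.ne' hp
    refine ⟨Polynomial.X ^ (p ^ m) - Polynomial.X, Polynomial.monic_X_pow_sub ?_, ?_⟩
    · rw [Polynomial.degree_X]; exact_mod_cast h1
    · rw [Polynomial.eval₂_sub, Polynomial.eval₂_pow, Polynomial.eval₂_X, ← map_pow, ← map_sub]
      exact Ideal.Quotient.eq_zero_iff_mem.mpr hmem
  have hall : ∀ d : MvPolynomial (Fin n) k ⧸ P, IsIntegral k d := by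
    intro d
    obtain ⟨F, rfl⟩ := Ideal.Quotient.mk_surjective d
    induction F using MvPolynomial.induction_on with
    | C a =>
      exact isIntegral_algebraMap (R := k) (A := MvPolynomial (Fin n) k ⧸ P) (x := a)
    | add p q hp hq => rw [map_add]; exact hp.add hq
    | mul_X p i hp => rw [map_mul]; exact hp.mul (hX i)
  haveI : Algebra.IsIntegral k (MvPolynomial (Fin n) k ⧸ P) := ⟨hall⟩
  exact Ideal.Quotient.maximal_of_isField P
    (isField_of_isIntegral_of_isField' (Field.toIsField k))

end Groth.Agent.Lib.Helper3.ElemInv
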