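import Mathlib
import Groth.Prelude.Def_SiteCmp

/-!
# The direct image `ε_*` of modules along the comparison morphism of two topologies is fully
faithful
-/

set_option autoImplicit false
universe u

open CategoryTheory Limits Opposite

namespace Groth.Agent.Helper3.EpsFF

variable {C : Type u} [SmallCategory C] {J J' : GrothendieckTopology C} (h : J' ≤ J)
  (O : Sheaf J CommRingCat.{u})

/-- `ε_*` does not change the underlying presheaf of modules -/
noncomputable def pushForgetIso :
    (SiteCmp.eps h O).push ⋙ SheafOfModules.forget (ModSite.ringSh (SiteCmp.epsRing h O)) ≅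
      SheafOfModules.forget (ModSite.ringSh O) :=
  Functor.isoWhiskerLeft (SheafOfModules.forget _)
    (PresheafOfModules.pushforwardId.{u} (ModSite.ringSh O).obj) ≪≫ Functor.rightUnitor _

/-- `ε_*` is fully faithful -/
noncomputable def fullyFaithfulPush : (SiteCmp.eps h O).push.FullyFaithful :=
  Functor.FullyFaithful.ofCompFaithful
    (G := SheafOfModules.forget (ModSite.ringSh (SiteCmp.epsRing h O)))
    ((SheafOfModules.fullyFaithfulForget (ModSite.ringSh O)).ofIso (pushForgetIso h O).symm)

instance : (SiteCmp.eps h O).push.Full := (fullyFaithfulPush h O).full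

instance : (SiteCmp.eps h O).push.Faithful := (fullyFaithfulPush h O).faithful

/-- the counit `ε^* ε_* F ⟶ F` is an isomorphism -/
instance isIso_counit_app (F : ModSite.Mod O) : IsIso ((SiteCmp.eps h O).adj.counit.app F) :=
  inferInstance

lemma fn_obj (U : C) : (SiteCmp.eps h O).fn.obj U = U := rfl

end Groth.Agent.Helper3.EpsFF
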