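import Mathlib
import Groth.Agent.Lib.Helper3.ColimFlat8

/-! Descent of a finitely presented module along a localization, and a local localization is the
localization at the contracted maximal ideal. -/

set_option autoImplicit false
universe u
namespace Groth.Agent.Helper3.UInj

open TensorProduct

section Model

variable {S₀ S : Type u} [CommRing S₀] [CommRing S] [Algebra S₀ S] (Mon : Submonoid S₀)
  [IsLocalization Mon S]
  (N : Type u) [AddCommGroup N] [Module S N] [Module S₀ N] [IsScalarTower S₀ S N]
  [Module.FinitePresentation S N]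

include Mon in
/-- a finitely presented module over a localization descends -/
theorem exists_fp_model :
    ∃ (N₀ : Type u) (_ : AddCommGroup N₀) (_ : Module S₀ N₀)
      (_ : Module.FinitePresentation S₀ N₀) (ι : N₀ →ₗ[S₀] N), IsBaseChange S ι := by
  classical
  obtain ⟨n, m, f, g, hf, hfg⟩ := Module.FinitePresentation.exists_fin' S N
  obtain ⟨d, hd⟩ := IsLocalization.exist_integer_multiples_of_finite Mon
    (fun uv : Fin m × Fin n => g (Pi.single uv.1 1) uv.2)
  choose a ha using hd
  have hu : IsUnit (algebraMap S₀ S d) := IsLocalization.map_units S d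
  obtain ⟨w, hw⟩ := hu.exists_right_inv
  let g' : (Fin m → S) →ₗ[S] (Fin n → S) := (algebraMap S₀ S d) • g
  have hfg' : Function.Exact g' f := by
    intro y
    rw [hfg y]
    constructor
    · rintro ⟨x, rfl⟩
      refine ⟨w • x, ?_⟩
      show (algebraMap S₀ S d) • g (w • x) = g x
      rw [map_smul, smul_smul, hw, one_smul]
    · rintro ⟨x, rfl⟩
      refine ⟨(algebraMap S₀ S d) • x, ?_⟩
      show g ((algebraMap S₀ S d) • x) = (algebraMap S₀ S d) • g x
      rw [map_smul]
  let Φ₀ : Fin m → Fin n → S₀ := fun u v => a (u, v)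
  have hΦ : ∀ u v, algebraMap S₀ S (Φ₀ u v) = g' (Pi.single u 1) v := by
    intro u v
    have := ha (u, v)
    show algebraMap S₀ S (a (u, v)) = (algebraMap S₀ S d) * g (Pi.single u 1) v
    rw [this, Algebra.smul_def]
  obtain ⟨h₃, hh₃⟩ := ColimFlat.exists_isBaseChange_coker Φ₀ g' f hf hfg' hΦ
  have hfp : Module.FinitePresentation S₀ ((Fin n → S₀) ⧸ LinearMap.range (ColimFlat.colMap Φ₀)) :=
    Module.finitePresentation_of_surjective (LinearMap.range (ColimFlat.colMap Φ₀)).mkQ
      (Submodule.mkQ_surjective (LinearMap.range (ColimFlat.colMap Φ₀))) (by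
        rw [Submodule.ker_mkQ, LinearMap.range_eq_map]
        exact Submodule.FG.map _ Module.Finite.fg_top)
  exact ⟨_, inferInstance, inferInstance, hfp, h₃, hh₃⟩

end Model

section AtPrime

variable {S₀ S : Type u} [CommRing S₀] [CommRing S] [Algebra S₀ S] (Mon : Submonoid S₀)
  [IsLocalization Mon S] [IsLocalRing S]

include Mon in
/-- a localization which is a local ring is the localization at the contraction of the maximal
ideal -/
theorem isLocalization_atPrime :
    IsLocalization.AtPrime S ((IsLocalRing.maximalIdeal S).comap (algebraMap S₀ S)) := by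
  refine IsLocalization.isLocalization_of_is_exists_mul_mem S Mon _ ?_ ?_
  · intro x hx hmem
    exact (IsLocalRing.mem_maximalIdeal _).1 hmem (IsLocalization.map_units S ⟨x, hx⟩)
  · rintro ⟨x, hx⟩
    have hu : IsUnit (algebraMap S₀ S x) := by
      by_contra h
      exact hx ((IsLocalRing.mem_maximalIdeal _).2 h)
    obtain ⟨y, hy⟩ := hu.exists_right_inv
    obtain ⟨a, d, rfl⟩ := IsLocalization.exists_mk'_eq Mon y
    rw [IsLocalization.mul_mk'_eq_mk'_of_mul, IsLocalization.mk'_eq_iff_eq_mul, one_mul] at hy
    obtain ⟨c, hc⟩ := (IsLocalization.eq_iff_exists Mon S).1 hy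
    refine ⟨c * a, ?_⟩
    have : (c : S₀) * a * x = c * d := by
      rw [← hc]
      ring
    show (c : S₀) * a * x ∈ Mon
    rw [this]
    exact Mon.mul_mem c.2 d.2

end AtPrime

end Groth.Agent.Helper3.UInj
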