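import Mathlib
import Groth.Agent.Lib.Helper3.UInj1

/-! A chart for a map from a finitely presented algebra to an essentially finitely presented
algebra: the target is a localization of a finitely presented algebra over the source. -/

set_option autoImplicit false
universe u
namespace Groth.Agent.Helper3.EssFP

open TensorProduct

section Chart

variable {R B C₀ S' : Type u} [CommRing R] [CommRing B] [CommRing C₀] [CommRing S']
  [Algebra R B] [Algebra R C₀] [Algebra R S'] [Algebra C₀ S'] [IsScalarTower R C₀ S']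
  (Mon : Submonoid C₀) [IsLocalization Mon S'] (φ : B →ₐ[R] S')

/-- the product map `B ⊗ C₀ → S'` -/
noncomputable def psi : B ⊗[R] C₀ →ₐ[R] S' :=
  Algebra.TensorProduct.productMap φ (IsScalarTower.toAlgHom R C₀ S')

theorem psi_tmul (b : B) (c : C₀) : psi φ (b ⊗ₜ[R] c) = φ b * algebraMap C₀ S' c := by
  simp [psi]

/-- the relation ideal -/
noncomputable def relIdeal (s : Finset B) (g : C₀) (c : B → C₀) : Ideal (B ⊗[R] C₀) :=
  Ideal.span ((fun b => b ⊗ₜ[R] g - (1 : B) ⊗ₜ[R] c b) '' (s : Set B))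

theorem relIdeal_fg (s : Finset B) (g : C₀) (c : B → C₀) : (relIdeal (R := R) s g c).FG := by
  classical
  refine ⟨s.image (fun b => b ⊗ₜ[R] g - (1 : B) ⊗ₜ[R] c b), ?_⟩
  rw [Finset.coe_image]
  rfl

theorem relIdeal_le_ker (s : Finset B) (g : C₀) (c : B → C₀)
    (hc : ∀ b ∈ s, algebraMap C₀ S' (c b) = algebraMap C₀ S' g * φ b) :
    relIdeal (R := R) s g c ≤ RingHom.ker (psi φ) := by
  refine Ideal.span_le.mpr ?_
  rintro _ ⟨b, hb, rfl⟩
  rw [SetLike.mem_coe, RingHom.mem_ker, map_sub, psi_tmul, psi_tmul, map_one, one_mul, hc b hb,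
    mul_comm, sub_self]

/-- every element of `B` becomes, after multiplying by a power of `g`, a constant modulo the
relation ideal -/
theorem exists_pow_tmul (s : Finset B) (hs : Algebra.adjoin R (s : Set B) = ⊤) (g : C₀)
    (c : B → C₀) (b : B) :
    ∃ (k : ℕ) (c' : C₀), Ideal.Quotient.mk (relIdeal (R := R) s g c) (b ⊗ₜ[R] (g ^ k)) =
      Ideal.Quotient.mk (relIdeal (R := R) s g c) ((1 : B) ⊗ₜ[R] c') := by
  have hb : b ∈ Algebra.adjoin R (s : Set B) := by rw [hs]; trivial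
  induction hb using Algebra.adjoin_induction with
  | mem x hx =>
    refine ⟨1, c x, ?_⟩
    rw [pow_one, ← sub_eq_zero, ← map_sub, Ideal.Quotient.eq_zero_iff_mem]
    exact Ideal.subset_span ⟨x, hx, rfl⟩
  | algebraMap r =>
    refine ⟨0, algebraMap R C₀ r, ?_⟩
    rw [pow_zero, Algebra.algebraMap_eq_smul_one, Algebra.algebraMap_eq_smul_one,
      TensorProduct.smul_tmul]
  | add x y _ _ hx hy =>
    obtain ⟨k₁, c₁, h₁⟩ := hx
    obtain ⟨k₂, c₂, h₂⟩ := hy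
    refine ⟨k₁ + k₂, c₁ * g ^ k₂ + c₂ * g ^ k₁, ?_⟩
    have e1 : (x + y) ⊗ₜ[R] (g ^ (k₁ + k₂)) =
        x ⊗ₜ[R] (g ^ k₁) * (1 : B) ⊗ₜ[R] (g ^ k₂) + y ⊗ₜ[R] (g ^ k₂) * (1 : B) ⊗ₜ[R] (g ^ k₁) := by
      rw [Algebra.TensorProduct.tmul_mul_tmul, Algebra.TensorProduct.tmul_mul_tmul, mul_one,
        mul_one, TensorProduct.add_tmul, pow_add, mul_comm (g ^ k₂) (g ^ k₁)]
    have e2 : (1 : B) ⊗ₜ[R] (c₁ * g ^ k₂ + c₂ * g ^ k₁) =
        (1 : B) ⊗ₜ[R] c₁ * (1 : B) ⊗ₜ[R] (g ^ k₂) + (1 : B) ⊗ₜ[R] c₂ * (1 : B) ⊗ₜ[R] (g ^ k₁) := by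
      rw [Algebra.TensorProduct.tmul_mul_tmul, Algebra.TensorProduct.tmul_mul_tmul, mul_one,
        TensorProduct.tmul_add]
    rw [e1, e2, map_add, map_add, map_mul, map_mul, map_mul, map_mul, h₁, h₂]
  | mul x y _ _ hx hy =>
    obtain ⟨k₁, c₁, h₁⟩ := hx
    obtain ⟨k₂, c₂, h₂⟩ := hy
    refine ⟨k₁ + k₂, c₁ * c₂, ?_⟩
    have e1 : (x * y) ⊗ₜ[R] (g ^ (k₁ + k₂)) = x ⊗ₜ[R] (g ^ k₁) * y ⊗ₜ[R] (g ^ k₂) := by
      rw [Algebra.TensorProduct.tmul_mul_tmul, pow_add]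
    have e2 : (1 : B) ⊗ₜ[R] (c₁ * c₂) = (1 : B) ⊗ₜ[R] c₁ * (1 : B) ⊗ₜ[R] c₂ := by
      rw [Algebra.TensorProduct.tmul_mul_tmul, mul_one]
    rw [e1, e2, map_mul, map_mul, h₁, h₂]

theorem exists_pow_mul (s : Finset B) (hs : Algebra.adjoin R (s : Set B) = ⊤) (g : C₀)
    (c : B → C₀) (t : B ⊗[R] C₀) :
    ∃ (k : ℕ) (c' : C₀), Ideal.Quotient.mk (relIdeal (R := R) s g c) ((1 : B) ⊗ₜ[R] (g ^ k) * t) =
      Ideal.Quotient.mk (relIdeal (R := R) s g c) ((1 : B) ⊗ₜ[R] c') := by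
  induction t using TensorProduct.induction_on with
  | zero => exact ⟨0, 0, by rw [mul_zero, TensorProduct.tmul_zero]⟩
  | tmul b c₀ =>
    obtain ⟨k, c', h⟩ := exists_pow_tmul s hs g c b
    refine ⟨k, c' * c₀, ?_⟩
    have e1 : (1 : B) ⊗ₜ[R] (g ^ k) * b ⊗ₜ[R] c₀ = b ⊗ₜ[R] (g ^ k) * (1 : B) ⊗ₜ[R] c₀ := by
      rw [Algebra.TensorProduct.tmul_mul_tmul, Algebra.TensorProduct.tmul_mul_tmul, one_mul,
        mul_one]
    have e2 : (1 : B) ⊗ₜ[R] (c' * c₀) = (1 : B) ⊗ₜ[R] c' * (1 : B) ⊗ₜ[R] c₀ := by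
      rw [Algebra.TensorProduct.tmul_mul_tmul, mul_one]
    rw [e1, e2, map_mul, map_mul, h]
  | add x y hx hy =>
    obtain ⟨k₁, c₁, h₁⟩ := hx
    obtain ⟨k₂, c₂, h₂⟩ := hy
    refine ⟨k₁ + k₂, g ^ k₂ * c₁ + g ^ k₁ * c₂, ?_⟩
    have e1 : (1 : B) ⊗ₜ[R] (g ^ (k₁ + k₂)) * (x + y) =
        (1 : B) ⊗ₜ[R] (g ^ k₂) * ((1 : B) ⊗ₜ[R] (g ^ k₁) * x) +
          (1 : B) ⊗ₜ[R] (g ^ k₁) * ((1 : B) ⊗ₜ[R] (g ^ k₂) * y) := by
      rw [← mul_assoc, ← mul_assoc, Algebra.TensorProduct.tmul_mul_tmul,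
        Algebra.TensorProduct.tmul_mul_tmul, mul_one, ← pow_add, ← pow_add, add_comm k₂ k₁,
        mul_add]
    have e2 : (1 : B) ⊗ₜ[R] (g ^ k₂ * c₁ + g ^ k₁ * c₂) =
        (1 : B) ⊗ₜ[R] (g ^ k₂) * (1 : B) ⊗ₜ[R] c₁ + (1 : B) ⊗ₜ[R] (g ^ k₁) * (1 : B) ⊗ₜ[R] c₂ := by
      rw [Algebra.TensorProduct.tmul_mul_tmul, Algebra.TensorProduct.tmul_mul_tmul, mul_one,
        TensorProduct.tmul_add]
    rw [e1, e2, map_add, map_add]
    congr 1
    · rw [map_mul, h₁, ← map_mul]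
    · rw [map_mul, h₂, ← map_mul]

include Mon in
/-- the chart: `S'` is a localization of a finitely presented `R`-algebra which receives a map
from `B` inducing `φ` -/
theorem exists_chart [Algebra.FinitePresentation R B] [Algebra.FinitePresentation R C₀] :
    ∃ (C : Type u) (_ : CommRing C) (_ : Algebra R C) (_ : Algebra B C) (_ : IsScalarTower R B C)
      (_ : Algebra C S') (MonC : Submonoid C), Algebra.FinitePresentation R C ∧
        IsLocalization MonC S' ∧ (∀ b, algebraMap C S' (algebraMap B C b) = φ b) ∧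
        (∀ r, algebraMap C S' (algebraMap R C r) = algebraMap R S' r) := by
  classical
  obtain ⟨s, hs⟩ := (Algebra.FiniteType.out : (⊤ : Subalgebra R B).FG)
  obtain ⟨g, hg⟩ := IsLocalization.exist_integer_multiples_of_finset Mon (s.image φ)
  have hc0 : ∀ b : B, ∃ c : C₀, b ∈ s → algebraMap C₀ S' c = algebraMap C₀ S' g * φ b := by
    intro b
    by_cases hb : b ∈ s
    · obtain ⟨c, hc⟩ := hg (φ b) (Finset.mem_image_of_mem _ hb)
      exact ⟨c, fun _ => by rw [hc, Algebra.smul_def]⟩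
    · exact ⟨0, fun h => absurd h hb⟩
  choose c hc using hc0
  set J := relIdeal (R := R) s (g : C₀) c with hJ
  have hJker : J ≤ RingHom.ker (psi φ) := relIdeal_le_ker φ s (g : C₀) c hc
  haveI : Algebra.FinitePresentation R (B ⊗[R] C₀) :=
    Algebra.FinitePresentation.trans R B (B ⊗[R] C₀)
  haveI : Algebra.FinitePresentation R ((B ⊗[R] C₀) ⧸ J) :=
    Algebra.FinitePresentation.quotient (relIdeal_fg s (g : C₀) c)
  let ψ' : (B ⊗[R] C₀) ⧸ J →ₐ[R] S' := Ideal.Quotient.liftₐ J (psi φ) (fun a ha => hJker ha)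
  letI : Algebra ((B ⊗[R] C₀) ⧸ J) S' := ψ'.toRingHom.toAlgebra
  have hmk : ∀ t : B ⊗[R] C₀, algebraMap ((B ⊗[R] C₀) ⧸ J) S' (Ideal.Quotient.mk J t) =
      psi φ t := fun t => rfl
  let ι : C₀ →* (B ⊗[R] C₀) ⧸ J :=
    ((Ideal.Quotient.mk J).comp (Algebra.TensorProduct.includeRight (R := R) (A := B)
      (B := C₀)).toRingHom).toMonoidHom
  have hι : ∀ x : C₀, ι x = Ideal.Quotient.mk J ((1 : B) ⊗ₜ[R] x) := fun x => rfl
  refine ⟨(B ⊗[R] C₀) ⧸ J, inferInstance, inferInstance, inferInstance, inferInstance,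
    inferInstance, Mon.map ι, inferInstance, ?_, ?_, ?_⟩
  · rw [isLocalization_iff]
    refine ⟨?_, ?_, ?_⟩
    · rintro ⟨_, m, hm, rfl⟩
      show IsUnit (algebraMap ((B ⊗[R] C₀) ⧸ J) S' (ι m))
      rw [hι, hmk, psi_tmul, map_one, one_mul]
      exact IsLocalization.map_units S' (⟨m, hm⟩ : Mon)
    · intro z
      obtain ⟨⟨x, m⟩, hxm⟩ := IsLocalization.surj Mon z
      refine ⟨⟨ι x, ⟨ι m, ⟨m, m.2, rfl⟩⟩⟩, ?_⟩
      show z * algebraMap ((B ⊗[R] C₀) ⧸ J) S' (ι m) = algebraMap ((B ⊗[R] C₀) ⧸ J) S' (ι x)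
      rw [hι, hι, hmk, hmk, psi_tmul, psi_tmul, map_one, one_mul, one_mul]
      exact hxm
    · intro x y hxy
      obtain ⟨t, ht⟩ := Ideal.Quotient.mk_surjective (x - y)
      have h0 : psi φ t = 0 := by
        rw [← hmk, ht, map_sub, hxy, sub_self]
      obtain ⟨k, c', hk⟩ := exists_pow_mul s hs (g : C₀) c t
      have h1 : algebraMap C₀ S' c' = 0 := by
        have := congrArg (algebraMap ((B ⊗[R] C₀) ⧸ J) S') hk
        rw [hmk, hmk, map_mul, h0, mul_zero, psi_tmul, map_one, one_mul] at this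
        exact this.symm
      obtain ⟨m, hm⟩ := (IsLocalization.map_eq_zero_iff Mon S' c').mp h1
      refine ⟨⟨ι (m * g ^ k), ⟨m * g ^ k, (m * g ^ k).2, rfl⟩⟩, ?_⟩
      show ι ((m * g ^ k : Mon) : C₀) * x = ι ((m * g ^ k : Mon) : C₀) * y
      rw [← sub_eq_zero, ← mul_sub, ← ht, hι, ← map_mul]
      have e1 : (1 : B) ⊗ₜ[R] ((m * g ^ k : Mon) : C₀) * t =
          (1 : B) ⊗ₜ[R] (m : C₀) * ((1 : B) ⊗ₜ[R] ((g : C₀) ^ k) * t) := by
        rw [← mul_assoc, Algebra.TensorProduct.tmul_mul_tmul, mul_one]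
        rfl
      rw [e1, map_mul, hk, ← map_mul, Algebra.TensorProduct.tmul_mul_tmul, mul_one, hm,
        TensorProduct.tmul_zero, map_zero]
  · intro b
    show algebraMap ((B ⊗[R] C₀) ⧸ J) S' (Ideal.Quotient.mk J (b ⊗ₜ[R] (1 : C₀))) = φ b
    rw [hmk, psi_tmul, map_one, mul_one]
  · intro r
    exact ψ'.commutes r

end Chart

end Groth.Agent.Helper3.EssFP
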