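import Mathlib
import Groth.Prelude.Def_CAlgX
import Groth.Agent.Lib.Lead.CritFib14
import Groth.Agent.Lib.Helper3.UInj1
import Groth.Agent.Lib.Helper3.EssFP1
import Groth.Agent.Lib.Helper1.LocalCrit

/-! The fibre criterion of flatness for local rings essentially of finite presentation. -/

set_option autoImplicit false
set_option linter.style.haveILetI false
universe u
namespace Groth.Agent.Helper3.EssFP

open TensorProduct IsLocalRing

theorem S2106_main {R S S' M : Type u} [CommRing R] [CommRing S] [CommRing S']
    [IsLocalRing R] [IsLocalRing S] [IsLocalRing S'] [Algebra R S] [Algebra S S'] [Algebra R S']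
    [IsScalarTower R S S']
    [IsLocalHom (algebraMap R S)] [IsLocalHom (algebraMap S S')]
    (hS : CAlgX.IsEssFinitePresentation R S) (hS' : CAlgX.IsEssFinitePresentation R S')
    [AddCommGroup M] [Module S' M] [Module S M] [Module R M] [IsScalarTower S S' M]
    [IsScalarTower R S' M]
    [IsScalarTower R S M] [Module.FinitePresentation S' M] [Nontrivial M] [Module.Flat R M]
    (hfib : Module.Flat (S ⧸ (IsLocalRing.maximalIdeal R).map (algebraMap R S))
      (M ⧸ (IsLocalRing.maximalIdeal R).map (algebraMap R S) • (⊤ : Submodule S M))) :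
    Module.Flat R S ∧ Module.Flat S M := by
  obtain ⟨S₀, _, _, _, _, Mon, hfpS₀, hlocS⟩ := hS
  obtain ⟨C₀, _, _, _, _, Mon', hfpC₀, hlocC⟩ := hS'
  haveI := hfpS₀
  haveI := hfpC₀
  haveI := hlocS
  haveI := hlocC
  let φ : S₀ →ₐ[R] S' := (IsScalarTower.toAlgHom R S S').comp (IsScalarTower.toAlgHom R S₀ S)
  obtain ⟨C, _, _, _, _, _, MonC, hfpC, hlocC', hφ, hR⟩ := exists_chart Mon' φ
  haveI := hfpC
  haveI := hlocC'
  haveI hp' : IsLocalization.AtPrime S ((maximalIdeal S).comap (algebraMap S₀ S)) :=
    UInj.isLocalization_atPrime Mon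
  haveI hq : IsLocalization.AtPrime S' ((maximalIdeal S').comap (algebraMap C S')) :=
    UInj.isLocalization_atPrime MonC
  letI : Module C M := Module.compHom M (algebraMap C S')
  haveI : IsScalarTower C S' M := IsScalarTower.of_compHom C S' M
  letI : Module S₀ M := Module.compHom M (algebraMap S₀ S)
  haveI : IsScalarTower S₀ S M := IsScalarTower.of_compHom S₀ S M
  have hS₀ : ∀ (b : S₀) (m : M), b • m = φ b • m := by
    intro b m
    show algebraMap S₀ S b • m = algebraMap S S' (algebraMap S₀ S b) • m
    exact (algebraMap_smul S' (algebraMap S₀ S b) m).symm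
  have hC : ∀ (c : C) (m : M), c • m = algebraMap C S' c • m := fun c m => rfl
  haveI : IsScalarTower S₀ C M := ⟨fun b c m => by
    rw [hC, hS₀, hC, Algebra.smul_def, map_mul, hφ, mul_smul]⟩
  haveI : IsScalarTower R C M := ⟨fun r c m => by
    rw [hC, hC, Algebra.smul_def, map_mul, hR, mul_smul, algebraMap_smul]⟩
  obtain ⟨M₀, _, _, _, ι, hι⟩ := UInj.exists_fp_model (S₀ := C) (S := S')
    ((maximalIdeal S').comap (algebraMap C S')).primeCompl M
  haveI : IsLocalizedModule ((maximalIdeal S').comap (algebraMap C S')).primeCompl ι :=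
    (isLocalizedModule_iff_isBaseChange _ S' ι).mpr hι
  have hloc : IsLocalHom (algebraMap R S') := by
    rw [IsScalarTower.algebraMap_eq R S S']
    exact RingHom.isLocalHom_comp _ _
  haveI : ((maximalIdeal S').comap (algebraMap C S')).LiesOver (maximalIdeal R) := ⟨by
    rw [Ideal.under, Ideal.comap_comap]
    have : (algebraMap C S').comp (algebraMap R C) = algebraMap R S' := RingHom.ext hR
    rw [this]
    have h04 : (maximalIdeal S').comap (algebraMap R S') = maximalIdeal R :=
      ((local_hom_TFAE (algebraMap R S')).out 0 4).mp hloc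
    exact h04.symm⟩
  have h𝔪 : (maximalIdeal R).map (algebraMap R S) =
      ((maximalIdeal R).map (algebraMap R S₀)).map (algebraMap S₀ S) := by
    rw [Ideal.map_map, ← IsScalarTower.algebraMap_eq]
  have hflat : Module.Flat S M :=
    Groth.Agent.Lead.CritFib.critere_stalk R S₀ C M₀ (maximalIdeal R)
      ((maximalIdeal S).comap (algebraMap S₀ S)) ((maximalIdeal S').comap (algebraMap C S'))
      M ι S _ h𝔪 inferInstance hfib
  haveI := hflat
  haveI : Module.FaithfullyFlat S M :=
    Groth.Agent.Helper1.LocalCrit.faithfullyFlat_of_flat_of_finite_of_isLocalHom (S' := S') M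
  exact ⟨Groth.Agent.Helper1.LocalCrit.flat_of_faithfullyFlat_of_flat M, hflat⟩

end Groth.Agent.Helper3.EssFP
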