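import Mathlib
import Groth.Agent.S2009

universe u
open TensorProduct

namespace Groth.Agent.Helper3.EtGl

section
variable {R S : Type u} [CommRing R] [CommRing S] [Algebra R S]

/-- For an `S`-module `Q` with `Q → S ⊗ Q` bijective, the multiplication map `S ⊗ Q → Q` is
injective. -/
theorem mulT_injective {Q : Type u} [AddCommGroup Q] [Module R Q] [Module S Q]
    [IsScalarTower R S Q] (hT : Function.Bijective (TensorProduct.mk R S Q 1)) :
    Function.Injective ((LinearMap.id : Q →ₗ[R] Q).liftBaseChange S) := by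
  intro z z' h
  obtain ⟨x, rfl⟩ := hT.2 z
  obtain ⟨x', rfl⟩ := hT.2 z'
  simp only [TensorProduct.mk_apply, LinearMap.liftBaseChange_tmul, LinearMap.id_apply,
    one_smul] at h
  rw [h]

/-- Descent of a map with torsion kernel and cokernel (pullback construction). -/
theorem descent [Module.Flat R S] (I : Ideal R)
    (hT : ∀ (T : Type u) [AddCommGroup T] [Module R T],
      (∀ x : T, ∃ n : ℕ, ∀ a ∈ I ^ n, a • x = 0) →
        Function.Bijective (TensorProduct.mk R S T 1))
    (N : Type u) [AddCommGroup N] [Module R N] (M' : Type u) [AddCommGroup M'] [Module S M']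
    [Module R M'] [IsScalarTower R S M'] (φ : M' →ₗ[S] S ⊗[R] N)
    (hker : ∀ x : M', φ x = 0 → ∃ n : ℕ, ∀ a ∈ I ^ n, a • x = 0)
    (hcoker : ∀ y : S ⊗[R] N, ∃ n : ℕ, ∀ a ∈ I ^ n, a • y ∈ LinearMap.range φ) :
    ∃ (M : Type u) (_ : AddCommGroup M) (_ : Module R M) (ψ : M →ₗ[R] N)
      (e : S ⊗[R] M ≃ₗ[S] M'), φ ∘ₗ e.toLinearMap = ψ.baseChange S := by
  classical
  let φR : M' →ₗ[R] S ⊗[R] N := φ.restrictScalars R
  let P : Submodule R (M' × N) :=
    LinearMap.ker (φR ∘ₗ LinearMap.fst R M' N - (TensorProduct.mk R S N 1) ∘ₗ LinearMap.snd R M' N)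
  have hP : ∀ x : M' × N, x ∈ P ↔ φ x.1 = (1 : S) ⊗ₜ[R] x.2 := by
    intro x
    simp only [P, φR, LinearMap.mem_ker, LinearMap.sub_apply, LinearMap.comp_apply,
      LinearMap.fst_apply, LinearMap.snd_apply, LinearMap.restrictScalars_apply,
      TensorProduct.mk_apply, sub_eq_zero]
  let pr1 : P →ₗ[R] M' := LinearMap.fst R M' N ∘ₗ P.subtype
  let pr2 : P →ₗ[R] N := LinearMap.snd R M' N ∘ₗ P.subtype
  let e0 : S ⊗[R] P →ₗ[S] M' := pr1.liftBaseChange S
  have hcomp : φ ∘ₗ e0 = pr2.baseChange S := by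
    apply TensorProduct.AlgebraTensorModule.ext
    intro s p
    simp only [e0, pr1, pr2, LinearMap.comp_apply, LinearMap.liftBaseChange_tmul,
      LinearMap.baseChange_tmul, Submodule.subtype_apply, LinearMap.fst_apply,
      LinearMap.snd_apply, map_smul]
    rw [(hP p.1).mp p.2, TensorProduct.smul_tmul', smul_eq_mul, mul_one]
  have hcomp' : ∀ z, φ (e0 z) = pr2.lTensor S z := fun z => LinearMap.congr_fun hcomp z
  -- injectivity
  have hinj : Function.Injective e0 := by
    rw [injective_iff_map_eq_zero]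
    intro z hz
    have h1 : pr2.lTensor S z = 0 := by rw [← hcomp', hz, map_zero]
    have hex := Module.Flat.lTensor_exact S (N := LinearMap.ker pr2) (N' := P) (N'' := N)
      (f := (LinearMap.ker pr2).subtype) (g := pr2) (LinearMap.exact_subtype_ker_map pr2)
    obtain ⟨w, hw⟩ := (hex z).mp h1
    have htors : ∀ k : LinearMap.ker pr2, ∃ n : ℕ, ∀ a ∈ I ^ n, a • k = 0 := by
      intro k
      have hk2 : (k.1.1).2 = 0 := LinearMap.mem_ker.mp k.2
      have hk1 : φ (k.1.1).1 = 0 := by rw [(hP k.1.1).mp k.1.2, hk2, tmul_zero]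
      obtain ⟨n, hn⟩ := hker _ hk1
      refine ⟨n, fun a ha => ?_⟩
      apply Subtype.ext
      apply Subtype.ext
      apply Prod.ext
      · exact hn a ha
      · show a • (k.1.1).2 = 0
        rw [hk2, smul_zero]
    obtain ⟨k₀, rfl⟩ := (hT (LinearMap.ker pr2) htors).2 w
    have hz' : z = (1 : S) ⊗ₜ[R] k₀.1 := by rw [← hw]; rfl
    have h3 : pr1 k₀.1 = 0 := by
      have := hz
      rw [hz'] at this
      simpa [e0] using this
    have h4 : pr2 k₀.1 = 0 := LinearMap.mem_ker.mp k₀.2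
    have h5 : k₀.1 = 0 := by
      apply Subtype.ext
      exact Prod.ext h3 h4
    rw [hz', h5, tmul_zero]
  -- surjectivity
  have hsurj : Function.Surjective e0 := by
    intro m'
    let N' : Submodule R N := LinearMap.range pr2
    let Q := (S ⊗[R] N) ⧸ (LinearMap.range φ)
    let θ : S ⊗[R] N →ₗ[S] Q := (LinearMap.range φ).mkQ
    have hθ : ∀ n ∈ N', (θ.restrictScalars R ∘ₗ TensorProduct.mk R S N 1) n = 0 := by
      rintro n ⟨p, rfl⟩
      show θ ((1 : S) ⊗ₜ[R] pr2 p) = 0
      rw [Submodule.mkQ_apply, Submodule.Quotient.mk_eq_zero]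
      exact ⟨p.1.1, (hP p.1).mp p.2⟩
    let ιbar : N ⧸ N' →ₗ[R] Q := N'.liftQ (θ.restrictScalars R ∘ₗ TensorProduct.mk R S N 1)
      (fun n hn => LinearMap.mem_ker.mpr (hθ n hn))
    have hιbar : Function.Injective ιbar := by
      rw [injective_iff_map_eq_zero]
      intro x hx
      obtain ⟨n, rfl⟩ := Submodule.Quotient.mk_surjective _ x
      have h1 : θ ((1 : S) ⊗ₜ[R] n) = 0 := hx
      rw [Submodule.mkQ_apply, Submodule.Quotient.mk_eq_zero] at h1
      obtain ⟨m₀, hm₀⟩ := h1
      rw [Submodule.Quotient.mk_eq_zero]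
      exact ⟨⟨(m₀, n), (hP _).mpr hm₀⟩, rfl⟩
    have hQt : ∀ x : Q, ∃ n : ℕ, ∀ a ∈ I ^ n, a • x = 0 := by
      intro x
      obtain ⟨y, rfl⟩ := Submodule.Quotient.mk_surjective _ x
      obtain ⟨n, hn⟩ := hcoker y
      refine ⟨n, fun a ha => ?_⟩
      rw [← Submodule.Quotient.mk_smul, Submodule.Quotient.mk_eq_zero]
      exact hn a ha
    have hμ := mulT_injective (R := R) (S := S) (hT Q hQt)
    have hid : ∀ z : S ⊗[R] N, (LinearMap.id : Q →ₗ[R] Q).liftBaseChange S
        (ιbar.lTensor S (N'.mkQ.lTensor S z)) = θ z := by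
      intro z
      induction z using TensorProduct.induction_on with
      | zero => simp
      | tmul s n =>
        simp only [LinearMap.lTensor_tmul, LinearMap.liftBaseChange_tmul, LinearMap.id_apply]
        show s • θ ((1 : S) ⊗ₜ[R] n) = θ (s ⊗ₜ[R] n)
        rw [← map_smul, TensorProduct.smul_tmul', smul_eq_mul, mul_one]
      | add x y hx hy => simp only [map_add, hx, hy]
    have h1 : N'.mkQ.lTensor S (φ m') = 0 := by
      apply Module.Flat.lTensor_preserves_injective_linearMap ιbar hιbar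
      apply hμ
      rw [hid, map_zero, map_zero, Submodule.mkQ_apply, Submodule.Quotient.mk_eq_zero]
      exact ⟨m', rfl⟩
    have hex := Module.Flat.lTensor_exact S (N := P) (N' := N) (N'' := N ⧸ N')
      (f := pr2) (g := N'.mkQ) (LinearMap.exact_map_mkQ_range pr2)
    obtain ⟨u, hu⟩ := (hex _).mp h1
    have h2 : φ (m' - e0 u) = 0 := by rw [map_sub, hcomp', hu, sub_self]
    have hmem : ((m' - e0 u, 0) : M' × N) ∈ P := by
      rw [hP]
      simp only [h2, tmul_zero]
    refine ⟨u + (1 : S) ⊗ₜ[R] ⟨(m' - e0 u, 0), hmem⟩, ?_⟩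
    rw [map_add]
    simp only [e0, pr1, LinearMap.liftBaseChange_tmul, one_smul, LinearMap.comp_apply,
      Submodule.subtype_apply, LinearMap.fst_apply]
    abel
  exact ⟨P, inferInstance, inferInstance, pr2, LinearEquiv.ofBijective e0 ⟨hinj, hsurj⟩, by
    rw [← hcomp]; rfl⟩

end

end Groth.Agent.Helper3.EtGl
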