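import Mathlib
import Groth.Agent.S2009
import Groth.Agent.S7090
import Groth.Agent.Lib.Helper5.EtGlue.Glue

universe u
open TensorProduct

namespace Groth.Agent.Helper3.EtGl

section Aux
variable {R S : Type u} [CommRing R] [CommRing S] [Algebra R S]

theorem piRight_apply_eq {ι : Type} [Fintype ι] [DecidableEq ι] {M : Type u} [AddCommGroup M]
    [Module R M] (w : S ⊗[R] (ι → M)) (i : ι) :
    TensorProduct.piRight R R S (fun _ : ι => M) w i =
      (LinearMap.proj i : (ι → M) →ₗ[R] M).lTensor S w := by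
  induction w using TensorProduct.induction_on with
  | zero => simp
  | tmul s g => simp
  | add x y hx hy => rw [map_add, map_add, Pi.add_apply, hx, hy]

variable {I : Ideal R}
  (hq : Function.Bijective
    (Ideal.quotientMap (Ideal.map (algebraMap R S) I) (algebraMap R S) Ideal.le_comap_map))

include hq in
/-- `H¹`-level lifting: a cocycle `(w_i)` in `S ⊗ N` for the elements `f_i ^ n` is, modulo a
coboundary, the image of a cocycle in `N`. -/
theorem lift_aux [Module.Flat R S] {t : ℕ} (f : Fin t → R)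
    (hI : Ideal.span (Set.range f) = I) (N : Type u) [AddCommGroup N] [Module R N] (n : ℕ)
    (w : Fin t → S ⊗[R] N) (hw : ∀ i j, f j ^ n • w i = f i ^ n • w j) :
    ∃ (x : S ⊗[R] N) (m : Fin t → N), (∀ i j, f j ^ n • m i = f i ^ n • m j) ∧
      ∀ i, w i = (1 : S) ⊗ₜ[R] m i + f i ^ n • x := by
  classical
  let d0 : N →ₗ[R] (Fin t → N) := LinearMap.pi (fun i => f i ^ n • LinearMap.id)
  let d1 : (Fin t → N) →ₗ[R] (Fin t × Fin t → N) :=
    LinearMap.pi (fun p => f p.2 ^ n • LinearMap.proj p.1 - f p.1 ^ n • LinearMap.proj p.2)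
  have hd1 : ∀ (g : Fin t → N), g ∈ LinearMap.ker d1 ↔ ∀ i j, f j ^ n • g i = f i ^ n • g j := by
    intro g
    rw [LinearMap.mem_ker]
    constructor
    · intro hg i j
      have := congrFun hg (i, j)
      simpa [d1, sub_eq_zero] using this
    · intro hg
      funext p
      simp [d1, hg p.1 p.2]
  have hd0mem : ∀ μ : N, d0 μ ∈ LinearMap.ker d1 := by
    intro μ
    rw [hd1]
    intro i j
    simp [d0, smul_smul, mul_comm]
  let d0' : N →ₗ[R] LinearMap.ker d1 := d0.codRestrict _ hd0mem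
  have hHkill : ∀ k, ∀ y : (LinearMap.ker d1) ⧸ LinearMap.range d0', f k ^ n • y = 0 := by
    intro k y
    obtain ⟨γ, rfl⟩ := Submodule.Quotient.mk_surjective _ y
    rw [← Submodule.Quotient.mk_smul, Submodule.Quotient.mk_eq_zero]
    refine ⟨γ.1 k, Subtype.ext ?_⟩
    funext i
    have := (hd1 γ.1).mp γ.2 i k
    simpa [d0', d0] using this.symm
  have bH := Groth.Agent.Helper5.EtGlue.bijective_of_pow_smul hq f hI _ n hHkill
  -- the element of `S ⊗ (Fin t → N)` with components `w i`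
  obtain ⟨wh, hwh⟩ : ∃ wh : S ⊗[R] (Fin t → N),
      ∀ i, (LinearMap.proj i : (Fin t → N) →ₗ[R] N).lTensor S wh = w i := by
    refine ⟨(TensorProduct.piRight R R S (fun _ : Fin t => N)).symm w, fun i => ?_⟩
    rw [← piRight_apply_eq, LinearEquiv.apply_symm_apply]
  have hwh1 : d1.lTensor S wh = 0 := by
    apply Groth.Agent.Helper5.EtGlue.eq_of_proj_lTensor
    intro p
    rw [map_zero, ← LinearMap.comp_apply, ← LinearMap.lTensor_comp]
    have : (LinearMap.proj p : (Fin t × Fin t → N) →ₗ[R] N) ∘ₗ d1 =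
        f p.2 ^ n • (LinearMap.proj p.1 : (Fin t → N) →ₗ[R] N) -
          f p.1 ^ n • (LinearMap.proj p.2 : (Fin t → N) →ₗ[R] N) :=
      LinearMap.ext fun _ => rfl
    rw [this, LinearMap.lTensor_sub, LinearMap.lTensor_smul, LinearMap.lTensor_smul,
      LinearMap.sub_apply, LinearMap.smul_apply, LinearMap.smul_apply, hwh, hwh, hw, sub_self]
  have hexZ := Module.Flat.lTensor_exact S (N := LinearMap.ker d1) (N' := Fin t → N)
    (N'' := Fin t × Fin t → N) (f := (LinearMap.ker d1).subtype) (g := d1)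
    (LinearMap.exact_subtype_ker_map d1)
  obtain ⟨zh, hzh⟩ := (hexZ wh).mp hwh1
  obtain ⟨h, hh⟩ := bH.2 ((LinearMap.range d0').mkQ.lTensor S zh)
  obtain ⟨z₀, rfl⟩ := Submodule.Quotient.mk_surjective _ h
  have hexB := Module.Flat.lTensor_exact S (N := N) (N' := LinearMap.ker d1)
    (N'' := (LinearMap.ker d1) ⧸ LinearMap.range d0') (f := d0') (g := (LinearMap.range d0').mkQ)
    (LinearMap.exact_map_mkQ_range d0')
  have h3 : (LinearMap.range d0').mkQ.lTensor S (zh - (1 : S) ⊗ₜ[R] z₀) = 0 := by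
    rw [map_sub, ← hh]
    simp
  obtain ⟨x, hx⟩ := (hexB _).mp h3
  refine ⟨x, z₀.1, (hd1 z₀.1).mp z₀.2, fun i => ?_⟩
  have h4 : zh = (1 : S) ⊗ₜ[R] z₀ + d0'.lTensor S x := by rw [hx]; abel
  have h5 : ((LinearMap.proj i : (Fin t → N) →ₗ[R] N) ∘ₗ (LinearMap.ker d1).subtype) ∘ₗ d0' =
      f i ^ n • LinearMap.id := LinearMap.ext fun _ => rfl
  have h6 : (LinearMap.proj i : (Fin t → N) →ₗ[R] N).lTensor S
      ((LinearMap.ker d1).subtype.lTensor S (d0'.lTensor S x)) = f i ^ n • x := by
    rw [← LinearMap.comp_apply, ← LinearMap.comp_apply, ← LinearMap.lTensor_comp,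
      ← LinearMap.lTensor_comp, h5, LinearMap.lTensor_smul, LinearMap.lTensor_id]
    rfl
  rw [← hwh i, ← hzh, h4, map_add, map_add, h6, LinearMap.lTensor_tmul, LinearMap.lTensor_tmul]
  rfl

end Aux

section Defs
variable {R S : Type u} [CommRing R] [CommRing S] [Algebra R S]
variable {t : ℕ} (f : Fin t → R) (N : Type u) [AddCommGroup N] [Module R N]

/-- the submonoid generated by `f i` and `f j` -/
abbrev Sq (p : Fin t × Fin t) : Submonoid R :=
  Submonoid.powers (f p.1) ⊔ Submonoid.powers (f p.2)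

abbrev Yf := ∀ i : Fin t, LocalizedModule (Submonoid.powers (f i)) N

noncomputable def alp (p : Fin t × Fin t) :
    LocalizedModule (Submonoid.powers (f p.1)) N →ₗ[R] LocalizedModule (Sq f p) N :=
  LocalizedModule.liftOfLE (Submonoid.powers (f p.1)) (Sq f p) le_sup_left

noncomputable def bet (p : Fin t × Fin t) :
    LocalizedModule (Submonoid.powers (f p.2)) N →ₗ[R] LocalizedModule (Sq f p) N :=
  LocalizedModule.liftOfLE (Submonoid.powers (f p.2)) (Sq f p) le_sup_right

theorem alp_mk (p : Fin t × Fin t) (m : N) (s : Submonoid.powers (f p.1)) :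
    alp f N p (LocalizedModule.mk m s) =
      LocalizedModule.mk m ⟨s.1, (le_sup_left : _ ≤ Sq f p) s.2⟩ := by
  rw [IsLocalizedModule.mk_eq_mk', IsLocalizedModule.mk_eq_mk']
  exact IsLocalizedModule.liftOfLE_mk' _ _ _ _ _ m s

theorem bet_mk (p : Fin t × Fin t) (m : N) (s : Submonoid.powers (f p.2)) :
    bet f N p (LocalizedModule.mk m s) =
      LocalizedModule.mk m ⟨s.1, (le_sup_right : _ ≤ Sq f p) s.2⟩ := by
  rw [IsLocalizedModule.mk_eq_mk', IsLocalizedModule.mk_eq_mk']
  exact IsLocalizedModule.liftOfLE_mk' _ _ _ _ _ m s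

variable {E' : Type u} [AddCommGroup E'] [Module S E'] [Module R E'] [IsScalarTower R S E']
  (i' : S ⊗[R] N →ₗ[S] E')

noncomputable def jN : N →ₗ[R] E' := i'.restrictScalars R ∘ₗ TensorProduct.mk R S N 1

noncomputable def kap (i : Fin t) : LocalizedModule (Submonoid.powers (f i)) N →ₗ[R]
    LocalizedModule (Submonoid.powers (f i)) E' :=
  IsLocalizedModule.map (Submonoid.powers (f i)) (LocalizedModule.mkLinearMap _ N)
    (LocalizedModule.mkLinearMap _ E') (jN N i')

theorem kap_mk (i : Fin t) (m : N) (s : Submonoid.powers (f i)) :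
    kap f N i' i (LocalizedModule.mk m s) = LocalizedModule.mk (jN N i' m) s :=
  IsLocalizedModule.map_LocalizedModules _ _ m s

noncomputable def Esub : Submodule R (E' × Yf f N) :=
  (⨅ i, LinearMap.ker (LocalizedModule.mkLinearMap (Submonoid.powers (f i)) E' ∘ₗ
      LinearMap.fst R E' (Yf f N) - kap f N i' i ∘ₗ LinearMap.proj i ∘ₗ
        LinearMap.snd R E' (Yf f N))) ⊓
  (⨅ p : Fin t × Fin t, LinearMap.ker (alp f N p ∘ₗ LinearMap.proj p.1 ∘ₗ
      LinearMap.snd R E' (Yf f N) - bet f N p ∘ₗ LinearMap.proj p.2 ∘ₗ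
        LinearMap.snd R E' (Yf f N)))

theorem mem_Esub (z : E' × Yf f N) : z ∈ Esub f N i' ↔
    (∀ i, LocalizedModule.mkLinearMap (Submonoid.powers (f i)) E' z.1 = kap f N i' i (z.2 i)) ∧
    (∀ p : Fin t × Fin t, alp f N p (z.2 p.1) = bet f N p (z.2 p.2)) := by
  simp only [Esub, Submodule.mem_inf, Submodule.mem_iInf, LinearMap.mem_ker, LinearMap.sub_apply,
    LinearMap.comp_apply, LinearMap.fst_apply, LinearMap.snd_apply, LinearMap.proj_apply,
    sub_eq_zero]

end Defs

section Main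
variable {R S : Type u} [CommRing R] [CommRing S] [Algebra R S]

theorem ext_lift [Module.Flat R S] (I : Ideal R) (hIfg : I.FG)
    (hq : Function.Bijective
      (Ideal.quotientMap (I.map (algebraMap R S)) (algebraMap R S) Ideal.le_comap_map))
    (N M : Type u) [AddCommGroup N] [Module R N] [AddCommGroup M] [Module R M]
    (hM : ∀ m : M, ∃ n : ℕ, ∀ a ∈ I ^ n, a • m = 0)
    (E' : Type u) [AddCommGroup E'] [Module S E'] [Module R E'] [IsScalarTower R S E']
    (i' : S ⊗[R] N →ₗ[S] E') (p' : E' →ₗ[S] S ⊗[R] M)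
    (hi' : Function.Injective i') (hp' : Function.Surjective p')
    (hex' : LinearMap.range i' = LinearMap.ker p') :
    ∃ (E : Type u) (_ : AddCommGroup E) (_ : Module R E) (i : N →ₗ[R] E) (p : E →ₗ[R] M)
      (g : E →ₗ[R] E'),
      Function.Injective i ∧ Function.Surjective p ∧ LinearMap.range i = LinearMap.ker p ∧
      (∀ n : N, g (i n) = i' ((1 : S) ⊗ₜ[R] n)) ∧ (∀ e : E, p' (g e) = (1 : S) ⊗ₜ[R] p e) := by
  classical
  obtain ⟨t, f, hI⟩ := Submodule.fg_iff_exists_fin_generating_family.mp hIfg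
  have hI' : Ideal.span (Set.range f) = I := hI
  have hfI : ∀ i, f i ∈ I := fun i => by rw [← hI']; exact Ideal.subset_span ⟨i, rfl⟩
  have hτ : Function.Bijective (TensorProduct.mk R S M 1) := Groth.Agent.S2009.step3 I hq M hM
  let τ : M ≃ₗ[R] S ⊗[R] M := LinearEquiv.ofBijective _ hτ
  have hτ1 : ∀ m, τ m = (1 : S) ⊗ₜ[R] m := fun m => rfl
  have hp'i' : ∀ x, p' (i' x) = 0 := fun x => by
    have : i' x ∈ LinearMap.ker p' := hex' ▸ LinearMap.mem_range_self i' x
    exact LinearMap.mem_ker.mp this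
  have hjN : ∀ n : N, jN N i' n = i' ((1 : S) ⊗ₜ[R] n) := fun n => rfl
  let g : Esub f N i' →ₗ[R] E' := LinearMap.fst R E' (Yf f N) ∘ₗ (Esub f N i').subtype
  let p : Esub f N i' →ₗ[R] M := τ.symm.toLinearMap ∘ₗ p'.restrictScalars R ∘ₗ g
  have hi_mem : ∀ n : N, (LinearMap.prod (jN N i')
      (LinearMap.pi fun i => LocalizedModule.mkLinearMap (Submonoid.powers (f i)) N)) n ∈
        Esub f N i' := by
    intro n
    rw [mem_Esub]
    constructor
    · intro i
      show LocalizedModule.mkLinearMap _ E' (jN N i' n) =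
        kap f N i' i (LocalizedModule.mkLinearMap _ N n)
      rw [LocalizedModule.mkLinearMap_apply, LocalizedModule.mkLinearMap_apply, kap_mk]
    · intro q
      show alp f N q (LocalizedModule.mkLinearMap _ N n) =
        bet f N q (LocalizedModule.mkLinearMap _ N n)
      rw [LocalizedModule.mkLinearMap_apply, LocalizedModule.mkLinearMap_apply, alp_mk, bet_mk]
      rfl
  let i : N →ₗ[R] Esub f N i' := LinearMap.codRestrict (Esub f N i') _ hi_mem
  have hgi : ∀ n : N, g (i n) = i' ((1 : S) ⊗ₜ[R] n) := fun n => rfl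
  have hpg : ∀ e : Esub f N i', p' (g e) = (1 : S) ⊗ₜ[R] p e := by
    intro e
    rw [← hτ1]
    exact (τ.apply_symm_apply _).symm
  have hp0 : ∀ e : Esub f N i', p e = 0 ↔ p' (g e) = 0 := by
    intro e
    constructor
    · intro h
      rw [hpg, h, tmul_zero]
    · intro h
      show τ.symm (p' (g e)) = 0
      rw [h, map_zero]
  have h7090 := Groth.Agent.S7090.result f I hI' hq N
  refine ⟨Esub f N i', inferInstance, inferInstance, i, p, g, ?_, ?_, ?_, hgi, hpg⟩
  · -- injectivity of i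
    rw [injective_iff_map_eq_zero]
    intro n hn
    have h1 : i' ((1 : S) ⊗ₜ[R] n) = 0 := by
      rw [← hgi, hn, map_zero]
    have h2 : (1 : S) ⊗ₜ[R] n = 0 := hi' (h1.trans (map_zero _).symm)
    have h3 : ∀ k : Fin t, LocalizedModule.mkLinearMap (Submonoid.powers (f k)) N n = 0 := by
      intro k
      have := congrArg (fun z : Esub f N i' => z.1.2 k) hn
      exact this
    exact h7090.1 n h2 h3
  · -- surjectivity of p
    intro m
    obtain ⟨n, hn⟩ := hM m
    have hfm : ∀ k, f k ^ n • m = 0 := fun k => hn _ (Ideal.pow_mem_pow (hfI k) n)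
    obtain ⟨e₀, he₀⟩ := hp' ((1 : S) ⊗ₜ[R] m)
    have hmem : ∀ k, f k ^ n • e₀ ∈ LinearMap.range i' := by
      intro k
      rw [hex', LinearMap.mem_ker, LinearMap.map_smul_of_tower, he₀, ← TensorProduct.tmul_smul,
        hfm, tmul_zero]
    choose w hw using hmem
    have hcoc : ∀ k l, f l ^ n • w k = f k ^ n • w l := by
      intro k l
      apply hi'
      rw [LinearMap.map_smul_of_tower, LinearMap.map_smul_of_tower, hw, hw, smul_comm]
    obtain ⟨x, mm, hmm, hwx⟩ := lift_aux hq f hI' N n w hcoc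
    let y : Yf f N := fun k => LocalizedModule.mk (mm k) ⟨f k ^ n, ⟨n, rfl⟩⟩
    have hz : ((e₀ - i' x, y) : E' × Yf f N) ∈ Esub f N i' := by
      rw [mem_Esub]
      constructor
      · intro k
        show LocalizedModule.mkLinearMap _ E' (e₀ - i' x) =
          kap f N i' k (LocalizedModule.mk (mm k) ⟨f k ^ n, ⟨n, rfl⟩⟩)
        rw [kap_mk, LocalizedModule.mkLinearMap_apply, LocalizedModule.mk_eq]
        refine ⟨1, ?_⟩
        rw [one_smul, one_smul, one_smul, Submonoid.smul_def]
        show f k ^ n • (e₀ - i' x) = jN N i' (mm k)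
        rw [hjN, smul_sub, ← hw, ← LinearMap.map_smul_of_tower, ← map_sub, hwx k,
          add_sub_cancel_right]
      · intro q
        show alp f N q (LocalizedModule.mk (mm q.1) ⟨f q.1 ^ n, ⟨n, rfl⟩⟩) =
          bet f N q (LocalizedModule.mk (mm q.2) ⟨f q.2 ^ n, ⟨n, rfl⟩⟩)
        rw [alp_mk, bet_mk, LocalizedModule.mk_eq]
        refine ⟨1, ?_⟩
        rw [one_smul, one_smul, Submonoid.smul_def, Submonoid.smul_def]
        exact hmm q.1 q.2
    refine ⟨⟨_, hz⟩, ?_⟩
    show τ.symm (p' (e₀ - i' x)) = m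
    rw [map_sub, hp'i', sub_zero, he₀, ← hτ1, τ.symm_apply_apply]
  · -- exactness
    apply le_antisymm
    · rintro _ ⟨n, rfl⟩
      rw [LinearMap.mem_ker, hp0, hgi, hp'i']
    · intro z hz
      rw [LinearMap.mem_ker, hp0] at hz
      have hz1 : g z ∈ LinearMap.range i' := by rw [hex']; exact LinearMap.mem_ker.mpr hz
      obtain ⟨x, hx⟩ := hz1
      obtain ⟨hC1, hC2⟩ := (mem_Esub f N i' z.1).mp z.2
      -- representatives
      have hrep : ∀ k : Fin t, ∃ (m : N) (e : ℕ), z.1.2 k =
          LocalizedModule.mk m (⟨f k ^ e, ⟨e, rfl⟩⟩ : Submonoid.powers (f k)) := by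
        intro k
        induction z.1.2 k using LocalizedModule.induction_on with
        | h m s =>
          obtain ⟨s, e, rfl⟩ := s
          exact ⟨m, e, rfl⟩
      choose m₁ e₁ hme using hrep
      obtain ⟨N₀, hN₀⟩ : ∃ N₀, ∀ k, e₁ k ≤ N₀ :=
        ⟨Finset.univ.sup e₁, fun k => Finset.le_sup (Finset.mem_univ k)⟩
      let mm : Fin t → N := fun k => f k ^ (N₀ - e₁ k) • m₁ k
      have hmm : ∀ k, z.1.2 k = LocalizedModule.mk (mm k)
          ⟨f k ^ N₀, Submonoid.pow_mem _ (Submonoid.mem_powers (f k)) N₀⟩ := by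
        intro k
        rw [hme k, LocalizedModule.mk_eq]
        refine ⟨1, ?_⟩
        rw [one_smul, one_smul, Submonoid.smul_def, Submonoid.smul_def]
        show f k ^ N₀ • m₁ k = f k ^ e₁ k • f k ^ (N₀ - e₁ k) • m₁ k
        rw [smul_smul, ← pow_add, Nat.add_sub_cancel' (hN₀ k)]
      have hH1 : ∀ k : Fin t, EtGlue.locOfTensor R S (f k) N x =
          EtGlue.tensorOfLoc R S (f k) N (LocalizedModule.mk (mm k)
            ⟨f k ^ N₀, Submonoid.pow_mem _ (Submonoid.mem_powers (f k)) N₀⟩) := by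
        intro k
        have hinj := IsLocalizedModule.map_injective (Submonoid.powers (f k))
          (LocalizedModule.mkLinearMap (Submonoid.powers (f k)) (S ⊗[R] N))
          (LocalizedModule.mkLinearMap (Submonoid.powers (f k)) E') (i'.restrictScalars R) hi'
        apply hinj
        rw [IsLocalizedModule.map_apply]
        show LocalizedModule.mkLinearMap _ E' (i' x) = _
        rw [hx]
        have h1 := hC1 k
        rw [hmm k, kap_mk] at h1
        show LocalizedModule.mkLinearMap _ E' (g z) = _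
        rw [show g z = z.1.1 from rfl, h1]
        unfold EtGlue.tensorOfLoc
        rw [IsLocalizedModule.map_LocalizedModules, IsLocalizedModule.map_LocalizedModules]
        rfl
      have hH2 : ∀ k l : Fin t, ∃ e : ℕ,
          (f k * f l) ^ e • (f l ^ N₀ • mm k - f k ^ N₀ • mm l) = 0 := by
        intro k l
        have h1 := hC2 (k, l)
        rw [hmm k, hmm l, alp_mk, bet_mk, LocalizedModule.mk_eq] at h1
        obtain ⟨⟨u, hu⟩, h1⟩ := h1
        obtain ⟨a, ⟨ea, rfl⟩, b, ⟨eb, rfl⟩, rfl⟩ := Submonoid.mem_sup.mp hu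
        simp only [Submonoid.smul_def] at h1
        refine ⟨ea + eb, ?_⟩
        have h2 : (f k * f l) ^ (ea + eb) = (f k ^ eb * f l ^ ea) * (f k ^ ea * f l ^ eb) := by
          ring
        rw [h2, mul_smul, smul_sub, h1, sub_self, smul_zero]
      obtain ⟨μ, hμ1, hμ2⟩ := h7090.2 x N₀ mm hH1 hH2
      refine ⟨μ, ?_⟩
      apply Subtype.ext
      apply Prod.ext
      · show i' ((1 : S) ⊗ₜ[R] μ) = z.1.1
        rw [hμ1, hx]
        rfl
      · funext k
        show LocalizedModule.mkLinearMap _ N μ = z.1.2 k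
        rw [hμ2 k, hmm k]

end Main

end Groth.Agent.Helper3.EtGl
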