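import Mathlib
import Groth.Prelude.Def_EtBase
import Groth.Prelude.Def_EtCore
import Groth.Prelude.Def_DeltaF
import Groth.Agent.Lib.Helper3.ExtDelta
import Groth.Agent.S0623

/-!
# Étale cohomology of `Y` with coefficients in the inverse image, as a δ-functor on sheaves on `X`;
pullback maps as morphisms of δ-functors
-/

set_option autoImplicit false
universe u
open CategoryTheory CategoryTheory.Limits AlgebraicGeometry Opposite DeltaF Abelian

namespace Groth.Agent.Helper3.EtMV1

section General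
universe v₁ u₁ v₂ u₂ v₃ u₃
variable {A : Type u₁} [Category.{v₁} A] [Abelian A] {B : Type u₂} [Category.{v₂} B] [Abelian B]
  {D : Type u₃} [Category.{v₃} D] [Abelian D]

/-- precomposition of a δ-functor with an exact functor -/
noncomputable def precomp (G : A ⥤ B) [G.Additive] [PreservesFiniteLimits G]
    [PreservesFiniteColimits G] (T : CohDeltaFunctor B D ℕ) : CohDeltaFunctor A D ℕ where
  F n := G ⋙ T.F n
  additive _ := inferInstance
  δ S hS n₀ n₁ h := T.δ (S.map G) (hS.map_of_exact G) n₀ n₁ h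
  δ_natural hS hS' φ n₀ n₁ h :=
    T.δ_natural (hS.map_of_exact G) (hS'.map_of_exact G) (G.mapShortComplex.map φ) n₀ n₁ h
  exact₂ S hS n := T.exact₂ (S.map G) (hS.map_of_exact G) n
  comp_δ S hS n₀ n₁ h := T.comp_δ (S.map G) (hS.map_of_exact G) n₀ n₁ h
  exact₃ S hS n₀ n₁ h := T.exact₃ (S.map G) (hS.map_of_exact G) n₀ n₁ h
  δ_comp S hS n₀ n₁ h := T.δ_comp (S.map G) (hS.map_of_exact G) n₀ n₁ h
  exact₁ S hS n₀ n₁ h := T.exact₁ (S.map G) (hS.map_of_exact G) n₀ n₁ h

/-- the morphism of short complexes induced by a natural transformation -/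
def mapSC {F G : A ⥤ B} [F.PreservesZeroMorphisms] [G.PreservesZeroMorphisms] (τ : F ⟶ G)
    (S : ShortComplex A) : S.map F ⟶ S.map G where
  τ₁ := τ.app S.X₁
  τ₂ := τ.app S.X₂
  τ₃ := τ.app S.X₃
  comm₁₂ := (τ.naturality S.f).symm
  comm₂₃ := (τ.naturality S.g).symm

end General

/-- named instances (to keep terms small for the kernel) -/
instance (priority := 2000) hasSheafifyEt (X : Scheme.{u}) :
    HasSheafify X.smallEtaleTopology AddCommGrpCat.{u + 1} := inferInstance

instance (priority := 2000) hasExtEt (X : Scheme.{u}) : HasExt.{u + 1} (EtCoh.Ab X) :=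
  inferInstance

variable {X Y : Scheme.{u}}

/-- étale cohomology as a δ-functor -/
noncomputable abbrev TX (X : Scheme.{u}) : CohDeltaFunctor (EtCoh.Ab X) AddCommGrpCat.{u + 1} ℕ :=
  ExtDelta.extDelta (EtCoh.const X ℤ)

lemma TX_eff (X : Scheme.{u}) : (TX X).IsEffaceable := by
  intro n F
  refine ⟨Injective.under F, Injective.ι F, inferInstance, ?_⟩
  exact (ExtDelta.isZero_of_injective (EtCoh.const X ℤ) (Injective.under F) n).eq_of_tgt _ _

section

variable (f : Y ⟶ X) [PreservesFiniteLimits (EtCoh.pull f)]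

/-- cohomology of `Y` with coefficients in the inverse image of a sheaf on `X` -/
noncomputable abbrev TH : CohDeltaFunctor (EtCoh.Ab X) AddCommGrpCat.{u + 1} ℕ :=
  precomp (EtCoh.pull f) (TX Y)

/-- the pullback map on cohomology (copy of `EtCore.Hpull` in the instance context of this file) -/
noncomputable def hp (G : EtCoh.Ab X) (n : ℕ) :
    Ext (EtCoh.const X ℤ) G n →+ Ext (EtCoh.const Y ℤ) ((EtCoh.pull f).obj G) n :=
  AddMonoidHom.comp
    (AddMonoidHom.mk' (fun e => (Ext.mk₀ (EtCore.pullConst f ℤ).inv).comp e (zero_add n))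
      (fun _ _ => Ext.comp_add _ _ _ _))
    ((EtCoh.pull f).mapExtAddHom _ _ n)

lemma hp_apply (G : EtCoh.Ab X) (n : ℕ) (e : Ext (EtCoh.const X ℤ) G n) :
    hp f G n e =
      (Ext.mk₀ (EtCore.pullConst f ℤ).inv).comp (e.mapExactFunctor (EtCoh.pull f)) (zero_add n) :=
  rfl

lemma hp_naturality {F G : EtCoh.Ab X} (ψ : F ⟶ G) (n : ℕ) (e : Ext (EtCoh.const X ℤ) F n) :
    hp f G n (e.comp (Ext.mk₀ ψ) (add_zero n)) =
      (hp f F n e).comp (Ext.mk₀ ((EtCoh.pull f).map ψ)) (add_zero n) := by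
  rw [hp_apply, hp_apply, Ext.mapExactFunctor_comp, Ext.mapExactFunctor_mk₀]
  exact (Ext.comp_assoc _ _ _ _ _ (by omega)).symm

lemma hp_extClass {S : ShortComplex (EtCoh.Ab X)} (hS : S.ShortExact) (n₀ n₁ : ℕ)
    (h : n₀ + 1 = n₁) (e : Ext (EtCoh.const X ℤ) S.X₃ n₀) :
    hp f S.X₁ n₁ (e.comp hS.extClass h) =
      (hp f S.X₃ n₀ e).comp (hS.map_of_exact (EtCoh.pull f)).extClass h := by
  rw [hp_apply, hp_apply, Ext.mapExactFunctor_comp, Ext.mapExactFunctor_extClass]
  exact (Ext.comp_assoc _ _ _ _ _ (by omega)).symm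

/-- the pullback maps form a morphism of δ-functors -/
noncomputable def rNat : TX X ⟶ TH f where
  app n :=
    { app := fun F => AddCommGrpCat.ofHom (hp f F n)
      naturality := fun F G ψ => by
        ext e
        exact hp_naturality f ψ n e }
  comm S hS n₀ n₁ h := by
    ext e
    exact hp_extClass f hS n₀ n₁ h e

lemma rNat_app_app_hom (n : ℕ) (F : EtCoh.Ab X) :
    (((rNat f).app n).app F).hom = hp f F n := rfl

end

section Via

variable {W U : Scheme.{u}} (g : W ⟶ U) (t : U ⟶ X) (f₀ : W ⟶ X) (w : g ≫ t = f₀)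
  [PreservesFiniteLimits (EtCoh.pull g)] [PreservesFiniteLimits (EtCoh.pull t)]
  [PreservesFiniteLimits (EtCoh.pull f₀)]

/-- the comparison isomorphism -/
noncomputable abbrev φ : EtCoh.pull t ⋙ EtCoh.pull g ≅ EtCoh.pull f₀ :=
  (EtCore.pullComp g t).symm ≪≫ EtCore.pullCongr w

/-- the relative pullback map (copy of `EtCore.HpullVia`) -/
noncomputable def hpVia (F : EtCoh.Ab X) (n : ℕ) :
    Ext (EtCoh.const U ℤ) ((EtCoh.pull t).obj F) n →+
      Ext (EtCoh.const W ℤ) ((EtCoh.pull f₀).obj F) n :=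
  ((Ext.mk₀ ((φ g t f₀ w).app F).hom).postcomp (EtCoh.const W ℤ) (add_zero n)).comp
    (hp g ((EtCoh.pull t).obj F) n)

omit [PreservesFiniteLimits (EtCoh.pull t)] [PreservesFiniteLimits (EtCoh.pull f₀)] in
lemma hpVia_apply (F : EtCoh.Ab X) (n : ℕ) (e : Ext (EtCoh.const U ℤ) ((EtCoh.pull t).obj F) n) :
    hpVia g t f₀ w F n e =
      (hp g ((EtCoh.pull t).obj F) n e).comp (Ext.mk₀ ((φ g t f₀ w).app F).hom)
        (add_zero n) := rfl

/-- the relative pullback maps form a morphism of δ-functors -/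
noncomputable def sNat : TH t ⟶ TH f₀ where
  app n :=
    { app := fun F => AddCommGrpCat.ofHom (hpVia g t f₀ w F n)
      naturality := fun F G ψ => by
        ext e
        change hpVia g t f₀ w G n (e.comp (Ext.mk₀ ((EtCoh.pull t).map ψ)) (add_zero n)) =
          (hpVia g t f₀ w F n e).comp (Ext.mk₀ ((EtCoh.pull f₀).map ψ)) (add_zero n)
        rw [hpVia_apply, hpVia_apply, hp_naturality, Ext.comp_assoc_of_third_deg_zero,
          Ext.comp_assoc_of_third_deg_zero, Ext.mk₀_comp_mk₀, Ext.mk₀_comp_mk₀]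
        congr 2
        exact (φ g t f₀ w).hom.naturality ψ }
  comm S hS n₀ n₁ h := by
    ext e
    change hpVia g t f₀ w S.X₁ n₁
        (e.comp (hS.map_of_exact (EtCoh.pull t)).extClass h) =
      (hpVia g t f₀ w S.X₃ n₀ e).comp (hS.map_of_exact (EtCoh.pull f₀)).extClass h
    rw [hpVia_apply, hpVia_apply]
    have h1 := hp_extClass g (hS.map_of_exact (EtCoh.pull t)) n₀ n₁ h e
    have h2 := ShortComplex.ShortExact.extClass_naturality
      ((hS.map_of_exact (EtCoh.pull t)).map_of_exact (EtCoh.pull g))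
      (hS.map_of_exact (EtCoh.pull f₀)) (mapSC (φ g t f₀ w).hom S)
    refine (congrArg (fun z => z.comp (Ext.mk₀ ((φ g t f₀ w).app S.X₁).hom) (add_zero n₁)) h1).trans ?_
    refine (Ext.comp_assoc_of_third_deg_zero _ _ _ _).trans ?_
    refine (congrArg (fun z => (hp g ((EtCoh.pull t).obj S.X₃) n₀ e).comp z h) h2).trans ?_
    exact (Ext.comp_assoc_of_second_deg_zero _ _ _ _).symm

lemma sNat_app_app_hom (n : ℕ) (F : EtCoh.Ab X) :
    (((sNat g t f₀ w).app n).app F).hom = hpVia g t f₀ w F n := rfl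

end Via

section Eff

variable {U : Scheme.{u}} (j : U ⟶ X) [IsOpenImmersion j] [PreservesFiniteLimits (EtCoh.pull j)]

lemma TH_eff : (TH j).IsEffaceable := by
  intro n F
  refine ⟨Injective.under F, Injective.ι F, inferInstance, ?_⟩
  haveI : Injective ((EtCoh.pull j).obj (Injective.under F)) :=
    Groth.Agent.S0623.injective_pull j _
  exact (ExtDelta.isZero_of_injective (EtCoh.const U ℤ)
    ((EtCoh.pull j).obj (Injective.under F)) n).eq_of_tgt _ _

end Eff

end Groth.Agent.Helper3.EtMV1
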