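import Mathlib
import Groth.Agent.Lib.Helper3.EtMV1
import Groth.Agent.Lib.Helper3.EdgeOutIso4

/-!
# Degree-zero pullback maps on étale cohomology in terms of sections
-/

set_option autoImplicit false
universe u
open CategoryTheory CategoryTheory.Limits AlgebraicGeometry Opposite Abelian

namespace Groth.Agent.Helper3.EtMV2

open EtMV1 EtCore

section Adj
universe v₁ u₁ v₂ u₂
variable {C : Type u₁} [Category.{v₁} C] {D : Type u₂} [Category.{v₂} D]
  {F F' : C ⥤ D} {G : D ⥤ C} (adj1 : F ⊣ G) (adj2 : F' ⊣ G)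

lemma homEquiv_uniq_inv_comp (M : C) (H : D) (ψ : F.obj M ⟶ H) :
    adj2.homEquiv M H ((adj1.leftAdjointUniq adj2).inv.app M ≫ ψ) = adj1.homEquiv M H ψ := by
  have h := Adjunction.unit_leftAdjointUniq_hom_app adj1 adj2 M
  rw [Adjunction.homEquiv_unit, Adjunction.homEquiv_unit, ← h, Functor.map_comp, Category.assoc,
    ← Functor.map_comp_assoc, Iso.hom_inv_id_app, CategoryTheory.Functor.map_id, Category.id_comp]

end Adj

variable {X Y Y' : Scheme.{u}}

/-- evaluation of a degree zero class at the terminal object -/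
noncomputable def ev (Y : Scheme.{u}) (G : EtCoh.Ab Y) :
    Ext (EtCoh.const Y ℤ) G 0 ≃+ G.obj.obj (op (EtCoh.top Y)) :=
  Sheaf.H.equiv₀ G (topIsTerminal Y)

lemma ev_apply (G : EtCoh.Ab Y) (x : Ext (EtCoh.const Y ℤ) G 0) :
    ev Y G x = ((constAdj Y).homEquiv _ G (Ext.addEquiv₀ x)).hom (ULift.up 1) := by
  rfl

/-- the canonical map from global sections of `G` to global sections of the inverse image -/
noncomputable def σ (f : Y' ⟶ Y) : gsec Y ⟶ EtCoh.pull f ⋙ gsec Y' where
  app G := (gsec Y).map ((EtCoh.pullPushAdj f).unit.app G) ≫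
    (pushGsecIso f).hom.app ((EtCoh.pull f).obj G)
  naturality G G' ψ := by
    have h1 := (EtCoh.pullPushAdj f).unit.naturality ψ
    have h2 := (pushGsecIso f).hom.naturality ((EtCoh.pull f).map ψ)
    dsimp only [Functor.id_obj, Functor.id_map, Functor.comp_obj, Functor.comp_map] at h1 h2 ⊢
    rw [← Functor.map_comp_assoc, h1, Functor.map_comp_assoc, Category.assoc, ← h2]

lemma σ_app (f : Y' ⟶ Y) (G : EtCoh.Ab Y) :
    (σ f).app G = (gsec Y).map ((EtCoh.pullPushAdj f).unit.app G) ≫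
      (pushGsecIso f).hom.app ((EtCoh.pull f).obj G) := rfl

/-- **Lemma A**, morphism form -/
lemma lemmaA (f : Y' ⟶ Y) (M : AddCommGrpCat.{u + 1}) (G : EtCoh.Ab Y)
    (e : (constantSheaf Y.smallEtaleTopology AddCommGrpCat.{u + 1}).obj M ⟶ G) :
    (constAdj Y').homEquiv M _ ((pullConstIso f).inv.app M ≫ (EtCoh.pull f).map e) =
      (constAdj Y).homEquiv M G e ≫ (σ f).app G := by
  unfold pullConstIso
  rw [homEquiv_uniq_inv_comp, Adjunction.homEquiv_ofNatIsoRight_apply, Adjunction.comp_homEquiv]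
  change (constAdj Y).homEquiv M _ ((EtCoh.pullPushAdj f).homEquiv _ _ ((EtCoh.pull f).map e)) ≫
    (pushGsecIso f).hom.app ((EtCoh.pull f).obj G) = _
  have h1 : (EtCoh.pullPushAdj f).homEquiv _ _ ((EtCoh.pull f).map e) =
      e ≫ (EtCoh.pullPushAdj f).unit.app G := by
    rw [Adjunction.homEquiv_unit]
    exact ((EtCoh.pullPushAdj f).unit.naturality e).symm
  rw [h1, Adjunction.homEquiv_naturality_right, Category.assoc, σ_app]

lemma addEquiv₀_mk₀ {C : Type*} [Category C] [Abelian C] [HasExt C] {A B : C} (e : A ⟶ B) :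
    Ext.addEquiv₀ (Ext.mk₀ e) = e := by
  apply (Ext.mk₀_bijective A B).1
  exact Ext.mk₀_addEquiv₀_apply _

lemma hp_mk₀ (f : Y' ⟶ Y) [PreservesFiniteLimits (EtCoh.pull f)] (G : EtCoh.Ab Y)
    (e : EtCoh.const Y ℤ ⟶ G) :
    hp f G 0 (Ext.mk₀ e) = Ext.mk₀ ((pullConst f ℤ).inv ≫ (EtCoh.pull f).map e) := by
  rw [hp_apply, Ext.mapExactFunctor_mk₀, Ext.mk₀_comp_mk₀]

/-- **Lemma A**, element form -/
lemma ev_hp (f : Y' ⟶ Y) [PreservesFiniteLimits (EtCoh.pull f)] (G : EtCoh.Ab Y)
    (x : Ext (EtCoh.const Y ℤ) G 0) :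
    ev Y' _ (hp f G 0 x) = ((σ f).app G).hom (ev Y G x) := by
  obtain ⟨e, rfl⟩ := (Ext.mk₀_bijective _ _).2 x
  rw [hp_mk₀, ev_apply, ev_apply, addEquiv₀_mk₀, addEquiv₀_mk₀]
  have h := lemmaA f (AddCommGrpCat.of (ULift.{u + 1} ℤ)) G e
  exact congrArg (fun k : AddCommGrpCat.of (ULift.{u + 1} ℤ) ⟶ _ => k.hom (ULift.up 1)) h

section OpenImm

open Groth.Agent.Lib.Helper5

variable {U : Scheme.{u}} (j : U ⟶ X) [IsOpenImmersion j]

/-- the object `U ⟶ X` of the small étale site of `X` -/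
noncomputable abbrev obj : X.Etale := (EtShriek.compEtale j).obj (EtCoh.top U)

/-- the map to the terminal object -/
noncomputable abbrev bang : obj j ⟶ EtCoh.top X := (topIsTerminal X).from _

/-- **Lemma B** -/
lemma lemmaB (F : EtCoh.Ab X) :
    (σ j).app F ≫ (gsec U).map ((Groth.Agent.S0623.pullIso j).hom.app F) =
      F.obj.map (bang j).op := by
  have h1 : (EtCoh.pullPushAdj j).unit.app F ≫
      (EtCoh.push j).map ((Groth.Agent.S0623.pullIso j).hom.app F) =
      (Groth.Agent.S0623.restrPushAdj j).unit.app F :=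
    Adjunction.unit_leftAdjointUniq_hom_app (EtCoh.pullPushAdj j)
      (Groth.Agent.S0623.restrPushAdj j) F
  have h2 := (pushGsecIso j).hom.naturality ((Groth.Agent.S0623.pullIso j).hom.app F)
  rw [σ_app, Category.assoc, ← h2, ← Category.assoc, Functor.comp_map, ← Functor.map_comp, h1]
  change F.obj.map ((EtOpenImm.siteAdj j).counit.app (EtCoh.top X)).op ≫
    F.obj.map ((EtShriek.compEtale j).map (bcTopIso j).inv).op = _
  rw [← Functor.map_comp, ← op_comp]
  congr 2
  exact (topIsTerminal X).hom_ext _ _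

/-- the comparison of degree zero cohomology of `U` with sections over `U ⟶ X` -/
noncomputable def ρ (F : EtCoh.Ab X) :
    Ext (EtCoh.const U ℤ) ((EtCoh.pull j).obj F) 0 →+ F.obj.obj (op (obj j)) :=
  ((gsec U).map ((Groth.Agent.S0623.pullIso j).hom.app F)).hom.comp (ev U _).toAddMonoidHom

lemma ρ_apply (F : EtCoh.Ab X) (x : Ext (EtCoh.const U ℤ) ((EtCoh.pull j).obj F) 0) :
    ρ j F x = ((gsec U).map ((Groth.Agent.S0623.pullIso j).hom.app F)).hom (ev U _ x) := rfl

lemma ρ_bijective (F : EtCoh.Ab X) : Function.Bijective (ρ j F) := by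
  have h1 : Function.Bijective ((gsec U).map ((Groth.Agent.S0623.pullIso j).hom.app F)).hom :=
    ConcreteCategory.bijective_of_isIso _
  exact h1.comp (ev U _).bijective

/-- the pullback map in degree zero is the restriction of sections -/
lemma r_square [PreservesFiniteLimits (EtCoh.pull j)] (F : EtCoh.Ab X)
    (x : Ext (EtCoh.const X ℤ) F 0) :
    ρ j F (hp j F 0 x) = (F.obj.map (bang j).op).hom (ev X F x) := by
  rw [ρ_apply, ev_hp, ← lemmaB]
  rfl

/-- naturality of the comparison `j⁻¹ F ≅ F|_U` with respect to restriction of sections -/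
lemma κ_naturality (F : EtCoh.Ab X) {V' V'' : U.Etale} (m' : V' ⟶ V'')
    (a : ((EtCoh.pull j).obj F).obj.obj (op V'')) :
    (((Groth.Agent.S0623.pullIso j).hom.app F).hom.app (op V')).hom
        ((((EtCoh.pull j).obj F).obj.map m'.op).hom a) =
      (F.obj.map ((EtShriek.compEtale j).map m').op).hom
        ((((Groth.Agent.S0623.pullIso j).hom.app F).hom.app (op V'')).hom a) := by
  have h := ((Groth.Agent.S0623.pullIso j).hom.app F).hom.naturality m'.op
  exact congrArg (fun k : ((EtCoh.pull j).obj F).obj.obj (op V'') ⟶ _ => k.hom a) h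

end OpenImm

section Comp

variable {W U : Scheme.{u}} (g : W ⟶ U) (t : U ⟶ X)

/-- iterated base change of the terminal object is terminal -/
noncomputable def bcbcTopIsTerminal :
    IsTerminal ((EtCoh.bc g).obj ((EtCoh.bc t).obj (EtCoh.top X))) :=
  IsTerminal.isTerminalObj (EtCoh.bc g) _ (bcTopIsTerminal t)

lemma star (H : EtCoh.Ab W) :
    (gsec X).map ((EtCoh.pushComp t g).hom.app H) ≫ (pushGsecIso (g ≫ t)).hom.app H =
      (pushGsecIso t).hom.app ((EtCoh.push g).obj H) ≫ (pushGsecIso g).hom.app H := by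
  dsimp [EtCoh.pushComp, pushGsecIso]
  rw [Functor.sheafPushforwardContinuousComp'_hom_app_hom_app]
  change H.obj.map _ ≫ H.obj.map _ = H.obj.map ((EtCoh.bc g).map (bcTopIso t).inv).op ≫ H.obj.map _
  rw [← Functor.map_comp, ← Functor.map_comp]
  congr 1
  apply Quiver.Hom.unop_inj
  exact (bcbcTopIsTerminal g t).hom_ext _ _

lemma unit_pullComp (F : EtCoh.Ab X) :
    (EtCoh.pullPushAdj (g ≫ t)).unit.app F ≫
        (EtCoh.push (g ≫ t)).map ((pullComp g t).hom.app F) =
      (EtCoh.pullPushAdj t).unit.app F ≫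
        (EtCoh.push t).map ((EtCoh.pullPushAdj g).unit.app ((EtCoh.pull t).obj F)) ≫
          (EtCoh.pushComp t g).hom.app ((EtCoh.pull g).obj ((EtCoh.pull t).obj F)) := by
  have h1 := Adjunction.unit_leftAdjointUniq_hom_app (EtCoh.pullPushAdj (g ≫ t))
    (((EtCoh.pullPushAdj t).comp (EtCoh.pullPushAdj g)).ofNatIsoRight (EtCoh.pushComp t g)) F
  refine h1.trans ?_
  rw [Adjunction.ofNatIsoRight_unit, NatTrans.comp_app, Adjunction.comp_unit_app, Category.assoc]
  rfl

/-- compatibility of `σ` with composition -/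
lemma σ_comp (F : EtCoh.Ab X) :
    (σ (g ≫ t)).app F ≫ (gsec W).map ((pullComp g t).hom.app F) =
      (σ t).app F ≫ (σ g).app ((EtCoh.pull t).obj F) := by
  have h2 := (pushGsecIso (g ≫ t)).hom.naturality ((pullComp g t).hom.app F)
  have h3 := (pushGsecIso t).hom.naturality ((EtCoh.pullPushAdj g).unit.app ((EtCoh.pull t).obj F))
  have h4 := star g t ((EtCoh.pull g).obj ((EtCoh.pull t).obj F))
  dsimp only [Functor.comp_obj, Functor.id_obj, Functor.comp_map] at h2 h3
  rw [σ_app, σ_app, σ_app, Category.assoc, ← h2, ← Category.assoc,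
    ← Functor.map_comp, unit_pullComp, Functor.map_comp, Functor.map_comp, Category.assoc,
    Category.assoc, h4, Category.assoc]
  congr 1
  rw [← Category.assoc, ← Category.assoc]
  congr 1

lemma ev_naturality {A B : EtCoh.Ab Y} (ψ : A ⟶ B) (y : Ext (EtCoh.const Y ℤ) A 0) :
    ev Y B (y.comp (Ext.mk₀ ψ) (add_zero 0)) = (ψ.hom.app (op (EtCoh.top Y))).hom (ev Y A y) :=
  (Sheaf.H.equiv₀_naturality (topIsTerminal Y) ψ y).symm

lemma σ_comp' (F : EtCoh.Ab X) :
    (σ (g ≫ t)).app F =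
      (σ t).app F ≫ (σ g).app ((EtCoh.pull t).obj F) ≫
        (gsec W).map ((pullComp g t).inv.app F) := by
  rw [← Category.assoc, ← σ_comp, Category.assoc, ← Functor.map_comp, Iso.hom_inv_id_app,
    CategoryTheory.Functor.map_id]
  exact (Category.comp_id _).symm

/-- **Lemma D⁰**: in degree zero, the relative pullback composed with the pullback is the pullback -/
lemma hpVia_hp (f₀ : W ⟶ X) (w : g ≫ t = f₀) [PreservesFiniteLimits (EtCoh.pull g)]
    [PreservesFiniteLimits (EtCoh.pull t)] [PreservesFiniteLimits (EtCoh.pull f₀)]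
    (F : EtCoh.Ab X) (x : Ext (EtCoh.const X ℤ) F 0) :
    hpVia g t f₀ w F 0 (hp t F 0 x) = hp f₀ F 0 x := by
  subst w
  apply (ev W _).injective
  rw [hpVia_apply, ev_naturality, ev_hp, ev_hp, ev_hp, σ_comp']
  have h : ((φ g t (g ≫ t) rfl).app F).hom = (pullComp g t).inv.app F := by
    simp [φ, pullCongr]
  rw [h]
  rfl

end Comp

end Groth.Agent.Helper3.EtMV2
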