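import Mathlib
import Groth.Prelude.Def_DeltaF
import Groth.Prelude.Def_RDerDelta
import Groth.Agent.Lib.Helper3.RDerL
import Groth.Agent.Lib.Helper3.DeltaEff
import Groth.Agent.Lib.Helper3.DeltaIso2

/-!
# Right derived functors of natural transformations are morphisms of δ-functors; comparison of an
effaceable δ-functor with the derived functors of its degree-zero part
-/

set_option autoImplicit false
universe v u v' u'
open CategoryTheory Limits DeltaF

namespace Groth.Agent.Helper3.MVAbs1

variable {C : Type u} [Category.{v} C] [Abelian C] [EnoughInjectives C]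
  {D : Type u'} [Category.{v'} D] [Abelian D]

section Nat

variable {F G : C ⥤ D} [F.Additive] [G.Additive] (α : F ⟶ G)

lemma toRDZ_comp_iso (X : C) (I : InjectiveResolution X) :
    F.toRightDerivedZero.app X ≫ (I.isoRightDerivedObj F 0).hom =
      I.toRightDerivedZero' F ≫ HomologicalComplex.homologyπ _ 0 := by
  have h := I.toRightDerivedZero_eq F
  have h2 := congrArg (· ≫ (I.isoRightDerivedObj F 0).hom) h
  simp only [Category.assoc] at h2
  erw [Iso.inv_hom_id, Category.comp_id] at h2
  exact h2

lemma rd_comp_iso (X : C) (I : InjectiveResolution X) (n : ℕ) :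
    (NatTrans.rightDerived α n).app X ≫ (I.isoRightDerivedObj G n).hom =
      (I.isoRightDerivedObj F n).hom ≫ HomologicalComplex.homologyMap
        ((NatTrans.mapHomologicalComplex α (ComplexShape.up ℕ)).app I.cocomplex) n := by
  have h := InjectiveResolution.rightDerived_app_eq α I n
  have h2 := congrArg (· ≫ (I.isoRightDerivedObj G n).hom) h
  simp only [Category.assoc, Iso.inv_hom_id, Category.comp_id] at h2
  exact h2

set_option backward.isDefEq.respectTransparency false in
/-- naturality of `toRightDerivedZero` in the functor -/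
lemma toRightDerivedZero_naturality :
    F.toRightDerivedZero ≫ NatTrans.rightDerived α 0 = α ≫ G.toRightDerivedZero := by
  ext X
  let I := injectiveResolution X
  have e1 := toRDZ_comp_iso (F := F) X I
  have e2 := toRDZ_comp_iso (F := G) X I
  have e3 := rd_comp_iso α X I 0
  have e5 : I.toRightDerivedZero' F ≫ HomologicalComplex.cyclesMap
      ((NatTrans.mapHomologicalComplex α (ComplexShape.up ℕ)).app I.cocomplex) 0 =
      α.app X ≫ I.toRightDerivedZero' G := by
    rw [← cancel_mono (HomologicalComplex.iCycles _ _), Category.assoc, Category.assoc,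
      HomologicalComplex.cyclesMap_i, InjectiveResolution.toRightDerivedZero'_comp_iCycles,
      InjectiveResolution.toRightDerivedZero'_comp_iCycles_assoc,
      NatTrans.mapHomologicalComplex_app_f]
    exact α.naturality (I.ι.f 0)
  have e4 : (I.toRightDerivedZero' F ≫ HomologicalComplex.homologyπ _ 0) ≫
      HomologicalComplex.homologyMap
        ((NatTrans.mapHomologicalComplex α (ComplexShape.up ℕ)).app I.cocomplex) 0 =
      α.app X ≫ I.toRightDerivedZero' G ≫ HomologicalComplex.homologyπ _ 0 := by
    rw [Category.assoc, HomologicalComplex.homologyπ_naturality, ← Category.assoc, e5,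
      Category.assoc]
  rw [NatTrans.comp_app, NatTrans.comp_app]
  apply (cancel_mono (I.isoRightDerivedObj G 0).hom).1
  refine (Category.assoc _ _ _).trans ?_
  refine (congrArg (fun z => F.toRightDerivedZero.app X ≫ z) e3).trans ?_
  refine (Category.assoc _ _ _).symm.trans ?_
  refine (congrArg (fun z => z ≫ HomologicalComplex.homologyMap
    ((NatTrans.mapHomologicalComplex α (ComplexShape.up ℕ)).app I.cocomplex) 0) e1).trans ?_
  refine e4.trans ?_
  refine (congrArg (fun z => α.app X ≫ z) e2.symm).trans ?_
  exact (Category.assoc _ _ _).symm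

lemma rightDerived_zero_comp_iso_hom [PreservesFiniteLimits F] [PreservesFiniteLimits G] :
    NatTrans.rightDerived α 0 ≫ G.rightDerivedZeroIsoSelf.hom =
      F.rightDerivedZeroIsoSelf.hom ≫ α := by
  have h := toRightDerivedZero_naturality α
  rw [← cancel_epi F.toRightDerivedZero, ← Category.assoc, h, Category.assoc,
    Functor.rightDerivedZeroIsoSelf_inv_hom_id, Category.comp_id,
    Functor.rightDerivedZeroIsoSelf_inv_hom_id_assoc]

/-- the δ-functor of right derived functors -/
noncomputable abbrev R (F : C ⥤ D) [F.Additive] : CohDeltaFunctor C D ℕ :=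
  (RDerL.derivedLES F).toCohDeltaFunctor

lemma R_eff (F : C ⥤ D) [F.Additive] : (R F).IsEffaceable := by
  intro n X
  refine ⟨Injective.under X, Injective.ι X, inferInstance, ?_⟩
  exact (Functor.isZero_rightDerived_obj_injective_succ F n (Injective.under X)).eq_of_tgt _ _

/-- the right derived functors of a natural transformation form a morphism of δ-functors -/
noncomputable def rdNat : R F ⟶ R G where
  app n := NatTrans.rightDerived α n
  comm S hS n₀ n₁ h := by
    obtain ⟨T⟩ := RDerH.nonempty_sesRes S hS
    change (RDerL.derivedLES F).δ S hS n₀ n₁ h ≫ (NatTrans.rightDerived α n₁).app S.X₁ =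
      (NatTrans.rightDerived α n₀).app S.X₃ ≫ (RDerL.derivedLES G).δ S hS n₀ n₁ h
    rw [(RDerL.derivedLES F).δ_eq S hS T, (RDerL.derivedLES G).δ_eq S hS T]
    let φ : T.cx.map (F.mapHomologicalComplex (ComplexShape.up ℕ)) ⟶
        T.cx.map (G.mapHomologicalComplex (ComplexShape.up ℕ)) :=
      { τ₁ := (NatTrans.mapHomologicalComplex α (ComplexShape.up ℕ)).app T.I₁.cocomplex
        τ₂ := (NatTrans.mapHomologicalComplex α (ComplexShape.up ℕ)).app T.I₂.cocomplex
        τ₃ := (NatTrans.mapHomologicalComplex α (ComplexShape.up ℕ)).app T.I₃.cocomplex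
        comm₁₂ := ((NatTrans.mapHomologicalComplex α (ComplexShape.up ℕ)).naturality T.f).symm
        comm₂₃ := ((NatTrans.mapHomologicalComplex α (ComplexShape.up ℕ)).naturality T.g).symm }
    have hδ := HomologicalComplex.HomologySequence.δ_naturality φ (T.map_shortExact F)
      (T.map_shortExact G) n₀ n₁ h
    have a1 := rd_comp_iso α S.X₁ T.I₁ n₁
    have a3 := rd_comp_iso α S.X₃ T.I₃ n₀
    have b1 := RDer.SESRes.delta_comp_isoRightDerivedObj_hom T F n₀ n₁ h
    have b2 := RDer.SESRes.delta_comp_isoRightDerivedObj_hom T G n₀ n₁ h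
    apply (cancel_mono (T.I₁.isoRightDerivedObj G n₁).hom).1
    refine (Category.assoc _ _ _).trans ?_
    refine (congrArg (fun z => T.delta F n₀ n₁ h ≫ z) a1).trans ?_
    refine (Category.assoc _ _ _).symm.trans ?_
    refine (congrArg (fun z => z ≫ HomologicalComplex.homologyMap
      ((NatTrans.mapHomologicalComplex α (ComplexShape.up ℕ)).app T.I₁.cocomplex) n₁) b1).trans ?_
    refine (Category.assoc _ _ _).trans ?_
    refine (congrArg (fun z => (T.I₃.isoRightDerivedObj F n₀).hom ≫ z) hδ).trans ?_
    refine (Category.assoc _ _ _).symm.trans ?_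
    refine (congrArg (fun z => z ≫ (T.map_shortExact G).δ n₀ n₁ h) a3.symm).trans ?_
    refine (Category.assoc _ _ _).trans ?_
    refine (congrArg (fun z => (NatTrans.rightDerived α n₀).app S.X₃ ≫ z) b2.symm).trans ?_
    exact (Category.assoc _ _ _).symm

end Nat

section Cmp

variable (T : CohDeltaFunctor C D ℕ) [PreservesFiniteLimits (T.F 0)] (hT : T.IsEffaceable)

/-- comparison of the derived functors of `T.F 0` with `T` -/
noncomputable def θ (n : ℕ) : (T.F 0).rightDerived n ≅ T.F n :=
  DeltaIso2.isoOfZero (R (T.F 0)) T (R_eff _) hT (T.F 0).rightDerivedZeroIsoSelf n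

lemma θ_hom (n : ℕ) : (θ T hT n).hom =
    (DeltaEff.extend (R (T.F 0)) T (R_eff _) (T.F 0).rightDerivedZeroIsoSelf.hom).app n := rfl

variable {T} {T' : CohDeltaFunctor C D ℕ} [PreservesFiniteLimits (T'.F 0)]
  (hT' : T'.IsEffaceable) (α : T ⟶ T')

lemma θ_naturality (n : ℕ) :
    NatTrans.rightDerived (α.app 0) n ≫ (θ T' hT' n).hom = (θ T hT n).hom ≫ α.app n := by
  have h := DeltaEff.app_eq_of_app_zero_eq (R (T.F 0)) T' (R_eff _)
    (rdNat (α.app 0) ≫ DeltaEff.extend (R (T'.F 0)) T' (R_eff _)
      (T'.F 0).rightDerivedZeroIsoSelf.hom)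
    (DeltaEff.extend (R (T.F 0)) T (R_eff _) (T.F 0).rightDerivedZeroIsoSelf.hom ≫ α)
    (by
      rw [CohDeltaFunctor.comp_app, CohDeltaFunctor.comp_app, DeltaEff.extend_app_zero,
        DeltaEff.extend_app_zero]
      exact rightDerived_zero_comp_iso_hom (α.app 0)) n
  rw [CohDeltaFunctor.comp_app, CohDeltaFunctor.comp_app] at h
  exact h

end Cmp

end Groth.Agent.Helper3.MVAbs1
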