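import Mathlib

/-!
# Long exact sequence of right derived functors from a "Mayer–Vietoris" short exact sequence of
functors on injective objects
-/

set_option autoImplicit false
universe v u v' u'
open CategoryTheory Limits

namespace Groth.Agent.Helper3.MVFun

variable {A : Type u} [Category.{v} A] [Abelian A] [HasInjectiveResolutions A]
  {B : Type u'} [Category.{v'} B] [Abelian B]
  {G₁ G₂ G₂' G₃ : A ⥤ B} [G₁.Additive] [G₂.Additive] [G₂'.Additive] [G₃.Additive]
  (α : G₁ ⟶ G₂) (α' : G₁ ⟶ G₂') (β : G₂ ⟶ G₃) (β' : G₂' ⟶ G₃)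

section cx

variable (K : CochainComplex A ℕ)

/-- the complexes -/
noncomputable abbrev K₁ : CochainComplex B ℕ := (G₁.mapHomologicalComplex _).obj K
noncomputable abbrev K₂ : CochainComplex B ℕ := (G₂.mapHomologicalComplex _).obj K
noncomputable abbrev K₂' : CochainComplex B ℕ := (G₂'.mapHomologicalComplex _).obj K
noncomputable abbrev K₃ : CochainComplex B ℕ := (G₃.mapHomologicalComplex _).obj K

noncomputable abbrev a : K₁ (G₁ := G₁) K ⟶ K₂ (G₂ := G₂) K :=
  (NatTrans.mapHomologicalComplex α _).app K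
noncomputable abbrev a' : K₁ (G₁ := G₁) K ⟶ K₂' (G₂' := G₂') K :=
  (NatTrans.mapHomologicalComplex α' _).app K
noncomputable abbrev b : K₂ (G₂ := G₂) K ⟶ K₃ (G₃ := G₃) K :=
  (NatTrans.mapHomologicalComplex β _).app K
noncomputable abbrev b' : K₂' (G₂' := G₂') K ⟶ K₃ (G₃ := G₃) K :=
  (NatTrans.mapHomologicalComplex β' _).app K

/-- the middle complex -/
noncomputable abbrev M : CochainComplex B ℕ := K₂ (G₂ := G₂) K ⊞ K₂' (G₂' := G₂') K

noncomputable abbrev φ : K₁ (G₁ := G₁) K ⟶ M (G₂ := G₂) (G₂' := G₂') K :=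
  biprod.lift (a α K) (a' α' K)

noncomputable abbrev ψ : M (G₂ := G₂) (G₂' := G₂') K ⟶ K₃ (G₃ := G₃) K :=
  biprod.desc (b β K) (-(b' β' K))

variable (hw : α ≫ β = α' ≫ β')

include hw in
lemma a_b : a α K ≫ b β K = a' α' K ≫ b' β' K := by
  ext n
  exact congrArg (fun γ => γ.app (K.X n)) hw

include hw in
lemma φ_ψ : φ α α' K ≫ ψ β β' K = 0 := by
  rw [biprod.lift_desc, Preadditive.comp_neg, a_b α α' β β' K hw, add_neg_cancel]

/-- the short complex of complexes -/
noncomputable abbrev T : ShortComplex (CochainComplex B ℕ) :=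
  ShortComplex.mk (φ α α' K) (ψ β β' K) (φ_ψ α α' β β' K hw)

attribute [local instance] preservesBinaryBiproducts_of_preservesBiproducts

/-- the degreewise comparison isomorphism -/
noncomputable def evalIso (n : ℕ) :
    (M (G₂ := G₂) (G₂' := G₂') K).X n ≅ G₂.obj (K.X n) ⊞ G₂'.obj (K.X n) :=
  (HomologicalComplex.eval B (ComplexShape.up ℕ) n).mapBiprod (K₂ (G₂ := G₂) K) (K₂' (G₂' := G₂') K)

lemma φ_evalIso (n : ℕ) :
    (φ α α' K).f n ≫ (evalIso (G₂ := G₂) (G₂' := G₂') K n).hom =
      biprod.lift (α.app (K.X n)) (α'.app (K.X n)) :=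
  biprod.map_lift_mapBiprod (HomologicalComplex.eval B (ComplexShape.up ℕ) n) _ _ (a α K) (a' α' K)

lemma evalIso_ψ (n : ℕ) :
    (evalIso (G₂ := G₂) (G₂' := G₂') K n).inv ≫ (ψ β β' K).f n =
      biprod.desc (β.app (K.X n)) (-(β'.app (K.X n))) :=
  biprod.mapBiprod_inv_map_desc (HomologicalComplex.eval B (ComplexShape.up ℕ) n) _ _ (b β K)
    (-(b' β' K))

variable (hse : ∀ (I : A) [Injective I]
    (w : biprod.lift (α.app I) (α'.app I) ≫ biprod.desc (β.app I) (-(β'.app I)) = 0),
    (ShortComplex.mk _ _ w).ShortExact)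

include hse in
lemma T_shortExact [∀ n, Injective (K.X n)] : (T α α' β β' K hw).ShortExact := by
  apply HomologicalComplex.shortExact_of_degreewise_shortExact
  intro n
  have w : biprod.lift (α.app (K.X n)) (α'.app (K.X n)) ≫
      biprod.desc (β.app (K.X n)) (-(β'.app (K.X n))) = 0 := by
    rw [biprod.lift_desc, Preadditive.comp_neg, ← NatTrans.comp_app, ← NatTrans.comp_app, hw,
      add_neg_cancel]
  refine ShortComplex.shortExact_of_iso ?_ (hse (K.X n) w)
  refine ShortComplex.isoMk (Iso.refl _) (evalIso (G₂ := G₂) (G₂' := G₂') K n).symm (Iso.refl _) ?_ ?_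
  · change 𝟙 _ ≫ (φ α α' K).f n = biprod.lift (α.app (K.X n)) (α'.app (K.X n)) ≫
      (evalIso (G₂ := G₂) (G₂' := G₂') K n).inv
    rw [Category.id_comp]
    exact (Iso.eq_comp_inv _).2 (φ_evalIso α α' K n)
  · change (evalIso (G₂ := G₂) (G₂' := G₂') K n).inv ≫ (ψ β β' K).f n =
      biprod.desc (β.app (K.X n)) (-(β'.app (K.X n))) ≫ 𝟙 _
    rw [Category.comp_id, evalIso_ψ]

/-- the comparison isomorphism in homology -/
noncomputable def hIso (n : ℕ) :
    (M (G₂ := G₂) (G₂' := G₂') K).homology n ≅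
      (K₂ (G₂ := G₂) K).homology n ⊞ (K₂' (G₂' := G₂') K).homology n :=
  (HomologicalComplex.homologyFunctor B (ComplexShape.up ℕ) n).mapBiprod
    (K₂ (G₂ := G₂) K) (K₂' (G₂' := G₂') K)

lemma Hφ_hIso (n : ℕ) :
    HomologicalComplex.homologyMap (φ α α' K) n ≫ (hIso (G₂ := G₂) (G₂' := G₂') K n).hom =
      biprod.lift (HomologicalComplex.homologyMap (a α K) n)
        (HomologicalComplex.homologyMap (a' α' K) n) :=
  biprod.map_lift_mapBiprod (HomologicalComplex.homologyFunctor B (ComplexShape.up ℕ) n) _ _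
    (a α K) (a' α' K)

lemma hIso_Hψ (n : ℕ) :
    (hIso (G₂ := G₂) (G₂' := G₂') K n).inv ≫ HomologicalComplex.homologyMap (ψ β β' K) n =
      biprod.desc (HomologicalComplex.homologyMap (b β K) n)
        (-(HomologicalComplex.homologyMap (b' β' K) n)) := by
  have h := biprod.mapBiprod_inv_map_desc
    (HomologicalComplex.homologyFunctor B (ComplexShape.up ℕ) n) _ _ (b β K) (-(b' β' K))
  rw [Functor.map_neg] at h
  exact h

end cx

section main

variable (hw : α ≫ β = α' ≫ β')
  (hse : ∀ (I : A) [Injective I]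
    (w : biprod.lift (α.app I) (α'.app I) ≫ biprod.desc (β.app I) (-(β'.app I)) = 0),
    (ShortComplex.mk _ _ w).ShortExact)
  (X : A)

/-- the chosen resolution -/
noncomputable abbrev R : InjectiveResolution X := injectiveResolution X

/-- the comparison isomorphisms -/
noncomputable def e₁ (n : ℕ) :
    (G₁.rightDerived n).obj X ≅ (K₁ (G₁ := G₁) (R X).cocomplex).homology n :=
  (R X).isoRightDerivedObj G₁ n

noncomputable abbrev e₂ (n : ℕ) :
    (G₂.rightDerived n).obj X ≅ (K₂ (G₂ := G₂) (R X).cocomplex).homology n :=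
  e₁ (G₁ := G₂) X n

noncomputable abbrev e₂' (n : ℕ) :
    (G₂'.rightDerived n).obj X ≅ (K₂' (G₂' := G₂') (R X).cocomplex).homology n :=
  e₁ (G₁ := G₂') X n

noncomputable abbrev e₃ (n : ℕ) :
    (G₃.rightDerived n).obj X ≅ (K₃ (G₃ := G₃) (R X).cocomplex).homology n :=
  e₁ (G₁ := G₃) X n

lemma nat_α (n : ℕ) : (NatTrans.rightDerived α n).app X ≫ (e₁ (G₁ := G₂) X n).hom =
    (e₁ (G₁ := G₁) X n).hom ≫ HomologicalComplex.homologyMap (a α (R X).cocomplex) n := by
  have h := InjectiveResolution.rightDerived_app_eq α (R X) n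
  have h2 := congrArg (· ≫ ((R X).isoRightDerivedObj G₂ n).hom) h
  simp only [Category.assoc, Iso.inv_hom_id, Category.comp_id] at h2
  exact h2

/-- the comparison of the middle terms -/
noncomputable def E (n : ℕ) : (G₂.rightDerived n).obj X ⊞ (G₂'.rightDerived n).obj X ≅
    (M (G₂ := G₂) (G₂' := G₂') (R X).cocomplex).homology n :=
  biprod.mapIso (e₂ (G₂ := G₂) X n) (e₂' (G₂' := G₂') X n) ≪≫
    (hIso (G₂ := G₂) (G₂' := G₂') (R X).cocomplex n).symm

lemma c1 (n : ℕ) :
    biprod.lift ((NatTrans.rightDerived α n).app X) ((NatTrans.rightDerived α' n).app X) ≫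
      (E (G₂ := G₂) (G₂' := G₂') X n).hom =
    (e₁ (G₁ := G₁) X n).hom ≫ HomologicalComplex.homologyMap (φ α α' (R X).cocomplex) n := by
  rw [← cancel_mono (hIso (G₂ := G₂) (G₂' := G₂') (R X).cocomplex n).hom, Category.assoc,
    Category.assoc, Hφ_hIso]
  dsimp only [E, Iso.trans_hom, Iso.symm_hom, biprod.mapIso_hom]
  rw [Category.assoc, Iso.inv_hom_id, Category.comp_id, biprod.mapIso_hom]
  apply biprod.hom_ext
  · rw [Category.assoc, biprod.map_fst, biprod.lift_fst_assoc, Category.assoc, biprod.lift_fst]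
    exact nat_α α X n
  · rw [Category.assoc, biprod.map_snd, biprod.lift_snd_assoc, Category.assoc, biprod.lift_snd]
    exact nat_α α' X n

lemma c2 (n : ℕ) :
    (E (G₂ := G₂) (G₂' := G₂') X n).hom ≫
      HomologicalComplex.homologyMap (ψ β β' (R X).cocomplex) n =
    biprod.desc ((NatTrans.rightDerived β n).app X) (-((NatTrans.rightDerived β' n).app X)) ≫
      (e₃ (G₃ := G₃) X n).hom := by
  dsimp only [E, Iso.trans_hom, Iso.symm_hom, biprod.mapIso_hom]
  rw [Category.assoc, hIso_Hψ, biprod.mapIso_hom]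
  apply biprod.hom_ext'
  · rw [biprod.inl_map_assoc, biprod.inl_desc, biprod.inl_desc_assoc]
    exact (nat_α β X n).symm
  · rw [biprod.inr_map_assoc, biprod.inr_desc, biprod.inr_desc_assoc, Preadditive.comp_neg,
      Preadditive.neg_comp]
    exact congrArg (- ·) (nat_α β' X n).symm

include hw hse in
/-- the long exact sequence -/
theorem main :
    ∃ δ : ∀ n : ℕ, (G₃.rightDerived n).obj X ⟶ (G₁.rightDerived (n + 1)).obj X,
      Mono (biprod.lift ((NatTrans.rightDerived α 0).app X) ((NatTrans.rightDerived α' 0).app X)) ∧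
      ∀ n : ℕ,
        (ComposableArrows.mk₂
          (biprod.lift ((NatTrans.rightDerived α n).app X) ((NatTrans.rightDerived α' n).app X))
          (biprod.desc ((NatTrans.rightDerived β n).app X)
            (-((NatTrans.rightDerived β' n).app X)))).Exact ∧
        (ComposableArrows.mk₂
          (biprod.desc ((NatTrans.rightDerived β n).app X)
            (-((NatTrans.rightDerived β' n).app X)))
          (δ n)).Exact ∧
        (ComposableArrows.mk₂ (δ n)
          (biprod.lift ((NatTrans.rightDerived α (n + 1)).app X)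
            ((NatTrans.rightDerived α' (n + 1)).app X))).Exact := by
  have hT : (T α α' β β' (R X).cocomplex hw).ShortExact :=
    T_shortExact α α' β β' (R X).cocomplex hw hse
  let dd : ∀ n : ℕ, (K₃ (G₃ := G₃) (R X).cocomplex).homology n ⟶
      (K₁ (G₁ := G₁) (R X).cocomplex).homology (n + 1) := fun n => hT.δ n (n + 1) rfl
  have hd1 : ∀ n, HomologicalComplex.homologyMap (ψ β β' (R X).cocomplex) n ≫ dd n = 0 :=
    fun n => hT.comp_δ n (n + 1) rfl
  have hd2 : ∀ n, dd n ≫ HomologicalComplex.homologyMap (φ α α' (R X).cocomplex) (n + 1) = 0 :=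
    fun n => hT.δ_comp n (n + 1) rfl
  let δ : ∀ n : ℕ, (G₃.rightDerived n).obj X ⟶ (G₁.rightDerived (n + 1)).obj X := fun n =>
    (e₃ (G₃ := G₃) X n).hom ≫ dd n ≫ (e₁ (G₁ := G₁) X (n + 1)).inv
  have hδ : ∀ n, δ n ≫ (e₁ (G₁ := G₁) X (n + 1)).hom =
      (e₃ (G₃ := G₃) X n).hom ≫ dd n := by
    intro n
    change ((e₃ (G₃ := G₃) X n).hom ≫ dd n ≫ (e₁ (G₁ := G₁) X (n + 1)).inv) ≫
      (e₁ (G₁ := G₁) X (n + 1)).hom = _
    rw [Category.assoc, Category.assoc, Iso.inv_hom_id, Category.comp_id]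
  have w12 : ∀ n, biprod.lift ((NatTrans.rightDerived α n).app X)
      ((NatTrans.rightDerived α' n).app X) ≫ biprod.desc ((NatTrans.rightDerived β n).app X)
        (-((NatTrans.rightDerived β' n).app X)) = 0 := by
    intro n
    rw [← cancel_mono (e₃ (G₃ := G₃) X n).hom, Category.assoc, ← c2, ← Category.assoc, c1,
      Category.assoc, zero_comp, ← HomologicalComplex.homologyMap_comp]
    have : φ α α' (R X).cocomplex ≫ ψ β β' (R X).cocomplex = 0 := φ_ψ α α' β β' _ hw
    rw [this, HomologicalComplex.homologyMap_zero, comp_zero]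
  have w23 : ∀ n, biprod.desc ((NatTrans.rightDerived β n).app X)
      (-((NatTrans.rightDerived β' n).app X)) ≫ δ n = 0 := by
    intro n
    rw [← cancel_mono (e₁ (G₁ := G₁) X (n + 1)).hom, Category.assoc, hδ, ← Category.assoc, ← c2,
      Category.assoc, zero_comp, hd1, comp_zero]
  have w31 : ∀ n, δ n ≫ biprod.lift ((NatTrans.rightDerived α (n + 1)).app X)
      ((NatTrans.rightDerived α' (n + 1)).app X) = 0 := by
    intro n
    rw [← cancel_mono (E (G₂ := G₂) (G₂' := G₂') X (n + 1)).hom, Category.assoc, c1,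
      ← Category.assoc, hδ, Category.assoc, zero_comp, hd2, comp_zero]
  refine ⟨δ, ?_, fun n => ⟨?_, ?_, ?_⟩⟩
  · have : Mono (φ α α' (R X).cocomplex) := hT.mono_f
    have : Mono (HomologicalComplex.homologyMap (φ α α' (R X).cocomplex) 0) :=
      HomologicalComplex.mono_homologyMap_of_mono_of_not_rel _ 0 (by simp)
    have h := c1 α α' X 0
    have : Mono (biprod.lift ((NatTrans.rightDerived α 0).app X)
        ((NatTrans.rightDerived α' 0).app X) ≫ (E (G₂ := G₂) (G₂' := G₂') X 0).hom) := by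
      rw [h]
      infer_instance
    exact mono_of_mono _ (E (G₂ := G₂) (G₂' := G₂') X 0).hom
  · have hex : (ShortComplex.mk _ _ (w12 n)).Exact := by
      refine (ShortComplex.exact_iff_of_iso ?_).2 (hT.homology_exact₂ n)
      exact ShortComplex.isoMk (e₁ (G₁ := G₁) X n) (E (G₂ := G₂) (G₂' := G₂') X n)
        (e₃ (G₃ := G₃) X n) (c1 α α' X n).symm (c2 β β' X n)
    exact hex.exact_toComposableArrows
  · have hex : (ShortComplex.mk _ _ (w23 n)).Exact := by
      refine (ShortComplex.exact_iff_of_iso ?_).2 (hT.homology_exact₃ n (n + 1) rfl)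
      exact ShortComplex.isoMk (E (G₂ := G₂) (G₂' := G₂') X n) (e₃ (G₃ := G₃) X n)
        (e₁ (G₁ := G₁) X (n + 1)) (c2 β β' X n) (hδ n).symm
    exact hex.exact_toComposableArrows
  · have hex : (ShortComplex.mk _ _ (w31 n)).Exact := by
      refine (ShortComplex.exact_iff_of_iso ?_).2 (hT.homology_exact₁ n (n + 1) rfl)
      exact ShortComplex.isoMk (e₃ (G₃ := G₃) X n) (e₁ (G₁ := G₁) X (n + 1))
        (E (G₂ := G₂) (G₂' := G₂') X (n + 1)) (hδ n).symm (c1 α α' X (n + 1)).symm
    exact hex.exact_toComposableArrows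

end main

end Groth.Agent.Helper3.MVFun
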