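import Mathlib
import Groth.Prelude.Def_DeltaF
import Groth.Agent.Lib.Helper3.MVFun
import Groth.Agent.Lib.Helper3.MVAbs1

/-!
# Abstract Mayer–Vietoris long exact sequence for effaceable δ-functors
-/

set_option autoImplicit false
universe v u v' u' w
open CategoryTheory Limits DeltaF

namespace Groth.Agent.Helper3.MVAbs2

open MVAbs1

section Cat

variable {A : Type u} [Category.{v} A] [Abelian A] [EnoughInjectives A]
  {B : Type u'} [Category.{v'} B] [Abelian B]
  {T₁ T₂ T₂' T₃ : CohDeltaFunctor A B ℕ}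
  [PreservesFiniteLimits (T₁.F 0)] [PreservesFiniteLimits (T₂.F 0)]
  [PreservesFiniteLimits (T₂'.F 0)] [PreservesFiniteLimits (T₃.F 0)]
  (h₁ : T₁.IsEffaceable) (h₂ : T₂.IsEffaceable) (h₂' : T₂'.IsEffaceable) (h₃ : T₃.IsEffaceable)
  (α : T₁ ⟶ T₂) (α' : T₁ ⟶ T₂') (β : T₂ ⟶ T₃) (β' : T₂' ⟶ T₃)
  (hw : α.app 0 ≫ β.app 0 = α'.app 0 ≫ β'.app 0)
  (hse : ∀ (I : A) [Injective I]
    (w : biprod.lift ((α.app 0).app I) ((α'.app 0).app I) ≫
      biprod.desc ((β.app 0).app I) (-((β'.app 0).app I)) = 0),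
    (ShortComplex.mk _ _ w).ShortExact)
  (X : A)

include h₁ h₂ h₂' h₃ hw hse in
theorem main :
    ∃ δ : ∀ n : ℕ, (T₃.F n).obj X ⟶ (T₁.F (n + 1)).obj X,
      Mono (biprod.lift ((α.app 0).app X) ((α'.app 0).app X)) ∧
      ∀ n : ℕ,
        (∃ w, (ShortComplex.mk
          (biprod.lift ((α.app n).app X) ((α'.app n).app X))
          (biprod.desc ((β.app n).app X) (-((β'.app n).app X))) w).Exact) ∧
        (∃ w, (ShortComplex.mk
          (biprod.desc ((β.app n).app X) (-((β'.app n).app X)))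
          (δ n) w).Exact) ∧
        (∃ w, (ShortComplex.mk (δ n)
          (biprod.lift ((α.app (n + 1)).app X) ((α'.app (n + 1)).app X)) w).Exact) := by
  obtain ⟨δ, hmono, hex⟩ := MVFun.main (α.app 0) (α'.app 0) (β.app 0) (β'.app 0) hw hse X
  let t₁ : ∀ n, ((T₁.F 0).rightDerived n).obj X ≅ (T₁.F n).obj X := fun n => (θ T₁ h₁ n).app X
  let t₂ : ∀ n, ((T₂.F 0).rightDerived n).obj X ≅ (T₂.F n).obj X := fun n => (θ T₂ h₂ n).app X
  let t₂' : ∀ n, ((T₂'.F 0).rightDerived n).obj X ≅ (T₂'.F n).obj X :=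
    fun n => (θ T₂' h₂' n).app X
  let t₃ : ∀ n, ((T₃.F 0).rightDerived n).obj X ≅ (T₃.F n).obj X := fun n => (θ T₃ h₃ n).app X
  have nα : ∀ n, (NatTrans.rightDerived (α.app 0) n).app X ≫ (t₂ n).hom =
      (t₁ n).hom ≫ (α.app n).app X := fun n =>
    congrArg (fun γ => γ.app X) (θ_naturality h₁ h₂ α n)
  have nα' : ∀ n, (NatTrans.rightDerived (α'.app 0) n).app X ≫ (t₂' n).hom =
      (t₁ n).hom ≫ (α'.app n).app X := fun n =>
    congrArg (fun γ => γ.app X) (θ_naturality h₁ h₂' α' n)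
  have nβ : ∀ n, (NatTrans.rightDerived (β.app 0) n).app X ≫ (t₃ n).hom =
      (t₂ n).hom ≫ (β.app n).app X := fun n =>
    congrArg (fun γ => γ.app X) (θ_naturality h₂ h₃ β n)
  have nβ' : ∀ n, (NatTrans.rightDerived (β'.app 0) n).app X ≫ (t₃ n).hom =
      (t₂' n).hom ≫ (β'.app n).app X := fun n =>
    congrArg (fun γ => γ.app X) (θ_naturality h₂' h₃ β' n)
  let E : ∀ n, ((T₂.F 0).rightDerived n).obj X ⊞ ((T₂'.F 0).rightDerived n).obj X ≅
      (T₂.F n).obj X ⊞ (T₂'.F n).obj X := fun n => biprod.mapIso (t₂ n) (t₂' n)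
  have hE : ∀ n, (E n).hom = biprod.map (t₂ n).hom (t₂' n).hom := fun n => rfl
  have c1 : ∀ n, biprod.lift ((NatTrans.rightDerived (α.app 0) n).app X)
      ((NatTrans.rightDerived (α'.app 0) n).app X) ≫ (E n).hom =
      (t₁ n).hom ≫ biprod.lift ((α.app n).app X) ((α'.app n).app X) := by
    intro n
    rw [hE]
    apply biprod.hom_ext
    · rw [Category.assoc, biprod.map_fst, biprod.lift_fst_assoc, Category.assoc, biprod.lift_fst]
      exact nα n
    · rw [Category.assoc, biprod.map_snd, biprod.lift_snd_assoc, Category.assoc, biprod.lift_snd]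
      exact nα' n
  have c2 : ∀ n, (E n).hom ≫ biprod.desc ((β.app n).app X) (-((β'.app n).app X)) =
      biprod.desc ((NatTrans.rightDerived (β.app 0) n).app X)
        (-((NatTrans.rightDerived (β'.app 0) n).app X)) ≫ (t₃ n).hom := by
    intro n
    rw [hE]
    apply biprod.hom_ext'
    · rw [biprod.inl_map_assoc, biprod.inl_desc, biprod.inl_desc_assoc]
      exact (nβ n).symm
    · rw [biprod.inr_map_assoc, biprod.inr_desc, biprod.inr_desc_assoc, Preadditive.comp_neg,
        Preadditive.neg_comp]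
      exact congrArg (- ·) (nβ' n).symm
  let δ' : ∀ n : ℕ, (T₃.F n).obj X ⟶ (T₁.F (n + 1)).obj X := fun n =>
    (t₃ n).inv ≫ δ n ≫ (t₁ (n + 1)).hom
  have hδ : ∀ n, (t₃ n).hom ≫ δ' n = δ n ≫ (t₁ (n + 1)).hom := by
    intro n
    change (t₃ n).hom ≫ (t₃ n).inv ≫ δ n ≫ (t₁ (n + 1)).hom = _
    rw [Iso.hom_inv_id_assoc]
  refine ⟨δ', ?_, fun n => ⟨?_, ?_, ?_⟩⟩
  · have h := c1 0
    have : Mono ((t₁ 0).hom ≫ biprod.lift ((α.app 0).app X) ((α'.app 0).app X)) := by
      rw [← h]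
      infer_instance
    have h2 : biprod.lift ((α.app 0).app X) ((α'.app 0).app X) =
        (t₁ 0).inv ≫ ((t₁ 0).hom ≫ biprod.lift ((α.app 0).app X) ((α'.app 0).app X)) := by
      rw [Iso.inv_hom_id_assoc]
    rw [h2]
    infer_instance
  · have w0 : biprod.lift ((NatTrans.rightDerived (α.app 0) n).app X)
        ((NatTrans.rightDerived (α'.app 0) n).app X) ≫
        biprod.desc ((NatTrans.rightDerived (β.app 0) n).app X)
          (-((NatTrans.rightDerived (β'.app 0) n).app X)) = 0 := (hex n).1.toIsComplex.zero 0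
    have e0 : (ShortComplex.mk _ _ w0).Exact :=
      (ShortComplex.exact_iff_exact_toComposableArrows (ShortComplex.mk _ _ w0)).2 (hex n).1
    have w1 : biprod.lift ((α.app n).app X) ((α'.app n).app X) ≫
        biprod.desc ((β.app n).app X) (-((β'.app n).app X)) = 0 := by
      rw [← cancel_epi (t₁ n).hom, ← Category.assoc, ← c1, Category.assoc, c2, ← Category.assoc,
        w0, zero_comp, comp_zero]
    refine ⟨w1, (ShortComplex.exact_iff_of_iso ?_).1 e0⟩
    exact ShortComplex.isoMk (t₁ n) (E n) (t₃ n) (c1 n).symm (c2 n)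
  · have w0 : biprod.desc ((NatTrans.rightDerived (β.app 0) n).app X)
          (-((NatTrans.rightDerived (β'.app 0) n).app X)) ≫ δ n = 0 :=
      (hex n).2.1.toIsComplex.zero 0
    have e0 : (ShortComplex.mk _ _ w0).Exact :=
      (ShortComplex.exact_iff_exact_toComposableArrows (ShortComplex.mk _ _ w0)).2 (hex n).2.1
    have w1 : biprod.desc ((β.app n).app X) (-((β'.app n).app X)) ≫ δ' n = 0 := by
      rw [← cancel_epi (E n).hom, ← Category.assoc, c2, Category.assoc, hδ, ← Category.assoc,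
        w0, zero_comp, comp_zero]
    refine ⟨w1, (ShortComplex.exact_iff_of_iso ?_).1 e0⟩
    exact ShortComplex.isoMk (E n) (t₃ n) (t₁ (n + 1)) (c2 n) (hδ n)
  · have w0 : δ n ≫ biprod.lift ((NatTrans.rightDerived (α.app 0) (n + 1)).app X)
        ((NatTrans.rightDerived (α'.app 0) (n + 1)).app X) = 0 :=
      (hex n).2.2.toIsComplex.zero 0
    have e0 : (ShortComplex.mk _ _ w0).Exact :=
      (ShortComplex.exact_iff_exact_toComposableArrows (ShortComplex.mk _ _ w0)).2 (hex n).2.2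
    have w1 : δ' n ≫ biprod.lift ((α.app (n + 1)).app X) ((α'.app (n + 1)).app X) = 0 := by
      rw [← cancel_epi (t₃ n).hom, ← Category.assoc, hδ, Category.assoc, ← c1, ← Category.assoc,
        w0, zero_comp, comp_zero]
    refine ⟨w1, (ShortComplex.exact_iff_of_iso ?_).1 e0⟩
    exact ShortComplex.isoMk (t₃ n) (t₁ (n + 1)) (E (n + 1)) (hδ n) (c1 (n + 1)).symm

end Cat

section Ab

lemma biprod_decomp {M N : AddCommGrpCat.{w}} (y : ↑(M ⊞ N)) :
    y = (biprod.inl : M ⟶ M ⊞ N).hom ((biprod.fst : M ⊞ N ⟶ M).hom y) +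
      (biprod.inr : N ⟶ M ⊞ N).hom ((biprod.snd : M ⊞ N ⟶ N).hom y) := by
  have h := congrArg (fun f : M ⊞ N ⟶ M ⊞ N => f.hom y) (biprod.total (X := M) (Y := N))
  simp only [AddCommGrpCat.hom_add, AddCommGrpCat.hom_comp, AddCommGrpCat.hom_id,
    AddMonoidHom.add_apply, AddMonoidHom.coe_comp, Function.comp_apply, AddMonoidHom.id_apply] at h
  exact h.symm

lemma biprod_ext {M N : AddCommGrpCat.{w}} (y y' : ↑(M ⊞ N))
    (h1 : (biprod.fst : M ⊞ N ⟶ M).hom y = (biprod.fst : M ⊞ N ⟶ M).hom y')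
    (h2 : (biprod.snd : M ⊞ N ⟶ N).hom y = (biprod.snd : M ⊞ N ⟶ N).hom y') : y = y' := by
  rw [biprod_decomp y, biprod_decomp y', h1, h2]

lemma lift_fst_apply {L M N : AddCommGrpCat.{w}} (f : L ⟶ M) (g : L ⟶ N) (x : L) :
    (biprod.fst : M ⊞ N ⟶ M).hom ((biprod.lift f g).hom x) = f.hom x := by
  have h := congrArg (fun k : L ⟶ M => k.hom x) (biprod.lift_fst f g)
  simpa only [AddCommGrpCat.hom_comp, AddMonoidHom.coe_comp, Function.comp_apply] using h

lemma lift_snd_apply {L M N : AddCommGrpCat.{w}} (f : L ⟶ M) (g : L ⟶ N) (x : L) :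
    (biprod.snd : M ⊞ N ⟶ N).hom ((biprod.lift f g).hom x) = g.hom x := by
  have h := congrArg (fun k : L ⟶ N => k.hom x) (biprod.lift_snd f g)
  simpa only [AddCommGrpCat.hom_comp, AddMonoidHom.coe_comp, Function.comp_apply] using h

lemma desc_apply {L M N : AddCommGrpCat.{w}} (f : M ⟶ L) (g : N ⟶ L) (y : ↑(M ⊞ N)) :
    (biprod.desc f g).hom y = f.hom ((biprod.fst : M ⊞ N ⟶ M).hom y) +
      g.hom ((biprod.snd : M ⊞ N ⟶ N).hom y) := by
  have h1 := congrArg (fun k : M ⟶ L => k.hom ((biprod.fst : M ⊞ N ⟶ M).hom y))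
    (biprod.inl_desc f g)
  have h2 := congrArg (fun k : N ⟶ L => k.hom ((biprod.snd : M ⊞ N ⟶ N).hom y))
    (biprod.inr_desc f g)
  simp only [AddCommGrpCat.hom_comp, AddMonoidHom.coe_comp, Function.comp_apply] at h1 h2
  conv_lhs => rw [biprod_decomp y]
  rw [map_add, h1, h2]

/-- the element of the biproduct with given components -/
noncomputable def pair {M N : AddCommGrpCat.{w}} (a : M) (b : N) : ↑(M ⊞ N) :=
  (biprod.inl : M ⟶ M ⊞ N).hom a + (biprod.inr : N ⟶ M ⊞ N).hom b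

lemma fst_pair {M N : AddCommGrpCat.{w}} (a : M) (b : N) :
    (biprod.fst : M ⊞ N ⟶ M).hom (pair a b) = a := by
  have h1 := congrArg (fun k : M ⟶ M => k.hom a) (biprod.inl_fst (X := M) (Y := N))
  have h2 := congrArg (fun k : N ⟶ M => k.hom b) (biprod.inr_fst (X := M) (Y := N))
  simp only [AddCommGrpCat.hom_comp, AddMonoidHom.coe_comp, Function.comp_apply,
    AddCommGrpCat.hom_id, AddMonoidHom.id_apply, AddCommGrpCat.hom_zero,
    AddMonoidHom.zero_apply] at h1 h2
  rw [pair, map_add, h1, h2, add_zero]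

lemma snd_pair {M N : AddCommGrpCat.{w}} (a : M) (b : N) :
    (biprod.snd : M ⊞ N ⟶ N).hom (pair a b) = b := by
  have h1 := congrArg (fun k : M ⟶ N => k.hom a) (biprod.inl_snd (X := M) (Y := N))
  have h2 := congrArg (fun k : N ⟶ N => k.hom b) (biprod.inr_snd (X := M) (Y := N))
  simp only [AddCommGrpCat.hom_comp, AddMonoidHom.coe_comp, Function.comp_apply,
    AddCommGrpCat.hom_id, AddMonoidHom.id_apply, AddCommGrpCat.hom_zero,
    AddMonoidHom.zero_apply] at h1 h2
  rw [pair, map_add, h1, h2, zero_add]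

variable {A : Type u} [Category.{v} A] [Abelian A] [EnoughInjectives A]
  {T₁ T₂ T₂' T₃ : CohDeltaFunctor A AddCommGrpCat.{w} ℕ}
  [PreservesFiniteLimits (T₁.F 0)] [PreservesFiniteLimits (T₂.F 0)]
  [PreservesFiniteLimits (T₂'.F 0)] [PreservesFiniteLimits (T₃.F 0)]
  (h₁ : T₁.IsEffaceable) (h₂ : T₂.IsEffaceable) (h₂' : T₂'.IsEffaceable) (h₃ : T₃.IsEffaceable)
  (α : T₁ ⟶ T₂) (α' : T₁ ⟶ T₂') (β : T₂ ⟶ T₃) (β' : T₂' ⟶ T₃)
  (hw : α.app 0 ≫ β.app 0 = α'.app 0 ≫ β'.app 0)
  (hinj : ∀ (I : A) [Injective I] (x : (T₁.F 0).obj I), ((α.app 0).app I).hom x = 0 →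
    ((α'.app 0).app I).hom x = 0 → x = 0)
  (hmid : ∀ (I : A) [Injective I] (y : (T₂.F 0).obj I) (y' : (T₂'.F 0).obj I),
    ((β.app 0).app I).hom y = ((β'.app 0).app I).hom y' →
      ∃ x : (T₁.F 0).obj I, ((α.app 0).app I).hom x = y ∧ ((α'.app 0).app I).hom x = y')
  (hsurj : ∀ (I : A) [Injective I] (z : (T₃.F 0).obj I),
    ∃ (y : (T₂.F 0).obj I) (y' : (T₂'.F 0).obj I),
      ((β.app 0).app I).hom y - ((β'.app 0).app I).hom y' = z)
  (X : A)

include h₁ h₂ h₂' h₃ hw hinj hmid hsurj in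
theorem main_ab :
    ∃ δ : ∀ n : ℕ, (T₃.F n).obj X →+ (T₁.F (n + 1)).obj X,
      (∀ x : (T₁.F 0).obj X, ((α.app 0).app X).hom x = 0 → ((α'.app 0).app X).hom x = 0 →
        x = 0) ∧
      (∀ (n : ℕ) (x : (T₁.F (n + 1)).obj X),
        (((α.app (n + 1)).app X).hom x = 0 ∧ ((α'.app (n + 1)).app X).hom x = 0) ↔
          ∃ z, δ n z = x) ∧
      (∀ (n : ℕ) (y : (T₂.F n).obj X) (y' : (T₂'.F n).obj X),
        ((β.app n).app X).hom y - ((β'.app n).app X).hom y' = 0 ↔
          ∃ x : (T₁.F n).obj X, ((α.app n).app X).hom x = y ∧ ((α'.app n).app X).hom x = y') ∧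
      (∀ (n : ℕ) (z : (T₃.F n).obj X), δ n z = 0 ↔
        ∃ (y : (T₂.F n).obj X) (y' : (T₂'.F n).obj X),
          ((β.app n).app X).hom y - ((β'.app n).app X).hom y' = z) := by
  have hdesc : ∀ (n : ℕ) (Y : A) (y : ↑((T₂.F n).obj Y ⊞ (T₂'.F n).obj Y)),
      (biprod.desc ((β.app n).app Y) (-((β'.app n).app Y))).hom y =
        ((β.app n).app Y).hom
          ((biprod.fst : (T₂.F n).obj Y ⊞ (T₂'.F n).obj Y ⟶ (T₂.F n).obj Y).hom y) -
        ((β'.app n).app Y).hom
          ((biprod.snd : (T₂.F n).obj Y ⊞ (T₂'.F n).obj Y ⟶ (T₂'.F n).obj Y).hom y) := by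
    intro n Y y
    rw [desc_apply, AddCommGrpCat.hom_neg, AddMonoidHom.neg_apply, sub_eq_add_neg]
  have hse : ∀ (I : A) [Injective I]
      (w : biprod.lift ((α.app 0).app I) ((α'.app 0).app I) ≫
        biprod.desc ((β.app 0).app I) (-((β'.app 0).app I)) = 0),
      (ShortComplex.mk _ _ w).ShortExact := by
    intro I _ w
    refine { exact := ?_, mono_f := ?_, epi_g := ?_ }
    · rw [ShortComplex.ab_exact_iff]
      intro y hy
      change (biprod.desc ((β.app 0).app I) (-((β'.app 0).app I))).hom y = 0 at hy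
      rw [hdesc, sub_eq_zero] at hy
      obtain ⟨x, hx1, hx2⟩ := hmid I _ _ hy
      refine ⟨x, ?_⟩
      change (biprod.lift ((α.app 0).app I) ((α'.app 0).app I)).hom x = y
      apply biprod_ext
      · rw [lift_fst_apply, hx1]
      · rw [lift_snd_apply, hx2]
    · change Mono (biprod.lift ((α.app 0).app I) ((α'.app 0).app I))
      rw [AddCommGrpCat.mono_iff_injective, injective_iff_map_eq_zero]
      intro x hx
      change (biprod.lift ((α.app 0).app I) ((α'.app 0).app I)).hom x = 0 at hx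
      apply hinj I x
      · rw [← lift_fst_apply ((α.app 0).app I) ((α'.app 0).app I), hx, map_zero]
      · rw [← lift_snd_apply ((α.app 0).app I) ((α'.app 0).app I), hx, map_zero]
    · change Epi (biprod.desc ((β.app 0).app I) (-((β'.app 0).app I)))
      rw [AddCommGrpCat.epi_iff_surjective]
      intro z
      obtain ⟨y, y', hyy⟩ := hsurj I z
      refine ⟨pair y y', ?_⟩
      change (biprod.desc ((β.app 0).app I) (-((β'.app 0).app I))).hom (pair y y') = z
      rw [hdesc, fst_pair, snd_pair, hyy]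
  obtain ⟨δ, hmono, hex⟩ := main h₁ h₂ h₂' h₃ α α' β β' hw hse X
  refine ⟨fun n => (δ n).hom, ?_, ?_, ?_, ?_⟩
  · intro x hx1 hx2
    rw [AddCommGrpCat.mono_iff_injective, injective_iff_map_eq_zero] at hmono
    apply hmono
    change (biprod.lift ((α.app 0).app X) ((α'.app 0).app X)).hom x = 0
    apply biprod_ext
    · rw [lift_fst_apply, hx1, map_zero]
    · rw [lift_snd_apply, hx2, map_zero]
  · intro n x
    obtain ⟨w, hw3⟩ := (hex n).2.2
    rw [ShortComplex.ab_exact_iff] at hw3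
    constructor
    · rintro ⟨hx1, hx2⟩
      obtain ⟨z, hz⟩ := hw3 x (by
        change (biprod.lift ((α.app (n + 1)).app X) ((α'.app (n + 1)).app X)).hom x = 0
        apply biprod_ext
        · rw [lift_fst_apply, hx1, map_zero]
        · rw [lift_snd_apply, hx2, map_zero])
      exact ⟨z, hz⟩
    · rintro ⟨z, rfl⟩
      have h0 := congrArg (fun k : (T₃.F n).obj X ⟶ _ => k.hom z) w
      change (biprod.lift ((α.app (n + 1)).app X) ((α'.app (n + 1)).app X)).hom ((δ n).hom z) = 0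
        at h0
      constructor
      · rw [← lift_fst_apply ((α.app (n + 1)).app X) ((α'.app (n + 1)).app X), h0, map_zero]
      · rw [← lift_snd_apply ((α.app (n + 1)).app X) ((α'.app (n + 1)).app X), h0, map_zero]
  · intro n y y'
    obtain ⟨w, hw1⟩ := (hex n).1
    rw [ShortComplex.ab_exact_iff] at hw1
    constructor
    · intro h
      obtain ⟨x, hx⟩ := hw1 (pair y y') (by
        change (biprod.desc ((β.app n).app X) (-((β'.app n).app X))).hom (pair y y') = 0
        rw [hdesc, fst_pair, snd_pair, h])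
      change (biprod.lift ((α.app n).app X) ((α'.app n).app X)).hom x = pair y y' at hx
      refine ⟨x, ?_, ?_⟩
      · rw [← lift_fst_apply ((α.app n).app X) ((α'.app n).app X), hx, fst_pair]
      · rw [← lift_snd_apply ((α.app n).app X) ((α'.app n).app X), hx, snd_pair]
    · rintro ⟨x, rfl, rfl⟩
      have h0 := congrArg (fun k : (T₁.F n).obj X ⟶ _ => k.hom x) w
      change (biprod.desc ((β.app n).app X) (-((β'.app n).app X))).hom
        ((biprod.lift ((α.app n).app X) ((α'.app n).app X)).hom x) = 0 at h0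
      rw [hdesc, lift_fst_apply, lift_snd_apply] at h0
      exact h0
  · intro n z
    obtain ⟨w, hw2⟩ := (hex n).2.1
    rw [ShortComplex.ab_exact_iff] at hw2
    constructor
    · intro h
      obtain ⟨y, hy⟩ := hw2 z h
      change (biprod.desc ((β.app n).app X) (-((β'.app n).app X))).hom y = z at hy
      rw [hdesc] at hy
      exact ⟨_, _, hy⟩
    · rintro ⟨y, y', rfl⟩
      have h0 := congrArg (fun k : ((T₂.F n).obj X ⊞ (T₂'.F n).obj X : AddCommGrpCat.{w}) ⟶ _ =>
        k.hom (pair y y')) w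
      change (δ n).hom ((biprod.desc ((β.app n).app X) (-((β'.app n).app X))).hom (pair y y')) = 0
        at h0
      rw [hdesc, fst_pair, snd_pair] at h0
      exact h0

end Ab

end Groth.Agent.Helper3.MVAbs2
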