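import Mathlib
import Groth.Agent.Lib.Helper3.EtMV2
import Groth.Agent.Lib.Helper3.MVAbs2

/-!
# The Mayer–Vietoris short exact sequence of sections of an injective étale sheaf
-/

set_option autoImplicit false
universe u
open CategoryTheory CategoryTheory.Limits AlgebraicGeometry Opposite Abelian

namespace Groth.Agent.Helper3.EtMV3

open EtMV1 EtMV2 EtCore

section ExtZero
universe w' v' u'
variable {𝒜 : Type u'} [Category.{v'} 𝒜] [Abelian 𝒜] [HasExt.{w'} 𝒜] (Z : 𝒜)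

instance preservesFiniteLimits_extFunctorObj_zero :
    PreservesFiniteLimits (extFunctorObj.{w'} Z 0) := by
  rw [Functor.preservesFiniteLimits_iff_forall_exact_map_and_mono]
  intro S hS
  refine ⟨(ExtDelta.extDelta Z).exact₂ S hS 0, ?_⟩
  haveI := hS.mono_f
  rw [AddCommGrpCat.mono_iff_injective, injective_iff_map_eq_zero]
  intro x hx
  change x.comp (Ext.mk₀ S.f) (add_zero 0) = 0 at hx
  obtain ⟨e, rfl⟩ := (Ext.mk₀_bijective _ _).2 x
  rw [Ext.mk₀_comp_mk₀] at hx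
  have h2 : e ≫ S.f = 0 := by
    apply (Ext.mk₀_bijective _ _).1
    rw [hx, Ext.mk₀_zero]
  have h3 : e = 0 := by rw [← cancel_mono S.f, h2, zero_comp]
  rw [h3]
  exact Ext.mk₀_zero (X := Z) (Y := S.X₁)

end ExtZero

section Glue
universe v₁ u₁ w
variable {C : Type u₁} [Category.{v₁} C] {J : GrothendieckTopology C}
  (I : Sheaf J AddCommGrpCat.{w}) {A B₁ B₂ C' : C} (f₁ : B₁ ⟶ A) (f₂ : B₂ ⟶ A) (m : C' ⟶ B₂)
  (hcov : Sieve.ofTwoArrows f₁ f₂ ∈ J A)

include hcov in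
/-- separatedness for a covering by two arrows -/
lemma sep (a : I.obj.obj (op A)) (h1 : (I.obj.map f₁.op).hom a = 0)
    (h2 : (I.obj.map f₂.op).hom a = 0) : a = 0 := by
  let K : AddSubgroup (I.obj.obj (op A)) := (I.obj.map f₁.op).hom.ker ⊓ (I.obj.map f₂.op).hom.ker
  let x : AddCommGrpCat.of K ⟶ I.obj.obj (op A) := AddCommGrpCat.ofHom K.subtype
  have hx : x = 0 := by
    apply I.2.hom_ext_ofArrows _ hcov
    rintro (_ | _)
    · rw [zero_comp]
      ext ⟨b, hb⟩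
      exact hb.1
    · rw [zero_comp]
      ext ⟨b, hb⟩
      exact hb.2
  have := congrArg (fun k : AddCommGrpCat.of K ⟶ I.obj.obj (op A) => k.hom ⟨a, ⟨h1, h2⟩⟩) hx
  exact this

include hcov in
/-- gluing a section over `B₂` vanishing on `C'` with the zero section over `B₁` -/
lemma glue [Mono f₁] [Mono f₂]
    (hfac : ∀ (T : C) (_ : T ⟶ B₁) (q : T ⟶ B₂), ∃ q' : T ⟶ C', q' ≫ m = q)
    (b : I.obj.obj (op B₂)) (hb : (I.obj.map m.op).hom b = 0) :
    ∃ a : I.obj.obj (op A), (I.obj.map f₁.op).hom a = 0 ∧ (I.obj.map f₂.op).hom a = b := by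
  let K : AddSubgroup (I.obj.obj (op B₂)) := (I.obj.map m.op).hom.ker
  let x₂ : AddCommGrpCat.of K ⟶ I.obj.obj (op B₂) := AddCommGrpCat.ofHom K.subtype
  have hx₂ : x₂ ≫ I.obj.map m.op = 0 := by
    ext ⟨c, hc⟩
    exact hc
  have hq : ∀ (T : C) (_ : T ⟶ B₁) (q : T ⟶ B₂), x₂ ≫ I.obj.map q.op = 0 := by
    intro T p q
    obtain ⟨q', rfl⟩ := hfac T p q
    rw [op_comp, Functor.map_comp, ← Category.assoc, hx₂, zero_comp]
  let G : AddCommGrpCat.of K ⟶ I.obj.obj (op A) :=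
    I.2.amalgamateOfArrows _ hcov
      (fun j => WalkingPair.casesOn j (0 : AddCommGrpCat.of K ⟶ I.obj.obj (op B₁)) x₂)
      (fun T => by
        rintro (_ | _) (_ | _) p q fac
        · change (0 : AddCommGrpCat.of K ⟶ I.obj.obj (op B₁)) ≫ _ = 0 ≫ _
          rw [zero_comp, zero_comp]
        · change (0 : AddCommGrpCat.of K ⟶ I.obj.obj (op B₁)) ≫ _ = x₂ ≫ _
          rw [zero_comp]
          exact (hq T p q).symm
        · change x₂ ≫ _ = (0 : AddCommGrpCat.of K ⟶ I.obj.obj (op B₁)) ≫ _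
          rw [zero_comp]
          exact hq T q p
        · change x₂ ≫ I.obj.map p.op = x₂ ≫ I.obj.map q.op
          have : p = q := (cancel_mono f₂).1 fac
          rw [this])
  have hG1 : G ≫ I.obj.map f₁.op = 0 :=
    I.2.amalgamateOfArrows_map _ hcov _ _ WalkingPair.left
  have hG2 : G ≫ I.obj.map f₂.op = x₂ :=
    I.2.amalgamateOfArrows_map _ hcov _ _ WalkingPair.right
  refine ⟨G.hom ⟨b, hb⟩, ?_, ?_⟩
  · exact congrArg (fun k : AddCommGrpCat.of K ⟶ _ => k.hom ⟨b, hb⟩) hG1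
  · exact congrArg (fun k : AddCommGrpCat.of K ⟶ _ => k.hom ⟨b, hb⟩) hG2

end Glue

section OpenImm

variable {X U : Scheme.{u}} (j : U ⟶ X) [IsOpenImmersion j]

lemma bang_left : (bang j).left = j := by
  have h : (bang j).left ≫ 𝟙 X = 𝟙 U ≫ j := MorphismProperty.Over.w (bang j)
  exact (Category.comp_id _).symm.trans (h.trans (Category.id_comp j))

instance mono_bang : Mono (bang j) := by
  have h : Mono ((Scheme.Etale.forget X ⋙ Over.forget X).map (bang j)) := by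
    change Mono (bang j).left
    rw [bang_left]
    exact (inferInstance : Mono j)
  exact (Scheme.Etale.forget X ⋙ Over.forget X).mono_of_mono_map h

variable [PreservesFiniteLimits (EtCoh.pull j)]

/-- on an injective sheaf, the pullback map in degree zero is surjective -/
lemma hp_surjective (I : EtCoh.Ab X) [Injective I] : Function.Surjective (hp j I 0) := by
  intro y
  obtain ⟨a, ha⟩ := Groth.Agent.Helper3.EdgeOutIso.surjective_of_injective
    X.smallEtaleTopology I (bang j) (ρ j I y)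
  refine ⟨(ev X I).symm a, ?_⟩
  apply (ρ_bijective j I).1
  rw [r_square, AddEquiv.apply_symm_apply]
  exact ha

end OpenImm

section Via

variable {X U W : Scheme.{u}} (g : W ⟶ U) (t : U ⟶ X) (f₀ : W ⟶ X) (w : g ≫ t = f₀)
  [PreservesFiniteLimits (EtCoh.pull g)] [PreservesFiniteLimits (EtCoh.pull t)]
  [PreservesFiniteLimits (EtCoh.pull f₀)]

lemma comp_iso_hom_inv {𝒜 : Type*} [Category 𝒜] [Abelian 𝒜] [HasExt 𝒜] {Z A B : 𝒜} (φ : A ≅ B)
    (n : ℕ) (e : Ext Z A n) :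
    (e.comp (Ext.mk₀ φ.hom) (add_zero n)).comp (Ext.mk₀ φ.inv) (add_zero n) = e := by
  rw [Ext.comp_assoc_of_third_deg_zero, Ext.mk₀_comp_mk₀, Iso.hom_inv_id, Ext.comp_mk₀_id]

lemma comp_iso_inv_hom {𝒜 : Type*} [Category 𝒜] [Abelian 𝒜] [HasExt 𝒜] {Z A B : 𝒜} (φ : A ≅ B)
    (n : ℕ) (e : Ext Z B n) :
    (e.comp (Ext.mk₀ φ.inv) (add_zero n)).comp (Ext.mk₀ φ.hom) (add_zero n) = e := by
  rw [Ext.comp_assoc_of_third_deg_zero, Ext.mk₀_comp_mk₀, Iso.inv_hom_id, Ext.comp_mk₀_id]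

omit [PreservesFiniteLimits (EtCoh.pull t)] [PreservesFiniteLimits (EtCoh.pull f₀)] in
lemma hp_eq_zero_of_hpVia (F : EtCoh.Ab X) (n : ℕ)
    (x : Ext (EtCoh.const U ℤ) ((EtCoh.pull t).obj F) n) (h : hpVia g t f₀ w F n x = 0) :
    hp g ((EtCoh.pull t).obj F) n x = 0 := by
  rw [hpVia_apply] at h
  have h2 := comp_iso_hom_inv ((φ g t f₀ w).app F) n (hp g ((EtCoh.pull t).obj F) n x)
  rw [h, Ext.zero_comp] at h2
  exact h2.symm

omit [PreservesFiniteLimits (EtCoh.pull f₀)] in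
lemma hpVia_surjective [IsOpenImmersion g] [IsOpenImmersion t] (I : EtCoh.Ab X) [Injective I] :
    Function.Surjective (hpVia g t f₀ w I 0) := by
  intro z
  haveI : Injective ((EtCoh.pull t).obj I) := Groth.Agent.S0623.injective_pull t I
  obtain ⟨y, hy⟩ := hp_surjective g ((EtCoh.pull t).obj I)
    (z.comp (Ext.mk₀ ((φ g t f₀ w).app I).inv) (add_zero 0))
  refine ⟨y, ?_⟩
  rw [hpVia_apply, hy]
  exact comp_iso_inv_hom ((φ g t f₀ w).app I) 0 z

end Via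

section Opens

variable {X : Scheme.{u}} (U V : X.Opens)

/-- the inclusion of the intersection into `U` -/
noncomputable abbrev gU : (↑(U ⊓ V) : Scheme.{u}) ⟶ ↑U := X.homOfLE inf_le_left

/-- the inclusion of the intersection into `V` -/
noncomputable abbrev gV : (↑(U ⊓ V) : Scheme.{u}) ⟶ ↑V := X.homOfLE inf_le_right

/-- the object `U ∩ V ⟶ V ⟶ X` of the small étale site of `X` -/
noncomputable abbrev objW : X.Etale := (EtShriek.compEtale V.ι).obj (obj (gV U V))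

/-- the map from `U ∩ V` to `V` in the small étale site of `X` -/
noncomputable abbrev mW : objW U V ⟶ obj V.ι := (EtShriek.compEtale V.ι).map (bang (gV U V))

lemma hcov (hUV : U ⊔ V = ⊤) :
    Sieve.ofTwoArrows (bang U.ι) (bang V.ι) ∈ X.smallEtaleTopology (EtCoh.top X) := by
  have eX : X.smallEtaleTopology =
      (X.smallPretopology (P := EtCoh.etaleMP) (Q := EtCoh.etaleMP)).toGrothendieck :=
    Scheme.smallGrothendieckTopology_eq_toGrothendieck_smallPretopology X le_rfl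
  rw [eX]
  refine (Scheme.mem_toGrothendieck_smallPretopology (EtCoh.top X) _).2 ?_
  intro x
  have hx : (x : X) ∈ ((U ⊔ V : X.Opens) : Set X) := by
    rw [hUV]
    trivial
  rw [TopologicalSpace.Opens.coe_sup] at hx
  rcases hx with hx | hx
  · refine ⟨obj U.ι, bang U.ι, (⟨x, hx⟩ : ↑U), Sieve.ofArrows_mk _ _ WalkingPair.left, ?_, ?_⟩
    · rw [bang_left]
      exact (inferInstance : Etale U.ι)
    · rw [bang_left]
      rfl
  · refine ⟨obj V.ι, bang V.ι, (⟨x, hx⟩ : ↑V), Sieve.ofArrows_mk _ _ WalkingPair.right, ?_, ?_⟩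
    · rw [bang_left]
      exact (inferInstance : Etale V.ι)
    · rw [bang_left]
      rfl

lemma hfac (T : X.Etale) (p : T ⟶ obj U.ι) (q : T ⟶ obj V.ι) :
    ∃ q' : T ⟶ objW U V, q' ≫ mW U V = q := by
  have hp : p.left ≫ U.ι = T.hom := by
    have h : p.left ≫ (𝟙 _ ≫ U.ι) = T.hom := MorphismProperty.Over.w p
    rwa [Category.id_comp] at h
  have hq : q.left ≫ V.ι = T.hom := by
    have h : q.left ≫ (𝟙 _ ≫ V.ι) = T.hom := MorphismProperty.Over.w q
    rwa [Category.id_comp] at h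
  have hrange : Set.range T.hom ⊆ Set.range (U ⊓ V).ι := by
    rw [Scheme.Opens.range_ι]
    rintro _ ⟨z, rfl⟩
    refine ⟨?_, ?_⟩
    · rw [← hp]
      exact (p.left z).2
    · rw [← hq]
      exact (q.left z).2
  let r : T.left ⟶ ↑(U ⊓ V) := IsOpenImmersion.lift (U ⊓ V).ι T.hom hrange
  have hr : r ≫ (U ⊓ V).ι = T.hom := IsOpenImmersion.lift_fac _ _ _
  have hr2 : r ≫ gV U V = q.left := by
    rw [← cancel_mono V.ι, Category.assoc, X.homOfLE_ι, hr]
    exact hq.symm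
  have hw : r ≫ (objW U V).hom = T.hom := by
    change r ≫ ((𝟙 _ ≫ gV U V) ≫ V.ι) = T.hom
    rw [Category.id_comp, X.homOfLE_ι, hr]
  refine ⟨MorphismProperty.Over.homMk r hw, ?_⟩
  apply MorphismProperty.Over.Hom.ext
  change r ≫ (bang (gV U V)).left = q.left
  rw [bang_left]
  exact hr2

variable [PreservesFiniteLimits (EtCoh.pull U.ι)] [PreservesFiniteLimits (EtCoh.pull V.ι)]
  [PreservesFiniteLimits (EtCoh.pull (gU U V))] [PreservesFiniteLimits (EtCoh.pull (gV U V))]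

lemma wU : gU U V ≫ U.ι = (U ⊓ V).ι := X.homOfLE_ι _

lemma wV : gV U V ≫ V.ι = (U ⊓ V).ι := X.homOfLE_ι _

/-- the two relative pullback maps from `X` to `U ∩ V` agree in degree zero -/
lemma hw_nat :
    (rNat U.ι).app 0 ≫ (sNat (gU U V) U.ι (U ⊓ V).ι (wU U V)).app 0 =
      (rNat V.ι).app 0 ≫ (sNat (gV U V) V.ι (U ⊓ V).ι (wV U V)).app 0 := by
  ext F x
  change hpVia (gU U V) U.ι (U ⊓ V).ι (wU U V) F 0 (hp U.ι F 0 x) =
    hpVia (gV U V) V.ι (U ⊓ V).ι (wV U V) F 0 (hp V.ι F 0 x)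
  rw [hpVia_hp, hpVia_hp]

variable (hUV : U ⊔ V = ⊤) (I : EtCoh.Ab X) [Injective I]

include hUV in
lemma hinj (x : Ext (EtCoh.const X ℤ) I 0) (h1 : hp U.ι I 0 x = 0) (h2 : hp V.ι I 0 x = 0) :
    x = 0 := by
  have a1 : (I.obj.map (bang U.ι).op).hom (ev X I x) = 0 := by
    rw [← r_square, h1, map_zero]
  have a2 : (I.obj.map (bang V.ι).op).hom (ev X I x) = 0 := by
    rw [← r_square, h2, map_zero]
  have h := sep I (bang U.ι) (bang V.ι) (hcov U V hUV) _ a1 a2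
  exact (ev X I).map_eq_zero_iff.1 h

include hUV in
lemma hmid (y : Ext (EtCoh.const (↑U : Scheme.{u}) ℤ) ((EtCoh.pull U.ι).obj I) 0)
    (y' : Ext (EtCoh.const (↑V : Scheme.{u}) ℤ) ((EtCoh.pull V.ι).obj I) 0)
    (h : hpVia (gU U V) U.ι (U ⊓ V).ι (wU U V) I 0 y =
      hpVia (gV U V) V.ι (U ⊓ V).ι (wV U V) I 0 y') :
    ∃ x : Ext (EtCoh.const X ℤ) I 0, hp U.ι I 0 x = y ∧ hp V.ι I 0 x = y' := by
  obtain ⟨x₁, hx₁⟩ := hp_surjective U.ι I y
  have hz : hpVia (gV U V) V.ι (U ⊓ V).ι (wV U V) I 0 (y' - hp V.ι I 0 x₁) = 0 := by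
    rw [map_sub, ← h, ← hx₁, hpVia_hp, hpVia_hp, sub_self]
  have hz2 := hp_eq_zero_of_hpVia (gV U V) V.ι (U ⊓ V).ι (wV U V) I 0 _ hz
  have hz3 : (((EtCoh.pull V.ι).obj I).obj.map (bang (gV U V)).op).hom
      (ev (↑V) _ (y' - hp V.ι I 0 x₁)) = 0 := by
    rw [← r_square (gV U V) ((EtCoh.pull V.ι).obj I), hz2, map_zero]
  have hz4 := κ_naturality V.ι I (bang (gV U V)) (ev (↑V) _ (y' - hp V.ι I 0 x₁))
  rw [hz3, map_zero] at hz4
  have hb : (I.obj.map (mW U V).op).hom (ρ V.ι I (y' - hp V.ι I 0 x₁)) = 0 := hz4.symm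
  obtain ⟨a, ha1, ha2⟩ := glue I (bang U.ι) (bang V.ι) (mW U V) (hcov U V hUV) (hfac U V) _ hb
  have e1 : hp U.ι I 0 ((ev X I).symm a) = 0 := by
    apply (ρ_bijective U.ι I).1
    rw [r_square, AddEquiv.apply_symm_apply, ha1, map_zero]
  have e2 : hp V.ι I 0 ((ev X I).symm a) = y' - hp V.ι I 0 x₁ := by
    apply (ρ_bijective V.ι I).1
    rw [r_square, AddEquiv.apply_symm_apply, ha2]
  refine ⟨x₁ + (ev X I).symm a, ?_, ?_⟩
  · rw [map_add, hx₁, e1, add_zero]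
  · rw [map_add, e2]
    abel

lemma hsurj (z : Ext (EtCoh.const (↑(U ⊓ V) : Scheme.{u}) ℤ) ((EtCoh.pull (U ⊓ V).ι).obj I) 0) :
    ∃ y : Ext (EtCoh.const (↑U : Scheme.{u}) ℤ) ((EtCoh.pull U.ι).obj I) 0,
      hpVia (gU U V) U.ι (U ⊓ V).ι (wU U V) I 0 y = z :=
  hpVia_surjective (gU U V) U.ι (U ⊓ V).ι (wU U V) I z

end Opens

section Main

instance pfl_TX (X : Scheme.{u}) : PreservesFiniteLimits ((TX X).F 0) :=
  inferInstanceAs (PreservesFiniteLimits (extFunctorObj (EtCoh.const X ℤ) 0))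

instance pfl_TH {X Y : Scheme.{u}} (f : Y ⟶ X) [PreservesFiniteLimits (EtCoh.pull f)] :
    PreservesFiniteLimits ((TH f).F 0) :=
  inferInstanceAs (PreservesFiniteLimits (EtCoh.pull f ⋙ extFunctorObj (EtCoh.const Y ℤ) 0))

variable {X : Scheme.{u}} (U V : X.Opens)
  [PreservesFiniteLimits (EtCoh.pull U.ι)] [PreservesFiniteLimits (EtCoh.pull V.ι)]
  [PreservesFiniteLimits (EtCoh.pull (gU U V))] [PreservesFiniteLimits (EtCoh.pull (gV U V))]
  (hUV : U ⊔ V = ⊤) (F : EtCoh.Ab X)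

include hUV in
/-- the étale Mayer–Vietoris sequence, in terms of the maps `hp`, `hpVia` -/
theorem mv_pure :
    ∃ δ : ∀ n : ℕ, Ext (EtCoh.const (↑(U ⊓ V) : Scheme.{u}) ℤ) ((EtCoh.pull (U ⊓ V).ι).obj F) n →+
        Ext (EtCoh.const X ℤ) F (n + 1),
      (∀ x : Ext (EtCoh.const X ℤ) F 0, hp U.ι F 0 x = 0 → hp V.ι F 0 x = 0 → x = 0) ∧
      (∀ (n : ℕ) (x : Ext (EtCoh.const X ℤ) F (n + 1)),
        (hp U.ι F (n + 1) x = 0 ∧ hp V.ι F (n + 1) x = 0) ↔ ∃ z, δ n z = x) ∧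
      (∀ (n : ℕ) (y : Ext (EtCoh.const (↑U : Scheme.{u}) ℤ) ((EtCoh.pull U.ι).obj F) n)
        (y' : Ext (EtCoh.const (↑V : Scheme.{u}) ℤ) ((EtCoh.pull V.ι).obj F) n),
        hpVia (gU U V) U.ι (U ⊓ V).ι (wU U V) F n y -
            hpVia (gV U V) V.ι (U ⊓ V).ι (wV U V) F n y' = 0 ↔
          ∃ x : Ext (EtCoh.const X ℤ) F n, hp U.ι F n x = y ∧ hp V.ι F n x = y') ∧
      (∀ (n : ℕ) (z : Ext (EtCoh.const (↑(U ⊓ V) : Scheme.{u}) ℤ)
          ((EtCoh.pull (U ⊓ V).ι).obj F) n), δ n z = 0 ↔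
        ∃ (y : Ext (EtCoh.const (↑U : Scheme.{u}) ℤ) ((EtCoh.pull U.ι).obj F) n)
          (y' : Ext (EtCoh.const (↑V : Scheme.{u}) ℤ) ((EtCoh.pull V.ι).obj F) n),
          hpVia (gU U V) U.ι (U ⊓ V).ι (wU U V) F n y -
            hpVia (gV U V) V.ι (U ⊓ V).ι (wV U V) F n y' = z) := by
  have h := MVAbs2.main_ab (TX_eff X) (TH_eff U.ι) (TH_eff V.ι) (TH_eff (U ⊓ V).ι)
    (rNat U.ι) (rNat V.ι) (sNat (gU U V) U.ι (U ⊓ V).ι (wU U V))
    (sNat (gV U V) V.ι (U ⊓ V).ι (wV U V)) (hw_nat U V)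
    (fun I _ x h1 h2 => hinj U V hUV I x h1 h2)
    (fun I _ y y' h => hmid U V hUV I y y' h)
    (fun I _ z => by
      obtain ⟨y, hy⟩ := hsurj U V I z
      refine ⟨y, 0, ?_⟩
      rw [map_zero, sub_zero]
      exact hy) F
  exact h

end Main

end Groth.Agent.Helper3.EtMV3
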