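import Mathlib
import Groth.Agent.Lib.Helper3.EtMV3

/-!
# The étale Mayer–Vietoris sequence: final form, and the comparison with the prelude's pullback maps
-/

set_option autoImplicit false
universe u
open CategoryTheory CategoryTheory.Limits AlgebraicGeometry Opposite Abelian

namespace Groth.Agent.Helper3.EtMV4

open EtMV1 EtMV2 EtMV3 EtCore

section Final

variable {X : Scheme.{u}} (U V : X.Opens)
  [PreservesFiniteLimits (EtCoh.pull U.ι)] [PreservesFiniteLimits (EtCoh.pull V.ι)]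
  [PreservesFiniteLimits (EtCoh.pull (gU U V))] [PreservesFiniteLimits (EtCoh.pull (gV U V))]
  (hUV : U ⊔ V = ⊤) (F : EtCoh.Ab X)

include hUV in
theorem mv_final :
    ∃ δ : ∀ n : ℕ, Ext (EtCoh.const (↑(U ⊓ V) : Scheme.{u}) ℤ) ((EtCoh.pull (U ⊓ V).ι).obj F) n →+
        Ext (EtCoh.const X ℤ) F (n + 1),
      (AddMonoidHom.prod (hp U.ι F 0) (hp V.ι F 0)).ker = ⊥ ∧
      (∀ n : ℕ, (AddMonoidHom.prod (hp U.ι F (n + 1)) (hp V.ι F (n + 1))).ker = (δ n).range) ∧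
      (∀ n : ℕ, ((hpVia (gU U V) U.ι (U ⊓ V).ι (wU U V) F n).comp (AddMonoidHom.fst _ _) -
          (hpVia (gV U V) V.ι (U ⊓ V).ι (wV U V) F n).comp (AddMonoidHom.snd _ _)).ker =
        (AddMonoidHom.prod (hp U.ι F n) (hp V.ι F n)).range) ∧
      (∀ n : ℕ, (δ n).ker =
        ((hpVia (gU U V) U.ι (U ⊓ V).ι (wU U V) F n).comp (AddMonoidHom.fst _ _) -
          (hpVia (gV U V) V.ι (U ⊓ V).ι (wV U V) F n).comp (AddMonoidHom.snd _ _)).range) := by
  obtain ⟨δ, h0, h1, h2, h3⟩ := mv_pure U V hUV F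
  refine ⟨δ, ?_, ?_, ?_, ?_⟩
  · rw [eq_bot_iff]
    intro x hx
    rw [AddMonoidHom.mem_ker, AddMonoidHom.prod_apply, Prod.mk_eq_zero] at hx
    exact (AddSubgroup.mem_bot).2 (h0 x hx.1 hx.2)
  · intro n
    ext x
    rw [AddMonoidHom.mem_ker, AddMonoidHom.prod_apply, Prod.mk_eq_zero, AddMonoidHom.mem_range]
    exact h1 n x
  · intro n
    ext ⟨y, y'⟩
    rw [AddMonoidHom.mem_ker, AddMonoidHom.mem_range, AddMonoidHom.sub_apply,
      AddMonoidHom.comp_apply, AddMonoidHom.comp_apply, AddMonoidHom.coe_fst, AddMonoidHom.coe_snd]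
    refine (h2 n y y').trans ?_
    constructor
    · rintro ⟨x, hx1, hx2⟩
      exact ⟨x, by rw [AddMonoidHom.prod_apply, hx1, hx2]⟩
    · rintro ⟨x, hx⟩
      rw [AddMonoidHom.prod_apply, Prod.mk.injEq] at hx
      exact ⟨x, hx.1, hx.2⟩
  · intro n
    ext z
    rw [AddMonoidHom.mem_ker, AddMonoidHom.mem_range]
    refine (h3 n z).trans ?_
    constructor
    · rintro ⟨y, y', h⟩
      exact ⟨(y, y'), h⟩
    · rintro ⟨⟨y, y'⟩, h⟩
      exact ⟨y, y', h⟩

end Final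

section Bridge

variable {X Y : Scheme.{u}} (f : Y ⟶ X) [PreservesFiniteLimits (EtCoh.pull f)]

theorem Hpull_eq_hp (G : EtCoh.Ab X) (n : ℕ) : EtCore.Hpull f G n = hp f G n := rfl

variable {W U : Scheme.{u}} (g : W ⟶ U) (t : U ⟶ X) (f₀ : W ⟶ X) (w : g ≫ t = f₀)
  [PreservesFiniteLimits (EtCoh.pull g)]

theorem HpullVia_eq_hpVia (F : EtCoh.Ab X) (n : ℕ) :
    EtCore.HpullVia g t f₀ w F n = hpVia g t f₀ w F n := rfl

end Bridge

end Groth.Agent.Helper3.EtMV4
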