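import Mathlib
import Groth.Agent.Lib.Helper3.CartSm2

/-! Etale slices through a point of a smooth algebra: ring-level preparations (helper3). -/

set_option autoImplicit false
set_option backward.isDefEq.respectTransparency.types false
set_option synthInstance.maxHeartbeats 400000
universe u
namespace Groth.Agent.Helper3.EtSlice

open TensorProduct KaehlerDifferential

section NeZero

variable (A B K : Type u) [CommRing A] [CommRing B] [Field K] [Algebra A B] [Algebra A K]
  [Algebra B K] [IsScalarTower A B K]

/-- `K` is the "fraction field of the image of `B`" -/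
def IsFrac : Prop :=
  ∀ c : K, ∃ b s : B, algebraMap B K s ≠ 0 ∧ c * algebraMap B K s = algebraMap B K b

set_option maxHeartbeats 1000000 in
/-- if the fibre of the differentials at the point is nonzero, some element vanishing at the point
has nonzero differential there -/
theorem exists_D_ne_zero [Algebra.FormallyUnramified A K] (hK : IsFrac B K)
    (hV : Nontrivial (K ⊗[B] Ω[B⁄A])) :
    ∃ y : B, algebraMap B K y = 0 ∧ (1 : K) ⊗ₜ[B] D A B y ≠ 0 := by
  by_contra hcon
  push Not at hcon
  set q : Ideal B := RingHom.ker (algebraMap B K) with hq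
  haveI : q.IsPrime := RingHom.ker_isPrime _
  have hunit : ∀ y : q.primeCompl, IsUnit (algebraMap B K y) := fun y =>
    IsUnit.mk0 _ (fun h => y.2 (RingHom.mem_ker.mpr h))
  let O := Localization.AtPrime q
  letI algOK : Algebra O K := (IsLocalization.lift (M := q.primeCompl) hunit).toAlgebra
  haveI : IsScalarTower B O K := IsScalarTower.of_algebraMap_eq' (IsLocalization.lift_comp _).symm
  haveI : IsScalarTower A O K := IsScalarTower.of_algebraMap_eq (fun a => by
    rw [IsScalarTower.algebraMap_apply A B K, IsScalarTower.algebraMap_apply A B O,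
      ← IsScalarTower.algebraMap_apply B O K])
  have hsurj : Function.Surjective (algebraMap O K) := by
    intro c
    obtain ⟨b, s, hs, hc⟩ := hK c
    refine ⟨IsLocalization.mk' O b (⟨s, fun h => hs (RingHom.mem_ker.mp h)⟩ : q.primeCompl), ?_⟩
    show IsLocalization.lift hunit _ = c
    rw [IsLocalization.lift_mk'_spec]
    rw [← hc, mul_comm]
  haveI : Algebra.FormallyEtale B O := Algebra.FormallyEtale.of_isLocalization q.primeCompl
  let e : K ⊗[O] Ω[O⁄A] ≃ₗ[K] K ⊗[B] Ω[B⁄A] :=
    (AlgebraTensorModule.congr (LinearEquiv.refl K K)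
      (tensorKaehlerEquivOfFormallyEtale A B O).symm) ≪≫ₗ
      AlgebraTensorModule.cancelBaseChange B O K K Ω[B⁄A]
  have he : ∀ b : B, e ((1 : K) ⊗ₜ[O] D A O (algebraMap B O b)) = (1 : K) ⊗ₜ[B] D A B b := by
    intro b
    show AlgebraTensorModule.cancelBaseChange B O K K Ω[B⁄A]
      ((1 : K) ⊗ₜ[O] ((tensorKaehlerEquivOfFormallyEtale A B O).symm (D A O (algebraMap B O b)))) = _
    rw [tensorKaehlerEquivOfFormallyEtale_symm_D_algebraMap,
      AlgebraTensorModule.cancelBaseChange_tmul, one_smul]
  haveI : Subsingleton Ω[K⁄A] := inferInstance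
  have hzero : ∀ t : K ⊗[O] Ω[O⁄A], t = 0 := by
    intro t
    have hex := exact_kerCotangentToTensor_mapBaseChange A O K hsurj
    obtain ⟨c, rfl⟩ := (hex t).mp (Subsingleton.elim _ _)
    obtain ⟨y', rfl⟩ := Ideal.toCotangent_surjective _ c
    rw [kerCotangentToTensor_toCotangent]
    obtain ⟨⟨b, s⟩, hbs⟩ := IsLocalization.surj q.primeCompl (y' : O)
    have hy' : algebraMap O K (y' : O) = 0 := RingHom.mem_ker.mp y'.2
    have hb : algebraMap B K b = 0 := by
      rw [IsScalarTower.algebraMap_apply B O K, ← hbs, map_mul, hy', zero_mul]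
    have h1 := hcon b hb
    rw [← he b] at h1
    have h2 : (1 : K) ⊗ₜ[O] D A O (algebraMap B O b) =
        algebraMap B K s • ((1 : K) ⊗ₜ[O] D A O (y' : O)) := by
      rw [← hbs, Derivation.leibniz, tmul_add, tmul_smul, tmul_smul, smul_tmul', smul_tmul']
      rw [Algebra.smul_def (y' : O) (1 : K), hy', zero_mul, zero_tmul, zero_add]
      rw [Algebra.smul_def, mul_one, ← IsScalarTower.algebraMap_apply B O K, smul_tmul',
        smul_eq_mul, mul_one]
    rw [h2, map_smul] at h1
    have hs : algebraMap B K s ≠ 0 := fun h => s.2 (RingHom.mem_ker.mpr h)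
    have h3 := (smul_eq_zero.mp h1).resolve_left hs
    exact e.map_eq_zero_iff.mp h3
  obtain ⟨a, b, hab⟩ := hV
  apply hab
  rw [← e.apply_symm_apply a, ← e.apply_symm_apply b, hzero (e.symm a), hzero (e.symm b)]

end NeZero

end Groth.Agent.Helper3.EtSlice
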