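import Mathlib
import Groth.Agent.Lib.Helper3.EtSlice1

/-! Etale slices through a point of a smooth algebra: comparison of fibres of differentials and
the base case (helper3). -/

set_option autoImplicit false
set_option backward.isDefEq.respectTransparency.types false
set_option synthInstance.maxHeartbeats 400000
universe u
namespace Groth.Agent.Helper3.EtSlice

open TensorProduct KaehlerDifferential

section Theta

variable (A B B₁ K : Type u) [CommRing A] [CommRing B] [CommRing B₁] [Field K] [Algebra A B]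
  [Algebra A B₁] [Algebra B B₁] [IsScalarTower A B B₁] [Algebra B K] [Algebra B₁ K]
  [IsScalarTower B B₁ K]

/-- the `B`-linear map `ω ↦ 1 ⊗ ω` into the fibre of the differentials of `B₁` -/
noncomputable def theta₀ : Ω[B⁄A] →ₗ[B] K ⊗[B₁] Ω[B₁⁄A] where
  toFun ω := (1 : K) ⊗ₜ[B₁] KaehlerDifferential.map A A B B₁ ω
  map_add' ω ω' := by rw [map_add, tmul_add]
  map_smul' b ω := by
    rw [map_smul, RingHom.id_apply, ← algebraMap_smul B₁ b (KaehlerDifferential.map A A B B₁ ω),
      tmul_smul, smul_tmul', smul_tmul', algebraMap_smul]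

/-- comparison of the fibres of the differentials -/
noncomputable def theta : K ⊗[B] Ω[B⁄A] →ₗ[K] K ⊗[B₁] Ω[B₁⁄A] :=
  LinearMap.liftBaseChange K (theta₀ A B B₁ K)

theorem theta_tmul (c : K) (ω : Ω[B⁄A]) :
    theta A B B₁ K (c ⊗ₜ[B] ω) = c ⊗ₜ[B₁] KaehlerDifferential.map A A B B₁ ω := by
  show LinearMap.liftBaseChange K (theta₀ A B B₁ K) (c ⊗ₜ[B] ω) = _
  rw [LinearMap.liftBaseChange_tmul]
  show c • ((1 : K) ⊗ₜ[B₁] KaehlerDifferential.map A A B B₁ ω) = _
  rw [smul_tmul', smul_eq_mul, mul_one]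

theorem theta_one_tmul_D (b : B) :
    theta A B B₁ K ((1 : K) ⊗ₜ[B] D A B b) = (1 : K) ⊗ₜ[B₁] D A B₁ (algebraMap B B₁ b) := by
  rw [theta_tmul, KaehlerDifferential.map_D]

theorem theta_surjective
    (h : ∀ b₁ : B₁, ∃ b s : B, algebraMap B K s ≠ 0 ∧ b₁ * algebraMap B B₁ s = algebraMap B B₁ b) :
    Function.Surjective (theta A B B₁ K) := by
  rw [← LinearMap.range_eq_top, eq_top_iff]
  have key : ∀ ω : Ω[B₁⁄A], (1 : K) ⊗ₜ[B₁] ω ∈ LinearMap.range (theta A B B₁ K) := by
    intro ω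
    have hω : ω ∈ Submodule.span B₁ (Set.range (D A B₁)) := by
      rw [KaehlerDifferential.span_range_derivation]; exact Submodule.mem_top
    induction hω using Submodule.span_induction with
    | mem ω hω =>
      obtain ⟨b₁, rfl⟩ := hω
      obtain ⟨b, s, hs, hbs⟩ := h b₁
      have h1 : (1 : K) ⊗ₜ[B₁] D A B₁ (algebraMap B B₁ b) =
          algebraMap B₁ K b₁ • ((1 : K) ⊗ₜ[B₁] D A B₁ (algebraMap B B₁ s)) +
            algebraMap B K s • ((1 : K) ⊗ₜ[B₁] D A B₁ b₁) := by
        rw [← hbs, Derivation.leibniz, tmul_add, tmul_smul, tmul_smul, smul_tmul', smul_tmul',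
          smul_tmul', smul_tmul', smul_eq_mul, mul_one, smul_eq_mul, mul_one,
          Algebra.smul_def b₁ (1 : K), mul_one, Algebra.smul_def (algebraMap B B₁ s) (1 : K),
          mul_one, ← IsScalarTower.algebraMap_apply B B₁ K]
      have h2 : (1 : K) ⊗ₜ[B₁] D A B₁ b₁ = (algebraMap B K s)⁻¹ •
          ((1 : K) ⊗ₜ[B₁] D A B₁ (algebraMap B B₁ b) -
            algebraMap B₁ K b₁ • ((1 : K) ⊗ₜ[B₁] D A B₁ (algebraMap B B₁ s))) := by
        rw [h1, add_sub_cancel_left, smul_smul, inv_mul_cancel₀ hs, one_smul]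
      rw [h2, ← theta_one_tmul_D, ← theta_one_tmul_D]
      exact Submodule.smul_mem _ _ (Submodule.sub_mem _ (LinearMap.mem_range_self _ _)
        (Submodule.smul_mem _ _ (LinearMap.mem_range_self _ _)))
    | zero => rw [tmul_zero]; exact Submodule.zero_mem _
    | add ω ω' _ _ h1 h2 => rw [tmul_add]; exact Submodule.add_mem _ h1 h2
    | smul b₁ ω _ h1 =>
      rw [tmul_smul, smul_tmul', Algebra.smul_def b₁ (1 : K), mul_one]
      have : algebraMap B₁ K b₁ ⊗ₜ[B₁] ω = algebraMap B₁ K b₁ • ((1 : K) ⊗ₜ[B₁] ω) := by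
        rw [smul_tmul', smul_eq_mul, mul_one]
      rw [this]
      exact Submodule.smul_mem _ _ h1
  have all : ∀ t : K ⊗[B₁] Ω[B₁⁄A], t ∈ LinearMap.range (theta A B B₁ K) := by
    intro t
    induction t using TensorProduct.induction_on with
    | zero => exact Submodule.zero_mem _
    | tmul c ω =>
      have : c ⊗ₜ[B₁] ω = c • ((1 : K) ⊗ₜ[B₁] ω) := by rw [smul_tmul', smul_eq_mul, mul_one]
      rw [this]
      exact Submodule.smul_mem _ _ (key ω)
    | add t t' h1 h2 => exact Submodule.add_mem _ h1 h2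
  intro t _
  exact all t

theorem finrank_lt [Module.Finite B Ω[B⁄A]]
    (h : ∀ b₁ : B₁, ∃ b s : B, algebraMap B K s ≠ 0 ∧ b₁ * algebraMap B B₁ s = algebraMap B B₁ b)
    (y : B) (hy : algebraMap B B₁ y = 0) (hne : (1 : K) ⊗ₜ[B] D A B y ≠ 0) :
    Module.finrank K (K ⊗[B₁] Ω[B₁⁄A]) < Module.finrank K (K ⊗[B] Ω[B⁄A]) := by
  have h1 := LinearMap.finrank_range_add_finrank_ker (theta A B B₁ K)
  have h2 : LinearMap.range (theta A B B₁ K) = ⊤ :=
    LinearMap.range_eq_top.mpr (theta_surjective A B B₁ K h)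
  rw [h2, finrank_top] at h1
  have h3 : 0 < Module.finrank K (LinearMap.ker (theta A B B₁ K)) := by
    rw [Nat.pos_iff_ne_zero]
    intro h0
    rw [Submodule.finrank_eq_zero] at h0
    have hmem : (1 : K) ⊗ₜ[B] D A B y ∈ LinearMap.ker (theta A B B₁ K) := by
      rw [LinearMap.mem_ker, theta_one_tmul_D, hy, map_zero, tmul_zero]
    rw [h0, Submodule.mem_bot] at hmem
    exact hne hmem
  omega

end Theta

end Groth.Agent.Helper3.EtSlice
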