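import Mathlib
import Groth.Agent.Lib.Helper3.EtSlice2

/-! Etale slices through a point of a smooth algebra: the ring-level induction (helper3). -/

set_option autoImplicit false
set_option backward.isDefEq.respectTransparency.types false
set_option synthInstance.maxHeartbeats 400000
universe u
namespace Groth.Agent.Helper3.EtSlice

open AlgebraicGeometry CategoryTheory TensorProduct KaehlerDifferential

/-- an étale slice of `Spec B → Spec A` through the `K`-point -/
def Slice (A B K : Type u) [CommRing A] [CommRing B] [Field K] [Algebra A B] [Algebra B K] :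
    Prop :=
  ∃ (C : Type u) (_ : CommRing C) (ι : B →+* C) (ψ : C →+* K), ψ.comp ι = algebraMap B K ∧
    (ι.comp (algebraMap A B)).Etale ∧ IsImmersion (Spec.map (CommRingCat.ofHom ι))

section Base

variable (A B K : Type u) [CommRing A] [CommRing B] [Field K] [Algebra A B] [Algebra A K]
  [Algebra B K] [IsScalarTower A B K] [Algebra.Smooth A B]

theorem smooth_away (g : B) : Algebra.Smooth A (Localization.Away g) := by
  haveI : Algebra.FormallyEtale B (Localization.Away g) :=
    Algebra.FormallyEtale.of_isLocalization (Submonoid.powers g)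
  haveI : Algebra.FinitePresentation B (Localization.Away g) :=
    IsLocalization.Away.finitePresentation g
  haveI : Algebra.Smooth B (Localization.Away g) := ⟨inferInstance, inferInstance⟩
  exact Algebra.Smooth.comp A B (Localization.Away g)

theorem slice_of_subsingleton (hV : Subsingleton (K ⊗[B] Ω[B⁄A])) : Slice A B K := by
  haveI : Algebra.FinitePresentation A B := Algebra.Smooth.finitePresentation
  haveI : Algebra.FormallySmooth A B := Algebra.Smooth.formallySmooth
  let p : PrimeSpectrum K := ⟨⊥, Ideal.isPrime_bot⟩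
  have h1 := Module.rankAtStalk_baseChange (R := B) (M := Ω[B⁄A]) (S := K) p
  rw [Module.rankAtStalk_eq_zero_of_subsingleton, Pi.zero_apply] at h1
  have h2 := (Module.rankAtStalk_eq_zero_iff_notMem_support _).mp h1.symm
  have h3 : (p.comap (algebraMap B K)) ∈ Algebra.unramifiedLocus A B := by
    rw [Algebra.unramifiedLocus_eq_compl_support]; exact h2
  haveI : Algebra.IsUnramifiedAt A (p.comap (algebraMap B K)).asIdeal := h3
  obtain ⟨g, hg, hunr⟩ := Algebra.exists_formallyUnramified_of_isUnramifiedAt (R := A)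
    (p.comap (algebraMap B K)).asIdeal
  have hg' : algebraMap B K g ≠ 0 := fun h => hg (by
    show g ∈ Ideal.comap (algebraMap B K) ⊥
    rw [Ideal.mem_comap, h]; exact Submodule.zero_mem _)
  haveI := smooth_away A B g
  haveI : Algebra.Etale A (Localization.Away g) :=
    Algebra.Etale.iff_formallyUnramified_and_smooth.mpr ⟨hunr, inferInstance⟩
  refine ⟨Localization.Away g, inferInstance, algebraMap B (Localization.Away g),
    IsLocalization.Away.lift g (IsUnit.mk0 _ hg'), IsLocalization.Away.lift_comp g _, ?_, ?_⟩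
  · rw [← IsScalarTower.algebraMap_eq, RingHom.etale_algebraMap]
    infer_instance
  · infer_instance

end Base

section Step

variable (A K : Type u) [CommRing A] [Field K] [Algebra A K] [Algebra.FormallyUnramified A K]

theorem tmul_eq_zero_of_mem (B : Type u) [CommRing B] [Algebra A B] [Algebra B K]
    (m : Ω[B⁄A])
    (hm : m ∈ (RingHom.ker (algebraMap B K)) • (⊤ : Submodule B Ω[B⁄A])) :
    (1 : K) ⊗ₜ[B] m = 0 := by
  refine Submodule.smul_induction_on hm ?_ ?_
  · intro r hr n _
    rw [tmul_smul, smul_tmul', Algebra.smul_def, mul_one, RingHom.mem_ker.mp hr, zero_tmul]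
  · intro x y hx hy
    rw [tmul_add, hx, hy, add_zero]

set_option maxHeartbeats 2000000 in
theorem slice_aux : ∀ (n : ℕ) (B : Type u) [CommRing B] [Algebra A B] [Algebra.Smooth A B]
    [Algebra B K] [IsScalarTower A B K], IsFrac B K →
    Module.finrank K (K ⊗[B] Ω[B⁄A]) = n → Slice A B K := by
  intro n
  induction n using Nat.strong_induction_on with
  | _ n ih =>
  intro B _ _ _ _ _ hK hn
  by_cases hV : Subsingleton (K ⊗[B] Ω[B⁄A])
  · exact slice_of_subsingleton A B K hV
  rw [not_subsingleton_iff_nontrivial] at hV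
  haveI : Algebra.FinitePresentation A B := Algebra.Smooth.finitePresentation
  haveI : Algebra.FormallySmooth A B := Algebra.Smooth.formallySmooth
  obtain ⟨y, hy0, hyne⟩ := exists_D_ne_zero A B K hK hV
  have hnot : D A B y ∉ (RingHom.ker (algebraMap B K)) • (⊤ : Submodule B Ω[B⁄A]) :=
    fun hmem => hyne (tmul_eq_zero_of_mem A K B _ hmem)
  obtain ⟨ℓ, hℓ⟩ := Groth.Agent.Helper3.CartSm.exists_coord_notMem A B _ y hnot
  obtain ⟨g, hg⟩ : ∃ g, g = ℓ (D A B y) := ⟨_, rfl⟩
  have hg' : algebraMap B K g ≠ 0 := fun h => hℓ (by rw [← hg]; exact RingHom.mem_ker.mpr h)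
  obtain ⟨-, hsm⟩ := Groth.Agent.Helper3.CartSm.main_away A B y g ℓ hg.symm (Localization.Away g)
  let B' := Localization.Away g
  let J : Ideal B' := Ideal.span {algebraMap B B' y}
  letI algB'K : Algebra B' K := (IsLocalization.Away.lift g (IsUnit.mk0 _ hg')).toAlgebra
  haveI : IsScalarTower B B' K :=
    IsScalarTower.of_algebraMap_eq' (IsLocalization.Away.lift_comp g _).symm
  have hJ : ∀ a ∈ J, algebraMap B' K a = 0 := by
    intro a ha
    have : J ≤ RingHom.ker (algebraMap B' K) := by
      rw [Ideal.span_le, Set.singleton_subset_iff]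
      show algebraMap B' K (algebraMap B B' y) = 0
      rw [← IsScalarTower.algebraMap_apply, hy0]
    exact RingHom.mem_ker.mp (this ha)
  let B₁ := B' ⧸ J
  letI algB₁K : Algebra B₁ K := (Ideal.Quotient.lift J (algebraMap B' K) hJ).toAlgebra
  haveI : IsScalarTower B' B₁ K := IsScalarTower.of_algebraMap_eq (R := B') (S := B₁) (A := K) (fun a => by
    show algebraMap B' K a = Ideal.Quotient.lift J (algebraMap B' K) hJ (Ideal.Quotient.mk J a)
    rw [Ideal.Quotient.lift_mk])
  haveI : IsScalarTower B B₁ K := IsScalarTower.of_algebraMap_eq (R := B) (S := B₁) (A := K) (fun b => by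
    rw [IsScalarTower.algebraMap_apply B B' K, IsScalarTower.algebraMap_apply B B' B₁,
      ← IsScalarTower.algebraMap_apply B' B₁ K])
  haveI : IsScalarTower A B₁ K := IsScalarTower.of_algebraMap_eq (R := A) (S := B₁) (A := K) (fun a => by
    rw [IsScalarTower.algebraMap_apply A B K, IsScalarTower.algebraMap_apply A B B₁,
      ← IsScalarTower.algebraMap_apply B B₁ K])
  haveI : Algebra.Smooth A B₁ := hsm
  have hfrac : ∀ b₁ : B₁, ∃ b s : B, algebraMap B K s ≠ 0 ∧
      b₁ * algebraMap B B₁ s = algebraMap B B₁ b := by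
    intro b₁
    obtain ⟨b', rfl⟩ := Ideal.Quotient.mk_surjective b₁
    obtain ⟨⟨b, s⟩, hbs⟩ := IsLocalization.surj (Submonoid.powers g) b'
    obtain ⟨k, hk⟩ := s.2
    refine ⟨b, s, ?_, ?_⟩
    · rw [← hk, map_pow]; exact pow_ne_zero _ hg'
    · rw [IsScalarTower.algebraMap_apply B B' B₁, IsScalarTower.algebraMap_apply B B' B₁]
      show Ideal.Quotient.mk J b' * Ideal.Quotient.mk J (algebraMap B B' s) = Ideal.Quotient.mk J _
      rw [← map_mul, hbs]
  have hK₁ : IsFrac B₁ K := by
    intro c
    obtain ⟨b, s, hs, hc⟩ := hK c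
    refine ⟨algebraMap B B₁ b, algebraMap B B₁ s, ?_, ?_⟩
    · rw [← IsScalarTower.algebraMap_apply]; exact hs
    · rw [← IsScalarTower.algebraMap_apply, ← IsScalarTower.algebraMap_apply]; exact hc
  have hy₁ : algebraMap B B₁ y = 0 := by
    rw [IsScalarTower.algebraMap_apply B B' B₁]
    exact Ideal.Quotient.eq_zero_iff_mem.mpr (Ideal.mem_span_singleton_self _)
  have hlt := finrank_lt A B B₁ K hfrac y hy₁ hyne
  rw [hn] at hlt
  obtain ⟨C, _, ι₂, ψ, h1, h2, h3⟩ := ih _ hlt B₁ hK₁ rfl
  refine ⟨C, inferInstance, ι₂.comp (algebraMap B B₁), ψ, ?_, ?_, ?_⟩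
  · rw [← RingHom.comp_assoc, h1, ← IsScalarTower.algebraMap_eq]
  · rw [RingHom.comp_assoc, ← IsScalarTower.algebraMap_eq]
    exact h2
  · have e1 : Spec.map (CommRingCat.ofHom (ι₂.comp (algebraMap B B₁))) =
        Spec.map (CommRingCat.ofHom ι₂) ≫ Spec.map (CommRingCat.ofHom (Ideal.Quotient.mk J)) ≫
          Spec.map (CommRingCat.ofHom (algebraMap B B')) := by
      rw [← Spec.map_comp, ← Spec.map_comp]
      rfl
    rw [e1]
    haveI : IsClosedImmersion (Spec.map (CommRingCat.ofHom (Ideal.Quotient.mk J))) :=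
      IsClosedImmersion.spec_of_surjective _ Ideal.Quotient.mk_surjective
    infer_instance

end Step

end Groth.Agent.Helper3.EtSlice
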