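import Mathlib
import Groth.Agent.Lib.Helper3.EtSlice3
import Groth.Agent.S9721

/-! Etale slices through a point of a smooth morphism: scheme level (helper3). -/

set_option autoImplicit false
set_option backward.isDefEq.respectTransparency.types false
set_option synthInstance.maxHeartbeats 400000
universe u
namespace Groth.Agent.Helper3.EtSlice

open AlgebraicGeometry CategoryTheory Limits TensorProduct KaehlerDifferential

theorem exists_slice (A B K : Type u) [CommRing A] [CommRing B] [Field K] [Algebra A B]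
    [Algebra A K] [Algebra B K] [IsScalarTower A B K] [Algebra.Smooth A B]
    [Algebra.FormallyUnramified A K] (hK : IsFrac B K) : Slice A B K :=
  slice_aux A K _ B hK rfl

/-- étale morphisms are locally quasi-finite -/
theorem lqf_of_etale {X Y : Scheme.{u}} (f : X ⟶ Y) [Etale f] : LocallyQuasiFinite f := by
  rw [HasRingHomProperty.iff_appLE (P := @LocallyQuasiFinite)]
  intro U V e
  have h1 := (HasRingHomProperty.iff_appLE (P := @FormallyUnramified)).mp inferInstance U V e
  have h2 := (HasRingHomProperty.iff_appLE (P := @LocallyOfFiniteType)).mp inferInstance U V e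
  algebraize [(f.appLE U V e).hom]
  rw [← RingHom.algebraMap_toAlgebra (f.appLE U V e).hom, RingHom.quasiFinite_algebraMap]
  infer_instance

section Sch

variable {X S : Scheme.{u}} (f : X ⟶ S) (x : X)

theorem germ_appLE_apply (U : X.Opens) (V : S.Opens) (hUV : U ≤ f ⁻¹ᵁ V) (hx : x ∈ U)
    (a : Γ(S, V)) :
    (f.stalkMap x).hom ((S.presheaf.germ V (f x) (hUV hx)).hom a) =
      (X.presheaf.germ U x hx).hom ((f.appLE V U hUV).hom a) := by
  have h1 := Scheme.Hom.germ_stalkMap_apply f V x (hUV hx) a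
  have h2 : (X.presheaf.germ U x hx).hom ((f.appLE V U hUV).hom a) =
      (X.presheaf.germ (f ⁻¹ᵁ V) x (hUV hx)).hom ((f.app V).hom a) := by
    simp only [Scheme.Hom.appLE, CommRingCat.hom_comp, RingHom.comp_apply]
    exact TopCat.Presheaf.germ_res_apply X.presheaf (homOfLE hUV) x hx _
  exact h1.trans h2.symm

set_option maxHeartbeats 1000000 in
theorem formallyUnramified_of_sep (V : S.Opens) (hV : IsAffineOpen V) (hxV : f x ∈ V)
    (hsep : @Algebra.IsSeparable (S.residueField (f x)) (X.residueField x) _ _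
      (f.residueFieldMap x).hom.toAlgebra) :
    @Algebra.FormallyUnramified Γ(S, V) (X.residueField x) _ _
      ((f.residueFieldMap x).hom.comp
        ((S.residue (f x)).hom.comp (S.presheaf.germ V (f x) hxV).hom)).toAlgebra := by
  letI a1 : Algebra Γ(S, V) (S.presheaf.stalk (f x)) :=
    (S.presheaf.germ V (f x) hxV).hom.toAlgebra
  haveI : IsLocalization.AtPrime (S.presheaf.stalk (f x))
      (hV.primeIdealOf ⟨f x, hxV⟩).asIdeal := hV.isLocalization_stalk ⟨f x, hxV⟩
  haveI : Algebra.FormallyEtale Γ(S, V) (S.presheaf.stalk (f x)) :=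
    Algebra.FormallyEtale.of_isLocalization (hV.primeIdealOf ⟨f x, hxV⟩).asIdeal.primeCompl
  letI a2 : Algebra (S.presheaf.stalk (f x)) (S.residueField (f x)) :=
    (S.residue (f x)).hom.toAlgebra
  haveI : Algebra.FormallyUnramified (S.presheaf.stalk (f x)) (S.residueField (f x)) :=
    Algebra.FormallyUnramified.of_surjective (Algebra.ofId _ _) IsLocalRing.residue_surjective
  letI a3 : Algebra (S.residueField (f x)) (X.residueField x) :=
    (f.residueFieldMap x).hom.toAlgebra
  haveI : Algebra.IsSeparable (S.residueField (f x)) (X.residueField x) := hsep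
  haveI : Algebra.FormallyUnramified (S.residueField (f x)) (X.residueField x) :=
    Algebra.FormallyUnramified.of_isSeparable _ _
  letI a4 : Algebra Γ(S, V) (S.residueField (f x)) :=
    ((S.residue (f x)).hom.comp (S.presheaf.germ V (f x) hxV).hom).toAlgebra
  haveI : IsScalarTower Γ(S, V) (S.presheaf.stalk (f x)) (S.residueField (f x)) :=
    IsScalarTower.of_algebraMap_eq' rfl
  haveI : Algebra.FormallyUnramified Γ(S, V) (S.residueField (f x)) :=
    Algebra.FormallyUnramified.comp _ (S.presheaf.stalk (f x)) _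
  letI a5 : Algebra Γ(S, V) (X.residueField x) :=
    ((f.residueFieldMap x).hom.comp
      ((S.residue (f x)).hom.comp (S.presheaf.germ V (f x) hxV).hom)).toAlgebra
  haveI : IsScalarTower Γ(S, V) (S.residueField (f x)) (X.residueField x) :=
    IsScalarTower.of_algebraMap_eq' rfl
  exact Algebra.FormallyUnramified.comp _ (S.residueField (f x)) _

set_option maxHeartbeats 2000000 in
theorem S0413_main [Smooth f]
    (hsep : @Algebra.IsSeparable (S.residueField (f x)) (X.residueField x) _ _
      (f.residueFieldMap x).hom.toAlgebra) :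
    ∃ (Z : Scheme.{u}) (i : Z ⟶ X) (z : Z), IsImmersion i ∧ Etale (i ≫ f) ∧ i z = x ∧
      ∀ z' : ↑Z, f (i z') = f x → z' = z := by
  obtain ⟨_, ⟨V, hV, rfl⟩, hxV, -⟩ :=
    S.isBasis_affineOpens.exists_subset_of_mem_open (Set.mem_univ (f x)) isOpen_univ
  have hsmW : Smooth ((⊤ : X.Opens).ι ≫ f) := inferInstance
  obtain ⟨U, hU, hxU, e, hstd⟩ :=
    (Groth.Agent.S9721.result f x V hV hxV).mp ⟨⊤, trivial, hsmW⟩
  letI algAB : Algebra Γ(S, V) Γ(X, U) := (f.appLE V U e).hom.toAlgebra
  haveI : Algebra.IsStandardSmooth Γ(S, V) Γ(X, U) := hstd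
  haveI : Algebra.Smooth Γ(S, V) Γ(X, U) := inferInstance
  letI algBK : Algebra Γ(X, U) (X.residueField x) := (X.evaluation U x hxU).hom.toAlgebra
  letI algAK : Algebra Γ(S, V) (X.residueField x) :=
    ((f.residueFieldMap x).hom.comp
      ((S.residue (f x)).hom.comp (S.presheaf.germ V (f x) hxV).hom)).toAlgebra
  haveI : IsScalarTower Γ(S, V) Γ(X, U) (X.residueField x) :=
    IsScalarTower.of_algebraMap_eq (R := Γ(S, V)) (S := Γ(X, U)) (A := X.residueField x)
      (fun a => by
        show (f.residueFieldMap x).hom ((S.residue (f x)).hom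
            ((S.presheaf.germ V (f x) hxV).hom a)) =
          (X.residue x).hom ((X.presheaf.germ U x hxU).hom ((f.appLE V U e).hom a))
        rw [← germ_appLE_apply f x U V e hxU a]
        exact congr($(Scheme.residue_residueFieldMap f x) _))
  haveI : Algebra.FormallyUnramified Γ(S, V) (X.residueField x) :=
    formallyUnramified_of_sep f x V hV hxV hsep
  have hK : IsFrac Γ(X, U) (X.residueField x) := by
    intro c
    obtain ⟨t, rfl⟩ := IsLocalRing.residue_surjective c
    letI := (X.presheaf.germ U x hxU).hom.toAlgebra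
    haveI := hU.isLocalization_stalk ⟨x, hxU⟩
    obtain ⟨⟨b, s⟩, hbs⟩ := IsLocalization.surj (hU.primeIdealOf ⟨x, hxU⟩).asIdeal.primeCompl t
    refine ⟨b, s, ?_, ?_⟩
    · have hu : IsUnit (algebraMap Γ(X, U) (X.presheaf.stalk x) s) :=
        IsLocalization.map_units _ s
      intro h0
      have : algebraMap Γ(X, U) (X.presheaf.stalk x) s ∈
          IsLocalRing.maximalIdeal (X.presheaf.stalk x) :=
        (IsLocalRing.residue_eq_zero_iff _).mp h0
      exact (IsLocalRing.mem_maximalIdeal _).mp this hu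
    · show IsLocalRing.residue _ t * IsLocalRing.residue _
        (algebraMap Γ(X, U) (X.presheaf.stalk x) s) =
          IsLocalRing.residue _ (algebraMap Γ(X, U) (X.presheaf.stalk x) b)
      rw [← map_mul, hbs]
  obtain ⟨C, _, ι, ψ, h1, h2, h3⟩ := exists_slice Γ(S, V) Γ(X, U) (X.residueField x) hK
  let i₀ : Spec (.of C) ⟶ X := Spec.map (CommRingCat.ofHom ι) ≫ hU.fromSpec
  haveI : IsImmersion (Spec.map (CommRingCat.ofHom ι)) := h3
  haveI : IsImmersion i₀ := inferInstance
  have hcomp : i₀ ≫ f = Spec.map (f.appLE V U e ≫ CommRingCat.ofHom ι) ≫ hV.fromSpec := by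
    rw [Spec.map_comp, Category.assoc, Category.assoc,
      IsAffineOpen.SpecMap_appLE_fromSpec f hV hU e]
  haveI : Etale (Spec.map (f.appLE V U e ≫ CommRingCat.ofHom ι)) :=
    (HasRingHomProperty.Spec_iff (P := @Etale)).mpr h2
  haveI het : Etale (i₀ ≫ f) := by rw [hcomp]; infer_instance
  obtain ⟨pt⟩ : Nonempty (Spec (X.residueField x)) :=
    ⟨(⟨⊥, Ideal.isPrime_bot⟩ : PrimeSpectrum (X.residueField x))⟩
  let z₀ : Spec (.of C) := Spec.map (CommRingCat.ofHom ψ) pt
  have hz₀ : i₀ z₀ = x := by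
    have e1 : Spec.map (CommRingCat.ofHom ψ) ≫ i₀ = X.fromSpecResidueField x := by
      show Spec.map (CommRingCat.ofHom ψ) ≫ Spec.map (CommRingCat.ofHom ι) ≫ hU.fromSpec = _
      rw [← Category.assoc, ← Spec.map_comp, ← CommRingCat.ofHom_comp, h1]
      show Spec.map (X.presheaf.germ U x hxU ≫ X.residue x) ≫ hU.fromSpec = _
      rw [Spec.map_comp, Category.assoc]
      show Spec.map (X.residue x) ≫ hU.fromSpecStalk hxU = _
      rw [hU.fromSpecStalk_eq_fromSpecStalk hxU]
      rfl
    show i₀ (Spec.map (CommRingCat.ofHom ψ) pt) = x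
    rw [← Scheme.Hom.comp_apply, e1, Scheme.fromSpecResidueField_apply]
  haveI : LocallyQuasiFinite (i₀ ≫ f) := lqf_of_etale _
  have hdisc := ((i₀ ≫ f).isDiscrete_preimage_singleton (f x)).to_subtype
  have hz₀mem : z₀ ∈ (i₀ ≫ f) ⁻¹' {f x} := by
    show (i₀ ≫ f) z₀ = f x
    rw [Scheme.Hom.comp_apply, hz₀]
  obtain ⟨t, ht, hts⟩ := isOpen_induced_iff.mp
    (isOpen_discrete ({⟨z₀, hz₀mem⟩} : Set ((i₀ ≫ f) ⁻¹' {f x})))
  let W : (Spec (.of C)).Opens := ⟨t, ht⟩
  have hz₀W : z₀ ∈ W := by
    have : (⟨z₀, hz₀mem⟩ : (i₀ ≫ f) ⁻¹' {f x}) ∈ Subtype.val ⁻¹' t := by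
      rw [hts]; exact Set.mem_singleton _
    exact this
  refine ⟨W, W.ι ≫ i₀, ⟨z₀, hz₀W⟩, inferInstance, ?_, ?_, ?_⟩
  · rw [Category.assoc]; infer_instance
  · rw [Scheme.Hom.comp_apply]
    exact hz₀
  · intro z' hz'
    have hmem : (W.ι z') ∈ (i₀ ≫ f) ⁻¹' {f x} := by
      show (i₀ ≫ f) (W.ι z') = f x
      rw [Scheme.Hom.comp_apply]
      rw [Scheme.Hom.comp_apply] at hz'
      exact hz'
    have h4 : (⟨W.ι z', hmem⟩ : (i₀ ≫ f) ⁻¹' {f x}) ∈ Subtype.val ⁻¹' t := z'.2
    rw [hts, Set.mem_singleton_iff] at h4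
    have h5 : W.ι z' = z₀ := congrArg Subtype.val h4
    exact Subtype.ext h5

end Sch

end Groth.Agent.Helper3.EtSlice
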