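import Mathlib
import Groth.Prelude.Def_CohCx

open CategoryTheory Category Limits Pretriangulated Preadditive

universe v u

namespace Groth.Agent.Helper3.Milnor

variable {T : Type u} [Category.{v} T] [Preadditive T] [HasZeroObject T] [HasShift T ℤ]
  [∀ n : ℤ, (shiftFunctor T n).Additive] [Pretriangulated T]

lemma coyoneda_exact₂_shift (S : Triangle T) (hS : S ∈ distTriang T) (m : ℤ) {Z : T}
    (ξ : Z ⟶ S.obj₂⟦m⟧) (h : ξ ≫ S.mor₂⟦m⟧' = 0) :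
    ∃ y : Z ⟶ S.obj₁⟦m⟧, ξ = y ≫ S.mor₁⟦m⟧' := by
  have hT := Triangle.shift_distinguished _ hS m
  obtain ⟨y, hy⟩ := Triangle.coyoneda_exact₂ _ hT ξ (by
    change ξ ≫ (m.negOnePow • S.mor₂⟦m⟧') = 0
    rw [Linear.comp_units_smul, h, smul_zero])
  refine ⟨m.negOnePow • (show Z ⟶ S.obj₁⟦m⟧ from y), ?_⟩
  have hy' : ξ = (show Z ⟶ S.obj₁⟦m⟧ from y) ≫ (m.negOnePow • S.mor₁⟦m⟧') := hy
  rw [hy', Linear.comp_units_smul, Linear.units_smul_comp]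

lemma exists_of_comp_mor₁_shift_eq_zero (S : Triangle T) (hS : S ∈ distTriang T) (m : ℤ) {Z : T}
    (y : Z ⟶ S.obj₁⟦m⟧) (h : y ≫ S.mor₁⟦m⟧' = 0) :
    ∃ (γ : S.obj₃⟦m - 1⟧ ⟶ S.obj₁⟦m⟧) (z : Z ⟶ S.obj₃⟦m - 1⟧),
      S.mor₂⟦m - 1⟧' ≫ γ = 0 ∧ y = z ≫ γ := by
  let m₃ : S.obj₃⟦m - 1⟧ ⟶ (S.obj₁⟦m - 1⟧)⟦(1 : ℤ)⟧ :=
    (m - 1).negOnePow • S.mor₃⟦m - 1⟧' ≫ (shiftFunctorComm T 1 (m - 1)).hom.app S.obj₁
  have hT : Triangle.mk ((m - 1).negOnePow • S.mor₁⟦m - 1⟧') ((m - 1).negOnePow • S.mor₂⟦m - 1⟧')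
      m₃ ∈ distTriang T := Triangle.shift_distinguished _ hS (m - 1)
  let e : ∀ X : T, X⟦m⟧ ≅ (X⟦m - 1⟧)⟦(1 : ℤ)⟧ :=
    fun X : T => (shiftFunctorAdd' T (m - 1) 1 m (by lia)).app X
  have hnat : (e S.obj₁).hom ≫ (S.mor₁⟦m - 1⟧')⟦(1 : ℤ)⟧' = S.mor₁⟦m⟧' ≫ (e S.obj₂).hom :=
    ((shiftFunctorAdd' T (m - 1) 1 m (by lia)).hom.naturality S.mor₁).symm
  have hex : ∀ (f : Z ⟶ (S.obj₁⟦m - 1⟧)⟦(1 : ℤ)⟧),
      f ≫ ((m - 1).negOnePow • S.mor₁⟦m - 1⟧')⟦(1 : ℤ)⟧' = 0 →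
      ∃ g : Z ⟶ S.obj₃⟦m - 1⟧, f = g ≫ m₃ :=
    fun f hf => Triangle.coyoneda_exact₁ _ hT f hf
  have h23 : ((m - 1).negOnePow • S.mor₂⟦m - 1⟧') ≫ m₃ = 0 := comp_distTriang_mor_zero₂₃ _ hT
  obtain ⟨g, hg⟩ := hex (y ≫ (e S.obj₁).hom) (by
    rw [Functor.map_units_smul, Linear.comp_units_smul, assoc, hnat, reassoc_of% h, zero_comp,
      smul_zero])
  refine ⟨m₃ ≫ (e S.obj₁).inv, g, ?_, ?_⟩
  · rw [Linear.units_smul_comp] at h23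
    have h2 : S.mor₂⟦m - 1⟧' ≫ m₃ = 0 := by
      have := congrArg (fun f => (m - 1).negOnePow⁻¹ • f) h23
      simpa [smul_smul] using this
    rw [reassoc_of% h2, zero_comp]
  · rw [← reassoc_of% hg, Iso.hom_inv_id, comp_id]

variable (K : ℕ → T) (t : ∀ n, K (n + 1) ⟶ K n) [HasProduct K] (L : T) (a : ∀ n, L ⟶ K n)

/-- the shifted product is a product -/
noncomputable def isLimitShift (m : ℤ) :
    IsLimit (Fan.mk ((∏ᶜ K)⟦m⟧) (fun n => (Pi.π K n)⟦m⟧') : Fan (fun n => (K n)⟦m⟧)) :=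
  isLimitFanMkObjOfIsLimit (shiftFunctor T m) K _ (productIsProduct K)

variable {K t L a}

theorem exists_lift (hL : CohCx.IsRlimVia K t L a) (Z : T) (m : ℤ)
    (x : ∀ n, Z ⟶ (K n)⟦m⟧) (hx : ∀ n, x (n + 1) ≫ (t n)⟦m⟧' = x n) :
    ∃ y : Z ⟶ L⟦m⟧, ∀ n, y ≫ (a n)⟦m⟧' = x n := by
  obtain ⟨c, hc⟩ := hL
  let ξ : Z ⟶ (∏ᶜ K)⟦m⟧ := Fan.IsLimit.lift (isLimitShift K m) x
  have hξ : ∀ n, ξ ≫ (Pi.π K n)⟦m⟧' = x n := fun n => Fan.IsLimit.fac (isLimitShift K m) x n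
  have h0 : ξ ≫ (Pi.lift fun n => Pi.π K n - Pi.π K (n + 1) ≫ t n)⟦m⟧' = 0 := by
    refine Fan.IsLimit.hom_ext (isLimitShift K m) _ _ (fun n => ?_)
    dsimp
    rw [assoc, ← Functor.map_comp, Pi.lift_π, Functor.map_sub, Functor.map_comp, comp_sub,
      ← assoc, hξ, hξ, hx, sub_self, zero_comp]
  have hex : ∃ y : Z ⟶ L⟦m⟧, ξ = y ≫ (Pi.lift a)⟦m⟧' := coyoneda_exact₂_shift _ hc m ξ h0
  obtain ⟨y, hy⟩ := hex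
  refine ⟨y, fun n => ?_⟩
  rw [← hξ n, hy, assoc, ← Functor.map_comp, Pi.lift_π]

theorem eq_zero_of_limOne (hL : CohCx.IsRlimVia K t L a) (Z : T) (m : ℤ)
    (h1 : CohCx.LimOneIsZero (fun n => Z ⟶ (K n)⟦m - 1⟧)
      (fun n => Preadditive.rightComp _ ((t n)⟦m - 1⟧')))
    (y : Z ⟶ L⟦m⟧) (hy : ∀ n, y ≫ (a n)⟦m⟧' = 0) : y = 0 := by
  obtain ⟨c, hc⟩ := hL
  have h0 : y ≫ (Pi.lift a)⟦m⟧' = 0 := by
    refine Fan.IsLimit.hom_ext (isLimitShift K m) _ _ (fun n => ?_)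
    dsimp
    rw [assoc, ← Functor.map_comp, Pi.lift_π, hy, zero_comp]
  have hex : ∃ (γ : (∏ᶜ K)⟦m - 1⟧ ⟶ L⟦m⟧) (z : Z ⟶ (∏ᶜ K)⟦m - 1⟧),
      (Pi.lift fun n => Pi.π K n - Pi.π K (n + 1) ≫ t n)⟦m - 1⟧' ≫ γ = 0 ∧ y = z ≫ γ :=
    exists_of_comp_mor₁_shift_eq_zero _ hc m y h0
  obtain ⟨γ, z, hγ, rfl⟩ := hex
  obtain ⟨w, hw⟩ := h1 (fun n => z ≫ (Pi.π K n)⟦m - 1⟧')
  let ω : Z ⟶ (∏ᶜ K)⟦m - 1⟧ := Fan.IsLimit.lift (isLimitShift K (m - 1)) w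
  have hω : ∀ n, ω ≫ (Pi.π K n)⟦m - 1⟧' = w n :=
    fun n => Fan.IsLimit.fac (isLimitShift K (m - 1)) w n
  have hz : z = ω ≫ (Pi.lift fun n => Pi.π K n - Pi.π K (n + 1) ≫ t n)⟦m - 1⟧' := by
    refine Fan.IsLimit.hom_ext (isLimitShift K (m - 1)) _ _ (fun n => ?_)
    have := congrFun hw n
    dsimp at this ⊢
    rw [assoc, ← Functor.map_comp, Pi.lift_π, Functor.map_sub, Functor.map_comp, comp_sub,
      ← assoc, hω, hω, ← this]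
    rfl
  rw [hz, assoc, hγ, comp_zero]

end Groth.Agent.Helper3.Milnor
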