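import Groth.Agent.Lib.Helper3.TrLim1
import Groth.Agent.Lib.Helper3.Milnor

/-!
# Transition maps of the truncation tower on `Hom(Z[0], -[m])`
-/

universe w w' v u

open CategoryTheory Limits Pretriangulated DerivedCategory Abelian

namespace Groth.Agent.Helper3.TrLim

section Generic

variable {T : Type*} [Category T] [Preadditive T] [HasZeroObject T] [HasShift T ℤ]
  [∀ n : ℤ, (shiftFunctor T n).Additive] [Pretriangulated T]

lemma bijective_postcomp_of_subsingleton (S : Triangle T) (hS : S ∈ distTriang T) (Z : T) (m : ℤ)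
    (h1 : Subsingleton (Z ⟶ S.obj₁⟦m⟧)) (h2 : Subsingleton (Z ⟶ (S.obj₁⟦(1 : ℤ)⟧)⟦m⟧)) :
    Function.Bijective (fun ξ : Z ⟶ S.obj₂⟦m⟧ => ξ ≫ S.mor₂⟦m⟧') := by
  constructor
  · intro ξ ξ' h
    have h0 : (ξ - ξ') ≫ S.mor₂⟦m⟧' = 0 := by
      rw [Preadditive.sub_comp]; exact sub_eq_zero.2 h
    obtain ⟨y, hy⟩ := Milnor.coyoneda_exact₂_shift S hS m (ξ - ξ') h0
    rw [h1.elim y 0, zero_comp] at hy
    exact sub_eq_zero.1 hy
  · intro η
    have h0 : η ≫ S.mor₃⟦m⟧' = 0 := h2.elim _ _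
    obtain ⟨y, hy⟩ := Milnor.coyoneda_exact₂_shift S.rotate (rot_of_distTriang _ hS) m η h0
    exact ⟨y, hy.symm⟩

end Generic

section Ext

variable {A : Type u} [Category.{v} A] [Abelian A] [HasDerivedCategory.{w} A] [HasExt.{w'} A]

/-- vanishing of `Ext^k(Z, Y)` kills the maps `Z[0] ⟶ M[j]` when `M ≅ Y[-a]` and `a + k = j` -/
lemma subsingleton_hom_of_ext (Z Y : A) (a j : ℤ) (k : ℕ) (hk : a + (k : ℤ) = j)
    (h : Subsingleton (Ext.{w'} Z Y k)) {M : DerivedCategory A}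
    (e : M ≅ (singleFunctor A a).obj Y) :
    Subsingleton ((singleFunctor A 0).obj Z ⟶ M⟦j⟧) := by
  let i1 : M⟦j⟧ ≅ ((singleFunctor A a).obj Y)⟦j⟧ := (shiftFunctor _ j).mapIso e
  let i2 : ((singleFunctor A a).obj Y)⟦j⟧ ≅ (((singleFunctor A a).obj Y)⟦a⟧)⟦(k : ℤ)⟧ :=
    (shiftFunctorAdd' (DerivedCategory A) a (k : ℤ) j hk).app _
  let i3 : (((singleFunctor A a).obj Y)⟦a⟧)⟦(k : ℤ)⟧ ≅ ((singleFunctor A 0).obj Y)⟦(k : ℤ)⟧ :=
    (shiftFunctor _ (k : ℤ)).mapIso (((singleFunctors A).shiftIso a 0 a (add_zero a)).app Y)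
  let i := i1 ≪≫ i2 ≪≫ i3
  constructor
  intro f g
  have h1 : f ≫ i.hom = g ≫ i.hom := by
    have := h.elim (Ext.homEquiv.symm (f ≫ i.hom)) (Ext.homEquiv.symm (g ≫ i.hom))
    exact Ext.homEquiv.symm.injective this
  exact (cancel_mono i.hom).1 h1

variable (E : DerivedCategory A) (Z : A) (a b m : ℤ) (k : ℕ) (hk : a + (k : ℤ) = m)
  (hb : a + 1 = b)

include hk in
/-- if `Ext^k` and `Ext^{k+1}` from `Z` into `Hᵃ(E)` vanish (`k = m - a`), the transition
`Hom(Z[0], τ_{≥a}E[m]) → Hom(Z[0], τ_{≥a+1}E[m])` is bijective -/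
theorem bijective_transition
    (h1 : Subsingleton (Ext.{w'} Z ((homologyFunctor A a).obj E) k))
    (h2 : Subsingleton (Ext.{w'} Z ((homologyFunctor A a).obj E) (k + 1))) :
    Function.Bijective (fun ξ : (singleFunctor A 0).obj Z ⟶
        (((tS (A := A)).truncGE a).obj E)⟦m⟧ =>
      ξ ≫ (((tS (A := A)).natTransTruncGEOfLE a b (by omega)).app E)⟦m⟧') := by
  subst hb
  obtain ⟨e⟩ := nonempty_iso_single E a
  refine bijective_postcomp_of_subsingleton _
    (triangle_distinguished E a (a + 1) (by omega)) ((singleFunctor A 0).obj Z) m ?_ ?_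
  · exact subsingleton_hom_of_ext Z _ a m k hk h1 e
  · have h3 := subsingleton_hom_of_ext Z _ a (m + 1) (k + 1) (by push_cast; omega) h2 e
    let i : ((((tS (A := A)).truncLT (a + 1)).obj
        (((tS (A := A)).truncGE a).obj E))⟦(1 : ℤ)⟧)⟦m⟧ ≅
        (((tS (A := A)).truncLT (a + 1)).obj (((tS (A := A)).truncGE a).obj E))⟦m + 1⟧ :=
      ((shiftFunctorAdd' (DerivedCategory A) 1 m (m + 1) (by omega)).app _).symm
    constructor
    intro f g
    have h4 : f ≫ i.hom = g ≫ i.hom := h3.elim _ _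
    exact (cancel_mono i.hom).1 h4

end Ext

end Groth.Agent.Helper3.TrLim
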