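import Mathlib
import Groth.Prelude.Def_WeakSerre
import Groth.Agent.Lib.Helper3.TrLim2
import Groth.Agent.Lib.Helper3.CohWayOut

/-!
# Vanishing of `Hom(P[0], X[s])` from vanishing of `Ext` into the cohomology objects
-/

set_option autoImplicit false
universe w w' v u

open CategoryTheory Limits Pretriangulated DerivedCategory Abelian

namespace Groth.Agent.Helper3.EvC

open Groth.Agent.Helper3.TrLim

variable {A : Type u} [Category.{v} A] [Abelian A] [HasDerivedCategory.{w} A]

lemma subsingleton_hom_of_lt (P : A) (Y : DerivedCategory A) (c s : ℤ)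
    (hY : (tS (A := A)).IsGE Y c) (h : s < c) :
    Subsingleton ((singleFunctor A 0).obj P ⟶ Y⟦s⟧) := by
  have hz : ∀ f : (singleFunctor A 0).obj P ⟶ Y⟦s⟧, f = 0 := by
    intro f
    haveI : (tS (A := A)).IsGE (Y⟦s⟧) (c - s) := (tS (A := A)).isGE_shift _ c s (c - s) (by omega)
    haveI : (tS (A := A)).IsLE ((singleFunctor A 0).obj P) 0 :=
      inferInstanceAs (((singleFunctor A 0).obj P).IsLE 0)
    exact (tS (A := A)).zero f 0 (c - s) (by omega)
  exact ⟨fun f g => by rw [hz f, hz g]⟩

variable [HasExt.{w'} A]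

lemma subsingleton_ext_of_isZero (P Z : A) (hZ : IsZero Z) (k : ℕ) :
    Subsingleton (Ext.{w'} P Z k) := by
  have hz : ∀ x : Ext.{w'} P Z k, x = 0 := by
    intro x
    have h1 := x.comp_mk₀_id
    have h2 : (𝟙 Z) = 0 := hZ.eq_of_src _ _
    rw [h2, Ext.mk₀_zero, Ext.comp_zero] at h1
    exact h1.symm
  exact ⟨fun x y => by rw [hz x, hz y]⟩

/-- dévissage along the truncations `τ_{≥ c} X` -/
lemma subsingleton_hom_truncGE (P : A) (X : DerivedCategory A) (s : ℤ)
    (h : ∀ (q : ℤ) (k : ℕ), q + k = s →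
      Subsingleton (Ext.{w'} P ((homologyFunctor A q).obj X) k)) :
    ∀ (r : ℕ) (c : ℤ), s - c + 1 ≤ r →
      Subsingleton ((singleFunctor A 0).obj P ⟶ (((tS (A := A)).truncGE c).obj X)⟦s⟧) := by
  intro r
  induction r with
  | zero =>
    intro c hc
    exact subsingleton_hom_of_lt P _ c s inferInstance (by omega)
  | succ r ih =>
    intro c hc
    by_cases hsc : s < c
    · exact subsingleton_hom_of_lt P _ c s inferInstance hsc
    · obtain ⟨k, hk⟩ : ∃ k : ℕ, c + (k : ℤ) = s := ⟨(s - c).toNat, by omega⟩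
      obtain ⟨e⟩ := nonempty_iso_single X c
      have hT := triangle_distinguished X c (c + 1) (by omega)
      have h1 := subsingleton_hom_of_ext P _ c s k hk (h c k hk) e
      have h3 := ih (c + 1) (by omega)
      constructor
      intro f g
      have h0 : (f - g) ≫ (((tS (A := A)).natTransTruncGEOfLE c (c + 1) (by omega)).app X)⟦s⟧' = 0 :=
        h3.elim _ _
      obtain ⟨y, hy⟩ := Milnor.coyoneda_exact₂_shift _ hT s (f - g) h0
      have hy0 : y = 0 := h1.elim y 0
      have hfg : f - g = 0 := by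
        rw [hy, hy0]
        exact zero_comp
      exact sub_eq_zero.1 hfg

/-- if `X` is bounded below and `Ext^k(P, H^q(X)) = 0` whenever `q + k = s`, then
`Hom(P[0], X[s]) = 0` -/
theorem subsingleton_hom_of_ext_vanishing (P : A) (X : DerivedCategory A) (s c : ℤ)
    (hX : (tS (A := A)).IsGE X c)
    (h : ∀ (q : ℤ) (k : ℕ), q + k = s →
      Subsingleton (Ext.{w'} P ((homologyFunctor A q).obj X) k)) :
    Subsingleton ((singleFunctor A 0).obj P ⟶ X⟦s⟧) := by
  have h1 := subsingleton_hom_truncGE P X s h (s - c + 1).toNat c (Int.self_le_toNat _)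
  haveI : IsIso (((tS (A := A)).truncGEπ c).app X) := inferInstance
  constructor
  intro f g
  have := h1.elim (f ≫ (((tS (A := A)).truncGEπ c).app X)⟦s⟧')
    (g ≫ (((tS (A := A)).truncGEπ c).app X)⟦s⟧')
  exact (cancel_mono _).1 this

/-- vanishing from a bound on the cohomological dimension and a vanishing range -/
theorem subsingleton_hom_of_dim (R : ObjectProperty A) (P : A) (d : ℕ)
    (hd : ∀ F : A, R F → ∀ k : ℕ, d < k → Subsingleton (Ext.{w'} P F k))
    (X : DerivedCategory A) (hX : WSerre.cohIn R X) (c : ℤ) (hc : (tS (A := A)).IsGE X c) (s : ℤ)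
    (hz : ∀ q : ℤ, s - d ≤ q → q ≤ s → IsZero ((homologyFunctor A q).obj X)) :
    Subsingleton ((singleFunctor A 0).obj P ⟶ X⟦s⟧) := by
  refine subsingleton_hom_of_ext_vanishing P X s c hc ?_
  intro q k hqk
  by_cases hk : d < k
  · exact hd _ (hX q) k hk
  · exact subsingleton_ext_of_isZero P _ (hz q (by omega) (by omega)) k

end Groth.Agent.Helper3.EvC
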