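import Groth.Agent.Lib.Helper3.EvC1

/-!
# Comparison of `Hom(P[0], -[s])` along a morphism inducing isomorphisms on a range of cohomology
-/

set_option autoImplicit false
universe w w' v u

open CategoryTheory Limits Pretriangulated DerivedCategory Abelian

namespace Groth.Agent.Helper3.EvC

open Groth.Agent.Helper3.TrLim Groth.Agent.Helper3.CohWayOut

variable {A : Type u} [Category.{v} A] [Abelian A] [HasDerivedCategory.{w} A] [HasExt.{w'} A]

/-- in a distinguished triangle `Z ⟶ X ⟶ X'`, `H^q(Z) = 0` if `H^{q-1}(X) → H^{q-1}(X')` is epi and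
`H^q(X) → H^q(X')` is mono -/
lemma isZero_homology_obj₁ (T : Triangle (DerivedCategory A)) (hT : T ∈ distTriang _) (q : ℤ)
    (h1 : Epi ((homologyFunctor A (q - 1)).map T.mor₂))
    (h2 : Mono ((homologyFunctor A q).map T.mor₂)) :
    IsZero ((homologyFunctor A q).obj T.obj₁) := by
  have e1 := (HomologySequence.epi_homologyMap_mor₂_iff T hT (q - 1) q (by omega)).1 h1
  have e2 := (HomologySequence.mono_homologyMap_mor₂_iff T hT q).1 h2
  exact (HomologySequence.exact₁ T hT (q - 1) q (by omega)).isZero_of_both_zeros e1 e2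

theorem bijective_postcomp_of_isIso_range (R : ObjectProperty A) [WSerre.IsWeakSerre R]
    (P : A) (d : ℕ)
    (hd : ∀ F : A, R F → ∀ k : ℕ, d < k → Subsingleton (Ext.{w'} P F k))
    {X X' : DerivedCategory A} (φ : X ⟶ X') (hX : WSerre.cohInPlus R X)
    (hX' : WSerre.cohInPlus R X') (s : ℤ)
    (hiso : ∀ q : ℤ, s - 1 - d ≤ q → q ≤ s + 1 → IsIso ((homologyFunctor A q).map φ)) :
    Function.Bijective (fun ξ : (singleFunctor A 0).obj P ⟶ X⟦s⟧ => ξ ≫ φ⟦s⟧') := by
  obtain ⟨Z, i, δ, hT⟩ := distinguished_cocone_triangle₁ φ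
  obtain ⟨hXR, c, hc⟩ := hX
  obtain ⟨hXR', c', hc'⟩ := hX'
  have hT' := inv_rot_of_distTriang _ hT
  -- `Z` has cohomology in `R`
  have hZR : WSerre.cohIn R Z :=
    cohIn_obj₂ R _ hT' (cohIn_shift R X' (-1) hXR') hXR
  -- `Z` is bounded below
  have hZc : (tS (A := A)).IsGE Z (min c c') := by
    haveI : (tS (A := A)).IsGE X c := hc
    haveI : (tS (A := A)).IsGE X' c' := hc'
    refine (tS (A := A)).isGE₂ _ hT' (min c c') ?_ ?_
    · haveI h1 : (tS (A := A)).IsGE (Triangle.mk i φ δ).invRotate.obj₁ (c' + 1) :=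
        (tS (A := A)).isGE_shift X' c' (-1) (c' + 1) (by omega)
      exact (tS (A := A)).isGE_of_ge _ (min c c') (c' + 1) (by
        have := min_le_right c c'; omega)
    · haveI h3 : (tS (A := A)).IsGE (Triangle.mk i φ δ).invRotate.obj₃ c := hc
      exact (tS (A := A)).isGE_of_ge _ (min c c') c (min_le_left c c')
  -- vanishing of the cohomology of `Z` in the range `[s - d, s + 1]`
  have hZ0 : ∀ q : ℤ, s - d ≤ q → q ≤ s + 1 → IsZero ((homologyFunctor A q).obj Z) := by
    intro q hq1 hq2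
    haveI := hiso (q - 1) (by omega) (by omega)
    haveI := hiso q (by omega) (by omega)
    exact isZero_homology_obj₁ (Triangle.mk i φ δ) hT q
      (inferInstanceAs (Epi ((homologyFunctor A (q - 1)).map φ)))
      (inferInstanceAs (Mono ((homologyFunctor A q).map φ)))
  have h1 : Subsingleton ((singleFunctor A 0).obj P ⟶ Z⟦s⟧) :=
    subsingleton_hom_of_dim R P d hd Z hZR _ hZc s
      (fun q hq1 hq2 => hZ0 q hq1 (by omega))
  have h2' : Subsingleton ((singleFunctor A 0).obj P ⟶ Z⟦s + 1⟧) :=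
    subsingleton_hom_of_dim R P d hd Z hZR _ hZc (s + 1)
      (fun q hq1 hq2 => hZ0 q (by omega) hq2)
  have h2 : Subsingleton ((singleFunctor A 0).obj P ⟶ (Z⟦(1 : ℤ)⟧)⟦s⟧) := by
    let e : (Z⟦(1 : ℤ)⟧)⟦s⟧ ≅ Z⟦s + 1⟧ :=
      ((shiftFunctorAdd' (DerivedCategory A) 1 s (s + 1) (by omega)).app Z).symm
    constructor
    intro f g
    have h4 : f ≫ e.hom = g ≫ e.hom := h2'.elim _ _
    exact (cancel_mono e.hom).1 h4
  exact bijective_postcomp_of_subsingleton (Triangle.mk i φ δ) hT _ s h1 h2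

end Groth.Agent.Helper3.EvC
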