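import Groth.Agent.Lib.Helper3.TrLim5
import Groth.Agent.Lib.Helper3.CxLim1

/-!
# Hypercohomology on a class of acyclic objects: preliminaries
-/

universe u

open CategoryTheory Limits Opposite Pretriangulated

namespace Groth.Agent.Helper3.TrLim

section Cover

variable {C : Type u} [SmallCategory C] {J : GrothendieckTopology C}

/-- a covering class of objects refines every covering sieve -/
lemma exists_cover_in_sieve (B : Set C)
    (hB : ∀ U : C, ∃ (ι : Type u) (Y : ι → C) (f : ∀ i, Y i ⟶ U),
      Sieve.ofArrows Y f ∈ J U ∧ ∀ i, Y i ∈ B)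
    (V : C) (T : Sieve V) (hT : T ∈ J V) :
    ∃ (ι : Type u) (Y : ι → C) (f : ∀ i, Y i ⟶ V), (∀ i, T.arrows (f i)) ∧
      Sieve.ofArrows Y f ∈ J V ∧ ∀ i, Y i ∈ B := by
  choose ι' Y' f' hcov' hY' using hB
  refine ⟨Σ (W : C) (_ : {g : W ⟶ V // T.arrows g}), ι' W, fun i => Y' i.1 i.2.2,
    fun i => f' i.1 i.2.2 ≫ i.2.1.1, fun i => T.downward_closed i.2.1.2 _, ?_,
    fun i => hY' i.1 i.2.2⟩
  refine J.transitive hT _ (fun W g hg => ?_)
  refine J.superset_covering ?_ (hcov' W)
  intro W' k hk
  obtain ⟨i, b, rfl⟩ := (Sieve.mem_ofArrows_iff _ _ k).1 hk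
  change (Sieve.ofArrows _ _).arrows ((b ≫ f' W i) ≫ g)
  rw [Category.assoc]
  apply Sieve.downward_closed
  exact Sieve.ofArrows_mk _ _ (⟨W, ⟨g, hg⟩, i⟩ : Σ (W : C) (_ : {g : W ⟶ V // T.arrows g}), ι' W)

end Cover

section Tower

variable {G : ℕ → Type u} [∀ n, AddCommGroup (G n)] (t : ∀ n, G (n + 1) →+ G n)

/-- with eventually surjective transition maps, every element extends to a compatible family -/
lemma exists_compatible_of_eventually_surjective (N : ℕ)
    (h : ∀ n, N ≤ n → Function.Surjective (t n)) (x : G N) :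
    ∃ y : ∀ n, G n, (∀ n, t n (y (n + 1)) = y n) ∧ y N = x := by
  have hs : ∀ n, ∃ s : G n → G (n + 1), N ≤ n → ∀ g, t n (s g) = g := by
    intro n
    by_cases hn : N ≤ n
    · exact ⟨Function.surjInv (h n hn), fun _ g => Function.surjInv_eq (h n hn) g⟩
    · exact ⟨fun _ => 0, fun h' => absurd h' hn⟩
  choose s hs using hs
  let ρ : ∀ n, G n := Function.update (fun n => (0 : G n)) N x
  have hρ : ρ N = x := Function.update_self _ _ _
  let c : ∀ n, G n := fun n => Nat.rec (motive := fun n => G n) (ρ 0)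
    (fun n cn => if N ≤ n then s n cn else ρ (n + 1)) n
  have hc0 : c N = x := by
    rw [← hρ]
    cases N with
    | zero => rfl
    | succ j =>
      change (if j + 1 ≤ j then _ else _ : G (j + 1)) = _
      rw [if_neg (Nat.not_succ_le_self j)]
  have hcs : ∀ n, N ≤ n → t n (c (n + 1)) = c n := by
    intro n hn
    change t n (if N ≤ n then s n (c n) else ρ (n + 1)) = c n
    rw [if_pos hn, hs n hn]
  obtain ⟨y, hy1, hy2⟩ := CxLim.exists_compatible t N c hcs
  exact ⟨y, hy1, (hy2 N le_rfl).trans hc0⟩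

end Tower

section Hyper

variable {C : Type u} [SmallCategory C] {J : GrothendieckTopology C}
  [HasDerivedCategory.{u} (Sheaf J AddCommGrpCat.{u})]
  (K : DerivedCategory (Sheaf J AddCommGrpCat.{u})) [HasProduct (CohCx.truncTower K)] (W : C)
  (hv : ∀ (q : ℤ) (k : ℕ), Subsingleton (CohSite.HU (CohCx.HD K q) (k + 1) W))

include hv in
lemma hv0 (m : ℤ) (k : ℕ) (hk : (fun _ : ℤ => (0 : ℤ)) m < k) :
    Subsingleton (CohSite.HU (CohCx.HD K (m - k)) k W) := by
  obtain ⟨k', rfl⟩ : ∃ k', k = k' + 1 := ⟨k - 1, by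
    have : (0 : ℤ) < k := hk
    omega⟩
  exact hv _ k'

lemma thr_zero (q : ℤ) : thr (fun _ => 0) q = (-q).toNat := by
  unfold thr
  congr 1
  rw [max_self, zero_sub, max_self]

include hv in
theorem bijective_toTruncTower
    (hL : CohCx.IsRlimVia (CohCx.truncTower K) (CohCx.truncTowerMap K) K (CohCx.toTruncTower K))
    (q : ℤ) (N : ℕ) (hN : (-q).toNat ≤ N) :
    Function.Bijective (Preadditive.rightComp
      ((DerivedCategory.singleFunctor _ 0).obj (CohCx.freeSheaf J W))
      ((shiftFunctor _ q).map (CohCx.toTruncTower K N)) :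
        CohCx.HDU K q W → CohCx.HDU (CohCx.truncTower K N) q W) := by
  have hstep : ∀ n, N ≤ n → Function.Bijective (Preadditive.rightComp
      ((DerivedCategory.singleFunctor _ 0).obj (CohCx.freeSheaf J W))
      ((shiftFunctor _ q).map (CohCx.truncTowerMap K n)) :
        CohCx.HDU (CohCx.truncTower K (n + 1)) q W → CohCx.HDU (CohCx.truncTower K n) q W) :=
    fun n hn => bijective_step K W (fun _ => 0) (hv0 K W hv) q n (by rw [thr_zero]; omega)
  have hcompat : ∀ (n : ℕ) (ξ : CohCx.HDU K q W),
      (ξ ≫ (shiftFunctor _ q).map (CohCx.toTruncTower K (n + 1))) ≫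
        (shiftFunctor _ q).map (CohCx.truncTowerMap K n) =
      ξ ≫ (shiftFunctor _ q).map (CohCx.toTruncTower K n) := by
    intro n ξ
    rw [Category.assoc, ← Functor.map_comp, truncTower_compat]
  constructor
  · rw [injective_iff_map_eq_zero]
    intro ξ hξ
    have hξ' : ξ ≫ (shiftFunctor _ q).map (CohCx.toTruncTower K N) = 0 := hξ
    have hup : ∀ n, N ≤ n → ξ ≫ (shiftFunctor _ q).map (CohCx.toTruncTower K n) = 0 := by
      intro n hn
      induction n, hn using Nat.le_induction with
      | base => exact hξ'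
      | succ n hn ih =>
        apply (hstep n hn).1
        change (ξ ≫ (shiftFunctor _ q).map (CohCx.toTruncTower K (n + 1))) ≫
          (shiftFunctor _ q).map (CohCx.truncTowerMap K n) = 0 ≫ _
        rw [hcompat, ih, zero_comp]
    have hdown : ∀ b, ξ ≫ (shiftFunctor _ q).map (CohCx.toTruncTower K b) = 0 →
        ∀ a, a ≤ b → ξ ≫ (shiftFunctor _ q).map (CohCx.toTruncTower K a) = 0 := by
      intro b
      induction b with
      | zero =>
        intro h a ha
        obtain rfl : a = 0 := Nat.le_zero.1 ha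
        exact h
      | succ b ih =>
        intro h a ha
        rcases Nat.lt_or_ge b a with hlt | hge
        · obtain rfl : a = b + 1 := le_antisymm ha hlt
          exact h
        · refine ih ?_ a hge
          rw [← hcompat, h, zero_comp]
    refine Milnor.eq_zero_of_limOne hL _ q (cond1 K W (fun _ => 0) (hv0 K W hv) q) ξ ?_
    intro n
    rcases le_total N n with h | h
    · exact hup n h
    · exact hdown N hξ' n h
  · intro x
    obtain ⟨y, hy1, hy2⟩ := exists_compatible_of_eventually_surjective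
      (G := fun n => CohCx.HDU (CohCx.truncTower K n) q W)
      (fun n => Preadditive.rightComp
        ((DerivedCategory.singleFunctor _ 0).obj (CohCx.freeSheaf J W))
        ((shiftFunctor _ q).map (CohCx.truncTowerMap K n))) N
      (fun n hn => (hstep n hn).2) x
    obtain ⟨ξ, hξ⟩ := Milnor.exists_lift hL
      ((DerivedCategory.singleFunctor _ 0).obj (CohCx.freeSheaf J W)) q y hy1
    exact ⟨ξ, (hξ N).trans hy2⟩

end Hyper

end Groth.Agent.Helper3.TrLim
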