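import Groth.Agent.Lib.Helper3.EvC2
import Groth.Agent.Lib.Helper3.TrLim7

/-!
# Derived limits of systems with eventually bijective transition maps on `Hom(Z, -[q])`
-/

set_option autoImplicit false
universe v u

open CategoryTheory Limits Pretriangulated

namespace Groth.Agent.Helper3.EvC

open Groth.Agent.Helper3.TrLim Groth.Agent.Helper3.DLimInj

section Thr

lemma exists_threshold {α : ℤ → ℕ → Prop} (h : ∀ j, ∃ n₀ : ℕ, ∀ n, n₀ ≤ n → α j n) (lo : ℤ) :
    ∀ len : ℕ, ∃ N : ℕ, ∀ q : ℤ, lo ≤ q → q < lo + len → ∀ n, N ≤ n → α q n := by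
  intro len
  induction len with
  | zero => exact ⟨0, fun q h1 h2 => by omega⟩
  | succ len ih =>
    obtain ⟨N, hN⟩ := ih
    obtain ⟨n₀, hn₀⟩ := h (lo + len)
    refine ⟨max N n₀, fun q h1 h2 n hn => ?_⟩
    by_cases hq : q < lo + len
    · exact hN q h1 hq n ((le_max_left _ _).trans hn)
    · obtain rfl : q = lo + len := by push_cast at h2; omega
      exact hn₀ n ((le_max_right _ _).trans hn)

end Thr

section Mil

variable {T : Type u} [Category.{v} T] [Preadditive T] [HasZeroObject T] [HasShift T ℤ]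
  [∀ n : ℤ, (shiftFunctor T n).Additive] [Pretriangulated T]
  {K : ℕ → T} {t : ∀ n, K (n + 1) ⟶ K n} [HasProduct K] {L : T} {a : ∀ n, L ⟶ K n}

theorem bijective_of_eventually_bijective (hL : CohCx.IsRlimVia K t L a) (Z : T) (q : ℤ) (N : ℕ)
    (hb : ∀ n, N ≤ n → Function.Bijective
      (Preadditive.rightComp Z ((t n)⟦q⟧') : (Z ⟶ (K (n + 1))⟦q⟧) → (Z ⟶ (K n)⟦q⟧)))
    (hs : ∀ n, N ≤ n → Function.Surjective
      (Preadditive.rightComp Z ((t n)⟦q - 1⟧') : (Z ⟶ (K (n + 1))⟦q - 1⟧) → (Z ⟶ (K n)⟦q - 1⟧))) :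
    Function.Bijective (Preadditive.rightComp Z ((a N)⟦q⟧') : (Z ⟶ L⟦q⟧) → (Z ⟶ (K N)⟦q⟧)) := by
  have hcompat : ∀ (n : ℕ) (ξ : Z ⟶ L⟦q⟧),
      (ξ ≫ (a (n + 1))⟦q⟧') ≫ (t n)⟦q⟧' = ξ ≫ (a n)⟦q⟧' := by
    intro n ξ
    rw [Category.assoc, ← Functor.map_comp, a_succ hL]
  have hlim : CohCx.LimOneIsZero (fun n => Z ⟶ (K n)⟦q - 1⟧)
      (fun n => Preadditive.rightComp _ ((t n)⟦q - 1⟧')) :=
    limOneIsZero_of_eventually_surjective _ N hs
  constructor
  · rw [injective_iff_map_eq_zero]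
    intro ξ hξ
    have hξ' : ξ ≫ (a N)⟦q⟧' = 0 := hξ
    have hup : ∀ n, N ≤ n → ξ ≫ (a n)⟦q⟧' = 0 := by
      intro n hn
      induction n, hn using Nat.le_induction with
      | base => exact hξ'
      | succ n hn ih =>
        apply (hb n hn).1
        change (ξ ≫ (a (n + 1))⟦q⟧') ≫ (t n)⟦q⟧' = 0 ≫ _
        rw [hcompat, ih, zero_comp]
    have hdown : ∀ b, ξ ≫ (a b)⟦q⟧' = 0 → ∀ c, c ≤ b → ξ ≫ (a c)⟦q⟧' = 0 := by
      intro b
      induction b with
      | zero =>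
        intro h c hc
        obtain rfl : c = 0 := Nat.le_zero.1 hc
        exact h
      | succ b ih =>
        intro h c hc
        rcases Nat.lt_or_ge b c with hlt | hge
        · obtain rfl : c = b + 1 := le_antisymm hc hlt
          exact h
        · refine ih ?_ c hge
          rw [← hcompat, h, zero_comp]
    refine Milnor.eq_zero_of_limOne hL _ q hlim ξ ?_
    intro n
    rcases le_total N n with h | h
    · exact hup n h
    · exact hdown N hξ' n h
  · intro x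
    obtain ⟨y, hy1, hy2⟩ := exists_compatible_of_eventually_surjective
      (G := fun n => Z ⟶ (K n)⟦q⟧)
      (fun n => Preadditive.rightComp Z ((t n)⟦q⟧')) N
      (fun n hn => (hb n hn).2) x
    obtain ⟨ξ, hξ⟩ := Milnor.exists_lift hL Z q y hy1
    exact ⟨ξ, (hξ N).trans hy2⟩

/-- injectivity of all the iterated transition maps from a stage on -/
lemma injective_transition_of_eventually_bijective (Z : T) (q : ℤ) (N : ℕ)
    (hb : ∀ n, N ≤ n → Function.Bijective
      (Preadditive.rightComp Z ((t n)⟦q⟧') : (Z ⟶ (K (n + 1))⟦q⟧) → (Z ⟶ (K n)⟦q⟧)))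
    (nV : ℕ) (hnV : N ≤ nV) (k : ℕ) :
    Function.Injective (Preadditive.rightComp Z ((CohCx.transition K t nV k)⟦q⟧') :
      (Z ⟶ (K (nV + k))⟦q⟧) → (Z ⟶ (K nV)⟦q⟧)) := by
  induction k with
  | zero =>
    intro ξ ξ' h
    have h1 : ∀ ζ : Z ⟶ (K (nV + 0))⟦q⟧,
        Preadditive.rightComp Z ((CohCx.transition K t nV 0)⟦q⟧') ζ = ζ := by
      intro ζ
      change ζ ≫ (shiftFunctor _ q).map (𝟙 _) = ζ
      rw [CategoryTheory.Functor.map_id, Category.comp_id]
    rw [h1, h1] at h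
    exact h
  | succ k ih =>
    intro ξ ξ' h
    have h1 : ∀ ζ : Z ⟶ (K (nV + (k + 1)))⟦q⟧,
        Preadditive.rightComp Z ((CohCx.transition K t nV (k + 1))⟦q⟧') ζ =
        Preadditive.rightComp Z ((CohCx.transition K t nV k)⟦q⟧')
          (Preadditive.rightComp Z ((t (nV + k))⟦q⟧') ζ) := by
      intro ζ
      change ζ ≫ (shiftFunctor _ q).map (t (nV + k) ≫ CohCx.transition K t nV k) = _
      rw [Functor.map_comp, ← Category.assoc]
      rfl
    rw [h1, h1] at h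
    exact (hb (nV + k) (by omega)).1 (ih h)

end Mil

end Groth.Agent.Helper3.EvC
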