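import Groth.Agent.Lib.Helper3.TowerLimA
import Groth.Prelude.Def_CohCx

/-!
# Towers of abelian groups with eventually surjective/bijective transition maps
-/

universe u

open CategoryTheory

namespace Groth.Agent.Helper3.TrLim

section Tower

variable {G : ℕ → Type u} [∀ n, AddCommGroup (G n)] (t : ∀ n, G (n + 1) →+ G n)

/-- eventually surjective transition maps give vanishing `lim¹` -/
theorem limOneIsZero_of_eventually_surjective (N : ℕ)
    (h : ∀ n, N ≤ n → Function.Surjective (t n)) : CohCx.LimOneIsZero G t := by
  intro y
  -- sections of the transition maps above `N`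
  have hs : ∀ n, ∃ s : G n → G (n + 1), N ≤ n → ∀ g, t n (s g) = g := by
    intro n
    by_cases hn : N ≤ n
    · exact ⟨Function.surjInv (h n hn), fun _ g => Function.surjInv_eq (h n hn) g⟩
    · exact ⟨fun _ => 0, fun h' => absurd h' hn⟩
  choose s hs using hs
  -- upward solution
  let v : ∀ n, G n := fun n => Nat.rec (motive := fun n => G n) 0 (fun n vn => s n (vn - y n)) n
  have hv : ∀ n, N ≤ n → v n - t n (v (n + 1)) = y n := by
    intro n hn
    change v n - t n (s n (v n - y n)) = y n
    rw [hs n hn]
    abel
  -- downward solution below `N`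
  obtain ⟨X, hX, hP⟩ := Tower.exists_partial_top G t y N (v N)
  refine ⟨fun n => if N ≤ n then v n else X n, ?_⟩
  funext n
  by_cases hn : N ≤ n
  · have hn' : N ≤ n + 1 := by omega
    simp only [if_pos hn, if_pos hn']
    exact hv n hn
  · have hlt : n < N := by omega
    have h1 := hP n hlt
    by_cases hn' : N ≤ n + 1
    · have : n + 1 = N := by omega
      simp only [if_neg hn, if_pos hn']
      rw [h1]
      subst this
      rw [hX]
      abel
    · simp only [if_neg hn, if_neg hn']
      rw [h1]
      abel

end Tower

end Groth.Agent.Helper3.TrLim
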