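import Groth.Agent.Lib.Helper3.TrLim2
import Groth.Agent.Lib.Helper3.TrLim3
import Groth.Agent.Lib.Helper3.DLimInj2

/-!
# The truncation tower of an object of the derived category of abelian sheaves: conditions for
the injectivity lemma
-/

universe u

open CategoryTheory Limits Opposite Pretriangulated

namespace Groth.Agent.Helper3.TrLim

variable {C : Type u} [SmallCategory C] {J : GrothendieckTopology C}
  [HasDerivedCategory.{u} (Sheaf J AddCommGrpCat.{u})]

/-- threshold beyond which the transition maps on `H^m(W, τ_{≥ -n}E)` are bijective -/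
noncomputable def thr (p : ℤ → ℤ) (m : ℤ) : ℕ := (max (max (p m) (p (m + 1)) - m) (-m)).toNat

variable (E : DerivedCategory (Sheaf J AddCommGrpCat.{u})) (W : C) (p : ℤ → ℤ)
  (hv : ∀ (m : ℤ) (k : ℕ), p m < k → Subsingleton (CohSite.HU (CohCx.HD E (m - k)) k W))

include hv in
lemma bijective_step (m : ℤ) (n : ℕ) (hn : thr p m ≤ n) :
    Function.Bijective (Preadditive.rightComp
      ((DerivedCategory.singleFunctor _ 0).obj (CohCx.freeSheaf J W))
      ((shiftFunctor _ m).map (CohCx.truncTowerMap E n)) :
        CohCx.HDU (CohCx.truncTower E (n + 1)) m W → CohCx.HDU (CohCx.truncTower E n) m W) := by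
  have h0 : max (max (p m) (p (m + 1)) - m) (-m) ≤ (n : ℤ) := by
    have := Int.self_le_toNat (max (max (p m) (p (m + 1)) - m) (-m))
    have h2 : ((thr p m : ℕ) : ℤ) ≤ n := by exact_mod_cast hn
    exact this.trans h2
  have h1 : p m - m ≤ n := by
    have := le_max_left (p m) (p (m + 1)); have := le_max_left (max (p m) (p (m + 1)) - m) (-m)
    omega
  have h2 : p (m + 1) - m ≤ n := by
    have := le_max_right (p m) (p (m + 1)); have := le_max_left (max (p m) (p (m + 1)) - m) (-m)
    omega
  have h3 : -m ≤ n := (le_max_right _ _).trans h0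
  -- the natural number `k = m + n + 1`
  obtain ⟨k, hk⟩ : ∃ k : ℕ, (k : ℤ) = m + n + 1 := ⟨(m + n + 1).toNat, Int.toNat_of_nonneg (by omega)⟩
  have e1 := hv m k (by omega)
  have e2 := hv (m + 1) (k + 1) (by push_cast; omega)
  have ha1 : m - (k : ℤ) = -((n + 1 : ℕ) : ℤ) := by push_cast; omega
  have ha2 : m + 1 - ((k + 1 : ℕ) : ℤ) = -((n + 1 : ℕ) : ℤ) := by push_cast; omega
  rw [ha1] at e1
  rw [ha2] at e2
  exact bijective_transition E (CohCx.freeSheaf J W) (-((n + 1 : ℕ) : ℤ)) (-(n : ℤ)) m k
    (by push_cast; omega) (by push_cast; omega) e1 e2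

include hv in
lemma cond1 (m : ℤ) :
    CohCx.LimOneIsZero (fun n => CohCx.HDU (CohCx.truncTower E n) (m - 1) W)
      (fun n => Preadditive.rightComp _
        ((shiftFunctor _ (m - 1)).map (CohCx.truncTowerMap E n))) :=
  limOneIsZero_of_eventually_surjective _ (thr p (m - 1))
    (fun n hn => (bijective_step E W p hv (m - 1) n hn).2)

include hv in
lemma cond2 (m : ℤ) (nV : ℕ) (hnV : thr p m ≤ nV) (k : ℕ) :
    Function.Injective (Preadditive.rightComp _ ((shiftFunctor _ m).map
      (CohCx.transition (CohCx.truncTower E) (CohCx.truncTowerMap E) nV k)) :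
        CohCx.HDU (CohCx.truncTower E (nV + k)) m W → CohCx.HDU (CohCx.truncTower E nV) m W) := by
  induction k with
  | zero =>
    intro ξ ξ' h
    have h1 : ∀ ζ : CohCx.HDU (CohCx.truncTower E (nV + 0)) m W,
        Preadditive.rightComp _ ((shiftFunctor _ m).map
          (CohCx.transition (CohCx.truncTower E) (CohCx.truncTowerMap E) nV 0)) ζ = ζ := by
      intro ζ
      change ζ ≫ (shiftFunctor _ m).map (𝟙 _) = ζ
      rw [CategoryTheory.Functor.map_id, Category.comp_id]
    rw [h1, h1] at h
    exact h
  | succ k ih =>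
    intro ξ ξ' h
    have h1 : ∀ ζ : CohCx.HDU (CohCx.truncTower E (nV + (k + 1))) m W,
        Preadditive.rightComp _ ((shiftFunctor _ m).map
          (CohCx.transition (CohCx.truncTower E) (CohCx.truncTowerMap E) nV (k + 1))) ζ =
        Preadditive.rightComp _ ((shiftFunctor _ m).map
          (CohCx.transition (CohCx.truncTower E) (CohCx.truncTowerMap E) nV k))
          (Preadditive.rightComp _ ((shiftFunctor _ m).map
            (CohCx.truncTowerMap E (nV + k))) ζ) := by
      intro ζ
      change ζ ≫ (shiftFunctor _ m).map (CohCx.truncTowerMap E (nV + k) ≫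
        CohCx.transition (CohCx.truncTower E) (CohCx.truncTowerMap E) nV k) = _
      rw [Functor.map_comp, ← Category.assoc]
      rfl
    rw [h1, h1] at h
    exact (bijective_step E W p hv m (nV + k) (by omega)).1 (ih h)

end Groth.Agent.Helper3.TrLim
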