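import Groth.Agent.Lib.Helper3.ModLim3
import Groth.Agent.Lib.Helper5.Misc.ExtFreeHK
import Groth.Agent.Lib.Helper5.Misc.FreeShYoneda
import Groth.Agent.Lib.Helper3.TrLim4

/-!
# `Ext` out of `j_{U!} O_U` is the cohomology of the underlying abelian sheaf; the truncation tower
of an object of `D(O)`
-/

set_option autoImplicit false
universe u

open CategoryTheory Limits Opposite Pretriangulated Abelian

namespace Groth.Agent.Helper3.ModLim

open Groth.Agent.Helper6.DRef Groth.Agent.Helper3.TrLim Groth.Agent.Helper3.QcSum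

variable {C : Type u} [SmallCategory C] {J : GrothendieckTopology C}
  (O : Sheaf J CommRingCat.{u})

section ExtCmp

/-- sections, with values in the underlying abelian sheaf -/
noncomputable def secAb (W : C) (M : ModSite.Mod O) :
    (ModSite.freeOn O W ⟶ M) ≃ ToType (((tAb O).obj M).obj.obj (op W)) := sec O W M

/-- maps out of `j_{W!} O_W` are maps out of the free abelian sheaf on `W` into the underlying
abelian sheaf -/
noncomputable def phiE (W : C) (M : ModSite.Mod O) :
    (ModSite.freeOn O W ⟶ M) ≃+ ((Fr J).obj W ⟶ (tAb O).obj M) :=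
  AddEquiv.mk' ((secAb O W M).trans (secEquiv J W ((tAb O).obj M)).symm) (by
    intro a b
    apply (secEquiv J W ((tAb O).obj M)).injective
    rw [secEquiv_add]
    simp only [Equiv.trans_apply, Equiv.apply_symm_apply]
    exact sec_add O W a b)

lemma phiE_naturality (W : C) {M N : ModSite.Mod O} (g : M ⟶ N) (p : ModSite.freeOn O W ⟶ M) :
    phiE O W N (p ≫ g) = phiE O W M p ≫ (tAb O).map g := by
  apply (secEquiv J W ((tAb O).obj N)).injective
  rw [secEquiv_comp]
  change secEquiv J W _ ((secEquiv J W _).symm (secAb O W N (p ≫ g))) =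
    ((tAb O).map g).hom.app (op W) (secEquiv J W _ ((secEquiv J W _).symm (secAb O W M p)))
  rw [Equiv.apply_symm_apply, Equiv.apply_symm_apply]
  exact sec_comp O W p g

variable [HasExt.{u} (ModSite.Mod O)]

theorem nonempty_ext_addEquiv (W : C) (M : ModSite.Mod O) (n : ℕ) :
    Nonempty (Ext (ModSite.freeOn O W) M n ≃+ Ext ((Fr J).obj W) ((tAb O).obj M) n) := by
  have := Groth.Agent.S0485.result J (ModSite.ringSh O)
  haveI := toSheaf_preservesFiniteColimits (ModSite.ringSh O)
  exact Groth.Agent.Lib.Helper5.Misc.ExtShift.nonempty_ext_addEquiv (tAb O)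
    (ModSite.freeOn O W) ((Fr J).obj W)
    (phiE O W) (fun g p => phiE_naturality O W g p)
    (fun I _ n x => by
      haveI := Groth.Agent.Lib.Helper5.Misc.ShriekAb.subsingleton_HU_of_isTotallyAcyclic J _
        (Groth.Agent.Lib.Helper5.Misc.InjTotAcyc.isTotallyAcyclic_of_injective I) W n
      exact Subsingleton.elim (α := CohSite.HU ((tAb O).obj I) (n + 1) W) x 0) n M

theorem subsingleton_ext_of_HU (W : C) (M : ModSite.Mod O) (k : ℕ)
    (h : Subsingleton (ModSite.HU O M k W)) : Subsingleton (Ext (ModSite.freeOn O W) M k) := by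
  obtain ⟨e⟩ := nonempty_ext_addEquiv O W M k
  haveI : Subsingleton (Ext ((Fr J).obj W) ((tAb O).obj M) k) := h
  exact e.subsingleton

end ExtCmp

section Tower

variable [HasDerivedCategory.{u} (ModSite.Mod O)]

variable (E : DerivedCategory (ModSite.Mod O)) (W : C) (p : ℤ → ℤ)
  (hv : ∀ (m : ℤ) (k : ℕ), p m < k →
    Subsingleton (ModSite.HU O ((DerivedCategory.homologyFunctor (ModSite.Mod O) (m - k)).obj E) k W))

include hv in
lemma bijective_step (m : ℤ) (n : ℕ) (hn : thr p m ≤ n) :
    Function.Bijective (Preadditive.rightComp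
      ((sg O).obj (ModSite.freeOn O W))
      ((shiftFunctor _ m).map (CohCx.truncTowerMap E n)) :
        ((sg O).obj (ModSite.freeOn O W) ⟶ (CohCx.truncTower E (n + 1))⟦m⟧) →
          ((sg O).obj (ModSite.freeOn O W) ⟶ (CohCx.truncTower E n)⟦m⟧)) := by
  have h0 : max (max (p m) (p (m + 1)) - m) (-m) ≤ (n : ℤ) := by
    have := Int.self_le_toNat (max (max (p m) (p (m + 1)) - m) (-m))
    have h2 : ((thr p m : ℕ) : ℤ) ≤ n := by exact_mod_cast hn
    exact this.trans h2
  have h1 : p m - m ≤ n := by
    have := le_max_left (p m) (p (m + 1)); have := le_max_left (max (p m) (p (m + 1)) - m) (-m)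
    omega
  have h2 : p (m + 1) - m ≤ n := by
    have := le_max_right (p m) (p (m + 1)); have := le_max_left (max (p m) (p (m + 1)) - m) (-m)
    omega
  have h3 : -m ≤ n := (le_max_right _ _).trans h0
  obtain ⟨k, hk⟩ : ∃ k : ℕ, (k : ℤ) = m + n + 1 := ⟨(m + n + 1).toNat, Int.toNat_of_nonneg (by omega)⟩
  have e1 := hv m k (by omega)
  have e2 := hv (m + 1) (k + 1) (by push_cast; omega)
  have ha1 : m - (k : ℤ) = -((n + 1 : ℕ) : ℤ) := by push_cast; omega
  have ha2 : m + 1 - ((k + 1 : ℕ) : ℤ) = -((n + 1 : ℕ) : ℤ) := by push_cast; omega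
  rw [ha1] at e1
  rw [ha2] at e2
  exact bijective_transition E (ModSite.freeOn O W) (-((n + 1 : ℕ) : ℤ)) (-(n : ℤ)) m k
    (by push_cast; omega) (by push_cast; omega)
    (subsingleton_ext_of_HU O W _ k e1) (subsingleton_ext_of_HU O W _ (k + 1) e2)

include hv in
lemma cond1 (m : ℤ) :
    CohCx.LimOneIsZero
      (fun n => (sg O).obj (ModSite.freeOn O W) ⟶ (CohCx.truncTower E n)⟦m - 1⟧)
      (fun n => Preadditive.rightComp _
        ((shiftFunctor _ (m - 1)).map (CohCx.truncTowerMap E n))) :=
  limOneIsZero_of_eventually_surjective _ (thr p (m - 1))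
    (fun n hn => (bijective_step O E W p hv (m - 1) n hn).2)

include hv in
lemma cond2 (m : ℤ) (nV : ℕ) (hnV : thr p m ≤ nV) (k : ℕ) :
    Function.Injective (Preadditive.rightComp _ ((shiftFunctor _ m).map
      (CohCx.transition (CohCx.truncTower E) (CohCx.truncTowerMap E) nV k)) :
        ((sg O).obj (ModSite.freeOn O W) ⟶ (CohCx.truncTower E (nV + k))⟦m⟧) →
          ((sg O).obj (ModSite.freeOn O W) ⟶ (CohCx.truncTower E nV)⟦m⟧)) := by
  induction k with
  | zero =>
    intro ξ ξ' h
    have h1 : ∀ ζ : (sg O).obj (ModSite.freeOn O W) ⟶ (CohCx.truncTower E (nV + 0))⟦m⟧,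
        Preadditive.rightComp _ ((shiftFunctor _ m).map
          (CohCx.transition (CohCx.truncTower E) (CohCx.truncTowerMap E) nV 0)) ζ = ζ := by
      intro ζ
      change ζ ≫ (shiftFunctor _ m).map (𝟙 _) = ζ
      rw [CategoryTheory.Functor.map_id, Category.comp_id]
    rw [h1, h1] at h
    exact h
  | succ k ih =>
    intro ξ ξ' h
    have h1 : ∀ ζ : (sg O).obj (ModSite.freeOn O W) ⟶ (CohCx.truncTower E (nV + (k + 1)))⟦m⟧,
        Preadditive.rightComp _ ((shiftFunctor _ m).map
          (CohCx.transition (CohCx.truncTower E) (CohCx.truncTowerMap E) nV (k + 1))) ζ =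
        Preadditive.rightComp _ ((shiftFunctor _ m).map
          (CohCx.transition (CohCx.truncTower E) (CohCx.truncTowerMap E) nV k))
          (Preadditive.rightComp _ ((shiftFunctor _ m).map
            (CohCx.truncTowerMap E (nV + k))) ζ) := by
      intro ζ
      change ζ ≫ (shiftFunctor _ m).map (CohCx.truncTowerMap E (nV + k) ≫
        CohCx.transition (CohCx.truncTower E) (CohCx.truncTowerMap E) nV k) = _
      rw [Functor.map_comp, ← Category.assoc]
      rfl
    rw [h1, h1] at h
    exact (bijective_step O E W p hv m (nV + k) (by omega)).1 (ih h)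

end Tower

end Groth.Agent.Helper3.ModLim
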