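import Groth.Agent.Lib.Helper3.ModLimW2
import Groth.Agent.Lib.Helper3.DLimInj2

/-!
# Injectivity of the map from the cohomology module of a derived limit in `D(O)`
-/

set_option autoImplicit false
universe w u

open CategoryTheory Limits Opposite Pretriangulated

namespace Groth.Agent.Helper3.ModLimW

open Groth.Agent.Helper3.ModLim

open Groth.Agent.Helper3.DLimInj

variable {C : Type u} [SmallCategory C] {J : GrothendieckTopology C}
  (O : Sheaf J CommRingCat.{u}) [HasDerivedCategory.{w} (ModSite.Mod O)]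

/-- the sieve of arrows over which `s` is represented by a class killed by `κ` -/
def goodSieve {M M' : DerivedCategory (ModSite.Mod O)} (κ : M ⟶ M') {V : C}
    (s : ((H0 O).obj M).val.obj (op V)) : Sieve V where
  arrows W g := ∃ ξ : (sg O).obj (ModSite.freeOn O W) ⟶ M,
    phiFun O M W ξ = ((H0 O).obj M).val.map g.op s ∧ ξ ≫ κ = 0
  downward_closed := by
    rintro W W' g ⟨ξ, h1, h2⟩ k
    refine ⟨(sg O).map (frMap O k) ≫ ξ, ?_, ?_⟩
    · rw [phiFun_map, h1, op_comp, PresheafOfModules.map_comp_apply]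
    · rw [Category.assoc, h2, comp_zero]

lemma goodSieve_mem {M M' : DerivedCategory (ModSite.Mod O)} (κ : M ⟶ M') {V : C}
    (s : ((H0 O).obj M).val.obj (op V))
    (hs : ((H0 O).map κ).val.app (op V) s = 0) : goodSieve O κ s ∈ J V := by
  obtain ⟨S, hS, hloc⟩ := phi_locSurj O M V s
  refine J.transitive hS _ ?_
  intro V' f hf
  obtain ⟨ξ, hξ'⟩ := hloc f hf
  -- `ξ ≫ κ` is locally zero
  have h0 : phiFun O M' V' (ξ ≫ κ) = 0 := by
    rw [phiFun_postcomp, hξ']
    have hn := PresheafOfModules.naturality_apply ((H0 O).map κ).val f.op s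
    refine hn.trans ?_
    rw [hs]
    exact map_zero _
  obtain ⟨S', hS', heq⟩ := phi_locInj O M' V' (ξ ≫ κ) h0
  refine J.superset_covering ?_ hS'
  intro W g hg
  have hg' : (sg O).map (frMap O g) ≫ (ξ ≫ κ) = 0 := heq g hg
  refine ⟨(sg O).map (frMap O g) ≫ ξ, ?_, ?_⟩
  · rw [phiFun_map, hξ', op_comp, PresheafOfModules.map_comp_apply]
  · rw [Category.assoc, hg']

section Transport

/-- transport of sections of `Hᵐ(A)` to sections of `H⁰(A⟦m⟧)` -/
noncomputable def tr (m : ℤ) (A : DerivedCategory (ModSite.Mod O)) (V : C) :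
    ((DerivedCategory.homologyFunctor (ModSite.Mod O) m).obj A).val.obj (op V) ⟶
      ((H0 O).obj (A⟦m⟧)).val.obj (op V) :=
  ((((DerivedCategory.homologyFunctor (ModSite.Mod O) 0).shiftIso m 0 m
    (by simp)).inv.app A).val.app (op V))

lemma tr_injective (m : ℤ) (A : DerivedCategory (ModSite.Mod O)) (V : C) :
    Function.Injective (tr O m A V) := by
  intro s s' h
  let iso := (DerivedCategory.homologyFunctor (ModSite.Mod O) 0).shiftIso m 0 m
    (by simp)
  have h4 := congrArg (fun φ => φ.val.app (op V)) (iso.inv_hom_id_app A)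
  have h5 := ConcreteCategory.congr_hom h4 s
  have h6 := ConcreteCategory.congr_hom h4 s'
  have h7 := congrArg ((iso.hom.app A).val.app (op V)) h
  exact h5.symm.trans (h7.trans h6)

lemma tr_map (m : ℤ) {A B : DerivedCategory (ModSite.Mod O)} (κ : A ⟶ B) (V : C)
    (s : ((DerivedCategory.homologyFunctor (ModSite.Mod O) m).obj A).val.obj (op V)) :
    ((H0 O).map (κ⟦m⟧')).val.app (op V) (tr O m A V s) =
      tr O m B V (((DerivedCategory.homologyFunctor _ m).map κ).val.app (op V) s) := by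
  let iso := (DerivedCategory.homologyFunctor (ModSite.Mod O) 0).shiftIso m 0 m
    (by simp)
  have hnat := iso.inv.naturality κ
  have h1 := congrArg (fun φ => φ.val.app (op V)) hnat
  exact (ConcreteCategory.congr_hom h1 s).symm

lemma tr_zero (m : ℤ) (A : DerivedCategory (ModSite.Mod O)) (V : C) :
    tr O m A V 0 = 0 := map_zero _

end Transport

variable {O}

/-- the key step: a section of `H⁰(L⟦m⟧)` killed by `a n₀` vanishes on every good object over
which it is represented by a class killed by `a n₀` -/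
lemma restrict_eq_zero
    {K : ℕ → DerivedCategory (ModSite.Mod O)} {t : ∀ n, K (n + 1) ⟶ K n} [HasProduct K]
    {L : DerivedCategory (ModSite.Mod O)} {a : ∀ n, L ⟶ K n}
    (hL : CohCx.IsRlimVia K t L a) (m : ℤ) (n₀ : ℕ) {V W : C} (g : W ⟶ V)
    (s : ((H0 O).obj (L⟦m⟧)).val.obj (op V))
    (hg : (goodSieve O ((a n₀)⟦m⟧') s).arrows g)
    (h1 : CohCx.LimOneIsZero
      (fun n => (sg O).obj (ModSite.freeOn O W) ⟶ (K n)⟦m - 1⟧)
      (fun n => Preadditive.rightComp _ ((t n)⟦m - 1⟧')))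
    (h2 : ∀ k : ℕ, Function.Injective
      (Preadditive.rightComp _ ((CohCx.transition K t n₀ k)⟦m⟧') :
        ((sg O).obj (ModSite.freeOn O W) ⟶ (K (n₀ + k))⟦m⟧) →
          ((sg O).obj (ModSite.freeOn O W) ⟶ (K n₀)⟦m⟧))) :
    ((H0 O).obj (L⟦m⟧)).val.map g.op s = 0 := by
  obtain ⟨ξ, hξ1, hξ2⟩ := hg
  have h0 : ξ = 0 := eq_zero_of_comp_eq_zero hL _ m n₀ h1 h2 ξ hξ2
  rw [← hξ1, h0]
  exact phiFun_zero O _ W

theorem injective_H0 {K : ℕ → DerivedCategory (ModSite.Mod O)}
    {t : ∀ n, K (n + 1) ⟶ K n} [HasProduct K]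
    {L : DerivedCategory (ModSite.Mod O)} {a : ∀ n, L ⟶ K n}
    (hL : CohCx.IsRlimVia K t L a) (V : C) (m : ℤ) (nV : ℕ)
    (h : ∀ T ∈ J V, ∃ (ι : Type u) (Y : ι → C) (f : ∀ i, Y i ⟶ V), (∀ i, T.arrows (f i)) ∧
      Sieve.ofArrows Y f ∈ J V ∧ ∀ i,
        CohCx.LimOneIsZero
          (fun n => (sg O).obj (ModSite.freeOn O (Y i)) ⟶ (K n)⟦m - 1⟧)
          (fun n => Preadditive.rightComp _ ((t n)⟦m - 1⟧')) ∧
        ∀ k : ℕ, Function.Injective
          (Preadditive.rightComp _ ((CohCx.transition K t nV k)⟦m⟧') :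
            ((sg O).obj (ModSite.freeOn O (Y i)) ⟶ (K (nV + k))⟦m⟧) →
              ((sg O).obj (ModSite.freeOn O (Y i)) ⟶ (K nV)⟦m⟧)))
    (s : ((H0 O).obj (L⟦m⟧)).val.obj (op V))
    (hs : ((H0 O).map ((a nV)⟦m⟧')).val.app (op V) s = 0) : s = 0 := by
  obtain ⟨ι, Y, f, hf, hcov, hY⟩ := h _ (goodSieve_mem O ((a nV)⟦m⟧') s hs)
  refine eq_zero_of_locally_zero O _ s _ hcov ?_
  intro W k hk
  obtain ⟨i, b, rfl⟩ := (Sieve.mem_ofArrows_iff Y f k).1 hk
  rw [op_comp, PresheafOfModules.map_comp_apply]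
  have := restrict_eq_zero hL m nV (f i) s (hf i) (hY i).1 (hY i).2
  rw [this]
  exact map_zero _

/-- module version of the injectivity lemma for derived limits -/
theorem injective_homology {K : ℕ → DerivedCategory (ModSite.Mod O)}
    (t : ∀ n, K (n + 1) ⟶ K n) [HasProduct K]
    (L : DerivedCategory (ModSite.Mod O)) (a : ∀ n, L ⟶ K n)
    (hL : CohCx.IsRlimVia K t L a) (V : C) (m : ℤ) (nV : ℕ)
    (h : ∀ T ∈ J V, ∃ (ι : Type u) (Y : ι → C) (f : ∀ i, Y i ⟶ V), (∀ i, T.arrows (f i)) ∧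
      Sieve.ofArrows Y f ∈ J V ∧ ∀ i,
        CohCx.LimOneIsZero
          (fun n => (sg O).obj (ModSite.freeOn O (Y i)) ⟶ (K n)⟦m - 1⟧)
          (fun n => Preadditive.rightComp _ ((t n)⟦m - 1⟧')) ∧
        ∀ k : ℕ, Function.Injective
          (Preadditive.rightComp _ ((CohCx.transition K t nV k)⟦m⟧') :
            ((sg O).obj (ModSite.freeOn O (Y i)) ⟶ (K (nV + k))⟦m⟧) →
              ((sg O).obj (ModSite.freeOn O (Y i)) ⟶ (K nV)⟦m⟧))) :
    Function.Injective (((DerivedCategory.homologyFunctor _ m).map (a nV)).val.app (op V)) := by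
  rw [injective_iff_map_eq_zero]
  intro s hs
  have hs' : ((H0 O).map ((a nV)⟦m⟧')).val.app (op V) (tr O m L V s) = 0 := by
    rw [tr_map, hs, tr_zero]
  have h0 := injective_H0 hL V m nV h (tr O m L V s) hs'
  rw [← tr_zero O m L V] at h0
  exact tr_injective O m L V h0

end Groth.Agent.Helper3.ModLimW
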