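import Groth.Agent.Lib.Helper3.EvC3
import Groth.Agent.Lib.Helper3.ModLimW3
import Groth.Agent.Lib.Helper3.ModLim4
import Groth.Agent.Lib.Helper3.ModGroth

/-!
# Cohomology of a derived limit of an inverse system in `D^+_A(O)` with eventually constant
cohomology modules
-/

set_option autoImplicit false
universe w u

open CategoryTheory Limits Opposite Pretriangulated

namespace Groth.Agent.Helper3.EvC

open Groth.Agent.Helper3.ModLim Groth.Agent.Helper3.ModLimW Groth.Agent.Helper3.TrLim
  Groth.Agent.Helper3.DLimInj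

variable {C : Type u} [SmallCategory C] {J : GrothendieckTopology C}
  (O : Sheaf J CommRingCat.{u}) [HasDerivedCategory.{w} (ModSite.Mod O)]
  (A : ObjectProperty (ModSite.Mod O)) [WSerre.IsWeakSerre A]

/-- objects of cohomological dimension at most `d` for the modules in `A` -/
def IsGood (d : ℕ) (W : C) : Prop :=
  ∀ F : ModSite.Mod O, A F → ∀ k : ℕ, d < k → Subsingleton (ModSite.HU O F k W)

section Shift

variable {O}

lemma isIso_H0_shift_of_isIso {X Y : DerivedCategory (ModSite.Mod O)} (φ : X ⟶ Y) (j : ℤ)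
    (h : IsIso ((DerivedCategory.homologyFunctor (ModSite.Mod O) j).map φ)) :
    IsIso ((H0 O).map (φ⟦j⟧')) := by
  let iso := (DerivedCategory.homologyFunctor (ModSite.Mod O) 0).shiftIso j 0 j (by simp)
  exact (NatIso.isIso_map_iff iso φ).2 h

lemma isIso_of_isIso_H0_shift {X Y : DerivedCategory (ModSite.Mod O)} (φ : X ⟶ Y) (j : ℤ)
    (h : IsIso ((H0 O).map (φ⟦j⟧'))) :
    IsIso ((DerivedCategory.homologyFunctor (ModSite.Mod O) j).map φ) := by
  let iso := (DerivedCategory.homologyFunctor (ModSite.Mod O) 0).shiftIso j 0 j (by simp)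
  exact (NatIso.isIso_map_iff iso φ).1 h

end Shift

section Sections

variable {O}

lemma mono_of_injective_sections {M N : ModSite.Mod O} (φ : M ⟶ N)
    (h : ∀ U : C, Function.Injective (φ.val.app (op U))) : Mono φ := by
  haveI : (tAb O).Faithful := by dsimp only [tAb]; infer_instance
  apply (tAb O).mono_of_mono_map
  haveI : Mono ((tAb O).map φ).hom := by
    apply (config := { allowSynthFailures := true }) NatTrans.mono_of_mono_app
    intro U
    rw [AddCommGrpCat.mono_iff_injective]
    exact h U.unop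
  exact Sheaf.Hom.mono_of_presheaf_mono _ _ _

end Sections

variable {K : ℕ → DerivedCategory (ModSite.Mod O)} (t : ∀ n, K (n + 1) ⟶ K n)

include A in
lemma bijective_step (hK : ∀ n, WSerre.cohInPlus A (K n)) (d : ℕ) (W : C)
    (hW : IsGood O A d W) (s : ℤ) (n : ℕ)
    (hiso : ∀ q : ℤ, s - 1 - d ≤ q → q ≤ s + 1 →
      IsIso ((DerivedCategory.homologyFunctor (ModSite.Mod O) q).map (t n))) :
    Function.Bijective (Preadditive.rightComp ((sg O).obj (ModSite.freeOn O W)) ((t n)⟦s⟧') :
      ((sg O).obj (ModSite.freeOn O W) ⟶ (K (n + 1))⟦s⟧) →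
        ((sg O).obj (ModSite.freeOn O W) ⟶ (K n)⟦s⟧)) :=
  bijective_postcomp_of_isIso_range A (ModSite.freeOn O W) d
    (fun F hF k hk => subsingleton_ext_of_HU O W F k (hW F hF k hk))
    (t n) (hK (n + 1)) (hK n) s hiso

variable {t}

lemma isIso_H0_transition (j : ℤ) (n₀ : ℕ)
    (hn₀ : ∀ n, n₀ ≤ n → IsIso ((DerivedCategory.homologyFunctor (ModSite.Mod O) j).map (t n)))
    (n : ℕ) (hn : n₀ ≤ n) (k : ℕ) :
    IsIso ((H0 O).map ((CohCx.transition K t n k)⟦j⟧')) := by
  induction k with
  | zero =>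
    change IsIso ((H0 O).map ((𝟙 _)⟦j⟧'))
    rw [CategoryTheory.Functor.map_id, CategoryTheory.Functor.map_id]
    infer_instance
  | succ k ih =>
    change IsIso ((H0 O).map ((t (n + k) ≫ CohCx.transition K t n k)⟦j⟧'))
    rw [Functor.map_comp, Functor.map_comp]
    haveI := isIso_H0_shift_of_isIso (t (n + k)) j (hn₀ (n + k) (by omega))
    infer_instance

end Groth.Agent.Helper3.EvC
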