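import Groth.Agent.Lib.Helper3.EvC4

/-!
# Cohomology of a derived limit of an inverse system in `D^+_A(O)` with eventually constant
cohomology modules: the main theorem
-/

set_option autoImplicit false
universe w u

open CategoryTheory Limits Opposite Pretriangulated

namespace Groth.Agent.Helper3.EvC

open Groth.Agent.Helper3.ModLim Groth.Agent.Helper3.ModLimW Groth.Agent.Helper3.TrLim
  Groth.Agent.Helper3.DLimInj

variable {C : Type u} [SmallCategory C] {J : GrothendieckTopology C}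
  {O : Sheaf J CommRingCat.{u}} [HasDerivedCategory.{w} (ModSite.Mod O)]

section Iso

lemma injective_sections_of_isIso {M N : ModSite.Mod O} (φ : M ⟶ N) [IsIso φ] (U : C) :
    Function.Injective (φ.val.app (op U)) := by
  intro x y h
  have h3 : φ ≫ inv φ = 𝟙 _ := IsIso.hom_inv_id φ
  have h4 := congrArg (fun ψ => ψ.val.app (op U)) h3
  have hx := ConcreteCategory.congr_hom h4 x
  have hy := ConcreteCategory.congr_hom h4 y
  have h5 := congrArg ((inv φ).val.app (op U)) h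
  exact hx.symm.trans (h5.trans hy)

lemma surjective_sections_of_isIso {M N : ModSite.Mod O} (φ : M ⟶ N) [IsIso φ] (U : C) :
    Function.Surjective (φ.val.app (op U)) := by
  intro y
  refine ⟨(inv φ).val.app (op U) y, ?_⟩
  have h3 : inv φ ≫ φ = 𝟙 _ := IsIso.inv_hom_id φ
  have h4 := congrArg (fun ψ => ψ.val.app (op U)) h3
  exact ConcreteCategory.congr_hom h4 y

end Iso

variable (A : ObjectProperty (ModSite.Mod O)) [WSerre.IsWeakSerre A]
  {K : ℕ → DerivedCategory (ModSite.Mod O)} {t : ∀ n, K (n + 1) ⟶ K n}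

include A in
/-- local data at an object of finite cohomological dimension -/
lemma exists_stage (V : C)
    (hV : ∃ d : ℕ, ∀ T ∈ J V, ∃ (ι : Type u) (Y : ι → C) (g : ∀ i, Y i ⟶ V),
      (∀ i, T.arrows (g i)) ∧ Sieve.ofArrows Y g ∈ J V ∧
      ∀ (i : ι) (F : ModSite.Mod O), A F → ∀ k : ℕ, d < k →
        Subsingleton (ModSite.HU O F k (Y i)))
    (hK : ∀ n, WSerre.cohInPlus A (K n))
    (hconst : ∀ j : ℤ, ∃ n₀ : ℕ, ∀ n, n₀ ≤ n →
      IsIso ((DerivedCategory.homologyFunctor (ModSite.Mod O) j).map (t n))) (j : ℤ) :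
    ∃ N : ℕ, ∀ T ∈ J V, ∃ (ι : Type u) (Y : ι → C) (g : ∀ i, Y i ⟶ V),
      (∀ i, T.arrows (g i)) ∧ Sieve.ofArrows Y g ∈ J V ∧ ∀ i, ∀ n, N ≤ n →
        Function.Bijective (Preadditive.rightComp ((sg O).obj (ModSite.freeOn O (Y i)))
          ((t n)⟦j⟧') : ((sg O).obj (ModSite.freeOn O (Y i)) ⟶ (K (n + 1))⟦j⟧) →
            ((sg O).obj (ModSite.freeOn O (Y i)) ⟶ (K n)⟦j⟧)) ∧
        Function.Bijective (Preadditive.rightComp ((sg O).obj (ModSite.freeOn O (Y i)))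
          ((t n)⟦j - 1⟧') : ((sg O).obj (ModSite.freeOn O (Y i)) ⟶ (K (n + 1))⟦j - 1⟧) →
            ((sg O).obj (ModSite.freeOn O (Y i)) ⟶ (K n)⟦j - 1⟧)) := by
  obtain ⟨d, hd⟩ := hV
  obtain ⟨N, hN⟩ := exists_threshold hconst (j - 2 - d) (d + 4)
  refine ⟨N, fun T hT => ?_⟩
  obtain ⟨ι, Y, g, hg, hcov, hY⟩ := hd T hT
  refine ⟨ι, Y, g, hg, hcov, fun i n hn => ⟨?_, ?_⟩⟩
  · exact bijective_step O A t hK d (Y i) (fun F hF k hk => hY i F hF k hk) j n
      (fun q h1 h2 => hN q (by omega) (by push_cast; omega) n hn)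
  · exact bijective_step O A t hK d (Y i) (fun F hF k hk => hY i F hF k hk) (j - 1) n
      (fun q h1 h2 => hN q (by omega) (by push_cast; omega) n hn)

variable [HasProduct K] {L : DerivedCategory (ModSite.Mod O)} {a : ∀ n, L ⟶ K n}

lemma H0_a_eq (hL : CohCx.IsRlimVia K t L a) (j : ℤ) (n k : ℕ) :
    (H0 O).map ((a n)⟦j⟧') =
      (H0 O).map ((a (n + k))⟦j⟧') ≫ (H0 O).map ((CohCx.transition K t n k)⟦j⟧') := by
  rw [← Functor.map_comp, ← Functor.map_comp, a_transition hL]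

/-- injectivity on sections over an object with the local data -/
lemma injective_sections_of_stage (hL : CohCx.IsRlimVia K t L a) (j : ℤ) (V : C) (N : ℕ)
    (hN : ∀ T ∈ J V, ∃ (ι : Type u) (Y : ι → C) (g : ∀ i, Y i ⟶ V),
      (∀ i, T.arrows (g i)) ∧ Sieve.ofArrows Y g ∈ J V ∧ ∀ i, ∀ n, N ≤ n →
        Function.Bijective (Preadditive.rightComp ((sg O).obj (ModSite.freeOn O (Y i)))
          ((t n)⟦j⟧') : ((sg O).obj (ModSite.freeOn O (Y i)) ⟶ (K (n + 1))⟦j⟧) →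
            ((sg O).obj (ModSite.freeOn O (Y i)) ⟶ (K n)⟦j⟧)) ∧
        Function.Bijective (Preadditive.rightComp ((sg O).obj (ModSite.freeOn O (Y i)))
          ((t n)⟦j - 1⟧') : ((sg O).obj (ModSite.freeOn O (Y i)) ⟶ (K (n + 1))⟦j - 1⟧) →
            ((sg O).obj (ModSite.freeOn O (Y i)) ⟶ (K n)⟦j - 1⟧)))
    (n₀ : ℕ)
    (hn₀ : ∀ n, n₀ ≤ n → IsIso ((DerivedCategory.homologyFunctor (ModSite.Mod O) j).map (t n)))
    (n : ℕ) (hn : n₀ ≤ n) (s : ((H0 O).obj (L⟦j⟧)).val.obj (op V))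
    (hs : ((H0 O).map ((a n)⟦j⟧')).val.app (op V) s = 0) : s = 0 := by
  haveI := isIso_H0_transition O j n₀ hn₀ n hn N
  have hs' : ((H0 O).map ((a (n + N))⟦j⟧')).val.app (op V) s = 0 := by
    apply injective_sections_of_isIso ((H0 O).map ((CohCx.transition K t n N)⟦j⟧')) V
    have h1 := congrArg (fun ψ => ψ.val.app (op V)) (H0_a_eq hL j n N)
    have h2 := ConcreteCategory.congr_hom h1 s
    refine h2.symm.trans (hs.trans ?_)
    exact (map_zero _).symm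
  refine injective_H0 hL V j (n + N) ?_ s hs'
  intro T hT
  obtain ⟨ι, Y, g, hg, hcov, hY⟩ := hN T hT
  refine ⟨ι, Y, g, hg, hcov, fun i => ⟨?_, fun k => ?_⟩⟩
  · exact limOneIsZero_of_eventually_surjective _ N (fun m hm => ((hY i m hm).2).2)
  · exact injective_transition_of_eventually_bijective _ j N (fun m hm => (hY i m hm).1)
      (n + N) (by omega) k

/-- local surjectivity over an object with the local data -/
lemma exists_local_preimage_of_stage (hL : CohCx.IsRlimVia K t L a) (j : ℤ) (V : C) (N : ℕ)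
    (hN : ∀ T ∈ J V, ∃ (ι : Type u) (Y : ι → C) (g : ∀ i, Y i ⟶ V),
      (∀ i, T.arrows (g i)) ∧ Sieve.ofArrows Y g ∈ J V ∧ ∀ i, ∀ n, N ≤ n →
        Function.Bijective (Preadditive.rightComp ((sg O).obj (ModSite.freeOn O (Y i)))
          ((t n)⟦j⟧') : ((sg O).obj (ModSite.freeOn O (Y i)) ⟶ (K (n + 1))⟦j⟧) →
            ((sg O).obj (ModSite.freeOn O (Y i)) ⟶ (K n)⟦j⟧)) ∧
        Function.Bijective (Preadditive.rightComp ((sg O).obj (ModSite.freeOn O (Y i)))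
          ((t n)⟦j - 1⟧') : ((sg O).obj (ModSite.freeOn O (Y i)) ⟶ (K (n + 1))⟦j - 1⟧) →
            ((sg O).obj (ModSite.freeOn O (Y i)) ⟶ (K n)⟦j - 1⟧)))
    (n₀ : ℕ)
    (hn₀ : ∀ n, n₀ ≤ n → IsIso ((DerivedCategory.homologyFunctor (ModSite.Mod O) j).map (t n)))
    (n : ℕ) (hn : n₀ ≤ n) (s : ((H0 O).obj ((K n)⟦j⟧)).val.obj (op V)) :
    ∃ (ι : Type u) (Y : ι → C) (g : ∀ i, Y i ⟶ V), Sieve.ofArrows Y g ∈ J V ∧
      ∀ i, ∃ u : ((H0 O).obj (L⟦j⟧)).val.obj (op (Y i)),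
        ((H0 O).map ((a n)⟦j⟧')).val.app (op (Y i)) u =
          ((H0 O).obj ((K n)⟦j⟧)).val.map (g i).op s := by
  haveI := isIso_H0_transition O j n₀ hn₀ n hn N
  let τ := (H0 O).map ((CohCx.transition K t n N)⟦j⟧')
  obtain ⟨s', hs'⟩ := surjective_sections_of_isIso τ V s
  obtain ⟨S, hS, hloc⟩ := phi_locSurj O ((K (n + N))⟦j⟧) V s'
  obtain ⟨ι, Y, g, hg, hcov, hY⟩ := hN S hS
  refine ⟨ι, Y, g, hcov, fun i => ?_⟩
  obtain ⟨ξ', hξ'⟩ := hloc (g i) (hg i)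
  have hbij := bijective_of_eventually_bijective hL ((sg O).obj (ModSite.freeOn O (Y i))) j
    (n + N) (fun m hm => (hY i m (by omega)).1) (fun m hm => ((hY i m (by omega)).2).2)
  obtain ⟨ξ, hξ⟩ := hbij.2 ξ'
  have hξ2 : ξ ≫ (a (n + N))⟦j⟧' = ξ' := hξ
  refine ⟨phiFun O (L⟦j⟧) (Y i) ξ, ?_⟩
  have h1 := congrArg (fun ψ => ψ.val.app (op (Y i))) (H0_a_eq hL j n N)
  have h2 := ConcreteCategory.congr_hom h1 (phiFun O (L⟦j⟧) (Y i) ξ)
  refine h2.trans ?_
  have h3 : ((H0 O).map ((a (n + N))⟦j⟧')).val.app (op (Y i)) (phiFun O (L⟦j⟧) (Y i) ξ) =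
      ((H0 O).obj ((K (n + N))⟦j⟧)).val.map (g i).op s' := by
    rw [← ModLimW.phiFun_postcomp, hξ2, hξ']
  change τ.val.app (op (Y i))
    (((H0 O).map ((a (n + N))⟦j⟧')).val.app (op (Y i)) (phiFun O (L⟦j⟧) (Y i) ξ)) = _
  rw [h3, ← hs']
  exact PresheafOfModules.naturality_apply τ.val (g i).op s'

end Groth.Agent.Helper3.EvC
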