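import Groth.Agent.Lib.Helper3.EvC5

/-!
# `H^j(R lim K_n) = H^j` for an inverse system in `D^+_A(O)` with eventually constant cohomology
-/

set_option autoImplicit false
universe w u

open CategoryTheory Limits Opposite Pretriangulated

namespace Groth.Agent.Helper3.EvC

open Groth.Agent.Helper3.ModLim Groth.Agent.Helper3.TrLim Groth.Agent.Helper3.DLimInj

variable {C : Type u} [SmallCategory C] {J : GrothendieckTopology C}
  (O : Sheaf J CommRingCat.{u}) [HasDerivedCategory.{w} (ModSite.Mod O)]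

theorem s9064_main
    (A : ObjectProperty (ModSite.Mod O)) [WSerre.IsWeakSerre A] (B : Set C)
    (hB : ∀ U : C, ∃ (ι : Type u) (Y : ι → C) (g : ∀ i, Y i ⟶ U), Sieve.ofArrows Y g ∈ J U ∧ ∀ i, Y i ∈ B)
    (hA : ∀ V ∈ B, ∃ d : ℕ, ∀ T ∈ J V, ∃ (ι : Type u) (Y : ι → C) (g : ∀ i, Y i ⟶ V),
      (∀ i, T.arrows (g i)) ∧ Sieve.ofArrows Y g ∈ J V ∧
      ∀ (i : ι) (F : ModSite.Mod O), A F → ∀ k : ℕ, d < k → Subsingleton (ModSite.HU O F k (Y i)))
    (K : ℕ → DerivedCategory (ModSite.Mod O)) (t : ∀ n, K (n + 1) ⟶ K n) [HasProduct K]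
    (hK : ∀ n, WSerre.cohInPlus A (K n))
    (hconst : ∀ j : ℤ, ∃ n₀ : ℕ, ∀ n, n₀ ≤ n →
      IsIso ((DerivedCategory.homologyFunctor (ModSite.Mod O) j).map (t n)))
    (L : DerivedCategory (ModSite.Mod O)) (a : ∀ n, L ⟶ K n) (hL : CohCx.IsRlimVia K t L a) (j : ℤ) :
    ∃ n₀ : ℕ, ∀ n, n₀ ≤ n → IsIso ((DerivedCategory.homologyFunctor (ModSite.Mod O) j).map (a n)) := by
  obtain ⟨n₀, hn₀⟩ := hconst j
  refine ⟨n₀, fun n hn => ?_⟩
  apply isIso_of_isIso_H0_shift
  -- mono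
  haveI hmono : Mono ((ModLimW.H0 O).map ((a n)⟦j⟧')) := by
    apply mono_of_injective_sections
    intro U
    rw [injective_iff_map_eq_zero]
    intro s hs
    obtain ⟨ι, Y, g, hcov, hY⟩ := hB U
    refine eq_zero_of_locally_zero O _ s _ hcov ?_
    intro W k hk
    obtain ⟨i, b, rfl⟩ := (Sieve.mem_ofArrows_iff Y g k).1 hk
    rw [op_comp, PresheafOfModules.map_comp_apply]
    obtain ⟨N, hN⟩ := exists_stage A (Y i) (hA (Y i) (hY i)) hK hconst j
    have h0 : ((ModLimW.H0 O).obj (L⟦j⟧)).val.map (g i).op s = 0 := by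
      refine injective_sections_of_stage hL j (Y i) N hN n₀ hn₀ n hn _ ?_
      have hnat := PresheafOfModules.naturality_apply ((ModLimW.H0 O).map ((a n)⟦j⟧')).val
        (g i).op s
      refine hnat.trans ?_
      rw [hs]
      exact map_zero _
    rw [h0]
    exact map_zero _
  -- epi
  haveI hepi : Epi ((ModLimW.H0 O).map ((a n)⟦j⟧')) := by
    haveI : (tAb O).Faithful := by dsimp only [tAb]; infer_instance
    apply (tAb O).epi_of_epi_map
    rw [← Sheaf.isLocallySurjective_iff_epi' AddCommGrpCat.{u}]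
    constructor
    intro U s
    obtain ⟨ι, Y, g, hcov, hY⟩ := hB U
    refine J.transitive hcov _ ?_
    intro V' f hf
    obtain ⟨i, b, rfl⟩ := (Sieve.mem_ofArrows_iff Y g f).1 hf
    rw [Sieve.pullback_comp]
    apply J.pullback_stable
    obtain ⟨N, hN⟩ := exists_stage A (Y i) (hA (Y i) (hY i)) hK hconst j
    obtain ⟨ι', Y', g', hcov', hu⟩ := exists_local_preimage_of_stage hL j (Y i) N hN n₀ hn₀ n hn
      (((ModLimW.H0 O).obj ((K n)⟦j⟧)).val.map (g i).op s)
    refine J.superset_covering ?_ hcov'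
    intro W k hk
    obtain ⟨i', b', rfl⟩ := (Sieve.mem_ofArrows_iff Y' g' k).1 hk
    apply Sieve.downward_closed
    obtain ⟨u, hu'⟩ := hu i'
    refine ⟨u, hu'.trans ?_⟩
    exact (PresheafOfModules.map_comp_apply _ (g i).op (g' i').op s).symm
  exact isIso_of_mono_of_epi _

end Groth.Agent.Helper3.EvC
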