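import Mathlib
import Groth.Prelude.Def_DRing2
import Groth.Agent.Lib.Helper3.ExtCoc

set_option autoImplicit false
universe u
open CategoryTheory CategoryTheory.Limits DerivedCategory Pretriangulated
open Groth.Agent.Helper3.PhiCoc Groth.Agent.Helper3.ExtCoc

attribute [local instance] HasDerivedCategory.standard

namespace Groth.Agent.Helper3.ExtAR2

variable {A : Type u} [CommRing A]

section SESK
variable {X Y : Type u} [AddCommGroup X] [Module A X] [AddCommGroup Y] [Module A Y]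

/-- `0 → ker g → X → Y → 0` -/
noncomputable def sesK (g : X →ₗ[A] Y) : ShortComplex (ModuleCat.{u} A) :=
  ShortComplex.mk (X₁ := ModuleCat.of A ↥(LinearMap.ker g)) (X₂ := ModuleCat.of A X)
    (X₃ := ModuleCat.of A Y)
    (ModuleCat.ofHom (LinearMap.ker g).subtype) (ModuleCat.ofHom g) (by
    ext ⟨x, hx⟩
    exact hx)

lemma sesK_shortExact (g : X →ₗ[A] Y) (hg : Function.Surjective g) : (sesK g).ShortExact := by
  refine ShortComplex.ShortExact.mk' ?_ ?_ ?_
  · rw [ShortComplex.moduleCat_exact_iff]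
    intro x hx
    exact ⟨⟨x, hx⟩, rfl⟩
  · rw [ModuleCat.mono_iff_injective]
    exact Subtype.val_injective
  · rw [ModuleCat.epi_iff_surjective]
    exact hg

end SESK

/-- no higher Ext out of a projective module -/
lemma hom_proj_eq_zero (F : ModuleCat.{u} A) [Module.Projective A F] (N : ModuleCat.{u} A)
    (q : ℤ) (hq : 0 < q)
    (x : (DerivedCategory.singleFunctor (ModuleCat.{u} A) 0).obj F ⟶
      ((DerivedCategory.singleFunctor (ModuleCat.{u} A) 0).obj N)⟦q⟧) : x = 0 := by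
  let E : CochainComplex (ModuleCat.{u} A) ℤ :=
    (CochainComplex.singleFunctor (ModuleCat.{u} A) 0).obj F
  haveI : ∀ n, Projective (E.X n) := by
    intro n
    by_cases hn : n = 0
    · subst hn
      haveI : Projective F := ModuleCat.projective_of_categoryTheory_projective F
      exact Projective.of_iso (HomologicalComplex.singleObjXSelf (ComplexShape.up ℤ) 0 F).symm
        inferInstance
    · have hz : IsZero (E.X n) := HomologicalComplex.isZero_single_obj_X _ _ _ _ hn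
      exact Projective.of_iso (hz.iso (isZero_zero _)).symm inferInstance
  haveI : E.IsKProjective := CochainComplex.isKProjective_of_projective E 0
  have hqp : (-q) + q = 0 := by omega
  obtain ⟨f, rfl⟩ := Θ_surjective (E := E) (M := N) q hqp x
  have hz : IsZero (E.X (-q)) := HomologicalComplex.isZero_single_obj_X _ _ _ _ (by omega)
  have hf : f = 0 := Subtype.ext (hz.eq_of_src _ _)
  rw [hf]
  exact (Θl N q hqp).map_zero

lemma map_mem_smul_top {M N : Type u} [AddCommGroup M] [Module A M] [AddCommGroup N] [Module A N]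
    (f : M →ₗ[A] N) (J : Ideal A) (x : M) (hx : x ∈ (J • ⊤ : Submodule A M)) :
    f x ∈ (J • ⊤ : Submodule A N) := by
  have h1 : f x ∈ Submodule.map f (J • ⊤ : Submodule A M) := Submodule.mem_map_of_mem hx
  rw [Submodule.map_smul''] at h1
  exact Submodule.smul_mono le_rfl le_top h1

section Chase
variable {D : Type*} [Category D] [HasShift D ℤ]

lemma chase (p q : ℤ) (αiso : shiftFunctor D p ⋙ shiftFunctor D (1 : ℤ) ≅ shiftFunctor D q)
    {Kn K Km Mn M' Yk Y : D}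
    (δn : Mn ⟶ Kn⟦(1 : ℤ)⟧) (δ : M' ⟶ K⟦(1 : ℤ)⟧) (τ₁ : Kn ⟶ K) (τ₃ : Mn ⟶ M') (ψ : Kn ⟶ Km)
    (j : Km ⟶ K) (jN : Yk ⟶ Y) (ε : K ⟶ Y⟦p⟧) (ε' : Km ⟶ Yk⟦p⟧) (g : K⟦(1 : ℤ)⟧ ⟶ Y⟦q⟧)
    (e : M' ⟶ Y⟦q⟧) (hfac : τ₁ = ψ ≫ j) (hε' : ε' ≫ jN⟦p⟧' = j ≫ ε)
    (hcomm₃ : δn ≫ τ₁⟦(1 : ℤ)⟧' = τ₃ ≫ δ) (hg : e = δ ≫ g)
    (hg' : g = ε⟦(1 : ℤ)⟧' ≫ αiso.hom.app Y) :
    (δn ≫ (ψ ≫ ε')⟦(1 : ℤ)⟧' ≫ αiso.hom.app Yk) ≫ jN⟦q⟧' = τ₃ ≫ e := by
  have hnat : αiso.hom.app Yk ≫ jN⟦q⟧' = (jN⟦p⟧')⟦(1 : ℤ)⟧' ≫ αiso.hom.app Y :=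
    (αiso.hom.naturality jN).symm
  rw [hg, hg', Category.assoc, Category.assoc, hnat, ← Category.assoc ((ψ ≫ ε')⟦(1 : ℤ)⟧'),
    ← Functor.map_comp, Category.assoc, hε', ← Category.assoc ψ, ← hfac, Functor.map_comp,
    Category.assoc, ← Category.assoc δn, hcomm₃, Category.assoc]

end Chase

section Main
variable [IsNoetherianRing A] (I : Ideal A) (N : Type u) [AddCommGroup N] [Module A N]

/-- the inductive claim -/
def Claim (p : ℕ) : Prop :=
  ∀ (M : Type u) [AddCommGroup M] [Module A M] [Module.Finite A M],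
    ∃ c : ℕ, ∀ n k : ℕ, k + c = n →
      ∀ e : Dual.inD A M ⟶ (Dual.inD A N)⟦(p : ℤ)⟧,
        ∃ e' : Dual.inD A ↥(I ^ n • ⊤ : Submodule A M) ⟶
            (Dual.inD A ↥(I ^ k • ⊤ : Submodule A N))⟦(p : ℤ)⟧,
          e' ≫ ((DerivedCategory.singleFunctor (ModuleCat.{u} A) 0).map
                  (ModuleCat.ofHom (I ^ k • ⊤ : Submodule A N).subtype))⟦(p : ℤ)⟧' =
            (DerivedCategory.singleFunctor (ModuleCat.{u} A) 0).map
                (ModuleCat.ofHom (I ^ n • ⊤ : Submodule A M).subtype) ≫ e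

omit [IsNoetherianRing A] in
lemma claim_zero : Claim I N 0 := by
  intro M _ _ _
  refine ⟨0, fun n k hk e => ?_⟩
  have hkn : k = n := by omega
  subst hkn
  let z : shiftFunctor (Dual.D A) (((0 : ℕ) : ℤ)) ≅ 𝟭 (Dual.D A) :=
    shiftFunctorZero' (Dual.D A) (((0 : ℕ) : ℤ)) (by simp)
  obtain ⟨φ, hφ⟩ := (DerivedCategory.singleFunctor (ModuleCat.{u} A) 0).map_surjective
    (e ≫ z.hom.app (Dual.inD A N))
  let φn : ↥(I ^ k • ⊤ : Submodule A M) →ₗ[A] ↥(I ^ k • ⊤ : Submodule A N) :=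
    φ.hom.restrict (map_mem_smul_top φ.hom (I ^ k))
  refine ⟨(DerivedCategory.singleFunctor (ModuleCat.{u} A) 0).map (ModuleCat.ofHom φn) ≫
    z.inv.app _, ?_⟩
  have hnat := z.inv.naturality ((DerivedCategory.singleFunctor (ModuleCat.{u} A) 0).map
                  (ModuleCat.ofHom (I ^ k • ⊤ : Submodule A N).subtype))
  have hcomm : ModuleCat.ofHom φn ≫ ModuleCat.ofHom (I ^ k • ⊤ : Submodule A N).subtype =
      ModuleCat.ofHom (I ^ k • ⊤ : Submodule A M).subtype ≫ φ := by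
    ext x; rfl
  have he : e = (DerivedCategory.singleFunctor (ModuleCat.{u} A) 0).map φ ≫
      z.inv.app (Dual.inD A N) := by
    rw [hφ, Category.assoc, Iso.hom_inv_id_app, Category.comp_id]
  rw [Category.assoc]
  erw [← hnat]
  rw [he, ← Category.assoc, ← Category.assoc]
  congr 1
  change (DerivedCategory.singleFunctor (ModuleCat.{u} A) 0).map _ ≫
    (DerivedCategory.singleFunctor (ModuleCat.{u} A) 0).map _ = _
  rw [← Functor.map_comp, hcomm, Functor.map_comp]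

lemma claim_succ (p : ℕ) (ih : Claim I N p) : Claim I N (p + 1) := by
  intro M _ _ _
  obtain ⟨t, π, hπ⟩ := Module.Finite.exists_fin' A M
  haveI : IsNoetherian A (Fin t → A) := isNoetherian_of_isNoetherianRing_of_finite A _
  haveI : Module.Finite A ↥(LinearMap.ker π) := inferInstance
  obtain ⟨c₁, hc₁⟩ := ih ↥(LinearMap.ker π)
  obtain ⟨c₂, hc₂⟩ := Ideal.exists_pow_inf_eq_pow_smul I (LinearMap.ker π)
  refine ⟨c₁ + c₂, fun n k hk e => ?_⟩
  -- restriction of `π`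
  let πn : ↥(I ^ n • ⊤ : Submodule A (Fin t → A)) →ₗ[A] ↥(I ^ n • ⊤ : Submodule A M) :=
    π.restrict (map_mem_smul_top π (I ^ n))
  have hπn : Function.Surjective πn := by
    rintro ⟨y, hy⟩
    have h1 : (I ^ n • ⊤ : Submodule A M) =
        Submodule.map π (I ^ n • ⊤ : Submodule A (Fin t → A)) := by
      rw [Submodule.map_smul'', Submodule.map_top, LinearMap.range_eq_top.2 hπ]
    rw [h1] at hy
    obtain ⟨x, hx, hxy⟩ := hy
    exact ⟨⟨x, hx⟩, Subtype.ext hxy⟩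
  have hS := sesK_shortExact π hπ
  have hSn := sesK_shortExact πn hπn
  -- the map of short exact sequences
  let τ₁ : ↥(LinearMap.ker πn) →ₗ[A] ↥(LinearMap.ker π) :=
    LinearMap.codRestrict (LinearMap.ker π)
      ((I ^ n • ⊤ : Submodule A (Fin t → A)).subtype ∘ₗ (LinearMap.ker πn).subtype)
      (fun x => by
        have hx : πn x.1 = 0 := x.2
        have : π x.1.1 = 0 := congrArg Subtype.val hx
        exact this)
  let fm : sesK πn ⟶ sesK π :=
    { τ₁ := ModuleCat.ofHom τ₁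
      τ₂ := ModuleCat.ofHom (I ^ n • ⊤ : Submodule A (Fin t → A)).subtype
      τ₃ := ModuleCat.ofHom (I ^ n • ⊤ : Submodule A M).subtype
      comm₁₂ := by ext x; rfl
      comm₂₃ := by ext x; rfl }
  -- Artin–Rees
  have hAR : ∀ x : ↥(LinearMap.ker πn),
      τ₁ x ∈ (I ^ (k + c₁) • ⊤ : Submodule A ↥(LinearMap.ker π)) := by
    intro x
    have h1 : x.1.1 ∈ (I ^ n • ⊤ ⊓ LinearMap.ker π : Submodule A (Fin t → A)) :=
      ⟨x.1.2, (τ₁ x).2⟩
    rw [hc₂ n (by omega), show n - c₂ = k + c₁ by omega] at h1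
    have h2 : x.1.1 ∈ (I ^ (k + c₁) • LinearMap.ker π : Submodule A (Fin t → A)) :=
      Submodule.smul_mono le_rfl inf_le_right h1
    have h3 : (I ^ (k + c₁) • LinearMap.ker π : Submodule A (Fin t → A)) =
        Submodule.map (LinearMap.ker π).subtype
          (I ^ (k + c₁) • ⊤ : Submodule A ↥(LinearMap.ker π)) := by
      rw [Submodule.map_smul'', Submodule.map_subtype_top]
    rw [h3] at h2
    obtain ⟨w, hw, hwx⟩ := h2
    have : w = τ₁ x := Subtype.ext hwx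
    rw [← this]; exact hw
  let ψ : ↥(LinearMap.ker πn) →ₗ[A] ↥(I ^ (k + c₁) • ⊤ : Submodule A ↥(LinearMap.ker π)) :=
    LinearMap.codRestrict _ τ₁ hAR
  let ψc : ModuleCat.of A ↥(LinearMap.ker πn) ⟶
      ModuleCat.of A ↥(I ^ (k + c₁) • ⊤ : Submodule A ↥(LinearMap.ker π)) := ModuleCat.ofHom ψ
  let jc : ModuleCat.of A ↥(I ^ (k + c₁) • ⊤ : Submodule A ↥(LinearMap.ker π)) ⟶
      ModuleCat.of A ↥(LinearMap.ker π) :=
    ModuleCat.ofHom (I ^ (k + c₁) • ⊤ : Submodule A ↥(LinearMap.ker π)).subtype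
  have hfac : fm.τ₁ = ψc ≫ jc := by
    ext x; rfl
  -- dimension shifting
  let αiso : shiftFunctor (Dual.D A) (p : ℤ) ⋙ shiftFunctor (Dual.D A) (1 : ℤ) ≅
      shiftFunctor (Dual.D A) (((p + 1 : ℕ) : ℤ)) :=
    (shiftFunctorAdd' (Dual.D A) (p : ℤ) 1 (((p + 1 : ℕ) : ℤ)) (by push_cast; ring)).symm
  have hT := hS.singleTriangle_distinguished
  have h0 : hS.singleTriangle.mor₂ ≫ e = 0 := by
    haveI : Module.Projective A (sesK π).X₂ :=
      (inferInstance : Module.Projective A (Fin t → A))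
    exact hom_proj_eq_zero (sesK π).X₂ (ModuleCat.of A N) (((p + 1 : ℕ) : ℤ))
      (by push_cast; omega) _
  obtain ⟨g, hg⟩ := Triangle.yoneda_exact₃ _ hT e h0
  obtain ⟨ε, hε⟩ := (shiftFunctor (Dual.D A) (1 : ℤ)).map_surjective
    (g ≫ αiso.inv.app (Dual.inD A N))
  obtain ⟨ε', hε'⟩ := hc₁ (k + c₁) k rfl ε
  refine ⟨hSn.singleδ ≫ ((DerivedCategory.singleFunctor (ModuleCat.{u} A) 0).map
    ψc ≫ ε')⟦(1 : ℤ)⟧' ≫ αiso.hom.app _, ?_⟩
  have hnatα := αiso.hom.naturality ((DerivedCategory.singleFunctor (ModuleCat.{u} A) 0).map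
                  (ModuleCat.ofHom (I ^ k • ⊤ : Submodule A N).subtype))
  have hcomm₃ := (ShortComplex.ShortExact.singleTriangle.map hSn hS fm).comm₃
  have hg' : g = ε⟦(1 : ℤ)⟧' ≫ αiso.hom.app (Dual.inD A N) := by
    rw [hε, Category.assoc, Iso.inv_hom_id_app, Category.comp_id]
  exact chase (p : ℤ) (((p + 1 : ℕ) : ℤ)) αiso hSn.singleδ hS.singleδ
    ((DerivedCategory.singleFunctor (ModuleCat.{u} A) 0).map fm.τ₁)
    ((DerivedCategory.singleFunctor (ModuleCat.{u} A) 0).map fm.τ₃)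
    ((DerivedCategory.singleFunctor (ModuleCat.{u} A) 0).map ψc)
    ((DerivedCategory.singleFunctor (ModuleCat.{u} A) 0).map jc)
    ((DerivedCategory.singleFunctor (ModuleCat.{u} A) 0).map
      (ModuleCat.ofHom (I ^ k • ⊤ : Submodule A N).subtype))
    ε ε' g e
    ((congrArg (fun z => (DerivedCategory.singleFunctor (ModuleCat.{u} A) 0).map z) hfac).trans
      ((DerivedCategory.singleFunctor (ModuleCat.{u} A) 0).map_comp ψc jc))
    hε' hcomm₃ hg hg'

theorem main_S7148 (A : Type u) [CommRing A] [IsNoetherianRing A] (I : Ideal A)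
    (M N : Type u) [AddCommGroup M] [Module A M] [Module.Finite A M] [AddCommGroup N] [Module A N]
    (p : ℕ) (hp : 0 < p) :
    ∃ c : ℕ, ∀ n : ℕ, c ≤ n →
      ∀ e : Dual.inD A M ⟶ (Dual.inD A N)⟦(p : ℤ)⟧,
        ∃ e' : Dual.inD A ↥(I ^ n • ⊤ : Submodule A M) ⟶ (Dual.inD A ↥(I ^ (n - c) • ⊤ : Submodule A N))⟦(p : ℤ)⟧,
          e' ≫ ((DerivedCategory.singleFunctor (ModuleCat.{u} A) 0).map
                  (ModuleCat.ofHom (I ^ (n - c) • ⊤ : Submodule A N).subtype))⟦(p : ℤ)⟧' =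
            (DerivedCategory.singleFunctor (ModuleCat.{u} A) 0).map
                (ModuleCat.ofHom (I ^ n • ⊤ : Submodule A M).subtype) ≫ e := by
  have hall : ∀ q : ℕ, Claim I N q := by
    intro q
    induction q with
    | zero => exact claim_zero I N
    | succ q ih => exact claim_succ I N q ih
  obtain ⟨c, hc⟩ := hall p M
  exact ⟨c, fun n hn e => hc n (n - c) (by omega) e⟩

end Main

end Groth.Agent.Helper3.ExtAR2
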