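import Mathlib

/-!
# Exterior powers over `A` of modules over a quotient `A ⧸ 𝔠`
-/

namespace Groth.Agent.Helper3.ExtP

universe u
open exteriorPower

variable {A : Type u} [CommRing A] (𝔠 : Ideal A) (M : Type u) [AddCommGroup M] [Module A M]
  [Module (A ⧸ 𝔠) M] [IsScalarTower A (A ⧸ 𝔠) M] (i : ℕ)

omit [IsScalarTower A (A ⧸ 𝔠) M] in
include 𝔠 in
lemma smul_eq_mk_smul [IsScalarTower A (A ⧸ 𝔠) M] (a : A) (m : M) :
    a • m = (Ideal.Quotient.mk 𝔠 a) • m := by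
  rw [← smul_one_smul (A ⧸ 𝔠) a m]
  congr 1
  rw [Algebra.smul_def, mul_one]
  rfl

lemma isTorsionBySet : Module.IsTorsionBySet A (⋀[A]^(i + 1) M) (𝔠 : Set A) := by
  intro x a
  have hx : x ∈ Submodule.span A (Set.range (ιMulti A (i + 1) (M := M))) := by
    rw [ιMulti_span]; trivial
  induction hx using Submodule.span_induction with
  | mem y hy =>
    obtain ⟨v, rfl⟩ := hy
    have h1 : (ιMulti A (i + 1)) (Function.update v 0 ((a : A) • v 0)) =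
        (a : A) • (ιMulti A (i + 1)) (Function.update v 0 (v 0)) :=
      (ιMulti A (i + 1)).map_update_smul v 0 (a : A) (v 0)
    rw [Function.update_eq_self] at h1
    rw [← h1]
    apply (ιMulti A (i + 1)).map_coord_zero 0
    rw [Function.update_self, smul_eq_mk_smul 𝔠 M]
    have : Ideal.Quotient.mk 𝔠 (a : A) = 0 := Ideal.Quotient.eq_zero_iff_mem.mpr a.2
    rw [this, zero_smul]
  | zero => exact smul_zero _
  | add y z _ _ hy hz => rw [smul_add, hy, hz, add_zero]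
  | smul c y _ hy => rw [smul_comm, hy, smul_zero]

/-- the `A ⧸ 𝔠`-module structure on `⋀[A]^(i+1) M` -/
noncomputable abbrev modQ : Module (A ⧸ 𝔠) (⋀[A]^(i + 1) M) := (isTorsionBySet 𝔠 M i).module

attribute [local instance] modQ

lemma mk_smul_ext (a : A) (x : ⋀[A]^(i + 1) M) : (Ideal.Quotient.mk 𝔠 a) • x = a • x :=
  (isTorsionBySet 𝔠 M i).mk_smul a x

/-- the universal alternating map over `A`, as an alternating map over `A ⧸ 𝔠` -/
noncomputable def ιQ : M [⋀^Fin (i + 1)]→ₗ[A ⧸ 𝔠] (⋀[A]^(i + 1) M) :=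
  { toFun := ιMulti A (i + 1)
    map_update_add' := fun v j x y => (ιMulti A (i + 1)).map_update_add v j x y
    map_update_smul' := by
      intro _ v j c x
      obtain ⟨a, rfl⟩ := Ideal.Quotient.mk_surjective c
      rw [mk_smul_ext, ← smul_eq_mk_smul 𝔠 M]
      exact (ιMulti A (i + 1)).map_update_smul v j a x
    map_eq_zero_of_eq' := fun v j k h hjk => (ιMulti A (i + 1)).map_eq_zero_of_eq v h hjk }

lemma ιQ_apply (v : Fin (i + 1) → M) : ιQ 𝔠 M i v = ιMulti A (i + 1) v := rfl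

/-- the comparison map `⋀[A]^(i+1) M → ⋀[A ⧸ 𝔠]^(i+1) M` -/
noncomputable def ιR : M [⋀^Fin (i + 1)]→ₗ[A] (⋀[A ⧸ 𝔠]^(i + 1) M) :=
  { toFun := ιMulti (A ⧸ 𝔠) (i + 1)
    map_update_add' := fun v j x y => (ιMulti (A ⧸ 𝔠) (i + 1)).map_update_add v j x y
    map_update_smul' := by
      intro _ v j a x
      rw [smul_eq_mk_smul 𝔠 M]
      rw [(ιMulti (A ⧸ 𝔠) (i + 1)).map_update_smul v j (Ideal.Quotient.mk 𝔠 a) x]
      rfl
    map_eq_zero_of_eq' := fun v j k h hjk => (ιMulti (A ⧸ 𝔠) (i + 1)).map_eq_zero_of_eq v h hjk }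

noncomputable def Φ : ⋀[A]^(i + 1) M →ₗ[A] ⋀[A ⧸ 𝔠]^(i + 1) M :=
  alternatingMapLinearEquiv (ιR 𝔠 M i)

lemma Φ_ιMulti (v : Fin (i + 1) → M) :
    Φ 𝔠 M i (ιMulti A (i + 1) v) = ιMulti (A ⧸ 𝔠) (i + 1) v := by
  unfold Φ
  rw [alternatingMapLinearEquiv_apply_ιMulti]
  rfl

/-- the inverse comparison map -/
noncomputable def Ψ : ⋀[A ⧸ 𝔠]^(i + 1) M →ₗ[A ⧸ 𝔠] ⋀[A]^(i + 1) M :=
  alternatingMapLinearEquiv (ιQ 𝔠 M i)

lemma Ψ_ιMulti (v : Fin (i + 1) → M) :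
    Ψ 𝔠 M i (ιMulti (A ⧸ 𝔠) (i + 1) v) = ιMulti A (i + 1) v := by
  unfold Ψ
  rw [alternatingMapLinearEquiv_apply_ιMulti]
  rfl

lemma Ψ_Φ (x : ⋀[A]^(i + 1) M) : Ψ 𝔠 M i (Φ 𝔠 M i x) = x := by
  have h : ((Ψ 𝔠 M i).restrictScalars A) ∘ₗ (Φ 𝔠 M i) = LinearMap.id := by
    apply linearMap_ext
    ext v
    simp only [LinearMap.compAlternatingMap_apply, LinearMap.comp_apply, LinearMap.id_apply,
      LinearMap.restrictScalars_apply]
    rw [Φ_ιMulti, Ψ_ιMulti]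
  exact LinearMap.congr_fun h x

lemma Φ_bijective : Function.Bijective (Φ 𝔠 M i) := by
  constructor
  · intro x y hxy
    rw [← Ψ_Φ 𝔠 M i x, ← Ψ_Φ 𝔠 M i y, hxy]
  · rw [← LinearMap.range_eq_top, eq_top_iff]
    have h1 : Submodule.span A (Set.range (ιMulti (A ⧸ 𝔠) (i + 1) (M := M))) = ⊤ := by
      rw [← Submodule.restrictScalars_span A (A ⧸ 𝔠) Ideal.Quotient.mk_surjective,
        ιMulti_span]
      rfl
    rw [← h1, Submodule.span_le]
    rintro _ ⟨v, rfl⟩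
    exact ⟨ιMulti A (i + 1) v, Φ_ιMulti 𝔠 M i v⟩

/-- `⋀[A]^(i+1) M ≃ ⋀[A ⧸ 𝔠]^(i+1) M` for an `A ⧸ 𝔠`-module `M` -/
noncomputable def equivQ : ⋀[A]^(i + 1) M ≃ₗ[A] ⋀[A ⧸ 𝔠]^(i + 1) M :=
  LinearEquiv.ofBijective (Φ 𝔠 M i) (Φ_bijective 𝔠 M i)

/-- exterior powers of a finite free `A ⧸ 𝔠`-module, taken over `A` -/
noncomputable def freeEquiv (r : ℕ) :
    ⋀[A]^(i + 1) (Fin r → A ⧸ 𝔠) ≃ₗ[A] (Fin (r.choose (i + 1)) → A ⧸ 𝔠) :=
  equivQ 𝔠 (Fin r → A ⧸ 𝔠) i ≪≫ₗ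
    (((Pi.basisFun (A ⧸ 𝔠) (Fin r)).exteriorPower (i + 1)).equivFun.restrictScalars A) ≪≫ₗ
    LinearEquiv.funCongrLeft A (A ⧸ 𝔠) (Finite.equivFinOfCardEq
      (by rw [Set.powersetCard.card, Nat.card_eq_fintype_card, Fintype.card_fin])).symm

end Groth.Agent.Helper3.ExtP

namespace Groth.Agent.Helper3.ExtP

open exteriorPower

/-- functoriality of exterior powers for linear equivalences -/
noncomputable def mapEquiv {A : Type*} [CommRing A] {M N : Type*} [AddCommGroup M] [Module A M]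
    [AddCommGroup N] [Module A N] (n : ℕ) (e : M ≃ₗ[A] N) : ⋀[A]^n M ≃ₗ[A] ⋀[A]^n N :=
  LinearEquiv.ofLinear (map n e.toLinearMap) (map n e.symm.toLinearMap)
    (by
      rw [← map_comp]
      have : e.toLinearMap ∘ₗ e.symm.toLinearMap = LinearMap.id := by
        ext x; simp
      rw [this, map_id])
    (by
      rw [← map_comp]
      have : e.symm.toLinearMap ∘ₗ e.toLinearMap = LinearMap.id := by
        ext x; simp
      rw [this, map_id])

end Groth.Agent.Helper3.ExtP
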