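import Mathlib

/-!
# Ext into a product of "good" objects

In an abelian category with enough injectives, given a family of test objects `Z i` which
detect epimorphisms, the functor `Ext W -` commutes with products of families `G n` such
that `Ext (Z i) (G n) (k+1) = 0`.
-/

universe w v u

open CategoryTheory Limits Abelian

namespace Groth.Agent.Helper3.ExtProd

variable {𝒜 : Type u} [Category.{v} 𝒜] [Abelian 𝒜] [HasExt.{w} 𝒜]
variable {J : Type*} {ι : Type*} (Z : ι → 𝒜)

/-- The test objects detect epimorphisms. -/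
def DetectsEpi : Prop :=
  ∀ ⦃P Q : 𝒜⦄ (φ : P ⟶ Q), (∀ (i : ι) (y : Z i ⟶ Q), ∃ x : Z i ⟶ P, x ≫ φ = y) → Epi φ

/-- The family `G` has no higher Ext from the test objects. -/
def Good (G : J → 𝒜) : Prop :=
  ∀ (i : ι) (n : J) (k : ℕ) (x : Ext (Z i) (G n) (k + 1)), x = 0

lemma injective_pi (G : J → 𝒜) [HasProduct G] [∀ n, Injective (G n)] : Injective (∏ᶜ G) where
  factors g f _ := ⟨Pi.lift (fun n => Injective.factorThru (g ≫ Pi.π G n) f), by
    apply Pi.hom_ext; intro n; simp⟩

/-- The comparison map. -/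
noncomputable def cmp (W : 𝒜) (G : J → 𝒜) [HasProduct G] (k : ℕ) :
    Ext W (∏ᶜ G) k →+ ∀ n, Ext W (G n) k :=
  AddMonoidHom.pi fun n => (Ext.mk₀ (Pi.π G n)).postcomp W (add_zero k)

@[simp]
lemma cmp_apply (W : 𝒜) (G : J → 𝒜) [HasProduct G] (k : ℕ) (x : Ext W (∏ᶜ G) k) (n : J) :
    cmp W G k x n = x.comp (Ext.mk₀ (Pi.π G n)) (add_zero k) := rfl

lemma cmp_zero_bijective (W : 𝒜) (G : J → 𝒜) [HasProduct G] :
    Function.Bijective (cmp W G 0) := by
  constructor
  · intro x y hxy
    obtain ⟨f, rfl⟩ := (Ext.mk₀_bijective W (∏ᶜ G)).2 x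
    obtain ⟨g, rfl⟩ := (Ext.mk₀_bijective W (∏ᶜ G)).2 y
    congr 1
    apply Pi.hom_ext
    intro n
    have := congrFun hxy n
    simp only [cmp_apply, Ext.mk₀_comp_mk₀] at this
    exact (Ext.mk₀_bijective _ _).1 this
  · intro y
    choose f hf using fun n => (Ext.mk₀_bijective W (G n)).2 (y n)
    refine ⟨Ext.mk₀ (Pi.lift f), ?_⟩
    funext n
    simp [hf]

section

variable [EnoughInjectives 𝒜] (G : J → 𝒜)

/-- the injective hull short complex -/
noncomputable abbrev S (n : J) : ShortComplex 𝒜 :=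
  ShortComplex.mk (Injective.ι (G n)) (cokernel.π (Injective.ι (G n))) (cokernel.condition _)

lemma hS (n : J) : (S G n).ShortExact :=
  { exact := ShortComplex.exact_cokernel _
    mono_f := by dsimp [S]; infer_instance
    epi_g := by dsimp [S]; infer_instance }

variable [HasProductsOfShape J 𝒜]

/-- the product short complex -/
noncomputable abbrev SP : ShortComplex 𝒜 :=
  ShortComplex.mk (Limits.Pi.map fun n => (S G n).f) (Limits.Pi.map fun n => (S G n).g) (by
    apply Pi.hom_ext; intro n; simp)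

instance : Mono (SP G).f := by dsimp [SP]; have := fun n => (hS G n).mono_f; infer_instance

lemma SP_exact : (SP G).Exact := by
  apply ShortComplex.exact_of_f_is_kernel
  refine KernelFork.IsLimit.ofι' _ _ (fun {A} k hk => ?_)
  have hk' : ∀ n, (k ≫ Pi.π _ n) ≫ (S G n).g = 0 := by
    intro n
    have := congrArg (fun t => t ≫ Pi.π _ n) hk
    simpa [SP, Category.assoc] using this
  have := fun n => (hS G n).mono_f
  refine ⟨Pi.lift fun n => (hS G n).exact.lift (k ≫ Pi.π _ n) (hk' n), ?_⟩
  apply Pi.hom_ext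
  intro n
  simp only [Category.assoc, Pi.map_π, Pi.lift_π_assoc]
  exact (hS G n).exact.lift_f _ _

variable {Z}

lemma lift_of_good (hG : Good Z G) (i : ι) (n : J) (y : Z i ⟶ (S G n).X₃) :
    ∃ x : Z i ⟶ (S G n).X₂, x ≫ (S G n).g = y := by
  obtain ⟨x₂, hx₂⟩ := Ext.covariant_sequence_exact₃ (Z i) (hS G n) (Ext.mk₀ y) (zero_add 1)
    (hG i n 0 _)
  obtain ⟨x, rfl⟩ := (Ext.mk₀_bijective _ _).2 x₂
  refine ⟨x, ?_⟩
  rw [Ext.mk₀_comp_mk₀] at hx₂
  exact (Ext.mk₀_bijective _ _).1 hx₂

lemma SP_epi (hZ : DetectsEpi Z) (hG : Good Z G) : Epi (SP G).g := by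
  apply hZ
  intro i y
  choose x hx using fun n => lift_of_good G hG i n (y ≫ Pi.π _ n)
  refine ⟨Pi.lift x, ?_⟩
  apply Pi.hom_ext
  intro n
  simp [SP, hx]

lemma hSP (hZ : DetectsEpi Z) (hG : Good Z G) : (SP G).ShortExact :=
  { exact := SP_exact G
    mono_f := inferInstance
    epi_g := SP_epi G hZ hG }

/-- the projection morphism of short complexes -/
noncomputable def proj (n : J) : SP G ⟶ S G n where
  τ₁ := Pi.π _ n
  τ₂ := Pi.π _ n
  τ₃ := Pi.π _ n
  comm₁₂ := by simp [SP]
  comm₂₃ := by simp [SP]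

lemma good_I : Good Z (fun n => (S G n).X₂) := by
  intro i n k x
  have : Injective (S G n).X₂ := by dsimp [S]; infer_instance
  exact Ext.eq_zero_of_injective x

lemma good_C (hG : Good Z G) : Good Z (fun n => (S G n).X₃) := by
  intro i n k x
  obtain ⟨x₂, hx₂⟩ := Ext.covariant_sequence_exact₃ (Z i) (hS G n) x (rfl : k + 1 + 1 = k + 2)
    (hG i n (k + 1) _)
  rw [← hx₂, good_I G i n k x₂, Ext.zero_comp]

end

variable {Z}

theorem cmp_bijective [EnoughInjectives 𝒜] [HasProductsOfShape J 𝒜]
    (hZ : DetectsEpi Z) (W : 𝒜) (k : ℕ) :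
    ∀ (G : J → 𝒜), Good Z G → Function.Bijective (cmp W G k) := by
  induction k with
  | zero => intro G _; exact cmp_zero_bijective W G
  | succ k ih =>
    intro G hG
    have hI := ih _ (good_I (Z := Z) G)
    have hC := ih _ (good_C G hG)
    have hsp := hSP G hZ hG
    have nat : ∀ n, hsp.extClass.comp (Ext.mk₀ (Pi.π G n)) (add_zero 1) =
        (Ext.mk₀ (Pi.π _ n)).comp (hS G n).extClass (zero_add 1) := fun n =>
      ShortComplex.ShortExact.extClass_naturality hsp (hS G n) (proj G n)
    have injI : ∀ n, Injective (S G n).X₂ := fun n => by dsimp [S]; infer_instance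
    have injP : Injective (SP G).X₂ := by dsimp [SP]; exact injective_pi _
    constructor
    · rw [injective_iff_map_eq_zero]
      intro x hx
      obtain ⟨c, hc⟩ := Ext.covariant_sequence_exact₁ W hsp x (Ext.eq_zero_of_injective _)
        (rfl : k + 1 = k + 1)
      have h1 : ∀ n, (c.comp (Ext.mk₀ (Pi.π _ n)) (add_zero k)).comp (hS G n).extClass
          (rfl : k + 1 = k + 1) = 0 := by
        intro n
        have := congrFun hx n
        simp only [cmp_apply, Pi.zero_apply] at this
        rw [← hc, Ext.comp_assoc c hsp.extClass (Ext.mk₀ (Pi.π G n)) rfl (add_zero 1)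
          (by omega), nat n] at this
        rw [Ext.comp_assoc c (Ext.mk₀ (Pi.π _ n)) (hS G n).extClass (add_zero k) (zero_add 1)
          (by omega)]
        exact this
      choose b hb using fun n => Ext.covariant_sequence_exact₃ W (hS G n) _ rfl (h1 n)
      obtain ⟨b', hb'⟩ := hI.2 b
      have h2 : b'.comp (Ext.mk₀ (SP G).g) (add_zero k) = c := by
        apply hC.1
        funext n
        simp only [cmp_apply]
        rw [← hb n, ← congrFun hb' n]
        simp only [cmp_apply]
        rw [Ext.comp_assoc_of_second_deg_zero, Ext.comp_assoc_of_second_deg_zero,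
          Ext.mk₀_comp_mk₀, Ext.mk₀_comp_mk₀]
        congr 2
        simp [SP]
      rw [← hc, ← h2, Ext.comp_assoc _ _ _ (add_zero k) (zero_add 1) (by omega),
        ShortComplex.ShortExact.comp_extClass, Ext.comp_zero]
    · intro y
      choose c hc using fun n => Ext.covariant_sequence_exact₁ W (hS G n) (y n)
        (Ext.eq_zero_of_injective _) (rfl : k + 1 = k + 1)
      obtain ⟨c', hc'⟩ := hC.2 c
      refine ⟨c'.comp hsp.extClass rfl, ?_⟩
      funext n
      simp only [cmp_apply]
      rw [Ext.comp_assoc _ _ _ rfl (add_zero 1) (by omega), nat n,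
        ← Ext.comp_assoc _ _ _ (add_zero k) (zero_add 1) (by omega), ← hc n, ← congrFun hc' n]
      rfl

end Groth.Agent.Helper3.ExtProd
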