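import Mathlib
import Groth.Agent.Lib.Helper8.ExtReg2

/-!
# `Ext^p(M, A) ≅ Hom(Hom(A/J, M), Ext^p(A/J, A))` below the codimension (regular local rings)
-/

set_option autoImplicit false
universe u
open CategoryTheory Abelian

namespace Groth.Agent.Helper3.ExtPull

variable {A : Type u} [CommRing A]

section pull

variable {Y : ModuleCat.{u} A} {p : ℕ}
variable {L L' N : Type u} [AddCommGroup L] [Module A L] [AddCommGroup L'] [Module A L']
  [AddCommGroup N] [Module A N]

/-- pullback of an Ext class along a linear map -/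
noncomputable def pull (u : L →ₗ[A] N) (ξ : Ext (ModuleCat.of A N) Y p) :
    Ext (ModuleCat.of A L) Y p :=
  (Ext.mk₀ (ModuleCat.ofHom u)).comp ξ (zero_add p)

lemma pull_comp (v : L' →ₗ[A] L) (u : L →ₗ[A] N) (ξ : Ext (ModuleCat.of A N) Y p) :
    pull v (pull u ξ) = pull (u ∘ₗ v) ξ := by
  unfold pull
  rw [Ext.mk₀_comp_mk₀_assoc, ← ModuleCat.ofHom_comp]

lemma pull_add (u u' : L →ₗ[A] N) (ξ : Ext (ModuleCat.of A N) Y p) :
    pull (u + u') ξ = pull u ξ + pull u' ξ := by
  unfold pull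
  have : ModuleCat.ofHom (u + u') = ModuleCat.ofHom u + ModuleCat.ofHom u' := rfl
  rw [this, Ext.mk₀_add, Ext.add_comp]

lemma pull_smul (a : A) (u : L →ₗ[A] N) (ξ : Ext (ModuleCat.of A N) Y p) :
    pull (a • u) ξ = a • pull u ξ := by
  unfold pull
  have : ModuleCat.ofHom (a • u) = a • ModuleCat.ofHom u := rfl
  rw [this, Ext.mk₀_smul, Ext.smul_comp]

lemma pull_zero (ξ : Ext (ModuleCat.of A N) Y p) : pull (0 : L →ₗ[A] N) ξ = 0 := by
  unfold pull
  have : ModuleCat.ofHom (0 : L →ₗ[A] N) = 0 := rfl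
  rw [this, Ext.mk₀_zero, Ext.zero_comp]

lemma pull_id (ξ : Ext (ModuleCat.of A N) Y p) : pull (LinearMap.id : N →ₗ[A] N) ξ = ξ := by
  unfold pull
  have : ModuleCat.ofHom (LinearMap.id : N →ₗ[A] N) = 𝟙 _ := rfl
  rw [this, Ext.mk₀_id_comp]

lemma pull_map_zero (u : L →ₗ[A] N) : pull u (0 : Ext (ModuleCat.of A N) Y p) = 0 := by
  unfold pull
  rw [Ext.comp_zero]

lemma pull_map_add (u : L →ₗ[A] N) (ξ ξ' : Ext (ModuleCat.of A N) Y p) :
    pull u (ξ + ξ') = pull u ξ + pull u ξ' := by
  unfold pull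
  rw [Ext.comp_add]

lemma pull_map_smul (u : L →ₗ[A] N) (a : A) (ξ : Ext (ModuleCat.of A N) Y p) :
    pull u (a • ξ) = a • pull u ξ := by
  unfold pull
  rw [Ext.comp_smul]

lemma pull_sum {ι : Type*} (s : Finset ι) (u : ι → L →ₗ[A] N) (ξ : Ext (ModuleCat.of A N) Y p) :
    pull (∑ i ∈ s, u i) ξ = ∑ i ∈ s, pull (u i) ξ := by
  classical
  induction s using Finset.induction_on with
  | empty => simp [pull_zero]
  | insert a s ha ih => rw [Finset.sum_insert ha, Finset.sum_insert ha, pull_add, ih]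

lemma pull_map_sum {ι : Type*} (s : Finset ι) (u : L →ₗ[A] N)
    (ξ : ι → Ext (ModuleCat.of A N) Y p) :
    pull u (∑ i ∈ s, ξ i) = ∑ i ∈ s, pull u (ξ i) := by
  classical
  induction s using Finset.induction_on with
  | empty => simp [pull_map_zero]
  | insert a s ha ih => rw [Finset.sum_insert ha, Finset.sum_insert ha, pull_map_add, ih]

end pull

section ses

variable {X Y : Type u} [AddCommGroup X] [Module A X] [AddCommGroup Y] [Module A Y]

/-- `0 → ker g → X → Y → 0` -/
noncomputable def sesK (g : X →ₗ[A] Y) : ShortComplex (ModuleCat.{u} A) :=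
  ShortComplex.mk (X₁ := ModuleCat.of A ↥(LinearMap.ker g)) (X₂ := ModuleCat.of A X)
    (X₃ := ModuleCat.of A Y)
    (ModuleCat.ofHom (LinearMap.ker g).subtype) (ModuleCat.ofHom g) (by
    ext ⟨x, hx⟩
    exact hx)

lemma sesK_shortExact (g : X →ₗ[A] Y) (hg : Function.Surjective g) : (sesK g).ShortExact := by
  refine ShortComplex.ShortExact.mk' ?_ ?_ ?_
  · rw [ShortComplex.moduleCat_exact_iff]
    intro x hx
    exact ⟨⟨x, hx⟩, rfl⟩
  · rw [ModuleCat.mono_iff_injective]
    exact Subtype.val_injective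
  · rw [ModuleCat.epi_iff_surjective]
    exact hg

end ses

section quot

variable (J : Ideal A)

/-- linear maps out of `A/J` are determined by the image of `1` -/
lemma ext_quot {N : Type u} [AddCommGroup N] [Module A N] {f g : (A ⧸ J) →ₗ[A] N}
    (h : f 1 = g 1) : f = g := by
  refine LinearMap.ext fun x => ?_
  obtain ⟨a, rfl⟩ := Ideal.Quotient.mk_surjective x
  have h1 : (Ideal.Quotient.mk J a) = a • (1 : A ⧸ J) := by
    rw [Algebra.smul_def, mul_one]; rfl
  rw [h1, map_smul, map_smul, h]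

/-- every endomorphism of `A/J` is a homothety -/
lemma exists_smul_id (f : (A ⧸ J) →ₗ[A] (A ⧸ J)) :
    ∃ a : A, f = a • (LinearMap.id : (A ⧸ J) →ₗ[A] (A ⧸ J)) := by
  obtain ⟨a, ha⟩ := Ideal.Quotient.mk_surjective (f 1)
  refine ⟨a, ext_quot J ?_⟩
  rw [LinearMap.smul_apply, LinearMap.id_apply, ← ha, Algebra.smul_def, mul_one]
  rfl

lemma smul_pi_eq_zero (n : ℕ) (a : A) (ha : a ∈ J) (x : Fin n → A ⧸ J) : a • x = 0 := by
  funext j
  obtain ⟨b, hb⟩ := Ideal.Quotient.mk_surjective (x j)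
  rw [Pi.smul_apply, Pi.zero_apply, ← hb, Algebra.smul_def]
  have : algebraMap A (A ⧸ J) a = 0 := Ideal.Quotient.eq_zero_iff_mem.2 ha
  rw [this, zero_mul]

/-- a finite module killed by `J` is a quotient of some `(A/J)^n` -/
lemma exists_surj (M : Type u) [AddCommGroup M] [Module A M] [Module.Finite A M]
    (hJM : J • (⊤ : Submodule A M) = ⊥) :
    ∃ (n : ℕ) (π : (Fin n → A ⧸ J) →ₗ[A] M), Function.Surjective π := by
  have hM : ∀ a ∈ J, ∀ m : M, a • m = 0 := by
    intro a ha m
    have h2 : a • m ∈ J • (⊤ : Submodule A M) := Submodule.smul_mem_smul ha Submodule.mem_top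
    rw [hJM] at h2
    exact (Submodule.mem_bot A).1 h2
  obtain ⟨n, f, hf⟩ := Module.Finite.exists_fin' A M
  let q : (Fin n → A) →ₗ[A] (Fin n → A ⧸ J) :=
    LinearMap.pi (fun j => (Submodule.mkQ J) ∘ₗ LinearMap.proj j)
  have hq : Function.Surjective q := by
    intro x
    choose y hy using fun j => Ideal.Quotient.mk_surjective (x j)
    exact ⟨y, funext hy⟩
  have hker : LinearMap.ker q ≤ LinearMap.ker f := by
    intro x hx
    rw [LinearMap.mem_ker] at hx ⊢
    have hxj : ∀ j, x j ∈ J := fun j => by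
      have := congrFun hx j
      exact Ideal.Quotient.eq_zero_iff_mem.1 this
    have hx' : x = ∑ j, (x j) • (Pi.single j (1 : A) : Fin n → A) := by
      funext k
      simp [Finset.sum_apply, Pi.single_apply]
    rw [hx', map_sum]
    refine Finset.sum_eq_zero fun j _ => ?_
    rw [map_smul]
    exact hM _ (hxj j) _
  refine ⟨n, (LinearMap.ker q).liftQ f hker ∘ₗ
    (LinearMap.quotKerEquivOfSurjective q hq).symm.toLinearMap, ?_⟩
  intro m
  obtain ⟨x, rfl⟩ := hf m
  refine ⟨q x, ?_⟩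
  simp only [LinearMap.coe_comp, LinearEquiv.coe_coe, Function.comp_apply]
  have : (LinearMap.quotKerEquivOfSurjective q hq).symm (q x) = Submodule.Quotient.mk x := by
    rw [LinearEquiv.symm_apply_eq]
    rfl
  rw [this]
  rfl

lemma supportDim_le (N : Type u) [AddCommGroup N] [Module A N] [Module.Finite A N]
    (hJN : ∀ a ∈ J, ∀ m : N, a • m = 0) : Module.supportDim A N ≤ ringKrullDim (A ⧸ J) := by
  rw [Module.supportDim_eq_ringKrullDim_quotient_annihilator]
  have hle : J ≤ Module.annihilator A N := fun a ha => by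
    rw [Module.mem_annihilator]
    exact hJN a ha
  exact ringKrullDim_le_of_surjective (Ideal.Quotient.factor hle)
    (Ideal.Quotient.factor_surjective hle)

end quot

section main

variable [IsRegularLocalRing A] (p : ℕ) (J : Ideal A)
  (hJ : ringKrullDim (A ⧸ J) + p ≤ ringKrullDim A)

include hJ in
lemma ext_vanish (N : Type u) [AddCommGroup N] [Module A N] [Module.Finite A N]
    (hJN : ∀ a ∈ J, ∀ m : N, a • m = 0) (i : ℕ) (hi : i < p) :
    Subsingleton (Ext (ModuleCat.of A N) (ModuleCat.of A A) i) := by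
  refine Groth.Agent.Helper8.ExtReg2.ext_subsingleton_of_supportDim_add_le A N p ?_ i hi
  exact (add_le_add_left (supportDim_le J N hJN) _).trans hJ

lemma pi_decomp (n : ℕ) :
    (LinearMap.id : (Fin n → A ⧸ J) →ₗ[A] (Fin n → A ⧸ J)) =
      ∑ j : Fin n, (LinearMap.single A (fun _ => A ⧸ J) j) ∘ₗ (LinearMap.proj j) := by
  refine LinearMap.ext fun x => ?_
  funext k
  simp [LinearMap.sum_apply, Finset.sum_apply, Pi.single_apply]

lemma comp_pi_decomp {N : Type u} [AddCommGroup N] [Module A N] (n : ℕ)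
    (f : (Fin n → A ⧸ J) →ₗ[A] N) (x : Fin n → A ⧸ J) :
    f x = ∑ j : Fin n, f (LinearMap.single A (fun _ => A ⧸ J) j (x j)) := by
  have hx : x = ∑ j : Fin n, LinearMap.single A (fun _ => A ⧸ J) j (x j) := by
    have := congrArg (fun l : (Fin n → A ⧸ J) →ₗ[A] (Fin n → A ⧸ J) => l x) (pi_decomp J n)
    simpa [LinearMap.sum_apply] using this
  conv_lhs => rw [hx]
  rw [map_sum]

include hJ in
/-- a class in `Ext^p(N, A)` is zero as soon as all its pullbacks to `A/J` vanish -/
theorem inj_aux (N : Type u) [AddCommGroup N] [Module A N] [Module.Finite A N]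
    (hJN : ∀ a ∈ J, ∀ m : N, a • m = 0)
    (ξ : Ext (ModuleCat.of A N) (ModuleCat.of A A) p)
    (h : ∀ u : (A ⧸ J) →ₗ[A] N, pull u ξ = 0) : ξ = 0 := by
  have hJN' : J • (⊤ : Submodule A N) = ⊥ := by
    rw [eq_bot_iff, Submodule.smul_le]
    intro a ha m _
    rw [hJN a ha m]
    exact Submodule.zero_mem _
  obtain ⟨n, π, hπ⟩ := exists_surj J N hJN'
  have hπξ : pull π ξ = 0 := by
    have h1 : π = ∑ j : Fin n, (π ∘ₗ LinearMap.single A (fun _ => A ⧸ J) j) ∘ₗ
        (LinearMap.proj j) := by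
      refine LinearMap.ext fun x => ?_
      rw [comp_pi_decomp J n π x, LinearMap.sum_apply]
      rfl
    rw [h1, pull_sum]
    refine Finset.sum_eq_zero fun j _ => ?_
    rw [← pull_comp, h, pull_map_zero]
  have hS := sesK_shortExact π hπ
  cases p with
  | zero =>
    haveI : Epi (ModuleCat.ofHom π) := (ModuleCat.epi_iff_surjective _).2 hπ
    have hinj := Ext.precomp_mk₀_injective_of_epi (ModuleCat.of A A) (ModuleCat.ofHom π)
    apply hinj
    rw [map_zero]
    exact hπξ
  | succ p' =>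
    obtain ⟨x₁, hx₁⟩ := Ext.contravariant_sequence_exact₃ hS (ModuleCat.of A A) ξ hπξ
      (add_comm 1 p')
    haveI : Module.Finite A ↥(LinearMap.ker π) := Module.IsNoetherian.finite A _
    have hK : ∀ a ∈ J, ∀ m : ↥(LinearMap.ker π), a • m = 0 := by
      intro a ha m
      apply Subtype.ext
      exact smul_pi_eq_zero J n a ha m.1
    haveI : Subsingleton (Ext (sesK π).X₁ (ModuleCat.of A A) p') :=
      ext_vanish (p' + 1) J hJ ↥(LinearMap.ker π) hK p' (by omega)
    have : x₁ = 0 := Subsingleton.elim _ _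
    rw [this, Ext.comp_zero] at hx₁
    exact hx₁.symm

include hJ in
theorem main_S5672 (M : Type u) [AddCommGroup M] [Module A M] [Module.Finite A M]
    (hJM : J • (⊤ : Submodule A M) = ⊥) :
    Function.Injective (fun ξ : Ext (ModuleCat.of A M) (ModuleCat.of A A) p =>
      fun u : (A ⧸ J) →ₗ[A] M => (Ext.mk₀ (ModuleCat.ofHom u)).comp ξ (zero_add p)) ∧
    ∀ g : ((A ⧸ J) →ₗ[A] M) →ₗ[A] Ext (ModuleCat.of A (A ⧸ J)) (ModuleCat.of A A) p,
      ∃ ξ : Ext (ModuleCat.of A M) (ModuleCat.of A A) p, ∀ u : (A ⧸ J) →ₗ[A] M,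
        g u = (Ext.mk₀ (ModuleCat.ofHom u)).comp ξ (zero_add p) := by
  have hM : ∀ a ∈ J, ∀ m : M, a • m = 0 := by
    intro a ha m
    have h2 : a • m ∈ J • (⊤ : Submodule A M) := Submodule.smul_mem_smul ha Submodule.mem_top
    rw [hJM] at h2
    exact (Submodule.mem_bot A).1 h2
  constructor
  · intro ξ ξ' h
    have h' : ∀ u : (A ⧸ J) →ₗ[A] M, pull u ξ = pull u ξ' := fun u => congrFun h u
    have h0 : ξ - ξ' = 0 := by
      apply inj_aux p J hJ M hM
      intro u
      have : ξ - ξ' = ξ + (-1 : A) • ξ' := by rw [neg_smul, one_smul, sub_eq_add_neg]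
      rw [this, pull_map_add, pull_map_smul, h' u, neg_smul, one_smul, add_neg_cancel]
    exact sub_eq_zero.1 h0
  · intro g
    obtain ⟨n, π, hπ⟩ := exists_surj J M hJM
    let uj : Fin n → ((A ⧸ J) →ₗ[A] M) := fun j => π ∘ₗ LinearMap.single A (fun _ => A ⧸ J) j
    let η : Ext (ModuleCat.of A (Fin n → A ⧸ J)) (ModuleCat.of A A) p :=
      ∑ j : Fin n, pull (LinearMap.proj j : (Fin n → A ⧸ J) →ₗ[A] (A ⧸ J)) (g (uj j))
    -- the key computation
    have key : ∀ w : (A ⧸ J) →ₗ[A] (Fin n → A ⧸ J), pull w η = g (π ∘ₗ w) := by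
      intro w
      choose a ha using fun j : Fin n =>
        exists_smul_id J ((LinearMap.proj j : (Fin n → A ⧸ J) →ₗ[A] (A ⧸ J)) ∘ₗ w)
      have h1 : pull w η = ∑ j : Fin n, a j • g (uj j) := by
        change pull w (∑ j : Fin n, _) = _
        rw [pull_map_sum]
        refine Finset.sum_congr rfl fun j _ => ?_
        rw [pull_comp, ha j, pull_smul, pull_id]
      have h2 : π ∘ₗ w = ∑ j : Fin n, a j • uj j := by
        refine LinearMap.ext fun r => ?_
        rw [LinearMap.comp_apply, comp_pi_decomp J n π (w r), LinearMap.sum_apply]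
        refine Finset.sum_congr rfl fun j _ => ?_
        have h3 : (w r) j = a j • r := by
          have := congrArg (fun l : (A ⧸ J) →ₗ[A] (A ⧸ J) => l r) (ha j)
          simpa using this
        rw [h3, map_smul, map_smul]
        rfl
      rw [h1, h2, map_sum]
      refine Finset.sum_congr rfl fun j _ => ?_
      rw [map_smul]
    have hS := sesK_shortExact π hπ
    haveI : Module.Finite A ↥(LinearMap.ker π) := Module.IsNoetherian.finite A _
    have hK : ∀ a ∈ J, ∀ m : ↥(LinearMap.ker π), a • m = 0 := by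
      intro a ha m
      apply Subtype.ext
      exact smul_pi_eq_zero J n a ha m.1
    have hη : pull (LinearMap.ker π).subtype η = 0 := by
      apply inj_aux p J hJ ↥(LinearMap.ker π) hK
      intro v
      rw [pull_comp, key]
      have : π ∘ₗ (LinearMap.ker π).subtype ∘ₗ v = 0 := by
        refine LinearMap.ext fun x => ?_
        exact (v x).2
      rw [this, map_zero]
    obtain ⟨ξ, hξ⟩ := Ext.contravariant_sequence_exact₂ hS (ModuleCat.of A A) η hη
    refine ⟨ξ, fun u => ?_⟩
    obtain ⟨r₀, hr₀⟩ := hπ (u 1)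
    let ut : (A ⧸ J) →ₗ[A] (Fin n → A ⧸ J) :=
      (LinearMap.toSpanSingleton (A ⧸ J) (Fin n → A ⧸ J) r₀).restrictScalars A
    have hut : π ∘ₗ ut = u := by
      apply ext_quot J
      change π ((1 : A ⧸ J) • r₀) = u 1
      rw [one_smul, hr₀]
    change g u = pull u ξ
    rw [← hut, ← pull_comp]
    have : pull π ξ = η := hξ
    rw [this, key]

end main

end Groth.Agent.Helper3.ExtPull
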