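import Mathlib
import Groth.Agent.Lib.Helper3.ExtInj
import Groth.Agent.Lib.Helper3.ExtRD

set_option autoImplicit false
universe w v u
open CategoryTheory Limits Opposite Abelian

namespace Groth.Agent.Helper3.ExtRD2

section nat2

variable {𝒜 : Type u} [Category.{v} 𝒜] [Abelian 𝒜] [HasExt.{w} 𝒜] {N N' : 𝒜}
  (R : InjectiveResolution N) (R' : InjectiveResolution N') {g : N ⟶ N'}
  (φ : InjectiveResolution.Hom R R' g) {A : 𝒜}
  {K K' : CochainComplex AddCommGrpCat.{w} ℕ} (κ : K ⟶ K')
  (e : ∀ n, (A ⟶ R.cocomplex.X n) ≃+ K.X n)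
  (he : ∀ n (f : A ⟶ R.cocomplex.X n), e (n + 1) (f ≫ R.cocomplex.d n (n + 1)) = K.d n (n + 1) (e n f))
  (e' : ∀ n, (A ⟶ R'.cocomplex.X n) ≃+ K'.X n)
  (he' : ∀ n (f : A ⟶ R'.cocomplex.X n),
    e' (n + 1) (f ≫ R'.cocomplex.d n (n + 1)) = K'.d n (n + 1) (e' n f))
  (hc : ∀ n (f : A ⟶ R.cocomplex.X n), e' n (f ≫ φ.hom.f n) = κ.f n (e n f))

include hc in
/-- naturality of `ExtInj.homologyIso` in the second variable -/
lemma homologyIso_naturality₂ (n : ℕ) :
    HomologicalComplex.homologyMap κ n ≫ (ExtInj.homologyIso R' A K' e' he' n).hom =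
      (ExtInj.homologyIso R A K e he n).hom ≫
        AddCommGrpCat.ofHom ((Ext.mk₀ g).postcomp A (add_zero n)) := by
  refine HIso.cxIso_naturality κ _ n (n + 1) rfl (by simp) _ _ _ _ _ _ _ ?_
  intro z
  rw [ExtInj.ψ_apply, ExtInj.ψ_apply]
  change (R.extMk _ _ _ _).comp (Ext.mk₀ g) (add_zero n) = _
  rw [InjectiveResolution.extMk_comp_mk₀ _ _ _ _ φ]
  refine ExtInj.extMk_congr R' ?_ _ _ _
  apply (e' n).injective
  rw [hc, AddEquiv.apply_symm_apply, AddEquiv.apply_symm_apply]
  rfl

end nat2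

variable {𝒜 : Type u} [Category.{v} 𝒜] [Abelian 𝒜] [HasExt.{v} 𝒜] [HasInjectiveResolutions 𝒜]

/-- `Hom(A, -)` applied to an injective resolution -/
noncomputable abbrev KA (A : 𝒜) {N : 𝒜} (R : InjectiveResolution N) :
    CochainComplex AddCommGrpCat.{v} ℕ :=
  ((preadditiveCoyoneda.obj (op A)).mapHomologicalComplex _).obj R.cocomplex

/-- its cohomology is `Ext` -/
noncomputable def kaIso (A : 𝒜) {N : 𝒜} (R : InjectiveResolution N) (n : ℕ) :
    (KA A R).homology n ≅ AddCommGrpCat.of (Ext.{v} A N n) :=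
  ExtInj.homologyIso R A (KA A R) (fun _ => AddEquiv.refl _) (fun _ _ => rfl) n

lemma kaIso_naturality (A : 𝒜) {N N' : 𝒜} (R : InjectiveResolution N) (R' : InjectiveResolution N')
    {g : N ⟶ N'} (φ : InjectiveResolution.Hom R R' g) (n : ℕ) :
    HomologicalComplex.homologyMap
      (((preadditiveCoyoneda.obj (op A)).mapHomologicalComplex _).map φ.hom) n ≫ (kaIso A R' n).hom =
      (kaIso A R n).hom ≫ AddCommGrpCat.ofHom ((Ext.mk₀ g).postcomp A (add_zero n)) :=
  homologyIso_naturality₂ R R' φ _ _ _ _ _ (fun _ _ => rfl) n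

/-- the right derived functors of `Hom(A, -)` are the `Ext` functors -/
noncomputable def coyonedaRightDerivedNatIso (A : 𝒜) (n : ℕ) :
    (preadditiveCoyoneda.obj (op A)).rightDerived n ≅ (extFunctor.{v} n).obj (op A) :=
  NatIso.ofComponents (fun N =>
    (injectiveResolution N).isoRightDerivedObj (preadditiveCoyoneda.obj (op A)) n ≪≫
      kaIso A (injectiveResolution N) n) (by
    intro N N' g
    let φ : InjectiveResolution.Hom (injectiveResolution N) (injectiveResolution N') g :=
      { hom := InjectiveResolution.desc g _ _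
        ι_f_zero_comp_hom_f_zero := by
          rw [InjectiveResolution.desc_commutes_zero]
          simp }
    have h1 := InjectiveResolution.isoRightDerivedObj_hom_naturality g (injectiveResolution N)
      (injectiveResolution N') φ.hom (InjectiveResolution.desc_commutes_zero _ _ _)
      (preadditiveCoyoneda.obj (op A)) n
    have h2 := kaIso_naturality A (injectiveResolution N) (injectiveResolution N') φ n
    dsimp only [Iso.trans_hom]
    rw [← Category.assoc, h1, Category.assoc, Category.assoc]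
    congr 1)

/-- If `S ≅ Hom(A, -)` then `RⁿS ≅ Extⁿ(A, -)` as functors. -/
noncomputable def rightDerivedNatIsoExt (S : 𝒜 ⥤ AddCommGrpCat.{v}) [S.Additive] (A : 𝒜)
    (e : S ≅ preadditiveCoyoneda.obj (op A)) (n : ℕ) :
    S.rightDerived n ≅ (extFunctor.{v} n).obj (op A) :=
  ExtRD.rightDerivedNatIso e n ≪≫ coyonedaRightDerivedNatIso A n

end Groth.Agent.Helper3.ExtRD2
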