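import Mathlib
import Groth.Prelude.Def_BigSite
import Groth.Prelude.Def_EtBase
import Groth.Agent.Lib.Helper5.Misc.EtStalk
import Groth.Agent.Lib.Helper9.FE.StalkPullGerm
import Groth.Agent.S0072

/-!
# Big-site stalk maps (helper3)

For a morphism of schemes `h : T' ⟶ T`, functors `j : T.Etale ⥤ Over S`, `j' : T'.Etale ⥤ Over S`
and a natural transformation `ν : bc h ⋙ j' ⟶ j`, the induced map on stalks
`σ : (j^* G)_t ⟶ (j'^* G)_{t'}` for big étale sheaves `G` on `S`.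
-/

set_option autoImplicit false
universe u
open CategoryTheory CategoryTheory.Limits AlgebraicGeometry Opposite

namespace Groth.Agent.Helper3.FE1

set_option backward.isDefEq.respectTransparency false
set_option linter.style.haveILetI false
set_option linter.unusedSectionVars false

open Groth.Agent.Lib.Helper5 Groth.Agent.S0072.Aux

/-- the big étale topology on `Over S` -/
abbrev JS (S : Scheme.{u}) : GrothendieckTopology (Over S) := QuotSh.J Scheme.etalePrecoverage S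

/-- big étale abelian sheaves -/
abbrev AbS (S : Scheme.{u}) : Type (u + 2) := BigSite.Ab Scheme.etalePrecoverage S

variable {S : Scheme.{u}}

/-- restriction of a big sheaf along a continuous functor from a small étale site -/
noncomputable abbrev res {T : Scheme.{u}} (j : T.Etale ⥤ Over S)
    [j.IsContinuous T.smallEtaleTopology (JS S)] : AbS S ⥤ EtCoh.Ab T :=
  j.sheafPushforwardContinuous AddCommGrpCat.{u + 1} T.smallEtaleTopology (JS S)

variable {T T' : Scheme.{u}} (h : T' ⟶ T) (j : T.Etale ⥤ Over S) (j' : T'.Etale ⥤ Over S)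
  [j.IsContinuous T.smallEtaleTopology (JS S)] [j'.IsContinuous T'.smallEtaleTopology (JS S)]
  (ν : EtCoh.bc h ⋙ j' ⟶ j)

instance : (EtCoh.bc h ⋙ j').IsContinuous T.smallEtaleTopology (JS S) :=
  Functor.isContinuous_comp _ _ _ T'.smallEtaleTopology _

/-- the restriction map `j^* G ⟶ h_* j'^* G` -/
noncomputable def rho : res j ⟶ res j' ⋙ EtCoh.push h :=
  Functor.sheafPushforwardContinuousNatTrans ν AddCommGrpCat.{u + 1} T.smallEtaleTopology (JS S) ≫
    (Functor.sheafPushforwardContinuousComp (EtCoh.bc h) j' AddCommGrpCat.{u + 1}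
      T.smallEtaleTopology T'.smallEtaleTopology (JS S)).inv

lemma rho_app_app (G : AbS S) (W : T.Etale) :
    ((rho h j j' ν).app G).hom.app (op W) = G.obj.map (ν.app W).op := by
  simp [rho]
  rfl

variable {Ω : Type u} [Field Ω] [IsSepClosed Ω]

/-- the stalk map -/
noncomputable def sigma (t : Spec (CommRingCat.of Ω) ⟶ T) (t' : Spec (CommRingCat.of Ω) ⟶ T')
    (ht : t' ≫ h = t) (G : AbS S) :
    (EtCoh.stalk t).obj ((res j).obj G) ⟶ (EtCoh.stalk t').obj ((res j').obj G) :=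
  (EtCoh.stalk t).map ((rho h j j' ν).app G) ≫ phi h t ((res j').obj G) t' ht


lemma toPF_sigma (t : Spec (CommRingCat.of Ω) ⟶ T) (t' : Spec (CommRingCat.of Ω) ⟶ T')
    (ht : t' ≫ h = t) (G : AbS S) (W : T.Etale) (w : (Scheme.pointSmallEtale t).fiber.obj W) :
    (Scheme.pointSmallEtale t).toPresheafFiber W w ((res j).obj G).obj ≫
      sigma h j j' ν t t' ht G =
    G.obj.map (ν.app W).op ≫ (Scheme.pointSmallEtale t').toPresheafFiber ((EtCoh.bc h).obj W)
      (liftPt h t t' ht W w) ((res j').obj G).obj := by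
  unfold sigma
  change (Scheme.pointSmallEtale t).toPresheafFiber W w ((res j).obj G).obj ≫
    (Scheme.pointSmallEtale t).presheafFiber.map ((rho h j j' ν).app G).hom ≫ _ = _
  rw [(Scheme.pointSmallEtale t).toPresheafFiber_naturality_assoc, rho_app_app]
  congr 1
  exact (Scheme.pointSmallEtale t).toPresheafFiber_presheafFiberDesc _ _ W w

lemma sigma_germ (t : Spec (CommRingCat.of Ω) ⟶ T) (t' : Spec (CommRingCat.of Ω) ⟶ T')
    (ht : t' ≫ h = t) (G : AbS S) (W : T.Etale) (w : (Scheme.pointSmallEtale t).fiber.obj W)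
    (s : G.obj.obj (op (j.obj W))) :
    sigma h j j' ν t t' ht G
      ((Scheme.pointSmallEtale t).toPresheafFiber W w ((res j).obj G).obj s) =
    (Scheme.pointSmallEtale t').toPresheafFiber ((EtCoh.bc h).obj W)
      (liftPt h t t' ht W w) ((res j').obj G).obj (G.obj.map (ν.app W).op s) := by
  have := ConcreteCategory.congr_hom (toPF_sigma h j j' ν t t' ht G W w) s
  simp only [ConcreteCategory.comp_apply] at this
  exact this

/-- naturality of `σ` in the sheaf -/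
lemma sigma_natural (t : Spec (CommRingCat.of Ω) ⟶ T) (t' : Spec (CommRingCat.of Ω) ⟶ T')
    (ht : t' ≫ h = t) {G G' : AbS S} (α : G ⟶ G') :
    (EtCoh.stalk t).map ((res j).map α) ≫ sigma h j j' ν t t' ht G' =
      sigma h j j' ν t t' ht G ≫ (EtCoh.stalk t').map ((res j').map α) := by
  apply (Scheme.pointSmallEtale t).presheafFiber_hom_ext
  intro W w
  change (Scheme.pointSmallEtale t).toPresheafFiber W w ((res j).obj G).obj ≫
      (Scheme.pointSmallEtale t).presheafFiber.map ((res j).map α).hom ≫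
        sigma h j j' ν t t' ht G' =
    (Scheme.pointSmallEtale t).toPresheafFiber W w ((res j).obj G).obj ≫
      sigma h j j' ν t t' ht G ≫
        (Scheme.pointSmallEtale t').presheafFiber.map ((res j').map α).hom
  have A1 := (Scheme.pointSmallEtale t).toPresheafFiber_naturality ((res j).map α).hom W w
  have A2 := toPF_sigma h j j' ν t t' ht G' W w
  have A3 := toPF_sigma h j j' ν t t' ht G W w
  have A4 := (Scheme.pointSmallEtale t').toPresheafFiber_naturality ((res j').map α).hom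
    ((EtCoh.bc h).obj W) (liftPt h t t' ht W w)
  rw [reassoc_of% A1, A2, reassoc_of% A3, A4]
  change α.hom.app (op (j.obj W)) ≫ G'.obj.map (ν.app W).op ≫ _ =
    G.obj.map (ν.app W).op ≫ α.hom.app (op (j'.obj ((EtCoh.bc h).obj W))) ≫ _
  rw [← Category.assoc, ← Category.assoc]
  congr 1
  exact (α.hom.naturality (ν.app W).op).symm


section Comp

variable {T₀ T₁ T₂ : Scheme.{u}} (h₁ : T₁ ⟶ T₀) (h₂ : T₂ ⟶ T₁) (h₃ : T₂ ⟶ T₀) (e : h₂ ≫ h₁ = h₃)

/-- the comparison `W ×_{T₀} T₂ ⟶ (W ×_{T₀} T₁) ×_{T₁} T₂` -/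
noncomputable def kappa (W : T₀.Etale) :
    (EtCoh.bc h₃).obj W ⟶ (EtCoh.bc h₂).obj ((EtCoh.bc h₁).obj W) :=
  MorphismProperty.Over.homMk
    (pullback.lift (pullback.lift (pullback.fst W.hom h₃) (pullback.snd W.hom h₃ ≫ h₂)
      (by rw [Category.assoc, e]; exact pullback.condition)) (pullback.snd W.hom h₃)
      (by
        change _ ≫ pullback.snd W.hom h₁ = _
        exact pullback.lift_snd _ _ _))
    (by
      change _ ≫ pullback.snd ((EtCoh.bc h₁).obj W).hom h₂ = pullback.snd W.hom h₃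
      exact pullback.lift_snd _ _ _) trivial

lemma kappa_fst_fst (W : T₀.Etale) :
    (kappa h₁ h₂ h₃ e W).left ≫ pullback.fst ((EtCoh.bc h₁).obj W).hom h₂ ≫ pullback.fst W.hom h₁ =
      pullback.fst W.hom h₃ := by
  change pullback.lift _ _ _ ≫ _ ≫ _ = _
  rw [pullback.lift_fst_assoc]
  exact pullback.lift_fst _ _ _

lemma kappa_point {t₀ : Spec (CommRingCat.of Ω) ⟶ T₀} {t₁ : Spec (CommRingCat.of Ω) ⟶ T₁}
    {t₂ : Spec (CommRingCat.of Ω) ⟶ T₂} (ht₁ : t₁ ≫ h₁ = t₀) (ht₂ : t₂ ≫ h₂ = t₁)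
    (ht₃ : t₂ ≫ h₃ = t₀) (W : T₀.Etale) (w : (Scheme.pointSmallEtale t₀).fiber.obj W) :
    (Scheme.pointSmallEtale t₂).fiber.map (kappa h₁ h₂ h₃ e W) (liftPt h₃ t₀ t₂ ht₃ W w) =
      liftPt h₂ t₁ t₂ ht₂ ((EtCoh.bc h₁).obj W) (liftPt h₁ t₀ t₁ ht₁ W w) := by
  apply Over.OverMorphism.ext
  change (liftPt h₃ t₀ t₂ ht₃ W w).left ≫ (kappa h₁ h₂ h₃ e W).left = _
  rw [liftPt_left, liftPt_left]
  apply pullback.hom_ext
  · change _ = _ ≫ pullback.fst ((EtCoh.bc h₁).obj W).hom h₂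
    rw [pullback.lift_fst]
    change (_ ≫ pullback.lift _ _ _) ≫ _ = _
    rw [Category.assoc, pullback.lift_fst, liftPt_left]
    apply pullback.hom_ext
    · rw [Category.assoc, pullback.lift_fst, pullback.lift_fst, pullback.lift_fst]
    · rw [Category.assoc, pullback.lift_snd, pullback.lift_snd, pullback.lift_snd_assoc, ht₂]
  · change _ = _ ≫ pullback.snd ((EtCoh.bc h₁).obj W).hom h₂
    rw [pullback.lift_snd]
    change (_ ≫ pullback.lift _ _ _) ≫ _ = _
    rw [Category.assoc, pullback.lift_snd, pullback.lift_snd]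

variable (j₀ : T₀.Etale ⥤ Over S) (j₁ : T₁.Etale ⥤ Over S) (j₂ : T₂.Etale ⥤ Over S)
  [j₀.IsContinuous T₀.smallEtaleTopology (JS S)] [j₁.IsContinuous T₁.smallEtaleTopology (JS S)]
  [j₂.IsContinuous T₂.smallEtaleTopology (JS S)]
  (ν₁ : EtCoh.bc h₁ ⋙ j₁ ⟶ j₀) (ν₂ : EtCoh.bc h₂ ⋙ j₂ ⟶ j₁) (ν₃ : EtCoh.bc h₃ ⋙ j₂ ⟶ j₀)

/-- functoriality of the stalk maps -/
theorem sigma_comp
    (hν : ∀ W : T₀.Etale, j₂.map (kappa h₁ h₂ h₃ e W) ≫ ν₂.app ((EtCoh.bc h₁).obj W) ≫ ν₁.app W =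
      ν₃.app W)
    {t₀ : Spec (CommRingCat.of Ω) ⟶ T₀} {t₁ : Spec (CommRingCat.of Ω) ⟶ T₁}
    {t₂ : Spec (CommRingCat.of Ω) ⟶ T₂} (ht₁ : t₁ ≫ h₁ = t₀) (ht₂ : t₂ ≫ h₂ = t₁)
    (ht₃ : t₂ ≫ h₃ = t₀) (G : AbS S) :
    sigma h₁ j₀ j₁ ν₁ t₀ t₁ ht₁ G ≫ sigma h₂ j₁ j₂ ν₂ t₁ t₂ ht₂ G =
      sigma h₃ j₀ j₂ ν₃ t₀ t₂ ht₃ G := by
  apply (Scheme.pointSmallEtale t₀).presheafFiber_hom_ext
  intro W w
  change (Scheme.pointSmallEtale t₀).toPresheafFiber W w ((res j₀).obj G).obj ≫ _ =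
    (Scheme.pointSmallEtale t₀).toPresheafFiber W w ((res j₀).obj G).obj ≫ _
  have A1 := toPF_sigma h₁ j₀ j₁ ν₁ t₀ t₁ ht₁ G W w
  have A2 := toPF_sigma h₂ j₁ j₂ ν₂ t₁ t₂ ht₂ G ((EtCoh.bc h₁).obj W) (liftPt h₁ t₀ t₁ ht₁ W w)
  have A3 := toPF_sigma h₃ j₀ j₂ ν₃ t₀ t₂ ht₃ G W w
  have A4 := (Scheme.pointSmallEtale t₂).toPresheafFiber_w (kappa h₁ h₂ h₃ e W)
    (liftPt h₃ t₀ t₂ ht₃ W w) ((res j₂).obj G).obj
  rw [kappa_point h₁ h₂ h₃ e ht₁ ht₂ ht₃] at A4
  rw [reassoc_of% A1, A2, A3, ← A4, ← hν W]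
  rw [op_comp, op_comp, G.obj.map_comp, G.obj.map_comp]
  simp only [Category.assoc]
  rfl

end Comp

end Groth.Agent.Helper3.FE1
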