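import Mathlib
import Groth.Agent.Lib.Helper3.FE1
import Groth.Agent.S6687
import Groth.Agent.S6184

/-!
# Stalk-cartesian big étale sheaves (helper3)
-/

set_option autoImplicit false
universe u
open CategoryTheory CategoryTheory.Limits AlgebraicGeometry Opposite

namespace Groth.Agent.Helper3.FE2

set_option backward.isDefEq.respectTransparency false
set_option linter.style.haveILetI false
set_option linter.unusedSectionVars false

open Groth.Agent.Lib.Helper5 Groth.Agent.S0072.Aux Groth.Agent.Helper3.FE1

variable {S : Scheme.{u}}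

/-- the inclusion of the small étale site of an `S`-scheme into the big site of `S` -/
noncomputable abbrev uT (T : Over S) : T.left.Etale ⥤ Over S := EtFppf.a T.left ⋙ Over.map T.hom

instance (T : Over S) : (uT T).IsContinuous T.left.smallEtaleTopology (JS S) :=
  Functor.isContinuous_comp (EtFppf.a T.left) (Over.map T.hom) T.left.smallEtaleTopology
    (JS T.left) (JS S)

/-- the projection `W ×_T T' ⟶ W` as a natural transformation -/
noncomputable def nuOver {T T' : Over S} (h : T' ⟶ T) : EtCoh.bc h.left ⋙ uT T' ⟶ uT T where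
  app W := Over.homMk (pullback.fst W.hom h.left) (by
    change pullback.fst W.hom h.left ≫ W.hom ≫ T.hom = pullback.snd W.hom h.left ≫ T'.hom
    rw [← Over.w h, pullback.condition_assoc])
  naturality W W' k := by
    apply Over.OverMorphism.ext
    change ((EtCoh.bc h.left).map k).left ≫ pullback.fst W'.hom h.left =
      pullback.fst W.hom h.left ≫ k.left
    exact bc_map_fst h.left k

/-- the projection `W₀ ×_S T ⟶ W₀` as a natural transformation -/
noncomputable def nuBase (T : Over S) : EtCoh.bc T.hom ⋙ uT T ⟶ EtFppf.a S where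
  app W := Over.homMk (pullback.fst W.hom T.hom) (by
    change pullback.fst W.hom T.hom ≫ W.hom = pullback.snd W.hom T.hom ≫ T.hom
    exact pullback.condition)
  naturality W W' k := by
    apply Over.OverMorphism.ext
    change ((EtCoh.bc T.hom).map k).left ≫ pullback.fst W'.hom T.hom =
      pullback.fst W.hom T.hom ≫ k.left
    exact bc_map_fst T.hom k

/-- a big étale sheaf is stalk-cartesian if all transition maps between its stalks at
geometric points of `S`-schemes are isomorphisms -/
def StalkCart (G : AbS S) : Prop :=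
  ∀ (T T' : Over S) (h : T' ⟶ T) (Ω : Type u) [Field Ω] [IsAlgClosed Ω]
    (t' : Spec (CommRingCat.of Ω) ⟶ T'.left),
    IsIso (sigma h.left (uT T) (uT T') (nuOver h) (t' ≫ h.left) t' rfl G)

variable {Ω : Type u} [Field Ω] [IsSepClosed Ω]

lemma sigmaO_comp {T T' T'' : Over S} (h : T' ⟶ T) (h' : T'' ⟶ T')
    {t : Spec (CommRingCat.of Ω) ⟶ T.left} {t' : Spec (CommRingCat.of Ω) ⟶ T'.left}
    {t'' : Spec (CommRingCat.of Ω) ⟶ T''.left} (ht : t' ≫ h.left = t) (ht' : t'' ≫ h'.left = t')
    (ht'' : t'' ≫ (h' ≫ h).left = t) (G : AbS S) :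
    sigma h.left (uT T) (uT T') (nuOver h) t t' ht G ≫
      sigma h'.left (uT T') (uT T'') (nuOver h') t' t'' ht' G =
    sigma (h' ≫ h).left (uT T) (uT T'') (nuOver (h' ≫ h)) t t'' ht'' G := by
  refine sigma_comp h.left h'.left (h' ≫ h).left rfl (uT T) (uT T') (uT T'') (nuOver h)
    (nuOver h') (nuOver (h' ≫ h)) ?_ ht ht' ht'' G
  intro W
  apply Over.OverMorphism.ext
  exact kappa_fst_fst h.left h'.left (h' ≫ h).left rfl W

lemma sigmaB_comp {T T' : Over S} (h : T' ⟶ T)
    {s : Spec (CommRingCat.of Ω) ⟶ S} {t : Spec (CommRingCat.of Ω) ⟶ T.left}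
    {t' : Spec (CommRingCat.of Ω) ⟶ T'.left} (hs : t ≫ T.hom = s) (ht : t' ≫ h.left = t)
    (hs' : t' ≫ T'.hom = s) (G : AbS S) :
    sigma T.hom (EtFppf.a S) (uT T) (nuBase T) s t hs G ≫
      sigma h.left (uT T) (uT T') (nuOver h) t t' ht G =
    sigma T'.hom (EtFppf.a S) (uT T') (nuBase T') s t' hs' G := by
  refine sigma_comp T.hom h.left T'.hom (Over.w h) (EtFppf.a S) (uT T) (uT T') (nuBase T)
    (nuOver h) (nuBase T') ?_ hs ht hs' G
  intro W
  apply Over.OverMorphism.ext
  exact kappa_fst_fst T.hom h.left T'.hom (Over.w h) W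

end Groth.Agent.Helper3.FE2
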