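import Mathlib
import Groth.Agent.Lib.Helper3.FE2

/-!
# The pullback of a small étale sheaf to the big étale site is stalk-cartesian (helper3)
-/

set_option autoImplicit false
universe u
open CategoryTheory CategoryTheory.Limits AlgebraicGeometry Opposite

namespace Groth.Agent.Helper3.FE3

set_option backward.isDefEq.respectTransparency false
set_option linter.style.haveILetI false
set_option linter.unusedSectionVars false

open Groth.Agent.Lib.Helper5 Groth.Agent.S0072.Aux Groth.Agent.Helper3.FE1 Groth.Agent.Helper3.FE2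

variable {S : Scheme.{u}}

/-- `resEtAlong` is restriction along `uT` -/
noncomputable def resIso (T : Over S) :
    BigSite.resEtAlong Scheme.etalePrecoverage T.hom ≅ res (uT T) :=
  Functor.sheafPushforwardContinuousComp (EtFppf.a T.left) (Over.map T.hom) AddCommGrpCat.{u + 1}
    T.left.smallEtaleTopology (JS T.left) (JS S)

variable (T : Over S) (F0 : EtCoh.Ab S)

/-- the first adjunction with right adjoint `resEt T ⋙ push` -/
noncomputable abbrev adj1 :=
  ((BigSite.piEtAdj Scheme.etalePrecoverage S).comp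
    (BigSite.bigAdj Scheme.etalePrecoverage T.hom AddCommGrpCat.{u+1})).ofNatIsoRight
      (Groth.Agent.S6687.rightIso T.hom)

/-- the second adjunction with right adjoint `resEt T ⋙ push` -/
noncomputable abbrev adj2 :=
  (EtCoh.pullPushAdj T.hom).comp (BigSite.piEtAdj Scheme.etalePrecoverage T.left)

lemma adj_units :
    (adj2 T).unit.app F0 ≫ (BigSite.resEt Scheme.etalePrecoverage T.left ⋙ EtCoh.push T.hom).map
      ((Groth.Agent.S6687.leftIso T.hom).inv.app F0) = (adj1 T).unit.app F0 := by
  have h := Adjunction.unit_leftAdjointUniq_hom_app (adj1 T) (adj2 T) F0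
  change (adj1 T).unit.app F0 ≫
    (BigSite.resEt Scheme.etalePrecoverage T.left ⋙ EtCoh.push T.hom).map
      ((Groth.Agent.S6687.leftIso T.hom).hom.app F0) = _ at h
  rw [← h, Category.assoc, ← Functor.map_comp, ← NatTrans.comp_app, Iso.hom_inv_id]
  simp


lemma ofNatIsoRight_unit_app {C D : Type*} [Category C] [Category D] {F : C ⥤ D} {G H : D ⥤ C}
    (adj : F ⊣ G) (iso : G ≅ H) (X : C) :
    (adj.ofNatIsoRight iso).unit.app X = adj.unit.app X ≫ iso.hom.app _ := by
  have := Adjunction.homEquiv_ofNatIsoRight_apply adj iso (𝟙 (F.obj X))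
  rw [Adjunction.homEquiv_id, Adjunction.homEquiv_id] at this
  exact this

lemma adj1_unit :
    (adj1 T).unit.app F0 = (BigSite.piEtAdj Scheme.etalePrecoverage S).unit.app F0 ≫
      (rho T.hom (EtFppf.a S) (uT T) (nuBase T)).app
        ((BigSite.piEtPull Scheme.etalePrecoverage S).obj F0) ≫
      (EtCoh.push T.hom).map ((resIso T).inv.app
        ((BigSite.piEtPull Scheme.etalePrecoverage S).obj F0)) := by
  rw [ofNatIsoRight_unit_app, Adjunction.comp_unit_app]
  rw [Category.assoc]
  congr 1


/-- the comparison `f⁻¹ F₀ ⟶ (π⁻¹ F₀)|_{T_ét}` -/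
noncomputable def theta : (EtCoh.pull T.hom).obj F0 ⟶
    (res (uT T)).obj ((BigSite.piEtPull Scheme.etalePrecoverage S).obj F0) :=
  (BigSite.piEtAdj Scheme.etalePrecoverage T.left).unit.app ((EtCoh.pull T.hom).obj F0) ≫
    (BigSite.resEt Scheme.etalePrecoverage T.left).map
      ((Groth.Agent.S6687.leftIso T.hom).inv.app F0) ≫
    (resIso T).hom.app ((BigSite.piEtPull Scheme.etalePrecoverage S).obj F0)

instance : IsIso (theta T F0) := by
  haveI : IsIso ((BigSite.piEtAdj Scheme.etalePrecoverage T.left).unit.app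
      ((EtCoh.pull T.hom).obj F0)) := (Groth.Agent.S6184.result T.left).2 _
  unfold theta
  infer_instance

lemma unit_theta :
    (EtCoh.pullPushAdj T.hom).unit.app F0 ≫ (EtCoh.push T.hom).map (theta T F0) =
      (BigSite.piEtAdj Scheme.etalePrecoverage S).unit.app F0 ≫
        (rho T.hom (EtFppf.a S) (uT T) (nuBase T)).app
          ((BigSite.piEtPull Scheme.etalePrecoverage S).obj F0) := by
  have h1 := adj_units T F0
  rw [adj1_unit, Adjunction.comp_unit_app] at h1
  unfold theta
  rw [Functor.map_comp, Functor.map_comp, ← Category.assoc, ← Category.assoc]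
  have h2 : ((EtCoh.pullPushAdj T.hom).unit.app F0 ≫
      (EtCoh.push T.hom).map ((BigSite.piEtAdj Scheme.etalePrecoverage T.left).unit.app
        ((EtCoh.pull T.hom).obj F0))) ≫
      (EtCoh.push T.hom).map ((BigSite.resEt Scheme.etalePrecoverage T.left).map
        ((Groth.Agent.S6687.leftIso T.hom).inv.app F0)) = _ := h1
  rw [h2]
  simp only [Category.assoc]
  rw [← Functor.map_comp, ← NatTrans.comp_app, Iso.inv_hom_id]
  simp

variable {Ω : Type u} [Field Ω] [IsSepClosed Ω] (t : Spec (CommRingCat.of Ω) ⟶ T.left)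

lemma stalk_unit_sigma :
    (EtCoh.stalk (t ≫ T.hom)).map ((BigSite.piEtAdj Scheme.etalePrecoverage S).unit.app F0) ≫
      sigma T.hom (EtFppf.a S) (uT T) (nuBase T) (t ≫ T.hom) t rfl
        ((BigSite.piEtPull Scheme.etalePrecoverage S).obj F0) =
    (EtStalkPull.stalkPullIso T.hom t).inv.app F0 ≫ (EtCoh.stalk t).map (theta T F0) := by
  rw [← H9FE.StalkPullGerm.unit_phi, Category.assoc,
    ← H9FE.StalkPullGerm.phi_natural T.hom t (theta T F0), ← Category.assoc, ← Functor.map_comp,
    unit_theta, Functor.map_comp, Category.assoc]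
  rfl


/-- the base stalk map of `π⁻¹ F₀` is an isomorphism -/
lemma isIso_sigmaB :
    IsIso (sigma T.hom (EtFppf.a S) (uT T) (nuBase T) (t ≫ T.hom) t rfl
      ((BigSite.piEtPull Scheme.etalePrecoverage S).obj F0)) := by
  haveI : IsIso ((BigSite.piEtAdj Scheme.etalePrecoverage S).unit.app F0) :=
    (Groth.Agent.S6184.result S).2 _
  have h := stalk_unit_sigma T F0 t
  haveI : IsIso ((EtCoh.stalk (t ≫ T.hom)).map
      ((BigSite.piEtAdj Scheme.etalePrecoverage S).unit.app F0) ≫
      sigma T.hom (EtFppf.a S) (uT T) (nuBase T) (t ≫ T.hom) t rfl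
        ((BigSite.piEtPull Scheme.etalePrecoverage S).obj F0)) := by
    rw [h]
    infer_instance
  exact IsIso.of_isIso_comp_left ((EtCoh.stalk (t ≫ T.hom)).map
      ((BigSite.piEtAdj Scheme.etalePrecoverage S).unit.app F0)) _

lemma isIso_sigmaB' (s : Spec (CommRingCat.of Ω) ⟶ S) (hs : t ≫ T.hom = s) :
    IsIso (sigma T.hom (EtFppf.a S) (uT T) (nuBase T) s t hs
      ((BigSite.piEtPull Scheme.etalePrecoverage S).obj F0)) := by
  subst hs
  exact isIso_sigmaB T F0 t

/-- **the pullback of a small étale sheaf to the big étale site is stalk-cartesian** -/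
theorem stalkCart_piEtPull (F0 : EtCoh.Ab S) :
    StalkCart ((BigSite.piEtPull Scheme.etalePrecoverage S).obj F0) := by
  intro T T' h Ω _ _ t'
  have e : t' ≫ T'.hom = (t' ≫ h.left) ≫ T.hom := by rw [Category.assoc, Over.w h]
  have hcomp := sigmaB_comp h (s := (t' ≫ h.left) ≫ T.hom) (t := t' ≫ h.left) (t' := t') rfl rfl
    e ((BigSite.piEtPull Scheme.etalePrecoverage S).obj F0)
  haveI h1 := isIso_sigmaB T F0 (t' ≫ h.left)
  have h3 := isIso_sigmaB' T' F0 t' ((t' ≫ h.left) ≫ T.hom) e
  rw [← hcomp] at h3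
  exact IsIso.of_isIso_comp_left (sigma T.hom (EtFppf.a S) (uT T) (nuBase T)
    ((t' ≫ h.left) ≫ T.hom) (t' ≫ h.left) rfl
    ((BigSite.piEtPull Scheme.etalePrecoverage S).obj F0)) _

end Groth.Agent.Helper3.FE3
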