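import Mathlib
import Groth.Agent.Lib.Helper3.FE2

/-!
# Big-site stalk maps: pushforwards (helper3)
-/

set_option autoImplicit false
universe u
open CategoryTheory CategoryTheory.Limits AlgebraicGeometry Opposite

namespace Groth.Agent.Helper3.FE4

set_option backward.isDefEq.respectTransparency false
set_option linter.style.haveILetI false
set_option linter.unusedSectionVars false

open Groth.Agent.Lib.Helper5 Groth.Agent.S0072.Aux Groth.Agent.Helper3.FE1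

variable {S : Scheme.{u}}

section

variable {T₀ T₁ T₂ : Scheme.{u}} (h₁ : T₁ ⟶ T₀) (h₂ : T₂ ⟶ T₁) (h₃ : T₂ ⟶ T₀) (e : h₂ ≫ h₁ = h₃)

@[reassoc]
lemma bcmap_fst {X Y : Scheme.{u}} (f : X ⟶ Y) {W W' : Y.Etale} (φ : W ⟶ W') :
    ((EtCoh.bc f).map φ).left ≫ pullback.fst W'.hom f = pullback.fst W.hom f ≫ φ.left :=
  bc_map_fst f φ

@[reassoc]
lemma bcmap_snd {X Y : Scheme.{u}} (f : X ⟶ Y) {W W' : Y.Etale} (φ : W ⟶ W') :
    ((EtCoh.bc f).map φ).left ≫ pullback.snd W'.hom f = pullback.snd W.hom f :=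
  bc_map_snd f φ

@[reassoc]
lemma kappa_f (W : T₀.Etale) :
    (kappa h₁ h₂ h₃ e W).left ≫ pullback.fst ((EtCoh.bc h₁).obj W).hom h₂ =
      pullback.lift (pullback.fst W.hom h₃) (pullback.snd W.hom h₃ ≫ h₂)
        (by rw [Category.assoc, e]; exact pullback.condition) :=
  pullback.lift_fst _ _ _

@[reassoc]
lemma kappa_ff (W : T₀.Etale) :
    (kappa h₁ h₂ h₃ e W).left ≫ pullback.fst ((EtCoh.bc h₁).obj W).hom h₂ ≫
      pullback.fst W.hom h₁ = pullback.fst W.hom h₃ :=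
  kappa_fst_fst h₁ h₂ h₃ e W

@[reassoc]
lemma kappa_fs (W : T₀.Etale) :
    (kappa h₁ h₂ h₃ e W).left ≫ pullback.fst ((EtCoh.bc h₁).obj W).hom h₂ ≫
      pullback.snd W.hom h₁ = pullback.snd W.hom h₃ ≫ h₂ := by
  rw [kappa_f_assoc]
  exact pullback.lift_snd _ _ _

@[reassoc]
lemma kappa_s (W : T₀.Etale) :
    (kappa h₁ h₂ h₃ e W).left ≫ pullback.snd ((EtCoh.bc h₁).obj W).hom h₂ =
      pullback.snd W.hom h₃ :=
  pullback.lift_snd _ _ _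

lemma kappa_naturality {W W' : T₀.Etale} (k : W ⟶ W') :
    (EtCoh.bc h₃).map k ≫ kappa h₁ h₂ h₃ e W' =
      kappa h₁ h₂ h₃ e W ≫ (EtCoh.bc h₂).map ((EtCoh.bc h₁).map k) := by
  apply MorphismProperty.Over.Hom.ext
  change ((EtCoh.bc h₃).map k).left ≫ (kappa h₁ h₂ h₃ e W').left =
    (kappa h₁ h₂ h₃ e W).left ≫ ((EtCoh.bc h₂).map ((EtCoh.bc h₁).map k)).left
  have b2f := bcmap_fst h₂ ((EtCoh.bc h₁).map k)
  have b2s := bcmap_snd h₂ ((EtCoh.bc h₁).map k)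
  apply pullback.hom_ext
  · apply pullback.hom_ext
    · simp only [Category.assoc]
      rw [kappa_ff, reassoc_of% b2f, bcmap_fst h₁ k, bcmap_fst h₃ k, kappa_ff_assoc]
    · simp only [Category.assoc]
      rw [kappa_fs, reassoc_of% b2f, bcmap_snd h₁ k, bcmap_snd_assoc h₃ k, kappa_fs]
  · simp only [Category.assoc]
    rw [kappa_s, b2s, bcmap_snd h₃ k, kappa_s]

variable (j₁ : T₁.Etale ⥤ Over S) (j₂ : T₂.Etale ⥤ Over S)
  [j₁.IsContinuous T₁.smallEtaleTopology (JS S)] [j₂.IsContinuous T₂.smallEtaleTopology (JS S)]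
  (ν₂ : EtCoh.bc h₂ ⋙ j₂ ⟶ j₁)

/-- the transformation on pushforwards induced by `ν₂` -/
noncomputable def muK : EtCoh.bc h₃ ⋙ j₂ ⟶ EtCoh.bc h₁ ⋙ j₁ where
  app W := j₂.map (kappa h₁ h₂ h₃ e W) ≫ ν₂.app ((EtCoh.bc h₁).obj W)
  naturality W W' k := by
    change j₂.map ((EtCoh.bc h₃).map k) ≫ j₂.map (kappa h₁ h₂ h₃ e W') ≫ ν₂.app _ =
      (j₂.map (kappa h₁ h₂ h₃ e W) ≫ ν₂.app _) ≫ j₁.map ((EtCoh.bc h₁).map k)
    rw [← Category.assoc, ← j₂.map_comp, kappa_naturality, j₂.map_comp, Category.assoc,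
      Category.assoc]
    congr 1
    exact ν₂.naturality ((EtCoh.bc h₁).map k)

variable {Ω : Type u} [Field Ω] [IsSepClosed Ω]

/-- the stalk map for the identity transformation is the comparison map `phi` -/
lemma sigma_id {T T' : Scheme.{u}} (h : T' ⟶ T) (j' : T'.Etale ⥤ Over S)
    [j'.IsContinuous T'.smallEtaleTopology (JS S)]
    (t : Spec (CommRingCat.of Ω) ⟶ T) (t' : Spec (CommRingCat.of Ω) ⟶ T')
    (ht : t' ≫ h = t) (G : AbS S) :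
    sigma h (EtCoh.bc h ⋙ j') j' (𝟙 _) t t' ht G = phi h t ((res j').obj G) t' ht := by
  apply (Scheme.pointSmallEtale t).presheafFiber_hom_ext
  intro W w
  have A1 := toPF_sigma h (EtCoh.bc h ⋙ j') j' (𝟙 _) t t' ht G W w
  refine A1.trans ?_
  have A2 : (Scheme.pointSmallEtale t).toPresheafFiber W w
      ((EtCoh.push h).obj ((res j').obj G)).obj ≫ phi h t ((res j').obj G) t' ht = _ :=
    (Scheme.pointSmallEtale t).toPresheafFiber_presheafFiberDesc _ _ W w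
  refine Eq.trans ?_ A2.symm
  rw [NatTrans.id_app, op_id, G.obj.map_id]
  exact Category.id_comp _

/-- the stalk maps of a pushforward -/
theorem sigma_push {t₀ : Spec (CommRingCat.of Ω) ⟶ T₀} {t₁ : Spec (CommRingCat.of Ω) ⟶ T₁}
    {t₂ : Spec (CommRingCat.of Ω) ⟶ T₂} (ht₁ : t₁ ≫ h₁ = t₀) (ht₂ : t₂ ≫ h₂ = t₁)
    (ht₃ : t₂ ≫ h₃ = t₀) (G : AbS S) :
    sigma h₃ (EtCoh.bc h₁ ⋙ j₁) j₂ (muK h₁ h₂ h₃ e j₁ j₂ ν₂) t₀ t₂ ht₃ G =
      phi h₁ t₀ ((res j₁).obj G) t₁ ht₁ ≫ sigma h₂ j₁ j₂ ν₂ t₁ t₂ ht₂ G := by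
  rw [← sigma_id h₁ j₁ t₀ t₁ ht₁ G]
  refine (sigma_comp h₁ h₂ h₃ e (EtCoh.bc h₁ ⋙ j₁) j₁ j₂ (𝟙 _) ν₂ (muK h₁ h₂ h₃ e j₁ j₂ ν₂)
    ?_ ht₁ ht₂ ht₃ G).symm
  intro W
  rw [NatTrans.id_app]
  exact (Category.assoc _ _ _).symm.trans (Category.comp_id _)

end

end Groth.Agent.Helper3.FE4
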