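import Mathlib
import Groth.Agent.Lib.Helper3.FE4
import Groth.Agent.Lib.Helper5.Misc.EtStalkFam
import Groth.Agent.Lib.Helper9.FE.FinGeoPt

/-!
# Descent of stalk-cartesian big étale sheaves along finite surjective morphisms (helper3)
-/

set_option autoImplicit false
universe u
open CategoryTheory CategoryTheory.Limits AlgebraicGeometry Opposite

namespace Groth.Agent.Helper3.FE5

set_option backward.isDefEq.respectTransparency false
set_option linter.style.haveILetI false
set_option linter.unusedSectionVars false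

open Groth.Agent.Lib.Helper5 Groth.Agent.S0072.Aux Groth.Agent.Helper3.FE1 Groth.Agent.Helper3.FE2
  Groth.Agent.Helper3.FE4

/-- the geometric point at `x` with values in the algebraic closure of the residue field -/
noncomputable def algPt {X : Scheme.{u}} (x : X) : EtStalk.GeomPt X where
  Ω := AlgebraicClosure (X.residueField x)
  ξ := (Scheme.SpecToEquivOfField (AlgebraicClosure (X.residueField x)) X).2
      ⟨x, CommRingCat.ofHom (algebraMap (X.residueField x) _)⟩

instance {X : Scheme.{u}} (x : X) : IsAlgClosed (algPt x).Ω :=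
  inferInstanceAs (IsAlgClosed (AlgebraicClosure (X.residueField x)))

lemma algPt_default {X : Scheme.{u}} (x : X) :
    (algPt x).ξ (default : Spec (CommRingCat.of (algPt x).Ω)) = x := by
  simp [algPt, Scheme.SpecToEquivOfField]

variable {S : Scheme.{u}} (G : AbS S) {U V VV : Over S} (p : V ⟶ U) (pr₁ pr₂ : VV ⟶ V)
  (hsq : pr₁ ≫ p = pr₂ ≫ p)

/-- the sheaf `G|_U` -/
noncomputable abbrev shA : EtCoh.Ab U.left := (res (uT U)).obj G

/-- the sheaf `p_* G|_V` -/
noncomputable abbrev shB : EtCoh.Ab U.left := (res (EtCoh.bc p.left ⋙ uT V)).obj G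

/-- the sheaf `q_* G|_{V ×_U V}` -/
noncomputable abbrev shC : EtCoh.Ab U.left := (res (EtCoh.bc (pr₁ ≫ p).left ⋙ uT VV)).obj G

/-- restriction -/
noncomputable def alpha : shA G (U := U) ⟶ shB G p :=
  (rho p.left (uT U) (uT V) (nuOver p)).app G

/-- first restriction -/
noncomputable def beta₁ : shB G p ⟶ shC G p pr₁ :=
  (rho (pr₁ ≫ p).left (EtCoh.bc p.left ⋙ uT V) (uT VV)
    (muK p.left pr₁.left (pr₁ ≫ p).left rfl (uT V) (uT VV) (nuOver pr₁))).app G

include hsq in
lemma e₂ : pr₂.left ≫ p.left = (pr₁ ≫ p).left := by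
  rw [hsq]
  rfl

/-- second restriction -/
noncomputable def beta₂ : shB G p ⟶ shC G p pr₁ :=
  (rho (pr₁ ≫ p).left (EtCoh.bc p.left ⋙ uT V) (uT VV)
    (muK p.left pr₂.left (pr₁ ≫ p).left (e₂ p pr₁ pr₂ hsq) (uT V) (uT VV) (nuOver pr₂))).app G


section Stalk

variable {Ω : Type u} [Field Ω] [IsSepClosed Ω] (u : Spec (CommRingCat.of Ω) ⟶ U.left)

lemma alpha_phi (v : Spec (CommRingCat.of Ω) ⟶ V.left) (hv : v ≫ p.left = u) :
    (EtCoh.stalk u).map (alpha G p) ≫ phi p.left u ((res (uT V)).obj G) v hv =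
      sigma p.left (uT U) (uT V) (nuOver p) u v hv G := rfl

lemma beta₁_phi (w : Spec (CommRingCat.of Ω) ⟶ VV.left) (hw : w ≫ (pr₁ ≫ p).left = u)
    (v : Spec (CommRingCat.of Ω) ⟶ V.left) (hv : w ≫ pr₁.left = v) (hvu : v ≫ p.left = u) :
    (EtCoh.stalk u).map (beta₁ G p pr₁) ≫ phi (pr₁ ≫ p).left u ((res (uT VV)).obj G) w hw =
      phi p.left u ((res (uT V)).obj G) v hvu ≫
        sigma pr₁.left (uT V) (uT VV) (nuOver pr₁) v w hv G :=
  sigma_push p.left pr₁.left (pr₁ ≫ p).left rfl (uT V) (uT VV) (nuOver pr₁) hvu hv hw G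

lemma beta₂_phi (w : Spec (CommRingCat.of Ω) ⟶ VV.left) (hw : w ≫ (pr₁ ≫ p).left = u)
    (v : Spec (CommRingCat.of Ω) ⟶ V.left) (hv : w ≫ pr₂.left = v) (hvu : v ≫ p.left = u) :
    (EtCoh.stalk u).map (beta₂ G p pr₁ pr₂ hsq) ≫
        phi (pr₁ ≫ p).left u ((res (uT VV)).obj G) w hw =
      phi p.left u ((res (uT V)).obj G) v hvu ≫
        sigma pr₂.left (uT V) (uT VV) (nuOver pr₂) v w hv G :=
  sigma_push p.left pr₂.left (pr₁ ≫ p).left (e₂ p pr₁ pr₂ hsq) (uT V) (uT VV) (nuOver pr₂)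
    hvu hv hw G

lemma sigma_congr {q q' : VV ⟶ U} (hq : q = q') (w : Spec (CommRingCat.of Ω) ⟶ VV.left)
    (h : w ≫ q.left = u) :
    sigma q.left (uT U) (uT VV) (nuOver q) u w h G =
      sigma q'.left (uT U) (uT VV) (nuOver q') u w (by rw [← hq]; exact h) G := by
  subst hq
  rfl

end Stalk


section Main

variable (hG : StalkCart G) [IsFinite p.left] [Surjective p.left]
  (hpb : IsPullback pr₁.left pr₂.left p.left p.left)
  {Ω : Type u} [Field Ω] [IsAlgClosed Ω] (u : Spec (CommRingCat.of Ω) ⟶ U.left)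

include hG in
lemma bij_of_stalkCart {T T' : Over S} (h : T' ⟶ T)
    (t : Spec (CommRingCat.of Ω) ⟶ T.left) (t' : Spec (CommRingCat.of Ω) ⟶ T'.left)
    (ht : t' ≫ h.left = t) :
    Function.Bijective (sigma h.left (uT T) (uT T') (nuOver h) t t' ht G) := by
  subst ht
  haveI := hG T T' h Ω t'
  exact (ConcreteCategory.isIso_iff_bijective _).1 inferInstance

include p in
lemma exists_lift_u : ∃ v : Spec (CommRingCat.of Ω) ⟶ V.left, v ≫ p.left = u := by
  obtain ⟨x, hx⟩ := (inferInstance : Surjective p.left).surj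
    (u (default : Spec (CommRingCat.of Ω)))
  obtain ⟨v, hv, -⟩ := H9FE.FinGeoPt.exists_lift p.left u x (fun a => by
    rw [Subsingleton.elim a (default : Spec (CommRingCat.of Ω))]
    exact hx)
  exact ⟨v, hv⟩

include hG in
lemma alpha_stalk_injective : Function.Injective ((EtCoh.stalk u).map (alpha G p)) := by
  obtain ⟨v, hv⟩ := exists_lift_u p u
  intro a a' h
  apply (bij_of_stalkCart G hG p u v hv).1
  rw [← alpha_phi G p u v hv]
  simp only [ConcreteCategory.comp_apply]
  rw [h]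

include hG hpb in
lemma exact_stalk (b : (EtCoh.stalk u).obj (shB G p))
    (hb : (EtCoh.stalk u).map (beta₁ G p pr₁) b = (EtCoh.stalk u).map (beta₂ G p pr₁ pr₂ hsq) b) :
    ∃ a, (EtCoh.stalk u).map (alpha G p) a = b := by
  -- the candidate for each lift
  have hcand : ∀ (v : Spec (CommRingCat.of Ω) ⟶ V.left) (hv : v ≫ p.left = u),
      ∃ a, sigma p.left (uT U) (uT V) (nuOver p) u v hv G a =
        phi p.left u ((res (uT V)).obj G) v hv b :=
    fun v hv => (bij_of_stalkCart G hG p u v hv).2 _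
  choose cand hcand using hcand
  -- independence of the lift
  have hind : ∀ (v₁ v₂ : Spec (CommRingCat.of Ω) ⟶ V.left) (hv₁ : v₁ ≫ p.left = u)
      (hv₂ : v₂ ≫ p.left = u), cand v₁ hv₁ = cand v₂ hv₂ := by
    intro v₁ v₂ hv₁ hv₂
    let w : Spec (CommRingCat.of Ω) ⟶ VV.left := hpb.lift v₁ v₂ (hv₁.trans hv₂.symm)
    have hw₁ : w ≫ pr₁.left = v₁ := hpb.lift_fst _ _ _
    have hw₂ : w ≫ pr₂.left = v₂ := hpb.lift_snd _ _ _
    have hw : w ≫ (pr₁ ≫ p).left = u := by
      change w ≫ pr₁.left ≫ p.left = u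
      rw [← Category.assoc, hw₁, hv₁]
    have hw' : w ≫ (pr₂ ≫ p).left = u := by
      change w ≫ pr₂.left ≫ p.left = u
      rw [← Category.assoc, hw₂, hv₂]
    apply (bij_of_stalkCart G hG (pr₁ ≫ p) u w hw).1
    have c₁ := sigmaO_comp p pr₁ hv₁ hw₁ hw G
    have c₂ := sigmaO_comp p pr₂ hv₂ hw₂ hw' G
    rw [sigma_congr G u hsq.symm w hw'] at c₂
    have B₁ := beta₁_phi G p pr₁ u w hw v₁ hw₁ hv₁
    have B₂ := beta₂_phi G p pr₁ pr₂ hsq u w hw v₂ hw₂ hv₂
    have B₁' := ConcreteCategory.congr_hom B₁ b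
    have B₂' := ConcreteCategory.congr_hom B₂ b
    simp only [ConcreteCategory.comp_apply] at B₁' B₂'
    have e1 := ConcreteCategory.congr_hom c₁ (cand v₁ hv₁)
    have e2 := ConcreteCategory.congr_hom c₂ (cand v₂ hv₂)
    simp only [ConcreteCategory.comp_apply] at e1 e2
    rw [← e1, ← e2, hcand, hcand]
    exact B₁'.symm.trans ((congrArg _ hb).trans B₂')
  obtain ⟨v₀, hv₀⟩ := exists_lift_u p u
  refine ⟨cand v₀ hv₀, ?_⟩
  have hz : (EtCoh.stalk u).map (alpha G p) (cand v₀ hv₀) - b = 0 := by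
    apply phi_injective p.left u ((res (uT V)).obj G) inferInstance
    intro v hv
    rw [map_sub, sub_eq_zero]
    have := ConcreteCategory.congr_hom (alpha_phi G p u v hv) (cand v₀ hv₀)
    simp only [ConcreteCategory.comp_apply] at this
    refine this.trans ?_
    rw [hind v₀ v hv₀ hv, hcand]
  exact sub_eq_zero.1 hz

end Main

section Sheaf

attribute [local instance] EtStalk.ab5' EtStalk.pfc

instance stalkAdditive {X : Scheme.{u}} {Ω : Type u} [Field Ω] [IsSepClosed Ω]
    (ξ : Spec (CommRingCat.of Ω) ⟶ X) : (EtCoh.stalk ξ).Additive :=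
  haveI : PreservesFiniteLimits (EtCoh.stalk ξ) :=
    inferInstanceAs (PreservesFiniteLimits (Scheme.pointSmallEtale ξ).sheafFiber)
  haveI := preservesBinaryBiproducts_of_preservesBinaryProducts (EtCoh.stalk ξ)
  Functor.additive_of_preservesBinaryBiproducts _

lemma alpha_beta : alpha G p ≫ beta₁ G p pr₁ = alpha G p ≫ beta₂ G p pr₁ pr₂ hsq := by
  ext W : 3
  change G.obj.map ((nuOver p).app W.unop).op ≫ G.obj.map
      ((muK p.left pr₁.left (pr₁ ≫ p).left rfl (uT V) (uT VV) (nuOver pr₁)).app W.unop).op =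
    G.obj.map ((nuOver p).app W.unop).op ≫ G.obj.map
      ((muK p.left pr₂.left (pr₁ ≫ p).left (e₂ p pr₁ pr₂ hsq) (uT V) (uT VV)
        (nuOver pr₂)).app W.unop).op
  rw [← G.obj.map_comp, ← G.obj.map_comp, ← op_comp, ← op_comp]
  congr 2
  apply Over.OverMorphism.ext
  change ((kappa p.left pr₁.left (pr₁ ≫ p).left rfl W.unop).left ≫
      pullback.fst ((EtCoh.bc p.left).obj W.unop).hom pr₁.left) ≫ pullback.fst W.unop.hom p.left =
    ((kappa p.left pr₂.left (pr₁ ≫ p).left (e₂ p pr₁ pr₂ hsq) W.unop).left ≫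
      pullback.fst ((EtCoh.bc p.left).obj W.unop).hom pr₂.left) ≫ pullback.fst W.unop.hom p.left
  rw [Category.assoc, Category.assoc, kappa_ff, kappa_ff]

/-- the descent complex -/
noncomputable def descSC : ShortComplex (EtCoh.Ab U.left) :=
  ShortComplex.mk (alpha G p) (beta₁ G p pr₁ - beta₂ G p pr₁ pr₂ hsq) (by
    rw [Preadditive.comp_sub, alpha_beta G p pr₁ pr₂ hsq, sub_self])

variable (hG : StalkCart G) [IsFinite p.left] [Surjective p.left]
  (hpb : IsPullback pr₁.left pr₂.left p.left p.left)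

include hG in
lemma mono_alpha : Mono (alpha G p) := by
  apply EtStalkFam.mono_of_stalks (fun x : U.left => algPt x) (fun x => ⟨x, algPt_default x⟩)
  intro x
  exact alpha_stalk_injective G p hG (algPt x).ξ

include hG hpb in
lemma descSC_exact : (descSC G p pr₁ pr₂ hsq).Exact := by
  apply EtStalkFam.exact_of_stalks (fun x : U.left => algPt x) (fun x => ⟨x, algPt_default x⟩)
  intro x
  rw [ShortComplex.ab_exact_iff]
  intro b hb
  change (EtCoh.stalk (algPt x).ξ).map (beta₁ G p pr₁ - beta₂ G p pr₁ pr₂ hsq) b = 0 at hb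
  rw [Functor.map_sub] at hb
  have hb' : (EtCoh.stalk (algPt x).ξ).map (beta₁ G p pr₁) b =
      (EtCoh.stalk (algPt x).ξ).map (beta₂ G p pr₁ pr₂ hsq) b := sub_eq_zero.1 hb
  exact exact_stalk G p pr₁ pr₂ hsq hG hpb (algPt x).ξ b hb'

/-- the sections functor at an object -/
noncomputable abbrev secF (W : U.left.Etale) : EtCoh.Ab U.left ⥤ AddCommGrpCat.{u + 1} :=
  sheafToPresheaf _ _ ⋙ (evaluation _ _).obj (op W)

include hG hpb in
lemma sections_exact (W : U.left.Etale) (x : (shB G p).obj.obj (op W))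
    (hx : (beta₁ G p pr₁).hom.app (op W) x = (beta₂ G p pr₁ pr₂ hsq).hom.app (op W) x) :
    ∃! y : (shA G (U := U)).obj.obj (op W), (alpha G p).hom.app (op W) y = x := by
  haveI := mono_alpha G p hG
  have hinj : Function.Injective ((alpha G p).hom.app (op W)) :=
    (EtStalk.mono_iff_ab (alpha G p)).1 inferInstance W
  have hS := descSC_exact G p pr₁ pr₂ hsq hG hpb
  haveI : Mono (descSC G p pr₁ pr₂ hsq).f := mono_alpha G p hG
  have hS' := hS.map_of_mono_of_preservesKernel (secF W) inferInstance inferInstance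
  rw [ShortComplex.ab_exact_iff] at hS'
  obtain ⟨y, hy⟩ := hS' x (by
    change (secF W).map (beta₁ G p pr₁ - beta₂ G p pr₁ pr₂ hsq) x = 0
    rw [Functor.map_sub]
    exact sub_eq_zero.2 hx)
  exact ⟨y, hy, fun y' hy' => hinj (hy'.trans hy.symm)⟩

end Sheaf

section Final

/-- `T` as the image of the final object of its small étale site -/
noncomputable def topIso (T : Over S) : (uT T).obj (EtCoh.top T.left) ≅ T :=
  Over.isoMk (Iso.refl _) (by
    change 𝟙 _ ≫ T.hom = 𝟙 _ ≫ T.hom
    rfl)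

instance : IsIso (pullback.snd (EtCoh.top U.left).hom p.left) :=
  inferInstanceAs (IsIso (pullback.snd (𝟙 U.left) p.left))

/-- `V` as the image of the base change of the final object -/
noncomputable def bcTopIso : (uT V).obj ((EtCoh.bc p.left).obj (EtCoh.top U.left)) ≅ V :=
  Over.isoMk (asIso (pullback.snd (EtCoh.top U.left).hom p.left)) (by
    change pullback.snd (EtCoh.top U.left).hom p.left ≫ V.hom =
      pullback.snd (EtCoh.top U.left).hom p.left ≫ V.hom
    rfl)

lemma nu_top : (nuOver p).app (EtCoh.top U.left) ≫ (topIso U).hom = (bcTopIso p).hom ≫ p := by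
  apply Over.OverMorphism.ext
  change pullback.fst (EtCoh.top U.left).hom p.left ≫ 𝟙 _ =
    pullback.snd (EtCoh.top U.left).hom p.left ≫ p.left
  rw [Category.comp_id]
  exact (Category.comp_id _).symm.trans pullback.condition

lemma mu_top₁ :
    (muK p.left pr₁.left (pr₁ ≫ p).left rfl (uT V) (uT VV) (nuOver pr₁)).app (EtCoh.top U.left) ≫
      (bcTopIso p).hom = (bcTopIso (pr₁ ≫ p)).hom ≫ pr₁ := by
  apply Over.OverMorphism.ext
  change ((kappa p.left pr₁.left (pr₁ ≫ p).left rfl (EtCoh.top U.left)).left ≫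
      pullback.fst ((EtCoh.bc p.left).obj (EtCoh.top U.left)).hom pr₁.left) ≫
      pullback.snd (EtCoh.top U.left).hom p.left =
    pullback.snd (EtCoh.top U.left).hom (pr₁ ≫ p).left ≫ pr₁.left
  rw [Category.assoc, kappa_fs]

include hsq in
lemma mu_top₂ :
    (muK p.left pr₂.left (pr₁ ≫ p).left (e₂ p pr₁ pr₂ hsq) (uT V) (uT VV)
      (nuOver pr₂)).app (EtCoh.top U.left) ≫
      (bcTopIso p).hom = (bcTopIso (pr₁ ≫ p)).hom ≫ pr₂ := by
  apply Over.OverMorphism.ext
  change ((kappa p.left pr₂.left (pr₁ ≫ p).left (e₂ p pr₁ pr₂ hsq) (EtCoh.top U.left)).left ≫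
      pullback.fst ((EtCoh.bc p.left).obj (EtCoh.top U.left)).hom pr₂.left) ≫
      pullback.snd (EtCoh.top U.left).hom p.left =
    pullback.snd (EtCoh.top U.left).hom (pr₁ ≫ p).left ≫ pr₂.left
  rw [Category.assoc, kappa_fs]

lemma map_map {A B C : Over S} (f : A ⟶ B) (g : B ⟶ C) (z : G.obj.obj (op C)) :
    G.obj.map f.op (G.obj.map g.op z) = G.obj.map (f ≫ g).op z := by
  rw [op_comp, G.obj.map_comp, ConcreteCategory.comp_apply]

variable (hG : StalkCart G) [IsFinite p.left] [Surjective p.left]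
  (hpb : IsPullback pr₁.left pr₂.left p.left p.left)

include hG hpb hsq in
/-- **descent along a finite surjective morphism for stalk-cartesian big étale sheaves** -/
theorem descent (x : G.obj.obj (op V)) (hx : G.obj.map pr₁.op x = G.obj.map pr₂.op x) :
    ∃! y : G.obj.obj (op U), G.obj.map p.op y = x := by
  have hiV : Function.Injective (G.obj.map (bcTopIso p).hom.op) := by
    intro a b hab
    have := congrArg (G.obj.map (bcTopIso p).inv.op) hab
    rw [map_map, map_map, Iso.inv_hom_id, op_id, G.obj.map_id] at this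
    exact this
  have hx' : (beta₁ G p pr₁).hom.app (op (EtCoh.top U.left)) (G.obj.map (bcTopIso p).hom.op x) =
      (beta₂ G p pr₁ pr₂ hsq).hom.app (op (EtCoh.top U.left))
        (G.obj.map (bcTopIso p).hom.op x) := by
    have h1 : (beta₁ G p pr₁).hom.app (op (EtCoh.top U.left)) (G.obj.map (bcTopIso p).hom.op x) =
        G.obj.map ((muK p.left pr₁.left (pr₁ ≫ p).left rfl (uT V) (uT VV) (nuOver pr₁)).app
          (EtCoh.top U.left)).op (G.obj.map (bcTopIso p).hom.op x) := rfl
    have h2 : (beta₂ G p pr₁ pr₂ hsq).hom.app (op (EtCoh.top U.left))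
        (G.obj.map (bcTopIso p).hom.op x) =
        G.obj.map ((muK p.left pr₂.left (pr₁ ≫ p).left (e₂ p pr₁ pr₂ hsq) (uT V) (uT VV)
          (nuOver pr₂)).app (EtCoh.top U.left)).op (G.obj.map (bcTopIso p).hom.op x) := rfl
    have k1 : G.obj.map ((muK p.left pr₁.left (pr₁ ≫ p).left rfl (uT V) (uT VV) (nuOver pr₁)).app
          (EtCoh.top U.left)).op (G.obj.map (bcTopIso p).hom.op x) =
        G.obj.map (bcTopIso (pr₁ ≫ p)).hom.op (G.obj.map pr₁.op x) := by
      exact (map_map G _ _ x).trans ((congrArg (fun m => G.obj.map (Quiver.Hom.op m) x)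
        (mu_top₁ p pr₁)).trans (map_map G _ _ x).symm)
    have k2 : G.obj.map ((muK p.left pr₂.left (pr₁ ≫ p).left (e₂ p pr₁ pr₂ hsq) (uT V) (uT VV)
          (nuOver pr₂)).app (EtCoh.top U.left)).op (G.obj.map (bcTopIso p).hom.op x) =
        G.obj.map (bcTopIso (pr₁ ≫ p)).hom.op (G.obj.map pr₂.op x) := by
      exact (map_map G _ _ x).trans ((congrArg (fun m => G.obj.map (Quiver.Hom.op m) x)
        (mu_top₂ p pr₁ pr₂ hsq)).trans (map_map G _ _ x).symm)
    exact h1.trans (k1.trans ((congrArg _ hx).trans (k2.symm.trans h2.symm)))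
  obtain ⟨y', hy', huniq⟩ := sections_exact G p pr₁ pr₂ hsq hG hpb (EtCoh.top U.left)
    (G.obj.map (bcTopIso p).hom.op x) hx'
  have hα : ∀ z : G.obj.obj (op ((uT U).obj (EtCoh.top U.left))),
      (alpha G p).hom.app (op (EtCoh.top U.left)) z =
        G.obj.map ((nuOver p).app (EtCoh.top U.left)).op z := fun z =>
    ConcreteCategory.congr_hom
      (rho_app_app p.left (uT U) (uT V) (nuOver p) G (EtCoh.top U.left)) z
  refine ⟨G.obj.map (topIso U).inv.op y', ?_, ?_⟩
  · apply hiV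
    rw [map_map, ← nu_top, ← map_map, map_map (G := G) (topIso U).hom, Iso.hom_inv_id, op_id,
      G.obj.map_id]
    exact (hα y').symm.trans hy'
  · intro y₂ hy₂
    have h3 : (alpha G p).hom.app (op (EtCoh.top U.left)) (G.obj.map (topIso U).hom.op y₂) =
        G.obj.map (bcTopIso p).hom.op x := by
      rw [hα, map_map, nu_top, ← map_map, hy₂]
      rfl
    have h4 := huniq _ h3
    rw [← h4, map_map, Iso.inv_hom_id, op_id, G.obj.map_id]
    rfl

end Final

end Groth.Agent.Helper3.FE5
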