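import Mathlib
import Groth.Prelude.Def_WeakSerre
import Groth.Agent.Lib.Helper3.FE3
import Groth.Agent.Lib.Helper3.FE5

/-!
# Stalk-cartesian big étale sheaves form a weak Serre subcategory (helper3)
-/

set_option autoImplicit false
universe u
open CategoryTheory CategoryTheory.Limits AlgebraicGeometry Opposite ZeroObject

namespace Groth.Agent.Helper3.FE8

set_option backward.isDefEq.respectTransparency false
set_option linter.style.haveILetI false
set_option linter.unusedSectionVars false

section Abstract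

universe v₁ u₁ v₂ u₂

variable {𝒜 : Type u₁} [Category.{v₁} 𝒜] [Abelian 𝒜] {ℬ : Type u₂} [Category.{v₂} ℬ] [Abelian ℬ]
  {F₁ F₂ : 𝒜 ⥤ ℬ} [F₁.Additive] [F₂.Additive] [PreservesFiniteLimits F₁]
  [PreservesFiniteColimits F₁] [PreservesFiniteLimits F₂] [PreservesFiniteColimits F₂]
  (σ : F₁ ⟶ F₂)

/-- the objects at which a natural transformation is an isomorphism -/
def isoLocus : ObjectProperty 𝒜 := fun G => IsIso (σ.app G)

lemma isIso_of_kernel {A B : 𝒜} (f : A ⟶ B) (k : KernelFork f) (hk : IsLimit k)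
    (hA : IsIso (σ.app A)) (hB : IsIso (σ.app B)) : IsIso (σ.app k.pt) := by
  have h₁ : IsLimit (k.map F₁) := KernelFork.mapIsLimit k hk F₁
  have h₂ : IsLimit (k.map F₂) := KernelFork.mapIsLimit k hk F₂
  haveI : Mono (F₂.map k.ι) := by
    have := mono_of_isLimit_fork h₂
    simpa using this
  haveI : Mono (F₁.map k.ι) := by
    have := mono_of_isLimit_fork h₁
    simpa using this
  have hz : (F₂.map k.ι ≫ inv (σ.app A)) ≫ F₁.map f = 0 := by
    have hn : inv (σ.app A) ≫ F₁.map f = F₂.map f ≫ inv (σ.app B) := by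
      rw [IsIso.inv_comp_eq, ← Category.assoc, IsIso.eq_comp_inv]
      exact (σ.naturality f)
    rw [Category.assoc, hn, ← Category.assoc, ← F₂.map_comp, k.condition, F₂.map_zero, zero_comp]
  let l : F₂.obj k.pt ⟶ F₁.obj k.pt := h₁.lift (KernelFork.ofι _ hz)
  have hl : l ≫ F₁.map k.ι = F₂.map k.ι ≫ inv (σ.app A) :=
    Fork.IsLimit.lift_ι h₁
  refine ⟨l, ?_, ?_⟩
  · rw [← cancel_mono (F₁.map k.ι), Category.assoc, hl, ← Category.assoc, ← σ.naturality,
      Category.assoc, IsIso.hom_inv_id, Category.comp_id, Category.id_comp]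
  · rw [← cancel_mono (F₂.map k.ι), Category.assoc, ← σ.naturality, ← Category.assoc, hl,
      Category.assoc, IsIso.inv_hom_id, Category.comp_id, Category.id_comp]

lemma isIso_of_cokernel {A B : 𝒜} (f : A ⟶ B) (k : CokernelCofork f) (hk : IsColimit k)
    (hA : IsIso (σ.app A)) (hB : IsIso (σ.app B)) : IsIso (σ.app k.pt) := by
  have h₁ : IsColimit (k.map F₁) := CokernelCofork.mapIsColimit k hk F₁
  have h₂ : IsColimit (k.map F₂) := CokernelCofork.mapIsColimit k hk F₂
  haveI : Epi (F₂.map k.π) := by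
    have := epi_of_isColimit_cofork h₂
    simpa using this
  haveI : Epi (F₁.map k.π) := by
    have := epi_of_isColimit_cofork h₁
    simpa using this
  have hz : F₂.map f ≫ (inv (σ.app B) ≫ F₁.map k.π) = 0 := by
    have hn : F₂.map f ≫ inv (σ.app B) = inv (σ.app A) ≫ F₁.map f := by
      rw [IsIso.eq_inv_comp, ← Category.assoc, IsIso.comp_inv_eq]
      exact (σ.naturality f).symm
    rw [← Category.assoc, hn, Category.assoc, ← F₁.map_comp, k.condition, F₁.map_zero, comp_zero]
  let l : F₂.obj k.pt ⟶ F₁.obj k.pt := h₂.desc (CokernelCofork.ofπ _ hz)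
  have hl : F₂.map k.π ≫ l = inv (σ.app B) ≫ F₁.map k.π :=
    Cofork.IsColimit.π_desc h₂
  refine ⟨l, ?_, ?_⟩
  · rw [← cancel_epi (F₁.map k.π), ← Category.assoc, σ.naturality, Category.assoc, hl,
      ← Category.assoc, IsIso.hom_inv_id, Category.id_comp, Category.comp_id]
  · rw [← cancel_epi (F₂.map k.π), ← Category.assoc, hl, Category.assoc, σ.naturality,
      ← Category.assoc, IsIso.inv_hom_id, Category.id_comp, Category.comp_id]

instance : WSerre.IsWeakSerre (isoLocus σ) where
  exists_zero := ⟨0, isZero_zero 𝒜, by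
    change IsIso (σ.app 0)
    refine ⟨0, ?_, ?_⟩
    · exact (F₁.map_isZero (isZero_zero 𝒜)).eq_of_src _ _
    · exact (F₂.map_isZero (isZero_zero 𝒜)).eq_of_src _ _⟩
  kernels_le := by
    rintro _ ⟨f, k, hk, hf⟩
    exact isIso_of_kernel σ f k hk hf.1 hf.2
  cokernels_le := by
    rintro _ ⟨f, k, hk, hf⟩
    exact isIso_of_cokernel σ f k hk hf.1 hf.2
  prop_X₂_of_shortExact {S} hS h₁ h₃ := by
    have e₁ : (S.map F₁).ShortExact := hS.map_of_exact F₁
    have e₂ : (S.map F₂).ShortExact := hS.map_of_exact F₂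
    exact ShortComplex.isIso₂_of_shortExact_of_isIso₁₃' (S.mapNatTrans σ) e₁ e₂ h₁ h₃

/-- an intersection of weak Serre classes is weak Serre -/
lemma isWeakSerre_forall {ι : Sort*} (P : ι → ObjectProperty 𝒜) [∀ i, WSerre.IsWeakSerre (P i)] :
    WSerre.IsWeakSerre (fun X => ∀ i, P i X) where
  exists_zero := ⟨0, isZero_zero 𝒜, fun i => (P i).prop_zero⟩
  kernels_le := by
    rintro _ ⟨f, k, hk, hf⟩ i
    exact (P i).prop_of_isLimit_kernelFork hk (hf.1 i) (hf.2 i)
  cokernels_le := by
    rintro _ ⟨f, k, hk, hf⟩ i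
    exact (P i).prop_of_isColimit_cokernelCofork hk (hf.1 i) (hf.2 i)
  prop_X₂_of_shortExact hS h₁ h₃ i := (P i).prop_X₂_of_shortExact hS (h₁ i) (h₃ i)

/-- the inverse image of a weak Serre class under an exact functor -/
lemma isWeakSerre_inverseImage_of_exact (G : 𝒜 ⥤ ℬ) [G.Additive] [PreservesFiniteLimits G]
    [PreservesFiniteColimits G] (Pr : ObjectProperty ℬ) [WSerre.IsWeakSerre Pr] :
    WSerre.IsWeakSerre (Pr.inverseImage G) where
  exists_zero := ⟨0, isZero_zero 𝒜, Pr.prop_of_isZero (G.map_isZero (isZero_zero 𝒜))⟩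
  kernels_le := by
    rintro _ ⟨f, k, hk, hf⟩
    exact Pr.prop_of_isLimit_kernelFork (KernelFork.mapIsLimit _ hk G) hf.1 hf.2
  cokernels_le := by
    rintro _ ⟨f, k, hk, hf⟩
    exact Pr.prop_of_isColimit_cokernelCofork (CokernelCofork.mapIsColimit _ hk G) hf.1 hf.2
  prop_X₂_of_shortExact {S} hS h₁ h₃ :=
    Pr.prop_X₂_of_shortExact (hS.map_of_exact G) h₁ h₃

end Abstract

section StalkCart

open Groth.Agent.Lib.Helper5 Groth.Agent.S0072.Aux Groth.Agent.Helper3.FE1 Groth.Agent.Helper3.FE2
  Groth.Agent.Helper3.FE3 Groth.Agent.Helper3.FE5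

variable {S : Scheme.{u}}

lemma pfl_of_adj {C D : Type*} [Category C] [Category D] {L : C ⥤ D} {R : D ⥤ C} (adj : L ⊣ R) :
    PreservesFiniteLimits R := by
  haveI : PreservesLimitsOfSize.{0, 0} R := adj.rightAdjoint_preservesLimits
  exact PreservesLimitsOfSize0.preservesFiniteLimits R

lemma pfc_of_adj {C D : Type*} [Category C] [Category D] {L : C ⥤ D} {R : D ⥤ C} (adj : L ⊣ R) :
    PreservesFiniteColimits L := by
  haveI : PreservesColimitsOfSize.{0, 0} L := adj.leftAdjoint_preservesColimits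
  exact PreservesColimitsOfSize0.preservesFiniteColimits L

instance (T : Over S) : PreservesFiniteLimits (res (uT T)) := by
  haveI : PreservesFiniteLimits (BigSite.pullBig Scheme.etalePrecoverage T.hom AddCommGrpCat.{u + 1}) :=
    pfl_of_adj (BigSite.shriekAbAdj Scheme.etalePrecoverage T.hom)
  haveI : PreservesFiniteLimits (BigSite.resEt Scheme.etalePrecoverage T.left) :=
    pfl_of_adj (BigSite.piEtAdj Scheme.etalePrecoverage T.left)
  haveI : PreservesFiniteLimits (BigSite.resEtAlong Scheme.etalePrecoverage T.hom) :=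
    comp_preservesFiniteLimits _ _
  exact preservesFiniteLimits_of_natIso (resIso T)

instance (T : Over S) : PreservesFiniteColimits (res (uT T)) := by
  haveI : PreservesFiniteColimits
      (BigSite.pullBig Scheme.etalePrecoverage T.hom AddCommGrpCat.{u + 1}) :=
    pfc_of_adj (BigSite.bigAdj Scheme.etalePrecoverage T.hom AddCommGrpCat.{u + 1})
  haveI : PreservesFiniteColimits (BigSite.resEt Scheme.etalePrecoverage T.left) :=
    pfc_of_adj (BigSite.iEtAdj Scheme.etalePrecoverage T.left)
  haveI : PreservesFiniteColimits (BigSite.resEtAlong Scheme.etalePrecoverage T.hom) :=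
    comp_preservesFiniteColimits _ _
  exact preservesFiniteColimits_of_natIso (resIso T)

instance (T : Over S) : (res (uT T)).Additive where

attribute [local instance] EtStalk.ab5' EtStalk.pfc

instance {X : Scheme.{u}} {Ω : Type u} [Field Ω] [IsSepClosed Ω]
    (ξ : Spec (CommRingCat.of Ω) ⟶ X) : PreservesFiniteLimits (EtCoh.stalk ξ) :=
  inferInstanceAs (PreservesFiniteLimits (Scheme.pointSmallEtale ξ).sheafFiber)

instance {X : Scheme.{u}} {Ω : Type u} [Field Ω] [IsSepClosed Ω]
    (ξ : Spec (CommRingCat.of Ω) ⟶ X) : PreservesFiniteColimits (EtCoh.stalk ξ) :=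
  inferInstanceAs (PreservesFiniteColimits (Scheme.pointSmallEtale ξ).sheafFiber)

/-- the index set of the stalk-cartesian conditions -/
structure Idx (S : Scheme.{u}) where
  T : Over S
  T' : Over S
  h : T' ⟶ T
  Ω : Type u
  [fld : Field Ω]
  [ac : IsAlgClosed Ω]
  t' : Spec (CommRingCat.of Ω) ⟶ T'.left

attribute [instance] Idx.fld Idx.ac

/-- the stalk transition maps as a natural transformation -/
noncomputable def sigmaNat (i : Idx S) :
    res (uT i.T) ⋙ EtCoh.stalk (i.t' ≫ i.h.left) ⟶ res (uT i.T') ⋙ EtCoh.stalk i.t' where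
  app G := sigma i.h.left (uT i.T) (uT i.T') (nuOver i.h) (i.t' ≫ i.h.left) i.t' rfl G
  naturality G G' α := sigma_natural i.h.left (uT i.T) (uT i.T') (nuOver i.h)
    (i.t' ≫ i.h.left) i.t' rfl α

/-- the property of being stalk-cartesian -/
def stalkCartProp (S : Scheme.{u}) : ObjectProperty (AbS S) := fun G => StalkCart G

lemma stalkCartProp_eq : stalkCartProp S = fun G => ∀ i : Idx S, isoLocus (sigmaNat i) G := by
  funext G
  apply propext
  constructor
  · intro hG i
    exact hG i.T i.T' i.h i.Ω i.t'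
  · intro hG T T' h Ω _ _ t'
    exact hG ⟨T, T', h, Ω, t'⟩

instance : WSerre.IsWeakSerre (stalkCartProp S) := by
  rw [stalkCartProp_eq]
  exact isWeakSerre_forall _

end StalkCart

end Groth.Agent.Helper3.FE8
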