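import Mathlib
import Groth.Agent.Lib.Helper3.FE5

/-!
# Finite pushforward on the big étale site preserves stalk-cartesian sheaves (helper3)
-/

set_option autoImplicit false
universe u
open CategoryTheory CategoryTheory.Limits AlgebraicGeometry Opposite

namespace Groth.Agent.Helper3.FE9

set_option backward.isDefEq.respectTransparency false
set_option linter.style.haveILetI false
set_option linter.unusedSectionVars false

open Groth.Agent.Lib.Helper5 Groth.Agent.S0072.Aux Groth.Agent.Helper3.FE1 Groth.Agent.Helper3.FE2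
  Groth.Agent.Helper3.FE4 Groth.Agent.Helper3.FE5

variable {X Y : Scheme.{u}} (f : X ⟶ Y)

/-- `W ↦ W ×_Y X` from the small étale site of a `Y`-scheme to the big site of `X` -/
noncomputable abbrev jT (T : Over Y) : T.left.Etale ⥤ Over X := uT T ⋙ Over.pullback f

instance (T : Over Y) : (jT f T).IsContinuous T.left.smallEtaleTopology (JS X) :=
  Functor.isContinuous_comp (uT T) (Over.pullback f) T.left.smallEtaleTopology (JS Y) (JS X)

/-- the projection `T_X ⟶ T` -/
noncomputable abbrev fT (T : Over Y) : ((Over.pullback f).obj T).left ⟶ T.left :=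
  pullback.fst T.hom f

/-- `W ×_T T_X ⟶ W ×_Y X` on underlying schemes -/
noncomputable def nuTl (T : Over Y) (W : T.left.Etale) :
    pullback W.hom (pullback.fst T.hom f) ⟶ pullback (W.hom ≫ T.hom) f :=
  pullback.lift (pullback.fst W.hom (pullback.fst T.hom f))
    (pullback.snd W.hom (pullback.fst T.hom f) ≫ pullback.snd T.hom f) (by
      have h1 := pullback.condition (f := W.hom) (g := pullback.fst T.hom f)
      have h2 := pullback.condition (f := T.hom) (g := f)
      calc pullback.fst W.hom (pullback.fst T.hom f) ≫ W.hom ≫ T.hom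
          = (pullback.fst W.hom (pullback.fst T.hom f) ≫ W.hom) ≫ T.hom :=
            (Category.assoc _ _ _).symm
        _ = (pullback.snd W.hom (pullback.fst T.hom f) ≫ pullback.fst T.hom f) ≫ T.hom := by
            rw [h1]
        _ = pullback.snd W.hom (pullback.fst T.hom f) ≫ pullback.fst T.hom f ≫ T.hom :=
            Category.assoc _ _ _
        _ = pullback.snd W.hom (pullback.fst T.hom f) ≫ pullback.snd T.hom f ≫ f := by rw [h2]
        _ = _ := (Category.assoc _ _ _).symm)

@[reassoc]
lemma nuTl_fst (T : Over Y) (W : T.left.Etale) :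
    nuTl f T W ≫ pullback.fst (W.hom ≫ T.hom) f = pullback.fst W.hom (pullback.fst T.hom f) :=
  pullback.lift_fst _ _ _

@[reassoc]
lemma nuTl_snd (T : Over Y) (W : T.left.Etale) :
    nuTl f T W ≫ pullback.snd (W.hom ≫ T.hom) f =
      pullback.snd W.hom (pullback.fst T.hom f) ≫ pullback.snd T.hom f :=
  pullback.lift_snd _ _ _

@[reassoc]
lemma pb_map_fst {A B : Over Y} (g : A ⟶ B) :
    ((Over.pullback f).map g).left ≫ pullback.fst B.hom f = pullback.fst A.hom f ≫ g.left :=
  pullback.lift_fst _ _ _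

@[reassoc]
lemma pb_map_snd {A B : Over Y} (g : A ⟶ B) :
    ((Over.pullback f).map g).left ≫ pullback.snd B.hom f = pullback.snd A.hom f :=
  pullback.lift_snd _ _ _

lemma nuTl_eq (T : Over Y) (W : T.left.Etale) :
    nuTl f T W = (pullbackRightPullbackFstIso T.hom f W.hom).hom := by
  apply pullback.hom_ext
  · rw [pullbackRightPullbackFstIso_hom_fst]
    exact nuTl_fst f T W
  · rw [pullbackRightPullbackFstIso_hom_snd]
    exact nuTl_snd f T W

instance (T : Over Y) (W : T.left.Etale) : IsIso (nuTl f T W) := by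
  rw [nuTl_eq]
  infer_instance

/-- `W ×_T T_X ⟶ W ×_Y X` -/
noncomputable def nuT (T : Over Y) :
    EtCoh.bc (fT f T) ⋙ uT ((Over.pullback f).obj T) ⟶ jT f T where
  app W := Over.homMk (nuTl f T W) (by
      change nuTl f T W ≫ pullback.snd (W.hom ≫ T.hom) f =
        pullback.snd W.hom (pullback.fst T.hom f) ≫ pullback.snd T.hom f
      exact nuTl_snd f T W)
  naturality W W' k := by
    apply Over.OverMorphism.ext
    change ((EtCoh.bc (fT f T)).map k).left ≫ nuTl f T W' =
      nuTl f T W ≫ ((Over.pullback f).map ((uT T).map k)).left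
    apply pullback.hom_ext
    · have e1 := bc_map_fst (fT f T) k
      have e2 := pb_map_fst f ((uT T).map k)
      change _ = _ ≫ k.left at e2
      calc (((EtCoh.bc (fT f T)).map k).left ≫ nuTl f T W') ≫
            pullback.fst (W'.hom ≫ T.hom) f
          = ((EtCoh.bc (fT f T)).map k).left ≫ nuTl f T W' ≫
            pullback.fst (W'.hom ≫ T.hom) f := Category.assoc _ _ _
        _ = ((EtCoh.bc (fT f T)).map k).left ≫
            pullback.fst W'.hom (pullback.fst T.hom f) := by rw [nuTl_fst]
        _ = pullback.fst W.hom (pullback.fst T.hom f) ≫ k.left := e1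
        _ = (nuTl f T W ≫ pullback.fst (W.hom ≫ T.hom) f) ≫ k.left := by rw [nuTl_fst]
        _ = nuTl f T W ≫ pullback.fst (W.hom ≫ T.hom) f ≫ k.left := Category.assoc _ _ _
        _ = nuTl f T W ≫ ((Over.pullback f).map ((uT T).map k)).left ≫
            pullback.fst (W'.hom ≫ T.hom) f := congrArg (fun m => nuTl f T W ≫ m) e2.symm
        _ = _ := (Category.assoc _ _ _).symm
    · have e1 := bc_map_snd (fT f T) k
      have e2 := pb_map_snd f ((uT T).map k)
      calc (((EtCoh.bc (fT f T)).map k).left ≫ nuTl f T W') ≫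
            pullback.snd (W'.hom ≫ T.hom) f
          = ((EtCoh.bc (fT f T)).map k).left ≫ nuTl f T W' ≫
            pullback.snd (W'.hom ≫ T.hom) f := Category.assoc _ _ _
        _ = ((EtCoh.bc (fT f T)).map k).left ≫
            pullback.snd W'.hom (pullback.fst T.hom f) ≫ pullback.snd T.hom f := by
              rw [nuTl_snd]
        _ = (((EtCoh.bc (fT f T)).map k).left ≫
            pullback.snd W'.hom (pullback.fst T.hom f)) ≫ pullback.snd T.hom f :=
              (Category.assoc _ _ _).symm
        _ = pullback.snd W.hom (pullback.fst T.hom f) ≫ pullback.snd T.hom f := by rw [e1]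
        _ = nuTl f T W ≫ pullback.snd (W.hom ≫ T.hom) f := (nuTl_snd f T W).symm
        _ = nuTl f T W ≫ ((Over.pullback f).map ((uT T).map k)).left ≫
            pullback.snd (W'.hom ≫ T.hom) f := congrArg (fun m => nuTl f T W ≫ m) e2.symm
        _ = _ := (Category.assoc _ _ _).symm

lemma nuT_app_left (T : Over Y) (W : T.left.Etale) : ((nuT f T).app W).left = nuTl f T W := rfl

instance (T : Over Y) (W : T.left.Etale) : IsIso ((nuT f T).app W) := by
  haveI : IsIso ((Over.forget X).map ((nuT f T).app W)) := by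
    change IsIso (nuTl f T W)
    infer_instance
  exact isIso_of_reflects_iso _ (Over.forget X)

instance (T : Over Y) (H : AbS X) :
    IsIso ((rho (fT f T) (jT f T) (uT ((Over.pullback f).obj T)) (nuT f T)).app H) := by
  haveI : IsIso ((sheafToPresheaf _ _).map
      ((rho (fT f T) (jT f T) (uT ((Over.pullback f).obj T)) (nuT f T)).app H)) := by
    haveI : ∀ W, IsIso (((sheafToPresheaf _ _).map
        ((rho (fT f T) (jT f T) (uT ((Over.pullback f).obj T))
          (nuT f T)).app H)).app W) := by
      intro W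
      change IsIso (((rho (fT f T) (jT f T) (uT ((Over.pullback f).obj T))
          (nuT f T)).app H).hom.app (op W.unop))
      rw [rho_app_app]
      infer_instance
    exact NatIso.isIso_of_isIso_app _
  exact isIso_of_reflects_iso _ (sheafToPresheaf _ _)

variable {Ω : Type u} [Field Ω] [IsAlgClosed Ω]

/-- the stalk maps to the points of `T_X` above a point of `T` -/
noncomputable abbrev sigT (T : Over Y) (H : AbS X) (t : Spec (CommRingCat.of Ω) ⟶ T.left)
    (z : Spec (CommRingCat.of Ω) ⟶ ((Over.pullback f).obj T).left)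
    (hz : z ≫ fT f T = t) :
    (EtCoh.stalk t).obj ((res (jT f T)).obj H) ⟶
      (EtCoh.stalk z).obj ((res (uT ((Over.pullback f).obj T))).obj H) :=
  sigma (fT f T) (jT f T) (uT ((Over.pullback f).obj T)) (nuT f T) t z hz H

section Fin

variable [IsFinite f]

lemma sigT_injective (T : Over Y) (H : AbS X) (t : Spec (CommRingCat.of Ω) ⟶ T.left)
    (x : (EtCoh.stalk t).obj ((res (jT f T)).obj H))
    (hx : ∀ (z : Spec (CommRingCat.of Ω) ⟶ ((Over.pullback f).obj T).left)
      (hz : z ≫ fT f T = t), sigT f T H t z hz x = 0) : x = 0 := by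
  have hiso : Function.Bijective ((EtCoh.stalk t).map
      ((rho (fT f T) (jT f T) (uT ((Over.pullback f).obj T)) (nuT f T)).app H)) :=
    (ConcreteCategory.isIso_iff_bijective _).1 inferInstance
  apply hiso.1
  rw [map_zero]
  apply phi_injective (fT f T) t _ inferInstance
  intro z hz
  exact hx z hz

lemma sigT_surjective (T : Over Y) (H : AbS X) (t : Spec (CommRingCat.of Ω) ⟶ T.left)
    (b : ∀ (z : Spec (CommRingCat.of Ω) ⟶ ((Over.pullback f).obj T).left)
      (_ : z ≫ fT f T = t),
      (EtCoh.stalk z).obj ((res (uT ((Over.pullback f).obj T))).obj H)) :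
    ∃ x : (EtCoh.stalk t).obj ((res (jT f T)).obj H),
      ∀ (z : Spec (CommRingCat.of Ω) ⟶ ((Over.pullback f).obj T).left)
        (hz : z ≫ fT f T = t), sigT f T H t z hz x = b z hz := by
  classical
  have hiso : Function.Bijective ((EtCoh.stalk t).map
      ((rho (fT f T) (jT f T) (uT ((Over.pullback f).obj T)) (nuT f T)).app H)) :=
    (ConcreteCategory.isIso_iff_bijective _).1 inferInstance
  haveI : Finite {ξ : Spec (CommRingCat.of Ω) ⟶ ((Over.pullback f).obj T).left //
      ξ ≫ fT f T = t} := H9FE.FinGeoPt.finite_lifts (fT f T) t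
  haveI : Fintype {ξ : Spec (CommRingCat.of Ω) ⟶ ((Over.pullback f).obj T).left //
      ξ ≫ fT f T = t} := Fintype.ofFinite _
  have hex := fun ξ : {ξ : Spec (CommRingCat.of Ω) ⟶ ((Over.pullback f).obj T).left //
      ξ ≫ fT f T = t} =>
    phi_surj_single (fT f T) t ((res (uT ((Over.pullback f).obj T))).obj H)
      ξ.1 ξ.2 (b ξ.1 ξ.2)
  choose a ha1 ha2 using hex
  obtain ⟨x, hx⟩ := hiso.2 (∑ ξ, a ξ)
  refine ⟨x, fun z hz => ?_⟩
  change phi (fT f T) t _ z hz ((EtCoh.stalk t).map _ x) = _
  refine (congrArg (phi (fT f T) t ((res (uT ((Over.pullback f).obj T))).obj H) z hz) hx).trans ?_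
  rw [map_sum, Finset.sum_eq_single ⟨z, hz⟩]
  · exact ha1 ⟨z, hz⟩
  · intro ξ _ hne
    exact ha2 ξ z hz (fun h => hne (Subtype.ext h).symm)
  · intro h
    exact absurd (Finset.mem_univ _) h

end Fin

section Square

variable {T T' : Over Y} (h : T' ⟶ T)

/-- the base change of `h` to `X` -/
noncomputable abbrev hX : (Over.pullback f).obj T' ⟶ (Over.pullback f).obj T :=
  (Over.pullback f).map h

/-- the whiskered projection -/
noncomputable def nuW : EtCoh.bc h.left ⋙ jT f T' ⟶ jT f T :=
  Functor.whiskerRight (nuOver h) (Over.pullback f)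

@[reassoc]
lemma hX_fT : (hX f h).left ≫ fT f T = fT f T' ≫ h.left := pb_map_fst f h

@[reassoc]
lemma hX_snd : (hX f h).left ≫ pullback.snd T.hom f = pullback.snd T'.hom f := pb_map_snd f h

/-- the common composite transformation -/
noncomputable def nu3 :
    EtCoh.bc ((hX f h).left ≫ fT f T) ⋙ uT ((Over.pullback f).obj T') ⟶ jT f T :=
  muK (fT f T) (hX f h).left ((hX f h).left ≫ fT f T) rfl (uT ((Over.pullback f).obj T))
    (uT ((Over.pullback f).obj T')) (nuOver (hX f h)) ≫ nuT f T

lemma square {z' : Spec (CommRingCat.of Ω) ⟶ ((Over.pullback f).obj T').left}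
    {z : Spec (CommRingCat.of Ω) ⟶ ((Over.pullback f).obj T).left}
    (hz : z' ≫ (hX f h).left = z) {t : Spec (CommRingCat.of Ω) ⟶ T.left}
    {t' : Spec (CommRingCat.of Ω) ⟶ T'.left} (hzt : z ≫ fT f T = t) (hzt' : z' ≫ fT f T' = t')
    (ht : t' ≫ h.left = t) (H : AbS X) :
    sigma h.left (jT f T) (jT f T') (nuW f h) t t' ht H ≫ sigT f T' H t' z' hzt' =
      sigT f T H t z hzt ≫ sigma (hX f h).left (uT ((Over.pullback f).obj T))
        (uT ((Over.pullback f).obj T')) (nuOver (hX f h)) z z' hz H := by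
  have e : fT f T' ≫ h.left = (hX f h).left ≫ fT f T := (hX_fT f h).symm
  have hz3 : z' ≫ ((hX f h).left ≫ fT f T) = t := by
    rw [← Category.assoc, hz, hzt]
  have R := sigma_comp (fT f T) (hX f h).left ((hX f h).left ≫ fT f T) rfl (jT f T)
    (uT ((Over.pullback f).obj T)) (uT ((Over.pullback f).obj T')) (nuT f T) (nuOver (hX f h))
    (nu3 f h) (fun W => (Category.assoc _ _ _).symm) hzt hz hz3 H
  have L := sigma_comp h.left (fT f T') ((hX f h).left ≫ fT f T) e (jT f T) (jT f T')
    (uT ((Over.pullback f).obj T')) (nuW f h) (nuT f T') (nu3 f h) (fun W => ?_) ht hzt' hz3 H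
  · exact L.trans R.symm
  · apply Over.OverMorphism.ext
    change (kappa h.left (fT f T') ((hX f h).left ≫ fT f T) e W).left ≫
        nuTl f T' ((EtCoh.bc h.left).obj W) ≫
          ((Over.pullback f).map ((nuOver h).app W)).left =
      ((kappa (fT f T) (hX f h).left ((hX f h).left ≫ fT f T) rfl W).left ≫
        pullback.fst ((EtCoh.bc (fT f T)).obj W).hom (hX f h).left) ≫ nuTl f T W
    have p1 := pb_map_fst f ((nuOver h).app W)
    have p2 := pb_map_snd f ((nuOver h).app W)
    change _ = _ ≫ pullback.fst W.hom h.left at p1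
    have n1' : nuTl f T' ((EtCoh.bc h.left).obj W) ≫
        pullback.fst ((EtCoh.bc h.left ⋙ uT T').obj W).hom f =
          pullback.fst ((EtCoh.bc h.left).obj W).hom (fT f T') :=
      nuTl_fst f T' ((EtCoh.bc h.left).obj W)
    have n2' : nuTl f T' ((EtCoh.bc h.left).obj W) ≫
        pullback.snd ((EtCoh.bc h.left ⋙ uT T').obj W).hom f =
          pullback.snd ((EtCoh.bc h.left).obj W).hom (fT f T') ≫ pullback.snd T'.hom f :=
      nuTl_snd f T' ((EtCoh.bc h.left).obj W)
    have n1 : nuTl f T W ≫ pullback.fst ((uT T).obj W).hom f = pullback.fst W.hom (fT f T) :=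
      nuTl_fst f T W
    have n2 : nuTl f T W ≫ pullback.snd ((uT T).obj W).hom f =
        pullback.snd W.hom (fT f T) ≫ pullback.snd T.hom f := nuTl_snd f T W
    apply pullback.hom_ext
    · simp only [Category.assoc]
      have l1 : nuTl f T' ((EtCoh.bc h.left).obj W) ≫
          pullback.fst ((EtCoh.bc h.left ⋙ uT T').obj W).hom f ≫ pullback.fst W.hom h.left =
          pullback.fst ((EtCoh.bc h.left).obj W).hom (fT f T') ≫ pullback.fst W.hom h.left :=
        (Category.assoc _ _ _).symm.trans (congrArg (· ≫ pullback.fst W.hom h.left) n1')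
      rw [p1, l1, n1, kappa_ff, kappa_ff]
    · simp only [Category.assoc]
      rw [p2, n2', kappa_s_assoc, n2, kappa_fs_assoc, hX_snd]

lemma exists_lift_pt (t' : Spec (CommRingCat.of Ω) ⟶ T'.left)
    (z : Spec (CommRingCat.of Ω) ⟶ ((Over.pullback f).obj T).left)
    (hz : z ≫ fT f T = t' ≫ h.left) :
    ∃ z' : Spec (CommRingCat.of Ω) ⟶ ((Over.pullback f).obj T').left,
      z' ≫ (hX f h).left = z ∧ z' ≫ fT f T' = t' := by
  have c : t' ≫ T'.hom = (z ≫ pullback.snd T.hom f) ≫ f := by
    have w := Over.w h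
    have pc := pullback.condition (f := T.hom) (g := f)
    calc t' ≫ T'.hom = t' ≫ h.left ≫ T.hom := by rw [w]
      _ = (t' ≫ h.left) ≫ T.hom := (Category.assoc _ _ _).symm
      _ = (z ≫ fT f T) ≫ T.hom := by rw [hz]
      _ = z ≫ pullback.fst T.hom f ≫ T.hom := Category.assoc _ _ _
      _ = z ≫ pullback.snd T.hom f ≫ f := by rw [pc]
      _ = _ := (Category.assoc _ _ _).symm
  let z' : Spec (CommRingCat.of Ω) ⟶ ((Over.pullback f).obj T').left :=
    pullback.lift t' (z ≫ pullback.snd T.hom f) c
  have hz1 : z' ≫ fT f T' = t' := pullback.lift_fst _ _ _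
  have hz2 : z' ≫ pullback.snd T'.hom f = z ≫ pullback.snd T.hom f := pullback.lift_snd _ _ _
  refine ⟨z', ?_, hz1⟩
  refine pullback.hom_ext (f := T.hom) (g := f) ?_ ?_
  · calc (z' ≫ (hX f h).left) ≫ pullback.fst T.hom f
        = z' ≫ (hX f h).left ≫ fT f T := Category.assoc _ _ _
      _ = z' ≫ fT f T' ≫ h.left := by rw [hX_fT]
      _ = (z' ≫ fT f T') ≫ h.left := (Category.assoc _ _ _).symm
      _ = t' ≫ h.left := by rw [hz1]
      _ = _ := hz.symm
  · calc (z' ≫ (hX f h).left) ≫ pullback.snd T.hom f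
        = z' ≫ (hX f h).left ≫ pullback.snd T.hom f := Category.assoc _ _ _
      _ = z' ≫ pullback.snd T'.hom f := by rw [hX_snd]
      _ = _ := hz2

lemma lift_pt_unique (z₁ z₂ : Spec (CommRingCat.of Ω) ⟶ ((Over.pullback f).obj T').left)
    (h1 : z₁ ≫ (hX f h).left = z₂ ≫ (hX f h).left) (h2 : z₁ ≫ fT f T' = z₂ ≫ fT f T') :
    z₁ = z₂ := by
  refine pullback.hom_ext (f := T'.hom) (g := f) h2 ?_
  calc z₁ ≫ pullback.snd T'.hom f = z₁ ≫ (hX f h).left ≫ pullback.snd T.hom f := by rw [hX_snd]
    _ = (z₁ ≫ (hX f h).left) ≫ pullback.snd T.hom f := (Category.assoc _ _ _).symm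
    _ = (z₂ ≫ (hX f h).left) ≫ pullback.snd T.hom f := by rw [h1]
    _ = z₂ ≫ (hX f h).left ≫ pullback.snd T.hom f := Category.assoc _ _ _
    _ = _ := by rw [hX_snd]

end Square

section Main

variable [IsFinite f]

/-- **finite pushforward preserves stalk-cartesian sheaves** -/
theorem stalkCart_pushBig (H : AbS X) (hH : StalkCart H) :
    StalkCart ((BigSite.pushBig Scheme.etalePrecoverage f AddCommGrpCat.{u + 1}).obj H) := by
  intro T T' h Ω _ _ t'
  rw [ConcreteCategory.isIso_iff_bijective]
  change Function.Bijective (sigma h.left (jT f T) (jT f T') (nuW f h) (t' ≫ h.left) t' rfl H)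
  have key : ∀ (z : Spec (CommRingCat.of Ω) ⟶ ((Over.pullback f).obj T).left)
      (hz : z ≫ fT f T = t' ≫ h.left),
      ∃ z' : Spec (CommRingCat.of Ω) ⟶ ((Over.pullback f).obj T').left,
        z' ≫ (hX f h).left = z ∧ z' ≫ fT f T' = t' := fun z hz => exists_lift_pt f h t' z hz
  choose zp hzp1 hzp2 using key
  constructor
  · rw [injective_iff_map_eq_zero]
    intro x hx
    apply sigT_injective f T H (t' ≫ h.left) x
    intro z hz
    have sq := square f h (hzp1 z hz) hz (hzp2 z hz) rfl H
    have sq' := ConcreteCategory.congr_hom sq x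
    simp only [ConcreteCategory.comp_apply] at sq'
    rw [hx, map_zero] at sq'
    exact (bij_of_stalkCart H hH (hX f h) z (zp z hz) (hzp1 z hz)).1
      (sq'.symm.trans (map_zero _).symm)
  · intro y
    have hb : ∀ (z : Spec (CommRingCat.of Ω) ⟶ ((Over.pullback f).obj T).left)
        (hz : z ≫ fT f T = t' ≫ h.left),
        ∃ b, sigma (hX f h).left (uT ((Over.pullback f).obj T)) (uT ((Over.pullback f).obj T'))
          (nuOver (hX f h)) z (zp z hz) (hzp1 z hz) H b =
            sigT f T' H t' (zp z hz) (hzp2 z hz) y :=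
      fun z hz => (bij_of_stalkCart H hH (hX f h) z (zp z hz) (hzp1 z hz)).2 _
    choose b hb using hb
    obtain ⟨x, hx⟩ := sigT_surjective f T H (t' ≫ h.left) b
    refine ⟨x, ?_⟩
    rw [← sub_eq_zero]
    apply sigT_injective f T' H t'
    intro w' hw'
    have hz : (w' ≫ (hX f h).left) ≫ fT f T = t' ≫ h.left := by
      rw [Category.assoc, hX_fT, ← Category.assoc, hw']
    have e : zp (w' ≫ (hX f h).left) hz = w' :=
      lift_pt_unique f h _ _ (hzp1 _ hz) ((hzp2 _ hz).trans hw'.symm)
    have gen : ∀ (w : Spec (CommRingCat.of Ω) ⟶ ((Over.pullback f).obj T').left)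
        (hw : w ≫ fT f T' = t'), w = w' →
        sigT f T' H t' w hw (sigma h.left (jT f T) (jT f T') (nuW f h) (t' ≫ h.left) t' rfl H x
          - y) = 0 →
        sigT f T' H t' w' hw' (sigma h.left (jT f T) (jT f T') (nuW f h) (t' ≫ h.left) t' rfl H x
          - y) = 0 := by
      intro w hw ew
      subst ew
      exact id
    apply gen _ (hzp2 _ hz) e
    have sq := square f h (hzp1 _ hz) hz (hzp2 _ hz) rfl H
    have sq' := ConcreteCategory.congr_hom sq x
    simp only [ConcreteCategory.comp_apply] at sq'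
    rw [map_sub, sub_eq_zero, sq', hx]
    exact hb _ hz

end Main

end Groth.Agent.Helper3.FE9
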