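import Mathlib
import Groth.Agent.Lib.Helper3.FE8
import Groth.Agent.Lib.Helper3.FE9
import Groth.Agent.S6686
import Groth.Agent.S3054

/-!
# Higher direct images of finite morphisms on the big étale site vanish; `R^i f_{big,*}`
preserves stalk-cartesian sheaves (helper3)
-/

set_option autoImplicit false
universe u
open CategoryTheory CategoryTheory.Limits AlgebraicGeometry Opposite

namespace Groth.Agent.Helper3.FE10

set_option backward.isDefEq.respectTransparency false
set_option linter.style.haveILetI false
set_option linter.unusedSectionVars false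

open Groth.Agent.Lib.Helper5 Groth.Agent.S0072.Aux Groth.Agent.Helper3.FE1 Groth.Agent.Helper3.FE2
  Groth.Agent.Helper3.FE3 Groth.Agent.Helper3.FE5 Groth.Agent.Helper3.FE8 Groth.Agent.Helper3.FE9

variable {S : Scheme.{u}}

/-- a big étale sheaf all of whose restrictions to small étale sites vanish is zero -/
lemma isZero_of_resEtAlong (K : AbS S)
    (hK : ∀ T : Over S, IsZero ((BigSite.resEtAlong Scheme.etalePrecoverage T.hom).obj K)) :
    IsZero K := by
  rw [IsZero.iff_id_eq_zero]
  apply Sheaf.hom_ext
  ext U : 2
  induction U using Opposite.rec with | _ T => ?_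
  have hz : IsZero ((res (uT T)).obj K) := (hK T).of_iso ((resIso T).app K).symm
  have hz' : IsZero (((res (uT T)).obj K).obj.obj (op (EtCoh.top T.left))) :=
    ((sheafToPresheaf _ _ ⋙ (evaluation _ _).obj (op (EtCoh.top T.left))).map_isZero hz)
  have hz'' : IsZero (K.obj.obj (op T)) :=
    hz'.of_iso (K.obj.mapIso (topIso T).op)
  exact hz''.eq_of_src _ _

variable {X Y : Scheme.{u}} (f : X ⟶ Y) [IsFinite f]

/-- `R^i f_{big,*} = 0` for `f` finite and `i > 0` -/
theorem isZero_RpushBig (H : AbS X) (i : ℕ) (hi : 0 < i) :
    IsZero ((BigSite.RpushBig Scheme.etalePrecoverage f i).obj H) := by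
  apply isZero_of_resEtAlong
  intro T
  obtain ⟨e⟩ := Groth.Agent.S6686.result f T.hom (pullback.fst f T.hom) (pullback.snd f T.hom)
    (IsPullback.of_hasPullback f T.hom) H i
  exact (Groth.Agent.S3054.result (pullback.snd f T.hom) _ i hi).of_iso e

/-- `R^i f_{big,*}` preserves stalk-cartesian sheaves for `f` finite -/
theorem stalkCart_RpushBig (H : AbS X) (hH : StalkCart H) (i : ℕ) :
    StalkCart ((BigSite.RpushBig Scheme.etalePrecoverage f i).obj H) := by
  rcases Nat.eq_zero_or_pos i with rfl | hi
  · haveI : PreservesFiniteLimits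
        (BigSite.pushBig Scheme.etalePrecoverage f AddCommGrpCat.{u + 1}) :=
      pfl_of_adj (BigSite.bigAdj Scheme.etalePrecoverage f AddCommGrpCat.{u + 1})
    exact (stalkCartProp Y).prop_of_iso
      (((BigSite.pushBig Scheme.etalePrecoverage f
        AddCommGrpCat.{u + 1}).rightDerivedZeroIsoSelf).app H).symm
      (stalkCart_pushBig f H hH)
  · exact (stalkCartProp Y).prop_of_isZero (isZero_RpushBig f H i hi)

end Groth.Agent.Helper3.FE10
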