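import Mathlib
import Groth.Agent.Lib.Helper3.FE8

/-!
# Pullback along a morphism of base schemes preserves stalk-cartesian sheaves (helper3)
-/

set_option autoImplicit false
universe u
open CategoryTheory CategoryTheory.Limits AlgebraicGeometry Opposite

namespace Groth.Agent.Helper3.FE11

set_option backward.isDefEq.respectTransparency false
set_option linter.style.haveILetI false
set_option linter.unusedSectionVars false

open Groth.Agent.Lib.Helper5 Groth.Agent.S0072.Aux Groth.Agent.Helper3.FE1 Groth.Agent.Helper3.FE2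
  Groth.Agent.Helper3.FE8

section NatJ

variable {S : Scheme.{u}} {T T' : Scheme.{u}} (h : T' ⟶ T) (j₁ j₂ : T.Etale ⥤ Over S)
  (j₁' j₂' : T'.Etale ⥤ Over S)
  [j₁.IsContinuous T.smallEtaleTopology (JS S)] [j₂.IsContinuous T.smallEtaleTopology (JS S)]
  [j₁'.IsContinuous T'.smallEtaleTopology (JS S)] [j₂'.IsContinuous T'.smallEtaleTopology (JS S)]
  (ν₁ : EtCoh.bc h ⋙ j₁' ⟶ j₁) (ν₂ : EtCoh.bc h ⋙ j₂' ⟶ j₂) (θ : j₂ ⟶ j₁) (θ' : j₂' ⟶ j₁')

/-- the map on restrictions induced by a natural transformation -/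
noncomputable abbrev resMap {T : Scheme.{u}} {j₁ j₂ : T.Etale ⥤ Over S}
    [j₁.IsContinuous T.smallEtaleTopology (JS S)] [j₂.IsContinuous T.smallEtaleTopology (JS S)]
    (θ : j₂ ⟶ j₁) : res j₁ ⟶ res j₂ :=
  Functor.sheafPushforwardContinuousNatTrans θ AddCommGrpCat.{u + 1} T.smallEtaleTopology (JS S)

lemma resMap_app_app {T : Scheme.{u}} {j₁ j₂ : T.Etale ⥤ Over S}
    [j₁.IsContinuous T.smallEtaleTopology (JS S)] [j₂.IsContinuous T.smallEtaleTopology (JS S)]
    (θ : j₂ ⟶ j₁) (G : AbS S) (W : T.Etale) :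
    ((resMap θ).app G).hom.app (op W) = G.obj.map (θ.app W).op := rfl

variable {Ω : Type u} [Field Ω] [IsSepClosed Ω]

/-- naturality of the stalk maps in the functors -/
lemma sigma_natural_j
    (hθ : ∀ W : T.Etale, θ'.app ((EtCoh.bc h).obj W) ≫ ν₁.app W = ν₂.app W ≫ θ.app W)
    (t : Spec (CommRingCat.of Ω) ⟶ T) (t' : Spec (CommRingCat.of Ω) ⟶ T')
    (ht : t' ≫ h = t) (G : AbS S) :
    sigma h j₁ j₁' ν₁ t t' ht G ≫ (EtCoh.stalk t').map ((resMap θ').app G) =
      (EtCoh.stalk t).map ((resMap θ).app G) ≫ sigma h j₂ j₂' ν₂ t t' ht G := by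
  apply (Scheme.pointSmallEtale t).presheafFiber_hom_ext
  intro W w
  change (Scheme.pointSmallEtale t).toPresheafFiber W w ((res j₁).obj G).obj ≫
      sigma h j₁ j₁' ν₁ t t' ht G ≫
        (Scheme.pointSmallEtale t').presheafFiber.map ((resMap θ').app G).hom =
    (Scheme.pointSmallEtale t).toPresheafFiber W w ((res j₁).obj G).obj ≫
      (Scheme.pointSmallEtale t).presheafFiber.map ((resMap θ).app G).hom ≫
        sigma h j₂ j₂' ν₂ t t' ht G
  have A1 := (Scheme.pointSmallEtale t).toPresheafFiber_naturality ((resMap θ).app G).hom W w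
  have A2 := toPF_sigma h j₂ j₂' ν₂ t t' ht G W w
  have A3 := toPF_sigma h j₁ j₁' ν₁ t t' ht G W w
  have A4 := (Scheme.pointSmallEtale t').toPresheafFiber_naturality ((resMap θ').app G).hom
    ((EtCoh.bc h).obj W) (liftPt h t t' ht W w)
  rw [reassoc_of% A1, A2, reassoc_of% A3, A4]
  change G.obj.map (ν₁.app W).op ≫ G.obj.map (θ'.app ((EtCoh.bc h).obj W)).op ≫ _ =
    G.obj.map (θ.app W).op ≫ G.obj.map (ν₂.app W).op ≫ _
  rw [← Category.assoc, ← Category.assoc, ← G.obj.map_comp, ← G.obj.map_comp, ← op_comp,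
    ← op_comp, hθ W]

end NatJ

section Pull

variable {S₁ S₂ : Scheme.{u}} (g : S₁ ⟶ S₂)

/-- the comparison of the two inclusions of the small étale site of an `S₁`-scheme into the big
site of `S₂` -/
noncomputable def thetaIso (T : Over S₁) :
    uT ((Over.map g).obj T) ≅ uT T ⋙ Over.map g :=
  NatIso.ofComponents (fun W => Over.isoMk (Iso.refl _) (by
    change 𝟙 _ ≫ (W.hom ≫ T.hom) ≫ g = W.hom ≫ T.hom ≫ g
    rw [Category.id_comp, Category.assoc])) (by
    intro W W' k
    apply Over.OverMorphism.ext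
    change k.left ≫ 𝟙 _ = 𝟙 _ ≫ k.left
    rw [Category.comp_id, Category.id_comp])

instance (T : Over S₁) : (uT T ⋙ Over.map g).IsContinuous T.left.smallEtaleTopology (JS S₂) :=
  Functor.isContinuous_comp (uT T) (Over.map g) T.left.smallEtaleTopology (JS S₁) (JS S₂)

/-- `uT` of the image of `T` in `Over S₂`, typed over `T.left` -/
noncomputable abbrev uT' (T : Over S₁) : T.left.Etale ⥤ Over S₂ := uT ((Over.map g).obj T)

instance (T : Over S₁) : (uT' g T).IsContinuous T.left.smallEtaleTopology (JS S₂) :=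
  inferInstanceAs ((uT ((Over.map g).obj T)).IsContinuous
    ((Over.map g).obj T).left.smallEtaleTopology (JS S₂))

/-- the comparison of the two inclusions, typed over `T.left` -/
noncomputable abbrev thetaIso' (T : Over S₁) : uT' g T ≅ uT T ⋙ Over.map g := thetaIso g T

variable {Ω : Type u} [Field Ω] [IsAlgClosed Ω]

/-- **pullback along a morphism of base schemes preserves stalk-cartesian sheaves** -/
theorem stalkCart_pullBig (G : AbS S₂) (hG : StalkCart G) :
    StalkCart ((BigSite.pullBig Scheme.etalePrecoverage g AddCommGrpCat.{u + 1}).obj G) := by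
  intro T T' h Ω _ _ t'
  change IsIso (sigma h.left (uT T ⋙ Over.map g) (uT T' ⋙ Over.map g)
    (Functor.whiskerRight (nuOver h) (Over.map g)) (t' ≫ h.left) t' rfl G)
  have key := sigma_natural_j h.left (uT T ⋙ Over.map g) (uT' g T)
    (uT T' ⋙ Over.map g) (uT' g T')
    (Functor.whiskerRight (nuOver h) (Over.map g)) (nuOver ((Over.map g).map h))
    (thetaIso' g T).hom (thetaIso' g T').hom (fun W => by
      apply Over.OverMorphism.ext
      change 𝟙 _ ≫ pullback.fst W.hom h.left = pullback.fst W.hom h.left ≫ 𝟙 _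
      rw [Category.id_comp, Category.comp_id]) (t' ≫ h.left) t' rfl G
  haveI : IsIso (sigma h.left (uT' g T) (uT' g T') (nuOver ((Over.map g).map h))
      (t' ≫ h.left) t' rfl G) :=
    hG ((Over.map g).obj T) ((Over.map g).obj T') ((Over.map g).map h) Ω t'
  haveI : IsIso ((resMap (thetaIso' g T).hom).app G) :=
    inferInstanceAs (IsIso ((Functor.sheafPushforwardContinuousIso (thetaIso' g T).symm
      AddCommGrpCat.{u + 1} T.left.smallEtaleTopology (JS S₂)).hom.app G))
  haveI : IsIso ((resMap (thetaIso' g T').hom).app G) :=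
    inferInstanceAs (IsIso ((Functor.sheafPushforwardContinuousIso (thetaIso' g T').symm
      AddCommGrpCat.{u + 1} T'.left.smallEtaleTopology (JS S₂)).hom.app G))
  have e : sigma h.left (uT T ⋙ Over.map g) (uT T' ⋙ Over.map g)
      (Functor.whiskerRight (nuOver h) (Over.map g)) (t' ≫ h.left) t' rfl G =
      ((EtCoh.stalk (t' ≫ h.left)).map ((resMap (thetaIso' g T).hom).app G) ≫
        sigma h.left (uT' g T) (uT' g T') (nuOver ((Over.map g).map h))
          (t' ≫ h.left) t' rfl G) ≫
        inv ((EtCoh.stalk t').map ((resMap (thetaIso' g T').hom).app G)) := by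
    rw [← key, Category.assoc, IsIso.hom_inv_id, Category.comp_id]
  rw [e]
  infer_instance

end Pull

end Groth.Agent.Helper3.FE11
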