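import Mathlib
import Groth.Agent.Lib.Helper3.FE1

/-!
# Transport of big sites of schemes to the small-category model `ULiftHom Scheme` (helper3)
-/

set_option autoImplicit false
universe u
open CategoryTheory CategoryTheory.Limits AlgebraicGeometry Opposite

namespace Groth.Agent.Helper3.FE12

set_option backward.isDefEq.respectTransparency false
set_option linter.style.haveILetI false
set_option linter.unusedSectionVars false

/-- the category of schemes with lifted hom-sets: a small category in the universe `u + 1` -/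
abbrev C : Type (u + 1) := ULiftHom.{u + 1} Scheme.{u}

/-- the equivalence `Scheme ≌ C` -/
abbrev E : Scheme.{u} ≌ C.{u} := ULiftHom.equiv

/-- `Scheme ⥤ C` -/
abbrev up : Scheme.{u} ⥤ C.{u} := ULiftHom.up

/-- `C ⥤ Scheme` -/
abbrev dn : C.{u} ⥤ Scheme.{u} := ULiftHom.down

/-- the transported topology -/
noncomputable def JC (J : GrothendieckTopology Scheme.{u}) : GrothendieckTopology C.{u} :=
  E.inverse.inducedTopology J

instance (J : GrothendieckTopology Scheme.{u}) : (E.{u}).functor.IsDenseSubsite J (JC J) :=
  inferInstanceAs ((E.{u}).functor.IsDenseSubsite J ((E.{u}).inverse.inducedTopology J))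

instance (J : GrothendieckTopology Scheme.{u}) : (E.{u}).inverse.IsDenseSubsite (JC J) J :=
  inferInstanceAs ((E.{u}).inverse.IsDenseSubsite ((E.{u}).inverse.inducedTopology J) J)

lemma mem_JC_iff (J : GrothendieckTopology Scheme.{u}) {X : C.{u}} (R : Sieve X) :
    R ∈ JC J X ↔ R.functorPushforward dn ∈ J (dn.obj X) :=
  Functor.mem_inducedTopology_iff_of_isCoverDense (E.{u}).inverse J R

lemma JC_mono {J J' : GrothendieckTopology Scheme.{u}} (h : J' ≤ J) : JC J' ≤ JC J :=
  fun _ R hR => (mem_JC_iff J R).2 (h _ ((mem_JC_iff J' R).1 hR))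

/-- the equivalence of over categories -/
noncomputable def eX (X : C.{u}) : Over (dn.obj X) ≌ Over X := Over.postEquiv (dn.obj X) E

variable (J : GrothendieckTopology Scheme.{u}) (X : C.{u})

instance : (eX X).functor.IsCocontinuous (J.over (dn.obj X)) ((JC J).over X) :=
  inferInstanceAs ((Over.post (X := dn.obj X) (E.{u}).functor).IsCocontinuous
    (J.over (dn.obj X)) ((JC J).over ((E.{u}).functor.obj (dn.obj X))))

instance : (eX X).inverse.IsCocontinuous ((JC J).over X) (J.over (dn.obj X)) :=
  haveI h1 : (Over.post (X := (E.{u}).functor.obj (dn.obj X)) (E.{u}).inverse).IsCocontinuous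
      ((JC J).over ((E.{u}).functor.obj (dn.obj X)))
      (J.over ((E.{u}).inverse.obj ((E.{u}).functor.obj (dn.obj X)))) := inferInstance
  haveI h2 : (Over.map ((E.{u}).unitIso.inv.app (dn.obj X))).IsCocontinuous (J.over _) (J.over _) :=
    inferInstance
  @isCocontinuous_comp _ _ _ _ _ _
    (Over.post (X := (E.{u}).functor.obj (dn.obj X)) (E.{u}).inverse)
    (Over.map ((E.{u}).unitIso.inv.app (dn.obj X)))
    ((JC J).over ((E.{u}).functor.obj (dn.obj X)))
    (J.over ((E.{u}).inverse.obj ((E.{u}).functor.obj (dn.obj X)))) (J.over (dn.obj X)) h1 h2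

instance : (eX X).inverse.IsDenseSubsite ((JC J).over X) (J.over (dn.obj X)) :=
  Equivalence.isDenseSubsite_inverse_of_isCocontinuous (J.over (dn.obj X)) ((JC J).over X) (eX X)

/-- the equivalence of sheaf categories -/
noncomputable def shEq : Sheaf (J.over (dn.obj X)) AddCommGrpCat.{u + 1} ≌
    Sheaf ((JC J).over X) AddCommGrpCat.{u + 1} :=
  (eX X).sheafCongr (J.over (dn.obj X)) ((JC J).over X) AddCommGrpCat.{u + 1}

/-- the transport functor from sheaves on the model to sheaves on the big site of schemes -/
noncomputable abbrev tr : Sheaf ((JC J).over X) AddCommGrpCat.{u + 1} ⥤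
    Sheaf (J.over (dn.obj X)) AddCommGrpCat.{u + 1} := (shEq J X).inverse

end Groth.Agent.Helper3.FE12
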