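import Mathlib
import Groth.Prelude.Def_SiteCmp
import Groth.Prelude.Def_CohSite
import Groth.Agent.Lib.Helper3.FE12
import Groth.Agent.Lib.Helper5.Misc.RDComp

/-!
# Transport: compatibilities of the transport functors (helper3)
-/

set_option autoImplicit false
universe u
open CategoryTheory CategoryTheory.Limits AlgebraicGeometry Opposite

namespace Groth.Agent.Helper3.FE13

set_option backward.isDefEq.respectTransparency false
set_option linter.style.haveILetI false
set_option linter.unusedSectionVars false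

open Groth.Agent.Helper3.FE12

variable (J J' : GrothendieckTopology Scheme.{u}) (X : C.{u})

instance : (tr J X).IsEquivalence := inferInstanceAs (shEq J X).inverse.IsEquivalence

instance : (tr J X).Additive where

section Eps

/-- the identity functor is continuous from a coarser to a finer topology -/
theorem idCont {D : Type*} [Category D] {K K' : GrothendieckTopology D} (h : K' ≤ K) :
    (𝟭 D).IsContinuous K' K where
  op_comp_isSheaf_of_types G :=
    Presieve.isSheaf_of_le _ h ((isSheaf_iff_isSheaf_of_type _ _).1 G.2)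

theorem over_le' {D : Type*} [Category D] {K K' : GrothendieckTopology D} (h : K' ≤ K) (X : D) :
    K'.over X ≤ K.over X := by
  intro Y S hS
  rw [GrothendieckTopology.mem_over_iff] at hS ⊢
  exact h _ hS

variable {J J'} (h : J' ≤ J)

/-- `ε_*` on the big site of schemes for two comparable topologies -/
noncomputable abbrev epsSch (S : Scheme.{u}) :
    Sheaf (J.over S) AddCommGrpCat.{u + 1} ⥤ Sheaf (J'.over S) AddCommGrpCat.{u + 1} :=
  haveI := idCont (over_le' h S)
  (𝟭 (Over S)).sheafPushforwardContinuous AddCommGrpCat.{u + 1} (J'.over S) (J.over S)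

/-- `ε_*` on the model -/
noncomputable abbrev epsC :
    Sheaf ((JC J).over X) AddCommGrpCat.{u + 1} ⥤ Sheaf ((JC J').over X) AddCommGrpCat.{u + 1} :=
  SiteCmp.epsSh (SiteCmp.over_le (JC_mono h) X) AddCommGrpCat.{u + 1}

/-- transport commutes with `ε_*` -/
noncomputable def epsIso : epsC X h ⋙ tr J' X ≅ tr J X ⋙ epsSch h (dn.obj X) :=
  NatIso.ofComponents (fun F => Iso.refl _) (by
    intro F G φ
    rfl)

end Eps

section Pull

variable {X} {Y : C.{u}} (f : X ⟶ Y)

/-- transport commutes with restriction along a morphism -/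
noncomputable def pullIso :
    CohSite.push ((JC J).over Y) ((JC J).over X) (Over.map f) ⋙ tr J X ≅
      tr J Y ⋙ J.overMapPullback AddCommGrpCat.{u + 1} (dn.map f) :=
  NatIso.ofComponents (fun F => Iso.refl _) (by
    intro F G φ
    rfl)

end Pull

section Push

variable {X} {Y : C.{u}} (f : X ⟶ Y)

/-- `f_*` on the model -/
noncomputable abbrev fD : Sheaf ((JC J).over X) AddCommGrpCat.{u + 1} ⥤
    Sheaf ((JC J).over Y) AddCommGrpCat.{u + 1} :=
  (Over.map f).sheafPushforwardCocontinuous AddCommGrpCat.{u + 1} ((JC J).over X) ((JC J).over Y)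

/-- `f_{big,*}` on schemes -/
noncomputable abbrev fS : Sheaf (J.over (dn.obj X)) AddCommGrpCat.{u + 1} ⥤
    Sheaf (J.over (dn.obj Y)) AddCommGrpCat.{u + 1} :=
  (Over.pullback (dn.map f)).sheafPushforwardContinuous AddCommGrpCat.{u + 1}
    (J.over (dn.obj Y)) (J.over (dn.obj X))

/-- the adjunction on the model -/
noncomputable abbrev adjD :
    CohSite.push ((JC J).over Y) ((JC J).over X) (Over.map f) ⊣ fD J f :=
  (Over.map f).sheafAdjunctionCocontinuous AddCommGrpCat.{u + 1} ((JC J).over X) ((JC J).over Y)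

/-- the adjunction on schemes -/
noncomputable abbrev adjS : J.overMapPullback AddCommGrpCat.{u + 1} (dn.map f) ⊣ fS J f :=
  (Over.mapPullbackAdj (dn.map f)).sheafPushforwardContinuous (J.over (dn.obj X))
    (J.over (dn.obj Y))

/-- comparison of the right adjoints -/
noncomputable def rightIso : (shEq J X).functor ⋙ fD J f ≅ fS J f ⋙ (shEq J Y).functor :=
  ((adjD J f).comp (shEq J X).symm.toAdjunction).rightAdjointUniq
    ((((shEq J Y).symm.toAdjunction).comp (adjS J f)).ofNatIsoLeft (pullIso J f).symm)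

/-- transport commutes with direct images -/
noncomputable def pushIso : fD J f ⋙ tr J Y ≅ tr J X ⋙ fS J f :=
  (Functor.leftUnitor _).symm ≪≫
    Functor.isoWhiskerRight (shEq J X).counitIso.symm (fD J f ⋙ tr J Y) ≪≫
    (Iso.refl _ : (tr J X ⋙ (shEq J X).functor) ⋙ fD J f ⋙ tr J Y ≅
      tr J X ⋙ ((shEq J X).functor ⋙ fD J f) ⋙ tr J Y) ≪≫
    Functor.isoWhiskerLeft (tr J X) (Functor.isoWhiskerRight (rightIso J f) (tr J Y)) ≪≫
    (Iso.refl _ : tr J X ⋙ (fS J f ⋙ (shEq J Y).functor) ⋙ tr J Y ≅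
      (tr J X ⋙ fS J f) ⋙ ((shEq J Y).functor ⋙ tr J Y)) ≪≫
    Functor.isoWhiskerLeft (tr J X ⋙ fS J f) (shEq J Y).unitIso.symm ≪≫
    Functor.rightUnitor _

end Push

section Derived

universe v₁ v₂ v₃ v₄ u₁ u₂ u₃ u₄

variable {𝒜 : Type u₁} [Category.{v₁} 𝒜] [Abelian 𝒜] [HasInjectiveResolutions 𝒜]
  {ℬ : Type u₂} [Category.{v₂} ℬ] [Abelian ℬ]
  {𝒜' : Type u₃} [Category.{v₃} 𝒜'] [Abelian 𝒜'] [HasInjectiveResolutions 𝒜']
  {ℬ' : Type u₄} [Category.{v₄} ℬ'] [Abelian ℬ']

/-- right derived functors commute with exact equivalences -/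
noncomputable def derivedTransport (F : 𝒜 ⥤ ℬ) (F' : 𝒜' ⥤ ℬ') (e₁ : 𝒜' ⥤ 𝒜) (e₂ : ℬ' ⥤ ℬ)
    [F.Additive] [F'.Additive] [e₁.Additive] [e₂.Additive] [e₁.IsEquivalence]
    [PreservesFiniteLimits e₂] [PreservesFiniteColimits e₂]
    (iso : F' ⋙ e₂ ≅ e₁ ⋙ F) (M : 𝒜') (n : ℕ) :
    e₂.obj ((F'.rightDerived n).obj M) ≅ (F.rightDerived n).obj (e₁.obj M) :=
  haveI : e₁.PreservesInjectiveObjects :=
    Functor.preservesInjectiveObjects_of_adjunction_of_preservesMonomorphisms
      e₁.asEquivalence.symm.toAdjunction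
  (Groth.Agent.Lib.Helper5.Misc.RDComp.postIso F' e₂ M n).symm ≪≫
    (Groth.Agent.Lib.Helper5.Misc.RDComp.natIso iso n).app M ≪≫
    Groth.Agent.Lib.Helper5.Misc.RDComp.preIso e₁ F M n

end Derived

end Groth.Agent.Helper3.FE13
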