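import Mathlib
import Groth.Agent.Lib.Lead.CMPt2
import Groth.Agent.Lib.Helper2.Lqf.MultiSplit

/-!
# fppf covers are refined étale-locally by finite locally free covers
-/

set_option autoImplicit false
universe u
open AlgebraicGeometry CategoryTheory Limits

namespace Groth.Agent.Helper3.FppfFin1

/-- Let `g : S₁ ⟶ S` be flat, locally of finite presentation, and `x₀ : S₁`. There are an étale
neighbourhood `e : S' ⟶ S` of `g x₀` and a surjective finite flat finitely presented `π : V ⟶ S'`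
together with `r : V ⟶ S₁` such that `r ≫ g = π ≫ e`. -/
theorem exists_finite_flat_refinement {S₁ S : Scheme.{u}} (g : S₁ ⟶ S) [Flat g]
    [LocallyOfFinitePresentation g] (x₀ : S₁) :
    ∃ (S' V : Scheme.{u}) (e : S' ⟶ S) (π : V ⟶ S') (r : V ⟶ S₁), Etale e ∧
      g x₀ ∈ Set.range ⇑e ∧ Surjective π ∧ IsFinite π ∧ Flat π ∧ LocallyOfFinitePresentation π ∧
      r ≫ g = π ≫ e := by
  obtain ⟨Z, h, hZ, hfl, hfp, hqf, ⟨z, hz⟩⟩ := Groth.Agent.Lead.CMPt.exists_affine_slice g x₀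
  obtain ⟨f, hf⟩ : ∃ f : Z ⟶ S, f = h ≫ g := ⟨_, rfl⟩
  rw [← hf] at hfl hfp hqf hz
  haveI : IsSeparated f := by
    haveI : IsSeparated (f ≫ terminal.from S) := by
      have : f ≫ terminal.from S = terminal.from Z := Subsingleton.elim _ _
      rw [this]
      infer_instance
    exact IsSeparated.of_comp f (terminal.from S)
  haveI : LocallyOfFiniteType f := inferInstance
  obtain ⟨U, e, u, he, heu, -, V, hVc, hVfin, v, hvV, hv1, hv2, -⟩ :=
    Groth.Agent.Helper2.Lqf.exists_onePt f z (Scheme.Hom.quasiFiniteAt f z)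
  obtain ⟨π₀, hπ₀⟩ : ∃ π₀ : (V : Scheme.{u}) ⟶ U, π₀ = V.ι ≫ pullback.snd f e := ⟨_, rfl⟩
  rw [← hπ₀] at hVfin
  haveI : Flat π₀ := by rw [hπ₀]; infer_instance
  haveI : LocallyOfFinitePresentation π₀ := by rw [hπ₀]; infer_instance
  have hopen : IsOpen (Set.range ⇑π₀) := π₀.isOpenMap.isOpen_range
  let S' : U.Opens := ⟨Set.range ⇑π₀, hopen⟩
  have huS' : u ∈ S' := ⟨⟨v, hvV⟩, by rw [hπ₀]; simpa using hv2⟩
  refine ⟨S', (π₀ ⁻¹ᵁ S' : V.toScheme.Opens), S'.ι ≫ e, π₀ ∣_ S',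
    (π₀ ⁻¹ᵁ S').ι ≫ V.ι ≫ pullback.fst f e ≫ h, inferInstance, ?_, ?_, ?_, ?_, ?_, ?_⟩
  · refine ⟨⟨u, huS'⟩, ?_⟩
    rw [← hz, ← heu]
    simp
  · constructor
    rintro ⟨y, ⟨w, rfl⟩⟩
    refine ⟨⟨w, ⟨w, rfl⟩⟩, ?_⟩
    apply Subtype.ext
    have := congr($(morphismRestrict_ι π₀ S') ⟨w, ⟨w, rfl⟩⟩)
    simpa using this
  · exact IsZariskiLocalAtTarget.restrict hVfin S'
  · exact IsZariskiLocalAtTarget.restrict (P := @Flat) inferInstance S'
  · exact IsZariskiLocalAtTarget.restrict (P := @LocallyOfFinitePresentation) inferInstance S'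
  · rw [← Category.assoc (π₀ ∣_ S'), morphismRestrict_ι, hπ₀]
    simp only [Category.assoc]
    rw [← hf, pullback.condition]

end Groth.Agent.Helper3.FppfFin1
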