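import Mathlib
import Groth.Agent.Lib.Helper3.FE5
import Groth.Agent.Lib.Helper3.FppfFin1

/-!
# Stalk-cartesian big étale sheaves are fppf sheaves (helper3)
-/

set_option autoImplicit false
universe u
open CategoryTheory CategoryTheory.Limits AlgebraicGeometry Opposite

namespace Groth.Agent.Helper3.FE6

set_option backward.isDefEq.respectTransparency false
set_option linter.style.haveILetI false
set_option linter.unusedSectionVars false

open Groth.Agent.Helper3.FE1 Groth.Agent.Helper3.FE2 Groth.Agent.Helper3.FE5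

/-- every fppf covering sieve is refined, étale locally, by a finite locally free surjection -/
theorem fppf_refine {U : Scheme.{u}} (R : Sieve U) (hR : R ∈ Scheme.fppfTopology U) (x : U) :
    ∃ (S' V : Scheme.{u}) (e : S' ⟶ U) (π : V ⟶ S'), Etale e ∧ x ∈ Set.range ⇑e ∧ Surjective π ∧
      IsFinite π ∧ Flat π ∧ LocallyOfFinitePresentation π ∧ R (π ≫ e) := by
  haveI : MorphismProperty.IsMultiplicative @LocallyOfFinitePresentation :=
    { (inferInstance : MorphismProperty.IsStableUnderComposition @LocallyOfFinitePresentation) with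
      id_mem := fun _ => inferInstance }
  change R ∈ Scheme.grothendieckTopology (@Flat ⊓ @LocallyOfFinitePresentation) U at hR
  obtain ⟨𝒰, hle⟩ := Scheme.mem_grothendieckTopology_iff.1 hR
  obtain ⟨i, y, hy⟩ := 𝒰.exists_eq x
  have hp := 𝒰.map_prop i
  haveI : Flat (𝒰.f i) := hp.1
  haveI : LocallyOfFinitePresentation (𝒰.f i) := hp.2
  obtain ⟨S', V, e, π, r, h1, h2, h3, h4, h5, h6, h7⟩ :=
    Groth.Agent.Helper3.FppfFin1.exists_finite_flat_refinement (𝒰.f i) y
  refine ⟨S', V, e, π, h1, hy ▸ h2, h3, h4, h5, h6, ?_⟩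
  rw [← h7]
  exact R.downward_closed (hle _ _ (Presieve.ofArrows.mk i)) r


variable {S : Scheme.{u}}

/-- the sheaf condition for a finite surjective morphism -/
lemma isSheafFor_singleton (G : AbS S) (hG : StalkCart G) {U V : Over S} (p : V ⟶ U)
    [IsFinite p.left] [Surjective p.left] :
    Presieve.IsSheafFor (G.obj ⋙ forget AddCommGrpCat.{u + 1}) (Presieve.singleton p) := by
  rw [Presieve.isSheafFor_singleton]
  intro x hx
  have hpb : IsPullback (pullback.fst p p).left (pullback.snd p p).left p.left p.left :=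
    (IsPullback.of_hasPullback p p).map (Over.forget S)
  exact descent G p (pullback.fst p p) (pullback.snd p p) pullback.condition hG hpb x
    (hx _ _ pullback.condition)

/-- **stalk-cartesian big étale sheaves are fppf sheaves** -/
theorem isSheaf_fppf (G : AbS S) (hG : StalkCart G) :
    Presheaf.IsSheaf (QuotSh.J Scheme.fppfPrecoverage S) G.obj := by
  rw [Presheaf.isSheaf_iff_isSheaf_forget _ _ (forget AddCommGrpCat.{u + 1})]
  have hPet : Presieve.IsSheaf (JS S) (G.obj ⋙ forget AddCommGrpCat.{u + 1}) :=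
    (isSheaf_iff_isSheaf_of_type _ _).1
      ((Presheaf.isSheaf_iff_isSheaf_forget _ _ (forget AddCommGrpCat.{u + 1})).1 G.property)
  let K := Sheaf.finestTopology
    ({G.obj ⋙ forget AddCommGrpCat.{u + 1}} : Set ((Over S)ᵒᵖ ⥤ Type (u + 1)))
  have hK : Presieve.IsSheaf K (G.obj ⋙ forget AddCommGrpCat.{u + 1}) :=
    Sheaf.sheaf_for_finestTopology _ (Set.mem_singleton _)
  have hle_et : JS S ≤ K := Sheaf.le_finestTopology _ _ (by
    rintro _ rfl
    exact hPet)
  suffices h : QuotSh.J Scheme.fppfPrecoverage S ≤ K from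
    (isSheaf_iff_isSheaf_of_type _ _).2 (Presieve.isSheaf_of_le _ h hK)
  intro U R hR
  replace hR : Sieve.overEquiv U R ∈ Scheme.fppfTopology U.left := hR
  choose S' V e π he hx hπs hπf hπfl hπfp hRe using fppf_refine _ hR
  let E : Sieve U := Sieve.ofArrows (fun x : U.left => Over.mk (e x ≫ U.hom))
    (fun x => (Over.homMk (e x) : Over.mk (e x ≫ U.hom) ⟶ U))
  have hE : E ∈ K U := by
    apply hle_et
    change Sieve.overEquiv U E ∈ Scheme.grothendieckTopology @Etale U.left
    rw [Sieve.overEquiv_ofArrows]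
    exact (Scheme.Cover.mkOfCovers (P := @Etale) U.left (fun x => S' x) (fun x => e x)
      (fun y => by
        obtain ⟨z, hz⟩ := hx y
        exact ⟨y, z, hz⟩) he).mem_grothendieckTopology
  refine K.transitive hE R ?_
  intro Y f hf
  obtain ⟨x, g', rfl⟩ := (Sieve.mem_ofArrows_iff _ _ f).1 hf
  rw [Sieve.pullback_comp]
  apply K.pullback_stable
  let πh : Over.mk (π x ≫ e x ≫ U.hom) ⟶ Over.mk (e x ≫ U.hom) := Over.homMk (π x)
  have hπR : (R.pullback (Over.homMk (e x) : Over.mk (e x ≫ U.hom) ⟶ U)) πh := by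
    change R (πh ≫ Over.homMk (e x))
    have h1 := (Sieve.overEquiv_iff R (π x ≫ e x)).1 (hRe x)
    have h2 : (Over.homMk (π x ≫ e x) : Over.mk ((π x ≫ e x) ≫ U.hom) ⟶ U) =
        (Over.isoMk (Iso.refl _) (by simp) : Over.mk ((π x ≫ e x) ≫ U.hom) ≅
          Over.mk (π x ≫ e x ≫ U.hom)).hom ≫ πh ≫ Over.homMk (e x) := by
      apply Over.OverMorphism.ext
      simp [πh]
    rw [h2] at h1
    have h3 := R.downward_closed h1 (Over.isoMk (Iso.refl _) (by simp) :
      Over.mk ((π x ≫ e x) ≫ U.hom) ≅ Over.mk (π x ≫ e x ≫ U.hom)).inv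
    rwa [Iso.inv_hom_id_assoc] at h3
  refine K.superset_covering ((Sieve.generate_le_iff (Presieve.singleton πh) _).2 ?_) ?_
  · rintro _ _ ⟨⟩
    exact hπR
  · apply Sheaf.mem_finestTopology_of_forall_isSheafFor
    rintro _ rfl Y f
    haveI : IsFinite πh.left := hπf x
    haveI : Surjective πh.left := hπs x
    have hpb : IsPullback (pullback.fst πh f).left (pullback.snd πh f).left πh.left f.left :=
      (IsPullback.of_hasPullback πh f).map (Over.forget S)
    haveI : IsFinite (pullback.snd πh f).left :=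
      MorphismProperty.of_isPullback (P := @IsFinite) hpb (hπf x)
    haveI : Surjective (pullback.snd πh f).left :=
      MorphismProperty.of_isPullback (P := @Surjective) hpb (hπs x)
    rw [← Sieve.pullbackArrows_comm, ← Presieve.isSheafFor_iff_generate,
      Presieve.pullback_singleton]
    exact isSheafFor_singleton G hG (pullback.snd πh f)

end Groth.Agent.Helper3.FE6
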