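import Mathlib
import Groth.Prelude.Def_SiteCmp
import Groth.Prelude.Def_CohSite
import Groth.Agent.Lib.Helper3.ShHom

/-!
# Two topologies on one category: `ε_*` on abelian sheaves

`ε = SiteCmp.epsSh h Ab : Sheaf J Ab ⥤ Sheaf J' Ab` for `J' ≤ J` has the exact left adjoint
"`J`-sheafification of the underlying presheaf", hence preserves injectives; the homology of
`ε L` for a complex `L` of `J`-sheaves is `ε` of the homology of `L` as soon as it is a `J`-sheaf.
-/

set_option autoImplicit false
universe u
open CategoryTheory Limits Opposite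

namespace Groth.Agent.Helper3.TwoTop1

variable {𝒞 : Type u} [SmallCategory 𝒞] {J J' : GrothendieckTopology 𝒞} (h : J' ≤ J)

/-- the left adjoint of `ε_*`: `J`-sheafification of the underlying presheaf -/
noncomputable abbrev Linv : Sheaf J' AddCommGrpCat.{u} ⥤ Sheaf J AddCommGrpCat.{u} :=
  sheafToPresheaf J' AddCommGrpCat.{u} ⋙ presheafToSheaf J AddCommGrpCat.{u}

/-- `ε_*` followed by the forgetful functor is the forgetful functor -/
noncomputable def epsForget :
    𝟭 (Sheaf J AddCommGrpCat.{u}) ⋙ sheafToPresheaf J AddCommGrpCat.{u} ≅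
      SiteCmp.epsSh h AddCommGrpCat.{u} ⋙ sheafToPresheaf J' AddCommGrpCat.{u} :=
  Iso.refl _

/-- the adjunction `ε⁻¹ ⊣ ε_*` -/
noncomputable def adj : Linv (J := J) (J' := J') ⊣ SiteCmp.epsSh h AddCommGrpCat.{u} :=
  (sheafificationAdjunction J AddCommGrpCat.{u}).restrictFullyFaithful
    (fullyFaithfulSheafToPresheaf J' AddCommGrpCat.{u})
    (Functor.FullyFaithful.id (Sheaf J AddCommGrpCat.{u}))
    (Functor.rightUnitor _).symm (epsForget h)

instance : (Linv (J := J) (J' := J')).PreservesMonomorphisms := by
  dsimp only [Linv]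
  infer_instance

instance preservesInjectiveObjects_eps :
    (SiteCmp.epsSh h AddCommGrpCat.{u}).PreservesInjectiveObjects :=
  Functor.preservesInjectiveObjects_of_adjunction_of_preservesMonomorphisms (adj h)

end Groth.Agent.Helper3.TwoTop1
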