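import Mathlib
import Groth.Agent.Lib.Helper3.RDerL

/-!
# Cycles, boundaries and a left exact functor: an injectivity criterion in homology
-/

set_option autoImplicit false
universe v v' u u'
open CategoryTheory Limits

namespace Groth.Agent.Helper3.TwoTop6

section ses

variable {𝒜 : Type u} [Category.{v} 𝒜] [Abelian 𝒜] (K : CochainComplex 𝒜 ℕ)

/-- boundaries, as the kernel of `Z^q → H^q` -/
noncomputable abbrev B (q : ℕ) : 𝒜 := kernel (K.homologyπ q)

/-- the inclusion of boundaries into cycles -/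
noncomputable abbrev Bι (q : ℕ) : B K q ⟶ K.cycles q := kernel.ι (K.homologyπ q)

/-- `0 → B^q → Z^q → H^q → 0` -/
noncomputable def bSES (q : ℕ) : ShortComplex 𝒜 :=
  ShortComplex.mk (Bι K q) (K.homologyπ q) (kernel.condition _)

lemma bSES_shortExact (q : ℕ) : (bSES K q).ShortExact where
  exact := ShortComplex.exact_of_f_is_kernel _ (kernelIsKernel (K.homologyπ q))
  mono_f := by dsimp [bSES]; infer_instance
  epi_g := by dsimp [bSES]; infer_instance

/-- `X^q → B^{q+1}` -/
noncomputable def p (q : ℕ) : K.X q ⟶ B K (q + 1) :=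
  kernel.lift (K.homologyπ (q + 1)) (K.toCycles q (q + 1)) (K.toCycles_comp_homologyπ q (q + 1))

@[reassoc]
lemma p_Bι (q : ℕ) : p K q ≫ Bι K (q + 1) = K.toCycles q (q + 1) := kernel.lift_ι _ _ _

instance epi_p (q : ℕ) : Epi (p K q) := by
  have hex : (ShortComplex.mk (K.toCycles q (q + 1)) (K.homologyπ (q + 1))
      (K.toCycles_comp_homologyπ q (q + 1))).Exact :=
    ShortComplex.exact_of_g_is_cokernel _ (K.homologyIsCokernel q (q + 1) (by simp))
  exact hex.epi_kernelLift

lemma iCycles_p (q : ℕ) : K.iCycles q ≫ p K q = 0 := by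
  rw [← cancel_mono (Bι K (q + 1)), Category.assoc, p_Bι, zero_comp,
    ← cancel_mono (K.iCycles (q + 1)), Category.assoc, K.toCycles_i, K.iCycles_d, zero_comp]

/-- `0 → Z^q → X^q → B^{q+1} → 0` -/
noncomputable def aSES (q : ℕ) : ShortComplex 𝒜 :=
  ShortComplex.mk (K.iCycles q) (p K q) (iCycles_p K q)

lemma aSES_shortExact (q : ℕ) : (aSES K q).ShortExact where
  exact := by
    apply ShortComplex.exact_of_f_is_kernel
    exact isKernelOfComp (f := p K q) (Bι K (q + 1) ≫ K.iCycles (q + 1)) (K.d q (q + 1))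
      (K.cyclesIsKernel q (q + 1) (by simp)) (iCycles_p K q)
      (by rw [p_Bι_assoc, K.toCycles_i])
  mono_f := by dsimp [aSES]; infer_instance
  epi_g := by dsimp [aSES]; infer_instance

lemma isZero_B_zero : IsZero (B K 0) := by
  have : IsIso (K.homologyπ 0) := inferInstance
  exact isZero_kernel_of_mono _

end ses

section cyc

variable {𝒜 : Type u} [Category.{v} 𝒜] [Abelian 𝒜] {ℬ : Type u'} [Category.{v'} ℬ] [Abelian ℬ]
  (G : 𝒜 ⥤ ℬ) [G.Additive] [PreservesFiniteLimits G] (K : CochainComplex 𝒜 ℕ)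

/-- a left exact functor commutes with cycles -/
noncomputable def κ (q : ℕ) :
    ((G.mapHomologicalComplex _).obj K).cycles q ≅ G.obj (K.cycles q) :=
  IsLimit.conePointUniqueUpToIso
    (((G.mapHomologicalComplex _).obj K).cyclesIsKernel q (q + 1) (by simp))
    (KernelFork.mapIsLimit _ (K.cyclesIsKernel q (q + 1) (by simp)) G)

@[reassoc]
lemma κ_hom_i (q : ℕ) :
    (κ G K q).hom ≫ G.map (K.iCycles q) = ((G.mapHomologicalComplex _).obj K).iCycles q :=
  IsLimit.conePointUniqueUpToIso_hom_comp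
    (((G.mapHomologicalComplex _).obj K).cyclesIsKernel q (q + 1) (by simp))
    (KernelFork.mapIsLimit _ (K.cyclesIsKernel q (q + 1) (by simp)) G) WalkingParallelPair.zero

instance (q : ℕ) : Mono (G.map (K.iCycles q)) := inferInstance

@[reassoc]
lemma toCycles_κ (i q : ℕ) :
    ((G.mapHomologicalComplex _).obj K).toCycles i q ≫ (κ G K q).hom = G.map (K.toCycles i q) := by
  rw [← cancel_mono (G.map (K.iCycles q)), Category.assoc, κ_hom_i]
  refine (HomologicalComplex.toCycles_i _ i q).trans ?_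
  change G.map (K.d i q) = G.map (K.toCycles i q) ≫ G.map (K.iCycles q)
  rw [← G.map_comp, K.toCycles_i]

variable {K} in
@[reassoc]
lemma cyclesMap_κ {L : CochainComplex 𝒜 ℕ} (φ : K ⟶ L) (q : ℕ) :
    HomologicalComplex.cyclesMap ((G.mapHomologicalComplex _).map φ) q ≫ (κ G L q).hom =
      (κ G K q).hom ≫ G.map (HomologicalComplex.cyclesMap φ q) := by
  rw [← cancel_mono (G.map (L.iCycles q)), Category.assoc, Category.assoc, κ_hom_i]
  refine (HomologicalComplex.cyclesMap_i _ q).trans ?_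
  change ((G.mapHomologicalComplex _).obj K).iCycles q ≫ G.map (φ.f q) =
    (κ G K q).hom ≫ G.map (HomologicalComplex.cyclesMap φ q) ≫ G.map (L.iCycles q)
  rw [← G.map_comp, HomologicalComplex.cyclesMap_i, G.map_comp, κ_hom_i_assoc]
  rfl

end cyc

section main

variable {𝒜 : Type u} [Category.{v} 𝒜] [Abelian 𝒜] [EnoughInjectives 𝒜]
  {ℬ : Type u'} [Category.{v'} ℬ] [Abelian ℬ]
  (G : 𝒜 ⥤ ℬ) [G.Additive]

lemma isZero_X₃_of (S₀ : ShortComplex 𝒜) (hS₀ : S₀.ShortExact) (j : ℕ)
    (h₂ : IsZero ((G.rightDerived j).obj S₀.X₂)) (h₁ : IsZero ((G.rightDerived (j + 1)).obj S₀.X₁)) :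
    IsZero ((G.rightDerived j).obj S₀.X₃) :=
  ((RDerL.derivedLES G).exact₃ S₀ hS₀ j (j + 1) rfl).isZero_X₂ (h₂.eq_of_src _ _) (h₁.eq_of_tgt _ _)

lemma isZero_X₂_of (S₀ : ShortComplex 𝒜) (hS₀ : S₀.ShortExact) (j : ℕ)
    (h₁ : IsZero ((G.rightDerived j).obj S₀.X₁)) (h₃ : IsZero ((G.rightDerived j).obj S₀.X₃)) :
    IsZero ((G.rightDerived j).obj S₀.X₂) :=
  ((RDerL.derivedLES G).exact₂ S₀ hS₀ j).isZero_X₂ (h₁.eq_of_src _ _) (h₃.eq_of_tgt _ _)

lemma isZero_X₁_of (S₀ : ShortComplex 𝒜) (hS₀ : S₀.ShortExact) (j : ℕ)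
    (h₃ : IsZero ((G.rightDerived j).obj S₀.X₃)) (h₂ : IsZero ((G.rightDerived (j + 1)).obj S₀.X₂)) :
    IsZero ((G.rightDerived (j + 1)).obj S₀.X₁) :=
  ((RDerL.derivedLES G).exact₁ S₀ hS₀ j (j + 1) rfl).isZero_X₂ (h₃.eq_of_src _ _) (h₂.eq_of_tgt _ _)

/-- vanishing of the higher derived functors on the cycles of a complex of acyclic objects -/
lemma isZero_rightDerived_cycles (M : CochainComplex 𝒜 ℕ)
    (hM : ∀ q p, IsZero ((G.rightDerived (p + 1)).obj (M.X q))) (n : ℕ)
    (hD1 : ∀ p q, 1 ≤ p → p + q = n → IsZero ((G.rightDerived p).obj (M.homology q))) :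
    ∀ q j, 1 ≤ j → j + q = n → IsZero ((G.rightDerived j).obj (M.cycles q)) := by
  intro q
  induction q with
  | zero =>
    intro j hj h
    exact (hD1 j 0 hj h).of_iso ((G.rightDerived j).mapIso M.isoHomologyπ₀)
  | succ q ih =>
    intro j hj h
    obtain ⟨j', rfl⟩ : ∃ j', j = j' + 1 := ⟨j - 1, by omega⟩
    have h1 : IsZero ((G.rightDerived (j' + 1 + 1)).obj (M.cycles q)) := ih (j' + 1 + 1) (by omega) (by omega)
    have hB : IsZero ((G.rightDerived (j' + 1)).obj (B M (q + 1))) :=
      isZero_X₃_of G (aSES M q) (aSES_shortExact M q) (j' + 1) (hM q j') h1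
    exact isZero_X₂_of G (bSES M (q + 1)) (bSES_shortExact M (q + 1)) (j' + 1) hB
      (hD1 (j' + 1) (q + 1) hj h)

variable [PreservesFiniteLimits G]

/-- `G` of an epimorphism in a short exact sequence is epi when `R¹G` of the kernel vanishes -/
lemma epi_map_of_isZero (S₀ : ShortComplex 𝒜) (hS₀ : S₀.ShortExact)
    (h : IsZero ((G.rightDerived 1).obj S₀.X₁)) : Epi (G.map S₀.g) := by
  have hex := (RDerL.derivedLES G).exact₃ S₀ hS₀ 0 1 rfl
  have h1 : Epi ((G.rightDerived 0).map S₀.g) := hex.epi_f (h.eq_of_tgt _ _)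
  have h2 : G.map S₀.g = G.rightDerivedZeroIsoSelf.inv.app _ ≫ (G.rightDerived 0).map S₀.g ≫
      G.rightDerivedZeroIsoSelf.hom.app _ := by
    rw [G.rightDerivedZeroIsoSelf.hom.naturality, Iso.inv_hom_id_app_assoc]
  rw [h2]
  infer_instance

lemma shortExact_map_of_isZero (S₀ : ShortComplex 𝒜) (hS₀ : S₀.ShortExact)
    (h : IsZero ((G.rightDerived 1).obj S₀.X₁)) : (S₀.map G).ShortExact := by
  have := hS₀.mono_f
  have h1 : (S₀.map G).Exact ∧ Mono (G.map S₀.f) :=
    (Functor.preservesFiniteLimits_iff_forall_exact_map_and_mono G).1 inferInstance S₀ hS₀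
  exact { exact := h1.1, mono_f := h1.2, epi_g := epi_map_of_isZero G S₀ hS₀ h }

/-- **Injectivity criterion**: for a short exact sequence of complexes `0 → I → K → M → 0` with
`G`-acyclic terms, `H^{n+1}(G I) → H^{n+1}(G K)` is a monomorphism under vanishing conditions on the
homology of `M` and a surjectivity condition in degree `n`. -/
theorem mono_homologyMap (S : ShortComplex (CochainComplex 𝒜 ℕ)) (hS : S.ShortExact) (n : ℕ)
    (hI : ∀ q p, IsZero ((G.rightDerived (p + 1)).obj (S.X₁.X q)))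
    (hK : ∀ q p, IsZero ((G.rightDerived (p + 1)).obj (S.X₂.X q)))
    (hD1 : ∀ p q, 1 ≤ p → p + q = n → IsZero ((G.rightDerived p).obj (S.X₃.homology q)))
    (hD2 : Epi (G.map (S.X₂.homologyπ n ≫ HomologicalComplex.homologyMap S.g n))) :
    Mono (HomologicalComplex.homologyMap ((G.mapHomologicalComplex _).map S.f) (n + 1)) := by
  have := hS.mono_f
  have := hS.epi_g
  have hSq : ∀ q, (S.map (HomologicalComplex.eval 𝒜 _ q)).ShortExact := fun q =>
    hS.map_of_exact (HomologicalComplex.eval 𝒜 _ q)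
  have hM : ∀ q p, IsZero ((G.rightDerived (p + 1)).obj (S.X₃.X q)) := fun q p =>
    isZero_X₃_of G _ (hSq q) (p + 1) (hK q p) (hI q (p + 1))
  -- the image sequence is short exact
  have hS' : (S.map (G.mapHomologicalComplex (ComplexShape.up ℕ))).ShortExact := by
    apply HomologicalComplex.shortExact_of_degreewise_shortExact
    intro q
    exact shortExact_map_of_isZero G _ (hSq q) (hI q 0)
  -- reduce to an epimorphism
  suffices hepi : Epi (HomologicalComplex.homologyMap ((G.mapHomologicalComplex _).map S.g) n) by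
    have hrel : (ComplexShape.up ℕ).Rel n (n + 1) := by simp
    haveI : Epi (HomologicalComplex.homologyMap
        (S.map (G.mapHomologicalComplex (ComplexShape.up ℕ))).g n) := hepi
    have h0 : hS'.δ n (n + 1) hrel = 0 :=
      (cancel_epi (HomologicalComplex.homologyMap
        (S.map (G.mapHomologicalComplex (ComplexShape.up ℕ))).g n)).1
        ((hS'.comp_δ n (n + 1) hrel).trans comp_zero.symm)
    exact (hS'.homology_exact₁ n (n + 1) hrel).mono_g h0
  set M := S.X₃ with hMdef
  set K := S.X₂ with hKdef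
  apply Preadditive.epi_of_cancel_zero
  intro W c hc
  rw [← cancel_epi (((G.mapHomologicalComplex _).obj M).homologyπ n),
    ← cancel_epi (κ G M n).inv, comp_zero, comp_zero]
  set c₂ := (κ G M n).inv ≫ ((G.mapHomologicalComplex _).obj M).homologyπ n ≫ c with hc₂
  -- (ii)
  have hii : G.map (HomologicalComplex.cyclesMap S.g n) ≫ c₂ = 0 := by
    have e1 : G.map (HomologicalComplex.cyclesMap S.g n) ≫ (κ G M n).inv =
        (κ G K n).inv ≫ HomologicalComplex.cyclesMap ((G.mapHomologicalComplex _).map S.g) n := by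
      rw [Iso.comp_inv_eq, Category.assoc, cyclesMap_κ, Iso.inv_hom_id_assoc]
    have e1' := HomologicalComplex.homologyπ_naturality
      ((G.mapHomologicalComplex (ComplexShape.up ℕ)).map S.g) n
    rw [hc₂, reassoc_of% e1, ← reassoc_of% e1', hc, comp_zero, comp_zero]
  -- (i)
  have hi : G.map (Bι M n) ≫ c₂ = 0 := by
    rcases n with _ | q
    · exact (G.map_isZero (isZero_B_zero M)).eq_of_src _ _
    · have h1 : IsZero ((G.rightDerived 1).obj (M.cycles q)) :=
        isZero_rightDerived_cycles G M hM (q + 1) hD1 q 1 le_rfl (by omega)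
      haveI : Epi (G.map (p M q)) := epi_map_of_isZero G (aSES M q) (aSES_shortExact M q) h1
      rw [← cancel_epi (G.map (p M q)), comp_zero, ← G.map_comp_assoc, p_Bι, hc₂]
      have e2 : G.map (M.toCycles q (q + 1)) ≫ (κ G M (q + 1)).inv =
          ((G.mapHomologicalComplex _).obj M).toCycles q (q + 1) :=
        (Iso.comp_inv_eq _).2 (toCycles_κ G M q (q + 1)).symm
      rw [reassoc_of% e2]
      have e4 := ((G.mapHomologicalComplex (ComplexShape.up ℕ)).obj M).toCycles_comp_homologyπ q (q + 1)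
      exact (Category.assoc _ _ _).symm.trans ((congrArg (· ≫ c) e4).trans zero_comp)
  -- ψ
  have e3 : S.X₂.homologyπ n ≫ HomologicalComplex.homologyMap S.g n =
      HomologicalComplex.cyclesMap S.g n ≫ M.homologyπ n :=
    HomologicalComplex.homologyπ_naturality S.g n
  rw [e3, G.map_comp] at hD2
  haveI : Epi (G.map (M.homologyπ n)) := epi_of_epi (G.map (HomologicalComplex.cyclesMap S.g n)) _
  have hker : IsLimit (KernelFork.ofι (G.map (Bι M n))
      (show G.map (Bι M n) ≫ G.map (M.homologyπ n) = 0 by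
        rw [← G.map_comp, kernel.condition, G.map_zero])) :=
    KernelFork.mapIsLimit _ (bSES_shortExact M n).fIsKernel G
  have hcok := Abelian.epiIsCokernelOfKernel _ hker
  let c₃ := hcok.desc (CokernelCofork.ofπ c₂ hi)
  have hfac : G.map (M.homologyπ n) ≫ c₃ = c₂ := hcok.fac (CokernelCofork.ofπ c₂ hi) WalkingParallelPair.one
  rw [← hfac, ← Category.assoc] at hii
  have hc₃ : c₃ = 0 := by
    rw [← cancel_epi (G.map (HomologicalComplex.cyclesMap S.g n) ≫ G.map (M.homologyπ n)), hii, comp_zero]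
  rw [← hfac, hc₃, comp_zero]

end main

end Groth.Agent.Helper3.TwoTop6
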