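import Mathlib
import Groth.Prelude.Def_SiteCmp
import Groth.Prelude.Def_CohSite
import Groth.Agent.Lib.Helper3.ShHom
import Groth.Agent.Lib.Helper3.TwoTop1
import Groth.Agent.Lib.Helper3.TwoTop6

/-!
# Cokernel comparison for a fully faithful functor; naturality of `homologyIsoSheafify`
-/

set_option autoImplicit false
universe v v' u u'
open CategoryTheory Limits Opposite

namespace Groth.Agent.Helper3.TwoTop7

section abs

variable {𝒜 : Type u} [Category.{v} 𝒜] [Abelian 𝒜] {ℬ : Type u'} [Category.{v'} ℬ] [Abelian ℬ]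
  (G : 𝒜 ⥤ ℬ) [G.Full] [G.Faithful] [G.Additive]

/-- **cokernel comparison**: if the cokernel of `G φ` lies in the essential image of the fully
faithful functor `G`, then it is `G` of the cokernel of `φ`, and `G` of the projection is epi. -/
theorem cokernel_comparison {A B C : 𝒜} (φ : A ⟶ B) (π : B ⟶ C) (w : φ ≫ π = 0)
    (hπ : IsColimit (CokernelCofork.ofπ π w)) {C' : ℬ} (π' : G.obj B ⟶ C')
    (w' : G.map φ ≫ π' = 0) (hπ' : IsColimit (CokernelCofork.ofπ π' w'))
    (hC' : G.essImage C') :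
    Epi (G.map π) ∧ Nonempty (C' ≅ G.obj C) := by
  obtain ⟨C'', ⟨e⟩⟩ := hC'
  have hepi : Epi π := epi_of_isColimit_cofork hπ
  have hepi' : Epi π' := epi_of_isColimit_cofork hπ'
  let π'' : B ⟶ C'' := G.preimage (π' ≫ e.inv)
  have hπ'' : G.map π'' = π' ≫ e.inv := G.map_preimage _
  have w'' : φ ≫ π'' = 0 := G.map_injective (by
    rw [G.map_comp, hπ'', ← Category.assoc, w', zero_comp, G.map_zero])
  let d : C ⟶ C'' := hπ.desc (CokernelCofork.ofπ π'' w'')
  have hd : π ≫ d = π'' := hπ.fac (CokernelCofork.ofπ π'' w'') WalkingParallelPair.one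
  have wc : G.map φ ≫ G.map π = 0 := by rw [← G.map_comp, w, G.map_zero]
  let c : C' ⟶ G.obj C := hπ'.desc (CokernelCofork.ofπ (G.map π) wc)
  have hc : π' ≫ c = G.map π := hπ'.fac (CokernelCofork.ofπ (G.map π) wc) WalkingParallelPair.one
  let ct : C'' ⟶ C := G.preimage (e.hom ≫ c)
  have hct : G.map ct = e.hom ≫ c := G.map_preimage _
  have h1 : c ≫ G.map d ≫ e.hom = 𝟙 C' := by
    rw [← cancel_epi π', ← Category.assoc, hc, ← Category.assoc, ← G.map_comp, hd, hπ'',
      Category.assoc, e.inv_hom_id, Category.comp_id]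
  have h2 : π'' ≫ ct = π := G.map_injective (by
    rw [G.map_comp, hπ'', hct, Category.assoc, e.inv_hom_id_assoc, hc])
  have h3 : d ≫ ct = 𝟙 C := by
    rw [← cancel_epi π, ← Category.assoc, hd, h2, Category.comp_id]
  have h4 : (G.map d ≫ e.hom) ≫ c = 𝟙 (G.obj C) := by
    rw [Category.assoc, ← hct, ← G.map_comp, h3, G.map_id]
  let ic : C' ≅ G.obj C := ⟨c, G.map d ≫ e.hom, h1, h4⟩
  refine ⟨?_, ⟨ic⟩⟩
  rw [← hc]
  haveI : IsIso c := ic.isIso_hom
  infer_instance

variable [PreservesFiniteLimits G]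

/-- if the homology of `G L` lies in the essential image of the fully faithful left exact functor
`G`, then it is `G` of the homology of `L`, and `G (Z^q L ⟶ H^q L)` is an epimorphism. -/
theorem epi_map_homologyπ (L : CochainComplex 𝒜 ℕ) (q : ℕ)
    (hL : G.essImage (((G.mapHomologicalComplex (ComplexShape.up ℕ)).obj L).homology q)) :
    Epi (G.map (L.homologyπ q)) ∧
      Nonempty (((G.mapHomologicalComplex (ComplexShape.up ℕ)).obj L).homology q ≅
        G.obj (L.homology q)) := by
  let i := (ComplexShape.up ℕ).prev q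
  let GLc := (G.mapHomologicalComplex (ComplexShape.up ℕ)).obj L
  have h0 := GLc.homologyIsCokernel i q rfl
  let π' : G.obj (L.cycles q) ⟶ GLc.homology q := (TwoTop6.κ G L q).inv ≫ GLc.homologyπ q
  have w' : G.map (L.toCycles i q) ≫ π' = 0 := by
    refine (TwoTop6.toCycles_κ_assoc G L i q π').symm.trans ?_
    change GLc.toCycles i q ≫ ((TwoTop6.κ G L q).hom ≫ (TwoTop6.κ G L q).inv ≫ GLc.homologyπ q) = 0
    rw [Iso.hom_inv_id_assoc]
    exact GLc.toCycles_comp_homologyπ i q
  have hπ' : IsColimit (CokernelCofork.ofπ π' w') :=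
    CokernelCofork.IsColimit.ofπ' π' w' (fun {Z'} k hk => by
      have hk' : GLc.toCycles i q ≫ ((TwoTop6.κ G L q).hom ≫ k) = 0 :=
        (TwoTop6.toCycles_κ_assoc G L i q k).trans hk
      refine ⟨h0.desc (CokernelCofork.ofπ ((TwoTop6.κ G L q).hom ≫ k) hk'), ?_⟩
      have hf := h0.fac (CokernelCofork.ofπ ((TwoTop6.κ G L q).hom ≫ k) hk')
        WalkingParallelPair.one
      change GLc.homologyπ q ≫ _ = (TwoTop6.κ G L q).hom ≫ k at hf
      rw [Category.assoc, hf, Iso.inv_hom_id_assoc])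
  exact cokernel_comparison G (L.toCycles i q) (L.homologyπ q) (L.toCycles_comp_homologyπ i q)
    (L.homologyIsCokernel i q rfl) π' w' hπ' hL

end abs

section eps

variable {D : Type u} [SmallCategory D] {K K' : GrothendieckTopology D} (hle : K' ≤ K)

/-- `ε_*` is fully faithful -/
noncomputable def fullyFaithfulEps : (SiteCmp.epsSh hle AddCommGrpCat.{u}).FullyFaithful :=
  Functor.FullyFaithful.ofCompFaithful (G := sheafToPresheaf K' AddCommGrpCat.{u})
    (((Functor.FullyFaithful.id _).comp (fullyFaithfulSheafToPresheaf K AddCommGrpCat.{u})).ofIso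
      (TwoTop1.epsForget hle))

instance full_eps : (SiteCmp.epsSh hle AddCommGrpCat.{u}).Full := (fullyFaithfulEps hle).full

instance faithful_eps : (SiteCmp.epsSh hle AddCommGrpCat.{u}).Faithful :=
  (fullyFaithfulEps hle).faithful

instance preservesFiniteLimits_eps : PreservesFiniteLimits (SiteCmp.epsSh hle AddCommGrpCat.{u}) := by
  have := (TwoTop1.adj hle).rightAdjoint_preservesLimits
  infer_instance

/-- a `K'`-sheaf which is a `K`-sheaf lies in the essential image of `ε_*` -/
lemma essImage_eps (F' : Sheaf K' AddCommGrpCat.{u}) (hF : Presheaf.IsSheaf K F'.obj) :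
    (SiteCmp.epsSh hle AddCommGrpCat.{u}).essImage F' :=
  ⟨⟨F'.obj, hF⟩, ⟨(fullyFaithfulSheafToPresheaf K' AddCommGrpCat.{u}).preimageIso (Iso.refl _)⟩⟩

/-- if `H^q(ε L)` is a `K`-sheaf then `ε (Z^q L ⟶ H^q L)` is epi and `H^q(ε L) ≅ ε H^q(L)` -/
theorem eps_epi_map_homologyπ (L : CochainComplex (Sheaf K AddCommGrpCat.{u}) ℕ) (q : ℕ)
    (hL : Presheaf.IsSheaf K
      ((((SiteCmp.epsSh hle AddCommGrpCat.{u}).mapHomologicalComplex _).obj L).homology q).obj) :
    Epi ((SiteCmp.epsSh hle AddCommGrpCat.{u}).map (L.homologyπ q)) ∧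
      Nonempty ((((SiteCmp.epsSh hle AddCommGrpCat.{u}).mapHomologicalComplex _).obj L).homology q ≅
        (SiteCmp.epsSh hle AddCommGrpCat.{u}).obj (L.homology q)) :=
  epi_map_homologyπ (SiteCmp.epsSh hle AddCommGrpCat.{u}) L q (essImage_eps hle _ hL)

end eps

section nat

variable {D : Type u} [SmallCategory D] (K : GrothendieckTopology D)

lemma scIso_hom_naturality {S S' : ShortComplex (Sheaf K AddCommGrpCat.{u})} (ψ : S ⟶ S') :
    ψ ≫ (ShHom.scIso K S').hom = (ShHom.scIso K S).hom ≫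
      (presheafToSheaf K AddCommGrpCat.{u}).mapShortComplex.map
        ((sheafToPresheaf K AddCommGrpCat.{u}).mapShortComplex.map ψ) := by
  have key : ∀ {A B : Sheaf K AddCommGrpCat.{u}} (g : A ⟶ B),
      g ≫ inv ((sheafificationAdjunction K AddCommGrpCat.{u}).counit.app B) =
        inv ((sheafificationAdjunction K AddCommGrpCat.{u}).counit.app A) ≫
          (presheafToSheaf K AddCommGrpCat.{u}).map ((sheafToPresheaf K AddCommGrpCat.{u}).map g) := by
    intro A B g
    rw [IsIso.comp_inv_eq, Category.assoc, IsIso.eq_inv_comp]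
    exact ((sheafificationAdjunction K AddCommGrpCat.{u}).counit.naturality g).symm
  refine ShortComplex.hom_ext _ _ ?_ ?_ ?_
  · exact key ψ.τ₁
  · exact key ψ.τ₂
  · exact key ψ.τ₃

/-- naturality of `ShHom.homologyIsoSheafify` -/
lemma homologyIsoSheafify_hom_naturality {L L' : CochainComplex (Sheaf K AddCommGrpCat.{u}) ℕ}
    (φ : L ⟶ L') (i : ℕ) :
    HomologicalComplex.homologyMap φ i ≫ (ShHom.homologyIsoSheafify K L' i).hom =
      (ShHom.homologyIsoSheafify K L i).hom ≫ (presheafToSheaf K AddCommGrpCat.{u}).map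
        (HomologicalComplex.homologyMap
          (((sheafToPresheaf K AddCommGrpCat.{u}).mapHomologicalComplex _).map φ) i) := by
  let ψ : L.sc i ⟶ L'.sc i := (HomologicalComplex.shortComplexFunctor _ _ i).map φ
  let mL := (((L.sc i).map (sheafToPresheaf K AddCommGrpCat.{u})).mapHomologyIso
    (presheafToSheaf K AddCommGrpCat.{u})).hom
  let mL' := (((L'.sc i).map (sheafToPresheaf K AddCommGrpCat.{u})).mapHomologyIso
    (presheafToSheaf K AddCommGrpCat.{u})).hom
  let sL := ShortComplex.homologyMap (ShHom.scIso K (L.sc i)).hom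
  let sL' := ShortComplex.homologyMap (ShHom.scIso K (L'.sc i)).hom
  let Uψ : (L.sc i).map (sheafToPresheaf K AddCommGrpCat.{u}) ⟶
      (L'.sc i).map (sheafToPresheaf K AddCommGrpCat.{u}) :=
    (sheafToPresheaf K AddCommGrpCat.{u}).mapShortComplex.map ψ
  let aUψ : ((L.sc i).map (sheafToPresheaf K AddCommGrpCat.{u})).map
      (presheafToSheaf K AddCommGrpCat.{u}) ⟶
      ((L'.sc i).map (sheafToPresheaf K AddCommGrpCat.{u})).map
        (presheafToSheaf K AddCommGrpCat.{u}) :=
    (presheafToSheaf K AddCommGrpCat.{u}).mapShortComplex.map Uψ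
  let x := ShortComplex.homologyMap aUψ
  have h0 : ψ ≫ (ShHom.scIso K (L'.sc i)).hom = (ShHom.scIso K (L.sc i)).hom ≫ aUψ :=
    scIso_hom_naturality K ψ
  have h1 : ShortComplex.homologyMap ψ ≫ sL' = sL ≫ x := by
    have e1 := ShortComplex.homologyMap_comp ψ (ShHom.scIso K (L'.sc i)).hom
    have e2 := ShortComplex.homologyMap_comp (ShHom.scIso K (L.sc i)).hom aUψ
    rw [h0] at e1
    exact e1.symm.trans e2
  have h2 : x ≫ mL' = mL ≫ (presheafToSheaf K AddCommGrpCat.{u}).map
      (ShortComplex.homologyMap Uψ) :=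
    ShortComplex.mapHomologyIso_hom_naturality Uψ (presheafToSheaf K AddCommGrpCat.{u})
  change ShortComplex.homologyMap ψ ≫ (sL' ≫ mL') =
    (sL ≫ mL) ≫ (presheafToSheaf K AddCommGrpCat.{u}).map (ShortComplex.homologyMap Uψ)
  rw [← Category.assoc, h1, Category.assoc, h2, Category.assoc]

end nat

end Groth.Agent.Helper3.TwoTop7
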