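import Mathlib
import Groth.Prelude.Def_WeakSerre
import Groth.Agent.Lib.Helper3.TwoTop6
import Groth.Agent.Lib.Helper3.TwoTop7

/-!
# An abstract injectivity statement for `H^{n+1}(G I) → H^{n+1}(G Ψ I)`
-/

set_option autoImplicit false
universe v v' u u'
open CategoryTheory Limits

namespace Groth.Agent.Helper3.TwoTop10

variable {𝒜 : Type u} [Category.{v} 𝒜] [Abelian 𝒜] [EnoughInjectives 𝒜]
  {ℬ : Type u'} [Category.{v'} ℬ] [Abelian ℬ]
  (G : 𝒜 ⥤ ℬ) [G.Full] [G.Faithful] [G.Additive] [PreservesFiniteLimits G]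
  (Ψ : 𝒜 ⥤ 𝒜) [Ψ.Additive] [Ψ.PreservesInjectiveObjects] (η : 𝟭 𝒜 ⟶ Ψ)

/-- the morphism of complexes induced by `η` -/
noncomputable def ηC (L : CochainComplex 𝒜 ℕ) :
    L ⟶ (Ψ.mapHomologicalComplex (ComplexShape.up ℕ)).obj L where
  f q := η.app (L.X q)
  comm' i j _ := (η.naturality (L.d i j)).symm

omit [EnoughInjectives 𝒜] in
@[simp] lemma ηC_f (L : CochainComplex 𝒜 ℕ) (q : ℕ) : (ηC Ψ η L).f q = η.app (L.X q) := rfl

/-- **abstract crux** -/
theorem abstract_crux (Pr : ObjectProperty ℬ) [WSerre.IsWeakSerre Pr]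
    (hPr : ∀ Y, Pr Y → G.essImage Y) (hη : ∀ Q : 𝒜, Mono (η.app Q))
    {F : 𝒜} (I : InjectiveResolution F) (n : ℕ)
    (H1 : ∀ M : 𝒜, Pr (G.obj M) → ∀ i, 1 ≤ i → i ≤ n → IsZero ((G.rightDerived i).obj M))
    (H2 : Pr (G.obj F))
    (H3 : ∀ q, q ≤ n → Pr (((G.mapHomologicalComplex (ComplexShape.up ℕ)).obj
      ((Ψ.mapHomologicalComplex (ComplexShape.up ℕ)).obj I.cocomplex)).homology q)) :
    Mono (HomologicalComplex.homologyMap
      ((G.mapHomologicalComplex (ComplexShape.up ℕ)).map (ηC Ψ η I.cocomplex)) (n + 1)) := by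
  let Ic := I.cocomplex
  let Kc := (Ψ.mapHomologicalComplex (ComplexShape.up ℕ)).obj Ic
  let f : Ic ⟶ Kc := ηC Ψ η Ic
  haveI : ∀ q, Mono (f.f q) := fun q => hη (Ic.X q)
  haveI : Mono f := HomologicalComplex.mono_of_mono_f f inferInstance
  let S : ShortComplex (CochainComplex 𝒜 ℕ) := ShortComplex.mk f (cokernel.π f) (cokernel.condition f)
  have hS : S.ShortExact := { exact := ShortComplex.exact_cokernel f }
  -- acyclicity
  have hI : ∀ q p, IsZero ((G.rightDerived (p + 1)).obj (S.X₁.X q)) := by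
    intro q p
    haveI : Injective (Ic.X q) := I.injective q
    exact Functor.isZero_rightDerived_obj_injective_succ G p (Ic.X q)
  have hK : ∀ q p, IsZero ((G.rightDerived (p + 1)).obj (S.X₂.X q)) := by
    intro q p
    haveI : Injective (Ic.X q) := I.injective q
    haveI : Injective (Ψ.obj (Ic.X q)) := Ψ.injective_obj_of_injective inferInstance
    exact Functor.isZero_rightDerived_obj_injective_succ G p (Ψ.obj (Ic.X q))
  -- homology of `I`
  have hzI : ∀ q, IsZero (Ic.homology (q + 1)) := by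
    intro q
    haveI : QuasiIsoAt I.ι (q + 1) := inferInstance
    exact IsZero.of_iso (HomologicalComplex.isZero_single_obj_homology (ComplexShape.up ℕ) 0 F
      (q + 1) (by simp)) (isoOfQuasiIsoAt I.ι (q + 1)).symm
  have hα : ∀ q, Pr (G.obj (Ic.homology q)) := by
    intro q
    rcases q with _ | q
    · haveI : QuasiIsoAt I.ι 0 := inferInstance
      have e0 : F ≅ Ic.homology 0 :=
        (HomologicalComplex.singleObjHomologySelfIso (ComplexShape.up ℕ) 0 F).symm ≪≫
          isoOfQuasiIsoAt I.ι 0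
      exact Pr.prop_of_iso (G.mapIso e0) H2
    · exact Pr.prop_of_isZero (G.map_isZero (hzI q))
  -- homology of `K`
  have hβ : ∀ q, q ≤ n → Epi (G.map (Kc.homologyπ q)) ∧ Pr (G.obj (Kc.homology q)) := by
    intro q hq
    obtain ⟨h1, ⟨e⟩⟩ := TwoTop7.epi_map_homologyπ G Kc q (hPr _ (H3 q hq))
    exact ⟨h1, Pr.prop_of_iso e (H3 q hq)⟩
  -- homology of `M`
  have hγ : ∀ q, q ≤ n → Epi (G.map (HomologicalComplex.homologyMap S.g q)) ∧
      Pr (G.obj (S.X₃.homology q)) := by
    intro q hq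
    have hrel : (ComplexShape.up ℕ).Rel q (q + 1) := by simp
    have hex := hS.homology_exact₂ q
    haveI : Epi (HomologicalComplex.homologyMap S.g q) :=
      (hS.homology_exact₃ q (q + 1) hrel).epi_f ((hzI q).eq_of_tgt _ _)
    have hcok := hex.gIsCokernel
    have hC' : Pr (cokernel (G.map (HomologicalComplex.homologyMap S.f q))) :=
      Pr.prop_cokernel _ (hα q) (hβ q hq).2
    obtain ⟨h1, ⟨e⟩⟩ := TwoTop7.cokernel_comparison G (HomologicalComplex.homologyMap S.f q)
      (HomologicalComplex.homologyMap S.g q) (by rw [← HomologicalComplex.homologyMap_comp, S.zero,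
        HomologicalComplex.homologyMap_zero]) hcok
      (cokernel.π (G.map (HomologicalComplex.homologyMap S.f q))) (cokernel.condition _)
      (cokernelIsCokernel _) (hPr _ hC')
    exact ⟨h1, Pr.prop_of_iso e hC'⟩
  refine TwoTop6.mono_homologyMap G S hS n hI hK ?_ ?_
  · intro p q hp hpq
    exact H1 _ (hγ q (by omega)).2 p hp (by omega)
  · rw [G.map_comp]
    haveI := (hβ n le_rfl).1
    haveI := (hγ n le_rfl).1
    infer_instance

end Groth.Agent.Helper3.TwoTop10
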