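import Mathlib
import Groth.Prelude.Def_SiteCmp
import Groth.Prelude.Def_CohSite
import Groth.Agent.Lib.Helper3.ShHom
import Groth.Agent.Lib.Helper3.TwoTop1

/-!
# Two topologies: homology of `ε L`, and `ε` commutes with relocalisation pushforward
-/

set_option autoImplicit false
universe u
open CategoryTheory Limits Opposite

namespace Groth.Agent.Helper3.TwoTop2

variable {𝒞 : Type u} [SmallCategory 𝒞] {J J' : GrothendieckTopology 𝒞} (h : J' ≤ J)

/-- if the `J'`-sheafification of `P` happens to be a `J`-sheaf, it is the `J`-sheafification -/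
noncomputable def sheafifyIso (P : 𝒞ᵒᵖ ⥤ AddCommGrpCat.{u})
    (hP : Presheaf.IsSheaf J (sheafify J' P)) : sheafify J' P ≅ sheafify J P where
  hom := sheafifyLift J' (toSheafify J P)
    (fun E => Presieve.isSheaf_of_le _ h (((presheafToSheaf J AddCommGrpCat.{u}).obj P).property E))
  inv := sheafifyLift J (toSheafify J' P) hP
  hom_inv_id := by
    apply sheafify_hom_ext J' _ _ ((presheafToSheaf J' AddCommGrpCat.{u}).obj P).property
    rw [← Category.assoc, toSheafify_sheafifyLift, toSheafify_sheafifyLift, Category.comp_id]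
  inv_hom_id := by
    apply sheafify_hom_ext J _ _ ((presheafToSheaf J AddCommGrpCat.{u}).obj P).property
    rw [← Category.assoc, toSheafify_sheafifyLift, toSheafify_sheafifyLift, Category.comp_id]

/-- sheaf version of `sheafifyIso` -/
noncomputable def sheafifyIsoSh (P : 𝒞ᵒᵖ ⥤ AddCommGrpCat.{u})
    (hP : Presheaf.IsSheaf J ((presheafToSheaf J' AddCommGrpCat.{u}).obj P).obj) :
    (presheafToSheaf J' AddCommGrpCat.{u}).obj P ≅
      (SiteCmp.epsSh h AddCommGrpCat.{u}).obj ((presheafToSheaf J AddCommGrpCat.{u}).obj P) :=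
  (fullyFaithfulSheafToPresheaf J' AddCommGrpCat.{u}).preimageIso (sheafifyIso h P hP)

/-- the underlying complexes of presheaves of `L` and `ε L` agree -/
noncomputable def preIso (L : CochainComplex (Sheaf J AddCommGrpCat.{u}) ℕ) :
    ((sheafToPresheaf J' AddCommGrpCat.{u}).mapHomologicalComplex _).obj
      (((SiteCmp.epsSh h AddCommGrpCat.{u}).mapHomologicalComplex _).obj L) ≅
    ((sheafToPresheaf J AddCommGrpCat.{u}).mapHomologicalComplex _).obj L :=
  HomologicalComplex.Hom.isoOfComponents (fun _ => Iso.refl _) (by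
    intro i j _
    simp only [Iso.refl_hom]
    rfl)

/-- if the homology of `ε L` is a `J`-sheaf then it is `ε` of the homology of `L` -/
theorem nonempty_homology_iso (L : CochainComplex (Sheaf J AddCommGrpCat.{u}) ℕ) (i : ℕ)
    (hL : Presheaf.IsSheaf J
      ((((SiteCmp.epsSh h AddCommGrpCat.{u}).mapHomologicalComplex _).obj L).homology i).obj) :
    Nonempty ((((SiteCmp.epsSh h AddCommGrpCat.{u}).mapHomologicalComplex _).obj L).homology i ≅
      (SiteCmp.epsSh h AddCommGrpCat.{u}).obj (L.homology i)) := by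
  let εL := ((SiteCmp.epsSh h AddCommGrpCat.{u}).mapHomologicalComplex _).obj L
  let Pre := ((sheafToPresheaf J AddCommGrpCat.{u}).mapHomologicalComplex _).obj L
  have e1 : εL.homology i ≅ (presheafToSheaf J' AddCommGrpCat.{u}).obj (Pre.homology i) :=
    ShHom.homologyIsoSheafify J' εL i ≪≫
      (presheafToSheaf J' AddCommGrpCat.{u}).mapIso
        ((HomologicalComplex.homologyFunctor _ _ i).mapIso (preIso h L))
  have hP : Presheaf.IsSheaf J ((presheafToSheaf J' AddCommGrpCat.{u}).obj (Pre.homology i)).obj :=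
    (Presheaf.isSheaf_of_iso_iff ((sheafToPresheaf J' AddCommGrpCat.{u}).mapIso e1)).1 hL
  exact ⟨e1 ≪≫ sheafifyIsoSh h _ hP ≪≫
    (SiteCmp.epsSh h AddCommGrpCat.{u}).mapIso (ShHom.homologyIsoSheafify J L i).symm⟩

/-- `ε` commutes with the relocalisation pushforward -/
noncomputable def pushIso {X Y : 𝒞} (f : X ⟶ Y) :
    SiteCmp.epsSh (SiteCmp.over_le h X) AddCommGrpCat.{u} ⋙
      (Over.map f).sheafPushforwardCocontinuous AddCommGrpCat.{u} (J'.over X) (J'.over Y) ≅
    (Over.map f).sheafPushforwardCocontinuous AddCommGrpCat.{u} (J.over X) (J.over Y) ⋙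
      SiteCmp.epsSh (SiteCmp.over_le h Y) AddCommGrpCat.{u} :=
  Iso.refl _

end Groth.Agent.Helper3.TwoTop2
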