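import Mathlib
import Groth.Prelude.Def_CohSite
import Groth.Agent.Lib.Helper3.RPush
import Groth.Agent.Lib.Helper5.Misc.RDExact

/-!
# Locally zero sections of presheaves of abelian groups
-/

set_option autoImplicit false
universe u
open CategoryTheory Limits Opposite

namespace Groth.Agent.Helper3.TwoTop3

variable {D : Type u} [SmallCategory D] (K : GrothendieckTopology D)

/-- a section of a presheaf of abelian groups is locally zero -/
def LocZero (P : Dᵒᵖ ⥤ AddCommGrpCat.{u}) {T : D} (x : P.obj (op T)) : Prop :=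
  ∃ S ∈ K T, ∀ ⦃T' : D⦄ (t : T' ⟶ T), S t → P.map t.op x = 0

variable {K}

/-- sections of a sheaf agreeing on a covering sieve are equal -/
lemma sep_ext {P : Dᵒᵖ ⥤ AddCommGrpCat.{u}} (hP : Presheaf.IsSheaf K P) {T : D} {S : Sieve T}
    (hS : S ∈ K T) (x y : P.obj (op T))
    (h : ∀ ⦃T' : D⦄ (t : T' ⟶ T), S t → P.map t.op x = P.map t.op y) : x = y := by
  have h1 : Presieve.IsSheaf K (P ⋙ forget AddCommGrpCat.{u}) :=
    (isSheaf_iff_isSheaf_of_type _ _).1
      ((Presheaf.isSheaf_iff_isSheaf_forget K P (forget AddCommGrpCat.{u})).1 hP)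
  exact (h1 S hS).isSeparatedFor.ext (fun T' t ht => h t ht)

lemma LocZero.eq_zero {P : Dᵒᵖ ⥤ AddCommGrpCat.{u}} (hP : Presheaf.IsSheaf K P) {T : D}
    {x : P.obj (op T)} (hx : LocZero K P x) : x = 0 := by
  obtain ⟨S, hS, h⟩ := hx
  refine sep_ext hP hS x 0 (fun T' t ht => ?_)
  rw [h t ht, map_zero]

lemma locZero_zero (P : Dᵒᵖ ⥤ AddCommGrpCat.{u}) (T : D) : LocZero K P (0 : P.obj (op T)) :=
  ⟨⊤, K.top_mem T, fun _ _ _ => map_zero _⟩

lemma LocZero.map {P Q : Dᵒᵖ ⥤ AddCommGrpCat.{u}} (φ : P ⟶ Q) {T : D} {x : P.obj (op T)}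
    (hx : LocZero K P x) : LocZero K Q (φ.app (op T) x) := by
  obtain ⟨S, hS, h⟩ := hx
  refine ⟨S, hS, fun T' t ht => ?_⟩
  rw [← NatTrans.naturality_apply, h t ht, map_zero]

lemma LocZero.toSheafify_eq_zero {P : Dᵒᵖ ⥤ AddCommGrpCat.{u}} {T : D} {x : P.obj (op T)}
    (hx : LocZero K P x) : (CategoryTheory.toSheafify K P).app (op T) x = 0 :=
  (hx.map (CategoryTheory.toSheafify K P)).eq_zero
    ((presheafToSheaf K AddCommGrpCat.{u}).obj P).property

lemma locZero_of_toSheafify {P : Dᵒᵖ ⥤ AddCommGrpCat.{u}} {T : D} {x : P.obj (op T)}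
    (hx : (toSheafify K P).app (op T) x = 0) : LocZero K P x := by
  have h := Presheaf.equalizerSieve_mem K (toSheafify K P) x 0 (by rw [hx, map_zero])
  refine ⟨_, h, fun T' t ht => ?_⟩
  have : P.map t.op x = P.map t.op 0 := ht
  rw [this, map_zero]

lemma locZero_iff {P : Dᵒᵖ ⥤ AddCommGrpCat.{u}} {T : D} (x : P.obj (op T)) :
    LocZero K P x ↔ (toSheafify K P).app (op T) x = 0 :=
  ⟨LocZero.toSheafify_eq_zero, locZero_of_toSheafify⟩

lemma LocZero.res {P : Dᵒᵖ ⥤ AddCommGrpCat.{u}} {T T' : D} {x : P.obj (op T)}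
    (hx : LocZero K P x) (t : T' ⟶ T) : LocZero K P (P.map t.op x) := by
  rw [locZero_iff] at hx ⊢
  rw [NatTrans.naturality_apply, hx, map_zero]

/-- being locally zero is a local property -/
lemma locZero_of_cover {P : Dᵒᵖ ⥤ AddCommGrpCat.{u}} {T : D} {x : P.obj (op T)} {S : Sieve T}
    (hS : S ∈ K T) (h : ∀ ⦃T' : D⦄ (t : T' ⟶ T), S t → LocZero K P (P.map t.op x)) :
    LocZero K P x := by
  rw [locZero_iff]
  refine sep_ext ((presheafToSheaf K AddCommGrpCat.{u}).obj P).property hS _ 0 (fun T' t ht => ?_)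
  rw [← NatTrans.naturality_apply, (h t ht).toSheafify_eq_zero, map_zero]

/-- a presheaf all of whose sections are locally zero has zero sheafification -/
lemma isZero_sheafify_of_locZero {P : Dᵒᵖ ⥤ AddCommGrpCat.{u}}
    (h : ∀ (T : D) (x : P.obj (op T)), LocZero K P x) :
    IsZero ((presheafToSheaf K AddCommGrpCat.{u}).obj P) := by
  rw [IsZero.iff_id_eq_zero]
  apply Sheaf.hom_ext
  apply sheafify_hom_ext K _ _ ((presheafToSheaf K AddCommGrpCat.{u}).obj P).property
  ext T x
  have h1 := (h T.unop x).toSheafify_eq_zero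
  rw [NatTrans.comp_app, NatTrans.comp_app, ConcreteCategory.comp_apply,
    ConcreteCategory.comp_apply]
  erw [h1]
  rw [map_zero]

/-- sections of a presheaf with zero sheafification are locally zero -/
lemma locZero_of_isZero_sheafify {P : Dᵒᵖ ⥤ AddCommGrpCat.{u}}
    (h : IsZero ((presheafToSheaf K AddCommGrpCat.{u}).obj P)) {T : D} (x : P.obj (op T)) :
    LocZero K P x := by
  rw [locZero_iff]
  have h1 : IsZero (((presheafToSheaf K AddCommGrpCat.{u}).obj P).obj.obj (op T)) :=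
    ((sheafToPresheaf K AddCommGrpCat.{u} ⋙ (evaluation _ _).obj (op T)).map_isZero h)
  exact (AddCommGrpCat.subsingleton_of_isZero h1).elim _ _

/-- transport along an isomorphism of presheaves -/
lemma LocZero.of_iso {P Q : Dᵒᵖ ⥤ AddCommGrpCat.{u}} (e : P ≅ Q) {T : D} {x : P.obj (op T)}
    (hx : LocZero K Q (e.hom.app (op T) x)) : LocZero K P x := by
  have h := hx.map e.inv
  rwa [← ConcreteCategory.comp_apply, ← NatTrans.comp_app, e.hom_inv_id, NatTrans.id_app,
    ConcreteCategory.id_apply] at h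

/-- coarser locally zero implies finer locally zero -/
lemma LocZero.of_le {K' : GrothendieckTopology D} (hle : K' ≤ K) {P : Dᵒᵖ ⥤ AddCommGrpCat.{u}}
    {T : D} {x : P.obj (op T)} (hx : LocZero K' P x) : LocZero K P x := by
  obtain ⟨S, hS, h⟩ := hx
  exact ⟨S, hle _ hS, h⟩

/-- higher cohomology classes are locally zero -/
theorem locZero_cohomology (F : Sheaf K AddCommGrpCat.{u}) (m : ℕ) {T : D}
    (x : (F.cohomologyPresheaf (m + 1)).obj (op T)) :
    LocZero K (F.cohomologyPresheaf (m + 1)) x := by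
  haveI : (𝟭 D).IsContinuous K K := Functor.isContinuous_id _
  have e := RPush.rpushIso K K (𝟭 D) F (m + 1)
  haveI : PreservesFiniteLimits (CohSite.push K K (𝟭 D)) :=
    preservesFiniteLimits_of_natIso (Functor.sheafPushforwardContinuousId AddCommGrpCat.{u} K).symm
  haveI : PreservesFiniteColimits (CohSite.push K K (𝟭 D)) :=
    preservesFiniteColimits_of_natIso (Functor.sheafPushforwardContinuousId AddCommGrpCat.{u} K).symm
  have hz : IsZero ((CohSite.Rpush K K (𝟭 D) (m + 1)).obj F) :=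
    Groth.Agent.Lib.Helper5.Misc.RDExact.isZero_rightDerived_succ _ F m
  exact locZero_of_isZero_sheafify (P := (𝟭 D).op ⋙ F.cohomologyPresheaf (m + 1))
    (hz.of_iso e.symm) x

end Groth.Agent.Helper3.TwoTop3
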