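import Mathlib
import Groth.Prelude.Def_CohSite
import Groth.Agent.Lib.Helper3.RPush
import Groth.Agent.Lib.Helper5.Misc.RDComp
import Groth.Agent.Lib.Helper5.Misc.ShriekMap

/-!
# Relocalisation along a morphism with pullbacks: `f_*` as restriction along `Over.pullback f`
-/

set_option autoImplicit false
universe u
open CategoryTheory Limits Opposite

namespace Groth.Agent.Helper3.TwoTop4

variable {C : Type u} [SmallCategory C] (K : GrothendieckTopology C) {X Y : C} (f : X ⟶ Y)

/-- restriction along `Over.map f` -/
noncomputable abbrev restr : Sheaf (K.over Y) AddCommGrpCat.{u} ⥤ Sheaf (K.over X) AddCommGrpCat.{u} :=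
  CohSite.push (K.over Y) (K.over X) (Over.map f)

instance : (restr K f).IsLeftAdjoint :=
  ((Over.map f).sheafAdjunctionCocontinuous AddCommGrpCat.{u} (K.over X) (K.over Y)).isLeftAdjoint

instance : (restr K f).IsRightAdjoint :=
  ((Over.map f).sheafAdjunctionContinuous AddCommGrpCat.{u} (K.over X) (K.over Y)).isRightAdjoint

instance : PreservesFiniteLimits (restr K f) := inferInstance
instance : PreservesFiniteColimits (restr K f) := inferInstance

/-- restriction along `Over.map f` preserves injective sheaves -/
instance preservesInjectiveObjects_restr : (restr K f).PreservesInjectiveObjects := by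
  haveI := Groth.Agent.Lib.Helper5.Misc.ShriekMap.preservesFiniteLimits_sheafPullback f
    AddCommGrpCat.{u} K
  exact Functor.preservesInjectiveObjects_of_adjunction_of_preservesMonomorphisms
    ((Over.map f).sheafAdjunctionContinuous AddCommGrpCat.{u} (K.over X) (K.over Y))

/-- the relocalisation pushforward -/
noncomputable abbrev fstar : Sheaf (K.over X) AddCommGrpCat.{u} ⥤ Sheaf (K.over Y) AddCommGrpCat.{u} :=
  (Over.map f).sheafPushforwardCocontinuous AddCommGrpCat.{u} (K.over X) (K.over Y)

instance : (fstar K f).IsRightAdjoint :=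
  ((Over.map f).sheafAdjunctionCocontinuous AddCommGrpCat.{u} (K.over X) (K.over Y)).isRightAdjoint

instance : PreservesFiniteLimits (fstar K f) := inferInstance

attribute [local instance] preservesBinaryBiproducts_of_preservesBinaryProducts in
instance additive_fstar : (fstar K f).Additive := Functor.additive_of_preservesBinaryBiproducts _

section pullbacks

variable [HasPullbacksAlong f]

instance isContinuous_pullback : (Over.pullback f).IsContinuous (K.over Y) (K.over X) :=
  (Over.mapPullbackAdj f).isContinuous_of_isCocontinuous _ _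

/-- restriction along `Over.pullback f` -/
noncomputable abbrev pushV : Sheaf (K.over X) AddCommGrpCat.{u} ⥤ Sheaf (K.over Y) AddCommGrpCat.{u} :=
  CohSite.push (K.over X) (K.over Y) (Over.pullback f)

/-- restriction along `Over.map f` is left adjoint to restriction along `Over.pullback f` -/
noncomputable def pushAdj : restr K f ⊣ pushV K f :=
  (Over.mapPullbackAdj f).sheafPushforwardContinuous (E := AddCommGrpCat.{u}) (K.over X) (K.over Y)

/-- `f_*` is restriction along `Over.pullback f` -/
noncomputable def fstarIso : fstar K f ≅ pushV K f :=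
  ((Over.map f).sheafAdjunctionCocontinuous AddCommGrpCat.{u} (K.over X) (K.over Y)).rightAdjointUniq
    (pushAdj K f)

instance isContinuous_pullback_map :
    (Over.pullback f ⋙ Over.map f).IsContinuous (K.over Y) (K.over Y) :=
  Functor.isContinuous_comp _ _ _ (K.over X) _

/-- `R^i f_*` of a restricted sheaf is the sheafification of `V ↦ H^i(V ×_Y X, F')` -/
theorem nonempty_iso_sheafify (F' : Sheaf (K.over Y) AddCommGrpCat.{u}) (i : ℕ) :
    Nonempty (((fstar K f).rightDerived i).obj ((restr K f).obj F') ≅
      (presheafToSheaf (K.over Y) AddCommGrpCat.{u}).obj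
        ((Over.pullback f ⋙ Over.map f).op ⋙ F'.cohomologyPresheaf i)) := by
  have e1 := (Groth.Agent.Lib.Helper5.Misc.RDComp.natIso (fstarIso K f) i).app ((restr K f).obj F')
  have e2 := Groth.Agent.Lib.Helper5.Misc.RDComp.preIso (restr K f) (pushV K f) F' i
  have e3 : ((restr K f ⋙ pushV K f).rightDerived i).obj F' ≅
      ((CohSite.push (K.over Y) (K.over Y) (Over.pullback f ⋙ Over.map f)).rightDerived i).obj F' :=
    Iso.refl _
  have e4 := RPush.rpushIso (K.over Y) (K.over Y) (Over.pullback f ⋙ Over.map f) F' i
  exact ⟨e1 ≪≫ e2.symm ≪≫ e3 ≪≫ e4⟩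

end pullbacks

end Groth.Agent.Helper3.TwoTop4
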