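import Mathlib
import Groth.Prelude.Def_SiteCmp
import Groth.Prelude.Def_CohSite
import Groth.Agent.Lib.Helper3.TwoTop1
import Groth.Agent.Lib.Helper3.TwoTop2
import Groth.Agent.Lib.Helper3.TwoTop4
import Groth.Agent.Lib.Helper3.GSS
import Groth.Agent.Lib.Helper3.SpVan
import Groth.Agent.Lib.Helper3.RDAdd
import Groth.Agent.Lib.Helper5.Misc.RDComp

/-!
# Two topologies: collapse of the Grothendieck spectral sequence for `f'_* ∘ ε_X`
-/

set_option autoImplicit false
universe u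
open CategoryTheory Limits Opposite

namespace Groth.Agent.Helper3.TwoTop5

variable {C : Type u} [SmallCategory C] {J J' : GrothendieckTopology C} (h : J' ≤ J)

/-- if `R^q ε_{X,*} F = 0` for `1 ≤ q ≤ n` then for `i ≤ n` the sheaf `R^i f_{τ',*}(ε_{X,*}F)` is the
`i`-th cohomology of `ε_{Y,*} f_{τ,*} I` for any injective resolution `I` of `F`. -/
theorem collapse {X Y : C} (f : X ⟶ Y) (F : Sheaf (J.over X) AddCommGrpCat.{u})
    (I : InjectiveResolution F) (n i : ℕ) (hi : i ≤ n)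
    (hvan : ∀ q : ℕ, 1 ≤ q → q ≤ n →
      IsZero (((SiteCmp.epsSh (SiteCmp.over_le h X) AddCommGrpCat.{u}).rightDerived q).obj F)) :
    Nonempty (((TwoTop4.fstar J' f).rightDerived i).obj
        ((SiteCmp.epsSh (SiteCmp.over_le h X) AddCommGrpCat.{u}).obj F) ≅
      (((SiteCmp.epsSh (SiteCmp.over_le h Y) AddCommGrpCat.{u}).mapHomologicalComplex _).obj
        (((TwoTop4.fstar J f).mapHomologicalComplex _).obj I.cocomplex)).homology i) := by
  classical
  let T := SiteCmp.epsSh (SiteCmp.over_le h X) AddCommGrpCat.{u}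
  let S := TwoTop4.fstar J' f
  let S₀ := TwoTop4.fstar J f
  let T' := SiteCmp.epsSh (SiteCmp.over_le h Y) AddCommGrpCat.{u}
  haveI : T.PreservesInjectiveObjects :=
    Groth.Agent.Helper3.TwoTop1.preservesInjectiveObjects_eps (SiteCmp.over_le h X)
  have hT : ∀ Q : Sheaf (J.over X) AddCommGrpCat.{u}, Injective Q → ∀ q : ℕ, 0 < q →
      IsZero ((S.rightDerived q).obj (T.obj Q)) := by
    intro Q hQ q hq
    obtain ⟨m, rfl⟩ : ∃ m, q = m + 1 := ⟨q - 1, by omega⟩
    haveI : Injective (T.obj Q) := T.injective_obj_of_injective hQ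
    exact Functor.isZero_rightDerived_obj_injective_succ S m (T.obj Q)
  obtain ⟨E, a, hfin, hbdd, hE⟩ := Groth.Agent.Helper3.GSS.main' T S hT F
  -- vanishing of the rows 1..n
  have hrow : ∀ p q : ℤ, (1 ≤ q ∧ q ≤ n) → IsZero ((E.page 2 le_rfl).X (p, q)) := by
    intro p q hq
    obtain ⟨e⟩ := hE p q
    refine IsZero.of_iso ?_ e
    split_ifs with hpq
    · exact Groth.Agent.Helper3.RDAdd.isZero_rightDerived_obj _ _
        (hvan q.toNat (by omega) (by omega))
    · exact isZero_zero _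
  have hneg : ∀ p q : ℤ, (p < 0 ∨ q < 0) → IsZero ((E.page 2 le_rfl).X (p, q)) := by
    intro p q hq
    obtain ⟨e⟩ := hE p q
    refine IsZero.of_iso ?_ e
    rw [if_neg (by omega)]
    exact isZero_zero _
  have hz : ∀ p' : ℤ, p' ≠ (i : ℤ) → IsZero ((E.page 2 le_rfl).X (p', (i : ℤ) - p')) := by
    intro p' hp'
    by_cases h1 : p' < 0
    · exact hneg _ _ (Or.inl h1)
    · by_cases h2 : (i : ℤ) - p' < 0
      · exact hneg _ _ (Or.inr h2)
      · exact hrow _ _ (by omega)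
  have hst : SpSeq.StationaryAt E ((i : ℤ), (i : ℤ) - (i : ℤ)) 2 := by
    refine Groth.Agent.Helper3.SpVan.stationaryAt_of_isZero E 2 le_rfl _ ?_ ?_
    · intro r' hr'
      change IsZero ((E.page 2 le_rfl).X ((i : ℤ) - r', ((i : ℤ) - (i : ℤ)) - (1 - r')))
      by_cases h1 : (i : ℤ) - r' < 0
      · exact hneg _ _ (Or.inl h1)
      · exact hrow _ _ (by omega)
    · intro r' hr'
      change IsZero ((E.page 2 le_rfl).X ((i : ℤ) + r', ((i : ℤ) - (i : ℤ)) + (1 - r')))
      exact hneg _ _ (Or.inr (by omega))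
  obtain ⟨e1⟩ := Groth.Agent.Helper3.SpVan.iso_single E a 2 le_rfl (i : ℤ) (i : ℤ) (hfin _) hz hst
  obtain ⟨e2⟩ := hE (i : ℤ) ((i : ℤ) - (i : ℤ))
  rw [if_pos (by omega)] at e1
  rw [if_pos (by omega)] at e2
  simp only [Int.toNat_natCast, sub_self, Int.toNat_zero] at e1 e2
  have e4 := (S.rightDerived i).mapIso ((T.rightDerivedZeroIsoSelf).app F)
  have e5 : ((T ⋙ S).rightDerived i).obj F ≅ ((S₀ ⋙ T').rightDerived i).obj F :=
    (Groth.Agent.Lib.Helper5.Misc.RDComp.natIso (Groth.Agent.Helper3.TwoTop2.pushIso h f) i).app F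
  have e6 : ((S₀ ⋙ T').rightDerived i).obj F ≅
      ((T'.mapHomologicalComplex _).obj ((S₀.mapHomologicalComplex _).obj I.cocomplex)).homology i :=
    I.isoRightDerivedObj (S₀ ⋙ T') i ≪≫
      (HomologicalComplex.homologyFunctor _ _ i).mapIso
        (HomologicalComplex.Hom.isoOfComponents (fun _ => Iso.refl _)
          (by intros; exact (Category.id_comp _).trans (Category.comp_id _).symm))
  exact ⟨e4.symm ≪≫ e2.symm ≪≫ e1.symm ≪≫ e5 ≪≫ e6⟩

end Groth.Agent.Helper3.TwoTop5
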