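import Mathlib
import Groth.Prelude.Def_SiteCmp
import Groth.Prelude.Def_CohSite
import Groth.Prelude.Def_WeakSerre
import Groth.Agent.Lib.Helper3.CohPre
import Groth.Agent.Lib.Helper3.ShHom
import Groth.Agent.Lib.Helper3.TwoTop1
import Groth.Agent.Lib.Helper3.TwoTop2
import Groth.Agent.Lib.Helper3.TwoTop3
import Groth.Agent.Lib.Helper3.TwoTop4
import Groth.Agent.Lib.Helper3.TwoTop5
import Groth.Agent.Lib.Helper3.TwoTop7
import Groth.Agent.Lib.Helper3.TwoTop10

/-!
# Two topologies: the crux (classes killed by a `τ`-covering in `P` are `τ'`-locally zero)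
-/

set_option autoImplicit false
universe u
open CategoryTheory Limits Opposite

namespace Groth.Agent.Helper3.TwoTop11

variable {C : Type u} [SmallCategory C]

section psi

variable (K : GrothendieckTopology C) {W Z : C} (p : W ⟶ Z) [HasPullbacksAlong p]

/-- `T ↦ (T ×_Z W → Z)` -/
noncomputable abbrev vu : Over Z ⥤ Over Z := Over.pullback p ⋙ Over.map p

/-- the projection `T ×_Z W → T` -/
noncomputable abbrev cc : vu p ⟶ 𝟭 (Over Z) := (Over.mapPullbackAdj p).counit

/-- `f_* f^{-1}` -/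
noncomputable abbrev Ψ : Sheaf (K.over Z) AddCommGrpCat.{u} ⥤ Sheaf (K.over Z) AddCommGrpCat.{u} :=
  CohSite.push (K.over Z) (K.over Z) (vu p)

/-- the unit `F ⟶ f_* f^{-1} F` -/
noncomputable def η : 𝟭 (Sheaf (K.over Z) AddCommGrpCat.{u}) ⟶ Ψ K p where
  app F := ⟨Functor.whiskerRight (NatTrans.op (cc p)) F.obj⟩
  naturality F G φ := by
    apply Sheaf.hom_ext
    apply NatTrans.ext
    funext T
    exact (φ.hom.naturality ((cc p).app T.unop).op).symm

lemma η_app_hom_app (F : Sheaf (K.over Z) AddCommGrpCat.{u}) (T : (Over Z)ᵒᵖ) :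
    ((η K p).app F).hom.app T = F.obj.map ((cc p).app T.unop).op := rfl

lemma covering_cc (hcov : Sieve.ofArrows (fun _ : PUnit.{u + 1} => W) (fun _ => p) ∈ K Z)
    (T : Over Z) :
    Sieve.ofArrows (fun _ : PUnit.{u + 1} => (vu p).obj T) (fun _ => (cc p).app T) ∈
      K.over Z T := by
  rw [GrothendieckTopology.mem_over_iff, Sieve.overEquiv_ofArrows]
  refine K.superset_covering ?_ (K.pullback_stable T.hom hcov)
  intro A a ha
  obtain ⟨_, b, hb⟩ := (Sieve.mem_ofArrows_iff _ _ _).1 ha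
  refine (Sieve.mem_ofArrows_iff _ _ _).2 ⟨PUnit.unit, pullback.lift a b hb, ?_⟩
  simp only [Over.mapPullbackAdj_counit_app, Over.homMk_left]
  exact (pullback.lift_fst a b hb).symm

lemma mono_η (hcov : Sieve.ofArrows (fun _ : PUnit.{u + 1} => W) (fun _ => p) ∈ K Z)
    (F : Sheaf (K.over Z) AddCommGrpCat.{u}) : Mono ((η K p).app F) := by
  apply Sheaf.mono_of_injective
  intro T x y hxy
  refine TwoTop3.sep_ext F.property (covering_cc K p hcov T.unop) x y (fun T' t ht => ?_)
  obtain ⟨_, t', rfl⟩ := (Sieve.mem_ofArrows_iff _ _ _).1 ht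
  rw [op_comp, Functor.map_comp, ConcreteCategory.comp_apply, ConcreteCategory.comp_apply]
  exact congrArg _ hxy

instance : (Ψ K p).PreservesInjectiveObjects := by
  haveI : (TwoTop4.pushV K p).PreservesInjectiveObjects :=
    Functor.preservesInjectiveObjects_of_adjunction_of_preservesMonomorphisms (TwoTop4.pushAdj K p)
  constructor
  intro Q hQ
  haveI : Injective ((TwoTop4.restr K p).obj Q) := (TwoTop4.restr K p).injective_obj_of_injective hQ
  exact (TwoTop4.pushV K p).injective_obj_of_injective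
    (inferInstance : Injective ((TwoTop4.restr K p).obj Q))

end psi

section crux

variable {J J' : GrothendieckTopology C} (h : J' ≤ J) {W Z : C} (p : W ⟶ Z) [HasPullbacksAlong p]

/-- the homology of `ε_Z f_* f^{-1} I` in degrees `≤ n` -/
lemma prop_homology (Pr : ObjectProperty (Sheaf (J'.over Z) AddCommGrpCat.{u}))
    [WSerre.IsWeakSerre Pr] (F : Sheaf (J.over Z) AddCommGrpCat.{u}) (I : InjectiveResolution F)
    (n : ℕ)
    (HW : ∀ i, 1 ≤ i → i ≤ n → IsZero (((SiteCmp.epsSh (SiteCmp.over_le h W)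
      AddCommGrpCat.{u}).rightDerived i).obj ((TwoTop4.restr J p).obj F)))
    (H4 : ∀ q, q ≤ n → Pr (((TwoTop4.fstar J' p).rightDerived q).obj
      ((SiteCmp.epsSh (SiteCmp.over_le h W) AddCommGrpCat.{u}).obj ((TwoTop4.restr J p).obj F))))
    (q : ℕ) (hq : q ≤ n) :
    Pr ((((SiteCmp.epsSh (SiteCmp.over_le h Z) AddCommGrpCat.{u}).mapHomologicalComplex
      (ComplexShape.up ℕ)).obj (((Ψ J p).mapHomologicalComplex (ComplexShape.up ℕ)).obj
        I.cocomplex)).homology q) := by
  let IW := Groth.Agent.Lib.Helper5.Misc.RDComp.mapInjectiveResolution (TwoTop4.restr J p) I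
  obtain ⟨e⟩ := TwoTop5.collapse h p ((TwoTop4.restr J p).obj F) IW n q hq HW
  let e1 : ((TwoTop4.fstar J p).mapHomologicalComplex (ComplexShape.up ℕ)).obj IW.cocomplex ≅
      ((TwoTop4.pushV J p).mapHomologicalComplex (ComplexShape.up ℕ)).obj IW.cocomplex :=
    (NatIso.mapHomologicalComplex (TwoTop4.fstarIso J p) (ComplexShape.up ℕ)).app IW.cocomplex
  let e2 : ((TwoTop4.pushV J p).mapHomologicalComplex (ComplexShape.up ℕ)).obj IW.cocomplex ≅
      ((Ψ J p).mapHomologicalComplex (ComplexShape.up ℕ)).obj I.cocomplex :=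
    HomologicalComplex.Hom.isoOfComponents (fun _ => Iso.refl _)
      (by intros; exact (Category.id_comp _).trans (Category.comp_id _).symm)
  exact Pr.prop_of_iso (e ≪≫ (HomologicalComplex.homologyFunctor _ _ q).mapIso
    (((SiteCmp.epsSh (SiteCmp.over_le h Z) AddCommGrpCat.{u}).mapHomologicalComplex
      (ComplexShape.up ℕ)).mapIso (e1 ≪≫ e2))) (H4 q hq)

/-- the key injectivity -/
theorem mono_crux (hcov : Sieve.ofArrows (fun _ : PUnit.{u + 1} => W) (fun _ => p) ∈ J Z)
    (Pr : ObjectProperty (Sheaf (J'.over Z) AddCommGrpCat.{u})) [WSerre.IsWeakSerre Pr]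
    (hPr : ∀ Y, Pr Y → Presheaf.IsSheaf (J.over Z) Y.obj)
    (F : Sheaf (J.over Z) AddCommGrpCat.{u}) (I : InjectiveResolution F) (n : ℕ)
    (H1 : ∀ M : Sheaf (J.over Z) AddCommGrpCat.{u},
      Pr ((SiteCmp.epsSh (SiteCmp.over_le h Z) AddCommGrpCat.{u}).obj M) → ∀ i, 1 ≤ i → i ≤ n →
        IsZero (((SiteCmp.epsSh (SiteCmp.over_le h Z) AddCommGrpCat.{u}).rightDerived i).obj M))
    (H2 : Pr ((SiteCmp.epsSh (SiteCmp.over_le h Z) AddCommGrpCat.{u}).obj F))
    (HW : ∀ i, 1 ≤ i → i ≤ n → IsZero (((SiteCmp.epsSh (SiteCmp.over_le h W)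
      AddCommGrpCat.{u}).rightDerived i).obj ((TwoTop4.restr J p).obj F)))
    (H4 : ∀ q, q ≤ n → Pr (((TwoTop4.fstar J' p).rightDerived q).obj
      ((SiteCmp.epsSh (SiteCmp.over_le h W) AddCommGrpCat.{u}).obj ((TwoTop4.restr J p).obj F)))) :
    Mono (HomologicalComplex.homologyMap
      (((SiteCmp.epsSh (SiteCmp.over_le h Z) AddCommGrpCat.{u}).mapHomologicalComplex
        (ComplexShape.up ℕ)).map (TwoTop10.ηC (Ψ J p) (η J p) I.cocomplex)) (n + 1)) :=
  TwoTop10.abstract_crux (SiteCmp.epsSh (SiteCmp.over_le h Z) AddCommGrpCat.{u}) (Ψ J p) (η J p) Pr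
    (fun Y hY => TwoTop7.essImage_eps _ Y (hPr Y hY)) (mono_η J p hcov) I n H1 H2
    (prop_homology h p Pr F I n HW H4)

lemma injective_of_mono {D : Type u} [SmallCategory D] {K : GrothendieckTopology D}
    {A B : Sheaf K AddCommGrpCat.{u}} (φ : A ⟶ B) [Mono φ] (T : Dᵒᵖ) :
    Function.Injective (φ.hom.app T) := by
  haveI : Mono ((sheafToPresheaf K AddCommGrpCat.{u}).map φ) := inferInstance
  haveI : Mono (φ.hom.app T) :=
    (NatTrans.mono_iff_mono_app ((sheafToPresheaf K AddCommGrpCat.{u}).map φ)).1 inferInstance T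
  exact (AddCommGrpCat.mono_iff_injective _).1 inferInstance

/-- classes killed by `T ×_Z W → T` are `τ'`-locally zero, given the key injectivity -/
theorem locZero_of_mono (F : Sheaf (J.over Z) AddCommGrpCat.{u}) (I : InjectiveResolution F) (m : ℕ)
    (hmono : Mono (HomologicalComplex.homologyMap
      (((SiteCmp.epsSh (SiteCmp.over_le h Z) AddCommGrpCat.{u}).mapHomologicalComplex
        (ComplexShape.up ℕ)).map (TwoTop10.ηC (Ψ J p) (η J p) I.cocomplex)) m))
    (T : Over Z) (ξ : (F.cohomologyPresheaf m).obj (op T))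
    (hξ : (F.cohomologyPresheaf m).map ((cc p).app T).op ξ = 0) :
    TwoTop3.LocZero (J'.over Z) (F.cohomologyPresheaf m) ξ := by
  have hZ : J'.over Z ≤ J.over Z := SiteCmp.over_le h Z
  let G := SiteCmp.epsSh hZ AddCommGrpCat.{u}
  let U' := sheafToPresheaf (J'.over Z) AddCommGrpCat.{u}
  let U := sheafToPresheaf (J.over Z) AddCommGrpCat.{u}
  let Ic := I.cocomplex
  let Kc := ((Ψ J p).mapHomologicalComplex (ComplexShape.up ℕ)).obj Ic
  let f : Ic ⟶ Kc := TwoTop10.ηC (Ψ J p) (η J p) Ic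
  let φ := (G.mapHomologicalComplex (ComplexShape.up ℕ)).map f
  let L₁ := (G.mapHomologicalComplex (ComplexShape.up ℕ)).obj Ic
  let L₂ := (G.mapHomologicalComplex (ComplexShape.up ℕ)).obj Kc
  let P₁ : (Over Z)ᵒᵖ ⥤ AddCommGrpCat.{u} :=
    ((U'.mapHomologicalComplex (ComplexShape.up ℕ)).obj L₁).homology m
  let P₂ : (Over Z)ᵒᵖ ⥤ AddCommGrpCat.{u} :=
    ((U'.mapHomologicalComplex (ComplexShape.up ℕ)).obj L₂).homology m
  let ψ : P₁ ⟶ P₂ :=
    HomologicalComplex.homologyMap ((U'.mapHomologicalComplex (ComplexShape.up ℕ)).map φ) m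
  have nat := TwoTop7.homologyIsoSheafify_hom_naturality (J'.over Z) φ m
  haveI hmono2 : Mono ((presheafToSheaf (J'.over Z) AddCommGrpCat.{u}).map ψ) := by
    have e : (presheafToSheaf (J'.over Z) AddCommGrpCat.{u}).map ψ =
        (ShHom.homologyIsoSheafify (J'.over Z) L₁ m).inv ≫ HomologicalComplex.homologyMap φ m ≫
          (ShHom.homologyIsoSheafify (J'.over Z) L₂ m).hom := by
      rw [nat, Iso.inv_hom_id_assoc]
    rw [e]
    infer_instance
  let PI := CohPre.KP (J.over Z) I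
  let PK := (U.mapHomologicalComplex (ComplexShape.up ℕ)).obj Kc
  let g : PI ⟶ PK := (U.mapHomologicalComplex (ComplexShape.up ℕ)).map f
  let Q₁ : (Over Z)ᵒᵖ ⥤ AddCommGrpCat.{u} := PI.homology m
  let Q₂ : (Over Z)ᵒᵖ ⥤ AddCommGrpCat.{u} := PK.homology m
  let ψ₀ : Q₁ ⟶ Q₂ := HomologicalComplex.homologyMap g m
  let e₁ : P₁ ≅ Q₁ := (HomologicalComplex.homologyFunctor _ _ m).mapIso (TwoTop2.preIso hZ Ic)
  let e₂ : P₂ ≅ Q₂ := (HomologicalComplex.homologyFunctor _ _ m).mapIso (TwoTop2.preIso hZ Kc)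
  have sq0 : (U'.mapHomologicalComplex (ComplexShape.up ℕ)).map φ ≫ (TwoTop2.preIso hZ Kc).hom =
      (TwoTop2.preIso hZ Ic).hom ≫ g := by
    apply HomologicalComplex.hom_ext
    intro q
    exact (Category.comp_id _).trans (Category.id_comp _).symm
  have sq : ψ ≫ e₂.hom = e₁.hom ≫ ψ₀ := by
    change HomologicalComplex.homologyMap _ m ≫ HomologicalComplex.homologyMap
      (TwoTop2.preIso hZ Kc).hom m = HomologicalComplex.homologyMap (TwoTop2.preIso hZ Ic).hom m ≫
        HomologicalComplex.homologyMap g m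
    rw [← HomologicalComplex.homologyMap_comp, ← HomologicalComplex.homologyMap_comp, sq0]
  let pI : Q₁ ≅ F.cohomologyPresheaf m := CohPre.presheafIso (J.over Z) I m
  let x : Q₁.obj (op T) := pI.inv.app (op T) ξ
  have hx : Q₁.map ((cc p).app T).op x = 0 := by
    have h1 := NatTrans.naturality_apply pI.inv ((cc p).app T).op ξ
    refine h1.symm.trans ?_
    rw [hξ, map_zero]
  have hA : ψ₀.app (op T) x = 0 := by
    let evT := (evaluation (Over Z)ᵒᵖ AddCommGrpCat.{u}).obj (op T)
    let gsc := (HomologicalComplex.shortComplexFunctor _ _ m).map g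
    have natev := ShortComplex.mapHomologyIso_hom_naturality gsc evT
    have hnat2 := CohPre.evH_naturality PI ((cc p).app T) m
    let x₀ := (CohPre.evH PI T m).inv x
    have hA1 : (CohPre.evH PI T m).hom x₀ = x := by
      change (CohPre.evH PI T m).hom ((CohPre.evH PI T m).inv x) = x
      rw [← ConcreteCategory.comp_apply, Iso.inv_hom_id, ConcreteCategory.id_apply]
    have hA2 : HomologicalComplex.homologyMap ((NatTrans.mapHomologicalComplex
        ((evaluation (Over Z)ᵒᵖ AddCommGrpCat.{u}).map ((cc p).app T).op)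
          (ComplexShape.up ℕ)).app PI) m x₀ = 0 := by
      have hinj : Function.Injective (CohPre.evH PI ((vu p).obj T) m).hom :=
        (ConcreteCategory.bijective_of_isIso _).1
      apply hinj
      rw [map_zero]
      have h2 := congrArg (fun k => k x₀) hnat2
      simp only [ConcreteCategory.comp_apply] at h2
      refine h2.trans ?_
      refine (congrArg _ hA1).trans hx
    have hA3 := congrArg (fun k => k x₀) natev
    simp only [ConcreteCategory.comp_apply] at hA3
    have hA4 : ψ₀.app (op T) x =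
        ((PK.sc m).mapHomologyIso evT).hom (ShortComplex.homologyMap (evT.mapShortComplex.map gsc) x₀) :=
      ((congrArg (ψ₀.app (op T)) hA1.symm).trans hA3.symm)
    rw [hA4]
    have hA5 : ShortComplex.homologyMap (evT.mapShortComplex.map gsc) x₀ = 0 := hA2
    refine (congrArg (fun z => ((PK.sc m).mapHomologyIso evT).hom z) hA5).trans ?_
    exact map_zero (ConcreteCategory.hom ((PK.sc m).mapHomologyIso evT).hom)
  let y := e₁.inv.app (op T) x
  have h1 : e₁.hom.app (op T) y = x := by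
    change e₁.hom.app (op T) (e₁.inv.app (op T) x) = x
    rw [← ConcreteCategory.comp_apply, ← NatTrans.comp_app, e₁.inv_hom_id, NatTrans.id_app,
      ConcreteCategory.id_apply]
  have hy : ψ.app (op T) y = 0 := by
    have e : ψ = e₁.hom ≫ ψ₀ ≫ e₂.inv := by
      rw [← Category.assoc, ← sq, Category.assoc, Iso.hom_inv_id, Category.comp_id]
    rw [e, NatTrans.comp_app, NatTrans.comp_app, ConcreteCategory.comp_apply,
      ConcreteCategory.comp_apply, h1, hA, map_zero]
  have hts : (toSheafify (J'.over Z) P₁).app (op T) y = 0 := by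
    apply injective_of_mono ((presheafToSheaf (J'.over Z) AddCommGrpCat.{u}).map ψ) (op T)
    rw [map_zero]
    have h2 := NatTrans.congr_app (toSheafify_naturality (J'.over Z) ψ) (op T)
    rw [NatTrans.comp_app, NatTrans.comp_app] at h2
    have h3 := congrArg (fun k => k y) h2
    simp only [ConcreteCategory.comp_apply] at h3
    rw [hy, map_zero] at h3
    exact h3.symm
  have hl1 := (TwoTop3.locZero_of_toSheafify hts).map e₁.hom
  rw [h1] at hl1
  have hl2 := hl1.map pI.hom
  have h4 : pI.hom.app (op T) x = ξ := by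
    change pI.hom.app (op T) (pI.inv.app (op T) ξ) = ξ
    rw [← ConcreteCategory.comp_apply, ← NatTrans.comp_app, pI.inv_hom_id, NatTrans.id_app,
      ConcreteCategory.id_apply]
  rw [h4] at hl2
  exact hl2

/-- **the crux**: a class in `H^{n+1}_τ(T, F)` killed by `T ×_Z W → T` is `τ'`-locally zero -/
theorem crux (hcov : Sieve.ofArrows (fun _ : PUnit.{u + 1} => W) (fun _ => p) ∈ J Z)
    (Pr : ObjectProperty (Sheaf (J'.over Z) AddCommGrpCat.{u})) [WSerre.IsWeakSerre Pr]
    (hPr : ∀ Y, Pr Y → Presheaf.IsSheaf (J.over Z) Y.obj)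
    (F : Sheaf (J.over Z) AddCommGrpCat.{u}) (n : ℕ)
    (H1 : ∀ M : Sheaf (J.over Z) AddCommGrpCat.{u},
      Pr ((SiteCmp.epsSh (SiteCmp.over_le h Z) AddCommGrpCat.{u}).obj M) → ∀ i, 1 ≤ i → i ≤ n →
        IsZero (((SiteCmp.epsSh (SiteCmp.over_le h Z) AddCommGrpCat.{u}).rightDerived i).obj M))
    (H2 : Pr ((SiteCmp.epsSh (SiteCmp.over_le h Z) AddCommGrpCat.{u}).obj F))
    (HW : ∀ i, 1 ≤ i → i ≤ n → IsZero (((SiteCmp.epsSh (SiteCmp.over_le h W)
      AddCommGrpCat.{u}).rightDerived i).obj ((TwoTop4.restr J p).obj F)))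
    (H4 : ∀ q, q ≤ n → Pr (((TwoTop4.fstar J' p).rightDerived q).obj
      ((SiteCmp.epsSh (SiteCmp.over_le h W) AddCommGrpCat.{u}).obj ((TwoTop4.restr J p).obj F))))
    (T : Over Z) (ξ : (F.cohomologyPresheaf (n + 1)).obj (op T))
    (hξ : (F.cohomologyPresheaf (n + 1)).map ((cc p).app T).op ξ = 0) :
    TwoTop3.LocZero (J'.over Z) (F.cohomologyPresheaf (n + 1)) ξ :=
  locZero_of_mono h p F (injectiveResolution F) (n + 1)
    (mono_crux h p hcov Pr hPr F (injectiveResolution F) n H1 H2 HW H4) T ξ hξ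

end crux

end Groth.Agent.Helper3.TwoTop11
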