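import Mathlib
import Groth.Prelude.Def_CohSite
import Groth.Agent.Lib.Helper3.CohPre
import Groth.Agent.Lib.Helper3.RPush
import Groth.Agent.Lib.Helper3.TwoTop3
import Groth.Agent.Lib.Helper3.TwoTop4
import Groth.Agent.Lib.Helper5.Misc.RDComp

/-!
# Localisation of cohomology along `Over.map` and transfer of local vanishing
-/

set_option autoImplicit false
universe u
open CategoryTheory Limits Opposite

namespace Groth.Agent.Helper3.TwoTop12

section transfer

variable {D D' : Type u} [SmallCategory D] [SmallCategory D'] {KD : GrothendieckTopology D}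
  {KD' : GrothendieckTopology D'}

/-- local vanishing is transported along a cover preserving functor -/
lemma locZero_of_functor (w : D ⥤ D') (hw : CoverPreserving KD KD' w)
    {P : D'ᵒᵖ ⥤ AddCommGrpCat.{u}} {T : D} {x : P.obj (op (w.obj T))}
    (hx : TwoTop3.LocZero KD (w.op ⋙ P) x) : TwoTop3.LocZero KD' P x := by
  obtain ⟨S, hS, h⟩ := hx
  refine ⟨S.functorPushforward w, hw.cover_preserve hS, ?_⟩
  rintro T' t' ⟨T₀, t, a, ht, rfl⟩
  rw [op_comp, Functor.map_comp, ConcreteCategory.comp_apply]
  have h1 : P.map (w.map t).op x = 0 := h t ht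
  rw [h1, map_zero]

end transfer

variable {C : Type u} [SmallCategory C]

lemma hom_ext_terminal {Z : C} {Y : Over Z} (a b : Y ⟶ Over.mk (𝟙 Z)) : a = b := by
  ext
  have ha := Over.w a
  have hb := Over.w b
  exact ((Category.comp_id _).symm.trans ha).trans ((Category.comp_id _).symm.trans hb).symm

lemma mem_of_overEquiv {X : C} {T : Over X} (S : Sieve T) {Y : Over X} (g : Y ⟶ T)
    (hg : (Sieve.overEquiv T S).arrows g.left) : S g := by
  have h1 := (Sieve.overEquiv_iff S g.left).1 hg
  have h2 : g = (Over.homMk (𝟙 _) (by simp [Over.w]) : Y ⟶ Over.mk (g.left ≫ T.hom)) ≫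
      Over.homMk g.left := by
    ext
    simp
  rw [h2]
  exact S.downward_closed h1 _

/-- local vanishing can be checked on a covering family of the base category -/
lemma locZero_of_ofArrows (K₀ : GrothendieckTopology C) {X : C}
    (P : (Over X)ᵒᵖ ⥤ AddCommGrpCat.{u}) {T : Over X} (x : P.obj (op T))
    {ι : Type u} (V : ι → C) (v : ∀ j, V j ⟶ T.left) (hv : Sieve.ofArrows V v ∈ K₀ T.left)
    (h : ∀ j, TwoTop3.LocZero (K₀.over X) P
      (P.map (Over.homMk (v j) : Over.mk (v j ≫ T.hom) ⟶ T).op x)) :
    TwoTop3.LocZero (K₀.over X) P x := by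
  refine TwoTop3.locZero_of_cover (S := (Sieve.overEquiv T).symm (Sieve.ofArrows V v))
    (K₀.overEquiv_symm_mem_over T _ hv) ?_
  intro T' t ht
  rw [Sieve.overEquiv_symm_iff] at ht
  obtain ⟨j, a, ha⟩ := (Sieve.mem_ofArrows_iff _ _ _).1 ht
  let t' : T' ⟶ Over.mk (v j ≫ T.hom) := Over.homMk a (by
    have := Over.w t
    simp only [Over.mk_hom]
    rw [← Category.assoc, ← ha]
    exact this)
  have h2 : t = t' ≫ Over.homMk (v j) := by
    ext
    exact ha
  rw [h2, op_comp, Functor.map_comp, ConcreteCategory.comp_apply]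
  exact (h j).res t'

section loc

variable (K : GrothendieckTopology C) {V X : C} (v : V ⟶ X)

/-- cohomology of the restriction to `C/V` is the cohomology on `C/X` of the images -/
noncomputable def locIso (F : Sheaf (K.over X) AddCommGrpCat.{u}) (m : ℕ) :
    ((TwoTop4.restr K v).obj F).cohomologyPresheaf m ≅
      (Over.map v).op ⋙ F.cohomologyPresheaf m :=
  (CohPre.presheafIso (K.over V) (Groth.Agent.Lib.Helper5.Misc.RDComp.mapInjectiveResolution
      (TwoTop4.restr K v) (injectiveResolution F)) m).symm ≪≫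
    (((CohPre.KP (K.over X) (injectiveResolution F)).sc m).mapHomologyIso
      (RPush.W (Over.map v))) ≪≫
    (RPush.W (Over.map v)).mapIso (CohPre.presheafIso (K.over X) (injectiveResolution F) m)

/-- local vanishing on `C/X` follows from local vanishing of the localised class on `C/V` -/
theorem locZero_of_restr (K₀ : GrothendieckTopology C) (F : Sheaf (K.over X) AddCommGrpCat.{u})
    (m : ℕ) (S₀ : Over V) (ξ : (F.cohomologyPresheaf m).obj (op ((Over.map v).obj S₀)))
    (hloc : TwoTop3.LocZero (K₀.over V) (((TwoTop4.restr K v).obj F).cohomologyPresheaf m)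
      ((locIso K v F m).inv.app (op S₀) ξ)) :
    TwoTop3.LocZero (K₀.over X) (F.cohomologyPresheaf m) ξ := by
  have h1 := hloc.map (locIso K v F m).hom
  have h2 : (locIso K v F m).hom.app (op S₀) ((locIso K v F m).inv.app (op S₀) ξ) = ξ := by
    rw [← ConcreteCategory.comp_apply, ← NatTrans.comp_app, Iso.inv_hom_id, NatTrans.id_app,
      ConcreteCategory.id_apply]
  rw [h2] at h1
  exact locZero_of_functor (Over.map v) (K₀.over_map_coverPreserving v) h1

end loc

end Groth.Agent.Helper3.TwoTop12
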