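import Mathlib
import Groth.Agent.Lib.Helper5.Misc.ExtAdjAcyc
import Groth.Agent.Lib.Helper3.TwoTop6

/-!
# The adjunction map on `Ext` under partial vanishing of `Rⁱ R`

For an adjunction `L ⊣ R` with `L` exact and `F` with `Rⁱ R (F) = 0` for `1 ≤ i ≤ n`, the map
`Φ : Ext^{n+1}(X, R F) → Ext^{n+1}(L X, F)` is injective and its image contains the classes killed
by a jointly epimorphic family `X_α ⟶ X`.
-/

set_option autoImplicit false
universe w w' t v v' u u'
open CategoryTheory CategoryTheory.Limits Abelian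

namespace Groth.Agent.Helper3.TwoTop8

open Groth.Agent.Lib.Helper5.ExtAdjAcyc

variable {A : Type u} [Category.{v} A] [Abelian A] {B : Type u'} [Category.{v'} B] [Abelian B]
  [HasExt.{w} A] [HasExt.{w'} B]
  {L : B ⥤ A} {R : A ⥤ B} (adj : L ⊣ R) [L.Additive] [R.Additive]
  [PreservesFiniteLimits L] [PreservesFiniteColimits L]

/-- naturality of `Φ` in the first variable -/
lemma Φ_precomp {X X' : B} (x : X' ⟶ X) (F : A) (n : ℕ) (e : Ext.{w'} X (R.obj F) n) :
    Φ adj X' F n ((Ext.mk₀ x).comp e (zero_add n)) =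
      (Ext.mk₀ (L.map x)).comp (Φ adj X F n e) (zero_add n) := by
  rw [Φ_apply, Φ_apply, Ext.mapExactFunctor_comp, Ext.mapExactFunctor_mk₀]
  exact Ext.comp_assoc _ _ _ (zero_add n) (add_zero n) (by omega)

lemma key' {S' : ShortComplex B} (hS' : S'.ShortExact) {S : ShortComplex A} (hS : S.ShortExact)
    (φ : S'.map L ⟶ S) :
    (hS'.extClass.mapExactFunctor L).comp (Ext.mk₀ φ.τ₁) (add_zero 1) =
      (Ext.mk₀ φ.τ₃).comp hS.extClass (zero_add 1) := by
  rw [Ext.mapExactFunctor_extClass]
  exact ShortComplex.ShortExact.extClass_naturality (hS'.map_of_exact L) hS φ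

section family

variable {X : B} {ι : Type t} {Xα : ι → B} (x : ∀ α, Xα α ⟶ X)

/-- `Φ^m` is injective and its image contains the classes killed by the family -/
def Good (F : A) (m : ℕ) : Prop :=
  Function.Injective (Φ adj X F m) ∧
    ∀ e : Ext.{w} (L.obj X) F m, (∀ α, (Ext.mk₀ (L.map (x α))).comp e (zero_add m) = 0) →
      ∃ e', Φ adj X F m e' = e

theorem good_one (hx : ∀ {Y : B} (g : X ⟶ Y), (∀ α, x α ≫ g = 0) → g = 0)
    (S : ShortComplex A) (hS : S.ShortExact) [Injective S.X₂] : Good adj x S.X₁ 1 := by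
  haveI : PreservesFiniteLimits R := by
    have := adj.rightAdjoint_preservesLimits
    infer_instance
  have := hS.mono_f
  have hR := (Functor.preservesFiniteLimits_iff_forall_exact_map_and_mono R).1 inferInstance S hS
  haveI : Mono (R.map S.f) := hR.2
  let S' : ShortComplex B :=
    ShortComplex.mk (R.map S.f) (cokernel.π (R.map S.f)) (cokernel.condition _)
  have hS' : S'.ShortExact := { exact := ShortComplex.exact_cokernel (R.map S.f) }
  let j : cokernel (R.map S.f) ⟶ R.obj S.X₃ :=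
    cokernel.desc (R.map S.f) (R.map S.g) (by rw [← R.map_comp, S.zero, R.map_zero])
  have hπj : cokernel.π (R.map S.f) ≫ j = R.map S.g := cokernel.π_desc _ _ _
  haveI : Mono j := hR.1.mono_cokernelDesc
  let t : L.obj (cokernel (R.map S.f)) ⟶ S.X₃ := L.map j ≫ adj.counit.app S.X₃
  have ht : ∀ {Z : B} (a : Z ⟶ cokernel (R.map S.f)),
      adj.homEquiv Z S.X₃ (L.map a ≫ t) = a ≫ j := by
    intro Z a
    rw [adj.homEquiv_naturality_left]
    congr 1
    exact (congrArg (adj.homEquiv _ _) (adj.homEquiv_counit _ _ j).symm).trans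
      (Equiv.apply_symm_apply _ _)
  let φ : S'.map L ⟶ S := ShortComplex.homMk (adj.counit.app S.X₁) (adj.counit.app S.X₂) t
    (adj.counit_naturality S.f).symm (by
      change adj.counit.app S.X₂ ≫ S.g =
        L.map (cokernel.π (R.map S.f)) ≫ L.map j ≫ adj.counit.app S.X₃
      rw [← L.map_comp_assoc, hπj]
      exact (adj.counit_naturality S.g).symm)
  haveI : Injective (R.obj S.X₂) := adj.map_injective _ inferInstance
  haveI : Injective S'.X₂ := (inferInstance : Injective (R.obj S.X₂))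
  have hk : (hS'.extClass.mapExactFunctor L).comp (Ext.mk₀ (adj.counit.app S.X₁)) (add_zero 1) =
      (Ext.mk₀ t).comp hS.extClass (zero_add 1) := key' hS' hS φ
  have star : ∀ g' : X ⟶ cokernel (R.map S.f),
      Φ adj X S.X₁ 1 ((Ext.mk₀ g').comp hS'.extClass (zero_add 1)) =
        (Ext.mk₀ (L.map g' ≫ t)).comp hS.extClass (zero_add 1) := by
    intro g'
    rw [Φ_apply, Ext.mapExactFunctor_comp, Ext.mapExactFunctor_mk₀,
      Ext.comp_assoc _ _ _ (zero_add 1) (add_zero 1) (by omega), hk,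
      ← Ext.comp_assoc _ _ _ (zero_add 0) (zero_add 1) (by omega), Ext.mk₀_comp_mk₀]
  constructor
  · refine (injective_iff_map_eq_zero (Φ adj X S.X₁ 1)).2 (fun e he => ?_)
    obtain ⟨x₃, rfl⟩ := Ext.covariant_sequence_exact₁ X hS' e (Ext.eq_zero_of_injective _) rfl
    obtain ⟨g', rfl⟩ := (Ext.mk₀_bijective _ _).2 x₃
    rw [star g'] at he
    obtain ⟨x₂, hx₂⟩ := Ext.covariant_sequence_exact₃ (L.obj X) hS (Ext.mk₀ (L.map g' ≫ t)) rfl he
    obtain ⟨u, rfl⟩ := (Ext.mk₀_bijective _ _).2 x₂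
    rw [Ext.mk₀_comp_mk₀] at hx₂
    have hu : u ≫ S.g = L.map g' ≫ t := (Ext.mk₀_bijective _ _).1 hx₂
    have h1 : adj.homEquiv X S.X₂ u ≫ cokernel.π (R.map S.f) = g' := by
      rw [← cancel_mono j, Category.assoc, hπj, ← adj.homEquiv_naturality_right, hu, ht]
    rw [← h1, ← Ext.mk₀_comp_mk₀, Ext.comp_assoc _ _ _ (zero_add 0) (zero_add 1) (by omega)]
    have h2 : (Ext.mk₀ (cokernel.π (R.map S.f))).comp hS'.extClass (zero_add 1) = 0 :=
      hS'.comp_extClass
    rw [h2, Ext.comp_zero]
  · intro e he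
    obtain ⟨x₃, rfl⟩ := Ext.covariant_sequence_exact₁ (L.obj X) hS e (Ext.eq_zero_of_injective _) rfl
    obtain ⟨gt, rfl⟩ := (Ext.mk₀_bijective _ _).2 x₃
    let g : X ⟶ R.obj S.X₃ := adj.homEquiv X S.X₃ gt
    have hα : ∀ α, x α ≫ g ≫ cokernel.π j = 0 := by
      intro α
      have h1 := he α
      rw [← Ext.comp_assoc _ _ _ (zero_add 0) (zero_add 1) (by omega), Ext.mk₀_comp_mk₀] at h1
      obtain ⟨x₂, hx₂⟩ := Ext.covariant_sequence_exact₃ (L.obj (Xα α)) hS _ rfl h1
      obtain ⟨u, rfl⟩ := (Ext.mk₀_bijective _ _).2 x₂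
      rw [Ext.mk₀_comp_mk₀] at hx₂
      have hu : u ≫ S.g = L.map (x α) ≫ gt := (Ext.mk₀_bijective _ _).1 hx₂
      have h2 : x α ≫ g = (adj.homEquiv _ _ u ≫ cokernel.π (R.map S.f)) ≫ j := by
        rw [Category.assoc, hπj, ← adj.homEquiv_naturality_right, hu,
          adj.homEquiv_naturality_left]
      rw [← Category.assoc, h2, Category.assoc, cokernel.condition, comp_zero]
    have hg : g ≫ cokernel.π j = 0 := hx _ hα
    let g' := Abelian.monoLift j g hg
    have hg' : g' ≫ j = g := Abelian.monoLift_comp j g hg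
    refine ⟨(Ext.mk₀ g').comp hS'.extClass (zero_add 1), ?_⟩
    rw [star g']
    have h3 : L.map g' ≫ t = gt := by
      change L.map g' ≫ L.map j ≫ adj.counit.app S.X₃ = gt
      rw [← L.map_comp_assoc, hg']
      exact (adj.homEquiv_counit _ _ g).symm.trans ((adj.homEquiv X S.X₃).symm_apply_apply gt)
    rw [h3]

theorem good_succ (S : ShortComplex A) (hS : S.ShortExact) [Injective S.X₂]
    (hRS : (RS R S).ShortExact) (m : ℕ) (hQ : Good adj x S.X₃ (m + 1)) :
    Good adj x S.X₁ (m + 1 + 1) := by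
  haveI : Injective (R.obj S.X₂) := adj.map_injective _ inferInstance
  haveI : Injective (RS R S).X₂ := (inferInstance : Injective (R.obj S.X₂))
  constructor
  · refine (injective_iff_map_eq_zero (Φ adj X S.X₁ (m + 1 + 1))).2 (fun e he => ?_)
    obtain ⟨e', rfl⟩ := Ext.covariant_sequence_exact₁ X hRS e (Ext.eq_zero_of_injective _) rfl
    rw [Φ_comp_extClass adj X hS hRS (m + 1) e'] at he
    obtain ⟨y, hy⟩ := Ext.covariant_sequence_exact₃ (L.obj X) hS (Φ adj X S.X₃ (m + 1) e') rfl he
    rw [Ext.eq_zero_of_injective y, Ext.zero_comp] at hy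
    have h0 : e' = 0 := (injective_iff_map_eq_zero _).1 hQ.1 e' hy.symm
    rw [h0, Ext.zero_comp]
  · intro e he
    obtain ⟨e₁, rfl⟩ := Ext.covariant_sequence_exact₁ (L.obj X) hS e (Ext.eq_zero_of_injective _) rfl
    have hk : ∀ α, (Ext.mk₀ (L.map (x α))).comp e₁ (zero_add (m + 1)) = 0 := by
      intro α
      have h1 := he α
      rw [← Ext.comp_assoc _ _ _ (zero_add (m + 1)) rfl (by omega)] at h1
      obtain ⟨y, hy⟩ := Ext.covariant_sequence_exact₃ (L.obj (Xα α)) hS _ rfl h1
      rw [Ext.eq_zero_of_injective y, Ext.zero_comp] at hy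
      exact hy.symm
    obtain ⟨e₂, rfl⟩ := hQ.2 e₁ hk
    exact ⟨e₂.comp hRS.extClass rfl, Φ_comp_extClass adj X hS hRS (m + 1) e₂⟩

/-- **Partial vanishing**: if `Rⁱ R (F) = 0` for `1 ≤ i ≤ n` then `Φ^{n+1}` is injective and its
image contains the classes killed by a jointly epimorphic family. -/
theorem good_of_vanishing [EnoughInjectives A]
    (hx : ∀ {Y : B} (g : X ⟶ Y), (∀ α, x α ≫ g = 0) → g = 0) (n : ℕ) :
    ∀ (F : A), (∀ i, 1 ≤ i → i ≤ n → IsZero ((R.rightDerived i).obj F)) →
      Good adj x F (n + 1) := by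
  haveI : PreservesFiniteLimits R := by
    have := adj.rightAdjoint_preservesLimits
    infer_instance
  induction n with
  | zero =>
    intro F _
    let I : InjectivePresentation F := Classical.arbitrary _
    let S := ShortComplex.mk _ _ (cokernel.condition I.f)
    have hS : S.ShortExact := { exact := ShortComplex.exact_cokernel I.f }
    haveI : Injective S.X₂ := I.injective
    exact good_one adj x hx S hS
  | succ n ih =>
    intro F hF
    let I : InjectivePresentation F := Classical.arbitrary _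
    let S := ShortComplex.mk _ _ (cokernel.condition I.f)
    have hS : S.ShortExact := { exact := ShortComplex.exact_cokernel I.f }
    haveI : Injective S.X₂ := I.injective
    haveI : Injective I.J := I.injective
    have hI : ∀ p, IsZero ((R.rightDerived (p + 1)).obj S.X₂) := fun p =>
      Functor.isZero_rightDerived_obj_injective_succ R p I.J
    have hRS : (RS R S).ShortExact :=
      TwoTop6.shortExact_map_of_isZero R S hS (hF 1 le_rfl (by omega))
    have hQ : ∀ i, 1 ≤ i → i ≤ n → IsZero ((R.rightDerived i).obj S.X₃) := by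
      intro i h1 h2
      obtain ⟨p, rfl⟩ : ∃ p, i = p + 1 := ⟨i - 1, by omega⟩
      exact TwoTop6.isZero_X₃_of R S hS (p + 1) (hI p) (hF (p + 1 + 1) (by omega) (by omega))
    exact good_succ adj x S hS hRS n (ih S.X₃ hQ)

end family

end Groth.Agent.Helper3.TwoTop8
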