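import Mathlib
import Groth.Prelude.Def_SiteCmp
import Groth.Prelude.Def_CohSite
import Groth.Prelude.Def_FreeSh
import Groth.Agent.Lib.Helper3.TwoTop1
import Groth.Agent.Lib.Helper3.TwoTop3
import Groth.Agent.Lib.Helper3.TwoTop8

/-!
# Two topologies: the comparison map `H^m_{K'}(T, ε_* F) → H^m_K(T, F)` under partial vanishing
-/

set_option autoImplicit false
universe u
open CategoryTheory Limits Opposite Abelian

namespace Groth.Agent.Helper3.TwoTop9

variable {D : Type u} [SmallCategory D] {K K' : GrothendieckTopology D}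

instance [hf : Fact (K' ≤ K)] : PreservesFiniteColimits (TwoTop1.Linv (J := K) (J' := K')) := by
  have := (TwoTop1.adj hf.out).leftAdjoint_preservesColimits
  infer_instance

lemma W_of_le (hle : K' ≤ K) {P Q : Dᵒᵖ ⥤ AddCommGrpCat.{u}} (f : P ⟶ Q) (hf : K'.W f) :
    K.W f :=
  fun Z hZ => hf Z (fun E => Presieve.isSheaf_of_le _ hle (hZ E))

/-- the generating presheaf of the free sheaf -/
noncomputable abbrev PT (T : D) : Dᵒᵖ ⥤ AddCommGrpCat.{u} := yoneda.obj T ⋙ AddCommGrpCat.free.{u}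

variable (K K') in
/-- the comparison `ℤ_T ⟶ ε⁻¹ ℤ'_T` of free sheaves -/
noncomputable def σ (T : D) : CohCx.freeSheaf K T ⟶
    (TwoTop1.Linv (J := K) (J' := K')).obj (CohCx.freeSheaf K' T) :=
  (presheafToSheaf K AddCommGrpCat.{u}).map (toSheafify K' (PT T))

lemma isIso_σ (hle : K' ≤ K) (T : D) : IsIso (σ K K' T) :=
  (K.W_iff _).1 (W_of_le hle _ (K'.W_toSheafify (PT T)))

lemma σ_naturality {V T : D} (g : V ⟶ T) :
    σ K K' V ≫ (TwoTop1.Linv (J := K) (J' := K')).map (CohCx.freeSheafMap K' g) =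
      CohCx.freeSheafMap K g ≫ σ K K' T := by
  change (presheafToSheaf K AddCommGrpCat.{u}).map (toSheafify K' (PT V)) ≫
      (presheafToSheaf K AddCommGrpCat.{u}).map
        (sheafifyMap K' (Functor.whiskerRight (yoneda.map g) AddCommGrpCat.free.{u})) =
    (presheafToSheaf K AddCommGrpCat.{u}).map
        (Functor.whiskerRight (yoneda.map g) AddCommGrpCat.free.{u}) ≫
      (presheafToSheaf K AddCommGrpCat.{u}).map (toSheafify K' (PT T))
  rw [← Functor.map_comp, ← Functor.map_comp, toSheafify_naturality]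

variable [hf : Fact (K' ≤ K)] (hle : K' ≤ K)

/-- the comparison map on cohomology -/
noncomputable def aT (F : Sheaf K AddCommGrpCat.{u}) (m : ℕ) (T : D) :
    Ext.{u} (CohCx.freeSheaf K' T) ((SiteCmp.epsSh hle AddCommGrpCat.{u}).obj F) m →+
      Ext.{u} (CohCx.freeSheaf K T) F m :=
  ((Ext.mk₀ (σ K K' T)).precomp F (zero_add m)).comp
    (Groth.Agent.Lib.Helper5.ExtAdjAcyc.Φ (TwoTop1.adj hle) (CohCx.freeSheaf K' T) F m)

lemma aT_apply (F : Sheaf K AddCommGrpCat.{u}) (m : ℕ) (T : D)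
    (e : Ext.{u} (CohCx.freeSheaf K' T) ((SiteCmp.epsSh hle AddCommGrpCat.{u}).obj F) m) :
    aT hle F m T e = (Ext.mk₀ (σ K K' T)).comp
      (Groth.Agent.Lib.Helper5.ExtAdjAcyc.Φ (TwoTop1.adj hle) (CohCx.freeSheaf K' T) F m e)
      (zero_add m) := rfl

lemma aT_naturality (F : Sheaf K AddCommGrpCat.{u}) (m : ℕ) {V T : D} (g : V ⟶ T)
    (e : Ext.{u} (CohCx.freeSheaf K' T) ((SiteCmp.epsSh hle AddCommGrpCat.{u}).obj F) m) :
    aT hle F m V ((Ext.mk₀ (CohCx.freeSheafMap K' g)).comp e (zero_add m)) =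
      (Ext.mk₀ (CohCx.freeSheafMap K g)).comp (aT hle F m T e) (zero_add m) := by
  rw [aT_apply, aT_apply, TwoTop8.Φ_precomp,
    ← Ext.comp_assoc _ _ _ (zero_add 0) (zero_add m) (by omega), Ext.mk₀_comp_mk₀,
    σ_naturality, ← Ext.mk₀_comp_mk₀,
    Ext.comp_assoc _ _ _ (zero_add 0) (zero_add m) (by omega)]

/-- the comparison map as a morphism of presheaves -/
noncomputable def aNat (F : Sheaf K AddCommGrpCat.{u}) (m : ℕ) :
    ((SiteCmp.epsSh hle AddCommGrpCat.{u}).obj F).cohomologyPresheaf m ⟶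
      F.cohomologyPresheaf m where
  app T := AddCommGrpCat.ofHom (aT hle F m T.unop)
  naturality := by
    intro T V φ
    obtain ⟨g, rfl⟩ : ∃ g : V.unop ⟶ T.unop, φ = g.op := ⟨φ.unop, rfl⟩
    ext e
    exact aT_naturality hle F m g e

lemma aNat_app (F : Sheaf K AddCommGrpCat.{u}) (m : ℕ) (T : D)
    (e : Ext.{u} (CohCx.freeSheaf K' T) ((SiteCmp.epsSh hle AddCommGrpCat.{u}).obj F) m) :
    (aNat hle F m).app (op T) e = aT hle F m T e := rfl

lemma precomp_iso_injective {X Y : Sheaf K AddCommGrpCat.{u}} (s : X ⟶ Y) [IsIso s]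
    (F : Sheaf K AddCommGrpCat.{u}) (m : ℕ) (e : Ext.{u} Y F m) :
    (Ext.mk₀ (inv s)).comp ((Ext.mk₀ s).comp e (zero_add m)) (zero_add m) = e := by
  rw [← Ext.comp_assoc _ _ _ (zero_add 0) (zero_add m) (by omega), Ext.mk₀_comp_mk₀,
    IsIso.inv_hom_id, Ext.mk₀_id_comp]

lemma precomp_iso_injective' {X Y : Sheaf K AddCommGrpCat.{u}} (s : X ⟶ Y) [IsIso s]
    (F : Sheaf K AddCommGrpCat.{u}) (m : ℕ) (e : Ext.{u} X F m) :
    (Ext.mk₀ s).comp ((Ext.mk₀ (inv s)).comp e (zero_add m)) (zero_add m) = e := by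
  rw [← Ext.comp_assoc _ _ _ (zero_add 0) (zero_add m) (by omega), Ext.mk₀_comp_mk₀,
    IsIso.hom_inv_id, Ext.mk₀_id_comp]

/-- morphisms out of a free sheaf are detected on a covering sieve -/
lemma jointly_epi (T : D) (S : Sieve T) (hS : S ∈ K' T) {Y : Sheaf K' AddCommGrpCat.{u}}
    (g : CohCx.freeSheaf K' T ⟶ Y)
    (hg : ∀ α : (Σ V : D, {t : V ⟶ T // S t}), CohCx.freeSheafMap K' α.2.1 ≫ g = 0) : g = 0 := by
  apply (CohFree.homEquivSect K' T Y).injective
  rw [map_zero]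
  refine TwoTop3.sep_ext Y.property hS _ 0 (fun V t ht => ?_)
  have h1 := CohFree.evalGen_freeSheafMap_comp K' t Y g
  rw [hg ⟨V, t, ht⟩, map_zero] at h1
  rw [map_zero]
  exact h1.symm

/-- **Part B**: under partial vanishing of `Rⁱ ε_*`, the comparison map in degree `n + 1` is
injective and its image contains the `K'`-locally zero classes. -/
theorem partB (F : Sheaf K AddCommGrpCat.{u}) (n : ℕ)
    (hvan : ∀ i, 1 ≤ i → i ≤ n →
      IsZero (((SiteCmp.epsSh hle AddCommGrpCat.{u}).rightDerived i).obj F)) :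
    (∀ T : D, Function.Injective (aT hle F (n + 1) T)) ∧
      ∀ (T : D) (ξ : (F.cohomologyPresheaf (n + 1)).obj (op T)),
        TwoTop3.LocZero K' (F.cohomologyPresheaf (n + 1)) ξ →
          ∃ θ, aT hle F (n + 1) T θ = ξ := by
  constructor
  · intro T
    have hgood := TwoTop8.good_of_vanishing (TwoTop1.adj hle)
      (X := CohCx.freeSheaf K' T) (ι := PUnit.{u + 1}) (Xα := fun _ => CohCx.freeSheaf K' T)
      (fun _ => 𝟙 _) (fun g hg => by simpa using hg PUnit.unit) n F hvan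
    haveI := isIso_σ hle T
    intro e₁ e₂ h
    apply hgood.1
    rw [aT_apply, aT_apply] at h
    rw [← precomp_iso_injective (σ K K' T) F (n + 1) (Groth.Agent.Lib.Helper5.ExtAdjAcyc.Φ
      (TwoTop1.adj hle) (CohCx.freeSheaf K' T) F (n + 1) e₁), h, precomp_iso_injective]
  · intro T ξ hξ
    obtain ⟨S, hS, hS0⟩ := hξ
    haveI := isIso_σ hle T
    have hgood := TwoTop8.good_of_vanishing (TwoTop1.adj hle)
      (X := CohCx.freeSheaf K' T) (ι := (Σ V : D, {t : V ⟶ T // S t}))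
      (Xα := fun α => CohCx.freeSheaf K' α.1)
      (fun α => CohCx.freeSheafMap K' α.2.1) (fun g hg => jointly_epi T S hS g hg) n F hvan
    let ξ' : Ext.{u} (CohCx.freeSheaf K T) F (n + 1) := ξ
    obtain ⟨θ, hθ⟩ := hgood.2 ((Ext.mk₀ (inv (σ K K' T))).comp ξ' (zero_add (n + 1))) (by
      rintro ⟨V, t, ht⟩
      haveI := isIso_σ hle V
      have h0 : (Ext.mk₀ (CohCx.freeSheafMap K t)).comp ξ' (zero_add (n + 1)) = 0 := hS0 t ht
      have h1 : (TwoTop1.Linv (J := K) (J' := K')).map (CohCx.freeSheafMap K' t) ≫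
          inv (σ K K' T) = inv (σ K K' V) ≫ CohCx.freeSheafMap K t := by
        rw [IsIso.eq_inv_comp, ← Category.assoc, IsIso.comp_inv_eq]
        exact σ_naturality t
      change (Ext.mk₀ ((TwoTop1.Linv (J := K) (J' := K')).map (CohCx.freeSheafMap K' t))).comp
        ((Ext.mk₀ (inv (σ K K' T))).comp ξ' (zero_add (n + 1))) (zero_add (n + 1)) = 0
      rw [← Ext.comp_assoc _ _ _ (zero_add 0) (zero_add (n + 1)) (by omega), Ext.mk₀_comp_mk₀, h1,
        ← Ext.mk₀_comp_mk₀, Ext.comp_assoc _ _ _ (zero_add 0) (zero_add (n + 1)) (by omega), h0,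
        Ext.comp_zero])
    refine ⟨θ, ?_⟩
    rw [aT_apply, hθ]
    exact precomp_iso_injective' (σ K K' T) F (n + 1) ξ'

end Groth.Agent.Helper3.TwoTop9
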