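import Mathlib
import Groth.Prelude.Def_SiteCmp
import Groth.Prelude.Def_CohSite
import Groth.Prelude.Def_WeakSerre
import Groth.Agent.S9075
import Groth.Agent.Lib.Helper3.RPush
import Groth.Agent.Lib.Helper3.TwoTop3
import Groth.Agent.Lib.Helper3.TwoTop4
import Groth.Agent.Lib.Helper3.TwoTop9
import Groth.Agent.Lib.Helper3.TwoTop11
import Groth.Agent.Lib.Helper3.TwoTop12

/-!
# Comparing two topologies: vanishing of `R^i ε_{X,*}` on `A_X`
-/

set_option autoImplicit false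
universe u
open CategoryTheory Limits Opposite

namespace Groth.Agent.Helper3.TwoTop13

variable {C : Type u} [SmallCategory C]

/-- the situation of the comparison of two topologies -/
structure Situation (J J' : GrothendieckTopology C) (P : MorphismProperty C)
    (A' : ∀ X : C, ObjectProperty (Sheaf (J'.over X) AddCommGrpCat.{u})) : Prop where
  h1 : ∀ ⦃X Y : C⦄ (f : X ⟶ Y), P f → ∀ ⦃Y' : C⦄ (g : Y' ⟶ Y),
      ∃ (W : C) (p : W ⟶ Y') (q : W ⟶ X), IsPullback p q g f ∧ P p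
  h2 : ∀ ⦃X Y : C⦄ (f : X ⟶ Y) (F' : Sheaf (J'.over Y) AddCommGrpCat.{u}), A' Y F' →
      A' X ((CohSite.push (J'.over Y) (J'.over X) (Over.map f)).obj F')
  h3 : ∀ (X : C) (F' : Sheaf (J'.over X) AddCommGrpCat.{u}), A' X F' →
      Presheaf.IsSheaf (J.over X) F'.obj
  h4 : ∀ ⦃X Y : C⦄ (f : X ⟶ Y)
      [((Over.map f).sheafPushforwardCocontinuous AddCommGrpCat.{u} (J'.over X) (J'.over Y)).Additive],
      P f → ∀ (F' : Sheaf (J'.over X) AddCommGrpCat.{u}), A' X F' → ∀ i : ℕ,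
        A' Y ((((Over.map f).sheafPushforwardCocontinuous AddCommGrpCat.{u} (J'.over X)
          (J'.over Y)).rightDerived i).obj F')
  h5 : ∀ (U : C) (S : Sieve U), S ∈ J U → ∃ (ι : Type u) (V : ι → C) (v : ∀ j, V j ⟶ U),
      Sieve.ofArrows V v ∈ J' U ∧ ∀ j, ∃ (W : C) (w : W ⟶ V j), P w ∧
        Sieve.ofArrows (fun _ : PUnit.{u + 1} => W) (fun _ => w) ∈ J (V j) ∧
        ∃ (κ : Type u) (Wk : κ → C) (wk : ∀ k, Wk k ⟶ W), Sieve.ofArrows Wk wk ∈ J' W ∧
          ∀ k, S.arrows (wk k ≫ w ≫ v j)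

variable {J J' : GrothendieckTopology C} (h : J' ≤ J)
  (P : MorphismProperty C)
  (A' : ∀ X : C, ObjectProperty (Sheaf (J'.over X) AddCommGrpCat.{u}))

/-- the vanishing statement `(V_n)` -/
def Vn (n : ℕ) : Prop :=
  ∀ (Z : C) (G : Sheaf (J.over Z) AddCommGrpCat.{u}),
    A' Z ((SiteCmp.epsSh (SiteCmp.over_le h Z) AddCommGrpCat.{u}).obj G) →
    ∀ i : ℕ, 1 ≤ i → i ≤ n →
      IsZero (((SiteCmp.epsSh (SiteCmp.over_le h Z) AddCommGrpCat.{u}).rightDerived i).obj G)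

variable {h P A'}

lemma restr_mem (sit : Situation J J' P A') {V X : C} (v : V ⟶ X)
    (F : Sheaf (J.over X) AddCommGrpCat.{u})
    (hF : A' X ((SiteCmp.epsSh (SiteCmp.over_le h X) AddCommGrpCat.{u}).obj F)) :
    A' V ((SiteCmp.epsSh (SiteCmp.over_le h V) AddCommGrpCat.{u}).obj
      ((TwoTop4.restr J v).obj F)) :=
  sit.h2 v _ hF

lemma map_map_apply {D : Type u} [SmallCategory D] (H : Dᵒᵖ ⥤ AddCommGrpCat.{u}) {A B E : D}
    (a : A ⟶ B) (b : B ⟶ E) (x : H.obj (op E)) :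
    H.map a.op (H.map b.op x) = H.map (a ≫ b).op x := by
  rw [op_comp, H.map_comp, ConcreteCategory.comp_apply]

variable [∀ X : C, WSerre.IsWeakSerre (A' X)]

/-- **main lemma**: a class over the final object of `C/V` whose restriction to a `τ`-covering
`W → V` in `P` is `τ'`-locally zero is `τ'`-locally zero. -/
theorem main_lemma (sit : Situation J J' P A') (n : ℕ) (hVn : Vn h A' n) {W V : C} (w : W ⟶ V)
    (hw : P w) (hcov : Sieve.ofArrows (fun _ : PUnit.{u + 1} => W) (fun _ => w) ∈ J V)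
    (F : Sheaf (J.over V) AddCommGrpCat.{u})
    (hF : A' V ((SiteCmp.epsSh (SiteCmp.over_le h V) AddCommGrpCat.{u}).obj F))
    (ξ : (F.cohomologyPresheaf (n + 1)).obj (op (Over.mk (𝟙 V))))
    (hloc : TwoTop3.LocZero (J'.over V) (F.cohomologyPresheaf (n + 1))
      ((F.cohomologyPresheaf (n + 1)).map
        (Over.homMk w (by simp) : Over.mk w ⟶ Over.mk (𝟙 V)).op ξ)) :
    TwoTop3.LocZero (J'.over V) (F.cohomologyPresheaf (n + 1)) ξ := by
  classical
  let H := F.cohomologyPresheaf (n + 1)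
  let pt : Over V := Over.mk (𝟙 V)
  let fw : Over.mk w ⟶ pt := Over.homMk w (by simp [pt])
  have hZ := SiteCmp.over_le h V
  haveI : Fact (J'.over V ≤ J.over V) := ⟨hZ⟩
  obtain ⟨hinj, hsurj⟩ := TwoTop9.partB hZ F n (hVn V F hF)
  obtain ⟨θ, hθ⟩ := hsurj (Over.mk w) (H.map fw.op ξ) hloc
  let F' := (SiteCmp.epsSh hZ AddCommGrpCat.{u}).obj F
  let θ' : CohSite.HU F' (n + 1) (Over.mk w) := θ
  have hθeq : ∀ (W' : C) (p q : W' ⟶ W) (hW : IsPullback p q w w),
      CohSite.res F' (n + 1) (Over.homMk p rfl : Over.mk (p ≫ w) ⟶ Over.mk w) θ' =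
        CohSite.res F' (n + 1) (Over.homMk q hW.w.symm : Over.mk (p ≫ w) ⟶ Over.mk w) θ' := by
    intro W' p q hW
    apply hinj (Over.mk (p ≫ w))
    have e1 := TwoTop9.aT_naturality hZ F (n + 1)
      (Over.homMk p rfl : Over.mk (p ≫ w) ⟶ Over.mk w) θ
    have e2 := TwoTop9.aT_naturality hZ F (n + 1)
      (Over.homMk q hW.w.symm : Over.mk (p ≫ w) ⟶ Over.mk w) θ
    refine e1.trans (Eq.trans ?_ e2.symm)
    rw [hθ]
    change H.map (Over.homMk p rfl : Over.mk (p ≫ w) ⟶ Over.mk w).op (H.map fw.op ξ) =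
      H.map (Over.homMk q hW.w.symm : Over.mk (p ≫ w) ⟶ Over.mk w).op (H.map fw.op ξ)
    have hpq : (Over.homMk p rfl : Over.mk (p ≫ w) ⟶ Over.mk w) ≫ fw =
        (Over.homMk q hW.w.symm : Over.mk (p ≫ w) ⟶ Over.mk w) ≫ fw :=
      TwoTop12.hom_ext_terminal _ _
    rw [map_map_apply (D := Over V) H, map_map_apply (D := Over V) H, hpq]
  obtain ⟨ι, Zf, g, hg, hzero⟩ := Groth.Agent.S9075.result h P A' sit.h1 sit.h2 sit.h3 sit.h4
    sit.h5 w hw hcov F' hF n θ' hθeq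
  refine TwoTop12.locZero_of_ofArrows J' H (T := pt) ξ Zf g hg (fun i => ?_)
  obtain ⟨W', p, q, hpb, hPp⟩ := sit.h1 w hw (g i)
  let tv : Zf i ⟶ V := g i ≫ pt.hom
  let Ti : Over V := Over.mk tv
  let ti : Ti ⟶ pt := Over.homMk (g i)
  let FZ := (TwoTop4.restr J tv).obj F
  have hFZ : A' (Zf i) ((SiteCmp.epsSh (SiteCmp.over_le h (Zf i)) AddCommGrpCat.{u}).obj FZ) :=
    restr_mem (h := h) sit tv F hF
  let ptZ : Over (Zf i) := Over.mk (𝟙 (Zf i))
  let iZ : (Over.map tv).obj ptZ ≅ Ti := Over.isoMk (Iso.refl _) (by simp [ptZ, Ti])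
  let ξZ := (TwoTop12.locIso J tv F (n + 1)).inv.app (op ptZ) (H.map iZ.hom.op (H.map ti.op ξ))
  suffices hs : TwoTop3.LocZero (J'.over (Zf i)) (FZ.cohomologyPresheaf (n + 1)) ξZ by
    have h1 := TwoTop12.locZero_of_restr J tv J' F (n + 1) ptZ (H.map iZ.hom.op (H.map ti.op ξ)) hs
    have h2 := h1.res iZ.inv
    rw [map_map_apply (D := Over V) H, iZ.inv_hom_id] at h2
    change TwoTop3.LocZero (J'.over V) H (H.map (𝟙 Ti).op (H.map ti.op ξ)) at h2
    rw [op_id, H.map_id, ConcreteCategory.id_apply] at h2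
    exact h2
  haveI : HasPullbacksAlong p := fun g' => by
    obtain ⟨_, _, _, hp', _⟩ := sit.h1 p hPp g'
    exact hp'.hasPullback
  have hcovp : Sieve.ofArrows (fun _ : PUnit.{u + 1} => W') (fun _ => p) ∈ J (Zf i) := by
    refine J.superset_covering ?_ (J.pullback_stable (g i) hcov)
    intro A a ha
    obtain ⟨_, b, hb⟩ := (Sieve.mem_ofArrows_iff _ _ _).1 ha
    exact (Sieve.mem_ofArrows_iff _ _ _).2 ⟨PUnit.unit, hpb.lift a b hb, (hpb.lift_fst a b hb).symm⟩
  have hFW := restr_mem (h := h) sit p FZ hFZ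
  refine TwoTop11.crux h p hcovp (A' (Zf i)) (sit.h3 (Zf i)) FZ n (hVn (Zf i)) hFZ
    (hVn W' _ hFW) (fun q' _ => sit.h4 p hPp _ hFW q') ptZ ξZ ?_
  -- the class vanishes on `Z_i ×_V W`
  have hq0 : H.map ((Over.homMk q rfl : Over.mk (q ≫ w) ⟶ Over.mk w) ≫ fw).op ξ = 0 := by
    have e1 := TwoTop9.aT_naturality hZ F (n + 1)
      (Over.homMk q rfl : Over.mk (q ≫ w) ⟶ Over.mk w) θ
    have e0 : (Abelian.Ext.mk₀ (CohCx.freeSheafMap (J'.over V)
        (Over.homMk q rfl : Over.mk (q ≫ w) ⟶ Over.mk w))).comp θ (zero_add (n + 1)) = 0 :=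
      hzero i W' p q hpb
    rw [e0, map_zero, hθ] at e1
    rw [← map_map_apply (D := Over V) H]
    exact e1.symm
  let s := (TwoTop11.cc p).app ptZ
  let e : (Over.map tv).obj ((TwoTop11.vu p).obj ptZ) ⟶ Over.mk (q ≫ w) :=
    Over.homMk (pullback.snd (𝟙 (Zf i)) p) (by
      simp only [tv, pt, ptZ, Over.mk_hom, Functor.comp_obj, Over.map_obj_hom, Over.pullback_obj_hom,
        Category.comp_id, Category.assoc, hpb.w])
  have hd : (Over.map tv).map s ≫ iZ.hom ≫ ti =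
      e ≫ ((Over.homMk q rfl : Over.mk (q ≫ w) ⟶ Over.mk w) ≫ fw) :=
    TwoTop12.hom_ext_terminal _ _
  have hnat := NatTrans.naturality_apply (TwoTop12.locIso J tv F (n + 1)).inv s.op
    (H.map iZ.hom.op (H.map ti.op ξ))
  refine hnat.symm.trans ?_
  have hz : ((Over.map tv).op ⋙ H).map s.op (H.map iZ.hom.op (H.map ti.op ξ)) = 0 := by
    change H.map ((Over.map tv).map s).op (H.map iZ.hom.op (H.map ti.op ξ)) = 0
    rw [map_map_apply (D := Over V) H, map_map_apply (D := Over V) H, Category.assoc, hd,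
      ← map_map_apply (D := Over V) H, hq0, map_zero]
  rw [hz, map_zero]

/-- the inductive step -/
theorem step (sit : Situation J J' P A') (n : ℕ) (hVn : Vn h A' n) (X : C)
    (F : Sheaf (J.over X) AddCommGrpCat.{u})
    (hF : A' X ((SiteCmp.epsSh (SiteCmp.over_le h X) AddCommGrpCat.{u}).obj F)) :
    IsZero (((SiteCmp.epsSh (SiteCmp.over_le h X) AddCommGrpCat.{u}).rightDerived (n + 1)).obj F) := by
  classical
  have hX := SiteCmp.over_le h X
  haveI := SiteCmp.idContinuous hX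
  let H := F.cohomologyPresheaf (n + 1)
  have e := RPush.rpushIso (J.over X) (J'.over X) (𝟭 (Over X)) F (n + 1)
  refine IsZero.of_iso (TwoTop3.isZero_sheafify_of_locZero (P := (𝟭 (Over X)).op ⋙ H) ?_) e
  intro T ξ
  change TwoTop3.LocZero (J'.over X) H ξ
  obtain ⟨S₁, hS₁, hξ₁⟩ := TwoTop3.locZero_cohomology F n ξ
  have hS₁' : Sieve.overEquiv T S₁ ∈ J T.left := (GrothendieckTopology.mem_over_iff _ _).1 hS₁
  obtain ⟨ι, Vf, v, hv, hw⟩ := sit.h5 T.left (Sieve.overEquiv T S₁) hS₁'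
  refine TwoTop12.locZero_of_ofArrows J' H ξ Vf v hv (fun j => ?_)
  obtain ⟨W, w, hPw, hwcov, κ, Wk, wk, hwk, hS⟩ := hw j
  let tv : Vf j ⟶ X := v j ≫ T.hom
  let Tj : Over X := Over.mk tv
  let tj : Tj ⟶ T := Over.homMk (v j)
  let FV := (TwoTop4.restr J tv).obj F
  have hFV : A' (Vf j) ((SiteCmp.epsSh (SiteCmp.over_le h (Vf j)) AddCommGrpCat.{u}).obj FV) :=
    restr_mem (h := h) sit tv F hF
  let ptV : Over (Vf j) := Over.mk (𝟙 (Vf j))
  let iV : (Over.map tv).obj ptV ≅ Tj := Over.isoMk (Iso.refl _) (by simp [ptV, Tj])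
  let ξV := (TwoTop12.locIso J tv F (n + 1)).inv.app (op ptV) (H.map iV.hom.op (H.map tj.op ξ))
  suffices hs : TwoTop3.LocZero (J'.over (Vf j)) (FV.cohomologyPresheaf (n + 1)) ξV by
    have h1 := TwoTop12.locZero_of_restr J tv J' F (n + 1) ptV (H.map iV.hom.op (H.map tj.op ξ)) hs
    have h2 := h1.res iV.inv
    rw [map_map_apply (D := Over X) H, iV.inv_hom_id] at h2
    change TwoTop3.LocZero (J'.over X) H (H.map (𝟙 Tj).op (H.map tj.op ξ)) at h2
    rw [op_id, H.map_id, ConcreteCategory.id_apply] at h2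
    exact h2
  refine main_lemma (h := h) sit n hVn w hPw hwcov FV hFV ξV ?_
  let HV := FV.cohomologyPresheaf (n + 1)
  let fw : Over.mk w ⟶ ptV := Over.homMk w (by simp [ptV])
  refine TwoTop12.locZero_of_ofArrows J' HV (T := Over.mk w) (HV.map fw.op ξV) Wk wk hwk (fun k => ?_)
  let sk : Over.mk (wk k ≫ (Over.mk w).hom) ⟶ ptV :=
    (Over.homMk (wk k) : Over.mk (wk k ≫ (Over.mk w).hom) ⟶ Over.mk w) ≫ fw
  have hz0 : HV.map sk.op ξV = 0 := by
    have hnat := NatTrans.naturality_apply (TwoTop12.locIso J tv F (n + 1)).inv sk.op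
      (H.map iV.hom.op (H.map tj.op ξ))
    refine hnat.symm.trans ?_
    have hz : ((Over.map tv).op ⋙ H).map sk.op (H.map iV.hom.op (H.map tj.op ξ)) = 0 := by
      change H.map ((Over.map tv).map sk).op (H.map iV.hom.op (H.map tj.op ξ)) = 0
      rw [map_map_apply (D := Over X) H, map_map_apply (D := Over X) H]
      apply hξ₁
      apply TwoTop12.mem_of_overEquiv
      have hl : (((Over.map tv).map sk ≫ iV.hom) ≫ tj).left = wk k ≫ w ≫ v j := by
        simp [sk, fw, iV, tj]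
      rw [hl]
      exact hS k
    rw [hz, map_zero]
  have hz1 : HV.map (Over.homMk (wk k) : Over.mk (wk k ≫ (Over.mk w).hom) ⟶ Over.mk w).op
      (HV.map fw.op ξV) = 0 := by
    rw [map_map_apply (D := Over (Vf j)) HV]
    exact hz0
  rw [hz1]
  exact TwoTop3.locZero_zero _ _

/-- **vanishing of `R^i ε_{X,*}` on `A_X`** -/
theorem main (sit : Situation J J' P A') : ∀ n, Vn h A' n := by
  intro n
  induction n with
  | zero =>
    intro Z G hG i h1 h2
    omega
  | succ n ih =>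
    intro Z G hG i h1 h2
    rcases Nat.lt_or_ge i (n + 1) with hlt | hge
    · exact ih Z G hG i h1 (by omega)
    · obtain rfl : i = n + 1 := by omega
      exact step (h := h) sit n ih Z G hG

end Groth.Agent.Helper3.TwoTop13
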