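import Mathlib
import Groth.Agent.Lib.Helper3.FE6
import Groth.Agent.Lib.Helper3.FE10
import Groth.Agent.Lib.Helper3.FE11
import Groth.Agent.Lib.Helper3.FE13
import Groth.Agent.Lib.Helper3.TwoTop13

/-!
# The fppf–étale comparison: vanishing of `R^i ε_*` on stalk-cartesian sheaves (helper3)
-/

set_option autoImplicit false
universe u
open CategoryTheory CategoryTheory.Limits AlgebraicGeometry Opposite

namespace Groth.Agent.Helper3.FE14

set_option backward.isDefEq.respectTransparency false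
set_option linter.style.haveILetI false
set_option linter.unusedSectionVars false

open Groth.Agent.Helper3.FE1 Groth.Agent.Helper3.FE2 Groth.Agent.Helper3.FE8
  Groth.Agent.Helper3.FE12 Groth.Agent.Helper3.FE13

/-- the fppf topology on schemes -/
abbrev Jf : GrothendieckTopology Scheme.{u} := Scheme.fppfPrecoverage.toGrothendieck

/-- the étale topology on schemes -/
abbrev Je : GrothendieckTopology Scheme.{u} := Scheme.etalePrecoverage.toGrothendieck

lemma Je_le_Jf : Je.{u} ≤ Jf.{u} :=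
  Precoverage.toGrothendieck_mono BigSite.etalePrecoverage_le_fppfPrecoverage

/-- finite locally free surjective morphisms in the model -/
def P : MorphismProperty C.{u} := fun _ _ f =>
  IsFinite f.down ∧ Flat f.down ∧ LocallyOfFinitePresentation f.down ∧ Surjective f.down

/-- the transported class of stalk-cartesian sheaves -/
def A' (X : C.{u}) : ObjectProperty (Sheaf ((JC Je).over X) AddCommGrpCat.{u + 1}) :=
  (stalkCartProp (dn.obj X)).inverseImage (tr Je X)

instance (X : C.{u}) : WSerre.IsWeakSerre (A' X) :=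
  isWeakSerre_inverseImage_of_exact (tr Je X) (stalkCartProp (dn.obj X))

instance : (up.{u}).IsEquivalence := inferInstanceAs (E.{u}).functor.IsEquivalence

lemma up_map_down {X Y : C.{u}} (f : X ⟶ Y) : up.map f.down = f := rfl

lemma h1 ⦃X Y : C.{u}⦄ (f : X ⟶ Y) (hf : P f) ⦃Y' : C.{u}⦄ (g : Y' ⟶ Y) :
    ∃ (W : C.{u}) (p : W ⟶ Y') (q : W ⟶ X), IsPullback p q g f ∧ P p := by
  refine ⟨up.obj (pullback g.down f.down), ⟨pullback.fst g.down f.down⟩,
    ⟨pullback.snd g.down f.down⟩, ?_, ?_⟩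
  · exact (IsPullback.of_hasPullback g.down f.down).map up
  · exact ⟨MorphismProperty.pullback_fst (P := @IsFinite) _ _ hf.1,
      MorphismProperty.pullback_fst (P := @Flat) _ _ hf.2.1,
      MorphismProperty.pullback_fst (P := @LocallyOfFinitePresentation) _ _ hf.2.2.1,
      MorphismProperty.pullback_fst (P := @Surjective) _ _ hf.2.2.2⟩

lemma h2 ⦃X Y : C.{u}⦄ (f : X ⟶ Y) (F' : Sheaf ((JC Je).over Y) AddCommGrpCat.{u + 1})
    (hF : A' Y F') :
    A' X ((CohSite.push ((JC Je).over Y) ((JC Je).over X) (Over.map f)).obj F') := by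
  change StalkCart _
  exact (stalkCartProp (dn.obj X)).prop_of_iso ((pullIso Je f).app F').symm
    (Groth.Agent.Helper3.FE11.stalkCart_pullBig (dn.map f) ((tr Je Y).obj F') hF)

lemma h4 ⦃X Y : C.{u}⦄ (f : X ⟶ Y)
    [((Over.map f).sheafPushforwardCocontinuous AddCommGrpCat.{u + 1} ((JC Je).over X)
      ((JC Je).over Y)).Additive]
    (hf : P f) (F' : Sheaf ((JC Je).over X) AddCommGrpCat.{u + 1}) (hF : A' X F') (i : ℕ) :
    A' Y ((((Over.map f).sheafPushforwardCocontinuous AddCommGrpCat.{u + 1} ((JC Je).over X)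
      ((JC Je).over Y)).rightDerived i).obj F') := by
  haveI : IsFinite (dn.map f) := hf.1
  change StalkCart _
  have e := derivedTransport (fS Je f) (fD Je f) (tr Je X) (tr Je Y) (pushIso Je f) F' i
  exact (stalkCartProp (dn.obj Y)).prop_of_iso e.symm
    (Groth.Agent.Helper3.FE10.stalkCart_RpushBig (dn.map f) ((tr Je X).obj F') hF i)

lemma h3 (X : C.{u}) (F' : Sheaf ((JC Je).over X) AddCommGrpCat.{u + 1}) (hF : A' X F') :
    Presheaf.IsSheaf ((JC Jf).over X) F'.obj := by
  have hs : Presheaf.IsSheaf (Jf.over (dn.obj X)) ((tr Je X).obj F').obj :=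
    Groth.Agent.Helper3.FE6.isSheaf_fppf ((tr Je X).obj F') hF
  let Gs : Sheaf (Jf.over (dn.obj X)) AddCommGrpCat.{u + 1} := ⟨((tr Je X).obj F').obj, hs⟩
  have h2 := ((shEq Jf X).functor.obj Gs).property
  have iso : ((shEq Jf X).functor.obj Gs).obj ≅ F'.obj :=
    (Functor.isoWhiskerRight (NatIso.op (eX X).counitIso).symm F'.obj :
      ((eX X).inverse ⋙ (eX X).functor).op ⋙ F'.obj ≅ (𝟭 _).op ⋙ F'.obj) ≪≫ Iso.refl _
  exact (Presheaf.isSheaf_of_iso_iff iso).1 h2

lemma h5 (U : C.{u}) (R : Sieve U) (hR : R ∈ JC Jf U) :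
    ∃ (ι : Type (u + 1)) (V : ι → C.{u}) (v : ∀ j, V j ⟶ U),
      Sieve.ofArrows V v ∈ JC Je U ∧ ∀ j, ∃ (W : C.{u}) (w : W ⟶ V j), P w ∧
        Sieve.ofArrows (fun _ : PUnit.{u + 2} => W) (fun _ => w) ∈ JC Jf (V j) ∧
        ∃ (κ : Type (u + 1)) (Wk : κ → C.{u}) (wk : ∀ k, Wk k ⟶ W),
          Sieve.ofArrows Wk wk ∈ JC Je W ∧ ∀ k, R.arrows (wk k ≫ w ≫ v j) := by
  have hR' : R.functorPushforward dn ∈ Scheme.fppfTopology (dn.obj U) := (mem_JC_iff Jf R).1 hR
  choose S' V e π he hx hπs hπf hπfl hπfp hRe using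
    Groth.Agent.Helper3.FE6.fppf_refine _ hR'
  refine ⟨ULift.{u + 1} (dn.obj U), fun j => up.obj (S' j.down), fun j => ⟨e j.down⟩, ?_, ?_⟩
  · rw [mem_JC_iff, Sieve.functorPushforward_ofArrows]
    refine Je.superset_covering ?_ ((Scheme.Cover.mkOfCovers (P := @Etale) (dn.obj U)
      (fun x => S' x) (fun x => e x) (fun y => by
        obtain ⟨z, hz⟩ := hx y
        exact ⟨y, z, hz⟩) he).mem_grothendieckTopology)
    rw [Sieve.ofArrows, Sieve.generate_le_iff]
    rintro _ _ ⟨x⟩
    exact Sieve.ofArrows_mk (fun j : ULift.{u + 1} (dn.obj U) => S' j.down)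
      (fun j => e j.down) (ULift.up x)
  · intro j
    refine ⟨up.obj (V j.down), ⟨π j.down⟩, ⟨hπf _, hπfl _, hπfp _, hπs _⟩, ?_, PUnit.{u + 2},
      fun _ => up.obj (V j.down), fun _ => 𝟙 _, ?_, ?_⟩
    · rw [mem_JC_iff, Sieve.functorPushforward_ofArrows]
      refine Jf.superset_covering ?_ ((Scheme.Cover.mkOfCovers
        (P := @Flat ⊓ @LocallyOfFinitePresentation) PUnit.{u + 1}
        (fun _ : PUnit.{u + 1} => V j.down) (fun _ => π j.down) (fun y => by
          obtain ⟨z, hz⟩ := (hπs j.down).surj y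
          exact ⟨⟨⟩, z, hz⟩) (fun _ => ⟨hπfl _, hπfp _⟩)).mem_grothendieckTopology)
      rw [Sieve.ofArrows, Sieve.generate_le_iff]
      rintro _ _ ⟨x⟩
      exact Sieve.ofArrows_mk (fun _ : PUnit.{u + 2} => V j.down) (fun _ => π j.down) PUnit.unit
    · have : Sieve.ofArrows (fun _ : PUnit.{u + 2} => up.obj (V j.down))
          (fun _ => 𝟙 (up.obj (V j.down))) = ⊤ := by
        rw [← Sieve.id_mem_iff_eq_top]
        exact Sieve.ofArrows_mk _ _ PUnit.unit
      rw [this]
      exact (JC Je).top_mem _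
    · intro k
      obtain ⟨Z, g, hh, hg, hcomp⟩ := hRe j.down
      have hc : (𝟙 (up.obj (V j.down)) ≫ (⟨π j.down⟩ : up.obj (V j.down) ⟶ up.obj (S' j.down)) ≫
          (⟨e j.down⟩ : up.obj (S' j.down) ⟶ U)) =
          (⟨hh⟩ : up.obj (V j.down) ⟶ Z) ≫ g := by
        apply ULift.ext
        change 𝟙 _ ≫ π j.down ≫ e j.down = hh ≫ g.down
        rw [Category.id_comp]
        exact hcomp
      rw [hc]
      exact R.downward_closed hg _

/-- the situation of the fppf–étale comparison -/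
theorem sit : Groth.Agent.Helper3.TwoTop13.Situation (JC Jf.{u}) (JC Je.{u}) P A' where
  h1 := h1
  h2 := h2
  h3 := h3
  h4 := fun _ _ f _ hf F' hF i => h4 f hf F' hF i
  h5 := h5

/-- **the fppf–étale comparison**: an fppf sheaf whose underlying big étale sheaf is
stalk-cartesian is `ε_*`-acyclic -/
theorem fppf_acyclic (S : Scheme.{u}) (G' : BigSite.Ab Scheme.fppfPrecoverage S)
    (hG : StalkCart ((BigSite.eps Scheme.etalePrecoverage Scheme.fppfPrecoverage S
      AddCommGrpCat.{u + 1}).obj G')) (i : ℕ) (hi : 0 < i) :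
    IsZero ((BigSite.Reps Scheme.etalePrecoverage Scheme.fppfPrecoverage S i).obj G') := by
  let X : C.{u} := up.obj S
  let GD : Sheaf ((JC Jf).over X) AddCommGrpCat.{u + 1} := (shEq Jf X).functor.obj G'
  have eG : (tr Jf X).obj GD ≅ G' := ((shEq Jf X).unitIso.app G').symm
  have hA : A' X ((SiteCmp.epsSh (SiteCmp.over_le (JC_mono Je_le_Jf) X)
      AddCommGrpCat.{u + 1}).obj GD) := by
    change StalkCart _
    exact (stalkCartProp S).prop_of_iso
      ((epsSch Je_le_Jf S).mapIso eG.symm ≪≫ ((epsIso X Je_le_Jf).app GD).symm) hG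
  have hz := Groth.Agent.Helper3.TwoTop13.main (h := JC_mono Je_le_Jf) sit i X GD hA i hi le_rfl
  have e := derivedTransport (epsSch Je_le_Jf (dn.obj X)) (epsC X Je_le_Jf) (tr Jf X) (tr Je X)
    (epsIso X Je_le_Jf) GD i
  have hz' : IsZero (((epsSch Je_le_Jf (dn.obj X)).rightDerived i).obj ((tr Jf X).obj GD)) :=
    ((tr Je X).map_isZero hz).of_iso e.symm
  exact hz'.of_iso (((epsSch Je_le_Jf (dn.obj X)).rightDerived i).mapIso eG.symm)

end Groth.Agent.Helper3.FE14
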