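import Mathlib
import Groth.Agent.Lib.Helper3.GSS
import Groth.Agent.Lib.Helper3.SpVan
import Groth.Agent.Lib.Helper3.RDAdd
import Groth.Agent.Lib.Helper5.Misc.RDComp

/-!
# Right derived functors of a composite on an acyclic object (helper3)
-/

set_option autoImplicit false
universe v v' v'' u u' u''
open CategoryTheory Limits Opposite

namespace Groth.Agent.Helper3.FE15

variable {C : Type u} [Category.{v} C] [Abelian C] [HasInjectiveResolutions C]
  {C' : Type u'} [Category.{v'} C'] [Abelian C'] [HasInjectiveResolutions C']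
  {C'' : Type u''} [Category.{v''} C''] [Abelian C'']
  (T : C ⥤ C') [T.Additive] [PreservesFiniteLimits T] [T.PreservesInjectiveObjects]
  (S : C' ⥤ C'') [S.Additive] [PreservesFiniteLimits S]

/-- if `A` is `T`-acyclic and `T` preserves injectives then `R^n(T ⋙ S) A ≅ R^n S (T A)` -/
theorem acyclic_comp (A : C) (hA : ∀ q : ℕ, 0 < q → IsZero ((T.rightDerived q).obj A)) (n : ℕ) :
    Nonempty (((T ⋙ S).rightDerived n).obj A ≅ (S.rightDerived n).obj (T.obj A)) := by
  classical
  have hT : ∀ Q : C, Injective Q → ∀ q : ℕ, 0 < q →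
      IsZero ((S.rightDerived q).obj (T.obj Q)) := by
    intro Q hQ q hq
    obtain ⟨m, rfl⟩ : ∃ m, q = m + 1 := ⟨q - 1, by omega⟩
    haveI : Injective (T.obj Q) := T.injective_obj_of_injective hQ
    exact Functor.isZero_rightDerived_obj_injective_succ S m (T.obj Q)
  obtain ⟨E, a, hfin, hbdd, hE⟩ := Groth.Agent.Helper3.GSS.main' T S hT A
  have hrow : ∀ p q : ℤ, 1 ≤ q → IsZero ((E.page 2 le_rfl).X (p, q)) := by
    intro p q hq
    obtain ⟨e⟩ := hE p q
    refine IsZero.of_iso ?_ e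
    split_ifs with hpq
    · exact Groth.Agent.Helper3.RDAdd.isZero_rightDerived_obj _ _
        (hA q.toNat (by omega))
    · exact isZero_zero _
  have hneg : ∀ p q : ℤ, (p < 0 ∨ q < 0) → IsZero ((E.page 2 le_rfl).X (p, q)) := by
    intro p q hq
    obtain ⟨e⟩ := hE p q
    refine IsZero.of_iso ?_ e
    rw [if_neg (by omega)]
    exact isZero_zero _
  have hz : ∀ p' : ℤ, p' ≠ (n : ℤ) → IsZero ((E.page 2 le_rfl).X (p', (n : ℤ) - p')) := by
    intro p' hp'
    by_cases h1 : p' < 0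
    · exact hneg _ _ (Or.inl h1)
    · by_cases h2 : (n : ℤ) - p' < 0
      · exact hneg _ _ (Or.inr h2)
      · exact hrow _ _ (by omega)
  have hst : SpSeq.StationaryAt E ((n : ℤ), (n : ℤ) - (n : ℤ)) 2 := by
    refine Groth.Agent.Helper3.SpVan.stationaryAt_of_isZero E 2 le_rfl _ ?_ ?_
    · intro r' hr'
      change IsZero ((E.page 2 le_rfl).X ((n : ℤ) - r', ((n : ℤ) - (n : ℤ)) - (1 - r')))
      by_cases h1 : (n : ℤ) - r' < 0
      · exact hneg _ _ (Or.inl h1)
      · exact hrow _ _ (by omega)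
    · intro r' hr'
      change IsZero ((E.page 2 le_rfl).X ((n : ℤ) + r', ((n : ℤ) - (n : ℤ)) + (1 - r')))
      exact hneg _ _ (Or.inr (by omega))
  obtain ⟨e1⟩ := Groth.Agent.Helper3.SpVan.iso_single E a 2 le_rfl (n : ℤ) (n : ℤ) (hfin _) hz hst
  obtain ⟨e2⟩ := hE (n : ℤ) ((n : ℤ) - (n : ℤ))
  rw [if_pos (by omega)] at e1
  rw [if_pos (by omega)] at e2
  simp only [Int.toNat_natCast, sub_self, Int.toNat_zero] at e1 e2
  have e4 := (S.rightDerived n).mapIso ((T.rightDerivedZeroIsoSelf).app A)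
  exact ⟨e1 ≪≫ e2 ≪≫ e4⟩

end Groth.Agent.Helper3.FE15
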