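import Mathlib
import Groth.Agent.Lib.Helper3.FE6
import Groth.Agent.Lib.Helper3.FE3

/-!
# The pullback to the big fppf site versus the pullback to the big étale site (helper3)
-/

set_option autoImplicit false
universe u
open CategoryTheory CategoryTheory.Limits AlgebraicGeometry Opposite

namespace Groth.Agent.Helper3.FE7

set_option backward.isDefEq.respectTransparency false
set_option linter.style.haveILetI false
set_option linter.unusedSectionVars false

open Groth.Agent.Helper3.FE1 Groth.Agent.Helper3.FE2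

variable (S : Scheme.{u})

/-- `ε_*` from the big fppf to the big étale site -/
noncomputable abbrev epsS : EtFppf.AbF S ⥤ AbS S :=
  BigSite.eps Scheme.etalePrecoverage Scheme.fppfPrecoverage S AddCommGrpCat.{u + 1}

/-- `ε⁻¹` -/
noncomputable abbrev epsPullS : AbS S ⥤ EtFppf.AbF S :=
  BigSite.epsPull Scheme.etalePrecoverage Scheme.fppfPrecoverage S

/-- `ε_*` is fully faithful -/
noncomputable def epsFF : (epsS S).FullyFaithful where
  preimage f := ⟨f.hom⟩

instance : (epsS S).Full := (epsFF S).full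
instance : (epsS S).Faithful := (epsFF S).faithful

/-- `a_* = π_* ε_*` -/
noncomputable def aPushIso :
    EtFppf.aPush S ≅ epsS S ⋙ BigSite.resEt Scheme.etalePrecoverage S :=
  Iso.refl _

/-- the composite adjunction -/
noncomputable def adjC :
    BigSite.piEtPull Scheme.etalePrecoverage S ⋙ epsPullS S ⊣ EtFppf.aPush S :=
  ((BigSite.piEtAdj Scheme.etalePrecoverage S).comp
    (BigSite.epsAdj Scheme.etalePrecoverage Scheme.fppfPrecoverage S)).ofNatIsoRight
      (aPushIso S).symm

/-- `a⁻¹ = ε⁻¹ π⁻¹` -/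
noncomputable def aPullIso :
    EtFppf.aPull S ≅ BigSite.piEtPull Scheme.etalePrecoverage S ⋙ epsPullS S :=
  Adjunction.leftAdjointUniq (EtFppf.aAdj S) (adjC S)

variable {S}

/-- `π⁻¹ F` as an fppf sheaf -/
noncomputable def Gp (F : EtCoh.Ab S) : EtFppf.AbF S :=
  ⟨((BigSite.piEtPull Scheme.etalePrecoverage S).obj F).obj,
    FE6.isSheaf_fppf _ (FE3.stalkCart_piEtPull F)⟩

/-- `ε_*` of the fppf sheaf `π⁻¹ F` is `π⁻¹ F` -/
noncomputable def epsGp (F : EtCoh.Ab S) :
    (epsS S).obj (Gp F) ≅ (BigSite.piEtPull Scheme.etalePrecoverage S).obj F :=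
  (fullyFaithfulSheafToPresheaf _ _).preimageIso (Iso.refl _)

instance (H : EtFppf.AbF S) :
    IsIso ((BigSite.epsAdj Scheme.etalePrecoverage Scheme.fppfPrecoverage S).counit.app H) :=
  inferInstance

/-- `a⁻¹ F` is the fppf sheaf `π⁻¹ F` -/
noncomputable def aPullObjIso (F : EtCoh.Ab S) : (EtFppf.aPull S).obj F ≅ Gp F :=
  (aPullIso S).app F ≪≫ (epsPullS S).mapIso (epsGp F).symm ≪≫
    asIso ((BigSite.epsAdj Scheme.etalePrecoverage Scheme.fppfPrecoverage S).counit.app (Gp F))

end Groth.Agent.Helper3.FE7
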