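import Mathlib
import Groth.Agent.Lib.Helper3.FE7
import Groth.Agent.Lib.Helper3.FE14
import Groth.Agent.Lib.Helper3.FE15
import Groth.Agent.S6688
import Groth.Agent.S6697
import Groth.Agent.S6184

/-!
# Cohomological descent from the big fppf site to the small étale site (helper3)
-/

set_option autoImplicit false
universe u
open CategoryTheory CategoryTheory.Limits AlgebraicGeometry Opposite

namespace Groth.Agent.Helper3.FE16

set_option backward.isDefEq.respectTransparency false
set_option linter.style.haveILetI false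
set_option linter.unusedSectionVars false

open Groth.Agent.Helper3.FE1 Groth.Agent.Helper3.FE2 Groth.Agent.Helper3.FE7
  Groth.Agent.Helper3.FE8 Groth.Agent.Lib.Helper5.Misc

variable (S : Scheme.{u})

/-- fppf sheafification of big étale sheaves is left exact -/
theorem lexEpsPull : PreservesFiniteLimits (epsPullS S) := by
  have := Groth.Agent.S6697.ab5.{u}
  exact LanFlat.preservesFiniteLimits_sheafPullback (𝟭 (Over S)) AddCommGrpCat.{u + 1} _ _

instance : (epsS S).PreservesInjectiveObjects :=
  haveI := lexEpsPull S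
  Functor.preservesInjectiveObjects_of_adjunction_of_preservesMonomorphisms
    (BigSite.epsAdj Scheme.etalePrecoverage Scheme.fppfPrecoverage S)

instance : PreservesFiniteLimits (epsS S) :=
  pfl_of_adj (BigSite.epsAdj Scheme.etalePrecoverage Scheme.fppfPrecoverage S)

instance : PreservesFiniteLimits (BigSite.resEt Scheme.etalePrecoverage S) :=
  pfl_of_adj (BigSite.piEtAdj Scheme.etalePrecoverage S)

variable {S}

/-- `π⁻¹ F`, as an fppf sheaf, is `ε_*`-acyclic -/
theorem Reps_Gp (F : EtCoh.Ab S) (q : ℕ) (hq : 0 < q) :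
    IsZero ((BigSite.Reps Scheme.etalePrecoverage Scheme.fppfPrecoverage S q).obj (Gp F)) :=
  Groth.Agent.Helper3.FE14.fppf_acyclic S (Gp F)
    ((stalkCartProp S).prop_of_iso (epsGp F).symm (Groth.Agent.Helper3.FE3.stalkCart_piEtPull F))
    q hq

theorem RaPush_Gp (F : EtCoh.Ab S) (q : ℕ) (hq : 0 < q) :
    IsZero ((EtFppf.RaPush S q).obj (Gp F)) := by
  obtain ⟨e⟩ := Groth.Agent.Helper3.FE15.acyclic_comp (epsS S)
    (BigSite.resEt Scheme.etalePrecoverage S) (Gp F) (Reps_Gp F) q
  have z : IsZero ((BigSite.RresEt Scheme.etalePrecoverage S q).obj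
      ((BigSite.piEtPull Scheme.etalePrecoverage S).obj F)) := Groth.Agent.S6688.result S F q hq
  exact (z.of_iso ((BigSite.RresEt Scheme.etalePrecoverage S q).mapIso (epsGp F))).of_iso
    ((RDComp.natIso (aPushIso S) q).app (Gp F) ≪≫ e)

/-- `R^q a_* (a⁻¹ F) = 0` for `q > 0` -/
theorem RaPush_aPull (F : EtCoh.Ab S) (q : ℕ) (hq : 0 < q) :
    IsZero ((EtFppf.RaPush S q).obj ((EtFppf.aPull S).obj F)) :=
  (RaPush_Gp F q hq).of_iso ((EtFppf.RaPush S q).mapIso (aPullObjIso F))

/-- the unit of `ε⁻¹ ⊣ ε_*` is an isomorphism at `π⁻¹ F` -/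
theorem isIso_epsUnit (F : EtCoh.Ab S) :
    IsIso ((BigSite.epsAdj Scheme.etalePrecoverage Scheme.fppfPrecoverage S).unit.app
      ((BigSite.piEtPull Scheme.etalePrecoverage S).obj F)) := by
  rw [← NatTrans.isIso_app_iff_of_iso _ (epsGp F)]
  have h := (BigSite.epsAdj Scheme.etalePrecoverage Scheme.fppfPrecoverage
    S).right_triangle_components (Gp F)
  haveI : IsIso ((epsS S).map
      ((BigSite.epsAdj Scheme.etalePrecoverage Scheme.fppfPrecoverage S).counit.app (Gp F))) :=
    inferInstance
  have hc : IsIso ((BigSite.epsAdj Scheme.etalePrecoverage Scheme.fppfPrecoverage S).unit.app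
      ((epsS S).obj (Gp F)) ≫ (epsS S).map
        ((BigSite.epsAdj Scheme.etalePrecoverage Scheme.fppfPrecoverage S).counit.app
          (Gp F))) := by
    rw [h]
    exact IsIso.id _
  exact IsIso.of_isIso_comp_right _ ((epsS S).map
    ((BigSite.epsAdj Scheme.etalePrecoverage Scheme.fppfPrecoverage S).counit.app (Gp F)))

/-- the unit `F ⟶ a_* a⁻¹ F` is an isomorphism -/
theorem isIso_unit (F : EtCoh.Ab S) : IsIso ((EtFppf.aAdj S).unit.app F) := by
  have h := Adjunction.unit_leftAdjointUniq_hom_app (EtFppf.aAdj S) (adjC S) F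
  haveI : IsIso ((BigSite.piEtAdj Scheme.etalePrecoverage S).unit.app F) :=
    (Groth.Agent.S6184.result S).2 F
  haveI := isIso_epsUnit F
  haveI : IsIso ((adjC S).unit.app F) := by
    unfold adjC
    rw [Groth.Agent.Helper3.FE3.ofNatIsoRight_unit_app, Adjunction.comp_unit_app]
    infer_instance
  have e : (EtFppf.aAdj S).unit.app F = (adjC S).unit.app F ≫
      inv ((EtFppf.aPush S).map
        ((Adjunction.leftAdjointUniq (EtFppf.aAdj S) (adjC S)).hom.app F)) := by
    rw [← h, Category.assoc, IsIso.hom_inv_id, Category.comp_id]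
  rw [e]
  infer_instance

end Groth.Agent.Helper3.FE16
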