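import Mathlib
import Groth.Prelude.Def_EtCore
import Groth.Agent.Lib.Helper3.FE16
import Groth.Agent.Lib.Helper5.Misc.ExtAdjAcyc

/-!
# Comparison of étale and fppf cohomology (helper3)
-/

set_option autoImplicit false
universe u
open CategoryTheory CategoryTheory.Limits AlgebraicGeometry Opposite Abelian

namespace Groth.Agent.Helper3.FE17

set_option backward.isDefEq.respectTransparency false
set_option linter.style.haveILetI false
set_option linter.unusedSectionVars false

open Groth.Agent.Helper3.FE1 Groth.Agent.Helper3.FE2 Groth.Agent.Helper3.FE7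
  Groth.Agent.Helper3.FE8 Groth.Agent.Lib.Helper5.Misc

section ExtIso

universe w v' u'

variable {𝒜 : Type u'} [Category.{v'} 𝒜] [Abelian 𝒜] [HasExt.{w} 𝒜]

/-- `Ext` only depends on the isomorphism classes of its arguments -/
noncomputable def extAddEquivIso {X X' Y Y' : 𝒜} (a : X' ≅ X) (b : Y ≅ Y') (n : ℕ) :
    Ext.{w} X Y n ≃+ Ext.{w} X' Y' n where
  toFun x := (Ext.mk₀ a.hom).comp (x.comp (Ext.mk₀ b.hom) (add_zero n)) (zero_add n)
  invFun y := (Ext.mk₀ a.inv).comp (y.comp (Ext.mk₀ b.inv) (add_zero n)) (zero_add n)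
  left_inv x := by
    simp only
    rw [Ext.comp_assoc_of_third_deg_zero, ← Ext.comp_assoc_of_second_deg_zero,
      Ext.mk₀_comp_mk₀, a.inv_hom_id, Ext.mk₀_id_comp, Ext.comp_assoc_of_third_deg_zero,
      Ext.mk₀_comp_mk₀, b.hom_inv_id, Ext.comp_mk₀_id]
  right_inv y := by
    simp only
    rw [Ext.comp_assoc_of_third_deg_zero, ← Ext.comp_assoc_of_second_deg_zero,
      Ext.mk₀_comp_mk₀, a.hom_inv_id, Ext.mk₀_id_comp, Ext.comp_assoc_of_third_deg_zero,
      Ext.mk₀_comp_mk₀, b.inv_hom_id, Ext.comp_mk₀_id]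
  map_add' x y := by
    rw [Ext.add_comp, Ext.comp_add]

end ExtIso

variable (X : Scheme.{u})

/-- the adjunction between constant fppf sheaves and global sections, written through `a_*` -/
noncomputable def adjF : constantSheaf (EtFppf.J X) AddCommGrpCat.{u + 1} ⊣
    EtFppf.aPush X ⋙ (sheafSections X.smallEtaleTopology AddCommGrpCat.{u + 1}).obj
      (op (EtCoh.top X)) :=
  constantSheafAdj (EtFppf.J X) AddCommGrpCat.{u + 1}
    (Over.mkIdTerminal : IsTerminal (Over.mk (𝟙 X)))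

/-- `a⁻¹` of a constant sheaf is constant -/
noncomputable def aPullConstIso :
    constantSheaf X.smallEtaleTopology AddCommGrpCat.{u + 1} ⋙ EtFppf.aPull X ≅
      constantSheaf (EtFppf.J X) AddCommGrpCat.{u + 1} :=
  Adjunction.leftAdjointUniq
    ((constantSheafAdj X.smallEtaleTopology AddCommGrpCat.{u + 1} (EtCore.topIsTerminal X)).comp
      (EtFppf.aAdj X)) (adjF X)

/-- **étale cohomology agrees with fppf cohomology of the pullback** -/
theorem H_equiv (F : EtCoh.Ab X) (q : ℕ) :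
    Nonempty (EtCoh.H X F q ≃+ EtFppf.HF X ((EtFppf.aPull X).obj F) q) := by
  letI := HasDerivedCategory.standard (EtFppf.AbF X)
  letI := HasDerivedCategory.standard (EtCoh.Ab X)
  haveI : PreservesFiniteLimits (EtFppf.aPull X) := by
    have := Groth.Agent.S6697.flatA X
    have := Groth.Agent.S6697.ab5.{u}
    exact LanFlat.preservesFiniteLimits_sheafPullback (EtFppf.a X) AddCommGrpCat.{u + 1} _ _
  haveI : PreservesFiniteColimits (EtFppf.aPull X) := pfc_of_adj (EtFppf.aAdj X)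
  haveI : (EtFppf.aPull X).Additive := (EtFppf.aAdj X).left_adjoint_additive
  let Zet : EtCoh.Ab X := (constantSheaf X.smallEtaleTopology AddCommGrpCat.{u + 1}).obj
    (AddCommGrpCat.of (ULift.{u + 1} ℤ))
  let Zf : EtFppf.AbF X := (constantSheaf (EtFppf.J X) AddCommGrpCat.{u + 1}).obj
    (AddCommGrpCat.of (ULift.{u + 1} ℤ))
  let G' : EtFppf.AbF X := (EtFppf.aPull X).obj F
  have hΦ := Groth.Agent.Lib.Helper5.ExtAdjAcyc.Φ_bijective (EtFppf.aAdj X) Zet G'
    (fun i hi => Groth.Agent.Helper3.FE16.RaPush_aPull F i hi) q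
  haveI := Groth.Agent.Helper3.FE16.isIso_unit F
  let E1 : Ext.{u + 1} Zet F q ≃+ Ext.{u + 1} Zet ((EtFppf.aPush X).obj G') q :=
    extAddEquivIso (Iso.refl _) (asIso ((EtFppf.aAdj X).unit.app F)) q
  let E2 : Ext.{u + 1} Zet ((EtFppf.aPush X).obj G') q ≃+
      Ext.{u + 1} ((EtFppf.aPull X).obj Zet) G' q :=
    AddEquiv.ofBijective (Groth.Agent.Lib.Helper5.ExtAdjAcyc.Φ (EtFppf.aAdj X) Zet G' q) hΦ
  let E3 : Ext.{u + 1} ((EtFppf.aPull X).obj Zet) G' q ≃+ Ext.{u + 1} Zf G' q :=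
    extAddEquivIso ((aPullConstIso X).app (AddCommGrpCat.of (ULift.{u + 1} ℤ))).symm
      (Iso.refl _) q
  exact ⟨E1.trans (E2.trans E3)⟩

end Groth.Agent.Helper3.FE17
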