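import Mathlib
import Groth.Agent.Lib.Helper3.FE10
import Groth.Agent.Lib.Helper3.FE11
import Groth.Agent.S6184
import Groth.Agent.S6687
import Groth.Agent.S6697

/-!
# Stalk-cartesian big étale sheaves are pulled back from the small étale site (helper3)
-/

set_option autoImplicit false
universe u
open CategoryTheory CategoryTheory.Limits AlgebraicGeometry Opposite

namespace Groth.Agent.Helper3.FE18

set_option backward.isDefEq.respectTransparency false
set_option linter.style.haveILetI false
set_option linter.unusedSectionVars false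

open Groth.Agent.Lib.Helper5 Groth.Agent.S0072.Aux Groth.Agent.Helper3.FE1 Groth.Agent.Helper3.FE2
  Groth.Agent.Helper3.FE3 Groth.Agent.Helper3.FE5 Groth.Agent.Helper3.FE8 Groth.Agent.Helper3.FE11

variable {S : Scheme.{u}}

/-- the restrictions to the small étale sites of all `S`-schemes are jointly conservative -/
lemma isIso_of_res {G G' : AbS S} (φ : G ⟶ G')
    (h : ∀ T : Over S, IsIso ((res (uT T)).map φ)) : IsIso φ := by
  haveI : IsIso ((sheafToPresheaf _ _).map φ) := by
    haveI : ∀ U, IsIso (((sheafToPresheaf _ _).map φ).app U) := by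
      intro U
      induction U using Opposite.rec with | _ T => ?_
      change IsIso (φ.hom.app (op T))
      haveI := h T
      haveI : IsIso (((res (uT T)).map φ).hom.app (op (EtCoh.top T.left))) :=
        inferInstanceAs (IsIso ((sheafToPresheaf _ _ ⋙
          (evaluation _ _).obj (op (EtCoh.top T.left))).map ((res (uT T)).map φ)))
      have e : φ.hom.app (op T) = G.obj.map (topIso T).hom.op ≫
          ((res (uT T)).map φ).hom.app (op (EtCoh.top T.left)) ≫
            G'.obj.map (topIso T).inv.op := by
        change _ = G.obj.map (topIso T).hom.op ≫ φ.hom.app (op ((uT T).obj (EtCoh.top T.left))) ≫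
            G'.obj.map (topIso T).inv.op
        rw [φ.hom.naturality_assoc, ← G'.obj.map_comp, ← op_comp, Iso.inv_hom_id, op_id,
          G'.obj.map_id, Category.comp_id]
      rw [e]
      infer_instance
    exact NatIso.isIso_of_isIso_app _
  exact isIso_of_reflects_iso _ (sheafToPresheaf _ _)

section Base

/-- `uT` of the final object of the big site, typed over `S` -/
noncomputable abbrev uT0 (S : Scheme.{u}) : S.Etale ⥤ Over S := uT (Over.mk (𝟙 S))

instance : (uT0 S).IsContinuous S.smallEtaleTopology (JS S) :=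
  inferInstanceAs ((uT (Over.mk (𝟙 S))).IsContinuous
    (Over.mk (𝟙 S)).left.smallEtaleTopology (JS S))

/-- the inclusion of the small étale site is `uT` of the final object -/
noncomputable def thetaB (S : Scheme.{u}) : EtFppf.a S ≅ uT0 S :=
  NatIso.ofComponents (fun W => Over.isoMk (Iso.refl _) (by
    change 𝟙 _ ≫ W.hom ≫ 𝟙 S = W.hom
    exact (Category.id_comp _).trans (Category.comp_id _))) (by
    intro W W' k
    apply Over.OverMorphism.ext
    change k.left ≫ 𝟙 _ = 𝟙 _ ≫ k.left
    rw [Category.comp_id, Category.id_comp])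

/-- the structure morphism as a morphism to the final object -/
noncomputable abbrev toT0 (T : Over S) : T ⟶ Over.mk (𝟙 S) := Over.homMk T.hom (by
  change T.hom ≫ 𝟙 S = T.hom
  exact Category.comp_id _)

variable {Ω : Type u} [Field Ω] [IsAlgClosed Ω]

/-- for a stalk-cartesian sheaf the base stalk maps are isomorphisms -/
theorem isIso_sigmaB_of_stalkCart (H : AbS S) (hH : StalkCart H) (T : Over S)
    (t : Spec (CommRingCat.of Ω) ⟶ T.left) :
    IsIso (sigma T.hom (EtFppf.a S) (uT T) (nuBase T) (t ≫ T.hom) t rfl H) := by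
  have key := sigma_natural_j T.hom (uT0 S) (EtFppf.a S) (uT T) (uT T) (nuOver (toT0 T))
    (nuBase T) (thetaB S).hom (𝟙 _) (fun W => by
      apply Over.OverMorphism.ext
      change 𝟙 _ ≫ pullback.fst W.hom T.hom = pullback.fst W.hom T.hom ≫ 𝟙 _
      rw [Category.id_comp, Category.comp_id]) (t ≫ T.hom) t rfl H
  haveI : IsIso (sigma T.hom (uT0 S) (uT T) (nuOver (toT0 T)) (t ≫ T.hom) t rfl H) :=
    hH (Over.mk (𝟙 S)) T (toT0 T) Ω t
  haveI : IsIso ((resMap (thetaB S).hom).app H) :=
    inferInstanceAs (IsIso ((Functor.sheafPushforwardContinuousIso (thetaB S).symm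
      AddCommGrpCat.{u + 1} S.smallEtaleTopology (JS S)).hom.app H))
  haveI : IsIso ((resMap (𝟙 (uT T))).app H) :=
    inferInstanceAs (IsIso ((Functor.sheafPushforwardContinuousIso (Iso.refl (uT T))
      AddCommGrpCat.{u + 1} T.left.smallEtaleTopology (JS S)).hom.app H))
  have e : sigma T.hom (EtFppf.a S) (uT T) (nuBase T) (t ≫ T.hom) t rfl H =
      inv ((EtCoh.stalk (t ≫ T.hom)).map ((resMap (thetaB S).hom).app H)) ≫
        sigma T.hom (uT0 S) (uT T) (nuOver (toT0 T)) (t ≫ T.hom) t rfl H ≫
          (EtCoh.stalk t).map ((resMap (𝟙 (uT T))).app H) := by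
    rw [key, IsIso.inv_hom_id_assoc]
  rw [e]
  infer_instance

/-- **a stalk-cartesian big étale sheaf is the pullback of its restriction to the small site** -/
theorem isIso_counit (H : AbS S) (hH : StalkCart H) :
    IsIso ((BigSite.piEtAdj Scheme.etalePrecoverage S).counit.app H) := by
  apply isIso_of_res
  intro T
  apply EtStalkFam.isIso_of_stalks (fun x : T.left => algPt x) (fun x => ⟨x, algPt_default x⟩)
  intro x
  change IsIso ((EtCoh.stalk (algPt x).ξ).map
    ((res (uT T)).map ((BigSite.piEtAdj Scheme.etalePrecoverage S).counit.app H)))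
  have nat := sigma_natural T.hom (EtFppf.a S) (uT T) (nuBase T) ((algPt x).ξ ≫ T.hom)
    (algPt x).ξ rfl ((BigSite.piEtAdj Scheme.etalePrecoverage S).counit.app H)
  haveI h1 := isIso_sigmaB_of_stalkCart H hH T (algPt x).ξ
  haveI h2 := isIso_sigmaB T ((BigSite.resEt Scheme.etalePrecoverage S).obj H) (algPt x).ξ
  haveI h3 : IsIso ((res (EtFppf.a S)).map
      ((BigSite.piEtAdj Scheme.etalePrecoverage S).counit.app H)) := by
    have tri := (BigSite.piEtAdj Scheme.etalePrecoverage S).right_triangle_components H
    haveI : IsIso ((BigSite.piEtAdj Scheme.etalePrecoverage S).unit.app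
        ((BigSite.resEt Scheme.etalePrecoverage S).obj H)) := (Groth.Agent.S6184.result S).2 _
    haveI : IsIso ((BigSite.piEtAdj Scheme.etalePrecoverage S).unit.app
        ((BigSite.resEt Scheme.etalePrecoverage S).obj H) ≫
        (BigSite.resEt Scheme.etalePrecoverage S).map
          ((BigSite.piEtAdj Scheme.etalePrecoverage S).counit.app H)) := by
      rw [tri]
      exact IsIso.id _
    exact IsIso.of_isIso_comp_left ((BigSite.piEtAdj Scheme.etalePrecoverage S).unit.app
        ((BigSite.resEt Scheme.etalePrecoverage S).obj H)) _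
  have e : (EtCoh.stalk (algPt x).ξ).map
      ((res (uT T)).map ((BigSite.piEtAdj Scheme.etalePrecoverage S).counit.app H)) =
      inv (sigma T.hom (EtFppf.a S) (uT T) (nuBase T) ((algPt x).ξ ≫ T.hom) (algPt x).ξ rfl
        ((BigSite.piEtPull Scheme.etalePrecoverage S).obj
          ((BigSite.resEt Scheme.etalePrecoverage S).obj H))) ≫
      (EtCoh.stalk ((algPt x).ξ ≫ T.hom)).map ((res (EtFppf.a S)).map
        ((BigSite.piEtAdj Scheme.etalePrecoverage S).counit.app H)) ≫
      sigma T.hom (EtFppf.a S) (uT T) (nuBase T) ((algPt x).ξ ≫ T.hom) (algPt x).ξ rfl H := by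
    rw [IsIso.eq_inv_comp]
    exact nat.symm
  rw [e]
  infer_instance

end Base

section Finite

variable {T S : Scheme.{u}} (f : T ⟶ S) [IsFinite f]

/-- **finite pushforward commutes with pullback to the big étale site** -/
theorem piEtPull_Rpush_iso (F : EtCoh.Ab T) (q : ℕ) :
    Nonempty ((BigSite.piEtPull Scheme.etalePrecoverage S).obj ((EtCoh.Rpush f q).obj F) ≅
      (BigSite.RpushBig Scheme.etalePrecoverage f q).obj
        ((BigSite.piEtPull Scheme.etalePrecoverage T).obj F)) := by
  rcases Nat.eq_zero_or_pos q with rfl | hq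
  · haveI : PreservesFiniteLimits (EtCoh.push f) := pfl_of_adj (EtCoh.pullPushAdj f)
    haveI : PreservesFiniteLimits
        (BigSite.pushBig Scheme.etalePrecoverage f AddCommGrpCat.{u + 1}) :=
      pfl_of_adj (BigSite.bigAdj Scheme.etalePrecoverage f AddCommGrpCat.{u + 1})
    let G := (BigSite.piEtPull Scheme.etalePrecoverage T).obj F
    let H := (BigSite.pushBig Scheme.etalePrecoverage f AddCommGrpCat.{u + 1}).obj G
    have hH : StalkCart H :=
      Groth.Agent.Helper3.FE9.stalkCart_pushBig f G (stalkCart_piEtPull F)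
    haveI := isIso_counit H hH
    haveI : IsIso ((BigSite.piEtAdj Scheme.etalePrecoverage T).unit.app F) :=
      (Groth.Agent.S6184.result T).2 F
    let e1 : (EtCoh.Rpush f 0).obj F ≅ (EtCoh.push f).obj F :=
      ((EtCoh.push f).rightDerivedZeroIsoSelf).app F
    let e2 : (BigSite.RpushBig Scheme.etalePrecoverage f 0).obj G ≅ H :=
      ((BigSite.pushBig Scheme.etalePrecoverage f
        AddCommGrpCat.{u + 1}).rightDerivedZeroIsoSelf).app G
    let e3 : (EtCoh.push f).obj F ≅
        (EtCoh.push f).obj ((BigSite.resEt Scheme.etalePrecoverage T).obj G) :=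
      (EtCoh.push f).mapIso (asIso ((BigSite.piEtAdj Scheme.etalePrecoverage T).unit.app F))
    let e4 : (EtCoh.push f).obj ((BigSite.resEt Scheme.etalePrecoverage T).obj G) ≅
        (BigSite.resEt Scheme.etalePrecoverage S).obj H :=
      ((Groth.Agent.S6687.rightIso f).app G).symm
    let e5 : (BigSite.piEtPull Scheme.etalePrecoverage S).obj
        ((BigSite.resEt Scheme.etalePrecoverage S).obj H) ≅ H :=
      asIso ((BigSite.piEtAdj Scheme.etalePrecoverage S).counit.app H)
    exact ⟨(BigSite.piEtPull Scheme.etalePrecoverage S).mapIso (e1 ≪≫ e3 ≪≫ e4) ≪≫ e5 ≪≫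
      e2.symm⟩
  · have z1 : IsZero ((EtCoh.Rpush f q).obj F) := Groth.Agent.S3054.result f F q hq
    have z2 := Groth.Agent.Helper3.FE10.isZero_RpushBig f
      ((BigSite.piEtPull Scheme.etalePrecoverage T).obj F) q hq
    exact ⟨((BigSite.piEtPull Scheme.etalePrecoverage S).map_isZero z1).iso z2⟩

end Finite

end Groth.Agent.Helper3.FE18
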