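import Mathlib
import Groth.Agent.Lib.Helper3.GSS
import Groth.Agent.Lib.Helper3.SpVan
import Groth.Agent.Lib.Helper3.RDAdd

/-!
# Vanishing of higher derived functors from a second factorization (helper3)
-/

set_option autoImplicit false
universe v v' v'' u u' u''
open CategoryTheory Limits Opposite

namespace Groth.Agent.Helper3.FE19

variable {C : Type u} [Category.{v} C] [Abelian C] [HasInjectiveResolutions C]
  {C' : Type u'} [Category.{v'} C'] [Abelian C'] [HasInjectiveResolutions C']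
  {C'' : Type u''} [Category.{v''} C''] [Abelian C'']
  (T : C ⥤ C') [T.Additive] [PreservesFiniteLimits T] [T.PreservesInjectiveObjects]
  (S : C' ⥤ C'') [S.Additive] [PreservesFiniteLimits S]

/-- one step of the induction -/
theorem step (A : C)
    (ha : ∀ n : ℕ, 0 < n → IsZero (((T ⋙ S).rightDerived n).obj A))
    (hb : ∀ p : ℕ, 0 < p → IsZero ((S.rightDerived p).obj (T.obj A)))
    (q : ℕ) (hq : 0 < q) (hc : ∀ j : ℕ, 0 < j → j < q → IsZero ((T.rightDerived j).obj A)) :
    IsZero (S.obj ((T.rightDerived q).obj A)) := by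
  classical
  have hT : ∀ Q : C, Injective Q → ∀ q : ℕ, 0 < q →
      IsZero ((S.rightDerived q).obj (T.obj Q)) := by
    intro Q hQ q hq
    obtain ⟨m, rfl⟩ : ∃ m, q = m + 1 := ⟨q - 1, by omega⟩
    haveI : Injective (T.obj Q) := T.injective_obj_of_injective hQ
    exact Functor.isZero_rightDerived_obj_injective_succ S m (T.obj Q)
  obtain ⟨E, a, hfin, hbdd, hE⟩ := Groth.Agent.Helper3.GSS.main' T S hT A
  have hneg : ∀ p j : ℤ, (p < 0 ∨ j < 0) → IsZero ((E.page 2 le_rfl).X (p, j)) := by
    intro p j hpj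
    obtain ⟨e⟩ := hE p j
    refine IsZero.of_iso ?_ e
    rw [if_neg (by omega)]
    exact isZero_zero _
  have hrow : ∀ p j : ℤ, 1 ≤ j → j < q → IsZero ((E.page 2 le_rfl).X (p, j)) := by
    intro p j h1 h2
    obtain ⟨e⟩ := hE p j
    refine IsZero.of_iso ?_ e
    split_ifs with hpq
    · exact Groth.Agent.Helper3.RDAdd.isZero_rightDerived_obj _ _
        (hc j.toNat (by omega) (by omega))
    · exact isZero_zero _
  have hrow0 : ∀ p : ℤ, 1 ≤ p → IsZero ((E.page 2 le_rfl).X (p, 0)) := by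
    intro p hp
    obtain ⟨e⟩ := hE p 0
    refine IsZero.of_iso ?_ e
    rw [if_pos (by omega)]
    simp only [Int.toNat_zero]
    exact (hb p.toNat (by omega)).of_iso
      ((S.rightDerived p.toNat).mapIso ((T.rightDerivedZeroIsoSelf).app A))
  have hz : ∀ p' : ℤ, p' ≠ 0 → IsZero ((E.page 2 le_rfl).X (p', (q : ℤ) - p')) := by
    intro p' hp'
    by_cases h1 : p' < 0
    · exact hneg _ _ (Or.inl h1)
    · by_cases h2 : (q : ℤ) - p' < 0
      · exact hneg _ _ (Or.inr h2)
      · by_cases h3 : (q : ℤ) - p' = 0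
        · rw [h3]
          exact hrow0 p' (by omega)
        · exact hrow p' _ (by omega) (by omega)
  have hst : SpSeq.StationaryAt E ((0 : ℤ), (q : ℤ) - 0) 2 := by
    refine Groth.Agent.Helper3.SpVan.stationaryAt_of_isZero E 2 le_rfl _ ?_ ?_
    · intro r' hr'
      change IsZero ((E.page 2 le_rfl).X ((0 : ℤ) - r', ((q : ℤ) - 0) - (1 - r')))
      exact hneg _ _ (Or.inl (by omega))
    · intro r' hr'
      change IsZero ((E.page 2 le_rfl).X ((0 : ℤ) + r', ((q : ℤ) - 0) + (1 - r')))
      by_cases h2 : ((q : ℤ) - 0) + (1 - r') < 0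
      · exact hneg _ _ (Or.inr h2)
      · by_cases h3 : ((q : ℤ) - 0) + (1 - r') = 0
        · rw [h3]
          exact hrow0 _ (by omega)
        · exact hrow _ _ (by omega) (by omega)
  obtain ⟨e1⟩ := Groth.Agent.Helper3.SpVan.iso_single E a 2 le_rfl (q : ℤ) 0 (hfin _) hz hst
  obtain ⟨e2⟩ := hE (0 : ℤ) ((q : ℤ) - 0)
  rw [if_pos (by omega)] at e1
  rw [if_pos (by omega)] at e2
  simp only [Int.toNat_natCast, sub_zero, Int.toNat_zero] at e1 e2
  have e3 : (S.rightDerived 0).obj ((T.rightDerived q).obj A) ≅ S.obj ((T.rightDerived q).obj A) :=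
    (S.rightDerivedZeroIsoSelf).app _
  exact (ha q hq).of_iso (e3.symm ≪≫ e2.symm ≪≫ e1.symm)

/-- vanishing of all higher derived functors -/
theorem isZero_rightDerived (A : C)
    (ha : ∀ n : ℕ, 0 < n → IsZero (((T ⋙ S).rightDerived n).obj A))
    (hb : ∀ p : ℕ, 0 < p → IsZero ((S.rightDerived p).obj (T.obj A)))
    (hrefl : ∀ M : C', IsZero (S.obj M) → IsZero M) :
    ∀ q : ℕ, 0 < q → IsZero ((T.rightDerived q).obj A) := by
  intro q
  induction q using Nat.strong_induction_on with
  | _ q ih =>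
    intro hq
    exact hrefl _ (step T S A ha hb q hq (fun j hj hjq => ih j hjq hj))

end Groth.Agent.Helper3.FE19
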