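import Mathlib
import Groth.Agent.Lib.Helper3.FE16
import Groth.Agent.Lib.Helper3.FE18
import Groth.Agent.Lib.Helper3.FE19

/-!
# Finite direct images commute with the pullback to the big fppf site (helper3)
-/

set_option autoImplicit false
universe u
open CategoryTheory CategoryTheory.Limits AlgebraicGeometry Opposite

namespace Groth.Agent.Helper3.FE20

set_option backward.isDefEq.respectTransparency false
set_option linter.style.haveILetI false
set_option linter.unusedSectionVars false

open Groth.Agent.Helper3.FE1 Groth.Agent.Helper3.FE2 Groth.Agent.Helper3.FE7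
  Groth.Agent.Helper3.FE8 Groth.Agent.Helper3.FE16 Groth.Agent.Lib.Helper5.Misc

variable {X Y : Scheme.{u}} (f : X ⟶ Y)

/-- `ε_*` commutes with direct images on the big sites -/
noncomputable def epsPushIso :
    EtFppf.pushBig f ⋙ epsS Y ≅
      epsS X ⋙ BigSite.pushBig Scheme.etalePrecoverage f AddCommGrpCat.{u + 1} :=
  NatIso.ofComponents (fun G => Iso.refl _) (by
    intro F G φ
    rfl)

instance : PreservesFiniteLimits (EtFppf.pushBig f) :=
  pfl_of_adj (BigSite.bigAdj Scheme.fppfPrecoverage f AddCommGrpCat.{u + 1})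

instance : (EtFppf.pushBig f).PreservesInjectiveObjects :=
  haveI : PreservesFiniteLimits
      (BigSite.pullBig Scheme.fppfPrecoverage f AddCommGrpCat.{u + 1}) :=
    pfl_of_adj (BigSite.shriekAbAdj Scheme.fppfPrecoverage f)
  Functor.preservesInjectiveObjects_of_adjunction_of_preservesMonomorphisms
    (BigSite.bigAdj Scheme.fppfPrecoverage f AddCommGrpCat.{u + 1})

instance : PreservesFiniteLimits
    (BigSite.pushBig Scheme.etalePrecoverage f AddCommGrpCat.{u + 1}) :=
  pfl_of_adj (BigSite.bigAdj Scheme.etalePrecoverage f AddCommGrpCat.{u + 1})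

variable [IsFinite f]

/-- the underlying big étale sheaf of `f_{big,fppf,*}` of the fppf sheaf `π⁻¹ F` is
stalk-cartesian -/
lemma stalkCart_eps_push (F : EtCoh.Ab X) :
    StalkCart ((epsS Y).obj ((EtFppf.pushBig f).obj (Gp F))) :=
  (stalkCartProp Y).prop_of_iso
    ((BigSite.pushBig Scheme.etalePrecoverage f AddCommGrpCat.{u + 1}).mapIso (epsGp F).symm ≪≫
      ((epsPushIso f).app (Gp F)).symm)
    (Groth.Agent.Helper3.FE9.stalkCart_pushBig f _
      (Groth.Agent.Helper3.FE3.stalkCart_piEtPull F))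

/-- `R^q f_{big,fppf,*} (π⁻¹ F) = 0` for `f` finite and `q > 0` -/
theorem isZero_RpushBig_Gp (F : EtCoh.Ab X) (q : ℕ) (hq : 0 < q) :
    IsZero ((EtFppf.RpushBig f q).obj (Gp F)) := by
  refine Groth.Agent.Helper3.FE19.isZero_rightDerived (EtFppf.pushBig f) (epsS Y) (Gp F)
    ?_ ?_ ?_ q hq
  · intro n hn
    obtain ⟨e⟩ := Groth.Agent.Helper3.FE15.acyclic_comp (epsS X)
      (BigSite.pushBig Scheme.etalePrecoverage f AddCommGrpCat.{u + 1}) (Gp F) (Reps_Gp F) n
    have z := Groth.Agent.Helper3.FE10.isZero_RpushBig f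
      ((BigSite.piEtPull Scheme.etalePrecoverage X).obj F) n hn
    exact (z.of_iso ((BigSite.RpushBig Scheme.etalePrecoverage f n).mapIso (epsGp F))).of_iso
      ((RDComp.natIso (epsPushIso f) n).app (Gp F) ≪≫ e)
  · intro p hp
    exact Groth.Agent.Helper3.FE14.fppf_acyclic Y _ (stalkCart_eps_push f F) p hp
  · intro M hM
    exact IsZero.of_full_of_faithful_of_isZero (epsS Y) M hM

/-- **finite direct images commute with the pullback to the big fppf site** -/
theorem aPull_Rpush_iso (F : EtCoh.Ab X) (i : ℕ) :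
    Nonempty ((EtFppf.aPull Y).obj ((EtCoh.Rpush f i).obj F) ≅
      (EtFppf.RpushBig f i).obj ((EtFppf.aPull X).obj F)) := by
  rcases Nat.eq_zero_or_pos i with rfl | hi
  · haveI : PreservesFiniteLimits (EtCoh.push f) := pfl_of_adj (EtCoh.pullPushAdj f)
    obtain ⟨e0⟩ := Groth.Agent.Helper3.FE18.piEtPull_Rpush_iso f F 0
    let a1 : (EtCoh.Rpush f 0).obj F ≅ (EtCoh.push f).obj F :=
      ((EtCoh.push f).rightDerivedZeroIsoSelf).app F
    let a2 : (BigSite.RpushBig Scheme.etalePrecoverage f 0).obj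
        ((BigSite.piEtPull Scheme.etalePrecoverage X).obj F) ≅
        (BigSite.pushBig Scheme.etalePrecoverage f AddCommGrpCat.{u + 1}).obj
          ((BigSite.piEtPull Scheme.etalePrecoverage X).obj F) :=
      ((BigSite.pushBig Scheme.etalePrecoverage f
        AddCommGrpCat.{u + 1}).rightDerivedZeroIsoSelf).app _
    let b : (epsS Y).obj (Gp ((EtCoh.Rpush f 0).obj F)) ≅
        (epsS Y).obj ((EtFppf.pushBig f).obj (Gp F)) :=
      epsGp _ ≪≫ e0 ≪≫ a2 ≪≫
        (BigSite.pushBig Scheme.etalePrecoverage f AddCommGrpCat.{u + 1}).mapIso (epsGp F).symm ≪≫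
        ((epsPushIso f).app (Gp F)).symm
    let c : Gp ((EtCoh.Rpush f 0).obj F) ≅ (EtFppf.pushBig f).obj (Gp F) :=
      (epsFF Y).preimageIso b
    exact ⟨aPullObjIso _ ≪≫ c ≪≫ (EtFppf.pushBig f).mapIso (aPullObjIso F).symm ≪≫
      (((EtFppf.pushBig f).rightDerivedZeroIsoSelf).app _).symm⟩
  · haveI : (EtFppf.aPull Y).Additive := (EtFppf.aAdj Y).left_adjoint_additive
    have z1 : IsZero ((EtCoh.Rpush f i).obj F) := Groth.Agent.S3054.result f F i hi
    have z2 : IsZero ((EtFppf.RpushBig f i).obj ((EtFppf.aPull X).obj F)) :=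
      (isZero_RpushBig_Gp f F i hi).of_iso ((EtFppf.RpushBig f i).mapIso (aPullObjIso F))
    exact ⟨((EtFppf.aPull Y).map_isZero z1).iso z2⟩

end Groth.Agent.Helper3.FE20
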