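import Mathlib
import Groth.Prelude.Def_W4c1famcyclesFFR

/-!
# Determinant of an endomorphism of a module with a finite free resolution

For a module `M` with a finite free resolution and an endomorphism `φ`, the alternating product
of the reversed characteristic polynomials of a lift of `φ` to the resolution is a power series
over `A` whose image over every prime `p` with `M_p` free is the reversed characteristic
polynomial of `φ_p`.  Over a Noetherian ring the primes at which `M_p` is free include the
associated primes of `A`, which gives uniqueness.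
-/

open Polynomial IsLocalRing Module

universe u

namespace Groth.Agent.Lib.Helper3.FFRDet

/-! ### Depth zero local rings -/

section DepthZero

variable {B : Type*} [CommRing B] [IsLocalRing B]
variable {K F M : Type*} [AddCommGroup K] [Module B K] [AddCommGroup F] [Module B F]
  [AddCommGroup M] [Module B M]

lemma smul_eq_zero_of_mem_smul_top {x : B} (hx : ∀ z ∈ maximalIdeal B, z * x = 0)
    {v : F} (hv : v ∈ (maximalIdeal B) • (⊤ : Submodule B F)) : x • v = 0 := by
  refine Submodule.smul_induction_on hv (fun r hr n _ => ?_) (fun a b ha hb => ?_)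
  · rw [smul_smul, mul_comm, hx r hr, zero_smul]
  · rw [smul_add, ha, hb, add_zero]

lemma lTensor_injective_of_depth_zero [Module.Free B K] [Module.Finite B K]
    {x : B} (hx0 : x ≠ 0) (hx : ∀ z ∈ maximalIdeal B, z * x = 0)
    (i : K →ₗ[B] F) (hi : Function.Injective i) :
    Function.Injective (i.lTensor (ResidueField B)) := by
  rw [injective_iff_map_eq_zero]
  intro z hz
  obtain ⟨e, rfl⟩ := TensorProduct.mk_surjective B K (ResidueField B)
    IsLocalRing.residue_surjective z
  have h1 : (TensorProduct.mk B (ResidueField B) F 1) (i e) = 0 := by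
    simpa using hz
  have h2 : i e ∈ (maximalIdeal B) • (⊤ : Submodule B F) := by
    rw [← LinearMap.ker_tensorProductMk (R := B) (Q := F) (I := maximalIdeal B)]
    exact LinearMap.mem_ker.mpr h1
  have h3 : x • e = 0 := by
    apply hi
    rw [map_smul, map_zero]
    exact smul_eq_zero_of_mem_smul_top hx h2
  have h4 : e ∈ (maximalIdeal B) • (⊤ : Submodule B K) := by
    let b := Module.Free.chooseBasis B K
    rw [← b.sum_repr e]
    refine Submodule.sum_mem _ fun l _ => Submodule.smul_mem_smul ?_ Submodule.mem_top
    by_contra hl
    have hu : IsUnit (b.repr e l) := IsLocalRing.notMem_maximalIdeal.mp hl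
    have h5 : x * b.repr e l = 0 := by
      have := congrArg (fun w => b.repr w l) h3
      simpa using this
    exact hx0 (hu.mul_left_eq_zero.mp h5)
  have h6 : e ∈ LinearMap.ker (TensorProduct.mk B (B ⧸ maximalIdeal B) K 1) := by
    rw [LinearMap.ker_tensorProductMk]; exact h4
  exact LinearMap.mem_ker.mp h6

theorem free_of_depth_zero [Module.Free B K] [Module.Finite B K] [Module.Free B F]
    [Module.Finite B F] {x : B} (hx0 : x ≠ 0) (hx : ∀ z ∈ maximalIdeal B, z * x = 0)
    (i : K →ₗ[B] F) (g : F →ₗ[B] M) (hi : Function.Injective i) (hg : Function.Surjective g)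
    (hex : Function.Exact i g) : Module.Free B M :=
  Module.free_of_lTensor_residueField_injective i g hg hex
    (lTensor_injective_of_depth_zero hx0 hx i hi)

end DepthZero

/-! ### Characteristic polynomials in short exact sequences -/

section Charpoly

variable {B : Type*} [CommRing B]
variable {K F M : Type*} [AddCommGroup K] [Module B K] [AddCommGroup F] [Module B F]
  [AddCommGroup M] [Module B M]
  [Module.Free B K] [Module.Finite B K] [Module.Free B F] [Module.Finite B F]
  [Module.Free B M] [Module.Finite B M]

theorem charpoly_of_exact [Nontrivial B] (i : K →ₗ[B] F) (g : F →ₗ[B] M) (hi : Function.Injective i)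
    (hg : Function.Surjective g) (hex : Function.Exact i g)
    (a : K →ₗ[B] K) (b : F →ₗ[B] F) (c : M →ₗ[B] M)
    (hab : ∀ k, i (a k) = b (i k)) (hbc : ∀ f, g (b f) = c (g f)) :
    b.charpoly = a.charpoly * c.charpoly ∧
      Module.finrank B F = Module.finrank B K + Module.finrank B M := by
  classical
  obtain ⟨s, hs⟩ := Module.projective_lifting_property g LinearMap.id hg
  have hs' : ∀ m, g (s m) = m := fun m => LinearMap.congr_fun hs m
  have hgi : ∀ k, g (i k) = 0 := fun k => hex.apply_apply_eq_zero k
  let e0 : (K × M) →ₗ[B] F := i.coprod s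
  have he0 : ∀ k m, e0 (k, m) = i k + s m := fun k m => LinearMap.coprod_apply _ _ _
  have hge0 : ∀ x, g (e0 x) = x.2 := by
    rintro ⟨k, m⟩
    rw [he0, map_add, hgi, hs', zero_add]
  have hinj : Function.Injective e0 := by
    rw [injective_iff_map_eq_zero]
    rintro ⟨k, m⟩ h
    have hm : m = 0 := by
      have := hge0 (k, m)
      rw [h, map_zero] at this
      exact this.symm
    subst hm
    rw [he0, map_zero, add_zero] at h
    have hk : k = 0 := hi (by rw [h, map_zero])
    rw [hk]
    rfl
  have hsurj : Function.Surjective e0 := by
    intro f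
    have : g (f - s (g f)) = 0 := by rw [map_sub, hs', sub_self]
    obtain ⟨k, hk⟩ := (hex _).mp this
    exact ⟨(k, g f), by rw [he0, hk, sub_add_cancel]⟩
  let e : (K × M) ≃ₗ[B] F := LinearEquiv.ofBijective e0 ⟨hinj, hsurj⟩
  have hee : ∀ x, e x = e0 x := fun x => rfl
  let T : (K × M) →ₗ[B] (K × M) := e.symm.conj b
  have hT : ∀ x, T x = e.symm (b (e x)) := fun x => by
    first
      | rfl
      | simp [T, LinearEquiv.conj_apply_apply]
  have hT1 : ∀ k, T (k, 0) = (a k, 0) := by
    intro k
    rw [hT, LinearEquiv.symm_apply_eq]
    simp only [hee, he0, map_zero, add_zero]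
    exact (hab k).symm
  have hT2 : ∀ x, (T x).2 = c x.2 := by
    intro x
    rw [← hge0 (T x), ← hee, hT, LinearEquiv.apply_symm_apply, hbc, hee, hge0]
  let bK := Module.Free.chooseBasis B K
  let bM := Module.Free.chooseBasis B M
  have hbl : ∀ j, (bK.prod bM) (Sum.inl j) = (bK j, 0) := fun j =>
    Prod.ext (by simp) (by simp)
  have hbr : ∀ j, (bK.prod bM) (Sum.inr j) = (0, bM j) := fun j =>
    Prod.ext (by simp) (by simp)
  have hmat : LinearMap.toMatrix (bK.prod bM) (bK.prod bM) T =
      Matrix.fromBlocks (LinearMap.toMatrix bK bK a)
        (fun i j => LinearMap.toMatrix (bK.prod bM) (bK.prod bM) T (Sum.inl i) (Sum.inr j)) 0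
        (LinearMap.toMatrix bM bM c) := by
    ext (i | i) (j | j)
    · rw [Matrix.fromBlocks_apply₁₁, LinearMap.toMatrix_apply, LinearMap.toMatrix_apply,
        Basis.prod_repr_inl, hbl, hT1]
    · rw [Matrix.fromBlocks_apply₁₂]
    · rw [Matrix.fromBlocks_apply₂₁, LinearMap.toMatrix_apply, Basis.prod_repr_inr, hbl, hT1]
      simp
    · rw [Matrix.fromBlocks_apply₂₂, LinearMap.toMatrix_apply, LinearMap.toMatrix_apply,
        Basis.prod_repr_inr, hT2, hbr]
  constructor
  · have h1 : T.charpoly = b.charpoly := LinearEquiv.charpoly_conj e.symm b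
    rw [← h1, ← LinearMap.charpoly_toMatrix T (bK.prod bM), hmat,
      Matrix.charpoly_fromBlocks_zero₂₁, LinearMap.charpoly_toMatrix,
      LinearMap.charpoly_toMatrix]
  · rw [← e.finrank_eq, Module.finrank_prod]

lemma reverse_map_of_monic {R S : Type*} [CommRing R] [CommRing S] [Nontrivial S] (f : R →+* S)
    {p : R[X]} (hp : p.Monic) : (p.map f).reverse = p.reverse.map f := by
  unfold Polynomial.reverse
  rw [hp.natDegree_map, Polynomial.reflect_map]

end Charpoly

/-! ### Localization -/

section Loc

variable {A : Type u} [CommRing A] (S : Submonoid A)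

instance instFreeLocalizedModule {M : Type*} [AddCommGroup M] [Module A M] [Module.Free A M] :
    Module.Free (Localization S) (LocalizedModule S M) :=
  Module.free_of_isLocalizedModule S (LocalizedModule.mkLinearMap S M)

lemma map_exact' {M₀ M₁ M₂ : Type*} [AddCommGroup M₀] [Module A M₀] [AddCommGroup M₁]
    [Module A M₁] [AddCommGroup M₂] [Module A M₂] (g : M₀ →ₗ[A] M₁) (h : M₁ →ₗ[A] M₂)
    (ex : Function.Exact g h) :
    Function.Exact (LocalizedModule.map S g) (LocalizedModule.map S h) :=
  fun y => LocalizedModule.map_exact S g h ex y

lemma charpoly_localizedModule_map {M : Type*} [AddCommGroup M] [Module A M] [Module.Free A M]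
    [Module.Finite A M] [Module.Free (Localization S) (LocalizedModule S M)]
    [Module.Finite (Localization S) (LocalizedModule S M)] (φ : M →ₗ[A] M) :
    (LocalizedModule.map S φ).charpoly = φ.charpoly.map (algebraMap A (Localization S)) := by
  classical
  let b := Module.Free.chooseBasis A M
  let b' := b.ofIsLocalizedModule (Localization S) S (LocalizedModule.mkLinearMap S M)
  rw [← LinearMap.charpoly_toMatrix φ b,
    ← LinearMap.charpoly_toMatrix (LocalizedModule.map S φ) b', ← Matrix.charpoly_map]
  congr 1
  ext i j
  rw [LinearMap.toMatrix_apply, Matrix.map_apply, LinearMap.toMatrix_apply]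
  have h1 : b' j = LocalizedModule.mkLinearMap S M (b j) := by simp [b']
  rw [h1, LocalizedModule.mkLinearMap_apply, LocalizedModule.map_mk,
    ← LocalizedModule.mkLinearMap_apply]
  exact Basis.ofIsLocalizedModule_repr_apply _ _ _ _ _ _

end Loc

/-! ### The main induction -/

section Main

variable {A : Type u} [CommRing A]

theorem finite_of_ffr {n : ℕ} {M : Type u} [AddCommGroup M] [Module A M]
    (h : FamCyc.HasFiniteFreeResolutionLE A n M) : Module.Finite A M := by
  cases n with
  | zero => exact h.2
  | succ n =>
    obtain ⟨k, f, hf, _⟩ := h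
    exact Module.Finite.of_surjective f hf

theorem exists_series : ∀ (n : ℕ) (M : Type u) [AddCommGroup M] [Module A M]
    (_ : FamCyc.HasFiniteFreeResolutionLE A n M) (φ : M →ₗ[A] M),
    ∃ (r : ℤ) (Q : PowerSeries A), PowerSeries.constantCoeff Q = 1 ∧
      ∀ (p : Ideal A) [p.IsPrime]
        [Module.Free (Localization.AtPrime p) (LocalizedModule p.primeCompl M)]
        [Module.Finite (Localization.AtPrime p) (LocalizedModule p.primeCompl M)],
        (Module.finrank (Localization.AtPrime p) (LocalizedModule p.primeCompl M) : ℤ) = r ∧
        PowerSeries.map (algebraMap A (Localization.AtPrime p)) Q =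
          (((LocalizedModule.map p.primeCompl φ).charpoly.reverse :
            Polynomial (Localization.AtPrime p)) : PowerSeries (Localization.AtPrime p)) := by
  intro n
  induction n with
  | zero =>
    intro M _ _ hM φ
    obtain ⟨hfr, hfin⟩ := hM
    haveI := hfr
    haveI := hfin
    refine ⟨(Module.finrank A M : ℤ), ((φ.charpoly.reverse : A[X]) : PowerSeries A), ?_, ?_⟩
    · rw [Polynomial.constantCoeff_coe, Polynomial.coeff_zero_reverse,
        (LinearMap.charpoly_monic φ).leadingCoeff]
    · intro p _ _ _
      refine ⟨?_, ?_⟩
      · rw [Module.finrank_of_isLocalizedModule_of_free (Localization.AtPrime p) p.primeCompl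
          (LocalizedModule.mkLinearMap p.primeCompl M)]
      · rw [← Polynomial.polynomial_map_coe, charpoly_localizedModule_map p.primeCompl φ,
          reverse_map_of_monic _ (LinearMap.charpoly_monic φ)]
  | succ n ih =>
    intro M _ _ hM φ
    obtain ⟨k, f, hf, hK⟩ := hM
    obtain ⟨ψ, hψ⟩ := Module.projective_lifting_property f (φ ∘ₗ f) hf
    have hψ' : ∀ v, f (ψ v) = φ (f v) := fun v => LinearMap.congr_fun hψ v
    have hKψ : ∀ v ∈ LinearMap.ker f, ψ v ∈ LinearMap.ker f := by
      intro v hv
      rw [LinearMap.mem_ker] at hv ⊢
      rw [hψ', hv, map_zero]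
    obtain ⟨rK, QK, hQK0, hQK⟩ := ih (LinearMap.ker f) hK (ψ.restrict hKψ)
    haveI : Module.Finite A (LinearMap.ker f) := finite_of_ffr hK
    haveI : Module.Finite A M := Module.Finite.of_surjective f hf
    have hu : IsUnit QK :=
      PowerSeries.isUnit_iff_constantCoeff.mpr (by rw [hQK0]; exact isUnit_one)
    obtain ⟨Q', hQ'⟩ := hu.exists_right_inv
    have hQ'0 : PowerSeries.constantCoeff Q' = 1 := by
      have h := congrArg (fun q => PowerSeries.constantCoeff q) hQ'
      simp only [map_mul, map_one, hQK0, one_mul] at h
      exact h
    refine ⟨(k : ℤ) - rK, ((ψ.charpoly.reverse : A[X]) : PowerSeries A) * Q', ?_, ?_⟩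
    · rw [map_mul, hQ'0, mul_one, Polynomial.constantCoeff_coe, Polynomial.coeff_zero_reverse,
        (LinearMap.charpoly_monic ψ).leadingCoeff]
    · intro p _ _ _
      have hi : Function.Injective (LocalizedModule.map p.primeCompl (LinearMap.ker f).subtype) :=
        LocalizedModule.map_injective p.primeCompl _ (LinearMap.ker f).injective_subtype
      have hg : Function.Surjective (LocalizedModule.map p.primeCompl f) :=
        LocalizedModule.map_surjective p.primeCompl f hf
      have hex : Function.Exact (LocalizedModule.map p.primeCompl (LinearMap.ker f).subtype)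
          (LocalizedModule.map p.primeCompl f) :=
        map_exact' p.primeCompl _ _ (LinearMap.exact_subtype_ker_map f)
      haveI : Module.Free (Localization.AtPrime p)
          (LocalizedModule p.primeCompl (LinearMap.ker f)) := by
        obtain ⟨ρ, hρ⟩ := ((Function.Exact.split_tfae
          (M := LocalizedModule p.primeCompl (LinearMap.ker f)) hex hi hg).out 0 1).mp
          (Module.projective_lifting_property (LocalizedModule.map p.primeCompl f)
            LinearMap.id hg)
        haveI : Module.Projective (Localization.AtPrime p)
            (LocalizedModule p.primeCompl (LinearMap.ker f)) :=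
          Module.Projective.of_split (LocalizedModule.map p.primeCompl (LinearMap.ker f).subtype)
            ρ hρ
        exact Module.free_of_flat_of_isLocalRing (R := Localization.AtPrime p)
          (P := LocalizedModule p.primeCompl (LinearMap.ker f))
      obtain ⟨hrK, hmapK⟩ := hQK p
      obtain ⟨hcp, hrank⟩ := charpoly_of_exact
        (K := LocalizedModule p.primeCompl (LinearMap.ker f))
        (LocalizedModule.map p.primeCompl (LinearMap.ker f).subtype)
        (LocalizedModule.map p.primeCompl f) hi hg hex
        (LocalizedModule.map p.primeCompl (ψ.restrict hKψ))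
        (LocalizedModule.map p.primeCompl ψ) (LocalizedModule.map p.primeCompl φ)
        (by
          intro x
          induction x using LocalizedModule.induction_on with
          | h m s =>
            simp only [LocalizedModule.map_mk]
            rfl)
        (by
          intro x
          induction x using LocalizedModule.induction_on with
          | h m s => simp only [LocalizedModule.map_mk, hψ'])
      have hFrank : Module.finrank (Localization.AtPrime p)
          (LocalizedModule p.primeCompl (Fin k → A)) = k := by
        haveI : Nontrivial A := (algebraMap A (Localization.AtPrime p)).domain_nontrivial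
        rw [Module.finrank_of_isLocalizedModule_of_free (Localization.AtPrime p) p.primeCompl
          (LocalizedModule.mkLinearMap p.primeCompl (Fin k → A)), Module.finrank_fin_fun]
      refine ⟨?_, ?_⟩
      · have h1 : k = Module.finrank (Localization.AtPrime p)
              (LocalizedModule p.primeCompl (LinearMap.ker f)) +
            Module.finrank (Localization.AtPrime p) (LocalizedModule p.primeCompl M) :=
          hFrank.symm.trans hrank
        have h2 := congrArg (Nat.cast : ℕ → ℤ) h1
        push_cast at h2
        rw [← hrK]
        linarith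
      · have hmono_a :=
          LinearMap.charpoly_monic (R := Localization.AtPrime p)
            (M := LocalizedModule p.primeCompl (LinearMap.ker f))
            (LocalizedModule.map p.primeCompl (ψ.restrict hKψ))
        have hmono_c := LinearMap.charpoly_monic (LocalizedModule.map p.primeCompl φ)
        have hrev : (LocalizedModule.map p.primeCompl ψ).charpoly.reverse =
            (LinearMap.charpoly (R := Localization.AtPrime p)
              (M := LocalizedModule p.primeCompl (LinearMap.ker f))
              (LocalizedModule.map p.primeCompl (ψ.restrict hKψ))).reverse *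
            (LocalizedModule.map p.primeCompl φ).charpoly.reverse := by
          rw [hcp, Polynomial.reverse_mul (by
            rw [hmono_a.leadingCoeff, hmono_c.leadingCoeff, one_mul]; exact one_ne_zero)]
        have hF : PowerSeries.map (algebraMap A (Localization.AtPrime p))
            ((ψ.charpoly.reverse : A[X]) : PowerSeries A) =
            (((LocalizedModule.map p.primeCompl ψ).charpoly.reverse :
              Polynomial (Localization.AtPrime p)) : PowerSeries (Localization.AtPrime p)) := by
          rw [← Polynomial.polynomial_map_coe, charpoly_localizedModule_map p.primeCompl ψ,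
            reverse_map_of_monic _ (LinearMap.charpoly_monic ψ)]
        have h1 : PowerSeries.map (algebraMap A (Localization.AtPrime p)) QK *
            PowerSeries.map (algebraMap A (Localization.AtPrime p)) Q' = 1 := by
          rw [← map_mul, hQ', map_one]
        rw [map_mul, hF, hrev, Polynomial.coe_mul, ← hmapK, mul_right_comm, h1, one_mul]

theorem free_of_depth_zero_ffr : ∀ (n : ℕ) (M : Type u) [AddCommGroup M] [Module A M]
    (_ : FamCyc.HasFiniteFreeResolutionLE A n M) (p : Ideal A) [p.IsPrime]
    (x : Localization.AtPrime p) (_ : x ≠ 0)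
    (_ : ∀ z ∈ maximalIdeal (Localization.AtPrime p), z * x = 0),
    Module.Free (Localization.AtPrime p) (LocalizedModule p.primeCompl M) := by
  intro n
  induction n with
  | zero =>
    intro M _ _ hM p _ x _ _
    obtain ⟨hfr, hfin⟩ := hM
    haveI := hfr
    exact Module.free_of_isLocalizedModule p.primeCompl
      (LocalizedModule.mkLinearMap p.primeCompl M)
  | succ n ih =>
    intro M _ _ hM p _ x hx0 hx
    obtain ⟨k, f, hf, hK⟩ := hM
    haveI : Module.Finite A (LinearMap.ker f) := finite_of_ffr hK
    haveI : Module.Free (Localization.AtPrime p)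
        (LocalizedModule p.primeCompl (LinearMap.ker f)) := ih (LinearMap.ker f) hK p x hx0 hx
    exact free_of_depth_zero (K := LocalizedModule p.primeCompl (LinearMap.ker f)) hx0 hx
      (LocalizedModule.map p.primeCompl (LinearMap.ker f).subtype)
      (LocalizedModule.map p.primeCompl f)
      (LocalizedModule.map_injective p.primeCompl _ (LinearMap.ker f).injective_subtype)
      (LocalizedModule.map_surjective p.primeCompl f hf)
      (map_exact' p.primeCompl _ _ (LinearMap.exact_subtype_ker_map f))

theorem existsUnique_det [IsNoetherianRing A]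
    (M : Type u) [AddCommGroup M] [Module A M] (n : ℕ)
    (hM : FamCyc.HasFiniteFreeResolutionLE A n M) (φ : M →ₗ[A] M) :
    ∃! a : A, ∀ (p : Ideal A) [p.IsPrime],
      Module.Free (Localization.AtPrime p) (LocalizedModule p.primeCompl M) →
        algebraMap A (Localization.AtPrime p) a =
          LinearMap.det (LocalizedModule.map p.primeCompl φ) := by
  haveI : Module.Finite A M := finite_of_ffr hM
  obtain ⟨r, Q, hQ0, hQ⟩ := exists_series n M hM φ
  have hexist : ∀ (p : Ideal A) [p.IsPrime],
      Module.Free (Localization.AtPrime p) (LocalizedModule p.primeCompl M) →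
        algebraMap A (Localization.AtPrime p) ((-1) ^ r.toNat * PowerSeries.coeff r.toNat Q) =
          LinearMap.det (LocalizedModule.map p.primeCompl φ) := by
    intro p _ hfree
    haveI := hfree
    obtain ⟨hr, hmap⟩ := hQ p
    have hrn : r.toNat = Module.finrank (Localization.AtPrime p)
        (LocalizedModule p.primeCompl M) := by
      rw [← hr]; simp
    rw [LinearMap.det_eq_sign_charpoly_coeff, map_mul, map_pow, map_neg, map_one, hrn]
    congr 1
    rw [← PowerSeries.coeff_map, hmap, Polynomial.coeff_coe, Polynomial.coeff_reverse,
      LinearMap.charpoly_natDegree, Polynomial.revAt_le le_rfl, Nat.sub_self]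
  refine ⟨_, hexist, fun a' ha' => ?_⟩
  by_contra hne
  have hb : a' - ((-1) ^ r.toNat * PowerSeries.coeff r.toNat Q) ≠ 0 := sub_ne_zero.mpr hne
  obtain ⟨P, hP, hle⟩ := exists_le_isAssociatedPrime_of_isNoetherianRing A _ hb
  obtain ⟨hPprime, y, hPy⟩ := isAssociatedPrime_iff.mp hP
  haveI := hPprime
  have hb1 : algebraMap A (Localization.AtPrime P)
      (a' - ((-1) ^ r.toNat * PowerSeries.coeff r.toNat Q)) ≠ 0 := by
    intro h0
    obtain ⟨⟨s, hs⟩, hsb⟩ := (IsLocalization.map_eq_zero_iff P.primeCompl _ _).mp h0
    exact hs (hle (Submodule.mem_colon_singleton.mpr (by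
      rw [Submodule.mem_bot, smul_eq_mul]; exact hsb)))
  have hy1 : algebraMap A (Localization.AtPrime P) y ≠ 0 := by
    intro h0
    obtain ⟨⟨s, hs⟩, hsy⟩ := (IsLocalization.map_eq_zero_iff P.primeCompl _ _).mp h0
    have h : s ∈ P := by
      rw [hPy]
      exact Submodule.mem_colon_singleton.mpr (by rw [Submodule.mem_bot, smul_eq_mul]; exact hsy)
    exact hs h
  have hkill : ∀ z ∈ maximalIdeal (Localization.AtPrime P),
      z * algebraMap A (Localization.AtPrime P) y = 0 := by
    intro z hz
    obtain ⟨⟨c, s⟩, rfl⟩ := IsLocalization.mk'_surjective P.primeCompl z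
    simp only at hz ⊢
    have hc : c ∈ P :=
      (IsLocalization.AtPrime.mk'_mem_maximal_iff (Localization.AtPrime P) P c s).mp hz
    have hcy : c * y = 0 := by
      have h := hc
      rw [hPy, Submodule.mem_colon_singleton, Submodule.mem_bot, smul_eq_mul] at h
      exact h
    rw [mul_comm, IsLocalization.mul_mk'_eq_mk'_of_mul, mul_comm y c, hcy, IsLocalization.mk'_zero]
  have hfreeP : Module.Free (Localization.AtPrime P) (LocalizedModule P.primeCompl M) :=
    free_of_depth_zero_ffr n M hM P _ hy1 hkill
  apply hb1
  rw [map_sub, hexist P hfreeP, ha' P hfreeP, sub_self]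

end Main

end Groth.Agent.Lib.Helper3.FFRDet
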