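import Mathlib
import Groth.Agent.Lib.Helper7.RelFGSub

/-!
# Quasi-compact opens of `X ×_k Spec A` descend to a finitely generated subalgebra

The base change of a scheme `X` over `S` to a cofiltered limit of schemes over `S` is the limit of
the base changes; combined with Mathlib's `exists_preimage_eq` and the presentation of an algebra
as the filtered colimit of its finitely generated subalgebras (helper7's `RelFGSub`).
-/

set_option autoImplicit false
universe u

namespace Groth.Agent.Helper3.FGDescOpen1

open CategoryTheory CategoryTheory.Limits AlgebraicGeometry Opposite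

section Generic

variable {I : Type u} [Category.{u} I] {S : Scheme.{u}} (D : I ⥤ Scheme.{u})
  (t : ∀ i, D.obj i ⟶ S) (ht : ∀ {i j : I} (φ : i ⟶ j), D.map φ ≫ t j = t i)
  (c : Cone D) (tc : c.pt ⟶ S) (htc : ∀ i, c.π.app i ≫ t i = tc) {X : Scheme.{u}} (a : X ⟶ S)

set_option backward.isDefEq.respectTransparency false in
/-- the diagram of the base changes `X ×_S Dᵢ`. -/
noncomputable def fibDiagram : I ⥤ Scheme.{u} where
  obj i := pullback a (t i)
  map {i j} φ := pullback.map a (t i) a (t j) (𝟙 X) (D.map φ) (𝟙 S) (by simp)
    (by rw [Category.comp_id, ht φ])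
  map_id i := by apply pullback.hom_ext <;> simp [pullback.map]
  map_comp φ ψ := by apply pullback.hom_ext <;> simp [pullback.map]

set_option backward.isDefEq.respectTransparency false in
@[reassoc (attr := simp)]
theorem fibDiagram_map_fst {i j : I} (φ : i ⟶ j) :
    (fibDiagram D t ht a).map φ ≫ pullback.fst a (t j) = pullback.fst a (t i) := by
  simp [fibDiagram, pullback.map]

set_option backward.isDefEq.respectTransparency false in
@[reassoc (attr := simp)]
theorem fibDiagram_map_snd {i j : I} (φ : i ⟶ j) :
    (fibDiagram D t ht a).map φ ≫ pullback.snd a (t j) = pullback.snd a (t i) ≫ D.map φ := by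
  simp [fibDiagram, pullback.map]

set_option backward.isDefEq.respectTransparency false in
theorem isPullback_fibDiagram_map {i j : I} (φ : i ⟶ j) :
    IsPullback ((fibDiagram D t ht a).map φ) (pullback.snd a (t i)) (pullback.snd a (t j))
      (D.map φ) := by
  refine IsPullback.of_right (h₁₂ := pullback.fst a (t j)) (h₂₂ := t j) (v₁₃ := a) ?_
    (fibDiagram_map_snd D t ht a φ) (IsPullback.of_hasPullback _ _)
  rw [fibDiagram_map_fst, ht φ]
  exact IsPullback.of_hasPullback _ _

set_option backward.isDefEq.respectTransparency false in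
instance [∀ {i j : I} (f : i ⟶ j), IsAffineHom (D.map f)] {i j : I} (φ : i ⟶ j) :
    IsAffineHom ((fibDiagram D t ht a).map φ) :=
  MorphismProperty.of_isPullback (isPullback_fibDiagram_map D t ht a φ).flip inferInstance

set_option backward.isDefEq.respectTransparency false in
/-- the cone with apex `X ×_S lim Dᵢ`. -/
noncomputable def fibCone : Cone (fibDiagram D t ht a) where
  pt := pullback a tc
  π :=
    { app i := pullback.map a tc a (t i) (𝟙 X) (c.π.app i) (𝟙 S) (by simp)
        (by rw [Category.comp_id, htc i])
      naturality i j φ := by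
        apply pullback.hom_ext <;> simp [pullback.map, fibDiagram] }

set_option backward.isDefEq.respectTransparency false in
@[reassoc (attr := simp)]
theorem fibCone_π_fst (i : I) :
    (fibCone D t ht c tc htc a).π.app i ≫ pullback.fst a (t i) = pullback.fst a tc := by
  simp [fibCone, pullback.map]

set_option backward.isDefEq.respectTransparency false in
@[reassoc (attr := simp)]
theorem fibCone_π_snd (i : I) :
    (fibCone D t ht c tc htc a).π.app i ≫ pullback.snd a (t i) =
      pullback.snd a tc ≫ c.π.app i := by
  simp [fibCone, pullback.map]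

set_option backward.isDefEq.respectTransparency false in
theorem isPullback_fibCone_π (i : I) :
    IsPullback ((fibCone D t ht c tc htc a).π.app i) (pullback.snd a tc) (pullback.snd a (t i))
      (c.π.app i) := by
  refine IsPullback.of_right (h₁₂ := pullback.fst a (t i)) (h₂₂ := t i) (v₁₃ := a) ?_
    (fibCone_π_snd D t ht c tc htc a i) (IsPullback.of_hasPullback _ _)
  rw [fibCone_π_fst, htc i]
  exact IsPullback.of_hasPullback _ _

set_option backward.isDefEq.respectTransparency false in
/-- the projection to the original diagram. -/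
noncomputable def fibDiagramπ : fibDiagram D t ht a ⟶ D where
  app i := pullback.snd a (t i)
  naturality i j φ := by simp

set_option backward.isDefEq.respectTransparency false in
/-- the base change of a limit cone is a limit cone. -/
noncomputable def isLimitFibCone [IsCofiltered I] (hc : IsLimit c) :
    IsLimit (fibCone D t ht c tc htc a) :=
  haveI : IsConnected I := IsCofiltered.isConnected I
  isLimitOfIsPullbackOfIsConnected (fibDiagramπ D t ht a) _ _
    (by exact { hom := pullback.snd a tc, w := fun i => (fibCone_π_snd D t ht c tc htc a i).symm })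
    (fun i ↦ isPullback_fibCone_π D t ht c tc htc a i) hc

end Generic

open Groth.Agent.Helper7

theorem main (k : Type u) [Field k] (X : Scheme.{u}) [X.Over (Spec (CommRingCat.of k))]
    (A : Type u) [CommRing A] [Algebra k A]
    (V : Set ↥(pullback (X ↘ (Spec (CommRingCat.of k)))
      (Spec.map (CommRingCat.ofHom (algebraMap k A)))))
    (hV : IsOpen V) (hVc : IsCompact V) :
    ∃ (A' : Subalgebra k A), A'.FG ∧
      ∃ (V' : Set ↥(pullback (X ↘ (Spec (CommRingCat.of k)))
          (Spec.map (CommRingCat.ofHom (algebraMap k ↥A'))))), IsOpen V' ∧ IsCompact V' ∧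
        ∀ π : pullback (X ↘ (Spec (CommRingCat.of k)))
              (Spec.map (CommRingCat.ofHom (algebraMap k A))) ⟶
            pullback (X ↘ (Spec (CommRingCat.of k)))
              (Spec.map (CommRingCat.ofHom (algebraMap k ↥A'))),
          π ≫ pullback.fst _ _ = pullback.fst _ _ →
          π ≫ pullback.snd _ _ =
            pullback.snd _ _ ≫ Spec.map (CommRingCat.ofHom A'.val.toRingHom) →
            π.base ⁻¹' V' = V := by
  have ht : ∀ {i j : (RelFGSub.Idx k A)ᵒᵖ} (φ : i ⟶ j),
      (RelFGSub.specDiag k A).map φ ≫ RelFGSub.toBase k A j = RelFGSub.toBase k A i :=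
    fun φ => RelFGSub.map_toBase k A φ
  have htc : ∀ i, (RelFGSub.specCone k A).π.app i ≫ RelFGSub.toBase k A i =
      Spec.map (CommRingCat.ofHom (algebraMap k A)) := RelFGSub.π_toBase k A
  obtain ⟨hc⟩ := RelFGSub.isLimit_specCone k A
  have hlim := isLimitFibCone (RelFGSub.specDiag k A) (RelFGSub.toBase k A) ht
    (RelFGSub.specCone k A) (Spec.map (CommRingCat.ofHom (algebraMap k A))) htc
    (X ↘ (Spec (CommRingCat.of k))) hc
  obtain ⟨i, V', hV'c, hV'⟩ := exists_preimage_eq _ _ hlim ⟨V, hV⟩ hVc
  let V'' : (pullback (X ↘ (Spec (CommRingCat.of k)))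
    (Spec.map (CommRingCat.ofHom (algebraMap k ↥i.unop.1)))).Opens := V'
  refine ⟨i.unop.1, i.unop.2, (V'' : Set _), ?_, ?_, ?_⟩
  · exact V''.2
  · exact hV'c
  intro π h1 h2
  have hπ : π = (fibCone (RelFGSub.specDiag k A) (RelFGSub.toBase k A) ht
      (RelFGSub.specCone k A) (Spec.map (CommRingCat.ofHom (algebraMap k A))) htc
      (X ↘ (Spec (CommRingCat.of k)))).π.app i := by
    apply pullback.hom_ext
    · exact h1.trans (fibCone_π_fst _ _ ht _ _ htc _ i).symm
    · exact h2.trans (fibCone_π_snd _ _ ht _ _ htc _ i).symm
  rw [hπ]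
  exact congrArg TopologicalSpace.Opens.carrier hV'

end Groth.Agent.Helper3.FGDescOpen1
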