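import Mathlib

/-! Abstract flatness criterion for first-order thickenings: an extension of `B₀` by `V ⊗ B₀`
is a flat algebra over the square-zero extension `k ⊕ V` (helper3). -/

set_option autoImplicit false
set_option linter.style.haveILetI false
universe u
open TensorProduct

namespace Groth.Agent.Helper3.FO

section Abstract

variable {k A V B₀ M E : Type u} [Field k] [CommRing A] [AddCommGroup V] [Module k V]
  [CommRing B₀] [Algebra k B₀] [AddCommGroup M] [Module B₀ M] [CommRing E]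

/-- ring-level data of a deformation of `B₀` over a ring `A = k ⊕ V` (square zero): the ring `E`
is an extension of `B₀` by `M ≅ V ⊗ B₀`, compatibly with `A → E`. -/
structure VData (inlA : k →+* A) (ρ : A →+* k) (inrV : V →+ A) (α : A →+* E) (ι : E →+* B₀)
    (incl : M →+ E) (ν : V →+ M) : Prop where
  rho_inr : ∀ v, ρ (inrV v) = 0
  dec : ∀ a, ∃ v, a = inlA (ρ a) + inrV v
  inl_inr : ∀ c v, inlA c * inrV v = inrV (c • v)
  ι_surj : Function.Surjective ι
  incl_inj : Function.Injective incl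
  exact : ∀ e, ι e = 0 → ∃ m, incl m = e
  ι_incl : ∀ m, ι (incl m) = 0
  mul_incl : ∀ e m, e * incl m = incl (ι e • m)
  ι_α : ∀ c : k, ι (α (inlA c)) = algebraMap k B₀ c
  α_inr : ∀ v, α (inrV v) = incl (ν v)
  χ_ex : ∃ χ : V ⊗[k] B₀ →+ M, (∀ v b, χ (v ⊗ₜ[k] b) = b • ν v) ∧ Function.Bijective χ

variable {inlA : k →+* A} {ρ : A →+* k} {inrV : V →+ A} {α : A →+* E} {ι : E →+* B₀}
  {incl : M →+ E} {ν : V →+ M}

theorem VData.ι_α_all (h : VData inlA ρ inrV α ι incl ν) (a : A) :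
    ι (α a) = algebraMap k B₀ (ρ a) := by
  obtain ⟨v, hv⟩ := h.dec a
  have e : ι (α a) = ι (α (inlA (ρ a) + inrV v)) := by rw [← hv]
  rw [e, map_add, map_add, h.ι_α, h.α_inr, h.ι_incl, add_zero]

theorem VData.incl_chi_mem (h : VData inlA ρ inrV α ι incl ν) (χ : V ⊗[k] B₀ →+ M)
    (hχ : ∀ v b, χ (v ⊗ₜ[k] b) = b • ν v) (w : V ⊗[k] B₀) :
    incl (χ w) ∈ Ideal.map α (RingHom.ker ρ) := by
  induction w using TensorProduct.induction_on with
  | zero => rw [map_zero, map_zero]; exact Ideal.zero_mem _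
  | tmul v b =>
    obtain ⟨e, he⟩ := h.ι_surj b
    rw [hχ, ← he, ← h.mul_incl, ← h.α_inr]
    exact Ideal.mul_mem_left _ _ (Ideal.mem_map_of_mem _ (RingHom.mem_ker.mpr (h.rho_inr v)))
  | add x y hx hy => rw [map_add, map_add]; exact Ideal.add_mem _ hx hy

theorem VData.ker_eq (h : VData inlA ρ inrV α ι incl ν) :
    RingHom.ker ι = Ideal.map α (RingHom.ker ρ) := by
  obtain ⟨χ, hχ, hχbij⟩ := h.χ_ex
  apply le_antisymm
  · intro e he
    obtain ⟨m, rfl⟩ := h.exact e (RingHom.mem_ker.mp he)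
    obtain ⟨w, rfl⟩ := hχbij.2 m
    exact h.incl_chi_mem χ hχ w
  · rw [Ideal.map_le_iff_le_comap]
    intro a ha
    rw [Ideal.mem_comap, RingHom.mem_ker, h.ι_α_all, RingHom.mem_ker.mp ha, map_zero]

theorem VData.flat (h : VData inlA ρ inrV α ι incl ν) : α.Flat := by
  letI : Algebra A E := α.toAlgebra
  letI : Algebra k A := inlA.toAlgebra
  letI : Algebra k E := (α.comp inlA).toAlgebra
  haveI : IsScalarTower k A E := IsScalarTower.of_algebraMap_eq (fun c => rfl)
  show Module.Flat A E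
  obtain ⟨χ, hχ, hχbij⟩ := h.χ_ex
  have hsmulE : ∀ (c : k) (e : E), c • e = α (inlA c) * e := fun c e => Algebra.smul_def c e
  have hsmulA : ∀ (c : k) (a : A), c • a = inlA c * a := fun c a => Algebra.smul_def c a
  have hAE : ∀ (a : A) (e : E), a • e = α a * e := fun a e => Algebra.smul_def a e
  let ιl : E →ₗ[k] B₀ :=
    { toFun := ι
      map_add' := map_add ι
      map_smul' := fun c e => by
        show ι (c • e) = c • ι e
        rw [hsmulE, map_mul, h.ι_α, Algebra.smul_def] }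
  obtain ⟨s', hs'⟩ := ιl.exists_rightInverse_of_surjective (LinearMap.range_eq_top.mpr h.ι_surj)
  have hs'' : ∀ b, ι (s' b) = b := fun b => LinearMap.congr_fun hs' b
  let inrL : V →ₗ[k] A :=
    { toFun := inrV
      map_add' := map_add inrV
      map_smul' := fun c v => by
        show inrV (c • v) = c • inrV v
        rw [hsmulA, h.inl_inr] }
  let Θ : A ⊗[k] B₀ →ₗ[A] E :=
    TensorProduct.AlgebraTensorModule.lift (LinearMap.toSpanSingleton A (B₀ →ₗ[k] E) s')
  have hΘ : ∀ a b, Θ (a ⊗ₜ[k] b) = α a * s' b := fun a b => by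
    show (TensorProduct.AlgebraTensorModule.lift
      (LinearMap.toSpanSingleton A (B₀ →ₗ[k] E) s')) (a ⊗ₜ[k] b) = _
    rw [TensorProduct.AlgebraTensorModule.lift_tmul, LinearMap.toSpanSingleton_apply,
      LinearMap.smul_apply, hAE]
  let τ : V ⊗[k] B₀ →ₗ[k] A ⊗[k] B₀ := LinearMap.rTensor B₀ inrL
  have hτ : ∀ v b, τ (v ⊗ₜ[k] b) = inrV v ⊗ₜ[k] b := fun v b => LinearMap.rTensor_tmul _ _ _ _
  have hdec : ∀ t : A ⊗[k] B₀, ∃ (b₀ : B₀) (w : V ⊗[k] B₀), t = (1 : A) ⊗ₜ[k] b₀ + τ w := by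
    intro t
    induction t using TensorProduct.induction_on with
    | zero => exact ⟨0, 0, by rw [TensorProduct.tmul_zero, map_zero, add_zero]⟩
    | tmul a b =>
      obtain ⟨v, hv⟩ := h.dec a
      refine ⟨ρ a • b, v ⊗ₜ[k] b, ?_⟩
      have e1 : inlA (ρ a) = ρ a • (1 : A) := by rw [hsmulA, mul_one]
      have e2 : a ⊗ₜ[k] b = (inlA (ρ a) + inrV v) ⊗ₜ[k] b := by rw [← hv]
      rw [e2, TensorProduct.add_tmul, hτ, e1, TensorProduct.smul_tmul]
    | add x y hx hy =>
      obtain ⟨b₁, w₁, h₁⟩ := hx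
      obtain ⟨b₂, w₂, h₂⟩ := hy
      refine ⟨b₁ + b₂, w₁ + w₂, ?_⟩
      rw [h₁, h₂, TensorProduct.tmul_add, map_add]
      abel
  have hΘτ : ∀ w, Θ (τ w) = incl (χ w) := by
    intro w
    induction w using TensorProduct.induction_on with
    | zero => rw [map_zero, map_zero, map_zero, map_zero]
    | tmul v b =>
      rw [hτ, hΘ, h.α_inr, mul_comm, h.mul_incl, hs'', hχ]
    | add x y hx hy => rw [map_add, map_add, map_add, map_add, hx, hy]
  have hΘ1 : ∀ b, Θ ((1 : A) ⊗ₜ[k] b) = s' b := fun b => by rw [hΘ, map_one, one_mul]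
  have hinj : Function.Injective Θ := by
    rw [injective_iff_map_eq_zero]
    intro t ht
    obtain ⟨b₀, w, rfl⟩ := hdec t
    rw [map_add, hΘ1, hΘτ] at ht
    have h1 := congrArg ι ht
    rw [map_add, hs'', h.ι_incl, add_zero, map_zero] at h1
    rw [h1, map_zero, zero_add] at ht
    have h2 : χ w = 0 := h.incl_inj (by rw [ht, map_zero])
    have h3 : w = 0 := hχbij.1 (by rw [h2, map_zero])
    rw [h1, h3, TensorProduct.tmul_zero, map_zero, add_zero]
  have hsurj : Function.Surjective Θ := by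
    intro e
    obtain ⟨m, hm⟩ := h.exact (e - s' (ι e)) (by rw [map_sub, hs'', sub_self])
    obtain ⟨w, hw⟩ := hχbij.2 m
    refine ⟨(1 : A) ⊗ₜ[k] ι e + τ w, ?_⟩
    rw [map_add, hΘ1, hΘτ, hw, hm]
    abel
  exact Module.Flat.of_linearEquiv (LinearEquiv.ofBijective Θ ⟨hinj, hsurj⟩).symm

end Abstract

end Groth.Agent.Helper3.FO
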