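import Mathlib
import Groth.Prelude.Def_Exal
import Groth.Agent.Lib.Helper3.FO1

/-! The model first-order thickening `E φ` of `B₀` attached to a linear map `φ : I → M`
(`I` the kernel of an extension `Q.Ring → B₀`): the quotient of the trivial square-zero extension
of `Q.Ring` by `M` by the ideal `{(g, φ g)}` (helper3). -/

set_option autoImplicit false
set_option linter.style.haveILetI false
universe u
open TensorProduct TrivSqZeroExt

namespace Groth.Agent.Helper3.FO

attribute [local instance] Exal.opModule Exal.isCentralScalar_opModule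

section Model

variable {k B₀ : Type u} [Field k] [CommRing B₀] [Algebra k B₀] (Q : Algebra.Extension.{u} k B₀)
  {M : Type u} [AddCommGroup M] [Module B₀ M] [Module Q.Ring M] [IsScalarTower Q.Ring B₀ M]

theorem ker_smul (g : Q.ker) (m : M) : (g : Q.Ring) • m = 0 := by
  rw [← algebraMap_smul B₀ (g : Q.Ring) m, show algebraMap Q.Ring B₀ (g : Q.Ring) = 0 from
    RingHom.mem_ker.mp g.2, zero_smul]

/-- the trivial extension of `Q.Ring` by `M` -/
def TT (Q : Algebra.Extension.{u} k B₀) (M : Type u) [AddCommGroup M] [Module Q.Ring M] : Type u :=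
  TrivSqZeroExt Q.Ring M

noncomputable instance : CommRing (TT Q M) := inferInstanceAs (CommRing (TrivSqZeroExt Q.Ring M))

/-- the pair `(p, m)` -/
def pr (p : Q.Ring) (m : M) : TT Q M := (inl p + inr m : TrivSqZeroExt Q.Ring M)

/-- first component -/
def tfst (x : TT Q M) : Q.Ring := TrivSqZeroExt.fst (show TrivSqZeroExt Q.Ring M from x)

/-- second component -/
def tsnd (x : TT Q M) : M := TrivSqZeroExt.snd (show TrivSqZeroExt Q.Ring M from x)

variable {Q}

@[simp] theorem tfst_pr (p : Q.Ring) (m : M) : tfst Q (pr Q p m) = p := by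
  show TrivSqZeroExt.fst (inl p + inr m : TrivSqZeroExt Q.Ring M) = p
  simp

@[simp] theorem tsnd_pr (p : Q.Ring) (m : M) : tsnd Q (pr Q p m) = m := by
  show TrivSqZeroExt.snd (inl p + inr m : TrivSqZeroExt Q.Ring M) = m
  simp

theorem tt_ext {x y : TT Q M} (h1 : tfst Q x = tfst Q y) (h2 : tsnd Q x = tsnd Q y) : x = y :=
  TrivSqZeroExt.ext h1 h2

theorem pr_eta (x : TT Q M) : pr Q (tfst Q x) (tsnd Q x) = x :=
  tt_ext (tfst_pr _ _) (tsnd_pr _ _)

@[simp] theorem tfst_zero : tfst Q (0 : TT Q M) = 0 := rfl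
@[simp] theorem tsnd_zero : tsnd Q (0 : TT Q M) = 0 := rfl
@[simp] theorem tfst_one : tfst Q (1 : TT Q M) = 1 := rfl
@[simp] theorem tsnd_one : tsnd Q (1 : TT Q M) = 0 := rfl
@[simp] theorem tfst_add (x y : TT Q M) : tfst Q (x + y) = tfst Q x + tfst Q y := rfl
@[simp] theorem tsnd_add (x y : TT Q M) : tsnd Q (x + y) = tsnd Q x + tsnd Q y := rfl
@[simp] theorem tfst_mul (x y : TT Q M) : tfst Q (x * y) = tfst Q x * tfst Q y := rfl
@[simp] theorem tsnd_mul (x y : TT Q M) :
    tsnd Q (x * y) = tfst Q x • tsnd Q y + tfst Q y • tsnd Q x := rfl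

theorem pr_add (p p' : Q.Ring) (m m' : M) : pr Q p m + pr Q p' m' = pr Q (p + p') (m + m') :=
  tt_ext (by simp) (by simp)

theorem pr_mul (p p' : Q.Ring) (m m' : M) :
    pr Q p m * pr Q p' m' = pr Q (p * p') (p • m' + p' • m) :=
  tt_ext (by simp) (by simp)

variable (Q)

/-- the first projection as a ring hom -/
def fstRH (M : Type u) [AddCommGroup M] [Module B₀ M] [Module Q.Ring M]
    [IsScalarTower Q.Ring B₀ M] : TT Q M →+* Q.Ring where
  toFun := tfst Q
  map_one' := rfl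
  map_mul' _ _ := rfl
  map_zero' := rfl
  map_add' _ _ := rfl

variable (φ : Q.ker →ₗ[Q.Ring] M)

/-- the ideal `{(g, φ g) : g ∈ I}` -/
def K : Ideal (TT Q M) where
  carrier := {x | ∃ g : Q.ker, x = pr Q (g : Q.Ring) (φ g)}
  add_mem' := by
    rintro _ _ ⟨g, rfl⟩ ⟨g', rfl⟩
    exact ⟨g + g', by rw [pr_add, map_add, Submodule.coe_add]⟩
  zero_mem' := ⟨0, tt_ext (by simp) (by simp)⟩
  smul_mem' := by
    rintro y _ ⟨g, rfl⟩
    refine ⟨tfst Q y • g, ?_⟩
    rw [smul_eq_mul, map_smul]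
    refine tt_ext ?_ ?_
    · simp
    · simp [ker_smul]

/-- the model ring -/
def E : Type u := TT Q M ⧸ K Q φ

noncomputable instance : CommRing (E Q φ) := inferInstanceAs (CommRing (TT Q M ⧸ K Q φ))

/-- the quotient map -/
noncomputable def mkE : TT Q M →+* E Q φ := Ideal.Quotient.mk (K Q φ)

theorem mkE_surjective : Function.Surjective (mkE Q φ) := Ideal.Quotient.mk_surjective

theorem mkE_eq_zero_iff (x : TT Q M) :
    mkE Q φ x = 0 ↔ ∃ g : Q.ker, x = pr Q (g : Q.Ring) (φ g) :=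
  Ideal.Quotient.eq_zero_iff_mem

/-- lifting ring homs to the quotient -/
noncomputable def liftE {S : Type u} [CommRing S] (RT : TT Q M →+* S)
    (h : ∀ g : Q.ker, RT (pr Q (g : Q.Ring) (φ g)) = 0) : E Q φ →+* S :=
  Ideal.Quotient.lift (K Q φ) RT (by rintro _ ⟨g, rfl⟩; exact h g)

theorem liftE_mk {S : Type u} [CommRing S] (RT : TT Q M →+* S)
    (h : ∀ g : Q.ker, RT (pr Q (g : Q.Ring) (φ g)) = 0) (x : TT Q M) :
    liftE Q φ RT h (mkE Q φ x) = RT x := rfl

/-- the projection to `B₀` -/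
noncomputable def ιE : E Q φ →+* B₀ :=
  liftE Q φ ((algebraMap Q.Ring B₀).comp (fstRH Q M)) (by
    intro g
    show algebraMap Q.Ring B₀ (tfst Q (pr Q (g : Q.Ring) (φ g))) = 0
    rw [tfst_pr]
    exact RingHom.mem_ker.mp g.2)

theorem ιE_mk (x : TT Q M) : ιE Q φ (mkE Q φ x) = algebraMap Q.Ring B₀ (tfst Q x) := rfl

/-- the inclusion of `M` -/
noncomputable def inclE : M →+ E Q φ where
  toFun m := mkE Q φ (pr Q 0 m)
  map_zero' := by
    rw [show pr Q (0 : Q.Ring) (0 : M) = 0 from tt_ext (by simp) (by simp), map_zero]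
  map_add' a b := by
    rw [← map_add, pr_add, add_zero]

theorem inclE_apply (m : M) : inclE Q φ m = mkE Q φ (pr Q 0 m) := rfl

theorem ιE_surjective : Function.Surjective (ιE Q φ) := by
  intro b
  obtain ⟨p, rfl⟩ := Q.algebraMap_surjective b
  exact ⟨mkE Q φ (pr Q p 0), by rw [ιE_mk, tfst_pr]⟩

theorem inclE_injective : Function.Injective (inclE Q φ) := by
  rw [injective_iff_map_eq_zero]
  intro m hm
  rw [inclE_apply, mkE_eq_zero_iff] at hm
  obtain ⟨g, hg⟩ := hm
  have h1 : (g : Q.Ring) = 0 := by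
    have := congrArg (tfst Q) hg
    rw [tfst_pr, tfst_pr] at this
    exact this.symm
  have h2 : g = 0 := Subtype.ext h1
  have h3 := congrArg (tsnd Q) hg
  rw [tsnd_pr, tsnd_pr, h2, map_zero] at h3
  exact h3

theorem ιE_inclE (m : M) : ιE Q φ (inclE Q φ m) = 0 := by
  rw [inclE_apply, ιE_mk, tfst_pr, map_zero]

theorem exact_E (e : E Q φ) (he : ιE Q φ e = 0) : ∃ m, inclE Q φ m = e := by
  obtain ⟨x, rfl⟩ := mkE_surjective Q φ e
  rw [ιE_mk] at he
  let g : Q.ker := ⟨tfst Q x, RingHom.mem_ker.mpr he⟩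
  refine ⟨tsnd Q x - φ g, ?_⟩
  rw [inclE_apply, ← sub_eq_zero, ← map_sub, mkE_eq_zero_iff]
  refine ⟨-g, ?_⟩
  refine tt_ext ?_ ?_
  · show tfst Q (pr Q 0 (tsnd Q x - φ g)) - tfst Q x = tfst Q (pr Q ((-g : Q.ker) : Q.Ring) (φ (-g)))
    rw [tfst_pr, tfst_pr, zero_sub]
    rfl
  · show tsnd Q (pr Q 0 (tsnd Q x - φ g)) - tsnd Q x = tsnd Q (pr Q ((-g : Q.ker) : Q.Ring) (φ (-g)))
    rw [tsnd_pr, tsnd_pr, map_neg]
    abel

theorem mul_inclE (e : E Q φ) (m : M) : e * inclE Q φ m = inclE Q φ (ιE Q φ e • m) := by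
  obtain ⟨x, rfl⟩ := mkE_surjective Q φ e
  rw [inclE_apply, inclE_apply, ← map_mul, ιE_mk, algebraMap_smul]
  congr 1
  refine tt_ext ?_ ?_
  · simp
  · simp

end Model

section Alpha

variable {k B₀ : Type u} [Field k] [CommRing B₀] [Algebra k B₀] (Q : Algebra.Extension.{u} k B₀)
  {M : Type u} [AddCommGroup M] [Module B₀ M] [Module Q.Ring M] [IsScalarTower Q.Ring B₀ M]
  {V : Type u} [AddCommGroup V] [Module k V] [Module kᵐᵒᵖ V] [IsCentralScalar k V]

/-- the ring hom `k ⊕ V → Q.Ring ⊕ M` induced by `ν : V → M` -/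
noncomputable def αT (ν : V →+ M) (hν : ∀ (c : k) (v : V), ν (c • v) = algebraMap k Q.Ring c • ν v) :
    TrivSqZeroExt k V →+* TT Q M where
  toFun a := pr Q (algebraMap k Q.Ring a.fst) (ν a.snd)
  map_one' := tt_ext (by simp) (by simp)
  map_mul' a b := by
    refine tt_ext ?_ ?_
    · simp
    · simp [hν, add_comm]
  map_zero' := tt_ext (by simp) (by simp)
  map_add' a b := by
    rw [pr_add]
    refine tt_ext ?_ ?_
    · simp
    · simp

variable (φ : Q.ker →ₗ[Q.Ring] M) (ν : V →+ M)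
  (hν : ∀ (c : k) (v : V), ν (c • v) = algebraMap k Q.Ring c • ν v)

/-- the structure map `k ⊕ V → E φ` -/
noncomputable def αE : TrivSqZeroExt k V →+* E Q φ := (mkE Q φ).comp (αT Q ν hν)

theorem αE_apply (a : TrivSqZeroExt k V) :
    αE Q φ ν hν a = mkE Q φ (pr Q (algebraMap k Q.Ring a.fst) (ν a.snd)) := rfl

/-- `inl` as a ring hom -/
def inlRH (k V : Type u) [Field k] [AddCommGroup V] [Module k V] [Module kᵐᵒᵖ V]
    [IsCentralScalar k V] : k →+* TrivSqZeroExt k V where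
  toFun := inl
  map_one' := inl_one V
  map_mul' a b := inl_mul V a b
  map_zero' := inl_zero V
  map_add' a b := inl_add V a b

/-- `fst` as a ring hom -/
def fstRH' (k V : Type u) [Field k] [AddCommGroup V] [Module k V] [Module kᵐᵒᵖ V]
    [IsCentralScalar k V] : TrivSqZeroExt k V →+* k where
  toFun := fst
  map_one' := fst_one
  map_mul' a b := fst_mul a b
  map_zero' := fst_zero
  map_add' a b := fst_add a b

/-- `inr` as an additive hom -/
def inrAH (k V : Type u) [Field k] [AddCommGroup V] [Module k V] [Module kᵐᵒᵖ V]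
    [IsCentralScalar k V] : V →+ TrivSqZeroExt k V where
  toFun := inr
  map_zero' := inr_zero k
  map_add' a b := inr_add k a b

theorem vdata_E
    (hχ : ∃ χ : V ⊗[k] B₀ →+ M, (∀ v b, χ (v ⊗ₜ[k] b) = b • ν v) ∧ Function.Bijective χ) :
    VData (inlRH k V) (fstRH' k V) (inrAH k V) (αE Q φ ν hν) (ιE Q φ) (inclE Q φ) ν where
  rho_inr v := fst_inr k v
  dec a := ⟨a.snd, (inl_fst_add_inr_snd_eq a).symm⟩
  inl_inr c v := inl_mul_inr c v
  ι_surj := ιE_surjective Q φ
  incl_inj := inclE_injective Q φ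
  exact := exact_E Q φ
  ι_incl := ιE_inclE Q φ
  mul_incl := mul_inclE Q φ
  ι_α c := by
    show ιE Q φ (αE Q φ ν hν (inl c)) = algebraMap k B₀ c
    rw [αE_apply, ιE_mk, tfst_pr, fst_inl, ← IsScalarTower.algebraMap_apply]
  α_inr v := by
    show αE Q φ ν hν (inr v) = inclE Q φ (ν v)
    rw [αE_apply, inclE_apply, fst_inr, snd_inr, map_zero]
  χ_ex := hχ

end Alpha

section Maps

variable {k B₀ : Type u} [Field k] [CommRing B₀] [Algebra k B₀] (Q : Algebra.Extension.{u} k B₀)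
  {M : Type u} [AddCommGroup M] [Module B₀ M] [Module Q.Ring M] [IsScalarTower Q.Ring B₀ M]
  {M' : Type u} [AddCommGroup M'] [Module B₀ M'] [Module Q.Ring M'] [IsScalarTower Q.Ring B₀ M']

/-- the ring hom of trivial extensions induced by a linear map -/
noncomputable def mapT (L : M →ₗ[Q.Ring] M') : TT Q M →+* TT Q M' where
  toFun x := pr Q (tfst Q x) (L (tsnd Q x))
  map_one' := tt_ext (by simp) (by simp)
  map_mul' x y := by
    refine tt_ext ?_ ?_
    · simp
    · simp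
  map_zero' := tt_ext (by simp) (by simp)
  map_add' x y := by
    rw [pr_add]
    refine tt_ext ?_ ?_
    · simp
    · simp

variable (φ : Q.ker →ₗ[Q.Ring] M)

/-- the map of models induced by a linear map of modules -/
noncomputable def mapL (L : M →ₗ[Q.Ring] M') : E Q φ →+* E Q (L ∘ₗ φ) :=
  liftE Q φ ((mkE Q (L ∘ₗ φ)).comp (mapT Q L)) (by
    intro g
    show mkE Q (L ∘ₗ φ) (pr Q (tfst Q (pr Q (g : Q.Ring) (φ g))) (L (tsnd Q (pr Q (g : Q.Ring) (φ g))))) = 0
    rw [tfst_pr, tsnd_pr, mkE_eq_zero_iff]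
    exact ⟨g, rfl⟩)

theorem mapL_mk (L : M →ₗ[Q.Ring] M') (x : TT Q M) :
    mapL Q φ L (mkE Q φ x) = mkE Q (L ∘ₗ φ) (pr Q (tfst Q x) (L (tsnd Q x))) := rfl

theorem ιE_mapL (L : M →ₗ[Q.Ring] M') (e : E Q φ) : ιE Q (L ∘ₗ φ) (mapL Q φ L e) = ιE Q φ e := by
  obtain ⟨x, rfl⟩ := mkE_surjective Q φ e
  rw [mapL_mk, ιE_mk, ιE_mk, tfst_pr]

section

variable {V V' : Type u} [AddCommGroup V] [Module k V] [Module kᵐᵒᵖ V] [IsCentralScalar k V]
  [AddCommGroup V'] [Module k V'] [Module kᵐᵒᵖ V'] [IsCentralScalar k V']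

theorem mapL_αE (L : M →ₗ[Q.Ring] M') (ν : V →+ M)
    (hν : ∀ (c : k) (v : V), ν (c • v) = algebraMap k Q.Ring c • ν v) (ν' : V' →+ M')
    (hν' : ∀ (c : k) (v : V'), ν' (c • v) = algebraMap k Q.Ring c • ν' v)
    (g : TrivSqZeroExt k V → TrivSqZeroExt k V') (hfst : ∀ a, (g a).fst = a.fst)
    (hsnd : ∀ a, ν' (g a).snd = L (ν a.snd)) (a : TrivSqZeroExt k V) :
    mapL Q φ L (αE Q φ ν hν a) = αE Q (L ∘ₗ φ) ν' hν' (g a) := by
  rw [αE_apply, αE_apply, mapL_mk, tfst_pr, tsnd_pr, hfst, hsnd]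

end

/-- the restriction of a derivation-like map to the kernel -/
noncomputable def dK (d : Q.Ring → M) (hadd : ∀ p q, d (p + q) = d p + d q)
    (hmul : ∀ p q, d (p * q) = p • d q + q • d p) : Q.ker →ₗ[Q.Ring] M where
  toFun g := d (g : Q.Ring)
  map_add' g g' := hadd _ _
  map_smul' p g := by
    show d (p * (g : Q.Ring)) = p • d (g : Q.Ring)
    rw [hmul, ker_smul, add_zero]

/-- the automorphism of the trivial extension attached to a derivation -/
noncomputable def shiftT (d : Q.Ring → M) (hadd : ∀ p q, d (p + q) = d p + d q)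
    (hmul : ∀ p q, d (p * q) = p • d q + q • d p) : TT Q M →+* TT Q M where
  toFun x := pr Q (tfst Q x) (tsnd Q x + d (tfst Q x))
  map_one' := by
    have h1 : d 1 = 0 := by
      have := hmul 1 1
      rw [mul_one, one_smul] at this
      exact left_eq_add.mp this
    refine tt_ext ?_ ?_
    · simp
    · simp [h1]
  map_mul' x y := by
    refine tt_ext ?_ ?_
    · simp
    · simp only [tsnd_pr, tfst_pr, tsnd_mul, tfst_mul, hmul, smul_add]
      abel
  map_zero' := by
    have h0 : d 0 = 0 := by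
      have := hadd 0 0
      rw [add_zero] at this
      exact left_eq_add.mp this
    refine tt_ext ?_ ?_
    · simp
    · simp [h0]
  map_add' x y := by
    rw [pr_add]
    refine tt_ext ?_ ?_
    · simp
    · simp only [tsnd_pr, tfst_add, tsnd_add, hadd]
      abel

/-- the map of models induced by a derivation -/
noncomputable def shiftE (d : Q.Ring → M) (hadd : ∀ p q, d (p + q) = d p + d q)
    (hmul : ∀ p q, d (p * q) = p • d q + q • d p) : E Q φ →+* E Q (φ + dK Q d hadd hmul) :=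
  liftE Q φ ((mkE Q (φ + dK Q d hadd hmul)).comp (shiftT Q d hadd hmul)) (by
    intro g
    show mkE Q (φ + dK Q d hadd hmul) (pr Q (tfst Q (pr Q (g : Q.Ring) (φ g)))
      (tsnd Q (pr Q (g : Q.Ring) (φ g)) + d (tfst Q (pr Q (g : Q.Ring) (φ g))))) = 0
    rw [tfst_pr, tsnd_pr, mkE_eq_zero_iff]
    exact ⟨g, rfl⟩)

theorem shiftE_mk (d : Q.Ring → M) (hadd : ∀ p q, d (p + q) = d p + d q)
    (hmul : ∀ p q, d (p * q) = p • d q + q • d p) (x : TT Q M) :
    shiftE Q φ d hadd hmul (mkE Q φ x) =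
      mkE Q (φ + dK Q d hadd hmul) (pr Q (tfst Q x) (tsnd Q x + d (tfst Q x))) := rfl

theorem ιE_shiftE (d : Q.Ring → M) (hadd : ∀ p q, d (p + q) = d p + d q)
    (hmul : ∀ p q, d (p * q) = p • d q + q • d p) (e : E Q φ) :
    ιE Q (φ + dK Q d hadd hmul) (shiftE Q φ d hadd hmul e) = ιE Q φ e := by
  obtain ⟨x, rfl⟩ := mkE_surjective Q φ e
  rw [shiftE_mk, ιE_mk, ιE_mk, tfst_pr]

theorem shiftE_αE {V : Type u} [AddCommGroup V] [Module k V] [Module kᵐᵒᵖ V]
    [IsCentralScalar k V] (d : Q.Ring → M) (hadd : ∀ p q, d (p + q) = d p + d q)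
    (hmul : ∀ p q, d (p * q) = p • d q + q • d p) (hC : ∀ c : k, d (algebraMap k Q.Ring c) = 0)
    (ν : V →+ M) (hν : ∀ (c : k) (v : V), ν (c • v) = algebraMap k Q.Ring c • ν v)
    (a : TrivSqZeroExt k V) :
    shiftE Q φ d hadd hmul (αE Q φ ν hν a) = αE Q (φ + dK Q d hadd hmul) ν hν a := by
  rw [αE_apply, αE_apply, shiftE_mk, tfst_pr, tsnd_pr, hC, add_zero]

end Maps

end Groth.Agent.Helper3.FO
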