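import Mathlib
import Groth.Agent.Lib.Helper3.FO2

/-! Every flat first-order thickening of `B₀` over the dual numbers receives a map from a model
`E φ` (helper3). -/

set_option autoImplicit false
set_option linter.style.haveILetI false
universe u
open TensorProduct TrivSqZeroExt

namespace Groth.Agent.Helper3.FO

section Nu

variable {k B₀ : Type u} [Field k] [CommRing B₀] [Algebra k B₀] (Q : Algebra.Extension.{u} k B₀)

/-- `k → B₀` as an additive map -/
def ν₁ (k B₀ : Type u) [Field k] [CommRing B₀] [Algebra k B₀] : k →+ B₀ :=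
  (algebraMap k B₀).toAddMonoidHom

theorem ν₁_apply (c : k) : ν₁ k B₀ c = algebraMap k B₀ c := rfl

theorem hν₁ (c v : k) : ν₁ k B₀ (c • v) = algebraMap k Q.Ring c • ν₁ k B₀ v := by
  rw [ν₁_apply, ν₁_apply, smul_eq_mul, map_mul, Algebra.smul_def,
    ← IsScalarTower.algebraMap_apply]

/-- `k × k → B₀ × B₀` as an additive map -/
def ν₂ (k B₀ : Type u) [Field k] [CommRing B₀] [Algebra k B₀] : k × k →+ B₀ × B₀ :=
  AddMonoidHom.prodMap (algebraMap k B₀).toAddMonoidHom (algebraMap k B₀).toAddMonoidHom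

theorem ν₂_apply (c : k × k) : ν₂ k B₀ c = (algebraMap k B₀ c.1, algebraMap k B₀ c.2) := rfl

theorem hν₂ (c : k) (v : k × k) : ν₂ k B₀ (c • v) = algebraMap k Q.Ring c • ν₂ k B₀ v := by
  rw [ν₂_apply, ν₂_apply]
  refine Prod.ext ?_ ?_
  · show algebraMap k B₀ (c • v.1) = algebraMap k Q.Ring c • algebraMap k B₀ v.1
    rw [smul_eq_mul, map_mul, Algebra.smul_def, ← IsScalarTower.algebraMap_apply]
  · show algebraMap k B₀ (c • v.2) = algebraMap k Q.Ring c • algebraMap k B₀ v.2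
    rw [smul_eq_mul, map_mul, Algebra.smul_def, ← IsScalarTower.algebraMap_apply]

theorem chi_one : ∃ χ : k ⊗[k] B₀ →+ B₀, (∀ v b, χ (v ⊗ₜ[k] b) = b • ν₁ k B₀ v) ∧
    Function.Bijective χ := by
  refine ⟨(TensorProduct.lid k B₀).toLinearMap.toAddMonoidHom, fun v b => ?_,
    (TensorProduct.lid k B₀).bijective⟩
  show TensorProduct.lid k B₀ (v ⊗ₜ[k] b) = b • ν₁ k B₀ v
  rw [TensorProduct.lid_tmul, ν₁_apply, smul_eq_mul, Algebra.smul_def, mul_comm]

theorem chi_two : ∃ χ : (k × k) ⊗[k] B₀ →+ B₀ × B₀, (∀ v b, χ (v ⊗ₜ[k] b) = b • ν₂ k B₀ v) ∧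
    Function.Bijective χ := by
  let e : (k × k) ⊗[k] B₀ ≃ₗ[k] B₀ × B₀ :=
    (TensorProduct.prodLeft k k k k B₀).trans
      ((TensorProduct.lid k B₀).prodCongr (TensorProduct.lid k B₀))
  refine ⟨e.toLinearMap.toAddMonoidHom, fun v b => ?_, e.bijective⟩
  obtain ⟨c₁, c₂⟩ := v
  show e ((c₁, c₂) ⊗ₜ[k] b) = b • ν₂ k B₀ (c₁, c₂)
  rw [ν₂_apply]
  show ((TensorProduct.lid k B₀).prodCongr (TensorProduct.lid k B₀))
    (TensorProduct.prodLeft k k k k B₀ ((c₁, c₂) ⊗ₜ[k] b)) = _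
  rw [TensorProduct.prodLeft_tmul]
  refine Prod.ext ?_ ?_
  · show TensorProduct.lid k B₀ (c₁ ⊗ₜ[k] b) = b • algebraMap k B₀ c₁
    rw [TensorProduct.lid_tmul, smul_eq_mul, Algebra.smul_def, mul_comm]
  · show TensorProduct.lid k B₀ (c₂ ⊗ₜ[k] b) = b • algebraMap k B₀ c₂
    rw [TensorProduct.lid_tmul, smul_eq_mul, Algebra.smul_def, mul_comm]

end Nu

section Lift

variable {k B₀ : Type u} [Field k] [CommRing B₀] [Algebra k B₀] (Q : Algebra.Extension.{u} k B₀)

theorem dual_dec (a : TrivSqZeroExt k k) : a = inl a.fst + inr 1 * inl a.snd := by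
  refine TrivSqZeroExt.ext ?_ ?_
  · simp
  · simp

theorem dual_eps_mul (a : TrivSqZeroExt k k) : (inr 1 * a : TrivSqZeroExt k k) = inr a.fst := by
  refine TrivSqZeroExt.ext ?_ ?_
  · simp
  · simp

theorem exists_model_hom [Algebra.FormallySmooth k Q.Ring] {E' : Type u} [CommRing E']
    (α : TrivSqZeroExt k k →+* E') (hfl : α.Flat) (ι : E' →+* B₀) (hs : Function.Surjective ι)
    (hker : RingHom.ker ι = Ideal.map α (RingHom.ker (fstRH' k k)))
    (hcomp : ∀ a, ι (α a) = algebraMap k B₀ a.fst) :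
    ∃ (φ : Q.ker →ₗ[Q.Ring] B₀) (R : E Q φ →+* E'),
      (∀ a, R (αE Q φ (ν₁ k B₀) (hν₁ Q) a) = α a) ∧ ∀ e, ι (R e) = ιE Q φ e := by
  classical
  obtain ⟨ε, hε⟩ : ∃ e : E', e = α (inr 1) := ⟨_, rfl⟩
  have hιε : ι ε = 0 := by rw [hε, hcomp, fst_inr, map_zero]
  have hkerA : ∀ a : TrivSqZeroExt k k, a ∈ RingHom.ker (fstRH' k k) → a.fst = 0 :=
    fun a ha => RingHom.mem_ker.mp ha
  have hkill : ∀ y, ι y = 0 → ε * y = 0 := by
    intro y hy
    have hy' : y ∈ Ideal.map α (RingHom.ker (fstRH' k k)) := by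
      rw [← hker]; exact RingHom.mem_ker.mpr hy
    refine Submodule.span_induction (p := fun y _ => ε * y = 0) ?_ ?_ ?_ ?_ hy'
    · rintro _ ⟨a, ha, rfl⟩
      rw [hε, ← map_mul, dual_eps_mul, hkerA a ha, inr_zero, map_zero]
    · exact mul_zero _
    · intro x y _ _ hx hy
      rw [mul_add, hx, hy, add_zero]
    · intro r x _ hx
      rw [smul_eq_mul, mul_left_comm, hx, mul_zero]
  have hkill_sub : ∀ y y', ι y = ι y' → ε * y = ε * y' := by
    intro y y' h
    have := hkill (y - y') (by rw [map_sub, h, sub_self])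
    rw [mul_sub, sub_eq_zero] at this
    exact this
  let μ : B₀ →+ E' :=
    { toFun := fun b => ε * Function.surjInv hs b
      map_zero' := hkill _ (Function.surjInv_eq hs 0)
      map_add' := fun b b' => by
        rw [← mul_add]
        exact hkill_sub _ _ (by
          rw [map_add, Function.surjInv_eq hs, Function.surjInv_eq hs, Function.surjInv_eq hs]) }
  have hμ : ∀ y, μ (ι y) = ε * y := fun y =>
    hkill_sub _ _ (Function.surjInv_eq hs (ι y))
  have hιμ : ∀ b, ι (μ b) = 0 := fun b => by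
    show ι (ε * Function.surjInv hs b) = 0
    rw [map_mul, hιε, zero_mul]
  have hμ_smul : ∀ y b, μ (ι y * b) = y * μ b := by
    intro y b
    obtain ⟨y', rfl⟩ := hs b
    rw [← map_mul, hμ, hμ, mul_left_comm]
  have hμμ : ∀ b b', μ b * μ b' = 0 := by
    intro b b'
    obtain ⟨y, rfl⟩ := hs b
    rw [hμ, mul_assoc]
    exact hkill _ (by rw [map_mul, hιμ, mul_zero])
  have hμ_range : ∀ y, ι y = 0 → ∃ b, μ b = y := by
    intro y hy
    have hy' : y ∈ Ideal.map α (RingHom.ker (fstRH' k k)) := by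
      rw [← hker]; exact RingHom.mem_ker.mpr hy
    refine Submodule.span_induction (p := fun y _ => ∃ b, μ b = y) ?_ ?_ ?_ ?_ hy'
    · rintro _ ⟨a, ha, rfl⟩
      refine ⟨ι (α (inl a.snd)), ?_⟩
      rw [hμ, hε, ← map_mul]
      congr 1
      have h1 := dual_dec a
      rw [hkerA a ha, inl_zero, zero_add] at h1
      exact h1.symm
    · exact ⟨0, map_zero μ⟩
    · rintro x y _ _ ⟨b, rfl⟩ ⟨b', rfl⟩
      exact ⟨b + b', map_add μ b b'⟩
    · rintro r x _ ⟨b, rfl⟩
      exact ⟨ι r * b, by rw [hμ_smul, smul_eq_mul]⟩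
  letI : Algebra (TrivSqZeroExt k k) E' := α.toAlgebra
  haveI : Module.Flat (TrivSqZeroExt k k) E' := hfl
  have hflat : ∀ y : E', ε * y = 0 → ι y = 0 := by
    intro y hy
    obtain ⟨m, a, z, h1, h2⟩ := Module.Flat.isTrivialRelation_of_sum_smul_eq_zero
      (R := TrivSqZeroExt k k) (M := E')
      (ι := Unit) (f := fun _ => (inr 1 : TrivSqZeroExt k k)) (x := fun _ => y) (by
        simp only [Finset.univ_unique, Finset.sum_singleton]
        rw [Algebra.smul_def]
        show α (inr 1) * y = 0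
        rw [← hε, hy])
    have h1' : y = ∑ l, a () l • z l := h1 ()
    have h2' : ∀ l, (a () l).fst = 0 := by
      intro l
      have h3 := h2 l
      simp only [Finset.univ_unique, Finset.sum_singleton] at h3
      rw [dual_eps_mul] at h3
      have h4 := congrArg TrivSqZeroExt.snd h3
      rw [snd_inr, snd_zero] at h4
      exact h4
    rw [h1', map_sum]
    refine Finset.sum_eq_zero (fun l _ => ?_)
    rw [Algebra.smul_def, map_mul]
    show ι (α (a () l)) * ι (z l) = 0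
    rw [hcomp, h2' l, map_zero, zero_mul]
  have hμ_inj : Function.Injective μ := by
    rw [injective_iff_map_eq_zero]
    intro b hb
    obtain ⟨y, rfl⟩ := hs b
    rw [hμ] at hb
    exact hflat y hb
  letI : Algebra k E' := (α.comp (inlRH k k)).toAlgebra
  have halg : ∀ c : k, algebraMap k E' c = α (inl c) := fun c => rfl
  let ι' : E' →ₐ[k] B₀ :=
    { ι with
      commutes' := fun c => by
        show ι (α (inl c)) = algebraMap k B₀ c
        rw [hcomp, fst_inl] }
  have hι' : ∀ y, ι' y = ι y := fun y => rfl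
  have hnil : IsNilpotent (RingHom.ker (ι' : E' →+* B₀)) := by
    refine ⟨2, ?_⟩
    rw [pow_two, Ideal.zero_eq_bot, ← le_bot_iff, Ideal.mul_le]
    intro y hy y' hy'
    have hy0 : ι y = 0 := RingHom.mem_ker.mp hy
    have hy0' : ι y' = 0 := RingHom.mem_ker.mp hy'
    obtain ⟨b, rfl⟩ := hμ_range y hy0
    obtain ⟨b', rfl⟩ := hμ_range y' hy0'
    rw [hμμ]
    exact Ideal.zero_mem _
  obtain ⟨s, hsdef⟩ : ∃ s : Q.Ring →ₐ[k] E', s = Algebra.FormallySmooth.liftOfSurjective
      (IsScalarTower.toAlgHom k Q.Ring B₀) ι' hs hnil := ⟨_, rfl⟩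
  have hsι : ∀ p, ι (s p) = algebraMap Q.Ring B₀ p := by
    intro p
    rw [hsdef]
    exact Algebra.FormallySmooth.liftOfSurjective_apply
      (IsScalarTower.toAlgHom k Q.Ring B₀) ι' hs hnil p
  have hsC : ∀ c : k, s (algebraMap k Q.Ring c) = α (inl c) := fun c => s.commutes c
  have hex : ∀ g : Q.ker, ∃ b, μ b = s (g : Q.Ring) := fun g =>
    hμ_range _ (by rw [hsι]; exact RingHom.mem_ker.mp g.2)
  choose φ₀ hφ₀ using hex
  let φ : Q.ker →ₗ[Q.Ring] B₀ :=
    { toFun := fun g => - φ₀ g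
      map_add' := fun g g' => hμ_inj (by
        rw [map_neg, hφ₀, map_add, map_neg, map_neg, hφ₀, hφ₀, Submodule.coe_add, map_add,
          neg_add])
      map_smul' := fun p g => hμ_inj (by
        show μ (- φ₀ (p • g)) = μ (p • (- φ₀ g))
        rw [map_neg, hφ₀, Algebra.smul_def, ← hsι, hμ_smul, map_neg, hφ₀, Submodule.coe_smul,
          smul_eq_mul, map_mul, mul_neg]) }
  have hφ : ∀ g : Q.ker, μ (φ g) = - s (g : Q.Ring) := fun g => by
    show μ (- φ₀ g) = _
    rw [map_neg, hφ₀]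
  have hμ_sm : ∀ (p : Q.Ring) (b : B₀), μ (p • b) = s p * μ b := fun p b => by
    rw [Algebra.smul_def, ← hsι, hμ_smul]
  let RT : TT Q B₀ →+* E' :=
    { toFun := fun x => s (tfst Q x) + μ (tsnd Q x)
      map_one' := by rw [tfst_one, tsnd_one, map_one, map_zero, add_zero]
      map_mul' := fun x y => by
        rw [tfst_mul, tsnd_mul, map_mul, map_add, hμ_sm, hμ_sm]
        have e3 := hμμ (tsnd Q x) (tsnd Q y)
        linear_combination (-1 : E') * e3
      map_zero' := by rw [tfst_zero, tsnd_zero, map_zero, map_zero, add_zero]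
      map_add' := fun x y => by
        rw [tfst_add, tsnd_add, map_add, map_add]
        abel }
  have hRT : ∀ x, RT x = s (tfst Q x) + μ (tsnd Q x) := fun x => rfl
  have hRTK : ∀ g : Q.ker, RT (pr Q (g : Q.Ring) (φ g)) = 0 := fun g => by
    rw [hRT, tfst_pr, tsnd_pr, hφ, add_neg_cancel]
  refine ⟨φ, liftE Q φ RT hRTK, fun a => ?_, fun e => ?_⟩
  · rw [αE_apply, liftE_mk, hRT, tfst_pr, tsnd_pr, hsC, ν₁_apply]
    have h1 : algebraMap k B₀ a.snd = ι (α (inl a.snd)) := by rw [hcomp, fst_inl]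
    rw [h1, hμ, hε, ← map_mul, ← map_add, ← dual_dec]
  · obtain ⟨x, rfl⟩ := mkE_surjective Q φ e
    rw [liftE_mk, hRT, map_add, hsι, hιμ, add_zero, ιE_mk]

end Lift

end Groth.Agent.Helper3.FO
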