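import Mathlib
import Groth.Prelude.Def_CotT

/-! Concrete meaning of the vanishing of `T²` of a presentation (helper3). -/

set_option autoImplicit false
set_option linter.style.haveILetI false
universe u

namespace Groth.Agent.Helper3.T2Lift

open TensorProduct

theorem t2conc {k B₀ ι σ : Type u} [CommRing k] [CommRing B₀] [Algebra k B₀]
    (P : Algebra.Presentation k B₀ ι σ) (hT2 : Subsingleton (CotT.T2 P B₀))
    (hbar : CotT.relKer P →ₗ[P.toExtension.Ring] B₀)
    (htriv : ∀ (a b : CotT.relMod P)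
      (hmem : CotT.jmap P a • b - CotT.jmap P b • a ∈ CotT.relKer P), hbar ⟨_, hmem⟩ = 0) :
    ∃ gbar : σ → B₀, ∀ q : CotT.relKer P,
      hbar q = (q : CotT.relMod P).sum
        (fun s r => algebraMap P.toExtension.Ring B₀ r * gbar s) := by
  -- step 1: vanishing on trivial relations
  have h1 : ∀ (y : CotT.relMod P) (_ : y ∈ CotT.trivRel P) (hmem : y ∈ CotT.relKer P),
      hbar ⟨y, hmem⟩ = 0 := by
    intro y hy
    refine Submodule.span_induction
      (p := fun y _ => ∀ hmem : y ∈ CotT.relKer P, hbar ⟨y, hmem⟩ = 0) ?_ ?_ ?_ ?_ hy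
    · rintro x ⟨a, b, rfl⟩ hmem
      exact htriv a b hmem
    · intro hmem
      have : (⟨0, hmem⟩ : CotT.relKer P) = 0 := rfl
      rw [this, map_zero]
    · intro x y hx hy ihx ihy hmem
      have hx' : x ∈ CotT.relKer P := CotT.trivRel_le_relKer P hx
      have hy' : y ∈ CotT.relKer P := CotT.trivRel_le_relKer P hy
      have : (⟨x + y, hmem⟩ : CotT.relKer P) = ⟨x, hx'⟩ + ⟨y, hy'⟩ := rfl
      rw [this, map_add, ihx hx', ihy hy', add_zero]
    · intro r x hx ihx hmem
      have hx' : x ∈ CotT.relKer P := CotT.trivRel_le_relKer P hx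
      have : (⟨r • x, hmem⟩ : CotT.relKer P) = r • ⟨x, hx'⟩ := rfl
      rw [this, map_smul, ihx hx', smul_zero]
  -- step 2: the map on L2
  obtain ⟨lift0, hlift0⟩ : ∃ l : B₀ ⊗[P.toExtension.Ring] (CotT.relKer P) →ₗ[B₀] B₀,
      ∀ (b : B₀) (q : CotT.relKer P), l (b ⊗ₜ q) = b • hbar q :=
    ⟨LinearMap.liftBaseChange B₀ hbar, fun b q => LinearMap.liftBaseChange_tmul _ _ _ _⟩
  have hle : LinearMap.range ((CotT.trivRelKer P).subtype.baseChange B₀) ≤
      LinearMap.ker lift0 := by
    rw [LinearMap.range_le_ker_iff]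
    refine TensorProduct.AlgebraTensorModule.ext fun b t => ?_
    simp only [LinearMap.coe_comp, Function.comp_apply, LinearMap.baseChange_tmul,
      Submodule.coe_subtype, LinearMap.zero_apply]
    rw [hlift0]
    have ht : ((t : CotT.relKer P) : CotT.relMod P) ∈ CotT.trivRel P := t.2
    have h2 := h1 _ ht (t : CotT.relKer P).2
    have h3 : (⟨((t : CotT.relKer P) : CotT.relMod P), (t : CotT.relKer P).2⟩ :
        CotT.relKer P) = (t : CotT.relKer P) := rfl
    rw [h3] at h2
    rw [h2, smul_zero]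
  obtain ⟨H, hH⟩ : ∃ H : CotT.L2 P →ₗ[B₀] B₀, ∀ x, H (Submodule.Quotient.mk x) = lift0 x :=
    ⟨Submodule.liftQ _ lift0 hle, fun x => Submodule.liftQ_apply _ _ _⟩
  -- step 3: vanishing of T2
  have h0 : (Submodule.Quotient.mk H : CotT.T2 P B₀) = 0 := Subsingleton.elim _ _
  rw [Submodule.Quotient.mk_eq_zero] at h0
  obtain ⟨φ, hφ⟩ := h0
  rw [CotT.d2Star_apply] at hφ
  refine ⟨fun s => φ ((1 : B₀) ⊗ₜ[P.toExtension.Ring]
    (Finsupp.single s (1 : P.toExtension.Ring) : CotT.relMod P)), ?_⟩
  have key : ∀ x : CotT.relMod P, φ ((1 : B₀) ⊗ₜ[P.toExtension.Ring] x) =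
      x.sum (fun s r => algebraMap P.toExtension.Ring B₀ r *
        φ ((1 : B₀) ⊗ₜ[P.toExtension.Ring]
          (Finsupp.single s (1 : P.toExtension.Ring) : CotT.relMod P))) := by
    intro x
    induction x using Finsupp.induction_linear with
    | zero => simp
    | add x y hx hy =>
      rw [TensorProduct.tmul_add, map_add, hx, hy,
        Finsupp.sum_add_index' (by intro s; rw [map_zero, zero_mul])
          (by intro s r r'; rw [map_add, add_mul])]
    | single s r =>
      rw [Finsupp.sum_single_index (by rw [map_zero, zero_mul])]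
      have h4 : (1 : B₀) ⊗ₜ[P.toExtension.Ring] (Finsupp.single s r : CotT.relMod P) =
          algebraMap P.toExtension.Ring B₀ r • ((1 : B₀) ⊗ₜ[P.toExtension.Ring]
            (Finsupp.single s (1 : P.toExtension.Ring) : CotT.relMod P)) := by
        rw [TensorProduct.smul_tmul', smul_eq_mul, mul_one, ← Finsupp.smul_single_one s r,
          ← TensorProduct.smul_tmul, Algebra.smul_def, mul_one]
      rw [h4, map_smul, smul_eq_mul]
  intro q
  have h5 : hbar q = H (Submodule.Quotient.mk ((1 : B₀) ⊗ₜ[P.toExtension.Ring] q)) := by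
    rw [hH, hlift0, one_smul]
  rw [h5, ← hφ, LinearMap.comp_apply, CotT.d2_mk_tmul, key]

end Groth.Agent.Helper3.T2Lift
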