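import Mathlib
import Groth.Agent.Lib.Helper3.T2Lift1

/-! Lifting flat deformations of presented algebras: presentations over the Artinian base
(helper3). -/

set_option autoImplicit false
set_option linter.style.haveILetI false
universe u

namespace Groth.Agent.Helper3.T2Lift

open MvPolynomial

section LevelA

variable {k : Type u} [Field k] {ι σ : Type u} {B₀ : Type u} [CommRing B₀] [Algebra k B₀]
  (P : Algebra.Presentation k B₀ ι σ)
  {A : Type u} [CommRing A] [Algebra k A] (e : A →ₐ[k] k)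
  {B : Type u} [CommRing B] [Algebra A B] (ι₀ : B →+* B₀)

theorem he_comp : (e : A →+* k).comp (algebraMap k A) = RingHom.id k :=
  RingHom.ext fun c => e.commutes c

theorem mem_map_C_ker (G : MvPolynomial ι A) :
    G ∈ Ideal.map C (RingHom.ker e) ↔ map (e : A →+* k) G = 0 := by
  rw [← RingHom.mem_ker, ker_map]
  exact Iff.rfl

theorem map_e_map_algebraMap (g : MvPolynomial ι k) :
    map (e : A →+* k) (map (algebraMap k A) g) = g := by
  rw [MvPolynomial.map_map, he_comp, MvPolynomial.map_id]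

theorem mapRange_map_e (q : σ →₀ MvPolynomial ι k) :
    Finsupp.mapRange (map (e : A →+* k)) (map_zero _)
      (Finsupp.mapRange (map (algebraMap k A)) (map_zero _) q) = q := by
  ext s : 1
  rw [Finsupp.mapRange_apply, Finsupp.mapRange_apply, map_e_map_algebraMap]

theorem chi_eq (hcomp : ∀ a, ι₀ (algebraMap A B a) = algebraMap k B₀ (e a)) (b : ι → B)
    (hb : ∀ i, ι₀ (b i) = P.val i) (G : MvPolynomial ι A) :
    ι₀ (aeval b G) = aeval P.val (map (e : A →+* k) G) := by
  induction G using MvPolynomial.induction_on with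
  | C a => simp [hcomp]
  | add p q hp hq => simp only [map_add, hp, hq]
  | mul_X p i hp => simp only [map_mul, hp, aeval_X, map_X, hb]

/-- the `A`-linear map underlying a ring map out of the polynomial ring -/
noncomputable def psiLin (ψ : MvPolynomial ι A →+* B) (hψC : ∀ a, ψ (C a) = algebraMap A B a) :
    MvPolynomial ι A →ₗ[A] B :=
  { toFun := ψ
    map_add' := map_add ψ
    map_smul' := fun a G => by
      rw [smul_eq_C_mul, map_mul, hψC, RingHom.id_apply, Algebra.smul_def] }

theorem exists_psi (hnil : IsNilpotent (RingHom.ker e)) (hι : Function.Surjective ι₀)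
    (hker : RingHom.ker ι₀ = Ideal.map (algebraMap A B) (RingHom.ker e))
    (hcomp : ∀ a, ι₀ (algebraMap A B a) = algebraMap k B₀ (e a)) :
    ∃ ψ : MvPolynomial ι A →+* B, (∀ a, ψ (C a) = algebraMap A B a) ∧
      (∀ G, ι₀ (ψ G) = aeval P.val (map (e : A →+* k) G)) ∧ Function.Surjective ψ := by
  choose b hb using fun i => hι (P.val i)
  obtain ⟨ψ, hψ⟩ : ∃ ψ : MvPolynomial ι A →+* B, ∀ G, ψ G = aeval b G :=
    ⟨(aeval b : MvPolynomial ι A →ₐ[A] B).toRingHom, fun _ => rfl⟩
  have hψC : ∀ a, ψ (C a) = algebraMap A B a := fun a => by rw [hψ, aeval_C]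
  have hψι : ∀ G, ι₀ (ψ G) = aeval P.val (map (e : A →+* k) G) := fun G => by
    rw [hψ, chi_eq P e ι₀ hcomp b hb]
  refine ⟨ψ, hψC, hψι, ?_⟩
  have h := Groth.Agent.Lead.DefoIso.eq_top_of_top_le_sup_smul (RingHom.ker e) hnil
    (LinearMap.range (psiLin ψ hψC)) ?_
  · intro y
    have h1 : y ∈ LinearMap.range (psiLin ψ hψC) := by rw [h]; trivial
    exact h1
  · intro y _
    obtain ⟨g, hg⟩ := P.aeval_val_surjective (ι₀ y)
    obtain ⟨G, hG⟩ : ∃ G : MvPolynomial ι A, G = map (algebraMap k A) g := ⟨_, rfl⟩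
    have h1 : ι₀ (y - ψ G) = 0 := by
      rw [map_sub, hψι, hG, map_e_map_algebraMap, hg, sub_self]
    have h2 : y - ψ G ∈ (RingHom.ker e) • (⊤ : Submodule A B) := by
      rw [Ideal.smul_top_eq_map]
      show _ ∈ Ideal.map (algebraMap A B) (RingHom.ker e)
      rw [← hker]
      exact h1
    have h3 : y = ψ G + (y - ψ G) := by abel
    rw [h3]
    exact Submodule.add_mem_sup ⟨G, rfl⟩ h2

variable [Module.Projective A B] (ψ : MvPolynomial ι A →+* B)
  (hψC : ∀ a, ψ (C a) = algebraMap A B a) (hψs : Function.Surjective ψ)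

include hψC hψs in
theorem ker_inf (G : MvPolynomial ι A) (h1 : ψ G = 0) (h2 : map (e : A →+* k) G = 0) :
    G ∈ Ideal.map C (RingHom.ker e) * RingHom.ker ψ := by
  have h3 : G ∈ (RingHom.ker e) • (⊤ : Submodule A (MvPolynomial ι A)) ⊓
      LinearMap.ker (psiLin ψ hψC) := by
    refine ⟨?_, h1⟩
    rw [Ideal.smul_top_eq_map]
    show G ∈ Ideal.map (algebraMap A (MvPolynomial ι A)) (RingHom.ker e)
    rw [MvPolynomial.algebraMap_eq, mem_map_C_ker]
    exact h2
  have h4 := smul_top_inf_ker_le (psiLin ψ hψC) hψs (RingHom.ker e) h3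
  refine Submodule.smul_induction_on h4 ?_ ?_
  · intro a ha n hn
    rw [smul_eq_C_mul]
    exact Ideal.mul_mem_mul (Ideal.mem_map_of_mem _ ha) (show n ∈ RingHom.ker ψ from hn)
  · intro x y hx hy
    exact Ideal.add_mem _ hx hy

include hψC hψs in
theorem ker_eq_span (hnil : IsNilpotent (RingHom.ker e))
    (hψι : ∀ G, ι₀ (ψ G) = aeval P.val (map (e : A →+* k) G))
    (F : σ → MvPolynomial ι A) (hF1 : ∀ s, ψ (F s) = 0)
    (hF2 : ∀ s, map (e : A →+* k) (F s) = P.relation s) :
    RingHom.ker ψ = Ideal.span (Set.range F) := by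
  have hle : Ideal.span (Set.range F) ≤ RingHom.ker ψ := by
    rw [Ideal.span_le]
    rintro _ ⟨s, rfl⟩
    exact hF1 s
  apply le_antisymm
  · apply le_of_le_sup_smul_of_nilpotent (Ideal.map C (RingHom.ker e)) (isNilpotent_map_C _ hnil)
    intro G hG
    have hG0 : ψ G = 0 := hG
    have h1 : map (e : A →+* k) G ∈ P.ker := by
      rw [P.ker_eq_ker_aeval_val, RingHom.mem_ker, ← hψι, hG0, map_zero]
    rw [← P.span_range_relation_eq_ker] at h1
    obtain ⟨c, hc⟩ := Finsupp.mem_span_range_iff_exists_finsupp.mp h1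
    obtain ⟨ct, hct⟩ : ∃ ct : σ →₀ MvPolynomial ι A,
        ct = Finsupp.mapRange (map (algebraMap k A)) (map_zero _) c := ⟨_, rfl⟩
    obtain ⟨G1, hG1def⟩ : ∃ G1 : MvPolynomial ι A,
        G1 = Finsupp.linearCombination (MvPolynomial ι A) F ct := ⟨_, rfl⟩
    have hG1 : G1 ∈ Ideal.span (Set.range F) := by
      rw [hG1def]
      exact Finsupp.mem_span_range_iff_exists_finsupp.mpr ⟨ct, rfl⟩
    have hG1e : map (e : A →+* k) G1 = map (e : A →+* k) G := by
      rw [hG1def, lc_map (map (e : A →+* k)) F P.relation hF2, hct, mapRange_map_e, ← hc,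
        Finsupp.linearCombination_apply]
    have hG1ψ : ψ G1 = 0 := hle hG1
    have h2 := ker_inf e ψ hψC hψs (G - G1) (by rw [map_sub, hG0, hG1ψ, sub_zero])
      (by rw [map_sub, hG1e, sub_self])
    have h3 : G = G1 + (G - G1) := by abel
    rw [h3]
    exact Submodule.add_mem_sup hG1 h2
  · exact hle

include hψC hψs in
theorem lift_rel (F : σ → MvPolynomial ι A) (hK : RingHom.ker ψ = Ideal.span (Set.range F))
    (hF2 : ∀ s, map (e : A →+* k) (F s) = P.relation s)
    (q : σ →₀ MvPolynomial ι k)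
    (hq : Finsupp.linearCombination (MvPolynomial ι k) P.relation q = 0) :
    ∃ ρ : σ →₀ MvPolynomial ι A,
      Finsupp.mapRange (map (e : A →+* k)) (map_zero _) ρ = q ∧
        Finsupp.linearCombination (MvPolynomial ι A) F ρ = 0 := by
  obtain ⟨qt, hqt⟩ : ∃ qt : σ →₀ MvPolynomial ι A,
      qt = Finsupp.mapRange (map (algebraMap k A)) (map_zero _) q := ⟨_, rfl⟩
  obtain ⟨G, hGdef⟩ : ∃ G : MvPolynomial ι A,
      G = Finsupp.linearCombination (MvPolynomial ι A) F qt := ⟨_, rfl⟩
  have hGK : ψ G = 0 := by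
    have h1 : G ∈ Ideal.span (Set.range F) := by
      rw [hGdef]
      exact Finsupp.mem_span_range_iff_exists_finsupp.mpr ⟨qt, rfl⟩
    rw [← hK] at h1
    exact h1
  have hGe : map (e : A →+* k) G = 0 := by
    rw [hGdef, lc_map (map (e : A →+* k)) F P.relation hF2, hqt, mapRange_map_e, hq]
  have h2 := ker_inf e ψ hψC hψs G hGK hGe
  rw [hK] at h2
  have h3 : G ∈ Ideal.map C (RingHom.ker e) •
      Submodule.span (MvPolynomial ι A) (Set.range F) := h2
  obtain ⟨a, ha, hsum⟩ := (Submodule.mem_ideal_smul_span_iff_exists_sum _ F G).mp h3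
  refine ⟨qt - a, ?_, ?_⟩
  · ext s : 1
    have h4 : map (e : A →+* k) (a s) = 0 := (mem_map_C_ker e (a s)).mp (ha s)
    rw [Finsupp.mapRange_apply, Finsupp.sub_apply, map_sub, h4, sub_zero, hqt,
      Finsupp.mapRange_apply, map_e_map_algebraMap]
  · rw [map_sub, ← hGdef, Finsupp.linearCombination_apply, hsum, sub_self]

include hψC hψs in
theorem rel_flat (F : σ → MvPolynomial ι A) (hK : RingHom.ker ψ = Ideal.span (Set.range F))
    (ρ : σ →₀ MvPolynomial ι A)
    (h1 : Finsupp.linearCombination (MvPolynomial ι A) F ρ = 0)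
    (h2 : ∀ s, map (e : A →+* k) (ρ s) = 0) :
    ρ ∈ (RingHom.ker e) • (LinearMap.ker
      ((Finsupp.linearCombination (MvPolynomial ι A) F).restrictScalars A)) := by
  haveI : Module.Projective A (LinearMap.ker (psiLin ψ hψC)) :=
    ker_projective (psiLin ψ hψC) hψs
  have hmem : ∀ ρ' : σ →₀ MvPolynomial ι A,
      ((Finsupp.linearCombination (MvPolynomial ι A) F).restrictScalars A) ρ' ∈
        LinearMap.ker (psiLin ψ hψC) := by
    intro ρ'
    have h3 : Finsupp.linearCombination (MvPolynomial ι A) F ρ' ∈ Ideal.span (Set.range F) :=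
      Finsupp.mem_span_range_iff_exists_finsupp.mpr ⟨ρ', rfl⟩
    rw [← hK] at h3
    exact h3
  obtain ⟨ψ₂, hψ₂⟩ : ∃ ψ₂ : (σ →₀ MvPolynomial ι A) →ₗ[A] LinearMap.ker (psiLin ψ hψC),
      ψ₂ = LinearMap.codRestrict (LinearMap.ker (psiLin ψ hψC))
        ((Finsupp.linearCombination (MvPolynomial ι A) F).restrictScalars A) hmem := ⟨_, rfl⟩
  have hsurj : Function.Surjective ψ₂ := by
    rintro ⟨G, hG⟩
    have h3 : G ∈ Ideal.span (Set.range F) := by
      rw [← hK]
      exact hG
    obtain ⟨c, hc⟩ := Finsupp.mem_span_range_iff_exists_finsupp.mp h3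
    refine ⟨c, ?_⟩
    apply Subtype.ext
    rw [hψ₂]
    show Finsupp.linearCombination (MvPolynomial ι A) F c = G
    rw [Finsupp.linearCombination_apply, hc]
  have hρtop : ρ ∈ (RingHom.ker e) • (⊤ : Submodule A (σ →₀ MvPolynomial ι A)) := by
    rw [← Finsupp.sum_single ρ]
    refine Submodule.sum_mem _ fun s _ => ?_
    have h3 : ρ s ∈ (RingHom.ker e) • (⊤ : Submodule A (MvPolynomial ι A)) := by
      rw [Ideal.smul_top_eq_map]
      show ρ s ∈ Ideal.map (algebraMap A (MvPolynomial ι A)) (RingHom.ker e)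
      rw [MvPolynomial.algebraMap_eq, mem_map_C_ker]
      exact h2 s
    have h4 : Finsupp.lsingle (R := A) (M := MvPolynomial ι A) s (ρ s) ∈
        Submodule.map (Finsupp.lsingle (R := A) (M := MvPolynomial ι A) s)
          ((RingHom.ker e) • ⊤) := Submodule.mem_map_of_mem h3
    rw [Submodule.map_smul''] at h4
    exact Submodule.smul_mono le_rfl le_top h4
  have hρker : ρ ∈ LinearMap.ker ψ₂ := by
    rw [LinearMap.mem_ker, hψ₂]
    apply Subtype.ext
    exact h1
  have h5 := smul_top_inf_ker_le ψ₂ hsurj (RingHom.ker e) ⟨hρtop, hρker⟩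
  have h6 : LinearMap.ker ψ₂ = LinearMap.ker
      ((Finsupp.linearCombination (MvPolynomial ι A) F).restrictScalars A) := by
    rw [hψ₂, LinearMap.ker_codRestrict]
  rw [h6] at h5
  exact h5

end LevelA

end Groth.Agent.Helper3.T2Lift
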