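import Mathlib
import Groth.Agent.Lib.Helper3.T2Lift2

/-! Lifting flat deformations of presented algebras along a small extension: the obstruction
calculus (helper3). -/

set_option autoImplicit false
set_option linter.style.haveILetI false
universe u

namespace Groth.Agent.Helper3.T2Lift

open MvPolynomial

section Theta

variable {k : Type u} [Field k] {ι σ : Type u} {B₀ : Type u} [CommRing B₀] [Algebra k B₀]
  (P : Algebra.Presentation k B₀ ι σ)
  {A : Type u} [CommRing A] [Algebra k A] (e : A →ₐ[k] k)
  {A' : Type u} [CommRing A'] [Algebra k A'] (e' : A' →ₐ[k] k)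
  (p : A' →ₐ[k] A) (ε : A')

/-- `g ↦ ε · g`, from `k[X]` to `A'[X]` -/
noncomputable def theta (g : MvPolynomial ι k) : MvPolynomial ι A' :=
  C ε * map (algebraMap k A') g

theorem theta_zero : theta ε (0 : MvPolynomial ι k) = 0 := by
  rw [theta, map_zero, mul_zero]

theorem theta_add (g h : MvPolynomial ι k) : theta ε (g + h) = theta ε g + theta ε h := by
  rw [theta, theta, theta, map_add, mul_add]

theorem theta_sub (g h : MvPolynomial ι k) : theta ε (g - h) = theta ε g - theta ε h := by
  rw [theta, theta, theta, map_sub, mul_sub]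

theorem theta_sum {τ : Type*} (t : Finset τ) (g : τ → MvPolynomial ι k) :
    theta ε (∑ s ∈ t, g s) = ∑ s ∈ t, theta ε (g s) := by
  classical
  induction t using Finset.induction_on with
  | empty => simp [theta_zero]
  | insert a t ha ih => rw [Finset.sum_insert ha, Finset.sum_insert ha, theta_add, ih]

section

variable (hmε : ∀ a, e' a = 0 → a * ε = 0)
include hmε

theorem C_eps_mul_eq_zero (H : MvPolynomial ι A') (hH : map (e' : A' →+* k) H = 0) :
    C ε * H = 0 := by
  ext m
  rw [coeff_C_mul, coeff_zero, mul_comm]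
  apply hmε
  have h1 := congrArg (coeff m) hH
  rw [coeff_map, coeff_zero] at h1
  exact h1

theorem C_eps_mul (G : MvPolynomial ι A') : C ε * G = theta ε (map (e' : A' →+* k) G) := by
  have h1 : C ε * (G - map (algebraMap k A') (map (e' : A' →+* k) G)) = 0 := by
    apply C_eps_mul_eq_zero e' ε hmε
    rw [map_sub, map_e_map_algebraMap, sub_self]
  rw [mul_sub, sub_eq_zero] at h1
  rw [h1, theta]

theorem theta_mul (g : MvPolynomial ι k) (H : MvPolynomial ι A') :
    theta ε g * H = theta ε (g * map (e' : A' →+* k) H) := by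
  rw [theta, mul_assoc, C_eps_mul e' ε hmε, map_mul, map_e_map_algebraMap]

end

theorem theta_injective [IsLocalRing A'] (hε0 : ε ≠ 0) (g : MvPolynomial ι k)
    (h : theta ε g = 0) : g = 0 := by
  ext m
  by_contra hne
  rw [coeff_zero] at hne
  have h1 := congrArg (coeff m) h
  rw [theta, coeff_C_mul, coeff_map, coeff_zero] at h1
  apply hε0
  have hu : IsUnit (algebraMap k A' (coeff m g)) := (IsUnit.mk0 _ hne).map (algebraMap k A')
  exact hu.mul_left_eq_zero.mp h1

section

variable (hε : RingHom.ker (p : A' →+* A) = Ideal.span {ε})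
include hε

theorem p_eps : p ε = 0 := by
  have h1 : ε ∈ RingHom.ker (p : A' →+* A) := by
    rw [hε]
    exact Ideal.mem_span_singleton_self ε
  exact h1

theorem map_p_theta (g : MvPolynomial ι k) : map (p : A' →+* A) (theta ε g) = 0 := by
  rw [theta, map_mul, map_C]
  have h1 : (p : A' →+* A) ε = 0 := p_eps p ε hε
  rw [h1, C_0, zero_mul]

theorem exists_mul_of_map_eq_zero (G : MvPolynomial ι A')
    (hG : map (p : A' →+* A) G = 0) : ∃ c : MvPolynomial ι A', G = C ε * c := by
  have h1 : G ∈ RingHom.ker (map (p : A' →+* A) : MvPolynomial ι A' →+* MvPolynomial ι A) := hG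
  rw [ker_map, hε, Ideal.map_span, Set.image_singleton] at h1
  obtain ⟨c, hc⟩ := Ideal.mem_span_singleton'.mp h1
  exact ⟨c, by rw [← hc, mul_comm]⟩

theorem exists_theta_of_map_eq_zero (hmε : ∀ a, e' a = 0 → a * ε = 0) (G : MvPolynomial ι A')
    (hG : map (p : A' →+* A) G = 0) : ∃ h : MvPolynomial ι k, G = theta ε h := by
  obtain ⟨c, hc⟩ := exists_mul_of_map_eq_zero p ε hε G hG
  exact ⟨_, by rw [hc, C_eps_mul e' ε hmε]⟩

end

/-- being `ε` times an element of the ideal of relations -/
def InTheta (G : MvPolynomial ι A') : Prop := ∃ c ∈ P.ker, G = theta ε c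

theorem inTheta_zero : InTheta P ε (0 : MvPolynomial ι A') :=
  ⟨0, Ideal.zero_mem _, (theta_zero ε).symm⟩

theorem inTheta_add {G H : MvPolynomial ι A'} (hG : InTheta P ε G) (hH : InTheta P ε H) :
    InTheta P ε (G + H) := by
  obtain ⟨c, hc, rfl⟩ := hG
  obtain ⟨d, hd, rfl⟩ := hH
  exact ⟨c + d, Ideal.add_mem _ hc hd, (theta_add ε c d).symm⟩

theorem inTheta_sum {τ : Type*} (t : Finset τ) (G : τ → MvPolynomial ι A')
    (h : ∀ s ∈ t, InTheta P ε (G s)) : InTheta P ε (∑ s ∈ t, G s) := by
  classical
  induction t using Finset.induction_on with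
  | empty => simpa using inTheta_zero P ε
  | insert a t ha ih =>
    rw [Finset.sum_insert ha]
    exact inTheta_add P ε (h a (Finset.mem_insert_self a t))
      (ih fun s hs => h s (Finset.mem_insert_of_mem hs))

variable (hε : RingHom.ker (p : A' →+* A) = Ideal.span {ε})
  (hmε : ∀ a, e' a = 0 → a * ε = 0)
  (F' : σ → MvPolynomial ι A') (hF'e : ∀ s, map (e' : A' →+* k) (F' s) = P.relation s)

include hε hmε hF'e in
theorem inTheta_of_ker (κ : σ →₀ MvPolynomial ι A')
    (hκ : ∀ s, map (p : A' →+* A) (κ s) = 0) :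
    InTheta P ε (Finsupp.linearCombination (MvPolynomial ι A') F' κ) := by
  rw [Finsupp.linearCombination_apply]
  refine inTheta_sum P ε _ _ fun s _ => ?_
  obtain ⟨h, hh⟩ := exists_theta_of_map_eq_zero e' p ε hε hmε (κ s) (hκ s)
  refine ⟨h * P.relation s, Ideal.mul_mem_left _ _ (P.relation_mem_ker s), ?_⟩
  show κ s • F' s = _
  rw [smul_eq_mul, hh, theta_mul e' ε hmε, hF'e]

variable (hp : Function.Surjective p) (hep : ∀ a, e (p a) = e' a)
  (F : σ → MvPolynomial ι A)
  (hrelflat : ∀ ρ : σ →₀ MvPolynomial ι A,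
    Finsupp.linearCombination (MvPolynomial ι A) F ρ = 0 →
    (∀ s, map (e : A →+* k) (ρ s) = 0) →
    ρ ∈ (RingHom.ker e) • (LinearMap.ker
      ((Finsupp.linearCombination (MvPolynomial ι A) F).restrictScalars A)))
  (hF'p : ∀ s, map (p : A' →+* A) (F' s) = F s)

include hep in
theorem map_e_map_p (G : MvPolynomial ι A') :
    map (e : A →+* k) (map (p : A' →+* A) G) = map (e' : A' →+* k) G := by
  have h1 : (e : A →+* k).comp (p : A' →+* A) = (e' : A' →+* k) := RingHom.ext fun a => hep a
  rw [MvPolynomial.map_map, h1]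

include hε hmε hF'e hp hep hrelflat hF'p in
/-- the key vanishing: lifts of relations which vanish on the closed fibre have obstruction in
the ideal of relations -/
theorem inTheta_of_lift_zero (δ : σ →₀ MvPolynomial ι A')
    (hδ1 : ∀ s, map (e' : A' →+* k) (δ s) = 0)
    (hδ2 : map (p : A' →+* A) (Finsupp.linearCombination (MvPolynomial ι A') F' δ) = 0) :
    InTheta P ε (Finsupp.linearCombination (MvPolynomial ι A') F' δ) := by
  have hps : Function.Surjective (map (p : A' →+* A) :
      MvPolynomial ι A' → MvPolynomial ι A) := MvPolynomial.map_surjective (p : A' →+* A) hp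
  have hρ1 : Finsupp.linearCombination (MvPolynomial ι A) F
      (Finsupp.mapRange (map (p : A' →+* A)) (map_zero _) δ) = 0 := by
    rw [← lc_map (map (p : A' →+* A)) F' F hF'p]
    exact hδ2
  have hρ2 : ∀ s, map (e : A →+* k)
      ((Finsupp.mapRange (map (p : A' →+* A)) (map_zero _) δ) s) = 0 := fun s => by
    rw [Finsupp.mapRange_apply, map_e_map_p e e' p hep, hδ1]
  have hρ := hrelflat _ hρ1 hρ2
  have claim : ∀ ρ₀ ∈ (RingHom.ker e) • (LinearMap.ker
      ((Finsupp.linearCombination (MvPolynomial ι A) F).restrictScalars A)),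
      ∀ δ'' : σ →₀ MvPolynomial ι A',
        Finsupp.mapRange (map (p : A' →+* A)) (map_zero _) δ'' = ρ₀ →
        InTheta P ε (Finsupp.linearCombination (MvPolynomial ι A') F' δ'') := by
    intro ρ₀ hρ₀
    refine Submodule.smul_induction_on hρ₀ ?_ ?_
    · intro μ hμ n hn δ'' hδ''
      obtain ⟨μ', hμ'⟩ := hp μ
      obtain ⟨n', hn'⟩ := Finsupp.mapRange_surjective (map (p : A' →+* A)) (map_zero _) hps n
      have he'μ' : e' μ' = 0 := by
        rw [← hep, hμ']
        exact hμ
      obtain ⟨κ, hκdef⟩ : ∃ κ : σ →₀ MvPolynomial ι A', κ = δ'' - (C μ' : MvPolynomial ι A') • n' := ⟨_, rfl⟩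
      have hκ : ∀ s, map (p : A' →+* A) (κ s) = 0 := by
        intro s
        have h1 := DFunLike.congr_fun hδ'' s
        have h2 := DFunLike.congr_fun hn' s
        rw [Finsupp.mapRange_apply] at h1 h2
        rw [hκdef, Finsupp.sub_apply, Finsupp.smul_apply, map_sub, smul_eq_mul, map_mul, map_C,
          h1, h2, Finsupp.smul_apply, smul_eq_C_mul]
        have h3 : (p : A' →+* A) μ' = μ := hμ'
        rw [h3, sub_self]
      have h3 : Finsupp.linearCombination (MvPolynomial ι A') F' δ'' =
          Finsupp.linearCombination (MvPolynomial ι A') F' κ := by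
        have h4 : δ'' = κ + (C μ' : MvPolynomial ι A') • n' := by rw [hκdef, sub_add_cancel]
        have h5 : map (p : A' →+* A)
            (Finsupp.linearCombination (MvPolynomial ι A') F' n') = 0 := by
          rw [lc_map (map (p : A' →+* A)) F' F hF'p, hn']
          exact hn
        obtain ⟨c, hc⟩ := exists_mul_of_map_eq_zero p ε hε _ h5
        conv_lhs => rw [h4]
        rw [map_add, map_smul, smul_eq_mul, hc, ← mul_assoc, ← C_mul, hmε μ' he'μ', C_0,
          zero_mul, add_zero]
      rw [h3]
      exact inTheta_of_ker P e' p ε hε hmε F' hF'e κ hκ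
    · intro x y hx hy δ'' hδ''
      obtain ⟨δ₁, hδ₁⟩ := Finsupp.mapRange_surjective (map (p : A' →+* A)) (map_zero _) hps x
      have hδ₂ : Finsupp.mapRange (map (p : A' →+* A)) (map_zero _) (δ'' - δ₁) = y := by
        have h1 : Finsupp.mapRange (map (p : A' →+* A)) (map_zero _) (δ'' - δ₁) =
            Finsupp.mapRange (map (p : A' →+* A)) (map_zero _) δ'' -
              Finsupp.mapRange (map (p : A' →+* A)) (map_zero _) δ₁ := by
          ext s : 1
          simp only [Finsupp.mapRange_apply, Finsupp.sub_apply, map_sub]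
        rw [h1, hδ'', hδ₁, add_sub_cancel_left]
      have h2 : δ'' = δ₁ + (δ'' - δ₁) := by abel
      rw [h2, map_add]
      exact inTheta_add P ε (hx δ₁ hδ₁) (hy _ hδ₂)
  exact claim _ hρ δ rfl

end Theta

end Groth.Agent.Helper3.T2Lift
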