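import Mathlib
import Groth.Prelude.Def_CotT
import Groth.Agent.Lib.Helper3.T2Lift3
import Groth.Agent.Lib.Helper3.T2Lift4

/-! Lifting flat deformations of presented algebras along a small extension: the obstruction map
and its vanishing when `T² = 0` (helper3). -/

set_option autoImplicit false
set_option linter.style.haveILetI false
set_option linter.unusedSectionVars false
universe u

namespace Groth.Agent.Helper3.T2Lift

open MvPolynomial

section Hbar

variable {k : Type u} [Field k] {ι σ : Type u} {B₀ : Type u} [CommRing B₀] [Algebra k B₀]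
  (P : Algebra.Presentation k B₀ ι σ)
  {A : Type u} [CommRing A] [Algebra k A] (e : A →ₐ[k] k)
  {A' : Type u} [CommRing A'] [Algebra k A'] [IsLocalRing A'] (e' : A' →ₐ[k] k)
  (p : A' →ₐ[k] A) (ε : A')

/-- lifting data of a relation -/
def IsLift (F' : σ → MvPolynomial ι A') (q : σ →₀ MvPolynomial ι k)
    (ρ' : σ →₀ MvPolynomial ι A') (h : MvPolynomial ι k) : Prop :=
  Finsupp.mapRange (map (e' : A' →+* k)) (map_zero _) ρ' = q ∧
    Finsupp.linearCombination (MvPolynomial ι A') F' ρ' = theta ε h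

theorem lc_family_add {S : Type*} [CommRing S] (F₁ F₂ : σ → S) (ρ : σ →₀ S) :
    Finsupp.linearCombination S (fun s => F₁ s + F₂ s) ρ =
      Finsupp.linearCombination S F₁ ρ + Finsupp.linearCombination S F₂ ρ := by
  simp only [Finsupp.linearCombination_apply, Finsupp.sum, smul_add, Finset.sum_add_distrib]

variable (hε0 : ε ≠ 0) (hε : RingHom.ker (p : A' →+* A) = Ideal.span {ε})
  (hmε : ∀ a, e' a = 0 → a * ε = 0)
  (F' : σ → MvPolynomial ι A') (hF'e : ∀ s, map (e' : A' →+* k) (F' s) = P.relation s)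
  (hp : Function.Surjective p) (hep : ∀ a, e (p a) = e' a)
  (F : σ → MvPolynomial ι A)
  (hrelflat : ∀ ρ : σ →₀ MvPolynomial ι A,
    Finsupp.linearCombination (MvPolynomial ι A) F ρ = 0 →
    (∀ s, map (e : A →+* k) (ρ s) = 0) →
    ρ ∈ (RingHom.ker e) • (LinearMap.ker
      ((Finsupp.linearCombination (MvPolynomial ι A) F).restrictScalars A)))
  (hF'p : ∀ s, map (p : A' →+* A) (F' s) = F s)
  (hlift : ∀ q : σ →₀ MvPolynomial ι k,
    Finsupp.linearCombination (MvPolynomial ι k) P.relation q = 0 →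
    ∃ ρ : σ →₀ MvPolynomial ι A,
      Finsupp.mapRange (map (e : A →+* k)) (map_zero _) ρ = q ∧
        Finsupp.linearCombination (MvPolynomial ι A) F ρ = 0)

include hε hmε hp hep hF'p hlift in
theorem exists_isLift (q : σ →₀ MvPolynomial ι k)
    (hq : Finsupp.linearCombination (MvPolynomial ι k) P.relation q = 0) :
    ∃ ρ' h, IsLift e' ε F' q ρ' h := by
  have hps : Function.Surjective (map (p : A' →+* A) :
      MvPolynomial ι A' → MvPolynomial ι A) := MvPolynomial.map_surjective (p : A' →+* A) hp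
  obtain ⟨ρ, hρ1, hρ2⟩ := hlift q hq
  obtain ⟨ρ', hρ'⟩ := Finsupp.mapRange_surjective (map (p : A' →+* A)) (map_zero _) hps ρ
  have h1 : map (p : A' →+* A) (Finsupp.linearCombination (MvPolynomial ι A') F' ρ') = 0 := by
    rw [lc_map (map (p : A' →+* A)) F' F hF'p, hρ', hρ2]
  obtain ⟨h, hh⟩ := exists_theta_of_map_eq_zero e' p ε hε hmε _ h1
  refine ⟨ρ', h, ?_, hh⟩
  rw [← hρ1, ← hρ']
  ext s : 1
  rw [Finsupp.mapRange_apply, Finsupp.mapRange_apply, Finsupp.mapRange_apply,
    map_e_map_p e e' p hep]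

include hε0 hε hmε hF'e hp hep hrelflat hF'p in
theorem isLift_unique (q : σ →₀ MvPolynomial ι k) (ρ₁ ρ₂ : σ →₀ MvPolynomial ι A')
    (h₁ h₂ : MvPolynomial ι k) (H1 : IsLift e' ε F' q ρ₁ h₁) (H2 : IsLift e' ε F' q ρ₂ h₂) :
    h₁ - h₂ ∈ P.ker := by
  have hδ1 : ∀ s, map (e' : A' →+* k) ((ρ₁ - ρ₂) s) = 0 := by
    intro s
    have a1 := DFunLike.congr_fun H1.1 s
    have a2 := DFunLike.congr_fun H2.1 s
    rw [Finsupp.mapRange_apply] at a1 a2
    rw [Finsupp.sub_apply, map_sub, a1, a2, sub_self]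
  have hlc : Finsupp.linearCombination (MvPolynomial ι A') F' (ρ₁ - ρ₂) = theta ε (h₁ - h₂) := by
    rw [map_sub, H1.2, H2.2, theta_sub]
  have hδ2 : map (p : A' →+* A)
      (Finsupp.linearCombination (MvPolynomial ι A') F' (ρ₁ - ρ₂)) = 0 := by
    rw [hlc, map_p_theta p ε hε]
  obtain ⟨c, hc, hc'⟩ := inTheta_of_lift_zero P e e' p ε hε hmε F' hF'e hp hep F hrelflat hF'p
    (ρ₁ - ρ₂) hδ1 hδ2
  rw [hlc] at hc'
  have h3 : h₁ - h₂ - c = 0 := theta_injective ε hε0 _ (by rw [theta_sub, hc', sub_self])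
  rw [sub_eq_zero] at h3
  rw [h3]
  exact hc

include hε0 hε hmε hF'e hp hep hrelflat hF'p hlift in
theorem exists_hbar : ∃ hbar : CotT.relKer P →ₗ[P.toExtension.Ring] B₀,
    ∀ (q : CotT.relKer P) (ρ' : σ →₀ MvPolynomial ι A') (h : MvPolynomial ι k),
      IsLift e' ε F' (q : CotT.relMod P) ρ' h → hbar q = aeval P.val h := by
  have hE : ∀ q : CotT.relKer P, ∃ ρ' h, IsLift e' ε F' (q : CotT.relMod P) ρ' h := fun q =>
    exists_isLift P e e' p ε hε hmε F' hp hep F hF'p hlift (q : CotT.relMod P)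
      (LinearMap.mem_ker.mp q.2)
  choose rho hh hL using hE
  have hW : ∀ (q : CotT.relKer P) (ρ' : σ →₀ MvPolynomial ι A') (h : MvPolynomial ι k),
      IsLift e' ε F' (q : CotT.relMod P) ρ' h → aeval P.val (hh q) = aeval P.val h := by
    intro q ρ' h H
    have h1 := isLift_unique P e e' p ε hε0 hε hmε F' hF'e hp hep F hrelflat hF'p _ _ _ _ _
      (hL q) H
    rw [P.ker_eq_ker_aeval_val, RingHom.mem_ker, map_sub, sub_eq_zero] at h1
    exact h1
  refine ⟨{ toFun := fun q => aeval P.val (hh q), map_add' := ?_, map_smul' := ?_ }, ?_⟩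
  · intro q₁ q₂
    have H : IsLift e' ε F' ((q₁ + q₂ : CotT.relKer P) : CotT.relMod P) (rho q₁ + rho q₂)
        (hh q₁ + hh q₂) := by
      constructor
      · rw [Finsupp.mapRange_add (map_add _), (hL q₁).1, (hL q₂).1]
        rfl
      · rw [map_add, (hL q₁).2, (hL q₂).2, theta_add]
    show aeval P.val (hh (q₁ + q₂)) = aeval P.val (hh q₁) + aeval P.val (hh q₂)
    rw [hW _ _ _ H, map_add]
  · intro g q
    obtain ⟨g', hg'⟩ : ∃ g' : MvPolynomial ι k, g' = g := ⟨g, rfl⟩
    have H : IsLift e' ε F' ((g • q : CotT.relKer P) : CotT.relMod P)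
        (map (algebraMap k A') g' • rho q) (hh q * g') := by
      constructor
      · ext s : 1
        have a1 := DFunLike.congr_fun (hL q).1 s
        rw [Finsupp.mapRange_apply] at a1 ⊢
        rw [Finsupp.smul_apply, smul_eq_mul, map_mul, a1, map_e_map_algebraMap, hg']
        rfl
      · rw [map_smul, smul_eq_mul, (hL q).2, mul_comm, theta_mul e' ε hmε,
          map_e_map_algebraMap]
    show aeval P.val (hh (g • q)) = (RingHom.id _ g) • aeval P.val (hh q)
    rw [hW _ _ _ H, map_mul, RingHom.id_apply, Algebra.smul_def, CotT.algebraMap_toExtension,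
      mul_comm, hg']
  · intro q ρ' h H
    exact hW q ρ' h H

include hε0 hε hmε hF'e hp hep hrelflat hF'p hlift in
theorem exists_g (hT2 : Subsingleton (CotT.T2 P B₀)) :
    ∃ g : σ → MvPolynomial ι k, ∀ (ρ' : σ →₀ MvPolynomial ι A') (h : MvPolynomial ι k),
      Finsupp.linearCombination (MvPolynomial ι A') F' ρ' = theta ε h →
      h - Finsupp.linearCombination (MvPolynomial ι k) g
        (Finsupp.mapRange (map (e' : A' →+* k)) (map_zero _) ρ') ∈ P.ker := by
  obtain ⟨hbar, hbarW⟩ := exists_hbar P e e' p ε hε0 hε hmε F' hF'e hp hep F hrelflat hF'p hlift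
  have he'ε : e' ε = 0 := by
    rw [← hep, p_eps p ε hε, map_zero]
  have hlcrel : ∀ ρ' : σ →₀ MvPolynomial ι A',
      Finsupp.linearCombination (MvPolynomial ι k) P.relation
        (Finsupp.mapRange (map (e' : A' →+* k)) (map_zero _) ρ') =
      map (e' : A' →+* k) (Finsupp.linearCombination (MvPolynomial ι A') F' ρ') := fun ρ' =>
    (lc_map (map (e' : A' →+* k)) F' P.relation hF'e ρ').symm
  have htriv : ∀ (a b : CotT.relMod P)
      (hmem : CotT.jmap P a • b - CotT.jmap P b • a ∈ CotT.relKer P), hbar ⟨_, hmem⟩ = 0 := by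
    intro a b hmem
    obtain ⟨a', ha'⟩ : ∃ a' : σ →₀ MvPolynomial ι A',
        a' = Finsupp.mapRange (map (algebraMap k A')) (map_zero _)
          (a : σ →₀ MvPolynomial ι k) := ⟨_, rfl⟩
    obtain ⟨b', hb'⟩ : ∃ b' : σ →₀ MvPolynomial ι A',
        b' = Finsupp.mapRange (map (algebraMap k A')) (map_zero _)
          (b : σ →₀ MvPolynomial ι k) := ⟨_, rfl⟩
    have hae : Finsupp.mapRange (map (e' : A' →+* k)) (map_zero _) a' = a := by
      rw [ha', mapRange_map_e]
    have hbe : Finsupp.mapRange (map (e' : A' →+* k)) (map_zero _) b' = b := by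
      rw [hb', mapRange_map_e]
    have hja : map (e' : A' →+* k) (Finsupp.linearCombination (MvPolynomial ι A') F' a') =
        CotT.jmap P a := by
      rw [← hlcrel, hae]
      rfl
    have hjb : map (e' : A' →+* k) (Finsupp.linearCombination (MvPolynomial ι A') F' b') =
        CotT.jmap P b := by
      rw [← hlcrel, hbe]
      rfl
    have H : IsLift e' ε F' ((⟨_, hmem⟩ : CotT.relKer P) : CotT.relMod P)
        (Finsupp.linearCombination (MvPolynomial ι A') F' a' • b' -
          Finsupp.linearCombination (MvPolynomial ι A') F' b' • a') 0 := by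
      constructor
      · ext s : 1
        have a1 := DFunLike.congr_fun hae s
        have a2 := DFunLike.congr_fun hbe s
        rw [Finsupp.mapRange_apply] at a1 a2
        rw [Finsupp.mapRange_apply, Finsupp.sub_apply, Finsupp.smul_apply, Finsupp.smul_apply,
          smul_eq_mul, smul_eq_mul, map_sub, map_mul, map_mul, hja, hjb, a1, a2]
        rfl
      · rw [map_sub, map_smul, map_smul, smul_eq_mul, smul_eq_mul, mul_comm, sub_self, theta_zero]
    rw [hbarW _ _ _ H, map_zero]
  obtain ⟨gbar, hgbar⟩ := t2conc P hT2 hbar htriv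
  choose g hg using fun s => P.aeval_val_surjective (gbar s)
  refine ⟨g, fun ρ' h hh => ?_⟩
  have hq : (Finsupp.mapRange (map (e' : A' →+* k)) (map_zero _) ρ' : σ →₀ MvPolynomial ι k) ∈
      CotT.relKer P := by
    show CotT.jmap P _ = 0
    have h1 := hlcrel ρ'
    rw [hh, theta, map_mul, map_C] at h1
    have h2 : (e' : A' →+* k) ε = 0 := he'ε
    rw [h2, C_0, zero_mul] at h1
    exact h1
  have H : IsLift e' ε F' ((⟨_, hq⟩ : CotT.relKer P) : CotT.relMod P) ρ' h := ⟨rfl, hh⟩
  have h3 := hbarW _ _ _ H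
  rw [hgbar] at h3
  rw [P.ker_eq_ker_aeval_val, RingHom.mem_ker, map_sub, sub_eq_zero, ← h3,
    Finsupp.linearCombination_apply, map_finsuppSum]
  apply Finsupp.sum_congr
  intro s _
  rw [smul_eq_mul, map_mul, hg, CotT.algebraMap_toExtension]

include hmε in
theorem lc_theta (g : σ → MvPolynomial ι k) (ρ' : σ →₀ MvPolynomial ι A') :
    Finsupp.linearCombination (MvPolynomial ι A') (fun s => theta ε (g s)) ρ' =
      theta ε (Finsupp.linearCombination (MvPolynomial ι k) g
        (Finsupp.mapRange (map (e' : A' →+* k)) (map_zero _) ρ')) := by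
  induction ρ' using Finsupp.induction_linear with
  | zero => simp [theta_zero]
  | add x y hx hy =>
    rw [map_add, hx, hy, Finsupp.mapRange_add (map_add _), map_add, theta_add]
  | single s r =>
    rw [Finsupp.mapRange_single, Finsupp.linearCombination_single,
      Finsupp.linearCombination_single, smul_eq_mul, smul_eq_mul, mul_comm,
      theta_mul e' ε hmε, mul_comm]

include hε0 hε hmε hF'e hp hep hrelflat hF'p hlift in
/-- when `T² = 0` the lifted relations can be corrected so that all relations lift -/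
theorem exists_F'' (hT2 : Subsingleton (CotT.T2 P B₀)) :
    ∃ F'' : σ → MvPolynomial ι A', (∀ s, map (p : A' →+* A) (F'' s) = F s) ∧
      ∀ ρ' : σ →₀ MvPolynomial ι A',
        map (p : A' →+* A) (Finsupp.linearCombination (MvPolynomial ι A') F'' ρ') = 0 →
        InTheta P ε (Finsupp.linearCombination (MvPolynomial ι A') F'' ρ') := by
  obtain ⟨g, hg⟩ := exists_g P e e' p ε hε0 hε hmε F' hF'e hp hep F hrelflat hF'p hlift hT2
  refine ⟨fun s => F' s - theta ε (g s), fun s => ?_, fun ρ' hρ' => ?_⟩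
  · rw [map_sub, map_p_theta p ε hε, sub_zero, hF'p]
  · have h1 : Finsupp.linearCombination (MvPolynomial ι A') F' ρ' =
        Finsupp.linearCombination (MvPolynomial ι A') (fun s => F' s - theta ε (g s)) ρ' +
          Finsupp.linearCombination (MvPolynomial ι A') (fun s => theta ε (g s)) ρ' := by
      have hfam : (fun s => F' s - theta ε (g s) + theta ε (g s)) = F' :=
        funext fun s => sub_add_cancel _ _
      rw [← lc_family_add, hfam]
    rw [lc_theta e' ε hmε] at h1
    have h2 : map (p : A' →+* A) (Finsupp.linearCombination (MvPolynomial ι A') F' ρ') = 0 := by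
      rw [h1, map_add, hρ', map_p_theta p ε hε, add_zero]
    obtain ⟨h, hh⟩ := exists_theta_of_map_eq_zero e' p ε hε hmε _ h2
    have h3 := hg ρ' h hh
    refine ⟨_, h3, ?_⟩
    rw [theta_sub, ← hh, h1, add_sub_cancel_right]

end Hbar

end Groth.Agent.Helper3.T2Lift
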