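import Mathlib
import Groth.Prelude.Def_CotT
import Groth.Agent.Lib.Helper3.RigidDef
import Groth.Agent.Lib.Helper3.T2Lift5

/-! Lifting flat deformations of presented algebras along a small extension when `T² = 0`:
the algebraic theorem (helper3). -/

set_option autoImplicit false
set_option linter.style.haveILetI false
set_option linter.unusedSectionVars false
universe u

namespace Groth.Agent.Helper3.T2Lift

open MvPolynomial

section Final

variable {k : Type u} [Field k] {ι σ : Type u} {B₀ : Type u} [CommRing B₀] [Algebra k B₀]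
  (P : Algebra.Presentation k B₀ ι σ)
  {A : Type u} [CommRing A] [Algebra k A] (e : A →ₐ[k] k)
  {A' : Type u} [CommRing A'] [Algebra k A'] [IsLocalRing A'] (e' : A' →ₐ[k] k)
  (p : A' →ₐ[k] A) (ε : A')

theorem isUnit_of_ne_zero (a : A') (h : e' a ≠ 0) : IsUnit a := by
  have hs : Function.Surjective e' := fun c => ⟨algebraMap k A' c, e'.commutes c⟩
  have hmax : (RingHom.ker e').IsMaximal := RingHom.ker_isMaximal_of_surjective e' hs
  rw [← IsLocalRing.notMem_maximalIdeal, ← IsLocalRing.eq_maximalIdeal hmax]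
  exact h

theorem map_e'_eq_zero_of_C_eps_mul (hε0 : ε ≠ 0) (H : MvPolynomial ι A') (h : C ε * H = 0) :
    map (e' : A' →+* k) H = 0 := by
  ext m
  rw [coeff_map, coeff_zero]
  by_contra hne
  have hu := isUnit_of_ne_zero e' _ hne
  have h1 := congrArg (coeff m) h
  rw [coeff_C_mul, coeff_zero] at h1
  exact hε0 (hu.mul_left_eq_zero.mp h1)

theorem algLift [IsLocalRing A] [IsArtinianRing A] [IsArtinianRing A']
    (hT2 : Subsingleton (CotT.T2 P B₀))
    (hε0 : ε ≠ 0) (hε : RingHom.ker (p : A' →+* A) = Ideal.span {ε})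
    (hmε : ∀ a, e' a = 0 → a * ε = 0) (hp : Function.Surjective p) (hep : ∀ a, e (p a) = e' a)
    {B : Type u} [CommRing B] [Algebra A B] [Module.Flat A B] (ι₀ : B →+* B₀)
    (hι : Function.Surjective ι₀)
    (hker : RingHom.ker ι₀ = Ideal.map (algebraMap A B) (RingHom.ker e))
    (hcomp : ∀ a, ι₀ (algebraMap A B a) = algebraMap k B₀ (e a)) :
    ∃ (B' : Type u) (_ : CommRing B') (_ : Algebra A' B') (_ : Module.Flat A' B')
      (π : B' →+* B), Function.Surjective π ∧
        (∀ a, π (algebraMap A' B' a) = algebraMap A B (p a)) ∧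
        RingHom.ker π = Ideal.map (algebraMap A' B') (RingHom.ker (p : A' →+* A)) ∧
        RingHom.ker (ι₀.comp π) = Ideal.map (algebraMap A' B') (RingHom.ker e') := by
  classical
  have hnil : IsNilpotent (RingHom.ker e) := RigidDef.ker_isNilpotent k A e
  have hnil' : IsNilpotent (RingHom.ker e') := RigidDef.ker_isNilpotent k A' e'
  haveI : Module.Projective A B := projective_of_flat e ι₀ hnil hι hker hcomp
  obtain ⟨ψ, hψC, hψι, hψs⟩ := exists_psi P e ι₀ hnil hι hker hcomp
  have hF : ∀ s, ∃ Fs : MvPolynomial ι A, ψ Fs = 0 ∧ map (e : A →+* k) Fs = P.relation s := by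
    intro s
    obtain ⟨ft, hft⟩ : ∃ ft : MvPolynomial ι A, ft = map (algebraMap k A) (P.relation s) :=
      ⟨_, rfl⟩
    have h1 : ι₀ (ψ ft) = 0 := by
      rw [hψι, hft, map_e_map_algebraMap, P.aeval_val_relation]
    have h2 : ψ ft ∈ Ideal.map (algebraMap A B) (RingHom.ker e) := by
      rw [← hker]
      exact h1
    have h3 : Ideal.map (algebraMap A B) (RingHom.ker e) =
        Ideal.map ψ (Ideal.map (C : A →+* MvPolynomial ι A) (RingHom.ker e)) := by
      rw [Ideal.map_map]
      have h4 : algebraMap A B = ψ.comp (C : A →+* MvPolynomial ι A) :=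
        RingHom.ext fun a => (hψC a).symm
      rw [h4]
    rw [h3, Ideal.mem_map_iff_of_surjective ψ hψs] at h2
    obtain ⟨G, hG, hGψ⟩ := h2
    refine ⟨ft - G, by rw [map_sub, hGψ, sub_self], ?_⟩
    rw [map_sub, (mem_map_C_ker e G).mp hG, sub_zero, hft, map_e_map_algebraMap]
  choose F hF1 hF2 using hF
  have hK := ker_eq_span P e ι₀ ψ hψC hψs hnil hψι F hF1 hF2
  have hlift := fun q hq => lift_rel P e ψ hψC hψs F hK hF2 q hq
  have hrelflat := fun ρ h1 h2 => rel_flat e ψ hψC hψs F hK ρ h1 h2
  have hps : Function.Surjective (map (p : A' →+* A) :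
      MvPolynomial ι A' → MvPolynomial ι A) := MvPolynomial.map_surjective (p : A' →+* A) hp
  choose F' hF'p using fun s => hps (F s)
  have hF'e : ∀ s, map (e' : A' →+* k) (F' s) = P.relation s := fun s => by
    rw [← map_e_map_p e e' p hep, hF'p, hF2]
  obtain ⟨F'', hF''p, hF''Θ⟩ :=
    exists_F'' P e e' p ε hε0 hε hmε F' hF'e hp hep F hrelflat hF'p hlift hT2
  have hF''e : ∀ s, map (e' : A' →+* k) (F'' s) = P.relation s := fun s => by
    rw [← map_e_map_p e e' p hep, hF''p, hF2]
  have hpε : p ε = 0 := p_eps p ε hε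
  obtain ⟨K'', hK''⟩ : ∃ K'' : Ideal (MvPolynomial ι A'), K'' = Ideal.span (Set.range F'') :=
    ⟨_, rfl⟩
  have hπ0 : ∀ G ∈ K'', (ψ.comp (map (p : A' →+* A))) G = 0 := by
    intro G hG
    have h1 : K'' ≤ RingHom.ker (ψ.comp (map (p : A' →+* A))) := by
      rw [hK'', Ideal.span_le]
      rintro _ ⟨s, rfl⟩
      show ψ (map (p : A' →+* A) (F'' s)) = 0
      rw [hF''p, hF1]
    exact h1 hG
  obtain ⟨π, hπ⟩ : ∃ π : (MvPolynomial ι A' ⧸ K'') →+* B,
      ∀ G, π (Ideal.Quotient.mk K'' G) = ψ (map (p : A' →+* A) G) :=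
    ⟨Ideal.Quotient.lift K'' (ψ.comp (map (p : A' →+* A))) hπ0,
      fun G => Ideal.Quotient.lift_mk _ _ _⟩
  have hπs : Function.Surjective π := by
    intro y
    obtain ⟨G, rfl⟩ := hψs y
    obtain ⟨G', rfl⟩ := hps G
    exact ⟨Ideal.Quotient.mk K'' G', hπ G'⟩
  have halg : ∀ a : A', algebraMap A' (MvPolynomial ι A' ⧸ K'') a =
      Ideal.Quotient.mk K'' (C a) := fun a => rfl
  have hsm : ∀ (a : A') (y : MvPolynomial ι A' ⧸ K''),
      a • y = algebraMap A' (MvPolynomial ι A' ⧸ K'') a * y := by
    intro a y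
    obtain ⟨G, rfl⟩ := Ideal.Quotient.mk_surjective y
    rw [halg, ← map_mul, ← smul_eq_C_mul]
    rfl
  have hcompat : ∀ a, π (algebraMap A' (MvPolynomial ι A' ⧸ K'') a) = algebraMap A B (p a) := by
    intro a
    rw [halg, hπ, map_C, hψC]
    rfl
  have hkerπ : RingHom.ker π = Ideal.map (algebraMap A' (MvPolynomial ι A' ⧸ K''))
      (RingHom.ker (p : A' →+* A)) := by
    rw [hε, Ideal.map_span, Set.image_singleton]
    apply le_antisymm
    · intro y hy
      obtain ⟨G, rfl⟩ := Ideal.Quotient.mk_surjective y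
      have h1 : ψ (map (p : A' →+* A) G) = 0 := by
        rw [← hπ]
        exact hy
      have h2 : map (p : A' →+* A) G ∈ Ideal.span (Set.range F) := by
        rw [← hK]
        exact h1
      obtain ⟨c, hc⟩ := Finsupp.mem_span_range_iff_exists_finsupp.mp h2
      obtain ⟨c', hc'⟩ :=
        Finsupp.mapRange_surjective (map (p : A' →+* A)) (map_zero _) hps c
      obtain ⟨G₂, hG₂⟩ : ∃ G₂ : MvPolynomial ι A',
          G₂ = Finsupp.linearCombination (MvPolynomial ι A') F'' c' := ⟨_, rfl⟩
      have hG₂K : G₂ ∈ K'' := by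
        rw [hK'', hG₂]
        exact Finsupp.mem_span_range_iff_exists_finsupp.mpr ⟨c', rfl⟩
      have h3 : map (p : A' →+* A) (G - G₂) = 0 := by
        rw [map_sub, hG₂, lc_map (map (p : A' →+* A)) F'' F hF''p, hc',
          Finsupp.linearCombination_apply, hc, sub_self]
      obtain ⟨c₀, hc₀⟩ := exists_mul_of_map_eq_zero p ε hε _ h3
      have h4 : Ideal.Quotient.mk K'' G =
          Ideal.Quotient.mk K'' (C ε) * Ideal.Quotient.mk K'' c₀ := by
        rw [← map_mul, ← hc₀, map_sub, Ideal.Quotient.eq_zero_iff_mem.mpr hG₂K, sub_zero]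
      rw [h4]
      exact Ideal.mul_mem_right _ _ (Ideal.mem_span_singleton_self _)
    · rw [Ideal.span_le, Set.singleton_subset_iff]
      show π (algebraMap A' _ ε) = 0
      rw [hcompat, hpε, map_zero]
  obtain ⟨ι', hι'def⟩ : ∃ ι' : (MvPolynomial ι A' ⧸ K'') →+* B₀, ι' = ι₀.comp π := ⟨_, rfl⟩
  have hι'mk : ∀ G, ι' (Ideal.Quotient.mk K'' G) = aeval P.val (map (e' : A' →+* k) G) := by
    intro G
    rw [hι'def, RingHom.comp_apply, hπ, hψι, map_e_map_p e e' p hep]
  have hι's : Function.Surjective ι' := by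
    rw [hι'def]
    exact hι.comp hπs
  have hcomp' : ∀ a, ι' (algebraMap A' (MvPolynomial ι A' ⧸ K'') a) =
      algebraMap k B₀ (e' a) := by
    intro a
    rw [hι'def, RingHom.comp_apply, hcompat, hcomp, hep]
  have hkey : ∀ G : MvPolynomial ι A', Ideal.Quotient.mk K'' (C ε * G) = 0 →
      ι' (Ideal.Quotient.mk K'' G) = 0 := by
    intro G hG
    have h1 : C ε * G ∈ Ideal.span (Set.range F'') := by
      rw [← hK'']
      exact Ideal.Quotient.eq_zero_iff_mem.mp hG
    obtain ⟨ρ', hρ'⟩ := Finsupp.mem_span_range_iff_exists_finsupp.mp h1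
    have hρ'' : Finsupp.linearCombination (MvPolynomial ι A') F'' ρ' = C ε * G := by
      rw [Finsupp.linearCombination_apply]
      exact hρ'
    have h2 : map (p : A' →+* A)
        (Finsupp.linearCombination (MvPolynomial ι A') F'' ρ') = 0 := by
      rw [hρ'', map_mul, map_C]
      have h3 : (p : A' →+* A) ε = 0 := hpε
      rw [h3, C_0, zero_mul]
    obtain ⟨c, hc, hc'⟩ := hF''Θ ρ' h2
    have h3 : C ε * (G - map (algebraMap k A') c) = 0 := by
      rw [mul_sub, ← hρ'', hc', theta, sub_self]
    have h4 := map_e'_eq_zero_of_C_eps_mul e' ε hε0 _ h3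
    rw [map_sub, map_e_map_algebraMap, sub_eq_zero] at h4
    rw [hι'mk, h4]
    exact P.aeval_val_eq_zero hc
  have hker' : RingHom.ker ι' = Ideal.map (algebraMap A' (MvPolynomial ι A' ⧸ K''))
      (RingHom.ker e') := by
    apply le_antisymm
    · intro y hy
      obtain ⟨G, rfl⟩ := Ideal.Quotient.mk_surjective y
      have h1 : aeval P.val (map (e' : A' →+* k) G) = 0 := by
        rw [← hι'mk]
        exact hy
      have h2 : map (e' : A' →+* k) G ∈ P.ker := by
        rw [P.ker_eq_ker_aeval_val]
        exact h1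
      rw [← P.span_range_relation_eq_ker] at h2
      obtain ⟨c, hc⟩ := Finsupp.mem_span_range_iff_exists_finsupp.mp h2
      obtain ⟨ct, hct⟩ : ∃ ct : σ →₀ MvPolynomial ι A',
          ct = Finsupp.mapRange (map (algebraMap k A')) (map_zero _) c := ⟨_, rfl⟩
      obtain ⟨G₂, hG₂⟩ : ∃ G₂ : MvPolynomial ι A',
          G₂ = Finsupp.linearCombination (MvPolynomial ι A') F'' ct := ⟨_, rfl⟩
      have hG₂K : G₂ ∈ K'' := by
        rw [hK'', hG₂]
        exact Finsupp.mem_span_range_iff_exists_finsupp.mpr ⟨ct, rfl⟩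
      have h3 : map (e' : A' →+* k) (G - G₂) = 0 := by
        rw [map_sub, hG₂, lc_map (map (e' : A' →+* k)) F'' P.relation hF''e, hct,
          mapRange_map_e, Finsupp.linearCombination_apply, hc, sub_self]
      have h4 : G - G₂ ∈ Ideal.map C (RingHom.ker e') := (mem_map_C_ker e' _).mpr h3
      have h5 : Ideal.Quotient.mk K'' G = Ideal.Quotient.mk K'' (G - G₂) := by
        rw [map_sub, Ideal.Quotient.eq_zero_iff_mem.mpr hG₂K, sub_zero]
      rw [h5]
      have h6 : Ideal.map (algebraMap A' (MvPolynomial ι A' ⧸ K'')) (RingHom.ker e') =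
          Ideal.map (Ideal.Quotient.mk K'') (Ideal.map C (RingHom.ker e')) := by
        rw [Ideal.map_map]
        rfl
      rw [h6]
      exact Ideal.mem_map_of_mem _ h4
    · rw [Ideal.map_le_iff_le_comap]
      intro a ha
      rw [Ideal.mem_comap, RingHom.mem_ker, hcomp']
      have h1 : e' a = 0 := ha
      rw [h1, map_zero]
  obtain ⟨⟨Λ, bas⟩⟩ := Module.Free.exists_basis (R := k) (M := B₀)
  choose E' hE' using fun l => hι's (bas l)
  have hΦ'bij : Function.Bijective (Finsupp.linearCombination A' E') := by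
    constructor
    · rw [injective_iff_map_eq_zero]
      intro x hx
      have hπlc : ∀ x : Λ →₀ A', π (Finsupp.linearCombination A' E' x) =
          Finsupp.linearCombination A (fun l => π (E' l))
            (Finsupp.mapRange p (map_zero p) x) := by
        intro x
        induction x using Finsupp.induction_linear with
        | zero => simp
        | add x y hx hy =>
          rw [map_add, map_add, hx, hy, Finsupp.mapRange_add (map_add p), map_add]
        | single l a =>
          rw [Finsupp.mapRange_single, Finsupp.linearCombination_single,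
            Finsupp.linearCombination_single, hsm, map_mul, hcompat,
            Algebra.smul_def]
      have hΦbij := basis_lift_bijective e ι₀ hnil hker hcomp bas (fun l => π (E' l))
        (fun l => by
          have h1 := hE' l
          rw [hι'def] at h1
          exact h1)
      have h1 : Finsupp.mapRange p (map_zero p) x = 0 := by
        apply hΦbij.1
        rw [← hπlc, hx, map_zero, map_zero]
      have h2 : x ∈ Set.range (Finsupp.mapRange (fun a : A' => ε * a) (mul_zero ε)) := by
        rw [Finsupp.range_mapRange]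
        intro l
        have h3 := DFunLike.congr_fun h1 l
        rw [Finsupp.mapRange_apply, Finsupp.zero_apply] at h3
        have h4 : x l ∈ RingHom.ker (p : A' →+* A) := h3
        rw [hε] at h4
        obtain ⟨c, hc⟩ := Ideal.mem_span_singleton'.mp h4
        exact ⟨c, by rw [← hc, mul_comm]⟩
      obtain ⟨c, rfl⟩ := h2
      have h5 : Finsupp.linearCombination A' E'
          (Finsupp.mapRange (fun a : A' => ε * a) (mul_zero ε) c) =
          algebraMap A' (MvPolynomial ι A' ⧸ K'') ε * Finsupp.linearCombination A' E' c := by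
        have h6 : Finsupp.mapRange (fun a : A' => ε * a) (mul_zero ε) c = ε • c := by
          ext l
          simp
        rw [h6, map_smul, hsm]
      obtain ⟨G, hG⟩ := Ideal.Quotient.mk_surjective (Finsupp.linearCombination A' E' c)
      have h6 : Ideal.Quotient.mk K'' (C ε * G) = 0 := by
        rw [map_mul, hG, ← halg, ← h5]
        exact hx
      have h7 := hkey G h6
      rw [hG, iota_lc e' ι' bas hcomp' E' hE'] at h7
      have h8 : Finsupp.mapRange e' (map_zero e') c = 0 :=
        (linearIndependent_iff.mp bas.linearIndependent) _ h7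
      ext l
      have h9 := DFunLike.congr_fun h8 l
      rw [Finsupp.mapRange_apply, Finsupp.zero_apply] at h9
      rw [Finsupp.mapRange_apply, Finsupp.zero_apply, mul_comm]
      exact hmε _ h9
    · rw [← LinearMap.range_eq_top]
      apply Groth.Agent.Lead.DefoIso.eq_top_of_top_le_sup_smul (RingHom.ker e') hnil'
      intro y _
      obtain ⟨x, hx⟩ : ∃ x : Λ →₀ A',
          x = Finsupp.mapRange (algebraMap k A') (map_zero _) (bas.repr (ι' y)) := ⟨_, rfl⟩
      have h1 : ι' (y - Finsupp.linearCombination A' E' x) = 0 := by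
        rw [map_sub, iota_lc e' ι' bas hcomp' E' hE', hx, mapRange_e_algebraMap,
          Module.Basis.linearCombination_repr, sub_self]
      have h2 : y - Finsupp.linearCombination A' E' x ∈
          (RingHom.ker e') • (⊤ : Submodule A' (MvPolynomial ι A' ⧸ K'')) := by
        rw [Ideal.smul_top_eq_map]
        show _ ∈ Ideal.map (algebraMap A' (MvPolynomial ι A' ⧸ K'')) (RingHom.ker e')
        rw [← hker']
        exact h1
      have h3 : y = Finsupp.linearCombination A' E' x +
          (y - Finsupp.linearCombination A' E' x) := by abel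
      rw [h3]
      exact Submodule.add_mem_sup ⟨x, rfl⟩ h2
  have hflat : Module.Flat A' (MvPolynomial ι A' ⧸ K'') :=
    Module.Flat.of_linearEquiv (LinearEquiv.ofBijective _ hΦ'bij).symm
  rw [hι'def] at hker'
  exact ⟨MvPolynomial ι A' ⧸ K'', inferInstance, inferInstance, hflat, π, hπs, hcompat, hkerπ,
    hker'⟩

end Final

end Groth.Agent.Helper3.T2Lift
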