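import Mathlib
import Groth.Prelude.Def_CotT
import Groth.Prelude.Def_ArtFun4
import Groth.Agent.Lib.Helper3.RigidDef
import Groth.Agent.Lib.Helper3.T2Lift6
import Groth.Agent.Lib.Helper9.ThickAff

/-! Lifting deformations of an affine scheme along a small extension when `T² = 0`: the scheme
level (helper3). -/

set_option autoImplicit false
set_option linter.style.haveILetI false
universe u
open CategoryTheory CategoryTheory.Limits AlgebraicGeometry

namespace Groth.Agent.Helper3.T2Lift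

theorem isPushout_of_surjective {S T C D : Type u} [CommRing S] [CommRing T] [CommRing C]
    [CommRing D] (q : S →+* T) (hq : Function.Surjective q) (c : S →+* C) (d : C →+* D)
    (hd : Function.Surjective d) (t : T →+* D) (hcomm : d.comp c = t.comp q)
    (hker : RingHom.ker d = Ideal.map c (RingHom.ker q)) :
    IsPushout (CommRingCat.ofHom c) (CommRingCat.ofHom q) (CommRingCat.ofHom d)
      (CommRingCat.ofHom t) := by
  have hw : CommRingCat.ofHom c ≫ CommRingCat.ofHom d =
      CommRingCat.ofHom q ≫ CommRingCat.ofHom t := by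
    rw [← CommRingCat.ofHom_comp, ← CommRingCat.ofHom_comp, hcomm]
  have hle : ∀ s : PushoutCocone (CommRingCat.ofHom c) (CommRingCat.ofHom q),
      RingHom.ker d ≤ RingHom.ker s.inl.hom := by
    intro s
    rw [hker, Ideal.map_le_iff_le_comap]
    intro a ha
    rw [Ideal.mem_comap, RingHom.mem_ker]
    have h2 : s.inl.hom (c a) = s.inr.hom (q a) := congrArg (fun m => m.hom a) s.condition
    rw [h2, RingHom.mem_ker.mp ha, map_zero]
  refine ⟨⟨hw⟩, ⟨PushoutCocone.IsColimit.mk hw
    (fun s => CommRingCat.ofHom (RingHom.liftOfSurjective d hd ⟨s.inl.hom, hle s⟩)) ?_ ?_ ?_⟩⟩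
  · intro s
    ext x
    exact RingHom.liftOfSurjective_comp_apply d hd ⟨s.inl.hom, hle s⟩ x
  · intro s
    ext y
    obtain ⟨a, rfl⟩ := hq y
    have h1 : t (q a) = d (c a) := (congrArg (fun m => m a) hcomm).symm
    show (RingHom.liftOfSurjective d hd ⟨s.inl.hom, hle s⟩) (t (q a)) = s.inr.hom (q a)
    rw [h1, RingHom.liftOfSurjective_comp_apply]
    exact congrArg (fun m => m.hom a) s.condition
  · intro s m h1 h2
    ext z
    obtain ⟨x, rfl⟩ := hd z
    show m.hom (d x) = (RingHom.liftOfSurjective d hd ⟨s.inl.hom, hle s⟩) (d x)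
    rw [RingHom.liftOfSurjective_comp_apply]
    exact congrArg (fun f => f.hom x) h1

theorem iso_of_pullbacks {C : Type*} [Category C] [HasPullbacks C] {T T' S S' Y X : C}
    (f' : T' ⟶ S') (s : S ⟶ S') (a : Y ⟶ T') (b : Y ⟶ S) (hpb : IsPullback a b f' s)
    (φ : T ≅ Y) (f : T ⟶ S) (hf : f = φ.hom ≫ b) (i : X ⟶ T) (i' : X ⟶ T') (u : X ⟶ S)
    (j : X ⟶ Y) (hj : i ≫ φ.hom = j) (hja : j ≫ a = i') (hif : i ≫ f = u)
    (w : i' ≫ f' = u ≫ s) :
    (hpb.isoPullback.symm ≪≫ φ.symm).hom ≫ f = pullback.snd f' s ∧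
      pullback.lift i' u w ≫ (hpb.isoPullback.symm ≪≫ φ.symm).hom = i := by
  constructor
  · rw [Iso.trans_hom, Iso.symm_hom, Iso.symm_hom, Category.assoc, hf, Iso.inv_hom_id_assoc,
      hpb.isoPullback_inv_snd]
  · have h1 : pullback.lift i' u w = j ≫ hpb.isoPullback.hom := by
      apply pullback.hom_ext
      · rw [pullback.lift_fst, Category.assoc, hpb.isoPullback_hom_fst, hja]
      · rw [pullback.lift_snd, Category.assoc, hpb.isoPullback_hom_snd, ← hj, Category.assoc,
          ← hf, hif]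
    rw [h1, Iso.trans_hom, Iso.symm_hom, Iso.symm_hom, Category.assoc, Iso.hom_inv_id_assoc,
      ← hj, Category.assoc, Iso.hom_inv_id, Category.comp_id]

theorem affineData (k : Type u) [Field k] (B₀ : Type u) [CommRing B₀] [Algebra k B₀]
    (A : Type u) [CommRing A] [IsLocalRing A] [IsArtinianRing A] [Algebra k A] (e : A →ₐ[k] k)
    (X' : Scheme.{u}) (g : X' ⟶ Spec (CommRingCat.of A)) [Flat g]
    (i : Spec (CommRingCat.of B₀) ⟶ X')
    (hsq : IsPullback i (Spec.map (CommRingCat.ofHom (algebraMap k B₀))) g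
      (Spec.map (CommRingCat.ofHom e.toRingHom))) :
    ∃ (B : CommRingCat.{u}) (AB : CommRingCat.of A ⟶ B) (ι' : B ⟶ CommRingCat.of B₀)
      (φ : X' ≅ Spec B), g = φ.hom ≫ Spec.map AB ∧ i ≫ φ.hom = Spec.map ι' ∧ AB.hom.Flat ∧
      Function.Surjective ι'.hom ∧
      RingHom.ker ι'.hom = Ideal.map AB.hom (RingHom.ker e) ∧
      ∀ a, ι'.hom (AB.hom a) = algebraMap k B₀ (e a) := by
  have he : Function.Surjective e := fun c => ⟨algebraMap k A c, by simp⟩
  haveI : IsClosedImmersion (Spec.map (CommRingCat.ofHom e.toRingHom)) :=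
    IsClosedImmersion.spec_of_surjective _ he
  haveI : IsClosedImmersion i :=
    MorphismProperty.of_isPullback (P := @IsClosedImmersion) hsq.flip inferInstance
  haveI : Surjective (Spec.map (CommRingCat.ofHom e.toRingHom)) := by
    refine ⟨fun p => ?_⟩
    have key : ∀ q : PrimeSpectrum A, ∃ q' : PrimeSpectrum k,
        PrimeSpectrum.comap e.toRingHom q' = q := by
      intro q
      haveI : q.asIdeal.IsMaximal := inferInstance
      have hIm : (RingHom.ker e).IsMaximal := RingHom.ker_isMaximal_of_surjective e he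
      have hq : q.asIdeal = RingHom.ker e := by
        rw [IsLocalRing.eq_maximalIdeal hIm, IsLocalRing.eq_maximalIdeal ‹q.asIdeal.IsMaximal›]
      refine ⟨⟨⊥, Ideal.isPrime_bot⟩, ?_⟩
      apply PrimeSpectrum.ext
      show Ideal.comap e.toRingHom ⊥ = q.asIdeal
      rw [hq]; rfl
    obtain ⟨q', hq'⟩ := key p
    exact ⟨q', hq'⟩
  haveI : Surjective i :=
    MorphismProperty.of_isPullback (P := @Surjective) hsq.flip inferInstance
  haveI : IsAffine X' := H9ThickAff.isAffine_of_thickening i ‹Surjective i›.surj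
  obtain ⟨AB', hAB'⟩ : ∃ AB' : CommRingCat.of A ⟶ Γ(X', ⊤),
      AB' = (Scheme.ΓSpecIso (CommRingCat.of A)).inv ≫ g.appTop := ⟨_, rfl⟩
  have F2 : g = X'.isoSpec.hom ≫ Spec.map AB' := by
    rw [hAB']
    exact RigidDef.fact1 _ g
  obtain ⟨ι', hι'def⟩ : ∃ ι' : Γ(X', ⊤) ⟶ CommRingCat.of B₀,
      ι' = i.appTop ≫ (Scheme.ΓSpecIso (CommRingCat.of B₀)).hom := ⟨_, rfl⟩
  have hι' : Spec.map ι' = i ≫ X'.isoSpec.hom := by
    rw [hι'def, Spec.map_comp, ← Scheme.isoSpec_Spec_hom, Scheme.isoSpec_hom_naturality]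
  have hpb : IsPullback (Spec.map ι') (Spec.map (CommRingCat.ofHom (algebraMap k B₀)))
      (Spec.map AB') (Spec.map (CommRingCat.ofHom e.toRingHom)) := by
    refine hsq.of_iso (Iso.refl _) X'.isoSpec (Iso.refl _) (Iso.refl _) ?_ ?_ ?_ ?_
    · rw [Iso.refl_hom, Category.id_comp]; exact hι'.symm
    · simp
    · rw [Iso.refl_hom, Category.comp_id]; exact F2
    · simp
  have hfl : AB'.hom.Flat := by
    have h1 : RingHom.Flat g.appTop.hom :=
      (HasRingHomProperty.iff_of_isAffine (P := @Flat)).mp inferInstance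
    rw [hAB']
    show RingHom.Flat (g.appTop.hom.comp (Scheme.ΓSpecIso (CommRingCat.of A)).inv.hom)
    exact RingHom.Flat.comp (RingHom.Flat.of_bijective
      (ConcreteCategory.bijective_of_isIso (Scheme.ΓSpecIso (CommRingCat.of A)).inv)) h1
  have hι : Function.Surjective ι'.hom := by
    have h1 : Function.Surjective i.appTop.hom :=
      (IsClosedImmersion.isAffine_surjective_of_isAffine i).2
    rw [hι'def]
    show Function.Surjective
      ((Scheme.ΓSpecIso (CommRingCat.of B₀)).hom.hom.comp i.appTop.hom)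
    rw [RingHom.coe_comp]
    exact (ConcreteCategory.bijective_of_isIso
      (Scheme.ΓSpecIso (CommRingCat.of B₀)).hom).2.comp h1
  have hw : AB' ≫ ι' = CommRingCat.ofHom e.toRingHom ≫
      CommRingCat.ofHom (algebraMap k B₀) := by
    apply Spec.map_injective
    rw [Spec.map_comp, Spec.map_comp]
    exact hpb.w
  have hcomp : ∀ a : A, ι'.hom (AB'.hom a) = algebraMap k B₀ (e a) := fun a =>
    congrArg (fun m => m.hom a) hw
  obtain ⟨J, hJ⟩ : ∃ J : Ideal Γ(X', ⊤), J = Ideal.map AB'.hom (RingHom.ker e) := ⟨_, rfl⟩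
  have hker : RingHom.ker ι'.hom = Ideal.map AB'.hom (RingHom.ker e) := by
    rw [← hJ]
    apply le_antisymm
    · refine RigidDef.ker_le_of_isPullback AB' (CommRingCat.ofHom e.toRingHom)
        (CommRingCat.ofHom (algebraMap k B₀)) ι' hpb J
        (CommRingCat.ofHom
          ((Ideal.Quotient.mk J).comp (AB'.hom.comp (algebraMap k A)))) ?_
      ext a
      show Ideal.Quotient.mk J (AB'.hom a) =
        Ideal.Quotient.mk J (AB'.hom (algebraMap k A (e a)))
      rw [Ideal.Quotient.eq, ← map_sub, hJ]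
      apply Ideal.mem_map_of_mem
      rw [RingHom.mem_ker, map_sub, e.commutes]
      simp
    · rw [hJ, Ideal.map_le_iff_le_comap]
      intro a ha
      rw [Ideal.mem_comap, RingHom.mem_ker, hcomp, RingHom.mem_ker.mp ha, map_zero]
  exact ⟨Γ(X', ⊤), AB', ι', X'.isoSpec, F2, hι'.symm, hfl, hι, hker, hcomp⟩

/-- the deformation of `Spec B₀` attached to a flat algebra with closed fibre `B₀` -/
noncomputable def mkDef {k : Type u} [Field k] (B₀ : Type u) [CommRing B₀] [Algebra k B₀]
    (A' : ArtFun.Art k k) (B' : Type u) [CommRing B'] [Algebra A' B'] [Module.Flat A' B']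
    (j : B' →+* B₀)
    (hpb : IsPullback (Spec.map (CommRingCat.ofHom j))
      (Spec.map (CommRingCat.ofHom (algebraMap k B₀)))
      (Spec.map (CommRingCat.ofHom (algebraMap A' B'))) (ArtFun.Art.specRes A')) :
    ArtFun.DefSch (Spec (CommRingCat.of B₀))
      (Spec.map (CommRingCat.ofHom (algebraMap k B₀))) A' where
  total := Spec (CommRingCat.of B')
  f := Spec.map (CommRingCat.ofHom (algebraMap A' B'))
  flat := Flat.SpecMap_iff.mpr (RingHom.flat_algebraMap_iff.mpr inferInstance)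
  i := Spec.map (CommRingCat.ofHom j)
  isPullback := hpb

theorem lift_defo {k : Type u} [Field k] (B₀ : Type u) [CommRing B₀] [Algebra k B₀]
    {ι σ : Type u} (P : Algebra.Presentation k B₀ ι σ) (hT2 : Subsingleton (CotT.T2 P B₀))
    {A' A : ArtFun.Art k k} (p : A' ⟶ A) (hp : ArtFun.Art.IsSmallExt p)
    (ξ : ArtFun.DefSch (Spec (CommRingCat.of B₀))
      (Spec.map (CommRingCat.ofHom (algebraMap k B₀))) A) :
    ∃ ξ' : ArtFun.DefSch (Spec (CommRingCat.of B₀))
      (Spec.map (CommRingCat.ofHom (algebraMap k B₀))) A',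
      Nonempty ((ξ'.baseChange p).Iso ξ) := by
  obtain ⟨B, AB, ι', φ, hg, hi, hfl, hιs, hker, hcomp⟩ :=
    affineData k B₀ A A.res ξ.total ξ.f ξ.i ξ.isPullback
  letI : Algebra A B := AB.hom.toAlgebra
  haveI : Module.Flat A B := hfl
  obtain ⟨hps, hne, hprinc, hmker⟩ := hp
  obtain ⟨ε, hε⟩ := hprinc.1
  have hε' : RingHom.ker (p.toAlgHom : A' →+* A) = Ideal.span {ε} := hε
  have hε0 : ε ≠ 0 := by
    intro h0
    apply hne
    rw [hε, h0]
    exact Submodule.span_zero_singleton A'
  have hmε : ∀ a : A', A'.res a = 0 → a * ε = 0 := by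
    intro a ha
    have h1 : a ∈ IsLocalRing.maximalIdeal A' := (ArtFun.Art.mem_maximalIdeal_iff A' a).mpr ha
    have h2 : ε ∈ RingHom.ker p.toAlgHom := by
      rw [hε]
      exact Submodule.mem_span_singleton_self ε
    have h3 := Ideal.mul_mem_mul h1 h2
    rw [hmker] at h3
    exact h3
  have hep : ∀ a : A', A.res (p.toAlgHom a) = A'.res a := fun a => ArtFun.Art.res_app p a
  obtain ⟨B', _, _, _, π, hπs, hcompat, hkerπ, hkerιπ⟩ :=
    algLift P A.res A'.res p.toAlgHom ε hT2 hε0 hε' hmε hps hep ι'.hom hιs hker hcomp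
  have hpo1 : IsPushout (CommRingCat.ofHom (algebraMap A' B'))
      (CommRingCat.ofHom A'.res.toRingHom) (CommRingCat.ofHom (ι'.hom.comp π))
      (CommRingCat.ofHom (algebraMap k B₀)) := by
    refine isPushout_of_surjective A'.res.toRingHom A'.res_surjective (algebraMap A' B')
      (ι'.hom.comp π) (hιs.comp hπs) (algebraMap k B₀) ?_ hkerιπ
    ext a
    show ι'.hom (π (algebraMap A' B' a)) = algebraMap k B₀ (A'.res a)
    rw [hcompat, ← hep]
    exact hcomp _
  have hpb1 := isPullback_SpecMap_of_isPushout _ _ _ _ hpo1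
  obtain ⟨πc, hπc⟩ : ∃ πc : CommRingCat.of B' ⟶ B, πc = CommRingCat.ofHom π := ⟨_, rfl⟩
  have hpo2 : IsPushout (CommRingCat.ofHom (algebraMap A' B'))
      (CommRingCat.ofHom p.toAlgHom.toRingHom) πc AB := by
    rw [hπc]
    refine isPushout_of_surjective p.toAlgHom.toRingHom hps (algebraMap A' B') π hπs AB.hom
      ?_ hkerπ
    ext a
    exact hcompat a
  have hpb2 : IsPullback (Spec.map πc) (Spec.map AB)
      (Spec.map (CommRingCat.ofHom (algebraMap A' B'))) (ArtFun.Art.specMap p) :=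
    isPullback_SpecMap_of_isPushout _ _ _ _ hpo2
  have hja : Spec.map ι' ≫ Spec.map πc =
      Spec.map (CommRingCat.ofHom ((CommRingCat.Hom.hom ι').comp π)) := by
    rw [← Spec.map_comp, hπc]
    rfl
  have hw : Spec.map (CommRingCat.ofHom ((CommRingCat.Hom.hom ι').comp π)) ≫
      Spec.map (CommRingCat.ofHom (algebraMap A' B')) =
      (Spec.map (CommRingCat.ofHom (algebraMap k B₀)) ≫ ArtFun.Art.specRes A) ≫
        ArtFun.Art.specMap p := by
    rw [Category.assoc, ArtFun.Art.specRes_comp]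
    exact hpb1.w
  have key := iso_of_pullbacks (Spec.map (CommRingCat.ofHom (algebraMap A' B')))
    (ArtFun.Art.specMap p) (Spec.map πc) (Spec.map AB) hpb2 φ ξ.f hg ξ.i
    (Spec.map (CommRingCat.ofHom ((CommRingCat.Hom.hom ι').comp π)))
    (Spec.map (CommRingCat.ofHom (algebraMap k B₀)) ≫ ArtFun.Art.specRes A)
    (Spec.map ι') hi hja ξ.isPullback.w hw
  exact ⟨mkDef B₀ A' B' (ι'.hom.comp π) hpb1,
    ⟨⟨hpb2.isoPullback.symm ≪≫ φ.symm, key.1, key.2⟩⟩⟩

end Groth.Agent.Helper3.T2Lift
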