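import Mathlib
import Groth.Prelude.Def_ArtFun4
import Groth.Agent.Lib.Helper3.RigidDef
import Groth.Agent.Lib.Helper3.T2Lift7
import Groth.Agent.Lib.Helper3.DefGl2

/-! Deformations of an affine scheme from ring data, and classes of deformations related by a
morphism (helper3). -/

set_option autoImplicit false
set_option linter.style.haveILetI false
universe u
open CategoryTheory CategoryTheory.Limits AlgebraicGeometry

namespace Groth.Agent.Helper3.FO

open ArtFun ArtFun.Art

variable {Λ : Type u} {k : Type u} [CommRing Λ] [Field k] [Algebra Λ k]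

section General

variable {X : Scheme.{u}} {x : X ⟶ specPt k}

theorem cl_eq_of_hom {A A' : Art Λ k} (g : A ⟶ A') (ζ : DefSch X x A) (ζ' : DefSch X x A')
    (m : ζ'.total ⟶ ζ.total) (hm : m ≫ ζ.f = ζ'.f ≫ specMap g) (hi : ζ'.i ≫ m = ζ.i) :
    (defFunctor X x).map g ζ.cl = ζ'.cl := by
  rw [defFunctor_map_cl]
  obtain ⟨ψ, hψ⟩ : ∃ ψ : ζ'.total ⟶ (ζ.baseChange g).total, ψ = pullback.lift m ζ'.f hm :=
    ⟨_, rfl⟩
  have hf : ψ ≫ (ζ.baseChange g).f = ζ'.f := by rw [hψ]; exact pullback.lift_snd _ _ _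
  have hi' : ζ'.i ≫ ψ = (ζ.baseChange g).i := by
    rw [hψ]
    apply pullback.hom_ext
    · rw [Category.assoc, pullback.lift_fst, hi, DefSch.baseChange_i_fst]
    · rw [Category.assoc, pullback.lift_snd, ζ'.i_f]
      exact (DefSch.baseChange_i_f ζ g).symm
  haveI : IsIso ψ := DefGl.isIso_of_hom ζ' (ζ.baseChange g) ψ hf hi'
  exact Quotient.sound ⟨(DefGl.isoOfIsIso ζ' (ζ.baseChange g) ψ hf hi').symm⟩

theorem cl_eq_of_hom_id {A : Art Λ k} (ζ ζ' : DefSch X x A)
    (m : ζ'.total ⟶ ζ.total) (hm : m ≫ ζ.f = ζ'.f) (hi : ζ'.i ≫ m = ζ.i) : ζ.cl = ζ'.cl := by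
  haveI : IsIso m := DefGl.isIso_of_hom ζ' ζ m hm hi
  exact Quotient.sound ⟨(DefGl.isoOfIsIso ζ' ζ m hm hi).symm⟩

end General

section Affine

variable {X : Scheme.{u}} [IsAffine X] (x : X ⟶ specPt k)

/-- structure map `k → Γ(X)` -/
noncomputable def kap : CommRingCat.of k ⟶ Γ(X, ⊤) :=
  (Scheme.ΓSpecIso (CommRingCat.of k)).inv ≫ x.appTop

theorem x_eq : x = X.isoSpec.hom ≫ Spec.map (kap x) := RigidDef.fact1 _ x

/-- global sections of `X` as a `k`-algebra through `x` -/
def ΓX (_x : X ⟶ specPt k) : Type u := Γ(X, ⊤)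

noncomputable instance : CommRing (ΓX x) := inferInstanceAs (CommRing Γ(X, ⊤))

noncomputable instance : Algebra k (ΓX x) := (kap x).hom.toAlgebra

theorem algebraMap_ΓX (c : k) : algebraMap k (ΓX x) c = (kap x).hom c := rfl

/-- ring-level data of a deformation -/
structure RData (A : Art Λ k) where
  /-- the ring of the total space -/
  E : Type u
  [cr : CommRing E]
  /-- structure map -/
  α : A →+* E
  hfl : α.Flat
  /-- restriction to the closed fibre -/
  ι : E →+* ΓX x
  hs : Function.Surjective ι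
  hker : RingHom.ker ι = Ideal.map α (RingHom.ker A.res.toRingHom)
  hcomp : ∀ a, ι (α a) = algebraMap k (ΓX x) (A.res a)

attribute [instance] RData.cr

/-- the deformation defined by ring data -/
noncomputable def ofRing {A : Art Λ k} (D : RData x A) : DefSch X x A where
  total := Spec (CommRingCat.of D.E)
  f := Spec.map (CommRingCat.ofHom D.α)
  flat := Flat.SpecMap_iff.mpr D.hfl
  i := X.isoSpec.hom ≫ Spec.map (CommRingCat.ofHom D.ι)
  isPullback := by
    have hpo : IsPushout (CommRingCat.ofHom D.α) (CommRingCat.ofHom A.res.toRingHom)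
        (CommRingCat.ofHom D.ι) (kap x) :=
      T2Lift.isPushout_of_surjective A.res.toRingHom A.res_surjective D.α D.ι D.hs (kap x).hom
        (RingHom.ext fun a => D.hcomp a) D.hker
    have hpb := isPullback_SpecMap_of_isPushout _ _ _ _ hpo
    refine hpb.of_iso X.isoSpec.symm (Iso.refl _) (Iso.refl _) (Iso.refl _) ?_ ?_ ?_ ?_
    · exact (Category.comp_id _).trans (Iso.inv_hom_id_assoc _ _).symm
    · refine (Category.comp_id _).trans ?_
      show Spec.map (kap x) = X.isoSpec.inv ≫ x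
      rw [Iso.eq_inv_comp]
      exact (x_eq x).symm
    · exact (Category.comp_id _).trans (Category.id_comp _).symm
    · exact (Category.comp_id _).trans (Category.id_comp _).symm

theorem exists_ofRing {A : Art Λ k} (ζ : DefSch X x A) :
    ∃ D : RData x A, ζ.cl = (ofRing x D).cl := by
  haveI : IsAffine ζ.total :=
    H9ThickAff.isAffine_of_thickening ζ.i (DefGl.surjective_i ζ).surj
  obtain ⟨α₁, hα₁⟩ : ∃ α₁ : CommRingCat.of A ⟶ Γ(ζ.total, ⊤),
      α₁ = (Scheme.ΓSpecIso (CommRingCat.of A)).inv ≫ ζ.f.appTop := ⟨_, rfl⟩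
  have F1 : ζ.f = ζ.total.isoSpec.hom ≫ Spec.map α₁ := by
    rw [hα₁]; exact RigidDef.fact1 _ ζ.f
  have hpb₁ : IsPullback (Spec.map ζ.i.appTop) (Spec.map (kap x)) (Spec.map α₁) (specRes A) := by
    refine ζ.isPullback.of_iso X.isoSpec ζ.total.isoSpec (Iso.refl _) (Iso.refl _) ?_ ?_ ?_ ?_
    · exact (Scheme.isoSpec_hom_naturality ζ.i).symm
    · rw [Iso.refl_hom, Category.comp_id]; exact x_eq x
    · rw [Iso.refl_hom, Category.comp_id]; exact F1
    · simp
  obtain ⟨hc, hk₁⟩ := DefGl.ker_eq_of_isPullback A (kap x) α₁ ζ.i.appTop hpb₁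
  have hι : Function.Surjective ζ.i.appTop.hom :=
    (IsClosedImmersion.isAffine_surjective_of_isAffine ζ.i).2
  have hfl : α₁.hom.Flat := by
    have h1 : RingHom.Flat ζ.f.appTop.hom :=
      (HasRingHomProperty.iff_of_isAffine (P := @Flat)).mp inferInstance
    rw [hα₁]
    show RingHom.Flat (ζ.f.appTop.hom.comp (Scheme.ΓSpecIso (CommRingCat.of A)).inv.hom)
    exact RingHom.Flat.comp (RingHom.Flat.of_bijective
      (ConcreteCategory.bijective_of_isIso (Scheme.ΓSpecIso (CommRingCat.of A)).inv)) h1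
  refine ⟨(⟨Γ(ζ.total, ⊤), α₁.hom, hfl, ζ.i.appTop.hom, hι, hk₁, hc⟩ : RData x A), ?_⟩
  refine Quotient.sound ⟨?_⟩
  exact
    { iso := ζ.total.isoSpec
      hom_f := F1.symm
      i_hom := (Scheme.isoSpec_hom_naturality ζ.i).symm }

theorem cl_eq_of_ringHom {A A' : Art Λ k} (g : A ⟶ A') (D : RData x A) (D' : RData x A')
    (R : D.E →+* D'.E) (hRα : ∀ a, R (D.α a) = D'.α (g a)) (hRι : ∀ e, D'.ι (R e) = D.ι e) :
    (defFunctor X x).map g (ofRing x D).cl = (ofRing x D').cl := by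
  refine cl_eq_of_hom g _ _ (Spec.map (CommRingCat.ofHom R)) ?_ ?_
  · show Spec.map (CommRingCat.ofHom R) ≫ Spec.map (CommRingCat.ofHom D.α) =
      Spec.map (CommRingCat.ofHom D'.α) ≫ Spec.map (CommRingCat.ofHom g.toAlgHom.toRingHom)
    rw [← Spec.map_comp, ← Spec.map_comp]
    congr 1
    refine CommRingCat.hom_ext (RingHom.ext fun a => ?_)
    exact hRα a
  · show (X.isoSpec.hom ≫ Spec.map (CommRingCat.ofHom D'.ι)) ≫ Spec.map (CommRingCat.ofHom R) =
      X.isoSpec.hom ≫ Spec.map (CommRingCat.ofHom D.ι)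
    rw [Category.assoc, ← Spec.map_comp]
    congr 2
    refine CommRingCat.hom_ext (RingHom.ext fun e => ?_)
    exact hRι e

theorem cl_eq_of_ringHom_id {A : Art Λ k} (D D' : RData x A)
    (R : D.E →+* D'.E) (hRα : ∀ a, R (D.α a) = D'.α a) (hRι : ∀ e, D'.ι (R e) = D.ι e) :
    (ofRing x D).cl = (ofRing x D').cl := by
  refine cl_eq_of_hom_id _ _ (Spec.map (CommRingCat.ofHom R)) ?_ ?_
  · show Spec.map (CommRingCat.ofHom R) ≫ Spec.map (CommRingCat.ofHom D.α) =
      Spec.map (CommRingCat.ofHom D'.α)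
    rw [← Spec.map_comp]
    congr 1
    refine CommRingCat.hom_ext (RingHom.ext fun a => ?_)
    exact hRα a
  · show (X.isoSpec.hom ≫ Spec.map (CommRingCat.ofHom D'.ι)) ≫ Spec.map (CommRingCat.ofHom R) =
      X.isoSpec.hom ≫ Spec.map (CommRingCat.ofHom D.ι)
    rw [Category.assoc, ← Spec.map_comp]
    congr 2
    refine CommRingCat.hom_ext (RingHom.ext fun e => ?_)
    exact hRι e

end Affine

end Groth.Agent.Helper3.FO
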