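import Mathlib
import Groth.Agent.Lib.Lead.CotTA4
import Groth.Agent.Lib.Helper3.FO2

/-! Finiteness of the space of first-order classes `Hom(I/I², B₀)/Der` for a finitely presented
algebra over a field whose non-smooth locus is finite (helper3). -/

set_option autoImplicit false
set_option linter.style.haveILetI false
universe u
open TensorProduct Algebra.Extension KaehlerDifferential

namespace Groth.Agent.Helper3.FO

section Fin

variable {k B₀ : Type u} [Field k] [CommRing B₀] [Algebra k B₀]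

theorem dK_apply (Q : Algebra.Extension.{u} k B₀) (d : Q.Ring → B₀)
    (hadd : ∀ p q, d (p + q) = d p + d q) (hmul : ∀ p q, d (p * q) = p • d q + q • d p)
    (g : Q.ker) : dK Q d hadd hmul g = d (g : Q.Ring) := rfl

/-- a prime whose zero locus is finite is maximal (Jacobson property) -/
theorem isMaximal_of_finite_zeroLocus [Algebra.FiniteType k B₀] (𝔭 : Ideal B₀) [h𝔭 : 𝔭.IsPrime]
    (S : Set (PrimeSpectrum B₀)) (hS : S.Finite)
    (hsub : PrimeSpectrum.zeroLocus (𝔭 : Set B₀) ⊆ S) : 𝔭.IsMaximal := by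
  haveI : IsJacobsonRing B₀ := isJacobsonRing_of_finiteType (A := k) (B := B₀)
  have hZ : IsClosed (PrimeSpectrum.zeroLocus (𝔭 : Set B₀)) := PrimeSpectrum.isClosed_zeroLocus _
  have hfin : (PrimeSpectrum.zeroLocus (𝔭 : Set B₀)).Finite := hS.subset hsub
  have h1 := closure_inter_closedPoints hZ
  have hfin' : (PrimeSpectrum.zeroLocus (𝔭 : Set B₀) ∩ closedPoints (PrimeSpectrum B₀)).Finite :=
    hfin.subset Set.inter_subset_left
  have hcl : IsClosed (PrimeSpectrum.zeroLocus (𝔭 : Set B₀) ∩ closedPoints (PrimeSpectrum B₀)) := by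
    rw [← Set.biUnion_of_singleton
      (PrimeSpectrum.zeroLocus (𝔭 : Set B₀) ∩ closedPoints (PrimeSpectrum B₀))]
    exact hfin'.isClosed_biUnion fun x hx => mem_closedPoints_iff.mp hx.2
  rw [hcl.closure_eq] at h1
  have hP : (⟨𝔭, h𝔭⟩ : PrimeSpectrum B₀) ∈ PrimeSpectrum.zeroLocus (𝔭 : Set B₀) := by
    rw [PrimeSpectrum.mem_zeroLocus]
  rw [← h1] at hP
  exact (PrimeSpectrum.isClosed_singleton_iff_isMaximal ⟨𝔭, h𝔭⟩).mp (mem_closedPoints_iff.mp hP.2)

/-- a finite type algebra over a field all of whose primes are maximal is finite -/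
theorem finite_quot [Algebra.FiniteType k B₀] (𝔞 : Ideal B₀)
    (h : ∀ 𝔭 : Ideal B₀, 𝔭.IsPrime → 𝔞 ≤ 𝔭 → 𝔭.IsMaximal) : Module.Finite k (B₀ ⧸ 𝔞) := by
  haveI : Algebra.FiniteType k (B₀ ⧸ 𝔞) :=
    Algebra.FiniteType.of_surjective (Ideal.Quotient.mkₐ k 𝔞) (Ideal.Quotient.mkₐ_surjective k 𝔞)
  rw [Module.finite_iff_krullDimLE_zero k (B₀ ⧸ 𝔞), Ring.krullDimLE_zero_iff]
  intro I hI
  haveI := hI
  have hc : (I.comap (Ideal.Quotient.mk 𝔞)).IsMaximal := by
    refine h _ (Ideal.comap_isPrime _ _) ?_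
    intro b hb
    rw [Ideal.mem_comap, Ideal.Quotient.eq_zero_iff_mem.mpr hb]
    exact I.zero_mem
  rcases Ideal.map_eq_top_or_isMaximal_of_surjective (Ideal.Quotient.mk 𝔞)
    Ideal.Quotient.mk_surjective hc with h' | h'
  · rw [Ideal.map_comap_of_surjective _ Ideal.Quotient.mk_surjective] at h'
    exact absurd h' hI.ne_top
  · rwa [Ideal.map_comap_of_surjective _ Ideal.Quotient.mk_surjective] at h'

/-- the module `Hom(I/I², B₀)` -/
abbrev NN (Q : Algebra.Extension.{u} k B₀) : Type u := Q.Cotangent →ₗ[B₀] B₀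

/-- the submodule of classes coming from derivations -/
noncomputable def DD (Q : Algebra.Extension.{u} k B₀) : Submodule B₀ (NN Q) :=
  LinearMap.range (LinearMap.lcomp B₀ B₀ Q.cotangentComplex)

/-- the first-order classes modulo derivations -/
abbrev TQ (Q : Algebra.Extension.{u} k B₀) : Type u := NN Q ⧸ DD Q

/-- the lift of a linear map on the kernel to the cotangent module -/
noncomputable def liftC (Q : Algebra.Extension.{u} k B₀) (φ : Q.ker →ₗ[Q.Ring] B₀) : NN Q :=
  (LinearMap.liftBaseChange B₀ φ) ∘ₗ Q.cotangentEquiv.symm.toLinearMap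

theorem liftC_mk (Q : Algebra.Extension.{u} k B₀) (φ : Q.ker →ₗ[Q.Ring] B₀) (g : Q.ker) :
    liftC Q φ (Cotangent.mk g) = φ g := by
  have h1 : Q.cotangentEquiv.symm (Cotangent.mk g) = (1 : B₀) ⊗ₜ[Q.Ring] g := by
    rw [LinearEquiv.symm_apply_eq, contangentEquiv_tmul, one_smul]
  show LinearMap.liftBaseChange B₀ φ (Q.cotangentEquiv.symm (Cotangent.mk g)) = φ g
  rw [h1, LinearMap.liftBaseChange_one_tmul]

variable {ι : Type} [Finite ι] (G : Algebra.Generators k B₀ ι)

theorem smul_mem_DD [Algebra.FinitePresentation k B₀] (hfg : G.toExtension.ker.FG) (τ : B₀)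
    (hτ : ↑(PrimeSpectrum.basicOpen τ) ⊆ Algebra.smoothLocus k B₀) :
    ∃ n : ℕ, ∀ Φ : NN G.toExtension, τ ^ n • Φ ∈ DD G.toExtension := by
  obtain ⟨n, χ₀, h⟩ :=
    (Groth.Agent.Lib.Lead.CotTA4.basicOpen_subset_smoothLocus_iff_split G hfg τ).mp hτ
  refine ⟨n, fun Φ => ⟨Φ ∘ₗ χ₀, ?_⟩⟩
  show (Φ ∘ₗ χ₀) ∘ₗ G.toExtension.cotangentComplex = τ ^ n • Φ
  rw [LinearMap.comp_assoc, h]
  refine LinearMap.ext fun y => ?_
  simp

theorem isMaximal_of_annihilator_le [Algebra.FinitePresentation k B₀]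
    (hfg : G.toExtension.ker.FG) (hsm : ((Algebra.smoothLocus k B₀)ᶜ).Finite)
    (𝔭 : Ideal B₀) [𝔭.IsPrime] (h : Module.annihilator B₀ (TQ G.toExtension) ≤ 𝔭) :
    𝔭.IsMaximal := by
  refine isMaximal_of_finite_zeroLocus (k := k) 𝔭 _ hsm ?_
  intro P' hP'
  rw [PrimeSpectrum.mem_zeroLocus] at hP'
  rw [Set.mem_compl_iff]
  intro hmem
  obtain ⟨_, ⟨_, ⟨τ, rfl⟩, rfl⟩, hxτ, hτ⟩ :=
    PrimeSpectrum.isBasis_basic_opens.exists_subset_of_mem_open hmem Algebra.isOpen_smoothLocus
  obtain ⟨n, hn⟩ := smul_mem_DD G hfg τ hτ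
  have hann : τ ^ n ∈ Module.annihilator B₀ (TQ G.toExtension) := by
    rw [Module.mem_annihilator]
    intro t
    obtain ⟨Φ, rfl⟩ := Submodule.Quotient.mk_surjective _ t
    rw [← Submodule.Quotient.mk_smul, Submodule.Quotient.mk_eq_zero]
    exact hn Φ
  have h1 : τ ^ n ∈ P'.asIdeal := hP' (h hann)
  have h2 : τ ∈ P'.asIdeal := P'.isPrime.mem_of_pow_mem n h1
  have h3 : τ ∉ P'.asIdeal := by simpa using hxτ
  exact h3 h2

theorem finite_TQ [Algebra.FinitePresentation k B₀]
    (hfg : G.toExtension.ker.FG) (hsm : ((Algebra.smoothLocus k B₀)ᶜ).Finite) :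
    Module.Finite k (TQ G.toExtension) := by
  haveI : Module.Finite B₀ G.toExtension.Cotangent := Cotangent.finite hfg
  haveI : IsNoetherianRing B₀ := Algebra.FiniteType.isNoetherianRing k B₀
  haveI : Module.Finite B₀ (TQ G.toExtension) := inferInstance
  haveI : Module.Finite k (B₀ ⧸ Module.annihilator B₀ (TQ G.toExtension)) :=
    finite_quot (Module.annihilator B₀ (TQ G.toExtension)) (fun 𝔭 h𝔭 hle => by
      haveI := h𝔭
      exact isMaximal_of_annihilator_le G hfg hsm 𝔭 hle)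
  letI : Module (B₀ ⧸ Module.annihilator B₀ (TQ G.toExtension)) (TQ G.toExtension) :=
    Module.quotientAnnihilator
  haveI : IsScalarTower B₀ (B₀ ⧸ Module.annihilator B₀ (TQ G.toExtension)) (TQ G.toExtension) :=
    (Module.isTorsionBySet_annihilator B₀ (TQ G.toExtension)).isScalarTower
  haveI : IsScalarTower k (B₀ ⧸ Module.annihilator B₀ (TQ G.toExtension)) (TQ G.toExtension) :=
    (Module.isTorsionBySet_annihilator B₀ (TQ G.toExtension)).isScalarTower
  haveI : Module.Finite (B₀ ⧸ Module.annihilator B₀ (TQ G.toExtension)) (TQ G.toExtension) :=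
    Module.Finite.of_restrictScalars_finite B₀ _ _
  exact Module.Finite.trans (B₀ ⧸ Module.annihilator B₀ (TQ G.toExtension)) (TQ G.toExtension)

theorem fin_gen [Algebra.FinitePresentation k B₀] (hfg : G.toExtension.ker.FG)
    (hsm : ((Algebra.smoothLocus k B₀)ᶜ).Finite) :
    ∃ (r : ℕ) (φs : Fin r → (G.toExtension.ker →ₗ[G.toExtension.Ring] B₀)),
      ∀ φ : G.toExtension.ker →ₗ[G.toExtension.Ring] B₀,
        ∃ (a : Fin r → k) (d : G.toExtension.Ring → B₀)
          (_ : ∀ p q, d (p + q) = d p + d q) (_ : ∀ p q, d (p * q) = p • d q + q • d p),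
          (∀ c : k, d (algebraMap k G.toExtension.Ring c) = 0) ∧
          ∀ g : G.toExtension.ker,
            φ g = ∑ i, algebraMap k B₀ (a i) * φs i g + d (g : G.toExtension.Ring) := by
  haveI := finite_TQ G hfg hsm
  obtain ⟨r, s, hs⟩ := Module.Finite.exists_fin (R := k) (M := TQ G.toExtension)
  choose Φs hΦs using fun i => Submodule.Quotient.mk_surjective (DD G.toExtension) (s i)
  refine ⟨r, fun i => (Φs i).restrictScalars G.toExtension.Ring ∘ₗ Cotangent.mk, fun φ => ?_⟩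
  have hmem : (Submodule.Quotient.mk (liftC G.toExtension φ) : TQ G.toExtension) ∈
      Submodule.span k (Set.range s) := by rw [hs]; trivial
  obtain ⟨a, ha⟩ := (Submodule.mem_span_range_iff_exists_fun k).mp hmem
  let π : NN G.toExtension →ₗ[k] TQ G.toExtension := (DD G.toExtension).mkQ.restrictScalars k
  have hπ : ∀ Φ, π Φ = Submodule.Quotient.mk Φ := fun Φ => rfl
  have h2 : π (liftC G.toExtension φ - ∑ i, a i • Φs i) = 0 := by
    rw [map_sub, map_sum]
    simp_rw [map_smul, hπ, hΦs]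
    rw [ha, sub_self]
  have h3 : liftC G.toExtension φ - ∑ i, a i • Φs i ∈ DD G.toExtension :=
    (Submodule.Quotient.mk_eq_zero _).mp h2
  obtain ⟨χ, hχ⟩ := h3
  have hχ' : ∀ y, χ (G.toExtension.cotangentComplex y) =
      liftC G.toExtension φ y - ∑ i, a i • Φs i y := by
    intro y
    have := LinearMap.congr_fun hχ y
    simpa [LinearMap.sub_apply, LinearMap.sum_apply, LinearMap.smul_apply] using this
  refine ⟨a, fun p => χ ((1 : B₀) ⊗ₜ[G.toExtension.Ring] D k G.toExtension.Ring p), ?_, ?_, ?_, ?_⟩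
  · intro p q
    beta_reduce
    rw [map_add, TensorProduct.tmul_add, map_add]
  · intro p q
    beta_reduce
    rw [Derivation.leibniz, TensorProduct.tmul_add, map_add, TensorProduct.tmul_smul,
      TensorProduct.tmul_smul, ← algebraMap_smul B₀ p, ← algebraMap_smul B₀ q, map_smul, map_smul,
      algebraMap_smul, algebraMap_smul]
  · intro c
    beta_reduce
    rw [Derivation.map_algebraMap, TensorProduct.tmul_zero, map_zero]
  · intro g
    have e1 := hχ' (Cotangent.mk g)
    rw [cotangentComplex_mk, liftC_mk] at e1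
    show φ g = ∑ i, algebraMap k B₀ (a i) * (Φs i) (Cotangent.mk g) +
      χ ((1 : B₀) ⊗ₜ[G.toExtension.Ring] D k G.toExtension.Ring (g : G.toExtension.Ring))
    rw [e1]
    simp only [Algebra.smul_def]
    ring

end Fin

end Groth.Agent.Helper3.FO
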