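import Mathlib
import Groth.Prelude.Def_ArtFun4
import Groth.Agent.Lib.Helper4.StalkEtale1
import Groth.Agent.Lib.Helper3.FO3
import Groth.Agent.Lib.Helper3.FO4
import Groth.Agent.Lib.Helper3.FO5

/-! Finite-dimensionality of the tangent space of the deformation functor of an affine scheme of
finite type over a field with finitely many non-smooth points (helper3). -/

set_option autoImplicit false
set_option linter.style.haveILetI false
universe u
open CategoryTheory CategoryTheory.Limits AlgebraicGeometry TensorProduct TrivSqZeroExt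

namespace Groth.Agent.Helper3.FO

open ArtFun ArtFun.Art

variable {Λ : Type u} {k : Type u} [CommRing Λ] [Field k] [Algebra Λ k]

section Assembly

variable {X : Scheme.{u}} [IsAffine X] (x : X ⟶ specPt k) (Q : Algebra.Extension.{u} k (ΓX x))

theorem ker_res_dual : RingHom.ker (dual Λ k).res.toRingHom =
    (RingHom.ker (fstRH' k k) : Ideal (TrivSqZeroExt k k)) :=
  Ideal.ext fun _ => Iff.rfl

theorem ker_res_dual2 : RingHom.ker (dual2 Λ k).res.toRingHom =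
    (RingHom.ker (fstRH' k (k × k)) : Ideal (TrivSqZeroExt k (k × k))) :=
  Ideal.ext fun _ => Iff.rfl

/-- ring data of the first-order deformation attached to `φ` -/
noncomputable def rdata1 (φ : Q.ker →ₗ[Q.Ring] ΓX x) : RData (Λ := Λ) x (dual Λ k) where
  E := E Q φ
  α := αE Q φ (ν₁ k (ΓX x)) (hν₁ Q)
  hfl := (vdata_E Q φ (ν₁ k (ΓX x)) (hν₁ Q) chi_one).flat
  ι := ιE Q φ
  hs := ιE_surjective Q φ
  hker := by
    rw [ker_res_dual]
    exact (vdata_E Q φ (ν₁ k (ΓX x)) (hν₁ Q) chi_one).ker_eq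
  hcomp := fun a => (vdata_E Q φ (ν₁ k (ΓX x)) (hν₁ Q) chi_one).ι_α_all a

/-- ring data of the deformation over `k[ε₁, ε₂]` attached to a pair -/
noncomputable def rdata2 (Φ : Q.ker →ₗ[Q.Ring] ΓX x × ΓX x) :
    RData (Λ := Λ) x (dual2 Λ k) where
  E := E Q Φ
  α := αE Q Φ (ν₂ k (ΓX x)) (hν₂ Q)
  hfl := (vdata_E Q Φ (ν₂ k (ΓX x)) (hν₂ Q) chi_two).flat
  ι := ιE Q Φ
  hs := ιE_surjective Q Φ
  hker := by
    rw [ker_res_dual2]
    exact (vdata_E Q Φ (ν₂ k (ΓX x)) (hν₂ Q) chi_two).ker_eq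
  hcomp := fun a => (vdata_E Q Φ (ν₂ k (ΓX x)) (hν₂ Q) chi_two).ι_α_all a

variable (Λ) in
/-- the class of the first-order deformation attached to `φ` -/
noncomputable def Xi (φ : Q.ker →ₗ[Q.Ring] ΓX x) : TangentSpace (defFunctor (Λ := Λ) X x) :=
  (ofRing x (rdata1 (Λ := Λ) x Q φ)).cl

theorem map_Xi (g : dual Λ k ⟶ dual Λ k) (L : ΓX x →ₗ[Q.Ring] ΓX x)
    (φ : Q.ker →ₗ[Q.Ring] ΓX x)
    (hfst : ∀ a : TrivSqZeroExt k k, (g a : TrivSqZeroExt k k).fst = a.fst)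
    (hsnd : ∀ a : TrivSqZeroExt k k,
      ν₁ k (ΓX x) (g a : TrivSqZeroExt k k).snd = L (ν₁ k (ΓX x) a.snd)) :
    (defFunctor (Λ := Λ) X x).map g (Xi Λ x Q φ) = Xi Λ x Q (L ∘ₗ φ) :=
  cl_eq_of_ringHom x g (rdata1 x Q φ) (rdata1 x Q (L ∘ₗ φ)) (mapL Q φ L)
    (fun a => mapL_αE Q φ L (ν₁ k (ΓX x)) (hν₁ Q) (ν₁ k (ΓX x)) (hν₁ Q) (fun a => g a)
      hfst hsnd a)
    (fun e => ιE_mapL Q φ L e)

theorem map_Xi2 (g : dual2 Λ k ⟶ dual Λ k) (L : ΓX x × ΓX x →ₗ[Q.Ring] ΓX x)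
    (Φ : Q.ker →ₗ[Q.Ring] ΓX x × ΓX x)
    (hfst : ∀ a : TrivSqZeroExt k (k × k), (g a : TrivSqZeroExt k k).fst = a.fst)
    (hsnd : ∀ a : TrivSqZeroExt k (k × k),
      ν₁ k (ΓX x) (g a : TrivSqZeroExt k k).snd = L (ν₂ k (ΓX x) a.snd)) :
    (defFunctor (Λ := Λ) X x).map g (ofRing x (rdata2 (Λ := Λ) x Q Φ)).cl =
      Xi Λ x Q (L ∘ₗ Φ) :=
  cl_eq_of_ringHom x g (rdata2 x Q Φ) (rdata1 x Q (L ∘ₗ Φ)) (mapL Q Φ L)
    (fun a => mapL_αE Q Φ L (ν₂ k (ΓX x)) (hν₂ Q) (ν₁ k (ΓX x)) (hν₁ Q) (fun a => g a)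
      hfst hsnd a)
    (fun e => ιE_mapL Q Φ L e)

theorem Xi_shift (φ : Q.ker →ₗ[Q.Ring] ΓX x) (d : Q.Ring → ΓX x)
    (hadd : ∀ p q, d (p + q) = d p + d q) (hmul : ∀ p q, d (p * q) = p • d q + q • d p)
    (hC : ∀ c : k, d (algebraMap k Q.Ring c) = 0) :
    Xi Λ x Q (φ + dK Q d hadd hmul) = Xi Λ x Q φ :=
  (cl_eq_of_ringHom_id x (rdata1 x Q φ) (rdata1 x Q (φ + dK Q d hadd hmul))
    (shiftE Q φ d hadd hmul)
    (fun a => shiftE_αE Q φ d hadd hmul hC (ν₁ k (ΓX x)) (hν₁ Q) a)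
    (fun e => ιE_shiftE Q φ d hadd hmul e)).symm

theorem Xi_surjective [Algebra.FormallySmooth k Q.Ring]
    (z : TangentSpace (defFunctor (Λ := Λ) X x)) : ∃ φ, Xi Λ x Q φ = z := by
  obtain ⟨ζ, rfl⟩ := Quotient.exists_rep (z : (defFunctor (Λ := Λ) X x).obj (dual Λ k))
  obtain ⟨D, hD⟩ := exists_ofRing x ζ
  have hker' := D.hker
  rw [ker_res_dual] at hker'
  obtain ⟨φ, R, hRα, hRι⟩ := exists_model_hom Q D.α D.hfl D.ι D.hs hker' (fun a => D.hcomp a)
  refine ⟨φ, ?_⟩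
  have h := cl_eq_of_ringHom_id x (rdata1 x Q φ) D R hRα hRι
  exact h.trans hD.symm

variable [T : TangentStr (defFunctor (Λ := Λ) X x)]

theorem Xi_add (φ ψ : Q.ker →ₗ[Q.Ring] ΓX x) :
    Xi Λ x Q (φ + ψ) = Xi Λ x Q φ + Xi Λ x Q ψ := by
  have h1 := map_Xi2 (Λ := Λ) x Q pr₁ (LinearMap.fst Q.Ring (ΓX x) (ΓX x)) (φ.prod ψ)
    (fun a => rfl) (fun a => rfl)
  have h2 := map_Xi2 (Λ := Λ) x Q pr₂ (LinearMap.snd Q.Ring (ΓX x) (ΓX x)) (φ.prod ψ)
    (fun a => rfl) (fun a => rfl)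
  have h3 := map_Xi2 (Λ := Λ) x Q plus
    (LinearMap.fst Q.Ring (ΓX x) (ΓX x) + LinearMap.snd Q.Ring (ΓX x) (ΓX x)) (φ.prod ψ)
    (fun a => rfl) (fun a => by
      show algebraMap k (ΓX x) (a.snd.1 + a.snd.2) =
        algebraMap k (ΓX x) a.snd.1 + algebraMap k (ΓX x) a.snd.2
      exact map_add _ _ _)
  rw [LinearMap.fst_prod] at h1
  rw [LinearMap.snd_prod] at h2
  rw [LinearMap.add_comp, LinearMap.fst_prod, LinearMap.snd_prod] at h3
  have h4 := T.add_eq (ofRing x (rdata2 (Λ := Λ) x Q (φ.prod ψ))).cl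
  rw [h1, h2, h3] at h4
  exact h4.symm

theorem Xi_smul (c : k) (φ : Q.ker →ₗ[Q.Ring] ΓX x) :
    Xi Λ x Q (algebraMap k Q.Ring c • φ) = c • Xi Λ x Q φ := by
  have h1 := map_Xi (Λ := Λ) x Q (scale c)
    (algebraMap k Q.Ring c • (LinearMap.id : ΓX x →ₗ[Q.Ring] ΓX x)) φ
    (fun a => rfl) (fun a => hν₁ Q c a.snd)
  have h2 : (algebraMap k Q.Ring c • (LinearMap.id : ΓX x →ₗ[Q.Ring] ΓX x)) ∘ₗ φ =
      algebraMap k Q.Ring c • φ := by
    rw [LinearMap.smul_comp, LinearMap.id_comp]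
  rw [h2] at h1
  rw [← h1]
  exact (T.smul_eq c _).symm

theorem hfin_of_fin_gen [Algebra.FormallySmooth k Q.Ring]
    (H : ∃ (r : ℕ) (φs : Fin r → (Q.ker →ₗ[Q.Ring] ΓX x)), ∀ φ : Q.ker →ₗ[Q.Ring] ΓX x,
        ∃ (a : Fin r → k) (d : Q.Ring → ΓX x) (hadd : ∀ p q, d (p + q) = d p + d q)
          (hmul : ∀ p q, d (p * q) = p • d q + q • d p),
          (∀ c : k, d (algebraMap k Q.Ring c) = 0) ∧
          ∀ g : Q.ker, φ g = ∑ i, algebraMap k (ΓX x) (a i) * φs i g + d (g : Q.Ring)) :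
    Hfin (defFunctor (Λ := Λ) X x) := by
  classical
  obtain ⟨r, φs, H⟩ := H
  have hzero : Xi Λ x Q 0 = 0 := by
    have h := Xi_add (Λ := Λ) x Q 0 0
    rw [add_zero] at h
    exact left_eq_add.mp h
  have hsum : ∀ (s : Finset (Fin r)) (a : Fin r → k),
      Xi Λ x Q (∑ i ∈ s, algebraMap k Q.Ring (a i) • φs i) =
        ∑ i ∈ s, a i • Xi Λ x Q (φs i) := by
    intro s a
    induction s using Finset.induction_on with
    | empty => rw [Finset.sum_empty, Finset.sum_empty]; exact hzero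
    | insert i s hi ih => rw [Finset.sum_insert hi, Finset.sum_insert hi, Xi_add, Xi_smul, ih]
  show Module.Finite k (TangentSpace (defFunctor (Λ := Λ) X x))
  refine ⟨⟨Finset.univ.image (fun i => Xi Λ x Q (φs i)), top_unique ?_⟩⟩
  rintro z -
  obtain ⟨φ, rfl⟩ := Xi_surjective (Λ := Λ) x Q z
  obtain ⟨a, d, hadd, hmul, hC, hφ⟩ := H φ
  have e : φ = (∑ i, algebraMap k Q.Ring (a i) • φs i) + dK Q d hadd hmul := by
    refine LinearMap.ext fun g => ?_
    rw [hφ g, LinearMap.add_apply, LinearMap.sum_apply, dK_apply]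
    congr 1
    refine Finset.sum_congr rfl fun i _ => ?_
    rw [LinearMap.smul_apply, Algebra.smul_def, ← IsScalarTower.algebraMap_apply]
  rw [e, Xi_shift (Λ := Λ) x Q _ d hadd hmul hC, hsum]
  refine Submodule.sum_mem _ fun i _ => Submodule.smul_mem _ _ (Submodule.subset_span ?_)
  rw [Finset.coe_image]
  exact ⟨i, Finset.mem_coe.mpr (Finset.mem_univ i), rfl⟩

end Assembly

section Bridge

theorem smoothLocus_of_base_equiv {R R' A : Type u} [CommRing R] [CommRing R'] [CommRing A]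
    [Algebra R R'] [Algebra R' A] [Algebra R A] [IsScalarTower R R' A]
    (hb : Function.Bijective (algebraMap R R')) :
    Algebra.smoothLocus R' A ⊆ Algebra.smoothLocus R A := by
  intro p hp
  have hp' : Algebra.FormallySmooth R' (Localization.AtPrime p.asIdeal) := hp
  show Algebra.FormallySmooth R (Localization.AtPrime p.asIdeal)
  haveI : Algebra.FormallySmooth R R' :=
    Algebra.FormallySmooth.of_equiv (AlgEquiv.ofBijective (Algebra.ofId R R') hb)
  haveI : IsScalarTower R R' (Localization.AtPrime p.asIdeal) :=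
    IsScalarTower.of_algebraMap_eq fun r => by
      rw [IsScalarTower.algebraMap_apply R A (Localization.AtPrime p.asIdeal),
        IsScalarTower.algebraMap_apply R R' A,
        ← IsScalarTower.algebraMap_apply R' A (Localization.AtPrime p.asIdeal)]
  exact Algebra.FormallySmooth.comp R R' (Localization.AtPrime p.asIdeal)

variable {X : Scheme.{u}} [IsAffine X] (x : X ⟶ specPt k)

theorem finitePresentation_ΓX [LocallyOfFiniteType x] : Algebra.FinitePresentation k (ΓX x) := by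
  have h1 : x.appTop.hom.FiniteType :=
    (HasRingHomProperty.iff_of_isAffine (P := @LocallyOfFiniteType)).mp inferInstance
  have h2 : (kap x).hom.FiniteType := by
    show (x.appTop.hom.comp (Scheme.ΓSpecIso (CommRingCat.of k)).inv.hom).FiniteType
    exact RingHom.FiniteType.comp h1 (RingHom.FiniteType.of_surjective _
      (ConcreteCategory.bijective_of_isIso (Scheme.ΓSpecIso (CommRingCat.of k)).inv).2)
  have h3 : Algebra.FiniteType k (ΓX x) := h2
  exact Algebra.FinitePresentation.of_finiteType.mp h3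

theorem mem_smoothLocus_of_stalk (p : X) (hp : (x.stalkMap p).hom.FormallySmooth) :
    ((isAffineOpen_top X).primeIdealOf ⟨p, trivial⟩ : PrimeSpectrum (ΓX x)) ∈
      Algebra.smoothLocus k (ΓX x) := by
  have hVU : (⊤ : X.Opens) ≤ x ⁻¹ᵁ (⊤ : (specPt k).Opens) := fun _ _ => trivial
  have happ : x.appLE ⊤ ⊤ hVU = x.appTop :=
    (congrArg (fun m => x.app ⊤ ≫ m)
      (X.presheaf.map_id (Opposite.op (⊤ : X.Opens)))).trans (Category.comp_id _)
  have h1 := (formallySmooth_stalkMap_iff (f := x) (x := p) ⊤ (isAffineOpen_top _) ⊤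
    (isAffineOpen_top X) hVU trivial).mp hp
  letI a1 : Algebra Γ(specPt k, ⊤) (ΓX x) := (x.appLE ⊤ ⊤ hVU).hom.toAlgebra
  letI a2 : Algebra k Γ(specPt k, ⊤) := (Scheme.ΓSpecIso (CommRingCat.of k)).inv.hom.toAlgebra
  haveI : IsScalarTower k Γ(specPt k, ⊤) (ΓX x) := IsScalarTower.of_algebraMap_eq fun c => by
    show (kap x).hom c =
      (x.appLE ⊤ ⊤ hVU).hom ((Scheme.ΓSpecIso (CommRingCat.of k)).inv.hom c)
    rw [happ]
    rfl
  exact smoothLocus_of_base_equiv (R := k) (R' := Γ(specPt k, ⊤)) (A := ΓX x)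
    (ConcreteCategory.bijective_of_isIso (Scheme.ΓSpecIso (CommRingCat.of k)).inv) h1

theorem finite_compl_smoothLocus [LocallyOfFiniteType x] (U : X.Opens)
    (hU : Smooth (U.ι ≫ x)) (hfin : ((U : Set X)ᶜ).Finite) :
    ((Algebra.smoothLocus k (ΓX x))ᶜ).Finite := by
  have hT := isAffineOpen_top X
  obtain ⟨ψ, hψ⟩ : ∃ ψ : X → PrimeSpectrum (ΓX x),
      ψ = fun p => hT.primeIdealOf ⟨p, trivial⟩ := ⟨_, rfl⟩
  have hsurj : Function.Surjective ψ := by
    intro 𝔭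
    refine ⟨(hT.isoSpec.inv 𝔭).1, ?_⟩
    rw [hψ]
    show hT.isoSpec.hom ⟨(hT.isoSpec.inv 𝔭).1, trivial⟩ = 𝔭
    exact Scheme.inv_hom_apply hT.isoSpec 𝔭
  refine (hfin.image ψ).subset ?_
  intro 𝔭 h𝔭
  obtain ⟨p, rfl⟩ := hsurj 𝔭
  refine ⟨p, ?_, rfl⟩
  intro hpU
  apply h𝔭
  rw [hψ]
  exact mem_smoothLocus_of_stalk x p
    ((Groth.Agent.Lib.Helper4.StalkEtale1.exists_smooth_nhd_iff x p).mp ⟨U, hpU, hU⟩)

theorem hfin [LocallyOfFiniteType x] [T : TangentStr (defFunctor (Λ := Λ) X x)] (U : X.Opens)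
    (hU : Smooth (U.ι ≫ x)) (hfin : ((U : Set X)ᶜ).Finite) :
    Hfin (defFunctor (Λ := Λ) X x) := by
  haveI := finitePresentation_ΓX x
  have hsm := finite_compl_smoothLocus x U hU hfin
  obtain ⟨P', -⟩ : ∃ P' : Algebra.Presentation k (ΓX x)
      (Fin (Algebra.Presentation.ofFinitePresentationVars k (ΓX x)))
      (Fin (Algebra.Presentation.ofFinitePresentationRels k (ΓX x))), True :=
    ⟨Algebra.Presentation.ofFinitePresentation k (ΓX x), trivial⟩
  have hfg : P'.toGenerators.toExtension.ker.FG := by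
    have h1 : P'.toGenerators.toExtension.ker = Ideal.span (Set.range P'.relation) :=
      P'.span_range_relation_eq_ker.symm
    rw [h1]
    exact Submodule.fg_span (Set.finite_range _)
  haveI : Algebra.FormallySmooth k P'.toGenerators.toExtension.Ring :=
    inferInstanceAs (Algebra.FormallySmooth k
      (MvPolynomial (Fin (Algebra.Presentation.ofFinitePresentationVars k (ΓX x))) k))
  exact hfin_of_fin_gen x P'.toGenerators.toExtension (fin_gen P'.toGenerators hfg hsm)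

end Bridge

end Groth.Agent.Helper3.FO
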