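import Groth.Agent.Lib.Helper3.ResP
import Groth.Agent.Lib.Helper3.PCohE

/-! Factorization of a map into a `P`-complex as a termwise injective quasi-isomorphism followed by
a termwise split surjection with kernels in `P`. -/

set_option linter.unusedSectionVars false

namespace Groth.Agent.Helper3.FactP

open CategoryTheory CategoryTheory.Limits HomologicalComplex CochainComplex HomComplex

universe v u

variable {A : Type u} [Category.{v} A] [Abelian A]

noncomputable section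

lemma map_f_snd_v {K₁ L₁ K₂ L₂ : CochainComplex A ℤ} (φ₁ : K₁ ⟶ L₁) (φ₂ : K₂ ⟶ L₂)
    (a : K₁ ⟶ K₂) (b : L₁ ⟶ L₂) (comm : φ₁ ≫ b = a ≫ φ₂) (j : ℤ) :
    (mappingCone.map φ₁ φ₂ a b comm).f j ≫ (mappingCone.snd φ₂).v j j (add_zero j) =
      (mappingCone.snd φ₁).v j j (add_zero j) ≫ b.f j := by
  simp [mappingCone.ext_from_iff _ (j + 1) j rfl, mappingCone.map]

lemma rot_f_snd_v {M N : CochainComplex A ℤ} (α : M ⟶ N) (j : ℤ) :
    (mappingCone.rotateHomotopyEquiv α).hom.f j ≫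
      (mappingCone.snd (mappingCone.inr α)).v j j (add_zero j) =
    -((M.shiftFunctorObjXIso 1 j (j + 1) rfl).hom ≫ (mappingCone.inl α).v (j + 1) j (by lia)) := by
  have : (mappingCone.rotateHomotopyEquiv α).hom =
    mappingCone.lift (mappingCone.inr α) (-(Cocycle.ofHom α).leftShift 1 1 (zero_add 1))
      (-(mappingCone.inl α).leftShift 1 0 (neg_add_cancel 1)) _ := rfl
  rw [this, mappingCone.lift_f_snd_v, Cochain.neg_v,
    Cochain.leftShift_v _ 1 0 (neg_add_cancel 1) j j (add_zero j) (j + 1) (by lia)]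
  simp
  rfl

section Cone

variable {M N T : CochainComplex A ℤ} (α : M ⟶ N) (ρ : mappingCone α ⟶ T)

/-- The map `N ⟶ T`. -/
abbrev eps : N ⟶ T := mappingCone.inr α ≫ ρ

/-- The map `M⟦1⟧ ⟶ cone(ε)`. -/
abbrev f' : M⟦(1 : ℤ)⟧ ⟶ mappingCone (eps α ρ) :=
  (mappingCone.rotateHomotopyEquiv α).hom ≫
    mappingCone.map (mappingCone.inr α) (eps α ρ) (𝟙 N) ρ (by rw [Category.id_comp])

lemma quasiIso_f' [QuasiIso ρ] : QuasiIso (f' α ρ) := by
  have q1 : QuasiIso (mappingCone.rotateHomotopyEquiv α).hom := inferInstance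
  have q2 : QuasiIso (mappingCone.map (mappingCone.inr α) (eps α ρ) (𝟙 N) ρ
      (by rw [Category.id_comp])) := PCohA.quasiIso_cone_map _ _ _ _ _
  infer_instance

/-- The third map of the standard triangle, with plain types. -/
abbrev mor₃' {K L : CochainComplex A ℤ} (φ : K ⟶ L) : mappingCone φ ⟶ K⟦(1 : ℤ)⟧ :=
  (mappingCone.triangle φ).mor₃

lemma map_comp_mor₃ {K₁ L₁ K₂ L₂ : CochainComplex A ℤ} (φ₁ : K₁ ⟶ L₁) (φ₂ : K₂ ⟶ L₂)
    (a : K₁ ⟶ K₂) (b : L₁ ⟶ L₂) (comm : φ₁ ≫ b = a ≫ φ₂) :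
    mappingCone.map φ₁ φ₂ a b comm ≫ mor₃' φ₂ = mor₃' φ₁ ≫ a⟦(1 : ℤ)⟧' :=
  ((mappingCone.triangleMap φ₁ φ₂ a b comm).comm₃).symm

lemma inl_v_mor₃'_f {K L : CochainComplex A ℤ} (φ : K ⟶ L) (p q : ℤ) (hpq : p + (-1) = q) :
    (mappingCone.inl φ).v p q hpq ≫ (mor₃' φ).f q =
      -(K.shiftFunctorObjXIso 1 q p (by rw [← hpq, neg_add_cancel_right])).inv :=
  mappingCone.inl_v_triangle_mor₃_f φ p q hpq

lemma inr_f_mor₃'_f {K L : CochainComplex A ℤ} (φ : K ⟶ L) (p : ℤ) :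
    (mappingCone.inr φ).f p ≫ (mor₃' φ).f p = 0 :=
  mappingCone.inr_f_triangle_mor₃_f φ p

lemma f'_comp_mor₃ : f' α ρ ≫ mor₃' (eps α ρ) = -α⟦(1 : ℤ)⟧' := by
  dsimp only [f']
  rw [Category.assoc, map_comp_mor₃, CategoryTheory.Functor.map_id, Category.comp_id]
  exact mappingCone.rotateHomotopyEquiv_comm₃ α

/-- The unit isomorphism `K ≅ K⟦1⟧⟦-1⟧`. -/
abbrev eU (K : CochainComplex A ℤ) : K ≅ (K⟦(1 : ℤ)⟧)⟦(-1 : ℤ)⟧ :=
  (shiftEquiv (CochainComplex A ℤ) (1 : ℤ)).unitIso.app K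

@[reassoc]
lemma eU_naturality {K L : CochainComplex A ℤ} (φ : K ⟶ L) :
    φ ≫ (eU L).hom = (eU K).hom ≫ (φ⟦(1 : ℤ)⟧')⟦(-1 : ℤ)⟧' :=
  (shiftEquiv (CochainComplex A ℤ) (1 : ℤ)).unitIso.hom.naturality φ

/-- The middle complex of the factorization. -/
abbrev N' : CochainComplex A ℤ := (mappingCone (eps α ρ))⟦(-1 : ℤ)⟧

/-- The first map of the factorization. -/
def beta : M ⟶ N' α ρ := (eU M).hom ≫ (f' α ρ)⟦(-1 : ℤ)⟧'

/-- The second map of the factorization. -/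
def q : N' α ρ ⟶ N := -((mor₃' (eps α ρ))⟦(-1 : ℤ)⟧' ≫ (eU N).inv)

lemma beta_q : beta α ρ ≫ q α ρ = α := by
  dsimp only [beta, q]
  rw [Preadditive.comp_neg, Category.assoc, ← CategoryTheory.Functor.map_comp_assoc,
    f'_comp_mor₃, CategoryTheory.Functor.map_neg, Preadditive.neg_comp, Preadditive.comp_neg,
    neg_neg, ← eU_naturality_assoc, Iso.hom_inv_id, Category.comp_id]

lemma quasiIso_beta [QuasiIso ρ] : QuasiIso (beta α ρ) := by
  have := quasiIso_f' α ρ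
  have : QuasiIso ((f' α ρ)⟦(-1 : ℤ)⟧') := (CochainComplex.quasiIso_shift_iff (f' α ρ) (-1)).2 this
  dsimp only [beta]
  infer_instance

lemma f'_f_snd_v (j : ℤ) :
    (f' α ρ).f j ≫ (mappingCone.snd (eps α ρ)).v j j (add_zero j) =
      -((M.shiftFunctorObjXIso 1 j (j + 1) rfl).hom ≫
        (mappingCone.inl α).v (j + 1) j (by lia) ≫ ρ.f j) := by
  dsimp only [f']
  rw [comp_f, Category.assoc, map_f_snd_v, ← Category.assoc, rot_f_snd_v, Preadditive.neg_comp,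
    Category.assoc]

lemma mono_f'_f (hρ : ∀ t, Mono (ρ.f t)) (j : ℤ) : Mono ((f' α ρ).f j) := by
  have : Mono ((f' α ρ).f j ≫ (mappingCone.snd (eps α ρ)).v j j (add_zero j)) := by
    rw [f'_f_snd_v]
    have h1 : Mono ((mappingCone.inl α).v (j + 1) j (by lia)) :=
      mono_of_mono_fac (mappingCone.inl_v_fst_v α (j + 1) j (by lia))
    have := hρ j
    have : Mono ((mappingCone.inl α).v (j + 1) j (by lia) ≫ ρ.f j) := mono_comp _ _
    have : Mono ((M.shiftFunctorObjXIso 1 j (j + 1) rfl).hom ≫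
        (mappingCone.inl α).v (j + 1) j (by lia) ≫ ρ.f j) := mono_comp _ _
    infer_instance
  exact mono_of_mono _ ((mappingCone.snd (eps α ρ)).v j j (add_zero j))

lemma mono_beta_f (hρ : ∀ t, Mono (ρ.f t)) (t : ℤ) : Mono ((beta α ρ).f t) := by
  dsimp only [beta]
  rw [comp_f]
  have : IsIso ((eU M).hom.f t) :=
    (inferInstance : IsIso ((HomologicalComplex.eval A (ComplexShape.up ℤ) t).map (eU M).hom))
  have : Mono (((f' α ρ)⟦(-1 : ℤ)⟧').f t) := mono_f'_f α ρ hρ (t + (-1))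
  exact mono_comp _ _

/-- The components of `q`, with plain types. -/
def qf (t : ℤ) : (mappingCone (eps α ρ)).X (t + (-1)) ⟶ N.X t :=
  -((mor₃' (eps α ρ)).f (t + (-1)) ≫ (eU N).inv.f t)

lemma q_f (t : ℤ) : (q α ρ).f t = qf α ρ t := rfl

lemma inl_q (t : ℤ) :
    (mappingCone.inl (eps α ρ)).v (t + (-1) + 1) (t + (-1)) (by lia) ≫ qf α ρ t =
      (N.shiftFunctorObjXIso 1 (t + (-1)) (t + (-1) + 1) rfl).inv ≫ (eU N).inv.f t := by
  dsimp only [qf]
  rw [Preadditive.comp_neg, ← Category.assoc, inl_v_mor₃'_f, Preadditive.neg_comp, neg_neg]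

lemma inr_q (t : ℤ) :
    (mappingCone.inr (eps α ρ)).f (t + (-1)) ≫ qf α ρ t = 0 := by
  dsimp only [qf]
  rw [Preadditive.comp_neg, ← Category.assoc, inr_f_mor₃'_f, zero_comp, neg_zero]

lemma isIso_inl_q (t : ℤ) :
    IsIso ((mappingCone.inl (eps α ρ)).v (t + (-1) + 1) (t + (-1)) (by lia) ≫ qf α ρ t) := by
  rw [inl_q]
  have h1 : IsIso ((eU N).inv.f t) :=
    (inferInstance : IsIso ((HomologicalComplex.eval A (ComplexShape.up ℤ) t).map (eU N).inv))
  have h2 : IsIso (N.shiftFunctorObjXIso 1 (t + (-1)) (t + (-1) + 1) rfl).inv := inferInstance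
  exact @IsIso.comp_isIso _ _ _ _ _ _ _ h2 h1

lemma exists_section (t : ℤ) :
    ∃ s : N.X t ⟶ (mappingCone (eps α ρ)).X (t + (-1)), s ≫ qf α ρ t = 𝟙 _ := by
  have := isIso_inl_q α ρ t
  refine ⟨inv ((mappingCone.inl (eps α ρ)).v (t + (-1) + 1) (t + (-1))
    (add_neg_cancel_right _ _) ≫ qf α ρ t) ≫
    (mappingCone.inl (eps α ρ)).v (t + (-1) + 1) (t + (-1)) (add_neg_cancel_right _ _), ?_⟩
  rw [Category.assoc, IsIso.inv_hom_id]

lemma kernel_ι_fst (t : ℤ) :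
    kernel.ι (qf α ρ t) ≫ (mappingCone.fst (eps α ρ)).1.v (t + (-1)) (t + (-1) + 1) rfl = 0 := by
  have := isIso_inl_q α ρ t
  have h1 : kernel.ι (qf α ρ t) ≫ qf α ρ t = 0 := kernel.condition _
  have h2 : kernel.ι (qf α ρ t) =
      kernel.ι (qf α ρ t) ≫ 𝟙 ((mappingCone (eps α ρ)).X (t + (-1))) := (Category.comp_id _).symm
  rw [← mappingCone.id_X (eps α ρ) (t + (-1)) (t + (-1) + 1) rfl] at h2
  rw [h2, Preadditive.comp_add, Preadditive.add_comp, Category.assoc, Category.assoc,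
    Category.assoc, Category.assoc, inr_q, comp_zero, comp_zero, add_zero, ← Category.assoc] at h1
  exact (cancel_mono _).1 (h1.trans zero_comp.symm)

/-- The kernel of `q.f t` is `T.X (t - 1)`. -/
def kernelIso (t : ℤ) : kernel (qf α ρ t) ≅ T.X (t + (-1)) where
  hom := kernel.ι (qf α ρ t) ≫ (mappingCone.snd (eps α ρ)).v (t + (-1)) (t + (-1)) (add_zero _)
  inv := kernel.lift _ ((mappingCone.inr (eps α ρ)).f (t + (-1))) (inr_q α ρ t)
  hom_inv_id := by
    rw [← cancel_mono (kernel.ι (qf α ρ t)), Category.assoc, Category.assoc, kernel.lift_ι,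
      Category.id_comp]
    have h2 : kernel.ι (qf α ρ t) =
        kernel.ι (qf α ρ t) ≫ 𝟙 ((mappingCone (eps α ρ)).X (t + (-1))) :=
      (Category.comp_id _).symm
    rw [← mappingCone.id_X (eps α ρ) (t + (-1)) (t + (-1) + 1) rfl, Preadditive.comp_add,
      ← Category.assoc, kernel_ι_fst, zero_comp, zero_add] at h2
    exact h2.symm
  inv_hom_id := by
    rw [← Category.assoc, kernel.lift_ι, mappingCone.inr_f_snd_v]

end Cone

section Class

variable (P : ObjectProperty A) [P.IsClosedUnderIsomorphisms]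
  (hemb : ∀ X : A, ∃ (Y : A) (ι : X ⟶ Y), P Y ∧ Mono ι)
  (hzero : ∀ X : A, IsZero X → P X)
  (hbiprod : ∀ X Y : A, P X → P Y → P (X ⊞ Y))

include hemb hzero hbiprod in
theorem exists_factorization (M N : CochainComplex A ℤ) (α : M ⟶ N) (a : ℤ)
    [M.IsStrictlyGE a] [N.IsStrictlyGE a] (hN : ∀ t, P (N.X t)) :
    ∃ (N' : CochainComplex A ℤ) (β : M ⟶ N') (q : N' ⟶ N), β ≫ q = α ∧ QuasiIso β ∧
      (∀ t, Mono (β.f t)) ∧ N'.IsStrictlyGE a ∧ (∀ t, P (N'.X t)) ∧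
      ∀ t, (∃ s : N.X t ⟶ N'.X t, s ≫ q.f t = 𝟙 _) ∧ P (kernel (q.f t)) := by
  have : (mappingCone α).IsStrictlyGE (a - 1) := by
    rw [CochainComplex.isStrictlyGE_iff]
    intro i hi
    rw [mappingCone.isZero_X_iff]
    exact ⟨M.isZero_of_isStrictlyGE a _ (by lia), N.isZero_of_isStrictlyGE a _ (by lia)⟩
  obtain ⟨T, ρ, hρq, hρm, hTge, hTP⟩ :=
    ResP.exists_resolution P hemb hzero (mappingCone α) (a - 1)
  refine ⟨N' α ρ, beta α ρ, q α ρ, beta_q α ρ, quasiIso_beta α ρ, mono_beta_f α ρ hρm,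
    ?_, ?_, ?_⟩
  · rw [CochainComplex.isStrictlyGE_iff]
    intro t ht
    change IsZero ((mappingCone (eps α ρ)).X (t + (-1)))
    rw [mappingCone.isZero_X_iff]
    exact ⟨N.isZero_of_isStrictlyGE a _ (by lia), T.isZero_of_isStrictlyGE (a - 1) _ (by lia)⟩
  · intro t
    change P ((mappingCone (eps α ρ)).X (t + (-1)))
    exact P.prop_of_iso (PCohE.coneXIso (eps α ρ) (t + (-1))).symm (hbiprod _ _ (hN _) (hTP _))
  · intro t
    exact ⟨exists_section α ρ t, P.prop_of_iso (kernelIso α ρ t).symm (hTP _)⟩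

end Class

end

end Groth.Agent.Helper3.FactP
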