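import Mathlib
import Groth.Agent.Lib.Helper9.FlatKernel

/-!
# Sections of a pushout of ringed spaces; flatness of Ferrand pushouts

* `sections_ext`, `sections_glue`: for a pushout square `f, g, inl, inr` of presheafed spaces (values
  in commutative rings) and an open `U` of the pushout `P`, the ring `P(U)` is the fibre product of
  `B(inl⁻¹U)` and `D(inr⁻¹U)` over `A(..)`.
* `flat_of_isPushout`: the statement on flatness of pushouts of schemes along closed immersions.
-/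

open CategoryTheory CategoryTheory.Limits AlgebraicGeometry TopologicalSpace Opposite

universe u

namespace Groth.Agent.Lib.Helper3.FerrandFlat

set_option linter.style.haveILetI false

noncomputable section

lemma injective_of_isIso {R S : CommRingCat.{u}} (κ : R ⟶ S) [IsIso κ] :
    Function.Injective κ.hom := by
  intro a b hab
  have h1 : (κ ≫ inv κ).hom a = (κ ≫ inv κ).hom b := by
    simp only [CommRingCat.hom_comp, RingHom.comp_apply, hab]
  simpa using h1

section PSh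

variable {A B D P : PresheafedSpace.{u, u+1, u} CommRingCat.{u}}
  {f : A ⟶ B} {g : A ⟶ D} {inl : B ⟶ P} {inr : D ⟶ P}

lemma map_thin (X : PresheafedSpace.{u, u+1, u} CommRingCat.{u}) {W₁ W₂ : (Opens X)ᵒᵖ}
    (m₁ m₂ : W₁ ⟶ W₂) (z : X.presheaf.obj W₁) :
    (X.presheaf.map m₁).hom z = (X.presheaf.map m₂).hom z := by
  rw [Subsingleton.elim m₁ m₂]

lemma map_map_thin (X : PresheafedSpace.{u, u+1, u} CommRingCat.{u}) {W₁ W₂ W₃ : (Opens X)ᵒᵖ}
    (m₁ : W₁ ⟶ W₂) (m₂ : W₂ ⟶ W₃) (m₃ : W₁ ⟶ W₃) (z : X.presheaf.obj W₁) :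
    (X.presheaf.map m₂).hom ((X.presheaf.map m₁).hom z) = (X.presheaf.map m₃).hom z := by
  rw [Subsingleton.elim m₃ (m₁ ≫ m₂), X.presheaf.map_comp]
  rfl

lemma map_eqToHom_injective (X : PresheafedSpace.{u, u+1, u} CommRingCat.{u}) {W₁ W₂ : (Opens X)ᵒᵖ}
    (e : W₁ = W₂) : Function.Injective (X.presheaf.map (eqToHom e)).hom := by
  subst e
  intro a b hab
  simpa using hab

variable (h : IsPushout f g inl inr)

/-- the comparison isomorphism from the chosen colimit -/
def phi : colimit (span f g) ≅ P :=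
  (colimit.isColimit (span f g)).coconePointUniqueUpToIso h.isColimit

lemma ι_phi (j : WalkingSpan) : colimit.ι (span f g) j ≫ (phi h).hom = h.cocone.ι.app j :=
  (colimit.isColimit (span f g)).comp_coconePointUniqueUpToIso_hom h.isColimit j

/-- key formula: the `j`-th projection of the image of `s` in the chosen colimit -/
lemma ι_c_kappa (U : Opens P) (j : WalkingSpan) (s : P.presheaf.obj (op U)) :
    ((colimit.ι (span f g) j).c.app (op ((Opens.map (phi h).hom.base).obj U))).hom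
        (((phi h).hom.c.app (op U)).hom s) =
      (((span f g).obj j).presheaf.map (eqToHom (by rw [← ι_phi h j]; rfl))).hom
        (((h.cocone.ι.app j).c.app (op U)).hom s) := by
  have h1 := PresheafedSpace.congr_app (ι_phi h j) (op U)
  rw [PresheafedSpace.comp_c_app] at h1
  have h2 := congrArg (fun t => t.hom s) h1
  simp only [CommRingCat.hom_comp, RingHom.comp_apply] at h2
  exact h2

include h in
theorem sections_ext (U : Opens P) (s t : P.presheaf.obj (op U))
    (hl : (inl.c.app (op U)).hom s = (inl.c.app (op U)).hom t)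
    (hr : (inr.c.app (op U)).hom s = (inr.c.app (op U)).hom t) : s = t := by
  haveI : IsIso (phi h).hom.c := PresheafedSpace.c_isIso_of_iso _
  have hcoc : ∀ j : WalkingSpan, ((h.cocone.ι.app j).c.app (op U)).hom s =
      ((h.cocone.ι.app j).c.app (op U)).hom t := by
    intro j
    rcases j with _ | _ | _
    · have hz : h.cocone.ι.app none = f ≫ inl := rfl
      rw [hz, PresheafedSpace.comp_c_app]
      change (f.c.app _).hom ((inl.c.app (op U)).hom s) =
        (f.c.app _).hom ((inl.c.app (op U)).hom t)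
      rw [hl]
    · exact hl
    · exact hr
  apply injective_of_isIso ((phi h).hom.c.app (op U))
  apply injective_of_isIso
    (PresheafedSpace.colimitPresheafObjIsoComponentwiseLimit (span f g)
      ((Opens.map (phi h).hom.base).obj U)).hom
  apply Concrete.limit_ext
  intro j
  have key : ∀ x : (colimit (span f g)).presheaf.obj (op ((Opens.map (phi h).hom.base).obj U)),
      (limit.π (PresheafedSpace.componentwiseDiagram (span f g)
        ((Opens.map (phi h).hom.base).obj U)) j).hom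
        ((PresheafedSpace.colimitPresheafObjIsoComponentwiseLimit (span f g)
          ((Opens.map (phi h).hom.base).obj U)).hom.hom x) =
      ((colimit.ι (span f g) j.unop).c.app (op ((Opens.map (phi h).hom.base).obj U))).hom x := by
    intro x
    have := PresheafedSpace.colimitPresheafObjIsoComponentwiseLimit_hom_π (span f g)
      ((Opens.map (phi h).hom.base).obj U) j.unop
    exact congrArg (fun t => t.hom x) this
  refine (key _).trans (Eq.trans ?_ (key _).symm)
  rw [ι_c_kappa, ι_c_kappa, hcoc]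

lemma pi_theta
    (U₀ : Opens (colimit (span f g) : PresheafedSpace.{u, u+1, u} CommRingCat.{u})) (j : WalkingSpan)
    (x : (colimit (span f g)).presheaf.obj (op U₀)) :
    (limit.π (PresheafedSpace.componentwiseDiagram (span f g) U₀) (op j)).hom
        ((PresheafedSpace.colimitPresheafObjIsoComponentwiseLimit (span f g) U₀).hom.hom x) =
      ((colimit.ι (span f g) j).c.app (op U₀)).hom x := by
  have := PresheafedSpace.colimitPresheafObjIsoComponentwiseLimit_hom_π (span f g) U₀ j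
  exact congrArg (fun t => t.hom x) this

lemma c_app_map_thin {X Y : PresheafedSpace.{u, u+1, u} CommRingCat.{u}} (φ : X ⟶ Y)
    {W₁ W₂ : (Opens Y)ᵒᵖ} (m : W₁ ⟶ W₂) (y : Y.presheaf.obj W₁) {W₃ : (Opens X)ᵒᵖ}
    (m₂ : (Opens.map φ.base).op.obj W₂ ⟶ W₃) (m₃ : (Opens.map φ.base).op.obj W₁ ⟶ W₃) :
    (X.presheaf.map m₂).hom ((φ.c.app W₂).hom ((Y.presheaf.map m).hom y)) =
      (X.presheaf.map m₃).hom ((φ.c.app W₁).hom y) := by
  have nat := φ.c.naturality m
  have nat' := congrArg (fun t => t.hom y) nat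
  simp only [CommRingCat.hom_comp, RingHom.comp_apply] at nat'
  rw [nat']
  exact map_map_thin X ((Opens.map φ.base).op.map m) m₂ m₃ _

include h in
theorem sections_glue (U : Opens P)
    (b : B.presheaf.obj (op ((Opens.map inl.base).obj U)))
    (d : D.presheaf.obj (op ((Opens.map inr.base).obj U)))
    (e : op ((Opens.map f.base).obj ((Opens.map inl.base).obj U)) =
      op ((Opens.map g.base).obj ((Opens.map inr.base).obj U)))
    (hbd : (A.presheaf.map (eqToHom e)).hom ((f.c.app (op ((Opens.map inl.base).obj U))).hom b) =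
      (g.c.app (op ((Opens.map inr.base).obj U))).hom d) :
    ∃ s : P.presheaf.obj (op U), (inl.c.app (op U)).hom s = b ∧ (inr.c.app (op U)).hom s = d := by
  haveI : IsIso (phi h).hom.c := PresheafedSpace.c_isIso_of_iso _
  let K := PresheafedSpace.componentwiseDiagram (span f g) ((Opens.map (phi h).hom.base).obj U)
  let z : ∀ j : WalkingSpan, ((span f g).obj j).presheaf.obj
      (op ((Opens.map (h.cocone.ι.app j).base).obj U)) := fun j =>
    match j with
    | none => (f.c.app (op ((Opens.map inl.base).obj U))).hom b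
    | some WalkingPair.left => b
    | some WalkingPair.right => d
  have E : ∀ j : WalkingSpan, op ((Opens.map (h.cocone.ι.app j).base).obj U) =
      op ((Opens.map (colimit.ι (span f g) j).base).obj
        ((Opens.map (phi h).hom.base).obj U)) := by
    intro j; rw [← ι_phi h j]; rfl
  let x : ∀ j : WalkingSpan, K.obj (op j) := fun j =>
    (((span f g).obj j).presheaf.map (eqToHom (E j))).hom (z j)
  have compat : ∀ {a c : WalkingSpan} (m : a ⟶ c), (K.map m.op).hom (x c) = x a := by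
    intro a c m
    change WidePushoutShape.Hom a c at m
    cases m with
    | id a =>
      change (K.map (𝟙 (op a))).hom (x a) = x a
      rw [K.map_id]; rfl
    | init i =>
      cases i with
      | left =>
        exact c_app_map_thin f (eqToHom (E (some WalkingPair.left))) b _ (eqToHom (E none))
      | right =>
        refine (c_app_map_thin g (eqToHom (E (some WalkingPair.right))) d _
          (eqToHom (e.symm.trans (E none)))).trans ?_
        refine (congrArg (A.presheaf.map (eqToHom (e.symm.trans (E none)))).hom hbd.symm).trans ?_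
        exact map_map_thin A _ _ _ _
  let hlim := isLimitOfPreserves (forget CommRingCat.{u}) (limit.isLimit K)
  let sec : (K ⋙ forget CommRingCat.{u}).sections :=
    ⟨fun j => x j.unop, fun {j j'} m => compat m.unop⟩
  let ℓ : (forget CommRingCat.{u}).obj (limit K) := (Types.isLimitEquivSections hlim).symm sec
  have hℓ : ∀ j : WalkingSpan, (limit.π K (op j)).hom ℓ = x j := fun j =>
    Types.isLimitEquivSections_symm_apply hlim sec (op j)
  let θ := PresheafedSpace.colimitPresheafObjIsoComponentwiseLimit (span f g)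
    ((Opens.map (phi h).hom.base).obj U)
  let κ := (phi h).hom.c.app (op U)
  let s₀ := θ.inv.hom ℓ
  let s := (inv κ).hom s₀
  have hκs : κ.hom s = s₀ := by
    have := congrArg (fun t => t.hom s₀) (IsIso.inv_hom_id κ)
    exact this
  have hθs : θ.hom.hom s₀ = ℓ := by
    have := congrArg (fun t => t.hom ℓ) θ.inv_hom_id
    exact this
  have main : ∀ j : WalkingSpan, ((h.cocone.ι.app j).c.app (op U)).hom s = z j := by
    intro j
    apply map_eqToHom_injective ((span f g).obj j) (E j)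
    have h1 := ι_c_kappa h U j s
    rw [hκs] at h1
    have h2 := pi_theta ((Opens.map (phi h).hom.base).obj U) j s₀
    rw [hθs, hℓ j] at h2
    exact h1.symm.trans (h2.symm.trans rfl)
  exact ⟨s, main (some WalkingPair.left), main (some WalkingPair.right)⟩

end PSh

section Sch

variable {S X Z Z' X' : Scheme.{u}}

theorem flat_of_isPushout
    (fX : X ⟶ S) (fZ' : Z' ⟶ S) (fX' : X' ⟶ S) (ι : Z ⟶ X) (q : Z ⟶ Z') (π : X ⟶ X') (ι' : Z' ⟶ X')
    [IsClosedImmersion ι] [IsClosedImmersion ι'] [IsAffineHom q] [IsAffineHom π]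
    (hq : q ≫ fZ' = ι ≫ fX) (hπ : π ≫ fX' = fX) (hι' : ι' ≫ fX' = fZ')
    (hpo : IsPushout
      ((Scheme.forgetToLocallyRingedSpace ⋙ LocallyRingedSpace.forgetToSheafedSpace).map ι)
      ((Scheme.forgetToLocallyRingedSpace ⋙ LocallyRingedSpace.forgetToSheafedSpace).map q)
      ((Scheme.forgetToLocallyRingedSpace ⋙ LocallyRingedSpace.forgetToSheafedSpace).map π)
      ((Scheme.forgetToLocallyRingedSpace ⋙ LocallyRingedSpace.forgetToSheafedSpace).map ι'))
    [Flat fX] [Flat (ι ≫ fX)] [Flat fZ'] : Flat fX' := by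
  have hP := hpo.map (SheafedSpace.forgetToPresheafedSpace (C := CommRingCat.{u}))
  have hw : ι ≫ π = q ≫ ι' := by
    apply (Scheme.forgetToLocallyRingedSpace ⋙ LocallyRingedSpace.forgetToSheafedSpace).map_injective
    rw [Functor.map_comp, Functor.map_comp]
    exact hpo.w
  subst hπ
  subst hι'
  rw [HasRingHomProperty.iff_appLE (P := @Flat)]
  intro U V e
  -- the opens
  have hVX : IsAffineOpen (π ⁻¹ᵁ V.1) := IsAffineHom.isAffine_preimage _ V.2
  have hVZ' : IsAffineOpen (ι' ⁻¹ᵁ V.1) := IsAffineHom.isAffine_preimage _ V.2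
  have hVZ : IsAffineOpen (ι ⁻¹ᵁ (π ⁻¹ᵁ V.1)) := IsAffineHom.isAffine_preimage _ hVX
  have hopen : ι ⁻¹ᵁ (π ⁻¹ᵁ V.1) = q ⁻¹ᵁ (ι' ⁻¹ᵁ V.1) := by
    change (ι ≫ π) ⁻¹ᵁ V.1 = (q ≫ ι') ⁻¹ᵁ V.1
    rw [hw]
  -- ring maps
  let ρ := fX'.appLE U.1 V.1 e
  let a := π.app V.1
  let c' := ι'.app V.1
  let β := ι.app (π ⁻¹ᵁ V.1)
  let γ₀ := q.app (ι' ⁻¹ᵁ V.1)
  let tr := Z.presheaf.map (eqToHom hopen).op
  let γ := γ₀ ≫ tr
  have hcomm : a ≫ β = c' ≫ γ := by
    have := Scheme.Hom.congr_app hw V.1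
    rw [Scheme.Hom.comp_app, Scheme.Hom.comp_app] at this
    simpa [a, β, c', γ, γ₀, tr, Category.assoc] using this
  -- flatness of the three given rings
  have e1 : π ⁻¹ᵁ V.1 ≤ (π ≫ fX') ⁻¹ᵁ U.1 := fun x hx => e hx
  have h1 : ρ ≫ a = (π ≫ fX').appLE U.1 (π ⁻¹ᵁ V.1) e1 := by
    simp only [ρ, a, Scheme.Hom.app_eq_appLE, Scheme.Hom.appLE_comp_appLE]
  have fl1 : (ρ ≫ a).hom.Flat := by
    rw [h1]
    exact HasRingHomProperty.appLE @Flat (π ≫ fX') inferInstance U ⟨_, hVX⟩ e1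
  have e2 : ι' ⁻¹ᵁ V.1 ≤ (ι' ≫ fX') ⁻¹ᵁ U.1 := fun x hx => e hx
  have h2 : ρ ≫ c' = (ι' ≫ fX').appLE U.1 (ι' ⁻¹ᵁ V.1) e2 := by
    simp only [ρ, c', Scheme.Hom.app_eq_appLE, Scheme.Hom.appLE_comp_appLE]
  have fl2 : (ρ ≫ c').hom.Flat := by
    rw [h2]
    exact HasRingHomProperty.appLE @Flat (ι' ≫ fX') inferInstance U ⟨_, hVZ'⟩ e2
  have e3 : ι ⁻¹ᵁ (π ⁻¹ᵁ V.1) ≤ (ι ≫ π ≫ fX') ⁻¹ᵁ U.1 := fun x hx => e hx
  have h3 : ρ ≫ a ≫ β = (ι ≫ π ≫ fX').appLE U.1 (ι ⁻¹ᵁ (π ⁻¹ᵁ V.1)) e3 := by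
    rw [← Category.assoc, h1]
    simp only [β, Scheme.Hom.app_eq_appLE, Scheme.Hom.appLE_comp_appLE]
  have fl3 : (ρ ≫ a ≫ β).hom.Flat := by
    rw [h3]
    exact HasRingHomProperty.appLE @Flat (ι ≫ π ≫ fX') inferInstance U ⟨_, hVZ⟩ e3
  -- algebra structures
  letI : Algebra Γ(S, U.1) Γ(X', V.1) := ρ.hom.toAlgebra
  letI : Algebra Γ(S, U.1) Γ(X, π ⁻¹ᵁ V.1) := (ρ ≫ a).hom.toAlgebra
  letI : Algebra Γ(S, U.1) Γ(Z', ι' ⁻¹ᵁ V.1) := (ρ ≫ c').hom.toAlgebra
  letI : Algebra Γ(S, U.1) Γ(Z, ι ⁻¹ᵁ (π ⁻¹ᵁ V.1)) := (ρ ≫ a ≫ β).hom.toAlgebra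
  haveI : Module.Flat Γ(S, U.1) Γ(X, π ⁻¹ᵁ V.1) := fl1
  haveI : Module.Flat Γ(S, U.1) Γ(Z', ι' ⁻¹ᵁ V.1) := fl2
  haveI : Module.Flat Γ(S, U.1) Γ(Z, ι ⁻¹ᵁ (π ⁻¹ᵁ V.1)) := fl3
  let aA : Γ(X', V.1) →ₐ[Γ(S, U.1)] Γ(X, π ⁻¹ᵁ V.1) := { a.hom with commutes' := fun r => rfl }
  let cA : Γ(X', V.1) →ₐ[Γ(S, U.1)] Γ(Z', ι' ⁻¹ᵁ V.1) := { c'.hom with commutes' := fun r => rfl }
  let βA : Γ(X, π ⁻¹ᵁ V.1) →ₐ[Γ(S, U.1)] Γ(Z, ι ⁻¹ᵁ (π ⁻¹ᵁ V.1)) :=
    { β.hom with commutes' := fun r => rfl }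
  let γA : Γ(Z', ι' ⁻¹ᵁ V.1) →ₐ[Γ(S, U.1)] Γ(Z, ι ⁻¹ᵁ (π ⁻¹ᵁ V.1)) :=
    { γ.hom with
      commutes' := fun r => by
        have := congrArg (fun t => (ρ ≫ t).hom r) hcomm
        exact this.symm }
  have hcomm' : ∀ m : Γ(X', V.1), β.hom (a.hom m) = γ.hom (c'.hom m) := fun m =>
    congrArg (fun t => t.hom m) hcomm
  let σ : Γ(X', V.1) →ₗ[Γ(S, U.1)] (Γ(X, π ⁻¹ᵁ V.1) × Γ(Z', ι' ⁻¹ᵁ V.1)) :=
    aA.toLinearMap.prod cA.toLinearMap
  let ψ : (Γ(X, π ⁻¹ᵁ V.1) × Γ(Z', ι' ⁻¹ᵁ V.1)) →ₗ[Γ(S, U.1)] Γ(Z, ι ⁻¹ᵁ (π ⁻¹ᵁ V.1)) :=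
    βA.toLinearMap.coprod (-γA.toLinearMap)
  have hψ : ∀ y, ψ y = β.hom y.1 - γ.hom y.2 := by
    intro y
    simp only [ψ, LinearMap.coprod_apply, LinearMap.neg_apply, AlgHom.toLinearMap_apply]
    exact (sub_eq_add_neg _ _).symm
  have hσ : ∀ m, σ m = (a.hom m, c'.hom m) := fun m => rfl
  have hflatprod : Module.Flat Γ(S, U.1) (Γ(X, π ⁻¹ᵁ V.1) × Γ(Z', ι' ⁻¹ᵁ V.1)) :=
    Groth.Agent.Helper9.flat_prod
  have hβsurj : Function.Surjective β.hom := ι.app_surjective _ hVX
  have hinj : Function.Injective σ := by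
    intro m m' hmm
    rw [hσ, hσ] at hmm
    have hl : a.hom m = a.hom m' := congrArg Prod.fst hmm
    have hr : c'.hom m = c'.hom m' := congrArg Prod.snd hmm
    exact sections_ext hP V.1 m m' hl hr
  have hsurj : Function.Surjective ψ := by
    intro z
    obtain ⟨b, hb⟩ := hβsurj z
    refine ⟨(b, 0), ?_⟩
    rw [hψ]
    simp [hb]
  have hex : Function.Exact σ ψ := by
    intro y
    constructor
    · intro hy
      rw [hψ, sub_eq_zero] at hy
      have hbd : (Z.presheaf.map (eqToHom (congrArg op hopen))).hom (β.hom y.1) = γ₀.hom y.2 := by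
        rw [hy]
        change (Z.presheaf.map (eqToHom (congrArg op hopen))).hom
          ((Z.presheaf.map (eqToHom hopen).op).hom (γ₀.hom y.2)) = γ₀.hom y.2
        have := map_map_thin (Z.toPresheafedSpace) (eqToHom hopen).op
          (eqToHom (congrArg op hopen)) (𝟙 _) (γ₀.hom y.2)
        rw [this, CategoryTheory.Functor.map_id]
        rfl
      obtain ⟨s, hs1, hs2⟩ := sections_glue hP V.1 y.1 y.2 (congrArg op hopen) hbd
      exact ⟨s, Prod.ext hs1 hs2⟩
    · rintro ⟨m, rfl⟩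
      rw [hψ, hσ, sub_eq_zero]
      exact hcomm' m
  exact Groth.Agent.Helper9.flat_of_exact_of_flat σ ψ hinj hex hsurj

end Sch

end

end Groth.Agent.Lib.Helper3.FerrandFlat
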