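import Mathlib

/-! If `N` is flat over `R[X]` then multiplication by `X` on `N` is universally injective
over `R`. -/

set_option autoImplicit false
universe u
namespace Groth.Agent.Helper3.UInj

open TensorProduct Polynomial

section PolyTrick

variable (R : Type u) [CommRing R] (N : Type u) [AddCommGroup N] [Module R[X] N] [Module R N]
  [IsScalarTower R R[X] N] [Module.Flat R[X] N]

/-- multiplication by `X` on `R[X] ⊗ Q` is injective -/
theorem X_smul_injective (Q : Type u) [AddCommGroup Q] [Module R Q] :
    Function.Injective (LinearMap.lsmul R[X] (R[X] ⊗[R] Q) (X : R[X])) := by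
  let dv : R[X] →ₗ[R] R[X] :=
    { toFun := divX
      map_add' := fun _ _ => divX_add
      map_smul' := fun a p => by
        simp only [RingHom.id_apply, smul_eq_C_mul, divX_C_mul] }
  have hret : ∀ z : R[X] ⊗[R] Q,
      (dv.rTensor Q) (LinearMap.lsmul R[X] (R[X] ⊗[R] Q) (X : R[X]) z) = z := by
    intro z
    induction z using TensorProduct.induction_on with
    | zero => simp
    | tmul p q =>
      show (dv.rTensor Q) ((X : R[X]) • (p ⊗ₜ[R] q)) = _
      rw [TensorProduct.smul_tmul', LinearMap.rTensor_tmul, smul_eq_mul]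
      congr 1
      show divX (X * p) = p
      ext n
      rw [coeff_divX, coeff_X_mul]
    | add a b ha hb => rw [map_add, map_add, ha, hb]
  exact Function.LeftInverse.injective hret

theorem lTensor_lsmul_X_injective (Q : Type u) [AddCommGroup Q] [Module R Q] :
    Function.Injective (((LinearMap.lsmul R[X] N (X : R[X])).restrictScalars R).lTensor Q) := by
  let μ : (R[X] ⊗[R] Q) →ₗ[R[X]] (R[X] ⊗[R] Q) := LinearMap.lsmul R[X] _ (X : R[X])
  have hμ : Function.Injective μ := X_smul_injective R Q
  have hflat : Function.Injective (μ.lTensor N) :=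
    Module.Flat.lTensor_preserves_injective_linearMap μ hμ
  let e := AlgebraTensorModule.cancelBaseChange R R[X] R[X] N Q
  let Ψ : Q ⊗[R] N → N ⊗[R[X]] (R[X] ⊗[R] Q) := fun z => e.symm (TensorProduct.comm R Q N z)
  have hΨ0 : Ψ 0 = 0 := by
    show e.symm (TensorProduct.comm R Q N 0) = 0
    rw [map_zero, map_zero]
  have hΨadd : ∀ a b, Ψ (a + b) = Ψ a + Ψ b := by
    intro a b
    show e.symm (TensorProduct.comm R Q N (a + b)) = _
    rw [map_add, map_add]
  have hΨ : Function.Injective Ψ := e.symm.injective.comp (TensorProduct.comm R Q N).injective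
  have hcomm : ∀ z, (μ.lTensor N) (Ψ z) =
      Ψ ((((LinearMap.lsmul R[X] N (X : R[X])).restrictScalars R).lTensor Q) z) := by
    intro z
    induction z using TensorProduct.induction_on with
    | zero => rw [map_zero, hΨ0, map_zero]
    | tmul q n =>
      show (μ.lTensor N) (e.symm (n ⊗ₜ q)) = e.symm (((X : R[X]) • n) ⊗ₜ q)
      rw [AlgebraTensorModule.cancelBaseChange_symm_tmul,
        AlgebraTensorModule.cancelBaseChange_symm_tmul, LinearMap.lTensor_tmul]
      show n ⊗ₜ ((X : R[X]) • ((1 : R[X]) ⊗ₜ[R] q)) = _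
      rw [TensorProduct.tmul_smul, TensorProduct.smul_tmul']
    | add a b ha hb => rw [hΨadd, map_add, ha, hb, map_add, hΨadd]
  rw [injective_iff_map_eq_zero]
  intro z hz
  apply hΨ
  rw [hΨ0]
  apply hflat
  rw [hcomm, hz, hΨ0, map_zero]

end PolyTrick

end Groth.Agent.Helper3.UInj
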