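import Mathlib
import Groth.Agent.Lib.Helper3.FibReg2
import Groth.Agent.Lib.Helper3.UInj2

/-! Universal injectivity of a homothety regular on the fibre, localized at a prime
(variant of `FibReg.eq_zero_of_smul_eq_zero_localized`). -/

set_option autoImplicit false
set_option backward.isDefEq.respectTransparency.types false
set_option synthInstance.maxHeartbeats 400000
universe u
namespace Groth.Agent.Helper3.UInj

open TensorProduct Polynomial Groth.Agent.Lead.CritFib Groth.Agent.Helper3.FibReg

attribute [local instance] Polynomial.algebra

section Local

variable (A B M : Type u) [CommRing A] [CommRing B] [Algebra A B]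
  [Algebra.FinitePresentation A B] [AddCommGroup M] [Module B M] [Module A M]
  [IsScalarTower A B M] [Module.FinitePresentation B M] [Module.Flat A M] (a : B)

set_option maxHeartbeats 2000000 in
theorem lTensor_smul_localized_injective (q : Ideal B) [q.IsPrime] (haq : a ∈ q)
    (hfib : ∀ x : M, a • x ∈ (q.under A) • (⊤ : Submodule A M) →
      ∃ s : A, s ∉ q.under A ∧ s • x ∈ (q.under A) • (⊤ : Submodule A M))
    (Q : Type u) [AddCommGroup Q] [Module A Q] :
    Function.Injective (((LinearMap.lsmul B (LocalizedModule q.primeCompl M) a).restrictScalars
      A).lTensor Q) := by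
  let p : Ideal A := q.under A
  haveI : p.IsPrime := inferInstanceAs (q.under A).IsPrime
  haveI : q.LiesOver p := ⟨rfl⟩
  -- `T = A[X] → B`, `X ↦ a`
  letI algTB : Algebra A[X] B := (Polynomial.aeval a : A[X] →ₐ[A] B).toRingHom.toAlgebra
  have halg : ∀ t : A[X], algebraMap A[X] B t = Polynomial.aeval a t := fun t => rfl
  haveI : IsScalarTower A A[X] B := IsScalarTower.of_algebraMap_eq (fun x => by
    rw [halg, Polynomial.algebraMap_apply, Algebra.algebraMap_self, RingHom.id_apply,
      Polynomial.aeval_C])
  letI modTM : Module A[X] M := Module.compHom M (algebraMap A[X] B)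
  haveI : IsScalarTower A[X] B M := IsScalarTower.of_compHom A[X] B M
  have h1 : Module.Flat A (LocalizedModule q.primeCompl M) :=
    Groth.Agent.Lead.FO.flat_of_isLocalizedModule_algebra (R := A) (S := B) q.primeCompl
      (M := M) (Mp := LocalizedModule q.primeCompl M)
      (LocalizedModule.mkLinearMap q.primeCompl M)
  have h2 : Module.Flat (A[X] ⧸ p.map (algebraMap A A[X]))
      ((A[X] ⧸ p.map (algebraMap A A[X])) ⊗[A[X]] LocalizedModule q.primeCompl M) := by
    let L := Localization.AtPrime p
    let Bq := Localization.AtPrime q
    let W : Submonoid A[X] := Submonoid.map (C : A →+* A[X]) p.primeCompl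
    haveI : IsLocalization W L[X] := Polynomial.isLocalization p.primeCompl L
    let φ₀ : L →+* Bq := Localization.localRingHom p q (algebraMap A B) rfl
    have hφ₀ : ∀ x : A, φ₀ (algebraMap A L x) = algebraMap B Bq (algebraMap A B x) :=
      fun x => Localization.localRingHom_to_map _ _ _ _ x
    let ab : Bq := algebraMap B Bq a
    let θ : L[X] →+* Bq := Polynomial.eval₂RingHom φ₀ ab
    letI modSN : Module L[X] (LocalizedModule q.primeCompl M) := Module.compHom _ θ
    have hθsmul : ∀ (s : L[X]) (n : LocalizedModule q.primeCompl M), s • n = θ s • n :=
      fun _ _ => rfl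
    have hθmap : ∀ t : A[X],
        θ (algebraMap A[X] L[X] t) = algebraMap B Bq (algebraMap A[X] B t) := by
      intro t
      show Polynomial.eval₂ φ₀ ab (t.map (algebraMap A L)) = _
      rw [Polynomial.eval₂_map, halg, Polynomial.aeval_def, Polynomial.hom_eval₂]
      congr 1
      ext x
      exact hφ₀ x
    haveI : IsScalarTower A[X] L[X] (LocalizedModule q.primeCompl M) :=
      IsScalarTower.of_algebraMap_smul (fun t n => by
        rw [hθsmul, hθmap, IsScalarTower.algebraMap_smul, IsScalarTower.algebraMap_smul])
    have hJ : (p.map (algebraMap A A[X])).map (algebraMap A[X] L[X]) =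
        (IsLocalRing.maximalIdeal L).map (C : L →+* L[X]) := by
      rw [Ideal.map_map, ← Localization.AtPrime.map_eq_maximalIdeal (I := p), Ideal.map_map]
      congr 1
      ext x
      simp
      rfl
    -- the polynomials with unit constant term act invertibly
    have habmem : ab ∈ IsLocalRing.maximalIdeal Bq := by
      rw [← Localization.AtPrime.map_eq_maximalIdeal (I := q)]
      exact Ideal.mem_map_of_mem _ haq
    have hU : ∀ h : L[X], IsUnit (h.coeff 0) →
        ∃ g : LocalizedModule q.primeCompl M →ₗ[L[X]] LocalizedModule q.primeCompl M,
          ∀ n, g (h • n) = n := by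
      intro h hh
      have hθh : IsUnit (θ h) := by
        rw [← IsLocalRing.notMem_maximalIdeal]
        intro hmem
        have h0 : θ h = φ₀ (h.coeff 0) + ab * θ (divX h) := by
          conv_lhs => rw [← divX_mul_X_add h]
          show Polynomial.eval₂ φ₀ ab (divX h * X + C (h.coeff 0)) = _
          rw [Polynomial.eval₂_add, Polynomial.eval₂_mul, Polynomial.eval₂_X, Polynomial.eval₂_C]
          show Polynomial.eval₂ φ₀ ab (divX h) * ab + _ = _ + ab * Polynomial.eval₂ φ₀ ab (divX h)
          ring
        have h1 : φ₀ (h.coeff 0) ∈ IsLocalRing.maximalIdeal Bq := by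
          have : φ₀ (h.coeff 0) = θ h - ab * θ (divX h) := by rw [h0]; ring
          rw [this]
          exact Ideal.sub_mem _ hmem (Ideal.mul_mem_right _ _ habmem)
        exact (IsLocalRing.notMem_maximalIdeal.mpr (hh.map φ₀)) h1
      obtain ⟨u, hu⟩ := hθh
      refine ⟨{ toFun := fun n => (↑u⁻¹ : Bq) • n
                map_add' := fun x y => smul_add _ x y
                map_smul' := fun s n => by
                  simp only [RingHom.id_apply]
                  rw [hθsmul, hθsmul, smul_comm] }, fun n => ?_⟩
      show (↑u⁻¹ : Bq) • (h • n) = n
      rw [hθsmul, ← hu, smul_smul, Units.inv_mul, one_smul]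
    have hAsmul : ∀ (x : A) (n : LocalizedModule q.primeCompl M),
        (algebraMap A[X] L[X] (algebraMap A A[X] x)) • n = x • n := by
      intro x n
      rw [IsScalarTower.algebraMap_smul]
      induction n using LocalizedModule.induction_on with
      | _ m s =>
        rw [LocalizedModule.smul'_mk, LocalizedModule.smul'_mk]
        congr 1
        show (algebraMap A[X] B (algebraMap A A[X] x)) • m = x • m
        rw [← IsScalarTower.algebraMap_apply, IsScalarTower.algebraMap_smul]
    have hmem_of : ∀ n : LocalizedModule q.primeCompl M,
        n ∈ ((p.map (algebraMap A A[X])).map (algebraMap A[X] L[X])) •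
          (⊤ : Submodule L[X] (LocalizedModule q.primeCompl M)) → InPM q p n := by
      have hQ : ∀ r ∈ (p.map (algebraMap A A[X])).map (algebraMap A[X] L[X]),
          ∀ n' : LocalizedModule q.primeCompl M, InPM q p (r • n') := by
        intro r hr
        rw [Ideal.map_map] at hr
        unfold Ideal.map at hr
        induction hr using Submodule.span_induction with
        | mem r hr =>
          obtain ⟨x, hx, rfl⟩ := hr
          intro n'
          rw [RingHom.comp_apply, hAsmul]
          exact inPM_smul q p hx n'
        | zero =>
          intro n'
          rw [zero_smul]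
          exact inPM_zero q p
        | add r r' _ _ ih ih' =>
          intro n'
          rw [add_smul]
          exact inPM_add q p (ih n') (ih' n')
        | smul s r _ ih =>
          intro n'
          rw [smul_eq_mul, mul_comm, mul_smul]
          exact ih (s • n')
      intro n hn
      refine Submodule.smul_induction_on hn (fun r hr n' _ => hQ r hr n')
        (fun x y hx hy => inPM_add q p hx hy)
    have hof_mem : ∀ m ∈ p • (⊤ : Submodule A M), ∀ s : q.primeCompl,
        LocalizedModule.mk m s ∈ ((p.map (algebraMap A A[X])).map (algebraMap A[X] L[X])) •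
          (⊤ : Submodule L[X] (LocalizedModule q.primeCompl M)) := by
      intro m hm s
      refine Submodule.smul_induction_on hm ?_ ?_
      · intro x hx m' _
        rw [← LocalizedModule.smul'_mk x m' s, ← hAsmul]
        exact Submodule.smul_mem_smul
          (Ideal.mem_map_of_mem _ (Ideal.mem_map_of_mem _ hx)) Submodule.mem_top
      · intro y z hy hz
        have : LocalizedModule.mk (y + z) s = LocalizedModule.mk y s + LocalizedModule.mk z s := by
          rw [LocalizedModule.mk_add_mk, ← smul_add, LocalizedModule.mk_cancel_common_left]
        rw [this]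
        exact Submodule.add_mem _ hy hz
    have hX : ∀ n : LocalizedModule q.primeCompl M,
        (X : L[X]) • n ∈ ((p.map (algebraMap A A[X])).map (algebraMap A[X] L[X])) •
          (⊤ : Submodule L[X] (LocalizedModule q.primeCompl M)) →
        n ∈ ((p.map (algebraMap A A[X])).map (algebraMap A[X] L[X])) •
          (⊤ : Submodule L[X] (LocalizedModule q.primeCompl M)) := by
      intro n hn
      induction n using LocalizedModule.induction_on with
      | _ m s =>
        have e1 : (X : L[X]) • LocalizedModule.mk m s = LocalizedModule.mk (a • m) s := by
          rw [hθsmul]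
          show Polynomial.eval₂ φ₀ ab X • _ = _
          rw [Polynomial.eval₂_X]
          show (algebraMap B Bq a) • _ = _
          rw [IsScalarTower.algebraMap_smul, LocalizedModule.smul'_mk]
        rw [e1] at hn
        obtain ⟨m', hm', s', hms⟩ := hmem_of _ hn
        rw [LocalizedModule.mk_eq] at hms
        obtain ⟨u, hu⟩ := hms
        have h4 : a • (((u : B) * (s' : B)) • m) ∈ p • (⊤ : Submodule A M) := by
          have : a • (((u : B) * (s' : B)) • m) = (u : B) • (s : B) • m' := by
            have hu' : (u : B) • (s' : B) • (a • m) = (u : B) • (s : B) • m' := hu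
            rw [← hu', smul_smul, smul_smul, smul_smul]
            congr 1
            ring
          rw [this]
          exact smul_mem_smul_top p _ (smul_mem_smul_top p _ hm')
        obtain ⟨v, hv, hvm⟩ := hfib _ h4
        have hvq : algebraMap A B v ∈ q.primeCompl := fun h => hv h
        let w : q.primeCompl := ⟨algebraMap A B v, hvq⟩ * u * s'
        have hw : LocalizedModule.mk m s = LocalizedModule.mk (w • m) (w * s) :=
          (LocalizedModule.mk_cancel_common_left w s m).symm
        rw [hw]
        apply hof_mem
        have : w • m = v • (((u : B) * (s' : B)) • m) := by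
          show ((algebraMap A B v) * (u : B) * (s' : B)) • m = _
          rw [mul_assoc, mul_smul, IsScalarTower.algebraMap_smul]
        rw [this]
        exact hvm
    haveI : Module.Flat (L[X] ⧸ (p.map (algebraMap A A[X])).map (algebraMap A[X] L[X]))
        ((L[X] ⧸ (p.map (algebraMap A A[X])).map (algebraMap A[X] L[X])) ⊗[L[X]]
          LocalizedModule q.primeCompl M) :=
      flat_quot_of_regular _ hJ _ hX hU
    exact qflat_of_localization (S := L[X]) W (p.map (algebraMap A A[X]))
      (LocalizedModule q.primeCompl M)
  have h3 : Module.Flat A[X] (LocalizedModule q.primeCompl M) :=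
    critere_ft A A[X] B M p q h1 h2
  have hXa : ∀ n : LocalizedModule q.primeCompl M, (X : A[X]) • n = a • n := by
    intro n
    induction n using LocalizedModule.induction_on with
    | _ m s =>
      rw [LocalizedModule.smul'_mk, LocalizedModule.smul'_mk]
      congr 1
      show (algebraMap A[X] B X) • m = a • m
      rw [halg, Polynomial.aeval_X]
  haveI : IsScalarTower A A[X] (LocalizedModule q.primeCompl M) :=
    IsScalarTower.of_algebraMap_smul (fun x n => by
      induction n using LocalizedModule.induction_on with
      | _ m s =>
        rw [LocalizedModule.smul'_mk, LocalizedModule.smul'_mk]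
        congr 1
        show (algebraMap A[X] B (algebraMap A A[X] x)) • m = x • m
        rw [← IsScalarTower.algebraMap_apply, IsScalarTower.algebraMap_smul])
  haveI := h3
  have h4 := lTensor_lsmul_X_injective A (LocalizedModule q.primeCompl M) Q
  have h5 : (LinearMap.lsmul A[X] (LocalizedModule q.primeCompl M) (X : A[X])).restrictScalars A =
      (LinearMap.lsmul B (LocalizedModule q.primeCompl M) a).restrictScalars A :=
    LinearMap.ext fun n => hXa n
  rwa [h5] at h4

end Local

end Groth.Agent.Helper3.UInj
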