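import Mathlib
import Groth.Agent.Lib.Helper3.FibReg2
import Groth.Agent.Lib.Helper3.UInj8

/-! An element regular on all fibres of a flat finitely presented module over a finitely presented
algebra has flat cokernel (EGA IV 11.3.8; helper3). -/

set_option autoImplicit false
set_option backward.isDefEq.respectTransparency.types false
set_option synthInstance.maxHeartbeats 400000
universe u
namespace Groth.Agent.Helper3.FibReg

open TensorProduct Pointwise

section Coker

variable (A B M : Type u) [CommRing A] [CommRing B] [Algebra A B]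
  [Algebra.FinitePresentation A B] [AddCommGroup M] [Module B M] [Module A M]
  [IsScalarTower A B M] [Module.FinitePresentation B M] [Module.Flat A M] (a : B)

/-- flatness of the localized cokernel at a prime containing `a` -/
theorem flat_localized_quot (q : Ideal B) [q.IsPrime] (haq : a ∈ q)
    (hfib : ∀ x : M, a • x ∈ (q.under A) • (⊤ : Submodule A M) →
      ∃ s : A, s ∉ q.under A ∧ s • x ∈ (q.under A) • (⊤ : Submodule A M)) :
    Module.Flat A (LocalizedModule q.primeCompl (M ⧸ (a • (⊤ : Submodule B M)))) := by
  have hflat : Module.Flat A (LocalizedModule q.primeCompl M) :=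
    Groth.Agent.Lead.FO.flat_of_isLocalizedModule_algebra (R := A) (S := B) q.primeCompl
      (M := M) (Mp := LocalizedModule q.primeCompl M)
      (LocalizedModule.mkLinearMap q.primeCompl M)
  let N := M ⧸ (a • (⊤ : Submodule B M))
  let g₀ : M →ₗ[B] M := LinearMap.lsmul B M a
  let h₀ : M →ₗ[B] N := Submodule.mkQ (a • (⊤ : Submodule B M))
  have hex₀ : Function.Exact g₀ h₀ := by
    intro y
    show Submodule.mkQ _ y = 0 ↔ _
    rw [Submodule.mkQ_apply, Submodule.Quotient.mk_eq_zero]
    constructor
    · intro hy
      obtain ⟨z, -, hz⟩ := (Submodule.mem_smul_pointwise_iff_exists _ _ _).1 hy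
      exact ⟨z, hz⟩
    · rintro ⟨z, rfl⟩
      exact Submodule.smul_mem_pointwise_smul z a ⊤ Submodule.mem_top
  have hex := LocalizedModule.map_exact q.primeCompl g₀ h₀ hex₀
  let F₁ : LocalizedModule q.primeCompl M →ₗ[B] LocalizedModule q.primeCompl M :=
    IsLocalizedModule.map q.primeCompl (LocalizedModule.mkLinearMap q.primeCompl M)
      (LocalizedModule.mkLinearMap q.primeCompl M) g₀
  let F₂ : LocalizedModule q.primeCompl M →ₗ[B] LocalizedModule q.primeCompl N :=
    IsLocalizedModule.map q.primeCompl (LocalizedModule.mkLinearMap q.primeCompl M)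
      (LocalizedModule.mkLinearMap q.primeCompl N) h₀
  have hF₁ : F₁ = LinearMap.lsmul B (LocalizedModule q.primeCompl M) a := by
    ext n
    induction n using LocalizedModule.induction_on with
    | _ m s =>
      show F₁ (LocalizedModule.mk m s) = a • LocalizedModule.mk m s
      rw [IsLocalizedModule.map_LocalizedModules, LocalizedModule.smul'_mk]
      rfl
  have hsurj : Function.Surjective F₂ :=
    IsLocalizedModule.map_surjective q.primeCompl _ _ h₀ (Submodule.mkQ_surjective _)
  let f₁ : LocalizedModule q.primeCompl M →ₗ[A] LocalizedModule q.primeCompl M :=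
    F₁.restrictScalars A
  let f₂ : LocalizedModule q.primeCompl M →ₗ[A] LocalizedModule q.primeCompl N :=
    F₂.restrictScalars A
  have hf₁ : f₁ = (LinearMap.lsmul B (LocalizedModule q.primeCompl M) a).restrictScalars A := by
    show F₁.restrictScalars A = _
    rw [hF₁]
  rw [Module.Flat.iff_lTensor_injective']
  intro I
  refine lTensor_injective_of_exact_of_exact_of_rTensor_injective (f₁ := f₁) (f₂ := f₂)
    (g₁ := I.subtype) (g₂ := Submodule.mkQ I) hex hsurj ?_ (Submodule.mkQ_surjective I) ?_ ?_
  · exact LinearMap.exact_subtype_mkQ I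
  · rw [← LinearMap.lTensor_inj_iff_rTensor_inj, hf₁]
    exact Groth.Agent.Helper3.UInj.lTensor_smul_localized_injective A B M a q haq hfib (A ⧸ I)
  · exact Module.Flat.lTensor_preserves_injective_linearMap _ Subtype.val_injective

/-- **EGA IV 11.3.8 (cokernel part)**: if `a` is regular on all fibres of `M` over `A`, then
`M ⧸ aM` is flat over `A`. -/
theorem flat_quot_of_fibre
    (hfib : ∀ (p : Ideal A) [p.IsPrime] (x : M), a • x ∈ p • (⊤ : Submodule A M) →
      ∃ s : A, s ∉ p ∧ s • x ∈ p • (⊤ : Submodule A M)) :
    Module.Flat A (M ⧸ (a • (⊤ : Submodule B M))) := by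
  apply Module.flat_of_isLocalized_maximal B (M ⧸ (a • (⊤ : Submodule B M)))
    (fun P _ => LocalizedModule P.primeCompl (M ⧸ (a • (⊤ : Submodule B M))))
    (fun P _ => LocalizedModule.mkLinearMap P.primeCompl _)
  intro P hP
  haveI : P.IsPrime := hP.isPrime
  by_cases haP : a ∈ P
  · exact flat_localized_quot A B M a P haP (fun x hx => hfib (P.under A) x hx)
  · haveI : Subsingleton (LocalizedModule P.primeCompl (M ⧸ (a • (⊤ : Submodule B M)))) := by
      refine ⟨fun x y => ?_⟩
      have h0 : ∀ z : LocalizedModule P.primeCompl (M ⧸ (a • (⊤ : Submodule B M))), z = 0 := by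
        intro z
        induction z using LocalizedModule.induction_on with
        | _ m s =>
          rw [← LocalizedModule.zero_mk s, LocalizedModule.mk_eq]
          refine ⟨⟨a, haP⟩, ?_⟩
          rw [smul_zero, smul_zero]
          obtain ⟨m', rfl⟩ := Submodule.mkQ_surjective (a • (⊤ : Submodule B M)) m
          show a • (s : B) • Submodule.mkQ (a • (⊤ : Submodule B M)) m' = 0
          rw [← map_smul, ← map_smul, Submodule.mkQ_apply, Submodule.Quotient.mk_eq_zero]
          exact Submodule.smul_mem_pointwise_smul _ a ⊤ Submodule.mem_top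
      rw [h0 x, h0 y]
    infer_instance

end Coker

section Ring

variable (A B : Type u) [CommRing A] [CommRing B] [Algebra A B]
  [Algebra.FinitePresentation A B] [Module.Flat A B] (g : B)

theorem smul_top_eq_span : (g • (⊤ : Submodule B B)) = Ideal.span {g} := by
  rw [← Submodule.ideal_span_singleton_smul]
  exact Ideal.mul_top _

/-- ring form: `g` regular on all fibres of the flat finitely presented algebra `B`: `g` is a
nonzerodivisor and `B ⧸ g` is flat over `A` -/
theorem nzd_and_flat_quot_of_fibre
    (hfib : ∀ (p : Ideal A) [p.IsPrime] (x : B), g * x ∈ p.map (algebraMap A B) →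
      ∃ s : A, s ∉ p ∧ algebraMap A B s * x ∈ p.map (algebraMap A B)) :
    g ∈ nonZeroDivisors B ∧ Module.Flat A (B ⧸ Ideal.span {g}) := by
  have hpB : ∀ p : Ideal A, (p • (⊤ : Submodule A B)) =
      (p.map (algebraMap A B)).restrictScalars A := by
    intro p
    rw [Ideal.smul_top_eq_map]
  have hfib' : ∀ (p : Ideal A) [p.IsPrime] (x : B), g • x ∈ p • (⊤ : Submodule A B) →
      ∃ s : A, s ∉ p ∧ s • x ∈ p • (⊤ : Submodule A B) := by
    intro p _ x hx
    rw [hpB] at hx ⊢
    obtain ⟨s, hs, hsx⟩ := hfib p x hx
    refine ⟨s, hs, ?_⟩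
    rw [Algebra.smul_def]
    exact hsx
  constructor
  · have h := isSMulRegular_of_fibre A B B g hfib'
    rw [mem_nonZeroDivisors_iff_right]
    intro x hx
    apply h
    show g * x = g * 0
    rw [mul_zero, mul_comm]
    exact hx
  · have h := flat_quot_of_fibre A B B g hfib'
    rw [smul_top_eq_span] at h
    exact h

end Ring

end Groth.Agent.Helper3.FibReg
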