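import Mathlib
import Groth.Prelude.Def_BlowUp2
import Groth.Prelude.Def_CurvBase
import Groth.Agent.Lib.Helper3.FibReg4
import Groth.Agent.Lib.Helper4.EffCartier
import Groth.Agent.Lib.Helper4.RelEffCartier
import Groth.Agent.Lib.Helper4.FiberChart
import Groth.Agent.Lib.Helper4.IdealComap
import Groth.Agent.Lib.Helper2.AlgSp.CartierPull

/-! Fibrewise effective Cartier divisors are relative effective Cartier divisors (helper3). -/

set_option autoImplicit false
set_option backward.isDefEq.respectTransparency.types false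
set_option synthInstance.maxHeartbeats 400000
universe u
open CategoryTheory CategoryTheory.Limits AlgebraicGeometry TopologicalSpace
open scoped TensorProduct

namespace Groth.Agent.Helper3.FibCart

section Ring

variable (A B κ : Type u) [CommRing A] [CommRing B] [Algebra A B] [Module.Flat A B]
  [Field κ] [Algebra A κ]

/-- elements of `pB` die in `B ⊗ κ` when `p` is the kernel of `A → κ` -/
theorem tmul_one_eq_zero_of_mem (p : Ideal A) (hp : RingHom.ker (algebraMap A κ) = p) (y : B)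
    (hy : y ∈ p.map (algebraMap A B)) : (y ⊗ₜ[A] (1 : κ)) = 0 := by
  unfold Ideal.map at hy
  induction hy using Submodule.span_induction with
  | mem y hy =>
    obtain ⟨a, ha, rfl⟩ := hy
    have ha' : algebraMap A κ a = 0 := by
      have : a ∈ RingHom.ker (algebraMap A κ) := by rw [hp]; exact ha
      exact this
    rw [Algebra.algebraMap_eq_smul_one, TensorProduct.smul_tmul, Algebra.smul_def, mul_one, ha',
      TensorProduct.tmul_zero]
  | zero => exact TensorProduct.zero_tmul _ _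
  | add y z _ _ hy hz => rw [TensorProduct.add_tmul, hy, hz, add_zero]
  | smul b y _ hy =>
    have : (b • y) ⊗ₜ[A] (1 : κ) = (b ⊗ₜ[A] (1 : κ)) * (y ⊗ₜ[A] (1 : κ)) := by
      rw [Algebra.TensorProduct.tmul_mul_tmul, mul_one, smul_eq_mul]
    rw [this, hy, mul_zero]

/-- if `g ⊗ 1` is a nonzerodivisor on the fibre `B ⊗ κ`, then `g` is regular modulo `pB` -/
theorem mem_map_of_tensor_nzd (p : Ideal A) (hp : RingHom.ker (algebraMap A κ) = p) (g : B)
    (hg : (g ⊗ₜ[A] (1 : κ)) ∈ nonZeroDivisors (B ⊗[A] κ)) (x : B)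
    (hx : g * x ∈ p.map (algebraMap A B)) : x ∈ p.map (algebraMap A B) := by
  have h1 := tmul_one_eq_zero_of_mem A B κ p hp _ hx
  have h2 : (x ⊗ₜ[A] (1 : κ)) = 0 := by
    apply (mem_nonZeroDivisors_iff_right.mp hg)
    rw [Algebra.TensorProduct.tmul_mul_tmul, mul_one, mul_comm]
    exact h1
  -- the injection `A ⧸ p → κ`
  let j : (A ⧸ p) →ₗ[A] κ := Submodule.liftQ p (Algebra.linearMap A κ) (by
    intro a ha
    rw [LinearMap.mem_ker, Algebra.linearMap_apply]
    have : a ∈ RingHom.ker (algebraMap A κ) := by rw [hp]; exact ha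
    exact this)
  have hj : Function.Injective j := by
    rw [← LinearMap.ker_eq_bot]
    apply Submodule.ker_liftQ_eq_bot
    intro a ha
    rw [LinearMap.mem_ker, Algebra.linearMap_apply] at ha
    rw [← hp]
    exact ha
  have hj' : Function.Injective (j.lTensor B) :=
    Module.Flat.lTensor_preserves_injective_linearMap j hj
  have h3 : (x ⊗ₜ[A] (Ideal.Quotient.mk p 1 : A ⧸ p)) = 0 := by
    apply hj'
    rw [LinearMap.lTensor_tmul, map_zero]
    have : j (Ideal.Quotient.mk p 1) = 1 := by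
      show j (Submodule.Quotient.mk 1) = 1
      rw [Submodule.liftQ_apply, Algebra.linearMap_apply, map_one]
    rw [this]
    exact h2
  have h4 := congr_arg (TensorProduct.tensorQuotEquivQuotSMul B p) h3
  rw [map_zero, TensorProduct.tensorQuotEquivQuotSMul_tmul_mk, one_smul,
    Submodule.Quotient.mk_eq_zero, Ideal.smul_top_eq_map] at h4
  exact h4

end Ring

section Scheme

/-- a generator of an effective Cartier ideal on an affine open is a nonzerodivisor -/
theorem gen_nzd {Y : Scheme.{u}} {𝓙 : Y.IdealSheafData} (h : BlowUp.IsEffCartierIdeal 𝓙)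
    (W : Y.affineOpens) (t : Γ(Y, W.1)) (hW : 𝓙.ideal W = Ideal.span {t}) :
    t ∈ nonZeroDivisors Γ(Y, W.1) := by
  rw [mem_nonZeroDivisors_iff_right]
  intro s hs
  refine Y.IsSheaf.section_ext fun y hy ↦ ?_
  obtain ⟨O, hyO, hOW, c, hc, hIc⟩ := Groth.Agent.Helper4.EffCartier.shrink h y W.1 hy
  refine ⟨O.1, hOW, hyO, ?_⟩
  rw [map_zero]
  have hmap := 𝓙.map_ideal (U := O) (V := W) hOW
  rw [hW, Ideal.map_span, Set.image_singleton, hIc] at hmap
  have hnzd : (Y.presheaf.map (homOfLE hOW).op).hom t ∈ nonZeroDivisors Γ(Y, O.1) :=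
    Groth.Agent.Helper4.EffCartier.nzd_of_mem_span c _ hc (hmap ▸ Ideal.subset_span rfl)
  apply (mem_nonZeroDivisors_iff_right.mp hnzd)
  change (Y.presheaf.map (homOfLE hOW).op).hom s * (Y.presheaf.map (homOfLE hOW).op).hom t = 0
  rw [← map_mul, hs, map_zero]

set_option maxHeartbeats 1000000 in
/-- the chart lemma: on an affine chart `U → V` where `𝓘 = (g)`, the element `g ⊗ 1` of the
coordinate ring of the fibre over `s₀ ∈ V` is a nonzerodivisor when the inverse image of `𝓘` on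
the fibre is effective Cartier -/
theorem tensor_nzd_of_fibre {X S : Scheme.{u}} (φ : X ⟶ S) (𝓘 : X.IdealSheafData)
    (s₀ : S) (hfib : BlowUp.IsEffCartierIdeal (𝓘.comap (φ.fiberι s₀)))
    {V : S.Opens} (hV : IsAffineOpen V) {U : X.Opens} (hU : IsAffineOpen U) (e : U ≤ φ ⁻¹ᵁ V)
    (hs₀ : s₀ ∈ V) (g : Γ(X, U)) (hg : 𝓘.ideal ⟨U, hU⟩ = Ideal.span {g}) :
    letI := (φ.appLE V U e).hom.toAlgebra
    letI := (S.evaluation V s₀ hs₀).hom.toAlgebra
    (g ⊗ₜ[Γ(S, V)] (1 : S.residueField s₀)) ∈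
      nonZeroDivisors (Γ(X, U) ⊗[Γ(S, V)] (S.residueField s₀)) := by
  letI := (φ.appLE V U e).hom.toAlgebra
  letI := (S.evaluation V s₀ hs₀).hom.toAlgebra
  obtain ⟨l, hlo, hl1, -⟩ := Groth.Agent.Lib.Helper4.FiberChart.fiberChart φ hV hU e s₀ hs₀
  haveI := hlo
  have hJ := Groth.Agent.Helper2.CartierPull.isEffCartierIdeal_comap_of_flat l _ hfib
  rw [← Scheme.IdealSheafData.comap_comp, hl1] at hJ
  set F : CommRingCat.{u} := .of (Γ(X, U) ⊗[Γ(S, V)] (S.residueField s₀)) with hF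
  set incl : Γ(X, U) ⟶ F := CommRingCat.ofHom
    (Algebra.TensorProduct.includeLeftRingHom :
      Γ(X, U) →+* Γ(X, U) ⊗[Γ(S, V)] (S.residueField s₀)) with hincl
  set h : Spec F ⟶ X := Spec.map incl ≫ hU.fromSpec with hh
  have e' : (⊤ : (Spec F).Opens) ≤ h ⁻¹ᵁ U := by
    intro y _
    show hU.fromSpec ((Spec.map incl) y) ∈ U
    have := hU.fromSpec_preimage_self
    have h2 : (Spec.map incl) y ∈ hU.fromSpec ⁻¹ᵁ U := by rw [this]; trivial
    exact h2
  have hid := Groth.Agent.Helper4.IdealComap.ideal_comap_eq_map h 𝓘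
    ⟨⊤, isAffineOpen_top (Spec F)⟩ ⟨U, hU⟩ e'
  rw [hg, Ideal.map_span, Set.image_singleton] at hid
  have hn := gen_nzd hJ ⟨⊤, isAffineOpen_top (Spec F)⟩ _ hid
  -- identify `h.appLE U ⊤`
  have key : h.appLE U ⊤ e' = incl ≫ (Scheme.ΓSpecIso F).inv := by
    have h1 := IsAffineOpen.SpecMap_appLE_fromSpec h hU (isAffineOpen_top (Spec F)) e'
    rw [IsAffineOpen.fromSpec_top, Scheme.isoSpec_Spec_inv] at h1
    have h2 : Spec.map (Scheme.ΓSpecIso F).inv ≫ h =
        Spec.map (incl ≫ (Scheme.ΓSpecIso F).inv) ≫ hU.fromSpec := by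
      rw [Spec.map_comp, Category.assoc]
    rw [h2, cancel_mono] at h1
    exact Spec.map_injective h1
  rw [key] at hn
  have h3 : (g ⊗ₜ[Γ(S, V)] (1 : S.residueField s₀)) =
      (Scheme.ΓSpecIso F).hom.hom ((incl ≫ (Scheme.ΓSpecIso F).inv).hom g) := by
    rw [CommRingCat.comp_apply, ← CommRingCat.comp_apply, Iso.inv_hom_id]
    rfl
  rw [h3]
  rw [mem_nonZeroDivisors_iff_right] at hn ⊢
  intro z hz
  have hz' : (Scheme.ΓSpecIso F).inv.hom z * (incl ≫ (Scheme.ΓSpecIso F).inv).hom g = 0 := by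
    have := congr_arg (Scheme.ΓSpecIso F).inv.hom hz
    rw [map_mul, map_zero, ← CommRingCat.comp_apply, Iso.hom_inv_id] at this
    exact this
  have := hn _ hz'
  have h5 := congr_arg (Scheme.ΓSpecIso F).hom.hom this
  rw [map_zero, ← CommRingCat.comp_apply, Iso.inv_hom_id] at h5
  exact h5

end Scheme

section Main

variable {X S : Scheme.{u}} (φ : X ⟶ S) [Flat φ] [LocallyOfFinitePresentation φ]
  (𝓘 : X.IdealSheafData)

/-- kernel of the evaluation at the point of an affine open given by a prime -/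
theorem ker_evaluation_fromSpec {W : S.Opens} (hW : IsAffineOpen W) (P : Spec Γ(S, W))
    (hs₀ : hW.fromSpec P ∈ W) :
    RingHom.ker (S.evaluation W (hW.fromSpec P) hs₀).hom = P.asIdeal := by
  ext a
  rw [RingHom.mem_ker]
  have h1 := Scheme.evaluation_eq_zero_iff_notMem_basicOpen S (hW.fromSpec P) hs₀ a
  rw [h1]
  have h2 : hW.fromSpec P ∈ S.basicOpen a ↔ P ∈ hW.fromSpec ⁻¹ᵁ S.basicOpen a := Iff.rfl
  rw [h2, hW.fromSpec_preimage_basicOpen]
  show ¬ (a ∉ P.asIdeal) ↔ _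
  rw [not_not]

set_option maxHeartbeats 1000000 in
/-- affine charts where a fibrewise effective Cartier, principal ideal is generated by a
nonzerodivisor with flat quotient -/
theorem chart_of_principal
    (hfib : ∀ s : ↥S, BlowUp.IsEffCartierIdeal (𝓘.comap (φ.fiberι s)))
    {W : S.Opens} (hW : IsAffineOpen W) {U : X.Opens} (hU : IsAffineOpen U) (e : U ≤ φ ⁻¹ᵁ W)
    (g : Γ(X, U)) (hg : 𝓘.ideal ⟨U, hU⟩ = Ideal.span {g}) :
    g ∈ nonZeroDivisors Γ(X, U) ∧
      ((Ideal.Quotient.mk (Ideal.span {g})).comp (φ.appLE W U e).hom).Flat := by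
  letI alg : Algebra Γ(S, W) Γ(X, U) := (φ.appLE W U e).hom.toAlgebra
  haveI : Algebra.FinitePresentation Γ(S, W) Γ(X, U) := φ.finitePresentation_appLE hW hU e
  haveI : Module.Flat Γ(S, W) Γ(X, U) := φ.flat_appLE hW hU e
  have hR := Groth.Agent.Helper3.FibReg.nzd_and_flat_quot_of_fibre Γ(S, W) Γ(X, U) g
    (fun p hp y hy => by
      let P : Spec Γ(S, W) := ⟨p, hp⟩
      have hs₀ : hW.fromSpec P ∈ W := by
        have := hW.range_fromSpec
        have h2 : hW.fromSpec P ∈ Set.range hW.fromSpec := ⟨P, rfl⟩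
        rw [this] at h2
        exact h2
      letI : Algebra Γ(S, W) (S.residueField (hW.fromSpec P)) :=
        (S.evaluation W (hW.fromSpec P) hs₀).hom.toAlgebra
      have hker : RingHom.ker (algebraMap Γ(S, W) (S.residueField (hW.fromSpec P))) = p :=
        ker_evaluation_fromSpec hW P hs₀
      have hn := tensor_nzd_of_fibre φ 𝓘 (hW.fromSpec P) (hfib _) hW hU e hs₀ g hg
      have hy' := mem_map_of_tensor_nzd Γ(S, W) Γ(X, U) (S.residueField (hW.fromSpec P)) p hker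
        g hn y hy
      refine ⟨1, ?_, ?_⟩
      · exact fun h1 => hp.ne_top ((Ideal.eq_top_iff_one p).mpr h1)
      · rw [map_one, one_mul]
        exact hy')
  refine ⟨hR.1, ?_⟩
  exact (Groth.Agent.Helper4.FlatExact.flat_quot_iff (A := Γ(S, W)) (B := Γ(X, U))
    (Ideal.span {g})).mpr hR.2

/-- away from the support the ideal is the unit ideal on small affine opens -/
theorem ideal_eq_top_of_disjoint_support {U : X.Opens} (hU : IsAffineOpen U)
    (hdis : ∀ y ∈ U, y ∉ 𝓘.support) : 𝓘.ideal ⟨U, hU⟩ = ⊤ := by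
  by_contra hne
  obtain ⟨m, hm, hle⟩ := Ideal.exists_le_maximal _ hne
  let P : Spec Γ(X, U) := ⟨m, hm.isPrime⟩
  have hP : P ∈ PrimeSpectrum.zeroLocus (𝓘.ideal ⟨U, hU⟩ : Set Γ(X, U)) := hle
  have h1 : hU.fromSpec P ∈ X.zeroLocus (𝓘.ideal ⟨U, hU⟩ : Set Γ(X, U)) ∩ U := by
    rw [← hU.fromSpec_image_zeroLocus]
    exact ⟨P, hP, rfl⟩
  have h2 : hU.fromSpec P ∈ 𝓘.support := by
    rw [Scheme.IdealSheafData.mem_support_iff_of_mem (U := ⟨U, hU⟩) h1.2]
    exact h1.1
  exact hdis _ h1.2 h2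

set_option maxHeartbeats 1000000 in
/-- **S8848**: a locally principal ideal sheaf on a flat, locally finitely presented `S`-scheme
which is effective Cartier on all fibres is a relative effective Cartier divisor. -/
theorem S8848_main (hZ : Curv2.IsLocPrincipal 𝓘)
    (hfib : ∀ s : ↥S, BlowUp.IsEffCartierIdeal (𝓘.comap (φ.fiberι s))) :
    BlowUp.IsEffCartierIdeal 𝓘 ∧ Flat (𝓘.subschemeι ≫ φ) := by
  have hchart : ∀ x ∈ 𝓘.support, ∃ (W : S.affineOpens) (U : X.affineOpens)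
      (hUW : U.1 ≤ φ ⁻¹ᵁ W.1), x ∈ U.1 ∧
      ∃ g : Γ(X, U.1), 𝓘.ideal U = Ideal.span {g} ∧ g ∈ nonZeroDivisors Γ(X, U.1) ∧
        ((Ideal.Quotient.mk (Ideal.span {g})).comp (φ.appLE W.1 U.1 hUW).hom).Flat := by
    intro x hx
    obtain ⟨U₀, hxU₀, g₀, hg₀⟩ := hZ x hx
    obtain ⟨W, hW, hxW, -⟩ := Opens.isBasis_iff_nbhd.mp S.isBasis_affineOpens
      (show φ x ∈ (⊤ : S.Opens) from trivial)
    have hx' : x ∈ U₀.1 ⊓ φ ⁻¹ᵁ W := ⟨hxU₀, hxW⟩
    obtain ⟨U, hU, hxU, hUle⟩ := Opens.isBasis_iff_nbhd.mp X.isBasis_affineOpens hx'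
    have hUU₀ : U ≤ U₀.1 := hUle.trans inf_le_left
    have e : U ≤ φ ⁻¹ᵁ W := hUle.trans inf_le_right
    have hg : 𝓘.ideal ⟨U, hU⟩ = Ideal.span {(X.presheaf.map (homOfLE hUU₀).op).hom g₀} := by
      rw [← 𝓘.map_ideal (U := ⟨U, hU⟩) (V := U₀) hUU₀, hg₀, Ideal.map_span, Set.image_singleton]
      rfl
    obtain ⟨h1, h2⟩ := chart_of_principal φ 𝓘 hfib hW hU e _ hg
    exact ⟨⟨W, hW⟩, ⟨U, hU⟩, e, hxU, _, hg, h1, h2⟩
  constructor
  · intro x
    by_cases hx : x ∈ 𝓘.support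
    · obtain ⟨W, U, hUW, hxU, g, hg, hn, -⟩ := hchart x hx
      exact ⟨U, hxU, g, hn, hg⟩
    · have hopen : IsOpen ((𝓘.support : Set X)ᶜ) := 𝓘.support.isClosed.isOpen_compl
      obtain ⟨U, hU, hxU, hUle⟩ := Opens.isBasis_iff_nbhd.mp X.isBasis_affineOpens
        (show x ∈ (⟨_, hopen⟩ : X.Opens) from hx)
      refine ⟨⟨U, hU⟩, hxU, 1, one_mem _, ?_⟩
      rw [Ideal.span_singleton_one]
      exact ideal_eq_top_of_disjoint_support 𝓘 hU (fun y hy => hUle hy)
  · apply Groth.Agent.Helper4.RelEff.flat_of_flat_quot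
    intro z
    have hz : 𝓘.subschemeι z ∈ 𝓘.support := by
      have h1 : 𝓘.subschemeι z ∈ Set.range 𝓘.subschemeι := ⟨z, rfl⟩
      rw [𝓘.range_subschemeι] at h1
      exact h1
    obtain ⟨W, U, hUW, hxU, g, hg, -, hfl⟩ := hchart _ hz
    refine ⟨W, U, hUW, hxU, ?_⟩
    rw [hg]
    exact hfl

end Main

end Groth.Agent.Helper3.FibCart
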