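import Mathlib
import Groth.Agent.Lib.Helper3.FibCart1
import Groth.Agent.Lib.Helper4.RelEffCartierFlat1

/-! Local principality of an ideal with flat quotient from principality on the fibre (helper3). -/

set_option autoImplicit false
set_option backward.isDefEq.respectTransparency.types false
set_option synthInstance.maxHeartbeats 400000
universe u
open scoped TensorProduct

namespace Groth.Agent.Helper3.FibCart

section RingN

variable (A B κ : Type u) [CommRing A] [CommRing B] [Algebra A B] [Field κ] [Algebra A κ]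
variable (p : Ideal A) (hker : RingHom.ker (algebraMap A κ) = p)

include hker in
/-- elements of `A ∖ p` become units in the fibre ring -/
theorem isUnit_algebraMap_tmul (σ : A) (hσ : σ ∉ p) :
    IsUnit ((algebraMap A B σ) ⊗ₜ[A] (1 : κ)) := by
  have h0 : algebraMap A κ σ ≠ 0 := by
    intro h
    apply hσ
    rw [← hker]
    exact h
  have h1 : IsUnit (algebraMap A κ σ) := isUnit_iff_ne_zero.mpr h0
  have h2 : (algebraMap A B σ) ⊗ₜ[A] (1 : κ) =
      (Algebra.TensorProduct.includeRight : κ →ₐ[A] B ⊗[A] κ) (algebraMap A κ σ) := by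
    rw [Algebra.TensorProduct.includeRight_apply, Algebra.algebraMap_eq_smul_one,
      TensorProduct.smul_tmul, Algebra.algebraMap_eq_smul_one]
  rw [h2]
  exact h1.map _

/-- every element of the fibre ring is `b ⊗ 1` up to a unit coming from `A ∖ p` -/
theorem exists_tmul_one [p.IsPrime]
    (hfrac : ∀ c : κ, ∃ σ a : A, σ ∉ p ∧ algebraMap A κ σ * c = algebraMap A κ a)
    (f : B ⊗[A] κ) :
    ∃ (σ : A) (b : B), σ ∉ p ∧ ((algebraMap A B σ) ⊗ₜ[A] (1 : κ)) * f = b ⊗ₜ[A] (1 : κ) := by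
  induction f using TensorProduct.induction_on with
  | zero =>
    refine ⟨1, 0, fun h => (inferInstance : p.IsPrime).ne_top ((Ideal.eq_top_iff_one p).mpr h), ?_⟩
    rw [mul_zero, TensorProduct.zero_tmul]
  | tmul b c =>
    obtain ⟨σ, a, hσ, hc⟩ := hfrac c
    refine ⟨σ, a • b, hσ, ?_⟩
    rw [Algebra.TensorProduct.tmul_mul_tmul, one_mul, ← Algebra.smul_def, TensorProduct.smul_tmul,
      Algebra.smul_def, hc, TensorProduct.smul_tmul, Algebra.algebraMap_eq_smul_one]
  | add f₁ f₂ h₁ h₂ =>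
    obtain ⟨σ₁, b₁, hσ₁, e₁⟩ := h₁
    obtain ⟨σ₂, b₂, hσ₂, e₂⟩ := h₂
    refine ⟨σ₁ * σ₂, algebraMap A B σ₂ * b₁ + algebraMap A B σ₁ * b₂,
      fun h => ((inferInstance : p.IsPrime).mem_or_mem h).elim hσ₁ hσ₂, ?_⟩
    have hm : (algebraMap A B (σ₁ * σ₂)) ⊗ₜ[A] (1 : κ) =
        ((algebraMap A B σ₁) ⊗ₜ[A] (1 : κ)) * ((algebraMap A B σ₂) ⊗ₜ[A] (1 : κ)) := by
      rw [Algebra.TensorProduct.tmul_mul_tmul, mul_one, map_mul]
    rw [hm, mul_add]
    have e₁' : ((algebraMap A B σ₁) ⊗ₜ[A] (1 : κ)) * ((algebraMap A B σ₂) ⊗ₜ[A] (1 : κ)) * f₁ =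
        (algebraMap A B σ₂ * b₁) ⊗ₜ[A] (1 : κ) := by
      rw [mul_comm ((algebraMap A B σ₁) ⊗ₜ[A] (1 : κ)), mul_assoc, e₁,
        Algebra.TensorProduct.tmul_mul_tmul, mul_one]
    have e₂' : ((algebraMap A B σ₁) ⊗ₜ[A] (1 : κ)) * ((algebraMap A B σ₂) ⊗ₜ[A] (1 : κ)) * f₂ =
        (algebraMap A B σ₁ * b₂) ⊗ₜ[A] (1 : κ) := by
      rw [mul_assoc, e₂, Algebra.TensorProduct.tmul_mul_tmul, mul_one]
    rw [e₁', e₂', TensorProduct.add_tmul]

include hker in
/-- kernel of `B → B ⊗ κ` for flat `B` -/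
theorem mem_map_of_tmul_one_eq_zero [Module.Flat A B] (x : B)
    (h2 : (x ⊗ₜ[A] (1 : κ)) = 0) : x ∈ p.map (algebraMap A B) := by
  let j : (A ⧸ p) →ₗ[A] κ := Submodule.liftQ p (Algebra.linearMap A κ) (by
    intro a ha
    rw [LinearMap.mem_ker, Algebra.linearMap_apply]
    have : a ∈ RingHom.ker (algebraMap A κ) := by rw [hker]; exact ha
    exact this)
  have hj : Function.Injective j := by
    rw [← LinearMap.ker_eq_bot]
    apply Submodule.ker_liftQ_eq_bot
    intro a ha
    rw [LinearMap.mem_ker, Algebra.linearMap_apply] at ha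
    rw [← hker]
    exact ha
  have hj' : Function.Injective (j.lTensor B) :=
    Module.Flat.lTensor_preserves_injective_linearMap j hj
  have h3 : (x ⊗ₜ[A] (Ideal.Quotient.mk p 1 : A ⧸ p)) = 0 := by
    apply hj'
    rw [LinearMap.lTensor_tmul, map_zero]
    have : j (Ideal.Quotient.mk p 1) = 1 := by
      show j (Submodule.Quotient.mk 1) = 1
      rw [Submodule.liftQ_apply, Algebra.linearMap_apply, map_one]
    rw [this]
    exact h2
  have h4 := congr_arg (TensorProduct.tensorQuotEquivQuotSMul B p) h3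
  rw [map_zero, TensorProduct.tensorQuotEquivQuotSMul_tmul_mk, one_smul,
    Submodule.Quotient.mk_eq_zero, Ideal.smul_top_eq_map] at h4
  exact h4

/-- if `B ⧸ I` is flat over `A`, then `pB ∩ I = pI` -/
theorem mem_smul_of_flat_quotient (I : Ideal B) [Module.Flat A (B ⧸ I)] (x : B) (hxI : x ∈ I)
    (hxp : x ∈ p.map (algebraMap A B)) : x ∈ p.map (algebraMap A B) * I := by
  -- the exact sequence `0 → I → B → B/I → 0` of `A`-modules
  let g₁ : I →ₗ[A] B := (Submodule.subtype I).restrictScalars A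
  let g₂ : B →ₗ[A] (B ⧸ I) := (Submodule.mkQ I).restrictScalars A
  have hex : Function.Exact g₁ g₂ := by
    intro y
    show Submodule.mkQ I y = 0 ↔ _
    rw [Submodule.mkQ_apply, Submodule.Quotient.mk_eq_zero]
    constructor
    · intro hy; exact ⟨⟨y, hy⟩, rfl⟩
    · rintro ⟨z, rfl⟩; exact z.2
  have hinj := Groth.Agent.Lib.Helper4.RelEffCartierFlat1.lTensor_injective_of_flat_coker g₁ g₂ hex
    (Submodule.mkQ_surjective I) Subtype.val_injective (A ⧸ p)
  -- `1 ⊗ x = 0` in `(A/p) ⊗ I`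
  have h1 : ((Ideal.Quotient.mk p 1 : A ⧸ p) ⊗ₜ[A] (⟨x, hxI⟩ : I)) = 0 := by
    apply hinj
    rw [LinearMap.lTensor_tmul, map_zero]
    show (Ideal.Quotient.mk p 1 : A ⧸ p) ⊗ₜ[A] x = 0
    have h2 := congr_arg (TensorProduct.comm A B (A ⧸ p))
      ((TensorProduct.tensorQuotEquivQuotSMul B p).symm.map_zero)
    have h3 : (x ⊗ₜ[A] (Ideal.Quotient.mk p 1 : A ⧸ p)) = 0 := by
      apply (TensorProduct.tensorQuotEquivQuotSMul B p).injective
      rw [map_zero, TensorProduct.tensorQuotEquivQuotSMul_tmul_mk, one_smul,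
        Submodule.Quotient.mk_eq_zero, Ideal.smul_top_eq_map]
      exact hxp
    have h4 := congr_arg (TensorProduct.comm A B (A ⧸ p)) h3
    rw [TensorProduct.comm_tmul, map_zero] at h4
    exact h4
  have h5 := congr_arg (TensorProduct.comm A (A ⧸ p) I) h1
  rw [TensorProduct.comm_tmul, map_zero] at h5
  have h6 := congr_arg (TensorProduct.tensorQuotEquivQuotSMul I p) h5
  rw [map_zero, TensorProduct.tensorQuotEquivQuotSMul_tmul_mk, one_smul,
    Submodule.Quotient.mk_eq_zero] at h6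
  -- `⟨x, _⟩ ∈ p • ⊤` inside `I`
  have h7 : ∀ z : I, z ∈ p • (⊤ : Submodule A I) → (z : B) ∈ p.map (algebraMap A B) * I := by
    intro z hz
    refine Submodule.smul_induction_on hz ?_ ?_
    · intro a ha w _
      show ((a • w : I) : B) ∈ p.map (algebraMap A B) * I
      rw [Submodule.coe_smul_of_tower, Algebra.smul_def]
      exact Ideal.mul_mem_mul (Ideal.mem_map_of_mem _ ha) w.2
    · intro y z hy hz
      rw [Submodule.coe_add]
      exact Submodule.add_mem _ hy hz
  exact h7 _ h6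

end RingN

section MainN

variable (A B κ : Type u) [CommRing A] [CommRing B] [Algebra A B] [Module.Flat A B]
  [Field κ] [Algebra A κ]
variable (p : Ideal A) [p.IsPrime] (hker : RingHom.ker (algebraMap A κ) = p)
  (hfrac : ∀ c : κ, ∃ σ a : A, σ ∉ p ∧ algebraMap A κ σ * c = algebraMap A κ a)

include hker hfrac in
set_option maxHeartbeats 2000000 in
/-- **local principality**: if `B ⧸ I` is flat over `A`, `I` is finitely generated, and the
extension of `I` to the local ring of the fibre `B ⊗ κ(p)` at a prime `q'` is generated by a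
nonzerodivisor, then `I` is generated by one element in a neighbourhood of `q'`. -/
theorem exists_local_generator (I : Ideal B) (hIfg : I.FG) [Module.Flat A (B ⧸ I)]
    (q' : Ideal (B ⊗[A] κ)) [q'.IsPrime]
    (t : Localization.AtPrime q') (ht : t ∈ nonZeroDivisors (Localization.AtPrime q'))
    (hI : (I.map (Algebra.TensorProduct.includeLeftRingHom : B →+* B ⊗[A] κ)).map
      (algebraMap (B ⊗[A] κ) (Localization.AtPrime q')) = Ideal.span {t}) :
    ∃ g ∈ I, ∃ h : B, (h ⊗ₜ[A] (1 : κ)) ∉ q' ∧ ∀ i ∈ I, ∃ b : B, h * i = g * b := by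
  classical
  let incl : B →+* B ⊗[A] κ := Algebra.TensorProduct.includeLeftRingHom
  let ψ : B ⊗[A] κ →+* Localization.AtPrime q' :=
    algebraMap (B ⊗[A] κ) (Localization.AtPrime q')
  let q : Ideal B := q'.comap incl
  haveI hqprime : q.IsPrime := Ideal.comap_isPrime incl q'
  have hincl : ∀ x : B, incl x = x ⊗ₜ[A] (1 : κ) := fun x => rfl
  have hmem : ∀ i ∈ I, ψ (incl i) ∈ Ideal.span {t} := fun i hi => by
    rw [← hI]
    exact Ideal.mem_map_of_mem _ (Ideal.mem_map_of_mem _ hi)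
  -- (a) a generator coming from `I`
  obtain ⟨g, hgI, d, hd, hgd⟩ : ∃ g ∈ I, ∃ d : Localization.AtPrime q', IsUnit d ∧
      ψ (incl g) = d * t := by
    by_contra hcon
    push Not at hcon
    have hK : ∀ i ∈ I, ψ (incl i) ∈
        IsLocalRing.maximalIdeal (Localization.AtPrime q') * Ideal.span {t} := by
      intro i hi
      obtain ⟨d, hd⟩ := Ideal.mem_span_singleton'.mp (hmem i hi)
      rw [Ideal.mem_mul_span_singleton]
      refine ⟨d, ?_, hd⟩
      rw [IsLocalRing.mem_maximalIdeal, mem_nonunits_iff]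
      exact fun hu => hcon i hi d hu hd.symm
    have hle : (I.map incl).map ψ ≤
        IsLocalRing.maximalIdeal (Localization.AtPrime q') * Ideal.span {t} := by
      rw [Ideal.map_map, Ideal.map_le_iff_le_comap]
      intro i hi
      exact hK i hi
    have hI' : (I.map incl).map ψ = Ideal.span {t} := hI
    rw [hI'] at hle
    have ht' := hle (Ideal.subset_span rfl)
    obtain ⟨d, hdm, hdt⟩ := Ideal.mem_mul_span_singleton.mp ht'
    have h1 : (1 - d) * t = 0 := by rw [sub_mul, one_mul, hdt, sub_self]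
    have h2 : 1 - d = 0 := mem_nonZeroDivisors_iff_right.mp ht _ h1
    have h3 : d = 1 := (sub_eq_zero.mp h2).symm
    rw [h3] at hdm
    exact (IsLocalRing.maximalIdeal.isMaximal (Localization.AtPrime q')).ne_top
      ((Ideal.eq_top_iff_one _).mpr hdm)
  -- (b) congruences modulo `pB`
  have hstep : ∀ i ∈ I, ∃ (h b : B), incl h ∉ q' ∧ h * i - g * b ∈ p.map (algebraMap A B) := by
    intro i hi
    obtain ⟨e, he⟩ := Ideal.mem_span_singleton'.mp (hmem i hi)
    obtain ⟨du, hdu⟩ := hd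
    have ht_eq : t = ↑du⁻¹ * ψ (incl g) := by
      rw [hgd, ← hdu, ← mul_assoc, Units.inv_mul, one_mul]
    obtain ⟨⟨f₁, f₂⟩, hf⟩ := IsLocalization.surj q'.primeCompl (e * ↑du⁻¹)
    have hf' : e * ↑du⁻¹ * ψ (f₂ : B ⊗[A] κ) = ψ f₁ := hf
    have h1 : ψ ((f₂ : B ⊗[A] κ) * incl i) = ψ (f₁ * incl g) := by
      rw [map_mul, map_mul, ← he, ← hf']
      conv_lhs => rw [ht_eq]
      ring
    obtain ⟨f₃, hf₃⟩ := IsLocalization.exists_of_eq (M := q'.primeCompl) h1
    have hf₃' : (f₃ : B ⊗[A] κ) * ((f₂ : B ⊗[A] κ) * incl i) =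
        (f₃ : B ⊗[A] κ) * (f₁ * incl g) := hf₃
    obtain ⟨σ₂, b₂, hσ₂, e₂⟩ := exists_tmul_one A B κ p hfrac
      ((f₃ : B ⊗[A] κ) * (f₂ : B ⊗[A] κ))
    obtain ⟨σ₁, b₁, hσ₁, e₁⟩ := exists_tmul_one A B κ p hfrac ((f₃ : B ⊗[A] κ) * f₁)
    have e₂' : incl (algebraMap A B σ₂) * ((f₃ : B ⊗[A] κ) * (f₂ : B ⊗[A] κ)) = incl b₂ := e₂
    have e₁' : incl (algebraMap A B σ₁) * ((f₃ : B ⊗[A] κ) * f₁) = incl b₁ := e₁
    have hu₁ : IsUnit (incl (algebraMap A B σ₁)) := isUnit_algebraMap_tmul A B κ p hker σ₁ hσ₁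
    have hu₂ : IsUnit (incl (algebraMap A B σ₂)) := isUnit_algebraMap_tmul A B κ p hker σ₂ hσ₂
    have hq'ne : q' ≠ ⊤ := (inferInstance : q'.IsPrime).ne_top
    refine ⟨algebraMap A B σ₁ * b₂, algebraMap A B σ₂ * b₁, ?_, ?_⟩
    · rw [map_mul, ← e₂']
      intro hmem'
      rcases (inferInstance : q'.IsPrime).mem_or_mem hmem' with h | h
      · exact hq'ne (Ideal.eq_top_of_isUnit_mem _ h hu₁)
      · rcases (inferInstance : q'.IsPrime).mem_or_mem h with h | h
        · exact hq'ne (Ideal.eq_top_of_isUnit_mem _ h hu₂)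
        · rcases (inferInstance : q'.IsPrime).mem_or_mem h with h | h
          · exact f₃.2 h
          · exact f₂.2 h
    · apply mem_map_of_tmul_one_eq_zero A B κ p hker
      rw [← hincl]
      have : incl (algebraMap A B σ₁ * b₂ * i - g * (algebraMap A B σ₂ * b₁)) =
          incl (algebraMap A B σ₁) * incl (algebraMap A B σ₂) *
            ((f₃ : B ⊗[A] κ) * ((f₂ : B ⊗[A] κ) * incl i) -
              (f₃ : B ⊗[A] κ) * (f₁ * incl g)) := by
        rw [map_sub, map_mul, map_mul, map_mul, map_mul, ← e₂', ← e₁']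
        ring
      rw [this, hf₃', sub_self, mul_zero]
  -- (c), (d): Nakayama in `B_q`
  have hpq : p.map (algebraMap A B) ≤ q := by
    rw [Ideal.map_le_iff_le_comap]
    intro a ha
    show incl (algebraMap A B a) ∈ q'
    have h0 : incl (algebraMap A B a) = 0 :=
      tmul_one_eq_zero_of_mem A B κ p hker _ (Ideal.mem_map_of_mem _ ha)
    rw [h0]
    exact zero_mem _
  have hN : I.map (algebraMap B (Localization.AtPrime q)) ≤
      Ideal.span {algebraMap B (Localization.AtPrime q) g} := by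
    apply Submodule.le_of_le_smul_of_le_jacobson_bot
      (I := IsLocalRing.maximalIdeal (Localization.AtPrime q)) (hIfg.map _)
      (IsLocalRing.maximalIdeal_le_jacobson _)
    rw [Ideal.map_le_iff_le_comap]
    intro i hi
    obtain ⟨h, b, hh, hhb⟩ := hstep i hi
    have hy := mem_smul_of_flat_quotient A B p I (h * i - g * b)
      (I.sub_mem (I.mul_mem_left _ hi) (I.mul_mem_right _ hgI)) hhb
    have hhq : h ∈ q.primeCompl := hh
    have hu : IsUnit (algebraMap B (Localization.AtPrime q) h) :=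
      IsLocalization.map_units (Localization.AtPrime q) (⟨h, hhq⟩ : q.primeCompl)
    rw [Ideal.mem_comap, ← Ideal.unit_mul_mem_iff_mem _ hu, ← map_mul]
    have hsplit : h * i = g * b + (h * i - g * b) := by ring
    rw [hsplit, map_add]
    apply Submodule.add_mem
    · apply Submodule.mem_sup_left
      rw [map_mul]
      exact Ideal.mul_mem_right _ _ (Ideal.subset_span rfl)
    · apply Submodule.mem_sup_right
      have h1 := Ideal.mem_map_of_mem (algebraMap B (Localization.AtPrime q)) hy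
      rw [Ideal.map_mul] at h1
      rw [smul_eq_mul]
      refine Ideal.mul_mono_left ?_ h1
      rw [← Localization.AtPrime.map_eq_maximalIdeal]
      exact Ideal.map_mono hpq
  have hloc : ∀ i ∈ I, ∃ h : B, h ∉ q ∧ ∃ b, h * i = g * b := by
    intro i hi
    have h1 : algebraMap B (Localization.AtPrime q) i ∈
        Ideal.span {algebraMap B (Localization.AtPrime q) g} := hN (Ideal.mem_map_of_mem _ hi)
    obtain ⟨c, hc⟩ := Ideal.mem_span_singleton'.mp h1
    obtain ⟨⟨b, s⟩, hbs⟩ := IsLocalization.surj q.primeCompl c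
    have hbs' : c * algebraMap B (Localization.AtPrime q) (s : B) =
        algebraMap B (Localization.AtPrime q) b := hbs
    have h2 : algebraMap B (Localization.AtPrime q) ((s : B) * i) =
        algebraMap B (Localization.AtPrime q) (g * b) := by
      rw [map_mul, map_mul, ← hc, ← hbs']
      ring
    obtain ⟨u, hu⟩ := IsLocalization.exists_of_eq (M := q.primeCompl) h2
    have hu' : (u : B) * ((s : B) * i) = (u : B) * (g * b) := hu
    refine ⟨(u : B) * (s : B), (u * s).2, (u : B) * b, ?_⟩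
    rw [mul_assoc, hu']
    ring
  -- (e) finitely many generators
  obtain ⟨T, hT⟩ := hIfg
  choose! hfun hfun_spec using hloc
  refine ⟨g, hgI, ∏ i ∈ T, hfun i, ?_, ?_⟩
  · show (∏ i ∈ T, hfun i) ∉ q
    rw [Ideal.IsPrime.prod_mem_iff]
    rintro ⟨i, hiT, hiq⟩
    have hiI : i ∈ I := by rw [← hT]; exact Ideal.subset_span hiT
    exact (hfun_spec i hiI).1 hiq
  · intro i hi
    rw [← hT] at hi
    induction hi using Submodule.span_induction with
    | mem x hx =>
      have hxI : x ∈ I := by rw [← hT]; exact Ideal.subset_span hx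
      obtain ⟨b, hb⟩ := (hfun_spec x hxI).2
      refine ⟨(∏ i ∈ T.erase x, hfun i) * b, ?_⟩
      rw [← Finset.mul_prod_erase T hfun hx, mul_comm (hfun x), mul_assoc, hb]
      ring
    | zero => exact ⟨0, by rw [mul_zero, mul_zero]⟩
    | add x y _ _ hx hy =>
      obtain ⟨b₁, hb₁⟩ := hx
      obtain ⟨b₂, hb₂⟩ := hy
      exact ⟨b₁ + b₂, by rw [mul_add, hb₁, hb₂, mul_add]⟩
    | smul c x _ hx =>
      obtain ⟨b, hb⟩ := hx
      exact ⟨c * b, by rw [smul_eq_mul, mul_left_comm, hb]; ring⟩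

end MainN

end Groth.Agent.Helper3.FibCart
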