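import Mathlib
import Groth.Agent.Lib.Helper3.FibCart2
import Groth.Agent.Lib.Helper4.RadBir3

/-! S8847: a closed subscheme flat and locally finitely presented over the base which is
effective Cartier on the fibres is a relative effective Cartier divisor (helper3). -/

set_option autoImplicit false
set_option backward.isDefEq.respectTransparency.types false
set_option synthInstance.maxHeartbeats 400000
universe u
open CategoryTheory CategoryTheory.Limits AlgebraicGeometry TopologicalSpace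
open scoped TensorProduct

namespace Groth.Agent.Helper3.FibCart

/-- the comorphism of `Spec F → Spec Γ(X, U) → X` on `U` -/
theorem appLE_SpecMap_fromSpec {X : Scheme.{u}} {U : X.Opens} (hU : IsAffineOpen U)
    {F : CommRingCat.{u}} (incl : Γ(X, U) ⟶ F)
    (e' : (⊤ : (Spec F).Opens) ≤ (Spec.map incl ≫ hU.fromSpec) ⁻¹ᵁ U) :
    (Spec.map incl ≫ hU.fromSpec).appLE U ⊤ e' = incl ≫ (Scheme.ΓSpecIso F).inv := by
  have h1 := IsAffineOpen.SpecMap_appLE_fromSpec (Spec.map incl ≫ hU.fromSpec) hU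
    (isAffineOpen_top (Spec F)) e'
  rw [IsAffineOpen.fromSpec_top, Scheme.isoSpec_Spec_inv] at h1
  have h2 : Spec.map (Scheme.ΓSpecIso F).inv ≫ (Spec.map incl ≫ hU.fromSpec) =
      Spec.map (incl ≫ (Scheme.ΓSpecIso F).inv) ≫ hU.fromSpec := by
    rw [Spec.map_comp, Category.assoc]
  rw [h2, cancel_mono] at h1
  exact Spec.map_injective h1

section FG

variable {X S : Scheme.{u}} (φ : X ⟶ S) [LocallyOfFinitePresentation φ] (𝓘 : X.IdealSheafData)
  [LocallyOfFinitePresentation (𝓘.subschemeι ≫ φ)]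

/-- the ideal of a closed subscheme locally of finite presentation over the base, inside a scheme
locally of finite presentation over the base, is finitely generated on affine charts -/
theorem ideal_fg_of_lfp {W : S.Opens} (hW : IsAffineOpen W) {U : X.Opens} (hU : IsAffineOpen U)
    (e : U ≤ φ ⁻¹ᵁ W) : (𝓘.ideal ⟨U, hU⟩).FG := by
  have hιU : IsAffineOpen (𝓘.subschemeι ⁻¹ᵁ U) := hU.preimage 𝓘.subschemeι
  have e1 : 𝓘.subschemeι ⁻¹ᵁ U ≤ (𝓘.subschemeι ≫ φ) ⁻¹ᵁ W := fun y hy => e hy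
  have h := (𝓘.subschemeι ≫ φ).finitePresentation_appLE hW hιU e1
  rw [Groth.Agent.Helper4.RelEff.appLE_comp_ι φ 𝓘 W ⟨U, hU⟩ e e1] at h
  have hbij : Function.Bijective (𝓘.subschemeObjIso ⟨U, hU⟩).hom.hom :=
    ConcreteCategory.bijective_of_isIso (𝓘.subschemeObjIso ⟨U, hU⟩).hom
  have hiso : ((𝓘.subschemeObjIso ⟨U, hU⟩).hom.hom).FinitePresentation :=
    RingHom.FinitePresentation.of_surjective _ hbij.2 (by
      rw [(RingHom.injective_iff_ker_eq_bot _).mp hbij.1]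
      exact Submodule.fg_bot)
  have h2 : ((Ideal.Quotient.mk (𝓘.ideal ⟨U, hU⟩)).comp (φ.appLE W U e).hom).FinitePresentation := by
    have h3 := hiso.comp h
    have h4 : ((𝓘.subschemeObjIso ⟨U, hU⟩).hom.hom).comp
        (((𝓘.subschemeObjIso ⟨U, hU⟩).inv.hom).comp
          ((Ideal.Quotient.mk (𝓘.ideal ⟨U, hU⟩)).comp (φ.appLE W U e).hom)) =
        (Ideal.Quotient.mk (𝓘.ideal ⟨U, hU⟩)).comp (φ.appLE W U e).hom := by
      ext a
      show (𝓘.subschemeObjIso ⟨U, hU⟩).hom.hom ((𝓘.subschemeObjIso ⟨U, hU⟩).inv.hom _) = _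
      rw [← CommRingCat.comp_apply, Iso.inv_hom_id]
      rfl
    rw [h4] at h3
    exact h3
  letI alg : Algebra Γ(S, W) Γ(X, U) := (φ.appLE W U e).hom.toAlgebra
  haveI : Algebra.FinitePresentation Γ(S, W) Γ(X, U) := φ.finitePresentation_appLE hW hU e
  have key : (Ideal.Quotient.algebra Γ(S, W) : Algebra Γ(S, W) (Γ(X, U) ⧸ 𝓘.ideal ⟨U, hU⟩)) =
      ((Ideal.Quotient.mk (𝓘.ideal ⟨U, hU⟩)).comp (algebraMap Γ(S, W) Γ(X, U))).toAlgebra :=
    Algebra.algebra_ext _ _ (fun r => rfl)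
  haveI : Algebra.FinitePresentation Γ(S, W) (Γ(X, U) ⧸ 𝓘.ideal ⟨U, hU⟩) := by
    have h2' : ((Ideal.Quotient.mk (𝓘.ideal ⟨U, hU⟩)).comp
        (algebraMap Γ(S, W) Γ(X, U))).FinitePresentation := h2
    rw [RingHom.FinitePresentation, ← key] at h2'
    exact h2'
  have h5 := Algebra.FinitePresentation.ker_fG_of_surjective
    (Ideal.Quotient.mkₐ Γ(S, W) (𝓘.ideal ⟨U, hU⟩)) (Ideal.Quotient.mkₐ_surjective _ _)
  have h6 : RingHom.ker (Ideal.Quotient.mkₐ Γ(S, W) (𝓘.ideal ⟨U, hU⟩)).toRingHom =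
      𝓘.ideal ⟨U, hU⟩ := Ideal.Quotient.mkₐ_ker Γ(S, W) (𝓘.ideal ⟨U, hU⟩)
  rw [h6] at h5
  exact h5

end FG

section Main

variable {X S : Scheme.{u}} (φ : X ⟶ S) [Flat φ] [LocallyOfFinitePresentation φ]
  (𝓘 : X.IdealSheafData) [Flat (𝓘.subschemeι ≫ φ)]
  [LocallyOfFinitePresentation (𝓘.subschemeι ≫ φ)]

set_option maxHeartbeats 2000000 in
/-- local principality of the ideal near a point, on a basic open of a given affine chart -/
theorem locPrincipal_at
    (hfib : ∀ s : ↥S, BlowUp.IsEffCartierIdeal (𝓘.comap (φ.fiberι s)))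
    {W : S.Opens} (hW : IsAffineOpen W) {U : X.Opens} (hU : IsAffineOpen U) (e : U ≤ φ ⁻¹ᵁ W)
    (x : X) (hxU : x ∈ U) :
    ∃ h : Γ(X, U), x ∈ X.basicOpen h ∧ ∃ g : Γ(X, X.basicOpen h),
      𝓘.ideal (X.affineBasicOpen (U := ⟨U, hU⟩) h) = Ideal.span {g} := by
  have hs₀ : φ x ∈ W := e hxU
  letI algAB : Algebra Γ(S, W) Γ(X, U) := (φ.appLE W U e).hom.toAlgebra
  letI algAκ : Algebra Γ(S, W) (S.residueField (φ x)) := (S.evaluation W (φ x) hs₀).hom.toAlgebra
  haveI : Module.Flat Γ(S, W) Γ(X, U) := φ.flat_appLE hW hU e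
  have hIfg : (𝓘.ideal ⟨U, hU⟩).FG := ideal_fg_of_lfp φ 𝓘 hW hU e
  haveI : Module.Flat Γ(S, W) (Γ(X, U) ⧸ 𝓘.ideal ⟨U, hU⟩) :=
    (Groth.Agent.Helper4.FlatExact.flat_quot_iff (A := Γ(S, W)) (B := Γ(X, U))
      (𝓘.ideal ⟨U, hU⟩)).mp
      (Groth.Agent.Helper4.RelEff.flat_quot_of_flat φ 𝓘 inferInstance ⟨W, hW⟩ ⟨U, hU⟩ e)
  have hker : RingHom.ker (algebraMap Γ(S, W) (S.residueField (φ x))) =
      (hW.primeIdealOf ⟨φ x, hs₀⟩).asIdeal :=
    Groth.Agent.Lib.Helper4.NormFibre2.ker_rho hW (φ x) hs₀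
  have hfrac : ∀ c : S.residueField (φ x), ∃ σ a : Γ(S, W),
      σ ∉ (hW.primeIdealOf ⟨φ x, hs₀⟩).asIdeal ∧
      algebraMap Γ(S, W) (S.residueField (φ x)) σ * c =
        algebraMap Γ(S, W) (S.residueField (φ x)) a :=
    fun c => Groth.Agent.Lib.Helper4.RadBir3.exists_frac_rho hW (φ x) hs₀ c
  -- the chart of the fibre
  set F : CommRingCat.{u} := .of (Γ(X, U) ⊗[Γ(S, W)] (S.residueField (φ x))) with hF
  set incl : Γ(X, U) ⟶ F := CommRingCat.ofHom
    (Algebra.TensorProduct.includeLeftRingHom :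
      Γ(X, U) →+* Γ(X, U) ⊗[Γ(S, W)] (S.residueField (φ x))) with hincl
  set hh : Spec F ⟶ X := Spec.map incl ≫ hU.fromSpec with hhdef
  obtain ⟨l, hlo, hl1, hlr⟩ : ∃ l : Spec F ⟶ φ.fiber (φ x), IsOpenImmersion l ∧
      l ≫ φ.fiberι (φ x) = hh ∧ Set.range l = (φ.fiberι (φ x)) ⁻¹' U :=
    Groth.Agent.Lib.Helper4.FiberChart.fiberChart φ hW hU e (φ x) hs₀
  haveI := hlo
  have hJ := Groth.Agent.Helper2.CartierPull.isEffCartierIdeal_comap_of_flat l _ (hfib (φ x))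
  rw [← Scheme.IdealSheafData.comap_comp, hl1] at hJ
  -- the point `y` over `x`
  obtain ⟨x', hx'⟩ : ∃ x' : φ.fiber (φ x), φ.fiberι (φ x) x' = x := by
    have h1 : x ∈ Set.range (φ.fiberι (φ x)) := by
      rw [φ.range_fiberι]
      rfl
    exact h1
  have hx'U : x' ∈ Set.range l := by
    rw [hlr]
    show φ.fiberι (φ x) x' ∈ U
    rw [hx']
    exact hxU
  obtain ⟨y, hy⟩ := hx'U
  have hyx : hh y = x := by
    rw [← hl1, Scheme.Hom.comp_apply, hy, hx']
  -- the ideal on `Spec F`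
  have e' : (⊤ : (Spec F).Opens) ≤ hh ⁻¹ᵁ U := by
    intro z _
    show hU.fromSpec ((Spec.map incl) z) ∈ U
    have h2 : (Spec.map incl) z ∈ hU.fromSpec ⁻¹ᵁ U := by
      rw [hU.fromSpec_preimage_self]; trivial
    exact h2
  have hid := Groth.Agent.Helper4.IdealComap.ideal_comap_eq_map hh 𝓘
    ⟨⊤, isAffineOpen_top (Spec F)⟩ ⟨U, hU⟩ e'
  have hkey : hh.appLE U ⊤ e' = incl ≫ (Scheme.ΓSpecIso F).inv :=
    appLE_SpecMap_fromSpec hU incl e'
  obtain ⟨O, hyO, t, ht, hOt⟩ := hJ y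
  have hOle : O ≤ (⟨⊤, isAffineOpen_top (Spec F)⟩ : (Spec F).affineOpens) :=
    (le_top : O.1 ≤ ⊤)
  have hO := ((𝓘.comap hh).map_ideal (U := O) (V := ⟨⊤, isAffineOpen_top (Spec F)⟩) hOle)
  rw [hOt, hid] at hO
  -- pass to the stalk and to the localization
  let γ : Γ(Spec F, O.1) →+* (Spec F).presheaf.stalk y := ((Spec F).presheaf.germ O.1 y hyO).hom
  let τ : (Spec F).presheaf.stalk y →+* Localization.AtPrime y.asIdeal :=
    (Spec.stalkIso F y).hom.hom
  have hτγ : ∀ b : Γ(X, U),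
      τ (γ (((Spec F).presheaf.map (homOfLE (le_top : O.1 ≤ ⊤)).op).hom
        ((hh.appLE U ⊤ e').hom b))) =
      algebraMap (Γ(X, U) ⊗[Γ(S, W)] (S.residueField (φ x))) (Localization.AtPrime y.asIdeal)
        (incl.hom b) := by
    intro b
    rw [hkey]
    have h1 : γ (((Spec F).presheaf.map (homOfLE (le_top : O.1 ≤ ⊤)).op).hom
        ((incl ≫ (Scheme.ΓSpecIso F).inv).hom b)) =
        ((Spec F).presheaf.germ ⊤ y trivial).hom ((incl ≫ (Scheme.ΓSpecIso F).inv).hom b) :=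
      TopCat.Presheaf.germ_res_apply (Spec F).presheaf (homOfLE (le_top : O.1 ≤ ⊤)) y hyO _
    rw [h1]
    have h2 := Spec.algebraMap_stalkIso_inv (R := F) (x := y)
    have h3 : ((Spec F).presheaf.germ ⊤ y trivial).hom
        ((Scheme.ΓSpecIso F).inv.hom (incl.hom b)) =
        (Spec.stalkIso F y).inv.hom
          (algebraMap F (Localization.AtPrime y.asIdeal) (incl.hom b)) := by
      have h4 := congr_arg (fun f => f.hom (incl.hom b)) h2
      exact h4.symm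
    show τ (((Spec F).presheaf.germ ⊤ y trivial).hom
      ((Scheme.ΓSpecIso F).inv.hom (incl.hom b))) = _
    rw [h3]
    show (Spec.stalkIso F y).hom.hom ((Spec.stalkIso F y).inv.hom _) = _
    rw [← CommRingCat.comp_apply, Iso.inv_hom_id]
    rfl
  have hI' : ((𝓘.ideal ⟨U, hU⟩).map (Algebra.TensorProduct.includeLeftRingHom :
      Γ(X, U) →+* Γ(X, U) ⊗[Γ(S, W)] (S.residueField (φ x)))).map
      (algebraMap (Γ(X, U) ⊗[Γ(S, W)] (S.residueField (φ x)))
        (Localization.AtPrime y.asIdeal)) = Ideal.span {τ (γ t)} := by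
    have h1 : Ideal.span {τ (γ t)} = ((Ideal.span {t}).map γ).map τ := by
      rw [Ideal.map_span, Set.image_singleton, Ideal.map_span, Set.image_singleton]
    rw [h1, ← hO, Ideal.map_map, Ideal.map_map, Ideal.map_map, Ideal.map_map]
    congr 1
    ext b
    exact (hτγ b).symm
  have hnzd : τ (γ t) ∈ nonZeroDivisors (Localization.AtPrime y.asIdeal) := by
    have h1 : γ t ∈ nonZeroDivisors ((Spec F).presheaf.stalk y) :=
      Groth.Agent.Helper4.EffCartier.germ_nzd O.1 O.2 t ht y hyO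
    rw [mem_nonZeroDivisors_iff_right] at h1 ⊢
    intro z hz
    have hz' : (Spec.stalkIso F y).inv.hom z * γ t = 0 := by
      have h2 := congr_arg (Spec.stalkIso F y).inv.hom hz
      rw [map_mul, map_zero] at h2
      have h3 : (Spec.stalkIso F y).inv.hom (τ (γ t)) = γ t := by
        show (Spec.stalkIso F y).inv.hom ((Spec.stalkIso F y).hom.hom (γ t)) = γ t
        rw [← CommRingCat.comp_apply, Iso.hom_inv_id]
        rfl
      rw [h3] at h2
      exact h2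
    have h4 := h1 _ hz'
    have h5 := congr_arg (Spec.stalkIso F y).hom.hom h4
    rw [map_zero, ← CommRingCat.comp_apply, Iso.inv_hom_id] at h5
    exact h5
  obtain ⟨g, hgI, h, hhq, hall⟩ := exists_local_generator Γ(S, W) Γ(X, U) (S.residueField (φ x))
    (hW.primeIdealOf ⟨φ x, hs₀⟩).asIdeal hker hfrac (𝓘.ideal ⟨U, hU⟩) hIfg y.asIdeal
    (τ (γ t)) hnzd hI'
  refine ⟨h, ?_, ?_⟩
  · -- `x ∈ D(h)`
    rw [← hyx]
    show (Spec.map incl) y ∈ hU.fromSpec ⁻¹ᵁ X.basicOpen h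
    rw [hU.fromSpec_preimage_basicOpen]
    exact hhq
  · refine ⟨(X.presheaf.map (homOfLE (X.basicOpen_le h)).op).hom g, ?_⟩
    rw [← 𝓘.map_ideal_basicOpen ⟨U, hU⟩ h]
    apply le_antisymm
    · refine Ideal.map_le_iff_le_comap.mpr (fun i hi => ?_)
      obtain ⟨b, hb⟩ := hall i hi
      rw [Ideal.mem_comap]
      have hu : IsUnit ((X.presheaf.map (homOfLE (X.basicOpen_le h)).op).hom h) :=
        RingedSpace.isUnit_res_basicOpen X.toRingedSpace h
      rw [← Ideal.unit_mul_mem_iff_mem _ hu, ← map_mul, hb, map_mul]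
      exact Ideal.mul_mem_right _ _ (Ideal.subset_span rfl)
    · refine (Ideal.span_singleton_le_iff_mem _).mpr ?_
      exact Ideal.mem_map_of_mem _ hgI

/-- **S8847** -/
theorem S8847_main (hfib : ∀ s : ↥S, BlowUp.IsEffCartierIdeal (𝓘.comap (φ.fiberι s))) :
    BlowUp.IsEffCartierIdeal 𝓘 := by
  have hZ : Curv2.IsLocPrincipal 𝓘 := by
    intro x _
    obtain ⟨W, hW, hxW, -⟩ := Opens.isBasis_iff_nbhd.mp S.isBasis_affineOpens
      (show φ x ∈ (⊤ : S.Opens) from trivial)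
    obtain ⟨U, hU, hxU, hUle⟩ := Opens.isBasis_iff_nbhd.mp X.isBasis_affineOpens
      (show x ∈ φ ⁻¹ᵁ W from hxW)
    obtain ⟨h, hxh, g, hg⟩ := locPrincipal_at φ 𝓘 hfib hW hU hUle x hxU
    exact ⟨X.affineBasicOpen (U := ⟨U, hU⟩) h, hxh, g, hg⟩
  exact (S8848_main φ 𝓘 hZ hfib).1

end Main

end Groth.Agent.Helper3.FibCart
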