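import Mathlib
import Groth.Agent.Lib.Helper3.FibCrit2
import Groth.Agent.Lib.Lead.CritFib20

/-! Smoothness near a fibre from smoothness of the map of fibres. -/

set_option autoImplicit false
universe u
namespace Groth.Agent.Helper3.FibCrit

open CategoryTheory CategoryTheory.Limits AlgebraicGeometry Opposite
open Groth.Agent.Lead.CritFib Groth.Agent.Lib.Helper6.EtLoc

variable {X Y S : Scheme.{u}}

theorem mem_smoothLocus_of_fibre (g : Y ⟶ S) (f : X ⟶ Y)
    [LocallyOfFinitePresentation g] [LocallyOfFinitePresentation (f ≫ g)] [Flat (f ≫ g)]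
    [LocallyOfFinitePresentation f]
    (x : X) (hs : Smooth (pullback.snd f (g.fiberι ((f ≫ g) x)))) :
    x ∈ f.smoothLocus := by
  haveI : LocallyOfFinitePresentation (MoreMor.fiberMap f g ((f ≫ g) x)) :=
    locallyOfFinitePresentation_fiberMap f g _
  have h1 : Smooth (MoreMor.fiberMap f g ((f ≫ g) x)) := by
    rw [← (isPullback_fiberMap f g ((f ≫ g) x)).isoPullback_hom_snd]
    infer_instance
  have h2 : (f ≫ g).asFiber x ∈ (MoreMor.fiberMap f g ((f ≫ g) x)).smoothLocus := by
    rw [(Scheme.Hom.smoothLocus_eq_top_iff (f := MoreMor.fiberMap f g ((f ≫ g) x))).mpr h1]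
    trivial
  have h3 := (mem_smoothLocus_fiberMap_iff f g ((f ≫ g) x) ((f ≫ g).asFiber x)
    (Flat.stalkMap (f ≫ g) _)).mp h2
  rwa [(f ≫ g).fiberι_asFiber x] at h3

theorem S16049_main (g : Y ⟶ S) (h : X ⟶ S)
    [LocallyOfFinitePresentation g] [LocallyOfFinitePresentation h] [Flat h]
    (f : X ⟶ Y) (w : f ≫ g = h) (s : S) (hs : Smooth (pullback.snd f (g.fiberι s))) :
    ∃ U : X.Opens, (∀ x : X, h.base x = s → x ∈ U) ∧ Smooth (U.ι ≫ f) := by
  subst w
  haveI : LocallyOfFinitePresentation f := locallyOfFinitePresentation_of_comp f g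
  refine ⟨f.smoothLocus, fun x hx => ?_, ?_⟩
  · subst hx
    exact mem_smoothLocus_of_fibre g f x hs
  · exact smooth_of_forall_mem_smoothLocus _ f fun v => v.2

end Groth.Agent.Helper3.FibCrit
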