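import Mathlib
import Groth.Agent.Lib.Helper6.EtLoc.SmoothBC

/-! The locus of smooth fibres of a proper flat finitely presented morphism is open. -/

set_option autoImplicit false
universe u
namespace Groth.Agent.Helper3.FibCrit

open CategoryTheory CategoryTheory.Limits AlgebraicGeometry Opposite
open Groth.Agent.Lib.Helper6.EtLoc

variable {X Y : Scheme.{u}}

theorem smooth_fibre_iff (f : X ⟶ Y) [Flat f] [LocallyOfFinitePresentation f] (y : Y) :
    Smooth (f.fiberToSpecResidueField y) ↔ ∀ x : X, f x = y → x ∈ f.smoothLocus := by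
  haveI : LocallyOfFinitePresentation (f.fiberToSpecResidueField y) :=
    MorphismProperty.of_isPullback (P := @LocallyOfFinitePresentation)
      (IsPullback.of_hasPullback f (Y.fromSpecResidueField y)) inferInstance
  constructor
  · intro hs x hx
    obtain ⟨z, hz⟩ : ∃ z : f.fiber y, f.fiberι y z = x := by
      have : x ∈ Set.range (f.fiberι y) := by
        rw [Scheme.Hom.range_fiberι]
        exact hx
      exact this
    refine (mem_smoothLocus_iff_fiber_aux f x y hx z hz).mpr ⟨Flat.stalkMap f x, ?_⟩
    rw [(Scheme.Hom.smoothLocus_eq_top_iff (f := f.fiberToSpecResidueField y)).mpr hs]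
    trivial
  · intro h
    rw [← Scheme.Hom.smoothLocus_eq_top_iff, eq_top_iff]
    intro z _
    have hx : f (f.fiberι y z) = y := by
      have : f.fiberι y z ∈ Set.range (f.fiberι y) := ⟨z, rfl⟩
      rw [Scheme.Hom.range_fiberι] at this
      exact this
    exact ((mem_smoothLocus_iff_fiber_aux f _ y hx z rfl).mp (h _ hx)).2

theorem S5934_main (f : X ⟶ Y) [IsProper f] [Flat f] [LocallyOfFinitePresentation f] :
    IsOpen {y : Y | Smooth (f.fiberToSpecResidueField y)} := by
  have heq : {y : Y | Smooth (f.fiberToSpecResidueField y)} =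
      (f '' ((f.smoothLocus : Set X)ᶜ))ᶜ := by
    ext y
    simp only [Set.mem_compl_iff, Set.mem_image, not_exists, not_and]
    show Smooth (f.fiberToSpecResidueField y) ↔ _
    rw [smooth_fibre_iff]
    constructor
    · intro h x hx hxy
      exact hx (h x hxy)
    · intro h x hxy
      by_contra hx
      exact h x hx hxy
  rw [heq, isOpen_compl_iff]
  exact f.isClosedMap _ f.smoothLocus.isOpen.isClosed_compl

end Groth.Agent.Helper3.FibCrit
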