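import Mathlib
import Groth.Agent.Lib.Helper3.FibReg2
import Groth.Agent.Lib.Helper1.XLowD

/-! S19195: fibrewise `(S₁)` + avoidance of minimal primes gives regularity (helper3). -/

set_option autoImplicit false
set_option backward.isDefEq.respectTransparency.types false
set_option synthInstance.maxHeartbeats 400000
universe u
namespace Groth.Agent.Helper3.FibReg

open TensorProduct

attribute [local instance] Algebra.TensorProduct.rightAlgebra

set_option maxHeartbeats 2000000 in
theorem S19195_main (A B M : Type u) [CommRing A] [CommRing B] [Algebra A B]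
    [Algebra.FinitePresentation A B] [AddCommGroup M] [Module B M] [Module A M]
    [IsScalarTower A B M] [Module.FinitePresentation B M] [Module.Flat A M]
    (hS1 : ∀ (p : Ideal A) [p.IsPrime],
      associatedPrimes (B ⊗[A] p.ResidueField) ((B ⊗[A] p.ResidueField) ⊗[B] M) ⊆
        (Module.annihilator (B ⊗[A] p.ResidueField) ((B ⊗[A] p.ResidueField) ⊗[B] M)).minimalPrimes)
    (a : B)
    (ha : ∀ (p : Ideal A) [p.IsPrime],
      ∀ P ∈ (Module.annihilator (B ⊗[A] p.ResidueField) ((B ⊗[A] p.ResidueField) ⊗[B] M)).minimalPrimes,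
        a ⊗ₜ[A] (1 : p.ResidueField) ∉ P) :
    IsSMulRegular M a := by
  apply isSMulRegular_of_fibre A B M a
  intro p _ x hx
  haveI : IsNoetherianRing (p.ResidueField ⊗[A] B) :=
    Algebra.FiniteType.isNoetherianRing p.ResidueField _
  haveI : IsNoetherianRing (B ⊗[A] p.ResidueField) :=
    isNoetherianRing_of_ringEquiv _
      (Algebra.TensorProduct.comm A p.ResidueField B).toRingEquiv
  have hreg : IsSMulRegular ((B ⊗[A] p.ResidueField) ⊗[B] M) (a ⊗ₜ[A] (1 : p.ResidueField)) := by
    by_contra hnot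
    have hmem : (a ⊗ₜ[A] (1 : p.ResidueField)) ∈
        ({r | IsSMulRegular ((B ⊗[A] p.ResidueField) ⊗[B] M) r}ᶜ : Set (B ⊗[A] p.ResidueField)) :=
      hnot
    rw [← biUnion_associatedPrimes_eq_compl_regular (B ⊗[A] p.ResidueField)
      ((B ⊗[A] p.ResidueField) ⊗[B] M)] at hmem
    simp only [Set.mem_iUnion] at hmem
    obtain ⟨P, hP, haP⟩ := hmem
    exact ha p P (hS1 p hP) haP
  have h1 : (1 : B ⊗[A] p.ResidueField) ⊗ₜ[B] (a • x) = 0 := by
    refine Submodule.smul_induction_on hx ?_ ?_
    · intro y hy m' _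
      rw [← IsScalarTower.algebraMap_smul B y m', ← TensorProduct.smul_tmul]
      have : (algebraMap A B y) • (1 : B ⊗[A] p.ResidueField) = 0 := by
        rw [Algebra.TensorProduct.one_def, TensorProduct.smul_tmul', Algebra.algebraMap_eq_smul_one,
          smul_assoc, one_smul, TensorProduct.smul_tmul, Algebra.smul_def, mul_one,
          Ideal.algebraMap_residueField_eq_zero.mpr hy, TensorProduct.tmul_zero]
      rw [this, TensorProduct.zero_tmul]
    · intro y z hy hz
      rw [TensorProduct.tmul_add, hy, hz, add_zero]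
  have hz : (a ⊗ₜ[A] (1 : p.ResidueField)) • ((1 : B ⊗[A] p.ResidueField) ⊗ₜ[B] x) = 0 := by
    rw [TensorProduct.smul_tmul', smul_eq_mul, mul_one]
    have : (a ⊗ₜ[A] (1 : p.ResidueField)) = a • (1 : B ⊗[A] p.ResidueField) := by
      rw [Algebra.TensorProduct.one_def, TensorProduct.smul_tmul', smul_eq_mul, mul_one]
    rw [this, TensorProduct.smul_tmul]
    exact h1
  have hz0 : (1 : B ⊗[A] p.ResidueField) ⊗ₜ[B] x = 0 := hreg (by
    show (a ⊗ₜ[A] (1 : p.ResidueField)) • _ = (a ⊗ₜ[A] (1 : p.ResidueField)) • 0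
    rw [smul_zero]; exact hz)
  let e1 := TensorProduct.comm B (B ⊗[A] p.ResidueField) M
  let e2 := TensorProduct.AlgebraTensorModule.cancelBaseChange A B B M p.ResidueField
  have h5 : x ⊗ₜ[A] (1 : p.ResidueField) = 0 := by
    have := congrArg (fun z => e2 (e1 z)) hz0
    simpa [e1, e2, Algebra.TensorProduct.one_def] using this
  have h6 : (1 : p.ResidueField) ⊗ₜ[A] x = 0 := by
    have := congrArg (TensorProduct.comm A M p.ResidueField) h5
    simpa using this
  exact Groth.Agent.Helper1.XLowD.exists_smul_mem_of_tmul_eq_zero p M x h6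

end Groth.Agent.Helper3.FibReg
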