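import Mathlib
import Groth.Prelude
import Groth.Agent.Lib.Helper3.FibStalk2

/-!
# Flat families over an Artinian local ring with Gorenstein closed fibre (helper3)
-/

set_option autoImplicit false
set_option linter.unusedSectionVars false
set_option linter.style.haveILetI false
universe u

open CategoryTheory CategoryTheory.Limits AlgebraicGeometry IsLocalRing

namespace Groth.Agent.Helper3.FibStalk

open Groth.Agent.Helper8.GorFlat LocCoh

/-- a pullback of `f` along `s = φ ≫ fromSpecResidueField y` with `φ` an isomorphism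
is isomorphic to the fibre of `f` over `y`, compatibly with the maps to the source. -/
theorem exists_iso_fiber {P S X T : Scheme.{u}} (f : P ⟶ S) (y : S)
    (s : T ⟶ S) (i : X ⟶ P) (q : X ⟶ T) (hsq : IsPullback i q f s)
    (φ : T ⟶ Spec (S.residueField y)) [IsIso φ] (hs : φ ≫ S.fromSpecResidueField y = s) :
    ∃ u : X ⟶ f.fiber y, IsIso u ∧ u ≫ f.fiberι y = i := by
  let u : X ⟶ f.fiber y := pullback.lift i (q ≫ φ) (by
    rw [hsq.w, Category.assoc, hs])
  let v : f.fiber y ⟶ X := hsq.lift (f.fiberι y) (f.fiberToSpecResidueField y ≫ inv φ) (by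
    rw [Category.assoc, ← hs, IsIso.inv_hom_id_assoc]
    exact f.fiber_fac y)
  have hu1 : u ≫ f.fiberι y = i := pullback.lift_fst _ _ _
  have hu2 : u ≫ f.fiberToSpecResidueField y = q ≫ φ := pullback.lift_snd _ _ _
  have hv1 : v ≫ i = f.fiberι y := hsq.lift_fst _ _ _
  have hv2 : v ≫ q = f.fiberToSpecResidueField y ≫ inv φ := hsq.lift_snd _ _ _
  refine ⟨u, ⟨v, ?_, ?_⟩, hu1⟩
  · apply hsq.hom_ext
    · rw [Category.assoc, hv1, hu1, Category.id_comp]
    · rw [Category.assoc, hv2, reassoc_of% hu2, IsIso.hom_inv_id, Category.comp_id,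
        Category.id_comp]
  · apply pullback.hom_ext
    · change (v ≫ u) ≫ f.fiberι y = 𝟙 _ ≫ f.fiberι y
      rw [Category.assoc, hu1, hv1, Category.id_comp]
    · change (v ≫ u) ≫ f.fiberToSpecResidueField y = 𝟙 _ ≫ f.fiberToSpecResidueField y
      rw [Category.assoc, hu2, reassoc_of% hv2, IsIso.inv_hom_id, Category.comp_id,
        Category.id_comp]

/-- the spectrum of an Artinian local ring is a point -/
theorem subsingleton_spec_of_artinian (A : Type u) [CommRing A] [IsArtinianRing A]
    [IsLocalRing A] : Subsingleton (Spec (CommRingCat.of A)) := by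
  constructor
  intro a b
  apply PrimeSpectrum.ext
  haveI := a.isPrime
  haveI := b.isPrime
  have ha : a.asIdeal.IsMaximal := IsArtinianRing.isMaximal_of_isPrime a.asIdeal
  have hb : b.asIdeal.IsMaximal := IsArtinianRing.isMaximal_of_isPrime b.asIdeal
  rw [IsLocalRing.eq_maximalIdeal ha, IsLocalRing.eq_maximalIdeal hb]

/-- the residue field point of a local ring factors through an isomorphism -/
theorem exists_iso_residue (A : Type u) [CommRing A] [IsLocalRing A] :
    ∃ (y : Spec (CommRingCat.of A))
      (φ : Spec (CommRingCat.of (IsLocalRing.ResidueField A)) ⟶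
        Spec ((Spec (CommRingCat.of A)).residueField y)),
      IsIso φ ∧ φ ≫ (Spec (CommRingCat.of A)).fromSpecResidueField y =
        Spec.map (CommRingCat.ofHom (IsLocalRing.residue A)) := by
  have hs' := Scheme.descResidueField_stalkClosedPointTo_fromSpecResidueField
    (IsLocalRing.ResidueField A) (Spec (CommRingCat.of A))
    (Spec.map (CommRingCat.ofHom (IsLocalRing.residue A)))
  refine ⟨_, Spec.map (Scheme.descResidueField (Scheme.stalkClosedPointTo
    (Spec.map (CommRingCat.ofHom (IsLocalRing.residue A))))), ?_, hs'⟩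
  rw [← Scheme.Spec.map_residueFieldIso_inv_eq_fromSpecResidueField, ← Spec.map_comp,
    ← Spec.map_comp, Spec.map_inj] at hs'
  have hbij : Function.Bijective (Scheme.descResidueField (Scheme.stalkClosedPointTo
      (Spec.map (CommRingCat.ofHom (IsLocalRing.residue A))))).hom := by
    refine ⟨RingHom.injective _, ?_⟩
    intro t
    obtain ⟨a, rfl⟩ := IsLocalRing.residue_surjective t
    have := congr($(hs').hom a)
    rw [CommRingCat.hom_comp, RingHom.comp_apply] at this
    exact ⟨_, this⟩
  haveI : IsIso (Scheme.descResidueField (Scheme.stalkClosedPointTo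
      (Spec.map (CommRingCat.ofHom (IsLocalRing.residue A))))) :=
    (ConcreteCategory.isIso_iff_bijective _).mpr hbij
  infer_instance

theorem main_S16185 {A : Type u} [CommRing A] [IsArtinianRing A] [IsLocalRing A]
    {P X : Scheme.{u}} (f : P ⟶ Spec (CommRingCat.of A)) [Flat f]
    (i : X ⟶ P) (q : X ⟶ Spec (CommRingCat.of (IsLocalRing.ResidueField A)))
    (hsq : IsPullback i q f (Spec.map (CommRingCat.ofHom (IsLocalRing.residue A))))
    (hX : Dual3.IsGorenstein X) : Dual3.IsGorensteinMor f := by
  obtain ⟨y₀, φ, hφ, hs⟩ := exists_iso_residue A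
  obtain ⟨u, hu, hui⟩ := exists_iso_fiber f y₀ _ i q hsq φ hs
  haveI := subsingleton_spec_of_artinian A
  have hC : ∀ (y : Spec (CommRingCat.of A)) (x' : f.fiber y),
      IsGorensteinLocalRing ((f.fiber y).presheaf.stalk x') := by
    intro y
    obtain rfl : y = y₀ := Subsingleton.elim _ _
    intro x'
    have hsurj : Function.Surjective u := by
      intro t
      exact ⟨(inv u) t, by rw [← Scheme.Hom.comp_apply, IsIso.inv_hom_id]; rfl⟩
    obtain ⟨x, rfl⟩ := hsurj x'
    haveI : IsIso (u.stalkMap x) := inferInstance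
    exact isGorensteinLocalRing_of_ringEquiv
      (asIso (u.stalkMap x)).commRingCatIsoToRingEquiv.symm (hX.2 x)
  intro p
  exact ⟨Flat.stalkMap f p, hC (f p) (f.asFiber p)⟩

end Groth.Agent.Helper3.FibStalk
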