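import Mathlib
import Groth.Agent.Lib.Helper5.TorAmp.BaseChange

/-!
# Local-to-global principles over maximal ideals for complexes of modules
-/

namespace Groth.Agent.Helper3.LocMax

open CategoryTheory Limits DerivedCategory Groth.Agent.Helper5.FlatBC Groth.Agent.Helper5.TorAmp
open Groth.Agent.Helper5.FlatAcyc TensorProduct

universe u

variable {R : Type u} [CommRing R]

lemma isZero_of_forall_maximal (H : ModuleCat.{u} R)
    (h : ∀ (m : Ideal R) [m.IsMaximal], IsZero ((Ef (Localization.AtPrime m)).obj H)) :
    IsZero H := by
  haveI : ∀ (P : Ideal R) [P.IsMaximal], IsLocalizedModule P.primeCompl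
      (TensorProduct.mk R (Localization.AtPrime P) H 1) := fun P _ =>
    (isLocalizedModule_iff_isBaseChange P.primeCompl (Localization.AtPrime P) _).2
      (TensorProduct.isBaseChange R H (Localization.AtPrime P))
  have : Subsingleton H := by
    refine Module.subsingleton_of_localization_maximal
      (fun P _ => (Localization.AtPrime P) ⊗[R] H)
      (fun P _ => TensorProduct.mk R (Localization.AtPrime P) H 1) (fun P _ => ?_)
    have h0 : Subsingleton ((Ef (Localization.AtPrime P)).obj H) :=
      ModuleCat.subsingleton_of_isZero (h P)
    have h1 : Subsingleton (N' (Localization.AtPrime P) H) := h0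
    exact (eqv (Localization.AtPrime P) H).toEquiv.subsingleton
  exact ModuleCat.isZero_of_subsingleton H

theorem exactAt_of_forall_maximal (K : DRing.Cx R) (j : ℤ)
    (h : ∀ (m : Ideal R) [m.IsMaximal], ((Ec (Localization.AtPrime m)).obj K).ExactAt j) :
    K.ExactAt j := by
  rw [HomologicalComplex.exactAt_iff_isZero_homology]
  refine isZero_of_forall_maximal _ (fun m _ => ?_)
  have h1 := h m
  rw [HomologicalComplex.exactAt_iff_isZero_homology] at h1
  exact h1.of_iso (homIso (Localization.AtPrime m) K j).symm

theorem torVan_of_forall_maximal (P : DRing.Cx R) (a b : ℤ)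
    (h : ∀ (m : Ideal R) [m.IsMaximal], TorVan a b ((Ec (Localization.AtPrime m)).obj P)) :
    TorVan a b P := by
  intro M j hj
  refine exactAt_of_forall_maximal _ j (fun m _ => ?_)
  exact (h m ((Ef (Localization.AtPrime m)).obj M) j hj).of_iso
    (tmIso (Localization.AtPrime m) M P)

end Groth.Agent.Helper3.LocMax
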