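import Mathlib
import Groth.Agent.Lib.Helper3.LocMax
import Groth.Agent.Lib.Helper3.SurjTr
import Groth.Agent.Lib.Helper3.MinCxUniq

/-!
# Fibres at maximal ideals and tor amplitude
-/

namespace Groth.Agent.Helper3.LocFib

open CategoryTheory Limits DerivedCategory Groth.Agent.Helper5.FlatBC Groth.Agent.Helper5.TorAmp
open Groth.Agent.Helper3.ProjLiftNil Groth.Agent.Helper3.PcLift Groth.Agent.Lib.Helper5.KProj
open Groth.Agent.Helper3.StabFree Groth.Agent.Helper3.MinCx

universe u

attribute [local instance] HasDerivedCategory.standard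

variable {R : Type u} [CommRing R] (m : Ideal R) [hm : m.IsMaximal]

/-- the map to the residue field of the localization -/
noncomputable def φ : R →+* (Localization.AtPrime m) ⧸
    IsLocalRing.maximalIdeal (Localization.AtPrime m) :=
  (Ideal.Quotient.mk _).comp (algebraMap R (Localization.AtPrime m))

lemma φ_surjective : Function.Surjective (φ m) := by
  intro x
  obtain ⟨y, rfl⟩ :=
    (IsLocalization.AtPrime.equivQuotMaximalIdeal m (Localization.AtPrime m)).surjective x
  obtain ⟨z, rfl⟩ := Ideal.Quotient.mk_surjective y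
  exact ⟨z, rfl⟩

lemma ker_φ_isMaximal : (RingHom.ker (φ m)).IsMaximal := by
  letI : Field ((Localization.AtPrime m) ⧸ IsLocalRing.maximalIdeal (Localization.AtPrime m)) :=
    Ideal.Quotient.field _
  exact RingHom.ker_isMaximal_of_surjective _ (φ_surjective m)

/-- reflecting exactness along restriction of scalars for a ring isomorphism -/
lemma exactAt_of_ρ {R' : Type u} [CommRing R'] (f : R →+* R') (hf : Function.Surjective f)
    (K : DRing.Cx R') (i : ℤ)
    (h : (((Groth.Agent.Helper3.SurjTr.ρ f hf).mapHomologicalComplex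
      (ComplexShape.up ℤ)).obj K).ExactAt i) : K.ExactAt i := by
  have h1 : ((K.sc i).map (Groth.Agent.Helper3.SurjTr.ρ f hf)).Exact := h
  exact (ShortComplex.exact_map_iff_of_faithful (K.sc i) (Groth.Agent.Helper3.SurjTr.ρ f hf)).1 h1

variable [∀ n : Ideal R, DRing.HasLBaseChange (Ideal.Quotient.mk n)]

/-- the reduction of `F` along `R → A/m_A` is the reduction of `F ⊗ A` modulo `m_A` -/
noncomputable def compIso (F : DRing.Cx R) :
    (bcCx (φ m)).obj F ≅
      (bcCx (Ideal.Quotient.mk (IsLocalRing.maximalIdeal (Localization.AtPrime m)))).obj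
        ((Ec (Localization.AtPrime m)).obj F) :=
  (NatIso.mapHomologicalComplex (ModuleCat.extendScalarsComp
    (algebraMap R (Localization.AtPrime m))
    (Ideal.Quotient.mk (IsLocalRing.maximalIdeal (Localization.AtPrime m))))
    (ComplexShape.up ℤ)).app F

theorem exactAt_fibre (F : DRing.Cx R) [F.IsKProjective] (i : ℤ)
    (h : Subsingleton (Dual.HD (R ⧸ RingHom.ker (φ m))
        ((DRing.LBaseChange (Ideal.Quotient.mk (RingHom.ker (φ m)))).obj (DRing.toD F)) i)) :
    ((bcCx (Ideal.Quotient.mk (IsLocalRing.maximalIdeal (Localization.AtPrime m)))).obj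
        ((Ec (Localization.AtPrime m)).obj F)).ExactAt i := by
  have h1 : ((bcCx (Ideal.Quotient.mk (RingHom.ker (φ m)))).obj F).ExactAt i := by
    rw [HomologicalComplex.exactAt_iff_isZero_homology]
    exact (ModuleCat.isZero_of_subsingleton _).of_iso
      (Groth.Agent.Helper3.MinCx.homologyIso (RingHom.ker (φ m)) F (Iso.refl _) i)
  have h2 : (((Groth.Agent.Helper3.SurjTr.ρ (φ m) (φ_surjective m)).mapHomologicalComplex
      (ComplexShape.up ℤ)).obj ((bcCx (φ m)).obj F)).ExactAt i :=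
    h1.of_iso (Groth.Agent.Helper3.SurjTr.cxIso (φ m) (φ_surjective m) F).symm
  have h3 : ((bcCx (φ m)).obj F).ExactAt i := exactAt_of_ρ (φ m) (φ_surjective m) _ i h2
  exact h3.of_iso (compIso m F)

theorem torVan_loc (F : DRing.Cx R) (c : ℤ) (hF0 : DRing.VanishesAbove F c)
    (hFt : DRing.TermwiseFiniteFree F) (a b : ℤ)
    (h : ∀ i : ℤ, (i < a ∨ b < i) →
      Subsingleton (Dual.HD (R ⧸ RingHom.ker (φ m))
        ((DRing.LBaseChange (Ideal.Quotient.mk (RingHom.ker (φ m)))).obj (DRing.toD F)) i)) :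
    TorVan a b ((Ec (Localization.AtPrime m)).obj F) := by
  haveI : F.IsKProjective := isKProjective_of_bdd F c hF0 (fun i => by
    obtain ⟨h1, h2⟩ := hFt i
    exact Module.Projective.of_free)
  let A := Localization.AtPrime m
  let IA : Ideal A := IsLocalRing.maximalIdeal A
  let G : DRing.Cx A := (Ec A).obj F
  have hG0 : DRing.VanishesAbove G c := fun i hi => (Ef A).map_isZero (hF0 i hi)
  have hGt : DRing.TermwiseFiniteFree G := Ec_finiteFree A F hFt
  haveI : G.IsKProjective := isKProjective_of_bdd G c hG0 (fun i => by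
    obtain ⟨h1, h2⟩ := hGt i
    exact Module.Projective.of_free)
  haveI : DRing.HasLBaseChange (Ideal.Quotient.mk IA) :=
    Groth.Agent.Helper3.SurjTr.hasLBaseChange _
  haveI : IA.IsMaximal := IsLocalRing.maximalIdeal.isMaximal A
  have hIA : IA ≤ Ideal.jacobson (⊥ : Ideal A) := IsLocalRing.maximalIdeal_le_jacobson ⊥
  obtain ⟨P, b', hP0, hPt, ⟨eP⟩, hH⟩ := exists_minimal IA hIA (DRing.toD G)
    ⟨G, c, hG0, hGt, ⟨Iso.refl _⟩⟩
  have hPz : DRing.VanishesOutside P a b := fun i hi => by
    obtain ⟨e⟩ := hH i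
    obtain ⟨h1, h2⟩ := hPt i
    have hex := exactAt_fibre m F i (h i hi)
    rw [HomologicalComplex.exactAt_iff_isZero_homology] at hex
    have hz : IsZero ((homologyFunctor (ModuleCat.{u} (A ⧸ IA)) i).obj
        ((DRing.LBaseChange (Ideal.Quotient.mk IA)).obj (DRing.toD G))) :=
      hex.of_iso (homologyIso IA G (Iso.refl _) i).symm
    exact isZero_of_isZero_E (pcHyp_sf IA hIA) (psf_of_free (P.X i)) (hz.of_iso e)
  have hflatG : DRing.TermwiseFlat G := fun i => by
    obtain ⟨h1, h2⟩ := hGt i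
    infer_instance
  have hT : DRing.HasTorAmplitudeIn A a b (DRing.toD G) :=
    ⟨P, hPz, fun i => by obtain ⟨h1, h2⟩ := hPt i; infer_instance, ⟨eP⟩⟩
  exact (hasTorAmplitudeIn_iff G hflatG c hG0 a b).1 hT

theorem main_S6974 (R : Type u) [CommRing R]
    [∀ m : Ideal R, DRing.HasLBaseChange (Ideal.Quotient.mk m)] (K : Dual.D R)
    (hK : DRing.IsPseudoCoherent' R K) (a b : ℤ)
    (h : ∀ (m : Ideal R), m.IsMaximal → ∀ i : ℤ, (i < a ∨ b < i) →
      Subsingleton (Dual.HD (R ⧸ m) ((DRing.LBaseChange (Ideal.Quotient.mk m)).obj K) i)) :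
    DRing.IsPerfect R K ∧ DRing.HasTorAmplitudeIn R a b K := by
  obtain ⟨F, c, hF0, hFt, ⟨eF⟩⟩ := hK
  have hflat : DRing.TermwiseFlat F := fun i => by
    obtain ⟨h1, h2⟩ := hFt i
    infer_instance
  have hT : DRing.HasTorAmplitudeIn R a b K := by
    refine (hasTorAmplitudeIn_iff' F hflat c hF0 eF a b).2 ?_
    refine Groth.Agent.Helper3.LocMax.torVan_of_forall_maximal F a b (fun m _ => ?_)
    refine torVan_loc m F c hF0 hFt a b (fun i hi => ?_)
    have h1 := h (RingHom.ker (φ m)) (ker_φ_isMaximal m) i hi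
    exact (((homologyFunctor (ModuleCat.{u} (R ⧸ RingHom.ker (φ m))) i).mapIso
      ((DRing.LBaseChange (Ideal.Quotient.mk (RingHom.ker (φ m)))).mapIso
        eF)).toLinearEquiv.toEquiv).subsingleton
  obtain ⟨E, h4, h5, h6⟩ := perfAmp_of_pc' ⟨F, c, hF0, hFt, ⟨eF⟩⟩ hT
  exact ⟨⟨E, a, b, h4, h5, h6⟩, hT⟩

end Groth.Agent.Helper3.LocFib
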