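import Mathlib
import Groth.Prelude.Def_DRing2
import Groth.Prelude.Def_DDual2
import Groth.Agent.Lib.Helper3.LocFib
import Groth.Agent.Lib.Helper3.RegGlDim
import Groth.Agent.Lib.Helper5.TorAmp.FinTor
import Groth.Agent.Lib.Helper5.KFlat.LBCFlat
import Groth.Agent.Lib.Helper5.Shriek.Calc
import Groth.Agent.Lib.Helper5.Shriek.FlatBCS
import Groth.Agent.Lib.Helper5.TBC.Pushout
import Groth.Agent.Lib.Helper5.DMod.DCRestrict
import Groth.Agent.Lib.Helper5.KProj.LTen
import Groth.Agent.Lib.Helper8.ABS11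

/-!
# Tor amplitude over `B` from tor amplitude over `A` when the fibres of the flat map `A → B`
have finite global dimension (helper3, S7035, S6977)
-/

set_option autoImplicit false
universe u
open CategoryTheory CategoryTheory.Limits TensorProduct

attribute [local instance] HasDerivedCategory.standard

namespace Groth.Agent.Helper3.FibTor

open DerivedCategory Helper5.Shriek Groth.Agent.Lib.Helper5.DTenLib Groth.Agent.Lib.Helper5.TBC
  Groth.Agent.Helper1.TorL Groth.Agent.Lib.Helper5.KProj Groth.Agent.Helper5.TorAmp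

section Core

variable (A B : Type u) [CommRing A] [CommRing B] [Algebra A B] [Module.Flat A B]
  (κ : Type u) [CommRing κ] [Algebra A κ]

attribute [local instance] Algebra.TensorProduct.rightAlgebra

/-- the derived base change of `K` to the fibre ring `κ ⊗ B` has the cohomological amplitude of
`K|_A ⊗^L κ`, hence tor amplitude in `[a - d, b]` when `κ ⊗ B` has global dimension `≤ d`. -/
theorem torAmp_fibre (d : ℕ)
    (hgl : ∀ (M : Type u) [AddCommGroup M] [Module (κ ⊗[A] B) M],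
      HasProjectiveDimensionLT (ModuleCat.of (κ ⊗[A] B) M) (d + 1))
    (a b : ℤ) (K : Dual.D B)
    (h0 : ∀ j : ℤ, (j < a ∨ b < j) → Subsingleton (Dual.HD κ
      ((DRing.LBaseChange (algebraMap A κ)).obj ((DRing.restrictD (algebraMap A B)).obj K)) j)) :
    DRing.HasTorAmplitudeIn (κ ⊗[A] B) (a - d) b
      ((DRing.LBaseChange (algebraMap B (κ ⊗[A] B))).obj K) := by
  have hsq : (algebraMap B (κ ⊗[A] B)).comp (algebraMap A B) =
      (algebraMap κ (κ ⊗[A] B)).comp (algebraMap A κ) := by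
    refine RingHom.ext fun r => ?_
    show algebraMap B (κ ⊗[A] B) (algebraMap A B r) = algebraMap κ (κ ⊗[A] B) (algebraMap A κ r)
    rw [← IsScalarTower.algebraMap_apply A B (κ ⊗[A] B),
      ← IsScalarTower.algebraMap_apply A κ (κ ⊗[A] B)]
  haveI : Module.Flat A ((ModuleCat.restrictScalars.{u} (algebraMap A B)).obj (ModuleCat.of B B)) :=
    Module.Flat.of_linearEquiv (resUnitLin A B)
  have hta : TorIndep (algebraMap A B) (algebraMap A κ) := TA.of_flat _ _
  have hcmp : IsIso (TrivBC.cmp (myAdj (algebraMap A κ)) (myAdj (algebraMap B (κ ⊗[A] B))) hsq K) :=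
    isIso_cmp_myAdj hsq (isCocart_of_isPushout A B κ (κ ⊗[A] B) hsq) hta K
  let c := @asIso _ _ _ _
    (TrivBC.cmp (myAdj (algebraMap A κ)) (myAdj (algebraMap B (κ ⊗[A] B))) hsq K) hcmp
  let Y : Dual.D (κ ⊗[A] B) := (DRing.LBaseChange (algebraMap B (κ ⊗[A] B))).obj K
  have h3 : ∀ j : ℤ, (j < a ∨ b < j) → Subsingleton (Dual.HD (κ ⊗[A] B) Y j) := by
    intro j hj
    haveI := h0 j hj
    haveI : Subsingleton (Dual.HD κ ((DRing.restrictD (algebraMap κ (κ ⊗[A] B))).obj Y) j) :=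
      subsingleton_HD_of_iso c j (h0 j hj)
    exact (Helper5.DMod.HDrestrictEquiv (algebraMap κ (κ ⊗[A] B)) Y j).symm.toEquiv.subsingleton
  refine s7033 (a - d) b Y ⟨a, b, h3⟩ (fun i => ?_)
  by_cases hi : a ≤ i ∧ i ≤ b
  · have hM : DRing.HasTorDimLE (κ ⊗[A] B) d (Dual.HD (κ ⊗[A] B) Y i) := by
      intro N _ _ p hp
      haveI := hgl N
      exact ModuleCat.subsingleton_of_isZero
        (isZero_tor_of_hasProjectiveDimensionLT d (ModuleCat.of (κ ⊗[A] B) N)
          (ModuleCat.of (κ ⊗[A] B) (Dual.HD (κ ⊗[A] B) Y i)) p hp)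
    have h5 := ((s6946 (R := κ ⊗[A] B) (Dual.HD (κ ⊗[A] B) Y i) d).1).1 hM
    exact hasTorAmplitudeIn_mono h5 (by omega) (by omega)
  · haveI := h3 i (by omega)
    apply hasTorAmplitudeIn_of_isZero
    apply Functor.map_isZero
    exact ModuleCat.isZero_of_subsingleton _

/-- vanishing of the cohomology of the fibres `K ⊗^L_B B/m` outside `[a - d, b]` -/
theorem subsingleton_fibre (d : ℕ)
    (hgl : ∀ (M : Type u) [AddCommGroup M] [Module (κ ⊗[A] B) M],
      HasProjectiveDimensionLT (ModuleCat.of (κ ⊗[A] B) M) (d + 1))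
    (a b : ℤ) (K : Dual.D B)
    (h0 : ∀ j : ℤ, (j < a ∨ b < j) → Subsingleton (Dual.HD κ
      ((DRing.LBaseChange (algebraMap A κ)).obj ((DRing.restrictD (algebraMap A B)).obj K)) j))
    (m : Ideal B) (g₁ : κ →ₐ[A] B ⧸ m) (i : ℤ) (hi : i < a - d ∨ b < i) :
    Subsingleton (Dual.HD (B ⧸ m) ((DRing.LBaseChange (Ideal.Quotient.mk m)).obj K) i) := by
  let γ : (κ ⊗[A] B) →ₐ[A] B ⧸ m :=
    Algebra.TensorProduct.productMap g₁ (IsScalarTower.toAlgHom A B (B ⧸ m))
  have hγ : γ.toRingHom.comp (algebraMap B (κ ⊗[A] B)) = Ideal.Quotient.mk m := by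
    refine RingHom.ext fun x => ?_
    show γ ((1 : κ) ⊗ₜ[A] x) = _
    rw [Algebra.TensorProduct.productMap_apply_tmul, map_one, one_mul]
    rfl
  have h4 := torAmp_fibre A B κ d hgl a b K h0
  have h6 := Groth.Agent.Lib.Helper5.KFlat.hasTorAmplitudeIn_LBaseChange γ.toRingHom _ (a - d) b h4
  let e : (DRing.LBaseChange (γ.toRingHom.comp (algebraMap B (κ ⊗[A] B)))).obj K ≅
      (DRing.LBaseChange γ.toRingHom).obj
        ((DRing.LBaseChange (algebraMap B (κ ⊗[A] B))).obj K) :=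
    (lbcCompIso (algebraMap B (κ ⊗[A] B)) γ.toRingHom).app K
  have key : Subsingleton (Dual.HD (B ⧸ m)
      ((DRing.LBaseChange (γ.toRingHom.comp (algebraMap B (κ ⊗[A] B)))).obj K) i) :=
    subsingleton_HD_of_iso e.symm i (bounded_of_hasTorAmplitudeIn h6 i hi)
  exact subsingleton_HD_of_iso ((lbcEqIso hγ).app K) i key

end Core

section Main

/-- **S7035** -/
theorem main_S7035 {A B : Type u} [CommRing A] [CommRing B] [Algebra A B]
    [Module.Flat A B] (d : ℕ)
    (hgl : ∀ (p : PrimeSpectrum A) (M : Type u) [AddCommGroup M]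
      [Module (TensorProduct A p.asIdeal.ResidueField B) M],
      HasProjectiveDimensionLT (ModuleCat.of (TensorProduct A p.asIdeal.ResidueField B) M) (d + 1))
    (a b : ℤ) (K : Dual.D B)
    (hK : DRing.IsPseudoCoherent' B K)
    (hKa : DRing.HasTorAmplitudeIn A a b ((DRing.restrictD (algebraMap A B)).obj K)) :
    DRing.IsPerfect B K ∧ DRing.HasTorAmplitudeIn B (a - d) b K := by
  refine Groth.Agent.Helper3.LocFib.main_S6974 B K hK (a - d) b ?_
  intro m hm i hi
  haveI := hm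
  haveI : (m.comap (algebraMap A B)).IsPrime := Ideal.comap_isPrime _ _
  let pp : PrimeSpectrum A := ⟨m.comap (algebraMap A B), inferInstance⟩
  letI : Field (B ⧸ m) := Ideal.Quotient.field m
  let f₀ : A →ₐ[A] B ⧸ m := Algebra.ofId A (B ⧸ m)
  have hf₁ : pp.asIdeal ≤ RingHom.ker f₀ := by
    intro x hx
    rw [RingHom.mem_ker]
    show algebraMap A (B ⧸ m) x = 0
    rw [IsScalarTower.algebraMap_apply A B (B ⧸ m), Ideal.Quotient.algebraMap_eq,
      Ideal.Quotient.eq_zero_iff_mem]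
    exact hx
  have hf₂ : pp.asIdeal.primeCompl ≤ (IsUnit.submonoid (B ⧸ m)).comap f₀ := by
    intro x hx
    show IsUnit (algebraMap A (B ⧸ m) x)
    refine IsUnit.mk0 _ (fun h0 => hx ?_)
    rw [IsScalarTower.algebraMap_apply A B (B ⧸ m), Ideal.Quotient.algebraMap_eq,
      Ideal.Quotient.eq_zero_iff_mem] at h0
    exact h0
  let g₁ : pp.asIdeal.ResidueField →ₐ[A] B ⧸ m := Ideal.ResidueField.liftₐ pp.asIdeal f₀ hf₁ hf₂
  have h1 := Groth.Agent.Lib.Helper5.KFlat.hasTorAmplitudeIn_LBaseChange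
    (algebraMap A pp.asIdeal.ResidueField) _ a b hKa
  exact subsingleton_fibre A B pp.asIdeal.ResidueField d (hgl pp) a b K
    (bounded_of_hasTorAmplitudeIn h1) m g₁ i hi

/-- **S6977** -/
theorem main_S6977 {A B : Type u} [CommRing A] [CommRing B] [IsLocalRing A]
    [IsLocalRing B] [Algebra A B] [IsLocalHom (algebraMap A B)] [Module.Flat A B] (d : ℕ)
    [IsRegularLocalRing (B ⧸ (IsLocalRing.maximalIdeal A).map (algebraMap A B))]
    (hd : ringKrullDim (B ⧸ (IsLocalRing.maximalIdeal A).map (algebraMap A B)) = d)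
    (a b : ℤ) (K : Dual.D B) (hK : DRing.IsPseudoCoherent' B K)
    (h : ∀ i : ℤ, (i < a ∨ b < i) → Subsingleton (Dual.HD (IsLocalRing.ResidueField A)
      ((DRing.LBaseChange (IsLocalRing.residue A)).obj
        ((DRing.restrictD (algebraMap A B)).obj K)) i)) :
    DRing.IsPerfect B K ∧ DRing.HasTorAmplitudeIn B (a - d) b K := by
  let mA := IsLocalRing.maximalIdeal A
  let e := (Algebra.TensorProduct.quotIdealMapEquivQuotTensor B mA).toRingEquiv
  haveI hreg : IsRegularLocalRing ((A ⧸ mA) ⊗[A] B) := IsRegularLocalRing.of_ringEquiv e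
  have hd' : ringKrullDim ((A ⧸ mA) ⊗[A] B) = d := by
    rw [← ringKrullDim_eq_of_ringEquiv e]
    exact hd
  have hgl : ∀ (M : Type u) [AddCommGroup M] [Module ((A ⧸ mA) ⊗[A] B) M],
      HasProjectiveDimensionLT (ModuleCat.of ((A ⧸ mA) ⊗[A] B) M) (d + 1) := by
    intro M _ _
    exact Groth.Agent.Helper3.RegGlDim.pdLT_of_regular
      (fun p => Groth.Agent.Helper8.ABS.isRegularLocalRing_localization _ p.asIdeal) d hd'
      (ModuleCat.of _ M)
  refine Groth.Agent.Helper3.LocFib.main_S6974 B K hK (a - d) b ?_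
  intro m hm i hi
  have hmB : m = IsLocalRing.maximalIdeal B := IsLocalRing.eq_maximalIdeal hm
  let g₁ : (A ⧸ mA) →ₐ[A] B ⧸ m := Ideal.Quotient.liftₐ mA (Algebra.ofId A (B ⧸ m)) (by
    intro x hx
    show algebraMap A (B ⧸ m) x = 0
    rw [IsScalarTower.algebraMap_apply A B (B ⧸ m), Ideal.Quotient.algebraMap_eq,
      Ideal.Quotient.eq_zero_iff_mem, hmB, IsLocalRing.mem_maximalIdeal]
    intro hu
    exact (IsLocalRing.mem_maximalIdeal x).1 hx (isUnit_of_map_unit (algebraMap A B) x hu))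
  exact subsingleton_fibre A B (A ⧸ mA) d hgl a b K h m g₁ i hi

end Main

end Groth.Agent.Helper3.FibTor
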