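import Mathlib
import Groth.Prelude.Def_FilD

set_option autoImplicit false
universe v u
open CategoryTheory CategoryTheory.Limits Opposite

namespace Groth.Agent.Helper3.Fil

variable {A : Type u} [Category.{v} A] [Abelian A]

section Sub

variable {Y : A}

lemma le_iff_factors (P Q : Subobject Y) : P ≤ Q ↔ Q.Factors P.arrow := by
  constructor
  · intro h
    exact Subobject.factors_of_le _ h (Subobject.factors_self P)
  · intro h
    exact Subobject.le_of_comm (Q.factorThru P.arrow h) (Subobject.factorThru_arrow _ _ _)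

lemma factors_of_epi_comp (P : Subobject Y) {T T' : A} (π : T' ⟶ T) [Epi π] (x : T ⟶ Y)
    (h : P.Factors (π ≫ x)) : P.Factors x := by
  have sq : CommSq (P.factorThru (π ≫ x) h) π P.arrow x := ⟨by simp⟩
  have : StrongEpi π := strongEpi_of_epi π
  exact (Subobject.factors_iff _ _).2 ⟨sq.lift, sq.fac_right⟩

lemma imageSubobject_factors_iff {X T : A} (f : X ⟶ Y) (x : T ⟶ Y) :
    (imageSubobject f).Factors x ↔
      ∃ (T' : A) (π : T' ⟶ T) (_ : Epi π) (y : T' ⟶ X), π ≫ x = y ≫ f := by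
  constructor
  · intro h
    obtain ⟨T', π, hπ, y, hy⟩ := surjective_up_to_refinements_of_epi
      (factorThruImageSubobject f) ((imageSubobject f).factorThru x h)
    refine ⟨T', π, hπ, y, ?_⟩
    have := congrArg (fun m => m ≫ (imageSubobject f).arrow) hy
    simpa using this
  · rintro ⟨T', π, hπ, y, hy⟩
    apply factors_of_epi_comp _ π
    rw [hy]
    exact (Subobject.factors_iff _ _).2 ⟨y ≫ factorThruImageSubobject f, by simp⟩

end Sub

/-- transition maps of a filtered object -/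
noncomputable def tr (X : ℤᵒᵖ ⥤ A) {p q : ℤ} (h : p ≤ q) : X.obj (op q) ⟶ X.obj (op p) :=
  X.map (homOfLE h).op

lemma map_eq_tr (X : ℤᵒᵖ ⥤ A) {p q : ℤ} (f : op q ⟶ op p) :
    X.map f = tr X (leOfHom f.unop) := by
  congr 1

@[reassoc (attr := simp)]
lemma tr_tr (X : ℤᵒᵖ ⥤ A) {p q r : ℤ} (h : p ≤ q) (h' : q ≤ r) :
    tr X h' ≫ tr X h = tr X (h.trans h') := by
  unfold tr
  rw [← X.map_comp]
  rfl

@[simp]
lemma tr_refl (X : ℤᵒᵖ ⥤ A) (p : ℤ) : tr X (le_refl p) = 𝟙 _ := by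
  unfold tr
  exact X.map_id _

@[reassoc]
lemma tr_naturality {X Y : ℤᵒᵖ ⥤ A} (φ : X ⟶ Y) {p q : ℤ} (h : p ≤ q) :
    tr X h ≫ φ.app (op p) = φ.app (op q) ≫ tr Y h :=
  φ.naturality _

lemma stepHom_map (X : ℤᵒᵖ ⥤ A) (p : ℤ) :
    X.map (FilD.stepHom p) = tr X (Int.le_add_one le_rfl : p ≤ p + 1) := rfl

end Groth.Agent.Helper3.Fil

namespace Groth.Agent.Helper3.Fil

variable {A : Type u} [Category.{v} A] [Abelian A]

/-- transition maps are monomorphisms -/
def MonoT (X : ℤᵒᵖ ⥤ A) : Prop := ∀ ⦃p q : ℤᵒᵖ⦄ (f : p ⟶ q), Mono (X.map f)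

lemma MonoT.mono_tr {X : ℤᵒᵖ ⥤ A} (hX : MonoT X) {p q : ℤ} (h : p ≤ q) : Mono (tr X h) :=
  hX _

lemma monoT_of_filF (F : FilD.FilF A) : MonoT F.obj := F.property.1

/-- the projection to the graded piece -/
noncomputable def c (X : ℤᵒᵖ ⥤ A) (p : ℤ) : X.obj (op p) ⟶ (FilD.gr A p).obj X :=
  cokernel.π (X.map (FilD.stepHom p))

instance (X : ℤᵒᵖ ⥤ A) (p : ℤ) : Epi (c X p) := by
  unfold c
  exact coequalizer.π_epi

@[reassoc (attr := simp)]
lemma tr_c (X : ℤᵒᵖ ⥤ A) (p : ℤ) : tr X (Int.le_add_one le_rfl : p ≤ p + 1) ≫ c X p = 0 :=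
  cokernel.condition _

@[reassoc]
lemma c_naturality {X Y : ℤᵒᵖ ⥤ A} (φ : X ⟶ Y) (p : ℤ) :
    c X p ≫ (FilD.gr A p).map φ = φ.app (op p) ≫ c Y p :=
  cokernel.π_desc _ _ _

lemma exists_lift_of_c_eq_zero {X : ℤᵒᵖ ⥤ A} (hX : MonoT X) (p : ℤ) {T : A}
    (x : T ⟶ X.obj (op p)) (hx : x ≫ c X p = 0) :
    ∃ x' : T ⟶ X.obj (op (p + 1)), x' ≫ tr X (Int.le_add_one le_rfl : p ≤ p + 1) = x := by
  have : Mono (X.map (FilD.stepHom p)) := hX _
  exact ⟨Abelian.monoLift (X.map (FilD.stepHom p)) x hx, Abelian.monoLift_comp _ _ _⟩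

/-- elementwise strictness -/
def StrictEl {X Y : ℤᵒᵖ ⥤ A} (φ : X ⟶ Y) : Prop :=
  ∀ (p q : ℤ) (h : p ≤ q) (T : A) (x : T ⟶ X.obj (op p)) (y : T ⟶ Y.obj (op q)),
    x ≫ φ.app (op p) = y ≫ tr Y h →
    ∃ (T' : A) (π : T' ⟶ T) (_ : Epi π) (x' : T' ⟶ X.obj (op q)), π ≫ y = x' ≫ φ.app (op q)

/-- elementwise strictness for consecutive steps -/
def StrictStep {X Y : ℤᵒᵖ ⥤ A} (φ : X ⟶ Y) : Prop :=
  ∀ (p : ℤ) (T : A) (x : T ⟶ X.obj (op p)) (y : T ⟶ Y.obj (op (p + 1))),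
    x ≫ φ.app (op p) = y ≫ tr Y (Int.le_add_one le_rfl : p ≤ p + 1) →
    ∃ (T' : A) (π : T' ⟶ T) (_ : Epi π) (x' : T' ⟶ X.obj (op (p + 1))),
      π ≫ y = x' ≫ φ.app (op (p + 1))

lemma StrictEl.step {X Y : ℤᵒᵖ ⥤ A} {φ : X ⟶ Y} (h : StrictEl φ) : StrictStep φ :=
  fun p T x y hxy => h p (p + 1) _ T x y hxy

lemma StrictStep.strictEl {X Y : ℤᵒᵖ ⥤ A} {φ : X ⟶ Y} (h : StrictStep φ) : StrictEl φ := by
  have key : ∀ (n : ℕ) (p q : ℤ) (hq : q = p + n) (hpq : p ≤ q) (T : A) (x : T ⟶ X.obj (op p))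
      (y : T ⟶ Y.obj (op q)), x ≫ φ.app (op p) = y ≫ tr Y hpq →
      ∃ (T' : A) (π : T' ⟶ T) (_ : Epi π) (x' : T' ⟶ X.obj (op q)),
        π ≫ y = x' ≫ φ.app (op q) := by
    intro n
    induction n with
    | zero =>
      intro p q hq hpq T x y hxy
      obtain rfl : q = p := by simpa using hq
      refine ⟨T, 𝟙 T, inferInstance, x, ?_⟩
      rw [Category.id_comp, hxy, tr_refl, Category.comp_id]
    | succ n ih =>
      intro p q hq hpq T x y hxy
      obtain rfl : q = (p + n) + 1 := by rw [hq]; push_cast; ring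
      have h1 : p ≤ p + n := by omega
      have h2 : p + (n : ℤ) ≤ p + n + 1 := by omega
      obtain ⟨T₁, π₁, hπ₁, x₁, hx₁⟩ := ih p (p + n) rfl h1 T x (y ≫ tr Y h2) (by
        rw [hxy, Category.assoc, tr_tr])
      obtain ⟨T₂, π₂, hπ₂, x₂, hx₂⟩ := h (p + n) T₁ x₁ (π₁ ≫ y) (by
        rw [← hx₁, Category.assoc])
      exact ⟨T₂, π₂ ≫ π₁, epi_comp _ _, x₂, by rw [Category.assoc, hx₂]⟩
  intro p q hpq T x y hxy
  exact key (q - p).toNat p q (by omega) hpq T x y hxy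

/-- the official strictness is the elementwise one -/
lemma isStrict_iff {F G : FilD.FilF A} (φ : F ⟶ G) : FilD.IsStrict φ ↔ StrictEl φ.hom := by
  have hG : MonoT G.obj := monoT_of_filF G
  constructor
  · intro hs p q h T x y hxy
    have hm : Mono (G.obj.map (homOfLE h).op) := G.property.1 _
    have hfac : (imageSubobject (φ.hom.app (op p)) ⊓
        Subobject.mk (G.obj.map (homOfLE h).op)).Factors (x ≫ φ.hom.app (op p)) := by
      rw [Subobject.inf_factors]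
      constructor
      · exact (imageSubobject_factors_iff _ _).2 ⟨T, 𝟙 T, inferInstance, x, by simp⟩
      · rw [hxy]
        exact (Subobject.mk_factors_iff _ _).2 ⟨y, rfl⟩
    rw [← hs p q h] at hfac
    obtain ⟨T', π, hπ, x', hx'⟩ := (imageSubobject_factors_iff _ _).1 hfac
    refine ⟨T', π, hπ, x', ?_⟩
    rw [← cancel_mono (G.obj.map (homOfLE h).op), Category.assoc, Category.assoc, ← hx', hxy]
    rfl
  · intro hs p q h
    have hm : Mono (G.obj.map (homOfLE h).op) := G.property.1 _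
    apply le_antisymm
    · apply le_inf
      · rw [le_iff_factors, imageSubobject_factors_iff]
        refine ⟨_, factorThruImageSubobject _, inferInstance, F.obj.map (homOfLE h).op, ?_⟩
        rw [imageSubobject_arrow_comp]
        exact (φ.hom.naturality _).symm
      · rw [le_iff_factors]
        apply factors_of_epi_comp _ (factorThruImageSubobject _)
        rw [imageSubobject_arrow_comp]
        exact (Subobject.mk_factors_iff _ _).2 ⟨φ.hom.app (op q), rfl⟩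
    · rw [le_iff_factors]
      have hQ := Subobject.factors_self (imageSubobject (φ.hom.app (op p)) ⊓
        Subobject.mk (G.obj.map (homOfLE h).op))
      rw [Subobject.inf_factors] at hQ
      obtain ⟨T₁, π₁, hπ₁, x₁, hx₁⟩ := (imageSubobject_factors_iff _ _).1 hQ.1
      obtain ⟨y, hy⟩ := (Subobject.mk_factors_iff _ _).1 hQ.2
      obtain ⟨T₂, π₂, hπ₂, x₂, hx₂⟩ := hs p q h T₁ x₁ (π₁ ≫ y) (by
        rw [← hx₁, Category.assoc]
        congr 1
        exact hy.symm)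
      apply factors_of_epi_comp _ (π₂ ≫ π₁)
      rw [imageSubobject_factors_iff]
      refine ⟨T₂, 𝟙 _, inferInstance, x₂, ?_⟩
      rw [Category.id_comp, ← Category.assoc x₂, ← hx₂, Category.assoc, Category.assoc,
        Category.assoc]
      congr 2
      exact hy.symm

end Groth.Agent.Helper3.Fil
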