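import Mathlib
import Groth.Prelude.Def_FilD
import Groth.Agent.Lib.Helper3.FilBasic

set_option autoImplicit false
universe v u
open CategoryTheory CategoryTheory.Limits Opposite

namespace Groth.Agent.Helper3.Fil

variable {A : Type u} [Category.{v} A] [Abelian A]

section

variable (F G : ℤᵒᵖ ⥤ A)

lemma biprod_total_app (P : ℤᵒᵖ) :
    (biprod.fst : F ⊞ G ⟶ F).app P ≫ (biprod.inl : F ⟶ F ⊞ G).app P +
      (biprod.snd : F ⊞ G ⟶ G).app P ≫ (biprod.inr : G ⟶ F ⊞ G).app P = 𝟙 _ := by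
  have := congrArg (fun m => m.app P) (biprod.total (X := F) (Y := G))
  exact this

lemma isFinFil_biprod (hF : FilD.IsFinFil A F) (hG : FilD.IsFinFil A G) :
    FilD.IsFinFil A (F ⊞ G) := by
  obtain ⟨mF, ⟨bF, hbF⟩, ⟨aF, haF⟩⟩ := hF
  obtain ⟨mG, ⟨bG, hbG⟩, ⟨aG, haG⟩⟩ := hG
  have nat1 : ∀ {P Q : ℤᵒᵖ} (f : P ⟶ Q), (F ⊞ G).map f ≫ (biprod.fst : F ⊞ G ⟶ F).app Q =
      (biprod.fst : F ⊞ G ⟶ F).app P ≫ F.map f := fun f => (biprod.fst : F ⊞ G ⟶ F).naturality f
  have nat2 : ∀ {P Q : ℤᵒᵖ} (f : P ⟶ Q), (F ⊞ G).map f ≫ (biprod.snd : F ⊞ G ⟶ G).app Q =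
      (biprod.snd : F ⊞ G ⟶ G).app P ≫ G.map f := fun f => (biprod.snd : F ⊞ G ⟶ G).naturality f
  have nat3 : ∀ {P Q : ℤᵒᵖ} (f : P ⟶ Q), F.map f ≫ (biprod.inl : F ⟶ F ⊞ G).app Q =
      (biprod.inl : F ⟶ F ⊞ G).app P ≫ (F ⊞ G).map f :=
    fun f => (biprod.inl : F ⟶ F ⊞ G).naturality f
  have nat4 : ∀ {P Q : ℤᵒᵖ} (f : P ⟶ Q), G.map f ≫ (biprod.inr : G ⟶ F ⊞ G).app Q =
      (biprod.inr : G ⟶ F ⊞ G).app P ≫ (F ⊞ G).map f :=
    fun f => (biprod.inr : G ⟶ F ⊞ G).naturality f
  refine ⟨?_, ⟨max bF bG, ?_⟩, ⟨min aF aG, ?_⟩⟩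
  · intro P Q f
    apply Preadditive.mono_of_cancel_zero
    intro T x hx
    have := mF f
    have := mG f
    have h1 : x ≫ (biprod.fst : F ⊞ G ⟶ F).app P = 0 := by
      rw [← cancel_mono (F.map f), Category.assoc, ← nat1, ← Category.assoc, hx, zero_comp,
        zero_comp]
    have h2 : x ≫ (biprod.snd : F ⊞ G ⟶ G).app P = 0 := by
      rw [← cancel_mono (G.map f), Category.assoc, ← nat2, ← Category.assoc, hx, zero_comp,
        zero_comp]
    rw [← Category.comp_id x, ← biprod_total_app F G P, Preadditive.comp_add, ← Category.assoc,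
      h1, zero_comp, ← Category.assoc, h2, zero_comp, add_zero]
  · intro p hp
    rw [IsZero.iff_id_eq_zero, ← biprod_total_app F G (op p)]
    have h1 : (biprod.fst : F ⊞ G ⟶ F).app (op p) = 0 :=
      (hbF p ((le_max_left _ _).trans hp)).eq_of_tgt _ _
    have h2 : (biprod.snd : F ⊞ G ⟶ G).app (op p) = 0 :=
      (hbG p ((le_max_right _ _).trans hp)).eq_of_tgt _ _
    rw [h1, h2, zero_comp, zero_comp, add_zero]
  · intro P Q f hP
    have : IsIso (F.map f) := haF f (hP.trans (min_le_left _ _))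
    have : IsIso (G.map f) := haG f (hP.trans (min_le_right _ _))
    refine ⟨(biprod.fst : F ⊞ G ⟶ F).app Q ≫ inv (F.map f) ≫ (biprod.inl : F ⟶ F ⊞ G).app P +
      (biprod.snd : F ⊞ G ⟶ G).app Q ≫ inv (G.map f) ≫ (biprod.inr : G ⟶ F ⊞ G).app P, ?_, ?_⟩
    · rw [Preadditive.comp_add, ← Category.assoc, nat1, ← Category.assoc ((F ⊞ G).map f), nat2]
      simp only [Category.assoc, IsIso.hom_inv_id_assoc]
      exact biprod_total_app F G P
    · rw [Preadditive.add_comp]
      simp only [Category.assoc]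
      rw [← nat3, ← nat4, IsIso.inv_hom_id_assoc, IsIso.inv_hom_id_assoc]
      exact biprod_total_app F G Q

end

/-- the biproduct of finite filtered objects -/
noncomputable def biprodF (F G : FilD.FilF A) : FilD.FilF A :=
  ⟨F.obj ⊞ G.obj, isFinFil_biprod _ _ F.property G.property⟩

/-- the binary bicone -/
noncomputable def biconeF (F G : FilD.FilF A) : BinaryBicone F G where
  pt := biprodF F G
  fst := ObjectProperty.homMk biprod.fst
  snd := ObjectProperty.homMk biprod.snd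
  inl := ObjectProperty.homMk biprod.inl
  inr := ObjectProperty.homMk biprod.inr
  inl_fst := by apply ObjectProperty.hom_ext; exact biprod.inl_fst
  inl_snd := by apply ObjectProperty.hom_ext; exact biprod.inl_snd
  inr_fst := by apply ObjectProperty.hom_ext; exact biprod.inr_fst
  inr_snd := by apply ObjectProperty.hom_ext; exact biprod.inr_snd

instance : HasBinaryBiproducts (FilD.FilF A) where
  has_binary_biproduct F G := hasBinaryBiproduct_of_total (biconeF F G) (by
    apply ObjectProperty.hom_ext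
    exact biprod.total)

instance : HasZeroObject (FilD.FilF A) := inferInstance

end Groth.Agent.Helper3.Fil
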