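import Mathlib
import Groth.Prelude.Def_FilD
import Groth.Agent.Lib.Helper3.FilBasic

set_option autoImplicit false
universe v u
open CategoryTheory CategoryTheory.Limits Opposite

namespace Groth.Agent.Helper3.Fil

variable {A : Type u} [Category.{v} A] [Abelian A]

section

variable {X Y Z : ℤᵒᵖ ⥤ A} (f : X ⟶ Y) (g : Y ⟶ Z)

/-- graded exactness at the middle term, elementwise -/
def GrEx : Prop :=
  ∀ (p : ℤ) (T : A) (z : T ⟶ (FilD.gr A p).obj Y), z ≫ (FilD.gr A p).map g = 0 →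
    ∃ (T' : A) (π : T' ⟶ T) (_ : Epi π) (w : T' ⟶ (FilD.gr A p).obj X),
      π ≫ z = w ≫ (FilD.gr A p).map f

/-- levelwise exactness at the middle term, elementwise -/
def LevEx (p : ℤ) : Prop :=
  ∀ (T : A) (y : T ⟶ Y.obj (op p)), y ≫ g.app (op p) = 0 →
    ∃ (T' : A) (π : T' ⟶ T) (_ : Epi π) (x : T' ⟶ X.obj (op p)), π ≫ y = x ≫ f.app (op p)

variable {f g}

lemma gr_step (hY : MonoT Y) (h : GrEx f g) (p : ℤ) {T : A} (y : T ⟶ Y.obj (op p))
    (hy : (y ≫ g.app (op p)) ≫ c Z p = 0) :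
    ∃ (T' : A) (π : T' ⟶ T) (_ : Epi π) (x₁ : T' ⟶ X.obj (op p)) (y' : T' ⟶ Y.obj (op (p + 1))),
      π ≫ y = x₁ ≫ f.app (op p) + y' ≫ tr Y (Int.le_add_one le_rfl : p ≤ p + 1) := by
  obtain ⟨T₁, π₁, hπ₁, w, hw⟩ := h p T (y ≫ c Y p) (by
    rw [Category.assoc, c_naturality, ← Category.assoc, hy])
  obtain ⟨T₂, π₂, hπ₂, x₁, hx₁⟩ := surjective_up_to_refinements_of_epi (c X p) w
  have h1 : (π₂ ≫ π₁ ≫ y - x₁ ≫ f.app (op p)) ≫ c Y p = 0 := by
    rw [Preadditive.sub_comp, Category.assoc, Category.assoc, hw, ← Category.assoc π₂, hx₁,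
      Category.assoc, Category.assoc, c_naturality, sub_self]
  obtain ⟨y', hy'⟩ := exists_lift_of_c_eq_zero hY p _ h1
  refine ⟨T₂, π₂ ≫ π₁, inferInstance, x₁, y', ?_⟩
  rw [hy', Category.assoc]
  abel

lemma levEx_of_isZero (p : ℤ) (hp : IsZero (Y.obj (op p))) : LevEx f g p := by
  intro T y _
  exact ⟨T, 𝟙 T, inferInstance, 0, hp.eq_of_tgt _ _⟩

lemma levEx_step (hY : MonoT Y) (hZ : MonoT Z) (w : f ≫ g = 0) (h : GrEx f g) (p : ℤ)
    (hp : LevEx f g (p + 1)) : LevEx f g p := by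
  intro T y hy
  obtain ⟨T₁, π₁, hπ₁, x₁, y', hy'⟩ := gr_step hY h p y (by rw [hy, zero_comp])
  have hw : ∀ q : ℤ, f.app (op q) ≫ g.app (op q) = 0 := fun q => by
    rw [← NatTrans.comp_app, w]; rfl
  have := hZ.mono_tr (Int.le_add_one le_rfl : p ≤ p + 1)
  have h2 : y' ≫ g.app (op (p + 1)) = 0 := by
    rw [← cancel_mono (tr Z (Int.le_add_one le_rfl : p ≤ p + 1)), Category.assoc,
      ← tr_naturality, zero_comp, ← Category.assoc]
    have : y' ≫ tr Y (Int.le_add_one le_rfl : p ≤ p + 1) = π₁ ≫ y - x₁ ≫ f.app (op p) := by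
      rw [hy']; abel
    rw [this, Preadditive.sub_comp, Category.assoc, hy, comp_zero, Category.assoc, hw, comp_zero,
      sub_zero]
  obtain ⟨T₂, π₂, hπ₂, x₂, hx₂⟩ := hp T₁ y' h2
  refine ⟨T₂, π₂ ≫ π₁, inferInstance,
    π₂ ≫ x₁ + x₂ ≫ tr X (Int.le_add_one le_rfl : p ≤ p + 1), ?_⟩
  rw [Category.assoc, hy', Preadditive.comp_add, Preadditive.add_comp, Category.assoc,
    Category.assoc x₂, tr_naturality, ← Category.assoc x₂, ← hx₂, Category.assoc]

lemma levEx_all (hY : MonoT Y) (hZ : MonoT Z) (w : f ≫ g = 0) (h : GrEx f g)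
    (b : ℤ) (hb : ∀ p : ℤ, b ≤ p → IsZero (Y.obj (op p))) (p : ℤ) : LevEx f g p := by
  have key : ∀ (n : ℕ) (p : ℤ), b ≤ p + n → LevEx f g p := by
    intro n
    induction n with
    | zero =>
      intro p hp
      exact levEx_of_isZero p (hb p (by simpa using hp))
    | succ n ih =>
      intro p hp
      exact levEx_step hY hZ w h p (ih (p + 1) (by push_cast at hp; omega))
  exact key (b - p).toNat p (by omega)

lemma strictStep_left (hZ : MonoT Z) (w : f ≫ g = 0) (hl : ∀ p, LevEx f g p) : StrictStep f := by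
  intro p T x y hxy
  have hw : ∀ q : ℤ, f.app (op q) ≫ g.app (op q) = 0 := fun q => by
    rw [← NatTrans.comp_app, w]; rfl
  have := hZ.mono_tr (Int.le_add_one le_rfl : p ≤ p + 1)
  have h2 : y ≫ g.app (op (p + 1)) = 0 := by
    rw [← cancel_mono (tr Z (Int.le_add_one le_rfl : p ≤ p + 1)), Category.assoc,
      ← tr_naturality, zero_comp, ← Category.assoc, ← hxy, Category.assoc, hw, comp_zero]
  exact hl (p + 1) T y h2

lemma strictStep_right (hY : MonoT Y) (hZ : MonoT Z) (w : f ≫ g = 0) (h : GrEx f g) :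
    StrictStep g := by
  intro p T y z hyz
  have hw : ∀ q : ℤ, f.app (op q) ≫ g.app (op q) = 0 := fun q => by
    rw [← NatTrans.comp_app, w]; rfl
  obtain ⟨T₁, π₁, hπ₁, x₁, y', hy'⟩ := gr_step hY h p y (by
    rw [hyz, Category.assoc, tr_c, comp_zero])
  refine ⟨T₁, π₁, hπ₁, y', ?_⟩
  have := hZ.mono_tr (Int.le_add_one le_rfl : p ≤ p + 1)
  rw [← cancel_mono (tr Z (Int.le_add_one le_rfl : p ≤ p + 1)), Category.assoc, Category.assoc,
    ← tr_naturality, ← hyz, ← Category.assoc, hy', Preadditive.add_comp, Category.assoc, hw,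
    comp_zero, zero_add, Category.assoc]

end

theorem main_S1085 (S : ShortComplex (FilD.FilF A))
    (hS : ∀ p : ℤ, (S.map (FilD.grF A p)).Exact) :
    (∀ p : ℤ, (S.map ((FilD.IsFinFil A).ι ⋙ (evaluation ℤᵒᵖ A).obj (op p))).Exact) ∧
      FilD.IsStrict S.f ∧ FilD.IsStrict S.g := by
  have hY := monoT_of_filF S.X₂
  have hZ := monoT_of_filF S.X₃
  have w : S.f.hom ≫ S.g.hom = 0 := by
    have := congrArg (fun m => m.hom) S.zero
    exact this
  have hgr : GrEx S.f.hom S.g.hom := by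
    intro p T z hz
    have hp := hS p
    rw [ShortComplex.exact_iff_exact_up_to_refinements] at hp
    exact hp z hz
  obtain ⟨b, hb⟩ := S.X₂.property.2.1
  have hl := levEx_all hY hZ w hgr b hb
  refine ⟨fun p => ?_, ?_, ?_⟩
  · rw [ShortComplex.exact_iff_exact_up_to_refinements]
    intro T y hy
    exact hl p T y hy
  · rw [isStrict_iff]
    exact (strictStep_left hZ w hl).strictEl
  · rw [isStrict_iff]
    exact (strictStep_right hY hZ w hgr).strictEl

end Groth.Agent.Helper3.Fil
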