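import Mathlib
import Groth.Prelude.Def_FilD
import Groth.Agent.Lib.Helper3.FilBasic

set_option autoImplicit false
universe v u
open CategoryTheory CategoryTheory.Limits Opposite

namespace Groth.Agent.Helper3.Fil

variable {A : Type u} [Category.{v} A] [Abelian A]

lemma mono_kernel_ι_app {X Y : ℤᵒᵖ ⥤ A} (φ : X ⟶ Y) (P : ℤᵒᵖ) : Mono ((kernel.ι φ).app P) :=
  (NatTrans.mono_iff_mono_app (kernel.ι φ)).1 inferInstance P

lemma monoT_kernel {X Y : ℤᵒᵖ ⥤ A} (hX : MonoT X) (φ : X ⟶ Y) : MonoT (kernel φ) := by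
  intro P Q f
  have h1 := mono_kernel_ι_app φ P
  have h2 : Mono (X.map f) := hX f
  have h3 : Mono ((kernel φ).map f ≫ (kernel.ι φ).app Q) := by
    rw [(kernel.ι φ).naturality f]
    infer_instance
  exact mono_of_mono _ ((kernel.ι φ).app Q)

lemma exists_lift_kernel' {X Y : ℤᵒᵖ ⥤ A} (φ : X ⟶ Y) (P : ℤᵒᵖ) {T : A} (x : T ⟶ X.obj P)
    (hx : x ≫ φ.app P = 0) :
    ∃ (T' : A) (π : T' ⟶ T) (_ : Epi π) (k : T' ⟶ (kernel φ).obj P),
      π ≫ x = k ≫ (kernel.ι φ).app P := by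
  have hS : (ShortComplex.mk (kernel.ι φ) φ (kernel.condition φ)).Exact :=
    ShortComplex.exact_of_f_is_kernel _ (kernelIsKernel φ)
  have hS' := hS.map ((evaluation ℤᵒᵖ A).obj P)
  rw [ShortComplex.exact_iff_exact_up_to_refinements] at hS'
  exact hS' x hx

lemma isIso_kernel_map {X Y : ℤᵒᵖ ⥤ A} (hX : MonoT X) (hY : MonoT Y) (φ : X ⟶ Y) {P Q : ℤᵒᵖ}
    (f : P ⟶ Q) [IsIso (X.map f)] : IsIso ((kernel φ).map f) := by
  have hm : Mono ((kernel φ).map f) := monoT_kernel hX φ f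
  have he : Epi ((kernel φ).map f) := by
    rw [epi_iff_surjective_up_to_refinements]
    intro T k
    have hYm : Mono (Y.map f) := hY f
    have h0 : ((k ≫ (kernel.ι φ).app Q) ≫ inv (X.map f)) ≫ φ.app P = 0 := by
      rw [← cancel_mono (Y.map f), zero_comp, Category.assoc, Category.assoc, ← φ.naturality,
        IsIso.inv_hom_id_assoc, Category.assoc, ← NatTrans.comp_app, kernel.condition]
      simp
    obtain ⟨T', π, hπ, k', hk'⟩ := exists_lift_kernel' φ P _ h0
    refine ⟨T', π, hπ, k', ?_⟩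
    have := mono_kernel_ι_app φ Q
    rw [← cancel_mono ((kernel.ι φ).app Q), Category.assoc, Category.assoc,
      (kernel.ι φ).naturality f, ← Category.assoc k', ← hk']
    simp
  exact isIso_of_mono_of_epi _

lemma isFinFil_kernel {X Y : FilD.FilF A} (φ : X ⟶ Y) : FilD.IsFinFil A (kernel φ.hom) := by
  refine ⟨monoT_kernel (monoT_of_filF X) φ.hom, ?_, ?_⟩
  · obtain ⟨b, hb⟩ := X.property.2.1
    refine ⟨b, fun p hp => ?_⟩
    have := mono_kernel_ι_app φ.hom (op p)
    exact IsZero.of_mono ((kernel.ι φ.hom).app (op p)) (hb p hp)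
  · obtain ⟨a, ha⟩ := X.property.2.2
    refine ⟨a, fun P Q f hP => ?_⟩
    have := ha f hP
    exact isIso_kernel_map (monoT_of_filF X) (monoT_of_filF Y) φ.hom f

/-- the kernel of a morphism of finite filtered objects -/
noncomputable def kerF {X Y : FilD.FilF A} (φ : X ⟶ Y) : FilD.FilF A :=
  ⟨kernel φ.hom, isFinFil_kernel φ⟩

/-- the inclusion of the kernel -/
noncomputable def kerι {X Y : FilD.FilF A} (φ : X ⟶ Y) : kerF φ ⟶ X :=
  ObjectProperty.homMk (kernel.ι φ.hom)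

lemma kerι_comp {X Y : FilD.FilF A} (φ : X ⟶ Y) : kerι φ ≫ φ = 0 := by
  apply ObjectProperty.hom_ext
  exact kernel.condition φ.hom

lemma mono_hom_of_mono {X Y : FilD.FilF A} (φ : X ⟶ Y) [Mono φ] : Mono φ.hom := by
  have h : kerι φ = 0 := by
    rw [← cancel_mono φ, kerι_comp, zero_comp]
  have h' : kernel.ι φ.hom = 0 := congrArg (fun m => m.hom) h
  exact Preadditive.mono_of_kernel_zero h'

lemma mono_app_of_mono {X Y : FilD.FilF A} (φ : X ⟶ Y) [Mono φ] (p : ℤ) :
    Mono (φ.hom.app (op p)) := by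
  have := mono_hom_of_mono φ
  exact (NatTrans.mono_iff_mono_app φ.hom).1 inferInstance (op p)

lemma mono_of_mono_hom {X Y : FilD.FilF A} (φ : X ⟶ Y) [Mono φ.hom] : Mono φ := by
  constructor
  intro Z a b hab
  apply ObjectProperty.hom_ext
  rw [← cancel_mono φ.hom]
  exact congrArg (fun m => m.hom) hab

end Groth.Agent.Helper3.Fil
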