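import Mathlib
import Groth.Prelude.Def_FilD
import Groth.Agent.Lib.Helper3.FilBasic
import Groth.Agent.Lib.Helper3.FilKer
import Groth.Agent.Lib.Helper3.FilExact

set_option autoImplicit false
universe v u
open CategoryTheory CategoryTheory.Limits Opposite

namespace Groth.Agent.Helper3.Fil

variable {A : Type u} [Category.{v} A] [Abelian A]

section FunctorLevel

variable {X Y : ℤᵒᵖ ⥤ A} (φ : X ⟶ Y)

lemma epi_cokernel_π_app (P : ℤᵒᵖ) : Epi ((cokernel.π φ).app P) :=
  (NatTrans.epi_iff_epi_app (cokernel.π φ)).1 inferInstance P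

lemma cokernel_π_app_comp (P : ℤᵒᵖ) : φ.app P ≫ (cokernel.π φ).app P = 0 := by
  rw [← NatTrans.comp_app, cokernel.condition]
  rfl

lemma cokernel_exact_app (P : ℤᵒᵖ) {T : A} (y : T ⟶ Y.obj P)
    (hy : y ≫ (cokernel.π φ).app P = 0) :
    ∃ (T' : A) (π : T' ⟶ T) (_ : Epi π) (x : T' ⟶ X.obj P), π ≫ y = x ≫ φ.app P := by
  have hS : (ShortComplex.mk φ (cokernel.π φ) (cokernel.condition φ)).Exact :=
    ShortComplex.exact_of_g_is_cokernel _ (cokernelIsCokernel φ)
  have hS' := hS.map ((evaluation ℤᵒᵖ A).obj P)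
  rw [ShortComplex.exact_iff_exact_up_to_refinements] at hS'
  exact hS' y hy

lemma monoT_cokernel (hs : StrictEl φ) : MonoT (cokernel φ) := by
  intro P Q f
  have hpq : Q.unop ≤ P.unop := leOfHom f.unop
  apply Preadditive.mono_of_cancel_zero
  intro T z hz
  have := epi_cokernel_π_app φ P
  obtain ⟨T₁, π₁, hπ₁, y, hy⟩ := surjective_up_to_refinements_of_epi ((cokernel.π φ).app P) z
  have h1 : (y ≫ Y.map f) ≫ (cokernel.π φ).app Q = 0 := by
    rw [Category.assoc, (cokernel.π φ).naturality f, ← Category.assoc, ← hy, Category.assoc, hz,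
      comp_zero]
  obtain ⟨T₂, π₂, hπ₂, x, hx⟩ := cokernel_exact_app φ Q _ h1
  obtain ⟨T₃, π₃, hπ₃, x', hx'⟩ := hs Q.unop P.unop hpq T₂ x (π₂ ≫ y) (by
    rw [← hx, Category.assoc]
    rfl)
  have hx'' : π₃ ≫ π₂ ≫ y = x' ≫ φ.app P := hx'
  rw [← cancel_epi π₁, ← cancel_epi π₂, ← cancel_epi π₃, hy, ← Category.assoc π₂,
    ← Category.assoc π₃, hx', Category.assoc, cokernel_π_app_comp, comp_zero,
    comp_zero, comp_zero, comp_zero]

lemma isZero_cokernel_obj (P : ℤᵒᵖ) (h : IsZero (Y.obj P)) : IsZero ((cokernel φ).obj P) := by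
  have := epi_cokernel_π_app φ P
  exact IsZero.of_epi ((cokernel.π φ).app P) h

lemma isIso_cokernel_map (hs : StrictEl φ) {P Q : ℤᵒᵖ} (f : P ⟶ Q) [IsIso (Y.map f)] :
    IsIso ((cokernel φ).map f) := by
  have hm : Mono ((cokernel φ).map f) := monoT_cokernel φ hs f
  have he : Epi ((cokernel φ).map f) := by
    have h1 := epi_cokernel_π_app φ Q
    have h3 : Epi ((cokernel.π φ).app P ≫ (cokernel φ).map f) := by
      rw [← (cokernel.π φ).naturality f]
      exact epi_comp _ _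
    exact epi_of_epi ((cokernel.π φ).app P) _
  exact isIso_of_mono_of_epi _

/-- `gr` of the projection to the cokernel is an epimorphism -/
lemma epi_gr_cokernel_π (p : ℤ) : Epi ((FilD.gr A p).map (cokernel.π φ)) := by
  have h1 := epi_cokernel_π_app φ (op p)
  have h3 : Epi (c Y p ≫ (FilD.gr A p).map (cokernel.π φ)) := by
    rw [c_naturality]
    exact epi_comp _ _
  exact epi_of_epi (c Y p) _

/-- `gr X ⟶ gr Y ⟶ gr (coker)` is exact -/
lemma grEx_cokernel (hQ : MonoT (cokernel φ)) : GrEx φ (cokernel.π φ) := by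
  intro p T z hz
  obtain ⟨T₁, π₁, hπ₁, y, hy⟩ := surjective_up_to_refinements_of_epi (c Y p) z
  have h1 : (y ≫ (cokernel.π φ).app (op p)) ≫ c (cokernel φ) p = 0 := by
    rw [Category.assoc, ← c_naturality, ← Category.assoc, ← hy, Category.assoc, hz, comp_zero]
  obtain ⟨q', hq'⟩ := exists_lift_of_c_eq_zero hQ p _ h1
  have := epi_cokernel_π_app φ (op (p + 1))
  obtain ⟨T₂, π₂, hπ₂, y', hy'⟩ :=
    surjective_up_to_refinements_of_epi ((cokernel.π φ).app (op (p + 1))) q'
  have h2 : (π₂ ≫ y - y' ≫ tr Y (Int.le_add_one le_rfl : p ≤ p + 1)) ≫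
      (cokernel.π φ).app (op p) = 0 := by
    rw [Preadditive.sub_comp, Category.assoc, Category.assoc, tr_naturality, ← Category.assoc y',
      ← hy', Category.assoc, hq', sub_self]
  obtain ⟨T₃, π₃, hπ₃, x, hx⟩ := cokernel_exact_app φ (op p) _ h2
  refine ⟨T₃, π₃ ≫ π₂ ≫ π₁, inferInstance, x ≫ c X p, ?_⟩
  rw [Category.assoc, Category.assoc, hy, Category.assoc, c_naturality, ← Category.assoc x, ← hx,
    Preadditive.comp_sub, Preadditive.sub_comp, Category.assoc, Category.assoc, Category.assoc,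
    Category.assoc, tr_c, comp_zero, comp_zero, sub_zero]

/-- `gr` of a strict levelwise monomorphism is a monomorphism -/
lemma mono_gr_of_strict (hX : MonoT X) (hY : MonoT Y) (hm : ∀ P, Mono (φ.app P))
    (hs : StrictStep φ) (p : ℤ) : Mono ((FilD.gr A p).map φ) := by
  apply Preadditive.mono_of_cancel_zero
  intro T z hz
  obtain ⟨T₁, π₁, hπ₁, x, hx⟩ := surjective_up_to_refinements_of_epi (c X p) z
  have h1 : (x ≫ φ.app (op p)) ≫ c Y p = 0 := by
    rw [Category.assoc, ← c_naturality, ← Category.assoc, ← hx, Category.assoc, hz, comp_zero]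
  obtain ⟨y', hy'⟩ := exists_lift_of_c_eq_zero hY p _ h1
  obtain ⟨T₂, π₂, hπ₂, x', hx'⟩ := hs p T₁ x y' hy'.symm
  have := hm (op p)
  have h2 : π₂ ≫ x = x' ≫ tr X (Int.le_add_one le_rfl : p ≤ p + 1) := by
    rw [← cancel_mono (φ.app (op p)), Category.assoc, Category.assoc, tr_naturality,
      ← Category.assoc x', ← hx', Category.assoc, hy']
  rw [← cancel_epi π₁, ← cancel_epi π₂, hx, ← Category.assoc, h2, Category.assoc, tr_c, comp_zero,
    comp_zero, comp_zero]

end FunctorLevel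

end Groth.Agent.Helper3.Fil
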