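import Mathlib
import Groth.Prelude.Def_FilD
import Groth.Agent.Lib.Helper3.FilBasic

set_option autoImplicit false
universe v u
open CategoryTheory CategoryTheory.Limits Opposite

namespace Groth.Agent.Helper3.Fil

variable {A : Type u} [Category.{v} A] [Abelian A]

/-- an extension of injectives is injective -/
lemma injective_of_mono_cokernel {P Q : A} (t : P ⟶ Q) [Mono t] [Injective P]
    [Injective (cokernel t)] : Injective Q := by
  constructor
  intro U V h m hm
  let r : Q ⟶ P := Injective.factorThru (𝟙 P) t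
  have hr : t ≫ r = 𝟙 P := Injective.comp_factorThru _ _
  let σ : cokernel t ⟶ Q := cokernel.desc t (𝟙 Q - r ≫ t) (by
    rw [Preadditive.comp_sub, Category.comp_id, ← Category.assoc, hr, Category.id_comp, sub_self])
  have hσ : cokernel.π t ≫ σ = 𝟙 Q - r ≫ t := cokernel.π_desc _ _ _
  let e₁ : V ⟶ P := Injective.factorThru (h ≫ r) m
  have he₁ : m ≫ e₁ = h ≫ r := Injective.comp_factorThru _ _
  let e₂ : V ⟶ cokernel t := Injective.factorThru (h ≫ cokernel.π t) m
  have he₂ : m ≫ e₂ = h ≫ cokernel.π t := Injective.comp_factorThru _ _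
  refine ⟨e₁ ≫ t + e₂ ≫ σ, ?_⟩
  rw [Preadditive.comp_add, ← Category.assoc, he₁, ← Category.assoc m, he₂, Category.assoc,
    Category.assoc, hσ, Preadditive.comp_sub, Category.comp_id]
  abel

/-- the levels of a filtered injective object are injective -/
lemma injective_level {I : ℤᵒᵖ ⥤ A} (hI : MonoT I)
    (hgr : ∀ p : ℤ, Injective ((FilD.gr A p).obj I)) (b : ℤ)
    (hb : ∀ p : ℤ, b ≤ p → IsZero (I.obj (op p))) (p : ℤ) : Injective (I.obj (op p)) := by
  have key : ∀ (n : ℕ) (p : ℤ), b ≤ p + n → Injective (I.obj (op p)) := by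
    intro n
    induction n with
    | zero =>
      intro p hp
      have hz := hb p (by simpa using hp)
      constructor
      intro U V h m hm
      exact ⟨0, hz.eq_of_tgt _ _⟩
    | succ n ih =>
      intro p hp
      have h1 : Injective (I.obj (op (p + 1))) := ih (p + 1) (by push_cast at hp; omega)
      have h2 : Mono (I.map (FilD.stepHom p)) := hI _
      have h3 : Injective (cokernel (I.map (FilD.stepHom p))) := hgr p
      exact injective_of_mono_cokernel (I.map (FilD.stepHom p))
  exact key (b - p).toNat p (by omega)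

section Ext

variable {X Y I : ℤᵒᵖ ⥤ A} (u : X ⟶ Y) (f : X ⟶ I)

/-- a natural transformation from a family commuting with consecutive transition maps -/
noncomputable def natTransOfSteps (G : ∀ p : ℤ, Y.obj (op p) ⟶ I.obj (op p))
    (h : ∀ (p q : ℤ) (hq : q = p + 1),
      tr Y (by omega : p ≤ q) ≫ G p = G q ≫ tr I (by omega : p ≤ q)) : Y ⟶ I where
  app P := G P.unop
  naturality P Q φ := by
    have key : ∀ (n : ℕ) (p q : ℤ) (hq : q = p + n) (hpq : p ≤ q),
        tr Y hpq ≫ G p = G q ≫ tr I hpq := by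
      intro n
      induction n with
      | zero =>
        intro p q hq hpq
        obtain rfl : q = p := by simpa using hq
        simp
      | succ n ih =>
        intro p q hq hpq
        have h1 : p ≤ q - 1 := by push_cast at hq; omega
        have h2 : q - 1 ≤ q := by omega
        rw [← tr_tr Y h1 h2, Category.assoc, ih p (q - 1) (by push_cast at hq; omega) h1,
          ← Category.assoc, h (q - 1) q (by omega), Category.assoc, tr_tr]
    have hle : Q.unop ≤ P.unop := leOfHom φ.unop
    exact key (P.unop - Q.unop).toNat Q.unop P.unop (by omega) hle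

variable (hu : ∀ p : ℤ, Mono (u.app (op p))) (hs : StrictStep u)

include hu hs in
lemma ext_kernel (p : ℤ) (g' : Y.obj (op (p + 1)) ⟶ I.obj (op (p + 1)))
    (hg' : u.app (op (p + 1)) ≫ g' = f.app (op (p + 1))) {T : A}
    (k : T ⟶ X.obj (op p) ⊞ Y.obj (op (p + 1)))
    (hk : k ≫ biprod.desc (u.app (op p)) (tr Y (Int.le_add_one le_rfl : p ≤ p + 1)) = 0) :
    k ≫ biprod.desc (f.app (op p)) (g' ≫ tr I (Int.le_add_one le_rfl : p ≤ p + 1)) = 0 := by
  have hp : p ≤ p + 1 := Int.le_add_one le_rfl
  generalize hx : k ≫ biprod.fst = x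
  generalize hy : k ≫ biprod.snd = y
  have hk0 : k = biprod.lift x y := by
    ext
    · simp [hx]
    · simp [hy]
  subst hk0
  have e1 : x ≫ u.app (op p) = (-y) ≫ tr Y hp := by
    have : x ≫ u.app (op p) + y ≫ tr Y hp = 0 := by
      rw [← hk, biprod.lift_desc]
    rw [Preadditive.neg_comp]
    exact eq_neg_of_add_eq_zero_left this
  obtain ⟨T', π, hπ, x', hx'⟩ := hs p T x (-y) e1
  have := hu p
  have e2 : x' ≫ tr X hp = π ≫ x := by
    rw [← cancel_mono (u.app (op p))]
    calc (x' ≫ tr X hp) ≫ u.app (op p) = (x' ≫ u.app (op (p + 1))) ≫ tr Y hp := by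
          rw [Category.assoc, tr_naturality, Category.assoc]
      _ = (π ≫ (-y)) ≫ tr Y hp := by rw [hx']
      _ = (π ≫ x) ≫ u.app (op p) := by rw [Category.assoc, ← e1, Category.assoc]
  have e4 : π ≫ y = -(x' ≫ u.app (op (p + 1))) := by
    rw [← hx', Preadditive.comp_neg, neg_neg]
  rw [← cancel_epi π, comp_zero, biprod.lift_desc, Preadditive.comp_add]
  calc π ≫ x ≫ f.app (op p) + π ≫ y ≫ g' ≫ tr I hp
      = (π ≫ x) ≫ f.app (op p) + (π ≫ y) ≫ g' ≫ tr I hp := by
        rw [Category.assoc, Category.assoc]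
    _ = (x' ≫ tr X hp) ≫ f.app (op p) - (x' ≫ u.app (op (p + 1))) ≫ g' ≫ tr I hp := by
        rw [e2, e4, Preadditive.neg_comp, sub_eq_add_neg]
    _ = x' ≫ (tr X hp ≫ f.app (op p) - f.app (op (p + 1)) ≫ tr I hp) := by
        rw [Preadditive.comp_sub, Category.assoc, Category.assoc, ← Category.assoc (u.app _), hg']
    _ = 0 := by rw [tr_naturality, sub_self, comp_zero]

include hu hs in
lemma ext_step (hIinj : ∀ p : ℤ, Injective (I.obj (op p)))
    (p q : ℤ) (hq : q = p + 1)
    (g' : {g : Y.obj (op q) ⟶ I.obj (op q) // u.app (op q) ≫ g = f.app (op q)}) :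
    ∃ g : {g : Y.obj (op p) ⟶ I.obj (op p) // u.app (op p) ≫ g = f.app (op p)},
      tr Y (by omega : p ≤ q) ≫ g.1 = g'.1 ≫ tr I (by omega : p ≤ q) := by
  subst hq
  have hp : p ≤ p + 1 := Int.le_add_one le_rfl
  let s := biprod.desc (u.app (op p)) (tr Y hp)
  let h := biprod.desc (f.app (op p)) (g'.1 ≫ tr I hp)
  have hk : kernel.ι s ≫ h = 0 := ext_kernel u f hu hs p g'.1 g'.2 (kernel.ι s) (kernel.condition s)
  let h' : Abelian.coimage s ⟶ I.obj (op p) := cokernel.desc (kernel.ι s) h hk
  have := hIinj p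
  let g := Injective.factorThru h' (Abelian.factorThruCoimage s)
  have hg : s ≫ g = h := by
    rw [← Abelian.coimage.fac s, Category.assoc]
    have : Abelian.factorThruCoimage s ≫ g = h' := Injective.comp_factorThru _ _
    rw [this]
    exact cokernel.π_desc _ _ _
  refine ⟨⟨g, ?_⟩, ?_⟩
  · have := congrArg (fun m => biprod.inl ≫ m) hg
    simpa [s, h] using this
  · have := congrArg (fun m => biprod.inr ≫ m) hg
    simpa [s, h] using this

include hu hs in
theorem exists_ext (hIinj : ∀ p : ℤ, Injective (I.obj (op p))) (b : ℤ)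
    (hb : ∀ p : ℤ, b ≤ p → IsZero (I.obj (op p))) : ∃ g : Y ⟶ I, u ≫ g = f := by
  classical
  let C : ℤ → Type v := fun p =>
    {g : Y.obj (op p) ⟶ I.obj (op p) // u.app (op p) ≫ g = f.app (op p)}
  let zeroC : ∀ p : ℤ, b ≤ p → C p := fun p hp => ⟨0, (hb p hp).eq_of_tgt _ _⟩
  let pred : ∀ k : ℤ, k ≤ b → C k → C (k - 1) := fun k _ prev =>
    Classical.choose (ext_step u f hu hs hIinj (k - 1) k (by omega) prev)
  have hpred : ∀ (k : ℤ) (hk : k ≤ b) (prev : C k),
      tr Y (by omega : k - 1 ≤ k) ≫ (pred k hk prev).1 = prev.1 ≫ tr I (by omega : k - 1 ≤ k) :=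
    fun k hk prev => Classical.choose_spec (ext_step u f hu hs hIinj (k - 1) k (by omega) prev)
  let G : ∀ p : ℤ, C p := fun p =>
    Int.inductionOn' (motive := C) p b (zeroC b le_rfl) (fun k hk _ => zeroC (k + 1) (by omega)) pred
  have compat : ∀ (p q : ℤ) (hq : q = p + 1),
      tr Y (by omega : p ≤ q) ≫ (G p).1 = (G q).1 ≫ tr I (by omega : p ≤ q) := by
    intro p q hq
    by_cases hqb : q ≤ b
    · obtain rfl : p = q - 1 := by omega
      have e : G (q - 1) = pred q hqb (G q) := Int.inductionOn'_sub_one hqb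
      rw [e]
      exact hpred q hqb (G q)
    · exact (hb p (by omega)).eq_of_tgt _ _
  refine ⟨natTransOfSteps (fun p => (G p).1) compat, ?_⟩
  ext P
  exact (G P.unop).2

end Ext

end Groth.Agent.Helper3.Fil
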