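import Mathlib
import Groth.Prelude.Def_FilD
import Groth.Agent.Lib.Helper3.FilBasic
import Groth.Agent.Lib.Helper3.FilInj
import Groth.Agent.Lib.Helper3.FilKer

set_option autoImplicit false
universe v u
open CategoryTheory CategoryTheory.Limits Opposite

namespace Groth.Agent.Helper3.Fil

variable {A : Type u} [Category.{v} A] [Abelian A]

lemma injective_level_of {I : FilD.FilF A} (hI : FilD.IsFilteredInjective I) (p : ℤ) :
    Injective (I.obj.obj (op p)) := by
  obtain ⟨b, hb⟩ := I.property.2.1
  exact injective_level (monoT_of_filF I) hI b hb p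

/-- the lifting property of filtered injectives along strict monomorphisms -/
theorem exists_desc {X Y I : FilD.FilF A} (u : X ⟶ Y) [Mono u] (hu : FilD.IsStrict u)
    (hI : FilD.IsFilteredInjective I) (f : X ⟶ I) : ∃ g : Y ⟶ I, u ≫ g = f := by
  obtain ⟨b, hb⟩ := I.property.2.1
  obtain ⟨g, hg⟩ := exists_ext u.hom f.hom (fun p => mono_app_of_mono u p)
    ((isStrict_iff u).1 hu).step (fun p => injective_level_of hI p) b hb
  exact ⟨ObjectProperty.homMk g, ObjectProperty.hom_ext _ hg⟩

theorem exists_retraction {I X : FilD.FilF A} (u : I ⟶ X) [Mono u] (hu : FilD.IsStrict u)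
    (hI : FilD.IsFilteredInjective I) : ∃ r : X ⟶ I, u ≫ r = 𝟙 I :=
  exists_desc u hu hI (𝟙 I)

end Groth.Agent.Helper3.Fil
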