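import Mathlib
import Groth.Prelude.Def_FilD
import Groth.Agent.Lib.Helper3.FilBasic
import Groth.Agent.Lib.Helper3.FilKer
import Groth.Agent.Lib.Helper3.FilExact
import Groth.Agent.Lib.Helper3.FilLift

set_option autoImplicit false
universe v u
open CategoryTheory CategoryTheory.Limits Opposite

namespace Groth.Agent.Helper3.Fil

variable {A : Type u} [Category.{v} A] [Abelian A]

section Image

variable {Y Z : FilD.FilF A} (g : Y ⟶ Z)

/-- underlying functor of the image -/
noncomputable def imObj : ℤᵒᵖ ⥤ A := Abelian.image g.hom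

/-- the epi part -/
noncomputable def imE : Y.obj ⟶ imObj g := Abelian.factorThruImage g.hom

/-- the mono part -/
noncomputable def imM : imObj g ⟶ Z.obj := Abelian.image.ι g.hom

@[reassoc]
lemma imE_imM : imE g ≫ imM g = g.hom := Abelian.image.fac g.hom

instance : Epi (imE g) := inferInstanceAs (Epi (Abelian.factorThruImage g.hom))

instance : Mono (imM g) := inferInstanceAs (Mono (Abelian.image.ι g.hom))

lemma epi_imE_app (P : ℤᵒᵖ) : Epi ((imE g).app P) :=
  (NatTrans.epi_iff_epi_app (imE g)).1 inferInstance P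

lemma mono_imM_app (P : ℤᵒᵖ) : Mono ((imM g).app P) :=
  (NatTrans.mono_iff_mono_app (imM g)).1 inferInstance P

@[reassoc]
lemma imE_imM_app (P : ℤᵒᵖ) : (imE g).app P ≫ (imM g).app P = g.hom.app P := by
  rw [← NatTrans.comp_app, imE_imM]

lemma isFinFil_imObj : FilD.IsFinFil A (imObj g) := by
  refine ⟨?_, ?_, ?_⟩
  · intro P Q f
    have h1 := mono_imM_app g P
    have h2 : Mono (Z.obj.map f) := Z.property.1 f
    have h3 : Mono ((imObj g).map f ≫ (imM g).app Q) := by
      rw [(imM g).naturality f]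
      exact mono_comp _ _
    exact mono_of_mono _ ((imM g).app Q)
  · obtain ⟨b, hb⟩ := Z.property.2.1
    refine ⟨b, fun p hp => ?_⟩
    have := mono_imM_app g (op p)
    exact IsZero.of_mono ((imM g).app (op p)) (hb p hp)
  · obtain ⟨a, ha⟩ := Y.property.2.2
    refine ⟨a, fun P Q f hP => ?_⟩
    have h1 : Mono ((imObj g).map f) := by
      have h1 := mono_imM_app g P
      have h2 : Mono (Z.obj.map f) := Z.property.1 f
      have h3 : Mono ((imObj g).map f ≫ (imM g).app Q) := by
        rw [(imM g).naturality f]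
        exact mono_comp _ _
      exact mono_of_mono _ ((imM g).app Q)
    have h2 : Epi ((imObj g).map f) := by
      have : IsIso (Y.obj.map f) := ha f hP
      have h1 := epi_imE_app g Q
      have h3 : Epi ((imE g).app P ≫ (imObj g).map f) := by
        rw [← (imE g).naturality f]
        exact epi_comp _ _
      exact epi_of_epi ((imE g).app P) _
    exact isIso_of_mono_of_epi _

/-- the image as a finite filtered object -/
noncomputable def imF : FilD.FilF A := ⟨imObj g, isFinFil_imObj g⟩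

/-- the inclusion of the image -/
noncomputable def imι : imF g ⟶ Z := ObjectProperty.homMk (imM g)

/-- the projection to the image -/
noncomputable def imπ : Y ⟶ imF g := ObjectProperty.homMk (imE g)

lemma imπ_imι : imπ g ≫ imι g = g := by
  apply ObjectProperty.hom_ext
  exact imE_imM g

instance : Mono (imι g) := by
  have : Mono (imι g).hom := (inferInstance : Mono (imM g))
  exact mono_of_mono_hom (imι g)

lemma isStrict_imι (hg : FilD.IsStrict g) : FilD.IsStrict (imι g) := by
  rw [isStrict_iff] at hg ⊢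
  intro p q h T x y hxy
  have := epi_imE_app g (op p)
  obtain ⟨T₁, π₁, hπ₁, x₁, hx₁⟩ := surjective_up_to_refinements_of_epi ((imE g).app (op p)) x
  obtain ⟨T₂, π₂, hπ₂, y₂, hy₂⟩ := hg p q h T₁ x₁ (π₁ ≫ y) (by
    rw [← imE_imM_app, ← Category.assoc, ← hx₁, Category.assoc, Category.assoc]
    congr 1)
  refine ⟨T₂, π₂ ≫ π₁, epi_comp _ _, y₂ ≫ (imE g).app (op q), ?_⟩
  rw [Category.assoc, hy₂, Category.assoc]
  congr 1
  exact (imE_imM_app g (op q)).symm

end Image

/-- extension of maps to filtered injectives through a graded-exact pair -/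
theorem exists_desc_of_grExact (S : ShortComplex (FilD.FilF A))
    (hS : ∀ p : ℤ, (S.map (FilD.grF A p)).Exact) {I : FilD.FilF A}
    (hI : FilD.IsFilteredInjective I) (ψ : S.X₂ ⟶ I) (hψ : S.f ≫ ψ = 0) :
    ∃ h : S.X₃ ⟶ I, S.g ≫ h = ψ := by
  obtain ⟨hlev, -, hg⟩ := main_S1085 S hS
  have hk : kernel.ι (imE S.g) ≫ ψ.hom = 0 := by
    ext P
    rw [NatTrans.comp_app]
    have h0 : (kernel.ι (imE S.g)).app P ≫ S.g.hom.app P = 0 := by
      rw [← imE_imM_app, ← Category.assoc, ← NatTrans.comp_app, kernel.condition]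
      exact zero_comp
    have hP : ∀ (T : A) (y : T ⟶ S.X₂.obj.obj P), y ≫ S.g.hom.app P = 0 →
        ∃ (T' : A) (π : T' ⟶ T) (_ : Epi π) (x : T' ⟶ S.X₁.obj.obj P),
          π ≫ y = x ≫ S.f.hom.app P := by
      have hP := hlev P.unop
      rw [ShortComplex.exact_iff_exact_up_to_refinements] at hP
      intro T y hy
      exact hP y hy
    obtain ⟨T', π, hπ, x, hx⟩ := hP _ ((kernel.ι (imE S.g)).app P) h0
    have h1 : S.f.hom.app P ≫ ψ.hom.app P = 0 := by
      have := congrArg (fun m => m.hom.app P) hψ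
      exact this
    rw [← cancel_epi π, ← Category.assoc, hx, Category.assoc, h1, comp_zero]
    exact comp_zero.symm
  have : Epi (imE S.g) := inferInstance
  let ψbar : imF S.g ⟶ I := ObjectProperty.homMk (Abelian.epiDesc (imE S.g) ψ.hom hk)
  obtain ⟨h, hh⟩ := exists_desc (imι S.g) (isStrict_imι S.g hg) hI ψbar
  refine ⟨h, ?_⟩
  rw [← imπ_imι S.g, Category.assoc, hh]
  apply ObjectProperty.hom_ext
  exact Abelian.comp_epiDesc (imE S.g) ψ.hom hk

section Htpy

variable (K I : CochainComplex (FilD.FilF A) ℤ) (φ : K ⟶ I)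

/-- data at stage `n` of the construction of the null-homotopy -/
def Stage (n : ℤ) : Type v :=
  {h : K.X (n + 1) ⟶ I.X n // K.d n (n + 1) ≫ (φ.f (n + 1) - h ≫ I.d n (n + 1)) = 0}

variable {K I φ}

lemma step_exists (hK : FilD.IsFilteredAcyclic K) (hI : ∀ n, FilD.IsFilteredInjective (I.X n))
    (n : ℤ) (s : Stage K I φ n) :
    ∃ h' : K.X (n + 1 + 1) ⟶ I.X (n + 1),
      K.d (n + 1) (n + 1 + 1) ≫ h' = φ.f (n + 1) - s.1 ≫ I.d n (n + 1) := by
  let S : ShortComplex (FilD.FilF A) :=
    ShortComplex.mk (K.d n (n + 1)) (K.d (n + 1) (n + 1 + 1)) (K.d_comp_d _ _ _)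
  have hS : ∀ p : ℤ, (S.map (FilD.grF A p)).Exact := by
    intro p
    have h1 := hK p (n + 1)
    rw [HomologicalComplex.exactAt_iff' _ n (n + 1) (n + 1 + 1) (by simp) (by simp)] at h1
    exact h1
  exact exists_desc_of_grExact S hS (hI (n + 1)) (φ.f (n + 1) - s.1 ≫ I.d n (n + 1)) s.2

/-- the next stage -/
noncomputable def Stage.next (hK : FilD.IsFilteredAcyclic K)
    (hI : ∀ n, FilD.IsFilteredInjective (I.X n)) {n : ℤ} (s : Stage K I φ n) :
    Stage K I φ (n + 1) :=
  ⟨(step_exists hK hI n s).choose, by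
    have h := (step_exists hK hI n s).choose_spec
    rw [Preadditive.comp_sub, ← Category.assoc, h, Preadditive.sub_comp, Category.assoc,
      I.d_comp_d, comp_zero, sub_zero, φ.comm, sub_self]⟩

lemma Stage.next_spec (hK : FilD.IsFilteredAcyclic K)
    (hI : ∀ n, FilD.IsFilteredInjective (I.X n)) {n : ℤ} (s : Stage K I φ n) :
    K.d (n + 1) (n + 1 + 1) ≫ (s.next hK hI).1 = φ.f (n + 1) - s.1 ≫ I.d n (n + 1) :=
  (step_exists hK hI n s).choose_spec

/-- the zero stage below the bound -/
def Stage.zero (a : ℤ) [I.IsStrictlyGE a] (n : ℤ) (hn : n < a) : Stage K I φ n :=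
  ⟨0, by
    rw [zero_comp, sub_zero, ← φ.comm]
    have : φ.f n = 0 := (I.isZero_of_isStrictlyGE a n hn).eq_of_tgt _ _
    rw [this, zero_comp]⟩

/-- all the stages -/
noncomputable def stages (hK : FilD.IsFilteredAcyclic K)
    (hI : ∀ n, FilD.IsFilteredInjective (I.X n)) (a : ℤ) [I.IsStrictlyGE a] (n : ℤ) :
    Stage K I φ n :=
  Int.inductionOn' (motive := fun n => Stage K I φ n) n (a - 1)
    (Stage.zero a (a - 1) (by omega))
    (fun _ _ s => s.next hK hI)
    (fun k hk _ => Stage.zero a (k - 1) (by omega))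

lemma stages_spec (hK : FilD.IsFilteredAcyclic K)
    (hI : ∀ n, FilD.IsFilteredInjective (I.X n)) (a : ℤ) [I.IsStrictlyGE a] (k : ℤ) :
    K.d (k + 1) (k + 1 + 1) ≫ (stages (φ := φ) hK hI a (k + 1)).1 =
      φ.f (k + 1) - (stages (φ := φ) hK hI a k).1 ≫ I.d k (k + 1) := by
  by_cases hk : a - 1 ≤ k
  · have : stages (φ := φ) hK hI a (k + 1) = (stages (φ := φ) hK hI a k).next hK hI := by
      unfold stages
      rw [Int.inductionOn'_add_one hk]
    rw [this]
    exact Stage.next_spec hK hI _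
  · exact (I.isZero_of_isStrictlyGE a (k + 1) (by omega)).eq_of_tgt _ _

/-- the null-homotopy (S1083) -/
theorem main_S1083 (K I : CochainComplex (FilD.FilF A) ℤ)
    (hK : FilD.IsFilteredAcyclic K) (a : ℤ) [I.IsStrictlyGE a]
    (hI : ∀ n, FilD.IsFilteredInjective (I.X n)) (φ : K ⟶ I) :
    Nonempty (Homotopy φ 0) := by
  let hh : ∀ n : ℤ, K.X (n + 1) ⟶ I.X n := fun n => (stages (φ := φ) hK hI a n).1
  have hspec : ∀ k : ℤ, K.d (k + 1) (k + 1 + 1) ≫ hh (k + 1) =
      φ.f (k + 1) - hh k ≫ I.d k (k + 1) := fun k => stages_spec hK hI a k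
  refine ⟨{
    hom := fun i j => if hij : j + 1 = i then (K.XIsoOfEq hij).inv ≫ hh j else 0
    zero := fun i j hij => by
      rw [dif_neg]
      exact hij
    comm := fun i => ?_ }⟩
  obtain ⟨k, rfl⟩ : ∃ k, i = k + 1 := ⟨i - 1, by omega⟩
  rw [dNext_eq _ (show (ComplexShape.up ℤ).Rel (k + 1) (k + 1 + 1) from rfl),
    prevD_eq _ (show (ComplexShape.up ℤ).Rel k (k + 1) from rfl)]
  rw [dif_pos rfl, dif_pos rfl]
  simp only [HomologicalComplex.XIsoOfEq_rfl, Iso.refl_inv, Category.id_comp,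
    HomologicalComplex.zero_f, add_zero]
  rw [hspec k]
  abel

end Htpy

end Groth.Agent.Helper3.Fil
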