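import Mathlib
import Groth.Prelude.Def_FilD
import Groth.Agent.Lib.Helper3.FilBasic
import Groth.Agent.Lib.Helper3.FilHtpy
import Groth.Agent.Lib.Helper3.FilBiprod

set_option autoImplicit false
universe v u
open CategoryTheory CategoryTheory.Limits Opposite

namespace Groth.Agent.Helper3.Fil

section Abelian

variable {C : Type u} [Category.{v} C] [Abelian C]

open CochainComplex HomotopyCategory in
/-- the cone of a quasi-isomorphism is acyclic -/
lemma exactAt_mappingCone_of_quasiIso {M N : CochainComplex C ℤ} (ψ : M ⟶ N) [QuasiIso ψ]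
    (n : ℤ) : (mappingCone ψ).ExactAt n := by
  have h1 : HomotopyCategory.quasiIso C _ ((HomotopyCategory.quotient _ _).map ψ) := by
    rw [quotient_map_mem_quasiIso_iff, HomologicalComplex.mem_quasiIso_iff]
    infer_instance
  rw [quasiIso_eq_trW_subcategoryAcyclic] at h1
  have h2 := ((subcategoryAcyclic C).trW_iff_of_distinguished _
    (mappingCone_triangleh_distinguished ψ)).1 h1
  exact (quotient_obj_mem_subcategoryAcyclic_iff_exactAt _).1 h2 n

end Abelian

variable {A : Type u} [Category.{v} A] [Abelian A]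

open CochainComplex in
/-- the cone of a filtered quasi-isomorphism is filtered acyclic -/
lemma isFilteredAcyclic_mappingCone {K L : CochainComplex (FilD.FilF A) ℤ} (α : K ⟶ L)
    (hα : FilD.IsFilteredQuasiIso α) : FilD.IsFilteredAcyclic (mappingCone α) := by
  intro p n
  have := hα p
  have h := exactAt_mappingCone_of_quasiIso ((FilD.grCx p).map α) n
  exact h.of_iso (mappingCone.mapHomologicalComplexIso α (FilD.grF A p)).symm

/-- vanishing of homotopy classes of maps from filtered acyclics to filtered injectives -/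
lemma hom_eq_zero (K I : CochainComplex (FilD.FilF A) ℤ)
    (hK : FilD.IsFilteredAcyclic K) (a : ℤ) [I.IsStrictlyGE a]
    (hI : ∀ n, FilD.IsFilteredInjective (I.X n))
    (f : (HomotopyCategory.quotient (FilD.FilF A) (ComplexShape.up ℤ)).obj K ⟶
      (HomotopyCategory.quotient (FilD.FilF A) (ComplexShape.up ℤ)).obj I) : f = 0 := by
  obtain ⟨g, rfl⟩ := (HomotopyCategory.quotient _ _).map_surjective f
  obtain ⟨h⟩ := main_S1083 K I hK a hI g
  rw [HomotopyCategory.eq_of_homotopy g 0 h, Functor.map_zero]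

lemma hom_shift_eq_zero (K I : CochainComplex (FilD.FilF A) ℤ)
    (hK : FilD.IsFilteredAcyclic K) (a : ℤ) [I.IsStrictlyGE a]
    (hI : ∀ n, FilD.IsFilteredInjective (I.X n)) (n : ℤ)
    (f : (HomotopyCategory.quotient (FilD.FilF A) (ComplexShape.up ℤ)).obj K ⟶
      ((HomotopyCategory.quotient (FilD.FilF A) (ComplexShape.up ℤ)).obj I)⟦n⟧) : f = 0 := by
  have : (I⟦n⟧).IsStrictlyGE (a - n) := I.isStrictlyGE_shift a n (a - n) (by omega)
  let e := ((HomotopyCategory.quotient (FilD.FilF A) (ComplexShape.up ℤ)).commShiftIso n).app I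
  have h0 := hom_eq_zero K (I⟦n⟧) hK (a - n) (fun i => hI (i + n)) (f ≫ e.inv)
  rw [← cancel_mono e.inv, h0, zero_comp]

open CochainComplex HomotopyCategory Pretriangulated in
/-- S1084 -/
theorem main_S1084 (I : CochainComplex (FilD.FilF A) ℤ)
    (a : ℤ) [I.IsStrictlyGE a] (hI : ∀ n, FilD.IsFilteredInjective (I.X n))
    {K L : CochainComplex (FilD.FilF A) ℤ} (α : K ⟶ L) (hα : FilD.IsFilteredQuasiIso α) :
    Function.Bijective (fun β : (HomotopyCategory.quotient (FilD.FilF A) (ComplexShape.up ℤ)).obj L ⟶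
        (HomotopyCategory.quotient (FilD.FilF A) (ComplexShape.up ℤ)).obj I =>
      (HomotopyCategory.quotient (FilD.FilF A) (ComplexShape.up ℤ)).map α ≫ β) := by
  have hcone := isFilteredAcyclic_mappingCone α hα
  have hT := mappingCone_triangleh_distinguished α
  constructor
  · intro β₁ β₂ h
    have h' : (HomotopyCategory.quotient (FilD.FilF A) (ComplexShape.up ℤ)).map α ≫
        (β₁ - β₂) = 0 := by
      rw [Preadditive.comp_sub, sub_eq_zero]
      exact h
    obtain ⟨g, hg⟩ : ∃ g : (HomotopyCategory.quotient (FilD.FilF A) (ComplexShape.up ℤ)).obj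
        (mappingCone α) ⟶ (HomotopyCategory.quotient (FilD.FilF A) (ComplexShape.up ℤ)).obj I,
        β₁ - β₂ = (HomotopyCategory.quotient (FilD.FilF A) (ComplexShape.up ℤ)).map
          (mappingCone.inr α) ≫ g := Triangle.yoneda_exact₂ _ hT (β₁ - β₂) h'
    have hg0 : g = 0 := hom_eq_zero _ I hcone a hI g
    rw [hg0, comp_zero, sub_eq_zero] at hg
    exact hg
  · intro β
    have hT' := rot_of_distTriang _ hT
    have h0 : (mappingCone.triangleh α).rotate.mor₂ ≫ β⟦(1 : ℤ)⟧' = 0 :=
      hom_shift_eq_zero _ I hcone a hI 1 _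
    obtain ⟨g, hg⟩ : ∃ g : ((HomotopyCategory.quotient (FilD.FilF A) (ComplexShape.up ℤ)).obj
        L)⟦(1 : ℤ)⟧ ⟶ ((HomotopyCategory.quotient (FilD.FilF A) (ComplexShape.up ℤ)).obj I)⟦(1 : ℤ)⟧,
        β⟦(1 : ℤ)⟧' = (-((HomotopyCategory.quotient (FilD.FilF A) (ComplexShape.up ℤ)).map
          α)⟦(1 : ℤ)⟧') ≫ g := Triangle.yoneda_exact₃ _ hT' (β⟦(1 : ℤ)⟧') h0
    obtain ⟨γ, rfl⟩ := (CategoryTheory.shiftFunctor
      (HomotopyCategory (FilD.FilF A) (ComplexShape.up ℤ)) (1 : ℤ)).map_surjective g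
    refine ⟨-γ, ?_⟩
    apply (CategoryTheory.shiftFunctor
      (HomotopyCategory (FilD.FilF A) (ComplexShape.up ℤ)) (1 : ℤ)).map_injective
    rw [hg]
    simp only [Functor.map_comp, Functor.map_neg, Preadditive.neg_comp,
      Preadditive.comp_neg]

end Groth.Agent.Helper3.Fil
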