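import Mathlib

set_option autoImplicit false

namespace Groth.Agent.Helper3.FilEigen

open Module

variable {k V : Type*} [Field k] [AddCommGroup V] [Module k V]

/-- a finite decreasing filtration on which `Ψ` acts on the `n`-th graded piece by `c^n` -/
structure Hyp (W : ℕ → Submodule k V) (Ψ : V →ₗ[k] V) (c : k) (d : ℕ) : Prop where
  anti : ∀ n, W (n + 1) ≤ W n
  top : W 0 = ⊤
  bot : W (d + 1) = ⊥
  step : ∀ n, ∀ v ∈ W n, Ψ v - c ^ n • v ∈ W (n + 1)
  inj : ∀ a b : ℕ, c ^ a = c ^ b → a = b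

variable {W : ℕ → Submodule k V} {Ψ : V →ₗ[k] V} {c : k} {d : ℕ}

theorem Hyp.antitone (h : Hyp W Ψ c d) : Antitone W := antitone_nat_of_succ_le h.anti

theorem Hyp.eq_bot_of_lt (h : Hyp W Ψ c d) {m : ℕ} (hm : d < m) : W m = ⊥ :=
  le_bot_iff.1 (h.bot ▸ h.antitone hm)

theorem Hyp.mem_succ_of_eigen (h : Hyp W Ψ c d) {m n : ℕ} (hmn : m ≠ n) {v : V}
    (hv : Ψ v = c ^ m • v) (hn : v ∈ W n) : v ∈ W (n + 1) := by
  have h1 := h.step n v hn
  rw [hv, ← sub_smul] at h1
  have hne : c ^ m - c ^ n ≠ 0 := fun h0 => hmn (h.inj m n (sub_eq_zero.1 h0))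
  have h2 := (W (n + 1)).smul_mem (c ^ m - c ^ n)⁻¹ h1
  rwa [smul_smul, inv_mul_cancel₀ hne, one_smul] at h2

theorem Hyp.eigenspace_le (h : Hyp W Ψ c d) (m : ℕ) : End.eigenspace Ψ (c ^ m) ≤ W m := by
  intro v hv
  rw [End.mem_eigenspace_iff] at hv
  have : ∀ n, n ≤ m → v ∈ W n := by
    intro n
    induction n with
    | zero => intro _; rw [h.top]; exact Submodule.mem_top
    | succ n ih =>
      intro hn
      exact h.mem_succ_of_eigen (by omega) hv (ih (by omega))
  exact this m le_rfl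

theorem Hyp.eigenspace_inf (h : Hyp W Ψ c d) (m : ℕ) :
    End.eigenspace Ψ (c ^ m) ⊓ W (m + 1) = ⊥ := by
  rw [eq_bot_iff]
  rintro v ⟨hv, hw⟩
  rw [SetLike.mem_coe, End.mem_eigenspace_iff] at hv
  have : ∀ n, m + 1 ≤ n → v ∈ W n := by
    intro n hn
    induction n, hn using Nat.le_induction with
    | base => exact hw
    | succ n hn ih => exact h.mem_succ_of_eigen (by omega) hv ih
  have h1 := this (max (m + 1) (d + 1)) (le_max_left _ _)
  have h2 : W (max (m + 1) (d + 1)) ≤ W (d + 1) := h.antitone (le_max_right _ _)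
  rw [h.bot] at h2
  exact h2 h1

theorem Hyp.W_eq_iSup (h : Hyp W Ψ c d) (m : ℕ) :
    W m = ⨆ m' ∈ Finset.Ico m (d + 1), End.eigenspace Ψ (c ^ m') := by
  have key : ∀ n m : ℕ, m + n = d + 1 →
      W m = ⨆ m' ∈ Finset.Ico m (d + 1), End.eigenspace Ψ (c ^ m') := by
    intro n
    induction n with
    | zero =>
      intro m hm
      have : m = d + 1 := by omega
      subst this
      rw [h.bot]
      simp
    | succ n ih =>
      intro m hm
      have hIH := ih (m + 1) (by omega)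
      have hins : Finset.Ico m (d + 1) = insert m (Finset.Ico (m + 1) (d + 1)) := by
        ext x
        simp only [Finset.mem_Ico, Finset.mem_insert]
        omega
      rw [hins, Finset.iSup_insert, ← hIH]
      apply le_antisymm
      · intro v hv
        have hu := h.step m v hv
        -- surjectivity of Ψ - c^m on W (m+1)
        have hsurj : W (m + 1) ≤ Submodule.map (Ψ - c ^ m • LinearMap.id) (W (m + 1)) := by
          conv_lhs => rw [hIH]
          apply iSup₂_le
          intro m' hm'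
          have hm'' : m + 1 ≤ m' := (Finset.mem_Ico.1 hm').1
          intro u hu
          have hu' := hu
          rw [End.mem_eigenspace_iff] at hu'
          have hne : c ^ m' - c ^ m ≠ 0 :=
            fun h0 => (by omega : m' ≠ m) (h.inj m' m (sub_eq_zero.1 h0))
          refine ⟨(c ^ m' - c ^ m)⁻¹ • u, ?_, ?_⟩
          · apply (W (m + 1)).smul_mem
            exact h.antitone hm'' (h.eigenspace_le m' hu)
          · simp only [LinearMap.sub_apply, LinearMap.smul_apply, LinearMap.id_apply, map_smul]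
            rw [hu', ← sub_smul, smul_smul, inv_mul_cancel₀ hne, one_smul]
        obtain ⟨t, ht, htu⟩ := hsurj hu
        simp only [LinearMap.sub_apply, LinearMap.smul_apply, LinearMap.id_apply] at htu
        have hvt : v - t ∈ End.eigenspace Ψ (c ^ m) := by
          rw [End.mem_eigenspace_iff, map_sub, smul_sub]
          rw [sub_eq_sub_iff_add_eq_add] at htu ⊢
          rw [add_comm (c ^ m • v), ← htu, add_comm]
        have : v = (v - t) + t := by abel
        rw [this]
        exact Submodule.add_mem_sup hvt ht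
      · exact sup_le (h.eigenspace_le m) (h.anti m)
  rcases Nat.lt_or_ge d m with hm | hm
  · rw [h.eq_bot_of_lt hm, Finset.Ico_eq_empty (by omega)]
    simp
  · exact key (d + 1 - m) m (by omega)

theorem Hyp.eigenspace_sup (h : Hyp W Ψ c d) (m : ℕ) :
    End.eigenspace Ψ (c ^ m) ⊔ W (m + 1) = W m := by
  rcases Nat.lt_or_ge d m with hm | hm
  · have h1 : W m = ⊥ := h.eq_bot_of_lt hm
    have h2 : W (m + 1) = ⊥ := h.eq_bot_of_lt (by omega)
    have h3 : End.eigenspace Ψ (c ^ m) = ⊥ := le_bot_iff.1 (h1 ▸ h.eigenspace_le m)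
    rw [h1, h2, h3, sup_bot_eq]
  · have hins : Finset.Ico m (d + 1) = insert m (Finset.Ico (m + 1) (d + 1)) := by
      ext x
      simp only [Finset.mem_Ico, Finset.mem_insert]
      omega
    rw [h.W_eq_iSup m, h.W_eq_iSup (m + 1), hins, Finset.iSup_insert]

theorem Hyp.iSup_eigenspace (h : Hyp W Ψ c d) :
    ⨆ m ∈ Finset.range (d + 1), End.eigenspace Ψ (c ^ m) = ⊤ := by
  rw [Finset.range_eq_Ico, ← h.W_eq_iSup 0, h.top]

theorem Hyp.eigenspace_le_of_commute {Ψ' : V →ₗ[k] V} {c' : k} (h : Hyp W Ψ c d)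
    (h' : Hyp W Ψ' c' d) (hcomm : ∀ v, Ψ (Ψ' v) = Ψ' (Ψ v)) (m : ℕ) :
    End.eigenspace Ψ (c ^ m) ≤ End.eigenspace Ψ' (c' ^ m) := by
  intro v hv
  have hvW := h.eigenspace_le m hv
  rw [End.mem_eigenspace_iff] at hv ⊢
  have hw := h'.step m v hvW
  have hw2 : Ψ' v - c' ^ m • v ∈ End.eigenspace Ψ (c ^ m) := by
    rw [End.mem_eigenspace_iff, map_sub, map_smul, hcomm, hv, map_smul, smul_sub, smul_comm]
  have h0 : Ψ' v - c' ^ m • v ∈ End.eigenspace Ψ (c ^ m) ⊓ W (m + 1) := ⟨hw2, hw⟩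
  rw [h.eigenspace_inf m, Submodule.mem_bot] at h0
  exact sub_eq_zero.1 h0

theorem Hyp.eigenspace_eq_of_commute {Ψ' : V →ₗ[k] V} {c' : k} (h : Hyp W Ψ c d)
    (h' : Hyp W Ψ' c' d) (hcomm : ∀ v, Ψ (Ψ' v) = Ψ' (Ψ v)) (m : ℕ) :
    End.eigenspace Ψ (c ^ m) = End.eigenspace Ψ' (c' ^ m) :=
  le_antisymm (h.eigenspace_le_of_commute h' hcomm m)
    (h'.eigenspace_le_of_commute h (fun v => (hcomm v).symm) m)

end Groth.Agent.Helper3.FilEigen
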