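import Mathlib
import Groth.Prelude.Def_FilD
import Groth.Agent.Lib.Helper3.FilBasic
import Groth.Agent.Lib.Helper3.FilKer

set_option autoImplicit false
universe v u
open CategoryTheory CategoryTheory.Limits Opposite

namespace Groth.Agent.Helper3.Fil

variable {A : Type u} [Category.{v} A] [Abelian A]

lemma injective_biproduct {β : Type*} (c : β → A) [HasBiproduct c] [∀ b, Injective (c b)] :
    Injective (⨁ c) where
  factors g f mono := by
    refine ⟨biproduct.lift fun b => Injective.factorThru (g ≫ biproduct.π _ _) f, ?_⟩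
    ext
    simp only [Category.assoc, biproduct.lift_π, Injective.comp_factorThru]

lemma injective_cokernel_of_split {P Q : A} (t : P ⟶ Q) (r : Q ⟶ P) (h : t ≫ r = 𝟙 P)
    [Injective Q] : Injective (cokernel t) := by
  let σ : cokernel t ⟶ Q := cokernel.desc t (𝟙 Q - r ≫ t) (by
    rw [Preadditive.comp_sub, Category.comp_id, ← Category.assoc, h, Category.id_comp, sub_self])
  have hσ : cokernel.π t ≫ σ = 𝟙 Q - r ≫ t := cokernel.π_desc _ _ _
  have hσ' : σ ≫ cokernel.π t = 𝟙 _ := by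
    rw [← cancel_epi (cokernel.π t), ← Category.assoc, hσ, Preadditive.sub_comp, Category.id_comp,
      Category.assoc, cokernel.condition, comp_zero, sub_zero, Category.comp_id]
  constructor
  intro U V g m hm
  refine ⟨Injective.factorThru (g ≫ σ) m ≫ cokernel.π t, ?_⟩
  rw [← Category.assoc, Injective.comp_factorThru, Category.assoc, hσ', Category.comp_id]

section Constr

variable (a b : ℤ)

/-- the relevant levels -/
abbrev Lev : Type := {ℓ : ℤ // a ≤ ℓ ∧ ℓ < b}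

instance : Finite (Lev a b) := by
  have : Finite (Set.Ico a b) := (Set.finite_Ico a b).to_subtype
  exact Finite.of_injective (fun ℓ : Lev a b => (⟨ℓ.1, ℓ.2.1, ℓ.2.2⟩ : Set.Ico a b))
    (fun x y h => Subtype.ext (congrArg (fun z : Set.Ico a b => z.1) h))

/-- the levels above `p` -/
abbrev Idx (p : ℤ) : Type := {ℓ : Lev a b // p ≤ ℓ.1}

instance (p : ℤ) : Finite (Idx a b p) := Subtype.finite

instance (J : Lev a b → A) (p : ℤ) : HasBiproduct (fun ℓ : Idx a b p => J ℓ.1) := by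
  have : HasFiniteBiproducts A := Abelian.hasFiniteBiproducts
  infer_instance

variable (J : Lev a b → A)

/-- the level `p` of the filtered object built from `J` -/
noncomputable abbrev Iobj (p : ℤ) : A := ⨁ (fun ℓ : Idx a b p => J ℓ.1)

variable {a b}

/-- inclusion of index sets -/
abbrev incl {p q : ℤ} (h : p ≤ q) (ℓ : Idx a b q) : Idx a b p := ⟨ℓ.1, h.trans ℓ.2⟩

lemma incl_injective {p q : ℤ} (h : p ≤ q) : Function.Injective (incl (a := a) (b := b) h) := by
  intro x y hxy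
  apply Subtype.ext
  exact congrArg (fun z : Idx a b p => z.1) hxy

/-- the transition maps -/
noncomputable def Itr {p q : ℤ} (h : p ≤ q) : Iobj a b J q ⟶ Iobj a b J p :=
  biproduct.desc (fun ℓ => biproduct.ι (fun ℓ : Idx a b p => J ℓ.1) (incl h ℓ))

/-- retractions of the transition maps -/
noncomputable def Iret {p q : ℤ} (h : p ≤ q) : Iobj a b J p ⟶ Iobj a b J q :=
  biproduct.lift (fun ℓ => biproduct.π (fun ℓ : Idx a b p => J ℓ.1) (incl h ℓ))

@[reassoc (attr := simp)]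
lemma ι_Itr {p q : ℤ} (h : p ≤ q) (ℓ : Idx a b q) :
    biproduct.ι (fun ℓ : Idx a b q => J ℓ.1) ℓ ≫ Itr J h =
      biproduct.ι (fun ℓ : Idx a b p => J ℓ.1) (incl h ℓ) := by
  unfold Itr
  exact biproduct.ι_desc _ _

lemma Itr_Iret {p q : ℤ} (h : p ≤ q) : Itr J h ≫ Iret J h = 𝟙 _ := by
  apply biproduct.hom_ext'
  intro ℓ
  apply biproduct.hom_ext
  intro ℓ'
  unfold Iret
  rw [ι_Itr_assoc, Category.assoc, biproduct.lift_π, Category.comp_id]
  by_cases hl : ℓ = ℓ'
  · subst hl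
    rw [biproduct.ι_π_self, biproduct.ι_π_self]
  · rw [biproduct.ι_π_ne _ hl, biproduct.ι_π_ne _ (fun hh => hl (incl_injective h hh))]

lemma Itr_π_of_le {p q : ℤ} (h : p ≤ q) (ℓ : Idx a b p) (hq : q ≤ ℓ.1.1) :
    Itr J h ≫ biproduct.π (fun ℓ : Idx a b p => J ℓ.1) ℓ =
      biproduct.π (fun ℓ : Idx a b q => J ℓ.1) ⟨ℓ.1, hq⟩ := by
  apply biproduct.hom_ext'
  intro ℓ'
  rw [ι_Itr_assoc]
  by_cases hl : ℓ' = ⟨ℓ.1, hq⟩
  · subst hl
    rw [biproduct.ι_π_self]
    exact (biproduct.ι_π_self (fun ℓ : Idx a b q => J ℓ.1) ⟨ℓ.1, hq⟩).symm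
  · rw [biproduct.ι_π_ne (fun ℓ : Idx a b q => J ℓ.1) hl]
    refine biproduct.ι_π_ne (fun ℓ : Idx a b p => J ℓ.1) ?_
    intro hh
    apply hl
    apply Subtype.ext
    exact congrArg (fun z : Idx a b p => z.1) hh

lemma Itr_π_of_lt {p q : ℤ} (h : p ≤ q) (ℓ : Idx a b p) (hq : ℓ.1.1 < q) :
    Itr J h ≫ biproduct.π (fun ℓ : Idx a b p => J ℓ.1) ℓ = 0 := by
  apply biproduct.hom_ext'
  intro ℓ'
  rw [ι_Itr_assoc, comp_zero]
  refine biproduct.ι_π_ne (fun ℓ : Idx a b p => J ℓ.1) ?_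
  intro hh
  have h1 : ℓ'.1.1 = ℓ.1.1 := congrArg (fun z : Idx a b p => z.1.1) hh
  have h2 := ℓ'.2
  omega

lemma Itr_refl (p : ℤ) : Itr J (le_refl p) = 𝟙 _ := by
  apply biproduct.hom_ext'
  intro ℓ
  rw [ι_Itr, Category.comp_id]

lemma Itr_trans {p q r : ℤ} (h : p ≤ q) (h' : q ≤ r) :
    Itr J h' ≫ Itr J h = Itr J (h.trans h') := by
  apply biproduct.hom_ext'
  intro ℓ
  rw [ι_Itr_assoc, ι_Itr, ι_Itr]

/-- the filtered object built from `J` -/
noncomputable def Ifun : ℤᵒᵖ ⥤ A where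
  obj P := Iobj a b J P.unop
  map f := Itr J (leOfHom f.unop)
  map_id P := Itr_refl J _
  map_comp f g := (Itr_trans J _ _).symm

lemma tr_Ifun {p q : ℤ} (h : p ≤ q) : tr (Ifun (a := a) (b := b) J) h = Itr J h := rfl

lemma monoT_Ifun : MonoT (Ifun (a := a) (b := b) J) := by
  intro P Q f
  exact (SplitMono.mk (Iret J (leOfHom f.unop)) (Itr_Iret J _)).mono

lemma isZero_Ifun (p : ℤ) (hp : b ≤ p) : IsZero ((Ifun (a := a) (b := b) J).obj (op p)) := by
  rw [IsZero.iff_id_eq_zero]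
  apply biproduct.hom_ext'
  intro ℓ
  exfalso
  have h1 := ℓ.2
  have h2 := ℓ.1.2.2
  change p ≤ _ at h1
  omega

lemma isIso_Ifun_map {P Q : ℤᵒᵖ} (f : P ⟶ Q) (hP : P.unop ≤ a) :
    IsIso ((Ifun (a := a) (b := b) J).map f) := by
  refine ⟨Iret J (leOfHom f.unop), Itr_Iret J _, ?_⟩
  apply biproduct.hom_ext'
  intro ℓ
  apply biproduct.hom_ext
  intro ℓ'
  have hq : P.unop ≤ ℓ'.1.1 := hP.trans ℓ'.1.2.1
  change (biproduct.ι (fun ℓ : Idx a b Q.unop => J ℓ.1) ℓ ≫ Iret J _ ≫ Itr J _) ≫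
      biproduct.π (fun ℓ : Idx a b Q.unop => J ℓ.1) ℓ' =
    (biproduct.ι (fun ℓ : Idx a b Q.unop => J ℓ.1) ℓ ≫ 𝟙 _) ≫
      biproduct.π (fun ℓ : Idx a b Q.unop => J ℓ.1) ℓ'
  rw [Category.assoc, Category.assoc, Itr_π_of_le J _ ℓ' hq, Category.comp_id]
  unfold Iret
  rw [biproduct.lift_π]

lemma isFinFil_Ifun : FilD.IsFinFil A (Ifun (a := a) (b := b) J) :=
  ⟨monoT_Ifun J, ⟨b, isZero_Ifun J⟩, ⟨a, fun _ _ f hP => isIso_Ifun_map J f hP⟩⟩

lemma injective_gr_Ifun [∀ ℓ, Injective (J ℓ)] (p : ℤ) :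
    Injective ((FilD.gr A p).obj (Ifun (a := a) (b := b) J)) := by
  have : Injective ((Ifun (a := a) (b := b) J).obj (op p)) := injective_biproduct _
  exact injective_cokernel_of_split _ (Iret J _) (Itr_Iret J _)

end Constr

section Embed

variable [EnoughInjectives A] (X : ℤᵒᵖ ⥤ A) (a b : ℤ)

/-- the injective hulls of the quotients `X^a / X^{ℓ+1}` -/
noncomputable def JX (ℓ : Lev a b) : A :=
  Injective.under (cokernel (tr X (show a ≤ ℓ.1 + 1 by have := ℓ.2.1; omega)))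

instance (ℓ : Lev a b) : Injective (JX X a b ℓ) := by
  unfold JX
  infer_instance

/-- the map `X^a ⟶ J ℓ` with kernel `X^{ℓ+1}` -/
noncomputable def qm (ℓ : Lev a b) : X.obj (op a) ⟶ JX X a b ℓ :=
  cokernel.π (tr X (show a ≤ ℓ.1 + 1 by have := ℓ.2.1; omega)) ≫ Injective.ι _

lemma tr_qm (ℓ : Lev a b) (q : ℤ) (hq : ℓ.1 + 1 ≤ q) (h : a ≤ q) :
    tr X h ≫ qm X a b ℓ = 0 := by
  have h1 : a ≤ ℓ.1 + 1 := by have := ℓ.2.1; omega
  have : tr X h = tr X hq ≫ tr X h1 := (tr_tr X h1 hq).symm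
  rw [this, Category.assoc]
  unfold qm
  rw [cokernel.condition_assoc, zero_comp, comp_zero]

lemma exists_lift_of_qm_eq_zero (hX : MonoT X) (ℓ : Lev a b) {T : A} (x : T ⟶ X.obj (op a))
    (hx : x ≫ qm X a b ℓ = 0) :
    ∃ z : T ⟶ X.obj (op (ℓ.1 + 1)),
      z ≫ tr X (show a ≤ ℓ.1 + 1 by have := ℓ.2.1; omega) = x := by
  have h1 : a ≤ ℓ.1 + 1 := by have := ℓ.2.1; omega
  have : Mono (tr X h1) := hX.mono_tr h1
  unfold qm at hx
  rw [← Category.assoc] at hx
  have hx' : x ≫ cokernel.π (tr X h1) = 0 := by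
    rw [← cancel_mono (Injective.ι _), zero_comp]
    exact hx
  exact ⟨Abelian.monoLift (tr X h1) x hx', Abelian.monoLift_comp _ _ _⟩

variable (ha : ∀ ⦃P Q : ℤᵒᵖ⦄ (f : P ⟶ Q), P.unop ≤ a → IsIso (X.map f))

include ha in
lemma isIso_tr_of_le {p q : ℤ} (h : p ≤ q) (hq : q ≤ a) : IsIso (tr X h) :=
  ha _ hq

/-- the comparison maps `X^p ⟶ X^a` -/
noncomputable def ρ (p : ℤ) : X.obj (op p) ⟶ X.obj (op a) :=
  have : IsIso (tr X (min_le_right p a)) := isIso_tr_of_le X a ha _ le_rfl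
  tr X (min_le_left p a) ≫ inv (tr X (min_le_right p a))

lemma ρ_tr (p m : ℤ) (hp : m ≤ p) (hm : m ≤ a) :
    ρ X a ha p ≫ tr X hm = tr X hp := by
  have : IsIso (tr X (min_le_right p a)) := isIso_tr_of_le X a ha _ le_rfl
  have hmm : m ≤ min p a := le_min hp hm
  have h1 : tr X hm = tr X (min_le_right p a) ≫ tr X hmm := (tr_tr X hmm _).symm
  unfold ρ
  rw [h1, Category.assoc, IsIso.inv_hom_id_assoc, tr_tr]

lemma ρ_of_le (p : ℤ) (h : a ≤ p) : ρ X a ha p = tr X h := by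
  have := ρ_tr X a ha p a h le_rfl
  rwa [tr_refl, Category.comp_id] at this

lemma tr_ρ {p q : ℤ} (h : p ≤ q) : tr X h ≫ ρ X a ha p = ρ X a ha q := by
  have : IsIso (tr X (min_le_right p a)) := isIso_tr_of_le X a ha _ le_rfl
  rw [← cancel_mono (tr X (min_le_right p a)), Category.assoc, ρ_tr X a ha p _ (min_le_left p a),
    ρ_tr X a ha q _ ((min_le_left p a).trans h), tr_tr]

/-- the components of the embedding -/
noncomputable def σapp (p : ℤ) : X.obj (op p) ⟶ Iobj a b (JX X a b) p :=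
  biproduct.lift (fun ℓ => ρ X a ha p ≫ qm X a b ℓ.1)

lemma σapp_π (p : ℤ) (ℓ : Idx a b p) :
    σapp X a b ha p ≫ biproduct.π (fun ℓ : Idx a b p => JX X a b ℓ.1) ℓ =
      ρ X a ha p ≫ qm X a b ℓ.1 := by
  unfold σapp
  exact biproduct.lift_π _ _

lemma σapp_naturality {p q : ℤ} (h : p ≤ q) :
    tr X h ≫ σapp X a b ha p = σapp X a b ha q ≫ Itr (JX X a b) h := by
  apply biproduct.hom_ext
  intro ℓ
  rw [Category.assoc, Category.assoc, σapp_π, ← Category.assoc, tr_ρ]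
  by_cases hq : q ≤ ℓ.1.1
  · rw [Itr_π_of_le _ h ℓ hq, σapp_π]
  · have hq' : ℓ.1.1 < q := by omega
    rw [Itr_π_of_lt _ h ℓ hq', comp_zero]
    have haq : a ≤ q := by have := ℓ.1.2.1; omega
    rw [ρ_of_le X a ha q haq]
    exact tr_qm X a b ℓ.1 q (by omega) haq

/-- the embedding into the filtered injective -/
noncomputable def σ : X ⟶ Ifun (a := a) (b := b) (JX X a b) where
  app P := σapp X a b ha P.unop
  naturality P Q f := σapp_naturality X a b ha (leOfHom f.unop)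

variable (hX : MonoT X) (hb : ∀ p : ℤ, b ≤ p → IsZero (X.obj (op p)))

include hX hb in
lemma σ_key (p : ℤ) {T : A} (x : T ⟶ X.obj (op p)) (y : T ⟶ Iobj a b (JX X a b) (p + 1))
    (hxy : x ≫ σapp X a b ha p = y ≫ Itr (JX X a b) (Int.le_add_one le_rfl : p ≤ p + 1)) :
    ∃ x' : T ⟶ X.obj (op (p + 1)), x' ≫ tr X (Int.le_add_one le_rfl : p ≤ p + 1) = x := by
  by_cases h1 : p + 1 ≤ a
  · have : IsIso (tr X (Int.le_add_one le_rfl : p ≤ p + 1)) := isIso_tr_of_le X a ha _ h1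
    exact ⟨x ≫ inv (tr X (Int.le_add_one le_rfl : p ≤ p + 1)), by
      rw [Category.assoc, IsIso.inv_hom_id, Category.comp_id]⟩
  · by_cases h2 : b ≤ p
    · refine ⟨0, ?_⟩
      rw [zero_comp]
      exact ((hb p h2).eq_of_tgt _ _)
    · have hap : a ≤ p := by omega
      let ℓ : Idx a b p := ⟨⟨p, hap, by omega⟩, le_rfl⟩
      have e1 := congrArg (fun m => m ≫ biproduct.π (fun ℓ : Idx a b p => JX X a b ℓ.1) ℓ) hxy
      simp only [Category.assoc] at e1
      rw [σapp_π, Itr_π_of_lt _ _ ℓ (by change p < p + 1; omega), comp_zero,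
        ρ_of_le X a ha p hap, ← Category.assoc] at e1
      obtain ⟨z, hz⟩ := exists_lift_of_qm_eq_zero X a b hX ℓ.1 _ e1
      refine ⟨z, ?_⟩
      have : Mono (tr X hap) := hX.mono_tr hap
      rw [← cancel_mono (tr X hap), Category.assoc, tr_tr]
      exact hz

include hX hb in
lemma strictStep_σ : StrictStep (σ X a b ha) := by
  intro p T x y hxy
  obtain ⟨x', hx'⟩ := σ_key X a b ha hX hb p x y hxy
  refine ⟨T, 𝟙 T, inferInstance, x', ?_⟩
  rw [Category.id_comp]
  have : Mono (tr (Ifun (a := a) (b := b) (JX X a b)) (Int.le_add_one le_rfl : p ≤ p + 1)) :=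
    (monoT_Ifun _).mono_tr _
  rw [← cancel_mono (tr (Ifun (a := a) (b := b) (JX X a b)) (Int.le_add_one le_rfl : p ≤ p + 1)),
    ← hxy, Category.assoc]
  have := tr_naturality (σ X a b ha) (Int.le_add_one le_rfl : p ≤ p + 1)
  rw [← this, ← Category.assoc, hx']

include hX hb in
lemma mono_σapp (p : ℤ) : Mono (σapp X a b ha p) := by
  have key : ∀ (n : ℕ) (p : ℤ), b ≤ p + n → Mono (σapp X a b ha p) := by
    intro n
    induction n with
    | zero =>
      intro p hp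
      have hz : IsZero (X.obj (op p)) := hb p (by simpa using hp)
      constructor
      intro Z g h _
      exact hz.eq_of_tgt _ _
    | succ n ih =>
      intro p hp
      have := ih (p + 1) (by push_cast at hp; omega)
      apply Preadditive.mono_of_cancel_zero
      intro T x hx
      obtain ⟨x', hx'⟩ := σ_key X a b ha hX hb p x 0 (by rw [hx, zero_comp])
      have h0 : x' ≫ σapp X a b ha (p + 1) = 0 := by
        have hm : Mono (Itr (JX X a b) (Int.le_add_one le_rfl : p ≤ p + 1)) :=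
          (monoT_Ifun (a := a) (b := b) (JX X a b)).mono_tr (Int.le_add_one le_rfl : p ≤ p + 1)
        rw [← cancel_mono (Itr (JX X a b) (Int.le_add_one le_rfl : p ≤ p + 1)), Category.assoc,
          ← σapp_naturality X a b ha (Int.le_add_one le_rfl : p ≤ p + 1), ← Category.assoc, hx',
          hx, zero_comp]
      rw [← hx', (cancel_mono _).1 (h0.trans (zero_comp (f := σapp X a b ha (p + 1))).symm),
        zero_comp]
  exact key (b - p).toNat p (by omega)

end Embed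

/-- enough filtered injectives (S1081) -/
theorem main_S1081 [EnoughInjectives A] (X : FilD.FilF A) :
    ∃ (I : FilD.FilF A) (u : X ⟶ I), FilD.IsFilteredInjective I ∧ Mono u ∧ FilD.IsStrict u := by
  obtain ⟨hX, ⟨b, hb⟩, ⟨a, ha⟩⟩ := X.property
  let I : FilD.FilF A := ⟨Ifun (a := a) (b := b) (JX X.obj a b), isFinFil_Ifun _⟩
  let u : X ⟶ I := ObjectProperty.homMk (σ X.obj a b ha)
  refine ⟨I, u, ?_, ?_, ?_⟩
  · intro p
    exact injective_gr_Ifun (JX X.obj a b) p
  · have : Mono u.hom := by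
      change Mono (σ X.obj a b ha)
      rw [NatTrans.mono_iff_mono_app]
      intro P
      exact mono_σapp X.obj a b ha hX hb P.unop
    exact mono_of_mono_hom u
  · rw [isStrict_iff]
    exact (strictStep_σ X.obj a b ha hX hb).strictEl

end Groth.Agent.Helper3.Fil
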