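import Mathlib
import Groth.Prelude.Def_FilD
import Groth.Agent.Lib.Helper3.FilBasic
import Groth.Agent.Lib.Helper3.FilKer
import Groth.Agent.Lib.Helper3.FilExact
import Groth.Agent.Lib.Helper3.FilLift
import Groth.Agent.Lib.Helper3.FilHtpy
import Groth.Agent.Lib.Helper3.FilBiprod

set_option autoImplicit false
universe v u
open CategoryTheory CategoryTheory.Limits Opposite

namespace Groth.Agent.Helper3.Fil

variable {A : Type u} [Category.{v} A] [Abelian A]

section LevelExact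

variable (S : ShortComplex (FilD.FilF A))
  (hS : ∀ p : ℤ, (S.map ((FilD.IsFinFil A).ι ⋙ (evaluation ℤᵒᵖ A).obj (op p))).ShortExact)

include hS

lemma levEx_of_levelShortExact (p : ℤ) : LevEx S.f.hom S.g.hom p := by
  intro T y hy
  have hp := (hS p).exact
  rw [ShortComplex.exact_iff_exact_up_to_refinements] at hp
  exact hp y hy

lemma mono_of_levelShortExact : Mono S.f := by
  have : Mono S.f.hom := by
    rw [NatTrans.mono_iff_mono_app]
    intro P
    exact (hS P.unop).mono_f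
  exact mono_of_mono_hom S.f

lemma isStrict_of_levelShortExact : FilD.IsStrict S.f := by
  rw [isStrict_iff]
  have w : S.f.hom ≫ S.g.hom = 0 := by
    have := congrArg (fun m => m.hom) S.zero
    exact this
  exact (strictStep_left (monoT_of_filF S.X₃) w (levEx_of_levelShortExact S hS)).strictEl

lemma exists_desc_of_levelShortExact {W : FilD.FilF A} (ψ : S.X₂ ⟶ W) (hψ : S.f ≫ ψ = 0) :
    ∃ θ : S.X₃ ⟶ W, S.g ≫ θ = ψ := by
  have he : Epi S.g.hom := by
    rw [NatTrans.epi_iff_epi_app]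
    intro P
    exact (hS P.unop).epi_g
  have hk : kernel.ι S.g.hom ≫ ψ.hom = 0 := by
    ext P
    rw [NatTrans.comp_app]
    have h0 : (kernel.ι S.g.hom).app P ≫ S.g.hom.app P = 0 := by
      rw [← NatTrans.comp_app, kernel.condition]
      rfl
    obtain ⟨T', π, hπ, x, hx⟩ := levEx_of_levelShortExact S hS P.unop _
      ((kernel.ι S.g.hom).app P) h0
    have h1 : S.f.hom.app P ≫ ψ.hom.app P = 0 := by
      have := congrArg (fun m => m.hom.app P) hψ
      exact this
    rw [← cancel_epi π, ← Category.assoc]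
    have hx' : π ≫ (kernel.ι S.g.hom).app P = x ≫ S.f.hom.app P := hx
    rw [hx', Category.assoc, h1, comp_zero]
    exact comp_zero.symm
  refine ⟨ObjectProperty.homMk (Abelian.epiDesc S.g.hom ψ.hom hk), ?_⟩
  apply ObjectProperty.hom_ext
  exact Abelian.comp_epiDesc S.g.hom ψ.hom hk

end LevelExact

section Resolution

variable {Z : FilD.FilF A} {J : CochainComplex (FilD.FilF A) ℤ}
  (c : (CochainComplex.singleFunctor (FilD.FilF A) 0).obj Z ⟶ J)

lemma single_d (i j : ℤ) : ((CochainComplex.singleFunctor (FilD.FilF A) 0).obj Z).d i j = 0 :=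
  HomologicalComplex.single_obj_d _ _ _ _ _

/-- the combined map whose cokernel-exactness expresses the resolution property -/
noncomputable def uMap (m : ℤ) :
    ((CochainComplex.singleFunctor (FilD.FilF A) 0).obj Z).X m ⊞ J.X (m - 1) ⟶ J.X m :=
  biprod.desc (c.f m) (J.d (m - 1) m)

lemma uMap_d (m : ℤ) : uMap c m ≫ J.d m (m + 1) = 0 := by
  unfold uMap
  apply biprod.hom_ext'
  · rw [biprod.inl_desc_assoc, comp_zero, c.comm, single_d, zero_comp]
  · rw [biprod.inr_desc_assoc, comp_zero, J.d_comp_d]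

/-- the short complex `Z^m ⊕ J^{m-1} ⟶ J^m ⟶ J^{m+1}` -/
noncomputable def uSC (m : ℤ) : ShortComplex (FilD.FilF A) :=
  ShortComplex.mk (uMap c m) (J.d m (m + 1)) (uMap_d c m)

lemma uSC_exact (hc : FilD.IsFilteredQuasiIso c) (m : ℤ) (p : ℤ) :
    ((uSC c m).map (FilD.grF A p)).Exact := by
  have hq := hc p
  have h1 : QuasiIsoAt ((FilD.grCx p).map c) m := inferInstance
  rw [quasiIsoAt_iff_isIso_homologyMap] at h1
  have h2 : Epi (HomologicalComplex.homologyMap ((FilD.grCx p).map c) m) := inferInstance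
  rw [HomologicalComplex.epi_homologyMap_iff_up_to_refinements _ (m - 1) m (m + 1) (by simp)
    (by simp)] at h2
  have h3 : ∀ (T : A) (z : T ⟶ (FilD.grF A p).obj (J.X m)),
      z ≫ (FilD.grF A p).map (J.d m (m + 1)) = 0 →
      ∃ (T' : A) (π : T' ⟶ T) (_ : Epi π)
        (x₂ : T' ⟶ (FilD.grF A p).obj
          (((CochainComplex.singleFunctor (FilD.FilF A) 0).obj Z).X m))
        (y₁ : T' ⟶ (FilD.grF A p).obj (J.X (m - 1))),
        π ≫ z = x₂ ≫ (FilD.grF A p).map (c.f m) + y₁ ≫ (FilD.grF A p).map (J.d (m - 1) m) := by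
    intro T z hz
    obtain ⟨T', π, hπ, x₂, -, y₁, h⟩ := h2 z hz
    exact ⟨T', π, hπ, x₂, y₁, h⟩
  rw [ShortComplex.exact_iff_exact_up_to_refinements]
  intro T z hz
  obtain ⟨T', π, hπ, x₂, y₁, h⟩ := h3 T z hz
  refine ⟨T', π, hπ, x₂ ≫ (FilD.grF A p).map biprod.inl + y₁ ≫ (FilD.grF A p).map biprod.inr, ?_⟩
  have e : (x₂ ≫ (FilD.grF A p).map biprod.inl + y₁ ≫ (FilD.grF A p).map biprod.inr) ≫
      (FilD.grF A p).map (uMap c m) =
      x₂ ≫ (FilD.grF A p).map (c.f m) + y₁ ≫ (FilD.grF A p).map (J.d (m - 1) m) := by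
    rw [Preadditive.add_comp, Category.assoc, Category.assoc, ← Functor.map_comp,
      ← Functor.map_comp]
    unfold uMap
    rw [biprod.inl_desc, biprod.inr_desc]
  exact h.trans e.symm

/-- the short complex `0 ⟶ Z^0 ⟶ J^0` -/
noncomputable def zSC : ShortComplex (FilD.FilF A) :=
  ShortComplex.mk (0 : ((CochainComplex.singleFunctor (FilD.FilF A) 0).obj Z).X (-1) ⟶ _)
    (c.f 0) zero_comp

lemma zSC_exact (hc : FilD.IsFilteredQuasiIso c) (p : ℤ) :
    ((zSC c).map (FilD.grF A p)).Exact := by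
  have hq := hc p
  have h1 : QuasiIsoAt ((FilD.grCx p).map c) 0 := inferInstance
  rw [quasiIsoAt_iff_isIso_homologyMap] at h1
  have h2 : Mono (HomologicalComplex.homologyMap ((FilD.grCx p).map c) 0) := inferInstance
  rw [HomologicalComplex.mono_homologyMap_iff_up_to_refinements _ (-1) 0 1 (by simp)
    (by simp)] at h2
  have h3 : ∀ (T : A) (z : T ⟶ (FilD.grF A p).obj
        (((CochainComplex.singleFunctor (FilD.FilF A) 0).obj Z).X 0)),
      z ≫ (FilD.grF A p).map (c.f 0) = 0 →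
      ∃ (T' : A) (π : T' ⟶ T) (_ : Epi π), π ≫ z = 0 := by
    intro T z hz
    have hd : ∀ i j : ℤ, (FilD.grF A p).map
        (((CochainComplex.singleFunctor (FilD.FilF A) 0).obj Z).d i j) = 0 := by
      intro i j
      rw [single_d, Functor.map_zero]
    obtain ⟨T', π, hπ, x₁, h⟩ := h2 z (by
      refine (congrArg (fun m => z ≫ m) (hd 0 1)).trans comp_zero) 0 (by
      rw [zero_comp]
      exact hz)
    refine ⟨T', π, hπ, ?_⟩
    refine h.trans ?_
    exact (congrArg (fun m => x₁ ≫ m) (hd (-1) 0)).trans comp_zero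
  rw [ShortComplex.exact_iff_exact_up_to_refinements]
  intro T z hz
  obtain ⟨T', π, hπ, h⟩ := h3 T z hz
  refine ⟨T', π, hπ, 0, ?_⟩
  rw [zero_comp]
  exact h

end Resolution

section Tau

variable {Z : FilD.FilF A} {I J : CochainComplex (FilD.FilF A) ℤ}
  (c : (CochainComplex.singleFunctor (FilD.FilF A) 0).obj Z ⟶ J)

/-- a stage of the construction of the twisting cochain -/
def TStage (I : CochainComplex (FilD.FilF A) ℤ) (m : ℤ) : Type v :=
  {t : J.X m ⟶ I.X (m + 1) // uMap c m ≫ t ≫ I.d (m + 1) (m + 1 + 1) = 0}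

variable {c}

lemma tstep_exists (hc : FilD.IsFilteredQuasiIso c)
    (hI : ∀ n, FilD.IsFilteredInjective (I.X n)) (m : ℤ) (s : TStage c I m) :
    ∃ t' : J.X (m + 1) ⟶ I.X (m + 1 + 1),
      J.d m (m + 1) ≫ t' = -(s.1 ≫ I.d (m + 1) (m + 1 + 1)) :=
  exists_desc_of_grExact (uSC c m) (uSC_exact c hc m) (hI (m + 1 + 1))
    (-(s.1 ≫ I.d (m + 1) (m + 1 + 1))) (by
      change uMap c m ≫ _ = 0
      rw [Preadditive.comp_neg, s.2, neg_zero])

/-- the next stage -/
noncomputable def TStage.next (hc : FilD.IsFilteredQuasiIso c)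
    (hI : ∀ n, FilD.IsFilteredInjective (I.X n)) {m : ℤ} (hm : 0 ≤ m) (s : TStage c I m) :
    TStage c I (m + 1) :=
  ⟨(tstep_exists hc hI m s).choose, by
    have h := (tstep_exists hc hI m s).choose_spec
    have aux : ∀ i : ℤ, J.d i (m + 1) ≫ (tstep_exists hc hI m s).choose ≫
        I.d (m + 1 + 1) (m + 1 + 1 + 1) = 0 := by
      intro i
      by_cases hi : i + 1 = m + 1
      · obtain rfl : i = m := by omega
        rw [← Category.assoc, h, Preadditive.neg_comp, Category.assoc, I.d_comp_d, comp_zero,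
          neg_zero]
      · rw [J.shape i (m + 1) hi, zero_comp]
    unfold uMap
    apply biprod.hom_ext'
    · exact (HomologicalComplex.isZero_single_obj_X (ComplexShape.up ℤ) 0 Z (m + 1)
        (by omega)).eq_of_src _ _
    · rw [biprod.inr_desc_assoc, comp_zero]
      exact aux _⟩

lemma TStage.next_spec (hc : FilD.IsFilteredQuasiIso c)
    (hI : ∀ n, FilD.IsFilteredInjective (I.X n)) {m : ℤ} (hm : 0 ≤ m) (s : TStage c I m) :
    J.d m (m + 1) ≫ (s.next hc hI hm).1 = -(s.1 ≫ I.d (m + 1) (m + 1 + 1)) :=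
  (tstep_exists hc hI m s).choose_spec

/-- the zero stage -/
def TStage.zero (m : ℤ) : TStage c I m :=
  ⟨0, by rw [zero_comp, comp_zero]⟩

/-- the initial stage -/
def TStage.init [J.IsStrictlyGE 0] (t₀ : J.X 0 ⟶ I.X (0 + 1))
    (h₀ : c.f 0 ≫ t₀ ≫ I.d (0 + 1) (0 + 1 + 1) = 0) : TStage c I 0 :=
  ⟨t₀, by
    unfold uMap
    apply biprod.hom_ext'
    · rw [biprod.inl_desc_assoc, comp_zero]
      exact h₀
    · exact (J.isZero_of_isStrictlyGE 0 (0 - 1) (by omega)).eq_of_src _ _⟩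

/-- all stages -/
noncomputable def tstages [J.IsStrictlyGE 0] (hc : FilD.IsFilteredQuasiIso c)
    (hI : ∀ n, FilD.IsFilteredInjective (I.X n)) (t₀ : J.X 0 ⟶ I.X (0 + 1))
    (h₀ : c.f 0 ≫ t₀ ≫ I.d (0 + 1) (0 + 1 + 1) = 0) (n : ℤ) : TStage c I n :=
  Int.inductionOn' (motive := fun n => TStage c I n) n 0
    (TStage.init t₀ h₀)
    (fun _ hk s => s.next hc hI hk)
    (fun k _ _ => TStage.zero (k - 1))

lemma tstages_zero [J.IsStrictlyGE 0] (hc : FilD.IsFilteredQuasiIso c)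
    (hI : ∀ n, FilD.IsFilteredInjective (I.X n)) (t₀ : J.X 0 ⟶ I.X (0 + 1))
    (h₀ : c.f 0 ≫ t₀ ≫ I.d (0 + 1) (0 + 1 + 1) = 0) :
    (tstages hc hI t₀ h₀ 0).1 = t₀ := by
  unfold tstages
  rw [Int.inductionOn'_self]
  rfl

lemma tstages_spec [J.IsStrictlyGE 0] (hc : FilD.IsFilteredQuasiIso c)
    (hI : ∀ n, FilD.IsFilteredInjective (I.X n)) (t₀ : J.X 0 ⟶ I.X (0 + 1))
    (h₀ : c.f 0 ≫ t₀ ≫ I.d (0 + 1) (0 + 1 + 1) = 0) (k : ℤ) :
    J.d k (k + 1) ≫ (tstages hc hI t₀ h₀ (k + 1)).1 =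
      -((tstages hc hI t₀ h₀ k).1 ≫ I.d (k + 1) (k + 1 + 1)) := by
  by_cases hk : 0 ≤ k
  · have : tstages hc hI t₀ h₀ (k + 1) = (tstages hc hI t₀ h₀ k).next hc hI hk := by
      unfold tstages
      rw [Int.inductionOn'_add_one hk]
    rw [this]
    exact TStage.next_spec hc hI hk _
  · exact (J.isZero_of_isStrictlyGE 0 k (by omega)).eq_of_src _ _

end Tau

section Single

variable {C : Type*} [Category C] [Preadditive C] [HasZeroObject C]

/-- the degree zero term of a single complex -/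
noncomputable def sIso (X : C) : ((CochainComplex.singleFunctor C 0).obj X).X 0 ≅ X :=
  HomologicalComplex.singleObjXSelf (ComplexShape.up ℤ) 0 X

lemma single_map_f0 {X Y : C} (f : X ⟶ Y) :
    ((CochainComplex.singleFunctor C 0).map f).f 0 = (sIso X).hom ≫ f ≫ (sIso Y).inv :=
  HomologicalComplex.single_map_f_self _ _ _

/-- maps out of a single complex -/
noncomputable def sMk {X : C} {K : CochainComplex C ℤ} (φ : X ⟶ K.X 0)
    (hφ : φ ≫ K.d 0 (0 + 1) = 0) : (CochainComplex.singleFunctor C 0).obj X ⟶ K :=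
  HomologicalComplex.mkHomFromSingle φ (fun k hk => by
    obtain rfl : (0 : ℤ) + 1 = k := hk
    exact hφ)

lemma sMk_f0 {X : C} {K : CochainComplex C ℤ} (φ : X ⟶ K.X 0)
    (hφ : φ ≫ K.d 0 (0 + 1) = 0) : (sMk φ hφ).f 0 = (sIso X).hom ≫ φ :=
  HomologicalComplex.mkHomFromSingle_f _ _

lemma s_hom_ext {X : C} {K : CochainComplex C ℤ}
    {f g : (CochainComplex.singleFunctor C 0).obj X ⟶ K} (h : f.f 0 = g.f 0) : f = g :=
  HomologicalComplex.from_single_hom_ext h

lemma s_d {X : C} (i j : ℤ) : ((CochainComplex.singleFunctor C 0).obj X).d i j = 0 :=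
  HomologicalComplex.single_obj_d _ _ _ _ _

end Single

section Twist

variable {I J : CochainComplex (FilD.FilF A) ℤ} (τ : ∀ n : ℤ, J.X n ⟶ I.X (n + 1))
  (hτ : ∀ n : ℤ, J.d n (n + 1) ≫ τ (n + 1) = -(τ n ≫ I.d (n + 1) (n + 1 + 1)))

/-- the differential of the twisted sum -/
noncomputable def twD (n : ℤ) : I.X n ⊞ J.X n ⟶ I.X (n + 1) ⊞ J.X (n + 1) :=
  biprod.desc (I.d n (n + 1) ≫ biprod.inl) (τ n ≫ biprod.inl + J.d n (n + 1) ≫ biprod.inr)

lemma inl_twD (n : ℤ) : biprod.inl ≫ twD τ n = I.d n (n + 1) ≫ biprod.inl := by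
  unfold twD
  exact biprod.inl_desc _ _

lemma inr_twD (n : ℤ) :
    biprod.inr ≫ twD τ n = τ n ≫ biprod.inl + J.d n (n + 1) ≫ biprod.inr := by
  unfold twD
  exact biprod.inr_desc _ _

lemma twD_snd (n : ℤ) : twD τ n ≫ biprod.snd = biprod.snd ≫ J.d n (n + 1) := by
  apply biprod.hom_ext'
  · rw [← Category.assoc, inl_twD, Category.assoc, biprod.inl_snd, comp_zero,
      biprod.inl_snd_assoc, zero_comp]
  · rw [← Category.assoc, inr_twD, Preadditive.add_comp, Category.assoc, Category.assoc,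
      biprod.inl_snd, biprod.inr_snd, comp_zero, zero_add, Category.comp_id,
      biprod.inr_snd_assoc]

include hτ in
lemma twD_sq (n : ℤ) : twD τ n ≫ twD τ (n + 1) = 0 := by
  apply biprod.hom_ext'
  · rw [← Category.assoc, inl_twD, Category.assoc, inl_twD, ← Category.assoc, I.d_comp_d,
      zero_comp, comp_zero]
  · rw [← Category.assoc, inr_twD, Preadditive.add_comp, Category.assoc, Category.assoc,
      inl_twD, inr_twD, Preadditive.comp_add, ← Category.assoc (J.d n (n + 1)),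
      ← Category.assoc (J.d n (n + 1)), J.d_comp_d, zero_comp, add_zero, hτ n,
      Preadditive.neg_comp, comp_zero, ← Category.assoc]
    exact add_neg_cancel _

/-- the twisted sum complex -/
noncomputable def twCx : CochainComplex (FilD.FilF A) ℤ :=
  CochainComplex.of (fun n => I.X n ⊞ J.X n) (twD τ) (twD_sq τ hτ)

lemma twCx_d (n : ℤ) : (twCx τ hτ).d n (n + 1) = twD τ n := by
  unfold twCx
  exact CochainComplex.of_d (fun n => I.X n ⊞ J.X n) (twD τ) n

/-- the inclusion -/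
noncomputable def twInl : I ⟶ twCx τ hτ :=
  CochainComplex.ofHom (fun _ => biprod.inl) (fun i => by
    rw [twCx_d]
    exact inl_twD τ i)

/-- the projection -/
noncomputable def twSnd : twCx τ hτ ⟶ J :=
  CochainComplex.ofHom (fun _ => biprod.snd) (fun i => by
    rw [twCx_d]
    exact (twD_snd τ i).symm)

lemma twInl_f (n : ℤ) : (twInl τ hτ).f n = (biprod.inl : I.X n ⟶ I.X n ⊞ J.X n) := rfl

lemma twSnd_f (n : ℤ) : (twSnd τ hτ).f n = (biprod.snd : I.X n ⊞ J.X n ⟶ J.X n) := rfl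

end Twist

/-- the horseshoe lemma for filtered injective resolutions (S1091) -/
theorem main_S1091 (S : ShortComplex (FilD.FilF A))
    (hS : ∀ p : ℤ, (S.map ((FilD.IsFinFil A).ι ⋙ (evaluation ℤᵒᵖ A).obj (op p))).ShortExact)
    (I : CochainComplex (FilD.FilF A) ℤ) [I.IsStrictlyGE 0]
    (hI : ∀ n, FilD.IsFilteredInjective (I.X n))
    (a : (CochainComplex.singleFunctor (FilD.FilF A) 0).obj S.X₁ ⟶ I)
    (J : CochainComplex (FilD.FilF A) ℤ) [J.IsStrictlyGE 0]
    (c : (CochainComplex.singleFunctor (FilD.FilF A) 0).obj S.X₃ ⟶ J)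
    (hc : FilD.IsFilteredQuasiIso c) :
    ∃ (M : CochainComplex (FilD.FilF A) ℤ) (α : I ⟶ M) (β : M ⟶ J)
      (b : (CochainComplex.singleFunctor (FilD.FilF A) 0).obj S.X₂ ⟶ M),
      (∀ n, ∃ (r : M.X n ⟶ I.X n) (s : J.X n ⟶ M.X n), α.f n ≫ r = 𝟙 _ ∧ s ≫ β.f n = 𝟙 _ ∧
        α.f n ≫ β.f n = 0 ∧ r ≫ α.f n + β.f n ≫ s = 𝟙 _) ∧
      a ≫ α = (CochainComplex.singleFunctor (FilD.FilF A) 0).map S.f ≫ b ∧
      b ≫ β = (CochainComplex.singleFunctor (FilD.FilF A) 0).map S.g ≫ c := by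
  -- the degree zero component of `a`
  let a0 : S.X₁ ⟶ I.X 0 := (sIso S.X₁).inv ≫ a.f 0
  have ha0 : a0 ≫ I.d 0 (0 + 1) = 0 := by
    rw [Category.assoc, a.comm, s_d, zero_comp, comp_zero]
  have := mono_of_levelShortExact S hS
  obtain ⟨at', hat⟩ := exists_desc S.f (isStrict_of_levelShortExact S hS) (hI 0) a0
  obtain ⟨θ, hθ⟩ := exists_desc_of_levelShortExact S hS (at' ≫ I.d 0 (0 + 1)) (by
    rw [← Category.assoc, hat, ha0])
  have hθd : θ ≫ I.d (0 + 1) (0 + 1 + 1) = 0 := by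
    have he : Epi S.g.hom := by
      rw [NatTrans.epi_iff_epi_app]
      intro P
      exact (hS P.unop).epi_g
    apply ObjectProperty.hom_ext
    rw [← cancel_epi S.g.hom]
    have := congrArg (fun m => m.hom) (show S.g ≫ θ ≫ I.d (0 + 1) (0 + 1 + 1) = 0 by
      rw [← Category.assoc, hθ, Category.assoc, I.d_comp_d, comp_zero])
    refine this.trans ?_
    exact comp_zero.symm
  obtain ⟨t₀, ht₀⟩ := exists_desc_of_grExact (zSC c) (zSC_exact c hc) (hI (0 + 1))
    (-((sIso S.X₃).hom ≫ θ)) zero_comp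
  have ht₀' : c.f 0 ≫ t₀ = -((sIso S.X₃).hom ≫ θ) := ht₀
  have h₀ : c.f 0 ≫ t₀ ≫ I.d (0 + 1) (0 + 1 + 1) = 0 := by
    rw [← Category.assoc, ht₀', Preadditive.neg_comp, Category.assoc, hθd, comp_zero, neg_zero]
  let τ : ∀ n : ℤ, J.X n ⟶ I.X (n + 1) := fun n => (tstages hc hI t₀ h₀ n).1
  have hτ : ∀ n : ℤ, J.d n (n + 1) ≫ τ (n + 1) = -(τ n ≫ I.d (n + 1) (n + 1 + 1)) :=
    fun n => tstages_spec hc hI t₀ h₀ n
  have hτ0 : τ 0 = t₀ := tstages_zero hc hI t₀ h₀
  let b0 : S.X₂ ⟶ I.X 0 ⊞ J.X 0 := biprod.lift at' (S.g ≫ (sIso S.X₃).inv ≫ c.f 0)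
  have hb0 : b0 ≫ twD τ 0 = 0 := by
    apply biprod.hom_ext
    · rw [zero_comp, Category.assoc]
      have e1 : twD τ 0 ≫ biprod.fst = biprod.fst ≫ I.d 0 (0 + 1) + biprod.snd ≫ τ 0 := by
        apply biprod.hom_ext'
        · rw [← Category.assoc, inl_twD, Category.assoc, biprod.inl_fst, Category.comp_id,
            Preadditive.comp_add, biprod.inl_fst_assoc, biprod.inl_snd_assoc, zero_comp, add_zero]
        · rw [← Category.assoc, inr_twD, Preadditive.add_comp, Category.assoc, Category.assoc,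
            biprod.inl_fst, biprod.inr_fst, comp_zero, add_zero, Category.comp_id,
            Preadditive.comp_add, biprod.inr_fst_assoc, zero_comp, biprod.inr_snd_assoc]
          exact (zero_add _).symm
      rw [e1, Preadditive.comp_add, biprod.lift_fst_assoc, biprod.lift_snd_assoc, hτ0]
      simp only [Category.assoc]
      rw [ht₀', ← hθ]
      simp only [Preadditive.comp_neg, Iso.inv_hom_id_assoc]
      exact add_neg_cancel _
    · rw [zero_comp, Category.assoc, twD_snd, biprod.lift_snd_assoc]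
      simp only [Category.assoc]
      rw [c.comm, s_d, zero_comp, comp_zero, comp_zero]
  let b : (CochainComplex.singleFunctor (FilD.FilF A) 0).obj S.X₂ ⟶ twCx τ hτ :=
    sMk (K := twCx τ hτ) b0 (by
      rw [twCx_d]
      exact hb0)
  have hb : b.f 0 = (sIso S.X₂).hom ≫ b0 := sMk_f0 (K := twCx τ hτ) _ _
  have key1 : a.f 0 ≫ (biprod.inl : I.X 0 ⟶ I.X 0 ⊞ J.X 0) =
      ((sIso S.X₁).hom ≫ S.f ≫ (sIso S.X₂).inv) ≫ ((sIso S.X₂).hom ≫ b0) := by
    apply biprod.hom_ext
    · simp only [Category.assoc, biprod.inl_fst, Category.comp_id, Iso.inv_hom_id_assoc, b0,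
        biprod.lift_fst]
      rw [hat]
      simp only [a0, Iso.hom_inv_id_assoc]
    · simp only [Category.assoc, biprod.inl_snd, comp_zero, Iso.inv_hom_id_assoc, b0,
        biprod.lift_snd]
      rw [S.zero_assoc, zero_comp, comp_zero]
  have key2 : ((sIso S.X₂).hom ≫ b0) ≫ (biprod.snd : I.X 0 ⊞ J.X 0 ⟶ J.X 0) =
      ((sIso S.X₂).hom ≫ S.g ≫ (sIso S.X₃).inv) ≫ c.f 0 := by
    simp only [Category.assoc, b0, biprod.lift_snd]
  refine ⟨twCx τ hτ, twInl τ hτ, twSnd τ hτ, b, ?_, ?_, ?_⟩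
  · intro n
    refine ⟨biprod.fst, biprod.inr, biprod.inl_fst, biprod.inr_snd, biprod.inl_snd,
      biprod.total⟩
  · apply s_hom_ext
    rw [HomologicalComplex.comp_f, HomologicalComplex.comp_f, hb, single_map_f0]
    exact key1
  · apply s_hom_ext
    rw [HomologicalComplex.comp_f, HomologicalComplex.comp_f, hb, single_map_f0]
    exact key2

end Groth.Agent.Helper3.Fil
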