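import Mathlib
import Groth.Prelude.Def_FilD
import Groth.Agent.Lib.Helper3.FilBasic
import Groth.Agent.Lib.Helper3.FilKer
import Groth.Agent.Lib.Helper3.FilExact
import Groth.Agent.Lib.Helper3.FilCok
import Groth.Agent.Lib.Helper3.FilBiprod

set_option autoImplicit false
universe v u
open CategoryTheory CategoryTheory.Limits Opposite

namespace Groth.Agent.Helper3.Fil

variable {A : Type u} [Category.{v} A] [Abelian A]

lemma hom_add {X Y : FilD.FilF A} (f g : X ⟶ Y) : (f + g).hom = f.hom + g.hom := rfl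

lemma hom_neg {X Y : FilD.FilF A} (f : X ⟶ Y) : (-f).hom = -f.hom := rfl

lemma hom_zero' {X Y : FilD.FilF A} : (0 : X ⟶ Y).hom = 0 := rfl

lemma hom_comp' {X Y Z : FilD.FilF A} (f : X ⟶ Y) (g : Y ⟶ Z) : (f ≫ g).hom = f.hom ≫ g.hom := rfl

lemma hom_id' (X : FilD.FilF A) : (𝟙 X : X ⟶ X).hom = 𝟙 X.obj := rfl

section CokF

variable {X Y : FilD.FilF A} (φ : X ⟶ Y) (hφ : FilD.IsStrict φ)

include hφ in
lemma isFinFil_cokernel : FilD.IsFinFil A (cokernel φ.hom) := by
  have hs := (isStrict_iff φ).1 hφ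
  refine ⟨monoT_cokernel φ.hom hs, ?_, ?_⟩
  · obtain ⟨b, hb⟩ := Y.property.2.1
    exact ⟨b, fun p hp => isZero_cokernel_obj φ.hom (op p) (hb p hp)⟩
  · obtain ⟨a, ha⟩ := Y.property.2.2
    refine ⟨a, fun P Q f hP => ?_⟩
    have := ha f hP
    exact isIso_cokernel_map φ.hom hs f

/-- the cokernel of a strict morphism -/
noncomputable abbrev cokF : FilD.FilF A := ⟨cokernel φ.hom, isFinFil_cokernel φ hφ⟩

/-- the projection to the cokernel -/
noncomputable abbrev cokπ : Y ⟶ cokF φ hφ := ObjectProperty.homMk (cokernel.π φ.hom)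

lemma comp_cokπ : φ ≫ cokπ φ hφ = 0 := by
  apply ObjectProperty.hom_ext
  exact cokernel.condition φ.hom

/-- the universal property -/
noncomputable def cokDesc {W : FilD.FilF A} (ψ : Y ⟶ W) (h : φ ≫ ψ = 0) : cokF φ hφ ⟶ W :=
  ObjectProperty.homMk (cokernel.desc φ.hom ψ.hom (by
    have := congrArg (fun m => m.hom) h
    exact this))

lemma cokπ_desc {W : FilD.FilF A} (ψ : Y ⟶ W) (h : φ ≫ ψ = 0) :
    cokπ φ hφ ≫ cokDesc φ hφ ψ h = ψ := by
  apply ObjectProperty.hom_ext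
  exact cokernel.π_desc _ _ _

lemma cokF_hom_ext {W : FilD.FilF A} {f g : cokF φ hφ ⟶ W}
    (h : cokπ φ hφ ≫ f = cokπ φ hφ ≫ g) : f = g := by
  apply ObjectProperty.hom_ext
  have := congrArg (fun m => m.hom) h
  exact (cancel_epi (cokernel.π φ.hom)).1 this

end CokF

lemma strictEl_comp {X Y Z : ℤᵒᵖ ⥤ A} (u : X ⟶ Y) (v : Y ⟶ Z) (hv : ∀ P, Mono (v.app P))
    (hu : StrictEl u) (hv' : StrictEl v) : StrictEl (u ≫ v) := by
  intro p q h T x y hxy
  obtain ⟨T₁, π₁, hπ₁, x₁, hx₁⟩ := hv' p q h T (x ≫ u.app (op p)) y (by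
    rw [Category.assoc]
    exact hxy)
  have := hv (op p)
  have h1 : (π₁ ≫ x) ≫ u.app (op p) = x₁ ≫ tr Y h := by
    rw [← cancel_mono (v.app (op p)), Category.assoc, Category.assoc, Category.assoc,
      tr_naturality, ← Category.assoc x₁, ← hx₁, Category.assoc]
    congr 1
  obtain ⟨T₂, π₂, hπ₂, x₂, hx₂⟩ := hu p q h T₁ (π₁ ≫ x) x₁ h1
  refine ⟨T₂, π₂ ≫ π₁, epi_comp _ _, x₂, ?_⟩
  rw [Category.assoc, hx₁, ← Category.assoc, hx₂, Category.assoc]
  rfl

lemma isStrict_comp {X Y Z : FilD.FilF A} (u : X ⟶ Y) (v : Y ⟶ Z) [Mono v]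
    (hu : FilD.IsStrict u) (hv : FilD.IsStrict v) : FilD.IsStrict (u ≫ v) := by
  rw [isStrict_iff] at hu hv ⊢
  exact strictEl_comp u.hom v.hom (fun P => mono_app_of_mono v P.unop) hu hv

section Push

variable {B I' K' : FilD.FilF A} (e : B ⟶ I') (β : B ⟶ K')

/-- the map `(e, -β)` whose cokernel is the pushout -/
noncomputable def pu : B ⟶ I' ⊞ K' := biprod.lift e (-β)

lemma pu_fst_app (P : ℤᵒᵖ) :
    (pu e β).hom.app P ≫ (biprod.fst : I' ⊞ K' ⟶ I').hom.app P = e.hom.app P := by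
  have := congrArg (fun m => m.hom.app P) (biprod.lift_fst e (-β))
  exact this

lemma pu_snd_app (P : ℤᵒᵖ) :
    (pu e β).hom.app P ≫ (biprod.snd : I' ⊞ K' ⟶ K').hom.app P = -β.hom.app P := by
  have := congrArg (fun m => m.hom.app P) (biprod.lift_snd e (-β))
  exact this

lemma bp_total_app (P : ℤᵒᵖ) :
    (biprod.fst : I' ⊞ K' ⟶ I').hom.app P ≫ (biprod.inl : I' ⟶ I' ⊞ K').hom.app P +
      (biprod.snd : I' ⊞ K' ⟶ K').hom.app P ≫ (biprod.inr : K' ⟶ I' ⊞ K').hom.app P = 𝟙 _ := by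
  have := congrArg (fun m => m.hom.app P) (biprod.total (X := I') (Y := K'))
  exact this

lemma bp_ext_app (P : ℤᵒᵖ) {T : A} (s t : T ⟶ (I' ⊞ K').obj.obj P)
    (h1 : s ≫ (biprod.fst : I' ⊞ K' ⟶ I').hom.app P = t ≫ (biprod.fst : I' ⊞ K' ⟶ I').hom.app P)
    (h2 : s ≫ (biprod.snd : I' ⊞ K' ⟶ K').hom.app P =
      t ≫ (biprod.snd : I' ⊞ K' ⟶ K').hom.app P) : s = t := by
  rw [← Category.comp_id s, ← Category.comp_id t, ← bp_total_app P, Preadditive.comp_add,
    Preadditive.comp_add, ← Category.assoc, ← Category.assoc, ← Category.assoc, ← Category.assoc,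
    h1, h2]

lemma bp_inr_fst_app (P : ℤᵒᵖ) :
    (biprod.inr : K' ⟶ I' ⊞ K').hom.app P ≫ (biprod.fst : I' ⊞ K' ⟶ I').hom.app P = 0 := by
  have := congrArg (fun m => m.hom.app P) (biprod.inr_fst (X := I') (Y := K'))
  exact this

lemma bp_inr_snd_app (P : ℤᵒᵖ) :
    (biprod.inr : K' ⟶ I' ⊞ K').hom.app P ≫ (biprod.snd : I' ⊞ K' ⟶ K').hom.app P = 𝟙 _ := by
  have := congrArg (fun m => m.hom.app P) (biprod.inr_snd (X := I') (Y := K'))
  exact this

variable (hm : ∀ P : ℤᵒᵖ, Mono (e.hom.app P)) (he : StrictEl e.hom)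

include hm in
lemma mono_pu_app (P : ℤᵒᵖ) : Mono ((pu e β).hom.app P) := by
  apply Preadditive.mono_of_cancel_zero
  intro T x hx
  have := hm P
  rw [← cancel_mono (e.hom.app P), zero_comp, ← pu_fst_app e β P, ← Category.assoc, hx, zero_comp]

include hm he in
lemma strictEl_pu : StrictEl (pu e β).hom := by
  intro p q h T x y hxy
  have h1 : x ≫ e.hom.app (op p) =
      (y ≫ (biprod.fst : I' ⊞ K' ⟶ I').hom.app (op q)) ≫ tr I'.obj h := by
    rw [Category.assoc, ← tr_naturality, ← Category.assoc, ← hxy, Category.assoc, pu_fst_app]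
  obtain ⟨T₁, π₁, hπ₁, x', hx'⟩ := he p q h T x _ h1
  refine ⟨T₁, π₁, hπ₁, x', ?_⟩
  have := hm (op p)
  have h2 : π₁ ≫ x = x' ≫ tr B.obj h := by
    rw [← cancel_mono (e.hom.app (op p)), Category.assoc, h1, ← Category.assoc, hx',
      Category.assoc, Category.assoc, tr_naturality]
  apply bp_ext_app
  · rw [Category.assoc, Category.assoc, pu_fst_app]
    exact hx'
  · have := (monoT_of_filF K').mono_tr h
    rw [← cancel_mono (tr K'.obj h)]
    have e1 : ((π₁ ≫ y) ≫ (biprod.snd : I' ⊞ K' ⟶ K').hom.app (op q)) ≫ tr K'.obj h =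
        -((x' ≫ tr B.obj h) ≫ β.hom.app (op p)) := by
      rw [Category.assoc, Category.assoc, ← tr_naturality, ← Category.assoc y, ← hxy,
        Category.assoc, pu_snd_app, Preadditive.comp_neg, Preadditive.comp_neg, ← Category.assoc,
        h2]
    have e2 : ((x' ≫ (pu e β).hom.app (op q)) ≫ (biprod.snd : I' ⊞ K' ⟶ K').hom.app (op q)) ≫
        tr K'.obj h = -((x' ≫ tr B.obj h) ≫ β.hom.app (op p)) := by
      rw [Category.assoc x', pu_snd_app, Preadditive.comp_neg, Preadditive.neg_comp,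
        Category.assoc, ← tr_naturality, Category.assoc]
    rw [e1, e2]

include hm he in
lemma isStrict_pu : FilD.IsStrict (pu e β) := by
  rw [isStrict_iff]
  exact strictEl_pu e β hm he

end Push

section PushObj

variable {B I' K' : FilD.FilF A} (e : B ⟶ I') (β : B ⟶ K')
  (hm : ∀ P : ℤᵒᵖ, Mono (e.hom.app P)) (he : StrictEl e.hom)

/-- the pushout of `e` along `β` -/
noncomputable abbrev pushF : FilD.FilF A := cokF (pu e β) (isStrict_pu e β hm he)

/-- the projection from the biproduct -/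
noncomputable abbrev pushπ : I' ⊞ K' ⟶ pushF e β hm he := cokπ (pu e β) (isStrict_pu e β hm he)

/-- first leg -/
noncomputable def pushInl : I' ⟶ pushF e β hm he := biprod.inl ≫ pushπ e β hm he

/-- second leg -/
noncomputable def pushInr : K' ⟶ pushF e β hm he := biprod.inr ≫ pushπ e β hm he

lemma pu_pushπ : pu e β ≫ pushπ e β hm he = 0 := comp_cokπ _ _

lemma pu_eq : pu e β = e ≫ biprod.inl - β ≫ biprod.inr := by
  unfold pu
  rw [biprod.lift_eq, Preadditive.neg_comp, sub_eq_add_neg]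

lemma push_sq : e ≫ pushInl e β hm he = β ≫ pushInr e β hm he := by
  have h := pu_pushπ e β hm he
  rw [pu_eq, Preadditive.sub_comp, sub_eq_zero, Category.assoc, Category.assoc] at h
  exact h

/-- maps out of the pushout -/
noncomputable def pushDesc {W : FilD.FilF A} (f : I' ⟶ W) (g : K' ⟶ W) (h : e ≫ f = β ≫ g) :
    pushF e β hm he ⟶ W :=
  cokDesc (pu e β) (isStrict_pu e β hm he) (biprod.desc f g) (by
    rw [pu_eq, Preadditive.sub_comp, Category.assoc, Category.assoc, biprod.inl_desc,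
      biprod.inr_desc, h, sub_self])

lemma pushInl_desc {W : FilD.FilF A} (f : I' ⟶ W) (g : K' ⟶ W) (h : e ≫ f = β ≫ g) :
    pushInl e β hm he ≫ pushDesc e β hm he f g h = f := by
  unfold pushInl pushDesc pushπ
  rw [Category.assoc, cokπ_desc, biprod.inl_desc]

lemma pushInr_desc {W : FilD.FilF A} (f : I' ⟶ W) (g : K' ⟶ W) (h : e ≫ f = β ≫ g) :
    pushInr e β hm he ≫ pushDesc e β hm he f g h = g := by
  unfold pushInr pushDesc pushπ
  rw [Category.assoc, cokπ_desc, biprod.inr_desc]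

lemma push_hom_ext {W : FilD.FilF A} {f g : pushF e β hm he ⟶ W}
    (h1 : pushInl e β hm he ≫ f = pushInl e β hm he ≫ g)
    (h2 : pushInr e β hm he ≫ f = pushInr e β hm he ≫ g) : f = g := by
  apply cokF_hom_ext
  apply biprod.hom_ext'
  · rw [← Category.assoc, ← Category.assoc]
    exact h1
  · rw [← Category.assoc, ← Category.assoc]
    exact h2

lemma pushπ_app_eq (P : ℤᵒᵖ) : (pushπ e β hm he).hom.app P = (cokernel.π (pu e β).hom).app P :=
  rfl

lemma pushInr_app (P : ℤᵒᵖ) : (pushInr e β hm he).hom.app P =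
    (biprod.inr : K' ⟶ I' ⊞ K').hom.app P ≫ (cokernel.π (pu e β).hom).app P := rfl

lemma mono_pushInr_app (P : ℤᵒᵖ) : Mono ((pushInr e β hm he).hom.app P) := by
  apply Preadditive.mono_of_cancel_zero
  intro T k hk
  have hk' : (k ≫ (biprod.inr : K' ⟶ I' ⊞ K').hom.app P) ≫
      (cokernel.π (pu e β).hom).app P = 0 := by
    rw [Category.assoc]
    exact hk
  obtain ⟨T₁, π₁, hπ₁, b, hb⟩ := cokernel_exact_app (pu e β).hom P _ hk'
  have := hm P
  have hb0 : b = 0 := by
    rw [← cancel_mono (e.hom.app P), zero_comp, ← pu_fst_app e β P, ← Category.assoc, ← hb,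
      Category.assoc, Category.assoc, bp_inr_fst_app, comp_zero, comp_zero]
  rw [hb0, zero_comp] at hb
  have h2 := congrArg (fun m => m ≫ (biprod.snd : I' ⊞ K' ⟶ K').hom.app P) hb
  simp only [Category.assoc, zero_comp] at h2
  rw [bp_inr_snd_app, Category.comp_id] at h2
  rw [← cancel_epi π₁, h2, comp_zero]

instance : Mono (pushInr e β hm he) := by
  have : Mono (pushInr e β hm he).hom := by
    rw [NatTrans.mono_iff_mono_app]
    exact mono_pushInr_app e β hm he
  exact mono_of_mono_hom _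

lemma strictEl_pushInr : StrictEl (pushInr e β hm he).hom := by
  intro p q h T x w hxw
  have := epi_cokernel_π_app (pu e β).hom (op q)
  obtain ⟨T₁, π₁, hπ₁, t, ht⟩ :=
    surjective_up_to_refinements_of_epi ((cokernel.π (pu e β).hom).app (op q)) w
  have h1 : (π₁ ≫ x ≫ (biprod.inr : K' ⟶ I' ⊞ K').hom.app (op p) - t ≫ tr (I' ⊞ K').obj h) ≫
      (cokernel.π (pu e β).hom).app (op p) = 0 := by
    rw [Preadditive.sub_comp, Category.assoc, Category.assoc, Category.assoc, tr_naturality,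
      ← Category.assoc t, ← ht, Category.assoc, sub_eq_zero]
    congr 1
  obtain ⟨T₂, π₂, hπ₂, b, hb⟩ := cokernel_exact_app (pu e β).hom (op p) _ h1
  have h2 : b ≫ e.hom.app (op p) =
      (-(π₂ ≫ t ≫ (biprod.fst : I' ⊞ K' ⟶ I').hom.app (op q))) ≫ tr I'.obj h := by
    have h3 := congrArg (fun m => m ≫ (biprod.fst : I' ⊞ K' ⟶ I').hom.app (op p)) hb
    simp only [Category.assoc, Preadditive.sub_comp, Preadditive.comp_sub] at h3
    rw [pu_fst_app, bp_inr_fst_app, comp_zero, comp_zero, comp_zero, zero_sub,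
      tr_naturality] at h3
    rw [← h3, Preadditive.neg_comp, Category.assoc, Category.assoc]
  obtain ⟨T₃, π₃, hπ₃, b', hb'⟩ := he p q h T₂ b _ h2
  have ht' : π₃ ≫ π₂ ≫ π₁ ≫ w = (π₃ ≫ π₂ ≫ t) ≫ (cokernel.π (pu e β).hom).app (op q) := by
    rw [ht, Category.assoc, Category.assoc]
  have h4 : π₃ ≫ π₂ ≫ t - (π₃ ≫ π₂ ≫ t ≫ (biprod.snd : I' ⊞ K' ⟶ K').hom.app (op q) -
      b' ≫ β.hom.app (op q)) ≫ (biprod.inr : K' ⟶ I' ⊞ K').hom.app (op q) =
      (-b') ≫ (pu e β).hom.app (op q) := by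
    apply bp_ext_app
    · simp only [Preadditive.sub_comp, Category.assoc, bp_inr_fst_app, comp_zero, sub_zero,
        pu_fst_app, Preadditive.neg_comp]
      rw [← hb', Preadditive.comp_neg, neg_neg]
    · simp only [Preadditive.sub_comp, Category.assoc, bp_inr_snd_app, Category.comp_id,
        pu_snd_app, Preadditive.neg_comp, Preadditive.comp_neg, neg_neg]
      abel
  have h5 : (π₃ ≫ π₂ ≫ t - (π₃ ≫ π₂ ≫ t ≫ (biprod.snd : I' ⊞ K' ⟶ K').hom.app (op q) -
      b' ≫ β.hom.app (op q)) ≫ (biprod.inr : K' ⟶ I' ⊞ K').hom.app (op q)) ≫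
      (cokernel.π (pu e β).hom).app (op q) = 0 := by
    rw [h4, Category.assoc, cokernel_π_app_comp, comp_zero]
  rw [Preadditive.sub_comp, sub_eq_zero] at h5
  refine ⟨T₃, π₃ ≫ π₂ ≫ π₁, inferInstance,
    π₃ ≫ π₂ ≫ t ≫ (biprod.snd : I' ⊞ K' ⟶ K').hom.app (op q) - b' ≫ β.hom.app (op q), ?_⟩
  rw [Category.assoc, Category.assoc]
  refine ht'.trans (h5.trans ?_)
  rw [Category.assoc]
  rfl

lemma isStrict_pushInr : FilD.IsStrict (pushInr e β hm he) := by
  rw [isStrict_iff]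
  exact strictEl_pushInr e β hm he

end PushObj

section GrPush

variable {B I' K' : FilD.FilF A} (e : B ⟶ I') (β : B ⟶ K')
  (hm : ∀ P : ℤᵒᵖ, Mono (e.hom.app P)) (he : StrictEl e.hom) (p : ℤ)

lemma gr_bp_decomp {T : A} (t : T ⟶ (FilD.grF A p).obj (I' ⊞ K')) :
    t = (t ≫ (FilD.grF A p).map biprod.fst) ≫ (FilD.grF A p).map biprod.inl +
      (t ≫ (FilD.grF A p).map biprod.snd) ≫ (FilD.grF A p).map biprod.inr := by
  rw [Category.assoc, Category.assoc, ← CategoryTheory.Functor.map_comp, ← CategoryTheory.Functor.map_comp,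
    ← Preadditive.comp_add, ← CategoryTheory.Functor.map_add, biprod.total, CategoryTheory.Functor.map_id, Category.comp_id]

lemma grF_pushInl : (FilD.grF A p).map (pushInl e β hm he) =
    (FilD.grF A p).map biprod.inl ≫ (FilD.grF A p).map (pushπ e β hm he) := by
  unfold pushInl
  rw [CategoryTheory.Functor.map_comp]

lemma grF_pushInr : (FilD.grF A p).map (pushInr e β hm he) =
    (FilD.grF A p).map biprod.inr ≫ (FilD.grF A p).map (pushπ e β hm he) := by
  unfold pushInr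
  rw [CategoryTheory.Functor.map_comp]

lemma push_E {T : A} (w : T ⟶ (FilD.grF A p).obj (pushF e β hm he)) :
    ∃ (T' : A) (π : T' ⟶ T) (_ : Epi π) (y : T' ⟶ (FilD.grF A p).obj I')
      (k : T' ⟶ (FilD.grF A p).obj K'),
      π ≫ w = y ≫ (FilD.grF A p).map (pushInl e β hm he) +
        k ≫ (FilD.grF A p).map (pushInr e β hm he) := by
  have : Epi ((FilD.grF A p).map (pushπ e β hm he)) := epi_gr_cokernel_π (pu e β).hom p
  obtain ⟨T₁, π₁, hπ₁, t, ht⟩ :=
    surjective_up_to_refinements_of_epi ((FilD.grF A p).map (pushπ e β hm he)) w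
  refine ⟨T₁, π₁, hπ₁, t ≫ (FilD.grF A p).map biprod.fst, t ≫ (FilD.grF A p).map biprod.snd, ?_⟩
  rw [ht, grF_pushInl, grF_pushInr, ← Category.assoc, ← Category.assoc, ← Preadditive.add_comp,
    ← gr_bp_decomp]

lemma push_X {T : A} (y : T ⟶ (FilD.grF A p).obj I') (k : T ⟶ (FilD.grF A p).obj K')
    (h : y ≫ (FilD.grF A p).map (pushInl e β hm he) +
      k ≫ (FilD.grF A p).map (pushInr e β hm he) = 0) :
    ∃ (T' : A) (π : T' ⟶ T) (_ : Epi π) (b : T' ⟶ (FilD.grF A p).obj B),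
      π ≫ y = b ≫ (FilD.grF A p).map e ∧ π ≫ k = -(b ≫ (FilD.grF A p).map β) := by
  have ht : (y ≫ (FilD.grF A p).map biprod.inl + k ≫ (FilD.grF A p).map biprod.inr) ≫
      (FilD.grF A p).map (pushπ e β hm he) = 0 := by
    rw [Preadditive.add_comp, Category.assoc, Category.assoc, ← grF_pushInl, ← grF_pushInr]
    exact h
  have hQ : MonoT (cokernel (pu e β).hom) := monoT_of_filF (pushF e β hm he)
  obtain ⟨T₁, π₁, hπ₁, b, hb⟩ := grEx_cokernel (pu e β).hom hQ p T _ ht
  have hb' : π₁ ≫ (y ≫ (FilD.grF A p).map biprod.inl + k ≫ (FilD.grF A p).map biprod.inr) =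
      b ≫ (FilD.grF A p).map (pu e β) := hb
  refine ⟨T₁, π₁, hπ₁, b, ?_, ?_⟩
  · have h1 := congrArg (fun m => m ≫ (FilD.grF A p).map (biprod.fst : I' ⊞ K' ⟶ I')) hb'
    simp only [Category.assoc, Preadditive.add_comp, Preadditive.comp_add,
      ← CategoryTheory.Functor.map_comp] at h1
    rw [biprod.inl_fst, biprod.inr_fst, CategoryTheory.Functor.map_id, CategoryTheory.Functor.map_zero, comp_zero, comp_zero,
      add_zero, Category.comp_id] at h1
    rw [h1]
    unfold pu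
    rw [biprod.lift_fst]
  · have h1 := congrArg (fun m => m ≫ (FilD.grF A p).map (biprod.snd : I' ⊞ K' ⟶ K')) hb'
    simp only [Category.assoc, Preadditive.add_comp, Preadditive.comp_add,
      ← CategoryTheory.Functor.map_comp] at h1
    rw [biprod.inl_snd, biprod.inr_snd, CategoryTheory.Functor.map_id, CategoryTheory.Functor.map_zero, comp_zero, comp_zero,
      zero_add, Category.comp_id] at h1
    rw [h1]
    unfold pu
    rw [biprod.lift_snd, CategoryTheory.Functor.map_neg, Preadditive.comp_neg]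

end GrPush

/-- `gr` of a strict monomorphism is a monomorphism -/
lemma mono_grF_of_strict_mono {X Y : FilD.FilF A} (u : X ⟶ Y) [Mono u] (hu : FilD.IsStrict u)
    (p : ℤ) : Mono ((FilD.grF A p).map u) :=
  mono_gr_of_strict u.hom (monoT_of_filF X) (monoT_of_filF Y)
    (fun P => mono_app_of_mono u P.unop) ((isStrict_iff u).1 hu).step p

end Groth.Agent.Helper3.Fil
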