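import Mathlib
import Groth.Prelude.Def_FilD
import Groth.Agent.Lib.Helper3.FilBasic
import Groth.Agent.Lib.Helper3.FilKer
import Groth.Agent.Lib.Helper3.FilExact
import Groth.Agent.Lib.Helper3.FilCok
import Groth.Agent.Lib.Helper3.FilBiprod
import Groth.Agent.Lib.Helper3.FilPush
import Groth.Agent.Lib.Helper3.FilEnough
import Groth.Agent.Lib.Helper3.AbsQis

set_option autoImplicit false
universe v u
open CategoryTheory CategoryTheory.Limits Opposite

namespace Groth.Agent.Helper3.Fil

variable {A : Type u} [Category.{v} A] [Abelian A]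

lemma strictEl_id (X : ℤᵒᵖ ⥤ A) : StrictEl (𝟙 X) := by
  intro p q h T x y hxy
  refine ⟨T, 𝟙 T, inferInstance, y, ?_⟩
  rw [Category.id_comp]
  exact (Category.comp_id y).symm

lemma isStrict_id (X : FilD.FilF A) : FilD.IsStrict (𝟙 X) := by
  rw [isStrict_iff]
  exact strictEl_id X.obj

lemma isFilteredInjective_of_isZero (X : FilD.FilF A) (hX : IsZero X) :
    FilD.IsFilteredInjective X := by
  intro p
  have hz : IsZero ((FilD.grF A p).obj X) := (FilD.grF A p).map_isZero hX
  constructor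
  intro U V g m _
  exact ⟨0, hz.eq_of_tgt _ _⟩

variable (K : CochainComplex (FilD.FilF A) ℤ)

/-- a stage of the construction of the resolution -/
structure RStage (n : ℤ) where
  /-- the pushout object -/
  B : FilD.FilF A
  /-- the filtered injective -/
  I : FilD.FilF A
  /-- the map from the complex -/
  j : K.X n ⟶ B
  /-- the embedding -/
  e : B ⟶ I
  /-- the map to the next term -/
  β : B ⟶ K.X (n + 1)
  hI : FilD.IsFilteredInjective I
  j_mono : Mono j
  j_strict : FilD.IsStrict j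
  e_mono : Mono e
  e_strict : FilD.IsStrict e
  jβ : j ≫ β = K.d n (n + 1)
  βd : β ≫ K.d (n + 1) (n + 1 + 1) = 0

variable {K}

/-- the relation between consecutive stages -/
def RRel {n : ℤ} (s : RStage K n) (s' : RStage K (n + 1)) : Prop :=
  ∃ δ : s.I ⟶ s'.B, s.e ≫ δ = s.β ≫ s'.j ∧ δ ≫ s'.β = 0 ∧
    (∀ (p : ℤ) (T : A) (y : T ⟶ (FilD.grF A p).obj s.I)
      (k : T ⟶ (FilD.grF A p).obj (K.X (n + 1))),
      y ≫ (FilD.grF A p).map δ + k ≫ (FilD.grF A p).map s'.j = 0 →
      ∃ (T' : A) (π : T' ⟶ T) (_ : Epi π) (b : T' ⟶ (FilD.grF A p).obj s.B),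
        π ≫ y = b ≫ (FilD.grF A p).map s.e ∧ π ≫ k = -(b ≫ (FilD.grF A p).map s.β)) ∧
    (∀ (p : ℤ) (T : A) (w : T ⟶ (FilD.grF A p).obj s'.B),
      ∃ (T' : A) (π : T' ⟶ T) (_ : Epi π) (y : T' ⟶ (FilD.grF A p).obj s.I)
        (k : T' ⟶ (FilD.grF A p).obj (K.X (n + 1))),
        π ≫ w = y ≫ (FilD.grF A p).map δ + k ≫ (FilD.grF A p).map s'.j)

/-- an initial stage -/
def initStage (n : ℤ) (I : FilD.FilF A) (e : K.X n ⟶ I) (hI : FilD.IsFilteredInjective I)
    (hm : Mono e) (hs : FilD.IsStrict e) : RStage K n where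
  B := K.X n
  I := I
  j := 𝟙 _
  e := e
  β := K.d n (n + 1)
  hI := hI
  j_mono := inferInstance
  j_strict := isStrict_id _
  e_mono := hm
  e_strict := hs
  jβ := Category.id_comp _
  βd := K.d_comp_d _ _ _

lemma rrel_init (n : ℤ) (hI : FilD.IsFilteredInjective (K.X n)) (I' : FilD.FilF A)
    (e' : K.X (n + 1) ⟶ I')
    (hI' : FilD.IsFilteredInjective I') (hm' : Mono e') (hs' : FilD.IsStrict e') :
    RRel (initStage n (K.X n) (𝟙 _) hI inferInstance (isStrict_id _))
      (initStage (n + 1) I' e' hI' hm' hs') := by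
  refine ⟨K.d n (n + 1), ?_, ?_, ?_, ?_⟩
  · change 𝟙 _ ≫ K.d n (n + 1) = K.d n (n + 1) ≫ 𝟙 _
    rw [Category.id_comp, Category.comp_id]
  · change K.d n (n + 1) ≫ K.d (n + 1) (n + 1 + 1) = 0
    rw [K.d_comp_d]
  · intro p T y k h
    change y ≫ (FilD.grF A p).map (K.d n (n + 1)) + k ≫ (FilD.grF A p).map (𝟙 _) = 0 at h
    rw [CategoryTheory.Functor.map_id, Category.comp_id] at h
    refine ⟨T, 𝟙 T, inferInstance, y, ?_, ?_⟩
    · change 𝟙 T ≫ y = y ≫ (FilD.grF A p).map (𝟙 _)
      rw [Category.id_comp, CategoryTheory.Functor.map_id, Category.comp_id]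
    · change 𝟙 T ≫ k = -(y ≫ (FilD.grF A p).map (K.d n (n + 1)))
      rw [Category.id_comp]
      exact eq_neg_of_add_eq_zero_right h
  · intro p T w
    refine ⟨T, 𝟙 T, inferInstance, 0, w, ?_⟩
    change 𝟙 T ≫ w = 0 ≫ _ + w ≫ (FilD.grF A p).map (𝟙 _)
    rw [Category.id_comp, zero_comp, zero_add, CategoryTheory.Functor.map_id, Category.comp_id]

section Next

variable [EnoughInjectives A] {n : ℤ} (s : RStage K n)

lemma RStage.hm (P : ℤᵒᵖ) : Mono (s.e.hom.app P) := by
  have := s.e_mono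
  exact mono_app_of_mono s.e P.unop

lemma RStage.he : StrictEl s.e.hom := (isStrict_iff s.e).1 s.e_strict

/-- the next stage -/
noncomputable def RStage.next : RStage K (n + 1) where
  B := pushF s.e s.β s.hm s.he
  I := (main_S1081 (pushF s.e s.β s.hm s.he)).choose
  j := pushInr s.e s.β s.hm s.he
  e := (main_S1081 (pushF s.e s.β s.hm s.he)).choose_spec.choose
  β := pushDesc s.e s.β s.hm s.he 0 (K.d (n + 1) (n + 1 + 1)) (by rw [comp_zero, s.βd])
  hI := (main_S1081 (pushF s.e s.β s.hm s.he)).choose_spec.choose_spec.1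
  j_mono := inferInstance
  j_strict := isStrict_pushInr s.e s.β s.hm s.he
  e_mono := (main_S1081 (pushF s.e s.β s.hm s.he)).choose_spec.choose_spec.2.1
  e_strict := (main_S1081 (pushF s.e s.β s.hm s.he)).choose_spec.choose_spec.2.2
  jβ := pushInr_desc s.e s.β s.hm s.he 0 (K.d (n + 1) (n + 1 + 1)) (by rw [comp_zero, s.βd])
  βd := by
    apply push_hom_ext
    · rw [← Category.assoc, pushInl_desc, zero_comp, comp_zero]
    · rw [← Category.assoc, pushInr_desc, K.d_comp_d, comp_zero]

lemma RStage.next_rel : RRel s s.next := by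
  refine ⟨pushInl s.e s.β s.hm s.he, push_sq _ _ _ _,
    pushInl_desc s.e s.β s.hm s.he 0 (K.d (n + 1) (n + 1 + 1)) (by rw [comp_zero, s.βd]), ?_, ?_⟩
  · intro p T y k h
    exact push_X s.e s.β s.hm s.he p y k h
  · intro p T w
    exact push_E s.e s.β s.hm s.he p w

end Next

section Seq

variable [EnoughInjectives A] (K) (a : ℤ) [K.IsStrictlyGE a]

/-- the stages in degrees below `a` -/
noncomputable def zeroStage (n : ℤ) (hn : n < a) : RStage K n :=
  initStage n (K.X n) (𝟙 _) (isFilteredInjective_of_isZero _ (K.isZero_of_isStrictlyGE a n hn))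
    inferInstance (isStrict_id _)

/-- the stage in degree `a` -/
noncomputable def baseStage : RStage K a :=
  initStage a (main_S1081 (K.X a)).choose (main_S1081 (K.X a)).choose_spec.choose
    (main_S1081 (K.X a)).choose_spec.choose_spec.1
    (main_S1081 (K.X a)).choose_spec.choose_spec.2.1
    (main_S1081 (K.X a)).choose_spec.choose_spec.2.2

/-- all the stages -/
noncomputable def rst (n : ℤ) : RStage K n :=
  Int.inductionOn' (motive := fun n => RStage K n) n a (baseStage K a)
    (fun _ _ s => s.next) (fun k hk _ => zeroStage K a (k - 1) (by omega))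

lemma rst_self : rst K a a = baseStage K a := by
  unfold rst
  rw [Int.inductionOn'_self]

lemma rst_succ (n : ℤ) (hn : a ≤ n) : rst K a (n + 1) = (rst K a n).next := by
  unfold rst
  rw [Int.inductionOn'_add_one hn]

lemma rst_of_lt (n : ℤ) (hn : n < a) : rst K a n = zeroStage K a n hn := by
  obtain ⟨z, rfl⟩ : ∃ z, n = z - 1 := ⟨n + 1, by omega⟩
  unfold rst
  rw [Int.inductionOn'_sub_one (by omega)]

lemma rst_rel (n : ℤ) : RRel (rst K a n) (rst K a (n + 1)) := by
  by_cases hn : a ≤ n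
  · rw [rst_succ K a n hn]
    exact RStage.next_rel _
  · by_cases hn' : n + 1 < a
    · rw [rst_of_lt K a n (by omega), rst_of_lt K a (n + 1) hn']
      exact rrel_init n _ _ _ _ _ _
    · obtain rfl : a = n + 1 := by omega
      rw [rst_of_lt K (n + 1) n (by omega), rst_self]
      exact rrel_init n _ _ _ _ _ _

end Seq

section Assemble

variable [EnoughInjectives A] (K) (a : ℤ) [K.IsStrictlyGE a]

/-- the connecting maps -/
noncomputable def rδ (n : ℤ) : (rst K a n).I ⟶ (rst K a (n + 1)).B := (rst_rel K a n).choose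

lemma rδ_sq (n : ℤ) : (rst K a n).e ≫ rδ K a n = (rst K a n).β ≫ (rst K a (n + 1)).j :=
  (rst_rel K a n).choose_spec.1

lemma rδ_β (n : ℤ) : rδ K a n ≫ (rst K a (n + 1)).β = 0 :=
  (rst_rel K a n).choose_spec.2.1

lemma rδ_X (n p : ℤ) (T : A) (y : T ⟶ (FilD.grF A p).obj (rst K a n).I)
    (k : T ⟶ (FilD.grF A p).obj (K.X (n + 1)))
    (h : y ≫ (FilD.grF A p).map (rδ K a n) + k ≫ (FilD.grF A p).map (rst K a (n + 1)).j = 0) :
    ∃ (T' : A) (π : T' ⟶ T) (_ : Epi π) (b : T' ⟶ (FilD.grF A p).obj (rst K a n).B),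
      π ≫ y = b ≫ (FilD.grF A p).map (rst K a n).e ∧
        π ≫ k = -(b ≫ (FilD.grF A p).map (rst K a n).β) :=
  (rst_rel K a n).choose_spec.2.2.1 p T y k h

lemma rδ_E (n p : ℤ) (T : A) (w : T ⟶ (FilD.grF A p).obj (rst K a (n + 1)).B) :
    ∃ (T' : A) (π : T' ⟶ T) (_ : Epi π) (y : T' ⟶ (FilD.grF A p).obj (rst K a n).I)
      (k : T' ⟶ (FilD.grF A p).obj (K.X (n + 1))),
      π ≫ w = y ≫ (FilD.grF A p).map (rδ K a n) +
        k ≫ (FilD.grF A p).map (rst K a (n + 1)).j :=
  (rst_rel K a n).choose_spec.2.2.2 p T w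

/-- the differential of the resolution -/
noncomputable def rD (n : ℤ) : (rst K a n).I ⟶ (rst K a (n + 1)).I :=
  rδ K a n ≫ (rst K a (n + 1)).e

lemma rD_sq (n : ℤ) : rD K a n ≫ rD K a (n + 1) = 0 := by
  unfold rD
  rw [Category.assoc, ← Category.assoc (rst K a (n + 1)).e, rδ_sq, Category.assoc,
    ← Category.assoc, ← Category.assoc, rδ_β, zero_comp, zero_comp]

/-- the resolution -/
noncomputable def rCx : CochainComplex (FilD.FilF A) ℤ :=
  CochainComplex.of (fun n => (rst K a n).I) (rD K a) (rD_sq K a)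

lemma rCx_d (n : ℤ) : (rCx K a).d n (n + 1) = rD K a n := by
  unfold rCx
  exact CochainComplex.of_d (fun n => (rst K a n).I) (rD K a) n

/-- the components of the comparison map -/
noncomputable def rφf (n : ℤ) : K.X n ⟶ (rst K a n).I := (rst K a n).j ≫ (rst K a n).e

lemma rφf_comm (n : ℤ) : rφf K a n ≫ rD K a n = K.d n (n + 1) ≫ rφf K a (n + 1) := by
  unfold rφf rD
  rw [Category.assoc, ← Category.assoc (rst K a n).e, rδ_sq, Category.assoc, ← Category.assoc,
    (rst K a n).jβ]

/-- the comparison map -/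
noncomputable def rφ : K ⟶ rCx K a :=
  CochainComplex.ofHom (fun n => rφf K a n) (fun n => by
    rw [rCx_d]
    exact rφf_comm K a n)

lemma rφ_f (n : ℤ) : (rφ K a).f n = rφf K a n := rfl

lemma isStrictlyGE_rCx : (rCx K a).IsStrictlyGE a := by
  rw [CochainComplex.isStrictlyGE_iff]
  intro i hi
  have h1 : (rCx K a).X i = (rst K a i).I := rfl
  rw [h1, rst_of_lt K a i hi]
  exact K.isZero_of_isStrictlyGE a i hi

lemma isFilteredQuasiIso_rφ : FilD.IsFilteredQuasiIso (rφ K a) := by
  intro p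
  refine absQis ((FilD.grCx p).map (rφ K a))
    (fun n => (FilD.grF A p).obj (rst K a n).B)
    (fun n => (FilD.grF A p).map (rst K a n).j)
    (fun n => (FilD.grF A p).map (rst K a n).e)
    (fun n => (FilD.grF A p).map (rst K a n).β)
    (fun n => (FilD.grF A p).map (rδ K a n)) ?_ ?_ ?_ ?_ ?_ ?_ ?_
  · intro n
    exact (FilD.grF A p).map_comp (rst K a n).j (rst K a n).e
  · intro n
    exact (congrArg (fun m => (FilD.grF A p).map m) (rCx_d K a n)).trans
      ((FilD.grF A p).map_comp (rδ K a n) (rst K a (n + 1)).e)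
  · intro n
    exact ((FilD.grF A p).map_comp (rst K a n).j (rst K a n).β).symm.trans
      (congrArg (fun m => (FilD.grF A p).map m) (rst K a n).jβ)
  · intro n
    exact ((FilD.grF A p).map_comp (rδ K a n) (rst K a (n + 1)).β).symm.trans
      ((congrArg (fun m => (FilD.grF A p).map m) (rδ_β K a n)).trans
        (CategoryTheory.Functor.map_zero _ _ _))
  · intro n
    have := (rst K a n).e_mono
    exact mono_grF_of_strict_mono (rst K a n).e (rst K a n).e_strict p
  · intro n T y k h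
    exact rδ_X K a n p T y k h
  · intro n T w
    exact rδ_E K a n p T w

/-- bounded below complexes of finite filtered objects have filtered injective resolutions -/
theorem main_S1082 :
    ∃ (I : CochainComplex (FilD.FilF A) ℤ) (φ : K ⟶ I), I.IsStrictlyGE a ∧
      (∀ n, FilD.IsFilteredInjective (I.X n)) ∧
      FilD.IsFilteredQuasiIso φ ∧ ∀ n, Mono (φ.f n) ∧ FilD.IsStrict (φ.f n) := by
  refine ⟨rCx K a, rφ K a, isStrictlyGE_rCx K a, fun n => (rst K a n).hI,
    isFilteredQuasiIso_rφ K a, fun n => ?_⟩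
  have h1 : Mono (rst K a n).j := (rst K a n).j_mono
  have h2 : Mono (rst K a n).e := (rst K a n).e_mono
  refine ⟨?_, ?_⟩
  · change Mono ((rst K a n).j ≫ (rst K a n).e)
    exact mono_comp _ _
  · change FilD.IsStrict ((rst K a n).j ≫ (rst K a n).e)
    exact isStrict_comp _ _ (rst K a n).j_strict (rst K a n).e_strict

end Assemble

end Groth.Agent.Helper3.Fil
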