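import Mathlib
/-!
# General lemmas on injectives, K-injectives and quasi-isomorphisms in short exact sequences
-/
set_option autoImplicit false
universe v u
open CategoryTheory CategoryTheory.Limits

namespace Groth.Agent.Helper3.FilRes1

variable {A : Type u} [Category.{v} A] [Abelian A]

/-- The cokernel of a monomorphism from an injective object to an injective object is
injective. -/
lemma injective_cokernel {X Y : A} (i : X ⟶ Y) [Mono i] [Injective X] [Injective Y] :
    Injective (cokernel i) := by
  let r : Y ⟶ X := Injective.factorThru (𝟙 X) i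
  have hr : i ≫ r = 𝟙 X := Injective.comp_factorThru (𝟙 X) i
  let s : cokernel i ⟶ Y := cokernel.desc i (𝟙 Y - r ≫ i) (by
    rw [Preadditive.comp_sub, Category.comp_id, ← Category.assoc, hr, Category.id_comp, sub_self])
  have hs : s ≫ cokernel.π i = 𝟙 _ := by
    rw [← cancel_epi (cokernel.π i), cokernel.π_desc_assoc, Preadditive.sub_comp, Category.id_comp,
      Category.assoc, cokernel.condition, comp_zero, sub_zero, Category.comp_id]
  exact Retract.injective ⟨s, cokernel.π i, hs⟩

/-- The kernel of a split epimorphism out of an injective object is injective. -/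
lemma injective_kernel_of_section {X Y : A} (p : X ⟶ Y) (s : Y ⟶ X) (hs : s ≫ p = 𝟙 Y)
    [Injective X] : Injective (kernel p) := by
  let r : X ⟶ kernel p := kernel.lift p (𝟙 X - p ≫ s) (by
    rw [Preadditive.sub_comp, Category.id_comp, Category.assoc, hs, Category.comp_id, sub_self])
  have hr : kernel.ι p ≫ r = 𝟙 _ := by
    rw [← cancel_mono (kernel.ι p), Category.assoc, kernel.lift_ι, Preadditive.comp_sub,
      Category.comp_id, kernel.condition_assoc, zero_comp, sub_zero, Category.id_comp]
  exact Retract.injective ⟨kernel.ι p, r, hr⟩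

section KInj

open HomologicalComplex

variable (S : ShortComplex (CochainComplex A ℤ))
  (σ : ∀ n, (S.map (HomologicalComplex.eval A _ n)).Splitting)

include σ in
lemma distinguished_of_degreewiseSplit :
    CochainComplex.trianglehOfDegreewiseSplit S σ ∈
      distTriang (HomotopyCategory A (ComplexShape.up ℤ)) :=
  (HomotopyCategory.distinguished_iff_iso_trianglehOfDegreewiseSplit _).2 ⟨S, σ, ⟨Iso.refl _⟩⟩

include σ in
/-- the first term of a degreewise split short exact sequence of complexes is K-injective if
the other two are -/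
lemma isKInjective_X₁ [S.X₂.IsKInjective] [S.X₃.IsKInjective] : S.X₁.IsKInjective := by
  rw [CochainComplex.isKInjective_iff_rightOrthogonal]
  exact (HomotopyCategory.subcategoryAcyclic A).rightOrthogonal.ext_of_isTriangulatedClosed₁ _
    (distinguished_of_degreewiseSplit S σ) (CochainComplex.IsKInjective.rightOrthogonal S.X₂)
    (CochainComplex.IsKInjective.rightOrthogonal S.X₃)

include σ in
/-- the third term of a degreewise split short exact sequence of complexes is K-injective if
the other two are -/
lemma isKInjective_X₃ [S.X₁.IsKInjective] [S.X₂.IsKInjective] : S.X₃.IsKInjective := by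
  rw [CochainComplex.isKInjective_iff_rightOrthogonal]
  exact (HomotopyCategory.subcategoryAcyclic A).rightOrthogonal.ext_of_isTriangulatedClosed₃ _
    (distinguished_of_degreewiseSplit S σ) (CochainComplex.IsKInjective.rightOrthogonal S.X₁)
    (CochainComplex.IsKInjective.rightOrthogonal S.X₂)

end KInj

section Coker

variable {X Y : CochainComplex A ℤ}

/-- the short exact sequence of a monomorphism and its cokernel -/
noncomputable abbrev cokerSC (i : X ⟶ Y) : ShortComplex (CochainComplex A ℤ) :=
  ShortComplex.mk i (cokernel.π i) (cokernel.condition i)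

lemma cokerSC_shortExact (i : X ⟶ Y) [Mono i] : (cokerSC i).ShortExact where
  exact := ShortComplex.exact_cokernel i

/-- the short exact sequence of an epimorphism and its kernel -/
noncomputable abbrev kerSC (p : X ⟶ Y) : ShortComplex (CochainComplex A ℤ) :=
  ShortComplex.mk (kernel.ι p) p (kernel.condition p)

lemma kerSC_shortExact (p : X ⟶ Y) [Epi p] : (kerSC p).ShortExact where
  exact := ShortComplex.exact_kernel p

/-- degreewise splittings from injectivity of the terms of the sub-complex -/
noncomputable def splittingOfInjective (S : ShortComplex (CochainComplex A ℤ)) (hS : S.ShortExact)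
    (hX : ∀ n, Injective (S.X₁.X n)) (n : ℤ) : (S.map (HomologicalComplex.eval A _ n)).Splitting := by
  have h := hS.map_of_exact (HomologicalComplex.eval A (ComplexShape.up ℤ) n)
  haveI := h.mono_f
  haveI := h.epi_g
  haveI : Injective (S.map (HomologicalComplex.eval A (ComplexShape.up ℤ) n)).X₁ := hX n
  exact ShortComplex.Splitting.ofExactOfRetraction _ h.exact
    (Injective.factorThru (𝟙 _) (S.map (HomologicalComplex.eval A (ComplexShape.up ℤ) n)).f)
    (Injective.comp_factorThru _ _) inferInstance

/-- degreewise splittings from degreewise sections -/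
noncomputable def splittingOfSection (S : ShortComplex (CochainComplex A ℤ)) (hS : S.ShortExact)
    (s : ∀ n, S.X₃.X n ⟶ S.X₂.X n) (hs : ∀ n, s n ≫ S.g.f n = 𝟙 _) (n : ℤ) :
    (S.map (HomologicalComplex.eval A _ n)).Splitting := by
  have h := hS.map_of_exact (HomologicalComplex.eval A (ComplexShape.up ℤ) n)
  haveI := h.mono_f
  exact ShortComplex.Splitting.ofExactOfSection _ h.exact (s n) (hs n) inferInstance

lemma isKInjective_cokernel (i : X ⟶ Y) [Mono i] (hX : ∀ n, Injective (X.X n))
    [X.IsKInjective] [Y.IsKInjective] : (cokernel i).IsKInjective :=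
  isKInjective_X₃ (cokerSC i) (splittingOfInjective _ (cokerSC_shortExact i) hX)

lemma isKInjective_kernel (p : X ⟶ Y) [Epi p] (s : ∀ n, Y.X n ⟶ X.X n)
    (hs : ∀ n, s n ≫ p.f n = 𝟙 _) [X.IsKInjective] [Y.IsKInjective] :
    (kernel p).IsKInjective :=
  isKInjective_X₁ (kerSC p) (splittingOfSection _ (kerSC_shortExact p) s hs)

end Coker

section Tau1

open HomologicalComplex.HomologySequence ComposableArrows

variable {S₁ S₂ : ShortComplex (CochainComplex A ℤ)} (φ : S₁ ⟶ S₂)
  (hS₁ : S₁.ShortExact) (hS₂ : S₂.ShortExact)

include hS₁ hS₂ in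
lemma quasiIso_τ₁ (h₂ : QuasiIso φ.τ₂) (h₃ : QuasiIso φ.τ₃) : QuasiIso φ.τ₁ := by
  rw [quasiIso_iff]
  intro j
  rw [quasiIsoAt_iff_isIso_homologyMap]
  have hij : (ComplexShape.up ℤ).Rel (j - 1) j := by simp
  let ψ := δ₀Functor.map (mapComposableArrows₅ φ hS₁ hS₂ (j - 1) j hij)
  have e₁ : (δ₀Functor.obj (composableArrows₅ hS₁ (j - 1) j hij)).Exact :=
    (composableArrows₅_exact hS₁ (j - 1) j hij).δ₀
  have e₂ : (δ₀Functor.obj (composableArrows₅ hS₂ (j - 1) j hij)).Exact :=
    (composableArrows₅_exact hS₂ (j - 1) j hij).δ₀
  have h0 : IsIso (HomologicalComplex.homologyMap φ.τ₂ (j - 1)) := inferInstance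
  have h1 : IsIso (HomologicalComplex.homologyMap φ.τ₃ (j - 1)) := inferInstance
  have h3 : IsIso (HomologicalComplex.homologyMap φ.τ₂ j) := inferInstance
  have h4 : IsIso (HomologicalComplex.homologyMap φ.τ₃ j) := inferInstance
  exact Abelian.isIso_of_epi_of_isIso_of_isIso_of_mono e₁ e₂ ψ
    (by change Epi (HomologicalComplex.homologyMap φ.τ₂ (j - 1)); infer_instance)
    (by change IsIso (HomologicalComplex.homologyMap φ.τ₃ (j - 1)); infer_instance)
    (by change IsIso (HomologicalComplex.homologyMap φ.τ₂ j); infer_instance)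
    (by change Mono (HomologicalComplex.homologyMap φ.τ₃ j); infer_instance)

end Tau1

end Groth.Agent.Helper3.FilRes1
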