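import Mathlib
/-!
# Functor categories with values in a Grothendieck abelian category: evaluation, its exact left
adjoint, and the transition maps of injective objects
-/
set_option autoImplicit false
universe w v u
open CategoryTheory CategoryTheory.Limits

namespace Groth.Agent.Helper3.FilRes2

section Groth

variable {A : Type u} [Category.{v} A] [Abelian A] [IsGrothendieckAbelian.{v} A]
variable (C : Type v) [SmallCategory C]

noncomputable instance hasSheafifyBot : HasSheafify (⊥ : GrothendieckTopology C) A := by
  have h1 : (sheafToPresheaf (⊥ : GrothendieckTopology C) A).IsEquivalence :=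
    inferInstanceAs (sheafBotEquivalence A (C := C)).functor.IsEquivalence
  have h2 : (sheafToPresheaf (⊥ : GrothendieckTopology C) A).IsRightAdjoint := inferInstance
  exact HasSheafify.mk' _ _ (Adjunction.ofIsRightAdjoint _)

instance isGrothendieckAbelian_functor : IsGrothendieckAbelian.{v} (Cᵒᵖ ⥤ A) :=
  IsGrothendieckAbelian.of_equivalence (sheafBotEquivalence A (C := C))

end Groth

section Eval

variable {A : Type u} [Category.{v} A] [Abelian A] [HasCoproducts.{v} A] [AB4OfSize.{v} A]
variable {C : Type v} [SmallCategory C]

/-- the left adjoint of evaluation at `c` -/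
noncomputable abbrev L (c : C) : A ⥤ C ⥤ A := evaluationLeftAdjoint A c

/-- the adjunction -/
noncomputable abbrev adjL (c : C) : L (A := A) c ⊣ (evaluation C A).obj c :=
  evaluationAdjunctionRight A c

instance (c : C) : (L (A := A) c).Additive := (adjL c).left_adjoint_additive

instance (c : C) : ((evaluation C A).obj c).Additive where

lemma mono_sigmaDesc {α : Type v} {X Y : A} (f : X ⟶ Y) [Mono f] :
    Mono (Sigma.desc fun a : α => f ≫ Sigma.ι (fun _ : α => Y) a) := by
  have h : (Sigma.desc fun a : α => f ≫ Sigma.ι (fun _ : α => Y) a) =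
      colim.map (Discrete.natTrans (F := Discrete.functor fun _ : α => X)
        (G := Discrete.functor fun _ : α => Y) fun _ => f) := by
    apply Sigma.hom_ext
    intro a
    simp
  rw [h]
  haveI : ∀ a : Discrete α, Mono ((Discrete.natTrans (F := Discrete.functor fun _ : α => X)
      (G := Discrete.functor fun _ : α => Y) fun _ => f).app a) := fun a => by
    dsimp
    infer_instance
  haveI : Mono (Discrete.natTrans (F := Discrete.functor fun _ : α => X)
      (G := Discrete.functor fun _ : α => Y) fun _ => f) := NatTrans.mono_of_mono_app _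
  infer_instance

instance preservesMono_L (c : C) : (L (A := A) c).PreservesMonomorphisms where
  preserves {X Y} f hf := by
    haveI : ∀ t : C, Mono (((L (A := A) c).map f).app t) := fun t => mono_sigmaDesc f
    exact NatTrans.mono_of_mono_app _

instance preservesFiniteLimits_L (c : C) : PreservesFiniteLimits (L (A := A) c) := by
  haveI : PreservesColimitsOfSize.{0, 0} (L (A := A) c) := (adjL c).leftAdjoint_preservesColimits
  haveI : PreservesFiniteColimits (L (A := A) c) :=
    PreservesColimitsOfSize.preservesFiniteColimits _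
  have h0 : PreservesFiniteColimits (L (A := A) c) := inferInstance
  have h1 : ∀ (S : ShortComplex A), S.ShortExact →
      (S.map (L (A := A) c)).Exact ∧ Epi ((L (A := A) c).map S.g) :=
    ((Functor.preservesFiniteColimits_tfae (L (A := A) c)).out 3 0).1 h0
  have h2 : ∀ (S : ShortComplex A), S.ShortExact →
      (S.map (L (A := A) c)).Exact ∧ Mono ((L (A := A) c).map S.f) := fun S hS =>
    ⟨(h1 S hS).1, by haveI := hS.mono_f; infer_instance⟩
  exact ((Functor.preservesFiniteLimits_tfae (L (A := A) c)).out 0 3).1 h2

instance preservesFiniteColimits_L (c : C) : PreservesFiniteColimits (L (A := A) c) := by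
  haveI : PreservesColimitsOfSize.{0, 0} (L (A := A) c) := (adjL c).leftAdjoint_preservesColimits
  exact PreservesColimitsOfSize.preservesFiniteColimits _

lemma injective_eval (c : C) (M : C ⥤ A) [Injective M] : Injective (M.obj c) :=
  (adjL c).map_injective M inferInstance

set_option backward.isDefEq.respectTransparency false in
/-- reindexing a constant coproduct along an injective map is a (split) monomorphism -/
lemma mono_sigmaReindex {α β : Type v} (φ : α → β) (hφ : Function.Injective φ) (N : A) :
    Mono (Sigma.desc fun a : α => Sigma.ι (fun _ : β => N) (φ a)) := by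
  classical
  let r : (∐ fun _ : β => N) ⟶ ∐ fun _ : α => N :=
    Sigma.desc fun b => if h : ∃ a, φ a = b then Sigma.ι (fun _ : α => N) h.choose else 0
  have hr : (Sigma.desc fun a : α => Sigma.ι (fun _ : β => N) (φ a)) ≫ r = 𝟙 _ := by
    apply Sigma.hom_ext
    intro a
    have h : ∃ a', φ a' = φ a := ⟨a, rfl⟩
    have ha : h.choose = a := hφ h.choose_spec
    simp only [r, colimit.ι_desc_assoc, Cofan.mk_ι_app, colimit.ι_desc, dif_pos h,
      Category.comp_id, Discrete.functor_obj_eq_as, Cofan.mk_pt]
    rw [ha]
  exact mono_of_mono_fac hr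

set_option backward.isDefEq.respectTransparency false in
/-- the map `L j N ⟶ L i N` induced by `f : i ⟶ j` -/
noncomputable def lam {i j : C} (f : i ⟶ j) (N : A) : (L (A := A) j).obj N ⟶ (L (A := A) i).obj N where
  app t := Sigma.desc fun h : j ⟶ t => Sigma.ι (fun _ : i ⟶ t => N) (f ≫ h)
  naturality t t' g := by
    apply Sigma.hom_ext
    intro h
    simp

lemma mono_lam {i j : C} (f : i ⟶ j) (hf : ∀ t, Function.Injective fun h : j ⟶ t => f ≫ h)
    (N : A) : Mono (lam f N) := by
  haveI : ∀ t : C, Mono ((lam f N).app t) := fun t => mono_sigmaReindex _ (hf t) N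
  exact NatTrans.mono_of_mono_app _

set_option backward.isDefEq.respectTransparency false in
/-- the counit-like map `L j (M j) ⟶ M` -/
noncomputable def eps (M : C ⥤ A) (j : C) : (L (A := A) j).obj (M.obj j) ⟶ M where
  app t := Sigma.desc fun h : j ⟶ t => M.map h
  naturality t t' g := by
    apply Sigma.hom_ext
    intro h
    simp

set_option backward.isDefEq.respectTransparency false in
/-- the transition maps of an injective object of a functor category are split epimorphisms -/
theorem exists_section_of_injective (M : C ⥤ A) [Injective M] {i j : C} (f : i ⟶ j)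
    (hf : ∀ t, Function.Injective fun h : j ⟶ t => f ≫ h) :
    ∃ s : M.obj j ⟶ M.obj i, s ≫ M.map f = 𝟙 _ := by
  haveI := mono_lam f hf (M.obj j)
  let g' : (L (A := A) i).obj (M.obj j) ⟶ M := Injective.factorThru (eps M j) (lam f (M.obj j))
  have hg' : lam f (M.obj j) ≫ g' = eps M j := Injective.comp_factorThru (eps M j) (lam f (M.obj j))
  refine ⟨Sigma.ι (fun _ : i ⟶ i => M.obj j) (𝟙 i) ≫ g'.app i, ?_⟩
  have h1 : Sigma.ι (fun _ : i ⟶ i => M.obj j) (𝟙 i) ≫ ((L (A := A) i).obj (M.obj j)).map f =
      Sigma.ι (fun _ : i ⟶ j => M.obj j) f := by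
    simp
  have h2 : Sigma.ι (fun _ : j ⟶ j => M.obj j) (𝟙 j) ≫ (lam f (M.obj j)).app j =
      Sigma.ι (fun _ : i ⟶ j => M.obj j) f := by
    simp [lam]
  have h3 : (lam f (M.obj j)).app j ≫ g'.app j = (eps M j).app j := by
    rw [← NatTrans.comp_app, hg']
  have h4 : Sigma.ι (fun _ : j ⟶ j => M.obj j) (𝟙 j) ≫ (eps M j).app j = 𝟙 _ := by
    simp [eps]
  have h5 : g'.app i ≫ M.map f = ((L (A := A) i).obj (M.obj j)).map f ≫ g'.app j :=
    (g'.naturality f).symm
  rw [Category.assoc, h5, ← Category.assoc, h1, ← h2, Category.assoc, h3, h4]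

end Eval

end Groth.Agent.Helper3.FilRes2
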