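import Mathlib
import Groth.Agent.Lib.Helper3.FilRes1b
import Groth.Agent.Lib.Helper3.FilRes2
/-!
# Complexes in a functor category and their evaluations
-/
set_option autoImplicit false
universe w v u
open CategoryTheory CategoryTheory.Limits

namespace Groth.Agent.Helper3.FilRes2

section Cx

variable {A : Type u} [Category.{v} A] [Abelian A]
variable {C : Type w} [Category.{w} C]

/-- a functor to complexes as a complex of functors -/
def cxOfFunctor (Q : C ⥤ CochainComplex A ℤ) : CochainComplex (C ⥤ A) ℤ where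
  X n := Q ⋙ HomologicalComplex.eval A (ComplexShape.up ℤ) n
  d n m :=
    { app := fun t => (Q.obj t).d n m
      naturality := fun t t' g => (Q.map g).comm n m }
  shape n m h := by
    ext t
    exact (Q.obj t).shape n m h
  d_comp_d' n m k _ _ := by
    ext t
    exact (Q.obj t).d_comp_d n m k

/-- evaluation of complexes of functors -/
noncomputable abbrev evC (t : C) : CochainComplex (C ⥤ A) ℤ ⥤ CochainComplex A ℤ :=
  ((evaluation C A).obj t).mapHomologicalComplex (ComplexShape.up ℤ)

/-- the transition maps of the evaluations -/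
noncomputable abbrev evCmap {t t' : C} (g : t ⟶ t') : evC (A := A) t ⟶ evC (A := A) t' :=
  NatTrans.mapHomologicalComplex ((evaluation C A).map g) (ComplexShape.up ℤ)

/-- evaluating `cxOfFunctor Q` gives back `Q` -/
noncomputable def evCIso (Q : C ⥤ CochainComplex A ℤ) (t : C) :
    (evC t).obj (cxOfFunctor Q) ≅ Q.obj t :=
  HomologicalComplex.Hom.isoOfComponents (fun n => Iso.refl _) (by
    intro n m _
    change 𝟙 _ ≫ (Q.obj t).d n m = (Q.obj t).d n m ≫ 𝟙 _
    rw [Category.id_comp, Category.comp_id])

lemma evCIso_hom_f (Q : C ⥤ CochainComplex A ℤ) (t : C) (n : ℤ) :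
    (evCIso Q t).hom.f n = 𝟙 _ := rfl

lemma evCIso_naturality (Q : C ⥤ CochainComplex A ℤ) {t t' : C} (g : t ⟶ t') :
    (evCIso Q t).hom ≫ Q.map g = (evCmap g).app (cxOfFunctor Q) ≫ (evCIso Q t').hom := by
  ext n
  change 𝟙 _ ≫ (Q.map g).f n = (Q.map g).f n ≫ 𝟙 _
  rw [Category.id_comp, Category.comp_id]

end Cx

section KInj

variable {A : Type u} [Category.{v} A] [Abelian A] [HasCoproducts.{v} A] [AB4OfSize.{v} A]
variable {C : Type v} [SmallCategory C]

lemma isKInjective_evC (t : C) (I : CochainComplex (C ⥤ A) ℤ) [I.IsKInjective] :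
    ((evC t).obj I).IsKInjective :=
  FilRes1b.isKInjective_map_of_adj ((evaluation C A).obj t) (L (A := A) t) (adjL t) I inferInstance

lemma quasiIso_evC (t : C) {I I' : CochainComplex (C ⥤ A) ℤ} (φ : I ⟶ I') [QuasiIso φ] :
    QuasiIso ((evC t).map φ) := by
  infer_instance

end KInj

end Groth.Agent.Helper3.FilRes2
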