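import Mathlib
import Groth.Prelude.Def_SpSeq
import Groth.Agent.Lib.Helper3.FilRes1
import Groth.Agent.Lib.Helper6.FilObj.Basic
/-!
# Filtered K-injective resolutions: the assembly step
-/
set_option autoImplicit false
universe v u
open CategoryTheory CategoryTheory.Limits

namespace Groth.Agent.Helper3.FilRes3

open Groth.Agent.Helper3.FilRes1

variable {A : Type u} [Category.{v} A] [Abelian A] (K : SpSeq.FilCx A)
  (Jt : CochainComplex A ℤ) (G : ℤ → Subobject Jt) (hG : Antitone G)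

/-- the filtered complex -/
abbrev J : SpSeq.FilCx A := ⟨Jt, G, hG⟩

variable (a : K.obj ⟶ Jt) (hfac : ∀ p, (G p).Factors ((K.fil p).arrow ≫ a))

/-- the morphism of filtered complexes -/
def j : K ⟶ J Jt G hG :=
  ⟨a, fun p => (Groth.Agent.Helper6.FilObjLib.le_pullback_iff a (K.fil p) (G p)).2 (hfac p)⟩

/-- the induced maps on the steps -/
noncomputable def jp (p : ℤ) : K.step p ⟶ (J Jt G hG).step p := (G p).factorThru _ (hfac p)

lemma jp_arrow (p : ℤ) : jp K Jt G hG a hfac p ≫ (G p).arrow = (K.fil p).arrow ≫ a :=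
  Subobject.factorThru_arrow _ _ _

lemma jp_stepLE {p p' : ℤ} (h : p ≤ p') :
    jp K Jt G hG a hfac p' ≫ (J Jt G hG).stepLE h = K.stepLE h ≫ jp K Jt G hG a hfac p := by
  have e1 : (J Jt G hG).stepLE h ≫ (G p).arrow = (G p').arrow := Subobject.ofLE_arrow _
  have e2 : K.stepLE h ≫ (K.fil p).arrow = (K.fil p').arrow := Subobject.ofLE_arrow _
  apply (cancel_mono (G p).arrow).1
  rw [Category.assoc, Category.assoc, jp_arrow, e1, reassoc_of% e2]
  exact jp_arrow K Jt G hG a hfac p'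

/-- the induced maps on the quotients -/
noncomputable def jq (p : ℤ) : K.quot p ⟶ (J Jt G hG).quot p :=
  cokernel.map (K.fil p).arrow (G p).arrow (jp K Jt G hG a hfac p) a (jp_arrow K Jt G hG a hfac p).symm

theorem main (h1 : ∀ n, Injective (Jt.X n))
    (h2 : ∀ p n, Injective ((G p : CochainComplex A ℤ).X n))
    (h3 : Jt.IsKInjective) (h4 : ∀ p, (G p : CochainComplex A ℤ).IsKInjective)
    (ha : QuasiIso a) (hq : ∀ p, QuasiIso (jq K Jt G hG a hfac p)) :
    ∃ (J : SpSeq.FilCx A) (j : K ⟶ J),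
      (∀ n p : ℤ, Injective (J.obj.X n) ∧ Injective ((J.XFil n).step p) ∧ Injective ((J.XFil n).quot p) ∧
        ∀ (p' : ℤ) (h : p ≤ p'), Injective (cokernel ((J.XFil n).stepLE h))) ∧
      (CochainComplex.IsKInjective J.obj ∧ ∀ p : ℤ, CochainComplex.IsKInjective (J.step p) ∧
        CochainComplex.IsKInjective (J.quot p) ∧
        ∀ (p' : ℤ) (h : p ≤ p'), CochainComplex.IsKInjective (cokernel (J.stepLE h))) ∧
      QuasiIso j.hom ∧
      (∀ p : ℤ, ∃ jp : K.step p ⟶ J.step p, jp ≫ (J.fil p).arrow = (K.fil p).arrow ≫ j.hom ∧ QuasiIso jp ∧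
        (∀ (p' : ℤ) (h : p ≤ p'), ∃ (jp' : K.step p' ⟶ J.step p') (jg : cokernel (K.stepLE h) ⟶ cokernel (J.stepLE h)),
          jp' ≫ (J.fil p').arrow = (K.fil p').arrow ≫ j.hom ∧ jp' ≫ J.stepLE h = K.stepLE h ≫ jp ∧
          cokernel.π (K.stepLE h) ≫ jg = jp ≫ cokernel.π (J.stepLE h) ∧ QuasiIso jg)) ∧
      (∀ p : ℤ, ∃ jq : K.quot p ⟶ J.quot p,
        cokernel.π (K.fil p).arrow ≫ jq = j.hom ≫ cokernel.π (J.fil p).arrow ∧ QuasiIso jq) := by
  have hstep : ∀ n p : ℤ, Injective (((J Jt G hG).XFil n).step p) := by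
    intro n p
    exact Injective.of_iso (Subobject.underlyingIso (((J Jt G hG).fil p).arrow.f n)).symm (h2 p n)
  have hjp : ∀ p, QuasiIso (jp K Jt G hG a hfac p) := by
    intro p
    let φ : cokerSC (K.fil p).arrow ⟶ cokerSC (G p).arrow :=
      { τ₁ := jp K Jt G hG a hfac p
        τ₂ := a
        τ₃ := jq K Jt G hG a hfac p
        comm₁₂ := jp_arrow K Jt G hG a hfac p
        comm₂₃ := by simp [jq] }
    exact quasiIso_τ₁ φ (cokerSC_shortExact _) (cokerSC_shortExact _) ha (hq p)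
  refine ⟨J Jt G hG, j K Jt G hG a hfac, ?_, ?_, ha, ?_, ?_⟩
  · intro n p
    haveI := hstep n p
    haveI : Injective (((J Jt G hG).XFil n).obj) := h1 n
    refine ⟨h1 n, hstep n p, ?_, ?_⟩
    · exact injective_cokernel _
    · intro p' h
      haveI := hstep n p'
      exact injective_cokernel _
  · refine ⟨h3, fun p => ?_⟩
    haveI := h3
    haveI := h4 p
    refine ⟨h4 p, ?_, ?_⟩
    · exact isKInjective_cokernel (G p).arrow (h2 p)
    · intro p' h
      haveI : ((J Jt G hG).step p').IsKInjective := h4 p'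
      haveI : ((J Jt G hG).step p).IsKInjective := h4 p
      exact isKInjective_cokernel ((J Jt G hG).stepLE h) (h2 p')
  · intro p
    refine ⟨jp K Jt G hG a hfac p, jp_arrow K Jt G hG a hfac p, hjp p, ?_⟩
    intro p' h
    refine ⟨jp K Jt G hG a hfac p', cokernel.map _ _ (jp K Jt G hG a hfac p') (jp K Jt G hG a hfac p)
      (jp_stepLE K Jt G hG a hfac h).symm, jp_arrow K Jt G hG a hfac p', jp_stepLE K Jt G hG a hfac h,
      by simp, ?_⟩
    let φ : cokerSC (K.stepLE h) ⟶ cokerSC ((J Jt G hG).stepLE h) :=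
      { τ₁ := jp K Jt G hG a hfac p'
        τ₂ := jp K Jt G hG a hfac p
        τ₃ := cokernel.map _ _ (jp K Jt G hG a hfac p') (jp K Jt G hG a hfac p)
          (jp_stepLE K Jt G hG a hfac h).symm
        comm₁₂ := jp_stepLE K Jt G hG a hfac h
        comm₂₃ := by simp }
    exact HomologicalComplex.HomologySequence.quasiIso_τ₃ φ (cokerSC_shortExact _)
      (cokerSC_shortExact _) (hjp p') (hjp p)
  · intro p
    exact ⟨jq K Jt G hG a hfac p, by simp [jq, j, J], hq p⟩

end Groth.Agent.Helper3.FilRes3
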