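import Mathlib
import Groth.Prelude.Def_SpSeq
import Groth.Agent.Lib.Helper3.FilRes2b
import Groth.Agent.Lib.Helper3.FilRes3
import Groth.Agent.Lib.Helper3.KInjD
/-!
# Filtered K-injective resolutions in a Grothendieck abelian category
-/
set_option autoImplicit false
universe v u
open CategoryTheory CategoryTheory.Limits Opposite

namespace Groth.Agent.Helper3.FilRes4

open Groth.Agent.Helper3.FilRes1 Groth.Agent.Helper3.FilRes2

/-- the index preorder `ℤ ∪ {⊤}`, in universe `v` -/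
abbrev Idx : Type v := WithTop (ULift.{v} ℤ)

/-- the embedding of `ℤ` -/
def e (p : ℤ) : Idx.{v} := ((ULift.up p : ULift.{v} ℤ) : WithTop (ULift.{v} ℤ))

lemma e_le_e {p p' : ℤ} (h : p ≤ p') : e.{v} p ≤ e.{v} p' :=
  WithTop.coe_le_coe.2 (ULift.up_le.2 h)

variable {A : Type u} [Category.{v} A] [Abelian A]

section Q

variable (K : SpSeq.FilCx A)

/-- the filtration extended by `F^⊤ = 0` -/
noncomputable def filExt (x : Idx.{v}) : Subobject K.obj :=
  Option.elim x ⊥ (fun q => K.fil q.down)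

lemma filExt_top : filExt K (⊤ : Idx.{v}) = ⊥ := rfl

lemma filExt_e (p : ℤ) : filExt K (e.{v} p) = K.fil p := rfl

lemma filExt_anti : Antitone (filExt.{v} K) := by
  intro x y hxy
  induction y using WithTop.recTopCoe with
  | top => exact bot_le
  | coe q =>
    induction x using WithTop.recTopCoe with
    | top => exact absurd hxy (by simp)
    | coe q' =>
      exact K.anti (ULift.down_le.2 (WithTop.coe_le_coe.1 hxy))

/-- the transition maps of the quotients -/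
noncomputable def qMap {x y : Idx.{v}} (h : x ≤ y) :
    cokernel (filExt K y).arrow ⟶ cokernel (filExt K x).arrow :=
  cokernel.desc _ (cokernel.π (filExt K x).arrow) (by
    rw [← Subobject.ofLE_arrow (filExt_anti K h), Category.assoc, cokernel.condition, comp_zero])

@[reassoc (attr := simp)]
lemma π_qMap {x y : Idx.{v}} (h : x ≤ y) :
    cokernel.π (filExt K y).arrow ≫ qMap K h = cokernel.π (filExt K x).arrow :=
  cokernel.π_desc _ _ _

/-- the system of quotients `K / F^x K` -/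
noncomputable def Q : Idx.{v}ᵒᵖ ⥤ CochainComplex A ℤ where
  obj x := cokernel (filExt K x.unop).arrow
  map {x y} f := qMap K (leOfHom f.unop)
  map_id x := by
    rw [← cancel_epi (cokernel.π _), π_qMap, Category.comp_id]
  map_comp f g := by
    rw [← cancel_epi (cokernel.π _), π_qMap, π_qMap_assoc, π_qMap]

end Q

section Res

variable [IsGrothendieckAbelian.{v} A]

/-- the top index -/
abbrev tInf : Idx.{v}ᵒᵖ := op ⊤

/-- the finite indices -/
abbrev tp (p : ℤ) : Idx.{v}ᵒᵖ := op (e.{v} p)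

/-- the map from the top index -/
noncomputable def g (p : ℤ) : tInf.{v} ⟶ tp.{v} p := (homOfLE le_top).op

/-- the transition maps between finite indices -/
noncomputable def gLE {p p' : ℤ} (h : p ≤ p') : tp.{v} p' ⟶ tp.{v} p := (homOfLE (e_le_e h)).op

lemma g_gLE {p p' : ℤ} (h : p ≤ p') : g.{v} p' ≫ gLE h = g p := rfl

variable (𝒥 : CochainComplex (Idx.{v}ᵒᵖ ⥤ A) ℤ)

/-- the total complex -/
noncomputable abbrev Jt : CochainComplex A ℤ := (evC tInf).obj 𝒥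

/-- the quotient complexes -/
noncomputable abbrev Jq (p : ℤ) : CochainComplex A ℤ := (evC (tp p)).obj 𝒥

/-- the projections -/
noncomputable abbrev τ (p : ℤ) : Jt 𝒥 ⟶ Jq 𝒥 p := (evCmap (g p)).app 𝒥

/-- the transition maps -/
noncomputable abbrev τLE {p p' : ℤ} (h : p ≤ p') : Jq 𝒥 p' ⟶ Jq 𝒥 p := (evCmap (gLE h)).app 𝒥

lemma τ_τLE {p p' : ℤ} (h : p ≤ p') : τ 𝒥 p' ≫ τLE 𝒥 h = τ 𝒥 p := by
  ext n
  change (𝒥.X n).map (g p') ≫ (𝒥.X n).map (gLE h) = (𝒥.X n).map (g p)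
  rw [← CategoryTheory.Functor.map_comp, g_gLE]

/-- the filtration -/
noncomputable def G (p : ℤ) : Subobject (Jt 𝒥) := kernelSubobject (τ 𝒥 p)

lemma G_anti : Antitone (G 𝒥) := by
  intro p p' h
  have h1 := kernelSubobject_comp_le (τ 𝒥 p') (τLE 𝒥 h)
  have h2 : kernelSubobject (τ 𝒥 p' ≫ τLE 𝒥 h) = kernelSubobject (τ 𝒥 p) := by
    congr 1
    exact τ_τLE 𝒥 h
  exact h1.trans h2.le

lemma τ_f (p n : ℤ) : (τ 𝒥 p).f n = (𝒥.X n).map (g p) := rfl

section Inj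

variable (hinj : ∀ n, Injective (𝒥.X n))

include hinj in
lemma exists_section (p n : ℤ) : ∃ s : (Jq 𝒥 p).X n ⟶ (Jt 𝒥).X n, s ≫ (τ 𝒥 p).f n = 𝟙 _ := by
  haveI := hinj n
  exact exists_section_of_injective (𝒥.X n) (g p) (fun t a b _ => Subsingleton.elim a b)

/-- chosen termwise sections -/
noncomputable def sec (p n : ℤ) : (Jq 𝒥 p).X n ⟶ (Jt 𝒥).X n := (exists_section 𝒥 hinj p n).choose

lemma sec_τ (p n : ℤ) : sec 𝒥 hinj p n ≫ (τ 𝒥 p).f n = 𝟙 _ := (exists_section 𝒥 hinj p n).choose_spec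

include hinj in
lemma epi_τ (p : ℤ) : Epi (τ 𝒥 p) := by
  haveI : ∀ n, Epi ((τ 𝒥 p).f n) := fun n =>
    (IsSplitEpi.mk' ⟨sec 𝒥 hinj p n, sec_τ 𝒥 hinj p n⟩).epi
  exact HomologicalComplex.epi_of_epi_f _ inferInstance

include hinj in
lemma injective_Jt (n : ℤ) : Injective ((Jt 𝒥).X n) := by
  haveI := hinj n
  exact injective_eval tInf (𝒥.X n)

/-- the terms of the filtration steps as kernels -/
noncomputable def GXIso (p n : ℤ) :
    ((G 𝒥 p : CochainComplex A ℤ)).X n ≅ kernel ((τ 𝒥 p).f n) :=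
  (HomologicalComplex.eval A (ComplexShape.up ℤ) n).mapIso (kernelSubobjectIso (τ 𝒥 p)) ≪≫
    PreservesKernel.iso (HomologicalComplex.eval A (ComplexShape.up ℤ) n) (τ 𝒥 p)

include hinj in
lemma injective_G (p n : ℤ) : Injective ((G 𝒥 p : CochainComplex A ℤ).X n) := by
  haveI := injective_Jt 𝒥 hinj n
  exact Injective.of_iso (GXIso 𝒥 p n).symm
    (injective_kernel_of_section ((τ 𝒥 p).f n) (sec 𝒥 hinj p n) (sec_τ 𝒥 hinj p n))

include hinj in
lemma isKInjective_G [𝒥.IsKInjective] (p : ℤ) : (G 𝒥 p : CochainComplex A ℤ).IsKInjective := by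
  haveI := epi_τ 𝒥 hinj p
  haveI : (Jt 𝒥).IsKInjective := isKInjective_evC tInf 𝒥
  haveI : (Jq 𝒥 p).IsKInjective := isKInjective_evC (tp p) 𝒥
  haveI := isKInjective_kernel (τ 𝒥 p) (sec 𝒥 hinj p) (sec_τ 𝒥 hinj p)
  exact CochainComplex.isKInjective_of_iso (kernelSubobjectIso (τ 𝒥 p)).symm

end Inj

section Map

variable (K : SpSeq.FilCx A) (φ : cxOfFunctor (Q.{v} K) ⟶ 𝒥)

/-- the comparison maps on the quotients -/
noncomputable def b (p : ℤ) : K.quot p ⟶ Jq 𝒥 p :=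
  (evCIso (Q.{v} K) (tp p)).inv ≫ (evC (tp p)).map φ

/-- the comparison map -/
noncomputable def a : K.obj ⟶ Jt 𝒥 :=
  cokernel.π (filExt.{v} K ⊤).arrow ≫ (evCIso (Q.{v} K) tInf).inv ≫ (evC tInf).map φ

lemma isIso_π_top : IsIso (cokernel.π (filExt.{v} K ⊤).arrow) := by
  have h : (filExt.{v} K ⊤).arrow = 0 := by
    rw [filExt_top]
    exact Subobject.bot_arrow
  rw [h]
  infer_instance

lemma quasiIso_a [QuasiIso φ] : QuasiIso (a 𝒥 K φ) := by
  haveI := isIso_π_top.{v} K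
  haveI : QuasiIso ((evC tInf).map φ) := quasiIso_evC tInf φ
  unfold a
  infer_instance

lemma quasiIso_b [QuasiIso φ] (p : ℤ) : QuasiIso (b 𝒥 K φ p) := by
  haveI : QuasiIso ((evC (tp p)).map φ) := quasiIso_evC (tp p) φ
  unfold b
  infer_instance

lemma a_τ (p : ℤ) : a 𝒥 K φ ≫ τ 𝒥 p = cokernel.π (K.fil p).arrow ≫ b 𝒥 K φ p := by
  have h1 : (evC tInf).map φ ≫ (evCmap (g p)).app 𝒥 =
      (evCmap (g p)).app (cxOfFunctor (Q.{v} K)) ≫ (evC (tp p)).map φ :=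
    (evCmap (g.{v} p)).naturality φ
  have h2 : (evCIso (Q.{v} K) tInf).inv ≫ (evCmap (g p)).app (cxOfFunctor (Q.{v} K)) =
      (Q.{v} K).map (g p) ≫ (evCIso (Q.{v} K) (tp p)).inv := by
    rw [Iso.inv_comp_eq, ← Category.assoc, Iso.eq_comp_inv]
    exact (evCIso_naturality (Q.{v} K) (g p)).symm
  have h3 : cokernel.π (filExt.{v} K ⊤).arrow ≫ (Q.{v} K).map (g p) =
      cokernel.π (K.fil p).arrow := π_qMap K (le_top : e.{v} p ≤ ⊤)
  have key : (evCIso (Q.{v} K) tInf).inv ≫ (evC tInf).map φ ≫ τ 𝒥 p =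
      (Q.{v} K).map (g p) ≫ (evCIso (Q.{v} K) (tp p)).inv ≫ (evC (tp p)).map φ := by
    rw [h1, reassoc_of% h2]
  have key2 := congrArg (fun x => cokernel.π (filExt.{v} K ⊤).arrow ≫ x) key
  unfold a b
  rw [Category.assoc, Category.assoc]
  refine key2.trans ?_
  exact (Category.assoc _ _ _).symm.trans
    (congrArg (fun x => x ≫ ((evCIso (Q.{v} K) (tp p)).inv ≫ (evC (tp p)).map φ)) h3)

lemma hfac (p : ℤ) : (G 𝒥 p).Factors ((K.fil p).arrow ≫ a 𝒥 K φ) := by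
  apply kernelSubobject_factors
  rw [Category.assoc, a_τ, cokernel.condition_assoc, zero_comp]

section Theta

/-- the short complex `G p → Jt → Jq p` -/
noncomputable abbrev SG (p : ℤ) : ShortComplex (CochainComplex A ℤ) :=
  ShortComplex.mk (G 𝒥 p).arrow (τ 𝒥 p) (kernelSubobject_arrow_comp _)

lemma SG_exact (p : ℤ) : (SG 𝒥 p).Exact := by
  refine (ShortComplex.exact_iff_of_iso (?_ : SG 𝒥 p ≅ kerSC (τ 𝒥 p))).2
    (ShortComplex.exact_kernel (τ 𝒥 p))
  exact ShortComplex.isoMk (kernelSubobjectIso _) (Iso.refl _) (Iso.refl _)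
    (by simp [G]) (by simp)

variable (hinj : ∀ n, Injective (𝒥.X n))

include hinj in
/-- `Jq p` is the cokernel of `G p` -/
noncomputable def isColimitSG (p : ℤ) :
    IsColimit (CokernelCofork.ofπ (τ 𝒥 p) (SG 𝒥 p).zero) := by
  haveI : Epi (SG 𝒥 p).g := epi_τ 𝒥 hinj p
  exact (SG_exact 𝒥 p).gIsCokernel

/-- the identification of the quotient of the filtered complex -/
noncomputable def θ (p : ℤ) : cokernel (G 𝒥 p).arrow ≅ Jq 𝒥 p :=
  IsColimit.coconePointUniqueUpToIso (colimit.isColimit _) (isColimitSG 𝒥 hinj p)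

lemma π_θ (p : ℤ) : cokernel.π (G 𝒥 p).arrow ≫ (θ 𝒥 hinj p).hom = τ 𝒥 p :=
  IsColimit.comp_coconePointUniqueUpToIso_hom (colimit.isColimit _) (isColimitSG 𝒥 hinj p)
    WalkingParallelPair.one

lemma jq_θ (p : ℤ) :
    FilRes3.jq K (Jt 𝒥) (G 𝒥) (G_anti 𝒥) (a 𝒥 K φ) (hfac 𝒥 K φ) p ≫ (θ 𝒥 hinj p).hom =
      b 𝒥 K φ p := by
  rw [← cancel_epi (cokernel.π (K.fil p).arrow)]
  unfold FilRes3.jq
  rw [cokernel.π_desc_assoc, Category.assoc, π_θ, a_τ]

include hinj in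
lemma quasiIso_jq [QuasiIso φ] (p : ℤ) :
    QuasiIso (FilRes3.jq K (Jt 𝒥) (G 𝒥) (G_anti 𝒥) (a 𝒥 K φ) (hfac 𝒥 K φ) p) := by
  haveI := quasiIso_b 𝒥 K φ p
  have h := jq_θ 𝒥 K φ hinj p
  haveI : QuasiIso (FilRes3.jq K (Jt 𝒥) (G 𝒥) (G_anti 𝒥) (a 𝒥 K φ) (hfac 𝒥 K φ) p ≫
      (θ 𝒥 hinj p).hom) := by
    rw [h]
    infer_instance
  exact quasiIso_of_comp_right _ (θ 𝒥 hinj p).hom

end Theta

end Map

end Res

section Main

variable [IsGrothendieckAbelian.{v} A]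

/-- **Filtered K-injective resolutions** -/
theorem main (K : SpSeq.FilCx A) :
    ∃ (J : SpSeq.FilCx A) (j : K ⟶ J),
      (∀ n p : ℤ, Injective (J.obj.X n) ∧ Injective ((J.XFil n).step p) ∧ Injective ((J.XFil n).quot p) ∧
        ∀ (p' : ℤ) (h : p ≤ p'), Injective (cokernel ((J.XFil n).stepLE h))) ∧
      (CochainComplex.IsKInjective J.obj ∧ ∀ p : ℤ, CochainComplex.IsKInjective (J.step p) ∧
        CochainComplex.IsKInjective (J.quot p) ∧
        ∀ (p' : ℤ) (h : p ≤ p'), CochainComplex.IsKInjective (cokernel (J.stepLE h))) ∧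
      QuasiIso j.hom ∧
      (∀ p : ℤ, ∃ jp : K.step p ⟶ J.step p, jp ≫ (J.fil p).arrow = (K.fil p).arrow ≫ j.hom ∧ QuasiIso jp ∧
        (∀ (p' : ℤ) (h : p ≤ p'), ∃ (jp' : K.step p' ⟶ J.step p') (jg : cokernel (K.stepLE h) ⟶ cokernel (J.stepLE h)),
          jp' ≫ (J.fil p').arrow = (K.fil p').arrow ≫ j.hom ∧ jp' ≫ J.stepLE h = K.stepLE h ≫ jp ∧
          cokernel.π (K.stepLE h) ≫ jg = jp ≫ cokernel.π (J.stepLE h) ∧ QuasiIso jg)) ∧
      (∀ p : ℤ, ∃ jq : K.quot p ⟶ J.quot p,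
        cokernel.π (K.fil p).arrow ≫ jq = j.hom ≫ cokernel.π (J.fil p).arrow ∧ QuasiIso jq) := by
  obtain ⟨𝒥, φ, hK, hq, -, hinj⟩ :=
    Groth.Agent.Helper3.KInjD.exists_kInjective_resolution (cxOfFunctor (Q.{v} K))
  haveI := hK
  haveI := hq
  exact FilRes3.main K (Jt 𝒥) (G 𝒥) (G_anti 𝒥) (a 𝒥 K φ) (hfac 𝒥 K φ)
    (injective_Jt 𝒥 hinj) (injective_G 𝒥 hinj) (isKInjective_evC tInf 𝒥)
    (isKInjective_G 𝒥 hinj) (quasiIso_a 𝒥 K φ) (quasiIso_jq 𝒥 K φ hinj)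

end Main

end Groth.Agent.Helper3.FilRes4
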