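import Mathlib
import Groth.Prelude.Def_FilD
import Groth.Agent.Lib.Helper3.FilBasic

set_option autoImplicit false
universe v u
open CategoryTheory CategoryTheory.Limits Opposite

namespace Groth.Agent.Helper3.Fil

variable {A : Type u} [Category.{v} A] [Abelian A]

/-- levelwise exactness of the kernel sequence -/
lemma exists_lift_kernel {X Y : ℤᵒᵖ ⥤ A} (φ : X ⟶ Y) (p : ℤ) {T : A} (x : T ⟶ X.obj (op p))
    (hx : x ≫ φ.app (op p) = 0) :
    ∃ (T' : A) (π : T' ⟶ T) (_ : Epi π) (k : T' ⟶ (kernel φ).obj (op p)),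
      π ≫ x = k ≫ (kernel.ι φ).app (op p) := by
  have hS : (ShortComplex.mk (kernel.ι φ) φ (kernel.condition φ)).Exact :=
    ShortComplex.exact_of_f_is_kernel _ (kernelIsKernel φ)
  have hS' := hS.map ((evaluation ℤᵒᵖ A).obj (op p))
  rw [ShortComplex.exact_iff_exact_up_to_refinements] at hS'
  exact hS' x hx

lemma kernel_ι_app_comp {X Y : ℤᵒᵖ ⥤ A} (φ : X ⟶ Y) (p : ℤ) :
    (kernel.ι φ).app (op p) ≫ φ.app (op p) = 0 := by
  rw [← NatTrans.comp_app, kernel.condition]
  rfl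

/-- exactness of the graded kernel sequences, in terms of generalized elements -/
def GrExact {X Y : ℤᵒᵖ ⥤ A} (φ : X ⟶ Y) : Prop :=
  ∀ (p : ℤ) (T : A) (z : T ⟶ (FilD.gr A p).obj X), z ≫ (FilD.gr A p).map φ = 0 →
    ∃ (T' : A) (π : T' ⟶ T) (_ : Epi π) (w : T' ⟶ (FilD.gr A p).obj (kernel φ)),
      π ≫ z = w ≫ (FilD.gr A p).map (kernel.ι φ)

lemma grExact_iff {X Y : ℤᵒᵖ ⥤ A} (φ : X ⟶ Y) : GrExact φ ↔
    ∀ p : ℤ, ((ShortComplex.mk (kernel.ι φ) φ (kernel.condition φ)).map (FilD.gr A p)).Exact := by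
  constructor
  · intro h p
    rw [ShortComplex.exact_iff_exact_up_to_refinements]
    intro T z hz
    exact h p T z hz
  · intro h p T z hz
    have hp := h p
    rw [ShortComplex.exact_iff_exact_up_to_refinements] at hp
    exact hp z hz

lemma strictStep_iff_grExact {X Y : ℤᵒᵖ ⥤ A} (hX : MonoT X) (hY : MonoT Y) (φ : X ⟶ Y) :
    StrictStep φ ↔ GrExact φ := by
  constructor
  · intro hs p T z hz
    obtain ⟨T₁, π₁, hπ₁, x, hx⟩ := surjective_up_to_refinements_of_epi (c X p) z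
    have h1 : (x ≫ φ.app (op p)) ≫ c Y p = 0 := by
      rw [Category.assoc, ← c_naturality, ← Category.assoc, ← hx, Category.assoc, hz, comp_zero]
    obtain ⟨y, hy⟩ := exists_lift_of_c_eq_zero hY p _ h1
    obtain ⟨T₂, π₂, hπ₂, x', hx'⟩ := hs p T₁ x y hy.symm
    have h2 : (π₂ ≫ x - x' ≫ tr X (Int.le_add_one le_rfl : p ≤ p + 1)) ≫ φ.app (op p) = 0 := by
      rw [Preadditive.sub_comp, Category.assoc, Category.assoc, tr_naturality, ← hy,
        ← Category.assoc x', ← hx', Category.assoc, sub_self]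
    obtain ⟨T₃, π₃, hπ₃, k, hk⟩ := exists_lift_kernel φ p _ h2
    refine ⟨T₃, π₃ ≫ π₂ ≫ π₁, inferInstance, k ≫ c (kernel φ) p, ?_⟩
    have e1 : (k ≫ c (kernel φ) p) ≫ (FilD.gr A p).map (kernel.ι φ) =
        (k ≫ (kernel.ι φ).app (op p)) ≫ c X p := by
      rw [Category.assoc, c_naturality, Category.assoc]
    have e2 : (π₃ ≫ (π₂ ≫ x - x' ≫ tr X (Int.le_add_one le_rfl : p ≤ p + 1))) ≫ c X p =
        π₃ ≫ π₂ ≫ π₁ ≫ z := by
      rw [Category.assoc, Preadditive.sub_comp, Category.assoc x', tr_c, comp_zero, sub_zero,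
        Category.assoc, ← hx]
    rw [e1, ← hk, e2, Category.assoc, Category.assoc]
  · intro he p T x y hxy
    obtain ⟨T₁, π₁, hπ₁, w, hw⟩ := he p T (x ≫ c X p) (by
      rw [Category.assoc, c_naturality, ← Category.assoc, hxy, Category.assoc, tr_c, comp_zero])
    obtain ⟨T₂, π₂, hπ₂, k, hk⟩ := surjective_up_to_refinements_of_epi (c (kernel φ) p) w
    have h1 : (π₂ ≫ π₁ ≫ x - k ≫ (kernel.ι φ).app (op p)) ≫ c X p = 0 := by
      rw [Preadditive.sub_comp, Category.assoc, Category.assoc, hw, ← Category.assoc π₂, hk,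
        Category.assoc, Category.assoc, c_naturality, sub_self]
    obtain ⟨x', hx'⟩ := exists_lift_of_c_eq_zero hX p _ h1
    refine ⟨T₂, π₂ ≫ π₁, inferInstance, x', ?_⟩
    have := hY.mono_tr (Int.le_add_one le_rfl : p ≤ p + 1)
    rw [← cancel_mono (tr Y (Int.le_add_one le_rfl : p ≤ p + 1)), Category.assoc x',
      ← tr_naturality, ← Category.assoc x', hx', Preadditive.sub_comp, Category.assoc k,
      kernel_ι_app_comp, comp_zero, sub_zero,
      Category.assoc, Category.assoc, Category.assoc, Category.assoc, hxy]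

theorem isStrict_iff_gr_exact {X Y : FilD.FilF A} (φ : X ⟶ Y) :
    FilD.IsStrict φ ↔
      ∀ p : ℤ, ((ShortComplex.mk (kernel.ι φ.hom) φ.hom (kernel.condition φ.hom)).map
        (FilD.gr A p)).Exact := by
  rw [isStrict_iff, ← grExact_iff, ← strictStep_iff_grExact (monoT_of_filF X) (monoT_of_filF Y)]
  exact ⟨fun h => h.step, fun h => h.strictEl⟩

end Groth.Agent.Helper3.Fil
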