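import Mathlib
import Groth.Prelude.Def_SpSeq
import Groth.Agent.Lib.Helper3.ImgSub

set_option autoImplicit false
open CategoryTheory CategoryTheory.Limits

universe v u

namespace Groth.Agent.Helper3.FilStrict

open Groth.Agent.Helper3.ImgSub SpSeq SpSeq.FilObj

variable {A : Type u} [Category.{v} A] [Abelian A]

/-- image of a subobject along a morphism -/
noncomputable def img {X Y : A} (f : X ⟶ Y) (S : Subobject X) : Subobject Y :=
  imageSubobject (S.arrow ≫ f)

lemma img_comp {X Y Z : A} (f : X ⟶ Y) (g : Y ⟶ Z) (S : Subobject X) :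
    img (f ≫ g) S = img g (img f S) := by
  unfold img
  have key : ∀ {W : A} (k : W ⟶ Y),
      imageSubobject (k ≫ g) = imageSubobject ((imageSubobject k).arrow ≫ g) := by
    intro W k
    conv_lhs => rw [← imageSubobject_arrow_comp k, Category.assoc]
    exact imageSubobject_epi_comp _ _
  have h := key (S.arrow ≫ f)
  convert h using 2
  rw [Category.assoc]

lemma img_top {X Y : A} (f : X ⟶ Y) : img f ⊤ = imageSubobject f := by
  unfold img
  have : IsIso (⊤ : Subobject X).arrow := inferInstance
  exact imageSubobject_epi_comp _ _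

lemma img_of_mono {X Y : A} (g : X ⟶ Y) [Mono g] (S : Subobject X) :
    img g S = (Subobject.map g).obj S := by
  unfold img
  rw [imageSubobject_mono]
  conv_rhs => rw [← Subobject.mk_arrow S]
  rfl

lemma img_inf_of_mono {X Y : A} (g : X ⟶ Y) [Mono g] (S T : Subobject X) :
    img g (S ⊓ T) = img g S ⊓ img g T := by
  rw [img_of_mono, img_of_mono, img_of_mono, Subobject.inf_map]

lemma img_imageSubobject {W X Y : A} (k : W ⟶ X) (g : X ⟶ Y) :
    img g (imageSubobject k) = imageSubobject (k ≫ g) := by
  rw [← img_top k, ← img_comp, img_top]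

lemma isStrict_iff {K L : FilObj A} (f : K ⟶ L) :
    FilObj.IsStrict f ↔ ∀ p : ℤ, img f.hom (K.fil p) = imageSubobject f.hom ⊓ L.fil p := Iff.rfl

theorem isStrict_comp_of_mono {K L M : FilObj A} (f : K ⟶ L) (g : L ⟶ M)
    (hf : FilObj.IsStrict f) (hg : FilObj.IsStrict g) [Mono g.hom] :
    FilObj.IsStrict (f ≫ g) := by
  rw [isStrict_iff] at hf hg ⊢
  intro p
  change img (f.hom ≫ g.hom) (K.fil p) = imageSubobject (f.hom ≫ g.hom) ⊓ M.fil p
  rw [img_comp, hf p, img_inf_of_mono, hg p, img_imageSubobject, ← inf_assoc]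
  congr 1
  exact inf_eq_left.2 (imageSubobject_comp_le _ _)

theorem isStrict_comp_of_epi {K L M : FilObj A} (f : K ⟶ L) (g : L ⟶ M)
    (hf : FilObj.IsStrict f) (hg : FilObj.IsStrict g) [Epi f.hom] :
    FilObj.IsStrict (f ≫ g) := by
  rw [isStrict_iff] at hf hg ⊢
  intro p
  change img (f.hom ≫ g.hom) (K.fil p) = imageSubobject (f.hom ≫ g.hom) ⊓ M.fil p
  have htop : imageSubobject f.hom = ⊤ := by
    haveI : IsIso (imageSubobject f.hom).arrow := by
      haveI : Epi (imageSubobject f.hom).arrow := by
        have h := imageSubobject_arrow_comp f.hom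
        exact epi_of_epi_fac h
      exact isIso_of_mono_of_epi _
    exact Subobject.eq_top_of_isIso_arrow _
  rw [img_comp, hf p, htop, top_inf_eq, hg p, imageSubobject_epi_comp]

end Groth.Agent.Helper3.FilStrict
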