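import Mathlib
import Groth.Prelude.Def_FilD
import Groth.Agent.Lib.Helper3.FilBasic
import Groth.Agent.Lib.Helper3.FilKer
import Groth.Agent.Lib.Helper3.FilStrict
import Groth.Agent.Lib.Helper3.FilExact
import Groth.Agent.Lib.Helper3.FilCok
import Groth.Agent.Lib.Helper3.FilBiprod
import Groth.Agent.Lib.Helper3.FilPush
import Groth.Agent.Lib.Helper3.AbsTrunc

set_option autoImplicit false
universe v u
open CategoryTheory CategoryTheory.Limits Opposite

namespace Groth.Agent.Helper3.Fil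

variable {A : Type u} [Category.{v} A] [Abelian A]

section StrictLemmas

lemma strictEl_zero (X Y : ℤᵒᵖ ⥤ A) (hY : MonoT Y) : StrictEl (0 : X ⟶ Y) := by
  intro p q h T x y hxy
  have := hY.mono_tr h
  have hy : y = 0 := by
    rw [← cancel_mono (tr Y h), zero_comp, ← hxy]
    exact comp_zero
  refine ⟨T, 𝟙 T, inferInstance, 0, ?_⟩
  rw [hy, comp_zero, zero_comp]

lemma strictEl_of_section {X Y : ℤᵒᵖ ⥤ A} (φ : X ⟶ Y) (s : Y ⟶ X) (hs : s ≫ φ = 𝟙 Y) :
    StrictEl φ := by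
  intro p q h T x y _
  refine ⟨T, 𝟙 T, inferInstance, y ≫ s.app (op q), ?_⟩
  rw [Category.id_comp, Category.assoc, ← NatTrans.comp_app, hs, NatTrans.id_app, Category.comp_id]

lemma strictEl_of_factor {X X' Y : ℤᵒᵖ ⥤ A} (φ : X ⟶ Y) (φ' : X' ⟶ Y) (e : X ⟶ X') (s : X' ⟶ X)
    (h1 : φ = e ≫ φ') (h2 : s ≫ φ = φ') (hφ' : StrictEl φ') : StrictEl φ := by
  intro p q h T x y hxy
  obtain ⟨T', π, hπ, x', hx'⟩ := hφ' p q h T (x ≫ e.app (op p)) y (by
    rw [Category.assoc, ← NatTrans.comp_app, ← h1]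
    exact hxy)
  refine ⟨T', π, hπ, x' ≫ s.app (op q), ?_⟩
  rw [Category.assoc, ← NatTrans.comp_app, h2]
  exact hx'

end StrictLemmas

section TruncGE

variable (K : CochainComplex (FilD.FilF A) ℤ) (a : ℤ)

/-- the map whose cokernel is the truncation -/
noncomputable def tψ (n : ℤ) : K.xPrev n ⊞ K.X n ⟶ K.X n :=
  biprod.desc (if n ≤ a then K.dTo n else 0) (if n < a then 𝟙 _ else 0)

lemma inl_tψ (n : ℤ) : biprod.inl ≫ tψ K a n = if n ≤ a then K.dTo n else 0 :=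
  biprod.inl_desc _ _

lemma inr_tψ (n : ℤ) : biprod.inr ≫ tψ K a n = if n < a then 𝟙 _ else 0 :=
  biprod.inr_desc _ _

lemma tψ_of_gt (n : ℤ) (hn : a < n) : tψ K a n = 0 := by
  apply biprod.hom_ext'
  · rw [inl_tψ, if_neg (by omega), comp_zero]
  · rw [inr_tψ, if_neg (by omega), comp_zero]

lemma tψ_a : tψ K a a = biprod.fst ≫ K.dTo a := by
  apply biprod.hom_ext'
  · rw [inl_tψ, if_pos le_rfl, biprod.inl_fst_assoc]
  · rw [inr_tψ, if_neg (lt_irrefl a), biprod.inr_fst_assoc, zero_comp]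

variable (hK : ∀ (p n : ℤ), n < a → IsZero (((FilD.grCx p).obj K).homology n))

include hK

lemma exactAt_of_hK' (p n : ℤ) (hn : n < a) : ((FilD.grCx p).obj K).ExactAt n := by
  rw [HomologicalComplex.exactAt_iff_isZero_homology]
  exact hK p n hn

lemma isStrict_dTo_of_hK : FilD.IsStrict (K.d (a - 1) a) := by
  let S : ShortComplex (FilD.FilF A) :=
    ShortComplex.mk (K.d (a - 1 - 1) (a - 1)) (K.d (a - 1) a) (K.d_comp_d _ _ _)
  have hS : ∀ p : ℤ, (S.map (FilD.grF A p)).Exact := by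
    intro p
    have h1 := exactAt_of_hK' K a hK p (a - 1) (by omega)
    rw [HomologicalComplex.exactAt_iff' _ (a - 1 - 1) (a - 1) a (by simp) (by simp)] at h1
    exact h1
  exact (main_S1085 S hS).2.2

lemma isStrict_tψ (n : ℤ) : FilD.IsStrict (tψ K a n) := by
  rw [isStrict_iff]
  by_cases h1 : a < n
  · rw [tψ_of_gt K a n h1]
    exact strictEl_zero _ _ (monoT_of_filF _)
  · by_cases h2 : n < a
    · refine strictEl_of_section _ (biprod.inr : K.X n ⟶ K.xPrev n ⊞ K.X n).hom ?_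
      have := congrArg (fun m => m.hom) (inr_tψ K a n)
      rw [if_pos h2] at this
      exact this
    · obtain rfl : n = a := by omega
      have hr : (ComplexShape.up ℤ).Rel (n - 1) n := by simp
      have hd := (isStrict_iff _).1 (isStrict_dTo_of_hK K n hK)
      refine strictEl_of_factor (tψ K n n).hom (K.d (n - 1) n).hom
        ((biprod.fst : K.xPrev n ⊞ K.X n ⟶ K.xPrev n) ≫ (K.xPrevIso hr).hom).hom
        ((K.xPrevIso hr).inv ≫ (biprod.inl : K.xPrev n ⟶ K.xPrev n ⊞ K.X n)).hom ?_ ?_ hd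
      · have : tψ K n n = ((biprod.fst : K.xPrev n ⊞ K.X n ⟶ K.xPrev n) ≫
            (K.xPrevIso hr).hom) ≫ K.d (n - 1) n := by
          rw [tψ_a, K.dTo_eq hr, Category.assoc]
        exact congrArg (fun m => m.hom) this
      · have : ((K.xPrevIso hr).inv ≫ (biprod.inl : K.xPrev n ⟶ K.xPrev n ⊞ K.X n)) ≫
            tψ K n n = K.d (n - 1) n := by
          rw [Category.assoc, inl_tψ, if_pos le_rfl, K.xPrevIso_comp_dTo hr]
        exact congrArg (fun m => m.hom) this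

end TruncGE

section TruncGECx

variable (K : CochainComplex (FilD.FilF A) ℤ) (a : ℤ)
  (hK : ∀ (p n : ℤ), n < a → IsZero (((FilD.grCx p).obj K).homology n))

/-- the terms of the truncation -/
noncomputable def tLX (n : ℤ) : FilD.FilF A := cokF (tψ K a n) (isStrict_tψ K a hK n)

/-- the projections -/
noncomputable def tLπ (n : ℤ) : K.X n ⟶ tLX K a hK n := cokπ (tψ K a n) (isStrict_tψ K a hK n)

lemma tψ_tLπ (n : ℤ) : tψ K a n ≫ tLπ K a hK n = 0 := comp_cokπ _ _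

lemma tL_hom_ext (n : ℤ) {W : FilD.FilF A} {f g : tLX K a hK n ⟶ W}
    (h : tLπ K a hK n ≫ f = tLπ K a hK n ≫ g) : f = g :=
  cokF_hom_ext _ _ h

lemma d_tLπ_of_lt (n : ℤ) (hn : n < a) : K.d n (n + 1) ≫ tLπ K a hK (n + 1) = 0 := by
  have hr : (ComplexShape.up ℤ).Rel n (n + 1) := rfl
  have h1 : K.d n (n + 1) = ((K.xPrevIso hr).inv ≫ biprod.inl) ≫ tψ K a (n + 1) := by
    rw [Category.assoc, inl_tψ, if_pos (by omega), K.xPrevIso_comp_dTo hr]
  rw [h1, Category.assoc, tψ_tLπ, comp_zero]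

lemma tψ_aux (n : ℤ) : tψ K a n ≫ K.d n (n + 1) ≫ tLπ K a hK (n + 1) = 0 := by
  apply biprod.hom_ext'
  · rw [← Category.assoc, inl_tψ, comp_zero]
    split_ifs
    · rw [← Category.assoc, K.d_comp_d, zero_comp]
    · rw [zero_comp]
  · rw [← Category.assoc, inr_tψ, comp_zero]
    split_ifs with h
    · rw [Category.id_comp]
      exact d_tLπ_of_lt K a hK n h
    · rw [zero_comp]

/-- the differential -/
noncomputable def tLd (n : ℤ) : tLX K a hK n ⟶ tLX K a hK (n + 1) :=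
  cokDesc (tψ K a n) (isStrict_tψ K a hK n) (K.d n (n + 1) ≫ tLπ K a hK (n + 1))
    (tψ_aux K a hK n)

lemma tLπ_d (n : ℤ) : tLπ K a hK n ≫ tLd K a hK n = K.d n (n + 1) ≫ tLπ K a hK (n + 1) :=
  cokπ_desc _ _ _ _

lemma tLd_sq (n : ℤ) : tLd K a hK n ≫ tLd K a hK (n + 1) = 0 := by
  apply tL_hom_ext
  rw [← Category.assoc, tLπ_d, Category.assoc, tLπ_d, ← Category.assoc, K.d_comp_d, zero_comp,
    comp_zero]

/-- the truncated complex -/
noncomputable def tL : CochainComplex (FilD.FilF A) ℤ :=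
  CochainComplex.of (fun n => tLX K a hK n) (tLd K a hK) (tLd_sq K a hK)

lemma tL_d (n : ℤ) : (tL K a hK).d n (n + 1) = tLd K a hK n := by
  unfold tL
  exact CochainComplex.of_d (fun n => tLX K a hK n) (tLd K a hK) n

/-- the projection to the truncation -/
noncomputable def tπ : K ⟶ tL K a hK :=
  CochainComplex.ofHom (fun n => tLπ K a hK n) (fun n => by
    rw [tL_d]
    exact tLπ_d K a hK n)

lemma isZero_tLX (n : ℤ) (hn : n < a) : IsZero (tLX K a hK n) := by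
  rw [IsZero.iff_id_eq_zero]
  apply tL_hom_ext
  rw [Category.comp_id, comp_zero]
  have h1 : biprod.inr ≫ tψ K a n = 𝟙 _ := by rw [inr_tψ, if_pos hn]
  rw [← Category.id_comp (tLπ K a hK n), ← h1, Category.assoc, tψ_tLπ, comp_zero]

lemma isStrictlyGE_tL : (tL K a hK).IsStrictlyGE a := by
  rw [CochainComplex.isStrictlyGE_iff]
  intro i hi
  exact isZero_tLX K a hK i hi

lemma epi_grF_tLπ (n p : ℤ) : Epi ((FilD.grF A p).map (tLπ K a hK n)) :=
  epi_gr_cokernel_π (tψ K a n).hom p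

lemma mono_grF_tLπ_of_gt (n : ℤ) (hn : a < n) (p : ℤ) :
    Mono ((FilD.grF A p).map (tLπ K a hK n)) := by
  let ρ : tLX K a hK n ⟶ K.X n := cokDesc (tψ K a n) (isStrict_tψ K a hK n) (𝟙 _) (by
    rw [tψ_of_gt K a n hn, zero_comp])
  have hρ : tLπ K a hK n ≫ ρ = 𝟙 _ := cokπ_desc _ _ _ _
  have h1 : (FilD.grF A p).map (tLπ K a hK n) ≫ (FilD.grF A p).map ρ = 𝟙 _ := by
    rw [← CategoryTheory.Functor.map_comp, hρ, CategoryTheory.Functor.map_id]
  exact (IsSplitMono.mk' ⟨(FilD.grF A p).map ρ, h1⟩ : IsSplitMono _).mono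

lemma exact_a (p : ℤ) (T : A) (z : T ⟶ (FilD.grF A p).obj (K.X a))
    (hz : z ≫ (FilD.grF A p).map (tLπ K a hK a) = 0) :
    ∃ (T' : A) (π : T' ⟶ T) (_ : Epi π) (w : T' ⟶ (FilD.grF A p).obj (K.X (a - 1))),
      π ≫ z = w ≫ (FilD.grF A p).map (K.d (a - 1) a) := by
  have hQ : MonoT (cokernel (tψ K a a).hom) := monoT_of_filF (tLX K a hK a)
  obtain ⟨T', π, hπ, w', hw'⟩ := grEx_cokernel (tψ K a a).hom hQ p T z hz
  have hw'' : π ≫ z = w' ≫ (FilD.grF A p).map (tψ K a a) := hw'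
  have hr : (ComplexShape.up ℤ).Rel (a - 1) a := by simp
  refine ⟨T', π, hπ, w' ≫ (FilD.grF A p).map (biprod.fst ≫ (K.xPrevIso hr).hom), ?_⟩
  rw [hw'', Category.assoc, ← CategoryTheory.Functor.map_comp, tψ_a, K.dTo_eq hr, Category.assoc]

include hK in
theorem main_S1087 :
    ∃ (L : CochainComplex (FilD.FilF A) ℤ) (φ : K ⟶ L), L.IsStrictlyGE a ∧
      FilD.IsFilteredQuasiIso φ := by
  refine ⟨tL K a hK, tπ K a hK, isStrictlyGE_tL K a hK, ?_⟩
  intro p
  refine absTruncGE ((FilD.grCx p).map (tπ K a hK)) a ?_ ?_ ?_ ?_ ?_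
  · intro n
    exact epi_grF_tLπ K a hK n p
  · intro n hn
    exact mono_grF_tLπ_of_gt K a hK n hn p
  · intro T z hz
    exact exact_a K a hK p T z hz
  · intro n hn
    exact (FilD.grF A p).map_isZero (isZero_tLX K a hK n hn)
  · intro n hn
    exact exactAt_of_hK' K a hK p n hn

end TruncGECx

end Groth.Agent.Helper3.Fil
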