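import Mathlib
import Groth.Prelude.Def_FilD
import Groth.Agent.Lib.Helper3.FilBasic
import Groth.Agent.Lib.Helper3.FilKer
import Groth.Agent.Lib.Helper3.FilStrict
import Groth.Agent.Lib.Helper3.FilExact
import Groth.Agent.Lib.Helper3.FilCok
import Groth.Agent.Lib.Helper3.FilBiprod
import Groth.Agent.Lib.Helper3.FilPush
import Groth.Agent.Lib.Helper3.AbsTrunc

set_option autoImplicit false
universe v u
open CategoryTheory CategoryTheory.Limits Opposite

namespace Groth.Agent.Helper3.Fil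

variable {A : Type u} [Category.{v} A] [Abelian A]

section KerF

variable {X Y : FilD.FilF A} (φ : X ⟶ Y)

/-- lifting to the kernel -/
noncomputable def kerLift {W : FilD.FilF A} (g : W ⟶ X) (h : g ≫ φ = 0) : W ⟶ kerF φ :=
  ObjectProperty.homMk (kernel.lift φ.hom g.hom (by
    have := congrArg (fun m => m.hom) h
    exact this))

lemma kerLift_ι {W : FilD.FilF A} (g : W ⟶ X) (h : g ≫ φ = 0) :
    kerLift φ g h ≫ kerι φ = g := by
  apply ObjectProperty.hom_ext
  exact kernel.lift_ι _ _ _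

instance : Mono (kerι φ) := by
  have : Mono (kerι φ).hom := inferInstanceAs (Mono (kernel.ι φ.hom))
  exact mono_of_mono_hom _

lemma strictEl_kerι : StrictEl (kerι φ).hom := by
  intro p q h T x y hxy
  have hY := (monoT_of_filF Y).mono_tr h
  have h0 : y ≫ φ.hom.app (op q) = 0 := by
    rw [← cancel_mono (tr Y.obj h), zero_comp, Category.assoc, ← tr_naturality, ← Category.assoc,
      ← hxy]
    refine (Category.assoc _ _ _).trans ?_
    exact (congrArg (fun m => x ≫ m) (kernel_ι_app_comp φ.hom p)).trans comp_zero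
  obtain ⟨T', π, hπ, k, hk⟩ := exists_lift_kernel φ.hom q y h0
  exact ⟨T', π, hπ, k, hk⟩

lemma isStrict_kerι : FilD.IsStrict (kerι φ) := by
  rw [isStrict_iff]
  exact strictEl_kerι φ

lemma mono_grF_kerι (p : ℤ) : Mono ((FilD.grF A p).map (kerι φ)) :=
  mono_grF_of_strict_mono (kerι φ) (isStrict_kerι φ) p

lemma isZero_kerF_of_retraction (r : Y ⟶ X) (h : φ ≫ r = 𝟙 X) : IsZero (kerF φ) := by
  rw [IsZero.iff_id_eq_zero, ← cancel_mono (kerι φ), zero_comp, Category.id_comp,
    ← Category.comp_id (kerι φ), ← h, ← Category.assoc, kerι_comp, zero_comp]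

end KerF

section TruncLE

variable (K : CochainComplex (FilD.FilF A) ℤ) (b : ℤ)

/-- the map whose kernel is the truncation -/
noncomputable def tθ (n : ℤ) : K.X n ⟶ K.X (n + 1) ⊞ K.X n :=
  biprod.lift (if b ≤ n then K.d n (n + 1) else 0) (if b < n then 𝟙 _ else 0)

lemma tθ_fst (n : ℤ) : tθ K b n ≫ biprod.fst = if b ≤ n then K.d n (n + 1) else 0 :=
  biprod.lift_fst _ _

lemma tθ_snd (n : ℤ) : tθ K b n ≫ biprod.snd = if b < n then 𝟙 _ else 0 :=
  biprod.lift_snd _ _

lemma tθ_of_lt (n : ℤ) (hn : n < b) : tθ K b n = 0 := by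
  apply biprod.hom_ext
  · rw [tθ_fst, if_neg (by omega), zero_comp]
  · rw [tθ_snd, if_neg (by omega), zero_comp]

lemma tθ_aux (n : ℤ) : kerι (tθ K b n) ≫ K.d n (n + 1) ≫ tθ K b (n + 1) = 0 := by
  apply biprod.hom_ext
  · rw [Category.assoc, Category.assoc, tθ_fst, zero_comp]
    split_ifs
    · rw [K.d_comp_d, comp_zero]
    · rw [comp_zero, comp_zero]
  · rw [Category.assoc, Category.assoc, tθ_snd, zero_comp]
    split_ifs with h
    · rw [Category.comp_id]
      have h1 : tθ K b n ≫ biprod.fst = K.d n (n + 1) := by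
        rw [tθ_fst, if_pos (by omega)]
      rw [← h1, ← Category.assoc, kerι_comp, zero_comp]
    · rw [comp_zero, comp_zero]

/-- the differential of the truncation -/
noncomputable def tMd (n : ℤ) : kerF (tθ K b n) ⟶ kerF (tθ K b (n + 1)) :=
  kerLift (tθ K b (n + 1)) (kerι (tθ K b n) ≫ K.d n (n + 1)) (by
    rw [Category.assoc]
    exact tθ_aux K b n)

lemma tMd_ι (n : ℤ) :
    tMd K b n ≫ kerι (tθ K b (n + 1)) = kerι (tθ K b n) ≫ K.d n (n + 1) :=
  kerLift_ι _ _ _

lemma tMd_sq (n : ℤ) : tMd K b n ≫ tMd K b (n + 1) = 0 := by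
  rw [← cancel_mono (kerι (tθ K b (n + 1 + 1))), Category.assoc, tMd_ι, ← Category.assoc, tMd_ι,
    Category.assoc, K.d_comp_d, comp_zero, zero_comp]

/-- the truncated complex -/
noncomputable def tM : CochainComplex (FilD.FilF A) ℤ :=
  CochainComplex.of (fun n => kerF (tθ K b n)) (tMd K b) (tMd_sq K b)

lemma tM_d (n : ℤ) : (tM K b).d n (n + 1) = tMd K b n := by
  unfold tM
  exact CochainComplex.of_d (fun n => kerF (tθ K b n)) (tMd K b) n

/-- the inclusion of the truncation -/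
noncomputable def tφ : tM K b ⟶ K :=
  CochainComplex.ofHom (fun n => kerι (tθ K b n)) (fun n => by
    rw [tM_d]
    exact (tMd_ι K b n).symm)

lemma tφ_f (n : ℤ) : (tφ K b).f n = kerι (tθ K b n) := rfl

lemma isZero_tM (n : ℤ) (hn : b < n) : IsZero ((tM K b).X n) := by
  change IsZero (kerF (tθ K b n))
  refine isZero_kerF_of_retraction _ biprod.snd ?_
  rw [tθ_snd, if_pos hn]

lemma isStrictlyLE_tM : (tM K b).IsStrictlyLE b := by
  rw [CochainComplex.isStrictlyLE_iff]
  intro i hi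
  exact isZero_tM K b i hi

end TruncLE

section TruncLEQis

variable (K : CochainComplex (FilD.FilF A) ℤ) (b : ℤ)

lemma epi_grF_kerι_of_lt (n : ℤ) (hn : n < b) (p : ℤ) :
    Epi ((FilD.grF A p).map (kerι (tθ K b n))) := by
  let σ : K.X n ⟶ kerF (tθ K b n) := kerLift (tθ K b n) (𝟙 _) (by
    rw [tθ_of_lt K b n hn, comp_zero])
  have hσ : σ ≫ kerι (tθ K b n) = 𝟙 _ := kerLift_ι _ _ _
  have h1 : (FilD.grF A p).map σ ≫ (FilD.grF A p).map (kerι (tθ K b n)) = 𝟙 _ := by
    rw [← CategoryTheory.Functor.map_comp, hσ, CategoryTheory.Functor.map_id]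
  exact (IsSplitEpi.mk' ⟨(FilD.grF A p).map σ, h1⟩ : IsSplitEpi _).epi

variable (hK : ∀ (p n : ℤ), b < n → IsZero (((FilD.grCx p).obj K).homology n))

include hK

lemma exactAt_of_hK (p n : ℤ) (hn : b < n) : ((FilD.grCx p).obj K).ExactAt n := by
  rw [HomologicalComplex.exactAt_iff_isZero_homology]
  exact hK p n hn

lemma isStrict_d_of_hK : FilD.IsStrict (K.d b (b + 1)) := by
  let S : ShortComplex (FilD.FilF A) :=
    ShortComplex.mk (K.d b (b + 1)) (K.d (b + 1) (b + 1 + 1)) (K.d_comp_d _ _ _)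
  have hS : ∀ p : ℤ, (S.map (FilD.grF A p)).Exact := by
    intro p
    have h1 := exactAt_of_hK K b hK p (b + 1) (by omega)
    rw [HomologicalComplex.exactAt_iff' _ b (b + 1) (b + 1 + 1) (by simp) (by simp)] at h1
    exact h1
  exact (main_S1085 S hS).2.1

lemma lift_cycle_b (p : ℤ) (T : A) (y : T ⟶ (FilD.grF A p).obj (K.X b))
    (hy : y ≫ (FilD.grF A p).map (K.d b (b + 1)) = 0) :
    ∃ (T' : A) (π : T' ⟶ T) (_ : Epi π) (x : T' ⟶ (FilD.grF A p).obj (kerF (tθ K b b))),
      π ≫ y = x ≫ (FilD.grF A p).map (kerι (tθ K b b)) := by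
  have hs := isStrict_d_of_hK K b hK
  rw [isStrict_iff] at hs
  have hg := (strictStep_iff_grExact (monoT_of_filF _) (monoT_of_filF _)
    (K.d b (b + 1)).hom).1 hs.step
  have hg' : ∃ (T' : A) (π : T' ⟶ T) (_ : Epi π)
      (w : T' ⟶ (FilD.grF A p).obj (kerF (K.d b (b + 1)))),
      π ≫ y = w ≫ (FilD.grF A p).map (kerι (K.d b (b + 1))) := hg p T y hy
  obtain ⟨T', π, hπ, w, hw⟩ := hg'
  let κ : kerF (K.d b (b + 1)) ⟶ kerF (tθ K b b) :=
    kerLift (tθ K b b) (kerι (K.d b (b + 1))) (by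
      apply biprod.hom_ext
      · rw [Category.assoc, tθ_fst, if_pos le_rfl, kerι_comp, zero_comp]
      · rw [Category.assoc, tθ_snd, if_neg (lt_irrefl b), comp_zero, zero_comp])
  have hκ : κ ≫ kerι (tθ K b b) = kerι (K.d b (b + 1)) := kerLift_ι _ _ _
  refine ⟨T', π, hπ, w ≫ (FilD.grF A p).map κ, ?_⟩
  rw [Category.assoc, ← CategoryTheory.Functor.map_comp, hκ]
  exact hw

theorem main_S1088 :
    ∃ (M : CochainComplex (FilD.FilF A) ℤ) (φ : M ⟶ K), M.IsStrictlyLE b ∧
      FilD.IsFilteredQuasiIso φ := by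
  refine ⟨tM K b, tφ K b, isStrictlyLE_tM K b, ?_⟩
  intro p
  refine absTruncLE ((FilD.grCx p).map (tφ K b)) b ?_ ?_ ?_ ?_ ?_
  · intro n
    exact mono_grF_kerι (tθ K b n) p
  · intro n hn
    exact epi_grF_kerι_of_lt K b n hn p
  · intro T y hy
    exact lift_cycle_b K b hK p T y hy
  · intro n hn
    exact (FilD.grF A p).map_isZero (isZero_tM K b n hn)
  · intro n hn
    exact exactAt_of_hK K b hK p n hn

end TruncLEQis

end Groth.Agent.Helper3.Fil
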