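import Mathlib

/-!
# A cokernel of a map of coproducts as a filtered colimit of cokernels of finite subsums (helper3)
-/
set_option autoImplicit false

open CategoryTheory Limits

namespace Groth.Agent.Helper3.FiltCoker

universe w v₁ u₁
variable {A : Type u₁} [Category.{v₁} A] [Abelian A] [HasCoproducts.{w} A]
  {I : Type w} (P : I → A)

/-- the finite subsum -/
noncomputable abbrev PS (S : Finset I) : A := ∐ fun i : S => P i.1

/-- inclusion of a finite subsum -/
noncomputable def inc (S : Finset I) : PS P S ⟶ ∐ P := Sigma.desc (fun i => Sigma.ι P i.1)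

open Classical in
/-- projection onto a finite subsum -/
noncomputable def prj (S : Finset I) : ∐ P ⟶ PS P S :=
  Sigma.desc (fun i => if h : i ∈ S then Sigma.ι (fun i : S => P i.1) ⟨i, h⟩ else 0)

/-- inclusion between finite subsums -/
noncomputable def incLE {S S' : Finset I} (h : S ⊆ S') : PS P S ⟶ PS P S' :=
  Sigma.desc (fun i => Sigma.ι (fun i : S' => P i.1) ⟨i.1, h i.2⟩)

@[reassoc (attr := simp)]
lemma ι_inc (S : Finset I) (i : S) : Sigma.ι (fun i : S => P i.1) i ≫ inc P S = Sigma.ι P i.1 :=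
  Sigma.ι_desc _ _

@[reassoc]
lemma ι_prj_mem (S : Finset I) (i : I) (h : i ∈ S) :
    Sigma.ι P i ≫ prj P S = Sigma.ι (fun i : S => P i.1) ⟨i, h⟩ := by
  unfold prj
  rw [Sigma.ι_desc, dif_pos h]

@[reassoc]
lemma ι_prj_not_mem (S : Finset I) (i : I) (h : i ∉ S) : Sigma.ι P i ≫ prj P S = 0 := by
  unfold prj
  rw [Sigma.ι_desc, dif_neg h]

@[reassoc (attr := simp)]
lemma ι_incLE {S S' : Finset I} (h : S ⊆ S') (i : S) :
    Sigma.ι (fun i : S => P i.1) i ≫ incLE P h = Sigma.ι (fun i : S' => P i.1) ⟨i.1, h i.2⟩ :=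
  Sigma.ι_desc _ _

@[reassoc (attr := simp)]
lemma incLE_inc {S S' : Finset I} (h : S ⊆ S') : incLE P h ≫ inc P S' = inc P S := by
  apply Sigma.hom_ext
  intro i
  rw [ι_incLE_assoc, ι_inc, ι_inc]

@[reassoc]
lemma inc_prj_of_le {S S' : Finset I} (h : S ⊆ S') : inc P S ≫ prj P S' = incLE P h := by
  apply Sigma.hom_ext
  intro i
  rw [ι_inc_assoc, ι_prj_mem P S' i.1 (h i.2), ι_incLE]

lemma incLE_refl (S : Finset I) : incLE P (Finset.Subset.refl S) = 𝟙 _ := by
  apply Sigma.hom_ext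
  intro i
  rw [ι_incLE, Category.comp_id]

@[reassoc]
lemma incLE_trans {S S' S'' : Finset I} (h : S ⊆ S') (h' : S' ⊆ S'') :
    incLE P h ≫ incLE P h' = incLE P (h.trans h') := by
  apply Sigma.hom_ext
  intro i
  rw [ι_incLE_assoc, ι_incLE, ι_incLE]

/-- the idempotent attached to a finite subset -/
noncomputable def e (S : Finset I) : ∐ P ⟶ ∐ P := prj P S ≫ inc P S

lemma e_e_of_le {S S' : Finset I} (h : S ⊆ S') : e P S ≫ e P S' = e P S := by
  unfold e
  rw [Category.assoc, inc_prj_of_le_assoc P h, incLE_inc]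

lemma ι_e_mem (S : Finset I) (i : I) (h : i ∈ S) : Sigma.ι P i ≫ e P S = Sigma.ι P i := by
  unfold e
  rw [ι_prj_mem_assoc P S i h, ι_inc]

/-- morphisms with finite support -/
def FinSupp {X : A} (f : X ⟶ ∐ P) : Prop := ∃ S : Finset I, f ≫ e P S = f

lemma eq_of_le {X : A} (f : X ⟶ ∐ P) {S S' : Finset I} (h : S ⊆ S') (hf : f ≫ e P S = f) :
    f ≫ e P S' = f := by
  rw [← hf, Category.assoc, e_e_of_le P h]

open Classical in
lemma finSupp_add {X : A} (f g : X ⟶ ∐ P) (hf : FinSupp P f) (hg : FinSupp P g) :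
    FinSupp P (f + g) := by
  obtain ⟨S, hS⟩ := hf
  obtain ⟨S', hS'⟩ := hg
  refine ⟨S ∪ S', ?_⟩
  rw [Preadditive.add_comp, eq_of_le P f Finset.subset_union_left hS,
    eq_of_le P g Finset.subset_union_right hS']

lemma finSupp_zero {X : A} : FinSupp P (0 : X ⟶ ∐ P) := ⟨∅, zero_comp⟩

lemma finSupp_comp_ι {X : A} (i : I) (x : X ⟶ P i) : FinSupp P (x ≫ Sigma.ι P i) :=
  ⟨{i}, by rw [Category.assoc, ι_e_mem P {i} i (Finset.mem_singleton_self i)]⟩

section Main

variable {I' : Type w} (Q : I' → A) (ψ : ∐ Q ⟶ ∐ P)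
  (hfin : ∀ j, FinSupp P (Sigma.ι Q j ≫ ψ))

/-- the index category -/
abbrev Idx : Type w :=
  {l : Finset I × Finset I' // ∀ j ∈ l.2, (Sigma.ι Q j ≫ ψ) ≫ e P l.1 = Sigma.ι Q j ≫ ψ}

instance : Nonempty (Idx P Q ψ) := ⟨⟨(∅, ∅), fun j hj => absurd hj (Finset.notMem_empty j)⟩⟩

open Classical in
instance : IsDirected (Idx P Q ψ) (· ≤ ·) where
  directed := by
    rintro ⟨⟨S, T⟩, h⟩ ⟨⟨S', T'⟩, h'⟩
    refine ⟨⟨(S ∪ S', T ∪ T'), ?_⟩, ⟨Finset.subset_union_left, Finset.subset_union_left⟩,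
      ⟨Finset.subset_union_right, Finset.subset_union_right⟩⟩
    intro j hj
    rcases Finset.mem_union.1 hj with hj | hj
    · exact eq_of_le P _ Finset.subset_union_left (h j hj)
    · exact eq_of_le P _ Finset.subset_union_right (h' j hj)

instance : IsFiltered (Idx P Q ψ) := isFiltered_of_directed_le_nonempty _

variable {P Q ψ}

/-- the finite piece of `ψ` -/
noncomputable def psi (l : Idx P Q ψ) : PS Q l.1.2 ⟶ PS P l.1.1 :=
  inc Q l.1.2 ≫ ψ ≫ prj P l.1.1

lemma psi_inc (l : Idx P Q ψ) : psi l ≫ inc P l.1.1 = inc Q l.1.2 ≫ ψ := by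
  apply Sigma.hom_ext
  intro j
  unfold psi
  simp only [Category.assoc, ι_inc_assoc]
  have h := l.2 j.1 j.2
  unfold e at h
  rw [Category.assoc] at h
  exact h

lemma psi_incLE {l l' : Idx P Q ψ} (h : l ≤ l') :
    psi l ≫ incLE P h.1 = incLE Q h.2 ≫ psi l' := by
  have h1 : psi l ≫ incLE P h.1 = (psi l ≫ inc P l.1.1) ≫ prj P l'.1.1 := by
    rw [Category.assoc, inc_prj_of_le P h.1]
  rw [h1, psi_inc]
  unfold psi
  rw [incLE_inc_assoc, Category.assoc]

variable (P Q ψ)

/-- the diagram of cokernels of the finite pieces -/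
noncomputable abbrev D : Idx P Q ψ ⥤ A where
  obj l := cokernel (psi l)
  map {l l'} h := cokernel.map (psi l) (psi l') (incLE Q (leOfHom h).2) (incLE P (leOfHom h).1)
    (psi_incLE (leOfHom h))
  map_id l := by
    apply coequalizer.hom_ext
    rw [cokernel.π_desc, incLE_refl, Category.id_comp]
    exact (Category.comp_id _).symm
  map_comp {l l' l''} h h' := by
    apply coequalizer.hom_ext
    rw [cokernel.π_desc, cokernel.π_desc_assoc, Category.assoc, cokernel.π_desc,
      incLE_trans_assoc]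

variable {P Q ψ}

@[reassoc]
lemma π_D_map {l l' : Idx P Q ψ} (h : l ⟶ l') :
    cokernel.π (psi l) ≫ (D P Q ψ).map h = incLE P (leOfHom h).1 ≫ cokernel.π (psi l') :=
  cokernel.π_desc _ _ _

variable {F : A} (p : ∐ P ⟶ F) (w : ψ ≫ p = 0)

include w in
lemma psi_inc_p (l : Idx P Q ψ) : psi l ≫ inc P l.1.1 ≫ p = 0 := by
  rw [← Category.assoc, psi_inc, Category.assoc, w, comp_zero]

/-- the cocone on `F` -/
noncomputable def coconeι : D P Q ψ ⟶ (Functor.const _).obj F where
  app l := cokernel.desc (psi l) (inc P l.1.1 ≫ p) (psi_inc_p p w l)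
  naturality l l' h := by
    apply coequalizer.hom_ext
    dsimp only [Functor.const_obj_obj, Functor.const_obj_map]
    rw [Category.comp_id, cokernel.π_desc]
    erw [cokernel.π_desc_assoc]
    rw [Category.assoc, cokernel.π_desc, incLE_inc_assoc]

@[reassoc]
lemma π_coconeι (l : Idx P Q ψ) :
    cokernel.π (psi l) ≫ (coconeι p w).app l = inc P l.1.1 ≫ p := cokernel.π_desc _ _ _

/-- the index `({i}, ∅)` -/
abbrev single (i : I) : Idx P Q ψ := ⟨({i}, ∅), fun j hj => absurd hj (Finset.notMem_empty j)⟩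

/-- the inclusion of `P i` in the finite subsum of the index `({i}, ∅)` -/
noncomputable def ιs (i : I) : P i ⟶ PS P ({i} : Finset I) :=
  Sigma.ι (fun k : ({i} : Finset I) => P k.1) ⟨i, Finset.mem_singleton_self i⟩

lemma ιs_inc (i : I) : ιs i ≫ inc P ({i} : Finset I) = Sigma.ι P i := ι_inc P _ _

include hfin in
variable (hp : IsColimit (CokernelCofork.ofπ p w))

/-- the colimit property -/
noncomputable def isColimit (hfin : ∀ j, FinSupp P (Sigma.ι Q j ≫ ψ))
    (hp : IsColimit (CokernelCofork.ofπ p w)) :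
    IsColimit (Cocone.mk F (coconeι p w)) := by
  haveI : Epi p := epi_of_isColimit_cofork hp
  -- the induced map on the big sum
  let a : ∀ s : Cocone (D P Q ψ), ∐ P ⟶ s.pt := fun s =>
    Sigma.desc (fun i => ιs i ≫ cokernel.π (psi (single (Q := Q) (ψ := ψ) i)) ≫ s.ι.app (single i))
  have ha : ∀ (s : Cocone (D P Q ψ)) (l : Idx P Q ψ),
      inc P l.1.1 ≫ a s = cokernel.π (psi l) ≫ s.ι.app l := by
    intro s l
    apply Sigma.hom_ext
    intro i
    have hle : single (Q := Q) (ψ := ψ) i.1 ≤ l :=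
      ⟨Finset.singleton_subset_iff.2 i.2, Finset.empty_subset _⟩
    have h1 := s.w (homOfLE hle)
    have h2 : cokernel.π (psi (single (Q := Q) (ψ := ψ) i.1)) ≫ (D P Q ψ).map (homOfLE hle) =
        incLE P hle.1 ≫ cokernel.π (psi l) := π_D_map (homOfLE hle)
    have h3 : ιs i.1 ≫ incLE P hle.1 = Sigma.ι (fun i : l.1.1 => P i.1) i := ι_incLE P _ _
    rw [ι_inc_assoc, Sigma.ι_desc, ← h1]
    calc ιs i.1 ≫ cokernel.π (psi (single (Q := Q) (ψ := ψ) i.1)) ≫
          (D P Q ψ).map (homOfLE hle) ≫ s.ι.app l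
        = ιs i.1 ≫ (cokernel.π (psi (single (Q := Q) (ψ := ψ) i.1)) ≫
          (D P Q ψ).map (homOfLE hle)) ≫ s.ι.app l := by
          simp only [Category.assoc]
      _ = (ιs i.1 ≫ incLE P hle.1) ≫ cokernel.π (psi l) ≫ s.ι.app l := by
          rw [h2]
          simp only [Category.assoc]
      _ = _ := by rw [h3]
  have hψa : ∀ s : Cocone (D P Q ψ), ψ ≫ a s = 0 := by
    intro s
    apply Sigma.hom_ext
    intro j
    obtain ⟨S, hS⟩ := hfin j
    have hmem : ∀ j' ∈ ({j} : Finset I'),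
        (Sigma.ι Q j' ≫ ψ) ≫ e P S = Sigma.ι Q j' ≫ ψ := fun j' hj' => by
      rw [Finset.mem_singleton] at hj'
      subst hj'
      exact hS
    have h1 : Sigma.ι Q j = Sigma.ι (fun k : ({j} : Finset I') => Q k.1)
        ⟨j, Finset.mem_singleton_self j⟩ ≫ inc Q ({j} : Finset I') :=
      (ι_inc Q ({j} : Finset I') ⟨j, Finset.mem_singleton_self j⟩).symm
    have h2 : inc Q ({j} : Finset I') ≫ ψ =
        psi (⟨(S, {j}), hmem⟩ : Idx P Q ψ) ≫ inc P S :=
      (psi_inc (⟨(S, {j}), hmem⟩ : Idx P Q ψ)).symm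
    have h3 : inc P S ≫ a s = cokernel.π (psi (⟨(S, {j}), hmem⟩ : Idx P Q ψ)) ≫
        s.ι.app ⟨(S, {j}), hmem⟩ := ha s ⟨(S, {j}), hmem⟩
    rw [comp_zero]
    calc Sigma.ι Q j ≫ ψ ≫ a s
        = Sigma.ι (fun k : ({j} : Finset I') => Q k.1) ⟨j, Finset.mem_singleton_self j⟩ ≫
            (inc Q ({j} : Finset I') ≫ ψ) ≫ a s := by
          rw [h1]
          simp only [Category.assoc]
      _ = Sigma.ι (fun k : ({j} : Finset I') => Q k.1) ⟨j, Finset.mem_singleton_self j⟩ ≫
            psi (⟨(S, {j}), hmem⟩ : Idx P Q ψ) ≫ (inc P S ≫ a s) := by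
          rw [h2]
          simp only [Category.assoc]
      _ = 0 := by
          rw [h3, cokernel.condition_assoc, zero_comp, comp_zero]
  refine
    { desc := fun s => hp.desc (CokernelCofork.ofπ (a s) (hψa s))
      fac := fun s l => ?_
      uniq := fun s m hm => ?_ }
  · have h1 : p ≫ hp.desc (CokernelCofork.ofπ (a s) (hψa s)) = a s :=
      Cofork.IsColimit.π_desc hp
    apply coequalizer.hom_ext
    have h3 : cokernel.π (psi l) ≫ (coconeι p w).app l = inc P l.1.1 ≫ p := π_coconeι p w l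
    change cokernel.π (psi l) ≫ (coconeι p w).app l ≫ _ = _
    rw [← Category.assoc, h3, Category.assoc, h1, ha]
  · have h1 : p ≫ hp.desc (CokernelCofork.ofπ (a s) (hψa s)) = a s :=
      Cofork.IsColimit.π_desc hp
    rw [← cancel_epi p, h1]
    apply Sigma.hom_ext
    intro i
    have h2 := hm (single i)
    change (coconeι p w).app (single i) ≫ m = _ at h2
    have h3 : cokernel.π (psi (single (Q := Q) (ψ := ψ) i)) ≫ (coconeι p w).app (single i) =
        inc P ({i} : Finset I) ≫ p := π_coconeι p w (single i)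
    rw [Sigma.ι_desc, ← h2]
    calc Sigma.ι P i ≫ p ≫ m = (ιs i ≫ inc P ({i} : Finset I)) ≫ p ≫ m := by rw [ιs_inc]
      _ = ιs i ≫ (cokernel.π (psi (single (Q := Q) (ψ := ψ) i)) ≫
            (coconeι p w).app (single i)) ≫ m := by
          rw [h3]
          simp only [Category.assoc]
      _ = _ := by simp only [Category.assoc]

end Main

end Groth.Agent.Helper3.FiltCoker
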