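import Mathlib

set_option autoImplicit false
universe u
open CategoryTheory CategoryTheory.Limits

namespace Groth.Agent.Helper3.FiltFree

variable {R : Type u} [CommRing R] {J : Type u} [SmallCategory J] [IsFiltered J]
  (F : J ⥤ ModuleCat.{u} R) (c : Cocone F) (hc : IsColimit c)

include hc in
lemma exists_rep (x : c.pt) : ∃ (j : J) (y : F.obj j), (c.ι.app j).hom y = x :=
  Concrete.isColimit_exists_rep F hc x

include hc in
lemma exists_eq {j : J} (x y : F.obj j) (h : (c.ι.app j).hom x = (c.ι.app j).hom y) :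
    ∃ (j' : J) (f : j ⟶ j'), (F.map f).hom x = (F.map f).hom y := by
  obtain ⟨k, f, g, hfg⟩ := Concrete.isColimit_exists_of_rep_eq F hc x y h
  refine ⟨IsFiltered.coeq f g, f ≫ IsFiltered.coeqHom f g, ?_⟩
  have h1 : (F.map (f ≫ IsFiltered.coeqHom f g)).hom x =
      (F.map (IsFiltered.coeqHom f g)).hom ((F.map f).hom x) := by
    rw [F.map_comp]; rfl
  have h2 : (F.map (f ≫ IsFiltered.coeqHom f g)).hom y =
      (F.map (IsFiltered.coeqHom f g)).hom ((F.map g).hom y) := by
    rw [IsFiltered.coeq_condition f g, F.map_comp]; rfl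
  rw [h1, h2]
  exact congrArg _ hfg

lemma ι_map {j j' : J} (f : j ⟶ j') (x : F.obj j) :
    (c.ι.app j').hom ((F.map f).hom x) = (c.ι.app j).hom x := by
  have := c.w f
  rw [← this]; rfl

variable (P : ModuleCat.{u} R) [Module.Finite R P] [Module.Free R P]

include hc in
/-- maps from a finite free module into a filtered colimit lift to a stage -/
theorem exists_lift (φ : P ⟶ c.pt) : ∃ (j : J) (ψ : P ⟶ F.obj j), ψ ≫ c.ι.app j = φ := by
  classical
  let b := Module.Free.chooseBasis R P
  have key : ∀ s : Finset (Module.Free.ChooseBasisIndex R P),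
      ∃ j : J, ∀ i ∈ s, ∃ y : F.obj j, (c.ι.app j).hom y = φ.hom (b i) := by
    intro s
    induction s using Finset.induction_on with
    | empty => exact ⟨IsFiltered.nonempty.some, fun i hi => absurd hi (Finset.notMem_empty i)⟩
    | insert i₀ s _ ih =>
      obtain ⟨j, hj⟩ := ih
      obtain ⟨j₀, y₀, hy₀⟩ := exists_rep F c hc (φ.hom (b i₀))
      refine ⟨IsFiltered.max j j₀, fun i hi => ?_⟩
      rcases Finset.mem_insert.1 hi with rfl | hi
      · exact ⟨(F.map (IsFiltered.rightToMax j j₀)).hom y₀, by rw [ι_map, hy₀]⟩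
      · obtain ⟨y, hy⟩ := hj i hi
        exact ⟨(F.map (IsFiltered.leftToMax j j₀)).hom y, by rw [ι_map, hy]⟩
  obtain ⟨j, hj⟩ := key Finset.univ
  choose y hy using fun i => hj i (Finset.mem_univ i)
  refine ⟨j, ModuleCat.ofHom (b.constr R y), ?_⟩
  ext : 1
  refine b.ext (fun i => ?_)
  change (c.ι.app j).hom (b.constr R y (b i)) = φ.hom (b i)
  rw [Module.Basis.constr_basis, hy]

include hc in
/-- two maps from a finite free module agreeing in the colimit agree at a later stage -/
theorem exists_eq_hom {j : J} (φ₁ φ₂ : P ⟶ F.obj j) (h : φ₁ ≫ c.ι.app j = φ₂ ≫ c.ι.app j) :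
    ∃ (j' : J) (f : j ⟶ j'), φ₁ ≫ F.map f = φ₂ ≫ F.map f := by
  classical
  let b := Module.Free.chooseBasis R P
  have key : ∀ s : Finset (Module.Free.ChooseBasisIndex R P),
      ∃ (j' : J) (f : j ⟶ j'), ∀ i ∈ s,
        (F.map f).hom (φ₁.hom (b i)) = (F.map f).hom (φ₂.hom (b i)) := by
    intro s
    induction s using Finset.induction_on with
    | empty => exact ⟨j, 𝟙 j, fun i hi => absurd hi (Finset.notMem_empty i)⟩
    | insert i₀ s _ ih =>
      obtain ⟨j', f, hf⟩ := ih
      have h0 : (c.ι.app j').hom ((F.map f).hom (φ₁.hom (b i₀))) =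
          (c.ι.app j').hom ((F.map f).hom (φ₂.hom (b i₀))) := by
        rw [ι_map, ι_map]
        exact congrArg (fun (g : P ⟶ c.pt) => g.hom (b i₀)) h
      obtain ⟨j'', g, hg⟩ := exists_eq F c hc _ _ h0
      refine ⟨j'', f ≫ g, fun i hi => ?_⟩
      have e1 : ∀ x : F.obj j, (F.map (f ≫ g)).hom x = (F.map g).hom ((F.map f).hom x) := by
        intro x; rw [F.map_comp]; rfl
      rw [e1, e1]
      rcases Finset.mem_insert.1 hi with rfl | hi
      · exact hg
      · rw [hf i hi]
  obtain ⟨j', f, hf⟩ := key Finset.univ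
  refine ⟨j', f, ?_⟩
  ext : 1
  refine b.ext (fun i => ?_)
  exact hf i (Finset.mem_univ i)

end Groth.Agent.Helper3.FiltFree
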