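import Mathlib

/-!
# A free subalgebra with nonzero conductor inside a finite extension of domains
-/

set_option autoImplicit false

namespace Groth.Agent.Helper3.FinDesc

open TensorProduct

/-- For a finite injective extension `R ⊆ S` of domains there are a subalgebra `R₁ ⊆ S`, free
as an `R`-module, and `f ≠ 0` in `R` with `f S ⊆ R₁`. -/
theorem exists_free_subalgebra {R S : Type*} [CommRing R] [IsDomain R] [CommRing S] [IsDomain S]
    [Algebra R S] [Module.Finite R S] (hinj : Function.Injective (algebraMap R S)) :
    ∃ (R₁ : Subalgebra R S) (f : R), f ≠ 0 ∧ Module.Free R R₁ ∧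
      ∀ s : S, algebraMap R S f * s ∈ R₁ := by
  classical
  have htf : ∀ (r : R) (s : S), r • s = 0 → r = 0 ∨ s = 0 := by
    intro r s h
    rw [Algebra.smul_def, mul_eq_zero] at h
    rcases h with h | h
    · left; exact hinj (by rw [h, map_zero])
    · right; exact h
  obtain ⟨m, v, hv⟩ := Module.Finite.exists_fin (R := R) (M := S)
  set W : Submodule R S := Submodule.span R {(1 : S)} with hW
  let vb : Fin m → S ⧸ W := fun j => Submodule.Quotient.mk (v j)
  obtain ⟨I, hI, hmax⟩ := exists_maximal_linearIndepOn R vb
  haveI : Fintype I := Fintype.ofFinite I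
  -- independence of `1` together with the `v i`, `i ∈ I`
  have hind : ∀ (c : R) (g : I → R), c • (1 : S) + ∑ i, g i • v i = 0 →
      c = 0 ∧ ∀ i, g i = 0 := by
    intro c g h
    have h1 : ∑ i : I, g i • vb i = 0 := by
      have h2 := congrArg (Submodule.mkQ W) h
      rw [map_add, map_zero, map_sum] at h2
      have h0 : Submodule.mkQ W (c • (1 : S)) = 0 := by
        rw [Submodule.mkQ_apply, Submodule.Quotient.mk_eq_zero]
        exact Submodule.smul_mem _ _ (Submodule.mem_span_singleton_self _)
      rw [h0, zero_add] at h2
      rw [← h2]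
      refine Finset.sum_congr rfl fun i _ => ?_
      rw [map_smul]
      rfl
    have h2 : ∀ i, g i = 0 := fun i => (Fintype.linearIndependent_iff.mp hI) g h1 i
    refine ⟨?_, h2⟩
    simp only [h2, zero_smul, Finset.sum_const_zero, add_zero] at h
    rcases htf c 1 h with h | h
    · exact h
    · exact absurd h one_ne_zero
  set F : Submodule R S := Submodule.span R ({1} ∪ v '' I) with hF
  -- multiples of the generators in `F`
  have hmult : ∀ j : Fin m, ∃ a : R, a ≠ 0 ∧ a • v j ∈ F := by
    intro j
    by_cases hj : j ∈ I
    · exact ⟨1, one_ne_zero, by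
        rw [one_smul]; exact Submodule.subset_span (Or.inr ⟨j, hj, rfl⟩)⟩
    · obtain ⟨a, ha, hmem⟩ := hmax j hj
      refine ⟨a, ha, ?_⟩
      have h1 : vb '' I = (Submodule.mkQ W) '' (v '' I) := by
        rw [Set.image_image]
        rfl
      rw [h1, ← Submodule.map_span] at hmem
      obtain ⟨y, hy, hyz⟩ := hmem
      have h2 : a • v j - y ∈ W := by
        rw [← Submodule.Quotient.mk_eq_zero, Submodule.Quotient.mk_sub]
        have : (Submodule.Quotient.mk (a • v j) : S ⧸ W) = a • vb j := rfl
        rw [this, ← hyz]
        simp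
      have h3 : a • v j = (a • v j - y) + y := by abel
      rw [h3, hF, Submodule.span_union]
      exact Submodule.add_mem_sup h2 hy
  choose a ha ham using hmult
  set f₀ : R := ∏ j, a j with hf₀
  have hf₀ne : f₀ ≠ 0 := Finset.prod_ne_zero_iff.mpr fun j _ => ha j
  have hfS : ∀ s : S, f₀ • s ∈ F := by
    intro s
    have hs : s ∈ Submodule.span R (Set.range v) := by rw [hv]; trivial
    induction hs using Submodule.span_induction with
    | mem z hz =>
      obtain ⟨j, rfl⟩ := hz
      have : f₀ • v j = (∏ k ∈ Finset.univ.erase j, a k) • (a j • v j) := by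
        rw [smul_smul, hf₀, ← Finset.mul_prod_erase Finset.univ a (Finset.mem_univ j), mul_comm]
      rw [this]
      exact F.smul_mem _ (ham j)
    | zero => rw [smul_zero]; exact F.zero_mem
    | add x y _ _ hx hy => rw [smul_add]; exact F.add_mem hx hy
    | smul r x _ hx => rw [smul_comm]; exact F.smul_mem _ hx
  -- the free family
  let u : Option I → S := fun o => o.elim 1 (fun i => f₀ • v i)
  have hu : LinearIndependent R u := by
    rw [Fintype.linearIndependent_iff]
    intro g hg
    rw [Fintype.sum_option] at hg
    have hg' : g none • (1 : S) + ∑ i : I, (g (some i) * f₀) • v i = 0 := by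
      rw [← hg]
      congr 1
      refine Finset.sum_congr rfl fun i _ => ?_
      simp [u, mul_smul]
    obtain ⟨h1, h2⟩ := hind _ _ hg'
    intro o
    cases o with
    | none => exact h1
    | some i =>
      rcases mul_eq_zero.mp (h2 i) with h | h
      · exact h
      · exact absurd h hf₀ne
  set N : Submodule R S := Submodule.span R (Set.range u) with hN
  have h1N : (1 : S) ∈ N := Submodule.subset_span ⟨none, rfl⟩
  have hfF : ∀ z ∈ F, f₀ • z ∈ N := by
    intro z hz
    rw [hF] at hz
    induction hz using Submodule.span_induction with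
    | mem z hz =>
      rcases hz with hz | ⟨i, hi, rfl⟩
      · rw [Set.mem_singleton_iff.mp hz]
        exact N.smul_mem _ h1N
      · exact Submodule.subset_span ⟨some ⟨i, hi⟩, rfl⟩
    | zero => rw [smul_zero]; exact N.zero_mem
    | add x y _ _ hx hy => rw [smul_add]; exact N.add_mem hx hy
    | smul r x _ hx => rw [smul_comm]; exact N.smul_mem _ hx
  have hmulN : ∀ x y : S, x ∈ N → y ∈ N → x * y ∈ N := by
    have hle : N * N ≤ N := by
      rw [hN, Submodule.span_mul_span, Submodule.span_le]
      rintro _ ⟨_, ⟨o, rfl⟩, _, ⟨o', rfl⟩, rfl⟩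
      cases o with
      | none =>
        show (1 : S) * u o' ∈ N
        rw [one_mul]
        exact Submodule.subset_span ⟨o', rfl⟩
      | some i =>
        cases o' with
        | none =>
          show u (some i) * (1 : S) ∈ N
          rw [mul_one]
          exact Submodule.subset_span ⟨some i, rfl⟩
        | some i' =>
          show (f₀ • v i) * (f₀ • v i') ∈ N
          have : (f₀ • v i) * (f₀ • v i') = f₀ • (f₀ • (v i * v i')) := by
            rw [smul_mul_smul_comm, mul_smul]
          rw [this]
          exact hfF _ (hfS _)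
    intro x y hx hy
    exact hle (Submodule.mul_mem_mul hx hy)
  let R₁ : Subalgebra R S := N.toSubalgebra h1N hmulN
  refine ⟨R₁, f₀ * f₀, mul_ne_zero hf₀ne hf₀ne, ?_, ?_⟩
  · let e : N ≃ₗ[R] R₁ :=
      { toFun := fun x => ⟨x.1, x.2⟩
        invFun := fun x => ⟨x.1, x.2⟩
        map_add' := fun _ _ => rfl
        map_smul' := fun _ _ => rfl
        left_inv := fun _ => rfl
        right_inv := fun _ => rfl }
    haveI : Module.Free R N := Module.Free.of_basis (Module.Basis.span hu)
    exact Module.Free.of_equiv e
  · intro s
    show algebraMap R S (f₀ * f₀) * s ∈ N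
    have : algebraMap R S (f₀ * f₀) * s = f₀ • (f₀ • s) := by
      rw [Algebra.smul_def, Algebra.smul_def, map_mul, mul_assoc]
    rw [this]
    exact hfF _ (hfS s)

end Groth.Agent.Helper3.FinDesc
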