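import Mathlib
import Groth.Agent.Lib.Helper3.FinDesc1
import Groth.Agent.Lib.Helper3.FinDesc2

/-!
# Descent of flatness along finite injective maps of Noetherian rings
-/

set_option autoImplicit false

namespace Groth.Agent.Helper3.FinDesc

open TensorProduct Groth.Agent.Helper1.LocalCrit

universe u

/-- The descent property for a ring `R`: flatness descends along every finite injective
`R`-algebra. -/
def Good (R : Type u) [CommRing R] : Prop :=
  ∀ (S : Type u) [CommRing S] [Algebra R S] [Module.Finite R S],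
    Function.Injective (algebraMap R S) →
    ∀ (M : Type u) [AddCommGroup M] [Module R M], Module.Flat S (S ⊗[R] M) → Module.Flat R M

section Quot

variable {R S : Type u} [CommRing R] [CommRing S] [Algebra R S] [Module.Finite R S]
  (M : Type u) [AddCommGroup M] [Module R M] [Module.Flat S (S ⊗[R] M)]

/-- Flatness modulo a contracted ideal, from the descent property of the quotient. -/
theorem flat_quotient_of_good (𝔄 : Ideal S) (hg : Good (R ⧸ 𝔄.comap (algebraMap R S))) :
    Module.Flat (R ⧸ 𝔄.comap (algebraMap R S)) ((R ⧸ 𝔄.comap (algebraMap R S)) ⊗[R] M) := by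
  haveI : Module.Finite (R ⧸ 𝔄.comap (algebraMap R S)) (S ⧸ 𝔄) :=
    Module.Finite.of_restrictScalars_finite R _ _
  apply hg (S ⧸ 𝔄) Ideal.algebraMap_quotient_injective
  let e1 := AlgebraTensorModule.cancelBaseChange R (R ⧸ 𝔄.comap (algebraMap R S)) (S ⧸ 𝔄)
    (S ⧸ 𝔄) M
  let e2 := AlgebraTensorModule.cancelBaseChange R S (S ⧸ 𝔄) (S ⧸ 𝔄) M
  exact Module.Flat.of_linearEquiv (e1.trans e2.symm)

/-- Variant for an ideal equal to a contracted ideal. -/
theorem flat_quotient_of_good' (hq : ∀ 𝔞 : Ideal R, 𝔞 ≠ ⊥ → Good (R ⧸ 𝔞)) (𝔞 : Ideal R)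
    (h𝔞 : 𝔞 ≠ ⊥) (𝔄 : Ideal S) (h : 𝔞 = 𝔄.comap (algebraMap R S)) :
    Module.Flat (R ⧸ 𝔞) ((R ⧸ 𝔞) ⊗[R] M) := by
  subst h
  exact flat_quotient_of_good M 𝔄 (hq _ h𝔞)

end Quot

section Domain

variable {R S : Type u} [CommRing R] [CommRing S] [Algebra R S] [Module.Finite R S]
  (M : Type u) [AddCommGroup M] [Module R M] [Module.Flat S (S ⊗[R] M)]

/-- The domain case, when `S` is a domain as well. -/
theorem flat_of_domain_aux [IsDomain R] [IsDomain S] (hinj : Function.Injective (algebraMap R S))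
    (hq : ∀ 𝔞 : Ideal R, 𝔞 ≠ ⊥ → Good (R ⧸ 𝔞)) : Module.Flat R M := by
  obtain ⟨R₁, f, hf, hfree, hfS⟩ := exists_free_subalgebra hinj
  set P : Ideal S := Ideal.span {algebraMap R S f} with hP
  set I₁ : Ideal R₁ := P.comap (algebraMap R₁ S) with hI₁
  have hinj₁ : Function.Injective (algebraMap R₁ S) := Subtype.val_injective
  have hPR₁ : ∀ z ∈ P, z ∈ R₁ := by
    intro z hz
    obtain ⟨t, rfl⟩ := Ideal.mem_span_singleton'.mp hz
    rw [mul_comm]
    exact hfS t
  have hI : ∀ (s : S) (i : R₁), i ∈ I₁ →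
      ∃ r ∈ I₁, algebraMap R₁ S r = s * algebraMap R₁ S i := by
    intro s i hi
    have h1 : s * algebraMap R₁ S i ∈ P := P.mul_mem_left _ hi
    exact ⟨⟨s * algebraMap R₁ S i, hPR₁ _ h1⟩, h1, rfl⟩
  -- flatness over `S`
  haveI : Module.Flat S (S ⊗[R₁] (R₁ ⊗[R] M)) :=
    Module.Flat.of_linearEquiv (AlgebraTensorModule.cancelBaseChange R R₁ S S M)
  -- flatness over `R₁ / I₁`
  set 𝔞 : Ideal R := I₁.comap (algebraMap R R₁) with h𝔞
  have h𝔞ne : 𝔞 ≠ ⊥ := by
    intro h
    have : f ∈ 𝔞 := by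
      show algebraMap R₁ S (algebraMap R R₁ f) ∈ P
      exact Ideal.subset_span rfl
    rw [h] at this
    exact hf this
  haveI : Module.Flat (R ⧸ 𝔞) ((R ⧸ 𝔞) ⊗[R] M) :=
    flat_quotient_of_good' M hq 𝔞 h𝔞ne P (by ext r; rfl)
  haveI : Module.Flat (R₁ ⧸ I₁) ((R₁ ⧸ I₁) ⊗[R₁] (R₁ ⊗[R] M)) := by
    let e1 := AlgebraTensorModule.cancelBaseChange R R₁ (R₁ ⧸ I₁) (R₁ ⧸ I₁) M
    let e2 := AlgebraTensorModule.cancelBaseChange R (R ⧸ 𝔞) (R₁ ⧸ I₁) (R₁ ⧸ I₁) M
    exact Module.Flat.of_linearEquiv (e1.trans e2.symm)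
  haveI : Module.Flat R₁ (R₁ ⊗[R] M) := flat_of_conductor hinj₁ I₁ hI (R₁ ⊗[R] M)
  exact Module.Flat.of_flat_tensorProduct R M R₁

/-- The domain case. -/
theorem flat_of_domain [IsDomain R] (hinj : Function.Injective (algebraMap R S))
    (hq : ∀ 𝔞 : Ideal R, 𝔞 ≠ ⊥ → Good (R ⧸ 𝔞)) : Module.Flat R M := by
  have hdisj : Disjoint ((⊥ : Ideal S) : Set S)
      (Algebra.algebraMapSubmonoid S (nonZeroDivisors R) : Set S) := by
    rw [Set.disjoint_left]
    rintro z hz ⟨r, hr, rfl⟩
    have h0 : algebraMap R S r = 0 := hz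
    have : r = 0 := hinj (by rw [h0, map_zero])
    exact nonZeroDivisors.ne_zero hr this
  obtain ⟨q, hqp, -, hqd⟩ := Ideal.exists_le_prime_disjoint ⊥ _ hdisj
  haveI := hqp
  have hcomap : ∀ r : R, algebraMap R S r ∈ q → r = 0 := by
    intro r hr
    by_contra h0
    exact Set.disjoint_left.mp hqd hr ⟨r, mem_nonZeroDivisors_of_ne_zero h0, rfl⟩
  have hinj' : Function.Injective (algebraMap R (S ⧸ q)) := by
    rw [injective_iff_map_eq_zero]
    intro r hr
    apply hcomap
    rw [← Ideal.Quotient.eq_zero_iff_mem]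
    exact hr
  haveI : Module.Flat (S ⧸ q) ((S ⧸ q) ⊗[R] M) :=
    Module.Flat.of_linearEquiv (AlgebraTensorModule.cancelBaseChange R S (S ⧸ q) (S ⧸ q) M).symm
  exact flat_of_domain_aux (S := S ⧸ q) M hinj' hq

end Domain

section Step

variable {R S : Type u} [CommRing R] [CommRing S] [Algebra R S] [Module.Finite R S]
  (M : Type u) [AddCommGroup M] [Module R M] [Module.Flat S (S ⊗[R] M)]

/-- The contracted annihilator of an element. -/
theorem mem_comap_annihilator_span (hinj : Function.Injective (algebraMap R S)) (x r : R) :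
    r ∈ ((Ideal.span {algebraMap R S x}).annihilator).comap (algebraMap R S) ↔ r * x = 0 := by
  rw [Ideal.mem_comap, Submodule.mem_annihilator_span_singleton, smul_eq_mul, ← map_mul]
  constructor
  · intro h
    exact hinj (by rw [h, map_zero])
  · intro h
    rw [h, map_zero]

/-- The reduced, non-domain case. -/
theorem flat_of_reduced [IsReduced R] (hinj : Function.Injective (algebraMap R S))
    (hq : ∀ 𝔞 : Ideal R, 𝔞 ≠ ⊥ → Good (R ⧸ 𝔞)) (x y : R) (hx : x ≠ 0) (hy : y ≠ 0)
    (hxy : x * y = 0) : Module.Flat R M := by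
  set 𝔄₁ : Ideal S := (Ideal.span {algebraMap R S x}).annihilator with h𝔄₁
  set I₁ : Ideal R := 𝔄₁.comap (algebraMap R S) with hI₁
  set 𝔄₂ : Ideal S := (I₁.map (algebraMap R S)).annihilator with h𝔄₂
  set I₂ : Ideal R := 𝔄₂.comap (algebraMap R S) with hI₂
  have hmem₁ : ∀ r, r ∈ I₁ ↔ r * x = 0 := mem_comap_annihilator_span hinj x
  have hyI₁ : y ∈ I₁ := (hmem₁ y).mpr (by rw [mul_comm]; exact hxy)
  have hxI₂ : x ∈ I₂ := by
    show algebraMap R S x ∈ (I₁.map (algebraMap R S)).annihilator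
    rw [Submodule.mem_annihilator]
    intro z hz
    unfold Ideal.map at hz
    induction hz using Submodule.span_induction with
    | mem z hz =>
      obtain ⟨i, hi, rfl⟩ := hz
      rw [smul_eq_mul, ← map_mul, mul_comm, (hmem₁ i).mp hi, map_zero]
    | zero => rw [smul_zero]
    | add a b _ _ ha hb => rw [smul_add, ha, hb, add_zero]
    | smul s a _ ha => rw [smul_comm, ha, smul_zero]
  have hinf : I₁ ⊓ I₂ = ⊥ := by
    rw [eq_bot_iff]
    rintro z ⟨hz1, hz2⟩
    have h1 : algebraMap R S z ∈ (I₁.map (algebraMap R S)).annihilator := hz2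
    rw [Submodule.mem_annihilator] at h1
    have h2 := h1 _ (Ideal.mem_map_of_mem _ hz1)
    rw [smul_eq_mul, ← map_mul] at h2
    have h3 : z * z = 0 := hinj (by rw [h2, map_zero])
    have h4 : IsNilpotent z := ⟨2, by rw [pow_two, h3]⟩
    exact h4.eq_zero
  have hI₁ne : I₁ ≠ ⊥ := fun h => hy (by rw [h] at hyI₁; exact hyI₁)
  have hI₂ne : I₂ ≠ ⊥ := fun h => hx (by rw [h] at hxI₂; exact hxI₂)
  haveI : Module.Flat (R ⧸ I₁) ((R ⧸ I₁) ⊗[R] M) := flat_quotient_of_good M 𝔄₁ (hq _ hI₁ne)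
  haveI : Module.Flat (R ⧸ I₂) ((R ⧸ I₂) ⊗[R] M) := flat_quotient_of_good M 𝔄₂ (hq _ hI₂ne)
  exact flat_of_inf_eq_bot I₁ I₂ hinf M

/-- The non-reduced case. -/
theorem flat_of_nilpotent [IsNoetherianRing R] (hinj : Function.Injective (algebraMap R S))
    (hq : ∀ 𝔞 : Ideal R, 𝔞 ≠ ⊥ → Good (R ⧸ 𝔞)) (x : R) (hx : x ≠ 0) (hxn : IsNilpotent x) :
    Module.Flat R M := by
  classical
  set 𝔄 : Ideal S := (Ideal.span {algebraMap R S x}).annihilator with h𝔄
  set 𝔞 : Ideal R := 𝔄.comap (algebraMap R S) with h𝔞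
  have hmem : ∀ r, r ∈ 𝔞 ↔ r * x = 0 := mem_comap_annihilator_span hinj x
  -- a nonzero element killing `x`
  have h𝔞ne : 𝔞 ≠ ⊥ := by
    have hex : ∃ n, x ^ n = 0 := hxn
    have hk := Nat.find_spec hex
    have hk0 : Nat.find hex ≠ 0 := by
      intro h0
      rw [h0, pow_zero] at hk
      have : x = x * 1 := (mul_one x).symm
      rw [hk, mul_zero] at this
      exact hx this
    obtain ⟨k, hk'⟩ := Nat.exists_eq_succ_of_ne_zero hk0
    have hlt : k < Nat.find hex := by omega
    have hne : x ^ k ≠ 0 := Nat.find_min hex hlt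
    intro h
    have : x ^ k ∈ 𝔞 := (hmem _).mpr (by rw [← pow_succ]; rw [hk'] at hk; exact hk)
    rw [h] at this
    exact hne this
  set P : Ideal S := Ideal.span {algebraMap R S x} with hP
  set I : Ideal R := P.comap (algebraMap R S) with hI
  have hxI : x ∈ I := Ideal.subset_span rfl
  have hIne : I ≠ ⊥ := fun h => hx (by rw [h] at hxI; exact hxI)
  haveI : Module.Flat (R ⧸ 𝔞) ((R ⧸ 𝔞) ⊗[R] M) := flat_quotient_of_good M 𝔄 (hq _ h𝔞ne)
  haveI : Module.Flat (R ⧸ I) ((R ⧸ I) ⊗[R] M) := flat_quotient_of_good M P (hq _ hIne)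
  have h1 : Function.Injective (I.subtype.rTensor M) :=
    rTensor_comap_span_injective hinj x 𝔞 (fun a ha => (hmem a).mp ha) M
  -- `I` is nilpotent
  have hInil : I ≤ nilradical R := by
    intro r hr
    obtain ⟨s, hs⟩ := Ideal.mem_span_singleton'.mp hr
    obtain ⟨n, hn⟩ := hxn
    refine ⟨n, hinj ?_⟩
    rw [map_pow, ← hs, mul_pow, ← map_pow, hn, map_zero, mul_zero]
  obtain ⟨n, hn⟩ := IsNoetherianRing.isNilpotent_nilradical R
  have hIn : I ^ n = ⊥ := by
    rw [eq_bot_iff]
    calc I ^ n ≤ nilradical R ^ n := Ideal.pow_right_mono hInil n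
      _ = ⊥ := hn
  exact flat_of_rTensor_injective_of_flat_quotient_of_pow_eq_bot I M h1 n hIn

/-- The inductive step. -/
theorem flat_of_forall_quotient [IsNoetherianRing R] (hinj : Function.Injective (algebraMap R S))
    (hq : ∀ 𝔞 : Ideal R, 𝔞 ≠ ⊥ → Good (R ⧸ 𝔞)) : Module.Flat R M := by
  by_cases hsub : Subsingleton R
  · haveI : Subsingleton M := Module.subsingleton R M
    infer_instance
  haveI : Nontrivial R := not_subsingleton_iff_nontrivial.mp hsub
  by_cases hdom : IsDomain R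
  · exact flat_of_domain M hinj hq
  by_cases hred : IsReduced R
  · have : ∃ x y : R, x ≠ 0 ∧ y ≠ 0 ∧ x * y = 0 := by
      by_contra hcon
      push Not at hcon
      apply hdom
      haveI : NoZeroDivisors R := ⟨fun {a b} hab => by
        by_contra h
        push Not at h
        exact hcon a b h.1 h.2 hab⟩
      exact NoZeroDivisors.to_isDomain R
    obtain ⟨x, y, hx, hy, hxy⟩ := this
    exact flat_of_reduced M hinj hq x y hx hy hxy
  · rw [isReduced_iff] at hred
    push Not at hred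
    obtain ⟨x, hxn, hx⟩ := hred
    exact flat_of_nilpotent M hinj hq x hx hxn

end Step

/-- Noetherian induction. -/
theorem good_of_noetherian (R : Type u) [CommRing R] [IsNoetherianRing R] : Good R := by
  have key : ∀ 𝔞 : Ideal R, ∀ (R' : Type u) [CommRing R'] (π : R →+* R'),
      Function.Surjective π → RingHom.ker π = 𝔞 → Good R' := by
    intro 𝔞
    induction 𝔞 using IsNoetherian.induction with
    | hgt 𝔞 ih =>
      intro R' _ π hπ hker
      haveI : IsNoetherianRing R' := isNoetherianRing_of_surjective R R' π hπ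
      intro S _ _ _ hinj M _ _ hflat
      apply flat_of_forall_quotient M hinj
      intro 𝔞' h𝔞'
      refine ih (RingHom.ker ((Ideal.Quotient.mk 𝔞').comp π)) ?_ (R' ⧸ 𝔞')
        ((Ideal.Quotient.mk 𝔞').comp π)
        (Ideal.Quotient.mk_surjective.comp hπ) rfl
      rw [← hker]
      refine lt_of_le_of_ne ?_ ?_
      · intro r hr
        rw [RingHom.mem_ker] at hr ⊢
        rw [RingHom.comp_apply, hr, map_zero]
      · intro heq
        apply h𝔞'
        rw [eq_bot_iff]
        intro z hz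
        obtain ⟨r, rfl⟩ := hπ z
        have : r ∈ RingHom.ker ((Ideal.Quotient.mk 𝔞').comp π) := by
          rw [RingHom.mem_ker, RingHom.comp_apply, Ideal.Quotient.eq_zero_iff_mem]
          exact hz
        rw [← heq, RingHom.mem_ker] at this
        rw [this]
        exact Ideal.zero_mem _
  exact key ⊥ R (RingHom.id R) Function.surjective_id (by ext; simp [RingHom.mem_ker])

/-- **S6883**. -/
theorem main_S6883 (R S : Type u) [CommRing R] [IsNoetherianRing R] [CommRing S]
    [Algebra R S] [Module.Finite R S] (hinj : Function.Injective (algebraMap R S))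
    (M : Type u) [AddCommGroup M] [Module R M] [Module.Flat S (S ⊗[R] M)] : Module.Flat R M :=
  good_of_noetherian R S hinj M inferInstance

end Groth.Agent.Helper3.FinDesc
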