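import Mathlib
import Groth.Prelude.Def_Wider
import Groth.Prelude.Def_Found
import Groth.Agent.Lib.Helper3.FinEx3

/-!
# A Noetherian ring with a dualizing complex is universally catenary
-/

set_option autoImplicit false
universe u
open CategoryTheory CategoryTheory.Limits DerivedCategory Pretriangulated Triangulated

attribute [local instance] HasDerivedCategory.standard

namespace Groth.Agent.Helper3.FinEx

open Groth.Agent.Helper3.DualSupp

/-- a ring with a dualizing complex is catenary -/
theorem isCatenary_of_isDualizing (A : Type u) [CommRing A] [IsNoetherianRing A] (ω : Dual.D A)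
    (hω : Dual.IsDualizing A ω) : CAlg.IsCatenary A := by
  obtain ⟨j, -, hj⟩ := exists_dimFun hω
  -- along a chain with covering steps, `j` increases by the length
  have key : ∀ s : LTSeries (PrimeSpectrum A),
      (∀ i : Fin s.length, s (Fin.castSucc i) ⋖ s (Fin.succ i)) →
      ∀ k : Fin (s.length + 1), j (s k) = j (s 0) + (k : ℕ) := by
    intro s hs k
    induction k using Fin.induction with
    | zero => simp
    | succ k ih =>
      have h1 := hj _ _ (hs k)
      have h2 : ((k.succ : Fin (s.length + 1)) : ℕ) = (k.castSucc : ℕ) + 1 := by simp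
      rw [h2]
      push_cast
      omega
  -- strict monotonicity of `j`
  have hmono : ∀ p q : PrimeSpectrum A, p < q → j p < j q :=
    fun p q hpq => strictMono_of_covBy j hj p.asIdeal p rfl q hpq
  have key2 : ∀ s : LTSeries (PrimeSpectrum A),
      ∀ k : Fin (s.length + 1), j (s 0) + (k : ℕ) ≤ j (s k) := by
    intro s k
    induction k using Fin.induction with
    | zero => simp
    | succ k ih =>
      have h1 := hmono _ _ (s.step k)
      have h2 : ((k.succ : Fin (s.length + 1)) : ℕ) = (k.castSucc : ℕ) + 1 := by simp
      rw [h2]
      push_cast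
      omega
  refine ⟨fun p q _ => ⟨(j q - j p).toNat, fun s hs ht => ?_⟩, fun s t hst hst' hs ht => ?_⟩
  · have h1 := key2 s (Fin.last s.length)
    have h2 : s 0 = p := hs
    have h3 : s (Fin.last s.length) = q := ht
    rw [h2, h3] at h1
    simp only [Fin.val_last] at h1
    omega
  · have h1 := key s hs (Fin.last s.length)
    have h2 := key t ht (Fin.last t.length)
    have h3 : s 0 = t 0 := hst
    have h4 : s (Fin.last s.length) = t (Fin.last t.length) := hst'
    rw [h3, h4] at h1
    simp only [Fin.val_last] at h1 h2
    omega

theorem main_S1721 (A : Type u) [CommRing A] [IsNoetherianRing A] (ω : Dual.D A)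
    (hω : Dual.IsDualizing A ω) : CAlg.IsUniversallyCatenary A := by
  refine ⟨inferInstance, fun S _ _ hS => ?_⟩
  haveI := hS
  haveI : IsNoetherianRing S := Algebra.FiniteType.isNoetherianRing A S
  obtain ⟨K, hK⟩ := exists_isDualizing_of_finiteType A S ω hω
  exact isCatenary_of_isDualizing S K hK

end Groth.Agent.Helper3.FinEx
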