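import Mathlib
import Groth.Prelude.Def_Wider
import Groth.Prelude.Def_DualLC
import Groth.Prelude.Def_EGA4b
import Groth.Agent.Lib.Helper3.FinEx3
import Groth.Agent.Lib.Helper3.GorLocus
import Groth.Agent.Lib.Helper2.CompleteNoeth

/-!
# Formal fibres of a local ring with a dualizing complex are Gorenstein
-/

set_option autoImplicit false
universe u
open CategoryTheory CategoryTheory.Limits DerivedCategory Pretriangulated Triangulated TensorProduct

attribute [local instance] HasDerivedCategory.standard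

namespace Groth.Agent.Helper3.FinEx

open Groth.Agent.Helper3.BCDual Groth.Agent.Helper3.BCDer Groth.Agent.Helper3.GorBC
  Groth.Agent.Helper3.DualCx Groth.Agent.Helper3.DualFun Groth.Agent.Helper3.DualSupp
  Groth.Agent.Helper3.GorLocus Groth.Agent.Helper3.BCFlat Groth.Agent.Helper8.GorFlat LocCoh

section Quot

variable {C : Type u} [CommRing C] [IsLocalRing C] [IsNoetherianRing C]

/-- if `Ext^•_C(C/J, X)` is `C/J` in one degree for a dualizing complex `X`, then `C/J` is
Gorenstein -/
theorem isGorensteinLocalRing_quot_of_ext (X : Dual.D C) (hX : Dual.IsDualizing C X)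
    (J : Ideal C) (hJ : J ≤ IsLocalRing.maximalIdeal C) (d : ℤ)
    (hvan : ∀ j : ℤ, j ≠ d → Van X j (C ⧸ J))
    (ε : (Dual.inD C (C ⧸ J) ⟶ X⟦d⟧) ≃ₗ[C] C ⧸ J) :
    IsGorensteinLocalRing (C ⧸ J) := by
  haveI : IsLocalRing (C ⧸ J) := isLocalRing_quot J hJ
  haveI : Module.Finite C (C ⧸ J) :=
    Module.Finite.of_surjective (Algebra.linearMap C (C ⧸ J)) Ideal.Quotient.mk_surjective
  obtain ⟨K, hK, ⟨E⟩⟩ := exists_isDualizing_of_finite (B := C ⧸ J) hX
  obtain ⟨dd⟩ := nonempty_data hK
  rw [gorenstein_iff_iso_shift hK]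
  refine ⟨-d, ?_⟩
  rw [nonempty_iso_shift_unit_iff, neg_neg]
  refine ⟨fun i hi => ?_, ?_⟩
  · haveI : Subsingleton (Dual.inD C (C ⧸ J) ⟶ X⟦i⟧) := hvan i hi
    haveI : Subsingleton (Dual.inD (C ⧸ J) (C ⧸ J) ⟶ K⟦i⟧) := (E.e (C ⧸ J) i).toEquiv.subsingleton
    exact (extSelfIso dd i).symm.toEquiv.subsingleton
  · let ψ : (Dual.inD (C ⧸ J) (C ⧸ J) ⟶ K⟦d⟧) ≃ₗ[C ⧸ J] (C ⧸ J) :=
      { (E.e (C ⧸ J) d).trans ε.toAddEquiv with
        map_smul' := fun r f => by
          obtain ⟨c, rfl⟩ := Ideal.Quotient.mk_surjective r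
          show ε (E.e (C ⧸ J) d (Ideal.Quotient.mk J c • f)) =
            Ideal.Quotient.mk J c • ε (E.e (C ⧸ J) d f)
          have h1 := E.smul (C ⧸ J) d c f
          have h2 : (algebraMap C (C ⧸ J) c) = Ideal.Quotient.mk J c := rfl
          rw [h2] at h1
          rw [h1, map_smul]
          rfl }
    exact ⟨(extSelfIso dd d).symm ≪≫ₗ ψ⟩

end Quot

section Fibres

variable {A : Type u} [CommRing A] [IsNoetherianRing A] (B : Type u) [CommRing B] [Algebra A B]
  [Module.Flat A B] [IsNoetherianRing B]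

/-- if the base change of a dualizing complex along a flat map of Noetherian rings is dualizing,
then the fibres are Gorenstein -/
theorem fibLocRing_of_isDualizing_G (ω : Dual.D A) (hω : Dual.IsDualizing A ω)
    (hB : Dual.IsDualizing B ((G (A := A) B).obj ω)) (Q : Ideal B) [Q.IsPrime] :
    IsGorensteinLocalRing (EGA4.FibLocRing A B Q) := by
  haveI : IsNoetherianRing (Localization.AtPrime Q) :=
    IsLocalization.isNoetherianRing Q.primeCompl _ inferInstance
  haveI : Module.Flat B (Localization.AtPrime Q) := IsLocalization.flat _ Q.primeCompl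
  have hX : Dual.IsDualizing (Localization.AtPrime Q)
      ((G (A := B) (Localization.AtPrime Q)).obj ((G (A := A) B).obj ω)) :=
    isDualizing_G_of_isLocalization (Localization.AtPrime Q) Q.primeCompl _ hB
  obtain ⟨d, hvan, ⟨ε⟩⟩ := exists_ext_fibre B ω hω Q
  have hP : ((Q.comap (algebraMap A B)).map (algebraMap A B)).map
      (algebraMap B (Localization.AtPrime Q)) ≤ IsLocalRing.maximalIdeal (Localization.AtPrime Q) := by
    rw [← Localization.AtPrime.map_eq_maximalIdeal]
    exact Ideal.map_mono Ideal.map_comap_le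
  have hG := isGorensteinLocalRing_quot_of_ext _ hX _ hP d hvan ε
  have hP' : (Q.comap (algebraMap A B)).map (algebraMap A (Localization.AtPrime Q)) =
      ((Q.comap (algebraMap A B)).map (algebraMap A B)).map
        (algebraMap B (Localization.AtPrime Q)) := by
    rw [Ideal.map_map, ← IsScalarTower.algebraMap_eq]
  exact isGorensteinLocalRing_of_ringEquiv (Ideal.quotEquivOfEq hP').symm hG

end Fibres

theorem main_S1723 (A : Type u) [CommRing A] [IsLocalRing A] [IsNoetherianRing A] (ω : Dual.D A)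
    (hω : Dual.IsDualizing A ω) (p : PrimeSpectrum A) :
    LocCoh.IsGorensteinRing (EGA4.formalFibre A p.asIdeal) := by
  haveI : IsNoetherianRing (EGA4.Cpl A) :=
    Groth.Agent.Helper2.CompleteNoeth.isNoetherianRing_adicCompletion A _
      (IsNoetherian.noetherian _)
  have hB : Dual.IsDualizing (EGA4.Cpl A) ((G (A := A) (EGA4.Cpl A)).obj ω) := by
    refine isDualizing_G_of_maximal (EGA4.Cpl A) ω hω (fun n hn => ?_)
    refine ⟨IsLocalRing.maximalIdeal A, ?_⟩
    rw [← AdicCompletion.maximalIdeal_eq_map, ← IsLocalRing.eq_maximalIdeal hn]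
    exact Localization.AtPrime.map_eq_maximalIdeal
  exact isGorensteinRing_fiber_of_fibLocRing p.asIdeal
    (fun Q _ _ => fibLocRing_of_isDualizing_G (EGA4.Cpl A) ω hω hB Q)

end Groth.Agent.Helper3.FinEx
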