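import Mathlib
import Groth.Prelude.Def_Coh
import Groth.Prelude.Def_CohTop
import Groth.Agent.Lib.Helper3.FlatBC5
import Groth.Agent.Lib.Helper4.TenSec2

/-!
# Finite projective base change: linear functionals on `B` induce maps `g_* g^* 𝓕 → 𝓕` (helper3)
-/

set_option autoImplicit false
set_option backward.isDefEq.respectTransparency.types false
set_option synthInstance.maxHeartbeats 400000
universe u
open CategoryTheory CategoryTheory.Limits Opposite TopologicalSpace AlgebraicGeometry TensorProduct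

namespace Groth.Agent.Helper3.FinProj

open Groth.Agent.Lead.BCU Groth.Agent.Helper3.FlatExt Groth.Agent.Helper3.FlatBC
open Groth.Agent.Lib.Helper4.BaseChgRing1
open Groth.Agent.Lib.Helper4.TenSec2

section Alg

theorem exists_lam_aux {A B : Type u} [CommRing A] [CommRing B] (alg' alg : Algebra A B)
    (e : alg' = alg)
    {P P' : Type u} [AddCommGroup P] [Module A P] [AddCommGroup P'] [Module B P'] [Module A P']
    (st : @IsScalarTower A B P' alg'.toSMul _ _) (l' : P →ₗ[A] P')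
    (hb : @IsBaseChange A P P' B _ _ _ _ alg' _ _ _ st l')
    (ik : @LinearMap A A _ _ (RingHom.id A) B A _ _ alg.toModule _) :
    ∃ lam : P' →+ P, ∀ (b : B) (s : P), lam (b • l' s) = ik b • s := by
  subst e
  refine ⟨((TensorProduct.lid A P).toLinearMap.comp (LinearMap.rTensor P ik)).toAddMonoidHom.comp
    (hb.equiv.symm.toLinearMap.toAddMonoidHom), ?_⟩
  intro b s
  change (TensorProduct.lid A P) (LinearMap.rTensor P ik (hb.equiv.symm (b • l' s))) = _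
  rw [map_smul, IsBaseChange.equiv_symm_apply, TensorProduct.smul_tmul', smul_eq_mul, mul_one,
    LinearMap.rTensor_tmul, TensorProduct.lid_tmul]

theorem ext_aux {A B : Type u} [CommRing A] [CommRing B] (alg' : Algebra A B)
    {P P' : Type u} [AddCommGroup P] [Module A P] [AddCommGroup P'] [Module B P'] [Module A P']
    (st : @IsScalarTower A B P' alg'.toSMul _ _) (l' : P →ₗ[A] P')
    (hb : @IsBaseChange A P P' B _ _ _ _ alg' _ _ _ st l')
    {Q : Type u} [AddCommGroup Q] (f f' : P' →+ Q)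
    (h : ∀ (b : B) (s : P), f (b • l' s) = f' (b • l' s)) : f = f' := by
  letI := alg'
  ext x
  obtain ⟨z, rfl⟩ := hb.equiv.surjective x
  induction z using TensorProduct.induction_on with
  | zero => simp
  | tmul b s => rw [IsBaseChange.equiv_tmul]; exact h b s
  | add x y hx hy => rw [map_add, map_add, map_add, hx, hy]

/-- a linear functional on `B` induces a map from a base change back to the module -/
theorem exists_lam {A B : Type u} [CommRing A] [CommRing B] [alg : Algebra A B]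
    {P P' : Type u} [AddCommGroup P] [Module A P] [AddCommGroup P'] [Module B P']
    {l : P → P'} (h : IsBC (algebraMap A B) l) (ik : B →ₗ[A] A) :
    ∃ lam : P' →+ P, ∀ (b : B) (s : P), lam (b • l s) = ik b • s := by
  have e : (algebraMap A B).toAlgebra = alg := Algebra.algebra_ext _ _ (fun r => rfl)
  obtain ⟨l', hl', hb⟩ := h
  obtain ⟨lam, hlam⟩ := @exists_lam_aux A B _ _ _ alg e P P' _ _ _ _
    (Module.compHom P' (algebraMap A B)) _ l' hb ik
  refine ⟨lam, fun b s => ?_⟩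
  rw [← hl', hlam]

/-- additive maps out of a base change are determined by their values on the `b • l s` -/
theorem hom_ext_of_isBC {A B : Type u} [CommRing A] [CommRing B] [Algebra A B]
    {P P' : Type u} [AddCommGroup P] [Module A P] [AddCommGroup P'] [Module B P']
    {l : P → P'} (h : IsBC (algebraMap A B) l)
    {Q : Type u} [AddCommGroup Q] (f f' : P' →+ Q)
    (hf : ∀ (b : B) (s : P), f (b • l s) = f' (b • l s)) : f = f' := by
  obtain ⟨l', hl', hb⟩ := h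
  refine @ext_aux A B _ _ _ P P' _ _ _ _ (Module.compHom P' (algebraMap A B)) _ l' hb Q _ f f' ?_
  intro b s
  rw [hl']
  exact hf b s

end Alg

section Geo

variable (A B : Type u) [CommRing A] [CommRing B] [Algebra A B]
  {X X' : Scheme.{u}} [X.Over (Spec (CommRingCat.of A))] [X'.Over (Spec (CommRingCat.of B))]
  (g : X' ⟶ X)
  (hpb : IsPullback g (X' ↘ Spec (CommRingCat.of B)) (X ↘ Spec (CommRingCat.of A))
      (Spec.map (CommRingCat.ofHom (algebraMap A B))))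
  (𝓕 : X.Modules) [𝓕.IsQuasicoherent]

attribute [local instance] secMod

include hpb in
theorem isBC_eta (W : X.Opens) (hW : IsAffineOpen W) :
    IsBC (algebraMap A B) (unitRes g 𝓕 (le_of_eq (rfl : g ⁻¹ᵁ W = g ⁻¹ᵁ W))) := by
  haveI : IsAffineHom g :=
    Groth.Agent.Helper1.FBC.isAffineHom_of_isPullback A B (algebraMap A B) g hpb
  exact Groth.Agent.Helper1.FBC.isBC_unitRes_base A B (algebraMap A B) g 𝓕 hpb hW
    (hW.preimage g) rfl

/-- the map `Γ(g⁻¹W, g^*𝓕) → Γ(W, 𝓕)` induced by a functional, for `W` affine -/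
noncomputable def lamW (ik : B →ₗ[A] A) (W : X.affineOpens) :
    Γ((Scheme.Modules.pullback g).obj 𝓕, g ⁻¹ᵁ W.1) →+ Γ(𝓕, W.1) :=
  Classical.choose (exists_lam (isBC_eta A B g hpb 𝓕 W.1 W.2) ik)

theorem lamW_spec (ik : B →ₗ[A] A) (W : X.affineOpens) (b : B) (s : Γ(𝓕, W.1)) :
    lamW A B g hpb 𝓕 ik W (b • unitRes g 𝓕 (le_of_eq (rfl : g ⁻¹ᵁ W.1 = g ⁻¹ᵁ W.1)) s) =
      ik b • s :=
  Classical.choose_spec (exists_lam (isBC_eta A B g hpb 𝓕 W.1 W.2) ik) b s

/-- the family of affine opens -/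
abbrev Bs (X : Scheme.{u}) : X.affineOpens → Opens X.toTopCat := fun W => W.1

theorem isBasis_Bs : Opens.IsBasis (Set.range (Bs X)) := by
  have h : Set.range (Bs X) = X.affineOpens := Subtype.range_coe
  rw [h]
  exact X.isBasis_affineOpens

/-- the maps `lamW` as a natural transformation on the affine opens -/
noncomputable def lamNat (ik : B →ₗ[A] A) :
    (inducedFunctor (Bs X)).op ⋙
        (Coh.toAb ((Coh.push g).obj ((Scheme.Modules.pullback g).obj 𝓕))).obj ⟶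
      (inducedFunctor (Bs X)).op ⋙ (Coh.toAb 𝓕).obj where
  app W := AddCommGrpCat.ofHom (lamW A B g hpb 𝓕 ik W.unop)
  naturality W₁ W₂ f := by
    apply AddCommGrpCat.hom_ext
    refine hom_ext_of_isBC (isBC_eta A B g hpb 𝓕 W₁.unop.1 W₁.unop.2) _ _ ?_
    intro b s
    have hle : W₂.unop.1 ≤ W₁.unop.1 := leOfHom f.unop.hom
    change lamW A B g hpb 𝓕 ik W₂.unop
        (Groth.Agent.Lead.BCU.res ((Scheme.Modules.pullback g).obj 𝓕) (g.preimage_mono hle)
          (b • unitRes g 𝓕 (le_of_eq (rfl : g ⁻¹ᵁ W₁.unop.1 = g ⁻¹ᵁ W₁.unop.1)) s)) =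
      Groth.Agent.Lead.BCU.res 𝓕 hle (lamW A B g hpb 𝓕 ik W₁.unop
        (b • unitRes g 𝓕 (le_of_eq (rfl : g ⁻¹ᵁ W₁.unop.1 = g ⁻¹ᵁ W₁.unop.1)) s))
    rw [lamW_spec]
    have h1 : Groth.Agent.Lead.BCU.res ((Scheme.Modules.pullback g).obj 𝓕) (g.preimage_mono hle)
        (b • unitRes g 𝓕 (le_of_eq (rfl : g ⁻¹ᵁ W₁.unop.1 = g ⁻¹ᵁ W₁.unop.1)) s) =
        b • unitRes g 𝓕 (le_of_eq (rfl : g ⁻¹ᵁ W₂.unop.1 = g ⁻¹ᵁ W₂.unop.1))
          (Groth.Agent.Lead.BCU.res 𝓕 hle s) := by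
      have h2 := (resA B ((Scheme.Modules.pullback g).obj 𝓕) (g.preimage_mono hle)).map_smul b
        (unitRes g 𝓕 (le_of_eq (rfl : g ⁻¹ᵁ W₁.unop.1 = g ⁻¹ᵁ W₁.unop.1)) s)
      refine h2.trans ?_
      exact congrArg (fun t => b • t) (Groth.Agent.Helper1.FBC.unitRes_res g 𝓕 _ _ hle
        (g.preimage_mono hle) s)
    rw [h1, lamW_spec]
    exact ((resA A 𝓕 hle).map_smul (ik b) s).symm

/-- the morphism of abelian sheaves `g_* g^* 𝓕 → 𝓕` induced by a functional `B → A` -/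
noncomputable def lam (ik : B →ₗ[A] A) :
    Coh.toAb ((Coh.push g).obj ((Scheme.Modules.pullback g).obj 𝓕)) ⟶ Coh.toAb 𝓕 :=
  ⟨TopCat.Sheaf.restrictHomEquivHom
    (Coh.toAb ((Coh.push g).obj ((Scheme.Modules.pullback g).obj 𝓕))).obj (Coh.toAb 𝓕)
    (isBasis_Bs (X := X)) (lamNat A B g hpb 𝓕 ik)⟩

theorem lam_app (ik : B →ₗ[A] A) (W : X.affineOpens) :
    (lam A B g hpb 𝓕 ik).hom.app (op W.1) = AddCommGrpCat.ofHom (lamW A B g hpb 𝓕 ik W) :=
  TopCat.Sheaf.extend_hom_app _ _ (isBasis_Bs (X := X)) (lamNat A B g hpb 𝓕 ik) W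

/-- morphisms of abelian sheaves on a scheme are determined on affine opens -/
theorem hom_ext_affine {F G : CohTop.Ab X.toTopCat} (φ ψ : F ⟶ G)
    (h : ∀ W : X.affineOpens, φ.hom.app (op W.1) = ψ.hom.app (op W.1)) : φ = ψ := by
  apply Sheaf.hom_ext
  exact TopCat.Sheaf.hom_ext F.obj G (isBasis_Bs (X := X)) h

theorem μ_lam (ik : B →ₗ[A] A) (b : B) :
    (D A B g hpb 𝓕).μ b ≫ lam A B g hpb 𝓕 ik =
      Coh.smulAb 𝓕 (Coh.toGlobal (X ↘ Spec (CommRingCat.of A)) (ik b)) := by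
  apply hom_ext_affine
  intro W
  ext s
  change ((lam A B g hpb 𝓕 ik).hom.app (op W.1)).hom
    ((((D A B g hpb 𝓕).μ b).hom.app (op W.1)).hom s) = _
  rw [lam_app]
  have h1 : (((D A B g hpb 𝓕).μ b).hom.app (op W.1)).hom s =
      b • unitRes g 𝓕 (le_of_eq (rfl : g ⁻¹ᵁ W.1 = g ⁻¹ᵁ W.1)) s := by
    refine Eq.trans ?_ (congrArg (fun t => b • t) (unitRes_self g 𝓕 W.1 s).symm)
    rfl
  refine (congrArg _ h1).trans ?_
  exact lamW_spec A B g hpb 𝓕 ik W b s

/-- evaluation of morphisms of abelian sheaves at a section, additively -/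
noncomputable def evalHom {F G : CohTop.Ab X.toTopCat} (U : (Opens X.toTopCat)ᵒᵖ)
    (x : F.obj.obj U) : (F ⟶ G) →+ G.obj.obj U where
  toFun φ := (φ.hom.app U).hom x
  map_zero' := rfl
  map_add' φ ψ := by
    rw [Sheaf.Hom.add_app]
    rfl

omit [𝓕.IsQuasicoherent] in
theorem μ_app (b : B) (W : X.Opens) (s : Γ(𝓕, W)) :
    (((D A B g hpb 𝓕).μ b).hom.app (op W)).hom s =
      b • unitRes g 𝓕 (le_of_eq (rfl : g ⁻¹ᵁ W = g ⁻¹ᵁ W)) s := by
  refine Eq.trans ?_ (congrArg (fun t => b • t) (unitRes_self g 𝓕 W s).symm)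
  rfl

theorem sum_lam_μ {n : ℕ} (bk : Fin n → B) (ik : Fin n → (B →ₗ[A] A))
    (hdual : ∀ b : B, b = ∑ k, ik k b • bk k) :
    ∑ k, lam A B g hpb 𝓕 (ik k) ≫ (D A B g hpb 𝓕).μ (bk k) = 𝟙 _ := by
  apply hom_ext_affine
  intro W
  apply AddCommGrpCat.hom_ext
  refine hom_ext_of_isBC (isBC_eta A B g hpb 𝓕 W.1 W.2) _ _ ?_
  intro b s
  change evalHom (op W.1) (b • unitRes g 𝓕 (le_of_eq (rfl : g ⁻¹ᵁ W.1 = g ⁻¹ᵁ W.1)) s)
    (∑ k, lam A B g hpb 𝓕 (ik k) ≫ (D A B g hpb 𝓕).μ (bk k)) =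
    b • unitRes g 𝓕 (le_of_eq (rfl : g ⁻¹ᵁ W.1 = g ⁻¹ᵁ W.1)) s
  rw [map_sum]
  have hterm : ∀ k, evalHom (op W.1)
      (b • unitRes g 𝓕 (le_of_eq (rfl : g ⁻¹ᵁ W.1 = g ⁻¹ᵁ W.1)) s)
      (lam A B g hpb 𝓕 (ik k) ≫ (D A B g hpb 𝓕).μ (bk k)) =
      (ik k b • bk k) • unitRes g 𝓕 (le_of_eq (rfl : g ⁻¹ᵁ W.1 = g ⁻¹ᵁ W.1)) s := by
    intro k
    change (((D A B g hpb 𝓕).μ (bk k)).hom.app (op W.1)).hom
      (((lam A B g hpb 𝓕 (ik k)).hom.app (op W.1)).hom
        (b • unitRes g 𝓕 (le_of_eq (rfl : g ⁻¹ᵁ W.1 = g ⁻¹ᵁ W.1)) s)) = _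
    rw [lam_app]
    have h1 := lamW_spec A B g hpb 𝓕 (ik k) W b s
    refine (congrArg _ h1).trans ?_
    rw [μ_app, Groth.Agent.Helper1.FBC.IsBC.map_smul' (isBC_eta A B g hpb 𝓕 W.1 W.2), smul_smul,
      Algebra.smul_def, mul_comm]
  have hsum : ∑ k, (ik k b • bk k) • unitRes g 𝓕 (le_of_eq (rfl : g ⁻¹ᵁ W.1 = g ⁻¹ᵁ W.1)) s =
      b • unitRes g 𝓕 (le_of_eq (rfl : g ⁻¹ᵁ W.1 = g ⁻¹ᵁ W.1)) s := by
    rw [← Finset.sum_smul, ← hdual]
  refine Eq.trans ?_ hsum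
  exact Finset.sum_congr rfl (fun k _ => hterm k)

end Geo

end Groth.Agent.Helper3.FinProj
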