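import Mathlib
import Groth.Prelude.Def_Coh
import Groth.Prelude.Def_CohTop
import Groth.Agent.Lib.Helper3.FinProj1

/-!
# Finite projective base change of cohomology, with no finiteness hypothesis on the scheme (helper3)
-/

set_option autoImplicit false
set_option backward.isDefEq.respectTransparency.types false
set_option synthInstance.maxHeartbeats 400000
universe u v w
open CategoryTheory CategoryTheory.Limits Opposite TopologicalSpace AlgebraicGeometry TensorProduct
open CategoryTheory.Abelian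

namespace Groth.Agent.Helper3.FinProj

open Groth.Agent.Lead.BCU Groth.Agent.Helper3.FlatExt Groth.Agent.Helper3.FlatBC

section Abstract

variable {C : Type u} [Category.{v} C] [Abelian C] [HasExt.{w} C]
  {R : Type*} [CommRing R] {M : Type*} [AddCommGroup M] [Module R M] {F G : C}
  (D : Dat R M F G)

/-- postcomposition with a morphism, as an additive map into `EF` -/
noncomputable def postF (K : C) (p : ℕ) (φ : G ⟶ F) : Ext K G p →+ EF D K p where
  toFun y := EF.of D (y.comp (Ext.mk₀ φ) (add_zero p))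
  map_zero' := Ext.zero_comp _ _ _ _ _
  map_add' y y' := Ext.add_comp _ _ _ _

theorem postF_apply (K : C) (p : ℕ) (φ : G ⟶ F) (y : Ext K G p) :
    postF D K p φ y = EF.of D (y.comp (Ext.mk₀ φ) (add_zero p)) := rfl

/-- if `M` has a finite dual basis realised by morphisms `G ⟶ F`, every object is good -/
theorem good_of_dual {n : ℕ} (bk : Fin n → M) (ik : Fin n → (M →ₗ[R] R))
    (hdual : ∀ m : M, m = ∑ k, ik k m • bk k)
    (lam : Fin n → (G ⟶ F))
    (h1 : ∀ (k : Fin n) (m : M), D.μ m ≫ lam k = (D.a (ik k m) : F ⟶ F))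
    (h2 : ∑ k, lam k ≫ D.μ (bk k) = 𝟙 G) (K : C) : Good D K := by
  intro p
  let Θ' : Ext K G p →+ M ⊗[R] EF D K p :=
    ∑ k, ((TensorProduct.mk R M (EF D K p) (bk k)).toAddMonoidHom).comp (postF D K p (lam k))
  have hΘ' : ∀ y, Θ' y = ∑ k, bk k ⊗ₜ[R] postF D K p (lam k) y := by
    intro y
    simp only [Θ', AddMonoidHom.finset_sum_apply]
    rfl
  refine Function.bijective_iff_has_inverse.2 ⟨Θ', ?_, ?_⟩
  · intro z
    induction z using TensorProduct.induction_on with
    | zero => rw [map_zero, map_zero]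
    | add x y hx hy => rw [map_add, map_add, hx, hy]
    | tmul m x =>
      rw [hΘ', Θ_tmul]
      have hterm : ∀ k, bk k ⊗ₜ[R] postF D K p (lam k)
          (Ext.comp (show Ext K F p from x) (Ext.mk₀ (D.μ m)) (add_zero p)) =
          (ik k m • bk k) ⊗ₜ[R] x := by
        intro k
        rw [postF_apply, Ext.comp_assoc_of_third_deg_zero, Ext.mk₀_comp_mk₀, h1,
          TensorProduct.smul_tmul]
        rfl
      rw [Finset.sum_congr rfl (fun k _ => hterm k), ← TensorProduct.sum_tmul, ← hdual]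
  · intro y
    rw [hΘ', map_sum]
    have hterm : ∀ k, Θ D K p (bk k ⊗ₜ[R] postF D K p (lam k) y) =
        y.comp (Ext.mk₀ (lam k ≫ D.μ (bk k))) (add_zero p) := by
      intro k
      rw [Θ_tmul, postF_apply]
      change Ext.comp (y.comp (Ext.mk₀ (lam k)) (add_zero p)) (Ext.mk₀ (D.μ (bk k))) (add_zero p) = _
      rw [Ext.comp_assoc_of_third_deg_zero, Ext.mk₀_comp_mk₀]
    rw [Finset.sum_congr rfl (fun k _ => hterm k)]
    have hsum : ∑ k, y.comp (Ext.mk₀ (lam k ≫ D.μ (bk k))) (add_zero p) =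
        y.comp (Ext.mk₀ (∑ k, lam k ≫ D.μ (bk k))) (add_zero p) := by
      rw [Ext.mk₀_sum, Ext.comp_sum]
    rw [hsum, h2, Ext.comp_mk₀_id]

end Abstract

section Dual

theorem exists_dual_basis (A : Type u) (B : Type u) [CommRing A] [AddCommGroup B] [Module A B]
    [Module.Finite A B] [Module.Projective A B] :
    ∃ (n : ℕ) (bk : Fin n → B) (ik : Fin n → (B →ₗ[A] A)),
      ∀ b : B, b = ∑ k, ik k b • bk k := by
  obtain ⟨n, f, hf⟩ := Module.Finite.exists_fin' A B
  obtain ⟨h, hh⟩ := Module.projective_lifting_property f LinearMap.id hf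
  refine ⟨n, fun k => f (Pi.single k 1), fun k => (LinearMap.proj k).comp h, fun b => ?_⟩
  have h1 : f (h b) = b := LinearMap.congr_fun hh b
  have h2 : h b = ∑ k, (h b k) • (Pi.single k (1 : A) : Fin n → A) := by
    funext j
    simp [Finset.sum_apply, Pi.single_apply]
  conv_lhs => rw [← h1, h2]
  rw [map_sum]
  refine Finset.sum_congr rfl (fun k _ => ?_)
  rw [map_smul]
  rfl

end Dual

section Main

open Groth.Agent.Lib.Helper4.LinBridge1

variable (A B : Type u) [CommRing A] [CommRing B] [Algebra A B]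
  [Module.Finite A B] [Module.Projective A B]
  {X X' : Scheme.{u}} [X.Over (Spec (CommRingCat.of A))] [X'.Over (Spec (CommRingCat.of B))]
  (g : X' ⟶ X)
  (hpb : IsPullback g (X' ↘ Spec (CommRingCat.of B)) (X ↘ Spec (CommRingCat.of A))
      (Spec.map (CommRingCat.ofHom (algebraMap A B))))
  (𝓕 : X.Modules) [𝓕.IsQuasicoherent]

theorem good_all (K : CohTop.Ab X.toTopCat) : Good (D A B g hpb 𝓕) K := by
  obtain ⟨n, bk, ik, hdual⟩ := exists_dual_basis A B
  exact good_of_dual (D A B g hpb 𝓕) bk ik hdual (fun k => lam A B g hpb 𝓕 (ik k))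
    (fun k m => μ_lam A B g hpb 𝓕 (ik k) m) (sum_lam_μ A B g hpb 𝓕 bk ik hdual) K

theorem D_a (a : A) : ((D A B g hpb 𝓕).a a : Coh.toAb 𝓕 ⟶ Coh.toAb 𝓕) =
    Coh.smulAb 𝓕 (Coh.toGlobal (X ↘ Spec (CommRingCat.of A)) a) := rfl

include hpb in
/-- **finite projective base change**, for an arbitrary scheme over `Spec A` -/
theorem main (i : ℕ) :
    Nonempty (B ⊗[A] Coh.HH X 𝓕 i ≃ₗ[B] Coh.HH X' ((Scheme.Modules.pullback g).obj 𝓕) i) := by
  haveI : IsAffineHom g :=
    Groth.Agent.Helper1.FBC.isAffineHom_of_isPullback A B (algebraMap A B) g hpb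
  haveI : ((Scheme.Modules.pullback g).obj 𝓕).IsQuasicoherent :=
    Groth.Agent.Lead.PB.isQuasicoherent_pullback _ _
  have hbij := ΨG'_bijective A g 𝓕 ((Scheme.Modules.pullback g).obj 𝓕) (D A B g hpb 𝓕)
    (D_a A B g hpb 𝓕) (good_all A B g hpb 𝓕 _) i
  have hsmul : ∀ (b' : B) (z : B ⊗[A] Coh.HH X 𝓕 i),
      ΨG' A g 𝓕 ((Scheme.Modules.pullback g).obj 𝓕) (D A B g hpb 𝓕) (D_a A B g hpb 𝓕) i (b' • z) =
        b' • ΨG' A g 𝓕 ((Scheme.Modules.pullback g).obj 𝓕) (D A B g hpb 𝓕)
          (D_a A B g hpb 𝓕) i z := by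
    intro b' z
    induction z using TensorProduct.induction_on with
    | zero => rw [smul_zero, map_zero, smul_zero]
    | add x y hx hy => rw [smul_add, map_add, map_add, smul_add, hx, hy]
    | tmul b x =>
      rw [TensorProduct.smul_tmul', smul_eq_mul, ΨG'_tmul, ΨG'_tmul]
      change _ = Sheaf.H.map (Coh.smulAb ((Scheme.Modules.pullback g).obj 𝓕)
        (Coh.toGlobal (X' ↘ Spec (CommRingCat.of B)) b')) i _
      rw [← lerayAdd_natural]
      refine congrArg _ ?_
      refine Eq.trans ?_ (Sheaf.H.map_comp_apply _ _ x)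
      exact congrArg (fun t => Sheaf.H.map t i x) (μHom_mul g B _ 𝓕 _ _ b b')
  exact ⟨LinearEquiv.ofBijective
    { toFun := ΨG' A g 𝓕 ((Scheme.Modules.pullback g).obj 𝓕) (D A B g hpb 𝓕)
        (D_a A B g hpb 𝓕) i
      map_add' := map_add _
      map_smul' := hsmul } hbij⟩

end Main

end Groth.Agent.Helper3.FinProj
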