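import Mathlib
import Groth.Prelude.Def_ega3
import Groth.Agent.Lib.Helper2.FlatCxLength

set_option autoImplicit false
universe u
open CategoryTheory Limits MonoidalCategory TensorProduct
open Groth.Agent.Helper2.FlatCx

namespace Groth.Agent.Helper3.FinT

variable {A : Type u} [CommRing A]

/-- the short exact sequence `0 → N → E → E/N → 0` in `ModuleCat` -/
noncomputable def sqSC (E : Type u) [AddCommGroup E] [Module A E] (N : Submodule A E) :
    ShortComplex (ModuleCat.{u} A) :=
  ShortComplex.mk (ModuleCat.ofHom N.subtype) (ModuleCat.ofHom N.mkQ) (by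
    ext x
    exact (Submodule.Quotient.mk_eq_zero N).mpr x.2)

theorem sqSC_shortExact (E : Type u) [AddCommGroup E] [Module A E] (N : Submodule A E) :
    (sqSC E N).ShortExact := by
  have hex : (sqSC E N).Exact := by
    rw [ShortComplex.ShortExact.moduleCat_exact_iff_function_exact]
    exact LinearMap.exact_subtype_mkQ N
  exact { exact := hex
          mono_f := (ModuleCat.mono_iff_injective _).mpr (Submodule.subtype_injective N)
          epi_g := (ModuleCat.epi_iff_surjective _).mpr (Submodule.mkQ_surjective N) }

theorem finite_mid [IsNoetherianRing A] (S : ShortComplex (ModuleCat.{u} A)) (hS : S.Exact)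
    (h1 : Module.Finite A S.X₁) (h3 : Module.Finite A S.X₃) : Module.Finite A S.X₂ := by
  have hex : Function.Exact S.f.hom S.g.hom :=
    (ShortComplex.ShortExact.moduleCat_exact_iff_function_exact S).1 hS
  haveI : IsNoetherian A S.X₃ := isNoetherian_of_isNoetherianRing_of_finite A S.X₃
  haveI : Module.Finite A (LinearMap.range S.g.hom) := inferInstance
  have hex' : Function.Exact S.f.hom S.g.hom.rangeRestrict := by
    intro y
    rw [← hex y]
    exact ⟨fun h => congrArg Subtype.val h, fun h => Subtype.ext h⟩
  exact Module.Finite.of_exact hex' (LinearMap.surjective_rangeRestrict _)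

variable [IsNoetherianRing A] (P : ChainComplex (ModuleCat.{u} A) ℤ)
  (hP : ∀ i, Module.Flat A (P.X i))

include hP in
/-- one dévissage step along a surjection -/
theorem finite_of_surj (n : ℤ) (E M : Type u) [AddCommGroup E] [Module A E] [AddCommGroup M]
    [Module A M] (π : E →ₗ[A] M) (hπ : Function.Surjective π)
    (hE : Module.Finite A (CohIII.T P n (ModuleCat.of A E)))
    (hK : Module.Finite A (CohIII.T P (n - 1) (ModuleCat.of A (LinearMap.ker π)))) :
    Module.Finite A (CohIII.T P n (ModuleCat.of A M)) := by
  let S : ShortComplex (ModuleCat.{u} A) :=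
    ShortComplex.mk (ModuleCat.ofHom (LinearMap.ker π).subtype) (ModuleCat.ofHom π) (by
      ext x
      exact x.2)
  have hS : S.ShortExact :=
    { exact := by
        rw [ShortComplex.ShortExact.moduleCat_exact_iff_function_exact]
        intro y
        constructor
        · intro hy
          exact ⟨⟨y, hy⟩, rfl⟩
        · rintro ⟨z, rfl⟩
          exact z.2
      mono_f := (ModuleCat.mono_iff_injective _).mpr (Submodule.subtype_injective _)
      epi_g := (ModuleCat.epi_iff_surjective _).mpr hπ }
  have hT := tensorSC_shortExact P hP S hS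
  have e3 := hT.homology_exact₃ n (n - 1) (by simp)
  exact finite_mid _ e3 hE hK

include hP in
/-- half-exactness step -/
theorem finite_of_ses (n : ℤ) (E : Type u) [AddCommGroup E] [Module A E] (N : Submodule A E)
    (h1 : Module.Finite A (CohIII.T P n (ModuleCat.of A N)))
    (h3 : Module.Finite A (CohIII.T P n (ModuleCat.of A (E ⧸ N)))) :
    Module.Finite A (CohIII.T P n (ModuleCat.of A E)) :=
  finite_mid _ (TFun_halfExact P hP n (sqSC E N) (sqSC_shortExact E N)) h1 h3

variable (i₀ : ℤ) (hb : ∀ i < i₀, IsZero (P.X i))
  (hfg : ∀ n : ℤ, Module.Finite A (CohIII.T P n (ModuleCat.of A A)))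

omit [IsNoetherianRing A] in
include hb in
theorem subsingleton_T (n : ℤ) (hn : n < i₀) (M : ModuleCat.{u} A) :
    Subsingleton (CohIII.T P n M) := by
  apply ModuleCat.subsingleton_of_isZero
  have h1 : IsZero ((CohIII.tensorObj P M).X n) := (tensorRight M).map_isZero (hb n hn)
  exact ShortComplex.isZero_homology_of_isZero_X₂ _ h1

omit [IsNoetherianRing A] in
theorem subsingleton_T_zero (n : ℤ) (M : ModuleCat.{u} A) [Subsingleton M] :
    Subsingleton (CohIII.T P n M) := by
  apply ModuleCat.subsingleton_of_isZero
  have hM : IsZero M := ModuleCat.isZero_of_subsingleton M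
  have h1 : IsZero ((CohIII.tensorObj P M).X n) := (tensorLeft (P.X n)).map_isZero hM
  exact ShortComplex.isZero_homology_of_isZero_X₂ _ h1

include hP hb hfg in
theorem finite_T (k : ℕ) : ∀ (n : ℤ), n < i₀ + k → ∀ (r : ℕ) (M : Type u) [AddCommGroup M]
    [Module A M] (g : (Fin r → A) →ₗ[A] M), Function.Surjective g →
    Module.Finite A (CohIII.T P n (ModuleCat.of A M)) := by
  induction k with
  | zero =>
    intro n hn r M _ _ g _
    haveI := subsingleton_T P i₀ hb n (by simpa using hn) (ModuleCat.of A M)
    infer_instance
  | succ k ih =>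
    intro n hn r
    induction r with
    | zero =>
      intro M _ _ g hg
      haveI : Subsingleton M := by
        refine ⟨fun a b => ?_⟩
        obtain ⟨x, rfl⟩ := hg a
        obtain ⟨y, rfl⟩ := hg b
        rw [Subsingleton.elim x y]
      haveI := subsingleton_T_zero P n (ModuleCat.of A M)
      infer_instance
    | succ r ihr =>
      intro M _ _ g hg
      -- cyclic submodule generated by the first generator
      let m₀ : M := g (Pi.single 0 1)
      let N : Submodule A M := Submodule.span A {m₀}
      apply finite_of_ses P hP n M N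
      · -- cyclic part
        let π : A →ₗ[A] N := LinearMap.toSpanSingleton A N ⟨m₀, Submodule.mem_span_singleton_self m₀⟩
        have hπ : Function.Surjective π := by
          rintro ⟨x, hx⟩
          obtain ⟨a, rfl⟩ := Submodule.mem_span_singleton.1 hx
          exact ⟨a, Subtype.ext (by simp [π])⟩
        refine finite_of_surj P hP n A N π hπ (hfg n) ?_
        haveI : Module.Finite A (LinearMap.ker π) := inferInstance
        obtain ⟨r', g', hg'⟩ := Module.Finite.exists_fin' A (LinearMap.ker π)
        exact ih (n - 1) (by push_cast at hn; omega) r' _ g' hg'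
      · -- quotient generated by `r` elements
        let ι : (Fin r → A) →ₗ[A] (Fin (r + 1) → A) :=
          Fintype.linearCombination A (fun i : Fin r => (Pi.single i.succ (1 : A) : Fin (r + 1) → A))
        let g'' : (Fin r → A) →ₗ[A] M ⧸ N := N.mkQ ∘ₗ g ∘ₗ ι
        refine ihr (M ⧸ N) g'' ?_
        intro y
        obtain ⟨m, rfl⟩ := N.mkQ_surjective y
        obtain ⟨v, rfl⟩ := hg m
        refine ⟨fun i => v i.succ, ?_⟩
        have hv : v = v 0 • (Pi.single 0 (1 : A) : Fin (r + 1) → A) + ι (fun i => v i.succ) := by
          funext j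
          refine Fin.cases ?_ (fun i => ?_) j
          · simp [ι, Fintype.linearCombination_apply, Fin.succ_ne_zero]
          · simp [ι, Fintype.linearCombination_apply, Pi.single_apply, Fin.succ_inj,
              Fin.succ_ne_zero]
        change N.mkQ (g (ι fun i => v i.succ)) = N.mkQ (g v)
        conv_rhs => rw [hv]
        rw [map_add, map_add, map_smul]
        have : N.mkQ (v 0 • g (Pi.single 0 1)) = 0 :=
          (Submodule.Quotient.mk_eq_zero N).2
            (Submodule.smul_mem _ _ (Submodule.mem_span_singleton_self m₀))
        rw [this, zero_add]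

include hP hb hfg in
theorem finite_T' (n : ℤ) (M : Type u) [AddCommGroup M] [Module A M] [Module.Finite A M] :
    Module.Finite A (CohIII.T P n (ModuleCat.of A M)) := by
  obtain ⟨r, g, hg⟩ := Module.Finite.exists_fin' A M
  exact finite_T P hP i₀ hb hfg (n - i₀ + 1).toNat n (by omega) r M g hg

end Groth.Agent.Helper3.FinT
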