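import Mathlib
import Groth.Agent.Lib.Helper3.LTenDev

/-!
# Glueing flatness (tor amplitude) from `R_f` and `R/f`
-/

namespace Groth.Agent.Helper3.FlatGlue

open CategoryTheory Limits DerivedCategory MonoidalCategory TensorProduct
open Groth.Agent.Helper5.TorAmp Groth.Agent.Helper5.FlatAcyc
open Groth.Agent.Helper3.PcLift Groth.Agent.Lib.Helper5.KProj Groth.Agent.Helper3.DerNak
open Groth.Agent.Helper3.ProjForm Groth.Agent.Helper3.NilTor Groth.Agent.Helper3.LTenDev

universe u

section Lin

variable {R : Type u} [CommRing R] {X Y Z N : Type u} [AddCommGroup X] [AddCommGroup Y]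
  [AddCommGroup Z] [AddCommGroup N] [Module R X] [Module R Y] [Module R Z] [Module R N]

lemma exists_lift_of_cover (S : ℕ → Submodule R N) (hS : Monotone S)
    (hcov : ∀ x : N, ∃ k, x ∈ S k) (z : Y ⊗[R] N) :
    ∃ (k : ℕ) (z' : Y ⊗[R] (S k)), (S k).subtype.lTensor Y z' = z := by
  induction z using TensorProduct.induction_on with
  | zero => exact ⟨0, 0, map_zero _⟩
  | tmul y n =>
    obtain ⟨k, hk⟩ := hcov n
    exact ⟨k, y ⊗ₜ ⟨n, hk⟩, rfl⟩
  | add z₁ z₂ h₁ h₂ =>
    obtain ⟨k₁, z₁', rfl⟩ := h₁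
    obtain ⟨k₂, z₂', rfl⟩ := h₂
    refine ⟨max k₁ k₂,
      (Submodule.inclusion (hS (le_max_left k₁ k₂))).lTensor Y z₁' +
        (Submodule.inclusion (hS (le_max_right k₁ k₂))).lTensor Y z₂', ?_⟩
    rw [map_add, ← LinearMap.comp_apply, ← LinearMap.comp_apply, ← LinearMap.lTensor_comp,
      ← LinearMap.lTensor_comp, Submodule.subtype_comp_inclusion, Submodule.subtype_comp_inclusion]

lemma exact_rTensor_of_cover (d₁ : X →ₗ[R] Y) (d₂ : Y →ₗ[R] Z) (hd : d₂ ∘ₗ d₁ = 0)
    [Module.Flat R Z] (S : ℕ → Submodule R N) (hS : Monotone S) (hcov : ∀ x : N, ∃ k, x ∈ S k)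
    (h : ∀ k, Function.Exact (d₁.rTensor (S k)) (d₂.rTensor (S k))) :
    Function.Exact (d₁.rTensor N) (d₂.rTensor N) := by
  intro z
  constructor
  · intro hz
    obtain ⟨k, z', rfl⟩ := exists_lift_of_cover S hS hcov z
    have h1 : (S k).subtype.lTensor Z (d₂.rTensor (S k) z') = 0 := by
      rw [← LinearMap.comp_apply, LinearMap.lTensor_comp_rTensor, ← LinearMap.rTensor_comp_lTensor,
        LinearMap.comp_apply]
      exact hz
    have hinj : Function.Injective ((S k).subtype.lTensor Z) :=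
      Module.Flat.lTensor_preserves_injective_linearMap _ (S k).injective_subtype
    have h2 : d₂.rTensor (S k) z' = 0 := hinj (h1.trans (map_zero _).symm)
    obtain ⟨w, hw⟩ := (h k z').1 h2
    refine ⟨(S k).subtype.lTensor X w, ?_⟩
    rw [← hw, ← LinearMap.comp_apply, ← LinearMap.comp_apply, LinearMap.rTensor_comp_lTensor,
      LinearMap.lTensor_comp_rTensor]
  · rintro ⟨w, rfl⟩
    rw [← LinearMap.comp_apply, ← LinearMap.rTensor_comp, hd, LinearMap.rTensor_zero,
      LinearMap.zero_apply]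

end Lin

section Good

variable {R : Type u} [CommRing R] (P : DRing.Cx R)

/-- `P ⊗ N` is exact in negative degrees -/
def Good (N : ModuleCat.{u} R) : Prop := ∀ i : ℤ, i < 0 → ((TM N).obj P).ExactAt i

variable {P}

lemma good_of_iso {N N' : ModuleCat.{u} R} (e : N ≅ N') (h : Good P N) : Good P N' :=
  fun i hi => (h i hi).of_iso (tmIsoOfIso e P)

lemma good_of_isZero {N : ModuleCat.{u} R} (hz : IsZero N) : Good P N := fun i _ =>
  HomologicalComplex.ExactAt.of_isZero (Functor.map_isZero (tensorLeft (P.X i)) hz)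

lemma good_mid (hflat : DRing.TermwiseFlat P) (S : ShortComplex (ModuleCat.{u} R))
    (hS : S.ShortExact) (h1 : Good P S.X₁) (h3 : Good P S.X₃) : Good P S.X₂ :=
  fun i hi => exactAt_of_ses S hS P hflat i (h1 i hi) (h3 i hi)

lemma good_left (hflat : DRing.TermwiseFlat P) (S : ShortComplex (ModuleCat.{u} R))
    (hS : S.ShortExact) (h2 : Good P S.X₂) (h3 : Good P S.X₃) : Good P S.X₁ := by
  intro i hi
  have hex := (tmSC_shortExact S hS P hflat).homology_exact₁ (i - 1) i (by simp)
  have e2 := h2 i hi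
  have e3 := h3 (i - 1) (by omega)
  rw [HomologicalComplex.exactAt_iff_isZero_homology] at e2 e3 ⊢
  exact hex.isZero_X₂ (e3.eq_of_src _ _) (e2.eq_of_tgt _ _)

lemma good_of_cover (hflat : DRing.TermwiseFlat P) (N : Type u) [AddCommGroup N] [Module R N]
    (S : ℕ → Submodule R N) (hS : Monotone S) (hcov : ∀ x : N, ∃ k, x ∈ S k)
    (h : ∀ k, Good P (ModuleCat.of R (S k))) : Good P (ModuleCat.of R N) := by
  intro i hi
  have := hflat (i + 1)
  refine exactAt_of_exact _ (i - 1) i (i + 1) (by omega) rfl ?_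
  exact exact_rTensor_of_cover (N := N) (P.d (i - 1) i).hom (P.d i (i + 1)).hom
    (by rw [← ModuleCat.hom_comp, P.d_comp_d]; rfl) S hS hcov
    (fun k => exact_of_exactAt _ (i - 1) i (i + 1) (by omega) rfl (h k i hi))

end Good

section Sub

variable {R : Type u} [CommRing R] (N : Type u) [AddCommGroup N] [Module R N]

/-- the short exact sequence `0 → S → N → N/S → 0` -/
noncomputable def sesSub (S : Submodule R N) : ShortComplex (ModuleCat.{u} R) :=
  ShortComplex.mk (ModuleCat.ofHom S.subtype) (ModuleCat.ofHom S.mkQ) (by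
    ext x
    exact (Submodule.Quotient.mk_eq_zero _).2 x.2)

lemma sesSub_shortExact (S : Submodule R N) : (sesSub N S).ShortExact := by
  refine ShortComplex.ShortExact.mk' ?_ ?_ ?_
  · rw [ShortComplex.moduleCat_exact_iff]
    intro x hx
    have hx' : S.mkQ (show N from x) = 0 := hx
    exact ⟨⟨x, (Submodule.Quotient.mk_eq_zero _).1 hx'⟩, rfl⟩
  · rw [ModuleCat.mono_iff_injective]
    exact Subtype.val_injective
  · rw [ModuleCat.epi_iff_surjective]
    exact S.mkQ_surjective

end Sub

section Tors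

variable {R : Type u} [CommRing R] (f : R) (N : Type u) [AddCommGroup N] [Module R N]

/-- the `f`-power torsion submodule -/
def tors : Submodule R N where
  carrier := {x | ∃ k : ℕ, f ^ k • x = 0}
  zero_mem' := ⟨0, smul_zero _⟩
  add_mem' := by
    rintro x y ⟨k, hk⟩ ⟨l, hl⟩
    refine ⟨k + l, ?_⟩
    have h1 : f ^ (k + l) • x = 0 := by rw [pow_add, mul_comm, mul_smul, hk, smul_zero]
    have h2 : f ^ (k + l) • y = 0 := by rw [pow_add, mul_smul, hl, smul_zero]
    rw [smul_add, h1, h2, add_zero]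
  smul_mem' := by
    rintro c x ⟨k, hk⟩
    exact ⟨k, by rw [smul_comm, hk, smul_zero]⟩

lemma mem_tors (x : N) : x ∈ tors f N ↔ ∃ k : ℕ, f ^ k • x = 0 := Iff.rfl

/-- the chain of submodules killed by `f ^ k` -/
def torsK (k : ℕ) : Submodule R N := Submodule.torsionBy R N (f ^ k)

lemma mem_torsK (k : ℕ) (x : N) : x ∈ torsK f N k ↔ f ^ k • x = 0 :=
  Submodule.mem_torsionBy_iff _ _

lemma torsK_mono : Monotone (torsK f N) := by
  intro k l hkl x hx
  rw [mem_torsK] at hx ⊢
  obtain ⟨m, rfl⟩ := Nat.exists_eq_add_of_le hkl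
  rw [pow_add, mul_comm, mul_smul, hx, smul_zero]

lemma torsK_pow (k : ℕ) :
    (Ideal.span ({f} : Set R)) ^ k • (⊤ : Submodule R (torsK f N k)) = ⊥ := by
  rw [Ideal.span_singleton_pow, eq_bot_iff]
  intro x hx
  refine Submodule.smul_induction_on hx ?_ ?_
  · intro r hr n _
    obtain ⟨c, rfl⟩ := Ideal.mem_span_singleton'.1 hr
    have hn : f ^ k • n = 0 := Subtype.ext ((mem_torsK f N k n.1).1 n.2)
    rw [Submodule.mem_bot, mul_smul, hn, smul_zero]
  · intro x y hx hy
    exact Submodule.add_mem _ hx hy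

/-- the quotient by the torsion is torsion free -/
lemma quot_tors_free (k : ℕ) (c : N ⧸ tors f N) (hc : f ^ k • c = 0) : c = 0 := by
  obtain ⟨x, rfl⟩ := Submodule.Quotient.mk_surjective _ c
  rw [← Submodule.Quotient.mk_smul, Submodule.Quotient.mk_eq_zero] at hc
  obtain ⟨l, hl⟩ := hc
  rw [Submodule.Quotient.mk_eq_zero]
  exact ⟨l + k, by rw [pow_add, mul_smul, hl]⟩

end Tors

section Main

variable {R : Type u} [CommRing R] (f : R) (P : DRing.Cx R) (hflat : DRing.TermwiseFlat P)
  (h3 : ∀ (N' : ModuleCat.{u} (R ⧸ Ideal.span ({f} : Set R))) (i : ℤ), i < 0 →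
    ((TM N').obj ((bcCx (Ideal.Quotient.mk (Ideal.span ({f} : Set R)))).obj P)).ExactAt i)
  (h2 : ∀ (N' : ModuleCat.{u} (Localization.Away f)) (i : ℤ), i < 0 →
    ((TM N').obj ((bcCx (algebraMap R (Localization.Away f))).obj P)).ExactAt i)

include hflat h3 in
lemma good_of_pow (k : ℕ) (N : ModuleCat.{u} R)
    (hN : (Ideal.span ({f} : Set R)) ^ k • (⊤ : Submodule R N) = ⊥) : Good P N :=
  fun i hi => exactAt_of_pow' (Ideal.span ({f} : Set R)) P hflat i (fun N' => h3 N' i hi) k N hN

include hflat h3 in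
lemma good_of_torsion (N : Type u) [AddCommGroup N] [Module R N]
    (ht : ∀ x : N, ∃ k : ℕ, f ^ k • x = 0) : Good P (ModuleCat.of R N) :=
  good_of_cover hflat N (torsK f N) (torsK_mono f N)
    (fun x => by
      obtain ⟨k, hk⟩ := ht x
      exact ⟨k, (mem_torsK f N k x).2 hk⟩)
    (fun k => good_of_pow f P hflat h3 k (ModuleCat.of R (torsK f N k)) (torsK_pow f N k))

include h2 in
lemma good_of_loc (N' : ModuleCat.{u} (Localization.Away f)) :
    Good P ((ModuleCat.restrictScalars (algebraMap R (Localization.Away f))).obj N') :=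
  fun i hi => exactAt_TM_restrict (algebraMap R (Localization.Away f)) N' P i (h2 N' i hi)

include hflat h3 h2 in
lemma good_of_free (N : Type u) [AddCommGroup N] [Module R N]
    (hfree : ∀ (k : ℕ) (x : N), f ^ k • x = 0 → x = 0) : Good P (ModuleCat.of R N) := by
  let N₂ : ModuleCat.{u} R := (ModuleCat.restrictScalars (algebraMap R (Localization.Away f))).obj
    (ModuleCat.of (Localization.Away f) (LocalizedModule (Submonoid.powers f) N))
  have key : ∀ (r : R) (y : LocalizedModule (Submonoid.powers f) N),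
      (r • (show N₂ from y) : N₂) = (show N₂ from (r • y)) := fun r y =>
    algebraMap_smul (Localization.Away f) r y
  let ι : N →ₗ[R] N₂ :=
    { toFun := fun x => (LocalizedModule.mk x 1 : LocalizedModule (Submonoid.powers f) N)
      map_add' := fun x y => (LocalizedModule.mkLinearMap (Submonoid.powers f) N).map_add x y
      map_smul' := fun r x => by
        refine Eq.trans ?_ (key r _).symm
        exact (LocalizedModule.mkLinearMap (Submonoid.powers f) N).map_smul r x }
  have hinj : Function.Injective ι := by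
    rw [injective_iff_map_eq_zero]
    intro x hx
    have hx' : LocalizedModule.mkLinearMap (Submonoid.powers f) N x = 0 := hx
    rw [IsLocalizedModule.eq_zero_iff (Submonoid.powers f)] at hx'
    obtain ⟨⟨s, k, rfl⟩, hs⟩ := hx'
    exact hfree k x hs
  have htors : ∀ c : N₂ ⧸ LinearMap.range ι, ∃ k : ℕ, f ^ k • c = 0 := by
    intro c
    obtain ⟨y, rfl⟩ := Submodule.Quotient.mk_surjective _ c
    induction y using LocalizedModule.induction_on with
    | h x s =>
      obtain ⟨k, hk⟩ := s.2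
      have hk' : f ^ k = (s : R) := hk
      refine ⟨k, ?_⟩
      rw [← Submodule.Quotient.mk_smul, Submodule.Quotient.mk_eq_zero]
      refine ⟨x, ?_⟩
      refine Eq.trans ?_ (key (f ^ k) _).symm
      have h1 : (f ^ k) • LocalizedModule.mk x s = LocalizedModule.mk ((s : R) • x) s := by
        rw [LocalizedModule.smul'_mk, hk']
      have h2' : LocalizedModule.mk ((s : R) • x) s = LocalizedModule.mk x 1 :=
        LocalizedModule.mk_cancel s x
      exact (h1.trans h2').symm
  have hC : Good P (ModuleCat.of R (N₂ ⧸ LinearMap.range ι)) :=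
    good_of_torsion f P hflat h3 _ htors
  have hN₂ : Good P (ModuleCat.of R N₂) :=
    good_of_loc f P h2 (ModuleCat.of (Localization.Away f) (LocalizedModule (Submonoid.powers f) N))
  have hR₀ : Good P (ModuleCat.of R (LinearMap.range ι)) :=
    good_left hflat (sesSub N₂ (LinearMap.range ι)) (sesSub_shortExact N₂ (LinearMap.range ι)) hN₂ hC
  exact good_of_iso (LinearEquiv.ofInjective ι hinj).symm.toModuleIso hR₀

include hflat h3 h2 in
theorem good_all (N : ModuleCat.{u} R) : Good P N := by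
  have hT : Good P (ModuleCat.of R (tors f N)) :=
    good_of_torsion f P hflat h3 (tors f N) (fun x => by
      obtain ⟨k, hk⟩ := x.2
      exact ⟨k, Subtype.ext hk⟩)
  have hQ : Good P (ModuleCat.of R (N ⧸ tors f N)) :=
    good_of_free f P hflat h3 h2 _ (quot_tors_free f N)
  exact good_mid hflat (sesSub N (tors f N)) (sesSub_shortExact N (tors f N)) hT hQ

end Main

section Final

attribute [local instance] HasDerivedCategory.standard

variable {A : Type u} [CommRing A]

lemma hasTorAmp_inD (N : Type u) [AddCommGroup N] [Module A N] [Module.Flat A N] :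
    DRing.HasTorAmplitudeIn A 0 0 (Dual.inD A N) := by
  refine ⟨(HomologicalComplex.single (ModuleCat.{u} A) (ComplexShape.up ℤ) 0).obj (ModuleCat.of A N),
    fun i hi => HomologicalComplex.isZero_single_obj_X (ComplexShape.up ℤ) 0 _ i (by omega),
    fun i => ?_, ⟨((DerivedCategory.singleFunctorIsoCompQ (ModuleCat.{u} A) 0).app _).symm⟩⟩
  by_cases hi : i = 0
  · subst hi
    exact Groth.Agent.Lib.Helper5.KFlat.flat_of_iso
      (HomologicalComplex.singleObjXSelf (ComplexShape.up ℤ) 0 (ModuleCat.of A N)).symm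
      (inferInstanceAs (Module.Flat A N))
  · exact Groth.Agent.Lib.Helper5.KFlat.flat_of_isZero
      (HomologicalComplex.isZero_single_obj_X (ComplexShape.up ℤ) 0 _ i hi)

lemma exists_flat_of_torAmp (M : Dual.D A) (h : DRing.HasTorAmplitudeIn A 0 0 M) :
    ∃ (N : Type u) (_ : AddCommGroup N) (_ : Module A N),
      Module.Flat A N ∧ Nonempty (M ≅ Dual.inD A N) := by
  obtain ⟨E, hE0, hEflat, ⟨eE⟩⟩ := h
  haveI : E.IsStrictlyLE 0 := isStrictlyLE_of_vanishesAbove (fun i hi => hE0 i (Or.inr hi))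
  haveI : E.IsStrictlyGE 0 := by
    rw [CochainComplex.isStrictlyGE_iff]
    intro i hi
    exact hE0 i (Or.inl hi)
  obtain ⟨X, ⟨eX⟩⟩ := CochainComplex.exists_iso_single E 0
  have e1 : E.X 0 ≅ ((HomologicalComplex.single (ModuleCat.{u} A) (ComplexShape.up ℤ) 0).obj X).X 0 :=
    (HomologicalComplex.eval _ _ 0).mapIso eX
  have e2 : ((HomologicalComplex.single (ModuleCat.{u} A) (ComplexShape.up ℤ) 0).obj X).X 0 ≅ X :=
    HomologicalComplex.singleObjXSelf (ComplexShape.up ℤ) 0 X
  have hX : Module.Flat A X := Groth.Agent.Lib.Helper5.KFlat.flat_of_iso (e1.trans e2) (hEflat 0)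
  exact ⟨X, inferInstance, inferInstance, hX,
    ⟨eE.symm ≪≫ Q.mapIso eX ≪≫ ((DerivedCategory.singleFunctorIsoCompQ (ModuleCat.{u} A) 0).app X).symm⟩⟩

end Final

attribute [local instance] HasDerivedCategory.standard in
theorem main_S12899 {R : Type u} [CommRing R] (f : R) (M : Dual.D R)
    [DRing.HasLBaseChange (algebraMap R (Localization.Away f))]
    [DRing.HasLBaseChange (Ideal.Quotient.mk (Ideal.span ({f} : Set R)))]
    (h1 : ∀ i : ℤ, 0 < i → Subsingleton (Dual.HD R M i))
    (h2 : ∃ (N : Type u) (_ : AddCommGroup N) (_ : Module (Localization.Away f) N),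
      Module.Flat (Localization.Away f) N ∧
        Nonempty ((DRing.LBaseChange (algebraMap R (Localization.Away f))).obj M ≅
          Dual.inD (Localization.Away f) N))
    (h3 : ∃ (N : Type u) (_ : AddCommGroup N) (_ : Module (R ⧸ Ideal.span ({f} : Set R)) N),
      Module.Flat (R ⧸ Ideal.span ({f} : Set R)) N ∧
        Nonempty ((DRing.LBaseChange (Ideal.Quotient.mk (Ideal.span ({f} : Set R)))).obj M ≅
          Dual.inD (R ⧸ Ideal.span ({f} : Set R)) N)) :
    ∃ (N : Type u) (_ : AddCommGroup N) (_ : Module R N),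
      Module.Flat R N ∧ Nonempty (M ≅ Dual.inD R N) := by
  haveI : M.IsLE 0 := by
    rw [DerivedCategory.isLE_iff]
    intro i hi
    have := h1 i hi
    exact ModuleCat.isZero_of_subsingleton _
  obtain ⟨P, hPb, hproj, hPk, ⟨e⟩⟩ := exists_proj_rep M 0
  have hflat : DRing.TermwiseFlat P := termwiseFlat_of_projective P hproj
  obtain ⟨N₂, _, _, hN₂, ⟨e₂⟩⟩ := h2
  obtain ⟨N₃, _, _, hN₃, ⟨e₃⟩⟩ := h3
  have hT₂ : TorVan 0 0 ((bcCx (algebraMap R (Localization.Away f))).obj P) :=
    (hasTorAmplitudeIn_iff' _ (Groth.Agent.Lib.Helper5.KFlat.termwiseFlat_bcCx _ P hflat) 0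
      (vanishesAbove_bcCx _ P 0 hPb)
      ((lbcIso _ P).symm ≪≫ (DRing.LBaseChange _).mapIso e) 0 0).1
      (hasTorAmplitudeIn_of_iso e₂.symm (hasTorAmp_inD N₂))
  have hT₃ : TorVan 0 0 ((bcCx (Ideal.Quotient.mk (Ideal.span ({f} : Set R)))).obj P) :=
    (hasTorAmplitudeIn_iff' _ (Groth.Agent.Lib.Helper5.KFlat.termwiseFlat_bcCx _ P hflat) 0
      (vanishesAbove_bcCx _ P 0 hPb)
      ((lbcIso _ P).symm ≪≫ (DRing.LBaseChange _).mapIso e) 0 0).1
      (hasTorAmplitudeIn_of_iso e₃.symm (hasTorAmp_inD N₃))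
  have hgood := good_all f P hflat (fun N' i hi => hT₃ N' i (Or.inl hi))
    (fun N' i hi => hT₂ N' i (Or.inl hi))
  have hT : TorVan 0 0 P := by
    intro N i hi
    rcases hi with hi | hi
    · exact hgood N i hi
    · exact HomologicalComplex.ExactAt.of_isZero (Functor.map_isZero (tensorRight N) (hPb i hi))
  exact exists_flat_of_torAmp M ((hasTorAmplitudeIn_iff' P hflat 0 hPb e 0 0).2 hT)

end Groth.Agent.Helper3.FlatGlue
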