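import Mathlib
import Groth.Agent.Lib.Helper1.FlatNil

/-!
# Flatness modulo the kernel of `I → Γ(U, I/I²)`: algebraic core (helper3)
-/

set_option autoImplicit false

namespace Groth.Agent.Helper3.FlatI2

open TensorProduct Groth.Agent.Helper1.LocalCrit Groth.Agent.Helper1.FlatNil

universe u

section Pi

variable {A : Type u} [CommRing A] (M : Type u) [AddCommGroup M] [Module A M]

theorem eq_zero_of_proj_rTensor {ι : Type u} [Fintype ι] [DecidableEq ι] (N : ι → Type u)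
    [∀ i, AddCommGroup (N i)] [∀ i, Module A (N i)] (z : (∀ i, N i) ⊗[A] M)
    (h : ∀ i, ((LinearMap.proj i : (∀ i, N i) →ₗ[A] N i).rTensor M) z = 0) : z = 0 := by
  have hid : (LinearMap.id : (∀ i, N i) →ₗ[A] (∀ i, N i)) =
      ∑ i, (LinearMap.single A N i) ∘ₗ (LinearMap.proj i) := by
    refine LinearMap.ext (fun v => ?_)
    rw [LinearMap.id_apply, LinearMap.sum_apply]
    simp only [LinearMap.comp_apply, LinearMap.proj_apply, LinearMap.single_apply]
    exact (Finset.univ_sum_single v).symm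
  have h1 : z = (LinearMap.id : (∀ i, N i) →ₗ[A] (∀ i, N i)).rTensor M z := by
    rw [LinearMap.rTensor_id_apply]
  rw [h1, hid, ← LinearMap.coe_rTensorHom, map_sum, LinearMap.sum_apply]
  apply Finset.sum_eq_zero
  intro i _
  rw [LinearMap.coe_rTensorHom, LinearMap.rTensor_comp, LinearMap.comp_apply, h i, map_zero]

end Pi

section Core

variable {A : Type u} [CommRing A] (I I₂ : Ideal A) (M : Type u) [AddCommGroup M] [Module A M]

theorem flat_quot_of_local (hle : I ^ 2 ≤ I₂)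
    [Module.Flat (A ⧸ I) ((A ⧸ I) ⊗[A] M)] (t : Finset A)
    (H2 : ∀ x ∈ I, ∀ n : ℕ, (∀ f ∈ t, f ^ n * x ∈ I₂) → x ∈ I₂)
    (H3 : ∀ ξ : (I.map (Ideal.Quotient.mk I₂)) ⊗[A] M,
      (((I.map (Ideal.Quotient.mk I₂)).subtype.restrictScalars A).rTensor M) ξ = 0 →
        ∀ f ∈ t, ∃ n : ℕ, f ^ n • ξ = 0) :
    Module.Flat (A ⧸ I₂) ((A ⧸ I₂) ⊗[A] M) := by
  classical
  have hI2 : (I.map (Ideal.Quotient.mk I₂)) ^ 2 = ⊥ := by
    rw [← Ideal.map_pow, Ideal.map_eq_bot_iff_le_ker, Ideal.mk_ker]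
    exact hle
  have hkill : ∀ a ∈ I, ∀ y : ↥(I.map (Ideal.Quotient.mk I₂)), a • y = 0 := by
    intro a ha y
    apply Subtype.ext
    show a • (y : A ⧸ I₂) = 0
    rw [Algebra.smul_def]
    have h1 : algebraMap A (A ⧸ I₂) a * (y : A ⧸ I₂) ∈
        (I.map (Ideal.Quotient.mk I₂)) * (I.map (Ideal.Quotient.mk I₂)) :=
      Ideal.mul_mem_mul (Ideal.mem_map_of_mem _ ha) y.2
    rw [← pow_two, hI2] at h1
    exact h1
  haveI ha : Module.Flat ((A ⧸ I₂) ⧸ (I.map (Ideal.Quotient.mk I₂)))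
      (((A ⧸ I₂) ⧸ (I.map (Ideal.Quotient.mk I₂))) ⊗[A ⧸ I₂] ((A ⧸ I₂) ⊗[A] M)) := by
    apply flat_baseChange_of_forall_ideal
    intro 𝔞
    rw [rTensor_baseChange_injective_iff (R := A) (A := A ⧸ I₂) M]
    apply rTensor_injective_of_smul_eq_zero I M
    · exact Subtype.val_injective
    · intro a ha y
      rw [Algebra.smul_def]
      have : algebraMap A ((A ⧸ I₂) ⧸ (I.map (Ideal.Quotient.mk I₂))) a = 0 := by
        show Ideal.Quotient.mk _ (Ideal.Quotient.mk _ a) = 0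
        rw [Ideal.Quotient.eq_zero_iff_mem]
        exact Ideal.mem_map_of_mem _ ha
      rw [this, zero_mul]
  refine flat_of_rTensor_injective_of_flat_quotient_of_pow_eq_bot
    (I.map (Ideal.Quotient.mk I₂)) ((A ⧸ I₂) ⊗[A] M) ?_ 2 hI2
  rw [rTensor_baseChange_injective_iff (R := A) (A := A ⧸ I₂) M]
  rw [injective_iff_map_eq_zero]
  intro ξ hξ
  choose! nf hnf using H3 ξ hξ
  let n := t.sup nf
  have hn : ∀ f ∈ t, f ^ n • ξ = 0 := by
    intro f hf
    have hle : nf f ≤ n := Finset.le_sup hf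
    obtain ⟨k, hk⟩ := Nat.exists_eq_add_of_le hle
    rw [hk, pow_add, mul_comm, mul_smul, hnf f hf, smul_zero]
  let τ : ↥(I.map (Ideal.Quotient.mk I₂)) →ₗ[A] (t → ↥(I.map (Ideal.Quotient.mk I₂))) :=
    LinearMap.pi (fun f => (f.1 ^ n) • LinearMap.id)
  have hτ : Function.Injective τ := by
    rw [injective_iff_map_eq_zero]
    intro y hy
    obtain ⟨x, hxI, hxy⟩ := (Ideal.mem_map_iff_of_surjective _ Ideal.Quotient.mk_surjective).mp y.2
    have hx2 : x ∈ I₂ := by
      apply H2 x hxI n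
      intro f hf
      have h1 := congrFun hy ⟨f, hf⟩
      have h2 : (f ^ n) • y = 0 := h1
      have h3 := congrArg Subtype.val h2
      rw [Submodule.coe_smul_of_tower, ← hxy, Algebra.smul_def] at h3
      rw [← Ideal.Quotient.eq_zero_iff_mem, map_mul]
      exact h3
    apply Subtype.ext
    rw [← hxy]
    exact Ideal.Quotient.eq_zero_iff_mem.mpr hx2
  have hkill' : ∀ a ∈ I, ∀ y : t → ↥(I.map (Ideal.Quotient.mk I₂)), a • y = 0 := by
    intro a ha y
    funext f
    exact hkill a ha (y f)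
  have hτM : Function.Injective (τ.rTensor M) :=
    rTensor_injective_of_smul_eq_zero I M τ hτ hkill'
  apply hτM
  rw [map_zero]
  apply eq_zero_of_proj_rTensor M (fun _ : t => ↥(I.map (Ideal.Quotient.mk I₂)))
  intro f
  rw [← LinearMap.comp_apply, ← LinearMap.rTensor_comp]
  have : (LinearMap.proj f : (t → ↥(I.map (Ideal.Quotient.mk I₂))) →ₗ[A] _) ∘ₗ τ =
      (f.1 ^ n) • LinearMap.id := by
    ext y
    rfl
  rw [this, LinearMap.rTensor_smul, LinearMap.smul_apply, LinearMap.rTensor_id_apply]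
  exact hn f.1 f.2

end Core

end Groth.Agent.Helper3.FlatI2
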