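import Mathlib
import Groth.Agent.Lib.Helper3.FlatI2a

/-!
# Flatness modulo the kernel of `I → Γ(U, I/I²)` (helper3)
-/

set_option autoImplicit false

namespace Groth.Agent.Helper3.FlatI2

open TensorProduct

universe u

section Local

variable {A : Type u} [CommRing A] (M : Type u) [AddCommGroup M] [Module A M]

/-- If `ι ξ = 0` for an injective `j : N' → N` and `M_p` is flat, then `ξ` dies at `p`. -/
theorem exists_smul_eq_zero_of_flat_localized {N' N : Type u} [AddCommGroup N'] [Module A N']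
    [AddCommGroup N] [Module A N] (j : N' →ₗ[A] N) (hj : Function.Injective j)
    (p : Ideal A) [p.IsPrime] [Module.Flat A (LocalizedModule p.primeCompl M)]
    (ξ : N' ⊗[A] M) (hξ : (j.rTensor M) ξ = 0) : ∃ s : A, s ∉ p ∧ s • ξ = 0 := by
  let ℓ : M →ₗ[A] LocalizedModule p.primeCompl M := LocalizedModule.mkLinearMap p.primeCompl M
  have h1 : (j.rTensor (LocalizedModule p.primeCompl M)) ((ℓ.lTensor N') ξ) = 0 := by
    rw [← LinearMap.comp_apply, LinearMap.rTensor_comp_lTensor, ← LinearMap.lTensor_comp_rTensor,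
      LinearMap.comp_apply, hξ, map_zero]
  have h2 : (ℓ.lTensor N') ξ = 0 := by
    have hinj := Module.Flat.rTensor_preserves_injective_linearMap
      (M := LocalizedModule p.primeCompl M) j hj
    apply hinj
    rw [h1, map_zero]
  have h3 : (AlgebraTensorModule.rTensor A N' ℓ) (TensorProduct.comm A N' M ξ) = 0 := by
    have hcomm : ∀ w : N' ⊗[A] M,
        (AlgebraTensorModule.rTensor A N' ℓ) (TensorProduct.comm A N' M w) =
        TensorProduct.comm A N' (LocalizedModule p.primeCompl M) ((ℓ.lTensor N') w) := by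
      intro w
      induction w using TensorProduct.induction_on with
      | zero => simp
      | tmul a b => rfl
      | add x y hx hy => simp only [map_add, hx, hy]
    have := hcomm ξ
    rw [this, h2, map_zero]
  obtain ⟨c, hc⟩ := (IsLocalizedModule.eq_zero_iff p.primeCompl
    (AlgebraTensorModule.rTensor A N' ℓ)).mp h3
  refine ⟨c.1, c.2, ?_⟩
  apply (TensorProduct.comm A N' M).injective
  rw [map_smul, map_zero]
  exact hc

end Local

section Main

variable {A : Type u} [CommRing A]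

theorem main_S1267 (I : Ideal A)
    (U : Set (PrimeSpectrum A)) (hU : IsOpen U) (hUc : IsCompact U)
    (M : Type u) [AddCommGroup M] [Module A M]
    [Module.Flat (A ⧸ I) (M ⧸ (I • ⊤ : Submodule A M))]
    (hflat : ∀ p ∈ U, Module.Flat A (LocalizedModule p.asIdeal.primeCompl M))
    (I₂ : Ideal A) (hI₂ : ∀ x : A, x ∈ I₂ ↔ x ∈ I ∧ ∀ p ∈ U, ∃ s : A, s ∉ p.asIdeal ∧ s * x ∈ I ^ 2) :
    Module.Flat (A ⧸ I₂) (M ⧸ (I₂ • ⊤ : Submodule A M)) := by
  obtain ⟨t, ht⟩ := PrimeSpectrum.isCompact_isOpen_iff.mp ⟨hUc, hU⟩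
  have hmemU : ∀ p : PrimeSpectrum A, p ∈ U ↔ ∃ f ∈ t, f ∉ p.asIdeal := by
    intro p
    rw [← ht, Set.mem_compl_iff, PrimeSpectrum.mem_zeroLocus, Set.not_subset]
    constructor
    · rintro ⟨f, hf, hfp⟩
      exact ⟨f, hf, hfp⟩
    · rintro ⟨f, hf, hfp⟩
      exact ⟨f, hf, hfp⟩
  haveI : Module.Flat (A ⧸ I) ((A ⧸ I) ⊗[A] M) :=
    Module.Flat.of_linearEquiv
      ((quotTensorEquivQuotSMul M I).extendScalarsOfSurjective Ideal.Quotient.mk_surjective)
  have hle : I ^ 2 ≤ I₂ := by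
    intro x hx
    rw [hI₂]
    refine ⟨Ideal.pow_le_self two_ne_zero hx, fun p _ => ⟨1, ?_, ?_⟩⟩
    · exact (Ideal.ne_top_iff_one _).mp p.2.ne_top
    · rw [one_mul]; exact hx
  have H2 : ∀ x ∈ I, ∀ n : ℕ, (∀ f ∈ t, f ^ n * x ∈ I₂) → x ∈ I₂ := by
    intro x hx n h
    rw [hI₂]
    refine ⟨hx, fun p hp => ?_⟩
    obtain ⟨f, hf, hfp⟩ := (hmemU p).mp hp
    obtain ⟨s, hs, hsx⟩ := ((hI₂ _).mp (h f hf)).2 p hp
    refine ⟨s * f ^ n, ?_, ?_⟩
    · exact p.2.mul_notMem hs (fun h' => hfp (p.2.mem_of_pow_mem n h'))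
    · rw [mul_assoc]; exact hsx
  have H3 : ∀ ξ : (I.map (Ideal.Quotient.mk I₂)) ⊗[A] M,
      (((I.map (Ideal.Quotient.mk I₂)).subtype.restrictScalars A).rTensor M) ξ = 0 →
        ∀ f ∈ t, ∃ n : ℕ, f ^ n • ξ = 0 := by
    intro ξ hξ f hf
    have hrad : f ∈ ((Submodule.span A {ξ}).annihilator).radical := by
      rw [Ideal.radical_eq_sInf, Ideal.mem_sInf]
      rintro J ⟨hJ, hJp⟩
      by_contra hfJ
      have hpU : (⟨J, hJp⟩ : PrimeSpectrum A) ∈ U := (hmemU _).mpr ⟨f, hf, hfJ⟩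
      haveI := hflat _ hpU
      obtain ⟨s, hs, hsξ⟩ := exists_smul_eq_zero_of_flat_localized M
        ((I.map (Ideal.Quotient.mk I₂)).subtype.restrictScalars A) Subtype.val_injective J ξ hξ
      apply hs
      apply hJ
      rw [Submodule.mem_annihilator_span_singleton]
      exact hsξ
    obtain ⟨n, hn⟩ := hrad
    exact ⟨n, (Submodule.mem_annihilator_span_singleton _ _).mp hn⟩
  have := flat_quot_of_local I I₂ M hle t H2 H3
  exact Module.Flat.of_linearEquiv
    ((quotTensorEquivQuotSMul M I₂).extendScalarsOfSurjective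
      Ideal.Quotient.mk_surjective).symm

end Main

end Groth.Agent.Helper3.FlatI2
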