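import Mathlib
import Groth.Agent.Lib.Helper3.FlatId1

/-!
# Relative flatness: passage to the limit (local criterion, "all quotients" form)
-/

namespace Groth.Agent.Helper3.FlatId

open TensorProduct

universe u v

variable {R : Type u} [CommRing R]

theorem smul_mk_mk (I : Ideal R) (𝔫 : Ideal (R ⧸ I)) (a z : R) :
    a • (Ideal.Quotient.mk 𝔫 (Ideal.Quotient.mk I z)) =
      Ideal.Quotient.mk 𝔫 (Ideal.Quotient.mk I (a * z)) := by
  rw [← Ideal.Quotient.mk_eq_mk, ← Submodule.Quotient.mk_smul]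
  congr 1

/-- additive maps semilinear along `R → R ⧸ I` send `(L.map mk) • ⊤` into `L • ⊤`. -/
theorem map_mem_smul_top (I L : Ideal R) {P P' : Type*} [AddCommGroup P] [Module (R ⧸ I) P]
    [AddCommGroup P'] [Module R P'] (φ : P →+ P')
    (hφ : ∀ (a : R) (p : P), φ (Ideal.Quotient.mk I a • p) = a • φ p) (x : P)
    (hx : x ∈ (L.map (Ideal.Quotient.mk I)) • (⊤ : Submodule (R ⧸ I) P)) :
    φ x ∈ L • (⊤ : Submodule R P') := by
  refine Submodule.smul_induction_on hx ?_ ?_
  · intro r hr p _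
    rw [Ideal.mem_map_iff_of_surjective _ Ideal.Quotient.mk_surjective] at hr
    obtain ⟨a, ha, rfl⟩ := hr
    rw [hφ]
    exact Submodule.smul_mem_smul ha Submodule.mem_top
  · intro p p' hp hp'
    rw [map_add]
    exact add_mem hp hp'

variable [IsNoetherianRing R] {X : Type v} [AddCommGroup X] [Module R X]

theorem relInj_of_forall_sup_pow (𝔪 I : Ideal R)
    {S' : Type*} [CommRing S'] [IsNoetherianRing S'] [IsLocalRing S'] [Algebra R S']
    [Module S' X] [IsScalarTower R S' X] [Module.Finite S' X]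
    (h𝔪 : 𝔪.map (algebraMap R S') ≠ ⊤)
    (h : ∀ k, RelInj (I ⊔ 𝔪 ^ k) X) : RelInj I X := by
  rw [relInj_iff]
  rw [Module.Flat.iff_rTensor_injective']
  intro J
  rw [injective_iff_map_eq_zero]
  intro x hx
  have hc : ∀ n : ℕ, 0 < n → ∀ Q : Submodule (R ⧸ I)
      ((R ⧸ I) ⧸ (𝔪.map (Ideal.Quotient.mk I)) ^ n),
      Function.Injective (Q.subtype.rTensor ((R ⧸ I) ⊗[R] X)) := by
    intro n _ Q
    rw [Groth.Agent.Helper1.LocalCrit.rTensor_baseChange_injective_iff]
    refine h n _ _ (Q.subtype.restrictScalars R) (Submodule.subtype_injective _) ?_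
    intro a ha y
    obtain ⟨y, rfl⟩ := Ideal.Quotient.mk_surjective y
    obtain ⟨z, rfl⟩ := Ideal.Quotient.mk_surjective y
    rw [smul_mk_mk, Ideal.Quotient.eq_zero_iff_mem, ← Ideal.map_pow]
    obtain ⟨b, hb, c, hc, rfl⟩ := Submodule.mem_sup.mp ha
    have : Ideal.Quotient.mk I ((b + c) * z) = Ideal.Quotient.mk I (c * z) := by
      rw [add_mul, map_add]
      have : Ideal.Quotient.mk I (b * z) = 0 :=
        Ideal.Quotient.eq_zero_iff_mem.mpr (I.mul_mem_right _ hb)
      rw [this, zero_add]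
    rw [this]
    exact Ideal.mem_map_of_mem _ (Ideal.mul_mem_right _ _ hc)
  have hmem := Groth.Agent.Helper1.LocalCrit.mem_pow_smul_top_of_rTensor_eq_zero
    ((R ⧸ I) ⊗[R] X) (𝔪.map (Ideal.Quotient.mk I)) hc J x hx
  haveI : Module.Finite (R ⧸ I) J := Module.Finite.of_fg (IsNoetherian.noetherian J)
  haveI : Module.Finite R J := Module.Finite.trans (R ⧸ I) J
  haveI := Groth.Agent.Helper1.LocalCrit.finite_tensorProduct (R := R) (S := S') X J
  let e := AlgebraTensorModule.cancelBaseChange R (R ⧸ I) (R ⧸ I) J X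
  let φ : J ⊗[R ⧸ I] ((R ⧸ I) ⊗[R] X) →+ X ⊗[R] J :=
    (TensorProduct.comm R J X).toLinearMap.toAddMonoidHom.comp e.toLinearMap.toAddMonoidHom
  have hφ : ∀ (a : R) (p : J ⊗[R ⧸ I] ((R ⧸ I) ⊗[R] X)),
      φ (Ideal.Quotient.mk I a • p) = a • φ p := by
    intro a p
    show (TensorProduct.comm R J X) (e (Ideal.Quotient.mk I a • p)) =
      a • (TensorProduct.comm R J X) (e p)
    rw [map_smul]
    have : (Ideal.Quotient.mk I a) • e p = a • e p := by
      rw [← Ideal.Quotient.algebraMap_eq, algebraMap_smul]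
    rw [this, map_smul]
  have h0 : φ x = 0 := by
    apply Groth.Agent.Helper1.LocalCrit.iInf_pow_smul_top_eq_bot (S := S') 𝔪 h𝔪 (X ⊗[R] J)
    intro n
    apply map_mem_smul_top I (𝔪 ^ n) φ hφ
    rw [Ideal.map_pow]
    exact hmem n
  have h1 : e x = 0 := (TensorProduct.comm R J X).injective (h0.trans (map_zero _).symm)
  exact e.injective (h1.trans (map_zero _).symm)

end Groth.Agent.Helper3.FlatId
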