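import Mathlib

/-!
# Smallest ideal with a property, in a complete Noetherian local ring
-/

namespace Groth.Agent.Helper3.FlatId

open IsLocalRing

universe u

variable {R : Type u} [CommRing R] [IsLocalRing R] [IsNoetherianRing R]

theorem exists_smallest_level (P : Ideal R → Prop)
    (hmono : ∀ I J : Ideal R, I ≤ J → P I → P J)
    (hinf : ∀ I J : Ideal R, P I → P J → P (I ⊓ J))
    (hm : P (maximalIdeal R)) (k : ℕ) :
    ∃ I : Ideal R, maximalIdeal R ^ k ≤ I ∧ P I ∧
      ∀ J : Ideal R, maximalIdeal R ^ k ≤ J → P J → I ≤ J := by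
  by_cases hk : k = 0
  · subst hk
    refine ⟨⊤, le_top, hmono _ _ le_top hm, fun J hJ _ => ?_⟩
    rwa [pow_zero, Ideal.one_eq_top] at hJ
  have hmin : maximalIdeal R ∈ (maximalIdeal R ^ k).minimalPrimes := by
    refine ⟨⟨inferInstance, Ideal.pow_le_self hk⟩, ?_⟩
    rintro q ⟨hq, hqk⟩ _
    exact hq.le_of_pow_le hqk
  haveI hart : IsArtinianRing (R ⧸ maximalIdeal R ^ k) :=
    IsLocalRing.quotient_artinian_of_mem_minimalPrimes_of_isLocalRing _ hmin
  set mk := Ideal.Quotient.mk (maximalIdeal R ^ k) with hmk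
  have hker : Ideal.comap mk ⊥ = maximalIdeal R ^ k := by
    rw [← RingHom.ker_eq_comap_bot, Ideal.mk_ker]
  let T : Set (Ideal (R ⧸ maximalIdeal R ^ k)) := {Q | P (Ideal.comap mk Q)}
  have hT : T.Nonempty := ⟨⊤, by
    show P (Ideal.comap mk ⊤)
    rw [Ideal.comap_top]
    exact hmono _ _ le_top hm⟩
  obtain ⟨Q₀, hQ₀, hQmin⟩ := IsArtinian.set_has_minimal T hT
  have hle0 : maximalIdeal R ^ k ≤ Ideal.comap mk Q₀ := by
    refine le_trans (le_of_eq hker.symm) ?_
    exact Ideal.comap_mono bot_le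
  refine ⟨Ideal.comap mk Q₀, hle0, hQ₀, fun J hJ hPJ => ?_⟩
  have h1 : Ideal.comap mk (Ideal.map mk (Ideal.comap mk Q₀ ⊓ J)) = Ideal.comap mk Q₀ ⊓ J := by
    rw [Ideal.comap_map_of_surjective _ Ideal.Quotient.mk_surjective, hker]
    exact sup_eq_left.mpr (le_inf hle0 hJ)
  have h2 : Ideal.map mk (Ideal.comap mk Q₀ ⊓ J) ∈ T := by
    show P (Ideal.comap mk (Ideal.map mk (Ideal.comap mk Q₀ ⊓ J)))
    rw [h1]
    exact hinf _ _ hQ₀ hPJ
  have h3 : Ideal.map mk (Ideal.comap mk Q₀ ⊓ J) ≤ Q₀ := by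
    refine le_trans (Ideal.map_mono inf_le_left) ?_
    exact Ideal.map_comap_le
  have h4 : Ideal.map mk (Ideal.comap mk Q₀ ⊓ J) = Q₀ := by
    by_contra hne
    exact hQmin _ h2 (lt_of_le_of_ne h3 hne)
  have h5 : Ideal.comap mk Q₀ = Ideal.comap mk Q₀ ⊓ J := by
    conv_lhs => rw [← h4]
    exact h1
  rw [h5]
  exact inf_le_right

theorem exists_smallest [IsAdicComplete (maximalIdeal R) R] (P : Ideal R → Prop)
    (hmono : ∀ I J : Ideal R, I ≤ J → P I → P J)
    (hinf : ∀ I J : Ideal R, P I → P J → P (I ⊓ J))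
    (hlim : ∀ I : Ideal R, (∀ k, P (I ⊔ maximalIdeal R ^ k)) → P I)
    (hm : P (maximalIdeal R)) :
    ∃ I : Ideal R, I ≤ maximalIdeal R ∧ P I ∧ ∀ J : Ideal R, P J → I ≤ J := by
  classical
  set m := maximalIdeal R with hmdef
  choose I hI1 hI2 hI3 using exists_smallest_level P hmono hinf hm
  have hanti : ∀ k l, k ≤ l → I l ≤ I k := by
    intro k l hkl
    exact hI3 l (I k) (le_trans (Ideal.pow_le_pow_right hkl) (hI1 k)) (hI2 k)
  have hsup : ∀ k l, k ≤ l → I l ⊔ m ^ k = I k := by
    intro k l hkl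
    apply le_antisymm
    · exact sup_le (hanti k l hkl) (hI1 k)
    · exact hI3 k _ le_sup_right (hmono _ _ le_sup_left (hI2 l))
  have step : ∀ n y, y ∈ I n → ∃ y', y' ∈ I (n + 1) ∧ y - y' ∈ m ^ n := by
    intro n y hy
    rw [← hsup n (n + 1) (Nat.le_succ n)] at hy
    obtain ⟨y', hy', z, hz, hyz⟩ := Submodule.mem_sup.mp hy
    exact ⟨y', hy', by rw [← hyz]; simpa using hz⟩
  choose! nxt hnxt using step
  have hkey : ∀ k, (⨅ n, I n) ⊔ m ^ k = I k := by
    intro k
    apply le_antisymm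
    · exact sup_le (iInf_le _ k) (hI1 k)
    intro x hx
    let z : ℕ → R := fun j => Nat.rec x (fun j y => nxt (k + j) y) j
    have hz : ∀ j, z j ∈ I (k + j) := by
      intro j
      induction j with
      | zero => exact hx
      | succ j ih => exact (hnxt (k + j) (z j) ih).1
    have hd : ∀ j, z j - z (j + 1) ∈ m ^ (k + j) := fun j => (hnxt (k + j) (z j) (hz j)).2
    have hd2 : ∀ a b, z a - z (a + b) ∈ m ^ (k + a) := by
      intro a b
      induction b with
      | zero => simp
      | succ b ih =>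
        have : z a - z (a + (b + 1)) = (z a - z (a + b)) + (z (a + b) - z (a + b + 1)) := by
          rw [← add_assoc]; ring
        rw [this]
        refine add_mem ih ?_
        exact Ideal.pow_le_pow_right (by omega) (hd (a + b))
    let f : ℕ → R := fun n => z (n - k)
    have hf : ∀ {a b : ℕ}, a ≤ b → f a ≡ f b [SMOD (m ^ a • ⊤ : Submodule R R)] := by
      intro a b hab
      rw [SModEq.sub_mem, smul_eq_mul, Ideal.mul_top]
      have h1 : b - k = (a - k) + ((b - k) - (a - k)) := by omega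
      show z (a - k) - z (b - k) ∈ m ^ a
      rw [h1]
      exact Ideal.pow_le_pow_right (by omega) (hd2 (a - k) _)
    obtain ⟨L, hL⟩ := IsPrecomplete.prec (IsAdicComplete.toIsPrecomplete (I := m) (M := R)) hf
    have hL' : ∀ n, f n - L ∈ m ^ n := by
      intro n
      have := hL n
      rwa [SModEq.sub_mem, smul_eq_mul, Ideal.mul_top] at this
    have hLI : L ∈ ⨅ n, I n := by
      rw [Submodule.mem_iInf]
      intro n
      have h1 : f (max n k) ∈ I n := by
        have := hz (max n k - k)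
        have h2 : k + (max n k - k) = max n k := by omega
        rw [h2] at this
        exact hanti n (max n k) (le_max_left _ _) this
      have h2 : f (max n k) - L ∈ I n :=
        hI1 n (Ideal.pow_le_pow_right (le_max_left _ _) (hL' (max n k)))
      have : L = f (max n k) - (f (max n k) - L) := by ring
      rw [this]
      exact (I n).sub_mem h1 h2
    have hxL : x - L ∈ m ^ k := by
      have := hL' k
      simpa [f, z] using this
    have : x = L + (x - L) := by ring
    rw [this]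
    exact Submodule.add_mem_sup hLI hxL
  refine ⟨⨅ n, I n, ?_, ?_, ?_⟩
  · refine le_trans (iInf_le _ 1) ?_
    exact hI3 1 m (by rw [pow_one]) hm
  · apply hlim
    intro k
    rw [hkey]
    exact hI2 k
  · intro J hJ x hx
    have h1 : ∀ k, x ∈ J ⊔ m ^ k := by
      intro k
      have h2 : (⨅ n, I n) ≤ I k := iInf_le _ k
      exact hI3 k _ le_sup_right (hmono _ _ le_sup_left hJ) (h2 hx)
    have h2 := Ideal.iInf_pow_smul_eq_bot_of_isLocalRing (R := R) (M := R ⧸ J) m
      (Ideal.IsPrime.ne_top inferInstance)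
    have h3 : Ideal.Quotient.mk J x ∈ (⨅ i, m ^ i • ⊤ : Submodule R (R ⧸ J)) := by
      rw [Submodule.mem_iInf]
      intro k
      obtain ⟨j, hj, c, hc, rfl⟩ := Submodule.mem_sup.mp (h1 k)
      have : Ideal.Quotient.mk J (j + c) = c • (Ideal.Quotient.mk J 1) := by
        rw [map_add, Ideal.Quotient.eq_zero_iff_mem.mpr hj, zero_add, Algebra.smul_def,
          Ideal.Quotient.algebraMap_eq, map_one, mul_one]
      rw [this]
      exact Submodule.smul_mem_smul hc Submodule.mem_top
    rw [h2, Submodule.mem_bot] at h3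
    exact Ideal.Quotient.eq_zero_iff_mem.mp h3

end Groth.Agent.Helper3.FlatId
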