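import Mathlib
import Groth.Agent.Lib.Helper3.FlatId2
import Groth.Agent.Lib.Helper3.FlatId3

/-!
# The flattening ideal over a complete Noetherian local ring
-/

namespace Groth.Agent.Helper3.FlatId

open TensorProduct IsLocalRing

universe u

theorem map_maximalIdeal_ne_top {R S : Type u} [CommRing R] [IsLocalRing R] [CommRing S]
    [Algebra R S] (q : Ideal S) [q.IsPrime]
    (hq : q.comap (algebraMap R S) = maximalIdeal R) :
    (maximalIdeal R).map (algebraMap R (Localization.AtPrime q)) ≠ ⊤ := by
  rw [IsScalarTower.algebraMap_eq R S (Localization.AtPrime q), ← Ideal.map_map]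
  have h1 : (maximalIdeal R).map (algebraMap R S) ≤ q := by
    rw [Ideal.map_le_iff_le_comap, hq]
  have h2 : ((maximalIdeal R).map (algebraMap R S)).map (algebraMap S (Localization.AtPrime q)) ≤
      maximalIdeal (Localization.AtPrime q) := by
    rw [← Localization.AtPrime.map_eq_maximalIdeal]
    exact Ideal.map_mono h1
  intro h
  rw [h] at h2
  exact (IsLocalRing.maximalIdeal.isMaximal (Localization.AtPrime q)).ne_top (top_le_iff.mp h2)

theorem main_S6925 (R S : Type u) [CommRing R] [IsLocalRing R]
    [IsNoetherianRing R] [IsAdicComplete (IsLocalRing.maximalIdeal R) R] [CommRing S] [Algebra R S]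
    [IsNoetherianRing S]
    (M : Type u) [AddCommGroup M] [Module S M] [Module R M] [IsScalarTower R S M]
    [Module.Finite S M] :
    ∃ I : Ideal R, I ≤ IsLocalRing.maximalIdeal R ∧
      (∀ (q : Ideal S) [q.IsPrime], q.comap (algebraMap R S) = IsLocalRing.maximalIdeal R →
        Module.Flat (R ⧸ I) ((R ⧸ I) ⊗[R] LocalizedModule q.primeCompl M)) ∧
      ∀ J : Ideal R, (∀ (q : Ideal S) [q.IsPrime],
        q.comap (algebraMap R S) = IsLocalRing.maximalIdeal R →
        Module.Flat (R ⧸ J) ((R ⧸ J) ⊗[R] LocalizedModule q.primeCompl M)) → I ≤ J := by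
  let P : Ideal R → Prop := fun I => ∀ (q : Ideal S) [q.IsPrime],
    q.comap (algebraMap R S) = IsLocalRing.maximalIdeal R →
      RelInj I (LocalizedModule q.primeCompl M)
  have hP : ∀ I, P I ↔ ∀ (q : Ideal S) [q.IsPrime],
      q.comap (algebraMap R S) = IsLocalRing.maximalIdeal R →
        Module.Flat (R ⧸ I) ((R ⧸ I) ⊗[R] LocalizedModule q.primeCompl M) := by
    intro I
    constructor
    · intro h q _ hq
      exact relInj_iff.mp (h q hq)
    · intro h q _ hq
      exact relInj_iff.mpr (h q hq)
  have hmono : ∀ I J : Ideal R, I ≤ J → P I → P J := by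
    intro I J hIJ h q _ hq
    exact relInj_mono hIJ (h q hq)
  have hinf : ∀ I J : Ideal R, P I → P J → P (I ⊓ J) := by
    intro I J h1 h2 q _ hq
    exact relInj_inf (h1 q hq) (h2 q hq)
  have hlim : ∀ I : Ideal R, (∀ k, P (I ⊔ maximalIdeal R ^ k)) → P I := by
    intro I h q _ hq
    exact relInj_of_forall_sup_pow (maximalIdeal R) I (S' := Localization.AtPrime q)
      (map_maximalIdeal_ne_top q hq) (fun k => h k q hq)
  have hm : P (maximalIdeal R) := by
    intro q _ hq
    rw [relInj_iff]
    letI := Ideal.Quotient.field (maximalIdeal R)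
    infer_instance
  obtain ⟨I, hI1, hI2, hI3⟩ := exists_smallest P hmono hinf hlim hm
  refine ⟨I, hI1, (hP I).mp hI2, fun J hJ => hI3 J ((hP J).mpr hJ)⟩

end Groth.Agent.Helper3.FlatId
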