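import Mathlib
import Groth.Agent.Lib.Helper3.FlatId5
import Groth.Agent.Lib.Helper7.FlatAtBC.Main

/-!
# Base change of the flattening ideal: `(⇐)` direction
-/

namespace Groth.Agent.Helper3.FlatId

open TensorProduct IsLocalRing

universe u

section BC

variable {R S R' S' : Type u} [CommRing R] [CommRing S] [CommRing R'] [CommRing S']
    [Algebra R S] [Algebra R R'] [Algebra S S'] [Algebra R' S'] [Algebra R S'] [IsScalarTower R S S']
    [IsScalarTower R R' S'] [Algebra.IsPushout R S R' S']
    {M M' : Type u} [AddCommGroup M] [Module S M] [Module R M] [IsScalarTower R S M]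
    [AddCommGroup M'] [Module S' M'] [Module R' M'] [IsScalarTower R' S' M'] [Module S M']
    [IsScalarTower S S' M']

theorem flat_localized_of_relInj (f : M →ₗ[S] M') (hf : IsBaseChange S' f) (I : Ideal R)
    (hIker : I ≤ RingHom.ker (algebraMap R R'))
    (q' : Ideal S') [q'.IsPrime]
    (hflat : RelInj I (LocalizedModule (q'.comap (algebraMap S S')).primeCompl M)) :
    Module.Flat R' (LocalizedModule q'.primeCompl M') := by
  set q : Ideal S := q'.comap (algebraMap S S') with hq
  let N := LocalizedModule q.primeCompl M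
  haveI : Algebra.IsPushout R R' S S' := Algebra.IsPushout.symm inferInstance
  haveI h0 : Module.Flat R' (R' ⊗[R] N) := flat_baseChange_of_relInj I hIker N hflat
  have hflat2 : Module.Flat R' (S' ⊗[S] N) :=
    Module.Flat.of_linearEquiv (Algebra.IsPushout.cancelBaseChange R R' S S' N)
  let T₀ : Submonoid S' := Algebra.algebraMapSubmonoid S' q.primeCompl
  let f₁ : M' →ₗ[S'] S' ⊗[S] N :=
    (AlgebraTensorModule.lTensor S' S' (LocalizedModule.mkLinearMap q.primeCompl M)) ∘ₗ
      hf.equiv.symm.toLinearMap
  haveI : IsLocalizedModule q.primeCompl (f₁.restrictScalars S) := by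
    have h3 : f₁.restrictScalars S = ((LocalizedModule.mkLinearMap q.primeCompl M).lTensor S') ∘ₗ
        (hf.equiv.symm.restrictScalars S).toLinearMap := by
      ext; rfl
    rw [h3]
    haveI := Groth.Agent.Helper7.FlatAtBC.isLocalizedModule_lTensor q.primeCompl
      (LocalizedModule.mkLinearMap q.primeCompl M) S'
    infer_instance
  haveI : IsLocalizedModule T₀ f₁ := IsLocalizedModule.of_restrictScalars q.primeCompl f₁
  have hle : T₀ ≤ q'.primeCompl := by
    rintro _ ⟨x, hx, rfl⟩
    exact hx
  let g := IsLocalizedModule.liftOfLE T₀ q'.primeCompl hle f₁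
    (LocalizedModule.mkLinearMap q'.primeCompl M')
  exact Groth.Agent.Helper7.FlatAtBC.flat_of_isLocalizedModule (A := R') (B := S') q'.primeCompl g

end BC

end Groth.Agent.Helper3.FlatId
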