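import Mathlib
import Groth.Agent.Lib.Helper3.FlatId6

/-!
# Base change of the flattening ideal: `(⇒)` direction and the main theorem
-/

namespace Groth.Agent.Helper3.FlatId

open TensorProduct IsLocalRing

universe u

section Desc

variable {R S R' S' : Type u} [CommRing R] [CommRing S] [CommRing R'] [CommRing S']
    [Algebra R S] [Algebra R R'] [Algebra S S'] [Algebra R' S'] [Algebra R S'] [IsScalarTower R S S']
    [IsScalarTower R R' S'] [Algebra.IsPushout R S R' S']
    {M M' : Type u} [AddCommGroup M] [Module S M] [Module R M] [IsScalarTower R S M]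
    [AddCommGroup M'] [Module S' M'] [Module R' M'] [IsScalarTower R' S' M'] [Module S M']
    [IsScalarTower S S' M']

/-- `M' ≅ R' ⊗[R] M` as `R'`-modules. -/
noncomputable def equivBaseChange (f : M →ₗ[S] M') (hf : IsBaseChange S' f) :
    M' ≃ₗ[R'] R' ⊗[R] M :=
  haveI : Algebra.IsPushout R R' S S' := Algebra.IsPushout.symm inferInstance
  (hf.equiv.symm.restrictScalars R').trans (Algebra.IsPushout.cancelBaseChange R R' S S' M)

/-- Descent of relative flatness along `R ⧸ J → R' ⧸ K` with `J` the contraction of `K`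
and `R ⧸ J` Artinian. -/
theorem relInj_comap_of_relInj (f : M →ₗ[S] M') (hf : IsBaseChange S' f) (K : Ideal R')
    [IsArtinianRing (R ⧸ K.comap (algebraMap R R'))] (h : RelInj K M') :
    RelInj (K.comap (algebraMap R R')) M := by
  rw [relInj_iff] at h ⊢
  set J := K.comap (algebraMap R R') with hJ
  have hinj : Function.Injective (algebraMap (R ⧸ J) (R' ⧸ K)) :=
    Ideal.algebraMap_quotient_injective
  let e1 : (R' ⧸ K) ⊗[R ⧸ J] ((R ⧸ J) ⊗[R] M) ≃ₗ[R' ⧸ K] (R' ⧸ K) ⊗[R] M :=
    AlgebraTensorModule.cancelBaseChange R (R ⧸ J) (R' ⧸ K) (R' ⧸ K) M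
  let e2 : (R' ⧸ K) ⊗[R'] (R' ⊗[R] M) ≃ₗ[R' ⧸ K] (R' ⧸ K) ⊗[R] M :=
    AlgebraTensorModule.cancelBaseChange R R' (R' ⧸ K) (R' ⧸ K) M
  let e3 : (R' ⧸ K) ⊗[R'] M' ≃ₗ[R' ⧸ K] (R' ⧸ K) ⊗[R'] (R' ⊗[R] M) :=
    AlgebraTensorModule.congr (LinearEquiv.refl (R' ⧸ K) (R' ⧸ K)) (equivBaseChange f hf)
  haveI : Module.Flat (R' ⧸ K) ((R' ⧸ K) ⊗[R ⧸ J] ((R ⧸ J) ⊗[R] M)) :=
    Module.Flat.of_linearEquiv (e1.trans (e2.symm.trans e3.symm))
  exact Groth.Agent.Helper1.LocalCrit.flat_of_flat_baseChange_of_injective_of_isArtinianRing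
    (R := R ⧸ J) (S := R' ⧸ K) hinj

end Desc

section Pow

variable {R' S' : Type u} [CommRing R'] [IsLocalRing R'] [CommRing S'] [Algebra R' S']
    {M' : Type u} [AddCommGroup M'] [Module S' M'] [Module R' M'] [IsScalarTower R' S' M']

/-- Flatness at all primes over `𝔪'` gives flatness of `M'` relative to the powers of `𝔪'`. -/
theorem relInj_pow_of_flatAt (n : ℕ)
    (h : ∀ (q' : Ideal S') [q'.IsPrime], q'.comap (algebraMap R' S') = maximalIdeal R' →
      Module.Flat R' (LocalizedModule q'.primeCompl M')) :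
    RelInj (maximalIdeal R' ^ (n + 1)) M' := by
  apply relInj_of_localized_maximal (B := S')
  intro Q hQ
  by_cases hcase : ∀ a ∈ maximalIdeal R', algebraMap R' S' a ∈ Q
  · have hle : maximalIdeal R' ≤ Q.comap (algebraMap R' S') := fun a ha => hcase a ha
    have hne : Q.comap (algebraMap R' S') ≠ ⊤ := (Ideal.comap_isPrime _ Q).ne_top
    have heq : Q.comap (algebraMap R' S') = maximalIdeal R' :=
      ((maximalIdeal.isMaximal R').eq_of_le hne hle).symm
    haveI := h Q heq
    exact relInj_of_flat' _ _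
  · push Not at hcase
    obtain ⟨a, ha, haQ⟩ := hcase
    refine relInj_of_surjective_smul _ _ (a ^ (n + 1)) (Ideal.pow_mem_pow ha _) ?_
    have hu : algebraMap R' S' (a ^ (n + 1)) ∈ Q.primeCompl := by
      rw [map_pow]
      exact Q.primeCompl.pow_mem haQ _
    have h1 := IsLocalizedModule.map_units (LocalizedModule.mkLinearMap Q.primeCompl M')
      ⟨_, hu⟩
    intro x
    obtain ⟨y, hy⟩ := ((Module.End.isUnit_iff _).mp h1).2 x
    refine ⟨y, ?_⟩
    rw [← hy]
    show a ^ (n + 1) • y = algebraMap R' S' (a ^ (n + 1)) • y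
    rw [algebraMap_smul]

end Pow

section Main

variable {R S R' S' : Type u} [CommRing R] [IsLocalRing R]
    [IsNoetherianRing R] [CommRing S]
    [CommRing R'] [IsLocalRing R'] [IsNoetherianRing R'] [CommRing S']
    [Algebra R S] [Algebra R R'] [IsLocalHom (algebraMap R R')] [Algebra S S'] [Algebra R' S']
    [Algebra R S'] [IsScalarTower R S S'] [IsScalarTower R R' S'] [Algebra.IsPushout R S R' S']
    {M M' : Type u} [AddCommGroup M] [Module S M] [Module R M] [IsScalarTower R S M]
    [AddCommGroup M'] [Module S' M'] [Module R' M'] [IsScalarTower R' S' M'] [Module S M']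
    [IsScalarTower S S' M']

theorem comap_maximalIdeal_eq : (maximalIdeal R').comap (algebraMap R R') = maximalIdeal R :=
  ((IsLocalRing.local_hom_TFAE (algebraMap R R')).out 0 4).mp ‹IsLocalHom (algebraMap R R')›

theorem main_S6926 (f : M →ₗ[S] M') (hf : IsBaseChange S' f) (I : Ideal R)
    (hI : (∀ (q : Ideal S) [q.IsPrime], q.comap (algebraMap R S) = IsLocalRing.maximalIdeal R →
        Module.Flat (R ⧸ I) ((R ⧸ I) ⊗[R] LocalizedModule q.primeCompl M)))
    (hmin : ∀ J : Ideal R, (∀ (q : Ideal S) [q.IsPrime],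
        q.comap (algebraMap R S) = IsLocalRing.maximalIdeal R →
        Module.Flat (R ⧸ J) ((R ⧸ J) ⊗[R] LocalizedModule q.primeCompl M)) → I ≤ J) :
    (∀ (q' : Ideal S') [q'.IsPrime], q'.comap (algebraMap R' S') = IsLocalRing.maximalIdeal R' →
        Module.Flat R' (LocalizedModule q'.primeCompl M')) ↔
      I ≤ RingHom.ker (algebraMap R R') := by
  constructor
  · intro h
    have hJ : ∀ n : ℕ, I ≤ (maximalIdeal R' ^ (n + 1)).comap (algebraMap R R') := by
      intro n
      have h1 : RelInj (maximalIdeal R' ^ (n + 1)) M' := relInj_pow_of_flatAt n h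
      have hle : maximalIdeal R ^ (n + 1) ≤
          (maximalIdeal R' ^ (n + 1)).comap (algebraMap R R') := by
        rw [← Ideal.map_le_iff_le_comap, Ideal.map_pow]
        apply Ideal.pow_right_mono
        rw [Ideal.map_le_iff_le_comap, comap_maximalIdeal_eq]
      have hmin' : maximalIdeal R ∈ (maximalIdeal R ^ (n + 1)).minimalPrimes := by
        refine ⟨⟨inferInstance, Ideal.pow_le_self (Nat.succ_ne_zero n)⟩, ?_⟩
        rintro q ⟨hq, hqk⟩ _
        exact hq.le_of_pow_le hqk
      haveI hart : IsArtinianRing (R ⧸ maximalIdeal R ^ (n + 1)) :=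
        IsLocalRing.quotient_artinian_of_mem_minimalPrimes_of_isLocalRing _ hmin'
      haveI : IsArtinianRing (R ⧸ (maximalIdeal R' ^ (n + 1)).comap (algebraMap R R')) :=
        Function.Surjective.isArtinianRing (f := Ideal.Quotient.factor hle)
          (Ideal.Quotient.factor_surjective hle)
      have h2 := relInj_comap_of_relInj (R := R) f hf (maximalIdeal R' ^ (n + 1)) h1
      apply hmin
      intro q _ hq
      rw [← relInj_iff]
      exact relInj_of_isLocalizedModule (A := R) (B := S) q.primeCompl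
        (LocalizedModule.mkLinearMap q.primeCompl M) _ h2
    intro x hx
    rw [RingHom.mem_ker]
    have h3 : algebraMap R R' x ∈ ⨅ i, maximalIdeal R' ^ i := by
      rw [Ideal.mem_iInf]
      intro i
      exact Ideal.pow_le_pow_right (Nat.le_succ i) (hJ i hx)
    rw [Ideal.iInf_pow_eq_bot_of_isLocalRing _ (Ideal.IsPrime.ne_top inferInstance)] at h3
    exact h3
  · intro hker q' _ hq'
    apply flat_localized_of_relInj f hf I hker q'
    rw [relInj_iff]
    apply hI
    rw [Ideal.comap_comap, ← IsScalarTower.algebraMap_eq, IsScalarTower.algebraMap_eq R R' S',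
      ← Ideal.comap_comap, hq', comap_maximalIdeal_eq]

end Main

end Groth.Agent.Helper3.FlatId
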