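import Mathlib
import Groth.Agent.Lib.Helper7.FlatAtBC.Main
import Groth.Agent.Lib.Helper3.NilFib

/-!
# Flatness of `T ⊗[S₀] M₀` over `C` for `(C, S₀)`-bialgebras `T`: normal form lemmas
-/

set_option autoImplicit false
universe u
namespace Groth.Agent.Helper3.FlatLim

open TensorProduct

section L0

variable {C T : Type u} [CommRing C] [CommRing T] [Algebra C T] (W : Submonoid T)
  {N N₁ N₂ : Type u} [AddCommMonoid N] [AddCommMonoid N₁] [AddCommMonoid N₂]
  [Module T N] [Module T N₁] [Module T N₂] [Module C N₁] [Module C N₂]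
  [IsScalarTower C T N₁] [IsScalarTower C T N₂]

/-- two localizations of the same module are simultaneously flat over `C` -/
theorem flat_of_isLocalizedModule_of_isLocalizedModule (f₁ : N →ₗ[T] N₁) (f₂ : N →ₗ[T] N₂)
    [IsLocalizedModule W f₁] [IsLocalizedModule W f₂] [Module.Flat C N₁] : Module.Flat C N₂ :=
  Module.Flat.of_linearEquiv ((IsLocalizedModule.linearEquiv W f₁ f₂).restrictScalars C).symm

end L0

section NF

variable (S₀ : Type u) [CommRing S₀] (M₀ : Type u) [AddCommGroup M₀] [Module S₀ M₀]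
variable (T T' : Type u) [CommRing T] [CommRing T'] [Algebra S₀ T] [Algebra S₀ T'] [Algebra T T']
  [IsScalarTower S₀ T T']

/-- the canonical map `T ⊗[S₀] M₀ → T' ⊗[S₀] M₀` -/
noncomputable def rmap : T ⊗[S₀] M₀ →ₗ[T] T' ⊗[S₀] M₀ :=
  AlgebraTensorModule.map (Algebra.linearMap T T') (LinearMap.id : M₀ →ₗ[S₀] M₀)

@[simp] theorem rmap_tmul (t : T) (m : M₀) :
    rmap S₀ M₀ T T' (t ⊗ₜ[S₀] m) = algebraMap T T' t ⊗ₜ[S₀] m := rfl

theorem isBaseChange_rmap : IsBaseChange T' (rmap S₀ M₀ T T') := by
  refine IsBaseChange.of_equiv (AlgebraTensorModule.cancelBaseChange S₀ T T' T' M₀) ?_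
  intro x
  induction x using TensorProduct.induction_on with
  | zero => simp
  | tmul t m =>
    rw [AlgebraTensorModule.cancelBaseChange_tmul, rmap_tmul, Algebra.smul_def, mul_one]
  | add x y hx hy => rw [tmul_add, map_add, hx, hy, map_add]

theorem isLocalizedModule_rmap (W : Submonoid T) [IsLocalization W T'] :
    IsLocalizedModule W (rmap S₀ M₀ T T') :=
  (isLocalizedModule_iff_isBaseChange W T' _).mpr (isBaseChange_rmap S₀ M₀ T T')

variable {C : Type u} [CommRing C] [Algebra C T] [Algebra C T'] [IsScalarTower C T T']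

/-- N3: the normal form passes to localizations -/
theorem flat_of_isLocalization (W : Submonoid T) [IsLocalization W T']
    [Module.Flat C (T ⊗[S₀] M₀)] : Module.Flat C (T' ⊗[S₀] M₀) := by
  haveI := isLocalizedModule_rmap S₀ M₀ T T' W
  exact Groth.Agent.Helper7.FlatAtBC.flat_of_isLocalizedModule (A := C) (B := T) W
    (rmap S₀ M₀ T T')

/-- N2': two localizations of `T` at the same submonoid have the same normal form -/
theorem flat_of_isLocalization_of_isLocalization (T'' : Type u) [CommRing T''] [Algebra S₀ T'']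
    [Algebra T T''] [IsScalarTower S₀ T T''] [Algebra C T''] [IsScalarTower C T T'']
    (W : Submonoid T) [IsLocalization W T'] [IsLocalization W T'']
    [Module.Flat C (T' ⊗[S₀] M₀)] : Module.Flat C (T'' ⊗[S₀] M₀) := by
  haveI := isLocalizedModule_rmap S₀ M₀ T T' W
  haveI := isLocalizedModule_rmap S₀ M₀ T T'' W
  exact flat_of_isLocalizedModule_of_isLocalizedModule (C := C) W (rmap S₀ M₀ T T')
    (rmap S₀ M₀ T T'')

/-- Conv: localized-module form to normal form -/
theorem flat_tensor_of_flat_localizedModule (W : Submonoid T) [IsLocalization W T']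
    [Module.Flat C (LocalizedModule W (T ⊗[S₀] M₀))] : Module.Flat C (T' ⊗[S₀] M₀) := by
  haveI := isLocalizedModule_rmap S₀ M₀ T T' W
  exact flat_of_isLocalizedModule_of_isLocalizedModule (C := C) W
    (LocalizedModule.mkLinearMap W (T ⊗[S₀] M₀)) (rmap S₀ M₀ T T')

/-- Conv: normal form to localized-module form -/
theorem flat_localizedModule_of_flat_tensor (W : Submonoid T) [IsLocalization W T']
    [Module.Flat C (T' ⊗[S₀] M₀)] : Module.Flat C (LocalizedModule W (T ⊗[S₀] M₀)) := by
  haveI := isLocalizedModule_rmap S₀ M₀ T T' W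
  exact flat_of_isLocalizedModule_of_isLocalizedModule (C := C) W (rmap S₀ M₀ T T')
    (LocalizedModule.mkLinearMap W (T ⊗[S₀] M₀))

omit [Algebra T T'] [IsScalarTower S₀ T T'] [Algebra C T'] [IsScalarTower C T T'] [Algebra S₀ T']
  [CommRing T'] in
/-- N3': the normal form passes from a localization to a further localization -/
theorem flat_of_isLocalization_of_le (T₁ T₂ : Type u) [CommRing T₁] [CommRing T₂]
    [Algebra S₀ T₁] [Algebra S₀ T₂] [Algebra T T₁] [Algebra T T₂] [IsScalarTower S₀ T T₁]
    [IsScalarTower S₀ T T₂] [Algebra C T₁] [Algebra C T₂] [IsScalarTower C T T₁]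
    [IsScalarTower C T T₂] (W₁ W₂ : Submonoid T) (hW : W₁ ≤ W₂) [IsLocalization W₁ T₁]
    [IsLocalization W₂ T₂] [Module.Flat C (T₁ ⊗[S₀] M₀)] : Module.Flat C (T₂ ⊗[S₀] M₀) := by
  letI := IsLocalization.localizationAlgebraOfSubmonoidLe T₁ T₂ W₁ W₂ hW
  haveI : IsScalarTower T T₁ T₂ :=
    IsLocalization.localization_isScalarTower_of_submonoid_le T₁ T₂ W₁ W₂ hW
  haveI : IsScalarTower S₀ T₁ T₂ := IsScalarTower.of_algebraMap_eq (fun s => by
    rw [IsScalarTower.algebraMap_apply S₀ T T₂, IsScalarTower.algebraMap_apply T T₁ T₂,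
      ← IsScalarTower.algebraMap_apply S₀ T T₁])
  haveI : IsScalarTower C T₁ T₂ := IsScalarTower.of_algebraMap_eq (fun s => by
    rw [IsScalarTower.algebraMap_apply C T T₂, IsScalarTower.algebraMap_apply T T₁ T₂,
      ← IsScalarTower.algebraMap_apply C T T₁])
  haveI := IsLocalization.isLocalization_of_submonoid_le T₁ T₂ W₁ W₂ hW
  exact flat_of_isLocalization S₀ M₀ T₁ T₂ (W₂.map (algebraMap T T₁))

omit [Algebra T T'] [IsScalarTower S₀ T T'] [Algebra C T'] [IsScalarTower C T T'] [Algebra S₀ T']
  [CommRing T'] in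
/-- N4: the normal form is local on `Spec T` -/
theorem flat_of_forall_atPrime
    (H : ∀ (q : Ideal T) [q.IsPrime], Module.Flat C (Localization.AtPrime q ⊗[S₀] M₀)) :
    Module.Flat C (T ⊗[S₀] M₀) := by
  refine Groth.Agent.Helper3.NilFib.flat_of_forall_prime (A := C) (C := T) (T ⊗[S₀] M₀) ?_
  intro q _
  haveI := H q
  exact flat_localizedModule_of_flat_tensor S₀ M₀ T (Localization.AtPrime q) q.primeCompl

end NF

end Groth.Agent.Helper3.FlatLim

namespace Groth.Agent.Helper3.FlatLim

open TensorProduct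

section N1

variable {C S S_C : Type u} [CommRing C] [CommRing S] [CommRing S_C] [Algebra S S_C] [Algebra C S_C]
  {M M_C : Type u} [AddCommGroup M] [Module S M] [AddCommGroup M_C] [Module S_C M_C] [Module S M_C]
  [Module C M_C] [IsScalarTower S S_C M_C] [IsScalarTower C S_C M_C]
  (f : M →ₗ[S] M_C) (hf : IsBaseChange S_C f) (q : Ideal S_C) [q.IsPrime]

/-- the comparison map `M_C → (S_C)_q ⊗[S] M` -/
noncomputable def locMap : M_C →ₗ[S_C] Localization.AtPrime q ⊗[S] M :=
  rmap S M S_C (Localization.AtPrime q) ∘ₗ hf.equiv.symm.toLinearMap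

instance isLocalizedModule_locMap : IsLocalizedModule q.primeCompl (locMap f hf q) := by
  haveI := isLocalizedModule_rmap S M S_C (Localization.AtPrime q) q.primeCompl
  unfold locMap
  infer_instance

include f hf in
/-- N1: from a model to the normal form -/
theorem flat_tensor_of_flatAt [Module.Flat C (LocalizedModule q.primeCompl M_C)] :
    Module.Flat C (Localization.AtPrime q ⊗[S] M) :=
  flat_of_isLocalizedModule_of_isLocalizedModule (C := C) q.primeCompl
    (LocalizedModule.mkLinearMap q.primeCompl M_C) (locMap f hf q)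

include f hf in
/-- N1: from the normal form to a model -/
theorem flatAt_of_flat_tensor [Module.Flat C (Localization.AtPrime q ⊗[S] M)] :
    Module.Flat C (LocalizedModule q.primeCompl M_C) :=
  flat_of_isLocalizedModule_of_isLocalizedModule (C := C) q.primeCompl (locMap f hf q)
    (LocalizedModule.mkLinearMap q.primeCompl M_C)

end N1

end Groth.Agent.Helper3.FlatLim
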