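import Mathlib
import Groth.Agent.Lib.Helper3.FlatLim1

/-!
# The predicate `GoodF` and the bridge to models of a localization
-/

set_option autoImplicit false
universe u
namespace Groth.Agent.Helper3.FlatLim

open TensorProduct

attribute [local instance] Algebra.TensorProduct.rightAlgebra

section Good

variable (S₀ : Type u) [CommRing S₀] (M₀ : Type u) [AddCommGroup M₀] [Module S₀ M₀]
  (Mon : Submonoid S₀) (J₀ : Ideal S₀)

/-- the normal form is flat over `C` at all primes of `P` over `V(I_C P + J₀ P)` not meeting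
`Mon` -/
def GoodF (C : Type u) [CommRing C] (I_C : Ideal C) (P : Type u) [CommRing P] [Algebra C P]
    [Algebra S₀ P] : Prop :=
  ∀ (q : Ideal P) [q.IsPrime], I_C.map (algebraMap C P) ⊔ J₀.map (algebraMap S₀ P) ≤ q →
    (∀ t ∈ Mon, algebraMap S₀ P t ∉ q) → Module.Flat C (Localization.AtPrime q ⊗[S₀] M₀)

end Good

section Bridge

variable {R S₀ S : Type u} [CommRing R] [CommRing S₀] [CommRing S] [Algebra R S₀] [Algebra R S]
  [Algebra S₀ S] [IsScalarTower R S₀ S] (Mon : Submonoid S₀) [IsLocalization Mon S]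
  {M₀ M : Type u} [AddCommGroup M₀] [Module S₀ M₀] [AddCommGroup M] [Module S M] [Module S₀ M]
  [IsScalarTower S₀ S M] (g₀ : M₀ →ₗ[S₀] M) (hg₀ : IsBaseChange S g₀) (J : Ideal S)
  {C : Type u} [CommRing C] [Algebra R C] (I_C : Ideal C)
  {SC : Type u} [CommRing SC] [Algebra S SC] [Algebra C SC] [Algebra R SC] [IsScalarTower R S SC]
  [IsScalarTower R C SC] [Algebra.IsPushout R S C SC]

variable (R S₀ S C SC) in
/-- the algebra structure of `SC` over `C ⊗[R] S₀` -/
@[reducible] noncomputable def algP : Algebra (C ⊗[R] S₀) SC :=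
  (Algebra.TensorProduct.lift (IsScalarTower.toAlgHom R C SC)
    ((IsScalarTower.toAlgHom R S SC).comp (IsScalarTower.toAlgHom R S₀ S))
    (fun _ _ => Commute.all _ _)).toRingHom.toAlgebra

variable [Algebra S₀ SC] [IsScalarTower S₀ S SC]

omit [IsLocalization Mon S] [Algebra.IsPushout R S C SC] in
theorem algP_tmul (c : C) (s : S₀) :
    letI := algP R S₀ S C SC
    algebraMap (C ⊗[R] S₀) SC (c ⊗ₜ s) = algebraMap C SC c * algebraMap S₀ SC s := by
  letI := algP R S₀ S C SC
  show (Algebra.TensorProduct.lift (IsScalarTower.toAlgHom R C SC)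
    ((IsScalarTower.toAlgHom R S SC).comp (IsScalarTower.toAlgHom R S₀ S))
    (fun _ _ => Commute.all _ _)) (c ⊗ₜ s) = _
  simp [← IsScalarTower.algebraMap_apply S₀ S SC]

omit [IsLocalization Mon S] [Algebra.IsPushout R S C SC] in
theorem algP_towerC : letI := algP R S₀ S C SC; IsScalarTower C (C ⊗[R] S₀) SC := by
  letI := algP R S₀ S C SC
  exact IsScalarTower.of_algebraMap_eq (fun r => by
    rw [Algebra.TensorProduct.algebraMap_apply, algP_tmul, map_one, mul_one,
      Algebra.algebraMap_self_apply])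

omit [IsLocalization Mon S] [Algebra.IsPushout R S C SC] in
theorem algP_towerS₀ : letI := algP R S₀ S C SC; IsScalarTower S₀ (C ⊗[R] S₀) SC := by
  letI := algP R S₀ S C SC
  exact IsScalarTower.of_algebraMap_eq (fun s => by
    rw [Algebra.TensorProduct.algebraMap_eq_includeRight]
    show _ = algebraMap (C ⊗[R] S₀) SC ((1 : C) ⊗ₜ s)
    rw [algP_tmul, map_one, one_mul])

include Mon in
theorem algP_isLocalization :
    letI := algP R S₀ S C SC
    IsLocalization (Algebra.algebraMapSubmonoid (C ⊗[R] S₀) Mon) SC := by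
  letI := algP R S₀ S C SC
  haveI := algP_towerC (R := R) (S₀ := S₀) (S := S) (C := C) (SC := SC)
  haveI := algP_towerS₀ (R := R) (S₀ := S₀) (S := S) (C := C) (SC := SC)
  haveI : IsScalarTower R S₀ SC := IsScalarTower.of_algebraMap_eq (fun r => by
    rw [IsScalarTower.algebraMap_apply R S SC, IsScalarTower.algebraMap_apply R S₀ S,
      ← IsScalarTower.algebraMap_apply S₀ S SC])
  haveI : IsScalarTower R (C ⊗[R] S₀) SC := IsScalarTower.of_algebraMap_eq (fun r => by
    rw [IsScalarTower.algebraMap_apply R C (C ⊗[R] S₀),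
      ← IsScalarTower.algebraMap_apply C (C ⊗[R] S₀) SC, ← IsScalarTower.algebraMap_apply])
  rw [Algebra.isLocalization_iff_isPushout Mon S]
  apply Algebra.IsPushout.symm
  exact (Algebra.IsPushout.comp_iff R S₀ C (C ⊗[R] S₀) (T := S) (T' := SC)).mp inferInstance

section LocEq

variable (q : Ideal SC) [q.IsPrime]

include hg₀ in
omit [IsLocalization Mon S] [Algebra.IsPushout R S C SC] [IsScalarTower R S₀ S] [IsScalarTower R S SC]
  [IsScalarTower R C SC] [Algebra R S₀] [Algebra R S] [Algebra R SC] [Algebra R C] in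
/-- passing from `M` over `S` to `M₀` over `S₀` in the normal form -/
theorem flat_tensor_S₀_iff (T : Type u) [CommRing T] [Algebra S T] [Algebra S₀ T]
    [IsScalarTower S₀ S T] [Algebra C T] :
    Module.Flat C (T ⊗[S] M) ↔ Module.Flat C (T ⊗[S₀] M₀) := by
  let e : T ⊗[S] M ≃ₗ[T] T ⊗[S₀] M₀ :=
    (AlgebraTensorModule.congr (LinearEquiv.refl T T) hg₀.equiv.symm) ≪≫ₗ
      (AlgebraTensorModule.cancelBaseChange S₀ S T T M₀)
  constructor
  · intro h
    exact Module.Flat.of_linearEquiv (e.restrictScalars C).symm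
  · intro h
    exact Module.Flat.of_linearEquiv (e.restrictScalars C)

include Mon in
/-- the local ring of `SC` at `q` and that of `C ⊗[R] S₀` at the contraction have the same normal
form -/
theorem flat_tensor_atPrime_iff :
    letI := algP R S₀ S C SC
    Module.Flat C (Localization.AtPrime q ⊗[S₀] M₀) ↔
      Module.Flat C (Localization.AtPrime (q.comap (algebraMap (C ⊗[R] S₀) SC)) ⊗[S₀] M₀) := by
  letI := algP R S₀ S C SC
  haveI := algP_towerC (R := R) (S₀ := S₀) (S := S) (C := C) (SC := SC)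
  haveI := algP_towerS₀ (R := R) (S₀ := S₀) (S := S) (C := C) (SC := SC)
  haveI := algP_isLocalization (R := R) (S₀ := S₀) (S := S) (C := C) (SC := SC) Mon
  haveI : IsLocalization.AtPrime (Localization.AtPrime q)
      (q.comap (algebraMap (C ⊗[R] S₀) SC)) :=
    IsLocalization.isLocalization_isLocalization_atPrime_isLocalization
      (Algebra.algebraMapSubmonoid (C ⊗[R] S₀) Mon) (Localization.AtPrime q) q
  constructor
  · intro h
    exact flat_of_isLocalization_of_isLocalization S₀ M₀ (C ⊗[R] S₀) (Localization.AtPrime q)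
      (Localization.AtPrime (q.comap (algebraMap (C ⊗[R] S₀) SC)))
      (q.comap (algebraMap (C ⊗[R] S₀) SC)).primeCompl
  · intro h
    exact flat_of_isLocalization_of_isLocalization S₀ M₀ (C ⊗[R] S₀)
      (Localization.AtPrime (q.comap (algebraMap (C ⊗[R] S₀) SC))) (Localization.AtPrime q)
      (q.comap (algebraMap (C ⊗[R] S₀) SC)).primeCompl

end LocEq

section Main

variable {MC : Type u} [AddCommGroup MC] [Module SC MC] [Module C MC] [IsScalarTower C SC MC]
  [Module S MC] [IsScalarTower S SC MC] (f : M →ₗ[S] MC) (hf : IsBaseChange SC f)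

include Mon hg₀ f hf in
/-- from the normal form on `C ⊗[R] S₀` to flatness of a model of the localization -/
theorem flatAt_of_goodF
    (h : GoodF S₀ M₀ Mon (J.comap (algebraMap S₀ S)) C I_C (C ⊗[R] S₀))
    (q : Ideal SC) [q.IsPrime]
    (hq : I_C.map (algebraMap C SC) ⊔ J.map (algebraMap S SC) ≤ q) :
    Module.Flat C (LocalizedModule q.primeCompl MC) := by
  letI := algP R S₀ S C SC
  haveI := algP_towerC (R := R) (S₀ := S₀) (S := S) (C := C) (SC := SC)
  haveI := algP_towerS₀ (R := R) (S₀ := S₀) (S := S) (C := C) (SC := SC)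
  set q₀ := q.comap (algebraMap (C ⊗[R] S₀) SC) with hq₀
  haveI : q₀.IsPrime := Ideal.comap_isPrime _ _
  have h1 : I_C.map (algebraMap C (C ⊗[R] S₀)) ⊔
      (J.comap (algebraMap S₀ S)).map (algebraMap S₀ (C ⊗[R] S₀)) ≤ q₀ := by
    refine sup_le ?_ ?_
    · rw [Ideal.map_le_iff_le_comap]
      intro x hx
      show algebraMap (C ⊗[R] S₀) SC (algebraMap C (C ⊗[R] S₀) x) ∈ q
      rw [← IsScalarTower.algebraMap_apply C (C ⊗[R] S₀) SC]
      exact hq (Ideal.mem_sup_left (Ideal.mem_map_of_mem _ hx))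
    · rw [Ideal.map_le_iff_le_comap]
      intro x hx
      show algebraMap (C ⊗[R] S₀) SC (algebraMap S₀ (C ⊗[R] S₀) x) ∈ q
      rw [← IsScalarTower.algebraMap_apply S₀ (C ⊗[R] S₀) SC,
        IsScalarTower.algebraMap_apply S₀ S SC]
      exact hq (Ideal.mem_sup_right (Ideal.mem_map_of_mem _ hx))
  have h2 : ∀ t ∈ Mon, algebraMap S₀ (C ⊗[R] S₀) t ∉ q₀ := by
    intro t ht hmem
    have h3 : algebraMap (C ⊗[R] S₀) SC (algebraMap S₀ (C ⊗[R] S₀) t) ∈ q := hmem
    rw [← IsScalarTower.algebraMap_apply S₀ (C ⊗[R] S₀) SC,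
      IsScalarTower.algebraMap_apply S₀ S SC] at h3
    have hu : IsUnit (algebraMap S SC (algebraMap S₀ S t)) :=
      (IsLocalization.map_units S (⟨t, ht⟩ : Mon)).map _
    exact (Ideal.IsPrime.ne_top ‹q.IsPrime›) (Ideal.eq_top_of_isUnit_mem _ h3 hu)
  haveI h4 := h q₀ h1 h2
  haveI h5 : Module.Flat C (Localization.AtPrime q ⊗[S₀] M₀) :=
    (flat_tensor_atPrime_iff (R := R) (S := S) Mon q).mpr h4
  haveI h6 : Module.Flat C (Localization.AtPrime q ⊗[S] M) :=
    (flat_tensor_S₀_iff g₀ hg₀ (Localization.AtPrime q)).mpr h5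
  exact flatAt_of_flat_tensor f hf q

include Mon hg₀ f hf in
/-- from flatness of a model of the localization to the normal form on `C ⊗[R] S₀` -/
theorem goodF_of_flatAt
    (h : ∀ (q : Ideal SC) [q.IsPrime],
      I_C.map (algebraMap C SC) ⊔ J.map (algebraMap S SC) ≤ q →
        Module.Flat C (LocalizedModule q.primeCompl MC)) :
    GoodF S₀ M₀ Mon (J.comap (algebraMap S₀ S)) C I_C (C ⊗[R] S₀) := by
  intro q₀ _ h1 h2
  letI := algP R S₀ S C SC
  haveI := algP_towerC (R := R) (S₀ := S₀) (S := S) (C := C) (SC := SC)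
  haveI := algP_towerS₀ (R := R) (S₀ := S₀) (S := S) (C := C) (SC := SC)
  haveI := algP_isLocalization (R := R) (S₀ := S₀) (S := S) (C := C) (SC := SC) Mon
  have hd : Disjoint (↑(Algebra.algebraMapSubmonoid (C ⊗[R] S₀) Mon) : Set (C ⊗[R] S₀))
      ↑q₀ := by
    rw [Set.disjoint_left]
    rintro _ ⟨t, ht, rfl⟩
    exact h2 t ht
  set q := q₀.map (algebraMap (C ⊗[R] S₀) SC) with hqdef
  haveI hqp : q.IsPrime :=
    IsLocalization.isPrime_of_isPrime_disjoint (Algebra.algebraMapSubmonoid (C ⊗[R] S₀) Mon) SC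
      q₀ ‹_› hd
  have hc : q.comap (algebraMap (C ⊗[R] S₀) SC) = q₀ :=
    IsLocalization.under_map_of_isPrime_disjoint (Algebra.algebraMapSubmonoid (C ⊗[R] S₀) Mon) SC
      ‹_› hd
  have hq : I_C.map (algebraMap C SC) ⊔ J.map (algebraMap S SC) ≤ q := by
    refine sup_le ?_ ?_
    · rw [IsScalarTower.algebraMap_eq C (C ⊗[R] S₀) SC, ← Ideal.map_map]
      exact Ideal.map_mono (le_sup_left.trans h1)
    · have hJ : J = (J.comap (algebraMap S₀ S)).map (algebraMap S₀ S) :=
        (IsLocalization.map_under Mon S J).symm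
      rw [hJ, Ideal.map_map, ← IsScalarTower.algebraMap_eq S₀ S SC,
        IsScalarTower.algebraMap_eq S₀ (C ⊗[R] S₀) SC, ← Ideal.map_map]
      exact Ideal.map_mono (le_sup_right.trans h1)
  haveI h3 := h q hq
  haveI h4 : Module.Flat C (Localization.AtPrime q ⊗[S] M) := flat_tensor_of_flatAt f hf q
  haveI h5 : Module.Flat C (Localization.AtPrime q ⊗[S₀] M₀) :=
    (flat_tensor_S₀_iff g₀ hg₀ (Localization.AtPrime q)).mp h4
  haveI h6 : IsLocalization.AtPrime (Localization.AtPrime q)
      (q.comap (algebraMap (C ⊗[R] S₀) SC)) :=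
    IsLocalization.isLocalization_isLocalization_atPrime_isLocalization
      (Algebra.algebraMapSubmonoid (C ⊗[R] S₀) Mon) (Localization.AtPrime q) q
  have hW : (q.comap (algebraMap (C ⊗[R] S₀) SC)).primeCompl = q₀.primeCompl := by
    ext x
    simp only [Ideal.mem_primeCompl_iff]
    rw [hc]
  haveI h7 : IsLocalization q₀.primeCompl (Localization.AtPrime q) := hW ▸ h6
  exact flat_of_isLocalization_of_isLocalization S₀ M₀ (C ⊗[R] S₀) (Localization.AtPrime q)
    (Localization.AtPrime q₀) q₀.primeCompl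

end Main

end Bridge

end Groth.Agent.Helper3.FlatLim
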