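import Mathlib
import Groth.Prelude.Def_FlatCA
import Groth.Agent.Lib.Helper3.ColimFlat1

/-!
# Descent of elements and ideal membership in `R' ⊗[R] S₀` to a finite stage
-/

set_option autoImplicit false
universe u
namespace Groth.Agent.Helper3.FlatLim

open TensorProduct

attribute [local instance] Algebra.TensorProduct.rightAlgebra

section Sys

variable {R : Type u} [CommRing R] {ι : Type u} [Preorder ι] (G : ι → Type u)
  [∀ i, CommRing (G i)] [∀ i, Algebra R (G i)]
  (g : ∀ i j, i ≤ j → G i →+* G j)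
  (hgR : ∀ i j (h : i ≤ j), (g i j h).comp (algebraMap R (G i)) = algebraMap R (G j))
  (R' : Type u) [CommRing R'] [Algebra R R'] [∀ i, Algebra (G i) R']
  [∀ i, IsScalarTower R (G i) R']
  (hcolim : FlatCA.IsDirectedColimitRing G g R')
  (Il : ∀ i, Ideal (G i)) (hIl : ∀ i j (h : i ≤ j), (Il i).map (g i j h) ≤ Il j)

/-- the transition maps as `R`-algebra homomorphisms -/
def gA (i j : ι) (h : i ≤ j) : G i →ₐ[R] G j :=
  AlgHom.mk (g i j h) (fun r => by
    have := congrArg (fun φ : R →+* G j => φ r) (hgR i j h)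
    simpa using this)

@[simp] theorem gA_apply (i j : ι) (h : i ≤ j) (x : G i) : gA G g hgR i j h x = g i j h x := rfl

/-- the limit ideal -/
def Ilim : Ideal R' := ⨆ i, (Il i).map (algebraMap (G i) R')

include hcolim hIl in
/-- every element of the limit ideal comes from a stage ideal -/
theorem exists_mem_Il_of_mem_Ilim (a' : R') (ha' : a' ∈ Ilim G R' Il) :
    ∃ l, ∃ b ∈ Il l, algebraMap (G l) R' b = a' := by
  obtain ⟨hdir, hne, hid, hcomp, hcompat, hsurj, hker⟩ := hcolim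
  haveI := hdir
  haveI := hne
  let 𝔍 : Ideal R' :=
    { carrier := {a' | ∃ l, ∃ b ∈ Il l, algebraMap (G l) R' b = a'}
      zero_mem' := by
        obtain ⟨l⟩ := hne
        exact ⟨l, 0, (Il l).zero_mem, map_zero _⟩
      add_mem' := by
        rintro _ _ ⟨l₁, b₁, hb₁, rfl⟩ ⟨l₂, b₂, hb₂, rfl⟩
        obtain ⟨m, h1, h2⟩ := exists_ge_ge l₁ l₂
        refine ⟨m, g l₁ m h1 b₁ + g l₂ m h2 b₂, (Il m).add_mem ?_ ?_, ?_⟩
        · exact hIl l₁ m h1 (Ideal.mem_map_of_mem _ hb₁)
        · exact hIl l₂ m h2 (Ideal.mem_map_of_mem _ hb₂)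
        · have e1 := congrArg (fun φ : G l₁ →+* R' => φ b₁) (hcompat l₁ m h1)
          have e2 := congrArg (fun φ : G l₂ →+* R' => φ b₂) (hcompat l₂ m h2)
          simp only [RingHom.comp_apply] at e1 e2
          rw [map_add, e1, e2]
      smul_mem' := by
        rintro c _ ⟨l, b, hb, rfl⟩
        obtain ⟨m, r, rfl⟩ := hsurj c
        obtain ⟨n, h1, h2⟩ := exists_ge_ge l m
        refine ⟨n, g m n h2 r * g l n h1 b, (Il n).mul_mem_left _ ?_, ?_⟩
        · exact hIl l n h1 (Ideal.mem_map_of_mem _ hb)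
        · have e1 := congrArg (fun φ : G l →+* R' => φ b) (hcompat l n h1)
          have e2 := congrArg (fun φ : G m →+* R' => φ r) (hcompat m n h2)
          simp only [RingHom.comp_apply] at e1 e2
          rw [map_mul, e1, e2, smul_eq_mul] }
  have hle : Ilim G R' Il ≤ 𝔍 := by
    refine iSup_le fun l => ?_
    rw [Ideal.map_le_iff_le_comap]
    intro b hb
    exact ⟨l, b, hb, rfl⟩
  exact hle ha'

include hcolim hIl in
/-- an element of a stage whose image lies in the limit ideal lies in a later stage ideal -/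
theorem exists_stage_mem_Il (i : ι) (a : G i) (ha : algebraMap (G i) R' a ∈ Ilim G R' Il) :
    ∃ j, ∃ h : i ≤ j, g i j h a ∈ Il j := by
  obtain ⟨l, b, hb, hab⟩ := exists_mem_Il_of_mem_Ilim G g R' hcolim Il hIl _ ha
  obtain ⟨hdir, hne, hid, hcomp, hcompat, hsurj, hker⟩ := hcolim
  haveI := hdir
  obtain ⟨m, h1, h2⟩ := exists_ge_ge i l
  have e1 := congrArg (fun φ : G i →+* R' => φ a) (hcompat i m h1)
  have e2 := congrArg (fun φ : G l →+* R' => φ b) (hcompat l m h2)
  simp only [RingHom.comp_apply] at e1 e2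
  have h0 : algebraMap (G m) R' (g i m h1 a - g l m h2 b) = 0 := by
    rw [map_sub, e1, e2, hab, sub_self]
  obtain ⟨n, hmn, hn⟩ := hker m _ h0
  refine ⟨n, h1.trans hmn, ?_⟩
  rw [map_sub, sub_eq_zero] at hn
  have c1 := congrArg (fun φ : G i →+* G n => φ a) (hcomp i m n h1 hmn)
  have c2 := congrArg (fun φ : G l →+* G n => φ b) (hcomp l m n h2 hmn)
  simp only [RingHom.comp_apply] at c1 c2
  rw [← c1, hn, c2]
  exact hIl l n (h2.trans hmn) (Ideal.mem_map_of_mem _ hb)

section Tensor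

variable (S₀ : Type u) [CommRing S₀] [Algebra R S₀]

/-- transition maps on `G i ⊗[R] S₀` -/
noncomputable def tmap (i j : ι) (h : i ≤ j) : G i ⊗[R] S₀ →ₐ[R] G j ⊗[R] S₀ :=
  Algebra.TensorProduct.map (gA G g hgR i j h) (AlgHom.id R S₀)

/-- the maps to `R' ⊗[R] S₀` -/
noncomputable def tν (i : ι) : G i ⊗[R] S₀ →ₐ[R] R' ⊗[R] S₀ :=
  Algebra.TensorProduct.map (IsScalarTower.toAlgHom R (G i) R') (AlgHom.id R S₀)

@[simp] theorem tmap_tmul (i j : ι) (h : i ≤ j) (x : G i) (s : S₀) :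
    tmap G g hgR S₀ i j h (x ⊗ₜ[R] s) = g i j h x ⊗ₜ[R] s := rfl

omit [Preorder ι] in
@[simp] theorem tν_tmul (i : ι) (x : G i) (s : S₀) :
    tν G R' S₀ i (x ⊗ₜ[R] s) = algebraMap (G i) R' x ⊗ₜ[R] s := rfl

include hcolim in
theorem tν_tmap (i j : ι) (h : i ≤ j) (y : G i ⊗[R] S₀) :
    tν G R' S₀ j (tmap G g hgR S₀ i j h y) = tν G R' S₀ i y := by
  obtain ⟨hdir, hne, hid, hcomp, hcompat, hsurj, hker⟩ := hcolim
  induction y using TensorProduct.induction_on with
  | zero => simp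
  | tmul x s =>
    have e1 := congrArg (fun φ : G i →+* R' => φ x) (hcompat i j h)
    simp only [RingHom.comp_apply] at e1
    rw [tmap_tmul, tν_tmul, tν_tmul, e1]
  | add x y hx hy => rw [map_add, map_add, hx, hy, map_add]

omit [∀ (i : ι), IsScalarTower R (G i) R'] [Algebra R R'] in
include hcolim in
theorem tmap_tmap (i j k : ι) (hij : i ≤ j) (hjk : j ≤ k) (y : G i ⊗[R] S₀) :
    tmap G g hgR S₀ j k hjk (tmap G g hgR S₀ i j hij y) =
      tmap G g hgR S₀ i k (hij.trans hjk) y := by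
  obtain ⟨hdir, hne, hid, hcomp, hcompat, hsurj, hker⟩ := hcolim
  induction y using TensorProduct.induction_on with
  | zero => simp
  | tmul x s =>
    have e1 := congrArg (fun φ : G i →+* G k => φ x) (hcomp i j k hij hjk)
    simp only [RingHom.comp_apply] at e1
    rw [tmap_tmul, tmap_tmul, tmap_tmul, e1]
  | add x y hx hy => rw [map_add, map_add, hx, hy, map_add]

include hcolim hgR in
/-- every element of `R' ⊗[R] S₀` comes from a stage -/
theorem exists_stage_tensor (z : R' ⊗[R] S₀) : ∃ i, ∃ y : G i ⊗[R] S₀, tν G R' S₀ i y = z := by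
  have hcolim' := hcolim
  obtain ⟨hdir, hne, hid, hcomp, hcompat, hsurj, hker⟩ := hcolim
  haveI := hdir
  induction z using TensorProduct.induction_on with
  | zero =>
    obtain ⟨i⟩ := hne
    exact ⟨i, 0, map_zero _⟩
  | tmul r s =>
    obtain ⟨i, x, rfl⟩ := hsurj r
    exact ⟨i, x ⊗ₜ[R] s, rfl⟩
  | add z₁ z₂ h₁ h₂ =>
    obtain ⟨i₁, y₁, rfl⟩ := h₁
    obtain ⟨i₂, y₂, rfl⟩ := h₂
    obtain ⟨k, hk₁, hk₂⟩ := exists_ge_ge i₁ i₂
    refine ⟨k, tmap G g hgR S₀ i₁ k hk₁ y₁ + tmap G g hgR S₀ i₂ k hk₂ y₂, ?_⟩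
    rw [map_add, tν_tmap G g hgR R' hcolim', tν_tmap G g hgR R' hcolim']

include hcolim in
/-- an element of a stage dying in `R' ⊗[R] S₀` dies at a later stage -/
theorem exists_stage_tensor_eq_zero (i : ι) (y : G i ⊗[R] S₀) (hy : tν G R' S₀ i y = 0) :
    ∃ j, ∃ h : i ≤ j, tmap G g hgR S₀ i j h y = 0 := by
  obtain ⟨hdir, hne, hid, hcomp, hcompat, hsurj, hker⟩ := hcolim
  haveI := hdir
  haveI := hne
  have key := Groth.Agent.Helper3.ColimFlat.rTensor_vanish_of_colimit (R := R) (N := G)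
    (fun i j h => (gA G g hgR i j h).toLinearMap)
    (fun i x => by
      have := congrArg (fun φ : G i →+* G i => φ x) (hid i)
      simpa using this)
    (fun i j k hij hjk x => by
      have := congrArg (fun φ : G i →+* G k => φ x) (hcomp i j k hij hjk)
      simpa using this)
    (fun i => (IsScalarTower.toAlgHom R (G i) R').toLinearMap)
    (fun i j h x => by
      have := congrArg (fun φ : G i →+* R' => φ x) (hcompat i j h)
      simpa using this)
    (fun y => by
      obtain ⟨i, x, hx⟩ := hsurj y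
      exact ⟨i, x, hx⟩)
    (fun i x hx => hker i x hx) S₀ i y hy
  exact key

section Mem

variable (J₀ : Ideal S₀)

variable (R) in
/-- the ideal `I_C P + J₀ P` of `P = C ⊗[R] S₀` -/
def sumIdeal {C : Type u} [CommRing C] [Algebra R C] (I_C : Ideal C) : Ideal (C ⊗[R] S₀) :=
  I_C.map (algebraMap C (C ⊗[R] S₀)) ⊔ J₀.map (algebraMap S₀ (C ⊗[R] S₀))

variable (R) in
/-- the quotient map `C ⊗[R] S₀ → (C ⧸ I_C) ⊗[R] (S₀ ⧸ J₀)` -/
noncomputable def qmap {C : Type u} [CommRing C] [Algebra R C] (I_C : Ideal C) :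
    C ⊗[R] S₀ →ₐ[R] (C ⧸ I_C) ⊗[R] (S₀ ⧸ J₀) :=
  Algebra.TensorProduct.map (Ideal.Quotient.mkₐ R I_C) (Ideal.Quotient.mkₐ R J₀)

theorem ker_qmap {C : Type u} [CommRing C] [Algebra R C] (I_C : Ideal C) :
    RingHom.ker (qmap R S₀ J₀ I_C) = sumIdeal R S₀ J₀ I_C := by
  unfold qmap sumIdeal
  have h1 : RingHom.ker (Ideal.Quotient.mkₐ R I_C) = I_C := by
    ext x
    simp [RingHom.mem_ker, Ideal.Quotient.eq_zero_iff_mem]
  have h2 : RingHom.ker (Ideal.Quotient.mkₐ R J₀) = J₀ := by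
    ext x
    simp [RingHom.mem_ker, Ideal.Quotient.eq_zero_iff_mem]
  rw [Algebra.TensorProduct.map_ker (Ideal.Quotient.mkₐ R I_C) (Ideal.Quotient.mkₐ R J₀)
    (Ideal.Quotient.mkₐ_surjective R I_C) (Ideal.Quotient.mkₐ_surjective R J₀), h1, h2]
  rfl

include hcolim hIl in
/-- membership in `I' P' + J₀ P'` descends to a finite stage -/
theorem exists_stage_mem_sumIdeal (i : ι) (y : G i ⊗[R] S₀)
    (hy : tν G R' S₀ i y ∈ sumIdeal R S₀ J₀ (Ilim G R' Il)) :
    ∃ j, ∃ h : i ≤ j, tmap G g hgR S₀ i j h y ∈ sumIdeal R S₀ J₀ (Il j) := by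
  have hcolim' := hcolim
  obtain ⟨hdir, hne, hid, hcomp, hcompat, hsurj, hker⟩ := hcolim
  haveI := hdir
  haveI := hne
  have hle : ∀ i j (h : i ≤ j), Il i ≤ (Il j).comap (gA G g hgR i j h) := fun i j h => by
    intro x hx
    exact hIl i j h (Ideal.mem_map_of_mem _ hx)
  have hle' : ∀ i, Il i ≤ (Ilim G R' Il).comap (IsScalarTower.toAlgHom R (G i) R') := fun i => by
    intro x hx
    exact (le_iSup (fun i => (Il i).map (algebraMap (G i) R')) i) (Ideal.mem_map_of_mem _ hx)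
  let φ' : ∀ i j, i ≤ j → (G i ⧸ Il i) →ₐ[R] (G j ⧸ Il j) := fun i j h =>
    Ideal.quotientMapₐ (Il j) (gA G g hgR i j h) (hle i j h)
  let ν' : ∀ i, (G i ⧸ Il i) →ₐ[R] (R' ⧸ Ilim G R' Il) := fun i =>
    Ideal.quotientMapₐ (Ilim G R' Il) (IsScalarTower.toAlgHom R (G i) R') (hle' i)
  have hφ'mk : ∀ i j (h : i ≤ j) (a : G i), φ' i j h (Ideal.Quotient.mk (Il i) a) =
      Ideal.Quotient.mk (Il j) (g i j h a) := fun i j h a => rfl
  have hν'mk : ∀ i (a : G i), ν' i (Ideal.Quotient.mk (Il i) a) =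
      Ideal.Quotient.mk (Ilim G R' Il) (algebraMap (G i) R' a) := fun i a => rfl
  have key := Groth.Agent.Helper3.ColimFlat.rTensor_vanish_of_colimit (R := R)
    (N := fun i => G i ⧸ Il i)
    (fun i j h => (φ' i j h).toLinearMap)
    (fun i x => by
      obtain ⟨a, rfl⟩ := Ideal.Quotient.mk_surjective x
      have := congrArg (fun φ : G i →+* G i => φ a) (hid i)
      simp only [RingHom.id_apply] at this
      show φ' i i le_rfl (Ideal.Quotient.mk (Il i) a) = _
      rw [hφ'mk, this])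
    (fun i j k hij hjk x => by
      obtain ⟨a, rfl⟩ := Ideal.Quotient.mk_surjective x
      have := congrArg (fun φ : G i →+* G k => φ a) (hcomp i j k hij hjk)
      simp only [RingHom.comp_apply] at this
      show φ' j k hjk (φ' i j hij (Ideal.Quotient.mk (Il i) a)) =
        φ' i k (hij.trans hjk) (Ideal.Quotient.mk (Il i) a)
      rw [hφ'mk, hφ'mk, hφ'mk, this])
    (fun i => (ν' i).toLinearMap)
    (fun i j h x => by
      obtain ⟨a, rfl⟩ := Ideal.Quotient.mk_surjective x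
      have := congrArg (fun φ : G i →+* R' => φ a) (hcompat i j h)
      simp only [RingHom.comp_apply] at this
      show ν' j (φ' i j h (Ideal.Quotient.mk (Il i) a)) = ν' i (Ideal.Quotient.mk (Il i) a)
      rw [hφ'mk, hν'mk, hν'mk, this])
    (fun y => by
      obtain ⟨a', rfl⟩ := Ideal.Quotient.mk_surjective y
      obtain ⟨i, a, rfl⟩ := hsurj a'
      exact ⟨i, Ideal.Quotient.mk (Il i) a, rfl⟩)
    (fun i x hx => by
      obtain ⟨a, rfl⟩ := Ideal.Quotient.mk_surjective x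
      have h0 : Ideal.Quotient.mk (Ilim G R' Il) (algebraMap (G i) R' a) = 0 := hx
      rw [Ideal.Quotient.eq_zero_iff_mem] at h0
      obtain ⟨j, hij, hj⟩ := exists_stage_mem_Il G g R' hcolim' Il hIl i a h0
      refine ⟨j, hij, ?_⟩
      show φ' i j hij (Ideal.Quotient.mk (Il i) a) = 0
      rw [hφ'mk, Ideal.Quotient.eq_zero_iff_mem]
      exact hj)
    (S₀ ⧸ J₀) i (qmap R S₀ J₀ (Il i) y) ?_
  · obtain ⟨j, hij, hj⟩ := key
    refine ⟨j, hij, ?_⟩
    rw [← ker_qmap, RingHom.mem_ker]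
    have hnat : ∀ y : G i ⊗[R] S₀, qmap R S₀ J₀ (Il j) (tmap G g hgR S₀ i j hij y) =
        (φ' i j hij).toLinearMap.rTensor (S₀ ⧸ J₀) (qmap R S₀ J₀ (Il i) y) := by
      intro y
      induction y using TensorProduct.induction_on with
      | zero => simp
      | tmul x s => rfl
      | add x y hx hy => rw [map_add, map_add, hx, hy, map_add, map_add]
    rw [hnat, hj]
  · have hnat : ∀ y : G i ⊗[R] S₀, qmap R S₀ J₀ (Ilim G R' Il) (tν G R' S₀ i y) =
        (ν' i).toLinearMap.rTensor (S₀ ⧸ J₀) (qmap R S₀ J₀ (Il i) y) := by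
      intro y
      induction y using TensorProduct.induction_on with
      | zero => simp
      | tmul x s => rfl
      | add x y hx hy => rw [map_add, map_add, hx, hy, map_add, map_add]
    rw [← hnat, ← RingHom.mem_ker, ker_qmap]
    exact hy

end Mem

end Tensor

end Sys

end Groth.Agent.Helper3.FlatLim
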