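import Mathlib
import Groth.Agent.Lib.Helper3.FlatLim2
import Groth.Agent.Lib.Helper3.FlatLim3
import Groth.Agent.Lib.Lead.FlatLoc11

/-!
# A principal open neighbourhood of the good locus on which the module is flat
-/

set_option autoImplicit false
universe u
namespace Groth.Agent.Helper3.FlatLim

open TensorProduct

attribute [local instance] Algebra.TensorProduct.rightAlgebra

section LemmaB

variable {R : Type u} [CommRing R] (S₀ : Type u) [CommRing S₀] [Algebra R S₀]
  [Algebra.FinitePresentation R S₀] (M₀ : Type u) [AddCommGroup M₀] [Module S₀ M₀]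
  [Module.FinitePresentation S₀ M₀] (Mon : Submonoid S₀) (J₀ : Ideal S₀)
  (R' : Type u) [CommRing R'] [Algebra R R'] (I' : Ideal R')

theorem exists_flat_away
    (h : GoodF S₀ M₀ Mon J₀ R' I' (R' ⊗[R] S₀)) :
    ∃ t ∈ Mon, ∃ k : R' ⊗[R] S₀,
      algebraMap S₀ (R' ⊗[R] S₀) t - k ∈ sumIdeal R S₀ J₀ I' ∧
        Module.Flat R' (Localization.Away k ⊗[S₀] M₀) := by
  classical
  set P' := R' ⊗[R] S₀ with hP'
  let N' := P' ⊗[S₀] M₀
  let U' : Set (PrimeSpectrum P') :=
    {q | Module.Flat R' (LocalizedModule q.asIdeal.primeCompl N')}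
  have hU : IsOpen U' :=
    Groth.Agent.Lead.FlatLoc.isOpen_flatLocus_of_finitePresentation (R := R') (S := P') (M := N')
  let K' : Ideal P' := PrimeSpectrum.vanishingIdeal U'ᶜ
  have hK : PrimeSpectrum.zeroLocus (K' : Set P') = U'ᶜ := by
    rw [PrimeSpectrum.zeroLocus_vanishingIdeal_eq_closure]
    exact hU.isClosed_compl.closure_eq
  let MonP : Submonoid P' := Mon.map (algebraMap S₀ P')
  have hmeet : ¬ Disjoint ((K' ⊔ sumIdeal R S₀ J₀ I' : Ideal P') : Set P') (MonP : Set P') := by
    intro hdisj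
    obtain ⟨q, hqp, hle, hqd⟩ := Ideal.exists_le_prime_disjoint _ _ hdisj
    haveI := hqp
    have h2 : ∀ t ∈ Mon, algebraMap S₀ P' t ∉ q := by
      intro t ht hmem
      exact Set.disjoint_left.mp hqd hmem ⟨t, ht, rfl⟩
    haveI h3 := h q (le_sup_right.trans hle) h2
    have h4 : Module.Flat R' (LocalizedModule q.primeCompl N') :=
      flat_localizedModule_of_flat_tensor S₀ M₀ P' (Localization.AtPrime q) q.primeCompl
    have h5 : (⟨q, hqp⟩ : PrimeSpectrum P') ∈ U' := h4
    have h6 : (⟨q, hqp⟩ : PrimeSpectrum P') ∈ PrimeSpectrum.zeroLocus (K' : Set P') := by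
      rw [PrimeSpectrum.mem_zeroLocus]
      exact fun a ha => hle (Ideal.mem_sup_left ha)
    rw [hK] at h6
    exact h6 h5
  rw [Set.not_disjoint_iff] at hmeet
  obtain ⟨z, hz, ⟨t, ht, rfl⟩⟩ := hmeet
  obtain ⟨k, hk, x, hx, hkx⟩ := Submodule.mem_sup.mp hz
  refine ⟨t, ht, k, ?_, ?_⟩
  · rw [← hkx, add_sub_cancel_left]
    exact hx
  · refine flat_of_forall_atPrime S₀ M₀ (Localization.Away k) ?_
    intro 𝔮 _
    set q := 𝔮.comap (algebraMap P' (Localization.Away k)) with hq
    haveI : q.IsPrime := Ideal.comap_isPrime _ _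
    haveI : IsLocalization.AtPrime (Localization.AtPrime 𝔮) q :=
      IsLocalization.isLocalization_isLocalization_atPrime_isLocalization
        (Submonoid.powers k) (Localization.AtPrime 𝔮) 𝔮
    have hkq : k ∉ q := by
      intro hmem
      have hu : IsUnit (algebraMap P' (Localization.Away k) k) :=
        IsLocalization.map_units (Localization.Away k) (⟨k, Submonoid.mem_powers k⟩ :
          Submonoid.powers k)
      exact (Ideal.IsPrime.ne_top ‹𝔮.IsPrime›) (Ideal.eq_top_of_isUnit_mem _ hmem hu)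
    have h5 : (⟨q, inferInstance⟩ : PrimeSpectrum P') ∈ U' := by
      by_contra hn
      have : (⟨q, inferInstance⟩ : PrimeSpectrum P') ∈ PrimeSpectrum.zeroLocus (K' : Set P') := by
        rw [hK]
        exact hn
      rw [PrimeSpectrum.mem_zeroLocus] at this
      exact hkq (this hk)
    haveI h6 : Module.Flat R' (LocalizedModule q.primeCompl N') := h5
    haveI h7 : Module.Flat R' (Localization.AtPrime q ⊗[S₀] M₀) :=
      flat_tensor_of_flat_localizedModule S₀ M₀ P' (Localization.AtPrime q) q.primeCompl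
    exact flat_of_isLocalization_of_isLocalization S₀ M₀ P' (Localization.AtPrime q)
      (Localization.AtPrime 𝔮) q.primeCompl

end LemmaB

end Groth.Agent.Helper3.FlatLim
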