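import Mathlib
import Groth.Agent.Lib.Helper3.FlatLim2

/-!
# Base change of `(D ⊗[R] S₀)_k ⊗[S₀] M₀` along `D → C`
-/

set_option autoImplicit false
universe u
namespace Groth.Agent.Helper3.FlatLim

open TensorProduct

attribute [local instance] Algebra.TensorProduct.rightAlgebra

section LemmaD

variable {R D : Type u} [CommRing R] [CommRing D] [Algebra R D] (S₀ : Type u) [CommRing S₀]
  [Algebra R S₀] (M₀ : Type u) [AddCommGroup M₀] [Module S₀ M₀] (k₀ : D ⊗[R] S₀)
  (C : Type u) [CommRing C] [Algebra R C] [Algebra D C] [IsScalarTower R D C]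

/-- the base change map `D ⊗[R] S₀ → C ⊗[R] S₀` -/
noncomputable def psi : D ⊗[R] S₀ →ₐ[R] C ⊗[R] S₀ :=
  Algebra.TensorProduct.map (IsScalarTower.toAlgHom R D C) (AlgHom.id R S₀)

@[simp] theorem psi_tmul (d : D) (s : S₀) :
    psi S₀ C (d ⊗ₜ[R] s) = algebraMap D C d ⊗ₜ[R] s := rfl

theorem cancel_one_tmul (x : D ⊗[R] S₀) :
    Algebra.TensorProduct.cancelBaseChange R D C C S₀ ((1 : C) ⊗ₜ[D] x) = psi S₀ C x := by
  induction x using TensorProduct.induction_on with
  | zero => simp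
  | tmul d s =>
    rw [Algebra.TensorProduct.cancelBaseChange_tmul, psi_tmul, Algebra.smul_def, mul_one]
  | add x y hx hy => rw [tmul_add, map_add, hx, hy, map_add]

/-- the algebra structure of `C ⊗[D] (D ⊗[R] S₀)_k` over `C ⊗[D] (D ⊗[R] S₀)` -/
@[reducible] noncomputable def algMid :
    Algebra (C ⊗[D] (D ⊗[R] S₀)) (C ⊗[D] Localization.Away k₀) :=
  (Algebra.TensorProduct.map (AlgHom.id D C)
    (IsScalarTower.toAlgHom D (D ⊗[R] S₀) (Localization.Away k₀))).toRingHom.toAlgebra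

/-- the algebra structure of `C ⊗[D] (D ⊗[R] S₀)_k` over `C ⊗[R] S₀` -/
@[reducible] noncomputable def algTop :
    Algebra (C ⊗[R] S₀) (C ⊗[D] Localization.Away k₀) :=
  ((Algebra.TensorProduct.map (AlgHom.id D C)
    (IsScalarTower.toAlgHom D (D ⊗[R] S₀) (Localization.Away k₀))).toRingHom.comp
      (Algebra.TensorProduct.cancelBaseChange R D C C S₀).symm.toRingEquiv.toRingHom).toAlgebra

/-- the algebra structure of `C ⊗[D] (D ⊗[R] S₀)_k` over `S₀` -/
@[reducible] noncomputable def algS₀ : Algebra S₀ (C ⊗[D] Localization.Away k₀) :=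
  ((algebraMap (Localization.Away k₀) (C ⊗[D] Localization.Away k₀)).comp
    (algebraMap S₀ (Localization.Away k₀))).toAlgebra

theorem algTop_tmul (c : C) (s : S₀) :
    letI := algTop S₀ k₀ C
    algebraMap (C ⊗[R] S₀) (C ⊗[D] Localization.Away k₀) (c ⊗ₜ[R] s) =
      c ⊗ₜ[D] algebraMap (D ⊗[R] S₀) (Localization.Away k₀) ((1 : D) ⊗ₜ[R] s) := by
  letI := algTop S₀ k₀ C
  show (Algebra.TensorProduct.map (AlgHom.id D C)
    (IsScalarTower.toAlgHom D (D ⊗[R] S₀) (Localization.Away k₀)))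
      ((Algebra.TensorProduct.cancelBaseChange R D C C S₀).symm (c ⊗ₜ[R] s)) = _
  rw [Algebra.TensorProduct.cancelBaseChange_symm_tmul]
  rfl

theorem algTop_isLocalization :
    letI := algTop S₀ k₀ C
    IsLocalization.Away (psi S₀ C k₀) (C ⊗[D] Localization.Away k₀) := by
  letI := algTop S₀ k₀ C
  letI := algMid S₀ k₀ C
  haveI : IsScalarTower C (C ⊗[D] (D ⊗[R] S₀)) (C ⊗[D] Localization.Away k₀) :=
    IsScalarTower.of_algebraMap_eq (R := C) (S := C ⊗[D] (D ⊗[R] S₀))
      (A := C ⊗[D] Localization.Away k₀) (fun c => by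
        show _ = (Algebra.TensorProduct.map (AlgHom.id D C)
          (IsScalarTower.toAlgHom D (D ⊗[R] S₀) (Localization.Away k₀)))
            (algebraMap C (C ⊗[D] (D ⊗[R] S₀)) c)
        rw [Algebra.TensorProduct.algebraMap_apply, Algebra.TensorProduct.algebraMap_apply,
          Algebra.TensorProduct.map_tmul]
        simp)
  have H : (algebraMap (C ⊗[D] (D ⊗[R] S₀)) (C ⊗[D] Localization.Away k₀)).comp
      (Algebra.TensorProduct.includeRight : (D ⊗[R] S₀) →ₐ[D] C ⊗[D] (D ⊗[R] S₀)).toRingHom =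
      (Algebra.TensorProduct.includeRight :
        Localization.Away k₀ →ₐ[D] C ⊗[D] Localization.Away k₀).toRingHom.comp
        (algebraMap (D ⊗[R] S₀) (Localization.Away k₀)) := by
    apply RingHom.ext
    intro x
    show (Algebra.TensorProduct.map (AlgHom.id D C)
      (IsScalarTower.toAlgHom D (D ⊗[R] S₀) (Localization.Away k₀))) ((1 : C) ⊗ₜ[D] x) =
        (1 : C) ⊗ₜ[D] algebraMap (D ⊗[R] S₀) (Localization.Away k₀) x
    rw [Algebra.TensorProduct.map_tmul]
    simp
  haveI h1 : IsLocalization ((Submonoid.powers k₀).map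
      (Algebra.TensorProduct.includeRight : (D ⊗[R] S₀) →ₐ[D] C ⊗[D] (D ⊗[R] S₀)))
      (C ⊗[D] Localization.Away k₀) :=
    IsLocalization.tensorProduct_tensorProduct_right D C (Submonoid.powers k₀)
      (Localization.Away k₀) H
  refine IsLocalization.of_ringEquiv_left
    (Algebra.TensorProduct.cancelBaseChange R D C C S₀).symm.toRingEquiv
    (M₁ := (Submonoid.powers k₀).map
      (Algebra.TensorProduct.includeRight : (D ⊗[R] S₀) →ₐ[D] C ⊗[D] (D ⊗[R] S₀))) ?_ ?_
  · rw [Submonoid.map_powers, Submonoid.map_powers]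
    congr 1
    show (Algebra.TensorProduct.cancelBaseChange R D C C S₀).symm (psi S₀ C k₀) = _
    rw [← cancel_one_tmul, AlgEquiv.symm_apply_apply]
    rfl
  · intro x
    rfl

theorem algTop_towerC :
    letI := algTop S₀ k₀ C
    IsScalarTower C (C ⊗[R] S₀) (C ⊗[D] Localization.Away k₀) := by
  letI := algTop S₀ k₀ C
  refine IsScalarTower.of_algebraMap_eq (R := C) (S := C ⊗[R] S₀)
    (A := C ⊗[D] Localization.Away k₀) (fun c => ?_)
  rw [Algebra.TensorProduct.algebraMap_apply, Algebra.TensorProduct.algebraMap_apply,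
    algTop_tmul, ← Algebra.TensorProduct.one_def, map_one]

theorem algTop_towerS₀ :
    letI := algTop S₀ k₀ C
    letI := algS₀ S₀ k₀ C
    IsScalarTower S₀ (C ⊗[R] S₀) (C ⊗[D] Localization.Away k₀) := by
  letI := algTop S₀ k₀ C
  letI := algS₀ S₀ k₀ C
  refine IsScalarTower.of_algebraMap_eq (R := S₀) (S := C ⊗[R] S₀)
    (A := C ⊗[D] Localization.Away k₀) (fun s => ?_)
  have h1 : algebraMap S₀ (C ⊗[R] S₀) s = (1 : C) ⊗ₜ[R] s := rfl
  rw [h1, algTop_tmul]
  show algebraMap (Localization.Away k₀) (C ⊗[D] Localization.Away k₀)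
    (algebraMap S₀ (Localization.Away k₀) s) = _
  rw [IsScalarTower.algebraMap_apply S₀ (D ⊗[R] S₀) (Localization.Away k₀)]
  rfl

omit [Algebra R C] [IsScalarTower R D C] in
theorem algS₀_tower :
    letI := algS₀ S₀ k₀ C
    IsScalarTower S₀ (Localization.Away k₀) (C ⊗[D] Localization.Away k₀) := by
  letI := algS₀ S₀ k₀ C
  exact IsScalarTower.of_algebraMap_eq (fun s => rfl)

/-- the base change of `(D ⊗[R] S₀)_k ⊗[S₀] M₀` to `C`, in normal form -/
theorem flat_tensor_stage_iff :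
    Module.Flat C (C ⊗[D] (Localization.Away k₀ ⊗[S₀] M₀)) ↔
      Module.Flat C (Localization.Away (psi S₀ C k₀) ⊗[S₀] M₀) := by
  letI := algTop S₀ k₀ C
  letI := algS₀ S₀ k₀ C
  haveI := algTop_towerC S₀ k₀ C
  haveI := algTop_towerS₀ S₀ k₀ C
  haveI := algS₀_tower S₀ k₀ C
  haveI := algTop_isLocalization S₀ k₀ C
  have step1 : Module.Flat C (C ⊗[D] (Localization.Away k₀ ⊗[S₀] M₀)) ↔
      Module.Flat C ((C ⊗[D] Localization.Away k₀) ⊗[Localization.Away k₀]
        (Localization.Away k₀ ⊗[S₀] M₀)) := by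
    let e₁ := Algebra.IsPushout.cancelBaseChange D C (Localization.Away k₀)
      (C ⊗[D] Localization.Away k₀) (Localization.Away k₀ ⊗[S₀] M₀)
    exact ⟨fun h => Module.Flat.of_linearEquiv e₁, fun h => Module.Flat.of_linearEquiv e₁.symm⟩
  have step2 := flat_tensor_S₀_iff (C := C) (TensorProduct.mk S₀ (Localization.Away k₀) M₀ 1)
    (TensorProduct.isBaseChange S₀ M₀ (Localization.Away k₀)) (C ⊗[D] Localization.Away k₀)
  rw [step1, step2]
  constructor
  · intro h
    exact flat_of_isLocalization_of_isLocalization S₀ M₀ (C ⊗[R] S₀)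
      (C ⊗[D] Localization.Away k₀) (Localization.Away (psi S₀ C k₀))
      (Submonoid.powers (psi S₀ C k₀))
  · intro h
    exact flat_of_isLocalization_of_isLocalization S₀ M₀ (C ⊗[R] S₀)
      (Localization.Away (psi S₀ C k₀)) (C ⊗[D] Localization.Away k₀)
      (Submonoid.powers (psi S₀ C k₀))

end LemmaD

end Groth.Agent.Helper3.FlatLim
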