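import Mathlib
import Groth.Agent.Lib.Helper3.FlatLim4
import Groth.Agent.Lib.Helper3.FlatLim5
import Groth.Agent.Lib.Helper3.ColimFlat12

/-!
# Descent of flatness over `V(I + J)` to a finite stage: the normal form version
-/

set_option autoImplicit false
universe u
namespace Groth.Agent.Helper3.FlatLim

open TensorProduct

attribute [local instance] Algebra.TensorProduct.rightAlgebra

section Sub

variable {R : Type u} [CommRing R] {ι : Type u} [Preorder ι] (G : ι → Type u)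
  [∀ i, CommRing (G i)] [∀ i, Algebra R (G i)]
  (g : ∀ i j, i ≤ j → G i →+* G j)
  (hgR : ∀ i j (h : i ≤ j), (g i j h).comp (algebraMap R (G i)) = algebraMap R (G j))
  (R' : Type u) [CommRing R'] [Algebra R R'] [∀ i, Algebra (G i) R']
  [∀ i, IsScalarTower R (G i) R']
  (hcolim : FlatCA.IsDirectedColimitRing G g R') (i₀ : ι)

/-- the stages above `i₀` -/
abbrev Gsub (j : {j : ι // i₀ ≤ j}) : Type u := G j.1

/-- the algebra structures over `G i₀` -/
@[reducible] def algSub (j : {j : ι // i₀ ≤ j}) : Algebra (G i₀) (Gsub G i₀ j) :=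
  (g i₀ j.1 j.2).toAlgebra

include hcolim in
/-- the transition maps of the subsystem as algebra maps over `G i₀` -/
def gSub (j k : {j : ι // i₀ ≤ j}) (h : j ≤ k) :
    letI := algSub G g i₀
    Gsub G i₀ j →ₐ[G i₀] Gsub G i₀ k :=
  letI := algSub G g i₀
  AlgHom.mk (g j.1 k.1 h) (fun x => by
    obtain ⟨hdir, hne, hid, hcomp, hcompat, hsurj, hker⟩ := hcolim
    have := congrArg (fun φ : G i₀ →+* G k.1 => φ x) (hcomp i₀ j.1 k.1 j.2 h)
    simp only [RingHom.comp_apply] at this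
    exact this)

include hcolim in
theorem isDirectedColimitRing_sub :
    letI := algSub G g i₀
    FlatCA.IsDirectedColimitRing (Gsub G i₀)
      (fun j k h => (gSub G g R' hcolim i₀ j k h).toRingHom) R' := by
  letI := algSub G g i₀
  have hcolim' := hcolim
  obtain ⟨hdir, hne, hid, hcomp, hcompat, hsurj, hker⟩ := hcolim
  haveI := hdir
  refine ⟨⟨fun a b => ?_⟩, ⟨⟨i₀, le_rfl⟩⟩, fun j => hid j.1, fun i j k hij hjk => hcomp _ _ _ hij hjk,
    fun i j h => hcompat _ _ h, fun a => ?_, fun j x hx => ?_⟩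
  · obtain ⟨c, hac, hbc⟩ := exists_ge_ge a.1 b.1
    exact ⟨⟨c, a.2.trans hac⟩, hac, hbc⟩
  · obtain ⟨i, x, hx⟩ := hsurj a
    obtain ⟨c, hic, h0c⟩ := exists_ge_ge i i₀
    refine ⟨⟨c, h0c⟩, g i c hic x, ?_⟩
    have := congrArg (fun φ : G i →+* R' => φ x) (hcompat i c hic)
    simp only [RingHom.comp_apply] at this
    rw [← hx]
    exact this
  · obtain ⟨k, hjk, hk⟩ := hker j.1 x hx
    exact ⟨⟨k, j.2.trans hjk⟩, hjk, hk⟩

end Sub

section Push

variable {R D : Type u} [CommRing R] [CommRing D] [Algebra R D] (S₀ : Type u) [CommRing S₀]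
  [Algebra R S₀] (J₀ : Ideal S₀) (C : Type u) [CommRing C] [Algebra R C] [Algebra D C]
  [IsScalarTower R D C]

theorem psi_mem_sumIdeal (I_D : Ideal D) (I_C : Ideal C)
    (hI : I_D.map (algebraMap D C) ≤ I_C) (y : D ⊗[R] S₀)
    (hy : y ∈ sumIdeal R S₀ J₀ I_D) : psi S₀ C y ∈ sumIdeal R S₀ J₀ I_C := by
  have hle : sumIdeal R S₀ J₀ I_D ≤ (sumIdeal R S₀ J₀ I_C).comap (psi S₀ C) := by
    unfold sumIdeal
    refine sup_le ?_ ?_
    · rw [Ideal.map_le_iff_le_comap]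
      intro x hx
      rw [Ideal.mem_comap, Ideal.mem_comap, Algebra.TensorProduct.algebraMap_apply]
      show psi S₀ C (algebraMap D D x ⊗ₜ[R] (1 : S₀)) ∈ _
      rw [psi_tmul, Algebra.algebraMap_self_apply]
      refine Ideal.mem_sup_left ?_
      have h1 : algebraMap D C x ⊗ₜ[R] (1 : S₀) = algebraMap C (C ⊗[R] S₀) (algebraMap D C x) := by
        rw [Algebra.TensorProduct.algebraMap_apply, Algebra.algebraMap_self_apply]
      rw [h1]
      exact Ideal.mem_map_of_mem _ (hI (Ideal.mem_map_of_mem _ hx))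
    · rw [Ideal.map_le_iff_le_comap]
      intro s hs
      rw [Ideal.mem_comap, Ideal.mem_comap]
      have h1 : psi S₀ C (algebraMap S₀ (D ⊗[R] S₀) s) = algebraMap S₀ (C ⊗[R] S₀) s := by
        show psi S₀ C ((1 : D) ⊗ₜ[R] s) = (1 : C) ⊗ₜ[R] s
        rw [psi_tmul, map_one]
      rw [h1]
      exact Ideal.mem_sup_right (Ideal.mem_map_of_mem _ hs)
  exact hle hy

end Push

section Main

variable {R : Type u} [CommRing R] (S₀ : Type u) [CommRing S₀] [Algebra R S₀]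
  [Algebra.FinitePresentation R S₀] (M₀ : Type u) [AddCommGroup M₀] [Module S₀ M₀]
  [Module.FinitePresentation S₀ M₀] (Mon : Submonoid S₀) (J₀ : Ideal S₀)
  {ι : Type u} [Preorder ι] (G : ι → Type u)
  [∀ i, CommRing (G i)] [∀ i, Algebra R (G i)]
  (g : ∀ i j, i ≤ j → G i →+* G j)
  (hgR : ∀ i j (h : i ≤ j), (g i j h).comp (algebraMap R (G i)) = algebraMap R (G j))
  (R' : Type u) [CommRing R'] [Algebra R R'] [∀ i, Algebra (G i) R']
  [∀ i, IsScalarTower R (G i) R']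
  (hcolim : FlatCA.IsDirectedColimitRing G g R')
  (Il : ∀ i, Ideal (G i)) (hIl : ∀ i j (h : i ≤ j), (Il i).map (g i j h) ≤ Il j)

include hgR hcolim hIl in
/-- **Descent of flatness over `V(I + J)` to a finite stage**, normal form version. -/
theorem exists_stage_goodF
    (h : GoodF S₀ M₀ Mon J₀ R' (Ilim G R' Il) (R' ⊗[R] S₀)) :
    ∃ i, GoodF S₀ M₀ Mon J₀ (G i) (Il i) (G i ⊗[R] S₀) := by
  obtain ⟨t, ht, k, hk, hflat⟩ := exists_flat_away S₀ M₀ Mon J₀ R' (Ilim G R' Il) h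
  obtain ⟨i₁, k₁, hk₁⟩ := exists_stage_tensor G g hgR R' hcolim S₀ k
  have hνt : ∀ i, tν G R' S₀ i (algebraMap S₀ (G i ⊗[R] S₀) t) =
      algebraMap S₀ (R' ⊗[R] S₀) t := by
    intro i
    show tν G R' S₀ i ((1 : G i) ⊗ₜ[R] t) = (1 : R') ⊗ₜ[R] t
    rw [tν_tmul, map_one]
  have h1 : tν G R' S₀ i₁ (algebraMap S₀ (G i₁ ⊗[R] S₀) t - k₁) ∈
      sumIdeal R S₀ J₀ (Ilim G R' Il) := by
    rw [map_sub, hk₁, hνt]
    exact hk
  obtain ⟨i₀, hi, h2⟩ := exists_stage_mem_sumIdeal G g hgR R' hcolim Il hIl S₀ J₀ i₁ _ h1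
  set k₀ := tmap G g hgR S₀ i₁ i₀ hi k₁ with hk₀def
  have hk₀ : tν G R' S₀ i₀ k₀ = k := by
    rw [hk₀def, tν_tmap G g hgR R' hcolim]
    exact hk₁
  have h3 : algebraMap S₀ (G i₀ ⊗[R] S₀) t - k₀ ∈ sumIdeal R S₀ J₀ (Il i₀) := by
    rw [map_sub] at h2
    have h4 : tmap G g hgR S₀ i₁ i₀ hi (algebraMap S₀ (G i₁ ⊗[R] S₀) t) =
        algebraMap S₀ (G i₀ ⊗[R] S₀) t := by
      show tmap G g hgR S₀ i₁ i₀ hi ((1 : G i₁) ⊗ₜ[R] t) = (1 : G i₀) ⊗ₜ[R] t
      rw [tmap_tmul, map_one]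
    rw [h4] at h2
    exact h2
  subst hk₀
  -- the subsystem above `i₀`
  have hcolim' := hcolim
  obtain ⟨hdir, hne, hid, hcomp, hcompat, hsurj, hker⟩ := hcolim
  letI := algSub G g i₀
  haveI : ∀ j : {j : ι // i₀ ≤ j}, IsScalarTower R (G i₀) (Gsub G i₀ j) := fun j =>
    IsScalarTower.of_algebraMap_eq (fun r => by
      have := congrArg (fun φ : R →+* G j.1 => φ r) (hgR i₀ j.1 j.2)
      simp only [RingHom.comp_apply] at this
      exact this.symm)
  haveI : ∀ j : {j : ι // i₀ ≤ j}, IsScalarTower (G i₀) (Gsub G i₀ j) R' := fun j =>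
    IsScalarTower.of_algebraMap_eq (fun x => by
      have := congrArg (fun φ : G i₀ →+* R' => φ x) (hcompat i₀ j.1 j.2)
      simp only [RingHom.comp_apply] at this
      exact this.symm)
  haveI : Algebra.FinitePresentation (G i₀ ⊗[R] S₀) (Localization.Away k₀) :=
    IsLocalization.Away.finitePresentation k₀
  haveI : Algebra.FinitePresentation (G i₀) (Localization.Away k₀) :=
    Algebra.FinitePresentation.trans (G i₀) (G i₀ ⊗[R] S₀) (Localization.Away k₀)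
  have hR' : Module.Flat R' (R' ⊗[G i₀] (Localization.Away k₀ ⊗[S₀] M₀)) :=
    (flat_tensor_stage_iff S₀ M₀ k₀ R').mpr hflat
  obtain ⟨j, hj⟩ := (Groth.Agent.Helper3.ColimFlat.S4848_main (A₀ := G i₀) (Gsub G i₀)
    (gSub G g R' hcolim' i₀) R' (isDirectedColimitRing_sub G g R' hcolim' i₀)
    (B₀ := Localization.Away k₀) (Localization.Away k₀ ⊗[S₀] M₀)).mp hR'
  haveI hj' : Module.Flat (G j.1) (Localization.Away (psi S₀ (G j.1) k₀) ⊗[S₀] M₀) :=
    (flat_tensor_stage_iff S₀ M₀ k₀ (G j.1)).mp hj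
  refine ⟨j.1, ?_⟩
  intro q _ hq hMon
  have h5 : psi S₀ (G j.1) (algebraMap S₀ (G i₀ ⊗[R] S₀) t - k₀) ∈
      sumIdeal R S₀ J₀ (Il j.1) :=
    psi_mem_sumIdeal S₀ J₀ (G j.1) (Il i₀) (Il j.1) (hIl i₀ j.1 j.2) _ h3
  have h6 : psi S₀ (G j.1) (algebraMap S₀ (G i₀ ⊗[R] S₀) t) =
      algebraMap S₀ (G j.1 ⊗[R] S₀) t := by
    show psi S₀ (G j.1) ((1 : G i₀) ⊗ₜ[R] t) = (1 : G j.1) ⊗ₜ[R] t
    rw [psi_tmul, map_one]
  rw [map_sub, h6] at h5
  have h7 : psi S₀ (G j.1) k₀ ∉ q := by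
    intro hmem
    apply hMon t ht
    have := q.add_mem (hq h5) hmem
    rwa [sub_add_cancel] at this
  exact flat_of_isLocalization_of_le S₀ M₀ (G j.1 ⊗[R] S₀)
    (Localization.Away (psi S₀ (G j.1) k₀)) (Localization.AtPrime q)
    (Submonoid.powers (psi S₀ (G j.1) k₀)) q.primeCompl (Submonoid.powers_le.mpr h7)

end Main

end Groth.Agent.Helper3.FlatLim
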