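import Mathlib
import Groth.Agent.Lib.Helper3.FlatLim6
import Groth.Agent.Lib.Helper3.UInj1

/-!
# Descent of flatness over `V(I + J)` to a finite stage (essentially finitely presented case)
-/

set_option autoImplicit false
universe u
namespace Groth.Agent.Helper3.FlatLim

open TensorProduct

attribute [local instance] Algebra.TensorProduct.rightAlgebra

theorem S6928_main {R S : Type u} [CommRing R] [CommRing S] [Algebra R S]
    (hS : FlatCA.EssFinitePresentation R S)
    {M : Type u} [AddCommGroup M] [Module S M] [Module R M] [IsScalarTower R S M]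
    [Module.FinitePresentation S M]
    {ι : Type u} [Preorder ι] (G : ι → Type u) [∀ i, CommRing (G i)] [∀ i, Algebra R (G i)]
    (g : ∀ i j, i ≤ j → G i →+* G j)
    (hgR : ∀ i j (h : i ≤ j), (g i j h).comp (algebraMap R (G i)) = algebraMap R (G j))
    (R' : Type u) [CommRing R'] [Algebra R R'] [∀ i, Algebra (G i) R']
    [∀ i, IsScalarTower R (G i) R']
    (hcolim : FlatCA.IsDirectedColimitRing G g R')
    (Il : ∀ i, Ideal (G i)) (hIl : ∀ i j (h : i ≤ j), (Il i).map (g i j h) ≤ Il j)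
    {S' : Type u} [CommRing S'] [Algebra S S'] [Algebra R' S'] [Algebra R S'] [IsScalarTower R S S']
    [IsScalarTower R R' S'] [Algebra.IsPushout R S R' S']
    {M' : Type u} [AddCommGroup M'] [Module S' M'] [Module R' M'] [IsScalarTower R' S' M']
    [Module S M'] [IsScalarTower S S' M'] (f : M →ₗ[S] M') (hf : IsBaseChange S' f)
    (J : Ideal S)
    (h : ∀ (q' : Ideal S') [q'.IsPrime],
      (⨆ i, (Il i).map (algebraMap (G i) R')).map (algebraMap R' S') ⊔ J.map (algebraMap S S') ≤ q' →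
        FlatCA.FlatAt R' q' M') :
    ∃ i : ι, ∀ (Si Mi : Type u) [CommRing Si] [Algebra S Si] [Algebra (G i) Si] [Algebra R Si]
      [IsScalarTower R S Si] [IsScalarTower R (G i) Si] [Algebra.IsPushout R S (G i) Si]
      [AddCommGroup Mi] [Module Si Mi] [Module (G i) Mi] [IsScalarTower (G i) Si Mi] [Module S Mi]
      [IsScalarTower S Si Mi] (fi : M →ₗ[S] Mi), IsBaseChange Si fi →
      ∀ (q : Ideal Si) [q.IsPrime], (Il i).map (algebraMap (G i) Si) ⊔ J.map (algebraMap S Si) ≤ q →
        FlatCA.FlatAt (G i) q Mi := by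
  obtain ⟨S₀, _, _, _, _, Mon, hfp, hloc⟩ := hS
  haveI := hfp
  haveI := hloc
  letI : Module S₀ M := Module.compHom M (algebraMap S₀ S)
  haveI : IsScalarTower S₀ S M := IsScalarTower.of_compHom _ _ _
  obtain ⟨M₀, _, _, hM₀, g₀, hg₀⟩ := Groth.Agent.Helper3.UInj.exists_fp_model (S₀ := S₀) (S := S) Mon (N := M)
  haveI := hM₀
  have hgood' : GoodF S₀ M₀ Mon (J.comap (algebraMap S₀ S)) R' (Ilim G R' Il) (R' ⊗[R] S₀) := by
    letI : Algebra S₀ S' := ((algebraMap S S').comp (algebraMap S₀ S)).toAlgebra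
    haveI : IsScalarTower S₀ S S' := IsScalarTower.of_algebraMap_eq (fun _ => rfl)
    exact goodF_of_flatAt Mon g₀ hg₀ J (Ilim G R' Il) f hf (fun q' _ hq' => h q' hq')
  obtain ⟨i, hi⟩ := exists_stage_goodF S₀ M₀ Mon (J.comap (algebraMap S₀ S)) G g hgR R' hcolim Il hIl
    hgood'
  refine ⟨i, ?_⟩
  intro Si Mi _ _ _ _ _ _ _ _ _ _ _ _ _ fi hfi q _ hq
  letI : Algebra S₀ Si := ((algebraMap S Si).comp (algebraMap S₀ S)).toAlgebra
  haveI : IsScalarTower S₀ S Si := IsScalarTower.of_algebraMap_eq (fun _ => rfl)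
  exact flatAt_of_goodF Mon g₀ hg₀ J (Il i) fi hfi hi q hq

end Groth.Agent.Helper3.FlatLim
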