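import Mathlib
import Groth.Agent.Lib.Helper3.FlatLim7
import Groth.Agent.Lib.Helper3.FlatId7
import Groth.Agent.Lib.Helper3.ColimFlat10

/-!
# Universal property of the flattening ideal for arbitrary local base changes (finite type case)
-/

set_option autoImplicit false
universe u
namespace Groth.Agent.Helper3.FlatLim

open TensorProduct IsLocalRing
open Groth.Agent.Helper3.FlatId

attribute [local instance] Algebra.TensorProduct.rightAlgebra

section Pow

variable {A SA : Type u} [CommRing A] [CommRing SA] [Algebra A SA]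
  {MA : Type u} [AddCommGroup MA] [Module SA MA] [Module A MA] [IsScalarTower A SA MA]

/-- Flatness at all primes over `V(K)` gives flatness of `MA` relative to the powers of `K`. -/
theorem relInj_pow_of_flatAt_ideal (K : Ideal A) (n : ℕ)
    (h : ∀ (q : Ideal SA) [q.IsPrime], K.map (algebraMap A SA) ≤ q →
      Module.Flat A (LocalizedModule q.primeCompl MA)) :
    RelInj (K ^ (n + 1)) MA := by
  apply relInj_of_localized_maximal (B := SA)
  intro Q hQ
  by_cases hcase : ∀ a ∈ K, algebraMap A SA a ∈ Q
  · have hle : K.map (algebraMap A SA) ≤ Q := by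
      rw [Ideal.map_le_iff_le_comap]
      exact fun a ha => hcase a ha
    haveI := h Q hle
    exact relInj_of_flat' _ _
  · push Not at hcase
    obtain ⟨a, ha, haQ⟩ := hcase
    refine relInj_of_surjective_smul _ _ (a ^ (n + 1)) (Ideal.pow_mem_pow ha _) ?_
    have hu : algebraMap A SA (a ^ (n + 1)) ∈ Q.primeCompl := by
      rw [map_pow]
      exact Q.primeCompl.pow_mem haQ _
    have h1 := IsLocalizedModule.map_units (LocalizedModule.mkLinearMap Q.primeCompl MA)
      ⟨_, hu⟩
    intro x
    obtain ⟨y, hy⟩ := ((Module.End.isUnit_iff _).mp h1).2 x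
    refine ⟨y, ?_⟩
    rw [← hy]
    show a ^ (n + 1) • y = algebraMap A SA (a ^ (n + 1)) • y
    rw [algebraMap_smul]

end Pow

section Key

variable {R S A SA : Type u} [CommRing R] [IsLocalRing R] [IsNoetherianRing R] [CommRing S]
    [CommRing A] [CommRing SA]
    [Algebra R S] [Algebra R A] [Algebra S SA] [Algebra A SA]
    [Algebra R SA] [IsScalarTower R S SA] [IsScalarTower R A SA] [Algebra.IsPushout R S A SA]
    {M MA : Type u} [AddCommGroup M] [Module S M] [Module R M] [IsScalarTower R S M]
    [AddCommGroup MA] [Module SA MA] [Module A MA] [IsScalarTower A SA MA] [Module S MA]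
    [IsScalarTower S SA MA]

theorem le_comap_pow (fA : M →ₗ[S] MA) (hfA : IsBaseChange SA fA) (K : Ideal A)
    (hK : maximalIdeal R ≤ K.comap (algebraMap R A)) (I : Ideal R)
    (hmin : ∀ J : Ideal R, (∀ (q : Ideal S) [q.IsPrime],
        q.comap (algebraMap R S) = IsLocalRing.maximalIdeal R →
        Module.Flat (R ⧸ J) ((R ⧸ J) ⊗[R] LocalizedModule q.primeCompl M)) → I ≤ J)
    (h : ∀ (q : Ideal SA) [q.IsPrime], K.map (algebraMap A SA) ≤ q →
      Module.Flat A (LocalizedModule q.primeCompl MA)) (n : ℕ) :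
    I ≤ (K ^ (n + 1)).comap (algebraMap R A) := by
  have h1 : RelInj (K ^ (n + 1)) MA := relInj_pow_of_flatAt_ideal K n h
  have hle : maximalIdeal R ^ (n + 1) ≤ (K ^ (n + 1)).comap (algebraMap R A) := by
    rw [← Ideal.map_le_iff_le_comap, Ideal.map_pow]
    apply Ideal.pow_right_mono
    rw [Ideal.map_le_iff_le_comap]
    exact hK
  have hmin' : maximalIdeal R ∈ (maximalIdeal R ^ (n + 1)).minimalPrimes := by
    refine ⟨⟨inferInstance, Ideal.pow_le_self (Nat.succ_ne_zero n)⟩, ?_⟩
    rintro q ⟨hq, hqk⟩ _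
    exact hq.le_of_pow_le hqk
  haveI hart : IsArtinianRing (R ⧸ maximalIdeal R ^ (n + 1)) :=
    IsLocalRing.quotient_artinian_of_mem_minimalPrimes_of_isLocalRing _ hmin'
  haveI : IsArtinianRing (R ⧸ (K ^ (n + 1)).comap (algebraMap R A)) :=
    Function.Surjective.isArtinianRing (f := Ideal.Quotient.factor hle)
      (Ideal.Quotient.factor_surjective hle)
  have h2 := relInj_comap_of_relInj (R := R) fA hfA (K ^ (n + 1)) h1
  apply hmin
  intro q _ hq
  rw [← relInj_iff]
  exact relInj_of_isLocalizedModule (A := R) (B := S) q.primeCompl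
    (LocalizedModule.mkLinearMap q.primeCompl M) _ h2

end Key

section Krull

theorem map_eq_zero_of_forall_mem_pow {A R' : Type u} [CommRing A] [IsNoetherianRing A]
    [CommRing R'] [IsLocalRing R'] [Algebra A R'] (K : Ideal A)
    (hK : K ≤ (maximalIdeal R').comap (algebraMap A R')) (x : A) (hx : ∀ n : ℕ, x ∈ K ^ n) :
    algebraMap A R' x = 0 := by
  have h1 : x ∈ (⨅ i : ℕ, K ^ i • ⊤ : Submodule A A) := by
    rw [Submodule.mem_iInf]
    intro i
    rw [smul_eq_mul, Ideal.mul_top]
    exact hx i
  obtain ⟨r, hr⟩ := (Ideal.mem_iInf_smul_pow_eq_bot_iff K x).mp h1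
  have hr' : algebraMap A R' (r : A) ∈ maximalIdeal R' := hK r.2
  have h2 : algebraMap A R' (r : A) * algebraMap A R' x = algebraMap A R' x := by
    rw [← map_mul, ← smul_eq_mul, hr]
  have hu : IsUnit (1 - algebraMap A R' (r : A)) := by
    by_contra hcon
    have h3 : (1 - algebraMap A R' (r : A)) ∈ maximalIdeal R' := (mem_maximalIdeal _).mpr hcon
    have h4 : (1 : R') ∈ maximalIdeal R' := by
      have := Ideal.add_mem _ h3 hr'
      simpa using this
    exact (Ideal.ne_top_iff_one _).mp (Ideal.IsPrime.ne_top inferInstance) h4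
  have h5 : (1 - algebraMap A R' (r : A)) * algebraMap A R' x = 0 := by
    rw [sub_mul, one_mul, h2, sub_self]
  exact (hu.mul_right_eq_zero).mp h5

end Krull

section Main

variable {R S R' S' : Type u} [CommRing R] [IsLocalRing R]
    [IsNoetherianRing R] [CommRing S]
    [CommRing R'] [IsLocalRing R'] [CommRing S']
    [Algebra R S] [Algebra.FiniteType R S] [Algebra R R'] [IsLocalHom (algebraMap R R')]
    [Algebra S S'] [Algebra R' S']
    [Algebra R S'] [IsScalarTower R S S'] [IsScalarTower R R' S'] [Algebra.IsPushout R S R' S']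
    {M M' : Type u} [AddCommGroup M] [Module S M] [Module R M] [IsScalarTower R S M]
    [Module.Finite S M]
    [AddCommGroup M'] [Module S' M'] [Module R' M'] [IsScalarTower R' S' M'] [Module S M']
    [IsScalarTower S S' M']

theorem comap_maximalIdeal_eq' : (maximalIdeal R').comap (algebraMap R R') = maximalIdeal R :=
  ((IsLocalRing.local_hom_TFAE (algebraMap R R')).out 0 4).mp ‹IsLocalHom (algebraMap R R')›

omit [Algebra.FiniteType R S] [IsLocalHom (algebraMap R R')] [Module.Finite S M] in
/-- from flatness over a Noetherian stage `A → R'` to the vanishing of the image of `I` -/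
theorem ker_of_stage (A : Type u) [CommRing A] [IsNoetherianRing A] [Algebra R A] [Algebra A R']
    [IsScalarTower R A R'] (hloc : maximalIdeal R ≤ (maximalIdeal R').comap (algebraMap R R'))
    (I : Ideal R)
    (hmin : ∀ J : Ideal R, (∀ (q : Ideal S) [q.IsPrime],
        q.comap (algebraMap R S) = IsLocalRing.maximalIdeal R →
        Module.Flat (R ⧸ J) ((R ⧸ J) ⊗[R] LocalizedModule q.primeCompl M)) → I ≤ J)
    (hi : ∀ (Si Mi : Type u) [CommRing Si] [Algebra S Si] [Algebra A Si] [Algebra R Si]
      [IsScalarTower R S Si] [IsScalarTower R A Si] [Algebra.IsPushout R S A Si]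
      [AddCommGroup Mi] [Module Si Mi] [Module A Mi] [IsScalarTower A Si Mi] [Module S Mi]
      [IsScalarTower S Si Mi] (fi : M →ₗ[S] Mi), IsBaseChange Si fi →
      ∀ (q : Ideal Si) [q.IsPrime],
        ((maximalIdeal R').comap (algebraMap A R')).map (algebraMap A Si) ⊔
          (⊥ : Ideal S).map (algebraMap S Si) ≤ q → FlatCA.FlatAt A q Mi) :
    I ≤ RingHom.ker (algebraMap R R') := by
  have hi' := hi (S ⊗[R] A) ((S ⊗[R] A) ⊗[S] M) (TensorProduct.mk S (S ⊗[R] A) M 1)
    (TensorProduct.isBaseChange S M (S ⊗[R] A))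
  have hflat : ∀ (q : Ideal (S ⊗[R] A)) [q.IsPrime],
      ((maximalIdeal R').comap (algebraMap A R')).map (algebraMap A (S ⊗[R] A)) ≤ q →
      Module.Flat A (LocalizedModule q.primeCompl ((S ⊗[R] A) ⊗[S] M)) := by
    intro q _ hq
    apply hi' q
    rw [Ideal.map_bot, sup_bot_eq]
    exact hq
  have hK : maximalIdeal R ≤
      ((maximalIdeal R').comap (algebraMap A R')).comap (algebraMap R A) := by
    intro x hx
    show algebraMap A R' (algebraMap R A x) ∈ maximalIdeal R'
    rw [← IsScalarTower.algebraMap_apply R A R']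
    exact hloc hx
  have hpow : ∀ n : ℕ, I ≤
      (((maximalIdeal R').comap (algebraMap A R')) ^ (n + 1)).comap (algebraMap R A) := fun n =>
    le_comap_pow (R := R) (S := S) (A := A) (SA := S ⊗[R] A) (M := M)
      (MA := (S ⊗[R] A) ⊗[S] M) (TensorProduct.mk S (S ⊗[R] A) M 1)
      (TensorProduct.isBaseChange S M (S ⊗[R] A)) ((maximalIdeal R').comap (algebraMap A R'))
      hK I hmin hflat n
  intro x hx
  rw [RingHom.mem_ker, IsScalarTower.algebraMap_apply R A R']
  apply map_eq_zero_of_forall_mem_pow ((maximalIdeal R').comap (algebraMap A R')) le_rfl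
  intro n
  exact Ideal.pow_le_pow_right (Nat.le_succ n) (hpow n hx)

/-- `(⇒)` for an arbitrary directed system of Noetherian `R`-algebras with colimit `R'` -/
theorem ker_of_colim {ι : Type u} [Preorder ι] (G : ι → Type u) [∀ i, CommRing (G i)]
    [∀ i, Algebra R (G i)] [∀ i, IsNoetherianRing (G i)]
    (g : ∀ i j, i ≤ j → G i →+* G j)
    (hgR : ∀ i j (h : i ≤ j), (g i j h).comp (algebraMap R (G i)) = algebraMap R (G j))
    [∀ i, Algebra (G i) R'] [∀ i, IsScalarTower R (G i) R']
    (hcolim : FlatCA.IsDirectedColimitRing G g R')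
    (f : M →ₗ[S] M') (hf : IsBaseChange S' f) (I : Ideal R)
    (hmin : ∀ J : Ideal R, (∀ (q : Ideal S) [q.IsPrime],
        q.comap (algebraMap R S) = IsLocalRing.maximalIdeal R →
        Module.Flat (R ⧸ J) ((R ⧸ J) ⊗[R] LocalizedModule q.primeCompl M)) → I ≤ J)
    (h : ∀ (q' : Ideal S') [q'.IsPrime],
      q'.comap (algebraMap R' S') = IsLocalRing.maximalIdeal R' → FlatCA.FlatAt R' q' M') :
    I ≤ RingHom.ker (algebraMap R R') := by
  haveI hfpS : Algebra.FinitePresentation R S :=
    Algebra.FinitePresentation.of_finiteType.mp inferInstance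
  haveI : IsNoetherianRing S := Algebra.FiniteType.isNoetherianRing R S
  haveI : Module.FinitePresentation S M := Module.finitePresentation_of_finite S M
  have hS : FlatCA.EssFinitePresentation R S :=
    ⟨S, inferInstance, inferInstance, Algebra.id S, inferInstance, ⊥, hfpS,
      IsLocalization.self (by
        intro x hx
        rw [Submonoid.mem_bot] at hx
        rw [hx]
        exact isUnit_one)⟩
  have hIl : ∀ i j (h : i ≤ j), ((maximalIdeal R').comap (algebraMap (G i) R')).map (g i j h) ≤
      (maximalIdeal R').comap (algebraMap (G j) R') := by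
    intro i j h
    rw [Ideal.map_le_iff_le_comap]
    intro x hx
    show algebraMap (G j) R' (g i j h x) ∈ maximalIdeal R'
    have := hcolim.2.2.2.2.1 i j h
    rw [← RingHom.comp_apply, this]
    exact hx
  have hsup : maximalIdeal R' ≤
      ⨆ i, ((maximalIdeal R').comap (algebraMap (G i) R')).map (algebraMap (G i) R') := by
    intro x hx
    obtain ⟨i, y, hy⟩ := hcolim.2.2.2.2.2.1 x
    have hyI : y ∈ (maximalIdeal R').comap (algebraMap (G i) R') := by
      show algebraMap (G i) R' y ∈ maximalIdeal R'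
      rw [hy]
      exact hx
    rw [← hy]
    exact (le_iSup (fun i => ((maximalIdeal R').comap (algebraMap (G i) R')).map
      (algebraMap (G i) R')) i) (Ideal.mem_map_of_mem _ hyI)
  have h' : ∀ (q' : Ideal S') [q'.IsPrime],
      (⨆ i, ((maximalIdeal R').comap (algebraMap (G i) R')).map
        (algebraMap (G i) R')).map (algebraMap R' S') ⊔
        (⊥ : Ideal S).map (algebraMap S S') ≤ q' → FlatCA.FlatAt R' q' M' := by
    intro q' _ hq'
    apply h q'
    have hle : maximalIdeal R' ≤ q'.comap (algebraMap R' S') := by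
      rw [← Ideal.map_le_iff_le_comap]
      exact (Ideal.map_mono hsup).trans (le_sup_left.trans hq')
    have hne : q'.comap (algebraMap R' S') ≠ ⊤ := (Ideal.comap_isPrime _ q').ne_top
    exact ((maximalIdeal.isMaximal R').eq_of_le hne hle).symm
  obtain ⟨i, hi⟩ := S6928_main hS G g hgR R' hcolim
    (fun i => (maximalIdeal R').comap (algebraMap (G i) R')) hIl f hf ⊥ h'
  have hloc : maximalIdeal R ≤ (maximalIdeal R').comap (algebraMap R R') := by
    rw [comap_maximalIdeal_eq']
  exact ker_of_stage (S := S) (M := M) (G i) hloc I hmin hi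

theorem S6927_main (f : M →ₗ[S] M') (hf : IsBaseChange S' f) (I : Ideal R)
    (hI : (∀ (q : Ideal S) [q.IsPrime], q.comap (algebraMap R S) = IsLocalRing.maximalIdeal R →
        Module.Flat (R ⧸ I) ((R ⧸ I) ⊗[R] LocalizedModule q.primeCompl M)))
    (hmin : ∀ J : Ideal R, (∀ (q : Ideal S) [q.IsPrime],
        q.comap (algebraMap R S) = IsLocalRing.maximalIdeal R →
        Module.Flat (R ⧸ J) ((R ⧸ J) ⊗[R] LocalizedModule q.primeCompl M)) → I ≤ J) :
    (∀ (q' : Ideal S') [q'.IsPrime], q'.comap (algebraMap R' S') = IsLocalRing.maximalIdeal R' →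
        FlatCA.FlatAt R' q' M') ↔
      I ≤ RingHom.ker (algebraMap R R') := by
  constructor
  · intro h
    haveI : ∀ i : ColimFlat.FGSub R R', IsNoetherianRing ↥i.1 :=
      ColimFlat.isNoetherianRing_fgSub R R'
    exact ker_of_colim (fun i : ColimFlat.FGSub R R' => ↥i.1)
      (fun i j h => (Subalgebra.inclusion (show i.1 ≤ j.1 from h)).toRingHom)
      (fun i j h => by ext x; rfl)
      (ColimFlat.isDirectedColimitRing_fgSub R R') f hf I hmin h
  · intro hker q' _ hq'
    apply flat_localized_of_relInj f hf I hker q'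
    rw [relInj_iff]
    apply hI
    rw [Ideal.comap_comap, ← IsScalarTower.algebraMap_eq, IsScalarTower.algebraMap_eq R R' S',
      ← Ideal.comap_comap, hq', comap_maximalIdeal_eq']

end Main

end Groth.Agent.Helper3.FlatLim
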