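import Mathlib
import Groth.Agent.Lib.Helper1.LocalCrit
import Groth.Agent.Lib.Helper6.CommonField

/-!
# Descent of flatness at a prime along a base change which is flat only locally (helper3)
-/

set_option autoImplicit false
set_option linter.style.haveILetI false
universe u

namespace Groth.Agent.Helper3.FlatPO

open TensorProduct

section C

variable {R S R' S' : Type u} [CommRing R] [CommRing S] [CommRing R'] [CommRing S']
  [Algebra R S] [Algebra R R'] [Algebra S S'] [Algebra R' S'] [Algebra R S'] [IsScalarTower R S S']
  [IsScalarTower R R' S']

/-- In a pushout square, the localization of `S'` at the image of `R' ∖ p'` is flat over `S`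
as soon as `R'_{p'}` is flat over `R`. -/
theorem flat_localization_algebraMapSubmonoid [Algebra.IsPushout R S R' S']
    (p' : Ideal R') [p'.IsPrime] [Module.Flat R (Localization.AtPrime p')] :
    Module.Flat S (Localization (Algebra.algebraMapSubmonoid S' p'.primeCompl)) := by
  haveI h0 : Algebra.IsPushout R' S' (Localization.AtPrime p')
      (Localization (Algebra.algebraMapSubmonoid S' p'.primeCompl)) :=
    Algebra.isPushout_of_isLocalization p'.primeCompl (Localization.AtPrime p') S' _
  haveI : IsScalarTower R S (Localization (Algebra.algebraMapSubmonoid S' p'.primeCompl)) :=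
    .of_algebraMap_eq fun x ↦ by
      rw [IsScalarTower.algebraMap_apply R S' (Localization _),
        IsScalarTower.algebraMap_apply R S S',
        ← IsScalarTower.algebraMap_apply S S' (Localization _)]
  haveI : IsScalarTower R (Localization.AtPrime p')
      (Localization (Algebra.algebraMapSubmonoid S' p'.primeCompl)) :=
    .of_algebraMap_eq fun x ↦ by
      rw [IsScalarTower.algebraMap_apply R R' (Localization.AtPrime p'),
        ← IsScalarTower.algebraMap_apply R' (Localization.AtPrime p') (Localization _),
        IsScalarTower.algebraMap_apply R S' (Localization _),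
        IsScalarTower.algebraMap_apply R R' S',
        ← IsScalarTower.algebraMap_apply R' S' (Localization _)]
  have h1 : Algebra.IsPushout R R' S S' := Algebra.IsPushout.symm inferInstance
  have h2 : Algebra.IsPushout R' (Localization.AtPrime p') S'
      (Localization (Algebra.algebraMapSubmonoid S' p'.primeCompl)) := h0.symm
  have h3 : Algebra.IsPushout R (Localization.AtPrime p') S
      (Localization (Algebra.algebraMapSubmonoid S' p'.primeCompl)) :=
    (Algebra.IsPushout.comp_iff R R' S S').mpr h2
  have h4 : Algebra.IsPushout R S (Localization.AtPrime p')
      (Localization (Algebra.algebraMapSubmonoid S' p'.primeCompl)) := h3.symm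
  exact Module.Flat.isBaseChange R S (Localization.AtPrime p') _ h4.out

/-- In a pushout square, `S'_{q'}` is flat over `S` as soon as `R'_{p'}` is flat over `R`, where
`p' = q' ∩ R'`. -/
theorem flat_atPrime_of_isPushout [Algebra.IsPushout R S R' S']
    (p' : Ideal R') [p'.IsPrime] (q' : Ideal S') [q'.IsPrime]
    (hq' : q'.comap (algebraMap R' S') = p')
    [Module.Flat R (Localization.AtPrime p')] :
    Module.Flat S (Localization.AtPrime q') := by
  have hW : Algebra.algebraMapSubmonoid S' p'.primeCompl ≤ q'.primeCompl := by
    rintro _ ⟨r, hr, rfl⟩ h
    exact hr (by rw [← hq']; exact h)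
  letI : Algebra (Localization (Algebra.algebraMapSubmonoid S' p'.primeCompl))
      (Localization.AtPrime q') :=
    IsLocalization.localizationAlgebraOfSubmonoidLe _ _ _ q'.primeCompl hW
  haveI : IsScalarTower S' (Localization (Algebra.algebraMapSubmonoid S' p'.primeCompl))
      (Localization.AtPrime q') :=
    IsLocalization.localization_isScalarTower_of_submonoid_le _ _ _ _ hW
  haveI : IsLocalization (q'.primeCompl.map
      (algebraMap S' (Localization (Algebra.algebraMapSubmonoid S' p'.primeCompl))))
      (Localization.AtPrime q') :=
    IsLocalization.isLocalization_of_submonoid_le _ _ _ _ hW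
  haveI : Module.Flat (Localization (Algebra.algebraMapSubmonoid S' p'.primeCompl))
      (Localization.AtPrime q') :=
    IsLocalization.flat _ (q'.primeCompl.map
      (algebraMap S' (Localization (Algebra.algebraMapSubmonoid S' p'.primeCompl))))
  haveI := flat_localization_algebraMapSubmonoid (R := R) (S := S) (S' := S') p'
  haveI : IsScalarTower S (Localization (Algebra.algebraMapSubmonoid S' p'.primeCompl))
      (Localization.AtPrime q') := .of_algebraMap_eq fun x ↦ by
    rw [IsScalarTower.algebraMap_apply S S' (Localization.AtPrime q'),
      IsScalarTower.algebraMap_apply S' (Localization (Algebra.algebraMapSubmonoid S' p'.primeCompl))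
        (Localization.AtPrime q'),
      ← IsScalarTower.algebraMap_apply S S' (Localization _)]
  exact Module.Flat.trans S (Localization (Algebra.algebraMapSubmonoid S' p'.primeCompl))
    (Localization.AtPrime q')

end C

end Groth.Agent.Helper3.FlatPO
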