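import Mathlib
import Groth.Agent.Lib.Helper3.FlatPO1

/-!
# Descent of flatness at a prime along a base change which is flat only locally, II (helper3)
-/

set_option autoImplicit false
set_option linter.style.haveILetI false
set_option synthInstance.maxHeartbeats 400000
universe u

namespace Groth.Agent.Helper3.FlatPO

open TensorProduct

section Main

variable {R S R' S' : Type u} [CommRing R] [CommRing S] [CommRing R'] [CommRing S']
  [Algebra R S] [Algebra R R'] [Algebra S S'] [Algebra R' S'] [Algebra R S'] [IsScalarTower R S S']
  [IsScalarTower R R' S']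
  {M M' : Type u} [AddCommGroup M] [Module S M] [Module R M] [IsScalarTower R S M]
  [AddCommGroup M'] [Module S' M'] [Module R' M'] [IsScalarTower R' S' M'] [Module S M']
  [IsScalarTower S S' M']

set_option backward.isDefEq.respectTransparency false in
set_option maxHeartbeats 1000000 in
/-- **Descent of flatness at a prime** along a base change `R → R'` which is only assumed flat
at the prime `p'` below `q'`. -/
theorem flat_localizedModule_of_flat_baseChange_atPrime [Algebra.IsPushout R S R' S']
    (f : M →ₗ[S] M') (hf : IsBaseChange S' f) (q' : Ideal S') [q'.IsPrime]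
    (p' : Ideal R') [p'.IsPrime] (hq' : q'.comap (algebraMap R' S') = p')
    [Module.Flat R (Localization.AtPrime p')]
    (hflat : Module.Flat R' (LocalizedModule q'.primeCompl M')) :
    Module.Flat R (LocalizedModule (q'.comap (algebraMap S S')).primeCompl M) := by
  let q : Ideal S := q'.comap (algebraMap S S')
  haveI : q.IsPrime := Ideal.comap_isPrime _ _
  let L := Localization.AtPrime q
  let L' := Localization.AtPrime q'
  let φ : L →+* L' := Localization.localRingHom q q' (algebraMap S S') rfl
  letI : Algebra L L' := φ.toAlgebra
  haveI : IsScalarTower S L L' :=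
    .of_algebraMap_eq fun x ↦ (Localization.localRingHom_to_map _ _ _ rfl x).symm
  haveI : Module.Flat S L' := flat_atPrime_of_isPushout (R := R) p' q' hq'
  haveI : Module.Flat L L' :=
    (Module.flat_iff_of_isLocalization L q.primeCompl L').mpr inferInstance
  haveI : IsLocalHom (algebraMap L L') := Localization.isLocalHom_localRingHom _ _ _ rfl
  haveI : Module.FaithfullyFlat L L' := Module.FaithfullyFlat.of_flat_of_isLocalHom
  let N := LocalizedModule q.primeCompl M
  let N' := LocalizedModule q'.primeCompl M'
  have hmk : IsBaseChange L (LocalizedModule.mkLinearMap q.primeCompl M) :=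
    IsLocalizedModule.isBaseChange q.primeCompl L _
  have hmk' : IsBaseChange L' (LocalizedModule.mkLinearMap q'.primeCompl M') :=
    IsLocalizedModule.isBaseChange q'.primeCompl L' _
  let g : M →ₗ[S] N' := ((LocalizedModule.mkLinearMap q'.primeCompl M').restrictScalars S) ∘ₗ f
  have hg : IsBaseChange L' g := IsBaseChange.comp hf hmk'
  letI : Module L N' := Module.compHom N' (algebraMap L L')
  haveI : IsScalarTower L L' N' := IsScalarTower.of_compHom L L' N'
  haveI : IsScalarTower S L N' := IsScalarTower.to₁₂₄ S L L' N'
  let h : N →ₗ[L] N' := hmk.lift g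
  have hh : IsBaseChange L' h := by
    apply IsBaseChange.of_comp hmk
    rw [IsBaseChange.lift_comp]
    exact hg
  let e : L' ⊗[L] N ≃ₗ[L'] N' := hh.equiv
  haveI : IsScalarTower R L L' := .of_algebraMap_eq fun r ↦ by
    rw [IsScalarTower.algebraMap_apply R S L]
    show _ = φ _
    rw [Localization.localRingHom_to_map, ← IsScalarTower.algebraMap_apply R S S',
      ← IsScalarTower.algebraMap_apply R S' L']
  -- the `R`-module structure on `N'`
  letI : Module R N' := Module.compHom N' (algebraMap R L')
  haveI : IsScalarTower R L' N' := IsScalarTower.of_compHom R L' N'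
  -- the `P'`-module structure on `N'`
  let P' := Localization.AtPrime p'
  let φ' : P' →+* L' := Localization.localRingHom p' q' (algebraMap R' S') hq'.symm
  letI : Algebra P' L' := φ'.toAlgebra
  haveI : IsScalarTower R' P' L' :=
    .of_algebraMap_eq fun x ↦ by
      rw [IsScalarTower.algebraMap_apply R' S' L']
      exact (Localization.localRingHom_to_map _ _ _ hq'.symm x).symm
  letI : Module P' N' := Module.compHom N' (algebraMap P' L')
  haveI : IsScalarTower P' L' N' := IsScalarTower.of_compHom P' L' N'
  haveI : IsScalarTower R' P' N' := IsScalarTower.to₁₂₄ R' P' L' N'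
  haveI : Module.Flat P' N' :=
    (Module.flat_iff_of_isLocalization P' p'.primeCompl N').mpr hflat
  haveI : IsScalarTower R P' L' := .of_algebraMap_eq fun r ↦ by
    rw [IsScalarTower.algebraMap_apply R R' P', ← IsScalarTower.algebraMap_apply R' P' L',
      IsScalarTower.algebraMap_apply R S' L', IsScalarTower.algebraMap_apply R R' S',
      ← IsScalarTower.algebraMap_apply R' S' L']
  haveI : IsScalarTower R P' N' := IsScalarTower.to₁₂₄ R P' L' N'
  haveI : Module.Flat R N' := Module.Flat.trans R P' N'
  haveI : Module.Flat R (L' ⊗[L] N) := Module.Flat.of_linearEquiv (e.restrictScalars R)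
  exact Groth.Agent.Helper1.LocalCrit.flat_of_flat_tensorProduct_of_faithfullyFlat (R := R)
    (S := L) L' N

end Main

end Groth.Agent.Helper3.FlatPO
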