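import Mathlib
import Groth.Agent.Lib.Helper3.FlatPO2
import Groth.Agent.Lib.Helper6.CommonField
import Groth.Prelude.Def_FlatCA

/-!
# Descent of flatness at primes over ideals (helper3): S6919
-/

set_option autoImplicit false
set_option linter.style.haveILetI false
universe u

namespace Groth.Agent.Helper3.FlatPO

open TensorProduct

section Ex

variable {R S R' S' : Type u} [CommRing R] [CommRing S] [CommRing R'] [CommRing S']
  [Algebra R S] [Algebra R R'] [Algebra S S'] [Algebra R' S'] [Algebra R S'] [IsScalarTower R S S']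
  [IsScalarTower R R' S']

/-- In a pushout square `S' = S ⊗_R R'`, any pair of primes `q ⊂ S`, `p' ⊂ R'` with the same
contraction to `R` is the pair of contractions of a prime of `S'`. -/
theorem exists_prime_of_isPushout [Algebra.IsPushout R S R' S'] (q : Ideal S) [q.IsPrime]
    (p' : Ideal R') [p'.IsPrime]
    (h : p'.comap (algebraMap R R') = q.comap (algebraMap R S)) :
    ∃ (q' : Ideal S') (_ : q'.IsPrime), q'.comap (algebraMap S S') = q ∧
      q'.comap (algebraMap R' S') = p' := by
  obtain ⟨Ω, _, α, β, hα, hβ, hαβ⟩ :=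
    Groth.Agent.Lib.Helper6.CommonField.exists_common_field q p' h
  letI : Algebra R Ω := (α.comp (algebraMap R S)).toAlgebra
  let fα : S →ₐ[R] Ω := { α with commutes' := fun r ↦ rfl }
  let fβ : R' →ₐ[R] Ω := { β with commutes' := fun r ↦ (RingHom.congr_fun hαβ r).symm }
  let ψ : S' →ₐ[R] Ω := Algebra.pushoutDesc S' fα fβ (fun _ _ ↦ mul_comm _ _)
  refine ⟨RingHom.ker ψ.toRingHom, RingHom.ker_isPrime _, ?_, ?_⟩
  · rw [RingHom.comap_ker, ← hα]
    congr 1
    ext x
    exact Algebra.pushoutDesc_left S' fα fβ (fun _ _ ↦ mul_comm _ _) x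
  · rw [RingHom.comap_ker, ← hβ]
    congr 1
    ext x
    exact Algebra.pushoutDesc_right S' fα fβ (fun _ _ ↦ mul_comm _ _) x

end Ex

section Main

variable {R S R' S' : Type u} [CommRing R] [CommRing S] [CommRing R'] [CommRing S']
  [Algebra R S] [Algebra R R'] [Algebra S S'] [Algebra R' S'] [Algebra R S'] [IsScalarTower R S S']
  [IsScalarTower R R' S'] [Algebra.IsPushout R S R' S']

theorem S6919_main
    (I : Ideal R) (I' : Ideal R') (_hII' : I.map (algebraMap R R') ≤ I')
    {M M' : Type u} [AddCommGroup M] [Module S M] [Module R M] [IsScalarTower R S M]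
    [AddCommGroup M'] [Module S' M'] [Module R' M'] [IsScalarTower R' S' M'] [Module S M']
    [IsScalarTower S S' M']
    (f : M →ₗ[S] M') (hf : IsBaseChange S' f) (J : Ideal S)
    (hsurj : ∀ (p : Ideal R) [p.IsPrime], I ≤ p →
      ∃ (p' : Ideal R') (_ : p'.IsPrime), I' ≤ p' ∧ p'.comap (algebraMap R R') = p)
    (hflat : ∀ (p' : Ideal R') [p'.IsPrime], I' ≤ p' → Module.Flat R (Localization.AtPrime p'))
    (h : (∀ (q : Ideal S') [q.IsPrime],
      I'.map (algebraMap R' S') ⊔ J.map (algebraMap S S') ≤ q → FlatCA.FlatAt R' q M')) :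
    (∀ (q : Ideal S) [q.IsPrime], I.map (algebraMap R S) ⊔ J ≤ q → FlatCA.FlatAt R q M) := by
  intro q _ hq
  have hIq : I ≤ q.comap (algebraMap R S) :=
    Ideal.map_le_iff_le_comap.1 (le_trans le_sup_left hq)
  obtain ⟨p', hp', hI'p', hp'q⟩ := hsurj (q.comap (algebraMap R S)) hIq
  obtain ⟨q', hq', hq'q, hq'p'⟩ := exists_prime_of_isPushout (S' := S') q p' hp'q
  haveI := hflat p' hI'p'
  have hle : I'.map (algebraMap R' S') ⊔ J.map (algebraMap S S') ≤ q' := by
    refine sup_le ?_ ?_
    · rw [Ideal.map_le_iff_le_comap, hq'p']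
      exact hI'p'
    · rw [Ideal.map_le_iff_le_comap, hq'q]
      exact le_trans le_sup_right hq
  have key := flat_localizedModule_of_flat_baseChange_atPrime (R := R) f hf q' p' hq'p' (h q' hle)
  unfold FlatCA.FlatAt
  subst hq'q
  exact key

end Main

end Groth.Agent.Helper3.FlatPO
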