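import Mathlib.RingTheory.AdicCompletion.Basic
import Mathlib.RingTheory.Nakayama
import Mathlib.RingTheory.Noetherian.Basic
import Mathlib.RingTheory.Finiteness.Basic
import Mathlib.RingTheory.Ideal.Operations
import Mathlib.Tactic

/-! Inverse systems of finite modules over an adically complete ring. -/

open Submodule

namespace Groth.Agent.Helper3.FormalSys

section compat

variable {A : Type*} [CommRing A] (M : ℕ → Type*) [∀ n, AddCommGroup (M n)] [∀ n, Module A (M n)]
  (f : ∀ n, M (n + 1) →ₗ[A] M n)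

/-- compatible below level `N` -/
def CompatBelow (N : ℕ) (X : ∀ k, M k) : Prop := ∀ k < N, f k (X (k + 1)) = X k

lemma exists_compatBelow (n : ℕ) (m : M n) :
    ∃ X : ∀ k, M k, X n = m ∧ CompatBelow M f n X := by
  induction n with
  | zero =>
    exact ⟨Function.update (fun _ => 0) 0 m, by simp, fun k hk => absurd hk (Nat.not_lt_zero k)⟩
  | succ n ih =>
    obtain ⟨X, hX, hc⟩ := ih (f n m)
    refine ⟨Function.update X (n+1) m, by simp, ?_⟩
    intro k hk
    rcases Nat.lt_succ_iff_lt_or_eq.1 hk with h | rfl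
    · rw [Function.update_of_ne (by omega), Function.update_of_ne (by omega)]; exact hc k h
    · rw [Function.update_self, Function.update_of_ne (by omega), hX]

lemma exists_extend (hf : ∀ n, Function.Surjective (f n)) (N : ℕ) (X : ∀ k, M k)
    (hX : CompatBelow M f N X) :
    ∃ X' : ∀ k, M k, (∀ k ≤ N, X' k = X k) ∧ CompatBelow M f (N+1) X' := by
  obtain ⟨y, hy⟩ := hf N (X N)
  refine ⟨Function.update X (N+1) y, fun k hk => Function.update_of_ne (by omega) _ _, ?_⟩
  intro k hk
  rcases Nat.lt_succ_iff_lt_or_eq.1 hk with h | rfl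
  · rw [Function.update_of_ne (by omega), Function.update_of_ne (by omega)]; exact hX k h
  · rw [Function.update_self, Function.update_of_ne (by omega), hy]

lemma exists_compat (hf : ∀ n, Function.Surjective (f n)) (n : ℕ) (m : M n) :
    ∃ x : ∀ k, M k, (∀ k, f k (x (k+1)) = x k) ∧ x n = m := by
  obtain ⟨X0, hX0, hc0⟩ := exists_compatBelow M f n m
  let S : ℕ → Type _ := fun j => {X : ∀ k, M k // CompatBelow M f (n + j) X}
  have step : ∀ j (X : S j), ∃ X' : S (j+1), ∀ k ≤ n + j, X'.1 k = X.1 k := by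
    intro j X
    obtain ⟨X', h1, h2⟩ := exists_extend M f hf (n + j) X.1 X.2
    exact ⟨⟨X', h2⟩, h1⟩
  choose nxt hnxt using step
  let seq : ∀ j, S j := fun j => Nat.rec (motive := S) ⟨X0, hc0⟩ (fun j X => nxt j X) j
  have hagree : ∀ j k, k ≤ n + j → (seq (j+1)).1 k = (seq j).1 k :=
    fun j k hk => hnxt j _ k hk
  have hn : ∀ j, (seq j).1 n = m := by
    intro j
    induction j with
    | zero => exact hX0
    | succ j ih => rw [hagree j n (by omega), ih]
  refine ⟨fun k => (seq k).1 k, ?_, hn n⟩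
  intro k
  show f k ((seq (k+1)).1 (k+1)) = (seq k).1 k
  rw [(seq (k+1)).2 k (by omega), hagree k k (by omega)]

end compat

section main

variable {A : Type*} [CommRing A] (I : Ideal A)
  (M : ℕ → Type*) [∀ n, AddCommGroup (M n)] [∀ n, Module A (M n)]
  (f : ∀ n, M (n + 1) →ₗ[A] M n)
  (L : Submodule A (∀ n, M n)) (hL : ∀ x : ∀ n, M n, x ∈ L ↔ ∀ n, f n (x (n + 1)) = x n)

include hL in
lemma eq_zero_below (w : L) (N : ℕ) (hw : w.1 N = 0) (k : ℕ) (hk : k ≤ N) : w.1 k = 0 := by
  induction N, hk using Nat.le_induction with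
  | base => exact hw
  | succ N hkN ih =>
    apply ih
    rw [← (hL w.1).1 w.2 N, hw, map_zero]

include hL in
lemma span_top_succ [IsAdicComplete I A] [∀ n, Module.Finite A (M n)]
    (hker : ∀ n, LinearMap.ker (f n) = I ^ (n + 1) • (⊤ : Submodule A (M (n + 1))))
    {r : ℕ} (e : Fin r → L) (n : ℕ)
    (h : span A (Set.range fun i => (e i).1 n) = ⊤) :
    span A (Set.range fun i => (e i).1 (n + 1)) = ⊤ := by
  rw [eq_top_iff]
  refine le_of_le_smul_of_le_jacobson_bot (I := I) (Module.Finite.fg_top)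
    (IsAdicComplete.le_jacobson_bot I) ?_
  intro y _
  have hy : f n y ∈ span A (Set.range fun i => (e i).1 n) := by rw [h]; trivial
  have himg : span A (Set.range fun i => (e i).1 n) =
      (span A (Set.range fun i => (e i).1 (n + 1))).map (f n) := by
    rw [Submodule.map_span, ← Set.range_comp]
    congr 2
    ext i
    exact ((hL (e i).1).1 (e i).2 n).symm
  rw [himg] at hy
  obtain ⟨y', hy', hyy'⟩ := hy
  have hd : y - y' ∈ LinearMap.ker (f n) := by
    rw [LinearMap.mem_ker, map_sub, hyy', sub_self]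
  rw [hker] at hd
  have : y = y' + (y - y') := by abel
  rw [this]
  refine Submodule.add_mem_sup hy' ?_
  exact Submodule.smul_mono_left (Ideal.pow_le_self (by omega)) hd

include hL in
lemma key [IsAdicComplete I A]
    (hk : ∀ n, I ^ (n + 1) • (⊤ : Submodule A (M n)) = ⊥)
    (hker : ∀ n, LinearMap.ker (f n) = I ^ (n + 1) • (⊤ : Submodule A (M (n + 1))))
    {r : ℕ} (e : Fin r → L)
    (hspan : ∀ n, span A (Set.range fun i => (e i).1 n) = ⊤)
    (n : ℕ) (z : L) (hz : z.1 n = 0) :
    ∃ a : Fin r → A, (∀ i, a i ∈ I ^ (n + 1)) ∧ z = ∑ i, a i • e i := by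
  -- the coefficient sequence
  let P : ℕ → (Fin r → A) → Prop := fun j a =>
    (∀ i, a i ∈ I ^ (n + 1)) ∧ z.1 (n + j) = ∑ i, a i • (e i).1 (n + j)
  have step : ∀ j (a : {a // P j a}), ∃ a' : {a // P (j + 1) a},
      ∀ i, a'.1 i - a.1 i ∈ I ^ (n + j + 1) := by
    rintro j ⟨a, ha1, ha2⟩
    let z' : L := z - ∑ i, a i • e i
    have hz' : z'.1 (n + j) = 0 := by
      simp only [z', Submodule.coe_sub, Pi.sub_apply, Submodule.coe_sum, Submodule.coe_smul,
        Finset.sum_apply, Pi.smul_apply, ha2, sub_self]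
    have hmem : z'.1 (n + j + 1) ∈ LinearMap.ker (f (n + j)) := by
      rw [LinearMap.mem_ker, (hL z'.1).1 z'.2 (n + j), hz']
    rw [hker, ← hspan (n + j + 1), mem_ideal_smul_span_iff_exists_sum] at hmem
    obtain ⟨b, hb, hsum⟩ := hmem
    have hsum' : ∑ i, b i • (e i).1 (n + j + 1) = z'.1 (n + j + 1) := by
      rw [← hsum]; exact (Finsupp.sum_fintype b (fun i c => c • (e i).1 (n + j + 1)) (fun i => zero_smul _ _)).symm
    refine ⟨⟨fun i => a i + b i, fun i => Ideal.add_mem _ (ha1 i)
      (Ideal.pow_le_pow_right (by omega) (hb i)), ?_⟩, fun i => by simpa using hb i⟩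
    have : z.1 (n + j + 1) = z'.1 (n + j + 1) + ∑ i, a i • (e i).1 (n + j + 1) := by
      simp only [z', Submodule.coe_sub, Pi.sub_apply, Submodule.coe_sum, Submodule.coe_smul,
        Finset.sum_apply, Pi.smul_apply, sub_add_cancel]
    show z.1 (n + j + 1) = ∑ i, (a i + b i) • (e i).1 (n + j + 1)
    rw [this, ← hsum', ← Finset.sum_add_distrib]
    refine Finset.sum_congr rfl fun i _ => ?_
    rw [add_smul]
    exact add_comm _ _
  choose nxt hnxt using step
  have h0 : P 0 (fun _ => 0) := ⟨fun i => Ideal.zero_mem _, by simpa using hz⟩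
  let seq : ∀ j, {a // P j a} := fun j =>
    Nat.rec (motive := fun j => {a // P j a}) ⟨_, h0⟩ (fun j a => nxt j a) j
  have hdiff : ∀ j i, (seq (j + 1)).1 i - (seq j).1 i ∈ I ^ (n + j + 1) := fun j i => hnxt j _ i
  -- limits of the coefficients
  have hlim : ∀ i, ∃ c : A, ∀ j, (seq j).1 i ≡ c [SMOD (I ^ j • ⊤ : Submodule A A)] := by
    intro i
    have hsucc : ∀ j, (seq j).1 i ≡ (seq (j + 1)).1 i [SMOD (I ^ j • ⊤ : Submodule A A)] := by
      intro j
      rw [SModEq.sub_mem, smul_eq_mul, Ideal.mul_top]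
      have := hdiff j i
      rw [← neg_sub]
      exact neg_mem (Ideal.pow_le_pow_right (by omega) this)
    have hcau : AdicCompletion.IsAdicCauchy I A (fun j => (seq j).1 i) :=
      (AdicCompletion.isAdicCauchy_iff (I := I) (M := A) _).2 hsucc
    exact IsPrecomplete.prec (I := I) (M := A) inferInstance (fun {m n} h => hcau h)
  choose c hc using hlim
  have hc' : ∀ i j, (seq j).1 i - c i ∈ I ^ j := by
    intro i j
    have := hc i j
    rwa [SModEq.sub_mem, smul_eq_mul, Ideal.mul_top] at this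
  refine ⟨c, fun i => ?_, ?_⟩
  · have h1 := (seq (n + 1)).2.1 i
    have h2 := hc' i (n + 1)
    have : c i = (seq (n + 1)).1 i - ((seq (n + 1)).1 i - c i) := by ring
    rw [this]
    exact Ideal.sub_mem _ h1 h2
  · apply Subtype.ext
    funext k
    let w : L := z - ∑ i, (seq (k + 1)).1 i • e i
    have hw : w.1 (n + (k + 1)) = 0 := by
      simp only [w, Submodule.coe_sub, Pi.sub_apply, Submodule.coe_sum, Submodule.coe_smul,
        Finset.sum_apply, Pi.smul_apply, (seq (k + 1)).2.2, sub_self]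
    have hwk := eq_zero_below M f L hL w _ hw k (by omega)
    have hzk : z.1 k = ∑ i, (seq (k + 1)).1 i • (e i).1 k := by
      simp only [w, Submodule.coe_sub, Pi.sub_apply, Submodule.coe_sum, Submodule.coe_smul,
        Finset.sum_apply, Pi.smul_apply, sub_eq_zero] at hwk
      exact hwk
    simp only [Submodule.coe_sum, Submodule.coe_smul, Finset.sum_apply, Pi.smul_apply]
    rw [hzk]
    refine Finset.sum_congr rfl fun i _ => ?_
    rw [← sub_eq_zero, ← sub_smul]
    have : ((seq (k + 1)).1 i - c i) • (e i).1 k ∈ I ^ (k + 1) • (⊤ : Submodule A (M k)) :=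
      Submodule.smul_mem_smul (hc' i (k + 1)) trivial
    rwa [hk, Submodule.mem_bot] at this

include hL in
theorem main [IsAdicComplete I A] [∀ n, Module.Finite A (M n)]
    (hf : ∀ n, Function.Surjective (f n))
    (hk : ∀ n, I ^ (n + 1) • (⊤ : Submodule A (M n)) = ⊥)
    (hker : ∀ n, LinearMap.ker (f n) = I ^ (n + 1) • (⊤ : Submodule A (M (n + 1)))) :
    Module.Finite A L ∧ ∀ n, Function.Surjective ((LinearMap.proj n).comp L.subtype : L →ₗ[A] M n) ∧
      LinearMap.ker ((LinearMap.proj n).comp L.subtype : L →ₗ[A] M n) =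
        I ^ (n + 1) • (⊤ : Submodule A L) := by
  have hsurj : ∀ n, Function.Surjective ((LinearMap.proj n).comp L.subtype : L →ₗ[A] M n) := by
    intro n m
    obtain ⟨x, hx, hxn⟩ := exists_compat M f hf n m
    exact ⟨⟨x, (hL x).2 hx⟩, hxn⟩
  obtain ⟨r, s, hs⟩ := Module.Finite.exists_fin (R := A) (M := M 0)
  choose e he using fun i => hsurj 0 (s i)
  have he' : ∀ i, (e i).1 0 = s i := he
  have hspan : ∀ n, span A (Set.range fun i => (e i).1 n) = ⊤ := by
    intro n
    induction n with
    | zero =>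
      rw [← hs]
      congr 2
      ext i
      exact he' i
    | succ n ih => exact span_top_succ I M f L hL hker e n ih
  have hgen : ∀ z : L, z ∈ span A (Set.range e) := by
    intro z
    have h0 : z.1 0 ∈ span A (Set.range fun i => (e i).1 0) := by rw [hspan 0]; trivial
    rw [mem_span_range_iff_exists_fun] at h0
    obtain ⟨c, hc⟩ := h0
    obtain ⟨a, -, ha⟩ := key I M f L hL hk hker e hspan 0 (z - ∑ i, c i • e i) (by
      simp only [Submodule.coe_sub, Pi.sub_apply, Submodule.coe_sum, Submodule.coe_smul,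
        Finset.sum_apply, Pi.smul_apply, hc, sub_self])
    have : z = ∑ i, c i • e i + ∑ i, a i • e i := by rw [← ha]; abel
    rw [this]
    exact Submodule.add_mem _
      (Submodule.sum_mem _ fun i _ => Submodule.smul_mem _ _ (subset_span ⟨i, rfl⟩))
      (Submodule.sum_mem _ fun i _ => Submodule.smul_mem _ _ (subset_span ⟨i, rfl⟩))
  refine ⟨⟨(Submodule.fg_def).2 ⟨Set.range e, Set.finite_range e,
    eq_top_iff.2 fun z _ => hgen z⟩⟩, fun n => ⟨hsurj n, ?_⟩⟩
  apply le_antisymm
  · intro z hz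
    rw [LinearMap.mem_ker] at hz
    obtain ⟨a, ha, hza⟩ := key I M f L hL hk hker e hspan n z hz
    rw [hza]
    exact Submodule.sum_mem _ fun i _ => Submodule.smul_mem_smul (ha i) trivial
  · rw [Submodule.smul_le]
    intro a ha z _
    rw [LinearMap.mem_ker]
    have : a • z.1 n ∈ I ^ (n + 1) • (⊤ : Submodule A (M n)) :=
      Submodule.smul_mem_smul ha trivial
    rw [hk, Submodule.mem_bot] at this
    simpa using this

end main

end Groth.Agent.Helper3.FormalSys
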