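import Mathlib
import Groth.Agent.Lib.Helper3.FppfDesc2

/-! An fppf algebra over an arbitrary algebra descends to a finitely presented algebra (S2144). -/

set_option autoImplicit false
universe u
namespace Groth.Agent.Helper3.FppfDesc

open TensorProduct

/-- an fppf algebra over a finite type algebra descends to a finitely presented algebra
surjecting onto it -/
theorem exists_fp_model (R A₁ B₁ : Type u) [CommRing R] [CommRing A₁] [CommRing B₁] [Algebra R A₁]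
    [Algebra.FiniteType R A₁] [Algebra A₁ B₁] [Algebra.FinitePresentation A₁ B₁]
    [Module.FaithfullyFlat A₁ B₁] :
    ∃ (A₀ B₀ : Type u) (_ : CommRing A₀) (_ : CommRing B₀) (_ : Algebra R A₀) (_ : Algebra A₀ A₁)
      (_ : IsScalarTower R A₀ A₁) (_ : Algebra A₀ B₀), Algebra.FinitePresentation R A₀ ∧
      Algebra.FinitePresentation A₀ B₀ ∧ Module.FaithfullyFlat A₀ B₀ ∧
      Function.Surjective (algebraMap A₀ A₁) ∧ Nonempty (B₁ ≃ₐ[A₁] A₁ ⊗[A₀] B₀) := by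
  classical
  obtain ⟨n, f, hf⟩ := Algebra.FiniteType.iff_quotient_mvPolynomial''.mp
    (inferInstance : Algebra.FiniteType R A₁)
  letI : Algebra (MvPolynomial (Fin n) R) A₁ := f.toRingHom.toAlgebra
  haveI : IsScalarTower R (MvPolynomial (Fin n) R) A₁ :=
    IsScalarTower.of_algebraMap_eq (fun r => (f.commutes r).symm)
  have hsurj : Function.Surjective (algebraMap (MvPolynomial (Fin n) R) A₁) := hf
  letI algPB : Algebra (MvPolynomial (Fin n) R) B₁ :=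
    ((algebraMap A₁ B₁).comp (algebraMap (MvPolynomial (Fin n) R) A₁)).toAlgebra
  haveI : IsScalarTower (MvPolynomial (Fin n) R) A₁ B₁ :=
    IsScalarTower.of_algebraMap_eq (fun _ => rfl)
  let Pr := Algebra.Presentation.ofFinitePresentation A₁ B₁
  haveI : Pr.HasCoeffs (MvPolynomial (Fin n) R) := ⟨fun x _ => hsurj x⟩
  let B_P := Pr.ModelOfHasCoeffs (MvPolynomial (Fin n) R)
  let e : A₁ ⊗[MvPolynomial (Fin n) R] B_P ≃ₐ[A₁] B₁ :=
    Pr.tensorModelOfHasCoeffsEquiv (MvPolynomial (Fin n) R)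
  letI := quotAlg (MvPolynomial (Fin n) R) A₁
  haveI := quotAlg_tower (MvPolynomial (Fin n) R) A₁
  haveI : Module.FaithfullyFlat A₁ (A₁ ⊗[MvPolynomial (Fin n) R] B_P) :=
    Module.FaithfullyFlat.of_linearEquiv A₁ B₁ e.toLinearEquiv
  obtain ⟨i, hi⟩ := exists_stage_faithfullyFlat
    (fun i : FGLe (MvPolynomial (Fin n) R) A₁ => MvPolynomial (Fin n) R ⧸ i.1)
    (fun i j h => Ideal.Quotient.factorₐ (MvPolynomial (Fin n) R) (show i.1 ≤ j.1 from h)) A₁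
    (isDirectedColimitRing_quot (MvPolynomial (Fin n) R) A₁ hsurj) (B₀ := B_P)
  haveI : IsScalarTower R (MvPolynomial (Fin n) R ⧸ i.1) A₁ :=
    IsScalarTower.of_algebraMap_eq (fun r => by
      rw [IsScalarTower.algebraMap_apply R (MvPolynomial (Fin n) R) A₁,
        IsScalarTower.algebraMap_apply R (MvPolynomial (Fin n) R) (MvPolynomial (Fin n) R ⧸ i.1),
        ← IsScalarTower.algebraMap_apply (MvPolynomial (Fin n) R) (MvPolynomial (Fin n) R ⧸ i.1) A₁])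
  refine ⟨MvPolynomial (Fin n) R ⧸ i.1, (MvPolynomial (Fin n) R ⧸ i.1) ⊗[MvPolynomial (Fin n) R] B_P,
    inferInstance, inferInstance, inferInstance, inferInstance, inferInstance, inferInstance,
    Algebra.FinitePresentation.quotient i.2.1, inferInstance, hi, ?_, ⟨?_⟩⟩
  · intro a
    obtain ⟨x, rfl⟩ := hsurj a
    exact ⟨Ideal.Quotient.mk _ x, rfl⟩
  · exact e.symm.trans (Algebra.TensorProduct.cancelBaseChange (MvPolynomial (Fin n) R)
      (MvPolynomial (Fin n) R ⧸ i.1) A₁ A₁ B_P).symm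

theorem S2144_main {R A B : Type u} [CommRing R] [CommRing A] [CommRing B] [Algebra R A]
    [Algebra A B] [Algebra.FinitePresentation A B] [Module.FaithfullyFlat A B] :
    ∃ (A₀ B₀ : Type u) (_ : CommRing A₀) (_ : CommRing B₀) (_ : Algebra R A₀) (_ : Algebra A₀ A)
      (_ : IsScalarTower R A₀ A) (_ : Algebra A₀ B₀), Algebra.FinitePresentation R A₀ ∧
      Algebra.FinitePresentation A₀ B₀ ∧ Module.FaithfullyFlat A₀ B₀ ∧
      Nonempty (B ≃ₐ[A] A ⊗[A₀] B₀) := by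
  obtain ⟨A_0, hA_0, B_0, _, _, _, _, hfp, hpush⟩ := exists_algModel R A B
  let e : A ⊗[↥A_0] B_0 ≃ₐ[A] B := Algebra.IsPushout.equiv ↥A_0 A B_0 B
  haveI : Algebra.FiniteType R ↥A_0 := (Subalgebra.fg_iff_finiteType A_0).mp hA_0
  haveI : Module.FaithfullyFlat A (A ⊗[↥A_0] B_0) :=
    Module.FaithfullyFlat.of_linearEquiv A B e.toLinearEquiv
  obtain ⟨i, hi⟩ := exists_stage_faithfullyFlat (fun i : ColimFlat.FGSub ↥A_0 A => ↥i.1)
    (fun i j h => Subalgebra.inclusion (show i.1 ≤ j.1 from h)) A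
    (ColimFlat.isDirectedColimitRing_fgSub ↥A_0 A) (B₀ := B_0)
  haveI := hi
  haveI : Algebra.FiniteType ↥A_0 ↥i.1 := (Subalgebra.fg_iff_finiteType i.1).mp i.2
  haveI : Algebra.FiniteType R ↥i.1 :=
    Algebra.FiniteType.trans (S := ↥A_0) inferInstance inferInstance
  obtain ⟨A₀, B₀, _, _, _, _, _, _, h1, h2, h3, -, ⟨e₁⟩⟩ :=
    exists_fp_model R ↥i.1 (↥i.1 ⊗[↥A_0] B_0)
  letI algA₀A : Algebra A₀ A := ((algebraMap ↥i.1 A).comp (algebraMap A₀ ↥i.1)).toAlgebra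
  haveI : IsScalarTower A₀ ↥i.1 A := IsScalarTower.of_algebraMap_eq (fun _ => rfl)
  haveI : IsScalarTower R A₀ A := IsScalarTower.of_algebraMap_eq (fun r => by
    rw [IsScalarTower.algebraMap_apply A₀ ↥i.1 A, ← IsScalarTower.algebraMap_apply R A₀ ↥i.1]
    rfl)
  refine ⟨A₀, B₀, inferInstance, inferInstance, inferInstance, algA₀A, inferInstance,
    inferInstance, h1, h2, h3, ⟨?_⟩⟩
  -- B ≃ A ⊗[A_0] B_0 ≃ A ⊗[i] (i ⊗[A_0] B_0) ≃ A ⊗[i] (i ⊗[A₀] B₀) ≃ A ⊗[A₀] B₀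
  let e₂ : A ⊗[↥i.1] (↥i.1 ⊗[↥A_0] B_0) ≃ₐ[A] A ⊗[↥A_0] B_0 :=
    Algebra.TensorProduct.cancelBaseChange ↥A_0 ↥i.1 A A B_0
  let e₃ : A ⊗[↥i.1] (↥i.1 ⊗[↥A_0] B_0) ≃ₐ[A] A ⊗[↥i.1] (↥i.1 ⊗[A₀] B₀) :=
    Algebra.TensorProduct.congr (AlgEquiv.refl) e₁
  let e₄ : A ⊗[↥i.1] (↥i.1 ⊗[A₀] B₀) ≃ₐ[A] A ⊗[A₀] B₀ :=
    Algebra.TensorProduct.cancelBaseChange A₀ ↥i.1 A A B₀
  exact e.symm.trans (e₂.symm.trans (e₃.trans e₄))

end Groth.Agent.Helper3.FppfDesc
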