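import Mathlib
import Groth.Agent.Lib.Lead.CMPt2

set_option autoImplicit false
set_option linter.style.haveILetI false

universe w u

open AlgebraicGeometry CategoryTheory CategoryTheory.Limits

namespace Groth.Agent.Helper3.FppfQf

/-- flat, locally finitely presented and locally quasi-finite -/
abbrev Pqf : MorphismProperty Scheme.{u} :=
  (@Flat ⊓ @LocallyOfFinitePresentation) ⊓ @LocallyQuasiFinite

instance : (Pqf.{u}).IsStableUnderBaseChange := by
  unfold Pqf; infer_instance

instance lfpMult : MorphismProperty.IsMultiplicative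
    (@LocallyOfFinitePresentation : MorphismProperty Scheme.{u}) where
  id_mem _ := inferInstance
  comp_mem _ _ hf hg := by
    haveI := hf
    haveI := hg
    infer_instance

instance : MorphismProperty.IsMultiplicative (Pqf.{u}) := by
  unfold Pqf; infer_instance

instance : IsZariskiLocalAtSource (Pqf.{u}) := by
  unfold Pqf; infer_instance

lemma pqf_le : Pqf.{u} ≤ (@Flat ⊓ @LocallyOfFinitePresentation : MorphismProperty Scheme.{u}) :=
  inf_le_left

lemma precoverage_pqf_le_qc : Scheme.precoverage Pqf.{u} ≤ Scheme.qcPrecoverage :=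
  Scheme.precoverage_le_qcPrecoverage_of_isOpenMap fun _ _ f ⟨⟨_, _⟩, _⟩ ↦ f.isOpenMap

/-- every fppf covering family is refined by a quasi-finite fppf covering family -/
theorem fppfPrecoverage_le :
    Scheme.fppfPrecoverage.{u} ≤ (Scheme.propQCTopology Pqf.{u}).toPrecoverage := by
  intro S R hR
  rw [GrothendieckTopology.mem_toPrecoverage_iff]
  have key : ∀ s : S, ∃ (Z : Scheme.{u}) (g : Z ⟶ S), Pqf g ∧ s ∈ Set.range g ∧
      Sieve.generate R g := by
    intro s
    have hR1 := hR.1
    rw [Scheme.jointlySurjectivePrecoverage,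
      Presieve.mem_comap_jointlySurjectivePrecoverage_iff] at hR1
    obtain ⟨Y, f, hf, x, hx⟩ := hR1 s
    have hfP : (@Flat ⊓ @LocallyOfFinitePresentation : MorphismProperty Scheme.{u}) f := hR.2 hf
    haveI : Flat f := hfP.1
    haveI : LocallyOfFinitePresentation f := hfP.2
    obtain ⟨Z, h, hZ, hfl, hfp, hqf, hmem⟩ := Groth.Agent.Lead.CMPt.exists_affine_slice f x
    refine ⟨Z, h ≫ f, ⟨⟨hfl, hfp⟩, hqf⟩, ?_, ⟨Y, h, f, hf, rfl⟩⟩
    have : f x = s := hx
    rw [← this]
    exact hmem
  choose Z g hg hs hgen using key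
  have hmem : Presieve.ofArrows Z g ∈ Scheme.propQCPrecoverage Pqf S := by
    have h1 : Presieve.ofArrows Z g ∈ Scheme.precoverage Pqf S := by
      rw [Scheme.ofArrows_mem_precoverage_iff]
      exact ⟨fun s => ⟨s, hs s⟩, hg⟩
    exact ⟨precoverage_pqf_le_qc _ h1, h1⟩
  refine (Scheme.propQCTopology Pqf).superset_covering ?_
    (Precoverage.generate_mem_toGrothendieck hmem)
  rw [Sieve.generate_le_iff]
  rintro W _ ⟨s⟩
  exact hgen s

theorem fppfTopology_le : Scheme.fppfTopology.{u} ≤ Scheme.propQCTopology Pqf.{u} :=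
  Precoverage.toGrothendieck_le_iff_le_toPrecoverage.mpr fppfPrecoverage_le

theorem propQCTopology_le : Scheme.propQCTopology Pqf.{u} ≤ Scheme.fppfTopology.{u} :=
  Precoverage.toGrothendieck_mono
    (Scheme.propQCPrecoverage_le_precoverage.trans (Scheme.precoverage_mono pqf_le))

theorem fppfTopology_eq : Scheme.fppfTopology.{u} = Scheme.propQCTopology Pqf.{u} :=
  le_antisymm fppfTopology_le propQCTopology_le

theorem S5238_main (F : Scheme.{u}ᵒᵖ ⥤ Type w) :
    Presheaf.IsSheaf Scheme.fppfTopology F ↔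
      Presheaf.IsSheaf Scheme.zariskiTopology F ∧
        ∀ (T S : Scheme.{u}) [IsAffine T] [IsAffine S] (f : T ⟶ S)
          [Flat f] [Surjective f] [LocallyOfFinitePresentation f] [LocallyQuasiFinite f],
          Presieve.IsSheafFor F (Presieve.singleton f) := by
  constructor
  · intro hF
    rw [isSheaf_iff_isSheaf_of_type] at hF ⊢
    refine ⟨Presieve.isSheaf_of_le _
      (Precoverage.toGrothendieck_mono Scheme.zariskiPrecoverage_le_fppfPrecoverage) hF,
      fun T S _ _ f _ _ _ _ => ?_⟩
    apply hF.isSheafFor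
    exact Precoverage.generate_mem_toGrothendieck f.singleton_mem_fppfPrecoverage
  · rintro ⟨hzar, h⟩
    rw [fppfTopology_eq, isSheaf_iff_isSheaf_of_type, isSheaf_type_propQCTopology_iff]
    rw [isSheaf_iff_isSheaf_of_type] at hzar
    refine ⟨hzar, fun {R S} f hf hs => ?_⟩
    haveI : Flat (Spec.map f) := hf.1.1
    haveI : LocallyOfFinitePresentation (Spec.map f) := hf.1.2
    haveI : LocallyQuasiFinite (Spec.map f) := hf.2
    haveI := hs
    exact h _ _ (Spec.map f)

end Groth.Agent.Helper3.FppfQf
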