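import Mathlib
import Groth.Agent.Lib.Helper1.TorL

/-! Freeness of a base-changed finitely presented module over a local ring, read off a
presentation and the residue field (helper3). -/

set_option autoImplicit false
set_option backward.isDefEq.respectTransparency.types false
set_option synthInstance.maxHeartbeats 400000
universe u
namespace Groth.Agent.Helper3.FreeBC

open TensorProduct Function

section Cok

variable {R : Type u} [CommRing R] {K F Y : Type u} [AddCommGroup K] [Module R K]
  [AddCommGroup F] [Module R F] [AddCommGroup Y] [Module R Y]

/-- if the cokernel of an injection into a flat module is flat, the injection stays injective after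
tensoring with any module -/
theorem lTensor_injective_of_flat_cokernel (X : Type u) [AddCommGroup X] [Module R X]
    (j : K →ₗ[R] F) (q : F →ₗ[R] Y) (hj : Injective j) (hq : Surjective q) (hjq : Exact j q)
    [Module.Flat R F] [Module.Flat R Y] : Injective (j.lTensor X) := by
  let p : (X →₀ R) →ₗ[R] X := Finsupp.linearCombination R id
  have hp : Surjective p := Finsupp.linearCombination_id_surjective R X
  let i : LinearMap.ker p →ₗ[R] (X →₀ R) := (LinearMap.ker p).subtype
  have hi : Injective i := Submodule.injective_subtype _
  have hip : Exact i p := LinearMap.exact_subtype_ker_map p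
  have key := Groth.Agent.Helper1.TorL.rTensor_injective_iff_lTensor_injective
    (L := LinearMap.ker p) (G := X →₀ R) (X := X) (K := K) (F := F) (Y := Y)
    i p hi hp hip j q hj hq hjq
  exact key.mp (Module.Flat.rTensor_preserves_injective_linearMap i hi)

end Cok

section Crit

variable {B : Type u} [CommRing B] {K F M : Type u} [AddCommGroup K] [Module B K]
  [AddCommGroup F] [Module B F] [AddCommGroup M] [Module B M]
  (ι : K →ₗ[B] F) (π : F →ₗ[B] M)

/-- naturality of the cancellation isomorphism -/
theorem cancel_natural (R L : Type u) [CommRing R] [CommRing L] [Algebra B R] [Algebra B L]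
    [Algebra R L] [IsScalarTower B R L] (t : L ⊗[R] (R ⊗[B] K)) :
    AlgebraTensorModule.cancelBaseChange B R L L F ((ι.baseChange R).lTensor L t) =
      ι.baseChange L (AlgebraTensorModule.cancelBaseChange B R L L K t) := by
  induction t using TensorProduct.induction_on with
  | zero => simp
  | add x y hx hy => rw [map_add, map_add, map_add, map_add, hx, hy]
  | tmul c s =>
    induction s using TensorProduct.induction_on with
    | zero => simp
    | add x y hx hy => rw [tmul_add, map_add, map_add, map_add, map_add, hx, hy]
    | tmul r x =>
      rw [LinearMap.lTensor_tmul, LinearMap.baseChange_tmul,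
        AlgebraTensorModule.cancelBaseChange_tmul, AlgebraTensorModule.cancelBaseChange_tmul,
        LinearMap.baseChange_tmul]

theorem injective_lTensor_iff (R L : Type u) [CommRing R] [CommRing L] [Algebra B R] [Algebra B L]
    [Algebra R L] [IsScalarTower B R L] :
    Injective ((ι.baseChange R).lTensor L) ↔ Injective (ι.baseChange L) := by
  constructor
  · intro h a b hab
    have h1 : (AlgebraTensorModule.cancelBaseChange B R L L F)
        ((ι.baseChange R).lTensor L ((AlgebraTensorModule.cancelBaseChange B R L L K).symm a)) =
        (AlgebraTensorModule.cancelBaseChange B R L L F)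
        ((ι.baseChange R).lTensor L ((AlgebraTensorModule.cancelBaseChange B R L L K).symm b)) := by
      rw [cancel_natural, cancel_natural, LinearEquiv.apply_symm_apply,
        LinearEquiv.apply_symm_apply, hab]
    have h2 := h ((AlgebraTensorModule.cancelBaseChange B R L L F).injective h1)
    exact (AlgebraTensorModule.cancelBaseChange B R L L K).symm.injective h2
  · intro h a b hab
    have h1 := congrArg (AlgebraTensorModule.cancelBaseChange B R L L F) hab
    rw [cancel_natural, cancel_natural] at h1
    exact (AlgebraTensorModule.cancelBaseChange B R L L K).injective (h h1)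

variable (R : Type u) [CommRing R] [IsLocalRing R] [Algebra B R]

theorem free_of_injective [Module.Finite B K] [Module.Finite B F] [Module.Free B F]
    (hπ : Surjective π) (hex : Exact ι π)
    (h : Injective (ι.baseChange (IsLocalRing.ResidueField R))) :
    Module.Free R (R ⊗[B] M) := by
  have hg : Surjective (π.baseChange R) := by
    rw [LinearMap.baseChange_eq_ltensor]
    exact LinearMap.lTensor_surjective R hπ
  have hexR : Exact (ι.baseChange R) (π.baseChange R) := by
    rw [LinearMap.baseChange_eq_ltensor, LinearMap.baseChange_eq_ltensor]
    exact lTensor_exact R hex hπ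
  have hf : Injective ((ι.baseChange R).lTensor (IsLocalRing.ResidueField R)) :=
    (injective_lTensor_iff ι R (IsLocalRing.ResidueField R)).mpr h
  exact Module.free_of_lTensor_residueField_injective (f := ι.baseChange R)
    (g := π.baseChange R) hg hexR hf

theorem injective_of_free [Module.Flat B F]
    (hπ : Surjective π) (hex : Exact ι π) (hinj : Injective (ι.baseChange R))
    [Module.Free R (R ⊗[B] M)] :
    Injective (ι.baseChange (IsLocalRing.ResidueField R)) := by
  rw [← injective_lTensor_iff ι R (IsLocalRing.ResidueField R)]
  have hg : Surjective (π.baseChange R) := by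
    rw [LinearMap.baseChange_eq_ltensor]
    exact LinearMap.lTensor_surjective R hπ
  have hexR : Exact (ι.baseChange R) (π.baseChange R) := by
    rw [LinearMap.baseChange_eq_ltensor, LinearMap.baseChange_eq_ltensor]
    exact lTensor_exact R hex hπ
  exact lTensor_injective_of_flat_cokernel (IsLocalRing.ResidueField R) (ι.baseChange R)
    (π.baseChange R) hinj hg hexR

end Crit

section Field

variable {B : Type u} [CommRing B] {K F : Type u} [AddCommGroup K] [Module B K]
  [AddCommGroup F] [Module B F] (ι : K →ₗ[B] F)

theorem injective_baseChange_iff_of_field (L L' : Type u) [Field L] [Field L'] [Algebra B L]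
    [Algebra B L'] [Algebra L L'] [IsScalarTower B L L'] :
    Injective (ι.baseChange L') ↔ Injective (ι.baseChange L) := by
  rw [← injective_lTensor_iff ι L L']
  exact Module.FaithfullyFlat.lTensor_injective_iff_injective L L' (ι.baseChange L)

end Field

end Groth.Agent.Helper3.FreeBC
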