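import Mathlib
import Groth.Agent.Lib.Helper3.FreeBC1

/-! Freeness at a point commutes with base change for finitely presented modules flat over the
base: ring level (helper3). -/

set_option autoImplicit false
set_option backward.isDefEq.respectTransparency.types false
set_option synthInstance.maxHeartbeats 400000
universe u
namespace Groth.Agent.Helper3.FreeBC

open TensorProduct Function

section Cok'

variable {R : Type u} [CommRing R] {K F Y : Type u} [AddCommGroup K] [Module R K]
  [AddCommGroup F] [Module R F] [AddCommGroup Y] [Module R Y]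

theorem lTensor_injective_aux (X G : Type u) [AddCommGroup X] [Module R X] [AddCommGroup G]
    [Module R G] [Module.Flat R G] (p : G →ₗ[R] X) (hp : Surjective p)
    (j : K →ₗ[R] F) (q : F →ₗ[R] Y) (hj : Injective j) (hq : Surjective q) (hjq : Exact j q)
    [Module.Flat R Y] : Injective (j.lTensor X) := by
  let i : LinearMap.ker p →ₗ[R] G := (LinearMap.ker p).subtype
  have hi : Injective i := Submodule.injective_subtype _
  have hip : Exact i p := LinearMap.exact_subtype_ker_map p
  refine Groth.Agent.Helper1.TorL.injective_of_three_by_three (R := R)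
    (A1 := LinearMap.ker p ⊗[R] K) (A2 := G ⊗[R] K) (A3 := X ⊗[R] K)
    (B1 := LinearMap.ker p ⊗[R] F) (B2 := G ⊗[R] F) (B3 := X ⊗[R] F)
    (C1 := LinearMap.ker p ⊗[R] Y) (C2 := G ⊗[R] Y)
    (i.rTensor K) (p.rTensor K) (i.rTensor F) (p.rTensor F) (i.rTensor Y)
    (j.lTensor (LinearMap.ker p)) (q.lTensor (LinearMap.ker p))
    (j.lTensor G) (q.lTensor G) (j.lTensor X)
    (LinearMap.rTensor_surjective K hp) (rTensor_exact F hip hp) ?_
    (lTensor_exact (LinearMap.ker p) hjq hq)
    (Module.Flat.lTensor_preserves_injective_linearMap j hj) ?_ ?_ ?_ ?_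
    (Module.Flat.rTensor_preserves_injective_linearMap i hi)
  · intro x
    rw [← LinearMap.comp_apply, ← LinearMap.lTensor_comp]
    have : q ∘ₗ j = 0 := by ext k; exact hjq.apply_apply_eq_zero k
    rw [this, LinearMap.lTensor_zero, LinearMap.zero_apply]
  · intro x
    rw [← LinearMap.comp_apply, ← LinearMap.rTensor_comp]
    have : p ∘ₗ i = 0 := by ext k; exact hip.apply_apply_eq_zero k
    rw [this, LinearMap.rTensor_zero, LinearMap.zero_apply]
  · intro x
    rw [← LinearMap.comp_apply, ← LinearMap.comp_apply, LinearMap.lTensor_comp_rTensor,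
      LinearMap.rTensor_comp_lTensor]
  · intro x
    rw [← LinearMap.comp_apply, ← LinearMap.comp_apply, LinearMap.lTensor_comp_rTensor,
      LinearMap.rTensor_comp_lTensor]
  · intro x
    rw [← LinearMap.comp_apply, ← LinearMap.comp_apply, LinearMap.lTensor_comp_rTensor,
      LinearMap.rTensor_comp_lTensor]

/-- if the cokernel of an injection is flat, the injection stays injective after tensoring with any
module (no flatness of the middle term) -/
theorem lTensor_injective_of_flat_cokernel' (X : Type u) [AddCommGroup X] [Module R X]
    (j : K →ₗ[R] F) (q : F →ₗ[R] Y) (hj : Injective j) (hq : Surjective q) (hjq : Exact j q)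
    [Module.Flat R Y] : Injective (j.lTensor X) :=
  lTensor_injective_aux X (X →₀ R) (Finsupp.linearCombination R id)
    (Finsupp.linearCombination_id_surjective R X) j q hj hq hjq

end Cok'

section Push

variable {A B A' B' : Type u} [CommRing A] [CommRing B] [CommRing A'] [CommRing B']
  [Algebra A B] [Algebra A A'] [Algebra A' B'] [Algebra B B'] [Algebra A B']
  [IsScalarTower A B B'] [IsScalarTower A A' B']
  {K F M : Type u} [AddCommGroup K] [Module B K] [Module A K] [IsScalarTower A B K]
  [AddCommGroup F] [Module B F] [Module A F] [IsScalarTower A B F]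
  [AddCommGroup M] [Module B M] [Module A M] [IsScalarTower A B M]
  (ι : K →ₗ[B] F) (π : F →ₗ[B] M)

theorem injective_baseChange_pushout (hpo : Algebra.IsPushout A B A' B')
    (hι : Injective ι) (hπ : Surjective π) (hex : Exact ι π)
    [Module.Flat A M] : Injective (ι.baseChange B') := by
  haveI : Algebra.IsPushout A A' B B' := Algebra.IsPushout.symm hpo
  have h1 : Injective ((ι.restrictScalars A).lTensor A') :=
    lTensor_injective_of_flat_cokernel' A' (ι.restrictScalars A) (π.restrictScalars A) hι hπ hex
  have hnat : ∀ t : A' ⊗[A] K,
      (Algebra.IsPushout.cancelBaseChange A A' B B' F).symm ((ι.restrictScalars A).lTensor A' t) =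
        ι.baseChange B' ((Algebra.IsPushout.cancelBaseChange A A' B B' K).symm t) := by
    intro t
    induction t using TensorProduct.induction_on with
    | zero => simp
    | add x y hx hy => rw [map_add, map_add, map_add, map_add, hx, hy]
    | tmul s k =>
      rw [LinearMap.lTensor_tmul, Algebra.IsPushout.cancelBaseChange_symm_tmul,
        Algebra.IsPushout.cancelBaseChange_symm_tmul, LinearMap.baseChange_tmul]
      rfl
  intro a b hab
  have h2 : (ι.restrictScalars A).lTensor A' (Algebra.IsPushout.cancelBaseChange A A' B B' K a) =
      (ι.restrictScalars A).lTensor A' (Algebra.IsPushout.cancelBaseChange A A' B B' K b) := by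
    apply (Algebra.IsPushout.cancelBaseChange A A' B B' F).symm.injective
    rw [hnat, hnat, LinearEquiv.symm_apply_apply, LinearEquiv.symm_apply_apply, hab]
  exact (Algebra.IsPushout.cancelBaseChange A A' B B' K).injective (h1 h2)

theorem free_iff_free_baseChange (hpo : Algebra.IsPushout A B A' B')
    (R R' : Type u) [CommRing R] [IsLocalRing R] [CommRing R'] [IsLocalRing R']
    [Algebra B R] [Module.Flat B R] [Algebra B' R'] [Module.Flat B' R'] [Algebra B R']
    [IsScalarTower B B' R'] [Algebra R R'] [IsLocalHom (algebraMap R R')] [IsScalarTower B R R']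
    [Module.Finite B K] [Module.Finite B F] [Module.Free B F]
    (hι : Injective ι) (hπ : Surjective π) (hex : Exact ι π) [Module.Flat A M] :
    Module.Free R (R ⊗[B] M) ↔ Module.Free R' (R' ⊗[B] M) := by
  have hinjR : Injective (ι.baseChange R) := by
    rw [LinearMap.baseChange_eq_ltensor]
    exact Module.Flat.lTensor_preserves_injective_linearMap ι hι
  have hinjB' : Injective (ι.baseChange B') := injective_baseChange_pushout ι π hpo hι hπ hex
  have hinjR' : Injective (ι.baseChange R') :=
    (injective_lTensor_iff ι B' R').mp
      (Module.Flat.lTensor_preserves_injective_linearMap (ι.baseChange B') hinjB')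
  have hfield := injective_baseChange_iff_of_field ι (IsLocalRing.ResidueField R)
    (IsLocalRing.ResidueField R')
  constructor
  · intro h
    exact free_of_injective ι π R' hπ hex (hfield.mpr (injective_of_free ι π R hπ hex hinjR))
  · intro h
    exact free_of_injective ι π R hπ hex (hfield.mp (injective_of_free ι π R' hπ hex hinjR'))

theorem free_iff_free_baseChange_of_fp (hpo : Algebra.IsPushout A B A' B')
    (R R' : Type u) [CommRing R] [IsLocalRing R] [CommRing R'] [IsLocalRing R']
    [Algebra B R] [Module.Flat B R] [Algebra B' R'] [Module.Flat B' R'] [Algebra B R']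
    [IsScalarTower B B' R'] [Algebra R R'] [IsLocalHom (algebraMap R R')] [IsScalarTower B R R']
    [Module.FinitePresentation B M] [Module.Flat A M] :
    Module.Free R (R ⊗[B] M) ↔ Module.Free R' (R' ⊗[B] M) := by
  obtain ⟨s, hs, hfg⟩ := Module.FinitePresentation.out (R := B) (M := M)
  have hπ : Surjective (Finsupp.linearCombination B ((↑) : s → M)) := by
    rw [← LinearMap.range_eq_top, Finsupp.range_linearCombination, Subtype.range_coe_subtype]
    exact hs
  haveI : Module.Finite B (LinearMap.ker (Finsupp.linearCombination B ((↑) : s → M))) :=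
    Module.Finite.iff_fg.mpr hfg
  exact free_iff_free_baseChange (A := A) (A' := A') (B' := B')
    (K := LinearMap.ker (Finsupp.linearCombination B ((↑) : s → M))) (F := s →₀ B)
    (LinearMap.ker (Finsupp.linearCombination B ((↑) : s → M))).subtype
    (Finsupp.linearCombination B ((↑) : s → M)) hpo R R' (Submodule.injective_subtype _) hπ
    (LinearMap.exact_subtype_ker_map _)

end Push

end Groth.Agent.Helper3.FreeBC
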