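import Mathlib
import Groth.Agent.Lib.Helper1.TorL

/-! Flatness over a Milnor (pinching) square, ring level (helper3). -/

set_option autoImplicit false
universe u
namespace Groth.Agent.Helper3.MilnorFlat

open TensorProduct CategoryTheory CategoryTheory.Limits Groth.Agent.Helper1.TorL

section L1

variable {A B : Type u} [CommRing A] [CommRing B] [Algebra A B]

/-- the `A`-linear map `I → I B` -/
def pinchMap (I : Ideal A) : I →ₗ[A] Ideal.map (algebraMap A B) I where
  toFun := fun a => ⟨algebraMap A B a, Ideal.mem_map_of_mem _ a.2⟩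
  map_add' := fun a b => by ext; simp
  map_smul' := fun r a => by ext; simp [Algebra.smul_def]

theorem pinchMap_bijective (I : Ideal A)
    (h1 : RingHom.ker (algebraMap A B) ⊓ I = ⊥)
    (h2 : ∀ a ∈ Ideal.map (algebraMap A B) I, ∃ i ∈ I, algebraMap A B i = a) :
    Function.Bijective (pinchMap (B := B) I) := by
  constructor
  · rw [injective_iff_map_eq_zero]
    intro a ha
    have h3 : algebraMap A B a = 0 := congrArg Subtype.val ha
    have h4 : (a : A) ∈ RingHom.ker (algebraMap A B) ⊓ I := ⟨h3, a.2⟩
    rw [h1] at h4
    exact Subtype.ext h4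
  · rintro ⟨b, hb⟩
    obtain ⟨i, hi, rfl⟩ := h2 b hb
    exact ⟨⟨i, hi⟩, rfl⟩

/-- the `A`-linear equivalence `I ≃ I B` of a pinching square -/
noncomputable def pinchEquiv (I : Ideal A)
    (h1 : RingHom.ker (algebraMap A B) ⊓ I = ⊥)
    (h2 : ∀ a ∈ Ideal.map (algebraMap A B) I, ∃ i ∈ I, algebraMap A B i = a) :
    I ≃ₗ[A] Ideal.map (algebraMap A B) I :=
  LinearEquiv.ofBijective (pinchMap I) (pinchMap_bijective I h1 h2)

@[simp] theorem pinchEquiv_apply_coe (I : Ideal A)
    (h1 : RingHom.ker (algebraMap A B) ⊓ I = ⊥)
    (h2 : ∀ a ∈ Ideal.map (algebraMap A B) I, ∃ i ∈ I, algebraMap A B i = a) (a : I) :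
    ((pinchEquiv I h1 h2 a : Ideal.map (algebraMap A B) I) : B) = algebraMap A B a := rfl

/-- If `I ≃ I B` (pinching condition) and `B ⊗ M` is `B`-flat then `I ⊗ M → M` is injective. -/
theorem rTensor_injective_of_pinch (I : Ideal A)
    (h1 : RingHom.ker (algebraMap A B) ⊓ I = ⊥)
    (h2 : ∀ a ∈ Ideal.map (algebraMap A B) I, ∃ i ∈ I, algebraMap A B i = a)
    (M : Type u) [AddCommGroup M] [Module A M] [Module.Flat B (B ⊗[A] M)] :
    Function.Injective (I.subtype.rTensor M) := by
  let J : Ideal B := Ideal.map (algebraMap A B) I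
  let e0 : I →ₗ[A] J :=
    { toFun := fun a => ⟨algebraMap A B a, Ideal.mem_map_of_mem _ a.2⟩
      map_add' := fun a b => by ext; simp
      map_smul' := fun r a => by ext; simp [Algebra.smul_def] }
  have he0 : Function.Bijective e0 := by
    constructor
    · rw [injective_iff_map_eq_zero]
      intro a ha
      have h3 : algebraMap A B a = 0 := congrArg Subtype.val ha
      have h4 : (a : A) ∈ RingHom.ker (algebraMap A B) ⊓ I := ⟨h3, a.2⟩
      rw [h1] at h4
      exact Subtype.ext h4
    · rintro ⟨b, hb⟩
      obtain ⟨i, hi, rfl⟩ := h2 b hb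
      exact ⟨⟨i, hi⟩, rfl⟩
  let e : I ≃ₗ[A] J := LinearEquiv.ofBijective e0 he0
  let ψ : J ⊗[A] M →ₗ[A] B ⊗[A] M := (J.subtype.restrictScalars A).rTensor M
  have hflat : Function.Injective (J.subtype.rTensor (B ⊗[A] M)) :=
    Module.Flat.rTensor_preserves_injective_linearMap J.subtype J.injective_subtype
  let cJ := AlgebraTensorModule.cancelBaseChange A B B J M
  let cB := AlgebraTensorModule.cancelBaseChange A B B B M
  have hsq : ∀ w, cB (J.subtype.rTensor (B ⊗[A] M) w) = ψ (cJ w) := by
    intro w
    induction w using TensorProduct.induction_on with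
    | zero => simp
    | tmul j y =>
      induction y using TensorProduct.induction_on with
      | zero => simp
      | tmul b m => simp [cJ, cB, ψ]
      | add y y' hy hy' =>
        rw [TensorProduct.tmul_add, map_add, map_add, hy, hy', map_add, map_add]
    | add w w' hw hw' => rw [map_add, map_add, hw, hw', map_add, map_add]
  have hψ : Function.Injective ψ := by
    intro x y hxy
    have hx : cB (J.subtype.rTensor (B ⊗[A] M) (cJ.symm x)) =
        cB (J.subtype.rTensor (B ⊗[A] M) (cJ.symm y)) := by
      rw [hsq, hsq, LinearEquiv.apply_symm_apply, LinearEquiv.apply_symm_apply, hxy]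
    exact cJ.symm.injective (hflat (cB.injective hx))
  have hcomp : ∀ z, (Algebra.linearMap A B).rTensor M (I.subtype.rTensor M z) =
      ψ (e0.rTensor M z) := by
    intro z
    induction z using TensorProduct.induction_on with
    | zero => simp
    | tmul i m => simp [ψ, e0]
    | add z z' hz hz' => rw [map_add, map_add, hz, hz', map_add, map_add]
  have he : Function.Injective (e0.rTensor M) := by
    have : e0.rTensor M = (TensorProduct.congr e (LinearEquiv.refl A M)).toLinearMap := by
      apply TensorProduct.ext'
      intro i m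
      simp [e]
    rw [this]
    exact (TensorProduct.congr e (LinearEquiv.refl A M)).injective
  intro x y hxy
  have := congrArg ((Algebra.linearMap A B).rTensor M) hxy
  rw [hcomp, hcomp] at this
  exact he (hψ this)

end L1

section L2

variable {A : Type u} [CommRing A] (B : Type u) [CommRing B] [Algebra A B]
  (M : Type u) [AddCommGroup M] [Module A M]

theorem isZero_tor_one_of_module_algebra_aux [Module.Flat B (B ⊗[A] M)]
    (h : IsZero (T 1 (ModuleCat.of A B) (ModuleCat.of A M)))
    (K F : Type u) [AddCommGroup K] [Module A K] [AddCommGroup F] [Module A F] [Module.Flat A F]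
    (j : K →ₗ[A] F) (π : F →ₗ[A] M) (hj : Function.Injective j) (hπ : Function.Surjective π)
    (hjq : Function.Exact j π)
    (N : Type u) [AddCommGroup N] [Module A N] [Module B N] [IsScalarTower A B N] :
    IsZero (T 1 (ModuleCat.of A N) (ModuleCat.of A M)) := by
  have h0 := isZero_tor_one_iff_lTensor_injective (K := K) (F := F) j π hj hπ hjq B
  have h1 : Function.Injective (j.lTensor B) := h0.mp h
  have h0' := isZero_tor_one_iff_lTensor_injective (K := K) (F := F) j π hj hπ hjq N
  refine h0'.mpr ?_
  let jA : B ⊗[A] K →ₗ[B] B ⊗[A] F := j.baseChange B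
  let qA : B ⊗[A] F →ₗ[B] B ⊗[A] M := π.baseChange B
  have hjA : Function.Injective jA := h1
  have hqA : Function.Surjective qA := LinearMap.lTensor_surjective B hπ
  have hexA : Function.Exact jA qA := by
    have : Function.Exact (j.lTensor B) (π.lTensor B) := lTensor_exact _ hjq hπ
    exact this
  have h2 : IsZero (T 1 (ModuleCat.of B N) (ModuleCat.of B (B ⊗[A] M))) :=
    isZero_tor_succ_of_flat_right (R := B) (ModuleCat.of B (B ⊗[A] M)) 0 N
  haveI : Module.Flat B (B ⊗[A] F) := inferInstance
  have h0A := isZero_tor_one_iff_lTensor_injective (R := B) (K := B ⊗[A] K)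
    (F := B ⊗[A] F) jA qA hjA hqA hexA N
  have h3 : Function.Injective (jA.lTensor N) := h0A.mp h2
  let eK := TensorProduct.AlgebraTensorModule.cancelBaseChange A B B N K
  let eF := TensorProduct.AlgebraTensorModule.cancelBaseChange A B B N F
  have hsq : ∀ z, eF (jA.lTensor N z) = j.lTensor N (eK z) := by
    intro z
    induction z using TensorProduct.induction_on with
    | zero => simp
    | tmul n y =>
      induction y using TensorProduct.induction_on with
      | zero => simp
      | tmul a k =>
        simp [eF, eK, jA]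
      | add y y' hy hy' =>
        rw [TensorProduct.tmul_add, map_add, map_add, hy, hy', map_add, map_add]
    | add z z' hz hz' => rw [map_add, map_add, hz, hz', map_add, map_add]
  intro x y hxy
  have hx : eF (jA.lTensor N (eK.symm x)) = eF (jA.lTensor N (eK.symm y)) := by
    rw [hsq, hsq, LinearEquiv.apply_symm_apply, LinearEquiv.apply_symm_apply, hxy]
  have := h3 (eF.injective hx)
  exact eK.symm.injective this

/-- If `B ⊗ M` is flat over `B` and `Tor₁(B, M) = 0`, then `Tor₁(N, M) = 0` for every
`B`-module `N`. -/
theorem isZero_tor_one_of_module_algebra [Module.Flat B (B ⊗[A] M)]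
    (h : IsZero (T 1 (ModuleCat.of A B) (ModuleCat.of A M)))
    (N : Type u) [AddCommGroup N] [Module A N] [Module B N] [IsScalarTower A B N] :
    IsZero (T 1 (ModuleCat.of A N) (ModuleCat.of A M)) := by
  exact isZero_tor_one_of_module_algebra_aux B M h
    (LinearMap.ker (Finsupp.linearCombination A (id : M → M))) (M →₀ A)
    (LinearMap.ker (Finsupp.linearCombination A (id : M → M))).subtype
    (Finsupp.linearCombination A (id : M → M)) (Submodule.injective_subtype _)
    (Finsupp.linearCombination_id_surjective A M) (LinearMap.exact_subtype_ker_map _) N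

end L2

end Groth.Agent.Helper3.MilnorFlat
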