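import Mathlib
import Groth.Agent.Lib.Helper3.MilnorFlat1

/-! Flatness over a Milnor (pinching) square, ring level: main theorem (helper3). -/

set_option autoImplicit false
universe u
namespace Groth.Agent.Helper3.MilnorFlat

open TensorProduct CategoryTheory CategoryTheory.Limits Groth.Agent.Helper1.TorL

section L3
variable {R : Type u} [CommRing R]

/-- the kernel of a surjection of flat modules is flat -/
theorem flat_of_exact_of_flat {K F M : Type u} [AddCommGroup K] [Module R K] [AddCommGroup F]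
    [Module R F] [AddCommGroup M] [Module R M] [Module.Flat R F] [Module.Flat R M]
    (j : K →ₗ[R] F) (π : F →ₗ[R] M) (hj : Function.Injective j) (hπ : Function.Surjective π)
    (hjπ : Function.Exact j π) : Module.Flat R K := by
  rw [flat_iff_tor_one_quotient]
  intro I _
  have hS := ModuleCat.shortComplex_shortExact
    (ModuleCat.shortComplexOfCompEqZero j π (by ext x; exact hjπ.apply_apply_eq_zero x)) hjπ hj hπ
  haveI : Module.Flat R ↑(ModuleCat.of R F) := ‹Module.Flat R F›
  haveI : Module.Flat R ↑(ModuleCat.of R M) := ‹Module.Flat R M›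
  exact isZero_tor_X₁ _ hS _ 1 (isZero_tor_succ_of_flat (ModuleCat.of R M) _ 1)
    (isZero_tor_succ_of_flat (ModuleCat.of R F) _ 0)

end L3

section Main

variable {A B : Type u} [CommRing A] [CommRing B] [Algebra A B]

set_option maxHeartbeats 1000000 in
/-- **Flatness over a pinching (Milnor) square**: `M` is flat over `A` as soon as `B ⊗ M` is flat
over `B` and `M / I M` is flat over `A / I`. -/
theorem flat_of_milnor_aux (I : Ideal A)
    (h1 : RingHom.ker (algebraMap A B) ⊓ I = ⊥)
    (h2 : ∀ a ∈ Ideal.map (algebraMap A B) I, ∃ i ∈ I, algebraMap A B i = a)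
    (M : Type u) [AddCommGroup M] [Module A M] [Module.Flat B (B ⊗[A] M)]
    [Module.Flat (A ⧸ I) ((A ⧸ I) ⊗[A] M)]
    (K F : Type u) [AddCommGroup K] [Module A K] [AddCommGroup F] [Module A F] [Module.Flat A F]
    (j : K →ₗ[A] F) (q : F →ₗ[A] M) (hj : Function.Injective j) (hq : Function.Surjective q)
    (hjq : Function.Exact j q) : Module.Flat A M := by
  set Y : ModuleCat.{u} A := ModuleCat.of A M with hY
  have hA1 : ∀ n, IsZero (T (n + 1) (ModuleCat.of A A) Y) := fun n =>
    isZero_tor_succ_of_flat (ModuleCat.of A A) Y n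
  -- `Tor₁(A/I, M) = 0`
  have hI : Function.Injective (I.subtype.rTensor M) := rTensor_injective_of_pinch I h1 h2 M
  have hSI := shortExact_subtype_mkQ (R := A) (M := A) I
  have hC1 : IsZero (T 1 (ModuleCat.of A (A ⧸ I)) Y) :=
    (isZero_tor_one_X₃_iff _ hSI Y (hA1 0)).mpr hI
  -- modules killed by `I`
  have hCmod : ∀ (N : Type u) [AddCommGroup N] [Module A N],
      (∀ a : A, a ∈ I → ∀ x : N, a • x = 0) → IsZero (T 1 (ModuleCat.of A N) Y) := by
    intro N _ _ hN
    exact isZero_tor_one_of_pow_smul_eq_zero I M hC1 1 N (fun a ha x => hN a (by simpa using ha) x)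
  -- `Tor₁(A/𝔨, M) = 0` for `𝔨 = ker (A → B)`
  set 𝔨 : Ideal A := LinearMap.ker (Algebra.linearMap A B) with h𝔨
  have h𝔨' : 𝔨 = RingHom.ker (algebraMap A B) := by
    ext a
    rfl
  have hk : Function.Injective (𝔨.subtype.rTensor M) := by
    refine rTensor_injective_of_pinch (B := A ⧸ I) 𝔨 ?_ ?_ M
    · rw [Ideal.Quotient.algebraMap_eq, Ideal.mk_ker, h𝔨', inf_comm]
      exact h1
    · intro a ha
      rw [Ideal.Quotient.algebraMap_eq] at ha ⊢
      exact (Ideal.mem_map_iff_of_surjective _ Ideal.Quotient.mk_surjective).mp ha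
  have hk1 : IsZero (T 1 (ModuleCat.of A (A ⧸ 𝔨)) Y) :=
    (isZero_tor_one_X₃_iff _ (shortExact_subtype_mkQ (R := A) (M := A) 𝔨) Y (hA1 0)).mpr hk
  -- `Tor₁(B, M) = 0`
  set R₀ : Submodule A B := LinearMap.range (Algebra.linearMap A B) with hR₀
  have hR₀1 : IsZero (T 1 (ModuleCat.of A R₀) Y) :=
    IsZero.of_iso hk1 (torCongrLeft
      ((Algebra.linearMap A B).quotKerEquivRange.symm.toModuleIso) Y 1)
  have hmemJ : ∀ a ∈ I, ∀ b : B, ∃ i ∈ I, algebraMap A B i = a • b := by
    intro a ha b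
    refine h2 _ ?_
    rw [Algebra.smul_def]
    exact Ideal.mul_mem_right _ _ (Ideal.mem_map_of_mem _ ha)
  have hQ1 : IsZero (T 1 (ModuleCat.of A (B ⧸ R₀)) Y) := by
    apply hCmod
    intro a ha x
    obtain ⟨b, rfl⟩ := R₀.mkQ_surjective x
    rw [← map_smul, Submodule.mkQ_apply, Submodule.Quotient.mk_eq_zero]
    obtain ⟨i, -, hi⟩ := hmemJ a ha b
    exact ⟨i, hi⟩
  have hB1 : IsZero (T 1 (ModuleCat.of A B) Y) :=
    isZero_tor_X₂ _ (shortExact_subtype_mkQ R₀) Y 1 hR₀1 hQ1
  -- `B`-modules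
  have hBmod : ∀ (N : Type u) [AddCommGroup N] [Module A N] [Module B N] [IsScalarTower A B N],
      IsZero (T 1 (ModuleCat.of A N) Y) := fun N _ _ _ _ =>
    isZero_tor_one_of_module_algebra B M hB1 N
  -- `Tor₁(I, M) = 0`, `Tor₂(A/I, M) = 0`
  have hI1 : IsZero (T 1 (ModuleCat.of A I) Y) :=
    IsZero.of_iso (hBmod (Ideal.map (algebraMap A B) I))
      (torCongrLeft (pinchEquiv I h1 h2).toModuleIso Y 1)
  have hC2 : IsZero (T 2 (ModuleCat.of A (A ⧸ I)) Y) :=
    isZero_tor_succ_X₃ _ hSI Y 1 (hA1 1) hI1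
  -- the syzygy
  have hshift : ∀ (N : Type u) [AddCommGroup N] [Module A N],
      IsZero (T 2 (ModuleCat.of A N) Y) ↔ IsZero (T 1 (ModuleCat.of A N) (ModuleCat.of A K)) :=
    fun N _ _ => isZero_tor_succ_succ_iff_right j q hj hq hjq 0 N
  have hC1K : IsZero (T 1 (ModuleCat.of A (A ⧸ I)) (ModuleCat.of A K)) := (hshift (A ⧸ I)).mp hC2
  haveI hCK : Module.Flat (A ⧸ I) ((A ⧸ I) ⊗[A] K) := by
    have hinj : Function.Injective (j.lTensor (A ⧸ I)) :=
      (isZero_tor_one_iff_lTensor_injective j q hj hq hjq (A ⧸ I)).mp hC1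
    have hex : Function.Exact (j.lTensor (A ⧸ I)) (q.lTensor (A ⧸ I)) := lTensor_exact _ hjq hq
    exact flat_of_exact_of_flat (R := A ⧸ I) (j.baseChange (A ⧸ I))
      (q.baseChange (A ⧸ I)) hinj (LinearMap.lTensor_surjective (A ⧸ I) hq) hex
  have hCmod2 : ∀ (N : Type u) [AddCommGroup N] [Module A N],
      (∀ a : A, a ∈ I → ∀ x : N, a • x = 0) → IsZero (T 2 (ModuleCat.of A N) Y) := by
    intro N _ _ hN
    exact (hshift N).mpr (isZero_tor_one_of_pow_smul_eq_zero I K hC1K 1 N
      (fun a ha x => hN a (by simpa using ha) x))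
  -- general modules
  have hall : ∀ (N : Type u) [AddCommGroup N] [Module A N], IsZero (T 1 (ModuleCat.of A N) Y) := by
    intro N _ _
    let θ : N →ₗ[A] B ⊗[A] N := TensorProduct.mk A B N 1
    have hker : ∀ a : A, a ∈ I → ∀ x : LinearMap.ker θ, a • x = 0 := by
      intro a ha x
      -- the `A`-linear map `B → A`, `b ↦ e⁻¹ (b f(a))`
      let ν : B →ₗ[A] A :=
        { toFun := fun b => ((pinchEquiv I h1 h2).symm
            ⟨b * algebraMap A B a, Ideal.mul_mem_left _ b (Ideal.mem_map_of_mem _ ha)⟩ : I)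
          map_add' := fun b b' => by
            rw [← Submodule.coe_add, ← map_add]
            congr 2
            ext
            simp [add_mul]
          map_smul' := fun r b => by
            rw [RingHom.id_apply, ← Submodule.coe_smul, ← map_smul]
            congr 2
            ext
            simp [Algebra.smul_def, mul_assoc] }
      have hν1 : ν 1 = a := by
        show (((pinchEquiv I h1 h2).symm
          ⟨1 * algebraMap A B a, Ideal.mul_mem_left _ 1 (Ideal.mem_map_of_mem _ ha)⟩ : I) : A) = a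
        have : (⟨1 * algebraMap A B a, Ideal.mul_mem_left _ 1 (Ideal.mem_map_of_mem _ ha)⟩ :
            Ideal.map (algebraMap A B) I) = pinchEquiv I h1 h2 ⟨a, ha⟩ := by
          ext
          simp
        rw [this, LinearEquiv.symm_apply_apply]
      have hx : θ (x : N) = 0 := x.2
      have h3 : TensorProduct.lid A N (ν.rTensor N (θ (x : N))) = a • (x : N) := by
        show TensorProduct.lid A N (ν.rTensor N ((1 : B) ⊗ₜ[A] (x : N))) = a • (x : N)
        rw [LinearMap.rTensor_tmul, hν1, TensorProduct.lid_tmul]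
      rw [hx, map_zero, map_zero] at h3
      exact Subtype.ext h3.symm
    have hcoker : ∀ a : A, a ∈ I → ∀ x : (B ⊗[A] N) ⧸ LinearMap.range θ, a • x = 0 := by
      intro a ha x
      obtain ⟨z, rfl⟩ := (LinearMap.range θ).mkQ_surjective x
      rw [← map_smul, Submodule.mkQ_apply, Submodule.Quotient.mk_eq_zero]
      induction z using TensorProduct.induction_on with
      | zero => simp
      | tmul b n =>
        obtain ⟨i, -, hi⟩ := hmemJ a ha b
        refine ⟨i • n, ?_⟩
        show (1 : B) ⊗ₜ[A] (i • n) = a • (b ⊗ₜ[A] n)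
        rw [TensorProduct.smul_tmul', ← hi, ← TensorProduct.smul_tmul, Algebra.smul_def, mul_one]
      | add z z' hz hz' =>
        rw [smul_add]
        exact Submodule.add_mem _ hz hz'
    have hR : IsZero (T 1 (ModuleCat.of A (LinearMap.range θ)) Y) :=
      isZero_tor_X₁ _ (shortExact_subtype_mkQ (LinearMap.range θ)) Y 1
        (hCmod2 _ hcoker) (hBmod (B ⊗[A] N))
    have hQ' : IsZero (T 1 (ModuleCat.of A (N ⧸ LinearMap.ker θ)) Y) :=
      IsZero.of_iso hR (torCongrLeft (θ.quotKerEquivRange.toModuleIso) Y 1)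
    exact isZero_tor_X₂ _ (shortExact_subtype_mkQ (LinearMap.ker θ)) Y 1 (hCmod _ hker) hQ'
  rw [Module.Flat.iff_rTensor_injective]
  intro 𝔞 _
  exact (isZero_tor_one_X₃_iff _ (shortExact_subtype_mkQ (R := A) (M := A) 𝔞) Y (hA1 0)).mp
    (hall (A ⧸ 𝔞))

/-- **Flatness over a pinching (Milnor) square**. -/
theorem flat_of_milnor (I : Ideal A)
    (h1 : RingHom.ker (algebraMap A B) ⊓ I = ⊥)
    (h2 : ∀ a ∈ Ideal.map (algebraMap A B) I, ∃ i ∈ I, algebraMap A B i = a)
    (M : Type u) [AddCommGroup M] [Module A M] [Module.Flat B (B ⊗[A] M)]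
    [Module.Flat (A ⧸ I) ((A ⧸ I) ⊗[A] M)] : Module.Flat A M :=
  flat_of_milnor_aux I h1 h2 M
    (LinearMap.ker (Finsupp.linearCombination A (id : M → M))) (M →₀ A)
    (LinearMap.ker (Finsupp.linearCombination A (id : M → M))).subtype
    (Finsupp.linearCombination A (id : M → M)) (Submodule.injective_subtype _)
    (Finsupp.linearCombination_id_surjective A M) (LinearMap.exact_subtype_ker_map _)

end Main

end Groth.Agent.Helper3.MilnorFlat
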