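import Mathlib
import Groth.Agent.Lib.Lead.CIU6
import Groth.Agent.Lib.Lead.PBQc
import Groth.Agent.Lib.Lead.SD1
import Groth.Agent.Lib.Helper1.AffFin
import Groth.Agent.Lib.Helper8.ExtScal
import Groth.Agent.Lib.Helper5.Stalk.Pull
import Groth.Agent.Lib.Helper3.MilnorFlat2

/-! Flatness over a pinching square, scheme level (S14960) (helper3). -/

set_option autoImplicit false
set_option backward.isDefEq.respectTransparency.types false
universe u
namespace Groth.Agent.Helper3.MilnorFlat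

open AlgebraicGeometry CategoryTheory CategoryTheory.Limits TensorProduct
open Scheme.Modules Groth.Agent.Helper1 Groth.Agent.Lead.CIU

section Ring

/-- flatness of `C ⊗ M` over a quotient `C` of `A`, in terms of `A ⧸ ker` -/
theorem flat_quotient_of_surjective {A C : Type u} [CommRing A] [CommRing C] [Algebra A C]
    (hs : Function.Surjective (algebraMap A C)) (M : Type u) [AddCommGroup M] [Module A M]
    [Module.Flat C (C ⊗[A] M)] :
    Module.Flat (A ⧸ RingHom.ker (algebraMap A C)) ((A ⧸ RingHom.ker (algebraMap A C)) ⊗[A] M) := by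
  let e : (A ⧸ RingHom.ker (algebraMap A C)) ≃+* C :=
    RingHom.quotientKerEquivOfSurjective hs
  letI algC : Algebra C (A ⧸ RingHom.ker (algebraMap A C)) := e.symm.toRingHom.toAlgebra
  haveI : IsScalarTower A C (A ⧸ RingHom.ker (algebraMap A C)) := by
    refine IsScalarTower.of_algebraMap_eq (fun a => ?_)
    show Ideal.Quotient.mk _ a = e.symm (algebraMap A C a)
    rw [RingEquiv.eq_symm_apply]
    rfl
  haveI : Module.Flat (A ⧸ RingHom.ker (algebraMap A C))
      ((A ⧸ RingHom.ker (algebraMap A C)) ⊗[C] (C ⊗[A] M)) := inferInstance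
  exact Module.Flat.of_linearEquiv
    (AlgebraTensorModule.cancelBaseChange A C (A ⧸ RingHom.ker (algebraMap A C))
      (A ⧸ RingHom.ker (algebraMap A C)) M).symm

end Ring

section Sch

variable {X Y : Scheme.{u}}

set_option maxHeartbeats 1000000 in
/-- the sections of a flat pullback: the base-changed module of sections is flat -/
theorem flat_tensor_of_isFlat_pullback (f : X ⟶ Y) (G : Y.Modules) [G.IsQuasicoherent]
    (hfl : FlatMod.IsFlat ((Scheme.Modules.pullback f).obj G)) {V : Y.Opens} (hV : IsAffineOpen V)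
    {V' : X.Opens} (hV' : IsAffineOpen V') (hle : V' ≤ f ⁻¹ᵁ V) :
    letI := (f.appLE V V' hle).hom.toAlgebra
    Module.Flat Γ(X, V') (Γ(X, V') ⊗[Γ(Y, V)] Γ(G, V)) := by
  letI := (f.appLE V V' hle).hom.toAlgebra
  have e := Groth.Agent.Lead.PB.restrictPullbackTildeIso f G hV hV' hle
  haveI hq : ((Scheme.Modules.pullback f).obj G).IsQuasicoherent :=
    Groth.Agent.Lead.PB.isQuasicoherent_pullback f G
  have hflat0 : Module.Flat Γ(X, V') Γ((Scheme.Modules.pullback f).obj G, V') :=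
    Groth.Agent.Lead.SD.flat_sections_of_flat_stalks _ hV' (fun z => hfl z.1)
  have hflat1 : Module.Flat Γ(X, V')
      Γ(((Scheme.Modules.pullback f).obj G).restrict hV'.fromSpec, ⊤) :=
    Module.Flat.of_linearEquiv (Groth.Agent.Lead.FLF.sectionsLinearEquiv hV' _)
  set P : ModuleCat.{u} Γ(X, V') := (ModuleCat.extendScalars (f.appLE V V' hle).hom).obj
    (moduleSpecΓFunctor.obj (G.restrict hV.fromSpec)) with hP
  have e1 := ((moduleSpecΓFunctor (R := Γ(X, V'))).mapIso e).toLinearEquiv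
  haveI : IsIso ((tilde.adjunction (R := Γ(X, V'))).unit.app P) := NatIso.isIso_app_of_isIso _ P
  have e2 := (asIso ((tilde.adjunction (R := Γ(X, V'))).unit.app P)).toLinearEquiv
  have h1 : Module.Flat Γ(X, V') P := by
    haveI : Module.Flat Γ(X, V') (moduleSpecΓFunctor.obj
      (((Scheme.Modules.pullback f).obj G).restrict hV'.fromSpec) : ModuleCat.{u} Γ(X, V')) :=
      hflat1
    exact Module.Flat.of_linearEquiv (e1.trans e2.symm).symm
  have h2 : Module.Flat Γ(X, V') (Γ(X, V') ⊗[Γ(Y, V)]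
      (moduleSpecΓFunctor.obj (G.restrict hV.fromSpec) : ModuleCat.{u} Γ(Y, V))) :=
    (Module.Flat.equiv_iff
      (Groth.Agent.Helper8.extScalEquiv (R := Γ(Y, V)) (S := Γ(X, V'))
        (moduleSpecΓFunctor.obj (G.restrict hV.fromSpec)))).1 h1
  exact (Module.Flat.equiv_iff
    (TensorProduct.AlgebraTensorModule.congr (LinearEquiv.refl Γ(X, V') Γ(X, V'))
      (Groth.Agent.Lead.FLF.sectionsLinearEquiv hV G))).1 h2

set_option maxHeartbeats 1000000 in
theorem S14960_main {X X' Y Y' : Scheme.{u}} (f : X ⟶ Y) (u : Y' ⟶ Y) (w : X' ⟶ X) (g : X' ⟶ Y')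
    (hP : IsPullback w g f u) [IsAffineHom f] [IsClosedImmersion u]
    (hM : ∀ V ∈ Y.affineOpens,
      RingHom.ker (f.app V).hom ⊓ RingHom.ker (u.app V).hom = ⊥ ∧
      ∀ a ∈ Ideal.map (f.app V).hom (RingHom.ker (u.app V).hom),
        ∃ i ∈ RingHom.ker (u.app V).hom, (f.app V).hom i = a)
    (G : Y.Modules) [G.IsQuasicoherent] :
    FlatMod.IsFlat G ↔
      FlatMod.IsFlat ((Scheme.Modules.pullback u).obj G) ∧
        FlatMod.IsFlat ((Scheme.Modules.pullback f).obj G) := by
  constructor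
  · intro h
    exact ⟨Groth.Agent.Lib.Helper5.StalkAdj.flatMod_pullback u G h,
      Groth.Agent.Lib.Helper5.StalkAdj.flatMod_pullback f G h⟩
  · rintro ⟨hu, hf⟩
    intro y
    obtain ⟨_, ⟨V, hV, rfl⟩, hyV, -⟩ :=
      Y.isBasis_affineOpens.exists_subset_of_mem_open (Set.mem_univ y) isOpen_univ
    have hfl1 := flat_tensor_of_isFlat_pullback u G hu hV (hV.preimage u) le_rfl
    have hfl2 := flat_tensor_of_isFlat_pullback f G hf hV (hV.preimage f) le_rfl
    obtain ⟨hm1, hm2⟩ := hM V hV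
    letI algB : Algebra Γ(Y, V) Γ(X, f ⁻¹ᵁ V) := (f.appLE V (f ⁻¹ᵁ V) le_rfl).hom.toAlgebra
    letI algB' : Algebra Γ(Y, V) Γ(Y', u ⁻¹ᵁ V) := (u.appLE V (u ⁻¹ᵁ V) le_rfl).hom.toAlgebra
    have halg : algebraMap Γ(Y, V) Γ(X, f ⁻¹ᵁ V) = (f.app V).hom := by
      show (f.appLE V (f ⁻¹ᵁ V) le_rfl).hom = (f.app V).hom
      rw [← Scheme.Hom.app_eq_appLE]
    have halg' : algebraMap Γ(Y, V) Γ(Y', u ⁻¹ᵁ V) = (u.app V).hom := by
      show (u.appLE V (u ⁻¹ᵁ V) le_rfl).hom = (u.app V).hom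
      rw [← Scheme.Hom.app_eq_appLE]
    have hsurj : Function.Surjective (algebraMap Γ(Y, V) Γ(Y', u ⁻¹ᵁ V)) := by
      rw [halg']; exact u.app_surjective V hV
    haveI := hfl1
    haveI := hfl2
    have hQ := flat_quotient_of_surjective (A := Γ(Y, V)) (C := Γ(Y', u ⁻¹ᵁ V)) hsurj Γ(G, V)
    rw [halg'] at hQ
    haveI := hQ
    have hflat : Module.Flat Γ(Y, V) Γ(G, V) :=
      flat_of_milnor (A := Γ(Y, V)) (B := Γ(X, f ⁻¹ᵁ V)) (RingHom.ker (u.app V).hom)
        (by rw [halg]; exact hm1) (by rw [halg]; exact hm2) Γ(G, V)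
    exact Groth.Agent.Lead.SD.flat_stalk_of_flat_sections G hV ⟨y, hyV⟩ hflat

end Sch

end Groth.Agent.Helper3.MilnorFlat
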