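import Mathlib
import Groth.Agent.Lib.Lead.PinchFin
import Groth.Agent.Lib.Helper3.MilnorFlat2

/-! Finite projective modules over a pinching square, ring level (helper3). -/

set_option autoImplicit false
universe u
namespace Groth.Agent.Helper3.MilnorFlat

open TensorProduct CategoryTheory CategoryTheory.Limits Groth.Agent.Helper1.TorL

section Ring

/-- for flat `M` with a finite free presentation `π`, the base change of `ker π` to `B` is finite
as soon as `B ⊗ M` is finite projective -/
theorem finite_baseChange_ker {A : Type u} [CommRing A] (B : Type u) [CommRing B] [Algebra A B]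
    {M : Type u} [AddCommGroup M] [Module A M] [Module.Flat A M] {n : ℕ}
    (π : (Fin n → A) →ₗ[A] M) (hπ : Function.Surjective π)
    [Module.Finite B (B ⊗[A] M)] [Module.Projective B (B ⊗[A] M)] :
    Module.Finite B (B ⊗[A] (LinearMap.ker π)) := by
  have hj : Function.Injective (LinearMap.ker π).subtype := Submodule.injective_subtype _
  have hjq : Function.Exact (LinearMap.ker π).subtype π := LinearMap.exact_subtype_ker_map _
  haveI : Module.Flat A ↑(ModuleCat.of A M) := ‹Module.Flat A M›
  have hinj : Function.Injective ((LinearMap.ker π).subtype.lTensor B) :=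
    (isZero_tor_one_iff_lTensor_injective (LinearMap.ker π).subtype π hj hπ hjq B).mp
      (isZero_tor_succ_of_flat_right (ModuleCat.of A M) 0 B)
  have hex : Function.Exact ((LinearMap.ker π).subtype.lTensor B) (π.lTensor B) :=
    lTensor_exact _ hjq hπ
  let jB : B ⊗[A] (LinearMap.ker π) →ₗ[B] B ⊗[A] (Fin n → A) :=
    (LinearMap.ker π).subtype.baseChange B
  let πB : B ⊗[A] (Fin n → A) →ₗ[B] B ⊗[A] M := π.baseChange B
  have hπB : Function.Surjective πB := LinearMap.lTensor_surjective B hπ
  haveI : Module.FinitePresentation B (B ⊗[A] M) := Module.finitePresentation_of_projective _ _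
  have hfg : (LinearMap.ker πB).FG := Module.FinitePresentation.fg_ker πB hπB
  have hker : LinearMap.ker πB = LinearMap.range jB := by
    ext z
    rw [LinearMap.mem_ker, LinearMap.mem_range]
    exact hex z
  rw [hker] at hfg
  haveI : Module.Finite B ↥(LinearMap.range jB) := Module.Finite.iff_fg.mpr hfg
  exact Module.Finite.equiv (LinearEquiv.ofInjective jB hinj).symm

variable {A B : Type u} [CommRing A] [CommRing B] [Algebra A B]

/-- **Finite projective modules over a pinching square.** -/
theorem finite_projective_of_milnor (I : Ideal A)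
    (h1 : RingHom.ker (algebraMap A B) ⊓ I = ⊥)
    (h2 : ∀ a ∈ Ideal.map (algebraMap A B) I, ∃ i ∈ I, algebraMap A B i = a)
    (M : Type u) [AddCommGroup M] [Module A M]
    [Module.Finite B (B ⊗[A] M)] [Module.Projective B (B ⊗[A] M)]
    [Module.Finite (A ⧸ I) ((A ⧸ I) ⊗[A] M)] [Module.Projective (A ⧸ I) ((A ⧸ I) ⊗[A] M)] :
    Module.Finite A M ∧ Module.Projective A M := by
  have hfin_of : ∀ (N : Type u) [AddCommGroup N] [Module A N], Module.Finite B (B ⊗[A] N) →
      Module.Finite (A ⧸ I) ((A ⧸ I) ⊗[A] N) → Module.Finite A N := by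
    intro N _ _ hB hC
    haveI : Module.Finite A ((A ⧸ I) ⊗[A] N) := Module.Finite.trans (A ⧸ I) _
    have hQ : Module.Finite A (N ⧸ (I • (⊤ : Submodule A N))) :=
      Module.Finite.equiv (TensorProduct.quotTensorEquivQuotSMul N I)
    exact Groth.Agent.Lead.PinchAlg.finite_of_pinch I h1 h2 hQ hB
  haveI hMfin : Module.Finite A M := hfin_of M inferInstance inferInstance
  haveI hMflat : Module.Flat A M := flat_of_milnor I h1 h2 M
  obtain ⟨n, π, hπ⟩ := Module.Finite.exists_fin' A M
  have hKfin : Module.Finite A (LinearMap.ker π) :=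
    hfin_of _ (finite_baseChange_ker B π hπ) (finite_baseChange_ker (A ⧸ I) π hπ)
  haveI : Module.FinitePresentation A M :=
    Module.finitePresentation_of_surjective π hπ (Module.Finite.iff_fg.mp hKfin)
  exact ⟨hMfin, Module.Flat.projective_of_finitePresentation⟩

end Ring

end Groth.Agent.Helper3.MilnorFlat
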