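import Mathlib
import Groth.Agent.Lib.Lead.FLF4
import Groth.Agent.Lib.Helper5.Perf.Pull
import Groth.Agent.Lib.Helper3.MilnorFlat3
import Groth.Agent.Lib.Helper3.MilnorFlat4

/-! Finite locally free modules over a pinching square, scheme level (S14961) (helper3). -/

set_option autoImplicit false
set_option backward.isDefEq.respectTransparency.types false
universe u
namespace Groth.Agent.Helper3.MilnorFlat

open AlgebraicGeometry CategoryTheory CategoryTheory.Limits TensorProduct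
open Scheme.Modules Groth.Agent.Helper1 Groth.Agent.Lead.CIU

section Ring

/-- finite projectivity of `C ⊗ M` over a quotient `C` of `A`, in terms of `A ⧸ ker` -/
theorem finite_projective_quotient_of_surjective {A C : Type u} [CommRing A] [CommRing C]
    [Algebra A C] (hs : Function.Surjective (algebraMap A C)) (M : Type u) [AddCommGroup M]
    [Module A M] [Module.Finite C (C ⊗[A] M)] [Module.Projective C (C ⊗[A] M)] :
    Module.Finite (A ⧸ RingHom.ker (algebraMap A C))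
        ((A ⧸ RingHom.ker (algebraMap A C)) ⊗[A] M) ∧
      Module.Projective (A ⧸ RingHom.ker (algebraMap A C))
        ((A ⧸ RingHom.ker (algebraMap A C)) ⊗[A] M) := by
  let e : (A ⧸ RingHom.ker (algebraMap A C)) ≃+* C :=
    RingHom.quotientKerEquivOfSurjective hs
  letI algC : Algebra C (A ⧸ RingHom.ker (algebraMap A C)) := e.symm.toRingHom.toAlgebra
  haveI : IsScalarTower A C (A ⧸ RingHom.ker (algebraMap A C)) := by
    refine IsScalarTower.of_algebraMap_eq (fun a => ?_)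
    show Ideal.Quotient.mk _ a = e.symm (algebraMap A C a)
    rw [RingEquiv.eq_symm_apply]
    rfl
  haveI : Module.Finite (A ⧸ RingHom.ker (algebraMap A C))
      ((A ⧸ RingHom.ker (algebraMap A C)) ⊗[C] (C ⊗[A] M)) := inferInstance
  haveI : Module.Projective (A ⧸ RingHom.ker (algebraMap A C))
      ((A ⧸ RingHom.ker (algebraMap A C)) ⊗[C] (C ⊗[A] M)) := inferInstance
  exact ⟨Module.Finite.equiv
    (AlgebraTensorModule.cancelBaseChange A C (A ⧸ RingHom.ker (algebraMap A C))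
      (A ⧸ RingHom.ker (algebraMap A C)) M),
    Module.Projective.of_equiv
    (AlgebraTensorModule.cancelBaseChange A C (A ⧸ RingHom.ker (algebraMap A C))
      (A ⧸ RingHom.ker (algebraMap A C)) M)⟩

end Ring

section Sch

variable {X Y : Scheme.{u}}

set_option maxHeartbeats 1000000 in
/-- sections of a pullback over an affine open are the base change of the sections -/
theorem nonempty_sectionsPullbackEquiv (f : X ⟶ Y) (G : Y.Modules) [G.IsQuasicoherent]
    {V : Y.Opens} (hV : IsAffineOpen V)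
    {V' : X.Opens} (hV' : IsAffineOpen V') (hle : V' ≤ f ⁻¹ᵁ V) :
    letI := (f.appLE V V' hle).hom.toAlgebra
    Nonempty (Γ((Scheme.Modules.pullback f).obj G, V') ≃ₗ[Γ(X, V')]
      (Γ(X, V') ⊗[Γ(Y, V)] Γ(G, V))) := by
  letI := (f.appLE V V' hle).hom.toAlgebra
  have e := Groth.Agent.Lead.PB.restrictPullbackTildeIso f G hV hV' hle
  haveI hq : ((Scheme.Modules.pullback f).obj G).IsQuasicoherent :=
    Groth.Agent.Lead.PB.isQuasicoherent_pullback f G
  have e0 := Groth.Agent.Lead.FLF.sectionsLinearEquiv hV' ((Scheme.Modules.pullback f).obj G)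
  set P : ModuleCat.{u} Γ(X, V') := (ModuleCat.extendScalars (f.appLE V V' hle).hom).obj
    (moduleSpecΓFunctor.obj (G.restrict hV.fromSpec)) with hP
  have e1 := ((moduleSpecΓFunctor (R := Γ(X, V'))).mapIso e).toLinearEquiv
  haveI : IsIso ((tilde.adjunction (R := Γ(X, V'))).unit.app P) := NatIso.isIso_app_of_isIso _ P
  have e2 := (asIso ((tilde.adjunction (R := Γ(X, V'))).unit.app P)).toLinearEquiv
  have e3 := Groth.Agent.Helper8.extScalEquiv (R := Γ(Y, V)) (S := Γ(X, V'))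
        (moduleSpecΓFunctor.obj (G.restrict hV.fromSpec))
  have e4 := TensorProduct.AlgebraTensorModule.congr (LinearEquiv.refl Γ(X, V') Γ(X, V'))
      (Groth.Agent.Lead.FLF.sectionsLinearEquiv hV G)
  exact ⟨e0.symm.trans ((e1.trans e2.symm).trans (e3.trans e4))⟩

set_option maxHeartbeats 1000000 in
theorem S14961_main {X X' Y Y' : Scheme.{u}} (f : X ⟶ Y) (u : Y' ⟶ Y) (w : X' ⟶ X) (g : X' ⟶ Y')
    (hP : IsPullback w g f u) [IsAffineHom f] [IsClosedImmersion u]
    (hM : ∀ V ∈ Y.affineOpens,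
      RingHom.ker (f.app V).hom ⊓ RingHom.ker (u.app V).hom = ⊥ ∧
      ∀ a ∈ Ideal.map (f.app V).hom (RingHom.ker (u.app V).hom),
        ∃ i ∈ RingHom.ker (u.app V).hom, (f.app V).hom i = a)
    (G : Y.Modules) [G.IsQuasicoherent] :
    FlatMod.IsFinLocFree G ↔
      FlatMod.IsFinLocFree ((Scheme.Modules.pullback u).obj G) ∧
        FlatMod.IsFinLocFree ((Scheme.Modules.pullback f).obj G) := by
  constructor
  · intro h
    exact ⟨Groth.Agent.Lib.Helper5.PerfPull.isFinLocFree_pullback u G h,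
      Groth.Agent.Lib.Helper5.PerfPull.isFinLocFree_pullback f G h⟩
  · rintro ⟨hu, hf⟩
    haveI hqu : ((Scheme.Modules.pullback u).obj G).IsQuasicoherent :=
      Groth.Agent.Lead.PB.isQuasicoherent_pullback u G
    haveI hqf : ((Scheme.Modules.pullback f).obj G).IsQuasicoherent :=
      Groth.Agent.Lead.PB.isQuasicoherent_pullback f G
    rw [Groth.Agent.Lead.FLF.isFinLocFree_iff_affineOpens] at hu hf ⊢
    intro V hV
    obtain ⟨hu1, hu2⟩ := hu (u ⁻¹ᵁ V) (hV.preimage u)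
    obtain ⟨hf1, hf2⟩ := hf (f ⁻¹ᵁ V) (hV.preimage f)
    obtain ⟨eu⟩ := nonempty_sectionsPullbackEquiv u G hV (hV.preimage u) le_rfl
    obtain ⟨ef⟩ := nonempty_sectionsPullbackEquiv f G hV (hV.preimage f) le_rfl
    obtain ⟨hm1, hm2⟩ := hM V hV
    letI algB : Algebra Γ(Y, V) Γ(X, f ⁻¹ᵁ V) := (f.appLE V (f ⁻¹ᵁ V) le_rfl).hom.toAlgebra
    letI algB' : Algebra Γ(Y, V) Γ(Y', u ⁻¹ᵁ V) := (u.appLE V (u ⁻¹ᵁ V) le_rfl).hom.toAlgebra
    have halg : algebraMap Γ(Y, V) Γ(X, f ⁻¹ᵁ V) = (f.app V).hom := by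
      show (f.appLE V (f ⁻¹ᵁ V) le_rfl).hom = (f.app V).hom
      rw [← Scheme.Hom.app_eq_appLE]
    have halg' : algebraMap Γ(Y, V) Γ(Y', u ⁻¹ᵁ V) = (u.app V).hom := by
      show (u.appLE V (u ⁻¹ᵁ V) le_rfl).hom = (u.app V).hom
      rw [← Scheme.Hom.app_eq_appLE]
    have hsurj : Function.Surjective (algebraMap Γ(Y, V) Γ(Y', u ⁻¹ᵁ V)) := by
      rw [halg']; exact u.app_surjective V hV
    haveI : Module.Finite Γ(X, f ⁻¹ᵁ V) (Γ(X, f ⁻¹ᵁ V) ⊗[Γ(Y, V)] Γ(G, V)) :=
      Module.Finite.equiv ef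
    haveI : Module.Projective Γ(X, f ⁻¹ᵁ V) (Γ(X, f ⁻¹ᵁ V) ⊗[Γ(Y, V)] Γ(G, V)) :=
      Module.Projective.of_equiv ef
    haveI : Module.Finite Γ(Y', u ⁻¹ᵁ V) (Γ(Y', u ⁻¹ᵁ V) ⊗[Γ(Y, V)] Γ(G, V)) :=
      Module.Finite.equiv eu
    haveI : Module.Projective Γ(Y', u ⁻¹ᵁ V) (Γ(Y', u ⁻¹ᵁ V) ⊗[Γ(Y, V)] Γ(G, V)) :=
      Module.Projective.of_equiv eu
    have hQ := finite_projective_quotient_of_surjective (A := Γ(Y, V)) (C := Γ(Y', u ⁻¹ᵁ V))
      hsurj Γ(G, V)
    rw [halg'] at hQ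
    haveI := hQ.1
    haveI := hQ.2
    exact finite_projective_of_milnor (A := Γ(Y, V)) (B := Γ(X, f ⁻¹ᵁ V))
      (RingHom.ker (u.app V).hom)
      (by rw [halg]; exact hm1) (by rw [halg]; exact hm2) Γ(G, V)

end Sch

end Groth.Agent.Helper3.MilnorFlat
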