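import Mathlib
import Groth.Prelude.Def_FlatMod2
import Groth.Prelude.Def_CohB1
import Groth.Agent.Lib.Helper3.FreeBC2
import Groth.Agent.Lib.Helper3.MilnorFlat5
import Groth.Agent.Lib.Helper3.RelFPS6
import Groth.Agent.Lib.Lead.FO1
import Groth.Agent.Lib.Lead.FP2

/-! The free locus of a finitely presented module flat over the base commutes with base change:
scheme level (S9769) (helper3). -/

set_option autoImplicit false
set_option backward.isDefEq.respectTransparency.types false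
set_option synthInstance.maxHeartbeats 400000
universe u
namespace Groth.Agent.Helper3.FreeBC

open AlgebraicGeometry CategoryTheory Limits TensorProduct Groth.Agent.Lead.SD

section Stalk

variable {X : Scheme.{u}} (F : X.Modules) [F.IsQuasicoherent] {U : X.Opens}
  (hU : IsAffineOpen U) (x : U)

attribute [local instance] Groth.Agent.Lead.SD.stalkModule

include hU in
theorem free_stalk_iff :
    Module.Free (X.presheaf.stalk x.1) (F.presheaf.stalk x.1) ↔
      Module.Free (X.presheaf.stalk x.1) ((X.presheaf.stalk x.1) ⊗[Γ(X, U)] Γ(F, U)) := by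
  haveI := isLocalizedModule_germ F hU x
  haveI := hU.isLocalization_stalk x
  have hbc : IsBaseChange (X.presheaf.stalk x.1) (germₗ F x) :=
    IsLocalizedModule.isBaseChange (hU.primeIdealOf x).asIdeal.primeCompl
      (X.presheaf.stalk x.1) (germₗ F x)
  exact ⟨fun h => Module.Free.of_equiv hbc.equiv.symm, fun h => Module.Free.of_equiv hbc.equiv⟩

end Stalk

section Main

variable {X S X' S' : Scheme.{u}}

open Groth.Agent.Helper3.RelFPS Groth.Agent.Helper3.MilnorFlat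

set_option maxHeartbeats 2000000 in
theorem free_iff_of_pullback (f : X ⟶ S) (F : X.Modules) [F.IsQuasicoherent]
    (hFP : ∀ U : X.Opens, IsAffineOpen U → Module.FinitePresentation Γ(X, U) Γ(F, U))
    (hfl : FlatMod.IsFlatOver f F)
    (g : S' ⟶ S) (f' : X' ⟶ S') (g' : X' ⟶ X) (hc : IsPullback g' f' f g) (x' : X') :
    Module.Free (X'.presheaf.stalk x')
        (((Scheme.Modules.pullback g').obj F).presheaf.stalk x') ↔
      Module.Free (X.presheaf.stalk (g' x')) (F.presheaf.stalk (g' x')) := by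
  obtain ⟨_, ⟨V, hV, rfl⟩, hxV, -⟩ := S.isBasis_affineOpens.exists_subset_of_mem_open
    (Set.mem_univ (f (g' x'))) isOpen_univ
  have hw : g (f' x') = f (g' x') := by
    rw [← Scheme.Hom.comp_apply, ← Scheme.Hom.comp_apply, hc.w]
  have hxgV : f' x' ∈ g ⁻¹ᵁ V := by
    show g (f' x') ∈ V
    rw [hw]; exact hxV
  obtain ⟨_, ⟨V', hV', rfl⟩, hxV', eV'V⟩ := S'.isBasis_affineOpens.exists_subset_of_mem_open
    hxgV (g ⁻¹ᵁ V).2
  have hxfV : g' x' ∈ f ⁻¹ᵁ V := hxV
  obtain ⟨_, ⟨U, hU, rfl⟩, hxU, eUV⟩ := X.isBasis_affineOpens.exists_subset_of_mem_open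
    hxfV (f ⁻¹ᵁ V).2
  obtain ⟨hU', hpo⟩ := affine_pushout_chart hc hV hU hV' eUV eV'V
  set U' : X'.Opens := g' ⁻¹ᵁ U ⊓ f' ⁻¹ᵁ V' with hU'def
  have hxU' : x' ∈ U' := ⟨hxU, hxV'⟩
  have eU'U : U' ≤ g' ⁻¹ᵁ U := inf_le_left
  have eU'V' : U' ≤ f' ⁻¹ᵁ V' := inf_le_right
  letI a1 : Algebra Γ(S, V) Γ(X, U) := (f.appLE V U eUV).hom.toAlgebra
  letI a2 : Algebra Γ(S, V) Γ(S', V') := (g.appLE V V' eV'V).hom.toAlgebra
  letI a3 : Algebra Γ(S', V') Γ(X', U') := (f'.appLE V' U' eU'V').hom.toAlgebra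
  letI a4 : Algebra Γ(X, U) Γ(X', U') := (g'.appLE U U' eU'U).hom.toAlgebra
  letI a5 : Algebra Γ(S, V) Γ(X', U') :=
    ((f'.appLE V' U' eU'V').hom.comp (g.appLE V V' eV'V).hom).toAlgebra
  haveI : IsScalarTower Γ(S, V) Γ(S', V') Γ(X', U') :=
    IsScalarTower.of_algebraMap_eq (fun _ => rfl)
  haveI : IsScalarTower Γ(S, V) Γ(X, U) Γ(X', U') :=
    IsScalarTower.of_algebraMap_eq (fun x => by
      have := congrArg (fun φ => φ.hom x) hpo.w
      exact this.symm)
  have hpo' : Algebra.IsPushout Γ(S, V) Γ(X, U) Γ(S', V') Γ(X', U') :=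
    CommRingCat.isPushout_iff_isPushout.1 hpo
  letI aBR : Algebra Γ(X, U) (X.presheaf.stalk (g' x')) :=
    (X.presheaf.germ U (g' x') hxU).hom.toAlgebra
  letI aB'R' : Algebra Γ(X', U') (X'.presheaf.stalk x') :=
    (X'.presheaf.germ U' x' hxU').hom.toAlgebra
  letI aRR' : Algebra (X.presheaf.stalk (g' x')) (X'.presheaf.stalk x') :=
    (g'.stalkMap x').hom.toAlgebra
  letI aBR' : Algebra Γ(X, U) (X'.presheaf.stalk x') :=
    ((X'.presheaf.germ U' x' hxU').hom.comp (g'.appLE U U' eU'U).hom).toAlgebra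
  haveI : IsScalarTower Γ(X, U) Γ(X', U') (X'.presheaf.stalk x') :=
    IsScalarTower.of_algebraMap_eq (fun _ => rfl)
  haveI : IsScalarTower Γ(X, U) (X.presheaf.stalk (g' x')) (X'.presheaf.stalk x') :=
    IsScalarTower.of_algebraMap_eq (R := Γ(X, U)) (S := X.presheaf.stalk (g' x'))
      (A := X'.presheaf.stalk x') (fun b =>
        (Groth.Agent.Lead.FO.stalkMap_germ_eq g' eU'U ⟨x', hxU'⟩ b).symm)
  haveI : IsLocalHom (algebraMap (X.presheaf.stalk (g' x')) (X'.presheaf.stalk x')) :=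
    inferInstanceAs (IsLocalHom (g'.stalkMap x').hom)
  haveI loc1 : IsLocalization.AtPrime (X.presheaf.stalk (g' x'))
      (hU.primeIdealOf ⟨g' x', hxU⟩).asIdeal := hU.isLocalization_stalk ⟨g' x', hxU⟩
  haveI loc2 : IsLocalization.AtPrime (X'.presheaf.stalk x')
      (hU'.primeIdealOf ⟨x', hxU'⟩).asIdeal := hU'.isLocalization_stalk ⟨x', hxU'⟩
  haveI : Module.Flat Γ(X, U) (X.presheaf.stalk (g' x')) :=
    IsLocalization.flat _ (hU.primeIdealOf ⟨g' x', hxU⟩).asIdeal.primeCompl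
  haveI : Module.Flat Γ(X', U') (X'.presheaf.stalk x') :=
    IsLocalization.flat _ (hU'.primeIdealOf ⟨x', hxU'⟩).asIdeal.primeCompl
  letI mA : Module Γ(S, V) Γ(F, U) := Module.compHom _ (f.appLE V U eUV).hom
  haveI : IsScalarTower Γ(S, V) Γ(X, U) Γ(F, U) :=
    IsScalarTower.of_algebraMap_smul fun r m => rfl
  haveI : Module.Flat Γ(S, V) Γ(F, U) :=
    Groth.Agent.Lead.FO.flat_sectionsOver_of_isFlatOverAt f F hU hV eUV (fun z => hfl z.1)
  haveI : Module.FinitePresentation Γ(X, U) Γ(F, U) := hFP U hU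
  have key := free_iff_free_baseChange_of_fp (A := Γ(S, V)) (B := Γ(X, U)) (A' := Γ(S', V'))
    (B' := Γ(X', U')) (M := Γ(F, U)) hpo' (X.presheaf.stalk (g' x')) (X'.presheaf.stalk x')
  have h1 := free_stalk_iff F hU ⟨g' x', hxU⟩
  haveI hq : ((Scheme.Modules.pullback g').obj F).IsQuasicoherent :=
    Groth.Agent.Lead.PB.isQuasicoherent_pullback g' F
  have h2 := free_stalk_iff ((Scheme.Modules.pullback g').obj F) hU' ⟨x', hxU'⟩
  obtain ⟨e⟩ := nonempty_sectionsPullbackEquiv g' F hU hU' eU'U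
  let e' : (X'.presheaf.stalk x') ⊗[Γ(X', U')] Γ((Scheme.Modules.pullback g').obj F, U') ≃ₗ[
      X'.presheaf.stalk x'] (X'.presheaf.stalk x') ⊗[Γ(X, U)] Γ(F, U) :=
    (AlgebraTensorModule.congr (LinearEquiv.refl (X'.presheaf.stalk x') (X'.presheaf.stalk x')) e)
      ≪≫ₗ AlgebraTensorModule.cancelBaseChange Γ(X, U) Γ(X', U') (X'.presheaf.stalk x')
        (X'.presheaf.stalk x') Γ(F, U)
  have h3 : Module.Free (X'.presheaf.stalk x')
      ((X'.presheaf.stalk x') ⊗[Γ(X', U')] Γ((Scheme.Modules.pullback g').obj F, U')) ↔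
      Module.Free (X'.presheaf.stalk x') ((X'.presheaf.stalk x') ⊗[Γ(X, U)] Γ(F, U)) :=
    ⟨fun h => Module.Free.of_equiv e', fun h => Module.Free.of_equiv e'.symm⟩
  exact (h2.trans h3).trans (key.symm.trans h1.symm)

theorem S9769_main (f : X ⟶ S) [LocallyOfFinitePresentation f]
    (F : X.Modules) (hF : CohB1.IsFP F) (hfl : FlatMod.IsFlatOver f F)
    (g : S' ⟶ S) (f' : X' ⟶ S') (g' : X' ⟶ X) (hc : IsPullback g' f' f g) :
    {x' : ↑X' | Module.Free ↑(X'.presheaf.stalk x')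
        ↑(((Scheme.Modules.pullback g').obj F).presheaf.stalk x')} =
      g' ⁻¹' {x : ↑X | Module.Free ↑(X.presheaf.stalk x) ↑(F.presheaf.stalk x)} := by
  haveI : SheafOfModules.IsFinitePresentation (R := X.ringCatSheaf) F := hF
  haveI : F.IsQuasicoherent := inferInstance
  ext x'
  exact free_iff_of_pullback f F (fun U hU => Groth.Agent.Lead.FP.fp_sections_of_isFP F hF hU)
    hfl g f' g' hc x'

end Main

end Groth.Agent.Helper3.FreeBC
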