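import Mathlib
import Groth.Prelude.Def_Fitting
import Groth.Agent.Lib.Helper4.Fitting10

/-!
# A finite module isomorphic to its Frobenius pullback is free (S0337)
-/

set_option autoImplicit false
universe u

namespace Groth.Agent.Helper3.FrobFree

open CategoryTheory TensorProduct Groth.Agent.Helper4.Fitting IsLocalRing

variable (p : ℕ) [hp : Fact p.Prime] (R : Type u) [CommRing R] [IsLocalRing R]
  [IsNoetherianRing R] [CharP R p]

/-- an ideal equal to its Frobenius power is `⊥` or `⊤` -/
theorem eq_bot_or_top_of_eq_map_frobenius (J : Ideal R) (hJ : J = J.map (frobenius R p)) :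
    J = ⊥ ∨ J = ⊤ := by
  by_cases htop : J = ⊤
  · exact Or.inr htop
  left
  have hJm : J ≤ maximalIdeal R := le_maximalIdeal htop
  have hle : J ≤ maximalIdeal R • J := by
    conv_lhs => rw [hJ]
    rw [Ideal.map_le_iff_le_comap]
    intro x hx
    rw [Ideal.mem_comap, frobenius_def]
    obtain ⟨k, hk⟩ : ∃ k, p = k + 1 + 1 := ⟨p - 2, by have := hp.out.two_le; omega⟩
    rw [hk, pow_succ, smul_eq_mul]
    exact Ideal.mul_mem_mul (Ideal.pow_mem_of_mem _ (hJm hx) _ (by omega)) hx
  exact Submodule.eq_bot_of_le_smul_of_le_jacobson_bot (maximalIdeal R) J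
    (IsNoetherian.noetherian J) hle (maximalIdeal_le_jacobson ⊥)

variable (M : Type u) [AddCommGroup M] [Module R M] [Module.Finite R M]

theorem fitt_frobenius (k : ℕ) :
    Fitt.ideal R ((ModuleCat.extendScalars (frobenius R p)).obj (ModuleCat.of R M)) k
      = (Fitt.ideal R M k).map (frobenius R p) :=
  @ideal_baseChange R _ M _ _ R _ (frobenius R p).toAlgebra _ k

theorem main_S0337
    (h : Nonempty ((ModuleCat.extendScalars (frobenius R p)).obj (ModuleCat.of R M) ≅
      ModuleCat.of R M)) : Module.Free R M := by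
  obtain ⟨e⟩ := h
  have hfix : ∀ k, Fitt.ideal R M k = (Fitt.ideal R M k).map (frobenius R p) := by
    intro k
    rw [← fitt_frobenius p R M k]
    exact (ideal_congr e.toLinearEquiv k).symm
  have hdich : ∀ k, Fitt.ideal R M k = ⊥ ∨ Fitt.ideal R M k = ⊤ :=
    fun k => eq_bot_or_top_of_eq_map_frobenius p R _ (hfix k)
  -- a minimal generating family
  classical
  have hex : ∃ n : ℕ, ∃ x : Fin n → M, Submodule.span R (Set.range x) = ⊤ :=
    Module.Finite.exists_fin (R := R) (M := M)
  let r := Nat.find hex
  obtain ⟨x, hx⟩ := Nat.find_spec hex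
  have hmin : ∀ n, n < r → ¬ ∃ y : Fin n → M, Submodule.span R (Set.range y) = ⊤ :=
    fun n hn => Nat.find_min hex hn
  have hli : LinearIndependent R x := by
    rw [Fintype.linearIndependent_iff]
    intro c hc j
    have hr : 0 < r := Fin.pos j
    have hmem := coord_mem_ideal_of_relation (R := R) x hx (r - 1) (by omega) c hc j
    rcases hdich (r - 1) with h0 | h1
    · rw [h0, Ideal.mem_bot] at hmem
      exact hmem
    · exfalso
      have hnle : ¬ Fitt.ideal R M (r - 1) ≤ maximalIdeal R := by
        rw [h1]
        intro hle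
        exact (maximalIdeal.isMaximal R).ne_top (top_le_iff.1 hle)
      obtain ⟨f, hf, -, y, hy⟩ :=
        exists_smul_mem_span_of_not_le x hx (r - 1) (maximalIdeal R) hnle
      have hfu : IsUnit f := by
        by_contra hnu
        exact hf ((mem_maximalIdeal f).2 hnu)
      apply hmin (r - 1) (by omega)
      refine ⟨y, ?_⟩
      rw [eq_top_iff]
      intro m _
      obtain ⟨g, hg⟩ := hfu.exists_left_inv
      have : m = g • (f • m) := by rw [smul_smul, hg, one_smul]
      rw [this]
      exact Submodule.smul_mem _ _ (hy m)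
  exact Module.Free.of_basis (Module.Basis.mk hli (by rw [hx]))

end Groth.Agent.Helper3.FrobFree
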