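import Mathlib
import Groth.Prelude.Def_DRing3
import Groth.Prelude.Def_DDual2
import Groth.Agent.Lib.Helper5.RGam.FlatBC
import Groth.Agent.Lib.Helper5.DTenLib.Base
import Groth.Agent.Lib.Helper5.Gen.LTModel
import Groth.Agent.Lib.Helper3.FinAdj

/-!
# Derived base change along a "power-like" endomorphism commutes with `RΓ_I` (helper3)

For a ring endomorphism `φ : A → A` of a Noetherian ring with `φ(I) ⊆ I` and such that `φ f` acts
invertibly wherever `f` does (e.g. the Frobenius), `Lφ^* RΓ_I K ≅ RΓ_I (Lφ^* K)`.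
-/

set_option autoImplicit false
universe u
open CategoryTheory CategoryTheory.Limits Pretriangulated

attribute [local instance] HasDerivedCategory.standard

namespace Groth.Agent.Helper3.FrobRG

open DRing DerivedCategory CochainComplex Helper5.RGam Helper5.DMod Helper5.DComp
  Groth.Agent.Lib.Helper5.DTenLib

variable {A : Type u} [CommRing A]

/-- power torsion passes to the source of an injective linear map -/
lemma isPowerTorsion_of_injective (I : Ideal A) {M N : Type u} [AddCommGroup M] [Module A M]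
    [AddCommGroup N] [Module A N] (j : M →ₗ[A] N) (hj : Function.Injective j)
    (hN : LocCoh.IsPowerTorsion I N) : LocCoh.IsPowerTorsion I M := by
  intro m
  obtain ⟨n, hn⟩ := hN (j m)
  refine ⟨n, fun a ha => hj ?_⟩
  rw [_root_.map_smul, hn a ha, _root_.map_zero]

lemma ptors_mono {I J : Ideal A} (h : J ≤ I) (Y : Dual.D A) (hY : Ptors I Y) : Ptors J Y := by
  intro i m
  obtain ⟨n, hn⟩ := hY i m
  exact ⟨n, fun a ha => hn a (Ideal.pow_right_mono h n ha)⟩

lemma ptors_of_forall_mem [IsNoetherianRing A] (I : Ideal A) (Y : Dual.D A)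
    (h : ∀ f ∈ I, Ptors (Ideal.span {f}) Y) : Ptors I Y := by
  intro i m
  let J : Ideal A := LinearMap.ker (LinearMap.toSpanSingleton A (Dual.HD A Y i) m)
  have hJ : ∀ a : A, a ∈ J ↔ a • m = 0 := fun a => by
    rw [LinearMap.mem_ker, LinearMap.toSpanSingleton_apply]
  have hle : I ≤ J.radical := by
    intro f hf
    obtain ⟨n, hn⟩ := h f hf i m
    exact ⟨n, (hJ _).2 (hn _ (Ideal.pow_mem_pow (Ideal.mem_span_singleton_self f) n))⟩
  obtain ⟨n, hn⟩ := Ideal.exists_pow_le_of_le_radical_of_fg hle (IsNoetherian.noetherian I)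
  exact ⟨n, fun a ha => (hJ a).1 (hn ha)⟩

lemma isIso_Q_smul (f : A) (X : CochainComplex (ModuleCat.{u} A) ℤ) [IsIso (f • 𝟙 X)] :
    IsIso (f • 𝟙 (Q.obj X)) := by
  have h : Q.map (f • 𝟙 X) = f • 𝟙 (Q.obj X) := by
    rw [Functor.map_smul, CategoryTheory.Functor.map_id]
  rw [← h]
  infer_instance

/-- an object left orthogonal to all objects on which `f` acts invertibly has `f`-power torsion
cohomology -/
theorem ptors_of_orth [IsNoetherianRing A] (f : A) (Y : Dual.D A)
    (h : ∀ W : Dual.D A, IsIso (f • 𝟙 W) → ∀ g : Y ⟶ W, g = 0) :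
    Ptors (Ideal.span {f}) Y := by
  obtain ⟨J, q, hJ, hq, hinj⟩ :=
    Helper5.KInj.exists_kinjective_resolution' (A := ModuleCat.{u} A) (Q.objPreimage Y)
  haveI := hJ
  haveI : IsIso (Q.map q) := (DerivedCategory.isIso_Q_map_iff_quasiIso (φ := q)).2 hq
  obtain ⟨e⟩ : Nonempty (Y ≅ Q.obj J) := ⟨(Q.objObjPreimageIso Y).symm ≪≫ asIso (Q.map q)⟩
  have hinj' : ∀ n, Module.Injective A (J.X n) := by
    intro n
    haveI : Injective (ModuleCat.of A (J.X n)) := hinj n
    exact Module.injective_module_of_injective_object A (J.X n)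
  have hΓ : Ptors (Ideal.span {f}) (Q.obj (gammaCx (Ideal.span {f}) J)) := fun i =>
    isPowerTorsion_of_equiv _ (Helper5.DComp.HDQEquiv (gammaCx (Ideal.span {f}) J) i).symm
      (isPowerTorsion_homology_gammaCx (Ideal.span {f}) J i)
  have hT := triangleOfSES_distinguished (gammaSC_shortExact (Ideal.span {f}) J)
  haveI := isIso_smul_quotCx f J hinj'
  have hiso : IsIso (f • 𝟙 (Q.obj (quotCx (Ideal.span {f}) J))) := isIso_Q_smul f _
  have h0 : e.hom ≫ (triangleOfSES (gammaSC_shortExact (Ideal.span {f}) J)).mor₂ = 0 :=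
    h _ hiso _
  obtain ⟨s, hs⟩ := Triangle.coyoneda_exact₂ _ hT e.hom h0
  intro i
  have h1 : (DerivedCategory.homologyFunctor (ModuleCat.{u} A) i).map e.hom =
      (DerivedCategory.homologyFunctor (ModuleCat.{u} A) i).map s ≫
        (DerivedCategory.homologyFunctor (ModuleCat.{u} A) i).map
          (triangleOfSES (gammaSC_shortExact (Ideal.span {f}) J)).mor₁ := by
    rw [← Functor.map_comp]
    exact congrArg _ hs
  haveI : IsIso ((DerivedCategory.homologyFunctor (ModuleCat.{u} A) i).map e.hom) :=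
    Functor.map_isIso _ _
  have hm : Mono ((DerivedCategory.homologyFunctor (ModuleCat.{u} A) i).map e.hom) :=
    IsIso.mono_of_iso _
  rw [h1] at hm
  haveI : Mono ((DerivedCategory.homologyFunctor (ModuleCat.{u} A) i).map s) :=
    @mono_of_mono _ _ _ _ _ _ _ hm
  exact isPowerTorsion_of_injective _
    ((DerivedCategory.homologyFunctor (ModuleCat.{u} A) i).map s).hom
    ((ModuleCat.mono_iff_injective _).1 inferInstance) (hΓ i)

lemma isIso_pow_smul (f : A) (W : Dual.D A) [IsIso (f • 𝟙 W)] (n : ℕ) :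
    IsIso ((f ^ n) • 𝟙 W) := by
  induction n with
  | zero =>
    rw [pow_zero, one_smul]
    infer_instance
  | succ n ih =>
    have h : (f ^ (n + 1)) • 𝟙 W = ((f ^ n) • 𝟙 W) ≫ (f • 𝟙 W) := by
      rw [Linear.smul_comp, Linear.comp_smul, Category.id_comp, smul_smul, pow_succ]
    rw [h]
    infer_instance

section Main

variable (φ : A →+* A)

local notation "Lφ" => DRing.LBaseChange φ
local notation "Rφ" => DRing.restrictD φ

/-- derived base change is semilinear -/
lemma L_map_smul (a : A) {X Y : Dual.D A} (g : X ⟶ Y) : (Lφ).map (a • g) = φ a • (Lφ).map g := by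
  apply ((myAdj φ).homEquiv _ _).injective
  rw [Adjunction.homEquiv_unit, Adjunction.homEquiv_unit,
    Groth.Agent.Helper3.FinAdj.res_map_smul, Linear.comp_smul]
  have h1 := (myAdj φ).unit.naturality (a • g)
  have h2 := (myAdj φ).unit.naturality g
  simp only [Functor.id_obj, Functor.id_map, Functor.comp_obj, Functor.comp_map] at h1 h2
  rw [← h1, ← h2, Linear.smul_comp]

lemma isIso_smul_L (f : A) (X : Dual.D A) [IsIso (f • 𝟙 X)] :
    IsIso (φ f • 𝟙 ((Lφ).obj X)) := by
  have h := L_map_smul φ f (𝟙 X)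
  rw [CategoryTheory.Functor.map_id] at h
  rw [← h]
  infer_instance

lemma isIso_smul_R (f : A) (W : Dual.D A) [IsIso (φ f • 𝟙 W)] :
    IsIso (f • 𝟙 ((Rφ).obj W)) := by
  have h := Groth.Agent.Helper3.FinAdj.res_map_smul φ f (𝟙 W)
  rw [CategoryTheory.Functor.map_id] at h
  rw [← h]
  infer_instance

variable [IsNoetherianRing A] (I : Ideal A)
  (H1 : ∀ f ∈ I, φ f ∈ I)
  (H2 : ∀ (f : A) (W : Dual.D A), IsIso (f • 𝟙 W) → IsIso (φ f • 𝟙 W))

include H2 in
/-- derived base change along `φ` preserves objects with `I`-power torsion cohomology -/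
theorem ptors_L (T : Dual.D A) (hT : Ptors I T) : Ptors I ((Lφ).obj T) := by
  apply ptors_of_forall_mem
  intro f hf
  apply ptors_of_orth
  intro W hW g
  apply ((myAdj φ).homEquiv T W).injective
  haveI := H2 f W hW
  haveI := isIso_smul_R φ f W
  haveI := hasRgammaI (Ideal.span {f})
  have hN : Nt (Ideal.span {f}) ((Rφ).obj W) :=
    Nt.of_isIso_smul f (Ideal.mem_span_singleton_self f) _
  have hT' : Ptors (Ideal.span {f}) T :=
    ptors_mono ((Ideal.span_singleton_le_iff_mem I).2 hf) T hT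
  exact (hN ⟨T, hT'⟩ _).trans (hN ⟨T, hT'⟩ _).symm

variable [HasRgammaI I]

include H1 in
/-- the base change of `X / Γ_{I'} X` is right orthogonal to the `I`-torsion objects -/
theorem Nt_L_quotCx (I' : Ideal A) : I' ≤ I → ∀ X : CochainComplex (ModuleCat.{u} A) ℤ,
    (∀ n, Module.Injective A (X.X n)) → Nt I ((Lφ).obj (Q.obj (quotCx I' X))) := by
  letI : (Lφ).CommShift ℤ := (myAdj φ).leftAdjointCommShift ℤ
  haveI : (myAdj φ).CommShift ℤ := (myAdj φ).commShift_of_rightAdjoint ℤ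
  haveI : (Lφ).IsTriangulated := (myAdj φ).isTriangulated_leftAdjoint
  refine Submodule.fg_induction (R := A) (M := A)
    (motive := fun I' _ => I' ≤ I → ∀ X : CochainComplex (ModuleCat.{u} A) ℤ,
      (∀ n, Module.Injective A (X.X n)) → Nt I ((Lφ).obj (Q.obj (quotCx I' X)))) ?_ ?_ I'
    (IsNoetherian.noetherian I')
  · intro f hf X hinj
    haveI := isIso_smul_quotCx f X hinj
    haveI : IsIso (f • 𝟙 (Q.obj (quotCx (Ideal.span {f}) X))) := isIso_Q_smul f _
    haveI := isIso_smul_L φ f (Q.obj (quotCx (Ideal.span {f}) X))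
    exact Nt.of_isIso_smul (φ f) (H1 f (hf (Ideal.mem_span_singleton_self f))) _
  · intro I₁ I₂ _ _ h₁ h₂ hle X hinj
    have hinj' : ∀ n, Module.Injective A ((gammaCx I₂ X).X n) :=
      fun n => haveI := hinj n; injective_torsionSub I₂ (X.X n)
    have hT := triangleOfSES_distinguished (supSC_shortExact I₁ I₂ X)
    have hT' := (Lφ).map_distinguished _ hT
    exact Nt.of_triangle _ hT' (h₁ (le_sup_left.trans hle) (gammaCx I₂ X) hinj')
      (h₂ (le_sup_right.trans hle) X hinj)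

include H1 H2 in
/-- `Lφ^* RΓ_I K ≅ RΓ_I (Lφ^* K)` -/
theorem nonempty_L_rgamma_iso (K : Dual.D A) :
    Nonempty ((Lφ).obj ((RgammaI I).obj K) ≅ (RgammaI I).obj ((Lφ).obj K)) := by
  letI : (Lφ).CommShift ℤ := (myAdj φ).leftAdjointCommShift ℤ
  haveI : (myAdj φ).CommShift ℤ := (myAdj φ).commShift_of_rightAdjoint ℤ
  haveI : (Lφ).IsTriangulated := (myAdj φ).isTriangulated_leftAdjoint
  obtain ⟨J, f, hJ, hf, hinj⟩ :=
    Helper5.KInj.exists_kinjective_resolution' (A := ModuleCat.{u} A) (Q.objPreimage K)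
  haveI := hJ
  haveI : IsIso (Q.map f) := (DerivedCategory.isIso_Q_map_iff_quasiIso (φ := f)).2 hf
  let e : K ≅ Q.obj J := (Q.objObjPreimageIso K).symm ≪≫ asIso (Q.map f)
  have hinj' : ∀ n, Module.Injective A (J.X n) := by
    intro n
    haveI : Injective (ModuleCat.of A (J.X n)) := hinj n
    exact Module.injective_module_of_injective_object A (J.X n)
  have hΓ : Ptors I (Q.obj (gammaCx I J)) := fun i =>
    isPowerTorsion_of_equiv I (Helper5.DComp.HDQEquiv (gammaCx I J) i).symm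
      (isPowerTorsion_homology_gammaCx I J i)
  have hT₀ := ptors_L φ I H2 _ hΓ
  have hT := triangleOfSES_distinguished (gammaSC_shortExact I J)
  have hT' := (Lφ).map_distinguished _ hT
  have hN := Nt_L_quotCx φ I H1 I le_rfl J hinj'
  have hu : ∀ T : (Ptors I).FullSubcategory,
      Function.Bijective (fun g : T.obj ⟶ (Lφ).obj (Q.obj (gammaCx I J)) =>
        g ≫ (Lφ).map (Q.map (gammaIncl I J))) := fun T =>
    bijective_postcomp _ hT' T.obj (fun g => hN T g) (fun g => (hN.shift (-1)) T g)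
  have hR := isPowerTorsion_RgammaI I ((Lφ).obj (Q.obj J))
  have hΦ := Φ_bijective I
  obtain ⟨a', ha'⟩ := (hΦ ⟨_, hT₀⟩ ((Lφ).obj (Q.obj J))).2 ((Lφ).map (Q.map (gammaIncl I J)))
  obtain ⟨b, hb⟩ := (hu ⟨_, hR⟩).2 ((RgammaIε I).app ((Lφ).obj (Q.obj J)))
  have ha : a'.hom ≫ (RgammaIε I).app ((Lφ).obj (Q.obj J)) =
      (Lφ).map (Q.map (gammaIncl I J)) := ha'
  simp only at hb
  have h1 : a'.hom ≫ b = 𝟙 _ := by
    apply (hu ⟨_, hT₀⟩).1
    simp only
    rw [Category.assoc, hb, ha, Category.id_comp]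
  have h2 : b ≫ a'.hom = 𝟙 _ := by
    have h3 : (ObjectProperty.homMk (b ≫ a'.hom) :
        (⟨_, hR⟩ : (Ptors I).FullSubcategory) ⟶ (Rlift I).obj ((Lφ).obj (Q.obj J))) =
        ObjectProperty.homMk (𝟙 _) := by
      apply (hΦ ⟨_, hR⟩ ((Lφ).obj (Q.obj J))).1
      change (b ≫ a'.hom) ≫ _ = 𝟙 _ ≫ _
      rw [Category.assoc, ha, hb, Category.id_comp]
    exact congrArg (fun t => t.hom) h3
  let e₀ : (Lφ).obj (Q.obj (gammaCx I J)) ≅ (RgammaI I).obj ((Lφ).obj (Q.obj J)) :=
    ⟨a'.hom, b, h1, h2⟩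
  exact ⟨(Lφ).mapIso ((RgammaI I).mapIso e ≪≫ rgammaIso I J) ≪≫ e₀ ≪≫
    (RgammaI I).mapIso ((Lφ).mapIso e.symm)⟩

end Main

/-- **S8934**: `LF^* RΓ_I(A) ≅ RΓ_I(A)` for the Frobenius `F` of a Noetherian ring of
characteristic `p` -/
theorem frobenius_rgamma (p : ℕ) [Fact p.Prime] (A : Type u) [CommRing A] [IsNoetherianRing A]
    [CharP A p] (I : Ideal A) [DRing.HasRgammaI I] [DRing.HasLBaseChange (frobenius A p)] :
    Nonempty ((DRing.LBaseChange (frobenius A p)).obj ((DRing.RgammaI I).obj (Dual.inD A A)) ≅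
      (DRing.RgammaI I).obj (Dual.inD A A)) := by
  have H1 : ∀ f ∈ I, frobenius A p f ∈ I := by
    intro f hf
    rw [frobenius_def]
    exact Ideal.pow_mem_of_mem I hf p (Fact.out : p.Prime).pos
  have H2 : ∀ (f : A) (W : Dual.D A), IsIso (f • 𝟙 W) → IsIso (frobenius A p f • 𝟙 W) := by
    intro f W hW
    rw [frobenius_def]
    exact isIso_pow_smul f W p
  obtain ⟨e1⟩ := nonempty_L_rgamma_iso (frobenius A p) I H1 H2 (Dual.inD A A)
  let e2 : (DRing.LBaseChange (frobenius A p)).obj (Dual.inD A A) ≅ Dual.inD A A :=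
    Helper5.Gen.lbcUnitIso (frobenius A p) ≪≫
      ((singleFunctorIsoCompQ (ModuleCat.{u} A) 0).app (ModuleCat.of A A)).symm
  exact ⟨e1 ≪≫ (DRing.RgammaI I).mapIso e2⟩

end Groth.Agent.Helper3.FrobRG
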