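import Mathlib

/-! Surjectivity criterion for closed subgroups of `GL₂(ℤ_p)` (helper3; S15360). -/

set_option autoImplicit false

namespace Groth.Agent.Helper3.GL2Zp

open Matrix

/-- entrywise proof of an identity of `2 × 2` matrices over a commutative ring. -/
macro "mat2" : tactic =>
  `(tactic| (ext i j; fin_cases i <;> fin_cases j <;>
      simp [Matrix.mul_apply, Fin.sum_univ_two, Matrix.one_apply] <;> ring))

section abstract

variable {R : Type*} [CommRing R]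


/-- a multiplicatively closed set of matrices closed under two-sided inverses. -/
structure GoodSet (H : Set (Matrix (Fin 2) (Fin 2) R)) : Prop where
  one_mem : (1 : Matrix (Fin 2) (Fin 2) R) ∈ H
  mul_mem : ∀ {a b : Matrix (Fin 2) (Fin 2) R}, a ∈ H → b ∈ H → a * b ∈ H
  inv_mem : ∀ {a : Matrix (Fin 2) (Fin 2) R}, a ∈ H → ∃ a' ∈ H, a * a' = 1 ∧ a' * a = 1

/-- matrices `X` such that `1 + π^(m+1) X` is congruent mod `π^(m+2)` to an element of `H`. -/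
def T (π : R) (m : ℕ) (H : Set (Matrix (Fin 2) (Fin 2) R)) : Set (Matrix (Fin 2) (Fin 2) R) :=
  {X | ∃ k ∈ H, ∃ Z : Matrix (Fin 2) (Fin 2) R, k = 1 + π ^ (m + 1) • X + π ^ (m + 2) • Z}

variable {π : R} {m : ℕ} {H : Set (Matrix (Fin 2) (Fin 2) R)}

lemma T_zero (hH : GoodSet H) : (0 : Matrix (Fin 2) (Fin 2) R) ∈ T π m H :=
  ⟨1, hH.one_mem, 0, by simp⟩

lemma T_add_smul {X : Matrix (Fin 2) (Fin 2) R} (hX : X ∈ T π m H) (Y : Matrix (Fin 2) (Fin 2) R) : X + π • Y ∈ T π m H := by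
  obtain ⟨k, hk, Z, rfl⟩ := hX
  refine ⟨_, hk, Z - Y, ?_⟩
  mat2

lemma T_add (hH : GoodSet H) {X Y : Matrix (Fin 2) (Fin 2) R} (hX : X ∈ T π m H) (hY : Y ∈ T π m H) :
    X + Y ∈ T π m H := by
  obtain ⟨k₁, hk₁, Z₁, rfl⟩ := hX
  obtain ⟨k₂, hk₂, Z₂, rfl⟩ := hY
  refine ⟨_, hH.mul_mem hk₁ hk₂,
    Z₁ + Z₂ + π ^ m • (X * Y) + π ^ (m + 1) • (X * Z₂ + Z₁ * Y) + π ^ (m + 2) • (Z₁ * Z₂), ?_⟩
  mat2

lemma T_conj (hH : GoodSet H) {X : Matrix (Fin 2) (Fin 2) R} (hX : X ∈ T π m H) {u u' : Matrix (Fin 2) (Fin 2) R} (hu : u ∈ H)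
    (hu' : u' ∈ H) (huu' : u * u' = 1) : u * X * u' ∈ T π m H := by
  obtain ⟨k, hk, Z, rfl⟩ := hX
  refine ⟨_, hH.mul_mem (hH.mul_mem hu hk) hu', u * Z * u', ?_⟩
  have : u * (1 + π ^ (m + 1) • X + π ^ (m + 2) • Z) * u' =
      u * u' + π ^ (m + 1) • (u * X * u') + π ^ (m + 2) • (u * Z * u') := by
    mat2
  rw [this, huu']

lemma T_nsmul (hH : GoodSet H) {X : Matrix (Fin 2) (Fin 2) R} (hX : X ∈ T π m H) (n : ℕ) : n • X ∈ T π m H := by
  induction n with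
  | zero => rw [zero_smul]; exact T_zero hH
  | succ n ih => rw [succ_nsmul]; exact T_add hH ih hX

lemma T_smul (hH : GoodSet H) (happrox : ∀ r : R, ∃ (n : ℕ) (s : R), r = n + π * s)
    {X : Matrix (Fin 2) (Fin 2) R} (hX : X ∈ T π m H) (r : R) : r • X ∈ T π m H := by
  obtain ⟨n, s, rfl⟩ := happrox r
  have : ((n : R) + π * s) • X = n • X + π • (s • X) := by
    rw [add_smul, mul_smul, Nat.cast_smul_eq_nsmul]
  rw [this]
  exact T_add_smul (T_nsmul hH hX n) _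

lemma T_conj' (hH : GoodSet H)
    (hbase : ∀ g g' : Matrix (Fin 2) (Fin 2) R, g * g' = 1 → g' * g = 1 → ∃ h ∈ H, ∃ Z : Matrix (Fin 2) (Fin 2) R, h = g + π • Z)
    {X : Matrix (Fin 2) (Fin 2) R} (hX : X ∈ T π m H) {g g' : Matrix (Fin 2) (Fin 2) R} (h1 : g * g' = 1) (h2 : g' * g = 1) :
    g * X * g' ∈ T π m H := by
  obtain ⟨u, hu, Z₀, huZ⟩ := hbase g g' h1 h2
  obtain ⟨u', hu', huu', hu'u⟩ := hH.inv_mem hu
  have e1 : u' * g * g' = u' := by rw [mul_assoc, h1, mul_one]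
  have e2 : u' * (g + π • Z₀) * g' = g' := by rw [← huZ, hu'u, one_mul]
  have e3 : u' = g' + π • (-(u' * Z₀ * g')) := by
    have : u' * (g + π • Z₀) * g' = u' * g * g' + π • (u' * Z₀ * g') := by
      rw [mul_add, add_mul, Matrix.mul_smul, Matrix.smul_mul]
    rw [this, e1] at e2
    rw [smul_neg, ← sub_eq_add_neg, eq_sub_iff_add_eq]; exact e2
  have hconj := T_conj hH hX hu hu' huu'
  obtain ⟨W, hW⟩ : ∃ W : Matrix (Fin 2) (Fin 2) R, u' = g' + π • W := ⟨_, e3⟩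
  have e4 : (g + π • Z₀) * X * (g' + π • W) =
      g * X * g' + π • (g * X * W + Z₀ * X * g' + π • (Z₀ * X * W)) := by mat2
  have e5 : g * X * g' =
      u * X * u' + π • (-(g * X * W + Z₀ * X * g' + π • (Z₀ * X * W))) := by
    rw [huZ, hW, e4, smul_neg, add_neg_cancel_right]
  rw [e5]
  exact T_add_smul hconj _

theorem T_univ (hH : GoodSet H) (happrox : ∀ r : R, ∃ (n : ℕ) (s : R), r = n + π * s)
    (hbase : ∀ g g' : Matrix (Fin 2) (Fin 2) R, g * g' = 1 → g' * g = 1 → ∃ h ∈ H, ∃ Z : Matrix (Fin 2) (Fin 2) R, h = g + π • Z)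
    (hii : ∃ k ∈ H, ∃ a b c d a' : R, a * a' = 1 ∧
      k = !![1 + π ^ (m + 1) * a, π ^ (m + 2) * b; π ^ (m + 2) * c, 1 + π ^ (m + 2) * d])
    (X : Matrix (Fin 2) (Fin 2) R) : X ∈ T π m H := by
  obtain ⟨k, hk, a, b, c, d, a', haa', rfl⟩ := hii
  have hA : (!![a, 0; 0, 0] : Matrix (Fin 2) (Fin 2) R) ∈ T π m H := ⟨_, hk, !![0, b; c, d], by mat2⟩
  have hE11 : (!![1, 0; 0, 0] : Matrix (Fin 2) (Fin 2) R) ∈ T π m H := by
    have := T_smul hH happrox hA a'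
    have e : a' • (!![a, 0; 0, 0] : Matrix (Fin 2) (Fin 2) R) = !![a * a', 0; 0, 0] := by mat2
    rw [e, haa'] at this; exact this
  have hE22 : (!![0, 0; 0, 1] : Matrix (Fin 2) (Fin 2) R) ∈ T π m H := by
    have := T_conj' hH hbase hE11 (g := !![0, 1; 1, 0]) (g' := !![0, 1; 1, 0])
      (by mat2) (by mat2)
    have e : (!![0, 1; 1, 0] : Matrix (Fin 2) (Fin 2) R) * !![1, 0; 0, 0] * !![0, 1; 1, 0] = !![0, 0; 0, 1] := by mat2
    rw [e] at this; exact this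
  have hE12' : (!![1, -1; 0, 0] : Matrix (Fin 2) (Fin 2) R) ∈ T π m H := by
    have := T_conj' hH hbase hE11 (g := !![1, 1; 0, 1]) (g' := !![1, -1; 0, 1])
      (by mat2) (by mat2)
    have e : (!![1, 1; 0, 1] : Matrix (Fin 2) (Fin 2) R) * !![1, 0; 0, 0] * !![1, -1; 0, 1] = !![1, -1; 0, 0] := by
      mat2
    rw [e] at this; exact this
  have hE21' : (!![1, 0; 1, 0] : Matrix (Fin 2) (Fin 2) R) ∈ T π m H := by
    have := T_conj' hH hbase hE11 (g := !![1, 0; 1, 1]) (g' := !![1, 0; -1, 1])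
      (by mat2) (by mat2)
    have e : (!![1, 0; 1, 1] : Matrix (Fin 2) (Fin 2) R) * !![1, 0; 0, 0] * !![1, 0; -1, 1] = !![1, 0; 1, 0] := by
      mat2
    rw [e] at this; exact this
  have hE12 : (!![0, 1; 0, 0] : Matrix (Fin 2) (Fin 2) R) ∈ T π m H := by
    have := T_add hH hE11 (T_smul hH happrox hE12' (-1))
    have e : (!![1, 0; 0, 0] : Matrix (Fin 2) (Fin 2) R) + (-1 : R) • !![1, -1; 0, 0] = !![0, 1; 0, 0] := by mat2
    rw [e] at this; exact this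
  have hE21 : (!![0, 0; 1, 0] : Matrix (Fin 2) (Fin 2) R) ∈ T π m H := by
    have := T_add hH hE21' (T_smul hH happrox hE11 (-1))
    have e : (!![1, 0; 1, 0] : Matrix (Fin 2) (Fin 2) R) + (-1 : R) • !![1, 0; 0, 0] = !![0, 0; 1, 0] := by mat2
    rw [e] at this; exact this
  have hX : X = X 0 0 • (!![1, 0; 0, 0] : Matrix (Fin 2) (Fin 2) R) + X 0 1 • (!![0, 1; 0, 0] : Matrix (Fin 2) (Fin 2) R) +
      X 1 0 • (!![0, 0; 1, 0] : Matrix (Fin 2) (Fin 2) R) + X 1 1 • (!![0, 0; 0, 1] : Matrix (Fin 2) (Fin 2) R) := by mat2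
  rw [hX]
  exact T_add hH (T_add hH (T_add hH (T_smul hH happrox hE11 _) (T_smul hH happrox hE12 _))
    (T_smul hH happrox hE21 _)) (T_smul hH happrox hE22 _)

theorem approx_all (hH : GoodSet H) (happrox : ∀ r : R, ∃ (n : ℕ) (s : R), r = n + π * s)
    (hbase : ∀ g g' : Matrix (Fin 2) (Fin 2) R, g * g' = 1 → g' * g = 1 → ∃ h ∈ H, ∃ Z : Matrix (Fin 2) (Fin 2) R, h = g + π • Z)
    (hii : ∀ m : ℕ, ∃ k ∈ H, ∃ a b c d a' : R, a * a' = 1 ∧
      k = !![1 + π ^ (m + 1) * a, π ^ (m + 2) * b; π ^ (m + 2) * c, 1 + π ^ (m + 2) * d]) :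
    ∀ (m : ℕ) (g g' : Matrix (Fin 2) (Fin 2) R), g * g' = 1 → g' * g = 1 →
      ∃ h ∈ H, ∃ Z : Matrix (Fin 2) (Fin 2) R, h = g + π ^ (m + 1) • Z := by
  intro m
  induction m with
  | zero =>
    intro g g' h1 h2
    obtain ⟨h, hh, Z, hZ⟩ := hbase g g' h1 h2
    exact ⟨h, hh, Z, by rw [hZ]; simp⟩
  | succ m ih =>
    intro g g' h1 h2
    obtain ⟨h, hh, Z, hZ⟩ := ih g g' h1 h2
    obtain ⟨h', hh', e1, e2⟩ := hH.inv_mem hh
    obtain ⟨k, hk, Z', hkZ⟩ := T_univ hH happrox hbase (hii m) (-(h' * Z))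
    refine ⟨h * k, hH.mul_mem hh hk, h * Z', ?_⟩
    have e3 : h * (1 + π ^ (m + 1) • (-(h' * Z)) + π ^ (m + 2) • Z') =
        h - π ^ (m + 1) • (h * h' * Z) + π ^ (m + 2) • (h * Z') := by mat2
    have e4 : h - π ^ (m + 1) • Z = g := by rw [hZ]; simp
    rw [hkZ, e3, e1, one_mul, e4]

end abstract

section padic

variable (p : ℕ) [Fact p.Prime]

lemma padic_approx (r : ℤ_[p]) : ∃ (n : ℕ) (s : ℤ_[p]), r = n + (p : ℤ_[p]) * s := by
  have h := PadicInt.appr_spec 1 r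
  rw [pow_one, Ideal.mem_span_singleton] at h
  obtain ⟨s, hs⟩ := h
  exact ⟨r.appr 1, s, by rw [← hs]; ring⟩

lemma toZMod_eq_zero_iff (x : ℤ_[p]) : PadicInt.toZMod x = 0 ↔ (p : ℤ_[p]) ∣ x := by
  rw [← RingHom.mem_ker, PadicInt.ker_toZMod, PadicInt.maximalIdeal_eq_span_p,
    Ideal.mem_span_singleton]

lemma toZMod_surjective : Function.Surjective (PadicInt.toZMod (p := p)) := by
  intro c
  haveI : NeZero p := ⟨(Fact.out : p.Prime).ne_zero⟩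
  refine ⟨((c.val : ℕ) : ℤ_[p]), ?_⟩
  rw [map_natCast, ZMod.natCast_zmod_val]

lemma eq_zero_of_forall_dvd (x : ℤ_[p]) (h : ∀ n : ℕ, (p : ℤ_[p]) ^ n ∣ x) : x = 0 := by
  have hI : (⨅ n : ℕ, (Ideal.span {(p : ℤ_[p])}) ^ n) = ⊥ :=
    Ideal.iInf_pow_eq_bot_of_isLocalRing _ (by
      rw [← PadicInt.maximalIdeal_eq_span_p]
      exact (IsLocalRing.maximalIdeal.isMaximal _).ne_top)
  have : x ∈ (⨅ n : ℕ, (Ideal.span {(p : ℤ_[p])}) ^ n) := by
    rw [Ideal.mem_iInf]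
    intro n
    rw [Ideal.span_singleton_pow, Ideal.mem_span_singleton]
    exact h n
  rw [hI] at this
  exact this

theorem map_toZMod_surjective : Function.Surjective
    (Matrix.GeneralLinearGroup.map (n := Fin 2) (PadicInt.toZMod (p := p))) := by
  intro g
  choose f hf using fun i j =>
    toZMod_surjective p ((g : Matrix (Fin 2) (Fin 2) (ZMod p)) i j)
  obtain ⟨M, hMdef⟩ : ∃ M : Matrix (Fin 2) (Fin 2) ℤ_[p], M = Matrix.of f := ⟨_, rfl⟩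
  have hM : M.map (PadicInt.toZMod (p := p)) = (g : Matrix (Fin 2) (Fin 2) (ZMod p)) := by
    ext i j
    rw [Matrix.map_apply, hMdef, Matrix.of_apply, hf]
  have hdet : IsUnit M.det := by
    rw [← IsLocalRing.notMem_maximalIdeal, ← PadicInt.ker_toZMod, RingHom.mem_ker]
    have h1 : PadicInt.toZMod M.det = (g : Matrix (Fin 2) (Fin 2) (ZMod p)).det := by
      rw [RingHom.map_det, RingHom.mapMatrix_apply, hM]
    rw [h1]
    have hu : IsUnit (g : Matrix (Fin 2) (Fin 2) (ZMod p)).det :=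
      (Matrix.isUnit_iff_isUnit_det _).mp g.isUnit
    exact hu.ne_zero
  refine ⟨Matrix.GeneralLinearGroup.mk'' M hdet, Units.ext ?_⟩
  ext i j
  rw [← hM]
  rfl

theorem surjective_of (𝔊 : Type*) [Group 𝔊] [TopologicalSpace 𝔊] [CompactSpace 𝔊]
    (ϕ : 𝔊 →* GL (Fin 2) ℤ_[p])
    (hϕ : Continuous fun g => ((ϕ g : GL (Fin 2) ℤ_[p]) : Matrix (Fin 2) (Fin 2) ℤ_[p]))
    (h1 : Function.Surjective
      ((Matrix.GeneralLinearGroup.map (n := Fin 2) (PadicInt.toZMod (p := p))).comp ϕ))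
    (h2 : ∀ n : ℕ, 1 ≤ n → ∃ (g : 𝔊) (a b c d : ℤ_[p]), ¬ ((p : ℤ_[p]) ∣ a) ∧
          ((ϕ g : GL (Fin 2) ℤ_[p]) : Matrix (Fin 2) (Fin 2) ℤ_[p]) =
            !![1 + (p : ℤ_[p]) ^ n * a, (p : ℤ_[p]) ^ (n + 1) * b;
               (p : ℤ_[p]) ^ (n + 1) * c, 1 + (p : ℤ_[p]) ^ (n + 1) * d]) :
    Function.Surjective ϕ := by
  obtain ⟨H, hHdef⟩ : ∃ H : Set (Matrix (Fin 2) (Fin 2) ℤ_[p]), H = Set.range
      (fun γ => ((ϕ γ : GL (Fin 2) ℤ_[p]) : Matrix (Fin 2) (Fin 2) ℤ_[p])) := ⟨_, rfl⟩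
  have hHmem : ∀ M, M ∈ H ↔
      ∃ γ, ((ϕ γ : GL (Fin 2) ℤ_[p]) : Matrix (Fin 2) (Fin 2) ℤ_[p]) = M := by
    intro M; rw [hHdef]; rfl
  have hH : GoodSet H := by
    refine ⟨(hHmem _).mpr ⟨1, by rw [map_one, Units.val_one]⟩, ?_, ?_⟩
    · intro a b ha hb
      obtain ⟨γ₁, rfl⟩ := (hHmem _).mp ha
      obtain ⟨γ₂, rfl⟩ := (hHmem _).mp hb
      exact (hHmem _).mpr ⟨γ₁ * γ₂, by rw [map_mul, Units.val_mul]⟩
    · intro a ha
      obtain ⟨γ, rfl⟩ := (hHmem _).mp ha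
      refine ⟨_, (hHmem _).mpr ⟨γ⁻¹, rfl⟩, ?_, ?_⟩
      · rw [map_inv, ← Units.val_mul, mul_inv_cancel, Units.val_one]
      · rw [map_inv, ← Units.val_mul, inv_mul_cancel, Units.val_one]
  have hbase : ∀ g g' : Matrix (Fin 2) (Fin 2) ℤ_[p], g * g' = 1 → g' * g = 1 →
      ∃ h ∈ H, ∃ Z : Matrix (Fin 2) (Fin 2) ℤ_[p], h = g + (p : ℤ_[p]) • Z := by
    intro g g' e1 e2
    obtain ⟨γ, hγ⟩ := h1 (Matrix.GeneralLinearGroup.map (PadicInt.toZMod (p := p))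
      ⟨g, g', e1, e2⟩)
    have hent : ∀ i j, (p : ℤ_[p]) ∣
        ((ϕ γ : GL (Fin 2) ℤ_[p]) : Matrix (Fin 2) (Fin 2) ℤ_[p]) i j - g i j := by
      intro i j
      rw [← toZMod_eq_zero_iff, map_sub, sub_eq_zero]
      have := congrArg
        (fun u : GL (Fin 2) (ZMod p) => (u : Matrix (Fin 2) (Fin 2) (ZMod p)) i j) hγ
      exact this
    choose z hz using hent
    refine ⟨_, (hHmem _).mpr ⟨γ, rfl⟩, Matrix.of z, ?_⟩
    ext i j
    rw [Matrix.add_apply, Matrix.smul_apply, Matrix.of_apply, smul_eq_mul, ← hz i j]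
    ring
  have hii : ∀ m : ℕ, ∃ k ∈ H, ∃ a b c d a' : ℤ_[p], a * a' = 1 ∧
      k = !![1 + (p : ℤ_[p]) ^ (m + 1) * a, (p : ℤ_[p]) ^ (m + 2) * b;
        (p : ℤ_[p]) ^ (m + 2) * c, 1 + (p : ℤ_[p]) ^ (m + 2) * d] := by
    intro m
    obtain ⟨γ, a, b, c, d, ha, hk⟩ := h2 (m + 1) (Nat.le_add_left 1 m)
    have hau : IsUnit a := by
      rw [← IsLocalRing.notMem_maximalIdeal, PadicInt.maximalIdeal_eq_span_p,
        Ideal.mem_span_singleton]
      exact ha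
    obtain ⟨a', ha'⟩ := hau.exists_right_inv
    exact ⟨_, (hHmem _).mpr ⟨γ, rfl⟩, a, b, c, d, a', ha', hk⟩
  have happ := approx_all hH (padic_approx p) hbase hii
  intro g
  obtain ⟨C, hC⟩ : ∃ C : ℕ → Set 𝔊, C = fun n => {γ | ∀ i j,
      ((ϕ γ : GL (Fin 2) ℤ_[p]) : Matrix (Fin 2) (Fin 2) ℤ_[p]) i j -
        (g : Matrix (Fin 2) (Fin 2) ℤ_[p]) i j ∈ Ideal.span {(p : ℤ_[p]) ^ (n + 1)}} :=
    ⟨_, rfl⟩
  have hCmem : ∀ n γ, γ ∈ C n ↔ ∀ i j,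
      ((ϕ γ : GL (Fin 2) ℤ_[p]) : Matrix (Fin 2) (Fin 2) ℤ_[p]) i j -
        (g : Matrix (Fin 2) (Fin 2) ℤ_[p]) i j ∈ Ideal.span {(p : ℤ_[p]) ^ (n + 1)} := by
    intro n γ; rw [hC]; rfl
  have hne : ∀ n, (C n).Nonempty := by
    intro n
    obtain ⟨h, hh, Z, hZ⟩ := happ n g.val g.inv g.val_inv g.inv_val
    obtain ⟨γ, rfl⟩ := (hHmem _).mp hh
    refine ⟨γ, (hCmem _ _).mpr fun i j => ?_⟩
    rw [hZ, Matrix.add_apply, add_sub_cancel_left, Matrix.smul_apply, smul_eq_mul,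
      Ideal.mem_span_singleton]
    exact dvd_mul_right _ _
  have hmono : ∀ n, C (n + 1) ⊆ C n := by
    intro n γ hγ
    rw [hCmem] at hγ ⊢
    intro i j
    exact Ideal.span_singleton_le_span_singleton.mpr (pow_dvd_pow _ (Nat.le_succ _)) (hγ i j)
  have hclosed : ∀ n, IsClosed (C n) := by
    intro n
    have hCn : C n = ⋂ i, ⋂ j,
        (fun γ => ((ϕ γ : GL (Fin 2) ℤ_[p]) : Matrix (Fin 2) (Fin 2) ℤ_[p]) i j) ⁻¹'
          {x | x - (g : Matrix (Fin 2) (Fin 2) ℤ_[p]) i j ∈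
            Ideal.span {(p : ℤ_[p]) ^ (n + 1)}} := by
      ext γ
      rw [hCmem]
      simp only [Set.mem_iInter, Set.mem_preimage, Set.mem_setOf_eq]
    rw [hCn]
    refine isClosed_iInter fun i => isClosed_iInter fun j => IsClosed.preimage ?_ ?_
    · exact (continuous_apply j).comp ((continuous_apply i).comp hϕ)
    · have hset : {x : ℤ_[p] | x - (g : Matrix (Fin 2) (Fin 2) ℤ_[p]) i j ∈
          Ideal.span {(p : ℤ_[p]) ^ (n + 1)}} =
          {x | ‖x - (g : Matrix (Fin 2) (Fin 2) ℤ_[p]) i j‖ ≤ (p : ℝ) ^ (-((n + 1 : ℕ) : ℤ))} := by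
        ext x
        simp only [Set.mem_setOf_eq]
        rw [PadicInt.norm_le_pow_iff_mem_span_pow]
      rw [hset]
      exact isClosed_le (continuous_norm.comp (continuous_id.sub continuous_const))
        continuous_const
  obtain ⟨γ, hγ⟩ := IsCompact.nonempty_iInter_of_sequence_nonempty_isCompact_isClosed C hmono hne
    (hclosed 0).isCompact hclosed
  refine ⟨γ, Units.ext ?_⟩
  ext i j
  rw [← sub_eq_zero]
  apply eq_zero_of_forall_dvd p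
  intro n
  cases n with
  | zero => rw [pow_zero]; exact one_dvd _
  | succ n =>
    have := (hCmem n γ).mp (Set.mem_iInter.mp hγ n) i j
    rwa [Ideal.mem_span_singleton] at this

theorem s15360 (𝔊 : Type*) [Group 𝔊] [TopologicalSpace 𝔊] [CompactSpace 𝔊]
    (ϕ : 𝔊 →* GL (Fin 2) ℤ_[p])
    (hϕ : Continuous fun g => ((ϕ g : GL (Fin 2) ℤ_[p]) : Matrix (Fin 2) (Fin 2) ℤ_[p])) :
    Function.Surjective ϕ ↔
      (Function.Surjective
        ((Matrix.GeneralLinearGroup.map (n := Fin 2) (PadicInt.toZMod (p := p))).comp ϕ) ∧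
        ∀ n : ℕ, 1 ≤ n → ∃ (g : 𝔊) (a b c d : ℤ_[p]), ¬ ((p : ℤ_[p]) ∣ a) ∧
          ((ϕ g : GL (Fin 2) ℤ_[p]) : Matrix (Fin 2) (Fin 2) ℤ_[p]) =
            !![1 + (p : ℤ_[p]) ^ n * a, (p : ℤ_[p]) ^ (n + 1) * b;
               (p : ℤ_[p]) ^ (n + 1) * c, 1 + (p : ℤ_[p]) ^ (n + 1) * d]) := by
  constructor
  · intro hs
    refine ⟨?_, ?_⟩
    · rw [MonoidHom.coe_comp]
      exact (map_toZMod_surjective p).comp hs
    · intro n hn
      have hpn : (p : ℤ_[p]) ^ n ∈ IsLocalRing.maximalIdeal ℤ_[p] := by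
        rw [PadicInt.maximalIdeal_eq_span_p]
        exact Ideal.pow_mem_of_mem _ (Ideal.mem_span_singleton_self _) n hn
      have hu : IsUnit (1 + (p : ℤ_[p]) ^ n) := by
        rw [← IsLocalRing.notMem_maximalIdeal]
        intro h
        have h1 : (1 : ℤ_[p]) ∈ IsLocalRing.maximalIdeal ℤ_[p] := by
          have := Ideal.sub_mem _ h hpn
          rwa [add_sub_cancel_right] at this
        exact (Ideal.ne_top_iff_one _).mp (IsLocalRing.maximalIdeal.isMaximal _).ne_top h1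
      have hdet : IsUnit (!![1 + (p : ℤ_[p]) ^ n * 1, (p : ℤ_[p]) ^ (n + 1) * 0;
          (p : ℤ_[p]) ^ (n + 1) * 0, 1 + (p : ℤ_[p]) ^ (n + 1) * 0] :
          Matrix (Fin 2) (Fin 2) ℤ_[p]).det := by
        rw [Matrix.det_fin_two_of]
        simp only [mul_zero, mul_one, add_zero, sub_zero]
        exact hu
      obtain ⟨γ, hγ⟩ := hs (Matrix.GeneralLinearGroup.mk'' _ hdet)
      refine ⟨γ, 1, 0, 0, 0, ?_, ?_⟩
      · intro h
        exact (PadicInt.prime_p (p := p)).not_unit (isUnit_of_dvd_one h)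
      · rw [hγ]
        rfl
  · rintro ⟨h1, h2⟩
    exact surjective_of p 𝔊 ϕ hϕ h1 h2

end padic

end Groth.Agent.Helper3.GL2Zp
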