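import Mathlib
import Groth.Agent.Lib.Helper6.GLatCover.PermH1

/-!
# Lattices over a finite group: basic exactness lemmas (for S18685, S18686, S18687)

Unfolded forms `Equivar`, `Perm`, `Cofl`, `Flas` of the `GLat` predicates (valid for an arbitrary
`Module ℤ` instance), the norm `nrm ρ H`, the augmentation span `augS ρ H`, and:

* `flas_of_exact`: in `0 → L → F → F₁ → 0`, `L` and `F₁` flasque imply `F` flasque;
* `cofl_of_exact`: in `0 → Q → E → P → 0`, `Q` and `P` coflasque imply `E` coflasque;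
* `flas_of_quot`: criterion for the cokernel of `A → P` to be flasque (injectivity of `Ĥ⁰`);
* `flas_permRep`, `cofl_permRep`, `perm_permRep`: permutation modules `X → ℤ`.
-/

set_option autoImplicit false
set_option linter.unusedSectionVars false
set_option linter.unusedVariables false

noncomputable section

namespace Groth.Agent.Helper3.GLat

open Groth.Agent.Lib.Helper6.GLatCover (permRep permRep_apply permRep_H1)

variable {G : Type} [Group G]

section Defs

variable {M N : Type*} [AddCommGroup M] [Module ℤ M] [AddCommGroup N] [Module ℤ N]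

/-- unfolded form of `GLat.IsEquivariant` -/
def Equivar (ρ : Representation ℤ G M) (σ : Representation ℤ G N) (f : M →ₗ[ℤ] N) : Prop :=
  ∀ (g : G) (m : M), f (ρ g m) = σ g (f m)

/-- unfolded form of `GLat.IsPermutation` -/
def Perm (ρ : Representation ℤ G M) : Prop :=
  ∃ (ι : Type) (b : Module.Basis ι ℤ M), ∀ (g : G) (i : ι), ∃ j : ι, ρ g (b i) = b j

/-- unfolded form of `GLat.IsCoflasque` -/
def Cofl (ρ : Representation ℤ G M) : Prop :=
  ∀ (H : Subgroup G) (f : H → M), (∀ a b : H, f (a * b) = f a + ρ (a : G) (f b)) →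
    ∃ m : M, ∀ a : H, f a = ρ (a : G) m - m

/-- unfolded form of `GLat.IsFlasque` -/
def Flas (ρ : Representation ℤ G M) : Prop :=
  ∀ (H : Subgroup G) (m : M), (∑ᶠ h : H, ρ (h : G) m) = 0 →
    m ∈ Submodule.span ℤ {x : M | ∃ (h : H) (y : M), x = ρ (h : G) y - y}

/-- the augmentation span -/
abbrev augS (ρ : Representation ℤ G M) (H : Subgroup G) : Submodule ℤ M :=
  Submodule.span ℤ {x : M | ∃ (h : H) (y : M), x = ρ (h : G) y - y}

end Defs

section Nrm

variable [Finite G] {M N : Type*} [AddCommGroup M] [mM : Module ℤ M] [AddCommGroup N]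
  [mN : Module ℤ N]
  (ρ : Representation ℤ G M) (σ : Representation ℤ G N) (H : Subgroup G)

/-- the norm `∑_{h ∈ H} h` as a linear map -/
def nrm : M →ₗ[ℤ] M where
  toFun m := ∑ᶠ h : H, ρ (h : G) m
  map_add' x y := by
    haveI := Fintype.ofFinite H
    simp only [finsum_eq_sum_of_fintype, map_add, Finset.sum_add_distrib]
  map_smul' c x := by
    obtain rfl : mM = AddCommGroup.toIntModule M := Subsingleton.elim _ _
    haveI := Fintype.ofFinite H
    simp only [finsum_eq_sum_of_fintype, map_smul, Finset.smul_sum, RingHom.id_apply]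

theorem nrm_apply (m : M) : nrm ρ H m = ∑ᶠ h : H, ρ (h : G) m := rfl

theorem nrm_eq_sum [Fintype H] (m : M) : nrm ρ H m = ∑ h : H, ρ (h : G) m :=
  finsum_eq_sum_of_fintype _

variable {ρ σ H}

theorem flas_iff : Flas ρ ↔ ∀ (H : Subgroup G) (m : M), nrm ρ H m = 0 → m ∈ augS ρ H := Iff.rfl

theorem nrm_rho (k : H) (m : M) : nrm ρ H (ρ (k : G) m) = nrm ρ H m := by
  haveI := Fintype.ofFinite H
  rw [nrm_eq_sum, nrm_eq_sum]
  rw [← Equiv.sum_comp (Equiv.mulRight k) (fun h : H => ρ (h : G) m)]
  apply Finset.sum_congr rfl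
  intro h _
  rw [Equiv.coe_mulRight, Subgroup.coe_mul, map_mul, Module.End.mul_apply]

theorem rho_nrm (k : H) (m : M) : ρ (k : G) (nrm ρ H m) = nrm ρ H m := by
  haveI := Fintype.ofFinite H
  rw [nrm_eq_sum, map_sum]
  rw [← Equiv.sum_comp (Equiv.mulLeft k) (fun h : H => ρ (h : G) m)]
  apply Finset.sum_congr rfl
  intro h _
  rw [Equiv.coe_mulLeft, Subgroup.coe_mul, map_mul, Module.End.mul_apply]

theorem nrm_of_inv [Fintype H] {a : M} (h : ∀ k : H, ρ (k : G) a = a) :
    nrm ρ H a = (Fintype.card H : ℤ) • a := by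
  obtain rfl : mM = AddCommGroup.toIntModule M := Subsingleton.elim _ _
  rw [nrm_eq_sum, Finset.sum_congr rfl (fun k _ => h k), Finset.sum_const, Finset.card_univ]
  exact (Nat.cast_smul_eq_nsmul ℤ _ _).symm

theorem Equivar.map_nrm {f : M →ₗ[ℤ] N} (hf : Equivar ρ σ f) (m : M) :
    f (nrm ρ H m) = nrm σ H (f m) := by
  haveI := Fintype.ofFinite H
  rw [nrm_eq_sum, nrm_eq_sum, map_sum]
  exact Finset.sum_congr rfl (fun h _ => hf _ _)

theorem nrm_augS {x : M} (hx : x ∈ augS ρ H) : nrm ρ H x = 0 := by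
  obtain rfl : mM = AddCommGroup.toIntModule M := Subsingleton.elim _ _
  induction hx using Submodule.span_induction with
  | mem x hx =>
    obtain ⟨h, y, rfl⟩ := hx
    rw [map_sub, nrm_rho, sub_self]
  | zero => exact map_zero _
  | add x y _ _ hx hy => rw [map_add, hx, hy, add_zero]
  | smul c x _ hx => rw [map_smul, hx, smul_zero]

theorem Equivar.map_augS {f : M →ₗ[ℤ] N} (hf : Equivar ρ σ f) {x : M} (hx : x ∈ augS ρ H) :
    f x ∈ augS σ H := by
  obtain rfl : mM = AddCommGroup.toIntModule M := Subsingleton.elim _ _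
  obtain rfl : mN = AddCommGroup.toIntModule N := Subsingleton.elim _ _
  induction hx using Submodule.span_induction with
  | mem x hx =>
    obtain ⟨h, y, rfl⟩ := hx
    rw [map_sub, hf]
    exact Submodule.subset_span ⟨h, f y, rfl⟩
  | zero => rw [map_zero]; exact zero_mem _
  | add x y _ _ hx hy => rw [map_add]; exact add_mem hx hy
  | smul c x _ hx => rw [map_smul]; exact Submodule.smul_mem _ _ hx

theorem Equivar.lift_augS {f : M →ₗ[ℤ] N} (hf : Equivar ρ σ f) (hs : Function.Surjective f)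
    {z : N} (hz : z ∈ augS σ H) : ∃ w ∈ augS ρ H, f w = z := by
  obtain rfl : mM = AddCommGroup.toIntModule M := Subsingleton.elim _ _
  obtain rfl : mN = AddCommGroup.toIntModule N := Subsingleton.elim _ _
  induction hz using Submodule.span_induction with
  | mem x hx =>
    obtain ⟨h, y, rfl⟩ := hx
    obtain ⟨y', rfl⟩ := hs y
    exact ⟨ρ h y' - y', Submodule.subset_span ⟨h, y', rfl⟩, by rw [map_sub, hf]⟩
  | zero => exact ⟨0, zero_mem _, map_zero _⟩
  | add x y _ _ hx hy =>
    obtain ⟨w1, h1, rfl⟩ := hx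
    obtain ⟨w2, h2, rfl⟩ := hy
    exact ⟨w1 + w2, add_mem h1 h2, map_add _ _ _⟩
  | smul c x _ hx =>
    obtain ⟨w, h1, rfl⟩ := hx
    exact ⟨c • w, Submodule.smul_mem _ _ h1, map_smul _ _ _⟩

end Nrm

section Exact

variable [Finite G]

/-- In `0 → L → F → F₁ → 0` with `L`, `F₁` flasque, `F` is flasque. -/
theorem flas_of_exact {L F F₁ : Type*} [AddCommGroup L] [Module ℤ L] [AddCommGroup F] [Module ℤ F]
    [AddCommGroup F₁] [Module ℤ F₁]
    {lam : Representation ℤ G L} {τ : Representation ℤ G F} {τ₁ : Representation ℤ G F₁}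
    {j : L →ₗ[ℤ] F} {π : F →ₗ[ℤ] F₁} (hj : Equivar lam τ j) (hπ : Equivar τ τ₁ π)
    (hinj : Function.Injective j) (hsurj : Function.Surjective π)
    (hex : LinearMap.range j = LinearMap.ker π)
    (hL : Flas lam) (hF₁ : Flas τ₁) : Flas τ := by
  rw [flas_iff] at hL hF₁ ⊢
  intro H f hf
  have h1 : nrm τ₁ H (π f) = 0 := by rw [← hπ.map_nrm, hf, map_zero]
  obtain ⟨w, hw, hwf⟩ := hπ.lift_augS hsurj (hF₁ H _ h1)
  have h2 : f - w ∈ LinearMap.ker π := by rw [LinearMap.mem_ker, map_sub, hwf, sub_self]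
  rw [← hex] at h2
  obtain ⟨l, hl⟩ := h2
  have h3 : nrm lam H l = 0 := by
    apply hinj
    rw [hj.map_nrm, hl, map_sub, hf, nrm_augS hw, sub_zero, map_zero]
  have h4 := hj.map_augS (hL H l h3)
  rw [hl] at h4
  have : f = (f - w) + w := by abel
  rw [this]
  exact add_mem h4 hw

/-- In `0 → Q → E → P → 0` with `Q`, `P` coflasque, `E` is coflasque. -/
theorem cofl_of_exact {Q E P : Type*} [AddCommGroup Q] [Module ℤ Q] [AddCommGroup E] [Module ℤ E]
    [AddCommGroup P] [Module ℤ P]
    {σ : Representation ℤ G Q} {τ : Representation ℤ G E} {ρP : Representation ℤ G P}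
    {j : Q →ₗ[ℤ] E} {π : E →ₗ[ℤ] P} (hj : Equivar σ τ j) (hπ : Equivar τ ρP π)
    (hinj : Function.Injective j) (hsurj : Function.Surjective π)
    (hex : LinearMap.range j = LinearMap.ker π)
    (hQ : Cofl σ) (hP : Cofl ρP) : Cofl τ := by
  intro H f hf
  obtain ⟨x, hx⟩ := hP H (fun a => π (f a)) (by
    intro a b
    show π (f (a * b)) = π (f a) + ρP (a : G) (π (f b))
    rw [hf, map_add, hπ])
  obtain ⟨e, rfl⟩ := hsurj x
  have hker : ∀ a : H, f a - (τ (a : G) e - e) ∈ LinearMap.range j := by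
    intro a
    have h0 : π (f a) = ρP (a : G) (π e) - π e := hx a
    rw [hex, LinearMap.mem_ker, map_sub, map_sub, hπ, h0, sub_self]
  choose c hc using hker
  have hcc : ∀ a b : H, c (a * b) = c a + σ (a : G) (c b) := by
    intro a b
    apply hinj
    rw [map_add, hj, hc, hc, hc, hf, Subgroup.coe_mul, map_mul, Module.End.mul_apply, map_sub,
      map_sub]
    abel
  obtain ⟨q, hq⟩ := hQ H c hcc
  refine ⟨j q + e, fun a => ?_⟩
  have h4 := hc a
  rw [hq a, map_sub, hj] at h4
  rw [map_add]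
  have h5 : f a = (τ (a : G) (j q) - j q) + (τ (a : G) e - e) := by rw [h4]; abel
  rw [h5]; abel

/-- Criterion for the cokernel of `A → P` to be flasque. -/
theorem flas_of_quot {A P F : Type*} [AddCommGroup A] [Module ℤ A] [AddCommGroup P] [Module ℤ P]
    [AddCommGroup F] [Module ℤ F]
    {ρ : Representation ℤ G A} {σ : Representation ℤ G P} {τ : Representation ℤ G F}
    {i : A →ₗ[ℤ] P} {π : P →ₗ[ℤ] F} (hi : Equivar ρ σ i) (hπ : Equivar σ τ π)
    (hinj : Function.Injective i) (hsurj : Function.Surjective π)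
    (hex : LinearMap.range i = LinearMap.ker π)
    (hP : Flas σ)
    (hcond : ∀ (K : Subgroup G) (a : A), (∀ k : K, ρ (k : G) a = a) →
      (∃ x, i a = nrm σ K x) → ∃ a', a = nrm ρ K a') :
    Flas τ := by
  rw [flas_iff] at hP ⊢
  intro K f hf
  obtain ⟨x, rfl⟩ := hsurj f
  have h1 : nrm σ K x ∈ LinearMap.ker π := by rw [LinearMap.mem_ker, hπ.map_nrm, hf]
  rw [← hex] at h1
  obtain ⟨a, ha⟩ := h1
  have hinv : ∀ k : K, ρ (k : G) a = a := by
    intro k
    apply hinj
    rw [hi, ha, rho_nrm]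
  obtain ⟨a', rfl⟩ := hcond K a hinv ⟨x, ha⟩
  have h2 : nrm σ K (x - i a') = 0 := by rw [map_sub, ← ha, hi.map_nrm, sub_self]
  have h3 := hπ.map_augS (hP K _ h2)
  have h4 : π (i a') = 0 := by
    have : i a' ∈ LinearMap.range i := ⟨a', rfl⟩
    rw [hex] at this
    exact this
  rw [map_sub, h4, sub_zero] at h3
  exact h3

end Exact

section PermMod

variable {X : Type} [MulAction G X]

theorem permRep_single' [DecidableEq X] (g : G) (x : X) :
    permRep G X g (Pi.single x (1 : ℤ)) = Pi.single (g • x) (1 : ℤ) := by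
  funext y
  rw [permRep_apply, Pi.single_apply, Pi.single_apply]
  by_cases h : y = g • x
  · rw [if_pos h, if_pos (by rw [h, inv_smul_smul])]
  · rw [if_neg h, if_neg (by rw [inv_smul_eq_iff]; exact h)]

theorem perm_permRep [Finite X] : Perm (permRep G X) := by
  classical
  refine ⟨X, Pi.basisFun ℤ X, fun g x => ⟨g • x, ?_⟩⟩
  rw [Pi.basisFun_apply, Pi.basisFun_apply]
  exact permRep_single' g x

theorem cofl_permRep [Finite G] : Cofl (permRep G X) := fun H f hf => permRep_H1 H f hf

/-- orbit representatives for a subgroup action -/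
theorem exists_rep (K : Subgroup G) :
    ∃ rep : X → X, (∀ s, ∃ δ : K, (δ : G) • s = rep s) ∧
      (∀ (γ : K) (s : X), rep ((γ : G) • s) = rep s) ∧ (∀ s, rep (rep s) = rep s) := by
  let rep : X → X := fun s => Quotient.out (Quotient.mk (MulAction.orbitRel K X) s)
  have hrep : ∀ s, ∃ δ : K, (δ : G) • s = rep s := by
    intro s
    have : (MulAction.orbitRel K X) (rep s) s := Quotient.mk_out (s := MulAction.orbitRel K X) s
    rw [MulAction.orbitRel_apply] at this
    obtain ⟨δ, hδ⟩ := this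
    exact ⟨δ, hδ⟩
  have hrep_smul : ∀ (γ : K) (s : X), rep ((γ : G) • s) = rep s := by
    intro γ s
    have : Quotient.mk (MulAction.orbitRel K X) ((γ : G) • s) =
        Quotient.mk (MulAction.orbitRel K X) s := by
      apply Quotient.sound
      show (MulAction.orbitRel K X) ((γ : G) • s) s
      rw [MulAction.orbitRel_apply]
      exact MulAction.mem_orbit s γ
    show Quotient.out _ = Quotient.out _
    rw [this]
  refine ⟨rep, hrep, hrep_smul, fun s => ?_⟩
  obtain ⟨δ, hδ⟩ := hrep s
  rw [← hδ, hrep_smul]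
  exact hδ.symm

/-- `Ĥ⁻¹(K, ℤ[X]) = 0`. -/
theorem flas_permRep [Finite G] [Finite X] : Flas (permRep G X) := by
  classical
  rw [flas_iff]
  intro K x hx
  haveI := Fintype.ofFinite X
  haveI := Fintype.ofFinite K
  obtain ⟨rep, hrep, hrep_smul, hrep_idem⟩ := exists_rep (X := X) K
  have hsingle : ∀ s : X,
      (Pi.single s (1 : ℤ) : X → ℤ) - Pi.single (rep s) 1 ∈ augS (permRep G X) K := by
    intro s
    obtain ⟨δ, hδ⟩ := hrep s
    have h1 : (Pi.single (rep s) (1 : ℤ) : X → ℤ) - Pi.single s 1 ∈ augS (permRep G X) K := by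
      apply Submodule.subset_span
      refine ⟨δ, Pi.single s 1, ?_⟩
      rw [permRep_single', hδ]
    have h2 := neg_mem h1
    rwa [neg_sub] at h2
  obtain ⟨y, hy⟩ : ∃ y : X → ℤ, y = ∑ s, x s • (Pi.single (rep s) (1 : ℤ) : X → ℤ) := ⟨_, rfl⟩
  have hxsum : x = ∑ s, x s • (Pi.single s (1 : ℤ) : X → ℤ) := by
    funext t
    rw [Finset.sum_apply]
    simp only [Pi.smul_apply, Pi.single_apply, smul_eq_mul, mul_ite, mul_one, mul_zero]
    rw [Finset.sum_ite_eq]
    simp
  have hxy : x - y ∈ augS (permRep G X) K := by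
    have : x - y = ∑ s, x s • ((Pi.single s (1 : ℤ) : X → ℤ) - Pi.single (rep s) 1) := by
      have h0 : x - y = (∑ s, x s • (Pi.single s (1 : ℤ) : X → ℤ)) -
          ∑ s, x s • (Pi.single (rep s) (1 : ℤ) : X → ℤ) := by rw [hy, ← hxsum]
      rw [h0, ← Finset.sum_sub_distrib]
      exact Finset.sum_congr rfl (fun s _ => (smul_sub _ _ _).symm)
    rw [this]
    exact Submodule.sum_mem _ (fun s _ => Submodule.smul_mem _ _ (hsingle s))
  have hNy : nrm (permRep G X) K y = 0 := by
    have : y = x - (x - y) := by abel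
    rw [this, map_sub, hx, nrm_augS hxy, sub_zero]
  have hy_apply : ∀ t, y t = ∑ s, if t = rep s then x s else 0 := by
    intro t
    rw [hy, Finset.sum_apply]
    apply Finset.sum_congr rfl
    intro s _
    simp only [Pi.smul_apply, Pi.single_apply, smul_eq_mul, mul_ite, mul_one, mul_zero]
  have hy_nonrep : ∀ t, rep t ≠ t → y t = 0 := by
    intro t ht
    rw [hy_apply]
    apply Finset.sum_eq_zero
    intro s _
    rw [if_neg]
    intro h
    apply ht
    rw [h, hrep_idem]
  have hy0 : y = 0 := by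
    funext t
    by_cases ht : rep t = t
    · have h1 := congrFun hNy t
      rw [nrm_eq_sum, Finset.sum_apply] at h1
      have h2 : ∀ k : K, permRep G X (k : G) y t = if (k : G)⁻¹ • t = t then y t else 0 := by
        intro k
        rw [permRep_apply]
        by_cases hk : (k : G)⁻¹ • t = t
        · rw [if_pos hk, hk]
        · rw [if_neg hk]
          apply hy_nonrep
          have h3 := hrep_smul (k⁻¹) t
          rw [Subgroup.coe_inv, ht] at h3
          rw [h3]
          exact fun h => hk h.symm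
      rw [Finset.sum_congr rfl (fun k _ => h2 k), Finset.sum_ite, Finset.sum_const_zero, add_zero,
        Finset.sum_const, nsmul_eq_mul] at h1
      have hcard : (Finset.univ.filter (fun k : K => (k : G)⁻¹ • t = t)).card ≠ 0 := by
        apply Finset.card_ne_zero_of_mem (a := (1 : K))
        simp
      rcases mul_eq_zero.mp h1 with h | h
      · exact absurd (by exact_mod_cast h) hcard
      · exact h
    · exact hy_nonrep t ht
  rw [hy0, sub_zero] at hxy
  exact hxy

end PermMod

end Groth.Agent.Helper3.GLat
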