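import Groth.Agent.Lib.Helper3.GLatBase1

/-!
# Flasque resolution of a lattice (S18686), without duality

For a `G`-lattice `A` we embed `A` into the permutation lattice
`P = ⊕_{K ≤ G} Map(G/K, N_K A)`, `a ↦ (gK ↦ N_K(g⁻¹ a))`, where `N_K A` is the image of the norm.
The `K = ⊥` component shows that `A` is saturated in `P`, and the `K`-component shows that
`Ĥ⁰(K, A) → Ĥ⁰(K, P)` is injective, so that `P/A` is a flasque lattice (`flas_of_quot`).
Main result: `res_flasque`.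
-/

set_option autoImplicit false
set_option linter.unusedSectionVars false
set_option linter.unusedVariables false

noncomputable section

namespace Groth.Agent.Helper3.GLat

open Groth.Agent.Lib.Helper6.GLatCover (permRep permRep_apply permRep_H1)

variable {G : Type} [Group G] [Finite G] {A : Type} [AddCommGroup A]
  [Module.Finite ℤ A] [Module.Free ℤ A] (ρ : Representation ℤ G A)

/-- the lattice `N_K A` -/
abbrev MK (K : Subgroup G) : Submodule ℤ A := LinearMap.range (nrm ρ K)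

/-- the norm, with values in its image -/
def θ (K : Subgroup G) : A →ₗ[ℤ] MK ρ K := (nrm ρ K).rangeRestrict

theorem θ_coe (K : Subgroup G) (a : A) : ((θ ρ K a : MK ρ K) : A) = nrm ρ K a := rfl

/-- rank of `N_K A` -/
def nK (K : Subgroup G) : ℕ :=
  (Submodule.basisOfPid (Module.Free.chooseBasis ℤ A) (MK ρ K)).1

/-- a basis of `N_K A` -/
def bK (K : Subgroup G) : Module.Basis (Fin (nK ρ K)) ℤ (MK ρ K) :=
  (Submodule.basisOfPid (Module.Free.chooseBasis ℤ A) (MK ρ K)).2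

/-- the `G`-set `⊔_K G/K × (basis of N_K A)` -/
def XF : Type := Σ K : Subgroup G, ((G ⧸ K) × Fin (nK ρ K))

/-- constructor for `XF` -/
def mkF (K : Subgroup G) (q : G ⧸ K) (j : Fin (nK ρ K)) : XF ρ := ⟨K, (q, j)⟩

theorem XF_cases (x : XF ρ) : ∃ (K : Subgroup G) (q : G ⧸ K) (j : Fin (nK ρ K)), x = mkF ρ K q j := by
  obtain ⟨K, q, j⟩ := x
  exact ⟨K, q, j, rfl⟩

instance : SMul G (XF ρ) := ⟨fun g x => mkF ρ x.1 (g • x.2.1) x.2.2⟩

theorem smul_mkF (g : G) (K : Subgroup G) (q : G ⧸ K) (j : Fin (nK ρ K)) :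
    g • mkF ρ K q j = mkF ρ K (g • q) j := rfl

instance : MulAction G (XF ρ) where
  one_smul x := by
    obtain ⟨K, q, j, rfl⟩ := XF_cases ρ x
    rw [smul_mkF, one_smul]
  mul_smul g h x := by
    obtain ⟨K, q, j, rfl⟩ := XF_cases ρ x
    rw [smul_mkF, smul_mkF, smul_mkF, mul_smul]

instance : Finite (XF ρ) := by
  unfold XF
  infer_instance

/-- coordinates of the embedding -/
def coordF (x : XF ρ) : A →ₗ[ℤ] ℤ :=
  (Finsupp.lapply x.2.2) ∘ₗ ((bK ρ x.1).repr.toLinearMap) ∘ₗ (θ ρ x.1) ∘ₗ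
    (ρ (x.2.1.out)⁻¹ : A →ₗ[ℤ] A)

/-- the embedding `A → P` -/
def iF : A →ₗ[ℤ] (XF ρ → ℤ) := LinearMap.pi (coordF ρ)

theorem iF_apply (a : A) (K : Subgroup G) (q : G ⧸ K) (j : Fin (nK ρ K)) :
    iF ρ a (mkF ρ K q j) = (bK ρ K).repr (θ ρ K (ρ (q.out)⁻¹ a)) j := rfl

theorem nrm_congr (K : Subgroup G) {g₁ g₂ : G} (h : (g₁ : G ⧸ K) = g₂) (a : A) :
    nrm ρ K (ρ g₁⁻¹ a) = nrm ρ K (ρ g₂⁻¹ a) := by
  rw [QuotientGroup.eq] at h
  have h1 : ρ g₁⁻¹ a = ρ ((⟨g₁⁻¹ * g₂, h⟩ : K) : G) (ρ g₂⁻¹ a) := by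
    rw [← Module.End.mul_apply, ← map_mul]
    simp [mul_assoc]
  rw [h1, nrm_rho]

theorem θ_congr (K : Subgroup G) {g₁ g₂ : G} (h : (g₁ : G ⧸ K) = g₂) (a : A) :
    θ ρ K (ρ g₁⁻¹ a) = θ ρ K (ρ g₂⁻¹ a) := Subtype.ext (nrm_congr ρ K h a)

theorem iF_apply_mk (a : A) (K : Subgroup G) (g : G) (j : Fin (nK ρ K)) :
    iF ρ a (mkF ρ K (g : G ⧸ K) j) = (bK ρ K).repr (θ ρ K (ρ g⁻¹ a)) j := by
  rw [iF_apply, θ_congr ρ K (QuotientGroup.out_eq' _) a]

theorem iF_equivar : Equivar ρ (permRep G (XF ρ)) (iF ρ) := by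
  intro h a
  funext x
  obtain ⟨K, q, j, rfl⟩ := XF_cases ρ x
  obtain ⟨g, rfl⟩ := QuotientGroup.mk_surjective q
  rw [permRep_apply, smul_mkF, MulAction.Quotient.smul_mk, iF_apply_mk, iF_apply_mk]
  have h1 : ρ g⁻¹ (ρ h a) = ρ (h⁻¹ • g)⁻¹ a := by
    rw [smul_eq_mul, mul_inv_rev, inv_inv, map_mul, Module.End.mul_apply]
  rw [h1]

theorem nrm_bot (a : A) : nrm ρ (⊥ : Subgroup G) a = a := by
  haveI : Fintype (⊥ : Subgroup G) := Fintype.ofFinite _
  rw [nrm_eq_sum, Fintype.sum_unique]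
  have : ((default : (⊥ : Subgroup G)) : G) = 1 := Subgroup.mem_bot.mp (default : (⊥ : Subgroup G)).2
  rw [this, map_one, Module.End.one_apply]

theorem eq_smul_of_repr (K : Subgroup G) (m : MK ρ K) (n : ℤ) (c : Fin (nK ρ K) → ℤ)
    (h : ∀ j, (bK ρ K).repr m j = n * c j) :
    m = n • ∑ j, c j • bK ρ K j := by
  conv_lhs => rw [← (bK ρ K).sum_repr m]
  rw [Finset.smul_sum]
  apply Finset.sum_congr rfl
  intro j _
  rw [h j, mul_smul]

theorem iF_saturated (n : ℤ) (p : XF ρ → ℤ) (a : A) (h : n • p = iF ρ a) :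
    ∃ a', a = n • a' := by
  have h1 : ∀ j, (bK ρ ⊥).repr (θ ρ ⊥ a) j = n * p (mkF ρ ⊥ ((1 : G) : G ⧸ (⊥ : Subgroup G)) j) := by
    intro j
    have h0 := congrFun h (mkF ρ ⊥ ((1 : G) : G ⧸ (⊥ : Subgroup G)) j)
    rw [iF_apply_mk, inv_one, map_one, Module.End.one_apply, Pi.smul_apply, smul_eq_mul] at h0
    exact h0.symm
  have h2 := eq_smul_of_repr ρ ⊥ (θ ρ ⊥ a) n _ h1
  refine ⟨((∑ j, p (mkF ρ ⊥ ((1 : G) : G ⧸ (⊥ : Subgroup G)) j) • bK ρ ⊥ j : MK ρ ⊥) : A), ?_⟩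
  have h3 := congrArg Subtype.val h2
  rw [θ_coe, nrm_bot] at h3
  rw [h3]
  rfl

theorem iF_injective : Function.Injective (iF ρ) := by
  rw [← LinearMap.ker_eq_bot, LinearMap.ker_eq_bot']
  intro a ha
  obtain ⟨a', rfl⟩ := iF_saturated ρ 0 0 a (by rw [zero_smul, ha])
  exact zero_smul _ _

theorem iF_cond (K : Subgroup G) (a : A) (hinv : ∀ k : K, ρ (k : G) a = a)
    (hx : ∃ x, iF ρ a = nrm (permRep G (XF ρ)) K x) : ∃ a', a = nrm ρ K a' := by
  obtain ⟨x, hx⟩ := hx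
  haveI := Fintype.ofFinite K
  have h1 : ∀ j, (bK ρ K).repr (θ ρ K a) j =
      (Fintype.card K : ℤ) * x (mkF ρ K ((1 : G) : G ⧸ K) j) := by
    intro j
    have h0 := congrFun hx (mkF ρ K ((1 : G) : G ⧸ K) j)
    rw [iF_apply_mk, inv_one, map_one, Module.End.one_apply, nrm_eq_sum, Finset.sum_apply] at h0
    rw [h0]
    rw [Finset.sum_congr rfl (g := fun _ => x (mkF ρ K ((1 : G) : G ⧸ K) j))]
    · rw [Finset.sum_const, Finset.card_univ, nsmul_eq_mul]
    · intro k _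
      rw [permRep_apply, smul_mkF, MulAction.Quotient.smul_mk, smul_eq_mul, mul_one]
      have h5 : (((k : G)⁻¹ : G) : G ⧸ K) = ((1 : G) : G ⧸ K) := by
        rw [QuotientGroup.eq, inv_inv, mul_one]
        exact k.2
      rw [h5]
  have h2 := eq_smul_of_repr ρ K (θ ρ K a) _ _ h1
  obtain ⟨a', ha'⟩ := (∑ j, x (mkF ρ K ((1 : G) : G ⧸ K) j) • bK ρ K j : MK ρ K).2
  have h3 := congrArg Subtype.val h2
  rw [θ_coe, nrm_of_inv hinv] at h3
  refine ⟨a', ?_⟩
  have hcard : (Fintype.card K : ℤ) ≠ 0 := by exact_mod_cast Fintype.card_ne_zero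
  apply smul_right_injective A hcard
  simp only []
  rw [h3, ha']
  rfl

/-- the cokernel lattice -/
abbrev FF : Type := (XF ρ → ℤ) ⧸ LinearMap.range (iF ρ)

theorem range_invariant (g : G) :
    LinearMap.range (iF ρ) ≤ (LinearMap.range (iF ρ)).comap (permRep G (XF ρ) g) := by
  rintro _ ⟨a, rfl⟩
  exact ⟨ρ g a, iF_equivar ρ g a⟩

/-- the representation on the cokernel -/
def τF : Representation ℤ G (FF ρ) :=
  (permRep G (XF ρ)).quotient (LinearMap.range (iF ρ)) (range_invariant ρ)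

theorem τF_mk (g : G) (p : XF ρ → ℤ) :
    τF ρ g ((LinearMap.range (iF ρ)).mkQ p) = (LinearMap.range (iF ρ)).mkQ (permRep G (XF ρ) g p) :=
  rfl

theorem FF_torsionFree : Module.IsTorsionFree ℤ (FF ρ) := by
  apply Module.IsTorsionFree.of_smul_eq_zero
  intro n f hf
  by_cases hn : n = 0
  · exact Or.inl hn
  right
  obtain ⟨p, rfl⟩ := Submodule.mkQ_surjective _ f
  rw [← map_smul, Submodule.mkQ_apply, Submodule.Quotient.mk_eq_zero] at hf
  obtain ⟨a, ha⟩ := hf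
  obtain ⟨a', rfl⟩ := iF_saturated ρ n p a ha.symm
  rw [Submodule.mkQ_apply, Submodule.Quotient.mk_eq_zero]
  refine ⟨a', ?_⟩
  apply smul_right_injective (XF ρ → ℤ) hn
  simp only []
  rw [← map_smul]
  exact ha

/-- Flasque resolution of a lattice, with all the properties of the middle term. -/
theorem res_flasque :
    ∃ (P : Type) (_ : AddCommGroup P) (mP : Module ℤ P) (F : Type) (_ : AddCommGroup F)
      (mF : Module ℤ F)
      (_ : Module.Finite ℤ P) (_ : Module.Free ℤ P) (_ : Module.Finite ℤ F) (_ : Module.Free ℤ F)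
      (σ : Representation ℤ G P) (τ : Representation ℤ G F) (i : A →ₗ[ℤ] P) (π : P →ₗ[ℤ] F),
      Equivar ρ σ i ∧ Equivar σ τ π ∧ Function.Injective i ∧ Function.Surjective π ∧
      LinearMap.range i = LinearMap.ker π ∧ Perm σ ∧ Cofl σ ∧ Flas σ ∧ Flas τ := by
  haveI : Module.IsTorsionFree ℤ (FF ρ) := FF_torsionFree ρ
  have hπ : Equivar (permRep G (XF ρ)) (τF ρ) (LinearMap.range (iF ρ)).mkQ := fun g p => rfl
  refine ⟨XF ρ → ℤ, inferInstance, inferInstance, FF ρ, inferInstance, inferInstance,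
    inferInstance, inferInstance, inferInstance, inferInstance, permRep G (XF ρ), τF ρ, iF ρ,
    (LinearMap.range (iF ρ)).mkQ, iF_equivar ρ, hπ, iF_injective ρ, Submodule.mkQ_surjective _,
    (Submodule.ker_mkQ _).symm, perm_permRep, cofl_permRep, flas_permRep, ?_⟩
  exact flas_of_quot (iF_equivar ρ) hπ (iF_injective ρ) (Submodule.mkQ_surjective _)
    (Submodule.ker_mkQ _).symm flas_permRep (iF_cond ρ)

end Groth.Agent.Helper3.GLat
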