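import Groth.Agent.Lib.Helper3.GLatRes1
import Groth.Agent.Lib.Helper6.GLatCover.Main

/-!
# Coflasque resolution (S18687) and flasque cover (S18685)

* `res_coflasque`: `0 → A → Q → P → 0` with `Q` coflasque, `P` permutation: pull back the flasque
  resolution `0 → A → P₁ → F → 0` along a coflasque cover `0 → Q' → P₂ → F → 0` (Helper6).
* `cover_flasque`: `0 → P → F → A → 0` with `P` permutation, `F` flasque: push out the flasque
  resolution of the kernel of a permutation cover `L → A`.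
-/

set_option autoImplicit false
set_option linter.unusedSectionVars false
set_option linter.unusedVariables false

noncomputable section

namespace Groth.Agent.Helper3.GLat

open Groth.Agent.Lib.Helper6.GLatCover (permRep permRep_apply XX ππ ππ_equivariant ππ_surjective σσ
  σσ_coe main_generic)

variable {G : Type} [Group G] [Finite G]

section Pullback

variable {A P F Q' P₂ : Type} [AddCommGroup A] [AddCommGroup P] [AddCommGroup F] [AddCommGroup Q']
  [AddCommGroup P₂]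
  (σ : Representation ℤ G P) (τ : Representation ℤ G F) (τ₂ : Representation ℤ G P₂)
  (π : P →ₗ[ℤ] F) (π₂ : P₂ →ₗ[ℤ] F)

/-- the fibre product `P ×_F P₂` -/
def pbE := LinearMap.ker (π.comp (LinearMap.fst ℤ P P₂) - π₂.comp (LinearMap.snd ℤ P P₂))

theorem mem_pbE (z : P × P₂) : z ∈ pbE π π₂ ↔ π z.1 = π₂ z.2 := by
  simp only [pbE, LinearMap.mem_ker, LinearMap.sub_apply, LinearMap.comp_apply,
    LinearMap.fst_apply, LinearMap.snd_apply, sub_eq_zero]

variable {σ τ τ₂ π π₂}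

theorem pbE_inv (hπ : Equivar σ τ π) (h2 : Equivar τ₂ τ π₂) (g : G) :
    pbE π π₂ ≤ (pbE π π₂).comap ((σ.prod τ₂) g) := by
  intro z hz
  rw [Submodule.mem_comap, mem_pbE]
  rw [mem_pbE] at hz
  show π (σ g z.1) = π₂ (τ₂ g z.2)
  rw [hπ, h2, hz]

/-- the representation on the fibre product -/
def pbRep (hπ : Equivar σ τ π) (h2 : Equivar τ₂ τ π₂) : Representation ℤ G (pbE π π₂) :=
  (σ.prod τ₂).subrepresentation (pbE π π₂) (pbE_inv hπ h2)

theorem pbRep_coe (hπ : Equivar σ τ π) (h2 : Equivar τ₂ τ π₂) (g : G) (z : pbE π π₂) :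
    ((pbRep hπ h2 g z : pbE π π₂) : P × P₂) = (σ g z.1.1, τ₂ g z.1.2) := rfl

variable (π π₂)

/-- first projection -/
def pbFst : pbE π π₂ →ₗ[ℤ] P := (LinearMap.fst ℤ P P₂).comp (pbE π π₂).subtype

/-- second projection -/
def pbSnd : pbE π π₂ →ₗ[ℤ] P₂ := (LinearMap.snd ℤ P P₂).comp (pbE π π₂).subtype

theorem pbFst_apply (z : pbE π π₂) : pbFst π π₂ z = z.1.1 := rfl
theorem pbSnd_apply (z : pbE π π₂) : pbSnd π π₂ z = z.1.2 := rfl

/-- `ker π → P ×_F P₂` -/
def pbInl (i : A →ₗ[ℤ] P) (hi : ∀ a, π (i a) = 0) : A →ₗ[ℤ] pbE π π₂ :=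
  LinearMap.codRestrict _ ((LinearMap.inl ℤ P P₂).comp i) (fun a => by
    rw [mem_pbE]
    show π (i a) = π₂ 0
    rw [hi, map_zero])

/-- `ker π₂ → P ×_F P₂` -/
def pbInr (i₂ : Q' →ₗ[ℤ] P₂) (hi₂ : ∀ q, π₂ (i₂ q) = 0) : Q' →ₗ[ℤ] pbE π π₂ :=
  LinearMap.codRestrict _ ((LinearMap.inr ℤ P P₂).comp i₂) (fun q => by
    rw [mem_pbE]
    show π 0 = π₂ (i₂ q)
    rw [hi₂, map_zero])

theorem pbInl_coe (i : A →ₗ[ℤ] P) (hi : ∀ a, π (i a) = 0) (a : A) :
    ((pbInl π π₂ i hi a : pbE π π₂) : P × P₂) = (i a, 0) := rfl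

theorem pbInr_coe (i₂ : Q' →ₗ[ℤ] P₂) (hi₂ : ∀ q, π₂ (i₂ q) = 0) (q : Q') :
    ((pbInr π π₂ i₂ hi₂ q : pbE π π₂) : P × P₂) = (0, i₂ q) := rfl

theorem pbSnd_surjective (hsurj : Function.Surjective π) : Function.Surjective (pbSnd π π₂) := by
  intro y
  obtain ⟨x, hx⟩ := hsurj (π₂ y)
  exact ⟨⟨(x, y), (mem_pbE π π₂ _).mpr hx⟩, rfl⟩

theorem pbFst_surjective (hsurj : Function.Surjective π₂) : Function.Surjective (pbFst π π₂) := by
  intro x
  obtain ⟨y, hy⟩ := hsurj (π x)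
  exact ⟨⟨(x, y), (mem_pbE π π₂ _).mpr hy.symm⟩, rfl⟩

theorem pbInl_range (i : A →ₗ[ℤ] P) (hi : ∀ a, π (i a) = 0)
    (hex : LinearMap.range i = LinearMap.ker π) :
    LinearMap.range (pbInl π π₂ i hi) = LinearMap.ker (pbSnd π π₂) := by
  ext z
  constructor
  · rintro ⟨a, rfl⟩
    rw [LinearMap.mem_ker, pbSnd_apply, pbInl_coe]
  · intro hz
    rw [LinearMap.mem_ker, pbSnd_apply] at hz
    have h1 := (mem_pbE π π₂ _).mp z.2
    rw [hz, map_zero] at h1
    have h2 : z.1.1 ∈ LinearMap.range i := by rw [hex]; exact h1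
    obtain ⟨a, ha⟩ := h2
    refine ⟨a, Subtype.ext ?_⟩
    rw [pbInl_coe]
    exact Prod.ext ha hz.symm

theorem pbInr_range (i₂ : Q' →ₗ[ℤ] P₂) (hi₂ : ∀ q, π₂ (i₂ q) = 0)
    (hex : LinearMap.range i₂ = LinearMap.ker π₂) :
    LinearMap.range (pbInr π π₂ i₂ hi₂) = LinearMap.ker (pbFst π π₂) := by
  ext z
  constructor
  · rintro ⟨a, rfl⟩
    rw [LinearMap.mem_ker, pbFst_apply, pbInr_coe]
  · intro hz
    rw [LinearMap.mem_ker, pbFst_apply] at hz
    have h1 := (mem_pbE π π₂ _).mp z.2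
    rw [hz, map_zero] at h1
    have h2 : z.1.2 ∈ LinearMap.range i₂ := by rw [hex]; exact h1.symm
    obtain ⟨a, ha⟩ := h2
    refine ⟨a, Subtype.ext ?_⟩
    rw [pbInr_coe]
    exact Prod.ext hz.symm ha

theorem pullback_core [Module.Finite ℤ P] [Module.Free ℤ P] [Module.Finite ℤ P₂]
    [Module.Free ℤ P₂]
    (ρ : Representation ℤ G A) (σ : Representation ℤ G P) (τ : Representation ℤ G F)
    (i : A →ₗ[ℤ] P) (π : P →ₗ[ℤ] F)
    (hi : Equivar ρ σ i) (hπ : Equivar σ τ π) (hinj : Function.Injective i)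
    (hsurj : Function.Surjective π) (hex : LinearMap.range i = LinearMap.ker π) (hcofl : Cofl σ)
    (σ' : Representation ℤ G Q') (τ₂ : Representation ℤ G P₂) (i₂ : Q' →ₗ[ℤ] P₂)
    (π₂ : P₂ →ₗ[ℤ] F)
    (h1 : Equivar σ' τ₂ i₂) (h2 : Equivar τ₂ τ π₂) (h3 : Function.Injective i₂)
    (h4 : Function.Surjective π₂) (h5 : LinearMap.range i₂ = LinearMap.ker π₂)
    (h6 : Perm τ₂) (h7 : Cofl σ') :
    ∃ (Q : Type) (_ : AddCommGroup Q) (mQ : Module ℤ Q) (P : Type) (_ : AddCommGroup P)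
      (mP : Module ℤ P)
      (_ : Module.Finite ℤ Q) (_ : Module.Free ℤ Q) (_ : Module.Finite ℤ P) (_ : Module.Free ℤ P)
      (σ : Representation ℤ G Q) (τ : Representation ℤ G P) (i : A →ₗ[ℤ] Q) (π : Q →ₗ[ℤ] P),
      Equivar ρ σ i ∧ Equivar σ τ π ∧ Function.Injective i ∧ Function.Surjective π ∧
      LinearMap.range i = LinearMap.ker π ∧ Cofl σ ∧ Perm τ := by
  have hiπ : ∀ a, π (i a) = 0 := by
    intro a
    have : i a ∈ LinearMap.range i := ⟨a, rfl⟩
    rw [hex] at this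
    exact this
  have hi₂π : ∀ q, π₂ (i₂ q) = 0 := by
    intro q
    have : i₂ q ∈ LinearMap.range i₂ := ⟨q, rfl⟩
    rw [h5] at this
    exact this
  haveI : IsNoetherian ℤ (P × P₂) := isNoetherian_of_isNoetherianRing_of_finite ℤ _
  have hE1 : Equivar ρ (pbRep hπ h2) (pbInl π π₂ i hiπ) := by
    intro g a
    apply Subtype.ext
    rw [pbRep_coe, pbInl_coe, pbInl_coe]
    exact Prod.ext (hi g a) (map_zero _).symm
  have hE2 : Equivar (pbRep hπ h2) τ₂ (pbSnd π π₂) := fun g z => rfl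
  have hE3 : Function.Injective (pbInl π π₂ i hiπ) := by
    intro a a' h
    have := congrArg (fun z : pbE π π₂ => z.1.1) h
    exact hinj this
  have hE4 : Equivar σ' (pbRep hπ h2) (pbInr π π₂ i₂ hi₂π) := by
    intro g q
    apply Subtype.ext
    rw [pbRep_coe, pbInr_coe, pbInr_coe]
    exact Prod.ext (map_zero _).symm (h1 g q)
  have hE5 : Equivar (pbRep hπ h2) σ (pbFst π π₂) := fun g z => rfl
  have hE6 : Function.Injective (pbInr π π₂ i₂ hi₂π) := by
    intro a a' h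
    have := congrArg (fun z : pbE π π₂ => z.1.2) h
    exact h3 this
  have hcoflE : Cofl (pbRep hπ h2) :=
    cofl_of_exact hE4 hE5 hE6 (pbFst_surjective π π₂ h4) (pbInr_range π π₂ i₂ hi₂π h5) h7 hcofl
  exact ⟨pbE π π₂, inferInstance, inferInstance, P₂, inferInstance, inferInstance, inferInstance,
    inferInstance, inferInstance, inferInstance, pbRep hπ h2, τ₂, pbInl π π₂ i hiπ, pbSnd π π₂,
    hE1, hE2, hE3, pbSnd_surjective π π₂ hsurj, pbInl_range π π₂ i hiπ hex, hcoflE, h6⟩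

end Pullback

/-- Coflasque resolution of a lattice. -/
theorem res_coflasque {A : Type} [AddCommGroup A] [Module.Finite ℤ A] [Module.Free ℤ A]
    (ρ : Representation ℤ G A) :
    ∃ (Q : Type) (_ : AddCommGroup Q) (mQ : Module ℤ Q) (P : Type) (_ : AddCommGroup P)
      (mP : Module ℤ P)
      (_ : Module.Finite ℤ Q) (_ : Module.Free ℤ Q) (_ : Module.Finite ℤ P) (_ : Module.Free ℤ P)
      (σ : Representation ℤ G Q) (τ : Representation ℤ G P) (i : A →ₗ[ℤ] Q) (π : Q →ₗ[ℤ] P),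
      Equivar ρ σ i ∧ Equivar σ τ π ∧ Function.Injective i ∧ Function.Surjective π ∧
      LinearMap.range i = LinearMap.ker π ∧ Cofl σ ∧ Perm τ := by
  obtain ⟨P, iP, mP, F, iFF, mF, finP, freeP, finF, freeF, σ, τ, i, π, hi, hπ, hinj, hsurj, hex,
    hperm, hcofl, hflasP, hflasF⟩ := res_flasque ρ
  obtain rfl : mP = AddCommGroup.toIntModule P := Subsingleton.elim _ _
  obtain rfl : mF = AddCommGroup.toIntModule F := Subsingleton.elim _ _
  obtain ⟨Q', iQ', mQ', P₂, iP₂, mP₂, finQ', freeQ', finP₂, freeP₂, σ', τ₂, i₂, π₂, h1, h2, h3, h4,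
    h5, h6, h7⟩ := main_generic τ
  obtain rfl : mQ' = AddCommGroup.toIntModule Q' := Subsingleton.elim _ _
  obtain rfl : mP₂ = AddCommGroup.toIntModule P₂ := Subsingleton.elim _ _
  exact pullback_core ρ σ τ i π hi hπ hinj hsurj hex hcofl σ' τ₂ i₂ π₂ h1 h2 h3 h4 h5 h6 h7

section Pushout

variable {A L A₁ P' F₁ : Type} [AddCommGroup A] [AddCommGroup L] [AddCommGroup A₁]
  [AddCommGroup P'] [AddCommGroup F₁]
  {lam : Representation ℤ G L} {α : Representation ℤ G A₁} {σ' : Representation ℤ G P'}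
  {τ₁ : Representation ℤ G F₁}
  (j₀ : A₁ →ₗ[ℤ] L) (i' : A₁ →ₗ[ℤ] P')

/-- the antidiagonal copy of `A₁` in `L × P'` -/
def poS := LinearMap.range (LinearMap.prod j₀ (-i'))

theorem mem_poS (z : L × P') : z ∈ poS j₀ i' ↔ ∃ a, j₀ a = z.1 ∧ -(i' a) = z.2 := by
  unfold poS
  rw [LinearMap.mem_range]
  constructor
  · rintro ⟨a, rfl⟩
    exact ⟨a, rfl, rfl⟩
  · rintro ⟨a, h1, h2⟩
    exact ⟨a, Prod.ext h1 h2⟩

variable {j₀ i'}

theorem poS_inv (hj₀ : Equivar α lam j₀) (hi' : Equivar α σ' i') (g : G) :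
    poS j₀ i' ≤ (poS j₀ i').comap ((lam.prod σ') g) := by
  intro z hz
  rw [Submodule.mem_comap, mem_poS]
  rw [mem_poS] at hz
  obtain ⟨a, h1, h2⟩ := hz
  refine ⟨α g a, ?_, ?_⟩
  · show j₀ (α g a) = lam g z.1
    rw [hj₀, h1]
  · show -(i' (α g a)) = σ' g z.2
    rw [hi', ← h2, map_neg]

/-- the representation on the pushout -/
def poRep (hj₀ : Equivar α lam j₀) (hi' : Equivar α σ' i') :
    Representation ℤ G ((L × P') ⧸ poS j₀ i') :=
  (lam.prod σ').quotient (poS j₀ i') (poS_inv hj₀ hi')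

theorem poRep_mk (hj₀ : Equivar α lam j₀) (hi' : Equivar α σ' i') (g : G) (z : L × P') :
    poRep hj₀ hi' g ((poS j₀ i').mkQ z) = (poS j₀ i').mkQ (lam g z.1, σ' g z.2) := rfl

theorem pushout_core [Module.Finite ℤ L] [Module.Free ℤ L] [Module.Finite ℤ P']
    [Module.Free ℤ P'] [Module.Finite ℤ F₁] [Module.Free ℤ F₁]
    (ρ : Representation ℤ G A) (π₀ : L →ₗ[ℤ] A) (π' : P' →ₗ[ℤ] F₁)
    (hj₀ : Equivar α lam j₀) (hπ₀ : Equivar lam ρ π₀) (hj₀inj : Function.Injective j₀)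
    (hπ₀surj : Function.Surjective π₀) (hex₀ : LinearMap.range j₀ = LinearMap.ker π₀)
    (hi' : Equivar α σ' i') (hπ' : Equivar σ' τ₁ π') (hinj' : Function.Injective i')
    (hsurj' : Function.Surjective π') (hex' : LinearMap.range i' = LinearMap.ker π')
    (hperm' : Perm σ') (hflasL : Flas lam) (hflasF₁ : Flas τ₁) :
    ∃ (P : Type) (_ : AddCommGroup P) (mP : Module ℤ P) (F : Type) (_ : AddCommGroup F)
      (mF : Module ℤ F)
      (_ : Module.Finite ℤ P) (_ : Module.Free ℤ P) (_ : Module.Finite ℤ F) (_ : Module.Free ℤ F)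
      (σ : Representation ℤ G P) (τ : Representation ℤ G F) (i : P →ₗ[ℤ] F) (π : F →ₗ[ℤ] A),
      Equivar σ τ i ∧ Equivar τ ρ π ∧ Function.Injective i ∧ Function.Surjective π ∧
      LinearMap.range i = LinearMap.ker π ∧ Perm σ ∧ Flas τ := by
  have hj₀π : ∀ a, π₀ (j₀ a) = 0 := by
    intro a
    have : j₀ a ∈ LinearMap.range j₀ := ⟨a, rfl⟩
    rw [hex₀] at this
    exact this
  have hi'π : ∀ a, π' (i' a) = 0 := by
    intro a
    have : i' a ∈ LinearMap.range i' := ⟨a, rfl⟩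
    rw [hex'] at this
    exact this
  have hS1 : poS j₀ i' ≤ LinearMap.ker (π₀.comp (LinearMap.fst ℤ L P')) := by
    intro z hz
    rw [mem_poS] at hz
    obtain ⟨a, h1, h2⟩ := hz
    rw [LinearMap.mem_ker, LinearMap.comp_apply, LinearMap.fst_apply, ← h1, hj₀π]
  have hS2 : poS j₀ i' ≤ LinearMap.ker (π'.comp (LinearMap.snd ℤ L P')) := by
    intro z hz
    rw [mem_poS] at hz
    obtain ⟨a, h1, h2⟩ := hz
    rw [LinearMap.mem_ker, LinearMap.comp_apply, LinearMap.snd_apply, ← h2, map_neg, hi'π, neg_zero]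
  obtain ⟨iF, hiF⟩ : ∃ iF : P' →ₗ[ℤ] (L × P') ⧸ poS j₀ i',
      iF = (poS j₀ i').mkQ.comp (LinearMap.inr ℤ L P') := ⟨_, rfl⟩
  obtain ⟨jL, hjL⟩ : ∃ jL : L →ₗ[ℤ] (L × P') ⧸ poS j₀ i',
      jL = (poS j₀ i').mkQ.comp (LinearMap.inl ℤ L P') := ⟨_, rfl⟩
  obtain ⟨πF, hπF⟩ : ∃ πF : ((L × P') ⧸ poS j₀ i') →ₗ[ℤ] A,
      πF = (poS j₀ i').liftQ (π₀.comp (LinearMap.fst ℤ L P')) hS1 := ⟨_, rfl⟩
  obtain ⟨π'', hπ''⟩ : ∃ π'' : ((L × P') ⧸ poS j₀ i') →ₗ[ℤ] F₁,
      π'' = (poS j₀ i').liftQ (π'.comp (LinearMap.snd ℤ L P')) hS2 := ⟨_, rfl⟩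
  have iF_apply : ∀ p, iF p = (poS j₀ i').mkQ (0, p) := fun p => by rw [hiF]; rfl
  have jL_apply : ∀ l, jL l = (poS j₀ i').mkQ (l, 0) := fun l => by rw [hjL]; rfl
  have πF_apply : ∀ z, πF ((poS j₀ i').mkQ z) = π₀ z.1 := fun z => by rw [hπF]; rfl
  have π''_apply : ∀ z, π'' ((poS j₀ i').mkQ z) = π' z.2 := fun z => by rw [hπ'']; rfl
  have mk_eq : ∀ z w : L × P', (poS j₀ i').mkQ z = (poS j₀ i').mkQ w ↔ z - w ∈ poS j₀ i' := by
    intro z w
    rw [Submodule.mkQ_apply, Submodule.mkQ_apply, Submodule.Quotient.eq]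
  have mk_zero : ∀ z : L × P', (poS j₀ i').mkQ z = 0 ↔ z ∈ poS j₀ i' := by
    intro z
    rw [Submodule.mkQ_apply, Submodule.Quotient.mk_eq_zero]
  -- equivariance
  have e1 : Equivar σ' (poRep hj₀ hi') iF := by
    intro g p
    rw [iF_apply, iF_apply, poRep_mk]
    show _ = (poS j₀ i').mkQ (lam g 0, σ' g p)
    rw [map_zero]
  have e2 : Equivar (poRep hj₀ hi') ρ πF := by
    intro g f
    obtain ⟨z, rfl⟩ := Submodule.mkQ_surjective _ f
    rw [poRep_mk, πF_apply, πF_apply]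
    exact hπ₀ g z.1
  have e3 : Equivar lam (poRep hj₀ hi') jL := by
    intro g l
    rw [jL_apply, jL_apply, poRep_mk]
    show _ = (poS j₀ i').mkQ (lam g l, σ' g 0)
    rw [map_zero]
  have e4 : Equivar (poRep hj₀ hi') τ₁ π'' := by
    intro g f
    obtain ⟨z, rfl⟩ := Submodule.mkQ_surjective _ f
    rw [poRep_mk, π''_apply, π''_apply]
    exact hπ' g z.2
  -- injectivity
  have iF_inj : Function.Injective iF := by
    rw [← LinearMap.ker_eq_bot, LinearMap.ker_eq_bot']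
    intro p hp
    rw [iF_apply, mk_zero, mem_poS] at hp
    obtain ⟨a, h1, h2⟩ := hp
    have ha : a = 0 := hj₀inj (by rw [h1, map_zero])
    have h2' : -(i' a) = p := h2
    rw [← h2', ha, map_zero, neg_zero]
  have jL_inj : Function.Injective jL := by
    rw [← LinearMap.ker_eq_bot, LinearMap.ker_eq_bot']
    intro l hl
    rw [jL_apply, mk_zero, mem_poS] at hl
    obtain ⟨a, h1, h2⟩ := hl
    have ha : a = 0 := hinj' (by
      have : i' a = 0 := by
        have h3 : -(i' a) = 0 := h2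
        exact neg_eq_zero.mp h3
      rw [this, map_zero])
    have h1' : j₀ a = l := h1
    rw [← h1', ha, map_zero]
  -- surjectivity
  have πF_surj : Function.Surjective πF := by
    intro a
    obtain ⟨l, rfl⟩ := hπ₀surj a
    exact ⟨(poS j₀ i').mkQ (l, 0), πF_apply _⟩
  have π''_surj : Function.Surjective π'' := by
    intro f
    obtain ⟨p, rfl⟩ := hsurj' f
    exact ⟨(poS j₀ i').mkQ (0, p), π''_apply _⟩
  -- exactness
  have ex1 : LinearMap.range iF = LinearMap.ker πF := by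
    ext f
    constructor
    · rintro ⟨p, rfl⟩
      rw [LinearMap.mem_ker, iF_apply, πF_apply, map_zero]
    · intro hf
      obtain ⟨z, rfl⟩ := Submodule.mkQ_surjective _ f
      rw [LinearMap.mem_ker, πF_apply] at hf
      have h2 : z.1 ∈ LinearMap.range j₀ := by rw [hex₀]; exact hf
      obtain ⟨a, ha⟩ := h2
      refine ⟨z.2 + i' a, ?_⟩
      rw [iF_apply, mk_eq, mem_poS]
      refine ⟨-a, ?_, ?_⟩
      · show j₀ (-a) = 0 - z.1
        rw [map_neg, ha, zero_sub]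
      · show -(i' (-a)) = z.2 + i' a - z.2
        rw [map_neg, neg_neg]
        abel
  have ex2 : LinearMap.range jL = LinearMap.ker π'' := by
    ext f
    constructor
    · rintro ⟨l, rfl⟩
      rw [LinearMap.mem_ker, jL_apply, π''_apply, map_zero]
    · intro hf
      obtain ⟨z, rfl⟩ := Submodule.mkQ_surjective _ f
      rw [LinearMap.mem_ker, π''_apply] at hf
      have h2 : z.2 ∈ LinearMap.range i' := by rw [hex']; exact hf
      obtain ⟨a, ha⟩ := h2
      refine ⟨z.1 + j₀ a, ?_⟩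
      rw [jL_apply, mk_eq, mem_poS]
      refine ⟨a, ?_, ?_⟩
      · show j₀ a = z.1 + j₀ a - z.1
        abel
      · show -(i' a) = 0 - z.2
        rw [ha, zero_sub]
  have hflas : Flas (poRep hj₀ hi') :=
    flas_of_exact e3 e4 jL_inj π''_surj ex2 hflasL hflasF₁
  haveI : Module.IsTorsionFree ℤ ((L × P') ⧸ poS j₀ i') := by
    apply Module.IsTorsionFree.of_smul_eq_zero
    intro n f hf
    by_cases hn : n = 0
    · exact Or.inl hn
    right
    have h1 : n • π'' f = 0 := by rw [← map_smul, hf, map_zero]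
    have h2 : π'' f = 0 := by
      rcases smul_eq_zero.mp h1 with h | h
      · exact absurd h hn
      · exact h
    have h3 : f ∈ LinearMap.range jL := by rw [ex2]; exact h2
    obtain ⟨l, rfl⟩ := h3
    have h4 : jL (n • l) = 0 := by rw [map_smul, hf]
    have h5 : n • l = 0 := jL_inj (by rw [h4, map_zero])
    rcases smul_eq_zero.mp h5 with h | h
    · exact absurd h hn
    · rw [h, map_zero]
  exact ⟨P', inferInstance, inferInstance, (L × P') ⧸ poS j₀ i', inferInstance, inferInstance,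
    inferInstance, inferInstance, inferInstance, inferInstance, σ', poRep hj₀ hi', iF, πF,
    e1, e2, iF_inj, πF_surj, ex1, hperm', hflas⟩

end Pushout

/-- Flasque cover of a finitely generated `G`-module. -/
theorem cover_flasque {A : Type} [AddCommGroup A] [Module.Finite ℤ A] (ρ : Representation ℤ G A) :
    ∃ (P : Type) (_ : AddCommGroup P) (mP : Module ℤ P) (F : Type) (_ : AddCommGroup F)
      (mF : Module ℤ F)
      (_ : Module.Finite ℤ P) (_ : Module.Free ℤ P) (_ : Module.Finite ℤ F) (_ : Module.Free ℤ F)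
      (σ : Representation ℤ G P) (τ : Representation ℤ G F) (i : P →ₗ[ℤ] F) (π : F →ₗ[ℤ] A),
      Equivar σ τ i ∧ Equivar τ ρ π ∧ Function.Injective i ∧ Function.Surjective π ∧
      LinearMap.range i = LinearMap.ker π ∧ Perm σ ∧ Flas τ := by
  haveI : IsNoetherian ℤ (XX ρ → ℤ) := isNoetherian_of_isNoetherianRing_of_finite ℤ _
  haveI : Module.Finite ℤ (LinearMap.ker (ππ ρ)) := inferInstance
  haveI : Module.Free ℤ (LinearMap.ker (ππ ρ)) := inferInstance
  obtain ⟨P', iP', mP', F₁, iF₁, mF₁, finP', freeP', finF₁, freeF₁, σ', τ₁, i', π', hi', hπ', hinj',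
    hsurj', hex', hperm', hcofl', hflasP', hflasF₁⟩ := res_flasque (σσ ρ)
  obtain rfl : mP' = AddCommGroup.toIntModule P' := Subsingleton.elim _ _
  obtain rfl : mF₁ = AddCommGroup.toIntModule F₁ := Subsingleton.elim _ _
  exact pushout_core (lam := permRep G (XX ρ)) (α := σσ ρ) (j₀ := (LinearMap.ker (ππ ρ)).subtype)
    ρ (ππ ρ) π' (fun g m => rfl) (ππ_equivariant ρ) Subtype.val_injective (ππ_surjective ρ)
    (Submodule.range_subtype _) hi' hπ' hinj' hsurj' hex' hperm' flas_permRep hflasF₁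

end Groth.Agent.Helper3.GLat
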