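import Mathlib
import Groth.Prelude.Def_EGA4b
import Groth.Agent.Lib.Helper6.Normal.TensorDomains
import Groth.Agent.Lib.Helper6.Normal.GeomRed
import Groth.Agent.Lib.Helper6.Normal.SepGenRed
import Groth.Agent.Lib.Helper7.SmoothBC.MinPrime

/-!
# Tensor product of a geometrically normal algebra with a normal algebra (helper3)

Variant of `Helper6.Normal.TensorDomains`: one factor is geometrically normal, the other merely
normal.
-/

set_option autoImplicit false
set_option linter.unusedSectionVars false
set_option linter.style.haveILetI false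
open TensorProduct Polynomial
open Groth.Agent.Lib.Helper6.Normal

namespace Groth.Agent.Lib.Helper3.GNT1

universe u

section Core

variable (k A B K L : Type u) [Field k] [CommRing A] [CommRing B] [IsDomain A] [IsDomain B]
  [Algebra k A] [Algebra k B] [Field K] [Field L] [Algebra k K] [Algebra k L] [Algebra A K]
  [Algebra B L] [IsScalarTower k A K] [IsScalarTower k B L] [IsFractionRing A K]
  [IsFractionRing B L]

/-- The finitely generated case, with normality of `K ⊗ B` as a hypothesis. -/
theorem core' (hA : EGA4.IsNormalRing A) (hB : EGA4.IsNormalRing B)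
    [Algebra.IsGeometricallyReduced k L]
    [Algebra.EssFiniteType k K] (hR1 : EGA4.IsNormalRing (K ⊗[k] B)) :
    EGA4.IsNormalRing (A ⊗[k] B) := by
  let fA : A →ₐ[k] K := IsScalarTower.toAlgHom k A K
  let fB : B →ₐ[k] L := IsScalarTower.toAlgHom k B L
  let ψ : A ⊗[k] B →ₐ[k] K ⊗[k] L := Algebra.TensorProduct.map fA fB
  letI : Algebra (A ⊗[k] B) (K ⊗[k] L) := ψ.toRingHom.toAlgebra
  have hinjA : Function.Injective fA := IsFractionRing.injective A K
  have hinjB : Function.Injective fB := IsFractionRing.injective B L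
  have hinj : Function.Injective (algebraMap (A ⊗[k] B) (K ⊗[k] L)) :=
    TensorProduct.map_injective_of_flat_flat fA.toLinearMap fB.toLinearMap hinjA hinjB
  have hnoeth : IsNoetherianRing (K ⊗[k] L) := by
    have h1 : Algebra.EssFiniteType L (L ⊗[k] K) := inferInstance
    have h2 : IsNoetherianRing (L ⊗[k] K) := Algebra.EssFiniteType.isNoetherianRing L _
    exact isNoetherianRing_of_ringEquiv _ (Algebra.TensorProduct.comm k L K).toRingEquiv
  have hK : EGA4.IsNormalRing K := isNormalRing_of_isIntegrallyClosed K
  have hT : EGA4.IsNormalRing (K ⊗[k] L) :=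
    isNormalRing_of_ringEquiv (Algebra.TensorProduct.comm k L K).toRingEquiv
      (isNormalRing_tensor_of_isGeometricallyReduced k K L hK)
  have hR2 : EGA4.IsNormalRing (A ⊗[k] L) :=
    isNormalRing_of_ringEquiv (Algebra.TensorProduct.comm k L A).toRingEquiv
      (isNormalRing_tensor_of_isGeometricallyReduced k A L hA)
  refine isNormalRing_of_integrallyClosedIn hinj hT ?_
  intro x hx
  obtain ⟨p, hp, hpx⟩ := hx
  have hpx' : eval₂ ψ.toRingHom x p = 0 := hpx
  have hcomp1 : (Algebra.TensorProduct.map (AlgHom.id k K) fB).toRingHom.comp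
      (Algebra.TensorProduct.map fA (AlgHom.id k B)).toRingHom = ψ.toRingHom := by
    refine RingHom.ext fun z => ?_
    induction z using TensorProduct.induction_on with
    | zero => simp
    | tmul a b => rfl
    | add a b ha hb => rw [map_add, map_add, ha, hb]
  have hx1 : (Algebra.TensorProduct.map (AlgHom.id k K) fB).toRingHom.IsIntegralElem x := by
    refine ⟨p.map (Algebra.TensorProduct.map fA (AlgHom.id k B)).toRingHom, hp.map _, ?_⟩
    rw [eval₂_map, hcomp1]
    exact hpx'
  have hx2 : (Algebra.TensorProduct.map fA (AlgHom.id k L)).toRingHom.IsIntegralElem x := by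
    refine ⟨p.map (Algebra.TensorProduct.map (AlgHom.id k A) fB).toRingHom, hp.map _, ?_⟩
    rw [eval₂_map]
    have : (Algebra.TensorProduct.map fA (AlgHom.id k L)).toRingHom.comp
        (Algebra.TensorProduct.map (AlgHom.id k A) fB).toRingHom = ψ.toRingHom := by
      refine RingHom.ext fun z => ?_
      induction z using TensorProduct.induction_on with
      | zero => simp
      | tmul a b => rfl
      | add a b ha hb => rw [map_add, map_add, ha, hb]
    rw [this]
    exact hpx'
  obtain ⟨x1, h1⟩ := exists_of_isIntegralElem_right k B L K (nonZeroDivisors B) le_rfl hR1 x hx1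
  obtain ⟨x2, h2⟩ := exists_of_isIntegralElem_left k A K L (nonZeroDivisors A) le_rfl hR2 x hx2
  obtain ⟨r, hr⟩ := exists_of_map_eq_map fA.toLinearMap fB.toLinearMap hinjB x1 x2
    (h1.trans h2.symm)
  refine ⟨r, ?_⟩
  rw [← h1, ← hr]
  exact (RingHom.congr_fun hcomp1 r).symm

end Core

section Domains

variable (k A K : Type u) [Field k] [CommRing A] [IsDomain A] [Algebra k A]
  [Field K] [Algebra k K] [Algebra A K] [IsScalarTower k A K] [IsFractionRing A K]

/-- the fraction field of a geometrically normal domain is geometrically reduced -/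
theorem geomRed_fraction
    (hgeo : ∀ (F : Type u) [Field F] [Algebra k F], EGA4.IsNormalRing (F ⊗[k] A)) :
    Algebra.IsGeometricallyReduced k K := by
  rw [Algebra.isGeometricallyReduced_field_iff]
  haveI h1 : IsReduced (AlgebraicClosure k ⊗[k] A) :=
    isReduced_of_isNormalRing (hgeo (AlgebraicClosure k))
  exact Groth.Agent.Helper7.SmoothBC.isReduced_tensor_of_isLocalization k (AlgebraicClosure k) A K
    (nonZeroDivisors A)

/-- geometrically normal domain tensor normal domain -/
theorem tensor_domains (B L : Type u) [CommRing B] [IsDomain B] [Algebra k B] [Field L]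
    [Algebra k L] [Algebra B L] [IsScalarTower k B L] [IsFractionRing B L]
    [IsIntegrallyClosed A] [IsIntegrallyClosed B]
    (hK : Algebra.IsGeometricallyReduced k K)
    (hgeo : ∀ (F : Type u) [Field F] [Algebra k F], EGA4.IsNormalRing (F ⊗[k] A)) :
    EGA4.IsNormalRing (B ⊗[k] A) := by
  haveI : Algebra.IsGeometricallyReduced k K := hK
  have hA : EGA4.IsNormalRing A := isNormalRing_of_isIntegrallyClosed A
  refine isNormalRing_of_union (ι := Finset B) (fun t => At k B L t ⊗[k] A)
    (fun t => (subMap k B A (At k B L) t).toRingHom)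
    (fun t => subMap_injective k B A (At k B L) t)
    (fun s => exists_subset_range_subMap k B A (At k B L) (At_mono k B L) (At_cov k B L) s) ?_
  intro t
  have hBt : EGA4.IsNormalRing (At k B L t) := isNormalRing_of_isIntegrallyClosed _
  exact core' k (At k B L t) A (Kt k B L t) K hBt hA (hgeo (Kt k B L t))

end Domains

section Local

variable (k : Type u) [Field k] (B A : Type u) [CommRing B] [CommRing A] [Algebra k B]
  [Algebra k A]

/-- normality of `B ⊗ A` is local on `B` -/
theorem isNormalRing_tensor_of_forall_localization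
    (h : ∀ (q : Ideal B) [q.IsPrime], EGA4.IsNormalRing (Localization.AtPrime q ⊗[k] A)) :
    EGA4.IsNormalRing (B ⊗[k] A) := by
  intro r hr
  let q : Ideal B := r.comap (Algebra.TensorProduct.includeLeft : B →ₐ[k] B ⊗[k] A).toRingHom
  haveI hq : q.IsPrime := Ideal.comap_isPrime _ r
  let E := Localization.AtPrime q
  let ψ : B ⊗[k] A →ₐ[k] E ⊗[k] A :=
    Algebra.TensorProduct.map (IsScalarTower.toAlgHom k B E) (AlgHom.id k A)
  letI : Algebra (B ⊗[k] A) (E ⊗[k] A) := ψ.toRingHom.toAlgebra
  have hst : IsScalarTower B (B ⊗[k] A) (E ⊗[k] A) := by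
    refine IsScalarTower.of_algebraMap_eq' ?_
    ext a
    change algebraMap B (E ⊗[k] A) a = ψ (algebraMap B (B ⊗[k] A) a)
    rw [Algebra.TensorProduct.algebraMap_apply, Algebra.TensorProduct.algebraMap_apply]
    simp [ψ]
  have hloc : IsLocalization (Algebra.algebraMapSubmonoid (B ⊗[k] A) q.primeCompl)
      (E ⊗[k] A) := by
    refine IsLocalization.tensorProduct_tensorProduct k A q.primeCompl E ?_
    ext a
    change ψ ((1 : B) ⊗ₜ[k] a) = (1 : E) ⊗ₜ[k] a
    simp [ψ]
  have hdisj : Disjoint (Algebra.algebraMapSubmonoid (B ⊗[k] A) q.primeCompl : Set (B ⊗[k] A))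
      (r : Set (B ⊗[k] A)) := by
    rw [Set.disjoint_left]
    rintro _ ⟨b, hb, rfl⟩ hbr
    exact hb hbr
  let r' : Ideal (E ⊗[k] A) := r.map (algebraMap (B ⊗[k] A) (E ⊗[k] A))
  haveI hr' : r'.IsPrime :=
    IsLocalization.isPrime_of_isPrime_disjoint
      (Algebra.algebraMapSubmonoid (B ⊗[k] A) q.primeCompl) (E ⊗[k] A) r hr hdisj
  have hcomap : r'.comap (algebraMap (B ⊗[k] A) (E ⊗[k] A)) = r :=
    IsLocalization.under_map_of_isPrime_disjoint
      (Algebra.algebraMapSubmonoid (B ⊗[k] A) q.primeCompl) (E ⊗[k] A) hr hdisj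
  obtain ⟨h1, h2⟩ := h q r'
  have key : ∀ (r₀ : Ideal (B ⊗[k] A)) [r₀.IsPrime],
      r₀ = r'.comap (algebraMap (B ⊗[k] A) (E ⊗[k] A)) →
      IsDomain (Localization.AtPrime r₀) ∧ IsIntegrallyClosed (Localization.AtPrime r₀) := by
    intro r₀ _ h0
    subst h0
    have hlocT : IsLocalization.AtPrime (Localization.AtPrime r')
        (r'.comap (algebraMap (B ⊗[k] A) (E ⊗[k] A))) :=
      IsLocalization.isLocalization_isLocalization_atPrime_isLocalization
        (Algebra.algebraMapSubmonoid (B ⊗[k] A) q.primeCompl) _ r'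
    let e : Localization.AtPrime r' ≃ₐ[B ⊗[k] A]
        Localization.AtPrime (r'.comap (algebraMap (B ⊗[k] A) (E ⊗[k] A))) :=
      IsLocalization.algEquiv (r'.comap (algebraMap (B ⊗[k] A) (E ⊗[k] A))).primeCompl _ _
    exact ⟨e.symm.toRingEquiv.toMulEquiv.isDomain _, @IsIntegrallyClosed.of_equiv (Localization.AtPrime r') _ _ _ e.toRingEquiv h2⟩
  exact key r hcomap.symm

end Local

section General

variable (k : Type u) [Field k] (A B : Type u) [CommRing A] [CommRing B] [Algebra k A]
  [Algebra k B]

/-- **geometrically normal tensor normal is normal** -/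
theorem tensor_general
    (hgeo : ∀ (F : Type u) [Field F] [Algebra k F], EGA4.IsNormalRing (F ⊗[k] A))
    (hB : EGA4.IsNormalRing B) : EGA4.IsNormalRing (B ⊗[k] A) := by
  have hA : EGA4.IsNormalRing A :=
    isNormalRing_of_ringEquiv (Algebra.TensorProduct.lid k A).toRingEquiv (hgeo k)
  refine isNormalRing_tensor_of_forall_localization k B A fun q _ => ?_
  obtain ⟨hBq1, hBq2⟩ := hB q
  refine isNormalRing_of_ringEquiv
    (Algebra.TensorProduct.comm k A (Localization.AtPrime q)).toRingEquiv ?_
  refine isNormalRing_tensor_of_forall_localization k A (Localization.AtPrime q) fun p _ => ?_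
  obtain ⟨hAp1, hAp2⟩ := hA p
  refine isNormalRing_of_ringEquiv
    (Algebra.TensorProduct.comm k (Localization.AtPrime q) (Localization.AtPrime p)).toRingEquiv ?_
  -- geometric normality of `A_p`
  have hgeo' : ∀ (F : Type u) [Field F] [Algebra k F],
      EGA4.IsNormalRing (F ⊗[k] Localization.AtPrime p) := by
    intro F _ _
    have h1 : EGA4.IsNormalRing (A ⊗[k] F) :=
      isNormalRing_of_ringEquiv (Algebra.TensorProduct.comm k F A).toRingEquiv (hgeo F)
    have h2 : EGA4.IsNormalRing (Localization.AtPrime p ⊗[k] F) :=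
      isNormalRing_tensor_of_isLocalization k F A (Localization.AtPrime p) p.primeCompl h1
    exact isNormalRing_of_ringEquiv
      (Algebra.TensorProduct.comm k (Localization.AtPrime p) F).toRingEquiv h2
  exact tensor_domains k (Localization.AtPrime p) (FractionRing (Localization.AtPrime p))
    (Localization.AtPrime q) (FractionRing (Localization.AtPrime q))
    (geomRed_fraction k (Localization.AtPrime p) (FractionRing (Localization.AtPrime p)) hgeo') hgeo'

end General

end Groth.Agent.Lib.Helper3.GNT1
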