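import Mathlib
import Groth.Prelude.Def_EGA4b
import Groth.Prelude.Def_Pi1
import Groth.Prelude.Def_CurvBase
import Groth.Agent.Lib.Helper6.Normal.SchemeBC
import Groth.Agent.Lib.Helper3.GNT1

/-!
# Product of a geometrically normal scheme with a normal scheme over a field (helper3)
-/

set_option autoImplicit false
open CategoryTheory AlgebraicGeometry Limits TensorProduct
open Groth.Agent.Lib.Helper6.Normal

namespace Groth.Agent.Lib.Helper3.GNT2

universe u

theorem main (k : Type u) [Field k] {X Y : Scheme.{u}} (s : X ⟶ Spec (CommRingCat.of k))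
    (t : Y ⟶ Spec (CommRingCat.of k))
    (hX : ∀ (K : Type u) [Field K] [Algebra k K],
      Pi1.IsNormalScheme (pullback s (Spec.map (CommRingCat.ofHom (algebraMap k K)))))
    (hY : Pi1.IsNormalScheme Y) : Pi1.IsNormalScheme (pullback s t) := by
  let 𝒜 := X.affineOpenCover
  let ℬ := Y.affineOpenCover
  refine isNormalScheme_of_openCover
    (Scheme.Pullback.openCoverOfLeftRight 𝒜.openCover ℬ.openCover s t) ?_
  rintro ⟨i, j⟩
  change Pi1.IsNormalScheme (pullback (𝒜.f i ≫ s) (ℬ.f j ≫ t))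
  obtain ⟨φ, hφ⟩ := Spec.map_surjective (𝒜.f i ≫ s)
  obtain ⟨ψ, hψ⟩ := Spec.map_surjective (ℬ.f j ≫ t)
  let _ : Algebra k (𝒜.X i) := φ.hom.toAlgebra
  let _ : Algebra k (ℬ.X j) := ψ.hom.toAlgebra
  have hB : EGA4.IsNormalRing (ℬ.X j) :=
    (isNormalScheme_Spec_iff _).mp (isNormalScheme_of_isOpenImmersion (ℬ.f j) hY)
  have hgeo : ∀ (F : Type u) [Field F] [Algebra k F],
      EGA4.IsNormalRing (F ⊗[k] (𝒜.X i)) := by
    intro F _ _
    let g := Spec.map (CommRingCat.ofHom (algebraMap k F))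
    let e1 : pullback (𝒜.f i) (pullback.fst s g) ≅ pullback (𝒜.f i ≫ s) g :=
      pullbackRightPullbackFstIso s g (𝒜.f i)
    let e2 : pullback (𝒜.f i ≫ s) g ≅
        pullback (Spec.map (CommRingCat.ofHom (algebraMap k (𝒜.X i)))) g :=
      pullback.congrHom hφ.symm rfl
    let e3 : pullback (Spec.map (CommRingCat.ofHom (algebraMap k (𝒜.X i)))) g ≅
        Spec (CommRingCat.of ((𝒜.X i) ⊗[k] F)) := pullbackSpecIso k (𝒜.X i) F
    have h1 : Pi1.IsNormalScheme (pullback (𝒜.f i) (pullback.fst s g)) :=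
      isNormalScheme_of_isOpenImmersion (pullback.snd (𝒜.f i) (pullback.fst s g)) (hX F)
    have h2 : Pi1.IsNormalScheme (Spec (CommRingCat.of ((𝒜.X i) ⊗[k] F))) :=
      isNormalScheme_of_isOpenImmersion (e1 ≪≫ e2 ≪≫ e3).inv h1
    have h3 : EGA4.IsNormalRing ((𝒜.X i) ⊗[k] F) := (isNormalScheme_Spec_iff _).mp h2
    exact isNormalRing_of_ringEquiv (Algebra.TensorProduct.comm k (𝒜.X i) F).toRingEquiv h3
  have hN : EGA4.IsNormalRing ((𝒜.X i) ⊗[k] (ℬ.X j)) :=
    isNormalRing_of_ringEquiv (Algebra.TensorProduct.comm k (ℬ.X j) (𝒜.X i)).toRingEquiv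
      (GNT1.tensor_general k (𝒜.X i) (ℬ.X j) hgeo hB)
  have hS : Pi1.IsNormalScheme (Spec (CommRingCat.of ((𝒜.X i) ⊗[k] (ℬ.X j)))) :=
    (isNormalScheme_Spec_iff _).mpr hN
  let e : pullback (𝒜.f i ≫ s) (ℬ.f j ≫ t) ≅
      Spec (CommRingCat.of ((𝒜.X i) ⊗[k] (ℬ.X j))) :=
    pullback.congrHom hφ.symm hψ.symm ≪≫ pullbackSpecIso k (𝒜.X i) (ℬ.X j)
  exact isNormalScheme_of_isOpenImmersion e.hom hS

end Groth.Agent.Lib.Helper3.GNT2
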