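import Mathlib

/-!
# Galois group acting on the primes of `F ⊗[K] L`
-/

namespace Groth.Agent.Helper3.GalPrime

open TensorProduct
open scoped Pointwise

universe u

variable (K F L : Type u) [Field K] [Field F] [Algebra K F] [Field L] [Algebra K L]

/-- The action of the Galois group on `F ⊗[K] L` through the second factor. -/
noncomputable def rho : (L ≃ₐ[K] L) →* ((F ⊗[K] L) ≃ₐ[F] (F ⊗[K] L)) where
  toFun γ := Algebra.TensorProduct.congr (AlgEquiv.refl : F ≃ₐ[F] F) γ
  map_one' := by
    apply AlgEquiv.ext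
    intro x
    induction x using TensorProduct.induction_on with
    | zero => simp
    | tmul f l => simp
    | add x y hx hy => simp only [map_add, hx, hy]
  map_mul' γ γ' := by
    apply AlgEquiv.ext
    intro x
    induction x using TensorProduct.induction_on with
    | zero => simp
    | tmul f l => simp
    | add x y hx hy => simp only [map_add, hx, hy]

@[simp] theorem rho_tmul (γ : L ≃ₐ[K] L) (f : F) (l : L) :
    rho K F L γ (f ⊗ₜ[K] l) = f ⊗ₜ[K] γ l := by
  simp [rho]

theorem rho_eq_map (γ : L ≃ₐ[K] L) (x : F ⊗[K] L) :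
    rho K F L γ x = Algebra.TensorProduct.map (AlgHom.id K F) (γ : L →ₐ[K] L) x := by
  induction x using TensorProduct.induction_on with
  | zero => simp
  | tmul f l => simp
  | add x y hx hy => simp only [map_add, hx, hy]

@[reducible] noncomputable def action : MulSemiringAction (L ≃ₐ[K] L) (F ⊗[K] L) :=
  MulSemiringAction.compHom (F ⊗[K] L) (rho K F L)

theorem smul_def (γ : L ≃ₐ[K] L) (x : F ⊗[K] L) :
    letI := action K F L
    γ • x = rho K F L γ x := rfl

theorem smulCommClass : letI := action K F L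
    SMulCommClass (L ≃ₐ[K] L) F (F ⊗[K] L) := by
  letI := action K F L
  refine ⟨fun γ f x => ?_⟩
  rw [smul_def, smul_def, map_smul]

/-- Every element is fixed by the fixing subgroup of a finite subextension. -/
theorem exists_fixing [Algebra.IsAlgebraic K L] (x : F ⊗[K] L) :
    ∃ E : IntermediateField K L, FiniteDimensional K E ∧
      ∀ γ ∈ E.fixingSubgroup, rho K F L γ x = x := by
  induction x using TensorProduct.induction_on with
  | zero => exact ⟨⊥, inferInstance, fun γ _ => map_zero _⟩
  | tmul f l =>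
    refine ⟨IntermediateField.adjoin K {l},
      IntermediateField.adjoin.finiteDimensional (Algebra.IsIntegral.isIntegral l), fun γ hγ => ?_⟩
    rw [rho_tmul]
    congr 1
    exact (IntermediateField.mem_fixingSubgroup_iff _ γ).mp hγ l
      (IntermediateField.mem_adjoin_simple_self K l)
  | add x y hx hy =>
    obtain ⟨E₁, h1, hE₁⟩ := hx
    obtain ⟨E₂, h2, hE₂⟩ := hy
    refine ⟨E₁ ⊔ E₂, IntermediateField.finiteDimensional_sup E₁ E₂, fun γ hγ => ?_⟩
    rw [map_add]
    rw [hE₁ γ (IntermediateField.fixingSubgroup_antitone le_sup_left hγ),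
      hE₂ γ (IntermediateField.fixingSubgroup_antitone le_sup_right hγ)]

theorem continuousSMul [Algebra.IsAlgebraic K L] :
    letI := action K F L
    letI : TopologicalSpace (F ⊗[K] L) := ⊥
    ContinuousSMul (L ≃ₐ[K] L) (F ⊗[K] L) := by
  letI := action K F L
  letI : TopologicalSpace (F ⊗[K] L) := ⊥
  haveI : DiscreteTopology (F ⊗[K] L) := ⟨rfl⟩
  refine ⟨?_⟩
  rw [continuous_prod_of_discrete_right]
  intro x
  rw [continuous_discrete_rng]
  intro y
  rw [isOpen_iff_mem_nhds]
  intro γ₀ hγ₀
  obtain ⟨E, hE, hfix⟩ := exists_fixing K F L x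
  have hopen : IsOpen (E.fixingSubgroup : Set (L ≃ₐ[K] L)) := E.fixingSubgroup_isOpen
  have h1 : IsOpen (γ₀ • (E.fixingSubgroup : Set (L ≃ₐ[K] L))) := hopen.smul γ₀
  refine Filter.mem_of_superset (h1.mem_nhds ⟨1, E.fixingSubgroup.one_mem, by simp⟩) ?_
  rintro _ ⟨γ, hγ, rfl⟩
  show (γ₀ * γ) • x = y
  rw [mul_smul]
  have : γ • x = x := hfix γ hγ
  rw [this]
  exact hγ₀

theorem isInvariant [IsGalois K L] :
    letI := action K F L
    Algebra.IsInvariant F (F ⊗[K] L) (L ≃ₐ[K] L) := by
  classical
  letI := action K F L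
  refine ⟨fun x hx => ?_⟩
  let b := Module.Basis.ofVectorSpace K F
  let Φ : F ⊗[K] L ≃ₗ[K] (Module.Basis.ofVectorSpaceIndex K F →₀ L) :=
    (TensorProduct.congr b.repr (LinearEquiv.refl K L)).trans
      (TensorProduct.finsuppScalarLeft K L _)
  have hΦ : ∀ (f : F) (l : L) i, Φ (f ⊗ₜ[K] l) i = (b.repr f i) • l := by
    intro f l i
    simp [Φ]
  have hequi : ∀ (γ : L ≃ₐ[K] L) (y : F ⊗[K] L) i, Φ (rho K F L γ y) i = γ (Φ y i) := by
    intro γ y i
    induction y using TensorProduct.induction_on with
    | zero => simp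
    | tmul f l => rw [rho_tmul, hΦ, hΦ, map_smul]
    | add y z hy hz => simp only [map_add, Finsupp.add_apply, hy, hz]
  have hmem : ∀ i, Φ x i ∈ Set.range (algebraMap K L) := by
    intro i
    rw [InfiniteGalois.mem_range_algebraMap_iff_fixed]
    intro γ
    rw [← hequi, ← smul_def, hx γ]
  choose c hc using hmem
  refine ⟨∑ i ∈ (Φ x).support, c i • b i, ?_⟩
  apply Φ.injective
  ext i
  rw [Algebra.TensorProduct.algebraMap_apply, Algebra.algebraMap_self_apply, hΦ, map_sum]
  simp only [map_smul, Module.Basis.repr_self, Finsupp.coe_finsetSum, Finsupp.coe_smul,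
    Finset.sum_apply, Pi.smul_apply, smul_eq_mul]
  rw [Finset.sum_smul]
  by_cases hi : i ∈ (Φ x).support
  · rw [Finset.sum_eq_single i]
    · rw [Finsupp.single_eq_same, mul_one, ← hc i, Algebra.smul_def, mul_one]
    · intro j _ hj
      rw [Finsupp.single_eq_of_ne hj.symm, mul_zero, zero_smul]
    · intro h; exact absurd hi h
  · rw [Finsupp.notMem_support_iff.mp hi]
    apply Finset.sum_eq_zero
    intro j hj
    have : j ≠ i := fun h => hi (h ▸ hj)
    rw [Finsupp.single_eq_of_ne this.symm, mul_zero, zero_smul]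

end Groth.Agent.Helper3.GalPrime
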