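import Mathlib
import Groth.Agent.Lib.Helper3.GalPrime1

namespace Groth.Agent.Helper3.GalPrime

open TensorProduct
open scoped Pointwise

universe u

theorem main_S19477 (K B L : Type u) [Field K]
    [CommRing B] [IsDomain B] [Algebra K B] [Algebra.FiniteType K B] [Field L] [Algebra K L]
    [IsGalois K L] :
    Finite (PrimeSpectrum (TensorProduct K (FractionRing B) L)) ∧
      ∀ P Q : PrimeSpectrum (TensorProduct K (FractionRing B) L), ∃ γ : L ≃ₐ[K] L,
        Q.asIdeal = P.asIdeal.comap
          (Algebra.TensorProduct.map (AlgHom.id K (FractionRing B)) (γ : L →ₐ[K] L)) := by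
  set F := FractionRing B with hF
  constructor
  · haveI : Algebra.EssFiniteType B F :=
      Algebra.EssFiniteType.of_isLocalization _ (nonZeroDivisors B)
    haveI : Algebra.EssFiniteType K F := Algebra.EssFiniteType.comp K B F
    haveI : IsNoetherianRing (L ⊗[K] F) := Algebra.EssFiniteType.isNoetherianRing L _
    haveI hN : IsNoetherianRing (F ⊗[K] L) :=
      isNoetherianRing_of_ringEquiv (L ⊗[K] F) (Algebra.TensorProduct.comm K L F).toRingEquiv
    haveI hdim : Ring.KrullDimLE 0 (F ⊗[K] L) := by
      rw [Ring.krullDimLE_zero_iff]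
      intro I hI
      apply Ideal.isMaximal_of_isIntegral_of_isMaximal_comap (R := F) I
      have hp : (I.comap (algebraMap F (F ⊗[K] L))).IsPrime := Ideal.comap_isPrime _ I
      rw [Ideal.eq_bot_of_prime (I.comap (algebraMap F (F ⊗[K] L)))]
      exact Ideal.bot_isMaximal
    haveI : IsArtinianRing (F ⊗[K] L) :=
      isArtinianRing_iff_isNoetherianRing_krullDimLE_zero.mpr ⟨hN, hdim⟩
    infer_instance
  · intro P Q
    letI := action K F L
    haveI := smulCommClass K F L
    letI : TopologicalSpace (F ⊗[K] L) := ⊥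
    haveI : DiscreteTopology (F ⊗[K] L) := ⟨rfl⟩
    haveI := continuousSMul K F L
    haveI := isInvariant K F L
    have hP : P.asIdeal.under F = ⊥ := Ideal.eq_bot_of_prime _
    have hQ : Q.asIdeal.under F = ⊥ := Ideal.eq_bot_of_prime _
    obtain ⟨g, hg⟩ := Algebra.IsInvariant.exists_smul_of_under_eq_of_profinite
      (A := F) (B := F ⊗[K] L) (G := L ≃ₐ[K] L) P.asIdeal Q.asIdeal (hP.trans hQ.symm)
    refine ⟨g⁻¹, ?_⟩
    ext x
    rw [hg, Ideal.mem_comap, Ideal.mem_pointwise_smul_iff_inv_smul_mem, smul_def, rho_eq_map]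

end Groth.Agent.Helper3.GalPrime
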