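import Mathlib
import Groth.Prelude.Def_EtBase
import Groth.Prelude.Def_Dix
import Groth.Prelude.Def_EtGm
import Groth.Agent.Lib.Helper3.GalTr9
import Groth.Agent.S0108
/-!
# `cd_ℓ(X) ≤ n` and the `ℓ`-primary torsion of `H^i(X, G_m)`
-/
universe u
open CategoryTheory CategoryTheory.Limits AlgebraicGeometry Opposite

namespace Groth.Agent.Helper3.GalTr10

open Groth.Agent.Helper3.GalTr9

variable {X : Scheme.{u}}

lemma isPrimaryTorsion_of_nsmul_eq_zero (G : EtCoh.Ab X) (ℓ k : ℕ) (h : (ℓ ^ k) • 𝟙 G = 0) :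
    Dix.IsPrimaryTorsion ℓ G := by
  intro U s x
  refine ⟨U, 𝟙 U, ⟨x, rfl⟩, k, ?_⟩
  have h1 := nsmul_hom_app G (ℓ ^ k) U s
  rw [h] at h1
  have h2 : G.obj.map (𝟙 U).op s = s := by
    rw [op_id, G.obj.map_id]
    rfl
  rw [h2, ← h1]
  rfl

lemma isUnit_natCast_of_invertibleOn (ℓ : ℕ) (h : Dix.InvertibleOn X ℓ) (k : ℕ) :
    IsUnit (((ℓ ^ k : ℕ)) : Γ(X, ⊤)) := by
  rw [Nat.cast_pow]
  apply IsUnit.pow
  apply RingedSpace.isUnit_of_isUnit_germ (X := X.toLocallyRingedSpace.toRingedSpace) ⊤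
  intro x hx
  have h1 : x ∈ X.basicOpen ((ℓ : ℕ) : Γ(X, ⊤)) := by
    rw [← Scheme.evaluation_ne_zero_iff_mem_basicOpen X (U := ⊤) x (Set.mem_univ x), map_natCast]
    exact h x
  exact (X.mem_basicOpen_top _ x).1 h1

theorem main (ℓ : ℕ) (n : ℕ) (hcd : Dix.CohDimLEAt X ℓ n) :
    (∀ i : ℕ, n + 1 < i → ∀ ξ : EtCoh.H X (EtCoh.Gm X) i, (∃ k : ℕ, ℓ ^ k • ξ = 0) → ξ = 0) ∧
    (Dix.InvertibleOn X ℓ → ∀ i : ℕ, n < i → ∀ ξ : EtCoh.H X (EtCoh.Gm X) i,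
      (∃ k : ℕ, ℓ ^ k • ξ = 0) → ξ = 0) := by
  constructor
  · intro i hi ξ ⟨k, hk⟩
    obtain ⟨q, rfl⟩ : ∃ j, i = j + 1 := ⟨i - 1, by omega⟩
    refine eq_zero_of_nsmul_eq_zero _ (EtCoh.Gm X) (ℓ ^ k) q ?_ ?_ ξ hk
    · intro x₁
      have := hcd _ (isPrimaryTorsion_of_nsmul_eq_zero _ ℓ k (nsmul_kernel_eq_zero (EtCoh.Gm X) _))
        (q + 1) (by omega)
      exact Subsingleton.elim _ _
    · intro y
      have := hcd _ (isPrimaryTorsion_of_nsmul_eq_zero _ ℓ k (nsmul_cokernel_eq_zero (EtCoh.Gm X) _))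
        q (by omega)
      exact Subsingleton.elim _ _
  · intro hinv i hi ξ ⟨k, hk⟩
    obtain ⟨q, rfl⟩ : ∃ j, i = j + 1 := ⟨i - 1, by omega⟩
    have hepi : Epi ((ℓ ^ k) • 𝟙 (EtCoh.Gm X)) :=
      Groth.Agent.S0108.result X (ℓ ^ k) (isUnit_natCast_of_invertibleOn ℓ hinv k)
    refine eq_zero_of_nsmul_eq_zero _ (EtCoh.Gm X) (ℓ ^ k) q ?_ ?_ ξ hk
    · intro x₁
      have := hcd _ (isPrimaryTorsion_of_nsmul_eq_zero _ ℓ k (nsmul_kernel_eq_zero (EtCoh.Gm X) _))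
        (q + 1) (by omega)
      exact Subsingleton.elim _ _
    · intro y
      have hz : IsZero (cokernel ((ℓ ^ k) • 𝟙 (EtCoh.Gm X))) := isZero_cokernel_of_epi _
      have h1 : y = y.comp (Abelian.Ext.mk₀ (𝟙 _)) (add_zero q) := (Abelian.Ext.comp_mk₀_id _).symm
      rw [h1, hz.eq_of_src (𝟙 _) 0, Abelian.Ext.mk₀_zero, Abelian.Ext.comp_zero]

end Groth.Agent.Helper3.GalTr10
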