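import Mathlib
import Groth.Prelude.Def_EtBase
import Groth.Agent.Lib.Helper3.GalTr7
/-!
# `H^i(Spec k, ℤ) ≅ H^{i-1}(Spec k, ℚ/ℤ)` for `i ≥ 2`
-/
universe u
open CategoryTheory CategoryTheory.Limits AlgebraicGeometry Opposite

namespace Groth.Agent.Helper3.GalTr

section Const
universe w

/-- `ℤ → ℚ` after `ULift`. -/
noncomputable def fZQ : AddCommGrpCat.of (ULift.{w} ℤ) ⟶ AddCommGrpCat.of (ULift.{w} ℚ) :=
  AddCommGrpCat.ofHom (AddEquiv.ulift.symm.toAddMonoidHom.comp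
    ((Int.castAddHom ℚ).comp AddEquiv.ulift.toAddMonoidHom))

/-- `ℚ → ℚ/ℤ` after `ULift`. -/
noncomputable def gQQZ : AddCommGrpCat.of (ULift.{w} ℚ) ⟶
    AddCommGrpCat.of (ULift.{w} (ℚ ⧸ AddSubgroup.zmultiples (1 : ℚ))) :=
  AddCommGrpCat.ofHom (AddEquiv.ulift.symm.toAddMonoidHom.comp
    ((QuotientAddGroup.mk' (AddSubgroup.zmultiples (1 : ℚ))).comp AddEquiv.ulift.toAddMonoidHom))

lemma fZQ_gQQZ : fZQ.{w} ≫ gQQZ.{w} = 0 := by
  ext ⟨n⟩
  change ((n : ℚ) : ℚ ⧸ AddSubgroup.zmultiples (1 : ℚ)) = 0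
  rw [QuotientAddGroup.eq_zero_iff, AddSubgroup.mem_zmultiples_iff]
  exact ⟨n, zsmul_one n⟩

/-- The short complex `ℤ → ℚ → ℚ/ℤ`. -/
noncomputable def SZQ : ShortComplex AddCommGrpCat.{w} := ShortComplex.mk fZQ.{w} gQQZ.{w} fZQ_gQQZ

lemma SZQ_shortExact : SZQ.{w}.ShortExact where
  exact := by
    rw [ShortComplex.ab_exact_iff]
    rintro ⟨q⟩ hq
    have hq' : ((q : ℚ) : ℚ ⧸ AddSubgroup.zmultiples (1 : ℚ)) = 0 := congrArg ULift.down hq
    rw [QuotientAddGroup.eq_zero_iff, AddSubgroup.mem_zmultiples_iff] at hq'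
    obtain ⟨n, hn⟩ := hq'
    refine ⟨⟨n⟩, ?_⟩
    apply ULift.ext
    change (n : ℚ) = q
    rw [← hn, zsmul_one]
  mono_f := by
    rw [AddCommGrpCat.mono_iff_injective]
    rintro ⟨a⟩ ⟨b⟩ h
    have h' : (a : ℚ) = (b : ℚ) := congrArg ULift.down h
    exact congrArg ULift.up (Int.cast_injective h')
  epi_g := by
    rw [AddCommGrpCat.epi_iff_surjective]
    rintro ⟨y⟩
    obtain ⟨q, rfl⟩ := QuotientAddGroup.mk_surjective y
    exact ⟨⟨q⟩, rfl⟩

lemma isIso_nsmul_Q (n : ℕ) (hn : 0 < n) : IsIso (n • 𝟙 (AddCommGrpCat.of (ULift.{w} ℚ))) := by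
  rw [ConcreteCategory.isIso_iff_bijective]
  have hn' : (n : ℚ) ≠ 0 := by exact_mod_cast hn.ne'
  constructor
  · rintro ⟨a⟩ ⟨b⟩ h
    have h' : n • a = n • b := congrArg ULift.down h
    apply ULift.ext
    change a = b
    rw [nsmul_eq_mul, nsmul_eq_mul] at h'
    exact mul_left_cancel₀ hn' h'
  · rintro ⟨b⟩
    refine ⟨⟨b / n⟩, ?_⟩
    apply ULift.ext
    change n • (b / n) = b
    rw [nsmul_eq_mul]
    field_simp

end Const

variable {k : Type u} [Field k]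

instance : PreservesFiniteColimits (constantSheaf (X k).smallEtaleTopology AddCommGrpCat.{u + 1}) :=
  have := (constantSheafAdj (X k).smallEtaleTopology AddCommGrpCat.{u + 1}
    (topIsTerminal (X k))).leftAdjoint_preservesColimits
  inferInstance

instance : PreservesFiniteLimits (constantSheaf (X k).smallEtaleTopology AddCommGrpCat.{u + 1}) := by
  dsimp only [constantSheaf]
  infer_instance

instance : (constantSheaf (X k).smallEtaleTopology AddCommGrpCat.{u + 1}).Additive :=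
  Functor.additive_of_preserves_binary_products _

/-- The short exact sequence of constant sheaves `0 → ℤ → ℚ → ℚ/ℤ → 0`. -/
noncomputable def SZQsh (k : Type u) [Field k] : ShortComplex (EtCoh.Ab (X k)) :=
  SZQ.{u + 1}.map (constantSheaf (X k).smallEtaleTopology AddCommGrpCat.{u + 1})

lemma SZQsh_shortExact : (SZQsh k).ShortExact :=
  SZQ_shortExact.{u + 1}.map_of_exact _

theorem nonempty_H_Z_equiv (i : ℕ) (hi : 2 ≤ i) :
    Nonempty (EtCoh.H (X k) (EtCoh.const (X k) ℤ) i ≃+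
      EtCoh.H (X k) (EtCoh.const (X k) (ℚ ⧸ AddSubgroup.zmultiples (1 : ℚ))) (i - 1)) := by
  obtain ⟨j, rfl⟩ : ∃ j, i = j + 2 := ⟨i - 2, by omega⟩
  have hS := SZQsh_shortExact (k := k)
  have hQ : ∀ m : ℕ, 0 < m → Subsingleton (EtCoh.H (X k) (SZQsh k).X₂ m) := by
    intro m hm
    apply subsingleton_H_of_div _ _ m hm
    intro n hn
    have := isIso_nsmul_Q.{u + 1} n hn
    have h : n • 𝟙 (SZQsh k).X₂ = (constantSheaf (X k).smallEtaleTopology AddCommGrpCat.{u + 1}).map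
        (n • 𝟙 (AddCommGrpCat.of (ULift.{u + 1} ℚ))) := by
      rw [Functor.map_nsmul, CategoryTheory.Functor.map_id]
      rfl
    rw [h]
    exact Functor.map_isIso _ _
  let Z0 := (constantSheaf (X k).smallEtaleTopology AddCommGrpCat.{u + 1}).obj
    (AddCommGrpCat.of (ULift.{u + 1} ℤ))
  let δ : Abelian.Ext Z0 (SZQsh k).X₃ (j + 1) →+ Abelian.Ext Z0 (SZQsh k).X₁ (j + 2) :=
    hS.extClass.postcomp Z0 (rfl : j + 1 + 1 = j + 2)
  have hδ : Function.Bijective δ := by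
    constructor
    · rw [injective_iff_map_eq_zero]
      intro x₃ hx₃
      obtain ⟨x₂, rfl⟩ := Abelian.Ext.covariant_sequence_exact₃ _ hS x₃ rfl hx₃
      have := hQ (j + 1) (Nat.succ_pos j)
      rw [Subsingleton.elim x₂ 0, Abelian.Ext.zero_comp]
    · intro x₁
      have := hQ (j + 2) (Nat.succ_pos _)
      have h0 : x₁.comp (Abelian.Ext.mk₀ (SZQsh k).f) (add_zero (j + 2)) = 0 := Subsingleton.elim _ _
      exact Abelian.Ext.covariant_sequence_exact₁ _ hS x₁ h0 rfl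
  exact ⟨(AddEquiv.ofBijective δ hδ).symm⟩

end Groth.Agent.Helper3.GalTr
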