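import Groth.Agent.Lib.Helper3.LambdaN

set_option autoImplicit false

namespace Groth.Agent.Helper3.LambdaLib

open LambdaRing

universe u

section Binomial

open PowerSeries

variable {K : Type u} [CommRing K] [LambdaOps K] [BinomialRing K]

theorem succ_mul_choose_succ (x : K) (n : ℕ) :
    ((n : K) + 1) * Ring.choose x (n + 1) = Ring.choose x n * (x - n) := by
  have h := Ring.choose_smul_choose x (Nat.le_succ n)
  rw [Nat.choose_succ_self_right, Nat.succ_sub (le_refl n), Nat.sub_self, Ring.choose_one_right,
    nsmul_eq_mul] at h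
  push_cast at h
  exact h

theorem adamsOp_eq_self_of_isBinomial (hKb : IsBinomial K) (k : ℕ) (hk : 1 ≤ k) (x : K) :
    adamsOp k x = x := by
  obtain ⟨k, rfl⟩ : ∃ m, k = m + 1 := ⟨k - 1, by omega⟩
  -- (1 + X) * λ' = x λ
  have h1 : (1 + X) * derivative K (lamSeries x) = C x * lamSeries x := by
    ext n
    rw [add_mul, one_mul, map_add, coeff_C_mul, coeff_lamSeries, coeff_derivative, coeff_lamSeries,
      hKb, hKb]
    rcases n with _ | n
    · rw [coeff_zero_X_mul, add_zero]
      have := succ_mul_choose_succ x 0
      simp only [Nat.cast_zero, zero_add, one_mul, sub_zero] at this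
      simp only [Nat.cast_zero, zero_add, mul_one]
      rw [this, mul_comm]
    · rw [coeff_succ_X_mul, coeff_derivative, coeff_lamSeries, hKb]
      have e1 := succ_mul_choose_succ x (n + 1)
      push_cast at e1 ⊢
      linear_combination e1
  have h2 : derivative K (lamSeries x) = (C x * altSeries K) * lamSeries x := by
    calc derivative K (lamSeries x)
        = (altSeries K * (1 + X)) * derivative K (lamSeries x) := by rw [altSeries_mul, one_mul]
      _ = altSeries K * ((1 + X) * derivative K (lamSeries x)) := by ring
      _ = (C x * altSeries K) * lamSeries x := by rw [h1]; ring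
  have h3 : logDerivSeries x = C x * altSeries K := by
    rw [logDerivSeries_eq, h2, mul_assoc, mul_assoc, mul_comm (lamSeries x), lamSeries_neg_mul,
      mul_one]
  rw [adamsOp_succ, h3, coeff_C_mul, altSeries, coeff_mk, ← mul_assoc, mul_comm _ x, mul_assoc,
    ← mul_pow]
  simp

theorem isSpecial_of_isBinomial (hKb : IsBinomial K) : IsSpecial K := by
  have : IsAddTorsionFree K := BinomialRing.toIsAddTorsionFree
  apply isSpecial_of_adams
  · intro k hk
    exact adamsOp_eq_self_of_isBinomial hKb k hk 1
  · intro k hk x y
    rw [adamsOp_eq_self_of_isBinomial hKb k hk, adamsOp_eq_self_of_isBinomial hKb k hk,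
      adamsOp_eq_self_of_isBinomial hKb k hk]
  · intro k k' hk hk' x
    rw [adamsOp_eq_self_of_isBinomial hKb k' hk', adamsOp_eq_self_of_isBinomial hKb k hk,
      adamsOp_eq_self_of_isBinomial hKb (k * k') (Nat.mul_pos hk hk')]

end Binomial

end Groth.Agent.Helper3.LambdaLib
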