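import Groth.Agent.Lib.Helper3.LambdaQ
import Groth.Agent.Lib.Helper3.LambdaO

set_option autoImplicit false

namespace Groth.Agent.Helper3.LambdaLib

open LambdaRing

universe u w

section PolyLam

open PowerSeries

variable {K : Type u} [CommRing K] [LambdaOps K] (τ : Type w)

/-- the series `λ_t(f) = ∏_α λ_{T^α t}(f_α)` on a polynomial ring over a pre-λ-ring, the monomials
being line elements -/
noncomputable def polyLamSeries (f : MvPolynomial τ K) : PowerSeries (MvPolynomial τ K) :=
  (AddMonoidAlgebra.coeff f).prod fun α c =>
    rescale (MvPolynomial.monomial α (1 : K)) (PowerSeries.map MvPolynomial.C (lamSeries c))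

theorem polyLamSeries_add (f g : MvPolynomial τ K) :
    polyLamSeries τ (f + g) = polyLamSeries τ f * polyLamSeries τ g := by
  unfold polyLamSeries
  rw [AddMonoidAlgebra.coeff_add]
  apply Finsupp.prod_add_index'
  · intro α
    rw [lamSeries_zero, RingHom.map_one, RingHom.map_one]
  · intro α c c'
    rw [lamSeries_add, RingHom.map_mul, RingHom.map_mul]

theorem polyLamSeries_monomial (α : τ →₀ ℕ) (c : K) :
    polyLamSeries τ (MvPolynomial.monomial α c) =
      rescale (MvPolynomial.monomial α (1 : K)) (PowerSeries.map MvPolynomial.C (lamSeries c)) := by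
  unfold polyLamSeries
  have : AddMonoidAlgebra.coeff (MvPolynomial.monomial α c) = Finsupp.single α c := rfl
  rw [this, Finsupp.prod_single_index]
  rw [lamSeries_zero, RingHom.map_one, RingHom.map_one]

theorem constantCoeff_polyLamSeries (f : MvPolynomial τ K) :
    constantCoeff (polyLamSeries τ f) = 1 := by
  unfold polyLamSeries
  rw [Finsupp.prod, map_prod]
  apply Finset.prod_eq_one
  intro α _
  rw [← coeff_zero_eq_constantCoeff_apply, coeff_rescale, pow_zero, one_mul, coeff_map,
    coeff_lamSeries, LambdaOps.lam_zero, map_one]

omit [LambdaOps K] in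
theorem coeff_one_mul' (F G : PowerSeries K) :
    coeff 1 (F * G) = coeff 0 F * coeff 1 G + coeff 1 F * coeff 0 G := by
  rw [coeff_mul, Finset.Nat.sum_antidiagonal_eq_sum_range_succ_mk]
  simp [Finset.sum_range_succ]

theorem coeff_one_polyLamSeries (f : MvPolynomial τ K) :
    coeff 1 (polyLamSeries τ f) = f := by
  induction f using MvPolynomial.induction_on' with
  | monomial α c =>
    rw [polyLamSeries_monomial, coeff_rescale, pow_one, coeff_map, coeff_lamSeries,
      LambdaOps.lam_one, MvPolynomial.monomial_eq (s := α) (a := c), MvPolynomial.monomial_eq,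
      map_one, one_mul, mul_comm]
  | add p q hp hq =>
    rw [polyLamSeries_add, coeff_one_mul', coeff_zero_eq_constantCoeff_apply,
      coeff_zero_eq_constantCoeff_apply,
      constantCoeff_polyLamSeries, constantCoeff_polyLamSeries, hp, hq]
    ring

/-- the λ-structure on a polynomial ring over a pre-λ-ring for which the variables (and all
monomials) are line elements -/
@[reducible] noncomputable def polyLambdaOps : LambdaOps (MvPolynomial τ K) where
  lam n f := coeff n (polyLamSeries τ f)
  lam_zero f := by
    rw [coeff_zero_eq_constantCoeff_apply, constantCoeff_polyLamSeries]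
  lam_one f := coeff_one_polyLamSeries τ f
  lam_add k f g := by
    rw [polyLamSeries_add, coeff_mul, Finset.Nat.sum_antidiagonal_eq_sum_range_succ_mk]

end PolyLam

end Groth.Agent.Helper3.LambdaLib
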