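import Groth.Agent.Lib.Helper3.GamA

set_option autoImplicit false

namespace Groth.Agent.Helper3.LambdaLib

open LambdaRing Groth.Agent.Helper3.SplitLib

universe u w

attribute [local instance] polyLambdaOps

section PolyAdams

open PowerSeries

variable {K : Type u} [CommRing K] [LambdaOps K] (τ : Type w)

theorem lamSeries_poly (f : MvPolynomial τ K) : lamSeries f = polyLamSeries τ f := by
  apply PowerSeries.ext
  intro n
  rw [coeff_lamSeries]
  rfl

theorem lamSeries_poly_monomial (α : τ →₀ ℕ) (c : K) :
    lamSeries (MvPolynomial.monomial α c) =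
      rescale (MvPolynomial.monomial α (1 : K)) (PowerSeries.map MvPolynomial.C (lamSeries c)) := by
  rw [lamSeries_poly, polyLamSeries_monomial]

theorem lam_poly_monomial (n : ℕ) (α : τ →₀ ℕ) (c : K) :
    LambdaOps.lam n (MvPolynomial.monomial α c) =
      MvPolynomial.monomial (n • α) (LambdaOps.lam n c) := by
  rw [← coeff_lamSeries, lamSeries_poly_monomial, coeff_rescale, coeff_map, coeff_lamSeries,
    MvPolynomial.monomial_pow, one_pow, mul_comm, MvPolynomial.C_mul_monomial, mul_one]

theorem lam_poly_C (n : ℕ) (c : K) :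
    LambdaOps.lam n (MvPolynomial.C c : MvPolynomial τ K) = MvPolynomial.C (LambdaOps.lam n c) := by
  have := lam_poly_monomial τ n 0 c
  rwa [smul_zero] at this

theorem isLambdaAlg_poly : IsLambdaAlg K (MvPolynomial τ K) := by
  intro n x
  rw [MvPolynomial.algebraMap_eq, lam_poly_C]

theorem lam_poly_X (h1 : ∀ k : ℕ, 2 ≤ k → LambdaOps.lam k (1 : K) = 0) (j : τ) (n : ℕ)
    (hn : 2 ≤ n) : LambdaOps.lam n (MvPolynomial.X j : MvPolynomial τ K) = 0 := by
  have := lam_poly_monomial τ n (Finsupp.single j 1) (1 : K)
  rw [h1 n hn, map_zero] at this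
  exact this

theorem adamsOp_poly_monomial (k : ℕ) (α : τ →₀ ℕ) (c : K) :
    adamsOp (k + 1) (MvPolynomial.monomial α c) =
      MvPolynomial.monomial ((k + 1) • α) (adamsOp (k + 1) c) := by
  have hc : constantCoeff (PowerSeries.map (MvPolynomial.C (σ := τ)) (lamSeries c)) = 1 := by
    rw [← coeff_zero_eq_constantCoeff_apply, coeff_map, coeff_lamSeries, LambdaOps.lam_zero,
      RingHom.map_one]
  have h1 : logDerivSeries (MvPolynomial.monomial α c) =
      C (MvPolynomial.monomial α (1 : K)) * rescale (MvPolynomial.monomial α (1 : K))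
        (PowerSeries.map MvPolynomial.C (logDerivSeries c)) := by
    unfold logDerivSeries
    rw [lamSeries_poly_monomial, derivative_rescale, rescale_invOfUnit _ _ hc, ← derivative_map,
      ← map_invOfUnit _ _ (constantCoeff_lamSeries c), RingHom.map_mul, RingHom.map_mul]
    ring
  rw [adamsOp_succ, h1, coeff_C_mul, coeff_rescale, coeff_map, coeff_logDerivSeries,
    MvPolynomial.monomial_pow, one_pow, RingHom.map_mul, RingHom.map_pow, RingHom.map_neg,
    RingHom.map_one]
  have h2 : ((-1 : MvPolynomial τ K) ^ k) * ((-1) ^ k) = 1 := by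
    rw [← mul_pow]; simp
  calc (-1 : MvPolynomial τ K) ^ k * (MvPolynomial.monomial α 1 *
        (MvPolynomial.monomial (k • α) 1 * ((-1) ^ k * MvPolynomial.C (adamsOp (k + 1) c))))
      = ((-1 : MvPolynomial τ K) ^ k * (-1) ^ k) * ((MvPolynomial.monomial α 1 *
        MvPolynomial.monomial (k • α) 1) * MvPolynomial.C (adamsOp (k + 1) c)) := by ring
    _ = MvPolynomial.monomial ((k + 1) • α) (adamsOp (k + 1) c) := by
      rw [h2, one_mul, MvPolynomial.monomial_mul, one_mul, mul_comm, MvPolynomial.C_mul_monomial,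
        mul_one, add_smul, one_smul, add_comm]

end PolyAdams

section TorsionFree

theorem isAddTorsionFree_mvPolynomial {K : Type u} [CommRing K] [IsAddTorsionFree K] (τ : Type w) :
    IsAddTorsionFree (MvPolynomial τ K) := by
  constructor
  intro n hn f g hfg
  ext m
  have h := congrArg (MvPolynomial.coeff m) hfg
  simp only [MvPolynomial.coeff_smul] at h
  exact nsmul_right_injective hn h

end TorsionFree

section PolyBinomial

variable {K : Type u} [CommRing K] [LambdaOps K] [BinomialRing K] (hKb : IsBinomial K) (τ : Type w)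

include hKb

theorem adamsOp_poly (k : ℕ) (hk : 1 ≤ k) (f : MvPolynomial τ K) :
    adamsOp k f = MvPolynomial.expand k f := by
  obtain ⟨k, rfl⟩ : ∃ m, k = m + 1 := ⟨k - 1, by omega⟩
  induction f using MvPolynomial.induction_on' with
  | monomial α c =>
    rw [adamsOp_poly_monomial, adamsOp_eq_self_of_isBinomial hKb (k + 1) (by omega),
      MvPolynomial.expand_monomial]
  | add p q hp hq => rw [adamsOp_add, map_add, hp, hq]

theorem isSpecial_poly : IsSpecial (MvPolynomial τ K) := by
  have : IsAddTorsionFree K := BinomialRing.toIsAddTorsionFree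
  have htf : IsAddTorsionFree (MvPolynomial τ K) := isAddTorsionFree_mvPolynomial τ
  apply isSpecial_of_adams
  · intro k hk
    rw [adamsOp_poly hKb τ k hk, map_one]
  · intro k hk x y
    rw [adamsOp_poly hKb τ k hk, adamsOp_poly hKb τ k hk, adamsOp_poly hKb τ k hk, map_mul]
  · intro k k' hk hk' x
    rw [adamsOp_poly hKb τ k' hk', adamsOp_poly hKb τ k hk,
      adamsOp_poly hKb τ (k * k') (Nat.mul_pos hk hk'), MvPolynomial.expand_mul]

end PolyBinomial

end Groth.Agent.Helper3.LambdaLib
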