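import Groth.Agent.Lib.Helper3.GamB

set_option autoImplicit false

namespace Groth.Agent.Helper3.LambdaLib

open LambdaRing

universe u

section Comb

open Finset

/-- `Σ_i (-1)^i C(n,i) (i+1)^n = (-1)^n n!` -/
theorem alt_sum_choose_succ_pow (n : ℕ) :
    ∑ i ∈ range (n + 1), (-1 : ℤ) ^ i * (n.choose i : ℤ) * ((i : ℤ) + 1) ^ n =
      (-1) ^ n * (n.factorial : ℤ) := by
  have h1 := fwdDiff_iter_eq_sum_shift (h := (1 : ℤ)) (fun r : ℤ => r ^ n) n 1
  have h2 : (fwdDiff (1 : ℤ))^[n] (fun r : ℤ => r ^ n) 1 = (n.factorial : ℤ) := by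
    have := congrFun (fwdDiff_iter_eq_factorial (R := ℤ) (n := n)) 1
    simpa using this
  rw [h2] at h1
  rw [h1, Finset.mul_sum]
  apply Finset.sum_congr rfl
  intro k hk
  have hk' : k ≤ n := Nat.lt_succ_iff.1 (Finset.mem_range.1 hk)
  have e1 : (-1 : ℤ) ^ n * (-1) ^ (n - k) = (-1) ^ k := by
    have : (-1 : ℤ) ^ n = (-1) ^ (n - k) * (-1) ^ k := by
      rw [← pow_add, Nat.sub_add_cancel hk']
    rw [this]
    have h3 : (-1 : ℤ) ^ (n - k) * (-1) ^ (n - k) = 1 := by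
      rw [← mul_pow]; simp
    calc (-1 : ℤ) ^ (n - k) * (-1) ^ k * (-1) ^ (n - k)
        = ((-1 : ℤ) ^ (n - k) * (-1) ^ (n - k)) * (-1) ^ k := by ring
      _ = (-1) ^ k := by rw [h3, one_mul]
  simp only [smul_eq_mul, nsmul_eq_mul, mul_one]
  rw [← e1]
  ring

end Comb

section Newton

open PowerSeries

variable {B : Type u} [CommRing B] [LambdaOps B]

/-- Newton's identities in a pre-λ-ring -/
theorem newton_lam (x : B) (j : ℕ) :
    ((j : B) + 1) * LambdaOps.lam (j + 1) x =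
      ∑ a ∈ Finset.range (j + 1), (-1) ^ a * adamsOp (a + 1) x * LambdaOps.lam (j - a) x := by
  have h := congrArg (coeff j) (derivative_lamSeries x)
  rw [coeff_derivative, coeff_mul, Finset.Nat.sum_antidiagonal_eq_sum_range_succ_mk,
    coeff_lamSeries] at h
  rw [mul_comm, h]
  apply Finset.sum_congr rfl
  intro a _
  rw [coeff_logDerivSeries, coeff_lamSeries]

end Newton

section Ideal

variable {B : Type u} [CommRing B] [LambdaOps B] (ψ : ℕ → B →+* B) (I : Ideal B)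

theorem psi_mem_of_mem
    (h1 : ∀ k : ℕ, 1 ≤ k → ∀ y ∈ I, ψ k y - (k : B) * y ∈ I ^ 2)
    (k : ℕ) (hk : 1 ≤ k) {y : B} (hy : y ∈ I) : ψ k y ∈ I := by
  have := h1 k hk y hy
  have h2 : ψ k y = (ψ k y - (k : B) * y) + (k : B) * y := by ring
  rw [h2]
  exact add_mem (Ideal.pow_le_self (by norm_num) this) (I.mul_mem_left _ hy)

theorem psi_pow_mem
    (h0 : ∀ k : ℕ, 1 ≤ k → ∀ z : B, ψ k z - z ∈ I)
    (h1 : ∀ k : ℕ, 1 ≤ k → ∀ y ∈ I, ψ k y - (k : B) * y ∈ I ^ 2)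
    (k : ℕ) (hk : 1 ≤ k) (m : ℕ) :
    ∀ z ∈ I ^ m, ψ k z ∈ I ^ m ∧ ψ k z - (k : B) ^ m * z ∈ I ^ (m + 1) := by
  induction m with
  | zero =>
    intro z _
    refine ⟨by simp, ?_⟩
    rw [pow_zero, one_mul, zero_add, pow_one]
    exact h0 k hk z
  | succ m ih =>
    intro z hz
    rw [pow_succ] at hz
    refine Submodule.mul_induction_on hz ?_ ?_
    · intro a ha y hy
      obtain ⟨ha1, ha2⟩ := ih a ha
      have hy1 := psi_mem_of_mem ψ I h1 k hk hy
      have hy2 := h1 k hk y hy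
      constructor
      · rw [map_mul, pow_succ]
        exact Ideal.mul_mem_mul ha1 hy1
      · have e : ψ k (a * y) - (k : B) ^ (m + 1) * (a * y) =
            (ψ k a - (k : B) ^ m * a) * ψ k y + (k : B) ^ m * (a * (ψ k y - (k : B) * y)) := by
          rw [map_mul]; ring
        rw [e]
        refine add_mem ?_ (Ideal.mul_mem_left _ _ ?_)
        · rw [pow_succ I (m + 1)]
          exact Ideal.mul_mem_mul ha2 hy1
        · have : I ^ (m + 1 + 1) = I ^ m * I ^ 2 := by rw [← pow_add]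
          rw [this]
          exact Ideal.mul_mem_mul ha hy2
    · intro x y hx hy
      constructor
      · rw [map_add]; exact add_mem hx.1 hy.1
      · have e : ψ k (x + y) - (k : B) ^ (m + 1) * (x + y) =
            (ψ k x - (k : B) ^ (m + 1) * x) + (ψ k y - (k : B) ^ (m + 1) * y) := by
          rw [map_add]; ring
        rw [e]
        exact add_mem hx.2 hy.2

variable (hψ : ∀ k : ℕ, 1 ≤ k → ∀ x : B, adamsOp k x = ψ k x)
  (h0 : ∀ k : ℕ, 1 ≤ k → ∀ z : B, ψ k z - z ∈ I)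
  (h1 : ∀ k : ℕ, 1 ≤ k → ∀ y ∈ I, ψ k y - (k : B) * y ∈ I ^ 2)
  (h2 : ∀ k n : ℕ, 1 ≤ k → ∀ f : B, (k : B) * f ∈ I ^ n → f ∈ I ^ n)

include hψ h0 h1 h2

theorem lam_mem_pow (m : ℕ) {z : B} (hz : z ∈ I ^ m) (j : ℕ) (hj : 1 ≤ j) :
    LambdaOps.lam j z ∈ I ^ m := by
  obtain ⟨j, rfl⟩ : ∃ i, j = i + 1 := ⟨j - 1, by omega⟩
  apply h2 (j + 1) m (by omega)
  push_cast
  rw [newton_lam]
  apply Ideal.sum_mem
  intro a _
  have e : (-1 : B) ^ a * ψ (a + 1) z * LambdaOps.lam (j - a) z =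
      ((-1) ^ a * LambdaOps.lam (j - a) z) * ψ (a + 1) z := by ring
  rw [hψ (a + 1) (by omega), e]
  exact Ideal.mul_mem_left _ _ (psi_pow_mem ψ I h0 h1 (a + 1) (by omega) m z hz).1

theorem lam_sub_mem_pow (m : ℕ) (hm : 1 ≤ m) {z : B} (hz : z ∈ I ^ m) (j : ℕ) :
    LambdaOps.lam (j + 1) z - (-1) ^ j * ((j : B) + 1) ^ (m - 1) * z ∈ I ^ (m + 1) := by
  apply h2 (j + 1) (m + 1) (by omega)
  have hpow : ((j : B) + 1) ^ m = ((j : B) + 1) * ((j : B) + 1) ^ (m - 1) := by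
    rw [← pow_succ']; congr 1; omega
  have e : ((j + 1 : ℕ) : B) * (LambdaOps.lam (j + 1) z - (-1) ^ j * ((j : B) + 1) ^ (m - 1) * z) =
      ((j : B) + 1) * LambdaOps.lam (j + 1) z - (-1) ^ j * (((j : B) + 1) ^ m * z) := by
    rw [hpow]; push_cast; ring
  rw [e, newton_lam, Finset.sum_range_succ, Nat.sub_self, LambdaOps.lam_zero, mul_one,
    hψ (j + 1) (by omega)]
  have e2 : ∑ a ∈ Finset.range j, (-1) ^ a * adamsOp (a + 1) z * LambdaOps.lam (j - a) z +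
      (-1) ^ j * ψ (j + 1) z - (-1) ^ j * (((j : B) + 1) ^ m * z) =
      ∑ a ∈ Finset.range j, (-1) ^ a * adamsOp (a + 1) z * LambdaOps.lam (j - a) z +
      (-1) ^ j * (ψ (j + 1) z - ((j + 1 : ℕ) : B) ^ m * z) := by
    push_cast; ring
  rw [e2]
  refine add_mem (Ideal.sum_mem _ ?_) (Ideal.mul_mem_left _ _ ?_)
  · intro a ha
    have ha' : a < j := Finset.mem_range.1 ha
    rw [hψ (a + 1) (by omega), mul_assoc]
    apply Ideal.mul_mem_left
    have h3 : ψ (a + 1) z * LambdaOps.lam (j - a) z ∈ I ^ m * I ^ m :=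
      Ideal.mul_mem_mul (psi_pow_mem ψ I h0 h1 (a + 1) (by omega) m z hz).1
        (lam_mem_pow ψ I hψ h0 h1 h2 m hz (j - a) (by omega))
    rw [← pow_add] at h3
    exact Ideal.pow_le_pow_right (by omega) h3
  · exact (psi_pow_mem ψ I h0 h1 (j + 1) (by omega) m z hz).2

theorem gamma_mem_pow (m : ℕ) {z : B} (hz : z ∈ I ^ m) (k : ℕ) (hk : 1 ≤ k) :
    gamma k z ∈ I ^ m := by
  unfold gamma
  rw [if_neg (by omega)]
  apply Ideal.sum_mem
  intro j _
  apply Ideal.mul_mem_left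
  split_ifs with h
  · exact Ideal.zero_mem _
  · exact lam_mem_pow ψ I hψ h0 h1 h2 m hz j (by omega)

theorem gamma_sub_mem_pow (m : ℕ) (hm : 1 ≤ m) {z : B} (hz : z ∈ I ^ m) :
    gamma m z - (-1 : B) ^ (m - 1) * ((m - 1).factorial : B) * z ∈ I ^ (m + 1) := by
  obtain ⟨n, rfl⟩ : ∃ n, m = n + 1 := ⟨m - 1, by omega⟩
  unfold gamma
  rw [if_neg (by omega), Finset.sum_range_succ', if_pos rfl, mul_zero, add_zero]
  simp only [Nat.add_sub_cancel, Nat.succ_ne_zero, if_false]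
  have hcomb := congrArg (Int.cast : ℤ → B) (alt_sum_choose_succ_pow n)
  push_cast at hcomb
  rw [← hcomb, Finset.sum_mul, ← Finset.sum_sub_distrib]
  apply Ideal.sum_mem
  intro i _
  have h3 := lam_sub_mem_pow ψ I hψ h0 h1 h2 (n + 1) (by omega) hz i
  rw [Nat.add_sub_cancel] at h3
  have e : (n.choose i : B) * LambdaOps.lam (i + 1) z - (-1) ^ i * (n.choose i : B) * ((i : B) + 1) ^ n * z =
      (n.choose i : B) * (LambdaOps.lam (i + 1) z - (-1) ^ i * ((i : B) + 1) ^ n * z) := by ring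
  rw [e]
  exact Ideal.mul_mem_left _ _ h3

end Ideal

end Groth.Agent.Helper3.LambdaLib
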