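import Groth.Agent.Lib.Helper3.GamC

set_option autoImplicit false

namespace Groth.Agent.Helper3.LambdaLib

open LambdaRing MvPolynomial

universe u w

section PolyIdeal

variable {K : Type u} [CommRing K] (τ : Type w)

/-- the ideal of `K[T]` generated by the `T_j - 1` -/
noncomputable def augIdeal : Ideal (MvPolynomial τ K) :=
  Ideal.span (Set.range fun j : τ => (X j - 1 : MvPolynomial τ K))

/-- the substitution `T_j ↦ T_j + 1` -/
noncomputable def shiftE : MvPolynomial τ K ≃ₐ[K] MvPolynomial τ K :=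
  AlgEquiv.ofAlgHom (aeval fun j => X j + 1) (aeval fun j => X j - 1)
    (by ext j; simp) (by ext j; simp)

theorem shiftE_X (j : τ) : shiftE (K := K) τ (X j) = X j + 1 := by
  simp [shiftE]

theorem map_shiftE_augIdeal :
    Ideal.map (shiftE (K := K) τ) (augIdeal τ) = idealOfVars τ K := by
  unfold augIdeal idealOfVars
  rw [Ideal.map_span]
  congr 1
  ext p
  constructor
  · rintro ⟨_, ⟨j, rfl⟩, rfl⟩
    exact ⟨j, by simp [shiftE_X]⟩
  · rintro ⟨j, rfl⟩
    exact ⟨_, ⟨j, rfl⟩, by simp [shiftE_X]⟩

theorem mem_augIdeal_pow_iff (n : ℕ) (f : MvPolynomial τ K) :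
    f ∈ augIdeal τ ^ n ↔ shiftE τ f ∈ idealOfVars τ K ^ n := by
  rw [← map_shiftE_augIdeal, ← Ideal.map_pow]
  constructor
  · intro h
    exact Ideal.mem_map_of_mem _ h
  · intro h
    rw [Ideal.mem_map_iff_of_surjective _ (shiftE (K := K) τ).surjective] at h
    obtain ⟨x, hx, hxf⟩ := h
    rwa [← (shiftE (K := K) τ).injective hxf]

theorem pow_sub_one_mem_augIdeal (j : τ) (n : ℕ) :
    (X j : MvPolynomial τ K) ^ n - 1 ∈ augIdeal τ := by
  have h : (X j : MvPolynomial τ K) - 1 ∣ X j ^ n - 1 := by
    have := sub_dvd_pow_sub_pow (X j : MvPolynomial τ K) 1 n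
    rwa [one_pow] at this
  obtain ⟨c, hc⟩ := h
  rw [hc]
  exact Ideal.mul_mem_right _ _ (Ideal.subset_span ⟨j, rfl⟩)

theorem expand_sub_self_mem (k : ℕ) (hk : 1 ≤ k) (z : MvPolynomial τ K) :
    expand k z - z ∈ augIdeal τ := by
  induction z using MvPolynomial.induction_on with
  | C a => rw [expand_C, sub_self]; exact Ideal.zero_mem _
  | add p q hp hq =>
    have : expand k (p + q) - (p + q) = (expand k p - p) + (expand k q - q) := by
      rw [map_add]; ring
    rw [this]
    exact add_mem hp hq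
  | mul_X p j hp =>
    have e : expand k (p * X j) - p * X j =
        (expand k p - p) * X j ^ k + p * (X j * (X j ^ (k - 1) - 1)) := by
      have : (X j : MvPolynomial τ K) ^ k = X j * X j ^ (k - 1) := by
        rw [← pow_succ']; congr 1; omega
      rw [map_mul, expand_X, this]; ring
    rw [e]
    exact add_mem (Ideal.mul_mem_right _ _ hp)
      (Ideal.mul_mem_left _ _ (Ideal.mul_mem_left _ _ (pow_sub_one_mem_augIdeal τ j _)))

theorem expand_sub_smul_mem (k : ℕ) (hk : 1 ≤ k) (y : MvPolynomial τ K) (hy : y ∈ augIdeal τ) :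
    expand k y - (k : MvPolynomial τ K) * y ∈ augIdeal τ ^ 2 := by
  unfold augIdeal at hy
  induction hy using Submodule.span_induction with
  | mem y hy =>
    obtain ⟨j, rfl⟩ := hy
    have e : expand k (X j - 1 : MvPolynomial τ K) - (k : MvPolynomial τ K) * (X j - 1) =
        (∑ i ∈ Finset.range k, ((X j : MvPolynomial τ K) ^ i - 1)) * (X j - 1) := by
      rw [Finset.sum_sub_distrib, Finset.sum_const, Finset.card_range, nsmul_eq_mul, mul_one,
        sub_mul, geom_sum_mul, map_sub, expand_X, map_one]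
    rw [e, pow_two]
    exact Ideal.mul_mem_mul (Ideal.sum_mem _ fun i _ => pow_sub_one_mem_augIdeal τ j i)
      (Ideal.subset_span ⟨j, rfl⟩)
  | zero => simp
  | add x y _ _ hx hy =>
    have : expand k (x + y) - (k : MvPolynomial τ K) * (x + y) =
        (expand k x - (k : MvPolynomial τ K) * x) + (expand k y - (k : MvPolynomial τ K) * y) := by
      rw [map_add]; ring
    rw [this]
    exact add_mem hx hy
  | smul a y hy ih =>
    have e : expand k (a • y) - (k : MvPolynomial τ K) * (a • y) =
        expand k a * (expand k y - (k : MvPolynomial τ K) * y) +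
          (k : MvPolynomial τ K) * ((expand k a - a) * y) := by
      rw [smul_eq_mul, map_mul]; ring
    rw [e]
    refine add_mem (Ideal.mul_mem_left _ _ ih) (Ideal.mul_mem_left _ _ ?_)
    rw [pow_two]
    exact Ideal.mul_mem_mul (expand_sub_self_mem τ k hk a) hy

theorem natCast_mul_mem_augIdeal_pow [IsAddTorsionFree K] (k n : ℕ) (hk : 1 ≤ k)
    (f : MvPolynomial τ K) (h : (k : MvPolynomial τ K) * f ∈ augIdeal τ ^ n) :
    f ∈ augIdeal τ ^ n := by
  rw [mem_augIdeal_pow_iff, mem_pow_idealOfVars_iff'] at h ⊢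
  intro x hx
  have h1 := h x hx
  rw [map_mul, map_natCast, ← map_natCast (C : K →+* MvPolynomial τ K), coeff_C_mul,
    ← nsmul_eq_mul] at h1
  have : k • coeff x (shiftE τ f) = k • (0 : K) := by rw [h1, smul_zero]
  exact nsmul_right_injective (by omega) this

end PolyIdeal

end Groth.Agent.Helper3.LambdaLib
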