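import Groth.Agent.Lib.Helper3.GamD

set_option autoImplicit false

namespace Groth.Agent.Helper3.LambdaLib

open LambdaRing MvPolynomial

universe u w v v₁ v₂

section Univ

theorem ringHom_aeval_int {R₁ : Type*} {R₂ : Type*} {ι : Type*} [CommRing R₁] [CommRing R₂]
    (φ : R₁ →+* R₂) (g : ι → R₁) (P : MvPolynomial ι ℤ) :
    φ (aeval g P) = aeval (fun v => φ (g v)) P := by
  have := MvPolynomial.comp_aeval (R := ℤ) g φ.toIntAlgHom
  exact congrArg (fun ψ : MvPolynomial ι ℤ →ₐ[ℤ] R₂ => ψ P) this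

variable {K : Type u} [CommRing K] [LambdaOps K] {σ : Type w}

/-- evaluation of a universal polynomial at the `λ^i (x s)` -/
noncomputable def evU {A : Type v} [CommRing A] [LambdaOps A] [Algebra K A] (x : σ → A) :
    MvPolynomial (σ × ℕ) K →ₐ[K] A :=
  aeval (fun p : σ × ℕ => LambdaOps.lam (p.2 + 1) (x p.1))

/-- `G` represents `λ^n ∘ F` on all special `K`-λ-algebras in universe `v` -/
def Rep (F : MvPolynomial (σ × ℕ) K) (n : ℕ) (G : MvPolynomial (σ × ℕ) K) : Prop :=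
  ∀ (A : Type v) [CommRing A] [LambdaOps A] [Algebra K A], IsSpecial A → IsLambdaAlg K A →
    ∀ x : σ → A, evU x G = LambdaOps.lam n (evU x F)

theorem rep_C (c : K) (n : ℕ) :
    Rep.{u, w, v} (C c : MvPolynomial (σ × ℕ) K) n (C (LambdaOps.lam n c)) := by
  intro A _ _ _ _ hAK x
  rw [evU, aeval_C, aeval_C, hAK]

theorem rep_add {F F' : MvPolynomial (σ × ℕ) K} {GF GF' : ℕ → MvPolynomial (σ × ℕ) K}
    (h : ∀ i, Rep.{u, w, v} F i (GF i)) (h' : ∀ i, Rep.{u, w, v} F' i (GF' i)) (n : ℕ) :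
    Rep.{u, w, v} (F + F') n (∑ i ∈ Finset.range (n + 1), GF i * GF' (n - i)) := by
  intro A _ _ _ hA hAK x
  rw [map_add, LambdaOps.lam_add, map_sum]
  apply Finset.sum_congr rfl
  intro i _
  rw [map_mul, h i A hA hAK x, h' (n - i) A hA hAK x]

theorem rep_mul_X {F : MvPolynomial (σ × ℕ) K} {GF : ℕ → MvPolynomial (σ × ℕ) K}
    (h : ∀ i, Rep.{u, w, v} F i (GF i)) (s : σ) (i n : ℕ)
    (P : MvPolynomial (Fin n ⊕ Fin n) ℤ) (hP : IsMulPoly n P)
    (Q : ∀ k : Fin n, MvPolynomial (Fin ((i + 1) * ((k : ℕ) + 1))) ℤ)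
    (hQ : ∀ k : Fin n, IsCompPoly (i + 1) ((k : ℕ) + 1) (Q k)) :
    Rep.{u, w, v} (F * X (s, i)) n
      (aeval (Sum.elim (fun k : Fin n => GF ((k : ℕ) + 1))
        (fun k : Fin n => aeval (fun l : Fin ((i + 1) * ((k : ℕ) + 1)) =>
          (X (s, (l : ℕ)) : MvPolynomial (σ × ℕ) K)) (Q k))) P) := by
  intro A _ _ _ hA hAK x
  have e1 : evU x (F * X (s, i)) = evU x F * LambdaOps.lam (i + 1) (x s) := by
    rw [map_mul]
    congr 1
    simp [evU]
  rw [e1, hA.lam_mul n P hP]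
  have e2 := ringHom_aeval_int (evU x : MvPolynomial (σ × ℕ) K →ₐ[K] A).toRingHom
    (Sum.elim (fun k : Fin n => GF ((k : ℕ) + 1))
        (fun k : Fin n => aeval (fun l : Fin ((i + 1) * ((k : ℕ) + 1)) =>
          (X (s, (l : ℕ)) : MvPolynomial (σ × ℕ) K)) (Q k))) P
  simp only [AlgHom.toRingHom_eq_coe, RingHom.coe_coe] at e2
  refine e2.trans ?_
  have hfun : (fun v => evU x (Sum.elim (fun k : Fin n => GF ((k : ℕ) + 1))
        (fun k : Fin n => aeval (fun l : Fin ((i + 1) * ((k : ℕ) + 1)) =>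
          (X (s, (l : ℕ)) : MvPolynomial (σ × ℕ) K)) (Q k)) v)) =
      Sum.elim (fun k : Fin n => LambdaOps.lam ((k : ℕ) + 1) (evU x F))
        (fun k : Fin n => LambdaOps.lam ((k : ℕ) + 1) (LambdaOps.lam (i + 1) (x s))) := by
    funext v
    rcases v with k | k
    · simp only [Sum.elim_inl]
      exact h _ A hA hAK x
    · simp only [Sum.elim_inr]
      rw [hA.lam_lam (i + 1) ((k : ℕ) + 1) (Q k) (hQ k)]
      have e3 := ringHom_aeval_int (evU x : MvPolynomial (σ × ℕ) K →ₐ[K] A).toRingHom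
        (fun l : Fin ((i + 1) * ((k : ℕ) + 1)) => (X (s, (l : ℕ)) : MvPolynomial (σ × ℕ) K)) (Q k)
      simp only [AlgHom.toRingHom_eq_coe, RingHom.coe_coe] at e3
      refine e3.trans ?_
      have hfun2 : (fun l : Fin ((i + 1) * ((k : ℕ) + 1)) =>
          evU x (X (s, (l : ℕ)) : MvPolynomial (σ × ℕ) K)) =
          fun l : Fin ((i + 1) * ((k : ℕ) + 1)) => LambdaOps.lam ((l : ℕ) + 1) (x s) := by
        funext l
        simp [evU]
      rw [hfun2]
  rw [hfun]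

/-- every universal polynomial has universal `λ`-operations, valid in two universes at once -/
theorem exists_rep (F : MvPolynomial (σ × ℕ) K) :
    ∃ GF : ℕ → MvPolynomial (σ × ℕ) K,
      ∀ n, Rep.{u, w, v₁} F n (GF n) ∧ Rep.{u, w, v₂} F n (GF n) := by
  induction F using MvPolynomial.induction_on with
  | C c => exact ⟨fun n => C (LambdaOps.lam n c), fun n => ⟨rep_C c n, rep_C c n⟩⟩
  | add p q hp hq =>
    obtain ⟨GF, hGF⟩ := hp
    obtain ⟨GF', hGF'⟩ := hq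
    exact ⟨fun n => ∑ i ∈ Finset.range (n + 1), GF i * GF' (n - i), fun n =>
      ⟨rep_add (fun i => (hGF i).1) (fun i => (hGF' i).1) n,
        rep_add (fun i => (hGF i).2) (fun i => (hGF' i).2) n⟩⟩
  | mul_X p si hp =>
    obtain ⟨GF, hGF⟩ := hp
    obtain ⟨s, i⟩ := si
    have hexP : ∀ m : ℕ, ∃ P' : MvPolynomial (Fin m ⊕ Fin m) ℤ, IsMulPoly m P' := by
      intro m
      obtain ⟨P', h1, h2⟩ := exists_mulPoly m m
      exact ⟨P', h1, h2⟩
    have hexQ : ∀ i' j' : ℕ, ∃ Q' : MvPolynomial (Fin (i' * j')) ℤ, IsCompPoly i' j' Q' := by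
      intro i' j'
      obtain ⟨Q', h1, h2⟩ := exists_compPoly (i' * j') i' j'
      exact ⟨Q', h1, h2⟩
    choose Pf hPf using hexP
    choose Qf hQf using hexQ
    refine ⟨fun n => aeval (Sum.elim (fun k : Fin n => GF ((k : ℕ) + 1))
        (fun k : Fin n => aeval (fun l : Fin ((i + 1) * ((k : ℕ) + 1)) =>
          (X (s, (l : ℕ)) : MvPolynomial (σ × ℕ) K)) (Qf (i + 1) ((k : ℕ) + 1)))) (Pf n), fun n => ?_⟩
    exact ⟨rep_mul_X (fun j => (hGF j).1) s i n (Pf n) (hPf n) _ (fun k => hQf _ _),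
      rep_mul_X (fun j => (hGF j).2) s i n (Pf n) (hPf n) _ (fun k => hQf _ _)⟩

end Univ

end Groth.Agent.Helper3.LambdaLib
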