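import Groth.Agent.Lib.Helper3.LambdaG

set_option autoImplicit false

namespace Groth.Agent.Helper3.LambdaLib

open MvPolynomial

section WHC

variable {R : Type*} [CommRing R] {ι τ M : Type*} [AddCommMonoid M] [DecidableEq M]

/-- weighted homogeneous components are compatible with a weight-preserving substitution -/
theorem whc_aeval (w : ι → M) (w' : τ → M) (g : ι → MvPolynomial τ R)
    (hg : ∀ i, IsWeightedHomogeneous w' (g i) (w i)) (G : MvPolynomial ι R) (μ : M) :
    weightedHomogeneousComponent w' μ (aeval g G) =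
      aeval g (weightedHomogeneousComponent w μ G) := by
  classical
  have hfin := weightedHomogeneousComponent_finsupp (w := w) G
  set s := hfin.toFinset with hs
  have hsum : G = ∑ μ' ∈ s, weightedHomogeneousComponent w μ' G := by
    rw [← finsum_eq_sum _ hfin]
    exact (sum_weightedHomogeneousComponent w G).symm
  have h2 : weightedHomogeneousComponent w' μ (aeval g G) =
      ∑ μ' ∈ s, weightedHomogeneousComponent w' μ
        (aeval g (weightedHomogeneousComponent w μ' G)) := by
    conv_lhs => rw [hsum]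
    rw [map_sum, map_sum]
  have h3 : ∀ μ' ∈ s, weightedHomogeneousComponent w' μ
        (aeval g (weightedHomogeneousComponent w μ' G)) =
      if μ' = μ then aeval g (weightedHomogeneousComponent w μ G) else 0 := by
    intro μ' _
    have hm : aeval g (weightedHomogeneousComponent w μ' G) ∈
        weightedHomogeneousSubmodule R w' μ' := by
      rw [mem_weightedHomogeneousSubmodule]
      exact isWeightedHomogeneous_aeval w w' g hg _ μ'
        (weightedHomogeneousComponent_isWeightedHomogeneous μ' G)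
    rw [weightedHomogeneousComponent_of_mem hm]
    by_cases hμμ : μ' = μ
    · subst hμμ
      simp
    · rw [if_neg (Ne.symm hμμ), if_neg hμμ]
  rw [h2, Finset.sum_congr rfl h3, Finset.sum_ite_eq' s μ]
  by_cases hmem : μ ∈ s
  · rw [if_pos hmem]
  · rw [if_neg hmem]
    have : weightedHomogeneousComponent w μ G = 0 := by
      by_contra hne
      apply hmem
      rw [hs, Set.Finite.mem_toFinset]
      exact hne
    rw [this, map_zero]

/-- if every monomial of `aeval g G` has weight at least `n`, so has every monomial of `G`,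
provided the substitution is injective and weight preserving (weights in `ℕ`) -/
theorem le_weight_of_aeval {ι τ : Type*} (w : ι → ℕ) (w' : τ → ℕ) (g : ι → MvPolynomial τ R)
    (hg : ∀ i, IsWeightedHomogeneous w' (g i) (w i))
    (hinj : Function.Injective (aeval g : MvPolynomial ι R →ₐ[R] MvPolynomial τ R))
    (G : MvPolynomial ι R) (n : ℕ)
    (h : ∀ x ∈ (aeval g G).support, n ≤ Finsupp.weight w' x) :
    ∀ d ∈ G.support, n ≤ Finsupp.weight w d := by
  classical
  intro d hd
  by_contra hlt
  push Not at hlt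
  have h1 : weightedHomogeneousComponent w' (Finsupp.weight w d) (aeval g G) = 0 := by
    ext x
    rw [coeff_weightedHomogeneousComponent, coeff_zero]
    split_ifs with hx
    · by_contra hne
      have := h x (mem_support_iff.2 hne)
      omega
    · rfl
  rw [whc_aeval w w' g hg] at h1
  have h2 : weightedHomogeneousComponent w (Finsupp.weight w d) G = 0 := by
    apply hinj
    rw [h1, map_zero]
  have h3 := congrArg (coeff d) h2
  rw [coeff_weightedHomogeneousComponent, if_pos rfl, coeff_zero] at h3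
  exact (mem_support_iff.1 hd) h3

end WHC


section PL

open Finset

theorem one_add_pow_expand {A : Type*} [CommRing A] (x : A) (j : ℕ) :
    ∃ c : A, (1 + x) ^ j = 1 + (j : A) * x + x ^ 2 * c := by
  induction j with
  | zero => exact ⟨0, by simp⟩
  | succ j ih =>
    obtain ⟨c, hc⟩ := ih
    exact ⟨(j : A) + c + c * x, by rw [pow_succ, hc]; push_cast; ring⟩

theorem prod_add_mem_pow {A ι : Type*} [CommRing A] [DecidableEq ι] (I : Ideal A) (T : Finset ι)
    (b c : ι → A) (hb : ∀ a ∈ T, b a ∈ I) (hc : ∀ a ∈ T, c a ∈ I ^ 2) :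
    ∏ a ∈ T, (b a + c a) ∈ I ^ T.card ∧
      ∏ a ∈ T, (b a + c a) - ∏ a ∈ T, b a ∈ I ^ (T.card + 1) := by
  induction T using Finset.induction_on with
  | empty => simp
  | insert a T ha ih =>
    obtain ⟨h1, h2⟩ := ih (fun x hx => hb x (Finset.mem_insert_of_mem hx))
      (fun x hx => hc x (Finset.mem_insert_of_mem hx))
    have hba : b a ∈ I := hb a (Finset.mem_insert_self a T)
    have hca : c a ∈ I ^ 2 := hc a (Finset.mem_insert_self a T)
    have hca' : c a ∈ I := Ideal.pow_le_self (by norm_num) hca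
    rw [Finset.prod_insert ha, Finset.prod_insert ha, Finset.card_insert_of_notMem ha]
    constructor
    · rw [pow_succ']
      exact Ideal.mul_mem_mul (add_mem hba hca') h1
    · have h3 : (b a + c a) * ∏ x ∈ T, (b x + c x) - b a * ∏ x ∈ T, b x =
          b a * (∏ x ∈ T, (b x + c x) - ∏ x ∈ T, b x) + c a * ∏ x ∈ T, (b x + c x) := by ring
      rw [h3]
      refine add_mem ?_ ?_
      · rw [pow_succ' I (T.card + 1)]
        exact Ideal.mul_mem_mul hba h2
      · have : I ^ (T.card + 1 + 1) = I ^ 2 * I ^ T.card := by rw [← pow_add]; congr 1; omega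
        rw [this]
        exact Ideal.mul_mem_mul hca h1

/-- the symmetric polynomial `e_r((1+Y_a)^j - 1) - j^r e_r(Y)` -/
noncomputable def adamsGammaPoly (N r j : ℕ) : MvPolynomial (Fin N) ℤ :=
  aeval (fun a : Fin N => (1 + X a : MvPolynomial (Fin N) ℤ) ^ j - 1) (esymm (Fin N) ℤ r) -
    (j : MvPolynomial (Fin N) ℤ) ^ r * esymm (Fin N) ℤ r

theorem adamsGammaPoly_isSymmetric (N r j : ℕ) : (adamsGammaPoly N r j).IsSymmetric := by
  intro σ
  unfold adamsGammaPoly
  rw [map_sub, map_mul, map_pow, map_natCast, rename_esymm]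
  congr 1
  apply rename_aeval_esymm (fun a : Fin N => (1 + X a : MvPolynomial (Fin N) ℤ) ^ j - 1) σ σ
  intro a
  simp

theorem adamsGammaPoly_mem (N r j : ℕ) :
    adamsGammaPoly N r j ∈ idealOfVars (Fin N) ℤ ^ (r + 1) := by
  classical
  unfold adamsGammaPoly
  rw [esymm, map_sum, Finset.mul_sum, ← Finset.sum_sub_distrib]
  refine sum_mem fun T hT => ?_
  have hcard : T.card = r := (Finset.mem_powersetCard.1 hT).2
  rw [map_prod]
  simp only [aeval_X]
  choose c hc using fun a : Fin N => one_add_pow_expand (X a : MvPolynomial (Fin N) ℤ) j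
  have h1 : ∀ a ∈ T, (1 + X a : MvPolynomial (Fin N) ℤ) ^ j - 1 =
      (j : MvPolynomial (Fin N) ℤ) * X a + X a ^ 2 * c a := by
    intro a _
    rw [hc a]; ring
  have h2 : (j : MvPolynomial (Fin N) ℤ) ^ r * ∏ a ∈ T, (X a : MvPolynomial (Fin N) ℤ) =
      ∏ a ∈ T, ((j : MvPolynomial (Fin N) ℤ) * X a) := by
    rw [Finset.prod_mul_distrib, Finset.prod_const, hcard]
  rw [Finset.prod_congr rfl h1, h2, ← hcard]
  have hX : ∀ a : Fin N, (X a : MvPolynomial (Fin N) ℤ) ∈ idealOfVars (Fin N) ℤ :=
    fun a => Ideal.subset_span ⟨a, rfl⟩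
  refine (prod_add_mem_pow (idealOfVars (Fin N) ℤ) T
    (fun a => (j : MvPolynomial (Fin N) ℤ) * X a) (fun a => X a ^ 2 * c a) ?_ ?_).2
  · intro a _
    exact Ideal.mul_mem_left _ _ (hX a)
  · intro a _
    exact Ideal.mul_mem_right _ _ (Ideal.pow_mem_pow (hX a) 2)

theorem exists_adamsGammaPoly (N r j : ℕ) :
    ∃ Q : MvPolynomial (Fin N) ℤ,
      aeval (fun k : Fin N => esymm (Fin N) ℤ ((k : ℕ) + 1)) Q = adamsGammaPoly N r j ∧
      ∀ d ∈ Q.support, r + 1 ≤ Finsupp.weight (fun k : Fin N => (k : ℕ) + 1) d := by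
  obtain ⟨Q, hQ⟩ := (esymmAlgHom_fin_bijective ℤ N).2
    ⟨adamsGammaPoly N r j, adamsGammaPoly_isSymmetric N r j⟩
  have hQ' : aeval (fun k : Fin N => esymm (Fin N) ℤ ((k : ℕ) + 1)) Q = adamsGammaPoly N r j := by
    rw [← esymmAlgHom_apply, hQ]
  refine ⟨Q, hQ', ?_⟩
  apply le_weight_of_aeval (fun k : Fin N => (k : ℕ) + 1)
    (fun _ : Fin N => (1 : ℕ)) (fun k : Fin N => esymm (Fin N) ℤ ((k : ℕ) + 1))
  · intro k
    exact isWeightedHomogeneous_esymm _
  · intro p q hpq
    apply esymmAlgHom_fin_injective ℤ (le_refl N)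
    apply Subtype.ext
    rw [esymmAlgHom_apply, esymmAlgHom_apply]
    exact hpq
  · rw [hQ']
    have := (mem_pow_idealOfVars_iff (r + 1) (adamsGammaPoly N r j)).1 (adamsGammaPoly_mem N r j)
    intro x hx
    have h3 := this x hx
    rw [Finsupp.degree_eq_weight_one] at h3
    exact h3

end PL

end Groth.Agent.Helper3.LambdaLib
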