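import Groth.Agent.Lib.Helper3.GamE
import Groth.Agent.Lib.Helper3.LambdaU

set_option autoImplicit false

namespace Groth.Agent.Helper3.LambdaLib

open LambdaRing MvPolynomial

universe u w v

section AlgInd

variable (R : Type u) [CommRing R]

/-- the family of elementary symmetric functions in several families of `N` variables -/
noncomputable def esFam (ρ : Type w) (N : ℕ) : ρ × Fin N → MvPolynomial (ρ × Fin N) R :=
  fun p => rename (Prod.mk p.1) (esymm (Fin N) R ((p.2 : ℕ) + 1))

theorem algInd_esymm_single (N : ℕ) :
    AlgebraicIndependent R (fun k : Fin N => esymm (Fin N) R ((k : ℕ) + 1)) := by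
  intro p q hpq
  apply esymmAlgHom_fin_injective R (le_refl N)
  apply Subtype.ext
  rw [esymmAlgHom_apply, esymmAlgHom_apply]
  exact hpq

/-- the reindexing `Fin N ⊕ (α × Fin N) ≃ Option α × Fin N` -/
def optEquiv (α : Type w) (N : ℕ) : Fin N ⊕ (α × Fin N) ≃ Option α × Fin N where
  toFun := Sum.elim (fun k => (none, k)) (fun p => (some p.1, p.2))
  invFun := fun p => Option.elim p.1 (Sum.inl p.2) (fun a => Sum.inr (a, p.2))
  left_inv := by
    rintro (k | ⟨a, k⟩) <;> rfl
  right_inv := by
    rintro ⟨_ | a, k⟩ <;> rfl

theorem algInd_esFam (ρ : Type w) [Finite ρ] (N : ℕ) : AlgebraicIndependent R (esFam R ρ N) := by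
  induction ρ using Finite.induction_empty_option with
  | of_equiv e h =>
    rename_i α β
    have hinj : Function.Injective (rename (Prod.map e (id : Fin N → Fin N)) :
        MvPolynomial (α × Fin N) R →ₐ[R] MvPolynomial (β × Fin N) R) :=
      rename_injective _ (Function.Injective.prodMap e.injective Function.injective_id)
    have h2 := h.map' hinj
    refine (algebraicIndependent_equiv' (e.prodCongr (Equiv.refl (Fin N))) ?_).1 h2
    funext p
    simp only [Function.comp_apply, esFam, rename_rename]
    rfl
  | h_empty =>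
    rw [algebraicIndependent_empty_type_iff]
    exact MvPolynomial.C_injective _ _
  | h_option h =>
    rename_i α _
    have hy := algInd_esymm_single (MvPolynomial (α × Fin N) R) N
    have h3 := AlgebraicIndependent.sumElim_comp h hy
    set g : MvPolynomial (Fin N) (MvPolynomial (α × Fin N) R) ≃ₐ[R]
        MvPolynomial (Option α × Fin N) R :=
      (sumAlgEquiv R (Fin N) (α × Fin N)).symm.trans (renameEquiv R (optEquiv α N)) with hg
    have h4 := h3.map' (f := g.toAlgHom) g.injective
    refine (algebraicIndependent_equiv' (optEquiv α N) ?_).1 h4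
    funext p
    rcases p with k | ⟨a, k⟩
    · show esFam R (Option α) N (optEquiv α N (Sum.inl k)) =
        g (esymm (Fin N) (MvPolynomial (α × Fin N) R) ((k : ℕ) + 1))
      have this : sumAlgEquiv R (Fin N) (α × Fin N) (rename Sum.inl (esymm (Fin N) R ((k : ℕ) + 1))) =
          mapAlgHom (Algebra.ofId R (MvPolynomial (α × Fin N) R)) (esymm (Fin N) R ((k : ℕ) + 1)) :=
        DFunLike.congr_fun (sumAlgEquiv_comp_rename_inl (R := R) (S₁ := Fin N) (S₂ := α × Fin N))
          (esymm (Fin N) R ((k : ℕ) + 1))
      have e1 : esymm (Fin N) (MvPolynomial (α × Fin N) R) ((k : ℕ) + 1) =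
          sumAlgEquiv R (Fin N) (α × Fin N) (rename Sum.inl (esymm (Fin N) R ((k : ℕ) + 1))) := by
        rw [this, mapAlgHom_apply, map_esymm]
      rw [e1, hg, AlgEquiv.trans_apply, AlgEquiv.symm_apply_apply, renameEquiv_apply,
        rename_rename]
      rfl
    · show esFam R (Option α) N (optEquiv α N (Sum.inr (a, k))) =
        g (algebraMap (MvPolynomial (α × Fin N) R)
          (MvPolynomial (Fin N) (MvPolynomial (α × Fin N) R)) (esFam R α N (a, k)))
      have this : sumAlgEquiv R (Fin N) (α × Fin N) (rename Sum.inr (esFam R α N (a, k))) =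
          IsScalarTower.toAlgHom R (MvPolynomial (α × Fin N) R)
            (MvPolynomial (Fin N) (MvPolynomial (α × Fin N) R)) (esFam R α N (a, k)) :=
        DFunLike.congr_fun (sumAlgEquiv_comp_rename_inr (R := R) (S₁ := Fin N) (S₂ := α × Fin N))
          (esFam R α N (a, k))
      have e1 : algebraMap (MvPolynomial (α × Fin N) R)
          (MvPolynomial (Fin N) (MvPolynomial (α × Fin N) R)) (esFam R α N (a, k)) =
          sumAlgEquiv R (Fin N) (α × Fin N) (rename Sum.inr (esFam R α N (a, k))) := by
        rw [this]
        rfl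
      rw [e1, hg, AlgEquiv.trans_apply, AlgEquiv.symm_apply_apply, renameEquiv_apply,
        rename_rename]
      unfold esFam
      rw [rename_rename]
      rfl

end AlgInd

end Groth.Agent.Helper3.LambdaLib
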