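import Mathlib

/-!
# Split Γ-filtrations of a finite projective module are determined by a tensor power (S19157)
-/

set_option autoImplicit false
universe u v w

open scoped TensorProduct

namespace Groth.Agent.Helper3.GamFil

variable {Γ : Type w} [AddCommGroup Γ] [LinearOrder Γ] [IsOrderedAddMonoid Γ]
variable {R : Type u} [CommRing R] {M : Type v} [AddCommGroup M] [Module R M]

section Proj

variable (G : Γ → Submodule R M) (hG : DirectSum.IsInternal G)

/-- projection onto the ν-th piece of an internal grading, as an endomorphism of `M` -/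
noncomputable def pr (ν : Γ) : M →ₗ[R] M :=
  letI := hG.chooseDecomposition
  (G ν).subtype ∘ₗ (DirectSum.component R Γ (fun i => G i) ν) ∘ₗ
    (DirectSum.decomposeLinearEquiv G).toLinearMap

theorem pr_apply (ν : Γ) (z : M) :
    pr G hG ν z = (letI := hG.chooseDecomposition; ((DirectSum.decompose G z) ν : M)) := rfl

theorem pr_mem (ν : Γ) (z : M) : pr G hG ν z ∈ G ν := by
  rw [pr_apply]; exact Submodule.coe_mem _

theorem pr_of_mem_same {ν : Γ} {z : M} (hz : z ∈ G ν) : pr G hG ν z = z := by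
  rw [pr_apply]
  letI := hG.chooseDecomposition
  exact DirectSum.decompose_of_mem_same G hz

theorem pr_of_mem_ne {ν η : Γ} {z : M} (hz : z ∈ G η) (h : η ≠ ν) : pr G hG ν z = 0 := by
  rw [pr_apply]
  letI := hG.chooseDecomposition
  exact DirectSum.decompose_of_mem_ne G hz h

open Classical in
/-- the (finite) support of an element with respect to an internal grading -/
noncomputable def supp (z : M) : Finset Γ :=
  letI := hG.chooseDecomposition
  (DirectSum.decompose G z).support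

open Classical in
theorem sum_pr (z : M) : ∑ ν ∈ supp G hG z, pr G hG ν z = z := by
  letI := hG.chooseDecomposition
  exact DirectSum.sum_support_decompose G z

open Classical in
theorem pr_eq_zero_of_notMem_supp {ν : Γ} {z : M} (h : ν ∉ supp G hG z) : pr G hG ν z = 0 := by
  letI := hG.chooseDecomposition
  have h1 : (DirectSum.decompose G z) ν = 0 := DFinsupp.notMem_support_iff.mp h
  rw [pr_apply, h1]
  rfl

theorem mem_F_iff {F : Γ → Submodule R M} {γ : Γ} (hF : F γ = ⨆ η ∈ Set.Ici γ, G η) (z : M) :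
    z ∈ F γ ↔ ∀ η, η < γ → pr G hG η z = 0 := by
  classical
  constructor
  · intro hz η hη
    have hle : F γ ≤ LinearMap.ker (pr G hG η) := by
      rw [hF]
      refine iSup₂_le fun ν hν => ?_
      intro y hy
      rw [LinearMap.mem_ker]
      exact pr_of_mem_ne G hG hy (ne_of_gt (lt_of_lt_of_le hη (Set.mem_Ici.mp hν)))
    exact LinearMap.mem_ker.mp (hle hz)
  · intro h
    rw [← sum_pr G hG z, hF]
    refine Submodule.sum_mem _ fun ν _ => ?_
    by_cases hν : ν < γ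
    · rw [h ν hν]; exact Submodule.zero_mem _
    · exact Submodule.mem_iSup_of_mem ν
        (Submodule.mem_iSup_of_mem (Set.mem_Ici.mpr (not_lt.mp hν)) (pr_mem G hG ν z))

theorem exists_finset [Module.Finite R M] :
    ∃ U : Finset Γ, ∀ ν, ν ∉ U → ∀ z, pr G hG ν z = 0 := by
  classical
  obtain ⟨t, ht⟩ := (Module.Finite.fg_top : (⊤ : Submodule R M).FG)
  refine ⟨t.biUnion (supp G hG), fun ν hν z => ?_⟩
  have hle : (⊤ : Submodule R M) ≤ LinearMap.ker (pr G hG ν) := by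
    rw [← ht, Submodule.span_le]
    intro m hm
    rw [SetLike.mem_coe, LinearMap.mem_ker]
    apply pr_eq_zero_of_notMem_supp
    intro hmem
    exact hν (Finset.mem_biUnion.mpr ⟨m, Finset.mem_coe.mp hm, hmem⟩)
  exact LinearMap.mem_ker.mp (hle Submodule.mem_top)

/-- the ν-th piece vanishes near the prime `𝔭` -/
def Abs (𝔭 : Ideal R) (ν : Γ) : Prop := ∃ s : R, s ∉ 𝔭 ∧ ∀ z ∈ G ν, s • z = 0

theorem abs_of_trace [Module.Finite R M] [Module.Projective R M] (𝔭 : Ideal R)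
    [h𝔭 : 𝔭.IsPrime] (ν : Γ)
    (h : ∀ (z : M) (g : Module.Dual R M), g (pr G hG ν z) ∈ 𝔭) : Abs G 𝔭 ν := by
  classical
  obtain ⟨n, f, g, -, -, hfg⟩ := Module.Finite.exists_comp_eq_id_of_projective R M
  have hrange : G ν = LinearMap.range (pr G hG ν) := by
    apply le_antisymm
    · intro z hz
      exact ⟨z, pr_of_mem_same G hG hz⟩
    · rintro _ ⟨z, rfl⟩
      exact pr_mem G hG ν z
  have hfgG : (G ν).FG := by
    rw [hrange, ← Submodule.map_top]
    exact (Module.Finite.fg_top).map _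
  have hle : G ν ≤ 𝔭 • G ν := by
    intro z hz
    have h2 : f (g z) = z := by simpa using LinearMap.congr_fun hfg z
    have h3 : pr G hG ν z
        = ∑ j, (g z j) • pr G hG ν (f fun l => if j = l then 1 else 0) := by
      calc pr G hG ν z = pr G hG ν (f (g z)) := by rw [h2]
        _ = pr G hG ν (∑ j, g z j • f fun l => if j = l then 1 else 0) := by
            rw [LinearMap.pi_apply_eq_sum_univ f (g z)]
        _ = _ := by
            rw [map_sum]
            exact Finset.sum_congr rfl fun j _ => map_smul _ _ _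
    have hz' : z = pr G hG ν z := (pr_of_mem_same G hG hz).symm
    rw [hz', h3]
    refine Submodule.sum_mem _ fun j _ => ?_
    refine Submodule.smul_mem_smul ?_ (pr_mem G hG ν _)
    have h4 := h z ((LinearMap.proj j : (Fin n → R) →ₗ[R] R) ∘ₗ g)
    rw [pr_of_mem_same G hG hz] at h4
    exact h4
  obtain ⟨r, hr1, hr0⟩ :=
    Submodule.exists_sub_one_mem_and_smul_eq_zero_of_fg_of_le_smul 𝔭 (G ν) hfgG hle
  refine ⟨r, fun hr => ?_, hr0⟩
  apply h𝔭.ne_top
  rw [Ideal.eq_top_iff_one]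
  have h5 : (1 : R) = r - (r - 1) := by ring
  rw [h5]
  exact 𝔭.sub_mem hr hr1

include hG in
theorem bottom [Module.Finite R M] {F : Γ → Submodule R M}
    (hF : ∀ γ, F γ = ⨆ η ∈ Set.Ici γ, G η) (𝔭 : Ideal R) [h𝔭 : 𝔭.IsPrime] :
    (∃ s : R, s ∉ 𝔭 ∧ ∀ z : M, s • z = 0) ∨
    (∃ (ν₁ : Γ) (s₀ : R), s₀ ∉ 𝔭 ∧ ¬ Abs G 𝔭 ν₁ ∧ ∀ z : M, s₀ • z ∈ F ν₁) := by
  classical
  obtain ⟨U, hU⟩ := exists_finset G hG
  let sf : Γ → R := fun ν => if h : Abs G 𝔭 ν then h.choose else 1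
  have hsf : ∀ ν, sf ν ∉ 𝔭 := by
    intro ν
    by_cases h : Abs G 𝔭 ν
    · simp only [sf, dif_pos h]; exact h.choose_spec.1
    · simp only [sf, dif_neg h]
      exact fun h1 => h𝔭.ne_top ((Ideal.eq_top_iff_one _).mpr h1)
  have hsf0 : ∀ ν, Abs G 𝔭 ν → ∀ z ∈ G ν, sf ν • z = 0 := by
    intro ν h z hz
    simp only [sf, dif_pos h]
    exact h.choose_spec.2 z hz
  let s₀ : R := ∏ ν ∈ U, sf ν
  have hs₀ : s₀ ∉ 𝔭 := by
    have h1 : s₀ ∈ 𝔭.primeCompl := Submonoid.prod_mem _ fun ν _ => hsf ν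
    exact h1
  have hkill : ∀ ν, Abs G 𝔭 ν → ∀ z : M, s₀ • pr G hG ν z = 0 := by
    intro ν h z
    by_cases hν : ν ∈ U
    · have h1 : s₀ = (∏ x ∈ U.erase ν, sf x) * sf ν := (Finset.prod_erase_mul U sf hν).symm
      rw [h1, mul_smul, hsf0 ν h _ (pr_mem G hG ν z), smul_zero]
    · rw [hU ν hν z, smul_zero]
  by_cases hP : ∀ ν ∈ U, Abs G 𝔭 ν
  · left
    refine ⟨s₀, hs₀, fun z => ?_⟩
    rw [← sum_pr G hG z, Finset.smul_sum]
    refine Finset.sum_eq_zero fun ν _ => ?_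
    by_cases hν : ν ∈ U
    · exact hkill ν (hP ν hν) z
    · rw [hU ν hν z, smul_zero]
  · right
    push Not at hP
    let P := U.filter (fun ν => ¬ Abs G 𝔭 ν)
    have hPne : P.Nonempty := by
      obtain ⟨ν, hν, hn⟩ := hP
      exact ⟨ν, Finset.mem_filter.mpr ⟨hν, hn⟩⟩
    refine ⟨P.min' hPne, s₀, hs₀, (Finset.mem_filter.mp (P.min'_mem hPne)).2, fun z => ?_⟩
    rw [mem_F_iff G hG (hF _)]
    intro η hη
    rw [map_smul]
    by_cases hηU : η ∈ U
    · by_cases hab : Abs G 𝔭 η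
      · exact hkill η hab z
      · exfalso
        have h1 : P.min' hPne ≤ η := Finset.min'_le P η (Finset.mem_filter.mpr ⟨hηU, hab⟩)
        exact absurd hη (not_lt.mpr h1)
    · rw [hU η hηU z, smul_zero]

theorem key {k : ℕ} (F₁ F₂ : Γ → Submodule R M) (hF₂ : ∀ γ, F₂ γ = ⨆ η ∈ Set.Ici γ, G η)
    (δ : Γ)
    (hle : (⨆ c : {c : Fin k → Γ // ∑ i, c i = δ},
        LinearMap.range (PiTensorProduct.map (R := R) (fun i => (F₁ (c.1 i)).subtype))) ≤
      (⨆ c : {c : Fin k → Γ // ∑ i, c i = δ},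
        LinearMap.range (PiTensorProduct.map (R := R) (fun i => (F₂ (c.1 i)).subtype))))
    (c c0 : Fin k → Γ) (hc : ∑ i, c i = δ) (hc0 : ∑ i, c0 i < δ)
    (x : Fin k → M) (hx : ∀ i, x i ∈ F₁ (c i)) (g : Fin k → Module.Dual R M) :
    ∏ i, g i (pr G hG (c0 i) (x i)) = 0 := by
  classical
  let Φ : (⨂[R] _ : Fin k, M) →ₗ[R] R :=
    PiTensorProduct.lift ((MultilinearMap.mkPiAlgebra R (Fin k) R).compLinearMap
      (fun i => g i ∘ₗ pr G hG (c0 i)))
  have hΦ : ∀ y : Fin k → M,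
      Φ (PiTensorProduct.tprod R y) = ∏ i, g i (pr G hG (c0 i) (y i)) := by
    intro y
    simp only [Φ, PiTensorProduct.lift.tprod, MultilinearMap.compLinearMap_apply,
      MultilinearMap.mkPiAlgebra_apply, LinearMap.comp_apply]
  have hmem : PiTensorProduct.tprod R x ∈ (⨆ c : {c : Fin k → Γ // ∑ i, c i = δ},
        LinearMap.range (PiTensorProduct.map (R := R) (fun i => (F₁ (c.1 i)).subtype))) := by
    refine Submodule.mem_iSup_of_mem ⟨c, hc⟩ ?_
    refine ⟨PiTensorProduct.tprod R (fun i => (⟨x i, hx i⟩ : F₁ (c i))), ?_⟩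
    rw [PiTensorProduct.map_tprod]
    rfl
  have hker : (⨆ c : {c : Fin k → Γ // ∑ i, c i = δ},
        LinearMap.range (PiTensorProduct.map (R := R) (fun i => (F₂ (c.1 i)).subtype))) ≤
      LinearMap.ker Φ := by
    refine iSup_le fun c' => ?_
    rw [LinearMap.range_le_ker_iff]
    apply PiTensorProduct.ext
    ext m
    simp only [LinearMap.compMultilinearMap_apply, LinearMap.comp_apply,
      PiTensorProduct.map_tprod, LinearMap.zero_apply, Submodule.subtype_apply]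
    rw [hΦ]
    obtain ⟨i, hi⟩ : ∃ i, c0 i < c'.1 i := by
      by_contra hcon
      push Not at hcon
      have h1 : ∑ i, c'.1 i ≤ ∑ i, c0 i := Finset.sum_le_sum fun i _ => hcon i
      rw [c'.2] at h1
      exact absurd hc0 (not_lt.mpr h1)
    refine Finset.prod_eq_zero (Finset.mem_univ i) ?_
    rw [(mem_F_iff G hG (hF₂ _) _).mp (m i).2 (c0 i) hi, map_zero]
  have h2 := hker (hle hmem)
  rw [LinearMap.mem_ker, hΦ] at h2
  exact h2

end Proj

theorem filt_le [Module.Finite R M] [Module.Projective R M] {k : ℕ} (hk : 1 ≤ k)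
    (F₁ F₂ G₁ G₂ : Γ → Submodule R M)
    (hG₁ : DirectSum.IsInternal G₁) (hG₂ : DirectSum.IsInternal G₂)
    (hF₁ : ∀ γ, F₁ γ = ⨆ η ∈ Set.Ici γ, G₁ η) (hF₂ : ∀ γ, F₂ γ = ⨆ η ∈ Set.Ici γ, G₂ η)
    (h : ∀ δ : Γ,
      (⨆ c : {c : Fin k → Γ // ∑ i, c i = δ},
        LinearMap.range (PiTensorProduct.map (R := R) (fun i => (F₁ (c.1 i)).subtype))) =
      (⨆ c : {c : Fin k → Γ // ∑ i, c i = δ},
        LinearMap.range (PiTensorProduct.map (R := R) (fun i => (F₂ (c.1 i)).subtype))))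
    (γ : Γ) : F₁ γ ≤ F₂ γ := by
  classical
  intro x hx
  rw [mem_F_iff G₂ hG₂ (hF₂ γ)]
  intro η hη
  rw [← Module.forall_dual_apply_eq_zero_iff R]
  intro f
  by_contra ha
  let I : Ideal R := LinearMap.ker (LinearMap.toSpanSingleton R R (f (pr G₂ hG₂ η x)))
  have hI : ∀ r : R, r ∈ I ↔ r * f (pr G₂ hG₂ η x) = 0 := by
    intro r
    simp only [I, LinearMap.mem_ker, LinearMap.toSpanSingleton_apply, smul_eq_mul]
  have hIne : I ≠ ⊤ := by
    intro htop
    have h1 : (1 : R) ∈ I := by rw [htop]; exact Submodule.mem_top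
    rw [hI, one_mul] at h1
    exact ha h1
  obtain ⟨𝔭, hmax, hI𝔭⟩ := Ideal.exists_le_maximal I hIne
  haveI h𝔭 : 𝔭.IsPrime := hmax.isPrime
  have hnokill : ¬ ∃ s : R, s ∉ 𝔭 ∧ ∀ z : M, s • z = 0 := by
    rintro ⟨s, hs, hz⟩
    apply hs
    apply hI𝔭
    rw [hI]
    have h1 : s * f (pr G₂ hG₂ η x) = f (pr G₂ hG₂ η (s • x)) := by
      rw [map_smul, map_smul, smul_eq_mul]
    rw [h1, hz, map_zero, map_zero]
  obtain ⟨ν₁, s₁, hs₁, hpres₁, hmem₁⟩ := (bottom G₁ hG₁ hF₁ 𝔭).resolve_left hnokill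
  obtain ⟨ν₂, s₂, hs₂, hpres₂, hmem₂⟩ := (bottom G₂ hG₂ hF₂ 𝔭).resolve_left hnokill
  let i₀ : Fin k := ⟨0, hk⟩
  have hne : (Finset.univ : Finset (Fin k)).Nonempty := ⟨i₀, Finset.mem_univ _⟩
  -- the local bottoms agree
  have hA : ν₁ ≤ ν₂ := by
    by_contra hlt
    push Not at hlt
    apply hpres₂
    apply abs_of_trace G₂ hG₂ 𝔭
    intro z g
    have h1 := key G₂ hG₂ F₁ F₂ hF₂ (∑ _i : Fin k, ν₁) (h _).le (fun _ => ν₁) (fun _ => ν₂) rfl
      (Finset.sum_lt_sum_of_nonempty hne fun _ _ => hlt) (fun _ => s₁ • z) (fun _ => hmem₁ z)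
      (fun _ => g)
    rw [Finset.prod_const] at h1
    have h2 : g (pr G₂ hG₂ ν₂ (s₁ • z)) ∈ 𝔭 :=
      h𝔭.mem_of_pow_mem _ (h1 ▸ 𝔭.zero_mem)
    rw [map_smul, map_smul, smul_eq_mul] at h2
    exact (h𝔭.mem_or_mem h2).resolve_left hs₁
  have hB : ν₂ ≤ ν₁ := by
    by_contra hlt
    push Not at hlt
    apply hpres₁
    apply abs_of_trace G₁ hG₁ 𝔭
    intro z g
    have h1 := key G₁ hG₁ F₂ F₁ hF₁ (∑ _i : Fin k, ν₂) (h _).ge (fun _ => ν₂) (fun _ => ν₁) rfl
      (Finset.sum_lt_sum_of_nonempty hne fun _ _ => hlt) (fun _ => s₂ • z) (fun _ => hmem₂ z)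
      (fun _ => g)
    rw [Finset.prod_const] at h1
    have h2 : g (pr G₁ hG₁ ν₁ (s₂ • z)) ∈ 𝔭 :=
      h𝔭.mem_of_pow_mem _ (h1 ▸ 𝔭.zero_mem)
    rw [map_smul, map_smul, smul_eq_mul] at h2
    exact (h𝔭.mem_or_mem h2).resolve_left hs₂
  have heq : ν₁ = ν₂ := le_antisymm hA hB
  -- the main computation
  apply hpres₂
  apply abs_of_trace G₂ hG₂ 𝔭
  intro z g
  let T : Fin k → R := fun i => (if i = i₀ then f else g)
    (pr G₂ hG₂ (if i = i₀ then η else ν₂) (if i = i₀ then x else s₁ • z))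
  have h1 : ∏ i, T i = 0 :=
    key G₂ hG₂ F₁ F₂ hF₂ (∑ i : Fin k, (if i = i₀ then γ else ν₁)) (h _).le
      (fun i => if i = i₀ then γ else ν₁) (fun i => if i = i₀ then η else ν₂) rfl
      (Finset.sum_lt_sum (fun i _ => by
          by_cases hi : i = i₀
          · simp only [if_pos hi]; exact hη.le
          · simp only [if_neg hi]; exact heq.ge)
        ⟨i₀, Finset.mem_univ _, by simp only [↓reduceIte]; exact hη⟩)
      (fun i => if i = i₀ then x else s₁ • z)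
      (fun i => by
        by_cases hi : i = i₀
        · simp only [if_pos hi]; exact hx
        · simp only [if_neg hi]; exact hmem₁ z)
      (fun i => if i = i₀ then f else g)
  have hT0 : T i₀ = f (pr G₂ hG₂ η x) := by simp only [T, ↓reduceIte]
  have hTne : ∀ i ∈ Finset.univ.erase i₀, T i = g (pr G₂ hG₂ ν₂ (s₁ • z)) := by
    intro i hi
    have hi' : i ≠ i₀ := Finset.ne_of_mem_erase hi
    simp only [T, if_neg hi']
  rw [← Finset.mul_prod_erase Finset.univ T (Finset.mem_univ i₀), hT0,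
    Finset.prod_congr rfl hTne, Finset.prod_const] at h1
  have h2 : g (pr G₂ hG₂ ν₂ (s₁ • z)) ^ (Finset.univ.erase i₀).card ∈ 𝔭 := by
    apply hI𝔭
    rw [hI, mul_comm]
    exact h1
  have h3 : g (pr G₂ hG₂ ν₂ (s₁ • z)) ∈ 𝔭 := h𝔭.mem_of_pow_mem _ h2
  rw [map_smul, map_smul, smul_eq_mul] at h3
  exact (h𝔭.mem_or_mem h3).resolve_left hs₁

theorem main [Module.Finite R M] [Module.Projective R M]
    (F₁ F₂ : Γ → Submodule R M)
    (h₁ : ∃ G : Γ → Submodule R M, DirectSum.IsInternal G ∧ ∀ γ, F₁ γ = ⨆ η ∈ Set.Ici γ, G η)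
    (h₂ : ∃ G : Γ → Submodule R M, DirectSum.IsInternal G ∧ ∀ γ, F₂ γ = ⨆ η ∈ Set.Ici γ, G η)
    (k : ℕ) (hk : 1 ≤ k)
    (h : ∀ γ : Γ,
      (⨆ c : {c : Fin k → Γ // ∑ i, c i = γ},
        LinearMap.range (PiTensorProduct.map (R := R) (fun i => (F₁ (c.1 i)).subtype))) =
      (⨆ c : {c : Fin k → Γ // ∑ i, c i = γ},
        LinearMap.range (PiTensorProduct.map (R := R) (fun i => (F₂ (c.1 i)).subtype)))) :
    F₁ = F₂ := by
  obtain ⟨G₁, hG₁, hF₁⟩ := h₁
  obtain ⟨G₂, hG₂, hF₂⟩ := h₂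
  funext γ
  exact le_antisymm (filt_le hk F₁ F₂ G₁ G₂ hG₁ hG₂ hF₁ hF₂ h γ)
    (filt_le hk F₂ F₁ G₂ G₁ hG₂ hG₁ hF₂ hF₁ (fun δ => (h δ).symm) γ)

end Groth.Agent.Helper3.GamFil
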