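import Groth.Agent.Lib.Helper3.GamF

set_option autoImplicit false

namespace Groth.Agent.Helper3.LambdaLib

open LambdaRing MvPolynomial

universe u w v

section Weight

variable {K : Type u} [CommRing K] {σ : Type w}

/-- the polynomial avatar: `Y_{s,i} ↦ e_{i+1}(t_{s,·})` -/
noncomputable def cN (N : ℕ) : MvPolynomial (σ × ℕ) K →ₐ[K] MvPolynomial (σ × Fin N) K :=
  aeval (fun p : σ × ℕ => rename (Prod.mk p.1) (esymm (Fin N) K (p.2 + 1)))

theorem esFam_isWeightedHomogeneous (ρ : Type w) (N : ℕ) (p : ρ × Fin N) :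
    IsWeightedHomogeneous (fun _ : ρ × Fin N => 1) (esFam K ρ N p) ((p.2 : ℕ) + 1) := by
  have h := isWeightedHomogeneous_aeval_esymm (R := K) (I := Fin N)
    (fun _ : ρ × Fin N => (1 : ℕ))
    (fun s => (X (p.1, s) : MvPolynomial (ρ × Fin N) K)) 1
    (fun s => isWeightedHomogeneous_X K _ _) ((p.2 : ℕ) + 1)
  rw [smul_eq_mul, mul_one] at h
  unfold esFam
  rw [rename_eq_aeval]
  exact h

theorem weight_of_cN (D : MvPolynomial (σ × ℕ) K) (n : ℕ)
    (h : ∀ N, cN N D ∈ idealOfVars (σ × Fin N) K ^ n) :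
    ∀ d ∈ D.support, n ≤ Finsupp.weight (fun p : σ × ℕ => p.2 + 1) d := by
  classical
  set S : Finset σ := D.vars.image Prod.fst with hS
  set N := D.vars.sup Prod.snd + 1 with hNdef
  let ι : (↥S) × Fin N → σ × ℕ := fun p => (p.1.1, p.2.1)
  have hι : Function.Injective ι := by
    rintro ⟨⟨a, ha⟩, ⟨k, hk⟩⟩ ⟨⟨b, hb⟩, ⟨l, hl⟩⟩ hab
    simp only [ι, Prod.mk.injEq] at hab
    obtain ⟨rfl, rfl⟩ := hab
    rfl
  have hvars : (D.vars : Set (σ × ℕ)) ⊆ Set.range ι := by
    intro p hp
    have h1 : p.1 ∈ S := Finset.mem_image_of_mem _ hp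
    have h2 : p.2 ≤ D.vars.sup Prod.snd := Finset.le_sup (f := Prod.snd) hp
    exact ⟨(⟨p.1, h1⟩, ⟨p.2, by omega⟩), rfl⟩
  obtain ⟨q, hq⟩ := exists_rename_eq_of_vars_subset_range D ι hι hvars
  let j : (↥S) × Fin N → σ × Fin N := Prod.map Subtype.val id
  have hj : Function.Injective j :=
    Function.Injective.prodMap Subtype.val_injective Function.injective_id
  have hc : cN N D = rename j (aeval (esFam K (↥S) N) q) := by
    rw [← hq, cN, aeval_rename]
    have h1 := comp_aeval (R := K) (esFam K (↥S) N)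
      (rename j : MvPolynomial ((↥S) × Fin N) K →ₐ[K] MvPolynomial (σ × Fin N) K)
    have h2 : rename j (aeval (esFam K (↥S) N) q) =
        aeval (fun i => rename j (esFam K (↥S) N i)) q :=
      DFunLike.congr_fun h1 q
    rw [h2]
    have hfun : ((fun p : σ × ℕ => rename (Prod.mk p.1) (esymm (Fin N) K (p.2 + 1))) ∘ ι) =
        fun i => rename j (esFam K (↥S) N i) := by
      funext p
      simp only [Function.comp_apply, esFam, rename_rename]
      rfl
    rw [hfun]
  have hN := h N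
  rw [hc, mem_pow_idealOfVars_iff] at hN
  have h2 : ∀ x ∈ (aeval (esFam K (↥S) N) q).support,
      n ≤ Finsupp.weight (fun _ : (↥S) × Fin N => 1) x := by
    intro x hx
    have hx' : Finsupp.mapDomain j x ∈ (rename j (aeval (esFam K (↥S) N) q)).support := by
      rw [support_rename_of_injective hj]
      exact Finset.mem_image_of_mem _ hx
    have h3 := hN _ hx'
    rw [Finsupp.degree_mapDomain] at h3
    have h4 := DFunLike.congr_fun (Finsupp.degree_eq_weight_one (R := ℕ) (σ := (↥S) × Fin N)) x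
    rw [h4] at h3
    exact h3
  have hinj : Function.Injective (aeval (esFam K (↥S) N) :
      MvPolynomial ((↥S) × Fin N) K →ₐ[K] MvPolynomial ((↥S) × Fin N) K) :=
    algInd_esFam K (↥S) N
  have h3 := le_weight_of_aeval (fun p : (↥S) × Fin N => (p.2 : ℕ) + 1) (fun _ => 1)
    (esFam K (↥S) N) (esFam_isWeightedHomogeneous (↥S) N) hinj q n h2
  intro d hd
  rw [← hq, support_rename_of_injective hι] at hd
  obtain ⟨d0, hd0, rfl⟩ := Finset.mem_image.1 hd
  have h4 := h3 d0 hd0
  have h5 : Finsupp.weight (fun p : σ × ℕ => p.2 + 1) (Finsupp.mapDomain ι d0) =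
      Finsupp.weight (fun p : (↥S) × Fin N => (p.2 : ℕ) + 1) d0 := by
    rw [Finsupp.weight_apply, Finsupp.weight_apply, Finsupp.sum_mapDomain_index]
    · intro i; simp
    · intro i m₁ m₂; simp [add_mul]
  rw [h5]
  exact h4

end Weight

end Groth.Agent.Helper3.LambdaLib
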