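import Groth.Agent.Lib.Helper3.LambdaC

set_option autoImplicit false

namespace Groth.Agent.Helper3.LambdaLib

open LambdaRing

universe u v

section GammaGen

variable {K : Type u} [CommRing K] {A : Type v} [CommRing A] [LambdaOps A] [Algebra K A]
  (ε : A →ₐ[K] K) (S : Set A)

/-- the products `γ^{i_1}(s_1 - ε s_1) ⋯ γ^{i_k}(s_k - ε s_k)` of weight `≥ n` -/
def gGen (n : ℕ) : Set A :=
  {y : A | ∃ l : List (ℕ × A), (∀ p ∈ l, p.2 ∈ S) ∧ n ≤ (l.map Prod.fst).sum ∧
    y = (l.map fun p => gamma p.1 (p.2 - algebraMap K A (ε p.2))).prod}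

/-- their `K`-span -/
def gW (n : ℕ) : Submodule K A := Submodule.span K (gGen ε S n)

theorem gGen_mono {n m : ℕ} (h : n ≤ m) : gGen ε S m ⊆ gGen ε S n := by
  rintro y ⟨l, hl, hm, rfl⟩
  exact ⟨l, hl, le_trans h hm, rfl⟩

theorem gW_mono {n m : ℕ} (h : n ≤ m) : gW ε S m ≤ gW ε S n :=
  Submodule.span_mono (gGen_mono ε S h)

theorem one_mem_gW : (1 : A) ∈ gW ε S 0 := by
  apply Submodule.subset_span
  exact ⟨[], by simp, by simp, by simp⟩

theorem mul_mem_gW {n m : ℕ} {x y : A} (hx : x ∈ gW ε S n) (hy : y ∈ gW ε S m) :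
    x * y ∈ gW ε S (n + m) := by
  have h1 : gW ε S n * gW ε S m ≤ gW ε S (n + m) := by
    unfold gW
    rw [Submodule.span_mul_span]
    apply Submodule.span_mono
    rintro z ⟨a, ⟨l, hl, hn, rfl⟩, b, ⟨l', hl', hm, rfl⟩, rfl⟩
    refine ⟨l ++ l', ?_, ?_, ?_⟩
    · intro p hp
      rcases List.mem_append.1 hp with h | h
      · exact hl p h
      · exact hl' p h
    · rw [List.map_append, List.sum_append]
      exact Nat.add_le_add hn hm
    · rw [List.map_append, List.prod_append]
  exact h1 (Submodule.mul_mem_mul hx hy)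

theorem gamma_zero_right (i : ℕ) : gamma i (0 : A) = if i = 0 then 1 else 0 := by
  rw [← coeff_gammaSeries, gammaSeries_zero, PowerSeries.coeff_one]

theorem gamma_zero_left (z : A) : gamma 0 z = 1 := by
  simp [gamma]

/-- the set `{s - ε s}` -/
def gY : Set A := {y : A | ∃ s ∈ S, y = s - algebraMap K A (ε s)}

theorem gamma_mem_gW_of_mem_closure (z : A) (hz : z ∈ AddSubgroup.closure (gY ε S)) :
    ∀ i : ℕ, gamma i z ∈ gW ε S i := by
  induction hz using AddSubgroup.closure_induction with
  | mem y hy =>
    intro i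
    obtain ⟨s, hs, rfl⟩ := hy
    apply Submodule.subset_span
    exact ⟨[(i, s)], by simpa using hs, by simp, by simp⟩
  | zero =>
    intro i
    rw [gamma_zero_right]
    split_ifs with h
    · subst h
      exact one_mem_gW ε S
    · exact Submodule.zero_mem _
  | add x y _ _ hx hy =>
    intro i
    rw [gamma_add]
    apply Submodule.sum_mem
    intro j hj
    have hji : j ≤ i := Nat.lt_succ_iff.1 (Finset.mem_range.1 hj)
    have := mul_mem_gW ε S (hx j) (hy (i - j))
    rwa [Nat.add_sub_cancel' hji] at this
  | neg x _ hx =>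
    intro i
    induction i using Nat.strong_induction_on with
    | _ i ih =>
      rcases Nat.eq_zero_or_pos i with h0 | hpos
      · subst h0
        rw [gamma_zero_left]
        exact one_mem_gW ε S
      · have h1 : gamma i (x + -x) = 0 := by
          rw [add_neg_cancel, gamma_zero_right, if_neg (by omega)]
        rw [gamma_add, Finset.sum_range_succ'] at h1
        simp only [Nat.sub_zero, gamma_zero_left, one_mul] at h1
        have h2 : gamma i (-x) = - ∑ j ∈ Finset.range i, gamma (j + 1) x * gamma (i - (j + 1)) (-x) := by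
          rw [eq_neg_iff_add_eq_zero, add_comm]
          exact h1
        rw [h2]
        apply Submodule.neg_mem
        apply Submodule.sum_mem
        intro j hj
        have hji : j + 1 ≤ i := Finset.mem_range.1 hj
        have := mul_mem_gW ε S (hx (j + 1)) (ih (i - (j + 1)) (by omega))
        rwa [Nat.add_sub_cancel' hji] at this

theorem sub_mem_closure_gY (hS : AddSubgroup.closure S = ⊤) (z : A) :
    z - algebraMap K A (ε z) ∈ AddSubgroup.closure (gY ε S) := by
  have hz : z ∈ AddSubgroup.closure S := by rw [hS]; exact AddSubgroup.mem_top z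
  induction hz using AddSubgroup.closure_induction with
  | mem s hs => exact AddSubgroup.subset_closure ⟨s, hs, rfl⟩
  | zero => simp
  | add x y _ _ hx hy =>
    have : x + y - algebraMap K A (ε (x + y)) =
        (x - algebraMap K A (ε x)) + (y - algebraMap K A (ε y)) := by
      rw [map_add, map_add]; ring
    rw [this]
    exact AddSubgroup.add_mem _ hx hy
  | neg x _ hx =>
    have : -x - algebraMap K A (ε (-x)) = -(x - algebraMap K A (ε x)) := by
      rw [map_neg, map_neg]; ring
    rw [this]
    exact AddSubgroup.neg_mem _ hx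

theorem gamma_mem_gW (hS : AddSubgroup.closure S = ⊤) (z : A) (hz : ε z = 0) (i : ℕ) :
    gamma i z ∈ gW ε S i := by
  have h := sub_mem_closure_gY ε S hS z
  rw [hz, map_zero, sub_zero] at h
  exact gamma_mem_gW_of_mem_closure ε S z h i

theorem smul_mem_gW (hS : AddSubgroup.closure S = ⊤) (a : A) {n : ℕ} {w : A} (hw : w ∈ gW ε S n) :
    a * w ∈ gW ε S n := by
  have ha : a = algebraMap K A (ε a) + gamma 1 (a - algebraMap K A (ε a)) := by
    have : gamma 1 (a - algebraMap K A (ε a)) = a - algebraMap K A (ε a) := by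
      simp [gamma, Finset.sum_range_succ, LambdaOps.lam_one]
    rw [this]; ring
  rw [ha, add_mul]
  apply Submodule.add_mem
  · rw [← Algebra.smul_def]
    exact Submodule.smul_mem _ _ hw
  · have hz : ε (a - algebraMap K A (ε a)) = 0 := by
      rw [map_sub, AlgHom.commutes]
      simp
    have := mul_mem_gW ε S (gamma_mem_gW ε S hS _ hz 1) hw
    exact gW_mono ε S (by omega) this

theorem gammaFil_eq_gW (hS : AddSubgroup.closure S = ⊤) (n : ℕ) :
    (gammaFil (ε : A →+* K) n).restrictScalars K = gW ε S n := by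
  apply le_antisymm
  · intro y hy
    have hy' : y ∈ Ideal.span {y : A | ∃ l : List (ℕ × A), (∀ p ∈ l, (ε : A →+* K) p.2 = 0) ∧
        n ≤ (l.map Prod.fst).sum ∧ y = (l.map fun p => gamma p.1 p.2).prod} := hy
    clear hy
    refine Submodule.span_induction (p := fun y _ => y ∈ gW ε S n) ?_ ?_ ?_ ?_ hy'
    · rintro y ⟨l, hl, hn, rfl⟩
      apply gW_mono ε S hn
      clear hn
      induction l with
      | nil => simpa using one_mem_gW ε S
      | cons p l ih =>
        rw [List.map_cons, List.map_cons, List.prod_cons, List.sum_cons]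
        apply mul_mem_gW ε S
        · exact gamma_mem_gW ε S hS p.2 (hl p (List.mem_cons_self)) p.1
        · exact ih (fun q hq => hl q (List.mem_cons_of_mem _ hq))
    · exact Submodule.zero_mem _
    · intro x y _ _ hx hy
      exact Submodule.add_mem _ hx hy
    · intro a x _ hx
      exact smul_mem_gW ε S hS a hx
  · unfold gW
    rw [Submodule.span_le]
    rintro y ⟨l, hl, hn, rfl⟩
    show _ ∈ gammaFil (ε : A →+* K) n
    unfold gammaFil
    apply Ideal.subset_span
    refine ⟨l.map (fun p => (p.1, p.2 - algebraMap K A (ε p.2))), ?_, ?_, ?_⟩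
    · intro q hq
      rw [List.mem_map] at hq
      obtain ⟨p, _, rfl⟩ := hq
      show ε (p.2 - algebraMap K A (ε p.2)) = 0
      rw [map_sub, AlgHom.commutes]
      simp
    · rw [List.map_map]
      exact hn
    · rw [List.map_map]
      rfl

end GammaGen

end Groth.Agent.Helper3.LambdaLib
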