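import Groth.Agent.Lib.Helper3.GamG
import Groth.Agent.Lib.Helper3.LambdaP

set_option autoImplicit false

namespace Groth.Agent.Helper3.LambdaLib

open LambdaRing MvPolynomial

universe u w v

attribute [local instance] polyLambdaOps

section GammaCoord

variable {K : Type u} [CommRing K] {σ : Type w}

/-- the universal polynomial for `γ^{i+1}(x_s)` in terms of the `λ^j(x_s)` -/
noncomputable def Gm (p : σ × ℕ) : MvPolynomial (σ × ℕ) K :=
  ∑ j ∈ Finset.range (p.2 + 2), ((p.2.choose (j - 1) : ℕ) : MvPolynomial (σ × ℕ) K) *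
    (if j = 0 then 0 else X (p.1, j - 1))

theorem evU_Gm [LambdaOps K] {A : Type v} [CommRing A] [LambdaOps A] [Algebra K A] (x : σ → A)
    (p : σ × ℕ) : evU (K := K) x (Gm p) = gamma (p.2 + 1) (x p.1) := by
  unfold Gm gamma
  rw [if_neg (Nat.succ_ne_zero _), map_sum]
  apply Finset.sum_congr rfl
  intro j _
  rw [map_mul, map_natCast, Nat.add_sub_cancel]
  congr 1
  by_cases hj : j = 0
  · rw [if_pos hj, if_pos hj, map_zero]
  · rw [if_neg hj, if_neg hj, evU, aeval_X]
    show LambdaOps.lam (j - 1 + 1) (x p.1) = _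
    rw [Nat.sub_add_cancel (Nat.pos_of_ne_zero hj)]

/-- the change of coordinates from `γ` to `λ` -/
noncomputable def thetaP : MvPolynomial (σ × ℕ) K →ₐ[K] MvPolynomial (σ × ℕ) K := aeval Gm

/-- evaluation at the `γ^i (x s)` -/
noncomputable def evG {A : Type v} [CommRing A] [LambdaOps A] [Algebra K A] (x : σ → A) :
    MvPolynomial (σ × ℕ) K →ₐ[K] A :=
  aeval (fun p : σ × ℕ => gamma (p.2 + 1) (x p.1))

theorem evU_thetaP [LambdaOps K] {A : Type v} [CommRing A] [LambdaOps A] [Algebra K A] (x : σ → A)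
    (D : MvPolynomial (σ × ℕ) K) : evU x (thetaP D) = evG x D := by
  have h1 := comp_aeval (R := K) (Gm (K := K) (σ := σ)) (evU x : MvPolynomial (σ × ℕ) K →ₐ[K] A)
  have h2 : evU x (thetaP D) = aeval (fun i => evU x (Gm i)) D := DFunLike.congr_fun h1 D
  rw [h2]
  have : (fun i : σ × ℕ => evU (K := K) x (Gm i)) = fun p : σ × ℕ => gamma (p.2 + 1) (x p.1) := by
    funext p
    exact evU_Gm x p
  rw [this]
  rfl

theorem X_mem_range_thetaP (s : σ) (i : ℕ) :
    (X (s, i) : MvPolynomial (σ × ℕ) K) ∈ (thetaP (K := K) (σ := σ)).range := by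
  induction i using Nat.strong_induction_on with
  | _ i ih =>
    have h1 : thetaP (X (s, i) : MvPolynomial (σ × ℕ) K) ∈ (thetaP (K := K) (σ := σ)).range :=
      ⟨_, rfl⟩
    have h2 : thetaP (X (s, i) : MvPolynomial (σ × ℕ) K) = Gm (s, i) := by
      rw [thetaP, aeval_X]
    rw [h2, Gm, Finset.sum_range_succ] at h1
    simp only [Nat.add_sub_cancel, Nat.choose_self, Nat.cast_one, one_mul,
      Nat.succ_ne_zero, if_false] at h1
    have h3 : ∑ j ∈ Finset.range (i + 1), ((i.choose (j - 1) : ℕ) : MvPolynomial (σ × ℕ) K) *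
        (if j = 0 then 0 else X (s, j - 1)) ∈ (thetaP (K := K) (σ := σ)).range := by
      apply Subalgebra.sum_mem
      intro j hj
      have hj' : j < i + 1 := Finset.mem_range.1 hj
      apply Subalgebra.mul_mem
      · exact Subalgebra.natCast_mem _ _
      · by_cases h0 : j = 0
        · rw [if_pos h0]; exact Subalgebra.zero_mem _
        · rw [if_neg h0]
          exact ih (j - 1) (by omega)
    have := Subalgebra.sub_mem _ h1 h3
    rwa [add_sub_cancel_left] at this

theorem thetaP_surjective : Function.Surjective (thetaP (K := K) (σ := σ)) := by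
  rw [← AlgHom.range_eq_top, eq_top_iff, ← MvPolynomial.adjoin_range_X]
  apply Algebra.adjoin_le
  rintro _ ⟨⟨s, i⟩, rfl⟩
  exact X_mem_range_thetaP s i

end GammaCoord

end Groth.Agent.Helper3.LambdaLib
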