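import Groth.Agent.Lib.Helper3.GamH

set_option autoImplicit false

namespace Groth.Agent.Helper3.LambdaLib

open LambdaRing MvPolynomial

universe u w v

attribute [local instance] polyLambdaOps

section PolyGamma

variable {K : Type u} [CommRing K] [LambdaOps K] [BinomialRing K] (hKb : IsBinomial K) (τ : Type w)

include hKb

theorem poly_gamma_mem_pow (m : ℕ) {z : MvPolynomial τ K} (hz : z ∈ augIdeal τ ^ m) (k : ℕ)
    (hk : 1 ≤ k) : gamma k z ∈ augIdeal τ ^ m := by
  have : IsAddTorsionFree K := BinomialRing.toIsAddTorsionFree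
  exact gamma_mem_pow (fun k => (expand k : MvPolynomial τ K →ₐ[K] MvPolynomial τ K).toRingHom)
    (augIdeal τ) (fun k hk x => adamsOp_poly hKb τ k hk x)
    (fun k hk z => expand_sub_self_mem τ k hk z)
    (fun k hk y hy => expand_sub_smul_mem τ k hk y hy)
    (fun k n hk f hf => natCast_mul_mem_augIdeal_pow τ k n hk f hf) m hz k hk

theorem poly_gamma_sub_mem_pow (m : ℕ) (hm : 1 ≤ m) {z : MvPolynomial τ K}
    (hz : z ∈ augIdeal τ ^ m) :
    gamma m z - (-1 : MvPolynomial τ K) ^ (m - 1) * ((m - 1).factorial : MvPolynomial τ K) * z ∈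
      augIdeal τ ^ (m + 1) := by
  have : IsAddTorsionFree K := BinomialRing.toIsAddTorsionFree
  exact gamma_sub_mem_pow (fun k => (expand k : MvPolynomial τ K →ₐ[K] MvPolynomial τ K).toRingHom)
    (augIdeal τ) (fun k hk x => adamsOp_poly hKb τ k hk x)
    (fun k hk z => expand_sub_self_mem τ k hk z)
    (fun k hk y hy => expand_sub_smul_mem τ k hk y hy)
    (fun k n hk f hf => natCast_mul_mem_augIdeal_pow τ k n hk f hf) m hm hz

end PolyGamma

section Avatar

variable {K : Type u} [CommRing K] [LambdaOps K] [BinomialRing K] (hKb : IsBinomial K) {σ : Type w}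

/-- the element `Σ_j T_{s,j} - N` of the avatar ring -/
noncomputable def xN (N : ℕ) (s : σ) : MvPolynomial (σ × Fin N) K :=
  ∑ j : Fin N, X (s, j) - (N : MvPolynomial (σ × Fin N) K)

/-- the avatar map -/
noncomputable def aN (N : ℕ) : MvPolynomial (σ × ℕ) K →ₐ[K] MvPolynomial (σ × Fin N) K :=
  evU (xN N)

include hKb

theorem gamma_xN (N : ℕ) (s : σ) (k : ℕ) :
    gamma k (xN (K := K) N s) =
      ∑ t ∈ (Finset.univ : Finset (Fin N)).powersetCard k,
        ∏ i ∈ t, ((X (s, i) : MvPolynomial (σ × Fin N) K) - 1) := by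
  have h1 : ∀ k : ℕ, 2 ≤ k → LambdaOps.lam k (1 : MvPolynomial (σ × Fin N) K) = 0 := by
    intro k hk
    have := lam_poly_C (K := K) (σ × Fin N) k 1
    rw [(isSpecial_of_isBinomial hKb).lam_one_eq_zero k hk, map_zero, map_one] at this
    exact this
  exact gamma_sum_sub_card h1 N (fun i => (X (s, i) : MvPolynomial (σ × Fin N) K))
    (fun i j hj => lam_poly_X (σ × Fin N) (isSpecial_of_isBinomial hKb).lam_one_eq_zero (s, i) j hj) k

theorem shift_aN_thetaP (N : ℕ) (D : MvPolynomial (σ × ℕ) K) :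
    shiftE (σ × Fin N) (aN N (thetaP D)) = cN N D := by
  have h : ((shiftE (K := K) (σ × Fin N)).toAlgHom.comp ((aN N).comp thetaP)) = cN N := by
    apply MvPolynomial.algHom_ext
    intro p
    simp only [AlgHom.comp_apply]
    rw [thetaP, aeval_X, aN, evU_Gm, gamma_xN hKb, cN, aeval_X]
    show shiftE (σ × Fin N) _ = _
    rw [map_sum, esymm, map_sum]
    apply Finset.sum_congr rfl
    intro t _
    rw [map_prod, map_prod]
    apply Finset.prod_congr rfl
    intro i _
    rw [map_sub, map_one, shiftE_X, rename_X, add_sub_cancel_right]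
  exact DFunLike.congr_fun h D

end Avatar

end Groth.Agent.Helper3.LambdaLib
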