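import Groth.Agent.Lib.Helper3.GamI

set_option autoImplicit false

namespace Groth.Agent.Helper3.LambdaLib

open LambdaRing MvPolynomial

universe u w v

attribute [local instance] polyLambdaOps

section FilProd

variable {K : Type u} [CommRing K] {A : Type v} [CommRing A] [LambdaOps A] [Algebra K A]
  (ε : A →ₐ[K] K)

theorem mem_gammaFil_iff_gW (n : ℕ) (y : A) :
    y ∈ gammaFil (ε : A →+* K) n ↔ y ∈ gW ε (Set.univ : Set A) n := by
  have h := gammaFil_eq_gW ε (Set.univ : Set A) (by simp) n
  rw [← h]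
  rfl

theorem pow_mem_gW {k : ℕ} {y : A} (hy : y ∈ gW ε (Set.univ : Set A) k) (e : ℕ) :
    y ^ e ∈ gW ε (Set.univ : Set A) (e * k) := by
  induction e with
  | zero => simpa using one_mem_gW ε Set.univ
  | succ e ih =>
    rw [pow_succ, Nat.succ_mul]
    exact mul_mem_gW ε Set.univ ih hy

theorem prod_pow_mem_gW {ι : Type*} (t : Finset ι) (g : ι → A) (e wt : ι → ℕ)
    (hg : ∀ i ∈ t, g i ∈ gW ε (Set.univ : Set A) (wt i)) :
    ∏ i ∈ t, g i ^ e i ∈ gW ε (Set.univ : Set A) (∑ i ∈ t, e i * wt i) := by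
  classical
  induction t using Finset.induction_on with
  | empty => simpa using one_mem_gW ε Set.univ
  | insert a t ha ih =>
    rw [Finset.prod_insert ha, Finset.sum_insert ha]
    exact mul_mem_gW ε Set.univ (pow_mem_gW ε (hg a (Finset.mem_insert_self a t)) (e a))
      (ih fun i hi => hg i (Finset.mem_insert_of_mem hi))

end FilProd

section W

variable {K : Type u} [CommRing K] [LambdaOps K] [BinomialRing K] (hKb : IsBinomial K) {σ : Type w}

include hKb

/-- if all avatars of a universal polynomial lie in the `n`-th power of the augmentation ideal,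
its values at elements of augmentation zero lie in the `n`-th step of the γ-filtration -/
theorem mem_gammaFil_of_avatar (D : MvPolynomial (σ × ℕ) K) (n : ℕ)
    (h : ∀ N, aN N D ∈ augIdeal (K := K) (σ × Fin N) ^ n)
    {A : Type v} [CommRing A] [LambdaOps A] [Algebra K A] (ε : A →ₐ[K] K) (x : σ → A)
    (hx : ∀ s, ε (x s) = 0) : evU x D ∈ gammaFil (ε : A →+* K) n := by
  obtain ⟨D', rfl⟩ := thetaP_surjective D
  have hc : ∀ N, cN N D' ∈ idealOfVars (σ × Fin N) K ^ n := by
    intro N
    rw [← shift_aN_thetaP hKb]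
    exact (mem_augIdeal_pow_iff _ n _).1 (h N)
  have hw := weight_of_cN D' n hc
  rw [evU_thetaP, D'.as_sum, map_sum]
  apply Ideal.sum_mem
  intro d hd
  rw [evG, aeval_monomial]
  apply Ideal.mul_mem_left
  rw [mem_gammaFil_iff_gW]
  have h1 := prod_pow_mem_gW ε d.support (fun p : σ × ℕ => gamma (p.2 + 1) (x p.1))
    (fun p => d p) (fun p => p.2 + 1)
    (fun p _ => gamma_mem_gW ε Set.univ (by simp) (x p.1) (hx p.1) (p.2 + 1))
  have h2 : n ≤ ∑ p ∈ d.support, d p * (p.2 + 1) := by
    have := hw d hd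
    rw [Finsupp.weight_apply, Finsupp.sum] at this
    simpa [smul_eq_mul] using this
  exact gW_mono ε Set.univ h2 h1

end W

end Groth.Agent.Helper3.LambdaLib
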