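import Groth.Agent.Lib.Helper3.GamJ

set_option autoImplicit false

namespace Groth.Agent.Helper3.LambdaLib

open LambdaRing MvPolynomial

universe u w v

attribute [local instance] polyLambdaOps

section Assembly

variable {K : Type u} [CommRing K] {σ : Type w}

/-- the universal polynomial for `γ^i(x_s)`, `i ≥ 0` -/
noncomputable def GmP (i : ℕ) (s : σ) : MvPolynomial (σ × ℕ) K :=
  if i = 0 then 1 else Gm (s, i - 1)

theorem evU_GmP [LambdaOps K] {A : Type v} [CommRing A] [LambdaOps A] [Algebra K A] (x : σ → A)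
    (i : ℕ) (s : σ) : evU (K := K) x (GmP i s) = gamma i (x s) := by
  unfold GmP
  by_cases hi : i = 0
  · rw [if_pos hi, map_one, hi, gamma_zero_left]
  · rw [if_neg hi, evU_Gm]
    show gamma (i - 1 + 1) (x s) = _
    rw [Nat.sub_add_cancel (Nat.pos_of_ne_zero hi)]

/-- the `K`-span of the universal `γ`-monomials of weight at least `n` -/
noncomputable def Wt (n : ℕ) : Submodule K (MvPolynomial (σ × ℕ) K) :=
  Submodule.span K {y | ∃ l : List (ℕ × σ), n ≤ (l.map Prod.fst).sum ∧
    y = (l.map fun p => (GmP p.1 p.2 : MvPolynomial (σ × ℕ) K)).prod}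

theorem exists_mem_Wt [LambdaOps K] {A : Type v} [CommRing A] [LambdaOps A] [Algebra K A]
    (ε : A →ₐ[K] K) (x : σ → A) (hsurj : ∀ a : A, ε a = 0 → ∃ s, x s = a) (n : ℕ) (z : A)
    (hz : z ∈ gammaFil (ε : A →+* K) n) :
    ∃ zt ∈ Wt (K := K) (σ := σ) n, evU x zt = z := by
  rw [mem_gammaFil_iff_gW] at hz
  unfold gW at hz
  induction hz using Submodule.span_induction with
  | mem y hy =>
    obtain ⟨l, -, hn, rfl⟩ := hy
    have key : ∀ l : List (ℕ × A), ∃ l' : List (ℕ × σ),
        (l'.map Prod.fst).sum = (l.map Prod.fst).sum ∧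
        evU (K := K) x (l'.map fun p => (GmP p.1 p.2 : MvPolynomial (σ × ℕ) K)).prod =
          (l.map fun p => gamma p.1 (p.2 - algebraMap K A (ε p.2))).prod := by
      intro l
      induction l with
      | nil => exact ⟨[], rfl, by simp⟩
      | cons p l ih =>
        obtain ⟨l', h1, h2⟩ := ih
        have hp : ε (p.2 - algebraMap K A (ε p.2)) = 0 := by
          rw [map_sub, AlgHom.commutes]; simp
        obtain ⟨s, hs⟩ := hsurj _ hp
        refine ⟨(p.1, s) :: l', ?_, ?_⟩
        · simp [h1]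
        · rw [List.map_cons, List.prod_cons, map_mul, h2, evU_GmP, hs, List.map_cons,
            List.prod_cons]
    obtain ⟨l', h1, h2⟩ := key l
    refine ⟨_, Submodule.subset_span ⟨l', by rw [h1]; exact hn, rfl⟩, h2⟩
  | zero => exact ⟨0, Submodule.zero_mem _, map_zero _⟩
  | add y y' _ _ hy hy' =>
    obtain ⟨a, ha, rfl⟩ := hy
    obtain ⟨b, hb, rfl⟩ := hy'
    exact ⟨a + b, Submodule.add_mem _ ha hb, map_add _ _ _⟩
  | smul c y _ hy =>
    obtain ⟨a, ha, rfl⟩ := hy
    exact ⟨c • a, Submodule.smul_mem _ c ha, map_smul _ _ _⟩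

end Assembly

section AvatarMem

variable {K : Type u} [CommRing K] [LambdaOps K] [BinomialRing K] (hKb : IsBinomial K) {σ : Type w}

omit [LambdaOps K] [BinomialRing K] in
theorem prod_sub_one_mem_pow (N : ℕ) (s : σ) (t : Finset (Fin N)) :
    ∏ i ∈ t, ((X (s, i) : MvPolynomial (σ × Fin N) K) - 1) ∈
      augIdeal (K := K) (σ × Fin N) ^ t.card := by
  classical
  induction t using Finset.induction_on with
  | empty => simp
  | insert a t ha ih =>
    rw [Finset.prod_insert ha, Finset.card_insert_of_notMem ha, pow_succ']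
    exact Ideal.mul_mem_mul (Ideal.subset_span ⟨(s, a), rfl⟩) ih

include hKb

theorem gamma_xN_mem (N : ℕ) (s : σ) (k : ℕ) :
    gamma k (xN (K := K) N s) ∈ augIdeal (K := K) (σ × Fin N) ^ k := by
  rw [gamma_xN hKb]
  apply Ideal.sum_mem
  intro t ht
  have := prod_sub_one_mem_pow (K := K) N s t
  rwa [(Finset.mem_powersetCard.1 ht).2] at this

theorem aN_mem_of_mem_Wt (n : ℕ) (zt : MvPolynomial (σ × ℕ) K) (hz : zt ∈ Wt (K := K) (σ := σ) n)
    (N : ℕ) : aN N zt ∈ augIdeal (K := K) (σ × Fin N) ^ n := by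
  unfold Wt at hz
  induction hz using Submodule.span_induction with
  | mem y hy =>
    obtain ⟨l, hn, rfl⟩ := hy
    refine Ideal.pow_le_pow_right hn ?_
    clear hn
    induction l with
    | nil => simp
    | cons p l ih =>
      simp only [List.map_cons, List.prod_cons, List.sum_cons, map_mul, pow_add]
      refine Ideal.mul_mem_mul ?_ ih
      rw [aN, evU_GmP]
      exact gamma_xN_mem hKb N p.2 p.1
  | zero => rw [map_zero]; exact Ideal.zero_mem _
  | add y y' _ _ hy hy' => rw [map_add]; exact Ideal.add_mem _ hy hy'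
  | smul c y _ hy =>
    rw [map_smul, Algebra.smul_def]
    exact Ideal.mul_mem_left _ _ hy

end AvatarMem

end Groth.Agent.Helper3.LambdaLib
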