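import Groth.Agent.Lib.Helper3.GamK

set_option autoImplicit false

namespace Groth.Agent.Helper3.LambdaLib

open LambdaRing MvPolynomial

universe u w v

attribute [local instance] polyLambdaOps

section Main

variable {K : Type u} [CommRing K] [LambdaOps K]

theorem evU_gammaPoly {σ : Type w} {F : MvPolynomial (σ × ℕ) K} {GF : ℕ → MvPolynomial (σ × ℕ) K}
    (m : ℕ) (hm : m ≠ 0) (h : ∀ j, Rep.{u, w, v} F j (GF j))
    (A : Type v) [CommRing A] [LambdaOps A] [Algebra K A] (hA : IsSpecial A)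
    (hAK : IsLambdaAlg K A) (x : σ → A) :
    evU x (∑ j ∈ Finset.range (m + 1), (((m - 1).choose (j - 1) : ℕ) : MvPolynomial (σ × ℕ) K) *
      (if j = 0 then 0 else GF j)) = gamma m (evU x F) := by
  unfold gamma
  rw [if_neg hm, map_sum]
  apply Finset.sum_congr rfl
  intro j _
  rw [map_mul, map_natCast]
  congr 1
  by_cases hj : j = 0
  · rw [if_pos hj, if_pos hj, map_zero]
  · rw [if_neg hj, if_neg hj, h j A hA hAK x]

variable [BinomialRing K]

/-- for `z` in the `m`-th step of the γ-filtration, `γ^m(z) ≡ (-1)^(m-1) (m-1)! z` modulo the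
next step -/
theorem gamma_sub_factorial_mem_gammaFil (hKb : IsBinomial K)
    {A : Type v} [CommRing A] [LambdaOps A] [Algebra K A] (hA : IsSpecial A)
    (ε : A →ₐ[K] K) (hε : IsAugLambdaAlg K A ε) (m : ℕ) (hm : 1 ≤ m) (z : A)
    (hz : z ∈ gammaFil (ε : A →+* K) m) :
    gamma m z - (-1 : A) ^ (m - 1) * ((m - 1).factorial : A) * z ∈
      gammaFil (ε : A →+* K) (m + 1) := by
  let x : {a : A // ε a = 0} → A := Subtype.val
  obtain ⟨zt, hzt, rfl⟩ := exists_mem_Wt (K := K) ε x (fun a ha => ⟨⟨a, ha⟩, rfl⟩) m z hz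
  obtain ⟨GF, hGF⟩ := exists_rep.{u, v, v, max u v} zt
  set Gg : MvPolynomial ({a : A // ε a = 0} × ℕ) K :=
    ∑ j ∈ Finset.range (m + 1), (((m - 1).choose (j - 1) : ℕ) : MvPolynomial _ K) *
      (if j = 0 then 0 else GF j) with hGg
  set D : MvPolynomial ({a : A // ε a = 0} × ℕ) K :=
    Gg - (-1) ^ (m - 1) * ((m - 1).factorial : MvPolynomial _ K) * zt with hD
  have hav : ∀ N, aN N D ∈ augIdeal (K := K) ({a : A // ε a = 0} × Fin N) ^ (m + 1) := by
    intro N
    have e : aN N D = gamma m (aN N zt) - (-1) ^ (m - 1) *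
        ((m - 1).factorial : MvPolynomial ({a : A // ε a = 0} × Fin N) K) * aN N zt := by
      rw [hD, map_sub, map_mul, map_mul, map_pow, map_neg, map_one, map_natCast, hGg]
      congr 1
      exact evU_gammaPoly m (by omega) (fun j => (hGF j).2) _ (isSpecial_poly hKb _)
        (isLambdaAlg_poly _) (xN N)
    rw [e]
    exact poly_gamma_sub_mem_pow hKb _ m hm (aN_mem_of_mem_Wt hKb m zt hzt N)
  have h1 := mem_gammaFil_of_avatar hKb D (m + 1) hav ε x (fun s => s.2)
  have e : evU x D = gamma m (evU x zt) - (-1) ^ (m - 1) * ((m - 1).factorial : A) * evU x zt := by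
    rw [hD, map_sub, map_mul, map_mul, map_pow, map_neg, map_one, map_natCast, hGg]
    congr 1
    exact evU_gammaPoly m (by omega) (fun j => (hGF j).1) A hA hε.isLambdaAlg x
  rw [e] at h1
  exact h1

end Main

end Groth.Agent.Helper3.LambdaLib
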