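import Groth.Agent.Lib.Helper3.GamL

set_option autoImplicit false

namespace Groth.Agent.Helper3.LambdaLib

open LambdaRing Groth.Agent.Helper3.SplitLib

universe u w v

attribute [local instance] polyLambdaOps

section BinomODE

open PowerSeries

variable {K : Type u} [CommRing K] [LambdaOps K] [BinomialRing K]

theorem one_add_X_mul_derivative_lamSeries (hKb : IsBinomial K) (x : K) :
    (1 + X) * derivative K (lamSeries x) = C x * lamSeries x := by
  ext n
  rw [add_mul, one_mul, map_add, coeff_C_mul, coeff_lamSeries, coeff_derivative, coeff_lamSeries,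
    hKb, hKb]
  rcases n with _ | n
  · rw [coeff_zero_X_mul, add_zero]
    have := succ_mul_choose_succ x 0
    simp only [Nat.cast_zero, zero_add, one_mul, sub_zero] at this
    simp only [Nat.cast_zero, zero_add, mul_one]
    rw [this, mul_comm]
  · rw [coeff_succ_X_mul, coeff_derivative, coeff_lamSeries, hKb]
    have e1 := succ_mul_choose_succ x (n + 1)
    push_cast at e1 ⊢
    linear_combination e1

omit [LambdaOps K] [BinomialRing K] in
theorem rescale_altSeries_mul {R : Type*} [CommRing R] (a : R) :
    rescale a (altSeries R) * (1 + C a * X) = 1 := by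
  have h := congrArg (rescale a) (altSeries_mul R)
  rw [map_mul, map_add, map_one, rescale_X] at h
  exact h

omit [LambdaOps K] [BinomialRing K] in
theorem ode_unique_lin {R : Type*} [CommRing R] [IsAddTorsionFree R] (a β : R)
    (F₁ F₂ : PowerSeries R)
    (h₁ : (1 + C a * X) * derivative R F₁ = C β * F₁)
    (h₂ : (1 + C a * X) * derivative R F₂ = C β * F₂)
    (c₁ : constantCoeff F₁ = 1) (c₂ : constantCoeff F₂ = 1) : F₁ = F₂ := by
  have key : ∀ F : PowerSeries R, (1 + C a * X) * derivative R F = C β * F →
      derivative R F = (rescale a (altSeries R) * C β) * F := by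
    intro F hF
    calc derivative R F = (rescale a (altSeries R) * (1 + C a * X)) * derivative R F := by
          rw [rescale_altSeries_mul, one_mul]
      _ = rescale a (altSeries R) * ((1 + C a * X) * derivative R F) := by ring
      _ = (rescale a (altSeries R) * C β) * F := by rw [hF]; ring
  exact ode_unique_tf _ F₁ F₂ (key F₁ h₁) (key F₂ h₂) c₁ c₂

theorem ode_rescale_lam (hKb : IsBinomial K) {R : Type*} [CommRing R] (φ : K →+* R) (c : K)
    (a : R) :
    (1 + C a * X) * derivative R (rescale a (PowerSeries.map φ (lamSeries c))) =
      C (φ c * a) * rescale a (PowerSeries.map φ (lamSeries c)) := by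
  have h1 := congrArg (fun F => rescale a (PowerSeries.map φ F))
    (one_add_X_mul_derivative_lamSeries hKb c)
  simp only [map_mul, map_add, map_one, map_X, rescale_X, map_C] at h1
  rw [derivative_rescale, ← derivative_map]
  have h2 : rescale a (C (φ c) : PowerSeries R) = C (φ c) := by
    ext n
    rw [coeff_rescale, coeff_C]
    split_ifs with h
    · subst h; simp
    · simp
  rw [h2] at h1
  calc (1 + C a * X) * (C a * rescale a (PowerSeries.map φ (derivative K (lamSeries c))))
      = C a * ((1 + C a * X) * rescale a (PowerSeries.map φ (derivative K (lamSeries c)))) := by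
        ring
    _ = C (φ c * a) * rescale a (PowerSeries.map φ (lamSeries c)) := by
        rw [h1, map_mul]; ring

end BinomODE

end Groth.Agent.Helper3.LambdaLib
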