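import Groth.Agent.Lib.Helper3.GamM

set_option autoImplicit false

namespace Groth.Agent.Helper3.LambdaLib

open LambdaRing Groth.Agent.Helper3.SplitLib

universe u w v

attribute [local instance] polyLambdaOps

section GammaLine

open PowerSeries

variable {K : Type u} [CommRing K] [LambdaOps K] [BinomialRing K] (hKb : IsBinomial K) (τ : Type w)

theorem one_add_bSer' (R : Type*) [CommRing R] :
    (1 : PowerSeries R) + bSer R = PowerSeries.mk 1 := by
  ext n
  rcases n with _ | n
  · simp [bSer]
  · simp [bSer, coeff_one, coeff_succ_X_mul]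

theorem derivative_bSer (R : Type*) [CommRing R] :
    derivative R (bSer R) = PowerSeries.mk 1 * PowerSeries.mk 1 := by
  have hE : (PowerSeries.mk 1 : PowerSeries R) * (1 - X) = 1 := mk_one_mul_one_sub_eq_one R
  have hb : bSer R = PowerSeries.mk 1 - 1 := by rw [← one_add_bSer' R]; ring
  have h1 := congrArg (derivative R) hE
  rw [Derivation.leibniz, Derivation.map_one_eq_zero, smul_eq_mul, smul_eq_mul, map_sub,
    Derivation.map_one_eq_zero, derivative_X] at h1
  have h2 : derivative R (PowerSeries.mk 1 : PowerSeries R) * (1 - X) = PowerSeries.mk 1 := by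
    linear_combination h1
  rw [hb, map_sub, Derivation.map_one_eq_zero, sub_zero]
  calc derivative R (PowerSeries.mk 1 : PowerSeries R)
      = derivative R (PowerSeries.mk 1 : PowerSeries R) * (PowerSeries.mk 1 * (1 - X)) := by
        rw [hE, mul_one]
    _ = (derivative R (PowerSeries.mk 1 : PowerSeries R) * (1 - X)) * PowerSeries.mk 1 := by ring
    _ = PowerSeries.mk 1 * PowerSeries.mk 1 := by rw [h2]

include hKb

theorem logDerivSeries_line_sub (α : τ →₀ ℕ) (c : K) :
    logDerivSeries (MvPolynomial.monomial α c - MvPolynomial.C c : MvPolynomial τ K) =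
      C (MvPolynomial.C c * MvPolynomial.monomial α 1) *
          rescale (MvPolynomial.monomial α (1 : K)) (altSeries (MvPolynomial τ K)) -
        C (MvPolynomial.C c) * altSeries (MvPolynomial τ K) := by
  ext1 k
  have hsub : adamsOp (k + 1) (MvPolynomial.monomial α c - MvPolynomial.C c : MvPolynomial τ K) =
      MvPolynomial.monomial ((k + 1) • α) c - MvPolynomial.C c := by
    rw [adamsOp_poly hKb τ (k + 1) (by omega), map_sub, MvPolynomial.expand_monomial,
      MvPolynomial.expand_C]
  rw [coeff_logDerivSeries, hsub, map_sub, coeff_C_mul, coeff_C_mul, coeff_rescale, altSeries,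
    coeff_mk, MvPolynomial.monomial_pow, one_pow]
  have e1 : (MvPolynomial.C c * MvPolynomial.monomial α (1 : K) *
      (MvPolynomial.monomial (k • α) (1 : K) * (-1) ^ k) : MvPolynomial τ K) =
      (-1) ^ k * MvPolynomial.monomial ((k + 1) • α) c := by
    have : (MvPolynomial.C c * MvPolynomial.monomial α (1 : K) *
        MvPolynomial.monomial (k • α) (1 : K) : MvPolynomial τ K) =
        MvPolynomial.monomial ((k + 1) • α) c := by
      rw [mul_assoc, MvPolynomial.monomial_mul, MvPolynomial.C_mul_monomial, mul_one, mul_one,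
        add_smul, one_smul, add_comm]
    rw [← this]; ring
  rw [e1]
  ring

theorem logDerivSeries_line_sub_mul (α : τ →₀ ℕ) (c : K) :
    logDerivSeries (MvPolynomial.monomial α c - MvPolynomial.C c : MvPolynomial τ K) *
        ((1 + C (MvPolynomial.monomial α (1 : K)) * X) * (1 + X)) =
      C (MvPolynomial.C c * (MvPolynomial.monomial α 1 - 1)) := by
  rw [logDerivSeries_line_sub hKb]
  have h1 := rescale_altSeries_mul (MvPolynomial.monomial α (1 : K))
  have h2 := altSeries_mul (MvPolynomial τ K)
  set U := MvPolynomial.monomial α (1 : K) with hU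
  calc (C (MvPolynomial.C c * U) * rescale U (altSeries (MvPolynomial τ K)) -
        C (MvPolynomial.C c) * altSeries (MvPolynomial τ K)) * ((1 + C U * X) * (1 + X))
      = C (MvPolynomial.C c * U) * (rescale U (altSeries (MvPolynomial τ K)) * (1 + C U * X)) *
          (1 + X) -
        C (MvPolynomial.C c) * (altSeries (MvPolynomial τ K) * (1 + X)) * (1 + C U * X) := by ring
    _ = C (MvPolynomial.C c * (U - 1)) := by
        rw [h1, h2]
        simp only [map_mul, map_sub, map_one]
        ring

theorem gammaSeries_line_sub_ode (α : τ →₀ ℕ) (c : K) :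
    (1 + C (MvPolynomial.monomial α (1 : K) - 1) * X) *
        derivative (MvPolynomial τ K)
          (gammaSeries (MvPolynomial.monomial α c - MvPolynomial.C c : MvPolynomial τ K)) =
      C (MvPolynomial.C c * (MvPolynomial.monomial α (1 : K) - 1)) *
        gammaSeries (MvPolynomial.monomial α c - MvPolynomial.C c : MvPolynomial τ K) := by
  have hs := hasSubst_bSer (MvPolynomial τ K)
  rw [gammaSeries_eq_subst, derivative_subst hs, derivative_lamSeries, subst_mul hs,
    derivative_bSer]
  have h3 := congrArg (PowerSeries.subst (bSer (MvPolynomial τ K)))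
    (logDerivSeries_line_sub_mul hKb τ α c)
  rw [subst_mul hs, subst_mul hs, subst_add hs, subst_add hs, subst_mul hs, subst_X hs,
    subst_one_bSer] at h3
  have hC : ∀ r : MvPolynomial τ K,
      (C r : PowerSeries (MvPolynomial τ K)).subst (bSer (MvPolynomial τ K)) = C r :=
    fun r => subst_C (a := bSer (MvPolynomial τ K)) r
  rw [hC, hC] at h3
  have hE : (PowerSeries.mk 1 : PowerSeries (MvPolynomial τ K)) * (1 - X) = 1 :=
    mk_one_mul_one_sub_eq_one (MvPolynomial τ K)
  have hb : bSer (MvPolynomial τ K) = X * PowerSeries.mk 1 := rfl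
  have h4 : (1 : PowerSeries (MvPolynomial τ K)) +
      C (MvPolynomial.monomial α (1 : K)) * bSer (MvPolynomial τ K) =
      (1 + C (MvPolynomial.monomial α (1 : K) - 1) * X) * PowerSeries.mk 1 := by
    rw [hb, RingHom.map_sub, RingHom.map_one]
    calc (1 : PowerSeries (MvPolynomial τ K)) +
          C (MvPolynomial.monomial α (1 : K)) * (X * PowerSeries.mk 1)
        = PowerSeries.mk 1 * (1 - X) +
          C (MvPolynomial.monomial α (1 : K)) * (X * PowerSeries.mk 1) := by rw [hE]
      _ = (1 + (C (MvPolynomial.monomial α (1 : K)) - 1) * X) * PowerSeries.mk 1 := by ring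
  rw [h4, one_add_bSer' (MvPolynomial τ K)] at h3
  rw [← h3]
  ring

theorem gammaSeries_line_sub (α : τ →₀ ℕ) (c : K) :
    gammaSeries (MvPolynomial.monomial α c - MvPolynomial.C c : MvPolynomial τ K) =
      rescale (MvPolynomial.monomial α (1 : K) - 1)
        (PowerSeries.map MvPolynomial.C (lamSeries c)) := by
  have : IsAddTorsionFree K := BinomialRing.toIsAddTorsionFree
  have htf : IsAddTorsionFree (MvPolynomial τ K) := isAddTorsionFree_mvPolynomial τ
  have h1 := gammaSeries_line_sub_ode hKb τ α c
  have h2 := ode_rescale_lam hKb (MvPolynomial.C : K →+* MvPolynomial τ K) c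
    (MvPolynomial.monomial α (1 : K) - 1)
  have c1 : constantCoeff
      (gammaSeries (MvPolynomial.monomial α c - MvPolynomial.C c : MvPolynomial τ K)) = 1 := by
    rw [← coeff_zero_eq_constantCoeff_apply, coeff_gammaSeries, gamma_zero_left]
  have c2 : constantCoeff (rescale (MvPolynomial.monomial α (1 : K) - 1)
        (PowerSeries.map (MvPolynomial.C (σ := τ)) (lamSeries c))) = 1 := by
    rw [← coeff_zero_eq_constantCoeff_apply, coeff_rescale, pow_zero, one_mul, coeff_map,
      coeff_lamSeries, LambdaOps.lam_zero, RingHom.map_one]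
  exact ode_unique_lin _ _ _ _ h1 h2 c1 c2

theorem gamma_line_sub (α : τ →₀ ℕ) (c : K) (i : ℕ) :
    gamma i (MvPolynomial.monomial α c - MvPolynomial.C c : MvPolynomial τ K) =
      (MvPolynomial.monomial α (1 : K) - 1) ^ i * MvPolynomial.C (LambdaOps.lam i c) := by
  rw [← coeff_gammaSeries, gammaSeries_line_sub hKb, coeff_rescale, coeff_map, coeff_lamSeries]

end GammaLine

end Groth.Agent.Helper3.LambdaLib
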