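import Groth.Agent.Lib.Helper3.GamN

set_option autoImplicit false

namespace Groth.Agent.Helper3.LambdaLib

open LambdaRing MvPolynomial

universe u w v

attribute [local instance] polyLambdaOps

section GammaAug

variable {K : Type u} [CommRing K] (τ : Type w)

theorem monomial_sub_one_mem_augIdeal (α : τ →₀ ℕ) :
    (monomial α (1 : K) - 1 : MvPolynomial τ K) ∈ augIdeal (K := K) τ := by
  induction α using Finsupp.induction with
  | zero =>
    have : (monomial (0 : τ →₀ ℕ) (1 : K) : MvPolynomial τ K) = 1 := rfl
    rw [this, sub_self]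
    exact Ideal.zero_mem _
  | single_add j e f _ _ ih =>
    rw [monomial_single_add]
    have : (X j ^ e * monomial f (1 : K) - 1 : MvPolynomial τ K) =
        X j ^ e * (monomial f (1 : K) - 1) + (X j ^ e - 1) := by ring
    rw [this]
    exact add_mem (Ideal.mul_mem_left _ _ ih) (pow_sub_one_mem_augIdeal τ j e)

/-- the augmentation `T ↦ 1` -/
noncomputable def epsOne : MvPolynomial τ K →ₐ[K] K := aeval (fun _ => (1 : K))

theorem epsOne_eq_zero_of_mem {f : MvPolynomial τ K} (hf : f ∈ augIdeal (K := K) τ) :
    epsOne τ f = 0 := by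
  have h : augIdeal (K := K) τ ≤ RingHom.ker (epsOne (K := K) τ) := by
    unfold augIdeal
    rw [Ideal.span_le]
    rintro _ ⟨j, rfl⟩
    show epsOne τ (X j - 1) = 0
    simp [epsOne]
  exact h hf

theorem eq_sum_line_sub_of_mem {f : MvPolynomial τ K} (hf : f ∈ augIdeal (K := K) τ) :
    f = ∑ α ∈ f.support, (monomial α (coeff α f) - C (coeff α f)) := by
  have h0 : ∑ α ∈ f.support, coeff α f = 0 := by
    have h1 := epsOne_eq_zero_of_mem τ hf
    rw [f.as_sum, map_sum] at h1
    rw [← h1]
    apply Finset.sum_congr rfl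
    intro α _
    simp only [epsOne, aeval_monomial, Algebra.algebraMap_self_apply, Finsupp.prod, one_pow,
      Finset.prod_const_one, mul_one]
  rw [Finset.sum_sub_distrib, ← map_sum, h0, map_zero, sub_zero]
  exact f.as_sum

variable [LambdaOps K] [BinomialRing K] (hKb : IsBinomial K)

include hKb

theorem gamma_mem_pow_of_mem_augIdeal {y : MvPolynomial τ K} (hy : y ∈ augIdeal (K := K) τ)
    (i : ℕ) : gamma i y ∈ augIdeal (K := K) τ ^ i := by
  classical
  have key : ∀ (t : Finset (τ →₀ ℕ)) (cf : (τ →₀ ℕ) → K) (i : ℕ),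
      gamma i (∑ α ∈ t, (monomial α (cf α) - C (cf α) : MvPolynomial τ K)) ∈
        augIdeal (K := K) τ ^ i := by
    intro t cf
    induction t using Finset.induction_on with
    | empty =>
      intro i
      rw [Finset.sum_empty, gamma_zero_right]
      split_ifs with h
      · subst h; simp
      · exact Ideal.zero_mem _
    | insert a t ha ih =>
      intro i
      rw [Finset.sum_insert ha, gamma_add]
      apply Ideal.sum_mem
      intro j hj
      have hji : j ≤ i := Nat.lt_succ_iff.1 (Finset.mem_range.1 hj)
      have h1 : gamma j (monomial a (cf a) - C (cf a) : MvPolynomial τ K) ∈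
          augIdeal (K := K) τ ^ j := by
        rw [gamma_line_sub hKb]
        exact Ideal.mul_mem_right _ _ (Ideal.pow_mem_pow (monomial_sub_one_mem_augIdeal τ a) j)
      have h2 := Ideal.mul_mem_mul h1 (ih (i - j))
      rwa [← pow_add, Nat.add_sub_cancel' hji] at h2
  rw [eq_sum_line_sub_of_mem τ hy]
  exact key _ _ i

end GammaAug

end Groth.Agent.Helper3.LambdaLib
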