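import Groth.Agent.Lib.Helper3.GamO

set_option autoImplicit false

namespace Groth.Agent.Helper3.LambdaLib

open LambdaRing MvPolynomial

universe u w v

attribute [local instance] polyLambdaOps

section W0

variable {K : Type u} [CommRing K] [LambdaOps K] [BinomialRing K] (hKb : IsBinomial K) {σ : Type w}

include hKb

/-- a universal polynomial all of whose avatars lie in the `n`-th power of the augmentation ideal
is a polynomial of weight at least `n` in the `γ`-coordinates -/
theorem exists_weight_rep (D : MvPolynomial (σ × ℕ) K) (n : ℕ)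
    (h : ∀ N, aN N D ∈ augIdeal (K := K) (σ × Fin N) ^ n) :
    ∃ D' : MvPolynomial (σ × ℕ) K, thetaP D' = D ∧
      ∀ d ∈ D'.support, n ≤ Finsupp.weight (fun p : σ × ℕ => p.2 + 1) d := by
  obtain ⟨D', rfl⟩ := thetaP_surjective D
  refine ⟨D', rfl, ?_⟩
  have hc : ∀ N, cN N D' ∈ idealOfVars (σ × Fin N) K ^ n := by
    intro N
    rw [← shift_aN_thetaP hKb]
    exact (mem_augIdeal_pow_iff _ n _).1 (h N)
  exact weight_of_cN D' n hc

end W0

section Graded

theorem prod_pow_mem_of_graded {B : Type*} [CommRing B] (M : ℕ → Ideal B) (h1 : (1 : B) ∈ M 0)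
    (hmul : ∀ (a b : ℕ) (x y : B), x ∈ M a → y ∈ M b → x * y ∈ M (a + b))
    {ι : Type*} (t : Finset ι) (g : ι → B) (e wt : ι → ℕ) (hg : ∀ i ∈ t, g i ∈ M (wt i)) :
    ∏ i ∈ t, g i ^ e i ∈ M (∑ i ∈ t, e i * wt i) := by
  classical
  have hpow : ∀ (k : ℕ) (y : B), y ∈ M k → ∀ e : ℕ, y ^ e ∈ M (e * k) := by
    intro k y hy e
    induction e with
    | zero => simpa using h1
    | succ e ih =>
      rw [pow_succ, Nat.succ_mul]
      exact hmul _ _ _ _ ih hy
  induction t using Finset.induction_on with
  | empty => simpa using h1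
  | insert a t ha ih =>
    rw [Finset.prod_insert ha, Finset.sum_insert ha]
    exact hmul _ _ _ _ (hpow _ _ (hg a (Finset.mem_insert_self a t)) (e a))
      (ih fun i hi => hg i (Finset.mem_insert_of_mem hi))

theorem list_prod_mem_of_graded {B : Type*} [CommRing B] (M : ℕ → Ideal B) (h1 : (1 : B) ∈ M 0)
    (hmul : ∀ (a b : ℕ) (x y : B), x ∈ M a → y ∈ M b → x * y ∈ M (a + b))
    {α : Type*} (l : List α) (f : α → B) (wt : α → ℕ) (hf : ∀ p ∈ l, f p ∈ M (wt p)) :
    (l.map f).prod ∈ M (l.map wt).sum := by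
  induction l with
  | nil => simpa using h1
  | cons p l ih =>
    simp only [List.map_cons, List.prod_cons, List.sum_cons]
    exact hmul _ _ _ _ (hf p List.mem_cons_self) (ih fun q hq => hf q (List.mem_cons_of_mem _ hq))

end Graded

section ConstCoeff

variable {K : Type u} [CommRing K] {σ : Type w}

theorem constantCoeff_esymm_succ (ι : Type*) [Fintype ι] (k : ℕ) :
    constantCoeff (esymm ι K (k + 1)) = 0 := by
  rw [esymm, map_sum]
  apply Finset.sum_eq_zero
  intro t ht
  rw [map_prod]
  have hcard : t.card = k + 1 := (Finset.mem_powersetCard.1 ht).2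
  have hne : t.Nonempty := Finset.card_pos.1 (by omega)
  obtain ⟨i, hi⟩ := hne
  exact Finset.prod_eq_zero hi (by simp)

theorem constantCoeff_cN (N : ℕ) (D : MvPolynomial (σ × ℕ) K) :
    constantCoeff (cN N D) = constantCoeff D := by
  have h : (constantCoeff : MvPolynomial (σ × Fin N) K →+* K).comp
      (cN (K := K) (σ := σ) N).toRingHom = constantCoeff := by
    apply MvPolynomial.ringHom_ext
    · intro r
      simp [cN]
    · intro p
      simp only [RingHom.comp_apply, AlgHom.toRingHom_eq_coe, RingHom.coe_coe, cN, aeval_X,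
        constantCoeff_rename, constantCoeff_esymm_succ, constantCoeff_X]
  exact congrArg (fun φ : MvPolynomial (σ × ℕ) K →+* K => φ D) h

theorem mem_idealOfVars_pow_one_of_constantCoeff {ι : Type*} (q : MvPolynomial ι K)
    (hq : constantCoeff q = 0) : q ∈ idealOfVars ι K ^ 1 := by
  rw [mem_pow_idealOfVars_iff']
  intro x hx
  have hx0 : x = 0 := by
    have : Finsupp.degree x = 0 := by omega
    exact (Finsupp.degree_eq_zero_iff x).1 this
  rw [hx0]
  exact hq

end ConstCoeff

end Groth.Agent.Helper3.LambdaLib
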