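import Groth.Agent.Lib.Helper3.GamP

set_option autoImplicit false

namespace Groth.Agent.Helper3.LambdaLib

open LambdaRing MvPolynomial

universe u w v

attribute [local instance] polyLambdaOps

section MonIdeal

variable {B : Type v} [CommRing B] [LambdaOps B]

/-- the ideal generated by the monomials of weight at least `k` in `γ^1 x, …, γ^n x` -/
def MI (n : ℕ) (x : B) (k : ℕ) : Ideal B :=
  Ideal.span {m : B | ∃ e : Fin n → ℕ, k ≤ ∑ j : Fin n, ((j : ℕ) + 1) * e j ∧
    m = ∏ j : Fin n, gamma ((j : ℕ) + 1) x ^ e j}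

theorem MI_one_mem (n : ℕ) (x : B) : (1 : B) ∈ MI n x 0 :=
  Ideal.subset_span ⟨fun _ => 0, by simp, by simp⟩

theorem MI_anti (n : ℕ) (x : B) {k k' : ℕ} (h : k ≤ k') : MI n x k' ≤ MI n x k := by
  apply Ideal.span_mono
  rintro m ⟨e, he, rfl⟩
  exact ⟨e, le_trans h he, rfl⟩

theorem MI_mul (n : ℕ) (x : B) (a b : ℕ) (y y' : B) (hy : y ∈ MI n x a) (hy' : y' ∈ MI n x b) :
    y * y' ∈ MI n x (a + b) := by
  have h := Ideal.mul_mem_mul hy hy'
  unfold MI at h
  rw [Ideal.span_mul_span'] at h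
  refine (Ideal.span_le.2 ?_) h
  rintro _ ⟨m, ⟨e, he, rfl⟩, m', ⟨e', he', rfl⟩, rfl⟩
  apply Ideal.subset_span
  refine ⟨fun j => e j + e' j, ?_, ?_⟩
  · have : ∑ j : Fin n, ((j : ℕ) + 1) * (e j + e' j) =
        ∑ j : Fin n, ((j : ℕ) + 1) * e j + ∑ j : Fin n, ((j : ℕ) + 1) * e' j := by
      rw [← Finset.sum_add_distrib]
      apply Finset.sum_congr rfl
      intro j _
      ring
    rw [this]
    exact Nat.add_le_add he he'
  · show (∏ j : Fin n, gamma ((j : ℕ) + 1) x ^ e j) * (∏ j : Fin n, gamma ((j : ℕ) + 1) x ^ e' j) = _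
    rw [← Finset.prod_mul_distrib]
    apply Finset.prod_congr rfl
    intro j _
    rw [pow_add]

theorem gamma_mem_MI (n : ℕ) (x : B) (hγ : ∀ k : ℕ, n < k → gamma k x = 0) (i : ℕ) :
    gamma (i + 1) x ∈ MI n x (i + 1) := by
  classical
  by_cases hi : i < n
  · apply Ideal.subset_span
    refine ⟨fun j => if (⟨i, hi⟩ : Fin n) = j then 1 else 0, ?_, ?_⟩
    · simp
    · rw [Finset.prod_pow_boole]
      simp
  · rw [hγ (i + 1) (by omega)]
    exact Ideal.zero_mem _

end MonIdeal

section S8697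

variable {K : Type u} [CommRing K] [LambdaOps K] [BinomialRing K] (hKb : IsBinomial K)
  {B : Type v} [CommRing B] [LambdaOps B] [Algebra K B] (hB : IsSpecial B)
  (ε : B →ₐ[K] K) (hε : IsAugLambdaAlg K B ε)

omit [BinomialRing K] in
include hε in
theorem map_gamma_aug (k : ℕ) (y : B) : ε (gamma k y) = gamma k (ε y) := by
  unfold gamma
  split_ifs with h
  · exact map_one ε
  · rw [map_sum]
    apply Finset.sum_congr rfl
    intro j _
    rw [map_mul, map_natCast]
    congr 1
    split_ifs with hj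
    · exact map_zero ε
    · exact hε.map_lam j y

include hKb hB hε in
theorem gamma_mem_MI_of_aug (n : ℕ) (x : B) (hx : ε x = 0)
    (hγ : ∀ k : ℕ, n < k → gamma k x = 0)
    (hgen : Algebra.adjoin K (Set.range fun j : Fin n => gamma ((j : ℕ) + 1) x) = ⊤)
    (z : B) (hz : ε z = 0) (i : ℕ) : gamma i z ∈ MI n x i := by
  rcases Nat.eq_zero_or_pos i with rfl | hi
  · rw [gamma_zero_left]; exact MI_one_mem n x
  have hzr : z ∈ (aeval (R := K) fun j : Fin n => gamma ((j : ℕ) + 1) x).range := by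
    rw [← Algebra.adjoin_range_eq_range_aeval, hgen]
    trivial
  obtain ⟨p, hp⟩ := hzr
  have hzp : aeval (fun j : Fin n => gamma ((j : ℕ) + 1) x) p = z := hp
  subst hzp
  clear hp
  have hp0 : constantCoeff p = 0 := by
    have h1 := comp_aeval (R := K) (fun j : Fin n => gamma ((j : ℕ) + 1) x) ε
    have h2 : ε (aeval (fun j : Fin n => gamma ((j : ℕ) + 1) x) p) =
        aeval (fun j : Fin n => ε (gamma ((j : ℕ) + 1) x)) p := DFunLike.congr_fun h1 p
    have h3 : (fun j : Fin n => ε (gamma ((j : ℕ) + 1) x)) = fun _ => (0 : K) := by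
      funext j
      rw [map_gamma_aug ε hε, hx, gamma_zero_right, if_neg (Nat.succ_ne_zero _)]
    rw [hz, h3, aeval_zero'] at h2
    exact h2.symm
  let xs : Unit → B := fun _ => x
  set p' : MvPolynomial (Unit × ℕ) K := rename (fun j : Fin n => ((), (j : ℕ))) p with hp'
  have hev : evG (K := K) xs p' = aeval (fun j : Fin n => gamma ((j : ℕ) + 1) x) p := by
    rw [evG, hp', aeval_rename]
    rfl
  set zt : MvPolynomial (Unit × ℕ) K := thetaP p' with hzt
  have hztev : evU xs zt = aeval (fun j : Fin n => gamma ((j : ℕ) + 1) x) p := by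
    rw [hzt, evU_thetaP, hev]
  have hav1 : ∀ N, aN N zt ∈ augIdeal (K := K) (Unit × Fin N) := by
    intro N
    have h1 := mem_idealOfVars_pow_one_of_constantCoeff (cN N p')
      (by rw [constantCoeff_cN, hp', constantCoeff_rename, hp0])
    rw [← shift_aN_thetaP hKb, ← mem_augIdeal_pow_iff, pow_one] at h1
    exact h1
  obtain ⟨GF, hGF⟩ := exists_rep.{u, 0, v, u} zt
  set Gg : MvPolynomial (Unit × ℕ) K :=
    ∑ j ∈ Finset.range (i + 1), (((i - 1).choose (j - 1) : ℕ) : MvPolynomial _ K) *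
      (if j = 0 then 0 else GF j) with hGg
  have hav : ∀ N, aN N Gg ∈ augIdeal (K := K) (Unit × Fin N) ^ i := by
    intro N
    have e : aN N Gg = gamma i (aN N zt) :=
      evU_gammaPoly i (by omega) (fun j => (hGF j).2) _ (isSpecial_poly hKb _)
        (isLambdaAlg_poly _) (xN N)
    rw [e]
    exact gamma_mem_pow_of_mem_augIdeal _ hKb (hav1 N) i
  obtain ⟨D', hD', hw⟩ := exists_weight_rep hKb Gg i hav
  have e3 : evU xs Gg = gamma i (evU xs zt) :=
    evU_gammaPoly i (by omega) (fun j => (hGF j).1) B hB hε.isLambdaAlg xs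
  have e2 : gamma i (aeval (fun j : Fin n => gamma ((j : ℕ) + 1) x) p) = evG xs D' := by
    rw [← hztev, ← e3, ← hD', evU_thetaP]
  rw [e2, D'.as_sum, map_sum]
  apply Ideal.sum_mem
  intro d hd
  rw [evG, aeval_monomial]
  apply Ideal.mul_mem_left
  have h1 := prod_pow_mem_of_graded (MI n x) (MI_one_mem n x) (MI_mul n x) d.support
    (fun q : Unit × ℕ => gamma (q.2 + 1) (xs q.1)) (fun q => d q) (fun q => q.2 + 1)
    (fun q _ => gamma_mem_MI n x hγ q.2)
  have h2 : i ≤ ∑ q ∈ d.support, d q * (q.2 + 1) := by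
    have := hw d hd
    rw [Finsupp.weight_apply, Finsupp.sum] at this
    simpa [smul_eq_mul] using this
  exact MI_anti n x h2 h1

include hKb hB hε in
/-- the γ-filtration of `K[γ^1 x, …, γ^n x]` is the filtration by weight -/
theorem gammaFil_eq_MI (n : ℕ) (x : B) (hx : ε x = 0)
    (hγ : ∀ k : ℕ, n < k → gamma k x = 0)
    (hgen : Algebra.adjoin K (Set.range fun j : Fin n => gamma ((j : ℕ) + 1) x) = ⊤)
    (k : ℕ) : gammaFil (ε : B →+* K) k = MI n x k := by
  apply le_antisymm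
  · unfold gammaFil
    rw [Ideal.span_le]
    rintro y ⟨l, hl, hk, rfl⟩
    have h1 := list_prod_mem_of_graded (MI n x) (MI_one_mem n x) (MI_mul n x) l
      (fun p : ℕ × B => gamma p.1 p.2) Prod.fst
      (fun p hp => gamma_mem_MI_of_aug hKb hB ε hε n x hx hγ hgen p.2 (hl p hp) p.1)
    exact MI_anti n x hk h1
  · unfold MI
    rw [Ideal.span_le]
    rintro m ⟨e, he, rfl⟩
    show _ ∈ gammaFil (ε : B →+* K) k
    rw [mem_gammaFil_iff_gW]
    have h1 := prod_pow_mem_gW ε (Finset.univ : Finset (Fin n))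
      (fun j : Fin n => gamma ((j : ℕ) + 1) x) e (fun j => (j : ℕ) + 1)
      (fun j _ => gamma_mem_gW ε Set.univ (by simp) x hx ((j : ℕ) + 1))
    refine gW_mono ε Set.univ ?_ h1
    refine le_trans he (le_of_eq ?_)
    apply Finset.sum_congr rfl
    intro j _
    ring

end S8697

end Groth.Agent.Helper3.LambdaLib
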