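import Groth.Agent.Lib.Helper3.GamQ

set_option autoImplicit false

namespace Groth.Agent.Helper3.LambdaLib

open LambdaRing MvPolynomial

universe u w v

attribute [local instance] polyLambdaOps

section General

variable {K : Type u} [CommRing K] [LambdaOps K] [BinomialRing K] (hKb : IsBinomial K)
  {B : Type v} [CommRing B] [LambdaOps B] [Algebra K B] (hB : IsSpecial B)
  (ε : B →ₐ[K] K) (hε : IsAugLambdaAlg K B ε) {σ : Type w}

omit [BinomialRing K] in
include hε in
theorem aug_evG (xs : σ → B) (hxs : ∀ s, ε (xs s) = 0) (D : MvPolynomial (σ × ℕ) K) :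
    ε (evG xs D) = constantCoeff D := by
  have h1 := comp_aeval (R := K) (fun p : σ × ℕ => gamma (p.2 + 1) (xs p.1)) ε
  have h2 : ε (evG xs D) = aeval (fun p : σ × ℕ => ε (gamma (p.2 + 1) (xs p.1))) D :=
    DFunLike.congr_fun h1 D
  have h3 : (fun p : σ × ℕ => ε (gamma (p.2 + 1) (xs p.1))) = fun _ => (0 : K) := by
    funext p
    rw [map_gamma_aug ε hε, hxs, gamma_zero_right, if_neg (Nat.succ_ne_zero _)]
  rw [h2, h3, aeval_zero']
  rfl

include hKb hB hε in
/-- the `γ`-operations on polynomials without constant term in `γ`-operations of elements of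
augmentation zero respect any multiplicative filtration containing these `γ`-operations -/
theorem gamma_evG_mem_of_graded (xs : σ → B) (hxs : ∀ s, ε (xs s) = 0)
    (M : ℕ → Ideal B) (h1 : (1 : B) ∈ M 0)
    (hmul : ∀ (a b : ℕ) (x y : B), x ∈ M a → y ∈ M b → x * y ∈ M (a + b))
    (hanti : ∀ a b : ℕ, a ≤ b → M b ≤ M a)
    (hg : ∀ (s : σ) (j : ℕ), gamma (j + 1) (xs s) ∈ M (j + 1))
    (P' : MvPolynomial (σ × ℕ) K) (hP' : ε (evG xs P') = 0) (i : ℕ) :
    gamma i (evG xs P') ∈ M i := by
  rcases Nat.eq_zero_or_pos i with rfl | hi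
  · rw [gamma_zero_left]; exact h1
  have hp0 : constantCoeff P' = 0 := by rw [← aug_evG ε hε xs hxs]; exact hP'
  set zt : MvPolynomial (σ × ℕ) K := thetaP P' with hzt
  have hztev : evU xs zt = evG xs P' := by rw [hzt, evU_thetaP]
  have hav1 : ∀ N, aN N zt ∈ augIdeal (K := K) (σ × Fin N) := by
    intro N
    have h1 := mem_idealOfVars_pow_one_of_constantCoeff (cN N P')
      (by rw [constantCoeff_cN, hp0])
    rw [← shift_aN_thetaP hKb, ← mem_augIdeal_pow_iff, pow_one] at h1
    exact h1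
  obtain ⟨GF, hGF⟩ := exists_rep.{u, w, v, max u w} zt
  set Gg : MvPolynomial (σ × ℕ) K :=
    ∑ j ∈ Finset.range (i + 1), (((i - 1).choose (j - 1) : ℕ) : MvPolynomial _ K) *
      (if j = 0 then 0 else GF j) with hGg
  have hav : ∀ N, aN N Gg ∈ augIdeal (K := K) (σ × Fin N) ^ i := by
    intro N
    have e : aN N Gg = gamma i (aN N zt) :=
      evU_gammaPoly i (by omega) (fun j => (hGF j).2) _ (isSpecial_poly hKb _)
        (isLambdaAlg_poly _) (xN N)
    rw [e]
    exact gamma_mem_pow_of_mem_augIdeal _ hKb (hav1 N) i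
  obtain ⟨D', hD', hw⟩ := exists_weight_rep hKb Gg i hav
  have e3 : evU xs Gg = gamma i (evU xs zt) :=
    evU_gammaPoly i (by omega) (fun j => (hGF j).1) B hB hε.isLambdaAlg xs
  have e2 : gamma i (evG xs P') = evG xs D' := by
    rw [← hztev, ← e3, ← hD', evU_thetaP]
  rw [e2, D'.as_sum, map_sum]
  apply Ideal.sum_mem
  intro d hd
  rw [evG, aeval_monomial]
  apply Ideal.mul_mem_left
  have h2 := prod_pow_mem_of_graded M h1 hmul d.support
    (fun q : σ × ℕ => gamma (q.2 + 1) (xs q.1)) (fun q => d q) (fun q => q.2 + 1)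
    (fun q _ => hg q.1 q.2)
  have h3 : i ≤ ∑ q ∈ d.support, d q * (q.2 + 1) := by
    have := hw d hd
    rw [Finsupp.weight_apply, Finsupp.sum] at this
    simpa [smul_eq_mul] using this
  exact hanti _ _ h3 h2

end General

end Groth.Agent.Helper3.LambdaLib
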