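import Groth.Agent.Lib.Helper3.GamR

set_option autoImplicit false

namespace Groth.Agent.Helper3.LambdaLib

open LambdaRing MvPolynomial

universe u w v

attribute [local instance] polyLambdaOps

section FilBasics

variable {K : Type u} [CommRing K] {A : Type v} [CommRing A] [LambdaOps A] [Algebra K A]
  (ε : A →ₐ[K] K)

theorem gammaFil_anti {m n : ℕ} (h : m ≤ n) :
    gammaFil (ε : A →+* K) n ≤ gammaFil (ε : A →+* K) m := by
  intro y hy
  rw [mem_gammaFil_iff_gW] at hy ⊢
  exact gW_mono ε Set.univ h hy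

theorem mul_mem_gammaFil {m n : ℕ} {y y' : A} (hy : y ∈ gammaFil (ε : A →+* K) m)
    (hy' : y' ∈ gammaFil (ε : A →+* K) n) : y * y' ∈ gammaFil (ε : A →+* K) (m + n) := by
  rw [mem_gammaFil_iff_gW] at hy hy' ⊢
  exact mul_mem_gW ε Set.univ hy hy'

theorem gamma_mem_gammaFil {z : A} (hz : ε z = 0) (i : ℕ) :
    gamma i z ∈ gammaFil (ε : A →+* K) i := by
  rw [mem_gammaFil_iff_gW]
  exact gamma_mem_gW ε Set.univ (by simp) z hz i

theorem one_mem_gammaFil_zero : (1 : A) ∈ gammaFil (ε : A →+* K) 0 := by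
  rw [mem_gammaFil_iff_gW]
  exact one_mem_gW ε Set.univ

end FilBasics

section S8698

variable {K : Type u} [CommRing K] [LambdaOps K]
  {A : Type v} [CommRing A] [LambdaOps A] [Algebra K A]
  (εA : A →ₐ[K] K)
  {B : Type w} [CommRing B] [LambdaOps B] [Algebra K B] [Algebra A B] [IsScalarTower K A B]
  (hAB : IsLambdaAlg A B)
  (εB : B →ₐ[K] K) (hεAB : ∀ a : A, εB (algebraMap A B a) = εA a)

omit [LambdaOps K] [Algebra K A] [Algebra K B] [IsScalarTower K A B] in
include hAB in
theorem map_gamma_alg (k : ℕ) (a : A) :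
    algebraMap A B (gamma k a) = gamma k (algebraMap A B a) := by
  unfold gamma
  split_ifs with h
  · exact map_one _
  · rw [map_sum]
    apply Finset.sum_congr rfl
    intro j _
    rw [map_mul, map_natCast]
    congr 1
    split_ifs with hj
    · exact map_zero _
    · exact hAB j a

omit [LambdaOps K] in
include hAB hεAB in
theorem map_mem_gammaFil (m : ℕ) {a : A} (ha : a ∈ gammaFil (εA : A →+* K) m) :
    algebraMap A B a ∈ gammaFil (εB : B →+* K) m := by
  unfold gammaFil at ha
  induction ha using Submodule.span_induction with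
  | mem y hy =>
    obtain ⟨l, hl, hm, rfl⟩ := hy
    apply Ideal.subset_span
    refine ⟨l.map (fun p => (p.1, algebraMap A B p.2)), ?_, ?_, ?_⟩
    · intro q hq
      obtain ⟨p, hp, rfl⟩ := List.mem_map.1 hq
      show εB (algebraMap A B p.2) = 0
      rw [hεAB]
      exact hl p hp
    · rw [List.map_map]
      exact hm
    · rw [map_list_prod, List.map_map, List.map_map]
      congr 1
      apply List.map_congr_left
      intro p _
      exact map_gamma_alg hAB p.1 p.2
  | zero => rw [map_zero]; exact Ideal.zero_mem _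
  | add y y' _ _ hy hy' => rw [map_add]; exact Ideal.add_mem _ hy hy'
  | smul c y _ hy =>
    rw [smul_eq_mul, map_mul]
    exact Ideal.mul_mem_left _ _ hy

/-- the right hand side of the description of the γ-filtration of a free λ-ring over `A` -/
def NI (x : B) (k : ℕ) : Ideal B :=
  Ideal.span {b : B | ∃ (e : ℕ →₀ ℕ) (a : A),
    a ∈ gammaFil (εA : A →+* K) (k - e.sum fun j n => (j + 1) * n) ∧
    b = algebraMap A B a * e.prod fun j n => gamma (j + 1) x ^ n}

omit [LambdaOps K] [Algebra K B] [IsScalarTower K A B] in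
theorem NI_one_mem (x : B) : (1 : B) ∈ NI εA x 0 :=
  Ideal.subset_span ⟨0, 1, by simpa using one_mem_gammaFil_zero εA, by simp⟩

omit [LambdaOps K] [Algebra K B] [IsScalarTower K A B] in
theorem NI_anti (x : B) (k k' : ℕ) (h : k ≤ k') : NI εA x k' ≤ NI εA x k := by
  apply Ideal.span_mono
  rintro b ⟨e, a, ha, rfl⟩
  exact ⟨e, a, gammaFil_anti εA (by omega) ha, rfl⟩

omit [LambdaOps K] [Algebra K B] [IsScalarTower K A B] in
theorem NI_mul (x : B) (k k' : ℕ) (y y' : B) (hy : y ∈ NI εA x k) (hy' : y' ∈ NI εA x k') :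
    y * y' ∈ NI εA x (k + k') := by
  have h := Ideal.mul_mem_mul hy hy'
  unfold NI at h
  rw [Ideal.span_mul_span'] at h
  refine (Ideal.span_le.2 ?_) h
  rintro _ ⟨m, ⟨e, a, ha, rfl⟩, m', ⟨e', a', ha', rfl⟩, rfl⟩
  apply Ideal.subset_span
  refine ⟨e + e', a * a', ?_, ?_⟩
  · have hs : ((e + e').sum fun j n => (j + 1) * n) =
        (e.sum fun j n => (j + 1) * n) + (e'.sum fun j n => (j + 1) * n) := by
      apply Finsupp.sum_add_index'
      · intro j; simp
      · intro j n m; ring
    rw [hs]
    exact gammaFil_anti εA (by omega) (mul_mem_gammaFil εA ha ha')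
  · have hp : ((e + e').prod fun j n => gamma (j + 1) x ^ n) =
        (e.prod fun j n => gamma (j + 1) x ^ n) * (e'.prod fun j n => gamma (j + 1) x ^ n) := by
      apply Finsupp.prod_add_index'
      · intro j; simp
      · intro j n m; rw [pow_add]
    rw [hp, map_mul]
    ring

end S8698

end Groth.Agent.Helper3.LambdaLib
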