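import Groth.Agent.Lib.Helper3.GamS

set_option autoImplicit false

namespace Groth.Agent.Helper3.LambdaLib

open LambdaRing MvPolynomial

universe u w v

attribute [local instance] polyLambdaOps

section S8698

variable {K : Type u} [CommRing K] [LambdaOps K] [BinomialRing K] (hKb : IsBinomial K)
  {A : Type v} [CommRing A] [LambdaOps A] [Algebra K A]
  (εA : A →ₐ[K] K)
  {B : Type w} [CommRing B] [LambdaOps B] [Algebra K B] [Algebra A B] [IsScalarTower K A B]
  (hB : IsSpecial B) (hAB : IsLambdaAlg A B)
  (εB : B →ₐ[K] K) (hεB : IsAugLambdaAlg K B εB) (hεAB : ∀ a : A, εB (algebraMap A B a) = εA a)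

/-- the family `x`, `a` (`a ∈ A` of augmentation zero) of elements of `B` -/
def xsOpt (x : B) : Option {a : A // εA a = 0} → B :=
  fun s => Option.elim s x (fun a => algebraMap A B a.1)

omit [LambdaOps K] [BinomialRing K] [LambdaOps A] [LambdaOps B] [IsScalarTower K A B] in
include hεAB in
theorem aug_xsOpt (x : B) (hx : εB x = 0) (s : Option {a : A // εA a = 0}) :
    εB (xsOpt εA x s) = 0 := by
  rcases s with _ | a
  · exact hx
  · show εB (algebraMap A B a.1) = 0
    rw [hεAB]
    exact a.2

omit [LambdaOps K] [BinomialRing K] [Algebra K B] [IsScalarTower K A B] in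
include hAB in
theorem gamma_xsOpt_mem_NI (x : B) (s : Option {a : A // εA a = 0}) (j : ℕ) :
    gamma (j + 1) (xsOpt εA x s) ∈ NI εA x (j + 1) := by
  rcases s with _ | a
  · apply Ideal.subset_span
    refine ⟨Finsupp.single j 1, 1, ?_, ?_⟩
    · rw [Finsupp.sum_single_index (by simp)]
      simpa using one_mem_gammaFil_zero εA
    · rw [Finsupp.prod_single_index (by simp), map_one, one_mul, pow_one]
      rfl
  · apply Ideal.subset_span
    refine ⟨0, gamma (j + 1) a.1, ?_, ?_⟩
    · simpa using gamma_mem_gammaFil εA a.2 (j + 1)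
    · rw [Finsupp.prod_zero_index, mul_one, map_gamma_alg hAB]
      rfl

omit [BinomialRing K] in
theorem evG_xsOpt_surjective (x : B)
    (hgen : Algebra.adjoin A (Set.range fun j : ℕ => gamma (j + 1) x) = ⊤) :
    Function.Surjective (evG (K := K) (xsOpt εA x)) := by
  intro b
  have hb : b ∈ Algebra.adjoin A (Set.range fun j : ℕ => gamma (j + 1) x) := by
    rw [hgen]; trivial
  have key : b ∈ (evG (K := K) (xsOpt εA x)).range := by
    induction hb using Algebra.adjoin_induction with
    | mem y hy =>
      obtain ⟨j, rfl⟩ := hy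
      refine ⟨X (none, j), ?_⟩
      simp [evG, xsOpt]
    | algebraMap a =>
      have ha' : εA (a - algebraMap K A (εA a)) = 0 := by
        rw [map_sub, AlgHom.commutes]; simp
      have e : algebraMap A B a = algebraMap K B (εA a) +
          algebraMap A B (a - algebraMap K A (εA a)) := by
        rw [map_sub, ← IsScalarTower.algebraMap_apply]; ring
      rw [e]
      refine Subalgebra.add_mem _ (Subalgebra.algebraMap_mem _ _) ?_
      refine ⟨X (some ⟨a - algebraMap K A (εA a), ha'⟩, 0), ?_⟩
      have h1 : gamma 1 (algebraMap A B (a - algebraMap K A (εA a))) =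
          algebraMap A B (a - algebraMap K A (εA a)) := by
        simp [gamma, Finset.sum_range_succ, LambdaOps.lam_one]
      simp only [evG, AlgHom.toRingHom_eq_coe, RingHom.coe_coe, aeval_X, xsOpt, Option.elim,
        zero_add]
      exact h1
    | add y y' _ _ hy hy' => exact Subalgebra.add_mem _ hy hy'
    | mul y y' _ _ hy hy' => exact Subalgebra.mul_mem _ hy hy'
  obtain ⟨P, hP⟩ := key
  exact ⟨P, hP⟩

include hKb hB hAB hεB hεAB in
theorem gammaFil_eq_NI (x : B) (hx : εB x = 0)
    (hgen : Algebra.adjoin A (Set.range fun j : ℕ => gamma (j + 1) x) = ⊤) (k : ℕ) :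
    gammaFil (εB : B →+* K) k = NI εA x k := by
  apply le_antisymm
  · unfold gammaFil
    rw [Ideal.span_le]
    rintro y ⟨l, hl, hk, rfl⟩
    have key : ∀ (z : B), εB z = 0 → ∀ i, gamma i z ∈ NI εA x i := by
      intro z hz i
      obtain ⟨P', rfl⟩ := evG_xsOpt_surjective (K := K) εA x hgen z
      exact gamma_evG_mem_of_graded hKb hB εB hεB (xsOpt εA x) (aug_xsOpt εA εB hεAB x hx)
        (NI εA x) (NI_one_mem εA x) (NI_mul εA x) (NI_anti εA x)
        (gamma_xsOpt_mem_NI εA hAB x) P' hz i
    have h1 := list_prod_mem_of_graded (NI εA x) (NI_one_mem εA x) (NI_mul εA x) l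
      (fun p : ℕ × B => gamma p.1 p.2) Prod.fst (fun p hp => key p.2 (hl p hp) p.1)
    exact NI_anti εA x _ _ hk h1
  · unfold NI
    rw [Ideal.span_le]
    rintro b ⟨e, a, ha, rfl⟩
    show _ ∈ gammaFil (εB : B →+* K) k
    have h1 := map_mem_gammaFil εA hAB εB hεAB _ ha
    have h2 : (e.prod fun j n => gamma (j + 1) x ^ n) ∈
        gammaFil (εB : B →+* K) (e.sum fun j n => (j + 1) * n) := by
      rw [mem_gammaFil_iff_gW]
      have h3 := prod_pow_mem_gW εB e.support (fun j : ℕ => gamma (j + 1) x) (fun j => e j)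
        (fun j => j + 1) (fun j _ => gamma_mem_gW εB Set.univ (by simp) x hx (j + 1))
      refine gW_mono εB Set.univ (le_of_eq ?_) h3
      rw [Finsupp.sum]
      apply Finset.sum_congr rfl
      intro j _
      ring
    exact gammaFil_anti εB (by omega) (mul_mem_gammaFil εB h1 h2)

end S8698

end Groth.Agent.Helper3.LambdaLib
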