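import Groth.Agent.Lib.Helper3.GamT

set_option autoImplicit false

namespace Groth.Agent.Helper3.LambdaLib

open LambdaRing MvPolynomial

universe u w w' v

attribute [local instance] polyLambdaOps

section BlockAvatar

variable {K : Type u} [CommRing K] [LambdaOps K] [BinomialRing K] (hKb : IsBinomial K)
  {σ : Type w} {τ : Type w'} (sz : σ → ℕ) (emb : ∀ s : σ, Fin (sz s) → τ)

/-- the element `Σ_j T_{emb s j} - sz s` of the avatar ring -/
noncomputable def xG (s : σ) : MvPolynomial τ K :=
  ∑ j : Fin (sz s), X (emb s j) - ((sz s : ℕ) : MvPolynomial τ K)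

/-- the block avatar map -/
noncomputable def aG : MvPolynomial (σ × ℕ) K →ₐ[K] MvPolynomial τ K :=
  evU (xG sz emb)

/-- the polynomial block avatar: `Y_{s,i} ↦ e_{i+1}(t_{emb s ·})` -/
noncomputable def cG : MvPolynomial (σ × ℕ) K →ₐ[K] MvPolynomial τ K :=
  aeval (fun p : σ × ℕ => rename (emb p.1) (esymm (Fin (sz p.1)) K (p.2 + 1)))

include hKb

theorem gamma_xG (s : σ) (k : ℕ) :
    gamma k (xG (K := K) sz emb s) =
      ∑ t ∈ (Finset.univ : Finset (Fin (sz s))).powersetCard k,
        ∏ i ∈ t, ((X (emb s i) : MvPolynomial τ K) - 1) := by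
  have h1 : ∀ k : ℕ, 2 ≤ k → LambdaOps.lam k (1 : MvPolynomial τ K) = 0 := by
    intro k hk
    have := lam_poly_C (K := K) τ k 1
    rw [(isSpecial_of_isBinomial hKb).lam_one_eq_zero k hk, map_zero, map_one] at this
    exact this
  exact gamma_sum_sub_card h1 (sz s) (fun i => (X (emb s i) : MvPolynomial τ K))
    (fun i j hj => lam_poly_X τ (isSpecial_of_isBinomial hKb).lam_one_eq_zero (emb s i) j hj) k

theorem shift_aG_thetaP (D : MvPolynomial (σ × ℕ) K) :
    shiftE τ (aG sz emb (thetaP D)) = cG sz emb D := by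
  have h : ((shiftE (K := K) τ).toAlgHom.comp ((aG sz emb).comp thetaP)) = cG sz emb := by
    apply MvPolynomial.algHom_ext
    intro p
    simp only [AlgHom.comp_apply]
    rw [thetaP, aeval_X, aG, evU_Gm, gamma_xG hKb, cG, aeval_X]
    show shiftE τ _ = _
    rw [map_sum, esymm, map_sum]
    apply Finset.sum_congr rfl
    intro t _
    rw [map_prod, map_prod]
    apply Finset.prod_congr rfl
    intro i _
    rw [map_sub, map_one, shiftE_X, rename_X, add_sub_cancel_right]
  exact DFunLike.congr_fun h D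

omit [LambdaOps K] [BinomialRing K] hKb in
theorem prod_sub_one_mem_pow' (s : σ) (t : Finset (Fin (sz s))) :
    ∏ i ∈ t, ((X (emb s i) : MvPolynomial τ K) - 1) ∈ augIdeal (K := K) τ ^ t.card := by
  classical
  induction t using Finset.induction_on with
  | empty => simp
  | insert a t ha ih =>
    rw [Finset.prod_insert ha, Finset.card_insert_of_notMem ha, pow_succ']
    exact Ideal.mul_mem_mul (Ideal.subset_span ⟨emb s a, rfl⟩) ih

theorem gamma_xG_mem (s : σ) (k : ℕ) :
    gamma k (xG (K := K) sz emb s) ∈ augIdeal (K := K) τ ^ k := by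
  rw [gamma_xG hKb]
  apply Ideal.sum_mem
  intro t ht
  have := prod_sub_one_mem_pow' (K := K) sz emb s t
  rwa [(Finset.mem_powersetCard.1 ht).2] at this

theorem gamma_xG_eq_zero (s : σ) (k : ℕ) (hk : sz s < k) :
    gamma k (xG (K := K) sz emb s) = 0 := by
  rw [gamma_xG hKb, Finset.powersetCard_eq_empty.2 (by simpa using hk), Finset.sum_empty]

theorem aG_mem_of_mem_Wt (n : ℕ) (zt : MvPolynomial (σ × ℕ) K)
    (hz : zt ∈ Wt (K := K) (σ := σ) n) : aG sz emb zt ∈ augIdeal (K := K) τ ^ n := by
  unfold Wt at hz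
  induction hz using Submodule.span_induction with
  | mem y hy =>
    obtain ⟨l, hn, rfl⟩ := hy
    refine Ideal.pow_le_pow_right hn ?_
    clear hn
    induction l with
    | nil => simp
    | cons p l ih =>
      simp only [List.map_cons, List.prod_cons, List.sum_cons, map_mul, pow_add]
      refine Ideal.mul_mem_mul ?_ ih
      rw [aG, evU_GmP]
      exact gamma_xG_mem hKb sz emb p.2 p.1
  | zero => rw [map_zero]; exact Ideal.zero_mem _
  | add y y' _ _ hy hy' => rw [map_add]; exact Ideal.add_mem _ hy hy'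
  | smul c y _ hy =>
    rw [map_smul, Algebra.smul_def]
    exact Ideal.mul_mem_left _ _ hy

end BlockAvatar

end Groth.Agent.Helper3.LambdaLib
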