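import Groth.Agent.Lib.Helper3.GamU

set_option autoImplicit false

namespace Groth.Agent.Helper3.LambdaLib

open LambdaRing MvPolynomial

universe u w w' v

section Trunc

variable (R : Type u) [CommRing R]

/-- elementary symmetric functions: a first block of `d` variables, the other blocks of `M` -/
noncomputable def truncFam (ρ : Type w) (d M : ℕ) :
    Fin d ⊕ ρ × Fin M → MvPolynomial (Fin d ⊕ ρ × Fin M) R :=
  Sum.elim (fun k : Fin d => rename Sum.inl (esymm (Fin d) R ((k : ℕ) + 1)))
    (fun p => rename Sum.inr (esFam R ρ M p))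

theorem algInd_truncFam (ρ : Type w) [Finite ρ] (d M : ℕ) :
    AlgebraicIndependent R (truncFam R ρ d M) := by
  have hy := algInd_esymm_single (MvPolynomial (ρ × Fin M) R) d
  have h := algInd_esFam R ρ M
  have h3 := AlgebraicIndependent.sumElim_comp h hy
  set g : MvPolynomial (Fin d) (MvPolynomial (ρ × Fin M) R) ≃ₐ[R]
      MvPolynomial (Fin d ⊕ ρ × Fin M) R :=
    (sumAlgEquiv R (Fin d) (ρ × Fin M)).symm with hg
  have h4 := h3.map' (f := g.toAlgHom) g.injective
  have hfun : truncFam R ρ d M = (g.toAlgHom ∘ Sum.elim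
      (fun k : Fin d => esymm (Fin d) (MvPolynomial (ρ × Fin M) R) ((k : ℕ) + 1))
      (algebraMap (MvPolynomial (ρ × Fin M) R)
        (MvPolynomial (Fin d) (MvPolynomial (ρ × Fin M) R)) ∘ esFam R ρ M)) := by
    funext p
    rcases p with k | p
    · show rename Sum.inl (esymm (Fin d) R ((k : ℕ) + 1)) =
        g (esymm (Fin d) (MvPolynomial (ρ × Fin M) R) ((k : ℕ) + 1))
      have this : sumAlgEquiv R (Fin d) (ρ × Fin M)
          (rename Sum.inl (esymm (Fin d) R ((k : ℕ) + 1))) =
          mapAlgHom (Algebra.ofId R (MvPolynomial (ρ × Fin M) R))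
            (esymm (Fin d) R ((k : ℕ) + 1)) :=
        DFunLike.congr_fun (sumAlgEquiv_comp_rename_inl (R := R) (S₁ := Fin d) (S₂ := ρ × Fin M))
          (esymm (Fin d) R ((k : ℕ) + 1))
      have e1 : esymm (Fin d) (MvPolynomial (ρ × Fin M) R) ((k : ℕ) + 1) =
          sumAlgEquiv R (Fin d) (ρ × Fin M) (rename Sum.inl (esymm (Fin d) R ((k : ℕ) + 1))) := by
        rw [this, mapAlgHom_apply, map_esymm]
      rw [e1, hg, AlgEquiv.symm_apply_apply]
    · show rename Sum.inr (esFam R ρ M p) =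
        g (algebraMap (MvPolynomial (ρ × Fin M) R)
          (MvPolynomial (Fin d) (MvPolynomial (ρ × Fin M) R)) (esFam R ρ M p))
      have this : sumAlgEquiv R (Fin d) (ρ × Fin M) (rename Sum.inr (esFam R ρ M p)) =
          IsScalarTower.toAlgHom R (MvPolynomial (ρ × Fin M) R)
            (MvPolynomial (Fin d) (MvPolynomial (ρ × Fin M) R)) (esFam R ρ M p) :=
        DFunLike.congr_fun (sumAlgEquiv_comp_rename_inr (R := R) (S₁ := Fin d) (S₂ := ρ × Fin M))
          (esFam R ρ M p)
      have e1 : algebraMap (MvPolynomial (ρ × Fin M) R)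
          (MvPolynomial (Fin d) (MvPolynomial (ρ × Fin M) R)) (esFam R ρ M p) =
          sumAlgEquiv R (Fin d) (ρ × Fin M) (rename Sum.inr (esFam R ρ M p)) := by
        rw [this]
        rfl
      rw [e1, hg, AlgEquiv.symm_apply_apply]
  rw [hfun]
  exact h4

theorem truncFam_isWeightedHomogeneous (ρ : Type w) (d M : ℕ) (p : Fin d ⊕ ρ × Fin M) :
    IsWeightedHomogeneous (fun _ : Fin d ⊕ ρ × Fin M => 1) (truncFam R ρ d M p)
      (Sum.elim (fun k : Fin d => (k : ℕ) + 1) (fun q : ρ × Fin M => (q.2 : ℕ) + 1) p) := by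
  rcases p with k | q
  · have h := isWeightedHomogeneous_aeval_esymm (R := R) (I := Fin d)
      (fun _ : Fin d ⊕ ρ × Fin M => (1 : ℕ))
      (fun s => (X (Sum.inl s) : MvPolynomial (Fin d ⊕ ρ × Fin M) R)) 1
      (fun s => isWeightedHomogeneous_X R _ _) ((k : ℕ) + 1)
    rw [smul_eq_mul, mul_one] at h
    show IsWeightedHomogeneous _ (rename Sum.inl (esymm (Fin d) R ((k : ℕ) + 1))) ((k : ℕ) + 1)
    rw [rename_eq_aeval]
    exact h
  · have h := isWeightedHomogeneous_aeval_esymm (R := R) (I := Fin M)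
      (fun _ : Fin d ⊕ ρ × Fin M => (1 : ℕ))
      (fun s => (X (Sum.inr (q.1, s)) : MvPolynomial (Fin d ⊕ ρ × Fin M) R)) 1
      (fun s => isWeightedHomogeneous_X R _ _) ((q.2 : ℕ) + 1)
    rw [smul_eq_mul, mul_one] at h
    show IsWeightedHomogeneous _ (rename Sum.inr (esFam R ρ M q)) ((q.2 : ℕ) + 1)
    unfold esFam
    rw [rename_rename, rename_eq_aeval]
    exact h

end Trunc

section TruncAvatar

variable {K : Type u} [CommRing K] {σ' : Type w}

/-- block sizes: `d` for the distinguished generator, `M` for the others -/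
def szT (d M : ℕ) : Option σ' → ℕ
  | none => d
  | some _ => M

/-- the blocks of variables -/
def embT (d M : ℕ) : ∀ s : Option σ', Fin (szT (σ' := σ') d M s) → Fin d ⊕ σ' × Fin M
  | none => fun j => Sum.inl j
  | some s => fun j => Sum.inr (s, j)

/-- the variables allowed in rank `d`: all but `Y(none, k)`, `k ≥ d` -/
def keepT (d : ℕ) : Set (Option σ' × ℕ) := {p | p.1 = none → p.2 < d}

theorem weight_of_cG_trunc (d : ℕ) (E : MvPolynomial (Option σ' × ℕ) K)
    (hE : E ∈ supported K (keepT (σ' := σ') d)) (n : ℕ)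
    (h : ∀ M, cG (szT d M) (embT d M) E ∈ idealOfVars (Fin d ⊕ σ' × Fin M) K ^ n) :
    ∀ m ∈ E.support, n ≤ Finsupp.weight (fun p : Option σ' × ℕ => p.2 + 1) m := by
  classical
  set S : Finset σ' := (E.vars.image Prod.fst).eraseNone with hS
  set M := E.vars.sup Prod.snd + 1 with hMdef
  let ι : Fin d ⊕ (↥S) × Fin M → Option σ' × ℕ :=
    Sum.elim (fun k => (none, (k : ℕ))) (fun p => (some p.1.1, (p.2 : ℕ)))
  have hι : Function.Injective ι := by
    rintro (⟨k, hk⟩ | ⟨⟨a, ha⟩, ⟨k, hk⟩⟩) (⟨l, hl⟩ | ⟨⟨b, hb⟩, ⟨l, hl⟩⟩) hab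
    · simp only [ι, Sum.elim_inl, Prod.mk.injEq, true_and] at hab
      subst hab
      rfl
    · simp [ι] at hab
    · simp [ι] at hab
    · simp only [ι, Sum.elim_inr, Prod.mk.injEq, Option.some.injEq] at hab
      obtain ⟨rfl, rfl⟩ := hab
      rfl
  have hvars : (E.vars : Set (Option σ' × ℕ)) ⊆ Set.range ι := by
    intro p hp
    rcases p with ⟨_ | s, k⟩
    · have hk : k < d := (mem_supported.1 hE) hp rfl
      exact ⟨Sum.inl ⟨k, hk⟩, rfl⟩
    · have h1 : s ∈ S := by
        rw [hS, Finset.mem_eraseNone]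
        exact Finset.mem_image.2 ⟨(some s, k), hp, rfl⟩
      have h2 : k ≤ E.vars.sup Prod.snd := Finset.le_sup (f := Prod.snd) hp
      exact ⟨Sum.inr (⟨s, h1⟩, ⟨k, by omega⟩), rfl⟩
  obtain ⟨q, hq⟩ := exists_rename_eq_of_vars_subset_range E ι hι hvars
  let j : Fin d ⊕ (↥S) × Fin M → Fin d ⊕ σ' × Fin M := Sum.map id (Prod.map Subtype.val id)
  have hj : Function.Injective j :=
    Sum.map_injective.2 ⟨Function.injective_id,
      Function.Injective.prodMap Subtype.val_injective Function.injective_id⟩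
  have hc : cG (K := K) (szT d M) (embT d M) E = rename j (aeval (truncFam K (↥S) d M) q) := by
    rw [← hq, cG, aeval_rename]
    have h1 := comp_aeval (R := K) (truncFam K (↥S) d M)
      (rename j : MvPolynomial (Fin d ⊕ (↥S) × Fin M) K →ₐ[K] MvPolynomial (Fin d ⊕ σ' × Fin M) K)
    have h2 : rename j (aeval (truncFam K (↥S) d M) q) =
        aeval (fun i => rename j (truncFam K (↥S) d M i)) q :=
      DFunLike.congr_fun h1 q
    rw [h2]
    have hfun : ((fun p : Option σ' × ℕ => rename (embT (σ' := σ') d M p.1)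
        (esymm (Fin (szT (σ' := σ') d M p.1)) K (p.2 + 1))) ∘ ι) =
        fun i => rename j (truncFam K (↥S) d M i) := by
      funext p
      rcases p with k | ⟨s, k⟩
      · simp only [Function.comp_apply, ι, truncFam, Sum.elim_inl, rename_rename]
        rfl
      · simp only [Function.comp_apply, ι, truncFam, Sum.elim_inr, esFam, rename_rename]
        rfl
    rw [hfun]
  have hM := h M
  rw [hc, mem_pow_idealOfVars_iff] at hM
  have h2 : ∀ x ∈ (aeval (truncFam K (↥S) d M) q).support,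
      n ≤ Finsupp.weight (fun _ : Fin d ⊕ (↥S) × Fin M => 1) x := by
    intro x hx
    have hx' : Finsupp.mapDomain j x ∈ (rename j (aeval (truncFam K (↥S) d M) q)).support := by
      rw [support_rename_of_injective hj]
      exact Finset.mem_image_of_mem _ hx
    have h3 := hM _ hx'
    rw [Finsupp.degree_mapDomain] at h3
    have h4 := DFunLike.congr_fun
      (Finsupp.degree_eq_weight_one (R := ℕ) (σ := Fin d ⊕ (↥S) × Fin M)) x
    rw [h4] at h3
    exact h3
  have hinj : Function.Injective (aeval (truncFam K (↥S) d M) :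
      MvPolynomial (Fin d ⊕ (↥S) × Fin M) K →ₐ[K] MvPolynomial (Fin d ⊕ (↥S) × Fin M) K) :=
    algInd_truncFam K (↥S) d M
  have h3 := le_weight_of_aeval
    (Sum.elim (fun k : Fin d => (k : ℕ) + 1) (fun p : (↥S) × Fin M => (p.2 : ℕ) + 1))
    (fun _ => 1) (truncFam K (↥S) d M) (truncFam_isWeightedHomogeneous K (↥S) d M) hinj q n h2
  intro m hm
  rw [← hq, support_rename_of_injective hι] at hm
  obtain ⟨d0, hd0, rfl⟩ := Finset.mem_image.1 hm
  have h4 := h3 d0 hd0
  have h5 : Finsupp.weight (fun p : Option σ' × ℕ => p.2 + 1) (Finsupp.mapDomain ι d0) =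
      Finsupp.weight
        (Sum.elim (fun k : Fin d => (k : ℕ) + 1) (fun p : (↥S) × Fin M => (p.2 : ℕ) + 1)) d0 := by
    rw [Finsupp.weight_apply, Finsupp.weight_apply, Finsupp.sum_mapDomain_index]
    · apply Finsupp.sum_congr
      intro i _
      rcases i with k | ⟨s, k⟩ <;> rfl
    · intro i; simp
    · intro i m₁ m₂; simp [add_mul]
  rw [h5]
  exact h4

end TruncAvatar

end Groth.Agent.Helper3.LambdaLib
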