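import Groth.Agent.Lib.Helper3.GamV

set_option autoImplicit false

namespace Groth.Agent.Helper3.LambdaLib

open LambdaRing MvPolynomial

universe u w w' v

attribute [local instance] polyLambdaOps

section KillHi

variable {K : Type u} [CommRing K] {σ' : Type w}

/-- the substitution killing the coordinates `Y(none, k)`, `k ≥ d` -/
noncomputable def killFunHi (d : ℕ) : Option σ' × ℕ → MvPolynomial (Option σ' × ℕ) K
  | (none, k) => if d ≤ k then 0 else X (none, k)
  | (some s, k) => X (some s, k)

/-- kill the coordinates `Y(none, k)`, `k ≥ d` -/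
noncomputable def killHi (d : ℕ) :
    MvPolynomial (Option σ' × ℕ) K →ₐ[K] MvPolynomial (Option σ' × ℕ) K :=
  aeval (killFunHi d)

theorem killFunHi_none (d k : ℕ) :
    killFunHi (K := K) (σ' := σ') d (none, k) = if d ≤ k then 0 else X (none, k) := rfl

theorem killFunHi_some (d : ℕ) (s : σ') (k : ℕ) :
    killFunHi (K := K) (σ' := σ') d (some s, k) = X (some s, k) := rfl

theorem killFunHi_mem (d : ℕ) (p : Option σ' × ℕ) :
    killFunHi (K := K) d p ∈ supported K (keepT (σ' := σ') d) := by
  rcases p with ⟨_ | s, k⟩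
  · rw [killFunHi_none]
    split_ifs with h
    · exact Subalgebra.zero_mem _
    · rw [supported_eq_adjoin_X]
      exact Algebra.subset_adjoin ⟨(none, k), fun _ => by simpa using h, rfl⟩
  · rw [killFunHi_some, supported_eq_adjoin_X]
    exact Algebra.subset_adjoin ⟨(some s, k), fun h => by simp at h, rfl⟩

theorem killHi_mem (d : ℕ) (E : MvPolynomial (Option σ' × ℕ) K) :
    killHi d E ∈ supported K (keepT (σ' := σ') d) := by
  induction E using MvPolynomial.induction_on with
  | C c =>
    rw [killHi, aeval_C]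
    exact Subalgebra.algebraMap_mem _ _
  | add p q hp hq =>
    rw [map_add]
    exact Subalgebra.add_mem _ hp hq
  | mul_X p i hp =>
    rw [map_mul]
    refine Subalgebra.mul_mem _ hp ?_
    rw [killHi, aeval_X]
    exact killFunHi_mem d i

theorem evG_killHi {A : Type v} [CommRing A] [LambdaOps A] [Algebra K A] (xs : Option σ' → A)
    (d : ℕ) (hx : ∀ k, d < k → gamma k (xs none) = 0) (E : MvPolynomial (Option σ' × ℕ) K) :
    evG xs (killHi d E) = evG xs E := by
  have h : (evG (K := K) xs).comp (killHi d) = evG xs := by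
    apply MvPolynomial.algHom_ext
    intro p
    rcases p with ⟨_ | s, k⟩
    · simp only [AlgHom.comp_apply, killHi, aeval_X, killFunHi_none]
      split_ifs with h
      · rw [map_zero, evG, aeval_X]
        exact (hx (k + 1) (by omega)).symm
      · rfl
    · simp only [AlgHom.comp_apply, killHi, aeval_X, killFunHi_some]
  exact DFunLike.congr_fun h E

theorem cG_killHi (d M : ℕ) (E : MvPolynomial (Option σ' × ℕ) K) :
    cG (K := K) (szT (σ' := σ') d M) (embT d M) (killHi d E) = cG (szT d M) (embT d M) E := by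
  have h : (cG (K := K) (szT (σ' := σ') d M) (embT d M)).comp (killHi d) =
      cG (szT d M) (embT d M) := by
    apply MvPolynomial.algHom_ext
    intro p
    rcases p with ⟨_ | s, k⟩
    · simp only [AlgHom.comp_apply, killHi, aeval_X, killFunHi_none]
      split_ifs with h
      · rw [map_zero, cG, aeval_X]
        show 0 = rename _ (esymm (Fin d) K (k + 1))
        rw [esymm, Finset.powersetCard_eq_empty.2 (by simpa using Nat.lt_succ_of_le h),
          Finset.sum_empty, map_zero]
      · rfl
    · simp only [AlgHom.comp_apply, killHi, aeval_X, killFunHi_some]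
  exact DFunLike.congr_fun h E

theorem X_dvd_killHi_sub (d : ℕ) (E : MvPolynomial (Option σ' × ℕ) K) :
    (X (none, d) : MvPolynomial (Option σ' × ℕ) K) ∣ killHi (d + 1) E - killHi d E := by
  set I : Ideal (MvPolynomial (Option σ' × ℕ) K) :=
    Ideal.span {(X (none, d) : MvPolynomial (Option σ' × ℕ) K)} with hI
  have h : (Ideal.Quotient.mkₐ K I).comp (killHi (σ' := σ') (d + 1)) =
      (Ideal.Quotient.mkₐ K I).comp (killHi d) := by
    apply MvPolynomial.algHom_ext
    intro p
    rcases p with ⟨_ | s, k⟩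
    · simp only [AlgHom.comp_apply, killHi, aeval_X, killFunHi_none]
      by_cases h1 : d + 1 ≤ k
      · rw [if_pos h1, if_pos (by omega)]
      · rw [if_neg h1]
        by_cases h2 : d ≤ k
        · rw [if_pos h2, map_zero]
          have hk : k = d := by omega
          rw [hk]
          exact (Ideal.Quotient.eq_zero_iff_mem.2 (Ideal.subset_span rfl))
        · rw [if_neg h2]
    · simp only [AlgHom.comp_apply, killHi, aeval_X, killFunHi_some]
  have h2 := DFunLike.congr_fun h E
  simp only [AlgHom.comp_apply, Ideal.Quotient.mkₐ_eq_mk] at h2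
  rw [Ideal.Quotient.eq, hI, Ideal.mem_span_singleton] at h2
  exact h2

end KillHi

section Main

variable {K : Type u} [CommRing K] [LambdaOps K] [BinomialRing K] (hKb : IsBinomial K)
  {σ' : Type w}

include hKb

/-- a universal polynomial whose rank-`(d+1)` avatars lie in the `n`-th power of the augmentation
ideal and whose rank-`d` avatars vanish is, modulo `γ^k(x_none)`, `k > d+1`, the product of
`γ^{d+1}(x_none)` and a polynomial of weight at least `n - (d+1)` in the `γ`-coordinates -/
theorem exists_div_rep (d : ℕ) (D : MvPolynomial (Option σ' × ℕ) K) (n : ℕ)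
    (h1 : ∀ M, aG (szT (σ' := σ') (d + 1) M) (embT (d + 1) M) D ∈
      augIdeal (K := K) (Fin (d + 1) ⊕ σ' × Fin M) ^ n)
    (h2 : ∀ M, aG (szT (σ' := σ') d M) (embT d M) D = 0) :
    ∃ D₁ D'' : MvPolynomial (Option σ' × ℕ) K, thetaP D₁ = D ∧
      killHi (d + 1) D₁ = X (none, d) * D'' ∧
      ∀ m ∈ D''.support, n - (d + 1) ≤ Finsupp.weight (fun p : Option σ' × ℕ => p.2 + 1) m := by
  classical
  obtain ⟨D₁, rfl⟩ := thetaP_surjective D
  have hc1 : ∀ M, cG (K := K) (szT (σ' := σ') (d + 1) M) (embT (d + 1) M) (killHi (d + 1) D₁) ∈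
      idealOfVars (Fin (d + 1) ⊕ σ' × Fin M) K ^ n := by
    intro M
    rw [cG_killHi, ← shift_aG_thetaP hKb]
    exact (mem_augIdeal_pow_iff _ n _).1 (h1 M)
  have hw1 := weight_of_cG_trunc (d + 1) (killHi (d + 1) D₁) (killHi_mem _ _) n hc1
  have hD3 : killHi d D₁ = 0 := by
    by_contra hne
    obtain ⟨m, hm⟩ := (MvPolynomial.support_nonempty.2 hne)
    have hc2 : ∀ M, cG (K := K) (szT (σ' := σ') d M) (embT d M) (killHi d D₁) ∈
        idealOfVars (Fin d ⊕ σ' × Fin M) K ^
          (Finsupp.weight (fun p : Option σ' × ℕ => p.2 + 1) m + 1) := by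
      intro M
      rw [cG_killHi, ← shift_aG_thetaP hKb, h2 M, map_zero]
      exact Ideal.zero_mem _
    have := weight_of_cG_trunc d (killHi d D₁) (killHi_mem _ _) _ hc2 m hm
    omega
  obtain ⟨D'', hD''⟩ := X_dvd_killHi_sub (K := K) (σ' := σ') d D₁
  rw [hD3, sub_zero] at hD''
  refine ⟨D₁, D'', rfl, hD'', ?_⟩
  intro m hm
  have hm' : Finsupp.single (none, d) 1 + m ∈ (killHi (d + 1) D₁).support := by
    rw [hD'', support_X_mul]
    exact Finset.mem_map.2 ⟨m, hm, rfl⟩
  have := hw1 _ hm'
  rw [map_add, Finsupp.weight_single] at this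
  simp only [smul_eq_mul, one_mul] at this
  omega

end Main

section Eval

variable {K : Type u} [CommRing K] {σ' : Type w}

theorem evU_thetaP_of_killHi [LambdaOps K] {A : Type v} [CommRing A] [LambdaOps A] [Algebra K A]
    (xs : Option σ' → A) (d : ℕ) (hx : ∀ k, d + 1 < k → gamma k (xs none) = 0)
    (D₁ D'' : MvPolynomial (Option σ' × ℕ) K) (h : killHi (d + 1) D₁ = X (none, d) * D'') :
    evU xs (thetaP D₁) = gamma (d + 1) (xs none) * evG xs D'' := by
  rw [evU_thetaP, ← evG_killHi xs (d + 1) hx, h, map_mul]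
  congr 1
  rw [evG, aeval_X]

theorem evG_mem_gammaFil_of_weight {σ : Type w} {A : Type v} [CommRing A] [LambdaOps A]
    [Algebra K A] (ε : A →ₐ[K] K) (x : σ → A) (hx : ∀ s, ε (x s) = 0)
    (D : MvPolynomial (σ × ℕ) K) (n : ℕ)
    (hw : ∀ m ∈ D.support, n ≤ Finsupp.weight (fun p : σ × ℕ => p.2 + 1) m) :
    evG x D ∈ gammaFil (ε : A →+* K) n := by
  classical
  rw [D.as_sum, map_sum]
  apply Ideal.sum_mem
  intro d hd
  rw [evG, aeval_monomial]
  apply Ideal.mul_mem_left
  rw [mem_gammaFil_iff_gW]
  have h1 := prod_pow_mem_gW ε d.support (fun p : σ × ℕ => gamma (p.2 + 1) (x p.1))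
    (fun p => d p) (fun p => p.2 + 1)
    (fun p _ => gamma_mem_gW ε Set.univ (by simp) (x p.1) (hx p.1) (p.2 + 1))
  have h2 : n ≤ ∑ p ∈ d.support, d p * (p.2 + 1) := by
    have := hw d hd
    rw [Finsupp.weight_apply, Finsupp.sum] at this
    simpa [smul_eq_mul] using this
  exact gW_mono ε Set.univ h2 h1

end Eval

end Groth.Agent.Helper3.LambdaLib
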