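import Groth.Agent.Lib.Helper3.LambdaR

set_option autoImplicit false

namespace Groth.Agent.Helper3.SplitLib

open LambdaRing Groth.Agent.Helper3.LambdaLib

universe u

section Reflect

open Polynomial

variable {R : Type*} [CommRing R]

theorem reflect_one_sub_X : reflect 1 (1 - X : R[X]) = X - 1 := by
  rw [reflect_sub, reflect_one, pow_one]
  have h := reflect_monomial (R := R) 1 1
  rw [pow_one] at h
  rw [h]
  simp

theorem natDegree_one_sub_X_pow_le (n : ℕ) : ((1 - X : R[X]) ^ n).natDegree ≤ n := by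
  refine le_trans natDegree_pow_le ?_
  have : (1 - X : R[X]).natDegree ≤ 1 := by
    refine le_trans (natDegree_sub_le _ _) ?_
    simp [natDegree_X_le]
  calc n * (1 - X : R[X]).natDegree ≤ n * 1 := Nat.mul_le_mul_left n this
    _ = n := mul_one n

theorem reflect_one_sub_X_pow (n : ℕ) : reflect n ((1 - X : R[X]) ^ n) = (X - 1) ^ n := by
  induction n with
  | zero => simp [reflect_one]
  | succ n ih =>
    rw [pow_succ, reflect_mul _ _ (natDegree_one_sub_X_pow_le n)
      (show (1 - X : R[X]).natDegree ≤ 1 from by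
        refine le_trans (natDegree_sub_le _ _) ?_
        simp [natDegree_X_le]), ih, reflect_one_sub_X, pow_succ]

theorem reflect_term (a : R) (m i : ℕ) (hi : i ≤ m) :
    reflect m (C a * X ^ i * (1 - X) ^ (m - i)) = C a * (X - 1) ^ (m - i) := by
  have h1 : (C a * X ^ i : R[X]).natDegree ≤ i := natDegree_C_mul_X_pow_le a i
  have h2 := reflect_mul (C a * X ^ i : R[X]) ((1 - X) ^ (m - i)) h1
    (natDegree_one_sub_X_pow_le (m - i))
  rw [Nat.add_sub_cancel' hi] at h2
  rw [h2, reflect_C_mul_X_pow, reflect_one_sub_X_pow, revAt_le le_rfl, Nat.sub_self, pow_zero,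
    mul_one]

theorem reflect_finset_sum {ι : Type*} (s : Finset ι) (f : ι → R[X]) (N : ℕ) :
    reflect N (∑ i ∈ s, f i) = ∑ i ∈ s, reflect N (f i) := by
  classical
  induction s using Finset.induction_on with
  | empty => simp
  | insert a s ha ih => rw [Finset.sum_insert ha, Finset.sum_insert ha, reflect_add, ih]

theorem reflect_eq_sum (q : R[X]) (m : ℕ) (hq : q.natDegree ≤ m) :
    reflect m q = ∑ i ∈ Finset.range (m + 1), C (q.coeff i) * X ^ (m - i) := by
  conv_lhs => rw [q.as_sum_range' (m + 1) (by omega)]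
  rw [reflect_finset_sum]
  refine Finset.sum_congr rfl fun i hi => ?_
  have hi' : i ≤ m := Nat.lt_succ_iff.1 (Finset.mem_range.1 hi)
  rw [← C_mul_X_pow_eq_monomial, reflect_C_mul_X_pow, revAt_le hi']

end Reflect

section GammaPoly

open PowerSeries

variable {K : Type u} [CommRing K] [LambdaOps K] (P : PosStructure K)

theorem gammaSeries_natCast (h1 : ∀ k : ℕ, 2 ≤ k → LambdaOps.lam k (1 : K) = 0) (n : ℕ) :
    gammaSeries ((n : K)) = (PowerSeries.mk 1 : PowerSeries K) ^ n := by
  have hone : gammaSeries (1 : K) = PowerSeries.mk 1 := by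
    rw [gammaSeries_eq_subst, lamSeries_one h1, subst_add (hasSubst_bSer K), subst_one_bSer,
      subst_X (hasSubst_bSer K), one_add_bSer]
  induction n with
  | zero => simp [gammaSeries_zero]
  | succ n ih => rw [Nat.cast_succ, gammaSeries_add, ih, hone, pow_succ]

/-- the polynomial `Σ_{i ≤ m} λ^i(e) X^i (1-X)^{m-i}` -/
noncomputable def gPoly (e : K) (m : ℕ) : Polynomial K :=
  ∑ i ∈ Finset.range (m + 1),
    Polynomial.C (LambdaOps.lam i e) * Polynomial.X ^ i * (1 - Polynomial.X) ^ (m - i)

theorem gammaSeries_sub_eq {e : K} (he : e ∈ P.pos) :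
    gammaSeries (e - ((P.aug e).toNat : K)) =
      ((gPoly e (P.aug e).toNat : Polynomial K) : PowerSeries K) := by
  set m := (P.aug e).toNat with hm
  have h1 := lam_one_eq_zero P
  -- λ_t(e) is a polynomial
  have hp : lamSeries e =
      ((∑ i ∈ Finset.range (m + 1), Polynomial.C (LambdaOps.lam i e) * Polynomial.X ^ i :
        Polynomial K) : PowerSeries K) := by
    ext k
    rw [coeff_lamSeries, Polynomial.coeff_coe, Polynomial.finsetSum_coeff]
    simp only [Polynomial.coeff_C_mul, Polynomial.coeff_X_pow]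
    by_cases hk : k < m + 1
    · rw [Finset.sum_eq_single k]
      · simp
      · intro b _ hb
        rw [if_neg (Ne.symm hb), mul_zero]
      · intro hk'
        exact absurd (Finset.mem_range.2 hk) hk'
    · rw [Finset.sum_eq_zero]
      · apply P.lam_eq_zero e he
        have := P.aug_pos e he
        omega
      · intro b hb
        have : b < m + 1 := Finset.mem_range.1 hb
        rw [if_neg (by omega), mul_zero]
  have h2 : gammaSeries e = ∑ i ∈ Finset.range (m + 1),
      C (LambdaOps.lam i e) * (X * PowerSeries.mk 1) ^ i := by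
    rw [gammaSeries_eq_subst, hp, subst_coe (hasSubst_bSer K), map_sum]
    refine Finset.sum_congr rfl fun i _ => ?_
    rw [map_mul, Polynomial.aeval_C, map_pow, Polynomial.aeval_X]
    rfl
  have h3 : gammaSeries (e - (m : K)) * (PowerSeries.mk 1 : PowerSeries K) ^ m = gammaSeries e := by
    rw [← gammaSeries_natCast h1, ← gammaSeries_add, sub_add_cancel]
  have h4 : (PowerSeries.mk 1 : PowerSeries K) * (1 - X) = 1 := mk_one_mul_one_sub_eq_one K
  have h5 : gammaSeries (e - (m : K)) = gammaSeries e * (1 - X) ^ m := by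
    rw [← h3, mul_assoc, ← mul_pow, h4, one_pow, mul_one]
  rw [h5, h2, Finset.sum_mul]
  unfold gPoly
  rw [← Polynomial.coeToPowerSeries.ringHom_apply, map_sum]
  refine Finset.sum_congr rfl fun i hi => ?_
  have hi' : i ≤ m := Nat.lt_succ_iff.1 (Finset.mem_range.1 hi)
  simp only [map_mul, map_pow, map_sub, map_one, Polynomial.coeToPowerSeries.ringHom_apply,
    Polynomial.coe_C, Polynomial.coe_X]
  have h6 : (1 - X : PowerSeries K) ^ m = (1 - X) ^ i * (1 - X) ^ (m - i) := by
    rw [← pow_add, Nat.add_sub_cancel' hi']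
  rw [h6, mul_pow]
  calc C (LambdaOps.lam i e) * (X ^ i * PowerSeries.mk 1 ^ i) * ((1 - X) ^ i * (1 - X) ^ (m - i))
      = C (LambdaOps.lam i e) * X ^ i * ((PowerSeries.mk 1 * (1 - X)) ^ i) * (1 - X) ^ (m - i) := by
        rw [mul_pow]; ring
    _ = _ := by rw [h4, one_pow, mul_one]

theorem natDegree_gPoly_le (e : K) (m : ℕ) : (gPoly e m).natDegree ≤ m := by
  unfold gPoly
  apply Polynomial.natDegree_sum_le_of_forall_le
  intro i hi
  have hi' : i ≤ m := Nat.lt_succ_iff.1 (Finset.mem_range.1 hi)
  refine le_trans Polynomial.natDegree_mul_le ?_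
  have h1 : (Polynomial.C (LambdaOps.lam i e) * Polynomial.X ^ i : Polynomial K).natDegree ≤ i :=
    Polynomial.natDegree_C_mul_X_pow_le _ i
  have h2 := natDegree_one_sub_X_pow_le (R := K) (m - i)
  omega

theorem gamma_lam_poly {e : K} (he : e ∈ P.pos) :
    (∑ i ∈ Finset.range ((P.aug e).toNat + 1),
        Polynomial.C (gamma i (e - ((P.aug e).toNat : K))) *
          Polynomial.X ^ ((P.aug e).toNat - i)) =
      ∑ i ∈ Finset.range ((P.aug e).toNat + 1),
        Polynomial.C (LambdaOps.lam i e) * (Polynomial.X - 1) ^ ((P.aug e).toNat - i) := by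
  set m := (P.aug e).toNat with hm
  have h1 : ∀ i, gamma i (e - (m : K)) = (gPoly e m).coeff i := by
    intro i
    rw [← coeff_gammaSeries, gammaSeries_sub_eq P he, Polynomial.coeff_coe]
  simp only [h1]
  rw [← reflect_eq_sum _ m (natDegree_gPoly_le e m)]
  unfold gPoly
  rw [reflect_finset_sum]
  refine Finset.sum_congr rfl fun i hi => ?_
  exact reflect_term _ m i (Nat.lt_succ_iff.1 (Finset.mem_range.1 hi))

end GammaPoly

end Groth.Agent.Helper3.SplitLib
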