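import Groth.Agent.Lib.Helper3.GamW
import Groth.Agent.Lib.Helper3.LambdaZ

set_option autoImplicit false

namespace Groth.Agent.Helper3.LambdaLib

open LambdaRing Groth.Agent.Helper3.SplitLib

universe u w w' v

section RankSeries

open PowerSeries

variable {A : Type v} [CommRing A] [LambdaOps A]

theorem gammaSeries_sub_natCast (h1 : ∀ k : ℕ, 2 ≤ k → LambdaOps.lam k (1 : A) = 0) (e : A) (m : ℕ)
    (he : ∀ k : ℕ, m < k → LambdaOps.lam k e = 0) :
    gammaSeries (e - (m : A)) = ((gPoly e m : Polynomial A) : PowerSeries A) := by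
  -- λ_t(e) is a polynomial
  have hp : lamSeries e =
      ((∑ i ∈ Finset.range (m + 1), Polynomial.C (LambdaOps.lam i e) * Polynomial.X ^ i :
        Polynomial A) : PowerSeries A) := by
    ext k
    rw [coeff_lamSeries, Polynomial.coeff_coe, Polynomial.finsetSum_coeff]
    simp only [Polynomial.coeff_C_mul, Polynomial.coeff_X_pow]
    by_cases hk : k < m + 1
    · rw [Finset.sum_eq_single k]
      · simp
      · intro b _ hb
        rw [if_neg (Ne.symm hb), mul_zero]
      · intro hk'
        exact absurd (Finset.mem_range.2 hk) hk'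
    · rw [Finset.sum_eq_zero]
      · apply he
        omega
      · intro b hb
        have : b < m + 1 := Finset.mem_range.1 hb
        rw [if_neg (by omega), mul_zero]
  have h2 : gammaSeries e = ∑ i ∈ Finset.range (m + 1),
      C (LambdaOps.lam i e) * (X * PowerSeries.mk 1) ^ i := by
    rw [gammaSeries_eq_subst, hp, subst_coe (hasSubst_bSer A), map_sum]
    refine Finset.sum_congr rfl fun i _ => ?_
    rw [map_mul, Polynomial.aeval_C, map_pow, Polynomial.aeval_X]
    rfl
  have h3 : gammaSeries (e - (m : A)) * (PowerSeries.mk 1 : PowerSeries A) ^ m = gammaSeries e := by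
    rw [← gammaSeries_natCast h1, ← gammaSeries_add, sub_add_cancel]
  have h4 : (PowerSeries.mk 1 : PowerSeries A) * (1 - X) = 1 := mk_one_mul_one_sub_eq_one A
  have h5 : gammaSeries (e - (m : A)) = gammaSeries e * (1 - X) ^ m := by
    rw [← h3, mul_assoc, ← mul_pow, h4, one_pow, mul_one]
  rw [h5, h2, Finset.sum_mul]
  unfold gPoly
  rw [← Polynomial.coeToPowerSeries.ringHom_apply, map_sum]
  refine Finset.sum_congr rfl fun i hi => ?_
  have hi' : i ≤ m := Nat.lt_succ_iff.1 (Finset.mem_range.1 hi)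
  simp only [map_mul, map_pow, map_sub, map_one, Polynomial.coeToPowerSeries.ringHom_apply,
    Polynomial.coe_C, Polynomial.coe_X]
  have h6 : (1 - X : PowerSeries A) ^ m = (1 - X) ^ i * (1 - X) ^ (m - i) := by
    rw [← pow_add, Nat.add_sub_cancel' hi']
  rw [h6, mul_pow]
  calc C (LambdaOps.lam i e) * (X ^ i * PowerSeries.mk 1 ^ i) * ((1 - X) ^ i * (1 - X) ^ (m - i))
      = C (LambdaOps.lam i e) * X ^ i * ((PowerSeries.mk 1 * (1 - X)) ^ i) * (1 - X) ^ (m - i) := by
        rw [mul_pow]; ring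
    _ = _ := by rw [h4, one_pow, mul_one]

theorem coeff_one_sub_X_pow_self (R : Type*) [CommRing R] (k : ℕ) :
    ((1 - Polynomial.X : Polynomial R) ^ k).coeff k = (-1) ^ k := by
  have h : (1 - Polynomial.X : Polynomial R) = Polynomial.C (-1) * (Polynomial.X + Polynomial.C (-1)) := by
    simp only [map_neg, map_one]
    ring
  rw [h, mul_pow, ← Polynomial.C_pow, Polynomial.coeff_C_mul, Polynomial.coeff_X_add_C_pow,
    Nat.sub_self, pow_zero, Nat.choose_self, Nat.cast_one, mul_one, mul_one]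

theorem coeff_gPoly_self (e : A) (m : ℕ) :
    (gPoly e m).coeff m = (-1) ^ m * ∑ i ∈ Finset.range (m + 1), (-1 : A) ^ i * LambdaOps.lam i e := by
  unfold gPoly
  rw [Polynomial.finsetSum_coeff, Finset.mul_sum]
  refine Finset.sum_congr rfl fun i hi => ?_
  have hi' : i ≤ m := Nat.lt_succ_iff.1 (Finset.mem_range.1 hi)
  rw [mul_assoc, Polynomial.coeff_C_mul, Polynomial.coeff_X_pow_mul', if_pos hi',
    coeff_one_sub_X_pow_self]
  have h1 : (-1 : A) ^ m = (-1) ^ (m - i) * (-1) ^ i := by
    rw [← pow_add, Nat.sub_add_cancel hi']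
  have h2 : (-1 : A) ^ i * (-1) ^ i = 1 := by
    rw [← mul_pow]; simp
  calc LambdaOps.lam i e * (-1) ^ (m - i)
      = (-1) ^ (m - i) * ((-1 : A) ^ i * (-1) ^ i) * LambdaOps.lam i e := by rw [h2]; ring
    _ = (-1) ^ m * ((-1) ^ i * LambdaOps.lam i e) := by rw [h1]; ring

/-- for `e` with `λ^k(e) = 0` for `k > m`: `γ^k(e - m) = 0` for `k > m` -/
theorem gamma_sub_natCast_eq_zero (h1 : ∀ k : ℕ, 2 ≤ k → LambdaOps.lam k (1 : A) = 0) (e : A)
    (m : ℕ) (he : ∀ k : ℕ, m < k → LambdaOps.lam k e = 0) (k : ℕ) (hk : m < k) :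
    gamma k (e - (m : A)) = 0 := by
  rw [← coeff_gammaSeries, gammaSeries_sub_natCast h1 e m he, Polynomial.coeff_coe]
  exact Polynomial.coeff_eq_zero_of_natDegree_lt (lt_of_le_of_lt (natDegree_gPoly_le e m) hk)

/-- for `e` with `λ^k(e) = 0` for `k > m`: `γ^m(e - m) = (-1)^m λ_{-1}(e)` -/
theorem gamma_sub_natCast_self (h1 : ∀ k : ℕ, 2 ≤ k → LambdaOps.lam k (1 : A) = 0) (e : A)
    (m : ℕ) (he : ∀ k : ℕ, m < k → LambdaOps.lam k e = 0) :
    gamma m (e - (m : A)) =
      (-1) ^ m * ∑ i ∈ Finset.range (m + 1), (-1 : A) ^ i * LambdaOps.lam i e := by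
  rw [← coeff_gammaSeries, gammaSeries_sub_natCast h1 e m he, Polynomial.coeff_coe,
    coeff_gPoly_self]

theorem lam_zero_right (p : ℕ) (hp : 1 ≤ p) : LambdaOps.lam p (0 : A) = 0 := by
  rw [← coeff_lamSeries, lamSeries_zero, coeff_one, if_neg (by omega)]

end RankSeries

section IntBase

open PowerSeries

variable {A : Type v} [CommRing A] [LambdaOps A]

/-- a ring with `λ_t(1) = 1 + t` is a λ-algebra over the integers with their binomial
λ-structure -/
theorem isLambdaAlg_int (h1 : ∀ k : ℕ, 2 ≤ k → LambdaOps.lam k (1 : A) = 0) :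
    @IsLambdaAlg ℤ A _ (binomialLambdaOps ℤ) _ _ _ := by
  letI : LambdaOps ℤ := binomialLambdaOps ℤ
  have hZb : IsBinomial ℤ := fun n x => rfl
  have h1Z : ∀ k : ℕ, 2 ≤ k → LambdaOps.lam k (1 : ℤ) = 0 :=
    (isSpecial_of_isBinomial hZb).lam_one_eq_zero
  have hone : PowerSeries.map (algebraMap ℤ A) (lamSeries (1 : ℤ)) = lamSeries (1 : A) := by
    rw [lamSeries_one h1Z, lamSeries_one h1, map_add, map_one, map_X]
  have key : ∀ z : ℤ, PowerSeries.map (algebraMap ℤ A) (lamSeries z) = lamSeries ((z : ℤ) : A) := by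
    intro z
    induction z using Int.induction_on with
    | zero => rw [lamSeries_zero, map_one, Int.cast_zero, lamSeries_zero]
    | succ n ih =>
      rw [lamSeries_add, map_mul, ih, hone, Int.cast_add, Int.cast_one, lamSeries_add]
    | pred n ih =>
      have e1 : lamSeries (-(n : ℤ) - 1) * lamSeries (1 : ℤ) = lamSeries (-(n : ℤ)) :=
        lamSeries_sub_mul _ _
      have e2 : lamSeries (((-(n : ℤ) - 1 : ℤ)) : A) * lamSeries (1 : A) =
          lamSeries ((-(n : ℤ) : ℤ) : A) := by
        rw [Int.cast_sub, Int.cast_one]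
        exact lamSeries_sub_mul _ _
      have e3 := congrArg (PowerSeries.map (algebraMap ℤ A)) e1
      rw [map_mul, ih, hone, ← e2] at e3
      exact (isUnit_lamSeries (1 : A)).mul_left_injective e3
  intro n z
  have h := congrArg (coeff n) (key z)
  rw [coeff_map, coeff_lamSeries, coeff_lamSeries] at h
  rw [h]
  simp

end IntBase

end Groth.Agent.Helper3.LambdaLib
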