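import Groth.Agent.Lib.Helper3.GamX

set_option autoImplicit false

namespace Groth.Agent.Helper3.LambdaLib

open LambdaRing MvPolynomial

universe u w w' v

attribute [local instance] polyLambdaOps

section Core

variable {K : Type u} [CommRing K] [LambdaOps K] [BinomialRing K] (hKb : IsBinomial K)
  {A : Type v} [CommRing A] [LambdaOps A] [Algebra K A]

/-- generators: `none ↦ n0`, and all the elements of augmentation zero -/
def xsAug (ε : A →ₐ[K] K) (n0 : A) : Option {a : A // ε a = 0} → A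
  | none => n0
  | some a => a.1

include hKb

theorem core_aug (ε : A →ₐ[K] K) (d : ℕ) (n0 : A) (hn0ε : ε n0 = 0)
    (hn0 : ∀ k, d + 1 < k → gamma k n0 = 0)
    (D : MvPolynomial (Option {a : A // ε a = 0} × ℕ) K) (n : ℕ)
    (h1 : ∀ M, aG (szT (σ' := {a : A // ε a = 0}) (d + 1) M) (embT (d + 1) M) D ∈
      augIdeal (K := K) (Fin (d + 1) ⊕ {a : A // ε a = 0} × Fin M) ^ n)
    (h2 : ∀ M, aG (szT (σ' := {a : A // ε a = 0}) d M) (embT d M) D = 0) :
    ∃ w ∈ gammaFil (ε : A →+* K) (n - (d + 1)),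
      evU (xsAug ε n0) D = gamma (d + 1) n0 * w := by
  obtain ⟨D₁, D'', rfl, hk, hw⟩ := exists_div_rep hKb d D n h1 h2
  refine ⟨evG (xsAug ε n0) D'', evG_mem_gammaFil_of_weight ε _ ?_ D'' _ hw,
    evU_thetaP_of_killHi (xsAug ε n0) d hn0 D₁ D'' hk⟩
  rintro (_ | a)
  · exact hn0ε
  · exact a.2

end Core

section UTilde

variable {K : Type u} [CommRing K] {σ' : Type w}

/-- the universal polynomial for `λ_{-1}` of the rank `d+1` generator -/
noncomputable def uT (d : ℕ) : MvPolynomial (Option σ' × ℕ) K :=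
  C ((-1 : K) ^ (d + 1)) * Gm (none, d)

theorem evU_uT [LambdaOps K] {A : Type v} [CommRing A] [LambdaOps A] [Algebra K A]
    (xs : Option σ' → A) (d : ℕ) :
    evU xs (uT (K := K) d) = (-1 : A) ^ (d + 1) * gamma (d + 1) (xs none) := by
  rw [uT, map_mul, evU_Gm]
  congr 1
  rw [evU, aeval_C, map_pow, map_neg, map_one]

variable [LambdaOps K] [BinomialRing K] (hKb : IsBinomial K)

include hKb

theorem aG_uT_mem (d M : ℕ) :
    aG (szT (σ' := σ') (d + 1) M) (embT (d + 1) M) (uT (K := K) d) ∈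
      augIdeal (K := K) (Fin (d + 1) ⊕ σ' × Fin M) ^ (d + 1) := by
  rw [aG, evU_uT]
  exact Ideal.mul_mem_left _ _ (gamma_xG_mem hKb _ _ none (d + 1))

theorem aG_uT_eq_zero (d M : ℕ) :
    aG (szT (σ' := σ') d M) (embT d M) (uT (K := K) d) = 0 := by
  rw [aG, evU_uT, gamma_xG_eq_zero hKb _ _ none (d + 1) (Nat.lt_succ_self d), mul_zero]

end UTilde


section Apps

open Finset nonZeroDivisors

variable {K : Type u} [CommRing K] [LambdaOps K] [BinomialRing K] (hKb : IsBinomial K)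
  {A : Type v} [CommRing A] [LambdaOps A] [Algebra K A] (hA : IsSpecial A)
  (ε : A →ₐ[K] K) (hε : IsAugLambdaAlg K A ε)

include hKb hA hε

/-- S8695 with `d + 1` in place of `d` -/
theorem mem_gammaFil_of_mul_lamAlt (d : ℕ) (N : A)
    (hN : ∀ k : ℕ, d + 1 < k → LambdaOps.lam k N = 0) (hNε : ε N = ((d + 1 : ℕ) : K))
    (hnzd : (∑ j ∈ range (d + 1 + 1), (-1 : A) ^ j * LambdaOps.lam j N) ∈ A⁰)
    (p : ℕ) (hp : 1 ≤ p) (x y : A)
    (hy : y * (∑ j ∈ range (d + 1 + 1), (-1 : A) ^ j * LambdaOps.lam j N) =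
      gamma p (x * (∑ j ∈ range (d + 1 + 1), (-1 : A) ^ j * LambdaOps.lam j N))) :
    y ∈ gammaFil (ε : A →+* K) (p - (d + 1)) := by
  set u : A := ∑ j ∈ range (d + 1 + 1), (-1 : A) ^ j * LambdaOps.lam j N with hu
  have h1A := hA.lam_one_eq_zero
  set n0 : A := N - ((d + 1 : ℕ) : A) with hn0def
  have hn0ε : ε n0 = 0 := by
    rw [hn0def, map_sub, hNε, map_natCast, sub_self]
  have hn0 : ∀ k, d + 1 < k → gamma k n0 = 0 := gamma_sub_natCast_eq_zero h1A N (d + 1) hN
  have hγu : gamma (d + 1) n0 = (-1) ^ (d + 1) * u := gamma_sub_natCast_self h1A N (d + 1) hN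
  have hsq : (-1 : A) ^ (d + 1) * (-1) ^ (d + 1) = 1 := by
    rw [← mul_pow]; simp
  have hx0 : ε (x - algebraMap K A (ε x)) = 0 := by
    rw [map_sub, AlgHom.commutes]; simp
  set xt : MvPolynomial (Option {a : A // ε a = 0} × ℕ) K :=
    X (some ⟨x - algebraMap K A (ε x), hx0⟩, 0) + C (ε x) with hxt
  have hxs : evU (xsAug ε n0) xt = x := by
    rw [hxt, map_add, evU, aeval_X, aeval_C]
    show LambdaOps.lam (0 + 1) (x - algebraMap K A (ε x)) + _ = x
    rw [zero_add, LambdaOps.lam_one, sub_add_cancel]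
  have hus : evU (xsAug ε n0) (uT (K := K) d) = u := by
    rw [evU_uT]
    show (-1 : A) ^ (d + 1) * gamma (d + 1) n0 = u
    rw [hγu, ← mul_assoc, hsq, one_mul]
  set F : MvPolynomial (Option {a : A // ε a = 0} × ℕ) K := xt * uT d with hF
  have hFs : evU (xsAug ε n0) F = x * u := by rw [hF, map_mul, hxs, hus]
  obtain ⟨GF, hGF⟩ := exists_rep.{u, v, v, max u v} F
  set Dg : MvPolynomial (Option {a : A // ε a = 0} × ℕ) K :=
    ∑ j ∈ Finset.range (p + 1), (((p - 1).choose (j - 1) : ℕ) : MvPolynomial _ K) *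
      (if j = 0 then 0 else GF j) with hDg
  have hDs : evU (xsAug ε n0) Dg = gamma p (x * u) := by
    rw [← hFs]
    exact evU_gammaPoly p (by omega) (fun j => (hGF j).1) A hA hε.isLambdaAlg _
  have hav : ∀ (d' M : ℕ), aG (szT (σ' := {a : A // ε a = 0}) d' M) (embT d' M) Dg =
      gamma p (aG (szT (σ' := {a : A // ε a = 0}) d' M) (embT d' M) F) := by
    intro d' M
    exact evU_gammaPoly p (by omega) (fun j => (hGF j).2) _ (isSpecial_poly hKb _)
      (isLambdaAlg_poly _) _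
  have h1 : ∀ M, aG (szT (σ' := {a : A // ε a = 0}) (d + 1) M) (embT (d + 1) M) Dg ∈
      augIdeal (K := K) (Fin (d + 1) ⊕ {a : A // ε a = 0} × Fin M) ^ p := by
    intro M
    rw [hav]
    apply gamma_mem_pow_of_mem_augIdeal _ hKb
    rw [hF, map_mul]
    apply Ideal.mul_mem_left
    have := aG_uT_mem (σ' := {a : A // ε a = 0}) hKb d M
    exact Ideal.pow_le_self (Nat.succ_ne_zero d) this
  have h2 : ∀ M, aG (szT (σ' := {a : A // ε a = 0}) d M) (embT d M) Dg = 0 := by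
    intro M
    rw [hav, hF, map_mul, aG_uT_eq_zero hKb, mul_zero, gamma_zero_right, if_neg (by omega)]
  obtain ⟨w, hw, hD⟩ := core_aug hKb ε d n0 hn0ε hn0 Dg p h1 h2
  rw [hDs, hγu] at hD
  have hyw : (y - (-1) ^ (d + 1) * w) * u = 0 := by
    rw [sub_mul, hy, hD]; ring
  have hyw2 : y = (-1) ^ (d + 1) * w := by
    have := (mem_nonZeroDivisors_iff_right.1 hnzd) _ hyw
    exact sub_eq_zero.1 this
  rw [hyw2]
  exact Ideal.mul_mem_left _ _ hw

/-- S8696 with `d + 1` in place of `d` -/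
theorem sub_factorial_mul_mem_gammaFil_of_mul_lamAlt (d : ℕ) (N : A)
    (hN : ∀ k : ℕ, d + 1 < k → LambdaOps.lam k N = 0) (hNε : ε N = ((d + 1 : ℕ) : K))
    (hnzd : (∑ j ∈ range (d + 1 + 1), (-1 : A) ^ j * LambdaOps.lam j N) ∈ A⁰)
    (i : ℕ) (x : A) (hx : x ∈ gammaFil (ε : A →+* K) i) (y : A)
    (hy : y * (∑ j ∈ range (d + 1 + 1), (-1 : A) ^ j * LambdaOps.lam j N) =
      gamma (d + 1 + i) (x * (∑ j ∈ range (d + 1 + 1), (-1 : A) ^ j * LambdaOps.lam j N))) :
    y - (-1 : A) ^ (d + 1 + i - 1) * ((d + 1 + i - 1).factorial : A) * x ∈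
      gammaFil (ε : A →+* K) (i + 1) := by
  set u : A := ∑ j ∈ range (d + 1 + 1), (-1 : A) ^ j * LambdaOps.lam j N with hu
  set p := d + 1 + i with hp
  have h1A := hA.lam_one_eq_zero
  set n0 : A := N - ((d + 1 : ℕ) : A) with hn0def
  have hn0ε : ε n0 = 0 := by
    rw [hn0def, map_sub, hNε, map_natCast, sub_self]
  have hn0 : ∀ k, d + 1 < k → gamma k n0 = 0 := gamma_sub_natCast_eq_zero h1A N (d + 1) hN
  have hγu : gamma (d + 1) n0 = (-1) ^ (d + 1) * u := gamma_sub_natCast_self h1A N (d + 1) hN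
  have hsq : (-1 : A) ^ (d + 1) * (-1) ^ (d + 1) = 1 := by
    rw [← mul_pow]; simp
  obtain ⟨xt, hxtW, hxs⟩ := exists_mem_Wt (K := K) ε (xsAug ε n0)
    (fun a ha => ⟨some ⟨a, ha⟩, rfl⟩) i x hx
  have hus : evU (xsAug ε n0) (uT (K := K) d) = u := by
    rw [evU_uT]
    show (-1 : A) ^ (d + 1) * gamma (d + 1) n0 = u
    rw [hγu, ← mul_assoc, hsq, one_mul]
  set F : MvPolynomial (Option {a : A // ε a = 0} × ℕ) K := xt * uT d with hF
  have hFs : evU (xsAug ε n0) F = x * u := by rw [hF, map_mul, hxs, hus]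
  obtain ⟨GF, hGF⟩ := exists_rep.{u, v, v, max u v} F
  set Dg : MvPolynomial (Option {a : A // ε a = 0} × ℕ) K :=
    ∑ j ∈ Finset.range (p + 1), (((p - 1).choose (j - 1) : ℕ) : MvPolynomial _ K) *
      (if j = 0 then 0 else GF j) with hDg
  set D : MvPolynomial (Option {a : A // ε a = 0} × ℕ) K :=
    Dg - (-1) ^ (p - 1) * ((p - 1).factorial : MvPolynomial _ K) * F with hD
  have hDs : evU (xsAug ε n0) D =
      gamma p (x * u) - (-1) ^ (p - 1) * ((p - 1).factorial : A) * (x * u) := by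
    rw [hD, map_sub, map_mul, map_mul, map_pow, map_neg, map_one, map_natCast, hFs]
    congr 1
    rw [← hFs]
    exact evU_gammaPoly p (by omega) (fun j => (hGF j).1) A hA hε.isLambdaAlg _
  have hav : ∀ (d' M : ℕ), aG (szT (σ' := {a : A // ε a = 0}) d' M) (embT d' M) D =
      gamma p (aG (szT (σ' := {a : A // ε a = 0}) d' M) (embT d' M) F) -
        (-1) ^ (p - 1) * ((p - 1).factorial : MvPolynomial _ K) *
          aG (szT (σ' := {a : A // ε a = 0}) d' M) (embT d' M) F := by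
    intro d' M
    rw [hD, map_sub, map_mul, map_mul, map_pow, map_neg, map_one, map_natCast]
    congr 1
    exact evU_gammaPoly p (by omega) (fun j => (hGF j).2) _ (isSpecial_poly hKb _)
      (isLambdaAlg_poly _) _
  have h1 : ∀ M, aG (szT (σ' := {a : A // ε a = 0}) (d + 1) M) (embT (d + 1) M) D ∈
      augIdeal (K := K) (Fin (d + 1) ⊕ {a : A // ε a = 0} × Fin M) ^ (p + 1) := by
    intro M
    rw [hav]
    apply poly_gamma_sub_mem_pow hKb _ p (by omega)
    rw [hF, map_mul, hp, add_comm (d + 1) i, pow_add]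
    exact Ideal.mul_mem_mul (aG_mem_of_mem_Wt hKb _ _ i xt hxtW) (aG_uT_mem hKb d M)
  have h2 : ∀ M, aG (szT (σ' := {a : A // ε a = 0}) d M) (embT d M) D = 0 := by
    intro M
    rw [hav, hF, map_mul, aG_uT_eq_zero hKb, mul_zero, gamma_zero_right, if_neg (by omega),
      mul_zero, sub_zero]
  obtain ⟨w, hw, hDw⟩ := core_aug hKb ε d n0 hn0ε hn0 D (p + 1) h1 h2
  rw [hDs, hγu] at hDw
  have hyw : (y - (-1) ^ (p - 1) * ((p - 1).factorial : A) * x - (-1) ^ (d + 1) * w) * u = 0 := by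
    rw [sub_mul, sub_mul, hy]
    have : (-1 : A) ^ (p - 1) * ((p - 1).factorial : A) * x * u =
        (-1) ^ (p - 1) * ((p - 1).factorial : A) * (x * u) := by ring
    rw [this, hDw]; ring
  have hyw2 : y - (-1) ^ (p - 1) * ((p - 1).factorial : A) * x = (-1) ^ (d + 1) * w := by
    have := (mem_nonZeroDivisors_iff_right.1 hnzd) _ hyw
    exact sub_eq_zero.1 this
  rw [hyw2]
  have hidx : p + 1 - (d + 1) = i + 1 := by omega
  rw [hidx] at hw
  exact Ideal.mul_mem_left _ _ hw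

end Apps

section AppInt

open Finset

variable {A : Type v} [CommRing A] [LambdaOps A] (hA : IsSpecial A)

include hA

/-- S8691 -/
theorem lamAlt_dvd_lam_mul_lamAlt (d : ℕ) (N : A)
    (hN : ∀ i : ℕ, d < i → LambdaOps.lam i N = 0) (p : ℕ) (hp : 1 ≤ p) (x : A) :
    (∑ i ∈ range (d + 1), (-1 : A) ^ i * LambdaOps.lam i N) ∣
      LambdaOps.lam p (x * ∑ i ∈ range (d + 1), (-1 : A) ^ i * LambdaOps.lam i N) := by
  rcases d with _ | d
  · have : (∑ i ∈ range (0 + 1), (-1 : A) ^ i * LambdaOps.lam i N) = 1 := by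
      simp [LambdaOps.lam_zero]
    rw [this]
    exact one_dvd _
  let _ : LambdaOps ℤ := binomialLambdaOps ℤ
  have hZb : IsBinomial ℤ := fun n x => rfl
  set u : A := ∑ j ∈ range (d + 1 + 1), (-1 : A) ^ j * LambdaOps.lam j N with hu
  have h1A := hA.lam_one_eq_zero
  have hAK : IsLambdaAlg ℤ A := isLambdaAlg_int h1A
  set n0 : A := N - ((d + 1 : ℕ) : A) with hn0def
  have hn0 : ∀ k, d + 1 < k → gamma k n0 = 0 := gamma_sub_natCast_eq_zero h1A N (d + 1) hN
  have hγu : gamma (d + 1) n0 = (-1) ^ (d + 1) * u := gamma_sub_natCast_self h1A N (d + 1) hN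
  have hsq : (-1 : A) ^ (d + 1) * (-1) ^ (d + 1) = 1 := by
    rw [← mul_pow]; simp
  let xs : Option Unit → A := fun o => Option.elim o n0 (fun _ => x)
  set xt : MvPolynomial (Option Unit × ℕ) ℤ := X (some (), 0) with hxt
  have hxs : evU xs xt = x := by
    rw [hxt, evU, aeval_X]
    show LambdaOps.lam (0 + 1) x = x
    rw [zero_add, LambdaOps.lam_one]
  have hus : evU xs (uT (K := ℤ) (σ' := Unit) d) = u := by
    rw [evU_uT]
    show (-1 : A) ^ (d + 1) * gamma (d + 1) n0 = u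
    rw [hγu, ← mul_assoc, hsq, one_mul]
  set F : MvPolynomial (Option Unit × ℕ) ℤ := xt * uT d with hF
  have hFs : evU xs F = x * u := by rw [hF, map_mul, hxs, hus]
  obtain ⟨GF, hGF⟩ := exists_rep.{0, 0, v, 0} F
  have hDs : evU xs (GF p) = LambdaOps.lam p (x * u) := by
    rw [← hFs]
    exact (hGF p).1 A hA hAK xs
  have h1 : ∀ M, aG (szT (σ' := Unit) (d + 1) M) (embT (d + 1) M) (GF p) ∈
      augIdeal (K := ℤ) (Fin (d + 1) ⊕ Unit × Fin M) ^ 0 := by
    intro M
    rw [pow_zero, Ideal.one_eq_top]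
    trivial
  have h2 : ∀ M, aG (szT (σ' := Unit) d M) (embT d M) (GF p) = 0 := by
    intro M
    have := (hGF p).2 _ (isSpecial_poly hZb (Fin d ⊕ Unit × Fin M)) (isLambdaAlg_poly _)
      (xG (K := ℤ) (szT (σ' := Unit) d M) (embT d M))
    rw [aG, this]
    have hz : evU (xG (K := ℤ) (szT (σ' := Unit) d M) (embT d M)) F = 0 := by
      have := aG_uT_eq_zero (K := ℤ) (σ' := Unit) hZb d M
      rw [aG] at this
      rw [hF, map_mul, this, mul_zero]
    rw [hz]
    exact lam_zero_right p hp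
  obtain ⟨D₁, D'', hD1, hk, -⟩ := exists_div_rep hZb d (GF p) 0 h1 h2
  have h3 := evU_thetaP_of_killHi xs d hn0 D₁ D'' hk
  rw [hD1, hDs] at h3
  have h4 : LambdaOps.lam p (x * u) = gamma (d + 1) n0 * evG xs D'' := h3
  rw [hγu] at h4
  rw [h4]
  exact Dvd.intro ((-1) ^ (d + 1) * evG xs D'') (by ring)

end AppInt

end Groth.Agent.Helper3.LambdaLib
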