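import Mathlib
import Groth.Agent.Lib.Helper3.FreeBC2

/-! The flattening ideal of a module which is free modulo a nilpotent ideal (helper3). -/

set_option autoImplicit false
set_option backward.isDefEq.respectTransparency.types false
set_option synthInstance.maxHeartbeats 400000
set_option linter.style.haveILetI false
universe u

open TensorProduct

namespace Groth.Agent.Helper3.GenFlt

section Nak

variable {R : Type u} [CommRing R] {M : Type u} [AddCommGroup M] [Module R M]

/-- nilpotent Nakayama, sup form -/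
theorem eq_top_of_sup_smul_eq_top (N : Ideal R) (hN : IsNilpotent N) (P : Submodule R M)
    (h : P ⊔ N • (⊤ : Submodule R M) = ⊤) : P = ⊤ := by
  obtain ⟨n, hn⟩ := hN
  have key : ∀ k : ℕ, P ⊔ (N ^ k) • (⊤ : Submodule R M) = ⊤ := by
    intro k
    induction k with
    | zero => simp
    | succ k ih =>
      rw [eq_top_iff]
      calc (⊤ : Submodule R M) = P ⊔ N • (⊤ : Submodule R M) := h.symm
        _ = P ⊔ N • (P ⊔ (N ^ k) • (⊤ : Submodule R M)) := by rw [ih]
        _ = P ⊔ (N • P ⊔ N • ((N ^ k) • (⊤ : Submodule R M))) := by rw [Submodule.smul_sup]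
        _ ≤ P ⊔ (N ^ (k + 1)) • (⊤ : Submodule R M) := by
          apply sup_le le_sup_left
          apply sup_le
          · exact le_trans Submodule.smul_le_right le_sup_left
          · rw [← Submodule.mul_smul, ← pow_succ']
            exact le_sup_right
  have := key n
  rw [hn, Ideal.zero_eq_bot, Submodule.bot_smul, sup_bot_eq] at this
  exact this

/-- a module `K` with `K = N K` for a nilpotent ideal `N` vanishes -/
theorem subsingleton_of_top_le_smul (N : Ideal R) (hN : IsNilpotent N)
    (h : (⊤ : Submodule R M) ≤ N • (⊤ : Submodule R M)) : Subsingleton M := by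
  have h1 : (⊥ : Submodule R M) = ⊤ := by
    apply eq_top_of_sup_smul_eq_top N hN
    rw [bot_sup_eq]
    exact le_antisymm le_top h
  exact (Submodule.subsingleton_iff R).1 (subsingleton_of_bot_eq_top h1)

end Nak

section Flat

variable {A : Type u} [CommRing A] {L M : Type u} [AddCommGroup L] [Module A L]
  [AddCommGroup M] [Module A M]

/-- a surjection onto a flat module whose kernel lies in `I L` for a nilpotent ideal `I` is
injective -/
theorem injective_of_flat_of_ker_le (I : Ideal A) (hI : IsNilpotent I) (ψ : L →ₗ[A] M)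
    (hψ : Function.Surjective ψ) [Module.Flat A M]
    (hker : LinearMap.ker ψ ≤ I • (⊤ : Submodule A L)) : Function.Injective ψ := by
  have hinj := FreeBC.lTensor_injective_of_flat_cokernel' (A ⧸ I) (LinearMap.ker ψ).subtype ψ
    (Submodule.injective_subtype _) hψ (LinearMap.exact_subtype_ker_map ψ)
  haveI : Subsingleton (LinearMap.ker ψ) := by
    apply subsingleton_of_top_le_smul I hI
    intro k _
    have h0 : ((LinearMap.ker ψ).subtype.lTensor (A ⧸ I)) ((1 : A ⧸ I) ⊗ₜ[A] k) = 0 := by
      rw [LinearMap.lTensor_tmul]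
      have hk : (k : L) ∈ I • (⊤ : Submodule A L) := hker k.2
      have : (TensorProduct.quotTensorEquivQuotSMul L I) ((1 : A ⧸ I) ⊗ₜ[A] (k : L)) = 0 := by
        rw [TensorProduct.quotTensorEquivQuotSMul_mk_one_tmul]
        exact (Submodule.Quotient.mk_eq_zero _).2 hk
      exact (LinearEquiv.map_eq_zero_iff _).1 this
    have h1 : (1 : A ⧸ I) ⊗ₜ[A] k = 0 := hinj (h0.trans (map_zero _).symm)
    have h2 : (TensorProduct.quotTensorEquivQuotSMul (LinearMap.ker ψ) I)
        ((1 : A ⧸ I) ⊗ₜ[A] k) = 0 := by rw [h1, map_zero]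
    rw [TensorProduct.quotTensorEquivQuotSMul_mk_one_tmul] at h2
    exact (Submodule.Quotient.mk_eq_zero _).1 h2
  rw [← LinearMap.ker_eq_bot]
  exact Submodule.eq_bot_of_subsingleton

end Flat

section KerBC

variable {R : Type u} [CommRing R] {L M : Type u} [AddCommGroup L] [Module R L]
  [AddCommGroup M] [Module R M] (φ : L →ₗ[R] M) (A' : Type u) [CommRing A'] [Algebra R A']

theorem ker_baseChange_eq (hsurj : Function.Surjective φ) (x : A' ⊗[R] L)
    (hx : φ.baseChange A' x = 0) :
    ∃ z : A' ⊗[R] (LinearMap.ker φ), (LinearMap.ker φ).subtype.lTensor A' z = x := by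
  have hex : Function.Exact ((LinearMap.ker φ).subtype.lTensor A') (φ.lTensor A') :=
    lTensor_exact A' (LinearMap.exact_subtype_ker_map φ) hsurj
  rw [LinearMap.baseChange_eq_ltensor] at hx
  exact (hex x).1 hx

end KerBC

section Flattening

variable {R : Type u} [CommRing R] (N : Ideal R) {M : Type u} [AddCommGroup M] [Module R M]
  {ι : Type u} (φ : (ι →₀ R) →ₗ[R] M)

/-- the ideal generated by the coordinates of the elements of the kernel of `φ` -/
def coordIdeal : Ideal R :=
  Ideal.span {r | ∃ k ∈ LinearMap.ker φ, ∃ i, r = k i}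

theorem coord_mem_of_mem_smul_top (x : ι →₀ R) (hx : x ∈ N • (⊤ : Submodule R (ι →₀ R)))
    (i : ι) : x i ∈ N := by
  refine Submodule.smul_induction_on hx ?_ ?_
  · intro r hr m _
    rw [Finsupp.smul_apply, smul_eq_mul]
    exact N.mul_mem_right _ hr
  · intro x y hx hy
    rw [Finsupp.add_apply]
    exact N.add_mem hx hy

theorem coordIdeal_le (hker : LinearMap.ker φ ≤ N • (⊤ : Submodule R (ι →₀ R))) :
    coordIdeal φ ≤ N := by
  apply Ideal.span_le.2
  rintro r ⟨k, hk, i, rfl⟩
  exact coord_mem_of_mem_smul_top N k (hker hk) i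

variable (A' : Type u) [CommRing A'] [Algebra R A']

theorem tmul_eq_zero_of_map_eq_bot (h : (coordIdeal φ).map (algebraMap R A') = ⊥)
    (k : ι →₀ R) (hk : k ∈ LinearMap.ker φ) (a : A') :
    a ⊗ₜ[R] k = (0 : A' ⊗[R] (ι →₀ R)) := by
  have hk0 : ∀ i, algebraMap R A' (k i) = 0 := by
    intro i
    have : algebraMap R A' (k i) ∈ (coordIdeal φ).map (algebraMap R A') :=
      Ideal.mem_map_of_mem _ (Ideal.subset_span ⟨k, hk, i, rfl⟩)
    rw [h] at this
    exact this
  conv_lhs => rw [← Finsupp.sum_single k]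
  rw [Finsupp.sum, TensorProduct.tmul_sum]
  apply Finset.sum_eq_zero
  intro i _
  have : (Finsupp.single i (k i) : ι →₀ R) = (k i) • Finsupp.single i (1 : R) := by
    rw [Finsupp.smul_single, smul_eq_mul, mul_one]
  rw [this, TensorProduct.tmul_smul, ← algebraMap_smul A' (k i) (a ⊗ₜ[R] Finsupp.single i (1 : R)),
    hk0 i, zero_smul]

theorem free_of_map_eq_bot (hsurj : Function.Surjective φ)
    (h : (coordIdeal φ).map (algebraMap R A') = ⊥) : Module.Free A' (A' ⊗[R] M) := by
  have hsurj' : Function.Surjective (φ.baseChange A') := by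
    rw [LinearMap.baseChange_eq_ltensor]
    exact LinearMap.lTensor_surjective A' hsurj
  have hinj' : Function.Injective (φ.baseChange A') := by
    rw [injective_iff_map_eq_zero]
    intro x hx
    obtain ⟨z, rfl⟩ := ker_baseChange_eq φ A' hsurj x hx
    clear hx
    induction z using TensorProduct.induction_on with
    | zero => rw [map_zero]
    | tmul a k =>
      rw [LinearMap.lTensor_tmul]
      exact tmul_eq_zero_of_map_eq_bot φ A' h k.1 k.2 a
    | add x y hx hy => rw [map_add, hx, hy, add_zero]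
  exact Module.Free.of_equiv (LinearEquiv.ofBijective (φ.baseChange A') ⟨hinj', hsurj'⟩)

theorem tmul_mem_smul_top (a : A') (y : ι →₀ R) (hy : y ∈ N • (⊤ : Submodule R (ι →₀ R))) :
    a ⊗ₜ[R] y ∈ (N.map (algebraMap R A')) • (⊤ : Submodule A' (A' ⊗[R] (ι →₀ R))) := by
  refine Submodule.smul_induction_on hy ?_ ?_
  · intro r hr m _
    rw [TensorProduct.tmul_smul, ← algebraMap_smul A' r (a ⊗ₜ[R] m)]
    exact Submodule.smul_mem_smul (Ideal.mem_map_of_mem _ hr) trivial
  · intro x y hx hy
    rw [TensorProduct.tmul_add]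
    exact Submodule.add_mem _ hx hy

theorem map_eq_bot_of_flat (hN : IsNilpotent N) (hsurj : Function.Surjective φ)
    (hker : LinearMap.ker φ ≤ N • (⊤ : Submodule R (ι →₀ R))) [Module.Flat A' (A' ⊗[R] M)] :
    (coordIdeal φ).map (algebraMap R A') = ⊥ := by
  have hsurj' : Function.Surjective (φ.baseChange A') := by
    rw [LinearMap.baseChange_eq_ltensor]
    exact LinearMap.lTensor_surjective A' hsurj
  have hN' : IsNilpotent (N.map (algebraMap R A')) := by
    obtain ⟨n, hn⟩ := hN
    refine ⟨n, ?_⟩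
    rw [← Ideal.map_pow, hn, Ideal.zero_eq_bot, Ideal.map_bot]
    rfl
  have hker' : LinearMap.ker (φ.baseChange A') ≤
      (N.map (algebraMap R A')) • (⊤ : Submodule A' (A' ⊗[R] (ι →₀ R))) := by
    intro x hx
    obtain ⟨z, rfl⟩ := ker_baseChange_eq φ A' hsurj x hx
    clear hx
    induction z using TensorProduct.induction_on with
    | zero => rw [map_zero]; exact Submodule.zero_mem _
    | tmul a k =>
      rw [LinearMap.lTensor_tmul]
      exact tmul_mem_smul_top N A' a k.1 (hker k.2)
    | add x y hx hy => rw [map_add]; exact Submodule.add_mem _ hx hy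
  have hinj := injective_of_flat_of_ker_le (N.map (algebraMap R A')) hN' (φ.baseChange A')
    hsurj' hker'
  rw [Ideal.map_eq_bot_iff_le_ker]
  apply Ideal.span_le.2
  rintro r ⟨k, hk, i, rfl⟩
  show algebraMap R A' (k i) = 0
  have h0 : (1 : A') ⊗ₜ[R] k = (0 : A' ⊗[R] (ι →₀ R)) := by
    apply hinj
    rw [LinearMap.baseChange_tmul, map_zero]
    have : φ k = 0 := hk
    rw [this, TensorProduct.tmul_zero]
  let c : A' ⊗[R] (ι →₀ R) →ₗ[A'] A' :=
    (AlgebraTensorModule.rid R A' A').toLinearMap ∘ₗ (Finsupp.lapply i).baseChange A'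
  have hc : c ((1 : A') ⊗ₜ[R] k) = algebraMap R A' (k i) := by
    show (AlgebraTensorModule.rid R A' A') (((Finsupp.lapply i).baseChange A') ((1 : A') ⊗ₜ[R] k)) = _
    rw [LinearMap.baseChange_tmul, Finsupp.lapply_apply, AlgebraTensorModule.rid_tmul,
      Algebra.smul_def, mul_one]
  rw [← hc, h0, map_zero]

end Flattening

end Groth.Agent.Helper3.GenFlt
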