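import Mathlib
import Groth.Agent.Lib.Helper3.GenFlt1

/-! A module which is free modulo a nilpotent ideal has a presentation whose relations have
coordinates in that ideal (helper3). -/

set_option autoImplicit false
set_option backward.isDefEq.respectTransparency.types false
set_option synthInstance.maxHeartbeats 400000
set_option linter.style.haveILetI false
universe u

open TensorProduct

namespace Groth.Agent.Helper3.GenFlt

section Pres

variable {R : Type u} [CommRing R] (N : Ideal R) (M : Type u) [AddCommGroup M] [Module R M]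

theorem one_tmul_eq_zero_iff (m : M) :
    (1 : R ⧸ N) ⊗ₜ[R] m = 0 ↔ m ∈ N • (⊤ : Submodule R M) := by
  rw [← (TensorProduct.quotTensorEquivQuotSMul M N).map_eq_zero_iff,
    TensorProduct.quotTensorEquivQuotSMul_mk_one_tmul, Submodule.Quotient.mk_eq_zero]

theorem exists_one_tmul_eq (t : (R ⧸ N) ⊗[R] M) : ∃ m : M, (1 : R ⧸ N) ⊗ₜ[R] m = t := by
  obtain ⟨m, hm⟩ := Submodule.Quotient.mk_surjective _
    (TensorProduct.quotTensorEquivQuotSMul M N t)
  refine ⟨m, ?_⟩
  apply (TensorProduct.quotTensorEquivQuotSMul M N).injective
  rw [TensorProduct.quotTensorEquivQuotSMul_mk_one_tmul, hm]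

variable {M}

theorem one_tmul_linearCombination {ι : Type u} (b : ι → M) (k : ι →₀ R) :
    (1 : R ⧸ N) ⊗ₜ[R] (Finsupp.linearCombination R b k) =
      Finsupp.linearCombination (R ⧸ N) (fun i => (1 : R ⧸ N) ⊗ₜ[R] b i)
        (k.mapRange (Ideal.Quotient.mk N) (map_zero _)) := by
  induction k using Finsupp.induction_linear with
  | zero => simp
  | add x y hx hy =>
    rw [map_add, TensorProduct.tmul_add, hx, hy, Finsupp.mapRange_add (by intro a b; exact map_add _ a b),
      map_add]
  | single i r =>
    rw [Finsupp.linearCombination_single, Finsupp.mapRange_single,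
      Finsupp.linearCombination_single, TensorProduct.tmul_smul, TensorProduct.smul_tmul']
    congr 1

theorem mem_smul_top_of_forall_mem {ι : Type u} (k : ι →₀ R) (hk : ∀ i, k i ∈ N) :
    k ∈ N • (⊤ : Submodule R (ι →₀ R)) := by
  rw [← Finsupp.sum_single k, Finsupp.sum]
  apply Submodule.sum_mem
  intro i _
  have : (Finsupp.single i (k i) : ι →₀ R) = (k i) • Finsupp.single i (1 : R) := by
    rw [Finsupp.smul_single, smul_eq_mul, mul_one]
  rw [this]
  exact Submodule.smul_mem_smul (hk i) trivial

/-- a module which is free modulo a nilpotent ideal `N` is a quotient of a free module by a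
submodule contained in `N` times the free module -/
theorem exists_presentation_of_free (hN : IsNilpotent N)
    [Module.Free (R ⧸ N) ((R ⧸ N) ⊗[R] M)] :
    ∃ (ι : Type u) (φ : (ι →₀ R) →ₗ[R] M), Function.Surjective φ ∧
      LinearMap.ker φ ≤ N • (⊤ : Submodule R (ι →₀ R)) := by
  classical
  let β := Module.Free.chooseBasis (R ⧸ N) ((R ⧸ N) ⊗[R] M)
  choose b hb using fun i => exists_one_tmul_eq N M (β i)
  have hβ : (fun i => (1 : R ⧸ N) ⊗ₜ[R] b i) = β := funext hb
  refine ⟨_, Finsupp.linearCombination R b, ?_, ?_⟩
  · rw [← LinearMap.range_eq_top]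
    apply eq_top_of_sup_smul_eq_top N hN
    rw [eq_top_iff]
    intro m _
    let c := β.repr ((1 : R ⧸ N) ⊗ₜ[R] m)
    let g : R ⧸ N → R := fun t => if t = 0 then 0 else Quotient.out t
    have hg0 : g 0 = 0 := if_pos rfl
    have hg : ∀ t, Ideal.Quotient.mk N (g t) = t := by
      intro t
      by_cases ht : t = 0
      · subst ht
        rw [hg0, map_zero]
      · simp only [g, if_neg ht]
        exact Quotient.out_eq t
    let r : _ →₀ R := c.mapRange g hg0
    have hr : r.mapRange (Ideal.Quotient.mk N) (map_zero _) = c := by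
      ext i
      simp only [r, Finsupp.mapRange_apply]
      exact hg _
    have h1 : (1 : R ⧸ N) ⊗ₜ[R] (Finsupp.linearCombination R b r) = (1 : R ⧸ N) ⊗ₜ[R] m := by
      rw [one_tmul_linearCombination, hr, hβ]
      exact β.linearCombination_repr _
    have h2 : m - Finsupp.linearCombination R b r ∈ N • (⊤ : Submodule R M) := by
      rw [← one_tmul_eq_zero_iff, TensorProduct.tmul_sub, h1, sub_self]
    have : m = Finsupp.linearCombination R b r + (m - Finsupp.linearCombination R b r) := by abel
    rw [this]
    exact Submodule.add_mem_sup (LinearMap.mem_range_self _ _) h2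
  · intro k hk
    apply mem_smul_top_of_forall_mem
    have h0 : Finsupp.linearCombination (R ⧸ N) β
        (k.mapRange (Ideal.Quotient.mk N) (map_zero _)) = 0 := by
      rw [← hβ, ← one_tmul_linearCombination]
      have : Finsupp.linearCombination R b k = 0 := hk
      rw [this, TensorProduct.tmul_zero]
    have h1 := linearIndependent_iff.1 β.linearIndependent _ h0
    intro i
    have h2 := DFunLike.congr_fun h1 i
    rw [Finsupp.mapRange_apply, Finsupp.zero_apply] at h2
    exact Ideal.Quotient.eq_zero_iff_mem.1 h2

end Pres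

end Groth.Agent.Helper3.GenFlt
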