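import Mathlib
import Groth.Agent.Lib.Helper3.GenFlt2
import Groth.Agent.Lib.Helper9.GenFree.Main2

/-! Generic freeness modulo a prime ideal, base change form (helper3). -/

set_option autoImplicit false
set_option backward.isDefEq.respectTransparency.types false
set_option synthInstance.maxHeartbeats 400000
set_option linter.style.haveILetI false
universe u

open TensorProduct

namespace Groth.Agent.Helper3.GenFlt

attribute [local instance] Algebra.TensorProduct.rightAlgebra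

section GenFree

variable (A₀ B₀ M₀ : Type u) [CommRing A₀] [CommRing B₀] [Algebra A₀ B₀]
  [Algebra.FiniteType A₀ B₀] [AddCommGroup M₀] [Module B₀ M₀] [Module A₀ M₀]
  [IsScalarTower A₀ B₀ M₀] [Module.Finite B₀ M₀] (P : Ideal A₀) [P.IsPrime]

include B₀ in
/-- **generic freeness modulo a prime**: for a finite module `M₀` over a finite type
`A₀`-algebra and a prime `P` of `A₀`, the base change of `M₀` to a localization of `A₀ ⧸ P` at
one nonzero element is free. -/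
theorem exists_free_mod_prime :
    ∃ a : A₀ ⧸ P, a ≠ 0 ∧
      Module.Free (Localization.Away a) (Localization.Away a ⊗[A₀] M₀) := by
  have hgood := Groth.Agent.Helper9.GenFree.goodRing_of_finiteType' (A₀ ⧸ P)
    ((A₀ ⧸ P) ⊗[A₀] B₀)
  have hbasis := hgood (((A₀ ⧸ P) ⊗[A₀] B₀) ⊗[B₀] M₀)
  obtain ⟨a, ha, hfree⟩ := hbasis.exists_free
  refine ⟨a, ha, ?_⟩
  let e₁ : Localization.Away a ⊗[A₀ ⧸ P] ((((A₀ ⧸ P) ⊗[A₀] B₀) ⊗[B₀] M₀)) ≃ₗ[Localization.Away a]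
      LocalizedModule (Submonoid.powers a) ((((A₀ ⧸ P) ⊗[A₀] B₀) ⊗[B₀] M₀)) :=
    (IsLocalizedModule.isBaseChange (Submonoid.powers a) (Localization.Away a)
      (LocalizedModule.mkLinearMap (Submonoid.powers a) _)).equiv
  let e₂ : (((A₀ ⧸ P) ⊗[A₀] B₀) ⊗[B₀] M₀) ≃ₗ[A₀ ⧸ P] (A₀ ⧸ P) ⊗[A₀] M₀ :=
    Algebra.IsPushout.cancelBaseChange A₀ (A₀ ⧸ P) B₀ ((A₀ ⧸ P) ⊗[A₀] B₀) M₀
  let e₃ : Localization.Away a ⊗[A₀ ⧸ P] ((((A₀ ⧸ P) ⊗[A₀] B₀) ⊗[B₀] M₀)) ≃ₗ[Localization.Away a]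
      Localization.Away a ⊗[A₀ ⧸ P] ((A₀ ⧸ P) ⊗[A₀] M₀) :=
    AlgebraTensorModule.congr (LinearEquiv.refl (Localization.Away a) (Localization.Away a)) e₂
  let e₄ : Localization.Away a ⊗[A₀ ⧸ P] ((A₀ ⧸ P) ⊗[A₀] M₀) ≃ₗ[Localization.Away a]
      Localization.Away a ⊗[A₀] M₀ :=
    AlgebraTensorModule.cancelBaseChange A₀ (A₀ ⧸ P) (Localization.Away a) (Localization.Away a) M₀
  exact Module.Free.of_equiv (e₁.symm ≪≫ₗ e₃ ≪≫ₗ e₄)

end GenFree

end Groth.Agent.Helper3.GenFlt
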