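import Mathlib
import Groth.Agent.Lib.Helper3.GenFlt3

/-! The generic flattening ideal over a Noetherian ring with irreducible spectrum (helper3). -/

set_option autoImplicit false
set_option backward.isDefEq.respectTransparency.types false
set_option synthInstance.maxHeartbeats 400000
set_option linter.style.haveILetI false
universe u

open TensorProduct

namespace Groth.Agent.Helper3.GenFlt

section Flattening

variable {R : Type u} [CommRing R] (N : Ideal R) (M : Type u) [AddCommGroup M] [Module R M]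

/-- the flattening ideal of a module which is free modulo a nilpotent ideal -/
theorem exists_flattening_ideal (hN : IsNilpotent N) [Module.Free (R ⧸ N) ((R ⧸ N) ⊗[R] M)] :
    ∃ J : Ideal R, J ≤ N ∧ ∀ (A' : Type u) [CommRing A'] [Algebra R A'],
      (Module.Flat A' (A' ⊗[R] M) → J.map (algebraMap R A') = ⊥) ∧
      (J.map (algebraMap R A') = ⊥ → Module.Free A' (A' ⊗[R] M)) := by
  obtain ⟨ι, φ, hsurj, hker⟩ := exists_presentation_of_free N hN (M := M)
  refine ⟨coordIdeal φ, coordIdeal_le N φ hker, ?_⟩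
  intro A' _ _
  exact ⟨fun hfl => map_eq_bot_of_flat N φ A' hN hsurj hker,
    fun h => free_of_map_eq_bot φ A' hsurj h⟩

end Flattening

section Noeth

variable (A₀ B₀ M₀ : Type u) [CommRing A₀] [IsNoetherianRing A₀] [CommRing B₀] [Algebra A₀ B₀]
  [Algebra.FiniteType A₀ B₀] [AddCommGroup M₀] [Module B₀ M₀] [Module A₀ M₀]
  [IsScalarTower A₀ B₀ M₀] [Module.Finite B₀ M₀]

include B₀ in
/-- **the generic flattening ideal, Noetherian case**: over a Noetherian ring with prime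
nilradical, after inverting a non-nilpotent element there is an ideal `J` of nilpotents such that
a base change of `M₀` is flat iff `J` dies, and then the base change is free. -/
theorem exists_flattening_noeth (hP : (nilradical A₀).IsPrime) :
    ∃ (h₀ : A₀) (_ : ¬ IsNilpotent h₀) (J : Ideal (Localization.Away h₀)),
      J ≤ nilradical (Localization.Away h₀) ∧
      ∀ (A' : Type u) [CommRing A'] [Algebra (Localization.Away h₀) A'] [Algebra A₀ A']
        [IsScalarTower A₀ (Localization.Away h₀) A'],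
        (Module.Flat A' (A' ⊗[A₀] M₀) → J.map (algebraMap (Localization.Away h₀) A') = ⊥) ∧
        (J.map (algebraMap (Localization.Away h₀) A') = ⊥ → Module.Free A' (A' ⊗[A₀] M₀)) := by
  haveI := hP
  obtain ⟨a, ha, hfree⟩ := exists_free_mod_prime A₀ B₀ M₀ (nilradical A₀)
  obtain ⟨h₀, rfl⟩ := Ideal.Quotient.mk_surjective a
  have hh₀ : ¬ IsNilpotent h₀ := by
    intro hnil
    apply ha
    rw [Ideal.Quotient.eq_zero_iff_mem]
    exact (mem_nilradical).2 hnil
  refine ⟨h₀, hh₀, ?_⟩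
  -- notation
  let R₁ := Localization.Away h₀
  let N₁ : Ideal R₁ := nilradical R₁
  have hN₁ : IsNilpotent N₁ := IsNoetherianRing.isNilpotent_nilradical R₁
  let Da := Localization.Away (Ideal.Quotient.mk (nilradical A₀) h₀)
  -- the ring map `Da → R₁ ⧸ N₁`
  let g : A₀ ⧸ nilradical A₀ →+* R₁ ⧸ N₁ :=
    Ideal.Quotient.lift (nilradical A₀) ((Ideal.Quotient.mk N₁).comp (algebraMap A₀ R₁)) (by
      intro x hx
      rw [RingHom.comp_apply, Ideal.Quotient.eq_zero_iff_mem]
      exact (mem_nilradical).2 ((mem_nilradical.1 hx).map _))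
  have hgu : IsUnit (g (Ideal.Quotient.mk (nilradical A₀) h₀)) := by
    show IsUnit ((Ideal.Quotient.mk N₁) (algebraMap A₀ R₁ h₀))
    exact (IsLocalization.Away.algebraMap_isUnit (S := R₁) h₀).map _
  let ρ : Da →+* R₁ ⧸ N₁ := IsLocalization.Away.lift (Ideal.Quotient.mk (nilradical A₀) h₀) hgu
  letI algρ : Algebra Da (R₁ ⧸ N₁) := ρ.toAlgebra
  haveI tw : IsScalarTower A₀ Da (R₁ ⧸ N₁) := IsScalarTower.of_algebraMap_eq (fun x => by
    show algebraMap A₀ (R₁ ⧸ N₁) x = ρ (algebraMap A₀ Da x)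
    rw [IsScalarTower.algebraMap_apply A₀ (A₀ ⧸ nilradical A₀) Da]
    show _ = (IsLocalization.Away.lift (Ideal.Quotient.mk (nilradical A₀) h₀) hgu)
      (algebraMap (A₀ ⧸ nilradical A₀) Da (algebraMap A₀ (A₀ ⧸ nilradical A₀) x))
    rw [IsLocalization.Away.lift_eq]
    rfl)
  -- freeness modulo the nilradical
  haveI : Module.Free Da (Da ⊗[A₀] M₀) := hfree
  haveI hfr₁ : Module.Free (R₁ ⧸ N₁) ((R₁ ⧸ N₁) ⊗[A₀] M₀) :=
    Module.Free.of_equiv
      (AlgebraTensorModule.cancelBaseChange A₀ Da (R₁ ⧸ N₁) (R₁ ⧸ N₁) M₀)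
  haveI hfr₂ : Module.Free (R₁ ⧸ N₁) ((R₁ ⧸ N₁) ⊗[R₁] (R₁ ⊗[A₀] M₀)) :=
    Module.Free.of_equiv
      (AlgebraTensorModule.cancelBaseChange A₀ R₁ (R₁ ⧸ N₁) (R₁ ⧸ N₁) M₀).symm
  obtain ⟨J, hJN, hJ⟩ := exists_flattening_ideal N₁ (R₁ ⊗[A₀] M₀) hN₁
  refine ⟨J, hJN, ?_⟩
  intro A' _ _ _ _
  let e : A' ⊗[R₁] (R₁ ⊗[A₀] M₀) ≃ₗ[A'] A' ⊗[A₀] M₀ :=
    AlgebraTensorModule.cancelBaseChange A₀ R₁ A' A' M₀
  obtain ⟨h1, h2⟩ := hJ A'
  constructor
  · intro hfl
    haveI : Module.Flat A' (A' ⊗[R₁] (R₁ ⊗[A₀] M₀)) := Module.Flat.of_linearEquiv e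
    exact h1 inferInstance
  · intro hmap
    haveI := h2 hmap
    exact Module.Free.of_equiv e

end Noeth

end Groth.Agent.Helper3.GenFlt
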