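import Mathlib
import Groth.Agent.Lib.Helper3.GenFlt4
import Groth.Agent.Lib.Helper3.ColimFlat12

/-! The generic flattening ideal over an arbitrary ring with irreducible spectrum (helper3). -/

set_option autoImplicit false
set_option backward.isDefEq.respectTransparency.types false
set_option synthInstance.maxHeartbeats 400000
set_option linter.style.haveILetI false
universe u

open TensorProduct

namespace Groth.Agent.Helper3.GenFlt

open Groth.Agent.Helper3.ColimFlat

section General

variable (A B M : Type u) [CommRing A] [CommRing B] [Algebra A B]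
  [Algebra.FinitePresentation A B] [AddCommGroup M] [Module B M] [Module A M]
  [IsScalarTower A B M] [Module.FinitePresentation B M]

include B in
/-- **the generic flattening ideal**: over a ring with prime nilradical (irreducible spectrum),
after inverting a non-nilpotent element `h` there is a finitely generated ideal `J` of nilpotents
of `A_h` such that a base change of `M` to an `A_h`-algebra is flat iff `J` dies there, and then
the base change is free. -/
theorem exists_flattening (hP : (nilradical A).IsPrime) :
    ∃ (h : A) (_ : ¬ IsNilpotent h) (J : Ideal (Localization.Away h)), J.FG ∧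
      J ≤ nilradical (Localization.Away h) ∧
      ∀ (A' : Type u) [CommRing A'] [Algebra (Localization.Away h) A'] [Algebra A A']
        [IsScalarTower A (Localization.Away h) A'],
        (Module.Flat A' (A' ⊗[A] M) → J.map (algebraMap (Localization.Away h) A') = ⊥) ∧
        (J.map (algebraMap (Localization.Away h) A') = ⊥ → Module.Free A' (A' ⊗[A] M)) := by
  obtain ⟨R₀, hR₀, S₀, _, _, _, _, M₀, _, _, _, _, f, hfp, hfin, hpush, hbc⟩ := exists_model A B M
  haveI : Algebra.FiniteType ℤ R₀ := (Subalgebra.fg_iff_finiteType R₀).mp hR₀
  haveI : IsNoetherianRing R₀ := Algebra.FiniteType.isNoetherianRing ℤ R₀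
  letI : Module R₀ M₀ := Module.compHom M₀ (algebraMap R₀ S₀)
  haveI : IsScalarTower R₀ S₀ M₀ := IsScalarTower.of_compHom _ _ _
  haveI : Algebra.FiniteType R₀ S₀ := inferInstance
  have hinj : Function.Injective (algebraMap R₀ A) := Subtype.val_injective
  have hP₀ : (nilradical ↥R₀).IsPrime := by
    have : nilradical ↥R₀ = (nilradical A).comap (algebraMap R₀ A) := by
      ext x
      rw [Ideal.mem_comap, mem_nilradical, mem_nilradical]
      exact (IsNilpotent.map_iff hinj).symm
    rw [this]
    exact Ideal.IsPrime.comap _
  obtain ⟨h₀, hh₀, J₀, hJ₀N, hJ₀⟩ := exists_flattening_noeth (↥R₀) S₀ M₀ hP₀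
  let h : A := algebraMap R₀ A h₀
  have hh : ¬ IsNilpotent h := fun hn => hh₀ ((IsNilpotent.map_iff hinj).1 hn)
  have hu : IsUnit ((algebraMap A (Localization.Away h)).comp (algebraMap R₀ A) h₀) :=
    IsLocalization.Away.algebraMap_isUnit (S := Localization.Away h) h
  let ρ : Localization.Away h₀ →+* Localization.Away h := IsLocalization.Away.lift h₀ hu
  have hρ : ∀ x : R₀, ρ (algebraMap R₀ (Localization.Away h₀) x) =
      algebraMap A (Localization.Away h) (algebraMap R₀ A x) := by
    intro x
    show (IsLocalization.Away.lift h₀ hu) (algebraMap R₀ (Localization.Away h₀) x) = _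
    rw [IsLocalization.Away.lift_eq]
    rfl
  refine ⟨h, hh, J₀.map ρ, Ideal.FG.map (IsNoetherian.noetherian J₀) ρ, ?_, ?_⟩
  · rw [Ideal.map_le_iff_le_comap]
    intro x hx
    rw [Ideal.mem_comap, mem_nilradical]
    exact (mem_nilradical.1 (hJ₀N hx)).map ρ
  · intro A' _ _ _ _
    letI a1 : Algebra (Localization.Away h₀) A' :=
      ((algebraMap (Localization.Away h) A').comp ρ).toAlgebra
    haveI t1 : IsScalarTower R₀ A A' := inferInstance
    haveI t2 : IsScalarTower R₀ (Localization.Away h₀) A' := IsScalarTower.of_algebraMap_eq (fun x => by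
      rw [IsScalarTower.algebraMap_apply R₀ A A']
      show algebraMap A A' (algebraMap R₀ A x) =
        algebraMap (Localization.Away h) A' (ρ (algebraMap R₀ (Localization.Away h₀) x))
      rw [hρ, ← IsScalarTower.algebraMap_apply A (Localization.Away h) A'])
    have hmap : (J₀.map ρ).map (algebraMap (Localization.Away h) A') =
        J₀.map (algebraMap (Localization.Away h₀) A') := by
      rw [Ideal.map_map]
      rfl
    let e : A' ⊗[A] M ≃ₗ[A'] A' ⊗[↥R₀] M₀ := modelIso (↥R₀) A S₀ B M₀ M f hbc A'
    obtain ⟨h1, h2⟩ := hJ₀ A'
    rw [hmap]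
    constructor
    · intro hfl
      haveI : Module.Flat A' (A' ⊗[↥R₀] M₀) := Module.Flat.of_linearEquiv e.symm
      exact h1 inferInstance
    · intro hm
      haveI := h2 hm
      exact Module.Free.of_equiv e.symm

end General

end Groth.Agent.Helper3.GenFlt
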