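import Mathlib
import Groth.Agent.Lib.Helper3.GenFlt5

/-! One step of the free stratification of a flat finite module over a Noetherian ring
(helper3). -/

set_option autoImplicit false
set_option backward.isDefEq.respectTransparency.types false
set_option synthInstance.maxHeartbeats 400000
set_option linter.style.haveILetI false
universe u

open TensorProduct

namespace Groth.Agent.Helper3.GenFlt

/-- in a Noetherian ring, a minimal prime `p` over `I` becomes nilpotent modulo `I` after
inverting one element outside `p` -/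
theorem exists_mul_mem_radical {R : Type u} [CommRing R] [IsNoetherianRing R] (I p : Ideal R)
    (hp : p ∈ I.minimalPrimes) : ∃ g : R, g ∉ p ∧ ∀ x ∈ p, g * x ∈ I.radical := by
  classical
  have hfin := Ideal.finite_minimalPrimes_of_isNoetherianRing R I
  haveI : p.IsPrime := hp.1.1
  let s : Finset (Ideal R) := hfin.toFinset.erase p
  have hK : ¬ s.inf id ≤ p := by
    rw [Ideal.IsPrime.inf_le' ‹p.IsPrime›]
    rintro ⟨q, hq, hqp⟩
    rw [Finset.mem_erase, Set.Finite.mem_toFinset] at hq
    obtain ⟨hne, hqm⟩ := hq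
    exact hne (le_antisymm hqp (hp.2 hqm.1 hqp))
  obtain ⟨g, hgK, hgp⟩ := SetLike.not_le_iff_exists.1 hK
  refine ⟨g, hgp, fun x hx => ?_⟩
  rw [← Ideal.sInf_minimalPrimes, Ideal.mem_sInf]
  intro q hq
  by_cases hqp : q = p
  · rw [hqp]; exact Ideal.mul_mem_left _ _ hx
  · have hqs : q ∈ s := by
      rw [Finset.mem_erase, Set.Finite.mem_toFinset]
      exact ⟨hqp, hq⟩
    have : s.inf id ≤ q := Finset.inf_le (f := id) hqs
    exact Ideal.mul_mem_right _ _ (this hgK)

/-- freeness of a base change transfers along ring homomorphisms of algebras -/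
theorem free_transfer {R : Type u} [CommRing R] (N : Type u) [AddCommGroup N] [Module R N]
    {T T' : Type u} [CommRing T] [CommRing T'] [Algebra R T] [Algebra R T'] (ρ : T →+* T')
    (hρ : ∀ r, ρ (algebraMap R T r) = algebraMap R T' r) [Module.Free T (T ⊗[R] N)] :
    Module.Free T' (T' ⊗[R] N) := by
  letI := ρ.toAlgebra
  haveI : IsScalarTower R T T' := .of_algebraMap_eq fun r => (hρ r).symm
  exact Module.Free.of_equiv (AlgebraTensorModule.cancelBaseChange R T T' T' N)

/-- a flat module which is free modulo a nilpotent ideal is free -/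
theorem free_of_flat_of_free_mod {D : Type u} [CommRing D] (N₁ : Ideal D) (hN : IsNilpotent N₁)
    (M : Type u) [AddCommGroup M] [Module D M] [Module.Flat D M]
    [Module.Free (D ⧸ N₁) ((D ⧸ N₁) ⊗[D] M)] : Module.Free D M := by
  obtain ⟨ι, φ, hsurj, hker⟩ := exists_presentation_of_free N₁ (M := M) hN
  have hinj := injective_of_flat_of_ker_le N₁ hN φ hsurj hker
  exact Module.Free.of_equiv (LinearEquiv.ofBijective φ ⟨hinj, hsurj⟩)

section Step

variable (R S N : Type u) [CommRing R] [IsNoetherianRing R] [CommRing S] [Algebra R S]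
  [Algebra.FiniteType R S] [AddCommGroup N] [Module S N] [Module R N] [IsScalarTower R S N]
  [Module.Finite S N] [Module.Flat R N]

omit [IsNoetherianRing R] in
/-- if `N` is flat over `R` and free over a localization `(R/p)_f`, then its base change to any
Noetherian `R`-algebra in which `f` is a unit and `p` consists of nilpotents is free -/
theorem free_step_aux (p : Ideal R) [p.IsPrime] (f : R)
    [Module.Free (Localization.Away (Ideal.Quotient.mk p f))
      (Localization.Away (Ideal.Quotient.mk p f) ⊗[R] N)]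
    (D₁ : Type u) [CommRing D₁] [IsNoetherianRing D₁] [Algebra R D₁]
    (hfu : IsUnit (algebraMap R D₁ f)) (hnil : ∀ x ∈ p, IsNilpotent (algebraMap R D₁ x)) :
    Module.Free D₁ (D₁ ⊗[R] N) := by
  let N₁ : Ideal D₁ := p.map (algebraMap R D₁)
  have hN₁ : IsNilpotent N₁ := by
    rw [Ideal.FG.isNilpotent_iff_le_nilradical (IsNoetherian.noetherian _),
      Ideal.map_le_iff_le_comap]
    intro x hx
    rw [Ideal.mem_comap, mem_nilradical]
    exact hnil x hx
  let q₀ : R ⧸ p →+* D₁ ⧸ N₁ :=
    Ideal.Quotient.lift p ((Ideal.Quotient.mk N₁).comp (algebraMap R D₁)) (fun x hx => by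
      rw [RingHom.comp_apply, Ideal.Quotient.eq_zero_iff_mem]
      exact Ideal.mem_map_of_mem _ hx)
  have hqu : IsUnit (q₀ (Ideal.Quotient.mk p f)) := by
    show IsUnit ((Ideal.Quotient.mk N₁) (algebraMap R D₁ f))
    exact hfu.map _
  let ρ : Localization.Away (Ideal.Quotient.mk p f) →+* D₁ ⧸ N₁ :=
    IsLocalization.Away.lift (Ideal.Quotient.mk p f) hqu
  haveI hfr₁ : Module.Free (D₁ ⧸ N₁) ((D₁ ⧸ N₁) ⊗[R] N) := by
    refine free_transfer N ρ (fun r => ?_)
    rw [IsScalarTower.algebraMap_apply R (R ⧸ p) (Localization.Away (Ideal.Quotient.mk p f))]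
    show (IsLocalization.Away.lift (Ideal.Quotient.mk p f) hqu)
      (algebraMap (R ⧸ p) _ (algebraMap R (R ⧸ p) r)) = _
    rw [IsLocalization.Away.lift_eq]
    rfl
  haveI hfr₂ : Module.Free (D₁ ⧸ N₁) ((D₁ ⧸ N₁) ⊗[D₁] (D₁ ⊗[R] N)) :=
    Module.Free.of_equiv
      (AlgebraTensorModule.cancelBaseChange R D₁ (D₁ ⧸ N₁) (D₁ ⧸ N₁) N).symm
  exact free_of_flat_of_free_mod N₁ hN₁ (D₁ ⊗[R] N)

include S in
/-- **one step of the free stratification**: for a proper ideal `I` of a Noetherian ring `R` and
a flat finite module `N` over a finite type `R`-algebra, there is `f₁ ∉ I` such that the base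
change of `N` to `R_{f₁} / I R_{f₁}` is free. -/
theorem exists_free_step (I : Ideal R) (hI : I ≠ ⊤) :
    ∃ f₁ : R, f₁ ∉ I ∧
      Module.Free (Localization.Away f₁ ⧸ I.map (algebraMap R (Localization.Away f₁)))
        ((Localization.Away f₁ ⧸ I.map (algebraMap R (Localization.Away f₁))) ⊗[R] N) := by
  obtain ⟨⟨p, hp⟩⟩ := Ideal.nonempty_minimalPrimes hI
  haveI hpp : p.IsPrime := hp.1.1
  have hIp : I ≤ p := hp.1.2
  obtain ⟨g, hgp, hg⟩ := exists_mul_mem_radical I p hp
  obtain ⟨a, ha, hfree⟩ := exists_free_mod_prime R S N p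
  obtain ⟨f, rfl⟩ := Ideal.Quotient.mk_surjective a
  have hfp : f ∉ p := fun h => ha (Ideal.Quotient.eq_zero_iff_mem.2 h)
  refine ⟨f * g, fun h => (hpp.mem_or_mem (hIp h)).elim hfp hgp, ?_⟩
  haveI : Module.Free (Localization.Away (Ideal.Quotient.mk p f))
      (Localization.Away (Ideal.Quotient.mk p f) ⊗[R] N) := hfree
  have hunit : IsUnit (algebraMap R
      (Localization.Away (f * g) ⧸ I.map (algebraMap R (Localization.Away (f * g)))) (f * g)) := by
    rw [IsScalarTower.algebraMap_apply R (Localization.Away (f * g))]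
    exact (IsLocalization.Away.algebraMap_isUnit (S := Localization.Away (f * g)) (f * g)).map _
  rw [map_mul] at hunit
  have hfu := isUnit_of_mul_isUnit_left hunit
  have hgu := isUnit_of_mul_isUnit_right hunit
  refine free_step_aux R N p f _ hfu (fun x hx => ?_)
  obtain ⟨n, hn⟩ := hg x hx
  have h0 : algebraMap R
      (Localization.Away (f * g) ⧸ I.map (algebraMap R (Localization.Away (f * g))))
      ((g * x) ^ n) = 0 := by
    rw [IsScalarTower.algebraMap_apply R (Localization.Away (f * g))]
    exact Ideal.Quotient.eq_zero_iff_mem.2 (Ideal.mem_map_of_mem _ hn)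
  refine ⟨n, ?_⟩
  rw [map_pow, map_mul, mul_pow] at h0
  rw [← map_pow]
  exact (hgu.pow n).mul_right_eq_zero.1 (by rw [map_pow]; exact h0)

end Step

end Groth.Agent.Helper3.GenFlt
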