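import Mathlib
import Groth.Agent.Lib.Helper3.GenFlt10
import Groth.Agent.Lib.Helper3.ColimFlat10
import Groth.Agent.Lib.Helper3.ColimFlat12

/-! The free stratification of a flat finitely presented module (helper3). -/

set_option autoImplicit false
set_option backward.isDefEq.respectTransparency.types false
set_option synthInstance.maxHeartbeats 400000
set_option linter.style.haveILetI false
universe u

open TensorProduct

namespace Groth.Agent.Helper3.GenFlt

/-- the stratification predicate: a list of elements generating the unit ideal modulo `I` such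
that `N` becomes free over each successive locally closed piece -/
def Strat (R N : Type u) [CommRing R] [AddCommGroup N] [Module R N] (I : Ideal R) : Prop :=
  ∃ l : List R, I ⊔ Ideal.span {a | a ∈ l} = ⊤ ∧
    ∀ (i : ℕ) (hi : i < l.length) (J : Ideal (Localization.Away l[i])),
      J = (I ⊔ Ideal.span {a | a ∈ l.take i}).map (algebraMap R (Localization.Away l[i])) →
      Module.Free (Localization.Away l[i] ⧸ J) ((Localization.Away l[i] ⧸ J) ⊗[R] N)

section Ind

variable (R S N : Type u) [CommRing R] [IsNoetherianRing R] [CommRing S] [Algebra R S]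
  [Algebra.FiniteType R S] [AddCommGroup N] [Module S N] [Module R N] [IsScalarTower R S N]
  [Module.Finite S N] [Module.Flat R N]

include S in
theorem strat_all (I : Ideal R) : Strat R N I := by
  induction I using IsNoetherian.induction with
  | hgt I IH =>
    by_cases hI : I = ⊤
    · refine ⟨[], by simp [hI], fun i hi => absurd hi (by simp)⟩
    obtain ⟨f₁, hf₁, hfree⟩ := exists_free_step R S N I hI
    have hlt : I < I ⊔ Ideal.span {f₁} := by
      refine lt_of_le_of_ne le_sup_left (fun h => hf₁ ?_)
      rw [h]
      exact Ideal.mem_sup_right (Ideal.subset_span rfl)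
    obtain ⟨l', hl', H⟩ := IH _ hlt
    refine ⟨f₁ :: l', ?_, ?_⟩
    · have : {a | a ∈ f₁ :: l'} = insert f₁ {a | a ∈ l'} := by
        ext a; simp
      rw [this, Ideal.span_insert, ← sup_assoc]
      exact hl'
    · intro i hi J hJ
      cases i with
      | zero =>
        have hJ' : J = Ideal.map (algebraMap R (Localization.Away f₁)) I := by
          rw [hJ]; simp
        subst hJ'
        exact hfree
      | succ i =>
        refine H i (Nat.lt_of_succ_lt_succ hi) J ?_
        rw [hJ]
        have : {a | a ∈ (f₁ :: l').take (i + 1)} = insert f₁ {a | a ∈ l'.take i} := by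
          ext a; simp
        rw [this, Ideal.span_insert, ← sup_assoc]
        rfl

end Ind

section Model

open Groth.Agent.Helper3.ColimFlat

variable (R₀ A S₀ B : Type u) [CommRing R₀] [CommRing A] [CommRing S₀] [CommRing B]
  [Algebra R₀ A] [Algebra R₀ S₀] [Algebra A B] [Algebra S₀ B] [Algebra R₀ B]
  [IsScalarTower R₀ A B] [IsScalarTower R₀ S₀ B] [Algebra.IsPushout R₀ A S₀ B]
  (M₀ M : Type u) [AddCommGroup M₀] [Module S₀ M₀] [Module R₀ M₀] [IsScalarTower R₀ S₀ M₀]
  [AddCommGroup M] [Module B M] [Module A M] [IsScalarTower A B M] [Module S₀ M]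
  [IsScalarTower S₀ B M] (f : M₀ →ₗ[S₀] M) (hbc : IsBaseChange B f)

include hbc in
/-- freeness of a base change of the model gives freeness of the corresponding base change of
the module -/
theorem free_of_model (T C : Type u) [CommRing T] [CommRing C] [Algebra R₀ T] [Algebra A C]
    (τ : T →+* C) (hτ : ∀ r, τ (algebraMap R₀ T r) = algebraMap A C (algebraMap R₀ A r))
    [Module.Free T (T ⊗[R₀] M₀)] : Module.Free C (C ⊗[A] M) := by
  letI : Algebra R₀ C := ((algebraMap A C).comp (algebraMap R₀ A)).toAlgebra
  haveI : IsScalarTower R₀ A C := .of_algebraMap_eq' rfl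
  haveI : Module.Free C (C ⊗[R₀] M₀) := free_transfer M₀ τ hτ
  exact Module.Free.of_equiv (modelIso R₀ A S₀ B M₀ M f hbc C).symm

include hbc in
/-- freeness over a locally closed piece of the model gives freeness over the corresponding
piece -/
theorem free_piece (x₀ : R₀) (K₀ : Ideal R₀) (x : A) (hx : x = algebraMap R₀ A x₀)
    (K : Ideal A) (hK : K₀.map (algebraMap R₀ A) ≤ K)
    [Module.Free (Localization.Away x₀ ⧸ K₀.map (algebraMap R₀ (Localization.Away x₀)))
      ((Localization.Away x₀ ⧸ K₀.map (algebraMap R₀ (Localization.Away x₀))) ⊗[R₀] M₀)] :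
    Module.Free (Localization.Away x ⧸ K.map (algebraMap A (Localization.Away x)))
      ((Localization.Away x ⧸ K.map (algebraMap A (Localization.Away x))) ⊗[A] M) := by
  subst hx
  let σ : Localization.Away x₀ →+* Localization.Away (algebraMap R₀ A x₀) :=
    IsLocalization.Away.map (Localization.Away x₀) (Localization.Away (algebraMap R₀ A x₀))
      (algebraMap R₀ A) x₀
  have hσ : σ.comp (algebraMap R₀ (Localization.Away x₀)) =
      (algebraMap A (Localization.Away (algebraMap R₀ A x₀))).comp (algebraMap R₀ A) :=
    IsLocalization.map_comp _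
  have hle : K₀.map (algebraMap R₀ (Localization.Away x₀)) ≤
      (K.map (algebraMap A (Localization.Away (algebraMap R₀ A x₀)))).comap σ := by
    rw [← Ideal.map_le_iff_le_comap, Ideal.map_map, hσ, ← Ideal.map_map]
    exact Ideal.map_mono hK
  let τ := Ideal.quotientMap (K.map (algebraMap A (Localization.Away (algebraMap R₀ A x₀)))) σ hle
  refine free_of_model R₀ A S₀ B M₀ M f hbc _ _ τ (fun r => ?_)
  rw [IsScalarTower.algebraMap_apply R₀ (Localization.Away x₀)
    (Localization.Away x₀ ⧸ K₀.map (algebraMap R₀ (Localization.Away x₀)))]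
  show τ (Ideal.Quotient.mk _ _) = _
  rw [Ideal.quotientMap_mk]
  have := congrArg (fun φ => φ r) hσ
  simp only [RingHom.comp_apply] at this
  rw [this]
  rfl

end Model

theorem S2591_main {A B : Type u} [CommRing A] [CommRing B] [Algebra A B]
    [Algebra.FinitePresentation A B] (M : Type u) [AddCommGroup M] [Module B M] [Module A M]
    [IsScalarTower A B M] [Module.FinitePresentation B M] [Module.Flat A M] :
    ∃ l : List A, Ideal.span {a | a ∈ l} = ⊤ ∧
      ∀ (i : ℕ) (hi : i < l.length),
        letI J : Ideal (Localization.Away l[i]) :=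
          (Ideal.span {a | a ∈ l.take i}).map (algebraMap A (Localization.Away l[i]))
        Module.Free (Localization.Away l[i] ⧸ J) ((Localization.Away l[i] ⧸ J) ⊗[A] M) := by
  obtain ⟨R₀, _, _, S₀, _, _, _, _, _, _, M₀, _, _, _, _, _, _, f, hft, hfts, hfin, hflat, hpush,
    hbc⟩ := Groth.Agent.Helper3.ColimFlat.S9456_main A B M
  haveI : IsNoetherianRing R₀ := Algebra.FiniteType.isNoetherianRing ℤ R₀
  obtain ⟨l, hl, H⟩ := strat_all R₀ S₀ M₀ ⊥
  have himg : ∀ l₁ : List R₀, {a | a ∈ l₁.map (algebraMap R₀ A)} =
      (algebraMap R₀ A) '' {a | a ∈ l₁} := by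
    intro l₁; ext a; simp
  refine ⟨l.map (algebraMap R₀ A), ?_, ?_⟩
  · rw [himg, ← Ideal.map_span]
    rw [bot_sup_eq] at hl
    rw [hl, Ideal.map_top]
  · intro i hi
    have hi' : i < l.length := by simpa using hi
    have hx : (l.map (algebraMap R₀ A))[i] = algebraMap R₀ A l[i] := List.getElem_map _
    haveI := H i hi' _ rfl
    refine free_piece R₀ A S₀ B M₀ M f hbc l[i] (⊥ ⊔ Ideal.span {a | a ∈ l.take i}) _ hx _ ?_
    rw [bot_sup_eq, Ideal.map_span, ← himg, List.map_take]

end Groth.Agent.Helper3.GenFlt
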