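import Mathlib
import Groth.Agent.Lib.Helper3.GenFlt5

/-! S2573: generic freeness at the minimal prime of a ring with irreducible spectrum
(helper3). -/

set_option autoImplicit false
set_option backward.isDefEq.respectTransparency.types false
set_option synthInstance.maxHeartbeats 400000
set_option linter.style.haveILetI false
universe u

open TensorProduct

namespace Groth.Agent.Helper3.GenFlt

theorem nilradical_eq_of_minimalPrimes {A : Type u} [CommRing A] (p : Ideal A)
    (hp : minimalPrimes A = {p}) : nilradical A = p := by
  have h1 : sInf (minimalPrimes A) = nilradical A := by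
    show sInf ((⊥ : Ideal A).minimalPrimes) = nilradical A
    rw [Ideal.sInf_minimalPrimes]
    rfl
  rw [← h1, hp, sInf_singleton]

/-- if a finitely generated ideal of `A_h` dies in the localization at a prime `p ∌ h`, it dies
in `A_t` for some `t ∉ p` divisible by `h` -/
theorem exists_away_map_eq_bot {A : Type u} [CommRing A] (p : Ideal A) [p.IsPrime] (h : A)
    (hhp : h ∉ p) (J : Ideal (Localization.Away h)) (hJ : J.FG)
    (σp : Localization.Away h →+* Localization.AtPrime p)
    (hσp : ∀ x : A, σp (algebraMap A (Localization.Away h) x) =
      algebraMap A (Localization.AtPrime p) x)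
    (hJp : J.map σp = ⊥) :
    ∃ t : A, t ∉ p ∧ h ∣ t ∧ ∀ (σ : Localization.Away h →+* Localization.Away t),
      (∀ x : A, σ (algebraMap A (Localization.Away h) x) = algebraMap A (Localization.Away t) x) →
      J.map σ = ⊥ := by
  classical
  obtain ⟨s, rfl⟩ := hJ
  have h1 : ∀ j : Localization.Away h, ∃ (x : A) (n : ℕ),
      j * algebraMap A (Localization.Away h) (h ^ n) = algebraMap A (Localization.Away h) x := by
    intro j
    obtain ⟨⟨x, ⟨_, n, rfl⟩⟩, hx⟩ := IsLocalization.surj (Submonoid.powers h) j
    exact ⟨x, n, hx⟩
  choose x n hxn using h1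
  have h2 : ∀ j ∈ s, ∃ c : A, c ∉ p ∧ c * x j = 0 := by
    intro j hj
    have hj0 : σp j = 0 := by
      have : σp j ∈ (Ideal.span (s : Set (Localization.Away h))).map σp :=
        Ideal.mem_map_of_mem _ (Ideal.subset_span hj)
      rw [hJp] at this
      exact this
    have hx0 : algebraMap A (Localization.AtPrime p) (x j) = 0 := by
      rw [← hσp, ← hxn j, map_mul, hj0, zero_mul]
    obtain ⟨c, hc⟩ := (IsLocalization.map_eq_zero_iff p.primeCompl (Localization.AtPrime p) (x j)).1 hx0
    exact ⟨c.1, c.2, hc⟩
  choose! c hcp hcx using h2
  obtain ⟨t, ht⟩ : ∃ t : A, t = h * ∏ j ∈ s, c j := ⟨_, rfl⟩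
  refine ⟨t, ?_, ⟨_, ht⟩, ?_⟩
  · intro hmem
    rw [ht] at hmem
    rcases Ideal.IsPrime.mem_or_mem inferInstance hmem with h' | h'
    · exact hhp h'
    · obtain ⟨j, hj, hjp⟩ := Ideal.IsPrime.prod_mem_iff.1 h'
      exact hcp j hj hjp
  · intro σ hσ
    rw [Ideal.map_span, Ideal.span_eq_bot]
    rintro _ ⟨j, hj, rfl⟩
    have hut : IsUnit (algebraMap A (Localization.Away t) t) :=
      IsLocalization.Away.algebraMap_isUnit (S := Localization.Away t) t
    have huh : IsUnit (algebraMap A (Localization.Away t) h) := by
      have h4 : algebraMap A (Localization.Away t) t =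
          algebraMap A (Localization.Away t) h *
            algebraMap A (Localization.Away t) (∏ j ∈ s, c j) := by
        rw [← map_mul, ← ht]
      rw [h4] at hut
      exact isUnit_of_mul_isUnit_left hut
    have huc : IsUnit (algebraMap A (Localization.Away t) (c j)) := by
      have hdvd : c j ∣ t := by
        rw [ht]
        exact Dvd.dvd.mul_left (Finset.dvd_prod_of_mem c hj) h
      obtain ⟨d, hd⟩ := hdvd
      have h4 : algebraMap A (Localization.Away t) t =
          algebraMap A (Localization.Away t) (c j) * algebraMap A (Localization.Away t) d := by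
        rw [← map_mul, ← hd]
      rw [h4] at hut
      exact isUnit_of_mul_isUnit_left hut
    have hx0 : algebraMap A (Localization.Away t) (x j) = 0 := by
      apply huc.mul_left_cancel
      rw [← map_mul, hcx j hj, map_zero, mul_zero]
    have h3 : σ j * algebraMap A (Localization.Away t) (h ^ n j) = 0 := by
      rw [← hσ, ← map_mul, hxn j, hσ, hx0]
    have hun : IsUnit (algebraMap A (Localization.Away t) (h ^ n j)) := by
      rw [map_pow]
      exact huh.pow _
    exact hun.mul_left_eq_zero.1 h3

theorem S2573_main {A B : Type u} [CommRing A] [CommRing B] [Algebra A B]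
    [Algebra.FinitePresentation A B] (p : Ideal A) [p.IsPrime] (hp : minimalPrimes A = {p})
    (M : Type u) [AddCommGroup M] [Module B M] [Module A M] [IsScalarTower A B M]
    [Module.FinitePresentation B M]
    (hflat : Module.Flat (Localization.AtPrime p) (LocalizedModule p.primeCompl M)) :
    ∃ t : A, t ∉ p ∧
      Module.Free (Localization.Away t) (LocalizedModule (Submonoid.powers t) M) := by
  have hnil : nilradical A = p := nilradical_eq_of_minimalPrimes p hp
  have hP : (nilradical A).IsPrime := hnil ▸ inferInstance
  obtain ⟨h, hh, J, hJfg, hJnil, hJ⟩ := exists_flattening A B M hP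
  have hhp : h ∉ p := by
    rw [← hnil, mem_nilradical]
    exact hh
  -- the localization at `p` as an `A_h`-algebra
  have hup : IsUnit (algebraMap A (Localization.AtPrime p) h) :=
    IsLocalization.map_units (Localization.AtPrime p) (⟨h, hhp⟩ : p.primeCompl)
  let σp : Localization.Away h →+* Localization.AtPrime p := IsLocalization.Away.lift h hup
  have hσp : ∀ x : A, σp (algebraMap A (Localization.Away h) x) =
      algebraMap A (Localization.AtPrime p) x := fun x => IsLocalization.Away.lift_eq h hup x
  letI a1 : Algebra (Localization.Away h) (Localization.AtPrime p) := σp.toAlgebra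
  haveI t1 : IsScalarTower A (Localization.Away h) (Localization.AtPrime p) :=
    IsScalarTower.of_algebraMap_eq (fun x => (hσp x).symm)
  have hJp : J.map σp = ⊥ := by
    apply (hJ (Localization.AtPrime p)).1
    exact Module.Flat.of_linearEquiv
      (IsLocalizedModule.isBaseChange p.primeCompl (Localization.AtPrime p)
        (LocalizedModule.mkLinearMap p.primeCompl M)).equiv
  obtain ⟨t, htp, hht, hJt⟩ := exists_away_map_eq_bot p h hhp J hJfg σp hσp hJp
  refine ⟨t, htp, ?_⟩
  have hut : IsUnit (algebraMap A (Localization.Away t) h) := by
    obtain ⟨d, hd⟩ := hht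
    have := IsLocalization.Away.algebraMap_isUnit (S := Localization.Away t) t
    have h4 : algebraMap A (Localization.Away t) t =
        algebraMap A (Localization.Away t) h * algebraMap A (Localization.Away t) d := by
      rw [← map_mul, ← hd]
    rw [h4] at this
    exact isUnit_of_mul_isUnit_left this
  let σ : Localization.Away h →+* Localization.Away t := IsLocalization.Away.lift h hut
  have hσ : ∀ x : A, σ (algebraMap A (Localization.Away h) x) =
      algebraMap A (Localization.Away t) x := fun x => IsLocalization.Away.lift_eq h hut x
  letI a2 : Algebra (Localization.Away h) (Localization.Away t) := σ.toAlgebra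
  haveI t2 : IsScalarTower A (Localization.Away h) (Localization.Away t) :=
    IsScalarTower.of_algebraMap_eq (fun x => (hσ x).symm)
  haveI := (hJ (Localization.Away t)).2 (hJt σ hσ)
  exact Module.Free.of_equiv
    (IsLocalizedModule.isBaseChange (Submonoid.powers t) (Localization.Away t)
      (LocalizedModule.mkLinearMap (Submonoid.powers t) M)).equiv

end Groth.Agent.Helper3.GenFlt
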