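import Mathlib
import Groth.Agent.Lib.Helper3.GenFlt5

/-! Combining finitely many generic flattening ideals (helper3). -/

set_option autoImplicit false
set_option backward.isDefEq.respectTransparency.types false
set_option synthInstance.maxHeartbeats 400000
set_option linter.style.haveILetI false
universe u

open TensorProduct

namespace Groth.Agent.Helper3.GenFlt

/-- a property of `A`-algebras which, after inverting a non-nilpotent element `h`, is cut out by
a finitely generated ideal of nilpotents of `A_h` -/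
def Good (A : Type u) [CommRing A]
    (Φ : ∀ (A' : Type u) [CommRing A'] [Algebra A A'], Prop) : Prop :=
  ∃ (h : A) (_ : ¬ IsNilpotent h) (J : Ideal (Localization.Away h)), J.FG ∧
    J ≤ nilradical (Localization.Away h) ∧
    ∀ (A' : Type u) [CommRing A'] [Algebra (Localization.Away h) A'] [Algebra A A']
      [IsScalarTower A (Localization.Away h) A'],
      (Φ A' ↔ J.map (algebraMap (Localization.Away h) A') = ⊥)

variable {A : Type u} [CommRing A]

theorem Good.congr {Φ Ψ : ∀ (A' : Type u) [CommRing A'] [Algebra A A'], Prop}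
    (h : ∀ (A' : Type u) [CommRing A'] [Algebra A A'], Φ A' ↔ Ψ A') (hΦ : Good A Φ) :
    Good A Ψ := by
  obtain ⟨a, ha, J, hJ, hJn, H⟩ := hΦ
  refine ⟨a, ha, J, hJ, hJn, fun A' _ _ _ _ => ?_⟩
  rw [← h A']
  exact H A'

theorem good_true (hP : (nilradical A).IsPrime) :
    Good A (fun _ _ _ => True) := by
  refine ⟨1, ?_, ⊥, Submodule.fg_bot, bot_le, fun A' _ _ _ _ => ?_⟩
  · intro h1
    exact hP.ne_top ((Ideal.eq_top_iff_one _).2 (mem_nilradical.2 h1))
  · simp

theorem Good.and (hP : (nilradical A).IsPrime)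
    {Φ Ψ : ∀ (A' : Type u) [CommRing A'] [Algebra A A'], Prop}
    (hΦ : Good A Φ) (hΨ : Good A Ψ) : Good A (fun A' _ _ => Φ A' ∧ Ψ A') := by
  obtain ⟨a, ha, J, hJ, hJn, H⟩ := hΦ
  obtain ⟨b, hb, K, hK, hKn, H'⟩ := hΨ
  have hab : ¬ IsNilpotent (a * b) := by
    intro h
    rcases hP.mem_or_mem (mem_nilradical.2 h) with h | h
    · exact ha (mem_nilradical.1 h)
    · exact hb (mem_nilradical.1 h)
  let ρ₁ : Localization.Away a →+* Localization.Away (a * b) :=
    IsLocalization.Away.awayToAwayRight a b
  let ρ₂ : Localization.Away b →+* Localization.Away (a * b) :=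
    IsLocalization.Away.awayToAwayLeft b a
  have hρ₁ : ∀ x : A, ρ₁ (algebraMap A _ x) = algebraMap A _ x :=
    IsLocalization.Away.awayToAwayRight_eq a b
  have hρ₂ : ∀ x : A, ρ₂ (algebraMap A _ x) = algebraMap A _ x :=
    IsLocalization.Away.awayToAwayLeft_eq b a
  refine ⟨a * b, hab, J.map ρ₁ ⊔ K.map ρ₂, Submodule.FG.sup (hJ.map ρ₁) (hK.map ρ₂), ?_, ?_⟩
  · refine sup_le ?_ ?_
    · rw [Ideal.map_le_iff_le_comap]
      intro x hx
      exact mem_nilradical.2 ((mem_nilradical.1 (hJn hx)).map ρ₁)
    · rw [Ideal.map_le_iff_le_comap]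
      intro x hx
      exact mem_nilradical.2 ((mem_nilradical.1 (hKn hx)).map ρ₂)
  · intro A' _ _ _ _
    letI i1 : Algebra (Localization.Away a) A' :=
      ((algebraMap (Localization.Away (a * b)) A').comp ρ₁).toAlgebra
    letI i2 : Algebra (Localization.Away b) A' :=
      ((algebraMap (Localization.Away (a * b)) A').comp ρ₂).toAlgebra
    haveI t1 : IsScalarTower A (Localization.Away a) A' := IsScalarTower.of_algebraMap_eq fun x => by
      change _ = (algebraMap (Localization.Away (a * b)) A') (ρ₁ (algebraMap A _ x))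
      rw [hρ₁, ← IsScalarTower.algebraMap_apply]
    haveI t2 : IsScalarTower A (Localization.Away b) A' := IsScalarTower.of_algebraMap_eq fun x => by
      change _ = (algebraMap (Localization.Away (a * b)) A') (ρ₂ (algebraMap A _ x))
      rw [hρ₂, ← IsScalarTower.algebraMap_apply]
    change Φ A' ∧ Ψ A' ↔ _
    rw [H A', H' A', Ideal.map_sup, sup_eq_bot_iff, Ideal.map_map, Ideal.map_map]
    rfl

theorem good_finset (hP : (nilradical A).IsPrime) {ι : Type*}
    (Φ : ι → ∀ (A' : Type u) [CommRing A'] [Algebra A A'], Prop) (s : Finset ι)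
    (h : ∀ k ∈ s, Good A (Φ k)) : Good A (fun A' _ _ => ∀ k ∈ s, Φ k A') := by
  classical
  induction s using Finset.induction_on with
  | empty =>
    refine (good_true hP).congr fun A' _ _ => ?_
    simp
  | insert k s hk ih =>
    have h1 := h k (Finset.mem_insert_self k s)
    have h2 := ih fun j hj => h j (Finset.mem_insert_of_mem hj)
    refine (h1.and hP h2).congr fun A' _ _ => ?_
    simp

section Flat

variable (A)
variable (B M : Type u) [CommRing B] [Algebra A B]
  [Algebra.FinitePresentation A B] [AddCommGroup M] [Module B M] [Module A M]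
  [IsScalarTower A B M] [Module.FinitePresentation B M]

include B in
theorem good_flat (hP : (nilradical A).IsPrime) :
    Good A (fun A' _ _ => Module.Flat A' (A' ⊗[A] M)) := by
  obtain ⟨h, hh, J, hJ, hJn, H⟩ := exists_flattening A B M hP
  refine ⟨h, hh, J, hJ, hJn, fun A' _ _ _ _ => ⟨(H A').1, fun hJ0 => ?_⟩⟩
  haveI := (H A').2 hJ0
  infer_instance

end Flat

end Groth.Agent.Helper3.GenFlt
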