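import Mathlib
import Groth.Prelude.Def_FlatMod2
import Groth.Agent.Lib.Lead.FB1
import Groth.Agent.Lib.Lead.BCU3
import Groth.Agent.Lib.Lead.FP2

/-! Flatness of a pulled-back quasi-coherent module over an affine base change, chart by chart
(helper3). -/

set_option autoImplicit false
set_option backward.isDefEq.respectTransparency.types false
set_option synthInstance.maxHeartbeats 400000
set_option linter.style.haveILetI false
universe u

open CategoryTheory CategoryTheory.Limits AlgebraicGeometry TopologicalSpace TensorProduct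

namespace Groth.Agent.Helper3.GenFlt

open Groth.Agent.Lead.FO Groth.Agent.Lead.FB Groth.Agent.Lead.BCU

/-- flatness is insensitive to replacing the ring by an isomorphic one -/
theorem flat_compHom_ringEquiv {R S : Type u} [CommRing R] [CommRing S] (e : R →+* S)
    (he : Function.Bijective e) (N : Type u) [AddCommGroup N] [Module S N] :
    Module.Flat S N ↔ @Module.Flat R N _ _ (Module.compHom N e) := by
  letI : Algebra R S := e.toAlgebra
  letI : Module R N := Module.compHom N e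
  haveI : IsScalarTower R S N := IsScalarTower.of_algebraMap_smul fun r m => rfl
  haveI : IsLocalization.Away (1 : R) S :=
    IsLocalization.away_of_isUnit_of_bijective S isUnit_one he
  exact Module.flat_iff_of_isLocalization S (Submonoid.powers (1 : R)) N

variable {A : Type u} [CommRing A] {X : Scheme.{u}} (f : X ⟶ Spec (CommRingCat.of A))
  (F : X.Modules)

/-- the ring homomorphism `A → Γ(X, U)` attached to `f : X ⟶ Spec A` -/
noncomputable def secHom (U : X.Opens) : A →+* Γ(X, U) :=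
  (f.appLE ⊤ U le_top).hom.comp (Scheme.ΓSpecIso (CommRingCat.of A)).inv.hom

/-- sections of `F` over `U` as an `A`-module -/
noncomputable abbrev secMod (U : X.Opens) : Module A Γ(F, U) :=
  Module.compHom _ (secHom f U)

theorem secHom_bijective_top :
    Function.Bijective (Scheme.ΓSpecIso (CommRingCat.of A)).inv.hom :=
  ConcreteCategory.bijective_of_isIso (Scheme.ΓSpecIso (CommRingCat.of A)).inv

section Chart

variable (A' : Type u) [CommRing A'] [Algebra A A']

/-- the base change morphism `Spec A' ⟶ Spec A` -/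
noncomputable abbrev gMap (A A' : Type u) [CommRing A] [CommRing A'] [Algebra A A'] :
    Spec (CommRingCat.of A') ⟶ Spec (CommRingCat.of A) :=
  Spec.map (CommRingCat.ofHom (algebraMap A A'))

theorem gMap_appLE :
    ((gMap A A').appLE ⊤ ⊤ le_top) ≫ (Scheme.ΓSpecIso (CommRingCat.of A')).hom =
      (Scheme.ΓSpecIso (CommRingCat.of A)).hom ≫ CommRingCat.ofHom (algebraMap A A') := by
  rw [← Scheme.ΓSpecIso_naturality]
  congr 1

variable {A'}

set_option maxHeartbeats 1600000 in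
theorem chart_flat_iff {X' : Scheme.{u}} {g' : X' ⟶ X} {f' : X' ⟶ Spec (CommRingCat.of A')}
    {g : Spec (CommRingCat.of A') ⟶ Spec (CommRingCat.of A)} (hc : IsPullback g' f' f g)
    (hg : (g.appLE ⊤ ⊤ le_top) ≫ (Scheme.ΓSpecIso (CommRingCat.of A')).hom =
      (Scheme.ΓSpecIso (CommRingCat.of A)).hom ≫ CommRingCat.ofHom (algebraMap A A'))
    [F.IsQuasicoherent] {U : X.Opens} (hU : IsAffineOpen U)
    {UY : X'.Opens} (hUY : UY = g' ⁻¹ᵁ U ⊓ f' ⁻¹ᵁ ⊤) :
    (@Module.Flat Γ(Spec (CommRingCat.of A'), ⊤)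
        Γ((Scheme.Modules.pullback g').obj F, UY) _ _
        (sectionsOver f' _ (V := ⊤) le_top)) ↔
      (letI := secMod f F U; Module.Flat A' (A' ⊗[A] Γ(F, U))) := by
  have hTS : IsAffineOpen (⊤ : (Spec (CommRingCat.of A)).Opens) := isAffineOpen_top _
  have hTS' : IsAffineOpen (⊤ : (Spec (CommRingCat.of A')).Opens) := isAffineOpen_top _
  have hUYaff : IsAffineOpen UY := chart_affine hc hTS hTS' hU le_top le_top hUY
  have hYX : UY ≤ g' ⁻¹ᵁ U := by rw [hUY]; exact inf_le_left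
  have hYT : UY ≤ f' ⁻¹ᵁ ⊤ := le_top
  have hpo := chart_isPushout hc hTS hTS' hU le_top le_top hUY hYX hYT
  have hpo2 : IsPushout ((Scheme.ΓSpecIso (CommRingCat.of A)).inv ≫ f.appLE ⊤ U le_top)
      (CommRingCat.ofHom (algebraMap A A')) (g'.appLE U UY hYX)
      ((Scheme.ΓSpecIso (CommRingCat.of A')).inv ≫ f'.appLE ⊤ UY hYT) := by
    refine IsPushout.of_iso hpo (Scheme.ΓSpecIso (CommRingCat.of A)) (Iso.refl _)
      (Scheme.ΓSpecIso (CommRingCat.of A')) (Iso.refl _) ?_ hg ?_ ?_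
    · simp
    · simp
    · simp
  letI a1 : Algebra A Γ(X, U) := (secHom f U).toAlgebra
  letI a2 : Algebra A' Γ(X', UY) := (secHom f' UY).toAlgebra
  letI a3 : Algebra Γ(X, U) Γ(X', UY) := (g'.appLE U UY hYX).hom.toAlgebra
  letI a4 : Algebra A Γ(X', UY) := ((g'.appLE U UY hYX).hom.comp (secHom f U)).toAlgebra
  haveI t1 : IsScalarTower A Γ(X, U) Γ(X', UY) := .of_algebraMap_eq' rfl
  haveI t2 : IsScalarTower A A' Γ(X', UY) := .of_algebraMap_eq' (by
    have := congrArg CommRingCat.Hom.hom hpo2.w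
    exact this)
  haveI po : Algebra.IsPushout A A' Γ(X, U) Γ(X', UY) := by
    have hpo' : IsPushout (CommRingCat.ofHom (algebraMap A Γ(X, U)))
        (CommRingCat.ofHom (algebraMap A A'))
        (CommRingCat.ofHom (algebraMap Γ(X, U) Γ(X', UY)))
        (CommRingCat.ofHom (algebraMap A' Γ(X', UY))) := hpo2
    exact (CommRingCat.isPushout_iff_isPushout.1 hpo').symm
  let G := (Scheme.Modules.pullback g').obj F
  letI m1 : Module A Γ(F, U) := secMod f F U
  haveI t3 : IsScalarTower A Γ(X, U) Γ(F, U) := IsScalarTower.of_algebraMap_smul fun r m => rfl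
  letI m2 : Module Γ(X, U) Γ(G, UY) := Module.compHom _ (g'.appLE U UY hYX).hom
  haveI t4 : IsScalarTower Γ(X, U) Γ(X', UY) Γ(G, UY) :=
    IsScalarTower.of_algebraMap_smul fun r m => rfl
  letI m3 : Module A' Γ(G, UY) := secMod f' G UY
  haveI t5 : IsScalarTower A' Γ(X', UY) Γ(G, UY) :=
    IsScalarTower.of_algebraMap_smul fun r m => rfl
  obtain ⟨l', -, hb⟩ := isBC_unitRes g' F hU hUYaff hYX
  let e : Γ(G, UY) ≃ₗ[A'] A' ⊗[A] Γ(F, U) :=
    (hb.equiv.symm.restrictScalars A') ≪≫ₗ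
      Algebra.IsPushout.cancelBaseChange A A' Γ(X, U) Γ(X', UY) Γ(F, U)
  have h1 : Module.Flat A' Γ(G, UY) ↔ Module.Flat A' (A' ⊗[A] Γ(F, U)) :=
    ⟨fun _ => Module.Flat.of_linearEquiv e.symm, fun _ => Module.Flat.of_linearEquiv e⟩
  refine Iff.trans ?_ h1
  letI m4 : Module Γ(Spec (CommRingCat.of A'), ⊤) Γ(G, UY) := sectionsOver f' G (V := ⊤) le_top
  exact flat_compHom_ringEquiv (Scheme.ΓSpecIso (CommRingCat.of A')).inv.hom
    (ConcreteCategory.bijective_of_isIso (Scheme.ΓSpecIso (CommRingCat.of A')).inv)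
    Γ(G, UY)

theorem isFlatOver_pullback_iff {X' : Scheme.{u}} {g' : X' ⟶ X}
    {f' : X' ⟶ Spec (CommRingCat.of A')}
    {g : Spec (CommRingCat.of A') ⟶ Spec (CommRingCat.of A)} (hc : IsPullback g' f' f g)
    (hg : (g.appLE ⊤ ⊤ le_top) ≫ (Scheme.ΓSpecIso (CommRingCat.of A')).hom =
      (Scheme.ΓSpecIso (CommRingCat.of A)).hom ≫ CommRingCat.ofHom (algebraMap A A'))
    [F.IsQuasicoherent] (s : Set X.affineOpens)
    (hcov : ∀ x : X, ∃ U ∈ s, x ∈ U.1) :
    FlatMod.IsFlatOver f' ((Scheme.Modules.pullback g').obj F) ↔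
      ∀ U ∈ s, letI := secMod f F U.1; Module.Flat A' (A' ⊗[A] Γ(F, U.1)) := by
  have hs : ∀ U ∈ s, IsAffineOpen U.1 := fun U _ => U.2
  have hTS : IsAffineOpen (⊤ : (Spec (CommRingCat.of A)).Opens) := isAffineOpen_top _
  have hTS' : IsAffineOpen (⊤ : (Spec (CommRingCat.of A')).Opens) := isAffineOpen_top _
  haveI : ((Scheme.Modules.pullback g').obj F).IsQuasicoherent :=
    Groth.Agent.Lead.PB.isQuasicoherent_pullback _ _
  constructor
  · intro h U hUs
    have hUYaff : IsAffineOpen (g' ⁻¹ᵁ U.1 ⊓ f' ⁻¹ᵁ ⊤) :=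
      chart_affine hc hTS hTS' (hs U hUs) le_top le_top rfl
    rw [← chart_flat_iff f F hc hg (hs U hUs) rfl]
    exact flat_sectionsOver_of_isFlatOverAt f' _ hUYaff hTS' le_top (fun z => h z.1)
  · intro h x'
    obtain ⟨U, hUs, hxU⟩ := hcov (g' x')
    have hUYaff : IsAffineOpen (g' ⁻¹ᵁ U.1 ⊓ f' ⁻¹ᵁ ⊤) :=
      chart_affine hc hTS hTS' (hs U hUs) le_top le_top rfl
    have h2 := (chart_flat_iff f F hc hg (hs U hUs) rfl).2 (h U hUs)
    have hx' : x' ∈ g' ⁻¹ᵁ U.1 ⊓ f' ⁻¹ᵁ ⊤ := ⟨hxU, trivial⟩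
    exact (isFlatOverAt_iff_flat_stalkOver f' _ hTS' le_top ⟨x', hx'⟩).2
      (flat_stalkOver_of_flat_sectionsOver f' _ hUYaff le_top ⟨x', hx'⟩ h2)

end Chart

end Groth.Agent.Helper3.GenFlt
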