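import Mathlib
import Groth.Agent.Lib.Helper3.GenFlt7
import Groth.Agent.Lib.Helper3.GenFlt8

/-! The generic flattening ideal of a finitely presented quasi-coherent module on a scheme of
finite presentation over an irreducible affine base (helper3). -/

set_option autoImplicit false
set_option backward.isDefEq.respectTransparency.types false
set_option synthInstance.maxHeartbeats 400000
set_option linter.style.haveILetI false
universe u

open CategoryTheory CategoryTheory.Limits AlgebraicGeometry TopologicalSpace TensorProduct

namespace Groth.Agent.Helper3.GenFlt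

theorem finitePresentation_secHom {A : Type u} [CommRing A] {X : Scheme.{u}}
    (f : X ⟶ Spec (CommRingCat.of A)) [LocallyOfFinitePresentation f] {U : X.Opens}
    (hU : IsAffineOpen U) : (secHom f U).FinitePresentation := by
  have h1 : (f.appLE ⊤ U le_top).hom.FinitePresentation :=
    HasRingHomProperty.appLE (P := @LocallyOfFinitePresentation) f inferInstance
      ⟨⊤, isAffineOpen_top _⟩ ⟨U, hU⟩ le_top
  exact h1.comp (RingHom.FinitePresentation.of_bijective
    (ConcreteCategory.bijective_of_isIso (Scheme.ΓSpecIso (CommRingCat.of A)).inv))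

theorem S4898_main {A : Type u} [CommRing A] [IrreducibleSpace (PrimeSpectrum A)]
    {X : Scheme.{u}} (f : X ⟶ Spec (CommRingCat.of A))
    [LocallyOfFinitePresentation f] [QuasiCompact f] [QuasiSeparated f]
    (F : X.Modules) [Coh.IsQCoh F] (hF : CohB1.IsFP F) :
    ∃ (h : A) (_ : ¬ IsNilpotent h) (J : Ideal (Localization.Away h)) (_ : J.FG)
      (_ : J ≤ nilradical (Localization.Away h)),
      ∀ (A' : Type u) [CommRing A'] [Algebra (Localization.Away h) A'],
        letI g : Spec (CommRingCat.of A') ⟶ Spec (CommRingCat.of A) :=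
          Spec.map (CommRingCat.ofHom ((algebraMap (Localization.Away h) A').comp
            (algebraMap A (Localization.Away h))))
        (FlatMod.IsFlatOver (pullback.snd f g)
            ((Scheme.Modules.pullback (pullback.fst f g)).obj F) ↔
          Ideal.map (algebraMap (Localization.Away h) A') J = ⊥) := by
  have hP : (nilradical A).IsPrime :=
    PrimeSpectrum.irreducibleSpace_iff_isPrime_nilradical.1 inferInstance
  haveI : F.IsQuasicoherent := ‹Coh.IsQCoh F›
  haveI : CompactSpace X := QuasiCompact.compactSpace_of_compactSpace f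
  obtain ⟨s, hsfin, hs⟩ := (isCompact_and_isOpen_iff_finite_and_eq_biUnion_affineOpens (U := (Set.univ : Set X))).1
    ⟨isCompact_univ, isOpen_univ⟩
  have hcov : ∀ x : X, ∃ U ∈ s, x ∈ U.1 := by
    intro x
    have hx : x ∈ (Set.univ : Set X) := trivial
    rw [hs] at hx
    simp only [Set.mem_iUnion] at hx
    obtain ⟨U, hU, hxU⟩ := hx
    exact ⟨U, hU, hxU⟩
  have key : ∀ U : X.affineOpens, Good A (fun A' _ _ =>
      letI := secMod f F U.1; Module.Flat A' (A' ⊗[A] Γ(F, U.1))) := by
    intro U
    letI a1 : Algebra A Γ(X, U.1) := (secHom f U.1).toAlgebra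
    letI m1 : Module A Γ(F, U.1) := secMod f F U.1
    haveI t : IsScalarTower A Γ(X, U.1) Γ(F, U.1) :=
      IsScalarTower.of_algebraMap_smul fun r m => rfl
    haveI : Algebra.FinitePresentation A Γ(X, U.1) := finitePresentation_secHom f U.2
    haveI : Module.FinitePresentation Γ(X, U.1) Γ(F, U.1) :=
      Groth.Agent.Lead.FP.fp_sections_of_isFP F hF U.2
    exact good_flat A Γ(X, U.1) Γ(F, U.1) hP
  obtain ⟨h, hh, J, hJ, hJn, H⟩ := good_finset hP _ hsfin.toFinset (fun U _ => key U)
  refine ⟨h, hh, J, hJ, hJn, fun A' _ _ => ?_⟩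
  letI : Algebra A A' :=
    ((algebraMap (Localization.Away h) A').comp (algebraMap A (Localization.Away h))).toAlgebra
  haveI : IsScalarTower A (Localization.Away h) A' := .of_algebraMap_eq' rfl
  rw [← H A']
  refine (isFlatOver_pullback_iff f F (A' := A') (IsPullback.of_hasPullback f (gMap A A'))
    (gMap_appLE A') s hcov).trans ?_
  constructor
  · intro h U hU
    exact h U (hsfin.mem_toFinset.1 hU)
  · intro h U hU
    exact h U (hsfin.mem_toFinset.2 hU)

end Groth.Agent.Helper3.GenFlt
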