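import Mathlib
import Groth.Prelude.Def_ega3
import Groth.Agent.Lib.Helper2.FlatCxBdd
import Groth.Agent.Lib.Helper2.BcRank
import Groth.Agent.Lib.Helper2.BcBridge2
import Groth.Agent.Lib.Helper3.BcWq
import Groth.Agent.Lib.Helper3.GenFree
import Groth.Agent.Lib.Helper3.FinT

set_option autoImplicit false
universe u
open CategoryTheory Limits MonoidalCategory TensorProduct
open Groth.Agent.Helper2.FlatCx Groth.Agent.Helper2.BcRank Groth.Agent.Helper2.BcBridge
open Groth.Agent.Helper3.BcWq Groth.Agent.Helper3.GenFree

namespace Groth.Agent.Helper3.GenLC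

section LCexact
variable {A : Type u} [CommRing A] (P : ChainComplex (ModuleCat.{u} A) ℤ)
  (hP : ∀ i, Module.Flat A (P.X i))

include hP in
theorem lc_of_exact' (p : ℤ)
    (hfp : Module.FinitePresentation A (CohIII.T P p (ModuleCat.of A A)))
    (hex : (CohIII.TFun P p).PreservesMonomorphisms ∧ (CohIII.TFun P p).PreservesEpimorphisms) :
    IsLocallyConstant (CohIII.dRank P p) := by
  obtain ⟨N, hNflat, ⟨e⟩⟩ := (exact_iff_exists_flat_tensorLeft P hP p).mp hex
  let eN : CohIII.T P p (ModuleCat.of A A) ≃ₗ[A] N :=
    (e.app (ModuleCat.of A A) ≪≫ MonoidalCategory.rightUnitor N).toLinearEquiv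
  haveI : Module.FinitePresentation A N := Module.FinitePresentation.of_equiv eN
  have h : CohIII.dRank P p = Module.rankAtStalk (R := A) N := by
    funext x
    rw [dRank_eq_of_tensorLeft P p N e x]
    exact (Module.rankAtStalk_eq x).symm
  rw [h]
  exact Module.isLocallyConstant_rankAtStalk

end LCexact

section Away
variable {A : Type u} [CommRing A]

theorem flat_away' (M : Type u) [AddCommGroup M] [Module A M] [Module.FinitePresentation A M]
    (f : A) (h : (PrimeSpectrum.basicOpen f : Set (PrimeSpectrum A)) ⊆ Module.freeLocus A M) :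
    Module.Flat (Localization.Away f) (Localization.Away f ⊗[A] M) := by
  haveI : Module.Projective (Localization.Away f) (LocalizedModule.Away f M) :=
    Module.basicOpen_subset_freeLocus_iff.mp h
  exact Module.Flat.of_linearEquiv
    (LocalizedModule.equivTensorProduct (Submonoid.powers f) M).symm

end Away

section Reduced
variable {A : Type u} [CommRing A] [IsNoetherianRing A] [IsReduced A]

theorem minimal_mem_freeLocus (M : Type u) [AddCommGroup M] [Module A M]
    (𝔭 : PrimeSpectrum A) (h𝔭 : 𝔭.asIdeal ∈ minimalPrimes A) : 𝔭 ∈ Module.freeLocus A M := by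
  rw [Module.mem_freeLocus]
  haveI : Ring.KrullDimLE 0 (Localization.AtPrime 𝔭.asIdeal) := by
    rw [Ring.krullDimLE_iff,
      IsLocalization.AtPrime.ringKrullDim_eq_height 𝔭.asIdeal (Localization.AtPrime 𝔭.asIdeal),
      Ideal.height_eq_zero_iff.2 h𝔭]
    simp
  have hfield : IsField (Localization.AtPrime 𝔭.asIdeal) := Ring.KrullDimLE.isField_of_isReduced
  letI : Field (Localization.AtPrime 𝔭.asIdeal) := hfield.toField
  infer_instance

omit [IsNoetherianRing A] [IsReduced A] in
theorem dense_of_minimal (U : Set (PrimeSpectrum A))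
    (hU : ∀ 𝔭 : PrimeSpectrum A, 𝔭.asIdeal ∈ minimalPrimes A → 𝔭 ∈ U) : Dense U := by
  intro x
  obtain ⟨q, hq, hqx⟩ := Ideal.exists_minimalPrimes_le (I := ⊥) (J := x.asIdeal) bot_le
  haveI := hq.1.1
  let 𝔮 : PrimeSpectrum A := ⟨q, hq.1.1⟩
  have hs : 𝔮 ⤳ x := (PrimeSpectrum.le_iff_specializes 𝔮 x).1 hqx
  exact closure_mono (Set.singleton_subset_iff.2 (hU 𝔮 hq)) (specializes_iff_mem_closure.1 hs)

variable (P : ChainComplex (ModuleCat.{u} A) ℤ) (hP : ∀ i, Module.Flat A (P.X i))
  (i₀ : ℤ) (hb : ∀ i < i₀, IsZero (P.X i)) (hfg : ∀ n : ℤ, Module.Finite A (P.homology n))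

include hP hb hfg in
theorem lc_reduced (N : ℤ) :
    ∃ U : Set (PrimeSpectrum A), IsOpen U ∧ Dense U ∧
      ∀ p ≤ N, ∀ y ∈ U, ∀ᶠ x in nhds y, CohIII.dRank P p x = CohIII.dRank P p y := by
  haveI : ∀ n, Module.FinitePresentation A (P.homology n) := fun n =>
    haveI := hfg n
    Module.finitePresentation_of_finite A _
  let U : Set (PrimeSpectrum A) := ⋂ n ∈ Finset.Icc i₀ N, Module.freeLocus A (P.homology n)
  have hUo : IsOpen U := isOpen_biInter_finset (fun i _ => Module.isOpen_freeLocus)
  refine ⟨U, hUo, ?_, ?_⟩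
  · apply dense_of_minimal
    intro 𝔭 h𝔭
    simp only [U, Set.mem_iInter]
    intro n _
    exact minimal_mem_freeLocus _ 𝔭 h𝔭
  · intro p hp y hy
    obtain ⟨V, ⟨f, rfl⟩, hyf, hfU⟩ :=
      PrimeSpectrum.isTopologicalBasis_basic_opens.exists_subset_of_mem_open hy hUo
    have hf : ∀ n ∈ Finset.Icc i₀ N,
        (PrimeSpectrum.basicOpen f : Set (PrimeSpectrum A)) ⊆ Module.freeLocus A (P.homology n) := by
      intro n hn x hx
      have := hfU hx
      simp only [U, Set.mem_iInter] at this
      exact this n hn
    -- pass to the localization away from f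
    have hPf := flat_bcCx (Localization.Away f) P hP
    have hbf : ∀ i < i₀, IsZero ((CohIII.bcCx (algebraMap A (Localization.Away f)) P).X i) :=
      fun i hi => Functor.map_isZero
        (ModuleCat.extendScalars.{u, u, u} (algebraMap A (Localization.Away f))) (hb i hi)
    have hex : ∀ q ≤ N,
        (CohIII.TFun (CohIII.bcCx (algebraMap A (Localization.Away f)) P) q).PreservesMonomorphisms ∧
        (CohIII.TFun (CohIII.bcCx (algebraMap A (Localization.Away f)) P)
          q).PreservesEpimorphisms := by
      rw [exact_upTo_iff_flat _ hPf i₀ hbf N]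
      intro q hq
      change Module.Flat (Localization.Away f)
        (CohIII.T (CohIII.bcCx (algebraMap A (Localization.Away f)) P) q
          (ModuleCat.of (Localization.Away f) (Localization.Away f)))
      by_cases hq0 : q < i₀
      · haveI := FinT.subsingleton_T _ i₀ hbf q hq0
          (ModuleCat.of (Localization.Away f) (Localization.Away f))
        infer_instance
      · haveI := flat_away' (P.homology q) f (hf q (Finset.mem_Icc.2 ⟨by omega, hq⟩))
        exact Module.Flat.of_linearEquiv (tbEquiv (Localization.Away f) P q)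
    haveI : IsNoetherianRing (Localization.Away f) :=
      IsLocalization.isNoetherianRing (Submonoid.powers f) _ inferInstance
    have hfp : Module.FinitePresentation (Localization.Away f)
        (CohIII.T (CohIII.bcCx (algebraMap A (Localization.Away f)) P) p
          (ModuleCat.of (Localization.Away f) (Localization.Away f))) := by
      haveI := hfg p
      haveI : Module.Finite (Localization.Away f) (Localization.Away f ⊗[A] P.homology p) :=
        Module.Finite.base_change A (Localization.Away f) (P.homology p)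
      haveI : Module.Finite (Localization.Away f)
          (CohIII.T (CohIII.bcCx (algebraMap A (Localization.Away f)) P) p
            (ModuleCat.of (Localization.Away f) (Localization.Away f))) :=
        Module.Finite.equiv (tbEquiv (Localization.Away f) P p).symm
      exact Module.finitePresentation_of_finite _ _
    have hlc := lc_of_exact' _ hPf p hfp (hex p hp)
    -- transport along the open embedding
    have hemb := PrimeSpectrum.localization_away_isOpenEmbedding (Localization.Away f) f
    have hrange := PrimeSpectrum.localization_away_comap_range (Localization.Away f) f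
    obtain ⟨y'', rfl⟩ : y ∈ Set.range (PrimeSpectrum.comap (algebraMap A (Localization.Away f))) := by
      rw [hrange]
      exact hyf
    have hV := hlc.isOpen_fiber (CohIII.dRank
      (CohIII.bcCx (algebraMap A (Localization.Away f)) P) p y'')
    have hV' := hemb.isOpenMap _ hV
    have hmem : PrimeSpectrum.comap (algebraMap A (Localization.Away f)) y'' ∈
        PrimeSpectrum.comap (algebraMap A (Localization.Away f)) ''
          {x | CohIII.dRank (CohIII.bcCx (algebraMap A (Localization.Away f)) P) p x =
            CohIII.dRank (CohIII.bcCx (algebraMap A (Localization.Away f)) P) p y''} :=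
      ⟨y'', rfl, rfl⟩
    filter_upwards [hV'.mem_nhds hmem] with x hx
    obtain ⟨x'', hx'', rfl⟩ := hx
    rw [← dRank_bcCx, ← dRank_bcCx]
    exact hx''

end Reduced

section Main
variable {A : Type u} [CommRing A] [IsNoetherianRing A]
variable (P : ChainComplex (ModuleCat.{u} A) ℤ) (hP : ∀ i, Module.Flat A (P.X i))
  (i₀ : ℤ) (hb : ∀ i < i₀, IsZero (P.X i))
  (hfg : ∀ n : ℤ, Module.Finite A (CohIII.T P n (ModuleCat.of A A)))

include hP hb hfg in
theorem finite_homology_bc (B : Type u) [CommRing B] [Algebra A B] [Module.Finite A B] (n : ℤ) :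
    Module.Finite B ((CohIII.bcCx (algebraMap A B) P).homology n) := by
  let φ : A →+* B := algebraMap A B
  let H : ModuleCat.{u} B := (CohIII.bcCx φ P).homology n
  let V := ((ModuleCat.restrictScalars.{u, u, u} φ).obj H)
  letI : Module B V := inferInstanceAs (Module B H)
  haveI : IsScalarTower A B V := by
    refine ⟨fun a c v => ?_⟩
    rw [ModuleCat.restrictScalars.smul_def, Algebra.smul_def]
    exact mul_smul (φ a) c (v : H)
  let β : V ≃ₗ[A] CohIII.T P n (ModuleCat.of A B) :=
    (bridgeIso φ P n).toLinearEquiv.trans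
      ((CohIII.TFun P n).mapIso (mbEquiv (A := A) B).toModuleIso).toLinearEquiv
  haveI : Module.Finite A (CohIII.T P n (ModuleCat.of A B)) :=
    FinT.finite_T' P hP i₀ hb hfg n B
  haveI : Module.Finite A V := Module.Finite.equiv β.symm
  have hfinV : Module.Finite B V := Module.Finite.of_restrictScalars_finite A B V
  exact hfinV

include hP hb hfg in
theorem main_S4487 (N : ℤ) :
    ∃ U : Set (PrimeSpectrum A), IsOpen U ∧ Dense U ∧
      ∀ p ≤ N, IsLocallyConstant (fun x : U => CohIII.dRank P p x) := by
  let I : Ideal A := nilradical A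
  haveI : IsReduced (A ⧸ I) :=
    (Ideal.isRadical_iff_quotient_reduced I).1 (Ideal.radical_isRadical _)
  let P' := CohIII.bcCx (algebraMap A (A ⧸ I)) P
  have hP' := flat_bcCx (A ⧸ I) P hP
  have hb' : ∀ i < i₀, IsZero (P'.X i) := fun i hi => Functor.map_isZero
    (ModuleCat.extendScalars.{u, u, u} (algebraMap A (A ⧸ I))) (hb i hi)
  have hfg' : ∀ n, Module.Finite (A ⧸ I) (P'.homology n) :=
    fun n => finite_homology_bc P hP i₀ hb hfg (A ⧸ I) n
  obtain ⟨U', hU'o, hU'd, hU'⟩ := lc_reduced P' hP' i₀ hb' hfg' N
  have hhom : IsHomeomorph (PrimeSpectrum.comap (algebraMap A (A ⧸ I))) := by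
    apply PrimeSpectrum.isHomeomorph_comap
    · intro x
      obtain ⟨a, rfl⟩ := Ideal.Quotient.mk_surjective x
      exact ⟨1, Nat.one_pos, a, by simp⟩
    · intro a ha
      have : (Ideal.Quotient.mk I) a = 0 := ha
      rw [Ideal.Quotient.eq_zero_iff_mem] at this
      exact this
  refine ⟨PrimeSpectrum.comap (algebraMap A (A ⧸ I)) '' U', hhom.isOpenMap _ hU'o,
    hhom.surjective.denseRange.dense_image hhom.continuous hU'd, ?_⟩
  intro p hp
  rw [IsLocallyConstant.iff_eventually_eq]
  rintro ⟨y, y', hy', rfl⟩
  have h1 := hU' p hp y' hy'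
  -- push forward along the homeomorphism
  have h2 : ∀ᶠ x in nhds (PrimeSpectrum.comap (algebraMap A (A ⧸ I)) y'),
      CohIII.dRank P p x = CohIII.dRank P p (PrimeSpectrum.comap (algebraMap A (A ⧸ I)) y') := by
    refine Filter.Eventually.filter_mono (hhom.isOpenMap.nhds_le y') ?_
    rw [Filter.eventually_map]
    filter_upwards [h1] with x' hx'
    rw [← dRank_bcCx, ← dRank_bcCx]
    exact hx'
  exact (continuous_subtype_val.tendsto
    (⟨PrimeSpectrum.comap (algebraMap A (A ⧸ I)) y', y', hy', rfl⟩ :
      ↥(PrimeSpectrum.comap (algebraMap A (A ⧸ I)) '' U'))).eventually h2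

end Main

end Groth.Agent.Helper3.GenLC
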