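import Mathlib.Topology.Sober
import Mathlib.Topology.Irreducible
import Mathlib.Topology.Inseparable

/-! Irreducible components and generalizing maps between quasi-sober spaces. -/

namespace Groth.Agent.Helper3

variable {X Y : Type*} [TopologicalSpace X] [TopologicalSpace Y] [QuasiSober X] [QuasiSober Y]
  [T0Space Y]

/-- generic point of an irreducible component -/
theorem exists_genericPoint_of_mem_irreducibleComponents {T : Set X}
    (hT : T ∈ irreducibleComponents X) : ∃ ξ, closure {ξ} = T := by
  have h1 : IsIrreducible T := hT.1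
  have h2 : IsClosed T := isClosed_of_mem_irreducibleComponents T hT
  exact ⟨h1.genericPoint, h1.closure_genericPoint h2⟩

theorem closure_image_mem_irreducibleComponents {f : X → Y} (hc : Continuous f)
    (hf : GeneralizingMap f) {T : Set X} (hT : T ∈ irreducibleComponents X) :
    closure (f '' T) ∈ irreducibleComponents Y ∧
      ∀ ξ, closure {ξ} = T → closure {f ξ} = closure (f '' T) := by
  obtain ⟨ξ, hξ⟩ := exists_genericPoint_of_mem_irreducibleComponents hT
  have e : ∀ ξ, closure {ξ} = T → closure {f ξ} = closure (f '' T) := by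
    intro ξ hξ
    rw [← hξ]
    apply subset_antisymm
    · exact closure_mono (by
        rintro _ rfl
        exact ⟨ξ, subset_closure rfl, rfl⟩)
    · rw [IsClosed.closure_subset_iff isClosed_closure]
      have := image_closure_subset_closure_image hc (s := {ξ})
      simpa using this
  refine ⟨?_, e⟩
  rw [← e ξ hξ]
  refine ⟨isIrreducible_singleton.closure, ?_⟩
  intro Z hZ hle
  -- Z irreducible containing closure {f ξ}
  have hZc : IsIrreducible (closure Z) := hZ.closure
  let η := hZc.genericPoint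
  have hη : closure {η} = closure Z := hZc.closure_genericPoint isClosed_closure
  have hspec : η ⤳ f ξ := by
    rw [specializes_iff_mem_closure, hη]
    exact subset_closure (hle (subset_closure rfl))
  obtain ⟨ξ', hξ', hfξ'⟩ := hf hspec
  -- closure {ξ'} ⊇ T irreducible so equal
  have hsub : T ≤ closure {ξ'} := by
    rw [← hξ]
    exact (IsClosed.closure_subset_iff isClosed_closure).mpr
      (Set.singleton_subset_iff.mpr (specializes_iff_mem_closure.mp hξ'))
  have heq : closure {ξ'} ≤ T := hT.2 isIrreducible_singleton.closure hsub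
  have h2 : ξ ⤳ ξ' := by
    rw [specializes_iff_mem_closure, hξ]
    exact heq (subset_closure rfl)
  have h3 : f ξ ⤳ η := hfξ' ▸ h2.map hc
  have h4 : f ξ = η := (h3.antisymm hspec).eq
  rw [h4, hη]
  exact subset_closure


theorem irreducibleComponents_locallyFinite_of_generalizingMap {f : X → Y} (hc : Continuous f)
    (hf : GeneralizingMap f)
    (hY : ∀ y : Y, ∃ U : Set Y, IsOpen U ∧ y ∈ U ∧
      {Z ∈ irreducibleComponents Y | (Z ∩ U).Nonempty}.Finite)
    (hfin : ∀ y : Y, (f ⁻¹' {y}).Finite) (x : X) :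
    ∃ U : Set X, IsOpen U ∧ x ∈ U ∧ {T ∈ irreducibleComponents X | (T ∩ U).Nonempty}.Finite := by
  obtain ⟨U', hU'o, hxU', hS⟩ := hY (f x)
  refine ⟨f ⁻¹' U', hU'o.preimage hc, hxU', ?_⟩
  set S := {Z ∈ irreducibleComponents Y | (Z ∩ U').Nonempty} with hSdef
  let G : Set X := ⋃ Z ∈ S, {ξ | closure {f ξ} = Z}
  have hG : G.Finite := by
    refine Set.Finite.biUnion hS fun Z _ => ?_
    by_cases hne : {ξ | closure {f ξ} = Z}.Nonempty
    · obtain ⟨ξ₀, hξ₀⟩ := hne
      refine (hfin (f ξ₀)).subset ?_
      intro ξ hξ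
      have h1 : closure {f ξ} = closure {f ξ₀} := by rw [hξ, hξ₀]
      exact ((inseparable_iff_closure_eq.mpr h1).eq : f ξ = f ξ₀)
    · rw [Set.not_nonempty_iff_eq_empty.mp hne]
      exact Set.finite_empty
  refine (hG.image (fun ξ => closure {ξ})).subset ?_
  rintro T ⟨hT, t, htT, htU⟩
  obtain ⟨ξ, hξ⟩ := exists_genericPoint_of_mem_irreducibleComponents hT
  obtain ⟨hZ, hgen⟩ := closure_image_mem_irreducibleComponents hc hf hT
  refine ⟨ξ, ?_, hξ⟩
  have hξt : ξ ⤳ t := by
    rw [specializes_iff_mem_closure, hξ]; exact htT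
  have hξU : ξ ∈ f ⁻¹' U' := hξt.mem_open (hU'o.preimage hc) htU
  simp only [G, Set.mem_iUnion, Set.mem_ofPred_eq]
  refine ⟨closure (f '' T), ⟨hZ, f ξ, ?_, hξU⟩, hgen ξ hξ⟩
  rw [← hgen ξ hξ]
  exact subset_closure rfl

end Groth.Agent.Helper3
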