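import Mathlib
import Groth.Prelude.Def_Curv2
import Groth.Agent.S7600
import Groth.Agent.Lib.Helper8.ABS13
import Groth.Agent.Lib.Helper8.FlatReg9

/-!
# Descent of geometric regularity at a point along a finitely generated field extension
-/

set_option autoImplicit false
universe u

namespace Groth.Agent.Helper3.GeoRegDesc1

open CategoryTheory CategoryTheory.Limits AlgebraicGeometry

/-- the compositum of `k'` and a finitely generated `K` inside `M` is finitely generated
over `k'`. -/
theorem exists_fg_subfield {k k' K M : Type u} [Field k] [Field k'] [Field K] [Field M]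
    [Algebra k k'] [Algebra k K] [Algebra k M] [Algebra k' M] [Algebra K M]
    [IsScalarTower k k' M] [IsScalarTower k K M] (hK : (⊤ : IntermediateField k K).FG) :
    ∃ E : IntermediateField k' M, E.FG ∧ ∀ x : K, algebraMap K M x ∈ E := by
  obtain ⟨S, hS⟩ := hK
  refine ⟨IntermediateField.adjoin k' ((algebraMap K M) '' (S : Set K)),
    IntermediateField.fg_adjoin_of_finite (S.finite_toSet.image _), ?_⟩
  intro x
  let N : IntermediateField k M :=
    (IntermediateField.adjoin k' ((algebraMap K M) '' (S : Set K))).restrictScalars k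
  have h1 : IntermediateField.adjoin k (S : Set K) ≤ N.comap (IsScalarTower.toAlgHom k K M) := by
    rw [IntermediateField.adjoin_le_iff]
    intro s hs
    show (IsScalarTower.toAlgHom k K M) s ∈ N
    exact IntermediateField.subset_adjoin k' _ ⟨s, hs, rfl⟩
  have h2 : x ∈ N.comap (IsScalarTower.toAlgHom k K M) := h1 (hS ▸ IntermediateField.mem_top)
  exact h2

theorem bcTrans_comp {k : Type u} [Field k] {X : Scheme.{u}} (f : X ⟶ Spec (CommRingCat.of k))
    (K L M : Type u) [Field K] [Field L] [Field M] [Algebra k K] [Algebra k L] [Algebra k M]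
    [Algebra K L] [Algebra L M] [Algebra K M] [IsScalarTower k K L] [IsScalarTower k L M]
    [IsScalarTower k K M] [IsScalarTower K L M] :
    Groth.Agent.S7591.bcTrans f L M ≫ Groth.Agent.S7591.bcTrans f K L =
      Groth.Agent.S7591.bcTrans f K M := by
  apply pullback.hom_ext
  · rw [Category.assoc]
    erw [Groth.Agent.S7591.bcTrans_fst f K L, Groth.Agent.S7591.bcTrans_fst f L M,
      Groth.Agent.S7591.bcTrans_fst f K M]
  · rw [Category.assoc]
    erw [Groth.Agent.S7591.bcTrans_snd f K L]
    rw [← Category.assoc]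
    erw [Groth.Agent.S7591.bcTrans_snd f L M, Groth.Agent.S7591.bcTrans_snd f K M]
    rw [Category.assoc, ← Spec.map_comp, ← CommRingCat.ofHom_comp,
      ← IsScalarTower.algebraMap_eq]

theorem main (k : Type u) [Field k] (X : Scheme.{u}) [X.Over (Spec (CommRingCat.of k))]
    (k' : Type u) [Field k'] [Algebra k k']
    (x' : ↥(Curv2.bc k X k'))
    (h : @Curv2.IsGeomRegularAt k' _ (Curv2.bc k X k') ⟨Curv2.bcSnd k X k'⟩ x') :
    Curv2.IsGeomRegularAt k X (Curv2.bcFst k X k' x') := by
  intro K _ _ hK y hy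
  obtain ⟨M, _, _, _, _, _, _, x₂, hx₂1, hx₂2⟩ := Groth.Agent.S4630.exists_common_point
    (X ↘ Spec (CommRingCat.of k)) x' y hy.symm
  obtain ⟨E, hE, hKE⟩ := exists_fg_subfield (k := k) (k' := k') (K := K) (M := M) hK
  letI : Algebra K E := (RingHom.codRestrict (algebraMap K M) E hKE).toAlgebra
  haveI : IsScalarTower k E M := IsScalarTower.of_algebraMap_eq fun x => rfl
  haveI : IsScalarTower K E M := IsScalarTower.of_algebraMap_eq fun x => rfl
  haveI : IsScalarTower k K E := IsScalarTower.of_algebraMap_eq fun x => Subtype.ext (by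
    show algebraMap k M x = algebraMap K M (algebraMap k K x)
    exact IsScalarTower.algebraMap_apply k K M x)
  have hEtop : (⊤ : IntermediateField k' E).FG :=
    IntermediateField.fg_top_iff.mpr (IntermediateField.essFiniteType_iff.mpr hE)
  let f := (X ↘ Spec (CommRingCat.of k))
  let x₃ : ↥(Groth.Agent.S2502.bc f E) := Groth.Agent.S7591.bcTrans f E M x₂
  have hx₃1 : Groth.Agent.S7591.bcTrans f k' E x₃ = x' := by
    rw [← hx₂1, ← bcTrans_comp f k' E M]; rfl
  have hx₃2 : Groth.Agent.S7591.bcTrans f K E x₃ = y := by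
    rw [← hx₂2, ← bcTrans_comp f K E M]; rfl
  have hpb := Groth.Agent.S7591.isPullback_bcTrans f k' E
  obtain ⟨e⟩ := Groth.Agent.S4630.stalk_bc_bc_equiv f k' E x₃
  have h1 := h E hEtop (hpb.isoPullback.hom x₃) (by
    have e5 := congrArg (fun g => g x₃) hpb.isoPullback_hom_fst
    simp only [Scheme.Hom.comp_apply] at e5
    exact e5.trans hx₃1)
  haveI hr1 : IsRegularLocalRing ((Groth.Agent.S2502.bc
      (pullback.snd f (Spec.map (CommRingCat.ofHom (algebraMap k k'))))
      E).presheaf.stalk (hpb.isoPullback.hom x₃)) := h1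
  haveI hr : IsRegularLocalRing ((Groth.Agent.S2502.bc f E).presheaf.stalk x₃) :=
    IsRegularLocalRing.of_ringEquiv e.symm
  subst hx₃2
  haveI := Groth.Agent.S1545.flat_bcTrans f K E
  letI : Algebra ((Groth.Agent.S2502.bc f K).presheaf.stalk
      ((Groth.Agent.S7591.bcTrans f K E) x₃))
      ((Groth.Agent.S2502.bc f E).presheaf.stalk x₃) :=
    ((Groth.Agent.S7591.bcTrans f K E).stalkMap x₃).hom.toAlgebra
  haveI := Groth.Agent.S7600.faithfullyFlat_stalkMap_of_flat (Groth.Agent.S7591.bcTrans f K E) x₃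
  haveI : IsLocalHom (algebraMap ((Groth.Agent.S2502.bc f K).presheaf.stalk
      ((Groth.Agent.S7591.bcTrans f K E) x₃))
      ((Groth.Agent.S2502.bc f E).presheaf.stalk x₃)) :=
    inferInstanceAs (IsLocalHom ((Groth.Agent.S7591.bcTrans f K E).stalkMap x₃).hom)
  haveI : IsNoetherianRing ((Groth.Agent.S2502.bc f K).presheaf.stalk
      ((Groth.Agent.S7591.bcTrans f K E) x₃)) :=
    Groth.Agent.Helper8.FlatReg.isNoetherianRing_of_faithfullyFlat _
      ((Groth.Agent.S2502.bc f E).presheaf.stalk x₃)
  exact Groth.Agent.Helper8.ABS.isRegularLocalRing_of_flat _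
    ((Groth.Agent.S2502.bc f E).presheaf.stalk x₃)

end Groth.Agent.Helper3.GeoRegDesc1
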