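import Mathlib

/-!
# Geometric irreducibility from the generic fibre of a flat morphism
-/

set_option autoImplicit false
universe u

namespace Groth.Agent.Helper3.GeomIrrFib1

open CategoryTheory CategoryTheory.Limits AlgebraicGeometry

/-- Let `f : X ⟶ C` and `q : C' ⟶ C` be flat with `C`, `C'` irreducible, and assume the generic
fibre of `f` is geometrically irreducible.  Then `X ×_C C'` is irreducible. -/
theorem irreducibleSpace_pullback_of_flat {X C C' : Scheme.{u}} (f : X ⟶ C) (q : C' ⟶ C)
    [Flat f] [Flat q] [IrreducibleSpace C] [IrreducibleSpace C']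
    [GeometricallyIrreducible (f.fiberToSpecResidueField (genericPoint C))] :
    IrreducibleSpace ↥(pullback f q) := by
  set η' := genericPoint C' with hη'
  -- the generic point goes to the generic point
  have hq : q η' = genericPoint C := by
    have hgen : GeneralizingMap q := Flat.generalizingMap q
    obtain ⟨c', hc', hc'q⟩ := hgen (genericPoint_specializes (q η'))
    have : c' = η' := (hc'.antisymm (genericPoint_specializes c')).eq
    rw [← this, hc'q]
  have hall : ∀ c : C, c = genericPoint C →
      GeometricallyIrreducible (f.fiberToSpecResidueField c) := by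
    rintro _ rfl; infer_instance
  haveI : GeometricallyIrreducible (f.fiberToSpecResidueField (q η')) := hall _ hq
  have hpb := isPullback_fiberToSpecResidueField_of_isPullback (IsPullback.of_hasPullback f q) η'
  haveI hF : IrreducibleSpace ↥((pullback.snd f q).fiber η') :=
    GeometricallyIrreducible.geometrically_irreducibleSpace
      (f := f.fiberToSpecResidueField (q η')) _ _ _ hpb
  have hgen' : GeneralizingMap (pullback.snd f q) := Flat.generalizingMap (pullback.snd f q)
  have hirr : IsIrreducible (Set.range ((pullback.snd f q).fiberι η')) := by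
    rw [← Set.image_univ]
    exact (IrreducibleSpace.isIrreducible_univ _).image _
      ((pullback.snd f q).fiberι η').continuous.continuousOn
  have hdense : closure (Set.range ((pullback.snd f q).fiberι η')) = Set.univ := by
    rw [(pullback.snd f q).range_fiberι η']
    apply Set.eq_univ_of_forall
    intro z
    obtain ⟨z', hz', hz'g⟩ := hgen' (genericPoint_specializes ((pullback.snd f q) z))
    have h1 : z' ∈ (pullback.snd f q) ⁻¹' {η'} := hz'g
    have h2 : z ∈ closure {z'} := specializes_iff_mem_closure.mp hz'
    exact closure_mono (Set.singleton_subset_iff.mpr h1) h2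
  rw [irreducibleSpace_def, Set.top_eq_univ, ← hdense]
  exact hirr.closure

theorem main (k : Type u) [Field k]
    (X C : Scheme.{u}) [X.Over (Spec (CommRingCat.of k))] [C.Over (Spec (CommRingCat.of k))]
    (f : X ⟶ C) [f.IsOver (Spec (CommRingCat.of k))] [IrreducibleSpace C]
    [GeometricallyIrreducible (C ↘ Spec (CommRingCat.of k))] [Flat f]
    [GeometricallyIrreducible (f.fiberToSpecResidueField (genericPoint C))] :
    GeometricallyIrreducible (X ↘ Spec (CommRingCat.of k)) := by
  refine ⟨geometrically_iff_of_isClosedUnderIsomorphisms.mpr fun K _ x ↦ ?_⟩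
  have e : X ↘ Spec (CommRingCat.of k) = f ≫ (C ↘ Spec (CommRingCat.of k)) :=
    (comp_over f (Spec (CommRingCat.of k))).symm
  suffices h : IrreducibleSpace ↥(pullback (f ≫ (C ↘ Spec (CommRingCat.of k))) x) by
    have : ∀ g : X ⟶ Spec (CommRingCat.of k), g = f ≫ (C ↘ Spec (CommRingCat.of k)) →
        IrreducibleSpace ↥(pullback g x) := by
      rintro _ rfl; exact h
    exact this _ e
  rw [← (pullbackRightPullbackFstIso (C ↘ Spec (CommRingCat.of k)) x f).hom.homeomorph.irreducibleSpace_iff]
  haveI : IrreducibleSpace ↥(pullback (C ↘ Spec (CommRingCat.of k)) x) :=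
    pullback_of_geometrically
      (GeometricallyIrreducible.geometrically_irreducibleSpace
        (f := C ↘ Spec (CommRingCat.of k))) K x
  haveI : Flat x := inferInstance
  haveI : Flat (pullback.fst (C ↘ Spec (CommRingCat.of k)) x) := inferInstance
  exact irreducibleSpace_pullback_of_flat f (pullback.fst (C ↘ Spec (CommRingCat.of k)) x)

end Groth.Agent.Helper3.GeomIrrFib1
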