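import Mathlib.AlgebraicGeometry.Geometrically.Basic
import Mathlib.AlgebraicGeometry.PullbackCarrier

/-! If `h : X ⟶ Y` is a surjective `S`-morphism and `X` is geometrically `P` over `S`,
then so is `Y`, for properties `P` inherited by surjective images. -/

namespace Groth.Agent.Helper3

open AlgebraicGeometry CategoryTheory Limits

universe u

theorem geometrically_of_surjective {P : ObjectProperty Scheme.{u}} [P.IsClosedUnderIsomorphisms]
    (hP : ∀ {Z W : Scheme.{u}} (q : Z ⟶ W) [Surjective q], P Z → P W)
    {X Y S : Scheme.{u}} (f : X ⟶ S) (g : Y ⟶ S) (h : X ⟶ Y) (w : h ≫ g = f) [Surjective h]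
    (hf : geometrically P f) : geometrically P g := by
  subst w
  rw [geometrically_iff_of_isClosedUnderIsomorphisms] at hf ⊢
  intro K _ y
  have h1 : P (pullback h (pullback.fst g y)) :=
    P.prop_of_iso (pullbackRightPullbackFstIso g y h).symm (hf K y)
  exact hP (pullback.snd h (pullback.fst g y)) h1

theorem irreducibleSpace_of_surjective {X Y : Type*} [TopologicalSpace X] [TopologicalSpace Y]
    [IrreducibleSpace X] (f : X → Y) (hf : Continuous f) (hs : Function.Surjective f) :
    IrreducibleSpace Y := by
  rw [irreducibleSpace_def, Set.top_eq_univ, ← Set.image_univ_of_surjective hs]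
  exact (IrreducibleSpace.isIrreducible_univ X).image f hf.continuousOn

/-- Descent of `geometrically P` along a surjective base change. -/
theorem geometrically_of_surjective_baseChange {P : ObjectProperty Scheme.{u}}
    [P.IsClosedUnderIsomorphisms]
    (hP : ∀ {Z W : Scheme.{u}} (q : Z ⟶ W) [Surjective q], P Z → P W)
    {X Y Y' : Scheme.{u}} (f : X ⟶ Y) (g : Y' ⟶ Y) [Surjective g]
    (h : geometrically P (pullback.snd f g)) : geometrically P f := by
  rw [geometrically_iff_of_isClosedUnderIsomorphisms] at h ⊢
  intro K _ y
  -- a point of `Spec K ×[Y] Y'`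
  obtain ⟨z⟩ : Nonempty ↥(pullback y g) := by
    obtain ⟨z, -⟩ := (pullback.fst y g).surjective (Classical.arbitrary _)
    exact ⟨z⟩
  let L := (pullback y g).residueField z
  let a : Spec L ⟶ Spec (.of K) := (pullback y g).fromSpecResidueField z ≫ pullback.fst y g
  let b : Spec L ⟶ Y' := (pullback y g).fromSpecResidueField z ≫ pullback.snd y g
  have hab : a ≫ y = b ≫ g := by
    simp only [a, b, Category.assoc, pullback.condition]
  have ha : Surjective a := ⟨fun x => ⟨Classical.arbitrary _, Subsingleton.elim _ _⟩⟩
  have h1 : P (pullback (pullback.snd f g) b) := h L b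
  have h2 : P (pullback f (b ≫ g)) := P.prop_of_iso (pullbackLeftPullbackSndIso f g b) h1
  have h3 : P (pullback f (a ≫ y)) := hab ▸ h2
  have h4 : P (pullback (pullback.snd f y) a) :=
    P.prop_of_iso (pullbackLeftPullbackSndIso f y a).symm h3
  exact hP (pullback.fst (pullback.snd f y) a) h4

end Groth.Agent.Helper3
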