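import Groth.Agent.Lib.Helper3.GeomSurj
import Mathlib.AlgebraicGeometry.Geometrically.Reduced
import Mathlib.AlgebraicGeometry.Geometrically.Integral
import Mathlib.AlgebraicGeometry.Geometrically.Connected
import Mathlib.AlgebraicGeometry.Morphisms.SchemeTheoreticallyDominant

/-! Descent of `geometrically P` along a surjective base change, for properties `P` inherited along
flat quasi-compact surjections (e.g. reducedness). -/

namespace Groth.Agent.Helper3

open AlgebraicGeometry CategoryTheory Limits

universe u

/-- Descent of `geometrically P` along a surjective base change (flat version). -/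
theorem geometrically_of_surjective_baseChange_flat {P : ObjectProperty Scheme.{u}}
    [P.IsClosedUnderIsomorphisms]
    (hP : ∀ {Z W : Scheme.{u}} (q : Z ⟶ W) [Surjective q] [Flat q] [QuasiCompact q], P Z → P W)
    {X Y Y' : Scheme.{u}} (f : X ⟶ Y) (g : Y' ⟶ Y) [Surjective g]
    (h : geometrically P (pullback.snd f g)) : geometrically P f := by
  rw [geometrically_iff_of_isClosedUnderIsomorphisms] at h ⊢
  intro K _ y
  obtain ⟨z⟩ : Nonempty ↥(pullback y g) := by
    obtain ⟨z, -⟩ := (pullback.fst y g).surjective (Classical.arbitrary _)
    exact ⟨z⟩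
  let L := (pullback y g).residueField z
  let a : Spec L ⟶ Spec (.of K) := (pullback y g).fromSpecResidueField z ≫ pullback.fst y g
  let b : Spec L ⟶ Y' := (pullback y g).fromSpecResidueField z ≫ pullback.snd y g
  have hab : a ≫ y = b ≫ g := by
    simp only [a, b, Category.assoc, pullback.condition]
  have ha : Surjective a := ⟨fun x => ⟨Classical.arbitrary _, Subsingleton.elim _ _⟩⟩
  have ha2 : Flat a := inferInstance
  have ha3 : QuasiCompact a := inferInstance
  have h1 : P (pullback (pullback.snd f g) b) := h L b
  have h2 : P (pullback f (b ≫ g)) := P.prop_of_iso (pullbackLeftPullbackSndIso f g b) h1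
  have h3 : P (pullback f (a ≫ y)) := hab ▸ h2
  have h4 : P (pullback (pullback.snd f y) a) :=
    P.prop_of_iso (pullbackLeftPullbackSndIso f y a).symm h3
  exact hP (pullback.fst (pullback.snd f y) a) h4

/-- Reducedness descends along flat quasi-compact surjections. -/
theorem isReduced_of_flat_surjective {Z W : Scheme.{u}} (q : Z ⟶ W) [Surjective q] [Flat q]
    [IsReduced Z] : IsReduced W := by
  apply +allowSynthFailures isReduced_of_isReduced_stalk
  intro w
  obtain ⟨z, rfl⟩ := q.surjective w
  refine isReduced_of_injective (q.stalkMap z).hom ?_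
  algebraize [(q.stalkMap z).hom]
  have : Module.FaithfullyFlat (W.presheaf.stalk (q z)) (Z.presheaf.stalk z) :=
    @Module.FaithfullyFlat.of_flat_of_isLocalHom _ _ _ _ _ _ _
      (Flat.stalkMap q z) (q.toLRSHom.prop z)
  exact ‹RingHom.FaithfullyFlat _›.injective

end Groth.Agent.Helper3
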