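import Mathlib

/-!
# Gluing two schemes along a common open subscheme (helper3)

Pushouts of two open immersions exist in `Scheme` (via Mathlib's locally directed gluing);
a criterion for the glued scheme to be separated over a base (closed graph), and a criterion
for a morphism into the glued scheme to be scheme-theoretically dominant.
-/

set_option autoImplicit false
universe u
open CategoryTheory CategoryTheory.Limits AlgebraicGeometry

namespace Groth.Agent.Lib.Helper3.GlueTwo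

/-! ## Part A: pushouts of open immersions -/

instance span_isOpenImmersion {A B C : Scheme.{u}} (f : A ⟶ B) (g : A ⟶ C)
    [IsOpenImmersion f] [IsOpenImmersion g] :
    ∀ {i j : WalkingSpan} (h : i ⟶ j), IsOpenImmersion ((span f g).map h) := by
  intro i j h
  rcases h with _ | k
  · change IsOpenImmersion ((span f g).map (𝟙 i))
    rw [CategoryTheory.Functor.map_id]; infer_instance
  · cases k
    · exact (inferInstance : IsOpenImmersion f)
    · exact (inferInstance : IsOpenImmersion g)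

instance hasPushout_of_isOpenImmersion {A B C : Scheme.{u}} (f : A ⟶ B) (g : A ⟶ C)
    [IsOpenImmersion f] [IsOpenImmersion g] : HasPushout f g :=
  inferInstanceAs (HasColimit (span f g))

instance inl_isOpenImmersion {A B C : Scheme.{u}} (f : A ⟶ B) (g : A ⟶ C)
    [IsOpenImmersion f] [IsOpenImmersion g] : IsOpenImmersion (pushout.inl f g) :=
  inferInstanceAs (IsOpenImmersion (colimit.ι (span f g) WalkingSpan.left))

instance inr_isOpenImmersion {A B C : Scheme.{u}} (f : A ⟶ B) (g : A ⟶ C)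
    [IsOpenImmersion f] [IsOpenImmersion g] : IsOpenImmersion (pushout.inr f g) :=
  inferInstanceAs (IsOpenImmersion (colimit.ι (span f g) WalkingSpan.right))

theorem inl_or_inr {A B C : Scheme.{u}} (f : A ⟶ B) (g : A ⟶ C)
    [IsOpenImmersion f] [IsOpenImmersion g] (y : ↥(pushout f g)) :
    y ∈ Set.range (pushout.inl f g) ∨ y ∈ Set.range (pushout.inr f g) := by
  obtain ⟨i, xi, h⟩ := Scheme.IsLocallyDirected.ι_jointly_surjective (span f g) y
  rcases i with _ | i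
  · left
    refine ⟨f xi, ?_⟩
    rw [← h, ← Scheme.Hom.comp_apply]
    have e : f ≫ pushout.inl f g = colimit.ι (span f g) none :=
      colimit.w (span f g) (WidePushoutShape.Hom.init WalkingPair.left)
    rw [e]
    rfl
  · cases i
    · left; exact ⟨xi, h⟩
    · right; exact ⟨xi, h⟩

theorem inl_eq_inr {A B C : Scheme.{u}} (f : A ⟶ B) (g : A ⟶ C)
    [IsOpenImmersion f] [IsOpenImmersion g] (b : B) (c : C)
    (h : pushout.inl f g b = pushout.inr f g c) : ∃ a : A, f a = b ∧ g a = c := by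
  have h' : colimit.ι (span f g) WalkingSpan.left b = colimit.ι (span f g) WalkingSpan.right c := h
  rw [Scheme.IsLocallyDirected.ι_eq_ι_iff] at h'
  obtain ⟨k, fi, fj, x, h1, h2⟩ := h'
  rcases fi with _ | k1
  · rcases fj with _ | k2
  · rcases fj with _ | k2
    exact ⟨x, h1, h2⟩

/-! ## Part B: closedness on a cover by four open embeddings -/

theorem exists_open_nhd_compl {α β : Type*} [TopologicalSpace α] [TopologicalSpace β]
    {m : α → β} (hm : Topology.IsOpenEmbedding m) {s : Set β} (c : IsClosed (m ⁻¹' s))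
    {z : β} (hz : z ∈ Set.range m) (hzs : z ∉ s) :
    ∃ O : Set β, O ⊆ sᶜ ∧ IsOpen O ∧ z ∈ O := by
  obtain ⟨x, rfl⟩ := hz
  refine ⟨m '' (m ⁻¹' s)ᶜ, ?_, hm.isOpenMap _ c.isOpen_compl, ⟨x, hzs, rfl⟩⟩
  rintro _ ⟨x', hx', rfl⟩
  exact hx'

theorem isClosed_of_four {β α₁ α₂ α₃ α₄ : Type*} [TopologicalSpace β] [TopologicalSpace α₁]
    [TopologicalSpace α₂] [TopologicalSpace α₃] [TopologicalSpace α₄]
    {m₁ : α₁ → β} {m₂ : α₂ → β} {m₃ : α₃ → β} {m₄ : α₄ → β}
    (h₁ : Topology.IsOpenEmbedding m₁) (h₂ : Topology.IsOpenEmbedding m₂)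
    (h₃ : Topology.IsOpenEmbedding m₃) (h₄ : Topology.IsOpenEmbedding m₄)
    (hcov : ∀ z, z ∈ Set.range m₁ ∨ z ∈ Set.range m₂ ∨ z ∈ Set.range m₃ ∨ z ∈ Set.range m₄)
    {s : Set β} (c₁ : IsClosed (m₁ ⁻¹' s)) (c₂ : IsClosed (m₂ ⁻¹' s))
    (c₃ : IsClosed (m₃ ⁻¹' s)) (c₄ : IsClosed (m₄ ⁻¹' s)) : IsClosed s := by
  rw [← isOpen_compl_iff, isOpen_iff_forall_mem_open]
  intro z hz
  rcases hcov z with h | h | h | h
  · exact exists_open_nhd_compl h₁ c₁ h hz
  · exact exists_open_nhd_compl h₂ c₂ h hz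
  · exact exists_open_nhd_compl h₃ c₃ h hz
  · exact exists_open_nhd_compl h₄ c₄ h hz

/-! ## Part C: separatedness of a glued scheme -/

@[reassoc]
theorem chartMap_fst {S Y Xa Xb : Scheme.{u}} (q : Y ⟶ S) (ia : Xa ⟶ Y) (ib : Xb ⟶ Y) :
    pullback.map (ia ≫ q) (ib ≫ q) q q ia ib (𝟙 S) (by simp) (by simp) ≫ pullback.fst q q =
      pullback.fst (ia ≫ q) (ib ≫ q) ≫ ia :=
  pullback.lift_fst _ _ _

@[reassoc]
theorem chartMap_snd {S Y Xa Xb : Scheme.{u}} (q : Y ⟶ S) (ia : Xa ⟶ Y) (ib : Xb ⟶ Y) :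
    pullback.map (ia ≫ q) (ib ≫ q) q q ia ib (𝟙 S) (by simp) (by simp) ≫ pullback.snd q q =
      pullback.snd (ia ≫ q) (ib ≫ q) ≫ ib :=
  pullback.lift_snd _ _ _

/-- the preimage of the diagonal of `q` in the chart `X_a ×_S X_b`. -/
theorem chart_preimage {S Y Xa Xb T : Scheme.{u}} (q : Y ⟶ S) (ia : Xa ⟶ Y) (ib : Xb ⟶ Y)
    [IsOpenImmersion ia] [IsOpenImmersion ib]
    (g : T ⟶ pullback (ia ≫ q) (ib ≫ q)) (t : T ⟶ Y)
    (hg : g ≫ pullback.map (ia ≫ q) (ib ≫ q) q q ia ib (𝟙 S) (by simp) (by simp) =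
      t ≫ pullback.diagonal q)
    (hsurj : ∀ z : ↥(pullback (ia ≫ q) (ib ≫ q)),
      ia (pullback.fst (ia ≫ q) (ib ≫ q) z) = ib (pullback.snd (ia ≫ q) (ib ≫ q) z) →
      ∃ w : T, t w = ia (pullback.fst (ia ≫ q) (ib ≫ q) z)) :
    (pullback.map (ia ≫ q) (ib ≫ q) q q ia ib (𝟙 S) (by simp) (by simp)) ⁻¹'
      Set.range (pullback.diagonal q) = Set.range g := by
  set m := pullback.map (ia ≫ q) (ib ≫ q) q q ia ib (𝟙 S) (by simp) (by simp) with hm
  have F1 : m ≫ pullback.fst q q = pullback.fst _ _ ≫ ia := chartMap_fst q ia ib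
  have F2 : m ≫ pullback.snd q q = pullback.snd _ _ ≫ ib := chartMap_snd q ia ib
  ext z
  constructor
  · rintro ⟨y, hy⟩
    have h1 : y = ia (pullback.fst (ia ≫ q) (ib ≫ q) z) := by
      have := congr_arg (pullback.fst q q) hy
      rw [← Scheme.Hom.comp_apply, ← Scheme.Hom.comp_apply, pullback.diagonal_fst, F1,
        Scheme.Hom.comp_apply] at this
      simpa using this
    have h2 : y = ib (pullback.snd (ia ≫ q) (ib ≫ q) z) := by
      have := congr_arg (pullback.snd q q) hy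
      rw [← Scheme.Hom.comp_apply, ← Scheme.Hom.comp_apply, pullback.diagonal_snd, F2,
        Scheme.Hom.comp_apply] at this
      simpa using this
    obtain ⟨w, hw⟩ := hsurj z (h1.symm.trans h2)
    refine ⟨w, ?_⟩
    apply m.isOpenEmbedding.injective
    rw [← Scheme.Hom.comp_apply, hg, Scheme.Hom.comp_apply, hw, ← h1, hy]
  · rintro ⟨w, rfl⟩
    exact ⟨t w, by rw [← Scheme.Hom.comp_apply, ← hg, Scheme.Hom.comp_apply]⟩

theorem isSeparated_of_glue {S X₁ X₂ W Y : Scheme.{u}} (a : W ⟶ X₁) (b : W ⟶ X₂)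
    (i₁ : X₁ ⟶ Y) (i₂ : X₂ ⟶ Y) [IsOpenImmersion i₁] [IsOpenImmersion i₂]
    (hglue : a ≫ i₁ = b ≫ i₂)
    (hcov : ∀ y : Y, y ∈ Set.range i₁ ∨ y ∈ Set.range i₂)
    (hint : ∀ (x₁ : X₁) (x₂ : X₂), i₁ x₁ = i₂ x₂ → ∃ w : W, a w = x₁ ∧ b w = x₂)
    (q : Y ⟶ S) [IsSeparated (i₁ ≫ q)] [IsSeparated (i₂ ≫ q)]
    (hab : a ≫ i₁ ≫ q = b ≫ i₂ ≫ q)
    (hcl : IsClosed (Set.range (pullback.lift a b hab))) : IsSeparated q := by
  have hΔ : IsClosed (Set.range (pullback.diagonal q)) := by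
    refine isClosed_of_four
      (pullback.map (i₁ ≫ q) (i₁ ≫ q) q q i₁ i₁ (𝟙 S) (by simp) (by simp)).isOpenEmbedding
      (pullback.map (i₁ ≫ q) (i₂ ≫ q) q q i₁ i₂ (𝟙 S) (by simp) (by simp)).isOpenEmbedding
      (pullback.map (i₂ ≫ q) (i₁ ≫ q) q q i₂ i₁ (𝟙 S) (by simp) (by simp)).isOpenEmbedding
      (pullback.map (i₂ ≫ q) (i₂ ≫ q) q q i₂ i₂ (𝟙 S) (by simp) (by simp)).isOpenEmbedding
      ?_ ?_ ?_ ?_ ?_
    · intro z
      simp only [Scheme.Pullback.range_map, Set.mem_inter_iff, Set.mem_preimage]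
      rcases hcov (pullback.fst q q z) with h1 | h1 <;>
        rcases hcov (pullback.snd q q z) with h2 | h2
      · exact Or.inl ⟨h1, h2⟩
      · exact Or.inr (Or.inl ⟨h1, h2⟩)
      · exact Or.inr (Or.inr (Or.inl ⟨h1, h2⟩))
      · exact Or.inr (Or.inr (Or.inr ⟨h1, h2⟩))
    · -- chart (1,1)
      rw [chart_preimage q i₁ i₁ (pullback.diagonal (i₁ ≫ q)) i₁
        (by apply pullback.hom_ext <;> simp [chartMap_fst, chartMap_snd]) (fun z _ => ⟨_, rfl⟩)]
      exact (pullback.diagonal (i₁ ≫ q)).isClosedEmbedding.isClosed_range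
    · -- chart (1,2)
      rw [chart_preimage q i₁ i₂ (pullback.lift a b hab) (a ≫ i₁)
        (by
          apply pullback.hom_ext
          · rw [Category.assoc, chartMap_fst, pullback.lift_fst_assoc, Category.assoc,
              pullback.diagonal_fst, Category.comp_id]
          · rw [Category.assoc, chartMap_snd, pullback.lift_snd_assoc, Category.assoc,
              pullback.diagonal_snd, Category.comp_id, hglue]) (fun z hz => by
          obtain ⟨w, hw1, -⟩ := hint _ _ hz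
          exact ⟨w, by rw [Scheme.Hom.comp_apply, hw1]⟩)]
      exact hcl
    · -- chart (2,1)
      rw [chart_preimage q i₂ i₁ (pullback.lift b a hab.symm) (b ≫ i₂)
        (by
          apply pullback.hom_ext
          · rw [Category.assoc, chartMap_fst, pullback.lift_fst_assoc, Category.assoc,
              pullback.diagonal_fst, Category.comp_id]
          · rw [Category.assoc, chartMap_snd, pullback.lift_snd_assoc, Category.assoc,
              pullback.diagonal_snd, Category.comp_id, hglue]) (fun z hz => by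
          obtain ⟨w, -, hw2⟩ := hint _ _ hz.symm
          exact ⟨w, by rw [Scheme.Hom.comp_apply, hw2]⟩)]
      have e : pullback.lift b a hab.symm =
          pullback.lift a b hab ≫ (pullbackSymmetry (i₁ ≫ q) (i₂ ≫ q)).hom := by
        apply pullback.hom_ext
        · rw [pullback.lift_fst, Category.assoc, pullbackSymmetry_hom_comp_fst, pullback.lift_snd]
        · rw [pullback.lift_snd, Category.assoc, pullbackSymmetry_hom_comp_snd, pullback.lift_fst]
      rw [e, Scheme.Hom.comp_base, TopCat.coe_comp, Set.range_comp]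
      exact (pullbackSymmetry (i₁ ≫ q) (i₂ ≫ q)).hom.isClosedEmbedding.isClosedMap _ hcl
    · -- chart (2,2)
      rw [chart_preimage q i₂ i₂ (pullback.diagonal (i₂ ≫ q)) i₂
        (by apply pullback.hom_ext <;> simp [chartMap_fst, chartMap_snd]) (fun z _ => ⟨_, rfl⟩)]
      exact (pullback.diagonal (i₂ ≫ q)).isClosedEmbedding.isClosed_range
  haveI : IsClosedImmersion (pullback.diagonal q) := IsClosedImmersion.of_isPreimmersion _ hΔ
  exact ⟨this⟩

/-! ## Part D: scheme-theoretic dominance -/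

theorem comap_eq_bot_iff_of_bijective {R S : Type*} [CommRing R] [CommRing S] (φ : R →+* S)
    (hφ : Function.Bijective φ) (I : Ideal S) : I.comap φ = ⊥ ↔ I = ⊥ := by
  constructor
  · intro h
    rw [eq_bot_iff]
    intro x hx
    obtain ⟨y, rfl⟩ := hφ.2 x
    have : y ∈ I.comap φ := hx
    rw [h, Ideal.mem_bot] at this
    rw [this, map_zero]; exact Ideal.zero_mem _
  · rintro rfl
    exact Ideal.comap_bot_of_injective φ hφ.1

theorem ker_ideal_image_eq_bot {U X Y : Scheme.{u}} (f : U ⟶ Y) [QuasiCompact f]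
    (i : X ⟶ Y) [IsOpenImmersion i] (j : U ⟶ X) [IsSchemeTheoreticallyDominant j]
    (h : j ≫ i = f) (W : X.affineOpens) :
    f.ker.ideal ⟨i ''ᵁ W.1, W.2.image_of_isOpenImmersion i⟩ = ⊥ := by
  have H : IsPullback j (𝟙 U) i f := IsPullback.of_vert_isIso_mono ⟨by simpa using h⟩
  have e := Scheme.ker_ideal_of_isPullback_of_isOpenImmersion f j (𝟙 U) i H W
  rw [IsSchemeTheoreticallyDominant.ker_eq_bot j, Scheme.IdealSheafData.ideal_bot,
    Pi.bot_apply] at e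
  exact (comap_eq_bot_iff_of_bijective _
    (ConcreteCategory.bijective_of_isIso (i.appIso W.1).inv) _).1 e.symm

theorem isSchemeTheoreticallyDominant_of_comp_isOpenImmersion {U X Y : Scheme.{u}}
    (k : U ⟶ X) (i : X ⟶ Y) [IsOpenImmersion i] (f : U ⟶ Y) [QuasiCompact f]
    [IsSchemeTheoreticallyDominant f] (h : k ≫ i = f) : IsSchemeTheoreticallyDominant k := by
  rw [isSchemeTheoreticallyDominant_iff]
  have H : IsPullback k (𝟙 U) i f := IsPullback.of_vert_isIso_mono ⟨by simpa using h⟩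
  apply Scheme.IdealSheafData.ext
  funext W
  rw [Scheme.ker_ideal_of_isPullback_of_isOpenImmersion f k (𝟙 U) i H W,
    IsSchemeTheoreticallyDominant.ker_eq_bot f]
  simp only [Scheme.IdealSheafData.ideal_bot, Pi.bot_apply]
  exact Ideal.comap_bot_of_injective _
    (ConcreteCategory.bijective_of_isIso (i.appIso W.1).inv).1

theorem isSchemeTheoreticallyDominant_of_glue {U X₁ X₂ Y : Scheme.{u}} (f : U ⟶ Y)
    [QuasiCompact f] (i₁ : X₁ ⟶ Y) (i₂ : X₂ ⟶ Y) [IsOpenImmersion i₁] [IsOpenImmersion i₂]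
    (hcov : ∀ y : Y, y ∈ Set.range i₁ ∨ y ∈ Set.range i₂)
    (j₁ : U ⟶ X₁) (j₂ : U ⟶ X₂) [IsSchemeTheoreticallyDominant j₁]
    [IsSchemeTheoreticallyDominant j₂]
    (h₁ : j₁ ≫ i₁ = f) (h₂ : j₂ ≫ i₂ = f) : IsSchemeTheoreticallyDominant f := by
  rw [isSchemeTheoreticallyDominant_iff]
  refine Scheme.IdealSheafData.ext_of_iSup_eq_top
    (ι := X₁.affineOpens ⊕ X₂.affineOpens)
    (Sum.elim (fun W => ⟨i₁ ''ᵁ W.1, W.2.image_of_isOpenImmersion i₁⟩)
      (fun W => ⟨i₂ ''ᵁ W.1, W.2.image_of_isOpenImmersion i₂⟩)) ?_ ?_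
  · rw [eq_top_iff]
    rintro y -
    rw [TopologicalSpace.Opens.mem_iSup]
    rcases hcov y with ⟨x, rfl⟩ | ⟨x, rfl⟩
    · obtain ⟨_, ⟨V, hV, rfl⟩, hxV, -⟩ :=
        X₁.isBasis_affineOpens.exists_subset_of_mem_open
          (show x ∈ ((⊤ : X₁.Opens) : Set X₁) from trivial) (⊤ : X₁.Opens).isOpen
      exact ⟨Sum.inl ⟨V, hV⟩, ⟨x, hxV, rfl⟩⟩
    · obtain ⟨_, ⟨V, hV, rfl⟩, hxV, -⟩ :=
        X₂.isBasis_affineOpens.exists_subset_of_mem_open
          (show x ∈ ((⊤ : X₂.Opens) : Set X₂) from trivial) (⊤ : X₂.Opens).isOpen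
      exact ⟨Sum.inr ⟨V, hV⟩, ⟨x, hxV, rfl⟩⟩
  · rintro (W | W)
    · simp only [Sum.elim_inl]
      rw [ker_ideal_image_eq_bot f i₁ j₁ h₁ W, Scheme.IdealSheafData.ideal_bot, Pi.bot_apply]
    · simp only [Sum.elim_inr]
      rw [ker_ideal_image_eq_bot f i₂ j₂ h₂ W, Scheme.IdealSheafData.ideal_bot, Pi.bot_apply]

/-! ## Part E: uniqueness of extensions from a scheme-theoretically dense part
(copied from `Groth.Agent.Lib.Helper4.RigidProper1`, to avoid its heavy imports) -/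

theorem ext_of_isSchemeTheoreticallyDominant {W X Y Z : Scheme.{u}} {a b : X ⟶ Y}
    (s : Y ⟶ Z) [IsSeparated s] (h : a ≫ s = b ≫ s)
    (ι : W ⟶ X) [IsSchemeTheoreticallyDominant ι] (hU : ι ≫ a = ι ≫ b) : a = b := by
  let X' : Over Z := Over.mk (a ≫ s)
  let Y' : Over Z := Over.mk s
  let U' : Over Z := Over.mk (ι ≫ a ≫ s)
  let f' : X' ⟶ Y' := Over.homMk a
  let g' : X' ⟶ Y' := Over.homMk b h.symm
  let ι' : U' ⟶ X' := Over.homMk ι
  have : IsSeparated Y'.hom := ‹_›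
  have hcond : ι' ≫ f' = ι' ≫ g' := by ext1; exact hU
  have hlift : (equalizer.lift ι' hcond).left ≫ (equalizer.ι f' g').left = ι := by
    rw [← Over.comp_left, equalizer.lift_ι]; rfl
  have hker : (equalizer.ι f' g').left.ker = ⊥ := by
    have h1 := Scheme.Hom.le_ker_comp (equalizer.lift ι' hcond).left (equalizer.ι f' g').left
    rw [hlift, IsSchemeTheoreticallyDominant.ker_eq_bot ι] at h1
    exact le_bot_iff.1 h1
  have := IsClosedImmersion.isIso_iff_ker_eq_bot.2 hker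
  rw [← cancel_epi (equalizer.ι f' g').left]
  exact congr($(equalizer.condition f' g').left)

/-- version of `isSeparated_of_glue` with the structure morphisms of the pieces as variables. -/
theorem isSeparated_of_glue' {S X₁ X₂ W Y : Scheme.{u}} (a : W ⟶ X₁) (b : W ⟶ X₂)
    (i₁ : X₁ ⟶ Y) (i₂ : X₂ ⟶ Y) [IsOpenImmersion i₁] [IsOpenImmersion i₂]
    (hglue : a ≫ i₁ = b ≫ i₂)
    (hcov : ∀ y : Y, y ∈ Set.range i₁ ∨ y ∈ Set.range i₂)
    (hint : ∀ (x₁ : X₁) (x₂ : X₂), i₁ x₁ = i₂ x₂ → ∃ w : W, a w = x₁ ∧ b w = x₂)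
    (q : Y ⟶ S) (p₁ : X₁ ⟶ S) (p₂ : X₂ ⟶ S) (hp₁ : i₁ ≫ q = p₁) (hp₂ : i₂ ≫ q = p₂)
    [IsSeparated p₁] [IsSeparated p₂] (hab : a ≫ p₁ = b ≫ p₂)
    (hcl : IsClosed (Set.range (pullback.lift a b hab))) : IsSeparated q := by
  subst hp₁ hp₂
  exact isSeparated_of_glue a b i₁ i₂ hglue hcov hint q hab hcl

/-- existence of the glueing of two schemes along a common open subscheme, over a base. -/
theorem exists_glue {S X₁ X₂ W : Scheme.{u}} (a : W ⟶ X₁) (b : W ⟶ X₂)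
    [IsOpenImmersion a] [IsOpenImmersion b] (p₁ : X₁ ⟶ S) (p₂ : X₂ ⟶ S)
    (hab : a ≫ p₁ = b ≫ p₂) :
    ∃ (Y : Scheme.{u}) (i₁ : X₁ ⟶ Y) (i₂ : X₂ ⟶ Y) (q : Y ⟶ S),
      IsOpenImmersion i₁ ∧ IsOpenImmersion i₂ ∧ a ≫ i₁ = b ≫ i₂ ∧ i₁ ≫ q = p₁ ∧ i₂ ≫ q = p₂ ∧
      (∀ y : Y, y ∈ Set.range i₁ ∨ y ∈ Set.range i₂) ∧
      (∀ (x₁ : X₁) (x₂ : X₂), i₁ x₁ = i₂ x₂ → ∃ w : W, a w = x₁ ∧ b w = x₂) :=
  ⟨pushout a b, pushout.inl a b, pushout.inr a b, pushout.desc p₁ p₂ hab, inferInstance,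
    inferInstance, pushout.condition, pushout.inl_desc _ _ _, pushout.inr_desc _ _ _,
    inl_or_inr a b, inl_eq_inr a b⟩

/-! ## Part F: mutual quasi-dominations identify the domains -/

theorem quasiDomination_key {S X₁ X₂ U : Scheme.{u}} (p₁ : X₁ ⟶ S) (p₂ : X₂ ⟶ S)
    (W₁ : X₁.Opens) (φ : (↑W₁ : Scheme.{u}) ⟶ X₂) (hφ : W₁.ι ≫ p₁ = φ ≫ p₂)
    (k₁ : U ⟶ ↑W₁) [IsDominant k₁]
    (W₂ : X₂.Opens) (ψ : (↑W₂ : Scheme.{u}) ⟶ X₁) (hψ : W₂.ι ≫ p₂ = ψ ≫ p₁)
    (hψc : IsClosed (Set.range (pullback.lift W₂.ι ψ hψ)))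
    (k₂ : U ⟶ ↑W₂) (h1 : k₁ ≫ φ = k₂ ≫ W₂.ι) (h2 : k₂ ≫ ψ = k₁ ≫ W₁.ι)
    (w₁ : ↥(↑W₁ : Scheme.{u})) :
    ∃ w₂ : ↥(↑W₂ : Scheme.{u}), W₂.ι w₂ = φ w₁ ∧ ψ w₂ = W₁.ι w₁ := by
  have hU12 : k₁ ≫ pullback.lift W₁.ι φ hφ ≫ (pullbackSymmetry p₁ p₂).hom =
      k₂ ≫ pullback.lift W₂.ι ψ hψ := by
    apply pullback.hom_ext
    · simp only [Category.assoc, pullbackSymmetry_hom_comp_fst, pullback.lift_snd,
        pullback.lift_fst]
      exact h1
    · simp only [Category.assoc, pullbackSymmetry_hom_comp_snd, pullback.lift_snd,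
        pullback.lift_fst]
      exact h2.symm
  have hT : IsClosed ((pullback.lift W₁.ι φ hφ ≫ (pullbackSymmetry p₁ p₂).hom) ⁻¹'
      Set.range (pullback.lift W₂.ι ψ hψ)) :=
    hψc.preimage (pullback.lift W₁.ι φ hφ ≫ (pullbackSymmetry p₁ p₂).hom).continuous
  have hsub : Set.range k₁ ⊆ (pullback.lift W₁.ι φ hφ ≫ (pullbackSymmetry p₁ p₂).hom) ⁻¹'
      Set.range (pullback.lift W₂.ι ψ hψ) := by
    rintro _ ⟨u, rfl⟩
    refine ⟨k₂ u, ?_⟩
    rw [← Scheme.Hom.comp_apply, ← Scheme.Hom.comp_apply, hU12]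
  have huniv : (pullback.lift W₁.ι φ hφ ≫ (pullbackSymmetry p₁ p₂).hom) ⁻¹'
      Set.range (pullback.lift W₂.ι ψ hψ) = Set.univ := by
    rw [← Set.univ_subset_iff, ← k₁.denseRange.closure_range]
    exact hT.closure_subset_iff.mpr hsub
  obtain ⟨w₂, hw₂⟩ : (pullback.lift W₁.ι φ hφ ≫ (pullbackSymmetry p₁ p₂).hom) w₁ ∈
      Set.range (pullback.lift W₂.ι ψ hψ) := by
    have : w₁ ∈ (pullback.lift W₁.ι φ hφ ≫ (pullbackSymmetry p₁ p₂).hom) ⁻¹'
        Set.range (pullback.lift W₂.ι ψ hψ) := huniv ▸ Set.mem_univ w₁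
    exact this
  refine ⟨w₂, ?_, ?_⟩
  · have := congr_arg (pullback.fst p₂ p₁) hw₂
    rw [← Scheme.Hom.comp_apply, ← Scheme.Hom.comp_apply, pullback.lift_fst, Category.assoc,
      pullbackSymmetry_hom_comp_fst, pullback.lift_snd] at this
    exact this
  · have := congr_arg (pullback.snd p₂ p₁) hw₂
    rw [← Scheme.Hom.comp_apply, ← Scheme.Hom.comp_apply, pullback.lift_snd, Category.assoc,
      pullbackSymmetry_hom_comp_snd, pullback.lift_fst] at this
    exact this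

end Groth.Agent.Lib.Helper3.GlueTwo
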