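import Mathlib
import Groth.Prelude.Def_Wider
import Groth.Prelude.Def_DDual2
import Groth.Agent.Lib.Helper3.GorBC3
import Groth.Agent.Lib.Helper8.GorFlat11

/-!
# Base change of dualizing complexes along field extensions
-/

set_option autoImplicit false
universe u
open CategoryTheory CategoryTheory.Limits DerivedCategory Pretriangulated Triangulated TensorProduct

attribute [local instance] HasDerivedCategory.standard

namespace Groth.Agent.Helper3.GorBC

open Groth.Agent.Helper3.BCAbs Groth.Agent.Helper3.BCDer Groth.Agent.Helper3.BCDual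
  Groth.Agent.Helper3.BCDesc Groth.Agent.Helper5.FlatBC Groth.Agent.Helper3.DualCx
  Groth.Agent.Helper3.BassLem Groth.Agent.Helper3.BCFlat Groth.Agent.Helper3.Crit
  Groth.Agent.Helper3.FinAdj Groth.Agent.Helper3.GorFib Groth.Agent.Helper8.GorFlat LocCoh

attribute [local instance] Algebra.TensorProduct.rightAlgebra

section Field

variable (k K : Type u) [Field k] [Field K] [Algebra k K] (A : Type u) [CommRing A] [Algebra k A]

/-- the fibre of `A → K ⊗ A` over `p` is `κ(p) ⊗ K` -/
noncomputable def fibreEquiv (p : Ideal A) [p.IsPrime] :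
    p.Fiber (K ⊗[k] A) ≃+* p.ResidueField ⊗[k] K :=
  ((Algebra.TensorProduct.congr (AlgEquiv.refl (R := A) (A₁ := p.ResidueField))
      (Algebra.TensorProduct.commRight k A K).symm).trans
    (Algebra.TensorProduct.cancelBaseChange k A A p.ResidueField K)).toRingEquiv

theorem main_S8932 [Algebra.FiniteType k A]
    [DRing.HasLBaseChange (Algebra.TensorProduct.includeRight : A →ₐ[k] K ⊗[k] A).toRingHom]
    (ω : Dual.D A) (hω : Dual.IsDualizing A ω) :
    Dual.IsDualizing (K ⊗[k] A)
      ((DRing.LBaseChange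
        (Algebra.TensorProduct.includeRight : A →ₐ[k] K ⊗[k] A).toRingHom).obj ω) := by
  haveI : IsNoetherianRing A := Algebra.FiniteType.isNoetherianRing k A
  haveI : Algebra.FiniteType K (K ⊗[k] A) := inferInstance
  haveI : IsNoetherianRing (K ⊗[k] A) := Algebra.FiniteType.isNoetherianRing K (K ⊗[k] A)
  haveI : Module.Flat A (K ⊗[k] A) :=
    Module.Flat.of_linearEquiv (Algebra.TensorProduct.commRight k A K).symm.toLinearEquiv
  haveI : DRing.HasLBaseChange (algebraMap A (K ⊗[k] A)) :=
    ‹DRing.HasLBaseChange (Algebra.TensorProduct.includeRight : A →ₐ[k] K ⊗[k] A).toRingHom›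
  have hK : ringKrullDim K < ⊤ := by
    rw [ringKrullDim_eq_zero_of_field]
    exact compareOfLessAndEq_eq_lt.mp rfl
  obtain ⟨E, hE⟩ := exists_dim_le_of_finiteType K (K ⊗[k] A) hK
  have H : ∀ (m : Ideal (K ⊗[k] A)) [m.IsMaximal],
      IsGorensteinLocalRing (EGA4.FibLocRing A (K ⊗[k] A) m) := by
    intro m _
    haveI : (m.comap (algebraMap A (K ⊗[k] A))).IsPrime := Ideal.comap_isPrime _ _
    refine isGorensteinLocalRing_fibLocRing_of_fiber (m.comap (algebraMap A (K ⊗[k] A))) ?_ m rfl
    haveI : Algebra.EssFiniteType k (m.comap (algebraMap A (K ⊗[k] A))).ResidueField :=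
      Algebra.EssFiniteType.comp k A _
    exact isGorensteinRing_of_ringEquiv (fibreEquiv k K A _).symm
      (isGorensteinRing_tensor_fields k _ K (Or.inl inferInstance))
  exact isDualizing_of_iso ((lbcIsoG (A := A) (K ⊗[k] A)).app ω).symm
    (isDualizing_G_of_gorenstein (K ⊗[k] A) ω hω E hE H)

end Field

end Groth.Agent.Helper3.GorBC
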