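import Mathlib
import Groth.Prelude.Def_OmegaPn
import Groth.Agent.Lib.Lead.ConPb
import Groth.Agent.Lib.Lead.ConNbhd

/-!
# Base change of the graded pieces `Gr_n = I^n / I^(n+1)` of a closed immersion

For a cartesian square of closed immersions the canonical map `gZ^* Gr_n(i') ⟶ Gr_n(i)` is an
epimorphism, and an isomorphism when the base change morphism is flat.
(Generalises lead's `ConPb` from `n = 1` to all `n`.)
-/

set_option autoImplicit false
set_option backward.isDefEq.respectTransparency.types false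
set_option linter.style.haveILetI false
set_option linter.unusedSectionVars false
set_option synthInstance.maxHeartbeats 400000
set_option maxHeartbeats 4000000

universe u
open CategoryTheory CategoryTheory.Limits AlgebraicGeometry TopologicalSpace Opposite
open TensorProduct

namespace Groth.Agent.Helper3.GrPb

open OmegaSh Groth.Agent.Lead.DerU Groth.Agent.Lead.IdM Groth.Agent.Lead.OmU
  Groth.Agent.Lead.BCU Groth.Agent.Lead.ConMap Groth.Agent.Lead.ConChart Groth.Agent.Lead.PbI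
  Groth.Agent.Lead.ConPb

section Alg

variable {R A C : Type u} [CommRing R] [CommRing A] [CommRing C] (ρ : R →+* A) (π : A →+* C)
  (hρ : ρ.Flat)
  {M' : Type u} [AddCommGroup M'] [Module R M'] (ι' : M' →ₗ[R] R) (hι' : Function.Injective ι')
  {M : Type u} [AddCommGroup M] [Module A M] (ι : M →ₗ[A] A) (hι : Function.Injective ι)
  (hrange : LinearMap.range ι = Ideal.map ρ (LinearMap.range ι'))
  (γ : M' → M) (hγ : ∀ m', ι (γ m') = ρ (ι' m'))
  {P : Type u} [AddCommGroup P] [Module C P] (L : M' → P) (hL : IsBC (π.comp ρ) L)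
  {N : Type u} [AddCommGroup N] [Module C N] (l : M → N) (hl : IsBC π l)
  (φ : P →ₗ[C] N) (hφ : ∀ m', φ (L m') = l (γ m'))

include hρ hι' hι hrange hγ in
/-- for a flat ring map, the extension of an ideal is its base change. -/
theorem isBC_of_flat : IsBC ρ γ := by
  letI := ρ.toAlgebra
  haveI : Module.Flat R A := hρ
  letI : Module R M := Module.compHom M ρ
  haveI : IsScalarTower R A M := ⟨fun a a' n => by
    change (ρ a * a') • n = ρ a • a' • n
    exact mul_smul _ _ _⟩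
  let γlin : M' →ₗ[R] M :=
    { toFun := γ
      map_add' := fun x y => by
        apply hι
        rw [map_add, hγ, hγ, hγ, map_add, map_add]
      map_smul' := fun r x => by
        apply hι
        change ι (γ (r • x)) = ι (ρ r • γ x)
        rw [map_smul, hγ, hγ, map_smul, smul_eq_mul, smul_eq_mul, map_mul] }
  let Λ : A ⊗[R] M' →ₗ[A] M := LinearMap.liftBaseChange A γlin
  have hΛ : ∀ (a : A) (m' : M'), Λ (a ⊗ₜ m') = a • γ m' := fun a m' => rfl
  have hcompat : ∀ t : A ⊗[R] M', ι (Λ t) = TensorProduct.rid R A (ι'.lTensor A t) := by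
    intro t
    induction t using TensorProduct.induction_on with
    | zero => rw [map_zero, map_zero, map_zero, map_zero]
    | tmul a m' =>
      rw [hΛ, map_smul, hγ, LinearMap.lTensor_tmul, TensorProduct.rid_tmul, smul_eq_mul]
      change a * ρ (ι' m') = ρ (ι' m') * a
      exact mul_comm _ _
    | add x y hx hy => rw [map_add, map_add, hx, hy, map_add, map_add]
  have hΛinj : Function.Injective Λ := by
    intro t₁ t₂ h
    have h1 : TensorProduct.rid R A (ι'.lTensor A t₁) =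
        TensorProduct.rid R A (ι'.lTensor A t₂) := by
      rw [← hcompat, ← hcompat, h]
    exact Module.Flat.lTensor_preserves_injective_linearMap (M := A) ι' hι'
      ((TensorProduct.rid R A).injective h1)
  have hΛsurj : Function.Surjective Λ := by
    intro m
    have hm : ι m ∈ Ideal.map ρ (LinearMap.range ι') := by
      rw [← hrange]
      exact LinearMap.mem_range_self ι m
    have key : ∀ x ∈ Ideal.span (ρ '' (LinearMap.range ι' : Set R)), ∃ t, ι (Λ t) = x := by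
      intro x hx
      induction hx using Submodule.span_induction with
      | mem y hy =>
        obtain ⟨r, hr, rfl⟩ := hy
        obtain ⟨m', rfl⟩ := LinearMap.mem_range.1 hr
        exact ⟨1 ⊗ₜ m', by rw [hΛ, one_smul, hγ]⟩
      | zero => exact ⟨0, by rw [map_zero, map_zero]⟩
      | add y z _ _ ihy ihz =>
        obtain ⟨ty, hty⟩ := ihy
        obtain ⟨tz, htz⟩ := ihz
        exact ⟨ty + tz, by rw [map_add, map_add, hty, htz]⟩
      | smul a y _ ihy =>
        obtain ⟨ty, hty⟩ := ihy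
        exact ⟨a • ty, by rw [map_smul, map_smul, hty]⟩
    obtain ⟨t, ht⟩ := key _ hm
    exact ⟨t, hι ht⟩
  have hbγ : IsBaseChange A γlin :=
    IsBaseChange.of_equiv (LinearEquiv.ofBijective Λ ⟨hΛinj, hΛsurj⟩) (fun x => by
      change Λ (1 ⊗ₜ x) = γlin x
      rw [hΛ, one_smul]
      rfl)
  exact ⟨γlin, fun _ => rfl, hbγ⟩

include hρ hι' hι hrange hγ hL hl hφ in
/-- comparison of the two base changes for a flat ring map: bijectivity. -/
theorem bijective_of_flat_isBC_gen : Function.Bijective φ := by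
  have hγBC : IsBC ρ γ := isBC_of_flat ρ hρ ι' hι' ι hι hrange γ hγ
  have hcomp : IsBC (π.comp ρ) (l ∘ γ) := Groth.Agent.Lead.FlatBC.isBC_comp ρ π hγBC hl
  letI := (π.comp ρ).toAlgebra
  letI : Module R P := Module.compHom P (π.comp ρ)
  haveI : IsScalarTower R C P := ⟨fun a a' n => by
    change ((π.comp ρ) a * a') • n = (π.comp ρ) a • a' • n
    exact mul_smul _ _ _⟩
  letI : Module R N := Module.compHom N (π.comp ρ)
  haveI : IsScalarTower R C N := ⟨fun a a' n => by
    change ((π.comp ρ) a * a') • n = (π.comp ρ) a • a' • n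
    exact mul_smul _ _ _⟩
  obtain ⟨L', hL', hbL⟩ := hL
  obtain ⟨K', hK', hbK⟩ := hcomp
  let e : P ≃ₗ[C] N := hbL.equiv.symm.trans hbK.equiv
  have he : ∀ m', e (L' m') = K' m' := fun m' => by
    change hbK.equiv (hbL.equiv.symm (L' m')) = K' m'
    rw [hbL.equiv_symm_apply, hbK.equiv_tmul, one_smul]
  have hφe : φ = e.toLinearMap := by
    apply hbL.algHom_ext
    intro m'
    change φ (L' m') = e (L' m')
    rw [he, hL', hφ, hK']
    rfl
  rw [hφe]
  exact e.bijective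

end Alg

section Loc

variable {X : Scheme.{u}}

/-- a function which locally lies in the ideal is a section of the ideal module. -/
theorem exists_idealSect_of_locally (J : X.IdealSheafData) (W : X.Opens) (r : Γ(X, W))
    (h : ∀ z : X, z ∈ W → ∃ V : X.affineOpens, z ∈ V.1 ∧ V.1 ≤ W ∧
      ∀ hV : V.1 ≤ W, X.presheaf.map (homOfLE hV).op r ∈ J.ideal V) :
    ∃ s : Γ(ClSub.idealMod J, W), idealSect J W s = r := by
  have hr : r ∈ Set.range ((ClSub.idealModι J).app W) := by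
    rw [mem_range_ι_iff]
    let ι : J.subscheme ⟶ X := J.subschemeι
    change (ι.app W).hom r = 0
    refine J.subscheme.sheaf.eq_of_locally_eq'
      (fun V : {V : X.affineOpens // (V : X.Opens) ≤ W ∧
        ∀ hV : (V : X.Opens) ≤ W, X.presheaf.map (homOfLE hV).op r ∈ J.ideal V} =>
          ι ⁻¹ᵁ (V.1 : X.Opens))
      (ι ⁻¹ᵁ W) (fun V => (Opens.map ι.base).map (homOfLE V.2.1)) ?_ _ _ ?_
    · intro z hz
      obtain ⟨V, hzV, hVW, hmem⟩ := h (ι.base z) hz
      exact Opens.mem_iSup.mpr ⟨⟨V, hVW, hmem⟩, hzV⟩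
    · intro V
      change J.subscheme.presheaf.map ((Opens.map ι.base).map (homOfLE V.2.1)).op
          (ι.app W r) =
        J.subscheme.presheaf.map ((Opens.map ι.base).map (homOfLE V.2.1)).op 0
      rw [map_zero, ← ConcreteCategory.comp_apply]
      erw [← Scheme.Hom.naturality ι (homOfLE V.2.1).op]
      rw [ConcreteCategory.comp_apply]
      have hmem : X.presheaf.map (homOfLE V.2.1).op r ∈
          RingHom.ker (J.subschemeι.app V.1.1).hom := by
        rw [Scheme.IdealSheafData.ker_subschemeι_app]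
        exact V.2.2 V.2.1
      exact RingHom.mem_ker.1 hmem
  obtain ⟨s, hs⟩ := hr
  exact ⟨s, hs⟩

end Loc

section Sch

variable {Z X Z' X' : Scheme.{u}} (i : Z ⟶ X) (i' : Z' ⟶ X') [IsClosedImmersion i]
  [IsClosedImmersion i'] (g : X ⟶ X') (gZ : Z ⟶ Z') (hsq : gZ ≫ i' = i ≫ g) (n : ℕ)

include hsq in
/-- `g♯` maps sections of the `n`-th power of the ideal of `i'` to sections of the `n`-th power
of the ideal of `i`. -/
theorem exists_liftPow (U' : X'.Opens) (s' : Γ(ClSub.idealMod (i'.ker ^ n), U')) :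
    ∃ s : Γ(ClSub.idealMod (i.ker ^ n), g ⁻¹ᵁ U'),
      idealSect (i.ker ^ n) (g ⁻¹ᵁ U') s = (g.app U').hom (idealSect (i'.ker ^ n) U' s') := by
  apply exists_idealSect_of_locally
  intro z hz
  obtain ⟨_, ⟨W', hW', rfl⟩, hzW', hW'U'⟩ := X'.isBasis_affineOpens.exists_subset_of_mem_open
    (show g.base z ∈ (U' : Set X') from hz) U'.2
  obtain ⟨_, ⟨V, hV, rfl⟩, hzV, hVW'⟩ := X.isBasis_affineOpens.exists_subset_of_mem_open
    (show z ∈ ((g ⁻¹ᵁ W' : X.Opens) : Set X) from hzW') (g ⁻¹ᵁ W').2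
  have e : V ≤ g ⁻¹ᵁ W' := fun y hy => hVW' hy
  have hW'U'' : W' ≤ U' := fun y hy => hW'U' hy
  have hVU : V ≤ g ⁻¹ᵁ U' := e.trans (g.preimage_mono hW'U'')
  refine ⟨⟨V, hV⟩, hzV, hVU, fun hV' => ?_⟩
  have h1 : idealSect (i'.ker ^ n) W'
      ((ClSub.idealMod (i'.ker ^ n)).presheaf.map (homOfLE hW'U'').op s') ∈
      (i'.ker ^ n).ideal ⟨W', hW'⟩ := by
    rw [← range_ιL (i'.ker ^ n) ⟨W', hW'⟩]
    exact LinearMap.mem_range_self (ιL (i'.ker ^ n) W') _
  rw [idealSect_map] at h1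
  have hle : Ideal.map (g.appLE W' V e).hom ((i'.ker ^ n).ideal ⟨W', hW'⟩) ≤
      (i.ker ^ n).ideal ⟨V, hV⟩ := by
    change Ideal.map _ ((i'.ker.ideal ⟨W', hW'⟩) ^ n) ≤ (i.ker.ideal ⟨V, hV⟩) ^ n
    rw [Ideal.map_pow]
    apply Ideal.pow_right_mono
    rw [Scheme.Hom.ker_apply, Scheme.Hom.ker_apply]
    intro y hy
    rw [RingHom.mem_ker]
    exact app_eq_zero_of_mem_map i i' g gZ hsq e y hy
  have h2 := hle (Ideal.mem_map_of_mem (g.appLE W' V e).hom h1)
  have hm : X'.presheaf.map (homOfLE hW'U'').op ≫ g.appLE W' V e =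
      g.app U' ≫ X.presheaf.map (homOfLE hV').op := by
    rw [Scheme.Hom.map_appLE]
    rfl
  have h3 : X.presheaf.map (homOfLE hV').op ((g.app U').hom (idealSect (i'.ker ^ n) U' s')) =
      (g.appLE W' V e).hom
        (X'.presheaf.map (homOfLE hW'U'').op (idealSect (i'.ker ^ n) U' s')) :=
    (congrArg (fun χ => χ.hom (idealSect (i'.ker ^ n) U' s')) hm).symm
  rw [h3]
  exact h2

/-- a chosen lift. -/
noncomputable def liftPow (U' : X'.Opens) (s' : Γ(ClSub.idealMod (i'.ker ^ n), U')) :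
    Γ(ClSub.idealMod (i.ker ^ n), g ⁻¹ᵁ U') :=
  (exists_liftPow i i' g gZ hsq n U' s').choose

theorem liftPow_spec (U' : X'.Opens) (s' : Γ(ClSub.idealMod (i'.ker ^ n), U')) :
    idealSect (i.ker ^ n) (g ⁻¹ᵁ U') (liftPow i i' g gZ hsq n U' s') =
      (g.app U').hom (idealSect (i'.ker ^ n) U' s') :=
  (exists_liftPow i i' g gZ hsq n U' s').choose_spec

section Cls

variable {W : X.Opens} (hW : IsAffineOpen W)

include hW in
/-- on an affine chart, every section of the pullback of a quasi-coherent module along a closed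
immersion is the pullback of a section. -/
theorem pullSect_surjective (G : X.Modules) [G.IsQuasicoherent]
    (nn : Γ((Scheme.Modules.pullback i).obj G, i ⁻¹ᵁ W)) :
    ∃ s : Γ(G, W), pullSect i G W s = nn := by
  have hWc : W ≤ i.coborderRange := by
    rw [Groth.Agent.Lead.ConNbhd.coborderRange_eq_top]
    exact le_top
  have hU : IsAffineOpen (i ⁻¹ᵁ W) := isAffineOpen_preimage_of_le_coborder i hW hWc
  have hs : Function.Surjective (i.appLE W (i ⁻¹ᵁ W) le_rfl).hom :=
    app_surjective_of_le_coborder i hW hWc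
  letI algAB := (i.appLE W (i ⁻¹ᵁ W) le_rfl).hom.toAlgebra
  letI : Module Γ(X, W) Γ((Scheme.Modules.pullback i).obj G, i ⁻¹ᵁ W) :=
    Module.compHom _ (i.appLE W (i ⁻¹ᵁ W) le_rfl).hom
  haveI : IsScalarTower Γ(X, W) Γ(Z, i ⁻¹ᵁ W)
      Γ((Scheme.Modules.pullback i).obj G, i ⁻¹ᵁ W) :=
    ⟨fun a a' n => by
      change ((i.appLE W (i ⁻¹ᵁ W) le_rfl).hom a * a') • n =
        (i.appLE W (i ⁻¹ᵁ W) le_rfl).hom a • a' • n
      exact mul_smul _ _ _⟩
  obtain ⟨l₁, hl₁, hb₁⟩ := isBC_unitRes i G hW hU le_rfl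
  obtain ⟨s, hs'⟩ := bc_surjective hs l₁ hb₁ nn
  refine ⟨s, ?_⟩
  rw [← hs', hl₁, unitRes_self]

end Cls

section OnChart

variable (φ : (Scheme.Modules.pullback gZ).obj (PrinPart.grMod i' n) ⟶ PrinPart.grMod i n)
  (hφ : PrinPart.IsGrMap i i' g gZ n φ)
  {W' : X'.Opens} {W : X.Opens} (e : W ≤ g ⁻¹ᵁ W')

include hφ in
theorem φ_res_cls (s' : Γ(ClSub.idealMod (i'.ker ^ n), W')) :
    φ.app (i ⁻¹ᵁ W) (res ((Scheme.Modules.pullback gZ).obj (PrinPart.grMod i' n))
        (pre_le i i' g gZ hsq e)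
        (pullSect gZ (PrinPart.grMod i' n) (i' ⁻¹ᵁ W') (PrinPart.grSect i' n W' s'))) =
      PrinPart.grSect i n W ((ClSub.idealMod (i.ker ^ n)).presheaf.map (homOfLE e).op
        (liftPow i i' g gZ hsq n W' s')) := by
  rw [app_res]
  have hmap : PrinPart.grSect i n W ((ClSub.idealMod (i.ker ^ n)).presheaf.map (homOfLE e).op
        (liftPow i i' g gZ hsq n W' s')) =
      (PrinPart.grMod i n).presheaf.map (homOfLE (i.preimage_mono e)).op
        (PrinPart.grSect i n (g ⁻¹ᵁ W') (liftPow i i' g gZ hsq n W' s')) :=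
    pullSect_map i (ClSub.idealMod (i.ker ^ n)) e _
  rw [hmap]
  exact hφ.2 W' s' (liftPow i i' g gZ hsq n W' s') (liftPow_spec i i' g gZ hsq n W' s') (i ⁻¹ᵁ W)
    (pre_le i i' g gZ hsq e) (i.preimage_mono e)

variable (hW' : IsAffineOpen W') (hW : IsAffineOpen W)

include hsq hφ in
/-- classes of sections of the extended ideal power are in the image of the graded map. -/
theorem exists_of_mem_map
    (hJW : Ideal.map (g.appLE W' W e).hom ((i'.ker ^ n).ideal ⟨W', hW'⟩) ≤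
      (i.ker ^ n).ideal ⟨W, hW⟩)
    (x : Γ(X, W))
    (hx : x ∈ Ideal.map (g.appLE W' W e).hom ((i'.ker ^ n).ideal ⟨W', hW'⟩)) :
    ∀ s : Γ(ClSub.idealMod (i.ker ^ n), W), idealSect (i.ker ^ n) W s = x →
      ∃ m, φ.app (i ⁻¹ᵁ W) m = PrinPart.grSect i n W s := by
  have hx' : x ∈ Ideal.span ((g.appLE W' W e).hom ''
      (((i'.ker ^ n).ideal ⟨W', hW'⟩ : Ideal Γ(X', W')) : Set Γ(X', W'))) := hx
  have hkx : ∀ y ∈ Ideal.span ((g.appLE W' W e).hom ''
      (((i'.ker ^ n).ideal ⟨W', hW'⟩ : Ideal Γ(X', W')) : Set Γ(X', W'))),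
      ∃ sy : Γ(ClSub.idealMod (i.ker ^ n), W), idealSect (i.ker ^ n) W sy = y := by
    intro y hy
    have h1 : y ∈ (i.ker ^ n).ideal ⟨W, hW⟩ := hJW hy
    rw [← range_ιL (i.ker ^ n) ⟨W, hW⟩] at h1
    obtain ⟨sy, hsy⟩ := LinearMap.mem_range.1 h1
    exact ⟨sy, hsy⟩
  clear hx
  induction hx' using Submodule.span_induction with
  | mem y hy =>
    obtain ⟨r, hr, rfl⟩ := hy
    intro s hs
    have h1 : r ∈ (i'.ker ^ n).ideal ⟨W', hW'⟩ := hr
    rw [← range_ιL (i'.ker ^ n) ⟨W', hW'⟩] at h1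
    obtain ⟨s', hs'r⟩ := LinearMap.mem_range.1 h1
    have hs'r' : idealSect (i'.ker ^ n) W' s' = r := hs'r
    refine ⟨_, (φ_res_cls i i' g gZ hsq n φ hφ e s').trans ?_⟩
    congr 1
    apply idealSect_injective (i.ker ^ n) W
    rw [hs, idealSect_map, liftPow_spec, hs'r']
    rfl
  | zero =>
    intro s hs
    have : s = 0 := idealSect_injective (i.ker ^ n) W (by rw [hs, map_zero])
    exact ⟨0, by rw [this, map_zero, map_zero]⟩
  | add y z hy hz ihy ihz =>
    intro s hs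
    obtain ⟨sy, hsy⟩ := hkx y hy
    obtain ⟨sz, hsz⟩ := hkx z hz
    obtain ⟨my, hmy⟩ := ihy sy hsy
    obtain ⟨mz, hmz⟩ := ihz sz hsz
    have : s = sy + sz := idealSect_injective (i.ker ^ n) W (by rw [hs, map_add, hsy, hsz])
    exact ⟨my + mz, by rw [this, map_add, map_add, hmy, hmz]⟩
  | smul a y hy ihy =>
    intro s hs
    obtain ⟨sy, hsy⟩ := hkx y hy
    obtain ⟨my, hmy⟩ := ihy sy hsy
    have : s = a • sy := idealSect_injective (i.ker ^ n) W (by
      rw [hs, idealSect_smul, hsy, smul_eq_mul])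
    refine ⟨((i.app W).hom a) • my, ?_⟩
    rw [Scheme.Modules.Hom.app_smul, hmy, this]
    exact (pullSect_smul i (ClSub.idealMod (i.ker ^ n)) W a sy).symm

variable (H : IsPullback i gZ g i')

include H hW' hW in
/-- the ideal power of the base change is the extension of the ideal power. -/
theorem ideal_pow_eq_map :
    (i.ker ^ n).ideal ⟨W, hW⟩ =
      Ideal.map (g.appLE W' W e).hom ((i'.ker ^ n).ideal ⟨W', hW'⟩) := by
  have hW'c : W' ≤ i'.coborderRange := by
    rw [Groth.Agent.Lead.ConNbhd.coborderRange_eq_top]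
    exact le_top
  have hT : IsAffineOpen (i' ⁻¹ᵁ W') := isAffineOpen_preimage_of_le_coborder i' hW' hW'c
  have hs' : Function.Surjective (i'.appLE W' (i' ⁻¹ᵁ W') le_rfl).hom :=
    app_surjective_of_le_coborder i' hW' hW'c
  have hker := ker_appLE_eq_map i i' g gZ H hW' hW hT e hs'
  rw [Scheme.Hom.appLE_eq_app, Scheme.Hom.appLE_eq_app] at hker
  have h1 : i.ker.ideal ⟨W, hW⟩ =
      Ideal.map (g.appLE W' W e).hom (i'.ker.ideal ⟨W', hW'⟩) := by
    rw [Scheme.Hom.ker_apply, Scheme.Hom.ker_apply]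
    exact hker
  change (i.ker.ideal ⟨W, hW⟩) ^ n = Ideal.map _ ((i'.ker.ideal ⟨W', hW'⟩) ^ n)
  rw [Ideal.map_pow, h1]

include H hφ hW' hW e in
theorem φ_surjective_chart (nn : Γ(PrinPart.grMod i n, i ⁻¹ᵁ W)) :
    ∃ m, φ.app (i ⁻¹ᵁ W) m = nn := by
  have hsq : gZ ≫ i' = i ≫ g := H.w.symm
  haveI : (ClSub.idealMod (i.ker ^ n)).IsQuasicoherent :=
    Groth.Agent.Helper1.IdealModL.isQuasicoherent_idealMod (i.ker ^ n)
  obtain ⟨s, rfl⟩ := pullSect_surjective i hW (ClSub.idealMod (i.ker ^ n)) nn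
  have hJeq := ideal_pow_eq_map i i' g gZ n e hW' hW H
  have hmem : idealSect (i.ker ^ n) W s ∈
      Ideal.map (g.appLE W' W e).hom ((i'.ker ^ n).ideal ⟨W', hW'⟩) := by
    rw [← hJeq, ← range_ιL (i.ker ^ n) ⟨W, hW⟩]
    exact LinearMap.mem_range_self (ιL (i.ker ^ n) W) s
  exact exists_of_mem_map i i' g gZ hsq n φ hφ e hW' hW hJeq.ge _ hmem s rfl

include H hφ hW' hW e in
theorem φ_bijective_chart [Flat g] : Function.Bijective (φ.app (i ⁻¹ᵁ W)) := by
  have hsq : gZ ≫ i' = i ≫ g := H.w.symm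
  have hW'c : W' ≤ i'.coborderRange := by
    rw [Groth.Agent.Lead.ConNbhd.coborderRange_eq_top]
    exact le_top
  have hWc : W ≤ i.coborderRange := by
    rw [Groth.Agent.Lead.ConNbhd.coborderRange_eq_top]
    exact le_top
  have hT : IsAffineOpen (i' ⁻¹ᵁ W') := isAffineOpen_preimage_of_le_coborder i' hW' hW'c
  have hO : IsAffineOpen (i ⁻¹ᵁ W) := isAffineOpen_preimage_of_le_coborder i hW hWc
  have hpre : i ⁻¹ᵁ W ≤ gZ ⁻¹ᵁ (i' ⁻¹ᵁ W') := pre_le i i' g gZ hsq e
  have hflat : (g.appLE W' W e).hom.Flat :=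
    HasRingHomProperty.appLE (P := @Flat) g inferInstance ⟨W', hW'⟩ ⟨W, hW⟩ e
  haveI : (ClSub.idealMod (i'.ker ^ n)).IsQuasicoherent :=
    Groth.Agent.Helper1.IdealModL.isQuasicoherent_idealMod (i'.ker ^ n)
  haveI : (PrinPart.grMod i' n).IsQuasicoherent :=
    Groth.Agent.Lead.PB.isQuasicoherent_pullback _ _
  haveI : (ClSub.idealMod (i.ker ^ n)).IsQuasicoherent :=
    Groth.Agent.Helper1.IdealModL.isQuasicoherent_idealMod (i.ker ^ n)
  have hb1 := isBC_unitRes i' (ClSub.idealMod (i'.ker ^ n)) hW' hT le_rfl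
  have hb2 := isBC_unitRes gZ (PrinPart.grMod i' n) hT hO hpre
  have hb12 := Groth.Agent.Lead.FlatBC.isBC_comp _ _ hb1 hb2
  have hrings : (gZ.appLE (i' ⁻¹ᵁ W') (i ⁻¹ᵁ W) hpre).hom.comp
      (i'.appLE W' (i' ⁻¹ᵁ W') le_rfl).hom =
      (i.appLE W (i ⁻¹ᵁ W) le_rfl).hom.comp (g.appLE W' W e).hom := by
    rw [← CommRingCat.hom_comp, ← CommRingCat.hom_comp, Scheme.Hom.appLE_comp_appLE,
      Scheme.Hom.appLE_comp_appLE]
    have aux : ∀ (p q : Z ⟶ X') (hpq : p = q) (e₁ : i ⁻¹ᵁ W ≤ p ⁻¹ᵁ W') (e₂ : i ⁻¹ᵁ W ≤ q ⁻¹ᵁ W'),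
        p.appLE W' (i ⁻¹ᵁ W) e₁ = q.appLE W' (i ⁻¹ᵁ W) e₂ := by
      rintro p q rfl e₁ e₂
      rfl
    rw [aux _ _ hsq]
  rw [hrings] at hb12
  have hb3 := isBC_unitRes i (ClSub.idealMod (i.ker ^ n)) hW hO le_rfl
  let φlin : Γ((Scheme.Modules.pullback gZ).obj (PrinPart.grMod i' n), i ⁻¹ᵁ W) →ₗ[Γ(Z, i ⁻¹ᵁ W)]
      Γ(PrinPart.grMod i n, i ⁻¹ᵁ W) :=
    { toFun := fun t => φ.app (i ⁻¹ᵁ W) t
      map_add' := fun x y => map_add _ x y
      map_smul' := fun r x => by
        rw [Scheme.Modules.Hom.app_smul]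
        rfl }
  have hJeq := ideal_pow_eq_map i i' g gZ n e hW' hW H
  have hrange : LinearMap.range (ιL (i.ker ^ n) W) =
      Ideal.map (g.appLE W' W e).hom (LinearMap.range (ιL (i'.ker ^ n) W')) := by
    rw [range_ιL (i.ker ^ n) ⟨W, hW⟩, range_ιL (i'.ker ^ n) ⟨W', hW'⟩]
    exact hJeq
  exact bijective_of_flat_isBC_gen (g.appLE W' W e).hom (i.appLE W (i ⁻¹ᵁ W) le_rfl).hom hflat
    (ιL (i'.ker ^ n) W') (ιL_injective (i'.ker ^ n) W')
    (ιL (i.ker ^ n) W) (ιL_injective (i.ker ^ n) W) hrange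
    (fun m' => (ClSub.idealMod (i.ker ^ n)).presheaf.map (homOfLE e).op
      (liftPow i i' g gZ hsq n W' m'))
    (fun m' => by
      change idealSect (i.ker ^ n) W _ = _
      rw [idealSect_map, liftPow_spec]
      rfl)
    _ hb12 _ hb3 φlin (fun m' => by
      change φ.app (i ⁻¹ᵁ W) (unitRes gZ (PrinPart.grMod i' n) hpre
        (unitRes i' (ClSub.idealMod (i'.ker ^ n)) le_rfl m')) =
          unitRes i (ClSub.idealMod (i.ker ^ n)) le_rfl _
      rw [unitRes_self, unitRes_self]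
      exact φ_res_cls i i' g gZ hsq n φ hφ e m')

end OnChart

variable (H : IsPullback i gZ g i')
  (φ : (Scheme.Modules.pullback gZ).obj (PrinPart.grMod i' n) ⟶ PrinPart.grMod i n)
  (hφ : PrinPart.IsGrMap i i' g gZ n φ)

include H hφ in
/-- **the graded map of a base change of a closed immersion is an epimorphism.** -/
theorem epi_gr : Epi φ := by
  have hsq : gZ ≫ i' = i ≫ g := H.w.symm
  apply Groth.Agent.Helper1.SerreCrit.epi_of_locally_surjective
  intro O t z hz
  obtain ⟨W', W, hW', hW, hW'c, hWc, e, hzW, hWO⟩ := exists_chart_pb i i' g gZ hsq z O hz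
  refine ⟨i ⁻¹ᵁ W, hWO, hzW, ?_⟩
  exact φ_surjective_chart i i' g gZ n φ hφ e hW' hW H _

include H hφ in
/-- **the graded map of a flat base change of a closed immersion is an isomorphism.** -/
theorem isIso_gr_of_flat [Flat g] : IsIso φ := by
  have hsq : gZ ≫ i' = i ≫ g := H.w.symm
  haveI : (ClSub.idealMod (i'.ker ^ n)).IsQuasicoherent :=
    Groth.Agent.Helper1.IdealModL.isQuasicoherent_idealMod (i'.ker ^ n)
  haveI : (PrinPart.grMod i' n).IsQuasicoherent :=
    Groth.Agent.Lead.PB.isQuasicoherent_pullback _ _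
  haveI : ((Scheme.Modules.pullback gZ).obj (PrinPart.grMod i' n)).IsQuasicoherent :=
    Groth.Agent.Lead.PB.isQuasicoherent_pullback _ _
  haveI : (ClSub.idealMod (i.ker ^ n)).IsQuasicoherent :=
    Groth.Agent.Helper1.IdealModL.isQuasicoherent_idealMod (i.ker ^ n)
  haveI : (PrinPart.grMod i n).IsQuasicoherent :=
    Groth.Agent.Lead.PB.isQuasicoherent_pullback _ _
  apply Groth.Agent.Lead.QcIso.isIso_of_bijective_affine
  intro z
  obtain ⟨W', W, hW', hW, hW'c, hWc, e, hzW, -⟩ := exists_chart_pb i i' g gZ hsq z ⊤ trivial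
  exact ⟨i ⁻¹ᵁ W, isAffineOpen_preimage_of_le_coborder i hW hWc, hzW,
    φ_bijective_chart i i' g gZ n φ hφ e hW' hW H⟩

end Sch

end Groth.Agent.Helper3.GrPb
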