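import Mathlib
import Groth.Prelude.Def_OmegaPn
import Groth.Prelude.Def_FlatMod2
import Groth.Agent.Lib.Lead.ConPb
import Groth.Agent.Lib.Lead.ConNbhd
import Groth.Agent.Lib.Lead.SD1
import Groth.Agent.Lib.Helper3.ConSecA
import Groth.Agent.Lib.Helper3.GrPbA
import Groth.Agent.Lib.Helper3.NFlat5

/-!
# Base change of the graded pieces `Gr_n` of a section when the lower graded pieces are flat

For a cartesian square `X = X' ×_{Z'} Z` with compatible sections `i' : Z' ⟶ X'`, `i : Z ⟶ X`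
(closed immersions) such that `Gr_k(i')` is a flat `O_{Z'}`-module for all `k < n`, the canonical
map `gZ^* Gr_n(i') ⟶ Gr_n(i)` is an isomorphism.
-/

set_option autoImplicit false
set_option backward.isDefEq.respectTransparency.types false
set_option linter.style.haveILetI false
set_option linter.unusedSectionVars false
set_option synthInstance.maxHeartbeats 400000
set_option maxHeartbeats 4000000

universe u
open CategoryTheory CategoryTheory.Limits AlgebraicGeometry TopologicalSpace Opposite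
open TensorProduct

namespace Groth.Agent.Helper3.GrSec

open OmegaSh Groth.Agent.Lead.DerU Groth.Agent.Lead.IdM Groth.Agent.Lead.OmU
  Groth.Agent.Lead.BCU Groth.Agent.Lead.ConMap Groth.Agent.Lead.ConChart Groth.Agent.Lead.PbI
  Groth.Agent.Lead.ConPb

section Alg0

variable {A C : Type u} [CommRing A] [CommRing C] (π : A →+* C)
  {M N : Type u} [AddCommGroup M] [Module A M] [AddCommGroup N] [Module C N] (l : M → N)
  (hl : IsBC π l)

include hl in
/-- maps out of a base change. -/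
theorem exists_lift_of_isBC {Q : Type u} [AddCommGroup Q] [Module C Q] (q : M →+ Q)
    (hq : ∀ (a : A) (m : M), q (a • m) = π a • q m) :
    ∃ χ : N →ₗ[C] Q, ∀ m, χ (l m) = q m := by
  letI := π.toAlgebra
  letI : Module A N := Module.compHom N π
  haveI : IsScalarTower A C N := ⟨fun a a' n => by
    change (π a * a') • n = π a • a' • n
    exact mul_smul _ _ _⟩
  obtain ⟨l', hl', hbl⟩ := hl
  letI : Module A Q := Module.compHom Q π
  haveI : IsScalarTower A C Q := ⟨fun a a' n => by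
    change (π a * a') • n = π a • a' • n
    exact mul_smul _ _ _⟩
  let q' : M →ₗ[A] Q :=
    { toFun := fun m => q m
      map_add' := fun x y => map_add q x y
      map_smul' := fun a m => hq a m }
  refine ⟨hbl.lift q', fun m => ?_⟩
  rw [← hl']
  exact hbl.lift_eq q' m

include hl in
theorem isBC_surjective (hπ : Function.Surjective π) : Function.Surjective l := by
  letI := π.toAlgebra
  letI : Module A N := Module.compHom N π
  haveI : IsScalarTower A C N := ⟨fun a a' n => by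
    change (π a * a') • n = π a • a' • n
    exact mul_smul _ _ _⟩
  obtain ⟨l', hl', hbl⟩ := hl
  intro n
  obtain ⟨m, hm⟩ := bc_surjective (A := A) (C := C) hπ l' hbl n
  exact ⟨m, by rw [← hl', hm]⟩

variable (ι : M →ₗ[A] A) (hι : Function.Injective ι) (J : Ideal A) (hJ : LinearMap.range ι = J)

include hl hι hJ in
/-- the base change along `π` kills `I₀ • M` for `I₀ ≤ ker π`. -/
theorem bc_eq_zero_of_mem_mul (I₀ : Ideal A) (hI₀ : I₀ ≤ RingHom.ker π) (m : M)
    (h : ι m ∈ I₀ * J) : l m = 0 := by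
  letI := π.toAlgebra
  letI : Module A N := Module.compHom N π
  haveI : IsScalarTower A C N := ⟨fun a a' n => by
    change (π a * a') • n = π a • a' • n
    exact mul_smul _ _ _⟩
  obtain ⟨l', hl', -⟩ := hl
  have key : ∀ x ∈ I₀ * J, ∀ m : M, ι m = x → l' m = 0 := by
    intro x hx
    refine Submodule.mul_induction_on' (C := fun x _ => ∀ m : M, ι m = x → l' m = 0) ?_ ?_ hx
    · intro a ha b hb m hm
      have hb2 : b ∈ LinearMap.range ι := by rw [hJ]; exact hb
      obtain ⟨mb, rfl⟩ := hb2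
      have : m = a • mb := by
        apply hι
        rw [hm, map_smul, smul_eq_mul]
      rw [this, l'.map_smul]
      change π a • l' mb = 0
      rw [RingHom.mem_ker.mp (hI₀ ha), zero_smul]
    · intro x hx y _ hx' hy' m hm
      have hxr : x ∈ LinearMap.range ι := by
        rw [hJ]; exact Ideal.mul_le_right hx
      obtain ⟨mx, rfl⟩ := hxr
      have : l' (m - mx) = 0 := hy' (m - mx) (by rw [map_sub, hm, add_sub_cancel_left])
      rw [map_sub, hx' mx rfl, sub_zero] at this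
      exact this
  rw [← hl']
  exact key _ h m rfl

end Alg0

section Alg1

theorem flat_quot_of_eq {R C' : Type u} [CommRing R] [CommRing C'] [Algebra C' R]
    {K₁ K₂ : Ideal R} (h : K₁ = K₂) (hT : Module.Flat C' (R ⧸ K₁)) : Module.Flat C' (R ⧸ K₂) := by
  subst h
  exact hT

variable {R C' : Type u} [CommRing R] [CommRing C'] (π' : R →+* C') (σ' : C' →+* R)
  (hσ' : π'.comp σ' = RingHom.id C')
  {M' : Type u} [AddCommGroup M'] [Module R M'] (ι' : M' →ₗ[R] R) (hι' : Function.Injective ι')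
  (J' : Ideal R) (hJ' : LinearMap.range ι' = J')
  {N : Type u} [AddCommGroup N] [Module C' N] (l : M' → N) (hl : IsBC π' l)

include hσ' hι' hJ' hl in
/-- if `I^k/I^(k+1)` and `R/I^k` are flat over `C' = R/I` (a retract of `R`), so is
`R/I^(k+1)`. -/
theorem flat_quot_mul (hN : Module.Flat C' N)
    (hT : letI := σ'.toAlgebra; Module.Flat C' (R ⧸ J')) :
    letI := σ'.toAlgebra
    Module.Flat C' (R ⧸ (RingHom.ker π' * J')) := by
  letI algC'R : Algebra C' R := σ'.toAlgebra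
  have hπ'σ' : ∀ c : C', π' (σ' c) = c := fun c => congrArg (fun χ => χ c) hσ'
  have hπ's : Function.Surjective π' := fun c => ⟨σ' c, hπ'σ' c⟩
  have hmem : ∀ m, ι' m ∈ J' := fun m => by
    rw [← hJ']
    exact LinearMap.mem_range_self ι' m
  have hle : RingHom.ker π' * J' ≤ J' := Ideal.mul_le_right
  let q : M' →+ R ⧸ (RingHom.ker π' * J') :=
    (Submodule.mkQ (RingHom.ker π' * J')).toAddMonoidHom.comp ι'.toAddMonoidHom
  have hq : ∀ (a : R) (m : M'), q (a • m) = π' a • q m := by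
    intro a m
    change (Submodule.Quotient.mk (ι' (a • m)) : R ⧸ (RingHom.ker π' * J')) =
      Submodule.Quotient.mk (σ' (π' a) * ι' m)
    rw [Submodule.Quotient.eq, map_smul, smul_eq_mul, ← sub_mul]
    exact Ideal.mul_mem_mul (by rw [RingHom.mem_ker, map_sub, hπ'σ', sub_self]) (hmem m)
  obtain ⟨f, hf⟩ := exists_lift_of_isBC π' l hl q hq
  let g : R ⧸ (RingHom.ker π' * J') →ₗ[C'] R ⧸ J' :=
    (Submodule.mapQ (RingHom.ker π' * J') J' (LinearMap.id : R →ₗ[R] R)
      (by rw [Submodule.comap_id]; exact hle)).restrictScalars C'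
  have hg : ∀ y : R, g (Submodule.Quotient.mk y) = Submodule.Quotient.mk y := fun y => rfl
  have hls : Function.Surjective l := isBC_surjective π' l hl hπ's
  have hfinj : Function.Injective f := by
    rw [injective_iff_map_eq_zero]
    intro n hn
    obtain ⟨m, rfl⟩ := hls n
    rw [hf] at hn
    have hm : ι' m ∈ RingHom.ker π' * J' :=
      (Submodule.Quotient.mk_eq_zero (RingHom.ker π' * J')).1 hn
    exact bc_eq_zero_of_mem_mul π' l hl ι' hι' J' hJ' (RingHom.ker π') le_rfl m hm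
  have hex : Function.Exact f g := by
    intro x
    constructor
    · intro hx
      obtain ⟨y, rfl⟩ := Submodule.Quotient.mk_surjective (RingHom.ker π' * J') x
      rw [hg] at hx
      have hy : y ∈ J' := (Submodule.Quotient.mk_eq_zero J').1 hx
      rw [← hJ'] at hy
      obtain ⟨m, rfl⟩ := LinearMap.mem_range.1 hy
      exact ⟨l m, hf m⟩
    · rintro ⟨n, rfl⟩
      obtain ⟨m, rfl⟩ := hls n
      rw [hf]
      change g (Submodule.Quotient.mk (ι' m)) = 0
      rw [hg]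
      exact (Submodule.Quotient.mk_eq_zero J').2 (hmem m)
  have hgs : Function.Surjective g := by
    intro x
    obtain ⟨y, rfl⟩ := Submodule.Quotient.mk_surjective J' x
    exact ⟨Submodule.Quotient.mk y, hg y⟩
  haveI := hN
  haveI : Module.Flat C' (R ⧸ J') := hT
  exact Groth.Agent.Helper3.NFlat.flat_of_exact_of_flat_flat f g hfinj hex hgs

end Alg1

section Alg3

variable {R A C C' : Type u} [CommRing R] [CommRing A] [CommRing C] [CommRing C']
  (ρ : R →+* A) (π : A →+* C) (π' : R →+* C') (β : C' →+* C) (σ' : C' →+* R) (σ : C →+* A)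
  (hπρ : π.comp ρ = β.comp π') (hσ' : π'.comp σ' = RingHom.id C')
  (hσ : π.comp σ = RingHom.id C) (hρσ : ρ.comp σ' = σ.comp β)
  (hpo : IsPushout (CommRingCat.ofHom σ') (CommRingCat.ofHom β)
    (CommRingCat.ofHom ρ) (CommRingCat.ofHom σ))
  {M' : Type u} [AddCommGroup M'] [Module R M'] (ι' : M' →ₗ[R] R) (hι' : Function.Injective ι')
  (J' : Ideal R) (hJ' : LinearMap.range ι' = J')
  {M : Type u} [AddCommGroup M] [Module A M] (ι : M →ₗ[A] A)
  (J : Ideal A) (hJ : LinearMap.range ι = J)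
  (hIJ : RingHom.ker π * J ≤ Ideal.map ρ (RingHom.ker π' * J'))
  (γ : M' → M) (hγ : ∀ m', ι (γ m') = ρ (ι' m'))
  {P : Type u} [AddCommGroup P] [Module C P] (L : M' → P) (hL : IsBC (π.comp ρ) L)
  {N : Type u} [AddCommGroup N] [Module C N] (l : M → N) (hl : IsBC π l)
  (φ : P →ₗ[C] N) (hφ : ∀ m', φ (L m') = l (γ m'))
  (hT : letI := σ'.toAlgebra; Module.Flat C' (R ⧸ J'))

include hπρ hσ' hσ hρσ hpo hι' hJ' hJ hIJ hγ hL hl hφ hT in
/-- for compatible sections of a pushout square of rings, with `R/J'` flat over the retract `C'`: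
injectivity of the comparison map `C ⊗ (J'/I'J') → J/IJ`. -/
theorem injective_of_flat_quot : Function.Injective φ := by
  letI algRA : Algebra R A := ρ.toAlgebra
  letI algRC : Algebra R C := (π.comp ρ).toAlgebra
  letI algC'R : Algebra C' R := σ'.toAlgebra
  letI algC'C : Algebra C' C := β.toAlgebra
  letI algCA : Algebra C A := σ.toAlgebra
  letI algC'A : Algebra C' A := (ρ.comp σ').toAlgebra
  haveI : IsScalarTower C' R A := IsScalarTower.of_algebraMap_eq' rfl
  haveI : IsScalarTower C' C A := IsScalarTower.of_algebraMap_eq' hρσ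
  have hP : Algebra.IsPushout C' C R A := CommRingCat.isPushout_iff_isPushout.mp hpo.flip
  have hbc : IsBaseChange C (IsScalarTower.toAlgHom C' R A).toLinearMap := hP.out
  have hπσ : ∀ c : C, π (σ c) = c := fun c => congrArg (fun χ => χ c) hσ
  have hπ'σ' : ∀ c : C', π' (σ' c) = c := fun c => congrArg (fun χ => χ c) hσ'
  have hπρ' : ∀ x : R, π (ρ x) = β (π' x) := fun x => congrArg (fun χ => χ x) hπρ
  have hmem' : ∀ m', ι' m' ∈ J' := fun m' => by
    rw [← hJ']
    exact LinearMap.mem_range_self ι' m'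
  have hmem : ∀ m, ι m ∈ J := fun m => by
    rw [← hJ]
    exact LinearMap.mem_range_self ι m
  letI modRP : Module R P := Module.compHom P (π.comp ρ)
  haveI : IsScalarTower R C P := ⟨fun a a' n => by
    change ((π.comp ρ) a * a') • n = (π.comp ρ) a • a' • n
    exact mul_smul _ _ _⟩
  have hL0 := hL
  obtain ⟨L', hL', hbL⟩ := hL
  letI modC'P : Module C' P := Module.compHom P β
  haveI : IsScalarTower C' C P := ⟨fun a a' n => by
    change (β a * a') • n = β a • a' • n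
    exact mul_smul _ _ _⟩
  letI modC'M' : Module C' M' := Module.compHom M' σ'
  haveI : IsScalarTower C' R M' := ⟨fun c x m => by
    change (σ' c * x) • m = σ' c • x • m
    exact mul_smul _ _ _⟩
  let ι'C : M' →ₗ[C'] R := ι'.restrictScalars C'
  let κ : C ⊗[C'] M' →ₗ[C] A :=
    LinearMap.liftBaseChange C ((IsScalarTower.toAlgHom C' R A).toLinearMap ∘ₗ ι'C)
  have hκt : ∀ (c : C) (m' : M'), κ (c ⊗ₜ m') = σ c * ρ (ι' m') := fun c m' => rfl
  haveI hTflat : Module.Flat C' (R ⧸ J') := hT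
  let fq : R →ₗ[C'] R ⧸ J' := (Submodule.mkQ J').restrictScalars C'
  have hfq : Function.Surjective fq := Submodule.mkQ_surjective J'
  have hι'C : Function.Injective ι'C := hι'
  have hexq : Function.Exact ι'C fq := by
    intro x
    constructor
    · intro hx
      have hx' : x ∈ J' := (Submodule.Quotient.mk_eq_zero J').1 hx
      rw [← hJ'] at hx'
      exact LinearMap.mem_range.1 hx'
    · rintro ⟨m', rfl⟩
      exact (Submodule.Quotient.mk_eq_zero J').2 (hmem' m')
  have hlT : Function.Injective (ι'C.lTensor C) :=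
    LinearMap.lTensor_injective_of_exact_of_flat fq hfq ι'C hι'C hexq C
  have hκeq : ∀ t, κ t = hbc.equiv (ι'C.lTensor C t) := by
    intro t
    induction t using TensorProduct.induction_on with
    | zero => rw [map_zero, map_zero, map_zero]
    | tmul c m' =>
      rw [LinearMap.lTensor_tmul, IsBaseChange.equiv_tmul]
      rfl
    | add x y hx hy => rw [map_add, map_add, map_add, hx, hy]
  have hκinj : Function.Injective κ := by
    intro t₁ t₂ h
    rw [hκeq, hκeq] at h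
    exact hlT (hbc.equiv.injective h)
  let L'C : M' →ₗ[C'] P :=
    { toFun := fun m' => L' m'
      map_add' := fun x y => L'.map_add x y
      map_smul' := fun c m' => by
        change L' (σ' c • m') = β c • L' m'
        rw [L'.map_smul]
        change π (ρ (σ' c)) • L' m' = β c • L' m'
        rw [hπρ', hπ'σ'] }
  let Φ : C ⊗[C'] M' →ₗ[C] P := LinearMap.liftBaseChange C L'C
  have hΦt : ∀ (c : C) (m' : M'), Φ (c ⊗ₜ m') = c • L' m' := fun c m' => rfl
  have hΦs : Function.Surjective Φ := by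
    intro p
    induction p using hbL.inductionOn with
    | zero => exact ⟨0, map_zero _⟩
    | tmul m' => exact ⟨1 ⊗ₜ m', by rw [hΦt, one_smul]⟩
    | smul c p ih =>
      obtain ⟨t, rfl⟩ := ih
      exact ⟨c • t, map_smul _ _ _⟩
    | add p₁ p₂ h₁ h₂ =>
      obtain ⟨t₁, rfl⟩ := h₁
      obtain ⟨t₂, rfl⟩ := h₂
      exact ⟨t₁ + t₂, map_add _ _ _⟩
  let q : M →+ A ⧸ (RingHom.ker π * J) :=
    (Submodule.mkQ (RingHom.ker π * J)).toAddMonoidHom.comp ι.toAddMonoidHom
  have hq : ∀ (a : A) (m : M), q (a • m) = π a • q m := by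
    intro a m
    change (Submodule.Quotient.mk (ι (a • m)) : A ⧸ (RingHom.ker π * J)) =
      Submodule.Quotient.mk (σ (π a) * ι m)
    rw [Submodule.Quotient.eq, map_smul, smul_eq_mul, ← sub_mul]
    exact Ideal.mul_mem_mul (by rw [RingHom.mem_ker, map_sub, hπσ, sub_self]) (hmem m)
  obtain ⟨χ, hχ⟩ := exists_lift_of_isBC π l hl q hq
  have hkey : ∀ t, χ (φ (Φ t)) =
      (Submodule.Quotient.mk (κ t) : A ⧸ (RingHom.ker π * J)) := by
    intro t
    induction t using TensorProduct.induction_on with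
    | zero => rw [map_zero, map_zero, map_zero, map_zero, Submodule.Quotient.mk_zero]
    | tmul c m' =>
      rw [hΦt, φ.map_smul, χ.map_smul, hL', hφ, hχ, hκt]
      change c • (Submodule.Quotient.mk (ι (γ m')) : A ⧸ (RingHom.ker π * J)) =
        Submodule.Quotient.mk (σ c * ρ (ι' m'))
      rw [hγ]
      rfl
    | add x y hx hy => simp only [map_add, Submodule.Quotient.mk_add, hx, hy]
  have hLzero : ∀ m'' : M', ι' m'' ∈ RingHom.ker π' * J' → L' m'' = 0 := by
    intro m'' h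
    rw [hL']
    exact bc_eq_zero_of_mem_mul (π.comp ρ) L hL0 ι' hι' J' hJ' (RingHom.ker π') (fun x hx => by
      rw [RingHom.mem_ker] at hx ⊢
      change π (ρ x) = 0
      rw [hπρ', hx, map_zero]) m'' h
  let μ : R → (C ⊗[C'] M' →ₗ[C] C ⊗[C'] M') := fun x =>
    ((LinearMap.lsmul R M' x).restrictScalars C').baseChange C
  have hμt : ∀ (x : R) (c : C) (m' : M'), μ x (c ⊗ₜ m') = c ⊗ₜ (x • m') := fun x c m' => rfl
  have hμκ : ∀ (x : R) t, κ (μ x t) = ρ x * κ t := by
    intro x t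
    induction t using TensorProduct.induction_on with
    | zero => simp only [map_zero, mul_zero]
    | tmul c m' =>
      rw [hμt, hκt, hκt, map_smul, smul_eq_mul, map_mul]
      ring
    | add y z hy hz => simp only [map_add, hy, hz, mul_add]
  have hμΦ : ∀ (x : R) t, Φ (μ x t) = (π (ρ x)) • Φ t := by
    intro x t
    induction t using TensorProduct.induction_on with
    | zero => simp only [map_zero, smul_zero]
    | tmul c m' =>
      rw [hμt, hΦt, hΦt, L'.map_smul]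
      change c • ((π.comp ρ) x • L' m') = π (ρ x) • (c • L' m')
      rw [smul_smul, smul_smul, mul_comm]
      rfl
    | add y z hy hz => simp only [map_add, hy, hz, smul_add]
  have hclos : ∀ (a : A) t, Φ t = 0 → ∃ t', κ t' = a * κ t ∧ Φ t' = 0 := by
    intro a
    induction a using hbc.inductionOn with
    | zero =>
      intro t _
      exact ⟨0, by rw [map_zero, zero_mul], map_zero _⟩
    | tmul x =>
      intro t ht
      refine ⟨μ x t, ?_, ?_⟩
      · rw [hμκ]
        rfl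
      · rw [hμΦ, ht, smul_zero]
    | smul c a ih =>
      intro t ht
      obtain ⟨t', h1, h2⟩ := ih t ht
      refine ⟨c • t', ?_, ?_⟩
      · rw [map_smul, h1, smul_mul_assoc]
      · rw [map_smul, h2, smul_zero]
    | add a₁ a₂ ih₁ ih₂ =>
      intro t ht
      obtain ⟨t₁, h1, h2⟩ := ih₁ t ht
      obtain ⟨t₂, h3, h4⟩ := ih₂ t ht
      exact ⟨t₁ + t₂, by rw [map_add, h1, h3, add_mul], by rw [map_add, h2, h4, add_zero]⟩
  have hS : ∀ x ∈ Ideal.map ρ (RingHom.ker π' * J'), ∃ t', κ t' = x ∧ Φ t' = 0 := by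
    intro x hx
    have hx' : x ∈ Ideal.span (ρ '' ((RingHom.ker π' * J' : Ideal R) : Set R)) := hx
    clear hx
    induction hx' using Submodule.span_induction with
    | mem y hy =>
      obtain ⟨r, hr, rfl⟩ := hy
      have hrJ : r ∈ LinearMap.range ι' := by
        rw [hJ']
        exact Ideal.mul_le_right hr
      obtain ⟨m'', rfl⟩ := LinearMap.mem_range.1 hrJ
      refine ⟨1 ⊗ₜ m'', ?_, ?_⟩
      · rw [hκt, map_one, one_mul]
      · rw [hΦt, one_smul]
        exact hLzero m'' hr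
    | zero => exact ⟨0, map_zero _, map_zero _⟩
    | add y z _ _ ihy ihz =>
      obtain ⟨ty, h1, h2⟩ := ihy
      obtain ⟨tz, h3, h4⟩ := ihz
      exact ⟨ty + tz, by rw [map_add, h1, h3], by rw [map_add, h2, h4, add_zero]⟩
    | smul a y _ ihy =>
      obtain ⟨ty, h1, h2⟩ := ihy
      obtain ⟨t', h3, h4⟩ := hclos a ty h2
      exact ⟨t', by rw [h3, h1, smul_eq_mul], h4⟩
  rw [injective_iff_map_eq_zero]
  intro p hp
  obtain ⟨t, rfl⟩ := hΦs p
  have h1 : (Submodule.Quotient.mk (κ t) : A ⧸ (RingHom.ker π * J)) = 0 := by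
    rw [← hkey, hp, map_zero]
  have h2 : κ t ∈ RingHom.ker π * J := (Submodule.Quotient.mk_eq_zero _).1 h1
  obtain ⟨t', h3, h4⟩ := hS _ (hIJ h2)
  have h5 : t' = t := hκinj h3
  rw [← h5, h4]

end Alg3

section Aux

theorem ker_eq_ideal {Z X : Scheme.{u}} (i : Z ⟶ X) [QuasiCompact i] {W : X.Opens} (hW : IsAffineOpen W) :
    RingHom.ker (i.appLE W (i ⁻¹ᵁ W) le_rfl).hom = i.ker.ideal ⟨W, hW⟩ := by
  rw [Scheme.Hom.ker_apply, Scheme.Hom.appLE_eq_app]

end Aux

section Chart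

variable {Z X Z' X' : Scheme.{u}} (i : Z ⟶ X) (i' : Z' ⟶ X') [IsClosedImmersion i]
  [IsClosedImmersion i'] (g : X ⟶ X') (gZ : Z ⟶ Z')
  (r : X ⟶ Z) (r' : X' ⟶ Z') (hr : i ≫ r = 𝟙 Z) (hr' : i' ≫ r' = 𝟙 Z')
  (H : IsPullback i gZ g i') (H2 : IsPullback g r r' gZ) (n : ℕ)

include hr' in
/-- on a chart compatible with the retraction, `O(W')/I^k` is flat over `O(i'⁻¹ W')` when the
graded pieces of degree `< k` are flat. -/
theorem flat_quot_pow {W' : X'.Opens} (hW' : IsAffineOpen W')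
    (hr'W : W' ≤ r' ⁻¹ᵁ (i' ⁻¹ᵁ W')) (k : ℕ)
    (hflat : ∀ j < k, FlatMod.IsFlat (PrinPart.grMod i' j)) :
    letI := (r'.appLE (i' ⁻¹ᵁ W') W' hr'W).hom.toAlgebra
    Module.Flat Γ(Z', i' ⁻¹ᵁ W') (Γ(X', W') ⧸ (i'.ker.ideal ⟨W', hW'⟩) ^ k) := by
  letI alg := (r'.appLE (i' ⁻¹ᵁ W') W' hr'W).hom.toAlgebra
  have hW'c : W' ≤ i'.coborderRange := by
    rw [Groth.Agent.Lead.ConNbhd.coborderRange_eq_top]
    exact le_top
  have hT : IsAffineOpen (i' ⁻¹ᵁ W') := isAffineOpen_preimage_of_le_coborder i' hW' hW'c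
  have hσ' : (i'.appLE W' (i' ⁻¹ᵁ W') le_rfl).hom.comp
      (r'.appLE (i' ⁻¹ᵁ W') W' hr'W).hom = RingHom.id _ := by
    rw [← CommRingCat.hom_comp, Scheme.Hom.appLE_comp_appLE]
    exact congrArg CommRingCat.Hom.hom (Groth.Agent.Helper3.ConSec.appLE_of_eq_id _ hr' _ _)
  have hker := ker_eq_ideal i' hW'
  induction k with
  | zero =>
    have h0 : (⊤ : Ideal Γ(X', W')) = (i'.ker.ideal ⟨W', hW'⟩) ^ 0 := by
      rw [pow_zero, Ideal.one_eq_top]
    haveI : Subsingleton (Γ(X', W') ⧸ (⊤ : Ideal Γ(X', W'))) :=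
      Ideal.Quotient.subsingleton_iff.2 rfl
    exact flat_quot_of_eq h0 inferInstance
  | succ k ih =>
    have ihk := ih (fun j hj => hflat j (Nat.lt_succ_of_lt hj))
    haveI : (ClSub.idealMod (i'.ker ^ k)).IsQuasicoherent :=
      Groth.Agent.Helper1.IdealModL.isQuasicoherent_idealMod (i'.ker ^ k)
    haveI : (PrinPart.grMod i' k).IsQuasicoherent :=
      Groth.Agent.Lead.PB.isQuasicoherent_pullback _ _
    have hN : Module.Flat Γ(Z', i' ⁻¹ᵁ W') Γ(PrinPart.grMod i' k, i' ⁻¹ᵁ W') :=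
      Groth.Agent.Lead.SD.flat_sections_of_flat_stalks (PrinPart.grMod i' k) hT
        (fun z => hflat k (Nat.lt_succ_self k) z.1)
    have hb := isBC_unitRes i' (ClSub.idealMod (i'.ker ^ k)) hW' hT le_rfl
    have hJ' : LinearMap.range (ιL (i'.ker ^ k) W') = (i'.ker.ideal ⟨W', hW'⟩) ^ k := by
      rw [range_ιL (i'.ker ^ k) ⟨W', hW'⟩]
      rfl
    have h1 := flat_quot_mul (i'.appLE W' (i' ⁻¹ᵁ W') le_rfl).hom
      (r'.appLE (i' ⁻¹ᵁ W') W' hr'W).hom hσ' (ιL (i'.ker ^ k) W')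
      (ιL_injective (i'.ker ^ k) W') ((i'.ker.ideal ⟨W', hW'⟩) ^ k) hJ' _ hb hN ihk
    have h2 : RingHom.ker (i'.appLE W' (i' ⁻¹ᵁ W') le_rfl).hom *
        (i'.ker.ideal ⟨W', hW'⟩) ^ k = (i'.ker.ideal ⟨W', hW'⟩) ^ (k + 1) := by
      rw [hker, ← pow_succ']
    exact flat_quot_of_eq h2 h1

variable (φ : (Scheme.Modules.pullback gZ).obj (PrinPart.grMod i' n) ⟶ PrinPart.grMod i n)
  (hφ : PrinPart.IsGrMap i i' g gZ n φ)
  {W' : X'.Opens} {W : X.Opens} (e : W ≤ g ⁻¹ᵁ W')
  (hW' : IsAffineOpen W') (hW : IsAffineOpen W)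
  (hr'W : W' ≤ r' ⁻¹ᵁ (i' ⁻¹ᵁ W')) (hrW : W ≤ r ⁻¹ᵁ (i ⁻¹ᵁ W))
  (hWeq : W = g ⁻¹ᵁ W' ⊓ r ⁻¹ᵁ (i ⁻¹ᵁ W))
  (hflat : ∀ j < n, FlatMod.IsFlat (PrinPart.grMod i' j))

include hr hr' H H2 hφ e hW' hW hr'W hrW hWeq hflat in
theorem φ_injective_chart_gr : Function.Injective (φ.app (i ⁻¹ᵁ W)) := by
  have hsq : gZ ≫ i' = i ≫ g := H.w.symm
  have hW'c : W' ≤ i'.coborderRange := by
    rw [Groth.Agent.Lead.ConNbhd.coborderRange_eq_top]
    exact le_top
  have hWc : W ≤ i.coborderRange := by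
    rw [Groth.Agent.Lead.ConNbhd.coborderRange_eq_top]
    exact le_top
  have hT : IsAffineOpen (i' ⁻¹ᵁ W') := isAffineOpen_preimage_of_le_coborder i' hW' hW'c
  have hO : IsAffineOpen (i ⁻¹ᵁ W) := isAffineOpen_preimage_of_le_coborder i hW hWc
  have hpre : i ⁻¹ᵁ W ≤ gZ ⁻¹ᵁ (i' ⁻¹ᵁ W') := pre_le i i' g gZ hsq e
  haveI : (ClSub.idealMod (i'.ker ^ n)).IsQuasicoherent :=
    Groth.Agent.Helper1.IdealModL.isQuasicoherent_idealMod (i'.ker ^ n)
  haveI : (PrinPart.grMod i' n).IsQuasicoherent :=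
    Groth.Agent.Lead.PB.isQuasicoherent_pullback _ _
  haveI : (ClSub.idealMod (i.ker ^ n)).IsQuasicoherent :=
    Groth.Agent.Helper1.IdealModL.isQuasicoherent_idealMod (i.ker ^ n)
  have hb1 := isBC_unitRes i' (ClSub.idealMod (i'.ker ^ n)) hW' hT le_rfl
  have hb2 := isBC_unitRes gZ (PrinPart.grMod i' n) hT hO hpre
  have hb12 := Groth.Agent.Lead.FlatBC.isBC_comp _ _ hb1 hb2
  have hrings : (gZ.appLE (i' ⁻¹ᵁ W') (i ⁻¹ᵁ W) hpre).hom.comp
      (i'.appLE W' (i' ⁻¹ᵁ W') le_rfl).hom =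
      (i.appLE W (i ⁻¹ᵁ W) le_rfl).hom.comp (g.appLE W' W e).hom := by
    rw [← CommRingCat.hom_comp, ← CommRingCat.hom_comp, Scheme.Hom.appLE_comp_appLE,
      Scheme.Hom.appLE_comp_appLE]
    exact congrArg CommRingCat.Hom.hom
      (Groth.Agent.Helper3.ConSec.appLE_congr' _ _ hsq _ _ _ _)
  rw [hrings] at hb12
  have hb3 := isBC_unitRes i (ClSub.idealMod (i.ker ^ n)) hW hO le_rfl
  let φlin : Γ((Scheme.Modules.pullback gZ).obj (PrinPart.grMod i' n), i ⁻¹ᵁ W) →ₗ[Γ(Z, i ⁻¹ᵁ W)]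
      Γ(PrinPart.grMod i n, i ⁻¹ᵁ W) :=
    { toFun := fun t => φ.app (i ⁻¹ᵁ W) t
      map_add' := fun x y => map_add _ x y
      map_smul' := fun r x => by
        rw [Scheme.Modules.Hom.app_smul]
        rfl }
  have hσ' : (i'.appLE W' (i' ⁻¹ᵁ W') le_rfl).hom.comp
      (r'.appLE (i' ⁻¹ᵁ W') W' hr'W).hom = RingHom.id _ := by
    rw [← CommRingCat.hom_comp, Scheme.Hom.appLE_comp_appLE]
    exact congrArg CommRingCat.Hom.hom (Groth.Agent.Helper3.ConSec.appLE_of_eq_id _ hr' _ _)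
  have hσ : (i.appLE W (i ⁻¹ᵁ W) le_rfl).hom.comp
      (r.appLE (i ⁻¹ᵁ W) W hrW).hom = RingHom.id _ := by
    rw [← CommRingCat.hom_comp, Scheme.Hom.appLE_comp_appLE]
    exact congrArg CommRingCat.Hom.hom (Groth.Agent.Helper3.ConSec.appLE_of_eq_id _ hr _ _)
  have hρσ : (g.appLE W' W e).hom.comp (r'.appLE (i' ⁻¹ᵁ W') W' hr'W).hom =
      (r.appLE (i ⁻¹ᵁ W) W hrW).hom.comp (gZ.appLE (i' ⁻¹ᵁ W') (i ⁻¹ᵁ W) hpre).hom := by
    rw [← CommRingCat.hom_comp, ← CommRingCat.hom_comp, Scheme.Hom.appLE_comp_appLE,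
      Scheme.Hom.appLE_comp_appLE]
    exact congrArg CommRingCat.Hom.hom
      (Groth.Agent.Helper3.ConSec.appLE_congr' _ _ H2.w _ _ _ _)
  have hiso := isIso_pushoutSection_of_isAffineOpen H2 hpre hr'W hWeq hT hO hW'
  have hpo := (isIso_pushoutSection_iff H2 hpre hr'W hWeq).1 hiso
  have hJ' : LinearMap.range (ιL (i'.ker ^ n) W') = (i'.ker.ideal ⟨W', hW'⟩) ^ n := by
    rw [range_ιL (i'.ker ^ n) ⟨W', hW'⟩]
    rfl
  have hJ : LinearMap.range (ιL (i.ker ^ n) W) = (i.ker.ideal ⟨W, hW⟩) ^ n := by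
    rw [range_ιL (i.ker ^ n) ⟨W, hW⟩]
    rfl
  have hkerπ' := ker_eq_ideal i' hW'
  have hkerπ := ker_eq_ideal i hW
  have hIJ : RingHom.ker (i.appLE W (i ⁻¹ᵁ W) le_rfl).hom * (i.ker.ideal ⟨W, hW⟩) ^ n ≤
      Ideal.map (g.appLE W' W e).hom
        (RingHom.ker (i'.appLE W' (i' ⁻¹ᵁ W') le_rfl).hom * (i'.ker.ideal ⟨W', hW'⟩) ^ n) := by
    rw [hkerπ, hkerπ', ← pow_succ', ← pow_succ']
    exact (Groth.Agent.Helper3.GrPb.ideal_pow_eq_map i i' g gZ (n + 1) e hW' hW H).le
  have hT' := flat_quot_pow i' r' hr' hW' hr'W n hflat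
  exact injective_of_flat_quot (g.appLE W' W e).hom (i.appLE W (i ⁻¹ᵁ W) le_rfl).hom
    (i'.appLE W' (i' ⁻¹ᵁ W') le_rfl).hom (gZ.appLE (i' ⁻¹ᵁ W') (i ⁻¹ᵁ W) hpre).hom
    (r'.appLE (i' ⁻¹ᵁ W') W' hr'W).hom (r.appLE (i ⁻¹ᵁ W) W hrW).hom
    hrings.symm hσ' hσ hρσ hpo
    (ιL (i'.ker ^ n) W') (ιL_injective (i'.ker ^ n) W') _ hJ'
    (ιL (i.ker ^ n) W) _ hJ hIJ
    (fun m' => (ClSub.idealMod (i.ker ^ n)).presheaf.map (homOfLE e).op
      (Groth.Agent.Helper3.GrPb.liftPow i i' g gZ hsq n W' m'))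
    (fun m' => by
      change idealSect (i.ker ^ n) W _ = _
      rw [idealSect_map, Groth.Agent.Helper3.GrPb.liftPow_spec]
      rfl)
    _ hb12 _ hb3 φlin (fun m' => by
      change φ.app (i ⁻¹ᵁ W) (unitRes gZ (PrinPart.grMod i' n) hpre
        (unitRes i' (ClSub.idealMod (i'.ker ^ n)) le_rfl m')) =
          unitRes i (ClSub.idealMod (i.ker ^ n)) le_rfl _
      rw [unitRes_self, unitRes_self]
      exact Groth.Agent.Helper3.GrPb.φ_res_cls i i' g gZ hsq n φ hφ e m') hT'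

include hr hr' H H2 hφ in
/-- **Base change of `Gr_n` of a section when the lower graded pieces are flat.** -/
theorem isIso_gr_section_of_flat (hflat : ∀ j < n, FlatMod.IsFlat (PrinPart.grMod i' j)) :
    IsIso φ := by
  have hsq : gZ ≫ i' = i ≫ g := H.w.symm
  haveI : (ClSub.idealMod (i'.ker ^ n)).IsQuasicoherent :=
    Groth.Agent.Helper1.IdealModL.isQuasicoherent_idealMod (i'.ker ^ n)
  haveI : (PrinPart.grMod i' n).IsQuasicoherent :=
    Groth.Agent.Lead.PB.isQuasicoherent_pullback _ _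
  haveI : ((Scheme.Modules.pullback gZ).obj (PrinPart.grMod i' n)).IsQuasicoherent :=
    Groth.Agent.Lead.PB.isQuasicoherent_pullback _ _
  haveI : (ClSub.idealMod (i.ker ^ n)).IsQuasicoherent :=
    Groth.Agent.Helper1.IdealModL.isQuasicoherent_idealMod (i.ker ^ n)
  haveI : (PrinPart.grMod i n).IsQuasicoherent :=
    Groth.Agent.Lead.PB.isQuasicoherent_pullback _ _
  apply Groth.Agent.Lead.QcIso.isIso_of_bijective_affine
  intro z
  obtain ⟨W', W, hW', hW, e, hr'W, hrW, hWeq, hzW⟩ :=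
    Groth.Agent.Helper3.ConSec.exists_chart_section i i' g gZ r r' hr hr' hsq H2 z
  have hWc : W ≤ i.coborderRange := by
    rw [Groth.Agent.Lead.ConNbhd.coborderRange_eq_top]
    exact le_top
  refine ⟨i ⁻¹ᵁ W, isAffineOpen_preimage_of_le_coborder i hW hWc, hzW, ?_, ?_⟩
  · exact φ_injective_chart_gr i i' g gZ r r' hr hr' H H2 n φ hφ e hW' hW hr'W hrW hWeq hflat
  · intro nn
    exact Groth.Agent.Helper3.GrPb.φ_surjective_chart i i' g gZ n φ hφ e hW' hW H nn

end Chart

end Groth.Agent.Helper3.GrSec
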