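import Mathlib
import Groth.Agent.Lib.Helper7.GrGen.Rees
import Groth.Agent.Lib.Helper5.TorAmp.FlatLin

/-!
# S12134: stratification of `Spec A₀` with flat graded pieces of the `J₀`-adic filtration

helper3.  Uses Helper7 `GrGen.exists_aflat_gr` (uniform generic flatness of the graded pieces over a
reduced base) and Noetherian induction on ideals of `A₀`.
-/

set_option autoImplicit false
set_option maxHeartbeats 1600000
set_option synthInstance.maxHeartbeats 400000
set_option linter.unusedSectionVars false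
set_option linter.unusedVariables false
set_option linter.style.haveILetI false

universe u

open TensorProduct

namespace Groth.Agent.Helper3.GrStrat

/-! ### base change along a surjective ring map -/

section BCQ

variable {R : Type u} {A : Type u} [CommRing R] [CommRing A] [Algebra R A]
  {Y Z : Type u} [AddCommGroup Y] [Module R Y] [AddCommGroup Z] [Module R Z] [Module A Z]
  [IsScalarTower R A Z]

theorem isBaseChange_of_surjective (hsurj : Function.Surjective (algebraMap R A))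
    (ψ : Y →ₗ[R] Z) (hψ : Function.Surjective ψ)
    (hker : LinearMap.ker ψ ≤ (RingHom.ker (algebraMap R A)) • (⊤ : Submodule R Y)) :
    IsBaseChange A ψ := by
  have hform : ∀ t : A ⊗[R] Y, ∃ y, t = (1 : A) ⊗ₜ[R] y := by
    intro t
    induction t using TensorProduct.induction_on with
    | zero => exact ⟨0, by simp⟩
    | tmul a y =>
      obtain ⟨r, rfl⟩ := hsurj a
      refine ⟨r • y, ?_⟩
      rw [Algebra.algebraMap_eq_smul_one, TensorProduct.smul_tmul]
    | add t₁ t₂ h₁ h₂ =>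
      obtain ⟨y₁, rfl⟩ := h₁
      obtain ⟨y₂, rfl⟩ := h₂
      exact ⟨y₁ + y₂, by rw [TensorProduct.tmul_add]⟩
  unfold IsBaseChange IsTensorProduct
  constructor
  · rw [injective_iff_map_eq_zero]
    intro t ht
    obtain ⟨y, rfl⟩ := hform t
    have h0 : ψ y = 0 := by simpa using ht
    have hy : y ∈ (RingHom.ker (algebraMap R A)) • (⊤ : Submodule R Y) := hker h0
    refine Submodule.smul_induction_on hy (fun r hr n _ => ?_) (fun x y hx hy => ?_)
    · rw [← TensorProduct.smul_tmul, ← Algebra.algebraMap_eq_smul_one, (RingHom.mem_ker).mp hr,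
        TensorProduct.zero_tmul]
    · rw [TensorProduct.tmul_add, hx, hy, add_zero]
  · intro z
    obtain ⟨y, rfl⟩ := hψ z
    exact ⟨(1 : A) ⊗ₜ[R] y, by simp⟩

theorem flat_localization_of_flat {A : Type u} [CommRing A] (a : A) (W : Type u) [AddCommGroup W]
    [Module A W] [Module (Localization.Away a) W] [IsScalarTower A (Localization.Away a) W]
    [Module.Flat A W] : Module.Flat (Localization.Away a) W := by
  haveI := isLocalizedModule_id (Submonoid.powers a) W (Localization.Away a)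
  exact Module.Flat.of_isLocalizedModule (Localization.Away a) (Submonoid.powers a)
    (LinearMap.id : W →ₗ[A] W)

end BCQ

/-! ### the flatness condition of the statement -/

section FlatP

variable (A₀ : Type u) [CommRing A₀] {B₀ : Type u} [CommRing B₀] [Algebra A₀ B₀] (J₀ : Ideal B₀)
  (M₀ : Type u) [AddCommGroup M₀] [Module B₀ M₀] [Module A₀ M₀] [IsScalarTower A₀ B₀ M₀]

/-- the filtration pieces as `A₀`-submodules -/
abbrev Gn (n : ℕ) : Submodule A₀ M₀ := (J₀ ^ n • (⊤ : Submodule B₀ M₀)).restrictScalars A₀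

/-- image of `C ⊗ J₀ⁿM₀` in `C ⊗ M₀` -/
abbrev Rn (C : Type u) [CommRing C] [Algebra A₀ C] (n : ℕ) : Submodule C (C ⊗[A₀] M₀) :=
  LinearMap.range (LinearMap.baseChange C (Gn A₀ J₀ M₀ n).subtype)

/-- the flatness condition of the statement -/
def FlatP (C : Type u) [CommRing C] [Algebra A₀ C] (n : ℕ) : Prop :=
  Module.Flat C ↥(Submodule.map (Rn A₀ J₀ M₀ C (n + 1)).mkQ (Rn A₀ J₀ M₀ C n))

theorem Gn_anti (n : ℕ) : Gn A₀ J₀ M₀ (n + 1) ≤ Gn A₀ J₀ M₀ n := by
  intro x hx
  have h : J₀ ^ (n + 1) • (⊤ : Submodule B₀ M₀) ≤ J₀ ^ n • ⊤ :=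
    Submodule.smul_mono_left (Ideal.pow_le_pow_right (Nat.le_succ n))
  exact h hx

theorem Rn_anti (C : Type u) [CommRing C] [Algebra A₀ C] (n : ℕ) :
    Rn A₀ J₀ M₀ C (n + 1) ≤ Rn A₀ J₀ M₀ C n := by
  rintro _ ⟨t, rfl⟩
  refine ⟨LinearMap.baseChange C (Submodule.inclusion (Gn_anti A₀ J₀ M₀ n)) t, ?_⟩
  rw [← LinearMap.comp_apply, ← LinearMap.baseChange_comp]
  rfl

theorem flatP_of_flat_quot (C : Type u) [CommRing C] [Algebra A₀ C] (n : ℕ)
    (h1 : Module.Flat C ((C ⊗[A₀] M₀) ⧸ Rn A₀ J₀ M₀ C (n + 1)))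
    (h2 : Module.Flat C ((C ⊗[A₀] M₀) ⧸ Rn A₀ J₀ M₀ C n)) : FlatP A₀ J₀ M₀ C n := by
  have hle := Rn_anti A₀ J₀ M₀ C n
  have hker : LinearMap.ker (Submodule.factor hle) =
      Submodule.map (Rn A₀ J₀ M₀ C (n + 1)).mkQ (Rn A₀ J₀ M₀ C n) := by
    unfold Submodule.factor
    rw [Submodule.ker_mapQ, Submodule.comap_id]
  unfold FlatP
  rw [← hker]
  exact Groth.Agent.Helper5.FlatAcyc.flat_ker (Submodule.factor hle)
    (Submodule.factor_surjective hle)

end FlatP

/-! ### the generic transport -/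

section Generic

variable (A₀ : Type u) {B₀ A : Type u} (B : Type u) [CommRing A₀] [CommRing B₀] [CommRing A]
  [CommRing B]
  [Algebra A₀ B₀] [Algebra A₀ A] [Algebra A B] [Algebra A₀ B] [Algebra B₀ B]
  (J₀ : Ideal B₀)
  (M₀ : Type u) [AddCommGroup M₀] [Module B₀ M₀] [Module A₀ M₀] [IsScalarTower A₀ B₀ M₀]
  (N : Type u) [AddCommGroup N] [Module B N] [Module A N] [Module B₀ N] [Module A₀ N]
  [IsScalarTower A B N] [IsScalarTower B₀ B N] [IsScalarTower A₀ A N] [IsScalarTower A₀ B N]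
  [IsScalarTower A₀ B₀ N]
  (π : M₀ →ₗ[B₀] N)

theorem map_pi_pow (hπ : Function.Surjective π) (n : ℕ) :
    Submodule.map π (J₀ ^ n • (⊤ : Submodule B₀ M₀)) =
      (((J₀.map (algebraMap B₀ B)) ^ n • (⊤ : Submodule B N))).restrictScalars B₀ := by
  rw [Submodule.map_smul'', Submodule.map_top, LinearMap.range_eq_top.mpr hπ, ← Ideal.map_pow,
    Ideal.smul_restrictScalars, Submodule.restrictScalars_top]

/-- the induced map on the quotients -/
noncomputable def psi (hπ : Function.Surjective π) (n : ℕ) :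
    (M₀ ⧸ Gn A₀ J₀ M₀ n) →ₗ[A₀]
      (N ⧸ ((J₀.map (algebraMap B₀ B)) ^ n • (⊤ : Submodule B N))) :=
  Submodule.liftQ _
    ((((J₀.map (algebraMap B₀ B)) ^ n • (⊤ : Submodule B N)).mkQ.restrictScalars A₀) ∘ₗ
      (π.restrictScalars A₀)) (by
    intro m hm
    rw [LinearMap.mem_ker, LinearMap.comp_apply, LinearMap.restrictScalars_apply,
      LinearMap.restrictScalars_apply, Submodule.mkQ_apply, Submodule.Quotient.mk_eq_zero]
    have h1 : π m ∈ Submodule.map π (J₀ ^ n • (⊤ : Submodule B₀ M₀)) :=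
      Submodule.mem_map_of_mem hm
    rw [map_pi_pow B J₀ M₀ N π hπ n] at h1
    exact h1)

theorem psi_mk (hπ : Function.Surjective π) (n : ℕ) (m : M₀) :
    psi A₀ B J₀ M₀ N π hπ n (Submodule.Quotient.mk m) = Submodule.Quotient.mk (π m) := rfl

theorem flat_quot_generic (hA : Function.Surjective (algebraMap A₀ A))
    (hπ : Function.Surjective π)
    (hker : ∀ m, π m = 0 → m ∈ (RingHom.ker (algebraMap A₀ A)) • (⊤ : Submodule A₀ M₀))
    (a : A)
    (hflat : ∀ n, Module.Flat A (LocalizedModule (Submonoid.powers a)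
      (N ⧸ ((J₀.map (algebraMap B₀ B)) ^ n • (⊤ : Submodule B N)))))
    (n : ℕ) :
    Module.Flat (Localization.Away a)
      ((Localization.Away a ⊗[A₀] M₀) ⧸ Rn A₀ J₀ M₀ (Localization.Away a) n) := by
  have hψsurj : Function.Surjective (psi A₀ B J₀ M₀ N π hπ n) := by
    intro z
    obtain ⟨x, rfl⟩ := Submodule.Quotient.mk_surjective _ z
    obtain ⟨m, rfl⟩ := hπ x
    exact ⟨Submodule.Quotient.mk m, rfl⟩
  have hψker : LinearMap.ker (psi A₀ B J₀ M₀ N π hπ n) ≤
      (RingHom.ker (algebraMap A₀ A)) • (⊤ : Submodule A₀ (M₀ ⧸ Gn A₀ J₀ M₀ n)) := by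
    intro y hy
    obtain ⟨m, rfl⟩ := Submodule.Quotient.mk_surjective _ y
    rw [LinearMap.mem_ker, psi_mk, Submodule.Quotient.mk_eq_zero] at hy
    have h1 : π m ∈ Submodule.map π (J₀ ^ n • (⊤ : Submodule B₀ M₀)) := by
      rw [map_pi_pow B J₀ M₀ N π hπ n]
      exact hy
    obtain ⟨g, hg, hgm⟩ := h1
    have h2 : m - g ∈ (RingHom.ker (algebraMap A₀ A)) • (⊤ : Submodule A₀ M₀) := by
      apply hker
      rw [map_sub, hgm, sub_self]
    have h3 : (Submodule.Quotient.mk m : M₀ ⧸ Gn A₀ J₀ M₀ n) =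
        Submodule.Quotient.mk (m - g) := by
      rw [Submodule.Quotient.eq]
      have : m - (m - g) = g := by abel
      rw [this]
      exact hg
    rw [h3]
    have h4 : (Gn A₀ J₀ M₀ n).mkQ (m - g) ∈
        Submodule.map (Gn A₀ J₀ M₀ n).mkQ
          ((RingHom.ker (algebraMap A₀ A)) • (⊤ : Submodule A₀ M₀)) :=
      Submodule.mem_map_of_mem h2
    rw [Submodule.map_smul''] at h4
    exact Submodule.smul_mono le_rfl le_top h4
  have hbc : IsBaseChange A (psi A₀ B J₀ M₀ N π hπ n) :=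
    isBaseChange_of_surjective hA _ hψsurj hψker
  haveI := hflat n
  haveI hW : Module.Flat (Localization.Away a) (LocalizedModule (Submonoid.powers a)
      (N ⧸ ((J₀.map (algebraMap B₀ B)) ^ n • (⊤ : Submodule B N)))) :=
    flat_localization_of_flat a _
  let e1 := (IsLocalizedModule.isBaseChange (Submonoid.powers a) (Localization.Away a)
    (LocalizedModule.mkLinearMap (Submonoid.powers a)
      (N ⧸ ((J₀.map (algebraMap B₀ B)) ^ n • (⊤ : Submodule B N))))).equiv
  let e2 := TensorProduct.AlgebraTensorModule.congr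
    (LinearEquiv.refl (Localization.Away a) (Localization.Away a)) hbc.equiv
  let e3 := TensorProduct.AlgebraTensorModule.cancelBaseChange A₀ A (Localization.Away a)
    (Localization.Away a) (M₀ ⧸ Gn A₀ J₀ M₀ n)
  let e4 := TensorProduct.AlgebraTensorModule.tensorQuotientEquiv (R := A₀) (Localization.Away a) A₀
    (Localization.Away a) (Gn A₀ J₀ M₀ n)
  exact Module.Flat.of_linearEquiv (e4.symm ≪≫ₗ e3.symm ≪≫ₗ e2 ≪≫ₗ e1)

end Generic

/-! ### the quotient situation -/

section Quot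

variable {A₀ : Type u} [CommRing A₀] {B₀ : Type u} [CommRing B₀] [Algebra A₀ B₀]
  (M₀ : Type u) [AddCommGroup M₀] [Module B₀ M₀] [Module A₀ M₀] [IsScalarTower A₀ B₀ M₀]
  (I' : Ideal A₀)

/-- `A₀ ⧸ I'` acts on `M₀ ⧸ I'B₀M₀` through `B₀ ⧸ I'B₀`. -/
local instance modAN : Module (A₀ ⧸ I')
    (M₀ ⧸ (I'.map (algebraMap A₀ B₀)) • (⊤ : Submodule B₀ M₀)) :=
  Module.compHom _ (algebraMap (A₀ ⧸ I') (B₀ ⧸ I'.map (algebraMap A₀ B₀)))

local instance towerABN : IsScalarTower (A₀ ⧸ I') (B₀ ⧸ I'.map (algebraMap A₀ B₀))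
    (M₀ ⧸ (I'.map (algebraMap A₀ B₀)) • (⊤ : Submodule B₀ M₀)) :=
  ⟨fun a b x => by
    change (a • b) • x = algebraMap (A₀ ⧸ I') (B₀ ⧸ I'.map (algebraMap A₀ B₀)) a • (b • x)
    rw [Algebra.smul_def, mul_smul]⟩

local instance towerA₀AN : IsScalarTower A₀ (A₀ ⧸ I')
    (M₀ ⧸ (I'.map (algebraMap A₀ B₀)) • (⊤ : Submodule B₀ M₀)) :=
  ⟨fun r a x => by
    change algebraMap (A₀ ⧸ I') (B₀ ⧸ I'.map (algebraMap A₀ B₀)) (r • a) • x =
      r • (algebraMap (A₀ ⧸ I') (B₀ ⧸ I'.map (algebraMap A₀ B₀)) a • x)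
    rw [Algebra.smul_def r a, map_mul,
      ← IsScalarTower.algebraMap_apply A₀ (A₀ ⧸ I') (B₀ ⧸ I'.map (algebraMap A₀ B₀)), mul_smul,
      algebraMap_smul]⟩

theorem exists_good [IsNoetherianRing A₀] [Algebra.FiniteType A₀ B₀] [Module.Finite B₀ M₀]
    (J₀ : Ideal B₀) (I : Ideal A₀) (hI : I ≠ ⊤) :
    ∃ a₀ : A₀, a₀ ∉ I.radical ∧
      ∀ n, FlatP A₀ J₀ M₀ (Localization.Away (Ideal.Quotient.mk I.radical a₀)) n := by
  have hI'ne : I.radical ≠ ⊤ := by
    rw [Ne, Ideal.radical_eq_top]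
    exact hI
  haveI : IsNoetherianRing B₀ := Algebra.FiniteType.isNoetherianRing A₀ B₀
  haveI : IsReduced (A₀ ⧸ I.radical) :=
    (Ideal.isRadical_iff_quotient_reduced I.radical).mp (Ideal.radical_isRadical I)
  haveI : Nontrivial (A₀ ⧸ I.radical) := Ideal.Quotient.nontrivial_iff.mpr hI'ne
  haveI hft1 : Algebra.FiniteType A₀
      ((B₀ ⧸ I.radical.map (algebraMap A₀ B₀)) ⧸
        J₀.map (algebraMap B₀ (B₀ ⧸ I.radical.map (algebraMap A₀ B₀)))) := by
    have hsurj : Function.Surjective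
        ((Ideal.Quotient.mkₐ A₀ (J₀.map (algebraMap B₀ (B₀ ⧸ I.radical.map (algebraMap A₀ B₀))))).comp
          (Ideal.Quotient.mkₐ A₀ (I.radical.map (algebraMap A₀ B₀)))) :=
      (Ideal.Quotient.mkₐ_surjective A₀ _).comp (Ideal.Quotient.mkₐ_surjective A₀ _)
    exact Algebra.FiniteType.of_surjective _ hsurj
  haveI hft2 : Algebra.FiniteType (A₀ ⧸ I.radical)
      ((B₀ ⧸ I.radical.map (algebraMap A₀ B₀)) ⧸
        J₀.map (algebraMap B₀ (B₀ ⧸ I.radical.map (algebraMap A₀ B₀)))) :=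
    Algebra.FiniteType.of_restrictScalars_finiteType A₀ _ _
  haveI hfin : Module.Finite (B₀ ⧸ I.radical.map (algebraMap A₀ B₀))
      (M₀ ⧸ (I.radical.map (algebraMap A₀ B₀)) • (⊤ : Submodule B₀ M₀)) :=
    Module.Finite.of_restrictScalars_finite B₀ _ _
  obtain ⟨a, ha, hgr⟩ := Groth.Agent.Helper7.GrGen.exists_aflat_gr (A₀ ⧸ I.radical)
    (B₀ ⧸ I.radical.map (algebraMap A₀ B₀))
    (J₀.map (algebraMap B₀ (B₀ ⧸ I.radical.map (algebraMap A₀ B₀))))
    (M₀ ⧸ (I.radical.map (algebraMap A₀ B₀)) • (⊤ : Submodule B₀ M₀))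
  obtain ⟨a₀, rfl⟩ := Ideal.Quotient.mk_surjective a
  refine ⟨a₀, ?_, fun n => ?_⟩
  · intro hmem
    apply ha
    rw [Ideal.Quotient.eq_zero_iff_mem.mpr hmem]
    exact IsNilpotent.zero
  · have hq := Groth.Agent.Helper7.GrGen.aflat_quot (A₀ ⧸ I.radical)
      (J₀.map (algebraMap B₀ (B₀ ⧸ I.radical.map (algebraMap A₀ B₀))))
      (N := M₀ ⧸ (I.radical.map (algebraMap A₀ B₀)) • (⊤ : Submodule B₀ M₀))
      (Ideal.Quotient.mk I.radical a₀) hgr
    have hker : ∀ m : M₀,
        ((I.radical.map (algebraMap A₀ B₀)) • (⊤ : Submodule B₀ M₀)).mkQ m = 0 →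
        m ∈ (RingHom.ker (algebraMap A₀ (A₀ ⧸ I.radical))) • (⊤ : Submodule A₀ M₀) := by
      intro m hm
      rw [Submodule.mkQ_apply, Submodule.Quotient.mk_eq_zero] at hm
      have h1 : RingHom.ker (algebraMap A₀ (A₀ ⧸ I.radical)) = I.radical := by
        rw [Ideal.Quotient.algebraMap_eq, Ideal.mk_ker]
      have h2 := Ideal.smul_restrictScalars (S := B₀) I.radical (⊤ : Submodule B₀ M₀)
      rw [Submodule.restrictScalars_top] at h2
      rw [h1, ← h2]
      exact hm
    have key := fun k => flat_quot_generic A₀ (B₀ ⧸ I.radical.map (algebraMap A₀ B₀)) J₀ M₀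
      (M₀ ⧸ (I.radical.map (algebraMap A₀ B₀)) • (⊤ : Submodule B₀ M₀))
      ((I.radical.map (algebraMap A₀ B₀)) • (⊤ : Submodule B₀ M₀)).mkQ
      (A := A₀ ⧸ I.radical) Ideal.Quotient.mk_surjective (Submodule.mkQ_surjective _) hker
      (Ideal.Quotient.mk I.radical a₀) hq k
    exact flatP_of_flat_quot A₀ J₀ M₀ _ n (key (n + 1)) (key n)

end Quot

/-! ### the strata as subsets of `Spec A₀` -/

section Sets

open AlgebraicGeometry CategoryTheory

variable {A₀ : Type u} [CommRing A₀]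

/-- the locally closed set `V(K) ∩ D(a₀)` -/
def Zs (K : Ideal A₀) (a₀ : A₀) : Set (Spec (CommRingCat.of A₀)) :=
  {p | K ≤ p.asIdeal ∧ a₀ ∉ p.asIdeal}

theorem range_specMap (K : Ideal A₀) (a₀ : A₀) :
    Set.range (Spec.map (CommRingCat.ofHom
      (algebraMap A₀ (Localization.Away (Ideal.Quotient.mk K a₀))))) = Zs K a₀ := by
  ext p
  constructor
  · rintro ⟨q, rfl⟩
    refine ⟨fun x hx => ?_, fun ha => ?_⟩
    · change algebraMap A₀ (Localization.Away (Ideal.Quotient.mk K a₀)) x ∈ q.asIdeal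
      rw [IsScalarTower.algebraMap_apply A₀ (A₀ ⧸ K) (Localization.Away (Ideal.Quotient.mk K a₀)),
        Ideal.Quotient.algebraMap_eq, Ideal.Quotient.eq_zero_iff_mem.mpr hx, map_zero]
      exact zero_mem _
    · have ha' : algebraMap A₀ (Localization.Away (Ideal.Quotient.mk K a₀)) a₀ ∈ q.asIdeal := ha
      rw [IsScalarTower.algebraMap_apply A₀ (A₀ ⧸ K) (Localization.Away (Ideal.Quotient.mk K a₀)),
        Ideal.Quotient.algebraMap_eq] at ha'
      exact q.isPrime.ne_top (Ideal.eq_top_of_isUnit_mem _ ha'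
        (IsLocalization.Away.algebraMap_isUnit _))
  · rintro ⟨hK, ha⟩
    have h1 : (p : PrimeSpectrum A₀) ∈ Set.range (PrimeSpectrum.comap (Ideal.Quotient.mk K)) := by
      rw [range_comap_of_surjective _ _ Ideal.Quotient.mk_surjective, Ideal.mk_ker]
      exact hK
    obtain ⟨p', hp'⟩ := h1
    have h2 : p' ∈ Set.range (PrimeSpectrum.comap
        (algebraMap (A₀ ⧸ K) (Localization.Away (Ideal.Quotient.mk K a₀)))) := by
      rw [PrimeSpectrum.localization_away_comap_range
        (Localization.Away (Ideal.Quotient.mk K a₀)) (Ideal.Quotient.mk K a₀)]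
      change Ideal.Quotient.mk K a₀ ∉ p'.asIdeal
      intro h
      apply ha
      rw [← hp']
      exact h
    obtain ⟨q, hq⟩ := h2
    refine ⟨q, ?_⟩
    rw [← hp', ← hq]
    apply PrimeSpectrum.ext
    ext x
    change algebraMap A₀ (Localization.Away (Ideal.Quotient.mk K a₀)) x ∈ q.asIdeal ↔
      algebraMap (A₀ ⧸ K) (Localization.Away (Ideal.Quotient.mk K a₀)) (Ideal.Quotient.mk K x) ∈
        q.asIdeal
    rw [IsScalarTower.algebraMap_apply A₀ (A₀ ⧸ K) (Localization.Away (Ideal.Quotient.mk K a₀)),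
      Ideal.Quotient.algebraMap_eq]

theorem isImmersion_specMap (K : Ideal A₀) (a₀ : A₀) :
    IsImmersion (Spec.map (CommRingCat.ofHom
      (algebraMap A₀ (Localization.Away (Ideal.Quotient.mk K a₀))))) := by
  have h : algebraMap A₀ (Localization.Away (Ideal.Quotient.mk K a₀)) =
      (algebraMap (A₀ ⧸ K) (Localization.Away (Ideal.Quotient.mk K a₀))).comp
        (Ideal.Quotient.mk K) :=
    IsScalarTower.algebraMap_eq A₀ (A₀ ⧸ K) _
  rw [h, CommRingCat.ofHom_comp, Spec.map_comp]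
  haveI : IsClosedImmersion (Spec.map (CommRingCat.ofHom (Ideal.Quotient.mk K))) :=
    IsClosedImmersion.spec_of_surjective _ Ideal.Quotient.mk_surjective
  infer_instance

theorem isOpen_basic (a₀ : A₀) :
    IsOpen ({p | a₀ ∉ p.asIdeal} : Set (Spec (CommRingCat.of A₀))) :=
  (PrimeSpectrum.basicOpen a₀).isOpen

end Sets

/-! ### the Noetherian induction -/

section Induction

open AlgebraicGeometry CategoryTheory

variable {A₀ : Type u} [CommRing A₀] [IsNoetherianRing A₀]
    {B₀ : Type u} [CommRing B₀] [Algebra A₀ B₀] [Algebra.FiniteType A₀ B₀] (J₀ : Ideal B₀)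
    (M₀ : Type u) [AddCommGroup M₀] [Module B₀ M₀] [Module A₀ M₀] [IsScalarTower A₀ B₀ M₀]
    [Module.Finite B₀ M₀]

theorem strat (I : Ideal A₀) : ∃ (m : ℕ) (d : Fin m → Ideal A₀ × A₀),
    (∀ i j, i ≠ j → Disjoint (Zs (d i).1 (d i).2) (Zs (d j).1 (d j).2)) ∧
    (⋃ i, Zs (d i).1 (d i).2) = {p : Spec (CommRingCat.of A₀) | I ≤ p.asIdeal} ∧
    (∀ i, ∃ U : Set (Spec (CommRingCat.of A₀)), IsOpen U ∧
      U ∩ (⋃ j, ⋃ (_ : i ≤ j), Zs (d j).1 (d j).2) = Zs (d i).1 (d i).2) ∧
    ∀ i n, FlatP A₀ J₀ M₀ (Localization.Away (Ideal.Quotient.mk (d i).1 (d i).2)) n := by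
  induction I using IsNoetherian.induction with
  | hgt I ih =>
  by_cases hI : I = ⊤
  · subst hI
    refine ⟨0, Fin.elim0, fun i => i.elim0, ?_, fun i => i.elim0, fun i => i.elim0⟩
    ext p
    simp only [Set.mem_iUnion, Set.mem_ofPred_eq, top_le_iff]
    constructor
    · rintro ⟨i, _⟩
      exact i.elim0
    · intro h
      exact absurd h p.isPrime.ne_top
  · obtain ⟨a₀, ha₀, hgood⟩ := exists_good M₀ J₀ I hI
    have hlt : I < I ⊔ Ideal.span {a₀} := by
      refine lt_of_le_of_ne le_sup_left fun h => ?_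
      apply ha₀
      apply Ideal.le_radical
      rw [h]
      exact Ideal.mem_sup_right (Ideal.subset_span rfl)
    obtain ⟨m, d, hdisj, hun, hop, hfl⟩ := ih _ hlt
    -- membership in the union of the old strata
    have hold : ∀ p : Spec (CommRingCat.of A₀), (∃ j, p ∈ Zs (d j).1 (d j).2) ↔
        (I ≤ p.asIdeal ∧ a₀ ∈ p.asIdeal) := by
      intro p
      have h1 : p ∈ (⋃ i, Zs (d i).1 (d i).2) ↔ p ∈ {p : Spec (CommRingCat.of A₀) |
          I ⊔ Ideal.span {a₀} ≤ p.asIdeal} := by rw [hun]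
      rw [Set.mem_iUnion] at h1
      rw [h1, Set.mem_ofPred_eq, sup_le_iff, Ideal.span_singleton_le_iff_mem]
    have hnew : ∀ p : Spec (CommRingCat.of A₀), p ∈ Zs (Ideal.radical I) a₀ ↔
        (I ≤ p.asIdeal ∧ a₀ ∉ p.asIdeal) := by
      intro p
      change ((Ideal.radical I) ≤ p.asIdeal ∧ a₀ ∉ p.asIdeal) ↔ _
      rw [p.isPrime.radical_le_iff]
    refine ⟨m + 1, Fin.cons ((Ideal.radical I), a₀) d, ?_, ?_, ?_, ?_⟩
    · intro i j hij
      induction i using Fin.cases with
      | zero =>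
        induction j using Fin.cases with
        | zero => exact absurd rfl hij
        | succ j =>
          simp only [Fin.cons_zero, Fin.cons_succ]
          rw [Set.disjoint_left]
          intro p hp hq
          exact ((hnew p).mp hp).2 ((hold p).mp ⟨j, hq⟩).2
      | succ i =>
        induction j using Fin.cases with
        | zero =>
          simp only [Fin.cons_zero, Fin.cons_succ]
          rw [Set.disjoint_left]
          intro p hq hp
          exact ((hnew p).mp hp).2 ((hold p).mp ⟨i, hq⟩).2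
        | succ j =>
          simp only [Fin.cons_succ]
          exact hdisj i j (fun h => hij (by rw [h]))
    · ext p
      rw [Set.mem_iUnion, Fin.exists_fin_succ]
      simp only [Fin.cons_zero, Fin.cons_succ]
      rw [hold p, hnew p, Set.mem_ofPred_eq]
      by_cases h : a₀ ∈ p.asIdeal <;> simp [h]
    · intro i
      induction i using Fin.cases with
      | zero =>
        refine ⟨{p | a₀ ∉ p.asIdeal}, isOpen_basic a₀, ?_⟩
        ext p
        simp only [Set.mem_inter_iff, Set.mem_iUnion, Set.mem_ofPred_eq, Fin.zero_le, exists_true_left,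
          Fin.cons_zero]
        rw [Fin.exists_fin_succ]
        simp only [Fin.cons_zero, Fin.cons_succ]
        rw [hold p, hnew p]
        constructor
        · rintro ⟨h1, h2 | h2⟩
          · exact h2
          · exact absurd h2.2 h1
        · intro h
          exact ⟨h.2, Or.inl h⟩
      | succ i =>
        obtain ⟨U, hU, hUe⟩ := hop i
        refine ⟨U, hU, ?_⟩
        simp only [Fin.cons_succ]
        rw [← hUe]
        congr 1
        ext p
        simp only [Set.mem_iUnion, exists_prop]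
        rw [Fin.exists_fin_succ]
        simp only [Fin.cons_zero, Fin.cons_succ, Fin.succ_le_succ_iff]
        constructor
        · rintro (⟨h, _⟩ | h)
          · exact absurd h (not_le_of_gt (Fin.succ_pos i))
          · exact h
        · intro h
          exact Or.inr h
    · intro i n
      induction i using Fin.cases with
      | zero =>
        exact hgood n
      | succ i =>
        exact hfl i n

end Induction

/-! ### the statement -/

section Main

open AlgebraicGeometry CategoryTheory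

theorem main {A₀ : Type u} [CommRing A₀] [IsNoetherianRing A₀]
    {B₀ : Type u} [CommRing B₀] [Algebra A₀ B₀] [Algebra.FiniteType A₀ B₀] (J₀ : Ideal B₀)
    (M₀ : Type u) [AddCommGroup M₀] [Module B₀ M₀] [Module A₀ M₀] [IsScalarTower A₀ B₀ M₀]
    [Module.Finite B₀ M₀] :
    ∃ (m : ℕ) (A : Fin m → Type u) (_ : ∀ i, CommRing (A i)) (_ : ∀ i, Algebra A₀ (A i)),
      (∀ i, IsImmersion (Spec.map (CommRingCat.ofHom (algebraMap A₀ (A i))))) ∧
      (∀ i j, i ≠ j → Disjoint (Set.range (Spec.map (CommRingCat.ofHom (algebraMap A₀ (A i)))))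
        (Set.range (Spec.map (CommRingCat.ofHom (algebraMap A₀ (A j)))))) ∧
      (⋃ i, Set.range (Spec.map (CommRingCat.ofHom (algebraMap A₀ (A i)))) = Set.univ) ∧
      (∀ i, ∃ U : Set (Spec (CommRingCat.of A₀)), IsOpen U ∧
        U ∩ (⋃ j, ⋃ (_ : i ≤ j), Set.range (Spec.map (CommRingCat.ofHom (algebraMap A₀ (A j))))) =
          Set.range (Spec.map (CommRingCat.ofHom (algebraMap A₀ (A i))))) ∧
      ∀ i (n : ℕ), Module.Flat (A i)
        ↥(Submodule.map
            (LinearMap.range (LinearMap.baseChange (A i)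
              ((J₀ ^ (n + 1) • (⊤ : Submodule B₀ M₀)).restrictScalars A₀).subtype)).mkQ
            (LinearMap.range (LinearMap.baseChange (A i)
              ((J₀ ^ n • (⊤ : Submodule B₀ M₀)).restrictScalars A₀).subtype))) := by
  obtain ⟨m, d, hdisj, hun, hop, hfl⟩ := strat J₀ M₀ (⊥ : Ideal A₀)
  refine ⟨m, fun i => Localization.Away (Ideal.Quotient.mk (d i).1 (d i).2), fun i => inferInstance,
    fun i => inferInstance, fun i => isImmersion_specMap _ _, ?_, ?_, ?_, ?_⟩
  · intro i j hij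
    rw [range_specMap, range_specMap]
    exact hdisj i j hij
  · simp_rw [range_specMap]
    rw [hun]
    ext p
    simp
  · intro i
    obtain ⟨U, hU, hUe⟩ := hop i
    refine ⟨U, hU, ?_⟩
    simp_rw [range_specMap]
    exact hUe
  · intro i n
    exact hfl i n

end Main

end Groth.Agent.Helper3.GrStrat
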