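import Mathlib
import Groth.Agent.Lib.Helper9.EtRam.Dom18

set_option autoImplicit false
universe u v

namespace Groth.Agent.Helper3.GrTwist

open DirectSum Groth.Agent.Helper9.EtRamLib

section twist
variable {A : Type*} [CommRing A] (𝒜 : ℤ → AddSubgroup A) [GradedRing 𝒜]
  {L : Type*} [Field L] (ψ : A →+* L) (t : L)

/-- the family of additive maps `a ↦ ψ a * t ^ (-d)` on `𝒜 d`. -/
noncomputable def fam (d : ℤ) : 𝒜 d →+ L :=
  (AddMonoidHom.mulRight (t ^ (-d))).comp (ψ.toAddMonoidHom.comp (𝒜 d).subtype)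

lemma fam_apply (d : ℤ) (a : 𝒜 d) : fam 𝒜 ψ t d a = ψ a * t ^ (-d) := rfl

variable {t}

/-- the twisted ring hom `a = Σ a_d ↦ Σ ψ(a_d) t^{-d}`. -/
noncomputable def twist (ht : t ≠ 0) : A →+* L :=
  (DirectSum.toSemiring (fam 𝒜 ψ t)
    (by
      rw [fam_apply, SetLike.coe_gOne]
      simp)
    (by
      intro i j ai aj
      rw [fam_apply, fam_apply, fam_apply, SetLike.coe_gMul, map_mul, neg_add, zpow_add₀ ht]
      ring)).comp (DirectSum.decomposeRingEquiv 𝒜).toRingHom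

lemma twist_of_mem (ht : t ≠ 0) {d : ℤ} {a : A} (ha : a ∈ 𝒜 d) :
    twist 𝒜 ψ ht a = ψ a * t ^ (-d) := by
  unfold twist
  rw [RingHom.comp_apply]
  have : (DirectSum.decomposeRingEquiv 𝒜).toRingHom a = DirectSum.of (fun i => 𝒜 i) d ⟨a, ha⟩ :=
    DirectSum.decompose_of_mem 𝒜 ha
  rw [this, DirectSum.toSemiring_of, fam_apply]

lemma proj_mul_of_mem {x b : A} {i j d : ℤ} (hb : b ∈ 𝒜 j) (h : i + j = d) :
    GradedRing.proj 𝒜 d (x * b) = GradedRing.proj 𝒜 i x * b := by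
  subst h
  rw [GradedRing.proj_apply, GradedRing.proj_apply]
  exact DirectSum.coe_decompose_mul_add_of_right_mem 𝒜 hb

lemma proj_mem (i : ℤ) (x : A) : GradedRing.proj 𝒜 i x ∈ 𝒜 i := by
  rw [GradedRing.proj_apply]
  exact SetLike.coe_mem _

lemma twist_mem (ht : t ≠ 0) (S : Subring L) (hψ : ∀ a, ψ a ∈ S) (htS : t ∈ S) (F : Finset A)
    (dg : A → ℤ) (hF : ∀ f ∈ F, 0 < dg f ∧ f ∈ 𝒜 (dg f))
    (hspan : ∀ d : ℤ, 0 < d → ∀ a ∈ 𝒜 d, a ∈ Ideal.span (F : Set A))
    (hgen : ∀ f ∈ F, ψ f * t ^ (-(dg f)) ∈ S) (a : A) : twist 𝒜 ψ ht a ∈ S := by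
  have key : ∀ n : ℕ, ∀ d : ℤ, d ≤ n → ∀ a ∈ 𝒜 d, twist 𝒜 ψ ht a ∈ S := by
    intro n
    induction n with
    | zero =>
      intro d hd a ha
      rw [twist_of_mem 𝒜 ψ ht ha]
      have hd0 : 0 ≤ -d := by
        have : d ≤ 0 := by exact_mod_cast hd
        omega
      have hd' : -d = ((-d).toNat : ℤ) := (Int.toNat_of_nonneg hd0).symm
      rw [hd', zpow_natCast]
      exact S.mul_mem (hψ a) (S.pow_mem htS _)
    | succ n ih =>
      intro d hd a ha
      by_cases hdn : d ≤ n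
      · exact ih d hdn a ha
      · have hd1 : d = n + 1 := by push_cast at hd; omega
        have hdpos : 0 < d := by omega
        obtain ⟨c, -, hc⟩ := Submodule.mem_span_finset.mp (hspan d hdpos a ha)
        have h2 : a = GradedRing.proj 𝒜 d a := by
          rw [GradedRing.proj_apply, DirectSum.decompose_of_mem_same 𝒜 ha]
        have h1 : a = ∑ f ∈ F, (GradedRing.proj 𝒜 (d - dg f) (c f)) * f := by
          calc a = GradedRing.proj 𝒜 d a := h2
            _ = GradedRing.proj 𝒜 d (∑ f ∈ F, c f • f) := by rw [hc]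
            _ = ∑ f ∈ F, GradedRing.proj 𝒜 d (c f • f) := map_sum _ _ _
            _ = ∑ f ∈ F, GradedRing.proj 𝒜 (d - dg f) (c f) * f :=
              Finset.sum_congr rfl (fun f hf => by
                rw [smul_eq_mul]
                exact proj_mul_of_mem 𝒜 (hF f hf).2 (by ring))
        rw [h1, map_sum]
        refine S.sum_mem (fun f hf => ?_)
        rw [map_mul]
        refine S.mul_mem ?_ ?_
        · refine ih (d - dg f) ?_ _ (proj_mem 𝒜 _ _)
          have := (hF f hf).1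
          omega
        · rw [twist_of_mem 𝒜 ψ ht (hF f hf).2]
          exact hgen f hf
  refine DirectSum.Decomposition.inductionOn 𝒜 (motive := fun a => twist 𝒜 ψ ht a ∈ S) ?_ ?_ ?_ a
  · rw [map_zero]; exact S.zero_mem
  · intro i m
    exact key i.toNat i (Int.self_le_toNat i) m m.2
  · intro m m' h h'
    rw [map_add]; exact S.add_mem h h'

end twist

section core
variable {A : Type u} [CommRing A] (𝒜 : ℤ → AddSubgroup A) [GradedRing 𝒜]
  (R : Type v) [CommRing R] [IsDomain R] [IsDiscreteValuationRing R]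
  (K : Type v) [Field K] [Algebra R K] [IsFractionRing R K]
  (φ : A →+* R)
  (R' : Type v) [CommRing R'] [IsDomain R'] [IsDiscreteValuationRing R'] [Algebra R R']
  [Module.Finite R R']

theorem core2 (hinj : Function.Injective (algebraMap R R'))
    (F : Finset A) (dg : A → ℤ) (hdg : ∀ f ∈ F, 0 < dg f ∧ f ∈ 𝒜 (dg f))
    (hI : Ideal.span {a : A | ∃ d : ℤ, 0 < d ∧ a ∈ 𝒜 d} = Ideal.span (F : Set A))
    (x : R') (hx : Irreducible x) (m : ℕ) (hm : 1 ≤ m) (kk : A → ℕ)
    (hk : ∀ f ∈ F, dg f = kk f)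
    (hdiv : ∀ f ∈ F, ∃ c : R', algebraMap R R' (φ f) = c * (x ^ m) ^ (kk f))
    (hunit : ∃ f0 ∈ F, ∃ c0 : R', IsUnit c0 ∧ algebraMap R R' (φ f0) = c0 * (x ^ m) ^ (kk f0)) :
    ∃ (K' : Type v) (_ : Field K') (_ : Algebra R' K') (_ : IsFractionRing R' K')
      (_ : Algebra K K') (_ : Algebra R K')
      (_ : IsScalarTower R R' K') (_ : IsScalarTower R K K')
      (_ : Module.Finite K K')
      (ϖ : R') (g : A →+* R'),
      ϖ ≠ 0 ∧ ϖ ∈ IsLocalRing.maximalIdeal R' ∧
      (∀ (d : ℤ) (a : A), a ∈ 𝒜 d →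
        algebraMap R' K' (g a) * algebraMap R' K' ϖ ^ d = algebraMap R K' (φ a)) ∧
      Ideal.map g (Ideal.span {a : A | ∃ d : ℤ, 0 < d ∧ a ∈ 𝒜 d}) = ⊤ := by
  classical
  have hinj' : Function.Injective (algebraMap R' (FractionRing R')) :=
    IsFractionRing.injective R' (FractionRing R')
  have hcomp : ∀ r : R, algebraMap R (FractionRing R') r =
      algebraMap R' (FractionRing R') (algebraMap R R' r) := fun r =>
    IsScalarTower.algebraMap_apply R R' (FractionRing R') r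
  have hinjRK' : Function.Injective (algebraMap R (FractionRing R')) := by
    intro a b hab
    rw [hcomp, hcomp] at hab
    exact hinj (hinj' hab)
  letI algKK' : Algebra K (FractionRing R') := (IsFractionRing.lift hinjRK').toAlgebra
  haveI tower2 : IsScalarTower R K (FractionRing R') :=
    IsScalarTower.of_algebraMap_eq (fun r => (IsFractionRing.lift_algebraMap hinjRK' r).symm)
  haveI : FaithfulSMul R R' := (faithfulSMul_iff_algebraMap_injective R R').mpr hinj
  haveI : Algebra.IsAlgebraic R R' := Algebra.IsIntegral.isAlgebraic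
  haveI fin : Module.Finite K (FractionRing R') :=
    Module.Finite.of_isLocalization R R' (nonZeroDivisors R)
  have hϖ0 : x ^ m ≠ 0 := pow_ne_zero m hx.ne_zero
  have ht0 : algebraMap R' (FractionRing R') (x ^ m) ≠ 0 :=
    (map_ne_zero_iff _ hinj').mpr hϖ0
  have hFI : ∀ f ∈ F, f ∈ Ideal.span {a : A | ∃ d : ℤ, 0 < d ∧ a ∈ 𝒜 d} := fun f hf => by
    rw [hI]; exact Ideal.subset_span hf
  have hmemS : ∀ a, twist 𝒜 ((algebraMap R (FractionRing R')).comp φ) ht0 a ∈
      (algebraMap R' (FractionRing R')).range := by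
    apply twist_mem 𝒜 _ ht0 _ ?_ ?_ F dg hdg ?_ ?_
    · intro a; exact ⟨algebraMap R R' (φ a), (hcomp _).symm⟩
    · exact ⟨x ^ m, rfl⟩
    · intro d hd a ha
      rw [← hI]; exact Ideal.subset_span ⟨d, hd, ha⟩
    · intro f hf
      obtain ⟨c, hc⟩ := hdiv f hf
      refine ⟨c, ?_⟩
      have h1 : ((algebraMap R (FractionRing R')).comp φ) f =
          algebraMap R' (FractionRing R') c * algebraMap R' (FractionRing R') (x ^ m) ^ (kk f) := by
        rw [RingHom.comp_apply, hcomp, hc, map_mul, map_pow]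
      rw [h1, hk f hf, zpow_neg, zpow_natCast, mul_assoc, mul_inv_cancel₀ (pow_ne_zero _ ht0),
        mul_one]
  choose g0 hg0 using fun a => RingHom.mem_range.mp (hmemS a)
  let g : A →+* R' :=
    { toFun := g0
      map_one' := hinj' (by rw [hg0, map_one, map_one])
      map_mul' := fun a b => hinj' (by rw [hg0, map_mul, map_mul, hg0, hg0])
      map_zero' := hinj' (by rw [hg0, map_zero, map_zero])
      map_add' := fun a b => hinj' (by rw [hg0, map_add, map_add, hg0, hg0]) }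
  have hg : ∀ a, algebraMap R' (FractionRing R') (g a) =
      twist 𝒜 ((algebraMap R (FractionRing R')).comp φ) ht0 a := hg0
  refine ⟨FractionRing R', inferInstance, inferInstance, inferInstance, algKK', inferInstance,
    inferInstance, tower2, fin, x ^ m, g, hϖ0, ?_, ?_, ?_⟩
  · exact Ideal.pow_mem_of_mem _ hx.not_isUnit m (by omega)
  · intro d a ha
    rw [hg, twist_of_mem 𝒜 _ ht0 ha, mul_assoc, ← zpow_add₀ ht0, neg_add_cancel, zpow_zero,
      mul_one]
    rfl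
  · obtain ⟨f0, hf0, c0, hc0u, hc0⟩ := hunit
    apply Ideal.eq_top_of_isUnit_mem _ (x := g f0) (Ideal.mem_map_of_mem g (hFI f0 hf0))
    have hgc : g f0 = c0 := by
      apply hinj'
      rw [hg, twist_of_mem 𝒜 _ ht0 (hdg f0 hf0).2]
      have h1 : ((algebraMap R (FractionRing R')).comp φ) f0 =
          algebraMap R' (FractionRing R') c0 *
            algebraMap R' (FractionRing R') (x ^ m) ^ (kk f0) := by
        rw [RingHom.comp_apply, hcomp, hc0, map_mul, map_pow]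
      rw [h1, hk f0 hf0, zpow_neg, zpow_natCast, mul_assoc, mul_inv_cancel₀ (pow_ne_zero _ ht0),
        mul_one]
    rw [hgc]; exact hc0u

end core

section main

theorem s14123 {A : Type u} [CommRing A] (𝒜 : ℤ → AddSubgroup A) [GradedRing 𝒜]
    (hfg : (Ideal.span {a : A | ∃ d : ℤ, 0 < d ∧ a ∈ 𝒜 d}).FG)
    (R : Type v) [CommRing R] [IsDomain R] [IsDiscreteValuationRing R]
    (K : Type v) [Field K] [Algebra R K] [IsFractionRing R K]
    (φ : A →+* R)
    (hle : Ideal.map φ (Ideal.span {a : A | ∃ d : ℤ, 0 < d ∧ a ∈ 𝒜 d}) ≤ IsLocalRing.maximalIdeal R)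
    (hne : Ideal.map φ (Ideal.span {a : A | ∃ d : ℤ, 0 < d ∧ a ∈ 𝒜 d}) ≠ ⊥) :
    ∃ (R' : Type v) (_ : CommRing R') (_ : IsDomain R') (_ : IsDiscreteValuationRing R')
      (K' : Type v) (_ : Field K') (_ : Algebra R' K') (_ : IsFractionRing R' K')
      (_ : Algebra R R') (_ : Algebra K K') (_ : Algebra R K')
      (_ : IsScalarTower R R' K') (_ : IsScalarTower R K K')
      (_ : Module.Finite K K') (_ : IsLocalHom (algebraMap R R'))
      (ϖ : R') (g : A →+* R'),
      ϖ ≠ 0 ∧ ϖ ∈ IsLocalRing.maximalIdeal R' ∧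
      (∀ (d : ℤ) (a : A), a ∈ 𝒜 d →
        algebraMap R' K' (g a) * algebraMap R' K' ϖ ^ d = algebraMap R K' (φ a)) ∧
      Ideal.map g (Ideal.span {a : A | ∃ d : ℤ, 0 < d ∧ a ∈ 𝒜 d}) = ⊤ := by
  classical
  obtain ⟨F, hFsub, hFspan⟩ :=
    (Submodule.fg_span_iff_fg_span_finset_subset (R := A) (M := A) _).mp hfg
  have hI : Ideal.span {a : A | ∃ d : ℤ, 0 < d ∧ a ∈ 𝒜 d} = Ideal.span (F : Set A) := hFspan
  choose! dg hdg using (fun f (hf : f ∈ F) => hFsub hf)
  have hFI : ∀ f ∈ F, f ∈ Ideal.span {a : A | ∃ d : ℤ, 0 < d ∧ a ∈ 𝒜 d} :=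
    fun f hf => Ideal.subset_span (hFsub hf)
  obtain ⟨π, hπ⟩ := IsDiscreteValuationRing.exists_irreducible R
  have hval' : ∀ a : A, ∃ n : ℕ, φ a ≠ 0 → ∃ u : Rˣ, φ a = u * π ^ n := by
    intro a
    by_cases h : φ a = 0
    · exact ⟨0, fun h' => absurd h h'⟩
    · obtain ⟨n, u, hu⟩ := IsDiscreteValuationRing.eq_unit_mul_pow_irreducible h hπ
      exact ⟨n, fun _ => ⟨u, hu⟩⟩
  choose nn hnn using hval'
  have hex : ∃ f ∈ F, φ f ≠ 0 := by
    by_contra hcon
    simp only [not_exists, not_and, not_not] at hcon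
    apply hne
    rw [hI, Ideal.map_span, Ideal.span_eq_bot]
    rintro _ ⟨f, hf, rfl⟩
    exact hcon f hf
  have hF'ne : (F.filter (fun f => φ f ≠ 0)).Nonempty := by
    obtain ⟨f, hf, hf0⟩ := hex
    exact ⟨f, Finset.mem_filter.mpr ⟨hf, hf0⟩⟩
  obtain ⟨f0, hf0F', hmin⟩ := Finset.exists_min_image (F.filter (fun f => φ f ≠ 0))
    (fun f => (nn f : ℚ) / (dg f : ℚ)) hF'ne
  have hf0F : f0 ∈ F := (Finset.mem_filter.mp hf0F').1
  have hf0ne : φ f0 ≠ 0 := (Finset.mem_filter.mp hf0F').2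
  obtain ⟨u0, hu0⟩ := hnn f0 hf0ne
  obtain ⟨hd0pos, hf0deg⟩ := hdg f0 hf0F
  obtain ⟨N, hN⟩ : ∃ N : ℕ, dg f0 = N := ⟨(dg f0).toNat, (Int.toNat_of_nonneg hd0pos.le).symm⟩
  have hN1 : 1 ≤ N := by
    have := hd0pos
    rw [hN] at this
    exact_mod_cast this
  have hm1 : 1 ≤ nn f0 := by
    by_contra h
    have hm0 : nn f0 = 0 := by omega
    have hmem : φ f0 ∈ IsLocalRing.maximalIdeal R := hle (Ideal.mem_map_of_mem φ (hFI f0 hf0F))
    rw [hu0, hm0, pow_zero, mul_one] at hmem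
    exact (IsLocalRing.mem_maximalIdeal _).mp hmem u0.isUnit
  have hkk : ∀ f ∈ F, dg f = ((dg f).toNat : ℤ) :=
    fun f hf => (Int.toNat_of_nonneg (hdg f hf).1.le).symm
  have hineq : ∀ f ∈ F, φ f ≠ 0 → nn f0 * (dg f).toNat ≤ N * nn f := by
    intro f hf hf0
    have h1 := hmin f (Finset.mem_filter.mpr ⟨hf, hf0⟩)
    have hkpos : (0 : ℚ) < ((dg f).toNat : ℚ) := by
      have := (hdg f hf).1
      rw [hkk f hf] at this
      exact_mod_cast this
    have hNpos : (0 : ℚ) < (N : ℚ) := by exact_mod_cast hN1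
    have e1 : ((dg f0 : ℤ) : ℚ) = (N : ℚ) := by rw [hN]; simp
    have e2 : ((dg f : ℤ) : ℚ) = ((dg f).toNat : ℚ) := by
      have h : ((dg f : ℤ) : ℚ) = (((dg f).toNat : ℤ) : ℚ) := congrArg Int.cast (hkk f hf)
      rw [Int.cast_natCast] at h
      exact h
    simp only [e1, e2] at h1
    rw [div_le_div_iff₀ hNpos hkpos] at h1
    have : ((nn f0 * (dg f).toNat : ℕ) : ℚ) ≤ ((N * nn f : ℕ) : ℚ) := by
      push_cast
      rw [mul_comm (N : ℚ)]
      exact h1
    exact_mod_cast this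
  -- the extension
  letI hdom : IsDomain (AdjoinRoot (AR.f R π N)) := AR.isDomain R π N hπ hN1
  letI hdvr : IsDiscreteValuationRing (AdjoinRoot (AR.f R π N)) := AR.isDVR R π N hπ hN1
  have hxirr : Irreducible (AR.x R π N) := AR.x_irreducible R π N hπ hN1
  have hxpow : (AR.x R π N) ^ N = algebraMap R (AdjoinRoot (AR.f R π N)) π := AR.x_pow R π N
  have hinjRR' : Function.Injective (algebraMap R (AdjoinRoot (AR.f R π N))) :=
    AR.of_inj R π N hN1
  haveI : Module.Finite R (AdjoinRoot (AR.f R π N)) := (AR.f_monic R π N hN1).finite_adjoinRoot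
  have hloc : IsLocalHom (algebraMap R (AdjoinRoot (AR.f R π N))) := AR.isLocalHom_of R π N hπ hN1
  have hdiv : ∀ f ∈ F, ∃ c : AdjoinRoot (AR.f R π N),
      algebraMap R (AdjoinRoot (AR.f R π N)) (φ f) =
        c * ((AR.x R π N) ^ (nn f0)) ^ ((dg f).toNat) := by
    intro f hf
    by_cases hf0 : φ f = 0
    · exact ⟨0, by rw [hf0, map_zero, zero_mul]⟩
    · obtain ⟨u, hu⟩ := hnn f hf0
      have hle' := hineq f hf hf0
      refine ⟨algebraMap R (AdjoinRoot (AR.f R π N)) u *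
        (AR.x R π N) ^ (N * nn f - nn f0 * (dg f).toNat), ?_⟩
      rw [hu, map_mul, map_pow, ← hxpow, ← pow_mul, ← pow_mul, mul_assoc, ← pow_add,
        Nat.sub_add_cancel hle']
  have hunit : ∃ f0' ∈ F, ∃ c0 : AdjoinRoot (AR.f R π N), IsUnit c0 ∧
      algebraMap R (AdjoinRoot (AR.f R π N)) (φ f0') =
        c0 * ((AR.x R π N) ^ (nn f0)) ^ ((dg f0').toNat) := by
    refine ⟨f0, hf0F, algebraMap R (AdjoinRoot (AR.f R π N)) u0, u0.isUnit.map _, ?_⟩
    have hNN : (dg f0).toNat = N := by rw [hN]; simp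
    rw [hNN, hu0, map_mul, map_pow, ← hxpow, ← pow_mul, ← pow_mul, mul_comm N (nn f0)]
  obtain ⟨K', i1, i2, i3, i4, i5, i6, i7, i8, ϖ, g, h⟩ :=
    core2 𝒜 R K φ (AdjoinRoot (AR.f R π N)) hinjRR' F dg hdg hI (AR.x R π N) hxirr (nn f0) hm1
      (fun f => (dg f).toNat) hkk hdiv hunit
  exact ⟨AdjoinRoot (AR.f R π N), inferInstance, hdom, hdvr, K', i1, i2, i3, inferInstance, i4, i5,
    i6, i7, i8, hloc, ϖ, g, h⟩

end main

end Groth.Agent.Helper3.GrTwist
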