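import Mathlib
import Groth.Prelude.Def_Red
import Groth.Agent.Lib.Helper7.LimHom2
/-! helper3: homomorphisms of finitely presented group schemes over a cofiltered limit descend to a
finite stage and agree at a finite stage (S6086). Uses Helper7 `LimHom`/`LimHom2`; the lemma
`isMonHom_app_comp` is copied from Helper4 `ChowTower1`. -/

set_option autoImplicit false
set_option linter.unusedSectionVars false
set_option linter.style.haveILetI false
universe u

open CategoryTheory CategoryTheory.Limits AlgebraicGeometry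
open MonoidalCategory CartesianMonoidalCategory MonObj

namespace H3GrpLim

section Gen

variable {C D E : Type*} [Category C] [Category D] [Category E]
  [CartesianMonoidalCategory C] [CartesianMonoidalCategory D] [CartesianMonoidalCategory E]
  (H : C ⥤ E) (G : C ⥤ D) (F : D ⥤ E) [H.Monoidal] [G.Monoidal] [F.Monoidal]

open Functor in
open scoped Obj in
/-- (copied from Helper4 `ChowTower1`) the component of a natural transformation into a composite
of monoidal functors is a monoid hom for the iterated monoid structure -/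
lemma isMonHom_app_comp (α : H ⟶ G ⋙ F) (M : C) [MonObj M] :
    IsMonHom (show H.obj M ⟶ F.obj (G.obj M) from α.app M) where
  one_hom := by
    show η[H.obj M] ≫ α.app M = η[F.obj (G.obj M)]
    rw [Functor.obj.η_def, Functor.obj.η_def, Functor.obj.η_def, Category.assoc, α.naturality,
      ← Category.assoc, NatTrans.IsMonoidal.unit, Functor.LaxMonoidal.comp_ε]
    simp
  mul_hom := by
    show μ[H.obj M] ≫ α.app M = (α.app M ⊗ₘ α.app M) ≫ μ[F.obj (G.obj M)]
    rw [Functor.obj.μ_def, Functor.obj.μ_def, Functor.obj.μ_def, Category.assoc, α.naturality,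
      NatTrans.IsMonoidal.tensor_assoc, Functor.LaxMonoidal.comp_μ]
    simp

end Gen

section Gen2

variable {C D : Type*} [Category C] [Category D]
  [MonoidalCategory C] [MonoidalCategory D]
  (F : C ⥤ D) [F.Monoidal] {P Q : C} [MonObj P] [MonObj Q] (v : P ⟶ Q)

open Functor Functor.LaxMonoidal in
open scoped Obj in
lemma map_mul_of_isMonHom (h : IsMonHom (F.map v)) :
    F.map (μ[P] ≫ v) = F.map ((v ⊗ₘ v) ≫ μ[Q]) := by
  have h1 := h.mul_hom
  rw [obj.μ_def, obj.μ_def, Category.assoc, ← Category.assoc (F.map v ⊗ₘ F.map v), μ_natural,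
    Category.assoc] at h1
  rw [← cancel_epi (LaxMonoidal.μ F P P), F.map_comp, F.map_comp]
  exact h1

open Functor Functor.LaxMonoidal in
open scoped Obj in
lemma map_one_of_isMonHom (h : IsMonHom (F.map v)) :
    F.map (η[P] ≫ v) = F.map η[Q] := by
  have h1 := h.one_hom
  rw [obj.η_def, obj.η_def, Category.assoc] at h1
  rw [← cancel_epi (ε F), F.map_comp]
  exact h1

open Functor Functor.LaxMonoidal in
open scoped Obj in
lemma isMonHom_map_of (h1 : F.map (η[P] ≫ v) = F.map η[Q])
    (h2 : F.map (μ[P] ≫ v) = F.map ((v ⊗ₘ v) ≫ μ[Q])) : IsMonHom (F.map v) where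
  one_hom := by rw [obj.η_def, obj.η_def, Category.assoc, ← F.map_comp, h1]
  mul_hom := by
    rw [obj.μ_def, obj.μ_def, Category.assoc, ← F.map_comp, h2, F.map_comp, ← Category.assoc,
      ← μ_natural, Category.assoc]

end Gen2

section OverS

variable {S S' S'' : Scheme.{u}}

lemma ext_bc (a : S' ⟶ S) (X : Over S) {T : Over S'} (p q : T ⟶ (Over.pullback a).obj X)
    (h : p.left ≫ pullback.fst X.hom a = q.left ≫ pullback.fst X.hom a) : p = q := by
  apply Over.OverMorphism.ext
  apply pullback.hom_ext h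
  exact (Over.w p).trans (Over.w q).symm

lemma ext_bc2 (b : S'' ⟶ S') (a : S' ⟶ S) (X : Over S) {T : Over S''}
    (p q : T ⟶ (Over.pullback b).obj ((Over.pullback a).obj X))
    (h : p.left ≫ pullback.fst (pullback.snd X.hom a) b ≫ pullback.fst X.hom a =
      q.left ≫ pullback.fst (pullback.snd X.hom a) b ≫ pullback.fst X.hom a) : p = q := by
  apply ext_bc
  apply pullback.hom_ext
  · rw [Category.assoc, Category.assoc]
    exact h
  · have hp : p.left ≫ pullback.snd (pullback.snd X.hom a) b = T.hom := Over.w p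
    have hq : q.left ≫ pullback.snd (pullback.snd X.hom a) b = T.hom := Over.w q
    have hc : pullback.fst (pullback.snd X.hom a) b ≫ pullback.snd X.hom a =
        pullback.snd (pullback.snd X.hom a) b ≫ b := pullback.condition
    show (p.left ≫ pullback.fst (pullback.snd X.hom a) b) ≫ pullback.snd X.hom a =
      (q.left ≫ pullback.fst (pullback.snd X.hom a) b) ≫ pullback.snd X.hom a
    rw [Category.assoc, Category.assoc, hc, ← Category.assoc, ← Category.assoc, hp, hq]

lemma map_left_fst (a : S' ⟶ S) {X Y : Over S} (v : X ⟶ Y) :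
    ((Over.pullback a).map v).left ≫ pullback.fst Y.hom a = pullback.fst X.hom a ≫ v.left :=
  pullback.lift_fst _ _ _

lemma map_left_fst' (b : S'' ⟶ S') (a : S' ⟶ S) {X Y : Over S} (v : Red.bc a X ⟶ Red.bc a Y) :
    ((Over.pullback b).map v).left ≫ pullback.fst (pullback.snd Y.hom a) b =
      pullback.fst (pullback.snd X.hom a) b ≫ v.left :=
  map_left_fst b v

lemma eqToHom_left_fst {a a' : S' ⟶ S} (h : a = a') (X : Over S) :
    (eqToHom (congrArg (fun g => Red.bc g X) h)).left ≫ pullback.fst X.hom a' =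
      pullback.fst X.hom a := by
  subst h
  simp

lemma kappa_hom_left_fst_fst (b : S'' ⟶ S') (a : S' ⟶ S) (X : Over S) :
    ((Over.pullbackComp b a).hom.app X).left ≫ pullback.fst (pullback.snd X.hom a) b ≫
      pullback.fst X.hom a = pullback.fst X.hom (b ≫ a) := by
  have h := conjugateEquiv_counit (Over.mapPullbackAdj (b ≫ a))
    ((Over.mapPullbackAdj b).comp (Over.mapPullbackAdj a)) (Over.mapComp b a).symm.hom X
  have h' := congrArg CommaMorphism.left h
  simpa [Over.pullbackComp, conjugateIsoEquiv] using h'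

lemma kappa_inv_left_fst (b : S'' ⟶ S') (a : S' ⟶ S) (X : Over S) :
    ((Over.pullbackComp b a).inv.app X).left ≫ pullback.fst X.hom (b ≫ a) =
      pullback.fst (pullback.snd X.hom a) b ≫ pullback.fst X.hom a := by
  rw [← kappa_hom_left_fst_fst b a X, ← Category.assoc, ← Over.comp_left,
    ← NatTrans.comp_app, Iso.inv_hom_id]
  simp

/-- the comparison isomorphism of the statement -/
noncomputable def alpha (b : S'' ⟶ S') (a : S' ⟶ S) (d : S'' ⟶ S) (h : b ≫ a = d) (X : Over S) :
    Red.bc b (Red.bc a X) ≅ Red.bc d X :=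
  ((Over.pullbackComp b a).app X).symm ≪≫ eqToIso (congrArg (fun g => Red.bc g X) h)

lemma alpha_hom_left_fst (b : S'' ⟶ S') (a : S' ⟶ S) (d : S'' ⟶ S) (h : b ≫ a = d) (X : Over S) :
    (alpha b a d h X).hom.left ≫ pullback.fst X.hom d =
      pullback.fst (pullback.snd X.hom a) b ≫ pullback.fst X.hom a := by
  subst h
  simp only [alpha, Iso.trans_hom, Iso.symm_hom, Iso.app_inv, eqToIso_refl, Iso.refl_hom,
    Category.comp_id]
  exact kappa_inv_left_fst b a X

lemma alpha_inv_left_fst_fst (b : S'' ⟶ S') (a : S' ⟶ S) (d : S'' ⟶ S) (h : b ≫ a = d)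
    (X : Over S) :
    (alpha b a d h X).inv.left ≫ pullback.fst (pullback.snd X.hom a) b ≫ pullback.fst X.hom a =
      pullback.fst X.hom d := by
  rw [← alpha_hom_left_fst b a d h X, ← Category.assoc, ← Over.comp_left, Iso.inv_hom_id]
  simp

lemma alpha_hom_left_snd (b : S'' ⟶ S') (a : S' ⟶ S) (d : S'' ⟶ S) (h : b ≫ a = d) (X : Over S) :
    (alpha b a d h X).hom.left ≫ pullback.snd X.hom d =
      pullback.snd (pullback.snd X.hom a) b := Over.w (alpha b a d h X).hom

lemma alpha_inv_left_snd (b : S'' ⟶ S') (a : S' ⟶ S) (d : S'' ⟶ S) (h : b ≫ a = d) (X : Over S) :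
    (alpha b a d h X).inv.left ≫ pullback.snd (pullback.snd X.hom a) b =
      pullback.snd X.hom d := Over.w (alpha b a d h X).inv

/-- the composition isomorphism as an iso of base changes -/
noncomputable def kap (b : S'' ⟶ S') (a : S' ⟶ S) (X : Over S) :
    Red.bc (b ≫ a) X ≅ Red.bc b (Red.bc a X) := (Over.pullbackComp b a).app X

instance isMonHom_kap_hom (b : S'' ⟶ S') (a : S' ⟶ S) (X : Over S) [GrpObj X] :
    IsMonHom (kap b a X).hom :=
  isMonHom_app_comp (Over.pullback (b ≫ a)) (Over.pullback a) (Over.pullback b)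
    (Over.pullbackComp b a).hom X

lemma isMonHom_alpha (b : S'' ⟶ S') (a : S' ⟶ S) (d : S'' ⟶ S) (h : b ≫ a = d) (X : Over S)
    [GrpObj X] : IsMonHom (alpha b a d h X).hom ∧ IsMonHom (alpha b a d h X).inv := by
  subst h
  have h1 : (alpha b a (b ≫ a) rfl X).hom = (kap b a X).inv := by simp [alpha, kap]
  have h2 : (alpha b a (b ≫ a) rfl X).inv = (kap b a X).hom := by simp [alpha, kap]
  rw [h1, h2]
  exact ⟨inferInstance, inferInstance⟩

lemma star_iff (b : S'' ⟶ S') (a : S' ⟶ S) (d : S'' ⟶ S) (h : b ≫ a = d) (X Y : Over S)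
    (v : Red.bc a X ⟶ Red.bc a Y) (u : Red.bc d X ⟶ Red.bc d Y) :
    (Over.pullback b).map v = (alpha b a d h X).hom ≫ u ≫ (alpha b a d h Y).inv ↔
    pullback.fst (pullback.snd X.hom a) b ≫ v.left ≫ pullback.fst Y.hom a =
      (alpha b a d h X).hom.left ≫ u.left ≫ pullback.fst Y.hom d := by
  constructor
  · intro hv
    have h1 := congrArg (fun w => w.left ≫ pullback.fst (pullback.snd Y.hom a) b ≫
      pullback.fst Y.hom a) hv
    simp only [Over.comp_left, Category.assoc] at h1
    rw [alpha_inv_left_fst_fst, ← Category.assoc, map_left_fst', Category.assoc] at h1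
    exact h1
  · intro hv
    apply ext_bc2
    simp only [Over.comp_left, Category.assoc]
    rw [alpha_inv_left_fst_fst, ← Category.assoc, map_left_fst', Category.assoc]
    exact hv

end OverS

section Lim

variable {I : Type u} [Category.{u} I] [IsCofiltered I] (D : I ⥤ Scheme.{u}) (c : Cone D)
  (hc : IsLimit c) [∀ {i j : I} (f : i ⟶ j), IsAffineHom (D.map f)]

include hc in
theorem faithful_flat (i : I) {P Q : Over (D.obj i)} [CompactSpace P.left]
    [LocallyOfFiniteType Q.hom] (m₁ m₂ : P ⟶ Q)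
    (h : (Over.pullback (c.π.app i)).map m₁ = (Over.pullback (c.π.app i)).map m₂) :
    ∃ (i' : I) (g : i' ⟶ i),
      pullback.fst P.hom (D.map g) ≫ m₁.left = pullback.fst P.hom (D.map g) ≫ m₂.left := by
  have hab : pullback.fst P.hom (c.π.app i) ≫ m₁.left = pullback.fst P.hom (c.π.app i) ≫ m₂.left := by
    rw [← map_left_fst, ← map_left_fst, h]
  exact Groth.Agent.Helper7.LimHom.exists_hom_eq_descend D c hc i P.hom Q.hom m₁.left m₂.left
    (Over.w m₁) (Over.w m₂) hab

lemma flat_mono {i i' i'' : I} (e : i'' ⟶ i') (g : i' ⟶ i) {P Q : Over (D.obj i)} (m₁ m₂ : P ⟶ Q)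
    (h : pullback.fst P.hom (D.map g) ≫ m₁.left = pullback.fst P.hom (D.map g) ≫ m₂.left) :
    pullback.fst P.hom (D.map (e ≫ g)) ≫ m₁.left = pullback.fst P.hom (D.map (e ≫ g)) ≫ m₂.left := by
  have hw : pullback.fst P.hom (D.map (e ≫ g)) ≫ P.hom =
      (pullback.snd P.hom (D.map (e ≫ g)) ≫ D.map e) ≫ D.map g := by
    rw [pullback.condition, D.map_comp, Category.assoc]
  have h1 : pullback.fst P.hom (D.map (e ≫ g)) =
      pullback.lift _ _ hw ≫ pullback.fst P.hom (D.map g) := (pullback.lift_fst _ _ _).symm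
  rw [h1, Category.assoc, Category.assoc, h]

lemma map_eq_of_flat {S S' : Scheme.{u}} (a : S' ⟶ S) {P Q : Over S} (m₁ m₂ : P ⟶ Q)
    (h : pullback.fst P.hom a ≫ m₁.left = pullback.fst P.hom a ≫ m₂.left) :
    (Over.pullback a).map m₁ = (Over.pullback a).map m₂ := by
  apply ext_bc
  rw [map_left_fst, map_left_fst, h]

include hc in
theorem full (j : I) (X Y : Over (D.obj j)) [CompactSpace X.left] [QuasiSeparatedSpace X.left]
    [LocallyOfFinitePresentation Y.hom]
    (u : Red.bc (c.π.app j) X ⟶ Red.bc (c.π.app j) Y) :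
    ∃ (i : I) (φ : i ⟶ j) (v : Red.bc (D.map φ) X ⟶ Red.bc (D.map φ) Y),
      (Over.pullback (c.π.app i)).map v =
        (alpha (c.π.app i) (D.map φ) (c.π.app j) (c.w φ) X).hom ≫ u ≫
          (alpha (c.π.app i) (D.map φ) (c.π.app j) (c.w φ) Y).inv := by
  obtain ⟨i, φ, fj, sX, sY, h1, h2, h3, h4, h5, h6⟩ :=
    Groth.Agent.Helper7.LimHom.exists_hom_descend D c hc j X.hom Y.hom
      (IsPullback.of_hasPullback X.hom (c.π.app j)) (IsPullback.of_hasPullback Y.hom (c.π.app j))
      u.left (Over.w u)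
  refine ⟨i, φ, Over.homMk fj h1, ?_⟩
  rw [star_iff]
  have hs : pullback.fst (pullback.snd X.hom (D.map φ)) (c.π.app i) =
      (alpha (c.π.app i) (D.map φ) (c.π.app j) (c.w φ) X).hom.left ≫ sX := by
    apply pullback.hom_ext
    · rw [Category.assoc, h2, alpha_hom_left_fst]
    · rw [Category.assoc, h3, ← Category.assoc, alpha_hom_left_snd, pullback.condition]
  show pullback.fst (pullback.snd X.hom (D.map φ)) (c.π.app i) ≫ fj ≫
      pullback.fst Y.hom (D.map φ) = _
  rw [hs, Category.assoc, ← Category.assoc sX, h6, Category.assoc, h4]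

include hc in
theorem part2 [∀ i, CompactSpace (D.obj i)] (j : I) (Gj Hj : Over (D.obj j))
    [QuasiCompact Gj.hom] [LocallyOfFinitePresentation Hj.hom]
    (i : I) (f : i ⟶ j) (u₁ u₂ : Red.bc (D.map f) Gj ⟶ Red.bc (D.map f) Hj)
    (h : (Over.pullback (c.π.app i)).map u₁ = (Over.pullback (c.π.app i)).map u₂) :
    ∃ (i' : I) (g : i' ⟶ i),
      (Over.pullback (D.map g)).map u₁ = (Over.pullback (D.map g)).map u₂ := by
  haveI : CompactSpace (Red.bc (D.map f) Gj).left :=
    QuasiCompact.compactSpace_of_compactSpace (pullback.snd Gj.hom (D.map f))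
  haveI : LocallyOfFiniteType (Red.bc (D.map f) Hj).hom :=
    (inferInstance : LocallyOfFiniteType (pullback.snd Hj.hom (D.map f)))
  obtain ⟨i', g, hg⟩ := faithful_flat D c hc i u₁ u₂ h
  exact ⟨i', g, map_eq_of_flat _ _ _ hg⟩

include hc in
theorem part1 [∀ i, CompactSpace (D.obj i)] [∀ i, QuasiSeparatedSpace (D.obj i)]
    (j : I) (Gj Hj : Over (D.obj j)) [GrpObj Gj] [GrpObj Hj]
    [LocallyOfFinitePresentation Gj.hom] [QuasiCompact Gj.hom] [QuasiSeparated Gj.hom]
    [LocallyOfFinitePresentation Hj.hom]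
    (u : Red.bc (c.π.app j) Gj ⟶ Red.bc (c.π.app j) Hj) (hu : IsMonHom u) :
    ∃ (i : I) (f : i ⟶ j) (ui : Red.bc (D.map f) Gj ⟶ Red.bc (D.map f) Hj), IsMonHom ui ∧
      (Over.pullback (c.π.app i)).map ui =
        (alpha (c.π.app i) (D.map f) (c.π.app j) (c.w f) Gj).hom ≫ u ≫
          (alpha (c.π.app i) (D.map f) (c.π.app j) (c.w f) Hj).inv := by
  haveI : CompactSpace Gj.left := QuasiCompact.compactSpace_of_compactSpace Gj.hom
  haveI : QuasiSeparatedSpace Gj.left := quasiSeparatedSpace_of_quasiSeparated Gj.hom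
  obtain ⟨i, φ, v, hv⟩ := full D c hc j Gj Hj u
  haveI := hu
  haveI := (isMonHom_alpha (c.π.app i) (D.map φ) (c.π.app j) (c.w φ) Gj).1
  haveI := (isMonHom_alpha (c.π.app i) (D.map φ) (c.π.app j) (c.w φ) Hj).2
  have hFv : IsMonHom ((Over.pullback (c.π.app i)).map v) := by
    rw [hv]; infer_instance
  have e1 := map_one_of_isMonHom (Over.pullback (c.π.app i)) v hFv
  have e2 := map_mul_of_isMonHom (Over.pullback (c.π.app i)) v hFv
  haveI : CompactSpace (Red.bc (D.map φ) Gj).left :=
    QuasiCompact.compactSpace_of_compactSpace (pullback.snd Gj.hom (D.map φ))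
  haveI : QuasiCompact (Red.bc (D.map φ) Gj ⊗ Red.bc (D.map φ) Gj).hom := by
    rw [Over.tensorObj_hom]
    exact (inferInstance : QuasiCompact (pullback.fst (pullback.snd Gj.hom (D.map φ))
      (pullback.snd Gj.hom (D.map φ)) ≫ pullback.snd Gj.hom (D.map φ)))
  haveI : CompactSpace (Red.bc (D.map φ) Gj ⊗ Red.bc (D.map φ) Gj).left :=
    QuasiCompact.compactSpace_of_compactSpace (Red.bc (D.map φ) Gj ⊗ Red.bc (D.map φ) Gj).hom
  haveI : CompactSpace (𝟙_ (Over (D.obj i))).left := (inferInstance : CompactSpace (D.obj i))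
  haveI : LocallyOfFiniteType (Red.bc (D.map φ) Hj).hom :=
    (inferInstance : LocallyOfFiniteType (pullback.snd Hj.hom (D.map φ)))
  obtain ⟨i₁, g₁, hg₁⟩ := faithful_flat D c hc i _ _ e1
  obtain ⟨i₂, g₂, hg₂⟩ := faithful_flat D c hc i _ _ e2
  obtain ⟨i', a₁, a₂, ha⟩ := IsCofiltered.cospan g₁ g₂
  have hg₁' := flat_mono D a₁ g₁ _ _ hg₁
  have hg₂' := flat_mono D a₂ g₂ _ _ hg₂
  rw [← ha] at hg₂'
  obtain ⟨g, hgdef⟩ : ∃ g : i' ⟶ i, g = a₁ ≫ g₁ := ⟨_, rfl⟩
  rw [← hgdef] at hg₁' hg₂'
  have hMon : IsMonHom ((Over.pullback (D.map g)).map v) :=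
    isMonHom_map_of (Over.pullback (D.map g)) v (map_eq_of_flat _ _ _ hg₁')
      (map_eq_of_flat _ _ _ hg₂')
  haveI := hMon
  haveI := (isMonHom_alpha (D.map g) (D.map φ) (D.map (g ≫ φ)) (D.map_comp g φ).symm Gj).2
  haveI := (isMonHom_alpha (D.map g) (D.map φ) (D.map (g ≫ φ)) (D.map_comp g φ).symm Hj).1
  refine ⟨i', g ≫ φ,
    (alpha (D.map g) (D.map φ) (D.map (g ≫ φ)) (D.map_comp g φ).symm Gj).inv ≫
      (Over.pullback (D.map g)).map v ≫
      (alpha (D.map g) (D.map φ) (D.map (g ≫ φ)) (D.map_comp g φ).symm Hj).hom, inferInstance, ?_⟩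
  rw [star_iff]
  have hflat := (star_iff _ _ _ (c.w φ) Gj Hj v u).mp hv
  obtain ⟨ρ, hρdef⟩ : ∃ ρ : pullback Gj.hom (D.map (g ≫ φ)) ⟶ pullback Gj.hom (D.map φ),
      ρ = (alpha (D.map g) (D.map φ) (D.map (g ≫ φ)) (D.map_comp g φ).symm Gj).inv.left ≫
        pullback.fst (pullback.snd Gj.hom (D.map φ)) (D.map g) := ⟨_, rfl⟩
  have hρ1 : ρ ≫ pullback.fst Gj.hom (D.map φ) = pullback.fst Gj.hom (D.map (g ≫ φ)) := by
    rw [hρdef, Category.assoc]
    exact alpha_inv_left_fst_fst _ _ _ _ _
  have hρ2 : ρ ≫ pullback.snd Gj.hom (D.map φ) =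
      pullback.snd Gj.hom (D.map (g ≫ φ)) ≫ D.map g := by
    rw [hρdef, Category.assoc, pullback.condition, ← Category.assoc, alpha_inv_left_snd]
  have hτw : (pullback.fst (pullback.snd Gj.hom (D.map (g ≫ φ))) (c.π.app i') ≫ ρ) ≫
      pullback.snd Gj.hom (D.map φ) =
      pullback.snd (pullback.snd Gj.hom (D.map (g ≫ φ))) (c.π.app i') ≫ c.π.app i := by
    rw [Category.assoc, hρ2, ← Category.assoc, pullback.condition, Category.assoc, c.w g]
  have hτ1 : pullback.lift _ _ hτw ≫ pullback.fst (pullback.snd Gj.hom (D.map φ)) (c.π.app i) =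
      pullback.fst (pullback.snd Gj.hom (D.map (g ≫ φ))) (c.π.app i') ≫ ρ :=
    pullback.lift_fst _ _ _
  have hτ2 : pullback.lift _ _ hτw ≫ pullback.snd (pullback.snd Gj.hom (D.map φ)) (c.π.app i) =
      pullback.snd (pullback.snd Gj.hom (D.map (g ≫ φ))) (c.π.app i') :=
    pullback.lift_snd _ _ _
  have hτα : pullback.lift _ _ hτw ≫
      (alpha (c.π.app i) (D.map φ) (c.π.app j) (c.w φ) Gj).hom.left =
      (alpha (c.π.app i') (D.map (g ≫ φ)) (c.π.app j) (c.w (g ≫ φ)) Gj).hom.left := by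
    apply pullback.hom_ext
    · rw [Category.assoc, alpha_hom_left_fst, ← Category.assoc, hτ1, Category.assoc, hρ1,
        alpha_hom_left_fst]
    · rw [Category.assoc, alpha_hom_left_snd, hτ2, alpha_hom_left_snd]
  have hs1 : ((alpha (D.map g) (D.map φ) (D.map (g ≫ φ)) (D.map_comp g φ).symm Gj).inv ≫
      (Over.pullback (D.map g)).map v ≫
      (alpha (D.map g) (D.map φ) (D.map (g ≫ φ)) (D.map_comp g φ).symm Hj).hom).left ≫
      pullback.fst Hj.hom (D.map (g ≫ φ)) = ρ ≫ v.left ≫ pullback.fst Hj.hom (D.map φ) := by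
    simp only [Over.comp_left, Category.assoc]
    rw [alpha_hom_left_fst, ← Category.assoc (((Over.pullback (D.map g)).map v).left),
      map_left_fst', hρdef]
    simp only [Category.assoc]
  rw [hs1, ← Category.assoc, ← hτ1, Category.assoc, hflat, ← Category.assoc, hτα]

end Lim

end H3GrpLim
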