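import Mathlib
import Groth.Prelude.Def_Red
import Groth.Prelude.Def_AlgGrp
import Groth.Agent.Lib.Helper3.GrpLimHom
import Groth.Agent.Lib.Helper7.LimGen
/-! helper3: for a homomorphism of finitely presented group schemes over a stage of a cofiltered
limit, being a monomorphism with normal (resp. central) image holds over the limit iff it holds over
a finite stage (S6088). -/

set_option autoImplicit false
set_option linter.unusedSectionVars false
set_option linter.style.haveILetI false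
universe u

open CategoryTheory CategoryTheory.Limits AlgebraicGeometry
open MonoidalCategory CartesianMonoidalCategory MonObj GrpObj

namespace H3GrpLim

section GenNormal

variable {C : Type*} [Category C] [CartesianMonoidalCategory C] {G H : C} [GrpObj G] [GrpObj H]
  (u : H ⟶ G)

/-- the conjugation morphism `(g, n) ↦ g u(n) g⁻¹` -/
def conjMor : G ⊗ H ⟶ G := fst G H * (snd G H ≫ u) * (fst G H)⁻¹
/-- `(g, n) ↦ g u(n)` -/
def commL : G ⊗ H ⟶ G := fst G H * (snd G H ≫ u)
/-- `(g, n) ↦ u(n) g` -/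
def commR : G ⊗ H ⟶ G := (snd G H ≫ u) * fst G H

lemma lift_conjMor {T : C} (g : T ⟶ G) (n : T ⟶ H) :
    lift g n ≫ conjMor u = g * (n ≫ u) * g⁻¹ := by
  simp [conjMor, comp_mul, comp_inv]

lemma lift_commL {T : C} (g : T ⟶ G) (n : T ⟶ H) : lift g n ≫ commL u = g * (n ≫ u) := by
  simp [commL, comp_mul]

lemma lift_commR {T : C} (g : T ⟶ G) (n : T ⟶ H) : lift g n ≫ commR u = (n ≫ u) * g := by
  simp [commR, comp_mul]

lemma normal_iff : (∀ (T : C) (g : T ⟶ G) (n : T ⟶ H), ∃ n' : T ⟶ H,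
    g * (n ≫ u) * g⁻¹ = n' ≫ u) ↔ ∃ c' : G ⊗ H ⟶ H, c' ≫ u = conjMor u := by
  constructor
  · intro h
    obtain ⟨n', hn'⟩ := h (G ⊗ H) (fst G H) (snd G H)
    exact ⟨n', hn'.symm⟩
  · rintro ⟨c', hc'⟩ T g n
    exact ⟨lift g n ≫ c', by rw [Category.assoc, hc', lift_conjMor]⟩

lemma central_iff : (∀ (T : C) (g : T ⟶ G) (n : T ⟶ H), g * (n ≫ u) = (n ≫ u) * g) ↔
    commL u = commR u := by
  constructor
  · intro h
    exact h _ _ _
  · intro h T g n
    rw [← lift_commL, ← lift_commR, h]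

end GenNormal

section GenFunctor

variable {C D : Type*} [Category C] [Category D] [CartesianMonoidalCategory C]
  [CartesianMonoidalCategory D] (F : C ⥤ D) [F.Monoidal] {G H : C} [GrpObj G] [GrpObj H]
  (u : H ⟶ G)

open scoped Obj
open Functor.LaxMonoidal Functor.Monoidal

lemma μ_map_conjMor : Functor.LaxMonoidal.μ F G H ≫ F.map (conjMor u) = conjMor (F.map u) := by
  simp only [conjMor, Functor.map_mul, Functor.map_inv', Functor.map_comp, comp_mul, comp_inv,
    μ_fst, μ_snd_assoc]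

lemma μ_map_commL : Functor.LaxMonoidal.μ F G H ≫ F.map (commL u) = commL (F.map u) := by
  simp only [commL, Functor.map_mul, Functor.map_comp, comp_mul, μ_fst, μ_snd_assoc]

lemma μ_map_commR : Functor.LaxMonoidal.μ F G H ≫ F.map (commR u) = commR (F.map u) := by
  simp only [commR, Functor.map_mul, Functor.map_comp, comp_mul, μ_fst, μ_snd_assoc]

lemma normal_map (h : ∃ c' : G ⊗ H ⟶ H, c' ≫ u = conjMor u) :
    ∃ c'' : F.obj G ⊗ F.obj H ⟶ F.obj H, c'' ≫ F.map u = conjMor (F.map u) := by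
  obtain ⟨c', hc'⟩ := h
  exact ⟨Functor.LaxMonoidal.μ F G H ≫ F.map c', by rw [Category.assoc, ← F.map_comp, hc', μ_map_conjMor]⟩

lemma central_map (h : commL u = commR u) : commL (F.map u) = commR (F.map u) := by
  rw [← μ_map_commL, ← μ_map_commR, h]

lemma central_of_map (h : F.map (commL u) = F.map (commR u)) :
    commL (F.map u) = commR (F.map u) := by
  rw [← μ_map_commL, ← μ_map_commR, h]

end GenFunctor

section GenIso

variable {C : Type*} [Category C] [CartesianMonoidalCategory C] {G G' H H' : C}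
  [GrpObj G] [GrpObj G'] [GrpObj H] [GrpObj H'] (u : H ⟶ G) (p : H' ≅ H) (q : G ≅ G')

lemma normal_conj_iso (hq : IsMonHom q.hom)
    (h : ∀ (T : C) (g : T ⟶ G) (n : T ⟶ H), ∃ n' : T ⟶ H, g * (n ≫ u) * g⁻¹ = n' ≫ u) :
    ∀ (T : C) (g : T ⟶ G') (n : T ⟶ H'), ∃ n' : T ⟶ H',
      g * (n ≫ p.hom ≫ u ≫ q.hom) * g⁻¹ = n' ≫ p.hom ≫ u ≫ q.hom := by
  intro T g n
  obtain ⟨m, hm⟩ := h T (g ≫ q.inv) (n ≫ p.hom)
  refine ⟨m ≫ p.inv, ?_⟩
  have h1 := congrArg (· ≫ q.hom) hm
  simp only [mul_comp, inv_comp, Category.assoc, Iso.inv_hom_id, Category.comp_id] at h1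
  rw [h1]
  simp

lemma central_conj_iso (hq : IsMonHom q.hom)
    (h : ∀ (T : C) (g : T ⟶ G) (n : T ⟶ H), g * (n ≫ u) = (n ≫ u) * g) :
    ∀ (T : C) (g : T ⟶ G') (n : T ⟶ H'),
      g * (n ≫ p.hom ≫ u ≫ q.hom) = (n ≫ p.hom ≫ u ≫ q.hom) * g := by
  intro T g n
  have hm := h T (g ≫ q.inv) (n ≫ p.hom)
  have h1 := congrArg (· ≫ q.hom) hm
  simp only [mul_comp, Category.assoc, Iso.inv_hom_id, Category.comp_id] at h1
  exact h1

end GenIso

section OverN

variable {S S' S'' : Scheme.{u}}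

lemma conj_formula (b : S'' ⟶ S') (a : S' ⟶ S) (d : S'' ⟶ S) (h : b ≫ a = d) {X Y : Over S}
    (w : X ⟶ Y) :
    (Over.pullback d).map w = (alpha b a d h X).inv ≫
      (Over.pullback b).map ((Over.pullback a).map w) ≫ (alpha b a d h Y).hom := by
  apply ext_bc
  calc ((Over.pullback d).map w).left ≫ pullback.fst Y.hom d
      = pullback.fst X.hom d ≫ w.left := map_left_fst d w
    _ = ((alpha b a d h X).inv.left ≫ pullback.fst (pullback.snd X.hom a) b ≫
          pullback.fst X.hom a) ≫ w.left := by rw [alpha_inv_left_fst_fst]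
    _ = (alpha b a d h X).inv.left ≫ pullback.fst (pullback.snd X.hom a) b ≫
          ((Over.pullback a).map w).left ≫ pullback.fst Y.hom a := by
        rw [map_left_fst a w]; simp only [Category.assoc]
    _ = (alpha b a d h X).inv.left ≫ (((Over.pullback b).map ((Over.pullback a).map w)).left ≫
          pullback.fst (pullback.snd Y.hom a) b) ≫ pullback.fst Y.hom a := by
        rw [map_left_fst' b a ((Over.pullback a).map w)]; simp only [Category.assoc]
    _ = _ := by
        simp only [Over.comp_left, Category.assoc]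
        rw [alpha_hom_left_fst b a d h Y]

lemma conj_formula' (b : S'' ⟶ S') (a : S' ⟶ S) (d : S'' ⟶ S) (h : b ≫ a = d) {X Y : Over S}
    (w : X ⟶ Y) :
    (Over.pullback b).map ((Over.pullback a).map w) =
      (alpha b a d h X).hom ≫ (Over.pullback d).map w ≫ (alpha b a d h Y).inv := by
  rw [conj_formula b a d h w]
  simp

lemma mono_stage_up (b : S'' ⟶ S') (a : S' ⟶ S) (d : S'' ⟶ S) (h : b ≫ a = d) {X Y : Over S}
    (w : X ⟶ Y) (hm : Mono ((Over.pullback a).map w)) : Mono ((Over.pullback d).map w) := by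
  rw [conj_formula b a d h w]
  haveI := hm
  haveI : Mono ((Over.pullback b).map ((Over.pullback a).map w)) :=
    (Over.pullback b).map_mono _
  infer_instance

lemma normal_transfer (b : S'' ⟶ S') (a : S' ⟶ S) (d : S'' ⟶ S) (h : b ≫ a = d) {X Y : Over S}
    [GrpObj X] [GrpObj Y] (w : X ⟶ Y)
    (hn : AlgGrp.IsNormalHom ((Over.pullback b).map ((Over.pullback a).map w))) :
    AlgGrp.IsNormalHom ((Over.pullback d).map w) := by
  rw [conj_formula b a d h w]
  exact normal_conj_iso _ (alpha b a d h X).symm (alpha b a d h Y) (isMonHom_alpha b a d h Y).1 hn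

lemma normal_stage_up (b : S'' ⟶ S') (a : S' ⟶ S) (d : S'' ⟶ S) (h : b ≫ a = d) {X Y : Over S}
    [GrpObj X] [GrpObj Y] (w : X ⟶ Y) (hn : AlgGrp.IsNormalHom ((Over.pullback a).map w)) :
    AlgGrp.IsNormalHom ((Over.pullback d).map w) :=
  normal_transfer b a d h w
    ((normal_iff _).mpr (normal_map (Over.pullback b) _ ((normal_iff _).mp hn)))

lemma central_transfer (b : S'' ⟶ S') (a : S' ⟶ S) (d : S'' ⟶ S) (h : b ≫ a = d) {X Y : Over S}
    [GrpObj X] [GrpObj Y] (w : X ⟶ Y)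
    (hn : ∀ (T : Over S'') (g : T ⟶ Red.bc b (Red.bc a Y)) (n : T ⟶ Red.bc b (Red.bc a X)),
      g * (n ≫ (Over.pullback b).map ((Over.pullback a).map w)) =
        (n ≫ (Over.pullback b).map ((Over.pullback a).map w)) * g) :
    ∀ (T : Over S'') (g : T ⟶ Red.bc d Y) (n : T ⟶ Red.bc d X),
      g * (n ≫ (Over.pullback d).map w) = (n ≫ (Over.pullback d).map w) * g := by
  rw [conj_formula b a d h w]
  exact central_conj_iso _ (alpha b a d h X).symm (alpha b a d h Y) (isMonHom_alpha b a d h Y).1 hn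

lemma central_stage_up (b : S'' ⟶ S') (a : S' ⟶ S) (d : S'' ⟶ S) (h : b ≫ a = d) {X Y : Over S}
    [GrpObj X] [GrpObj Y] (w : X ⟶ Y)
    (hn : ∀ (T : Over S') (g : T ⟶ Red.bc a Y) (n : T ⟶ Red.bc a X),
      g * (n ≫ (Over.pullback a).map w) = (n ≫ (Over.pullback a).map w) * g) :
    ∀ (T : Over S'') (g : T ⟶ Red.bc d Y) (n : T ⟶ Red.bc d X),
      g * (n ≫ (Over.pullback d).map w) = (n ≫ (Over.pullback d).map w) * g :=
  central_transfer b a d h w
    ((central_iff _).mpr (central_map (Over.pullback b) _ ((central_iff _).mp hn)))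

open Groth.Agent.Helper7.LimStage in
lemma map_left_eq_bcHom {Hj Gj : Over S} (uj : Hj ⟶ Gj) (s : S' ⟶ S) :
    (pullback.congrHom (Over.w uj).symm rfl).hom ≫ bcHom uj.left Gj.hom s =
      ((Over.pullback s).map uj).left := by
  apply pullback.hom_ext
  · rw [map_left_fst, Category.assoc, bcHom_fst]
    simp only [pullback.congrHom_hom, pullback.map]
    rw [← Category.assoc, pullback.lift_fst, Category.comp_id]
  · have h2 : ((Over.pullback s).map uj).left ≫ pullback.snd Gj.hom s = pullback.snd Hj.hom s :=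
      Over.w ((Over.pullback s).map uj)
    rw [h2, Category.assoc, bcHom_snd]
    simp only [pullback.congrHom_hom, pullback.map]
    rw [pullback.lift_snd, Category.comp_id]

open Groth.Agent.Helper7.LimStage in
lemma mono_bcHom_of {Hj Gj : Over S} (uj : Hj ⟶ Gj) (s : S' ⟶ S)
    (h : Mono ((Over.pullback s).map uj)) : Mono (bcHom uj.left Gj.hom s) := by
  haveI := h
  haveI : Mono ((Over.pullback s).map uj).left := inferInstance
  have h1 : bcHom uj.left Gj.hom s = (pullback.congrHom (Over.w uj).symm rfl).inv ≫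
      ((Over.pullback s).map uj).left := by
    rw [← map_left_eq_bcHom, Iso.inv_hom_id_assoc]
  rw [h1]
  infer_instance

open Groth.Agent.Helper7.LimStage in
lemma mono_of_bcHom {Hj Gj : Over S} (uj : Hj ⟶ Gj) (s : S' ⟶ S)
    (h : Mono (bcHom uj.left Gj.hom s)) : Mono ((Over.pullback s).map uj) := by
  haveI := h
  haveI : Mono ((Over.pullback s).map uj).left := by
    rw [← map_left_eq_bcHom]
    infer_instance
  exact Over.mono_of_mono_left _

end OverN

section LimN

variable {I : Type u} [Category.{u} I] [IsCofiltered I] (D : I ⥤ Scheme.{u}) (c : Cone D)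
  (hc : IsLimit c) [∀ {i j : I} (f : i ⟶ j), IsAffineHom (D.map f)]

include hc in
theorem mono_descend [∀ i, CompactSpace (D.obj i)] (j : I) (Gj Hj : Over (D.obj j))
    [QuasiCompact Gj.hom] [QuasiSeparated Gj.hom]
    [LocallyOfFinitePresentation Hj.hom] [QuasiCompact Hj.hom] [QuasiSeparated Hj.hom]
    (uj : Hj ⟶ Gj) (h : Mono ((Over.pullback (c.π.app j)).map uj)) :
    ∃ (i : I) (φ : i ⟶ j), Mono ((Over.pullback (D.map φ)).map uj) := by
  haveI : CompactSpace Gj.left := QuasiCompact.compactSpace_of_compactSpace Gj.hom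
  haveI hqs : QuasiSeparated (uj.left ≫ Gj.hom) := by rw [Over.w uj]; infer_instance
  haveI hqc : QuasiCompact (uj.left ≫ Gj.hom) := by rw [Over.w uj]; infer_instance
  haveI hlft : LocallyOfFiniteType (uj.left ≫ Gj.hom) := by rw [Over.w uj]; infer_instance
  haveI : QuasiSeparated uj.left := QuasiSeparated.of_comp uj.left Gj.hom
  haveI : QuasiCompact uj.left := QuasiCompact.of_comp uj.left Gj.hom
  haveI : LocallyOfFiniteType uj.left := locallyOfFiniteType_of_comp uj.left Gj.hom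
  obtain ⟨i, φ, hi⟩ := Groth.Agent.Helper7.LimGen.exists_stage_mono D c hc uj.left Gj.hom
    (mono_bcHom_of uj _ h)
  exact ⟨i, φ, mono_of_bcHom uj _ hi⟩

include hc in
theorem normal_descend [∀ i, CompactSpace (D.obj i)] [∀ i, QuasiSeparatedSpace (D.obj i)]
    (j : I) (Gj Hj : Over (D.obj j)) [GrpObj Gj] [GrpObj Hj]
    [LocallyOfFinitePresentation Gj.hom] [QuasiCompact Gj.hom] [QuasiSeparated Gj.hom]
    [LocallyOfFinitePresentation Hj.hom] [QuasiCompact Hj.hom] [QuasiSeparated Hj.hom]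
    (uj : Hj ⟶ Gj) (hn : AlgGrp.IsNormalHom ((Over.pullback (c.π.app j)).map uj)) :
    ∃ (i : I) (f : i ⟶ j), AlgGrp.IsNormalHom ((Over.pullback (D.map f)).map uj) := by
  haveI : QuasiCompact (Gj ⊗ Hj).hom := by
    rw [Over.tensorObj_hom]
    exact (inferInstance : QuasiCompact (pullback.fst Gj.hom Hj.hom ≫ Gj.hom))
  haveI : QuasiSeparated (Gj ⊗ Hj).hom := by
    rw [Over.tensorObj_hom]
    exact (inferInstance : QuasiSeparated (pullback.fst Gj.hom Hj.hom ≫ Gj.hom))
  haveI : CompactSpace (Gj ⊗ Hj).left :=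
    QuasiCompact.compactSpace_of_compactSpace (Gj ⊗ Hj).hom
  haveI : QuasiSeparatedSpace (Gj ⊗ Hj).left :=
    quasiSeparatedSpace_of_quasiSeparated (Gj ⊗ Hj).hom
  obtain ⟨c', hc'⟩ := (normal_iff _).mp hn
  obtain ⟨i, φ, v, hv⟩ := full D c hc j (Gj ⊗ Hj) Hj
    (inv (Functor.LaxMonoidal.μ (Over.pullback (c.π.app j)) Gj Hj) ≫ c')
  have hμ : (Over.pullback (c.π.app j)).map (conjMor uj) =
      inv (Functor.LaxMonoidal.μ (Over.pullback (c.π.app j)) Gj Hj) ≫
        conjMor ((Over.pullback (c.π.app j)).map uj) := by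
    rw [IsIso.eq_inv_comp]
    exact μ_map_conjMor _ uj
  have hE : (Over.pullback (c.π.app i)).map (v ≫ (Over.pullback (D.map φ)).map uj) =
      (Over.pullback (c.π.app i)).map ((Over.pullback (D.map φ)).map (conjMor uj)) := by
    rw [Functor.map_comp, hv, conj_formula' (c.π.app i) (D.map φ) (c.π.app j) (c.w φ) uj,
      conj_formula' (c.π.app i) (D.map φ) (c.π.app j) (c.w φ) (conjMor uj), hμ, ← hc']
    simp only [Category.assoc, Iso.inv_hom_id_assoc]
  haveI : CompactSpace (Red.bc (D.map φ) (Gj ⊗ Hj)).left :=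
    QuasiCompact.compactSpace_of_compactSpace (pullback.snd (Gj ⊗ Hj).hom (D.map φ))
  haveI : LocallyOfFiniteType (Red.bc (D.map φ) Gj).hom :=
    (inferInstance : LocallyOfFiniteType (pullback.snd Gj.hom (D.map φ)))
  obtain ⟨i', g, hg⟩ := faithful_flat D c hc i _ _ hE
  have hEq := map_eq_of_flat (D.map g) _ _ hg
  have hw : ∃ c'' : Red.bc (D.map g) (Red.bc (D.map φ) Gj) ⊗ Red.bc (D.map g) (Red.bc (D.map φ) Hj) ⟶
      Red.bc (D.map g) (Red.bc (D.map φ) Hj),
      c'' ≫ (Over.pullback (D.map g)).map ((Over.pullback (D.map φ)).map uj) =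
        conjMor ((Over.pullback (D.map g)).map ((Over.pullback (D.map φ)).map uj)) := by
    refine ⟨Functor.LaxMonoidal.μ (Over.pullback (D.map g)) _ _ ≫
      (Over.pullback (D.map g)).map
        (Functor.LaxMonoidal.μ (Over.pullback (D.map φ)) Gj Hj ≫ v), ?_⟩
    have h1 : (Over.pullback (D.map g)).map
        (Functor.LaxMonoidal.μ (Over.pullback (D.map φ)) Gj Hj ≫ v) ≫
        (Over.pullback (D.map g)).map ((Over.pullback (D.map φ)).map uj) =
        (Over.pullback (D.map g)).map (conjMor ((Over.pullback (D.map φ)).map uj)) := by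
      rw [← Functor.map_comp, Category.assoc, Functor.map_comp, hEq, ← Functor.map_comp,
        μ_map_conjMor]
    rw [Category.assoc, h1, μ_map_conjMor]
  have hnorm : AlgGrp.IsNormalHom
      ((Over.pullback (D.map g)).map ((Over.pullback (D.map φ)).map uj)) :=
    (normal_iff _).mpr hw
  exact ⟨i', g ≫ φ,
    normal_transfer (D.map g) (D.map φ) (D.map (g ≫ φ)) (D.map_comp g φ).symm uj hnorm⟩

include hc in
theorem central_descend [∀ i, CompactSpace (D.obj i)]
    (j : I) (Gj Hj : Over (D.obj j)) [GrpObj Gj] [GrpObj Hj]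
    [LocallyOfFinitePresentation Gj.hom] [QuasiCompact Gj.hom]
    [QuasiCompact Hj.hom]
    (uj : Hj ⟶ Gj)
    (hcen : ∀ (T : Over c.pt) (g : T ⟶ Red.bc (c.π.app j) Gj) (n : T ⟶ Red.bc (c.π.app j) Hj),
      g * (n ≫ (Over.pullback (c.π.app j)).map uj) =
        (n ≫ (Over.pullback (c.π.app j)).map uj) * g) :
    ∃ (i : I) (f : i ⟶ j), ∀ (T : Over (D.obj i)) (g : T ⟶ Red.bc (D.map f) Gj)
      (n : T ⟶ Red.bc (D.map f) Hj),
      g * (n ≫ (Over.pullback (D.map f)).map uj) = (n ≫ (Over.pullback (D.map f)).map uj) * g := by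
  haveI : QuasiCompact (Gj ⊗ Hj).hom := by
    rw [Over.tensorObj_hom]
    exact (inferInstance : QuasiCompact (pullback.fst Gj.hom Hj.hom ≫ Gj.hom))
  haveI : CompactSpace (Gj ⊗ Hj).left :=
    QuasiCompact.compactSpace_of_compactSpace (Gj ⊗ Hj).hom
  have h1 := (central_iff _).mp hcen
  have h2 : (Over.pullback (c.π.app j)).map (commL uj) =
      (Over.pullback (c.π.app j)).map (commR uj) := by
    rw [← cancel_epi (Functor.LaxMonoidal.μ (Over.pullback (c.π.app j)) Gj Hj), μ_map_commL,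
      μ_map_commR]
    exact h1
  obtain ⟨i, φ, hφ⟩ := faithful_flat D c hc j _ _ h2
  have h3 := map_eq_of_flat (D.map φ) _ _ hφ
  exact ⟨i, φ, (central_iff _).mpr (central_of_map _ uj h3)⟩

include hc in
theorem main6088 [∀ i, CompactSpace (D.obj i)] [∀ i, QuasiSeparatedSpace (D.obj i)]
    (j : I) (Gj Hj : Over (D.obj j)) [GrpObj Gj] [GrpObj Hj]
    [LocallyOfFinitePresentation Gj.hom] [QuasiCompact Gj.hom] [QuasiSeparated Gj.hom]
    [LocallyOfFinitePresentation Hj.hom] [QuasiCompact Hj.hom] [QuasiSeparated Hj.hom]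
    (uj : Hj ⟶ Gj) :
    ((Mono ((Over.pullback (c.π.app j)).map uj) ∧ AlgGrp.IsNormalHom ((Over.pullback (c.π.app j)).map uj)) ↔
      ∃ (i : I) (f : i ⟶ j), Mono ((Over.pullback (D.map f)).map uj) ∧ AlgGrp.IsNormalHom ((Over.pullback (D.map f)).map uj)) ∧
    ((Mono ((Over.pullback (c.π.app j)).map uj) ∧ (∀ (T : Over c.pt) (g : T ⟶ (Red.bc (c.π.app j) Gj)) (n : T ⟶ (Red.bc (c.π.app j) Hj)), g * (n ≫ ((Over.pullback (c.π.app j)).map uj)) = (n ≫ ((Over.pullback (c.π.app j)).map uj)) * g)) ↔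
      ∃ (i : I) (f : i ⟶ j), Mono ((Over.pullback (D.map f)).map uj) ∧ (∀ (T : Over (D.obj i)) (g : T ⟶ (Red.bc (D.map f) Gj)) (n : T ⟶ (Red.bc (D.map f) Hj)), g * (n ≫ ((Over.pullback (D.map f)).map uj)) = (n ≫ ((Over.pullback (D.map f)).map uj)) * g)) := by
  have keyN : ∀ {k : I} (f f' : k ⟶ j), f = f' →
      AlgGrp.IsNormalHom ((Over.pullback (D.map f)).map uj) →
      AlgGrp.IsNormalHom ((Over.pullback (D.map f')).map uj) := by
    rintro k f _ rfl h
    exact h
  have keyC : ∀ {k : I} (f f' : k ⟶ j), f = f' →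
      (∀ (T : Over (D.obj k)) (g : T ⟶ (Red.bc (D.map f) Gj)) (n : T ⟶ (Red.bc (D.map f) Hj)),
        g * (n ≫ ((Over.pullback (D.map f)).map uj)) = (n ≫ ((Over.pullback (D.map f)).map uj)) * g) →
      (∀ (T : Over (D.obj k)) (g : T ⟶ (Red.bc (D.map f') Gj)) (n : T ⟶ (Red.bc (D.map f') Hj)),
        g * (n ≫ ((Over.pullback (D.map f')).map uj)) = (n ≫ ((Over.pullback (D.map f')).map uj)) * g) := by
    rintro k f _ rfl h
    exact h
  refine ⟨⟨?_, ?_⟩, ⟨?_, ?_⟩⟩
  · rintro ⟨hm, hn⟩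
    obtain ⟨i₀, φ₀, hm₀⟩ := mono_descend D c hc j Gj Hj uj hm
    obtain ⟨i₁, φ₁, hn₁⟩ := normal_descend D c hc j Gj Hj uj hn
    obtain ⟨k, p, q, hpq⟩ := IsCofiltered.cospan φ₀ φ₁
    refine ⟨k, p ≫ φ₀, mono_stage_up (D.map p) (D.map φ₀) (D.map (p ≫ φ₀))
      (D.map_comp p φ₀).symm uj hm₀, ?_⟩
    exact keyN _ _ hpq.symm (normal_stage_up (D.map q) (D.map φ₁) (D.map (q ≫ φ₁))
      (D.map_comp q φ₁).symm uj hn₁)
  · rintro ⟨i, f, hm, hn⟩
    exact ⟨mono_stage_up (c.π.app i) (D.map f) (c.π.app j) (c.w f) uj hm,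
      normal_stage_up (c.π.app i) (D.map f) (c.π.app j) (c.w f) uj hn⟩
  · rintro ⟨hm, hn⟩
    obtain ⟨i₀, φ₀, hm₀⟩ := mono_descend D c hc j Gj Hj uj hm
    obtain ⟨i₁, φ₁, hn₁⟩ := central_descend D c hc j Gj Hj uj hn
    obtain ⟨k, p, q, hpq⟩ := IsCofiltered.cospan φ₀ φ₁
    refine ⟨k, p ≫ φ₀, mono_stage_up (D.map p) (D.map φ₀) (D.map (p ≫ φ₀))
      (D.map_comp p φ₀).symm uj hm₀, ?_⟩
    exact keyC _ _ hpq.symm (central_stage_up (D.map q) (D.map φ₁) (D.map (q ≫ φ₁))
      (D.map_comp q φ₁).symm uj hn₁)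
  · rintro ⟨i, f, hm, hn⟩
    exact ⟨mono_stage_up (c.π.app i) (D.map f) (c.π.app j) (c.w f) uj hm,
      central_stage_up (c.π.app i) (D.map f) (c.π.app j) (c.w f) uj hn⟩

end LimN

end H3GrpLim
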