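import Mathlib
import Groth.Prelude.Def_Red
import Groth.Prelude.Def_AlgGrp
import Groth.Agent.Lib.Helper3.GrpLimHom
import Groth.Agent.Lib.Helper3.GrpLimNormal
/-! helper3: a finitely presented closed subscheme of a group scheme over a stage of a cofiltered
limit which becomes a (normal) subgroup scheme over the limit is a (normal) subgroup scheme over a
finite stage (S18878). General tool: descent of factorizations `t ≫ k = ω` (`fact_descend`). -/

set_option autoImplicit false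
set_option linter.unusedSectionVars false
set_option linter.style.haveILetI false
universe u

open CategoryTheory CategoryTheory.Limits AlgebraicGeometry
open MonoidalCategory CartesianMonoidalCategory MonObj GrpObj

namespace H3GrpLim

section GenSub

variable {C : Type*} [Category C] [CartesianMonoidalCategory C] {G H : C} [GrpObj G] (k : H ⟶ G)

/-- `(x, y) ↦ k x * k y` -/
def mulMor : H ⊗ H ⟶ G := (fst H H ≫ k) * (snd H H ≫ k)
/-- `x ↦ (k x)⁻¹` -/
def invMor : H ⟶ G := k ≫ ι[G]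
/-- `(g, x) ↦ g * k x * g⁻¹` (no group structure on the source needed) -/
def conjMor' : G ⊗ H ⟶ G := fst G H * (snd G H ≫ k) * (fst G H)⁻¹

lemma mulMor_eq : mulMor k = (k ⊗ₘ k) ≫ μ[G] := by
  rw [← lift_fst_comp_snd_comp]
  rfl

lemma lift_conjMor' {T : C} (g : T ⟶ G) (n : T ⟶ H) :
    lift g n ≫ conjMor' k = g * (n ≫ k) * g⁻¹ := by
  simp [conjMor', comp_mul, comp_inv]

lemma normal_iff' : (∀ (T : C) (g : T ⟶ G) (n : T ⟶ H), ∃ n' : T ⟶ H,
    g * (n ≫ k) * g⁻¹ = n' ≫ k) ↔ ∃ c' : G ⊗ H ⟶ H, c' ≫ k = conjMor' k := by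
  constructor
  · intro h
    obtain ⟨n', hn'⟩ := h (G ⊗ H) (fst G H) (snd G H)
    exact ⟨n', hn'.symm⟩
  · rintro ⟨c', hc'⟩ T g n
    exact ⟨lift g n ≫ c', by rw [Category.assoc, hc', lift_conjMor']⟩

/-- a subobject closed under the group operations is a group object -/
@[reducible] def grpObjOfFact [Mono k] (m : H ⊗ H ⟶ H) (hm : m ≫ k = mulMor k)
    (e : 𝟙_ C ⟶ H) (he : e ≫ k = η[G]) (i : H ⟶ H) (hi : i ≫ k = invMor k) : GrpObj H where
  one := e
  mul := m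
  one_mul := by
    rw [← cancel_mono k, Category.assoc, hm, leftUnitor_hom]
    simp only [mulMor, comp_mul, whiskerRight_fst_assoc, whiskerRight_snd_assoc, he, one_eq_one,
      comp_one, _root_.one_mul]
  mul_one := by
    rw [← cancel_mono k, Category.assoc, hm, rightUnitor_hom]
    simp only [mulMor, comp_mul, whiskerLeft_fst_assoc, whiskerLeft_snd_assoc, he, one_eq_one,
      comp_one, _root_.mul_one]
  mul_assoc := by
    rw [← cancel_mono k]
    simp only [Category.assoc, hm, mulMor, comp_mul, whiskerRight_fst_assoc,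
      whiskerRight_snd_assoc, whiskerLeft_fst_assoc, whiskerLeft_snd_assoc,
      associator_hom_fst_assoc, associator_hom_snd_fst_assoc, associator_hom_snd_snd_assoc,
      _root_.mul_assoc]
  inv := i
  left_inv := by
    rw [← cancel_mono k]
    simp only [Category.assoc, hm, he, hi, mulMor, invMor, comp_mul, lift_fst_assoc,
      lift_snd_assoc, Category.id_comp]
    rw [← Hom.inv_def, inv_mul_cancel, Hom.one_def]
  right_inv := by
    rw [← cancel_mono k]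
    simp only [Category.assoc, hm, he, hi, mulMor, invMor, comp_mul, lift_fst_assoc,
      lift_snd_assoc, Category.id_comp]
    rw [← Hom.inv_def, mul_inv_cancel, Hom.one_def]

lemma isMonHom_ofFact [Mono k] (m : H ⊗ H ⟶ H) (hm : m ≫ k = mulMor k)
    (e : 𝟙_ C ⟶ H) (he : e ≫ k = η[G]) (i : H ⟶ H) (hi : i ≫ k = invMor k) :
    @IsMonHom _ _ _ H G (grpObjOfFact k m hm e he i hi).toMonObj _ k :=
  letI := grpObjOfFact k m hm e he i hi
  { one_hom := he
    mul_hom := by rw [← mulMor_eq]; exact hm }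

end GenSub

section GenSubFunctor

variable {C D : Type*} [Category C] [Category D] [CartesianMonoidalCategory C]
  [CartesianMonoidalCategory D] (F : C ⥤ D) [F.Monoidal] {G H : C} [GrpObj G] (k : H ⟶ G)

open scoped Obj
open Functor.LaxMonoidal Functor.Monoidal

lemma μ_map_mulMor : Functor.LaxMonoidal.μ F H H ≫ F.map (mulMor k) = mulMor (F.map k) := by
  simp only [mulMor, Functor.map_mul, Functor.map_comp, comp_mul, μ_fst_assoc, μ_snd_assoc]

lemma μ_map_conjMor' : Functor.LaxMonoidal.μ F G H ≫ F.map (conjMor' k) = conjMor' (F.map k) := by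
  simp only [conjMor', Functor.map_mul, Functor.map_inv', Functor.map_comp, comp_mul, comp_inv,
    μ_fst, μ_snd_assoc]

lemma map_invMor : F.map (invMor k) = invMor (F.map k) := by
  simp only [invMor, Functor.map_comp]
  rfl

lemma ε_map_one : Functor.LaxMonoidal.ε F ≫ F.map η[G] = η[F.obj G] := rfl

end GenSubFunctor

section FactOver

variable {S S' S'' : Scheme.{u}}

/-- after base change along `a`, the morphism `ω` factors through `k` -/
def Fact (a : S' ⟶ S) {X Y Z : Over S} (k : Y ⟶ Z) (ω : X ⟶ Z) : Prop :=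
  ∃ t : Red.bc a X ⟶ Red.bc a Y, t ≫ (Over.pullback a).map k = (Over.pullback a).map ω

lemma fact_stage_up (b : S'' ⟶ S') (a : S' ⟶ S) (d : S'' ⟶ S) (h : b ≫ a = d) {X Y Z : Over S}
    (k : Y ⟶ Z) (ω : X ⟶ Z) (hf : Fact a k ω) : Fact d k ω := by
  obtain ⟨t, ht⟩ := hf
  refine ⟨(alpha b a d h X).inv ≫ (Over.pullback b).map t ≫ (alpha b a d h Y).hom, ?_⟩
  rw [conj_formula b a d h k, conj_formula b a d h ω]
  simp only [Category.assoc, Iso.hom_inv_id_assoc]
  rw [← Functor.map_comp_assoc, ht]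

end FactOver

section FactLim

variable {I : Type u} [Category.{u} I] [IsCofiltered I] (D : I ⥤ Scheme.{u}) (c : Cone D)
  (hc : IsLimit c) [∀ {i j : I} (f : i ⟶ j), IsAffineHom (D.map f)]

lemma fact_congr {j k : I} (f f' : k ⟶ j) (hff : f = f') {X Y Z : Over (D.obj j)} (κ : Y ⟶ Z)
    (ω : X ⟶ Z) (h : Fact (D.map f) κ ω) : Fact (D.map f') κ ω := by
  subst hff
  exact h

lemma fact_le {j i k : I} (e : k ⟶ i) (f : i ⟶ j) {X Y Z : Over (D.obj j)} (κ : Y ⟶ Z)
    (ω : X ⟶ Z) (h : Fact (D.map f) κ ω) : Fact (D.map (e ≫ f)) κ ω :=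
  fact_stage_up (D.map e) (D.map f) (D.map (e ≫ f)) (D.map_comp e f).symm κ ω h

include hc in
theorem fact_descend (j : I) [CompactSpace (D.obj j)] (X Y Z : Over (D.obj j))
    [QuasiCompact X.hom] [QuasiSeparatedSpace X.left]
    [LocallyOfFinitePresentation Y.hom] [LocallyOfFiniteType Z.hom]
    (κ : Y ⟶ Z) (ω : X ⟶ Z) (h : Fact (c.π.app j) κ ω) :
    ∃ (i : I) (f : i ⟶ j), Fact (D.map f) κ ω := by
  haveI : CompactSpace X.left := QuasiCompact.compactSpace_of_compactSpace X.hom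
  obtain ⟨t, ht⟩ := h
  obtain ⟨i, φ, v, hv⟩ := full D c hc j X Y t
  haveI : CompactSpace (D.obj i) := QuasiCompact.compactSpace_of_compactSpace (D.map φ)
  have hE : (Over.pullback (c.π.app i)).map (v ≫ (Over.pullback (D.map φ)).map κ) =
      (Over.pullback (c.π.app i)).map ((Over.pullback (D.map φ)).map ω) := by
    rw [Functor.map_comp, hv, conj_formula' (c.π.app i) (D.map φ) (c.π.app j) (c.w φ) κ,
      conj_formula' (c.π.app i) (D.map φ) (c.π.app j) (c.w φ) ω, ← ht]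
    simp only [Category.assoc, Iso.inv_hom_id_assoc]
  haveI : CompactSpace (Red.bc (D.map φ) X).left :=
    QuasiCompact.compactSpace_of_compactSpace (pullback.snd X.hom (D.map φ))
  haveI : LocallyOfFiniteType (Red.bc (D.map φ) Z).hom :=
    (inferInstance : LocallyOfFiniteType (pullback.snd Z.hom (D.map φ)))
  obtain ⟨i', g, hg⟩ := faithful_flat D c hc i _ _ hE
  have hEq := map_eq_of_flat (D.map g) _ _ hg
  refine ⟨i', g ≫ φ, ?_⟩
  refine ⟨(alpha (D.map g) (D.map φ) (D.map (g ≫ φ)) (D.map_comp g φ).symm X).inv ≫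
    (Over.pullback (D.map g)).map v ≫
    (alpha (D.map g) (D.map φ) (D.map (g ≫ φ)) (D.map_comp g φ).symm Y).hom, ?_⟩
  rw [conj_formula (D.map g) (D.map φ) (D.map (g ≫ φ)) (D.map_comp g φ).symm κ,
    conj_formula (D.map g) (D.map φ) (D.map (g ≫ φ)) (D.map_comp g φ).symm ω]
  simp only [Category.assoc, Iso.hom_inv_id_assoc]
  rw [← Functor.map_comp_assoc, hEq]

lemma combine {i₀ : I} (P : ∀ (k : I), (k ⟶ i₀) → Prop)
    (hPup : ∀ {k k' : I} (e : k' ⟶ k) (f : k ⟶ i₀), P k f → P k' (e ≫ f))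
    {X Y Z : Over (D.obj i₀)} (κ : Y ⟶ Z) (ω : X ⟶ Z)
    (hP : ∃ (i : I) (f : i ⟶ i₀), P i f) (hF : ∃ (i : I) (f : i ⟶ i₀), Fact (D.map f) κ ω) :
    ∃ (i : I) (f : i ⟶ i₀), P i f ∧ Fact (D.map f) κ ω := by
  obtain ⟨i₁, f₁, h₁⟩ := hP
  obtain ⟨i₂, f₂, h₂⟩ := hF
  obtain ⟨k, p, q, hpq⟩ := IsCofiltered.cospan f₁ f₂
  exact ⟨k, p ≫ f₁, hPup p f₁ h₁,
    fact_congr D (q ≫ f₂) (p ≫ f₁) hpq.symm κ ω (fact_le D q f₂ κ ω h₂)⟩

end FactLim

section SubOver

variable {S S' : Scheme.{u}} (a : S' ⟶ S) {G₀ H₀ : Over S} [GrpObj G₀] (k₀ : H₀ ⟶ G₀)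

lemma exists_grp_of_fact [Mono k₀]
    (h1 : Fact a k₀ (mulMor k₀)) (h2 : Fact a k₀ (η[G₀])) (h3 : Fact a k₀ (invMor k₀)) :
    ∃ _ : GrpObj (Red.bc a H₀), IsMonHom ((Over.pullback a).map k₀) := by
  obtain ⟨t1, ht1⟩ := h1
  obtain ⟨t2, ht2⟩ := h2
  obtain ⟨t3, ht3⟩ := h3
  haveI : Mono ((Over.pullback a).map k₀) := (Over.pullback a).map_mono _
  have hm : (Functor.LaxMonoidal.μ (Over.pullback a) H₀ H₀ ≫ t1) ≫ (Over.pullback a).map k₀ =
      mulMor ((Over.pullback a).map k₀) := by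
    rw [Category.assoc, ht1, μ_map_mulMor]
  have he : (Functor.LaxMonoidal.ε (Over.pullback a) ≫ t2) ≫ (Over.pullback a).map k₀ =
      η[Red.bc a G₀] := by
    rw [Category.assoc, ht2]
    rfl
  have hi : t3 ≫ (Over.pullback a).map k₀ = invMor ((Over.pullback a).map k₀) := by
    rw [ht3, map_invMor]
  exact ⟨grpObjOfFact _ _ hm _ he _ hi, isMonHom_ofFact _ _ hm _ he _ hi⟩

lemma fact_of_grp (grp : GrpObj (Red.bc a H₀)) (hmon : IsMonHom ((Over.pullback a).map k₀)) :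
    Fact a k₀ (mulMor k₀) ∧ Fact a k₀ (η[G₀]) ∧ Fact a k₀ (invMor k₀) := by
  haveI := hmon
  refine ⟨⟨inv (Functor.LaxMonoidal.μ (Over.pullback a) H₀ H₀) ≫ μ[Red.bc a H₀], ?_⟩,
    ⟨inv (Functor.LaxMonoidal.ε (Over.pullback a)) ≫ η[Red.bc a H₀], ?_⟩,
    ⟨ι[Red.bc a H₀], ?_⟩⟩
  · rw [Category.assoc, IsMonHom.mul_hom, ← mulMor_eq, ← μ_map_mulMor, IsIso.inv_hom_id_assoc]
  · rw [Category.assoc, IsMonHom.one_hom, IsIso.inv_comp_eq]
    rfl
  · rw [GrpObj.inv_hom, map_invMor]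
    rfl

lemma fact_conj_iff (grp : GrpObj (Red.bc a H₀)) :
    AlgGrp.IsNormalHom ((Over.pullback a).map k₀) ↔ Fact a k₀ (conjMor' k₀) := by
  constructor
  · intro h
    obtain ⟨c', hc'⟩ := (normal_iff' _).mp h
    refine ⟨inv (Functor.LaxMonoidal.μ (Over.pullback a) G₀ H₀) ≫ c', ?_⟩
    rw [Category.assoc, hc', ← μ_map_conjMor', IsIso.inv_hom_id_assoc]
  · rintro ⟨t, ht⟩
    refine (normal_iff' _).mpr ⟨Functor.LaxMonoidal.μ (Over.pullback a) G₀ H₀ ≫ t, ?_⟩
    rw [Category.assoc, ht, μ_map_conjMor']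

end SubOver

section Main

variable {I : Type u} [Category.{u} I] [IsCofiltered I] (D : I ⥤ Scheme.{u}) (c : Cone D)
  (hc : IsLimit c) [∀ {i j : I} (f : i ⟶ j), IsAffineHom (D.map f)]

include hc in
theorem main18878 (i₀ : I)
    [CompactSpace (D.obj i₀)] [QuasiSeparatedSpace (D.obj i₀)]
    (G₀ : Over (D.obj i₀)) [GrpObj G₀] [IsSeparated G₀.hom] [QuasiCompact G₀.hom]
    [LocallyOfFinitePresentation G₀.hom]
    (H₀ : Over (D.obj i₀)) (ι₀ : H₀ ⟶ G₀) [IsClosedImmersion ι₀.left]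
    [LocallyOfFinitePresentation ι₀.left]
    (hH : ∃ _ : GrpObj (Red.bc (c.π.app i₀) H₀), IsMonHom ((Over.pullback (c.π.app i₀)).map ι₀)) :
    (∃ (i : I) (a : i ⟶ i₀) (_ : GrpObj (Red.bc (D.map a) H₀)),
        IsMonHom ((Over.pullback (D.map a)).map ι₀)) ∧
    ((∃ (_ : GrpObj (Red.bc (c.π.app i₀) H₀)) (_ : IsMonHom ((Over.pullback (c.π.app i₀)).map ι₀)),
        AlgGrp.IsNormalHom ((Over.pullback (c.π.app i₀)).map ι₀)) →
      ∃ (i : I) (a : i ⟶ i₀) (_ : GrpObj (Red.bc (D.map a) H₀))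
        (_ : IsMonHom ((Over.pullback (D.map a)).map ι₀)),
        AlgGrp.IsNormalHom ((Over.pullback (D.map a)).map ι₀)) := by
  haveI : Mono ι₀.left := inferInstance
  haveI : Mono ι₀ := Over.mono_of_mono_left ι₀
  haveI hqc : QuasiCompact H₀.hom := by rw [← Over.w ι₀]; infer_instance
  haveI hqs : QuasiSeparated H₀.hom := by rw [← Over.w ι₀]; infer_instance
  haveI hlfp : LocallyOfFinitePresentation H₀.hom := by rw [← Over.w ι₀]; infer_instance
  haveI : QuasiSeparatedSpace H₀.left := quasiSeparatedSpace_of_quasiSeparated H₀.hom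
  haveI : QuasiCompact (H₀ ⊗ H₀).hom := by
    rw [Over.tensorObj_hom]
    exact (inferInstance : QuasiCompact (pullback.fst H₀.hom H₀.hom ≫ H₀.hom))
  haveI : QuasiSeparated (H₀ ⊗ H₀).hom := by
    rw [Over.tensorObj_hom]
    exact (inferInstance : QuasiSeparated (pullback.fst H₀.hom H₀.hom ≫ H₀.hom))
  haveI : QuasiSeparatedSpace (H₀ ⊗ H₀).left :=
    quasiSeparatedSpace_of_quasiSeparated (H₀ ⊗ H₀).hom
  haveI : QuasiCompact (G₀ ⊗ H₀).hom := by
    rw [Over.tensorObj_hom]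
    exact (inferInstance : QuasiCompact (pullback.fst G₀.hom H₀.hom ≫ G₀.hom))
  haveI : QuasiSeparated (G₀ ⊗ H₀).hom := by
    rw [Over.tensorObj_hom]
    exact (inferInstance : QuasiSeparated (pullback.fst G₀.hom H₀.hom ≫ G₀.hom))
  haveI : QuasiSeparatedSpace (G₀ ⊗ H₀).left :=
    quasiSeparatedSpace_of_quasiSeparated (G₀ ⊗ H₀).hom
  haveI : QuasiCompact (𝟙_ (Over (D.obj i₀))).hom := by
    rw [Over.tensorUnit_hom]
    exact MorphismProperty.id_mem @QuasiCompact _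
  haveI : QuasiSeparatedSpace (𝟙_ (Over (D.obj i₀))).left :=
    (inferInstance : QuasiSeparatedSpace (D.obj i₀))
  obtain ⟨grp, hmon⟩ := hH
  obtain ⟨F1, F2, F3⟩ := fact_of_grp (c.π.app i₀) ι₀ grp hmon
  have D1 := fact_descend D c hc i₀ _ _ _ ι₀ (mulMor ι₀) F1
  have D2 := fact_descend D c hc i₀ _ _ _ ι₀ (η[G₀]) F2
  have D3 := fact_descend D c hc i₀ _ _ _ ι₀ (invMor ι₀) F3
  have D12 := combine D (fun k f => Fact (D.map f) ι₀ (mulMor ι₀))
    (fun e f h => fact_le D e f _ _ h) ι₀ (η[G₀]) D1 D2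
  have D123 := combine D
    (fun k f => Fact (D.map f) ι₀ (mulMor ι₀) ∧ Fact (D.map f) ι₀ (η[G₀]))
    (fun e f h => ⟨fact_le D e f _ _ h.1, fact_le D e f _ _ h.2⟩) ι₀ (invMor ι₀) D12 D3
  refine ⟨?_, ?_⟩
  · obtain ⟨i, f, ⟨h1, h2⟩, h3⟩ := D123
    obtain ⟨g, hg⟩ := exists_grp_of_fact (D.map f) ι₀ h1 h2 h3
    exact ⟨i, f, g, hg⟩
  · rintro ⟨grp', hmon', hnorm⟩
    have F4 := (fact_conj_iff (c.π.app i₀) ι₀ grp').mp hnorm
    have D4 := fact_descend D c hc i₀ _ _ _ ι₀ (conjMor' ι₀) F4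
    have D1234 := combine D
      (fun k f => (Fact (D.map f) ι₀ (mulMor ι₀) ∧ Fact (D.map f) ι₀ (η[G₀])) ∧
        Fact (D.map f) ι₀ (invMor ι₀))
      (fun e f h => ⟨⟨fact_le D e f _ _ h.1.1, fact_le D e f _ _ h.1.2⟩, fact_le D e f _ _ h.2⟩)
      ι₀ (conjMor' ι₀) D123 D4
    obtain ⟨i, f, ⟨⟨h1, h2⟩, h3⟩, h4⟩ := D1234
    obtain ⟨g, hg⟩ := exists_grp_of_fact (D.map f) ι₀ h1 h2 h3
    exact ⟨i, f, g, hg, (fact_conj_iff (D.map f) ι₀ g).mpr h4⟩

end Main

end H3GrpLim
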