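import Mathlib
import Groth.Prelude.Def_Red
import Groth.Agent.Lib.Helper3.GrpLimHom
import Groth.Agent.Lib.Helper3.GrpLimNormal
import Groth.Agent.Lib.Helper3.GrpLimSub
import Groth.Agent.S0591
/-! helper3: a finitely presented group scheme over a cofiltered limit of qcqs schemes with affine
transition maps descends, as a group scheme, to a finite stage (S6085). The scheme is descended by
`S0591`; multiplication, unit and inverse are descended one after the other with `H3GrpLim.full`,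
and the group axioms are descended with `H3GrpLim.faithful_flat`. -/

set_option autoImplicit false
set_option linter.unusedSectionVars false
set_option linter.style.haveILetI false
universe u

open CategoryTheory CategoryTheory.Limits AlgebraicGeometry
open MonoidalCategory CartesianMonoidalCategory MonObj GrpObj

namespace H3GrpLim

section GenPre

variable {C D : Type*} [Category C] [Category D] [CartesianMonoidalCategory C]
  [CartesianMonoidalCategory D] (F : C ⥤ D) [F.Monoidal] {M : C}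
  (m : M ⊗ M ⟶ M) (e : 𝟙_ C ⟶ M) (k : M ⟶ M)

/-- image of a multiplication under a monoidal functor -/
def Fm : F.obj M ⊗ F.obj M ⟶ F.obj M := Functor.LaxMonoidal.μ F M M ≫ F.map m
/-- image of a unit under a monoidal functor -/
def Fe : 𝟙_ D ⟶ F.obj M := Functor.LaxMonoidal.ε F ≫ F.map e

lemma br_one_mul_L : Fe F e ▷ F.obj M ≫ Fm F m =
    (Functor.LaxMonoidal.ε F ▷ F.obj M ≫ Functor.LaxMonoidal.μ F (𝟙_ C) M) ≫
      F.map (e ▷ M ≫ m) := by
  simp only [Fe, Fm, comp_whiskerRight, Category.assoc, Functor.map_comp,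
    Functor.LaxMonoidal.μ_natural_left_assoc]

lemma br_one_mul_R : (λ_ (F.obj M)).hom =
    (Functor.LaxMonoidal.ε F ▷ F.obj M ≫ Functor.LaxMonoidal.μ F (𝟙_ C) M) ≫
      F.map (λ_ M).hom := by
  rw [Category.assoc]
  exact Functor.LaxMonoidal.left_unitality F M

lemma br_mul_one_L : F.obj M ◁ Fe F e ≫ Fm F m =
    (F.obj M ◁ Functor.LaxMonoidal.ε F ≫ Functor.LaxMonoidal.μ F M (𝟙_ C)) ≫
      F.map (M ◁ e ≫ m) := by
  simp only [Fe, Fm, MonoidalCategory.whiskerLeft_comp, Category.assoc, Functor.map_comp,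
    Functor.LaxMonoidal.μ_natural_right_assoc]

lemma br_mul_one_R : (ρ_ (F.obj M)).hom =
    (F.obj M ◁ Functor.LaxMonoidal.ε F ≫ Functor.LaxMonoidal.μ F M (𝟙_ C)) ≫
      F.map (ρ_ M).hom := by
  rw [Category.assoc]
  exact Functor.LaxMonoidal.right_unitality F M

lemma br_assoc_L : Fm F m ▷ F.obj M ≫ Fm F m =
    (Functor.LaxMonoidal.μ F M M ▷ F.obj M ≫ Functor.LaxMonoidal.μ F (M ⊗ M) M) ≫
      F.map (m ▷ M ≫ m) := by
  simp only [Fm, comp_whiskerRight, Category.assoc, Functor.map_comp,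
    Functor.LaxMonoidal.μ_natural_left_assoc]

lemma br_assoc_R : (α_ (F.obj M) (F.obj M) (F.obj M)).hom ≫ F.obj M ◁ Fm F m ≫ Fm F m =
    (Functor.LaxMonoidal.μ F M M ▷ F.obj M ≫ Functor.LaxMonoidal.μ F (M ⊗ M) M) ≫
      F.map ((α_ M M M).hom ≫ M ◁ m ≫ m) := by
  simp only [Fm, MonoidalCategory.whiskerLeft_comp, Category.assoc, Functor.map_comp,
    Functor.LaxMonoidal.μ_natural_right_assoc]
  rw [Functor.LaxMonoidal.associativity_assoc]

lemma br_linv_L : lift (F.map k) (𝟙 (F.obj M)) ≫ Fm F m = F.map (lift k (𝟙 M) ≫ m) := by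
  rw [Fm, ← F.map_id, Functor.Monoidal.lift_μ_assoc, ← F.map_comp]

lemma br_rinv_L : lift (𝟙 (F.obj M)) (F.map k) ≫ Fm F m = F.map (lift (𝟙 M) k ≫ m) := by
  rw [Fm, ← F.map_id, Functor.Monoidal.lift_μ_assoc, ← F.map_comp]

lemma br_inv_R : toUnit (F.obj M) ≫ Fe F e = F.map (toUnit M ≫ e) := by
  rw [Fe, Functor.Monoidal.toUnit_ε_assoc, ← F.map_comp]

/-- the group axioms for `(m, e, k)` hold after applying `F` -/
structure Ax : Prop where
  one_mul : F.map (e ▷ M ≫ m) = F.map (λ_ M).hom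
  mul_one : F.map (M ◁ e ≫ m) = F.map (ρ_ M).hom
  assoc : F.map (m ▷ M ≫ m) = F.map ((α_ M M M).hom ≫ M ◁ m ≫ m)
  left_inv : F.map (lift k (𝟙 M) ≫ m) = F.map (toUnit M ≫ e)
  right_inv : F.map (lift (𝟙 M) k ≫ m) = F.map (toUnit M ≫ e)

/-- if the group axioms hold after applying `F`, the images of the operations make `F.obj M` a
group object -/
@[reducible] def grpObjOfAx (h : Ax F m e k) : GrpObj (F.obj M) where
  one := Fe F e
  mul := Fm F m
  one_mul := by rw [br_one_mul_L, h.one_mul, ← br_one_mul_R]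
  mul_one := by rw [br_mul_one_L, h.mul_one, ← br_mul_one_R]
  mul_assoc := by rw [br_assoc_L, h.assoc, ← br_assoc_R]
  inv := F.map k
  left_inv := by rw [br_linv_L, h.left_inv, ← br_inv_R]
  right_inv := by rw [br_rinv_L, h.right_inv, ← br_inv_R]

lemma ax_of_grp [inst : GrpObj (F.obj M)] (hm : μ[F.obj M] = Fm F m) (he : η[F.obj M] = Fe F e)
    (hk : ι[F.obj M] = F.map k) : Ax F m e k where
  one_mul := by
    rw [← cancel_epi (Functor.LaxMonoidal.ε F ▷ F.obj M ≫ Functor.LaxMonoidal.μ F (𝟙_ C) M),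
      ← br_one_mul_L, ← br_one_mul_R, ← he, ← hm]
    exact MonObj.one_mul (F.obj M)
  mul_one := by
    rw [← cancel_epi (F.obj M ◁ Functor.LaxMonoidal.ε F ≫ Functor.LaxMonoidal.μ F M (𝟙_ C)),
      ← br_mul_one_L, ← br_mul_one_R, ← he, ← hm]
    exact MonObj.mul_one (F.obj M)
  assoc := by
    rw [← cancel_epi (Functor.LaxMonoidal.μ F M M ▷ F.obj M ≫
      Functor.LaxMonoidal.μ F (M ⊗ M) M), ← br_assoc_L, ← br_assoc_R, ← hm]
    exact MonObj.mul_assoc (F.obj M)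
  left_inv := by
    rw [← br_linv_L, ← br_inv_R, ← hk, ← he, ← hm]
    exact GrpObj.left_inv (F.obj M)
  right_inv := by
    rw [← br_rinv_L, ← br_inv_R, ← hk, ← he, ← hm]
    exact GrpObj.right_inv (F.obj M)

variable {G : D} [GrpObj G] (ψ : G ≅ F.obj M)

/-- `ψ` is multiplicative for the image of `m` -/
def PMul : Prop := μ[G] ≫ ψ.hom = (ψ.hom ⊗ₘ ψ.hom) ≫ Fm F m
/-- `ψ` is unital for the image of `e` -/
def POne : Prop := η[G] ≫ ψ.hom = Fe F e
/-- `ψ` commutes with inverses for the image of `k` -/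
def PInv : Prop := ι[G] ≫ ψ.hom = ψ.hom ≫ F.map k

lemma ax_of_pre (hm : PMul F m ψ) (he : POne F e ψ) (hk : PInv F k ψ) : Ax F m e k := by
  unfold PMul at hm
  unfold POne at he
  unfold PInv at hk
  have h1 : Fm F m ≫ ψ.inv = mulMor ψ.inv := by
    rw [mulMor_eq]
    calc Fm F m ≫ ψ.inv = ((ψ.inv ⊗ₘ ψ.inv) ≫ (ψ.hom ⊗ₘ ψ.hom)) ≫ Fm F m ≫ ψ.inv := by simp
      _ = (ψ.inv ⊗ₘ ψ.inv) ≫ (μ[G] ≫ ψ.hom) ≫ ψ.inv := by
          rw [hm]; simp only [Category.assoc]
      _ = (ψ.inv ⊗ₘ ψ.inv) ≫ μ[G] := by simp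
  have h2 : Fe F e ≫ ψ.inv = η[G] := by rw [← he]; simp
  have h3 : F.map k ≫ ψ.inv = invMor ψ.inv := by
    show F.map k ≫ ψ.inv = ψ.inv ≫ ι[G]
    calc F.map k ≫ ψ.inv = ψ.inv ≫ (ψ.hom ≫ F.map k) ≫ ψ.inv := by simp
      _ = ψ.inv ≫ (ι[G] ≫ ψ.hom) ≫ ψ.inv := by rw [hk]
      _ = ψ.inv ≫ ι[G] := by simp
  letI inst : GrpObj (F.obj M) := grpObjOfFact ψ.inv (Fm F m) h1 (Fe F e) h2 (F.map k) h3
  exact ax_of_grp F m e k rfl rfl rfl

end GenPre

section GenComp

variable {C D E : Type*} [Category C] [Category D] [Category E]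
  [CartesianMonoidalCategory C] [CartesianMonoidalCategory D] [CartesianMonoidalCategory E]
  (H : C ⥤ E) (G : C ⥤ D) (F : D ⥤ E) [H.Monoidal] [G.Monoidal] [F.Monoidal] (τ : H ⟶ G ⋙ F)

lemma app_tensor (X Y : C) : Functor.LaxMonoidal.μ H X Y ≫ τ.app (X ⊗ Y) =
    (τ.app X ⊗ₘ τ.app Y) ≫ Functor.LaxMonoidal.μ F (G.obj X) (G.obj Y) ≫
      F.map (Functor.LaxMonoidal.μ G X Y) := by
  rw [NatTrans.IsMonoidal.tensor, Functor.LaxMonoidal.comp_μ]

lemma app_unit : Functor.LaxMonoidal.ε H ≫ τ.app (𝟙_ C) =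
    Functor.LaxMonoidal.ε F ≫ F.map (Functor.LaxMonoidal.ε G) := by
  rw [NatTrans.IsMonoidal.unit, Functor.LaxMonoidal.comp_ε]

lemma Fm_app {M : C} (m : M ⊗ M ⟶ M) :
    Fm H m ≫ τ.app M = (τ.app M ⊗ₘ τ.app M) ≫ Fm F (Fm G m) := by
  have hn : H.map m ≫ τ.app M = τ.app (M ⊗ M) ≫ F.map (G.map m) := τ.naturality m
  have ht := app_tensor H G F τ M M
  unfold Fm
  rw [Category.assoc, hn, ← Category.assoc, ht, F.map_comp]
  simp only [Category.assoc]

lemma Fe_app {M : C} (e : 𝟙_ C ⟶ M) : Fe H e ≫ τ.app M = Fe F (Fe G e) := by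
  have hn : H.map e ≫ τ.app M = τ.app (𝟙_ C) ≫ F.map (G.map e) := τ.naturality e
  have ht := app_unit H G F τ
  unfold Fe
  rw [Category.assoc, hn, ← Category.assoc, ht, F.map_comp]
  simp only [Category.assoc]

end GenComp

section OverPre

variable {S S' S'' : Scheme.{u}}

instance lfp_bc (a : S' ⟶ S) (X : Over S) [LocallyOfFinitePresentation X.hom] :
    LocallyOfFinitePresentation (Red.bc a X).hom :=
  (inferInstance : LocallyOfFinitePresentation (pullback.snd X.hom a))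

instance qc_bc (a : S' ⟶ S) (X : Over S) [QuasiCompact X.hom] : QuasiCompact (Red.bc a X).hom :=
  (inferInstance : QuasiCompact (pullback.snd X.hom a))

instance qs_bc (a : S' ⟶ S) (X : Over S) [QuasiSeparated X.hom] :
    QuasiSeparated (Red.bc a X).hom :=
  (inferInstance : QuasiSeparated (pullback.snd X.hom a))

instance qc_tensor (A B : Over S) [QuasiCompact A.hom] [QuasiCompact B.hom] :
    QuasiCompact (A ⊗ B).hom := by
  rw [Over.tensorObj_hom]
  exact (inferInstance : QuasiCompact (pullback.fst A.hom B.hom ≫ A.hom))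

instance qs_tensor (A B : Over S) [QuasiSeparated A.hom] [QuasiSeparated B.hom] :
    QuasiSeparated (A ⊗ B).hom := by
  rw [Over.tensorObj_hom]
  exact (inferInstance : QuasiSeparated (pullback.fst A.hom B.hom ≫ A.hom))

instance qc_unit : QuasiCompact (𝟙_ (Over S)).hom := by
  rw [Over.tensorUnit_hom]
  exact MorphismProperty.id_mem @QuasiCompact _

lemma compact_left [CompactSpace S] (P : Over S) [QuasiCompact P.hom] : CompactSpace P.left :=
  QuasiCompact.compactSpace_of_compactSpace P.hom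

lemma qsep_left [QuasiSeparatedSpace S] (P : Over S) [QuasiSeparated P.hom] :
    QuasiSeparatedSpace P.left :=
  quasiSeparatedSpace_of_quasiSeparated P.hom

variable (b : S'' ⟶ S') (a : S' ⟶ S) (d : S'' ⟶ S) (h : b ≫ a = d)

lemma alpha_inv_eq (X : Over S) :
    (alpha b a (b ≫ a) rfl X).inv = (Over.pullbackComp b a).hom.app X := by
  simp [alpha]

lemma alpha_Fm {X : Over S} (m : X ⊗ X ⟶ X) :
    Fm (Over.pullback d) m ≫ (alpha b a d h X).inv =
      ((alpha b a d h X).inv ⊗ₘ (alpha b a d h X).inv) ≫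
        Fm (Over.pullback b) (Fm (Over.pullback a) m) := by
  subst h
  rw [alpha_inv_eq]
  exact Fm_app (Over.pullback (b ≫ a)) (Over.pullback a) (Over.pullback b)
    (Over.pullbackComp b a).hom m

lemma alpha_Fe {X : Over S} (e : 𝟙_ (Over S) ⟶ X) :
    Fe (Over.pullback d) e ≫ (alpha b a d h X).inv =
      Fe (Over.pullback b) (Fe (Over.pullback a) e) := by
  subst h
  rw [alpha_inv_eq]
  exact Fe_app (Over.pullback (b ≫ a)) (Over.pullback a) (Over.pullback b)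
    (Over.pullbackComp b a).hom e

lemma alpha_tensor (X Y : Over S) :
    Functor.LaxMonoidal.μ (Over.pullback d) X Y ≫ (alpha b a d h (X ⊗ Y)).inv =
      ((alpha b a d h X).inv ⊗ₘ (alpha b a d h Y).inv) ≫
        Functor.LaxMonoidal.μ (Over.pullback b) (Red.bc a X) (Red.bc a Y) ≫
          (Over.pullback b).map (Functor.LaxMonoidal.μ (Over.pullback a) X Y) := by
  subst h
  rw [alpha_inv_eq, alpha_inv_eq, alpha_inv_eq]
  exact app_tensor (Over.pullback (b ≫ a)) (Over.pullback a) (Over.pullback b)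
    (Over.pullbackComp b a).hom X Y

lemma alpha_unit :
    Functor.LaxMonoidal.ε (Over.pullback d) ≫ (alpha b a d h (𝟙_ (Over S))).inv =
      Functor.LaxMonoidal.ε (Over.pullback b) ≫
        (Over.pullback b).map (Functor.LaxMonoidal.ε (Over.pullback a)) := by
  subst h
  rw [alpha_inv_eq]
  exact app_unit (Over.pullback (b ≫ a)) (Over.pullback a) (Over.pullback b)
    (Over.pullbackComp b a).hom

variable {G : Over S''} [GrpObj G] {X : Over S} {ψ : G ≅ Red.bc d X}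

lemma PMul.up {m : X ⊗ X ⟶ X} (hm : PMul (Over.pullback d) m ψ) :
    PMul (Over.pullback b) (Fm (Over.pullback a) m) (ψ ≪≫ (alpha b a d h X).symm) := by
  unfold PMul at hm
  show μ[G] ≫ ψ.hom ≫ (alpha b a d h X).inv =
    ((ψ.hom ≫ (alpha b a d h X).inv) ⊗ₘ (ψ.hom ≫ (alpha b a d h X).inv)) ≫
      Fm (Over.pullback b) (Fm (Over.pullback a) m)
  calc μ[G] ≫ ψ.hom ≫ (alpha b a d h X).inv
      = ((ψ.hom ⊗ₘ ψ.hom) ≫ Fm (Over.pullback d) m) ≫ (alpha b a d h X).inv := by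
        rw [← hm, Category.assoc]
    _ = (ψ.hom ⊗ₘ ψ.hom) ≫ ((alpha b a d h X).inv ⊗ₘ (alpha b a d h X).inv) ≫
          Fm (Over.pullback b) (Fm (Over.pullback a) m) := by
        rw [Category.assoc, alpha_Fm b a d h m]
    _ = _ := by rw [← Category.assoc, tensorHom_comp_tensorHom]

lemma POne.up {e : 𝟙_ (Over S) ⟶ X} (he : POne (Over.pullback d) e ψ) :
    POne (Over.pullback b) (Fe (Over.pullback a) e) (ψ ≪≫ (alpha b a d h X).symm) := by
  unfold POne at he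
  show η[G] ≫ ψ.hom ≫ (alpha b a d h X).inv = Fe (Over.pullback b) (Fe (Over.pullback a) e)
  rw [← Category.assoc, he, alpha_Fe b a d h e]

lemma PInv.up {k : X ⟶ X} (hk : PInv (Over.pullback d) k ψ) :
    PInv (Over.pullback b) ((Over.pullback a).map k) (ψ ≪≫ (alpha b a d h X).symm) := by
  unfold PInv at hk
  show ι[G] ≫ ψ.hom ≫ (alpha b a d h X).inv =
    (ψ.hom ≫ (alpha b a d h X).inv) ≫ (Over.pullback b).map ((Over.pullback a).map k)
  have hn : (Over.pullback d).map k ≫ (alpha b a d h X).inv =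
      (alpha b a d h X).inv ≫ (Over.pullback b).map ((Over.pullback a).map k) := by
    rw [conj_formula b a d h k]
    simp
  rw [← Category.assoc, hk, Category.assoc, hn, Category.assoc]

end OverPre

section EvSec

variable {I : Type u} [Category.{u} I] [IsCofiltered I]

/-- a property of stages over `i` holds eventually -/
def Ev (i : I) (p : ∀ i' : I, (i' ⟶ i) → Prop) : Prop :=
  ∃ (i' : I) (g : i' ⟶ i), ∀ (i'' : I) (e : i'' ⟶ i'), p i'' (e ≫ g)

lemma Ev.and {i : I} {p q : ∀ i' : I, (i' ⟶ i) → Prop} (hp : Ev i p) (hq : Ev i q) :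
    Ev i (fun i' g => p i' g ∧ q i' g) := by
  obtain ⟨i₁, g₁, h₁⟩ := hp
  obtain ⟨i₂, g₂, h₂⟩ := hq
  obtain ⟨i', a₁, a₂, ha⟩ := IsCofiltered.cospan g₁ g₂
  refine ⟨i', a₁ ≫ g₁, fun i'' e => ⟨?_, ?_⟩⟩
  · have := h₁ i'' (e ≫ a₁)
    rwa [Category.assoc] at this
  · have := h₂ i'' (e ≫ a₂)
    rw [Category.assoc, ← ha] at this
    exact this

lemma Ev.exists {i : I} {p : ∀ i' : I, (i' ⟶ i) → Prop} (hp : Ev i p) :
    ∃ (i' : I) (g : i' ⟶ i), p i' g := by
  obtain ⟨i', g, h⟩ := hp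
  exact ⟨i', 𝟙 i' ≫ g, h i' (𝟙 i')⟩

end EvSec

section LimD

variable {I : Type u} [Category.{u} I] [IsCofiltered I] (D : I ⥤ Scheme.{u}) (c : Cone D)
  (hc : IsLimit c) [∀ {i j : I} (f : i ⟶ j), IsAffineHom (D.map f)]

include hc in
lemma faithful_ev (i : I) {P Q : Over (D.obj i)} [CompactSpace P.left]
    [LocallyOfFiniteType Q.hom] (m₁ m₂ : P ⟶ Q)
    (h : (Over.pullback (c.π.app i)).map m₁ = (Over.pullback (c.π.app i)).map m₂) :
    Ev i (fun i' g => (Over.pullback (D.map g)).map m₁ = (Over.pullback (D.map g)).map m₂) := by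
  obtain ⟨i', g, hg⟩ := faithful_flat D c hc i m₁ m₂ h
  exact ⟨i', g, fun i'' e => map_eq_of_flat _ _ _ (flat_mono D e g m₁ m₂ hg)⟩

include hc in
theorem ax_descend (i : I) [CompactSpace (D.obj i)] (X : Over (D.obj i)) [QuasiCompact X.hom]
    [LocallyOfFiniteType X.hom] (m : X ⊗ X ⟶ X) (e : 𝟙_ (Over (D.obj i)) ⟶ X) (k : X ⟶ X)
    (h : Ax (Over.pullback (c.π.app i)) m e k) :
    ∃ (i' : I) (g : i' ⟶ i), Ax (Over.pullback (D.map g)) m e k := by
  haveI c1 : CompactSpace X.left := compact_left X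
  haveI c2 : CompactSpace (𝟙_ (Over (D.obj i)) ⊗ X).left := compact_left _
  haveI c3 : CompactSpace (X ⊗ 𝟙_ (Over (D.obj i))).left := compact_left _
  haveI c4 : CompactSpace ((X ⊗ X) ⊗ X).left := compact_left _
  have e1 := faithful_ev D c hc i _ _ h.one_mul
  have e2 := faithful_ev D c hc i _ _ h.mul_one
  have e3 := faithful_ev D c hc i _ _ h.assoc
  have e4 := faithful_ev D c hc i _ _ h.left_inv
  have e5 := faithful_ev D c hc i _ _ h.right_inv
  obtain ⟨i', g, h1, h2, h3, h4, h5⟩ := (e1.and (e2.and (e3.and (e4.and e5)))).exists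
  exact ⟨i', g, ⟨h1, h2, h3, h4, h5⟩⟩

variable (i : I) [CompactSpace (D.obj i)] [QuasiSeparatedSpace (D.obj i)] (X : Over (D.obj i))
  [LocallyOfFinitePresentation X.hom] [QuasiCompact X.hom] [QuasiSeparated X.hom]
  {G : Over c.pt} [GrpObj G] (ψ : G ≅ Red.bc (c.π.app i) X)

include hc in
theorem dsc_mul :
    ∃ (i' : I) (φ : i' ⟶ i) (m : Red.bc (D.map φ) X ⊗ Red.bc (D.map φ) X ⟶ Red.bc (D.map φ) X),
      PMul (Over.pullback (c.π.app i')) m
        (ψ ≪≫ (alpha (c.π.app i') (D.map φ) (c.π.app i) (c.w φ) X).symm) := by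
  haveI : CompactSpace (X ⊗ X).left := compact_left _
  haveI : QuasiSeparatedSpace (X ⊗ X).left := qsep_left _
  obtain ⟨i', φ, v, hv⟩ := full D c hc i (X ⊗ X) X
    (inv (Functor.LaxMonoidal.μ (Over.pullback (c.π.app i)) X X) ≫ (ψ.inv ⊗ₘ ψ.inv) ≫
      μ[G] ≫ ψ.hom)
  refine ⟨i', φ, Functor.LaxMonoidal.μ (Over.pullback (D.map φ)) X X ≫ v, ?_⟩
  have ht := alpha_tensor (c.π.app i') (D.map φ) (c.π.app i) (c.w φ) X X
  obtain ⟨αX, hαX⟩ : ∃ t : Red.bc (c.π.app i') (Red.bc (D.map φ) X) ≅ Red.bc (c.π.app i) X,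
      t = alpha (c.π.app i') (D.map φ) (c.π.app i) (c.w φ) X := ⟨_, rfl⟩
  obtain ⟨αXX, hαXX⟩ : ∃ t : Red.bc (c.π.app i') (Red.bc (D.map φ) (X ⊗ X)) ≅
      Red.bc (c.π.app i) (X ⊗ X),
      t = alpha (c.π.app i') (D.map φ) (c.π.app i) (c.w φ) (X ⊗ X) := ⟨_, rfl⟩
  rw [← hαX, ← hαXX] at ht hv
  rw [← hαX]
  have key : (αX.inv ⊗ₘ αX.inv) ≫
      Functor.LaxMonoidal.μ (Over.pullback (c.π.app i')) (Red.bc (D.map φ) X)
        (Red.bc (D.map φ) X) ≫
      (Over.pullback (c.π.app i')).map (Functor.LaxMonoidal.μ (Over.pullback (D.map φ)) X X) ≫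
      αXX.hom = Functor.LaxMonoidal.μ (Over.pullback (c.π.app i)) X X := by
    have := congrArg (fun t => t ≫ αXX.hom) ht
    simp only [Category.assoc, Iso.inv_hom_id, Category.comp_id] at this
    exact this.symm
  show μ[G] ≫ ψ.hom ≫ αX.inv = ((ψ.hom ≫ αX.inv) ⊗ₘ (ψ.hom ≫ αX.inv)) ≫
    Functor.LaxMonoidal.μ (Over.pullback (c.π.app i')) (Red.bc (D.map φ) X)
      (Red.bc (D.map φ) X) ≫
    (Over.pullback (c.π.app i')).map (Functor.LaxMonoidal.μ (Over.pullback (D.map φ)) X X ≫ v)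
  rw [Functor.map_comp, hv, ← tensorHom_comp_tensorHom]
  simp only [Category.assoc]
  rw [reassoc_of% key]
  simp

include hc in
theorem dsc_one :
    ∃ (i' : I) (φ : i' ⟶ i) (e : 𝟙_ (Over (D.obj i')) ⟶ Red.bc (D.map φ) X),
      POne (Over.pullback (c.π.app i')) e
        (ψ ≪≫ (alpha (c.π.app i') (D.map φ) (c.π.app i) (c.w φ) X).symm) := by
  haveI : CompactSpace (𝟙_ (Over (D.obj i))).left := (inferInstance : CompactSpace (D.obj i))
  haveI : QuasiSeparatedSpace (𝟙_ (Over (D.obj i))).left :=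
    (inferInstance : QuasiSeparatedSpace (D.obj i))
  obtain ⟨i', φ, v, hv⟩ := full D c hc i (𝟙_ (Over (D.obj i))) X
    (inv (Functor.LaxMonoidal.ε (Over.pullback (c.π.app i))) ≫ η[G] ≫ ψ.hom)
  refine ⟨i', φ, Functor.LaxMonoidal.ε (Over.pullback (D.map φ)) ≫ v, ?_⟩
  have ht := alpha_unit (c.π.app i') (D.map φ) (c.π.app i) (c.w φ)
  show η[G] ≫ ψ.hom ≫ (alpha (c.π.app i') (D.map φ) (c.π.app i) (c.w φ) X).inv =
    Functor.LaxMonoidal.ε (Over.pullback (c.π.app i')) ≫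
      (Over.pullback (c.π.app i')).map (Functor.LaxMonoidal.ε (Over.pullback (D.map φ)) ≫ v)
  rw [Functor.map_comp, hv, ← Category.assoc (Functor.LaxMonoidal.ε (Over.pullback (c.π.app i'))),
    ← ht]
  simp

include hc in
theorem dsc_inv :
    ∃ (i' : I) (φ : i' ⟶ i) (k : Red.bc (D.map φ) X ⟶ Red.bc (D.map φ) X),
      PInv (Over.pullback (c.π.app i')) k
        (ψ ≪≫ (alpha (c.π.app i') (D.map φ) (c.π.app i) (c.w φ) X).symm) := by
  haveI : CompactSpace X.left := compact_left _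
  haveI : QuasiSeparatedSpace X.left := qsep_left _
  obtain ⟨i', φ, v, hv⟩ := full D c hc i X X (ψ.inv ≫ ι[G] ≫ ψ.hom)
  refine ⟨i', φ, v, ?_⟩
  show ι[G] ≫ ψ.hom ≫ (alpha (c.π.app i') (D.map φ) (c.π.app i) (c.w φ) X).inv =
    (ψ.hom ≫ (alpha (c.π.app i') (D.map φ) (c.π.app i) (c.w φ) X).inv) ≫
      (Over.pullback (c.π.app i')).map v
  rw [hv]
  simp

end LimD

section LimMain

variable {I : Type u} [Category.{u} I] [IsCofiltered I] (D : I ⥤ Scheme.{u}) (c : Cone D)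
  (hc : IsLimit c) [∀ {i j : I} (f : i ⟶ j), IsAffineHom (D.map f)]
  [∀ i, CompactSpace (D.obj i)] [∀ i, QuasiSeparatedSpace (D.obj i)]
  {G : Over c.pt} [GrpObj G]

include hc in
theorem dsc_mul' (i : I) (X : Over (D.obj i))
    [LocallyOfFinitePresentation X.hom] [QuasiCompact X.hom] [QuasiSeparated X.hom]
    (ψ : G ≅ Red.bc (c.π.app i) X) :
    ∃ (i' : I) (X' : Over (D.obj i')) (_ : LocallyOfFinitePresentation X'.hom)
      (_ : QuasiCompact X'.hom) (_ : QuasiSeparated X'.hom) (ψ' : G ≅ Red.bc (c.π.app i') X')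
      (m : X' ⊗ X' ⟶ X'), PMul (Over.pullback (c.π.app i')) m ψ' := by
  obtain ⟨i', φ, m, hm⟩ := dsc_mul D c hc i X ψ
  exact ⟨i', Red.bc (D.map φ) X, inferInstance, inferInstance, inferInstance, _, m, hm⟩

include hc in
theorem dsc_one' (i : I) (X : Over (D.obj i))
    [LocallyOfFinitePresentation X.hom] [QuasiCompact X.hom] [QuasiSeparated X.hom]
    (ψ : G ≅ Red.bc (c.π.app i) X) (m : X ⊗ X ⟶ X)
    (hm : PMul (Over.pullback (c.π.app i)) m ψ) :
    ∃ (i' : I) (X' : Over (D.obj i')) (_ : LocallyOfFinitePresentation X'.hom)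
      (_ : QuasiCompact X'.hom) (_ : QuasiSeparated X'.hom) (ψ' : G ≅ Red.bc (c.π.app i') X')
      (m' : X' ⊗ X' ⟶ X') (e' : 𝟙_ (Over (D.obj i')) ⟶ X'),
      PMul (Over.pullback (c.π.app i')) m' ψ' ∧ POne (Over.pullback (c.π.app i')) e' ψ' := by
  obtain ⟨i', φ, e, he⟩ := dsc_one D c hc i X ψ
  exact ⟨i', Red.bc (D.map φ) X, inferInstance, inferInstance, inferInstance, _, _, e,
    PMul.up (c.π.app i') (D.map φ) (c.π.app i) (c.w φ) hm, he⟩

include hc in
theorem dsc_inv' (i : I) (X : Over (D.obj i))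
    [LocallyOfFinitePresentation X.hom] [QuasiCompact X.hom] [QuasiSeparated X.hom]
    (ψ : G ≅ Red.bc (c.π.app i) X) (m : X ⊗ X ⟶ X) (e : 𝟙_ (Over (D.obj i)) ⟶ X)
    (hm : PMul (Over.pullback (c.π.app i)) m ψ) (he : POne (Over.pullback (c.π.app i)) e ψ) :
    ∃ (i' : I) (X' : Over (D.obj i')) (_ : LocallyOfFinitePresentation X'.hom)
      (_ : QuasiCompact X'.hom) (_ : QuasiSeparated X'.hom) (ψ' : G ≅ Red.bc (c.π.app i') X')
      (m' : X' ⊗ X' ⟶ X') (e' : 𝟙_ (Over (D.obj i')) ⟶ X') (k' : X' ⟶ X'),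
      PMul (Over.pullback (c.π.app i')) m' ψ' ∧ POne (Over.pullback (c.π.app i')) e' ψ' ∧
        PInv (Over.pullback (c.π.app i')) k' ψ' := by
  obtain ⟨i', φ, k, hk⟩ := dsc_inv D c hc i X ψ
  exact ⟨i', Red.bc (D.map φ) X, inferInstance, inferInstance, inferInstance, _, _, _, k,
    PMul.up (c.π.app i') (D.map φ) (c.π.app i) (c.w φ) hm,
    POne.up (c.π.app i') (D.map φ) (c.π.app i) (c.w φ) he, hk⟩

include hc in
theorem main6085 (G : Over c.pt) [GrpObj G] [LocallyOfFinitePresentation G.hom]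
    [QuasiCompact G.hom] [QuasiSeparated G.hom] :
    ∃ (j : I) (Gj : Over (D.obj j)) (_ : GrpObj Gj) (e : G ≅ Red.bc (c.π.app j) Gj),
      IsMonHom e.hom ∧ LocallyOfFinitePresentation Gj.hom ∧ QuasiCompact Gj.hom ∧
        QuasiSeparated Gj.hom := by
  haveI : ∀ (i j : I) (f : i ⟶ j), IsAffineHom (D.map f) := fun _ _ f => inferInstance
  obtain ⟨i₀, X0, f0, g0, hfp, hqc, hqs, hpb⟩ := Groth.Agent.S0591.result D c hc G.left G.hom
  haveI := hfp
  haveI := hqc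
  haveI := hqs
  haveI : LocallyOfFinitePresentation (Over.mk f0).hom := hfp
  haveI : QuasiCompact (Over.mk f0).hom := hqc
  haveI : QuasiSeparated (Over.mk f0).hom := hqs
  obtain ⟨ψ₀⟩ : Nonempty (G ≅ Red.bc (c.π.app i₀) (Over.mk f0)) :=
    ⟨Over.isoMk hpb.isoPullback hpb.isoPullback_hom_snd⟩
  obtain ⟨i₁, X₁, _, _, _, ψ₁, m₁, hm₁⟩ := dsc_mul' D c hc i₀ (Over.mk f0) ψ₀
  obtain ⟨i₂, X₂, _, _, _, ψ₂, m₂, e₂, hm₂, he₂⟩ := dsc_one' D c hc i₁ X₁ ψ₁ m₁ hm₁
  obtain ⟨i₃, X₃, _, _, _, ψ₃, m₃, e₃, k₃, hm₃, he₃, hk₃⟩ :=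
    dsc_inv' D c hc i₂ X₂ ψ₂ m₂ e₂ hm₂ he₂
  have hax := ax_of_pre (Over.pullback (c.π.app i₃)) m₃ e₃ k₃ ψ₃ hm₃ he₃ hk₃
  obtain ⟨i₄, g₄, hax₄⟩ := ax_descend D c hc i₃ X₃ m₃ e₃ k₃ hax
  letI inst : GrpObj (Red.bc (D.map g₄) X₃) :=
    grpObjOfAx (Over.pullback (D.map g₄)) m₃ e₃ k₃ hax₄
  refine ⟨i₄, Red.bc (D.map g₄) X₃, inst,
    ψ₃ ≪≫ (alpha (c.π.app i₄) (D.map g₄) (c.π.app i₃) (c.w g₄) X₃).symm, ?_,
    inferInstance, inferInstance, inferInstance⟩
  exact
    { one_hom := POne.up (c.π.app i₄) (D.map g₄) (c.π.app i₃) (c.w g₄) he₃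
      mul_hom := PMul.up (c.π.app i₄) (D.map g₄) (c.π.app i₃) (c.w g₄) hm₃ }

end LimMain

end H3GrpLim
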