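import Mathlib
import Groth.Prelude.Def_Red
import Groth.Prelude.Def_AlgGrp
import Groth.Agent.Lib.Helper3.GrpLimDesc
import Groth.Agent.Lib.Helper7.LimHom
import Groth.Agent.S2075
import Groth.Agent.S2581
/-! helper3: being an fppf torsor (for base changes of finitely presented data over a stage of a
cofiltered limit) holds over the limit iff it holds over a finite stage (S6092). Uses descent of
isomorphisms (`iso_descend`, from `H3GrpLim.full` and `faithful_ev`), of flatness (`S2075`), of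
surjectivity (`S2581`) and of morphisms (Helper7 `LimHom`). -/

set_option autoImplicit false
set_option linter.unusedSectionVars false
set_option linter.style.haveILetI false
universe u

open CategoryTheory CategoryTheory.Limits AlgebraicGeometry
open MonoidalCategory CartesianMonoidalCategory MonObj GrpObj

namespace H3GrpLim

section GenTheta

variable {C D : Type*} [Category C] [Category D] [CartesianMonoidalCategory C]
  [CartesianMonoidalCategory D] (F : C ⥤ D) [F.Monoidal] {A X : C} (t : A ⊗ X ⟶ X)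

lemma theta_eq :
    lift (Functor.LaxMonoidal.μ F A X ≫ F.map t) (snd (F.obj A) (F.obj X)) ≫
      Functor.LaxMonoidal.μ F X X =
    Functor.LaxMonoidal.μ F A X ≫ F.map (lift t (snd A X)) := by
  have h1 : lift (Functor.LaxMonoidal.μ F A X ≫ F.map t) (snd (F.obj A) (F.obj X)) =
      Functor.LaxMonoidal.μ F A X ≫ lift (F.map t) (F.map (snd A X)) := by
    rw [comp_lift, Functor.Monoidal.μ_snd]
  rw [h1, Category.assoc, Functor.Monoidal.lift_μ]

lemma isIso_theta_iff :
    IsIso (lift (Functor.LaxMonoidal.μ F A X ≫ F.map t) (snd (F.obj A) (F.obj X))) ↔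
      IsIso (F.map (lift t (snd A X))) := by
  have h := theta_eq F t
  constructor
  · intro hI
    have h2 : F.map (lift t (snd A X)) = inv (Functor.LaxMonoidal.μ F A X) ≫
        lift (Functor.LaxMonoidal.μ F A X ≫ F.map t) (snd (F.obj A) (F.obj X)) ≫
          Functor.LaxMonoidal.μ F X X := by
      rw [h, IsIso.inv_hom_id_assoc]
    rw [h2]
    infer_instance
  · intro hI
    have h2 : lift (Functor.LaxMonoidal.μ F A X ≫ F.map t) (snd (F.obj A) (F.obj X)) =
        Functor.LaxMonoidal.μ F A X ≫ F.map (lift t (snd A X)) ≫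
          inv (Functor.LaxMonoidal.μ F X X) := by
      rw [← Category.assoc, ← h, Category.assoc, IsIso.hom_inv_id, Category.comp_id]
    rw [h2]
    infer_instance

end GenTheta

section OverT

variable {S : Scheme.{u}}

instance lfp_tensor (A B : Over S) [LocallyOfFinitePresentation A.hom]
    [LocallyOfFinitePresentation B.hom] : LocallyOfFinitePresentation (A ⊗ B).hom := by
  rw [Over.tensorObj_hom]
  exact (inferInstance : LocallyOfFinitePresentation (pullback.fst A.hom B.hom ≫ A.hom))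

end OverT

section LimT

open Groth.Agent.Helper7.LimBC

variable {I : Type u} [Category.{u} I] [IsCofiltered I] (D : I ⥤ Scheme.{u}) (c : Cone D)
  (hc : IsLimit c) [∀ {i j : I} (f : i ⟶ j), IsAffineHom (D.map f)]
  [∀ i, CompactSpace (D.obj i)] [∀ i, QuasiSeparatedSpace (D.obj i)]

include hc in
theorem iso_descend (j : I) {P Q : Over (D.obj j)}
    [LocallyOfFinitePresentation P.hom] [QuasiCompact P.hom] [QuasiSeparated P.hom]
    [LocallyOfFinitePresentation Q.hom] [QuasiCompact Q.hom] [QuasiSeparated Q.hom]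
    (Θ : P ⟶ Q) (h : IsIso ((Over.pullback (c.π.app j)).map Θ)) :
    ∃ (i : I) (f : i ⟶ j), ∀ (i' : I) (e : i' ⟶ i),
      IsIso ((Over.pullback (D.map (e ≫ f))).map Θ) := by
  haveI := h
  haveI : CompactSpace Q.left := compact_left Q
  haveI : QuasiSeparatedSpace Q.left := qsep_left Q
  obtain ⟨i₁, φ, v, hv⟩ := full D c hc j Q P (inv ((Over.pullback (c.π.app j)).map Θ))
  have hΘ := conj_formula' (c.π.app i₁) (D.map φ) (c.π.app j) (c.w φ) Θ
  have h1 : (Over.pullback (c.π.app i₁)).map ((Over.pullback (D.map φ)).map Θ ≫ v) =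
      (Over.pullback (c.π.app i₁)).map (𝟙 _) := by
    rw [Functor.map_comp, hv, hΘ, CategoryTheory.Functor.map_id]
    simp
  have h2 : (Over.pullback (c.π.app i₁)).map (v ≫ (Over.pullback (D.map φ)).map Θ) =
      (Over.pullback (c.π.app i₁)).map (𝟙 _) := by
    rw [Functor.map_comp, hv, hΘ, CategoryTheory.Functor.map_id]
    simp
  haveI : CompactSpace (Red.bc (D.map φ) P).left := compact_left _
  haveI : CompactSpace (Red.bc (D.map φ) Q).left := compact_left _
  have e1 := faithful_ev D c hc i₁ _ _ h1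
  have e2 := faithful_ev D c hc i₁ _ _ h2
  obtain ⟨i₂, g, hg⟩ := e1.and e2
  refine ⟨i₂, g ≫ φ, fun i' e => ?_⟩
  obtain ⟨k1, k2⟩ := hg i' e
  haveI : IsIso ((Over.pullback (D.map (e ≫ g))).map ((Over.pullback (D.map φ)).map Θ)) :=
    ⟨⟨(Over.pullback (D.map (e ≫ g))).map v, by rw [← Functor.map_comp, k1, CategoryTheory.Functor.map_id],
      by rw [← Functor.map_comp, k2, CategoryTheory.Functor.map_id]⟩⟩
  rw [conj_formula (D.map (e ≫ g)) (D.map φ) (D.map (e ≫ g ≫ φ))
    (by rw [← D.map_comp, Category.assoc]) Θ]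
  infer_instance

lemma stage_ev (P : MorphismProperty Scheme.{u}) [P.IsStableUnderBaseChange] [P.RespectsIso]
    {i₂ : I} {Z₂ : Scheme.{u}} (v₂ : Z₂ ⟶ D.obj i₂)
    (h : ∃ (i : I) (φ : i ⟶ i₂) (Xi Yi : Scheme.{u}) (fi : Xi ⟶ Yi) (gi : Yi ⟶ D.obj i)
      (pY : Yi ⟶ D.obj i₂) (pX : Xi ⟶ Z₂), IsPullback pY gi (𝟙 (D.obj i₂)) (D.map φ) ∧
        IsPullback pX fi v₂ pY ∧ P fi) :
    Ev i₂ (fun i' g => P (pullback.snd v₂ (D.map g))) := by
  obtain ⟨i, φ, Xi, Yi, fi, gi, pY, pX, hYi, hXi, hfi⟩ := h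
  haveI : IsIso gi := hYi.isIso_snd_of_isIso
  have hsq : IsPullback pX (fi ≫ gi) v₂ (D.map φ) := by
    have := hXi.paste_vert hYi
    rwa [Category.comp_id] at this
  have hP : P (fi ≫ gi) := (P.cancel_right_of_respectsIso fi gi).mpr hfi
  refine ⟨i, φ, fun i'' e => ?_⟩
  have hw : pullback.fst v₂ (D.map (e ≫ φ)) ≫ v₂ =
      (pullback.snd v₂ (D.map (e ≫ φ)) ≫ D.map e) ≫ D.map φ := by
    rw [pullback.condition, D.map_comp, Category.assoc]
  have hsq2 : IsPullback (hsq.lift _ _ hw) (pullback.snd v₂ (D.map (e ≫ φ))) (fi ≫ gi)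
      (D.map e) := by
    refine IsPullback.of_right ?_ (hsq.lift_snd _ _ hw) hsq
    rw [hsq.lift_fst, ← D.map_comp]
    exact IsPullback.of_hasPullback _ _
  exact P.of_isPullback hsq2 hP

variable (j : I) (A X : Over (D.obj j))
  [LocallyOfFinitePresentation A.hom] [QuasiCompact A.hom] [QuasiSeparated A.hom]
  [LocallyOfFinitePresentation X.hom] [QuasiCompact X.hom] [QuasiSeparated X.hom]
  (t : A ⊗ X ⟶ X)

include hc in
theorem torsor_mp
    (hiso : IsIso (lift (Functor.LaxMonoidal.μ (Over.pullback (c.π.app j)) A X ≫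
      (Over.pullback (c.π.app j)).map t) (snd (Red.bc (c.π.app j) A) (Red.bc (c.π.app j) X))))
    (Z : Scheme.{u}) (v : Z ⟶ c.pt) (w : Z ⟶ (Red.bc (c.π.app j) X).left)
    (hw : w ≫ (Red.bc (c.π.app j) X).hom = v)
    [Flat v] [Surjective v] [LocallyOfFinitePresentation v] [QuasiCompact v] [QuasiSeparated v] :
    ∃ (i : I) (f : i ⟶ j),
      IsIso (lift (Functor.LaxMonoidal.μ (Over.pullback (D.map f)) A X ≫
        (Over.pullback (D.map f)).map t) (snd (Red.bc (D.map f) A) (Red.bc (D.map f) X))) ∧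
      ∃ (Z : Scheme.{u}) (v : Z ⟶ (D.obj i)) (w : Z ⟶ (Red.bc (D.map f) X).left),
        w ≫ (Red.bc (D.map f) X).hom = v ∧ Flat v ∧ Surjective v ∧
          LocallyOfFinitePresentation v ∧ QuasiCompact v ∧ QuasiSeparated v := by
  haveI : ∀ (i j : I) (f : i ⟶ j), IsAffineHom (D.map f) := fun _ _ f => inferInstance
  have hiso' : IsIso ((Over.pullback (c.π.app j)).map (lift t (snd A X))) :=
    (isIso_theta_iff _ t).mp hiso
  obtain ⟨ia, fa, hfa⟩ := iso_descend D c hc j (lift t (snd A X)) hiso'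
  obtain ⟨i₁, Z₁, v₁, gZ, h1fp, h1qc, h1qs, hpb⟩ := Groth.Agent.S0591.result D c hc Z v
  haveI := h1fp
  haveI := h1qc
  haveI := h1qs
  obtain ⟨i₂, a, b, -⟩ : ∃ (i₂ : I) (a : i₂ ⟶ i₁) (b : i₂ ⟶ ia), True :=
    ⟨_, IsCofiltered.minToLeft i₁ ia, IsCofiltered.minToRight i₁ ia, trivial⟩
  have hZ₂ := isPullback_bcCone_π hpb (Over.mk a)
  obtain ⟨gZ₂, hgZ₂⟩ : ∃ g : Z ⟶ pullback v₁ (D.map a), g = (bcCone hpb).π.app (Over.mk a) :=
    ⟨_, rfl⟩
  obtain ⟨v₂, hv₂⟩ : ∃ v₂ : pullback v₁ (D.map a) ⟶ D.obj i₂, v₂ = pullback.snd v₁ (D.map a) :=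
    ⟨_, rfl⟩
  have hZ₂' : IsPullback gZ₂ v v₂ (c.π.app i₂) := by
    rw [hgZ₂, hv₂]
    exact hZ₂
  haveI : LocallyOfFinitePresentation v₂ := by rw [hv₂]; infer_instance
  haveI : QuasiCompact v₂ := by rw [hv₂]; infer_instance
  haveI : QuasiSeparated v₂ := by rw [hv₂]; infer_instance
  haveI : CompactSpace ↥(pullback v₁ (D.map a)) := QuasiCompact.compactSpace_of_compactSpace v₂
  haveI : QuasiSeparatedSpace ↥(pullback v₁ (D.map a)) :=
    quasiSeparatedSpace_of_quasiSeparated v₂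
  have hY : IsPullback (c.π.app i₂) (𝟙 c.pt) (𝟙 (D.obj i₂)) (c.π.app i₂) :=
    IsPullback.id_vert (c.π.app i₂)
  have efl := stage_ev D @Flat v₂
    (Groth.Agent.S2075.result D c hc i₂ v₂ (𝟙 _) v (𝟙 _) (c.π.app i₂) gZ₂ hY hZ₂')
  haveI : QuasiCompact (𝟙 (D.obj i₂)) := MorphismProperty.id_mem @QuasiCompact _
  haveI : QuasiSeparated (𝟙 (D.obj i₂)) := MorphismProperty.id_mem @QuasiSeparated _
  have esj := stage_ev D @Surjective v₂
    (Groth.Agent.S2581.result D c hc i₂ v₂ (𝟙 _) v (𝟙 _) (c.π.app i₂) gZ₂ hY hZ₂')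
  have hYX := isPullback_bcCone_π (IsPullback.of_hasPullback X.hom (c.π.app j))
    (Over.mk (b ≫ fa))
  obtain ⟨j', φ, fj, sX, sY, k1, -, -, -, -, -⟩ :=
    Groth.Agent.Helper7.LimHom.exists_hom_descend D c hc i₂ v₂
      (pullback.snd X.hom (D.map (b ≫ fa))) hZ₂' hYX w hw
  have ew : Ev i₂ (fun i' g => ∃ w' : pullback v₂ (D.map g) ⟶
      pullback X.hom (D.map (g ≫ b ≫ fa)),
      w' ≫ pullback.snd X.hom (D.map (g ≫ b ≫ fa)) = pullback.snd v₂ (D.map g)) := by
    refine ⟨j', φ, fun i'' e => ?_⟩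
    refine ⟨pullback.lift (stageMap D i₂ v₂ φ e ≫ fj ≫
      pullback.fst (pullback.snd X.hom (D.map (b ≫ fa))) (D.map φ) ≫
      pullback.fst X.hom (D.map (b ≫ fa))) (pullback.snd v₂ (D.map (e ≫ φ))) ?_,
      pullback.lift_snd _ _ _⟩
    have c1 : pullback.fst X.hom (D.map (b ≫ fa)) ≫ X.hom =
        pullback.snd X.hom (D.map (b ≫ fa)) ≫ D.map (b ≫ fa) := pullback.condition
    have c2 : pullback.fst (pullback.snd X.hom (D.map (b ≫ fa))) (D.map φ) ≫
        pullback.snd X.hom (D.map (b ≫ fa)) =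
        pullback.snd (pullback.snd X.hom (D.map (b ≫ fa))) (D.map φ) ≫ D.map φ :=
      pullback.condition
    have c3 := stageMap_snd D i₂ v₂ φ e
    simp only [Category.assoc]
    rw [c1, reassoc_of% c2, reassoc_of% k1, reassoc_of% c3]
    simp only [Functor.map_comp, Category.assoc]
  obtain ⟨i', g, hflg, hsjg, w', hw'⟩ := (efl.and (esj.and ew)).exists
  refine ⟨i', g ≫ b ≫ fa, ?_, pullback v₂ (D.map g), pullback.snd v₂ (D.map g), w', hw', hflg,
    hsjg, inferInstance, inferInstance, inferInstance⟩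
  apply (isIso_theta_iff _ t).mpr
  have := hfa i' (g ≫ b)
  rwa [Category.assoc] at this

include hc in
theorem torsor_mpr (i : I) (f : i ⟶ j)
    (hiso : IsIso (lift (Functor.LaxMonoidal.μ (Over.pullback (D.map f)) A X ≫
      (Over.pullback (D.map f)).map t) (snd (Red.bc (D.map f) A) (Red.bc (D.map f) X))))
    (Z : Scheme.{u}) (v : Z ⟶ D.obj i) (w : Z ⟶ (Red.bc (D.map f) X).left)
    (hw : w ≫ (Red.bc (D.map f) X).hom = v)
    [Flat v] [Surjective v] [LocallyOfFinitePresentation v] [QuasiCompact v] [QuasiSeparated v] :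
    IsIso (lift (Functor.LaxMonoidal.μ (Over.pullback (c.π.app j)) A X ≫
      (Over.pullback (c.π.app j)).map t) (snd (Red.bc (c.π.app j) A) (Red.bc (c.π.app j) X))) ∧
    ∃ (Z : Scheme.{u}) (v : Z ⟶ c.pt) (w : Z ⟶ (Red.bc (c.π.app j) X).left),
      w ≫ (Red.bc (c.π.app j) X).hom = v ∧ Flat v ∧ Surjective v ∧
        LocallyOfFinitePresentation v ∧ QuasiCompact v ∧ QuasiSeparated v := by
  constructor
  · apply (isIso_theta_iff _ t).mpr
    haveI h1 : IsIso ((Over.pullback (D.map f)).map (lift t (snd A X))) :=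
      (isIso_theta_iff _ t).mp hiso
    rw [conj_formula (c.π.app i) (D.map f) (c.π.app j) (c.w f) (lift t (snd A X))]
    infer_instance
  · have hw' : w ≫ pullback.snd X.hom (D.map f) = v := hw
    have c1 : pullback.fst X.hom (D.map f) ≫ X.hom = pullback.snd X.hom (D.map f) ≫ D.map f :=
      pullback.condition
    have c2 : pullback.fst v (c.π.app i) ≫ v = pullback.snd v (c.π.app i) ≫ c.π.app i :=
      pullback.condition
    have hcond : (pullback.fst v (c.π.app i) ≫ w ≫ pullback.fst X.hom (D.map f)) ≫ X.hom =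
        pullback.snd v (c.π.app i) ≫ c.π.app j := by
      simp only [Category.assoc]
      rw [c1, reassoc_of% hw', reassoc_of% c2, c.w]
    refine ⟨pullback v (c.π.app i), pullback.snd v (c.π.app i),
      pullback.lift _ _ hcond, pullback.lift_snd _ _ _, inferInstance, ?_, inferInstance,
      inferInstance, inferInstance⟩
    exact MorphismProperty.pullback_snd (P := @Surjective) _ _ inferInstance

include hc in
theorem torsor_limit :
    (IsIso (lift (Functor.LaxMonoidal.μ (Over.pullback (c.π.app j)) A X ≫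
      (Over.pullback (c.π.app j)).map t) (snd (Red.bc (c.π.app j) A) (Red.bc (c.π.app j) X))) ∧
      ∃ (Z : Scheme.{u}) (v : Z ⟶ c.pt) (w : Z ⟶ (Red.bc (c.π.app j) X).left),
        w ≫ (Red.bc (c.π.app j) X).hom = v ∧ Flat v ∧ Surjective v ∧
          LocallyOfFinitePresentation v ∧ QuasiCompact v ∧ QuasiSeparated v) ↔
    ∃ (i : I) (f : i ⟶ j),
      (IsIso (lift (Functor.LaxMonoidal.μ (Over.pullback (D.map f)) A X ≫
        (Over.pullback (D.map f)).map t) (snd (Red.bc (D.map f) A) (Red.bc (D.map f) X))) ∧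
      ∃ (Z : Scheme.{u}) (v : Z ⟶ (D.obj i)) (w : Z ⟶ (Red.bc (D.map f) X).left),
        w ≫ (Red.bc (D.map f) X).hom = v ∧ Flat v ∧ Surjective v ∧
          LocallyOfFinitePresentation v ∧ QuasiCompact v ∧ QuasiSeparated v) := by
  constructor
  · rintro ⟨hiso, Z, v, w, hw, hfl, hsj, hfp, hqc, hqs⟩
    haveI := hfl
    haveI := hsj
    haveI := hfp
    haveI := hqc
    haveI := hqs
    exact torsor_mp D c hc j A X t hiso Z v w hw
  · rintro ⟨i, f, hiso, Z, v, w, hw, hfl, hsj, hfp, hqc, hqs⟩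
    haveI := hfl
    haveI := hsj
    haveI := hfp
    haveI := hqc
    haveI := hqs
    exact torsor_mpr D c hc j A X t i f hiso Z v w hw

end LimT

end H3GrpLim
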