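import Mathlib

/-! Hilbert–Burch deformations, part 1: signed maximal minors, flatness lemmas (helper3). -/

set_option autoImplicit false
set_option linter.style.haveILetI false
set_option linter.unusedSectionVars false
universe u

open IsLocalRing

namespace Groth.Agent.Helper3.HBurch

section Minor

variable {S : Type*} [CommRing S] {r : ℕ}

/-- signed maximal minors of an `(r+1) × r` matrix -/
def minor (ψ : Matrix (Fin (r + 1)) (Fin r) S) (i : Fin (r + 1)) : S :=
  (-1 : S) ^ (i : ℕ) * (ψ.submatrix i.succAbove id).det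

theorem minor_map {T : Type*} [CommRing T] (g : S →+* T) (ψ : Matrix (Fin (r + 1)) (Fin r) S)
    (i : Fin (r + 1)) : minor (ψ.map g) i = g (minor ψ i) := by
  unfold minor
  rw [map_mul, map_pow, map_neg, map_one, RingHom.map_det, RingHom.mapMatrix_apply]
  rfl

theorem sum_minor_mul (ψ : Matrix (Fin (r + 1)) (Fin r) S) (j : Fin r) :
    ∑ i, minor ψ i * ψ i j = 0 := by
  let M : Matrix (Fin (r + 1)) (Fin (r + 1)) S :=
    Matrix.of fun i l => Fin.cases (ψ i j) (fun l' => ψ i l') l
  have hdet : M.det = 0 := by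
    apply Matrix.det_zero_of_column_eq (i := (0 : Fin (r + 1))) (j := j.succ)
      (Fin.succ_ne_zero j).symm
    intro k
    simp [M]
  rw [Matrix.det_succ_column_zero] at hdet
  rw [← hdet]
  apply Finset.sum_congr rfl
  intro i _
  have h1 : M i 0 = ψ i j := by simp [M]
  have h2 : M.submatrix i.succAbove Fin.succ = ψ.submatrix i.succAbove id := by
    ext a b; simp [M]
  rw [h1, h2]; unfold minor; ring

end Minor

section Span

theorem exists_of_mem_mul_span {R : Type*} [CommRing R] {ι : Type*} [Fintype ι] (K : Ideal R)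
    (f : ι → R) {x : R} (hx : x ∈ K * Ideal.span (Set.range f)) :
    ∃ ε : ι → R, (∀ i, ε i ∈ K) ∧ x = ∑ i, ε i * f i := by
  refine Submodule.mul_induction_on hx ?_ ?_
  · intro m hm n hn
    obtain ⟨c, rfl⟩ := (Ideal.mem_span_range_iff_exists_fun).mp hn
    refine ⟨fun i => m * c i, fun i => K.mul_mem_right _ hm, ?_⟩
    rw [Finset.mul_sum]; apply Finset.sum_congr rfl; intro i _; ring
  · rintro x y ⟨ε1, h1, rfl⟩ ⟨ε2, h2, rfl⟩
    refine ⟨fun i => ε1 i + ε2 i, fun i => K.add_mem (h1 i) (h2 i), ?_⟩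
    rw [← Finset.sum_add_distrib]; apply Finset.sum_congr rfl; intro i _; ring

end Span

section Flat

/-- If `S ⧸ N` is flat over `R` then `𝔞S ∩ N = 𝔞N`. -/
theorem inf_le_mul_of_flat (R S : Type*) [CommRing R] [CommRing S] [Algebra R S] (N : Ideal S)
    [Module.Flat R (S ⧸ N)] (𝔞 : Ideal R) :
    𝔞.map (algebraMap R S) ⊓ N ≤ 𝔞.map (algebraMap R S) * N := by
  rintro x ⟨hx1, hx2⟩
  have hx1' : x ∈ Submodule.span S ((algebraMap R S) '' (𝔞 : Set R)) := hx1
  obtain ⟨n, c, g, rfl⟩ := Submodule.mem_span_set'.mp hx1'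
  choose a ha hag using fun i => (g i).2
  have hrel : ∑ i, a i • (Ideal.Quotient.mk N (c i)) = 0 := by
    have h : ∀ i, a i • (Ideal.Quotient.mk N (c i)) = Ideal.Quotient.mk N (c i • (g i : S)) := by
      intro i
      rw [← hag i, smul_eq_mul, mul_comm, ← Algebra.smul_def]
      rfl
    rw [Finset.sum_congr rfl (fun i _ => h i), ← map_sum]
    exact Ideal.Quotient.eq_zero_iff_mem.mpr hx2
  obtain ⟨k, b, y, hy1, hy2⟩ := Module.Flat.isTrivialRelation_of_sum_smul_eq_zero (R := R)
    (M := S ⧸ N) (f := a) (x := fun i => Ideal.Quotient.mk N (c i)) hrel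
  choose y' hy' using fun j => Ideal.Quotient.mk_surjective (y j)
  have hy1' : ∀ i, Ideal.Quotient.mk N (c i) = ∑ j, b i j • y j := hy1
  have hn : ∀ i, c i - ∑ j, b i j • y' j ∈ N := by
    intro i
    rw [← Ideal.Quotient.eq_zero_iff_mem, map_sub, hy1' i, map_sum, sub_eq_zero]
    apply Finset.sum_congr rfl
    intro j _
    rw [← hy' j]
    rfl
  have hzero : ∑ i, algebraMap R S (a i) * ∑ j, b i j • y' j = 0 := by
    simp_rw [Finset.mul_sum, Algebra.smul_def]
    rw [Finset.sum_comm]
    apply Finset.sum_eq_zero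
    intro j _
    calc ∑ i, algebraMap R S (a i) * (algebraMap R S (b i j) * y' j)
        = algebraMap R S (∑ i, a i * b i j) * y' j := by
          rw [map_sum, Finset.sum_mul]; apply Finset.sum_congr rfl; intro i _; rw [map_mul]; ring
      _ = 0 := by rw [hy2 j, map_zero, zero_mul]
  have hx : ∑ i, c i • (g i : S) = ∑ i, algebraMap R S (a i) * (c i - ∑ j, b i j • y' j) := by
    have h : ∑ i, algebraMap R S (a i) * (c i - ∑ j, b i j • y' j) =
        ∑ i, algebraMap R S (a i) * c i - ∑ i, algebraMap R S (a i) * ∑ j, b i j • y' j := by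
      rw [← Finset.sum_sub_distrib]; apply Finset.sum_congr rfl; intro i _; ring
    rw [h, hzero, sub_zero]
    apply Finset.sum_congr rfl; intro i _
    rw [← hag i, smul_eq_mul, mul_comm]
  rw [hx]
  exact Ideal.sum_mem _ fun i _ => Ideal.mul_mem_mul (Ideal.mem_map_of_mem _ (ha i)) (hn i)

/-- a generating family of minimal cardinality in a local ring is independent modulo `m` -/
theorem exists_minimal_generators (C : Type*) [CommRing C] [IsLocalRing C] (J : Ideal C)
    (hfg : J.FG) :
    ∃ (n : ℕ) (t : Fin n → C), Ideal.span (Set.range t) = J ∧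
      ∀ c : Fin n → C, ∑ l, c l * t l = 0 → ∀ l, c l ∈ maximalIdeal C := by
  classical
  have hex : ∃ n : ℕ, ∃ t : Fin n → C, Ideal.span (Set.range t) = J := by
    obtain ⟨s, hs⟩ := hfg
    refine ⟨s.card, fun i => (s.equivFin.symm i : C), ?_⟩
    rw [← hs]
    congr 1
    ext x
    constructor
    · rintro ⟨i, rfl⟩; exact (s.equivFin.symm i).2
    · intro hx; exact ⟨s.equivFin ⟨x, hx⟩, by simp⟩
  obtain ⟨n, hn_spec, hn_min⟩ : ∃ n, (∃ t : Fin n → C, Ideal.span (Set.range t) = J) ∧
      ∀ m < n, ¬ ∃ t : Fin m → C, Ideal.span (Set.range t) = J :=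
    ⟨Nat.find hex, Nat.find_spec hex, fun m hm => Nat.find_min hex hm⟩
  obtain ⟨t, ht⟩ := hn_spec
  refine ⟨n, t, ht, ?_⟩
  intro c hc l0
  by_contra hl0
  have hu : IsUnit (c l0) := by
    by_contra h
    exact hl0 ((IsLocalRing.mem_maximalIdeal _).mpr h)
  cases n with
  | zero => exact l0.elim0
  | succ n' =>
    apply hn_min n' (Nat.lt_succ_self n')
    refine ⟨t ∘ l0.succAbove, ?_⟩
    apply le_antisymm
    · rw [← ht]
      apply Ideal.span_mono
      rintro _ ⟨i, rfl⟩
      exact ⟨l0.succAbove i, rfl⟩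
    · rw [← ht, Ideal.span_le]
      rintro _ ⟨l, rfl⟩
      by_cases hl : l = l0
      · subst hl
        obtain ⟨u, hu'⟩ := hu
        rw [Fin.sum_univ_succAbove _ l] at hc
        have h1 : t l = -(↑u⁻¹ * ∑ i, c (l.succAbove i) * t (l.succAbove i)) := by
          have h2 : c l * t l = -∑ i, c (l.succAbove i) * t (l.succAbove i) :=
            eq_neg_of_add_eq_zero_left hc
          rw [← hu'] at h2
          calc t l = ↑u⁻¹ * (↑u * t l) := by rw [← mul_assoc, Units.inv_mul, one_mul]
            _ = -(↑u⁻¹ * ∑ i, c (l.succAbove i) * t (l.succAbove i)) := by rw [h2]; ring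
        rw [h1]
        refine Ideal.neg_mem_iff _ |>.mpr (Ideal.mul_mem_left _ _ (Ideal.sum_mem _ fun i _ => ?_))
        exact Ideal.mul_mem_left _ _ (Ideal.subset_span ⟨i, rfl⟩)
      · obtain ⟨z, hz⟩ := Fin.exists_succAbove_eq hl
        exact Ideal.subset_span ⟨z, by simp [hz]⟩

theorem mem_map_of_sum_smul_eq_zero {C : Type*} [CommRing C] [IsLocalRing C] {A : Type*}
    [CommRing A] [Algebra C A] [Module.Flat C A] {n : ℕ} (t : Fin n → C)
    (hind : ∀ c : Fin n → C, ∑ l, c l * t l = 0 → ∀ l, c l ∈ maximalIdeal C)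
    (a : Fin n → A) (ha : ∑ l, t l • a l = 0) (l : Fin n) :
    a l ∈ (maximalIdeal C).map (algebraMap C A) := by
  obtain ⟨k, b, y, hy1, hy2⟩ := Module.Flat.isTrivialRelation_of_sum_smul_eq_zero (R := C)
    (M := A) (f := t) (x := a) ha
  rw [hy1 l]
  refine Ideal.sum_mem _ fun j _ => ?_
  rw [Algebra.smul_def]
  refine Ideal.mul_mem_right _ _ (Ideal.mem_map_of_mem _ ?_)
  refine hind (fun l => b l j) ?_ l
  rw [← hy2 j]
  apply Finset.sum_congr rfl
  intro i _
  ring

end Flat

section Height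

theorem height_comap_le_of_nilpotent_ker {R S : Type*} [CommRing R] [CommRing S] (f : R →+* S)
    (hf : Function.Surjective f) (hker : ∀ x ∈ RingHom.ker f, IsNilpotent x) (Q : Ideal S)
    [hQ : Q.IsPrime] : (Q.comap f).height ≤ Q.height := by
  have hle : ∀ P : PrimeSpectrum R, RingHom.ker f ≤ P.asIdeal := by
    intro P x hx
    obtain ⟨n, hn⟩ := hker x hx
    exact P.2.mem_of_pow_mem n (hn ▸ P.asIdeal.zero_mem)
  let g : PrimeSpectrum R → PrimeSpectrum S := fun P =>
    ⟨P.asIdeal.map f, Ideal.map_isPrime_of_surjective hf (hle P)⟩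
  have hcm : ∀ P : PrimeSpectrum R, (P.asIdeal.map f).comap f = P.asIdeal := by
    intro P
    rw [Ideal.comap_map_of_surjective f hf, sup_eq_left, ← RingHom.ker_eq_comap_bot]
    exact hle P
  have hmono : StrictMono g := by
    intro a b hab
    have h1 : a.asIdeal < b.asIdeal := hab
    have h2 : a.asIdeal.map f ≤ b.asIdeal.map f := Ideal.map_mono h1.le
    have h3 : a.asIdeal.map f ≠ b.asIdeal.map f := by
      intro h
      have := congrArg (Ideal.comap f) h
      rw [hcm a, hcm b] at this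
      exact h1.ne this
    have h3' : g a ≠ g b := fun h => h3 (congrArg PrimeSpectrum.asIdeal h)
    exact lt_of_le_of_ne (show g a ≤ g b from h2) h3'
  haveI : (Q.comap f).IsPrime := Ideal.comap_isPrime f Q
  have h1 := PrimeSpectrum.height_eq_orderHeight (⟨Q.comap f, inferInstance⟩ : PrimeSpectrum R)
  have h2 := PrimeSpectrum.height_eq_orderHeight (⟨Q, hQ⟩ : PrimeSpectrum S)
  change (Q.comap f).height = _ at h1
  change Q.height = _ at h2
  rw [h1, h2]
  have h3 := Order.height_le_height_apply_of_strictMono g hmono ⟨Q.comap f, inferInstance⟩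
  have h4 : g ⟨Q.comap f, inferInstance⟩ = ⟨Q, hQ⟩ := by
    apply PrimeSpectrum.ext
    exact Ideal.map_comap_of_surjective f hf Q
  rwa [h4] at h3

end Height

end Groth.Agent.Helper3.HBurch
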