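import Mathlib
import Groth.Agent.Lib.Helper3.HBurch1
import Groth.Agent.Lib.Helper8.RegularLocal
import Groth.Agent.Lib.Helper8.FlatReg5
import Groth.Agent.Lib.Lead.KoszCM1

/-! Hilbert–Burch deformations, part 2: a regular sequence of length two in an ideal of height
`≥ 2` of a regular ring, and exactness of the dual of the Hilbert–Burch complex (helper3). -/

set_option autoImplicit false
set_option linter.style.haveILetI false
set_option linter.unusedSectionVars false
universe u

open IsLocalRing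

namespace Groth.Agent.Helper3.HBurch

theorem exists_avoid {S : Type*} [CommRing S] (I : Ideal S) (T : Set (Ideal S)) (hT : T.Finite)
    (hprime : ∀ p ∈ T, p.IsPrime) (hI : ∀ p ∈ T, ¬ I ≤ p) : ∃ a ∈ I, ∀ p ∈ T, a ∉ p := by
  classical
  by_contra hcon
  have hcon' : ∀ a ∈ I, ∃ p ∈ T, a ∈ p := by
    intro a ha
    by_contra h
    exact hcon ⟨a, ha, fun p hp hap => h ⟨p, hp, hap⟩⟩
  have hsub : (I : Set S) ⊆ ⋃ p ∈ (↑hT.toFinset : Set (Ideal S)), ((id p : Ideal S) : Set S) := by
    intro a ha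
    obtain ⟨p, hp, hap⟩ := hcon' a ha
    simp only [Set.mem_iUnion]
    exact ⟨p, by simpa using hp, hap⟩
  obtain ⟨p, hp, hIp⟩ := (Ideal.subset_union_prime (f := id) ⊤ ⊤
    (fun p hp _ _ => hprime p (by simpa using hp))).mp hsub
  exact hI p (by simpa using hp) hIp

theorem exists_regular_pair (S : Type u) [CommRing S] [IsRegularRing S] (I : Ideal S)
    (hI : ∀ p : Ideal S, p.IsPrime → I ≤ p → (2 : ℕ∞) ≤ p.height) :
    ∃ a ∈ I, ∃ b ∈ I, (∀ x, a * x = 0 → x = 0) ∧ (∀ x y, b * x = a * y → ∃ z, x = a * z) := by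
  obtain ⟨a, haI, ha⟩ := exists_avoid I (minimalPrimes S)
    (minimalPrimes.finite_of_isNoetherianRing S) (fun p hp => hp.1.1) (fun p hp hIp => by
      haveI := hp.1.1
      have h2 := hI p hp.1.1 hIp
      rw [Ideal.height_eq_zero_iff.mpr hp] at h2
      exact absurd h2 (by norm_num))
  have hareg : ∀ x, a * x = 0 → x = 0 := by
    intro x hx
    apply eq_zero_of_localization
    intro 𝔫 h𝔫
    haveI := h𝔫.isPrime
    haveI : IsDomain (Localization.AtPrime 𝔫) := Groth.Agent.Helper8.RLR.isDomain _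
    have h0 : algebraMap S (Localization.AtPrime 𝔫) a *
        algebraMap S (Localization.AtPrime 𝔫) x = 0 := by
      rw [← map_mul, hx, map_zero]
    rcases mul_eq_zero.mp h0 with h | h
    · exfalso
      obtain ⟨⟨s, hs⟩, hsa⟩ := (IsLocalization.map_eq_zero_iff 𝔫.primeCompl _ a).mp h
      obtain ⟨p0, hp0, hp0le⟩ := Ideal.exists_minimalPrimes_le (bot_le : (⊥ : Ideal S) ≤ 𝔫)
      have hsa' : s * a ∈ p0 := by
        have : s * a = 0 := hsa
        rw [this]; exact p0.zero_mem
      rcases hp0.1.1.mem_or_mem hsa' with h1 | h1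
      · exact hs (hp0le h1)
      · exact ha p0 hp0 h1
    · exact h
  obtain ⟨b, hbI, hb⟩ := exists_avoid I (Ideal.span {a}).minimalPrimes
    (Ideal.finite_minimalPrimes_of_isNoetherianRing S _) (fun q hq => hq.1.1)
    (fun q hq hIq => by
      have h1 := Ideal.height_le_one_of_isPrincipal_of_mem_minimalPrimes (Ideal.span {a}) q hq
      have h2 := hI q hq.1.1 hIq
      exact absurd (h2.trans h1) (by norm_num))
  refine ⟨a, haI, b, hbI, hareg, ?_⟩
  intro x y hxy
  suffices hx : x ∈ Ideal.span {a} by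
    obtain ⟨z, hz⟩ := Ideal.mem_span_singleton'.mp hx
    exact ⟨z, by rw [← hz, mul_comm]⟩
  apply Ideal.mem_of_localization_maximal
  intro 𝔫 h𝔫
  haveI := h𝔫.isPrime
  obtain ⟨ι, hι⟩ : ∃ ι : S →+* Localization.AtPrime 𝔫, ι = algebraMap S (Localization.AtPrime 𝔫) :=
    ⟨_, rfl⟩
  rw [Ideal.map_span, Set.image_singleton, ← hι]
  have hrel : ι b * ι x = ι a * ι y := by rw [← map_mul, ← map_mul, hxy]
  by_cases htop : Ideal.ofList [ι a, ι b] = ⊤
  · have h1 : (1 : Localization.AtPrime 𝔫) ∈ Ideal.span {ι a} ⊔ Ideal.span {ι b} := by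
      have : Ideal.ofList [ι a, ι b] = Ideal.span {ι a} ⊔ Ideal.span {ι b} := by
        rw [Ideal.ofList_cons, Ideal.ofList_singleton]
      rw [← this, htop]; trivial
    obtain ⟨u, hu, w, hw, huw⟩ := Submodule.mem_sup.mp h1
    obtain ⟨α, rfl⟩ := Ideal.mem_span_singleton'.mp hu
    obtain ⟨β, rfl⟩ := Ideal.mem_span_singleton'.mp hw
    rw [Ideal.mem_span_singleton']
    refine ⟨α * ι x + β * ι y, ?_⟩
    calc (α * ι x + β * ι y) * ι a = ι x * (α * ι a) + β * (ι a * ι y) := by ring
      _ = ι x * (α * ι a) + β * (ι b * ι x) := by rw [hrel]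
      _ = ι x * (α * ι a + β * ι b) := by ring
      _ = ι x := by rw [huw, mul_one]
  · haveI : LocCoh.IsCohenMacaulayLocalRing (Localization.AtPrime 𝔫) :=
      Groth.Agent.Helper8.FlatReg.isCohenMacaulayLocalRing_of_isRegularLocalRing _
    have hht : (2 : ℕ∞) ≤ (Ideal.ofList [ι a, ι b]).height := by
      rw [Ideal.height_eq_inf_minimalPrimes]
      refine le_iInf₂ fun P' hP' => ?_
      haveI := hP'.1.1
      have hab : ι a ∈ P' ∧ ι b ∈ P' :=
        ⟨hP'.1.2 (Ideal.subset_span (by simp)), hP'.1.2 (Ideal.subset_span (by simp))⟩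
      rw [← IsLocalization.height_under 𝔫.primeCompl P']
      obtain ⟨P, hP⟩ : ∃ P : Ideal S, P = P'.under S := ⟨_, rfl⟩
      rw [← hP]
      haveI : P.IsPrime := by rw [hP]; exact Ideal.comap_isPrime _ _
      have haP : a ∈ P := by rw [hP, Ideal.under_def, Ideal.mem_comap, ← hι]; exact hab.1
      have hbP : b ∈ P := by rw [hP, Ideal.under_def, Ideal.mem_comap, ← hι]; exact hab.2
      obtain ⟨q, hq, hqP⟩ := Ideal.exists_minimalPrimes_le
        (show Ideal.span {a} ≤ P from (Ideal.span_singleton_le_iff_mem _).mpr haP)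
      haveI := hq.1.1
      have haq : a ∈ q := hq.1.2 (Ideal.mem_span_singleton_self a)
      have hqltP : q < P := lt_of_le_of_ne hqP (fun h => hb q hq (h ▸ hbP))
      obtain ⟨q0, hq0, hq0q⟩ := Ideal.exists_minimalPrimes_le (bot_le : (⊥ : Ideal S) ≤ q)
      haveI := hq0.1.1
      have hq0ltq : q0 < q := lt_of_le_of_ne hq0q (fun h => ha q0 hq0 (h ▸ haq))
      have e1 := Ideal.height_add_one_le_of_lt_of_isPrime hq0ltq
      have e2 := Ideal.height_add_one_le_of_lt_of_isPrime hqltP
      calc (2 : ℕ∞) = 0 + 1 + 1 := by norm_num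
        _ ≤ q0.height + 1 + 1 := by gcongr; simp
        _ ≤ q.height + 1 := by gcongr
        _ ≤ P.height := e2
    have hht' : (([ι a, ι b] : List (Localization.AtPrime 𝔫)).length : ℕ∞) ≤
        (Ideal.ofList [ι a, ι b]).height := by simpa using hht
    have hreg := Groth.Agent.Lead.KoszCM.isRegular_of_height_ge (Localization.AtPrime 𝔫)
      [ι a, ι b] htop hht'
    have hw := hreg.toIsWeaklyRegular
    rw [RingTheory.Sequence.isWeaklyRegular_cons_iff,
      RingTheory.Sequence.isWeaklyRegular_cons_iff] at hw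
    have hsm : IsSMulRegular (QuotSMulTop (ι a) (Localization.AtPrime 𝔫)) (ι b) := hw.2.1
    have h0 : (ι b) • (Submodule.Quotient.mk (ι x) : QuotSMulTop (ι a) (Localization.AtPrime 𝔫)) =
        (ι b) • 0 := by
      rw [smul_zero, ← Submodule.Quotient.mk_smul, Submodule.Quotient.mk_eq_zero, smul_eq_mul,
        hrel]
      exact Submodule.smul_mem_pointwise_smul _ _ _ Submodule.mem_top
    have h1 := hsm h0
    rw [Submodule.Quotient.mk_eq_zero] at h1
    obtain ⟨z, -, hz⟩ := (Submodule.mem_smul_pointwise_iff_exists _ _ _).mp h1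
    rw [Ideal.mem_span_singleton']
    exact ⟨z, by rw [← hz, smul_eq_mul, mul_comm]⟩

theorem dual_exact (S : Type u) [CommRing S] [IsRegularRing S] {r : ℕ}
    (φ0 : Matrix (Fin (r + 1)) (Fin r) S)
    (hmid : ∀ c : Fin (r + 1) → S, ∑ i, c i * minor φ0 i = 0 →
      ∃ w : Fin r → S, ∀ i, c i = ∑ j, φ0 i j * w j)
    (hht : ∀ p : Ideal S, p.IsPrime → Ideal.span (Set.range (minor φ0)) ≤ p →
      (2 : ℕ∞) ≤ p.height)
    (v : Fin (r + 1) → S) (hv : ∀ j, ∑ i, v i * φ0 i j = 0) :
    ∃ u, ∀ i, v i = u * minor φ0 i := by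
  obtain ⟨a, haI, b, hbI, hareg, hbreg⟩ := exists_regular_pair S _ hht
  obtain ⟨α, hα⟩ := Ideal.mem_span_range_iff_exists_fun.mp haI
  obtain ⟨β, hβ⟩ := Ideal.mem_span_range_iff_exists_fun.mp hbI
  have K : ∀ c : Fin (r + 1) → S, ∑ i, c i * minor φ0 i = 0 → ∑ i, c i * v i = 0 := by
    intro c hc
    obtain ⟨w, hw⟩ := hmid c hc
    calc ∑ i, c i * v i = ∑ i, (∑ j, φ0 i j * w j) * v i :=
          Finset.sum_congr rfl fun i _ => by rw [hw i]
      _ = ∑ j, w j * ∑ i, v i * φ0 i j := by
          simp_rw [Finset.sum_mul, Finset.mul_sum]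
          rw [Finset.sum_comm]
          apply Finset.sum_congr rfl; intro j _
          apply Finset.sum_congr rfl; intro i _; ring
      _ = 0 := by simp [hv]
  obtain ⟨va, hva⟩ : ∃ va, va = ∑ i, α i * v i := ⟨_, rfl⟩
  obtain ⟨vb, hvb⟩ : ∃ vb, vb = ∑ i, β i * v i := ⟨_, rfl⟩
  have h1 : b * va = a * vb := by
    have h := K (fun i => b * α i - a * β i) (by
      calc ∑ i, (b * α i - a * β i) * minor φ0 i
          = b * ∑ i, α i * minor φ0 i - a * ∑ i, β i * minor φ0 i := by
            rw [Finset.mul_sum, Finset.mul_sum, ← Finset.sum_sub_distrib]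
            apply Finset.sum_congr rfl; intro i _; ring
        _ = 0 := by rw [hα, hβ]; ring)
    have h' : ∑ i, (b * α i - a * β i) * v i = b * va - a * vb := by
      rw [hva, hvb, Finset.mul_sum, Finset.mul_sum, ← Finset.sum_sub_distrib]
      apply Finset.sum_congr rfl; intro i _; ring
    rw [h'] at h
    exact sub_eq_zero.mp h
  have h2 : ∀ i, minor φ0 i * va = a * v i := by
    intro i
    have hsingle : ∀ g : Fin (r + 1) → S,
        ∑ l, (Pi.single i a : Fin (r + 1) → S) l * g l = a * g i := by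
      intro g
      rw [Finset.sum_eq_single i]
      · rw [Pi.single_eq_same]
      · intro l _ hl; rw [Pi.single_eq_of_ne hl, zero_mul]
      · intro h; exact absurd (Finset.mem_univ i) h
    have h := K (fun l => minor φ0 i * α l - (Pi.single i a : Fin (r + 1) → S) l) (by
      calc ∑ l, (minor φ0 i * α l - (Pi.single i a : Fin (r + 1) → S) l) * minor φ0 l
          = minor φ0 i * ∑ l, α l * minor φ0 l -
              ∑ l, (Pi.single i a : Fin (r + 1) → S) l * minor φ0 l := by
            rw [Finset.mul_sum, ← Finset.sum_sub_distrib]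
            apply Finset.sum_congr rfl; intro l _; ring
        _ = 0 := by rw [hα, hsingle]; ring)
    have h' : ∑ l, (minor φ0 i * α l - (Pi.single i a : Fin (r + 1) → S) l) * v l =
        minor φ0 i * va - a * v i := by
      rw [hva, ← hsingle v, Finset.mul_sum, ← Finset.sum_sub_distrib]
      apply Finset.sum_congr rfl; intro l _; ring
    rw [h'] at h
    exact sub_eq_zero.mp h
  obtain ⟨u, hu⟩ := hbreg va vb h1
  refine ⟨u, fun i => ?_⟩
  have : a * (v i - u * minor φ0 i) = 0 := by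
    rw [mul_sub, ← h2 i, hu]; ring
  exact sub_eq_zero.mp (hareg _ this)

end Groth.Agent.Helper3.HBurch
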