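import Mathlib
import Groth.Agent.Lib.Helper3.HBurch2

/-! Hilbert–Burch deformations, part 3: lifting the matrix along a small extension (helper3). -/

set_option autoImplicit false
set_option linter.style.haveILetI false
set_option linter.unusedSectionVars false
universe u

open IsLocalRing

namespace Groth.Agent.Helper3.HBurch

/-- exactness in the middle descends to the special fibre -/
theorem hmid_descend {A A0 : Type*} [CommRing A] [CommRing A0] (ρ : A →+* A0)
    (hρ : Function.Surjective ρ) {r : ℕ} (φ : Matrix (Fin (r + 1)) (Fin r) A)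
    (hmid : ∀ c : Fin (r + 1) → A, ∑ i, c i * minor φ i = 0 →
      ∃ w : Fin r → A, ∀ i, c i = ∑ j, φ i j * w j)
    (hF2 : Ideal.span (Set.range (minor φ)) ⊓ RingHom.ker ρ ≤
      RingHom.ker ρ * Ideal.span (Set.range (minor φ)))
    (c0 : Fin (r + 1) → A0) (hc0 : ∑ i, c0 i * minor (φ.map ρ) i = 0) :
    ∃ w0 : Fin r → A0, ∀ i, c0 i = ∑ j, (φ.map ρ) i j * w0 j := by
  choose c hc using fun i => hρ (c0 i)
  have hz : ∑ i, c i * minor φ i ∈ Ideal.span (Set.range (minor φ)) ⊓ RingHom.ker ρ := by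
    refine ⟨Ideal.sum_mem _ fun i _ => Ideal.mul_mem_left _ _ (Ideal.subset_span ⟨i, rfl⟩),
      RingHom.mem_ker.mpr ?_⟩
    rw [map_sum, ← hc0]
    apply Finset.sum_congr rfl
    intro i _
    rw [map_mul, hc, minor_map]
  obtain ⟨μ, hμ, hμz⟩ := exists_of_mem_mul_span _ _ (hF2 hz)
  obtain ⟨w, hw⟩ := hmid (fun i => c i - μ i) (by
    calc ∑ i, (c i - μ i) * minor φ i = ∑ i, c i * minor φ i - ∑ i, μ i * minor φ i := by
          rw [← Finset.sum_sub_distrib]; apply Finset.sum_congr rfl; intro i _; ring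
      _ = 0 := by rw [hμz, sub_self])
  refine ⟨fun j => ρ (w j), fun i => ?_⟩
  have h1 := congrArg ρ (hw i)
  rw [map_sub, hc, RingHom.mem_ker.mp (hμ i), sub_zero, map_sum] at h1
  rw [h1]
  apply Finset.sum_congr rfl
  intro j _
  rw [map_mul]; rfl

theorem hb_core (C' : Type u) [CommRing C'] [IsLocalRing C'] [IsNoetherianRing C'] (J : Ideal C')
    (hJ : maximalIdeal C' * J = ⊥) (hJne : J ≠ ⊤)
    (A' : Type u) [CommRing A'] [Algebra C' A'] [Module.Flat C' A']
    (A : Type u) [CommRing A] (π : A' →+* A) (hπ : Function.Surjective π)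
    (hkπ : RingHom.ker π = J.map (algebraMap C' A'))
    (A0 : Type u) [CommRing A0] [IsRegularRing A0] (ρ : A →+* A0) (hρ : Function.Surjective ρ)
    (hkρ : RingHom.ker (ρ.comp π) = (maximalIdeal C').map (algebraMap C' A'))
    (r : ℕ) (φ : Matrix (Fin (r + 1)) (Fin r) A)
    (hmid : ∀ c : Fin (r + 1) → A, ∑ i, c i * minor φ i = 0 →
      ∃ w : Fin r → A, ∀ i, c i = ∑ j, φ i j * w j)
    (hF2 : Ideal.span (Set.range (minor φ)) ⊓ RingHom.ker ρ ≤
      RingHom.ker ρ * Ideal.span (Set.range (minor φ)))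
    (hcodim : ∀ p : Ideal A0, p.IsPrime →
      Ideal.span (Set.range (fun i => ρ (minor φ i))) ≤ p → (2 : ℕ∞) ≤ p.height)
    (I' : Ideal A') (hF1 : I' ⊓ RingHom.ker π ≤ RingHom.ker π * I')
    (hI' : I'.map π = Ideal.span (Set.range (minor φ))) :
    ∃ φ' : Matrix (Fin (r + 1)) (Fin r) A', φ'.map π = φ ∧
      I' = Ideal.span (Set.range (minor φ')) := by
  classical
  obtain ⟨K, hK⟩ : ∃ K : Ideal A', K = RingHom.ker π := ⟨_, rfl⟩
  obtain ⟨N, hN⟩ : ∃ N : Ideal A', N = RingHom.ker (ρ.comp π) := ⟨_, rfl⟩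
  rw [← hK] at hkπ hF1
  rw [← hN] at hkρ
  have hJm : J ≤ maximalIdeal C' := IsLocalRing.le_maximalIdeal hJne
  have hKN : K ≤ N := by rw [hkπ, hkρ]; exact Ideal.map_mono hJm
  have hNK : N * K = ⊥ := by rw [hkπ, hkρ, ← Ideal.map_mul, hJ, Ideal.map_bot]
  have hKK : K * K = ⊥ := by
    apply le_bot_iff.mp
    rw [← hNK]
    exact Ideal.mul_mono_left hKN
  have hNK0 : ∀ x ∈ N, ∀ y ∈ K, x * y = 0 := fun x hx y hy => by
    have := Ideal.mul_mem_mul hx hy
    rwa [hNK, Ideal.mem_bot] at this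
  have hKK0 : ∀ x ∈ K, ∀ y ∈ K, x * y = 0 := fun x hx y hy => hNK0 x (hKN hx) y hy
  have hKmem : ∀ x, x ∈ K ↔ π x = 0 := fun x => by rw [hK, RingHom.mem_ker]
  have hNmem : ∀ x, x ∈ N ↔ ρ (π x) = 0 := fun x => by rw [hN, RingHom.mem_ker]; rfl
  -- Step 1: lift the minors into `I'`
  have hfmem : ∀ i, minor φ i ∈ I'.map π := fun i => by
    rw [hI']; exact Ideal.subset_span ⟨i, rfl⟩
  choose f' hf'I hf'π using fun i => (Ideal.mem_map_iff_of_surjective π hπ).mp (hfmem i)
  -- Step 2: `I'` is generated by the lifts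
  have hspanle : Ideal.span (Set.range f') ≤ I' :=
    Ideal.span_le.mpr (by rintro _ ⟨i, rfl⟩; exact hf'I i)
  have h1 : I' ≤ Ideal.span (Set.range f') ⊔ K * I' := by
    intro x hx
    have hπx : π x ∈ Ideal.span (Set.range (minor φ)) := by
      rw [← hI']; exact Ideal.mem_map_of_mem π hx
    obtain ⟨c, hc⟩ := Ideal.mem_span_range_iff_exists_fun.mp hπx
    choose c' hc' using fun i => hπ (c i)
    have hy : x - ∑ i, c' i * f' i ∈ I' ⊓ K := by
      refine ⟨I'.sub_mem hx (I'.sum_mem fun i _ => I'.mul_mem_left _ (hf'I i)),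
        (hKmem _).mpr ?_⟩
      rw [map_sub, map_sum, ← hc, sub_eq_zero]
      apply Finset.sum_congr rfl; intro i _; rw [map_mul, hc', hf'π]
    have : x = ∑ i, c' i * f' i + (x - ∑ i, c' i * f' i) := by ring
    rw [this]
    exact Ideal.add_mem _ (Ideal.mem_sup_left (Ideal.sum_mem _ fun i _ =>
      Ideal.mul_mem_left _ _ (Ideal.subset_span ⟨i, rfl⟩))) (Ideal.mem_sup_right (hF1 hy))
  have h2 : K * I' ≤ Ideal.span (Set.range f') := by
    calc K * I' ≤ K * (Ideal.span (Set.range f') ⊔ K * I') := Ideal.mul_mono_right h1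
      _ = K * Ideal.span (Set.range f') ⊔ K * (K * I') := Ideal.mul_sup _ _ _
      _ = K * Ideal.span (Set.range f') := by rw [← mul_assoc, hKK, Ideal.bot_mul, sup_bot_eq]
      _ ≤ Ideal.span (Set.range f') := Ideal.mul_le_right
  have hI'eq : I' = Ideal.span (Set.range f') :=
    le_antisymm (h1.trans (sup_le le_rfl h2)) hspanle
  -- Step 3: lift the matrix with the relations
  choose ψ hψ using fun i j => hπ (φ i j)
  have hs : ∀ j, ∑ i, f' i * ψ i j ∈ K * Ideal.span (Set.range f') := by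
    intro j
    rw [← hI'eq]
    apply hF1
    refine ⟨I'.sum_mem fun i _ => I'.mul_mem_right _ (hf'I i), (hKmem _).mpr ?_⟩
    rw [map_sum, ← sum_minor_mul φ j]
    apply Finset.sum_congr rfl; intro i _; rw [map_mul, hf'π, hψ]
  choose ε hεK hε using fun j => exists_of_mem_mul_span K f' (hs j)
  obtain ⟨φ'', hφ''⟩ : ∃ φ'' : Matrix (Fin (r + 1)) (Fin r) A',
      φ'' = Matrix.of fun i j => ψ i j - ε j i := ⟨_, rfl⟩
  have hφ''ij : ∀ i j, φ'' i j = ψ i j - ε j i := fun i j => by rw [hφ'']; rfl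
  have hφ''π : φ''.map π = φ := by
    ext i j
    rw [Matrix.map_apply, hφ''ij, map_sub, hψ, (hKmem _).mp (hεK j i), sub_zero]
  have hf'φ'' : ∀ j, ∑ i, f' i * φ'' i j = 0 := by
    intro j
    calc ∑ i, f' i * φ'' i j = ∑ i, f' i * ψ i j - ∑ i, ε j i * f' i := by
          rw [← Finset.sum_sub_distrib]; apply Finset.sum_congr rfl; intro i _
          rw [hφ''ij]; ring
      _ = 0 := by rw [← hε j, sub_self]
  -- Step 4: minors of the lift
  obtain ⟨g', hg'⟩ : ∃ g' : Fin (r + 1) → A', g' = minor φ'' := ⟨_, rfl⟩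
  have hg'π : ∀ i, π (g' i) = minor φ i := fun i => by
    rw [hg', ← minor_map, hφ''π]
  have hg'φ'' : ∀ j, ∑ i, g' i * φ'' i j = 0 := fun j => by rw [hg']; exact sum_minor_mul φ'' j
  -- Step 5: the difference
  have hδK : ∀ i, f' i - g' i ∈ K := fun i => by
    rw [hKmem, map_sub, hf'π, hg'π, sub_self]
  have hδφ'' : ∀ j, ∑ i, (f' i - g' i) * φ'' i j = 0 := by
    intro j
    calc ∑ i, (f' i - g' i) * φ'' i j = ∑ i, f' i * φ'' i j - ∑ i, g' i * φ'' i j := by
          rw [← Finset.sum_sub_distrib]; apply Finset.sum_congr rfl; intro i _; ring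
      _ = 0 := by rw [hf'φ'', hg'φ'', sub_self]
  -- Step 6: the difference is a multiple of the minors
  obtain ⟨n, t, ht, hind⟩ := exists_minimal_generators C' J (IsNoetherian.noetherian J)
  have hKspan : K = Ideal.span (Set.range fun l => algebraMap C' A' (t l)) := by
    rw [hkπ, ← ht, Ideal.map_span, ← Set.range_comp]; rfl
  have htK : ∀ l, algebraMap C' A' (t l) ∈ K := fun l => by
    rw [hKspan]; exact Ideal.subset_span ⟨l, rfl⟩
  choose d hd using fun i => Ideal.mem_span_range_iff_exists_fun.mp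
    (by rw [← hKspan]; exact hδK i : f' i - g' i ∈
      Ideal.span (Set.range fun l => algebraMap C' A' (t l)))
  have hdN : ∀ l j, ∑ i, d i l * φ'' i j ∈ N := by
    intro l j
    rw [hkρ]
    refine mem_map_of_sum_smul_eq_zero t hind (fun l => ∑ i, d i l * φ'' i j) ?_ l
    rw [← hδφ'' j]
    simp_rw [Algebra.smul_def, Finset.mul_sum]
    rw [Finset.sum_comm]
    apply Finset.sum_congr rfl; intro i _
    rw [← hd i, Finset.sum_mul]
    apply Finset.sum_congr rfl; intro l _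
    ring
  obtain ⟨φ0, hφ0⟩ : ∃ φ0 : Matrix (Fin (r + 1)) (Fin r) A0, φ0 = φ.map ρ := ⟨_, rfl⟩
  have hφ0ij : ∀ i j, φ0 i j = ρ (π (φ'' i j)) := fun i j => by
    rw [hφ0, ← hφ''π]; rfl
  have hminor0 : ∀ i, minor φ0 i = ρ (π (g' i)) := fun i => by
    rw [hφ0, minor_map, hg'π]
  have hu : ∀ l, ∃ u : A0, ∀ i, ρ (π (d i l)) = u * minor φ0 i := by
    intro l
    apply dual_exact A0 φ0
    · intro c0 hc0
      rw [hφ0] at hc0 ⊢
      exact hmid_descend ρ hρ φ hmid hF2 c0 hc0
    · intro p hp hle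
      apply hcodim p hp
      refine le_trans (Ideal.span_mono ?_) hle
      rintro _ ⟨i, rfl⟩
      exact ⟨i, by rw [hφ0, minor_map]⟩
    · intro j
      have := (hNmem _).mp (hdN l j)
      rw [map_sum, map_sum] at this
      rw [← this]
      apply Finset.sum_congr rfl; intro i _
      rw [map_mul, map_mul, hφ0ij]
  choose u0 hu0 using hu
  choose u hu' using fun l => hπ ((hρ (u0 l)).choose)
  have huρ : ∀ l, ρ (π (u l)) = u0 l := fun l => by
    rw [hu' l]; exact (hρ (u0 l)).choose_spec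
  have hnN : ∀ i l, d i l - u l * g' i ∈ N := fun i l => by
    rw [hNmem, map_sub, map_sub, map_mul, map_mul, huρ, hu0 l i, hminor0, sub_self]
  obtain ⟨ε0, hε0⟩ : ∃ ε0 : A', ε0 = ∑ l, u l * algebraMap C' A' (t l) := ⟨_, rfl⟩
  have hε0K : ε0 ∈ K := by
    rw [hε0]; exact K.sum_mem fun l _ => K.mul_mem_left _ (htK l)
  have hδ : ∀ i, f' i - g' i = ε0 * g' i := by
    intro i
    rw [← hd i, hε0, Finset.sum_mul]
    apply Finset.sum_congr rfl; intro l _
    have := hNK0 _ (hnN i l) _ (htK l)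
    have h3 : d i l * algebraMap C' A' (t l) =
        u l * algebraMap C' A' (t l) * g' i + (d i l - u l * g' i) * algebraMap C' A' (t l) := by
      ring
    rw [h3, this, add_zero]
  -- Step 7
  have hε0sq : ε0 * ε0 = 0 := hKK0 _ hε0K _ hε0K
  have hfg : ∀ i, f' i = (1 + ε0) * g' i := fun i => by
    have := hδ i
    calc f' i = g' i + (f' i - g' i) := by ring
      _ = (1 + ε0) * g' i := by rw [this]; ring
  have hgf : ∀ i, g' i = (1 - ε0) * f' i := fun i => by
    rw [hfg i]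
    calc g' i = (1 - ε0 * ε0) * g' i := by rw [hε0sq]; ring
      _ = (1 - ε0) * ((1 + ε0) * g' i) := by ring
  refine ⟨φ'', hφ''π, ?_⟩
  rw [hI'eq, ← hg']
  apply le_antisymm
  · rw [Ideal.span_le]
    rintro _ ⟨i, rfl⟩
    rw [hfg i]
    exact Ideal.mul_mem_left _ _ (Ideal.subset_span ⟨i, rfl⟩)
  · rw [Ideal.span_le]
    rintro _ ⟨i, rfl⟩
    rw [hgf i]
    exact Ideal.mul_mem_left _ _ (Ideal.subset_span ⟨i, rfl⟩)

end Groth.Agent.Helper3.HBurch
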