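import Mathlib
import Groth.Agent.Lib.Helper3.HBurch3
import Groth.Agent.Lib.Helper8.AdicFS17

/-! Hilbert–Burch deformations, part 4: the lifting theorem for quotient rings (helper3). -/

set_option autoImplicit false
set_option linter.style.haveILetI false
set_option linter.unusedSectionVars false
universe u

open IsLocalRing

namespace Groth.Agent.Helper3.HBurch

theorem hmid_of_range_eq {A : Type*} [CommRing A] {r : ℕ} (φ : Matrix (Fin (r + 1)) (Fin r) A)
    (hφ : LinearMap.range φ.mulVecLin = LinearMap.ker (Fintype.linearCombination A (minor φ)))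
    (c : Fin (r + 1) → A) (hc : ∑ i, c i * minor φ i = 0) :
    ∃ w : Fin r → A, ∀ i, c i = ∑ j, φ i j * w j := by
  have h : c ∈ LinearMap.ker (Fintype.linearCombination A (minor φ)) := by
    rw [LinearMap.mem_ker, Fintype.linearCombination_apply]
    simpa [smul_eq_mul] using hc
  rw [← hφ] at h
  obtain ⟨w, hw⟩ := h
  refine ⟨w, fun i => ?_⟩
  rw [← hw]
  simp [Matrix.mulVec, dotProduct]

theorem regular_special_fibre (C' : Type u) [CommRing C'] [IsLocalRing C'] [IsNoetherianRing C']
    (A' : Type u) [CommRing A'] [Algebra C' A'] [Algebra.FiniteType C' A']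
    [Algebra.Smooth (C' ⧸ maximalIdeal C') (A' ⧸ (maximalIdeal C').map (algebraMap C' A'))] :
    IsRegularRing (A' ⧸ (maximalIdeal C').map (algebraMap C' A')) := by
  haveI : IsNoetherianRing A' := Algebra.FiniteType.isNoetherianRing C' A'
  letI : Field (C' ⧸ maximalIdeal C') := Ideal.Quotient.field (maximalIdeal C')
  exact Groth.Agent.Helper8.AdicFS.isRegularRing_of_formallySmooth_field (C' ⧸ maximalIdeal C')
    (A' ⧸ (maximalIdeal C').map (algebraMap C' A'))

theorem hb_lift (C' : Type u) [CommRing C'] [IsLocalRing C'] [IsArtinianRing C'] (J : Ideal C')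
    (hJ : maximalIdeal C' * J = ⊥) (hJne : J ≠ ⊤) (A' : Type u) [CommRing A'] [Algebra C' A']
    [Module.Flat C' A'] [Algebra.FiniteType C' A']
    [Algebra.Smooth (C' ⧸ maximalIdeal C') (A' ⧸ (maximalIdeal C').map (algebraMap C' A'))]
    (r : ℕ) (φ : Matrix (Fin (r + 1)) (Fin r) (A' ⧸ J.map (algebraMap C' A')))
    (hφ : LinearMap.range φ.mulVecLin =
      LinearMap.ker (Fintype.linearCombination (A' ⧸ J.map (algebraMap C' A')) (minor φ)))
    [Module.Flat (C' ⧸ J)
      ((A' ⧸ J.map (algebraMap C' A')) ⧸ Ideal.span (Set.range (minor φ)))]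
    (hcodim : ∀ p : Ideal (A' ⧸ J.map (algebraMap C' A')), p.IsPrime →
      Ideal.span (Set.range (minor φ)) ≤ p → (2 : ℕ∞) ≤ p.height)
    (I' : Ideal A') [Module.Flat C' (A' ⧸ I')]
    (hI' : I'.map (Ideal.Quotient.mk (J.map (algebraMap C' A'))) =
      Ideal.span (Set.range (minor φ))) :
    ∃ φ' : Matrix (Fin (r + 1)) (Fin r) A',
      φ'.map (Ideal.Quotient.mk (J.map (algebraMap C' A'))) = φ ∧
      I' = Ideal.span (Set.range (minor φ')) := by
  haveI : IsNoetherianRing C' := inferInstance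
  haveI : IsRegularRing (A' ⧸ (maximalIdeal C').map (algebraMap C' A')) :=
    regular_special_fibre C' A'
  have hJm : J ≤ maximalIdeal C' := IsLocalRing.le_maximalIdeal hJne
  have hKN : J.map (algebraMap C' A') ≤ (maximalIdeal C').map (algebraMap C' A') :=
    Ideal.map_mono hJm
  obtain ⟨ρ, hρdef⟩ : ∃ ρ : (A' ⧸ J.map (algebraMap C' A')) →+*
      (A' ⧸ (maximalIdeal C').map (algebraMap C' A')), ρ = Ideal.Quotient.factor hKN := ⟨_, rfl⟩
  have hρsurj : Function.Surjective ρ := by
    rw [hρdef]; exact Ideal.Quotient.factor_surjective hKN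
  have hρπ : ρ.comp (Ideal.Quotient.mk (J.map (algebraMap C' A'))) =
      Ideal.Quotient.mk ((maximalIdeal C').map (algebraMap C' A')) := by
    rw [hρdef]; exact Ideal.Quotient.factor_comp_mk hKN
  have hkerρ : RingHom.ker ρ = ((maximalIdeal C').map (Ideal.Quotient.mk J)).map
      (algebraMap (C' ⧸ J) (A' ⧸ J.map (algebraMap C' A'))) := by
    rw [hρdef, Ideal.Quotient.factor_ker, Ideal.map_map, Ideal.map_map]
    congr 1
  have hnil : ∀ x ∈ RingHom.ker ρ, IsNilpotent x := by
    have hmnil : IsNilpotent (maximalIdeal C') := by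
      rw [← IsLocalRing.jacobson_eq_maximalIdeal ⊥ bot_ne_top]
      exact IsArtinianRing.isNilpotent_jacobson_bot
    obtain ⟨n, hn⟩ := hmnil
    have hkn : (RingHom.ker ρ) ^ n = ⊥ := by
      rw [hkerρ, ← Ideal.map_pow, ← Ideal.map_pow, hn]
      simp
    intro x hx
    refine ⟨n, ?_⟩
    have := Ideal.pow_mem_pow hx n
    rwa [hkn, Ideal.mem_bot] at this
  apply hb_core C' J hJ hJne A' (A' ⧸ J.map (algebraMap C' A'))
    (Ideal.Quotient.mk (J.map (algebraMap C' A'))) Ideal.Quotient.mk_surjective Ideal.mk_ker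
    (A' ⧸ (maximalIdeal C').map (algebraMap C' A')) ρ hρsurj (by rw [hρπ, Ideal.mk_ker]) r φ
  · exact hmid_of_range_eq φ hφ
  · rw [hkerρ, inf_comm]
    exact inf_le_mul_of_flat (C' ⧸ J) (A' ⧸ J.map (algebraMap C' A'))
      (Ideal.span (Set.range (minor φ))) _
  · intro p0 hp0 hle
    haveI := hp0
    have h1 := hcodim (p0.comap ρ) (Ideal.comap_isPrime ρ p0) (by
      rw [Ideal.span_le]
      rintro _ ⟨i, rfl⟩
      exact hle (Ideal.subset_span ⟨i, rfl⟩))
    exact h1.trans (height_comap_le_of_nilpotent_ker ρ hρsurj hnil p0)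
  · rw [Ideal.mk_ker, inf_comm]
    exact inf_le_mul_of_flat C' A' I' J
  · exact hI'

end Groth.Agent.Helper3.HBurch
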