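import Mathlib
import Groth.Agent.Lib.Helper3.HBurch4

/-! Hilbert–Burch deformations, part 5: deforming the resolution over a local Artin base
by induction on the nilpotency index of the maximal ideal (helper3). -/

set_option autoImplicit false
set_option linter.style.haveILetI false
set_option linter.unusedSectionVars false
universe u

open IsLocalRing

namespace Groth.Agent.Helper3.HBurch

section Conv

variable {A : Type*} [CommRing A] {r : ℕ} (φ : Matrix (Fin (r + 1)) (Fin r) A)

theorem injective_of_elementwise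
    (h : ∀ w : Fin r → A, (∀ i, ∑ j, φ i j * w j = 0) → w = 0) :
    Function.Injective φ.mulVecLin := by
  rw [injective_iff_map_eq_zero]
  intro w hw
  apply h w
  intro i
  have := congrFun hw i
  simpa [Matrix.mulVec, dotProduct] using this

theorem elementwise_of_injective (h : Function.Injective φ.mulVecLin) (w : Fin r → A)
    (hw : ∀ i, ∑ j, φ i j * w j = 0) : w = 0 := by
  apply h
  rw [map_zero]
  funext i
  simpa [Matrix.mulVec, dotProduct] using hw i

theorem range_eq_ker_of_elementwise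
    (hmid : ∀ c : Fin (r + 1) → A, ∑ i, c i * minor φ i = 0 →
      ∃ w : Fin r → A, ∀ i, c i = ∑ j, φ i j * w j) :
    LinearMap.range φ.mulVecLin = LinearMap.ker (Fintype.linearCombination A (minor φ)) := by
  ext c
  rw [LinearMap.mem_ker, Fintype.linearCombination_apply]
  constructor
  · rintro ⟨w, rfl⟩
    simp only [Matrix.mulVecLin_apply, smul_eq_mul]
    calc ∑ i, φ.mulVec w i * minor φ i = ∑ j, w j * ∑ i, minor φ i * φ i j := by
          simp only [Matrix.mulVec, dotProduct, Finset.sum_mul, Finset.mul_sum]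
          rw [Finset.sum_comm]
          apply Finset.sum_congr rfl; intro j _
          apply Finset.sum_congr rfl; intro i _; ring
      _ = 0 := by simp [sum_minor_mul]
  · intro hc
    obtain ⟨w, hw⟩ := hmid c (by simpa [smul_eq_mul] using hc)
    refine ⟨w, ?_⟩
    funext i
    rw [hw i]
    simp [Matrix.mulVec, dotProduct]

end Conv

/-- lifting exactness of the Hilbert–Burch complex along a small extension -/
theorem exact_lift (C' : Type u) [CommRing C'] [IsLocalRing C'] [IsNoetherianRing C']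
    (J : Ideal C') (hJ : maximalIdeal C' * J = ⊥)
    (A' : Type u) [CommRing A'] [Algebra C' A'] [Module.Flat C' A']
    (A : Type u) [CommRing A] (π : A' →+* A) (hπ : Function.Surjective π)
    (hkπ : RingHom.ker π = J.map (algebraMap C' A'))
    (A0 : Type u) [CommRing A0] (ρ : A →+* A0) (hρ : Function.Surjective ρ)
    (hkρ : RingHom.ker (ρ.comp π) = (maximalIdeal C').map (algebraMap C' A'))
    (r : ℕ) (φ' : Matrix (Fin (r + 1)) (Fin r) A')
    (hinj : ∀ w : Fin r → A, (∀ i, ∑ j, (φ'.map π) i j * w j = 0) → w = 0)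
    (hmid : ∀ c : Fin (r + 1) → A, ∑ i, c i * minor (φ'.map π) i = 0 →
      ∃ w : Fin r → A, ∀ i, c i = ∑ j, (φ'.map π) i j * w j)
    (hinj0 : ∀ w : Fin r → A0, (∀ i, ∑ j, (φ'.map (ρ.comp π)) i j * w j = 0) → w = 0)
    (hmid0 : ∀ c : Fin (r + 1) → A0, ∑ i, c i * minor (φ'.map (ρ.comp π)) i = 0 →
      ∃ w : Fin r → A0, ∀ i, c i = ∑ j, (φ'.map (ρ.comp π)) i j * w j) :
    (∀ w : Fin r → A', (∀ i, ∑ j, φ' i j * w j = 0) → w = 0) ∧
    (∀ c : Fin (r + 1) → A', ∑ i, c i * minor φ' i = 0 →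
      ∃ w : Fin r → A', ∀ i, c i = ∑ j, φ' i j * w j) := by
  classical
  obtain ⟨K, hK⟩ : ∃ K : Ideal A', K = RingHom.ker π := ⟨_, rfl⟩
  obtain ⟨N, hN⟩ : ∃ N : Ideal A', N = RingHom.ker (ρ.comp π) := ⟨_, rfl⟩
  rw [← hK] at hkπ
  rw [← hN] at hkρ
  have hNK : N * K = ⊥ := by rw [hkπ, hkρ, ← Ideal.map_mul, hJ, Ideal.map_bot]
  have hNK0 : ∀ x ∈ N, ∀ y ∈ K, x * y = 0 := fun x hx y hy => by
    have := Ideal.mul_mem_mul hx hy
    rwa [hNK, Ideal.mem_bot] at this
  have hKmem : ∀ x, x ∈ K ↔ π x = 0 := fun x => by rw [hK, RingHom.mem_ker]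
  have hNmem : ∀ x, x ∈ N ↔ ρ (π x) = 0 := fun x => by rw [hN, RingHom.mem_ker]; rfl
  obtain ⟨n, t, ht, hind⟩ := exists_minimal_generators C' J (IsNoetherian.noetherian J)
  have hKspan : K = Ideal.span (Set.range fun l => algebraMap C' A' (t l)) := by
    rw [hkπ, ← ht, Ideal.map_span, ← Set.range_comp]; rfl
  have htK : ∀ l, algebraMap C' A' (t l) ∈ K := fun l => by
    rw [hKspan]; exact Ideal.subset_span ⟨l, rfl⟩
  have hρπsurj : ∀ y : A0, ∃ x : A', ρ (π x) = y := fun y => by
    obtain ⟨a, rfl⟩ := hρ y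
    obtain ⟨x, rfl⟩ := hπ a
    exact ⟨x, rfl⟩
  have hdec : ∀ x ∈ K, ∃ d : Fin n → A', ∑ l, d l * algebraMap C' A' (t l) = x :=
    fun x hx => Ideal.mem_span_range_iff_exists_fun.mp (by rw [← hKspan]; exact hx)
  have hF3 : ∀ a : Fin n → A', ∑ l, a l * algebraMap C' A' (t l) = 0 → ∀ l, a l ∈ N := by
    intro a ha l
    rw [hkρ]
    refine mem_map_of_sum_smul_eq_zero t hind a ?_ l
    rw [← ha]
    apply Finset.sum_congr rfl; intro l _
    rw [Algebra.smul_def, mul_comm]
  constructor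
  · intro w hw
    have hwK : ∀ j, w j ∈ K := by
      have h := hinj (fun j => π (w j)) (fun i => by
        have h' := congrArg π (hw i)
        rw [map_sum, map_zero] at h'
        rw [← h']
        apply Finset.sum_congr rfl; intro j _
        rw [map_mul]; rfl)
      intro j
      rw [hKmem]
      exact congrFun h j
    choose d hd using fun j => hdec (w j) (hwK j)
    have h1 : ∀ i l, ∑ j, φ' i j * d j l ∈ N := by
      intro i
      apply hF3
      rw [← hw i]
      simp_rw [Finset.sum_mul]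
      rw [Finset.sum_comm]
      apply Finset.sum_congr rfl; intro j _
      rw [← hd j, Finset.mul_sum]
      apply Finset.sum_congr rfl; intro l _; ring
    have h2 : ∀ l j, d j l ∈ N := by
      intro l
      have h := hinj0 (fun j => ρ (π (d j l))) (fun i => by
        have h' := (hNmem _).mp (h1 i l)
        rw [map_sum, map_sum] at h'
        rw [← h']
        apply Finset.sum_congr rfl; intro j _
        rw [map_mul, map_mul]; rfl)
      intro j
      rw [hNmem]
      exact congrFun h j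
    funext j
    rw [← hd j]
    exact Finset.sum_eq_zero fun l _ => hNK0 _ (h2 l j) _ (htK l)
  · intro c hc
    obtain ⟨wb, hwb⟩ := hmid (fun i => π (c i)) (by
      have h' := congrArg π hc
      rw [map_sum, map_zero] at h'
      rw [← h']
      apply Finset.sum_congr rfl; intro i _
      rw [map_mul, minor_map])
    choose w hw using fun j => hπ (wb j)
    have hc'K : ∀ i, c i - ∑ j, φ' i j * w j ∈ K := by
      intro i
      rw [hKmem, map_sub, map_sum, hwb i, sub_eq_zero]
      apply Finset.sum_congr rfl; intro j _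
      rw [map_mul, hw]; rfl
    have hc'rel : ∑ i, (c i - ∑ j, φ' i j * w j) * minor φ' i = 0 := by
      have h0 : ∑ i, (∑ j, φ' i j * w j) * minor φ' i = 0 := by
        simp_rw [Finset.sum_mul]
        rw [Finset.sum_comm]
        apply Finset.sum_eq_zero; intro j _
        calc ∑ i, φ' i j * w j * minor φ' i = w j * ∑ i, minor φ' i * φ' i j := by
              rw [Finset.mul_sum]; apply Finset.sum_congr rfl; intro i _; ring
          _ = 0 := by rw [sum_minor_mul, mul_zero]
      calc ∑ i, (c i - ∑ j, φ' i j * w j) * minor φ' i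
          = ∑ i, c i * minor φ' i - ∑ i, (∑ j, φ' i j * w j) * minor φ' i := by
            rw [← Finset.sum_sub_distrib]; apply Finset.sum_congr rfl; intro i _; ring
        _ = 0 := by rw [hc, h0, sub_zero]
    choose d hd using fun i => hdec _ (hc'K i)
    have h1 : ∀ l, ∑ i, d i l * minor φ' i ∈ N := by
      apply hF3
      rw [← hc'rel]
      simp_rw [Finset.sum_mul]
      rw [Finset.sum_comm]
      apply Finset.sum_congr rfl; intro i _
      rw [← hd i, Finset.sum_mul]
      apply Finset.sum_congr rfl; intro l _; ring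
    have h2 : ∀ l, ∃ w0 : Fin r → A0,
        ∀ i, ρ (π (d i l)) = ∑ j, (φ'.map (ρ.comp π)) i j * w0 j := by
      intro l
      apply hmid0 (fun i => ρ (π (d i l)))
      have h' := (hNmem _).mp (h1 l)
      rw [map_sum, map_sum] at h'
      rw [← h']
      apply Finset.sum_congr rfl; intro i _
      rw [map_mul, map_mul, minor_map]; rfl
    choose w0 hw0 using h2
    choose wl hwl using fun l j => hρπsurj (w0 l j)
    have h3 : ∀ i l, d i l - ∑ j, φ' i j * wl l j ∈ N := by
      intro i l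
      rw [hNmem, map_sub, map_sub, hw0 l i, map_sum, map_sum, sub_eq_zero]
      apply Finset.sum_congr rfl; intro j _
      rw [map_mul, map_mul, hwl l j]; rfl
    refine ⟨fun j => w j + ∑ l, wl l j * algebraMap C' A' (t l), fun i => ?_⟩
    have h4 : c i - ∑ j, φ' i j * w j =
        ∑ j, φ' i j * ∑ l, wl l j * algebraMap C' A' (t l) := by
      rw [← hd i]
      simp_rw [Finset.mul_sum]
      rw [Finset.sum_comm]
      apply Finset.sum_congr rfl; intro l _
      have h6 := hNK0 _ (h3 i l) _ (htK l)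
      have h5 : d i l * algebraMap C' A' (t l) =
          (∑ j, φ' i j * wl l j) * algebraMap C' A' (t l) := by
        have h7 : d i l * algebraMap C' A' (t l) =
            (d i l - ∑ j, φ' i j * wl l j) * algebraMap C' A' (t l) +
              (∑ j, φ' i j * wl l j) * algebraMap C' A' (t l) := by ring
        rw [h7, h6, zero_add]
      rw [h5, Finset.sum_mul]
      apply Finset.sum_congr rfl; intro j _; ring
    calc c i = (c i - ∑ j, φ' i j * w j) + ∑ j, φ' i j * w j := by ring
      _ = ∑ j, φ' i j * (w j + ∑ l, wl l j * algebraMap C' A' (t l)) := by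
          rw [h4, ← Finset.sum_add_distrib]
          apply Finset.sum_congr rfl; intro j _; ring

theorem flat_quot (R : Type u) [CommRing R] (J : Ideal R) (B : Type u) [CommRing B] [Algebra R B]
    [Module.Flat R B] : Module.Flat (R ⧸ J) (B ⧸ J.map (algebraMap R B)) :=
  Module.Flat.of_linearEquiv (Algebra.TensorProduct.quotIdealMapEquivQuotTensor B J).toLinearEquiv

theorem maximalIdeal_quotient (C : Type*) [CommRing C] [IsLocalRing C] (J : Ideal C) (hJ : J ≠ ⊤)
    [IsLocalRing (C ⧸ J)] :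
    maximalIdeal (C ⧸ J) = (maximalIdeal C).map (Ideal.Quotient.mk J) := by
  have hJm : J ≤ maximalIdeal C := IsLocalRing.le_maximalIdeal hJ
  rcases Ideal.map_eq_top_or_isMaximal_of_surjective (Ideal.Quotient.mk J)
    Ideal.Quotient.mk_surjective (maximalIdeal.isMaximal C) with h | h
  · exfalso
    have h1 : ((maximalIdeal C).map (Ideal.Quotient.mk J)).comap (Ideal.Quotient.mk J) =
        maximalIdeal C := by
      rw [Ideal.comap_map_of_surjective _ Ideal.Quotient.mk_surjective, sup_eq_left,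
        ← RingHom.ker_eq_comap_bot, Ideal.mk_ker]
      exact hJm
    rw [h, Ideal.comap_top] at h1
    exact (maximalIdeal.isMaximal C).ne_top h1.symm
  · exact (IsLocalRing.eq_maximalIdeal h).symm

theorem fl_descend (C : Type u) [CommRing C] (J : Ideal C) (A : Type u) [CommRing A]
    [Algebra C A] (I : Ideal A)
    (hFl : ∀ 𝔞 : Ideal C, 𝔞.map (algebraMap C A) ⊓ I ≤ 𝔞.map (algebraMap C A) * I)
    (𝔟 : Ideal (C ⧸ J)) :
    𝔟.map (algebraMap (C ⧸ J) (A ⧸ J.map (algebraMap C A))) ⊓
        I.map (Ideal.Quotient.mk (J.map (algebraMap C A))) ≤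
      𝔟.map (algebraMap (C ⧸ J) (A ⧸ J.map (algebraMap C A))) *
        I.map (Ideal.Quotient.mk (J.map (algebraMap C A))) := by
  obtain ⟨𝔞, h𝔞⟩ : ∃ 𝔞 : Ideal C, 𝔞 = 𝔟.comap (Ideal.Quotient.mk J) := ⟨_, rfl⟩
  have h𝔟 : 𝔟 = 𝔞.map (Ideal.Quotient.mk J) := by
    rw [h𝔞, Ideal.map_comap_of_surjective _ Ideal.Quotient.mk_surjective]
  have hJ𝔞 : J ≤ 𝔞 := by
    rw [h𝔞]
    intro x hx
    rw [Ideal.mem_comap, Ideal.Quotient.eq_zero_iff_mem.mpr hx]
    exact 𝔟.zero_mem
  have hmap : 𝔟.map (algebraMap (C ⧸ J) (A ⧸ J.map (algebraMap C A))) =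
      (𝔞.map (algebraMap C A)).map (Ideal.Quotient.mk (J.map (algebraMap C A))) := by
    rw [h𝔟, Ideal.map_map, Ideal.map_map]
    congr 1
  rw [hmap, ← Ideal.map_mul]
  rintro x ⟨hx1, hx2⟩
  obtain ⟨y, hyI, rfl⟩ := (Ideal.mem_map_iff_of_surjective _ Ideal.Quotient.mk_surjective).mp hx2
  obtain ⟨z, hz𝔞, hzy⟩ := (Ideal.mem_map_iff_of_surjective _ Ideal.Quotient.mk_surjective).mp hx1
  have hyz : y - z ∈ J.map (algebraMap C A) := by
    rw [← Ideal.Quotient.eq_zero_iff_mem, map_sub, hzy, sub_self]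
  have hy𝔞 : y ∈ 𝔞.map (algebraMap C A) := by
    have : y = (y - z) + z := by ring
    rw [this]
    exact Ideal.add_mem _ (Ideal.map_mono hJ𝔞 hyz) hz𝔞
  exact Ideal.mem_map_of_mem _ (hFl 𝔞 ⟨hy𝔞, hyI⟩)

theorem hb_bij {A A0 : Type*} [CommRing A] [CommRing A0] (ρ : A →+* A0)
    (hρ : Function.Bijective ρ) {r : ℕ} (φ0 : Matrix (Fin (r + 1)) (Fin r) A0) (I : Ideal A)
    (hI0 : I.map ρ = Ideal.span (Set.range (minor φ0)))
    (h0inj : ∀ w : Fin r → A0, (∀ i, ∑ j, φ0 i j * w j = 0) → w = 0)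
    (h0mid : ∀ c : Fin (r + 1) → A0, ∑ i, c i * minor φ0 i = 0 →
      ∃ w : Fin r → A0, ∀ i, c i = ∑ j, φ0 i j * w j) :
    ∃ φ : Matrix (Fin (r + 1)) (Fin r) A, φ.map ρ = φ0 ∧
      Ideal.span (Set.range (minor φ)) = I ∧
      (∀ w : Fin r → A, (∀ i, ∑ j, φ i j * w j = 0) → w = 0) ∧
      (∀ c : Fin (r + 1) → A, ∑ i, c i * minor φ i = 0 →
        ∃ w : Fin r → A, ∀ i, c i = ∑ j, φ i j * w j) := by
  choose ψ hψ using fun i j => hρ.2 (φ0 i j)
  obtain ⟨φ, hφ⟩ : ∃ φ : Matrix (Fin (r + 1)) (Fin r) A, φ = Matrix.of ψ := ⟨_, rfl⟩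
  have hφρ : φ.map ρ = φ0 := by
    ext i j
    rw [Matrix.map_apply, hφ]
    exact hψ i j
  have hφij : ∀ i j, ρ (φ i j) = φ0 i j := fun i j => by rw [← hφρ]; rfl
  have hminor : ∀ i, ρ (minor φ i) = minor φ0 i := fun i => by rw [← minor_map, hφρ]
  have hker : RingHom.ker ρ = ⊥ := (RingHom.injective_iff_ker_eq_bot ρ).mp hρ.1
  have hcm : ∀ I1 : Ideal A, (I1.map ρ).comap ρ = I1 := fun I1 => by
    rw [Ideal.comap_map_of_surjective ρ hρ.2, ← RingHom.ker_eq_comap_bot, hker, sup_bot_eq]
  refine ⟨φ, hφρ, ?_, ?_, ?_⟩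
  · rw [← hcm (Ideal.span (Set.range (minor φ))), ← hcm I, hI0, Ideal.map_span, ← Set.range_comp]
    congr 3
    funext i
    exact hminor i
  · intro w hw
    have h := h0inj (fun j => ρ (w j)) (fun i => by
      have h' := congrArg ρ (hw i)
      rw [map_sum, map_zero] at h'
      rw [← h']
      apply Finset.sum_congr rfl; intro j _
      rw [map_mul, hφij])
    funext j
    exact hρ.1 (by rw [Pi.zero_apply, map_zero]; exact congrFun h j)
  · intro c hc
    obtain ⟨w0, hw0⟩ := h0mid (fun i => ρ (c i)) (by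
      have h' := congrArg ρ hc
      rw [map_sum, map_zero] at h'
      rw [← h']
      apply Finset.sum_congr rfl; intro i _
      rw [map_mul, hminor])
    choose w hw using fun j => hρ.2 (w0 j)
    refine ⟨w, fun i => hρ.1 ?_⟩
    rw [hw0 i, map_sum]
    apply Finset.sum_congr rfl; intro j _
    rw [map_mul, hφij, hw]

theorem hb_def (A0 : Type u) [CommRing A0] [IsRegularRing A0] (r : ℕ)
    (φ0 : Matrix (Fin (r + 1)) (Fin r) A0)
    (h0inj : ∀ w : Fin r → A0, (∀ i, ∑ j, φ0 i j * w j = 0) → w = 0)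
    (h0mid : ∀ c : Fin (r + 1) → A0, ∑ i, c i * minor φ0 i = 0 →
      ∃ w : Fin r → A0, ∀ i, c i = ∑ j, φ0 i j * w j)
    (hcodim : ∀ p : Ideal A0, p.IsPrime → Ideal.span (Set.range (minor φ0)) ≤ p →
      (2 : ℕ∞) ≤ p.height) :
    ∀ (n : ℕ) (C : Type u) [CommRing C] [IsLocalRing C] [IsNoetherianRing C],
      maximalIdeal C ^ n = ⊥ →
    ∀ (A : Type u) [CommRing A] [Algebra C A] [Module.Flat C A] (ρ : A →+* A0),
      Function.Surjective ρ → RingHom.ker ρ = (maximalIdeal C).map (algebraMap C A) →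
    ∀ (I : Ideal A),
      (∀ 𝔞 : Ideal C, 𝔞.map (algebraMap C A) ⊓ I ≤ 𝔞.map (algebraMap C A) * I) →
      I.map ρ = Ideal.span (Set.range (minor φ0)) →
    ∃ φ : Matrix (Fin (r + 1)) (Fin r) A, φ.map ρ = φ0 ∧
      Ideal.span (Set.range (minor φ)) = I ∧
      (∀ w : Fin r → A, (∀ i, ∑ j, φ i j * w j = 0) → w = 0) ∧
      (∀ c : Fin (r + 1) → A, ∑ i, c i * minor φ i = 0 →
        ∃ w : Fin r → A, ∀ i, c i = ∑ j, φ i j * w j) := by
  intro n
  induction n with
  | zero =>
    intro C _ _ _ hn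
    exfalso
    rw [pow_zero, Ideal.one_eq_top] at hn
    exact top_ne_bot hn
  | succ n ih =>
    intro C _ _ _ hn A _ _ _ ρ hρ hkρ I hFl hI0
    rcases Nat.eq_zero_or_pos n with hn0 | hnpos
    · subst hn0
      rw [zero_add, pow_one] at hn
      have hinj : Function.Injective ρ := by
        rw [RingHom.injective_iff_ker_eq_bot, hkρ, hn, Ideal.map_bot]
      exact hb_bij ρ ⟨hinj, hρ⟩ φ0 I hI0 h0inj h0mid
    · obtain ⟨J, hJdef⟩ : ∃ J : Ideal C, J = maximalIdeal C ^ n := ⟨_, rfl⟩
      have hJ : maximalIdeal C * J = ⊥ := by rw [hJdef, ← pow_succ', hn]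
      have hJm : J ≤ maximalIdeal C := by
        rw [hJdef]; exact Ideal.pow_le_self (Nat.pos_iff_ne_zero.mp hnpos)
      have hJne : J ≠ ⊤ := fun h =>
        (maximalIdeal.isMaximal C).ne_top (top_le_iff.mp (h ▸ hJm))
      haveI : Nontrivial (C ⧸ J) := Ideal.Quotient.nontrivial_iff.mpr hJne
      haveI : IsLocalRing (C ⧸ J) :=
        IsLocalRing.of_surjective' (Ideal.Quotient.mk J) Ideal.Quotient.mk_surjective
      have hmbar : maximalIdeal (C ⧸ J) = (maximalIdeal C).map (Ideal.Quotient.mk J) :=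
        maximalIdeal_quotient C J hJne
      have hnbar : maximalIdeal (C ⧸ J) ^ n = ⊥ := by
        rw [hmbar, ← Ideal.map_pow, ← hJdef, Ideal.map_quotient_self]
      haveI : Module.Flat (C ⧸ J) (A ⧸ J.map (algebraMap C A)) := flat_quot C J A
      have hJAle : J.map (algebraMap C A) ≤ RingHom.ker ρ := by
        rw [hkρ]; exact Ideal.map_mono hJm
      obtain ⟨ρb, hρb⟩ : ∃ ρb : (A ⧸ J.map (algebraMap C A)) →+* A0,
          ρb = Ideal.Quotient.lift (J.map (algebraMap C A)) ρ
            (fun a ha => RingHom.mem_ker.mp (hJAle ha)) := ⟨_, rfl⟩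
      have hρbπ : ρb.comp (Ideal.Quotient.mk (J.map (algebraMap C A))) = ρ := by
        rw [hρb]; ext a; rfl
      have hρbsurj : Function.Surjective ρb := by
        rw [hρb]; exact Ideal.Quotient.lift_surjective_of_surjective _ _ hρ
      have hkρb : RingHom.ker ρb = (maximalIdeal (C ⧸ J)).map
          (algebraMap (C ⧸ J) (A ⧸ J.map (algebraMap C A))) := by
        rw [hρb, Ideal.ker_quotient_lift, hkρ, hmbar, Ideal.map_map, Ideal.map_map]
        congr 1
      have hI0b : (I.map (Ideal.Quotient.mk (J.map (algebraMap C A)))).map ρb =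
          Ideal.span (Set.range (minor φ0)) := by
        rw [Ideal.map_map, hρbπ, hI0]
      obtain ⟨φb, hφb0, hφbI, hφbinj, hφbmid⟩ := ih (C ⧸ J) hnbar (A ⧸ J.map (algebraMap C A))
        ρb hρbsurj hkρb (I.map (Ideal.Quotient.mk _)) (fl_descend C J A I hFl) hI0b
      obtain ⟨φ, hφπ, hφI⟩ := hb_core C J hJ hJne A (A ⧸ J.map (algebraMap C A))
        (Ideal.Quotient.mk _) Ideal.Quotient.mk_surjective Ideal.mk_ker A0 ρb hρbsurj
        (by rw [hρbπ, hkρ]) r φb hφbmid
        (by
          rw [hφbI, hkρb, inf_comm]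
          exact fl_descend C J A I hFl _)
        (by
          intro p hp hle
          apply hcodim p hp
          refine le_trans (Ideal.span_mono ?_) hle
          rintro _ ⟨i, rfl⟩
          refine ⟨i, ?_⟩
          show ρb (minor φb i) = minor φ0 i
          rw [← hφb0, minor_map])
        I (by rw [Ideal.mk_ker, inf_comm]; exact hFl J) (by rw [hφbI])
      have hφρ : φ.map ρ = φ0 := by
        rw [← hφb0, ← hφπ, ← hρbπ]; ext i j; rfl
      obtain ⟨hinj, hmid⟩ := exact_lift C J hJ A (A ⧸ J.map (algebraMap C A))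
        (Ideal.Quotient.mk _) Ideal.Quotient.mk_surjective Ideal.mk_ker A0 ρb hρbsurj
        (by rw [hρbπ, hkρ]) r φ
        (by rw [hφπ]; exact hφbinj) (by rw [hφπ]; exact hφbmid)
        (by rw [hρbπ, hφρ]; exact h0inj) (by rw [hρbπ, hφρ]; exact h0mid)
      exact ⟨φ, hφρ, hφI.symm, hinj, hmid⟩

theorem hb_deform (C : Type u) [CommRing C] [IsLocalRing C] [IsArtinianRing C] (A : Type u)
    [CommRing A] [Algebra C A] [Module.Flat C A] [Algebra.FiniteType C A]
    [Algebra.Smooth (C ⧸ maximalIdeal C) (A ⧸ (maximalIdeal C).map (algebraMap C A))]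
    (I : Ideal A) [Module.Flat C (A ⧸ I)]
    (hcodim : ∀ p : Ideal (A ⧸ (maximalIdeal C).map (algebraMap C A)), p.IsPrime →
      I.map (Ideal.Quotient.mk ((maximalIdeal C).map (algebraMap C A))) ≤ p →
      (2 : ℕ∞) ≤ p.height)
    (r : ℕ) (φ₀ : Matrix (Fin (r + 1)) (Fin r) (A ⧸ (maximalIdeal C).map (algebraMap C A)))
    (h₀ : Ideal.span (Set.range (minor φ₀)) =
        I.map (Ideal.Quotient.mk ((maximalIdeal C).map (algebraMap C A))) ∧
      Function.Injective φ₀.mulVecLin ∧
      LinearMap.range φ₀.mulVecLin = LinearMap.ker (Fintype.linearCombination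
        (A ⧸ (maximalIdeal C).map (algebraMap C A)) (minor φ₀))) :
    ∃ φ : Matrix (Fin (r + 1)) (Fin r) A, Ideal.span (Set.range (minor φ)) = I ∧
      Function.Injective φ.mulVecLin ∧
      LinearMap.range φ.mulVecLin = LinearMap.ker (Fintype.linearCombination A (minor φ)) := by
  haveI : IsNoetherianRing C := inferInstance
  haveI : IsRegularRing (A ⧸ (maximalIdeal C).map (algebraMap C A)) := regular_special_fibre C A
  have hmnil : IsNilpotent (maximalIdeal C) := by
    rw [← IsLocalRing.jacobson_eq_maximalIdeal ⊥ bot_ne_top]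
    exact IsArtinianRing.isNilpotent_jacobson_bot
  obtain ⟨n, hn⟩ := hmnil
  obtain ⟨φ, -, hφI, hinj, hmid⟩ := hb_def (A ⧸ (maximalIdeal C).map (algebraMap C A)) r φ₀
    (elementwise_of_injective φ₀ h₀.2.1) (hmid_of_range_eq φ₀ h₀.2.2)
    (fun p hp hle => hcodim p hp (h₀.1 ▸ hle)) n C hn A
    (Ideal.Quotient.mk ((maximalIdeal C).map (algebraMap C A))) Ideal.Quotient.mk_surjective
    Ideal.mk_ker I (fun 𝔞 => inf_le_mul_of_flat C A I 𝔞) h₀.1.symm
  exact ⟨φ, hφI, injective_of_elementwise φ hinj, range_eq_ker_of_elementwise φ hmid⟩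

end Groth.Agent.Helper3.HBurch
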