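import Groth.Agent.Lib.Helper3.HTLC2

set_option autoImplicit false
universe u
open CategoryTheory CategoryTheory.Limits Opposite

namespace Groth.Agent.Helper3.HDTLC

open Groth.Agent.Helper3.HTLC Pretriangulated

attribute [local instance] HasDerivedCategory.standard

variable {A : Type u} [CommRing A]

/-- the single functor in degree 0 -/
noncomputable abbrev S0 (A : Type u) [CommRing A] : ModuleCat.{u} A ⥤ Dual.D A :=
  DerivedCategory.singleFunctor (ModuleCat.{u} A) 0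

variable {T : Set (PrimeSpectrum A)}

/-- `A/J` in degree zero -/
noncomputable abbrev SQ (J : Dual2.IdealsIn T) : Dual.D A := (S0 A).obj (QT J)

/-- the diagram -/
noncomputable abbrev GD (T : Set (PrimeSpectrum A)) (L : Dual.D A) :
    (Dual2.IdealsIn T)ᵒᵖ ⥤ ModuleCat.{u + 1} A :=
  (localCohomology.ringModIdeals (Dual2.idealsInDiagram T) ⋙
      DerivedCategory.singleFunctor (ModuleCat.{u} A) 0).op ⋙ (linearYoneda A (Dual.D A)).obj L

/-- the colimit -/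
noncomputable abbrev G (T : Set (PrimeSpectrum A)) (L : Dual.D A) : ModuleCat.{u + 1} A :=
  colimit (GD T L)

lemma HDT_eq (K : Dual.D A) (i : ℤ) : Dual2.HDT A T K i = G T (K⟦i⟧) := rfl

noncomputable instance instPres0 :
    PreservesColimitsOfShape (Dual2.IdealsIn T)ᵒᵖ (forget AddCommGrpCat.{u + 1}) :=
  haveI : PreservesFilteredColimitsOfSize.{u, u} (forget AddCommGrpCat.{u + 1}) :=
    preservesFilteredColimitsOfSize_of_univLE.{u + 1, u + 1, u, u} _
  PreservesFilteredColimitsOfSize.preserves_filtered_colimits _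

noncomputable instance instPres :
    PreservesColimitsOfShape (Dual2.IdealsIn T)ᵒᵖ (forget (ModuleCat.{u + 1} A)) := by
  have h : forget₂ (ModuleCat.{u + 1} A) AddCommGrpCat.{u + 1} ⋙ forget AddCommGrpCat.{u + 1} =
      forget (ModuleCat.{u + 1} A) := HasForget₂.forget_comp
  rw [← h]
  infer_instance

/-- structure map -/
noncomputable def γ (J : Dual2.IdealsIn T) (L : Dual.D A) : (SQ J ⟶ L) →ₗ[A] G T L :=
  (colimit.ι (GD T L) (op J)).hom

lemma GD_map_apply {J J' : Dual2.IdealsIn T} (h : J'.obj ≤ J.obj) (L : Dual.D A)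
    (φ : SQ J ⟶ L) :
    ((GD T L).map (idxHom h)).hom φ = (S0 A).map (projT h) ≫ φ := rfl

lemma γ_trans {J J' : Dual2.IdealsIn T} (h : J'.obj ≤ J.obj) (L : Dual.D A) (φ : SQ J ⟶ L) :
    γ J' L ((S0 A).map (projT h) ≫ φ) = γ J L φ := by
  have hw := colimit.w (GD T L) (idxHom h)
  exact congrArg (fun α => α.hom φ) hw

lemma γ_rep (L : Dual.D A) (x : G T L) :
    ∃ (J : Dual2.IdealsIn T) (φ : SQ J ⟶ L), γ J L φ = x := by
  obtain ⟨j, y, hy⟩ := Concrete.colimit_exists_rep (GD T L) x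
  exact ⟨j.unop, y, hy⟩

lemma γ_eq_iff {J J' : Dual2.IdealsIn T} (L : Dual.D A) (φ : SQ J ⟶ L) (φ' : SQ J' ⟶ L) :
    γ J L φ = γ J' L φ' ↔ ∃ (K : Dual2.IdealsIn T) (hn : K.obj ≤ J.obj) (hm : K.obj ≤ J'.obj),
      (S0 A).map (projT hn) ≫ φ = (S0 A).map (projT hm) ≫ φ' := by
  constructor
  · intro h
    obtain ⟨k, f, g, hfg⟩ := Concrete.colimit_exists_of_rep_eq (GD T L)
      (i := op J) (j := op J') φ φ' h
    obtain ⟨hn, hf⟩ := hom_eq_idxHom f
    obtain ⟨hm, hg⟩ := hom_eq_idxHom g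
    rw [hf, hg] at hfg
    exact ⟨k.unop, hn, hm, hfg⟩
  · rintro ⟨K, hn, hm, h⟩
    rw [← γ_trans hn, ← γ_trans hm, h]

lemma γ_eq_zero_iff {J : Dual2.IdealsIn T} (L : Dual.D A) (φ : SQ J ⟶ L) :
    γ J L φ = 0 ↔ ∃ (K : Dual2.IdealsIn T) (h : K.obj ≤ J.obj),
      (S0 A).map (projT h) ≫ φ = 0 := by
  constructor
  · intro h
    have h' : γ J L φ = γ J L 0 := by rw [h, map_zero]
    obtain ⟨K, hn, hm, hk⟩ := (γ_eq_iff L φ 0).mp h'
    exact ⟨K, hn, by rw [hk, comp_zero]⟩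
  · rintro ⟨K, h, hk⟩
    rw [← γ_trans h, hk, map_zero]

lemma smul_id_QT {J : Dual2.IdealsIn T} (a : A) (ha : a ∈ J.obj) : a • 𝟙 (QT J) = 0 := by
  apply ModuleCat.hom_ext
  apply LinearMap.ext
  intro x
  obtain ⟨x, rfl⟩ := Submodule.Quotient.mk_surjective _ x
  change a • (Submodule.Quotient.mk x : A ⧸ J.obj) = 0
  rw [← Submodule.Quotient.mk_smul, Submodule.Quotient.mk_eq_zero, smul_eq_mul]
  exact Ideal.mul_mem_right _ _ ha

lemma smul_γ_eq_zero {J : Dual2.IdealsIn T} (L : Dual.D A) (φ : SQ J ⟶ L) (a : A)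
    (ha : a ∈ J.obj) : a • γ J L φ = 0 := by
  have h2 : a • 𝟙 (SQ J) = 0 := by
    calc a • 𝟙 (SQ J) = a • (S0 A).map (𝟙 (QT J)) := by rw [CategoryTheory.Functor.map_id]
      _ = (S0 A).map (a • 𝟙 (QT J)) := (Functor.map_smul (S0 A) a _).symm
      _ = 0 := by rw [smul_id_QT a ha, Functor.map_zero]
  have h1 : a • φ = (a • 𝟙 (SQ J)) ≫ φ := by rw [Linear.smul_comp, Category.id_comp]
  rw [← map_smul, h1, h2, zero_comp, map_zero]

variable (T) in
lemma isTorsG (L : Dual.D A) (x : G T L) :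
    ∃ J : Dual2.IdealsIn T, ∀ a ∈ J.obj, a • x = 0 := by
  obtain ⟨J, φ, rfl⟩ := γ_rep L x
  exact ⟨J, fun a ha => smul_γ_eq_zero L φ a ha⟩

/-- functoriality -/
noncomputable def Gmap {L L' : Dual.D A} (g : L ⟶ L') : G T L →ₗ[A] G T L' :=
  (colimMap (Functor.whiskerLeft (localCohomology.ringModIdeals (Dual2.idealsInDiagram T) ⋙
      DerivedCategory.singleFunctor (ModuleCat.{u} A) 0).op
    ((linearYoneda A (Dual.D A)).map g))).hom

lemma Gmap_γ {L L' : Dual.D A} (g : L ⟶ L') (J : Dual2.IdealsIn T) (φ : SQ J ⟶ L) :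
    Gmap g (γ J L φ) = γ J L' (φ ≫ g) := by
  have h := ι_colimMap (Functor.whiskerLeft (localCohomology.ringModIdeals
    (Dual2.idealsInDiagram T) ⋙ DerivedCategory.singleFunctor (ModuleCat.{u} A) 0).op
    ((linearYoneda A (Dual.D A)).map g)) (op J)
  exact congrArg (fun α => α.hom φ) h

lemma Gmap_comp {L L' L'' : Dual.D A} (g : L ⟶ L') (g' : L' ⟶ L'') (x : G T L) :
    Gmap (g ≫ g') x = Gmap g' (Gmap g x) := by
  obtain ⟨J, φ, rfl⟩ := γ_rep L x
  rw [Gmap_γ, Gmap_γ, Gmap_γ, Category.assoc]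

lemma Gmap_id {L : Dual.D A} (x : G T L) : Gmap (𝟙 L) x = x := by
  obtain ⟨J, φ, rfl⟩ := γ_rep L x
  rw [Gmap_γ, Category.comp_id]

lemma Gmap_smul_id {L : Dual.D A} (a : A) (x : G T L) : Gmap (a • 𝟙 L) x = a • x := by
  obtain ⟨J, φ, rfl⟩ := γ_rep L x
  rw [Gmap_γ, Linear.comp_smul, Category.comp_id, map_smul]

/-- an isomorphism induces a linear equivalence -/
noncomputable def Giso {L L' : Dual.D A} (e : L ≅ L') : G T L ≃ₗ[A] G T L' :=
  LinearEquiv.ofLinearMap (Gmap e.hom) (Gmap e.inv)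
    (LinearMap.ext fun x => by
      rw [LinearMap.comp_apply, ← Gmap_comp, e.inv_hom_id, Gmap_id]; rfl)
    (LinearMap.ext fun x => by
      rw [LinearMap.comp_apply, ← Gmap_comp, e.hom_inv_id, Gmap_id]; rfl)

/-- exactness criterion -/
lemma G_exact_of {L₁ L₂ L₃ : Dual.D A} (α : L₁ ⟶ L₂) (β : L₂ ⟶ L₃)
    (h : ∀ (J : Dual2.IdealsIn T) (y : SQ J ⟶ L₂), y ≫ β = 0 → ∃ x : SQ J ⟶ L₁, x ≫ α = y)
    (y : G T L₂) (hy : Gmap β y = 0) : ∃ x : G T L₁, Gmap α x = y := by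
  obtain ⟨J, φ, rfl⟩ := γ_rep L₂ y
  rw [Gmap_γ, γ_eq_zero_iff] at hy
  obtain ⟨K, hK, hk⟩ := hy
  obtain ⟨x, hx⟩ := h K ((S0 A).map (projT hK) ≫ φ) (by rw [Category.assoc]; exact hk)
  exact ⟨γ K L₁ x, by rw [Gmap_γ, hx, γ_trans]⟩

section Triangles

variable {X Y Z : Dual.D A} (f : X ⟶ Y) (g : Y ⟶ Z) (h : Z ⟶ X⟦(1 : ℤ)⟧)
  (hd : Triangle.mk f g h ∈ distTriang (Dual.D A))

/-- connecting morphism -/
noncomputable def dmor (n₀ n₁ : ℤ) (hn : n₀ + 1 = n₁) : Z⟦n₀⟧ ⟶ X⟦n₁⟧ :=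
  h⟦n₀⟧' ≫ (shiftFunctorAdd' (Dual.D A) 1 n₀ n₁ (by omega)).inv.app X

include hd

lemma hom_exact₂ (W : Dual.D A) (n : ℤ) (y : W ⟶ Y⟦n⟧) (hy : y ≫ g⟦n⟧' = 0) :
    ∃ x : W ⟶ X⟦n⟧, x ≫ f⟦n⟧' = y := by
  have := (preadditiveCoyoneda.obj (op W)).homologySequence_exact₂ _ hd n
  rw [ShortComplex.ab_exact_iff] at this
  exact this y hy

lemma hom_exact₃ (W : Dual.D A) (n₀ n₁ : ℤ) (hn : n₀ + 1 = n₁) (z : W ⟶ Z⟦n₀⟧)
    (hz : z ≫ dmor h n₀ n₁ hn = 0) : ∃ y : W ⟶ Y⟦n₀⟧, y ≫ g⟦n₀⟧' = z := by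
  have := (preadditiveCoyoneda.obj (op W)).homologySequence_exact₃ _ hd n₀ n₁ hn
  rw [ShortComplex.ab_exact_iff] at this
  exact this z ((preadditiveCoyoneda_homologySequenceδ_apply (Triangle.mk f g h)
    n₀ n₁ hn z).trans hz)

lemma hom_exact₁ (W : Dual.D A) (n₀ n₁ : ℤ) (hn : n₀ + 1 = n₁) (x : W ⟶ X⟦n₁⟧)
    (hx : x ≫ f⟦n₁⟧' = 0) : ∃ z : W ⟶ Z⟦n₀⟧, z ≫ dmor h n₀ n₁ hn = x := by
  have := (preadditiveCoyoneda.obj (op W)).homologySequence_exact₁ _ hd n₀ n₁ hn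
  rw [ShortComplex.ab_exact_iff] at this
  obtain ⟨z, hz⟩ := this x hx
  exact ⟨z, (preadditiveCoyoneda_homologySequenceδ_apply (Triangle.mk f g h)
    n₀ n₁ hn z).symm.trans hz⟩

lemma G_ex₂ (n : ℤ) (y : G T (Y⟦n⟧)) (hy : Gmap (g⟦n⟧') y = 0) :
    ∃ x : G T (X⟦n⟧), Gmap (f⟦n⟧') x = y :=
  G_exact_of _ _ (fun J y hy => hom_exact₂ f g h hd (SQ J) n y hy) y hy

lemma G_ex₃ (n₀ n₁ : ℤ) (hn : n₀ + 1 = n₁) (z : G T (Z⟦n₀⟧))
    (hz : Gmap (dmor h n₀ n₁ hn) z = 0) :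
    ∃ y : G T (Y⟦n₀⟧), Gmap (g⟦n₀⟧') y = z :=
  G_exact_of _ _ (fun J y hy => hom_exact₃ f g h hd (SQ J) n₀ n₁ hn y hy) z hz

lemma G_ex₁ (n₀ n₁ : ℤ) (hn : n₀ + 1 = n₁) (x : G T (X⟦n₁⟧))
    (hx : Gmap (f⟦n₁⟧') x = 0) :
    ∃ z : G T (Z⟦n₀⟧), Gmap (dmor h n₀ n₁ hn) z = x :=
  G_exact_of _ _ (fun J y hy => hom_exact₁ f g h hd (SQ J) n₀ n₁ hn y hy) x hx

end Triangles

section Vanishing

lemma subsingleton_G_of_isGE (L : Dual.D A)
    [DerivedCategory.TStructure.t.IsGE L 1] : Subsingleton (G T L) := by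
  refine ⟨fun x y => ?_⟩
  suffices h : ∀ z : G T L, z = 0 by rw [h x, h y]
  intro z
  obtain ⟨J, φ, rfl⟩ := γ_rep L z
  rw [DerivedCategory.TStructure.t.zero φ 0 1 (by omega), map_zero]

lemma subsingleton_G_shift_of_lt (K : Dual.D A) (a i : ℤ) (hi : i < a)
    [DerivedCategory.TStructure.t.IsGE K a] : Subsingleton (G T (K⟦i⟧)) := by
  haveI := DerivedCategory.TStructure.t.isGE_shift K a i (a - i) (by omega)
  haveI := DerivedCategory.TStructure.t.isGE_of_ge (K⟦i⟧) 1 (a - i) (by omega)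
  exact subsingleton_G_of_isGE _

variable [IsNoetherianRing A]

lemma subsingleton_G_shift_single (N : Type u) [AddCommGroup N] [Module A N]
    (J₀ : Dual2.IdealsIn T) (hN : ∀ a ∈ J₀.obj, ∀ x : N, a • x = 0) (k : ℕ) (hk : 0 < k) :
    Subsingleton (G T (((S0 A).obj (ModuleCat.of A N))⟦(k : ℤ)⟧)) := by
  refine ⟨fun x y => ?_⟩
  suffices h : ∀ z : G T (((S0 A).obj (ModuleCat.of A N))⟦(k : ℤ)⟧), z = 0 by rw [h x, h y]
  intro z
  obtain ⟨J, φ, rfl⟩ := γ_rep _ z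
  let e : Abelian.Ext (QT J) (ModuleCat.of A N) k := Abelian.Ext.homEquiv.symm φ
  have he : e.hom = φ := Equiv.apply_symm_apply _ _
  haveI := subsingleton_of_torsion k hk N J₀ hN
  have h0 : ιT k J (ModuleCat.of A N) e = 0 := Subsingleton.elim _ _
  obtain ⟨K, hK, hk0⟩ := (ιT_eq_zero_iff k (ModuleCat.of A N) e).mp h0
  have h1 := congrArg Abelian.Ext.hom hk0
  rw [Abelian.Ext.comp_hom, Abelian.Ext.mk₀_hom, ShiftedHom.mk₀_comp, he,
    Abelian.Ext.zero_hom] at h1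
  rw [← γ_trans hK, h1, map_zero]

lemma subsingleton_G_single (N : Type u) [AddCommGroup N] [Module A N]
    (J₀ : Dual2.IdealsIn T) (hN : ∀ a ∈ J₀.obj, ∀ x : N, a • x = 0) (m : ℤ) (hm : m ≠ 0) :
    Subsingleton (G T ((DerivedCategory.singleFunctor (ModuleCat.{u} A) m).obj
      (ModuleCat.of A N))) := by
  rcases lt_or_gt_of_ne hm with h | h
  · obtain ⟨k, hk⟩ : ∃ k : ℕ, -m = k := Int.eq_ofNat_of_zero_le (by omega)
    have e : ((S0 A).obj (ModuleCat.of A N))⟦(k : ℤ)⟧ ≅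
        (DerivedCategory.singleFunctor (ModuleCat.{u} A) m).obj (ModuleCat.of A N) :=
      ((DerivedCategory.singleFunctors (ModuleCat.{u} A)).shiftIso (k : ℤ) m 0
        (by omega)).app (ModuleCat.of A N)
    haveI := subsingleton_G_shift_single (T := T) N J₀ hN k (by omega)
    exact (Giso e).symm.toEquiv.subsingleton
  · haveI := DerivedCategory.TStructure.t.isGE_of_ge
      ((DerivedCategory.singleFunctor (ModuleCat.{u} A) m).obj (ModuleCat.of A N)) 1 m (by omega)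
    exact subsingleton_G_of_isGE _

end Vanishing

section H0

variable (M : ModuleCat.{u} A)

/-- evaluation at one -/
noncomputable def valG (J : Dual2.IdealsIn T) : (SQ J ⟶ (S0 A).obj M) →ₗ[A] M where
  toFun φ := ((S0 A).preimage φ).hom (oneT J)
  map_add' φ φ' := by
    have : (S0 A).preimage (φ + φ') = (S0 A).preimage φ + (S0 A).preimage φ' := by
      apply (S0 A).map_injective
      rw [Functor.map_add, Functor.map_preimage, Functor.map_preimage, Functor.map_preimage]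
    rw [this]; rfl
  map_smul' r φ := by
    have : (S0 A).preimage (r • φ) = r • (S0 A).preimage φ := by
      apply (S0 A).map_injective
      rw [Functor.map_smul, Functor.map_preimage, Functor.map_preimage]
    rw [this]; rfl

lemma valG_trans {J J' : Dual2.IdealsIn T} (h : J'.obj ≤ J.obj) (φ : SQ J ⟶ (S0 A).obj M) :
    valG M J' ((S0 A).map (projT h) ≫ φ) = valG M J φ := by
  have : (S0 A).preimage ((S0 A).map (projT h) ≫ φ) = projT h ≫ (S0 A).preimage φ := by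
    apply (S0 A).map_injective
    rw [Functor.map_comp, Functor.map_preimage, Functor.map_preimage]
  change ((S0 A).preimage ((S0 A).map (projT h) ≫ φ)).hom (oneT J') = _
  rw [this]
  rfl

lemma valG_injective (J : Dual2.IdealsIn T) (φ : SQ J ⟶ (S0 A).obj M) (h : valG M J φ = 0) :
    φ = 0 := by
  have hf : (S0 A).preimage φ = 0 := hom_ext_oneT M (by
    change ((S0 A).preimage φ).hom (oneT J) = _
    exact h.trans rfl)
  rw [← (S0 A).map_preimage φ, hf, Functor.map_zero]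

variable (T) in
theorem finite_G_single [IsNoetherianRing A] (N : Type u) [AddCommGroup N] [Module A N]
    [Module.Finite A N] : Module.Finite A (G T ((S0 A).obj (ModuleCat.of A N))) := by
  classical
  -- the evaluation map defined via representatives
  let M : ModuleCat.{u} A := ModuleCat.of A N
  let ev : G T ((S0 A).obj M) → N := fun x =>
    valG M (γ_rep ((S0 A).obj M) x).choose (γ_rep ((S0 A).obj M) x).choose_spec.choose
  have hev : ∀ (J : Dual2.IdealsIn T) (φ : SQ J ⟶ (S0 A).obj M), ev (γ J _ φ) = valG M J φ := by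
    intro J φ
    have hspec := (γ_rep ((S0 A).obj M) (γ J _ φ)).choose_spec.choose_spec
    obtain ⟨K, hn, hm, hk⟩ := (γ_eq_iff _ _ φ).mp hspec
    change valG M _ _ = _
    rw [← valG_trans M hn, ← valG_trans M hm, hk]
  let evl : G T ((S0 A).obj M) →ₗ[A] N :=
    { toFun := ev
      map_add' := by
        intro x y
        obtain ⟨J, φ, rfl⟩ := γ_rep _ x
        obtain ⟨J', φ', rfl⟩ := γ_rep _ y
        rw [← γ_trans (infJ_le_left J J'), ← γ_trans (infJ_le_right J J'), ← map_add, hev, hev,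
          hev, map_add]
      map_smul' := by
        intro r x
        obtain ⟨J, φ, rfl⟩ := γ_rep _ x
        rw [← map_smul, hev, hev, RingHom.id_apply, map_smul] }
  have hinj : Function.Injective evl := by
    rw [injective_iff_map_eq_zero]
    intro x hx
    obtain ⟨J, φ, rfl⟩ := γ_rep _ x
    have : valG M J φ = 0 := (hev J φ).symm.trans hx
    rw [valG_injective M J φ this, map_zero]
  exact Module.Finite.of_injective evl hinj

end H0

end Groth.Agent.Helper3.HDTLC
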