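import Groth.Agent.Lib.Helper3.HDTLC1
import Groth.Agent.Lib.Helper5.DMod.HLinear

set_option autoImplicit false
universe u
open CategoryTheory CategoryTheory.Limits Opposite

namespace Groth.Agent.Helper3.HDTLC

open Groth.Agent.Helper3.HTLC Pretriangulated

attribute [local instance] HasDerivedCategory.standard

variable {A : Type u} [CommRing A]

/-- a module in the middle of an exact sequence of finite modules is finite -/
lemma finite_of_exact' [IsNoetherianRing A] {M₁ M₂ M₃ : Type*} [AddCommGroup M₁] [Module A M₁]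
    [AddCommGroup M₂] [Module A M₂] [AddCommGroup M₃] [Module A M₃]
    [Module.Finite A M₁] [Module.Finite A M₃] (f : M₁ →ₗ[A] M₂) (g : M₂ →ₗ[A] M₃)
    (h : ∀ y, g y = 0 → ∃ x, f x = y) : Module.Finite A M₂ := by
  have hle : LinearMap.ker g ≤ LinearMap.range f := fun y hy => h y hy
  haveI : Module.Finite A (LinearMap.range f) := inferInstance
  haveI : IsNoetherian A (LinearMap.range f) := inferInstance
  haveI : Module.Finite A (LinearMap.ker g) :=
    Module.Finite.of_injective (Submodule.inclusion hle) (Submodule.inclusion_injective hle)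
  haveI : IsNoetherian A M₃ := inferInstance
  haveI : Module.Finite A (M₂ ⧸ LinearMap.ker g) :=
    Module.Finite.equiv (LinearMap.quotKerEquivRange g).symm
  exact Module.Finite.of_submodule_quotient (LinearMap.ker g)

lemma finite_of_subsingleton' {M : Type*} [AddCommGroup M] [Module A M] [Subsingleton M] :
    Module.Finite A M := by
  haveI : Finite M := Finite.of_subsingleton
  exact Module.Finite.of_finite

/-- the homology functor -/
noncomputable abbrev Hm (A : Type u) [CommRing A] (i : ℤ) : Dual.D A ⥤ ModuleCat.{u} A :=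
  DerivedCategory.homologyFunctor (ModuleCat.{u} A) i

section LES

variable {X Y Z : Dual.D A} (f : X ⟶ Y) (g : Y ⟶ Z) (h : Z ⟶ X⟦(1 : ℤ)⟧)
  (hd : Triangle.mk f g h ∈ distTriang (Dual.D A))

/-- the connecting map in homology, with explicit source and target -/
noncomputable def dl (n₀ n₁ : ℤ) (hn : n₀ + 1 = n₁) : (Hm A n₀).obj Z →ₗ[A] (Hm A n₁).obj X :=
  (DerivedCategory.HomologySequence.δ (Triangle.mk f g h) n₀ n₁ hn).hom

include hd

lemma hes₂ (n : ℤ) (y : (Hm A n).obj Y) (hy : (Hm A n).map g y = 0) :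
    ∃ x : (Hm A n).obj X, (Hm A n).map f x = y :=
  (ShortComplex.moduleCat_exact_iff _).mp
    (DerivedCategory.HomologySequence.exact₂ _ hd n) y hy

lemma hes₃ (n₀ n₁ : ℤ) (hn : n₀ + 1 = n₁) (z : (Hm A n₀).obj Z)
    (hz : dl f g h n₀ n₁ hn z = 0) :
    ∃ y : (Hm A n₀).obj Y, (Hm A n₀).map g y = z :=
  (ShortComplex.moduleCat_exact_iff _).mp
    (DerivedCategory.HomologySequence.exact₃ _ hd n₀ n₁ hn) z hz

lemma hes₁ (n₀ n₁ : ℤ) (hn : n₀ + 1 = n₁) (x : (Hm A n₁).obj X)
    (hx : (Hm A n₁).map f x = 0) :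
    ∃ z : (Hm A n₀).obj Z, dl f g h n₀ n₁ hn z = x :=
  (ShortComplex.moduleCat_exact_iff _).mp
    (DerivedCategory.HomologySequence.exact₁ _ hd n₀ n₁ hn) x hx

lemma δ_mor₁ (n₀ n₁ : ℤ) (hn : n₀ + 1 = n₁) (z : (Hm A n₀).obj Z) :
    (Hm A n₁).map f (dl f g h n₀ n₁ hn z) = 0 := by
  have := DerivedCategory.HomologySequence.δ_comp (Triangle.mk f g h) hd n₀ n₁ hn
  exact congrArg (fun α => α.hom z) this

lemma mor₁_mor₂ (n : ℤ) (x : (Hm A n).obj X) :
    (Hm A n).map g ((Hm A n).map f x) = 0 := by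
  have : (Hm A n).map f ≫ (Hm A n).map g = 0 := by
    rw [← Functor.map_comp]
    have h0 : f ≫ g = 0 := comp_distTriang_mor_zero₁₂ _ hd
    rw [h0, Functor.map_zero]
  exact congrArg (fun α => α.hom x) this

end LES

section Single

variable (N : ModuleCat.{u} A) (a : ℤ)

lemma subsingleton_Hm_single (j : ℤ) (hj : j ≠ a) :
    Subsingleton ((Hm A j).obj ((DerivedCategory.singleFunctor (ModuleCat.{u} A) a).obj N)) := by
  apply ModuleCat.subsingleton_of_isZero
  rcases lt_or_gt_of_ne hj with h | h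
  · exact DerivedCategory.isZero_of_isGE _ a j h
  · exact DerivedCategory.isZero_of_isLE _ a j h

lemma finite_Hm_single [Module.Finite A N] (j : ℤ) :
    Module.Finite A ((Hm A j).obj ((DerivedCategory.singleFunctor (ModuleCat.{u} A) a).obj N)) := by
  by_cases hj : j = a
  · subst hj
    let e' : N ≃ₗ[A] (Hm A j).obj ((DerivedCategory.singleFunctor (ModuleCat.{u} A) j).obj N) :=
      ((DerivedCategory.singleFunctorCompHomologyFunctorIso (ModuleCat.{u} A) j).app
        N).toLinearEquiv.symm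
    exact Module.Finite.equiv e'
  · haveI := subsingleton_Hm_single N a j hj
    exact finite_of_subsingleton'

end Single

lemma isGE_of_subsingleton (K : Dual.D A) (a : ℤ)
    (hKa : ∀ i : ℤ, i < a → Subsingleton (Dual.HD A K i)) :
    DerivedCategory.TStructure.t.IsGE K a := by
  rw [← DerivedCategory.IsGE, DerivedCategory.isGE_iff]
  intro i hi
  haveI := hKa i hi
  exact ModuleCat.isZero_of_subsingleton _

variable [IsNoetherianRing A]

/-- the map from the torsion part of the bottom cohomology -/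
theorem exists_torsion_map (T : Set (PrimeSpectrum A)) (K : Dual.D A) (a : ℤ)
    (hKa : ∀ i : ℤ, i < a → Subsingleton (Dual.HD A K i))
    (hK : Module.Finite A (Dual.HD A K a)) :
    ∃ (N : ModuleCat.{u} A) (_ : Module.Finite A N) (J₀ : Dual2.IdealsIn T)
      (_ : ∀ c ∈ J₀.obj, ∀ x : N, c • x = 0)
      (ψ : (DerivedCategory.singleFunctor (ModuleCat.{u} A) a).obj N ⟶ K),
      Function.Injective ((Hm A a).map ψ) ∧
      LinearMap.range ((Hm A a).map ψ).hom = torsT T (Dual.HD A K a) := by
  haveI hGE := isGE_of_subsingleton K a hKa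
  let t := DerivedCategory.TStructure.t (C := ModuleCat.{u} A)
  let W : Dual.D A := (t.truncLE a).obj K
  haveI : t.IsLE W a := inferInstance
  haveI : t.IsGE W a := inferInstance
  obtain ⟨E, ⟨e⟩⟩ := DerivedCategory.exists_iso_singleFunctor_obj_of_isGE_of_isLE W a
  let ι : W ⟶ K := (t.truncLEι a).app K
  have hTr : Triangle.mk ι ((t.truncGTπ a).app K) ((t.truncGTδLE a).app K) ∈
      distTriang (Dual.D A) := t.triangleLEGT_distinguished a K
  -- `H^a(ι)` is bijective
  have hbij : Function.Bijective ((Hm A a).map ι) := by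
    constructor
    · rw [injective_iff_map_eq_zero]
      intro x hx
      obtain ⟨z, rfl⟩ := hes₁ _ _ _ hTr (a - 1) a (by omega) x hx
      haveI : Subsingleton ((Hm A (a - 1)).obj ((t.truncGT a).obj K)) :=
        ModuleCat.subsingleton_of_isZero
          (DerivedCategory.isZero_of_isGE ((t.truncGT a).obj K) (a + 1) (a - 1) (by omega))
      have hz0 : z = 0 := Subsingleton.elim _ _
      rw [hz0]
      exact map_zero _
    · intro y
      haveI : Subsingleton ((Hm A a).obj ((t.truncGT a).obj K)) :=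
        ModuleCat.subsingleton_of_isZero
          (DerivedCategory.isZero_of_isGE ((t.truncGT a).obj K) (a + 1) a (by omega))
      exact hes₂ _ _ _ hTr a y (Subsingleton.elim _ _)
  haveI hιiso : IsIso ((Hm A a).map ι) := (ConcreteCategory.isIso_iff_bijective _).mpr hbij
  let η := DerivedCategory.singleFunctorCompHomologyFunctorIso (ModuleCat.{u} A) a
  let θ : E ≅ (Hm A a).obj K :=
    (η.app E).symm ≪≫ (Hm A a).mapIso e.symm ≪≫ asIso ((Hm A a).map ι)
  let P := Dual.HD A K a
  let N₀ : Submodule A P := torsT T P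
  haveI : Module.Finite A P := hK
  let N : ModuleCat.{u} A := ModuleCat.of A N₀
  haveI : Module.Finite A N := inferInstanceAs (Module.Finite A N₀)
  obtain ⟨J₀, hJ₀⟩ := exists_kill_torsT T P
  let incl' : N ⟶ E := ModuleCat.ofHom N₀.subtype ≫ θ.inv
  let ψ : (DerivedCategory.singleFunctor (ModuleCat.{u} A) a).obj N ⟶ K :=
    (DerivedCategory.singleFunctor (ModuleCat.{u} A) a).map incl' ≫ e.inv ≫ ι
  have hn : (Hm A a).map ((DerivedCategory.singleFunctor (ModuleCat.{u} A) a).map incl') ≫
      (η.app E).hom = (η.app N).hom ≫ incl' := η.hom.naturality incl'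
  have h2 : (Hm A a).map ((DerivedCategory.singleFunctor (ModuleCat.{u} A) a).map incl') =
      (η.app N).hom ≫ incl' ≫ (η.app E).inv := by
    rw [← Category.assoc, ← hn, Category.assoc, Iso.hom_inv_id, Category.comp_id]
  have hψ : (Hm A a).map ψ = (η.app N).hom ≫ ModuleCat.ofHom N₀.subtype := by
    calc (Hm A a).map ψ
        = (Hm A a).map ((DerivedCategory.singleFunctor (ModuleCat.{u} A) a).map incl') ≫
            (Hm A a).map e.inv ≫ (Hm A a).map ι := by
          rw [← Functor.map_comp, ← Functor.map_comp]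
      _ = (η.app N).hom ≫ incl' ≫ θ.hom := by
          rw [h2]
          simp only [Category.assoc]
          rfl
      _ = (η.app N).hom ≫ ModuleCat.ofHom N₀.subtype := by
          rw [show incl' = ModuleCat.ofHom N₀.subtype ≫ θ.inv from rfl, Category.assoc,
            Iso.inv_hom_id, Category.comp_id]
  have hψ' : ∀ x, (Hm A a).map ψ x = N₀.subtype ((η.app N).hom x) := by
    intro x
    rw [hψ]
    rfl
  refine ⟨N, inferInstance, J₀, hJ₀, ψ, ?_, ?_⟩
  · intro x y hxy
    rw [hψ' x, hψ' y] at hxy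
    have h3 : (η.app N).hom x = (η.app N).hom y := N₀.injective_subtype hxy
    have := congrArg (η.app N).inv h3
    simpa using this
  · ext m
    constructor
    · rintro ⟨x, rfl⟩
      change (Hm A a).map ψ x ∈ N₀
      rw [hψ' x]
      exact Submodule.coe_mem _
    · intro hm
      refine ⟨(η.app N).inv ⟨m, hm⟩, ?_⟩
      change (Hm A a).map ψ ((η.app N).inv ⟨m, hm⟩) = m
      rw [hψ']
      have : (η.app N).hom ((η.app N).inv (⟨m, hm⟩ : N₀)) = (⟨m, hm⟩ : N₀) := by
        simp
      rw [this]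
      rfl

/-- splitting off the torsion of the bottom cohomology -/
theorem exists_reduction (T : Set (PrimeSpectrum A)) (K : Dual.D A) (a : ℤ)
    (hKa : ∀ i : ℤ, i < a → Subsingleton (Dual.HD A K i))
    (hK : ∀ i : ℤ, Module.Finite A (Dual.HD A K i)) :
    ∃ (N : ModuleCat.{u} A) (_ : Module.Finite A N) (J₀ : Dual2.IdealsIn T)
      (_ : ∀ c ∈ J₀.obj, ∀ x : N, c • x = 0) (K' : Dual.D A)
      (ψ : (DerivedCategory.singleFunctor (ModuleCat.{u} A) a).obj N ⟶ K) (p : K ⟶ K')
      (q : K' ⟶ ((DerivedCategory.singleFunctor (ModuleCat.{u} A) a).obj N)⟦(1 : ℤ)⟧),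
      Triangle.mk ψ p q ∈ distTriang (Dual.D A) ∧
      (∀ i : ℤ, i < a → Subsingleton (Dual.HD A K' i)) ∧
      (∀ i : ℤ, Module.Finite A (Dual.HD A K' i)) ∧
      torsT T (Dual.HD A K' a) = ⊥ := by
  obtain ⟨N, hNfin, J₀, hJ₀, ψ, hψinj, hψrange⟩ := exists_torsion_map T K a hKa (hK a)
  obtain ⟨K', p, q, hd⟩ := distinguished_cocone_triangle ψ
  refine ⟨N, hNfin, J₀, hJ₀, K', ψ, p, q, hd, ?_, ?_, ?_⟩
  · -- vanishing below `a`
    intro i hi
    refine ⟨fun x y => ?_⟩
    suffices h : ∀ z : Dual.HD A K' i, z = 0 by rw [h x, h y]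
    intro x
    have hinj : Function.Injective ((Hm A (i + 1)).map ψ) := by
      by_cases h1 : i + 1 = a
      · rw [h1]; exact hψinj
      · haveI := subsingleton_Hm_single N a (i + 1) h1
        exact Function.injective_of_subsingleton _
    have hz : dl ψ p q i (i + 1) rfl x = 0 := by
      apply hinj
      exact (δ_mor₁ ψ p q hd i (i + 1) rfl x).trans (map_zero _).symm
    obtain ⟨y, rfl⟩ := hes₃ ψ p q hd i (i + 1) rfl x hz
    haveI := hKa i hi
    have hy0 : y = 0 := Subsingleton.elim _ _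
    rw [hy0]
    exact map_zero _
  · -- finiteness
    intro i
    haveI := hK i
    haveI := finite_Hm_single N a (i + 1)
    exact finite_of_exact' ((Hm A i).map p).hom (dl ψ p q i (i + 1) rfl)
      (fun z hz => hes₃ ψ p q hd i (i + 1) rfl z hz)
  · -- torsion freeness
    haveI := hK a
    rw [eq_bot_iff]
    rintro x' ⟨J, hJ⟩
    rw [Submodule.mem_bot]
    haveI : Subsingleton ((Hm A (a + 1)).obj
        ((DerivedCategory.singleFunctor (ModuleCat.{u} A) a).obj N)) :=
      subsingleton_Hm_single N a (a + 1) (by omega)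
    obtain ⟨x, rfl⟩ := hes₃ ψ p q hd a (a + 1) rfl x' (Subsingleton.elim _ _)
    have hx : (Submodule.Quotient.mk x :
        Dual.HD A K a ⧸ torsT T (Dual.HD A K a)) ∈
        torsT T (Dual.HD A K a ⧸ torsT T (Dual.HD A K a)) := by
      refine ⟨J, fun c hc => ?_⟩
      rw [← Submodule.Quotient.mk_smul, Submodule.Quotient.mk_eq_zero, ← hψrange]
      have h1 : (Hm A a).map p (c • x) = 0 :=
        (((Hm A a).map p).hom.map_smul c x).trans (hJ c hc)
      obtain ⟨w, hw⟩ := hes₂ ψ p q hd a (c • x) h1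
      exact ⟨w, hw⟩
    rw [torsT_quotient_eq_bot, Submodule.mem_bot, Submodule.Quotient.mk_eq_zero,
      ← hψrange] at hx
    obtain ⟨w, rfl⟩ := hx
    exact mor₁_mor₂ ψ p q hd a w

/-- properties of the cone of multiplication by a regular element -/
theorem cone_smul_props (K' : Dual.D A) (a : ℤ)
    (hK'a : ∀ i : ℤ, i < a → Subsingleton (Dual.HD A K' i))
    (hK' : ∀ i : ℤ, Module.Finite A (Dual.HD A K' i)) (f : A)
    (hf : IsSMulRegular (Dual.HD A K' a) f) (C : Dual.D A) (r : K' ⟶ C)
    (s : C ⟶ K'⟦(1 : ℤ)⟧) (hd : Triangle.mk (f • 𝟙 K') r s ∈ distTriang (Dual.D A)) :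
    (∀ i : ℤ, i < a → Subsingleton (Dual.HD A C i)) ∧
      ∀ i : ℤ, Module.Finite A (Dual.HD A C i) := by
  constructor
  · intro i hi
    refine ⟨fun x y => ?_⟩
    suffices h : ∀ z : Dual.HD A C i, z = 0 by rw [h x, h y]
    intro x
    have hz : dl (f • 𝟙 K') r s i (i + 1) rfl x = 0 := by
      have h1 := δ_mor₁ (f • 𝟙 K') r s hd i (i + 1) rfl x
      rw [Helper5.DMod.homologyFunctor_map_smul_id] at h1
      have h1' : f • (dl (f • 𝟙 K') r s i (i + 1) rfl x) = 0 := h1
      by_cases h2 : i + 1 = a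
      · subst h2
        exact hf (h1'.trans (smul_zero f).symm)
      · haveI := hK'a (i + 1) (by omega)
        exact Subsingleton.elim _ _
    obtain ⟨y, rfl⟩ := hes₃ (f • 𝟙 K') r s hd i (i + 1) rfl x hz
    haveI := hK'a i hi
    have hy0 : y = 0 := Subsingleton.elim _ _
    rw [hy0]
    exact map_zero _
  · intro i
    haveI := hK' i
    haveI := hK' (i + 1)
    exact finite_of_exact' ((Hm A i).map r).hom (dl (f • 𝟙 K') r s i (i + 1) rfl)
      (fun z hz => hes₃ (f • 𝟙 K') r s hd i (i + 1) rfl z hz)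

end Groth.Agent.Helper3.HDTLC
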