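import Groth.Agent.Lib.Helper3.HDTLC2

set_option autoImplicit false
universe u
open CategoryTheory CategoryTheory.Limits Opposite

namespace Groth.Agent.Helper3.HDTLC

open Groth.Agent.Helper3.HTLC Pretriangulated

attribute [local instance] HasDerivedCategory.standard

variable {A : Type u} [CommRing A]

/-- a uniform annihilator for a finite module all of whose elements are `T`-torsion
(universe polymorphic version). -/
lemma exists_uniform' {T : Set (PrimeSpectrum A)} (N : Type*) [AddCommGroup N] [Module A N]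
    [Module.Finite A N]
    (hN : ∀ x : N, ∃ J : Dual2.IdealsIn T, ∀ a ∈ J.obj, a • x = 0) :
    ∃ J : Dual2.IdealsIn T, ∀ a ∈ J.obj, ∀ x : N, a • x = 0 := by
  have key : ∀ (N' : Submodule A N), N'.FG →
      ∃ J : Dual2.IdealsIn T, ∀ a ∈ J.obj, ∀ x ∈ N', a • x = 0 := by
    intro N' hN'
    refine Submodule.fg_induction (motive := fun N' _ =>
      ∃ J : Dual2.IdealsIn T, ∀ a ∈ J.obj, ∀ x ∈ N', a • x = 0) ?_ ?_ N' hN'
    · intro x
      obtain ⟨J, hJ⟩ := hN x
      refine ⟨J, fun a ha y hy => ?_⟩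
      obtain ⟨c, rfl⟩ := Submodule.mem_span_singleton.mp hy
      rw [smul_comm, hJ a ha, smul_zero]
    · rintro N₁ N₂ _ _ ⟨J₁, h₁⟩ ⟨J₂, h₂⟩
      refine ⟨infJ J₁ J₂, fun a ha y hy => ?_⟩
      rw [infJ_obj] at ha
      obtain ⟨y₁, hy₁, y₂, hy₂, rfl⟩ := Submodule.mem_sup.mp hy
      rw [smul_add, h₁ a (Submodule.mem_inf.mp ha).1 y₁ hy₁,
        h₂ a (Submodule.mem_inf.mp ha).2 y₂ hy₂, add_zero]
  obtain ⟨J, hJ⟩ := key ⊤ Module.Finite.fg_top
  exact ⟨J, fun a ha x => hJ a ha x Submodule.mem_top⟩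

variable [IsNoetherianRing A] (T : Set (PrimeSpectrum A))

/-- shifting a single module -/
noncomputable def GshiftSingle (N : ModuleCat.{u} A) (a i m : ℤ) (h : i + m = a) :
    G T (((DerivedCategory.singleFunctor (ModuleCat.{u} A) a).obj N)⟦i⟧) ≃ₗ[A]
      G T ((DerivedCategory.singleFunctor (ModuleCat.{u} A) m).obj N) :=
  Giso (((DerivedCategory.singleFunctors (ModuleCat.{u} A)).shiftIso i m a h).app N)

lemma subsingleton_G_shift_singleA (N : ModuleCat.{u} A) (J₀ : Dual2.IdealsIn T)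
    (hJ₀ : ∀ c ∈ J₀.obj, ∀ x : N, c • x = 0) (a i : ℤ) (hi : i ≠ a) :
    Subsingleton (G T (((DerivedCategory.singleFunctor (ModuleCat.{u} A) a).obj N)⟦i⟧)) :=
  @Equiv.subsingleton _ _ (GshiftSingle T N a i (a - i) (by omega)).toEquiv
    (subsingleton_G_single (T := T) N J₀ hJ₀ (a - i) (by omega))

lemma finite_G_shift_singleA (N : ModuleCat.{u} A) [Module.Finite A N] (J₀ : Dual2.IdealsIn T)
    (hJ₀ : ∀ c ∈ J₀.obj, ∀ x : N, c • x = 0) (a i : ℤ) :
    Module.Finite A (G T (((DerivedCategory.singleFunctor (ModuleCat.{u} A) a).obj N)⟦i⟧)) := by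
  rcases eq_or_ne i a with rfl | hia
  · haveI : Module.Finite A (G T ((DerivedCategory.singleFunctor (ModuleCat.{u} A) 0).obj N)) :=
      finite_G_single T N
    exact Module.Finite.equiv (GshiftSingle T N i i 0 (by omega)).symm
  · haveI := subsingleton_G_shift_singleA T N J₀ hJ₀ a i hia
    exact finite_of_subsingleton'

/-- the induction -/
theorem claim (a : ℤ) (d : ℕ) :
    ∀ (K : Dual.D A), (∀ i : ℤ, i < a → Subsingleton (Dual.HD A K i)) →
      (∀ i : ℤ, Module.Finite A (Dual.HD A K i)) → ∀ (J : Dual2.IdealsIn T),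
      (∀ i : ℤ, i ≤ a - 1 + (d : ℤ) → ∀ c ∈ J.obj, ∀ y : G T (K⟦i⟧), c • y = 0) →
      ∀ i : ℤ, i ≤ a - 1 + (d : ℤ) → Module.Finite A (G T (K⟦i⟧)) := by
  induction d with
  | zero =>
    intro K hKa hK J hJ i hi
    haveI := isGE_of_subsingleton K a hKa
    haveI := subsingleton_G_shift_of_lt (T := T) K a i (by omega)
    exact finite_of_subsingleton'
  | succ d ih =>
    intro K hKa hK J hJ i hi
    haveI hGE := isGE_of_subsingleton K a hKa
    by_cases hia : i < a
    · haveI := subsingleton_G_shift_of_lt (T := T) K a i hia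
      exact finite_of_subsingleton'
    obtain ⟨N, hNfin, J₀, hJ₀, K', ψ, p, q, hd₁, hK'a, hK', htf⟩ :=
      exists_reduction T K a hKa hK
    haveI hGE' := isGE_of_subsingleton K' a hK'a
    have hGN : ∀ j : ℤ, j ≠ a → Subsingleton
        (G T (((DerivedCategory.singleFunctor (ModuleCat.{u} A) a).obj N)⟦j⟧)) :=
      fun j hj => subsingleton_G_shift_singleA T N J₀ hJ₀ a j hj
    -- `J` kills `G(K'⟦j⟧)`
    have hJ' : ∀ j : ℤ, j ≤ a - 1 + ((d + 1 : ℕ) : ℤ) → ∀ c ∈ J.obj,
        ∀ y : G T (K'⟦j⟧), c • y = 0 := by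
      intro j hj c hc y'
      by_cases hja : j < a
      · haveI := subsingleton_G_shift_of_lt (T := T) K' a j hja
        rw [Subsingleton.elim y' 0, smul_zero]
      · haveI := hGN (j + 1) (by omega)
        obtain ⟨y, rfl⟩ := G_ex₃ ψ p q hd₁ j (j + 1) rfl y' (Subsingleton.elim _ _)
        rw [← map_smul, hJ j hj c hc y, map_zero]
    -- a regular element
    haveI := hK' a
    obtain ⟨f, hfJ, hreg⟩ := exists_isSMulRegular_mem J (Dual.HD A K' a) htf
    obtain ⟨C, r, s, hd₂⟩ := distinguished_cocone_triangle (f • 𝟙 K')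
    obtain ⟨hCa, hC⟩ := cone_smul_props K' a hK'a hK' f hreg C r s hd₂
    have hsm : ∀ m : ℤ, (f • 𝟙 K')⟦m⟧' = f • 𝟙 (K'⟦m⟧) := by
      intro m
      rw [Functor.map_smul, CategoryTheory.Functor.map_id]
    -- `J²` kills `G(C⟦j⟧)`
    have hq : ∀ j : ℤ, j ≤ a - 1 + (d : ℤ) → ∀ c ∈ (mulJ J J).obj,
        ∀ z : G T (C⟦j⟧), c • z = 0 := by
      intro j hj c hc
      rw [mulJ_obj] at hc
      refine Submodule.mul_induction_on hc ?_ ?_
      · intro c₁ hc₁ c₂ hc₂ z
        have h1 : Gmap (dmor s j (j + 1) rfl) (c₂ • z) = 0 := by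
          rw [map_smul]
          exact hJ' (j + 1) (by push_cast; omega) c₂ hc₂ _
        obtain ⟨y, hy⟩ := G_ex₃ (f • 𝟙 K') r s hd₂ j (j + 1) rfl (c₂ • z) h1
        have hay : c₁ • y = 0 := hJ' j (by push_cast; omega) c₁ hc₁ y
        rw [mul_smul, ← hy, ← map_smul, hay, map_zero]
      · intro c₁ c₂ h₁ h₂ z
        rw [add_smul, h₁ z, h₂ z, add_zero]
    have hCfin := ih C hCa hC (mulJ J J) hq
    -- finiteness for `K'`
    have hK'fin : ∀ j : ℤ, j ≤ a - 1 + ((d + 1 : ℕ) : ℤ) →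
        Module.Finite A (G T (K'⟦j⟧)) := by
      intro j hj
      obtain ⟨j', rfl⟩ : ∃ j', j = j' + 1 := ⟨j - 1, by omega⟩
      haveI := hCfin j' (by push_cast at hj; omega)
      apply Module.Finite.of_surjective (Gmap (T := T) (dmor s j' (j' + 1) rfl))
      intro x
      apply G_ex₁ (f • 𝟙 K') r s hd₂ j' (j' + 1) rfl x
      rw [hsm, Gmap_smul_id]
      exact hJ' (j' + 1) hj f hfJ x
    -- finiteness for `K`
    haveI := hK'fin i hi
    haveI := finite_G_shift_singleA T N J₀ hJ₀ a i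
    exact finite_of_exact' (Gmap (T := T) (ψ⟦i⟧')) (Gmap (p⟦i⟧'))
      (fun y hy => G_ex₂ ψ p q hd₁ i y hy)

/-- Faltings' criterion for the local cohomology of a complex with supports in `T`. -/
theorem main (K : Dual.D A) (a : ℤ)
    (hKa : ∀ i : ℤ, i < a → Subsingleton (Dual.HD A K i))
    (hK : ∀ i : ℤ, Module.Finite A (Dual.HD A K i)) (n : ℤ) :
    (∀ i : ℤ, i ≤ n → Module.Finite A (Dual2.HDT A T K i)) ↔
      ∃ J : Ideal A, PrimeSpectrum.zeroLocus (J : Set A) ⊆ T ∧
        ∀ i : ℤ, i ≤ n → ∀ x : A, x ∈ J → ∀ y : Dual2.HDT A T K i, x • y = 0 := by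
  haveI := isGE_of_subsingleton K a hKa
  have hsub : ∀ i : ℤ, i < a → Subsingleton (G T (K⟦i⟧)) :=
    fun i hi => subsingleton_G_shift_of_lt (T := T) K a i hi
  by_cases hna : n < a
  · constructor
    · intro _
      refine ⟨(topJ T).obj, zl (topJ T), fun i hi x _ y => ?_⟩
      haveI := hsub i (by omega)
      have hy : y = 0 := Subsingleton.elim _ _
      rw [hy, smul_zero]
    · intro _ i hi
      haveI := hsub i (by omega)
      exact finite_of_subsingleton'
  · constructor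
    · intro hfin
      have h1 : ∀ k : ℕ, k ≤ (n - a).toNat → ∃ J : Dual2.IdealsIn T,
          ∀ c ∈ J.obj, ∀ y : G T (K⟦a + (k : ℤ)⟧), c • y = 0 := by
        intro k hk
        haveI : Module.Finite A (G T (K⟦a + (k : ℤ)⟧)) := hfin _ (by omega)
        exact exists_uniform' _ (fun x => isTorsG T _ x)
      obtain ⟨J, hJ⟩ := exists_common
        (fun k J => ∀ c ∈ J.obj, ∀ y : G T (K⟦a + (k : ℤ)⟧), c • y = 0)
        (fun k J J' h hJ c hc y => hJ c (h hc) y) (n - a).toNat h1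
      refine ⟨J.obj, zl J, fun i hi x hx y => ?_⟩
      by_cases hia : i < a
      · haveI := hsub i hia
        have hy : y = 0 := Subsingleton.elim _ _
        rw [hy, smul_zero]
      · obtain ⟨k, rfl⟩ : ∃ k : ℕ, i = a + (k : ℤ) := ⟨(i - a).toNat, by omega⟩
        exact hJ k (by omega) x hx y
    · rintro ⟨J, hJT, hJ⟩ i hi
      have hd : a - 1 + (((n - a + 1).toNat : ℕ) : ℤ) = n := by omega
      exact claim T a (n - a + 1).toNat K hKa hK (mkJ T J hJT)
        (fun j hj c hc y => hJ j (by omega) c hc y) i (by omega)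

end Groth.Agent.Helper3.HDTLC
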