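import Groth.Agent.Lib.Helper8.LC26
import Groth.Prelude.Def_DualLC

set_option autoImplicit false
universe u
open CategoryTheory CategoryTheory.Limits Opposite

namespace Groth.Agent.Helper3.HTLC

open Abelian localCohomology Groth.Agent.Helper8.LC

variable {R : Type u} [CommRing R]

section Index

/-- constructor for objects of `IdealsIn T` -/
abbrev mkJ (T : Set (PrimeSpectrum R)) (J : Ideal R)
    (hJ : PrimeSpectrum.zeroLocus (J : Set R) ⊆ T) : Dual2.IdealsIn T :=
  ObjectProperty.FullSubcategory.mk J hJ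

variable {T : Set (PrimeSpectrum R)}

lemma zl (J : Dual2.IdealsIn T) : PrimeSpectrum.zeroLocus (J.obj : Set R) ⊆ T := J.property

lemma zl_pow (J : Dual2.IdealsIn T) (n : ℕ) :
    PrimeSpectrum.zeroLocus ((J.obj ^ n : Ideal R) : Set R) ⊆ T := by
  intro p hp
  apply zl J
  rw [PrimeSpectrum.mem_zeroLocus] at hp ⊢
  haveI := p.isPrime
  exact Ideal.IsPrime.le_of_pow_le (show J.obj ^ n ≤ p.asIdeal from hp)

/-- the top ideal -/
def topJ (T : Set (PrimeSpectrum R)) : Dual2.IdealsIn T :=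
  mkJ T ⊤ (by rw [Submodule.top_coe, PrimeSpectrum.zeroLocus_univ]; exact Set.empty_subset _)

/-- intersection -/
def infJ (J J' : Dual2.IdealsIn T) : Dual2.IdealsIn T :=
  mkJ T (J.obj ⊓ J'.obj) (by
    rw [PrimeSpectrum.zeroLocus_inf]; exact Set.union_subset (zl J) (zl J'))

/-- product -/
def mulJ (J J' : Dual2.IdealsIn T) : Dual2.IdealsIn T :=
  mkJ T (J.obj * J'.obj) (by
    rw [PrimeSpectrum.zeroLocus_mul]; exact Set.union_subset (zl J) (zl J'))

lemma infJ_obj (J J' : Dual2.IdealsIn T) : (infJ J J').obj = J.obj ⊓ J'.obj := rfl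
lemma mulJ_obj (J J' : Dual2.IdealsIn T) : (mulJ J J').obj = J.obj * J'.obj := rfl
lemma infJ_le_left (J J' : Dual2.IdealsIn T) : (infJ J J').obj ≤ J.obj := inf_le_left
lemma infJ_le_right (J J' : Dual2.IdealsIn T) : (infJ J J').obj ≤ J'.obj := inf_le_right

instance : IsCofiltered (Dual2.IdealsIn T) where
  cone_objs J J' := ⟨infJ J J', ObjectProperty.homMk (homOfLE (infJ_le_left J J')),
    ObjectProperty.homMk (homOfLE (infJ_le_right J J')), trivial⟩
  cone_maps J J' f g := ⟨J, 𝟙 J, by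
    apply ObjectProperty.hom_ext
    exact Subsingleton.elim _ _⟩
  nonempty := ⟨topJ T⟩

/-- `R / J` as an object -/
abbrev QT (J : Dual2.IdealsIn T) : ModuleCat.{u} R := ModuleCat.of R (R ⧸ J.obj)

/-- projection `R/J' → R/J` for `J' ≤ J` -/
def projT {J J' : Dual2.IdealsIn T} (h : J'.obj ≤ J.obj) : QT J' ⟶ QT J :=
  ModuleCat.ofHom (Submodule.mapQ _ _ LinearMap.id h)

/-- the morphism in the index category -/
def idxHom {J J' : Dual2.IdealsIn T} (h : J'.obj ≤ J.obj) :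
    (op J : (Dual2.IdealsIn T)ᵒᵖ) ⟶ op J' :=
  Quiver.Hom.op (ObjectProperty.homMk (homOfLE h) : J' ⟶ J)

lemma hom_eq_idxHom {J : Dual2.IdealsIn T} {k : (Dual2.IdealsIn T)ᵒᵖ} (f : op J ⟶ k) :
    ∃ h : k.unop.obj ≤ J.obj, f = idxHom (J' := k.unop) h := by
  refine ⟨leOfHom f.unop.hom, ?_⟩
  apply Quiver.Hom.unop_inj
  apply ObjectProperty.hom_ext
  exact Subsingleton.elim _ _

end Index

section API

variable (T : Set (PrimeSpectrum R)) (i : ℕ)

/-- the `T`-local cohomology functor -/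
noncomputable abbrev HTf : ModuleCat.{u} R ⥤ ModuleCat.{u} R :=
  ofDiagram.{u, u} (Dual2.idealsInDiagram T) i

lemma diagram_map_idxHom {J J' : Dual2.IdealsIn T} (h : J'.obj ≤ J.obj) :
    (diagram (Dual2.idealsInDiagram T) i).map (idxHom h) =
      (Ext R (ModuleCat.{u} R) i).map (projT h).op := rfl

variable {T} in
lemma diagram_map_app_symm {J J' : Dual2.IdealsIn T} (h : J'.obj ≤ J.obj) (M : ModuleCat.{u} R)
    (e : Abelian.Ext (QT J) M i) :
    (((diagram (Dual2.idealsInDiagram T) i).map (idxHom h)).app M) ((cmpC (QT J) M i).symm e) =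
      (cmpC (QT J') M i).symm ((Ext.mk₀ (projT h)).comp e (zero_add i)) :=
  cmpC_symm_pre (projT h) M i e

/-- the evaluated colimit cocone is a colimit. -/
noncomputable def isColimitEval (M : ModuleCat.{u} R) :
    IsColimit (((evaluation _ _).obj M).mapCocone
      (colimit.cocone (diagram (Dual2.idealsInDiagram T) i))) :=
  isColimitOfPreserves _ (colimit.isColimit _)

variable {T}

/-- the structure map from the Ext group to `T`-local cohomology. -/
noncomputable def ιT (J : Dual2.IdealsIn T) (M : ModuleCat.{u} R) :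
    Abelian.Ext (QT J) M i →ₗ[R] (HTf T i).obj M :=
  ((colimit.ι (diagram (Dual2.idealsInDiagram T) i) (op J)).app M).hom ∘ₗ
    (cmpC (QT J) M i).symm.toLinearMap

lemma ιT_trans {J J' : Dual2.IdealsIn T} (h : J'.obj ≤ J.obj) (M : ModuleCat.{u} R)
    (e : Abelian.Ext (QT J) M i) :
    ιT i J' M ((Ext.mk₀ (projT h)).comp e (zero_add i)) = ιT i J M e := by
  have hw := colimit.w (diagram (Dual2.idealsInDiagram T) i) (idxHom h)
  have hw' := congrArg (fun α => (α.app M).hom ((cmpC (QT J) M i).symm e)) hw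
  change ((colimit.ι (diagram (Dual2.idealsInDiagram T) i) (op J')).app M)
    ((((diagram (Dual2.idealsInDiagram T) i).map (idxHom h)).app M)
      ((cmpC (QT J) M i).symm e)) = _ at hw'
  rw [diagram_map_app_symm] at hw'
  exact hw'

lemma ιT_map (J : Dual2.IdealsIn T) {M M' : ModuleCat.{u} R} (f : M ⟶ M')
    (e : Abelian.Ext (QT J) M i) :
    ((HTf T i).map f) (ιT i J M e) = ιT i J M' (e.comp (Ext.mk₀ f) (add_zero i)) := by
  have hn := (colimit.ι (diagram (Dual2.idealsInDiagram T) i) (op J)).naturality f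
  have hn' := congrArg (fun α => α.hom ((cmpC (QT J) M i).symm e)) hn
  change ((colimit.ι (diagram (Dual2.idealsInDiagram T) i) (op J)).app M')
    ((((diagram (Dual2.idealsInDiagram T) i).obj (op J)).map f) ((cmpC (QT J) M i).symm e)) = _
    at hn'
  have h2 : (((diagram (Dual2.idealsInDiagram T) i).obj (op J)).map f)
      ((cmpC (QT J) M i).symm e) =
      (cmpC (QT J) M' i).symm (e.comp (Ext.mk₀ f) (add_zero i)) := cmpC_symm_post f i e
  rw [h2] at hn'
  exact hn'.symm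

variable (T) in
lemma old_rep (M : ModuleCat.{u} R) (x : (HTf T i).obj M) :
    ∃ (J : Dual2.IdealsIn T) (y : ((Ext R (ModuleCat.{u} R) i).obj (op (QT J))).obj M),
      ((colimit.ι (diagram (Dual2.idealsInDiagram T) i) (op J)).app M) y = x := by
  obtain ⟨j, y, hy⟩ := Concrete.isColimit_exists_rep
    (diagram (Dual2.idealsInDiagram T) i ⋙ (evaluation _ _).obj M) (isColimitEval T i M) x
  exact ⟨j.unop, y, hy⟩

lemma old_eq {J J' : Dual2.IdealsIn T} (M : ModuleCat.{u} R)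
    (y : ((Ext R (ModuleCat.{u} R) i).obj (op (QT J))).obj M)
    (y' : ((Ext R (ModuleCat.{u} R) i).obj (op (QT J'))).obj M)
    (h : ((colimit.ι (diagram (Dual2.idealsInDiagram T) i) (op J)).app M) y =
      ((colimit.ι (diagram (Dual2.idealsInDiagram T) i) (op J')).app M) y') :
    ∃ (K : Dual2.IdealsIn T) (hn : K.obj ≤ J.obj) (hm : K.obj ≤ J'.obj),
      (((diagram (Dual2.idealsInDiagram T) i).map (idxHom hn)).app M) y =
        (((diagram (Dual2.idealsInDiagram T) i).map (idxHom hm)).app M) y' := by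
  obtain ⟨k, f, g, hfg⟩ := Concrete.isColimit_exists_of_rep_eq
    (diagram (Dual2.idealsInDiagram T) i ⋙ (evaluation _ _).obj M)
    (i := op J) (j := op J') (isColimitEval T i M) y y' h
  obtain ⟨hn, hf⟩ := hom_eq_idxHom f
  obtain ⟨hm, hg⟩ := hom_eq_idxHom g
  refine ⟨k.unop, hn, hm, ?_⟩
  rw [hf, hg] at hfg
  exact hfg

variable (T) in
lemma ιT_rep (M : ModuleCat.{u} R) (x : (HTf T i).obj M) :
    ∃ (J : Dual2.IdealsIn T) (e : Abelian.Ext (QT J) M i), ιT i J M e = x := by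
  obtain ⟨J, y, hy⟩ := old_rep T i M x
  refine ⟨J, cmpC (QT J) M i y, ?_⟩
  change ((colimit.ι (diagram (Dual2.idealsInDiagram T) i) (op J)).app M)
    ((cmpC (QT J) M i).symm (cmpC (QT J) M i y)) = x
  rw [LinearEquiv.symm_apply_apply]
  exact hy

lemma ιT_eq_iff {J J' : Dual2.IdealsIn T} (M : ModuleCat.{u} R) (e : Abelian.Ext (QT J) M i)
    (e' : Abelian.Ext (QT J') M i) :
    ιT i J M e = ιT i J' M e' ↔ ∃ (K : Dual2.IdealsIn T) (hn : K.obj ≤ J.obj)
      (hm : K.obj ≤ J'.obj),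
      (Ext.mk₀ (projT hn)).comp e (zero_add i) = (Ext.mk₀ (projT hm)).comp e' (zero_add i) := by
  constructor
  · intro h
    obtain ⟨K, hn, hm, hfg⟩ := old_eq i M ((cmpC (QT J) M i).symm e)
      ((cmpC (QT J') M i).symm e') h
    refine ⟨K, hn, hm, ?_⟩
    rw [diagram_map_app_symm, diagram_map_app_symm] at hfg
    exact (cmpC (QT K) M i).symm.injective hfg
  · rintro ⟨K, hn, hm, h⟩
    rw [← ιT_trans i hn, ← ιT_trans i hm, h]

lemma ιT_eq_zero_iff {J : Dual2.IdealsIn T} (M : ModuleCat.{u} R) (e : Abelian.Ext (QT J) M i) :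
    ιT i J M e = 0 ↔ ∃ (K : Dual2.IdealsIn T) (h : K.obj ≤ J.obj),
      (Ext.mk₀ (projT h)).comp e (zero_add i) = 0 := by
  constructor
  · intro h
    have h' : ιT i J M e = ιT i J M 0 := by rw [h, map_zero]
    obtain ⟨K, hn, hm, hk⟩ := (ιT_eq_iff i M e 0).mp h'
    exact ⟨K, hn, by rw [hk, Ext.comp_zero]⟩
  · rintro ⟨K, h, hk⟩
    rw [← ιT_trans i h, hk, map_zero]

lemma trans_compT {J J' : Dual2.IdealsIn T} (h : J'.obj ≤ J.obj) {M M' : ModuleCat.{u} R}
    {a b c : ℕ} (e : Abelian.Ext (QT J) M a) (β : Abelian.Ext M M' b) (hc : a + b = c) :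
    (Ext.mk₀ (projT h)).comp (e.comp β hc) (zero_add c) =
      ((Ext.mk₀ (projT h)).comp e (zero_add a)).comp β hc := by
  rw [Ext.comp_assoc _ _ _ (zero_add a) hc (by omega)]

section LES

variable {S : ShortComplex (ModuleCat.{u} R)} (hS : S.ShortExact)

/-- the connecting map as a function. -/
noncomputable def δFunT (x : (HTf T i).obj S.X₃) : (HTf T (i + 1)).obj S.X₁ :=
  ιT (i + 1) (ιT_rep T i S.X₃ x).choose S.X₁
    ((ιT_rep T i S.X₃ x).choose_spec.choose.comp hS.extClass rfl)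

lemma δFunT_ι {J : Dual2.IdealsIn T} (e : Abelian.Ext (QT J) S.X₃ i) :
    δFunT i hS (ιT i J S.X₃ e) = ιT (i + 1) J S.X₁ (e.comp hS.extClass rfl) := by
  unfold δFunT
  set x := ιT i J S.X₃ e with hx
  have hspec := (ιT_rep T i S.X₃ x).choose_spec.choose_spec
  set J' := (ιT_rep T i S.X₃ x).choose
  set e' := (ιT_rep T i S.X₃ x).choose_spec.choose
  obtain ⟨K, hn, hm, hk⟩ := (ιT_eq_iff i S.X₃ e' e).mp hspec
  rw [← ιT_trans (i + 1) hn, ← ιT_trans (i + 1) hm, trans_compT, trans_compT, hk]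

/-- the connecting homomorphism in `T`-local cohomology. -/
noncomputable def δT : (HTf T i).obj S.X₃ →ₗ[R] (HTf T (i + 1)).obj S.X₁ where
  toFun := δFunT i hS
  map_add' x y := by
    obtain ⟨J, e, rfl⟩ := ιT_rep T i S.X₃ x
    obtain ⟨J', e', rfl⟩ := ιT_rep T i S.X₃ y
    have hn := infJ_le_left J J'
    have hm := infJ_le_right J J'
    rw [← ιT_trans i hn, ← ιT_trans i hm, ← map_add, δFunT_ι, δFunT_ι, δFunT_ι, Ext.add_comp,
      map_add]
  map_smul' r x := by
    obtain ⟨J, e, rfl⟩ := ιT_rep T i S.X₃ x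
    rw [← map_smul, δFunT_ι, δFunT_ι, RingHom.id_apply, Ext.smul_comp, map_smul]

lemma δT_ι {J : Dual2.IdealsIn T} (e : Abelian.Ext (QT J) S.X₃ i) :
    δT i hS (ιT i J S.X₃ e) = ιT (i + 1) J S.X₁ (e.comp hS.extClass rfl) :=
  δFunT_ι i hS e

include hS in
lemma exact_f_gT : Function.Exact ((HTf T i).map S.f) ((HTf T i).map S.g) := by
  intro x
  constructor
  · intro hx
    obtain ⟨J, e, rfl⟩ := ιT_rep T i S.X₂ x
    rw [ιT_map, ιT_eq_zero_iff] at hx
    obtain ⟨K, h, hk⟩ := hx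
    rw [trans_compT] at hk
    obtain ⟨e₁, he₁⟩ := Ext.covariant_sequence_exact₂ _ hS _ hk
    refine ⟨ιT i K S.X₁ e₁, ?_⟩
    rw [ιT_map, he₁, ιT_trans]
  · rintro ⟨y, rfl⟩
    obtain ⟨J, e, rfl⟩ := ιT_rep T i S.X₁ y
    rw [ιT_map, ιT_map, Ext.comp_assoc_of_third_deg_zero, Ext.mk₀_comp_mk₀, S.zero, Ext.mk₀_zero,
      Ext.comp_zero, map_zero]

lemma exact_g_δT : Function.Exact ((HTf T i).map S.g) (δT i hS) := by
  intro x
  constructor
  · intro hx
    obtain ⟨J, e, rfl⟩ := ιT_rep T i S.X₃ x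
    rw [δT_ι, ιT_eq_zero_iff] at hx
    obtain ⟨K, h, hk⟩ := hx
    rw [trans_compT] at hk
    obtain ⟨e₂, he₂⟩ := Ext.covariant_sequence_exact₃ _ hS _ rfl hk
    refine ⟨ιT i K S.X₂ e₂, ?_⟩
    rw [ιT_map, he₂, ιT_trans]
  · rintro ⟨y, rfl⟩
    obtain ⟨J, e, rfl⟩ := ιT_rep T i S.X₂ y
    rw [ιT_map, δT_ι, Ext.comp_assoc_of_second_deg_zero, hS.comp_extClass, Ext.comp_zero, map_zero]

lemma exact_δT_f : Function.Exact (δT i hS) ((HTf T (i + 1)).map S.f) := by
  intro x
  constructor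
  · intro hx
    obtain ⟨J, e, rfl⟩ := ιT_rep T (i + 1) S.X₁ x
    rw [ιT_map, ιT_eq_zero_iff] at hx
    obtain ⟨K, h, hk⟩ := hx
    rw [trans_compT] at hk
    obtain ⟨e₃, he₃⟩ := Ext.covariant_sequence_exact₁ _ hS _ hk rfl
    refine ⟨ιT i K S.X₃ e₃, ?_⟩
    rw [δT_ι, he₃, ιT_trans]
  · rintro ⟨y, rfl⟩
    obtain ⟨J, e, rfl⟩ := ιT_rep T i S.X₃ y
    rw [δT_ι, ιT_map, Ext.comp_assoc_of_third_deg_zero, hS.extClass_comp, Ext.comp_zero, map_zero]

end LES

section Desc

variable {M : ModuleCat.{u} R} {N : Type*} [AddCommGroup N] [Module R N]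
  (g : ∀ J : Dual2.IdealsIn T, Abelian.Ext (QT J) M i →ₗ[R] N)
  (hg : ∀ (J J' : Dual2.IdealsIn T) (h : J'.obj ≤ J.obj) (e : Abelian.Ext (QT J) M i),
    g J' ((Ext.mk₀ (projT h)).comp e (zero_add i)) = g J e)

/-- underlying function of `descT`. -/
noncomputable def descFunT (x : (HTf T i).obj M) : N :=
  g (ιT_rep T i M x).choose (ιT_rep T i M x).choose_spec.choose

include hg in
lemma descFunT_ι {J : Dual2.IdealsIn T} (e : Abelian.Ext (QT J) M i) :
    descFunT i g (ιT i J M e) = g J e := by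
  unfold descFunT
  set x := ιT i J M e with hx
  have hspec := (ιT_rep T i M x).choose_spec.choose_spec
  set J' := (ιT_rep T i M x).choose
  set e' := (ιT_rep T i M x).choose_spec.choose
  obtain ⟨K, hn, hm, hk⟩ := (ιT_eq_iff i M e' e).mp hspec
  rw [← hg J' K hn, ← hg J K hm, hk]

/-- a compatible family of linear maps out of the Ext groups induces a map out of `T`-local
cohomology. -/
noncomputable def descT : (HTf T i).obj M →ₗ[R] N where
  toFun := descFunT i g
  map_add' x y := by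
    obtain ⟨J, e, rfl⟩ := ιT_rep T i M x
    obtain ⟨J', e', rfl⟩ := ιT_rep T i M y
    have hn := infJ_le_left J J'
    have hm := infJ_le_right J J'
    rw [← ιT_trans i hn, ← ιT_trans i hm, ← map_add, descFunT_ι i g hg, descFunT_ι i g hg,
      descFunT_ι i g hg, map_add]
  map_smul' r x := by
    obtain ⟨J, e, rfl⟩ := ιT_rep T i M x
    rw [← map_smul, descFunT_ι i g hg, descFunT_ι i g hg, RingHom.id_apply, map_smul]

lemma descT_ι {J : Dual2.IdealsIn T} (e : Abelian.Ext (QT J) M i) :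
    descT i g hg (ιT i J M e) = g J e :=
  descFunT_ι i g hg e

end Desc

section Torsion

lemma smul_ext_eq_zeroT {J : Dual2.IdealsIn T} {M : ModuleCat.{u} R} (e : Abelian.Ext (QT J) M i)
    (a : R) (ha : a ∈ J.obj) : a • e = 0 := by
  have h1 : a • e = (Ext.mk₀ (a • 𝟙 (QT J))).comp e (zero_add i) := by
    rw [Ext.mk₀_smul, Ext.smul_comp, Ext.mk₀_id_comp]
  have h2 : a • 𝟙 (QT J) = 0 := by
    apply ModuleCat.hom_ext
    apply LinearMap.ext
    intro x
    obtain ⟨x, rfl⟩ := Submodule.Quotient.mk_surjective _ x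
    change a • (Submodule.Quotient.mk x : R ⧸ J.obj) = 0
    rw [← Submodule.Quotient.mk_smul, Submodule.Quotient.mk_eq_zero, smul_eq_mul]
    exact Ideal.mul_mem_right _ _ ha
  rw [h1, h2, Ext.mk₀_zero, Ext.zero_comp]

variable (T) in
lemma isTorsT (M : ModuleCat.{u} R) (x : (HTf T i).obj M) :
    ∃ J : Dual2.IdealsIn T, ∀ a ∈ J.obj, a • x = 0 := by
  obtain ⟨J, e, rfl⟩ := ιT_rep T i M x
  refine ⟨J, fun a ha => ?_⟩
  rw [← map_smul, smul_ext_eq_zeroT i e a ha, map_zero]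

lemma map_smul_idT (M : ModuleCat.{u} R) (r : R) (x : (HTf T i).obj M) :
    ((HTf T i).map (r • 𝟙 M)) x = r • x := by
  obtain ⟨J, e, rfl⟩ := ιT_rep T i M x
  rw [ιT_map, ← Ext.smul_eq_comp_mk₀, map_smul]

end Torsion

end API

end Groth.Agent.Helper3.HTLC
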