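import Groth.Agent.Lib.Helper3.HTLC

set_option autoImplicit false
universe u
open CategoryTheory CategoryTheory.Limits Opposite

namespace Groth.Agent.Helper3.HTLC

open Abelian localCohomology Groth.Agent.Helper8.LC

variable {R : Type u} [CommRing R]

section Tors

variable (T : Set (PrimeSpectrum R))

/-- the `T`-torsion submodule: elements killed by an ideal whose zero locus lies in `T`. -/
def torsT (M : Type u) [AddCommGroup M] [Module R M] : Submodule R M where
  carrier := {m | ∃ J : Dual2.IdealsIn T, ∀ a ∈ J.obj, a • m = 0}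
  zero_mem' := ⟨topJ T, fun a _ => smul_zero a⟩
  add_mem' := by
    rintro m m' ⟨J, hJ⟩ ⟨J', hJ'⟩
    refine ⟨infJ J J', fun a ha => ?_⟩
    rw [infJ_obj] at ha
    rw [smul_add, hJ a (Submodule.mem_inf.mp ha).1, hJ' a (Submodule.mem_inf.mp ha).2, add_zero]
  smul_mem' := by
    rintro c m ⟨J, hJ⟩
    exact ⟨J, fun a ha => by rw [smul_comm, hJ a ha, smul_zero]⟩

variable {T}

lemma mem_torsT {M : Type u} [AddCommGroup M] [Module R M] (m : M) :
    m ∈ torsT T M ↔ ∃ J : Dual2.IdealsIn T, ∀ a ∈ J.obj, a • m = 0 := Iff.rfl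

lemma torsionSub_le_torsT (J : Dual2.IdealsIn T) (M : Type u) [AddCommGroup M] [Module R M] :
    DRing.torsionSub J.obj M ≤ torsT T M := by
  rintro m ⟨n, hn⟩
  exact ⟨mkJ T (J.obj ^ n) (zl_pow J n), hn⟩

/-- a uniform annihilator for a finite module all of whose elements are `T`-torsion. -/
lemma exists_uniform (N : Type u) [AddCommGroup N] [Module R N] [Module.Finite R N]
    (hN : ∀ x : N, ∃ J : Dual2.IdealsIn T, ∀ a ∈ J.obj, a • x = 0) :
    ∃ J : Dual2.IdealsIn T, ∀ a ∈ J.obj, ∀ x : N, a • x = 0 := by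
  have key : ∀ (N' : Submodule R N), N'.FG →
      ∃ J : Dual2.IdealsIn T, ∀ a ∈ J.obj, ∀ x ∈ N', a • x = 0 := by
    intro N' hN'
    refine Submodule.fg_induction (motive := fun N' _ =>
      ∃ J : Dual2.IdealsIn T, ∀ a ∈ J.obj, ∀ x ∈ N', a • x = 0) ?_ ?_ N' hN'
    · intro x
      obtain ⟨J, hJ⟩ := hN x
      refine ⟨J, fun a ha y hy => ?_⟩
      obtain ⟨c, rfl⟩ := Submodule.mem_span_singleton.mp hy
      rw [smul_comm, hJ a ha, smul_zero]
    · rintro N₁ N₂ _ _ ⟨J₁, h₁⟩ ⟨J₂, h₂⟩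
      refine ⟨infJ J₁ J₂, fun a ha y hy => ?_⟩
      rw [infJ_obj] at ha
      obtain ⟨y₁, hy₁, y₂, hy₂, rfl⟩ := Submodule.mem_sup.mp hy
      rw [smul_add, h₁ a (Submodule.mem_inf.mp ha).1 y₁ hy₁,
        h₂ a (Submodule.mem_inf.mp ha).2 y₂ hy₂, add_zero]
  obtain ⟨J, hJ⟩ := key ⊤ Module.Finite.fg_top
  exact ⟨J, fun a ha x => hJ a ha x Submodule.mem_top⟩

lemma exists_common (P : ℕ → Dual2.IdealsIn T → Prop)
    (hmono : ∀ i (J J' : Dual2.IdealsIn T), J'.obj ≤ J.obj → P i J → P i J') (n : ℕ)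
    (h : ∀ i ≤ n, ∃ J, P i J) : ∃ J, ∀ i ≤ n, P i J := by
  induction n with
  | zero =>
    obtain ⟨J, hJ⟩ := h 0 le_rfl
    refine ⟨J, fun i hi => ?_⟩
    obtain rfl : i = 0 := by omega
    exact hJ
  | succ n ih =>
    obtain ⟨J, hJ⟩ := ih (fun i hi => h i (by omega))
    obtain ⟨J', hJ'⟩ := h (n + 1) le_rfl
    refine ⟨infJ J J', fun i hi => ?_⟩
    rcases Nat.lt_or_ge i (n + 1) with h1 | h1
    · exact hmono i J _ (infJ_le_left J J') (hJ i (by omega))
    · obtain rfl : i = n + 1 := by omega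
      exact hmono _ J' _ (infJ_le_right J J') hJ'

variable [IsNoetherianRing R]

variable (T) in
lemma exists_kill_torsT (M : Type u) [AddCommGroup M] [Module R M] [Module.Finite R M] :
    ∃ J₀ : Dual2.IdealsIn T, ∀ a ∈ J₀.obj, ∀ x : torsT T M, a • x = 0 := by
  apply exists_uniform
  rintro ⟨m, J, hJ⟩
  exact ⟨J, fun a ha => Subtype.ext (hJ a ha)⟩

variable (T) in
lemma torsT_quotient_eq_bot (M : Type u) [AddCommGroup M] [Module R M] [Module.Finite R M] :
    torsT T (M ⧸ torsT T M) = ⊥ := by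
  rw [eq_bot_iff]
  rintro x ⟨J, hJ⟩
  obtain ⟨m, rfl⟩ := Submodule.Quotient.mk_surjective _ x
  rw [Submodule.mem_bot, Submodule.Quotient.mk_eq_zero]
  obtain ⟨J₀, hJ₀⟩ := exists_kill_torsT T M
  refine ⟨mulJ J₀ J, fun c hc => ?_⟩
  rw [mulJ_obj] at hc
  refine Submodule.mul_induction_on hc ?_ ?_
  · intro a ha b hb
    have hbm : b • m ∈ torsT T M := by
      have := hJ b hb
      rw [← Submodule.Quotient.mk_smul, Submodule.Quotient.mk_eq_zero] at this
      exact this
    have := hJ₀ a ha ⟨b • m, hbm⟩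
    rw [mul_smul]
    exact congrArg Subtype.val this
  · intro a b ha hb
    rw [add_smul, ha, hb, add_zero]

lemma exists_isSMulRegular_mem (J : Dual2.IdealsIn T) (M : Type u) [AddCommGroup M] [Module R M]
    [Module.Finite R M] (hM : torsT T M = ⊥) : ∃ x ∈ J.obj, IsSMulRegular M x := by
  have h0 : DRing.torsionSub J.obj M = ⊥ := by
    rw [eq_bot_iff, ← hM]
    exact torsionSub_le_torsT J M
  obtain ⟨x, hx, hreg⟩ := exists_isSMulRegular_mem_pow J.obj M h0 1
  rw [pow_one] at hx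
  exact ⟨x, hx, hreg⟩

end Tors

section H0

variable {T : Set (PrimeSpectrum R)} (M : ModuleCat.{u} R)

/-- the class of `1` in `R / J`. -/
def oneT (J : Dual2.IdealsIn T) : QT J := (Submodule.Quotient.mk 1 : R ⧸ J.obj)

/-- evaluation at one of a degree zero Ext class. -/
noncomputable def valT (J : Dual2.IdealsIn T) : Abelian.Ext (QT J) M 0 →ₗ[R] M where
  toFun e := (Ext.linearEquiv₀ (R := R) e).hom (oneT J)
  map_add' e e' := by rw [map_add]; rfl
  map_smul' r e := by rw [map_smul]; rfl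

lemma valT_mk₀ (J : Dual2.IdealsIn T) (f : QT J ⟶ M) : valT M J (Ext.mk₀ f) = f (oneT J) := by
  change (Ext.linearEquiv₀ (R := R) (Ext.mk₀ f)).hom (oneT J) = _
  have : Ext.linearEquiv₀ (R := R) (Ext.mk₀ f) = f := by
    apply (Ext.linearEquiv₀ (R := R)).symm.injective
    rw [LinearEquiv.symm_apply_apply]
    rfl
  rw [this]

lemma valT_trans {J J' : Dual2.IdealsIn T} (h : J'.obj ≤ J.obj) (e : Abelian.Ext (QT J) M 0) :
    valT M J' ((Ext.mk₀ (projT h)).comp e (zero_add 0)) = valT M J e := by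
  obtain ⟨f, rfl⟩ : ∃ f, Ext.mk₀ f = e := ⟨_, Ext.mk₀_linearEquiv₀_apply (R := R) e⟩
  rw [Ext.mk₀_comp_mk₀, valT_mk₀, valT_mk₀]
  rfl

variable (T) in
/-- the evaluation map `H^0_T(M) → M`. -/
noncomputable def ev0T : (HTf T 0).obj M →ₗ[R] M :=
  descT 0 (valT M) (fun _ _ h e => valT_trans M h e)

lemma ev0T_ι {J : Dual2.IdealsIn T} (e : Abelian.Ext (QT J) M 0) :
    ev0T T M (ιT 0 J M e) = valT M J e :=
  descT_ι 0 _ _ e

lemma hom_ext_oneT {J : Dual2.IdealsIn T} {f g : QT J ⟶ M} (h : f (oneT J) = g (oneT J)) :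
    f = g := by
  apply ModuleCat.hom_ext
  apply LinearMap.ext
  intro x
  obtain ⟨x, rfl⟩ := Submodule.Quotient.mk_surjective _ x
  have hx : (Submodule.Quotient.mk x : R ⧸ J.obj) = x • oneT J := by
    change _ = x • (Submodule.Quotient.mk 1 : R ⧸ J.obj)
    rw [← Submodule.Quotient.mk_smul, smul_eq_mul, mul_one]
  change f.hom (Submodule.Quotient.mk x : R ⧸ J.obj) = g.hom (Submodule.Quotient.mk x : R ⧸ J.obj)
  rw [hx, map_smul, map_smul]
  exact congrArg (x • ·) h

variable (T) in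
lemma ev0T_injective : Function.Injective (ev0T T M) := by
  rw [injective_iff_map_eq_zero]
  intro x hx
  obtain ⟨J, e, rfl⟩ := ιT_rep T 0 M x
  rw [ev0T_ι] at hx
  obtain ⟨f, rfl⟩ : ∃ f, Ext.mk₀ f = e := ⟨_, Ext.mk₀_linearEquiv₀_apply (R := R) e⟩
  rw [valT_mk₀] at hx
  have hf : f = 0 := hom_ext_oneT M (by rw [hx]; rfl)
  rw [hf, Ext.mk₀_zero, map_zero]

variable (T) in
lemma ev0T_mem (x : (HTf T 0).obj M) : ev0T T M x ∈ torsT T M := by
  obtain ⟨J, hJ⟩ := isTorsT T 0 M x
  exact ⟨J, fun a ha => by rw [← map_smul, hJ a ha, map_zero]⟩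

end H0

section Main

variable (T : Set (PrimeSpectrum R)) [IsNoetherianRing R]

lemma finite_h0T (M : Type u) [AddCommGroup M] [Module R M] [Module.Finite R M] :
    Module.Finite R ((HTf T 0).obj (ModuleCat.of R M)) :=
  Module.Finite.of_injective (ev0T T (ModuleCat.of R M)) (ev0T_injective T (ModuleCat.of R M))

variable {T} in
/-- `T`-local cohomology of a module killed by an ideal in `T` vanishes in positive degrees. -/
theorem subsingleton_of_torsion (i : ℕ) (hi : 0 < i) (N : Type u) [AddCommGroup N]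
    [Module R N] (J₀ : Dual2.IdealsIn T) (hN : ∀ a ∈ J₀.obj, ∀ x : N, a • x = 0) :
    Subsingleton ((HTf T i).obj (ModuleCat.of R N)) := by
  refine ⟨fun x y => ?_⟩
  suffices h : ∀ z : (HTf T i).obj (ModuleCat.of R N), z = 0 by rw [h x, h y]
  intro z
  obtain ⟨J, e, rfl⟩ := ιT_rep T i (ModuleCat.of R N) z
  let J' : Ideal R := J.obj ⊓ J₀.obj
  have hJ'T : PrimeSpectrum.zeroLocus (J' : Set R) ⊆ T := zl (infJ J J₀)
  have hNJ' : LocCoh.IsPowerTorsion J' N := fun m => ⟨1, fun a ha => by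
    rw [pow_one] at ha
    exact hN a (Submodule.mem_inf.mp ha).2 m⟩
  haveI := subsingleton_of_isPowerTorsion J' i hi N hNJ'
  have h1 : J' ^ 1 ≤ J.obj := by rw [pow_one]; exact inf_le_left
  let p₁ : Q J' 1 ⟶ QT J := ModuleCat.ofHom (Submodule.mapQ _ _ LinearMap.id h1)
  have hz : ι J' i 1 (ModuleCat.of R N) ((Ext.mk₀ p₁).comp e (zero_add i)) = 0 :=
    Subsingleton.elim _ _
  obtain ⟨k, hk, hk0⟩ := (ι_eq_zero_iff J' i (ModuleCat.of R N) _).mp hz
  have hk' : k ≠ 0 := by omega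
  let J'' : Dual2.IdealsIn T := mkJ T (J' ^ k) (by
    rw [PrimeSpectrum.zeroLocus_pow _ hk']; exact hJ'T)
  have hle : J''.obj ≤ J.obj := (Ideal.pow_le_pow_right hk).trans h1
  have hcomp : projT hle = proj J' hk ≫ p₁ := by
    apply ModuleCat.hom_ext
    apply LinearMap.ext
    intro x
    obtain ⟨x, rfl⟩ := Submodule.Quotient.mk_surjective _ x
    rfl
  have key : (Ext.mk₀ (projT hle)).comp e (zero_add i) = 0 := by
    rw [hcomp]
    exact (Ext.mk₀_comp_mk₀_assoc (proj J' hk) p₁ e).symm.trans hk0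
  rw [← ιT_trans i hle, key, map_zero]

theorem bijective_map_mkQ_torsT (M : Type u) [AddCommGroup M] [Module R M] [Module.Finite R M]
    (i : ℕ) (hi : 0 < i) :
    Function.Bijective ((HTf T i).map (ModuleCat.ofHom (torsT T M).mkQ)).hom := by
  have hS := sesSub_shortExact (torsT T M)
  obtain ⟨J₀, hJ₀⟩ := exists_kill_torsT T M
  have h1 : Subsingleton ((HTf T i).obj (ModuleCat.of R (torsT T M))) :=
    subsingleton_of_torsion i hi _ J₀ hJ₀
  have h2 : Subsingleton ((HTf T (i + 1)).obj (ModuleCat.of R (torsT T M))) :=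
    subsingleton_of_torsion (i + 1) (Nat.succ_pos i) _ J₀ hJ₀
  constructor
  · rw [injective_iff_map_eq_zero]
    intro x hx
    obtain ⟨y, rfl⟩ := (exact_f_gT i hS x).mp hx
    have hy : y = 0 := Subsingleton.elim _ _
    rw [hy, map_zero]
  · intro y
    have hy : δT i hS y = 0 := Subsingleton.elim _ _
    exact (exact_g_δT i hS y).mp hy

/-- Faltings: annihilation by an ideal in `T` in degrees `≤ n` gives finiteness. -/
theorem finite_of_le_annihilator (n : ℕ) :
    ∀ (M : Type u) [AddCommGroup M] [Module R M] [Module.Finite R M] (J : Dual2.IdealsIn T)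
      (_ : ∀ i ≤ n, ∀ a ∈ J.obj, ∀ x : (HTf T i).obj (ModuleCat.of R M), a • x = 0),
      ∀ i ≤ n, Module.Finite R ((HTf T i).obj (ModuleCat.of R M)) := by
  induction n with
  | zero =>
    intro M _ _ _ J hJ i hi
    obtain rfl : i = 0 := by omega
    exact finite_h0T T M
  | succ n ih =>
    intro M _ _ _ J hJ i hi
    rcases Nat.eq_zero_or_pos i with rfl | hpos
    · exact finite_h0T T M
    let Γ := torsT T M
    have hbij : ∀ j, 0 < j → Function.Bijective
        ((HTf T j).map (ModuleCat.ofHom Γ.mkQ)).hom :=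
      fun j hj => bijective_map_mkQ_torsT T M j hj
    suffices h : Module.Finite R ((HTf T i).obj (ModuleCat.of R (M ⧸ Γ))) from
      Module.Finite.equiv (LinearEquiv.ofBijective _ (hbij i hpos)).symm
    have hM' : torsT T (M ⧸ Γ) = ⊥ := torsT_quotient_eq_bot T M
    have hJ' : ∀ j ≤ n + 1, ∀ a ∈ J.obj,
        ∀ y : (HTf T j).obj (ModuleCat.of R (M ⧸ Γ)), a • y = 0 := by
      intro j hj a ha y
      rcases Nat.eq_zero_or_pos j with rfl | hjpos
      · have h2 : ev0T T (ModuleCat.of R (M ⧸ Γ)) y ∈ torsT T (M ⧸ Γ) :=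
          ev0T_mem T (ModuleCat.of R (M ⧸ Γ)) y
        rw [hM', Submodule.mem_bot] at h2
        have hy : y = 0 := by
          apply ev0T_injective T (ModuleCat.of R (M ⧸ Γ))
          rw [map_zero]
          exact h2
        rw [hy, smul_zero]
      · obtain ⟨x, rfl⟩ := (hbij j hjpos).2 y
        have := hJ j hj a ha x
        rw [← map_smul, this, map_zero]
    obtain ⟨x, hx, hreg⟩ := exists_isSMulRegular_mem J (M ⧸ Γ) hM'
    have hS := IsSMulRegular.smulShortComplex_shortExact (M := ModuleCat.of R (M ⧸ Γ)) hreg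
    have hq : ∀ j ≤ n, ∀ c ∈ (mulJ J J).obj,
        ∀ z : (HTf T j).obj (ModuleCat.of R (QuotSMulTop x (M ⧸ Γ))), c • z = 0 := by
      intro j hj c hc
      rw [mulJ_obj] at hc
      have hz : ∀ z : (HTf T j).obj
          (ModuleCat.smulShortComplex (ModuleCat.of R (M ⧸ Γ)) x).X₃, c • z = 0 := by
        refine Submodule.mul_induction_on hc ?_ ?_
        · intro a ha b hb z
          have h1 : δT j hS (b • z) = 0 := by
            have e1 : δT j hS (b • z) = b • δT j hS z := (δT j hS).map_smul b z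
            rw [e1]
            exact hJ' (j + 1) (by omega) b hb _
          obtain ⟨y, hy⟩ := (exact_g_δT j hS (b • z)).mp h1
          have hay : a • y = 0 := hJ' j (by omega) a ha y
          have e2 := ((HTf T j).map
            (ModuleCat.smulShortComplex (ModuleCat.of R (M ⧸ Γ)) x).g).hom.map_smul a y
          rw [hay, map_zero] at e2
          rw [mul_smul, ← hy]
          exact e2.symm
        · intro a b ha hb z
          rw [add_smul, ha z, hb z, add_zero]
      exact fun z => hz z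
    have hfin := ih (QuotSMulTop x (M ⧸ Γ)) (mulJ J J) hq
    obtain ⟨j, rfl⟩ : ∃ j, i = j + 1 := ⟨i - 1, by omega⟩
    haveI : Module.Finite R ((HTf T j).obj
        (ModuleCat.smulShortComplex (ModuleCat.of R (M ⧸ Γ)) x).X₃) := hfin j (by omega)
    apply Module.Finite.of_surjective (δT j hS)
    intro z
    have h1 : ((HTf T (j + 1)).map
        (ModuleCat.smulShortComplex (ModuleCat.of R (M ⧸ Γ)) x).f) z = 0 :=
      (map_smul_idT (j + 1) (ModuleCat.of R (M ⧸ Γ)) x z).trans (hJ' (j + 1) hi x hx z)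
    exact (exact_δT_f j hS z).mp h1

omit [IsNoetherianRing R] in
theorem exists_annihilator_of_finite (n : ℕ) (M : ModuleCat.{u} R)
    (hfin : ∀ i ≤ n, Module.Finite R ((HTf T i).obj M)) :
    ∃ J : Dual2.IdealsIn T, ∀ i ≤ n, ∀ a ∈ J.obj, ∀ x : (HTf T i).obj M, a • x = 0 := by
  apply exists_common (fun i J => ∀ a ∈ J.obj, ∀ x : (HTf T i).obj M, a • x = 0)
  · intro i J J' h hJ a ha x
    exact hJ a (h ha) x
  · intro i hi
    haveI := hfin i hi
    exact exists_uniform _ (fun x => isTorsT T i M x)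

/-- Faltings' criterion for `T`-local cohomology. -/
theorem main (M : Type u) [AddCommGroup M] [Module R M] [Module.Finite R M] (n : ℕ) :
    (∀ i : ℕ, i ≤ n → Module.Finite R (Dual2.HT T i M)) ↔
      ∃ J : Ideal R, PrimeSpectrum.zeroLocus (J : Set R) ⊆ T ∧
        ∀ i : ℕ, i ≤ n → ∀ a ∈ J, ∀ x : Dual2.HT T i M, a • x = 0 := by
  constructor
  · intro h
    obtain ⟨J, hJ⟩ := exists_annihilator_of_finite T n (ModuleCat.of R M) h
    exact ⟨J.obj, zl J, hJ⟩
  · rintro ⟨J, hJT, hJ⟩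
    exact finite_of_le_annihilator T n M (mkJ T J hJT) hJ

end Main

end Groth.Agent.Helper3.HTLC
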