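import Mathlib

/-!
# Haar measure on a compact abelian group: iterated integrals over finite powers

Measurability (with respect to the product σ-algebra) and integrability of continuous functions on
finite powers of a compact Hausdorff group, a Fubini formula isolating one coordinate, continuity of
parametric integrals.
-/

set_option autoImplicit false
open MeasureTheory

namespace Groth.Agent.Helper3.HaarDev

universe u

section General

/-- continuity of a parametric integral over a compact space -/
theorem continuous_parametric {P Y : Type*} [TopologicalSpace P] [TopologicalSpace Y]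
    [CompactSpace Y] [MeasurableSpace Y] (ν : Measure Y) [IsProbabilityMeasure ν]
    (hint : ∀ f : C(Y, ℝ), Integrable (fun y => f y) ν) (F : P → Y → ℝ)
    (hF : Continuous (Function.uncurry F)) : Continuous (fun p => ∫ y, F p y ∂ν) := by
  let Φ : C(P, C(Y, ℝ)) := ContinuousMap.curry ⟨Function.uncurry F, hF⟩
  have hL : LipschitzWith 1 (fun f : C(Y, ℝ) => ∫ y, f y ∂ν) := by
    refine LipschitzWith.mk_one fun f g => ?_
    rw [Real.dist_eq, ← integral_sub (hint f) (hint g), ← Real.norm_eq_abs]
    have h1 : ∀ᵐ y ∂ν, ‖f y - g y‖ ≤ dist f g := Filter.Eventually.of_forall fun y => by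
      rw [← dist_eq_norm]
      exact ContinuousMap.dist_apply_le_dist y
    have h2 := norm_integral_le_of_norm_le_const h1
    rwa [probReal_univ, mul_one] at h2
  exact hL.continuous.comp Φ.continuous

end General

variable {G : Type u} [AddCommGroup G] [TopologicalSpace G] [IsTopologicalAddGroup G]
  [CompactSpace G] [T2Space G] [MeasurableSpace G] [BorelSpace G]

/-- a continuous function on a finite power of a compact Hausdorff space is measurable for the
product σ-algebra (Stone–Weierstrass) -/
theorem measurable_of_continuous_pi {n : ℕ} (F : (Fin n → G) → ℝ) (hF : Continuous F) :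
    Measurable F := by
  classical
  let gen : Set C(Fin n → G, ℝ) :=
    {f | ∃ (j : Fin n) (h : C(G, ℝ)), f = h.comp ⟨fun u => u j, continuous_apply j⟩}
  let 𝒜 : Subalgebra ℝ C(Fin n → G, ℝ) := Algebra.adjoin ℝ gen
  have hsep : 𝒜.SeparatesPoints := by
    intro u v huv
    obtain ⟨j, hj⟩ : ∃ j, u j ≠ v j := Function.ne_iff.mp huv
    obtain ⟨h, h0, h1, -⟩ := exists_continuous_zero_one_of_isClosed
      (isClosed_singleton (x := u j)) (isClosed_singleton (x := v j))
      (Set.disjoint_singleton.mpr hj)
    refine ⟨_, ⟨h.comp ⟨fun w => w j, continuous_apply j⟩,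
      Algebra.subset_adjoin ⟨j, h, rfl⟩, rfl⟩, ?_⟩
    have e0 : h (u j) = 0 := h0 (Set.mem_singleton _)
    have e1 : h (v j) = 1 := h1 (Set.mem_singleton _)
    change h (u j) ≠ h (v j)
    rw [e0, e1]
    exact zero_ne_one
  have htop := ContinuousMap.subalgebra_topologicalClosure_eq_top_of_separatesPoints 𝒜 hsep
  have hmem : (⟨F, hF⟩ : C(Fin n → G, ℝ)) ∈ closure (𝒜 : Set C(Fin n → G, ℝ)) := by
    have h1 : (⟨F, hF⟩ : C(Fin n → G, ℝ)) ∈ 𝒜.topologicalClosure := by
      rw [htop]; exact Algebra.mem_top
    exact h1
  obtain ⟨f, hf𝒜, hflim⟩ := mem_closure_iff_seq_limit.mp hmem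
  have hmeas : ∀ g ∈ 𝒜, Measurable (g : (Fin n → G) → ℝ) := by
    intro g hg
    induction hg using Algebra.adjoin_induction with
    | mem g hg =>
      obtain ⟨j, h, rfl⟩ := hg
      exact h.continuous.measurable.comp (measurable_pi_apply j)
    | algebraMap r => exact measurable_const
    | add g g' _ _ ih ih' => exact ih.add ih'
    | mul g g' _ _ ih ih' => exact ih.mul ih'
  refine measurable_of_tendsto_metrizable (fun k => hmeas (f k) (hf𝒜 k)) ?_
  rw [tendsto_pi_nhds]
  intro u
  exact ((continuous_eval_const (F := C(Fin n → G, ℝ)) u).tendsto _).comp hflim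

variable (μ : Measure G) [μ.IsAddHaarMeasure] [IsProbabilityMeasure μ]

theorem integrable_of_continuous (f : G → ℝ) (hf : Continuous f) : Integrable f μ := by
  obtain ⟨C, hC⟩ := isCompact_univ.exists_bound_of_continuousOn hf.continuousOn
  exact (integrable_const C).mono' hf.measurable.aestronglyMeasurable
    (Filter.Eventually.of_forall fun x => hC x (Set.mem_univ x))

theorem integrable_of_continuous_pi {n : ℕ} (F : (Fin n → G) → ℝ) (hF : Continuous F) :
    Integrable F (Measure.pi fun _ : Fin n => μ) := by
  obtain ⟨C, hC⟩ := isCompact_univ.exists_bound_of_continuousOn hF.continuousOn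
  exact (integrable_const C).mono' (measurable_of_continuous_pi F hF).aestronglyMeasurable
    (Filter.Eventually.of_forall fun x => hC x (Set.mem_univ x))

/-- Fubini: isolate the coordinate `p` -/
theorem integral_insertNth {n : ℕ} (p : Fin (n + 1)) (F : (Fin (n + 1) → G) → ℝ)
    (hF : Continuous F) :
    ∫ u, F u ∂(Measure.pi fun _ : Fin (n + 1) => μ)
      = ∫ u', (∫ c, F (Fin.insertNth (α := fun _ => G) p c u') ∂μ)
          ∂(Measure.pi fun _ : Fin n => μ) := by
  have MP := MeasurePreserving.symm _
    (measurePreserving_piFinSuccAbove (fun _ : Fin (n + 1) => μ) p)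
  rw [← MP.integral_comp' F]
  rw [integral_prod_symm]
  · simp only [MeasurableEquiv.piFinSuccAbove_symm_apply]
    rfl
  · exact (MP.integrable_comp_emb (MeasurableEquiv.measurableEmbedding _)).mpr
      (integrable_of_continuous_pi μ F hF)

theorem continuous_integral_cons {m : ℕ} (ψ : (Fin (m + 1) → G) → ℝ) (hψ : Continuous ψ) :
    Continuous (fun g : G => ∫ u, ψ (Fin.cons (α := fun _ => G) g u)
      ∂(Measure.pi fun _ : Fin m => μ)) := by
  refine continuous_parametric (Measure.pi fun _ : Fin m => μ)
    (fun f => integrable_of_continuous_pi μ _ f.continuous)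
    (fun g u => ψ (Fin.cons (α := fun _ => G) g u)) ?_
  exact hψ.comp (Continuous.finCons (A := fun _ => G) continuous_fst continuous_snd)

theorem continuous_integral_snoc {m : ℕ} (ψ : (Fin (m + 1) → G) → ℝ) (hψ : Continuous ψ) :
    Continuous (fun x' : Fin m → G => ∫ t, ψ (Fin.snoc (α := fun _ => G) x' t) ∂μ) := by
  refine continuous_parametric μ
    (fun f => integrable_of_continuous μ _ f.continuous)
    (fun x' t => ψ (Fin.snoc (α := fun _ => G) x' t)) ?_
  exact hψ.comp (Continuous.finSnoc (A := fun _ => G) continuous_fst continuous_snd)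

/-- a sum of coordinates containing a free coordinate integrates like a single variable -/
theorem integral_sum_cons {n : ℕ} (j' : Fin (n + 1)) (I : Finset (Fin (n + 2)))
    (hj : j'.succ ∈ I) (g : G) (φ : G → ℝ) (hφ : Continuous φ) :
    ∫ u, φ (∑ i ∈ I, (Fin.cons (α := fun _ => G) g u : Fin (n + 2) → G) i)
      ∂(Measure.pi fun _ : Fin (n + 1) => μ) = ∫ c, φ c ∂μ := by
  classical
  have hcont : Continuous (fun u : Fin (n + 1) → G =>
      φ (∑ i ∈ I, (Fin.cons (α := fun _ => G) g u : Fin (n + 2) → G) i)) :=
    hφ.comp (continuous_finsetSum I fun i _ => (continuous_apply i).comp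
      (Continuous.finCons (A := fun _ => G) continuous_const continuous_id))
  rw [integral_insertNth μ j' _ hcont]
  have key : ∀ (u' : Fin n → G) (c : G),
      ∑ i ∈ I, (Fin.cons (α := fun _ => G) g
        (Fin.insertNth (α := fun _ => G) j' c u') : Fin (n + 2) → G) i
      = c + ∑ i ∈ I.erase j'.succ, (Fin.cons (α := fun _ => G) g
        (Fin.insertNth (α := fun _ => G) j' 0 u') : Fin (n + 2) → G) i := by
    intro u' c
    rw [← Finset.add_sum_erase I _ hj]
    congr 1
    · rw [Fin.cons_succ, Fin.insertNth_apply_same]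
    · refine Finset.sum_congr rfl fun i hi => ?_
      have hne : i ≠ j'.succ := Finset.ne_of_mem_erase hi
      induction i using Fin.cases with
      | zero => rw [Fin.cons_zero, Fin.cons_zero]
      | succ k =>
        have hk : k ≠ j' := fun h => hne (by rw [h])
        obtain ⟨l, rfl⟩ := Fin.exists_succAbove_eq hk
        rw [Fin.cons_succ, Fin.cons_succ, Fin.insertNth_apply_succAbove,
          Fin.insertNth_apply_succAbove]
  simp_rw [key]
  have h2 : ∀ u' : Fin n → G, ∫ c, φ (c + ∑ i ∈ I.erase j'.succ, (Fin.cons (α := fun _ => G) g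
        (Fin.insertNth (α := fun _ => G) j' 0 u') : Fin (n + 2) → G) i) ∂μ = ∫ c, φ c ∂μ :=
    fun u' => integral_add_right_eq_self φ _
  simp_rw [h2]
  rw [integral_const, probReal_univ, one_smul]

end Groth.Agent.Helper3.HaarDev
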