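import Groth.Agent.Lib.Helper3.HaarDev1

/-!
# Multi-cocycles on a compact abelian group are iterated deviations of their Haar averages
-/

set_option autoImplicit false
open MeasureTheory

namespace Groth.Agent.Helper3.HaarDev

universe u

section Comb

variable {G : Type u} [AddCommGroup G]

/-- alternating sum over all subsets -/
def S (n : ℕ) (φ : G → ℝ) (x : Fin n → G) : ℝ :=
  ∑ I ∈ (Finset.univ : Finset (Fin n)).powerset, (-1 : ℝ) ^ I.card * φ (∑ i ∈ I, x i)

theorem S_zero (φ : G → ℝ) (x : Fin 0 → G) : S 0 φ x = φ 0 := by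
  simp [S]

theorem S_snoc (n : ℕ) (φ : G → ℝ) (x : Fin n → G) (b : G) :
    S (n + 1) φ (Fin.snoc (α := fun _ => G) x b) = S n φ x - S n (fun y => φ (y + b)) x := by
  classical
  have hu : (Finset.univ : Finset (Fin (n + 1)))
      = insert (Fin.last n) ((Finset.univ : Finset (Fin n)).image Fin.castSucc) := by
    ext i
    simp only [Finset.mem_univ, Finset.mem_insert, Finset.mem_image, true_and, true_iff]
    exact (Fin.eq_castSucc_or_eq_last i).symm.imp id (fun ⟨j, hj⟩ => ⟨j, hj.symm⟩)
  have hnot : Fin.last n ∉ (Finset.univ : Finset (Fin n)).image Fin.castSucc := by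
    simp only [Finset.mem_image, Finset.mem_univ, true_and, not_exists]
    intro j hj
    exact (Fin.castSucc_lt_last j).ne hj
  have hinj : Function.Injective (fun J : Finset (Fin n) => J.image Fin.castSucc) :=
    Finset.image_injective (Fin.castSucc_injective n)
  unfold S
  rw [hu, Finset.sum_powerset_insert hnot, Finset.powerset_image,
    Finset.sum_image (fun a _ b _ h => hinj h), Finset.sum_image (fun a _ b _ h => hinj h),
    sub_eq_add_neg, ← Finset.sum_neg_distrib]
  congr 1
  · refine Finset.sum_congr rfl fun J _ => ?_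
    rw [Finset.card_image_of_injective _ (Fin.castSucc_injective n),
      Finset.sum_image (fun a _ b _ h => Fin.castSucc_injective n h)]
    simp only [Fin.snoc_castSucc]
  · refine Finset.sum_congr rfl fun J _ => ?_
    have hJ : Fin.last n ∉ J.image Fin.castSucc := fun h =>
      hnot (Finset.image_subset_image (Finset.subset_univ J) h)
    rw [Finset.card_insert_of_notMem hJ, Finset.sum_insert hJ,
      Finset.card_image_of_injective _ (Fin.castSucc_injective n),
      Finset.sum_image (fun a _ b _ h => Fin.castSucc_injective n h), Fin.snoc_last]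
    simp only [Fin.snoc_castSucc]
    rw [pow_succ, add_comm b]
    ring

theorem S_succ (n : ℕ) (φ : G → ℝ) (x : Fin (n + 1) → G) :
    S (n + 1) φ x = S n φ (Fin.init x) - S n (fun y => φ (y + x (Fin.last n))) (Fin.init x) := by
  conv_lhs => rw [← Fin.snoc_init_self x]
  exact S_snoc n φ (Fin.init x) (x (Fin.last n))

/-- the cocycle condition in every pair of variables -/
def Cocycle {n : ℕ} (ψ : (Fin n → G) → ℝ) : Prop :=
  ∀ i j : Fin n, i ≠ j → ∀ (x : Fin n → G) (a b c : G),
    ψ (Function.update (Function.update x i (a + b)) j c)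
        + ψ (Function.update (Function.update x i a) j b) =
      ψ (Function.update (Function.update x i a) j (b + c))
        + ψ (Function.update (Function.update x i b) j c)

theorem upd2_snoc {m : ℕ} (x'' : Fin m → G) (a b α β : G) :
    Function.update (Function.update
        (Fin.snoc (α := fun _ => G) (Fin.snoc (α := fun _ => G) x'' a) b)
        (Fin.castSucc (Fin.last m)) α) (Fin.last (m + 1)) β
      = Fin.snoc (α := fun _ => G) (Fin.snoc (α := fun _ => G) x'' α) β := by
  rw [← Fin.snoc_update, Fin.update_snoc_last, Fin.update_snoc_last]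

end Comb

variable {G : Type u} [AddCommGroup G] [TopologicalSpace G] [IsTopologicalAddGroup G]
  [CompactSpace G] [T2Space G] [MeasurableSpace G] [BorelSpace G]
  (μ : Measure G) [μ.IsAddHaarMeasure] [IsProbabilityMeasure μ]

/-- the signed Haar average over all variables but the first -/
noncomputable def phi (m : ℕ) (ψ : (Fin (m + 1) → G) → ℝ) (g : G) : ℝ :=
  (-1 : ℝ) ^ m * ∫ u, ψ (Fin.cons (α := fun _ => G) g u) ∂(Measure.pi fun _ : Fin m => μ)

/-- integrate out the last variable (with a sign) -/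
noncomputable def psi' {m : ℕ} (ψ : (Fin (m + 2) → G) → ℝ) (x' : Fin (m + 1) → G) : ℝ :=
  - ∫ t, ψ (Fin.snoc (α := fun _ => G) x' t) ∂μ

theorem continuous_psi' {m : ℕ} (ψ : (Fin (m + 2) → G) → ℝ) (hψ : Continuous ψ) :
    Continuous (psi' μ ψ) :=
  (continuous_integral_snoc μ ψ hψ).neg

theorem cocycle_psi' {m : ℕ} (ψ : (Fin (m + 2) → G) → ℝ) (hψ : Continuous ψ)
    (hc : Cocycle ψ) : Cocycle (psi' μ ψ) := by
  intro i j hij x a b c
  have hne : Fin.castSucc i ≠ Fin.castSucc j := fun h => hij (Fin.castSucc_injective _ h)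
  have hI : ∀ (α β : G), Integrable (fun t => ψ (Fin.snoc (α := fun _ => G)
      (Function.update (Function.update x i α) j β) t)) μ := fun α β =>
    integrable_of_continuous μ _
      (hψ.comp (Continuous.finSnoc (A := fun _ => G) continuous_const continuous_id))
  have hpt : ∀ t : G,
      ψ (Fin.snoc (α := fun _ => G) (Function.update (Function.update x i (a + b)) j c) t)
        + ψ (Fin.snoc (α := fun _ => G) (Function.update (Function.update x i a) j b) t)
      = ψ (Fin.snoc (α := fun _ => G) (Function.update (Function.update x i a) j (b + c)) t)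
        + ψ (Fin.snoc (α := fun _ => G) (Function.update (Function.update x i b) j c) t) := by
    intro t
    simp only [Fin.snoc_update]
    exact hc _ _ hne (Fin.snoc (α := fun _ => G) x t) a b c
  have hint := congrArg (fun f : G → ℝ => ∫ t, f t ∂μ) (funext hpt)
  beta_reduce at hint
  rw [integral_add (hI _ _) (hI _ _), integral_add (hI _ _) (hI _ _)] at hint
  unfold psi'
  linarith

theorem phi_psi' {m : ℕ} (ψ : (Fin (m + 2) → G) → ℝ) (hψ : Continuous ψ) :
    phi μ m (psi' μ ψ) = phi μ (m + 1) ψ := by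
  funext g
  unfold phi psi'
  have hcont : Continuous (fun u : Fin (m + 1) → G => ψ (Fin.cons (α := fun _ => G) g u)) :=
    hψ.comp (Continuous.finCons (A := fun _ => G) continuous_const continuous_id)
  rw [integral_insertNth μ (Fin.last m) _ hcont, integral_neg]
  have h1 : ∀ (u' : Fin m → G) (c : G),
      ψ (Fin.cons (α := fun _ => G) g (Fin.insertNth (α := fun _ => G) (Fin.last m) c u'))
        = ψ (Fin.snoc (α := fun _ => G) (Fin.cons (α := fun _ => G) g u') c) := by
    intro u' c
    rw [Fin.insertNth_last', Fin.cons_snoc_eq_snoc_cons]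
  simp_rw [h1]
  rw [pow_succ]
  ring

theorem dev_formula (m : ℕ) : ∀ (ψ : (Fin (m + 1) → G) → ℝ), Continuous ψ → Cocycle ψ →
    ∀ x, ψ x = (-1 : ℝ) ^ (m + 1) * (S (m + 1) (phi μ m ψ) x - phi μ m ψ 0) := by
  induction m with
  | zero =>
    intro ψ hψ _ x
    have hcons : (Fin.cons (α := fun _ => G) (x (Fin.last 0)) (default : Fin 0 → G)) = x := by
      funext i
      have hi : i = 0 := by
        have := i.isLt
        apply Fin.ext
        simp only [Fin.val_zero]
        omega
      rw [hi, Fin.cons_zero]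
      exact congrArg x (Fin.ext (by simp))
    have hφ : phi μ 0 ψ (x (Fin.last 0)) = ψ x := by
      unfold phi
      rw [integral_unique, probReal_univ, one_smul, pow_zero, one_mul, hcons]
    rw [S_succ, S_zero, S_zero, zero_add (x (Fin.last 0)), hφ]
    ring
  | succ m ih =>
    intro ψ hψ hc x
    have IH := ih (psi' μ ψ) (continuous_psi' μ ψ hψ) (cocycle_psi' μ ψ hψ hc)
    rw [phi_psi' μ ψ hψ] at IH
    obtain ⟨φ, hφ⟩ : ∃ φ, φ = phi μ (m + 1) ψ := ⟨_, rfl⟩
    rw [← hφ] at IH ⊢
    obtain ⟨x'', a, b, rfl⟩ : ∃ (x'' : Fin m → G) (a b : G),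
        x = Fin.snoc (α := fun _ => G) (Fin.snoc (α := fun _ => G) x'' a) b :=
      ⟨Fin.init (Fin.init x), Fin.init x (Fin.last m), x (Fin.last (m + 1)), by
        rw [Fin.snoc_init_self, Fin.snoc_init_self]⟩
    have hI : ∀ y : G, Integrable (fun c => ψ (Fin.snoc (α := fun _ => G)
        (Fin.snoc (α := fun _ => G) x'' y) c)) μ := fun y =>
      integrable_of_continuous μ _
        (hψ.comp (Continuous.finSnoc (A := fun _ => G) continuous_const continuous_id))
    have hI3 : Integrable (fun c => ψ (Fin.snoc (α := fun _ => G)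
        (Fin.snoc (α := fun _ => G) x'' a) (b + c))) μ :=
      integrable_of_continuous μ _
        (hψ.comp (Continuous.finSnoc (A := fun _ => G) continuous_const
          (continuous_const.add continuous_id)))
    have key : ψ (Fin.snoc (α := fun _ => G) (Fin.snoc (α := fun _ => G) x'' a) b)
        = - psi' μ ψ (Fin.snoc (α := fun _ => G) x'' a)
          - psi' μ ψ (Fin.snoc (α := fun _ => G) x'' b)
          + psi' μ ψ (Fin.snoc (α := fun _ => G) x'' (a + b)) := by
      have hne : Fin.castSucc (Fin.last m) ≠ Fin.last (m + 1) := (Fin.castSucc_lt_last _).ne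
      have hpt : ∀ c : G,
          ψ (Fin.snoc (α := fun _ => G) (Fin.snoc (α := fun _ => G) x'' (a + b)) c)
            + ψ (Fin.snoc (α := fun _ => G) (Fin.snoc (α := fun _ => G) x'' a) b)
          = ψ (Fin.snoc (α := fun _ => G) (Fin.snoc (α := fun _ => G) x'' a) (b + c))
            + ψ (Fin.snoc (α := fun _ => G) (Fin.snoc (α := fun _ => G) x'' b) c) := by
        intro c
        have h := hc _ _ hne
          (Fin.snoc (α := fun _ => G) (Fin.snoc (α := fun _ => G) x'' a) b) a b c
        rw [upd2_snoc, upd2_snoc, upd2_snoc, upd2_snoc] at h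
        exact h
      have hint := congrArg (fun f : G → ℝ => ∫ c, f c ∂μ) (funext hpt)
      beta_reduce at hint
      rw [integral_add (hI _) (integrable_const _), integral_add hI3 (hI _), integral_const,
        probReal_univ, one_smul] at hint
      have h3 : ∫ c, ψ (Fin.snoc (α := fun _ => G) (Fin.snoc (α := fun _ => G) x'' a) (b + c)) ∂μ
          = ∫ c, ψ (Fin.snoc (α := fun _ => G) (Fin.snoc (α := fun _ => G) x'' a) c) ∂μ :=
        integral_add_left_eq_self
          (fun c => ψ (Fin.snoc (α := fun _ => G) (Fin.snoc (α := fun _ => G) x'' a) c)) b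
      rw [h3] at hint
      unfold psi'
      linarith
    have e1 := S_snoc m φ x'' a
    have e2 := S_snoc m φ x'' b
    have e3 := S_snoc m φ x'' (a + b)
    have e4 := S_snoc (m + 1) φ (Fin.snoc (α := fun _ => G) x'' a) b
    have e5 := S_snoc m (fun z => φ (z + b)) x'' a
    have e6 : (fun y => (fun z => φ (z + b)) (y + a)) = fun y => φ (y + (a + b)) := by
      funext y
      simp only [add_assoc]
    rw [e6] at e5
    rw [key, IH, IH, IH, e4, e1, e5, e2, e3, pow_succ (-1 : ℝ) (m + 1)]
    ring

theorem uniqueness (m : ℕ) (ψ : (Fin (m + 1) → G) → ℝ) (φ : G → ℝ) (hφ : Continuous φ)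
    (h : ∀ x : Fin (m + 1) → G, ψ x =
      ∑ I ∈ ((Finset.univ : Finset (Fin (m + 1))).powerset.erase ∅),
        (-1 : ℝ) ^ (m + 1 + I.card) * φ (∑ i ∈ I, x i)) :
    φ = phi μ m ψ := by
  classical
  funext g
  unfold phi
  obtain ⟨E, hE⟩ : ∃ E, E = ((Finset.univ : Finset (Fin (m + 1))).powerset.erase ∅) := ⟨_, rfl⟩
  rw [← hE] at h
  obtain ⟨c₀, hc₀⟩ : ∃ c₀, c₀ = ∫ c, φ c ∂μ := ⟨_, rfl⟩
  have hcont : ∀ I : Finset (Fin (m + 1)), Continuous (fun u : Fin m → G =>
      φ (∑ i ∈ I, (Fin.cons (α := fun _ => G) g u : Fin (m + 1) → G) i)) := fun I =>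
    hφ.comp (continuous_finsetSum I fun i _ => (continuous_apply i).comp
      (Continuous.finCons (A := fun _ => G) continuous_const continuous_id))
  have h1 : ∫ u, ψ (Fin.cons (α := fun _ => G) g u) ∂(Measure.pi fun _ : Fin m => μ)
      = ∑ I ∈ E, (-1 : ℝ) ^ (m + 1 + I.card) *
          ∫ u, φ (∑ i ∈ I, (Fin.cons (α := fun _ => G) g u : Fin (m + 1) → G) i)
            ∂(Measure.pi fun _ : Fin m => μ) := by
    simp_rw [h]
    rw [integral_finsetSum]
    · refine Finset.sum_congr rfl fun I _ => ?_
      rw [integral_const_mul]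
    · intro I _
      exact (integrable_of_continuous_pi μ _ (hcont I)).const_mul _
  have hA : ∀ I ∈ E.erase {0},
      ∫ u, φ (∑ i ∈ I, (Fin.cons (α := fun _ => G) g u : Fin (m + 1) → G) i)
        ∂(Measure.pi fun _ : Fin m => μ) = c₀ := by
    intro I hI
    obtain ⟨hI0, hIE⟩ := Finset.mem_erase.mp hI
    rw [hE] at hIE
    have hIne : I ≠ ∅ := (Finset.mem_erase.mp hIE).1
    have hex : ∃ i ∈ I, i ≠ 0 := by
      by_contra hcon
      push Not at hcon
      apply hI0
      ext i
      simp only [Finset.mem_singleton]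
      constructor
      · exact fun hi => hcon i hi
      · rintro rfl
        obtain ⟨i, hi⟩ := Finset.nonempty_iff_ne_empty.mpr hIne
        rwa [← hcon i hi]
    obtain ⟨i, hiI, hi0⟩ := hex
    obtain ⟨j', rfl⟩ := Fin.exists_succ_eq.mpr hi0
    rw [hc₀]
    cases m with
    | zero => exact j'.elim0
    | succ n => exact integral_sum_cons μ j' I hiI g φ hφ
  have hB : ∫ u, φ (∑ i ∈ ({0} : Finset (Fin (m + 1))),
      (Fin.cons (α := fun _ => G) g u : Fin (m + 1) → G) i)
        ∂(Measure.pi fun _ : Fin m => μ) = φ g := by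
    simp only [Finset.sum_singleton, Fin.cons_zero]
    rw [integral_const, probReal_univ, one_smul]
  have h0E : ({0} : Finset (Fin (m + 1))) ∈ E := by
    rw [hE]
    exact Finset.mem_erase.mpr ⟨Finset.singleton_ne_empty 0,
      Finset.mem_powerset.mpr (Finset.subset_univ _)⟩
  have hsum : ∑ I ∈ E.erase {0}, (-1 : ℝ) ^ (m + 1 + I.card) = 0 := by
    have hpow : ∑ I ∈ (Finset.univ : Finset (Fin (m + 1))).powerset,
        (-1 : ℝ) ^ (m + 1 + I.card) = 0 := by
      have hz := Finset.sum_powerset_neg_one_pow_card_of_nonempty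
        (Finset.univ_nonempty (α := Fin (m + 1)))
      have hz' : ∑ I ∈ (Finset.univ : Finset (Fin (m + 1))).powerset, (-1 : ℝ) ^ I.card = 0 := by
        have h2 := congrArg (Int.cast : ℤ → ℝ) hz
        push_cast at h2
        exact h2
      simp_rw [pow_add]
      rw [← Finset.mul_sum, hz', mul_zero]
    rw [Finset.sum_erase_eq_sub h0E, hE, Finset.sum_erase_eq_sub (Finset.empty_mem_powerset _),
      hpow]
    simp only [Finset.card_empty, Finset.card_singleton, add_zero]
    rw [pow_succ]
    ring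
  have hsplit := (Finset.add_sum_erase E (fun I => (-1 : ℝ) ^ (m + 1 + I.card) *
      ∫ u, φ (∑ i ∈ I, (Fin.cons (α := fun _ => G) g u : Fin (m + 1) → G) i)
        ∂(Measure.pi fun _ : Fin m => μ)) h0E).symm
  beta_reduce at hsplit
  have h2 : ∑ I ∈ E.erase {0}, (-1 : ℝ) ^ (m + 1 + I.card) *
      ∫ u, φ (∑ i ∈ I, (Fin.cons (α := fun _ => G) g u : Fin (m + 1) → G) i)
        ∂(Measure.pi fun _ : Fin m => μ)
      = (∑ I ∈ E.erase {0}, (-1 : ℝ) ^ (m + 1 + I.card)) * c₀ := by
    rw [Finset.sum_mul]
    exact Finset.sum_congr rfl fun I hI => by rw [hA I hI]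
  rw [h1, hsplit, hB, h2, hsum, zero_mul, add_zero, Finset.card_singleton, ← mul_assoc, ← pow_add]
  have h3 : (-1 : ℝ) ^ (m + (m + 1 + 1)) = 1 := by
    rw [show m + (m + 1 + 1) = 2 * (m + 1) by ring, pow_mul]
    simp
  rw [h3, one_mul]

theorem main (m : ℕ) (ψ : (Fin (m + 1) → G) → ℝ) (hψc : Continuous ψ)
    (hψ : ∀ (i j : Fin (m + 1)), i ≠ j → ∀ (x : Fin (m + 1) → G) (a b c : G),
      ψ (Function.update (Function.update x i (a + b)) j c)
          + ψ (Function.update (Function.update x i a) j b) =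
        ψ (Function.update (Function.update x i a) j (b + c))
          + ψ (Function.update (Function.update x i b) j c)) :
    (∀ x : Fin (m + 1) → G,
      ψ x = ∑ I ∈ ((Finset.univ : Finset (Fin (m + 1))).powerset.erase ∅),
        (-1 : ℝ) ^ (m + 1 + I.card) * ((-1 : ℝ) ^ m *
          ∫ u, ψ (Fin.cons (∑ i ∈ I, x i) u) ∂(MeasureTheory.Measure.pi (fun _ : Fin m => μ)))) ∧
    Continuous (fun g : G => (-1 : ℝ) ^ m *
      ∫ u, ψ (Fin.cons g u) ∂(MeasureTheory.Measure.pi (fun _ : Fin m => μ))) ∧
    (∀ φ : G → ℝ, Continuous φ → (∀ x : Fin (m + 1) → G,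
      ψ x = ∑ I ∈ ((Finset.univ : Finset (Fin (m + 1))).powerset.erase ∅),
        (-1 : ℝ) ^ (m + 1 + I.card) * φ (∑ i ∈ I, x i)) →
      φ = fun g => (-1 : ℝ) ^ m *
        ∫ u, ψ (Fin.cons g u) ∂(MeasureTheory.Measure.pi (fun _ : Fin m => μ))) := by
  classical
  refine ⟨fun x => ?_, ?_, fun φ hφ h => ?_⟩
  · refine (dev_formula μ m ψ hψc hψ x).trans ?_
    change _ = ∑ I ∈ ((Finset.univ : Finset (Fin (m + 1))).powerset.erase ∅),
      (-1 : ℝ) ^ (m + 1 + I.card) * phi μ m ψ (∑ i ∈ I, x i)
    rw [Finset.sum_erase_eq_sub (Finset.empty_mem_powerset _), Finset.card_empty,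
      Finset.sum_empty, add_zero]
    unfold S
    rw [mul_sub, Finset.mul_sum]
    congr 1
    refine Finset.sum_congr rfl fun I _ => ?_
    ring
  · exact continuous_const.mul (continuous_integral_cons μ ψ hψc)
  · exact uniqueness μ m ψ φ hφ h

end Groth.Agent.Helper3.HaarDev
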