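import Mathlib
import Groth.Agent.Lib.Lead.FlatLoc11
import Groth.Agent.Lib.Lead.FlatLoc12

/-! S17593: an algebra of finite presentation flat along `V(IR)` has an étale neighbourhood of
`V(IR)` (a principal localization at an element of `1 + IR`) flat over the base. -/

set_option autoImplicit false
set_option synthInstance.maxHeartbeats 400000
universe u

namespace Groth.Agent.Helper3.HensFlat

open Groth.Agent.Lead.FlatLoc

theorem S17593_main (A : Type u) [CommRing A] (I : Ideal A)
    (R : Type u) [CommRing R] [Algebra A R] [Algebra.FinitePresentation A R]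
    (h : ∀ (p : Ideal R) [p.IsPrime], I.map (algebraMap A R) ≤ p →
      Module.Flat A (Localization.AtPrime p)) :
    ∃ (R' : Type u) (_ : CommRing R') (_ : Algebra R R') (_ : Algebra A R')
      (_ : IsScalarTower A R R'),
      Algebra.Etale R R' ∧
      Function.Bijective (Ideal.quotientMap ((I.map (algebraMap A R)).map (algebraMap R R'))
        (algebraMap R R') Ideal.le_comap_map) ∧ Module.Flat A R' := by
  have hopen : IsOpen {q : PrimeSpectrum R |
      Module.Flat A (LocalizedModule q.asIdeal.primeCompl R)} :=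
    isOpen_flatLocus_of_finitePresentation
  obtain ⟨J, hJ⟩ := (PrimeSpectrum.isClosed_iff_zeroLocus_ideal _).mp hopen.isClosed_compl
  -- `IR + J = R`
  have htop : I.map (algebraMap A R) ⊔ J = ⊤ := by
    by_contra hne
    obtain ⟨m, hm, hle⟩ := Ideal.exists_le_maximal _ hne
    haveI := hm.isPrime
    have h1 : (⟨m, hm.isPrime⟩ : PrimeSpectrum R) ∈ PrimeSpectrum.zeroLocus (J : Set R) := by
      rw [PrimeSpectrum.mem_zeroLocus]
      exact fun x hx => hle (Ideal.mem_sup_right hx)
    rw [← hJ] at h1
    exact h1 (h m (le_trans le_sup_left hle))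
  obtain ⟨a, ha, j, hj, haj⟩ := Submodule.mem_sup.mp ((Ideal.eq_top_iff_one _).mp htop)
  -- powers of `j` are `1` modulo `IR`
  have hjpow : ∀ n : ℕ, 1 - j ^ n ∈ I.map (algebraMap A R) := by
    intro n
    induction n with
    | zero => simp
    | succ n ih =>
      have ha' : a = 1 - j := by rw [← haj]; ring
      have : 1 - j ^ (n + 1) = (1 - j ^ n) + j ^ n * a := by
        rw [ha']; ring
      rw [this]
      exact Ideal.add_mem _ ih (Ideal.mul_mem_left _ _ ha)
  refine ⟨Localization.Away j, inferInstance, inferInstance, inferInstance, inferInstance,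
    inferInstance, ⟨?_, ?_⟩, ?_⟩
  · -- injective
    rw [injective_iff_map_eq_zero]
    intro x hx
    obtain ⟨x, rfl⟩ := Ideal.Quotient.mk_surjective x
    rw [Ideal.quotientMap_mk, Ideal.Quotient.eq_zero_iff_mem,
      IsLocalization.mem_map_algebraMap_iff (Submonoid.powers j)] at hx
    obtain ⟨⟨y, ⟨_, n, rfl⟩⟩, hy⟩ := hx
    rw [← map_mul] at hy
    obtain ⟨⟨_, m, rfl⟩, hc⟩ := (IsLocalization.eq_iff_exists (Submonoid.powers j) _).mp hy
    rw [Ideal.Quotient.eq_zero_iff_mem]
    have h2 : j ^ (m + n) * x ∈ I.map (algebraMap A R) := by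
      have : j ^ (m + n) * x = j ^ m * (y : R) := by
        rw [pow_add, mul_assoc, mul_comm (j ^ n) x]
        exact hc
      rw [this]
      exact Ideal.mul_mem_left _ _ y.2
    have h3 : x = (1 - j ^ (m + n)) * x + j ^ (m + n) * x := by ring
    rw [h3]
    exact Ideal.add_mem _ (Ideal.mul_mem_right _ _ (hjpow _)) h2
  · -- surjective
    intro z
    obtain ⟨z, rfl⟩ := Ideal.Quotient.mk_surjective z
    obtain ⟨x, ⟨_, n, rfl⟩, rfl⟩ := IsLocalization.exists_mk'_eq (Submonoid.powers j) z
    refine ⟨Ideal.Quotient.mk _ x, ?_⟩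
    rw [Ideal.quotientMap_mk, Ideal.Quotient.eq,
      IsLocalization.mem_map_algebraMap_iff (Submonoid.powers j)]
    refine ⟨⟨⟨x * (j ^ n - 1), ?_⟩, ⟨j ^ n, n, rfl⟩⟩, ?_⟩
    · have : x * (j ^ n - 1) = -(x * (1 - j ^ n)) := by ring
      rw [this]
      exact Ideal.neg_mem_iff _ |>.mpr (Ideal.mul_mem_left _ _ (hjpow n))
    · simp only
      rw [sub_mul, IsLocalization.mk'_spec, ← map_mul, ← map_sub]
      congr 1
      ring
  · -- flat
    have hfl : Module.Flat A (LocalizedModule (Submonoid.powers j) R) := by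
      apply flat_localizedModule_of_forall_prime (A := A) (C := R) R (Submonoid.powers j)
      intro r _ hdisj
      have hjr : j ∉ r := fun hjr =>
        Set.disjoint_left.mp hdisj hjr (Submonoid.mem_powers j)
      have hr : (⟨r, inferInstance⟩ : PrimeSpectrum R) ∉
          {q : PrimeSpectrum R | Module.Flat A (LocalizedModule q.asIdeal.primeCompl R)}ᶜ := by
        rw [hJ, PrimeSpectrum.mem_zeroLocus]
        intro hJr
        exact hjr (hJr hj)
      exact not_not.mp hr
    exact hfl

end Groth.Agent.Helper3.HensFlat
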