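import Mathlib
import Groth.Agent.Lib.Helper3.ArtFunD

/-! The tangent space of a functor of Artin rings with a family over a local `k`-algebra `R` with a
`k`-point which is bijective on `k[ε]` has the dimension of the Zariski cotangent space of `R`
(helper3): `t_F ≃ Der_k(R, k) ≃ (m/m²)^∨`. -/

set_option linter.style.haveILetI false
set_option autoImplicit false

universe u v

open CategoryTheory

namespace Groth.Agent.Helper3.HilbCot

open ArtFun ArtFun.Art Groth.Agent.Helper3.ArtFunLib

section Alg

variable {k : Type u} [Field k] {F : Art k k ⥤ Type v}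
variable (R : Type u) [CommRing R] [IsLocalRing R] [Algebra k R] (resR : R →ₐ[k] k)

theorem mem_max_iff (x : R) : x ∈ IsLocalRing.maximalIdeal R ↔ resR x = 0 := by
  have hsurj : Function.Surjective (resR : R →+* k) := fun c =>
    ⟨algebraMap k R c, resR.commutes c⟩
  have hmax : (RingHom.ker (resR : R →+* k)).IsMaximal :=
    RingHom.ker_isMaximal_of_surjective (resR : R →+* k) hsurj
  rw [← IsLocalRing.eq_maximalIdeal hmax, RingHom.mem_ker]
  rfl

theorem sub_mem_max (r : R) : r - algebraMap k R (resR r) ∈ IsLocalRing.maximalIdeal R := by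
  rw [mem_max_iff R resR, map_sub, AlgHom.commutes]
  exact sub_self (resR r)

include resR in
/-- the residue field of a local `k`-algebra with a `k`-point is `k` -/
theorem bijective_algebraMap_residueField :
    Function.Bijective (algebraMap k (IsLocalRing.ResidueField R)) := by
  constructor
  · exact (algebraMap k (IsLocalRing.ResidueField R)).injective
  · intro z
    obtain ⟨r, rfl⟩ := IsLocalRing.residue_surjective z
    refine ⟨resR r, ?_⟩
    rw [IsScalarTower.algebraMap_apply k R (IsLocalRing.ResidueField R),
      IsLocalRing.ResidueField.algebraMap_eq, ← sub_eq_zero, ← map_sub,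
      IsLocalRing.residue_eq_zero_iff]
    have h := sub_mem_max R resR r
    rw [← neg_sub]
    exact neg_mem h

include resR in
theorem finrank_cotangentSpace_eq :
    Module.finrank k (IsLocalRing.CotangentSpace R) =
      Module.finrank (IsLocalRing.ResidueField R) (IsLocalRing.CotangentSpace R) := by
  have hr := rank_eq_of_equiv_equiv (algebraMap k (IsLocalRing.ResidueField R))
    (AddEquiv.refl (IsLocalRing.CotangentSpace R)) (bijective_algebraMap_residueField R resR)
    (fun c z => by
      show c • z = algebraMap k (IsLocalRing.ResidueField R) c • z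
      rw [IsScalarTower.algebraMap_apply k R (IsLocalRing.ResidueField R), algebraMap_smul,
        algebraMap_smul])
  exact congrArg Cardinal.toNat hr

/-- **the tangent space of a functor with a family over `R` bijective on `k[ε]` has the dimension
of the cotangent space of `R`** -/
theorem finrank_tangent_eq_cotangent [TangentStr F] (ξ : Family R resR F)
    (hbij : Function.Bijective (ξ.app (dual k k))) :
    Module.finrank k (TangentSpace F) =
      Module.finrank (IsLocalRing.ResidueField R) (IsLocalRing.CotangentSpace R) := by
  classical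
  letI : Algebra R k := resR.toRingHom.toAlgebra
  haveI : IsScalarTower k R k :=
    IsScalarTower.of_algebraMap_eq (fun l => (resR.commutes l).symm)
  let pt : Derivation k R k → HomSet R resR (dual k k) := fun D =>
    homSetOfDeriv resR D (map_add D) (fun x y => by
      rw [Derivation.leibniz]; rfl) (fun l => D.map_algebraMap l)
  have hpt_snd : ∀ D y, dsnd ((pt D).1 y) = D y := fun _ _ => rfl
  let Φ : Derivation k R k →ₗ[k] TangentSpace F :=
    { toFun := fun D => ξ.app _ (pt D)
      map_add' := fun D D' => by
        obtain ⟨χ, h1, h2⟩ := Groth.Agent.Helper3.ArtFunLib.IsFibreProd.exists_lift_homSet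
          (isFibreProd_dual2 (Λ := k) (k := k))
          (pt D) (pt D') (Subsingleton.elim (h := subsingleton_hR_base) _ _)
        have e := TangentStr.add_eq (F := F) (ξ.app _ χ)
        rw [← ξ.natural, ← ξ.natural, ← ξ.natural, h1, h2] at e
        have e3 : HomSet.map plus χ = pt (D + D') := by
          apply Subtype.ext
          apply AlgHom.ext
          intro y
          have hy1 := congrArg (fun t : HomSet R resR (dual k k) => t.1 y) h1
          have hy2 := congrArg (fun t : HomSet R resR (dual k k) => t.1 y) h2
          apply dual_ext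
          · rw [dfst_homSet, dfst_homSet]
          · have a1 : dsnd (pr₁ (χ.1 y)) = D y := congrArg dsnd hy1
            have a2 : dsnd (pr₂ (χ.1 y)) = D' y := congrArg dsnd hy2
            change dsnd (pr₁ (χ.1 y)) + dsnd (pr₂ (χ.1 y)) = D y + D' y
            rw [a1, a2]
        rw [e3] at e
        exact e.symm
      map_smul' := fun c D => by
        have e1 : pt (c • D) = HomSet.map (scale c) (pt D) :=
          Subtype.ext (AlgHom.ext fun y => dual_ext rfl rfl)
        change ξ.app _ (pt (c • D)) = c • (show TangentSpace F from ξ.app _ (pt D))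
        rw [e1, ξ.natural]
        exact (TangentStr.smul_eq (F := F) c _).symm }
  have hΦa : ∀ D, Φ D = ξ.app _ (pt D) := fun _ => rfl
  have hΦinj : Function.Injective Φ := by
    intro D D' h
    rw [hΦa, hΦa] at h
    have h1 : pt D = pt D' := hbij.1 h
    ext y
    rw [← hpt_snd D y, ← hpt_snd D' y, h1]
  have hder : ∀ a : HomSet R resR (dual k k),
      ∃ D : Derivation k R k, ∀ y, D y = dsnd (a.1 y) := by
    intro a
    let Dl : R →ₗ[k] k :=
      { toFun := fun y => dsnd (a.1 y)
        map_add' := fun y y' => by rw [map_add, dsnd_add]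
        map_smul' := fun l y => by
          rw [map_smul, dsnd_smul]; rfl }
    exact ⟨Derivation.mk' Dl (fun y y' => by
      change dsnd (a.1 (y * y')) = y • dsnd (a.1 y') + y' • dsnd (a.1 y)
      rw [map_mul, dsnd_mul, dfst_homSet, dfst_homSet]
      rfl), fun y => rfl⟩
  have hΦsurj : Function.Surjective Φ := by
    intro x
    obtain ⟨a, ha⟩ := hbij.2 x
    obtain ⟨D, hD⟩ := hder a
    refine ⟨D, ?_⟩
    rw [hΦa, ← ha]
    congr 1
    apply Subtype.ext
    apply AlgHom.ext
    intro y
    exact dual_ext ((dfst_homSet _ y).trans (dfst_homSet a y).symm) ((hpt_snd D y).trans (hD y))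
  -- derivations and the dual of the cotangent space
  have hmem : ∀ x : R, x ∈ IsLocalRing.maximalIdeal R ↔ resR x = 0 := mem_max_iff R resR
  have hπ : ∀ r : R, r - algebraMap k R (resR r) ∈ IsLocalRing.maximalIdeal R :=
    sub_mem_max R resR
  have hsm : ∀ (r : R) (c : k), r • c = resR r * c := fun r c => rfl
  have hfD : ∀ (D : Derivation k R k) (x y : ↥(IsLocalRing.maximalIdeal R)),
      D ((x * y : ↥(IsLocalRing.maximalIdeal R)) : R) = 0 := by
    intro D x y
    change D (x.1 * y.1) = 0
    rw [Derivation.leibniz, hsm, hsm, (hmem x.1).1 x.2, (hmem y.1).1 y.2, zero_mul, zero_mul,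
      add_zero]
  let fD : Derivation k R k → (↥(IsLocalRing.maximalIdeal R) →ₗ[k] k) := fun D =>
    { toFun := fun x => D x.1
      map_add' := fun x y => map_add D x.1 y.1
      map_smul' := fun c x => D.map_smul c x.1 }
  let Ψ : Derivation k R k →ₗ[k] Module.Dual k (IsLocalRing.CotangentSpace R) :=
    { toFun := fun D => Ideal.Cotangent.lift (fD D) (hfD D)
      map_add' := fun D D' => by
        apply LinearMap.ext
        intro z
        obtain ⟨x, rfl⟩ := (IsLocalRing.maximalIdeal R).toCotangent_surjective z
        rfl
      map_smul' := fun c D => by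
        apply LinearMap.ext
        intro z
        obtain ⟨x, rfl⟩ := (IsLocalRing.maximalIdeal R).toCotangent_surjective z
        rfl }
  have hΨa : ∀ (D : Derivation k R k) (x : ↥(IsLocalRing.maximalIdeal R)),
      Ψ D ((IsLocalRing.maximalIdeal R).toCotangent x) = D x.1 := fun _ _ => rfl
  have hΨinj : Function.Injective Ψ := by
    intro D D' h
    have hm : ∀ x : ↥(IsLocalRing.maximalIdeal R), D x.1 = D' x.1 := fun x => by
      rw [← hΨa D x, ← hΨa D' x, h]
    ext r
    have key : ∀ E : Derivation k R k, E r = E (r - algebraMap k R (resR r)) := fun E => by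
      rw [map_sub, Derivation.map_algebraMap, sub_zero]
    rw [key D, key D']
    exact hm ⟨_, hπ r⟩
  have hΨsurj : Function.Surjective Ψ := by
    intro ℓ
    let π : R →ₗ[k] ↥(IsLocalRing.maximalIdeal R) :=
      { toFun := fun r => ⟨r - algebraMap k R (resR r), hπ r⟩
        map_add' := fun r s => Subtype.ext (by
          change (r + s) - algebraMap k R (resR (r + s)) =
            (r - algebraMap k R (resR r)) + (s - algebraMap k R (resR s))
          rw [map_add, map_add]; ring)
        map_smul' := fun c r => Subtype.ext (by
          change c • r - algebraMap k R (resR (c • r)) = c • (r - algebraMap k R (resR r))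
          rw [map_smul, smul_eq_mul, map_mul, smul_sub,
            Algebra.smul_def c (algebraMap k R (resR r))]) }
    have hπa : ∀ r : R, ((π r : ↥(IsLocalRing.maximalIdeal R)) : R) =
        r - algebraMap k R (resR r) := fun _ => rfl
    have hcot : ∀ r s : R, (IsLocalRing.maximalIdeal R).toCotangent (π (r * s)) =
        r • (IsLocalRing.maximalIdeal R).toCotangent (π s) +
          s • (IsLocalRing.maximalIdeal R).toCotangent (π r) := by
      intro r s
      have h1 : r • (IsLocalRing.maximalIdeal R).toCotangent (π s) +
          s • (IsLocalRing.maximalIdeal R).toCotangent (π r) =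
          (IsLocalRing.maximalIdeal R).toCotangent (r • π s + s • π r) := by
        rw [map_add, map_smul, map_smul]
      rw [h1]
      refine ((IsLocalRing.maximalIdeal R).toCotangent_eq).2 ?_
      show (r * s - algebraMap k R (resR (r * s))) -
        (r * (s - algebraMap k R (resR s)) + s * (r - algebraMap k R (resR r))) ∈
          IsLocalRing.maximalIdeal R ^ 2
      have h2 : (r * s - algebraMap k R (resR (r * s))) -
          (r * (s - algebraMap k R (resR s)) + s * (r - algebraMap k R (resR r))) =
          -((r - algebraMap k R (resR r)) * (s - algebraMap k R (resR s))) := by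
        rw [map_mul, map_mul]; ring
      rw [h2, pow_two]
      exact neg_mem (Ideal.mul_mem_mul (hπ r) (hπ s))
    have hsmulM : ∀ (r : R) (z : (IsLocalRing.maximalIdeal R).Cotangent),
        r • z = (resR r) • z := by
      intro r z
      have h1 : (r - algebraMap k R (resR r)) • z = 0 :=
        Ideal.Cotangent.smul_eq_zero_of_mem (hπ r) z
      rw [sub_smul, algebraMap_smul, sub_eq_zero] at h1
      exact h1
    let Dl : R →ₗ[k] k :=
      ℓ ∘ₗ (((IsLocalRing.maximalIdeal R).toCotangent).restrictScalars k) ∘ₗ π
    have hDl : ∀ r : R, Dl r = ℓ ((IsLocalRing.maximalIdeal R).toCotangent (π r)) := fun _ => rfl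
    have hleib : ∀ a b : R, Dl (a * b) = a • Dl b + b • Dl a := by
      intro a b
      rw [hDl, hDl, hDl, hsm, hsm, hcot, map_add, hsmulM, hsmulM, map_smul, map_smul,
        smul_eq_mul, smul_eq_mul]
    refine ⟨Derivation.mk' Dl hleib, ?_⟩
    apply LinearMap.ext
    intro z
    obtain ⟨x, rfl⟩ := (IsLocalRing.maximalIdeal R).toCotangent_surjective z
    show ℓ ((IsLocalRing.maximalIdeal R).toCotangent (π x.1)) =
      ℓ ((IsLocalRing.maximalIdeal R).toCotangent x)
    have hx : π x.1 = x := Subtype.ext (by
      rw [hπa, (hmem x.1).1 x.2, map_zero, sub_zero])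
    rw [hx]
  have e1 := (LinearEquiv.ofBijective Φ ⟨hΦinj, hΦsurj⟩).finrank_eq
  have e2 := (LinearEquiv.ofBijective Ψ ⟨hΨinj, hΨsurj⟩).finrank_eq
  have e3 : Module.finrank k (Module.Dual k (IsLocalRing.CotangentSpace R)) =
      Module.finrank k (IsLocalRing.CotangentSpace R) := Subspace.dual_finrank_eq
  rw [← e1, e2, e3, finrank_cotangentSpace_eq R resR]

end Alg

end Groth.Agent.Helper3.HilbCot
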