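import Mathlib
import Groth.Prelude.Def_FGA
import Groth.Prelude.Def_ArtFun6
import Groth.Agent.Lib.Lead.HilbAPI1
import Groth.Agent.Lib.Helper7.HilbBC

/-! If `(H, Z)` represents the Hilbert functor of `y : Y ⟶ Spec k` and `h : Spec k ⟶ H` classifies
the closed subscheme `I₀` of `Y`, then the local ring `R = O_{H, h(pt)}` (a `k`-algebra with a
`k`-point) carries a family `h_R ⟶ localHilb Y y I₀` all of whose components are bijective
(helper3). -/

set_option autoImplicit false
set_option linter.style.haveILetI false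
universe u
open CategoryTheory CategoryTheory.Limits AlgebraicGeometry TopologicalSpace Opposite

set_option backward.isDefEq.respectTransparency.types false
set_option synthInstance.maxHeartbeats 400000
set_option maxHeartbeats 4000000

namespace Groth.Agent.Helper3.HilbCot

open ArtFun ArtFun.Art Groth.Agent.Lead.HilbAPI
open Groth.Agent.Helper7.HilbBC (hilbPull_eq_comap comap_comap_of_comp_eq_id)

section Pull

variable {X S : Scheme.{u}} (f : X ⟶ S)

theorem hilbPull_comp {T T' T'' : Over S} (m : T'' ⟶ T') (m' : T' ⟶ T)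
    (I : (PicF.XT f T).IdealSheafData) :
    FGA.hilbPull f (m ≫ m') I = FGA.hilbPull f m (FGA.hilbPull f m' I) := by
  rw [hilbPull_eq_comap, hilbPull_eq_comap, hilbPull_eq_comap, XTmap_comp,
    Scheme.IdealSheafData.comap_comp]

theorem flat_hilbPull {T T' : Over S} (g : T' ⟶ T) (I : (PicF.XT f T).IdealSheafData)
    (hI : Flat (I.subschemeι ≫ PicF.XTproj f T)) :
    Flat ((FGA.hilbPull f g I).subschemeι ≫ PicF.XTproj f T') := by
  rw [hilbPull_eq_comap]
  have sq : IsPullback (pullback.snd (PicF.XTmap f g) I.subschemeι)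
      (pullback.fst (PicF.XTmap f g) I.subschemeι ≫ PicF.XTproj f T')
      (I.subschemeι ≫ PicF.XTproj f T) g.left :=
    IsPullback.paste_vert (IsPullback.of_hasPullback (PicF.XTmap f g) I.subschemeι).flip
      (isPullback_XTmap f g)
  have hflat : Flat (pullback.fst (PicF.XTmap f g) I.subschemeι ≫ PicF.XTproj f T') :=
    MorphismProperty.of_isPullback (P := @Flat) sq hI
  rw [← Scheme.IdealSheafData.comapIso_hom_fst, Category.assoc]
  exact (MorphismProperty.cancel_left_of_respectsIso @Flat
    (I.comapIso (PicF.XTmap f g)).hom _).2 hflat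

theorem proper_hilbPull {T T' : Over S} (g : T' ⟶ T) (I : (PicF.XT f T).IdealSheafData)
    (hI : IsProper (I.subschemeι ≫ PicF.XTproj f T)) :
    IsProper ((FGA.hilbPull f g I).subschemeι ≫ PicF.XTproj f T') := by
  rw [hilbPull_eq_comap]
  have sq : IsPullback (pullback.snd (PicF.XTmap f g) I.subschemeι)
      (pullback.fst (PicF.XTmap f g) I.subschemeι ≫ PicF.XTproj f T')
      (I.subschemeι ≫ PicF.XTproj f T) g.left :=
    IsPullback.paste_vert (IsPullback.of_hasPullback (PicF.XTmap f g) I.subschemeι).flip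
      (isPullback_XTmap f g)
  have hprop : IsProper (pullback.fst (PicF.XTmap f g) I.subschemeι ≫ PicF.XTproj f T') :=
    MorphismProperty.of_isPullback (P := @IsProper) sq hI
  rw [← Scheme.IdealSheafData.comapIso_hom_fst, Category.assoc]
  exact (MorphismProperty.cancel_left_of_respectsIso @IsProper
    (I.comapIso (PicF.XTmap f g)).hom _).2 hprop

end Pull

/-- a morphism from the spectrum of a local ring sending the closed point to `p` factors through
`Spec O_{X,p}`. -/
theorem exists_of_point {X : Scheme.{u}} {A : CommRingCat.{u}} [IsLocalRing A] (g : Spec A ⟶ X)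
    (p : X) (hp : g.base (IsLocalRing.closedPoint A) = p) :
    ∃ φ : X.presheaf.stalk p ⟶ A, Spec.map φ ≫ X.fromSpecStalk p = g := by
  subst hp
  exact ⟨Scheme.stalkClosedPointTo g, Scheme.Spec_stalkClosedPointTo_fromSpecStalk g⟩

section Main

variable {k : Type u} [Field k] {Y : Scheme.{u}} (y : Y ⟶ Spec (CommRingCat.of k))
  (H : Over (Spec (CommRingCat.of k)))
  (h : Over.mk (𝟙 (Spec (CommRingCat.of k))) ⟶ H)

/-- the point `[X] = h(pt)` of `H`. -/
noncomputable abbrev ptH : H.left := h.left.base (IsLocalRing.closedPoint k)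

/-- the residue map `O_{H,[X]} ⟶ k` of the `k`-point `h`. -/
noncomputable def ρH : H.left.presheaf.stalk (ptH H h) ⟶ CommRingCat.of k :=
  Scheme.stalkClosedPointTo (R := CommRingCat.of k) (X := H.left) h.left

theorem map_ρH : Spec.map (ρH H h) ≫ H.left.fromSpecStalk (ptH H h) = h.left :=
  Scheme.Spec_stalkClosedPointTo_fromSpecStalk (R := CommRingCat.of k) (X := H.left) h.left

/-- the structure map `k ⟶ O_{H,[X]}`. -/
noncomputable def aH : CommRingCat.of k ⟶ H.left.presheaf.stalk (ptH H h) :=
  Spec.preimage (R := CommRingCat.of k) (S := H.left.presheaf.stalk (ptH H h))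
    (H.left.fromSpecStalk (ptH H h) ≫ H.hom)

theorem map_aH : Spec.map (aH H h) = H.left.fromSpecStalk (ptH H h) ≫ H.hom :=
  Spec.map_preimage _

theorem aH_ρH : aH H h ≫ ρH H h = 𝟙 (CommRingCat.of k) := by
  apply Spec.map_injective
  rw [Spec.map_comp, map_aH, ← Category.assoc, map_ρH, Spec.map_id]
  exact Over.w h

/-- the `k`-algebra structure of the local ring of `H` at `[X]`. -/
@[reducible] noncomputable def algH : Algebra k (H.left.presheaf.stalk (ptH H h)) :=
  RingHom.toAlgebra (aH H h).hom

theorem specOver_eq (A : Art k k) :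
    specOver A = Spec.map (CommRingCat.ofHom (algebraMap k A)) := rfl

theorem specRes_specOver (A : Art k k) : specRes A ≫ specOver A = 𝟙 (specPt k) := by
  have h1 : specRes A ≫ specOver A = specRes (base k k) := specRes_comp (ofBase A)
  have h2 := comp_specRes_base (Λ := k) (k := k) (𝟙 (specPt k))
  rw [Category.id_comp] at h2
  exact h1.trans h2

/-- the closed point of `Spec A`, as a morphism over `Spec k`. -/
noncomputable def rA (A : Art k k) :
    Over.mk (𝟙 (Spec (CommRingCat.of k))) ⟶ Over.mk (specOver A) :=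
  Over.homMk (specRes A) (specRes_specOver A)

/-- `Spec` of a morphism of `Art`, as a morphism over `Spec k`. -/
noncomputable def uO {A B : Art k k} (u : A ⟶ B) : Over.mk (specOver B) ⟶ Over.mk (specOver A) :=
  Over.homMk (specMap u) (specOver_comp u)

theorem XTmap_uO {A B : Art k k} (u : A ⟶ B) : PicF.XTmap y (uO u) = XAmap y u := by
  refine pullback.hom_ext ?_ ?_
  · show PicF.XTmap y (uO u) ≫ pullback.fst y (Over.mk (specOver A)).hom =
      XAmap y u ≫ pullback.fst y (specOver A)
    rw [XTmap_fst, XAmap_fst]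
    rfl
  · show PicF.XTmap y (uO u) ≫ pullback.snd y (Over.mk (specOver A)).hom =
      XAmap y u ≫ XApr y A
    rw [XTmap_snd, XAmap_snd]
    rfl

theorem XTmap_rA (A : Art k k) :
    PicF.XTmap y (rA A) =
      pullback.fst y (Over.mk (𝟙 (Spec (CommRingCat.of k)))).hom ≫ XAincl y A := by
  refine pullback.hom_ext ?_ ?_
  · show PicF.XTmap y (rA A) ≫ pullback.fst y (Over.mk (specOver A)).hom =
      (pullback.fst y (Over.mk (𝟙 (Spec (CommRingCat.of k)))).hom ≫ XAincl y A) ≫
        pullback.fst y (specOver A)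
    rw [XTmap_fst, Category.assoc, XAincl_fst, Category.comp_id]
  · show PicF.XTmap y (rA A) ≫ pullback.snd y (Over.mk (specOver A)).hom =
      (pullback.fst y (Over.mk (𝟙 (Spec (CommRingCat.of k)))).hom ≫ XAincl y A) ≫ XApr y A
    rw [XTmap_snd, Category.assoc, XAincl_snd, ← Category.assoc, pullback.condition,
      Category.assoc]
    exact congrArg (fun t => pullback.snd y (Over.mk (𝟙 (Spec (CommRingCat.of k)))).hom ≫ t)
      (Category.id_comp (specRes A)).symm

theorem hilbPull_rA_of (A : Art k k) (I : (XA y A).IdealSheafData) (J : Y.IdealSheafData)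
    (hfib : I.comap (XAincl y A) = J) :
    FGA.hilbPull y (rA A) I =
      J.comap (pullback.fst y (Over.mk (𝟙 (Spec (CommRingCat.of k)))).hom) := by
  have e1 : FGA.hilbPull y (rA A) I = (I.comap (XAincl y A)).comap
      (pullback.fst y (Over.mk (𝟙 (Spec (CommRingCat.of k)))).hom) := by
    rw [hilbPull_eq_comap, XTmap_rA, Scheme.IdealSheafData.comap_comp]
  rw [e1, hfib]

theorem comap_XAincl_of (A : Art k k) (I : (XA y A).IdealSheafData) (J : Y.IdealSheafData)
    (hI : FGA.hilbPull y (rA A) I =
      J.comap (pullback.fst y (Over.mk (𝟙 (Spec (CommRingCat.of k)))).hom)) :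
    I.comap (XAincl y A) = J := by
  have e1 : FGA.hilbPull y (rA A) I = (I.comap (XAincl y A)).comap
      (pullback.fst y (Over.mk (𝟙 (Spec (CommRingCat.of k)))).hom) := by
    rw [hilbPull_eq_comap, XTmap_rA, Scheme.IdealSheafData.comap_comp]
  let j : Y ⟶ pullback y (Over.mk (𝟙 (Spec (CommRingCat.of k)))).hom :=
    pullback.lift (𝟙 Y) y (by rw [Category.id_comp]; exact (Category.comp_id y).symm)
  have hj : j ≫ pullback.fst y (Over.mk (𝟙 (Spec (CommRingCat.of k)))).hom = 𝟙 Y :=
    pullback.lift_fst _ _ _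
  have h1 : ((I.comap (XAincl y A)).comap
      (pullback.fst y (Over.mk (𝟙 (Spec (CommRingCat.of k)))).hom)).comap j =
      I.comap (XAincl y A) := comap_comap_of_comp_eq_id j _ hj _
  have h2 : (J.comap (pullback.fst y (Over.mk (𝟙 (Spec (CommRingCat.of k)))).hom)).comap j = J :=
    comap_comap_of_comp_eq_id j _ hj _
  exact h1.symm.trans ((congrArg (fun K => Scheme.IdealSheafData.comap K j)
    (e1.symm.trans hI)).trans h2)

variable [Algebra k (H.left.presheaf.stalk (ptH H h))]
  (halg : algebraMap k (H.left.presheaf.stalk (ptH H h)) = (aH H h).hom)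

/-- the `k`-point of the local ring of `H` at `[X]`, as an augmentation. -/
noncomputable def resH : H.left.presheaf.stalk (ptH H h) →ₐ[k] k :=
  { (ρH H h).hom with
    commutes' := fun c => by
      have e : algebraMap k (H.left.presheaf.stalk (ptH H h)) c = (aH H h).hom c :=
        RingHom.congr_fun halg c
      have e2 : (ρH H h).hom ((aH H h).hom c) = c :=
        RingHom.congr_fun (congrArg CommRingCat.Hom.hom (aH_ρH H h)) c
      exact (congrArg (ρH H h).hom e).trans e2 }

theorem resH_apply (r : H.left.presheaf.stalk (ptH H h)) :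
    resH H h halg r = (ρH H h).hom r := rfl

include halg in
theorem aH_comp (A : Art k k) (φ : H.left.presheaf.stalk (ptH H h) →ₐ[k] A) :
    aH H h ≫ CommRingCat.ofHom φ.toRingHom = CommRingCat.ofHom (algebraMap k A) := by
  refine CommRingCat.hom_ext (RingHom.ext fun c => ?_)
  have e : (aH H h).hom c = algebraMap k (H.left.presheaf.stalk (ptH H h)) c :=
    (RingHom.congr_fun halg c).symm
  exact (congrArg φ e).trans (φ.commutes c)

/-- the morphism `Spec A ⟶ H` over `Spec k` of a point of `h_R(A)`. -/
noncomputable def gOf (A : Art k k)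
    (φ : HomSet (H.left.presheaf.stalk (ptH H h)) (resH H h halg) A) :
    Over.mk (specOver A) ⟶ H :=
  Over.homMk (Spec.map (CommRingCat.ofHom φ.1.toRingHom) ≫ H.left.fromSpecStalk (ptH H h)) (by
    show (Spec.map (CommRingCat.ofHom φ.1.toRingHom) ≫ H.left.fromSpecStalk (ptH H h)) ≫ H.hom =
      specOver A
    rw [Category.assoc, ← map_aH, ← Spec.map_comp]
    exact congrArg Spec.map (aH_comp H h halg A φ.1))

theorem gOf_left (A : Art k k)
    (φ : HomSet (H.left.presheaf.stalk (ptH H h)) (resH H h halg) A) :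
    (gOf H h halg A φ).left =
      Spec.map (CommRingCat.ofHom φ.1.toRingHom) ≫ H.left.fromSpecStalk (ptH H h) := rfl

theorem rA_gOf (A : Art k k)
    (φ : HomSet (H.left.presheaf.stalk (ptH H h)) (resH H h halg) A) :
    rA A ≫ gOf H h halg A φ = h := by
  apply Over.OverMorphism.ext
  show specRes A ≫ Spec.map (CommRingCat.ofHom φ.1.toRingHom) ≫
    H.left.fromSpecStalk (ptH H h) = h.left
  have e : CommRingCat.ofHom φ.1.toRingHom ≫ CommRingCat.ofHom A.res.toRingHom = ρH H h := by
    refine CommRingCat.hom_ext (RingHom.ext fun r => ?_)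
    exact congrArg (fun g : H.left.presheaf.stalk (ptH H h) →ₐ[k] k => g r) φ.2
  rw [← Category.assoc, ← Spec.map_comp, e]
  exact map_ρH H h

theorem gOf_map {A B : Art k k} (u : A ⟶ B)
    (φ : HomSet (H.left.presheaf.stalk (ptH H h)) (resH H h halg) A) :
    gOf H h halg B (HomSet.map u φ) = uO u ≫ gOf H h halg A φ := by
  apply Over.OverMorphism.ext
  show Spec.map (CommRingCat.ofHom (u.toAlgHom.toRingHom.comp φ.1.toRingHom)) ≫
      H.left.fromSpecStalk (ptH H h) =
    Spec.map (CommRingCat.ofHom u.toAlgHom.toRingHom) ≫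
      Spec.map (CommRingCat.ofHom φ.1.toRingHom) ≫ H.left.fromSpecStalk (ptH H h)
  rw [CommRingCat.ofHom_comp, Spec.map_comp, Category.assoc]

variable (Z : FGA.HilbSet y H) (I₀ : Y.IdealSheafData)
  (hh : FGA.hilbPull y h Z.1 =
    I₀.comap (pullback.fst y (Over.mk (𝟙 (Spec (CommRingCat.of k)))).hom))

/-- the family `h_R ⟶ localHilb Y y I₀` over the local ring `R` of `H` at `[X]`. -/
noncomputable def fam :
    Family (H.left.presheaf.stalk (ptH H h)) (resH H h halg) (localHilb Y y I₀) where
  app A φ := ⟨FGA.hilbPull y (gOf H h halg A φ) Z.1,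
    flat_hilbPull y (gOf H h halg A φ) Z.1 Z.2.2,
    comap_XAincl_of y A _ I₀ (by rw [← hilbPull_comp, rA_gOf]; exact hh)⟩
  natural := fun {A B} u φ => Subtype.ext (by
    show FGA.hilbPull y (gOf H h halg B (HomSet.map u φ)) Z.1 =
      (FGA.hilbPull y (gOf H h halg A φ) Z.1).comap (XAmap y u)
    rw [gOf_map, hilbPull_comp, hilbPull_eq_comap y (uO u), XTmap_uO])

theorem fam_app_val (A : Art k k)
    (φ : HomSet (H.left.presheaf.stalk (ptH H h)) (resH H h halg) A) :
    ((fam y H h halg Z I₀ hh).app A φ).1 = FGA.hilbPull y (gOf H h halg A φ) Z.1 := rfl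

theorem fam_injective (hH : FGA.HilbRepresentedBy y H Z) (A : Art k k) :
    Function.Injective ((fam y H h halg Z I₀ hh).app A) := by
  intro φ φ' hφ
  have h1 : FGA.hilbPull y (gOf H h halg A φ) Z.1 = FGA.hilbPull y (gOf H h halg A φ') Z.1 :=
    congrArg Subtype.val hφ
  haveI : IsLocallyNoetherian (Over.mk (specOver A)).left :=
    (inferInstance : IsLocallyNoetherian (Spec (CommRingCat.of A)))
  obtain ⟨g, -, huniq⟩ := hH.2 (Over.mk (specOver A))
    ⟨FGA.hilbPull y (gOf H h halg A φ) Z.1, proper_hilbPull y _ Z.1 Z.2.1,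
      flat_hilbPull y _ Z.1 Z.2.2⟩
  have h2 : gOf H h halg A φ = gOf H h halg A φ' :=
    (huniq _ rfl).trans (huniq _ h1.symm).symm
  have h3 : Spec.map (CommRingCat.ofHom φ.1.toRingHom) ≫ H.left.fromSpecStalk (ptH H h) =
      Spec.map (CommRingCat.ofHom φ'.1.toRingHom) ≫ H.left.fromSpecStalk (ptH H h) :=
    congrArg (fun t => t.left) h2
  have h4 := Spec.map_injective ((cancel_mono (H.left.fromSpecStalk (ptH H h))).1 h3)
  apply Subtype.ext
  apply AlgHom.ext
  intro r
  exact RingHom.congr_fun (congrArg CommRingCat.Hom.hom h4) r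

theorem fam_surjective [IsProper y] (hH : FGA.HilbRepresentedBy y H Z) (A : Art k k) :
    Function.Surjective ((fam y H h halg Z I₀ hh).app A) := by
  intro I
  haveI : IsLocallyNoetherian (Over.mk (specOver A)).left :=
    (inferInstance : IsLocallyNoetherian (Spec (CommRingCat.of A)))
  have hprop : IsProper (I.1.subschemeι ≫ PicF.XTproj y (Over.mk (specOver A))) := by
    show IsProper (I.1.subschemeι ≫ pullback.snd y (specOver A))
    infer_instance
  obtain ⟨g, hg0, -⟩ := hH.2 (Over.mk (specOver A)) ⟨I.1, hprop, I.2.1⟩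
  have hg : FGA.hilbPull y g Z.1 = I.1 := hg0
  -- the closed point of `g` is `h`
  have hk : rA A ≫ g = h := by
    haveI : IsLocallyNoetherian (Over.mk (𝟙 (Spec (CommRingCat.of k)))).left :=
      (inferInstance : IsLocallyNoetherian (Spec (CommRingCat.of k)))
    obtain ⟨g', -, huniq⟩ := hH.2 (Over.mk (𝟙 (Spec (CommRingCat.of k))))
      ⟨FGA.hilbPull y h Z.1, proper_hilbPull y h Z.1 Z.2.1, flat_hilbPull y h Z.1 Z.2.2⟩
    have e1 : FGA.hilbPull y (rA A ≫ g) Z.1 = FGA.hilbPull y h Z.1 := by
      rw [hilbPull_comp, hg, hh]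
      exact hilbPull_rA_of y A I.1 I₀ I.2.2
    exact (huniq _ e1).trans (huniq _ rfl).symm
  have hleft : specRes A ≫ g.left = h.left := congrArg (fun t => t.left) hk
  have hpt : g.left.base (IsLocalRing.closedPoint A) = ptH H h := by
    haveI : IsLocalHom (CommRingCat.ofHom A.res.toRingHom).hom :=
      ⟨fun a ha => (Art.isLocalHom (toBase A)).map_nonunit a ha⟩
    have e1 : (specRes A).base (IsLocalRing.closedPoint k) = IsLocalRing.closedPoint A :=
      Spec_closedPoint (f := CommRingCat.ofHom A.res.toRingHom)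
    have e2 : (specRes A ≫ g.left).base (IsLocalRing.closedPoint k) =
        h.left.base (IsLocalRing.closedPoint k) := by rw [hleft]
    exact (congrArg (fun x => g.left.base x) e1).symm.trans e2
  obtain ⟨φ, hφ⟩ := exists_of_point (A := CommRingCat.of A) (X := H.left) g.left (ptH H h) hpt
  have hφalg : aH H h ≫ φ = CommRingCat.ofHom (algebraMap k A) := by
    apply Spec.map_injective
    rw [Spec.map_comp, map_aH, ← Category.assoc, hφ]
    exact Over.w g
  have hφres : φ ≫ CommRingCat.ofHom A.res.toRingHom = ρH H h := by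
    apply Spec.map_injective
    apply (cancel_mono (H.left.fromSpecStalk (ptH H h))).1
    rw [Spec.map_comp, Category.assoc, hφ, map_ρH]
    exact hleft
  let φa : H.left.presheaf.stalk (ptH H h) →ₐ[k] A :=
    { φ.hom with
      commutes' := fun c => by
        have e1 : φ.hom ((aH H h).hom c) = algebraMap k A c :=
          RingHom.congr_fun (congrArg CommRingCat.Hom.hom hφalg) c
        have e2 : algebraMap k (H.left.presheaf.stalk (ptH H h)) c = (aH H h).hom c :=
          RingHom.congr_fun halg c
        exact (congrArg φ.hom e2).trans e1 }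
  have hres : A.res.comp φa = resH H h halg := by
    apply AlgHom.ext
    intro r
    exact RingHom.congr_fun (congrArg CommRingCat.Hom.hom hφres) r
  refine ⟨⟨φa, hres⟩, Subtype.ext ?_⟩
  show FGA.hilbPull y (gOf H h halg A ⟨φa, hres⟩) Z.1 = I.1
  have hg' : gOf H h halg A ⟨φa, hres⟩ = g := by
    apply Over.OverMorphism.ext
    show Spec.map (CommRingCat.ofHom φa.toRingHom) ≫ H.left.fromSpecStalk (ptH H h) = g.left
    exact hφ
  rw [hg']
  exact hg

end Main

end Groth.Agent.Helper3.HilbCot
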