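import Mathlib
import Groth.Agent.Lib.Helper3.ArtFunA
import Groth.Agent.Lib.Helper3.ArtFunB
import Groth.Agent.Lib.Helper3.SchlD

/-! Functor-level formalism for extensions along a semismall extension (helper3): for a functor
of Artin rings `F` all of whose comparison maps (one leg surjective) are bijective, the fibre of
`F(C') → F(C)` over a point, when nonempty, is in bijection with `F(k[ε])^r`, `r = dim_k ker`. -/

set_option autoImplicit false
set_option linter.style.haveILetI false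
universe u v w

open CategoryTheory TensorProduct

namespace Groth.Agent.Helper3.HilbExt

open ArtFun ArtFun.Art Groth.Agent.Helper3.ArtFunLib

section Semi

variable {k : Type u} [Field k] {C' C P : Art k k} {p : C' ⟶ C} {p₁ p₂ : P ⟶ C'}

theorem isNoetherian_art (A : Art k k) : IsNoetherian k A := by
  have h := isFiniteLength_art (Λ := k) (k := k) A
  exact (isFiniteLength_iff_isNoetherian_isArtinian.1 h).1

theorem mul_eq_smul (hm : IsLocalRing.maximalIdeal C' * RingHom.ker p.toAlgHom = ⊥) (a j : C')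
    (hj : j ∈ RingHom.ker p.toAlgHom) : a * j = C'.res a • j := by
  have h1 : a - algebraMap k C' (C'.res a) ∈ IsLocalRing.maximalIdeal C' := by
    rw [Art.mem_maximalIdeal_iff, map_sub, AlgHom.commutes, sub_eq_zero]
    rfl
  have h2 : (a - algebraMap k C' (C'.res a)) * j ∈
      IsLocalRing.maximalIdeal C' * RingHom.ker p.toAlgHom := Ideal.mul_mem_mul h1 hj
  rw [hm, Ideal.mem_bot] at h2
  rw [Algebra.smul_def]
  linear_combination h2

/-- the difference of the two projections, an element of the kernel. -/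
def dJ (hP : IsFibreProd p₁ p₂ p p) (x : P) : ↥(RingHom.ker p.toAlgHom) :=
  ⟨p₂ x - p₁ x, by
    rw [RingHom.mem_ker, map_sub, sub_eq_zero]
    exact (hP.w_apply x).symm⟩

theorem dJ_add (hP : IsFibreProd p₁ p₂ p p) (x y : P) : dJ hP (x + y) = dJ hP x + dJ hP y :=
  Subtype.ext (by
    show p₂ (x + y) - p₁ (x + y) = (p₂ x - p₁ x) + (p₂ y - p₁ y)
    rw [map_add, map_add]; ring)

theorem dJ_one (hP : IsFibreProd p₁ p₂ p p) : dJ hP 1 = 0 :=
  Subtype.ext (by
    show p₂ 1 - p₁ 1 = 0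
    rw [map_one, map_one, sub_self])

theorem dJ_zero (hP : IsFibreProd p₁ p₂ p p) : dJ hP 0 = 0 :=
  Subtype.ext (by
    show p₂ 0 - p₁ 0 = 0
    rw [map_zero, map_zero, sub_self])

theorem dJ_algebraMap (hP : IsFibreProd p₁ p₂ p p) (a : k) : dJ hP (algebraMap k P a) = 0 :=
  Subtype.ext (by
    show p₂ (algebraMap k P a) - p₁ (algebraMap k P a) = 0
    rw [sub_eq_zero]
    exact (p₂.toAlgHom.commutes a).trans (p₁.toAlgHom.commutes a).symm)

theorem dJ_mul (hP : IsFibreProd p₁ p₂ p p)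
    (hm : IsLocalRing.maximalIdeal C' * RingHom.ker p.toAlgHom = ⊥) (x y : P) :
    dJ hP (x * y) = C'.res (p₁ x) • dJ hP y + C'.res (p₁ y) • dJ hP x :=
  Subtype.ext (by
    show p₂ (x * y) - p₁ (x * y) =
      C'.res (p₁ x) • (p₂ y - p₁ y) + C'.res (p₁ y) • (p₂ x - p₁ x)
    have hres : C'.res (p₂ x) = C'.res (p₁ x) := by rw [Art.res_app, Art.res_app]
    have hy : p₂ y - p₁ y ∈ RingHom.ker p.toAlgHom := (dJ hP y).2
    have hx : p₂ x - p₁ x ∈ RingHom.ker p.toAlgHom := (dJ hP x).2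
    have e1 := mul_eq_smul hm (p₂ x) (p₂ y - p₁ y) hy
    have e2 := mul_eq_smul hm (p₁ y) (p₂ x - p₁ x) hx
    rw [hres] at e1
    rw [← e1, ← e2, map_mul, map_mul]
    ring)

/-- the "difference" morphism `C' ×_C C' → k ⊕ k^r` of a semismall extension with coordinates
`c` on its kernel. -/
noncomputable def diffSemi (hP : IsFibreProd p₁ p₂ p p)
    (hm : IsLocalRing.maximalIdeal C' * RingHom.ker p.toAlgHom = ⊥) {r : ℕ}
    (c : ↥(RingHom.ker p.toAlgHom) ≃ₗ[k] (Fin r → k)) : P ⟶ tsz k k r := by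
  refine ⟨{ toFun := fun x => (C'.res (p₁ x), c (dJ hP x))
            map_one' := ?_, map_mul' := ?_, map_zero' := ?_, map_add' := ?_, commutes' := ?_ }, ?_⟩
  · refine TrivSqZeroExt.ext ?_ ?_
    · change C'.res (p₁ 1) = 1
      rw [map_one, map_one]
    · change c (dJ hP 1) = 0
      rw [dJ_one, map_zero]
  · intro x y
    refine TrivSqZeroExt.ext ?_ ?_
    · change C'.res (p₁ (x * y)) = C'.res (p₁ x) * C'.res (p₁ y)
      rw [map_mul, map_mul]
    · change c (dJ hP (x * y)) =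
        C'.res (p₁ x) • c (dJ hP y) + MulOpposite.op (C'.res (p₁ y)) • c (dJ hP x)
      rw [dJ_mul hP hm, map_add, map_smul, map_smul, op_smul_eq_smul]
  · refine TrivSqZeroExt.ext ?_ ?_
    · change C'.res (p₁ 0) = 0
      rw [map_zero, map_zero]
    · change c (dJ hP 0) = 0
      rw [dJ_zero, map_zero]
  · intro x y
    refine TrivSqZeroExt.ext ?_ ?_
    · change C'.res (p₁ (x + y)) = C'.res (p₁ x) + C'.res (p₁ y)
      rw [map_add, map_add]
    · change c (dJ hP (x + y)) = c (dJ hP x) + c (dJ hP y)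
      rw [dJ_add, map_add]
  · intro a
    refine TrivSqZeroExt.ext ?_ ?_
    · change C'.res (p₁ (algebraMap k P a)) =
        (algebraMap k (TrivSqZeroExt k (Fin r → k)) a).fst
      rw [TrivSqZeroExt.algebraMap_eq_inl', TrivSqZeroExt.fst_inl]
      exact (congrArg C'.res (p₁.toAlgHom.commutes a)).trans (C'.res.commutes a)
    · change c (dJ hP (algebraMap k P a)) =
        (algebraMap k (TrivSqZeroExt k (Fin r → k)) a).snd
      rw [TrivSqZeroExt.algebraMap_eq_inl', TrivSqZeroExt.snd_inl, dJ_algebraMap, map_zero]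
  · apply AlgHom.ext
    intro x
    change C'.res (p₁ x) = P.res x
    rw [Art.res_app]

theorem diffSemi_fst (hP : IsFibreProd p₁ p₂ p p)
    (hm : IsLocalRing.maximalIdeal C' * RingHom.ker p.toAlgHom = ⊥) {r : ℕ}
    (c : ↥(RingHom.ker p.toAlgHom) ≃ₗ[k] (Fin r → k)) (x : P) :
    (diffSemi hP hm c x : TrivSqZeroExt k (Fin r → k)).fst = C'.res (p₁ x) := rfl

theorem diffSemi_snd (hP : IsFibreProd p₁ p₂ p p)
    (hm : IsLocalRing.maximalIdeal C' * RingHom.ker p.toAlgHom = ⊥) {r : ℕ}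
    (c : ↥(RingHom.ker p.toAlgHom) ≃ₗ[k] (Fin r → k)) (x : P) :
    (diffSemi hP hm c x : TrivSqZeroExt k (Fin r → k)).snd = c (dJ hP x) := rfl

theorem isFibreProd_diffSemi (hP : IsFibreProd p₁ p₂ p p)
    (hm : IsLocalRing.maximalIdeal C' * RingHom.ker p.toAlgHom = ⊥) {r : ℕ}
    (c : ↥(RingHom.ker p.toAlgHom) ≃ₗ[k] (Fin r → k)) :
    IsFibreProd p₁ (diffSemi hP hm c) (toBase C') (toBase (tsz k k r)) where
  w := by rw [eq_toBase (p₁ ≫ toBase _), eq_toBase (diffSemi hP hm c ≫ toBase _)]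
  inj b₁ b₂ h₁ h₂ := by
    have e : c (dJ hP b₁) = c (dJ hP b₂) := by
      have e0 := congrArg TrivSqZeroExt.snd h₂
      exact e0
    have e' : dJ hP b₁ = dJ hP b₂ := c.injective e
    have e'' : p₂ b₁ - p₁ b₁ = p₂ b₂ - p₁ b₂ := congrArg Subtype.val e'
    have e3 : p₂ b₁ = p₂ b₂ := by
      rw [h₁] at e''
      exact sub_left_injective e''
    exact hP.inj b₁ b₂ h₁ e3
  surj a' v h := by
    have h' : C'.res a' = (v : TrivSqZeroExt k (Fin r → k)).fst := h
    have hj : p ((c.symm (v : TrivSqZeroExt k (Fin r → k)).snd :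
        ↥(RingHom.ker p.toAlgHom)) : C') = 0 :=
      RingHom.mem_ker.1 (c.symm (v : TrivSqZeroExt k (Fin r → k)).snd).2
    have hpa : p a' = p (a' + ((c.symm (v : TrivSqZeroExt k (Fin r → k)).snd :
        ↥(RingHom.ker p.toAlgHom)) : C')) := by
      rw [map_add, hj, add_zero]
    obtain ⟨b, hb1, hb2⟩ := hP.surj a' _ hpa
    refine ⟨b, hb1, ?_⟩
    refine TrivSqZeroExt.ext ?_ ?_
    · change C'.res (p₁ b) = (v : TrivSqZeroExt k (Fin r → k)).fst
      rw [hb1]
      exact h'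
    · change c (dJ hP b) = (v : TrivSqZeroExt k (Fin r → k)).snd
      have e : dJ hP b = c.symm (v : TrivSqZeroExt k (Fin r → k)).snd := Subtype.ext (by
        show p₂ b - p₁ b = _
        rw [hb1, hb2]
        ring)
      rw [e, LinearEquiv.apply_symm_apply]

end Semi

section Abstract

variable {k : Type u} [Field k] {F : Art k k ⥤ Type v}

theorem fibre_bijective {P A' A T : Art k k} {p₁ p₂ : P ⟶ A'} {μ : A' ⟶ A} {δ : P ⟶ T}
    (hP : IsFibreProd p₁ p₂ μ μ) (hδ : IsFibreProd p₁ δ (toBase A') (toBase T))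
    (bP : Function.Bijective (cmp F hP)) (bδ : Function.Bijective (cmp F hδ)) (h0 : H0 F)
    (I : F.obj A) (I₀' : F.obj A') (hI₀' : F.map μ I₀' = I) :
    ∃ Θ : {I' : F.obj A' // F.map μ I' = I} → F.obj T, Function.Bijective Θ := by
  classical
  haveI := h0.2
  have hw : ∀ I' : {I' : F.obj A' // F.map μ I' = I},
      ∃ w : F.obj P, F.map p₁ w = I₀' ∧ F.map p₂ w = I'.1 := by
    intro I'
    obtain ⟨w, hw⟩ := bP.2 ⟨(I₀', I'.1), hI₀'.trans I'.2.symm⟩
    exact ⟨w, congrArg (fun t => t.1.1) hw, congrArg (fun t => t.1.2) hw⟩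
  choose w hw1 hw2 using hw
  refine ⟨fun I' => F.map δ (w I'), ?_, ?_⟩
  · intro I' I'' h
    have h1 : cmp F hδ (w I') = cmp F hδ (w I'') :=
      FibProd.ext ((hw1 I').trans (hw1 I'').symm) h
    have h2 := bδ.1 h1
    exact Subtype.ext ((hw2 I').symm.trans ((congrArg (F.map p₂) h2).trans (hw2 I'')))
  · intro v
    obtain ⟨w₀, hw₀⟩ := bδ.2 ⟨(I₀', v), Subsingleton.elim _ _⟩
    have e1 : F.map p₁ w₀ = I₀' := congrArg (fun t => t.1.1) hw₀
    have e2 : F.map δ w₀ = v := congrArg (fun t => t.1.2) hw₀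
    have hI' : F.map μ (F.map p₂ w₀) = I := by
      rw [← map_comp_app, ← hP.w, map_comp_app, e1, hI₀']
    refine ⟨⟨F.map p₂ w₀, hI'⟩, ?_⟩
    have h3 : cmp F hP (w ⟨F.map p₂ w₀, hI'⟩) = cmp F hP w₀ :=
      FibProd.ext ((hw1 _).trans e1.symm) (hw2 _)
    have h4 := bP.1 h3
    show F.map δ (w ⟨F.map p₂ w₀, hI'⟩) = v
    rw [h4, e2]

theorem tsz_zero_subsingleton (h0 : H0 F) : Subsingleton (F.obj (tsz k k 0)) := by
  have hb : Function.Bijective (toBase (tsz k k 0)) := by
    refine ⟨fun a b h => ?_, surjective_toBase _⟩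
    have h' : (a : TrivSqZeroExt k (Fin 0 → k)).fst = (b : TrivSqZeroExt k (Fin 0 → k)).fst := h
    exact TrivSqZeroExt.ext h' (Subsingleton.elim _ _)
  haveI := isIso_of_bijective _ hb
  haveI := h0.2
  refine ⟨fun a b => ?_⟩
  exact (map_map_inv F (toBase (tsz k k 0)) a).symm.trans
    ((congrArg (F.map (inv (toBase (tsz k k 0)))) (Subsingleton.elim _ _)).trans
      (map_map_inv F (toBase (tsz k k 0)) b))

theorem tsz_injective (h0 : H0 F) (h2 : Heps F) : ∀ (r : ℕ) (ξ₁ ξ₂ : F.obj (tsz k k r)),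
    (∀ j : Fin r, F.map (tszToDual (LinearMap.proj j)) ξ₁ =
      F.map (tszToDual (LinearMap.proj j)) ξ₂) → ξ₁ = ξ₂ := by
  intro r
  induction r with
  | zero =>
    intro ξ₁ ξ₂ _
    exact (tsz_zero_subsingleton h0).elim ξ₁ ξ₂
  | succ r ih =>
    intro ξ₁ ξ₂ h
    have e3 : ∀ i : Fin r, tszToDual (Λ := k)
        (LinearMap.proj (R := k) (φ := fun _ : Fin (r + 1) => k) i.castSucc) =
        tszInit r ≫ tszToDual (LinearMap.proj i) := by
      intro i
      unfold tszInit
      rw [tszLin_tszToDual]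
      rfl
    have h1 : F.map (tszInit r) ξ₁ = F.map (tszInit r) ξ₂ := by
      apply ih
      intro i
      rw [← map_comp_app, ← map_comp_app, ← e3]
      exact h i.castSucc
    have h2' := h (Fin.last r)
    exact (h2 _ _ (isFibreProd_tsz_succ (Λ := k) (k := k) r)).1 (FibProd.ext h1 h2')

theorem tsz_bijective (h0 : H0 F) (h2 : Heps F) (r : ℕ) :
    Function.Bijective (fun (ξ : F.obj (tsz k k r)) (j : Fin r) =>
      F.map (tszToDual (LinearMap.proj j)) ξ) :=
  ⟨fun ξ₁ ξ₂ h => tsz_injective h0 h2 r ξ₁ ξ₂ (fun j => congrFun h j),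
    fun v => by
      obtain ⟨ξ, hξ⟩ := exists_tsz_elt h0 h2 r v
      exact ⟨ξ, funext hξ⟩⟩

/-- **extensions along a semismall extension**: the fibre of `F(C') → F(C)` over a point, if
nonempty, is in bijection with `r` copies of the tangent space, `r` the dimension of the kernel. -/
theorem nonempty_fibre_equiv
    (hcmp : ∀ ⦃B A A' A'' : Art k k⦄ (p' : B ⟶ A') (p'' : B ⟶ A'') (f' : A' ⟶ A) (f'' : A'' ⟶ A)
      (h : IsFibreProd p' p'' f' f''), Function.Surjective f'' → Function.Bijective (cmp F h))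
    (h0 : H0 F) {C' C : Art k k} (p : C' ⟶ C) (hp : IsSemismallExt p) (I : F.obj C)
    (hne : ∃ I' : F.obj C', F.map p I' = I) :
    Nonempty ({I' : F.obj C' // F.map p I' = I} ≃
      (Fin (Module.finrank k ↥(RingHom.ker p.toAlgHom)) → F.obj (dual k k))) := by
  classical
  obtain ⟨I₀', hI₀'⟩ := hne
  haveI : IsNoetherian k C' := isNoetherian_art C'
  have hP := isFibreProd_fibreProd p p hp.1
  have hδ := isFibreProd_diffSemi hP hp.2
    (Module.finBasis k ↥(RingHom.ker p.toAlgHom)).equivFun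
  have h2 : Heps F := fun B A' p' p'' h => hcmp p' p'' _ _ h (surjective_toBase _)
  obtain ⟨Θ, hΘ⟩ := fibre_bijective hP hδ (hcmp _ _ _ _ hP hp.1)
    (hcmp _ _ _ _ hδ (surjective_toBase _)) h0 I I₀' hI₀'
  exact ⟨(Equiv.ofBijective Θ hΘ).trans (Equiv.ofBijective _ (tsz_bijective h0 h2 _))⟩

theorem nonempty_tensor_equiv (V : Type w) [AddCommGroup V] [Module k V] (J : Type u)
    [AddCommGroup J] [Module k J] [Module.Finite k J] :
    Nonempty ((Fin (Module.finrank k J) → V) ≃ V ⊗[k] J) :=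
  ⟨((TensorProduct.equivFinsuppOfBasisRight (Module.finBasis k J)).toEquiv.trans
    Finsupp.equivFunOnFinite).symm⟩

end Abstract

end Groth.Agent.Helper3.HilbExt
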