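import Mathlib
import Groth.Agent.Lib.Helper3.DerAutA
import Groth.Agent.Lib.Helper3.HilbRigA

/-! Ring-level construction of the first-order embedded deformation attached to a homomorphism
from the ideal of a closed subscheme to its structure sheaf (helper3): over a local ring `B` whose
maximal ideal is principal of square zero, on a chart of the product family with a section `σ`,
the ideal `{σ f + ε σ g : f ∈ I, g mod I = ψ f}`. -/

set_option autoImplicit false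
set_option linter.style.haveILetI false
universe u

namespace Groth.Agent.Helper3.HilbTan

open IsLocalRing TensorProduct Groth.Agent.Helper3.DerAut Groth.Agent.Helper3.HilbRig

/-- flatness criterion over a local ring whose maximal ideal is principal of square zero. -/
theorem flat_of_eps {B : Type u} [CommRing B] [IsLocalRing B] (ε : B)
    (hm : maximalIdeal B = Ideal.span {ε}) (hε2 : ε * ε = 0)
    {M : Type u} [AddCommGroup M] [Module B M]
    (h : ∀ x : M, ε • x = 0 → ∃ y : M, x = ε • y) : Module.Flat B M := by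
  rw [Module.Flat.iff_rTensor_injective']
  intro I
  by_cases hI : I ≤ maximalIdeal B
  · by_cases hε : ε ∈ I
    · rw [injective_iff_map_eq_zero]
      intro z hz
      have key : ∀ z : I ⊗[B] M, ∃ x : M, z = (⟨ε, hε⟩ : I) ⊗ₜ[B] x := by
        intro z
        induction z using TensorProduct.induction_on with
        | zero => exact ⟨0, (TensorProduct.tmul_zero _ _).symm⟩
        | tmul i x =>
          have hi := hI i.2
          rw [hm] at hi
          obtain ⟨b, hb⟩ := Ideal.mem_span_singleton'.1 hi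
          refine ⟨b • x, ?_⟩
          have e1 : i = b • (⟨ε, hε⟩ : I) := Subtype.ext (by
            show (i : B) = b • ε
            rw [smul_eq_mul, hb])
          rw [e1, TensorProduct.smul_tmul]
        | add z z' hz hz' =>
          obtain ⟨x, rfl⟩ := hz
          obtain ⟨x', rfl⟩ := hz'
          exact ⟨x + x', (TensorProduct.tmul_add _ _ _).symm⟩
      obtain ⟨x, rfl⟩ := key z
      have h1 : ε • x = 0 := by
        have h2 := congrArg (TensorProduct.lid B M) hz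
        rw [LinearMap.rTensor_tmul, map_zero, TensorProduct.lid_tmul] at h2
        exact h2
      obtain ⟨y, rfl⟩ := h x h1
      rw [← TensorProduct.smul_tmul]
      have e2 : ε • (⟨ε, hε⟩ : I) = 0 := Subtype.ext (by
        show ε • ε = 0
        rw [smul_eq_mul, hε2])
      rw [e2, TensorProduct.zero_tmul]
    · have hI0 : ∀ i : I, i = 0 := by
        intro i
        have hi := hI i.2
        rw [hm] at hi
        obtain ⟨b, hb⟩ := Ideal.mem_span_singleton'.1 hi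
        by_cases hbu : IsUnit b
        · exfalso
          apply hε
          obtain ⟨u, rfl⟩ := hbu
          have e3 : ε = ↑u⁻¹ * (i : B) := by
            rw [← hb, ← mul_assoc, Units.inv_mul, one_mul]
          rw [e3]
          exact I.mul_mem_left _ i.2
        · have hbm : b ∈ maximalIdeal B := (IsLocalRing.mem_maximalIdeal b).2 hbu
          rw [hm] at hbm
          obtain ⟨c, hc⟩ := Ideal.mem_span_singleton'.1 hbm
          apply Subtype.ext
          show (i : B) = 0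
          rw [← hb, ← hc, mul_assoc, hε2, mul_zero]
      have hz0 : ∀ z : I ⊗[B] M, z = 0 := by
        intro z
        induction z using TensorProduct.induction_on with
        | zero => rfl
        | tmul i x => rw [hI0 i, TensorProduct.zero_tmul]
        | add z z' hz hz' => rw [hz, hz', add_zero]
      intro a b _
      rw [hz0 a, hz0 b]
  · have hI' : I = ⊤ := by
      by_contra hne
      exact hI (IsLocalRing.le_maximalIdeal hne)
    subst hI'
    have e : LinearMap.rTensor M (Submodule.subtype (⊤ : Ideal B)) =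
        (LinearEquiv.rTensor M (Submodule.topEquiv : (⊤ : Ideal B) ≃ₗ[B] B)).toLinearMap := by
      apply TensorProduct.ext'
      intro i x
      rfl
    rw [e]
    exact (LinearEquiv.rTensor M _).injective

variable {B : Type u} [CommRing B] [IsLocalRing B] {R R₀ N : Type u} [CommRing R] [CommRing R₀]
  [CommRing N]

/-- a generator of the maximal ideal, of square zero. -/
structure Eps (B : Type u) [CommRing B] [IsLocalRing B] where
  ε : B
  hm : maximalIdeal B = Ideal.span {ε}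
  sq : ε * ε = 0
  ne : ε ≠ 0

/-- a chart of the product family: an ambient chart with a ring-theoretic section of the
restriction to the closed fibre. -/
structure Tan (am : Amb B R R₀ N) where
  σ : R₀ →+* R
  hσ : ∀ a, am.ιT (σ a) = a
  flat : am.ρ.Flat
  q₀_surj : Function.Surjective am.q₀

/-- a homomorphism from the ideal of the closed fibre to its quotient, on a chart. -/
structure PsiHom (am : Amb B R R₀ N) where
  ψ : RingHom.ker am.q₀ →+ N
  lin : ∀ (a : R₀) (f : RingHom.ker am.q₀), ψ (a • f) = am.q₀ a * ψ f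

section One

variable (E : Eps B) {am : Amb B R R₀ N} (T : Tan am) (P : PsiHom am)

theorem iota_eps : am.ιT (am.ρ E.ε) = 0 := by
  have h : am.ρ E.ε ∈ RingHom.ker am.ιT := by
    rw [am.ker_ιT]
    refine Ideal.mem_map_of_mem _ ?_
    rw [E.hm]
    exact Ideal.mem_span_singleton_self _
  exact h

theorem eps_sq : am.ρ E.ε * am.ρ E.ε = 0 := by
  rw [← map_mul, E.sq, map_zero]

theorem exists_of_iota_zero (r : R) (h : am.ιT r = 0) : ∃ r', r = am.ρ E.ε * r' := by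
  have h1 : r ∈ RingHom.ker am.ιT := h
  rw [am.ker_ιT, E.hm, Ideal.map_span, Set.image_singleton] at h1
  obtain ⟨r', hr'⟩ := Ideal.mem_span_singleton'.1 h1
  exact ⟨r', by rw [← hr', mul_comm]⟩

theorem decomp (r : R) : ∃ b : R₀, r = T.σ (am.ιT r) + am.ρ E.ε * T.σ b := by
  have h1 : am.ιT (r - T.σ (am.ιT r)) = 0 := by rw [map_sub, T.hσ, sub_self]
  obtain ⟨r', hr'⟩ := exists_of_iota_zero E _ h1
  have h2 : am.ιT (r' - T.σ (am.ιT r')) = 0 := by rw [map_sub, T.hσ, sub_self]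
  obtain ⟨r'', hr''⟩ := exists_of_iota_zero E _ h2
  refine ⟨am.ιT r', ?_⟩
  have h3 : am.ρ E.ε * r' = am.ρ E.ε * T.σ (am.ιT r') := by
    linear_combination (am.ρ E.ε) * hr'' + r'' * eps_sq (am := am) E
  linear_combination hr' + h3

include T in
theorem ann (r : R) (h : am.ρ E.ε * r = 0) : am.ιT r = 0 := by
  letI : Algebra B R := am.ρ.toAlgebra
  haveI : Module.Flat B R := T.flat
  have h1 : E.ε • r ∈ (⊥ : Ideal B) • (⊤ : Submodule B R) := by
    rw [Ideal.smul_top_eq_map]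
    show E.ε • r ∈ Ideal.map am.ρ ⊥
    rw [Algebra.smul_def, Ideal.map_bot, Ideal.mem_bot]
    exact h
  have h2 := mem_of_smul_mem ⊥ E.ε (fun h0 => E.ne ((Ideal.mem_bot).1 h0)) r h1
  rw [Ideal.smul_top_eq_map] at h2
  have h3 : r ∈ Ideal.map am.ρ (maximalIdeal B) := h2
  rw [← am.ker_ιT] at h3
  exact h3

theorem uniq (a b : R₀) (h : T.σ a + am.ρ E.ε * T.σ b = 0) : a = 0 ∧ b = 0 := by
  have ha : a = 0 := by
    have h1 := congrArg am.ιT h
    rw [map_add, map_mul, iota_eps E, zero_mul, add_zero, T.hσ, map_zero] at h1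
    exact h1
  refine ⟨ha, ?_⟩
  rw [ha, map_zero, zero_add] at h
  have h2 := ann E T _ h
  rw [T.hσ] at h2
  exact h2

/-- the ideal of the first-order deformation attached to `ψ`. -/
def Ipsi : Ideal R where
  carrier := {r | ∃ (f : RingHom.ker am.q₀) (g : R₀),
    am.q₀ g = P.ψ f ∧ r = T.σ f.1 + am.ρ E.ε * T.σ g}
  add_mem' := by
    rintro _ _ ⟨f, g, hg, rfl⟩ ⟨f', g', hg', rfl⟩
    refine ⟨f + f', g + g', ?_, ?_⟩
    · rw [map_add, map_add, hg, hg']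
    · have e : ((f + f' : RingHom.ker am.q₀) : R₀) = f.1 + f'.1 := rfl
      rw [e, map_add, map_add]
      ring
  zero_mem' := by
    refine ⟨0, 0, ?_, ?_⟩
    · rw [map_zero, map_zero]
    · have e : ((0 : RingHom.ker am.q₀) : R₀) = 0 := rfl
      rw [e, map_zero, mul_zero, add_zero]
  smul_mem' := by
    rintro c _ ⟨f, g, hg, rfl⟩
    obtain ⟨b, hb⟩ := decomp E T c
    refine ⟨am.ιT c • f, am.ιT c * g + b * f.1, ?_, ?_⟩
    · have hf0 : am.q₀ f.1 = 0 := f.2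
      rw [P.lin, map_add, map_mul, map_mul, hg, hf0, mul_zero, add_zero]
    · have e : ((am.ιT c • f : RingHom.ker am.q₀) : R₀) = am.ιT c * f.1 := rfl
      show c * (T.σ f.1 + am.ρ E.ε * T.σ g) =
        T.σ ((am.ιT c • f : RingHom.ker am.q₀) : R₀) + am.ρ E.ε * T.σ (am.ιT c * g + b * f.1)
      rw [e, map_mul, map_add, map_mul, map_mul]
      linear_combination (T.σ f.1 + am.ρ E.ε * T.σ g) * hb +
        (T.σ b * T.σ g) * eps_sq (am := am) E

theorem mem_Ipsi {r : R} : r ∈ Ipsi E T P ↔ ∃ (f : RingHom.ker am.q₀) (g : R₀),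
    am.q₀ g = P.ψ f ∧ r = T.σ f.1 + am.ρ E.ε * T.σ g := Iff.rfl

theorem map_iota_Ipsi : Ideal.map am.ιT (Ipsi E T P) = RingHom.ker am.q₀ := by
  apply le_antisymm
  · rw [Ideal.map_le_iff_le_comap]
    rintro _ ⟨f, g, hg, rfl⟩
    rw [Ideal.mem_comap, map_add, map_mul, iota_eps E, zero_mul, add_zero, T.hσ]
    exact f.2
  · intro f hf
    obtain ⟨g, hg⟩ := T.q₀_surj (P.ψ ⟨f, hf⟩)
    have e : am.ιT (T.σ f + am.ρ E.ε * T.σ g) = f := by
      rw [map_add, map_mul, iota_eps E, zero_mul, add_zero, T.hσ]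
    rw [← e]
    exact Ideal.mem_map_of_mem _ ⟨⟨f, hf⟩, g, hg, rfl⟩

theorem flat_quot {M : Type u} [CommRing M] (π : R →+* M) (hπ : Function.Surjective π)
    (hker : RingHom.ker π = Ipsi E T P) : (π.comp am.ρ).Flat := by
  letI : Algebra B M := (π.comp am.ρ).toAlgebra
  show Module.Flat B M
  refine flat_of_eps E.ε E.hm E.sq (fun x hx => ?_)
  obtain ⟨r, rfl⟩ := hπ x
  obtain ⟨b, hb⟩ := decomp E T r
  have hsm : ∀ m : M, E.ε • m = π (am.ρ E.ε) * m := fun m => Algebra.smul_def _ _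
  have hx' : π (am.ρ E.ε * r) = 0 := by
    rw [map_mul, ← hsm]
    exact hx
  have h1 : am.ρ E.ε * r ∈ Ipsi E T P := by
    rw [← hker]
    exact hx'
  obtain ⟨f, g, hg, hfg⟩ := h1
  have h2 : am.ρ E.ε * r = am.ρ E.ε * T.σ (am.ιT r) := by
    linear_combination (am.ρ E.ε) * hb + (T.σ b) * eps_sq (am := am) E
  have h3 : T.σ f.1 + am.ρ E.ε * T.σ (g - am.ιT r) = 0 := by
    rw [map_sub]
    linear_combination h2 - hfg
  obtain ⟨hf0, hg0⟩ := uniq E T _ _ h3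
  have ha : am.q₀ (am.ιT r) = 0 := by
    have e1 : g = am.ιT r := sub_eq_zero.1 hg0
    have e2 : f = 0 := Subtype.ext hf0
    rw [← e1, hg, e2, map_zero]
  obtain ⟨g', hg'⟩ := T.q₀_surj (P.ψ ⟨am.ιT r, ha⟩)
  refine ⟨π (T.σ (b - g')), ?_⟩
  have h4 : T.σ (am.ιT r) + am.ρ E.ε * T.σ g' ∈ Ipsi E T P := ⟨⟨am.ιT r, ha⟩, g', hg', rfl⟩
  rw [← hker] at h4
  have h5 : π (T.σ (am.ιT r) + am.ρ E.ε * T.σ g') = 0 := h4
  have h7 : r = (T.σ (am.ιT r) + am.ρ E.ε * T.σ g') + am.ρ E.ε * T.σ (b - g') := by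
    rw [map_sub]
    linear_combination hb
  rw [hsm, ← map_mul]
  conv_lhs => rw [h7]
  rw [map_add, h5, zero_add]

theorem psi_eq_of_Ipsi_le (P' : PsiHom am) (h : Ipsi E T P ≤ Ipsi E T P')
    (f : RingHom.ker am.q₀) : P.ψ f = P'.ψ f := by
  obtain ⟨g, hg⟩ := T.q₀_surj (P.ψ f)
  have h1 : T.σ f.1 + am.ρ E.ε * T.σ g ∈ Ipsi E T P := ⟨f, g, hg, rfl⟩
  obtain ⟨f', g', hg', hfg⟩ := h h1
  have h3 : T.σ (f.1 - f'.1) + am.ρ E.ε * T.σ (g - g') = 0 := by
    rw [map_sub, map_sub]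
    linear_combination hfg
  obtain ⟨hf0, hg0⟩ := uniq E T _ _ h3
  have e1 : f = f' := Subtype.ext (sub_eq_zero.1 hf0)
  have e2 : g = g' := sub_eq_zero.1 hg0
  rw [← hg, e2, hg', e1]

end One

section Two

variable (E : Eps B) {am : Amb B R R₀ N} (T : Tan am) (P : PsiHom am)
  {R₂ R₀₂ N₂ : Type u} [CommRing R₂] [CommRing R₀₂] [CommRing N₂] {am₂ : Amb B R₂ R₀₂ N₂}
  (T₂ : Tan am₂) (P₂ : PsiHom am₂) (β : R →+* R₂) (β₀ : R₀ →+* R₀₂) (ν : N →+* N₂)
  (hβρ : ∀ a, β (am.ρ a) = am₂.ρ a) (hβσ : ∀ a, β (T.σ a) = T₂.σ (β₀ a))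
  (hνq : ∀ a, am₂.q₀ (β₀ a) = ν (am.q₀ a))
  (hψ : ∀ (f : RingHom.ker am.q₀) (h : am₂.q₀ (β₀ f.1) = 0), P₂.ψ ⟨β₀ f.1, h⟩ = ν (P.ψ f))
  (hker : RingHom.ker am₂.q₀ = Ideal.map β₀ (RingHom.ker am.q₀))

include hβρ hβσ hνq hψ in
theorem map_Ipsi_le : Ideal.map β (Ipsi E T P) ≤ Ipsi E T₂ P₂ := by
  rw [Ideal.map_le_iff_le_comap]
  rintro _ ⟨f, g, hg, rfl⟩
  have hf2 : am₂.q₀ (β₀ f.1) = 0 := by
    have hf0 : am.q₀ f.1 = 0 := f.2
    rw [hνq, hf0, map_zero]
  refine ⟨⟨β₀ f.1, hf2⟩, β₀ g, ?_, ?_⟩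
  · rw [hνq, hg, hψ]
  · show β (T.σ f.1 + am.ρ E.ε * T.σ g) = T₂.σ (β₀ f.1) + am₂.ρ E.ε * T₂.σ (β₀ g)
    rw [map_add, map_mul, hβρ, hβσ, hβσ]

include hβρ hβσ in
theorem claimA (h : R₀₂) (hh : h ∈ Ideal.map β₀ (RingHom.ker am.q₀)) :
    am₂.ρ E.ε * T₂.σ h ∈ Ideal.map β (Ipsi E T P) := by
  refine Submodule.span_induction
    (p := fun h _ => am₂.ρ E.ε * T₂.σ h ∈ Ideal.map β (Ipsi E T P)) ?_ ?_ ?_ ?_ hh
  · rintro _ ⟨h₀, hh₀, rfl⟩
    have h1 : am.ρ E.ε * T.σ h₀ ∈ Ipsi E T P := by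
      refine ⟨0, h₀, ?_, ?_⟩
      · rw [map_zero]
        exact hh₀
      · have e : ((0 : RingHom.ker am.q₀) : R₀) = 0 := rfl
        rw [e, map_zero, zero_add]
    have h2 := Ideal.mem_map_of_mem β h1
    rw [map_mul, hβρ, hβσ] at h2
    exact h2
  · rw [map_zero, mul_zero]
    exact Ideal.zero_mem _
  · intro a b _ _ ha hb
    rw [map_add, mul_add]
    exact Ideal.add_mem _ ha hb
  · intro c a _ ha
    have e : am₂.ρ E.ε * T₂.σ (c • a) = T₂.σ c * (am₂.ρ E.ε * T₂.σ a) := by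
      rw [smul_eq_mul, map_mul]
      ring
    rw [e]
    exact Ideal.mul_mem_left _ _ ha

include hβρ hβσ hνq hψ in
theorem claimB (f' : R₀₂) (hf' : f' ∈ Ideal.map β₀ (RingHom.ker am.q₀)) :
    ∃ g₀ : R₀₂, (∃ h : am₂.q₀ f' = 0, am₂.q₀ g₀ = P₂.ψ ⟨f', h⟩) ∧
      T₂.σ f' + am₂.ρ E.ε * T₂.σ g₀ ∈ Ideal.map β (Ipsi E T P) := by
  refine Submodule.span_induction
    (p := fun f' _ => ∃ g₀ : R₀₂, (∃ h : am₂.q₀ f' = 0, am₂.q₀ g₀ = P₂.ψ ⟨f', h⟩) ∧
      T₂.σ f' + am₂.ρ E.ε * T₂.σ g₀ ∈ Ideal.map β (Ipsi E T P)) ?_ ?_ ?_ ?_ hf'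
  · rintro _ ⟨f₀, hf₀, rfl⟩
    obtain ⟨g, hg⟩ := T.q₀_surj (P.ψ ⟨f₀, hf₀⟩)
    have hf2 : am₂.q₀ (β₀ f₀) = 0 := by
      have hf0 : am.q₀ f₀ = 0 := hf₀
      rw [hνq, hf0, map_zero]
    refine ⟨β₀ g, ⟨hf2, ?_⟩, ?_⟩
    · rw [hνq, hg]
      exact (hψ ⟨f₀, hf₀⟩ hf2).symm
    · have h1 : T.σ f₀ + am.ρ E.ε * T.σ g ∈ Ipsi E T P := ⟨⟨f₀, hf₀⟩, g, hg, rfl⟩
      have h2 := Ideal.mem_map_of_mem β h1
      rw [map_add, map_mul, hβρ, hβσ, hβσ] at h2
      exact h2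
  · refine ⟨0, ⟨map_zero _, ?_⟩, ?_⟩
    · have e : (⟨0, map_zero am₂.q₀⟩ : RingHom.ker am₂.q₀) = 0 := rfl
      rw [e, map_zero, map_zero]
    · rw [map_zero, mul_zero, add_zero]
      exact Ideal.zero_mem _
  · rintro a b _ _ ⟨ga, ⟨ha0, hga⟩, hma⟩ ⟨gb, ⟨hb0, hgb⟩, hmb⟩
    have hab : am₂.q₀ (a + b) = 0 := by rw [map_add, ha0, hb0, add_zero]
    refine ⟨ga + gb, ⟨hab, ?_⟩, ?_⟩
    · have e : (⟨a + b, hab⟩ : RingHom.ker am₂.q₀) = ⟨a, ha0⟩ + ⟨b, hb0⟩ := rfl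
      rw [e, map_add, map_add, hga, hgb]
    · have e : T₂.σ (a + b) + am₂.ρ E.ε * T₂.σ (ga + gb) =
          (T₂.σ a + am₂.ρ E.ε * T₂.σ ga) + (T₂.σ b + am₂.ρ E.ε * T₂.σ gb) := by
        rw [map_add, map_add]
        ring
      rw [e]
      exact Ideal.add_mem _ hma hmb
  · rintro c a _ ⟨ga, ⟨ha0, hga⟩, hma⟩
    have hca : am₂.q₀ (c • a) = 0 := by rw [smul_eq_mul, map_mul, ha0, mul_zero]
    refine ⟨c * ga, ⟨hca, ?_⟩, ?_⟩
    · have e : (⟨c • a, hca⟩ : RingHom.ker am₂.q₀) = c • ⟨a, ha0⟩ := rfl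
      rw [e, P₂.lin, map_mul, hga]
    · have e : T₂.σ (c • a) + am₂.ρ E.ε * T₂.σ (c * ga) =
          T₂.σ c * (T₂.σ a + am₂.ρ E.ε * T₂.σ ga) := by
        rw [smul_eq_mul, map_mul, map_mul]
        ring
      rw [e]
      exact Ideal.mul_mem_left _ _ hma

include hβρ hβσ hνq hψ hker in
theorem map_Ipsi : Ideal.map β (Ipsi E T P) = Ipsi E T₂ P₂ := by
  apply le_antisymm (map_Ipsi_le E T P T₂ P₂ β β₀ ν hβρ hβσ hνq hψ)
  rintro _ ⟨f', g', hg', rfl⟩
  have hf'm : f'.1 ∈ Ideal.map β₀ (RingHom.ker am.q₀) := by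
    rw [← hker]
    exact f'.2
  obtain ⟨g₀, ⟨h0, hg₀⟩, hmem⟩ := claimB E T P T₂ P₂ β β₀ ν hβρ hβσ hνq hψ f'.1 hf'm
  have e0 : (⟨f'.1, h0⟩ : RingHom.ker am₂.q₀) = f' := rfl
  rw [e0] at hg₀
  have hd : g' - g₀ ∈ Ideal.map β₀ (RingHom.ker am.q₀) := by
    rw [← hker, RingHom.mem_ker, map_sub, hg', hg₀, sub_self]
  have hA := claimA E T P T₂ β β₀ hβρ hβσ (g' - g₀) hd
  have e : T₂.σ f'.1 + am₂.ρ E.ε * T₂.σ g' =
      (T₂.σ f'.1 + am₂.ρ E.ε * T₂.σ g₀) + am₂.ρ E.ε * T₂.σ (g' - g₀) := by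
    rw [map_sub]
    ring
  rw [e]
  exact Ideal.add_mem _ hmem hA

end Two

end Groth.Agent.Helper3.HilbTan
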