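import Mathlib
import Groth.Prelude.Def_ArtFun6
import Groth.Prelude.Def_Omega4
import Groth.Agent.Lib.Lead.OmU1
import Groth.Agent.Lib.Lead.OmU13a
import Groth.Agent.Lib.Lead.OmU14a
import Groth.Agent.Lib.Lead.IdM1
import Groth.Agent.Lib.Helper1.IdealModL
import Groth.Agent.Lib.Helper4.IdealComap
import Groth.Agent.Lib.Helper3.LH2
import Groth.Agent.Lib.Helper3.DerAutB
import Groth.Agent.Lib.Helper3.DerAutE
import Groth.Agent.Lib.Helper3.HilbRigA
import Groth.Agent.Lib.Helper3.HilbRigB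
import Groth.Agent.Lib.Helper3.HilbTanA

/-! The first-order embedded deformation of a closed subscheme `Y ⊆ X` attached to a
homomorphism `I_Y → O_Y` (helper3): scheme-level gluing of the ring-level ideals of `HilbTanA`;
the deformation determines the homomorphism. -/

set_option autoImplicit false
set_option linter.style.haveILetI false
universe u
open CategoryTheory CategoryTheory.Limits AlgebraicGeometry TopologicalSpace Opposite

set_option backward.isDefEq.respectTransparency.types false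

namespace Groth.Agent.Helper3.HilbTan

open ArtFun ArtFun.Art OmegaSh IsLocalRing Groth.Agent.Helper3.DerAut Groth.Agent.Lead.OmU
  Groth.Agent.Lead.IdM Groth.Agent.Helper3.HilbRig

section Dual

variable (k : Type u) [Field k]

theorem dn_eq_mul (a : DualNumber k) (ha : TrivSqZeroExt.fst a = 0) :
    a = DualNumber.eps * TrivSqZeroExt.inl (TrivSqZeroExt.snd a) := by
  ext
  · simp [ha]
  · simp

/-- the generator `ε` of the maximal ideal of the dual numbers. -/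
noncomputable def epsD : Eps (Art.dual k k : Art k k) where
  ε := (DualNumber.eps : DualNumber k)
  hm := by
    apply le_antisymm
    · intro a ha
      have h1 : TrivSqZeroExt.fst (a : DualNumber k) = 0 :=
        ((Art.dual k k : Art k k).mem_maximalIdeal_iff a).1 ha
      have h2 := dn_eq_mul k a h1
      exact Ideal.mem_span_singleton'.2
        ⟨TrivSqZeroExt.inl (TrivSqZeroExt.snd (a : DualNumber k)), (h2.trans (mul_comm _ _)).symm⟩
    · rw [Ideal.span_le, Set.singleton_subset_iff]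
      exact ((Art.dual k k : Art k k).mem_maximalIdeal_iff _).2 rfl
  sq := DualNumber.eps_mul_eps
  ne := by
    intro h
    have h1 := congrArg TrivSqZeroExt.snd h
    exact one_ne_zero (α := k) h1

end Dual

theorem map_homOfLE_self {Z : Scheme.{u}} (V : Z.Opens) (e : V ≤ V) (z : Γ(Z, V)) :
    (Z.presheaf.map (homOfLE e).op).hom z = z := by
  have h2 : homOfLE e = 𝟙 V := Subsingleton.elim _ _
  rw [h2, op_id, Z.presheaf.map_id]
  rfl

theorem id_appLE_self {X : Scheme.{u}} (U : X.Opens) (e : U ≤ (𝟙 X : X ⟶ X) ⁻¹ᵁ U)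
    (s : Γ(X, U)) : ((𝟙 X : X ⟶ X).appLE U U e).hom s = s :=
  map_homOfLE_self U e s

section Charts

variable {k : Type u} [Field k] {X : Scheme.{u}} (x : X ⟶ specPt k) (B : Art k k)

theorem le_pr_preimage (W : (XA x B).Opens) :
    W ≤ (pullback.fst x (specOver B)) ⁻¹ᵁ ((XAincl x B) ⁻¹ᵁ W) := by
  intro t ht
  obtain ⟨p, rfl⟩ := (DefGl.surjective_i (trivB x B)).surj t
  have h1 : (XAincl x B ≫ pullback.fst x (specOver B)) p = p := by
    rw [XAincl_fst]
    rfl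
  have h2 : (pullback.fst x (specOver B)) ((XAincl x B) p) = p := h1
  show (XAincl x B) ((pullback.fst x (specOver B)) ((XAincl x B) p)) ∈ W
  rw [h2]
  exact ht

theorem sigma_section (W : (XA x B).Opens) (a : Γ(X, (XAincl x B) ⁻¹ᵁ W)) :
    ((XAincl x B).app W).hom (((pullback.fst x (specOver B)).appLE ((XAincl x B) ⁻¹ᵁ W) W
      (le_pr_preimage x B W)).hom a) = a := by
  have h1 : (pullback.fst x (specOver B)).appLE ((XAincl x B) ⁻¹ᵁ W) W (le_pr_preimage x B W) ≫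
      (XAincl x B).app W = (𝟙 X : X ⟶ X).appLE ((XAincl x B) ⁻¹ᵁ W) ((XAincl x B) ⁻¹ᵁ W) le_rfl := by
    rw [← Scheme.Hom.appLE_eq_app (XAincl x B) (U := W), Scheme.Hom.appLE_comp_appLE,
      appLE_of_eq (XAincl_fst x B)]
  exact (congrArg (fun m => m.hom a) h1).trans (id_appLE_self _ _ a)

variable (I₀ : X.IdealSheafData)

/-- the chart of the product family with its section. -/
noncomputable def tanC (W : (XA x B).Opens) (hW : IsAffineOpen W) : Tan (ambC I₀ W hW) where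
  σ := ((pullback.fst x (specOver B)).appLE ((XAincl x B) ⁻¹ᵁ W) W (le_pr_preimage x B W)).hom
  hσ := sigma_section x B W
  flat := rho_flat (trivB x B) W hW
  q₀_surj := fun n => by
    obtain ⟨s, hs⟩ := I₀.subschemeι_app_surjective
      ⟨(XAincl x B) ⁻¹ᵁ W, isAffineOpen_preimage (trivB x B) W hW⟩ n
    exact ⟨s, hs⟩

end Charts

section Quot

variable {X : Scheme.{u}} (I₀ : X.IdealSheafData)

/-- sections of the quotient module `O_X / I_Y` as sections of `O_Y`. -/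
noncomputable def fromQuot (U : X.Opens) :
    Γ(ClSub.quotMod I₀, U) →+ Γ(I₀.subscheme, I₀.subschemeι ⁻¹ᵁ U) :=
  fnSect I₀.subscheme (I₀.subschemeι ⁻¹ᵁ U)

theorem fromQuot_smul (U : X.Opens) (r : Γ(X, U)) (n : Γ(ClSub.quotMod I₀, U)) :
    fromQuot I₀ U (r • n) = (I₀.subschemeι.app U).hom r * fromQuot I₀ U n := rfl

theorem fromQuot_map {U U' : X.Opens} (h : U' ≤ U) (n : Γ(ClSub.quotMod I₀, U)) :
    fromQuot I₀ U' ((ClSub.quotMod I₀).presheaf.map (homOfLE h).op n) =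
      (I₀.subscheme.presheaf.map (homOfLE (I₀.subschemeι.preimage_mono h)).op).hom
        (fromQuot I₀ U n) := rfl

/-- the section of the ideal module with given value in the ideal. -/
noncomputable def liftY (U : X.Opens) (f : RingHom.ker (I₀.subschemeι.app U).hom) :
    Γ(ClSub.idealMod I₀, U) :=
  Classical.choose ((mem_range_ι_iff I₀ U f.1).2 f.2)

theorem idealSect_liftY (U : X.Opens) (f : RingHom.ker (I₀.subschemeι.app U).hom) :
    idealSect I₀ U (liftY I₀ U f) = f.1 :=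
  Classical.choose_spec ((mem_range_ι_iff I₀ U f.1).2 f.2)

theorem idealSect_inj (U : X.Opens) {y y' : Γ(ClSub.idealMod I₀, U)}
    (h : idealSect I₀ U y = idealSect I₀ U y') : y = y' :=
  OmegaSh.idealModι_app_injective U I₀ h

theorem liftY_add (U : X.Opens) (f f' : RingHom.ker (I₀.subschemeι.app U).hom) :
    liftY I₀ U (f + f') = liftY I₀ U f + liftY I₀ U f' := by
  apply idealSect_inj
  rw [map_add, idealSect_liftY, idealSect_liftY, idealSect_liftY]
  rfl

theorem liftY_smul (U : X.Opens) (a : Γ(X, U)) (f : RingHom.ker (I₀.subschemeι.app U).hom) :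
    liftY I₀ U (a • f) = a • liftY I₀ U f := by
  apply idealSect_inj
  rw [idealSect_smul, idealSect_liftY, idealSect_liftY]
  rfl

theorem liftY_map {U U' : X.Opens} (h : U' ≤ U) (f : RingHom.ker (I₀.subschemeι.app U).hom)
    (hf' : (I₀.subschemeι.app U').hom ((X.presheaf.map (homOfLE h).op).hom f.1) = 0) :
    liftY I₀ U' ⟨(X.presheaf.map (homOfLE h).op).hom f.1, hf'⟩ =
      (ClSub.idealMod I₀).presheaf.map (homOfLE h).op (liftY I₀ U f) := by
  apply idealSect_inj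
  have h1 := idealSect_liftY I₀ U' ⟨(X.presheaf.map (homOfLE h).op).hom f.1, hf'⟩
  have h2 := idealSect_map I₀ h (liftY I₀ U f)
  have h3 := idealSect_liftY I₀ U f
  exact h1.trans ((congrArg (X.presheaf.map (homOfLE h).op).hom h3.symm).trans h2.symm)

end Quot

section Psi

variable {k : Type u} [Field k] {X : Scheme.{u}} (x : X ⟶ specPt k) (B : Art k k)
  {I₀ : X.IdealSheafData} (φ : ClSub.idealMod I₀ ⟶ ClSub.quotMod I₀)

theorem liftY_gEl (W : (XA x B).Opens) (hW : IsAffineOpen W)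
    (m : Γ(ClSub.idealMod I₀, (XAincl x B) ⁻¹ᵁ W)) :
    liftY I₀ ((XAincl x B) ⁻¹ᵁ W) (gEl W hW m) = m := by
  apply idealSect_inj
  exact idealSect_liftY I₀ _ _

/-- the homomorphism `I_Y → O_Y` on a chart. -/
noncomputable def psiC (W : (XA x B).Opens) (hW : IsAffineOpen W) : PsiHom (ambC I₀ W hW) where
  ψ := AddMonoidHom.mk'
    (fun f => fromQuot I₀ ((XAincl x B) ⁻¹ᵁ W)
      (φ.app ((XAincl x B) ⁻¹ᵁ W) (liftY I₀ ((XAincl x B) ⁻¹ᵁ W) f)))
    (fun f f' =>
      (congrArg (fun y => fromQuot I₀ ((XAincl x B) ⁻¹ᵁ W) (φ.app ((XAincl x B) ⁻¹ᵁ W) y))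
        (liftY_add I₀ ((XAincl x B) ⁻¹ᵁ W) f f')).trans (by
          show fromQuot I₀ ((XAincl x B) ⁻¹ᵁ W) (φ.app ((XAincl x B) ⁻¹ᵁ W)
            (liftY I₀ ((XAincl x B) ⁻¹ᵁ W) f + liftY I₀ ((XAincl x B) ⁻¹ᵁ W) f')) =
            fromQuot I₀ ((XAincl x B) ⁻¹ᵁ W) (φ.app ((XAincl x B) ⁻¹ᵁ W)
              (liftY I₀ ((XAincl x B) ⁻¹ᵁ W) f)) +
            fromQuot I₀ ((XAincl x B) ⁻¹ᵁ W) (φ.app ((XAincl x B) ⁻¹ᵁ W)
              (liftY I₀ ((XAincl x B) ⁻¹ᵁ W) f'))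
          rw [map_add, map_add]))
  lin := fun a f =>
    (congrArg (fun y => fromQuot I₀ ((XAincl x B) ⁻¹ᵁ W) (φ.app ((XAincl x B) ⁻¹ᵁ W) y))
      (liftY_smul I₀ ((XAincl x B) ⁻¹ᵁ W) a f)).trans
      ((congrArg (fromQuot I₀ ((XAincl x B) ⁻¹ᵁ W))
        (Scheme.Modules.Hom.app_smul φ a (liftY I₀ ((XAincl x B) ⁻¹ᵁ W) f))).trans
        (fromQuot_smul I₀ ((XAincl x B) ⁻¹ᵁ W) a _))

theorem psiC_apply (W : (XA x B).Opens) (hW : IsAffineOpen W)
    (f : RingHom.ker (ambC I₀ W hW).q₀) :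
    (psiC x B φ W hW).ψ f = fromQuot I₀ ((XAincl x B) ⁻¹ᵁ W)
      (φ.app ((XAincl x B) ⁻¹ᵁ W) (liftY I₀ ((XAincl x B) ⁻¹ᵁ W) f)) := rfl

theorem psiC_nat {W W' : (XA x B).Opens} (hW : IsAffineOpen W) (hW' : IsAffineOpen W')
    (h : W' ≤ W) (f : RingHom.ker (ambC I₀ W hW).q₀)
    (hh : (ambC I₀ W' hW').q₀
      ((X.presheaf.map (homOfLE ((XAincl x B).preimage_mono h)).op).hom f.1) = 0) :
    (psiC x B φ W' hW').ψ
        ⟨(X.presheaf.map (homOfLE ((XAincl x B).preimage_mono h)).op).hom f.1, hh⟩ =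
      (I₀.subscheme.presheaf.map (homOfLE (I₀.subschemeι.preimage_mono
        ((XAincl x B).preimage_mono h))).op).hom ((psiC x B φ W hW).ψ f) := by
  have h1 := liftY_map I₀ ((XAincl x B).preimage_mono h) f hh
  have h2 := hom_app_res φ ((XAincl x B).preimage_mono h) (liftY I₀ ((XAincl x B) ⁻¹ᵁ W) f)
  have h3 := fromQuot_map I₀ ((XAincl x B).preimage_mono h)
    (φ.app ((XAincl x B) ⁻¹ᵁ W) (liftY I₀ ((XAincl x B) ⁻¹ᵁ W) f))
  exact (congrArg (fun y => fromQuot I₀ ((XAincl x B) ⁻¹ᵁ W')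
    (φ.app ((XAincl x B) ⁻¹ᵁ W') y)) h1).trans
    ((congrArg (fromQuot I₀ ((XAincl x B) ⁻¹ᵁ W')) h2).trans h3)

end Psi

section Ideal

variable {k : Type u} [Field k] {X : Scheme.{u}} (x : X ⟶ specPt k) (B : Art k k) (E : Eps B)
  {I₀ : X.IdealSheafData} (φ : ClSub.idealMod I₀ ⟶ ClSub.quotMod I₀)

theorem map_ideal_res (W W' : (XA x B).affineOpens) (h : W'.1 ≤ W.1) :
    Ideal.map ((XA x B).presheaf.map (homOfLE h).op).hom
        (Ipsi E (tanC x B I₀ W.1 W.2) (psiC x B φ W.1 W.2)) =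
      Ipsi E (tanC x B I₀ W'.1 W'.2) (psiC x B φ W'.1 W'.2) := by
  have hU : (XAincl x B) ⁻¹ᵁ W'.1 ≤ (XAincl x B) ⁻¹ᵁ W.1 := (XAincl x B).preimage_mono h
  have hUa : (⟨(XAincl x B) ⁻¹ᵁ W'.1, isAffineOpen_preimage (trivB x B) W'.1 W'.2⟩ :
      X.affineOpens) ≤ ⟨(XAincl x B) ⁻¹ᵁ W.1, isAffineOpen_preimage (trivB x B) W.1 W.2⟩ := hU
  have hker : RingHom.ker (ambC I₀ W'.1 W'.2).q₀ =
      Ideal.map (X.presheaf.map (homOfLE hU).op).hom (RingHom.ker (ambC I₀ W.1 W.2).q₀) :=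
    (I₀.ker_subschemeι_app ⟨(XAincl x B) ⁻¹ᵁ W'.1,
      isAffineOpen_preimage (trivB x B) W'.1 W'.2⟩).trans
      ((I₀.map_ideal hUa).symm.trans
        (congrArg (Ideal.map (X.presheaf.map (homOfLE hU).op).hom)
          (I₀.ker_subschemeι_app ⟨(XAincl x B) ⁻¹ᵁ W.1,
            isAffineOpen_preimage (trivB x B) W.1 W.2⟩).symm))
  exact map_Ipsi E (tanC x B I₀ W.1 W.2) (psiC x B φ W.1 W.2) (tanC x B I₀ W'.1 W'.2)
    (psiC x B φ W'.1 W'.2) ((XA x B).presheaf.map (homOfLE h).op).hom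
    (X.presheaf.map (homOfLE hU).op).hom
    (I₀.subscheme.presheaf.map (homOfLE (I₀.subschemeι.preimage_mono hU)).op).hom
    (fun a => rho_map (trivB x B) h a)
    (fun a => (appLE_res (pullback.fst x (specOver B)) hU h (le_pr_preimage x B W.1)
      (le_pr_preimage x B W'.1) a).symm)
    (fun a => app_map I₀.subschemeι hU a)
    (fun f hh => psiC_nat x B φ W.2 W'.2 h f hh)
    hker

/-- the ideal sheaf of the first-order deformation attached to `φ`. -/
noncomputable def tanIdeal : (XA x B).IdealSheafData where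
  ideal W := Ipsi E (tanC x B I₀ W.1 W.2) (psiC x B φ W.1 W.2)
  map_ideal_basicOpen W r :=
    map_ideal_res x B E φ W ((XA x B).affineBasicOpen r) ((XA x B).basicOpen_le r)

theorem pi_rhoJ (J : (XA x B).IdealSheafData) (W : (XA x B).Opens) (a : B) :
    (J.subschemeι.app W).hom (rho (trivB x B) W a) =
      ((J.subschemeι ≫ XApr x B).appLE ⊤ (J.subschemeι ⁻¹ᵁ W) le_top).hom
        ((Scheme.ΓSpecIso (CommRingCat.of B)).inv.hom a) := by
  have h1 := app_map J.subschemeι (le_top : W ≤ ⊤) (rhoTop (trivB x B) a)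
  exact h1

theorem flatOver_tanIdeal : FlatOver X x B (tanIdeal x B E φ) := by
  show Flat ((tanIdeal x B E φ).subschemeι ≫ XApr x B)
  rw [HasRingHomProperty.iff_exists_appLE (P := @Flat)
    (RingHom.Flat.stableUnderComposition.stableUnderCompositionWithLocalizationAway
      RingHom.Flat.holdsForLocalizationAway).left]
  intro z
  obtain ⟨_, ⟨W, hW, rfl⟩, hzW, -⟩ := (XA x B).isBasis_affineOpens.exists_subset_of_mem_open
    (Set.mem_univ ((tanIdeal x B E φ).subschemeι z)) isOpen_univ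
  refine ⟨⟨⊤, isAffineOpen_top _⟩,
    ⟨(tanIdeal x B E φ).subschemeι ⁻¹ᵁ W, hW.preimage _⟩, hzW, le_top, ?_⟩
  have hflat := flat_quot E (tanC x B I₀ W hW) (psiC x B φ W hW)
    ((tanIdeal x B E φ).subschemeι.app W).hom
    (fun n => by
      obtain ⟨s, hs⟩ := (tanIdeal x B E φ).subschemeι_app_surjective ⟨W, hW⟩ n
      exact ⟨s, hs⟩)
    ((tanIdeal x B E φ).ker_subschemeι_app ⟨W, hW⟩)
  have e : (((tanIdeal x B E φ).subschemeι ≫ XApr x B).appLE ⊤
      ((tanIdeal x B E φ).subschemeι ⁻¹ᵁ W) le_top).hom =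
      (((tanIdeal x B E φ).subschemeι.app W).hom.comp (rho (trivB x B) W)).comp
        (Scheme.ΓSpecIso (CommRingCat.of B)).hom.hom := by
    refine RingHom.ext fun s => ?_
    have h1 := pi_rhoJ x B (tanIdeal x B E φ) W ((Scheme.ΓSpecIso (CommRingCat.of B)).hom.hom s)
    have h2 : (Scheme.ΓSpecIso (CommRingCat.of B)).inv.hom
        ((Scheme.ΓSpecIso (CommRingCat.of B)).hom.hom s) = s :=
      congrArg (fun m => m.hom s) (Scheme.ΓSpecIso (CommRingCat.of B)).hom_inv_id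
    rw [h2] at h1
    exact h1.symm
  show RingHom.Flat (((tanIdeal x B E φ).subschemeι ≫ XApr x B).appLE ⊤
      ((tanIdeal x B E φ).subschemeι ⁻¹ᵁ W) le_top).hom
  rw [e]
  exact RingHom.Flat.comp (RingHom.Flat.of_bijective
    (ConcreteCategory.bijective_of_isIso (Scheme.ΓSpecIso (CommRingCat.of B)).hom)) hflat

theorem comap_tanIdeal : (tanIdeal x B E φ).comap (XAincl x B) = I₀ := by
  refine Scheme.IdealSheafData.ext_of_iSup_eq_top (ι := (XA x B).affineOpens)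
    (fun W => ⟨(XAincl x B) ⁻¹ᵁ W.1, isAffineOpen_preimage (trivB x B) W.1 W.2⟩) ?_ ?_
  · rw [eq_top_iff]
    intro p _
    obtain ⟨_, ⟨W, hW, rfl⟩, hpW, -⟩ := (XA x B).isBasis_affineOpens.exists_subset_of_mem_open
      (Set.mem_univ ((XAincl x B) p)) isOpen_univ
    exact Opens.mem_iSup.2 ⟨⟨W, hW⟩, hpW⟩
  · intro W
    have h1 := Groth.Agent.Helper4.IdealComap.ideal_comap_eq_map (XAincl x B)
      (tanIdeal x B E φ)
      ⟨(XAincl x B) ⁻¹ᵁ W.1, isAffineOpen_preimage (trivB x B) W.1 W.2⟩ W le_rfl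
    have h2 := map_iota_Ipsi E (tanC x B I₀ W.1 W.2) (psiC x B φ W.1 W.2)
    have h3 := I₀.ker_subschemeι_app
      ⟨(XAincl x B) ⁻¹ᵁ W.1, isAffineOpen_preimage (trivB x B) W.1 W.2⟩
    have h4 := congrArg (fun m : Γ(XA x B, W.1) ⟶ Γ(X, (XAincl x B) ⁻¹ᵁ W.1) =>
      Ideal.map m.hom ((tanIdeal x B E φ).ideal W))
      (Scheme.Hom.appLE_eq_app (XAincl x B) (U := W.1))
    exact h1.trans (h4.trans (h2.trans h3))

/-- the first-order deformation attached to `φ`, as an element of the local Hilbert functor. -/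
noncomputable def tanElt : (localHilb X x I₀).obj B :=
  (⟨tanIdeal x B E φ, flatOver_tanIdeal x B E φ, comap_tanIdeal x B E φ⟩ :
    {I : (XA x B).IdealSheafData // FlatOver X x B I ∧ I.comap (XAincl x B) = I₀})

theorem tanElt_val : (tanElt x B E φ).1 = tanIdeal x B E φ := rfl

theorem eq_of_tanIdeal_eq (φ' : ClSub.idealMod I₀ ⟶ ClSub.quotMod I₀)
    (h : tanIdeal x B E φ = tanIdeal x B E φ') : φ = φ' := by
  apply hom_ext_of_nhds
  intro p O hp
  obtain ⟨_, ⟨_, ⟨W, rfl⟩, rfl⟩, hpW, hWO⟩ :=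
    (isBasis_Bs (trivB x B)).exists_subset_of_mem_open hp O.isOpen
  refine ⟨Bs (trivB x B) W, hpW, hWO, fun m => ?_⟩
  have h1 : Ipsi E (tanC x B I₀ W.1 W.2) (psiC x B φ W.1 W.2) ≤
      Ipsi E (tanC x B I₀ W.1 W.2) (psiC x B φ' W.1 W.2) :=
    le_of_eq (congrArg (fun J : (XA x B).IdealSheafData => J.ideal W) h)
  have h2 := psi_eq_of_Ipsi_le E (tanC x B I₀ W.1 W.2) (psiC x B φ W.1 W.2)
    (psiC x B φ' W.1 W.2) h1 (gEl W.1 W.2 m)
  have h3 := liftY_gEl x B W.1 W.2 m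
  have h4 : fromQuot I₀ ((XAincl x B) ⁻¹ᵁ W.1) (φ.app ((XAincl x B) ⁻¹ᵁ W.1)
      (liftY I₀ ((XAincl x B) ⁻¹ᵁ W.1) (gEl W.1 W.2 m))) =
      fromQuot I₀ ((XAincl x B) ⁻¹ᵁ W.1) (φ'.app ((XAincl x B) ⁻¹ᵁ W.1)
        (liftY I₀ ((XAincl x B) ⁻¹ᵁ W.1) (gEl W.1 W.2 m))) := h2
  rw [h3] at h4
  exact h4

include E in
/-- **rigidity implies vanishing of `Hom(I_Y, O_Y)`**. -/
theorem subsingleton_hom_of_rigid (hrig : Subsingleton ((localHilb X x I₀).obj B)) :
    Subsingleton (ClSub.idealMod I₀ ⟶ ClSub.quotMod I₀) :=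
  ⟨fun φ φ' => eq_of_tanIdeal_eq x B E φ φ'
    (congrArg Subtype.val (@Subsingleton.elim _ hrig (tanElt x B E φ) (tanElt x B E φ')))⟩

end Ideal

end Groth.Agent.Helper3.HilbTan
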