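import Mathlib
import Groth.Agent.Lib.Helper3.HilbTanB

/-! Every first-order embedded deformation of a closed subscheme `Y ⊆ X` is the one attached to a
homomorphism `I_Y → O_Y` (helper3): over a local Artinian ring whose maximal ideal is principal of
square zero, `Hom(I_Y, O_Y) → localHilb(B)` is bijective. -/

set_option autoImplicit false
set_option linter.style.haveILetI false
universe u
open CategoryTheory CategoryTheory.Limits AlgebraicGeometry TopologicalSpace Opposite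

set_option backward.isDefEq.respectTransparency.types false

namespace Groth.Agent.Helper3.HilbExt

open ArtFun ArtFun.Art OmegaSh IsLocalRing Groth.Agent.Helper3.DerAut Groth.Agent.Lead.OmU
  Groth.Agent.Lead.IdM Groth.Agent.Helper3.HilbRig Groth.Agent.Helper3.HilbTan

section Ring

variable {B : Type u} [CommRing B] [IsLocalRing B] {R R₀ N : Type u} [CommRing R] [CommRing R₀]
  [CommRing N]

/-- the step `m ⊇ 0` of a ring whose maximal ideal is principal of square zero. -/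
def stepE (E : Eps B) : Step B where
  J := maximalIdeal B
  J' := ⊥
  t := E.ε
  htJ := by
    rw [E.hm]
    exact Ideal.mem_span_singleton_self _
  ht := fun h => E.ne ((Ideal.mem_bot).1 h)
  hJm := le_rfl
  hmJ := by
    rw [E.hm, Ideal.span_singleton_mul_span_singleton, E.sq]
    exact le_of_eq (Ideal.span_singleton_eq_bot.2 rfl)
  hJ := by
    rw [bot_sup_eq, E.hm]

variable (E : Eps B) {am : Amb B R R₀ N} (T : Tan am) {M' M'' : Type u} [CommRing M']
  [CommRing M''] (c' : Sub am M') (c'' : Sub am M'')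
  (hQ : ∀ f : R, c'.π f = 0 → c''.π f ∈ Ideal.map (c''.π.comp am.ρ) (stepE E).J)
  (P₀ P : PsiHom am) (hP₀ : ∀ f, P₀.ψ f = 0) (hker : RingHom.ker c''.π = Ipsi E T P₀)
  (hP : ∀ f, P.ψ f = Psi (stepE E) c' c'' hQ f)

include hP₀ hker in
theorem sigma_mem_ker (g : R₀) (hg : am.q₀ g = 0) : c''.π (T.σ g) = 0 := by
  have h : T.σ g ∈ Ipsi E T P₀ :=
    ⟨⟨g, hg⟩, 0, by rw [map_zero, hP₀], by rw [map_zero, mul_zero, add_zero]⟩
  rw [← hker] at h
  exact h

include hP₀ hker hP in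
theorem ker_le_Ipsi (f : R) (hf : c'.π f = 0) : f ∈ Ipsi E T P := by
  obtain ⟨b, hb⟩ := decomp E T f
  have hg : am.q₀ (am.ιT f) = 0 := by rw [← c'.compat, hf, map_zero]
  have h0 : c''.π (T.σ (am.ιT f)) = 0 := sigma_mem_ker E T c'' P₀ hP₀ hker _ hg
  have h1 : c''.π f = c''.π (am.ρ E.ε) * c''.π (T.σ b) := by
    have h1' := congrArg c''.π hb
    rw [map_add, map_mul, h0, zero_add] at h1'
    exact h1'
  have h2 : c''.π f - c''.π (am.ρ (stepE E).t) * c''.π (T.σ b) ∈
      Ideal.map (c''.π.comp am.ρ) (stepE E).J' := by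
    have e : c''.π f - c''.π (am.ρ (stepE E).t) * c''.π (T.σ b) = 0 := by
      show c''.π f - c''.π (am.ρ E.ε) * c''.π (T.σ b) = 0
      rw [h1, sub_self]
    rw [e]
    exact Ideal.zero_mem _
  have h3 := Psi_eq (stepE E) c' c'' hQ f (c''.π (T.σ b)) hf h2 hg
  have h4 : c''.θ (c''.π (T.σ b)) = am.q₀ b := by rw [c''.compat, T.hσ]
  refine ⟨⟨am.ιT f, hg⟩, b, ?_, hb⟩
  rw [hP, h3, h4]

theorem eps_sigma_mem (h : R₀) (hh : am.q₀ h = 0) : c'.π (am.ρ E.ε * T.σ h) = 0 := by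
  obtain ⟨f, hf, hfι⟩ := c'.exists_lift h hh
  obtain ⟨b, hb⟩ := decomp E T f
  rw [hfι] at hb
  have e : am.ρ E.ε * T.σ h = am.ρ E.ε * f := by
    linear_combination (-(am.ρ E.ε)) * hb - (T.σ b) * eps_sq (am := am) E
  rw [e, map_mul, hf, mul_zero]

include hP₀ hker hP in
theorem Ipsi_le_ker (r : R) (hr : r ∈ Ipsi E T P) : c'.π r = 0 := by
  obtain ⟨f₀, g, hg, rfl⟩ := hr
  obtain ⟨f, hf, hfι⟩ := c'.exists_lift f₀.1 f₀.2
  obtain ⟨f₁, b, hb, hfb⟩ := ker_le_Ipsi E T c' c'' hQ P₀ P hP₀ hker hP f hf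
  have e1 : f₁ = f₀ := by
    apply Subtype.ext
    have h1 := congrArg am.ιT hfb
    rw [map_add, map_mul, iota_eps E, zero_mul, add_zero, T.hσ, hfι] at h1
    exact h1.symm
  rw [e1] at hb hfb
  have hd : am.q₀ (g - b) = 0 := by rw [map_sub, hg, hb, sub_self]
  have h2 := eps_sigma_mem E T c' (g - b) hd
  have e : T.σ f₀.1 + am.ρ E.ε * T.σ g = f + am.ρ E.ε * T.σ (g - b) := by
    rw [map_sub]
    linear_combination -hfb
  rw [e, map_add, hf, h2, add_zero]

include hP₀ hker hP in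
/-- a flat quotient over `B` is determined by its difference from the trivial one. -/
theorem ker_eq_Ipsi : RingHom.ker c'.π = Ipsi E T P :=
  le_antisymm (fun f hf => ker_le_Ipsi E T c' c'' hQ P₀ P hP₀ hker hP f hf)
    (fun r hr => Ipsi_le_ker E T c' c'' hQ P₀ P hP₀ hker hP r hr)

end Ring

section Scheme

variable {k : Type u} [Field k] {X : Scheme.{u}} (x : X ⟶ specPt k) (B : Art k k) (E : Eps B)
  {I₀ : X.IdealSheafData}

/-- the trivial first-order deformation. -/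
noncomputable def triv (I₀ : X.IdealSheafData) : (localHilb X x I₀).obj B :=
  tanElt x B E (0 : ClSub.idealMod I₀ ⟶ ClSub.quotMod I₀)

theorem hP_base (I' : (localHilb X x I₀).obj B) (W : (XA x B).Opens) (hW : IsAffineOpen W)
    (f : Γ(XA x B, W)) (hf : (subC I' W hW).π f = 0) :
    (subC (triv x B E I₀) W hW).π f ∈
      Ideal.map ((subC (triv x B E I₀) W hW).π.comp (ambC I₀ W hW).ρ) (stepE E).J :=
  base_case (subC I' W hW) (subC (triv x B E I₀) W hW) f hf

/-- the homomorphism `I_Y → O_Y` attached to a first-order deformation. -/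
noncomputable def classOf (I' : (localHilb X x I₀).obj B) :
    ClSub.idealMod I₀ ⟶ ClSub.quotMod I₀ :=
  glPsi I' (triv x B E I₀) (stepE E) (hP_base x B E I')

theorem psiC_zero (W : (XA x B).Opens) (hW : IsAffineOpen W)
    (f : RingHom.ker (ambC I₀ W hW).q₀) :
    (psiC x B (0 : ClSub.idealMod I₀ ⟶ ClSub.quotMod I₀) W hW).ψ f = 0 := by
  rw [psiC_apply]
  exact map_zero (fromQuot I₀ ((XAincl x B) ⁻¹ᵁ W))

theorem psiC_classOf (I' : (localHilb X x I₀).obj B) (W : (XA x B).Opens) (hW : IsAffineOpen W)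
    (f : RingHom.ker (ambC I₀ W hW).q₀) :
    (psiC x B (classOf x B E I') W hW).ψ f =
      Psi (stepE E) (subC I' W hW) (subC (triv x B E I₀) W hW) (hP_base x B E I' W hW) f := by
  have h1 := glPsi_basis I' (triv x B E I₀) (stepE E) (hP_base x B E I') ⟨W, hW⟩
    (liftY I₀ ((XAincl x B) ⁻¹ᵁ W) f)
  have h2 : gEl W hW (liftY I₀ ((XAincl x B) ⁻¹ᵁ W) f) = f :=
    Subtype.ext (idealSect_liftY I₀ ((XAincl x B) ⁻¹ᵁ W) f)
  have h3 := psiW_apply I' (triv x B E I₀) (stepE E) (hP_base x B E I') ⟨W, hW⟩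
    (liftY I₀ ((XAincl x B) ⁻¹ᵁ W) f)
  have h4 : fromQuot I₀ ((XAincl x B) ⁻¹ᵁ W)
      ((classOf x B E I').app ((XAincl x B) ⁻¹ᵁ W) (liftY I₀ ((XAincl x B) ⁻¹ᵁ W) f)) =
      fromQuot I₀ ((XAincl x B) ⁻¹ᵁ W) (toQuot I₀ ((XAincl x B) ⁻¹ᵁ W)
        (Psi (stepE E) (subC I' W hW) (subC (triv x B E I₀) W hW) (hP_base x B E I' W hW)
          (gEl W hW (liftY I₀ ((XAincl x B) ⁻¹ᵁ W) f)))) :=
    congrArg (fromQuot I₀ ((XAincl x B) ⁻¹ᵁ W)) (h1.trans h3)
  have h5 : fromQuot I₀ ((XAincl x B) ⁻¹ᵁ W) (toQuot I₀ ((XAincl x B) ⁻¹ᵁ W)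
      (Psi (stepE E) (subC I' W hW) (subC (triv x B E I₀) W hW) (hP_base x B E I' W hW)
        (gEl W hW (liftY I₀ ((XAincl x B) ⁻¹ᵁ W) f)))) =
      Psi (stepE E) (subC I' W hW) (subC (triv x B E I₀) W hW) (hP_base x B E I' W hW)
        (gEl W hW (liftY I₀ ((XAincl x B) ⁻¹ᵁ W) f)) := rfl
  exact (psiC_apply x B (classOf x B E I') W hW f).trans (h4.trans (h5.trans
    (congrArg (Psi (stepE E) (subC I' W hW) (subC (triv x B E I₀) W hW)
      (hP_base x B E I' W hW)) h2)))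

/-- every embedded deformation over `B` is the one attached to its class. -/
theorem eq_tanIdeal (I' : (localHilb X x I₀).obj B) :
    I'.1 = tanIdeal x B E (classOf x B E I') := by
  apply Scheme.IdealSheafData.ext
  funext W
  have h1 := I'.1.ker_subschemeι_app W
  have hk : RingHom.ker (subC (triv x B E I₀) W.1 W.2).π =
      Ipsi E (tanC x B I₀ W.1 W.2)
        (psiC x B (0 : ClSub.idealMod I₀ ⟶ ClSub.quotMod I₀) W.1 W.2) :=
    (tanIdeal x B E (0 : ClSub.idealMod I₀ ⟶ ClSub.quotMod I₀)).ker_subschemeι_app W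
  have h2 := ker_eq_Ipsi E (tanC x B I₀ W.1 W.2) (subC I' W.1 W.2) (subC (triv x B E I₀) W.1 W.2)
    (hP_base x B E I' W.1 W.2)
    (psiC x B (0 : ClSub.idealMod I₀ ⟶ ClSub.quotMod I₀) W.1 W.2)
    (psiC x B (classOf x B E I') W.1 W.2)
    (fun f => psiC_zero x B W.1 W.2 f) hk (fun f => psiC_classOf x B E I' W.1 W.2 f)
  exact h1.symm.trans h2

theorem tanElt_bijective :
    Function.Bijective (tanElt x B E : (ClSub.idealMod I₀ ⟶ ClSub.quotMod I₀) →
      (localHilb X x I₀).obj B) := by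
  constructor
  · intro φ φ' h
    exact eq_of_tanIdeal_eq x B E φ φ' (congrArg Subtype.val h)
  · intro I'
    exact ⟨classOf x B E I', Subtype.ext (eq_tanIdeal x B E I').symm⟩

end Scheme

end Groth.Agent.Helper3.HilbExt
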