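import Mathlib
import Groth.Agent.Lib.Helper3.HilbExtA
import Groth.Agent.Lib.Helper3.HilbExtB

/-! Extensions of an embedded deformation along a semismall extension are in bijection with
`Hom(I_Y, O_Y) ⊗ J` (helper3). -/

set_option autoImplicit false
set_option linter.style.haveILetI false
universe u
open CategoryTheory CategoryTheory.Limits AlgebraicGeometry TensorProduct

set_option backward.isDefEq.respectTransparency.types false

namespace Groth.Agent.Helper3.HilbExt

open ArtFun ArtFun.Art Groth.Agent.Helper3.HilbTan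

/-- transport of `Hom(I, O/I)` along an equality of ideal sheaves. -/
def homCongr {X : Scheme.{u}} {J J' : X.IdealSheafData} (e : J = J') :
    (ClSub.idealMod J ⟶ ClSub.quotMod J) ≃ (ClSub.idealMod J' ⟶ ClSub.quotMod J') := by
  subst e
  exact Equiv.refl _

theorem nonempty_ext_equiv {k : Type u} [Field k] {X : Scheme.{u}} (x : X ⟶ specPt k)
    (I₀ : X.IdealSheafData) (V : Type u) [AddCommGroup V] [Module k V]
    (eV : V ≃ (ClSub.idealMod I₀ ⟶ ClSub.quotMod I₀))
    {C' C : Art k k} (p : C' ⟶ C) (hp : IsSemismallExt p) (I : (localHilb X x I₀).obj C)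
    (hne : ∃ I' : (localHilb X x I₀).obj C', (localHilb X x I₀).map p I' = I) :
    Nonempty ({I' : (localHilb X x I₀).obj C' // (localHilb X x I₀).map p I' = I} ≃
      V ⊗[k] ↥(RingHom.ker p.toAlgHom)) := by
  haveI : IsNoetherian k C' := isNoetherian_art C'
  obtain ⟨e1⟩ := nonempty_fibre_equiv (F := localHilb X x I₀)
    (fun B A A' A'' p' p'' f' f'' h hs =>
      Groth.Agent.Helper3.LH.bijective_cmp x p' p'' f' f'' I₀ h hs)
    (Groth.Agent.Helper3.LH.h0 x I₀) p hp I hne
  obtain ⟨e2⟩ := nonempty_tensor_equiv (k := k) V ↥(RingHom.ker p.toAlgHom)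
  exact ⟨e1.trans ((Equiv.piCongrRight fun _ =>
    ((Equiv.ofBijective _ (tanElt_bijective x (dual k k) (epsD k))).symm.trans eV.symm)).trans
      e2)⟩

end Groth.Agent.Helper3.HilbExt
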