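import Mathlib
import Groth.Agent.Lib.Helper3.HilbTanA

/-! Ring-level lemmas for the vector-space structure on first-order embedded deformations
(helper3): behaviour of the ideals `Ipsi` of `HilbTanA` under `ε ↦ cε` and under the three maps
`k[ε₁, ε₂] → k[ε]`. -/

set_option autoImplicit false
set_option linter.style.haveILetI false
universe u

namespace Groth.Agent.Helper3.HilbLin

open IsLocalRing TensorProduct Groth.Agent.Helper3.DerAut Groth.Agent.Helper3.HilbRig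
  Groth.Agent.Helper3.HilbTan

section Coeff

variable {B : Type u} [CommRing B] [IsLocalRing B] {R R₀ N : Type u} [CommRing R] [CommRing R₀]
  [CommRing N] (E : Eps B) {am : Amb B R R₀ N} (T : Tan am) (P : PsiHom am)

/-- the coefficients of an element of `Ipsi` are determined. -/
theorem coeff_of_mem (f g : R₀) (h : T.σ f + am.ρ E.ε * T.σ g ∈ Ipsi E T P) :
    ∃ hf : am.q₀ f = 0, am.q₀ g = P.ψ ⟨f, hf⟩ := by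
  obtain ⟨f', g', hg', heq⟩ := h
  have h3 : T.σ (f - f'.1) + am.ρ E.ε * T.σ (g - g') = 0 := by
    rw [map_sub, map_sub]
    linear_combination heq
  obtain ⟨hf0, hg0⟩ := uniq E T _ _ h3
  have e1 : f = f'.1 := sub_eq_zero.1 hf0
  have e2 : g = g' := sub_eq_zero.1 hg0
  have hf : am.q₀ f = 0 := by
    rw [e1]
    exact f'.2
  refine ⟨hf, ?_⟩
  have e3 : (⟨f, hf⟩ : RingHom.ker am.q₀) = f' := Subtype.ext e1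
  rw [e3, e2, hg']

end Coeff

section Scale

variable {B A : Type u} [CommRing B] [IsLocalRing B] [CommRing A] [IsLocalRing A]
  {R R₀ N R' R₀' N' : Type u} [CommRing R] [CommRing R₀] [CommRing N] [CommRing R']
  [CommRing R₀'] [CommRing N']
  (EB : Eps B) (EA : Eps A) {amB : Amb B R R₀ N} {amA : Amb A R' R₀' N'}
  (TB : Tan amB) (TA : Tan amA) (PB : PsiHom amB) (PA : PsiHom amA)
  (β : R →+* R') (β₀ : R₀ →+* R₀') (ν : N →+* N') (c₀ : R₀')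
  (hβε : β (amB.ρ EB.ε) = TA.σ c₀ * amA.ρ EA.ε)
  (hβσ : ∀ a, β (TB.σ a) = TA.σ (β₀ a))
  (hνq : ∀ a, amA.q₀ (β₀ a) = ν (amB.q₀ a))
  (hψ : ∀ (f : RingHom.ker amB.q₀) (h : amA.q₀ (β₀ f.1) = 0),
    PA.ψ ⟨β₀ f.1, h⟩ = amA.q₀ c₀ * ν (PB.ψ f))

include hβε hβσ hνq hψ in
theorem map_Ipsi_le_scale : Ideal.map β (Ipsi EB TB PB) ≤ Ipsi EA TA PA := by
  rw [Ideal.map_le_iff_le_comap]
  rintro _ ⟨f, g, hg, rfl⟩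
  have hf2 : amA.q₀ (β₀ f.1) = 0 := by
    have hf0 : amB.q₀ f.1 = 0 := f.2
    rw [hνq, hf0, map_zero]
  refine ⟨⟨β₀ f.1, hf2⟩, c₀ * β₀ g, ?_, ?_⟩
  · rw [map_mul, hνq, hg, hψ]
  · show β (TB.σ f.1 + amB.ρ EB.ε * TB.σ g) =
      TA.σ (β₀ f.1) + amA.ρ EA.ε * TA.σ (c₀ * β₀ g)
    rw [map_add, map_mul, hβε, hβσ, hβσ, map_mul]
    ring

end Scale

section Plus

variable {B₂ A : Type u} [CommRing B₂] [IsLocalRing B₂] [CommRing A] [IsLocalRing A]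
  {R₂ R₀₂ N₂ R R₀ N : Type u} [CommRing R₂] [CommRing R₀₂] [CommRing N₂] [CommRing R]
  [CommRing R₀] [CommRing N]
  (ε₁ ε₂ : B₂) (hm : maximalIdeal B₂ = Ideal.span {ε₁, ε₂})
  (h11 : ε₁ * ε₁ = 0) (h12 : ε₁ * ε₂ = 0) (h22 : ε₂ * ε₂ = 0)
  {am₂ : Amb B₂ R₂ R₀₂ N₂} (σ₂ : R₀₂ →+* R₂) (hσ₂ : ∀ a, am₂.ιT (σ₂ a) = a)

include hm in
theorem exists_of_iota_zero2 (r : R₂) (h : am₂.ιT r = 0) :
    ∃ r₁ r₂ : R₂, r = am₂.ρ ε₁ * r₁ + am₂.ρ ε₂ * r₂ := by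
  have h1 : r ∈ RingHom.ker am₂.ιT := h
  rw [am₂.ker_ιT, hm, Ideal.map_span, Set.image_pair, Ideal.mem_span_pair] at h1
  obtain ⟨c, d, hcd⟩ := h1
  exact ⟨c, d, by rw [← hcd]; ring⟩

include hm h11 h12 h22 hσ₂ in
theorem decomp2 (u : R₂) : ∃ b₁ b₂ : R₀₂,
    u = σ₂ (am₂.ιT u) + am₂.ρ ε₁ * σ₂ b₁ + am₂.ρ ε₂ * σ₂ b₂ := by
  have e11 : am₂.ρ ε₁ * am₂.ρ ε₁ = 0 := by rw [← map_mul, h11, map_zero]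
  have e12 : am₂.ρ ε₁ * am₂.ρ ε₂ = 0 := by rw [← map_mul, h12, map_zero]
  have e22 : am₂.ρ ε₂ * am₂.ρ ε₂ = 0 := by rw [← map_mul, h22, map_zero]
  have h0 : am₂.ιT (u - σ₂ (am₂.ιT u)) = 0 := by rw [map_sub, hσ₂, sub_self]
  obtain ⟨r₁, r₂, hr⟩ := exists_of_iota_zero2 ε₁ ε₂ hm _ h0
  have h1 : am₂.ιT (r₁ - σ₂ (am₂.ιT r₁)) = 0 := by rw [map_sub, hσ₂, sub_self]
  obtain ⟨s₁, s₂, hs⟩ := exists_of_iota_zero2 ε₁ ε₂ hm _ h1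
  have h2 : am₂.ιT (r₂ - σ₂ (am₂.ιT r₂)) = 0 := by rw [map_sub, hσ₂, sub_self]
  obtain ⟨t₁, t₂, ht⟩ := exists_of_iota_zero2 ε₁ ε₂ hm _ h2
  refine ⟨am₂.ιT r₁, am₂.ιT r₂, ?_⟩
  linear_combination hr + (am₂.ρ ε₁) * hs + (am₂.ρ ε₂) * ht + s₁ * e11 + s₂ * e12 +
    t₁ * e12 + t₂ * e22

variable (E : Eps A) {am : Amb A R R₀ N} (T : Tan am)

theorem coeff2 (P : PsiHom am) (χ : R₂ →+* R) (β₀ : R₀₂ →+* R₀) (c₁ c₂ : R₀)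
    (hχσ : ∀ a, χ (σ₂ a) = T.σ (β₀ a))
    (hχ1 : χ (am₂.ρ ε₁) = T.σ c₁ * am.ρ E.ε) (hχ2 : χ (am₂.ρ ε₂) = T.σ c₂ * am.ρ E.ε)
    (a b₁ b₂ : R₀₂)
    (h : χ (σ₂ a + am₂.ρ ε₁ * σ₂ b₁ + am₂.ρ ε₂ * σ₂ b₂) ∈ Ipsi E T P) :
    ∃ hf : am.q₀ (β₀ a) = 0, am.q₀ (c₁ * β₀ b₁ + c₂ * β₀ b₂) = P.ψ ⟨β₀ a, hf⟩ := by
  have e : χ (σ₂ a + am₂.ρ ε₁ * σ₂ b₁ + am₂.ρ ε₂ * σ₂ b₂) =
      T.σ (β₀ a) + am.ρ E.ε * T.σ (c₁ * β₀ b₁ + c₂ * β₀ b₂) := by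
    rw [map_add, map_add, map_mul, map_mul, hχσ, hχσ, hχσ, hχ1, hχ2, map_add, map_mul, map_mul]
    ring
  rw [e] at h
  exact coeff_of_mem E T P _ _ h

include hm h11 h12 h22 hσ₂ in
theorem psi_add_gen (P₁ P₂ Pp : PsiHom am) (χ₁ χ₂ χp : R₂ →+* R) (β₀ : R₀₂ →+* R₀)
    (J : Ideal R₂)
    (hs1 : ∀ a, χ₁ (σ₂ a) = T.σ (β₀ a)) (hs2 : ∀ a, χ₂ (σ₂ a) = T.σ (β₀ a))
    (hsp : ∀ a, χp (σ₂ a) = T.σ (β₀ a))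
    (k11 : χ₁ (am₂.ρ ε₁) = am.ρ E.ε) (k12 : χ₁ (am₂.ρ ε₂) = 0)
    (k21 : χ₂ (am₂.ρ ε₁) = 0) (k22 : χ₂ (am₂.ρ ε₂) = am.ρ E.ε)
    (kp1 : χp (am₂.ρ ε₁) = am.ρ E.ε) (kp2 : χp (am₂.ρ ε₂) = am.ρ E.ε)
    (hJ1 : Ideal.map χ₁ J ≤ Ipsi E T P₁) (hJ2 : Ideal.map χ₂ J ≤ Ipsi E T P₂)
    (hJp : Ideal.map χp J ≤ Ipsi E T Pp) (u : R₂) (hu : u ∈ J) :
    ∃ hf : am.q₀ (β₀ (am₂.ιT u)) = 0,
      Pp.ψ ⟨β₀ (am₂.ιT u), hf⟩ = P₁.ψ ⟨β₀ (am₂.ιT u), hf⟩ + P₂.ψ ⟨β₀ (am₂.ιT u), hf⟩ := by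
  obtain ⟨b₁, b₂, hb⟩ := decomp2 ε₁ ε₂ hm h11 h12 h22 σ₂ hσ₂ u
  have one_eq : ∀ t : R, t = T.σ 1 * t := fun t => by rw [map_one, one_mul]
  have zero_eq : (0 : R) = T.σ 0 * am.ρ E.ε := by rw [map_zero, zero_mul]
  have m1 : χ₁ (σ₂ (am₂.ιT u) + am₂.ρ ε₁ * σ₂ b₁ + am₂.ρ ε₂ * σ₂ b₂) ∈ Ipsi E T P₁ := by
    rw [← hb]
    exact hJ1 (Ideal.mem_map_of_mem χ₁ hu)
  have m2 : χ₂ (σ₂ (am₂.ιT u) + am₂.ρ ε₁ * σ₂ b₁ + am₂.ρ ε₂ * σ₂ b₂) ∈ Ipsi E T P₂ := by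
    rw [← hb]
    exact hJ2 (Ideal.mem_map_of_mem χ₂ hu)
  have mp : χp (σ₂ (am₂.ιT u) + am₂.ρ ε₁ * σ₂ b₁ + am₂.ρ ε₂ * σ₂ b₂) ∈ Ipsi E T Pp := by
    rw [← hb]
    exact hJp (Ideal.mem_map_of_mem χp hu)
  obtain ⟨hf, q1⟩ := coeff2 ε₁ ε₂ σ₂ E T P₁ χ₁ β₀ 1 0 hs1 (k11.trans (one_eq _))
    (k12.trans zero_eq) _ _ _ m1
  obtain ⟨_, q2⟩ := coeff2 ε₁ ε₂ σ₂ E T P₂ χ₂ β₀ 0 1 hs2 (k21.trans zero_eq)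
    (k22.trans (one_eq _)) _ _ _ m2
  obtain ⟨_, qp⟩ := coeff2 ε₁ ε₂ σ₂ E T Pp χp β₀ 1 1 hsp (kp1.trans (one_eq _))
    (kp2.trans (one_eq _)) _ _ _ mp
  refine ⟨hf, ?_⟩
  have q1' : am.q₀ (1 * β₀ b₁ + 0 * β₀ b₂) = P₁.ψ ⟨β₀ (am₂.ιT u), hf⟩ := q1
  have q2' : am.q₀ (0 * β₀ b₁ + 1 * β₀ b₂) = P₂.ψ ⟨β₀ (am₂.ιT u), hf⟩ := q2
  have qp' : am.q₀ (1 * β₀ b₁ + 1 * β₀ b₂) = Pp.ψ ⟨β₀ (am₂.ιT u), hf⟩ := qp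
  rw [← q1', ← q2', ← qp', ← map_add]
  congr 1
  ring

end Plus

section Gens

variable {A : Type u} [CommRing A] [IsLocalRing A] {R R₀ N R₀₂ : Type u} [CommRing R]
  [CommRing R₀] [CommRing N] [CommRing R₀₂] {am : Amb A R R₀ N}

/-- additivity of `ψ`-maps can be checked on generators of the ideal. -/
theorem psi_add_of_gens (P₁ P₂ Pp : PsiHom am) (β₀ : R₀₂ →+* R₀) (K : Ideal R₀₂)
    (hker : RingHom.ker am.q₀ = Ideal.map β₀ K)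
    (hgen : ∀ a ∈ K, ∃ hf : am.q₀ (β₀ a) = 0,
      Pp.ψ ⟨β₀ a, hf⟩ = P₁.ψ ⟨β₀ a, hf⟩ + P₂.ψ ⟨β₀ a, hf⟩)
    (f : RingHom.ker am.q₀) : Pp.ψ f = P₁.ψ f + P₂.ψ f := by
  have hfm : f.1 ∈ Ideal.map β₀ K := by
    rw [← hker]
    exact f.2
  have key : ∃ h : am.q₀ f.1 = 0, Pp.ψ ⟨f.1, h⟩ = P₁.ψ ⟨f.1, h⟩ + P₂.ψ ⟨f.1, h⟩ := by
    refine Submodule.span_induction
      (p := fun f' _ => ∃ h : am.q₀ f' = 0, Pp.ψ ⟨f', h⟩ = P₁.ψ ⟨f', h⟩ + P₂.ψ ⟨f', h⟩)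
      ?_ ?_ ?_ ?_ hfm
    · rintro _ ⟨a, ha, rfl⟩
      exact hgen a ha
    · refine ⟨map_zero _, ?_⟩
      have e : (⟨0, map_zero am.q₀⟩ : RingHom.ker am.q₀) = 0 := rfl
      rw [e, map_zero, map_zero, map_zero, add_zero]
    · rintro a b _ _ ⟨ha0, ha⟩ ⟨hb0, hb⟩
      have hab : am.q₀ (a + b) = 0 := by rw [map_add, ha0, hb0, add_zero]
      refine ⟨hab, ?_⟩
      have e : (⟨a + b, hab⟩ : RingHom.ker am.q₀) = ⟨a, ha0⟩ + ⟨b, hb0⟩ := rfl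
      rw [e, map_add, map_add, map_add, ha, hb]
      abel
    · rintro c a _ ⟨ha0, ha⟩
      have hca : am.q₀ (c • a) = 0 := by rw [smul_eq_mul, map_mul, ha0, mul_zero]
      refine ⟨hca, ?_⟩
      have e : (⟨c • a, hca⟩ : RingHom.ker am.q₀) = c • ⟨a, ha0⟩ := rfl
      rw [e, Pp.lin, P₁.lin, P₂.lin, ha, mul_add]
  obtain ⟨h, hk⟩ := key
  exact hk

end Gens

end Groth.Agent.Helper3.HilbLin
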