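import Mathlib
import Groth.Agent.Lib.Helper3.HilbExtB
import Groth.Agent.Lib.Helper3.HilbLinA

/-! The bijection `Hom(I_Y, O_Y) → localHilb(k[ε])` is compatible with `ε ↦ cε` and with the three
maps `k[ε₁, ε₂] → k[ε]` (helper3). -/

set_option autoImplicit false
set_option linter.style.haveILetI false
universe u
open CategoryTheory CategoryTheory.Limits AlgebraicGeometry TopologicalSpace Opposite

set_option backward.isDefEq.respectTransparency.types false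

namespace Groth.Agent.Helper3.HilbLin

open ArtFun ArtFun.Art OmegaSh IsLocalRing Groth.Agent.Helper3.DerAut Groth.Agent.Lead.OmU
  Groth.Agent.Lead.IdM Groth.Agent.Helper3.HilbRig Groth.Agent.Helper3.HilbTan
  Groth.Agent.Helper3.HilbExt

section Pure

variable (k : Type u) [Field k]

theorem dn1 (c : k) : (algebraMap k (DualNumber k) c * DualNumber.eps : DualNumber k) =
    TrivSqZeroExt.inr c := by
  rw [TrivSqZeroExt.algebraMap_eq_inl, DualNumber.eps, TrivSqZeroExt.inl_mul_inr, smul_eq_mul,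
    mul_one]

theorem dn2 (p q : k) :
    ((TrivSqZeroExt.inl p : TrivSqZeroExt k (k × k)) * TrivSqZeroExt.inr ((1 : k), (0 : k)) +
      (TrivSqZeroExt.inl q : TrivSqZeroExt k (k × k)) * TrivSqZeroExt.inr ((0 : k), (1 : k))) =
      TrivSqZeroExt.inr (p, q) := by
  rw [TrivSqZeroExt.inl_mul_inr, TrivSqZeroExt.inl_mul_inr, ← TrivSqZeroExt.inr_add]
  congr 1
  ext <;> simp

theorem dn3 (a : TrivSqZeroExt k (k × k)) (h : a.fst = 0) :
    a = TrivSqZeroExt.inr (a.snd.1, a.snd.2) := by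
  ext <;> simp [h]

end Pure

section DualElts

variable (k : Type u) [Field k]

/-- the dual numbers as an object of `Art k k`. -/
abbrev D : Art k k := dual k k

/-- `k[ε₁, ε₂]` as an object of `Art k k`. -/
abbrev D2 : Art k k := dual2 k k

/-- `ε ↦ cε`. -/
abbrev sc (c : k) : D k ⟶ D k := scale c

/-- `ε₁ ↦ ε, ε₂ ↦ 0`. -/
abbrev p1 : D2 k ⟶ D k := pr₁

/-- `ε₁ ↦ 0, ε₂ ↦ ε`. -/
abbrev p2 : D2 k ⟶ D k := pr₂

/-- `ε₁, ε₂ ↦ ε`. -/
abbrev pp : D2 k ⟶ D k := plus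

theorem scale_eps (c : k) : (sc k c) (epsD k).ε = algebraMap k (D k) c * (epsD k).ε := by
  have h1 : (sc k c) (epsD k).ε = (TrivSqZeroExt.inr c : DualNumber k) :=
    TrivSqZeroExt.ext rfl (show c • (1 : k) = c by rw [smul_eq_mul, mul_one])
  exact h1.trans (dn1 k c).symm

/-- `ε₁`. -/
def e1 : D2 k := (TrivSqZeroExt.inr ((1 : k), (0 : k)) : TrivSqZeroExt k (k × k))

/-- `ε₂`. -/
def e2 : D2 k := (TrivSqZeroExt.inr ((0 : k), (1 : k)) : TrivSqZeroExt k (k × k))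

theorem e1_mul_e1 : e1 k * e1 k = 0 := TrivSqZeroExt.inr_mul_inr k _ _

theorem e1_mul_e2 : e1 k * e2 k = 0 := TrivSqZeroExt.inr_mul_inr k _ _

theorem e2_mul_e2 : e2 k * e2 k = 0 := TrivSqZeroExt.inr_mul_inr k _ _

theorem maxIdeal_D2 : maximalIdeal (D2 k) = Ideal.span {e1 k, e2 k} := by
  apply le_antisymm
  · intro a ha
    have h1 : TrivSqZeroExt.fst (a : TrivSqZeroExt k (k × k)) = 0 :=
      ((D2 k).mem_maximalIdeal_iff a).1 ha
    rw [Ideal.mem_span_pair]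
    refine ⟨(TrivSqZeroExt.inl (TrivSqZeroExt.snd (a : TrivSqZeroExt k (k × k))).1 :
        TrivSqZeroExt k (k × k)),
      (TrivSqZeroExt.inl (TrivSqZeroExt.snd (a : TrivSqZeroExt k (k × k))).2 :
        TrivSqZeroExt k (k × k)), ?_⟩
    exact (dn2 k _ _).trans (dn3 k a h1).symm
  · rw [Ideal.span_le]
    intro b hb
    rcases hb with rfl | rfl
    · exact ((D2 k).mem_maximalIdeal_iff _).2 rfl
    · exact ((D2 k).mem_maximalIdeal_iff _).2 rfl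

theorem p1_e1 : (p1 k) (e1 k) = (epsD k).ε := rfl

theorem p1_e2 : (p1 k) (e2 k) = 0 := rfl

theorem p2_e1 : (p2 k) (e1 k) = 0 := rfl

theorem p2_e2 : (p2 k) (e2 k) = (epsD k).ε := rfl

theorem pp_e1 : (pp k) (e1 k) = (epsD k).ε :=
  TrivSqZeroExt.ext rfl (add_zero (1 : k))

theorem pp_e2 : (pp k) (e2 k) = (epsD k).ε :=
  TrivSqZeroExt.ext rfl (zero_add (1 : k))

end DualElts

section Charts

variable {k : Type u} [Field k] {X : Scheme.{u}} (x : X ⟶ specPt k) {B A : Art k k} (μ : B ⟶ A)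

theorem mem_preimage (W : (XA x B).Opens) (p : X) (hp : p ∈ (XAincl x B) ⁻¹ᵁ W) :
    (XAincl x A) p ∈ (XAmap x μ) ⁻¹ᵁ W := by
  have h2 : (XAincl x A ≫ XAmap x μ) p = (XAincl x B) p := by rw [XAincl_XAmap]
  have h3 : (XAmap x μ) ((XAincl x A) p) = (XAincl x B) p := h2
  show (XAmap x μ) ((XAincl x A) p) ∈ W
  rw [h3]
  exact hp

theorem le0 (W : (XA x B).Opens) (U : (XA x A).Opens) (e : U ≤ (XAmap x μ) ⁻¹ᵁ W) :
    (XAincl x A) ⁻¹ᵁ U ≤ (XAincl x B) ⁻¹ᵁ W := by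
  intro p hp
  have h1 : (XAmap x μ) ((XAincl x A) p) ∈ W := e hp
  have h2 : (XAincl x A ≫ XAmap x μ) p = (XAincl x B) p := by rw [XAincl_XAmap]
  have h3 : (XAmap x μ) ((XAincl x A) p) = (XAincl x B) p := h2
  show (XAincl x B) p ∈ W
  rw [← h3]
  exact h1

theorem chi_sigma (W : (XA x B).Opens) (U : (XA x A).Opens) (e : U ≤ (XAmap x μ) ⁻¹ᵁ W)
    (a : Γ(X, (XAincl x B) ⁻¹ᵁ W)) :
    ((XAmap x μ).appLE W U e).hom
        (((pullback.fst x (specOver B)).appLE ((XAincl x B) ⁻¹ᵁ W) W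
          (le_pr_preimage x B W)).hom a) =
      ((pullback.fst x (specOver A)).appLE ((XAincl x A) ⁻¹ᵁ U) U (le_pr_preimage x A U)).hom
        ((X.presheaf.map (homOfLE (le0 x μ W U e)).op).hom a) := by
  have h1 : (pullback.fst x (specOver B)).appLE ((XAincl x B) ⁻¹ᵁ W) W (le_pr_preimage x B W) ≫
      (XAmap x μ).appLE W U e =
      X.presheaf.map (homOfLE (le0 x μ W U e)).op ≫
        (pullback.fst x (specOver A)).appLE ((XAincl x A) ⁻¹ᵁ U) U (le_pr_preimage x A U) := by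
    rw [Scheme.Hom.appLE_comp_appLE, Scheme.Hom.map_appLE, appLE_of_eq (XAmap_fst x μ)]
  exact congrArg (fun m => m.hom a) h1

theorem incl_chi (W : (XA x B).Opens) (U : (XA x A).Opens) (e : U ≤ (XAmap x μ) ⁻¹ᵁ W)
    (s : Γ(XA x B, W)) :
    ((XAincl x A).app U).hom (((XAmap x μ).appLE W U e).hom s) =
      (X.presheaf.map (homOfLE (le0 x μ W U e)).op).hom (((XAincl x B).app W).hom s) := by
  have h1 : (XAmap x μ).appLE W U e ≫ (XAincl x A).app U =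
      (XAincl x B).app W ≫ X.presheaf.map (homOfLE (le0 x μ W U e)).op := by
    rw [← Scheme.Hom.appLE_eq_app (XAincl x A) (U := U),
      ← Scheme.Hom.appLE_eq_app (XAincl x B) (U := W), Scheme.Hom.appLE_comp_appLE,
      Scheme.Hom.appLE_map, appLE_of_eq (XAincl_XAmap x μ)]
  exact congrArg (fun m => m.hom s) h1

theorem specMap_appTop {A' B' : Art k k} (g : A' ⟶ B') (a : A') :
    (specMap g).appTop.hom ((Scheme.ΓSpecIso (CommRingCat.of A')).inv.hom a) =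
      (Scheme.ΓSpecIso (CommRingCat.of B')).inv.hom (g a) := by
  have := Scheme.ΓSpecIso_inv_naturality (CommRingCat.ofHom g.toAlgHom.toRingHom)
  exact (congrArg (fun m => m.hom a) this).symm

theorem appTop_rhoTop (b : B) :
    (XAmap x μ).appTop.hom (rhoTop (trivB x B) b) = rhoTop (trivB x A) (μ b) := by
  have h2 : (XApr x B).appTop ≫ (XAmap x μ).appTop = (specMap μ).appTop ≫ (XApr x A).appTop :=
    congrArg Scheme.Hom.appTop (XAmap_snd x μ)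
  have h3 : (XAmap x μ).appTop.hom ((XApr x B).appTop.hom
      ((Scheme.ΓSpecIso (CommRingCat.of B)).inv.hom b)) =
      (XApr x A).appTop.hom ((specMap μ).appTop.hom
        ((Scheme.ΓSpecIso (CommRingCat.of B)).inv.hom b)) :=
    congrArg (fun m => m.hom ((Scheme.ΓSpecIso (CommRingCat.of B)).inv.hom b)) h2
  have h4 := specMap_appTop μ b
  exact h3.trans (congrArg (XApr x A).appTop.hom h4)

theorem fst_appTop_kapTop (A : Art k k) (c : k) :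
    (pullback.fst x (specOver A)).appTop.hom (kapTop x c) =
      rhoTop (trivB x A) (algebraMap k A c) := by
  have h2 : x.appTop ≫ (pullback.fst x (specOver A)).appTop =
      (specOver A).appTop ≫ (XApr x A).appTop :=
    congrArg Scheme.Hom.appTop (pullback.condition (f := x) (g := specOver A))
  have h3 : (pullback.fst x (specOver A)).appTop.hom (x.appTop.hom
      ((Scheme.ΓSpecIso (CommRingCat.of k)).inv.hom c)) =
      (XApr x A).appTop.hom ((specOver A).appTop.hom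
        ((Scheme.ΓSpecIso (CommRingCat.of k)).inv.hom c)) :=
    congrArg (fun m => m.hom ((Scheme.ΓSpecIso (CommRingCat.of k)).inv.hom c)) h2
  have h4 : (specOver A).appTop.hom ((Scheme.ΓSpecIso (CommRingCat.of k)).inv.hom c) =
      (Scheme.ΓSpecIso (CommRingCat.of A)).inv.hom (algebraMap k A c) :=
    specMap_appTop (ofBase A) c
  exact h3.trans (congrArg (XApr x A).appTop.hom h4)

theorem chi_rho (W : (XA x B).Opens) (U : (XA x A).Opens) (e : U ≤ (XAmap x μ) ⁻¹ᵁ W) (b : B) :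
    ((XAmap x μ).appLE W U e).hom (rho (trivB x B) W b) = rho (trivB x A) U (μ b) := by
  have hU : U ≤ (XAmap x μ) ⁻¹ᵁ ⊤ := e.trans ((XAmap x μ).preimage_mono le_top)
  have h1 := appLE_res (XAmap x μ) (le_top : W ≤ ⊤) hU le_rfl e (rhoTop (trivB x B) b)
  have h2 : ((XAmap x μ).appLE ⊤ ((XAmap x μ) ⁻¹ᵁ ⊤) le_rfl).hom (rhoTop (trivB x B) b) =
      rhoTop (trivB x A) (μ b) :=
    (congrArg (fun m => m.hom (rhoTop (trivB x B) b))
      (Scheme.Hom.appLE_eq_app (XAmap x μ) (U := ⊤))).trans (appTop_rhoTop x μ b)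
  exact h1.trans (congrArg (fun t => ((XA x A).presheaf.map (homOfLE hU).op).hom t) h2)

theorem rho_algebraMap (A : Art k k) (U : (XA x A).Opens) (c : k) :
    rho (trivB x A) U (algebraMap k A c) =
      ((pullback.fst x (specOver A)).appLE ((XAincl x A) ⁻¹ᵁ U) U (le_pr_preimage x A U)).hom
        (kap x ((XAincl x A) ⁻¹ᵁ U) c) := by
  have hU : U ≤ (pullback.fst x (specOver A)) ⁻¹ᵁ ⊤ :=
    (le_pr_preimage x A U).trans ((pullback.fst x (specOver A)).preimage_mono le_top)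
  have h1 := appLE_res (pullback.fst x (specOver A)) (le_top : (XAincl x A) ⁻¹ᵁ U ≤ ⊤) hU le_rfl
    (le_pr_preimage x A U) (kapTop x c)
  have h2 : ((pullback.fst x (specOver A)).appLE ⊤ ((pullback.fst x (specOver A)) ⁻¹ᵁ ⊤)
      le_rfl).hom (kapTop x c) = rhoTop (trivB x A) (algebraMap k A c) :=
    (congrArg (fun m => m.hom (kapTop x c))
      (Scheme.Hom.appLE_eq_app (pullback.fst x (specOver A)) (U := ⊤))).trans
      (fst_appTop_kapTop x A c)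
  exact (h1.trans (congrArg (fun t => ((XA x A).presheaf.map (homOfLE hU).op).hom t) h2)).symm

variable {I₀ : X.IdealSheafData}

theorem psi_res (φ : ClSub.idealMod I₀ ⟶ ClSub.quotMod I₀) {V V' : X.Opens} (h : V' ≤ V)
    (f : RingHom.ker (I₀.subschemeι.app V).hom)
    (hh : (I₀.subschemeι.app V').hom ((X.presheaf.map (homOfLE h).op).hom f.1) = 0) :
    fromQuot I₀ V' (φ.app V' (liftY I₀ V' ⟨(X.presheaf.map (homOfLE h).op).hom f.1, hh⟩)) =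
      (I₀.subscheme.presheaf.map (homOfLE (I₀.subschemeι.preimage_mono h)).op).hom
        (fromQuot I₀ V (φ.app V (liftY I₀ V f))) := by
  have h1 := liftY_map I₀ h f hh
  have h2 := hom_app_res φ h (liftY I₀ V f)
  have h3 := fromQuot_map I₀ h (φ.app V (liftY I₀ V f))
  exact (congrArg (fun y => fromQuot I₀ V' (φ.app V' y)) h1).trans
    ((congrArg (fromQuot I₀ V') h2).trans h3)

theorem app_eq_of_Ipsi_le (B : Art k k) (E : Eps B)
    (φ φ' : ClSub.idealMod I₀ ⟶ ClSub.quotMod I₀) (W : (XA x B).Opens) (hW : IsAffineOpen W)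
    (h : Ipsi E (tanC x B I₀ W hW) (psiC x B φ W hW) ≤
      Ipsi E (tanC x B I₀ W hW) (psiC x B φ' W hW))
    (m : Γ(ClSub.idealMod I₀, (XAincl x B) ⁻¹ᵁ W)) :
    φ.app ((XAincl x B) ⁻¹ᵁ W) m = φ'.app ((XAincl x B) ⁻¹ᵁ W) m := by
  have h2 := psi_eq_of_Ipsi_le E (tanC x B I₀ W hW) (psiC x B φ W hW) (psiC x B φ' W hW) h
    (gEl W hW m)
  have h3 := liftY_gEl x B W hW m
  have h4 : fromQuot I₀ ((XAincl x B) ⁻¹ᵁ W) (φ.app ((XAincl x B) ⁻¹ᵁ W)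
      (liftY I₀ ((XAincl x B) ⁻¹ᵁ W) (gEl W hW m))) =
      fromQuot I₀ ((XAincl x B) ⁻¹ᵁ W) (φ'.app ((XAincl x B) ⁻¹ᵁ W)
        (liftY I₀ ((XAincl x B) ⁻¹ᵁ W) (gEl W hW m))) := h2
  rw [h3] at h4
  exact h4

end Charts

section Scale

variable {k : Type u} [Field k] {X : Scheme.{u}} (x : X ⟶ specPt k) {I₀ : X.IdealSheafData}

theorem scale_chart (c : k) (φ φ' : ClSub.idealMod I₀ ⟶ ClSub.quotMod I₀)
    (hφ' : ∀ (V : X.Opens) (m : Γ(ClSub.idealMod I₀, V)), φ'.app V m = kap x V c • φ.app V m)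
    (W U : (XA x (D k)).Opens) (hW : IsAffineOpen W) (hU : IsAffineOpen U)
    (e : U ≤ (XAmap x (sc k c)) ⁻¹ᵁ W) :
    Ideal.map ((XAmap x (sc k c)).appLE W U e).hom
        (Ipsi (epsD k) (tanC x (D k) I₀ W hW) (psiC x (D k) φ W hW)) ≤
      Ipsi (epsD k) (tanC x (D k) I₀ U hU) (psiC x (D k) φ' U hU) := by
  refine map_Ipsi_le_scale (epsD k) (epsD k) (tanC x (D k) I₀ W hW) (tanC x (D k) I₀ U hU)
    (psiC x (D k) φ W hW) (psiC x (D k) φ' U hU)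
    ((XAmap x (sc k c)).appLE W U e).hom
    (X.presheaf.map (homOfLE (le0 x (sc k c) W U e)).op).hom
    (I₀.subscheme.presheaf.map
      (homOfLE (I₀.subschemeι.preimage_mono (le0 x (sc k c) W U e))).op).hom
    (kap x ((XAincl x (D k)) ⁻¹ᵁ U) c) ?_ ?_ ?_ ?_
  · have h1 := chi_rho x (sc k c) W U e (epsD k).ε
    have h2 : rho (trivB x (D k)) U ((sc k c) (epsD k).ε) =
        rho (trivB x (D k)) U (algebraMap k (D k) c) * rho (trivB x (D k)) U (epsD k).ε := by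
      rw [scale_eps, map_mul]
    have h3 := rho_algebraMap x (D k) U c
    exact h1.trans (h2.trans (congrArg (fun t => t * rho (trivB x (D k)) U (epsD k).ε) h3))
  · exact fun a => chi_sigma x (sc k c) W U e a
  · exact fun a => app_map I₀.subschemeι (le0 x (sc k c) W U e) a
  · intro f h
    have h1 := psi_res φ (le0 x (sc k c) W U e) f h
    have h2 : fromQuot I₀ ((XAincl x (D k)) ⁻¹ᵁ U) (φ'.app ((XAincl x (D k)) ⁻¹ᵁ U)
        (liftY I₀ ((XAincl x (D k)) ⁻¹ᵁ U)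
          ⟨(X.presheaf.map (homOfLE (le0 x (sc k c) W U e)).op).hom f.1, h⟩)) =
        fromQuot I₀ ((XAincl x (D k)) ⁻¹ᵁ U) (kap x ((XAincl x (D k)) ⁻¹ᵁ U) c •
          φ.app ((XAincl x (D k)) ⁻¹ᵁ U) (liftY I₀ ((XAincl x (D k)) ⁻¹ᵁ U)
            ⟨(X.presheaf.map (homOfLE (le0 x (sc k c) W U e)).op).hom f.1, h⟩)) :=
      congrArg (fromQuot I₀ ((XAincl x (D k)) ⁻¹ᵁ U)) (hφ' _ _)
    have h3 := fromQuot_smul I₀ ((XAincl x (D k)) ⁻¹ᵁ U) (kap x ((XAincl x (D k)) ⁻¹ᵁ U) c)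
      (φ.app ((XAincl x (D k)) ⁻¹ᵁ U) (liftY I₀ ((XAincl x (D k)) ⁻¹ᵁ U)
        ⟨(X.presheaf.map (homOfLE (le0 x (sc k c) W U e)).op).hom f.1, h⟩))
    exact h2.trans (h3.trans (congrArg
      (fun t => (I₀.subschemeι.app ((XAincl x (D k)) ⁻¹ᵁ U)).hom
        (kap x ((XAincl x (D k)) ⁻¹ᵁ U) c) * t) h1))

/-- compatibility of `tanElt` with `ε ↦ cε`. -/
theorem map_scale_tanElt (c : k) (φ φ' : ClSub.idealMod I₀ ⟶ ClSub.quotMod I₀)
    (hφ' : ∀ (V : X.Opens) (m : Γ(ClSub.idealMod I₀, V)), φ'.app V m = kap x V c • φ.app V m) :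
    (localHilb X x I₀).map (sc k c) (tanElt x (D k) (epsD k) φ) = tanElt x (D k) (epsD k) φ' := by
  have hξ := eq_tanIdeal x (D k) (epsD k)
    ((localHilb X x I₀).map (sc k c) (tanElt x (D k) (epsD k) φ))
  have key : classOf x (D k) (epsD k)
      ((localHilb X x I₀).map (sc k c) (tanElt x (D k) (epsD k) φ)) = φ' := by
    apply hom_ext_of_nhds
    intro p O hp
    obtain ⟨_, ⟨_, ⟨W, rfl⟩, rfl⟩, hpW, hWO⟩ :=
      (isBasis_Bs (trivB x (D k))).exists_subset_of_mem_open hp O.isOpen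
    have hpf : (XAincl x (D k)) p ∈ (XAmap x (sc k c)) ⁻¹ᵁ W.1 :=
      mem_preimage x (sc k c) W.1 p hpW
    obtain ⟨_, ⟨U, hU, rfl⟩, hpU, hUW⟩ :=
      (XA x (D k)).isBasis_affineOpens.exists_subset_of_mem_open hpf
        ((XAmap x (sc k c)) ⁻¹ᵁ W.1).isOpen
    have e : U ≤ (XAmap x (sc k c)) ⁻¹ᵁ W.1 := hUW
    refine ⟨(XAincl x (D k)) ⁻¹ᵁ U, hpU, (le0 x (sc k c) W.1 U e).trans hWO, fun m => ?_⟩
    have h1 := Groth.Agent.Helper4.IdealComap.ideal_comap_eq_map (XAmap x (sc k c))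
      (tanIdeal x (D k) (epsD k) φ) ⟨U, hU⟩ W e
    have h2 : (tanIdeal x (D k) (epsD k) (classOf x (D k) (epsD k)
        ((localHilb X x I₀).map (sc k c) (tanElt x (D k) (epsD k) φ)))).ideal ⟨U, hU⟩ =
        ((tanIdeal x (D k) (epsD k) φ).comap (XAmap x (sc k c))).ideal ⟨U, hU⟩ :=
      congrArg (fun J : (XA x (D k)).IdealSheafData => J.ideal ⟨U, hU⟩) hξ.symm
    have h3 : Ipsi (epsD k) (tanC x (D k) I₀ U hU) (psiC x (D k) (classOf x (D k) (epsD k)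
        ((localHilb X x I₀).map (sc k c) (tanElt x (D k) (epsD k) φ))) U hU) ≤
        Ipsi (epsD k) (tanC x (D k) I₀ U hU) (psiC x (D k) φ' U hU) :=
      le_trans (le_of_eq (h2.trans h1)) (scale_chart x c φ φ' hφ' W.1 U W.2 hU e)
    exact app_eq_of_Ipsi_le x (D k) (epsD k) _ φ' U hU h3 m
  exact Subtype.ext (hξ.trans (congrArg (tanIdeal x (D k) (epsD k)) key))

end Scale

section Plus

variable {k : Type u} [Field k] {X : Scheme.{u}} (x : X ⟶ specPt k) {I₀ : X.IdealSheafData}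

theorem plus_chart (z : (localHilb X x I₀).obj (D2 k))
    (φ₁ φ₂ ψ : ClSub.idealMod I₀ ⟶ ClSub.quotMod I₀)
    (h1 : (localHilb X x I₀).map (p1 k) z = tanElt x (D k) (epsD k) φ₁)
    (h2 : (localHilb X x I₀).map (p2 k) z = tanElt x (D k) (epsD k) φ₂)
    (hp : (localHilb X x I₀).map (pp k) z = tanElt x (D k) (epsD k) ψ)
    (W₂ : (XA x (D2 k)).Opens) (hW₂ : IsAffineOpen W₂) (U : (XA x (D k)).Opens)
    (hU : IsAffineOpen U)
    (e₁ : U ≤ (XAmap x (p1 k)) ⁻¹ᵁ W₂) (e₂ : U ≤ (XAmap x (p2 k)) ⁻¹ᵁ W₂)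
    (e₃ : U ≤ (XAmap x (pp k)) ⁻¹ᵁ W₂) (f : RingHom.ker (ambC I₀ U hU).q₀) :
    (psiC x (D k) ψ U hU).ψ f =
      (psiC x (D k) φ₁ U hU).ψ f + (psiC x (D k) φ₂ U hU).ψ f := by
  have hle : (XAincl x (D k)) ⁻¹ᵁ U ≤ (XAincl x (D2 k)) ⁻¹ᵁ W₂ := le0 x (p1 k) W₂ U e₁
  have hUa : (⟨(XAincl x (D k)) ⁻¹ᵁ U, isAffineOpen_preimage (trivB x (D k)) U hU⟩ :
      X.affineOpens) ≤
      ⟨(XAincl x (D2 k)) ⁻¹ᵁ W₂, isAffineOpen_preimage (trivB x (D2 k)) W₂ hW₂⟩ := hle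
  have hker : RingHom.ker (ambC I₀ U hU).q₀ =
      Ideal.map (X.presheaf.map (homOfLE hle).op).hom (RingHom.ker (ambC I₀ W₂ hW₂).q₀) :=
    (I₀.ker_subschemeι_app ⟨(XAincl x (D k)) ⁻¹ᵁ U,
      isAffineOpen_preimage (trivB x (D k)) U hU⟩).trans
      ((I₀.map_ideal hUa).symm.trans
        (congrArg (Ideal.map (X.presheaf.map (homOfLE hle).op).hom)
          (I₀.ker_subschemeι_app ⟨(XAincl x (D2 k)) ⁻¹ᵁ W₂,
            isAffineOpen_preimage (trivB x (D2 k)) W₂ hW₂⟩).symm))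
  have c1 := Groth.Agent.Helper4.IdealComap.ideal_comap_eq_map (XAmap x (p1 k)) z.1
    ⟨U, hU⟩ ⟨W₂, hW₂⟩ e₁
  have c2 := Groth.Agent.Helper4.IdealComap.ideal_comap_eq_map (XAmap x (p2 k)) z.1
    ⟨U, hU⟩ ⟨W₂, hW₂⟩ e₂
  have c3 := Groth.Agent.Helper4.IdealComap.ideal_comap_eq_map (XAmap x (pp k)) z.1
    ⟨U, hU⟩ ⟨W₂, hW₂⟩ e₃
  have d1 : (z.1.comap (XAmap x (p1 k))).ideal ⟨U, hU⟩ =
      Ipsi (epsD k) (tanC x (D k) I₀ U hU) (psiC x (D k) φ₁ U hU) :=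
    congrArg (fun t : (localHilb X x I₀).obj (D k) => t.1.ideal ⟨U, hU⟩) h1
  have d2 : (z.1.comap (XAmap x (p2 k))).ideal ⟨U, hU⟩ =
      Ipsi (epsD k) (tanC x (D k) I₀ U hU) (psiC x (D k) φ₂ U hU) :=
    congrArg (fun t : (localHilb X x I₀).obj (D k) => t.1.ideal ⟨U, hU⟩) h2
  have d3 : (z.1.comap (XAmap x (pp k))).ideal ⟨U, hU⟩ =
      Ipsi (epsD k) (tanC x (D k) I₀ U hU) (psiC x (D k) ψ U hU) :=
    congrArg (fun t : (localHilb X x I₀).obj (D k) => t.1.ideal ⟨U, hU⟩) hp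
  have hcm := Groth.Agent.Helper4.IdealComap.ideal_comap_eq_map (XAincl x (D2 k)) z.1
    ⟨(XAincl x (D2 k)) ⁻¹ᵁ W₂, isAffineOpen_preimage (trivB x (D2 k)) W₂ hW₂⟩ ⟨W₂, hW₂⟩ le_rfl
  have hcm2 : I₀.ideal ⟨(XAincl x (D2 k)) ⁻¹ᵁ W₂,
      isAffineOpen_preimage (trivB x (D2 k)) W₂ hW₂⟩ =
      Ideal.map ((XAincl x (D2 k)).app W₂).hom (z.1.ideal ⟨W₂, hW₂⟩) :=
    (congrArg (fun K : X.IdealSheafData => K.ideal ⟨(XAincl x (D2 k)) ⁻¹ᵁ W₂,
      isAffineOpen_preimage (trivB x (D2 k)) W₂ hW₂⟩) z.2.2).symm.trans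
      (hcm.trans (congrArg (fun m : Γ(XA x (D2 k), W₂) ⟶ Γ(X, (XAincl x (D2 k)) ⁻¹ᵁ W₂) =>
        Ideal.map m.hom (z.1.ideal ⟨W₂, hW₂⟩))
        (Scheme.Hom.appLE_eq_app (XAincl x (D2 k)) (U := W₂))))
  refine psi_add_of_gens (psiC x (D k) φ₁ U hU) (psiC x (D k) φ₂ U hU) (psiC x (D k) ψ U hU)
    (X.presheaf.map (homOfLE hle).op).hom (RingHom.ker (ambC I₀ W₂ hW₂).q₀) hker ?_ f
  intro a ha
  have ha1 : a ∈ I₀.ideal ⟨(XAincl x (D2 k)) ⁻¹ᵁ W₂,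
      isAffineOpen_preimage (trivB x (D2 k)) W₂ hW₂⟩ := by
    rw [← I₀.ker_subschemeι_app]
    exact ha
  rw [hcm2] at ha1
  obtain ⟨u, hu, hua⟩ := (Ideal.mem_map_iff_of_surjective _
    (app_surj (trivB x (D2 k)) W₂ hW₂)).1 ha1
  subst hua
  exact psi_add_gen (e1 k) (e2 k) (maxIdeal_D2 k) (e1_mul_e1 k) (e1_mul_e2 k) (e2_mul_e2 k)
    (am₂ := ambC I₀ W₂ hW₂) (tanC x (D2 k) I₀ W₂ hW₂).σ (tanC x (D2 k) I₀ W₂ hW₂).hσ
    (epsD k) (tanC x (D k) I₀ U hU)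
    (psiC x (D k) φ₁ U hU) (psiC x (D k) φ₂ U hU) (psiC x (D k) ψ U hU)
    ((XAmap x (p1 k)).appLE W₂ U e₁).hom ((XAmap x (p2 k)).appLE W₂ U e₂).hom
    ((XAmap x (pp k)).appLE W₂ U e₃).hom
    (X.presheaf.map (homOfLE hle).op).hom (z.1.ideal ⟨W₂, hW₂⟩)
    (fun a => chi_sigma x (p1 k) W₂ U e₁ a) (fun a => chi_sigma x (p2 k) W₂ U e₂ a)
    (fun a => chi_sigma x (pp k) W₂ U e₃ a)
    ((chi_rho x (p1 k) W₂ U e₁ (e1 k)).trans (congrArg (rho (trivB x (D k)) U) (p1_e1 k)))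
    ((chi_rho x (p1 k) W₂ U e₁ (e2 k)).trans
      ((congrArg (rho (trivB x (D k)) U) (p1_e2 k)).trans (map_zero _)))
    ((chi_rho x (p2 k) W₂ U e₂ (e1 k)).trans
      ((congrArg (rho (trivB x (D k)) U) (p2_e1 k)).trans (map_zero _)))
    ((chi_rho x (p2 k) W₂ U e₂ (e2 k)).trans (congrArg (rho (trivB x (D k)) U) (p2_e2 k)))
    ((chi_rho x (pp k) W₂ U e₃ (e1 k)).trans (congrArg (rho (trivB x (D k)) U) (pp_e1 k)))
    ((chi_rho x (pp k) W₂ U e₃ (e2 k)).trans (congrArg (rho (trivB x (D k)) U) (pp_e2 k)))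
    (le_of_eq (c1.symm.trans d1)) (le_of_eq (c2.symm.trans d2)) (le_of_eq (c3.symm.trans d3))
    u hu

/-- compatibility of `tanElt` with `ε₁, ε₂ ↦ ε`. -/
theorem map_plus_eq (z : (localHilb X x I₀).obj (D2 k))
    (φ₁ φ₂ φp : ClSub.idealMod I₀ ⟶ ClSub.quotMod I₀)
    (h1 : (localHilb X x I₀).map (p1 k) z = tanElt x (D k) (epsD k) φ₁)
    (h2 : (localHilb X x I₀).map (p2 k) z = tanElt x (D k) (epsD k) φ₂)
    (hφ : ∀ (V : X.Opens) (m : Γ(ClSub.idealMod I₀, V)),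
      φp.app V m = φ₁.app V m + φ₂.app V m) :
    (localHilb X x I₀).map (pp k) z = tanElt x (D k) (epsD k) φp := by
  have hξ := eq_tanIdeal x (D k) (epsD k) ((localHilb X x I₀).map (pp k) z)
  have hp : (localHilb X x I₀).map (pp k) z = tanElt x (D k) (epsD k)
      (classOf x (D k) (epsD k) ((localHilb X x I₀).map (pp k) z)) := Subtype.ext hξ
  have key : classOf x (D k) (epsD k) ((localHilb X x I₀).map (pp k) z) = φp := by
    apply hom_ext_of_nhds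
    intro p O hpO
    obtain ⟨_, ⟨_, ⟨W₂, rfl⟩, rfl⟩, hpW, hWO⟩ :=
      (isBasis_Bs (trivB x (D2 k))).exists_subset_of_mem_open hpO O.isOpen
    have hp1 := mem_preimage x (p1 k) W₂.1 p hpW
    have hp2 := mem_preimage x (p2 k) W₂.1 p hpW
    have hp3 := mem_preimage x (pp k) W₂.1 p hpW
    obtain ⟨_, ⟨U, hU, rfl⟩, hpU, hUV⟩ :=
      (XA x (D k)).isBasis_affineOpens.exists_subset_of_mem_open
        (show (XAincl x (D k)) p ∈ ((XAmap x (p1 k)) ⁻¹ᵁ W₂.1 ⊓ (XAmap x (p2 k)) ⁻¹ᵁ W₂.1 ⊓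
          (XAmap x (pp k)) ⁻¹ᵁ W₂.1 : (XA x (D k)).Opens) from ⟨⟨hp1, hp2⟩, hp3⟩)
        ((XAmap x (p1 k)) ⁻¹ᵁ W₂.1 ⊓ (XAmap x (p2 k)) ⁻¹ᵁ W₂.1 ⊓
          (XAmap x (pp k)) ⁻¹ᵁ W₂.1 : (XA x (D k)).Opens).isOpen
    have hUV' : U ≤ (XAmap x (p1 k)) ⁻¹ᵁ W₂.1 ⊓ (XAmap x (p2 k)) ⁻¹ᵁ W₂.1 ⊓
        (XAmap x (pp k)) ⁻¹ᵁ W₂.1 := hUV
    have e₁ : U ≤ (XAmap x (p1 k)) ⁻¹ᵁ W₂.1 := hUV'.trans (inf_le_left.trans inf_le_left)
    have e₂ : U ≤ (XAmap x (p2 k)) ⁻¹ᵁ W₂.1 := hUV'.trans (inf_le_left.trans inf_le_right)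
    have e₃ : U ≤ (XAmap x (pp k)) ⁻¹ᵁ W₂.1 := hUV'.trans inf_le_right
    refine ⟨(XAincl x (D k)) ⁻¹ᵁ U, hpU, (le0 x (p1 k) W₂.1 U e₁).trans hWO, fun m => ?_⟩
    have hpt : ∀ f : RingHom.ker (ambC I₀ U hU).q₀,
        (psiC x (D k) (classOf x (D k) (epsD k) ((localHilb X x I₀).map (pp k) z)) U hU).ψ f =
          (psiC x (D k) φp U hU).ψ f := by
      intro f
      have h3 := plus_chart x z φ₁ φ₂ _ h1 h2 hp W₂.1 W₂.2 U hU e₁ e₂ e₃ f
      have h4 : (psiC x (D k) φp U hU).ψ f =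
          (psiC x (D k) φ₁ U hU).ψ f + (psiC x (D k) φ₂ U hU).ψ f := by
        show fromQuot I₀ ((XAincl x (D k)) ⁻¹ᵁ U) (φp.app ((XAincl x (D k)) ⁻¹ᵁ U)
            (liftY I₀ ((XAincl x (D k)) ⁻¹ᵁ U) f)) =
          fromQuot I₀ ((XAincl x (D k)) ⁻¹ᵁ U) (φ₁.app ((XAincl x (D k)) ⁻¹ᵁ U)
            (liftY I₀ ((XAincl x (D k)) ⁻¹ᵁ U) f)) +
          fromQuot I₀ ((XAincl x (D k)) ⁻¹ᵁ U) (φ₂.app ((XAincl x (D k)) ⁻¹ᵁ U)
            (liftY I₀ ((XAincl x (D k)) ⁻¹ᵁ U) f))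
        rw [hφ, map_add]
      exact h3.trans h4.symm
    have h5 : Ipsi (epsD k) (tanC x (D k) I₀ U hU) (psiC x (D k)
        (classOf x (D k) (epsD k) ((localHilb X x I₀).map (pp k) z)) U hU) ≤
        Ipsi (epsD k) (tanC x (D k) I₀ U hU) (psiC x (D k) φp U hU) := by
      rintro _ ⟨f, g, hg, rfl⟩
      exact ⟨f, g, hg.trans (hpt f), rfl⟩
    exact app_eq_of_Ipsi_le x (D k) (epsD k) _ φp U hU h5 m
  exact hp.trans (congrArg (tanElt x (D k) (epsD k)) key)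

theorem exists_z (I₀ : X.IdealSheafData) (ξ₁ ξ₂ : (localHilb X x I₀).obj (D k)) :
    ∃ z : (localHilb X x I₀).obj (D2 k),
      (localHilb X x I₀).map (p1 k) z = ξ₁ ∧ (localHilb X x I₀).map (p2 k) z = ξ₂ := by
  have hs : Function.Surjective (toBase (D k)) := fun a => (D k).res_surjective a
  have hb := Groth.Agent.Helper3.LH.bijective_cmp x (p1 k) (p2 k) (toBase (D k)) (toBase (D k))
    I₀ isFibreProd_dual2 hs
  have h0 := Groth.Agent.Helper3.LH.h0 x I₀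
  have hw : (localHilb X x I₀).map (toBase (D k)) ξ₁ = (localHilb X x I₀).map (toBase (D k)) ξ₂ :=
    @Subsingleton.elim _ h0.2 _ _
  obtain ⟨z, hz⟩ := hb.2 ⟨(ξ₁, ξ₂), hw⟩
  refine ⟨z, ?_, ?_⟩
  · exact congrArg
      (fun t : FibProd (localHilb X x I₀) (toBase (D k)) (toBase (D k)) => t.1.1) hz
  · exact congrArg
      (fun t : FibProd (localHilb X x I₀) (toBase (D k)) (toBase (D k)) => t.1.2) hz

end Plus

end Groth.Agent.Helper3.HilbLin
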