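import Mathlib
import Groth.Prelude.Def_ArtFun6
import Groth.Prelude.Def_Coh
import Groth.Prelude.Def_CohB1
import Groth.Prelude.Def_Omega2
import Groth.Prelude.Def_DCoh4
import Groth.Agent.Lib.Helper1.HH0
import Groth.Agent.Lib.Helper5.KFlatSite2.TensorUnit
import Groth.Agent.Lib.Helper3.HilbRigB
import Groth.Agent.Lib.Helper3.HilbTanB

/-! `H⁰(X, Hom(I/I², O_X)) ≃ Hom_{O_Y}(I_X, O_X)` for a closed immersion `X → Y`, and rigidity of
a closed subscheme in terms of the normal sheaf (helper3). -/

set_option autoImplicit false
set_option linter.style.haveILetI false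
universe u
open CategoryTheory CategoryTheory.Limits AlgebraicGeometry TopologicalSpace Opposite

set_option backward.isDefEq.respectTransparency.types false
set_option synthInstance.maxHeartbeats 400000
set_option maxHeartbeats 4000000

attribute [local instance] HasDerivedCategory.standard

namespace Groth.Agent.Helper3.HilbTan

open ArtFun ArtFun.Art

section Chain

variable {X Y : Scheme.{u}}

/-- a section over `⊤` as a global section of the sheaf of modules. -/
noncomputable def secOfTop (M : X.Modules) (t : Γ(M, ⊤)) : M.sections :=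
  PresheafOfModules.sectionsMk (fun U => M.val.map (homOfLE (le_top : U.unop ≤ ⊤)).op t) (by
    intro U V f
    rw [← PresheafOfModules.map_comp_apply]
    rfl)

lemma secOfTop_eval_top (M : X.Modules) (t : Γ(M, ⊤)) :
    (secOfTop M t).1 (op ⊤) = t := by
  show M.val.map (𝟙 _) t = t
  simp

lemma sections_ext_top (M : X.Modules) (s s' : M.sections)
    (h : s.1 (op ⊤) = s'.1 (op ⊤)) : s = s' := by
  apply PresheafOfModules.sections_ext
  intro U
  have h1 := PresheafOfModules.sections_property s (homOfLE (le_top : U.unop ≤ ⊤)).op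
  have h2 := PresheafOfModules.sections_property s' (homOfLE (le_top : U.unop ≤ ⊤)).op
  rw [← h1, ← h2, h]

lemma secOfTop_eval (M : X.Modules) (s : M.sections) : secOfTop M (s.1 (op ⊤)) = s :=
  sections_ext_top M _ _ (secOfTop_eval_top M _)

/-- homomorphisms from the structure sheaf are global sections. -/
noncomputable def secEquiv (F : X.Modules) : (Coh.structureModule X ⟶ F) ≃ F.val.obj (op ⊤) :=
  (SheafOfModules.unitHomEquiv F).trans
    ⟨fun s => s.1 (op ⊤), secOfTop F, secOfTop_eval F, secOfTop_eval_top F⟩

/-- `N ⊗ O ≅ N` -/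
noncomputable def tensorUnitIso (N : X.Modules) :
    (DCoh.tensorBi.obj N).obj (Coh.structureModule X) ≅ N :=
  Groth.Agent.Lib.Helper5.TensorUnit.unitIsoApp X.sheaf N

theorem isIso_unitToPush_of_isIso (e : X ⟶ Y) [IsIso e] : IsIso (ClSub.unitToPush e) := by
  rw [Scheme.Modules.Hom.isIso_iff_isIso_app]
  intro V
  have h3 : Function.Bijective (e.app V).hom :=
    (ConcreteCategory.isIso_iff_bijective (e.app V)).1 inferInstance
  have h2 : Function.Bijective ((ClSub.unitToPush e).app V) := h3
  exact (ConcreteCategory.isIso_iff_bijective _).2 h2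

variable (i : X ⟶ Y) [IsClosedImmersion i]

/-- `O_Y / ker(i) ≅ i_* O_X` for a closed immersion `i` -/
noncomputable def quotModIso :
    ClSub.quotMod i.ker ≅ (Scheme.Modules.pushforward i).obj (Coh.structureModule X) :=
  haveI := isIso_unitToPush_of_isIso i.toImage
  (Scheme.Modules.pushforward i.imageι).mapIso (asIso (ClSub.unitToPush i.toImage)) ≪≫
    (Scheme.Modules.pushforwardComp i.toImage i.imageι).app _ ≪≫
    (Scheme.Modules.pushforwardCongr i.toImage_imageι).app _

variable [DCoh.HasSheafHom (Omega.conormal i)]

/-- `H⁰(X, Hom(I/I², O_X)) ≃ Hom(I_X, O_X)` (homomorphisms of `O_Y`-modules). -/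
noncomputable def normalEquiv :
    Coh.HH X ((DCoh.sheafHom (Omega.conormal i)).obj (Coh.structureModule X)) 0 ≃
      (ClSub.idealMod i.ker ⟶ ClSub.quotMod i.ker) :=
  (Groth.Agent.Helper1.HH0.equiv X
      ((DCoh.sheafHom (Omega.conormal i)).obj (Coh.structureModule X))).toEquiv.trans
    ((secEquiv ((DCoh.sheafHom (Omega.conormal i)).obj (Coh.structureModule X))).symm.trans
      (((DCoh.sheafHomAdj (Omega.conormal i)).homEquiv (Coh.structureModule X)
          (Coh.structureModule X)).symm.trans
        ((tensorUnitIso (Omega.conormal i)).homFromEquiv.trans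
          (((Scheme.Modules.pullbackPushforwardAdjunction i).homEquiv (ClSub.idealMod i.ker)
              (Coh.structureModule X)).trans
            (quotModIso i).symm.homToEquiv))))

end Chain

section Main

variable {k : Type u} [Field k] {Y : Scheme.{u}} (y : Y ⟶ specPt k) {X : Scheme.{u}} (i : X ⟶ Y)
  [IsClosedImmersion i] [DCoh.HasSheafHom (Omega.conormal i)]

/-- **rigidity of a closed subscheme and the normal sheaf**. -/
theorem rigid_iff :
    (∀ A : Art k k, Subsingleton ((localHilb Y y i.ker).obj A)) ↔
      Subsingleton (Coh.HH X ((DCoh.sheafHom (Omega.conormal i)).obj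
        (Coh.structureModule X)) 0) := by
  rw [(normalEquiv i).subsingleton_congr]
  constructor
  · intro h
    exact subsingleton_hom_of_rigid y (Art.dual k k) (epsD k) (h _)
  · intro h A
    exact ⟨fun I' I'' => Subtype.ext (le_antisymm
      (Groth.Agent.Helper3.HilbRig.le_of_subsingleton h I' I'')
      (Groth.Agent.Helper3.HilbRig.le_of_subsingleton h I'' I'))⟩

end Main

end Groth.Agent.Helper3.HilbTan
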