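import Mathlib
import Groth.Prelude.Def_KLin
import Groth.Agent.Lib.Helper2.Dual.TensorLinear
import Groth.Agent.Lib.Helper3.HilbTanC
import Groth.Agent.Lib.Helper3.HilbExtC
import Groth.Agent.Lib.Helper3.HilbLinB

/-! The tangent space of the local Hilbert functor of a closed subscheme `Y ⊆ X` is linearly
isomorphic to `H⁰(Y, N_{Y/X})` (helper3): linearity of the chain of adjunction bijections
`H⁰(Y, Hom(I/I², O_Y)) ≃ Hom(I, O_X/I)` and of `Hom(I, O_X/I) ≃ localHilb(k[ε])`. -/

set_option autoImplicit false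
set_option linter.style.haveILetI false
universe u
open CategoryTheory CategoryTheory.Limits AlgebraicGeometry TopologicalSpace Opposite

set_option backward.isDefEq.respectTransparency.types false
set_option synthInstance.maxHeartbeats 400000
set_option maxHeartbeats 4000000

attribute [local instance] HasDerivedCategory.standard

namespace Groth.Agent.Helper3.HilbLin

open ArtFun ArtFun.Art Groth.Agent.Helper3.HilbTan Groth.Agent.Helper3.HilbExt
  Groth.Agent.Helper3.DerAut

section Gen

theorem symm_add_of {α β : Type*} [Add α] [Add β] (e : α ≃ β)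
    (h : ∀ a b, e (a + b) = e a + e b) (x y : β) : e.symm (x + y) = e.symm x + e.symm y := by
  apply e.injective
  rw [h, e.apply_symm_apply, e.apply_symm_apply, e.apply_symm_apply]

theorem homCongr_add {X : Scheme.{u}} {J J' : X.IdealSheafData} (e : J = J')
    (f g : ClSub.idealMod J ⟶ ClSub.quotMod J) :
    homCongr e (f + g) = homCongr e f + homCongr e g := by
  subst e
  rfl

theorem homCongr_smul {k : Type u} [Field k] {X : Scheme.{u}} [X.Over (Spec (CommRingCat.of k))]
    {J J' : X.IdealSheafData} (e : J = J') (a : k) (f : ClSub.idealMod J ⟶ ClSub.quotMod J) :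
    homCongr e (a • f) = a • homCongr e f := by
  subst e
  rfl

end Gen

section Lin

variable {k : Type u} [Field k] {Z : Scheme.{u}} [Z.Over (Spec (CommRingCat.of k))]

theorem comp_smul' {M N P : Z.Modules} (f : M ⟶ N) (a : k) (g : N ⟶ P) :
    f ≫ (a • g) = a • (f ≫ g) := Linear.comp_smul M N P f a g

theorem smul_comp' {M N P : Z.Modules} (a : k) (f : M ⟶ N) (g : N ⟶ P) :
    (a • f) ≫ g = a • (f ≫ g) := Linear.smul_comp M N P a f g

theorem secEquiv_apply (F : Z.Modules) (f : Coh.structureModule Z ⟶ F) :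
    secEquiv F f = f.val.app (op ⊤) (1 : Z.ringCatSheaf.obj.obj (op ⊤)) := rfl

theorem secEquiv_add (F : Z.Modules) (f g : Coh.structureModule Z ⟶ F) :
    secEquiv F (f + g) = secEquiv F f + secEquiv F g := rfl

theorem secEquiv_smul (F : Z.Modules) (a : k) (f : Coh.structureModule Z ⟶ F) :
    secEquiv F (a • f) = Coh.toGlobal (Z ↘ Spec (CommRingCat.of k)) a • secEquiv F f := by
  have h1 : secEquiv F (a • f) = f.val.app (op ⊤)
      (Coh.resTop Z (op ⊤) (Coh.toGlobal (Z ↘ Spec (CommRingCat.of k)) a) •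
        (1 : Z.ringCatSheaf.obj.obj (op ⊤))) := rfl
  have h2 : Coh.resTop Z (op ⊤) (Coh.toGlobal (Z ↘ Spec (CommRingCat.of k)) a) =
      Coh.toGlobal (Z ↘ Spec (CommRingCat.of k)) a := by
    change (Z.ringCatSheaf.obj.map (𝟙 (op ⊤))).hom _ = _
    rw [Z.ringCatSheaf.obj.map_id]
    rfl
  rw [h1, h2, secEquiv_apply]
  exact (f.val.app (op ⊤)).hom.map_smul _ _

/-- `H⁰(Z, F) → Hom(O_Z, F)`. -/
noncomputable def g12 (F : Z.Modules) (t : Coh.HH Z F 0) : Coh.structureModule Z ⟶ F :=
  (secEquiv F).symm (Groth.Agent.Helper1.HH0.equiv Z F t)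

theorem g12_add (F : Z.Modules) (s t : Coh.HH Z F 0) : g12 F (s + t) = g12 F s + g12 F t := by
  show (secEquiv F).symm (Groth.Agent.Helper1.HH0.equiv Z F (s + t)) =
    (secEquiv F).symm (Groth.Agent.Helper1.HH0.equiv Z F s) +
      (secEquiv F).symm (Groth.Agent.Helper1.HH0.equiv Z F t)
  rw [map_add]
  exact symm_add_of (secEquiv F) (secEquiv_add F) _ _

theorem g12_smul (F : Z.Modules) (a : k) (t : Coh.HH Z F 0) : g12 F (a • t) = a • g12 F t := by
  show (secEquiv F).symm (Groth.Agent.Helper1.HH0.equiv Z F (a • t)) =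
    a • (secEquiv F).symm (Groth.Agent.Helper1.HH0.equiv Z F t)
  rw [Groth.Agent.Helper1.HH0.equiv_smul_over]
  apply (secEquiv F).injective
  rw [Equiv.apply_symm_apply, secEquiv_smul, Equiv.apply_symm_apply]

theorem sh_symm_add (C : Z.Modules) [DCoh.HasSheafHom C] (N P : Z.Modules)
    (g g' : N ⟶ (DCoh.sheafHom C).obj P) :
    ((DCoh.sheafHomAdj C).homEquiv N P).symm (g + g') =
      ((DCoh.sheafHomAdj C).homEquiv N P).symm g +
        ((DCoh.sheafHomAdj C).homEquiv N P).symm g' :=
  (DCoh.sheafHomAdj C).homAddEquiv_symm_add N P g g'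

theorem sh_symm_smul (C : Z.Modules) [DCoh.HasSheafHom C] (N P : Z.Modules) (a : k)
    (g : N ⟶ (DCoh.sheafHom C).obj P) :
    ((DCoh.sheafHomAdj C).homEquiv N P).symm (a • g) =
      a • ((DCoh.sheafHomAdj C).homEquiv N P).symm g := by
  change ((DCoh.sheafHomAdj C).homEquiv N P).symm (Formal.smulMod k N a ≫ g) =
    Formal.smulMod k ((DCoh.tensorBi.obj C).obj N) a ≫
      ((DCoh.sheafHomAdj C).homEquiv N P).symm g
  rw [Adjunction.homEquiv_naturality_left_symm]
  congr 1
  exact Groth.Agent.Helper2.TensorLinear.tensor_map_smulModΓ C N _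

variable {X : Scheme.{u}} [X.Over (Spec (CommRingCat.of k))] (i : Z ⟶ X)

theorem pp_add (Jm : X.Modules) (P : Z.Modules)
    (h h' : (Scheme.Modules.pullback i).obj Jm ⟶ P) :
    ((Scheme.Modules.pullbackPushforwardAdjunction i).homEquiv Jm P) (h + h') =
      ((Scheme.Modules.pullbackPushforwardAdjunction i).homEquiv Jm P) h +
        ((Scheme.Modules.pullbackPushforwardAdjunction i).homEquiv Jm P) h' :=
  (Scheme.Modules.pullbackPushforwardAdjunction i).homAddEquiv_add Jm P h h'

theorem push_map_smul [i.IsOver (Spec (CommRingCat.of k))] {M N : Z.Modules} (a : k)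
    (h : M ⟶ N) :
    (Scheme.Modules.pushforward i).map (a • h) = a • (Scheme.Modules.pushforward i).map h :=
  Functor.map_smul _ a h

theorem pp_smul [i.IsOver (Spec (CommRingCat.of k))] (Jm : X.Modules) (P : Z.Modules) (a : k)
    (h : (Scheme.Modules.pullback i).obj Jm ⟶ P) :
    ((Scheme.Modules.pullbackPushforwardAdjunction i).homEquiv Jm P) (a • h) =
      a • ((Scheme.Modules.pullbackPushforwardAdjunction i).homEquiv Jm P) h := by
  rw [Adjunction.homEquiv_unit, Adjunction.homEquiv_unit, push_map_smul, comp_smul']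

end Lin

section Normal

variable {k : Type u} [Field k] {Z X : Scheme.{u}} [Z.Over (Spec (CommRingCat.of k))]
  [X.Over (Spec (CommRingCat.of k))] (i : Z ⟶ X) [IsClosedImmersion i]
  [DCoh.HasSheafHom (Omega.conormal i)]

/-- step 3 of `normalEquiv`. -/
noncomputable def s3 (g : Coh.structureModule Z ⟶
    (DCoh.sheafHom (Omega.conormal i)).obj (Coh.structureModule Z)) :
    (DCoh.tensorBi.obj (Omega.conormal i)).obj (Coh.structureModule Z) ⟶ Coh.structureModule Z :=
  ((DCoh.sheafHomAdj (Omega.conormal i)).homEquiv (Coh.structureModule Z)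
    (Coh.structureModule Z)).symm g

/-- step 4 of `normalEquiv`. -/
noncomputable def s4 (g : (DCoh.tensorBi.obj (Omega.conormal i)).obj (Coh.structureModule Z) ⟶
    Coh.structureModule Z) : Omega.conormal i ⟶ Coh.structureModule Z :=
  (tensorUnitIso (Omega.conormal i)).inv ≫ g

/-- step 5 of `normalEquiv`. -/
noncomputable def s5 (g : Omega.conormal i ⟶ Coh.structureModule Z) :
    ClSub.idealMod i.ker ⟶ (Scheme.Modules.pushforward i).obj (Coh.structureModule Z) :=
  ((Scheme.Modules.pullbackPushforwardAdjunction i).homEquiv (ClSub.idealMod i.ker)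
    (Coh.structureModule Z)) g

/-- step 6 of `normalEquiv`. -/
noncomputable def s6 (g : ClSub.idealMod i.ker ⟶
    (Scheme.Modules.pushforward i).obj (Coh.structureModule Z)) :
    ClSub.idealMod i.ker ⟶ ClSub.quotMod i.ker :=
  g ≫ (quotModIso i).symm.hom

theorem normalEquiv_eq (t : Coh.HH Z ((DCoh.sheafHom (Omega.conormal i)).obj
    (Coh.structureModule Z)) 0) :
    normalEquiv i t = s6 i (s5 i (s4 i (s3 i (g12 _ t)))) := rfl

theorem s3_add (g g' : Coh.structureModule Z ⟶
    (DCoh.sheafHom (Omega.conormal i)).obj (Coh.structureModule Z)) :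
    s3 i (g + g') = s3 i g + s3 i g' := sh_symm_add (Omega.conormal i) _ _ g g'

theorem s3_smul (a : k) (g : Coh.structureModule Z ⟶
    (DCoh.sheafHom (Omega.conormal i)).obj (Coh.structureModule Z)) :
    s3 i (a • g) = a • s3 i g := sh_symm_smul (Omega.conormal i) _ _ a g

theorem s4_add (g g' : (DCoh.tensorBi.obj (Omega.conormal i)).obj (Coh.structureModule Z) ⟶
    Coh.structureModule Z) : s4 i (g + g') = s4 i g + s4 i g' :=
  Preadditive.comp_add _ _ _ _ _ _

theorem s4_smul (a : k) (g : (DCoh.tensorBi.obj (Omega.conormal i)).obj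
    (Coh.structureModule Z) ⟶ Coh.structureModule Z) : s4 i (a • g) = a • s4 i g :=
  comp_smul' _ a g

theorem s5_add (g g' : Omega.conormal i ⟶ Coh.structureModule Z) :
    s5 i (g + g') = s5 i g + s5 i g' := pp_add i _ _ g g'

theorem s5_smul [i.IsOver (Spec (CommRingCat.of k))] (a : k)
    (g : Omega.conormal i ⟶ Coh.structureModule Z) : s5 i (a • g) = a • s5 i g :=
  pp_smul i _ _ a g

theorem s6_add (g g' : ClSub.idealMod i.ker ⟶
    (Scheme.Modules.pushforward i).obj (Coh.structureModule Z)) :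
    s6 i (g + g') = s6 i g + s6 i g' := Preadditive.add_comp _ _ _ _ _ _

theorem s6_smul (a : k) (g : ClSub.idealMod i.ker ⟶
    (Scheme.Modules.pushforward i).obj (Coh.structureModule Z)) :
    s6 i (a • g) = a • s6 i g := smul_comp' a g _

theorem normalEquiv_add (s t : Coh.HH Z ((DCoh.sheafHom (Omega.conormal i)).obj
    (Coh.structureModule Z)) 0) :
    normalEquiv i (s + t) = normalEquiv i s + normalEquiv i t := by
  rw [normalEquiv_eq, normalEquiv_eq, normalEquiv_eq, g12_add, s3_add, s4_add, s5_add, s6_add]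

theorem normalEquiv_smul [i.IsOver (Spec (CommRingCat.of k))] (a : k)
    (t : Coh.HH Z ((DCoh.sheafHom (Omega.conormal i)).obj (Coh.structureModule Z)) 0) :
    normalEquiv i (a • t) = a • normalEquiv i t := by
  rw [normalEquiv_eq, normalEquiv_eq, g12_smul, s3_smul, s4_smul, s5_smul, s6_smul]

end Normal

section Main

variable (k : Type u) [Field k] (X : Scheme.{u}) [X.Over (Spec (CommRingCat.of k))]
  (I₀ : X.IdealSheafData)

/-- `tanElt` as a map to the tangent space. -/
noncomputable def tanT (φ : ClSub.idealMod I₀ ⟶ ClSub.quotMod I₀) :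
    TangentSpace (localHilb X (X ↘ Spec (CommRingCat.of k)) I₀) :=
  tanElt (X ↘ Spec (CommRingCat.of k)) (D k) (epsD k) φ

theorem tanT_bijective : Function.Bijective (tanT k X I₀) :=
  tanElt_bijective (X ↘ Spec (CommRingCat.of k)) (D k) (epsD k)

theorem add_app_apply (φ₁ φ₂ : ClSub.idealMod I₀ ⟶ ClSub.quotMod I₀) (V : X.Opens)
    (m : Γ(ClSub.idealMod I₀, V)) : (φ₁ + φ₂).app V m = φ₁.app V m + φ₂.app V m := rfl

variable [T : TangentStr (localHilb X (X ↘ Spec (CommRingCat.of k)) I₀)]

theorem tanT_add (φ₁ φ₂ : ClSub.idealMod I₀ ⟶ ClSub.quotMod I₀) :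
    tanT k X I₀ (φ₁ + φ₂) = tanT k X I₀ φ₁ + tanT k X I₀ φ₂ := by
  obtain ⟨z, h1, h2⟩ := exists_z (X ↘ Spec (CommRingCat.of k)) I₀
    (tanElt (X ↘ Spec (CommRingCat.of k)) (D k) (epsD k) φ₁)
    (tanElt (X ↘ Spec (CommRingCat.of k)) (D k) (epsD k) φ₂)
  have h3 := map_plus_eq (X ↘ Spec (CommRingCat.of k)) z φ₁ φ₂ (φ₁ + φ₂) h1 h2
    (add_app_apply X I₀ φ₁ φ₂)
  have h4 := T.add_eq z
  rw [h1, h2, h3] at h4
  exact h4.symm

theorem tanT_smul (c : k) (φ : ClSub.idealMod I₀ ⟶ ClSub.quotMod I₀) :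
    tanT k X I₀ (c • φ) = c • tanT k X I₀ φ := by
  have h1 := map_scale_tanElt (X ↘ Spec (CommRingCat.of k)) c φ (c • φ)
    (fun V m => KLin.smul_app_apply c φ V m)
  have h2 := T.smul_eq c (tanElt (X ↘ Spec (CommRingCat.of k)) (D k) (epsD k) φ)
  exact h1.symm.trans h2.symm

/-- **the tangent space of the local Hilbert functor is `H⁰` of the normal sheaf**, linearly. -/
theorem nonempty_linearEquiv [I₀.subscheme.Over (Spec (CommRingCat.of k))]
    [I₀.subschemeι.IsOver (Spec (CommRingCat.of k))]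
    [DCoh.HasSheafHom (Omega.conormal I₀.subschemeι)] :
    Nonempty (TangentSpace (localHilb X (X ↘ Spec (CommRingCat.of k)) I₀) ≃ₗ[k]
      Coh.HH I₀.subscheme ((DCoh.sheafHom (Omega.conormal I₀.subschemeι)).obj
        (Coh.structureModule I₀.subscheme)) 0) := by
  let e₀ : Coh.HH I₀.subscheme ((DCoh.sheafHom (Omega.conormal I₀.subschemeι)).obj
      (Coh.structureModule I₀.subscheme)) 0 ≃
      TangentSpace (localHilb X (X ↘ Spec (CommRingCat.of k)) I₀) :=
    (normalEquiv I₀.subschemeι).trans ((homCongr I₀.ker_subschemeι).trans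
      (Equiv.ofBijective (tanT k X I₀) (tanT_bijective k X I₀)))
  have hadd : ∀ s t, e₀ (s + t) = e₀ s + e₀ t := by
    intro s t
    show tanT k X I₀ (homCongr I₀.ker_subschemeι (normalEquiv I₀.subschemeι (s + t))) =
      tanT k X I₀ (homCongr I₀.ker_subschemeι (normalEquiv I₀.subschemeι s)) +
        tanT k X I₀ (homCongr I₀.ker_subschemeι (normalEquiv I₀.subschemeι t))
    rw [normalEquiv_add, homCongr_add, tanT_add]
  have hsmul : ∀ (a : k) s, e₀ (a • s) = a • e₀ s := by
    intro a s
    show tanT k X I₀ (homCongr I₀.ker_subschemeι (normalEquiv I₀.subschemeι (a • s))) =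
      a • tanT k X I₀ (homCongr I₀.ker_subschemeι (normalEquiv I₀.subschemeι s))
    rw [normalEquiv_smul, homCongr_smul, tanT_smul]
  exact ⟨LinearEquiv.symm
    { toFun := e₀
      map_add' := hadd
      map_smul' := hsmul
      invFun := e₀.symm
      left_inv := e₀.left_inv
      right_inv := e₀.right_inv }⟩

end Main

end Groth.Agent.Helper3.HilbLin
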