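import Mathlib
import Groth.Agent.Lib.Helper5.PnSm.Chart
import Groth.Agent.Lib.Helper9.TanStr
import Groth.Agent.Lib.Helper3.HilbLinC
import Groth.Agent.Lib.Helper3.HilbCotA
import Groth.Agent.Lib.Helper3.HilbCotB

/-! The Zariski cotangent space of the Hilbert scheme of a projective `k`-scheme `Y` at the point
`[X]` has the dimension of `H⁰(X, N_{X/Y})` (helper3): the local ring at `[X]` carries a family over
the local Hilbert functor which is bijective on `k[ε]`, and the tangent space of the local Hilbert
functor is `H⁰(X, N_{X/Y})`. -/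

set_option autoImplicit false
set_option linter.style.haveILetI false
universe u
open CategoryTheory CategoryTheory.Limits AlgebraicGeometry TopologicalSpace Opposite

set_option backward.isDefEq.respectTransparency.types false
set_option synthInstance.maxHeartbeats 400000
set_option maxHeartbeats 4000000

attribute [local instance] HasDerivedCategory.standard

namespace Groth.Agent.Helper3.HilbCot

open ArtFun ArtFun.Art Groth.Agent.Helper3.HilbTan Groth.Agent.Helper3.HilbLin

theorem isProper_toBase' (n : ℕ) (S : Scheme.{u}) :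
    IsProper (CohB1.ProjSpaceOver.toBase n S) := by
  have h0 : IsProper (CohB1.ProjSpace.toSpec n (ULift.{u} ℤ)) :=
    Groth.Agent.Lib.Helper5.PnSm.isProper_toSpec n _
  have : IsProper (pullback.snd (CohB1.ProjSpace.toSpec n (ULift.{u} ℤ))
    (specULiftZIsTerminal.from S)) := inferInstance
  exact this

/-- the tangent space of the local Hilbert functor of a closed immersion `i : X ⟶ Y` is
`H⁰(X, N_{X/Y})`, linearly. -/
theorem nonempty_linearEquiv' (k : Type u) [Field k] (Y : Scheme.{u})
    [Y.Over (Spec (CommRingCat.of k))] {X : Scheme.{u}} [X.Over (Spec (CommRingCat.of k))]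
    (i : X ⟶ Y) [IsClosedImmersion i] [i.IsOver (Spec (CommRingCat.of k))]
    [DCoh.HasSheafHom (Omega.conormal i)]
    [T : TangentStr (localHilb Y (Y ↘ Spec (CommRingCat.of k)) i.ker)] :
    Nonempty (TangentSpace (localHilb Y (Y ↘ Spec (CommRingCat.of k)) i.ker) ≃ₗ[k]
      Coh.HH X ((DCoh.sheafHom (Omega.conormal i)).obj (Coh.structureModule X)) 0) := by
  let e₀ : Coh.HH X ((DCoh.sheafHom (Omega.conormal i)).obj (Coh.structureModule X)) 0 ≃
      TangentSpace (localHilb Y (Y ↘ Spec (CommRingCat.of k)) i.ker) :=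
    (normalEquiv i).trans (Equiv.ofBijective (tanT k Y i.ker) (tanT_bijective k Y i.ker))
  have hadd : ∀ s t, e₀ (s + t) = e₀ s + e₀ t := by
    intro s t
    show tanT k Y i.ker (normalEquiv i (s + t)) =
      tanT k Y i.ker (normalEquiv i s) + tanT k Y i.ker (normalEquiv i t)
    rw [normalEquiv_add, tanT_add]
  have hsmul : ∀ (a : k) s, e₀ (a • s) = a • e₀ s := by
    intro a s
    show tanT k Y i.ker (normalEquiv i (a • s)) = a • tanT k Y i.ker (normalEquiv i s)
    rw [normalEquiv_smul, tanT_smul]
  exact ⟨LinearEquiv.symm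
    { toFun := e₀
      map_add' := hadd
      map_smul' := hsmul
      invFun := e₀.symm
      left_inv := e₀.left_inv
      right_inv := e₀.right_inv }⟩

/-- **the Zariski cotangent space of the Hilbert scheme at `[X]` and `H⁰(X, N)`**. -/
theorem finrank_cotangent_eq {k : Type u} [Field k] (Y : Scheme.{u})
    (y : Y ⟶ Spec (CommRingCat.of k))
    (hprojY : ∃ (m : ℕ) (c : Y ⟶ CohB1.ProjSpaceOver m (Spec (CommRingCat.of k))),
      IsClosedImmersion c ∧ c ≫ CohB1.ProjSpaceOver.toBase m (Spec (CommRingCat.of k)) = y)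
    (H : Over (Spec (CommRingCat.of k))) (Z : FGA.HilbSet y H)
    (hH : FGA.HilbRepresentedBy y H Z)
    (X : Scheme.{u}) [X.Over (Spec (CommRingCat.of k))] (i : X ⟶ Y) [IsClosedImmersion i]
    (hi : i ≫ y = X ↘ (Spec (CommRingCat.of k)))
    [DCoh.HasSheafHom (Omega.conormal i)]
    (h : Over.mk (𝟙 (Spec (CommRingCat.of k))) ⟶ H)
    (hh : FGA.hilbPull y h Z.1 =
      i.ker.comap (pullback.fst y (Over.mk (𝟙 (Spec (CommRingCat.of k)))).hom)) :
    Module.finrank
        (IsLocalRing.ResidueField
          (H.left.presheaf.stalk (h.left.base (IsLocalRing.closedPoint k))))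
        (IsLocalRing.CotangentSpace
          (H.left.presheaf.stalk (h.left.base (IsLocalRing.closedPoint k)))) =
      Module.finrank k
        (Coh.HH X ((DCoh.sheafHom (Omega.conormal i)).obj (Coh.structureModule X)) 0) := by
  obtain ⟨m, c, hc, hcy⟩ := hprojY
  haveI : IsProper y := by
    rw [← hcy]
    haveI := hc
    haveI := isProper_toBase' m (Spec (CommRingCat.of k))
    infer_instance
  letI : Y.Over (Spec (CommRingCat.of k)) := ⟨y⟩
  haveI : i.IsOver (Spec (CommRingCat.of k)) := ⟨hi⟩
  have h0 := Groth.Agent.Helper3.LH.h0 y i.ker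
  have h2 : Heps (localHilb Y y i.ker) := fun B A' p' p'' hfp =>
    Groth.Agent.Helper3.LH.bijective_cmp y p' p'' _ _ i.ker hfp (Art.dual k k).res_surjective
  letI T : TangentStr (localHilb Y (Y ↘ Spec (CommRingCat.of k)) i.ker) :=
    Groth.Agent.Lib.Helper9.TanStr.tangentStr h0 h2
  obtain ⟨e⟩ := nonempty_linearEquiv' k Y i
  letI alg : Algebra k (H.left.presheaf.stalk (ptH H h)) := algH H h
  have halg : algebraMap k (H.left.presheaf.stalk (ptH H h)) = (aH H h).hom := rfl
  have e5 := finrank_tangent_eq_cotangent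
    (F := localHilb Y (Y ↘ Spec (CommRingCat.of k)) i.ker)
    (H.left.presheaf.stalk (ptH H h)) (resH H h halg) (fam y H h halg Z i.ker hh)
    ⟨fam_injective y H h halg Z i.ker hh hH (Art.dual k k),
      fam_surjective y H h halg Z i.ker hh hH (Art.dual k k)⟩
  exact e5.symm.trans e.finrank_eq

end Groth.Agent.Helper3.HilbCot
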