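import Groth.Agent.Lib.Helper3.HilbDef1

set_option maxHeartbeats 400000

/-!
# Deforming a punctual ideal of the plane (part 2)

For a punctual ideal `𝔞 ⊂ k[x_0,x_1]` not containing `y = X j`, the ideal
`(y - T)·(𝔞 : y) + (f)` of `k[x_0,x_1][T]` (with `f ∈ 𝔞` monic in the other variable and generating
`𝔞` modulo `y`) defines a finite flat family with fibre `𝔞` at `T = 0`.
-/

open Polynomial

namespace Groth.Agent.Lib.Helper3.HilbDef

variable {k : Type*} [Field k]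

theorem flat_finite_of_embedding {R S S₁ S₂ : Type*} [CommRing R] [IsDomain R]
    [IsPrincipalIdealRing R] [CommRing S] [CommRing S₁] [CommRing S₂]
    (ϕ : R →+* S) (h₁ : S →+* S₁) (h₂ : S →+* S₂)
    (hinj : ∀ s, h₁ s = 0 → h₂ s = 0 → s = 0)
    (fin₁ : (h₁.comp ϕ).Finite) (fin₂ : (h₂.comp ϕ).Finite)
    (tf₁ : ∀ r s, r ≠ 0 → h₁ (ϕ r) * s = 0 → s = 0)
    (tf₂ : ∀ r s, r ≠ 0 → h₂ (ϕ r) * s = 0 → s = 0) :
    ϕ.Flat ∧ ϕ.Finite := by
  letI : Algebra R S := ϕ.toAlgebra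
  letI : Algebra R S₁ := (h₁.comp ϕ).toAlgebra
  letI : Algebra R S₂ := (h₂.comp ϕ).toAlgebra
  haveI : Module.Finite R S₁ := fin₁
  haveI : Module.Finite R S₂ := fin₂
  let L : S →ₗ[R] S₁ × S₂ :=
    { toFun := fun s => (h₁ s, h₂ s)
      map_add' := fun a b => by simp
      map_smul' := fun r s => by
        simp [Algebra.smul_def, RingHom.algebraMap_toAlgebra] }
  have hL : Function.Injective L := by
    rw [← LinearMap.ker_eq_bot, LinearMap.ker_eq_bot']
    intro s hs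
    have h := Prod.ext_iff.mp hs
    exact hinj s h.1 h.2
  haveI : Module.Finite R S := Module.Finite.of_injective L hL
  haveI : Module.IsTorsionFree R S := by
    apply Module.IsTorsionFree.of_smul_eq_zero
    intro r s hrs
    by_cases hr : r = 0
    · exact Or.inl hr
    · right
      have e : ϕ r * s = 0 := by rwa [Algebra.smul_def] at hrs
      apply hinj
      · apply tf₁ r _ hr; rw [← map_mul, e, map_zero]
      · apply tf₂ r _ hr; rw [← map_mul, e, map_zero]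
  exact ⟨inferInstanceAs (Module.Flat R S), inferInstanceAs (Module.Finite R S)⟩

theorem mem_map_C_iff_map_eq_zero {A : Type*} [CommRing A] (𝔠 : Ideal A) (a : A[X]) :
    a ∈ Ideal.map (C : A →+* A[X]) 𝔠 ↔ a.map (Ideal.Quotient.mk 𝔠) = 0 := by
  rw [Ideal.mem_map_C_iff, Polynomial.ext_iff]
  simp only [Polynomial.coeff_map, Polynomial.coeff_zero, Ideal.Quotient.eq_zero_iff_mem]

theorem mem_of_sub_mul_mem {A : Type*} [CommRing A] (𝔠 : Ideal A) (y : A) (a : A[X])
    (h : (C y - X) * a ∈ Ideal.map (C : A →+* A[X]) 𝔠) : a ∈ Ideal.map (C : A →+* A[X]) 𝔠 := by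
  rw [mem_map_C_iff_map_eq_zero] at h ⊢
  rw [Polynomial.map_mul, Polynomial.map_sub, Polynomial.map_C, Polynomial.map_X] at h
  have h' : (X - C (Ideal.Quotient.mk 𝔠 y)) * a.map (Ideal.Quotient.mk 𝔠) = 0 := by
    rw [← neg_sub, neg_mul, h, neg_zero]
  exact (Polynomial.monic_X_sub_C _).mul_right_eq_zero_iff.mp h'

theorem mem_of_map_mul_mem {A : Type*} [CommRing A] (𝔠 : Ideal A) (θ₀ : k →+* A) (r : k[X])
    (hr : r ≠ 0) (g : A[X]) (h : r.map θ₀ * g ∈ Ideal.map (C : A →+* A[X]) 𝔠) :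
    g ∈ Ideal.map (C : A →+* A[X]) 𝔠 := by
  rw [mem_map_C_iff_map_eq_zero] at h ⊢
  rw [Polynomial.map_mul, Polynomial.map_map] at h
  have hmon : ((r * C r.leadingCoeff⁻¹).map ((Ideal.Quotient.mk 𝔠).comp θ₀)).Monic :=
    (Polynomial.monic_mul_leadingCoeff_inv hr).map _
  apply hmon.mul_right_eq_zero_iff.mp
  rw [Polynomial.map_mul, mul_right_comm, h, zero_mul]

/-- the colon ideal `(𝔞 : y)` -/
def colonY {A : Type*} [CommRing A] (𝔞 : Ideal A) (y : A) : Ideal A where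
  carrier := {g | y * g ∈ 𝔞}
  add_mem' := fun {a b} ha hb => by
    show y * (a + b) ∈ 𝔞
    rw [mul_add]; exact 𝔞.add_mem ha hb
  zero_mem' := by
    show y * 0 ∈ 𝔞
    rw [mul_zero]; exact 𝔞.zero_mem
  smul_mem' := fun c g hg => by
    show y * (c • g) ∈ 𝔞
    rw [smul_eq_mul, mul_left_comm]; exact 𝔞.mul_mem_left c hg

theorem mem_colonY {A : Type*} [CommRing A] {𝔞 : Ideal A} {y g : A} :
    g ∈ colonY 𝔞 y ↔ y * g ∈ 𝔞 := Iff.rfl

theorem finite_of_nilpotent_gens {R S : Type*} [CommRing R] [CommRing S] (ϕ : R →+* S)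
    {ι : Type*} [Finite ι] (gens : ι → S) (hnil : ∀ l, IsNilpotent (gens l))
    (hgen : ∀ s : S, s ∈ Subring.closure (Set.range ϕ ∪ Set.range gens)) : ϕ.Finite := by
  classical
  letI : Algebra R S := ϕ.toAlgebra
  have htop : Algebra.adjoin R (Set.range gens) = ⊤ := by
    rw [eq_top_iff]; rintro s -
    rw [← Subalgebra.mem_toSubring, Algebra.adjoin_eq_ring_closure]
    exact hgen s
  haveI : Algebra.FiniteType R S := by
    cases nonempty_fintype ι
    exact ⟨⟨Finset.univ.image gens, by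
      rw [Finset.coe_image, Finset.coe_univ, Set.image_univ]; exact htop⟩⟩
  haveI : Algebra.IsIntegral R S := by
    refine ⟨fun s => ?_⟩
    have hs : s ∈ Algebra.adjoin R (Set.range gens) := htop ▸ Algebra.mem_top
    refine (Algebra.adjoin_le (S := integralClosure R S) ?_) hs
    rintro _ ⟨l, rfl⟩
    obtain ⟨N, hN⟩ := hnil l
    exact ⟨X ^ N, Polynomial.monic_X_pow N, by rw [Polynomial.eval₂_X_pow, hN]⟩
  exact Algebra.IsIntegral.finite

theorem finite_quot_of_nilpotent (𝔠 : Ideal (MvPolynomial (Fin 2) k))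
    (hx : ∀ l : Fin 2, ∃ N : ℕ, (MvPolynomial.X l : MvPolynomial (Fin 2) k) ^ N ∈ 𝔠) :
    RingHom.Finite (A := k[X])
      (B := (MvPolynomial (Fin 2) k)[X] ⧸ Ideal.map (C : MvPolynomial (Fin 2) k →+* _) 𝔠)
      ((Ideal.Quotient.mk (Ideal.map (C : MvPolynomial (Fin 2) k →+* _) 𝔠)).comp
      (Polynomial.mapRingHom (MvPolynomial.C : k →+* MvPolynomial (Fin 2) k))) := by
  apply finite_of_nilpotent_gens _
    (fun l : Fin 2 => Ideal.Quotient.mk (Ideal.map (C : MvPolynomial (Fin 2) k →+* _) 𝔠)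
      (C (MvPolynomial.X l)))
  · intro l
    obtain ⟨N, hN⟩ := hx l
    refine ⟨N, ?_⟩
    rw [← map_pow, ← map_pow, Ideal.Quotient.eq_zero_iff_mem]
    exact Ideal.mem_map_of_mem _ hN
  · have hC : ∀ a : MvPolynomial (Fin 2) k,
        Ideal.Quotient.mk (Ideal.map (C : MvPolynomial (Fin 2) k →+* _) 𝔠) (C a) ∈
          Subring.closure (Set.range ((Ideal.Quotient.mk
            (Ideal.map (C : MvPolynomial (Fin 2) k →+* _) 𝔠)).comp
              (Polynomial.mapRingHom (MvPolynomial.C : k →+* MvPolynomial (Fin 2) k))) ∪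
            Set.range (fun l : Fin 2 =>
              Ideal.Quotient.mk (Ideal.map (C : MvPolynomial (Fin 2) k →+* _) 𝔠)
                (C (MvPolynomial.X l)))) := by
      intro a
      induction a using MvPolynomial.induction_on with
      | C c => exact Subring.subset_closure (Or.inl ⟨C c, by simp⟩)
      | add p q hp hq => rw [map_add, map_add]; exact add_mem hp hq
      | mul_X p l hp =>
        rw [map_mul, map_mul]
        exact mul_mem hp (Subring.subset_closure (Or.inr ⟨l, rfl⟩))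
    intro s
    obtain ⟨g, rfl⟩ := Ideal.Quotient.mk_surjective s
    induction g using Polynomial.induction_on' with
    | add p q hp hq => rw [map_add]; exact add_mem hp hq
    | monomial n a =>
      rw [← Polynomial.C_mul_X_pow_eq_monomial, map_mul, map_pow]
      have hX : Ideal.Quotient.mk (Ideal.map (C : MvPolynomial (Fin 2) k →+* _) 𝔠)
          (X : (MvPolynomial (Fin 2) k)[X]) ∈
          Subring.closure (Set.range ((Ideal.Quotient.mk
            (Ideal.map (C : MvPolynomial (Fin 2) k →+* _) 𝔠)).comp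
              (Polynomial.mapRingHom (MvPolynomial.C : k →+* MvPolynomial (Fin 2) k))) ∪
            Set.range (fun l : Fin 2 =>
              Ideal.Quotient.mk (Ideal.map (C : MvPolynomial (Fin 2) k →+* _) 𝔠)
                (C (MvPolynomial.X l)))) :=
        Subring.subset_closure (Or.inl ⟨(X : k[X]), by simp⟩)
      exact Subring.mul_mem _ (hC a) (Subring.pow_mem _ hX n)

theorem colon_le (𝔞 : Ideal (MvPolynomial (Fin 2) k)) (j : Fin 2)
    (M₀ : Ideal (MvPolynomial (Fin 2) k)) (hrad : 𝔞.radical = M₀)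
    (hker : ∀ g : MvPolynomial (Fin 2) k, MvPolynomial.eval 0 g = 0 → g ∈ M₀)
    (hj : MvPolynomial.X j ∉ 𝔞) : colonY 𝔞 (MvPolynomial.X j) ≤ M₀ := by
  intro g hg
  have hg' : MvPolynomial.X j * g ∈ 𝔞 := hg
  by_contra hgM
  obtain ⟨e, he⟩ : ∃ e : k, e = MvPolynomial.eval (0 : Fin 2 → k) g := ⟨_, rfl⟩
  have he0 : e ≠ 0 := fun h => hgM (hker g (by rw [← he, h]))
  have hmem : g - MvPolynomial.C e ∈ 𝔞.radical := by
    rw [hrad]; apply hker; simp [he]
  obtain ⟨N, hN⟩ := hmem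
  obtain ⟨w, hw⟩ := sub_dvd_pow_sub_pow (g - MvPolynomial.C e) (-(MvPolynomial.C e)) N
  have h1 : MvPolynomial.X j * (-(MvPolynomial.C e)) ^ N ∈ 𝔞 := by
    have : MvPolynomial.X j * (-(MvPolynomial.C e)) ^ N =
        MvPolynomial.X j * (g - MvPolynomial.C e) ^ N - (MvPolynomial.X j * g) * w := by
      linear_combination (-(MvPolynomial.X j : MvPolynomial (Fin 2) k)) * hw
    rw [this]; exact 𝔞.sub_mem (𝔞.mul_mem_left _ hN) (𝔞.mul_mem_right _ hg')
  apply hj
  have hpow : (-(MvPolynomial.C e : MvPolynomial (Fin 2) k)) ^ N = MvPolynomial.C ((-e) ^ N) := by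
    rw [map_pow, map_neg]
  have h2 : (MvPolynomial.X j : MvPolynomial (Fin 2) k) =
      MvPolynomial.C (((-e) ^ N)⁻¹) * (MvPolynomial.X j * (-(MvPolynomial.C e)) ^ N) := by
    rw [hpow, mul_left_comm, ← map_mul, inv_mul_cancel₀ (pow_ne_zero _ (neg_ne_zero.mpr he0)),
      map_one, mul_one]
  rw [h2]; exact 𝔞.mul_mem_left _ h1

theorem map_eval_aprime {A : Type*} [CommRing A] (𝔞₁ : Ideal A) (y f c : A) :
    Ideal.map (Polynomial.evalRingHom c)
        (Ideal.span {C y - X} * Ideal.map (C : A →+* A[X]) 𝔞₁ ⊔ Ideal.span {C f}) =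
      Ideal.span {y - c} * 𝔞₁ ⊔ Ideal.span {f} := by
  have hid : (Polynomial.evalRingHom c).comp (C : A →+* A[X]) = RingHom.id A := by ext; simp
  rw [Ideal.map_sup, Ideal.map_mul, Ideal.map_span, Ideal.map_span, Ideal.map_map, hid, Ideal.map_id]
  simp

theorem mem_aprime_of {i j : Fin 2} (hij : i ≠ j) (fb : Polynomial (Polynomial k))
    (𝔞₁ : Ideal (MvPolynomial (Fin 2) k)) (hf₁ : iota0 i j fb ∈ 𝔞₁)
    (g : (MvPolynomial (Fin 2) k)[X])
    (hg₁ : g ∈ Ideal.map (C : MvPolynomial (Fin 2) k →+* _) 𝔞₁)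
    (hg₂ : AdjoinRoot.mk fb (evB i g) = 0) :
    g ∈ Ideal.span {(C (MvPolynomial.X j) - X : (MvPolynomial (Fin 2) k)[X])} *
        Ideal.map (C : MvPolynomial (Fin 2) k →+* _) 𝔞₁ ⊔ Ideal.span {C (iota0 i j fb)} := by
  obtain ⟨h, hh⟩ := AdjoinRoot.mk_eq_zero.mp hg₂
  obtain ⟨a₁, ha₁⟩ := Ideal.mem_span_singleton'.mp (sub_iotaB_evB_mem hij g)
  obtain ⟨a₂, ha₂⟩ := Ideal.mem_span_singleton'.mp (iotaB_sub_C_iota0_mem i j fb)
  rw [hh, map_mul] at ha₁
  obtain ⟨d, hd⟩ : ∃ d : (MvPolynomial (Fin 2) k)[X], d = C (MvPolynomial.X j) - X := ⟨_, rfl⟩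
  rw [← hd] at ha₁ ha₂ ⊢
  have key : g = d * (a₁ + a₂ * iotaB i h) + C (iota0 i j fb) * iotaB i h := by
    linear_combination (-1 : (MvPolynomial (Fin 2) k)[X]) * ha₁ - iotaB i h * ha₂
  have hda : d * (a₁ + a₂ * iotaB i h) ∈ Ideal.map (C : MvPolynomial (Fin 2) k →+* _) 𝔞₁ := by
    have : d * (a₁ + a₂ * iotaB i h) = g - C (iota0 i j fb) * iotaB i h := by
      linear_combination (-1 : (MvPolynomial (Fin 2) k)[X]) * key
    rw [this]
    exact sub_mem hg₁ (Ideal.mul_mem_right _ _ (Ideal.mem_map_of_mem C hf₁))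
  have ha : a₁ + a₂ * iotaB i h ∈ Ideal.map (C : MvPolynomial (Fin 2) k →+* _) 𝔞₁ := by
    rw [hd] at hda
    exact mem_of_sub_mul_mem 𝔞₁ _ _ hda
  rw [key]
  exact Submodule.add_mem_sup (Ideal.mul_mem_mul (Ideal.mem_span_singleton_self d) ha)
    (Ideal.mul_mem_right _ _ (Ideal.mem_span_singleton_self _))

theorem main_ij [IsAlgClosed k] {i j : Fin 2} (hij : i ≠ j)
    (𝔞 : Ideal (MvPolynomial (Fin 2) k)) [Module.Finite k (MvPolynomial (Fin 2) k ⧸ 𝔞)]
    (hsupp : 𝔞.radical = Ideal.span {MvPolynomial.X 0, MvPolynomial.X 1})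
    (hj : MvPolynomial.X j ∉ 𝔞) :
    ∃ 𝔞' : Ideal (MvPolynomial (Fin 2) k)[X],
      RingHom.Flat (R := k[X]) (S := (MvPolynomial (Fin 2) k)[X] ⧸ 𝔞') ((Ideal.Quotient.mk 𝔞').comp
        (Polynomial.mapRingHom (MvPolynomial.C : k →+* MvPolynomial (Fin 2) k))) ∧
      RingHom.Finite (A := k[X]) (B := (MvPolynomial (Fin 2) k)[X] ⧸ 𝔞') ((Ideal.Quotient.mk 𝔞').comp
        (Polynomial.mapRingHom (MvPolynomial.C : k →+* MvPolynomial (Fin 2) k))) ∧
      Ideal.map (Polynomial.evalRingHom (0 : MvPolynomial (Fin 2) k)) 𝔞' = 𝔞 ∧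
      ∀ c : k, c ≠ 0 →
        Ideal.map (Polynomial.evalRingHom (MvPolynomial.C c)) 𝔞' ≤
          Ideal.span {MvPolynomial.X 0, MvPolynomial.X 1} ∧
        ∃ p : Fin 2 → k, p ≠ 0 ∧
          Ideal.map (Polynomial.evalRingHom (MvPolynomial.C c)) 𝔞' ≤
            Ideal.span (Set.range (fun l : Fin 2 =>
              (MvPolynomial.X l - MvPolynomial.C (p l) : MvPolynomial (Fin 2) k))) := by
  classical
  have hXM : ∀ l : Fin 2, (MvPolynomial.X l : MvPolynomial (Fin 2) k) ∈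
      (Ideal.span {MvPolynomial.X 0, MvPolynomial.X 1} : Ideal (MvPolynomial (Fin 2) k)) := by
    intro l
    fin_cases l
    · exact Ideal.subset_span (Set.mem_insert _ _)
    · exact Ideal.subset_span (Set.mem_insert_of_mem _ rfl)
  have h𝔞M : 𝔞 ≤ Ideal.span {MvPolynomial.X 0, MvPolynomial.X 1} := by
    rw [← hsupp]; exact Ideal.le_radical
  have hXrad : ∀ l : Fin 2, (MvPolynomial.X l : MvPolynomial (Fin 2) k) ∈ 𝔞.radical := by
    intro l; rw [hsupp]; exact hXM l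
  have hker : ∀ g : MvPolynomial (Fin 2) k, MvPolynomial.eval 0 g = 0 →
      g ∈ (Ideal.span {MvPolynomial.X 0, MvPolynomial.X 1} : Ideal (MvPolynomial (Fin 2) k)) := by
    intro g hg
    have := mem_span_of_eval_eq_zero (0 : Fin 2 → k) g hg
    refine (Ideal.span_le.mpr ?_) this
    rintro _ ⟨l, rfl⟩
    simpa using hXM l
  obtain ⟨fb, hfbm, hf𝔞, hα⟩ := exists_fbar hij 𝔞 (hXrad j)
  have hfbdeg : fb.natDegree ≠ 0 := by
    intro h0
    have h1 : fb = 1 := hfbm.natDegree_eq_zero.mp h0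
    rw [h1, map_one] at hf𝔞
    exact hj ((Ideal.eq_top_iff_one 𝔞).mpr hf𝔞 ▸ Submodule.mem_top)
  have h𝔞𝔞₁ : 𝔞 ≤ colonY 𝔞 (MvPolynomial.X j) := fun g hg => 𝔞.mul_mem_left _ hg
  have h𝔞₁M := colon_le 𝔞 j _ hsupp hker hj
  have hf₁ : iota0 i j fb ∈ colonY 𝔞 (MvPolynomial.X j) := h𝔞𝔞₁ hf𝔞
  obtain ⟨𝔞', h𝔞'⟩ : ∃ I : Ideal (MvPolynomial (Fin 2) k)[X],
      I = Ideal.span {(C (MvPolynomial.X j) - X : (MvPolynomial (Fin 2) k)[X])} *
        Ideal.map (C : MvPolynomial (Fin 2) k →+* _) (colonY 𝔞 (MvPolynomial.X j)) ⊔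
          Ideal.span {C (iota0 i j fb)} := ⟨_, rfl⟩
  have hle₁ : 𝔞' ≤ Ideal.map (C : MvPolynomial (Fin 2) k →+* _) (colonY 𝔞 (MvPolynomial.X j)) := by
    rw [h𝔞']
    exact sup_le Ideal.mul_le_right
      ((Ideal.span_singleton_le_iff_mem _).mpr (Ideal.mem_map_of_mem C hf₁))
  obtain ⟨ψ, hψ⟩ : ∃ ψ : (MvPolynomial (Fin 2) k)[X] →+* AdjoinRoot fb,
      ψ = (AdjoinRoot.mk fb).comp (evB i) := ⟨_, rfl⟩
  have hψd : ψ (C (MvPolynomial.X j) - X) = 0 := by
    simp [hψ, ev0_X_of_ne i hij.symm]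
  have hψf : ψ (C (iota0 i j fb)) = 0 := by
    simp [hψ, ev0_iota0 hij]
  have hψmap : ∀ p : k[X], ψ (p.map MvPolynomial.C) = AdjoinRoot.of fb p := by
    intro p
    rw [hψ, RingHom.comp_apply, evB_map_C, AdjoinRoot.mk_C]
  have hle₂ : ∀ a ∈ 𝔞', ψ a = 0 := by
    have : 𝔞' ≤ RingHom.ker ψ := by
      rw [h𝔞']
      refine sup_le (Ideal.mul_le_left.trans ?_) ?_
      · exact (Ideal.span_singleton_le_iff_mem _).mpr hψd
      · exact (Ideal.span_singleton_le_iff_mem _).mpr hψf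
    exact fun a ha => this ha
  have hFF : RingHom.Flat (R := k[X]) (S := (MvPolynomial (Fin 2) k)[X] ⧸ 𝔞')
        ((Ideal.Quotient.mk 𝔞').comp
        (Polynomial.mapRingHom (MvPolynomial.C : k →+* MvPolynomial (Fin 2) k))) ∧
      RingHom.Finite (A := k[X]) (B := (MvPolynomial (Fin 2) k)[X] ⧸ 𝔞')
        ((Ideal.Quotient.mk 𝔞').comp
        (Polynomial.mapRingHom (MvPolynomial.C : k →+* MvPolynomial (Fin 2) k))) := by
    apply flat_finite_of_embedding (R := k[X]) (S := (MvPolynomial (Fin 2) k)[X] ⧸ 𝔞')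
      (S₁ := (MvPolynomial (Fin 2) k)[X] ⧸
        Ideal.map (C : MvPolynomial (Fin 2) k →+* _) (colonY 𝔞 (MvPolynomial.X j)))
      (S₂ := AdjoinRoot fb) _ (Ideal.Quotient.factor hle₁) (Ideal.Quotient.lift 𝔞' ψ hle₂)
    · intro s h1 h2
      obtain ⟨g, rfl⟩ := Ideal.Quotient.mk_surjective s
      rw [Ideal.Quotient.factor_mk, Ideal.Quotient.eq_zero_iff_mem] at h1
      rw [Ideal.Quotient.lift_mk, hψ, RingHom.comp_apply] at h2
      rw [Ideal.Quotient.eq_zero_iff_mem, h𝔞']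
      exact mem_aprime_of hij fb _ hf₁ g h1 h2
    · have : (Ideal.Quotient.factor hle₁).comp ((Ideal.Quotient.mk 𝔞').comp
          (Polynomial.mapRingHom (MvPolynomial.C : k →+* MvPolynomial (Fin 2) k))) =
          (Ideal.Quotient.mk _).comp
            (Polynomial.mapRingHom (MvPolynomial.C : k →+* MvPolynomial (Fin 2) k)) :=
        RingHom.ext fun p => rfl
      rw [this]
      apply finite_quot_of_nilpotent
      intro l
      obtain ⟨N, hN⟩ := hXrad l
      exact ⟨N, h𝔞𝔞₁ hN⟩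
    · have : (Ideal.Quotient.lift 𝔞' ψ hle₂).comp ((Ideal.Quotient.mk 𝔞').comp
          (Polynomial.mapRingHom (MvPolynomial.C : k →+* MvPolynomial (Fin 2) k))) =
          algebraMap k[X] (AdjoinRoot fb) := by
        refine RingHom.ext fun p => ?_
        rw [AdjoinRoot.algebraMap_eq]
        simpa using hψmap p
      rw [this, RingHom.finite_algebraMap]
      exact (AdjoinRoot.powerBasis' hfbm).finite
    · intro r s hr h
      obtain ⟨g, rfl⟩ := Ideal.Quotient.mk_surjective s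
      have h' : Ideal.Quotient.mk
          (Ideal.map (C : MvPolynomial (Fin 2) k →+* _) (colonY 𝔞 (MvPolynomial.X j)))
            (r.map MvPolynomial.C * g) = 0 := by
        rw [map_mul]; exact h
      rw [Ideal.Quotient.eq_zero_iff_mem] at h' ⊢
      exact mem_of_map_mul_mem _ MvPolynomial.C r hr g h'
    · intro r s hr h
      have e : (Ideal.Quotient.lift 𝔞' ψ hle₂) (((Ideal.Quotient.mk 𝔞').comp
          (Polynomial.mapRingHom (MvPolynomial.C : k →+* MvPolynomial (Fin 2) k))) r) =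
          algebraMap k[X] (AdjoinRoot fb) r := by
        rw [AdjoinRoot.algebraMap_eq]
        simpa using hψmap r
      rw [e, ← Algebra.smul_def] at h
      haveI : Module.Free k[X] (AdjoinRoot fb) :=
        Module.Free.of_basis (AdjoinRoot.powerBasis' hfbm).basis
      exact (smul_eq_zero.mp h).resolve_left hr
  refine ⟨𝔞', hFF.1, hFF.2, ?_, ?_⟩
  · rw [h𝔞', map_eval_aprime, sub_zero]
    apply le_antisymm
    · refine sup_le (Ideal.mul_le.mpr ?_) ((Ideal.span_singleton_le_iff_mem _).mpr hf𝔞)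
      intro r hr s hs
      obtain ⟨c, rfl⟩ := Ideal.mem_span_singleton'.mp hr
      rw [mul_assoc]; exact 𝔞.mul_mem_left _ hs
    · intro g hg
      obtain ⟨a, ha, b, hb, rfl⟩ := Submodule.mem_sup.mp (hα hg)
      obtain ⟨u, rfl⟩ := Ideal.mem_span_singleton'.mp ha
      obtain ⟨h, rfl⟩ := Ideal.mem_span_singleton'.mp hb
      have hh : h ∈ colonY 𝔞 (MvPolynomial.X j) := by
        show MvPolynomial.X j * h ∈ 𝔞
        have : MvPolynomial.X j * h =
            (u * iota0 i j fb + h * MvPolynomial.X j) - u * iota0 i j fb := by ring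
        rw [this]; exact 𝔞.sub_mem hg (𝔞.mul_mem_left _ hf𝔞)
      rw [add_comm]
      refine Submodule.add_mem_sup ?_ (Ideal.mem_span_singleton'.mpr ⟨u, rfl⟩)
      rw [mul_comm h (MvPolynomial.X j)]; exact Ideal.mul_mem_mul (Ideal.mem_span_singleton_self _) hh
  · intro c hc
    rw [h𝔞', map_eval_aprime]
    refine ⟨sup_le (Ideal.mul_le_right.trans h𝔞₁M)
      ((Ideal.span_singleton_le_iff_mem _).mpr (h𝔞M hf𝔞)), ?_⟩
    have hdeg : (fb.map (Polynomial.evalRingHom c)).degree ≠ 0 := by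
      rw [Polynomial.degree_eq_natDegree (hfbm.map _).ne_zero, hfbm.natDegree_map]
      exact_mod_cast hfbdeg
    obtain ⟨x₀, hx₀⟩ := IsAlgClosed.exists_root _ hdeg
    refine ⟨fun l => if l = i then x₀ else c, ?_, ?_⟩
    · intro h
      have := congrFun h j
      simp only [if_neg hij.symm, Pi.zero_apply] at this
      exact hc this
    · refine sup_le (Ideal.mul_le_left.trans ?_) ?_
      · rw [Ideal.span_singleton_le_iff_mem]
        refine Ideal.subset_span ⟨j, ?_⟩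
        simp [hij.symm]
      · rw [Ideal.span_singleton_le_iff_mem]
        apply mem_span_of_eval_eq_zero
        rw [eval_iota0]
        simpa [hij.symm] using hx₀

/-- **S11453**. -/
theorem main (k : Type*) [Field k] [IsAlgClosed k]
    (𝔞 : Ideal (MvPolynomial (Fin 2) k)) [Module.Finite k (MvPolynomial (Fin 2) k ⧸ 𝔞)]
    (hn : 2 ≤ Module.finrank k (MvPolynomial (Fin 2) k ⧸ 𝔞))
    (hsupp : 𝔞.radical = Ideal.span {MvPolynomial.X 0, MvPolynomial.X 1}) :
    ∃ 𝔞' : Ideal (MvPolynomial (Fin 2) k)[X],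
      RingHom.Flat (R := k[X]) (S := (MvPolynomial (Fin 2) k)[X] ⧸ 𝔞')
        ((Ideal.Quotient.mk 𝔞').comp (Polynomial.mapRingHom (algebraMap k (MvPolynomial (Fin 2) k)))) ∧
      RingHom.Finite (A := k[X]) (B := (MvPolynomial (Fin 2) k)[X] ⧸ 𝔞')
        ((Ideal.Quotient.mk 𝔞').comp (Polynomial.mapRingHom (algebraMap k (MvPolynomial (Fin 2) k)))) ∧
      Ideal.map (Polynomial.evalRingHom (0 : MvPolynomial (Fin 2) k)) 𝔞' = 𝔞 ∧
      ∀ c : k, c ≠ 0 →
        Ideal.map (Polynomial.evalRingHom (MvPolynomial.C c)) 𝔞' ≤ Ideal.span {MvPolynomial.X 0, MvPolynomial.X 1} ∧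
        ∃ p : Fin 2 → k, p ≠ 0 ∧
          Ideal.map (Polynomial.evalRingHom (MvPolynomial.C c)) 𝔞' ≤
            Ideal.span (Set.range (fun i : Fin 2 => MvPolynomial.X i - MvPolynomial.C (p i))) := by
  have key : ∃ j : Fin 2, (MvPolynomial.X j : MvPolynomial (Fin 2) k) ∉ 𝔞 := by
    by_contra hcon
    push Not at hcon
    have : Module.finrank k (MvPolynomial (Fin 2) k ⧸ 𝔞) ≤ 1 := by
      apply finrank_le_one (Ideal.Quotient.mk 𝔞 1)
      intro w
      obtain ⟨g, rfl⟩ := Ideal.Quotient.mk_surjective w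
      refine ⟨MvPolynomial.eval 0 g, ?_⟩
      have h1 : g - MvPolynomial.C (MvPolynomial.eval 0 g) ∈ 𝔞 := by
        refine (Ideal.span_le.mpr ?_) (sub_C_eval_mem (0 : Fin 2 → k) g)
        rintro _ ⟨l, rfl⟩
        simpa using hcon l
      rw [← Ideal.Quotient.eq] at h1
      rw [h1, ← Ideal.Quotient.mkₐ_eq_mk k, ← map_smul, MvPolynomial.smul_eq_C_mul, mul_one]
    omega
  obtain ⟨j, hj⟩ := key
  obtain ⟨i, hij⟩ : ∃ i : Fin 2, i ≠ j := by
    fin_cases j
    · exact ⟨1, by decide⟩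
    · exact ⟨0, by decide⟩
  simpa only [MvPolynomial.algebraMap_eq] using main_ij hij 𝔞 hsupp hj

end Groth.Agent.Lib.Helper3.HilbDef
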