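import Mathlib
import Groth.Agent.Lib.Lead.VBL9
import Groth.Agent.Lib.Helper7.ConsMod.Basic
import Groth.Agent.Lib.Helper1.HProj2
import Groth.Agent.Lib.Helper1.CurveDual2
import Groth.Agent.Lib.Helper1.Dv21
import Groth.Agent.Lib.Helper9.TanStr
import Groth.Agent.Lib.Helper3.SchlF
import Groth.Agent.Lib.Helper3.HilbLinC

/-! The local Hilbert functor of a projective closed subscheme `X ⊆ Y` of a scheme locally of
finite type over a field is prorepresentable (helper3): Schlessinger's criterion, with the
finiteness of the tangent space `Hom(I/I², O_X)` from the finiteness of `Hom` between coherent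
modules on a proper scheme. -/

set_option autoImplicit false
set_option linter.style.haveILetI false
universe u
open CategoryTheory CategoryTheory.Limits AlgebraicGeometry TopologicalSpace Opposite

set_option backward.isDefEq.respectTransparency.types false
set_option synthInstance.maxHeartbeats 400000
set_option maxHeartbeats 4000000

attribute [local instance] HasDerivedCategory.standard

namespace Groth.Agent.Helper3.HilbRep

open ArtFun ArtFun.Art Groth.Agent.Helper3.HilbTan Groth.Agent.Helper3.HilbExt
  Groth.Agent.Helper3.HilbLin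

section Fin

variable {k : Type u} [Field k] (Y : Scheme.{u}) [Y.Over (Spec (CommRingCat.of k))]
  (I₀ : Y.IdealSheafData) [I₀.subscheme.Over (Spec (CommRingCat.of k))]
  [I₀.subschemeι.IsOver (Spec (CommRingCat.of k))]

/-- the tangent space of the local Hilbert functor of a proper closed subscheme is
finite-dimensional. -/
theorem finite_tangent [IsProper (I₀.subscheme ↘ Spec (CommRingCat.of k))] [IsLocallyNoetherian Y]
    [T : TangentStr (localHilb Y (Y ↘ Spec (CommRingCat.of k)) I₀)] :
    Module.Finite k (TangentSpace (localHilb Y (Y ↘ Spec (CommRingCat.of k)) I₀)) := by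
  haveI : Module.Finite k ((Scheme.Modules.pullback I₀.subschemeι).obj
      (ClSub.idealMod I₀.subschemeι.ker) ⟶ Coh.structureModule I₀.subscheme) :=
    Groth.Agent.Lead.VBL.finite_hom k I₀.subscheme _ _
      (Groth.Agent.Helper7.ConsMod.isCoh_pullback I₀.subschemeι _
        (Groth.Agent.Helper1.CurveDual.isCoh_idealMod I₀.subschemeι.ker))
      (Groth.Agent.Helper1.Dv.isCoh_structureModule _)
  let L : ((Scheme.Modules.pullback I₀.subschemeι).obj (ClSub.idealMod I₀.subschemeι.ker) ⟶
      Coh.structureModule I₀.subscheme) →ₗ[k]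
      TangentSpace (localHilb Y (Y ↘ Spec (CommRingCat.of k)) I₀) :=
    { toFun := fun g => tanT k Y I₀ (homCongr I₀.ker_subschemeι
        (((Scheme.Modules.pullbackPushforwardAdjunction I₀.subschemeι).homEquiv
          (ClSub.idealMod I₀.subschemeι.ker) (Coh.structureModule I₀.subscheme)) g ≫
          (quotModIso I₀.subschemeι).symm.hom))
      map_add' := fun g g' => by
        show tanT k Y I₀ (homCongr I₀.ker_subschemeι
          (((Scheme.Modules.pullbackPushforwardAdjunction I₀.subschemeι).homEquiv
            (ClSub.idealMod I₀.subschemeι.ker) (Coh.structureModule I₀.subscheme)) (g + g') ≫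
            (quotModIso I₀.subschemeι).symm.hom)) =
          tanT k Y I₀ (homCongr I₀.ker_subschemeι
            (((Scheme.Modules.pullbackPushforwardAdjunction I₀.subschemeι).homEquiv
              (ClSub.idealMod I₀.subschemeι.ker) (Coh.structureModule I₀.subscheme)) g ≫
              (quotModIso I₀.subschemeι).symm.hom)) +
          tanT k Y I₀ (homCongr I₀.ker_subschemeι
            (((Scheme.Modules.pullbackPushforwardAdjunction I₀.subschemeι).homEquiv
              (ClSub.idealMod I₀.subschemeι.ker) (Coh.structureModule I₀.subscheme)) g' ≫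
              (quotModIso I₀.subschemeι).symm.hom))
        rw [pp_add, Preadditive.add_comp, homCongr_add, tanT_add]
      map_smul' := fun a g => by
        show tanT k Y I₀ (homCongr I₀.ker_subschemeι
          (((Scheme.Modules.pullbackPushforwardAdjunction I₀.subschemeι).homEquiv
            (ClSub.idealMod I₀.subschemeι.ker) (Coh.structureModule I₀.subscheme)) (a • g) ≫
            (quotModIso I₀.subschemeι).symm.hom)) =
          a • tanT k Y I₀ (homCongr I₀.ker_subschemeι
            (((Scheme.Modules.pullbackPushforwardAdjunction I₀.subschemeι).homEquiv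
              (ClSub.idealMod I₀.subschemeι.ker) (Coh.structureModule I₀.subscheme)) g ≫
              (quotModIso I₀.subschemeι).symm.hom))
        rw [pp_smul, smul_comp', homCongr_smul, tanT_smul] }
  refine Module.Finite.of_surjective L ?_
  intro t
  obtain ⟨φ, rfl⟩ := (tanT_bijective k Y I₀).2 t
  obtain ⟨φ', rfl⟩ := (homCongr I₀.ker_subschemeι).surjective φ
  obtain ⟨g5, rfl⟩ := ((quotModIso I₀.subschemeι).symm.homToEquiv).surjective φ'
  obtain ⟨g, rfl⟩ := ((Scheme.Modules.pullbackPushforwardAdjunction I₀.subschemeι).homEquiv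
    (ClSub.idealMod I₀.subschemeι.ker) (Coh.structureModule I₀.subscheme)).surjective g5
  exact ⟨g, rfl⟩

end Fin

/-- **prorepresentability of the local Hilbert functor of a projective subscheme**. -/
theorem isProrepresentable_of_projective {k : Type u} [Field k] (Y : Scheme.{u})
    (y : Y ⟶ Spec (CommRingCat.of k)) [LocallyOfFiniteType y] (I₀ : Y.IdealSheafData)
    (hproj : ∃ (n : ℕ) (c : I₀.subscheme ⟶ CohB1.ProjSpaceOver n (Spec (CommRingCat.of k))),
      IsClosedImmersion c ∧
        c ≫ CohB1.ProjSpaceOver.toBase n (Spec (CommRingCat.of k)) = I₀.subschemeι ≫ y) :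
    IsProrepresentable (localHilb Y y I₀) := by
  obtain ⟨n, c, hc, hcy⟩ := hproj
  letI : Y.Over (Spec (CommRingCat.of k)) := ⟨y⟩
  letI : I₀.subscheme.Over (Spec (CommRingCat.of k)) := ⟨I₀.subschemeι ≫ y⟩
  haveI : I₀.subschemeι.IsOver (Spec (CommRingCat.of k)) := ⟨rfl⟩
  haveI : IsProper (I₀.subscheme ↘ Spec (CommRingCat.of k)) := by
    show IsProper (I₀.subschemeι ≫ y)
    rw [← hcy]
    haveI := hc
    haveI := Groth.Agent.Helper1.HProj.isProper_toBase n (Spec (CommRingCat.of k))
    infer_instance
  haveI : IsLocallyNoetherian Y := LocallyOfFiniteType.isLocallyNoetherian y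
  have h0 := Groth.Agent.Helper3.LH.h0 y I₀
  have h2 : Heps (localHilb Y y I₀) := fun B A' p' p'' h =>
    Groth.Agent.Helper3.LH.bijective_cmp y p' p'' _ _ I₀ h (Art.dual k k).res_surjective
  letI T : TangentStr (localHilb Y y I₀) := Groth.Agent.Lib.Helper9.TanStr.tangentStr h0 h2
  have h3 : Hfin (localHilb Y y I₀) := finite_tangent Y I₀ (T := T)
  exact Groth.Agent.Helper3.ArtFunLib.isProrepresentable_of_conditions
    (fun a => ⟨a, rfl⟩) h0
    (fun B A A' A'' p' p'' f' f'' h hsm =>
      (Groth.Agent.Helper3.LH.bijective_cmp y p' p'' f' f'' I₀ h hsm.1).2)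
    h2 h3
    (fun B A A' p₁ p₂ f h hsm =>
      (Groth.Agent.Helper3.LH.bijective_cmp y p₁ p₂ f f I₀ h hsm.1).1)

end Groth.Agent.Helper3.HilbRep
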