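import Mathlib
import Groth.Prelude.Def_DerLim

set_option autoImplicit false
set_option linter.unusedSectionVars false
universe v u

open CategoryTheory CategoryTheory.Limits CategoryTheory.Pretriangulated

namespace Groth.Agent.Helper3.HocolimSub

section Abstract

variable {D : Type u} [Category.{v} D] [Preadditive D] [HasZeroObject D] [HasShift D ℤ]
  [∀ n : ℤ, (shiftFunctor D n).Additive] [Pretriangulated D]

/-- an endomorphism of the cone fixing both structure maps is an isomorphism -/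
lemma isIso_of_fix (T : Triangle D) (hT : T ∈ distTriang D) (f : T.obj₃ ⟶ T.obj₃)
    (h₁ : T.mor₂ ≫ f = T.mor₂) (h₂ : f ≫ T.mor₃ = T.mor₃) : IsIso f := by
  obtain ⟨x, hxf⟩ : ∃ x : T.obj₃ ⟶ T.obj₃, f = 𝟙 _ + x := ⟨f - 𝟙 _, by abel⟩
  subst hxf
  have hx : T.mor₂ ≫ x = 0 := by
    rw [Preadditive.comp_add, Category.comp_id] at h₁
    exact left_eq_add.1 h₁.symm
  have hx' : x ≫ T.mor₃ = 0 := by
    rw [Preadditive.add_comp, Category.id_comp] at h₂
    exact left_eq_add.1 h₂.symm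
  obtain ⟨y, hy⟩ := Triangle.yoneda_exact₃ T hT x hx
  have hxx : x ≫ x = 0 := by
    have : x ≫ x = x ≫ (T.mor₃ ≫ y) := by rw [← hy]
    rw [this, ← Category.assoc, hx', zero_comp]
  refine ⟨⟨𝟙 _ - x, ?_, ?_⟩⟩
  · rw [Preadditive.add_comp, Preadditive.comp_sub, Preadditive.comp_sub, hxx]
    simp
  · rw [Preadditive.comp_add, Preadditive.sub_comp, Preadditive.sub_comp, hxx]
    simp

end Abstract

section Nxt

variable {n : ℕ → ℕ} (hn : StrictMono n)

include hn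

lemma ex_nxt (m : ℕ) : ∃ i, m ≤ n i := ⟨m, hn.le_apply⟩

/-- the least index `i` with `m ≤ n i` -/
noncomputable def nxt (m : ℕ) : ℕ := by
  classical
  exact Nat.find (ex_nxt hn m)

lemma le_nxt (m : ℕ) : m ≤ n (nxt hn m) := by
  classical
  exact Nat.find_spec (ex_nxt hn m)

lemma nxt_min {m i : ℕ} (h : i < nxt hn m) : n i < m := by
  classical
  exact not_le.1 (Nat.find_min (ex_nxt hn m) h)

lemma nxt_eq {m i : ℕ} (h : m ≤ n i) (hmin : ∀ i', i' < i → n i' < m) : nxt hn m = i := by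
  classical
  exact (Nat.find_eq_iff (ex_nxt hn m)).2 ⟨h, fun i' hi' => not_le.2 (hmin i' hi')⟩

lemma nxt_apply (i : ℕ) : nxt hn (n i) = i :=
  nxt_eq hn le_rfl (fun _ hi' => hn hi')

lemma nxt_succ_of_lt {m : ℕ} (h : m < n (nxt hn m)) : nxt hn (m + 1) = nxt hn m :=
  nxt_eq hn h (fun _ hi' => (nxt_min hn hi').trans (Nat.lt_succ_self m))

lemma nxt_succ_apply (i : ℕ) : nxt hn (n i + 1) = i + 1 :=
  nxt_eq hn (hn (Nat.lt_succ_self i)) (fun _ hi' =>
    Nat.lt_succ_of_le (hn.monotone (Nat.lt_succ_iff.1 hi')))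

end Nxt

section Comb

variable {D : Type u} [Category.{v} D] [Preadditive D]
  (F : ℕ ⥤ D) (n : ℕ → ℕ) (hn : StrictMono n)
  [HasCoproduct (fun m : ℕ => F.obj m)] [HasCoproduct (fun i : ℕ => F.obj (n i))]

/-- transition maps -/
def φ {m l : ℕ} (h : m ≤ l) : F.obj m ⟶ F.obj l := F.map (homOfLE h)

lemma φ_self (m : ℕ) : φ F (le_refl m) = 𝟙 _ := by
  unfold φ
  have : homOfLE (le_refl m) = 𝟙 m := Subsingleton.elim _ _
  rw [this, F.map_id]

lemma φ_comp {m l k : ℕ} (h : m ≤ l) (h' : l ≤ k) : φ F h ≫ φ F h' = φ F (h.trans h') := by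
  unfold φ
  rw [← F.map_comp]
  congr 1

/-- the big coproduct -/
noncomputable abbrev A : D := ∐ (fun m : ℕ => F.obj m)

/-- the coproduct of the subsequence -/
noncomputable abbrev A' : D := ∐ (fun i : ℕ => F.obj (n i))

noncomputable abbrev ιA (m : ℕ) : F.obj m ⟶ A F := Sigma.ι (fun m : ℕ => F.obj m) m

noncomputable abbrev ιA' (i : ℕ) : F.obj (n i) ⟶ A' F n := Sigma.ι (fun i : ℕ => F.obj (n i)) i

/-- the shift on the big coproduct -/
noncomputable abbrev sh : A F ⟶ A F :=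
  DerLim.shiftMap (fun m : ℕ => F.obj m) (fun m : ℕ => F.map (homOfLE (Nat.le_succ m)))

/-- the shift on the small coproduct -/
noncomputable abbrev sh' : A' F n ⟶ A' F n :=
  DerLim.shiftMap (fun i : ℕ => F.obj (n i))
    (fun i : ℕ => F.map (homOfLE (hn.monotone (Nat.le_succ i))))

lemma ι_sh (m : ℕ) : ιA F m ≫ sh F = φ F (Nat.le_succ m) ≫ ιA F (m + 1) := by
  unfold sh DerLim.shiftMap
  rw [Sigma.ι_desc]
  rfl

lemma ι_sh' (i : ℕ) : ιA' F n i ≫ sh' F n hn = φ F (hn.monotone (Nat.le_succ i)) ≫ ιA' F n (i + 1) := by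
  unfold sh' DerLim.shiftMap
  rw [Sigma.ι_desc]
  rfl

/-- the map `K m ⟶ K l ⟶ A` (zero if `l < m`) -/
noncomputable def G (m l : ℕ) : F.obj m ⟶ A F := if h : m ≤ l then φ F h ≫ ιA F l else 0

lemma G_of_le {m l : ℕ} (h : m ≤ l) : G F m l = φ F h ≫ ιA F l := dif_pos h

lemma G_self (m : ℕ) : G F m m = ιA F m := by
  rw [G_of_le F (le_refl m), φ_self, Category.id_comp]

lemma G_sh {m l : ℕ} (h : m ≤ l) : G F m l ≫ sh F = G F m (l + 1) := by
  rw [G_of_le F h, G_of_le F (h.trans (Nat.le_succ l)), Category.assoc, ι_sh, ← Category.assoc,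
    φ_comp]

lemma φ_G {m m' l : ℕ} (h : m ≤ m') (h' : m' ≤ l) : φ F h ≫ G F m' l = G F m l := by
  rw [G_of_le F h', G_of_le F (h.trans h'), ← Category.assoc, φ_comp]

lemma sum_G_tel (m a b : ℕ) (hma : m ≤ a) (hab : a ≤ b) :
    (∑ l ∈ Finset.Ico a b, G F m l) ≫ (𝟙 _ - sh F) = G F m a - G F m b := by
  induction b, hab using Nat.le_induction with
  | base => simp
  | succ b hab ih =>
    rw [Finset.sum_Ico_succ_top hab, Preadditive.add_comp, ih, Preadditive.comp_sub,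
      Category.comp_id, G_sh F (hma.trans hab)]
    abel


/-- the map `K m ⟶ K (n (nxt m)) ⟶ A'` -/
noncomputable def T (m : ℕ) : F.obj m ⟶ A' F n := φ F (le_nxt hn m) ≫ ιA' F n (nxt hn m)

lemma T_eq {m i : ℕ} (h : m ≤ n i) (hmin : ∀ i', i' < i → n i' < m) :
    T F n hn m = φ F h ≫ ιA' F n i := by
  obtain rfl := nxt_eq hn h hmin
  rfl

lemma T_apply (i : ℕ) : T F n hn (n i) = ιA' F n i := by
  rw [T_eq F n hn le_rfl (fun _ hi' => hn hi'), φ_self, Category.id_comp]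

lemma T_succ_of_lt {m : ℕ} (h : m < n (nxt hn m)) :
    φ F (Nat.le_succ m) ≫ T F n hn (m + 1) = T F n hn m := by
  rw [T_eq F n hn (m := m + 1) (i := nxt hn m) h
    (fun _ hi' => (nxt_min hn hi').trans (Nat.lt_succ_self m)), ← Category.assoc, φ_comp]
  rfl

lemma T_succ_apply (i : ℕ) :
    φ F (Nat.le_succ (n i)) ≫ T F n hn (n i + 1) =
      φ F (hn.monotone (Nat.le_succ i)) ≫ ιA' F n (i + 1) := by
  rw [T_eq F n hn (m := n i + 1) (i := i + 1) (hn (Nat.lt_succ_self i))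
    (fun _ hi' => Nat.lt_succ_of_le (hn.monotone (Nat.lt_succ_iff.1 hi'))),
    ← Category.assoc, φ_comp]

noncomputable def τ : A F ⟶ A' F n := Sigma.desc (T F n hn)

open Classical in
noncomputable def r : A F ⟶ A' F n :=
  Sigma.desc (fun m => if n (nxt hn m) = m then T F n hn m else 0)

noncomputable def j : A' F n ⟶ A F := Sigma.desc (fun i => ιA F (n i))

noncomputable def b : A' F n ⟶ A F :=
  Sigma.desc (fun i => ∑ l ∈ Finset.Ico (n i) (n (i + 1)), G F (n i) l)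

noncomputable def Θ : A F ⟶ A F :=
  Sigma.desc (fun m => ∑ l ∈ Finset.Ico m (n (nxt hn m)), G F m l)

lemma ι_τ (m : ℕ) : ιA F m ≫ τ F n hn = T F n hn m := by
  unfold τ
  rw [Sigma.ι_desc]

lemma ι_r_of_eq {m : ℕ} (h : n (nxt hn m) = m) : ιA F m ≫ r F n hn = T F n hn m := by
  unfold r
  rw [Sigma.ι_desc, if_pos h]

lemma ι_r_of_ne {m : ℕ} (h : n (nxt hn m) ≠ m) : ιA F m ≫ r F n hn = 0 := by
  unfold r
  rw [Sigma.ι_desc, if_neg h]

lemma ι_r_apply (i : ℕ) : ιA F (n i) ≫ r F n hn = ιA' F n i := by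
  rw [ι_r_of_eq F n hn (by rw [nxt_apply hn i]), T_apply]

lemma ι_j (i : ℕ) : ιA' F n i ≫ j F n = ιA F (n i) := by
  unfold j
  rw [Sigma.ι_desc]

lemma ι_b (i : ℕ) : ιA' F n i ≫ b F n = ∑ l ∈ Finset.Ico (n i) (n (i + 1)), G F (n i) l := by
  unfold b
  rw [Sigma.ι_desc]

lemma ι_Θ (m : ℕ) : ιA F m ≫ Θ F n hn = ∑ l ∈ Finset.Ico m (n (nxt hn m)), G F m l := by
  unfold Θ
  rw [Sigma.ι_desc]

lemma I1 : (𝟙 _ - sh' F n hn) ≫ j F n = b F n ≫ (𝟙 _ - sh F) := by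
  apply Sigma.hom_ext
  intro i
  change ιA' F n i ≫ _ = ιA' F n i ≫ _
  rw [← Category.assoc, Preadditive.comp_sub, Category.comp_id, ι_sh', Preadditive.sub_comp,
    Category.assoc, ι_j, ι_j, ← Category.assoc (ιA' F n i), ι_b,
    sum_G_tel F (n i) (n i) (n (i + 1)) le_rfl (hn.monotone (Nat.le_succ i)), G_self,
    G_of_le F (hn.monotone (Nat.le_succ i))]

lemma I2 : (𝟙 _ - sh F) ≫ τ F n hn = r F n hn ≫ (𝟙 _ - sh' F n hn) := by
  apply Sigma.hom_ext
  intro m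
  change ιA F m ≫ _ = ιA F m ≫ _
  rw [← Category.assoc, Preadditive.comp_sub, Category.comp_id, ι_sh, Preadditive.sub_comp,
    Category.assoc, ι_τ, ι_τ, ← Category.assoc (ιA F m)]
  by_cases h : n (nxt hn m) = m
  · obtain ⟨i, rfl⟩ : ∃ i, m = n i := ⟨nxt hn m, h.symm⟩
    rw [ι_r_apply, T_apply, T_succ_apply, Preadditive.comp_sub, Category.comp_id, ι_sh']
  · have hlt : m < n (nxt hn m) := lt_of_le_of_ne (le_nxt hn m) (Ne.symm h)
    rw [ι_r_of_ne F n hn h, T_succ_of_lt F n hn hlt, sub_self, zero_comp]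

lemma I3 : b F n ≫ r F n hn = 𝟙 _ := by
  apply Sigma.hom_ext
  intro i
  change ιA' F n i ≫ _ = ιA' F n i ≫ _
  rw [← Category.assoc, ι_b, Preadditive.sum_comp, Category.comp_id,
    Finset.sum_eq_single (n i)]
  · rw [G_self, ι_r_apply]
  · intro l hl hne
    rw [Finset.mem_Ico] at hl
    rw [G_of_le F hl.1, Category.assoc, ι_r_of_ne, comp_zero]
    intro heq
    have h1 : n i < n (nxt hn l) := by
      rw [heq]
      exact lt_of_le_of_ne hl.1 (Ne.symm hne)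
    have h2 : n (nxt hn l) < n (i + 1) := by
      rw [heq]
      exact hl.2
    have h3 := hn.lt_iff_lt.1 h1
    have h4 := hn.lt_iff_lt.1 h2
    lia
  · intro hni
    exact absurd (Finset.mem_Ico.2 ⟨le_rfl, hn (Nat.lt_succ_self i)⟩) hni

lemma I4 : j F n ≫ τ F n hn = 𝟙 _ := by
  apply Sigma.hom_ext
  intro i
  change ιA' F n i ≫ _ = ιA' F n i ≫ _
  rw [← Category.assoc, ι_j, ι_τ, T_apply, Category.comp_id]

lemma I5 : τ F n hn ≫ j F n = 𝟙 _ - Θ F n hn ≫ (𝟙 _ - sh F) := by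
  apply Sigma.hom_ext
  intro m
  change ιA F m ≫ _ = ιA F m ≫ _
  rw [← Category.assoc, ι_τ, Preadditive.comp_sub, Category.comp_id, ← Category.assoc, ι_Θ,
    sum_G_tel F m m (n (nxt hn m)) le_rfl (le_nxt hn m), G_self, sub_sub_cancel,
    G_of_le F (le_nxt hn m)]
  unfold T
  rw [Category.assoc, ι_j]

lemma I6 : r F n hn ≫ b F n = 𝟙 _ - (𝟙 _ - sh F) ≫ Θ F n hn := by
  apply Sigma.hom_ext
  intro m
  change ιA F m ≫ _ = ιA F m ≫ _
  have hR : ιA F m ≫ (𝟙 _ - (𝟙 _ - sh F) ≫ Θ F n hn) =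
      ιA F m - (∑ l ∈ Finset.Ico m (n (nxt hn m)), G F m l -
        φ F (Nat.le_succ m) ≫ ∑ l ∈ Finset.Ico (m + 1) (n (nxt hn (m + 1))), G F (m + 1) l) := by
    rw [Preadditive.comp_sub, Category.comp_id, ← Category.assoc, Preadditive.comp_sub,
      Category.comp_id, ι_sh, Preadditive.sub_comp, Category.assoc, ι_Θ, ι_Θ]
  rw [hR, ← Category.assoc, Preadditive.comp_sum]
  by_cases h : n (nxt hn m) = m
  · obtain ⟨i, rfl⟩ : ∃ i, m = n i := ⟨nxt hn m, h.symm⟩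
    rw [ι_r_apply, ι_b, nxt_apply, nxt_succ_apply, Finset.Ico_self, Finset.sum_empty, zero_sub,
      sub_neg_eq_add, Finset.sum_eq_sum_Ico_succ_bot (hn (Nat.lt_succ_self i)), G_self]
    congr 1
    apply Finset.sum_congr rfl
    intro l hl
    rw [Finset.mem_Ico] at hl
    rw [φ_G F _ hl.1]
  · have hlt : m < n (nxt hn m) := lt_of_le_of_ne (le_nxt hn m) (Ne.symm h)
    rw [ι_r_of_ne F n hn h, zero_comp, nxt_succ_of_lt hn hlt,
      Finset.sum_eq_sum_Ico_succ_bot hlt, G_self]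
    have : ∑ l ∈ Finset.Ico (m + 1) (n (nxt hn m)), φ F (Nat.le_succ m) ≫ G F (m + 1) l =
        ∑ l ∈ Finset.Ico (m + 1) (n (nxt hn m)), G F m l := by
      apply Finset.sum_congr rfl
      intro l hl
      rw [Finset.mem_Ico] at hl
      rw [φ_G F _ hl.1]
    rw [this]
    abel

end Comb

section Main

variable {D : Type u} [Category.{v} D] [Preadditive D] [HasZeroObject D] [HasShift D ℤ]
  [∀ n : ℤ, (shiftFunctor D n).Additive] [Pretriangulated D]
  (F : ℕ ⥤ D) (n : ℕ → ℕ) (hn : StrictMono n)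
  [HasCoproduct (fun m : ℕ => F.obj m)] [HasCoproduct (fun i : ℕ => F.obj (n i))]

theorem main (L : D) (ι : ∀ m : ℕ, F.obj m ⟶ L)
    (hL : DerLim.IsHocolim (fun m : ℕ => F.obj m)
      (fun m : ℕ => F.map (homOfLE (Nat.le_succ m))) L ι)
    (L' : D) (ι' : ∀ i : ℕ, F.obj (n i) ⟶ L')
    (hL' : DerLim.IsHocolim (fun i : ℕ => F.obj (n i))
      (fun i : ℕ => F.map (homOfLE (hn.monotone (Nat.le_succ i)))) L' ι') :
    ∃ e : L' ≅ L, ∀ i : ℕ, ι' i ≫ e.hom = ι (n i) := by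
  obtain ⟨c, hT⟩ := hL
  obtain ⟨c', hT'⟩ := hL'
  obtain ⟨e, he₁, he₂⟩ : ∃ e : L' ⟶ L, Sigma.desc ι' ≫ e = j F n ≫ Sigma.desc ι ∧
      c' ≫ (shiftFunctor D (1 : ℤ)).map (b F n) = e ≫ c :=
    complete_distinguished_triangle_morphism _ _ hT' hT (b F n) (j F n) (I1 F n hn)
  obtain ⟨e'', he₁'', he₂''⟩ : ∃ e'' : L ⟶ L', Sigma.desc ι ≫ e'' = τ F n hn ≫ Sigma.desc ι' ∧
      c ≫ (shiftFunctor D (1 : ℤ)).map (r F n hn) = e'' ≫ c' :=
    complete_distinguished_triangle_morphism _ _ hT hT' (r F n hn) (τ F n hn) (I2 F n hn)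
  have z₁ : (𝟙 _ - sh F) ≫ Sigma.desc ι = 0 := comp_distTriang_mor_zero₁₂ _ hT
  have z₃ : c ≫ (shiftFunctor D (1 : ℤ)).map (𝟙 _ - sh F) = 0 := comp_distTriang_mor_zero₃₁ _ hT
  have iso1 : IsIso (e'' ≫ e) := by
    refine isIso_of_fix _ hT (e'' ≫ e) ?_ ?_
    · change Sigma.desc ι ≫ e'' ≫ e = Sigma.desc ι
      rw [← Category.assoc, he₁'', Category.assoc, he₁, ← Category.assoc, I5, Preadditive.sub_comp,
        Category.id_comp, Category.assoc, z₁, comp_zero, sub_zero]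
    · change (e'' ≫ e) ≫ c = c
      rw [Category.assoc, ← he₂, ← Category.assoc, ← he₂'', Category.assoc, ← Functor.map_comp,
        I6, Functor.map_sub, Functor.map_comp, CategoryTheory.Functor.map_id,
        Preadditive.comp_sub, Category.comp_id, ← Category.assoc, z₃, zero_comp, sub_zero]
  have iso2 : IsIso (e ≫ e'') := by
    refine isIso_of_fix _ hT' (e ≫ e'') ?_ ?_
    · change Sigma.desc ι' ≫ e ≫ e'' = Sigma.desc ι'
      rw [← Category.assoc, he₁, Category.assoc, he₁'', ← Category.assoc, I4, Category.id_comp]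
    · change (e ≫ e'') ≫ c' = c'
      rw [Category.assoc, ← he₂'', ← Category.assoc, ← he₂, Category.assoc, ← Functor.map_comp,
        I3, CategoryTheory.Functor.map_id, Category.comp_id]
  have hr : e ≫ (e'' ≫ inv (e ≫ e'')) = 𝟙 _ := by
    rw [← Category.assoc, IsIso.hom_inv_id]
  have hl : (inv (e'' ≫ e) ≫ e'') ≫ e = 𝟙 _ := by
    rw [Category.assoc, IsIso.inv_hom_id]
  have hgl : inv (e'' ≫ e) ≫ e'' = e'' ≫ inv (e ≫ e'') := by
    calc inv (e'' ≫ e) ≫ e'' = (inv (e'' ≫ e) ≫ e'') ≫ (e ≫ (e'' ≫ inv (e ≫ e''))) := by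
          rw [hr, Category.comp_id]
      _ = ((inv (e'' ≫ e) ≫ e'') ≫ e) ≫ (e'' ≫ inv (e ≫ e'')) := by
          simp only [Category.assoc]
      _ = e'' ≫ inv (e ≫ e'') := by rw [hl, Category.id_comp]
  refine ⟨⟨e, e'' ≫ inv (e ≫ e''), hr, by rw [← hgl]; exact hl⟩, fun i => ?_⟩
  have h := congrArg (fun x => Sigma.ι (fun i : ℕ => F.obj (n i)) i ≫ x) he₁
  simp only [← Category.assoc] at h
  rw [Sigma.ι_desc] at h
  change ι' i ≫ e = (ιA' F n i ≫ j F n) ≫ Sigma.desc ι at h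
  rw [ι_j, Sigma.ι_desc] at h
  exact h

end Main

end Groth.Agent.Helper3.HocolimSub
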