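import Mathlib
import Groth.Prelude.Def_ArtFun6
import Groth.Prelude.Def_Omega4
import Groth.Agent.Lib.Lead.DerU1
import Groth.Agent.Lib.Helper3.HilbLinB
import Groth.Agent.Lib.Helper3.HomTanA

/-! Sectionwise derivations `O_Y → f_* O_X` over `k` and the morphisms
`X ×_k Spec A ⟶ Y`, `s ↦ f♯ s + a₁ δ₁ s + a₂ δ₂ s`, attached to them (helper3). -/

set_option autoImplicit false
set_option linter.style.haveILetI false
universe u
open CategoryTheory CategoryTheory.Limits AlgebraicGeometry TopologicalSpace Opposite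

set_option backward.isDefEq.respectTransparency.types false
set_option synthInstance.maxHeartbeats 400000
set_option maxHeartbeats 4000000

namespace Groth.Agent.Helper3.HomTan

open ArtFun ArtFun.Art OmegaSh Groth.Agent.Helper3.DerAut Groth.Agent.Helper3.HilbRig
  Groth.Agent.Helper3.HilbTan Groth.Agent.Helper3.HilbLin Groth.Agent.Lead.DerU

section SD

variable {k : Type u} [Field k] {X Y : Scheme.{u}} (f : X ⟶ Y) (yY : Y ⟶ specPt k)

/-- derivations of `O_Y` into `f_* O_X` over `k`, on sections. -/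
structure SDer where
  d : ∀ U : Y.Opens, Γ(Y, U) →+ Γ(X, f ⁻¹ᵁ U)
  d_mul : ∀ (U : Y.Opens) (a b : Γ(Y, U)),
    d U (a * b) = (f.app U).hom a * d U b + (f.app U).hom b * d U a
  d_map : ∀ (U V : Y.Opens) (h : V ≤ U) (s : Γ(Y, U)),
    d V ((Y.presheaf.map (homOfLE h).op).hom s) =
      (X.presheaf.map (homOfLE (f.preimage_mono h)).op).hom (d U s)
  d_app : ∀ (V : (specPt k).Opens) (c : Γ(specPt k, V)),
    d (yY ⁻¹ᵁ V) ((yY.app V).hom c) = 0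

variable {f yY}

theorem SDer.ext' {δ δ' : SDer f yY} (h : ∀ (U : Y.Opens) (s : Γ(Y, U)), δ.d U s = δ'.d U s) :
    δ = δ' := by
  cases δ with
  | mk d _ _ _ =>
    cases δ' with
    | mk d' _ _ _ =>
      have hd : d = d' := funext fun U => AddMonoidHom.ext (h U)
      subst hd
      rfl

variable (f)

/-- sections of a pushforward are sections over the preimage. -/
def pushSect (M : X.Modules) (U : Y.Opens) :
    Γ((Scheme.Modules.pushforward f).obj M, U) →+ Γ(M, f ⁻¹ᵁ U) where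
  toFun m := m
  map_zero' := rfl
  map_add' _ _ := rfl

/-- sections over the preimage are sections of a pushforward. -/
def pushSect' (M : X.Modules) (U : Y.Opens) :
    Γ(M, f ⁻¹ᵁ U) →+ Γ((Scheme.Modules.pushforward f).obj M, U) where
  toFun m := m
  map_zero' := rfl
  map_add' _ _ := rfl

variable {f}

/-- the value of the derivation into the pushforward. -/
noncomputable def sVal (δ : SDer f yY) (U : Y.Opens) (s : Γ(Y, U)) :
    Γ((Scheme.Modules.pushforward f).obj (Coh.structureModule X), U) :=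
  pushSect' f _ U (strSect X (f ⁻¹ᵁ U) (δ.d U s))

theorem sVal_add (δ : SDer f yY) (U : Y.Opens) (s t : Γ(Y, U)) :
    sVal δ U (s + t) = sVal δ U s + sVal δ U t := by
  simp only [sVal, map_add]

theorem sVal_mul (δ : SDer f yY) (U : Y.Opens) (s t : Γ(Y, U)) :
    sVal δ U (s * t) = s • sVal δ U t + t • sVal δ U s := by
  have h := δ.d_mul U s t
  show pushSect' f _ U (strSect X _ (δ.d U (s * t))) = _
  rw [h]
  rfl

theorem sVal_map (δ : SDer f yY) {U V : Y.Opens} (e : V ≤ U) (s : Γ(Y, U)) :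
    sVal δ V (Y.presheaf.map (homOfLE e).op s) =
      ((Scheme.Modules.pushforward f).obj (Coh.structureModule X)).presheaf.map (homOfLE e).op
        (sVal δ U s) := by
  have h := δ.d_map U V e s
  show pushSect' f _ V (strSect X _ (δ.d V ((Y.presheaf.map (homOfLE e).op).hom s))) = _
  rw [h]
  rfl

theorem sVal_app (δ : SDer f yY) (V : (specPt k).Opens) (c : Γ(specPt k, V)) :
    sVal δ (yY ⁻¹ᵁ V) (yY.app V c) = 0 := by
  have h := δ.d_app V c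
  show pushSect' f _ _ (strSect X _ (δ.d (yY ⁻¹ᵁ V) ((yY.app V).hom c))) = 0
  rw [h, map_zero, map_zero]

/-- a sectionwise derivation as a derivation into the pushforward of the structure sheaf. -/
noncomputable def SDer.toDer (δ : SDer f yY) :
    Der yY ((Scheme.Modules.pushforward f).obj (Coh.structureModule X)) where
  d {U} := AddMonoidHom.mk' (fun s => sVal δ U.unop s) (sVal_add δ U.unop)
  d_mul {U} a c := sVal_mul δ U.unop a c
  d_map {_ _} i s := sVal_map δ i.unop.le s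
  d_app {V} c := sVal_app δ V.unop c

theorem SDer.toDer_app (δ : SDer f yY) (U : Y.Opens) (s : Γ(Y, U)) :
    δ.toDer.app U s = sVal δ U s := rfl

/-- a derivation into the pushforward of the structure sheaf, sectionwise. -/
noncomputable def SDer.ofDer
    (D : Der yY ((Scheme.Modules.pushforward f).obj (Coh.structureModule X))) : SDer f yY where
  d U := (fnSect X (f ⁻¹ᵁ U)).comp ((pushSect f _ U).comp (D.app U))
  d_mul U a b := by
    have h := der_mul D U a b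
    show fnSect X _ (pushSect f _ U (D.app U (a * b))) = _
    rw [h]
    rfl
  d_map U V h s := by
    have h1 := der_map D h s
    exact (congrArg (fun t => fnSect X _ (pushSect f _ V t)) h1).trans rfl
  d_app V c := by
    have h1 := der_app D V c
    exact (congrArg (fun t => fnSect X _ (pushSect f _ _ t)) h1).trans
      (by rw [map_zero, map_zero])

theorem SDer.ofDer_d (D : Der yY ((Scheme.Modules.pushforward f).obj (Coh.structureModule X)))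
    (U : Y.Opens) (s : Γ(Y, U)) :
    (SDer.ofDer D).d U s = fnSect X _ (pushSect f _ U (D.app U s)) := rfl

theorem SDer.ofDer_toDer (δ : SDer f yY) : SDer.ofDer δ.toDer = δ :=
  SDer.ext' fun _ _ => rfl

end SD

section PhiDef

variable {k : Type u} [Field k] {X Y : Scheme.{u}} (x : X ⟶ specPt k) (f : X ⟶ Y)
  (yY : Y ⟶ specPt k) (A : Art k k)

/-- `X ×_k Spec A ⟶ X ⟶ Y`. -/
noncomputable abbrev gA : XA x A ⟶ Y := pullback.fst x (specOver A) ≫ f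

/-- pullback of functions along the projection. -/
noncomputable def gfst (U : Y.Opens) : Γ(X, f ⁻¹ᵁ U) →+* Γ(XA x A, (gA x f A) ⁻¹ᵁ U) :=
  ((pullback.fst x (specOver A)).appLE (f ⁻¹ᵁ U) ((gA x f A) ⁻¹ᵁ U) le_rfl).hom

theorem rho_res {W W' : (XA x A).Opens} (h : W' ≤ W) (a : A) :
    ((XA x A).presheaf.map (homOfLE h).op).hom (rho (trivB x A) W a) = rho (trivB x A) W' a :=
  rho_map (trivB x A) h a

theorem gfst_fapp (U : Y.Opens) (s : Γ(Y, U)) :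
    gfst x f A U ((f.app U).hom s) = ((gA x f A).app U).hom s := by
  have h1 : f.app U ≫ (pullback.fst x (specOver A)).appLE (f ⁻¹ᵁ U) ((gA x f A) ⁻¹ᵁ U) le_rfl =
      (gA x f A).appLE U ((gA x f A) ⁻¹ᵁ U) le_rfl :=
    (Scheme.Hom.comp_appLE (pullback.fst x (specOver A)) f U ((gA x f A) ⁻¹ᵁ U) le_rfl).symm
  exact (congrArg (fun m => m.hom s) h1).trans
    (congrArg (fun m => m.hom s) (Scheme.Hom.appLE_eq_app (gA x f A) (U := U)))

theorem gfst_map {U V : Y.Opens} (h : V ≤ U) (t : Γ(X, f ⁻¹ᵁ U)) :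
    gfst x f A V ((X.presheaf.map (homOfLE (f.preimage_mono h)).op).hom t) =
      ((XA x A).presheaf.map (homOfLE ((gA x f A).preimage_mono h)).op).hom (gfst x f A U t) :=
  appLE_res (pullback.fst x (specOver A)) (f.preimage_mono h) ((gA x f A).preimage_mono h)
    le_rfl le_rfl t

theorem gfst_res (U : Y.Opens) (W : (XA x A).Opens) (e : W ≤ (gA x f A) ⁻¹ᵁ U)
    (t : Γ(X, f ⁻¹ᵁ U)) :
    ((XA x A).presheaf.map (homOfLE e).op).hom (gfst x f A U t) =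
      ((pullback.fst x (specOver A)).appLE (f ⁻¹ᵁ U) W e).hom t :=
  appLE_map_apply (pullback.fst x (specOver A)) le_rfl e t

theorem fst_appLE_kap (V : X.Opens) (W : (XA x A).Opens)
    (e : W ≤ (pullback.fst x (specOver A)) ⁻¹ᵁ V) (c : k) :
    ((pullback.fst x (specOver A)).appLE V W e).hom (kap x V c) =
      rho (trivB x A) W (algebraMap k A c) := by
  have hU : W ≤ (pullback.fst x (specOver A)) ⁻¹ᵁ ⊤ :=
    e.trans ((pullback.fst x (specOver A)).preimage_mono le_top)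
  have h1 := appLE_res (pullback.fst x (specOver A)) (le_top : V ≤ ⊤) hU le_rfl e (kapTop x c)
  have h2 : ((pullback.fst x (specOver A)).appLE ⊤ ((pullback.fst x (specOver A)) ⁻¹ᵁ ⊤)
      le_rfl).hom (kapTop x c) = rhoTop (trivB x A) (algebraMap k A c) :=
    (congrArg (fun m => m.hom (kapTop x c))
      (Scheme.Hom.appLE_eq_app (pullback.fst x (specOver A)) (U := ⊤))).trans
      (fst_appTop_kapTop x A c)
  exact h1.trans (congrArg (fun t => ((XA x A).presheaf.map (homOfLE hU).op).hom t) h2)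

theorem gfst_kap (U : Y.Opens) (c : k) :
    gfst x f A U (kap x (f ⁻¹ᵁ U) c) =
      rho (trivB x A) ((gA x f A) ⁻¹ᵁ U) (algebraMap k A c) :=
  fst_appLE_kap x A (f ⁻¹ᵁ U) ((gA x f A) ⁻¹ᵁ U) le_rfl c

variable {f yY} (a₁ a₂ : A) (δ₁ δ₂ : SDer f yY)

/-- the family `s ↦ a₁ δ₁(s) + a₂ δ₂(s)`. -/
noncomputable def DD (U : Y.Opens) : Γ(Y, U) →+ Γ(XA x A, (gA x f A) ⁻¹ᵁ U) :=
  (AddMonoidHom.mulLeft (rho (trivB x A) ((gA x f A) ⁻¹ᵁ U) a₁)).comp
      ((gfst x f A U).toAddMonoidHom.comp (δ₁.d U)) +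
    (AddMonoidHom.mulLeft (rho (trivB x A) ((gA x f A) ⁻¹ᵁ U) a₂)).comp
      ((gfst x f A U).toAddMonoidHom.comp (δ₂.d U))

theorem DD_apply (U : Y.Opens) (s : Γ(Y, U)) :
    DD x A a₁ a₂ δ₁ δ₂ U s =
      rho (trivB x A) ((gA x f A) ⁻¹ᵁ U) a₁ * gfst x f A U (δ₁.d U s) +
        rho (trivB x A) ((gA x f A) ⁻¹ᵁ U) a₂ * gfst x f A U (δ₂.d U s) := rfl

theorem DD_mul (U : Y.Opens) (s t : Γ(Y, U)) :
    DD x A a₁ a₂ δ₁ δ₂ U (s * t) =
      ((gA x f A).app U).hom s * DD x A a₁ a₂ δ₁ δ₂ U t +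
        ((gA x f A).app U).hom t * DD x A a₁ a₂ δ₁ δ₂ U s := by
  rw [DD_apply, DD_apply, DD_apply, δ₁.d_mul, δ₂.d_mul]
  simp only [map_add, map_mul, gfst_fapp]
  ring

theorem DD_sq (h11 : a₁ * a₁ = 0) (h12 : a₁ * a₂ = 0) (h22 : a₂ * a₂ = 0) (U : Y.Opens)
    (s t : Γ(Y, U)) : DD x A a₁ a₂ δ₁ δ₂ U s * DD x A a₁ a₂ δ₁ δ₂ U t = 0 := by
  have r11 : rho (trivB x A) ((gA x f A) ⁻¹ᵁ U) a₁ * rho (trivB x A) ((gA x f A) ⁻¹ᵁ U) a₁ = 0 := by
    rw [← map_mul, h11, map_zero]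
  have r12 : rho (trivB x A) ((gA x f A) ⁻¹ᵁ U) a₁ * rho (trivB x A) ((gA x f A) ⁻¹ᵁ U) a₂ = 0 := by
    rw [← map_mul, h12, map_zero]
  have r22 : rho (trivB x A) ((gA x f A) ⁻¹ᵁ U) a₂ * rho (trivB x A) ((gA x f A) ⁻¹ᵁ U) a₂ = 0 := by
    rw [← map_mul, h22, map_zero]
  rw [DD_apply, DD_apply]
  linear_combination (gfst x f A U (δ₁.d U s) * gfst x f A U (δ₁.d U t)) * r11 +
    (gfst x f A U (δ₁.d U s) * gfst x f A U (δ₂.d U t) +
      gfst x f A U (δ₂.d U s) * gfst x f A U (δ₁.d U t)) * r12 +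
    (gfst x f A U (δ₂.d U s) * gfst x f A U (δ₂.d U t)) * r22

theorem DD_map (U V : Y.Opens) (h : V ≤ U) (s : Γ(Y, U)) :
    DD x A a₁ a₂ δ₁ δ₂ V ((Y.presheaf.map (homOfLE h).op).hom s) =
      ((XA x A).presheaf.map (homOfLE ((gA x f A).preimage_mono h)).op).hom
        (DD x A a₁ a₂ δ₁ δ₂ U s) := by
  rw [DD_apply, DD_apply, δ₁.d_map U V h s, δ₂.d_map U V h s, gfst_map x f A h,
    gfst_map x f A h, map_add,
    map_mul, map_mul, rho_res, rho_res]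

/-- the morphism `s ↦ f♯ s + a₁ δ₁ s + a₂ δ₂ s`. -/
noncomputable def Phi (h11 : a₁ * a₁ = 0) (h12 : a₁ * a₂ = 0) (h22 : a₂ * a₂ = 0) :
    XA x A ⟶ Y :=
  twG (gA x f A) (DD x A a₁ a₂ δ₁ δ₂) (DD_mul x A a₁ a₂ δ₁ δ₂)
    (DD_sq x A a₁ a₂ δ₁ δ₂ h11 h12 h22) (DD_map x A a₁ a₂ δ₁ δ₂)

variable (h11 : a₁ * a₁ = 0) (h12 : a₁ * a₂ = 0) (h22 : a₂ * a₂ = 0)

theorem Phi_apply (t : XA x A) : (Phi x A a₁ a₂ δ₁ δ₂ h11 h12 h22) t = (gA x f A) t := rfl

theorem Phi_app (U : Y.Opens) (s : Γ(Y, U)) :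
    ((Phi x A a₁ a₂ δ₁ δ₂ h11 h12 h22).app U).hom s =
      ((gA x f A).app U).hom s + DD x A a₁ a₂ δ₁ δ₂ U s := rfl

theorem res_DD (U : Y.Opens) (W : (XA x A).Opens) (e : W ≤ (gA x f A) ⁻¹ᵁ U) (s : Γ(Y, U)) :
    ((XA x A).presheaf.map (homOfLE e).op).hom (DD x A a₁ a₂ δ₁ δ₂ U s) =
      rho (trivB x A) W a₁ *
          ((pullback.fst x (specOver A)).appLE (f ⁻¹ᵁ U) W e).hom (δ₁.d U s) +
        rho (trivB x A) W a₂ *
          ((pullback.fst x (specOver A)).appLE (f ⁻¹ᵁ U) W e).hom (δ₂.d U s) := by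
  rw [DD_apply, map_add, map_mul, map_mul, rho_res, rho_res, gfst_res, gfst_res]

theorem Phi_appLE (U : Y.Opens) (W : (XA x A).Opens) (e : W ≤ (gA x f A) ⁻¹ᵁ U) (s : Γ(Y, U)) :
    ((Phi x A a₁ a₂ δ₁ δ₂ h11 h12 h22).appLE U W e).hom s =
      ((gA x f A).appLE U W e).hom s +
        (rho (trivB x A) W a₁ *
            ((pullback.fst x (specOver A)).appLE (f ⁻¹ᵁ U) W e).hom (δ₁.d U s) +
          rho (trivB x A) W a₂ *
            ((pullback.fst x (specOver A)).appLE (f ⁻¹ᵁ U) W e).hom (δ₂.d U s)) := by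
  have h1 := twG_appLE (gA x f A) (DD x A a₁ a₂ δ₁ δ₂) (DD_mul x A a₁ a₂ δ₁ δ₂)
    (DD_sq x A a₁ a₂ δ₁ δ₂ h11 h12 h22) (DD_map x A a₁ a₂ δ₁ δ₂) U W e s
  exact h1.trans (congrArg (fun t => ((gA x f A).appLE U W e).hom s + t)
    (res_DD x A a₁ a₂ δ₁ δ₂ U W e s))

/-- the closed fibre of `Phi` is `f`. -/
theorem XAincl_Phi (hr₁ : A.res a₁ = 0) (hr₂ : A.res a₂ = 0) :
    XAincl x A ≫ Phi x A a₁ a₂ δ₁ δ₂ h11 h12 h22 = f := by
  have h0 : XAincl x A ≫ gA x f A = f := by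
    rw [← Category.assoc, XAincl_fst, Category.id_comp]
  rw [Phi, comp_twG, h0]
  intro U s
  have h1 : ((XAincl x A).app ((gA x f A) ⁻¹ᵁ U)).hom
      (rho (trivB x A) ((gA x f A) ⁻¹ᵁ U) a₁) =
      kap x ((XAincl x A) ⁻¹ᵁ ((gA x f A) ⁻¹ᵁ U)) (A.res a₁) :=
    iota_rho (trivB x A) ((gA x f A) ⁻¹ᵁ U) a₁
  have h2 : ((XAincl x A).app ((gA x f A) ⁻¹ᵁ U)).hom
      (rho (trivB x A) ((gA x f A) ⁻¹ᵁ U) a₂) =
      kap x ((XAincl x A) ⁻¹ᵁ ((gA x f A) ⁻¹ᵁ U)) (A.res a₂) :=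
    iota_rho (trivB x A) ((gA x f A) ⁻¹ᵁ U) a₂
  rw [DD_apply, map_add, map_mul, map_mul, h1, h2, hr₁, hr₂, map_zero, zero_mul, zero_mul,
    add_zero]

/-- `Phi` is a morphism over `k`. -/
theorem Phi_yY (hf : f ≫ yY = x) :
    Phi x A a₁ a₂ δ₁ δ₂ h11 h12 h22 ≫ yY = pullback.fst x (specOver A) ≫ x := by
  rw [Phi, twG_comp, Category.assoc, hf]
  intro c
  have h1 : δ₁.d ⊤ (yY.appTop.hom c) = 0 := δ₁.d_app ⊤ c
  have h2 : δ₂.d ⊤ (yY.appTop.hom c) = 0 := δ₂.d_app ⊤ c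
  rw [DD_apply, h1, h2, map_zero, mul_zero, mul_zero, add_zero]

theorem Phi_congr (a₁' a₂' : A) (δ₁' δ₂' : SDer f yY) (h11' : a₁' * a₁' = 0)
    (h12' : a₁' * a₂' = 0) (h22' : a₂' * a₂' = 0)
    (h : ∀ (U : Y.Opens) (s : Γ(Y, U)),
      DD x A a₁ a₂ δ₁ δ₂ U s = DD x A a₁' a₂' δ₁' δ₂' U s) :
    Phi x A a₁ a₂ δ₁ δ₂ h11 h12 h22 = Phi x A a₁' a₂' δ₁' δ₂' h11' h12' h22' :=
  twG_congr _ _ _ _ _ _ _ _ _ h

theorem Phi_congr_elt {a₁' a₂' : A} (e₁ : a₁ = a₁') (e₂ : a₂ = a₂') (h11' : a₁' * a₁' = 0)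
    (h12' : a₁' * a₂' = 0) (h22' : a₂' * a₂' = 0) :
    Phi x A a₁ a₂ δ₁ δ₂ h11 h12 h22 = Phi x A a₁' a₂' δ₁ δ₂ h11' h12' h22' := by
  subst e₁
  subst e₂
  rfl

end PhiDef

section PhiOne

variable {k : Type u} [Field k] {X Y : Scheme.{u}} (x : X ⟶ specPt k) {f : X ⟶ Y}
  {yY : Y ⟶ specPt k} (A : Art k k)

/-- the morphism `s ↦ f♯ s + a δ s`. -/
noncomputable def Phi1 (a : A) (ha : a * a = 0) (δ : SDer f yY) : XA x A ⟶ Y :=
  Phi x A a 0 δ δ ha (mul_zero a) (mul_zero 0)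

theorem Phi_left (a : A) (ha : a * a = 0) (δ₁ δ₂ : SDer f yY) :
    Phi x A a 0 δ₁ δ₂ ha (mul_zero a) (mul_zero 0) = Phi1 x A a ha δ₁ := by
  refine Phi_congr x A a 0 δ₁ δ₂ _ _ _ a 0 δ₁ δ₁ _ _ _ fun U s => ?_
  rw [DD_apply, DD_apply, map_zero, zero_mul, zero_mul]

theorem Phi_right (a : A) (ha : a * a = 0) (δ₁ δ₂ : SDer f yY) :
    Phi x A 0 a δ₁ δ₂ (mul_zero 0) (zero_mul a) ha = Phi1 x A a ha δ₂ := by
  refine Phi_congr x A 0 a δ₁ δ₂ _ _ _ a 0 δ₂ δ₂ _ _ _ fun U s => ?_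
  rw [DD_apply, DD_apply, map_zero, zero_mul, zero_mul, zero_add, add_zero]

theorem Phi_diag (a : A) (ha : a * a = 0) (δ₁ δ₂ γ : SDer f yY)
    (hγ : ∀ (U : Y.Opens) (s : Γ(Y, U)), γ.d U s = δ₁.d U s + δ₂.d U s) :
    Phi x A a a δ₁ δ₂ ha ha ha = Phi1 x A a ha γ := by
  refine Phi_congr x A a a δ₁ δ₂ _ _ _ a 0 γ γ _ _ _ fun U s => ?_
  rw [DD_apply, DD_apply, hγ, map_add, map_zero, zero_mul, add_zero, mul_add]

theorem Phi_scale (a : A) (ha : a * a = 0) (c : k)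
    (hca : (algebraMap k A c * a) * (algebraMap k A c * a) = 0) (δ γ : SDer f yY)
    (hγ : ∀ (U : Y.Opens) (s : Γ(Y, U)), γ.d U s = kap x (f ⁻¹ᵁ U) c * δ.d U s) :
    Phi1 x A (algebraMap k A c * a) hca δ = Phi1 x A a ha γ := by
  refine Phi_congr x A (algebraMap k A c * a) 0 δ δ _ _ _ a 0 γ γ _ _ _ fun U s => ?_
  rw [DD_apply, DD_apply, hγ, map_mul, map_mul, gfst_kap, map_zero, zero_mul, zero_mul]
  ring

/-- `Phi1` determines `a δ`. -/
theorem Phi1_inj (a : A) (ha : a * a = 0) (δ δ' : SDer f yY)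
    (h : Phi1 x A a ha δ = Phi1 x A a ha δ') (U : Y.Opens) (s : Γ(Y, U)) :
    rho (trivB x A) ((gA x f A) ⁻¹ᵁ U) a * gfst x f A U (δ.d U s) =
      rho (trivB x A) ((gA x f A) ⁻¹ᵁ U) a * gfst x f A U (δ'.d U s) := by
  have h1 := D_eq_of_twG_eq _ _ _ _ _ _ _ _ _ h U s
  rw [DD_apply, DD_apply, map_zero, zero_mul, zero_mul, add_zero, add_zero] at h1
  exact h1

end PhiOne

section PhiMap

variable {k : Type u} [Field k] {X Y : Scheme.{u}} (x : X ⟶ specPt k) {f : X ⟶ Y}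
  {yY : Y ⟶ specPt k} {A B : Art k k} (u : A ⟶ B) (a₁ a₂ : A) (δ₁ δ₂ : SDer f yY)
  (h11 : a₁ * a₁ = 0) (h12 : a₁ * a₂ = 0) (h22 : a₂ * a₂ = 0)

theorem XAmap_gA : XAmap x u ≫ gA x f A = gA x f B := by
  rw [← Category.assoc, XAmap_fst]

theorem comp_Phi_appLE (U : Y.Opens) (W : (XA x B).Opens)
    (e : W ≤ (XAmap x u ≫ Phi x A a₁ a₂ δ₁ δ₂ h11 h12 h22) ⁻¹ᵁ U)
    (e' : W ≤ (gA x f B) ⁻¹ᵁ U) (s : Γ(Y, U)) :
    ((XAmap x u ≫ Phi x A a₁ a₂ δ₁ δ₂ h11 h12 h22).appLE U W e).hom s =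
      ((gA x f B).appLE U W e').hom s +
        (rho (trivB x B) W (u a₁) *
            ((pullback.fst x (specOver B)).appLE (f ⁻¹ᵁ U) W e').hom (δ₁.d U s) +
          rho (trivB x B) W (u a₂) *
            ((pullback.fst x (specOver B)).appLE (f ⁻¹ᵁ U) W e').hom (δ₂.d U s)) := by
  have e0 : W ≤ (XAmap x u) ⁻¹ᵁ ((gA x f A) ⁻¹ᵁ U) := e
  have h1 : ((XAmap x u ≫ Phi x A a₁ a₂ δ₁ δ₂ h11 h12 h22).appLE U W e).hom s =
      ((XAmap x u).appLE ((gA x f A) ⁻¹ᵁ U) W e0).hom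
        (((Phi x A a₁ a₂ δ₁ δ₂ h11 h12 h22).app U).hom s) :=
    congrArg (fun m => m.hom s)
      (Scheme.Hom.comp_appLE (XAmap x u) (Phi x A a₁ a₂ δ₁ δ₂ h11 h12 h22) U W e)
  have h2 : ((XAmap x u).appLE ((gA x f A) ⁻¹ᵁ U) W e0).hom (((gA x f A).app U).hom s) =
      ((gA x f B).appLE U W e').hom s := by
    have h3 : ((XAmap x u).appLE ((gA x f A) ⁻¹ᵁ U) W e0).hom (((gA x f A).app U).hom s) =
        ((XAmap x u ≫ gA x f A).appLE U W e0).hom s :=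
      (congrArg (fun m => m.hom s)
        (Scheme.Hom.comp_appLE (XAmap x u) (gA x f A) U W e0)).symm
    exact h3.trans (congrArg (fun m => m.hom s) (appLE_of_eq (XAmap_gA x u) U W e0))
  have h4 : ∀ t : Γ(X, f ⁻¹ᵁ U),
      ((XAmap x u).appLE ((gA x f A) ⁻¹ᵁ U) W e0).hom (gfst x f A U t) =
        ((pullback.fst x (specOver B)).appLE (f ⁻¹ᵁ U) W e').hom t := by
    intro t
    have h5 := comp_appLE_apply (XAmap x u) (pullback.fst x (specOver A)) (f ⁻¹ᵁ U)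
      ((gA x f A) ⁻¹ᵁ U) W le_rfl e0 t
    exact h5.trans (congrArg (fun m => m.hom t)
      (appLE_of_eq (XAmap_fst x u) (f ⁻¹ᵁ U) W _))
  rw [h1, Phi_app, map_add, h2, DD_apply, map_add, map_mul, map_mul, h4, h4,
    chi_rho x u ((gA x f A) ⁻¹ᵁ U) W e0 a₁, chi_rho x u ((gA x f A) ⁻¹ᵁ U) W e0 a₂]

/-- base change of `Phi` along a morphism of Artinian rings. -/
theorem XAmap_Phi (h11' : u a₁ * u a₁ = 0) (h12' : u a₁ * u a₂ = 0) (h22' : u a₂ * u a₂ = 0) :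
    XAmap x u ≫ Phi x A a₁ a₂ δ₁ δ₂ h11 h12 h22 = Phi x B (u a₁) (u a₂) δ₁ δ₂ h11' h12' h22' := by
  apply hom_ext_of_appLE'
  · intro t
    exact congrArg (fun m : XA x B ⟶ X => f (m t)) (XAmap_fst x u)
  · intro U W _ _ e₁ e₂ s
    rw [comp_Phi_appLE x u a₁ a₂ δ₁ δ₂ h11 h12 h22 U W e₁ e₂ s, Phi_appLE]

end PhiMap

end Groth.Agent.Helper3.HomTan
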