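import Mathlib
import Groth.Agent.Lib.Lead.OmU1
import Groth.Agent.Lib.Lead.OmU13a
import Groth.Agent.Lib.Helper3.HilbTanB
import Groth.Agent.Lib.Helper3.HomTanB

/-! Morphisms `X ×_k Spec k[ε] ⟶ Y` over `k` restricting to `f : X ⟶ Y` on the closed fibre are
exactly the morphisms `f + ε δ` for the `k`-derivations `δ : O_Y → f_* O_X` (helper3). -/

set_option autoImplicit false
set_option linter.style.haveILetI false
universe u
open CategoryTheory CategoryTheory.Limits AlgebraicGeometry TopologicalSpace Opposite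

set_option backward.isDefEq.respectTransparency.types false
set_option synthInstance.maxHeartbeats 400000
set_option maxHeartbeats 4000000

namespace Groth.Agent.Helper3.HomTan

open ArtFun ArtFun.Art OmegaSh Groth.Agent.Helper3.DerAut Groth.Agent.Helper3.HilbRig
  Groth.Agent.Helper3.HilbTan Groth.Agent.Helper3.HilbLin Groth.Agent.Lead.DerU

theorem ring_section_ext {Z : Scheme.{u}} {U : Z.Opens} (s t : Γ(Z, U))
    (h : ∀ p ∈ U, ∃ (V : Z.Opens) (hV : V ≤ U), p ∈ V ∧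
      (Z.presheaf.map (homOfLE hV).op).hom s = (Z.presheaf.map (homOfLE hV).op).hom t) : s = t :=
  Groth.Agent.Lead.OmU.section_ext (Coh.structureModule Z) (U := U) (strSect Z U s)
    (strSect Z U t) h

section Charts

variable {k : Type u} [Field k] {X : Scheme.{u}} (x : X ⟶ specPt k)

theorem fst_incl_apply (q : X) :
    (pullback.fst x (specOver (D k))) ((XAincl x (D k)) q) = q := by
  have h1 : (XAincl x (D k) ≫ pullback.fst x (specOver (D k))) q = q := by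
    rw [XAincl_fst]
    rfl
  exact h1

/-- the section `Γ(X, i⁻¹W) → Γ(X[ε], W)` of the restriction to the closed fibre. -/
noncomputable def sig (W : (XA x (D k)).Opens) :
    Γ(X, (XAincl x (D k)) ⁻¹ᵁ W) →+* Γ(XA x (D k), W) :=
  ((pullback.fst x (specOver (D k))).appLE ((XAincl x (D k)) ⁻¹ᵁ W) W
    (le_pr_preimage x (D k) W)).hom

theorem sig_res {W W' : (XA x (D k)).Opens} (h : W' ≤ W)
    (a : Γ(X, (XAincl x (D k)) ⁻¹ᵁ W)) :
    ((XA x (D k)).presheaf.map (homOfLE h).op).hom (sig x W a) =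
      sig x W' ((X.presheaf.map (homOfLE ((XAincl x (D k)).preimage_mono h)).op).hom a) :=
  (appLE_res (pullback.fst x (specOver (D k))) ((XAincl x (D k)).preimage_mono h) h
    (le_pr_preimage x (D k) W) (le_pr_preimage x (D k) W') a).symm

theorem chart_decomp (W : (XA x (D k)).Opens) (hW : IsAffineOpen W) (r : Γ(XA x (D k), W)) :
    ∃ b : Γ(X, (XAincl x (D k)) ⁻¹ᵁ W),
      r = sig x W (((XAincl x (D k)).app W).hom r) +
        rho (trivB x (D k)) W (epsD k).ε * sig x W b :=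
  decomp (epsD k) (tanC x (D k) (⊥ : X.IdealSheafData) W hW) r

theorem chart_uniq (W : (XA x (D k)).Opens) (hW : IsAffineOpen W)
    (a b : Γ(X, (XAincl x (D k)) ⁻¹ᵁ W))
    (h : sig x W a + rho (trivB x (D k)) W (epsD k).ε * sig x W b = 0) : a = 0 ∧ b = 0 :=
  uniq (epsD k) (tanC x (D k) (⊥ : X.IdealSheafData) W hW) a b h

/-- the coefficient of `ε` on an affine chart. -/
noncomputable def coefW (W : (XA x (D k)).affineOpens) (r : Γ(XA x (D k), W.1)) :
    Γ(X, (XAincl x (D k)) ⁻¹ᵁ W.1) :=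
  Classical.choose (chart_decomp x W.1 W.2 r)

theorem coefW_spec (W : (XA x (D k)).affineOpens) (r : Γ(XA x (D k), W.1)) :
    r = sig x W.1 (((XAincl x (D k)).app W.1).hom r) +
      rho (trivB x (D k)) W.1 (epsD k).ε * sig x W.1 (coefW x W r) :=
  Classical.choose_spec (chart_decomp x W.1 W.2 r)

theorem coefW_unique (W : (XA x (D k)).affineOpens) (r : Γ(XA x (D k), W.1))
    (a b : Γ(X, (XAincl x (D k)) ⁻¹ᵁ W.1))
    (h : r = sig x W.1 a + rho (trivB x (D k)) W.1 (epsD k).ε * sig x W.1 b) :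
    b = coefW x W r := by
  have h1 := coefW_spec x W r
  have h2 : sig x W.1 (a - ((XAincl x (D k)).app W.1).hom r) +
      rho (trivB x (D k)) W.1 (epsD k).ε * sig x W.1 (b - coefW x W r) = 0 := by
    rw [map_sub, map_sub]
    linear_combination h1 - h
  exact sub_eq_zero.1 (chart_uniq x W.1 W.2 _ _ h2).2

theorem coefW_add (W : (XA x (D k)).affineOpens) (r r' : Γ(XA x (D k), W.1)) :
    coefW x W (r + r') = coefW x W r + coefW x W r' := by
  symm
  apply coefW_unique x W (r + r')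
    (((XAincl x (D k)).app W.1).hom r + ((XAincl x (D k)).app W.1).hom r')
  rw [map_add, map_add]
  linear_combination coefW_spec x W r + coefW_spec x W r'

theorem coefW_res (W W' : (XA x (D k)).affineOpens) (h : W'.1 ≤ W.1)
    (r : Γ(XA x (D k), W.1)) :
    coefW x W' (((XA x (D k)).presheaf.map (homOfLE h).op).hom r) =
      (X.presheaf.map (homOfLE ((XAincl x (D k)).preimage_mono h)).op).hom (coefW x W r) := by
  symm
  apply coefW_unique x W' _
    ((X.presheaf.map (homOfLE ((XAincl x (D k)).preimage_mono h)).op).hom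
      (((XAincl x (D k)).app W.1).hom r))
  have h1 := congrArg (((XA x (D k)).presheaf.map (homOfLE h).op).hom) (coefW_spec x W r)
  rw [map_add, map_mul, sig_res x h, sig_res x h, rho_res x (D k) h] at h1
  exact h1

/-- the coefficient of `ε` on an affine chart, as an additive map. -/
noncomputable def coefWhom (W : (XA x (D k)).affineOpens) :
    Γ(XA x (D k), W.1) →+ Γ(X, (XAincl x (D k)) ⁻¹ᵁ W.1) :=
  AddMonoidHom.mk' (coefW x W) (coefW_add x W)

/-- the local coefficient maps on sections of modules. -/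
noncomputable def aW (W : (XA x (D k)).affineOpens) :
    Γ(Coh.structureModule (XA x (D k)), W.1) →+
      Γ((Scheme.Modules.pushforward (XAincl x (D k))).obj (Coh.structureModule X), W.1) :=
  (pushSect' (XAincl x (D k)) _ W.1).comp
    ((strSect X _).comp ((coefWhom x W).comp (fnSect (XA x (D k)) W.1)))

theorem aW_nat (W W' : (XA x (D k)).affineOpens) (h : W'.1 ≤ W.1)
    (m : Γ(Coh.structureModule (XA x (D k)), W.1)) :
    aW x W' ((Coh.structureModule (XA x (D k))).presheaf.map (homOfLE h).op m) =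
      ((Scheme.Modules.pushforward (XAincl x (D k))).obj
        (Coh.structureModule X)).presheaf.map (homOfLE h).op (aW x W m) :=
  congrArg (fun t => pushSect' (XAincl x (D k)) _ W'.1 (strSect X _ t))
    (coefW_res x W W' h (fnSect _ _ m))

theorem isBasis_aff :
    Opens.IsBasis (Set.range (fun W : (XA x (D k)).affineOpens => W.1)) := by
  have h : Set.range (fun W : (XA x (D k)).affineOpens => W.1) = (XA x (D k)).affineOpens :=
    Subtype.range_coe
  rw [h]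
  exact (XA x (D k)).isBasis_affineOpens

/-- the coefficient of `ε`, globally. -/
noncomputable def coefG (W : (XA x (D k)).Opens) :
    Γ(XA x (D k), W) →+ Γ(X, (XAincl x (D k)) ⁻¹ᵁ W) :=
  (fnSect X _).comp ((pushSect (XAincl x (D k)) _ W).comp
    ((Groth.Agent.Lead.OmU.glueApp (fun W : (XA x (D k)).affineOpens => W.1) (isBasis_aff x)
      (aW x) (aW_nat x) W).comp (strSect (XA x (D k)) W)))

theorem coefG_basis (W : (XA x (D k)).affineOpens) (r : Γ(XA x (D k), W.1)) :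
    coefG x W.1 r = coefW x W r :=
  congrArg (fun t => fnSect X _ (pushSect (XAincl x (D k)) _ W.1 t))
    (Groth.Agent.Lead.OmU.glueApp_basis (fun W : (XA x (D k)).affineOpens => W.1)
      (isBasis_aff x) (aW x) (aW_nat x) W (strSect (XA x (D k)) W.1 r))

theorem coefG_map {W W' : (XA x (D k)).Opens} (h : W' ≤ W) (r : Γ(XA x (D k), W)) :
    coefG x W' (((XA x (D k)).presheaf.map (homOfLE h).op).hom r) =
      (X.presheaf.map (homOfLE ((XAincl x (D k)).preimage_mono h)).op).hom (coefG x W r) :=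
  congrArg (fun t => fnSect X _ (pushSect (XAincl x (D k)) _ W' t))
    (Groth.Agent.Lead.OmU.glueApp_map (fun W : (XA x (D k)).affineOpens => W.1)
      (isBasis_aff x) (aW x) (aW_nat x) h (strSect (XA x (D k)) W r))

/-- every function on `X[ε]` is `a + ε b`. -/
theorem decompG (W : (XA x (D k)).Opens) (r : Γ(XA x (D k), W)) :
    r = sig x W (((XAincl x (D k)).app W).hom r) +
      rho (trivB x (D k)) W (epsD k).ε * sig x W (coefG x W r) := by
  apply ring_section_ext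
  intro t ht
  obtain ⟨_, ⟨W', hW', rfl⟩, htW', hW'W⟩ :=
    (XA x (D k)).isBasis_affineOpens.exists_subset_of_mem_open ht W.isOpen
  have hle : W' ≤ W := hW'W
  refine ⟨W', hle, htW', ?_⟩
  rw [map_add, map_mul, sig_res x hle, sig_res x hle, rho_res x (D k) hle, ← coefG_map x hle,
    ← app_map (XAincl x (D k)) hle]
  have h1 := coefW_spec x ⟨W', hW'⟩ (((XA x (D k)).presheaf.map (homOfLE hle).op).hom r)
  rw [← coefG_basis] at h1
  exact h1

/-- `ε b = 0` forces `b = 0`. -/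
theorem eps_inj (V : X.Opens) (W : (XA x (D k)).Opens)
    (e : W ≤ (pullback.fst x (specOver (D k))) ⁻¹ᵁ V) (hWV : V ≤ (XAincl x (D k)) ⁻¹ᵁ W)
    (t : Γ(X, V))
    (h : rho (trivB x (D k)) W (epsD k).ε *
      ((pullback.fst x (specOver (D k))).appLE V W e).hom t = 0) : t = 0 := by
  apply ring_section_ext
  intro p hp
  have hpW : (XAincl x (D k)) p ∈ W := hWV hp
  obtain ⟨_, ⟨W', hW', rfl⟩, hpW', hW'W⟩ :=
    (XA x (D k)).isBasis_affineOpens.exists_subset_of_mem_open hpW W.isOpen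
  have hle : W' ≤ W := hW'W
  have hV'V : (XAincl x (D k)) ⁻¹ᵁ W' ≤ V := by
    intro q hq
    have h1 : (pullback.fst x (specOver (D k))) ((XAincl x (D k)) q) ∈ V := e (hle hq)
    rwa [fst_incl_apply] at h1
  refine ⟨(XAincl x (D k)) ⁻¹ᵁ W', hV'V, hpW', ?_⟩
  rw [map_zero]
  have h1 := congrArg (((XA x (D k)).presheaf.map (homOfLE hle).op).hom) h
  rw [map_mul, map_zero, rho_res x (D k) hle,
    appLE_map_apply (pullback.fst x (specOver (D k))) e hle t] at h1
  have h2 : ((pullback.fst x (specOver (D k))).appLE V W' (hle.trans e)).hom t =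
      sig x W' ((X.presheaf.map (homOfLE hV'V).op).hom t) :=
    (map_appLE_apply (pullback.fst x (specOver (D k))) (le_pr_preimage x (D k) W') hV'V t).symm
  rw [h2] at h1
  have h3 : sig x W' 0 + rho (trivB x (D k)) W' (epsD k).ε *
      sig x W' ((X.presheaf.map (homOfLE hV'V).op).hom t) = 0 := by
    rw [map_zero, zero_add]
    exact h1
  exact (chart_uniq x W' hW' _ _ h3).2

end Charts

section K2

variable {k : Type u} [Field k] {X Y : Scheme.{u}} (x : X ⟶ specPt k) (f : X ⟶ Y)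

theorem incl_gA : XAincl x (D k) ≫ gA x f (D k) = f := by
  rw [← Category.assoc, XAincl_fst, Category.id_comp]

theorem eqV (U : Y.Opens) :
    (XAincl x (D k)) ⁻¹ᵁ ((gA x f (D k)) ⁻¹ᵁ U) = f ⁻¹ᵁ U :=
  congrArg (fun m : X ⟶ Y => m ⁻¹ᵁ U) (incl_gA x f)

theorem leV (U : Y.Opens) : f ⁻¹ᵁ U ≤ (XAincl x (D k)) ⁻¹ᵁ ((gA x f (D k)) ⁻¹ᵁ U) :=
  le_of_eq (eqV x f U).symm

theorem leV' (U : Y.Opens) : (XAincl x (D k)) ⁻¹ᵁ ((gA x f (D k)) ⁻¹ᵁ U) ≤ f ⁻¹ᵁ U :=
  le_of_eq (eqV x f U)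

theorem eps_inj_g (U : Y.Opens) (t : Γ(X, f ⁻¹ᵁ U))
    (h : rho (trivB x (D k)) ((gA x f (D k)) ⁻¹ᵁ U) (epsD k).ε * gfst x f (D k) U t = 0) :
    t = 0 :=
  eps_inj x (f ⁻¹ᵁ U) ((gA x f (D k)) ⁻¹ᵁ U) le_rfl (leV x f U) t h

variable {f} {yY : Y ⟶ specPt k}

/-- `f + ε δ` determines `δ`. -/
theorem Phi1_injective (δ δ' : SDer f yY)
    (h : Phi1 x (D k) (epsD k).ε (epsD k).sq δ = Phi1 x (D k) (epsD k).ε (epsD k).sq δ') :
    δ = δ' := by
  apply SDer.ext'
  intro U s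
  have h1 := Phi1_inj x (D k) (epsD k).ε (epsD k).sq δ δ' h U s
  have h2 : rho (trivB x (D k)) ((gA x f (D k)) ⁻¹ᵁ U) (epsD k).ε *
      gfst x f (D k) U (δ.d U s - δ'.d U s) = 0 := by
    rw [map_sub, mul_sub, h1, sub_self]
  exact sub_eq_zero.1 (eps_inj_g x f U _ h2)

variable (f) (hf : f ≫ yY = x)
  (φ : XA x (D k) ⟶ Y) (hincl : XAincl x (D k) ≫ φ = f)
  (hφy : φ ≫ yY = pullback.fst x (specOver (D k)) ≫ x)

include hincl in
theorem phi_apply (t : XA x (D k)) : φ t = (gA x f (D k)) t := by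
  obtain ⟨p, rfl⟩ := (DefGl.surjective_i (trivB x (D k))).surj t
  have h1 : (XAincl x (D k) ≫ φ) p = f p := by rw [hincl]
  have h2 : (pullback.fst x (specOver (D k))) ((XAincl x (D k)) p) = p := fst_incl_apply x p
  show φ ((XAincl x (D k)) p) = f ((pullback.fst x (specOver (D k))) ((XAincl x (D k)) p))
  rw [h2]
  exact h1

include hincl in
theorem hle (U : Y.Opens) : (gA x f (D k)) ⁻¹ᵁ U ≤ φ ⁻¹ᵁ U := by
  intro t ht
  show φ t ∈ U
  rw [phi_apply x f φ hincl t]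
  exact ht

/-- the comorphism of `φ` on `g⁻¹U`. -/
noncomputable def phiU (U : Y.Opens) : Γ(Y, U) →+* Γ(XA x (D k), (gA x f (D k)) ⁻¹ᵁ U) :=
  (φ.appLE U ((gA x f (D k)) ⁻¹ᵁ U) (hle x f φ hincl U)).hom

/-- the derivation attached to `φ`, on sections. -/
noncomputable def dd (U : Y.Opens) : Γ(Y, U) →+ Γ(X, f ⁻¹ᵁ U) :=
  (X.presheaf.map (homOfLE (leV x f U)).op).hom.toAddMonoidHom.comp
    ((coefG x ((gA x f (D k)) ⁻¹ᵁ U)).comp (phiU x f φ hincl U).toAddMonoidHom)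

theorem dd_apply (U : Y.Opens) (s : Γ(Y, U)) :
    dd x f φ hincl U s = (X.presheaf.map (homOfLE (leV x f U)).op).hom
      (coefG x ((gA x f (D k)) ⁻¹ᵁ U) (phiU x f φ hincl U s)) := rfl

theorem claimB (U : Y.Opens) (s : Γ(Y, U)) :
    phiU x f φ hincl U s = ((gA x f (D k)).app U).hom s +
      rho (trivB x (D k)) ((gA x f (D k)) ⁻¹ᵁ U) (epsD k).ε *
        gfst x f (D k) U (dd x f φ hincl U s) := by
  have h1 := decompG x ((gA x f (D k)) ⁻¹ᵁ U) (phiU x f φ hincl U s)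
  have h2 : ((XAincl x (D k)).app ((gA x f (D k)) ⁻¹ᵁ U)).hom (phiU x f φ hincl U s) =
      (f.appLE U ((XAincl x (D k)) ⁻¹ᵁ ((gA x f (D k)) ⁻¹ᵁ U)) (leV' x f U)).hom s := by
    have h3 := comp_appLE_apply (XAincl x (D k)) φ U ((gA x f (D k)) ⁻¹ᵁ U)
      ((XAincl x (D k)) ⁻¹ᵁ ((gA x f (D k)) ⁻¹ᵁ U)) (hle x f φ hincl U) le_rfl s
    have h4 : ((XAincl x (D k)).appLE ((gA x f (D k)) ⁻¹ᵁ U)
        ((XAincl x (D k)) ⁻¹ᵁ ((gA x f (D k)) ⁻¹ᵁ U)) le_rfl).hom (phiU x f φ hincl U s) =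
        ((XAincl x (D k)).app ((gA x f (D k)) ⁻¹ᵁ U)).hom (phiU x f φ hincl U s) :=
      congrArg (fun m => m.hom (phiU x f φ hincl U s))
        (Scheme.Hom.appLE_eq_app (XAincl x (D k)) (U := (gA x f (D k)) ⁻¹ᵁ U))
    have h8 : (XAincl x (D k) ≫ φ).appLE U ((XAincl x (D k)) ⁻¹ᵁ ((gA x f (D k)) ⁻¹ᵁ U))
        ((le_rfl : (XAincl x (D k)) ⁻¹ᵁ ((gA x f (D k)) ⁻¹ᵁ U) ≤ _).trans
          ((XAincl x (D k)).preimage_mono (hle x f φ hincl U))) =
        f.appLE U ((XAincl x (D k)) ⁻¹ᵁ ((gA x f (D k)) ⁻¹ᵁ U)) (leV' x f U) :=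
      appLE_of_eq hincl U ((XAincl x (D k)) ⁻¹ᵁ ((gA x f (D k)) ⁻¹ᵁ U)) _
    exact h4.symm.trans (h3.trans (congrArg (fun m => m.hom s) h8))
  have h5 : sig x ((gA x f (D k)) ⁻¹ᵁ U)
      ((f.appLE U ((XAincl x (D k)) ⁻¹ᵁ ((gA x f (D k)) ⁻¹ᵁ U)) (leV' x f U)).hom s) =
      ((gA x f (D k)).app U).hom s := by
    have h6 := comp_appLE_apply (pullback.fst x (specOver (D k))) f U
      ((XAincl x (D k)) ⁻¹ᵁ ((gA x f (D k)) ⁻¹ᵁ U)) ((gA x f (D k)) ⁻¹ᵁ U) (leV' x f U)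
      (le_pr_preimage x (D k) ((gA x f (D k)) ⁻¹ᵁ U)) s
    exact h6.trans (congrArg (fun m => m.hom s)
      (Scheme.Hom.appLE_eq_app (gA x f (D k)) (U := U)))
  have h7 : sig x ((gA x f (D k)) ⁻¹ᵁ U)
      (coefG x ((gA x f (D k)) ⁻¹ᵁ U) (phiU x f φ hincl U s)) =
      gfst x f (D k) U (dd x f φ hincl U s) :=
    (map_appLE_apply (pullback.fst x (specOver (D k)))
      (le_rfl : (gA x f (D k)) ⁻¹ᵁ U ≤ (pullback.fst x (specOver (D k))) ⁻¹ᵁ (f ⁻¹ᵁ U))
      (leV x f U) (coefG x ((gA x f (D k)) ⁻¹ᵁ U) (phiU x f φ hincl U s))).symm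
  rw [h2, h5, h7] at h1
  exact h1

theorem rho_sq (W : (XA x (D k)).Opens) :
    rho (trivB x (D k)) W (epsD k).ε * rho (trivB x (D k)) W (epsD k).ε = 0 := by
  rw [← map_mul, (epsD k).sq, map_zero]

theorem dd_mul (U : Y.Opens) (a b : Γ(Y, U)) :
    dd x f φ hincl U (a * b) =
      (f.app U).hom a * dd x f φ hincl U b + (f.app U).hom b * dd x f φ hincl U a := by
  have hab := claimB x f φ hincl U (a * b)
  have ha := claimB x f φ hincl U a
  have hb := claimB x f φ hincl U b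
  have hm : phiU x f φ hincl U (a * b) = phiU x f φ hincl U a * phiU x f φ hincl U b :=
    map_mul _ a b
  have hg : ((gA x f (D k)).app U).hom (a * b) =
      ((gA x f (D k)).app U).hom a * ((gA x f (D k)).app U).hom b := map_mul _ a b
  have hρ := rho_sq x ((gA x f (D k)) ⁻¹ᵁ U)
  apply sub_eq_zero.1
  apply eps_inj_g x f U
  rw [RingHom.map_sub, RingHom.map_add, RingHom.map_mul, RingHom.map_mul, gfst_fapp, gfst_fapp]
  linear_combination (-1 : Γ(XA x (D k), (gA x f (D k)) ⁻¹ᵁ U)) * hab + hm +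
    phiU x f φ hincl U b * ha +
    (((gA x f (D k)).app U).hom a + rho (trivB x (D k)) ((gA x f (D k)) ⁻¹ᵁ U) (epsD k).ε *
      gfst x f (D k) U (dd x f φ hincl U a)) * hb - hg +
    (gfst x f (D k) U (dd x f φ hincl U a) * gfst x f (D k) U (dd x f φ hincl U b)) * hρ

theorem dd_map (U V : Y.Opens) (h : V ≤ U) (s : Γ(Y, U)) :
    dd x f φ hincl V ((Y.presheaf.map (homOfLE h).op).hom s) =
      (X.presheaf.map (homOfLE (f.preimage_mono h)).op).hom (dd x f φ hincl U s) := by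
  have hs := claimB x f φ hincl U s
  have hs' := claimB x f φ hincl V ((Y.presheaf.map (homOfLE h).op).hom s)
  have hφ : phiU x f φ hincl V ((Y.presheaf.map (homOfLE h).op).hom s) =
      ((XA x (D k)).presheaf.map (homOfLE ((gA x f (D k)).preimage_mono h)).op).hom
        (phiU x f φ hincl U s) :=
    appLE_res φ h ((gA x f (D k)).preimage_mono h) (hle x f φ hincl U) (hle x f φ hincl V) s
  have hg : ((gA x f (D k)).app V).hom ((Y.presheaf.map (homOfLE h).op).hom s) =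
      ((XA x (D k)).presheaf.map (homOfLE ((gA x f (D k)).preimage_mono h)).op).hom
        (((gA x f (D k)).app U).hom s) := app_map (gA x f (D k)) h s
  have hres := congrArg
    (((XA x (D k)).presheaf.map (homOfLE ((gA x f (D k)).preimage_mono h)).op).hom) hs
  rw [map_add, map_mul, rho_res x (D k) ((gA x f (D k)).preimage_mono h),
    ← gfst_map x f (D k) h] at hres
  apply sub_eq_zero.1
  apply eps_inj_g x f V
  rw [RingHom.map_sub]
  linear_combination (-1 : Γ(XA x (D k), (gA x f (D k)) ⁻¹ᵁ V)) * hs' + hres + hφ - hg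

include hf hφy in
theorem dd_app (V : (specPt k).Opens) (c : Γ(specPt k, V)) :
    dd x f φ hincl (yY ⁻¹ᵁ V) ((yY.app V).hom c) = 0 := by
  have hc := claimB x f φ hincl (yY ⁻¹ᵁ V) ((yY.app V).hom c)
  have hgy : gA x f (D k) ≫ yY = pullback.fst x (specOver (D k)) ≫ x := by
    rw [Category.assoc, hf]
  have e0 : (gA x f (D k)) ⁻¹ᵁ (yY ⁻¹ᵁ V) ≤ (φ ≫ yY) ⁻¹ᵁ V := hle x f φ hincl (yY ⁻¹ᵁ V)
  have h1 : phiU x f φ hincl (yY ⁻¹ᵁ V) ((yY.app V).hom c) =
      ((φ ≫ yY).appLE V ((gA x f (D k)) ⁻¹ᵁ (yY ⁻¹ᵁ V)) e0).hom c :=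
    (congrArg (fun m => m.hom c) (Scheme.Hom.comp_appLE φ yY V _ e0)).symm
  have h2 : ((gA x f (D k)).app (yY ⁻¹ᵁ V)).hom ((yY.app V).hom c) =
      ((gA x f (D k) ≫ yY).appLE V ((gA x f (D k)) ⁻¹ᵁ (yY ⁻¹ᵁ V)) le_rfl).hom c := by
    have h3 := congrArg (fun m => m.hom c)
      (Scheme.Hom.comp_appLE (gA x f (D k)) yY V ((gA x f (D k)) ⁻¹ᵁ (yY ⁻¹ᵁ V)) le_rfl)
    have h4 : ((gA x f (D k)).appLE (yY ⁻¹ᵁ V) ((gA x f (D k)) ⁻¹ᵁ (yY ⁻¹ᵁ V)) le_rfl).hom
        ((yY.app V).hom c) = ((gA x f (D k)).app (yY ⁻¹ᵁ V)).hom ((yY.app V).hom c) :=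
      congrArg (fun m => m.hom ((yY.app V).hom c))
        (Scheme.Hom.appLE_eq_app (gA x f (D k)) (U := yY ⁻¹ᵁ V))
    exact h4.symm.trans h3.symm
  have h5 : ((φ ≫ yY).appLE V ((gA x f (D k)) ⁻¹ᵁ (yY ⁻¹ᵁ V)) e0).hom c =
      ((gA x f (D k) ≫ yY).appLE V ((gA x f (D k)) ⁻¹ᵁ (yY ⁻¹ᵁ V)) le_rfl).hom c :=
    congrArg (fun m => m.hom c) (appLE_of_eq (hφy.trans hgy.symm) V _ e0)
  have h6 : rho (trivB x (D k)) ((gA x f (D k)) ⁻¹ᵁ (yY ⁻¹ᵁ V)) (epsD k).ε *
      gfst x f (D k) (yY ⁻¹ᵁ V) (dd x f φ hincl (yY ⁻¹ᵁ V) ((yY.app V).hom c)) = 0 := by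
    linear_combination (-1 : Γ(XA x (D k), (gA x f (D k)) ⁻¹ᵁ (yY ⁻¹ᵁ V))) * hc + h1 + h5 - h2
  exact eps_inj_g x f (yY ⁻¹ᵁ V) _ h6

/-- the derivation attached to `φ`. -/
noncomputable def sderOf : SDer f yY where
  d := dd x f φ hincl
  d_mul := dd_mul x f φ hincl
  d_map := dd_map x f φ hincl
  d_app := dd_app x f hf φ hincl hφy

/-- **every first-order deformation of `f` is `f + ε δ`**. -/
theorem phi_eq_Phi1 :
    φ = Phi1 x (D k) (epsD k).ε (epsD k).sq (sderOf x f hf φ hincl hφy) := by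
  apply hom_ext_of_appLE' φ (Phi1 x (D k) (epsD k).ε (epsD k).sq (sderOf x f hf φ hincl hφy))
    (phi_apply x f φ hincl)
  intro U W _ _ e₁ e₂ s
  have e₂' : W ≤ (gA x f (D k)) ⁻¹ᵁ U := e₂
  have h1 : (φ.appLE U W e₁).hom s =
      ((XA x (D k)).presheaf.map (homOfLE e₂').op).hom (phiU x f φ hincl U s) :=
    (appLE_map_apply φ (hle x f φ hincl U) e₂' s).symm
  have h2 : phiU x f φ hincl U s =
      ((Phi1 x (D k) (epsD k).ε (epsD k).sq (sderOf x f hf φ hincl hφy)).app U).hom s := by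
    have h9 : ((Phi1 x (D k) (epsD k).ε (epsD k).sq (sderOf x f hf φ hincl hφy)).app U).hom s =
        ((gA x f (D k)).app U).hom s + DD x (D k) (epsD k).ε 0 (sderOf x f hf φ hincl hφy)
          (sderOf x f hf φ hincl hφy) U s := rfl
    rw [h9, claimB, DD_apply, map_zero, zero_mul, add_zero]
    rfl
  rw [h1, h2]
  rfl

include hf hincl hφy in
theorem exists_sder : ∃ δ : SDer f yY, φ = Phi1 x (D k) (epsD k).ε (epsD k).sq δ :=
  ⟨sderOf x f hf φ hincl hφy, phi_eq_Phi1 x f hf φ hincl hφy⟩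

end K2

end Groth.Agent.Helper3.HomTan
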