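import Mathlib
import Groth.Prelude.Def_KLin
import Groth.Agent.Lib.Lead.OmU13d
import Groth.Agent.Lib.Helper9.TanStr
import Groth.Agent.Lib.Helper3.ArtFunN
import Groth.Agent.Lib.Helper3.SchlF
import Groth.Agent.Lib.Helper3.HilbLinC
import Groth.Agent.Lib.Helper3.HilbCotA
import Groth.Agent.Lib.Helper3.HilbCotB
import Groth.Agent.Lib.Helper3.HilbCotC
import Groth.Agent.Lib.Helper3.HomTanC

/-! The Zariski tangent space of a scheme representing the functor of morphisms `X ⟶ Y` at the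
point `[f]` is `Hom(Ω_Y, f_* O_X) = H⁰(X, f^* T_Y)` (helper3). -/

set_option autoImplicit false
set_option linter.style.haveILetI false
universe u
open CategoryTheory CategoryTheory.Limits AlgebraicGeometry TopologicalSpace Opposite
  MonoidalCategory CartesianMonoidalCategory

set_option backward.isDefEq.respectTransparency.types false
set_option synthInstance.maxHeartbeats 400000
set_option maxHeartbeats 4000000

attribute [local instance] HasDerivedCategory.standard

namespace Groth.Agent.Helper3.HomTan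

open ArtFun ArtFun.Art OmegaSh Groth.Agent.Helper3.DerAut Groth.Agent.Helper3.HilbRig
  Groth.Agent.Helper3.HilbTan Groth.Agent.Helper3.HilbLin Groth.Agent.Helper3.HilbCot
  Groth.Agent.Lead.DerU

section Gen

variable {k : Type u} [Field k] (H : Over (Spec (CommRingCat.of k)))
  (h : Over.mk (𝟙 (Spec (CommRingCat.of k))) ⟶ H)
  [Algebra k (H.left.presheaf.stalk (ptH H h))]
  (halg : algebraMap k (H.left.presheaf.stalk (ptH H h)) = (aH H h).hom)

/-- a morphism `Spec A ⟶ H` over `k` with closed point `h` comes from a local homomorphism. -/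
theorem exists_gOf_eq (A : Art k k) (g : Over.mk (specOver A) ⟶ H) (hk : rA A ≫ g = h) :
    ∃ z : HomSet (H.left.presheaf.stalk (ptH H h)) (resH H h halg) A, gOf H h halg A z = g := by
  have hleft : specRes A ≫ g.left = h.left := congrArg (fun t => t.left) hk
  have hpt : g.left.base (IsLocalRing.closedPoint A) = ptH H h := by
    haveI : IsLocalHom (CommRingCat.ofHom A.res.toRingHom).hom :=
      ⟨fun a ha => (Art.isLocalHom (toBase A)).map_nonunit a ha⟩
    have e1 : (specRes A).base (IsLocalRing.closedPoint k) = IsLocalRing.closedPoint A :=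
      Spec_closedPoint (f := CommRingCat.ofHom A.res.toRingHom)
    have e2 : (specRes A ≫ g.left).base (IsLocalRing.closedPoint k) =
        h.left.base (IsLocalRing.closedPoint k) := by rw [hleft]
    exact (congrArg (fun x => g.left.base x) e1).symm.trans e2
  obtain ⟨φ, hφ⟩ := exists_of_point (A := CommRingCat.of A) (X := H.left) g.left (ptH H h) hpt
  have hφalg : aH H h ≫ φ = CommRingCat.ofHom (algebraMap k A) := by
    apply Spec.map_injective
    rw [Spec.map_comp, map_aH, ← Category.assoc, hφ]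
    exact Over.w g
  have hφres : φ ≫ CommRingCat.ofHom A.res.toRingHom = ρH H h := by
    apply Spec.map_injective
    apply (cancel_mono (H.left.fromSpecStalk (ptH H h))).1
    rw [Spec.map_comp, Category.assoc, hφ, map_ρH]
    exact hleft
  let φa : H.left.presheaf.stalk (ptH H h) →ₐ[k] A :=
    { φ.hom with
      commutes' := fun c => by
        have e1 : φ.hom ((aH H h).hom c) = algebraMap k A c :=
          RingHom.congr_fun (congrArg CommRingCat.Hom.hom hφalg) c
        have e2 : algebraMap k (H.left.presheaf.stalk (ptH H h)) c = (aH H h).hom c :=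
          RingHom.congr_fun halg c
        exact (congrArg φ.hom e2).trans e1 }
  have hres : A.res.comp φa = resH H h halg := by
    apply AlgHom.ext
    intro r
    exact RingHom.congr_fun (congrArg CommRingCat.Hom.hom hφres) r
  refine ⟨⟨φa, hres⟩, ?_⟩
  apply Over.OverMorphism.ext
  show Spec.map (CommRingCat.ofHom φa.toRingHom) ≫ H.left.fromSpecStalk (ptH H h) = g.left
  exact hφ

theorem gOf_injective (A : Art k k) : Function.Injective (gOf H h halg A) := by
  intro φ φ' h2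
  have h3 : Spec.map (CommRingCat.ofHom φ.1.toRingHom) ≫ H.left.fromSpecStalk (ptH H h) =
      Spec.map (CommRingCat.ofHom φ'.1.toRingHom) ≫ H.left.fromSpecStalk (ptH H h) :=
    congrArg (fun t => t.left) h2
  have h4 := Spec.map_injective ((cancel_mono (H.left.fromSpecStalk (ptH H h))).1 h3)
  apply Subtype.ext
  apply AlgHom.ext
  intro r
  exact RingHom.congr_fun (congrArg CommRingCat.Hom.hom h4) r

end Gen

section Whisker

variable {k : Type u} [Field k] {X : Scheme.{u}} (x : X ⟶ Spec (CommRingCat.of k))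

theorem whisker_uO {A B : Art k k} (u : A ⟶ B) : (Over.mk x ◁ uO u).left = XAmap x u := by
  refine pullback.hom_ext ?_ ?_
  · show (Over.mk x ◁ uO u).left ≫ pullback.fst (Over.mk x).hom (Over.mk (specOver A)).hom =
      XAmap x u ≫ pullback.fst x (specOver A)
    rw [Over.whiskerLeft_left_fst, XAmap_fst]
    rfl
  · show (Over.mk x ◁ uO u).left ≫ pullback.snd (Over.mk x).hom (Over.mk (specOver A)).hom =
      XAmap x u ≫ XApr x A
    rw [Over.whiskerLeft_left_snd, XAmap_snd]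
    rfl

theorem whisker_rA (A : Art k k) :
    (Over.mk x ◁ rA A).left =
      pullback.fst x (𝟙 (Spec (CommRingCat.of k))) ≫ XAincl x A := by
  refine pullback.hom_ext ?_ ?_
  · show (Over.mk x ◁ rA A).left ≫ pullback.fst (Over.mk x).hom (Over.mk (specOver A)).hom =
      (pullback.fst x (𝟙 (Spec (CommRingCat.of k))) ≫ XAincl x A) ≫ pullback.fst x (specOver A)
    rw [Over.whiskerLeft_left_fst, Category.assoc, XAincl_fst, Category.comp_id]
    rfl
  · show (Over.mk x ◁ rA A).left ≫ pullback.snd (Over.mk x).hom (Over.mk (specOver A)).hom =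
      (pullback.fst x (𝟙 (Spec (CommRingCat.of k))) ≫ XAincl x A) ≫ XApr x A
    rw [Over.whiskerLeft_left_snd, Category.assoc, XAincl_snd, ← Category.assoc,
      pullback.condition, Category.assoc]
    exact congrArg (fun t => pullback.snd x (𝟙 (Spec (CommRingCat.of k))) ≫ t)
      (Category.id_comp (specRes A)).symm

end Whisker

section Rep

variable {k : Type u} [Field k] {X Y : Scheme.{u}} (x : X ⟶ Spec (CommRingCat.of k))
  (yY : Y ⟶ Spec (CommRingCat.of k)) (M : Over (Spec (CommRingCat.of k)))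
  (υ : Over.mk x ⊗ M ⟶ Over.mk yY)
  (hM : ∀ (T : Over (Spec (CommRingCat.of k))) (φ : Over.mk x ⊗ T ⟶ Over.mk yY),
    ∃! a : T ⟶ M, (Over.mk x ◁ a) ≫ υ = φ)
  (f : X ⟶ Y) (hf : f ≫ yY = x)
  (af : Over.mk (𝟙 (Spec (CommRingCat.of k))) ⟶ M)
  (haf : (Over.mk x ◁ af) ≫ υ =
    (ρ_ (Over.mk x)).hom ≫ (Over.homMk f hf : Over.mk x ⟶ Over.mk yY))
  [Algebra k (M.left.presheaf.stalk (ptH M af))]
  (halg : algebraMap k (M.left.presheaf.stalk (ptH M af)) = (aH M af).hom)

/-- the morphism `X ×_k Spec A ⟶ Y` classified by a point of `h_R(A)`. -/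
noncomputable def toPhi (A : Art k k)
    (z : HomSet (M.left.presheaf.stalk (ptH M af)) (resH M af halg) A) : XA x A ⟶ Y :=
  ((Over.mk x ◁ gOf M af halg A z) ≫ υ).left

theorem toPhi_yY (A : Art k k)
    (z : HomSet (M.left.presheaf.stalk (ptH M af)) (resH M af halg) A) :
    toPhi x yY M υ af halg A z ≫ yY = pullback.fst x (specOver A) ≫ x :=
  Over.w ((Over.mk x ◁ gOf M af halg A z) ≫ υ)

theorem toPhi_map {A B : Art k k} (u : A ⟶ B)
    (z : HomSet (M.left.presheaf.stalk (ptH M af)) (resH M af halg) A) :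
    toPhi x yY M υ af halg B (HomSet.map u z) = XAmap x u ≫ toPhi x yY M υ af halg A z := by
  show ((Over.mk x ◁ gOf M af halg B (HomSet.map u z)) ≫ υ).left =
    XAmap x u ≫ ((Over.mk x ◁ gOf M af halg A z) ≫ υ).left
  rw [gOf_map, MonoidalCategory.whiskerLeft_comp, Category.assoc, ← whisker_uO]
  rfl

include haf in
theorem incl_toPhi (A : Art k k)
    (z : HomSet (M.left.presheaf.stalk (ptH M af)) (resH M af halg) A) :
    XAincl x A ≫ toPhi x yY M υ af halg A z = f := by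
  have h1 : rA A ≫ gOf M af halg A z = af := rA_gOf M af halg A z
  have h2 : (Over.mk x ◁ rA A) ≫ (Over.mk x ◁ gOf M af halg A z) ≫ υ =
      (ρ_ (Over.mk x)).hom ≫ (Over.homMk f hf : Over.mk x ⟶ Over.mk yY) := by
    rw [← Category.assoc, ← MonoidalCategory.whiskerLeft_comp, h1]
    exact haf
  have h3 : (Over.mk x ◁ rA A).left ≫ toPhi x yY M υ af halg A z =
      pullback.fst x (𝟙 (Spec (CommRingCat.of k))) ≫ f :=
    congrArg (fun m => m.left) h2
  rw [whisker_rA, Category.assoc] at h3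
  exact (cancel_epi (pullback.fst x (𝟙 (Spec (CommRingCat.of k))))).1 h3

include hM in
theorem toPhi_injective (A : Art k k) :
    Function.Injective (toPhi x yY M υ af halg A) := by
  intro z z' h
  have h1 : (Over.mk x ◁ gOf M af halg A z) ≫ υ = (Over.mk x ◁ gOf M af halg A z') ≫ υ :=
    Over.OverMorphism.ext h
  have h2 : gOf M af halg A z = gOf M af halg A z' :=
    (hM (Over.mk (specOver A)) ((Over.mk x ◁ gOf M af halg A z) ≫ υ)).unique rfl h1.symm
  exact gOf_injective M af halg A h2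

include hM haf in
theorem toPhi_surjective (A : Art k k) (φ : XA x A ⟶ Y)
    (hφy : φ ≫ yY = pullback.fst x (specOver A) ≫ x) (hincl : XAincl x A ≫ φ = f) :
    ∃ z, toPhi x yY M υ af halg A z = φ := by
  obtain ⟨a, ha, -⟩ := hM (Over.mk (specOver A))
    (Over.homMk φ hφy : Over.mk x ⊗ Over.mk (specOver A) ⟶ Over.mk yY)
  have ha' : (Over.mk x ◁ a) ≫ υ =
      (Over.homMk φ hφy : Over.mk x ⊗ Over.mk (specOver A) ⟶ Over.mk yY) := ha
  have hk : rA A ≫ a = af := by
    have e1 : (Over.mk x ◁ (rA A ≫ a)) ≫ υ = (Over.mk x ◁ af) ≫ υ := by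
      rw [MonoidalCategory.whiskerLeft_comp, Category.assoc, ha', haf]
      apply Over.OverMorphism.ext
      show (Over.mk x ◁ rA A).left ≫ φ = pullback.fst x (𝟙 (Spec (CommRingCat.of k))) ≫ f
      rw [whisker_rA, Category.assoc, hincl]
    exact (hM (Over.mk (𝟙 (Spec (CommRingCat.of k)))) ((Over.mk x ◁ af) ≫ υ)).unique e1 rfl
  obtain ⟨z, hz⟩ := exists_gOf_eq M af halg A a hk
  refine ⟨z, ?_⟩
  show ((Over.mk x ◁ gOf M af halg A z) ≫ υ).left = φ
  rw [hz, ha']
  rfl

end Rep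

section PhiCalc

variable {k : Type u} [Field k] {X Y : Scheme.{u}} (x : X ⟶ specPt k) {f : X ⟶ Y}
  {yY : Y ⟶ specPt k}

theorem res_eps : (D k).res (epsD k).ε = 0 := rfl

theorem res_e1 : (D2 k).res (e1 k) = 0 := rfl

theorem res_e2 : (D2 k).res (e2 k) = 0 := rfl

theorem scale_Phi1 (c : k) (δ γ : SDer f yY)
    (hγ : ∀ (U : Y.Opens) (s : Γ(Y, U)), γ.d U s = kap x (f ⁻¹ᵁ U) c * δ.d U s) :
    XAmap x (sc k c) ≫ Phi1 x (D k) (epsD k).ε (epsD k).sq δ =
      Phi1 x (D k) (epsD k).ε (epsD k).sq γ := by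
  have h11' : (sc k c) (epsD k).ε * (sc k c) (epsD k).ε = 0 := by
    rw [← map_mul, (epsD k).sq, map_zero]
  have h12' : (sc k c) (epsD k).ε * (sc k c) (0 : D k) = 0 := by rw [map_zero, mul_zero]
  have h22' : (sc k c) (0 : D k) * (sc k c) (0 : D k) = 0 := by rw [map_zero, mul_zero]
  have hca : (algebraMap k (D k) c * (epsD k).ε) * (algebraMap k (D k) c * (epsD k).ε) = 0 := by
    rw [mul_mul_mul_comm, (epsD k).sq, mul_zero]
  have h1 := XAmap_Phi x (sc k c) (epsD k).ε 0 δ δ (epsD k).sq (mul_zero _) (mul_zero 0)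
    h11' h12' h22'
  have h2 := Phi_congr_elt x (D k) ((sc k c) (epsD k).ε) ((sc k c) (0 : D k)) δ δ h11' h12' h22'
    (scale_eps k c) (map_zero (sc k c).toAlgHom) hca (mul_zero _) (mul_zero 0)
  exact h1.trans (h2.trans (Phi_scale x (D k) (epsD k).ε (epsD k).sq c hca δ γ hγ))

theorem p1_Phi (δ₁ δ₂ : SDer f yY) :
    XAmap x (p1 k) ≫ Phi x (D2 k) (e1 k) (e2 k) δ₁ δ₂ (e1_mul_e1 k) (e1_mul_e2 k)
      (e2_mul_e2 k) = Phi1 x (D k) (epsD k).ε (epsD k).sq δ₁ := by
  have h11' : (p1 k) (e1 k) * (p1 k) (e1 k) = 0 := by rw [← map_mul, e1_mul_e1, map_zero]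
  have h12' : (p1 k) (e1 k) * (p1 k) (e2 k) = 0 := by rw [← map_mul, e1_mul_e2, map_zero]
  have h22' : (p1 k) (e2 k) * (p1 k) (e2 k) = 0 := by rw [← map_mul, e2_mul_e2, map_zero]
  have h1 := XAmap_Phi x (p1 k) (e1 k) (e2 k) δ₁ δ₂ (e1_mul_e1 k) (e1_mul_e2 k) (e2_mul_e2 k)
    h11' h12' h22'
  have h2 := Phi_congr_elt x (D k) ((p1 k) (e1 k)) ((p1 k) (e2 k)) δ₁ δ₂ h11' h12' h22'
    (p1_e1 k) (p1_e2 k) (epsD k).sq (mul_zero _) (mul_zero 0)
  exact h1.trans (h2.trans (Phi_left x (D k) (epsD k).ε (epsD k).sq δ₁ δ₂))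

theorem p2_Phi (δ₁ δ₂ : SDer f yY) :
    XAmap x (p2 k) ≫ Phi x (D2 k) (e1 k) (e2 k) δ₁ δ₂ (e1_mul_e1 k) (e1_mul_e2 k)
      (e2_mul_e2 k) = Phi1 x (D k) (epsD k).ε (epsD k).sq δ₂ := by
  have h11' : (p2 k) (e1 k) * (p2 k) (e1 k) = 0 := by rw [← map_mul, e1_mul_e1, map_zero]
  have h12' : (p2 k) (e1 k) * (p2 k) (e2 k) = 0 := by rw [← map_mul, e1_mul_e2, map_zero]
  have h22' : (p2 k) (e2 k) * (p2 k) (e2 k) = 0 := by rw [← map_mul, e2_mul_e2, map_zero]
  have h1 := XAmap_Phi x (p2 k) (e1 k) (e2 k) δ₁ δ₂ (e1_mul_e1 k) (e1_mul_e2 k) (e2_mul_e2 k)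
    h11' h12' h22'
  have h2 := Phi_congr_elt x (D k) ((p2 k) (e1 k)) ((p2 k) (e2 k)) δ₁ δ₂ h11' h12' h22'
    (p2_e1 k) (p2_e2 k) (mul_zero 0) (zero_mul _) (epsD k).sq
  exact h1.trans (h2.trans (Phi_right x (D k) (epsD k).ε (epsD k).sq δ₁ δ₂))

theorem pp_Phi (δ₁ δ₂ γ : SDer f yY)
    (hγ : ∀ (U : Y.Opens) (s : Γ(Y, U)), γ.d U s = δ₁.d U s + δ₂.d U s) :
    XAmap x (pp k) ≫ Phi x (D2 k) (e1 k) (e2 k) δ₁ δ₂ (e1_mul_e1 k) (e1_mul_e2 k)
      (e2_mul_e2 k) = Phi1 x (D k) (epsD k).ε (epsD k).sq γ := by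
  have h11' : (pp k) (e1 k) * (pp k) (e1 k) = 0 := by rw [← map_mul, e1_mul_e1, map_zero]
  have h12' : (pp k) (e1 k) * (pp k) (e2 k) = 0 := by rw [← map_mul, e1_mul_e2, map_zero]
  have h22' : (pp k) (e2 k) * (pp k) (e2 k) = 0 := by rw [← map_mul, e2_mul_e2, map_zero]
  have h1 := XAmap_Phi x (pp k) (e1 k) (e2 k) δ₁ δ₂ (e1_mul_e1 k) (e1_mul_e2 k) (e2_mul_e2 k)
    h11' h12' h22'
  have h2 := Phi_congr_elt x (D k) ((pp k) (e1 k)) ((pp k) (e2 k)) δ₁ δ₂ h11' h12' h22'
    (pp_e1 k) (pp_e2 k) (epsD k).sq (epsD k).sq (epsD k).sq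
  exact h1.trans (h2.trans (Phi_diag x (D k) (epsD k).ε (epsD k).sq δ₁ δ₂ γ hγ))

theorem app_kap (f : X ⟶ Y) (yY : Y ⟶ specPt k) (hf : f ≫ yY = x) (U : Y.Opens) (c : k) :
    (f.app U).hom (kap yY U c) = kap x (f ⁻¹ᵁ U) c := by
  have h1 : (f.app U).hom (kap yY U c) =
      (X.presheaf.map (homOfLE (f.preimage_mono (le_top : U ≤ ⊤))).op).hom
        ((f.app ⊤).hom (kapTop yY c)) := app_map f le_top _
  have h2 : yY.appTop ≫ f.appTop = x.appTop := by
    rw [← Scheme.Hom.comp_appTop, hf]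
  have h3 : (f.app ⊤).hom (kapTop yY c) = kapTop x c :=
    congrArg (fun m => m.hom ((Scheme.ΓSpecIso (CommRingCat.of k)).inv.hom c)) h2
  rw [h1, h3]
  rfl

end PhiCalc

end Groth.Agent.Helper3.HomTan
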