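import Mathlib
import Groth.Agent.Lib.Helper3.HomTanD

/-! The Zariski tangent space of a scheme representing the functor of morphisms `X ⟶ Y` at the
point `[f]` has the dimension of `H⁰(X, Hom(f^* Ω_Y, O_X))` (helper3): assembly. -/

set_option autoImplicit false
set_option linter.style.haveILetI false
universe u
open CategoryTheory CategoryTheory.Limits AlgebraicGeometry TopologicalSpace Opposite
  MonoidalCategory CartesianMonoidalCategory

set_option backward.isDefEq.respectTransparency.types false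
set_option synthInstance.maxHeartbeats 400000
set_option maxHeartbeats 4000000

attribute [local instance] HasDerivedCategory.standard

namespace Groth.Agent.Helper3.HomTan

open ArtFun ArtFun.Art OmegaSh Groth.Agent.Helper3.DerAut Groth.Agent.Helper3.HilbRig
  Groth.Agent.Helper3.HilbTan Groth.Agent.Helper3.HilbLin Groth.Agent.Helper3.HilbCot
  Groth.Agent.Lead.DerU

section Chain

variable {k : Type u} [Field k] {X Y : Scheme.{u}} [X.Over (Spec (CommRingCat.of k))]
  [Y.Over (Spec (CommRingCat.of k))] (f : X ⟶ Y) (Ω : Y.Modules)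
  [DCoh.HasSheafHom ((Scheme.Modules.pullback f).obj Ω)]

/-- step 3 of the chain. -/
noncomputable def c3 (g : Coh.structureModule X ⟶
    (DCoh.sheafHom ((Scheme.Modules.pullback f).obj Ω)).obj (Coh.structureModule X)) :
    (DCoh.tensorBi.obj ((Scheme.Modules.pullback f).obj Ω)).obj (Coh.structureModule X) ⟶
      Coh.structureModule X :=
  ((DCoh.sheafHomAdj ((Scheme.Modules.pullback f).obj Ω)).homEquiv (Coh.structureModule X)
    (Coh.structureModule X)).symm g

/-- step 4 of the chain. -/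
noncomputable def c4 (g : (DCoh.tensorBi.obj ((Scheme.Modules.pullback f).obj Ω)).obj
    (Coh.structureModule X) ⟶ Coh.structureModule X) :
    (Scheme.Modules.pullback f).obj Ω ⟶ Coh.structureModule X :=
  (tensorUnitIso ((Scheme.Modules.pullback f).obj Ω)).inv ≫ g

/-- step 5 of the chain. -/
noncomputable def c5 (g : (Scheme.Modules.pullback f).obj Ω ⟶ Coh.structureModule X) :
    Ω ⟶ (Scheme.Modules.pushforward f).obj (Coh.structureModule X) :=
  ((Scheme.Modules.pullbackPushforwardAdjunction f).homEquiv Ω (Coh.structureModule X)) g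

/-- `H⁰(X, Hom(f^* Ω, O_X)) ≃ Hom(Ω, f_* O_X)`. -/
noncomputable def chainEquiv :
    Coh.HH X ((DCoh.sheafHom ((Scheme.Modules.pullback f).obj Ω)).obj (Coh.structureModule X)) 0 ≃
      (Ω ⟶ (Scheme.Modules.pushforward f).obj (Coh.structureModule X)) :=
  (Groth.Agent.Helper1.HH0.equiv X
      ((DCoh.sheafHom ((Scheme.Modules.pullback f).obj Ω)).obj
        (Coh.structureModule X))).toEquiv.trans
    ((secEquiv ((DCoh.sheafHom ((Scheme.Modules.pullback f).obj Ω)).obj
        (Coh.structureModule X))).symm.trans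
      (((DCoh.sheafHomAdj ((Scheme.Modules.pullback f).obj Ω)).homEquiv (Coh.structureModule X)
          (Coh.structureModule X)).symm.trans
        ((tensorUnitIso ((Scheme.Modules.pullback f).obj Ω)).homFromEquiv.trans
          ((Scheme.Modules.pullbackPushforwardAdjunction f).homEquiv Ω
            (Coh.structureModule X)))))

theorem chainEquiv_eq (t : Coh.HH X ((DCoh.sheafHom ((Scheme.Modules.pullback f).obj Ω)).obj
    (Coh.structureModule X)) 0) :
    chainEquiv f Ω t = c5 f Ω (c4 f Ω (c3 f Ω (g12 _ t))) := rfl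

theorem c3_add (g g' : Coh.structureModule X ⟶
    (DCoh.sheafHom ((Scheme.Modules.pullback f).obj Ω)).obj (Coh.structureModule X)) :
    c3 f Ω (g + g') = c3 f Ω g + c3 f Ω g' :=
  sh_symm_add ((Scheme.Modules.pullback f).obj Ω) _ _ g g'

theorem c3_smul (a : k) (g : Coh.structureModule X ⟶
    (DCoh.sheafHom ((Scheme.Modules.pullback f).obj Ω)).obj (Coh.structureModule X)) :
    c3 f Ω (a • g) = a • c3 f Ω g :=
  sh_symm_smul ((Scheme.Modules.pullback f).obj Ω) _ _ a g

theorem c4_add (g g' : (DCoh.tensorBi.obj ((Scheme.Modules.pullback f).obj Ω)).obj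
    (Coh.structureModule X) ⟶ Coh.structureModule X) :
    c4 f Ω (g + g') = c4 f Ω g + c4 f Ω g' :=
  Preadditive.comp_add _ _ _ _ _ _

theorem c4_smul (a : k) (g : (DCoh.tensorBi.obj ((Scheme.Modules.pullback f).obj Ω)).obj
    (Coh.structureModule X) ⟶ Coh.structureModule X) :
    c4 f Ω (a • g) = a • c4 f Ω g :=
  comp_smul' _ a g

theorem c5_add (g g' : (Scheme.Modules.pullback f).obj Ω ⟶ Coh.structureModule X) :
    c5 f Ω (g + g') = c5 f Ω g + c5 f Ω g' := pp_add f _ _ g g'

theorem c5_smul [f.IsOver (Spec (CommRingCat.of k))] (a : k)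
    (g : (Scheme.Modules.pullback f).obj Ω ⟶ Coh.structureModule X) :
    c5 f Ω (a • g) = a • c5 f Ω g := pp_smul f _ _ a g

theorem chainEquiv_add (s t : Coh.HH X ((DCoh.sheafHom ((Scheme.Modules.pullback f).obj Ω)).obj
    (Coh.structureModule X)) 0) :
    chainEquiv f Ω (s + t) = chainEquiv f Ω s + chainEquiv f Ω t := by
  rw [chainEquiv_eq, chainEquiv_eq, chainEquiv_eq, g12_add, c3_add, c4_add, c5_add]

theorem chainEquiv_smul [f.IsOver (Spec (CommRingCat.of k))] (a : k)
    (t : Coh.HH X ((DCoh.sheafHom ((Scheme.Modules.pullback f).obj Ω)).obj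
      (Coh.structureModule X)) 0) :
    chainEquiv f Ω (a • t) = a • chainEquiv f Ω t := by
  rw [chainEquiv_eq, chainEquiv_eq, g12_smul, c3_smul, c4_smul, c5_smul]

/-- `H⁰(X, Hom(f^* Ω, O_X)) ≃ Hom(Ω, f_* O_X)`, linearly. -/
noncomputable def chainLin [f.IsOver (Spec (CommRingCat.of k))] :
    Coh.HH X ((DCoh.sheafHom ((Scheme.Modules.pullback f).obj Ω)).obj
      (Coh.structureModule X)) 0 ≃ₗ[k]
      (Ω ⟶ (Scheme.Modules.pushforward f).obj (Coh.structureModule X)) :=
  { toFun := chainEquiv f Ω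
    map_add' := chainEquiv_add f Ω
    map_smul' := chainEquiv_smul f Ω
    invFun := (chainEquiv f Ω).symm
    left_inv := (chainEquiv f Ω).left_inv
    right_inv := (chainEquiv f Ω).right_inv }

end Chain

section Main

variable {k : Type u} [Field k] {X Y : Scheme.{u}} [Y.Over (Spec (CommRingCat.of k))]
  [QuasiSeparated (Y ↘ Spec (CommRingCat.of k))]
  (x : X ⟶ Spec (CommRingCat.of k)) (M : Over (Spec (CommRingCat.of k)))
  (υ : Over.mk x ⊗ M ⟶ Over.mk (Y ↘ Spec (CommRingCat.of k)))
  (hM : ∀ (T : Over (Spec (CommRingCat.of k)))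
    (φ : Over.mk x ⊗ T ⟶ Over.mk (Y ↘ Spec (CommRingCat.of k))),
    ∃! a : T ⟶ M, (Over.mk x ◁ a) ≫ υ = φ)
  (f : X ⟶ Y) (hf : f ≫ (Y ↘ Spec (CommRingCat.of k)) = x)
  (af : Over.mk (𝟙 (Spec (CommRingCat.of k))) ⟶ M)
  (haf : (Over.mk x ◁ af) ≫ υ = (ρ_ (Over.mk x)).hom ≫
    (Over.homMk f hf : Over.mk x ⟶ Over.mk (Y ↘ Spec (CommRingCat.of k))))
  [Algebra k (M.left.presheaf.stalk (ptH M af))]
  (halg : algebraMap k (M.left.presheaf.stalk (ptH M af)) = (aH M af).hom)

/-- the sectionwise derivation of a homomorphism `Ω_Y ⟶ f_* O_X`. -/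
noncomputable def sd (α : Omega.sheaf (Y ↘ Spec (CommRingCat.of k)) ⟶
    (Scheme.Modules.pushforward f).obj (Coh.structureModule X)) :
    SDer f (Y ↘ Spec (CommRingCat.of k)) :=
  SDer.ofDer ((dOmega (Y ↘ Spec (CommRingCat.of k))).postcomp α.val)

theorem sd_add (α β : Omega.sheaf (Y ↘ Spec (CommRingCat.of k)) ⟶
    (Scheme.Modules.pushforward f).obj (Coh.structureModule X)) (U : Y.Opens) (s : Γ(Y, U)) :
    (sd f (α + β)).d U s = (sd f α).d U s + (sd f β).d U s := rfl

include hf in
theorem sd_smul (c : k) (α : Omega.sheaf (Y ↘ Spec (CommRingCat.of k)) ⟶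
    (Scheme.Modules.pushforward f).obj (Coh.structureModule X)) (U : Y.Opens) (s : Γ(Y, U)) :
    (sd f (c • α)).d U s = kap x (f ⁻¹ᵁ U) c * (sd f α).d U s := by
  have h1 := KLin.smul_app_apply c α U ((dOmega (Y ↘ Spec (CommRingCat.of k))).app U s)
  have h2 : (sd f (c • α)).d U s = fnSect X _ (pushSect f _ U
      ((c • α).app U ((dOmega (Y ↘ Spec (CommRingCat.of k))).app U s))) := rfl
  rw [h2, h1, ← app_kap x f (Y ↘ Spec (CommRingCat.of k)) hf U c]
  rfl

include hM haf in
theorem exists_tan (α : Omega.sheaf (Y ↘ Spec (CommRingCat.of k)) ⟶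
    (Scheme.Modules.pushforward f).obj (Coh.structureModule X)) :
    ∃ z : HomSet (M.left.presheaf.stalk (ptH M af)) (resH M af halg) (D k),
      toPhi x (Y ↘ Spec (CommRingCat.of k)) M υ af halg (D k) z =
        Phi1 x (D k) (epsD k).ε (epsD k).sq (sd f α) :=
  toPhi_surjective x (Y ↘ Spec (CommRingCat.of k)) M υ hM f hf af haf halg (D k) _
    (Phi_yY x (D k) (epsD k).ε 0 (sd f α) (sd f α) (epsD k).sq (mul_zero _) (mul_zero 0) hf)
    (XAincl_Phi x (D k) (epsD k).ε 0 (sd f α) (sd f α) (epsD k).sq (mul_zero _) (mul_zero 0)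
      res_eps (map_zero _))

/-- the tangent vector of a homomorphism `Ω_Y ⟶ f_* O_X`. -/
noncomputable def tanMap (α : Omega.sheaf (Y ↘ Spec (CommRingCat.of k)) ⟶
    (Scheme.Modules.pushforward f).obj (Coh.structureModule X)) :
    TangentSpace (hR (M.left.presheaf.stalk (ptH M af)) (resH M af halg)) :=
  Classical.choose (exists_tan x M υ hM f hf af haf halg α)

theorem tanMap_spec (α : Omega.sheaf (Y ↘ Spec (CommRingCat.of k)) ⟶
    (Scheme.Modules.pushforward f).obj (Coh.structureModule X)) :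
    toPhi x (Y ↘ Spec (CommRingCat.of k)) M υ af halg (D k)
        (tanMap x M υ hM f hf af haf halg α) =
      Phi1 x (D k) (epsD k).ε (epsD k).sq (sd f α) :=
  Classical.choose_spec (exists_tan x M υ hM f hf af haf halg α)

theorem tanMap_injective : Function.Injective (tanMap x M υ hM f hf af haf halg) := by
  intro α β h
  have h1 : Phi1 x (D k) (epsD k).ε (epsD k).sq (sd f α) =
      Phi1 x (D k) (epsD k).ε (epsD k).sq (sd f β) :=
    (tanMap_spec x M υ hM f hf af haf halg α).symm.trans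
      ((congrArg (toPhi x (Y ↘ Spec (CommRingCat.of k)) M υ af halg (D k)) h).trans
        (tanMap_spec x M υ hM f hf af haf halg β))
  have h2 : sd f α = sd f β := Phi1_injective x _ _ h1
  have h3 : (dOmega (Y ↘ Spec (CommRingCat.of k))).postcomp α.val =
      (dOmega (Y ↘ Spec (CommRingCat.of k))).postcomp β.val := by
    apply der_ext
    intro U s
    have h4 := congrArg (fun δ : SDer f (Y ↘ Spec (CommRingCat.of k)) => δ.d U s) h2
    exact h4
  exact (Groth.Agent.Lead.OmU.isUniversal_dOmega (Y ↘ Spec (CommRingCat.of k)) _ _).unique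
    h3 rfl

theorem tanMap_surjective : Function.Surjective (tanMap x M υ hM f hf af haf halg) := by
  intro z
  obtain ⟨δ, hδ⟩ := exists_sder x f hf
    (toPhi x (Y ↘ Spec (CommRingCat.of k)) M υ af halg (D k) z)
    (incl_toPhi x (Y ↘ Spec (CommRingCat.of k)) M υ f hf af haf halg (D k) z)
    (toPhi_yY x (Y ↘ Spec (CommRingCat.of k)) M υ af halg (D k) z)
  obtain ⟨α, hα, -⟩ := Groth.Agent.Lead.OmU.isUniversal_dOmega
    (Y ↘ Spec (CommRingCat.of k)) _ δ.toDer
  have hα' : (dOmega (Y ↘ Spec (CommRingCat.of k))).postcomp α.val = δ.toDer := hα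
  have h1 : sd f α = δ := by
    show SDer.ofDer ((dOmega (Y ↘ Spec (CommRingCat.of k))).postcomp α.val) = δ
    rw [hα']
    exact SDer.ofDer_toDer δ
  refine ⟨α, ?_⟩
  apply toPhi_injective x (Y ↘ Spec (CommRingCat.of k)) M υ hM af halg (D k)
  rw [tanMap_spec, h1]
  exact hδ.symm

variable [T : TangentStr (hR (M.left.presheaf.stalk (ptH M af)) (resH M af halg))]

theorem tanMap_smul (c : k) (α : Omega.sheaf (Y ↘ Spec (CommRingCat.of k)) ⟶
    (Scheme.Modules.pushforward f).obj (Coh.structureModule X)) :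
    tanMap x M υ hM f hf af haf halg (c • α) = c • tanMap x M υ hM f hf af haf halg α := by
  have h1 : c • tanMap x M υ hM f hf af haf halg α =
      (hR (M.left.presheaf.stalk (ptH M af)) (resH M af halg)).map (sc k c)
        (tanMap x M υ hM f hf af haf halg α) :=
    T.smul_eq c (tanMap x M υ hM f hf af haf halg α)
  have h3 : tanMap x M υ hM f hf af haf halg (c • α) =
      (hR (M.left.presheaf.stalk (ptH M af)) (resH M af halg)).map (sc k c)
        (tanMap x M υ hM f hf af haf halg α) := by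
    apply toPhi_injective x (Y ↘ Spec (CommRingCat.of k)) M υ hM af halg (D k)
    show toPhi x (Y ↘ Spec (CommRingCat.of k)) M υ af halg (D k)
        (tanMap x M υ hM f hf af haf halg (c • α)) =
      toPhi x (Y ↘ Spec (CommRingCat.of k)) M υ af halg (D k)
        (HomSet.map (sc k c) (tanMap x M υ hM f hf af haf halg α))
    rw [toPhi_map, tanMap_spec, tanMap_spec]
    exact (scale_Phi1 x c (sd f α) (sd f (c • α)) (sd_smul x f hf c α)).symm
  exact h3.trans h1.symm

theorem tanMap_add (α β : Omega.sheaf (Y ↘ Spec (CommRingCat.of k)) ⟶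
    (Scheme.Modules.pushforward f).obj (Coh.structureModule X)) :
    tanMap x M υ hM f hf af haf halg (α + β) =
      tanMap x M υ hM f hf af haf halg α + tanMap x M υ hM f hf af haf halg β := by
  obtain ⟨w, hw⟩ := toPhi_surjective x (Y ↘ Spec (CommRingCat.of k)) M υ hM f hf af haf halg
    (D2 k)
    (Phi x (D2 k) (e1 k) (e2 k) (sd f α) (sd f β) (e1_mul_e1 k) (e1_mul_e2 k) (e2_mul_e2 k))
    (Phi_yY x (D2 k) (e1 k) (e2 k) (sd f α) (sd f β) (e1_mul_e1 k) (e1_mul_e2 k)
      (e2_mul_e2 k) hf)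
    (XAincl_Phi x (D2 k) (e1 k) (e2 k) (sd f α) (sd f β) (e1_mul_e1 k) (e1_mul_e2 k)
      (e2_mul_e2 k) res_e1 res_e2)
  have h4 := T.add_eq w
  have e1' : (hR (M.left.presheaf.stalk (ptH M af)) (resH M af halg)).map (p1 k) w =
      tanMap x M υ hM f hf af haf halg α := by
    apply toPhi_injective x (Y ↘ Spec (CommRingCat.of k)) M υ hM af halg (D k)
    show toPhi x (Y ↘ Spec (CommRingCat.of k)) M υ af halg (D k) (HomSet.map (p1 k) w) =
      toPhi x (Y ↘ Spec (CommRingCat.of k)) M υ af halg (D k)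
        (tanMap x M υ hM f hf af haf halg α)
    rw [toPhi_map, hw, tanMap_spec]
    exact p1_Phi x (sd f α) (sd f β)
  have e2' : (hR (M.left.presheaf.stalk (ptH M af)) (resH M af halg)).map (p2 k) w =
      tanMap x M υ hM f hf af haf halg β := by
    apply toPhi_injective x (Y ↘ Spec (CommRingCat.of k)) M υ hM af halg (D k)
    show toPhi x (Y ↘ Spec (CommRingCat.of k)) M υ af halg (D k) (HomSet.map (p2 k) w) =
      toPhi x (Y ↘ Spec (CommRingCat.of k)) M υ af halg (D k)
        (tanMap x M υ hM f hf af haf halg β)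
    rw [toPhi_map, hw, tanMap_spec]
    exact p2_Phi x (sd f α) (sd f β)
  have e3' : (hR (M.left.presheaf.stalk (ptH M af)) (resH M af halg)).map (pp k) w =
      tanMap x M υ hM f hf af haf halg (α + β) := by
    apply toPhi_injective x (Y ↘ Spec (CommRingCat.of k)) M υ hM af halg (D k)
    show toPhi x (Y ↘ Spec (CommRingCat.of k)) M υ af halg (D k) (HomSet.map (pp k) w) =
      toPhi x (Y ↘ Spec (CommRingCat.of k)) M υ af halg (D k)
        (tanMap x M υ hM f hf af haf halg (α + β))
    rw [toPhi_map, hw, tanMap_spec]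
    exact pp_Phi x (sd f α) (sd f β) (sd f (α + β)) (sd_add f α β)
  rw [e1', e2', e3'] at h4
  exact h4.symm

/-- `Hom(Ω_Y, f_* O_X)` is the tangent space of `h_R`, `R = O_{M,[f]}`. -/
noncomputable def tanLin :
    (Omega.sheaf (Y ↘ Spec (CommRingCat.of k)) ⟶
      (Scheme.Modules.pushforward f).obj (Coh.structureModule X)) ≃ₗ[k]
      TangentSpace (hR (M.left.presheaf.stalk (ptH M af)) (resH M af halg)) :=
  LinearEquiv.ofBijective
    { toFun := tanMap x M υ hM f hf af haf halg
      map_add' := tanMap_add x M υ hM f hf af haf halg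
      map_smul' := tanMap_smul x M υ hM f hf af haf halg }
    ⟨tanMap_injective x M υ hM f hf af haf halg, tanMap_surjective x M υ hM f hf af haf halg⟩

end Main

/-- **the Zariski cotangent space of the scheme of morphisms at `[f]` and `H⁰(X, f^* T_Y)`**. -/
theorem finrank_cotangent_eq {k : Type u} [Field k]
    (X : Scheme.{u}) [X.Over (Spec (CommRingCat.of k))]
    (Y : Scheme.{u}) (yY : Y ⟶ Spec (CommRingCat.of k))
    (hqprojY : ∃ (m : ℕ) (c : Y ⟶ CohB1.ProjSpaceOver m (Spec (CommRingCat.of k))),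
      IsImmersion c ∧ c ≫ CohB1.ProjSpaceOver.toBase m (Spec (CommRingCat.of k)) = yY)
    (M : Over (Spec (CommRingCat.of k)))
    (υ : Over.mk (X ↘ Spec (CommRingCat.of k)) ⊗ M ⟶ Over.mk yY)
    (hM : ∀ (T : Over (Spec (CommRingCat.of k)))
      (φ : Over.mk (X ↘ Spec (CommRingCat.of k)) ⊗ T ⟶ Over.mk yY),
      ∃! a : T ⟶ M, (Over.mk (X ↘ Spec (CommRingCat.of k)) ◁ a) ≫ υ = φ)
    (f : X ⟶ Y) (hf : f ≫ yY = X ↘ Spec (CommRingCat.of k))
    (af : 𝟙_ (Over (Spec (CommRingCat.of k))) ⟶ M)
    (haf : (Over.mk (X ↘ Spec (CommRingCat.of k)) ◁ af) ≫ υ =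
      (ρ_ (Over.mk (X ↘ Spec (CommRingCat.of k)))).hom ≫
        (Over.homMk f hf : Over.mk (X ↘ Spec (CommRingCat.of k)) ⟶ Over.mk yY))
    [DCoh.HasSheafHom ((Scheme.Modules.pullback f).obj (Omega.sheaf yY))] :
    Module.finrank
        (IsLocalRing.ResidueField
          (M.left.presheaf.stalk (af.left.base (IsLocalRing.closedPoint k))))
        (IsLocalRing.CotangentSpace
          (M.left.presheaf.stalk (af.left.base (IsLocalRing.closedPoint k)))) =
      Module.finrank k (Coh.HH X
        ((DCoh.sheafHom ((Scheme.Modules.pullback f).obj (Omega.sheaf yY))).obj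
          (Coh.structureModule X)) 0) := by
  obtain ⟨m, c, hc, hcy⟩ := hqprojY
  have hqs : QuasiSeparated yY := by
    rw [← hcy]
    haveI := hc
    haveI := isProper_toBase' m (Spec (CommRingCat.of k))
    infer_instance
  letI : Y.Over (Spec (CommRingCat.of k)) := ⟨yY⟩
  haveI : QuasiSeparated (Y ↘ Spec (CommRingCat.of k)) := hqs
  haveI : f.IsOver (Spec (CommRingCat.of k)) := ⟨hf⟩
  letI alg : Algebra k (M.left.presheaf.stalk (ptH M af)) := algH M af
  have halg : algebraMap k (M.left.presheaf.stalk (ptH M af)) = (aH M af).hom := rfl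
  letI T : TangentStr (hR (M.left.presheaf.stalk (ptH M af)) (resH M af halg)) :=
    Groth.Agent.Lib.Helper9.TanStr.tangentStr
      (Groth.Agent.Helper3.ArtFunLib.h0_hR (resH M af halg))
      Groth.Agent.Helper3.ArtFunLib.hR_heps
  have e5 := finrank_tangent_eq_cotangent
    (F := hR (M.left.presheaf.stalk (ptH M af)) (resH M af halg))
    (M.left.presheaf.stalk (ptH M af)) (resH M af halg)
    ⟨fun A φ => φ, fun u φ => rfl⟩ ⟨fun a b h => h, fun b => ⟨b, rfl⟩⟩
  have e6 := (tanLin (X ↘ Spec (CommRingCat.of k)) M υ hM f hf af haf halg).finrank_eq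
  have e7 := (chainLin (k := k) f (Omega.sheaf yY)).finrank_eq
  exact e5.symm.trans (e6.symm.trans e7.symm)

end Groth.Agent.Helper3.HomTan
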