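import Mathlib

set_option autoImplicit false
set_option linter.unusedSectionVars false
universe v u

open CategoryTheory CategoryTheory.Limits CategoryTheory.Pretriangulated

namespace Groth.Agent.Helper3.HomZero

variable {D : Type u} [Category.{v} D] [Preadditive D] [HasZeroObject D] [HasShift D ℤ]
  [∀ n : ℤ, (shiftFunctor D n).Additive] [Pretriangulated D]

/-- `HZ A B r`: there are no nonzero maps `A ⟶ B⟦r⟧`. -/
def HZ (A B : D) (r : ℤ) : Prop := ∀ ψ : A ⟶ (shiftFunctor D r).obj B, ψ = 0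

lemma HZ.congr {A B : D} {r r' : ℤ} (h : r = r') (H : HZ A B r) : HZ A B r' := h ▸ H

lemma HZ.eq_zero {A B : D} {r : ℤ} (H : HZ A B r) (p q : ℤ) (hpq : q - p = r)
    (ψ : (shiftFunctor D p).obj A ⟶ (shiftFunctor D q).obj B) : ψ = 0 := by
  have h1 : (shiftFunctorCompIsoId D p (-p) (add_neg_cancel p)).inv.app A ≫
      (shiftFunctor D (-p)).map ψ ≫ (shiftFunctorAdd' D q (-p) r (by omega)).inv.app B = 0 := H _
  have h2 : (shiftFunctor D (-p)).map ψ = 0 := by
    rw [← cancel_epi ((shiftFunctorCompIsoId D p (-p) (add_neg_cancel p)).inv.app A),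
      ← cancel_mono ((shiftFunctorAdd' D q (-p) r (by omega)).inv.app B), Category.assoc, h1,
      comp_zero, zero_comp]
  exact (shiftFunctor D (-p)).map_injective (h2.trans (Functor.map_zero _ _ _).symm)

lemma HZ.of_both {A B : D} (p q : ℤ)
    (h : ∀ ψ : (shiftFunctor D p).obj A ⟶ (shiftFunctor D q).obj B, ψ = 0) : HZ A B (q - p) := by
  intro φ
  have h1 := h ((shiftFunctor D p).map φ ≫ (shiftFunctorAdd' D (q - p) p q (by omega)).inv.app B)
  have h2 : (shiftFunctor D p).map φ = 0 := by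
    rw [← cancel_mono ((shiftFunctorAdd' D (q - p) p q (by omega)).inv.app B), h1, zero_comp]
  exact (shiftFunctor D p).map_injective (h2.trans (Functor.map_zero _ _ _).symm)

lemma HZ.of_left {A B : D} (p : ℤ)
    (h : ∀ ψ : (shiftFunctor D p).obj A ⟶ B, ψ = 0) : HZ A B (-p) := by
  intro φ
  have h1 := h ((shiftFunctor D p).map φ ≫
    (shiftFunctorCompIsoId D (-p) p (neg_add_cancel p)).hom.app B)
  have h2 : (shiftFunctor D p).map φ = 0 := by
    rw [← cancel_mono ((shiftFunctorCompIsoId D (-p) p (neg_add_cancel p)).hom.app B), h1,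
      zero_comp]
  exact (shiftFunctor D p).map_injective (h2.trans (Functor.map_zero _ _ _).symm)

lemma HZ.plain {A B : D} (H : HZ A B 0) (ψ : A ⟶ B) : ψ = 0 := by
  have h1 := H (ψ ≫ (shiftFunctorZero D ℤ).inv.app B)
  rw [← cancel_mono ((shiftFunctorZero D ℤ).inv.app B), h1, zero_comp]

lemma HZ.shift_right {A B : D} {r : ℤ} (s : ℤ) (H : HZ A B (r + s)) :
    HZ A ((shiftFunctor D s).obj B) r := by
  intro φ
  have h1 := H (φ ≫ (shiftFunctorAdd' D s r (r + s) (by omega)).inv.app B)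
  rw [← cancel_mono ((shiftFunctorAdd' D s r (r + s) (by omega)).inv.app B), h1, zero_comp]

lemma HZ.shift_left {A B : D} {r : ℤ} (s : ℤ) (H : HZ A B (r - s)) :
    HZ ((shiftFunctor D s).obj A) B r :=
  fun φ => H.eq_zero s r rfl φ

lemma HZ.iso_right {A B B' : D} {r : ℤ} (e : B ≅ B') (H : HZ A B r) : HZ A B' r := by
  intro φ
  have h1 := H (φ ≫ (shiftFunctor D r).map e.inv)
  rw [← cancel_mono ((shiftFunctor D r).map e.inv), h1, zero_comp]

lemma HZ.iso_left {A A' B : D} {r : ℤ} (e : A ≅ A') (H : HZ A B r) : HZ A' B r := by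
  intro φ
  have h1 := H (e.hom ≫ φ)
  rw [← cancel_epi e.hom, h1, comp_zero]

lemma HZ.tri_right {A : D} {r : ℤ} (T : Triangle D) (hT : T ∈ distTriang D)
    (H₁ : HZ A T.obj₁ r) (H₃ : HZ A T.obj₃ r) : HZ A T.obj₂ r := by
  intro φ
  have hT' := Triangle.shift_distinguished T hT r
  obtain ⟨φ', hφ'⟩ := Triangle.coyoneda_exact₂ _ hT' φ (H₃ _)
  have : φ' = 0 := H₁ φ'
  rw [hφ', this]
  exact zero_comp

lemma HZ.tri_left {B : D} {r : ℤ} (T : Triangle D) (hT : T ∈ distTriang D)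
    (H₁ : HZ T.obj₁ B r) (H₃ : HZ T.obj₃ B r) : HZ T.obj₂ B r := by
  intro φ
  obtain ⟨φ', hφ'⟩ := Triangle.yoneda_exact₂ _ hT φ (H₁ _)
  have : φ' = 0 := H₃ φ'
  rw [hφ', this]
  exact comp_zero

end Groth.Agent.Helper3.HomZero
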