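import Mathlib

set_option autoImplicit false
universe v u
open CategoryTheory Limits

namespace Groth.Agent.Helper3.IRes

variable {A : Type u} [Category.{v} A] [Abelian A]

/-- kernel of the pushout short complex, up to refinements -/
lemma po_lemma {X₁ X₂ X₃ X₄ : A} {f : X₁ ⟶ X₂} {g : X₁ ⟶ X₃} {inl : X₂ ⟶ X₄} {inr : X₃ ⟶ X₄}
    (h : IsPushout f g inl inr) {W : A} (b₂ : W ⟶ X₂) (b₃ : W ⟶ X₃) (hb : b₂ ≫ inl = b₃ ≫ inr) :
    ∃ (W' : A) (π : W' ⟶ W) (_ : Epi π) (a : W' ⟶ X₁), π ≫ b₂ = a ≫ f ∧ π ≫ b₃ = a ≫ g := by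
  have hz : biprod.lift b₂ (-b₃) ≫ h.shortComplex.g = 0 := by
    change biprod.lift b₂ (-b₃) ≫ biprod.desc inl inr = 0
    rw [biprod.lift_desc, hb, Preadditive.neg_comp, add_neg_cancel]
  obtain ⟨W', π, hπ, a₀, ha₀⟩ := h.exact_shortComplex.exact_up_to_refinements _ hz
  obtain ⟨a, ha⟩ : ∃ a : W' ⟶ X₁, π ≫ biprod.lift b₂ (-b₃) = a ≫ biprod.lift f (-g) := ⟨a₀, ha₀⟩
  clear ha₀ a₀
  refine ⟨W', π, hπ, a, ?_, ?_⟩
  · have := congrArg (· ≫ biprod.fst) ha
    simp only [Category.assoc, biprod.lift_fst] at this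
    exact this
  · have := congrArg (· ≫ biprod.snd) ha
    simp only [Category.assoc, biprod.lift_snd] at this
    rw [Preadditive.comp_neg, Preadditive.comp_neg] at this
    exact neg_injective this

variable (K : CochainComplex A ℕ) (E : A → A) (e : ∀ X, X ⟶ E X)

/-- state of the recursion -/
structure St (n : ℕ) where
  Lp : A
  L : A
  dp : Lp ⟶ L
  α : K.X n ⟶ L

variable {K}

noncomputable abbrev St.B {n : ℕ} (s : St K n) : A :=
  pushout (s.α ≫ cokernel.π s.dp) (K.d n (n+1))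

noncomputable def St.step {n : ℕ} (s : St K n) : St K (n+1) where
  Lp := s.L
  L := E s.B
  dp := cokernel.π s.dp ≫ pushout.inl _ _ ≫ e s.B
  α := pushout.inr _ _ ≫ e s.B

lemma St.step_dp {n : ℕ} (s : St K n) :
    (s.step E e).dp = cokernel.π s.dp ≫ pushout.inl _ _ ≫ e s.B := rfl

lemma St.step_α {n : ℕ} (s : St K n) :
    (s.step E e).α = pushout.inr _ _ ≫ e s.B := rfl

variable (K)

noncomputable def St.init : St K 0 := ⟨E (K.X 0), E (K.X 0), 0, e (K.X 0)⟩

noncomputable def st : (n : ℕ) → St K n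
  | 0 => St.init K E e
  | n+1 => (st n).step E e

noncomputable def Lc : CochainComplex A ℕ :=
  CochainComplex.of (fun n => (st K E e n).L) (fun n => (st K E e (n+1)).dp) (by
    intro n
    change (st K E e (n+1)).dp ≫ (cokernel.π (st K E e (n+1)).dp ≫ _) = 0
    rw [cokernel.condition_assoc, zero_comp])

lemma Lc_d (n : ℕ) : (Lc K E e).d n (n+1) = (st K E e (n+1)).dp :=
  CochainComplex.of_d (fun n => (st K E e n).L) (fun n => (st K E e (n+1)).dp) n

variable {K} in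
lemma St.comm {n : ℕ} (s : St K n) :
    s.α ≫ (s.step E e).dp = K.d n (n+1) ≫ (s.step E e).α := by
  change s.α ≫ (cokernel.π s.dp ≫ pushout.inl _ _ ≫ e _) =
    K.d n (n+1) ≫ (pushout.inr _ _ ≫ e _)
  rw [← Category.assoc, ← Category.assoc, ← Category.assoc, pushout.condition]

noncomputable def αc : K ⟶ Lc K E e where
  f n := (st K E e n).α
  comm' i j hij := by
    obtain rfl : i + 1 = j := hij
    rw [Lc_d]
    exact (st K E e i).comm E e


variable {K E e}

lemma St.isPushout {n : ℕ} (s : St K n) :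
    IsPushout (s.α ≫ cokernel.π s.dp) (K.d n (n+1))
      (pushout.inl (s.α ≫ cokernel.π s.dp) (K.d n (n+1)))
      (pushout.inr (s.α ≫ cokernel.π s.dp) (K.d n (n+1))) :=
  IsPushout.of_hasPushout _ _

lemma St.inv_step (he : ∀ X, Mono (e X)) {n : ℕ} (s : St K n) {W : A} (x : W ⟶ K.X (n+1))
    (hx : x ≫ (s.step E e).α ≫ cokernel.π (s.step E e).dp = 0) :
    ∃ (W' : A) (p : W' ⟶ W) (_ : Epi p) (x' : W' ⟶ K.X n), p ≫ x = x' ≫ K.d n (n+1) := by
  have := he s.B
  have hex : (ShortComplex.mk (s.step E e).dp (cokernel.π (s.step E e).dp)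
      (cokernel.condition _)).Exact := ShortComplex.exact_cokernel _
  obtain ⟨W₁, p₁, hp₁, z, hz⟩ := hex.exact_up_to_refinements (x ≫ (s.step E e).α)
    (by simpa using hx)
  obtain ⟨z, hz⟩ : ∃ z : W₁ ⟶ s.L, p₁ ≫ x ≫ (s.step E e).α = z ≫ (s.step E e).dp := ⟨z, hz⟩
  have h1 : (z ≫ cokernel.π s.dp) ≫ pushout.inl (s.α ≫ cokernel.π s.dp) (K.d n (n+1)) =
      (p₁ ≫ x) ≫ pushout.inr (s.α ≫ cokernel.π s.dp) (K.d n (n+1)) := by
    refine (cancel_mono (e s.B)).1 ?_
    rw [St.step_dp, St.step_α] at hz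
    simp only [Category.assoc]
    exact hz.symm
  obtain ⟨W₂, p₂, hp₂, a, ha₁, ha₂⟩ := po_lemma s.isPushout _ _ h1
  exact ⟨W₂, p₂ ≫ p₁, epi_comp _ _, a, by rw [Category.assoc]; exact ha₂⟩

/-- the invariant -/
def St.Inv {n : ℕ} (s : St K n) : Prop :=
  ∀ ⦃W : A⦄ (x : W ⟶ K.X n), x ≫ s.α ≫ cokernel.π s.dp = 0 →
    ∃ (W' : A) (p : W' ⟶ W) (_ : Epi p) (x' : W' ⟶ K.X (n-1)), p ≫ x = x' ≫ K.d (n-1) n

lemma st_inv (he : ∀ X, Mono (e X)) (n : ℕ) : (st K E e n).Inv := by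
  cases n with
  | zero =>
    intro W x hx
    have := he (K.X 0)
    change x ≫ e (K.X 0) ≫ cokernel.π (0 : E (K.X 0) ⟶ E (K.X 0)) = 0 at hx
    rw [← Category.assoc] at hx
    have h1 : x ≫ e (K.X 0) = 0 := by
      rw [← cancel_mono (cokernel.π (0 : E (K.X 0) ⟶ E (K.X 0))), hx, zero_comp]
    have h2 : x = 0 := by
      rw [← cancel_mono (e (K.X 0)), h1, zero_comp]
    exact ⟨W, 𝟙 W, inferInstance, 0, by simp [h2]⟩
  | succ m =>
    intro W x hx
    exact (st K E e m).inv_step he x hx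

lemma st_mono (he : ∀ X, Mono (e X)) (n : ℕ) : Mono (st K E e n).α := by
  cases n with
  | zero => exact he _
  | succ m =>
    have := he (st K E e m).B
    have : Mono (pushout.inr ((st K E e m).α ≫ cokernel.π (st K E e m).dp) (K.d m (m+1))) := by
      apply Preadditive.mono_of_cancel_zero
      intro W x hx
      obtain ⟨W₁, p₁, hp₁, a, ha₁, ha₂⟩ := po_lemma (st K E e m).isPushout (0 : W ⟶ _) x
        (by rw [zero_comp, hx])
      obtain ⟨W₂, p₂, hp₂, a', ha'⟩ := st_inv he m a (by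
        rw [← ha₁, comp_zero])
      rw [← cancel_epi p₁, ← cancel_epi p₂, comp_zero, comp_zero, ha₂, ← Category.assoc, ha',
        Category.assoc, K.d_comp_d, comp_zero]
    change Mono (pushout.inr _ _ ≫ e _)
    infer_instance

lemma St.epi_aux (he : ∀ X, Mono (e X)) {n : ℕ} (s : St K n) {W : A} (y₂ : W ⟶ s.L)
    (hy : y₂ ≫ (s.step E e).dp = 0) :
    ∃ (W' : A) (p : W' ⟶ W) (_ : Epi p) (x₂ : W' ⟶ K.X n) (_ : x₂ ≫ K.d n (n+1) = 0)
      (y₁ : W' ⟶ s.Lp), p ≫ y₂ = x₂ ≫ s.α + y₁ ≫ s.dp := by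
  have := he s.B
  have h1 : (y₂ ≫ cokernel.π s.dp) ≫ pushout.inl (s.α ≫ cokernel.π s.dp) (K.d n (n+1)) =
      (0 : W ⟶ K.X (n+1)) ≫ pushout.inr (s.α ≫ cokernel.π s.dp) (K.d n (n+1)) := by
    refine (cancel_mono (e s.B)).1 ?_
    rw [St.step_dp] at hy
    rw [zero_comp, zero_comp]
    simp only [Category.assoc]
    exact hy
  obtain ⟨W₁, p₁, hp₁, a, ha₁, ha₂⟩ := po_lemma s.isPushout _ _ h1
  have hex : (ShortComplex.mk s.dp (cokernel.π s.dp) (cokernel.condition _)).Exact :=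
    ShortComplex.exact_cokernel _
  obtain ⟨W₂, p₂, hp₂, y₁, hy₁⟩ := hex.exact_up_to_refinements (p₁ ≫ y₂ - a ≫ s.α) (by
    change (p₁ ≫ y₂ - a ≫ s.α) ≫ cokernel.π s.dp = 0
    rw [Preadditive.sub_comp, Category.assoc, Category.assoc, ha₁, sub_self])
  obtain ⟨y₁, hy₁⟩ : ∃ y₁ : W₂ ⟶ s.Lp, p₂ ≫ (p₁ ≫ y₂ - a ≫ s.α) = y₁ ≫ s.dp := ⟨y₁, hy₁⟩
  refine ⟨W₂, p₂ ≫ p₁, epi_comp _ _, p₂ ≫ a, ?_, y₁, ?_⟩
  · rw [Category.assoc, ← ha₂, comp_zero, comp_zero]
  · rw [← hy₁, Preadditive.comp_sub]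
    simp


lemma αc_f (n : ℕ) : (αc K E e).f n = (st K E e n).α := rfl

lemma st_zero_dp : (st K E e 0).dp = 0 := rfl

lemma mono_homologyMap_αc (he : ∀ X, Mono (e X)) (n : ℕ) :
    Mono (HomologicalComplex.homologyMap (αc K E e) n) := by
  cases n with
  | zero =>
    rw [HomologicalComplex.mono_homologyMap_iff_up_to_refinements (αc K E e) 0 0 1
      (by simp) (by simp)]
    intro W x₂ hx₂ y₁ hy₁
    rw [(Lc K E e).shape 0 0 (by simp), comp_zero] at hy₁
    have : Mono ((αc K E e).f 0) := st_mono (K := K) (E := E) he 0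
    have h2 : x₂ = 0 := by
      rw [← cancel_mono ((αc K E e).f 0), hy₁, zero_comp]
    exact ⟨W, 𝟙 W, inferInstance, 0, by simp [h2]⟩
  | succ m =>
    rw [HomologicalComplex.mono_homologyMap_iff_up_to_refinements (αc K E e) m (m+1) (m+1+1)
      (by simp) (by simp)]
    intro W x₂ hx₂ y₁ hy₁
    rw [Lc_d] at hy₁
    refine (st K E e m).inv_step he x₂ ?_
    obtain ⟨y₁', h3⟩ : ∃ y₁' : W ⟶ ((st K E e m).step E e).Lp,
      x₂ ≫ ((st K E e m).step E e).α = y₁' ≫ ((st K E e m).step E e).dp := ⟨y₁, hy₁⟩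
    rw [← Category.assoc, h3, Category.assoc, cokernel.condition, comp_zero]

lemma epi_homologyMap_αc (he : ∀ X, Mono (e X)) (n : ℕ) :
    Epi (HomologicalComplex.homologyMap (αc K E e) n) := by
  cases n with
  | zero =>
    rw [HomologicalComplex.epi_homologyMap_iff_up_to_refinements (αc K E e) 0 0 1
      (by simp) (by simp)]
    intro W y₂ hy₂
    rw [Lc_d] at hy₂
    obtain ⟨W', p, hp, x₂, hx₂, y₁, h⟩ := (st K E e 0).epi_aux he y₂ hy₂
    refine ⟨W', p, hp, x₂, hx₂, y₁, ?_⟩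
    rw [(Lc K E e).shape 0 0 (by simp), comp_zero, add_zero]
    rw [st_zero_dp, comp_zero, add_zero] at h
    exact h
  | succ m =>
    rw [HomologicalComplex.epi_homologyMap_iff_up_to_refinements (αc K E e) m (m+1) (m+1+1)
      (by simp) (by simp)]
    intro W y₂ hy₂
    rw [Lc_d] at hy₂
    obtain ⟨W', p, hp, x₂, hx₂, y₁, h⟩ := (st K E e (m+1)).epi_aux he y₂ hy₂
    refine ⟨W', p, hp, x₂, hx₂, y₁, ?_⟩
    rw [Lc_d]
    exact h

/-- The `ℕ`-indexed resolution statement. -/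
theorem exists_resolution_nat (I : A → Prop)
    (hI : ∀ X : A, ∃ (Y : A) (ι : X ⟶ Y), I Y ∧ Mono ι) (K : CochainComplex A ℕ) :
    ∃ (L : CochainComplex A ℕ) (α : K ⟶ L),
      (∀ n, I (L.X n)) ∧ (∀ n, Mono (α.f n)) ∧ QuasiIso α := by
  choose E e hE he using hI
  refine ⟨Lc K E e, αc K E e, ?_, ?_, ?_⟩
  · intro n
    cases n with
    | zero => exact hE _
    | succ m => exact hE _
  · intro n
    exact st_mono he n
  · rw [quasiIso_iff]
    intro n
    rw [quasiIsoAt_iff_isIso_homologyMap]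
    have := mono_homologyMap_αc (K := K) (E := E) he n
    have := epi_homologyMap_αc (K := K) (E := E) he n
    exact isIso_of_mono_of_epi _


section transport

variable {ι : Type*} {c : ComplexShape ι}

/-- replace the objects of a complex by isomorphic ones -/
noncomputable def transportCx (L : HomologicalComplex A c) (X' : ι → A) (φ : ∀ i, L.X i ≅ X' i) :
    HomologicalComplex A c where
  X := X'
  d i j := (φ i).inv ≫ L.d i j ≫ (φ j).hom
  shape i j h := by rw [L.shape i j h, zero_comp, comp_zero]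
  d_comp_d' i j k _ _ := by simp

noncomputable def transportIso (L : HomologicalComplex A c) (X' : ι → A) (φ : ∀ i, L.X i ≅ X' i) :
    L ≅ transportCx L X' φ :=
  HomologicalComplex.Hom.isoOfComponents φ (by
    intro i j _
    simp [transportCx])

lemma exists_transport (L : HomologicalComplex A c) (P : A → Prop)
    (h : ∀ i, ∃ Y, P Y ∧ Nonempty (L.X i ≅ Y)) :
    ∃ (L' : HomologicalComplex A c) (_ : L ≅ L'), ∀ i, P (L'.X i) := by
  choose X' hP hφ using h
  exact ⟨transportCx L X' (fun i => (hφ i).some), transportIso L X' _, hP⟩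

end transport

/-- The `ℤ`-indexed resolution statement (S6590). -/
theorem exists_resolution_int (I : A → Prop)
    (hI0 : ∃ Z : A, IsZero Z ∧ I Z) (hI : ∀ X : A, ∃ (Y : A) (ι : X ⟶ Y), I Y ∧ Mono ι)
    (K : CochainComplex A ℤ) (a : ℤ) [K.IsStrictlyGE a] :
    ∃ (L : CochainComplex A ℤ) (α : K ⟶ L), L.IsStrictlyGE a ∧ (∀ n, I (L.X n)) ∧
      (∀ n, Mono (α.f n)) ∧ QuasiIso α := by
  obtain ⟨Z, hZ, hIZ⟩ := hI0
  let em := ComplexShape.embeddingUpIntGE a
  obtain ⟨L₀, α₀, hL₀, hα₀, hq⟩ := exists_resolution_nat I hI (HomologicalComplex.truncGE' K em)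
  obtain ⟨L, φ, hL⟩ := exists_transport (L₀.extend em) I (by
    intro n
    by_cases hn : ∃ i, em.f i = n
    · obtain ⟨i, hi⟩ := hn
      exact ⟨L₀.X i, hL₀ i, ⟨L₀.extendXIso em hi⟩⟩
    · exact ⟨Z, hIZ, ⟨(L₀.isZero_extend_X em n (by simpa using hn)).iso hZ⟩⟩)
  have hmono : ∀ n, Mono ((HomologicalComplex.extendMap α₀ em).f n) := by
    intro n
    by_cases hn : ∃ i, em.f i = n
    · obtain ⟨i, hi⟩ := hn
      rw [HomologicalComplex.extendMap_f α₀ em hi]
      have := hα₀ i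
      infer_instance
    · have hz : IsZero (((HomologicalComplex.truncGE' K em).extend em).X n) :=
        HomologicalComplex.isZero_extend_X _ em n (by simpa using hn)
      exact Preadditive.mono_of_cancel_zero _ (fun g _ => hz.eq_of_tgt _ _)
  have hK : K.IsStrictlySupported em := inferInstanceAs (K.IsStrictlyGE a)
  obtain ⟨π', hπ⟩ : ∃ π' : K ⟶ (HomologicalComplex.truncGE' K em).extend em, IsIso π' :=
    ⟨HomologicalComplex.πTruncGE K em,
      (inferInstance : IsIso (HomologicalComplex.πTruncGE K em))⟩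
  have hq' : QuasiIso (HomologicalComplex.extendMap α₀ em) := inferInstance
  refine ⟨L, π' ≫ HomologicalComplex.extendMap α₀ em ≫ φ.hom, ?_, hL, ?_, ?_⟩
  · exact HomologicalComplex.isStrictlySupported_of_iso φ em
  · intro n
    have := hmono n
    have h1 : IsIso (π'.f n) := inferInstance
    have h2 : IsIso (φ.hom.f n) := inferInstance
    rw [HomologicalComplex.comp_f, HomologicalComplex.comp_f]
    infer_instance
  · infer_instance

end Groth.Agent.Helper3.IRes
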