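import Mathlib
import Groth.Agent.Lib.Helper3.IRes

set_option autoImplicit false
universe v u
open CategoryTheory Limits

namespace Groth.Agent.Helper3.IResDual

open Groth.Agent.Helper3.IRes

variable {A : Type u} [Category.{v} A] [Abelian A]

/-- The `ℕ`-indexed left resolution statement (chain complexes). -/
theorem exists_left_resolution_nat (P : A → Prop)
    (hP : ∀ X : A, ∃ (Y : A) (π : Y ⟶ X), P Y ∧ Epi π) (K : ChainComplex A ℕ) :
    ∃ (Q : ChainComplex A ℕ) (α : Q ⟶ K),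
      (∀ n, P (Q.X n)) ∧ (∀ n, Epi (α.f n)) ∧ QuasiIso α := by
  have hI : ∀ X : Aᵒᵖ, ∃ (Y : Aᵒᵖ) (ι : X ⟶ Y), (fun Z : Aᵒᵖ => P Z.unop) Y ∧ Mono ι := by
    intro X
    obtain ⟨Y, π, hY, hπ⟩ := hP X.unop
    exact ⟨Opposite.op Y, π.op, hY, inferInstance⟩
  obtain ⟨L, α, hL, hα, hq⟩ := exists_resolution_nat (fun Z : Aᵒᵖ => P Z.unop) hI
    (K.op : CochainComplex Aᵒᵖ ℕ)
  let Q : ChainComplex A ℕ := L.unop
  let β : Q ⟶ K := (HomologicalComplex.unopFunctor A (ComplexShape.up ℕ)).map α.op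
  refine ⟨Q, β, hL, ?_, ?_⟩
  · intro n
    have := hα n
    change Epi (α.f n).unop
    infer_instance
  · rw [quasiIso_iff]
    intro n
    exact (HomologicalComplex.quasiIsoAt_unopFunctor_map_iff α n).2 ((quasiIso_iff α).1 hq n)


/-- The `ℤ`-indexed left resolution statement (S0970). -/
theorem exists_left_resolution_int (P : A → Prop)
    (hP0 : ∃ Z : A, IsZero Z ∧ P Z) (hP : ∀ X : A, ∃ (Y : A) (π : Y ⟶ X), P Y ∧ Epi π)
    (K : CochainComplex A ℤ) (a : ℤ) [K.IsStrictlyLE a] :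
    ∃ (Q : CochainComplex A ℤ) (α : Q ⟶ K), Q.IsStrictlyLE a ∧ (∀ n, P (Q.X n)) ∧
      (∀ n, Epi (α.f n)) ∧ QuasiIso α := by
  obtain ⟨Z, hZ, hPZ⟩ := hP0
  let em := ComplexShape.embeddingUpIntLE a
  obtain ⟨Q₀, α₀, hQ₀, hα₀, hq⟩ := exists_left_resolution_nat P hP (HomologicalComplex.truncLE' K em)
  obtain ⟨Q, φ, hQ⟩ := exists_transport (Q₀.extend em) P (by
    intro n
    by_cases hn : ∃ i, em.f i = n
    · obtain ⟨i, hi⟩ := hn
      exact ⟨Q₀.X i, hQ₀ i, ⟨Q₀.extendXIso em hi⟩⟩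
    · exact ⟨Z, hPZ, ⟨(Q₀.isZero_extend_X em n (by simpa using hn)).iso hZ⟩⟩)
  have hepi : ∀ n, Epi ((HomologicalComplex.extendMap α₀ em).f n) := by
    intro n
    by_cases hn : ∃ i, em.f i = n
    · obtain ⟨i, hi⟩ := hn
      rw [HomologicalComplex.extendMap_f α₀ em hi]
      have := hα₀ i
      infer_instance
    · have hz : IsZero (((HomologicalComplex.truncLE' K em).extend em).X n) :=
        HomologicalComplex.isZero_extend_X _ em n (by simpa using hn)
      exact Preadditive.epi_of_cancel_zero _ (fun g _ => hz.eq_of_src _ _)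
  have hK : K.IsStrictlySupported em := inferInstanceAs (K.IsStrictlyLE a)
  obtain ⟨ι', hι⟩ : ∃ ι' : (HomologicalComplex.truncLE' K em).extend em ⟶ K, IsIso ι' :=
    ⟨(HomologicalComplex.truncLEIso K em).inv ≫ HomologicalComplex.ιTruncLE K em, by
      have : IsIso (HomologicalComplex.ιTruncLE K em) := inferInstance
      infer_instance⟩
  have hq' : QuasiIso (HomologicalComplex.extendMap α₀ em) := inferInstance
  refine ⟨Q, φ.inv ≫ HomologicalComplex.extendMap α₀ em ≫ ι', ?_, hQ, ?_, ?_⟩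
  · exact HomologicalComplex.isStrictlySupported_of_iso φ em
  · intro n
    have := hepi n
    have h1 : IsIso (ι'.f n) := inferInstance
    have h2 : IsIso (φ.inv.f n) := inferInstance
    rw [HomologicalComplex.comp_f, HomologicalComplex.comp_f]
    infer_instance
  · infer_instance

end Groth.Agent.Helper3.IResDual
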