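import Mathlib
import Groth.Prelude.Def_CohSite

set_option autoImplicit false
universe u
open CategoryTheory Limits Opposite

namespace Groth.Agent.Helper3.ImgSect

variable {C : Type u} [SmallCategory C] {J : GrothendieckTopology C}

/-- if every section in the image of `f` is in the image of `g` then the image of `f` is contained
in the image of `g` -/
theorem imageSubobject_le_of_sections {A B G : Sheaf J AddCommGrpCat.{u}} (f : A ⟶ G) (g : B ⟶ G)
    (h : ∀ (V : C) (s : A.obj.obj (op V)), ∃ t : B.obj.obj (op V),
      g.hom.app (op V) t = f.hom.app (op V) s) :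
    imageSubobject f ≤ imageSubobject g := by
  have hz : f ≫ cokernel.π g = 0 := by
    apply Sheaf.hom_ext
    ext V s
    obtain ⟨V⟩ := V
    obtain ⟨t, ht⟩ := h V s
    have h1 : (g ≫ cokernel.π g).hom.app (op V) t = 0 := by
      rw [cokernel.condition]
      rfl
    change (cokernel.π g).hom.app (op V) (f.hom.app (op V) s) = 0
    rw [← ht]
    exact h1
  refine imageSubobject_le f (kernel.lift (cokernel.π g) f hz ≫ (Abelian.imageIsoImage g).hom ≫
    (imageSubobjectIso g).inv) ?_
  rw [Category.assoc, Category.assoc, imageSubobject_arrow', Abelian.imageIsoImage_hom_comp_image_ι,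
    kernel.lift_ι]

end Groth.Agent.Helper3.ImgSect
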