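import Mathlib
import Groth.Agent.Lib.Lead.OmU13d
import Groth.Agent.Lib.Helper3.DefGl2
import Groth.Agent.Lib.Helper3.HomTanC

/-! The infinitesimal automorphisms of a `k`-scheme `X₀` — automorphisms of
`X₀ ×_k Spec k[ε]` over `k[ε]` restricting to the identity of `X₀` — form a group isomorphic to
the additive group `Hom(Ω_{X₀/k}, O_{X₀})` (helper3). -/

set_option autoImplicit false
set_option linter.style.haveILetI false
universe u
open CategoryTheory CategoryTheory.Limits AlgebraicGeometry TopologicalSpace Opposite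

set_option backward.isDefEq.respectTransparency.types false
set_option synthInstance.maxHeartbeats 400000
set_option maxHeartbeats 4000000

namespace Groth.Agent.Helper3.InfAut

open ArtFun ArtFun.Art OmegaSh Groth.Agent.Helper3.DerAut Groth.Agent.Helper3.HilbRig
  Groth.Agent.Helper3.HilbTan Groth.Agent.Helper3.HilbLin Groth.Agent.Helper3.HomTan
  Groth.Agent.Lead.DerU

section Endo

variable {k : Type u} [Field k] {X : Scheme.{u}} (x : X ⟶ specPt k) (A : Art k k)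

/-- an endomorphism of `X ×_k Spec A` over `Spec A` fixes the constants. -/
theorem endo_rho (φ : XA x A ⟶ XA x A) (hφ : φ ≫ XApr x A = XApr x A)
    (W' W : (XA x A).Opens) (e : W ≤ φ ⁻¹ᵁ W') (a : A) :
    (φ.appLE W' W e).hom (rho (trivB x A) W' a) = rho (trivB x A) W a := by
  have hU : W ≤ φ ⁻¹ᵁ ⊤ := e.trans (φ.preimage_mono le_top)
  have h1 := appLE_res φ (le_top : W' ≤ ⊤) hU le_rfl e (rhoTop (trivB x A) a)
  have h2 : (φ.appLE ⊤ (φ ⁻¹ᵁ ⊤) le_rfl).hom (rhoTop (trivB x A) a) = rhoTop (trivB x A) a := by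
    have h3 : (XApr x A).appTop ≫ φ.appTop = (XApr x A).appTop := by
      rw [← Scheme.Hom.comp_appTop, hφ]
    have h4 : φ.appTop.hom (rhoTop (trivB x A) a) = rhoTop (trivB x A) a :=
      congrArg (fun m => m.hom ((Scheme.ΓSpecIso (CommRingCat.of A)).inv.hom a)) h3
    exact (congrArg (fun m => m.hom (rhoTop (trivB x A) a))
      (Scheme.Hom.appLE_eq_app φ (U := ⊤))).trans h4
  exact h1.trans (congrArg (fun t => ((XA x A).presheaf.map (homOfLE hU).op).hom t) h2)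

variable {Y : Scheme.{u}} {f : X ⟶ Y} {yY : Y ⟶ specPt k}

theorem Phi1_appLE (a : A) (ha : a * a = 0) (δ : SDer f yY) (U : Y.Opens)
    (W : (XA x A).Opens) (e : W ≤ (gA x f A) ⁻¹ᵁ U) (s : Γ(Y, U)) :
    ((Phi1 x A a ha δ).appLE U W e).hom s =
      ((gA x f A).appLE U W e).hom s +
        rho (trivB x A) W a *
          ((pullback.fst x (specOver A)).appLE (f ⁻¹ᵁ U) W e).hom (δ.d U s) := by
  have h := Phi_appLE x A a 0 δ δ ha (mul_zero a) (mul_zero 0) U W e s
  rw [map_zero, zero_mul, add_zero] at h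
  exact h

end Endo

section Law

variable {k : Type u} [Field k] {X : Scheme.{u}} (x : X ⟶ specPt k)

/-- the endomorphism of `X[ε]` over `k[ε]` attached to a derivation. -/
noncomputable def aut (δ : SDer (𝟙 X) x) : XA x (D k) ⟶ XA x (D k) :=
  pullback.lift (Phi1 x (D k) (epsD k).ε (epsD k).sq δ) (XApr x (D k))
    ((Phi_yY x (D k) (epsD k).ε 0 δ δ (epsD k).sq (mul_zero _) (mul_zero 0)
      (Category.id_comp x)).trans pullback.condition)

theorem aut_fst (δ : SDer (𝟙 X) x) :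
    aut x δ ≫ pullback.fst x (specOver (D k)) = Phi1 x (D k) (epsD k).ε (epsD k).sq δ :=
  pullback.lift_fst _ _ _

theorem aut_snd (δ : SDer (𝟙 X) x) : aut x δ ≫ XApr x (D k) = XApr x (D k) :=
  pullback.lift_snd _ _ _

theorem incl_aut (δ : SDer (𝟙 X) x) : XAincl x (D k) ≫ aut x δ = XAincl x (D k) := by
  refine pullback.hom_ext ?_ ?_
  · rw [Category.assoc, aut_fst, XAincl_fst]
    exact XAincl_Phi x (D k) (epsD k).ε 0 δ δ (epsD k).sq (mul_zero _) (mul_zero 0)
      rfl (map_zero _)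
  · show (XAincl x (D k) ≫ aut x δ) ≫ XApr x (D k) = XAincl x (D k) ≫ XApr x (D k)
    rw [Category.assoc, aut_snd]

theorem isIso_aut (δ : SDer (𝟙 X) x) : IsIso (aut x δ) :=
  DefGl.isIso_of_hom (trivB x (D k)) (trivB x (D k)) (aut x δ) (aut_snd x δ) (incl_aut x δ)

/-- the automorphism of `X[ε]` attached to a derivation. -/
noncomputable def autIso (δ : SDer (𝟙 X) x) : XA x (D k) ≅ XA x (D k) :=
  haveI := isIso_aut x δ
  asIso (aut x δ)

theorem autIso_hom (δ : SDer (𝟙 X) x) : (autIso x δ).hom = aut x δ := rfl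

theorem rho_eps_sq (W : (XA x (D k)).Opens) :
    rho (trivB x (D k)) W (epsD k).ε * rho (trivB x (D k)) W (epsD k).ε = 0 := by
  rw [← map_mul, (epsD k).sq, map_zero]

/-- composing with an infinitesimal automorphism adds the derivations. -/
theorem aut_comp_Phi1 (δ δ' γ : SDer (𝟙 X) x)
    (hγ : ∀ (U : X.Opens) (s : Γ(X, U)), γ.d U s = δ.d U s + δ'.d U s) :
    aut x δ ≫ Phi1 x (D k) (epsD k).ε (epsD k).sq δ' =
      Phi1 x (D k) (epsD k).ε (epsD k).sq γ := by
  apply hom_ext_of_appLE'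
  · intro t
    have h := congrArg (fun m : XA x (D k) ⟶ X => m t) (aut_fst x δ)
    exact congrArg (fun p => (𝟙 X : X ⟶ X) p) h
  · intro U W _ _ e₁ e₂ s
    have e₁' : W ≤ (aut x δ) ⁻¹ᵁ ((gA x (𝟙 X) (D k)) ⁻¹ᵁ U) := e₁
    have e₂' : W ≤ (gA x (𝟙 X) (D k)) ⁻¹ᵁ U := e₂
    have h1 : ((aut x δ ≫ Phi1 x (D k) (epsD k).ε (epsD k).sq δ').appLE U W e₁).hom s =
        ((aut x δ).appLE ((gA x (𝟙 X) (D k)) ⁻¹ᵁ U) W e₁').hom
          (((Phi1 x (D k) (epsD k).ε (epsD k).sq δ').app U).hom s) :=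
      congrArg (fun m => m.hom s)
        (Scheme.Hom.comp_appLE (aut x δ) (Phi1 x (D k) (epsD k).ε (epsD k).sq δ') U W e₁)
    have h9 : ((Phi1 x (D k) (epsD k).ε (epsD k).sq δ').app U).hom s =
        ((gA x (𝟙 X) (D k)).app U).hom s + DD x (D k) (epsD k).ε 0 δ' δ' U s := rfl
    have hag : aut x δ ≫ gA x (𝟙 X) (D k) = Phi1 x (D k) (epsD k).ε (epsD k).sq δ := by
      rw [← Category.assoc, aut_fst]
      exact Category.comp_id _
    have h2 : ((aut x δ).appLE ((gA x (𝟙 X) (D k)) ⁻¹ᵁ U) W e₁').hom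
        (((gA x (𝟙 X) (D k)).app U).hom s) =
        ((Phi1 x (D k) (epsD k).ε (epsD k).sq δ).appLE U W e₂').hom s := by
      have h3 : ((aut x δ).appLE ((gA x (𝟙 X) (D k)) ⁻¹ᵁ U) W e₁').hom
          (((gA x (𝟙 X) (D k)).app U).hom s) =
          ((aut x δ ≫ gA x (𝟙 X) (D k)).appLE U W e₁').hom s :=
        (congrArg (fun m => m.hom s)
          (Scheme.Hom.comp_appLE (aut x δ) (gA x (𝟙 X) (D k)) U W e₁')).symm
      exact h3.trans (congrArg (fun m => m.hom s) (appLE_of_eq hag U W e₁'))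
    have h4 : ∀ t : Γ(X, (𝟙 X) ⁻¹ᵁ U),
        ((aut x δ).appLE ((gA x (𝟙 X) (D k)) ⁻¹ᵁ U) W e₁').hom (gfst x (𝟙 X) (D k) U t) =
          ((Phi1 x (D k) (epsD k).ε (epsD k).sq δ).appLE U W e₂').hom t := by
      intro t
      have h5 := comp_appLE_apply (aut x δ) (pullback.fst x (specOver (D k))) ((𝟙 X) ⁻¹ᵁ U)
        ((gA x (𝟙 X) (D k)) ⁻¹ᵁ U) W le_rfl e₁' t
      exact h5.trans (congrArg (fun m => m.hom t)
        (appLE_of_eq (aut_fst x δ) ((𝟙 X) ⁻¹ᵁ U) W _))
    have h6 := endo_rho x (D k) (aut x δ) (aut_snd x δ) ((gA x (𝟙 X) (D k)) ⁻¹ᵁ U) W e₁'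
      (epsD k).ε
    have hgf : ∀ t : Γ(X, U), ((gA x (𝟙 X) (D k)).appLE U W e₂').hom t =
        ((pullback.fst x (specOver (D k))).appLE ((𝟙 X) ⁻¹ᵁ U) W e₂').hom t := fun t =>
      congrArg (fun m => m.hom t)
        (appLE_of_eq (Category.comp_id (pullback.fst x (specOver (D k)))) U W e₂')
    have hρ := rho_eps_sq x W
    rw [h1, h9, DD_apply, map_zero, zero_mul, add_zero, map_add, map_mul, h2, h4, h6,
      Phi1_appLE, Phi1_appLE, Phi1_appLE, hγ, map_add, hgf (δ'.d U s)]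
    linear_combination
      (((pullback.fst x (specOver (D k))).appLE ((𝟙 X) ⁻¹ᵁ U) W e₂').hom
        (δ.d U (δ'.d U s))) * hρ

theorem aut_comp (δ δ' γ : SDer (𝟙 X) x)
    (hγ : ∀ (U : X.Opens) (s : Γ(X, U)), γ.d U s = δ.d U s + δ'.d U s) :
    aut x δ ≫ aut x δ' = aut x γ := by
  refine pullback.hom_ext ?_ ?_
  · rw [Category.assoc, aut_fst, aut_fst]
    exact aut_comp_Phi1 x δ δ' γ hγ
  · show (aut x δ ≫ aut x δ') ≫ XApr x (D k) = aut x γ ≫ XApr x (D k)
    rw [Category.assoc, aut_snd, aut_snd, aut_snd]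

end Law

section Equiv

variable {k : Type u} [Field k] {X : Scheme.{u}} (x : X ⟶ specPt k) [QuasiSeparated x]

/-- the sectionwise derivation of a homomorphism `Ω ⟶ id_* O_X`. -/
noncomputable def sd' (α : Omega.sheaf x ⟶
    (Scheme.Modules.pushforward (𝟙 X)).obj (Coh.structureModule X)) : SDer (𝟙 X) x :=
  SDer.ofDer ((dOmega x).postcomp α.val)

theorem sd'_add (α β : Omega.sheaf x ⟶
    (Scheme.Modules.pushforward (𝟙 X)).obj (Coh.structureModule X)) (U : X.Opens)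
    (s : Γ(X, U)) : (sd' x (α + β)).d U s = (sd' x α).d U s + (sd' x β).d U s := rfl

theorem sd'_injective : Function.Injective (sd' x) := by
  intro α β h2
  have h3 : (dOmega x).postcomp α.val = (dOmega x).postcomp β.val := by
    apply der_ext
    intro U s
    have h4 := congrArg (fun δ : SDer (𝟙 X) x => δ.d U s) h2
    exact h4
  exact (Groth.Agent.Lead.OmU.isUniversal_dOmega x _ _).unique h3 rfl

theorem sd'_surjective : Function.Surjective (sd' x) := by
  intro δ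
  obtain ⟨α, hα, -⟩ := Groth.Agent.Lead.OmU.isUniversal_dOmega x _ δ.toDer
  have hα' : (dOmega x).postcomp α.val = δ.toDer := hα
  refine ⟨α, ?_⟩
  show SDer.ofDer ((dOmega x).postcomp α.val) = δ
  rw [hα']
  exact SDer.ofDer_toDer δ

/-- the group of infinitesimal automorphisms of `X`, on the chosen fibre product. -/
abbrev GT : Type u :=
  {φ : XA x (D k) ≅ XA x (D k) // φ.hom ≫ XApr x (D k) = XApr x (D k) ∧
    XAincl x (D k) ≫ φ.hom = XAincl x (D k)}

/-- `id_* O_X ≅ O_X`. -/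
noncomputable def idIso : (Scheme.Modules.pushforward (𝟙 X)).obj (Coh.structureModule X) ≅
    Coh.structureModule X :=
  (Scheme.Modules.pushforwardId X).app (Coh.structureModule X)

/-- the infinitesimal automorphism of a homomorphism `Ω ⟶ O_X`. -/
noncomputable def FT (α : Omega.sheaf x ⟶ Coh.structureModule X) : GT x :=
  ⟨autIso x (sd' x (α ≫ (idIso (X := X)).inv)), aut_snd x _, incl_aut x _⟩

theorem FT_hom (α : Omega.sheaf x ⟶ Coh.structureModule X) :
    (FT x α).1.hom = aut x (sd' x (α ≫ (idIso (X := X)).inv)) := rfl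

theorem FT_injective : Function.Injective (FT x) := by
  intro α β h
  have h1 : aut x (sd' x (α ≫ (idIso (X := X)).inv)) =
      aut x (sd' x (β ≫ (idIso (X := X)).inv)) := congrArg (fun φ : GT x => φ.1.hom) h
  have h2 : Phi1 x (D k) (epsD k).ε (epsD k).sq (sd' x (α ≫ (idIso (X := X)).inv)) =
      Phi1 x (D k) (epsD k).ε (epsD k).sq (sd' x (β ≫ (idIso (X := X)).inv)) := by
    rw [← aut_fst, ← aut_fst, h1]
  have h3 := sd'_injective x (Phi1_injective x _ _ h2)
  exact (cancel_mono (idIso (X := X)).inv).1 h3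

theorem FT_surjective : Function.Surjective (FT x) := by
  intro φ
  have hincl : XAincl x (D k) ≫ (φ.1.hom ≫ pullback.fst x (specOver (D k))) = 𝟙 X := by
    rw [← Category.assoc, φ.2.2, XAincl_fst]
  have hφy : (φ.1.hom ≫ pullback.fst x (specOver (D k))) ≫ x =
      pullback.fst x (specOver (D k)) ≫ x := by
    have h1 : pullback.fst x (specOver (D k)) ≫ x = XApr x (D k) ≫ specOver (D k) :=
      pullback.condition
    rw [Category.assoc, h1, ← Category.assoc, φ.2.1]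
  obtain ⟨δ, hδ⟩ := exists_sder x (𝟙 X) (Category.id_comp x)
    (φ.1.hom ≫ pullback.fst x (specOver (D k))) hincl hφy
  obtain ⟨α', hα'⟩ := sd'_surjective x δ
  refine ⟨α' ≫ (idIso (X := X)).hom, ?_⟩
  apply Subtype.ext
  apply Iso.ext
  rw [FT_hom, Category.assoc, Iso.hom_inv_id, Category.comp_id, hα']
  refine pullback.hom_ext ?_ ?_
  · rw [aut_fst]
    exact hδ.symm
  · show aut x δ ≫ XApr x (D k) = φ.1.hom ≫ XApr x (D k)
    rw [aut_snd, φ.2.1]

theorem FT_add (α β : Omega.sheaf x ⟶ Coh.structureModule X) :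
    (FT x α).1.hom ≫ (FT x β).1.hom = (FT x (α + β)).1.hom := by
  rw [FT_hom, FT_hom, FT_hom]
  apply aut_comp
  intro U s
  have h1 : (α + β) ≫ (idIso (X := X)).inv =
      α ≫ (idIso (X := X)).inv + β ≫ (idIso (X := X)).inv := Preadditive.add_comp _ _ _ _ _ _
  rw [h1]
  exact sd'_add x _ _ U s

/-- **infinitesimal automorphisms and derivations**, on the chosen fibre product. -/
theorem exists_equiv_T :
    ∃ e : GT x ≃ (Omega.sheaf x ⟶ Coh.structureModule X),
      ∀ φ ψ χ : GT x, φ.1 ≪≫ ψ.1 = χ.1 → e χ = e φ + e ψ := by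
  refine ⟨(Equiv.ofBijective (FT x) ⟨FT_injective x, FT_surjective x⟩).symm, ?_⟩
  intro φ ψ χ h
  have hφ : FT x ((Equiv.ofBijective (FT x) ⟨FT_injective x, FT_surjective x⟩).symm φ) = φ :=
    (Equiv.ofBijective (FT x) ⟨FT_injective x, FT_surjective x⟩).apply_symm_apply φ
  have hψ : FT x ((Equiv.ofBijective (FT x) ⟨FT_injective x, FT_surjective x⟩).symm ψ) = ψ :=
    (Equiv.ofBijective (FT x) ⟨FT_injective x, FT_surjective x⟩).apply_symm_apply ψ
  have hχ : χ = FT x ((Equiv.ofBijective (FT x) ⟨FT_injective x, FT_surjective x⟩).symm φ +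
      (Equiv.ofBijective (FT x) ⟨FT_injective x, FT_surjective x⟩).symm ψ) := by
    apply Subtype.ext
    apply Iso.ext
    rw [← FT_add, hφ, hψ, ← h]
    rfl
  rw [hχ]
  exact (Equiv.ofBijective (FT x) ⟨FT_injective x, FT_surjective x⟩).symm_apply_apply _

end Equiv

/-- **infinitesimal automorphisms and derivations**, in `Art` notation. -/
theorem main' (k : Type u) [Field k] (X₀ : Scheme.{u}) [IsLocallyNoetherian X₀]
    (x : X₀ ⟶ specPt k)
    (Xε : Scheme.{u}) (q : Xε ⟶ X₀) (p : Xε ⟶ spec (D k))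
    (hsq' : IsPullback q p x (specOver (D k)))
    (i : X₀ ⟶ Xε) (hiq : i ≫ q = 𝟙 X₀)
    (hip : i ≫ p = x ≫ specRes (D k)) :
    ∃ e : {φ : Xε ≅ Xε // φ.hom ≫ p = p ∧ i ≫ φ.hom = i} ≃
        (Omega.sheaf x ⟶ Coh.structureModule X₀),
      ∀ φ ψ χ : {φ : Xε ≅ Xε // φ.hom ≫ p = p ∧ i ≫ φ.hom = i},
        φ.1 ≪≫ ψ.1 = χ.1 → e χ = e φ + e ψ := by
  haveI : QuasiSeparated x :=
    (HasAffineProperty.iff_of_isAffine (P := @QuasiSeparated)).2 inferInstance
  obtain ⟨θ, hθ⟩ : ∃ θ : Xε ≅ XA x (D k), θ = hsq'.isoPullback := ⟨_, rfl⟩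
  have θ_fst : θ.hom ≫ pullback.fst x (specOver (D k)) = q := by
    rw [hθ]; exact hsq'.isoPullback_hom_fst
  have θ_snd : θ.hom ≫ XApr x (D k) = p := by
    rw [hθ]; exact hsq'.isoPullback_hom_snd
  have θi_snd : θ.inv ≫ p = XApr x (D k) := by
    rw [hθ]; exact hsq'.isoPullback_inv_snd
  have hiθ : i ≫ θ.hom = XAincl x (D k) := by
    refine pullback.hom_ext ?_ ?_
    · rw [Category.assoc, θ_fst, hiq, XAincl_fst]
    · show (i ≫ θ.hom) ≫ XApr x (D k) = XAincl x (D k) ≫ XApr x (D k)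
      rw [Category.assoc, θ_snd, hip, XAincl_snd]
  have hiθ' : XAincl x (D k) ≫ θ.inv = i := by
    rw [← hiθ, Category.assoc, Iso.hom_inv_id, Category.comp_id]
  obtain ⟨eT, heT⟩ := InfAut.exists_equiv_T x
  let conj : {φ : Xε ≅ Xε // φ.hom ≫ p = p ∧ i ≫ φ.hom = i} ≃ InfAut.GT x :=
    { toFun := fun φ => ⟨θ.symm ≪≫ φ.1 ≪≫ θ, by
          show (θ.inv ≫ φ.1.hom ≫ θ.hom) ≫ XApr x (D k) = XApr x (D k)
          rw [Category.assoc, Category.assoc, θ_snd, φ.2.1, θi_snd], by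
          show XAincl x (D k) ≫ θ.inv ≫ φ.1.hom ≫ θ.hom = XAincl x (D k)
          rw [← Category.assoc, hiθ', ← Category.assoc, φ.2.2, hiθ]⟩
      invFun := fun φ => ⟨θ ≪≫ φ.1 ≪≫ θ.symm, by
          show (θ.hom ≫ φ.1.hom ≫ θ.inv) ≫ p = p
          rw [Category.assoc, Category.assoc, θi_snd, φ.2.1, θ_snd], by
          show i ≫ θ.hom ≫ φ.1.hom ≫ θ.inv = i
          rw [← Category.assoc, hiθ, ← Category.assoc, φ.2.2, hiθ']⟩
      left_inv := fun φ => by
        apply Subtype.ext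
        apply Iso.ext
        simp
      right_inv := fun φ => by
        apply Subtype.ext
        apply Iso.ext
        simp }
  refine ⟨conj.trans eT, ?_⟩
  intro φ ψ χ h
  show eT (conj χ) = eT (conj φ) + eT (conj ψ)
  apply heT
  apply Iso.ext
  show (θ.inv ≫ φ.1.hom ≫ θ.hom) ≫ (θ.inv ≫ ψ.1.hom ≫ θ.hom) = θ.inv ≫ χ.1.hom ≫ θ.hom
  rw [← h]
  simp

/-- **infinitesimal automorphisms and derivations**. -/
theorem main (k : Type u) [Field k] (X₀ : Scheme.{u}) [IsLocallyNoetherian X₀]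
    (x : X₀ ⟶ Spec (CommRingCat.of k))
    (Xε : Scheme.{u}) (q : Xε ⟶ X₀) (p : Xε ⟶ Spec (CommRingCat.of (DualNumber k)))
    (hsq : IsPullback q p x (Spec.map (CommRingCat.ofHom (algebraMap k (DualNumber k)))))
    (i : X₀ ⟶ Xε) (hiq : i ≫ q = 𝟙 X₀)
    (hip : i ≫ p = x ≫ Spec.map (CommRingCat.ofHom (TrivSqZeroExt.fstHom k k k).toRingHom)) :
    ∃ e : {φ : Xε ≅ Xε // φ.hom ≫ p = p ∧ i ≫ φ.hom = i} ≃
        (Omega.sheaf x ⟶ Coh.structureModule X₀),
      ∀ φ ψ χ : {φ : Xε ≅ Xε // φ.hom ≫ p = p ∧ i ≫ φ.hom = i},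
        φ.1 ≪≫ ψ.1 = χ.1 → e χ = e φ + e ψ :=
  main' k X₀ x Xε q p hsq i hiq hip

end Groth.Agent.Helper3.InfAut
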