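import Mathlib
import Groth.Prelude.Def_Coh
import Groth.Prelude.Def_Formal
import Groth.Prelude.Def_KLin
import Groth.Agent.Lib.Helper4.BCSec1
import Groth.Agent.Lib.Helper4.LimTRegA
import Groth.Agent.Lib.Lead.BasisIso

/-! The infinitesimal automorphisms of a quasi-coherent module `E₀` on a `k`-scheme `X₀` —
automorphisms of the trivial lifting `q^* E₀` on `X₀ ×_k Spec k[ε]` restricting to the identity
on `X₀` — form a group isomorphic to the additive group `Hom(E₀, E₀)` (helper3).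
The key point is `q_* q^* E₀ = E₀ ⊕ ε E₀`. -/

set_option autoImplicit false
set_option linter.style.haveILetI false
set_option linter.unusedSectionVars false
universe u
open CategoryTheory CategoryTheory.Limits AlgebraicGeometry TopologicalSpace Opposite TensorProduct

set_option backward.isDefEq.respectTransparency.types false
set_option synthInstance.maxHeartbeats 400000
set_option maxHeartbeats 4000000

namespace Groth.Agent.Helper3.InfEnd

open Groth.Agent.Lead.BCU Groth.Agent.Lib.Helper4.BaseChgRing1 Groth.Agent.Lib.Helper4.TenSec2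
  Groth.Agent.Lib.Helper4.BCSec1 Groth.Agent.Lib.Helper4.LimTRegA Groth.Agent.Helper3.RelFPS
  Groth.Agent.Lead.BasisIso

section Alg

variable {A B : Type u} [CommRing A] [CommRing B] (φ : A →+* B)
  {M N : Type u} [AddCommGroup M] [Module A M] [AddCommGroup N] [Module B N]

/-- if `B = A ⊕ A e` with `e² = 0`, every element of a base change `N = B ⊗_A M` is
`l m₁ + e l m₂`. -/
theorem isBC_decomp_surj {l : M → N} (h : IsBC φ l) (e : B) (he : e * e = 0)
    (hdec : ∀ b : B, ∃ a₁ a₂ : A, b = φ a₁ + φ a₂ * e) (n : N) :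
    ∃ m₁ m₂ : M, n = l m₁ + e • l m₂ := by
  letI := φ.toAlgebra
  letI : Module A N := Module.compHom N φ
  haveI : IsScalarTower A B N := ⟨fun a a' n => by
    change (φ a * a') • n = φ a • a' • n
    exact mul_smul _ _ _⟩
  obtain ⟨l', hl', hb⟩ := h
  have hsm : ∀ (a : A) (m : M), φ a • l' m = l' (a • m) := fun a m => (l'.map_smul a m).symm
  refine hb.inductionOn n (fun n => ∃ m₁ m₂ : M, n = l m₁ + e • l m₂) ?_ ?_ ?_ ?_
  · refine ⟨0, 0, ?_⟩
    rw [← hl', map_zero, smul_zero, add_zero]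
  · intro m
    refine ⟨m, 0, ?_⟩
    rw [← hl' 0, map_zero, smul_zero, add_zero, hl']
  · rintro s n ⟨m₁, m₂, rfl⟩
    obtain ⟨a₁, a₂, rfl⟩ := hdec s
    refine ⟨a₁ • m₁, a₁ • m₂ + a₂ • m₁, ?_⟩
    simp only [← hl']
    rw [map_add, ← hsm, ← hsm, ← hsm]
    have h1 : (φ a₁ + φ a₂ * e) • (l' m₁ + e • l' m₂) =
        φ a₁ • l' m₁ + e • (φ a₁ • l' m₂ + φ a₂ • l' m₁) + (φ a₂ * (e * e)) • l' m₂ := by
      module
    rw [h1, he, mul_zero, zero_smul, add_zero]
  · rintro n₁ n₂ ⟨m₁, m₂, rfl⟩ ⟨m₁', m₂', rfl⟩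
    refine ⟨m₁ + m₁', m₂ + m₂', ?_⟩
    simp only [← hl']
    rw [map_add, map_add, smul_add]
    abel

/-- the decomposition is unique. -/
theorem isBC_decomp_inj {l : M → N} (h : IsBC φ l) (e : B)
    (π₁ π₂ : B →+ A) (h₁ : ∀ a b, π₁ (φ a * b) = a * π₁ b) (h₂ : ∀ a b, π₂ (φ a * b) = a * π₂ b)
    (h11 : π₁ 1 = 1) (h1e : π₁ e = 0) (h21 : π₂ 1 = 0) (h2e : π₂ e = 1)
    (m₁ m₂ : M) (hz : l m₁ + e • l m₂ = 0) : m₁ = 0 ∧ m₂ = 0 := by
  letI := φ.toAlgebra
  letI : Module A N := Module.compHom N φ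
  haveI : IsScalarTower A B N := ⟨fun a a' n => by
    change (φ a * a') • n = φ a • a' • n
    exact mul_smul _ _ _⟩
  obtain ⟨l', hl', hb⟩ := h
  let f : B →ₗ[A] M →ₗ[A] M × M := LinearMap.mk₂ A (fun b m => (π₁ b • m, π₂ b • m))
    (fun b b' m => by
      show ((π₁ (b + b')) • m, (π₂ (b + b')) • m) = (π₁ b • m, π₂ b • m) + (π₁ b' • m, π₂ b' • m)
      rw [map_add, map_add, add_smul, add_smul]
      rfl)
    (fun a b m => by
      show (π₁ (a • b) • m, π₂ (a • b) • m) = a • (π₁ b • m, π₂ b • m)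
      have hab : a • b = φ a * b := rfl
      rw [hab, h₁, h₂, mul_smul, mul_smul]
      rfl)
    (fun b m m' => by
      show (π₁ b • (m + m'), π₂ b • (m + m')) = (π₁ b • m, π₂ b • m) + (π₁ b • m', π₂ b • m')
      rw [smul_add, smul_add]
      rfl)
    (fun a b m => by
      show (π₁ b • (a • m), π₂ b • (a • m)) = a • (π₁ b • m, π₂ b • m)
      rw [smul_comm (π₁ b) a m, smul_comm (π₂ b) a m]
      rfl)
  have hT : (1 : B) ⊗ₜ[A] m₁ + e ⊗ₜ[A] m₂ = 0 := by
    apply hb.equiv.injective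
    rw [map_add, hb.equiv_tmul, hb.equiv_tmul, one_smul, map_zero, hl', hl']
    exact hz
  have h3 := congrArg (TensorProduct.lift f) hT
  rw [map_add, TensorProduct.lift.tmul, TensorProduct.lift.tmul, map_zero] at h3
  have h4 : (f 1 m₁ + f e m₂ : M × M) = (m₁, m₂) := by
    show ((π₁ 1 • m₁, π₂ 1 • m₁) + (π₁ e • m₂, π₂ e • m₂) : M × M) = (m₁, m₂)
    rw [h11, h1e, h21, h2e, one_smul, zero_smul, zero_smul, one_smul]
    exact Prod.ext (add_zero _) (zero_add _)
  rw [h4] at h3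
  exact ⟨congrArg Prod.fst h3, congrArg Prod.snd h3⟩

end Alg

section Dual

variable (k : Type u) [Field k]

/-- the constant coefficient. -/
noncomputable def pi1 : DualNumber k →+ k :=
  AddMonoidHom.mk' (fun b => TrivSqZeroExt.fst b) (fun _ _ => rfl)

/-- the `ε`-coefficient. -/
noncomputable def pi2 : DualNumber k →+ k :=
  AddMonoidHom.mk' (fun b => TrivSqZeroExt.snd b) (fun _ _ => rfl)

theorem pi1_mul (a : k) (b : DualNumber k) :
    pi1 k (algebraMap k (DualNumber k) a * b) = a * pi1 k b := rfl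

theorem pi2_mul (a : k) (b : DualNumber k) :
    pi2 k (algebraMap k (DualNumber k) a * b) = a * pi2 k b := by
  show (TrivSqZeroExt.inl a * b : DualNumber k).snd = a * b.snd
  rw [TrivSqZeroExt.snd_mul, TrivSqZeroExt.fst_inl, TrivSqZeroExt.snd_inl, smul_zero, add_zero,
    smul_eq_mul]

theorem dual_dec (b : DualNumber k) : ∃ a₁ a₂ : k,
    b = algebraMap k (DualNumber k) a₁ + algebraMap k (DualNumber k) a₂ * DualNumber.eps := by
  refine ⟨b.fst, b.snd, ?_⟩
  have h1 : (TrivSqZeroExt.inl b.snd * (DualNumber.eps : DualNumber k)) =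
      TrivSqZeroExt.inr b.snd := by
    show TrivSqZeroExt.inl b.snd * TrivSqZeroExt.inr 1 = _
    rw [TrivSqZeroExt.inl_mul_inr, smul_eq_mul, mul_one]
  show b = TrivSqZeroExt.inl b.fst + TrivSqZeroExt.inl b.snd * DualNumber.eps
  rw [h1, TrivSqZeroExt.inl_fst_add_inr_snd_eq]

end Dual

section Glob

theorem toGlobal_res {A : Type u} [CommRing A] {X : Scheme.{u}} [X.Over (Spec (CommRingCat.of A))]
    (U : X.Opens) (a : A) :
    (X.presheaf.map (homOfLE (le_top : U ≤ ⊤)).op).hom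
        (Coh.toGlobal (X ↘ Spec (CommRingCat.of A)) a) = alphaRing A X U a := by
  have h0 : Coh.toGlobal (X ↘ Spec (CommRingCat.of A)) a = alphaRing A X ⊤ a :=
    (congrArg (fun m => m.hom ((Scheme.ΓSpecIso (CommRingCat.of A)).inv.hom a))
      (Scheme.Hom.appLE_eq_app (X ↘ Spec (CommRingCat.of A)) (U := ⊤))).symm
  exact (congrArg (fun r => (X.presheaf.map (homOfLE (le_top : U ≤ ⊤)).op).hom r) h0).trans
    (alphaRing_res A le_top a)

theorem toGlobal_comp_specMap {A B : Type u} [CommRing A] [CommRing B] (F : B →+* A)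
    {X : Scheme.{u}} (x : X ⟶ Spec (CommRingCat.of A)) (b : B) :
    Coh.toGlobal (x ≫ Spec.map (CommRingCat.ofHom F)) b = Coh.toGlobal x (F b) := by
  have h := Scheme.ΓSpecIso_inv_naturality (CommRingCat.ofHom F)
  have h2 := congrArg (fun m => (m ≫ x.appTop).hom b) h
  unfold Coh.toGlobal
  rw [Scheme.Hom.comp_appTop]
  exact h2.symm

end Glob

section Geo

variable (k : Type u) [Field k] {X₀ Xε : Scheme.{u}}
  [X₀.Over (Spec (CommRingCat.of k))] [Xε.Over (Spec (CommRingCat.of (DualNumber k)))]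

/-- multiplication by `ε`. -/
noncomputable def epsM (M : Xε.Modules) : M ⟶ M :=
  Formal.smulMod (DualNumber k) M DualNumber.eps

theorem epsM_sq (M : Xε.Modules) : epsM k M ≫ epsM k M = 0 := by
  unfold epsM Formal.smulMod
  rw [← KLin.smulModΓ_mul, ← map_mul, DualNumber.eps_mul_eps, map_zero, KLin.smulModΓ_zero]

theorem epsM_comm {M N : Xε.Modules} (f : M ⟶ N) : f ≫ epsM k N = epsM k M ≫ f :=
  KLin.comp_smulModΓ f _

theorem epsM_app (M : Xε.Modules) (U : Xε.Opens) (n : Γ(M, U)) :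
    (epsM k M).app U n = alphaRing (DualNumber k) Xε U DualNumber.eps • n :=
  (KLin.smulModΓ_app_apply M _ U n).trans
    (congrArg (fun r => r • n) (toGlobal_res (A := DualNumber k) U DualNumber.eps))

theorem eps_pull_zero (i : X₀ ⟶ Xε)
    (hip : i ≫ (Xε ↘ Spec (CommRingCat.of (DualNumber k))) =
      (X₀ ↘ Spec (CommRingCat.of k)) ≫
        Spec.map (CommRingCat.ofHom (TrivSqZeroExt.fstHom k k k).toRingHom))
    (N : Xε.Modules) : (Scheme.Modules.pullback i).map (epsM k N) = 0 := by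
  have h1 := smulΓ_pullback i N
    (Coh.toGlobal (Xε ↘ Spec (CommRingCat.of (DualNumber k))) DualNumber.eps)
  have h2 : i.appTop.hom
      (Coh.toGlobal (Xε ↘ Spec (CommRingCat.of (DualNumber k))) DualNumber.eps) = 0 := by
    have h3 : i.appTop.hom
        (Coh.toGlobal (Xε ↘ Spec (CommRingCat.of (DualNumber k))) DualNumber.eps) =
        Coh.toGlobal (i ≫ (Xε ↘ Spec (CommRingCat.of (DualNumber k)))) DualNumber.eps := by
      unfold Coh.toGlobal
      rw [Scheme.Hom.comp_appTop]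
      rfl
    rw [h3, hip, toGlobal_comp_specMap]
    have h4 : (TrivSqZeroExt.fstHom k k k).toRingHom (DualNumber.eps : DualNumber k) = 0 := rfl
    rw [h4, map_zero]
    rfl
  rw [h2] at h1
  exact h1.trans (KLin.smulModΓ_zero _)

theorem res_rfl {Z : Scheme.{u}} (H : Z.Modules) {O : Z.Opens} (h : O ≤ O) (x : Γ(H, O)) :
    Groth.Agent.Helper1.QcCech.res H h x = x := by
  change H.presheaf.map (𝟙 _) x = x
  rw [H.presheaf.map_id]
  rfl

variable (q : Xε ⟶ X₀) (E₀ : X₀.Modules)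

/-- the unit `E₀ ⟶ q_* q^* E₀`. -/
noncomputable def eta :
    E₀ ⟶ (Scheme.Modules.pushforward q).obj ((Scheme.Modules.pullback q).obj E₀) :=
  (Scheme.Modules.pullbackPushforwardAdjunction q).unit.app E₀

/-- the comparison `E₀ ⊕ E₀ ⟶ q_* q^* E₀`, `(m₁, m₂) ↦ m₁ + ε m₂`. -/
noncomputable def theta :
    E₀ ⊞ E₀ ⟶ (Scheme.Modules.pushforward q).obj ((Scheme.Modules.pullback q).obj E₀) :=
  biprod.desc (eta q E₀)
    (eta q E₀ ≫ (Scheme.Modules.pushforward q).map (epsM k ((Scheme.Modules.pullback q).obj E₀)))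

attribute [local instance] secMod

theorem unit_app_eq {W : X₀.Opens} (m : Γ(E₀, W)) :
    (eta q E₀).app W m = unitRes q E₀ (le_refl (q ⁻¹ᵁ W)) m := by
  unfold unitRes
  exact (res_rfl ((Scheme.Modules.pullback q).obj E₀) (le_refl (q ⁻¹ᵁ W)) _).symm

theorem theta_inl {W : X₀.Opens} (m : Γ(E₀, W)) :
    (theta k q E₀).app W ((biprod.inl : E₀ ⟶ E₀ ⊞ E₀).app W m) =
      unitRes q E₀ (le_refl (q ⁻¹ᵁ W)) m := by
  have h := congrArg (fun φ : E₀ ⟶ _ => φ.app W m)
    (biprod.inl_desc (eta q E₀)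
      (eta q E₀ ≫
        (Scheme.Modules.pushforward q).map (epsM k ((Scheme.Modules.pullback q).obj E₀))))
  exact h.trans (unit_app_eq q E₀ m)

theorem theta_inr {W : X₀.Opens} (m : Γ(E₀, W)) :
    (theta k q E₀).app W ((biprod.inr : E₀ ⟶ E₀ ⊞ E₀).app W m) =
      (DualNumber.eps : DualNumber k) • unitRes q E₀ (le_refl (q ⁻¹ᵁ W)) m := by
  have h := congrArg (fun φ : E₀ ⟶ _ => φ.app W m)
    (biprod.inr_desc (eta q E₀)
      (eta q E₀ ≫
        (Scheme.Modules.pushforward q).map (epsM k ((Scheme.Modules.pullback q).obj E₀))))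
  refine h.trans ?_
  show (epsM k ((Scheme.Modules.pullback q).obj E₀)).app (q ⁻¹ᵁ W) ((eta q E₀).app W m) = _
  rw [epsM_app, unit_app_eq]
  rfl

theorem theta_bijective [E₀.IsQuasicoherent]
    (hsq : IsPullback q (Xε ↘ Spec (CommRingCat.of (DualNumber k)))
      (X₀ ↘ Spec (CommRingCat.of k))
      (Spec.map (CommRingCat.ofHom (algebraMap k (DualNumber k)))))
    {W : X₀.Opens} (hW : IsAffineOpen W) : Function.Bijective ((theta k q E₀).app W) := by
  have hl := isBC_base (algebraMap k (DualNumber k)) q E₀ hsq hW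
  have hadd : ∀ a b : Γ(E₀, W),
      (theta k q E₀).app W ((biprod.inl : E₀ ⟶ E₀ ⊞ E₀).app W a +
        (biprod.inr : E₀ ⟶ E₀ ⊞ E₀).app W b) =
      unitRes q E₀ (le_refl (q ⁻¹ᵁ W)) a +
        (DualNumber.eps : DualNumber k) • unitRes q E₀ (le_refl (q ⁻¹ᵁ W)) b := by
    intro a b
    have h := map_add (appₗ (theta k q E₀) W) ((biprod.inl : E₀ ⟶ E₀ ⊞ E₀).app W a)
      ((biprod.inr : E₀ ⟶ E₀ ⊞ E₀).app W b)
    rw [appₗ_apply, appₗ_apply, appₗ_apply, theta_inl, theta_inr] at h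
    exact h
  constructor
  · have hinj : Function.Injective (appₗ (theta k q E₀) W) := by
      refine (injective_iff_map_eq_zero (appₗ (theta k q E₀) W)).2 ?_
      intro s hs
      have hs' : (biprod.inl : E₀ ⟶ E₀ ⊞ E₀).app W ((biprod.fst : E₀ ⊞ E₀ ⟶ E₀).app W s) +
          (biprod.inr : E₀ ⟶ E₀ ⊞ E₀).app W ((biprod.snd : E₀ ⊞ E₀ ⟶ E₀).app W s) = s :=
        congrArg (fun φ : E₀ ⊞ E₀ ⟶ E₀ ⊞ E₀ => φ.app W s) (biprod.total (X := E₀) (Y := E₀))
      have h5 : unitRes q E₀ (le_refl (q ⁻¹ᵁ W)) ((biprod.fst : E₀ ⊞ E₀ ⟶ E₀).app W s) +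
          (DualNumber.eps : DualNumber k) •
            unitRes q E₀ (le_refl (q ⁻¹ᵁ W)) ((biprod.snd : E₀ ⊞ E₀ ⟶ E₀).app W s) = 0 := by
        rw [← hadd, hs']
        exact hs
      obtain ⟨z1, z2⟩ := isBC_decomp_inj (algebraMap k (DualNumber k)) hl DualNumber.eps
        (pi1 k) (pi2 k) (pi1_mul k) (pi2_mul k) rfl rfl rfl rfl _ _ h5
      rw [← hs', z1, z2]
      show appₗ (biprod.inl : E₀ ⟶ E₀ ⊞ E₀) W 0 + appₗ (biprod.inr : E₀ ⟶ E₀ ⊞ E₀) W 0 = 0
      rw [map_zero, map_zero, add_zero]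
    exact hinj
  · intro n
    obtain ⟨m₁, m₂, hn⟩ := isBC_decomp_surj (algebraMap k (DualNumber k)) hl DualNumber.eps
      DualNumber.eps_mul_eps (dual_dec k) n
    exact ⟨(biprod.inl : E₀ ⟶ E₀ ⊞ E₀).app W m₁ + (biprod.inr : E₀ ⟶ E₀ ⊞ E₀).app W m₂,
      (hadd m₁ m₂).trans hn.symm⟩

theorem theta_isIso [E₀.IsQuasicoherent]
    (hsq : IsPullback q (Xε ↘ Spec (CommRingCat.of (DualNumber k)))
      (X₀ ↘ Spec (CommRingCat.of k))
      (Spec.map (CommRingCat.ofHom (algebraMap k (DualNumber k))))) :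
    IsIso (theta k q E₀) :=
  isIso_of_bijective_affineOpens _ (fun _ hW => theta_bijective k q E₀ hsq hW)

/-- the infinitesimal automorphism `1 + ε b`. -/
noncomputable def Phi (b : E₀ ⟶ E₀) :
    (Scheme.Modules.pullback q).obj E₀ ⟶ (Scheme.Modules.pullback q).obj E₀ :=
  𝟙 _ + (Scheme.Modules.pullback q).map b ≫ epsM k _

theorem Phi_zero : Phi k q E₀ 0 = 𝟙 _ := by
  unfold Phi
  rw [CategoryTheory.Functor.map_zero, zero_comp, add_zero]

theorem Phi_comp (b b' : E₀ ⟶ E₀) : Phi k q E₀ b ≫ Phi k q E₀ b' = Phi k q E₀ (b + b') := by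
  have hc : epsM k ((Scheme.Modules.pullback q).obj E₀) ≫ (Scheme.Modules.pullback q).map b' =
      (Scheme.Modules.pullback q).map b' ≫ epsM k ((Scheme.Modules.pullback q).obj E₀) :=
    (epsM_comm k ((Scheme.Modules.pullback q).map b')).symm
  have hz : ((Scheme.Modules.pullback q).map b ≫ epsM k ((Scheme.Modules.pullback q).obj E₀)) ≫
      ((Scheme.Modules.pullback q).map b' ≫ epsM k ((Scheme.Modules.pullback q).obj E₀)) = 0 := by
    calc ((Scheme.Modules.pullback q).map b ≫ epsM k ((Scheme.Modules.pullback q).obj E₀)) ≫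
          ((Scheme.Modules.pullback q).map b' ≫ epsM k ((Scheme.Modules.pullback q).obj E₀))
        = (Scheme.Modules.pullback q).map b ≫
            (epsM k ((Scheme.Modules.pullback q).obj E₀) ≫ (Scheme.Modules.pullback q).map b') ≫
              epsM k ((Scheme.Modules.pullback q).obj E₀) := by
          simp only [Category.assoc]
      _ = (Scheme.Modules.pullback q).map b ≫
            ((Scheme.Modules.pullback q).map b' ≫ epsM k ((Scheme.Modules.pullback q).obj E₀)) ≫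
              epsM k ((Scheme.Modules.pullback q).obj E₀) := by rw [hc]
      _ = (Scheme.Modules.pullback q).map b ≫ (Scheme.Modules.pullback q).map b' ≫
            (epsM k ((Scheme.Modules.pullback q).obj E₀) ≫
              epsM k ((Scheme.Modules.pullback q).obj E₀)) := by
          simp only [Category.assoc]
      _ = 0 := by rw [epsM_sq, comp_zero, comp_zero]
  unfold Phi
  simp only [Preadditive.add_comp, Preadditive.comp_add, Category.id_comp, Category.comp_id,
    CategoryTheory.Functor.map_add]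
  rw [hz, add_zero]
  abel

/-- the isomorphism `1 + ε b`. -/
noncomputable def PhiIso (b : E₀ ⟶ E₀) :
    (Scheme.Modules.pullback q).obj E₀ ≅ (Scheme.Modules.pullback q).obj E₀ where
  hom := Phi k q E₀ b
  inv := Phi k q E₀ (-b)
  hom_inv_id := by rw [Phi_comp, add_neg_cancel, Phi_zero]
  inv_hom_id := by rw [Phi_comp, neg_add_cancel, Phi_zero]

theorem H_inj {g g' : (Scheme.Modules.pullback q).obj E₀ ⟶ (Scheme.Modules.pullback q).obj E₀}
    (h : eta q E₀ ≫ (Scheme.Modules.pushforward q).map g =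
      eta q E₀ ≫ (Scheme.Modules.pushforward q).map g') : g = g' := by
  apply ((Scheme.Modules.pullbackPushforwardAdjunction q).homEquiv E₀ _).injective
  rw [Adjunction.homEquiv_unit, Adjunction.homEquiv_unit]
  exact h

theorem unit_nat (c : E₀ ⟶ E₀) :
    eta q E₀ ≫ (Scheme.Modules.pushforward q).map ((Scheme.Modules.pullback q).map c) =
      c ≫ eta q E₀ :=
  ((Scheme.Modules.pullbackPushforwardAdjunction q).unit.naturality c).symm

theorem H_Q (c : E₀ ⟶ E₀)
    (g : (Scheme.Modules.pullback q).obj E₀ ⟶ (Scheme.Modules.pullback q).obj E₀) :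
    eta q E₀ ≫ (Scheme.Modules.pushforward q).map ((Scheme.Modules.pullback q).map c ≫ g) =
      c ≫ eta q E₀ ≫ (Scheme.Modules.pushforward q).map g := by
  rw [CategoryTheory.Functor.map_comp, ← Category.assoc, unit_nat, Category.assoc]

theorem Phi_injective [IsIso (theta k q E₀)] {b b' : E₀ ⟶ E₀}
    (h : Phi k q E₀ b = Phi k q E₀ b') : b = b' := by
  unfold Phi at h
  have h1 : (Scheme.Modules.pullback q).map b ≫ epsM k ((Scheme.Modules.pullback q).obj E₀) =
      (Scheme.Modules.pullback q).map b' ≫ epsM k ((Scheme.Modules.pullback q).obj E₀) :=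
    add_left_cancel h
  have h2 : eta q E₀ ≫
        (Scheme.Modules.pushforward q).map ((Scheme.Modules.pullback q).map b ≫
          epsM k ((Scheme.Modules.pullback q).obj E₀)) =
      eta q E₀ ≫
        (Scheme.Modules.pushforward q).map ((Scheme.Modules.pullback q).map b' ≫
          epsM k ((Scheme.Modules.pullback q).obj E₀)) := by rw [h1]
  rw [H_Q, H_Q] at h2
  have h3 : biprod.inr ≫ theta k q E₀ =
      eta q E₀ ≫
        (Scheme.Modules.pushforward q).map (epsM k ((Scheme.Modules.pullback q).obj E₀)) :=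
    biprod.inr_desc _ _
  rw [← h3, ← Category.assoc, ← Category.assoc] at h2
  exact (cancel_mono biprod.inr).1 ((cancel_mono (theta k q E₀)).1 h2)

theorem QPi_injective (i : X₀ ⟶ Xε) (hiq : i ≫ q = 𝟙 X₀) {a a' : E₀ ⟶ E₀}
    (h : (Scheme.Modules.pullback i).map ((Scheme.Modules.pullback q).map a) =
      (Scheme.Modules.pullback i).map ((Scheme.Modules.pullback q).map a')) : a = a' := by
  let α : Scheme.Modules.pullback q ⋙ Scheme.Modules.pullback i ≅ 𝟭 X₀.Modules :=
    Scheme.Modules.pullbackComp i q ≪≫ Scheme.Modules.pullbackCongr hiq ≪≫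
      Scheme.Modules.pullbackId X₀
  haveI : (Scheme.Modules.pullback q ⋙ Scheme.Modules.pullback i).Faithful :=
    Functor.Faithful.of_iso α.symm
  exact (Scheme.Modules.pullback q ⋙ Scheme.Modules.pullback i).map_injective h

theorem Phi_surjective [IsIso (theta k q E₀)] (i : X₀ ⟶ Xε) (hiq : i ≫ q = 𝟙 X₀)
    (hεi : ∀ N : Xε.Modules, (Scheme.Modules.pullback i).map (epsM k N) = 0)
    (φ : (Scheme.Modules.pullback q).obj E₀ ⟶ (Scheme.Modules.pullback q).obj E₀)
    (hφ : (Scheme.Modules.pullback i).map φ = 𝟙 _) : ∃ b : E₀ ⟶ E₀, φ = Phi k q E₀ b := by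
  obtain ⟨t, ht⟩ : ∃ t : E₀ ⟶ E₀ ⊞ E₀, t = (eta q E₀ ≫
      (Scheme.Modules.pushforward q).map φ) ≫ inv (theta k q E₀) := ⟨_, rfl⟩
  have h1 : eta q E₀ ≫ (Scheme.Modules.pushforward q).map φ = t ≫ theta k q E₀ := by
    rw [ht, Category.assoc, IsIso.inv_hom_id, Category.comp_id]
  obtain ⟨a, ha⟩ : ∃ a : E₀ ⟶ E₀, a = t ≫ biprod.fst := ⟨_, rfl⟩
  obtain ⟨b, hb⟩ : ∃ b : E₀ ⟶ E₀, b = t ≫ biprod.snd := ⟨_, rfl⟩
  have hθ : theta k q E₀ =
      biprod.fst ≫ eta q E₀ +
        biprod.snd ≫ (eta q E₀ ≫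
          (Scheme.Modules.pushforward q).map (epsM k ((Scheme.Modules.pullback q).obj E₀))) :=
    biprod.desc_eq
  have hdec : eta q E₀ ≫ (Scheme.Modules.pushforward q).map φ =
      a ≫ eta q E₀ +
        b ≫ (eta q E₀ ≫
          (Scheme.Modules.pushforward q).map (epsM k ((Scheme.Modules.pullback q).obj E₀))) := by
    rw [ha, hb, h1, hθ, Preadditive.comp_add]
    simp only [Category.assoc]
  have hH : eta q E₀ ≫ (Scheme.Modules.pushforward q).map φ =
      eta q E₀ ≫
        (Scheme.Modules.pushforward q).map ((Scheme.Modules.pullback q).map a +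
          (Scheme.Modules.pullback q).map b ≫ epsM k ((Scheme.Modules.pullback q).obj E₀)) := by
    rw [CategoryTheory.Functor.map_add, Preadditive.comp_add, H_Q, unit_nat]
    exact hdec
  have hφ_eq : φ = (Scheme.Modules.pullback q).map a +
      (Scheme.Modules.pullback q).map b ≫ epsM k ((Scheme.Modules.pullback q).obj E₀) :=
    H_inj q E₀ hH
  have ha1 : a = 𝟙 E₀ := by
    apply QPi_injective q E₀ i hiq
    have h4 := hφ
    rw [hφ_eq, CategoryTheory.Functor.map_add, CategoryTheory.Functor.map_comp, hεi, comp_zero,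
      add_zero] at h4
    rw [h4, CategoryTheory.Functor.map_id, CategoryTheory.Functor.map_id]
  refine ⟨b, ?_⟩
  rw [hφ_eq, ha1, CategoryTheory.Functor.map_id]
  rfl

/-- **infinitesimal automorphisms of a module**, for schemes over `k` and `k[ε]`. -/
theorem main_over [E₀.IsQuasicoherent]
    (hsq : IsPullback q (Xε ↘ Spec (CommRingCat.of (DualNumber k)))
      (X₀ ↘ Spec (CommRingCat.of k))
      (Spec.map (CommRingCat.ofHom (algebraMap k (DualNumber k)))))
    (i : X₀ ⟶ Xε) (hiq : i ≫ q = 𝟙 X₀)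
    (hεi : ∀ N : Xε.Modules, (Scheme.Modules.pullback i).map (epsM k N) = 0) :
    ∃ e : {φ : (Scheme.Modules.pullback q).obj E₀ ≅ (Scheme.Modules.pullback q).obj E₀ //
            (Scheme.Modules.pullback i).map φ.hom = 𝟙 _} ≃ (E₀ ⟶ E₀),
      ∀ φ ψ χ : {φ : (Scheme.Modules.pullback q).obj E₀ ≅ (Scheme.Modules.pullback q).obj E₀ //
            (Scheme.Modules.pullback i).map φ.hom = 𝟙 _},
        φ.1 ≪≫ ψ.1 = χ.1 → e χ = e φ + e ψ := by
  haveI : IsIso (theta k q E₀) := theta_isIso k q E₀ hsq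
  have hpull : ∀ b : E₀ ⟶ E₀, (Scheme.Modules.pullback i).map (Phi k q E₀ b) = 𝟙 _ := by
    intro b
    unfold Phi
    rw [CategoryTheory.Functor.map_add, CategoryTheory.Functor.map_id,
      CategoryTheory.Functor.map_comp, hεi, comp_zero, add_zero]
  let F : (E₀ ⟶ E₀) →
      {φ : (Scheme.Modules.pullback q).obj E₀ ≅ (Scheme.Modules.pullback q).obj E₀ //
        (Scheme.Modules.pullback i).map φ.hom = 𝟙 _} :=
    fun b => ⟨PhiIso k q E₀ b, hpull b⟩
  have hinj : Function.Injective F := by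
    intro b b' h
    exact Phi_injective k q E₀ (congrArg (fun φ => φ.1.hom) h)
  have hsurj : Function.Surjective F := by
    intro φ
    obtain ⟨b, hb⟩ := Phi_surjective k q E₀ i hiq hεi φ.1.hom φ.2
    refine ⟨b, ?_⟩
    apply Subtype.ext
    apply Iso.ext
    exact hb.symm
  refine ⟨(Equiv.ofBijective F ⟨hinj, hsurj⟩).symm, ?_⟩
  intro φ ψ χ h
  have hφ : F ((Equiv.ofBijective F ⟨hinj, hsurj⟩).symm φ) = φ :=
    (Equiv.ofBijective F ⟨hinj, hsurj⟩).apply_symm_apply φ
  have hψ : F ((Equiv.ofBijective F ⟨hinj, hsurj⟩).symm ψ) = ψ :=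
    (Equiv.ofBijective F ⟨hinj, hsurj⟩).apply_symm_apply ψ
  have hχ : χ = F ((Equiv.ofBijective F ⟨hinj, hsurj⟩).symm φ +
      (Equiv.ofBijective F ⟨hinj, hsurj⟩).symm ψ) := by
    apply Subtype.ext
    apply Iso.ext
    show χ.1.hom = Phi k q E₀ _
    rw [← Phi_comp, ← h]
    show φ.1.hom ≫ ψ.1.hom = (F _).1.hom ≫ (F _).1.hom
    rw [hφ, hψ]
  rw [hχ]
  exact (Equiv.ofBijective F ⟨hinj, hsurj⟩).symm_apply_apply _

end Geo

/-- **infinitesimal automorphisms of a module**. -/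
theorem main (k : Type u) [Field k]
    (X₀ : Scheme.{u}) [IsLocallyNoetherian X₀] (x : X₀ ⟶ Spec (CommRingCat.of k))
    (E₀ : X₀.Modules) (hE₀ : Coh.IsQCoh E₀)
    (Xε : Scheme.{u}) (q : Xε ⟶ X₀) (p : Xε ⟶ Spec (CommRingCat.of (DualNumber k)))
    (hsq : IsPullback q p x (Spec.map (CommRingCat.ofHom (algebraMap k (DualNumber k)))))
    (i : X₀ ⟶ Xε) (hiq : i ≫ q = 𝟙 X₀)
    (hip : i ≫ p = x ≫ Spec.map (CommRingCat.ofHom (TrivSqZeroExt.fstHom k k k).toRingHom)) :
    ∃ e : {φ : (Scheme.Modules.pullback q).obj E₀ ≅ (Scheme.Modules.pullback q).obj E₀ //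
            (Scheme.Modules.pullback i).map φ.hom = 𝟙 _} ≃ (E₀ ⟶ E₀),
      ∀ φ ψ χ : {φ : (Scheme.Modules.pullback q).obj E₀ ≅ (Scheme.Modules.pullback q).obj E₀ //
            (Scheme.Modules.pullback i).map φ.hom = 𝟙 _},
        φ.1 ≪≫ ψ.1 = χ.1 → e χ = e φ + e ψ := by
  letI : X₀.Over (Spec (CommRingCat.of k)) := ⟨x⟩
  letI : Xε.Over (Spec (CommRingCat.of (DualNumber k))) := ⟨p⟩
  haveI : E₀.IsQuasicoherent := hE₀
  exact main_over k q E₀ hsq i hiq (fun N => eps_pull_zero k i hip N)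

end Groth.Agent.Helper3.InfEnd
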