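import Mathlib
import Groth.Agent.Lib.Helper8.ExtLoc5
import Groth.Agent.Lib.Helper8.ABS5

/-!
# Injective dimension is local (Noetherian rings, arbitrary modules)
-/

set_option autoImplicit false
universe u

namespace Groth.Agent.Helper3.InjDimLoc

open CategoryTheory Abelian Groth.Agent.Helper8.ExtLoc

section Quot

variable {R : Type u} [CommRing R] (S : Submonoid R) (I : Ideal R)

/-- the quotient of a localization by an extended ideal is the localized quotient -/
theorem nonempty_quotient_equiv :
    Nonempty ((Localization S ⧸ I.map (algebraMap R (Localization S)))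
      ≃ₗ[Localization S] LocalizedModule S (R ⧸ I)) := by
  let A := Localization S
  let e₁ : LocalizedModule S (R ⧸ I) := LocalizedModule.mk 1 1
  let φ : A →ₗ[A] LocalizedModule S (R ⧸ I) := LinearMap.toSpanSingleton A _ e₁
  have hφsurj : Function.Surjective φ := by
    intro y
    induction y using LocalizedModule.induction_on with
    | h m s =>
      obtain ⟨r, rfl⟩ := Ideal.Quotient.mk_surjective m
      refine ⟨Localization.mk r s, ?_⟩
      change (Localization.mk r s : A) •
        (LocalizedModule.mk (1 : R ⧸ I) (1 : S) : LocalizedModule S (R ⧸ I)) = _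
      rw [LocalizedModule.mk_smul_mk, mul_one]
      congr 1
      change r • (1 : R ⧸ I) = _
      rw [Algebra.smul_def, mul_one]
      rfl
  have hker : LinearMap.ker φ = I.map (algebraMap R A) := by
    apply le_antisymm
    · intro a ha
      rw [LinearMap.mem_ker] at ha
      obtain ⟨r, s, rfl⟩ := IsLocalization.exists_mk'_eq S a
      rw [← Localization.mk_eq_mk'] at ha ⊢
      change (Localization.mk r s : A) •
        (LocalizedModule.mk (1 : R ⧸ I) (1 : S) : LocalizedModule S (R ⧸ I)) = 0 at ha
      rw [LocalizedModule.mk_smul_mk, IsLocalizedModule.mk_eq_mk',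
        IsLocalizedModule.mk'_eq_zero'] at ha
      obtain ⟨t, ht⟩ := ha
      have htr : (t : R) * r ∈ I := by
        rw [← Ideal.Quotient.eq_zero_iff_mem]
        have h2 : (t : R) • (r • (1 : R ⧸ I)) = 0 := ht
        rw [Algebra.smul_def, Algebra.smul_def, mul_one] at h2
        rw [map_mul]
        exact h2
      rw [IsLocalization.mem_map_algebraMap_iff S]
      refine ⟨(⟨(t : R) * r, htr⟩, s * t), ?_⟩
      rw [Localization.mk_eq_mk']
      change IsLocalization.mk' A r s * algebraMap R A ((s * t : S) : R) = algebraMap R A ((t : R) * r)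
      rw [Submonoid.coe_mul, map_mul, ← mul_assoc, IsLocalization.mk'_spec, ← map_mul, mul_comm]
    · rw [Ideal.map_le_iff_le_comap]
      intro r hr
      rw [Ideal.mem_comap]
      change algebraMap R A r ∈ LinearMap.ker φ
      rw [LinearMap.mem_ker]
      change (algebraMap R A r) • (LocalizedModule.mk (1 : R ⧸ I) (1 : S) :
        LocalizedModule S (R ⧸ I)) = 0
      rw [algebraMap_smul, LocalizedModule.smul'_mk]
      have : r • (1 : R ⧸ I) = 0 := by
        rw [Algebra.smul_def, mul_one]
        exact Ideal.Quotient.eq_zero_iff_mem.mpr hr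
      rw [this, LocalizedModule.zero_mk]
  exact ⟨(Submodule.quotEquivOfEq _ _ hker.symm).trans (φ.quotKerEquivOfSurjective hφsurj)⟩

end Quot

theorem main (A : Type u) [CommRing A] [IsNoetherianRing A]
    (M : Type u) [AddCommGroup M] [Module A M] (n : ℕ) :
    HasInjectiveDimensionLT (ModuleCat.of A M) (n + 1) ↔
      ∀ p : PrimeSpectrum A, HasInjectiveDimensionLT
        (ModuleCat.of (Localization.AtPrime p.asIdeal)
          (LocalizedModule p.asIdeal.primeCompl M)) (n + 1) := by
  constructor
  · intro h p
    apply Groth.Agent.Helper8.ABS.hasInjectiveDimensionLT_of_forall_ideal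
      (Localization.AtPrime p.asIdeal) n
    intro J
    have hJ : J = (J.comap (algebraMap A (Localization.AtPrime p.asIdeal))).map
        (algebraMap A (Localization.AtPrime p.asIdeal)) :=
      (IsLocalization.map_comap p.asIdeal.primeCompl _ J).symm
    have h1 : Subsingleton (Ext (ModuleCat.of A
        (A ⧸ J.comap (algebraMap A (Localization.AtPrime p.asIdeal))))
        (ModuleCat.of A M) (n + 1)) :=
      HasInjectiveDimensionLT.subsingleton (ModuleCat.of A M) (n + 1) (n + 1) le_rfl _
    have h2 := subsingleton_ext_loc_of_subsingleton p.asIdeal.primeCompl (n + 1)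
      (A ⧸ J.comap (algebraMap A (Localization.AtPrime p.asIdeal))) M h1
    obtain ⟨e⟩ := nonempty_quotient_equiv p.asIdeal.primeCompl
      (J.comap (algebraMap A (Localization.AtPrime p.asIdeal)))
    let e' : (Localization.AtPrime p.asIdeal ⧸ J) ≃ₗ[Localization.AtPrime p.asIdeal]
        LocalizedModule p.asIdeal.primeCompl
          (A ⧸ J.comap (algebraMap A (Localization.AtPrime p.asIdeal))) :=
      (Submodule.quotEquivOfEq J _ hJ).trans e
    exact Groth.Agent.Helper8.Goren.ext_subsingleton_of_linearEquiv_left
      (ModuleCat.of (Localization.AtPrime p.asIdeal) (LocalizedModule p.asIdeal.primeCompl M))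
      e'.symm (n + 1) h2
  · intro h
    apply Groth.Agent.Helper8.ABS.hasInjectiveDimensionLT_of_forall_ideal A n M
    intro I
    have key : ∀ x : Ext (ModuleCat.of A (A ⧸ I)) (ModuleCat.of A M) (n + 1), x = 0 := by
      intro x
      apply eq_zero_of_forall_maximal A x
      intro m hm
      haveI : m.IsPrime := hm.isPrime
      have hp := h ⟨m, hm.isPrime⟩
      have h0 : Φ m.primeCompl _ _ (n + 1) x = 0 := by
        have : Subsingleton (Ext ((locF m.primeCompl).obj (ModuleCat.of A (A ⧸ I)))
            ((locF m.primeCompl).obj (ModuleCat.of A M)) (n + 1)) :=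
          HasInjectiveDimensionLT.subsingleton
            (ModuleCat.of (Localization.AtPrime m) (LocalizedModule m.primeCompl M))
            (n + 1) (n + 1) le_rfl _
        exact Subsingleton.elim _ _
      obtain ⟨s, hs⟩ := (Φ_loc m.primeCompl M (n + 1) (A ⧸ I)).2 x h0
      exact ⟨s, s.2, hs⟩
    exact ⟨fun a b => by rw [key a, key b]⟩

end Groth.Agent.Helper3.InjDimLoc
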