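import Mathlib

/-!
# Rings with an involution: localizations over the fixed ring are semilocal (helper3)
-/

set_option autoImplicit false

namespace Groth.Agent.Helper3.InvSemi

open Polynomial TensorProduct

section Integral

variable {S : Type*} {R : Type*} [CommRing S] [CommRing R] [Algebra S R]

/-- incomparability in the form we use -/
theorem eq_of_le_of_comap_eq [Algebra.IsIntegral S R] {P P' : Ideal R} [P'.IsPrime]
    (hle : P' ≤ P) (h : P'.comap (algebraMap S R) = P.comap (algebraMap S R)) : P' = P := by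
  by_contra hne
  have hlt : P' < P := lt_of_le_of_ne hle hne
  obtain ⟨x, hxP, hxP'⟩ := SetLike.exists_of_lt hlt
  have h1 := Ideal.comap_lt_comap_of_integral_mem_sdiff hle ⟨hxP, hxP'⟩
    (Algebra.IsIntegral.isIntegral (R := S) x)
  exact (ne_of_lt h1) h

variable (lam : R ≃ₐ[S] R) (hlam : ∀ r, lam (lam r) = r)
  (hfix : ∀ r : R, lam r = r → ∃ s : S, algebraMap S R s = r)

include hlam hfix in
/-- `R` is integral over the fixed ring of an involution. -/
theorem isIntegral : Algebra.IsIntegral S R := by
  refine ⟨fun r => ?_⟩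
  obtain ⟨s₁, hs₁⟩ := hfix (r + lam r) (by rw [map_add, hlam, add_comm])
  obtain ⟨s₂, hs₂⟩ := hfix (r * lam r) (by rw [map_mul, hlam, mul_comm])
  refine ⟨X ^ 2 - C s₁ * X + C s₂, by monicity!, ?_⟩
  simp only [eval₂_add, eval₂_sub, eval₂_pow, eval₂_X, eval₂_mul, eval₂_C]
  rw [hs₁, hs₂]; ring

include hlam hfix in
/-- two primes over the same prime of the fixed ring are conjugate under the involution -/
theorem eq_or_eq_comap {P P' : Ideal R} [hP : P.IsPrime] [P'.IsPrime]
    (h : P'.comap (algebraMap S R) = P.comap (algebraMap S R)) :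
    P' = P ∨ P' = P.comap (lam : R →+* R) := by
  haveI := isIntegral lam hlam hfix
  have hsub : (P' : Set R) ⊆ (P : Set R) ∪ (P.comap (lam : R →+* R) : Set R) := by
    intro x hx
    obtain ⟨s, hs⟩ := hfix (x * lam x) (by rw [map_mul, hlam, mul_comm])
    have h1 : s ∈ P'.comap (algebraMap S R) := by
      rw [Ideal.mem_comap, hs]; exact Ideal.mul_mem_right _ _ hx
    rw [h, Ideal.mem_comap, hs] at h1
    rcases hP.mem_or_mem h1 with h2 | h2
    · exact Or.inl h2
    · exact Or.inr h2
  have hc : ((lam : R →+* R)).comp (algebraMap S R) = algebraMap S R :=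
    RingHom.ext fun s => lam.commutes s
  rcases (Ideal.subset_union).mp hsub with h1 | h1
  · exact Or.inl (eq_of_le_of_comap_eq (S := S) h1 h)
  · refine Or.inr (eq_of_le_of_comap_eq (S := S) h1 ?_)
    rw [h, Ideal.comap_comap, hc]

include hlam hfix in
/-- the localization of `R` at the complement of a prime of the fixed ring is semilocal -/
theorem finite_maximalSpectrum (q : Ideal S) [q.IsPrime] :
    Finite (MaximalSpectrum (Localization (Algebra.algebraMapSubmonoid R q.primeCompl))) := by
  classical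
  haveI := isIntegral lam hlam hfix
  obtain ⟨T, hT⟩ : ∃ T : Submonoid R, T = Algebra.algebraMapSubmonoid R q.primeCompl := ⟨_, rfl⟩
  rw [← hT]
  have hTmem : ∀ x : R, x ∈ T ↔ ∃ s : S, s ∉ q ∧ algebraMap S R s = x := by
    intro x
    rw [hT]
    exact Iff.rfl
  have key : ∀ 𝔫 : MaximalSpectrum (Localization T),
      (𝔫.asIdeal.comap (algebraMap R (Localization T))).comap (algebraMap S R) = q := by
    intro 𝔫
    have h0 :=
      (IsLocalization.isPrime_iff_isPrime_disjoint T (Localization T) 𝔫.asIdeal).mp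
        𝔫.isMaximal.isPrime
    obtain ⟨P, hP⟩ : ∃ P : Ideal R, P = 𝔫.asIdeal.comap (algebraMap R (Localization T)) :=
      ⟨_, rfl⟩
    have hPprime : P.IsPrime := by rw [hP]; exact h0.1
    have hPdisj : Disjoint (T : Set R) (P : Set R) := by rw [hP]; exact h0.2
    rw [← hP]
    have hle : P.comap (algebraMap S R) ≤ q := by
      intro s hs
      by_contra hsq
      exact Set.disjoint_left.mp hPdisj ((hTmem _).mpr ⟨s, hsq, rfl⟩) hs
    obtain ⟨P', hPP', hP'prime, hP'q⟩ :=
      Ideal.exists_ideal_over_prime_of_isIntegral_of_isPrime q P hle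
    have hP'disj : Disjoint (T : Set R) (P' : Set R) := by
      rw [Set.disjoint_left]
      intro x hx hmem
      obtain ⟨s, hs, rfl⟩ := (hTmem x).mp hx
      exact hs (by rw [← hP'q]; exact hmem)
    have e1 : (𝔫.asIdeal.comap (algebraMap R (Localization T))).map
        (algebraMap R (Localization T)) = 𝔫.asIdeal :=
      IsLocalization.map_under T (Localization T) 𝔫.asIdeal
    have h1 : 𝔫.asIdeal ≤ P'.map (algebraMap R (Localization T)) := by
      rw [← e1, ← hP]
      exact Ideal.map_mono hPP'
    have h2 : (P'.map (algebraMap R (Localization T))) ≠ ⊤ :=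
      (IsLocalization.isPrime_of_isPrime_disjoint T (Localization T) P' hP'prime hP'disj).ne_top
    have h3 : 𝔫.asIdeal = P'.map (algebraMap R (Localization T)) :=
      𝔫.isMaximal.eq_of_le h2 h1
    have h4 : P = P' := by
      rw [hP, h3]
      exact IsLocalization.comap_map_of_isPrime_disjoint T (Localization T) hP'prime hP'disj
    rw [h4]; exact hP'q
  rcases isEmpty_or_nonempty (MaximalSpectrum (Localization T)) with hemp | ⟨⟨𝔫₀⟩⟩
  · infer_instance
  obtain ⟨P₀, hP₀⟩ : ∃ P₀ : Ideal R, P₀ = 𝔫₀.asIdeal.comap (algebraMap R (Localization T)) :=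
    ⟨_, rfl⟩
  haveI hP₀prime : P₀.IsPrime := by
    rw [hP₀]
    haveI := 𝔫₀.isMaximal.isPrime
    infer_instance
  let F : MaximalSpectrum (Localization T) →
      ({P₀, P₀.comap (lam : R →+* R)} : Set (Ideal R)) := fun 𝔫 =>
    ⟨𝔫.asIdeal.comap (algebraMap R (Localization T)), by
      haveI := 𝔫.isMaximal.isPrime
      have hk : (𝔫.asIdeal.comap (algebraMap R (Localization T))).comap (algebraMap S R) =
          P₀.comap (algebraMap S R) := by
        rw [key 𝔫, hP₀, key 𝔫₀]
      rcases eq_or_eq_comap lam hlam hfix hk with h | h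
      · exact Or.inl h
      · exact Or.inr h⟩
  refine Finite.of_injective F ?_
  intro 𝔫 𝔫' h
  have h' : 𝔫.asIdeal.comap (algebraMap R (Localization T)) =
      𝔫'.asIdeal.comap (algebraMap R (Localization T)) := congrArg Subtype.val h
  apply MaximalSpectrum.ext
  have e1 : (𝔫.asIdeal.comap (algebraMap R (Localization T))).map
      (algebraMap R (Localization T)) = 𝔫.asIdeal :=
    IsLocalization.map_under T (Localization T) 𝔫.asIdeal
  have e2 : (𝔫'.asIdeal.comap (algebraMap R (Localization T))).map
      (algebraMap R (Localization T)) = 𝔫'.asIdeal :=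
    IsLocalization.map_under T (Localization T) 𝔫'.asIdeal
  rw [← e1, h', e2]

end Integral

section Rank

open Module

theorem finrank_quotient_tensor {R : Type*} [CommRing R] (M : Type*) [AddCommGroup M]
    [Module R M] [Module.Finite R M] [Module.Flat R M] (m : MaximalSpectrum R) :
    finrank (R ⧸ m.asIdeal) ((R ⧸ m.asIdeal) ⊗[R] M) =
      rankAtStalk M m.toPrimeSpectrum := by
  letI := Ideal.Quotient.field m.asIdeal
  rw [Module.rankAtStalk_eq]
  let k := m.asIdeal.ResidueField
  let e : k ⊗[R ⧸ m.asIdeal] ((R ⧸ m.asIdeal) ⊗[R] M) ≃ₗ[k] k ⊗[R] M :=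
    AlgebraTensorModule.cancelBaseChange _ _ _ _ _
  have h1 : finrank k (k ⊗[R] M) = finrank k (k ⊗[R ⧸ m.asIdeal] ((R ⧸ m.asIdeal) ⊗[R] M)) :=
    e.finrank_eq.symm
  have h2 : finrank k (k ⊗[R ⧸ m.asIdeal] ((R ⧸ m.asIdeal) ⊗[R] M)) =
      finrank (R ⧸ m.asIdeal) ((R ⧸ m.asIdeal) ⊗[R] M) := finrank_baseChange
  exact (h1.trans h2).symm

/-- the base change of a finite flat module of constant rank to a semilocal ring is free -/
theorem free_baseChange_of_semilocal (R : Type*) [CommRing R] (A : Type*) [AddCommGroup A]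
    [Module R A] [Module.Finite R A] [Module.Flat R A] (n : ℕ)
    (hrk : ∀ p : PrimeSpectrum R, Module.rankAtStalk (R := R) A p = n)
    (R' : Type*) [CommRing R'] [Algebra R R'] [Finite (MaximalSpectrum R')] :
    Module.Free R' (R' ⊗[R] A) := by
  refine Module.free_of_flat_of_finrank_eq R' (R' ⊗[R] A) n (fun m => ?_)
  rw [finrank_quotient_tensor, Module.rankAtStalk_baseChange, hrk]

end Rank

end Groth.Agent.Helper3.InvSemi
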