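import Mathlib

/-!
# Skolem–Noether over semilocal rings (helper3)

Automorphisms of `End_R(M)` for `M` finite free over a commutative ring with finitely many
maximal ideals are inner; hence automorphisms of an Azumaya algebra which is free as a module
over such a ring are inner.
-/

set_option autoImplicit false

namespace Groth.Agent.Helper3.SemiSN

open Module LinearMap LinearEquiv

/-- For a faithful idempotent endomorphism `q` of a finite free module over a semilocal ring there
are a vector `z` and a linear form `d` with `d (q z) = 1`. -/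
theorem exists_dual_apply_eq_one {R M : Type*} [CommRing R] [Finite (MaximalSpectrum R)]
    [AddCommGroup M] [Module R M] [Module.Free R M] [Module.Finite R M]
    (q : Module.End R M) (hidem : q * q = q) (hfaith : ∀ r : R, r • q = 0 → r = 0) :
    ∃ (z : M) (d : M →ₗ[R] R), d (q z) = 1 := by
  classical
  rcases subsingleton_or_nontrivial R with hR | hR
  · exact ⟨0, 0, Subsingleton.elim _ _⟩
  haveI : Fintype (MaximalSpectrum R) := Fintype.ofFinite _
  -- step (i)
  have h1 : ∀ P : MaximalSpectrum R, ∃ z : M, q z ∉ (P.asIdeal • ⊤ : Submodule R M) := by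
    intro P
    by_contra hcon
    push Not at hcon
    have hP : LinearMap.range q ≤ P.asIdeal • LinearMap.range q := by
      rintro _ ⟨z, rfl⟩
      have h1 : q z = q (q z) := by
        conv_lhs => rw [← hidem]
        rfl
      rw [h1, LinearMap.range_eq_map, ← Submodule.map_smul'']
      exact ⟨_, hcon z, rfl⟩
    have hfg : (LinearMap.range q).FG := by
      rw [LinearMap.range_eq_map]
      exact Module.Finite.fg_top.map _
    obtain ⟨r, hr1, hr2⟩ :=
      Submodule.exists_sub_one_mem_and_smul_eq_zero_of_fg_of_le_smul P.asIdeal _ hfg hP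
    have hr0 : r = 0 := hfaith r (LinearMap.ext fun z => hr2 _ ⟨z, rfl⟩)
    rw [hr0, zero_sub] at hr1
    have h1 : (1 : R) ∈ P.asIdeal := by simpa using P.asIdeal.neg_mem hr1
    exact P.isMaximal.ne_top ((Ideal.eq_top_iff_one _).mpr h1)
  choose zP hzP using h1
  -- CRT
  have hcop : Pairwise (Function.onFun IsCoprime fun P : MaximalSpectrum R => P.asIdeal) :=
    fun P Q hne => Ideal.isCoprime_of_isMaximal (MaximalSpectrum.ext_iff.ne.mp hne)
  have hc : ∀ P : MaximalSpectrum R, ∃ c : R, ∀ Q : MaximalSpectrum R,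
      c - (if Q = P then 1 else 0) ∈ Q.asIdeal := fun P =>
    Ideal.exists_forall_sub_mem_ideal hcop (fun Q => if Q = P then 1 else 0)
  choose c hc using hc
  have hcP : ∀ P, c P - 1 ∈ P.asIdeal := fun P => by simpa using hc P P
  have hcQ : ∀ P Q, Q ≠ P → c P ∈ Q.asIdeal := fun P Q hne => by simpa [hne] using hc P Q
  obtain ⟨z, hz⟩ : ∃ z : M, z = ∑ P, c P • zP P := ⟨_, rfl⟩
  have hw : ∀ Q : MaximalSpectrum R, q z ∉ (Q.asIdeal • ⊤ : Submodule R M) := by
    intro Q hmem
    apply hzP Q
    have e1 : q z = q (zP Q) +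
        ((c Q - 1) • q (zP Q) + ∑ P ∈ Finset.univ.erase Q, c P • q (zP P)) := by
      rw [hz, map_sum, ← Finset.add_sum_erase _ _ (Finset.mem_univ Q)]
      simp only [_root_.map_smul, sub_smul, one_smul]
      abel
    have e2 : q (zP Q) = q z -
        ((c Q - 1) • q (zP Q) + ∑ P ∈ Finset.univ.erase Q, c P • q (zP P)) := by
      rw [e1]; abel
    rw [e2]
    refine Submodule.sub_mem _ hmem (Submodule.add_mem _ ?_ (Submodule.sum_mem _ fun P hP => ?_))
    · exact Submodule.smul_mem_smul (hcP Q) Submodule.mem_top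
    · exact Submodule.smul_mem_smul (hcQ P Q (Finset.ne_of_mem_erase hP).symm) Submodule.mem_top
  -- coordinates
  let b := Module.Free.chooseBasis R M
  have hI : Ideal.span (Set.range fun i => b.coord i (q z)) = ⊤ := by
    by_contra hne
    obtain ⟨P, hPmax, hle⟩ := Ideal.exists_le_maximal _ hne
    apply hw ⟨P, hPmax⟩
    rw [← b.sum_repr (q z)]
    exact Submodule.sum_mem _ fun i _ =>
      Submodule.smul_mem_smul (hle (Ideal.subset_span ⟨i, rfl⟩)) Submodule.mem_top
  have h1 : (1 : R) ∈ Ideal.span (Set.range fun i => b.coord i (q z)) := by rw [hI]; trivial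
  obtain ⟨a, ha⟩ := (Ideal.mem_span_range_iff_exists_fun).mp h1
  refine ⟨z, ∑ i, a i • b.coord i, ?_⟩
  rw [LinearMap.sum_apply]
  simp only [LinearMap.smul_apply, smul_eq_mul]
  exact ha

/-- Skolem–Noether for the endomorphism algebra of a finite free module over a semilocal ring. -/
theorem algEquiv_end_eq_conj_of_semilocal {R M : Type*} [CommRing R] [Finite (MaximalSpectrum R)]
    [AddCommGroup M] [Module R M] [Module.Free R M] [Module.Finite R M]
    (f : Module.End R M ≃ₐ[R] Module.End R M) :
    ∃ T : M ≃ₗ[R] M, f = T.conjAlgEquiv R := by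
  classical
  by_cases hV : Subsingleton M
  · exact ⟨LinearEquiv.refl R M, AlgEquiv.ext fun x => Subsingleton.elim _ _⟩
  rw [not_subsingleton_iff_nontrivial] at hV
  haveI : Nontrivial R := by
    by_contra h
    rw [not_nontrivial_iff_subsingleton] at h
    exact not_subsingleton M (Module.subsingleton R M)
  let b := Module.Free.chooseBasis R M
  obtain ⟨i0⟩ : Nonempty (Module.Free.ChooseBasisIndex R M) := by
    by_contra hemp
    rw [not_nonempty_iff] at hemp
    have : Subsingleton M := ⟨fun x y => b.repr.injective (Subsingleton.elim _ _)⟩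
    exact not_subsingleton M this
  obtain ⟨ξ, hξ⟩ : ∃ ξ : M →ₗ[R] R, ξ = b.coord i0 := ⟨_, rfl⟩
  obtain ⟨e0, he0⟩ : ∃ e0 : M, e0 = b i0 := ⟨_, rfl⟩
  have hξe : ξ e0 = 1 := by rw [hξ, he0]; simp
  have hidem : f (smulRight ξ e0) * f (smulRight ξ e0) = f (smulRight ξ e0) := by
    rw [← map_mul]
    congr 1
    apply LinearMap.ext
    intro x
    simp [hξe]
  have hfaith : ∀ r : R, r • f (smulRight ξ e0) = 0 → r = 0 := by
    intro r hr
    have h0 : f (r • smulRight ξ e0) = f 0 := by
      rw [_root_.map_smul, map_zero]; exact hr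
    have h1 := f.injective h0
    have h2 := LinearMap.congr_fun h1 e0
    simp only [LinearMap.smul_apply, smulRight_apply, hξe, one_smul, LinearMap.zero_apply] at h2
    have h3 := congrArg ξ h2
    rw [_root_.map_smul, hξe, smul_eq_mul, mul_one, map_zero] at h3
    exact h3
  obtain ⟨z, d, hd⟩ := exists_dual_apply_eq_one (f (smulRight ξ e0)) hidem hfaith
  -- now as over a field
  simp_rw [AlgEquiv.ext_iff, conjAlgEquiv_apply, ← comp_assoc, eq_comp_toLinearMap_symm]
  set T := applyₗ z ∘ₗ f.toLinearMap ∘ₗ smulRightₗ ξ with hTdef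
  have hT : ∀ x, T x = f (smulRight ξ x) z := fun x => rfl
  have this : ∀ (A : Module.End R M) (x : M), T (A x) = f A (T x) := by
    intro A x
    simp only [hT, ← Module.End.mul_apply, ← map_mul]
    congr 2
    apply LinearMap.ext
    intro y
    simp
  have surj : Function.Surjective T := fun w ↦ by
    refine ⟨f.symm (smulRight d w) e0, ?_⟩
    rw [this, AlgEquiv.apply_symm_apply, hT, smulRight_apply, hd, one_smul]
  have inj : Function.Injective T := fun x y hxy ↦ by
    have h_smul : smulRightₗ ξ x = smulRightₗ ξ y := by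
      apply f.injective <| LinearMap.ext fun z ↦ ?_
      obtain ⟨w, rfl⟩ := surj z
      simp_rw [← this, smulRightₗ_apply_apply, _root_.map_smul, hxy]
    have := congrArg (fun g : M →ₗ[R] M => g e0) h_smul
    simpa [hξe] using this
  exact ⟨.ofBijective T ⟨inj, surj⟩, fun A ↦ (LinearMap.ext <| this A).symm⟩

/-- **Skolem–Noether over a semilocal ring**: every automorphism of an Azumaya algebra which is
free as a module over a ring with finitely many maximal ideals is inner. -/
theorem skolem_noether_semilocal (R : Type*) [CommRing R] [Finite (MaximalSpectrum R)]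
    (A : Type*) [Ring A] [Algebra R A] [IsAzumaya R A] [Module.Free R A] (u : A ≃ₐ[R] A) :
    ∃ a : Aˣ, ∀ x : A, u x = (a : A) * x * ((a⁻¹ : Aˣ) : A) := by
  classical
  have hbij : Function.Bijective (AlgHom.mulLeftRight R A) := IsAzumaya.bij
  let E : (TensorProduct R A Aᵐᵒᵖ) ≃ₐ[R] Module.End R A :=
    AlgEquiv.ofBijective (AlgHom.mulLeftRight R A) hbij
  let ψ : (TensorProduct R A Aᵐᵒᵖ) ≃ₐ[R] (TensorProduct R A Aᵐᵒᵖ) :=
    Algebra.TensorProduct.congr u AlgEquiv.refl
  let ρ : Module.End R A ≃ₐ[R] Module.End R A := E.symm.trans (ψ.trans E)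
  obtain ⟨T, hT⟩ := algEquiv_end_eq_conj_of_semilocal ρ
  have hρ : ∀ (a : A) (b : Aᵐᵒᵖ),
      ρ (AlgHom.mulLeftRight R A (a ⊗ₜ[R] b)) = AlgHom.mulLeftRight R A (u a ⊗ₜ[R] b) := by
    intro a b
    show E (ψ (E.symm (AlgHom.mulLeftRight R A (a ⊗ₜ[R] b)))) = _
    have h1 : E.symm (AlgHom.mulLeftRight R A (a ⊗ₜ[R] b)) = a ⊗ₜ[R] b :=
      E.symm_apply_apply (a ⊗ₜ[R] b)
    rw [h1]
    rfl
  have hkey : ∀ (a x b : A), T (a * x * b) = u a * T x * b := by
    intro a x b
    have h2 := hρ a (MulOpposite.op b)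
    rw [hT, LinearEquiv.conjAlgEquiv_apply] at h2
    have h3 := congrArg (fun f : Module.End R A => f (T x)) h2
    simp only [LinearMap.coe_comp, LinearEquiv.coe_coe, Function.comp_apply,
      LinearEquiv.symm_apply_apply, AlgHom.mulLeftRight_apply, MulOpposite.unop_op] at h3
    exact h3
  obtain ⟨c, hc⟩ : ∃ c : A, c = T 1 := ⟨_, rfl⟩
  obtain ⟨v, hv⟩ : ∃ v : A, v = T.symm 1 := ⟨_, rfl⟩
  have hT1 : ∀ x : A, T x = c * x := by
    intro x
    have := hkey 1 1 x
    rw [one_mul, one_mul, map_one, one_mul] at this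
    rw [hc]; exact this
  have hT2 : ∀ a : A, T a = u a * c := by
    intro a
    have := hkey a 1 1
    rw [mul_one, mul_one, mul_one] at this
    rw [hc]; exact this
  have hTs : ∀ y : A, T.symm y = v * y := by
    intro y
    apply T.injective
    rw [T.apply_symm_apply, hT1, ← mul_assoc, ← hT1 v, hv, T.apply_symm_apply, one_mul]
  have hcv : c * v = 1 := by rw [← hT1, hv, T.apply_symm_apply]
  have hvc : v * c = 1 := by rw [← hTs, hc, T.symm_apply_apply]
  refine ⟨⟨c, v, hcv, hvc⟩, fun a => ?_⟩
  show u a = c * a * v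
  have h4 : c * a = u a * c := by rw [← hT1, hT2]
  rw [h4, mul_assoc, hcv, mul_one]

end Groth.Agent.Helper3.SemiSN
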