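import Mathlib
import Groth.Agent.Lib.Helper3.SemiSN1
import Groth.Agent.Lib.Helper3.InvSemi1
import Groth.Agent.Lib.Helper7.Azumaya.BaseChange

/-!
# Automorphisms of Azumaya algebras over a ring with involution are inner locally over the
fixed ring (helper3, S17357)
-/

set_option autoImplicit false

universe u v w

namespace Groth.Agent.Helper3.InvSemi

open TensorProduct

/-- if `c • y₁ = c • y₂` and `c` becomes a unit in `T`, then `r ⊗ y₁ = r ⊗ y₂`. -/
theorem tmul_eq_of_smul_eq {R : Type*} [CommRing R] {A : Type*} [Ring A] [Algebra R A]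
    {T : Type*} [CommRing T] [Algebra R T] (c : R)
    (hc : IsUnit (algebraMap R T c)) {y₁ y₂ : A} (h : c • y₁ = c • y₂) (r : T) :
    (r ⊗ₜ[R] y₁ : T ⊗[R] A) = r ⊗ₜ[R] y₂ := by
  obtain ⟨γ, hγ⟩ := hc
  have h1 : ∀ y : A, (r ⊗ₜ[R] y : T ⊗[R] A) = (r * ↑γ⁻¹) ⊗ₜ[R] (c • y) := by
    intro y
    rw [← TensorProduct.smul_tmul, Algebra.smul_def, ← hγ]
    congr 1
    rw [mul_left_comm, Units.mul_inv, mul_one]
  rw [h1 y₁, h1 y₂, h]

/-- `ψ` becomes inner over `S_f`. -/
def InnerAt (S : Type u) [CommRing S] (A : Type w) [Ring A] [Algebra S A] (ψ : A ≃ₐ[S] A)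
    (f : S) : Prop :=
  ∃ u : (Localization.Away f ⊗[S] A)ˣ, ∀ y : Localization.Away f ⊗[S] A,
    Algebra.TensorProduct.congr
      (AlgEquiv.refl : Localization.Away f ≃ₐ[Localization.Away f] Localization.Away f) ψ y =
    (u : Localization.Away f ⊗[S] A) * y *
      ((u⁻¹ : (Localization.Away f ⊗[S] A)ˣ) : Localization.Away f ⊗[S] A)

/-- **Spreading out** an inner automorphism from the localization of `R` at (the image of) a
submonoid `M` of `S` to a basic open of `Spec S`. -/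
theorem spread (S : Type u) (R : Type v) [CommRing S] [CommRing R] [Algebra S R]
    (A : Type w) [Ring A] [Algebra S A] [Algebra R A] [IsScalarTower S R A] [Module.Finite R A]
    (M : Submonoid S) (T : Submonoid R) (hTM : ∀ t ∈ T, ∃ s ∈ M, algebraMap S R s = t)
    (ψ : A ≃ₐ[R] A) (a : (Localization T ⊗[R] A)ˣ)
    (ha : ∀ x : A, ((1 : Localization T) ⊗ₜ[R] ψ x) =
      (a : Localization T ⊗[R] A) * ((1 : Localization T) ⊗ₜ[R] x) *
        ((a⁻¹ : (Localization T ⊗[R] A)ˣ) : Localization T ⊗[R] A)) :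
    ∃ f ∈ M, InnerAt S A (ψ.restrictScalars S) f := by
  classical
  obtain ⟨ι, hι⟩ : ∃ ι : A →ₗ[R] Localization T ⊗[R] A,
      ι = TensorProduct.mk R (Localization T) A 1 := ⟨_, rfl⟩
  haveI : IsLocalizedModule T ι := by
    rw [hι]; infer_instance
  have hιx : ∀ x, ι x = (1 : Localization T) ⊗ₜ[R] x := fun x => by rw [hι]; rfl
  have hιmul : ∀ x y, ι (x * y) = ι x * ι y := by
    intro x y
    simp only [hιx, Algebra.TensorProduct.tmul_mul_tmul, one_mul]
  have hι1 : ι 1 = 1 := by rw [hιx]; rfl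
  obtain ⟨⟨α, s⟩, hα⟩ := IsLocalizedModule.surj T ι (a : Localization T ⊗[R] A)
  obtain ⟨⟨β, t⟩, hβ⟩ := IsLocalizedModule.surj T ι
    ((a⁻¹ : (Localization T ⊗[R] A)ˣ) : Localization T ⊗[R] A)
  simp only [Submonoid.smul_def] at hα hβ
  have hαβ : ι (α * β) = ι (((s : R) * (t : R)) • (1 : A)) := by
    rw [hιmul, ← hα, ← hβ, map_smul, hι1, smul_mul_assoc, mul_smul_comm, smul_smul, Units.mul_inv]
  have hβα : ι (β * α) = ι (((s : R) * (t : R)) • (1 : A)) := by
    rw [hιmul, ← hα, ← hβ, map_smul, hι1, smul_mul_assoc, mul_smul_comm, smul_smul, Units.inv_mul,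
      mul_comm]
  obtain ⟨w, hw⟩ := IsLocalizedModule.exists_of_eq (S := T) (f := ι) hαβ
  obtain ⟨w', hw'⟩ := IsLocalizedModule.exists_of_eq (S := T) (f := ι) hβα
  rw [Submonoid.smul_def, Submonoid.smul_def] at hw hw'
  have hconj : ∀ x : A, ι (((s : R) * (t : R)) • ψ x) = ι (α * x * β) := by
    intro x
    rw [hιmul, hιmul, ← hα, ← hβ, map_smul, hιx (ψ x), ha x, ← hιx x]
    simp only [smul_mul_assoc, mul_smul_comm, smul_smul]
    congr 1
    exact mul_comm _ _
  choose cx hcx using fun x => IsLocalizedModule.exists_of_eq (S := T) (f := ι) (hconj x)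
  obtain ⟨G, hG⟩ := (Module.Finite.fg_top : (⊤ : Submodule R A).FG)
  obtain ⟨c, hcdef⟩ : ∃ c : T, c = ∏ y ∈ G, cx y := ⟨_, rfl⟩
  have hc : ∀ x ∈ G, (c : R) • (((s : R) * (t : R)) • ψ x) = (c : R) • (α * x * β) := by
    intro x hx
    have h2 : c = (∏ y ∈ G.erase x, cx y) * cx x := by
      rw [hcdef]; exact (Finset.prod_erase_mul G cx hx).symm
    have h3 := hcx x
    rw [Submonoid.smul_def, Submonoid.smul_def] at h3
    rw [h2, Submonoid.coe_mul, mul_smul, h3, mul_smul]
  have hc' : ∀ x : A, (c : R) • (((s : R) * (t : R)) • ψ x) = (c : R) • (α * x * β) := by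
    intro x
    have hx : x ∈ Submodule.span R (G : Set A) := by rw [hG]; trivial
    induction hx using Submodule.span_induction with
    | mem x hx => exact hc x hx
    | zero => simp
    | add x y _ _ hx hy =>
      rw [map_add, smul_add, smul_add, hx, hy, mul_add, add_mul, smul_add]
    | smul r x _ hx =>
      have e1 : (c : R) • (((s : R) * (t : R)) • ψ (r • x)) =
          r • ((c : R) • (((s : R) * (t : R)) • ψ x)) := by
        rw [map_smul, smul_comm ((s : R) * (t : R)) r, smul_comm (c : R) r]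
      have e2 : (c : R) • (α * (r • x) * β) = r • ((c : R) • (α * x * β)) := by
        rw [mul_smul_comm, smul_mul_assoc, smul_comm (c : R) r]
      rw [e1, e2, hx]
  -- descend the denominators to `M`
  obtain ⟨s₀, hs₀M, hs₀⟩ := hTM (s : R) s.2
  obtain ⟨t₀, ht₀M, ht₀⟩ := hTM (t : R) t.2
  obtain ⟨w₀, hw₀M, hw₀⟩ := hTM (w : R) w.2
  obtain ⟨w₀', hw₀'M, hw₀'⟩ := hTM (w' : R) w'.2
  obtain ⟨c₀, hc₀M, hc₀⟩ := hTM (c : R) c.2
  have conv : ∀ (r₀ : S) (y : A), (algebraMap S R r₀) • y = r₀ • y :=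
    fun r₀ y => algebraMap_smul R r₀ y
  have hst₀ : (s : R) * (t : R) = algebraMap S R (s₀ * t₀) := by rw [map_mul, hs₀, ht₀]
  have r1 : w₀ • (α * β) = w₀ • ((s₀ * t₀) • (1 : A)) := by
    have h := hw
    rw [← hw₀, hst₀] at h
    simpa only [conv] using h
  have r2 : w₀' • (β * α) = w₀' • ((s₀ * t₀) • (1 : A)) := by
    have h := hw'
    rw [← hw₀', hst₀] at h
    simpa only [conv] using h
  have r3 : ∀ x : A, c₀ • ((s₀ * t₀) • ψ x) = c₀ • (α * x * β) := by
    intro x
    have h := hc' x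
    rw [← hc₀, hst₀] at h
    simpa only [conv] using h
  -- the element f
  obtain ⟨f, hf⟩ : ∃ f : S, f = s₀ * t₀ * w₀ * w₀' * c₀ := ⟨_, rfl⟩
  have hfM : f ∈ M := by
    rw [hf]
    exact M.mul_mem (M.mul_mem (M.mul_mem (M.mul_mem hs₀M ht₀M) hw₀M) hw₀'M) hc₀M
  have hU : IsUnit (algebraMap S (Localization.Away f) f) :=
    IsLocalization.Away.algebraMap_isUnit _
  have hU0 : IsUnit (algebraMap S (Localization.Away f) (s₀ * t₀ * w₀ * w₀' * c₀)) := by
    rw [← hf]; exact hU
  simp only [map_mul] at hU0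
  have hUc := isUnit_of_mul_isUnit_right hU0
  have hU4 := isUnit_of_mul_isUnit_left hU0
  have hUw' := isUnit_of_mul_isUnit_right hU4
  have hU3 := isUnit_of_mul_isUnit_left hU4
  have hUw := isUnit_of_mul_isUnit_right hU3
  have hU2 := isUnit_of_mul_isUnit_left hU3
  have hUt := isUnit_of_mul_isUnit_right hU2
  have hUs := isUnit_of_mul_isUnit_left hU2
  obtain ⟨σ, hσ⟩ := hUs
  obtain ⟨τ, hτ⟩ := hUt
  have hst : ∀ r' : Localization.Away f,
      (s₀ * t₀) • ((↑σ⁻¹ : Localization.Away f) * r' * ↑τ⁻¹) = r' := by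
    intro r'
    rw [Algebra.smul_def, map_mul, ← hσ, ← hτ]
    calc (σ : Localization.Away f) * τ * (↑σ⁻¹ * r' * ↑τ⁻¹)
        = ((σ : Localization.Away f) * ↑σ⁻¹) * ((τ : Localization.Away f) * ↑τ⁻¹) * r' := by ring
      _ = r' := by rw [Units.mul_inv, Units.mul_inv, one_mul, one_mul]
  have hst1 : (s₀ * t₀) • ((↑σ⁻¹ : Localization.Away f) * ↑τ⁻¹) = 1 := by
    have := hst 1
    rwa [mul_one] at this
  have huv : ((↑σ⁻¹ : Localization.Away f) ⊗ₜ[S] α) * ((↑τ⁻¹ : Localization.Away f) ⊗ₜ[S] β) = 1 := by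
    rw [Algebra.TensorProduct.tmul_mul_tmul, tmul_eq_of_smul_eq w₀ hUw r1,
      ← TensorProduct.smul_tmul, hst1]
    rfl
  have hvu : ((↑τ⁻¹ : Localization.Away f) ⊗ₜ[S] β) * ((↑σ⁻¹ : Localization.Away f) ⊗ₜ[S] α) = 1 := by
    rw [Algebra.TensorProduct.tmul_mul_tmul, tmul_eq_of_smul_eq w₀' hUw' r2,
      ← TensorProduct.smul_tmul, mul_comm (↑τ⁻¹ : Localization.Away f), hst1]
    rfl
  have hcong : ∀ (r' : Localization.Away f) (x : A),
      Algebra.TensorProduct.congr
        (AlgEquiv.refl : Localization.Away f ≃ₐ[Localization.Away f] Localization.Away f)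
        (ψ.restrictScalars S) (r' ⊗ₜ[S] x) = r' ⊗ₜ[S] ψ x := fun r' x => rfl
  refine ⟨f, hfM, ⟨_, _, huv, hvu⟩, ?_⟩
  intro y
  show _ = ((↑σ⁻¹ : Localization.Away f) ⊗ₜ[S] α) * y * ((↑τ⁻¹ : Localization.Away f) ⊗ₜ[S] β)
  induction y using TensorProduct.induction_on with
  | zero => simp
  | tmul r' x =>
    rw [hcong, Algebra.TensorProduct.tmul_mul_tmul,
      Algebra.TensorProduct.tmul_mul_tmul, tmul_eq_of_smul_eq c₀ hUc (r3 x).symm,
      ← TensorProduct.smul_tmul, hst r']
  | add y z hy hz => rw [map_add, hy, hz, mul_add, add_mul]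

/-- **Gluing**: inner on each member of a finite Zariski cover gives inner over an étale
faithfully flat algebra. -/
theorem glue (S : Type u) [CommRing S] (A : Type w) [Ring A] [Algebra S A] (ψ : A ≃ₐ[S] A)
    (F : Finset S) (hspan : Ideal.span (F : Set S) = ⊤) (h : ∀ i : F, InnerAt S A ψ (i : S)) :
    ∃ (S' : Type u) (_ : CommRing S') (_ : Algebra S S') (_ : Algebra.Etale S S')
      (_ : Module.FaithfullyFlat S S') (u : (S' ⊗[S] A)ˣ),
      ∀ x : S' ⊗[S] A,
        Algebra.TensorProduct.congr (AlgEquiv.refl : S' ≃ₐ[S'] S') ψ x = ↑u * x * ↑u⁻¹ := by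
  classical
  choose u hu using h
  haveI : ∀ i : F, Algebra.Etale S (Localization.Away (i : S)) :=
    fun i => Algebra.Etale.of_isLocalizationAway (i : S)
  have hff : Module.FaithfullyFlat S (∀ i : F, Localization.Away (i : S)) := by
    refine Module.FaithfullyFlat.of_comap_surjective fun n => ?_
    obtain ⟨i, hi⟩ : ∃ i : F, (i : S) ∉ n.asIdeal := by
      by_contra hcon
      push Not at hcon
      have h1 : Ideal.span (F : Set S) ≤ n.asIdeal := Ideal.span_le.mpr fun x hx => hcon ⟨x, hx⟩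
      rw [hspan] at h1
      exact n.isPrime.ne_top (top_le_iff.mp h1)
    have hdisj : Disjoint (Submonoid.powers (i : S) : Set S) (n.asIdeal : Set S) := by
      rw [Set.disjoint_left]
      rintro _ ⟨k, rfl⟩ hk
      exact hi (n.isPrime.mem_of_pow_mem k hk)
    have hprime : (n.asIdeal.map (algebraMap S (Localization.Away (i : S)))).IsPrime :=
      IsLocalization.isPrime_of_isPrime_disjoint (Submonoid.powers (i : S)) _ _ n.isPrime hdisj
    have hcomap : (n.asIdeal.map (algebraMap S (Localization.Away (i : S)))).comap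
        (algebraMap S (Localization.Away (i : S))) = n.asIdeal :=
      IsLocalization.comap_map_of_isPrime_disjoint (Submonoid.powers (i : S)) _ n.isPrime hdisj
    refine ⟨PrimeSpectrum.comap (Pi.evalRingHom (fun i : F => Localization.Away (i : S)) i)
      ⟨_, hprime⟩, ?_⟩
    apply PrimeSpectrum.ext
    exact hcomap
  let Φ : (∀ i : F, Localization.Away (i : S)) ⊗[S] A ≃ₐ[S]
      ∀ i : F, (Localization.Away (i : S) ⊗[S] A) :=
    (Algebra.TensorProduct.comm S (∀ i : F, Localization.Away (i : S)) A).trans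
      ((Algebra.TensorProduct.piRight S S A (fun i : F => Localization.Away (i : S))).trans
        (AlgEquiv.piCongrRight fun i =>
          Algebra.TensorProduct.comm S A (Localization.Away (i : S))))
  have hΦ : ∀ (g : ∀ i : F, Localization.Away (i : S)) (x : A) (i : F),
      Φ (g ⊗ₜ[S] x) i = g i ⊗ₜ[S] x := fun g x i => rfl
  obtain ⟨u₀, hu₀⟩ : ∃ u₀ : (∀ i : F, Localization.Away (i : S)) ⊗[S] A,
      u₀ = Φ.symm (fun i => ((u i : (Localization.Away (i : S) ⊗[S] A)ˣ) :
        Localization.Away (i : S) ⊗[S] A)) := ⟨_, rfl⟩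
  obtain ⟨v₀, hv₀⟩ : ∃ v₀ : (∀ i : F, Localization.Away (i : S)) ⊗[S] A,
      v₀ = Φ.symm (fun i => (((u i)⁻¹ : (Localization.Away (i : S) ⊗[S] A)ˣ) :
        Localization.Away (i : S) ⊗[S] A)) := ⟨_, rfl⟩
  have huv : u₀ * v₀ = 1 := by
    rw [hu₀, hv₀, ← map_mul]
    have h1 : (fun i : F => ((u i : (Localization.Away (i : S) ⊗[S] A)ˣ) :
          Localization.Away (i : S) ⊗[S] A)) *
        (fun i : F => (((u i)⁻¹ : (Localization.Away (i : S) ⊗[S] A)ˣ) :
          Localization.Away (i : S) ⊗[S] A)) = 1 := funext fun i => Units.mul_inv (u i)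
    rw [h1, map_one]
  have hvu : v₀ * u₀ = 1 := by
    rw [hu₀, hv₀, ← map_mul]
    have h1 : (fun i : F => (((u i)⁻¹ : (Localization.Away (i : S) ⊗[S] A)ˣ) :
          Localization.Away (i : S) ⊗[S] A)) *
        (fun i : F => ((u i : (Localization.Away (i : S) ⊗[S] A)ˣ) :
          Localization.Away (i : S) ⊗[S] A)) = 1 := funext fun i => Units.inv_mul (u i)
    rw [h1, map_one]
  refine ⟨(∀ i : F, Localization.Away (i : S)), inferInstance, inferInstance, inferInstance, hff,
    ⟨u₀, v₀, huv, hvu⟩, fun x => ?_⟩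
  show _ = u₀ * x * v₀
  apply Φ.injective
  rw [map_mul, map_mul, hu₀, hv₀, Φ.apply_symm_apply, Φ.apply_symm_apply]
  funext i
  rw [Pi.mul_apply, Pi.mul_apply, ← hu i]
  induction x using TensorProduct.induction_on with
  | zero => simp
  | tmul g a => rfl
  | add y z hy hz =>
    rw [map_add, map_add, Pi.add_apply, hy, hz, map_add, Pi.add_apply, map_add]

/-- inner over a basic open neighbourhood of any prime of the fixed ring -/
theorem exists_away (S : Type u) (R : Type v) [CommRing S] [CommRing R] [Algebra S R]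
    (lam : R ≃ₐ[S] R) (hlam : ∀ r, lam (lam r) = r)
    (hfix : ∀ r : R, lam r = r → ∃ s : S, algebraMap S R s = r)
    (A : Type w) [Ring A] [Algebra S A] [Algebra R A] [IsScalarTower S R A]
    [IsAzumaya R A] (n : ℕ)
    (hrk : ∀ p : PrimeSpectrum R, Module.rankAtStalk (R := R) A p = n) (ψ : A ≃ₐ[R] A)
    (q : Ideal S) [q.IsPrime] :
    ∃ f ∉ q, InnerAt S A (ψ.restrictScalars S) f := by
  obtain ⟨T, hT⟩ : ∃ T : Submonoid R, T = Algebra.algebraMapSubmonoid R q.primeCompl := ⟨_, rfl⟩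
  haveI : Finite (MaximalSpectrum (Localization T)) := by
    rw [hT]; exact finite_maximalSpectrum lam hlam hfix q
  have hTM : ∀ t ∈ T, ∃ s ∈ q.primeCompl, algebraMap S R s = t := by
    rw [hT]; exact fun t ht => Submonoid.mem_map.mp ht
  haveI : IsAzumaya (Localization T) (Localization T ⊗[R] A) :=
    Groth.Agent.Helper7.Azumaya.baseChange R (Localization T) A
  haveI : Module.Free (Localization T) (Localization T ⊗[R] A) :=
    free_baseChange_of_semilocal R A n hrk (Localization T)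
  obtain ⟨a, ha⟩ := Groth.Agent.Helper3.SemiSN.skolem_noether_semilocal (Localization T)
    (Localization T ⊗[R] A) (Algebra.TensorProduct.congr AlgEquiv.refl ψ)
  obtain ⟨f, hfM, hf⟩ := spread S R A q.primeCompl T hTM ψ a (fun x => by rw [← ha]; rfl)
  exact ⟨f, hfM, hf⟩

/-- **S17357**: automorphisms of an Azumaya algebra of constant rank over a ring with involution
become inner over an étale (indeed Zariski) covering of the fixed ring. -/
theorem main (S : Type u) (R : Type v) [CommRing S] [CommRing R] [Algebra S R]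
    (lam : R ≃ₐ[S] R) (hlam : ∀ r, lam (lam r) = r)
    (hfix : ∀ r : R, lam r = r → ∃ s : S, algebraMap S R s = r)
    (A : Type w) [Ring A] [Algebra S A] [Algebra R A] [IsScalarTower S R A]
    [IsAzumaya R A] (n : ℕ)
    (hrk : ∀ p : PrimeSpectrum R, Module.rankAtStalk (R := R) A p = n) (ψ : A ≃ₐ[R] A) :
    ∃ (S' : Type u) (_ : CommRing S') (_ : Algebra S S') (_ : Algebra.Etale S S')
      (_ : Module.FaithfullyFlat S S') (u : (S' ⊗[S] A)ˣ),
      ∀ x : S' ⊗[S] A,
        Algebra.TensorProduct.congr (AlgEquiv.refl : S' ≃ₐ[S'] S') (ψ.restrictScalars S) x =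
          ↑u * x * ↑u⁻¹ := by
  classical
  have hspan : Ideal.span {f : S | InnerAt S A (ψ.restrictScalars S) f} = ⊤ := by
    by_contra hne
    obtain ⟨m, hm, hle⟩ := Ideal.exists_le_maximal _ hne
    haveI := hm.isPrime
    obtain ⟨f, hfm, hf⟩ := exists_away S R lam hlam hfix A n hrk ψ m
    exact hfm (hle (Ideal.subset_span hf))
  obtain ⟨F, hFsub, hFspan⟩ := (Ideal.span_eq_top_iff_finite _).mp hspan
  exact glue S A (ψ.restrictScalars S) F hFspan (fun i => hFsub i.2)

end Groth.Agent.Helper3.InvSemi
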