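import Groth.Agent.Lib.Helper3.FactP

/-! Special inverse systems of right resolutions. -/

set_option linter.unusedSectionVars false

namespace Groth.Agent.Helper3.InvSys

open CategoryTheory CategoryTheory.Limits HomologicalComplex CochainComplex

universe v u

variable {A : Type u} [Category.{v} A] [Abelian A]

noncomputable section

variable (K : CochainComplex A ℤ)

lemma isStrictlyGE_succ (n : ℕ) (Q : CochainComplex A ℤ) [Q.IsStrictlyGE (-(n : ℤ))] :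
    Q.IsStrictlyGE (-((n + 1 : ℕ) : ℤ)) :=
  isStrictlyGE_of_ge Q _ (-(n : ℤ)) (by push_cast; lia)

/-- The canonical map `τ_{≥ -(n+1)} K ⟶ τ_{≥ -n} K`. -/
def cmap (n : ℕ) : K.truncGE (-((n + 1 : ℕ) : ℤ)) ⟶ K.truncGE (-(n : ℤ)) :=
  haveI := isStrictlyGE_succ n (K.truncGE (-(n : ℤ)))
  CochainComplex.truncGEMap (K.πTruncGE (-(n : ℤ))) (-((n + 1 : ℕ) : ℤ)) ≫
    inv ((K.truncGE (-(n : ℤ))).πTruncGE (-((n + 1 : ℕ) : ℤ)))

lemma π_cmap (n : ℕ) : K.πTruncGE (-((n + 1 : ℕ) : ℤ)) ≫ cmap K n = K.πTruncGE (-(n : ℤ)) := by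
  haveI := isStrictlyGE_succ n (K.truncGE (-(n : ℤ)))
  dsimp only [cmap]
  rw [← Category.assoc, CochainComplex.πTruncGE_naturality, Category.assoc, IsIso.hom_inv_id,
    Category.comp_id]

variable (P : ObjectProperty A) [P.IsClosedUnderIsomorphisms]

/-- The data at stage `n`. -/
structure Stage (n : ℕ) where
  Q : CochainComplex A ℤ
  π : K.truncGE (-(n : ℤ)) ⟶ Q
  qi : QuasiIso π
  mono : ∀ i, Mono (π.f i)
  ge : Q.IsStrictlyGE (-(n : ℤ))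
  hP : ∀ i, P (Q.X i)

variable (hemb : ∀ X : A, ∃ (Y : A) (ι : X ⟶ Y), P Y ∧ Mono ι)
  (hzero : ∀ X : A, IsZero X → P X)
  (hbiprod : ∀ X Y : A, P X → P Y → P (X ⊞ Y))

include hemb hzero in
lemma exists_base : Nonempty (Stage K P 0) := by
  obtain ⟨N, ρ, h1, h2, h3, h4⟩ :=
    ResP.exists_resolution P hemb hzero (K.truncGE (-((0 : ℕ) : ℤ))) (-((0 : ℕ) : ℤ))
  exact ⟨⟨N, ρ, h1, h2, h3, h4⟩⟩

include hemb hzero hbiprod in
lemma exists_next (n : ℕ) (s : Stage K P n) :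
    ∃ (s' : Stage K P (n + 1)) (p : s'.Q ⟶ s.Q), s'.π ≫ p = cmap K n ≫ s.π ∧
      ∀ i, (∃ sec : s.Q.X i ⟶ s'.Q.X i, sec ≫ p.f i = 𝟙 _) ∧ P (kernel (p.f i)) := by
  haveI := s.ge
  haveI := isStrictlyGE_succ n s.Q
  obtain ⟨N', β, q, h1, h2, h3, h4, h5, h6⟩ :=
    FactP.exists_factorization P hemb hzero hbiprod (K.truncGE (-((n + 1 : ℕ) : ℤ))) s.Q
      (cmap K n ≫ s.π) (-((n + 1 : ℕ) : ℤ)) s.hP
  exact ⟨⟨N', β, h2, h3, h4, h5⟩, q, h1, h6⟩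

include hemb hzero hbiprod in
theorem main :
    ∃ (Q : ℕ → CochainComplex A ℤ) (p : ∀ n, Q (n + 1) ⟶ Q n)
      (π : ∀ n : ℕ, K.truncGE (-(n : ℤ)) ⟶ Q n),
      (∀ n, QuasiIso (π n) ∧ ∀ i, Mono ((π n).f i)) ∧
      (∀ n, ∃ a : ℤ, (Q n).IsStrictlyGE a) ∧ (∀ n i, P ((Q n).X i)) ∧
      (∀ n i, (∃ s : (Q n).X i ⟶ (Q (n + 1)).X i, s ≫ (p n).f i = 𝟙 _) ∧
        P (kernel ((p n).f i))) ∧
      (∀ n : ℕ, K.πTruncGE (-((n + 1 : ℕ) : ℤ)) ≫ π (n + 1) ≫ p n =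
        K.πTruncGE (-(n : ℤ)) ≫ π n) := by
  obtain ⟨s0⟩ := exists_base K P hemb hzero
  let F : ∀ n, Stage K P n := fun n =>
    Nat.rec s0 (fun n s => (exists_next K P hemb hzero hbiprod n s).choose) n
  have hF := fun n => (exists_next K P hemb hzero hbiprod n (F n)).choose_spec
  refine ⟨fun n => (F n).Q, fun n => (hF n).choose, fun n => (F n).π,
    fun n => ⟨(F n).qi, (F n).mono⟩, fun n => ⟨_, (F n).ge⟩, fun n i => (F n).hP i,
    fun n i => (hF n).choose_spec.2 i, fun n => ?_⟩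
  have := (hF n).choose_spec.1
  change K.πTruncGE (-((n + 1 : ℕ) : ℤ)) ≫ (F (n + 1)).π ≫ (hF n).choose = _
  rw [this, ← Category.assoc, π_cmap]

end

end Groth.Agent.Helper3.InvSys
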