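import Mathlib
import Groth.Prelude.Def_W4c2azumayainvolQEt
import Groth.Agent.Lib.Helper7.Hensel.IntegralDomain
import Groth.Agent.Lib.Helper2.Hopf.HenselTransfer

/-! helper3: a commutative ring with an involution whose fixed ring is strictly henselian is a
finite product of strictly henselian local rings (either local, or `≅ S × S`). -/

set_option autoImplicit false

namespace Groth.Agent.Helper3.InvolHens

universe u v

open Polynomial IsLocalRing

/-- universe polymorphic version of helper7's theorem: a local ring integral over a henselian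
local ring is henselian -/
theorem henselianLocalRing_of_isIntegral' (R : Type u) [CommRing R] [HenselianLocalRing R]
    (S : Type v) [CommRing S] [IsLocalRing S] [Algebra R S] [Algebra.IsIntegral R S] :
    HenselianLocalRing S := by
  let R' := ULift.{v} R
  let S' := ULift.{u} S
  haveI : HenselianLocalRing R' :=
    Groth.Agent.Helper2.HopfLib.henselianLocalRing_of_ringEquiv (ULift.ringEquiv (R := R)).symm
  haveI : IsLocalRing S' := (ULift.ringEquiv (R := S)).symm.isLocalRing
  letI : Algebra R' S' := ULift.algebra' R S'
  haveI h1 : Algebra.IsIntegral R S' :=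
    Algebra.IsIntegral.of_surjective (ULift.algEquiv (R := R) (A := S)).symm.toAlgHom
      (ULift.algEquiv (R := R) (A := S)).symm.surjective
  haveI : Algebra.IsIntegral R' S' := Algebra.IsIntegral.tower_top (R := R)
  haveI : HenselianLocalRing S' :=
    Groth.Agent.Helper7.Hensel.henselianLocalRing_of_isIntegral_of_isLocalRing R' S'
  exact Groth.Agent.Helper2.HopfLib.henselianLocalRing_of_ringEquiv (ULift.ringEquiv (R := S))

theorem isLocalHom_of_isIntegral' (A : Type u) (B : Type v) [CommRing A] [IsLocalRing A]
    [CommRing B] [IsLocalRing B] [Algebra A B] [Algebra.IsIntegral A B] :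
    IsLocalHom (algebraMap A B) := by
  constructor
  intro a ha
  by_contra hna
  have h1 : a ∈ maximalIdeal A := (mem_maximalIdeal a).mpr hna
  have hmax : ((maximalIdeal B).comap (algebraMap A B)).IsMaximal :=
    Ideal.isMaximal_comap_of_isIntegral_of_isMaximal _
  have heq : (maximalIdeal B).comap (algebraMap A B) = maximalIdeal A :=
    IsLocalRing.eq_maximalIdeal hmax
  have h2 : algebraMap A B a ∈ maximalIdeal B := by
    have : a ∈ (maximalIdeal B).comap (algebraMap A B) := heq ▸ h1
    exact this
  exact (mem_maximalIdeal _).mp h2 ha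

theorem isSepClosed_residueField_of_isIntegral (A : Type u) (B : Type v) [CommRing A]
    [IsLocalRing A] [CommRing B] [IsLocalRing B] [Algebra A B] [Algebra.IsIntegral A B]
    [IsSepClosed (ResidueField A)] : IsSepClosed (ResidueField B) := by
  haveI : IsLocalHom (algebraMap A B) := isLocalHom_of_isIntegral' A B
  haveI : Algebra.IsAlgebraic (ResidueField A) (ResidueField B) := by
    constructor
    intro x
    obtain ⟨y, rfl⟩ := IsLocalRing.residue_surjective x
    have h1 : IsIntegral A y := Algebra.IsIntegral.isIntegral y
    have h2 : IsIntegral A (algebraMap B (ResidueField B) y) := h1.algebraMap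
    have h3 : IsIntegral (ResidueField A) (algebraMap B (ResidueField B) y) := h2.tower_top
    exact h3.isAlgebraic
  exact Algebra.IsAlgebraic.isSepClosed (F := ResidueField A) (E := ResidueField B)

section Invol

variable {S : Type u} {R : Type v} [CommRing S] [CommRing R] [Algebra S R]
  (lam : R ≃+* R) (hlam : Function.Involutive lam) (hS : RInv.IsFixedRing S R lam)

include hS in
theorem lam_algebraMap (s : S) : lam (algebraMap S R s) = algebraMap S R s :=
  (hS.2 _).mpr ⟨s, rfl⟩

include hlam hS in
theorem exists_trace (r : R) : ∃ t : S, algebraMap S R t = r + lam r := by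
  have h : lam (r + lam r) = r + lam r := by rw [map_add, hlam r, add_comm]
  exact (hS.2 _).mp h

include hlam hS in
theorem exists_norm (r : R) : ∃ n : S, algebraMap S R n = r * lam r := by
  have h : lam (r * lam r) = r * lam r := by rw [map_mul, hlam r, mul_comm]
  exact (hS.2 _).mp h

theorem monic_quad (t n : S) : (X ^ 2 + (C (-t) * X + C n) : S[X]).Monic :=
  monic_X_pow_add (lt_of_le_of_lt degree_linear_le (by exact_mod_cast one_lt_two))

include hlam hS in
theorem isIntegral (r : R) : IsIntegral S r := by
  obtain ⟨t, ht⟩ := exists_trace lam hlam hS r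
  obtain ⟨n, hn⟩ := exists_norm lam hlam hS r
  refine ⟨X ^ 2 + (C (-t) * X + C n), monic_quad t n, ?_⟩
  simp only [eval₂_add, eval₂_pow, eval₂_X, eval₂_mul, eval₂_C, eval₂_neg, map_neg]
  linear_combination (-r) * ht + hn

include hlam hS in
theorem algebra_isIntegral : Algebra.IsIntegral S R := ⟨fun r => isIntegral lam hlam hS r⟩

theorem comap_eq_maximalIdeal [IsLocalRing S] [Algebra.IsIntegral S R] (n : Ideal R)
    [n.IsMaximal] : n.comap (algebraMap S R) = maximalIdeal S :=
  IsLocalRing.eq_maximalIdeal (Ideal.isMaximal_comap_of_isIntegral_of_isMaximal n)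

include hlam hS in
/-- if every maximal ideal is stable under the involution, the ring is local -/
theorem isLocalRing_of_stable [IsLocalRing S]
    (h : ∀ n : Ideal R, n.IsMaximal → n.comap (lam : R →+* R) = n) : IsLocalRing R := by
  haveI : Algebra.IsIntegral S R := algebra_isIntegral lam hlam hS
  haveI : Nontrivial R := hS.1.nontrivial
  obtain ⟨M, hM⟩ := Ideal.exists_maximal R
  apply IsLocalRing.of_unique_max_ideal
  refine ⟨M, hM, fun M' hM' => ?_⟩
  by_contra hne
  have hsup : M' ⊔ M = ⊤ := hM'.coprime_of_ne hM hne
  have h1 : (1 : R) ∈ M' ⊔ M := by rw [hsup]; exact Submodule.mem_top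
  obtain ⟨a, ha, b, hb, hab⟩ := Submodule.mem_sup.mp h1
  obtain ⟨nn, hnn⟩ := exists_norm lam hlam hS a
  have hc1 : M'.comap (algebraMap S R) = maximalIdeal S := comap_eq_maximalIdeal M'
  have hc2 : M.comap (algebraMap S R) = maximalIdeal S := comap_eq_maximalIdeal M
  have hn1 : nn ∈ maximalIdeal S := by
    rw [← hc1, Ideal.mem_comap, hnn]
    exact M'.mul_mem_right _ ha
  have hlb : lam b ∈ M := by
    have : b ∈ M.comap (lam : R →+* R) := by rw [h M hM]; exact hb
    exact this
  have hn2 : 1 - nn ∈ maximalIdeal S := by
    rw [← hc2, Ideal.mem_comap, map_sub, map_one, hnn]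
    have hlab : lam a + lam b = 1 := by rw [← map_add, hab, map_one]
    have : 1 - a * lam a = b + a * lam b := by
      linear_combination (-1 : R) * hab + (-a) * hlab
    rw [this]
    exact M.add_mem hb (M.mul_mem_left _ hlb)
  have : (1 : S) ∈ maximalIdeal S := by
    have := (maximalIdeal S).add_mem hn1 hn2
    simpa using this
  exact (Ideal.ne_top_iff_one _).mp (Ideal.IsMaximal.ne_top (maximalIdeal.isMaximal S)) this

include hlam hS in
/-- if some maximal ideal is moved by the involution, there is an idempotent `e` with
`lam e = 1 - e` -/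
theorem exists_idempotent [HenselianLocalRing S] (n : Ideal R) [hn : n.IsMaximal]
    (hne : n.comap (lam : R →+* R) ≠ n) :
    ∃ e : R, IsIdempotentElem e ∧ lam e = 1 - e := by
  haveI : Algebra.IsIntegral S R := algebra_isIntegral lam hlam hS
  have hfix := lam_algebraMap lam hS
  have hn2 : (n.comap (lam : R →+* R)).IsMaximal :=
    Ideal.comap_isMaximal_of_surjective (lam : R →+* R) lam.surjective
  have hsup : n ⊔ n.comap (lam : R →+* R) = ⊤ := hn.coprime_of_ne hn2 (Ne.symm hne)
  have h1 : (1 : R) ∈ n ⊔ n.comap (lam : R →+* R) := by rw [hsup]; exact Submodule.mem_top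
  obtain ⟨a, ha, b, hb, hab⟩ := Submodule.mem_sup.mp h1
  have hlb : lam b ∈ n := hb
  have hlab : lam a + lam b = 1 := by rw [← map_add, hab, map_one]
  obtain ⟨t, ht⟩ := exists_trace lam hlam hS a
  obtain ⟨nn, hnn⟩ := exists_norm lam hlam hS a
  have hc : n.comap (algebraMap S R) = maximalIdeal S := comap_eq_maximalIdeal n
  have hnm : nn ∈ maximalIdeal S := by
    rw [← hc, Ideal.mem_comap, hnn]
    exact n.mul_mem_right _ ha
  have ht1 : t - 1 ∈ maximalIdeal S := by
    rw [← hc, Ideal.mem_comap, map_sub, map_one, ht]
    have : a + lam a - 1 = a - lam b := by linear_combination hlab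
    rw [this]
    exact n.sub_mem ha hlb
  have htu : t ∉ maximalIdeal S := by
    intro htm
    have : (1 : S) ∈ maximalIdeal S := by
      have := (maximalIdeal S).sub_mem htm ht1
      simpa using this
    exact (Ideal.ne_top_iff_one _).mp (Ideal.IsMaximal.ne_top (maximalIdeal.isMaximal S)) this
  -- Hensel
  have hf := monic_quad t nn
  obtain ⟨α, hα, hαm⟩ := HenselianLocalRing.is_henselian (X ^ 2 + (C (-t) * X + C nn) : S[X]) hf 0
    (by simpa using hnm)
    (by
      have : IsUnit t := (IsLocalRing.notMem_maximalIdeal).mp htu
      simpa using this)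
  rw [sub_zero] at hαm
  have hα' : α ^ 2 + (-t * α + nn) = 0 := by
    have := hα
    simpa [IsRoot.def] using this
  have hu : t - 2 * α ∉ maximalIdeal S := by
    intro hum
    apply htu
    have : t = (t - 2 * α) + 2 * α := by ring
    rw [this]
    exact (maximalIdeal S).add_mem hum ((maximalIdeal S).mul_mem_left _ hαm)
  obtain ⟨v, hv⟩ := ((IsLocalRing.notMem_maximalIdeal).mp hu).exists_right_inv
  -- notations in R
  have hrel : algebraMap S R α * algebraMap S R α - algebraMap S R t * algebraMap S R α
      + algebraMap S R nn = 0 := by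
    have := congrArg (algebraMap S R) hα'
    simp only [map_add, map_pow, map_mul, map_neg, map_zero] at this
    linear_combination this
  have hUV : (algebraMap S R t - 2 * algebraMap S R α) * algebraMap S R v = 1 := by
    have := congrArg (algebraMap S R) hv
    rw [map_mul, map_sub, map_mul, map_one, map_ofNat] at this
    exact this
  have key : (a - algebraMap S R α) * (a - (algebraMap S R t - algebraMap S R α)) = 0 := by
    linear_combination (-1 : R) * hrel + (-a) * ht + hnn
  refine ⟨algebraMap S R v * (a - algebraMap S R α), ?_, ?_⟩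
  · change algebraMap S R v * (a - algebraMap S R α) * (algebraMap S R v * (a - algebraMap S R α))
      = algebraMap S R v * (a - algebraMap S R α)
    linear_combination (algebraMap S R v) ^ 2 * key
      + (algebraMap S R v * (a - algebraMap S R α)) * hUV
  · rw [map_mul, map_sub, hfix, hfix]
    linear_combination hUV - algebraMap S R v * ht

include hlam hS in
/-- for an idempotent `e` with `lam e = 1 - e`, the fixed ring maps isomorphically onto `R / e` -/
theorem bijective_quot (e : R) (he : IsIdempotentElem e) (hle : lam e = 1 - e) :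
    Function.Bijective ((Ideal.Quotient.mk (Ideal.span {e})).comp (algebraMap S R)) := by
  have hfix := lam_algebraMap lam hS
  constructor
  · rw [injective_iff_map_eq_zero]
    intro s hs
    rw [RingHom.comp_apply, Ideal.Quotient.eq_zero_iff_mem, Ideal.mem_span_singleton'] at hs
    obtain ⟨y, hy⟩ := hs
    have h1 : algebraMap S R s * (1 - e) = 0 := by
      rw [← hy]
      have : y * e * (1 - e) = y * (e - e * e) := by ring
      rw [this, he.eq, sub_self, mul_zero]
    have h2 : algebraMap S R s * e = 0 := by
      have := congrArg lam h1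
      rw [map_mul, hfix, map_sub, map_one, hle, map_zero] at this
      linear_combination this
    apply hS.1
    rw [map_zero]
    linear_combination h1 + h2
  · intro q
    obtain ⟨x, rfl⟩ := Ideal.Quotient.mk_surjective q
    have hw : lam ((1 - e) * x + e * lam x) = (1 - e) * x + e * lam x := by
      rw [map_add, map_mul, map_mul, map_sub, map_one, hle, hlam x]
      ring
    obtain ⟨s, hs⟩ := (hS.2 _).mp hw
    refine ⟨s, ?_⟩
    rw [RingHom.comp_apply, hs, Ideal.Quotient.eq, Ideal.mem_span_singleton']
    exact ⟨lam x - x, by ring⟩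

/-- the two ideals of an idempotent -/
def J (e : R) (b : Bool) : Ideal R := Ideal.span {cond b e (1 - e)}

theorem bijective_pi (e : R) (he : IsIdempotentElem e) :
    Function.Bijective (RingHom.pi (fun b : Bool => Ideal.Quotient.mk (J e b))) := by
  constructor
  · rw [injective_iff_map_eq_zero]
    intro x hx
    have h1 : Ideal.Quotient.mk (J e true) x = 0 := congrFun hx true
    have h0 : Ideal.Quotient.mk (J e false) x = 0 := congrFun hx false
    rw [Ideal.Quotient.eq_zero_iff_mem] at h1 h0
    obtain ⟨y, hy⟩ := Ideal.mem_span_singleton'.mp h1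
    obtain ⟨z, hz⟩ := Ideal.mem_span_singleton'.mp h0
    simp only [cond_true] at hy
    simp only [cond_false] at hz
    have e1 : x * (1 - e) = 0 := by
      rw [← hy]
      have : y * e * (1 - e) = y * (e - e * e) := by ring
      rw [this, he.eq, sub_self, mul_zero]
    have e2 : x * e = 0 := by
      rw [← hz]
      have : z * (1 - e) * e = z * (e - e * e) := by ring
      rw [this, he.eq, sub_self, mul_zero]
    linear_combination e1 + e2
  · intro g
    obtain ⟨y₁, hy₁⟩ := Ideal.Quotient.mk_surjective (g true)
    obtain ⟨y₀, hy₀⟩ := Ideal.Quotient.mk_surjective (g false)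
    refine ⟨(1 - e) * y₁ + e * y₀, ?_⟩
    funext b
    cases b
    · change Ideal.Quotient.mk (J e false) _ = _
      rw [← hy₀, Ideal.Quotient.eq]
      exact Ideal.mem_span_singleton'.mpr ⟨y₁ - y₀, by simp only [cond_false]; ring⟩
    · change Ideal.Quotient.mk (J e true) _ = _
      rw [← hy₁, Ideal.Quotient.eq]
      exact Ideal.mem_span_singleton'.mpr ⟨y₀ - y₁, by simp only [cond_true]; ring⟩

include hlam hS in
theorem main [HenselianLocalRing S] [IsSepClosed (IsLocalRing.ResidueField S)] :
    ∃ (ι : Type) (_ : Fintype ι) (T : ι → Type v) (_ : ∀ i, CommRing (T i))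
      (_ : ∀ i, HenselianLocalRing (T i)),
      (∀ i, IsSepClosed (IsLocalRing.ResidueField (T i))) ∧ Nonempty (R ≃+* (∀ i, T i)) := by
  haveI hint : Algebra.IsIntegral S R := algebra_isIntegral lam hlam hS
  by_cases h : ∀ n : Ideal R, n.IsMaximal → n.comap (lam : R →+* R) = n
  · haveI : IsLocalRing R := isLocalRing_of_stable lam hlam hS h
    have hH : HenselianLocalRing R := henselianLocalRing_of_isIntegral' S R
    have hSC : IsSepClosed (IsLocalRing.ResidueField R) :=
      isSepClosed_residueField_of_isIntegral S R
    exact ⟨Unit, inferInstance, fun _ => R, fun _ => inferInstance, fun _ => hH, fun _ => hSC,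
      ⟨(RingEquiv.piUnique (fun _ : Unit => R)).symm⟩⟩
  · push Not at h
    obtain ⟨n, hn, hne⟩ := h
    obtain ⟨e, he, hle⟩ := exists_idempotent lam hlam hS n hne
    have heb : ∀ b : Bool, IsIdempotentElem (cond b e (1 - e)) ∧
        lam (cond b e (1 - e)) = 1 - cond b e (1 - e) := by
      intro b
      cases b
      · refine ⟨he.one_sub, ?_⟩
        simp only [cond_false]
        rw [map_sub, map_one, hle]
      · exact ⟨he, hle⟩
    have hbij : ∀ b : Bool, Function.Bijective
        ((Ideal.Quotient.mk (J e b)).comp (algebraMap S R)) := fun b =>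
      bijective_quot lam hlam hS _ (heb b).1 (heb b).2
    have hH : ∀ b : Bool, HenselianLocalRing (R ⧸ J e b) := fun b =>
      Groth.Agent.Helper2.HopfLib.henselianLocalRing_of_ringEquiv
        (RingEquiv.ofBijective _ (hbij b))
    have hSC : ∀ b : Bool, IsSepClosed (IsLocalRing.ResidueField (R ⧸ J e b)) := by
      intro b
      haveI := hH b
      haveI : Algebra.IsIntegral S (R ⧸ J e b) :=
        Algebra.IsIntegral.of_surjective (Ideal.Quotient.mkₐ S (J e b))
          (Ideal.Quotient.mkₐ_surjective S (J e b))
      exact isSepClosed_residueField_of_isIntegral S (R ⧸ J e b)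
    exact ⟨Bool, inferInstance, fun b => R ⧸ J e b, fun b => inferInstance, hH, hSC,
      ⟨RingEquiv.ofBijective _ (bijective_pi e he)⟩⟩

end Invol

end Groth.Agent.Helper3.InvolHens
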