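import Mathlib
import Groth.Prelude.Def_CohTop

set_option autoImplicit false
universe u
open CategoryTheory Limits Opposite TopologicalSpace

namespace Groth.Agent.Helper3.IrrConst

variable (X : TopCat.{u}) (A : Type u) [AddCommGroup A]

/-- constant functions on `U` -/
def constFun (U : Opens X) : AddSubgroup (U → A) where
  carrier := {s | ∀ x y, s x = s y}
  zero_mem' := fun _ _ => rfl
  add_mem' := by
    intro a b ha hb x y
    simp only [Pi.add_apply]
    rw [ha x y, hb x y]
  neg_mem' := by
    intro a ha x y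
    simp only [Pi.neg_apply]
    rw [ha x y]

/-- the presheaf of constant functions -/
def Lp : (Opens X)ᵒᵖ ⥤ AddCommGrpCat.{u} where
  obj U := AddCommGrpCat.of (constFun X A U.unop)
  map {U V} i := AddCommGrpCat.ofHom
    { toFun := fun s => ⟨fun x => s.1 ⟨x.1, i.unop.le x.2⟩, fun _ _ => s.2 _ _⟩
      map_zero' := rfl
      map_add' := fun _ _ => rfl }
  map_id U := by
    ext s
    rfl
  map_comp f g := by
    ext s
    rfl

variable {X A}

lemma Lp_map_apply {U V : (Opens X)ᵒᵖ} (i : U ⟶ V) (s : (Lp X A).obj U) (x : V.unop) :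
    ((Lp X A).map i s).1 x = s.1 ⟨x.1, i.unop.le x.2⟩ := rfl

variable (X A)

theorem isSheaf [PreirreducibleSpace X] : TopCat.Presheaf.IsSheaf (Lp X A) := by
  rw [TopCat.Presheaf.isSheaf_iff_isSheafUniqueGluing]
  intro ι U sf hc
  have hc' : ∀ i j (x : X) (hi : x ∈ U i) (hj : x ∈ U j),
      (sf i).1 ⟨x, hi⟩ = (sf j).1 ⟨x, hj⟩ := by
    intro i j x hi hj
    have := congrArg (fun s => s.1 ⟨x, ⟨hi, hj⟩⟩) (hc i j)
    exact this
  have hmem : ∀ x : ↥(iSup U), ∃ i, x.1 ∈ U i := fun x => Opens.mem_iSup.1 x.2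
  choose idx hidx using hmem
  let s : ↥(iSup U) → A := fun x => (sf (idx x)).1 ⟨x.1, hidx x⟩
  have hs : ∀ x y, s x = s y := by
    intro x y
    obtain ⟨z, hz1, hz2⟩ := nonempty_preirreducible_inter (U (idx x)).isOpen (U (idx y)).isOpen
      ⟨x.1, hidx x⟩ ⟨y.1, hidx y⟩
    calc s x = (sf (idx x)).1 ⟨z, hz1⟩ := (sf (idx x)).2 _ _
      _ = (sf (idx y)).1 ⟨z, hz2⟩ := hc' _ _ z hz1 hz2
      _ = s y := (sf (idx y)).2 _ _
  refine ⟨⟨s, hs⟩, ?_, ?_⟩
  · intro i
    apply Subtype.ext
    funext x
    exact hc' _ _ x.1 _ x.2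
  · intro t ht
    apply Subtype.ext
    funext x
    have := congrArg (fun r => r.1 ⟨x.1, hidx x⟩) (ht (idx x))
    exact this

/-- the sheaf of constant functions -/
def L [PreirreducibleSpace X] : CohTop.Ab X := ⟨Lp X A, isSheaf X A⟩

/-- the comparison map from the constant presheaf -/
def c : (Functor.const (Opens X)ᵒᵖ).obj (AddCommGrpCat.of A) ⟶ Lp X A where
  app U := AddCommGrpCat.ofHom
    { toFun := fun a => ⟨fun _ => a, fun _ _ => rfl⟩
      map_zero' := rfl
      map_add' := fun _ _ => rfl }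
  naturality U V i := by
    ext a
    rfl

lemma c_app_apply (U : (Opens X)ᵒᵖ) (a : A) (x : U.unop) : ((c X A).app U a).1 x = a := rfl

instance : Presheaf.IsLocallyInjective (Opens.grothendieckTopology X) (c X A) where
  equalizerSieve_mem {U} a b h := by
    intro x hx
    have hab : a = b := congrArg (fun s => s.1 ⟨x, hx⟩) h
    refine ⟨U.unop, 𝟙 _, ?_, hx⟩
    change _ = _
    rw [hab]

instance : Presheaf.IsLocallySurjective (Opens.grothendieckTopology X) (c X A) where
  imageSieve_mem {U} s := by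
    intro x hx
    refine ⟨U, 𝟙 _, ⟨s.1 ⟨x, hx⟩, ?_⟩, hx⟩
    apply Subtype.ext
    funext y
    exact s.2 _ _

theorem isIso_map_c :
    IsIso ((presheafToSheaf (Opens.grothendieckTopology X) AddCommGrpCat.{u}).map (c X A)) :=
  ((Opens.grothendieckTopology X).W_iff (c X A)).1
    ((Opens.grothendieckTopology X).W_of_isLocallyBijective (c X A))

/-- on an irreducible space the constant sheaf is the sheaf of constant functions -/
noncomputable def constIso [PreirreducibleSpace X] : CohTop.const X A ≅ L X A :=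
  @asIso _ _ _ _ ((presheafToSheaf (Opens.grothendieckTopology X) AddCommGrpCat.{u}).map (c X A))
    (isIso_map_c X A) ≪≫
    (sheafificationIso (L X A)).symm

instance [PreirreducibleSpace X] : TopCat.Sheaf.IsFlasque (L X A) where
  epi {U V} i := by
    rw [AddCommGrpCat.epi_iff_surjective]
    intro t
    by_cases h : Nonempty V.unop
    · obtain ⟨y⟩ := h
      refine ⟨⟨fun _ => t.1 y, fun _ _ => rfl⟩, ?_⟩
      apply Subtype.ext
      funext z
      exact t.2 _ _
    · refine ⟨0, ?_⟩
      apply Subtype.ext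
      funext z
      exact (h ⟨z⟩).elim

variable {X} in
/-- flasqueness is invariant under isomorphism -/
theorem isFlasque_of_iso {F G : CohTop.Ab X} (e : F ≅ G) [TopCat.Sheaf.IsFlasque F] :
    TopCat.Sheaf.IsFlasque G where
  epi {U V} i := by
    let e' : F.obj ≅ G.obj :=
      (sheafToPresheaf (Opens.grothendieckTopology X) AddCommGrpCat.{u}).mapIso e
    have h : G.obj.map i = e'.inv.app U ≫ F.obj.map i ≫ e'.hom.app V :=
      (NatIso.naturality_1 e' i).symm
    rw [h]
    infer_instance

/-- the constant sheaf on an irreducible space is flasque -/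
theorem const_isFlasque [PreirreducibleSpace X] : TopCat.Sheaf.IsFlasque (CohTop.const X A) :=
  isFlasque_of_iso (constIso X A).symm

end Groth.Agent.Helper3.IrrConst
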