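import Mathlib
import Groth.Prelude.Def_CohTop
import Groth.Agent.Lib.Helper3.IrrConst
import Groth.Agent.Lib.Helper3.ImgSect

set_option autoImplicit false
universe u
open CategoryTheory Limits Opposite TopologicalSpace

namespace Groth.Agent.Helper3.IrrSub

variable (X : TopCat.{u}) [IrreducibleSpace X]

/-- the constant sheaf `ℤ` -/
noncomputable abbrev Z : CohTop.Ab X := CohTop.const X (ULift.{u} ℤ)

/-- constant functions as an additive map -/
def cst (V : Opens X) : ℤ →+ (IrrConst.L X (ULift.{u} ℤ)).obj.obj (op V) where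
  toFun n := ⟨fun _ => ULift.up n, fun _ _ => rfl⟩
  map_zero' := rfl
  map_add' _ _ := rfl

/-- the constant sections -/
noncomputable def z (V : Opens X) : ℤ →+ (Z X).obj.obj (op V) :=
  ((IrrConst.constIso X (ULift.{u} ℤ)).inv.hom.app (op V)).hom.comp (cst X V)

variable {X}

lemma z_restrict {V V' : Opens X} (i : V' ⟶ V) (n : ℤ) :
    (Z X).obj.map i.op (z X V n) = z X V' n := by
  have h := ConcreteCategory.congr_hom
    ((IrrConst.constIso X (ULift.{u} ℤ)).inv.hom.naturality i.op) (cst X V n)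
  exact h.symm

lemma z_surjective (V : Opens X) (t : (Z X).obj.obj (op V)) : ∃ n : ℤ, z X V n = t := by
  let e := IrrConst.constIso X (ULift.{u} ℤ)
  let f := e.hom.hom.app (op V) t
  have key : ∀ n : ℤ, cst X V n = f → z X V n = t := by
    intro n hn
    change e.inv.hom.app (op V) (cst X V n) = t
    rw [hn]
    change (e.hom ≫ e.inv).hom.app (op V) t = t
    rw [e.hom_inv_id]
    rfl
  by_cases hV : Nonempty V
  · obtain ⟨x⟩ := hV
    refine ⟨(f.1 x).down, key _ ?_⟩
    apply Subtype.ext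
    funext y
    exact f.2 x y
  · refine ⟨0, key _ ?_⟩
    apply Subtype.ext
    funext y
    exact (hV ⟨y⟩).elim

lemma subsingleton_bot : Subsingleton ((Z X).obj.obj (op (⊥ : Opens X))) := by
  let e := IrrConst.constIso X (ULift.{u} ℤ)
  constructor
  intro a b
  have h : e.hom.hom.app (op ⊥) a = e.hom.hom.app (op ⊥) b := by
    apply Subtype.ext
    funext y
    exact y.2.elim
  have h2 := congrArg (e.inv.hom.app (op ⊥)) h
  have h3 : ∀ c, e.inv.hom.app (op ⊥) (e.hom.hom.app (op ⊥) c) = c := by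
    intro c
    change (e.hom ≫ e.inv).hom.app (op ⊥) c = c
    rw [e.hom_inv_id]
    rfl
  rwa [h3, h3] at h2

variable {H : CohTop.Ab X} (ι : H ⟶ Z X)

/-- the integers whose constant section over `V` lies in the subsheaf -/
noncomputable def S (V : Opens X) : AddSubgroup ℤ :=
  (AddMonoidHom.range (ι.hom.app (op V)).hom).comap (z X V)

lemma mem_S {V : Opens X} {n : ℤ} : n ∈ S ι V ↔ ∃ s, ι.hom.app (op V) s = z X V n := Iff.rfl

lemma S_mono {V V' : Opens X} (h : V' ≤ V) : S ι V ≤ S ι V' := by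
  intro n hn
  obtain ⟨s, hs⟩ := (mem_S ι).1 hn
  refine (mem_S ι).2 ⟨H.obj.map (homOfLE h).op s, ?_⟩
  have h1 := ConcreteCategory.congr_hom (ι.hom.naturality (homOfLE h).op) s
  refine h1.trans ?_
  change (Z X).obj.map (homOfLE h).op (ι.hom.app (op V) s) = _
  rw [hs, z_restrict]

lemma main_S : ∃ U : Opens X, U ≠ ⊥ ∧ ∃ d : ℤ, ∀ V : Opens X, V ≤ U → V ≠ ⊥ →
    S ι V = AddSubgroup.zmultiples d := by
  classical
  by_cases hN : ∃ n : ℕ, 0 < n ∧ ∃ V : Opens X, V ≠ ⊥ ∧ (n : ℤ) ∈ S ι V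
  · obtain ⟨hd, U, hU, hdU⟩ := Nat.find_spec hN
    refine ⟨U, hU, (Nat.find hN : ℤ), fun V hV hV0 => le_antisymm ?_ ?_⟩
    · intro m hm
      have hg : ((Int.gcd m (Nat.find hN : ℤ) : ℕ) : ℤ) ∈ S ι V := by
        rw [Int.gcd_eq_gcd_ab]
        refine add_mem ?_ ?_
        · rw [mul_comm]
          exact (S ι V).zsmul_mem hm _
        · rw [mul_comm]
          exact (S ι V).zsmul_mem (S_mono ι hV hdU) _
      have hpos : 0 < Int.gcd m (Nat.find hN : ℤ) :=
        Int.gcd_pos_of_ne_zero_right _ (by exact_mod_cast hd.ne')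
      have hle : Int.gcd m (Nat.find hN : ℤ) ≤ Nat.find hN :=
        Nat.le_of_dvd hd (Int.natCast_dvd_natCast.1 (Int.gcd_dvd_right _ _))
      have hmin : Nat.find hN ≤ Int.gcd m (Nat.find hN : ℤ) :=
        Nat.find_min' hN ⟨hpos, V, hV0, hg⟩
      have heq : Int.gcd m (Nat.find hN : ℤ) = Nat.find hN := le_antisymm hle hmin
      have hdvd : (Nat.find hN : ℤ) ∣ m := by
        have := Int.gcd_dvd_left m (Nat.find hN : ℤ)
        rwa [heq] at this
      exact Int.mem_zmultiples_iff.2 hdvd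
    · rw [AddSubgroup.zmultiples_le]
      exact S_mono ι hV hdU
  · push Not at hN
    refine ⟨⊤, top_ne_bot, 0, fun V _ hV0 => ?_⟩
    rw [AddSubgroup.zmultiples_zero_eq_bot, eq_bot_iff]
    intro m hm
    by_contra hne
    refine hN m.natAbs (Int.natAbs_pos.2 hne) V hV0 ?_
    rcases Int.natAbs_eq m with h | h
    · rw [← h]; exact hm
    · have : (m.natAbs : ℤ) = -m := by omega
      rw [this]
      exact neg_mem hm

lemma zsmul_app {F G : CohTop.Ab X} (d : ℤ) (φ : F ⟶ G) (V : (Opens X)ᵒᵖ) (t : F.obj.obj V) :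
    (d • φ).hom.app V t = d • φ.hom.app V t := by
  have h := (sheafToPresheaf (Opens.grothendieckTopology X) AddCommGrpCat.{u} ⋙
    (evaluation _ _).obj V).map_zsmul (f := φ) (r := d)
  have h2 : (d • φ).hom.app V = d • φ.hom.app V := h
  rw [h2]
  rfl

lemma zsmul_id_z (d m : ℤ) (V : Opens X) :
    (d • 𝟙 (Z X)).hom.app (op V) (z X V m) = z X V (m • d) := by
  rw [zsmul_app]
  change d • z X V m = _
  rw [← map_zsmul, smul_eq_mul, smul_eq_mul, mul_comm]

variable {U : Opens X} {d : ℤ}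
  (hd : ∀ V : Opens X, V ≤ U → V ≠ ⊥ → S ι V = AddSubgroup.zmultiples d)

include hd in
lemma sect₁ (V : Opens X) (hV : V ≤ U) (s : H.obj.obj (op V)) :
    ∃ t : (Z X).obj.obj (op V), (d • 𝟙 (Z X)).hom.app (op V) t = ι.hom.app (op V) s := by
  by_cases h0 : V = ⊥
  · subst h0
    have := subsingleton_bot (X := X)
    exact ⟨0, Subsingleton.elim _ _⟩
  · obtain ⟨n, hn⟩ := z_surjective V (ι.hom.app (op V) s)
    have hmem : n ∈ S ι V := (mem_S ι).2 ⟨s, hn.symm⟩
    rw [hd V hV h0] at hmem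
    obtain ⟨m, rfl⟩ := AddSubgroup.mem_zmultiples_iff.1 hmem
    exact ⟨z X V m, (zsmul_id_z d m V).trans hn⟩

include hd in
lemma sect₂ (V : Opens X) (hV : V ≤ U) (t : (Z X).obj.obj (op V)) :
    ∃ s : H.obj.obj (op V), ι.hom.app (op V) s = (d • 𝟙 (Z X)).hom.app (op V) t := by
  by_cases h0 : V = ⊥
  · subst h0
    have := subsingleton_bot (X := X)
    exact ⟨0, Subsingleton.elim _ _⟩
  · obtain ⟨m, rfl⟩ := z_surjective V t
    have hmem : m • d ∈ S ι V := by
      rw [hd V hV h0]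
      exact AddSubgroup.mem_zmultiples_iff.2 ⟨m, rfl⟩
    obtain ⟨s, hs⟩ := (mem_S ι).1 hmem
    exact ⟨s, hs.trans (zsmul_id_z d m V).symm⟩

theorem main : ∃ (U : Opens X) (d : ℤ), U ≠ ⊥ ∧
    imageSubobject ((CohTop.restrFunctor U).map ι) =
      imageSubobject ((CohTop.restrFunctor U).map (d • 𝟙 (Z X))) := by
  obtain ⟨U, hU, d, hd⟩ := main_S ι
  have hle : ∀ V' : Opens ↥U, (U.isOpenEmbedding.isOpenMap.functor).obj V' ≤ U := by
    rintro V' x ⟨y, _, rfl⟩
    exact y.2
  refine ⟨U, d, hU, le_antisymm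
    (ImgSect.imageSubobject_le_of_sections _ _ fun V' s => ?_)
    (ImgSect.imageSubobject_le_of_sections _ _ fun V' t => ?_)⟩
  · exact sect₁ ι hd _ (hle V') s
  · exact sect₂ ι hd _ (hle V') t

end Groth.Agent.Helper3.IrrSub
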