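import Mathlib
import Groth.Agent.Lib.Helper3.LocFib
import Groth.Agent.Lib.Helper5.KFlat.LBCFlat

/-!
# Tor amplitude modulo an ideal contained in the Jacobson radical
-/

namespace Groth.Agent.Helper3.JacTor

open CategoryTheory Limits DerivedCategory Groth.Agent.Helper5.FlatBC Groth.Agent.Helper5.TorAmp
open Groth.Agent.Helper3.ProjLiftNil Groth.Agent.Helper3.PcLift Groth.Agent.Lib.Helper5.KProj
open Groth.Agent.Helper3.StabFree Groth.Agent.Helper3.MinCx

universe u

attribute [local instance] HasDerivedCategory.standard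

section Comp

variable {A B C : Type u} [CommRing A] [CommRing B] [CommRing C]
  (f : A →+* B) (g : B →+* C)

/-- composition of derived base changes, on a K-projective representative whose base change is
K-projective -/
noncomputable def lbcCompIso [DRing.HasLBaseChange f] [DRing.HasLBaseChange g]
    [DRing.HasLBaseChange (g.comp f)]
    (F : DRing.Cx A) [F.IsKProjective] [((bcCx f).obj F).IsKProjective] :
    (DRing.LBaseChange g).obj ((DRing.LBaseChange f).obj (DRing.toD F)) ≅
      (DRing.LBaseChange (g.comp f)).obj (DRing.toD F) :=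
  (DRing.LBaseChange g).mapIso (lbcIso f F) ≪≫ lbcIso g ((bcCx f).obj F) ≪≫
    Q.mapIso ((NatIso.mapHomologicalComplex (ModuleCat.extendScalarsComp f g)
      (ComplexShape.up ℤ)).app F).symm ≪≫ (lbcIso (g.comp f) F).symm

lemma subsingleton_of_eq {φ ψ : A →+* B} (h : φ = ψ) [DRing.HasLBaseChange φ]
    [DRing.HasLBaseChange ψ] (K : Dual.D A) (i : ℤ)
    (hs : Subsingleton (Dual.HD B ((DRing.LBaseChange φ).obj K) i)) :
    Subsingleton (Dual.HD B ((DRing.LBaseChange ψ).obj K) i) := by
  subst h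
  exact hs

end Comp

theorem main_S15232 (R : Type u) [CommRing R]
    (I : Ideal R) (hI : I ≤ Ideal.jacobson (⊥ : Ideal R)) [DRing.HasLBaseChange (Ideal.Quotient.mk I)]
    (P : Dual.D R) (hP : DRing.IsPseudoCoherent' R P) (a b : ℤ)
    (h : DRing.HasTorAmplitudeIn (R ⧸ I) a b ((DRing.LBaseChange (Ideal.Quotient.mk I)).obj P)) :
    DRing.HasTorAmplitudeIn R a b P := by
  haveI : ∀ n : Ideal R, DRing.HasLBaseChange (Ideal.Quotient.mk n) :=
    fun n => Groth.Agent.Helper3.SurjTr.hasLBaseChange _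
  refine (Groth.Agent.Helper3.LocFib.main_S6974 R P hP a b ?_).2
  intro m hm i hi
  have hIm : I ≤ m := hI.trans (sInf_le ⟨bot_le, hm⟩)
  obtain ⟨F, c, hF0, hFt, ⟨eF⟩⟩ := hP
  haveI : F.IsKProjective := isKProjective_of_bdd F c hF0 (fun i => by
    obtain ⟨h1, h2⟩ := hFt i
    exact Module.Projective.of_free)
  haveI : ((bcCx (Ideal.Quotient.mk I)).obj F).IsKProjective :=
    isKProjective_of_bdd _ c (vanishesAbove_bcCx (Ideal.Quotient.mk I) F c hF0) (fun i => by
      obtain ⟨h1, h2⟩ := termwiseFiniteFree_bcCx (Ideal.Quotient.mk I) F hFt i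
      exact Module.Projective.of_free)
  let f : R ⧸ I →+* R ⧸ m := Ideal.Quotient.factor hIm
  haveI : DRing.HasLBaseChange f := Groth.Agent.Helper3.SurjTr.hasLBaseChange f
  haveI : DRing.HasLBaseChange (f.comp (Ideal.Quotient.mk I)) :=
    Groth.Agent.Helper3.SurjTr.hasLBaseChange _
  have h1 : DRing.HasTorAmplitudeIn (R ⧸ m) a b
      ((DRing.LBaseChange f).obj ((DRing.LBaseChange (Ideal.Quotient.mk I)).obj P)) :=
    Groth.Agent.Lib.Helper5.KFlat.hasTorAmplitudeIn_LBaseChange f _ a b h
  have h2 : DRing.HasTorAmplitudeIn (R ⧸ m) a b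
      ((DRing.LBaseChange (f.comp (Ideal.Quotient.mk I))).obj P) :=
    hasTorAmplitudeIn_of_iso
      ((DRing.LBaseChange f).mapIso ((DRing.LBaseChange (Ideal.Quotient.mk I)).mapIso eF.symm) ≪≫
        lbcCompIso (Ideal.Quotient.mk I) f F ≪≫
        (DRing.LBaseChange (f.comp (Ideal.Quotient.mk I))).mapIso eF) h1
  have h3 := bounded_of_hasTorAmplitudeIn h2 i hi
  exact subsingleton_of_eq (Ideal.Quotient.factor_comp_mk hIm) P i h3

end Groth.Agent.Helper3.JacTor
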