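import Mathlib
import Groth.Prelude.Def_KZero

set_option autoImplicit false
set_option linter.unusedSectionVars false
universe w v u

open CategoryTheory CategoryTheory.Limits CategoryTheory.Pretriangulated ZeroObject

namespace Groth.Agent.Helper3.K0Db

section Ab

variable {C : Type u} [Category.{v} C] [Abelian C] {G : Type*} [AddCommGroup G]

/-- an additive class function on a class of objects closed under isos, zero, kernels -/
structure ClassFn (P : C → Prop) (c : C → G) : Prop where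
  iso : ∀ X Y : C, (X ≅ Y) → P X → P Y
  zero : ∀ X : C, IsZero X → P X
  ker : ∀ {X Y : C} (f : X ⟶ Y), P X → P Y → P (kernel f)
  ses : ∀ S : ShortComplex C, S.ShortExact → P S.X₁ → P S.X₂ → P S.X₃ →
    c S.X₂ = c S.X₁ + c S.X₃

variable {P : C → Prop} {c : C → G} (h : ClassFn P c)

include h

lemma ClassFn.c_zero (X : C) (hX : IsZero X) : c X = 0 := by
  have hS : (ShortComplex.mk (0 : X ⟶ X) (0 : X ⟶ X) zero_comp).ShortExact :=
    { exact := ShortComplex.exact_of_isZero_X₂ _ hX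
      mono_f := hX.mono _
      epi_g := hX.epi _ }
  have := h.ses _ hS (h.zero X hX) (h.zero X hX) (h.zero X hX)
  exact left_eq_add.1 this

lemma ClassFn.c_iso {X Y : C} (e : X ≅ Y) (hX : P X) : c Y = c X := by
  have hS : (ShortComplex.mk e.hom (0 : Y ⟶ (0 : C)) comp_zero).ShortExact :=
    { exact := (ShortComplex.exact_iff_epi _ rfl).2 (by dsimp; infer_instance)
      mono_f := by dsimp; infer_instance
      epi_g := (isZero_zero C).epi _ }
  have := h.ses _ hS hX (h.iso _ _ e hX) (h.zero _ (isZero_zero C))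
  rw [this, h.c_zero _ (isZero_zero C), add_zero]

omit h in
lemma shortExact_kernel (S : ShortComplex C) (hS : S.Exact) :
    (ShortComplex.mk (kernel.ι S.f) (kernel.lift S.g S.f S.zero)
      (by ext; simp)).ShortExact := by
  have : Epi (kernel.lift S.g S.f S.zero) := S.exact_iff_epi_kernel_lift.1 hS
  refine ShortComplex.ShortExact.mk' (ShortComplex.exact_of_f_is_kernel _ ?_) inferInstance this
  exact isKernelOfComp (kernel.ι S.g) S.f (kernelIsKernel S.f) _ (kernel.lift_ι _ _ _)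

lemma ClassFn.c_exact (S : ShortComplex C) (hS : S.Exact) (h₁ : P S.X₁) (h₂ : P S.X₂)
    (h₃ : P S.X₃) : c S.X₁ = c (kernel S.f) + c (kernel S.g) :=
  h.ses _ (shortExact_kernel S hS) (h.ker _ h₁ h₂) h₁ (h.ker _ h₂ h₃)

end Ab

section Euler

variable {C : Type u} [Category.{v} C] [Abelian C] {G : Type*} [AddCommGroup G]
  {P : C → Prop} {c : C → G} (h : ClassFn P c)

/-- the sign `(-1)^i` as an integer -/
def eps (i : ℤ) : ℤ := ((i.negOnePow : ℤˣ) : ℤ)

lemma eps_succ (i : ℤ) : eps (i + 1) = - eps i := by simp [eps, Int.negOnePow_succ]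

lemma eps_zero : eps 0 = 1 := by simp [eps]

/-- the alternating sum of the classes of a family of objects -/
noncomputable def chiSeq (c : C → G) (X : ℤ → C) : G := ∑ᶠ i : ℤ, eps i • c (X i)

include h

lemma euler (X Y Z : ℤ → C) (u : ∀ i, X i ⟶ Y i) (v : ∀ i, Y i ⟶ Z i)
    (δ : ∀ i, Z i ⟶ X (i + 1))
    (w₁ : ∀ i, u i ≫ v i = 0) (w₂ : ∀ i, v i ≫ δ i = 0) (w₃ : ∀ i, δ i ≫ u (i + 1) = 0)
    (e₁ : ∀ i, (ShortComplex.mk _ _ (w₁ i)).Exact) (e₂ : ∀ i, (ShortComplex.mk _ _ (w₂ i)).Exact)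
    (e₃ : ∀ i, (ShortComplex.mk _ _ (w₃ i)).Exact)
    (hX : ∀ i, P (X i)) (hY : ∀ i, P (Y i)) (hZ : ∀ i, P (Z i))
    (fX : {i | ¬ IsZero (X i)}.Finite) (fY : {i | ¬ IsZero (Y i)}.Finite)
    (fZ : {i | ¬ IsZero (Z i)}.Finite) :
    chiSeq c Y = chiSeq c X + chiSeq c Z := by
  have kzero : ∀ {A B : C} (f : A ⟶ B), IsZero A → c (kernel f) = 0 := fun f hA =>
    h.c_zero _ (IsZero.of_mono (kernel.ι f) hA)
  have hcX : ∀ i, c (X i) = c (kernel (u i)) + c (kernel (v i)) := fun i =>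
    h.c_exact _ (e₁ i) (hX i) (hY i) (hZ i)
  have hcY : ∀ i, c (Y i) = c (kernel (v i)) + c (kernel (δ i)) := fun i =>
    h.c_exact _ (e₂ i) (hY i) (hZ i) (hX (i + 1))
  have hcZ : ∀ i, c (Z i) = c (kernel (δ i)) + c (kernel (u (i + 1))) := fun i =>
    h.c_exact _ (e₃ i) (hZ i) (hX (i + 1)) (hY (i + 1))
  have sX : (Function.support fun i => eps i • c (kernel (u i))).Finite := fX.subset (by
    intro i hi hz
    exact hi (by simp [kzero (u i) hz]))
  have sY : (Function.support fun i => eps i • c (kernel (v i))).Finite := fY.subset (by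
    intro i hi hz
    exact hi (by simp [kzero (v i) hz]))
  have sZ : (Function.support fun i => eps i • c (kernel (δ i))).Finite := fZ.subset (by
    intro i hi hz
    exact hi (by simp [kzero (δ i) hz]))
  have sX' : (Function.support fun i => eps i • c (kernel (u (i + 1)))).Finite := by
    refine (fX.preimage (Set.injOn_of_injective (add_left_injective (1 : ℤ)))).subset ?_
    intro i hi hz
    exact hi (by simp [kzero (u (i + 1)) hz])
  have hshift : ∑ᶠ i, eps i • c (kernel (u (i + 1))) = - ∑ᶠ i, eps i • c (kernel (u i)) := by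
    rw [← finsum_comp_equiv (Equiv.addRight (1 : ℤ)) (f := fun i => eps i • c (kernel (u i))),
      ← finsum_neg_distrib]
    apply finsum_congr
    intro i
    simp [eps_succ]
  unfold chiSeq
  simp_rw [hcX, hcY, hcZ, smul_add]
  rw [finsum_add_distrib sY sZ, finsum_add_distrib sX sY, finsum_add_distrib sZ sX', hshift]
  abel

end Euler

section Der

variable {C : Type u} [Category.{v} C] [Abelian C] [HasDerivedCategory.{w} C]
  {G : Type*} [AddCommGroup G] {P : C → Prop} {c : C → G}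

open DerivedCategory

/-- the cohomology objects -/
noncomputable abbrev Hm (i : ℤ) (K : DerivedCategory C) : C := (homologyFunctor C i).obj K

/-- bounded objects with cohomology in `P` -/
def DPr (P : C → Prop) (K : DerivedCategory C) : Prop :=
  (∀ i, P (Hm i K)) ∧ ∃ a b : ℤ, (∀ i, i < a → IsZero (Hm i K)) ∧ (∀ i, b < i → IsZero (Hm i K))

lemma dpr_iff (P : C → Prop) (K : DerivedCategory C) :
    DPr P K ↔ (∀ i : ℤ, P ((homologyFunctor C i).obj K)) ∧ ∃ a b : ℤ,
      (DerivedCategory.TStructure.t (C := C)).IsGE K a ∧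
        (DerivedCategory.TStructure.t (C := C)).IsLE K b := by
  unfold DPr
  refine and_congr Iff.rfl ?_
  constructor
  · rintro ⟨a, b, ha, hb⟩
    exact ⟨a, b, (isGE_iff K a).2 ha, (isLE_iff K b).2 hb⟩
  · rintro ⟨a, b, ha, hb⟩
    exact ⟨a, b, (isGE_iff K a).1 ha, (isLE_iff K b).1 hb⟩

lemma DPr.finite {K : DerivedCategory C} (hK : DPr P K) : {i | ¬ IsZero (Hm i K)}.Finite := by
  obtain ⟨-, a, b, ha, hb⟩ := hK
  refine (Set.finite_Icc a b).subset ?_
  intro i hi
  change ¬ IsZero (Hm i K) at hi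
  constructor
  · by_contra hia
    exact hi (ha i (not_le.1 hia))
  · by_contra hib
    exact hi (hb i (not_le.1 hib))

/-- the Euler characteristic -/
noncomputable def chi (c : C → G) (K : DerivedCategory C) : G := chiSeq c (fun i => Hm i K)

lemma chi_tri (h : ClassFn P c) (T : Triangle (DerivedCategory C))
    (hT : T ∈ distTriang (DerivedCategory C))
    (h₁ : DPr P T.obj₁) (h₂ : DPr P T.obj₂) (h₃ : DPr P T.obj₃) :
    chi c T.obj₂ = chi c T.obj₁ + chi c T.obj₃ :=
  euler h (fun i => Hm i T.obj₁) (fun i => Hm i T.obj₂) (fun i => Hm i T.obj₃)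
    (fun i => (homologyFunctor C i).map T.mor₁) (fun i => (homologyFunctor C i).map T.mor₂)
    (fun i => HomologySequence.δ T i (i + 1) rfl) _ _ _
    (fun i => HomologySequence.exact₂ T hT i) (fun i => HomologySequence.exact₃ T hT i (i + 1) rfl)
    (fun i => HomologySequence.exact₁ T hT i (i + 1) rfl) h₁.1 h₂.1 h₃.1
    h₁.finite h₂.finite h₃.finite

lemma DPr.of_iso (h : ClassFn P c) {K L : DerivedCategory C} (e : K ≅ L) (hK : DPr P K) :
    DPr P L := by
  obtain ⟨hP, a, b, ha, hb⟩ := hK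
  refine ⟨fun i => h.iso _ _ ((homologyFunctor C i).mapIso e) (hP i), a, b, fun i hi => ?_,
    fun i hi => ?_⟩
  · exact (ha i hi).of_iso ((homologyFunctor C i).mapIso e.symm)
  · exact (hb i hi).of_iso ((homologyFunctor C i).mapIso e.symm)

lemma DPr.of_isZero (h : ClassFn P c) {K : DerivedCategory C} (hK : IsZero K) : DPr P K := by
  have hz : ∀ i, IsZero (Hm i K) := fun i => (homologyFunctor C i).map_isZero hK
  exact ⟨fun i => h.zero _ (hz i), 0, 0, fun i _ => hz i, fun i _ => hz i⟩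

lemma isZero_single (X : C) (n i : ℤ) (hi : i ≠ n) : IsZero (Hm i ((singleFunctor C n).obj X)) := by
  rcases lt_or_gt_of_ne hi with hlt | hgt
  · exact isZero_of_isGE _ n i hlt
  · exact isZero_of_isLE _ n i hgt

lemma DPr.single (h : ClassFn P c) (X : C) (hX : P X) (n : ℤ) :
    DPr P ((singleFunctor C n).obj X) := by
  refine ⟨fun i => ?_, n, n, fun i hi => isZero_single X n i hi.ne, fun i hi => isZero_single X n i hi.ne'⟩
  by_cases hi : i = n
  · subst hi
    exact h.iso _ _ ((singleFunctorCompHomologyFunctorIso C i).app X).symm hX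
  · exact h.zero _ (isZero_single X n i hi)

lemma chi_single (h : ClassFn P c) (X : C) (hX : P X) :
    chi c ((singleFunctor C 0).obj X) = c X := by
  unfold chi chiSeq
  rw [finsum_eq_single _ (0 : ℤ)]
  · rw [eps_zero, one_smul]
    exact h.c_iso ((singleFunctorCompHomologyFunctorIso C 0).app X).symm hX
  · intro i hi
    rw [h.c_zero _ (isZero_single X 0 i hi), smul_zero]

section Ktr

open KZero

lemma clTr_of {K : DerivedCategory C} (hK : DPr P K) :
    clTr (DPr P) K = QuotientAddGroup.mk (FreeAbelianGroup.of ⟨K, hK⟩) := dif_pos hK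

lemma clTr_tri (T : Triangle (DerivedCategory C)) (hT : T ∈ distTriang (DerivedCategory C))
    (h₁ : DPr P T.obj₁) (h₂ : DPr P T.obj₂) (h₃ : DPr P T.obj₃) :
    clTr (DPr P) T.obj₂ = clTr (DPr P) T.obj₁ + clTr (DPr P) T.obj₃ := by
  have h : (QuotientAddGroup.mk (FreeAbelianGroup.of ⟨T.obj₂, h₂⟩ -
      FreeAbelianGroup.of ⟨T.obj₁, h₁⟩ - FreeAbelianGroup.of ⟨T.obj₃, h₃⟩) :
      K0tr (DPr P)) = 0 := by
    rw [QuotientAddGroup.eq_zero_iff]
    exact AddSubgroup.subset_closure ⟨T, h₁, h₂, h₃, hT, rfl⟩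
  rw [QuotientAddGroup.mk_sub, QuotientAddGroup.mk_sub, sub_sub, sub_eq_zero] at h
  rw [clTr_of h₁, clTr_of h₂, clTr_of h₃]
  exact h

lemma clTr_zero (h : ClassFn P c) {K : DerivedCategory C} (hK : IsZero K) :
    clTr (DPr P) K = 0 := by
  have hT : Triangle.mk (𝟙 K) (0 : K ⟶ K) 0 ∈ distTriang (DerivedCategory C) := by
    refine isomorphic_distinguished _ (contractible_distinguished K) _ ?_
    exact Triangle.isoMk _ _ (Iso.refl _) (Iso.refl _) (hK.iso (isZero_zero _))
      (by change 𝟙 K ≫ 𝟙 K = 𝟙 K ≫ 𝟙 K; rfl) (hK.eq_of_src _ _) (hK.eq_of_src _ _)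
  have hd := DPr.of_isZero h hK
  have h1 : clTr (DPr P) K = clTr (DPr P) K + clTr (DPr P) K := clTr_tri _ hT hd hd hd
  exact left_eq_add.1 h1

lemma clTr_iso (h : ClassFn P c) {K L : DerivedCategory C} (e : K ≅ L) (hK : DPr P K) :
    clTr (DPr P) L = clTr (DPr P) K := by
  have hT : Triangle.mk e.hom (0 : L ⟶ (0 : DerivedCategory C)) 0 ∈
      distTriang (DerivedCategory C) := by
    refine isomorphic_distinguished _ (contractible_distinguished K) _ ?_
    exact Triangle.isoMk _ _ (Iso.refl _) e.symm (Iso.refl _)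
      (by change e.hom ≫ e.inv = 𝟙 K ≫ 𝟙 K; simp) ((isZero_zero _).eq_of_tgt _ _)
      ((isZero_zero _).eq_of_src _ _)
  have h1 : clTr (DPr P) L = clTr (DPr P) K + clTr (DPr P) (0 : DerivedCategory C) :=
    clTr_tri _ hT hK (hK.of_iso h e) (DPr.of_isZero h (isZero_zero _))
  rw [h1, clTr_zero h (isZero_zero _), add_zero]

lemma clTr_shift_one (h : ClassFn P c) {K : DerivedCategory C} (hK : DPr P K)
    (hK' : DPr P (K⟦(1 : ℤ)⟧)) : clTr (DPr P) (K⟦(1 : ℤ)⟧) = - clTr (DPr P) K := by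
  have h1 := clTr_tri _ (rot_of_distTriang _ (contractible_distinguished K)) hK
    (DPr.of_isZero h (isZero_zero _)) hK'
  change clTr (DPr P) (0 : DerivedCategory C) = clTr (DPr P) K + clTr (DPr P) (K⟦(1 : ℤ)⟧) at h1
  rw [clTr_zero h (isZero_zero _)] at h1
  exact (neg_eq_of_add_eq_zero_right h1.symm).symm

lemma clTr_single_succ (h : ClassFn P c) (Y : C) (hY : P Y) (b : ℤ) :
    clTr (DPr P) ((singleFunctor C b).obj Y) = - clTr (DPr P) ((singleFunctor C (b + 1)).obj Y) := by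
  have e : ((singleFunctor C (b + 1)).obj Y)⟦(1 : ℤ)⟧ ≅ (singleFunctor C b).obj Y :=
    ((singleFunctors C).shiftIso 1 b (b + 1) (by ring)).app Y
  have h1 := DPr.single h Y hY b
  have h2 := DPr.single h Y hY (b + 1)
  have h3 : DPr P (((singleFunctor C (b + 1)).obj Y)⟦(1 : ℤ)⟧) := h1.of_iso h e.symm
  rw [← clTr_shift_one h h2 h3]
  exact clTr_iso h e h3

lemma clTr_single (h : ClassFn P c) (Y : C) (hY : P Y) (b : ℤ) :
    clTr (DPr P) ((singleFunctor C b).obj Y) = eps b • clTr (DPr P) ((singleFunctor C 0).obj Y) := by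
  induction b using Int.induction_on with
  | zero => rw [eps_zero, one_smul]
  | succ k ih =>
    have := clTr_single_succ h Y hY (k : ℤ)
    rw [ih] at this
    rw [eps_succ, neg_smul, this, neg_neg]
  | pred k ih =>
    have := clTr_single_succ h Y hY (-(k : ℤ) - 1)
    rw [sub_add_cancel, ih] at this
    rw [this]
    have h2 : eps (-(k : ℤ)) = - eps (-(k : ℤ) - 1) := by
      rw [← eps_succ, sub_add_cancel]
    rw [h2, neg_smul, neg_neg]

omit [HasDerivedCategory C] in
lemma isIso_of_exact {X₁ X₂ X₃ X₄ : C} (f : X₁ ⟶ X₂) (g : X₂ ⟶ X₃) (k : X₃ ⟶ X₄)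
    (w : f ≫ g = 0) (w' : g ≫ k = 0)
    (e : (ShortComplex.mk f g w).Exact) (e' : (ShortComplex.mk g k w').Exact)
    (h₁ : IsZero X₁) (h₄ : IsZero X₄) : IsIso g := by
  have : Mono g := e.mono_g_iff.2 (h₁.eq_of_src _ _)
  have : Epi g := e'.epi_f_iff.2 (h₄.eq_of_tgt _ _)
  exact isIso_of_mono_of_epi g

lemma isZero_of_bounds {K : DerivedCategory C} (a b : ℤ) (hab : b < a)
    (ha : ∀ i, i < a → IsZero (Hm i K)) (hb : ∀ i, b < i → IsZero (Hm i K)) : IsZero K := by
  have i1 : (TStructure.t (C := C)).IsLE K b := (isLE_iff K b).2 hb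
  have i2 : (TStructure.t (C := C)).IsGE K a := (isGE_iff K a).2 ha
  exact (TStructure.t (C := C)).isZero K b a hab

lemma trunc_step (h : ClassFn P c) {K : DerivedCategory C} (hK : DPr P K) (a b : ℤ)
    (hab : a ≤ b) (ha : ∀ i, i < a → IsZero (Hm i K)) (hb : ∀ i, b < i → IsZero (Hm i K)) :
    ∃ (A : DerivedCategory C) (Y : C), DPr P A ∧ (∀ i, i < a → IsZero (Hm i A)) ∧
      (∀ i, b - 1 < i → IsZero (Hm i A)) ∧ P Y ∧
      clTr (DPr P) K = clTr (DPr P) A + clTr (DPr P) ((singleFunctor C b).obj Y) := by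
  obtain ⟨A, B, hA, hB, f, g, δ, hT⟩ :=
    (TStructure.t (C := C)).exists_triangle K (b - 1) b (by ring)
  have iA : (TStructure.t (C := C)).IsLE A (b - 1) := ⟨hA⟩
  have iB : (TStructure.t (C := C)).IsGE B b := ⟨hB⟩
  have hA0 : ∀ i, b - 1 < i → IsZero (Hm i A) := fun i hi => isZero_of_isLE A (b - 1) i hi
  have hB0 : ∀ i, i < b → IsZero (Hm i B) := fun i hi => isZero_of_isGE B b i hi
  have isoA : ∀ i, i < b → IsIso ((homologyFunctor C i).map f) := fun i hi =>
    isIso_of_exact _ _ _ _ _ (HomologySequence.exact₁ _ hT (i - 1) i (by ring))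
      (HomologySequence.exact₂ _ hT i) (hB0 (i - 1) (by lia)) (hB0 i hi)
  have isoB : ∀ i, b ≤ i → IsIso ((homologyFunctor C i).map g) := fun i hi =>
    isIso_of_exact _ _ _ _ _ (HomologySequence.exact₂ _ hT i)
      (HomologySequence.exact₃ _ hT i (i + 1) rfl) (hA0 i (by lia)) (hA0 (i + 1) (by lia))
  have eA : ∀ i, i < b → (Hm i A ≅ Hm i K) := fun i hi => @asIso _ _ _ _ _ (isoA i hi)
  have eB : ∀ i, b ≤ i → (Hm i K ≅ Hm i B) := fun i hi => @asIso _ _ _ _ _ (isoB i hi)
  have hAa : ∀ i, i < a → IsZero (Hm i A) := fun i hi => (ha i hi).of_iso (eA i (by lia))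
  have hDA : DPr P A := by
    refine ⟨fun i => ?_, a, b - 1, hAa, hA0⟩
    by_cases hi : i < b
    · exact h.iso _ _ (eA i hi).symm (hK.1 i)
    · exact h.zero _ (hA0 i (by lia))
  have hBb : ∀ i, b < i → IsZero (Hm i B) := fun i hi => (hb i hi).of_iso (eB i hi.le).symm
  have hDB : DPr P B := by
    refine ⟨fun i => ?_, b, b, hB0, hBb⟩
    by_cases hi : i < b
    · exact h.zero _ (hB0 i hi)
    · exact h.iso _ _ (eB i (by lia)) (hK.1 i)
  have iB' : (TStructure.t (C := C)).IsLE B b := (isLE_iff B b).2 hBb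
  obtain ⟨Y, ⟨e⟩⟩ := exists_iso_singleFunctor_obj_of_isGE_of_isLE B b
  have hY : P Y := h.iso _ _ ((eB b le_rfl) ≪≫ (homologyFunctor C b).mapIso e ≪≫
    (singleFunctorCompHomologyFunctorIso C b).app Y) (hK.1 b)
  refine ⟨A, Y, hDA, hAa, hA0, hY, ?_⟩
  rw [clTr_iso h e hDB]
  exact clTr_tri _ hT hDA hK hDB

open KZero in
lemma mem_range (h : ClassFn P c) (φ : G →+ K0tr (DPr P))
    (hφ : ∀ X, P X → φ (c X) = clTr (DPr P) ((singleFunctor C 0).obj X)) :
    ∀ (n : ℕ) (K : DerivedCategory C) (_ : DPr P K) (a b : ℤ),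
      (∀ i, i < a → IsZero (Hm i K)) → (∀ i, b < i → IsZero (Hm i K)) → b - a < n →
      clTr (DPr P) K ∈ φ.range := by
  intro n
  induction n with
  | zero =>
    intro K hK a b ha hb hab
    rw [clTr_zero h (isZero_of_bounds a b (by lia) ha hb)]
    exact zero_mem _
  | succ n ih =>
    intro K hK a b ha hb hab
    by_cases hlt : b < a
    · rw [clTr_zero h (isZero_of_bounds a b hlt ha hb)]
      exact zero_mem _
    · obtain ⟨A, Y, hDA, hAa, hAb, hY, heq⟩ := trunc_step h hK a b (not_lt.1 hlt) ha hb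
      rw [heq]
      refine add_mem (ih A hDA a (b - 1) hAa hAb (by push_cast at hab; lia)) ?_
      rw [clTr_single h Y hY b, ← hφ Y hY, ← map_zsmul]
      exact ⟨_, rfl⟩

open KZero in
theorem main (h : ClassFn P c)
    (hlift : ∀ f : C → K0tr (DPr P), (∀ S : ShortComplex C, S.ShortExact → P S.X₁ → P S.X₂ →
      P S.X₃ → f S.X₂ = f S.X₁ + f S.X₃) → ∃ φ : G →+ K0tr (DPr P), ∀ X, P X → φ (c X) = f X)
    (hgen : AddSubgroup.closure {g | ∃ X, P X ∧ g = c X} = ⊤) :
    ∃ φ : G ≃+ K0tr (DPr P), ∀ X, P X →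
      φ (c X) = clTr (DPr P) ((singleFunctor C 0).obj X) := by
  obtain ⟨φ, hφ⟩ := hlift (fun X => clTr (DPr P) ((singleFunctor C 0).obj X)) (by
    intro S hS h₁ h₂ h₃
    exact clTr_tri _ hS.singleTriangle_distinguished (DPr.single h _ h₁ 0)
      (DPr.single h _ h₂ 0) (DPr.single h _ h₃ 0))
  let ψ₀ : FreeAbelianGroup (Subtype (DPr P)) →+ G := FreeAbelianGroup.lift (fun K => chi c K.1)
  have hψ₀ : relTr (DPr P) ≤ ψ₀.ker := by
    unfold relTr
    rw [AddSubgroup.closure_le]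
    rintro _ ⟨T, h₁, h₂, h₃, hT, rfl⟩
    rw [SetLike.mem_coe, AddMonoidHom.mem_ker, map_sub, map_sub]
    simp only [ψ₀, FreeAbelianGroup.lift_apply_of]
    rw [chi_tri h T hT h₁ h₂ h₃]
    abel
  let ψ : K0tr (DPr P) →+ G := QuotientAddGroup.lift _ ψ₀ hψ₀
  have hψ : ∀ K (hK : DPr P K), ψ (clTr (DPr P) K) = chi c K := by
    intro K hK
    rw [clTr_of hK]
    simp [ψ, ψ₀]
  have hψφ : ψ.comp φ = AddMonoidHom.id G := AddMonoidHom.eq_of_eqOn_dense hgen (by
    rintro _ ⟨X, hX, rfl⟩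
    simp only [AddMonoidHom.comp_apply, AddMonoidHom.id_apply]
    rw [hφ X hX, hψ _ (DPr.single h X hX 0), chi_single h X hX])
  have hinj : Function.Injective φ := by
    intro x y hxy
    have hx : ψ (φ x) = x := DFunLike.congr_fun hψφ x
    have hy : ψ (φ y) = y := DFunLike.congr_fun hψφ y
    rw [← hx, ← hy, hxy]
  have hsurj : Function.Surjective φ := by
    intro x
    obtain ⟨x, rfl⟩ := QuotientAddGroup.mk_surjective x
    refine FreeAbelianGroup.induction_on x ⟨0, by simp⟩ ?_ ?_ ?_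
    · intro K
      obtain ⟨a, b, ha, hb⟩ := K.2.2
      have := mem_range h φ hφ (b - a + 1).toNat K.1 K.2 a b ha hb (by lia)
      rw [clTr_of K.2] at this
      exact this
    · rintro K ⟨y, hy⟩
      exact ⟨-y, by rw [map_neg, hy]; rfl⟩
    · rintro x y ⟨x', hx'⟩ ⟨y', hy'⟩
      exact ⟨x' + y', by rw [map_add, hx', hy']; rfl⟩
  exact ⟨AddEquiv.ofBijective φ ⟨hinj, hsurj⟩, fun X hX => hφ X hX⟩

end Ktr

end Der

section Inst

variable {C : Type u} [Category.{v} C] [Abelian C] [HasDerivedCategory.{w} C]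

open KZero DerivedCategory

lemma clSub_of (P : ObjectProperty C) {X : C} (hX : P X) :
    clSub P X = QuotientAddGroup.mk (FreeAbelianGroup.of ⟨X, hX⟩) := dif_pos hX

lemma classFn_sub (P : ObjectProperty C) [P.IsClosedUnderIsomorphisms] [P.ContainsZero]
    [P.IsClosedUnderKernels] : ClassFn (fun X => P X) (clSub P) where
  iso X Y e hX := P.prop_of_iso e hX
  zero X hX := P.prop_of_isZero hX
  ker f hX hY := P.prop_kernel f hX hY
  ses S hS h₁ h₂ h₃ := by
    have h : (QuotientAddGroup.mk (FreeAbelianGroup.of ⟨S.X₂, h₂⟩ -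
        FreeAbelianGroup.of ⟨S.X₁, h₁⟩ - FreeAbelianGroup.of ⟨S.X₃, h₃⟩) : K0sub P) = 0 := by
      rw [QuotientAddGroup.eq_zero_iff]
      exact AddSubgroup.subset_closure ⟨S, h₁, h₂, h₃, hS, rfl⟩
    rw [QuotientAddGroup.mk_sub, QuotientAddGroup.mk_sub, sub_sub, sub_eq_zero] at h
    rw [clSub_of P h₁, clSub_of P h₂, clSub_of P h₃]
    exact h

theorem k0sub_main (P : ObjectProperty C) [P.IsClosedUnderIsomorphisms] [P.ContainsZero]
    [P.IsClosedUnderKernels] (DP : DerivedCategory C → Prop)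
    (hDP : ∀ K, DP K ↔ ((∀ i : ℤ, P ((homologyFunctor C i).obj K)) ∧ ∃ a b : ℤ,
      (DerivedCategory.TStructure.t (C := C)).IsGE K a ∧
        (DerivedCategory.TStructure.t (C := C)).IsLE K b)) :
    ∃ φ : K0sub P ≃+ K0tr DP, ∀ X : C, P X →
      φ (clSub P X) = clTr DP ((singleFunctor C 0).obj X) := by
  obtain rfl : DP = DPr (fun X => P X) :=
    funext fun K => propext ((hDP K).trans (dpr_iff (fun X => P X) K).symm)
  refine main (classFn_sub P) ?_ ?_
  · intro f hf
    let φ₀ : FreeAbelianGroup (Subtype P) →+ K0tr (DPr fun X => P X) :=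
      FreeAbelianGroup.lift (fun X => f X.1)
    have hφ₀ : relSub P ≤ φ₀.ker := by
      unfold relSub
      rw [AddSubgroup.closure_le]
      rintro _ ⟨S, h₁, h₂, h₃, hS, rfl⟩
      rw [SetLike.mem_coe, AddMonoidHom.mem_ker, map_sub, map_sub]
      simp only [φ₀, FreeAbelianGroup.lift_apply_of]
      rw [hf S hS h₁ h₂ h₃]
      abel
    refine ⟨QuotientAddGroup.lift _ φ₀ hφ₀, fun X hX => ?_⟩
    rw [clSub_of P hX]
    simp [φ₀]
  · rw [eq_top_iff]
    rintro x -
    obtain ⟨x, rfl⟩ := QuotientAddGroup.mk_surjective x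
    refine FreeAbelianGroup.induction_on x (zero_mem _) ?_ ?_ ?_
    · intro X
      exact AddSubgroup.subset_closure ⟨X.1, X.2, (clSub_of P X.2).symm⟩
    · intro X hX
      exact neg_mem hX
    · intro x y hx hy
      exact add_mem hx hy

lemma classFn_top : ClassFn (fun _ : C => True) (cl (A := C)) where
  iso _ _ _ _ := trivial
  zero _ _ := trivial
  ker _ _ _ := trivial
  ses S hS _ _ _ := by
    have h : (QuotientAddGroup.mk (FreeAbelianGroup.of S.X₂ -
        FreeAbelianGroup.of S.X₁ - FreeAbelianGroup.of S.X₃) : K0 C) = 0 := by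
      rw [QuotientAddGroup.eq_zero_iff]
      exact AddSubgroup.subset_closure ⟨S, hS, rfl⟩
    rw [QuotientAddGroup.mk_sub, QuotientAddGroup.mk_sub, sub_sub, sub_eq_zero] at h
    exact h

theorem k0_main (DP : DerivedCategory C → Prop)
    (hDP : ∀ K : DerivedCategory C, DP K ↔ ∃ a b : ℤ, K.IsGE a ∧ K.IsLE b) :
    ∃ φ : K0 C ≃+ K0tr DP, ∀ X : C,
      φ (cl X) = clTr DP ((singleFunctor C 0).obj X) := by
  obtain rfl : DP = DPr (fun _ : C => True) :=
    funext fun K => propext ((hDP K).trans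
      (Iff.trans (by simp) (dpr_iff (fun _ : C => True) K).symm))
  suffices hs : ∃ φ : K0 C ≃+ K0tr (DPr fun _ : C => True), ∀ X : C, True →
      φ (cl X) = clTr (DPr fun _ : C => True) ((singleFunctor C 0).obj X) by
    obtain ⟨φ, hφ⟩ := hs
    exact ⟨φ, fun X => hφ X trivial⟩
  refine main classFn_top ?_ ?_
  · intro f hf
    let φ₀ : FreeAbelianGroup C →+ K0tr (DPr fun _ : C => True) :=
      FreeAbelianGroup.lift (fun X => f X)
    have hφ₀ : relAb C ≤ φ₀.ker := by
      unfold relAb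
      rw [AddSubgroup.closure_le]
      rintro _ ⟨S, hS, rfl⟩
      rw [SetLike.mem_coe, AddMonoidHom.mem_ker, map_sub, map_sub]
      simp only [φ₀, FreeAbelianGroup.lift_apply_of]
      rw [hf S hS trivial trivial trivial]
      abel
    refine ⟨QuotientAddGroup.lift _ φ₀ hφ₀, fun X _ => ?_⟩
    simp [cl, φ₀]
  · rw [eq_top_iff]
    rintro x -
    obtain ⟨x, rfl⟩ := QuotientAddGroup.mk_surjective x
    refine FreeAbelianGroup.induction_on x (zero_mem _) ?_ ?_ ?_
    · intro X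
      exact AddSubgroup.subset_closure ⟨X, trivial, rfl⟩
    · intro X hX
      exact neg_mem hX
    · intro x y hx hy
      exact add_mem hx hy

end Inst

end Groth.Agent.Helper3.K0Db
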