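import Mathlib
import Groth.Prelude.Def_PCoh
import Groth.Agent.Lib.Helper3.PCohE
import Groth.Agent.Lib.Helper5.DRing.AmpTrunc

/-!
# Perfect amplitude in the liftable case
-/

open CategoryTheory Limits HomologicalComplex CochainComplex HomComplex ZeroObject

universe w v u

namespace Groth.Agent.Helper3.PCohM

open Groth.Agent.Helper3.PCohA Groth.Agent.Helper3.PCohB Groth.Agent.Helper3.PCohE DerivedCategory
  Groth.Agent.Helper5.Summand

variable {C : Type u} [Category.{v} C] [Abelian C]

variable {P : ObjectProperty C} [P.IsClosedUnderIsomorphisms] [P.ContainsZero]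
  (hsum : ∀ X Y : C, P X → P Y → P (X ⨯ Y))
  (hlift : ∀ (E F : C) (u : E ⟶ F), Epi u → P F → IsSplitEpi u)
  (hst : ∀ (E F : C) (u : E ⟶ F), Epi u → P E → P F → P (kernel u))

section

variable [HasDerivedCategory.{w} C]

include hst in
/-- S5610 -/
theorem amp_min (a b : ℤ) (hab : a ≤ b) (X : DerivedCategory C)
    (hcoh : ∀ i : ℤ, b < i → IsZero ((DerivedCategory.homologyFunctor C i).obj X)) :
    ∀ (k : ℕ) (c : ℤ), c ≤ b + k → a ≤ c → Amp P a c X → Amp P a (min b c) X := by
  intro k
  induction k with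
  | zero =>
    intro c hc _ h
    rw [min_eq_right (by simpa using hc)]
    exact h
  | succ k ih =>
    intro c hc hac h
    by_cases hc' : c ≤ b + k
    · exact ih c hc' hac h
    · have hcb : b < c := by lia
      have h1 := Amp.truncTop hst h (by lia) (hcoh c hcb)
      have h2 := ih (c - 1) (by push_cast at hc; lia) (by lia) h1
      rwa [min_eq_left (by lia), ← min_eq_left hcb.le] at h2

end

omit [P.IsClosedUnderIsomorphisms] [P.ContainsZero] in
lemma epi_toCycles_of_exactAt (K : CochainComplex C ℤ) (i : ℤ) (h : K.ExactAt (i + 1)) :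
    Epi (K.toCycles i (i + 1)) := by
  rw [epi_iff_surjective_up_to_refinements]
  intro A z
  rw [exactAt_iff_exact_up_to_refinements K i (i + 1) (i + 2) (by simp) (by simp; ring)] at h
  obtain ⟨A', π, hπ, x₁, hx₁⟩ := h (z ≫ K.iCycles (i + 1)) (by simp)
  refine ⟨A', π, hπ, x₁, ?_⟩
  rw [← cancel_mono (K.iCycles (i + 1)), Category.assoc, Category.assoc, toCycles_i, hx₁]

omit [P.IsClosedUnderIsomorphisms] [P.ContainsZero] in
lemma cycles_shortExact (K : CochainComplex C ℤ) (i : ℤ) (h : K.ExactAt (i + 1)) :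
    (ShortComplex.mk (K.iCycles i) (K.toCycles i (i + 1)) (by
      rw [← cancel_mono (K.iCycles (i + 1)), Category.assoc, toCycles_i, iCycles_d,
        zero_comp])).ShortExact := by
  have := epi_toCycles_of_exactAt K i h
  refine { exact := ?_, mono_f := inferInstanceAs (Mono (K.iCycles i)), epi_g := this }
  rw [ShortComplex.exact_iff_exact_up_to_refinements]
  intro A x hx
  dsimp at x hx ⊢
  have hx' : x ≫ K.d i (i + 1) = 0 := by
    rw [← toCycles_i, ← Category.assoc, hx, zero_comp]
  exact ⟨A, 𝟙 A, inferInstance, K.liftCycles x (i + 1) (by simp) hx', by simp⟩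

include hst in
/-- the cycles of an exact complex with terms in `C₀`, bounded above, lie in `C₀` -/
lemma prop_cycles (K : CochainComplex C ℤ) (a c : ℤ) (hP : ∀ i : ℤ, a ≤ i → P (K.X i))
    (hvan : ∀ i : ℤ, c < i → IsZero (K.X i)) (hex : ∀ i : ℤ, a < i → K.ExactAt i) :
    ∀ (j : ℕ) (i : ℤ), a ≤ i → c + 1 ≤ i + j → P (K.cycles i) := by
  intro j
  induction j with
  | zero =>
    intro i _ hi
    have hz : IsZero (K.cycles i) := by
      rw [IsZero.iff_id_eq_zero, ← cancel_mono (K.iCycles i)]
      exact (hvan i (by simp at hi; lia)).eq_of_tgt _ _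
    exact P.prop_of_isZero hz
  | succ j ih =>
    intro i hi1 hi
    have hS := cycles_shortExact K i (hex (i + 1) (by lia))
    have := hS.epi_g
    have h1 := hst _ _ (K.toCycles i (i + 1)) hS.epi_g (hP i hi1)
      (ih (i + 1) (by lia) (by push_cast at hi; lia))
    have e : K.cycles i ≅ kernel (K.toCycles i (i + 1)) :=
      hS.exact.fIsKernel.conePointUniqueUpToIso (limit.isLimit _)
    exact P.prop_of_iso e.symm h1

section

variable [HasDerivedCategory.{w} C]

include hsum hlift hst in
/-- S5621 -/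
theorem prop_bottom (a b : ℤ) (F : CochainComplex C ℤ)
    (hvan : ∀ i : ℤ, i < a ∨ b < i → IsZero (F.X i)) (hP : ∀ i : ℤ, a < i → P (F.X i))
    (hamp : Amp P a b (Q.obj F)) : P (F.X a) := by
  have hproj : ∀ X, P X → Projective X := by
    intro X hX
    constructor
    intro E X' f e he
    have h1 : Epi (pullback.snd e f) := Abelian.epi_pullback_of_epi_f e f
    have h2 := hlift _ _ (pullback.snd e f) h1 hX
    obtain ⟨s, hs⟩ := h2.exists_splitEpi
    refine ⟨s ≫ pullback.fst e f, ?_⟩
    rw [Category.assoc, pullback.condition, ← Category.assoc, hs, Category.id_comp]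
  obtain ⟨E, hEP, hEvan, ⟨e⟩⟩ := hamp
  have : E.IsKProjective := Groth.Agent.Helper5.ConeG.BddIn.kproj hproj E ⟨a, b, hEvan, hEP⟩
  obtain ⟨f, hf⟩ := Groth.Agent.Helper5.ConeG.exists_chain_map E F e.hom
  have hq : QuasiIso f := by
    rw [← isIso_Q_map_iff_quasiIso, hf]
    infer_instance
  let K := mappingCone f
  have hKex : ∀ i : ℤ, K.ExactAt i := fun i => by
    rw [exactAt_iff_isZero_homology]
    exact isZero_homology_cone_of_isNQI f (isNQI_of_quasiIso i f) i le_rfl
  have hKP : ∀ i : ℤ, a + 1 ≤ i → P (K.X i) := fun i hi =>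
    P.prop_of_iso (coneXIso f i).symm (prop_biprod hsum (hEP _) (hP i (by lia)))
  have hKvan : ∀ i : ℤ, b < i → IsZero (K.X i) := fun i hi => by
    rw [mappingCone.isZero_X_iff]
    exact ⟨hEvan _ (Or.inr (by lia)), hvan _ (Or.inr hi)⟩
  have hZ : P (K.cycles (a + 1)) :=
    prop_cycles hst K (a + 1) b hKP hKvan (fun i _ => hKex i) (b - a).toNat (a + 1) le_rfl (by lia)
  -- `Z^a ≅ K^{a-1}`
  have hKa1 : P (K.X (a - 1)) := by
    refine P.prop_of_iso (coneXIso f (a - 1)).symm (prop_biprod hsum (hEP _) ?_)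
    exact P.prop_of_isZero (hvan _ (Or.inl (by lia)))
  have hZa : P (K.cycles a) := by
    have h1 : Epi (K.toCycles (a - 1) a) := by
      have := epi_toCycles_of_exactAt K (a - 1) (by rw [sub_add_cancel]; exact hKex a)
      have e : a - 1 + 1 = a := by ring
      rw [e] at this
      exact this
    have h2 : Mono (K.d (a - 1) a) := by
      have h0 := hKex (a - 1)
      rw [exactAt_iff' K (a - 2) (a - 1) a (by simp; ring) (by simp)] at h0
      refine h0.mono_g (IsZero.eq_of_src ?_ _ _)
      change IsZero (K.X (a - 2))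
      rw [mappingCone.isZero_X_iff]
      exact ⟨hEvan _ (Or.inl (by lia)), hvan _ (Or.inl (by lia))⟩
    have h3 : Mono (K.toCycles (a - 1) a) := mono_of_mono_fac (K.toCycles_i (a - 1) a)
    have := isIso_of_mono_of_epi (K.toCycles (a - 1) a)
    exact P.prop_of_iso (asIso (K.toCycles (a - 1) a)) hKa1
  -- `K^a ≅ Z^a ⊞ Z^{a+1}`
  have hKa : P (K.X a) := by
    have hS := cycles_shortExact K a (hKex (a + 1))
    have : Projective (K.cycles (a + 1)) := hproj _ hZ
    exact P.prop_of_iso (hS.splittingOfProjective.isoBinaryBiproduct).symm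
      (prop_biprod hsum hZa hZ)
  have h5 : P (E.X (a + 1) ⊞ F.X a) := P.prop_of_iso (coneXIso f a) hKa
  have h6 := hst _ _ (biprod.fst : E.X (a + 1) ⊞ F.X a ⟶ E.X (a + 1)) inferInstance h5 (hEP _)
  exact P.prop_of_iso (kernelBiprodFstIso (X := E.X (a + 1)) (Y := F.X a)) h6

end

end Groth.Agent.Helper3.PCohM
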