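import Groth.Agent.Lib.Helper3.K0Db
import Groth.Agent.Lib.Helper3.PCohM

/-! Euler characteristic of bounded complexes with terms in a class of projective objects,
valued in `K₀` of the class. -/

set_option linter.unusedSectionVars false

namespace Groth.Agent.Helper3.K0PerfA

open CategoryTheory CategoryTheory.Limits KZero HomologicalComplex CochainComplex
open Groth.Agent.Helper3.K0Db (eps eps_succ eps_zero)

universe v u

variable {C : Type u} [Category.{v} C] [Abelian C]
variable {P : ObjectProperty C}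

lemma clSub_of {X : C} (hX : P X) :
    clSub P X = QuotientAddGroup.mk (FreeAbelianGroup.of ⟨X, hX⟩) := dif_pos hX

lemma cl_ses (S : ShortComplex C) (hS : S.ShortExact) (h₁ : P S.X₁) (h₂ : P S.X₂) (h₃ : P S.X₃) :
    clSub P S.X₂ = clSub P S.X₁ + clSub P S.X₃ := by
  have h : (QuotientAddGroup.mk (FreeAbelianGroup.of ⟨S.X₂, h₂⟩ -
      FreeAbelianGroup.of ⟨S.X₁, h₁⟩ - FreeAbelianGroup.of ⟨S.X₃, h₃⟩) : K0sub P) = 0 := by
    rw [QuotientAddGroup.eq_zero_iff]
    exact AddSubgroup.subset_closure ⟨S, h₁, h₂, h₃, hS, rfl⟩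
  rw [QuotientAddGroup.mk_sub, QuotientAddGroup.mk_sub, sub_sub, sub_eq_zero] at h
  rw [clSub_of h₁, clSub_of h₂, clSub_of h₃]
  exact h

variable [P.IsClosedUnderIsomorphisms] [P.ContainsZero]

lemma cl_zero {X : C} (hX : IsZero X) : clSub P X = 0 := by
  have hS : (ShortComplex.mk (0 : X ⟶ X) (0 : X ⟶ X) zero_comp).ShortExact :=
    { exact := ShortComplex.exact_of_isZero_X₂ _ hX
      mono_f := hX.mono _
      epi_g := hX.epi _ }
  have hp := P.prop_of_isZero hX
  have := cl_ses _ hS hp hp hp
  exact left_eq_add.1 this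

open ZeroObject in
lemma cl_iso {X Y : C} (e : X ≅ Y) (hX : P X) : clSub P Y = clSub P X := by
  have hS : (ShortComplex.mk e.hom (0 : Y ⟶ (0 : C)) comp_zero).ShortExact :=
    { exact := (ShortComplex.exact_iff_epi _ rfl).2 (by dsimp; infer_instance)
      mono_f := by dsimp; infer_instance
      epi_g := (isZero_zero C).epi _ }
  have := cl_ses _ hS hX (P.prop_of_iso e hX) (P.prop_of_isZero (isZero_zero C))
  rw [this, cl_zero (isZero_zero C), add_zero]

lemma cl_biprod {X Y : C} (hX : P X) (hY : P Y) (hXY : P (X ⊞ Y)) :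
    clSub P (X ⊞ Y) = clSub P X + clSub P Y :=
  cl_ses _ (ShortComplex.Splitting.ofHasBinaryBiproduct X Y).shortExact hX hXY hY

/-- The Euler characteristic of a complex, in `K₀(P)`. -/
noncomputable def chi (P : ObjectProperty C) (E : CochainComplex C ℤ) : K0sub P :=
  ∑ᶠ i : ℤ, eps i • clSub P (E.X i)

lemma support_subset (E : CochainComplex C ℤ) (a b : ℤ)
    (hv : ∀ i : ℤ, i < a ∨ b < i → IsZero (E.X i)) :
    (Function.support fun i : ℤ => eps i • clSub P (E.X i)) ⊆ ↑(Finset.Icc a b) := by
  intro i hi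
  by_contra hn
  apply hi
  have : i < a ∨ b < i := by
    simp only [Finset.coe_Icc, Set.mem_Icc, not_and_or, not_le] at hn
    exact hn
  change eps i • clSub P (E.X i) = 0
  rw [cl_zero (hv i this), smul_zero]

lemma chi_eq_sum (E : CochainComplex C ℤ) (a b : ℤ)
    (hv : ∀ i : ℤ, i < a ∨ b < i → IsZero (E.X i)) :
    chi P E = ∑ i ∈ Finset.Icc a b, eps i • clSub P (E.X i) :=
  finsum_eq_sum_of_support_subset _ (support_subset E a b hv)

/-- reindexing an alternating sum by one -/
lemma finsum_shift {G : Type*} [AddCommGroup G] (z : ℤ → G) :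
    ∑ᶠ i : ℤ, eps i • z (i + 1) = - ∑ᶠ i : ℤ, eps i • z i := by
  rw [← finsum_comp_equiv (Equiv.addRight (1 : ℤ)) (f := fun i => eps i • z i),
    ← finsum_neg_distrib]
  apply finsum_congr
  intro i
  simp [eps_succ]

section

variable (hst : ∀ (E F : C) (u : E ⟶ F), Epi u → P E → P F → P (kernel u))

include hst in
lemma chi_acyclic (E : CochainComplex C ℤ) (a b : ℤ)
    (hv : ∀ i : ℤ, i < a ∨ b < i → IsZero (E.X i)) (hP : ∀ i, P (E.X i))
    (hex : ∀ i, E.ExactAt i) : chi P E = 0 := by
  have hZ : ∀ i, P (E.cycles i) := fun i =>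
    PCohM.prop_cycles hst E i b (fun j _ => hP j) (fun j hj => hv j (Or.inr hj))
      (fun j _ => hex j) (b + 1 - i).toNat i le_rfl (by have := Int.self_le_toNat (b + 1 - i); lia)
  let z : ℤ → K0sub P := fun i => clSub P (E.cycles i)
  have key : ∀ i, clSub P (E.X i) = z i + z (i + 1) := fun i =>
    cl_ses _ (PCohM.cycles_shortExact E i (hex (i + 1))) (hZ i) (hP i) (hZ (i + 1))
  have hz0 : ∀ i, IsZero (E.X i) → z i = 0 := fun i hi =>
    cl_zero (IsZero.of_mono (E.iCycles i) hi)
  have s1 : (Function.support fun i : ℤ => eps i • z i).Finite := by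
    refine (Finset.Icc a b).finite_toSet.subset ?_
    intro i hi
    by_contra hn
    apply hi
    have : i < a ∨ b < i := by
      simp only [Finset.coe_Icc, Set.mem_Icc, not_and_or, not_le] at hn
      exact hn
    change eps i • z i = 0
    rw [hz0 i (hv i this), smul_zero]
  have s2 : (Function.support fun i : ℤ => eps i • z (i + 1)).Finite := by
    refine (Finset.Icc (a - 1) (b - 1)).finite_toSet.subset ?_
    intro i hi
    by_contra hn
    apply hi
    have : i + 1 < a ∨ b < i + 1 := by
      simp only [Finset.coe_Icc, Set.mem_Icc, not_and_or, not_le] at hn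
      lia
    change eps i • z (i + 1) = 0
    rw [hz0 (i + 1) (hv (i + 1) this), smul_zero]
  unfold chi
  simp_rw [key, smul_add]
  rw [finsum_add_distrib s1 s2, finsum_shift z, add_neg_cancel]

end

section

variable (hsum : ∀ X Y : C, P X → P Y → P (X ⊞ Y))

include hsum in
lemma chi_cone {E E' : CochainComplex C ℤ} (f : E ⟶ E') (a b : ℤ)
    (hv : ∀ i : ℤ, i < a ∨ b < i → IsZero (E.X i)) (hP : ∀ i, P (E.X i))
    (hv' : ∀ i : ℤ, i < a ∨ b < i → IsZero (E'.X i)) (hP' : ∀ i, P (E'.X i)) :
    chi P (mappingCone f) = chi P E' - chi P E := by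
  have key : ∀ i, clSub P ((mappingCone f).X i) = clSub P (E.X (i + 1)) + clSub P (E'.X i) := by
    intro i
    have hb := hsum _ _ (hP (i + 1)) (hP' i)
    rw [cl_iso (PCohE.coneXIso f i).symm hb, cl_biprod (hP (i + 1)) (hP' i) hb]
  have s1 : (Function.support fun i : ℤ => eps i • clSub P (E.X (i + 1))).Finite := by
    refine (Finset.Icc (a - 1) (b - 1)).finite_toSet.subset ?_
    intro i hi
    by_contra hn
    apply hi
    have : i + 1 < a ∨ b < i + 1 := by
      simp only [Finset.coe_Icc, Set.mem_Icc, not_and_or, not_le] at hn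
      lia
    change eps i • clSub P (E.X (i + 1)) = 0
    rw [cl_zero (hv (i + 1) this), smul_zero]
  have s2 : (Function.support fun i : ℤ => eps i • clSub P (E'.X i)).Finite :=
    (Finset.Icc a b).finite_toSet.subset (support_subset E' a b hv')
  unfold chi
  simp_rw [key, smul_add]
  rw [finsum_add_distrib s1 s2, finsum_shift (fun i => clSub P (E.X i))]
  abel

end

lemma chi_single (X : C) (hX : P X) :
    chi P ((HomologicalComplex.single C (ComplexShape.up ℤ) 0).obj X) = clSub P X := by
  unfold chi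
  rw [finsum_eq_single _ (0 : ℤ) (fun i hi => by
    rw [cl_zero (isZero_single_obj_X (ComplexShape.up ℤ) 0 X i hi), smul_zero])]
  rw [eps_zero, one_smul]
  exact cl_iso (HomologicalComplex.singleObjXSelf (ComplexShape.up ℤ) 0 X).symm hX

end Groth.Agent.Helper3.K0PerfA
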