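import Mathlib

/-! Lifting morphisms of the derived category to K-projective complexes. -/

namespace Groth.Agent.Helper3.KProjLift

open CategoryTheory CategoryTheory.Limits DerivedCategory

universe w v u

variable {C : Type u} [Category.{v} C] [Abelian C] [HasDerivedCategory.{w} C]

/-- A morphism `Q K ⟶ Q L` with `K` K-projective is induced by a chain map. -/
lemma exists_map (K L : CochainComplex C ℤ) [K.IsKProjective] (φ : Q.obj K ⟶ Q.obj L) :
    ∃ f : K ⟶ L, Q.map f = φ := by
  obtain ⟨ψ, hψ⟩ := (CochainComplex.IsKProjective.Qh_map_bijective K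
    ((HomotopyCategory.quotient _ _).obj L)).surjective
    ((quotientCompQhIso C).hom.app K ≫ φ ≫ (quotientCompQhIso C).inv.app L)
  obtain ⟨f, rfl⟩ := (HomotopyCategory.quotient _ _).map_surjective ψ
  refine ⟨f, ?_⟩
  have := quotientCompQhIso_hom_naturality f
  rw [hψ] at this
  simp only [Category.assoc, Iso.inv_hom_id_app, Category.comp_id] at this
  exact ((cancel_epi _).1 this).symm

/-- Two chain maps out of a K-projective complex which agree in the derived category are
homotopic. -/
lemma homotopy_of_eq (K L : CochainComplex C ℤ) [K.IsKProjective] (f g : K ⟶ L)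
    (h : Q.map f = Q.map g) : Nonempty (Homotopy f g) := by
  have h' : Qh.map ((HomotopyCategory.quotient _ _).map f) =
      Qh.map ((HomotopyCategory.quotient _ _).map g) := by
    rw [← cancel_mono ((quotientCompQhIso C).hom.app L), quotientCompQhIso_hom_naturality,
      quotientCompQhIso_hom_naturality, h]
  exact ⟨HomotopyCategory.homotopyOfEq _ _
    ((CochainComplex.IsKProjective.Qh_map_bijective K _).injective h')⟩

end Groth.Agent.Helper3.KProjLift
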