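import Groth.Agent.Lib.Helper3.K0PerfA
import Groth.Agent.Lib.Helper3.KProjLift
import Groth.Agent.Lib.Helper3.Brutal

/-! `K₀` of a class of projective objects is `K₀` of the perfect complexes built from it. -/

set_option linter.unusedSectionVars false

namespace Groth.Agent.Helper3.K0PerfB

open CategoryTheory CategoryTheory.Limits KZero HomologicalComplex CochainComplex DerivedCategory
  CategoryTheory.Pretriangulated
open Groth.Agent.Helper3.K0Db (eps eps_succ eps_zero)
open Groth.Agent.Helper3.K0PerfA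

universe w v u

variable {C : Type u} [Category.{v} C] [Abelian C] [HasDerivedCategory.{w} C]
variable {P : ObjectProperty C} [P.IsClosedUnderIsomorphisms] [P.ContainsZero]

/-- A strictly perfect representative of an object of the derived category. -/
structure Rep (P : ObjectProperty C) (K : DerivedCategory C) where
  E : CochainComplex C ℤ
  a : ℤ
  b : ℤ
  hv : ∀ i : ℤ, i < a ∨ b < i → IsZero (E.X i)
  hP : ∀ i : ℤ, P (E.X i)
  e : Q.obj E ≅ K

/-- perfect objects -/
def Perf (P : ObjectProperty C) : ObjectProperty (DerivedCategory C) := fun K =>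
  ∃ (E : CochainComplex C ℤ) (a b : ℤ), (∀ i : ℤ, i < a ∨ b < i → IsZero (E.X i)) ∧
    (∀ i : ℤ, P (E.X i)) ∧ Nonempty (Q.obj E ≅ K)

lemma perf_iff {K : DerivedCategory C} : Perf P K ↔ Nonempty (Rep P K) :=
  ⟨fun ⟨E, a, b, hv, hP, ⟨e⟩⟩ => ⟨⟨E, a, b, hv, hP, e⟩⟩, fun ⟨R⟩ => ⟨R.E, R.a, R.b, R.hv, R.hP, ⟨R.e⟩⟩⟩

lemma Rep.perf {K : DerivedCategory C} (R : Rep P K) : Perf P K := perf_iff.2 ⟨R⟩

/-- a chosen representative -/
noncomputable def rep {K : DerivedCategory C} (hK : Perf P K) : Rep P K := (perf_iff.1 hK).some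

/-- transport along an isomorphism -/
noncomputable def Rep.ofIso {K L : DerivedCategory C} (R : Rep P K) (e : K ≅ L) : Rep P L :=
  { R with e := R.e ≪≫ e }

lemma perf_of_iso {K L : DerivedCategory C} (e : K ≅ L) (hK : Perf P K) : Perf P L :=
  ((rep hK).ofIso e).perf

section

variable (hproj : ∀ X, P X → Projective X)

include hproj in
lemma Rep.isKProjective {K : DerivedCategory C} (R : Rep P K) : R.E.IsKProjective := by
  have : R.E.IsStrictlyLE R.b :=
    (CochainComplex.isStrictlyLE_iff _ _).2 (fun i hi => R.hv i (Or.inr hi))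
  have : ∀ n, Projective (R.E.X n) := fun n => hproj _ (R.hP n)
  exact CochainComplex.isKProjective_of_projective R.E R.b

variable (hsum : ∀ X Y : C, P X → P Y → P (X ⊞ Y))
  (hst : ∀ (E F : C) (u : E ⟶ F), Epi u → P E → P F → P (kernel u))

include hproj hsum hst in
/-- The Euler characteristic only depends on the isomorphism class in the derived category. -/
lemma chi_eq_of_iso {K L : DerivedCategory C} (R : Rep P K) (R' : Rep P L) (e : K ≅ L) :
    chi P R.E = chi P R'.E := by
  have := R.isKProjective hproj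
  obtain ⟨f, hf⟩ := KProjLift.exists_map R.E R'.E (R.e.hom ≫ e.hom ≫ R'.e.inv)
  have hiso : IsIso (Q.map f) := by rw [hf]; infer_instance
  have hq : QuasiIso f := (isIso_Q_map_iff_quasiIso (φ := f)).1 hiso
  have hv : ∀ i : ℤ, i < min R.a R'.a ∨ max R.b R'.b < i → IsZero (R.E.X i) := fun i hi =>
    R.hv i (by rcases hi with h | h
               · exact Or.inl (lt_of_lt_of_le h (min_le_left _ _))
               · exact Or.inr (lt_of_le_of_lt (le_max_left _ _) h))
  have hv' : ∀ i : ℤ, i < min R.a R'.a ∨ max R.b R'.b < i → IsZero (R'.E.X i) := fun i hi =>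
    R'.hv i (by rcases hi with h | h
                · exact Or.inl (lt_of_lt_of_le h (min_le_right _ _))
                · exact Or.inr (lt_of_le_of_lt (le_max_right _ _) h))
  have hcone := chi_cone hsum f _ _ hv R.hP hv' R'.hP
  have hac : chi P (mappingCone f) = 0 := by
    refine chi_acyclic hst (mappingCone f) (min R.a R'.a - 1) (max R.b R'.b) ?_ ?_ ?_
    · intro i hi
      rw [mappingCone.isZero_X_iff]
      exact ⟨hv _ (by lia), hv' _ (by lia)⟩
    · intro i
      exact P.prop_of_iso (PCohE.coneXIso f i).symm (hsum _ _ (R.hP _) (R'.hP _))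
    · intro i
      rw [exactAt_iff_isZero_homology]
      exact PCohA.isZero_homology_cone_of_isNQI f (PCohA.isNQI_of_quasiIso i f) i le_rfl
  rw [hac] at hcone
  exact (sub_eq_zero.1 hcone.symm).symm

end

section Closure

open ZeroObject

/-- the zero complex represents zero objects -/
noncomputable def Rep.zero {K : DerivedCategory C} (hK : IsZero K) : Rep P K where
  E := 0
  a := 0
  b := 0
  hv i _ := (HomologicalComplex.eval C (ComplexShape.up ℤ) i).map_isZero (isZero_zero _)
  hP i := P.prop_of_isZero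
    ((HomologicalComplex.eval C (ComplexShape.up ℤ) i).map_isZero (isZero_zero _))
  e := (Q.map_isZero (isZero_zero _)).iso hK

lemma perf_zero {K : DerivedCategory C} (hK : IsZero K) : Perf P K := (Rep.zero hK).perf

/-- shift of a representative -/
noncomputable def Rep.shift {K : DerivedCategory C} (R : Rep P K) (n : ℤ) : Rep P (K⟦n⟧) where
  E := R.E⟦n⟧
  a := R.a - n
  b := R.b - n
  hv i hi := R.hv (i + n) (by lia)
  hP i := R.hP (i + n)
  e := (Q.commShiftIso n).app R.E ≪≫ (CategoryTheory.shiftFunctor (DerivedCategory C) n).mapIso R.e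

lemma perf_shift {K : DerivedCategory C} (hK : Perf P K) (n : ℤ) : Perf P (K⟦n⟧) :=
  ((rep hK).shift n).perf

/-- the single complex -/
noncomputable def Rep.single (X : C) (hX : P X) (n : ℤ) :
    Rep P ((DerivedCategory.singleFunctor C n).obj X) where
  E := (HomologicalComplex.single C (ComplexShape.up ℤ) n).obj X
  a := n
  b := n
  hv i hi := isZero_single_obj_X (ComplexShape.up ℤ) n X i (by lia)
  hP i := by
    by_cases h : i = n
    · subst h
      exact P.prop_of_iso (HomologicalComplex.singleObjXSelf (ComplexShape.up ℤ) i X).symm hX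
    · exact P.prop_of_isZero (isZero_single_obj_X (ComplexShape.up ℤ) n X i h)
  e := ((singleFunctorIsoCompQ C n).app X).symm

lemma perf_single (X : C) (hX : P X) (n : ℤ) :
    Perf P ((DerivedCategory.singleFunctor C n).obj X) := (Rep.single X hX n).perf

variable (hproj : ∀ X, P X → Projective X) (hsum : ∀ X Y : C, P X → P Y → P (X ⊞ Y))

/-- the cone of a map of representatives -/
noncomputable def Rep.cone {K L M : DerivedCategory C} (R : Rep P K) (R' : Rep P L)
    (hsum : ∀ X Y : C, P X → P Y → P (X ⊞ Y))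
    (f : R.E ⟶ R'.E) (e : Q.obj (mappingCone f) ≅ M) : Rep P M where
  E := mappingCone f
  a := min R.a R'.a - 1
  b := max R.b R'.b
  hv i hi := by
    rw [mappingCone.isZero_X_iff]
    refine ⟨R.hv _ ?_, R'.hv _ ?_⟩
    · have := min_le_left R.a R'.a
      have := le_max_left R.b R'.b
      lia
    · have := min_le_right R.a R'.a
      have := le_max_right R.b R'.b
      lia
  hP i := P.prop_of_iso (PCohE.coneXIso f i).symm (hsum _ _ (R.hP _) (R'.hP _))
  e := e

include hproj in
/-- the third vertex of a distinguished triangle on representatives is a cone -/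
lemma exists_cone (T : Triangle (DerivedCategory C)) (hT : T ∈ distTriang (DerivedCategory C))
    (R₁ : Rep P T.obj₁) (R₂ : Rep P T.obj₂) :
    ∃ f : R₁.E ⟶ R₂.E, Nonempty (Q.obj (mappingCone f) ≅ T.obj₃) := by
  have := R₁.isKProjective hproj
  obtain ⟨f, hf⟩ := KProjLift.exists_map R₁.E R₂.E (R₁.e.hom ≫ T.mor₁ ≫ R₂.e.inv)
  refine ⟨f, ⟨?_⟩⟩
  have hT' := mappingCone_triangle_distinguished f
  let iso := isoTriangleOfIso₁₂ _ T hT' hT R₁.e R₂.e (by
    change Q.map f ≫ R₂.e.hom = R₁.e.hom ≫ T.mor₁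
    rw [hf]
    simp)
  exact Triangle.π₃.mapIso iso

include hproj hsum in
lemma perf_cone (T : Triangle (DerivedCategory C)) (hT : T ∈ distTriang (DerivedCategory C))
    (h₁ : Perf P T.obj₁) (h₂ : Perf P T.obj₂) : Perf P T.obj₃ := by
  obtain ⟨f, ⟨e⟩⟩ := exists_cone hproj T hT (rep h₁) (rep h₂)
  exact (Rep.cone (rep h₁) (rep h₂) hsum f e).perf

include hproj hsum in
lemma perf_ext (T : Triangle (DerivedCategory C)) (hT : T ∈ distTriang (DerivedCategory C))
    (h₁ : Perf P T.obj₁) (h₃ : Perf P T.obj₃) : Perf P T.obj₂ :=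
  perf_cone hproj hsum T.invRotate (inv_rot_of_distTriang _ hT) (perf_shift h₃ (-1)) h₁

end Closure

section Ktr

open ZeroObject

lemma clTr_of {K : DerivedCategory C} (hK : Perf P K) :
    clTr (Perf P) K = QuotientAddGroup.mk (FreeAbelianGroup.of ⟨K, hK⟩) := dif_pos hK

lemma clTr_tri (T : Triangle (DerivedCategory C)) (hT : T ∈ distTriang (DerivedCategory C))
    (h₁ : Perf P T.obj₁) (h₂ : Perf P T.obj₂) (h₃ : Perf P T.obj₃) :
    clTr (Perf P) T.obj₂ = clTr (Perf P) T.obj₁ + clTr (Perf P) T.obj₃ := by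
  have h : (QuotientAddGroup.mk (FreeAbelianGroup.of ⟨T.obj₂, h₂⟩ -
      FreeAbelianGroup.of ⟨T.obj₁, h₁⟩ - FreeAbelianGroup.of ⟨T.obj₃, h₃⟩) :
      K0tr (Perf P)) = 0 := by
    rw [QuotientAddGroup.eq_zero_iff]
    exact AddSubgroup.subset_closure ⟨T, h₁, h₂, h₃, hT, rfl⟩
  rw [QuotientAddGroup.mk_sub, QuotientAddGroup.mk_sub, sub_sub, sub_eq_zero] at h
  rw [clTr_of h₁, clTr_of h₂, clTr_of h₃]
  exact h

lemma clTr_zero {K : DerivedCategory C} (hK : IsZero K) : clTr (Perf P) K = 0 := by
  have hT : Triangle.mk (𝟙 K) (0 : K ⟶ K) 0 ∈ distTriang (DerivedCategory C) := by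
    refine isomorphic_distinguished _ (contractible_distinguished K) _ ?_
    exact Triangle.isoMk _ _ (Iso.refl _) (Iso.refl _) (hK.iso (isZero_zero _))
      (by change 𝟙 K ≫ 𝟙 K = 𝟙 K ≫ 𝟙 K; rfl) (hK.eq_of_src _ _) (hK.eq_of_src _ _)
  have hd : Perf P K := perf_zero hK
  have h1 : clTr (Perf P) K = clTr (Perf P) K + clTr (Perf P) K := clTr_tri _ hT hd hd hd
  exact left_eq_add.1 h1

lemma clTr_iso {K L : DerivedCategory C} (e : K ≅ L) (hK : Perf P K) :
    clTr (Perf P) L = clTr (Perf P) K := by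
  have hT : Triangle.mk e.hom (0 : L ⟶ (0 : DerivedCategory C)) 0 ∈
      distTriang (DerivedCategory C) := by
    refine isomorphic_distinguished _ (contractible_distinguished K) _ ?_
    exact Triangle.isoMk _ _ (Iso.refl _) e.symm (Iso.refl _)
      (by change e.hom ≫ e.inv = 𝟙 K ≫ 𝟙 K; simp) ((isZero_zero _).eq_of_tgt _ _)
      ((isZero_zero _).eq_of_src _ _)
  have h1 : clTr (Perf P) L = clTr (Perf P) K + clTr (Perf P) (0 : DerivedCategory C) :=
    clTr_tri _ hT hK (perf_of_iso e hK) (perf_zero (isZero_zero _))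
  rw [h1, clTr_zero (isZero_zero _), add_zero]

lemma clTr_shift_one {K : DerivedCategory C} (hK : Perf P K) :
    clTr (Perf P) (K⟦(1 : ℤ)⟧) = - clTr (Perf P) K := by
  have h1 := clTr_tri _ (rot_of_distTriang _ (contractible_distinguished K)) hK
    (perf_zero (isZero_zero _)) (perf_shift hK 1)
  change clTr (Perf P) (0 : DerivedCategory C) = clTr (Perf P) K + clTr (Perf P) (K⟦(1 : ℤ)⟧) at h1
  rw [clTr_zero (isZero_zero _)] at h1
  exact (neg_eq_of_add_eq_zero_right h1.symm).symm

lemma clTr_single_succ (Y : C) (hY : P Y) (b : ℤ) :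
    clTr (Perf P) ((DerivedCategory.singleFunctor C b).obj Y) =
      - clTr (Perf P) ((DerivedCategory.singleFunctor C (b + 1)).obj Y) := by
  have e : ((DerivedCategory.singleFunctor C (b + 1)).obj Y)⟦(1 : ℤ)⟧ ≅
      (DerivedCategory.singleFunctor C b).obj Y :=
    ((DerivedCategory.singleFunctors C).shiftIso 1 b (b + 1) (by ring)).app Y
  have h2 := perf_single Y hY (b + 1)
  rw [← clTr_shift_one h2]
  exact clTr_iso e (perf_shift h2 1)

lemma clTr_single (Y : C) (hY : P Y) (b : ℤ) :
    clTr (Perf P) ((DerivedCategory.singleFunctor C b).obj Y) =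
      eps b • clTr (Perf P) ((DerivedCategory.singleFunctor C 0).obj Y) := by
  induction b using Int.induction_on with
  | zero => rw [eps_zero, one_smul]
  | succ k ih =>
    have := clTr_single_succ Y hY (k : ℤ)
    rw [ih] at this
    rw [eps_succ, neg_smul, this, neg_neg]
  | pred k ih =>
    have := clTr_single_succ Y hY (-(k : ℤ) - 1)
    rw [sub_add_cancel, ih] at this
    rw [this]
    have h2 : eps (-(k : ℤ)) = - eps (-(k : ℤ) - 1) := by
      rw [← eps_succ, sub_add_cancel]
    rw [h2, neg_smul, neg_neg]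

end Ktr

section Main

variable (hproj : ∀ X, P X → Projective X) (hsum : ∀ X Y : C, P X → P Y → P (X ⊞ Y))
  (hst : ∀ (E F : C) (u : E ⟶ F), Epi u → P E → P F → P (kernel u))

/-- the Euler characteristic of a perfect object -/
noncomputable def psi0 (K : Subtype (Perf P)) : K0sub P := chi P (rep K.2).E

include hproj hsum hst in
lemma psi0_eq {K : DerivedCategory C} (hK : Perf P K) (R : Rep P K) :
    psi0 ⟨K, hK⟩ = chi P R.E :=
  chi_eq_of_iso hproj hsum hst (rep hK) R (Iso.refl _)

include hproj hsum hst in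
lemma psi0_tri (T : Triangle (DerivedCategory C)) (hT : T ∈ distTriang (DerivedCategory C))
    (h₁ : Perf P T.obj₁) (h₂ : Perf P T.obj₂) (h₃ : Perf P T.obj₃) :
    psi0 ⟨T.obj₂, h₂⟩ = psi0 ⟨T.obj₁, h₁⟩ + psi0 ⟨T.obj₃, h₃⟩ := by
  obtain ⟨f, ⟨e⟩⟩ := exists_cone hproj T hT (rep h₁) (rep h₂)
  rw [psi0_eq hproj hsum hst h₃ (Rep.cone (rep h₁) (rep h₂) hsum f e)]
  have hv : ∀ i : ℤ, i < min (rep h₁).a (rep h₂).a ∨ max (rep h₁).b (rep h₂).b < i →
      IsZero ((rep h₁).E.X i) := fun i hi =>
    (rep h₁).hv i (by rcases hi with h | h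
                      · exact Or.inl (lt_of_lt_of_le h (min_le_left _ _))
                      · exact Or.inr (lt_of_le_of_lt (le_max_left _ _) h))
  have hv' : ∀ i : ℤ, i < min (rep h₁).a (rep h₂).a ∨ max (rep h₁).b (rep h₂).b < i →
      IsZero ((rep h₂).E.X i) := fun i hi =>
    (rep h₂).hv i (by rcases hi with h | h
                      · exact Or.inl (lt_of_lt_of_le h (min_le_right _ _))
                      · exact Or.inr (lt_of_le_of_lt (le_max_right _ _) h))
  have hcone := chi_cone hsum f _ _ hv (rep h₁).hP hv' (rep h₂).hP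
  change chi P (rep h₂).E = chi P (rep h₁).E + chi P (mappingCone f)
  rw [hcone]
  abel

/-- the map `K₀(P) → K₀(Perf)` -/
noncomputable def phi : K0sub P →+ K0tr (Perf P) :=
  QuotientAddGroup.lift (relSub P)
    (FreeAbelianGroup.lift (fun X : Subtype P =>
      clTr (Perf P) ((DerivedCategory.singleFunctor C 0).obj X.1))) (by
    refine (AddSubgroup.closure_le _).2 ?_
    rintro _ ⟨S, h₁, h₂, h₃, hS, rfl⟩
    rw [SetLike.mem_coe, AddMonoidHom.mem_ker, map_sub, map_sub]
    simp only [FreeAbelianGroup.lift_apply_of]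
    have : clTr (Perf P) ((DerivedCategory.singleFunctor C 0).obj S.X₂) =
        clTr (Perf P) ((DerivedCategory.singleFunctor C 0).obj S.X₁) +
          clTr (Perf P) ((DerivedCategory.singleFunctor C 0).obj S.X₃) :=
      clTr_tri (P := P) _ hS.singleTriangle_distinguished (perf_single _ h₁ 0)
        (perf_single _ h₂ 0) (perf_single _ h₃ 0)
    rw [this]
    abel)

lemma phi_cl (X : C) (hX : P X) :
    phi (clSub P X) = clTr (Perf P) ((DerivedCategory.singleFunctor C 0).obj X) := by
  rw [clSub_of hX]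
  simp [phi]

/-- the map `K₀(Perf) → K₀(P)` -/
noncomputable def psi : K0tr (Perf P) →+ K0sub P :=
  QuotientAddGroup.lift (relTr (Perf P)) (FreeAbelianGroup.lift (psi0 (P := P))) (by
    refine (AddSubgroup.closure_le _).2 ?_
    rintro _ ⟨T, h₁, h₂, h₃, hT, rfl⟩
    rw [SetLike.mem_coe, AddMonoidHom.mem_ker, map_sub, map_sub]
    simp only [FreeAbelianGroup.lift_apply_of]
    rw [psi0_tri hproj hsum hst T hT h₁ h₂ h₃]
    abel)

lemma psi_cl {K : DerivedCategory C} (hK : Perf P K) :
    psi hproj hsum hst (clTr (Perf P) K) = psi0 ⟨K, hK⟩ := by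
  rw [clTr_of hK]
  simp [psi]

include hproj hsum hst in
lemma psi_phi (x : K0sub P) : psi hproj hsum hst (phi x) = x := by
  obtain ⟨x, rfl⟩ := QuotientAddGroup.mk_surjective x
  induction x using FreeAbelianGroup.induction_on with
  | zero => simp
  | of X =>
    have h1 : (QuotientAddGroup.mk (FreeAbelianGroup.of X) : K0sub P) = clSub P X.1 :=
      (clSub_of X.2).symm
    rw [h1, phi_cl X.1 X.2, psi_cl hproj hsum hst (perf_single X.1 X.2 0),
      psi0_eq hproj hsum hst _ (Rep.single X.1 X.2 0)]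
    exact chi_single X.1 X.2
  | neg X ih =>
    rw [QuotientAddGroup.mk_neg, map_neg, map_neg, ih]
  | add x y hx hy =>
    rw [QuotientAddGroup.mk_add, map_add, map_add, hx, hy]

include hproj hsum in
lemma phi_surjective : Function.Surjective (phi (P := P)) := by
  have key : ∀ (K : DerivedCategory C), Perf P K →
      clTr (Perf P) K ∈ (phi (P := P)).range := by
    intro K hK
    let R := rep hK
    rw [clTr_iso R.e (Rep.perf ⟨R.E, R.a, R.b, R.hv, R.hP, Iso.refl _⟩)]
    refine (Brutal.devissage (fun K => Perf P K ∧ clTr (Perf P) K ∈ (phi (P := P)).range)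
      ?_ ?_ ?_ (R.b + 1 - R.a).toNat R.a R.E ?_ ?_).2
    · rintro X Y e ⟨h1, h2⟩
      exact ⟨perf_of_iso e h1, by rw [clTr_iso e h1]; exact h2⟩
    · rintro T hT ⟨h1, h1'⟩ ⟨h3, h3'⟩
      have h2 := perf_ext hproj hsum T hT h1 h3
      refine ⟨h2, ?_⟩
      rw [clTr_tri T hT h1 h2 h3]
      exact add_mem h1' h3'
    · intro X hX
      exact ⟨perf_zero hX, by rw [clTr_zero hX]; exact zero_mem _⟩
    · intro i hi
      refine R.hv i ?_
      rcases hi with h | h
      · exact Or.inl h
      · have := Int.self_le_toNat (R.b + 1 - R.a)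
        exact Or.inr (by lia)
    · intro i _ _
      refine ⟨perf_single _ (R.hP i) i, ?_⟩
      rw [clTr_single _ (R.hP i) i, ← phi_cl _ (R.hP i), ← map_zsmul]
      exact ⟨_, rfl⟩
  intro y
  obtain ⟨y, rfl⟩ := QuotientAddGroup.mk_surjective y
  change _ ∈ (phi (P := P)).range
  refine FreeAbelianGroup.induction_on y (zero_mem _) ?_ (fun X hX => neg_mem hX)
    (fun x y hx hy => add_mem hx hy)
  rintro ⟨K, hK⟩
  have := key K hK
  rwa [clTr_of hK] at this

include hproj hsum hst in
theorem main :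
    ∃ φ : K0sub P ≃+ K0tr (Perf P),
      (∀ X : C, P X → φ (clSub P X) =
        clTr (Perf P) ((DerivedCategory.singleFunctor C 0).obj X)) ∧
      ∀ (E : CochainComplex C ℤ) (a b : ℤ), (∀ i : ℤ, i < a ∨ b < i → IsZero (E.X i)) →
        (∀ i : ℤ, P (E.X i)) →
        φ.symm (clTr (Perf P) (Q.obj E)) =
          ∑ i ∈ Finset.Icc a b, eps i • clSub P (E.X i) := by
  have hinj : Function.Injective (phi (P := P)) :=
    Function.LeftInverse.injective (psi_phi hproj hsum hst)
  let φ : K0sub P ≃+ K0tr (Perf P) :=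
    AddEquiv.ofBijective phi ⟨hinj, phi_surjective hproj hsum⟩
  have hsymm : ∀ y, φ.symm y = psi hproj hsum hst y := by
    intro y
    obtain ⟨x, rfl⟩ := phi_surjective hproj hsum y
    rw [psi_phi hproj hsum hst]
    exact φ.symm_apply_apply x
  refine ⟨φ, fun X hX => phi_cl X hX, fun E a b hv hP => ?_⟩
  let R : Rep P (Q.obj E) := ⟨E, a, b, hv, hP, Iso.refl _⟩
  rw [hsymm, psi_cl hproj hsum hst R.perf, psi0_eq hproj hsum hst _ R]
  exact chi_eq_sum E a b hv

end Main

end Groth.Agent.Helper3.K0PerfB
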