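import Groth.Prelude.Def_DRing2
import Groth.Agent.Lib.Helper3.K0PerfB

/-! `K₀(R) ≅ K₀(D_perf(R))`. -/

namespace Groth.Agent.Helper3.K0PerfC

open CategoryTheory CategoryTheory.Limits KZero

universe u

attribute [local instance] HasDerivedCategory.standard

variable (R : Type u) [CommRing R]

/-- finite projective modules -/
abbrev Pfp : ObjectProperty (ModuleCat.{u} R) :=
  fun M : ModuleCat.{u} R => Module.Finite R M ∧ Module.Projective R M

instance : (Pfp R).IsClosedUnderIsomorphisms where
  of_iso {X Y} e h := by
    have := h.1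
    have := h.2
    exact ⟨Module.Finite.equiv e.toLinearEquiv, Module.Projective.of_equiv e.toLinearEquiv⟩

instance : (Pfp R).ContainsZero where
  exists_zero := ⟨ModuleCat.of R PUnit, ModuleCat.isZero_of_subsingleton _,
    inferInstance, inferInstance⟩

lemma hproj : ∀ X : ModuleCat.{u} R, Pfp R X → Projective X := fun X h => by
  have := h.2
  exact (IsProjective.iff_projective (R := R) (P := X)).1 inferInstance

lemma hsum : ∀ X Y : ModuleCat.{u} R, Pfp R X → Pfp R Y → Pfp R (X ⊞ Y) := fun X Y hX hY => by
  have := hX.1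
  have := hX.2
  have := hY.1
  have := hY.2
  exact (Pfp R).prop_of_iso (ModuleCat.biprodIsoProd X Y).symm ⟨inferInstance, inferInstance⟩

lemma hst : ∀ (E F : ModuleCat.{u} R) (f : E ⟶ F), Epi f → Pfp R E → Pfp R F →
    Pfp R (kernel f) := fun E F f hf hE hF => by
  have := hE.1
  have := hE.2
  have := hF.2
  have hsurj : Function.Surjective f.hom := (ModuleCat.epi_iff_surjective f).1 hf
  obtain ⟨s, hs⟩ := Module.projective_lifting_property f.hom LinearMap.id hsurj
  -- retraction onto the kernel
  let r : E →ₗ[R] LinearMap.ker f.hom :=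
    (LinearMap.id - s ∘ₗ f.hom).codRestrict _ (fun x => by
      have := LinearMap.congr_fun hs (f.hom x)
      simp only [LinearMap.coe_comp, Function.comp_apply, LinearMap.id_coe, id_eq] at this
      simp [this])
  have hr : r ∘ₗ (LinearMap.ker f.hom).subtype = LinearMap.id := by
    ext x
    simp [r]
  refine (Pfp R).prop_of_iso (ModuleCat.kernelIsoKer f).symm ⟨?_, ?_⟩
  · exact Module.Finite.of_surjective r (fun x => ⟨x.1, by
      have := LinearMap.congr_fun hr x
      simpa using this⟩)
  · exact Module.Projective.of_split (LinearMap.ker f.hom).subtype r hr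

theorem main :
    ∃ φ : KZero.K0sub (fun M : ModuleCat.{u} R => Module.Finite R M ∧ Module.Projective R M) ≃+
        KZero.K0tr (fun K : Dual.D R => DRing.IsPerfect R K),
      (∀ (M : Type u) [AddCommGroup M] [Module R M], Module.Finite R M → Module.Projective R M →
        φ (KZero.clSub (fun M : ModuleCat.{u} R => Module.Finite R M ∧ Module.Projective R M)
            (ModuleCat.of R M)) =
          KZero.clTr (fun K : Dual.D R => DRing.IsPerfect R K) (Dual.inD R M)) ∧
      ∀ (E : DRing.Cx R) (a b : ℤ), DRing.VanishesOutside E a b →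
        DRing.TermwiseFiniteProjective E →
        φ.symm (KZero.clTr (fun K : Dual.D R => DRing.IsPerfect R K) (DRing.toD E)) =
          (Finset.Icc a b).sum (fun i => (i.negOnePow : ℤ) •
            KZero.clSub (fun M : ModuleCat.{u} R => Module.Finite R M ∧ Module.Projective R M)
              (E.X i)) := by
  obtain ⟨φ, h1, h2⟩ := K0PerfB.main (P := Pfp R) (hproj R) (hsum R) (hst R)
  refine ⟨φ, fun M _ _ hM hM' => h1 (ModuleCat.of R M) ⟨hM, hM'⟩, fun E a b hv hP => ?_⟩
  exact h2 E a b hv hP

end Groth.Agent.Helper3.K0PerfC
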