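import Mathlib
import Groth.Prelude.Def_KZero2

set_option autoImplicit false
universe v u

open CategoryTheory CategoryTheory.Limits CategoryTheory.Pretriangulated

namespace Groth.Agent.Helper3.K0Tri

open KZero ZeroObject

variable {C : Type u} [Category.{v} C] [Preadditive C] [HasZeroObject C]
  [HasShift C ℤ] [∀ n : ℤ, (shiftFunctor C n).Additive] [Pretriangulated C]

lemma cl_tri (T : Triangle C) (hT : T ∈ distTriang C) :
    clTri T.obj₂ = clTri T.obj₁ + clTri T.obj₃ := by
  have h : (QuotientAddGroup.mk (FreeAbelianGroup.of ⟨T.obj₂, trivial⟩ -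
      FreeAbelianGroup.of ⟨T.obj₁, trivial⟩ - FreeAbelianGroup.of ⟨T.obj₃, trivial⟩) :
      K0tri C) = 0 := by
    rw [QuotientAddGroup.eq_zero_iff]
    exact AddSubgroup.subset_closure ⟨T, trivial, trivial, trivial, hT, rfl⟩
  rw [QuotientAddGroup.mk_sub, QuotientAddGroup.mk_sub, sub_sub, sub_eq_zero] at h
  exact h

lemma cl_zeroObj : clTri (0 : C) = 0 := by
  have h := cl_tri _ (contractible_distinguished (0 : C))
  change clTri (0 : C) = clTri (0 : C) + clTri (0 : C) at h
  exact left_eq_add.1 h |>.symm ▸ rfl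

lemma cl_iso {X Y : C} (e : X ≅ Y) : clTri Y = clTri X := by
  have hT : Triangle.mk e.hom (0 : Y ⟶ (0 : C)) 0 ∈ distTriang C := by
    refine isomorphic_distinguished _ (contractible_distinguished X) _ ?_
    refine Triangle.isoMk _ _ (Iso.refl _) e.symm (Iso.refl _) ?_ ?_ ?_
    · change e.hom ≫ e.inv = 𝟙 X ≫ 𝟙 X
      simp
    · exact (isZero_zero C).eq_of_tgt _ _
    · exact (isZero_zero C).eq_of_src _ _
  have h := cl_tri _ hT
  change clTri Y = clTri X + clTri (0 : C) at h
  rw [cl_zeroObj, add_zero] at h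
  exact h

lemma cl_biprod (X Y : C) : clTri (X ⊞ Y) = clTri X + clTri Y :=
  cl_tri _ (binaryBiproductTriangle_distinguished X Y)

lemma cl_shift_one (X : C) : clTri ((shiftFunctor C (1 : ℤ)).obj X) = - clTri X := by
  have h := cl_tri _ (rot_of_distTriang _ (contractible_distinguished X))
  change clTri (0 : C) = clTri X + clTri ((shiftFunctor C (1 : ℤ)).obj X) at h
  rw [cl_zeroObj] at h
  exact (neg_eq_of_add_eq_zero_right h.symm).symm

lemma cl_shift (m : ℤ) : ∀ X : C, clTri ((shiftFunctor C m).obj X) =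
    ((m.negOnePow : ℤˣ) : ℤ) • clTri X := by
  induction m using Int.induction_on with
  | zero =>
    intro X
    rw [cl_iso ((shiftFunctorZero C ℤ).app X).symm]
    simp
  | succ k ih =>
    intro X
    rw [cl_iso ((shiftFunctorAdd' C (k : ℤ) 1 (k + 1) rfl).app X).symm]
    change clTri ((shiftFunctor C (1 : ℤ)).obj ((shiftFunctor C (k : ℤ)).obj X)) = _
    rw [cl_shift_one, ih, Int.negOnePow_succ]
    simp
  | pred k ih =>
    intro X
    have h1 : clTri ((shiftFunctor C (-(k : ℤ))).obj X) =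
        clTri ((shiftFunctor C (1 : ℤ)).obj ((shiftFunctor C (-(k : ℤ) - 1)).obj X)) :=
      cl_iso ((shiftFunctorAdd' C (-(k : ℤ) - 1) 1 (-(k : ℤ)) (by ring)).app X).symm
    rw [ih X] at h1
    rw [cl_shift_one] at h1
    have h2 : (-(k : ℤ)).negOnePow = - (-(k : ℤ) - 1).negOnePow := by
      rw [← Int.negOnePow_succ]
      congr 1
      ring
    rw [h2] at h1
    have h3 := congrArg Neg.neg h1
    rw [neg_neg] at h3
    rw [← h3]
    simp

lemma cl_shift_even (n : ℤ) (X : C) : clTri ((shiftFunctor C (2 * n)).obj X) = clTri X := by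
  rw [cl_shift, Int.negOnePow_two_mul]
  simp

end Groth.Agent.Helper3.K0Tri
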