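import Groth.Agent.Lib.Helper3.LambdaV
import Groth.Prelude.Def_KGr

set_option autoImplicit false

namespace Groth.Agent.Helper3.KGrLib

open LambdaRing LaurentPolynomial KGr TensorProduct
open Groth.Agent.Helper3.SplitLib Groth.Agent.Helper3.LambdaLib

universe v

variable {K : Type v} [CommRing K] [LambdaOps K] (P : PosStructure K)

section Rees

theorem mem_rees {n : ℕ} {x : K} (hx : x ∈ gammaFiltration P n) :
    C x * T (-(n : ℤ)) ∈ rees P :=
  Subring.subset_closure (Set.mem_insert_of_mem _ ⟨n, x, hx, rfl⟩)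

theorem T_one_mem : (T 1 : LaurentPolynomial K) ∈ rees P :=
  Subring.subset_closure (Set.mem_insert _ _)

theorem T_nat_mem (m : ℕ) : (T (m : ℤ) : LaurentPolynomial K) ∈ rees P := by
  have h := pow_mem (T_one_mem P) m
  rwa [T_pow, mul_one] at h

theorem mem_top_zero (x : K) : x ∈ gammaFiltration P 0 := by
  rw [gammaFiltration_zero]; exact AddSubgroup.mem_top _

theorem C_mem (x : K) : (C x : LaurentPolynomial K) ∈ rees P := by
  have h := mem_rees P (n := 0) (x := x) (mem_top_zero P x)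
  simpa using h

theorem shift_mem {n : ℤ} {x : K} (h : C x * T (-n) ∈ rees P) (m : ℕ) :
    C x * T (-n + m) ∈ rees P := by
  rw [T_add, ← mul_assoc]
  exact mul_mem h (T_nat_mem P m)

/-- the coefficient description of the Rees ring -/
def coefSub : Subring (LaurentPolynomial K) where
  carrier := {f | ∀ m : ℤ, f.coeff m ∈ gammaFiltration P (-m).toNat}
  mul_mem' := by
    intro f g hf hg m
    classical
    rw [AddMonoidAlgebra.coeff_mul]
    simp only [Finsupp.sum]
    refine AddSubgroup.sum_mem _ fun a _ => AddSubgroup.sum_mem _ fun b _ => ?_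
    split_ifs with h
    · have h1 := mul_mem_gammaFiltration P (hf a) (hg b)
      refine gammaFiltration_anti P ?_ h1
      omega
    · exact zero_mem _
  one_mem' := by
    intro m
    rw [← T_zero, T_apply]
    split_ifs with h
    · subst h
      exact mem_top_zero P 1
    · exact zero_mem _
  add_mem' := by
    intro f g hf hg m
    rw [AddMonoidAlgebra.coeff_add, Finsupp.add_apply]
    exact add_mem (hf m) (hg m)
  zero_mem' := by
    intro m
    rw [AddMonoidAlgebra.coeff_zero, Finsupp.zero_apply]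
    exact zero_mem _
  neg_mem' := by
    intro f hf m
    rw [AddMonoidAlgebra.coeff_neg, Finsupp.neg_apply]
    exact neg_mem (hf m)

theorem rees_le_coefSub : rees P ≤ coefSub P := by
  apply Subring.closure_le.2
  rintro f (rfl | ⟨n, x, hx, rfl⟩)
  · intro m
    rw [T_apply]
    split_ifs with h
    · subst h
      exact mem_top_zero P 1
    · exact zero_mem _
  · intro m
    rw [← single_eq_C_mul_T, AddMonoidAlgebra.coeff_single, Finsupp.single_apply]
    split_ifs with h
    · subst h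
      simpa using hx
    · exact zero_mem _

theorem coeff_mem_of_mem_rees {f : LaurentPolynomial K} (hf : f ∈ rees P) (m : ℤ) :
    f.coeff m ∈ gammaFiltration P (-m).toNat := rees_le_coefSub P hf m

theorem mem_of_mem_rees {n : ℕ} {x : K} (h : C x * T (-(n : ℤ)) ∈ rees P) :
    x ∈ gammaFiltration P n := by
  have h1 := coeff_mem_of_mem_rees P h (-(n : ℤ))
  rw [← single_eq_C_mul_T, AddMonoidAlgebra.coeff_single, Finsupp.single_eq_same] at h1
  simpa using h1

end Rees

section GrK

/-- the canonical ring map from the Rees ring to `ℚGr` -/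
noncomputable def rho : rees P →+* Gr P :=
  (Algebra.TensorProduct.includeRight : GrZ P →ₐ[ℤ] ℚ ⊗[ℤ] GrZ P).toRingHom.comp
    (Ideal.Quotient.mk (Ideal.span {tGen P}))

theorem rho_apply (r : rees P) :
    rho P r = (1 : ℚ) ⊗ₜ[ℤ] Ideal.Quotient.mk (Ideal.span {tGen P}) r := rfl

theorem grK_eq {n : ℤ} {x : K} (h : C x * T (-n) ∈ rees P) :
    grK P n x = rho P ⟨C x * T (-n), h⟩ := by
  have key : ∀ (N : ℕ) (_ : 1 ≤ N) (hm : C ((N : K) * x) * T (-n) ∈ rees P),
      ((1 : ℚ) / (N : ℚ)) ⊗ₜ[ℤ] Ideal.Quotient.mk (Ideal.span {tGen P})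
        ⟨C ((N : K) * x) * T (-n), hm⟩ =
      (1 : ℚ) ⊗ₜ[ℤ] Ideal.Quotient.mk (Ideal.span {tGen P}) ⟨C x * T (-n), h⟩ := by
    intro N hN hm
    have e1 : (⟨C ((N : K) * x) * T (-n), hm⟩ : rees P) =
        ((N : ℤ) : rees P) * (⟨C x * T (-n), h⟩ : rees P) := by
      apply Subtype.ext
      simp only [Subring.coe_mul, map_mul, map_natCast, mul_assoc]
      push_cast
      rfl
    rw [e1, map_mul, map_intCast, ← zsmul_eq_mul, TensorProduct.tmul_smul,
      TensorProduct.smul_tmul']
    congr 1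
    rw [zsmul_eq_mul]
    have : (N : ℚ) ≠ 0 := by positivity
    push_cast
    field_simp
  have hex : ∃ N : ℕ, 1 ≤ N ∧ C ((N : K) * x) * T (-n) ∈ rees P :=
    ⟨1, le_rfl, by simpa using h⟩
  unfold grK
  rw [dif_pos hex]
  exact key _ hex.choose_spec.1 hex.choose_spec.2

theorem grK_of_mem {n : ℕ} {x : K} (hx : x ∈ gammaFiltration P n) :
    grK P (n : ℤ) x = rho P ⟨C x * T (-(n : ℤ)), mem_rees P hx⟩ := grK_eq P _

theorem grK_zero (n : ℕ) : grK P (n : ℤ) (0 : K) = 0 := by
  rw [grK_of_mem P (zero_mem _)]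
  have : (⟨C (0 : K) * T (-(n : ℤ)), mem_rees P (zero_mem _)⟩ : rees P) = 0 := by
    apply Subtype.ext
    simp
  rw [this, map_zero]

theorem grK_add {n : ℕ} {x y : K} (hx : x ∈ gammaFiltration P n) (hy : y ∈ gammaFiltration P n) :
    grK P (n : ℤ) (x + y) = grK P (n : ℤ) x + grK P (n : ℤ) y := by
  rw [grK_of_mem P hx, grK_of_mem P hy, grK_of_mem P (add_mem hx hy), ← map_add]
  congr 1
  apply Subtype.ext
  simp only [Subring.coe_add, map_add, add_mul]

theorem grK_neg {n : ℕ} {x : K} (hx : x ∈ gammaFiltration P n) :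
    grK P (n : ℤ) (-x) = -grK P (n : ℤ) x := by
  rw [grK_of_mem P hx, grK_of_mem P (neg_mem hx), ← map_neg]
  congr 1
  apply Subtype.ext
  simp only [Subring.coe_neg, map_neg, neg_mul]

theorem grK_sub {n : ℕ} {x y : K} (hx : x ∈ gammaFiltration P n) (hy : y ∈ gammaFiltration P n) :
    grK P (n : ℤ) (x - y) = grK P (n : ℤ) x - grK P (n : ℤ) y := by
  rw [sub_eq_add_neg, grK_add P hx (neg_mem hy), grK_neg P hy, sub_eq_add_neg]

theorem grK_sum {ι : Type*} {n : ℕ} (s : Finset ι) (f : ι → K)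
    (hf : ∀ i ∈ s, f i ∈ gammaFiltration P n) :
    grK P (n : ℤ) (∑ i ∈ s, f i) = ∑ i ∈ s, grK P (n : ℤ) (f i) := by
  classical
  induction s using Finset.induction_on with
  | empty => simp [grK_zero]
  | insert a s ha ih =>
    rw [Finset.sum_insert ha, Finset.sum_insert ha,
      grK_add P (hf a (Finset.mem_insert_self a s))
        (AddSubgroup.sum_mem _ fun i hi => hf i (Finset.mem_insert_of_mem hi)),
      ih fun i hi => hf i (Finset.mem_insert_of_mem hi)]

theorem grK_natCast_mul {n : ℕ} (c : ℕ) {x : K} (hx : x ∈ gammaFiltration P n) :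
    grK P (n : ℤ) ((c : K) * x) = (c : ℚ) • grK P (n : ℤ) x := by
  rw [grK_of_mem P hx, grK_of_mem P (mul_mem_gammaFiltration_left P n _ hx),
    Nat.cast_smul_eq_nsmul, nsmul_eq_mul, ← map_natCast (rho P), ← map_mul]
  congr 1
  apply Subtype.ext
  simp only [Subring.coe_mul, Subring.coe_natCast, map_mul, map_natCast, mul_assoc]

theorem grK_intCast_mul {n : ℕ} (c : ℤ) {x : K} (hx : x ∈ gammaFiltration P n) :
    grK P (n : ℤ) ((c : K) * x) = (c : ℚ) • grK P (n : ℤ) x := by
  rw [grK_of_mem P hx, grK_of_mem P (mul_mem_gammaFiltration_left P n _ hx),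
    Int.cast_smul_eq_zsmul, zsmul_eq_mul, ← map_intCast (rho P), ← map_mul]
  congr 1
  apply Subtype.ext
  simp only [Subring.coe_mul, Subring.coe_intCast, map_mul, map_intCast, mul_assoc]

theorem grK_mul {m n : ℕ} {x y : K} (hx : x ∈ gammaFiltration P m)
    (hy : y ∈ gammaFiltration P n) :
    grK P ((m + n : ℕ) : ℤ) (x * y) = grK P (m : ℤ) x * grK P (n : ℤ) y := by
  rw [grK_of_mem P hx, grK_of_mem P hy, grK_of_mem P (mul_mem_gammaFiltration P hx hy),
    ← map_mul]
  congr 1
  apply Subtype.ext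
  simp only [Subring.coe_mul, map_mul, Nat.cast_add, neg_add, T_add]
  ring

theorem grK_eq_zero {n : ℕ} {x : K} (hx : x ∈ gammaFiltration P (n + 1)) :
    grK P (n : ℤ) x = 0 := by
  have hx' : x ∈ gammaFiltration P n := gammaFiltration_anti P (Nat.le_succ n) hx
  rw [grK_of_mem P hx', rho_apply]
  have : Ideal.Quotient.mk (Ideal.span {tGen P})
      ⟨C x * T (-(n : ℤ)), mem_rees P hx'⟩ = 0 := by
    rw [Ideal.Quotient.eq_zero_iff_mem, Ideal.mem_span_singleton']
    refine ⟨⟨C x * T (-((n + 1 : ℕ) : ℤ)), mem_rees P hx⟩, ?_⟩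
    apply Subtype.ext
    simp only [Subring.coe_mul, tGen]
    rw [mul_assoc, ← T_add]
    congr 2
    push_cast
    ring
  rw [this, tmul_zero]

theorem grK_intCast (m : ℤ) : grK P ((0 : ℕ) : ℤ) (m : K) = algebraMap ℚ (Gr P) m := by
  have hm : (m : K) ∈ gammaFiltration P 0 := mem_top_zero P _
  rw [grK_of_mem P hm]
  have : (⟨C (m : K) * T (-((0 : ℕ) : ℤ)), mem_rees P hm⟩ : rees P) = (m : rees P) := by
    apply Subtype.ext
    simp
  rw [this, map_intCast]
  exact (map_intCast (algebraMap ℚ (Gr P)) m).symm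

end GrK

end Groth.Agent.Helper3.KGrLib
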