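import Groth.Agent.Lib.Helper3.LambdaV
import Groth.Prelude.Def_KGr

set_option autoImplicit false

namespace Groth.Agent.Helper3.KGrLib

open Groth.Agent.Helper3.LambdaLib

section Newton

open PowerSeries

variable {A : Type*} [CommRing A]

/-- the `(k+1)`-st Newton power sum of a power series with constant coefficient one -/
noncomputable def nwtS (f : PowerSeries A) (k : ℕ) : A := (-1) ^ k * coeff k (logD f)

theorem nwtS_one (k : ℕ) : nwtS (1 : PowerSeries A) k = 0 := by
  unfold nwtS
  rw [logD_one, map_zero, mul_zero]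

theorem nwtS_mul (f g : PowerSeries A) (hf : constantCoeff f = 1) (hg : constantCoeff g = 1)
    (k : ℕ) : nwtS (f * g) k = nwtS f k + nwtS g k := by
  unfold nwtS
  rw [logD_mul f g hf hg, map_add, mul_add]

theorem nwtS_linear (z : A) (k : ℕ) : nwtS (1 + C z * X : PowerSeries A) k = z ^ (k + 1) := by
  unfold nwtS
  rw [coeff_logD_one_add_C_mul_X, ← mul_assoc, ← mul_pow]
  simp

theorem map_nwtS {B : Type*} [CommRing B] (φ : A →+* B) (f : PowerSeries A)
    (hf : constantCoeff f = 1) (k : ℕ) :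
    φ (nwtS f k) = nwtS (PowerSeries.map φ f) k := by
  unfold nwtS
  rw [← map_logD φ f hf, coeff_map, map_mul, map_pow, map_neg, map_one]

theorem constantCoeff_prod {ι : Type*} (s : Finset ι) (f : ι → PowerSeries A)
    (hf : ∀ i ∈ s, constantCoeff (f i) = 1) : constantCoeff (∏ i ∈ s, f i) = 1 := by
  rw [map_prod]
  exact Finset.prod_eq_one hf

theorem nwtS_prod {ι : Type*} (s : Finset ι) (f : ι → PowerSeries A)
    (hf : ∀ i ∈ s, constantCoeff (f i) = 1) (k : ℕ) :
    nwtS (∏ i ∈ s, f i) k = ∑ i ∈ s, nwtS (f i) k := by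
  classical
  induction s using Finset.induction_on with
  | empty => simp [nwtS_one]
  | insert a s ha ih =>
    rw [Finset.prod_insert ha, Finset.sum_insert ha,
      nwtS_mul _ _ (hf a (Finset.mem_insert_self a s))
        (constantCoeff_prod s f fun i hi => hf i (Finset.mem_insert_of_mem hi)),
      ih fun i hi => hf i (Finset.mem_insert_of_mem hi)]

theorem nwtS_rescale (a : A) (f : PowerSeries A) (hf : constantCoeff f = 1) (k : ℕ) :
    nwtS (rescale a f) k = a ^ (k + 1) * nwtS f k := by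
  unfold nwtS logD
  rw [SplitLib.derivative_rescale, SplitLib.rescale_invOfUnit a f hf, mul_assoc, ← map_mul,
    coeff_C_mul, coeff_rescale]
  ring

/-- the series `1 + Σ_{i<d} g_i t^{i+1}` -/
noncomputable def eSer {d : ℕ} (g : Fin d → A) : PowerSeries A :=
  1 + ∑ i : Fin d, C (g i) * X ^ (i.1 + 1)

theorem constantCoeff_eSer {d : ℕ} (g : Fin d → A) : constantCoeff (eSer g) = 1 := by
  unfold eSer
  rw [map_add, map_one, map_sum, Finset.sum_eq_zero, add_zero]
  intro i _
  rw [map_mul, map_pow, constantCoeff_X, zero_pow (Nat.succ_ne_zero _), mul_zero]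

theorem map_eSer {B : Type*} [CommRing B] (φ : A →+* B) {d : ℕ} (g : Fin d → A) :
    PowerSeries.map φ (eSer g) = eSer (fun i => φ (g i)) := by
  unfold eSer
  rw [map_add, map_one, map_sum]
  congr 1
  refine Finset.sum_congr rfl fun i _ => ?_
  rw [map_mul, map_pow, map_C, map_X]

theorem coeff_eSer_zero {d : ℕ} (g : Fin d → A) : coeff 0 (eSer g) = 1 := by
  rw [coeff_zero_eq_constantCoeff_apply, constantCoeff_eSer]

theorem coeff_eSer_succ {d : ℕ} (g : Fin d → A) (m : ℕ) :
    coeff (m + 1) (eSer g) = if h : m < d then g ⟨m, h⟩ else 0 := by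
  unfold eSer
  rw [map_add, coeff_one, if_neg (Nat.succ_ne_zero m), zero_add, map_sum]
  simp only [coeff_C_mul_X_pow]
  split_ifs with h
  · rw [Finset.sum_eq_single ⟨m, h⟩]
    · simp
    · intro b _ hb
      rw [if_neg]
      intro hmb
      apply hb
      apply Fin.ext
      simp only
      omega
    · intro h'
      exact absurd (Finset.mem_univ _) h'
  · apply Finset.sum_eq_zero
    intro b _
    rw [if_neg]
    intro hmb
    have := b.2
    omega

theorem eSer_eq_map {B : Type*} [CommRing B] (φ : A →+* B) {d : ℕ} (G : PowerSeries A)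
    (hG0 : constantCoeff G = 1) (hG : ∀ m, d ≤ m → coeff (m + 1) G = 0)
    (g : Fin d → B) (hg : ∀ i : Fin d, g i = φ (coeff (i.1 + 1) G)) :
    eSer g = PowerSeries.map φ G := by
  refine PowerSeries.ext fun n => ?_
  rw [coeff_map]
  rcases n with _ | m
  · rw [coeff_eSer_zero, coeff_zero_eq_constantCoeff_apply, hG0, map_one]
  · rw [coeff_eSer_succ]
    split_ifs with h
    · exact hg ⟨m, h⟩
    · rw [hG m (by omega), map_zero]

theorem nwtS_eSer_eq {B : Type*} [CommRing B] (φ : A →+* B) {d : ℕ} (G : PowerSeries A)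
    (hG0 : constantCoeff G = 1) (hG : ∀ m, d ≤ m → coeff (m + 1) G = 0)
    (g : Fin d → B) (hg : ∀ i : Fin d, g i = φ (coeff (i.1 + 1) G)) (k : ℕ) :
    nwtS (eSer g) k = φ (nwtS G k) := by
  rw [eSer_eq_map φ G hG0 hG g hg, ← map_nwtS φ G hG0]

theorem coeff_prod_one_add_C_mul_X' {n : ℕ} (c : Fin n → A) (k : ℕ) :
    coeff k (∏ i : Fin n, (1 + C (c i) * X : PowerSeries A)) =
      ∑ s ∈ (Finset.univ : Finset (Fin n)).powersetCard k, ∏ i ∈ s, c i := by
  classical
  have h : ∀ i : Fin n, (1 + C (c i) * X : PowerSeries A) = C (c i) * X + 1 := fun i => add_comm _ _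
  simp only [h]
  rw [Finset.prod_add]
  simp only [Finset.prod_const_one, mul_one, Finset.prod_mul_distrib, Finset.prod_const,
    ← map_prod, map_sum, coeff_C_mul_X_pow]
  rw [Finset.powersetCard_eq_filter, Finset.sum_filter]
  refine Finset.sum_congr rfl fun s _ => ?_
  by_cases hk : k = s.card
  · rw [if_pos hk, if_pos hk.symm]
  · rw [if_neg hk, if_neg (Ne.symm hk)]

end Newton

section ChPoly

open MvPolynomial

theorem eSer_esymm (d : ℕ) :
    eSer (fun i : Fin d => esymm (Fin d) ℚ (i.1 + 1)) =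
      ∏ i : Fin d, (1 + PowerSeries.C (X i : MvPolynomial (Fin d) ℚ) * PowerSeries.X :
        PowerSeries (MvPolynomial (Fin d) ℚ)) := by
  refine PowerSeries.ext fun n => ?_
  rw [coeff_prod_one_add_C_mul_X']
  rcases n with _ | m
  · rw [coeff_eSer_zero]
    simp
  · rw [coeff_eSer_succ]
    split_ifs with h
    · rfl
    · rw [Finset.powersetCard_eq_empty.2 (by simp; omega), Finset.sum_empty]

/-- universal polynomial form of `chPoly` -/
noncomputable def chQ (d : ℕ) : MvPolynomial (Fin d) ℚ :=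
  C (d : ℚ) + ∑ k ∈ Finset.range d, (1 / ((k + 1).factorial : ℚ)) •
    nwtS (eSer (X : Fin d → MvPolynomial (Fin d) ℚ)) k

theorem aeval_chQ {A : Type*} [CommRing A] [Algebra ℚ A] (d : ℕ) (g : Fin d → A) :
    aeval g (chQ d) = algebraMap ℚ A d +
      ∑ k ∈ Finset.range d, (1 / ((k + 1).factorial : ℚ)) • nwtS (eSer g) k := by
  unfold chQ
  rw [map_add, aeval_C, map_sum]
  congr 1
  refine Finset.sum_congr rfl fun k _ => ?_
  rw [map_smul]
  congr 1
  have h := map_nwtS ((aeval g : MvPolynomial (Fin d) ℚ →ₐ[ℚ] A) : MvPolynomial (Fin d) ℚ →+* A)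
    (eSer X) (constantCoeff_eSer _) k
  rw [map_eSer] at h
  simp only [RingHom.coe_coe, aeval_X] at h
  exact h

theorem chPoly_eq_chQ (d : ℕ) : KGr.chPoly d = chQ d := by
  apply (esymmAlgEquiv (Fin d) ℚ (Fintype.card_fin d)).injective
  apply Subtype.ext
  unfold KGr.chPoly
  rw [AlgEquiv.apply_symm_apply]
  show _ = ((esymmAlgHom (Fin d) ℚ d) (chQ d)).val
  rw [esymmAlgHom_apply, aeval_chQ, eSer_esymm]
  have hL : ∀ i : Fin d, Polynomial.aeval (X i : MvPolynomial (Fin d) ℚ) (KGr.expTrunc d) =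
      ∑ k ∈ Finset.range (d + 1), (1 / (k.factorial : ℚ)) • (X i : MvPolynomial (Fin d) ℚ) ^ k := by
    intro i
    unfold KGr.expTrunc
    rw [map_sum]
    refine Finset.sum_congr rfl fun k _ => ?_
    rw [map_mul, Polynomial.aeval_C, map_pow, Polynomial.aeval_X, Algebra.smul_def]
  simp only [hL]
  rw [Finset.sum_comm, Finset.sum_range_succ', add_comm]
  congr 1
  · simp [algebraMap_eq]
  · refine Finset.sum_congr rfl fun k _ => ?_
    rw [nwtS_prod _ _ (fun i _ => by simp), ← Finset.smul_sum]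
    congr 1
    refine Finset.sum_congr rfl fun i _ => ?_
    rw [nwtS_linear]

theorem aeval_chPoly {A : Type*} [CommRing A] [Algebra ℚ A] (d : ℕ) (g : Fin d → A) :
    aeval g (KGr.chPoly d) = algebraMap ℚ A d +
      ∑ k ∈ Finset.range d, (1 / ((k + 1).factorial : ℚ)) • nwtS (eSer g) k := by
  rw [chPoly_eq_chQ, aeval_chQ]

end ChPoly

end Groth.Agent.Helper3.KGrLib
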