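import Groth.Agent.Lib.Helper3.KGr1
import Groth.Agent.Lib.Helper3.KGr2

set_option autoImplicit false

namespace Groth.Agent.Helper3.KGrLib

open LambdaRing LaurentPolynomial KGr TensorProduct
open Groth.Agent.Helper3.SplitLib Groth.Agent.Helper3.LambdaLib

universe v

variable {K : Type v} [CommRing K] [LambdaOps K] (P : PosStructure K)

section Pw

/-- `(ψ - 1)^k x = Σ_j (-1)^(k-j) C(k,j) ψ^j x` -/
noncomputable def pw (k : ℕ) (x : K) : K :=
  ∑ j ∈ Finset.range (k + 1), (-1 : K) ^ (k - j) * (k.choose j : K) * adams P j x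

theorem pw_zero (x : K) : pw P 0 x = ((P.aug x : ℤ) : K) := by
  unfold pw
  simp [adams_zero]

theorem pw_add (k : ℕ) (x y : K) : pw P k (x + y) = pw P k x + pw P k y := by
  unfold pw
  rw [← Finset.sum_add_distrib]
  refine Finset.sum_congr rfl fun j _ => ?_
  rw [adams_add, mul_add]

/-- `pw` as an additive map -/
noncomputable def pwHom (k : ℕ) : K →+ K := AddMonoidHom.mk' (pw P k) (pw_add P k)

@[simp] theorem pwHom_apply (k : ℕ) (x : K) : pwHom P k x = pw P k x := rfl

theorem pw_zero_right (k : ℕ) : pw P k (0 : K) = 0 := map_zero (pwHom P k)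

theorem pw_neg (k : ℕ) (x : K) : pw P k (-x) = -pw P k x := map_neg (pwHom P k) x

theorem pw_sub (k : ℕ) (x y : K) : pw P k (x - y) = pw P k x - pw P k y :=
  map_sub (pwHom P k) x y

theorem pw_line {u : K} (hu : P.IsLine u) (k : ℕ) : pw P k u = (u - 1) ^ k := by
  unfold pw
  rw [sub_eq_add_neg, add_pow]
  refine Finset.sum_congr rfl fun j _ => ?_
  rw [adams_line P hu]
  ring

theorem map_pw {K' : Type v} [CommRing K'] [LambdaOps K'] {P' : PosStructure K'}
    {f : K →+* K'} (hf : IsExtension P P' f) (k : ℕ) (x : K) :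
    f (pw P k x) = pw P' k (f x) := by
  unfold pw
  rw [map_sum]
  refine Finset.sum_congr rfl fun j _ => ?_
  rw [map_mul, map_mul, map_pow, map_neg, map_one, map_natCast, map_adams P hf]

/-- the bilinear expression for `pw k (x * y)` -/
noncomputable def pwB (k : ℕ) (x y : K) : K :=
  ∑ j ∈ Finset.range (k + 1), ∑ i ∈ Finset.range (k - j + 1),
    ((k.choose j : K) * ((k - j).choose i : K)) * (pw P (i + j) x * pw P (k - i) y)

theorem pwB_add_left (k : ℕ) (x x' y : K) :
    pwB P k (x + x') y = pwB P k x y + pwB P k x' y := by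
  unfold pwB
  simp only [pw_add, add_mul, mul_add, Finset.sum_add_distrib]

theorem pwB_add_right (k : ℕ) (x y y' : K) :
    pwB P k x (y + y') = pwB P k x y + pwB P k x y' := by
  unfold pwB
  simp only [pw_add, mul_add, Finset.sum_add_distrib]

theorem pwB_zero_left (k : ℕ) (y : K) : pwB P k 0 y = 0 := by
  unfold pwB
  simp only [pw_zero_right, zero_mul, mul_zero, Finset.sum_const_zero]

theorem pwB_zero_right (k : ℕ) (x : K) : pwB P k x 0 = 0 := by
  unfold pwB
  simp only [pw_zero_right, mul_zero, Finset.sum_const_zero]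

theorem pwB_neg_left (k : ℕ) (x y : K) : pwB P k (-x) y = -pwB P k x y := by
  unfold pwB
  simp only [pw_neg, neg_mul, mul_neg, Finset.sum_neg_distrib]

theorem pwB_neg_right (k : ℕ) (x y : K) : pwB P k x (-y) = -pwB P k x y := by
  unfold pwB
  simp only [pw_neg, mul_neg, Finset.sum_neg_distrib]

omit [LambdaOps K] in
theorem binom_expand (a b : K) (k : ℕ) :
    (a + b + a * b) ^ k = ∑ j ∈ Finset.range (k + 1), ∑ i ∈ Finset.range (k - j + 1),
      ((k.choose j : K) * ((k - j).choose i : K)) * (a ^ (i + j) * b ^ (k - i)) := by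
  have h : a + b + a * b = a * b + (a + b) := by ring
  rw [h, add_pow]
  refine Finset.sum_congr rfl fun j hj => ?_
  rw [add_pow, Finset.mul_sum, Finset.sum_mul]
  refine Finset.sum_congr rfl fun i hi => ?_
  have hj' := Finset.mem_range.1 hj
  have hi' := Finset.mem_range.1 hi
  have e : k - i = j + (k - j - i) := by omega
  rw [e, mul_pow, pow_add, pow_add]
  ring

theorem pw_mul_of_mem_Lin (k : ℕ) {a b : K} (ha : a ∈ Lin P) (hb : b ∈ Lin P) :
    pw P k (a * b) = pwB P k a b := by
  induction hb using AddSubgroup.closure_induction with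
  | mem v hv =>
    induction ha using AddSubgroup.closure_induction with
    | mem u hu =>
      rw [pw_line P (isLine_mul P hu hv)]
      unfold pwB
      simp only [pw_line P hu, pw_line P hv]
      rw [← binom_expand]
      congr 1
      ring
    | zero => rw [zero_mul, pw_zero_right, pwB_zero_left]
    | add x y _ _ hx hy => rw [add_mul, pw_add, hx, hy, pwB_add_left]
    | neg x _ hx => rw [neg_mul, pw_neg, hx, pwB_neg_left]
  | zero => rw [mul_zero, pw_zero_right, pwB_zero_right]
  | add x y _ _ hx hy => rw [mul_add, pw_add, hx, hy, pwB_add_right]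
  | neg x _ hx => rw [mul_neg, pw_neg, hx, pwB_neg_right]

theorem pw_mul (hK : HasSplitting K P) (k : ℕ) (x y : K) : pw P k (x * y) = pwB P k x y := by
  obtain ⟨L, f, _, hf, hl⟩ := exists_ext_mem_Lin P hK [x, y]
  apply hf.injective
  rw [map_pw P hf, map_mul, pw_mul_of_mem_Lin _ k (hl x (by simp)) (hl y (by simp))]
  unfold pwB
  simp only [map_sum, map_mul, map_natCast, map_pw P hf]

end Pw

section Gnw

theorem constantCoeff_gammaSeries (x : K) :
    PowerSeries.constantCoeff (gammaSeries x) = 1 := by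
  rw [← PowerSeries.coeff_zero_eq_constantCoeff_apply, coeff_gammaSeries]
  unfold gamma
  rw [if_pos rfl]

theorem map_gammaSeries {K' : Type v} [CommRing K'] [LambdaOps K'] (f : K →+* K')
    (hf : IsLambdaHom f) (x : K) :
    PowerSeries.map f (gammaSeries x) = gammaSeries (f x) := by
  refine PowerSeries.ext fun n => ?_
  rw [PowerSeries.coeff_map, coeff_gammaSeries, coeff_gammaSeries, map_gamma f hf]

/-- the reduced element `x - ε x` -/
def red (x : K) : K := x - ((P.aug x : ℤ) : K)

theorem red_add (x y : K) : red P (x + y) = red P x + red P y := by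
  unfold red
  rw [map_add]
  push_cast
  ring

theorem aug_red (x : K) : P.aug (red P x) = 0 := aug_sub_aug P x

/-- the Newton sums of the γ-series of `x - ε x` -/
noncomputable def gnw (k : ℕ) (x : K) : K := nwtS (gammaSeries (red P x)) k

theorem gnw_add (k : ℕ) (x y : K) : gnw P k (x + y) = gnw P k x + gnw P k y := by
  unfold gnw
  rw [red_add, gammaSeries_add,
    nwtS_mul _ _ (constantCoeff_gammaSeries _) (constantCoeff_gammaSeries _)]

/-- `gnw` as an additive map -/
noncomputable def gnwHom (k : ℕ) : K →+ K := AddMonoidHom.mk' (gnw P k) (gnw_add P k)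

theorem gnw_line {u : K} (hu : P.IsLine u) (k : ℕ) : gnw P k u = (u - 1) ^ (k + 1) := by
  unfold gnw red
  rw [hu.2, Int.cast_one, gammaSeries_line_sub_one (lam_one_eq_zero P) u (lam_line P hu),
    nwtS_linear]

theorem map_gnw {K' : Type v} [CommRing K'] [LambdaOps K'] {P' : PosStructure K'}
    {f : K →+* K'} (hf : IsExtension P P' f) (k : ℕ) (x : K) :
    f (gnw P k x) = gnw P' k (f x) := by
  unfold gnw
  rw [map_nwtS f _ (constantCoeff_gammaSeries _), map_gammaSeries f hf.isLambdaHom]
  congr 2
  unfold red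
  rw [map_sub, map_intCast, hf.aug_comp]

theorem pw_succ_eq_gnw_of_mem_Lin (k : ℕ) {a : K} (ha : a ∈ Lin P) :
    pw P (k + 1) a = gnw P k a := by
  induction ha using AddSubgroup.closure_induction with
  | mem u hu => rw [pw_line P hu, gnw_line P hu]
  | zero => rw [pw_zero_right]; exact (map_zero (gnwHom P k)).symm
  | add x y _ _ hx hy => rw [pw_add, gnw_add, hx, hy]
  | neg x _ hx => rw [pw_neg, hx]; exact (map_neg (gnwHom P k) x).symm

theorem pw_succ_eq_gnw (hK : HasSplitting K P) (k : ℕ) (x : K) :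
    pw P (k + 1) x = gnw P k x := by
  obtain ⟨L, f, _, hf, hl⟩ := exists_ext_mem_Lin P hK [x]
  apply hf.injective
  rw [map_pw P hf, map_gnw P hf]
  exact pw_succ_eq_gnw_of_mem_Lin _ k (hl x (by simp))

end Gnw

section ReesSeries

/-- the γ-series of `y` (with `ε y = 0`) lifted to the Rees ring -/
noncomputable def gammaR (y : K) (hy : P.aug y = 0) : PowerSeries (rees P) :=
  PowerSeries.mk fun i =>
    ⟨C (gamma i y) * T (-(i : ℤ)), mem_rees P (gamma_mem_gammaFiltration P hy i)⟩

theorem constantCoeff_gammaR (y : K) (hy : P.aug y = 0) :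
    PowerSeries.constantCoeff (gammaR P y hy) = 1 := by
  rw [← PowerSeries.coeff_zero_eq_constantCoeff_apply]
  unfold gammaR
  rw [PowerSeries.coeff_mk]
  apply Subtype.ext
  simp [gamma]

theorem map_subtype_gammaR (y : K) (hy : P.aug y = 0) :
    PowerSeries.map (rees P).subtype (gammaR P y hy) =
      PowerSeries.rescale (T (-1)) (PowerSeries.map C (gammaSeries y)) := by
  refine PowerSeries.ext fun i => ?_
  rw [PowerSeries.coeff_map, PowerSeries.coeff_rescale, PowerSeries.coeff_map, coeff_gammaSeries]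
  unfold gammaR
  rw [PowerSeries.coeff_mk, Subring.subtype_apply]
  show C (gamma i y) * T (-(i : ℤ)) = _
  rw [T_pow, mul_comm]
  congr 2
  ring

theorem coe_nwtS_gammaR (y : K) (hy : P.aug y = 0) (k : ℕ) :
    ((nwtS (gammaR P y hy) k : rees P) : LaurentPolynomial K) =
      C (nwtS (gammaSeries y) k) * T (-((k + 1 : ℕ) : ℤ)) := by
  have hc : PowerSeries.constantCoeff (PowerSeries.map (C : K →+* LaurentPolynomial K)
      (gammaSeries y)) = 1 := by
    rw [← PowerSeries.coeff_zero_eq_constantCoeff_apply, PowerSeries.coeff_map,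
      PowerSeries.coeff_zero_eq_constantCoeff_apply, constantCoeff_gammaSeries, map_one]
  have h1 := map_nwtS (rees P).subtype (gammaR P y hy) (constantCoeff_gammaR P y hy) k
  rw [map_subtype_gammaR, nwtS_rescale _ _ hc, ← map_nwtS C _ (constantCoeff_gammaSeries y),
    Subring.subtype_apply] at h1
  rw [h1, T_pow, mul_comm]
  congr 2
  push_cast
  ring

theorem gnw_mem (k : ℕ) (x : K) : gnw P k x ∈ gammaFiltration P (k + 1) := by
  apply mem_of_mem_rees P
  have h := coe_nwtS_gammaR P (red P x) (aug_red P x) k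
  unfold gnw
  rw [← h]
  exact (nwtS (gammaR P (red P x) (aug_red P x)) k).2

theorem pw_mem (hK : HasSplitting K P) (k : ℕ) (x : K) : pw P k x ∈ gammaFiltration P k := by
  rcases k with _ | k
  · exact mem_top_zero P _
  · rw [pw_succ_eq_gnw P hK]
    exact gnw_mem P k x

theorem rho_nwtS_gammaR (k : ℕ) (x : K) :
    rho P (nwtS (gammaR P (red P x) (aug_red P x)) k) =
      grK P ((k + 1 : ℕ) : ℤ) (gnw P k x) := by
  rw [grK_of_mem P (gnw_mem P k x)]
  congr 1
  apply Subtype.ext
  exact coe_nwtS_gammaR P (red P x) (aug_red P x) k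

end ReesSeries

section ChK

theorem chK_eq (hK : HasSplitting K P) (d : ℕ) (hd : gammaFiltration P (d + 1) = ⊥) (x : K) :
    chK P d x =
      ∑ k ∈ Finset.range (d + 1), (1 / (k.factorial : ℚ)) • grK P (k : ℤ) (pw P k x) := by
  unfold chK
  rw [aeval_chPoly (A := Gr P) d (fun i : Fin d => chern P (i.1 + 1) x)]
  have h1 : ∀ k : ℕ, nwtS (eSer (fun i : Fin d => chern P (i.1 + 1) x)) k =
      grK P ((k + 1 : ℕ) : ℤ) (pw P (k + 1) x) := by
    intro k
    have h2 := nwtS_eSer_eq (A := rees P) (B := Gr P) (rho P)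
      (gammaR P (red P x) (aug_red P x)) (constantCoeff_gammaR P _ _)
      (d := d) (by
        intro m hm
        have h0 : gamma (m + 1) (red P x) = 0 := by
          have := gammaFiltration_anti P (by omega : d + 1 ≤ m + 1)
            (gamma_mem_gammaFiltration P (aug_red P x) (m + 1))
          rw [hd] at this
          exact (AddSubgroup.mem_bot).1 this
        unfold gammaR
        rw [PowerSeries.coeff_mk]
        apply Subtype.ext
        simp [h0])
      (fun i : Fin d => chern P (i.1 + 1) x) (by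
        intro i
        unfold chern
        change grK P ((i.1 + 1 : ℕ) : ℤ) (gamma (i.1 + 1) (red P x)) = _
        rw [grK_of_mem P (gamma_mem_gammaFiltration P (aug_red P x) (i.1 + 1))]
        congr 1
        unfold gammaR
        rw [PowerSeries.coeff_mk]) k
    rw [h2, rho_nwtS_gammaR, pw_succ_eq_gnw P hK]
  rw [Finset.sum_range_succ']
  have h0 : (1 / ((0 : ℕ).factorial : ℚ)) • grK P ((0 : ℕ) : ℤ) (pw P 0 x) =
      algebraMap ℚ (Gr P) (P.aug x : ℚ) := by
    rw [pw_zero, grK_intCast]
    simp
  rw [h0]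
  simp only [h1]
  rw [map_sub, map_natCast]
  abel

end ChK

end Groth.Agent.Helper3.KGrLib
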