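import Groth.Agent.Lib.Helper3.KGr3

set_option autoImplicit false

namespace Groth.Agent.Helper3.KGrLib

open LambdaRing LaurentPolynomial KGr TensorProduct
open Groth.Agent.Helper3.SplitLib Groth.Agent.Helper3.LambdaLib

universe v

variable {K : Type v} [CommRing K] [LambdaOps K] (P : PosStructure K)

section Mult

/-- the degree-`k` term of the Chern character (times `k!`) -/
noncomputable def cht (k : ℕ) (x : K) : Gr P := grK P (k : ℤ) (pw P k x)

theorem chK_eq_cht (hK : HasSplitting K P) (d : ℕ) (hd : gammaFiltration P (d + 1) = ⊥) (x : K) :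
    chK P d x = ∑ k ∈ Finset.range (d + 1), (1 / (k.factorial : ℚ)) • cht P k x :=
  chK_eq P hK d hd x

theorem grK_mul' {m n k : ℕ} {x y : K} (hx : x ∈ gammaFiltration P m)
    (hy : y ∈ gammaFiltration P n) (h : m + n = k) :
    grK P (k : ℤ) (x * y) = grK P (m : ℤ) x * grK P (n : ℤ) y := by
  subst h
  exact grK_mul P hx hy

theorem cht_add (hK : HasSplitting K P) (k : ℕ) (x y : K) :
    cht P k (x + y) = cht P k x + cht P k y := by
  unfold cht
  rw [pw_add, grK_add P (pw_mem P hK k x) (pw_mem P hK k y)]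

theorem mul_pw_mem (hK : HasSplitting K P) (k j i : ℕ) (hj : j ≤ k) (hi : i ≤ k - j) (x y : K) :
    pw P (i + j) x * pw P (k - i) y ∈ gammaFiltration P (k + j) := by
  have h := mul_mem_gammaFiltration P (pw_mem P hK (i + j) x) (pw_mem P hK (k - i) y)
  have e : i + j + (k - i) = k + j := by omega
  rwa [e] at h

theorem grK_term (hK : HasSplitting K P) (k j i : ℕ) (hj : j ≤ k) (hi : i ≤ k - j) (x y : K) :
    grK P (k : ℤ) (((k.choose j : K) * ((k - j).choose i : K)) *
      (pw P (i + j) x * pw P (k - i) y)) =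
      if j = 0 then (k.choose i : ℚ) • (cht P i x * cht P (k - i) y) else 0 := by
  have hz := mul_pw_mem P hK k j i hj hi x y
  rw [← Nat.cast_mul, grK_natCast_mul P _ (gammaFiltration_anti P (Nat.le_add_right k j) hz)]
  split_ifs with h0
  · subst h0
    simp only [Nat.choose_zero_right, one_mul, Nat.sub_zero, add_zero]
    rw [grK_mul' P (pw_mem P hK i x) (pw_mem P hK (k - i) y) (by omega : i + (k - i) = k)]
    rfl
  · rw [grK_eq_zero P (gammaFiltration_anti P (by omega : k + 1 ≤ k + j) hz), smul_zero]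

theorem cht_mul (hK : HasSplitting K P) (k : ℕ) (x y : K) :
    cht P k (x * y) =
      ∑ i ∈ Finset.range (k + 1), (k.choose i : ℚ) • (cht P i x * cht P (k - i) y) := by
  have hterm : ∀ j ∈ Finset.range (k + 1), ∀ i ∈ Finset.range (k - j + 1),
      ((k.choose j : K) * ((k - j).choose i : K)) * (pw P (i + j) x * pw P (k - i) y) ∈
        gammaFiltration P k := by
    intro j hj i hi
    have hj' := Finset.mem_range.1 hj
    have hi' := Finset.mem_range.1 hi
    exact mul_mem_gammaFiltration_left P k _ (gammaFiltration_anti P (Nat.le_add_right k j)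
      (mul_pw_mem P hK k j i (by omega) (by omega) x y))
  have h1 : cht P k (x * y) = ∑ j ∈ Finset.range (k + 1), ∑ i ∈ Finset.range (k - j + 1),
      (if j = 0 then (k.choose i : ℚ) • (cht P i x * cht P (k - i) y) else 0) := by
    unfold cht
    rw [pw_mul P hK]
    unfold pwB
    rw [grK_sum P _ _ (fun j hj => AddSubgroup.sum_mem _ (fun i hi => hterm j hj i hi))]
    refine Finset.sum_congr rfl fun j hj => ?_
    rw [grK_sum P _ _ (hterm j hj)]
    refine Finset.sum_congr rfl fun i hi => ?_
    have hj' := Finset.mem_range.1 hj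
    have hi' := Finset.mem_range.1 hi
    exact grK_term P hK k j i (by omega) (by omega) x y
  rw [h1, Finset.sum_eq_single 0]
  · simp
  · intro j _ hj0
    simp [hj0]
  · intro h
    exact absurd (Finset.mem_range.2 (Nat.succ_pos k)) h

theorem chK_mul (hK : HasSplitting K P) (d : ℕ) (hd : gammaFiltration P (d + 1) = ⊥) (x y : K) :
    chK P d (x * y) = chK P d x * chK P d y := by
  rw [chK_eq_cht P hK d hd, chK_eq_cht P hK d hd, chK_eq_cht P hK d hd]
  set F : ℕ → ℕ → Gr P := fun p q =>
    ((1 / (p.factorial : ℚ)) * (1 / (q.factorial : ℚ))) • (cht P p x * cht P q y) with hF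
  have hL : ∀ k ∈ Finset.range (d + 1), (1 / (k.factorial : ℚ)) • cht P k (x * y) =
      ∑ i ∈ Finset.range (k + 1), F i (k - i) := by
    intro k _
    rw [cht_mul P hK, Finset.smul_sum]
    refine Finset.sum_congr rfl fun i hi => ?_
    have hik : i ≤ k := Nat.lt_succ_iff.1 (Finset.mem_range.1 hi)
    rw [smul_smul]
    congr 1
    have h1 : (k.choose i : ℚ) * (i.factorial : ℚ) * ((k - i).factorial : ℚ) =
        (k.factorial : ℚ) := by
      exact_mod_cast Nat.choose_mul_factorial_mul_factorial hik
    have h2 : (i.factorial : ℚ) ≠ 0 := by positivity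
    have h3 : ((k - i).factorial : ℚ) ≠ 0 := by positivity
    have h4 : (k.factorial : ℚ) ≠ 0 := by positivity
    have h5 : (k.choose i : ℚ) ≠ 0 := by exact_mod_cast (Nat.choose_pos hik).ne'
    rw [← h1]
    field_simp
  rw [Finset.sum_congr rfl hL, Finset.sum_range_diag_flip (d + 1) F, Finset.sum_mul_sum]
  refine Finset.sum_congr rfl fun p hp => ?_
  have hp' := Finset.mem_range.1 hp
  have hR : ∀ q : ℕ, ((1 / (p.factorial : ℚ)) • cht P p x) * ((1 / (q.factorial : ℚ)) • cht P q y) =
      F p q := fun q => by rw [smul_mul_smul_comm]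
  simp only [hR]
  refine Finset.sum_subset (Finset.range_subset_range.2 (Nat.sub_le (d + 1) p)) ?_
  intro q hq hq'
  have hq1 := Finset.mem_range.1 hq
  have hq2 : ¬ q < d + 1 - p := fun h => hq' (Finset.mem_range.2 h)
  have hz : pw P p x * pw P q y = 0 := by
    have := gammaFiltration_anti P (by omega : d + 1 ≤ p + q)
      (mul_mem_gammaFiltration P (pw_mem P hK p x) (pw_mem P hK q y))
    rw [hd] at this
    exact (AddSubgroup.mem_bot).1 this
  rw [hF]
  simp only
  unfold cht
  rw [← grK_mul P (pw_mem P hK p x) (pw_mem P hK q y), hz, grK_zero, smul_zero]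

theorem chK_add (hK : HasSplitting K P) (d : ℕ) (hd : gammaFiltration P (d + 1) = ⊥) (x y : K) :
    chK P d (x + y) = chK P d x + chK P d y := by
  rw [chK_eq_cht P hK d hd, chK_eq_cht P hK d hd, chK_eq_cht P hK d hd, ← Finset.sum_add_distrib]
  refine Finset.sum_congr rfl fun k _ => ?_
  rw [cht_add P hK, smul_add]

theorem chK_one (hK : HasSplitting K P) (d : ℕ) (hd : gammaFiltration P (d + 1) = ⊥) :
    chK P d (1 : K) = 1 := by
  rw [chK_eq_cht P hK d hd, Finset.sum_range_succ', Finset.sum_eq_zero, zero_add]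
  · unfold cht
    rw [pw_zero, map_one, grK_intCast, Int.cast_one, map_one, Nat.factorial_zero, Nat.cast_one,
      div_one, one_smul]
  · intro k _
    unfold cht
    rw [pw_line P (one_isLine P), sub_self, zero_pow (Nat.succ_ne_zero k), grK_zero, smul_zero]

end Mult

end Groth.Agent.Helper3.KGrLib
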