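import Groth.Agent.Lib.Helper3.LambdaV
import Groth.Agent.Lib.Helper3.FilEigen

set_option autoImplicit false

namespace Groth.Agent.Helper3.SplitLib

open LambdaRing Groth.Agent.Helper3.LambdaLib TensorProduct

universe u

section Rational

variable {K : Type u} [CommRing K] [LambdaOps K] (P : PosStructure K)

/-- the `ℚ`-span of the image of `F^n K` in `ℚ ⊗ K` -/
def QF (n : ℕ) : Submodule ℚ (ℚ ⊗[ℤ] K) :=
  Submodule.span ℚ ((fun x : K => (1 : ℚ) ⊗ₜ[ℤ] x) '' (gammaFiltration P n : Set K))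

omit [LambdaOps K] in
theorem span_one_tmul_eq_top :
    Submodule.span ℚ (Set.range fun x : K => (1 : ℚ) ⊗ₜ[ℤ] x) = ⊤ := by
  rw [eq_top_iff]
  intro z hz
  clear hz
  induction z using TensorProduct.induction_on with
  | zero => exact zero_mem _
  | tmul q x =>
    have : q ⊗ₜ[ℤ] x = q • ((1 : ℚ) ⊗ₜ[ℤ] x) := by
      rw [TensorProduct.smul_tmul', smul_eq_mul, mul_one]
    rw [this]
    exact Submodule.smul_mem _ _ (Submodule.subset_span ⟨x, rfl⟩)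
  | add a b ha hb => exact add_mem ha hb

omit [LambdaOps K] in
theorem natCast_smul_one_tmul (n : ℕ) (x : K) :
    (n : ℚ) • ((1 : ℚ) ⊗ₜ[ℤ] x) = (1 : ℚ) ⊗ₜ[ℤ] ((n : K) * x) := by
  rw [TensorProduct.smul_tmul', smul_eq_mul, mul_one]
  have h1 : (n : ℚ) = n • (1 : ℚ) := by simp
  rw [h1, TensorProduct.smul_tmul, nsmul_eq_mul]

theorem QF_hyp (hK : HasSplitting K P) (d : ℕ) (hd : gammaFiltration P (d + 1) = ⊥)
    (j : ℕ) (hj : 2 ≤ j) (Ψ : ℚ ⊗[ℤ] K →ₗ[ℚ] ℚ ⊗[ℤ] K)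
    (hΨ : ∀ x : K, Ψ (1 ⊗ₜ[ℤ] x) = 1 ⊗ₜ[ℤ] adams P j x) :
    FilEigen.Hyp (QF P) Ψ (j : ℚ) d where
  anti := fun n => Submodule.span_mono (Set.image_mono (gammaFiltration_anti P (Nat.le_succ n)))
  top := by
    unfold QF
    rw [gammaFiltration_zero, AddSubgroup.coe_top, Set.image_univ]
    exact span_one_tmul_eq_top
  bot := by
    unfold QF
    rw [hd, AddSubgroup.coe_bot, Set.image_singleton, TensorProduct.tmul_zero,
      Submodule.span_singleton_eq_bot]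
  step := by
    intro n v hv
    unfold QF at hv
    induction hv using Submodule.span_induction with
    | mem v hv =>
      obtain ⟨x, hx, rfl⟩ := hv
      have h1 : ((j : ℚ) ^ n) • ((1 : ℚ) ⊗ₜ[ℤ] x) = (1 : ℚ) ⊗ₜ[ℤ] ((j : K) ^ n * x) := by
        rw [← Nat.cast_pow, natCast_smul_one_tmul, Nat.cast_pow]
      rw [hΨ, h1, ← TensorProduct.tmul_sub]
      exact Submodule.subset_span ⟨_, adams_sub_mem hK j n hx, rfl⟩
    | zero => simp
    | add a b _ _ ha hb =>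
      have : Ψ (a + b) - (j : ℚ) ^ n • (a + b) =
          (Ψ a - (j : ℚ) ^ n • a) + (Ψ b - (j : ℚ) ^ n • b) := by
        rw [map_add, smul_add]; abel
      rw [this]
      exact add_mem ha hb
    | smul q a _ ha =>
      have : Ψ (q • a) - (j : ℚ) ^ n • (q • a) = q • (Ψ a - (j : ℚ) ^ n • a) := by
        rw [map_smul, smul_sub, smul_comm]
      rw [this]
      exact Submodule.smul_mem _ _ ha
  inj := by
    intro a b hab
    have h2 : (j ^ a : ℕ) = j ^ b := by exact_mod_cast hab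
    exact Nat.pow_right_injective hj h2

theorem adams_tensor_comm (hK : HasSplitting K P) (j l : ℕ)
    (Ψj Ψl : ℚ ⊗[ℤ] K →ₗ[ℚ] ℚ ⊗[ℤ] K)
    (hΨj : ∀ x : K, Ψj (1 ⊗ₜ[ℤ] x) = 1 ⊗ₜ[ℤ] adams P j x)
    (hΨl : ∀ x : K, Ψl (1 ⊗ₜ[ℤ] x) = 1 ⊗ₜ[ℤ] adams P l x) (v : ℚ ⊗[ℤ] K) :
    Ψj (Ψl v) = Ψl (Ψj v) := by
  have h : Ψj ∘ₗ Ψl = Ψl ∘ₗ Ψj := by
    apply LinearMap.ext_on (span_one_tmul_eq_top (K := K))
    rintro _ ⟨x, rfl⟩
    simp only [LinearMap.comp_apply]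
    rw [hΨl, hΨj, hΨj, hΨl, adams_adams P hK, adams_adams P hK, mul_comm]
  exact LinearMap.congr_fun h v

end Rational

end Groth.Agent.Helper3.SplitLib
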