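import Groth.Agent.Lib.Helper3.KGr4
import Groth.Agent.Lib.Helper3.LambdaW

set_option autoImplicit false

namespace Groth.Agent.Helper3.KGrLib

open LambdaRing LaurentPolynomial KGr TensorProduct
open Groth.Agent.Helper3.SplitLib Groth.Agent.Helper3.LambdaLib

universe v

variable {K : Type v} [CommRing K] [LambdaOps K] (P : PosStructure K)

section Filt

theorem adams_mem (hK : HasSplitting K P) (j n : ℕ) {z : K} (hz : z ∈ gammaFiltration P n) :
    adams P j z ∈ gammaFiltration P n := by
  have h := adams_sub_mem hK j n hz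
  have h2 : adams P j z = (adams P j z - (j : K) ^ n * z) + (j : K) ^ n * z := by ring
  rw [h2]
  exact add_mem (gammaFiltration_anti P (Nat.le_succ n) h) (mul_mem_gammaFiltration_left P n _ hz)

theorem pw_mem_of_mem (hK : HasSplitting K P) (k n : ℕ) {z : K} (hz : z ∈ gammaFiltration P n) :
    pw P k z ∈ gammaFiltration P n := by
  unfold pw
  exact AddSubgroup.sum_mem _ fun j _ =>
    mul_mem_gammaFiltration_left P n _ (adams_mem P hK j n hz)

theorem alt_sum_pow (n : ℕ) :
    ∑ j ∈ Finset.range (n + 1), ((-1 : ℤ) ^ (n - j) * (n.choose j : ℤ)) * (j : ℤ) ^ n =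
      (n.factorial : ℤ) := by
  have h1 := fwdDiff_iter_eq_sum_shift (1 : ℤ) (fun r : ℤ => r ^ n) n 0
  have h2 := congrFun (fwdDiff_iter_eq_factorial (R := ℤ) (n := n)) 0
  rw [h2] at h1
  simpa using h1.symm

theorem pw_sub_factorial_mem (hK : HasSplitting K P) (n : ℕ) {z : K}
    (hz : z ∈ gammaFiltration P n) :
    pw P n z - (n.factorial : K) * z ∈ gammaFiltration P (n + 1) := by
  have hZ := alt_sum_pow n
  have hK' : (∑ j ∈ Finset.range (n + 1), ((-1 : K) ^ (n - j) * (n.choose j : K)) * (j : K) ^ n) =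
      (n.factorial : K) := by
    have := congrArg (Int.cast : ℤ → K) hZ
    push_cast at this
    exact this
  have e : pw P n z - (n.factorial : K) * z = ∑ j ∈ Finset.range (n + 1),
      ((-1 : K) ^ (n - j) * (n.choose j : K)) * (adams P j z - (j : K) ^ n * z) := by
    unfold pw
    rw [← hK', Finset.sum_mul, ← Finset.sum_sub_distrib]
    refine Finset.sum_congr rfl fun j _ => ?_
    ring
  rw [e]
  exact AddSubgroup.sum_mem _ fun j _ =>
    mul_mem_gammaFiltration_left P (n + 1) _ (adams_sub_mem hK j n hz)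

theorem cht_of_mem_lt (hK : HasSplitting K P) {k n : ℕ} (hkn : k < n) {z : K}
    (hz : z ∈ gammaFiltration P n) : cht P k z = 0 := by
  unfold cht
  exact grK_eq_zero P (gammaFiltration_anti P hkn (pw_mem_of_mem P hK k n hz))

theorem cht_of_mem_self (hK : HasSplitting K P) {n : ℕ} {z : K}
    (hz : z ∈ gammaFiltration P n) :
    cht P n z = (n.factorial : ℚ) • grK P (n : ℤ) z := by
  unfold cht
  have h1 := pw_sub_factorial_mem P hK n hz
  have h2 : pw P n z = (n.factorial : K) * z + (pw P n z - (n.factorial : K) * z) := by ring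
  rw [h2, grK_add P (mul_mem_gammaFiltration_left P n _ hz)
    (gammaFiltration_anti P (Nat.le_succ n) h1), grK_natCast_mul P _ hz, grK_eq_zero P h1,
    add_zero]

end Filt

section Surj

theorem eq_zero_of_mem_of_le (d : ℕ) (hd : gammaFiltration P (d + 1) = ⊥) {n : ℕ}
    (hn : d + 1 ≤ n) {z : K} (hz : z ∈ gammaFiltration P n) : z = 0 := by
  have := gammaFiltration_anti P hn hz
  rw [hd] at this
  exact (AddSubgroup.mem_bot).1 this

theorem grK_mem_span (hK : HasSplitting K P) (d : ℕ) (hd : gammaFiltration P (d + 1) = ⊥) :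
    ∀ (m n : ℕ), d + 1 ≤ n + m → ∀ z ∈ gammaFiltration P n,
      grK P (n : ℤ) z ∈ Submodule.span ℚ (Set.range (chK P d)) := by
  intro m
  induction m with
  | zero =>
    intro n hn z hz
    rw [eq_zero_of_mem_of_le P d hd (by omega) hz, grK_zero]
    exact zero_mem _
  | succ m ih =>
    intro n hn z hz
    by_cases hnd : d + 1 ≤ n
    · rw [eq_zero_of_mem_of_le P d hd hnd hz, grK_zero]
      exact zero_mem _
    · have hnr : n ∈ Finset.range (d + 1) := Finset.mem_range.2 (by omega)
      have hch : chK P d z ∈ Submodule.span ℚ (Set.range (chK P d)) :=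
        Submodule.subset_span ⟨z, rfl⟩
      rw [chK_eq_cht P hK d hd, ← Finset.add_sum_erase _ _ hnr] at hch
      have hrest : ∑ k ∈ (Finset.range (d + 1)).erase n, (1 / (k.factorial : ℚ)) • cht P k z ∈
          Submodule.span ℚ (Set.range (chK P d)) := by
        refine Submodule.sum_mem _ fun k hk => Submodule.smul_mem _ _ ?_
        have hkn : k ≠ n := (Finset.mem_erase.1 hk).1
        rcases lt_or_gt_of_ne hkn with h | h
        · rw [cht_of_mem_lt P hK h hz]
          exact zero_mem _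
        · exact ih k (by omega) _ (pw_mem P hK k z)
      have h3 := (Submodule.add_mem_iff_left _ hrest).1 hch
      rw [cht_of_mem_self P hK hz, smul_smul] at h3
      have h4 : (1 / (n.factorial : ℚ)) * (n.factorial : ℚ) = 1 := by
        have : (n.factorial : ℚ) ≠ 0 := by positivity
        field_simp
      rwa [h4, one_smul] at h3

theorem monomial_mem {f : LaurentPolynomial K} (hf : f ∈ rees P) (m : ℤ) :
    C (f.coeff m) * T m ∈ rees P := by
  rcases le_or_gt 0 m with h | h
  · obtain ⟨k, rfl⟩ := Int.eq_ofNat_of_zero_le h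
    exact mul_mem (C_mem P _) (T_nat_mem P k)
  · have h1 := coeff_mem_of_mem_rees P hf m
    have h2 := mem_rees P h1
    have h3 : -(((-m).toNat : ℕ) : ℤ) = m := by omega
    rwa [h3] at h2

theorem rho_monomial_mem {f : LaurentPolynomial K} (hf : f ∈ rees P) (m : ℤ) :
    rho P ⟨C (f.coeff m) * T m, monomial_mem P hf m⟩ ∈
      Submodule.span ℚ {g : Gr P | ∃ (n : ℕ) (z : K), z ∈ gammaFiltration P n ∧
        g = grK P (n : ℤ) z} := by
  rcases le_or_gt m 0 with h | h
  · have h1 := coeff_mem_of_mem_rees P hf m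
    apply Submodule.subset_span
    refine ⟨(-m).toNat, f.coeff m, h1, ?_⟩
    rw [grK_of_mem P h1]
    congr 1
    apply Subtype.ext
    have h3 : -(((-m).toNat : ℕ) : ℤ) = m := by omega
    simp only [h3]
  · have h0 : rho P ⟨C (f.coeff m) * T m, monomial_mem P hf m⟩ = 0 := by
      rw [rho_apply]
      have : Ideal.Quotient.mk (Ideal.span {tGen P})
          (⟨C (f.coeff m) * T m, monomial_mem P hf m⟩ : rees P) = 0 := by
        rw [Ideal.Quotient.eq_zero_iff_mem, Ideal.mem_span_singleton']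
        obtain ⟨k, rfl⟩ : ∃ k : ℕ, m = (k : ℤ) + 1 := ⟨(m - 1).toNat, by omega⟩
        refine ⟨⟨C (f.coeff ((k : ℤ) + 1)) * T (k : ℤ), mul_mem (C_mem P _) (T_nat_mem P k)⟩, ?_⟩
        apply Subtype.ext
        simp only [Subring.coe_mul, tGen]
        rw [mul_assoc, ← T_add]
      rw [this, tmul_zero]
    rw [h0]
    exact zero_mem _

theorem span_grK_eq_top :
    Submodule.span ℚ {g : Gr P | ∃ (n : ℕ) (z : K), z ∈ gammaFiltration P n ∧
      g = grK P (n : ℤ) z} = ⊤ := by
  rw [eq_top_iff]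
  intro g hg
  clear hg
  induction g using TensorProduct.induction_on with
  | zero => exact zero_mem _
  | tmul q y =>
    obtain ⟨r, rfl⟩ := Ideal.Quotient.mk_surjective y
    have h1 : q ⊗ₜ[ℤ] (Ideal.Quotient.mk (Ideal.span {tGen P}) r) = q • rho P r := by
      rw [rho_apply, TensorProduct.smul_tmul', smul_eq_mul, mul_one]
    rw [h1]
    refine Submodule.smul_mem _ _ ?_
    obtain ⟨f, hf⟩ := r
    have hsum : (⟨f, hf⟩ : rees P) =
        ∑ m ∈ f.coeff.support, (⟨C (f.coeff m) * T m, monomial_mem P hf m⟩ : rees P) := by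
      apply Subtype.ext
      change f = (rees P).subtype
        (∑ m ∈ f.coeff.support, (⟨C (f.coeff m) * T m, monomial_mem P hf m⟩ : rees P))
      rw [map_sum]
      simp only [Subring.subtype_apply]
      conv_lhs => rw [← AddMonoidAlgebra.sum_coeff_single f]
      simp only [Finsupp.sum, single_eq_C_mul_T]
    rw [hsum, map_sum]
    exact Submodule.sum_mem _ fun m _ => rho_monomial_mem P hf m
  | add a b ha hb => exact add_mem ha hb

end Surj

section Inj

/-- the coefficient of `t^{-n}` modulo `F^{n+1}` -/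
noncomputable def coefHom (n : ℕ) : rees P →+ K ⧸ gammaFiltration P (n + 1) where
  toFun r := QuotientAddGroup.mk (r.1.coeff (-(n : ℤ)))
  map_zero' := by simp
  map_add' := by
    intro a b
    simp [AddMonoidAlgebra.coeff_add]

theorem coefHom_tGen_mul (n : ℕ) (a : rees P) : coefHom P n (a * tGen P) = 0 := by
  unfold coefHom
  simp only [AddMonoidHom.coe_mk, ZeroHom.coe_mk, Subring.coe_mul, tGen]
  rw [QuotientAddGroup.eq_zero_iff]
  have h1 : (T 1 : LaurentPolynomial K) = AddMonoidAlgebra.single 1 1 := rfl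
  rw [h1, AddMonoidAlgebra.coeff_mul_single_apply, mul_one]
  have h2 := coeff_mem_of_mem_rees P a.2 (-(n : ℤ) + -1)
  have h3 : (-(-(n : ℤ) + -1)).toNat = n + 1 := by omega
  rwa [h3] at h2

/-- the coefficient map on `Gr_ℤ` -/
noncomputable def kappaZ (n : ℕ) : GrZ P →+ K ⧸ gammaFiltration P (n + 1) :=
  QuotientAddGroup.lift (Ideal.span {tGen P}).toAddSubgroup (coefHom P n) (by
    intro r hr
    rw [Submodule.mem_toAddSubgroup, Ideal.mem_span_singleton'] at hr
    obtain ⟨a, rfl⟩ := hr
    exact coefHom_tGen_mul P n a)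

theorem kappaZ_mk (n : ℕ) (r : rees P) :
    kappaZ P n (Ideal.Quotient.mk (Ideal.span {tGen P}) r) = coefHom P n r := rfl

/-- the rational coefficient map -/
noncomputable def kapQ (n : ℕ) : Gr P →ₗ[ℚ] ℚ ⊗[ℤ] (K ⧸ gammaFiltration P (n + 1)) :=
  (kappaZ P n).toIntLinearMap.baseChange ℚ

theorem kapQ_grK (n k : ℕ) {w : K} (hw : w ∈ gammaFiltration P k) :
    kapQ P n (grK P (k : ℤ) w) =
      if k = n then (1 : ℚ) ⊗ₜ[ℤ] (QuotientAddGroup.mk w : K ⧸ gammaFiltration P (n + 1))
      else 0 := by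
  rw [grK_of_mem P hw, rho_apply]
  unfold kapQ
  rw [LinearMap.baseChange_tmul]
  simp only [AddMonoidHom.coe_toIntLinearMap, kappaZ_mk]
  unfold coefHom
  simp only [AddMonoidHom.coe_mk, ZeroHom.coe_mk]
  rw [← single_eq_C_mul_T, AddMonoidAlgebra.coeff_single, Finsupp.single_apply]
  split_ifs with h1 h2 h2
  · rfl
  · exfalso
    apply h2
    omega
  · exfalso
    apply h1
    rw [h2]
  · simp

theorem kapQ_chK (hK : HasSplitting K P) (d : ℕ) (hd : gammaFiltration P (d + 1) = ⊥) (n : ℕ)
    (hn : n ≤ d) {z : K} (hz : z ∈ gammaFiltration P n) :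
    kapQ P n (chK P d z) =
      (1 : ℚ) ⊗ₜ[ℤ] (QuotientAddGroup.mk z : K ⧸ gammaFiltration P (n + 1)) := by
  rw [chK_eq_cht P hK d hd, map_sum, Finset.sum_eq_single n]
  · rw [map_smul]
    unfold cht
    rw [kapQ_grK P n n (pw_mem P hK n z), if_pos rfl]
    have h1 := pw_sub_factorial_mem P hK n hz
    have h2 : (QuotientAddGroup.mk (pw P n z) : K ⧸ gammaFiltration P (n + 1)) =
        (n.factorial : ℤ) • (QuotientAddGroup.mk z : K ⧸ gammaFiltration P (n + 1)) := by
      rw [← QuotientAddGroup.mk_zsmul, QuotientAddGroup.eq]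
      have h3 : -pw P n z + (n.factorial : ℤ) • z = -(pw P n z - (n.factorial : K) * z) := by
        rw [zsmul_eq_mul]
        push_cast
        ring
      rw [h3]
      exact neg_mem h1
    rw [h2, TensorProduct.tmul_smul, ← Int.cast_smul_eq_zsmul ℚ, smul_smul]
    have h4 : (1 / (n.factorial : ℚ)) * ((n.factorial : ℤ) : ℚ) = 1 := by
      have : (n.factorial : ℚ) ≠ 0 := by positivity
      push_cast
      field_simp
    rw [h4, one_smul]
  · intro k _ hkn
    rw [map_smul]
    unfold cht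
    rw [kapQ_grK P n k (pw_mem P hK k z), if_neg hkn, smul_zero]
  · intro h
    exact absurd (Finset.mem_range.2 (by omega)) h

/-- the Chern character as an additive map -/
noncomputable def chHom (hK : HasSplitting K P) (d : ℕ) (hd : gammaFiltration P (d + 1) = ⊥) :
    K →+ Gr P := AddMonoidHom.mk' (chK P d) (chK_add P hK d hd)

theorem exists_mul_mem (hK : HasSplitting K P) (d : ℕ) (hd : gammaFiltration P (d + 1) = ⊥)
    (x : K) (hx : chK P d x = 0) :
    ∀ n : ℕ, ∃ N : ℕ, 0 < N ∧ (N : K) * x ∈ gammaFiltration P n := by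
  intro n
  induction n with
  | zero => exact ⟨1, one_pos, mem_top_zero P _⟩
  | succ n ih =>
    obtain ⟨N, hN, hz⟩ := ih
    by_cases hnd : d + 1 ≤ n
    · refine ⟨N, hN, ?_⟩
      rw [eq_zero_of_mem_of_le P d hd hnd hz]
      exact zero_mem _
    · have hch : chK P d ((N : K) * x) = 0 := by
        have h := map_nsmul (chHom P hK d hd) N x
        rw [nsmul_eq_mul] at h
        change chK P d ((N : K) * x) = N • chK P d x at h
        rw [h, hx, smul_zero]
      have h1 := kapQ_chK P hK d hd n (by omega) hz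
      rw [hch, map_zero] at h1
      have h2 := (IsLocalizedModule.eq_zero_iff (nonZeroDivisors ℤ)
        (TensorProduct.mk ℤ ℚ (K ⧸ gammaFiltration P (n + 1)) 1)).1 h1.symm
      obtain ⟨c, hc⟩ := h2
      rw [Submonoid.smul_def, ← QuotientAddGroup.mk_zsmul, QuotientAddGroup.eq_zero_iff,
        zsmul_eq_mul] at hc
      have hc0 : (c : ℤ) ≠ 0 := nonZeroDivisors.coe_ne_zero c
      refine ⟨(c : ℤ).natAbs * N, Nat.mul_pos (Int.natAbs_pos.2 hc0) hN, ?_⟩
      have e : (((c : ℤ).natAbs * N : ℕ) : K) * x = ((|(c : ℤ)| : ℤ) : K) * ((N : K) * x) := by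
        rw [Nat.cast_mul, Nat.cast_natAbs]
        ring
      rw [e]
      rcases abs_choice (c : ℤ) with h | h
      · rw [h]
        exact hc
      · rw [h, Int.cast_neg, neg_mul]
        exact neg_mem hc

end Inj

section Main

theorem chK_bijective (hK : HasSplitting K P) (d : ℕ) (hd : gammaFiltration P (d + 1) = ⊥) :
    ∃ Φ : ℚ ⊗[ℤ] K →ₗ[ℚ] Gr P,
      (∀ x : K, Φ ((1 : ℚ) ⊗ₜ[ℤ] x) = chK P d x) ∧ Function.Bijective Φ := by
  have hΦ : ∀ x : K, ((chHom P hK d hd).toIntLinearMap.liftBaseChange ℚ) ((1 : ℚ) ⊗ₜ[ℤ] x) =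
      chK P d x := by
    intro x
    rw [LinearMap.liftBaseChange_tmul, one_smul]
    rfl
  refine ⟨(chHom P hK d hd).toIntLinearMap.liftBaseChange ℚ, hΦ, ?_, ?_⟩
  · rw [injective_iff_map_eq_zero]
    intro ξ hξ
    obtain ⟨⟨x, s⟩, hs⟩ := IsLocalizedModule.surj (nonZeroDivisors ℤ)
      (TensorProduct.mk ℤ ℚ K 1) ξ
    simp only [TensorProduct.mk_apply] at hs
    have hx : chK P d x = 0 := by
      rw [← hΦ x, ← hs, Submonoid.smul_def, map_zsmul, hξ, smul_zero]
    obtain ⟨N, hN, hNx⟩ := exists_mul_mem P hK d hd x hx (d + 1)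
    rw [hd] at hNx
    have h1 : (1 : ℚ) ⊗ₜ[ℤ] x = 0 := by
      have h2 := natCast_smul_one_tmul N x
      rw [(AddSubgroup.mem_bot).1 hNx, tmul_zero] at h2
      exact (smul_eq_zero.1 h2).resolve_left (by exact_mod_cast hN.ne')
    rw [h1, Submonoid.smul_def, ← Int.cast_smul_eq_zsmul ℚ] at hs
    exact (smul_eq_zero.1 hs).resolve_left
      (by exact_mod_cast nonZeroDivisors.coe_ne_zero s)
  · rw [← LinearMap.range_eq_top, LinearMap.range_liftBaseChange, eq_top_iff,
      ← span_grK_eq_top P]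
    apply Submodule.span_le.2
    rintro g ⟨n, z, hz, rfl⟩
    have h := grK_mem_span P hK d hd (d + 1) n (by omega) z hz
    refine Submodule.span_mono ?_ h
    rintro _ ⟨y, rfl⟩
    exact ⟨y, rfl⟩

end Main

end Groth.Agent.Helper3.KGrLib
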