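import Mathlib

/-!
# Sequential limits of K-injective complexes along termwise split epimorphisms
-/

open CategoryTheory Limits CochainComplex HomComplex Opposite

universe v u

namespace Groth.Agent.Helper3.KInjLim

variable {A : Type u} [Category.{v} A] [Abelian A]

section Step

variable {K X Y : CochainComplex A ℤ} (p : Y ⟶ X) (hp : ∀ m : ℤ, IsSplitEpi (p.f m))

include hp in
/-- inductive step: lift a null-homotopy along a termwise split epi of K-injectives -/
lemma step [X.IsKInjective] [Y.IsKInjective] (hK : K.Acyclic) (fY : K ⟶ Y)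
    (h : Cochain K X (-1)) (hh : δ (-1) 0 h = Cochain.ofHom (fY ≫ p)) :
    ∃ h' : Cochain K Y (-1), δ (-1) 0 h' = Cochain.ofHom fY ∧
      h'.comp (Cochain.ofHom p) (add_zero _) = h := by
  obtain ⟨h₀, hh₀⟩ := IsKInjective.eq_δ_of_cocycle (Cocycle.ofHom fY) hK (-1) (by simp)
  have hh₀' : δ (-1) 0 h₀ = Cochain.ofHom fY := hh₀
  let c : Cochain K X (-1) := h₀.comp (Cochain.ofHom p) (add_zero _) - h
  have hc : δ (-1) 0 c = 0 := by
    rw [δ_sub, δ_comp_ofHom, hh₀', hh, Cochain.ofHom_comp, sub_self]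
  obtain ⟨g, hg⟩ := IsKInjective.eq_δ_of_cocycle (Cocycle.mk c 0 (by simp) hc) hK (-2) (by simp)
  have hg' : δ (-2) (-1) g = c := hg
  let σ : Cochain X Y 0 := Cochain.ofHoms (fun m => (hp m).exists_splitEpi.some.section_)
  have hσ : σ.comp (Cochain.ofHom p) (add_zero 0) = Cochain.ofHom (𝟙 X) := by
    ext m
    simp [σ]
  let g' : Cochain K Y (-2) := g.comp σ (add_zero _)
  have hg'p : g'.comp (Cochain.ofHom p) (add_zero _) = g := by
    rw [Cochain.comp_assoc_of_third_is_zero_cochain, hσ, Cochain.comp_id]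
  refine ⟨h₀ - δ (-2) (-1) g', ?_, ?_⟩
  · rw [δ_sub, δ_δ, sub_zero, hh₀']
  · rw [Cochain.sub_comp, ← δ_comp_ofHom, hg'p, hg']
    simp [c]

end Step

section Lim

variable [HasLimitsOfShape ℕᵒᵖ A] (I : ℕᵒᵖ ⥤ CochainComplex A ℤ)

/-- evaluation of the limit cone is a limit -/
noncomputable def isLimitEval (j : ℤ) :
    IsLimit ((HomologicalComplex.eval A (ComplexShape.up ℤ) j).mapCone (limit.cone I)) :=
  isLimitOfPreserves _ (limit.isLimit I)

lemma cochain_ext {K : CochainComplex A ℤ} {m : ℤ} (a b : Cochain K (limit I) m)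
    (h : ∀ n : ℕ, a.comp (Cochain.ofHom (limit.π I (op n))) (add_zero m) =
      b.comp (Cochain.ofHom (limit.π I (op n))) (add_zero m)) : a = b := by
  ext i j hij
  apply (isLimitEval I j).hom_ext
  rintro ⟨n⟩
  have := congrArg (fun c => c.v i j hij) (h n)
  simp only [Cochain.comp_zero_cochain_v, Cochain.ofHom_v] at this
  exact this

lemma cochain_lift {K : CochainComplex A ℤ} {m : ℤ} (c : ∀ n : ℕ, Cochain K (I.obj (op n)) m)
    (hc : ∀ (n n' : ℕ) (φ : (op n' : ℕᵒᵖ) ⟶ op n),
      (c n').comp (Cochain.ofHom (I.map φ)) (add_zero m) = c n) :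
    ∃ a : Cochain K (limit I) m,
      ∀ n, a.comp (Cochain.ofHom (limit.π I (op n))) (add_zero m) = c n := by
  let cone : ∀ (i j : ℤ) (_ : i + m = j),
      Cone (I ⋙ HomologicalComplex.eval A (ComplexShape.up ℤ) j) := fun i j hij =>
    { pt := K.X i
      π :=
        { app := fun n => (c n.unop).v i j hij
          naturality := fun n₁ n₂ φ => by
            have := congrArg (fun c => c.v i j hij) (hc n₂.unop n₁.unop φ)
            dsimp at this ⊢
            rw [Cochain.comp_zero_cochain_v, Cochain.ofHom_v] at this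
            rw [Category.id_comp]
            exact this.symm } }
  refine ⟨Cochain.mk (fun i j hij => (isLimitEval I j).lift (cone i j hij)), fun n => ?_⟩
  ext i j hij
  rw [Cochain.comp_zero_cochain_v, Cochain.mk_v, Cochain.ofHom_v]
  exact (isLimitEval I j).fac (cone i j hij) (op n)

omit [HasLimitsOfShape ℕᵒᵖ A] in
lemma compat_of_succ {K : CochainComplex A ℤ} {m : ℤ} (c : ∀ n : ℕ, Cochain K (I.obj (op n)) m)
    (hc : ∀ n : ℕ, (c (n + 1)).comp (Cochain.ofHom (I.map (homOfLE (Nat.le_succ n)).op))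
      (add_zero m) = c n) (n n' : ℕ) (φ : (op n' : ℕᵒᵖ) ⟶ op n) :
    (c n').comp (Cochain.ofHom (I.map φ)) (add_zero m) = c n := by
  have hle : n ≤ n' := leOfHom φ.unop
  induction n', hle using Nat.le_induction with
  | base =>
    obtain rfl : φ = 𝟙 _ := Subsingleton.elim _ _
    rw [I.map_id, Cochain.comp_id]
  | succ k hk ih =>
    have : φ = (homOfLE (Nat.le_succ k)).op ≫ (homOfLE hk).op := Subsingleton.elim _ _
    rw [this, I.map_comp, Cochain.ofHom_comp, ← Cochain.comp_assoc_of_third_is_zero_cochain, hc k]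
    exact ih _

theorem isKInjective_limit (h1 : ∀ n : ℕ, (I.obj (op n)).IsKInjective)
    (h2 : ∀ (n : ℕ) (m : ℤ), IsSplitEpi ((I.map (homOfLE (Nat.le_succ n)).op).f m)) :
    (limit I).IsKInjective := by
  refine ⟨fun {K} f hK => ?_⟩
  let f' : ∀ n : ℕ, K ⟶ I.obj (op n) := fun n => f ≫ limit.π I (op n)
  have hf' : ∀ n : ℕ, f' (n + 1) ≫ I.map (homOfLE (Nat.le_succ n)).op = f' n := fun n => by
    simp only [f', Category.assoc, limit.w]
  let S : ℕ → Type _ := fun n =>
    {h : Cochain K (I.obj (op n)) (-1) // δ (-1) 0 h = Cochain.ofHom (f' n)}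
  have h0 : Nonempty (S 0) := by
    have := h1 0
    obtain ⟨h₀, hh₀⟩ := IsKInjective.eq_δ_of_cocycle (Cocycle.ofHom (f' 0)) hK (-1) (by simp)
    exact ⟨⟨h₀, hh₀⟩⟩
  have hstep : ∀ (n : ℕ) (s : S n), ∃ s' : S (n + 1),
      s'.1.comp (Cochain.ofHom (I.map (homOfLE (Nat.le_succ n)).op)) (add_zero _) = s.1 := by
    intro n s
    have := h1 n
    have := h1 (n + 1)
    obtain ⟨h', h1', h2'⟩ := step (I.map (homOfLE (Nat.le_succ n)).op) (h2 n) hK (f' (n + 1)) s.1
      (by rw [hf' n]; exact s.2)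
    exact ⟨⟨h', h1'⟩, h2'⟩
  let H : ∀ n, S n := fun n => Nat.rec (motive := S) h0.some (fun n s => (hstep n s).choose) n
  have hH : ∀ n : ℕ, (H (n + 1)).1.comp
      (Cochain.ofHom (I.map (homOfLE (Nat.le_succ n)).op)) (add_zero _) = (H n).1 :=
    fun n => (hstep n (H n)).choose_spec
  obtain ⟨a, ha⟩ := cochain_lift I (fun n => (H n).1) (compat_of_succ I (fun n => (H n).1) hH)
  have hδ : δ (-1) 0 a = Cochain.ofHom f := by
    apply cochain_ext
    intro n
    rw [← δ_comp_ofHom, ha n, (H n).2, Cochain.ofHom_comp]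
  exact ⟨(Cochain.equivHomotopy f 0).symm ⟨a, by simp [hδ]⟩⟩

end Lim

end Groth.Agent.Helper3.KInjLim
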