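import Mathlib
import Groth.Prelude.Def_Wider
import Groth.Prelude.Def_CAlg
import Groth.Prelude.Def_DRing2
import Groth.Agent.Lib.Helper3.DualSupp5

/-!
# The module `K_M = Ext^{-n}(M, ω)`: its higher `Ext` into `ω`
-/

set_option autoImplicit false
universe u
open CategoryTheory CategoryTheory.Limits Pretriangulated Triangulated Opposite

attribute [local instance] HasDerivedCategory.standard

namespace Groth.Agent.Helper3.KMod

open DerivedCategory Groth.Agent.Helper3.DualCx Groth.Agent.Helper3.RegGlDim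
  Groth.Agent.Helper3.DualFun Groth.Agent.Helper3.DualSupp

variable {A : Type u} [CommRing A] [IsLocalRing A] [IsNoetherianRing A] {ω : Dual.D A}
  (hω : Dual.IsDualizing A ω) (hn : Dual.IsNormalized A ω)

include hω hn in
/-- `Ext^m(K_M, ω)` is supported at `p` only for `m = -n` or `m ≤ j(p) - 2` -/
theorem add_two_le_of_mem_ES_K (d : Data A ω) (M : Type u) [AddCommGroup M] [Module A M]
    [Module.Finite A M] (n : ℕ) (hM : Module.supportDim A M ≤ n) (p : PrimeSpectrum A)
    (jp : ℤ) (hjp : ∀ i : ℤ, p ∈ ES ω i (A ⧸ p.asIdeal) ↔ i = jp) (m : ℤ) (hm : m ≠ -(n : ℤ))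
    (hp : p ∈ ES ω m (Dual.HD A (D d (ModuleCat.of A M)) (-(n : ℤ)))) : m + 2 ≤ jp := by
  by_contra hcon
  push Not at hcon
  let t : TStructure (Dual.D A) := TStructure.t
  let b : ℤ := -(n : ℤ) + 1
  let X : Dual.D A := D d (ModuleCat.of A M)
  have hiso : ∀ k : ℤ, (Dual.inD A M ⟶ ω⟦k⟧) ≃ₗ[A] Dual.HD A X k :=
    fun k => extIso d (ModuleCat.of A M) k
  obtain ⟨a', b', hab⟩ := hω.finite_injective_dimension
  haveI hge : X.IsGE (-(n : ℤ)) := isGE_of_subsingleton X (-(n : ℤ)) (fun k hk => by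
    haveI : Subsingleton (Dual.inD A M ⟶ ω⟦k⟧) :=
      van_lt_of_annihilated hω hn ⊥ M bot_le n hM k hk
    exact (hiso k).symm.toEquiv.subsingleton)
  haveI hle : X.IsLE b' := isLE_of_subsingleton X b' (fun k hk => by
    haveI : Subsingleton (Dual.inD A M ⟶ ω⟦k⟧) := hab M k (Or.inr hk)
    exact (hiso k).symm.toEquiv.subsingleton)
  have hT := t.triangleLTGE_distinguished b X
  have hT' := inv_rot_of_distTriang _ hT
  haveI hA0 : ((t.truncLT b).obj X).IsLE (b - 1) :=
    inferInstanceAs (t.IsLE ((t.truncLT b).obj X) (b - 1))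
  haveI hA1 : ((t.truncLT b).obj X).IsLE (-(n : ℤ)) :=
    t.isLE_of_le _ (b - 1) (-(n : ℤ)) (by simp only [b]; omega)
  haveI hA2 : ((t.truncLT b).obj X).IsGE (-(n : ℤ)) :=
    inferInstanceAs (t.IsGE ((t.truncLT b).obj X) (-(n : ℤ)))
  haveI hB1 : ((t.truncGE b).obj X).IsGE b := inferInstanceAs (t.IsGE ((t.truncGE b).obj X) b)
  haveI hB2 : ((t.truncGE b).obj X).IsLE b' := inferInstanceAs (t.IsLE ((t.truncGE b).obj X) b')
  let N : ℕ := (b' - b + 1).toNat
  haveI hB3 : ((t.truncGE b).obj X).IsLE (b + N - 1) :=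
    t.isLE_of_le _ b' (b + N - 1) (by simp only [N]; omega)
  let i : ℤ := m + n
  have hi : i ≠ 0 := by simp only [i]; omega
  -- the point `p` lies in the support of `Hom(τ_{≤ -n} X, ω[i])`
  have h1 : p ∈ Module.support A ((t.truncLT b).obj X ⟶ ω⟦i⟧) := by
    rw [support_hom_of_heart ω _ (-(n : ℤ)) i]
    have : i + -(n : ℤ) = m := by simp only [i]; omega
    rw [this]
    exact subset_ES_homology_truncLT ω X b (-(n : ℤ)) m (by simp only [b]; omega) hp
  -- but not in that of `Hom(X, ω[i])` or `Hom(τ_{> -n} X, ω[i+1])`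
  haveI : Subsingleton (X ⟶ ω⟦i⟧) := vanD_ne_zero d hω i hi M
  have h2 : p ∉ Module.support A (X ⟶ ω⟦i⟧) := by
    rw [Module.support_eq_empty]
    exact Set.notMem_empty _
  have h3 : p ∉ Module.support A ((t.truncGE b).obj X ⟶ ω⟦i + 1⟧) := by
    apply not_mem_support_hom_of_bounded ω p (i + 1) b N
    intro k hk
    have hk' := ES_homology_truncGE_subset ω X b k (i + 1 + k) hk
    haveI : Module.Finite A (Dual.HD A X k) := by
      haveI := finite_ext hω M k
      exact Module.Finite.equiv (hiso k)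
    have h4 := le_of_mem_ES hω p jp hjp (Dual.HD A X k) (i + 1 + k) hk'
    have hkb : b ≤ k := by
      by_contra hkb
      push Not at hkb
      haveI : Subsingleton (Dual.HD A ((t.truncGE b).obj X) k) :=
        ModuleCat.subsingleton_of_isZero
          (isZero_of_isGE ((t.truncGE b).obj X) b k hkb)
      rw [ES_eq_empty_of_subsingleton] at hk
      exact hk
    simp only [i, b] at h4 hkb
    omega
  rcases support_hom_subset_of_distTriang _ hT' (ω⟦i⟧) h1 with h | h
  · exact h2 h
  · obtain ⟨Φ, hΦ⟩ := exists_shift_injective ((t.truncGE b).obj X) ω i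
    exact h3 (Module.support_subset_of_injective Φ hΦ h)

end Groth.Agent.Helper3.KMod
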