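import Mathlib
import Groth.Prelude.Def_Wider
import Groth.Agent.Lib.Helper3.LocDual5
import Groth.Agent.Lib.Helper1.MatlisL2

/-!
# Local duality VI: consequences (annihilators, the complete case)
-/

set_option autoImplicit false
universe u
open CategoryTheory CategoryTheory.Limits Pretriangulated Opposite

attribute [local instance] HasDerivedCategory.standard

namespace Groth.Agent.Helper3.LocDual

open DerivedCategory Groth.Agent.Helper3.DualCx Groth.Agent.Helper3.DualFun
  Groth.Agent.Helper1.InjHullL Groth.Agent.Helper1.MatlisL Groth.Agent.Helper1.MatlisL2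

variable {A : Type u} [CommRing A] [IsLocalRing A] [IsNoetherianRing A]

/-- a model in `Type u` of the module `Hom_D(M, ω[j])` -/
lemma exists_model_ext {ω : Dual.D A} (hω : Dual.IsDualizing A ω) (M : Type u) [AddCommGroup M]
    [Module A M] [Module.Finite A M] (j : ℤ) :
    ∃ (N' : Type u) (_ : AddCommGroup N') (_ : Module A N')
      (_ : (Dual.inD A M ⟶ ω⟦j⟧) ≃ₗ[A] N'), Module.Finite A N' := by
  obtain ⟨dat⟩ := nonempty_data hω
  haveI : Module.Finite A (Dual.inD A M ⟶ ω⟦j⟧) := finite_ext hω M j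
  let e : (Dual.inD A M ⟶ ω⟦j⟧) ≃ₗ[A] Dual.HD A (D dat (ModuleCat.of A M)) j :=
    extIso dat (ModuleCat.of A M) j
  exact ⟨_, inferInstance, inferInstance, e, Module.Finite.equiv e⟩

theorem main_S1713 (A : Type u) [CommRing A] [IsLocalRing A] [IsNoetherianRing A] (ω : Dual.D A)
    (hω : Dual.IsDualizing A ω) (hn : Dual.IsNormalized A ω) (M : Type u) [AddCommGroup M]
    [Module A M] [Module.Finite A M] (i : ℕ) :
    Module.annihilator A (Dual.inD A M ⟶ ω⟦(-(i : ℤ))⟧) =
      Module.annihilator A (LocCoh.H (IsLocalRing.maximalIdeal A) i M) := by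
  obtain ⟨E, _, _, f, hf⟩ := exists_injectiveHull (R := A) (IsLocalRing.ResidueField A)
  obtain ⟨e⟩ := main_S11172 A ω hω hn E f hf M i
  obtain ⟨N', _, _, eN, _⟩ := exists_model_ext hω M (-(i : ℤ))
  rw [e.annihilator_eq, eN.annihilator_eq, annihilator_dual f hf N']
  exact (LinearEquiv.arrowCongr eN (LinearEquiv.refl A E)).symm.annihilator_eq

theorem main_S0374 (A : Type u) [CommRing A] [IsLocalRing A] [IsNoetherianRing A]
    [IsAdicComplete (IsLocalRing.maximalIdeal A) A] (ω : Dual.D A) (hω : Dual.IsDualizing A ω)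
    (hn : Dual.IsNormalized A ω) (E : Type u) [AddCommGroup E] [Module A E]
    (f : IsLocalRing.ResidueField A →ₗ[A] E) (hf : InjHull.IsInjectiveHull f) (M : Type u)
    [AddCommGroup M] [Module A M] [Module.Finite A M] (i : ℕ) :
    Nonempty ((Dual.inD A M ⟶ ω⟦(-(i : ℤ))⟧) ≃ₗ[A]
      (LocCoh.H (IsLocalRing.maximalIdeal A) i M →ₗ[A] E)) := by
  obtain ⟨e⟩ := main_S11172 A ω hω hn E f hf M i
  obtain ⟨N', _, _, eN, _⟩ := exists_model_ext hω M (-(i : ℤ))
  have hbij := (duality_finite f hf N').2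
  let e1 : N' ≃ₗ[A] ((N' →ₗ[A] E) →ₗ[A] E) := LinearEquiv.ofBijective _ hbij
  let e2 : (LocCoh.H (IsLocalRing.maximalIdeal A) i M →ₗ[A] E) ≃ₗ[A] ((N' →ₗ[A] E) →ₗ[A] E) :=
    LinearEquiv.arrowCongr (e.trans (LinearEquiv.arrowCongr eN (LinearEquiv.refl A E)))
      (LinearEquiv.refl A E)
  exact ⟨eN.trans (e1.trans e2.symm)⟩

end Groth.Agent.Helper3.LocDual
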