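import Mathlib
import Groth.Prelude.Def_Wider
import Groth.Prelude.Def_CAlg
import Groth.Prelude.Def_DRing2
import Groth.Agent.Lib.Helper3.KMod1
import Groth.Agent.Lib.Helper3.LocDual6
import Groth.Agent.Lib.Helper3.CplDual
import Groth.Agent.Lib.Helper3.LowOmega
import Groth.Agent.Lib.Helper8.Depth29

/-!
# S2936: the Matlis duals of the local cohomology of a finite module over a complete local ring
-/

set_option autoImplicit false
universe u
open CategoryTheory CategoryTheory.Limits Pretriangulated Triangulated Opposite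

attribute [local instance] HasDerivedCategory.standard

namespace Groth.Agent.Helper3.KMod

open DerivedCategory Groth.Agent.Helper3.DualCx Groth.Agent.Helper3.RegGlDim
  Groth.Agent.Helper3.DualFun Groth.Agent.Helper3.DualSupp Groth.Agent.Helper3.LowOmega
  Groth.Agent.Helper3.GorBC Groth.Agent.Helper3.GorLocus

/-- a minimal prime of the support of maximal dimension -/
lemma exists_minimalPrimes_annihilator_dim_eq {R : Type u} [CommRing R] (M : Type u)
    [AddCommGroup M] [Module R M] [Module.Finite R M] (n : ℕ)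
    (hn : Module.supportDim R M = n) :
    ∃ Q ∈ (Module.annihilator R M).minimalPrimes, ringKrullDim (R ⧸ Q) = n := by
  have h1 : ((n : ℕ) : WithBot ℕ∞) ≤ Order.krullDim (Module.support R M) := by
    rw [← hn]; rfl
  obtain ⟨l, hl⟩ := Order.le_krullDim_iff.1 h1
  have hhead : Module.annihilator R M ≤ l.head.1.asIdeal :=
    Module.mem_support_iff_of_finite.1 l.head.2
  haveI := l.head.1.isPrime
  obtain ⟨Q, hQ, hQle⟩ := Ideal.exists_minimalPrimes_le hhead
  haveI hQprime : Q.IsPrime := hQ.1.1
  refine ⟨Q, hQ, le_antisymm ?_ ?_⟩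
  · rw [← hn]
    have hQs : (⟨Q, hQprime⟩ : PrimeSpectrum R) ∈ Module.support R M :=
      Module.mem_support_iff_of_finite.2 hQ.1.2
    exact Groth.Agent.Helper8.Depth.dim_quotient_le_supportDim_of_mem_support ⟨Q, hQprime⟩ hQs
  · rw [ringKrullDim_quotient]
    have hmem : ∀ i, (l i).1 ∈ PrimeSpectrum.zeroLocus (Q : Set R) := by
      intro i
      rw [PrimeSpectrum.mem_zeroLocus]
      have h2 : l.head ≤ l i := LTSeries.head_le l i
      exact hQle.trans ((PrimeSpectrum.asIdeal_le_asIdeal _ _).2 h2)
    let l' : LTSeries (PrimeSpectrum.zeroLocus (Q : Set R)) :=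
      { length := l.length
        toFun := fun i => ⟨(l i).1, hmem i⟩
        step := fun i => l.step i }
    have := Order.LTSeries.length_le_krullDim l'
    rw [← hl]
    exact this

theorem main_S2936 (A : Type u) [CommRing A] [IsLocalRing A] [IsNoetherianRing A]
    [IsAdicComplete (IsLocalRing.maximalIdeal A) A] (E : Type u) [AddCommGroup E] [Module A E]
    (f : IsLocalRing.ResidueField A →ₗ[A] E) (hf : InjHull.IsInjectiveHull f) (M : Type u)
    [AddCommGroup M] [Module A M] [Module.Finite A M] [Nontrivial M] (n : ℕ)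
    (hn : Module.supportDim A M = n) :
    (∀ i : ℕ, Module.Finite A (LocCoh.H (IsLocalRing.maximalIdeal A) i M →ₗ[A] E) ∧
      Module.supportDim A (LocCoh.H (IsLocalRing.maximalIdeal A) i M →ₗ[A] E) ≤
        (i : WithBot ℕ∞)) ∧
    Module.supportDim A (LocCoh.H (IsLocalRing.maximalIdeal A) n M →ₗ[A] E) = n ∧
    associatedPrimes A (LocCoh.H (IsLocalRing.maximalIdeal A) n M →ₗ[A] E) =
      {p | p ∈ associatedPrimes A M ∧ ringKrullDim (A ⧸ p) = n} := by
  -- a normalized dualizing complex
  obtain ⟨ω₀, hω₀⟩ := Groth.Agent.Helper3.CplDual.main_S0376 A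
  obtain ⟨n₀, hvan, -⟩ := main_S0364 A ω₀ hω₀ (IsLocalRing.maximalIdeal A)
  let ω : Dual.D A := ω₀⟦n₀⟧
  have hω : Dual.IsDualizing A ω := isDualizing_shift hω₀ n₀
  have hnorm : Dual.IsNormalized A ω :=
    fun i hi => van_shift ω₀ n₀ i _ (hvan (n₀ + i) (by omega))
  have he : ∀ i : ℕ, Nonempty ((Dual.inD A M ⟶ ω⟦(-(i : ℤ))⟧) ≃ₗ[A]
      (LocCoh.H (IsLocalRing.maximalIdeal A) i M →ₗ[A] E)) :=
    fun i => Groth.Agent.Helper3.LocDual.main_S0374 A ω hω hnorm E f hf M i
  have part1 : ∀ i : ℕ, Module.Finite A (LocCoh.H (IsLocalRing.maximalIdeal A) i M →ₗ[A] E) ∧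
      Module.supportDim A (LocCoh.H (IsLocalRing.maximalIdeal A) i M →ₗ[A] E) ≤
        (i : WithBot ℕ∞) := by
    intro i
    obtain ⟨e⟩ := he i
    haveI := finite_ext hω M (-(i : ℤ))
    refine ⟨Module.Finite.equiv e, ?_⟩
    rw [← Module.supportDim_eq_of_equiv e]
    have := (main_S0366 A ω hω hnorm M n hn (-(i : ℤ))).2
    simpa using this
  -- the dimension function
  obtain ⟨j, hj1, hcov⟩ := exists_dimFun hω
  have hmono : ∀ p q : PrimeSpectrum A, p < q → j p < j q :=
    fun p q hpq => strictMono_of_covBy j hcov p.asIdeal p rfl q hpq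
  have hjdim : ∀ (q : PrimeSpectrum A) (e : ℕ), ringKrullDim (A ⧸ q.asIdeal) = e →
      j q = -(e : ℤ) :=
    fun q e he => eq_neg_dim_of_mem_ES hω hnorm q e he (j q) ((hj1 q (j q)).2 rfl)
  have hdimle : ∀ (q : PrimeSpectrum A), q ∈ Module.support A M → -(n : ℤ) ≤ j q := by
    intro q hq
    obtain ⟨e, he⟩ := exists_nat_ringKrullDim_quotient hω q
    have h1 := Groth.Agent.Helper8.Depth.dim_quotient_le_supportDim_of_mem_support q hq
    rw [he, hn] at h1
    have h2 : e ≤ n := by exact_mod_cast h1
    rw [hjdim q e he]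
    omega
  -- primes of the support with `j = -n` are minimal
  have hminimal : ∀ P : PrimeSpectrum A, P ∈ Module.support A M → j P = -(n : ℤ) →
      ∀ q' : PrimeSpectrum A, q' ∈ Module.support A M → q' ≤ P → q' = P := by
    intro P _ hjP q' hq' hle
    by_contra hne
    have := hmono q' P (lt_of_le_of_ne hle hne)
    have := hdimle q' hq'
    omega
  have hass_of_minimal : ∀ (N : Type u) [AddCommGroup N] [Module A N] [Module.Finite A N]
      (P : PrimeSpectrum A), P ∈ Module.support A N →
      (∀ q' : PrimeSpectrum A, q' ∈ Module.support A N → q' ≤ P → q' = P) →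
      P.asIdeal ∈ associatedPrimes A N := by
    intro N _ _ _ P hP hmin
    apply Module.associatedPrimes.minimalPrimes_annihilator_subset_associatedPrimes A N
    refine ⟨⟨P.isPrime, Module.mem_support_iff_of_finite.1 hP⟩, ?_⟩
    rintro Q' ⟨hQ'prime, hQ'ann⟩ hQ'P
    let q' : PrimeSpectrum A := ⟨Q', hQ'prime⟩
    have h1 : q' ∈ Module.support A N := Module.mem_support_iff_of_finite.2 hQ'ann
    have h2 := hmin q' h1 ((PrimeSpectrum.asIdeal_le_asIdeal _ _).1 hQ'P)
    rw [← h2]
  -- the module `K`
  obtain ⟨d⟩ := nonempty_data hω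
  let K : Type u := Dual.HD A (D d (ModuleCat.of A M)) (-(n : ℤ))
  let eK : (Dual.inD A M ⟶ ω⟦(-(n : ℤ))⟧) ≃ₗ[A] K := extIso d (ModuleCat.of A M) (-(n : ℤ))
  haveI hfinExt : Module.Finite A (Dual.inD A M ⟶ ω⟦(-(n : ℤ))⟧) := finite_ext hω M (-(n : ℤ))
  haveI hfinK : Module.Finite A K := Module.Finite.equiv eK
  have hsuppK : Module.support A K = ES ω (-(n : ℤ)) M := eK.symm.support_eq
  obtain ⟨e⟩ := he n
  refine ⟨part1, ?_, ?_⟩
  · -- the dimension is exactly `n`
    refine le_antisymm (part1 n).2 ?_
    obtain ⟨Q, hQ, hQd⟩ := exists_minimalPrimes_annihilator_dim_eq M n hn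
    let q : PrimeSpectrum A := ⟨Q, hQ.1.1⟩
    have hqs : q ∈ Module.support A M := Module.mem_support_iff_of_finite.2 hQ.1.2
    have hjq : j q = -(n : ℤ) := hjdim q n hQd
    have hqmin := hminimal q hqs hjq
    have h1 := (mem_ES_of_minimal hω j hj1 M q hqs hqmin).1
    rw [hjq] at h1
    have h2 := Groth.Agent.Helper8.Depth.dim_quotient_le_supportDim_of_mem_support q h1
    rw [hQd, Module.supportDim_eq_of_equiv e] at h2
    exact h2
  · -- the associated primes
    rw [LinearEquiv.AssociatedPrimes.eq (e.symm.trans eK)]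
    ext p
    simp only [Set.mem_setOf_eq]
    constructor
    · intro hp
      haveI hpprime : p.IsPrime := hp.isPrime
      let P : PrimeSpectrum A := ⟨p, hpprime⟩
      have hPK : P ∈ Module.support A K :=
        Groth.Agent.Helper8.Depth.mem_support_of_mem_associatedPrimes hp
      have hPES : P ∈ ES ω (-(n : ℤ)) M := by rw [← hsuppK]; exact hPK
      have hPM : P ∈ Module.support A M := ES_subset_support ω _ M hPES
      have hdepth : LocCoh.depth (Localization.AtPrime p) (LocalizedModule p.primeCompl K) = 0 :=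
        (Groth.Agent.Helper8.Depth.depth_localizedModule_eq_zero_iff p K).2 hp
      haveI hnt : Nontrivial (LocalizedModule P.asIdeal.primeCompl K) :=
        Module.mem_support_iff.1 hPK
      obtain ⟨r, D', hr1, -, hr2, -, -⟩ := range_at hω j hj1 hcov P K
      have hr0 : r = 0 := by
        have h1 : LocCoh.depth (Localization.AtPrime P.asIdeal)
            (LocalizedModule P.asIdeal.primeCompl K) = 0 := hdepth
        rw [hr1] at h1
        exact_mod_cast h1
      rw [hr0] at hr2
      have hjP : j P = -(n : ℤ) := by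
        by_contra hne
        have := add_two_le_of_mem_ES_K hω hnorm d M n hn.le P (j P) (hj1 P) (j P - ((0 : ℕ) : ℤ))
          (by push_cast; omega) hr2
        push_cast at this
        omega
      refine ⟨hass_of_minimal M P hPM (hminimal P hPM hjP), ?_⟩
      obtain ⟨e', he'⟩ := exists_nat_ringKrullDim_quotient hω P
      have h1 := hjdim P e' he'
      have h2 : e' = n := by omega
      rw [← h2]
      exact he'
    · rintro ⟨hp, hpd⟩
      haveI hpprime : p.IsPrime := hp.isPrime
      let P : PrimeSpectrum A := ⟨p, hpprime⟩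
      have hPM : P ∈ Module.support A M :=
        Groth.Agent.Helper8.Depth.mem_support_of_mem_associatedPrimes hp
      have hjP : j P = -(n : ℤ) := hjdim P n hpd
      have hPmin := hminimal P hPM hjP
      have h1 := (mem_ES_of_minimal hω j hj1 M P hPM hPmin).1
      rw [hjP] at h1
      have hPK : P ∈ Module.support A K := by rw [hsuppK]; exact h1
      refine hass_of_minimal K P hPK ?_
      intro q' hq' hle
      have hq'M : q' ∈ Module.support A M := by
        rw [hsuppK] at hq'
        exact ES_subset_support ω _ M hq'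
      exact hPmin q' hq'M hle

end Groth.Agent.Helper3.KMod
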