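import Groth.Agent.Lib.Helper3.KPush1
import Groth.Agent.Lib.Helper6.DRef.FreeSec
import Groth.Prelude.Def_CohCx

/-!
# Hypercohomology of a K-injective complex of sheaves via sections
-/

universe u

open CategoryTheory Limits Opposite DerivedCategory

namespace Groth.Agent.Helper3.KPush

open Groth.Agent.Helper6.DRef

variable {C : Type u} [SmallCategory C] {J : GrothendieckTopology C}
  [HasDerivedCategory.{u} (Sheaf J AddCommGrpCat.{u})]

section

variable (U : C) (L : CochainComplex (Sheaf J AddCommGrpCat.{u}) ℤ) (n : ℤ)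

lemma secEquiv_symm_comp_d (s : ToType ((L.X n).obj.obj (op U)))
    (hs : (L.d n (n + 1)).hom.app (op U) s = 0) :
    (secEquiv J U (L.X n)).symm s ≫ L.d n (n + 1) = 0 := by
  apply (secEquiv J U _).injective
  rw [secEquiv_comp, Equiv.apply_symm_apply, hs, secEquiv_zero]

/-- the class in `Hⁿ(U, L)` of a cycle section -/
noncomputable def clsSec (s : ToType ((L.X n).obj.obj (op U)))
    (hs : (L.d n (n + 1)).hom.app (op U) s = 0) : CohCx.HDU (Q.obj L) n U :=
  clsHom ((Fr J).obj U) L n ((secEquiv J U (L.X n)).symm s) (secEquiv_symm_comp_d U L n s hs)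

variable {U L n}

lemma clsSec_surjective [L.IsKInjective] (ξ : CohCx.HDU (Q.obj L) n U) :
    ∃ (s : ToType ((L.X n).obj.obj (op U))) (hs : (L.d n (n + 1)).hom.app (op U) s = 0),
      clsSec U L n s hs = ξ := by
  obtain ⟨z, hz, rfl⟩ := clsHom_surjective (P := (Fr J).obj U) (L := L) (n := n) ξ
  refine ⟨secEquiv J U _ z, ?_, ?_⟩
  · rw [← secEquiv_comp, hz, secEquiv_zero]
  · unfold clsSec
    congr 1
    exact Equiv.symm_apply_apply _ _

lemma clsSec_eq_zero_iff [L.IsKInjective] (s : ToType ((L.X n).obj.obj (op U)))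
    (hs : (L.d n (n + 1)).hom.app (op U) s = 0) :
    clsSec U L n s hs = 0 ↔
      ∃ y : ToType ((L.X (n - 1)).obj.obj (op U)), (L.d (n - 1) n).hom.app (op U) y = s := by
  refine Iff.trans (clsHom_eq_zero_iff ((secEquiv J U (L.X n)).symm s)
    (secEquiv_symm_comp_d U L n s hs)) ?_
  constructor
  · rintro ⟨y, hy⟩
    refine ⟨secEquiv J U _ y, ?_⟩
    rw [← secEquiv_comp, hy, Equiv.apply_symm_apply]
  · rintro ⟨y, hy⟩
    refine ⟨(secEquiv J U _).symm y, ?_⟩
    apply (secEquiv J U _).injective
    rw [secEquiv_comp, Equiv.apply_symm_apply, Equiv.apply_symm_apply, hy]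

lemma clsSec_add (s s' : ToType ((L.X n).obj.obj (op U)))
    (hs : (L.d n (n + 1)).hom.app (op U) s = 0) (hs' : (L.d n (n + 1)).hom.app (op U) s' = 0) :
    clsSec U L n (s + s') (by rw [map_add, hs, hs', add_zero]) =
      clsSec U L n s hs + clsSec U L n s' hs' := by
  have h := clsHom_add (P := (Fr J).obj U) (L := L) (n := n) ((secEquiv J U (L.X n)).symm s)
    ((secEquiv J U (L.X n)).symm s') (secEquiv_symm_comp_d U L n s hs)
    (secEquiv_symm_comp_d U L n s' hs')
  refine Eq.trans ?_ h
  unfold clsSec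
  congr 1
  apply (secEquiv J U _).injective
  rw [secEquiv_add, Equiv.apply_symm_apply, Equiv.apply_symm_apply, Equiv.apply_symm_apply]

lemma clsSec_neg (s : ToType ((L.X n).obj.obj (op U)))
    (hs : (L.d n (n + 1)).hom.app (op U) s = 0) :
    clsSec U L n (-s) (by rw [map_neg, hs, neg_zero]) = -clsSec U L n s hs := by
  have h := clsSec_add (U := U) (L := L) (n := n) s (-s) hs (by rw [map_neg, hs, neg_zero])
  have h0 : clsSec U L n (s + -s) (by rw [map_add, map_neg, hs, add_neg_cancel]) = 0 := by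
    have : clsSec U L n (s + -s) (by rw [map_add, map_neg, hs, add_neg_cancel]) =
        clsSec U L n 0 (map_zero _) := by
      congr 1
      exact add_neg_cancel s
    rw [this]
    unfold clsSec
    have : (secEquiv J U (L.X n)).symm 0 = 0 := by
      apply (secEquiv J U _).injective
      rw [Equiv.apply_symm_apply, secEquiv_zero]
    simp only [this]
    exact clsHom_zero
  rw [h0] at h
  exact (neg_eq_of_add_eq_zero_right h.symm).symm

lemma clsSec_eq_iff [L.IsKInjective] (s s' : ToType ((L.X n).obj.obj (op U)))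
    (hs : (L.d n (n + 1)).hom.app (op U) s = 0) (hs' : (L.d n (n + 1)).hom.app (op U) s' = 0) :
    clsSec U L n s hs = clsSec U L n s' hs' ↔
      ∃ y : ToType ((L.X (n - 1)).obj.obj (op U)),
        (L.d (n - 1) n).hom.app (op U) y = s - s' := by
  have hneg := clsSec_neg s' hs'
  have hadd := clsSec_add s (-s') hs (by rw [map_neg, hs', neg_zero])
  constructor
  · intro h
    have h0 : clsSec U L n (s + -s') (by rw [map_add, map_neg, hs, hs', neg_zero, add_zero]) =
        0 := by
      rw [hadd, hneg, h, add_neg_cancel]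
    obtain ⟨y, hy⟩ := (clsSec_eq_zero_iff _ _).1 h0
    exact ⟨y, by rw [hy, sub_eq_add_neg]⟩
  · rintro ⟨y, hy⟩
    have h0 : clsSec U L n (s + -s') (by rw [map_add, map_neg, hs, hs', neg_zero, add_zero]) =
        0 := (clsSec_eq_zero_iff _ _).2 ⟨y, by rw [hy, sub_eq_add_neg]⟩
    rw [hadd, hneg] at h0
    exact add_neg_eq_zero.1 h0

lemma clsSec_res {V : C} (g : V ⟶ U) (s : ToType ((L.X n).obj.obj (op U)))
    (hs : (L.d n (n + 1)).hom.app (op U) s = 0) :
    CohCx.HDUres (Q.obj L) n g (clsSec U L n s hs) =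
      clsSec V L n ((L.X n).obj.map g.op s) (by
        have := ConcreteCategory.congr_hom ((L.d n (n + 1)).hom.naturality g.op) s
        refine this.trans ?_
        change (L.X (n + 1)).obj.map g.op ((L.d n (n + 1)).hom.app (op U) s) = 0
        rw [hs, map_zero]) := by
  unfold clsSec
  have h := clsHom_precomp (L := L) (n := n) ((Fr J).map g) ((secEquiv J U (L.X n)).symm s)
    (secEquiv_symm_comp_d U L n s hs)
  refine h.trans ?_
  congr 1
  apply (secEquiv J V _).injective
  rw [secEquiv_map_comp, Equiv.apply_symm_apply, Equiv.apply_symm_apply]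

/-- `Hⁿ(U, L) = 0` iff the complex of sections of the K-injective complex `L` over `U` is exact
in degree `n` -/
theorem subsingleton_HDU_iff [L.IsKInjective] :
    Subsingleton (CohCx.HDU (Q.obj L) n U) ↔
      ∀ (s : ToType ((L.X n).obj.obj (op U))), (L.d n (n + 1)).hom.app (op U) s = 0 →
        ∃ y : ToType ((L.X (n - 1)).obj.obj (op U)), (L.d (n - 1) n).hom.app (op U) y = s := by
  constructor
  · intro h s hs
    rw [← clsSec_eq_zero_iff s hs]
    exact Subsingleton.elim _ _
  · intro h
    refine ⟨fun ξ ξ' => ?_⟩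
    obtain ⟨s, hs, rfl⟩ := clsSec_surjective ξ
    obtain ⟨s', hs', rfl⟩ := clsSec_surjective ξ'
    rw [(clsSec_eq_zero_iff s hs).2 (h s hs), (clsSec_eq_zero_iff s' hs').2 (h s' hs')]

end

end Groth.Agent.Helper3.KPush
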