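import Mathlib

/-!
# A right adjoint of an exact functor preserves K-injective complexes
-/

universe v v' u u'

open CategoryTheory Limits

namespace Groth.Agent.Helper3.KPush

variable {A : Type u} [Category.{v} A] [Abelian A] {B : Type u'} [Category.{v'} B] [Abelian B]
  {Ψ : B ⥤ A} {Φ : A ⥤ B} (adj : Ψ ⊣ Φ) [Ψ.Additive] [Φ.Additive]

/-- the unit of the adjunction, with explicit types -/
noncomputable def η (X : B) : X ⟶ Φ.obj (Ψ.obj X) := adj.unit.app X

/-- the counit of the adjunction, with explicit types -/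
noncomputable def ε (Y : A) : Ψ.obj (Φ.obj Y) ⟶ Y := adj.counit.app Y

lemma η_naturality {X X' : B} (g : X ⟶ X') : g ≫ η adj X' = η adj X ≫ Φ.map (Ψ.map g) :=
  adj.unit.naturality g

lemma ε_naturality {Y Y' : A} (g : Y ⟶ Y') : Ψ.map (Φ.map g) ≫ ε adj Y' = ε adj Y ≫ g :=
  adj.counit.naturality g

lemma η_ε (Y : A) : η adj (Φ.obj Y) ≫ Φ.map (ε adj Y) = 𝟙 _ :=
  adj.right_triangle_components Y

/-- components with explicit types -/
def gc {M : CochainComplex B ℤ} {I : CochainComplex A ℤ}
    (g : M ⟶ (Φ.mapHomologicalComplex (ComplexShape.up ℤ)).obj I) (n : ℤ) :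
    M.X n ⟶ Φ.obj (I.X n) := g.f n

lemma gc_comm {M : CochainComplex B ℤ} {I : CochainComplex A ℤ}
    (g : M ⟶ (Φ.mapHomologicalComplex (ComplexShape.up ℤ)).obj I) (i j : ℤ) :
    gc g i ≫ Φ.map (I.d i j) = M.d i j ≫ gc g j := g.comm i j

/-- the unit of the adjunction, on complexes -/
noncomputable def unitCx (M : CochainComplex B ℤ) :
    M ⟶ (Φ.mapHomologicalComplex (ComplexShape.up ℤ)).obj
      ((Ψ.mapHomologicalComplex (ComplexShape.up ℤ)).obj M) where
  f n := η adj (M.X n)
  comm' i j _ := by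
    change η adj (M.X i) ≫ Φ.map (Ψ.map (M.d i j)) = M.d i j ≫ η adj (M.X j)
    exact (η_naturality adj (M.d i j)).symm

/-- the adjoint of a morphism of complexes -/
noncomputable def flat {M : CochainComplex B ℤ} {I : CochainComplex A ℤ}
    (g : M ⟶ (Φ.mapHomologicalComplex (ComplexShape.up ℤ)).obj I) :
    (Ψ.mapHomologicalComplex (ComplexShape.up ℤ)).obj M ⟶ I where
  f n := Ψ.map (gc g n) ≫ ε adj (I.X n)
  comm' i j _ := by
    change (Ψ.map (gc g i) ≫ ε adj (I.X i)) ≫ I.d i j =
      Ψ.map (M.d i j) ≫ Ψ.map (gc g j) ≫ ε adj (I.X j)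
    rw [Category.assoc, ← ε_naturality adj (I.d i j), ← Category.assoc, ← Category.assoc,
      ← Functor.map_comp, ← Functor.map_comp, gc_comm]

lemma unitCx_flat {M : CochainComplex B ℤ} {I : CochainComplex A ℤ}
    (g : M ⟶ (Φ.mapHomologicalComplex (ComplexShape.up ℤ)).obj I) :
    unitCx adj M ≫ (Φ.mapHomologicalComplex (ComplexShape.up ℤ)).map (flat adj g) = g := by
  ext n
  change η adj (M.X n) ≫ Φ.map (Ψ.map (gc g n) ≫ ε adj (I.X n)) = gc g n
  rw [Functor.map_comp, ← Category.assoc, ← η_naturality adj (gc g n), Category.assoc, η_ε]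
  exact Category.comp_id _

include adj in
theorem isKInjective_map [Ψ.PreservesHomology] (I : CochainComplex A ℤ) [I.IsKInjective] :
    CochainComplex.IsKInjective ((Φ.mapHomologicalComplex (ComplexShape.up ℤ)).obj I) where
  nonempty_homotopy_zero {M} g hM := by
    have hM' : ((Ψ.mapHomologicalComplex (ComplexShape.up ℤ)).obj M).Acyclic := by
      intro n
      exact (hM n).map Ψ
    have h := CochainComplex.IsKInjective.homotopyZero (flat adj g) hM'
    have h2 := (Φ.mapHomotopy h).compLeft (unitCx adj M)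
    rw [unitCx_flat] at h2
    refine ⟨h2.trans (Homotopy.ofEq ?_)⟩
    rw [Functor.map_zero, comp_zero]

end Groth.Agent.Helper3.KPush
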