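import Groth.Agent.Lib.Helper3.KPush2
import Groth.Agent.Lib.Helper3.KPush3
import Groth.Prelude.Def_CohTop

/-!
# Pushforward of a K-injective complex of abelian sheaves along a continuous map
-/

universe u

open CategoryTheory Limits Opposite DerivedCategory TopologicalSpace

namespace Groth.Agent.Helper3.KPush

variable {X Y : TopCat.{u}} (f : X ⟶ Y)

set_option synthInstance.maxHeartbeats 200000 in
instance pull_preservesFiniteLimits : PreservesFiniteLimits (CohTop.pull f) := by
  haveI : ReflectsLimits (forget AddCommGrpCat.{u}) := reflectsLimits_of_reflectsIsomorphisms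
  haveI h1 : PreservesFiniteLimits ((Opens.map f).op.lan :
      ((Opens Y)ᵒᵖ ⥤ AddCommGrpCat.{u}) ⥤ ((Opens X)ᵒᵖ ⥤ AddCommGrpCat.{u})) :=
    lan_preservesFiniteLimits_of_flat (E := AddCommGrpCat.{u}) (Opens.map f)
  exact Functor.sheafPullbackConstruction.preservesFiniteLimits (Opens.map f) AddCommGrpCat.{u}
    (Opens.grothendieckTopology Y) (Opens.grothendieckTopology X)

/-- the adjunction `f⁻¹ ⊣ f_*` -/
noncomputable def pullPushAdj : CohTop.pull f ⊣ CohTop.push f :=
  TopCat.Sheaf.pullbackPushforwardAdjunction AddCommGrpCat.{u} f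

instance pull_preservesFiniteColimits : PreservesFiniteColimits (CohTop.pull f) := by
  have := (pullPushAdj f).leftAdjoint_preservesColimits
  infer_instance

instance pull_additive : (CohTop.pull f).Additive := (pullPushAdj f).left_adjoint_additive

instance pull_preservesHomology : (CohTop.pull f).PreservesHomology := inferInstance

/-- the termwise pushforward of a complex -/
noncomputable abbrev pushCx (I : CochainComplex (CohTop.Ab X) ℤ) : CochainComplex (CohTop.Ab Y) ℤ :=
  ((CohTop.push f).mapHomologicalComplex (ComplexShape.up ℤ)).obj I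

instance isKInjective_pushCx (I : CochainComplex (CohTop.Ab X) ℤ) [I.IsKInjective] :
    (pushCx f I).IsKInjective :=
  isKInjective_map (pullPushAdj f) I

variable [HasDerivedCategory.{u} (CohTop.Ab X)] [HasDerivedCategory.{u} (CohTop.Ab Y)]

/-- `Hⁿ(V, f_* I) = 0` iff `Hⁿ(f⁻¹V, I) = 0`, for a K-injective complex `I` -/
theorem subsingleton_HDU_pushCx_iff (I : CochainComplex (CohTop.Ab X) ℤ) [I.IsKInjective]
    (n : ℤ) (V : Opens Y) :
    Subsingleton (CohCx.HDU (Q.obj (pushCx f I)) n V) ↔
      Subsingleton (CohCx.HDU (Q.obj I) n ((Opens.map f).obj V)) := by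
  rw [subsingleton_HDU_iff, subsingleton_HDU_iff]
  exact Iff.rfl

end Groth.Agent.Helper3.KPush
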