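import Groth.Agent.Lib.Helper3.KPush4

/-!
# The presheaf `V ↦ Hⁿ(f⁻¹V, I)` for a K-injective complex `I`
-/

universe u

open CategoryTheory Limits Opposite DerivedCategory TopologicalSpace

namespace Groth.Agent.Helper3.KPush

variable {X Y : TopCat.{u}} (f : X ⟶ Y)
  [HasDerivedCategory.{u} (CohTop.Ab X)] [HasDerivedCategory.{u} (CohTop.Ab Y)]
  (I : CochainComplex (CohTop.Ab X) ℤ) (n : ℤ)

section

variable (V : Opens Y)

/-- a cycle section of `f_* I` over `V` is a cycle section of `I` over `f⁻¹V` -/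
noncomputable def clsX (s : ToType (((pushCx f I).X n).obj.obj (op V)))
    (hs : ((pushCx f I).d n (n + 1)).hom.app (op V) s = 0) :
    CohCx.HDU (Q.obj I) n ((Opens.map f).obj V) :=
  clsSec ((Opens.map f).obj V) I n s hs

variable {V}

lemma clsX_eq_iff [I.IsKInjective] (s s' : ToType (((pushCx f I).X n).obj.obj (op V)))
    (hs : ((pushCx f I).d n (n + 1)).hom.app (op V) s = 0)
    (hs' : ((pushCx f I).d n (n + 1)).hom.app (op V) s' = 0) :
    clsX f I n V s hs = clsX f I n V s' hs' ↔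
      clsSec V (pushCx f I) n s hs = clsSec V (pushCx f I) n s' hs' := by
  unfold clsX
  rw [clsSec_eq_iff, clsSec_eq_iff]
  exact Iff.rfl

lemma clsX_surjective [I.IsKInjective] (ξ : CohCx.HDU (Q.obj I) n ((Opens.map f).obj V)) :
    ∃ (s : ToType (((pushCx f I).X n).obj.obj (op V)))
      (hs : ((pushCx f I).d n (n + 1)).hom.app (op V) s = 0), clsX f I n V s hs = ξ := by
  obtain ⟨s, hs, rfl⟩ := clsSec_surjective (L := I) ξ
  exact ⟨s, hs, rfl⟩

lemma clsX_res {V' : Opens Y} (g : V' ⟶ V) (s : ToType (((pushCx f I).X n).obj.obj (op V)))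
    (hs : ((pushCx f I).d n (n + 1)).hom.app (op V) s = 0)
    (hs' : ((pushCx f I).d n (n + 1)).hom.app (op V')
      (((pushCx f I).X n).obj.map g.op s) = 0) :
    CohCx.HDUres (Q.obj I) n ((Opens.map f).map g) (clsX f I n V s hs) =
      clsX f I n V' (((pushCx f I).X n).obj.map g.op s) hs' := by
  unfold clsX
  exact clsSec_res ((Opens.map f).map g) s hs

end

variable [I.IsKInjective]

/-- the comparison bijection `Hⁿ(V, f_* I) → Hⁿ(f⁻¹V, I)` -/
noncomputable def beta (V : Opens Y) (ξ : CohCx.HDU (Q.obj (pushCx f I)) n V) :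
    CohCx.HDU (Q.obj I) n ((Opens.map f).obj V) :=
  clsX f I n V (clsSec_surjective (L := pushCx f I) ξ).choose
    (clsSec_surjective (L := pushCx f I) ξ).choose_spec.choose

lemma beta_clsSec (V : Opens Y) (s : ToType (((pushCx f I).X n).obj.obj (op V)))
    (hs : ((pushCx f I).d n (n + 1)).hom.app (op V) s = 0) :
    beta f I n V (clsSec V (pushCx f I) n s hs) = clsX f I n V s hs := by
  unfold beta
  rw [clsX_eq_iff]
  exact (clsSec_surjective (L := pushCx f I)
    (clsSec V (pushCx f I) n s hs)).choose_spec.choose_spec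

lemma beta_bijective (V : Opens Y) : Function.Bijective (beta f I n V) := by
  constructor
  · intro ξ ξ' h
    obtain ⟨s, hs, rfl⟩ := clsSec_surjective (L := pushCx f I) ξ
    obtain ⟨s', hs', rfl⟩ := clsSec_surjective (L := pushCx f I) ξ'
    rw [beta_clsSec, beta_clsSec, clsX_eq_iff] at h
    exact h
  · intro η
    obtain ⟨s, hs, rfl⟩ := clsX_surjective f I n η
    exact ⟨clsSec V (pushCx f I) n s hs, beta_clsSec f I n V s hs⟩

lemma beta_res {V V' : Opens Y} (g : V' ⟶ V) (ξ : CohCx.HDU (Q.obj (pushCx f I)) n V) :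
    beta f I n V' (CohCx.HDUres (Q.obj (pushCx f I)) n g ξ) =
      CohCx.HDUres (Q.obj I) n ((Opens.map f).map g) (beta f I n V ξ) := by
  obtain ⟨s, hs, rfl⟩ := clsSec_surjective (L := pushCx f I) ξ
  rw [clsSec_res, beta_clsSec, beta_clsSec, clsX_res]

/-- the isomorphism of presheaves of sets `Hⁿ(-, f_* I) ≅ Hⁿ(f⁻¹(-), I)` -/
noncomputable def betaIso :
    CohCx.HDUPresheaf (Q.obj (pushCx f I)) n ⋙ forget AddCommGrpCat.{u} ≅
      ((Opens.map f).op ⋙ CohCx.HDUPresheaf (Q.obj I) n) ⋙ forget AddCommGrpCat.{u} :=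
  NatIso.ofComponents
    (fun V => (Equiv.ofBijective (beta f I n V.unop) (beta_bijective f I n V.unop)).toIso)
    (by
      rintro ⟨V⟩ ⟨V'⟩ g
      ext ξ
      exact beta_res f I n g.unop ξ)

theorem isSheaf_of_isSheaf_pushCx
    (h : Presheaf.IsSheaf (Opens.grothendieckTopology Y)
      (CohCx.HDUPresheaf (Q.obj (pushCx f I)) n)) :
    Presheaf.IsSheaf (Opens.grothendieckTopology Y)
      ((Opens.map f).op ⋙ CohCx.HDUPresheaf (Q.obj I) n) := by
  rw [Presheaf.isSheaf_iff_isSheaf_forget _ _ (forget AddCommGrpCat.{u})] at h ⊢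
  exact (Presheaf.isSheaf_of_iso_iff (betaIso f I n)).1 h

end Groth.Agent.Helper3.KPush
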