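import Groth.Agent.Lib.Helper3.TrLim11

/-!
# For `E` in `D^{≥ q}`, the presheaf `U ↦ H^q(U, E)` is the sheaf `H^q(E)`
-/

universe u

open CategoryTheory Limits Opposite Pretriangulated

namespace Groth.Agent.Helper3.TrLim

open Groth.Agent.Helper6.DRef Groth.Agent.Helper3.TowerSite Groth.Agent.Helper3.DLimInj

variable {C : Type u} [SmallCategory C] {J : GrothendieckTopology C}
  [HasDerivedCategory.{u} (Sheaf J AddCommGrpCat.{u})]
  (E : DerivedCategory (Sheaf J AddCommGrpCat.{u}))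

/-- for `E` in `D^{≥ q}` the comparison map `Hom(ℤ_U[0], E[q]) → H⁰(E[q])(U)` is bijective for
every `U` -/
theorem bijective_phiFun_shift_of_isGE (q : ℤ) (hE : (tS (A := Sheaf J AddCommGrpCat.{u})).IsGE E q)
    (U : C) : Function.Bijective (phiFun J (E⟦q⟧) U) := by
  let Y := ((tS (A := Sheaf J AddCommGrpCat.{u})).truncGE q).obj E
  let M := ((tS (A := Sheaf J AddCommGrpCat.{u})).truncLT (q + 1)).obj Y
  -- step 1: `E → τ_{≥q}E` is an isomorphism
  haveI hiso : IsIso (((tS (A := Sheaf J AddCommGrpCat.{u})).truncGEπ q).app E) :=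
    ((tS (A := Sheaf J AddCommGrpCat.{u})).isGE_iff_isIso_truncGEπ_app q E).1 hE
  haveI hiso' : IsIso ((((tS (A := Sheaf J AddCommGrpCat.{u})).truncGEπ q).app E)⟦q⟧') :=
    inferInstance
  have hπ := bijective_postcomp_of_isIso (Z := (sg J).obj ((Fr J).obj U))
    ((((tS (A := Sheaf J AddCommGrpCat.{u})).truncGEπ q).app E)⟦q⟧')
  have hπ2 := bijective_app_of_isIso
    ((H0 J).map ((((tS (A := Sheaf J AddCommGrpCat.{u})).truncGEπ q).app E)⟦q⟧')) U
  -- step 2: `τ_{<q+1}τ_{≥q}E → τ_{≥q}E`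
  have hι := bijective_postcomp_truncLTι U Y q
  haveI i2 := isIso_H0_shift_map (((tS (A := Sheaf J AddCommGrpCat.{u})).truncLTι (q + 1)).app Y)
    q (isIso_homology_truncLTι q Y)
  have hι2 := bijective_app_of_isIso
    ((H0 J).map ((((tS (A := Sheaf J AddCommGrpCat.{u})).truncLTι (q + 1)).app Y)⟦q⟧')) U
  -- step 3: `τ_{<q+1}τ_{≥q}E ≅ H^q(E)[-q]`
  obtain ⟨e⟩ := nonempty_iso_single E q
  let i : M⟦q⟧ ≅ (sg J).obj (CohCx.HD E q) :=
    (shiftFunctor _ q).mapIso e ≪≫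
      ((DerivedCategory.singleFunctors (Sheaf J AddCommGrpCat.{u})).shiftIso q 0 q
        (add_zero q)).app (CohCx.HD E q)
  have hM : Function.Bijective (phiFun J (M⟦q⟧) U) :=
    bijective_phiFun_of_target i.hom U (bijective_postcomp_of_isIso i.hom)
      (bijective_app_of_isIso ((H0 J).map i.hom) U) (bijective_phiFun_single _ U)
  have hY : Function.Bijective (phiFun J (Y⟦q⟧) U) :=
    bijective_phiFun_of_source _ U hι hι2 hM
  exact bijective_phiFun_of_target _ U hπ hπ2 hY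

/-- for `E` in `D^{≥ q}` the presheaf `U ↦ H^q(U, E)` is a sheaf -/
theorem isSheaf_HDUPresheaf_of_isGE (q : ℤ)
    (hE : (tS (A := Sheaf J AddCommGrpCat.{u})).IsGE E q) :
    Presheaf.IsSheaf J (CohCx.HDUPresheaf E q) := by
  have hbij : ∀ U : Cᵒᵖ, IsIso ((phi J (E⟦q⟧)).app U) := by
    intro U
    rw [ConcreteCategory.isIso_iff_bijective]
    exact bijective_phiFun_shift_of_isGE E q hE U.unop
  haveI : IsIso (phi J (E⟦q⟧)) := NatIso.isIso_of_isIso_app _
  have e : CohCx.HDUPresheaf E q ≅ ((H0 J).obj (E⟦q⟧)).obj := asIso (phi J (E⟦q⟧))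
  exact (Presheaf.isSheaf_of_iso_iff e).2 ((H0 J).obj (E⟦q⟧)).property

end Groth.Agent.Helper3.TrLim
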