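import Groth.Agent.Lib.Helper3.KPush5
import Groth.Agent.Lib.Helper3.TrLim14
import Groth.Agent.Lib.Helper3.TowerSite6
import Groth.Agent.Lib.Helper3.DSmall

/-!
# Negative vanishing and the sheaf of `H⁰` for `V ↦ Hⁱ(f⁻¹V, K)`
-/

universe u

open CategoryTheory Limits Opposite DerivedCategory TopologicalSpace Pretriangulated

namespace Groth.Agent.Helper3.KPush

open Groth.Agent.Helper6.DRef Groth.Agent.Helper3.TowerSite Groth.Agent.Helper3.TrLim

section General

variable {C : Type u} [SmallCategory C] {J : GrothendieckTopology C}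
  [HasDerivedCategory.{u} (Sheaf J AddCommGrpCat.{u})]

/-- hypercohomology groups of isomorphic objects -/
noncomputable def HDUcongr {K K' : DerivedCategory (Sheaf J AddCommGrpCat.{u})} (θ : K ≅ K')
    (n : ℤ) (U : C) : CohCx.HDU K n U ≃ CohCx.HDU K' n U :=
  Iso.homCongr (Iso.refl _) ((shiftFunctor _ n).mapIso θ)

/-- if `Hⁱ(U, E) = 0` for `i < 0` and `U` in a covering class, then `E` is in `D^{≥0}` -/
lemma isGE_zero_of_subsingleton (B : Set C) (hB : Covers J B)
    (E : DerivedCategory (Sheaf J AddCommGrpCat.{u}))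
    (h : ∀ U ∈ B, ∀ i : ℤ, i < 0 → Subsingleton (CohCx.HDU E i U)) : E.IsGE 0 := by
  rw [DerivedCategory.isGE_iff]
  intro i hi
  have h1 := isZero_H0_of_hPre_zero B hB (E⟦i⟧) (fun U hU ξ => by
    haveI := h U hU i hi
    exact Subsingleton.elim (α := CohCx.HDU E i U) _ _)
  exact IsZero.of_iso h1
    (((DerivedCategory.homologyFunctor (Sheaf J AddCommGrpCat.{u}) 0).shiftIso i 0 i
      (by simp)).app E).symm

/-- for `E` in `D^{≥0}`, `Hⁱ(U, E) = 0` for `i < 0` and every `U` -/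
lemma subsingleton_HDU_of_isGE (E : DerivedCategory (Sheaf J AddCommGrpCat.{u})) [hE : E.IsGE 0]
    (U : C) (i : ℤ) (hi : i < 0) : Subsingleton (CohCx.HDU E i U) := by
  have hZ0 : (tS (A := Sheaf J AddCommGrpCat.{u})).IsLE
      ((DerivedCategory.singleFunctor (Sheaf J AddCommGrpCat.{u}) 0).obj (CohCx.freeSheaf J U))
      0 :=
    inferInstanceAs (((DerivedCategory.singleFunctor (Sheaf J AddCommGrpCat.{u}) 0).obj
      (CohCx.freeSheaf J U)).IsLE 0)
  haveI hE' : (tS (A := Sheaf J AddCommGrpCat.{u})).IsGE E 0 := hE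
  have hGE : (tS (A := Sheaf J AddCommGrpCat.{u})).IsGE (E⟦i⟧) (-i) :=
    (tS (A := Sheaf J AddCommGrpCat.{u})).isGE_shift E 0 i (-i) (by omega)
  exact ⟨fun a b =>
    ((tS (A := Sheaf J AddCommGrpCat.{u})).zero_of_isLE_of_isGE a 0 (-i) (by omega) hZ0 hGE).trans
      ((tS (A := Sheaf J AddCommGrpCat.{u})).zero_of_isLE_of_isGE b 0 (-i) (by omega)
        hZ0 hGE).symm⟩

end General

theorem s0883_main {X Y : TopCat.{u}} (f : X ⟶ Y)
    [HasDerivedCategory.{u} (CohTop.Ab X)] (B : Set (Opens Y)) (hB : Opens.IsBasis B)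
    (K : DerivedCategory (CohTop.Ab X))
    (h : ∀ V ∈ B, ∀ i : ℤ, i < 0 → Subsingleton (CohCx.HDU K i ((Opens.map f).obj V))) :
    (∀ (V : Opens Y) (i : ℤ), i < 0 → Subsingleton (CohCx.HDU K i ((Opens.map f).obj V))) ∧
    Presheaf.IsSheaf (Opens.grothendieckTopology Y)
      ((Opens.map f).op ⋙ CohCx.HDUPresheaf K 0) := by
  letI : HasDerivedCategory.{u} (CohTop.Ab Y) := DSmall.hasDerivedCategory (CohTop.Ab Y)
  -- a K-injective representative
  obtain ⟨I, φ, hI, hφ, -, -⟩ := KInjD.exists_kInjective_resolution (Q.objPreimage K)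
  haveI := hI
  haveI : IsIso (Q.map φ) := (isIso_Q_map_iff_quasiIso (CohTop.Ab X) _).2 hφ
  let θ : Q.obj I ≅ K := (asIso (Q.map φ)).symm ≪≫ Q.objObjPreimageIso K
  -- the pushforward
  let E : DerivedCategory (CohTop.Ab Y) := Q.obj (pushCx f I)
  have h1 : ∀ V ∈ B, ∀ i : ℤ, i < 0 → Subsingleton (CohCx.HDU E i V) := by
    intro V hV i hi
    rw [subsingleton_HDU_pushCx_iff]
    haveI := h V hV i hi
    exact (HDUcongr θ i ((Opens.map f).obj V)).subsingleton
  haveI hE : E.IsGE 0 := isGE_zero_of_subsingleton B (covers_of_isBasis B hB) E h1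
  constructor
  · intro V i hi
    have h2 : Subsingleton (CohCx.HDU E i V) := subsingleton_HDU_of_isGE E V i hi
    rw [subsingleton_HDU_pushCx_iff] at h2
    haveI := h2
    exact (HDUcongr θ i ((Opens.map f).obj V)).symm.subsingleton
  · have hsh : Presheaf.IsSheaf (Opens.grothendieckTopology Y) (CohCx.HDUPresheaf E 0) :=
      isSheaf_HDUPresheaf_of_isGE E 0 hE
    have hsh2 := isSheaf_of_isSheaf_pushCx f I 0 hsh
    let e : (Opens.map f).op ⋙ CohCx.HDUPresheaf (Q.obj I) 0 ≅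
        (Opens.map f).op ⋙ CohCx.HDUPresheaf K 0 :=
      Functor.isoWhiskerLeft (Opens.map f).op (Functor.isoWhiskerLeft _
        (preadditiveYoneda.mapIso ((shiftFunctor _ (0 : ℤ)).mapIso θ)))
    exact (Presheaf.isSheaf_of_iso_iff e).1 hsh2

end Groth.Agent.Helper3.KPush
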