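import Groth.Agent.Lib.Helper3.KPush5
import Groth.Agent.Lib.Helper6.DRef.Sheafify

/-!
# The cohomology sheaves of `f_* I` for a K-injective complex `I`
-/

universe u

open CategoryTheory Limits Opposite DerivedCategory TopologicalSpace

namespace Groth.Agent.Helper3.KPush

open Groth.Agent.Helper6.DRef

variable {X Y : TopCat.{u}} (f : X ⟶ Y)
  [HasDerivedCategory.{u} (CohTop.Ab X)] [HasDerivedCategory.{u} (CohTop.Ab Y)]
  (I : CochainComplex (CohTop.Ab X) ℤ) (n : ℤ) [I.IsKInjective]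

lemma beta_add (V : Opens Y) (ξ ξ' : CohCx.HDU (Q.obj (pushCx f I)) n V) :
    beta f I n V (ξ + ξ') = beta f I n V ξ + beta f I n V ξ' := by
  obtain ⟨s, hs, rfl⟩ := clsSec_surjective (L := pushCx f I) ξ
  obtain ⟨s', hs', rfl⟩ := clsSec_surjective (L := pushCx f I) ξ'
  rw [← clsSec_add s s' hs hs', beta_clsSec, beta_clsSec, beta_clsSec]
  unfold clsX
  exact clsSec_add (L := I) s s' hs hs'

/-- the comparison as an additive equivalence -/
noncomputable def betaAddEquiv (V : Opens Y) :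
    CohCx.HDU (Q.obj (pushCx f I)) n V ≃+ CohCx.HDU (Q.obj I) n ((Opens.map f).obj V) :=
  { Equiv.ofBijective (beta f I n V) (beta_bijective f I n V) with
    map_add' := beta_add f I n V }

/-- the isomorphism of abelian presheaves `Hⁿ(-, f_* I) ≅ Hⁿ(f⁻¹(-), I)` -/
noncomputable def betaIsoAb :
    CohCx.HDUPresheaf (Q.obj (pushCx f I)) n ≅
      (Opens.map f).op ⋙ CohCx.HDUPresheaf (Q.obj I) n :=
  NatIso.ofComponents
    (fun V => (betaAddEquiv f I n V.unop).toAddCommGrpIso)
    (by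
      rintro ⟨V⟩ ⟨V'⟩ g
      ext ξ
      exact beta_res f I n g.unop ξ)

/-- the `n`-th cohomology sheaf of `f_* I` is the sheafification of `V ↦ Hⁿ(f⁻¹V, I)` -/
theorem homology_pushCx_iso :
    Nonempty ((DerivedCategory.homologyFunctor (CohTop.Ab Y) n).obj (Q.obj (pushCx f I)) ≅
      (presheafToSheaf (Opens.grothendieckTopology Y) AddCommGrpCat.{u}).obj
        ((Opens.map f).op ⋙ CohCx.HDUPresheaf (Q.obj I) n)) := by
  obtain ⟨e⟩ := sheafify_hPre_shift_iso (Opens.grothendieckTopology Y) (Q.obj (pushCx f I)) n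
  exact ⟨e.symm ≪≫ (presheafToSheaf (Opens.grothendieckTopology Y) AddCommGrpCat.{u}).mapIso
    (betaIsoAb f I n)⟩

end Groth.Agent.Helper3.KPush
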