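import Groth.Agent.Lib.Helper3.KPush7
import Groth.Agent.Lib.Helper3.RDPlus

/-!
# The cohomology sheaves of the derived direct image of a bounded below complex
-/

universe u

open CategoryTheory Limits Opposite DerivedCategory TopologicalSpace

namespace Groth.Agent.Helper3.KPush

open Groth.Agent.Helper3.RDPlus

theorem s8351_main {X Y : TopCat.{u}} (f : X ⟶ Y)
    [HasDerivedCategory.{u} (CohTop.Ab X)] [HasDerivedCategory.{u} (CohTop.Ab Y)]
    (K : CochainComplex.Plus (CohTop.Ab X)) (p : ℤ) :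
    Nonempty ((DerivedCategory.Plus.homologyFunctor (CohTop.Ab Y) p).obj
        ((CohTop.push f).rightDerivedFunctorPlus.obj
          (DerivedCategory.Plus.Qh.obj ((HomotopyCategory.Plus.quotient (CohTop.Ab X)).obj K))) ≅
      (presheafToSheaf (Opens.grothendieckTopology Y) AddCommGrpCat.{u}).obj
        ((Opens.map f).op ⋙ CohCx.HDUPresheaf (DerivedCategory.Q.obj K.obj) p)) := by
  let X₀ : DerivedCategory.Plus (CohTop.Ab X) :=
    DerivedCategory.Plus.Qh.obj ((HomotopyCategory.Plus.quotient (CohTop.Ab X)).obj K)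
  obtain ⟨n, hn⟩ := X₀.2
  haveI : X₀.IsGE n := (DerivedCategory.Plus.isGE_ι_obj_iff X₀ n).1 hn
  obtain ⟨L, _, ⟨e⟩⟩ := DerivedCategory.Plus.exists_injective_nonempty_iso X₀ n
  let IL : HomotopyCategory.Plus (InjectiveObject (CohTop.Ab X)) :=
    (HomotopyCategory.Plus.quotient _).obj L
  let e' : (QI (CohTop.Ab X)).obj IL ≅ X₀ := e
  let I₀ : CochainComplex (CohTop.Ab X) ℤ :=
    ((InjectiveObject.ι (CohTop.Ab X)).mapHomologicalComplex (.up ℤ)).obj L.obj
  haveI hK : I₀.IsKInjective := inferInstanceAs (CochainComplex.IsKInjective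
    (((InjectiveObject.ι (CohTop.Ab X)).mapHomologicalComplex (.up ℤ)).obj L.obj))
  -- step 1: `Rf_* X₀ ≅ Q (f_* I₀)` in `D⁺(Y)`
  let iso1 : (CohTop.push f).rightDerivedFunctorPlus.obj X₀ ≅ (GI (CohTop.push f)).obj IL :=
    (CohTop.push f).rightDerivedFunctorPlus.mapIso e'.symm ≪≫ (ηI (CohTop.push f) IL).symm
  let iso2 : (DerivedCategory.Plus.homologyFunctor (CohTop.Ab Y) p).obj
      ((CohTop.push f).rightDerivedFunctorPlus.obj X₀) ≅
      (DerivedCategory.homologyFunctor (CohTop.Ab Y) p).obj (Q.obj (pushCx f I₀)) :=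
    (DerivedCategory.Plus.homologyFunctor (CohTop.Ab Y) p).mapIso iso1
  -- step 2: sheafification
  obtain ⟨iso3⟩ := homology_pushCx_iso f I₀ p
  -- step 3: replace `I₀` by `K`
  let θ : Q.obj I₀ ≅ Q.obj K.obj := (DerivedCategory.Plus.ι).mapIso e'
  let e4 : (Opens.map f).op ⋙ CohCx.HDUPresheaf (Q.obj I₀) p ≅
      (Opens.map f).op ⋙ CohCx.HDUPresheaf (Q.obj K.obj) p :=
    Functor.isoWhiskerLeft (Opens.map f).op (Functor.isoWhiskerLeft _
      (preadditiveYoneda.mapIso ((shiftFunctor _ p).mapIso θ)))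
  exact ⟨iso2 ≪≫ iso3 ≪≫
    (presheafToSheaf (Opens.grothendieckTopology Y) AddCommGrpCat.{u}).mapIso e4⟩

end Groth.Agent.Helper3.KPush
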