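import Mathlib
import Groth.Prelude.Def_KZero

/-!
# Basic lemmas on `K₀` of an abelian category (`KZero.K0`)
-/

set_option autoImplicit false
universe v u
open CategoryTheory CategoryTheory.Limits KZero

namespace Groth.Agent.Helper3.KZ

variable {A : Type u} [Category.{v} A] [Abelian A]

/-- the defining relation of `K₀` -/
lemma cl_shortExact (S : ShortComplex A) (hS : S.ShortExact) : cl S.X₂ = cl S.X₁ + cl S.X₃ := by
  have h : FreeAbelianGroup.of S.X₂ - FreeAbelianGroup.of S.X₁ - FreeAbelianGroup.of S.X₃ ∈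
      relAb A := AddSubgroup.subset_closure ⟨S, hS, rfl⟩
  have h2 := (QuotientAddGroup.eq_zero_iff _).2 h
  rw [QuotientAddGroup.mk_sub, QuotientAddGroup.mk_sub, sub_sub, sub_eq_zero] at h2
  exact h2

lemma cl_of_isZero {X : A} (hX : IsZero X) : cl X = 0 := by
  let S : ShortComplex A := ShortComplex.mk (0 : X ⟶ X) (0 : X ⟶ X) (by simp)
  have hS : S.ShortExact := by
    have : Mono S.f := ⟨fun _ _ _ => hX.eq_of_tgt _ _⟩
    have : Epi S.g := ⟨fun _ _ _ => hX.eq_of_src _ _⟩
    exact ShortComplex.ShortExact.mk' (ShortComplex.exact_of_isZero_X₂ _ hX) inferInstance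
      inferInstance
  have h := cl_shortExact S hS
  change cl X = cl X + cl X at h
  exact (add_eq_left.1 h.symm)

/-- for a monomorphism `i : X ⟶ Y`, `[Y] = [X] + [coker i]` -/
lemma cl_mono {X Y : A} (i : X ⟶ Y) [Mono i] : cl Y = cl X + cl (cokernel i) := by
  have hS : (ShortComplex.cokernelSequence i).ShortExact :=
    ShortComplex.ShortExact.mk' (ShortComplex.cokernelSequence_exact i)
      (by change Mono i; infer_instance) inferInstance
  exact cl_shortExact _ hS

/-- for an epimorphism `p : X ⟶ Y`, `[X] = [ker p] + [Y]` -/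
lemma cl_epi {X Y : A} (p : X ⟶ Y) [Epi p] : cl X = cl (kernel p) + cl Y := by
  have hS : (ShortComplex.kernelSequence p).ShortExact :=
    ShortComplex.ShortExact.mk' (ShortComplex.kernelSequence_exact p) inferInstance
      (by change Epi p; infer_instance)
  exact cl_shortExact _ hS

lemma cl_iso {X Y : A} (e : X ≅ Y) : cl X = cl Y := by
  have h := cl_mono e.hom
  rw [cl_of_isZero (isZero_cokernel_of_epi e.hom), add_zero] at h
  exact h.symm

/-- the Euler characteristic relation: `[X] - [Y] = [ker c] - [coker c]` -/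
lemma cl_sub {X Y : A} (c : X ⟶ Y) : cl X - cl Y = cl (kernel c) - cl (cokernel c) := by
  have h1 := cl_epi (Abelian.factorThruImage c)
  have h2 := cl_mono (Abelian.image.ι c)
  have e1 : kernel c ≅ kernel (Abelian.factorThruImage c) :=
    kernelIsoOfEq (Abelian.image.fac c).symm ≪≫
      kernelCompMono (Abelian.factorThruImage c) (Abelian.image.ι c)
  have e2 : cokernel c ≅ cokernel (Abelian.image.ι c) :=
    cokernelIsoOfEq (Abelian.image.fac c).symm ≪≫
      cokernelEpiComp (Abelian.factorThruImage c) (Abelian.image.ι c)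
  rw [cl_iso e1, cl_iso e2, h1, h2]
  abel

/-- the class of the homology of a short complex -/
lemma cl_homology (S : ShortComplex A) :
    cl S.homology = cl (kernel S.g) + cl (kernel S.f) - cl S.X₁ := by
  have h := cl_sub S.toCycles
  have e1 : cokernel S.toCycles ≅ S.homology :=
    IsColimit.coconePointUniqueUpToIso (colimit.isColimit _) S.homologyIsCokernel
  have e2 : kernel S.toCycles ≅ kernel S.f :=
    (kernelCompMono S.toCycles S.iCycles).symm ≪≫ kernelIsoOfEq S.toCycles_i
  rw [cl_iso e1, cl_iso e2, cl_iso S.cyclesIsoKernel] at h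
  rw [eq_sub_iff_add_eq]
  rw [sub_eq_sub_iff_add_eq_add] at h
  rw [add_comm (cl S.homology), h, add_comm]

/-- the two homology objects of a 2-periodic complex have the same class -/
lemma cl_homology_periodic {M : A} (φ ψ : M ⟶ M) (h₁ : φ ≫ ψ = 0) (h₂ : ψ ≫ φ = 0) :
    cl (ShortComplex.mk φ ψ h₁).homology = cl (ShortComplex.mk ψ φ h₂).homology := by
  rw [cl_homology, cl_homology]
  dsimp
  rw [add_comm]

end Groth.Agent.Helper3.KZ
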