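import Mathlib
import Groth.Prelude.Def_KZero
import Groth.Agent.Lib.Helper3.KZ1

/-!
# The localization sequence `K₀(P) → K₀(A) → K₀(A/P) → 0` for a Serre class `P`
-/

set_option autoImplicit false
universe v v' u u'
open CategoryTheory CategoryTheory.Limits KZero

namespace Groth.Agent.Helper3.KZ

variable {A : Type u} [Category.{v} A] [Abelian A] (P : ObjectProperty A) [P.IsSerreClass]

lemma clSub_of {X : A} (h : P X) :
    clSub P X = QuotientAddGroup.mk (FreeAbelianGroup.of (⟨X, h⟩ : Subtype P)) := by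
  unfold clSub
  rw [dif_pos h]

/-- the defining relation of `K0sub` -/
lemma clSub_shortExact (S : ShortComplex A) (hS : S.ShortExact) (h₁ : P S.X₁) (h₂ : P S.X₂)
    (h₃ : P S.X₃) : clSub P S.X₂ = clSub P S.X₁ + clSub P S.X₃ := by
  have h : FreeAbelianGroup.of (⟨S.X₂, h₂⟩ : Subtype P) - FreeAbelianGroup.of ⟨S.X₁, h₁⟩ -
      FreeAbelianGroup.of ⟨S.X₃, h₃⟩ ∈ relSub P :=
    AddSubgroup.subset_closure ⟨S, h₁, h₂, h₃, hS, rfl⟩
  have h2 := (QuotientAddGroup.eq_zero_iff _).2 h
  rw [QuotientAddGroup.mk_sub, QuotientAddGroup.mk_sub, sub_sub, sub_eq_zero] at h2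
  rw [clSub_of P h₁, clSub_of P h₂, clSub_of P h₃]
  exact h2

/-- the map `K₀(P) → K₀(A)` -/
noncomputable def iota : K0sub P →+ K0 A :=
  QuotientAddGroup.lift (relSub P) (FreeAbelianGroup.lift (fun X : Subtype P => cl X.1)) (by
    unfold relSub
    rw [AddSubgroup.closure_le]
    rintro x ⟨S, h₁, h₂, h₃, hS, rfl⟩
    change FreeAbelianGroup.lift (fun X : Subtype P => cl X.1) _ = 0
    rw [map_sub, map_sub, FreeAbelianGroup.lift_apply_of, FreeAbelianGroup.lift_apply_of,
      FreeAbelianGroup.lift_apply_of]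
    change cl S.X₂ - cl S.X₁ - cl S.X₃ = 0
    rw [cl_shortExact S hS]
    abel)

lemma iota_clSub {X : A} (h : P X) : iota P (clSub P X) = cl X := by
  rw [clSub_of P h]
  unfold iota
  rw [QuotientAddGroup.lift_mk, FreeAbelianGroup.lift_apply_of]

lemma cl_mem_range {X : A} (h : P X) : cl X ∈ (iota P).range :=
  ⟨clSub P X, iota_clSub P h⟩

variable {Q : Type u'} [Category.{v'} Q] [Abelian Q] (L : A ⥤ Q) [L.Additive]
  [PreservesFiniteLimits L] [PreservesFiniteColimits L]

/-- the map `K₀(A) → K₀(Q)` induced by an exact functor -/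
noncomputable def lam : K0 A →+ K0 Q :=
  QuotientAddGroup.lift (relAb A) (FreeAbelianGroup.lift (fun X : A => cl (L.obj X))) (by
    unfold relAb
    rw [AddSubgroup.closure_le]
    rintro x ⟨S, hS, rfl⟩
    change FreeAbelianGroup.lift (fun X : A => cl (L.obj X)) _ = 0
    rw [map_sub, map_sub, FreeAbelianGroup.lift_apply_of, FreeAbelianGroup.lift_apply_of,
      FreeAbelianGroup.lift_apply_of]
    have h := cl_shortExact (S.map L) (hS.map_of_exact L)
    change cl (L.obj S.X₂) = cl (L.obj S.X₁) + cl (L.obj S.X₃) at h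
    rw [h]
    abel)

lemma lam_cl (X : A) : lam L (cl X) = cl (L.obj X) := by
  unfold lam cl
  rw [QuotientAddGroup.lift_mk, FreeAbelianGroup.lift_apply_of]

/-- every element of `K₀` is a ℤ-combination of classes: induction principle -/
lemma K0_induction {B : Type u} [Category.{v} B] [Abelian B] {motive : K0 B → Prop}
    (zero : motive 0) (of : ∀ X : B, motive (cl X)) (neg : ∀ x, motive x → motive (-x))
    (add : ∀ x y, motive x → motive y → motive (x + y)) (x : K0 B) : motive x := by
  induction x using QuotientAddGroup.induction_on with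
  | H z =>
    induction z using FreeAbelianGroup.induction_on with
    | zero => exact zero
    | of X => exact of X
    | neg X h => exact neg _ h
    | add x y hx hy => exact add _ _ hx hy

variable [L.IsLocalization P.isoModSerre]

include P in
lemma lam_surjective : Function.Surjective (lam L) := by
  haveI : L.EssSurj := Localization.essSurj L P.isoModSerre
  intro y
  induction y using K0_induction with
  | zero => exact ⟨0, map_zero _⟩
  | of Y =>
    refine ⟨cl (L.objPreimage Y), ?_⟩
    rw [lam_cl]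
    exact cl_iso (L.objObjPreimageIso Y)
  | neg x hx =>
    obtain ⟨z, rfl⟩ := hx
    exact ⟨-z, map_neg _ _⟩
  | add x y hx hy =>
    obtain ⟨z, rfl⟩ := hx
    obtain ⟨w, rfl⟩ := hy
    exact ⟨z + w, map_add _ _ _⟩

lemma lam_iota (x : K0sub P) : lam L (iota P x) = 0 := by
  induction x using QuotientAddGroup.induction_on with
  | H z =>
    induction z using FreeAbelianGroup.induction_on with
    | zero => simp
    | of X =>
      have h1 : ((FreeAbelianGroup.of X : FreeAbelianGroup (Subtype P)) : K0sub P) =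
          clSub P X.1 := (clSub_of P X.2).symm
      rw [h1, iota_clSub P X.2, lam_cl]
      exact cl_of_isZero ((ObjectProperty.SerreClassLocalization.isZero_obj_iff L P X.1).2 X.2)
    | neg X h =>
      rw [QuotientAddGroup.mk_neg, map_neg, map_neg, h, neg_zero]
    | add x y hx hy =>
      rw [QuotientAddGroup.mk_add, map_add, map_add, hx, hy, add_zero]

/-- a morphism in `W` changes the class by an element of the image of `K₀(P)` -/
lemma cl_sub_mem_range_of_W {X Z : A} (w : X ⟶ Z) (hw : P.isoModSerre w) :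
    cl X - cl Z ∈ (iota P).range := by
  rw [cl_sub w]
  exact (iota P).range.sub_mem (cl_mem_range P hw.1) (cl_mem_range P hw.2)

/-- Key lemma: objects with isomorphic images in the quotient have the same class modulo
`K₀(P)` -/
lemma cl_sub_mem_range_of_iso {X X' : A} (e : L.obj X ≅ L.obj X') :
    cl X - cl X' ∈ (iota P).range := by
  obtain ⟨φ, hφ⟩ := Localization.exists_leftFraction L P.isoModSerre e.hom
  have h1 : L.map φ.f = e.hom ≫ L.map φ.s := by
    rw [hφ, MorphismProperty.LeftFraction.map_comp_map_s]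
  haveI : IsIso (L.map φ.f) := by
    rw [h1]
    infer_instance
  have hf : P.isoModSerre φ.f := (ObjectProperty.SerreClassLocalization.isIso_map_iff L P φ.f).1 inferInstance
  have h2 := cl_sub_mem_range_of_W P φ.f hf
  have h3 := cl_sub_mem_range_of_W P φ.s φ.hs
  have h4 := (iota P).range.sub_mem h2 h3
  rw [sub_sub_sub_cancel_right] at h4
  exact h4

/-- the quotient map modulo the image of `K₀(P)` -/
noncomputable abbrev piR : K0 A →+ K0 A ⧸ (iota P).range := QuotientAddGroup.mk' _

lemma piR_eq_of_iso {X X' : A} (e : L.obj X ≅ L.obj X') : piR P (cl X) = piR P (cl X') := by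
  rw [← sub_eq_zero, ← map_sub]
  exact (QuotientAddGroup.eq_zero_iff _).2 (cl_sub_mem_range_of_iso P L e)

lemma piR_eq_of_W {X Z : A} (w : X ⟶ Z) (hw : P.isoModSerre w) :
    piR P (cl X) = piR P (cl Z) := by
  rw [← sub_eq_zero, ← map_sub]
  exact (QuotientAddGroup.eq_zero_iff _).2 (cl_sub_mem_range_of_W P w hw)

/-- lifting short exact sequences of the quotient, at the level of classes -/
lemma piR_shortExact (S : ShortComplex Q) (hS : S.ShortExact) (X₁ X₂ X₃ : A)
    (e₁ : L.obj X₁ ≅ S.X₁) (e₂ : L.obj X₂ ≅ S.X₂) (e₃ : L.obj X₃ ≅ S.X₃) :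
    piR P (cl X₂) = piR P (cl X₁) + piR P (cl X₃) := by
  obtain ⟨φ, hφ⟩ := Localization.exists_leftFraction L P.isoModSerre
    (e₂.hom ≫ S.g ≫ e₃.inv)
  -- `L.map φ.f = e₂.hom ≫ S.g ≫ q.hom` with `q : S.X₃ ≅ L Z`
  let q : S.X₃ ≅ L.obj φ.Y' := e₃.symm ≪≫ asIso (L.map φ.s)
  have h1 : L.map φ.f = e₂.hom ≫ S.g ≫ q.hom := by
    have := MorphismProperty.LeftFraction.map_comp_map_s φ L
      (Localization.inverts L P.isoModSerre)
    rw [← hφ] at this
    rw [← this]
    simp [q]
  haveI := hS.epi_g
  haveI : Epi (L.map φ.f) := by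
    rw [h1]
    infer_instance
  have hcok : P (cokernel φ.f) := (ObjectProperty.SerreClassLocalization.epi_map_iff L P φ.f).1 inferInstance
  -- the kernel
  have eK : L.obj (kernel φ.f) ≅ L.obj X₁ :=
    PreservesKernel.iso L φ.f ≪≫
      kernel.mapIso (L.map φ.f) S.g e₂ q.symm (by rw [h1]; simp) ≪≫
      IsLimit.conePointUniqueUpToIso (limit.isLimit _) hS.fIsKernel ≪≫ e₁.symm
  have h2 := cl_sub φ.f
  have h3 : piR P (cl X₂) - piR P (cl φ.Y') = piR P (cl (kernel φ.f)) -
      piR P (cl (cokernel φ.f)) := by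
    rw [← map_sub, ← map_sub, h2]
  have h4 : piR P (cl (cokernel φ.f)) = 0 :=
    (QuotientAddGroup.eq_zero_iff _).2 (cl_mem_range P hcok)
  rw [h4, sub_zero, piR_eq_of_iso P L eK, ← piR_eq_of_W P φ.s φ.hs] at h3
  rw [← h3]
  abel

/-- the inverse map `K₀(Q) → K₀(A) / im K₀(P)` -/
noncomputable def tau : K0 Q →+ K0 A ⧸ (iota P).range :=
  haveI : L.EssSurj := Localization.essSurj L P.isoModSerre
  QuotientAddGroup.lift (relAb Q)
    (FreeAbelianGroup.lift (fun Y : Q => piR P (cl (L.objPreimage Y)))) (by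
    unfold relAb
    rw [AddSubgroup.closure_le]
    rintro x ⟨S, hS, rfl⟩
    change FreeAbelianGroup.lift (fun Y : Q => piR P (cl (L.objPreimage Y))) _ = 0
    rw [map_sub, map_sub, FreeAbelianGroup.lift_apply_of, FreeAbelianGroup.lift_apply_of,
      FreeAbelianGroup.lift_apply_of]
    rw [piR_shortExact P L S hS _ _ _ (L.objObjPreimageIso S.X₁) (L.objObjPreimageIso S.X₂)
      (L.objObjPreimageIso S.X₃)]
    abel)

lemma tau_lam (z : K0 A) : tau P L (lam L z) = piR P z := by
  haveI : L.EssSurj := Localization.essSurj L P.isoModSerre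
  induction z using K0_induction with
  | zero => simp
  | of X =>
    rw [lam_cl]
    unfold tau cl
    rw [QuotientAddGroup.lift_mk, FreeAbelianGroup.lift_apply_of]
    exact piR_eq_of_iso P L (L.objObjPreimageIso (L.obj X))
  | neg x hx => rw [map_neg, map_neg, hx, map_neg]
  | add x y hx hy => rw [map_add, map_add, hx, hy, map_add]

theorem ker_lam : (lam L).ker = (iota P).range := by
  apply le_antisymm
  · intro z hz
    rw [AddMonoidHom.mem_ker] at hz
    have h := tau_lam P L z
    rw [hz, map_zero] at h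
    exact (QuotientAddGroup.eq_zero_iff _).1 h.symm
  · rintro _ ⟨x, rfl⟩
    exact lam_iota P L x

end Groth.Agent.Helper3.KZ
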