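import Mathlib
import Groth.Prelude.Def_KZero
import Groth.Agent.Lib.Helper3.KZ2

/-!
# The kernel of `K₀(P) → K₀(A)` (Heller's description by 2-periodic complexes)
-/

set_option autoImplicit false
universe v u
open CategoryTheory CategoryTheory.Limits KZero ZeroObject

namespace Groth.Agent.Helper3.KZ

variable {A : Type u} [Category.{v} A] [Abelian A]

section bsum

/-- direct sum of short complexes -/
noncomputable def bsum (S S' : ShortComplex A) : ShortComplex A :=
  ShortComplex.mk (biprod.map S.f S'.f) (biprod.map S.g S'.g) (by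
    ext <;> simp)

variable (S S' : ShortComplex A)

noncomputable def bsumInl : S ⟶ bsum S S' where
  τ₁ := biprod.inl
  τ₂ := biprod.inl
  τ₃ := biprod.inl
  comm₁₂ := by simp [bsum]
  comm₂₃ := by simp [bsum]

noncomputable def bsumInr : S' ⟶ bsum S S' where
  τ₁ := biprod.inr
  τ₂ := biprod.inr
  τ₃ := biprod.inr
  comm₁₂ := by simp [bsum]
  comm₂₃ := by simp [bsum]

noncomputable def bsumFst : bsum S S' ⟶ S where
  τ₁ := biprod.fst
  τ₂ := biprod.fst
  τ₃ := biprod.fst
  comm₁₂ := by simp [bsum]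
  comm₂₃ := by simp [bsum]

noncomputable def bsumSnd : bsum S S' ⟶ S' where
  τ₁ := biprod.snd
  τ₂ := biprod.snd
  τ₃ := biprod.snd
  comm₁₂ := by simp [bsum]
  comm₂₃ := by simp [bsum]

lemma bsum_inl_fst : bsumInl S S' ≫ bsumFst S S' = 𝟙 S := by
  ext <;> exact biprod.inl_fst

lemma bsum_inl_snd : bsumInl S S' ≫ bsumSnd S S' = 0 := by
  ext <;> exact biprod.inl_snd

lemma bsum_inr_fst : bsumInr S S' ≫ bsumFst S S' = 0 := by
  ext <;> exact biprod.inr_fst

lemma bsum_inr_snd : bsumInr S S' ≫ bsumSnd S S' = 𝟙 S' := by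
  ext <;> exact biprod.inr_snd

lemma bsum_total :
    bsumFst S S' ≫ bsumInl S S' + bsumSnd S S' ≫ bsumInr S S' = 𝟙 (bsum S S') := by
  ext <;> exact biprod.total

/-- homology commutes with direct sums of short complexes -/
noncomputable def bsumHomologyIso : (bsum S S').homology ≅ S.homology ⊞ S'.homology where
  hom := biprod.lift (ShortComplex.homologyMap (bsumFst S S'))
    (ShortComplex.homologyMap (bsumSnd S S'))
  inv := biprod.desc (ShortComplex.homologyMap (bsumInl S S'))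
    (ShortComplex.homologyMap (bsumInr S S'))
  hom_inv_id := by
    rw [biprod.lift_desc, ← ShortComplex.homologyMap_comp, ← ShortComplex.homologyMap_comp,
      ← ShortComplex.homologyMap_add, bsum_total, ShortComplex.homologyMap_id]
  inv_hom_id := by
    ext
    · simp only [Category.assoc, biprod.inl_desc_assoc, biprod.lift_fst, Category.id_comp,
        biprod.inl_fst]
      rw [← ShortComplex.homologyMap_comp, bsum_inl_fst, ShortComplex.homologyMap_id]
    · simp only [Category.assoc, biprod.inl_desc_assoc, biprod.lift_snd, Category.id_comp,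
        biprod.inl_snd]
      rw [← ShortComplex.homologyMap_comp, bsum_inl_snd, ShortComplex.homologyMap_zero]
    · simp only [Category.assoc, biprod.inr_desc_assoc, biprod.lift_fst, Category.id_comp,
        biprod.inr_fst]
      rw [← ShortComplex.homologyMap_comp, bsum_inr_fst, ShortComplex.homologyMap_zero]
    · simp only [Category.assoc, biprod.inr_desc_assoc, biprod.lift_snd, Category.id_comp,
        biprod.inr_snd]
      rw [← ShortComplex.homologyMap_comp, bsum_inr_snd, ShortComplex.homologyMap_id]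

lemma bsum_exact (h : S.Exact) (h' : S'.Exact) : (bsum S S').Exact := by
  rw [ShortComplex.exact_iff_isZero_homology] at h h' ⊢
  exact IsZero.of_iso (IsZero.of_iso h (isoBiprodZero h').symm) (bsumHomologyIso S S')

end bsum

/-- exact pairs: `V → U → V → U` exact everywhere -/
structure EPair (A : Type u) [Category.{v} A] [Abelian A] where
  U : A
  V : A
  a : V ⟶ U
  b : U ⟶ V
  ab : a ≫ b = 0
  ba : b ≫ a = 0
  ex1 : (ShortComplex.mk a b ab).Exact
  ex2 : (ShortComplex.mk b a ba).Exact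

namespace EPair

/-- the zero pair -/
noncomputable def zero : EPair A where
  U := 0
  V := 0
  a := 0
  b := 0
  ab := by simp
  ba := by simp
  ex1 := ShortComplex.exact_of_isZero_X₂ _ (isZero_zero A)
  ex2 := ShortComplex.exact_of_isZero_X₂ _ (isZero_zero A)

/-- swapping the roles -/
def swap (E : EPair A) : EPair A where
  U := E.V
  V := E.U
  a := E.b
  b := E.a
  ab := E.ba
  ba := E.ab
  ex1 := E.ex2
  ex2 := E.ex1

/-- the pair `T → T → T → T` with maps `𝟙`, `0` -/
noncomputable def triv (T : A) : EPair A where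
  U := T
  V := T
  a := 𝟙 T
  b := 0
  ab := by simp
  ba := by simp
  ex1 := by
    rw [ShortComplex.exact_iff_epi _ rfl]
    dsimp
    infer_instance
  ex2 := by
    rw [ShortComplex.exact_iff_mono _ rfl]
    dsimp
    infer_instance

/-- direct sum of exact pairs -/
noncomputable def sum (E E' : EPair A) : EPair A where
  U := E.U ⊞ E'.U
  V := E.V ⊞ E'.V
  a := biprod.map E.a E'.a
  b := biprod.map E.b E'.b
  ab := by ext <;> simp [E.ab, E'.ab]
  ba := by ext <;> simp [E.ba, E'.ba]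
  ex1 := bsum_exact _ _ E.ex1 E'.ex1
  ex2 := bsum_exact _ _ E.ex2 E'.ex2

/-- the exact pair of a short exact sequence: `X₂ → X₃ ⊞ X₁ → X₂` -/
noncomputable def ofShortExact (S : ShortComplex A) (hS : S.ShortExact) : EPair A where
  U := S.X₃ ⊞ S.X₁
  V := S.X₂
  a := S.g ≫ biprod.inl
  b := biprod.snd ≫ S.f
  ab := by simp
  ba := by simp
  ex1 := by
    haveI := hS.mono_f
    haveI := hS.epi_g
    -- `X₃ → X₃ ⊞ X₁ → X₁` is exact
    let Sa : ShortComplex A := ShortComplex.mk (biprod.inl : S.X₃ ⟶ S.X₃ ⊞ S.X₁) biprod.snd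
      (by simp)
    have hSa : Sa.Exact := (ShortComplex.Splitting.ofHasBinaryBiproduct S.X₃ S.X₁).exact
    let Sb : ShortComplex A := ShortComplex.mk (biprod.inl : S.X₃ ⟶ S.X₃ ⊞ S.X₁)
      (biprod.snd ≫ S.f) (by simp)
    let φ1 : Sa ⟶ Sb :=
      { τ₁ := 𝟙 _, τ₂ := 𝟙 _, τ₃ := S.f, comm₁₂ := by simp [Sa, Sb], comm₂₃ := by simp [Sa, Sb] }
    haveI : Epi φ1.τ₁ := by dsimp [φ1]; infer_instance
    haveI : IsIso φ1.τ₂ := by dsimp [φ1]; infer_instance
    haveI : Mono φ1.τ₃ := by dsimp [φ1]; infer_instance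
    have hSb : Sb.Exact := (ShortComplex.exact_iff_of_epi_of_isIso_of_mono φ1).1 hSa
    let φ2 : ShortComplex.mk (S.g ≫ biprod.inl) (biprod.snd ≫ S.f) (by simp) ⟶ Sb :=
      { τ₁ := S.g, τ₂ := 𝟙 _, τ₃ := 𝟙 _, comm₁₂ := by simp [Sb], comm₂₃ := by simp [Sb] }
    haveI : Epi φ2.τ₁ := by dsimp [φ2]; infer_instance
    haveI : IsIso φ2.τ₂ := by dsimp [φ2]; infer_instance
    haveI : Mono φ2.τ₃ := by dsimp [φ2]; infer_instance
    exact (ShortComplex.exact_iff_of_epi_of_isIso_of_mono φ2).2 hSb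
  ex2 := by
    haveI := hS.mono_f
    haveI := hS.epi_g
    let Se : ShortComplex A := ShortComplex.mk ((biprod.snd : S.X₃ ⊞ S.X₁ ⟶ S.X₁) ≫ S.f) S.g
      (by simp)
    let φ1 : Se ⟶ S :=
      { τ₁ := biprod.snd, τ₂ := 𝟙 _, τ₃ := 𝟙 _, comm₁₂ := by simp [Se], comm₂₃ := by simp [Se] }
    haveI : Epi φ1.τ₁ := by dsimp [φ1]; infer_instance
    haveI : IsIso φ1.τ₂ := by dsimp [φ1]; infer_instance
    haveI : Mono φ1.τ₃ := by dsimp [φ1]; infer_instance
    have hSe : Se.Exact := (ShortComplex.exact_iff_of_epi_of_isIso_of_mono φ1).2 hS.exact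
    let φ2 : Se ⟶ ShortComplex.mk ((biprod.snd : S.X₃ ⊞ S.X₁ ⟶ S.X₁) ≫ S.f)
        (S.g ≫ (biprod.inl : S.X₃ ⟶ S.X₃ ⊞ S.X₁)) (by simp) :=
      { τ₁ := 𝟙 _, τ₂ := 𝟙 _, τ₃ := biprod.inl, comm₁₂ := by simp [Se],
        comm₂₃ := by simp [Se] }
    haveI : Epi φ2.τ₁ := by dsimp [φ2]; infer_instance
    haveI : IsIso φ2.τ₂ := by dsimp [φ2]; infer_instance
    haveI : Mono φ2.τ₃ := by dsimp [φ2]; infer_instance
    exact (ShortComplex.exact_iff_of_epi_of_isIso_of_mono φ2).1 hSe

end EPair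

section IsoCl

variable (A)

/-- isomorphism classes of objects -/
def IsoCl : Type u := Quotient (isIsomorphicSetoid A)

variable {A}

/-- the class of an object -/
def IsoCl.mk (X : A) : IsoCl A := Quotient.mk (isIsomorphicSetoid A) X

lemma IsoCl.mk_eq_iff {X Y : A} : IsoCl.mk X = IsoCl.mk Y ↔ Nonempty (X ≅ Y) :=
  ⟨fun h => Quotient.exact h, fun h => Quotient.sound h⟩

lemma IsoCl.ind {motive : IsoCl A → Prop} (h : ∀ X : A, motive (IsoCl.mk X)) (x : IsoCl A) :
    motive x := Quotient.inductionOn x h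

noncomputable instance : Add (IsoCl A) where
  add := Quotient.map₂ (fun X Y => X ⊞ Y) (by
    rintro X X' ⟨e⟩ Y Y' ⟨e'⟩
    exact ⟨biprod.mapIso e e'⟩)

noncomputable instance : Zero (IsoCl A) := ⟨IsoCl.mk 0⟩

lemma IsoCl.mk_add (X Y : A) : IsoCl.mk X + IsoCl.mk Y = IsoCl.mk (X ⊞ Y) := rfl

noncomputable instance : AddCommMonoid (IsoCl A) where
  add_assoc x y z := by
    induction x using IsoCl.ind with | h X => ?_
    induction y using IsoCl.ind with | h Y => ?_
    induction z using IsoCl.ind with | h Z => ?_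
    rw [IsoCl.mk_add, IsoCl.mk_add, IsoCl.mk_add, IsoCl.mk_add, IsoCl.mk_eq_iff]
    exact ⟨biprod.associator X Y Z⟩
  zero_add x := by
    induction x using IsoCl.ind with | h X => ?_
    change IsoCl.mk 0 + IsoCl.mk X = IsoCl.mk X
    rw [IsoCl.mk_add, IsoCl.mk_eq_iff]
    exact ⟨(isoZeroBiprod (isZero_zero A)).symm⟩
  add_zero x := by
    induction x using IsoCl.ind with | h X => ?_
    change IsoCl.mk X + IsoCl.mk 0 = IsoCl.mk X
    rw [IsoCl.mk_add, IsoCl.mk_eq_iff]
    exact ⟨(isoBiprodZero (isZero_zero A)).symm⟩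
  add_comm x y := by
    induction x using IsoCl.ind with | h X => ?_
    induction y using IsoCl.ind with | h Y => ?_
    rw [IsoCl.mk_add, IsoCl.mk_add, IsoCl.mk_eq_iff]
    exact ⟨biprod.braiding X Y⟩
  nsmul := nsmulRec

/-- the map to the Grothendieck group of isomorphism classes -/
noncomputable def theta : FreeAbelianGroup A →+ Algebra.GrothendieckAddGroup (IsoCl A) :=
  FreeAbelianGroup.lift (fun X => Algebra.GrothendieckAddGroup.of (IsoCl.mk X))

lemma theta_of (X : A) :
    theta (FreeAbelianGroup.of X) = Algebra.GrothendieckAddGroup.of (IsoCl.mk X) := by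
  unfold theta
  rw [FreeAbelianGroup.lift_apply_of]

lemma theta_biprod (X Y : A) : theta (FreeAbelianGroup.of (X ⊞ Y)) =
    theta (FreeAbelianGroup.of X) + theta (FreeAbelianGroup.of Y) := by
  rw [theta_of, theta_of, theta_of, ← IsoCl.mk_add, map_add]

lemma theta_zero : theta (FreeAbelianGroup.of (0 : A)) = 0 := by
  rw [theta_of]
  exact map_zero _

/-- stable isomorphism from equality in the Grothendieck group -/
lemma exists_stable_iso {X Y : A}
    (h : theta (FreeAbelianGroup.of X) = theta (FreeAbelianGroup.of Y)) :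
    ∃ T : A, Nonempty (T ⊞ X ≅ T ⊞ Y) := by
  rw [theta_of, theta_of] at h
  obtain ⟨c, hc⟩ := (AddLocalization.addMonoidOf (⊤ : AddSubmonoid (IsoCl A))).eq_iff_exists.1 h
  obtain ⟨c, _⟩ := c
  induction c using IsoCl.ind with | h T => ?_
  refine ⟨T, ?_⟩
  rw [← IsoCl.mk_eq_iff, ← IsoCl.mk_add, ← IsoCl.mk_add]
  exact hc

end IsoCl

/-- every relation of `K₀` is realized by an exact pair, up to stable isomorphism -/
lemma exists_epair_of_mem_relAb (r : FreeAbelianGroup A) (hr : r ∈ relAb A) :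
    ∃ E : EPair A, theta r = theta (FreeAbelianGroup.of E.V) - theta (FreeAbelianGroup.of E.U) := by
  unfold relAb at hr
  induction hr using AddSubgroup.closure_induction with
  | mem x hx =>
    obtain ⟨S, hS, rfl⟩ := hx
    refine ⟨EPair.ofShortExact S hS, ?_⟩
    change _ = theta (FreeAbelianGroup.of S.X₂) - theta (FreeAbelianGroup.of (S.X₃ ⊞ S.X₁))
    rw [theta_biprod, map_sub, map_sub]
    abel
  | zero =>
    refine ⟨EPair.zero, ?_⟩
    change _ = theta (FreeAbelianGroup.of (0 : A)) - theta (FreeAbelianGroup.of (0 : A))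
    rw [map_zero, sub_self]
  | add x y _ _ hx hy =>
    obtain ⟨E, hE⟩ := hx
    obtain ⟨E', hE'⟩ := hy
    refine ⟨E.sum E', ?_⟩
    change _ = theta (FreeAbelianGroup.of (E.V ⊞ E'.V)) - theta (FreeAbelianGroup.of (E.U ⊞ E'.U))
    rw [map_add, hE, hE', theta_biprod, theta_biprod]
    abel
  | neg x _ hx =>
    obtain ⟨E, hE⟩ := hx
    refine ⟨E.swap, ?_⟩
    change _ = theta (FreeAbelianGroup.of E.U) - theta (FreeAbelianGroup.of E.V)
    rw [map_neg, hE]
    abel

/-- the 2-periodic complex attached to an exact pair and an isomorphism -/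
lemma heller_of_iso (a b : A) (E : EPair A) (σ : a ⊞ E.U ≅ b ⊞ E.V) :
    ∃ (M : A) (φ ψ : M ⟶ M) (h₁ : φ ≫ ψ = 0) (h₂ : ψ ≫ φ = 0),
      Nonempty ((ShortComplex.mk φ ψ h₁).homology ≅ a) ∧
      Nonempty ((ShortComplex.mk ψ φ h₂).homology ≅ b) := by
  let α : b ⊞ E.V ⟶ a ⊞ E.U := biprod.map 0 E.a
  let β : a ⊞ E.U ⟶ b ⊞ E.V := biprod.map 0 E.b
  have hαβ : α ≫ β = 0 := by ext <;> simp [α, β, E.ab]
  have hβα : β ≫ α = 0 := by ext <;> simp [α, β, E.ba]
  have h₁ : (α ≫ σ.hom) ≫ (σ.inv ≫ β) = 0 := by simp [hαβ]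
  have h₂ : (σ.inv ≫ β) ≫ (α ≫ σ.hom) = 0 := by simp [reassoc_of% hβα]
  refine ⟨b ⊞ E.V, α ≫ σ.hom, σ.inv ≫ β, h₁, h₂, ?_, ?_⟩
  · -- first homology
    let Sab : ShortComplex A := ShortComplex.mk (0 : b ⟶ a) (0 : a ⟶ b) (by simp)
    let SE : ShortComplex A := ShortComplex.mk E.a E.b E.ab
    let e : ShortComplex.mk (α ≫ σ.hom) (σ.inv ≫ β) h₁ ≅ bsum Sab SE :=
      ShortComplex.isoMk (Iso.refl _) σ.symm (Iso.refl _) (by simp [bsum, Sab, SE, α])
        (by simp [bsum, Sab, SE, β])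
    have hz : IsZero SE.homology := (ShortComplex.exact_iff_isZero_homology _).1 E.ex1
    exact ⟨ShortComplex.homologyMapIso e ≪≫ bsumHomologyIso Sab SE ≪≫
      (isoBiprodZero hz).symm ≪≫ (ShortComplex.HomologyData.ofZeros Sab rfl rfl).left.homologyIso⟩
  · let Sba : ShortComplex A := ShortComplex.mk (0 : a ⟶ b) (0 : b ⟶ a) (by simp)
    let SE : ShortComplex A := ShortComplex.mk E.b E.a E.ba
    let e : ShortComplex.mk (σ.inv ≫ β) (α ≫ σ.hom) h₂ ≅ bsum Sba SE :=
      ShortComplex.isoMk σ.symm (Iso.refl _) σ.symm (by simp [bsum, Sba, SE, β])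
        (by simp [bsum, Sba, SE, α])
    have hz : IsZero SE.homology := (ShortComplex.exact_iff_isZero_homology _).1 E.ex2
    exact ⟨ShortComplex.homologyMapIso e ≪≫ bsumHomologyIso Sba SE ≪≫
      (isoBiprodZero hz).symm ≪≫ (ShortComplex.HomologyData.ofZeros Sba rfl rfl).left.homologyIso⟩

variable (P : ObjectProperty A) [P.IsSerreClass]

lemma clSub_iso {X Y : A} (e : X ≅ Y) (hX : P X) : clSub P X = clSub P Y := by
  have hY : P Y := P.prop_of_iso e hX
  have hS : (ShortComplex.cokernelSequence e.hom).ShortExact :=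
    ShortComplex.ShortExact.mk' (ShortComplex.cokernelSequence_exact e.hom)
      (by change Mono e.hom; infer_instance) inferInstance
  have hz : IsZero (cokernel e.hom) := isZero_cokernel_of_epi e.hom
  have hc : P (cokernel e.hom) := P.prop_of_isZero hz
  have h := clSub_shortExact P _ hS hX hY hc
  change clSub P Y = clSub P X + clSub P (cokernel e.hom) at h
  -- the class of a zero object vanishes
  have h0 : clSub P (cokernel e.hom) = 0 := by
    let S0 : ShortComplex A := ShortComplex.mk (0 : cokernel e.hom ⟶ cokernel e.hom)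
      (0 : cokernel e.hom ⟶ cokernel e.hom) (by simp)
    have hS0 : S0.ShortExact := by
      have : Mono S0.f := ⟨fun _ _ _ => hz.eq_of_tgt _ _⟩
      have : Epi S0.g := ⟨fun _ _ _ => hz.eq_of_src _ _⟩
      exact ShortComplex.ShortExact.mk' (ShortComplex.exact_of_isZero_X₂ _ hz) inferInstance
        inferInstance
    have h' := clSub_shortExact P S0 hS0 hc hc hc
    change clSub P (cokernel e.hom) = clSub P (cokernel e.hom) + clSub P (cokernel e.hom) at h'
    exact add_eq_left.1 h'.symm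
  rw [h0, add_zero] at h
  exact h.symm

lemma clSub_of_isZero {X : A} (hz : IsZero X) : clSub P X = 0 := by
  have hc : P X := P.prop_of_isZero hz
  let S0 : ShortComplex A := ShortComplex.mk (0 : X ⟶ X) (0 : X ⟶ X) (by simp)
  have hS0 : S0.ShortExact := by
    have : Mono S0.f := ⟨fun _ _ _ => hz.eq_of_tgt _ _⟩
    have : Epi S0.g := ⟨fun _ _ _ => hz.eq_of_src _ _⟩
    exact ShortComplex.ShortExact.mk' (ShortComplex.exact_of_isZero_X₂ _ hz) inferInstance
      inferInstance
  have h' := clSub_shortExact P S0 hS0 hc hc hc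
  change clSub P X = clSub P X + clSub P X at h'
  exact add_eq_left.1 h'.symm

lemma prop_biprod {X Y : A} (hX : P X) (hY : P Y) : P (X ⊞ Y) :=
  P.prop_X₂_of_shortExact (ShortComplex.Splitting.ofHasBinaryBiproduct X Y).shortExact hX hY

lemma clSub_biprod {X Y : A} (hX : P X) (hY : P Y) :
    clSub P (X ⊞ Y) = clSub P X + clSub P Y :=
  clSub_shortExact P _ (ShortComplex.Splitting.ofHasBinaryBiproduct X Y).shortExact hX
    (prop_biprod P hX hY) hY

/-- every element of `K₀(P)` is a difference of two classes -/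
lemma exists_clSub_sub (x : K0sub P) :
    ∃ a b : A, P a ∧ P b ∧ x = clSub P a - clSub P b := by
  induction x using QuotientAddGroup.induction_on with
  | H z =>
    induction z using FreeAbelianGroup.induction_on with
    | zero =>
      refine ⟨0, 0, P.prop_zero, P.prop_zero, ?_⟩
      rw [sub_self]
      rfl
    | of X =>
      refine ⟨X.1, 0, X.2, P.prop_zero, ?_⟩
      rw [clSub_of_isZero P (isZero_zero A), sub_zero, clSub_of P X.2]
    | neg X h =>
      obtain ⟨a, b, ha, hb, h⟩ := h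
      refine ⟨b, a, hb, ha, ?_⟩
      rw [QuotientAddGroup.mk_neg, h, neg_sub]
    | add x y hx hy =>
      obtain ⟨a, b, ha, hb, h⟩ := hx
      obtain ⟨a', b', ha', hb', h'⟩ := hy
      refine ⟨a ⊞ a', b ⊞ b', prop_biprod P ha ha', prop_biprod P hb hb', ?_⟩
      rw [QuotientAddGroup.mk_add, h, h', clSub_biprod P ha ha', clSub_biprod P hb hb']
      abel

/-- Heller's description of the kernel of `K₀(P) → K₀(A)` -/
theorem iota_eq_zero_iff (x : K0sub P) : iota P x = 0 ↔
    ∃ (M : A) (φ ψ : M ⟶ M) (h₁ : φ ≫ ψ = 0) (h₂ : ψ ≫ φ = 0),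
      P (ShortComplex.mk φ ψ h₁).homology ∧ P (ShortComplex.mk ψ φ h₂).homology ∧
      x = clSub P (ShortComplex.mk φ ψ h₁).homology - clSub P (ShortComplex.mk ψ φ h₂).homology := by
  constructor
  · intro hx
    obtain ⟨a, b, ha, hb, rfl⟩ := exists_clSub_sub P x
    rw [map_sub, iota_clSub P ha, iota_clSub P hb] at hx
    have hmem : FreeAbelianGroup.of a - FreeAbelianGroup.of b ∈ relAb A := by
      rw [← QuotientAddGroup.eq_zero_iff, QuotientAddGroup.mk_sub]
      exact hx
    obtain ⟨E, hE⟩ := exists_epair_of_mem_relAb _ hmem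
    rw [map_sub, sub_eq_sub_iff_add_eq_add, ← theta_biprod, ← theta_biprod] at hE
    obtain ⟨T, ⟨τ⟩⟩ := exists_stable_iso hE
    -- absorb `T` into the exact pair
    let E' : EPair A := (EPair.triv T).sum E
    have hσ : Nonempty (a ⊞ E'.U ≅ b ⊞ E'.V) := by
      change Nonempty (a ⊞ (T ⊞ E.U) ≅ b ⊞ (T ⊞ E.V))
      rw [← IsoCl.mk_eq_iff, ← IsoCl.mk_add, ← IsoCl.mk_add, ← IsoCl.mk_add, ← IsoCl.mk_add,
        add_left_comm, add_left_comm (IsoCl.mk b), IsoCl.mk_add, IsoCl.mk_add, IsoCl.mk_add,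
        IsoCl.mk_add, IsoCl.mk_eq_iff]
      exact ⟨τ ≪≫ biprod.mapIso (Iso.refl T) (biprod.braiding E.V b)⟩
    obtain ⟨σ⟩ := hσ
    obtain ⟨M, φ, ψ, h₁, h₂, ⟨e1⟩, ⟨e2⟩⟩ := heller_of_iso a b E' σ
    refine ⟨M, φ, ψ, h₁, h₂, P.prop_of_iso e1.symm ha, P.prop_of_iso e2.symm hb, ?_⟩
    rw [clSub_iso P e1.symm ha, clSub_iso P e2.symm hb]
  · rintro ⟨M, φ, ψ, h₁, h₂, p1, p2, rfl⟩
    rw [map_sub, iota_clSub P p1, iota_clSub P p2, cl_homology_periodic φ ψ h₁ h₂, sub_self]

end Groth.Agent.Helper3.KZ
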