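import Mathlib

set_option autoImplicit false

namespace Groth.Agent.Helper3.KeFil

universe u v

section FilExt

variable {K : Type u} {A : Type v} [CommRing K] [CommRing A] (ι : K →+* A) (s : A)
  (F : ℕ → AddSubgroup K) (r : ℕ)

/-- `Σ_{i ≤ r} ι(F^{n-i}) s^i` -/
def GG (n : ℕ) : AddSubgroup A :=
  ⨆ i ∈ Finset.range (r + 1), AddSubgroup.map
    ((AddMonoidHom.mulRight (s ^ i)).comp ι.toAddMonoidHom) (F (n - i))

theorem mem_GG {n i : ℕ} (hi : i ≤ r) {x : K} (hx : x ∈ F (n - i)) :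
    ι x * s ^ i ∈ GG ι s F r n := by
  unfold GG
  refine AddSubgroup.mem_iSup_of_mem i
    (AddSubgroup.mem_iSup_of_mem (Finset.mem_range.2 (Nat.lt_succ_of_le hi)) ?_)
  exact ⟨x, hx, rfl⟩

theorem GG_le {n : ℕ} (T : AddSubgroup A)
    (h : ∀ i, i ≤ r → ∀ x ∈ F (n - i), ι x * s ^ i ∈ T) : GG ι s F r n ≤ T := by
  unfold GG
  refine iSup₂_le fun i hi => ?_
  rintro _ ⟨x, hx, rfl⟩
  exact h i (Nat.lt_succ_iff.1 (Finset.mem_range.1 hi)) x hx

variable (hF0 : ∀ x : K, x ∈ F 0) (hanti : ∀ {a b : ℕ}, a ≤ b → F b ≤ F a)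
  (hFmul : ∀ {a b : ℕ} {x y : K}, x ∈ F a → y ∈ F b → x * y ∈ F (a + b))

include hanti in
theorem GG_anti {n n' : ℕ} (h : n ≤ n') : GG ι s F r n' ≤ GG ι s F r n := by
  refine GG_le ι s F r _ fun i hi x hx => ?_
  exact mem_GG ι s F r hi (hanti (Nat.sub_le_sub_right h i) hx)

include hF0 in
theorem map_mem_GG {n : ℕ} {x : K} (hx : x ∈ F n) : ι x ∈ GG ι s F r n := by
  have h := mem_GG ι s F r (n := n) (i := 0) (Nat.zero_le r) (x := x) (by simpa using hx)
  simpa using h

include hF0 in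
theorem one_mem_GG : (1 : A) ∈ GG ι s F r 0 := by
  have h := map_mem_GG ι s F r hF0 (n := 0) (x := 1) (hF0 1)
  simpa using h

include hF0 hFmul in
theorem map_mul_mem_GG {n : ℕ} (x : K) {y : A} (hy : y ∈ GG ι s F r n) :
    ι x * y ∈ GG ι s F r n := by
  have h : GG ι s F r n ≤ (GG ι s F r n).comap (AddMonoidHom.mulLeft (ι x)) := by
    refine GG_le ι s F r _ fun i hi z hz => ?_
    show ι x * (ι z * s ^ i) ∈ GG ι s F r n
    rw [← mul_assoc, ← map_mul]
    refine mem_GG ι s F r hi ?_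
    have := hFmul (hF0 x) hz
    rwa [zero_add] at this
  exact h hy

variable (c : ℕ → K) (hc : ∀ i, c i ∈ F i) (hc0 : c 0 = 1)
  (hrel : ∑ i ∈ Finset.range (r + 2), ι (c i) * s ^ (r + 1 - i) = 0)

include hc0 hrel in
theorem pow_succ_eq :
    s ^ (r + 1) = -∑ j ∈ Finset.range (r + 1), ι (c (j + 1)) * s ^ (r - j) := by
  rw [Finset.sum_range_succ'] at hrel
  simp only [hc0, map_one, one_mul, Nat.sub_zero, Nat.add_sub_add_right] at hrel
  rw [eq_neg_iff_add_eq_zero, add_comm]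
  exact hrel

include hF0 hanti hFmul hc hc0 hrel in
theorem mul_s_mem_GG {n : ℕ} {y : A} (hy : y ∈ GG ι s F r n) : y * s ∈ GG ι s F r (n + 1) := by
  have h : GG ι s F r n ≤ (GG ι s F r (n + 1)).comap (AddMonoidHom.mulRight s) := by
    refine GG_le ι s F r _ fun i hi x hx => ?_
    show ι x * s ^ i * s ∈ GG ι s F r (n + 1)
    rw [mul_assoc, ← pow_succ]
    rcases Nat.lt_or_ge i r with hlt | hge
    · refine mem_GG ι s F r (Nat.succ_le_of_lt hlt) ?_
      rwa [Nat.succ_sub_succ]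
    · have hir : i = r := le_antisymm hi hge
      subst hir
      rw [pow_succ_eq ι s i c hc0 hrel, mul_neg, Finset.mul_sum]
      refine neg_mem (AddSubgroup.sum_mem _ fun j hj => ?_)
      have hj' : j < i + 1 := Finset.mem_range.1 hj
      rw [← mul_assoc, ← map_mul]
      refine mem_GG ι s F i (Nat.sub_le i j) ?_
      have h1 := hFmul hx (hc (j + 1))
      exact hanti (by omega) h1
  exact h hy

include hF0 hanti hFmul hc hc0 hrel in
theorem mul_s_pow_mem_GG {n : ℕ} {y : A} (hy : y ∈ GG ι s F r n) (j : ℕ) :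
    y * s ^ j ∈ GG ι s F r (n + j) := by
  induction j with
  | zero => simpa using hy
  | succ j ih =>
    rw [pow_succ, ← mul_assoc, ← add_assoc]
    exact mul_s_mem_GG ι s F r hF0 hanti hFmul c hc hc0 hrel ih

include hF0 hanti hFmul hc hc0 hrel in
theorem mul_mem_GG {a b : ℕ} {y z : A} (hy : y ∈ GG ι s F r a) (hz : z ∈ GG ι s F r b) :
    y * z ∈ GG ι s F r (a + b) := by
  have h : GG ι s F r a ≤ (GG ι s F r (a + b)).comap (AddMonoidHom.mulRight z) := by
    refine GG_le ι s F r _ fun i hi x hx => ?_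
    show ι x * s ^ i * z ∈ GG ι s F r (a + b)
    have h2 : GG ι s F r b ≤ (GG ι s F r (a + b)).comap (AddMonoidHom.mulLeft (ι x * s ^ i)) := by
      refine GG_le ι s F r _ fun j hj x' hx' => ?_
      show ι x * s ^ i * (ι x' * s ^ j) ∈ GG ι s F r (a + b)
      have e1 : ι x * s ^ i * (ι x' * s ^ j) = ι (x * x') * s ^ (i + j) := by
        rw [map_mul, pow_add]; ring
      rw [e1]
      have h3 : ι (x * x') ∈ GG ι s F r ((a - i) + (b - j)) :=
        map_mem_GG ι s F r hF0 (hFmul hx hx')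
      have h4 := mul_s_pow_mem_GG ι s F r hF0 hanti hFmul c hc hc0 hrel h3 (i + j)
      exact GG_anti ι s F r hanti (by omega) h4
    exact h2 hz
  exact h hy

include hF0 hanti hFmul hc hc0 hrel in
theorem s_add_one_pow_mem (j : ℕ) : (s + 1) ^ j ∈ GG ι s F r 0 := by
  induction j with
  | zero => simpa using one_mem_GG ι s F r hF0
  | succ j ih =>
    rw [pow_succ, mul_add, mul_one]
    refine add_mem ?_ ih
    exact GG_anti ι s F r hanti (Nat.zero_le 1)
      (mul_s_mem_GG ι s F r hF0 hanti hFmul c hc hc0 hrel ih)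

include hF0 hanti hFmul hc hc0 hrel in
theorem GG_zero_eq_top (hgen : ∀ y : A, ∃ g : Polynomial K, Polynomial.eval₂ ι (s + 1) g = y) :
    GG ι s F r 0 = ⊤ := by
  rw [eq_top_iff]
  intro y _
  obtain ⟨g, rfl⟩ := hgen y
  rw [Polynomial.eval₂_eq_sum_range]
  refine AddSubgroup.sum_mem _ fun j _ => ?_
  exact map_mul_mem_GG ι s F r hF0 hFmul _
    (s_add_one_pow_mem ι s F r hF0 hanti hFmul c hc hc0 hrel j)

end FilExt

section FilW

variable {A : Type v} [CommRing A] (G : ℕ → AddSubgroup A) (h0 : (1 : A) ∈ G 0)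
  (hmul : ∀ {a b : ℕ} {x y : A}, x ∈ G a → y ∈ G b → x * y ∈ G (a + b))

/-- power series whose `n`-th coefficient lies in `G n` -/
def filW : Subring (PowerSeries A) where
  carrier := {f | ∀ n, PowerSeries.coeff n f ∈ G n}
  mul_mem' := by
    intro f g hf hg n
    rw [PowerSeries.coeff_mul]
    refine AddSubgroup.sum_mem _ fun p hp => ?_
    have hp' : p.1 + p.2 = n := Finset.HasAntidiagonal.mem_antidiagonal.1 hp
    have h := hmul (hf p.1) (hg p.2)
    rwa [hp'] at h
  one_mem' := by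
    intro n
    rw [PowerSeries.coeff_one]
    split_ifs with h
    · subst h; exact h0
    · exact zero_mem _
  add_mem' := fun {f g} hf hg n => by rw [map_add]; exact add_mem (hf n) (hg n)
  zero_mem' := fun n => by rw [map_zero]; exact zero_mem _
  neg_mem' := fun {f} hf n => by rw [map_neg]; exact neg_mem (hf n)

theorem mem_filW {f : PowerSeries A} :
    f ∈ filW G h0 hmul ↔ ∀ n, PowerSeries.coeff n f ∈ G n := Iff.rfl

theorem C_mul_X_pow_mem_filW {q : ℕ} {y : A} (hy : y ∈ G q) :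
    PowerSeries.C y * PowerSeries.X ^ q ∈ filW G h0 hmul := by
  intro n
  rw [PowerSeries.coeff_C_mul_X_pow]
  split_ifs with h
  · subst h; exact hy
  · exact zero_mem _

theorem C_mem_filW {y : A} (hy : y ∈ G 0) : PowerSeries.C y ∈ filW G h0 hmul := by
  have := C_mul_X_pow_mem_filW G h0 hmul hy
  simpa using this

theorem one_add_C_mul_X_mem_filW {y : A} (hy : y ∈ G 1) :
    1 + PowerSeries.C y * PowerSeries.X ∈ filW G h0 hmul := by
  refine add_mem (one_mem _) ?_
  have := C_mul_X_pow_mem_filW G h0 hmul hy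
  simpa using this

end FilW

end Groth.Agent.Helper3.KeFil
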