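import Groth.Agent.Lib.Helper3.KeFil1
import Groth.Agent.Lib.Helper3.LambdaZ
import Groth.Agent.Lib.Helper3.LambdaP
import Groth.Prelude.Def_KRR

set_option autoImplicit false

namespace Groth.Agent.Helper3.KeFil

open LambdaRing Groth.Agent.Helper3.SplitLib Groth.Agent.Helper3.LambdaLib

universe u

section Esymm

variable {A : Type*} [CommRing A]

theorem esymm_map_hom {B : Type*} [CommRing B] (φ : A →+* B) (s : Multiset A) (n : ℕ) :
    (s.map φ).esymm n = φ (s.esymm n) := by
  unfold Multiset.esymm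
  rw [Multiset.powersetCard_map, Multiset.map_map, map_multiset_sum, Multiset.map_map]
  refine congrArg _ (Multiset.map_congr rfl fun t _ => ?_)
  simp only [Function.comp_apply]
  rw [map_multiset_prod]

/-- homogeneous Vieta: `∏ (Y + a Z) = Σ_q e_q(a) Z^q Y^{n-q}` -/
theorem prod_add_C_mul (s : Multiset A) (Y Z : PowerSeries A) :
    (s.map fun a => Y + PowerSeries.C a * Z).prod =
      ∑ q ∈ Finset.range (Multiset.card s + 1),
        PowerSeries.C (s.esymm q) * Z ^ q * Y ^ (Multiset.card s - q) := by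
  have hs' : ∃ s' : Multiset (PowerSeries A),
      s' = (s.map (PowerSeries.C (R := A))).map (fun b => Z • b) := ⟨_, rfl⟩
  obtain ⟨s', hs'⟩ := hs'
  have h := congrArg (Polynomial.eval Y) (Multiset.prod_X_add_C_eq_sum_esymm s')
  rw [Polynomial.eval_multiset_prod, Multiset.map_map, Polynomial.eval_finsetSum] at h
  have hc : Multiset.card s' = Multiset.card s := by simp [hs']
  have h2 : (s'.map (Polynomial.eval Y ∘ fun r =>
      (Polynomial.X + Polynomial.C r : Polynomial (PowerSeries A)))) =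
      s.map fun a => Y + PowerSeries.C a * Z := by
    rw [hs', Multiset.map_map, Multiset.map_map]
    refine Multiset.map_congr rfl fun a _ => ?_
    simp [smul_eq_mul, mul_comm]
  rw [h2] at h
  rw [h, hc]
  refine Finset.sum_congr rfl fun q _ => ?_
  rw [Polynomial.eval_mul, Polynomial.eval_C, Polynomial.eval_pow, Polynomial.eval_X, hs',
    ← Multiset.pow_smul_esymm, esymm_map_hom, smul_eq_mul]
  ring

theorem sum_map_mul_const (s : Multiset A) (c : A) : (s.map fun v => v * c).sum = s.sum * c := by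
  rw [Multiset.sum_map_mul_right, Multiset.map_id']

theorem neg_one_pow_mul_aux {m i : ℕ} (hi : i ≤ m) (g y : A) :
    (-1 : A) ^ m * ((-1) ^ i * g * y ^ (m - i)) = g * (-y) ^ (m - i) := by
  have h1 : (-1 : A) ^ m = (-1) ^ (m - i) * (-1) ^ i := by rw [← pow_add, Nat.sub_add_cancel hi]
  have h2 : ((-1 : A) ^ i) * ((-1) ^ i) = 1 := by
    rw [← mul_pow]; simp
  rw [neg_pow y, h1]
  linear_combination ((-1 : A) ^ (m - i) * g * y ^ (m - i)) * h2

end Esymm

section MapFil

variable {K : Type u} [CommRing K] [LambdaOps K] (P : PosStructure K)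
  {A : Type u} [CommRing A] [LambdaOps A] (P' : PosStructure A)

theorem map_gammaSeries' (f : K →+* A) (hf : IsLambdaHom f) (x : K) :
    PowerSeries.map f (gammaSeries x) = gammaSeries (f x) := by
  refine PowerSeries.ext fun n => ?_
  rw [PowerSeries.coeff_map, coeff_gammaSeries, coeff_gammaSeries, map_gamma f hf]

theorem map_mem_gammaFiltration {f : K →+* A} (hf : IsLambdaHom f)
    (haug : ∀ x, P'.aug (f x) = P.aug x) {n : ℕ} {x : K} (hx : x ∈ gammaFiltration P n) :
    f x ∈ gammaFiltration P' n := by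
  rcases Nat.eq_zero_or_pos n with rfl | hn
  · rw [gammaFiltration_zero]; exact AddSubgroup.mem_top _
  · rw [gammaFiltration_of_ne P (by omega : n ≠ 0)] at hx
    induction hx using AddSubgroup.closure_induction with
    | mem y hy =>
      obtain ⟨l, hl, hsum, rfl⟩ := hy
      apply subset_gammaFiltration P' n
      refine ⟨l.map (fun p => (p.1, f p.2)), ?_, ?_, ?_⟩
      · intro q hq
        obtain ⟨p, hp, rfl⟩ := List.mem_map.1 hq
        show P'.aug (f p.2) = 0
        rw [haug, hl p hp]
      · rw [List.map_map]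
        exact hsum
      · rw [map_list_prod, List.map_map, List.map_map]
        refine congrArg _ (List.map_congr_left fun p _ => ?_)
        exact map_gamma f hf p.1 p.2
    | zero => rw [map_zero]; exact zero_mem _
    | add x y _ _ hx hy => rw [map_add]; exact add_mem hx hy
    | neg x _ hx => rw [map_neg]; exact neg_mem hx

/-- the relation `Σ_i (-1)^i ι(γ^i(e - m)) (ℓ-1)^{m-i} = 0` coming from `p_e(ℓ) = 0` -/
theorem rel_gamma {e : K} (he : e ∈ P.pos) (ι : K →+* A) (ℓ : A)
    (hrel : Polynomial.eval₂ ι ℓ (KRR.extPoly P e) = 0) :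
    ∑ i ∈ Finset.range ((P.aug e).toNat + 1),
      ι ((-1) ^ i * gamma i (e - ((P.aug e).toNat : K))) * (ℓ - 1) ^ ((P.aug e).toNat - i) = 0 := by
  obtain ⟨m, hm⟩ : ∃ m, m = (P.aug e).toNat := ⟨_, rfl⟩
  have h1 := congrArg (Polynomial.eval₂ ι (1 - ℓ)) (gamma_lam_poly P he)
  unfold KRR.extPoly at hrel
  rw [← hm] at h1 hrel ⊢
  simp only [Polynomial.eval₂_finsetSum, Polynomial.eval₂_mul, Polynomial.eval₂_C,
    Polynomial.eval₂_pow, Polynomial.eval₂_X, Polynomial.eval₂_sub, Polynomial.eval₂_one] at h1 hrel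
  have h2 : (-1 : A) ^ m * ∑ i ∈ Finset.range (m + 1),
      ι ((-1) ^ i * gamma i (e - (m : K))) * (ℓ - 1) ^ (m - i) =
      ∑ i ∈ Finset.range (m + 1), ι (gamma i (e - (m : K))) * (1 - ℓ) ^ (m - i) := by
    rw [Finset.mul_sum]
    refine Finset.sum_congr rfl fun i hi => ?_
    have hi' : i ≤ m := Nat.lt_succ_iff.1 (Finset.mem_range.1 hi)
    rw [map_mul, map_pow, map_neg, map_one, neg_one_pow_mul_aux hi', neg_sub]
  have h3 : (-1 : A) ^ m * ∑ i ∈ Finset.range (m + 1),
      ι ((-1) ^ i * LambdaOps.lam i e) * ℓ ^ (m - i) =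
      ∑ i ∈ Finset.range (m + 1), ι (LambdaOps.lam i e) * (1 - ℓ - 1) ^ (m - i) := by
    rw [Finset.mul_sum]
    refine Finset.sum_congr rfl fun i hi => ?_
    have hi' : i ≤ m := Nat.lt_succ_iff.1 (Finset.mem_range.1 hi)
    rw [map_mul, map_pow, map_neg, map_one, neg_one_pow_mul_aux hi']
    congr 2
    ring
  have h4 : ((-1 : A) ^ m) * ((-1) ^ m) = 1 := by rw [← mul_pow]; simp
  calc ∑ i ∈ Finset.range (m + 1),
        ι ((-1) ^ i * gamma i (e - (m : K))) * (ℓ - 1) ^ (m - i)
      = (-1 : A) ^ m * ((-1 : A) ^ m * ∑ i ∈ Finset.range (m + 1),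
        ι ((-1) ^ i * gamma i (e - (m : K))) * (ℓ - 1) ^ (m - i)) := by
        rw [← mul_assoc, h4, one_mul]
    _ = (-1 : A) ^ m * ((-1 : A) ^ m * ∑ i ∈ Finset.range (m + 1),
        ι ((-1) ^ i * LambdaOps.lam i e) * ℓ ^ (m - i)) := by rw [h2, h1, ← h3]
    _ = 0 := by rw [hrel, mul_zero, mul_zero]

/-- `γ_t(x u - μ)` for `x` positive of augmentation `μ` and `u` a line element -/
theorem gammaSeries_pos_mul_line (hA : HasSplitting A P') {x u : A} (hx : x ∈ P'.pos)
    (hu : P'.IsLine u) :
    gammaSeries (x * u - (((P'.aug x).toNat : ℕ) : A)) =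
      ∑ q ∈ Finset.range ((P'.aug x).toNat + 1),
        PowerSeries.C (gamma q (x - (((P'.aug x).toNat : ℕ) : A))) *
          (PowerSeries.C u * PowerSeries.X) ^ q *
          (1 + PowerSeries.C (u - 1) * PowerSeries.X) ^ ((P'.aug x).toNat - q) := by
  obtain ⟨L, f, _, hf, s, hs, hsum⟩ := exists_split P' hA x hx
  have hcard : Multiset.card s = (P'.aug x).toNat := by
    have h1 := aug_multiset_sum L.posStr s hs
    rw [hsum, hf.aug_comp] at h1
    rw [h1]
    simp
  obtain ⟨μ, hμ⟩ : ∃ μ, μ = (P'.aug x).toNat := ⟨_, rfl⟩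
  rw [← hμ] at hcard ⊢
  apply PowerSeries.map_injective f hf.injective
  rw [map_gammaSeries' f hf.isLambdaHom, map_sum]
  have hline : ∀ v ∈ s.map (fun v => v * f u), L.posStr.IsLine v := by
    intro v hv
    obtain ⟨w, hw, rfl⟩ := Multiset.mem_map.1 hv
    exact isLine_mul L.posStr (hs w hw) (isLine_map hf hu)
  have hL : f (x * u - (μ : A)) = (s.map (fun v => v * f u)).sum -
      (Multiset.card (s.map fun v => v * f u) : L.carrier) := by
    rw [Multiset.card_map, hcard, sum_map_mul_const, hsum, map_sub, map_mul, map_natCast]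
  rw [hL, gammaSeries_multiset_sum L.posStr _ hline, Multiset.map_map]
  have hq : ∀ q, f (gamma q (x - (μ : A))) = (s.map fun v => v - 1).esymm q := by
    intro q
    rw [map_gamma f hf.isLambdaHom, map_sub, map_natCast, ← hsum, ← hcard,
      gamma_multiset_sum L.posStr s hs]
  have hV := prod_add_C_mul (s.map fun v => v - 1) (1 + PowerSeries.C (f u - 1) * PowerSeries.X)
    (PowerSeries.C (f u) * PowerSeries.X)
  rw [Multiset.map_map, Multiset.card_map, hcard] at hV
  have hmm : (s.map ((fun v => (1 + PowerSeries.C (v - 1) * PowerSeries.X :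
      PowerSeries L.carrier)) ∘ fun v => v * f u)) =
      s.map ((fun a => 1 + PowerSeries.C (f u - 1) * PowerSeries.X +
        PowerSeries.C a * (PowerSeries.C (f u) * PowerSeries.X)) ∘ fun v => v - 1) := by
    refine Multiset.map_congr rfl fun v _ => ?_
    simp only [Function.comp_apply, map_sub, map_mul, map_one]
    ring
  rw [hmm, hV]
  refine Finset.sum_congr rfl fun q _ => ?_
  simp only [map_mul, map_pow, map_add, map_one, PowerSeries.map_C, PowerSeries.map_X, map_sub, hq]

end MapFil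

end Groth.Agent.Helper3.KeFil
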