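import Groth.Agent.Lib.Helper3.KeFil2

set_option autoImplicit false

namespace Groth.Agent.Helper3.KeFil

open LambdaRing Groth.Agent.Helper3.SplitLib Groth.Agent.Helper3.LambdaLib

universe u

section Main

variable {K : Type u} [CommRing K] [LambdaOps K] (P : PosStructure K)
  {A : Type u} [CommRing A] [LambdaOps A] (P' : PosStructure A) (ι : K →+* A) (ℓ : A) (r : ℕ)

local notation "G" => GG ι (ℓ - 1) (gammaFiltration P) r

theorem hF0 (x : K) : x ∈ gammaFiltration P 0 := by
  rw [gammaFiltration_zero]; exact AddSubgroup.mem_top _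

/-- the relation data -/
theorem exists_rel {e : K} (he : e ∈ P.pos) (hr : P.aug e = r + 1)
    (hrel : Polynomial.eval₂ ι ℓ (KRR.extPoly P e) = 0) :
    ∃ c : ℕ → K, (∀ i, c i ∈ gammaFiltration P i) ∧ c 0 = 1 ∧
      ∑ i ∈ Finset.range (r + 2), ι (c i) * (ℓ - 1) ^ (r + 1 - i) = 0 := by
  have hm : (P.aug e).toNat = r + 1 := by rw [hr]; omega
  have haug0 : P.aug (e - ((r + 1 : ℕ) : K)) = 0 := by
    rw [map_sub, map_natCast, hr]; push_cast; ring
  refine ⟨fun i => (-1) ^ i * gamma i (e - ((r + 1 : ℕ) : K)), fun i => ?_, ?_, ?_⟩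
  · exact mul_mem_gammaFiltration_left P i _ (gamma_mem_gammaFiltration P haug0 i)
  · simp [gamma]
  · have h := rel_gamma P he ι ℓ hrel
    rw [hm] at h
    exact h

theorem G_anti {n n' : ℕ} (h : n ≤ n') : G n' ≤ G n :=
  GG_anti ι (ℓ - 1) (gammaFiltration P) r (fun h => gammaFiltration_anti P h) h

theorem G_one : (1 : A) ∈ G 0 := one_mem_GG ι (ℓ - 1) (gammaFiltration P) r (hF0 P)

theorem G_map {n : ℕ} {x : K} (hx : x ∈ gammaFiltration P n) : ι x ∈ G n :=
  map_mem_GG ι (ℓ - 1) (gammaFiltration P) r (hF0 P) hx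

variable {e : K} (he : e ∈ P.pos) (hr : P.aug e = r + 1)
  (hrel : Polynomial.eval₂ ι ℓ (KRR.extPoly P e) = 0)

include he hr hrel in
theorem G_mul {a b : ℕ} {y z : A} (hy : y ∈ G a) (hz : z ∈ G b) : y * z ∈ G (a + b) := by
  obtain ⟨c, hc, hc0, hcrel⟩ := exists_rel P ι ℓ r he hr hrel
  exact mul_mem_GG ι (ℓ - 1) (gammaFiltration P) r (hF0 P) (fun h => gammaFiltration_anti P h)
    (fun hx hy => mul_mem_gammaFiltration P hx hy) c hc hc0 hcrel hy hz

include he hr hrel in
theorem G_mul_s {n : ℕ} {y : A} (hy : y ∈ G n) : y * (ℓ - 1) ∈ G (n + 1) := by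
  obtain ⟨c, hc, hc0, hcrel⟩ := exists_rel P ι ℓ r he hr hrel
  exact mul_s_mem_GG ι (ℓ - 1) (gammaFiltration P) r (hF0 P) (fun h => gammaFiltration_anti P h)
    (fun hx hy => mul_mem_gammaFiltration P hx hy) c hc hc0 hcrel hy

variable (hgen : ∀ y : A, ∃ g : Polynomial K, Polynomial.eval₂ ι ℓ g = y)

include he hr hrel hgen in
theorem G_top (y : A) : y ∈ G 0 := by
  obtain ⟨c, hc, hc0, hcrel⟩ := exists_rel P ι ℓ r he hr hrel
  rw [GG_zero_eq_top ι (ℓ - 1) (gammaFiltration P) r (hF0 P) (fun h => gammaFiltration_anti P h)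
    (fun hx hy => mul_mem_gammaFiltration P hx hy) c hc hc0 hcrel
    (fun y => by obtain ⟨g, hg⟩ := hgen y; exact ⟨g, by rw [sub_add_cancel]; exact hg⟩)]
  exact AddSubgroup.mem_top _

variable (hA : HasSplitting A P') (hext : IsExtension P P' ι) (hline : P'.IsLine ℓ)

include he hr hrel hgen hA hext hline in
theorem key (p : K) (hp : p ∈ P.pos) (i n : ℕ) :
    gamma n (ι p * ℓ ^ i - (((P'.aug (ι p)).toNat : ℕ) : A)) ∈ G n := by
  have hx : ι p ∈ P'.pos := hext.pos_subset p hp
  have hu : P'.IsLine (ℓ ^ i) := isLine_pow P' hline i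
  have hB3 := congrArg (PowerSeries.coeff n) (gammaSeries_pos_mul_line P' hA hx hu)
  rw [coeff_gammaSeries] at hB3
  rw [hB3]
  obtain ⟨μ, hμ⟩ : ∃ μ, μ = (P'.aug (ι p)).toNat := ⟨_, rfl⟩
  rw [← hμ]
  have hμ' : P.aug p = (μ : ℤ) := by
    rw [hμ, hext.aug_comp, Int.toNat_of_nonneg (le_of_lt (P.aug_pos p hp))]
  have h0 : (1 : A) ∈ G 0 := G_one P ι ℓ r
  have hmul : ∀ {a b : ℕ} {x y : A}, x ∈ G a → y ∈ G b → x * y ∈ G (a + b) :=
    fun hx hy => G_mul P ι ℓ r he hr hrel hx hy
  suffices hmem : (∑ q ∈ Finset.range (μ + 1),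
      PowerSeries.C (gamma q (ι p - (μ : A))) * (PowerSeries.C (ℓ ^ i) * PowerSeries.X) ^ q *
        (1 + PowerSeries.C (ℓ ^ i - 1) * PowerSeries.X) ^ (μ - q)) ∈
      filW (GG ι (ℓ - 1) (gammaFiltration P) r) h0 hmul from hmem n
  refine Subring.sum_mem _ fun q _ => ?_
  refine Subring.mul_mem _ ?_ (Subring.pow_mem _ ?_ _)
  · have e1 : PowerSeries.C (gamma q (ι p - (μ : A))) *
        (PowerSeries.C (ℓ ^ i) * PowerSeries.X) ^ q =
        PowerSeries.C ((ℓ ^ i) ^ q) *
          (PowerSeries.C (gamma q (ι p - (μ : A))) * PowerSeries.X ^ q) := by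
      simp only [mul_pow, map_pow]; ring
    rw [e1]
    refine Subring.mul_mem _ (C_mem_filW _ h0 hmul (G_top P ι ℓ r he hr hrel hgen _))
      (C_mul_X_pow_mem_filW _ h0 hmul ?_)
    have e2 : gamma q (ι p - (μ : A)) = ι (gamma q (p - (μ : K))) := by
      rw [map_gamma ι hext.isLambdaHom, map_sub, map_natCast]
    rw [e2]
    refine G_map P ι ℓ r (gamma_mem_gammaFiltration P ?_ q)
    rw [map_sub, map_natCast, hμ', sub_self]
  · refine one_add_C_mul_X_mem_filW _ h0 hmul ?_
    rw [← geom_sum_mul]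
    exact G_mul_s P ι ℓ r he hr hrel (G_top P ι ℓ r he hr hrel hgen _)

include he hr hrel hgen hA hext hline in
/-- the γ-filtration of an elementary extension -/
theorem gammaFiltration_ext_eq (k : ℕ) :
    gammaFiltration P' k = ⨆ i ∈ Finset.range (r + 1), AddSubgroup.map
      ((AddMonoidHom.mulRight ((ℓ - 1) ^ i)).comp ι.toAddMonoidHom)
      (gammaFiltration P (k - i)) := by
  change gammaFiltration P' k = G k
  apply le_antisymm
  · rcases Nat.eq_zero_or_pos k with rfl | hk
    · intro y _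
      exact G_top P ι ℓ r he hr hrel hgen y
    · rw [gammaFiltration_of_ne P' (by omega : k ≠ 0), AddSubgroup.closure_le]
      rintro y ⟨l, hl, hsum, rfl⟩
      let ε : A →ₐ[ℤ] ℤ := P'.aug.toIntAlgHom
      let S : Set A := {y | ∃ p ∈ P.pos, ∃ i : ℕ, y = ι p * ℓ ^ i}
      have hS : AddSubgroup.closure S = ⊤ := by
        rw [eq_top_iff]
        intro y _
        obtain ⟨g, rfl⟩ := hgen y
        rw [Polynomial.eval₂_eq_sum_range]
        refine AddSubgroup.sum_mem _ fun j _ => ?_
        obtain ⟨e1, e2, h1, h2, h12⟩ := P.exists_sub (g.coeff j)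
        rw [h12, map_sub, sub_mul]
        exact sub_mem (AddSubgroup.subset_closure ⟨e1, h1, j, rfl⟩)
          (AddSubgroup.subset_closure ⟨e2, h2, j, rfl⟩)
      have hgWle : ∀ (n : ℕ) (y : A), y ∈ gW ε S n → y ∈ G n := by
        intro n y hy
        unfold gW at hy
        refine Submodule.span_induction (p := fun y _ => y ∈ G n) ?_ ?_ ?_ ?_ hy
        · rintro y ⟨l, hl, hn, rfl⟩
          refine G_anti P ι ℓ r hn ?_
          clear hn
          induction l with
          | nil => simpa using G_one P ι ℓ r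
          | cons q l ih =>
            rw [List.map_cons, List.map_cons, List.prod_cons, List.sum_cons]
            refine G_mul P ι ℓ r he hr hrel ?_
              (ih fun q' hq' => hl q' (List.mem_cons_of_mem _ hq'))
            obtain ⟨p0, hp0, i, hpi⟩ := hl q List.mem_cons_self
            have haug : algebraMap ℤ A (ε q.2) = (((P'.aug (ι p0)).toNat : ℕ) : A) := by
              rw [hpi]
              show ((P'.aug (ι p0 * ℓ ^ i) : ℤ) : A) = _
              rw [map_mul, (isLine_pow P' hline i).2, mul_one]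
              have hpos := P'.aug_pos _ (hext.pos_subset p0 hp0)
              conv_lhs => rw [← Int.toNat_of_nonneg (le_of_lt hpos)]
              rw [Int.cast_natCast]
            rw [haug, hpi]
            exact key P P' ι ℓ r he hr hrel hgen hA hext hline p0 hp0 i q.1
        · exact zero_mem _
        · intro x y _ _ hx hy
          exact add_mem hx hy
        · intro a x _ hx
          exact AddSubgroup.zsmul_mem _ hx a
      have hW : (l.map fun p => gamma p.1 p.2).prod ∈ gW ε S (l.map Prod.fst).sum := by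
        clear hsum
        induction l with
        | nil => simpa using one_mem_gW ε S
        | cons q l ih =>
          rw [List.map_cons, List.map_cons, List.prod_cons, List.sum_cons]
          exact mul_mem_gW ε S (gamma_mem_gW ε S hS q.2 (hl q List.mem_cons_self) q.1)
            (ih fun q' hq' => hl q' (List.mem_cons_of_mem _ hq'))
      exact G_anti P ι ℓ r hsum (hgWle _ _ hW)
  · refine GG_le ι (ℓ - 1) _ r _ fun i hi x hx => ?_
    have h1 : ι x ∈ gammaFiltration P' (k - i) :=
      map_mem_gammaFiltration P P' hext.isLambdaHom hext.aug_comp hx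
    have h2 : ℓ - 1 ∈ gammaFiltration P' 1 :=
      mem_gammaFiltration_one P' (by rw [map_sub, hline.2, map_one, sub_self])
    have h3 := mul_mem_gammaFiltration P' h1 (pow_mem_gammaFiltration P' h2 i)
    exact gammaFiltration_anti P' (by omega) h3

end Main

end Groth.Agent.Helper3.KeFil
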