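import Mathlib
import Groth.Prelude.Def_FlatMod2
import Groth.Prelude.Def_Coh
import Groth.Prelude.Def_CohB1
import Groth.Agent.Lib.Helper3.KerFP1
import Groth.Agent.Lib.Helper3.RelFPS3
import Groth.Agent.Lib.Helper1.QcExt
import Groth.Agent.Lib.Helper1.AffPushEpi
import Groth.Agent.Lib.Lead.FO1
import Groth.Agent.Lib.Lead.FP2

/-! The kernel of an epimorphism of finitely presented quasi-coherent modules onto a module flat
over the base is finitely presented (helper3): S4887. -/

set_option autoImplicit false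
set_option backward.isDefEq.respectTransparency.types false
set_option synthInstance.maxHeartbeats 400000
set_option linter.style.haveILetI false
universe u

open AlgebraicGeometry CategoryTheory CategoryTheory.Limits TopologicalSpace

namespace Groth.Agent.Helper3.KerFP

open Groth.Agent.Lead.FO Scheme.Modules Groth.Agent.Helper3.RelFPS

theorem S4887_main {X Y : Scheme.{u}} (f : X ⟶ Y) [LocallyOfFinitePresentation f]
    (G H : X.Modules) [G.IsQuasicoherent] [H.IsQuasicoherent] (hG : CohB1.IsFP G)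
    (hH : CohB1.IsFP H) (hflat : FlatMod.IsFlatOver f H) (p : G ⟶ H) [Epi p] :
    CohB1.IsFP (kernel p) := by
  haveI hK : (kernel p).IsQuasicoherent := Groth.Agent.Helper1.QcAbel.isQuasicoherent_kernel p
  apply Groth.Agent.Lead.FP.isFP_of_fp_sections
  intro x
  obtain ⟨_, ⟨V, hV, rfl⟩, hxV, -⟩ :=
    Y.isBasis_affineOpens.exists_subset_of_mem_open (Set.mem_univ (f x)) isOpen_univ
  obtain ⟨_, ⟨U, hU, rfl⟩, hxU, hUV⟩ :=
    X.isBasis_affineOpens.exists_subset_of_mem_open (show x ∈ (f ⁻¹ᵁ V : Set X) from hxV)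
      (f ⁻¹ᵁ V).isOpen
  have hUV' : U ≤ f ⁻¹ᵁ V := hUV
  refine ⟨U, hU, hxU, ?_⟩
  have hφ : (f.appLE V U hUV').hom.FinitePresentation :=
    HasRingHomProperty.appLE (P := @LocallyOfFinitePresentation) f inferInstance ⟨V, hV⟩ ⟨U, hU⟩ hUV'
  letI alg : Algebra Γ(Y, V) Γ(X, U) := (f.appLE V U hUV').hom.toAlgebra
  letI m1 := sectionsOver f H hUV'
  haveI t1 : IsScalarTower Γ(Y, V) Γ(X, U) Γ(H, U) :=
    IsScalarTower.of_algebraMap_smul fun r m => rfl
  haveI : Algebra.FinitePresentation Γ(Y, V) Γ(X, U) := hφ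
  haveI : Module.FinitePresentation Γ(X, U) Γ(G, U) :=
    Groth.Agent.Lead.FP.fp_sections_of_isFP G hG hU
  haveI : Module.FinitePresentation Γ(X, U) Γ(H, U) :=
    Groth.Agent.Lead.FP.fp_sections_of_isFP H hH hU
  haveI : Module.Flat Γ(Y, V) Γ(H, U) :=
    flat_sectionsOver_of_isFlatOverAt f H hU hV hUV' (fun z => hflat z.1)
  have hsurj : Function.Surjective (appₗ p U) :=
    Groth.Agent.Helper1.AffPushEpi.app_surjective_of_epi p U hU
  haveI : Module.FinitePresentation Γ(X, U) ↥(LinearMap.ker (appₗ p U)) :=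
    fp_ker_of_surjective_of_flat Γ(Y, V) Γ(X, U) (appₗ p U) hsurj
  -- the short exact sequence
  let T : ShortComplex X.Modules := ShortComplex.mk (kernel.ι p) p (kernel.condition p)
  have hT : T.ShortExact :=
    { exact := ShortComplex.exact_of_f_is_kernel _ (kernelIsKernel p)
      mono_f := inferInstanceAs (Mono (kernel.ι p))
      epi_g := inferInstanceAs (Epi p) }
  have hinj : Function.Injective (appₗ (kernel.ι p) U) :=
    Groth.Agent.Helper1.QcExt.app_injective hT U
  have hrange : LinearMap.range (appₗ (kernel.ι p) U) = LinearMap.ker (appₗ p U) := by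
    ext y
    constructor
    · rintro ⟨z, rfl⟩
      exact Groth.Agent.Helper1.QcExt.app_zero T U z
    · intro hy
      obtain ⟨z, hz⟩ := Groth.Agent.Helper1.QcExt.app_exact hT U y hy
      exact ⟨z, hz⟩
  let e : Γ(kernel p, U) ≃ₗ[Γ(X, U)] ↥(LinearMap.ker (appₗ p U)) :=
    (LinearEquiv.ofInjective _ hinj).trans (LinearEquiv.ofEq _ _ hrange)
  exact Module.FinitePresentation.of_equiv e.symm

end Groth.Agent.Helper3.KerFP
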