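import Mathlib

/-!
# Preliminaries on minimal primes, the nilradical and heights
-/

set_option autoImplicit false
universe u

namespace Groth.Agent.Helper3.KolFlat

variable {B : Type u} [CommRing B]

/-- a prime all of whose elements are locally nilpotent is minimal -/
theorem mem_minimalPrimes_of_locally_nilpotent (q : Ideal B) [hq : q.IsPrime]
    (h : ∀ y ∈ q, ∃ s, s ∉ q ∧ IsNilpotent (s * y)) : q ∈ minimalPrimes B := by
  refine ⟨⟨hq, bot_le⟩, ?_⟩
  rintro P ⟨hP, -⟩ hPq y hy
  obtain ⟨s, hs, n, hn⟩ := h y hy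
  have h1 : (s * y) ^ n ∈ P := by rw [hn]; exact zero_mem _
  have h2 : s * y ∈ P := hP.mem_of_pow_mem n h1
  exact (hP.mem_or_mem h2).resolve_left (fun hsP => hs (hPq hsP))

/-- the associated primes of the reduction are minimal primes -/
theorem mem_minimalPrimes_of_mem_associatedPrimes_quotient_nilradical [IsNoetherianRing B]
    (q : Ideal B)
    (hq : q ∈ associatedPrimes B (B ⧸ nilradical B)) : q ∈ minimalPrimes B := by
  obtain ⟨hqp, z, hz⟩ := (isAssociatedPrime_iff).1 hq
  obtain ⟨b, rfl⟩ := Ideal.Quotient.mk_surjective z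
  have hmem : ∀ y : B, y ∈ q ↔ y * b ∈ nilradical B := by
    intro y
    rw [hz, Submodule.mem_colon_singleton, Submodule.mem_bot, ← Ideal.Quotient.eq_zero_iff_mem,
      map_mul]
    rfl
  have hb : b ∉ nilradical B := by
    intro hb
    apply hqp.ne_top
    rw [Ideal.eq_top_iff_one, hmem, one_mul]
    exact hb
  have hN : nilradical B = sInf (minimalPrimes B) := by
    rw [minimalPrimes, Ideal.sInf_minimalPrimes]
    rfl
  rw [hN, Ideal.mem_sInf] at hb
  push Not at hb
  obtain ⟨P, hP, hbP⟩ := hb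
  have hqP : q ≤ P := by
    intro y hy
    have h1 := (hmem y).1 hy
    rw [hN, Ideal.mem_sInf] at h1
    exact (hP.1.1.mem_or_mem (h1 hP)).resolve_right hbP
  have hPq : P ≤ q := hP.2 ⟨hqp, bot_le⟩ hqP
  rw [le_antisymm hqP hPq]
  exact hP

/-- heights do not drop when passing to a quotient by an ideal contained in the prime -/
theorem height_comap_le (N : Ideal B) (hN : N ≤ nilradical B) (P' : Ideal (B ⧸ N)) [P'.IsPrime] :
    (P'.comap (Ideal.Quotient.mk N)).height ≤ P'.height := by
  have hNle : ∀ P : PrimeSpectrum B, N ≤ P.asIdeal := fun P =>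
    hN.trans (nilradical_le_prime P.asIdeal)
  let g : PrimeSpectrum B → PrimeSpectrum (B ⧸ N) := fun P =>
    ⟨P.asIdeal.map (Ideal.Quotient.mk N),
      Ideal.isPrime_map_quotientMk_of_isPrime (hNle P)⟩
  have hcm : ∀ P : PrimeSpectrum B, (P.asIdeal.map (Ideal.Quotient.mk N)).comap
      (Ideal.Quotient.mk N) = P.asIdeal := by
    intro P
    rw [Ideal.comap_map_of_surjective _ Ideal.Quotient.mk_surjective, ← RingHom.ker_eq_comap_bot,
      Ideal.mk_ker, sup_eq_left]
    exact hNle P
  have hg : StrictMono g := by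
    intro P₁ P₂ h
    refine lt_of_le_of_ne (Ideal.map_mono h.le) ?_
    intro heq
    have h1 : (g P₁).asIdeal = (g P₂).asIdeal := congrArg PrimeSpectrum.asIdeal heq
    have h2 := congrArg (Ideal.comap (Ideal.Quotient.mk N)) h1
    simp only [g] at h2
    rw [hcm, hcm] at h2
    exact h.ne (PrimeSpectrum.ext h2)
  let P₀ : PrimeSpectrum B := ⟨P'.comap (Ideal.Quotient.mk N), inferInstance⟩
  have hgP : g P₀ = ⟨P', inferInstance⟩ := by
    apply PrimeSpectrum.ext
    exact Ideal.map_comap_of_surjective _ Ideal.Quotient.mk_surjective P'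
  have h1 := Order.height_le_height_apply_of_strictMono g hg P₀
  rw [hgP, ← PrimeSpectrum.height_eq_orderHeight, ← PrimeSpectrum.height_eq_orderHeight] at h1
  exact h1

end Groth.Agent.Helper3.KolFlat
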