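import Mathlib
import Groth.Prelude.Def_EGA4b
import Groth.Agent.Lib.Helper3.KolFlat1
import Groth.Agent.Lib.Helper3.DefModD

/-!
# Algebras over an Artinian local ring: good primes
-/

set_option autoImplicit false
universe u

namespace Groth.Agent.Helper3.KolFlat

open IsLocalRing

section socle

variable {A : Type u} [CommRing A] [IsArtinianRing A] [IsLocalRing A]

theorem exists_pow_maximalIdeal_eq_bot : ∃ n : ℕ, maximalIdeal A ^ n = ⊥ := by
  have h := IsArtinianRing.isNilpotent_jacobson_bot (R := A)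
  rw [IsLocalRing.jacobson_eq_maximalIdeal ⊥ bot_ne_top] at h
  obtain ⟨n, hn⟩ := h
  exact ⟨n, by simpa using hn⟩

/-- a socle element modulo a proper ideal -/
theorem exists_socle (𝔠 : Ideal A) (h𝔠 : 𝔠 ≠ ⊤) :
    ∃ ε : A, ε ∉ 𝔠 ∧ (∀ m ∈ maximalIdeal A, m * ε ∈ 𝔠) ∧
      (¬ maximalIdeal A ≤ 𝔠 → ε ∈ maximalIdeal A) := by
  classical
  obtain ⟨n₀, hn₀⟩ := exists_pow_maximalIdeal_eq_bot (A := A)
  have hex : ∃ n : ℕ, maximalIdeal A ^ n ≤ 𝔠 := ⟨n₀, by rw [hn₀]; exact bot_le⟩
  set n := Nat.find hex with hn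
  have hle : maximalIdeal A ^ n ≤ 𝔠 := Nat.find_spec hex
  have hn0 : n ≠ 0 := by
    intro h0
    rw [h0, pow_zero, Ideal.one_eq_top, top_le_iff] at hle
    exact h𝔠 hle
  obtain ⟨k, hk⟩ : ∃ k, n = k + 1 := ⟨n - 1, by omega⟩
  have hnot : ¬ maximalIdeal A ^ k ≤ 𝔠 := fun h => by
    have := Nat.find_min' hex h
    omega
  rw [SetLike.not_le_iff_exists] at hnot
  obtain ⟨ε, hεk, hε⟩ := hnot
  refine ⟨ε, hε, ?_, ?_⟩
  · intro m hm
    apply hle
    rw [hk, pow_succ']
    exact Ideal.mul_mem_mul hm hεk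
  · intro h1
    have hk0 : k ≠ 0 := by
      rintro rfl
      apply h1
      have := hle
      rwa [hk, zero_add, pow_one] at this
    exact Ideal.pow_le_self hk0 hεk

theorem mem_maximalIdeal_of_mul_mem {𝔠 : Ideal A} {ε : A} (hε : ε ∉ 𝔠) {a : A}
    (h : ε * a ∈ 𝔠) : a ∈ maximalIdeal A := by
  by_contra ha
  rw [mem_maximalIdeal, mem_nonunits_iff, not_not] at ha
  obtain ⟨u, rfl⟩ := ha
  apply hε
  have : ε = (ε * u) * ↑u⁻¹ := by rw [mul_assoc, Units.mul_inv, mul_one]
  rw [this]
  exact Ideal.mul_mem_right _ _ h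

end socle

variable {A : Type u} [CommRing A] [IsArtinianRing A] [IsLocalRing A]
  (B : Type u) [CommRing B] [Algebra A B] [IsNoetherianRing B]

/-- `𝔪 B` -/
abbrev mB : Ideal B := (maximalIdeal A).map (algebraMap A B)

theorem mB_le_nilradical : mB (A := A) B ≤ nilradical B := by
  obtain ⟨n, hn⟩ := exists_pow_maximalIdeal_eq_bot (A := A)
  rw [Ideal.map_le_iff_le_comap]
  intro a ha
  rw [Ideal.mem_comap, mem_nilradical]
  refine ⟨n, ?_⟩
  rw [← map_pow]
  have : a ^ n ∈ maximalIdeal A ^ n := Ideal.pow_mem_pow ha n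
  rw [hn, Ideal.mem_bot] at this
  rw [this, map_zero]

/-- the element form of "flat over `A` with reduced fibre at `q`" -/
structure IsGood (q : Ideal B) : Prop where
  colon : ∀ (𝔞 : Ideal A) (ε : A), ε ∉ 𝔞 → ∀ b : B,
    algebraMap A B ε * b ∈ 𝔞.map (algebraMap A B) → ∃ s, s ∉ q ∧ s * b ∈ mB (A := A) B
  red : ∀ (b : B) (k : ℕ), (∃ s, s ∉ q ∧ s * b ^ k ∈ mB (A := A) B) →
    ∃ s, s ∉ q ∧ s * b ∈ mB (A := A) B

variable {B}

theorem comap_eq_maximalIdeal (q : Ideal B) [q.IsPrime] :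
    q.comap (algebraMap A B) = maximalIdeal A := by
  haveI : (q.comap (algebraMap A B)).IsPrime := Ideal.comap_isPrime _ _
  haveI : (q.comap (algebraMap A B)).IsMaximal := IsArtinianRing.isMaximal_of_isPrime _
  exact IsLocalRing.eq_maximalIdeal inferInstance

theorem isGood_of (q : Ideal B) [q.IsPrime] (hflat : Module.Flat A (Localization.AtPrime q))
    (hred : IsReduced (EGA4.FibLocRing A B q)) : IsGood (A := A) B q := by
  have hmap : ∀ 𝔞 : Ideal A, 𝔞.map (algebraMap A (Localization.AtPrime q)) =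
      (𝔞.map (algebraMap A B)).map (algebraMap B (Localization.AtPrime q)) := by
    intro 𝔞
    rw [Ideal.map_map, ← IsScalarTower.algebraMap_eq]
  have hback : ∀ (𝔞 : Ideal A) (b : B),
      algebraMap B (Localization.AtPrime q) b ∈ 𝔞.map (algebraMap A (Localization.AtPrime q)) →
      ∃ s, s ∉ q ∧ s * b ∈ 𝔞.map (algebraMap A B) := by
    intro 𝔞 b hb
    rw [hmap, IsLocalization.algebraMap_mem_map_algebraMap_iff q.primeCompl] at hb
    obtain ⟨s, hs, h⟩ := hb
    exact ⟨s, hs, h⟩
  constructor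
  · intro 𝔞 ε hε b hb
    apply hback
    have h1 := DefModLib.flat_colon (R := A) (F := Localization.AtPrime q) 𝔞 (maximalIdeal A) ε
      (fun a ha => mem_maximalIdeal_of_mul_mem hε ha) (algebraMap B (Localization.AtPrime q) b) ?_
    · rw [Ideal.smul_top_eq_map] at h1
      exact h1
    · rw [Ideal.smul_top_eq_map, Submodule.restrictScalars_mem, hmap, Algebra.smul_def,
        IsScalarTower.algebraMap_apply A B (Localization.AtPrime q), ← map_mul]
      exact Ideal.mem_map_of_mem _ hb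
  · rintro b k ⟨s, hs, hsb⟩
    apply hback
    set J := (q.comap (algebraMap A B)).map (algebraMap A (Localization.AtPrime q)) with hJ
    have hJ' : J = (maximalIdeal A).map (algebraMap A (Localization.AtPrime q)) := by
      rw [hJ, comap_eq_maximalIdeal]
    have h1 : algebraMap B (Localization.AtPrime q) (s * b ^ k) ∈ J := by
      rw [hJ', hmap]
      exact Ideal.mem_map_of_mem _ hsb
    have hu : IsUnit (algebraMap B (Localization.AtPrime q) s) :=
      IsLocalization.map_units _ (⟨s, hs⟩ : q.primeCompl)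
    rw [map_mul, map_pow] at h1
    have h2 : algebraMap B (Localization.AtPrime q) b ^ k ∈ J := by
      obtain ⟨u, hu⟩ := hu
      have : algebraMap B (Localization.AtPrime q) b ^ k =
          ↑u⁻¹ * (algebraMap B (Localization.AtPrime q) s *
            algebraMap B (Localization.AtPrime q) b ^ k) := by
        rw [← hu, ← mul_assoc, Units.inv_mul, one_mul]
      rw [this]
      exact Ideal.mul_mem_left _ _ h1
    have h3 : IsNilpotent (Ideal.Quotient.mk J (algebraMap B (Localization.AtPrime q) b)) := by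
      refine ⟨k, ?_⟩
      rw [← map_pow, Ideal.Quotient.eq_zero_iff_mem]
      exact h2
    haveI := hred
    have h4 := h3.eq_zero
    rw [Ideal.Quotient.eq_zero_iff_mem, hJ'] at h4
    exact h4

namespace IsGood

variable {q : Ideal B} (hq : IsGood (A := A) B q)
include hq

theorem nil (hq1 : (1 : B) ∉ q) {n : B} (hn : n ∈ nilradical B) : ∃ s, s ∉ q ∧ s * n ∈ mB (A := A) B := by
  obtain ⟨k, hk⟩ := hn
  exact hq.red n k ⟨1, hq1, by rw [hk, mul_zero]; exact zero_mem _⟩

end IsGood

end Groth.Agent.Helper3.KolFlat
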