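import Mathlib
import Groth.Agent.Lib.Helper3.KolFlat2

/-!
# Algebras over an Artinian local ring: good primes of height one are never associated
-/

set_option autoImplicit false
universe u

namespace Groth.Agent.Helper3.KolFlat

open IsLocalRing

variable {A : Type u} [CommRing A] [IsArtinianRing A] [IsLocalRing A]
  {B : Type u} [CommRing B] [Algebra A B] [IsNoetherianRing B]

theorem mem_map_sup_span_iff (𝔠 : Ideal A) (ε : A) (c : B) :
    c ∈ (𝔠 ⊔ Ideal.span {ε}).map (algebraMap A B) ↔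
      ∃ c₀ ∈ 𝔠.map (algebraMap A B), ∃ b : B, c = c₀ + algebraMap A B ε * b := by
  rw [Ideal.map_sup, Ideal.map_span, Set.image_singleton, Submodule.mem_sup]
  constructor
  · rintro ⟨c₀, hc₀, z, hz, rfl⟩
    obtain ⟨b, rfl⟩ := Ideal.mem_span_singleton'.1 hz
    exact ⟨c₀, hc₀, b, by ring⟩
  · rintro ⟨c₀, hc₀, b, rfl⟩
    exact ⟨c₀, hc₀, algebraMap A B ε * b,
      Ideal.mul_mem_right _ _ (Ideal.mem_span_singleton_self _), rfl⟩

/-- `ε · 𝔪B ⊆ 𝔠B` for a socle element `ε` -/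
theorem socle_mul_mem {𝔠 : Ideal A} {ε : A} (hsoc : ∀ m ∈ maximalIdeal A, m * ε ∈ 𝔠) {x : B}
    (hx : x ∈ mB (A := A) B) : algebraMap A B ε * x ∈ 𝔠.map (algebraMap A B) := by
  have h1 : Ideal.span {ε} * maximalIdeal A ≤ 𝔠 := by
    rw [Ideal.span_singleton_mul_le_iff]
    intro m hm
    rw [mul_comm]
    exact hsoc m hm
  have h2 := Ideal.map_mono (f := algebraMap A B) h1
  rw [Ideal.map_mul] at h2
  apply h2
  exact Ideal.mul_mem_mul (Ideal.mem_map_of_mem _ (Ideal.mem_span_singleton_self ε)) hx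

/-- the kernel of `B/𝔠B → B/𝔠'B` for `𝔠' = 𝔠 + (ε)` -/
theorem exists_of_mem_ker {𝔠 : Ideal A} (ε : A)
    (hle : 𝔠.map (algebraMap A B) ≤ (𝔠 ⊔ Ideal.span {ε}).map (algebraMap A B))
    (t : B ⧸ 𝔠.map (algebraMap A B))
    (ht : Submodule.mapQ (𝔠.map (algebraMap A B)) ((𝔠 ⊔ Ideal.span {ε}).map (algebraMap A B))
      LinearMap.id hle t = 0) :
    ∃ b : B, t = Ideal.Quotient.mk _ (algebraMap A B ε * b) := by
  obtain ⟨c, rfl⟩ := Ideal.Quotient.mk_surjective t
  have h1 : c ∈ (𝔠 ⊔ Ideal.span {ε}).map (algebraMap A B) := by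
    rw [← Ideal.Quotient.eq_zero_iff_mem]
    exact ht
  rw [mem_map_sup_span_iff] at h1
  obtain ⟨c₀, hc₀, b, rfl⟩ := h1
  refine ⟨b, ?_⟩
  rw [map_add, Ideal.Quotient.eq_zero_iff_mem.2 hc₀, zero_add]

theorem notMem_associatedPrimes_of_isGood_step (q : Ideal B) [hqp : q.IsPrime]
    (hq : IsGood (A := A) B q) (hmin : q ∉ minimalPrimes B) (𝔠 : Ideal A)
    (IH : ∀ J : Ideal A, 𝔠 < J → q ∉ associatedPrimes B (B ⧸ J.map (algebraMap A B))) :
    q ∉ associatedPrimes B (B ⧸ 𝔠.map (algebraMap A B)) := by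
  intro hAss
  by_cases h𝔠 : 𝔠 = ⊤
  · haveI : Subsingleton (B ⧸ 𝔠.map (algebraMap A B)) := by
      rw [Ideal.Quotient.subsingleton_iff, h𝔠, Ideal.map_top]
    rw [associatedPrimes.eq_empty_of_subsingleton] at hAss
    exact hAss
  obtain ⟨ε, hε, hsoc, -⟩ := exists_socle 𝔠 h𝔠
  have hlt : 𝔠 < 𝔠 ⊔ Ideal.span {ε} := by
    refine lt_of_le_of_ne le_sup_left ?_
    intro heq
    apply hε
    rw [heq]
    exact Ideal.mem_sup_right (Ideal.mem_span_singleton_self ε)
  have hle : 𝔠.map (algebraMap A B) ≤ (𝔠 ⊔ Ideal.span {ε}).map (algebraMap A B) :=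
    Ideal.map_mono le_sup_left
  set g := Submodule.mapQ (𝔠.map (algebraMap A B)) ((𝔠 ⊔ Ideal.span {ε}).map (algebraMap A B))
    LinearMap.id hle with hg
  have hex : Function.Exact (LinearMap.ker g).subtype g := fun x =>
    ⟨fun hx => ⟨⟨x, hx⟩, rfl⟩, by rintro ⟨y, rfl⟩; exact y.2⟩
  have h1 := associatedPrimes.subset_union_of_exact (Submodule.subtype_injective _) hex hAss
  rcases h1 with h1 | h1
  swap
  · exact IH _ hlt h1
  obtain ⟨-, t, ht⟩ := (isAssociatedPrime_iff).1 h1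
  obtain ⟨b, hb⟩ := exists_of_mem_ker ε hle t.1 t.2
  have hmem : ∀ y : B, y ∈ q ↔ y * (algebraMap A B ε * b) ∈ 𝔠.map (algebraMap A B) := by
    intro y
    rw [ht, Submodule.mem_colon_singleton, Submodule.mem_bot, ← Ideal.Quotient.eq_zero_iff_mem,
      map_mul, ← hb, ← Subtype.coe_inj]
    rfl
  have hbn : ¬ ∃ s, s ∉ q ∧ s * b ∈ mB (A := A) B := by
    rintro ⟨s, hs, hsb⟩
    apply hs
    rw [hmem]
    have := socle_mul_mem hsoc hsb
    have e : s * (algebraMap A B ε * b) = algebraMap A B ε * (s * b) := by ring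
    rw [e]
    exact this
  have hcol : ∀ y ∈ q, ∃ s, s ∉ q ∧ s * (y * b) ∈ mB (A := A) B := by
    intro y hy
    apply hq.colon 𝔠 ε hε
    have := (hmem y).1 hy
    have e : algebraMap A B ε * (y * b) = y * (algebraMap A B ε * b) := by ring
    rw [e]
    exact this
  by_cases hbq : b ∈ q
  · obtain ⟨s, hs, hsb⟩ := hcol b hbq
    apply hbn
    apply hq.red b 2
    exact ⟨s, hs, by rwa [pow_two]⟩
  · apply hmin
    apply mem_minimalPrimes_of_locally_nilpotent
    intro y hy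
    obtain ⟨s, hs, hsb⟩ := hcol y hy
    refine ⟨s * b, hqp.mul_notMem hs hbq, ?_⟩
    have e : s * b * y = s * (y * b) := by ring
    rw [e]
    exact mB_le_nilradical B hsb

theorem notMem_associatedPrimes_of_isGood (q : Ideal B) [hqp : q.IsPrime]
    (hq : IsGood (A := A) B q) (hmin : q ∉ minimalPrimes B) (𝔠 : Ideal A) :
    q ∉ associatedPrimes B (B ⧸ 𝔠.map (algebraMap A B)) := by
  refine IsNoetherian.induction (R := A) (M := A)
    (P := fun 𝔠 => q ∉ associatedPrimes B (B ⧸ Ideal.map (algebraMap A B) 𝔠)) ?_ 𝔠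
  intro 𝔠 IH
  exact notMem_associatedPrimes_of_isGood_step q hq hmin 𝔠 IH

end Groth.Agent.Helper3.KolFlat
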