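import Mathlib
import Groth.Prelude.Def_CAlg
import Groth.Agent.Lib.Helper3.KolFlat3
import Groth.Agent.Lib.Helper8.Depth27
import Groth.Agent.Lib.Helper8.Depth18
import Groth.Agent.Lib.Helper8.Depth29
import Groth.Agent.Lib.Helper8.Depth20
import Groth.Agent.Lib.Helper8.Hart8
import Groth.Agent.Lib.Helper8.Depth19

/-!
# Algebras over an Artinian local ring: the inductive step for `(S₁)`
-/

set_option autoImplicit false
universe u

namespace Groth.Agent.Helper3.KolFlat

open IsLocalRing LocCoh Groth.Agent.Helper8.Depth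

variable {A : Type u} [CommRing A] [IsArtinianRing A] [IsLocalRing A]
  {B : Type u} [CommRing B] [Algebra A B] [IsNoetherianRing B]

/-- all associated primes of `B / 𝔞B` are minimal primes of `B` -/
def PMin (B : Type u) [CommRing B] [Algebra A B] (𝔞 : Ideal A) : Prop :=
  ∀ q ∈ associatedPrimes B (B ⧸ 𝔞.map (algebraMap A B)), q ∈ minimalPrimes B

section step

variable (hgood : ∀ q : Ideal B, q.IsPrime → q.height ≤ 1 → IsGood (A := A) B q)
  (𝔞 : Ideal A) (ε : A) (hε : ε ∉ 𝔞) (hsoc : ∀ m ∈ maximalIdeal A, m * ε ∈ 𝔞)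
  (hP : PMin (A := A) B 𝔞)

include hgood in
theorem isGood_of_mem_minimalPrimes {q : Ideal B} (hq : q ∈ minimalPrimes B) :
    IsGood (A := A) B q := by
  haveI := hq.1.1
  apply hgood q hq.1.1
  rw [Ideal.height_eq_zero_iff.2 hq]
  exact zero_le_one

include hgood hsoc hP in
/-- `ε N ⊆ 𝔞 B` -/
theorem nil_mul_mem {n : B} (hn : n ∈ nilradical B) :
    algebraMap A B ε * n ∈ 𝔞.map (algebraMap A B) := by
  by_contra hne
  have ht : Ideal.Quotient.mk (𝔞.map (algebraMap A B)) (algebraMap A B ε * n) ≠ 0 := by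
    rwa [Ne, Ideal.Quotient.eq_zero_iff_mem]
  obtain ⟨q, hq, hle⟩ := exists_le_isAssociatedPrime_of_isNoetherianRing B _ ht
  have hqmin := hP q hq
  have hg := isGood_of_mem_minimalPrimes hgood hqmin
  obtain ⟨s, hs, hsn⟩ := hg.nil hqmin.1.1.one_notMem hn
  apply hs
  apply hle
  rw [Submodule.mem_colon_singleton, Submodule.mem_bot]
  have e : s • Ideal.Quotient.mk (𝔞.map (algebraMap A B)) (algebraMap A B ε * n) =
      Ideal.Quotient.mk (𝔞.map (algebraMap A B)) (algebraMap A B ε * (s * n)) := by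
    change Ideal.Quotient.mk (𝔞.map (algebraMap A B)) (s * (algebraMap A B ε * n)) = _
    congr 1
    ring
  rw [e, Ideal.Quotient.eq_zero_iff_mem]
  exact socle_mul_mem hsoc hsn

include hgood hε in
/-- if `ε b ∈ 𝔞 B` then `b` is nilpotent -/
theorem mem_nil_of_mul_mem {b : B} (hb : algebraMap A B ε * b ∈ 𝔞.map (algebraMap A B)) :
    b ∈ nilradical B := by
  by_contra hne
  have ht : Ideal.Quotient.mk (nilradical B) b ≠ 0 := by
    rwa [Ne, Ideal.Quotient.eq_zero_iff_mem]
  obtain ⟨q, hq, hle⟩ := exists_le_isAssociatedPrime_of_isNoetherianRing B _ ht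
  have hqmin := mem_minimalPrimes_of_mem_associatedPrimes_quotient_nilradical q hq
  have hg := isGood_of_mem_minimalPrimes hgood hqmin
  obtain ⟨s, hs, hsb⟩ := hg.colon 𝔞 ε hε b hb
  apply hs
  apply hle
  rw [Submodule.mem_colon_singleton, Submodule.mem_bot]
  change Ideal.Quotient.mk (nilradical B) (s * b) = 0
  rw [Ideal.Quotient.eq_zero_iff_mem]
  exact mB_le_nilradical B hsb

end step

end Groth.Agent.Helper3.KolFlat
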