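import Mathlib
import Groth.Agent.Lib.Helper3.KolFlat4

/-!
# Algebras over an Artinian local ring: the inductive step for `(S₁)`, depth argument
-/

set_option autoImplicit false
universe u

namespace Groth.Agent.Helper3.KolFlat

open IsLocalRing LocCoh Groth.Agent.Helper8.Depth

variable {A : Type u} [CommRing A] [IsArtinianRing A] [IsLocalRing A]
  {B : Type u} [CommRing B] [Algebra A B] [IsNoetherianRing B]

section step

variable (hgood : ∀ q : Ideal B, q.IsPrime → q.height ≤ 1 → IsGood (A := A) B q)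
  (hS2 : HasSk 2 (B ⧸ nilradical B) (B ⧸ nilradical B))
  (𝔞 : Ideal A) (ε : A) (hε : ε ∉ 𝔞) (hsoc : ∀ m ∈ maximalIdeal A, m * ε ∈ 𝔞)
  (hP : PMin (A := A) B 𝔞)

/-- multiplication by `ε` from `B/N` to `B/𝔞B` -/
noncomputable def mulEps (h : ∀ n ∈ nilradical B, algebraMap A B ε * n ∈ 𝔞.map (algebraMap A B)) :
    (B ⧸ nilradical B) →ₗ[B] (B ⧸ 𝔞.map (algebraMap A B)) :=
  Submodule.liftQ (nilradical B)
    ((Submodule.mkQ (𝔞.map (algebraMap A B))) ∘ₗ (LinearMap.lsmul B B (algebraMap A B ε)))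
    (fun n hn => by
      rw [LinearMap.mem_ker, LinearMap.comp_apply, LinearMap.lsmul_apply, smul_eq_mul,
        Submodule.mkQ_apply, Submodule.Quotient.mk_eq_zero]
      exact h n hn)

theorem mulEps_mk (h : ∀ n ∈ nilradical B, algebraMap A B ε * n ∈ 𝔞.map (algebraMap A B))
    (b : B) : mulEps 𝔞 ε h (Ideal.Quotient.mk _ b) =
      Ideal.Quotient.mk (𝔞.map (algebraMap A B)) (algebraMap A B ε * b) := rfl

include hS2 in
/-- the reduction has depth at least two along primes of height at least two -/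
theorem two_le_idealDepth_red (q : Ideal B) [q.IsPrime] (hq : 2 ≤ q.height) :
    (2 : ℕ∞) ≤ idealDepth q (B ⧸ nilradical B) := by
  rw [idealDepth_tower B (B ⧸ nilradical B) q (B ⧸ nilradical B),
    idealDepth_eq_iInf_depth_localization]
  refine le_iInf₂ fun P' hP' => ?_
  rw [depth_localizedModule_self]
  apply Groth.Agent.Helper8.Hart.two_le_depth_of_hasSk hS2
  have h1 := height_comap_le (nilradical B) le_rfl P'.asIdeal
  refine le_trans hq (le_trans (Ideal.height_mono ?_) h1)
  rw [← Ideal.map_le_iff_le_comap]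
  exact hP'

include hgood hS2 hε hsoc hP in
theorem PMin_step : PMin (A := A) B (𝔞 ⊔ Ideal.span {ε}) := by
  intro q hAss
  haveI hqp : q.IsPrime := hAss.isPrime
  by_contra hmin
  by_cases hht : q.height ≤ 1
  · exact notMem_associatedPrimes_of_isGood q (hgood q hqp hht) hmin _ hAss
  have h2 : 2 ≤ q.height := by
    rw [not_le] at hht
    have := Order.add_one_le_of_lt hht
    rwa [one_add_one_eq_two] at this
  have hnil := fun n hn => nil_mul_mem hgood 𝔞 ε hsoc hP (n := n) hn
  have hle : 𝔞.map (algebraMap A B) ≤ (𝔞 ⊔ Ideal.span {ε}).map (algebraMap A B) :=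
    Ideal.map_mono le_sup_left
  set f := mulEps 𝔞 ε hnil with hf
  set g := Submodule.mapQ (𝔞.map (algebraMap A B)) ((𝔞 ⊔ Ideal.span {ε}).map (algebraMap A B))
    LinearMap.id hle with hg
  have hfinj : Function.Injective f := by
    rw [injective_iff_map_eq_zero]
    intro z hz
    obtain ⟨b, rfl⟩ := Ideal.Quotient.mk_surjective z
    rw [hf, mulEps_mk, Ideal.Quotient.eq_zero_iff_mem] at hz
    rw [Ideal.Quotient.eq_zero_iff_mem]
    exact mem_nil_of_mul_mem hgood 𝔞 ε hε hz
  have hgsurj : Function.Surjective g := by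
    intro z
    obtain ⟨b, rfl⟩ := Ideal.Quotient.mk_surjective z
    exact ⟨Ideal.Quotient.mk _ b, rfl⟩
  have hex : Function.Exact f g := by
    intro x
    constructor
    · intro hx
      obtain ⟨b, hb⟩ := exists_of_mem_ker ε hle x hx
      exact ⟨Ideal.Quotient.mk _ b, by rw [hb, hf, mulEps_mk]⟩
    · rintro ⟨z, rfl⟩
      obtain ⟨b, rfl⟩ := Ideal.Quotient.mk_surjective z
      rw [hf, mulEps_mk]
      change Ideal.Quotient.mk ((𝔞 ⊔ Ideal.span {ε}).map (algebraMap A B))
        (algebraMap A B ε * b) = 0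
      rw [Ideal.Quotient.eq_zero_iff_mem, mem_map_sup_span_iff]
      exact ⟨0, zero_mem _, b, by rw [zero_add]⟩
  have hkey := idealDepth_right_ge q f g hfinj hgsurj hex
  -- the three depths
  have hc : (2 : ℕ∞) ≤ idealDepth q (B ⧸ nilradical B) := two_le_idealDepth_red hS2 q h2
  have hb : (1 : ℕ∞) ≤ idealDepth q (B ⧸ 𝔞.map (algebraMap A B)) := by
    rw [idealDepth_eq_iInf_depth_localization]
    refine le_iInf₂ fun p hp => ?_
    rw [Order.one_le_iff_pos, pos_iff_ne_zero, Ne, depth_localizedModule_eq_zero_iff]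
    intro hpAss
    have hpmin := hP p.asIdeal hpAss
    apply hmin
    have hpq : p.asIdeal ≤ q := hpmin.2 ⟨hqp, bot_le⟩ hp
    rw [← le_antisymm hpq hp]
    exact hpmin
  have ha : idealDepth q (B ⧸ (𝔞 ⊔ Ideal.span {ε}).map (algebraMap A B)) ≤ 0 := by
    rw [idealDepth_eq_iInf_depth_localization]
    refine le_trans (iInf₂_le (⟨q, hqp⟩ : PrimeSpectrum B) le_rfl) ?_
    rw [(depth_localizedModule_eq_zero_iff q _).2 hAss]
  have h1 : (1 : ℕ∞) ≤ idealDepth q (B ⧸ nilradical B) - 1 := by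
    have : (1 : ℕ∞) + 1 ≤ idealDepth q (B ⧸ nilradical B) := by
      rwa [one_add_one_eq_two]
    exact ENat.le_sub_of_add_le_right (by simp) this
  have h3 : (1 : ℕ∞) ≤ 0 := (le_min hb h1).trans (hkey.trans ha)
  simp at h3

end step

end Groth.Agent.Helper3.KolFlat
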