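import Mathlib
import Groth.Agent.Lib.Helper3.KolFlat5

/-!
# Algebras over an Artinian local ring: the fibre is reduced
-/

set_option autoImplicit false
universe u

namespace Groth.Agent.Helper3.KolFlat

open IsLocalRing LocCoh Groth.Agent.Helper8.Depth

variable {A : Type u} [CommRing A] [IsArtinianRing A] [IsLocalRing A]
  {B : Type u} [CommRing B] [Algebra A B] [IsNoetherianRing B]

section pass1

variable (hgood : ∀ q : Ideal B, q.IsPrime → q.height ≤ 1 → IsGood (A := A) B q)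
  (hS2 : HasSk 2 (B ⧸ nilradical B) (B ⧸ nilradical B))

/-- one step up: a strictly larger ideal below `𝔪` satisfying `PMin` -/
theorem exists_step (𝔞 : Ideal A) (h𝔞 : 𝔞 ≤ maximalIdeal A) (hne : 𝔞 ≠ maximalIdeal A) :
    ∃ ε : A, ε ∉ 𝔞 ∧ (∀ m ∈ maximalIdeal A, m * ε ∈ 𝔞) ∧ 𝔞 ⊔ Ideal.span {ε} ≤ maximalIdeal A ∧
      𝔞 < 𝔞 ⊔ Ideal.span {ε} := by
  have htop : 𝔞 ≠ ⊤ := fun h => (maximalIdeal.isMaximal A).ne_top (top_le_iff.1 (h ▸ h𝔞))
  obtain ⟨ε, hε, hsoc, hεm⟩ := exists_socle 𝔞 htop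
  have hnle : ¬ maximalIdeal A ≤ 𝔞 := fun h => hne (le_antisymm h𝔞 h)
  refine ⟨ε, hε, hsoc, ?_, ?_⟩
  · rw [sup_le_iff, Ideal.span_singleton_le_iff_mem]
    exact ⟨h𝔞, hεm hnle⟩
  · refine lt_of_le_of_ne le_sup_left ?_
    intro heq
    apply hε
    rw [heq]
    exact Ideal.mem_sup_right (Ideal.mem_span_singleton_self ε)

include hgood hS2 in
theorem PMin_maximalIdeal_of (𝔞 : Ideal A) (h𝔞 : 𝔞 ≤ maximalIdeal A) (hP : PMin (A := A) B 𝔞) :
    PMin (A := A) B (maximalIdeal A) := by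
  revert h𝔞 hP
  refine IsNoetherian.induction (R := A) (M := A)
    (P := fun 𝔞 => 𝔞 ≤ maximalIdeal A → PMin (A := A) B 𝔞 → PMin (A := A) B (maximalIdeal A)) ?_ 𝔞
  intro 𝔞 IH h𝔞 hP
  by_cases hne : 𝔞 = maximalIdeal A
  · rw [← hne]; exact hP
  obtain ⟨ε, hε, hsoc, hle, hlt⟩ := exists_step 𝔞 h𝔞 hne
  exact IH _ hlt hle (PMin_step hgood hS2 𝔞 ε hε hsoc hP)

theorem PMin_bot (hS1 : HasSk 1 B B) : PMin (A := A) B ⊥ := by
  intro q hq
  have h1 := (noEmbeddedPrimes_iff_hasSk_one (R := B) (M := B)).2 hS1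
  have hann : Module.annihilator B B = ⊥ := Module.annihilator_eq_bot.mpr inferInstance
  rw [hann] at h1
  apply h1
  have e : (B ⧸ (⊥ : Ideal A).map (algebraMap A B)) ≃ₗ[B] B :=
    Submodule.quotEquivOfEqBot _ (by rw [Ideal.map_bot])
  rw [← LinearEquiv.AssociatedPrimes.eq e]
  exact hq

include hgood in
theorem nilradical_eq_mB (hP : PMin (A := A) B (maximalIdeal A)) :
    nilradical B = mB (A := A) B := by
  apply le_antisymm _ (mB_le_nilradical B)
  intro n hn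
  by_contra hne
  have ht : Ideal.Quotient.mk (mB (A := A) B) n ≠ 0 := by
    rwa [Ne, Ideal.Quotient.eq_zero_iff_mem]
  obtain ⟨q, hq, hle⟩ := exists_le_isAssociatedPrime_of_isNoetherianRing B _ ht
  have hqmin := hP q hq
  have hg := isGood_of_mem_minimalPrimes hgood hqmin
  obtain ⟨s, hs, hsn⟩ := hg.nil hqmin.1.1.one_notMem hn
  apply hs
  apply hle
  rw [Submodule.mem_colon_singleton, Submodule.mem_bot]
  change Ideal.Quotient.mk (mB (A := A) B) (s * n) = 0
  rw [Ideal.Quotient.eq_zero_iff_mem]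
  exact hsn

include hgood hS2 in
theorem nilradical_eq_mB' (hS1 : HasSk 1 B B) : nilradical B = mB (A := A) B :=
  nilradical_eq_mB hgood (PMin_maximalIdeal_of hgood hS2 ⊥ bot_le (PMin_bot hS1))

end pass1

theorem main_S14071 (hS1 : LocCoh.HasSk 1 B B)
    (hS2 : LocCoh.HasSk 2 (B ⧸ nilradical B) (B ⧸ nilradical B))
    (hcodim : ∀ (q : Ideal B) [q.IsPrime], q.height ≤ 1 →
      Module.Flat A (Localization.AtPrime q) ∧ IsReduced (EGA4.FibLocRing A B q)) :
    IsReduced (B ⧸ (IsLocalRing.maximalIdeal A).map (algebraMap A B)) := by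
  have hgood : ∀ q : Ideal B, q.IsPrime → q.height ≤ 1 → IsGood (A := A) B q := by
    intro q hq hht
    haveI := hq
    exact isGood_of q (hcodim q hht).1 (hcodim q hht).2
  have h := nilradical_eq_mB' hgood hS2 hS1
  rw [← Ideal.isRadical_iff_quotient_reduced]
  change (mB (A := A) B).IsRadical
  rw [← h]
  exact Ideal.radical_isRadical _

end Groth.Agent.Helper3.KolFlat
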