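import Mathlib
import Groth.Agent.Lib.Helper3.KolFlat6
import Groth.Agent.Lib.Helper1.LocalCrit

/-!
# Algebras over an Artinian local ring: flatness
-/

set_option autoImplicit false
universe u

namespace Groth.Agent.Helper3.KolFlat

open IsLocalRing LocCoh TensorProduct

variable {A : Type u} [CommRing A] [IsArtinianRing A] [IsLocalRing A]
  {B : Type u} [CommRing B] [Algebra A B] [IsNoetherianRing B]

/-- `𝔞 ⊗ B → B` -/
noncomputable def mu (𝔞 : Ideal A) : (𝔞 ⊗[A] B) →ₗ[A] B :=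
  (TensorProduct.lid A B).toLinearMap ∘ₗ (LinearMap.rTensor B (Submodule.subtype 𝔞))

theorem mu_tmul (𝔞 : Ideal A) (x : 𝔞) (b : B) : mu 𝔞 (x ⊗ₜ[A] b) = algebraMap A B x.1 * b := by
  simp [mu, Algebra.smul_def]

theorem mu_mem (𝔞 : Ideal A) (w : 𝔞 ⊗[A] B) : mu 𝔞 w ∈ 𝔞.map (algebraMap A B) := by
  induction w using TensorProduct.induction_on with
  | zero => rw [map_zero]; exact zero_mem _
  | tmul x b =>
    rw [mu_tmul]
    exact Ideal.mul_mem_right _ _ (Ideal.mem_map_of_mem _ x.2)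
  | add x y hx hy => rw [map_add]; exact add_mem hx hy

section step

variable (𝔞 : Ideal A) (ε : A)

/-- the inclusion `𝔞 → 𝔞 + (ε)` -/
noncomputable abbrev incl : 𝔞 →ₗ[A] ↥(𝔞 ⊔ Ideal.span {ε}) :=
  Submodule.inclusion le_sup_left

/-- `ε` as an element of `𝔞 + (ε)` -/
abbrev eps' : ↥(𝔞 ⊔ Ideal.span {ε}) :=
  ⟨ε, Ideal.mem_sup_right (Ideal.mem_span_singleton_self ε)⟩

theorem exists_decomp (z : ↥(𝔞 ⊔ Ideal.span {ε}) ⊗[A] B) :
    ∃ (w : 𝔞 ⊗[A] B) (b : B), z = (incl 𝔞 ε).rTensor B w + eps' 𝔞 ε ⊗ₜ[A] b := by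
  induction z using TensorProduct.induction_on with
  | zero => exact ⟨0, 0, by simp⟩
  | tmul x b =>
    obtain ⟨x, hx⟩ := x
    obtain ⟨a, ha, y, hy, rfl⟩ := Submodule.mem_sup.1 hx
    obtain ⟨c, rfl⟩ := Ideal.mem_span_singleton'.1 hy
    refine ⟨(⟨a, ha⟩ : 𝔞) ⊗ₜ[A] b, c • b, ?_⟩
    rw [LinearMap.rTensor_tmul, ← TensorProduct.smul_tmul, ← TensorProduct.add_tmul]
    congr 1
  | add x y hx hy =>
    obtain ⟨w₁, b₁, rfl⟩ := hx
    obtain ⟨w₂, b₂, rfl⟩ := hy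
    refine ⟨w₁ + w₂, b₁ + b₂, ?_⟩
    rw [map_add, TensorProduct.tmul_add]
    abel

theorem mu_incl (w : 𝔞 ⊗[A] B) :
    mu (𝔞 ⊔ Ideal.span {ε}) ((incl 𝔞 ε).rTensor B w) = mu 𝔞 w := by
  induction w using TensorProduct.induction_on with
  | zero => simp
  | tmul x b => rw [LinearMap.rTensor_tmul, mu_tmul, mu_tmul]; rfl
  | add x y hx hy => rw [map_add, map_add, map_add, hx, hy]

theorem subtype_rTensor_incl (w : 𝔞 ⊗[A] B) :
    (LinearMap.rTensor B (Submodule.subtype (𝔞 ⊔ Ideal.span {ε}))) ((incl 𝔞 ε).rTensor B w) =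
      (LinearMap.rTensor B (Submodule.subtype 𝔞)) w := by
  rw [← LinearMap.comp_apply, ← LinearMap.rTensor_comp]
  rfl

/-- `ε ⊗ b` comes from `𝔞 ⊗ B` when `b ∈ 𝔪 B` -/
theorem eps_tmul_mem_range (hsoc : ∀ m ∈ maximalIdeal A, m * ε ∈ 𝔞) {b : B}
    (hb : b ∈ mB (A := A) B) :
    eps' 𝔞 ε ⊗ₜ[A] b ∈ LinearMap.range ((incl 𝔞 ε).rTensor B) := by
  have key : ∀ b ∈ (maximalIdeal A) • (⊤ : Submodule A B),
      eps' 𝔞 ε ⊗ₜ[A] b ∈ LinearMap.range ((incl 𝔞 ε).rTensor B) := by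
    intro b hb'
    induction hb' using Submodule.smul_induction_on' with
    | smul m hm b₁ _ =>
      refine ⟨(⟨m * ε, hsoc m hm⟩ : 𝔞) ⊗ₜ[A] b₁, ?_⟩
      rw [LinearMap.rTensor_tmul, TensorProduct.tmul_smul, TensorProduct.smul_tmul']
      rfl
    | add x _ y _ hx hy =>
      rw [TensorProduct.tmul_add]
      exact add_mem hx hy
  apply key
  rw [Ideal.smul_top_eq_map]
  exact hb

end step

end Groth.Agent.Helper3.KolFlat
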