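import Mathlib
import Groth.Agent.Lib.Helper3.KolFlat7

/-!
# Algebras over an Artinian local ring: flatness, main theorem
-/

set_option autoImplicit false
universe u

namespace Groth.Agent.Helper3.KolFlat

open IsLocalRing LocCoh TensorProduct

variable {A : Type u} [CommRing A] [IsArtinianRing A] [IsLocalRing A]
  {B : Type u} [CommRing B] [Algebra A B] [IsNoetherianRing B]

/-- `𝔞 ⊗ B → A ⊗ B` is injective -/
def Inj (B : Type u) [CommRing B] [Algebra A B] (𝔞 : Ideal A) : Prop :=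
  Function.Injective (LinearMap.rTensor B (Submodule.subtype 𝔞))

section pass2

variable (hgood : ∀ q : Ideal B, q.IsPrime → q.height ≤ 1 → IsGood (A := A) B q)
  (hS2 : HasSk 2 (B ⧸ nilradical B) (B ⧸ nilradical B))
  (hNm : nilradical B = mB (A := A) B)

include hgood hNm in
theorem Inj_step (𝔞 : Ideal A) (ε : A) (hε : ε ∉ 𝔞) (hsoc : ∀ m ∈ maximalIdeal A, m * ε ∈ 𝔞)
    (hI : Inj (A := A) B 𝔞) : Inj (A := A) B (𝔞 ⊔ Ideal.span {ε}) := by
  intro z₁ z₂ hz
  rw [← sub_eq_zero] at hz ⊢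
  rw [← map_sub] at hz
  generalize z₁ - z₂ = z at hz
  obtain ⟨w, b, rfl⟩ := exists_decomp 𝔞 ε z
  have h1 : mu (𝔞 ⊔ Ideal.span {ε}) ((incl 𝔞 ε).rTensor B w + eps' 𝔞 ε ⊗ₜ[A] b) = 0 := by
    unfold mu
    rw [LinearMap.comp_apply, hz, map_zero]
  rw [map_add, mu_incl, mu_tmul] at h1
  have h2 : algebraMap A B ε * b ∈ 𝔞.map (algebraMap A B) := by
    have : algebraMap A B ε * b = - mu 𝔞 w := by
      rw [eq_neg_iff_add_eq_zero, add_comm]; exact h1
    rw [this]
    exact neg_mem (mu_mem 𝔞 w)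
  have h3 : b ∈ mB (A := A) B := by
    rw [← hNm]
    exact mem_nil_of_mul_mem hgood 𝔞 ε hε h2
  obtain ⟨w', hw'⟩ := eps_tmul_mem_range 𝔞 ε hsoc h3
  rw [← hw', ← map_add] at hz ⊢
  rw [subtype_rTensor_incl] at hz
  have h4 : w + w' = 0 := hI (by rw [hz, map_zero])
  rw [h4, map_zero]

include hgood hS2 hNm in
theorem Inj_maximalIdeal_of (𝔞 : Ideal A) (h𝔞 : 𝔞 ≤ maximalIdeal A) (hP : PMin (A := A) B 𝔞)
    (hI : Inj (A := A) B 𝔞) : Inj (A := A) B (maximalIdeal A) := by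
  revert h𝔞 hP hI
  refine IsNoetherian.induction (R := A) (M := A)
    (P := fun 𝔞 => 𝔞 ≤ maximalIdeal A → PMin (A := A) B 𝔞 → Inj (A := A) B 𝔞 →
      Inj (A := A) B (maximalIdeal A)) ?_ 𝔞
  intro 𝔞 IH h𝔞 hP hI
  by_cases hne : 𝔞 = maximalIdeal A
  · rw [← hne]; exact hI
  obtain ⟨ε, hε, hsoc, hle, hlt⟩ := exists_step 𝔞 h𝔞 hne
  exact IH _ hlt hle (PMin_step hgood hS2 𝔞 ε hε hsoc hP) (Inj_step hgood hNm 𝔞 ε hε hsoc hI)

theorem Inj_bot : Inj (A := A) B ⊥ := by
  intro z₁ z₂ _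
  haveI : Subsingleton (↥(⊥ : Ideal A) ⊗[A] B) := by
    refine ⟨fun x y => ?_⟩
    have key : ∀ z : ↥(⊥ : Ideal A) ⊗[A] B, z = 0 := by
      intro z
      induction z using TensorProduct.induction_on with
      | zero => rfl
      | tmul x b =>
        have : x = 0 := Subsingleton.elim _ _
        rw [this, TensorProduct.zero_tmul]
      | add x y hx hy => rw [hx, hy, add_zero]
    rw [key x, key y]
  exact Subsingleton.elim _ _

end pass2

theorem main_S14072 (hS1 : LocCoh.HasSk 1 B B)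
    (hS2 : LocCoh.HasSk 2 (B ⧸ nilradical B) (B ⧸ nilradical B))
    (hcodim : ∀ (q : Ideal B) [q.IsPrime], q.height ≤ 1 →
      Module.Flat A (Localization.AtPrime q) ∧ IsReduced (EGA4.FibLocRing A B q)) :
    Module.Flat A B := by
  have hgood : ∀ q : Ideal B, q.IsPrime → q.height ≤ 1 → IsGood (A := A) B q := by
    intro q hq hht
    haveI := hq
    exact isGood_of q (hcodim q hht).1 (hcodim q hht).2
  have hNm := nilradical_eq_mB' hgood hS2 hS1
  have hI := Inj_maximalIdeal_of hgood hS2 hNm ⊥ bot_le (PMin_bot hS1) Inj_bot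
  obtain ⟨n, hn⟩ := exists_pow_maximalIdeal_eq_bot (A := A)
  letI : Field (A ⧸ maximalIdeal A) := Ideal.Quotient.field (maximalIdeal A)
  haveI : Module.Flat (A ⧸ maximalIdeal A) ((A ⧸ maximalIdeal A) ⊗[A] B) := inferInstance
  exact Groth.Agent.Helper1.LocalCrit.flat_of_rTensor_injective_of_flat_quotient_of_pow_eq_bot
    (maximalIdeal A) B hI n hn

end Groth.Agent.Helper3.KolFlat
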