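import Mathlib
import Groth.Prelude.Def_LCI2
import Groth.Prelude.Def_DDual2
import Groth.Agent.Lib.Helper3.KosBC6
import Groth.Agent.Lib.Helper3.GorBC3

/-!
# Dualizing complexes and faithfully flat local complete intersection maps
-/

set_option autoImplicit false
universe u
open CategoryTheory TensorProduct

attribute [local instance] HasDerivedCategory.standard

namespace Groth.Agent.Helper3.KosBC

theorem main_S1829 (A B : Type u) [CommRing A] [CommRing B] [Algebra A B] [IsNoetherianRing A]
    [IsNoetherianRing B] [Module.FaithfullyFlat A B] (hl : LCI.IsLCI A B)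
    [DRing.HasLBaseChange (algebraMap A B)] (K : Dual.D A) :
    Dual.IsDualizing A K ↔
      Dual.IsDualizing B ((DRing.LBaseChange (algebraMap A B)).obj K) := by
  haveI : Algebra.FiniteType A B := hl.1
  exact Groth.Agent.Helper3.GorBC.main_S1788 A B (fun p => main_S1830 A B hl p) K

end Groth.Agent.Helper3.KosBC
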