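import Mathlib
import Groth.Prelude.Def_DerCA
import Groth.Prelude.Def_LCI2
import Groth.Agent.Lib.Helper6.ExtCech
import Groth.Agent.Lib.Helper5.KoszulOrth.Ring
import Groth.Agent.Lib.Helper5.ExtCech.Ring
import Groth.Agent.Lib.Helper5.Approx.Octa
import Groth.Agent.Lib.Helper3.HomUnit

/-!
# Koszul-regular sequences: the extended Čech complex has cohomology only in top degree (helper3)

Strategy: Koszul detection (Helper5 `isGE_of_kos_orth`) applied to the *reversed* list, together with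
the transfer principle `Hom(P, cone(f on X)[m]) = 0 ⇒ Hom(cone(f on P), X[m+1]) = 0`.
-/
set_option autoImplicit false
set_option linter.unusedSectionVars false
set_option linter.unusedVariables false
universe u
open CategoryTheory CategoryTheory.Limits Pretriangulated
attribute [local instance] HasDerivedCategory.standard

namespace Groth.Agent.Helper3.KosCech

open DerivedCategory Groth.Agent.Lib.Helper5.KoszulOrth Groth.Agent.Lib.Helper5.ExtCechRG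
  Groth.Agent.Lib.Helper5.BvdB Groth.Agent.Lib.Helper5.Approx

variable {A : Type u} [CommRing A]

theorem zero_of_iso_tgt {P Y Y' : Dual.D A} (e : Y ≅ Y') (h : ∀ ψ : P ⟶ Y, ψ = 0) :
    ∀ ψ : P ⟶ Y', ψ = 0 := by
  intro ψ
  have h1 := h (ψ ≫ e.inv)
  have h2 : ψ = (ψ ≫ e.inv) ≫ e.hom := by simp
  rw [h2, h1, zero_comp]

theorem zero_of_iso_src {P P' Y : Dual.D A} (e : P ≅ P') (h : ∀ ψ : P ⟶ Y, ψ = 0) :
    ∀ ψ : P' ⟶ Y, ψ = 0 := by
  intro ψ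
  have h1 := h (e.hom ≫ ψ)
  have h2 : ψ = e.inv ≫ (e.hom ≫ ψ) := by simp
  rw [h2, h1, comp_zero]

/-- transfer of orthogonality through cones of multiplication by `f` -/
theorem transfer (f : A) {P C W C' : Dual.D A}
    (ι : P ⟶ C) (δ : C ⟶ P⟦(1 : ℤ)⟧)
    (hT : Triangle.mk (f • 𝟙 P) ι δ ∈ distTriang (Dual.D A))
    (w : W ⟶ W) (u : ℤˣ) (hw : w = (u : ℤ) • (f • 𝟙 W))
    (ι' : W ⟶ C') (δ' : C' ⟶ W⟦(1 : ℤ)⟧)
    (hT' : Triangle.mk w ι' δ' ∈ distTriang (Dual.D A))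
    (h : ∀ ψ : P ⟶ C', ψ = 0) : ∀ ψ : C ⟶ W⟦(1 : ℤ)⟧, ψ = 0 := by
  intro ψ
  have h0 : f • ι = 0 := by
    have h0 : (f • 𝟙 P) ≫ ι = 0 := comp_distTriang_mor_zero₁₂ _ hT
    rwa [Linear.smul_comp, Category.id_comp] at h0
  have h1 : ι ≫ ψ = 0 := by
    have hf : f • (ι ≫ ψ) = 0 := by rw [← Linear.smul_comp, h0, zero_comp]
    have hw1 : w⟦(1 : ℤ)⟧' = (u : ℤ) • (f • 𝟙 (W⟦(1 : ℤ)⟧)) := by
      rw [hw, Functor.map_zsmul, Functor.map_smul, CategoryTheory.Functor.map_id]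
    have h2 : (ι ≫ ψ) ≫ w⟦(1 : ℤ)⟧' = 0 := by
      rw [hw1, Preadditive.comp_zsmul, Linear.comp_smul, Category.comp_id, hf, smul_zero]
    obtain ⟨g, hg⟩ : ∃ g : P ⟶ C', ι ≫ ψ = g ≫ δ' :=
      Triangle.coyoneda_exact₁ _ hT' (ι ≫ ψ) h2
    rw [hg, h g, zero_comp]
  obtain ⟨χ, hχ⟩ := Triangle.yoneda_exact₃ _ hT ψ h1
  obtain ⟨χ₀, rfl⟩ : ∃ χ₀ : P ⟶ W, χ₀⟦(1 : ℤ)⟧' = χ :=
    ⟨(shiftFunctor (Dual.D A) (1 : ℤ)).preimage χ, Functor.map_preimage _ _⟩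
  have h2 : χ₀ ≫ ι' = 0 := h _
  obtain ⟨χ₁, hχ₁⟩ : ∃ χ₁ : P ⟶ W, χ₀ = χ₁ ≫ w := Triangle.coyoneda_exact₂ _ hT' χ₀ h2
  have h3 : χ₀ = (f • 𝟙 P) ≫ ((u : ℤ) • χ₁) := by
    rw [hχ₁, hw, Preadditive.comp_zsmul, Linear.comp_smul, Category.comp_id, Linear.smul_comp,
      Category.id_comp, smul_comm]
  have h4 : δ ≫ (f • 𝟙 P)⟦(1 : ℤ)⟧' = 0 := comp_distTriang_mor_zero₃₁ _ hT
  rw [hχ]
  show δ ≫ χ₀⟦(1 : ℤ)⟧' = 0
  rw [h3, Functor.map_comp, ← Category.assoc, h4, zero_comp]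

/-- the Koszul triangle, shifted -/
theorem kos_triangle_shift (f : A) (l : List A) (m : ℤ) :
    ∃ (w : (kos l)⟦m⟧ ⟶ (kos l)⟦m⟧) (u : ℤˣ) (_ : w = (u : ℤ) • (f • 𝟙 ((kos l)⟦m⟧)))
      (ι : (kos l)⟦m⟧ ⟶ (kos (f :: l))⟦m⟧) (δ : (kos (f :: l))⟦m⟧ ⟶ ((kos l)⟦m⟧)⟦(1 : ℤ)⟧),
      Triangle.mk w ι δ ∈ distTriang (Dual.D A) := by
  obtain ⟨ι, δ, hT⟩ := kos_triangle f l
  have hTm := Triangle.shift_distinguished _ hT m
  refine ⟨_, m.negOnePow, ?_, _, _, hTm⟩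
  show m.negOnePow • (f • 𝟙 (kos l))⟦m⟧' = _
  rw [Functor.map_smul, CategoryTheory.Functor.map_id, Units.smul_def]

/-- the chain of transfers: orthogonality of Koszul objects versus orthogonality to the unit -/
theorem chain : ∀ (l₂ l₁ : List A) (m : ℤ), (∀ ψ : kos l₁ ⟶ (kos l₂)⟦m⟧, ψ = 0) →
    ∀ ψ : kos (l₂.reverse ++ l₁) ⟶ (Dual.inD A A)⟦m + (l₂.length : ℤ)⟧, ψ = 0 := by
  intro l₂
  induction l₂ with
  | nil =>
    intro l₁ m h
    have e2 : m + (([] : List A).length : ℤ) = m := by simp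
    rw [e2]
    exact zero_of_iso_tgt ((shiftFunctor (Dual.D A) m).mapIso kosNilIso) h
  | cons f l₂ ih =>
    intro l₁ m h
    obtain ⟨ι, δ, hT⟩ := kos_triangle f l₁
    obtain ⟨w, u, hw, ι', δ', hT'⟩ := kos_triangle_shift f l₂ m
    have h1 : ∀ ψ : kos (f :: l₁) ⟶ ((kos l₂)⟦m⟧)⟦(1 : ℤ)⟧, ψ = 0 :=
      transfer f ι δ hT w u hw ι' δ' hT' h
    have h2 : ∀ ψ : kos (f :: l₁) ⟶ (kos l₂)⟦m + 1⟧, ψ = 0 :=
      zero_of_iso_tgt ((shiftFunctorAdd' (Dual.D A) m 1 (m + 1) rfl).app (kos l₂)).symm h1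
    have h3 := ih (f :: l₁) (m + 1) h2
    have e1 : (f :: l₂).reverse ++ l₁ = l₂.reverse ++ f :: l₁ := by simp
    have e2 : m + ((f :: l₂).length : ℤ) = m + 1 + (l₂.length : ℤ) := by
      simp only [List.length_cons]; push_cast; ring
    rw [e1, e2]
    exact h3

/-- vanishing Koszul cohomology gives orthogonality from the unit -/
theorem base (fs : List A) (m : ℤ) (h : IsZero ((Koszul.koszul A fs).homology m)) :
    ∀ ψ : kos ([] : List A) ⟶ (kos fs)⟦m⟧, ψ = 0 := by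
  have h1 : IsZero ((DerivedCategory.homologyFunctor (ModuleCat.{u} A) m).obj (kos fs)) :=
    h.of_iso (Groth.Agent.Lib.Helper6.ExtCech.eH (Koszul.koszul A fs) m)
  have h2 : Subsingleton (Dual.HD A (kos fs) m) := ModuleCat.subsingleton_of_isZero h1
  have h3 : ∀ ψ : Dual.inD A A ⟶ (kos fs)⟦m⟧, ψ = 0 := by
    intro ψ
    apply (Groth.Agent.Helper3.HomUnit.unitEquiv (kos fs) m).injective
    exact Subsingleton.elim _ _
  exact zero_of_iso_src kosNilIso.symm h3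

theorem zero_of_shift {P N : Dual.D A} (n : ℤ) (h : ∀ φ : P ⟶ N⟦n⟧, φ = 0) :
    ∀ ψ : P⟦-n⟧ ⟶ N, ψ = 0 := by
  intro ψ
  apply (shiftFunctor (Dual.D A) n).map_injective
  rw [Functor.map_zero]
  let e : P ≅ (P⟦-n⟧)⟦n⟧ := ((shiftFunctorCompIsoId (Dual.D A) (-n) n (by omega)).app P).symm
  have h1 := h (e.hom ≫ ψ⟦n⟧')
  have h2 : ψ⟦n⟧' = e.inv ≫ (e.hom ≫ ψ⟦n⟧') := by simp
  rw [h2, h1, comp_zero]

/-- a termwise localisation at an element of the list is orthogonal to the Koszul object -/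
theorem korth_loc' (l : List A) (f : A) (hf : f ∈ l) (K : DRing.Cx A) :
    KOrth l (DRing.toD ((DerCA.locCx (Submonoid.powers f)).obj K)) := by
  intro n φ
  obtain ⟨a, ha⟩ := kos_ann l f hf
  have h1 : (f ^ a) • 𝟙 ((kos l)⟦n⟧) = 0 := smul_id_shift_eq_zero _ _ ha n
  haveI : IsIso ((f ^ a) • 𝟙 (DRing.toD ((DerCA.locCx (Submonoid.powers f)).obj K))) :=
    isIso_smul_locCx (Submonoid.powers f) ⟨f ^ a, a, rfl⟩ K
  have h2 : φ ≫ ((f ^ a) • 𝟙 (DRing.toD ((DerCA.locCx (Submonoid.powers f)).obj K))) = 0 := by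
    rw [Linear.comp_smul, Category.comp_id]
    have : (f ^ a) • φ = ((f ^ a) • 𝟙 ((kos l)⟦n⟧)) ≫ φ := by
      rw [Linear.smul_comp, Category.id_comp]
    rw [this, h1, zero_comp]
  exact (cancel_mono ((f ^ a) • 𝟙 (DRing.toD ((DerCA.locCx (Submonoid.powers f)).obj K)))).1
    (h2.trans zero_comp.symm)

/-- the torsion/orthogonal triangle of the extended Čech complex, for any list containing `fs` -/
theorem exists_triangle' (M : ModuleCat.{u} A) (l : List A) : ∀ fs : List A, (∀ f ∈ fs, f ∈ l) →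
    ∃ (B : Dual.D A) (a : DRing.toD (DerCA.extCech M fs) ⟶ Dual.inD A M)
      (b : Dual.inD A M ⟶ B) (c : B ⟶ (DRing.toD (DerCA.extCech M fs))⟦(1 : ℤ)⟧),
      Triangle.mk a b c ∈ distTriang (Dual.D A) ∧ KOrth l B := by
  intro fs
  induction fs with
  | nil =>
    intro _
    obtain ⟨B, b, c, hT⟩ := distinguished_cocone_triangle (extCechNilIso M).hom
    have hB : IsZero B := (Triangle.isZero₃_iff_isIso₁ _ hT).2 (by
      show IsIso (extCechNilIso M).hom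
      infer_instance)
    exact ⟨B, _, b, c, hT, KOrth.of_isZero _ hB⟩
  | cons f fs ih =>
    intro hsub
    obtain ⟨B, a, b, c, hT, hB⟩ := ih (fun g hg => hsub g (List.mem_cons_of_mem _ hg))
    let φ := DerCA.locCxUnit (Submonoid.powers f) (DerCA.extCech M fs)
    have hφ := DerivedCategory.mappingCocone_triangle_distinguished φ
    obtain ⟨Z, v, w, m₁, m₃, h₁₃, hm⟩ := octa_compose
      (DerivedCategory.Q.mapTriangle.obj (CochainComplex.mappingCocone.triangle φ)).mor₁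
      (DerivedCategory.Q.mapTriangle.obj (CochainComplex.mappingCocone.triangle φ)).mor₂
      (DerivedCategory.Q.mapTriangle.obj (CochainComplex.mappingCocone.triangle φ)).mor₃
      hφ a b c hT
    refine ⟨Z, _, v, w, h₁₃, ?_⟩
    exact KOrth.ext₂ _ hm (korth_loc' l f (hsub f List.mem_cons_self) (DerCA.extCech M fs)) hB

/-- maps from shifted Koszul objects into the fibre of a map to an orthogonal object -/
theorem hom_fibre_zero (l : List A) {C N B : Dual.D A} (a : C ⟶ N) (b : N ⟶ B)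
    (c : B ⟶ C⟦(1 : ℤ)⟧) (hT : Triangle.mk a b c ∈ distTriang (Dual.D A)) (hB : KOrth l B)
    (k : ℤ) (hN : ∀ ψ : (kos l)⟦k⟧ ⟶ N, ψ = 0) : ∀ ψ : (kos l)⟦k⟧ ⟶ C, ψ = 0 := by
  intro ψ
  have h1 : ψ ≫ a = 0 := hN _
  apply (shiftFunctor (Dual.D A) (1 : ℤ)).map_injective
  rw [Functor.map_zero]
  have h2 : ψ⟦(1 : ℤ)⟧' ≫ a⟦(1 : ℤ)⟧' = 0 := by
    rw [← Functor.map_comp, h1, Functor.map_zero]
  obtain ⟨g, hg⟩ : ∃ g : ((kos l)⟦k⟧)⟦(1 : ℤ)⟧ ⟶ B, ψ⟦(1 : ℤ)⟧' = g ≫ c :=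
    Triangle.coyoneda_exact₁ _ hT (ψ⟦(1 : ℤ)⟧') h2
  let e : ((kos l)⟦k⟧)⟦(1 : ℤ)⟧ ≅ (kos l)⟦k + 1⟧ :=
    ((shiftFunctorAdd' (Dual.D A) k 1 (k + 1) rfl).app (kos l)).symm
  have h3 : e.inv ≫ g = 0 := hB (k + 1) _
  have h4 : g = e.hom ≫ (e.inv ≫ g) := by simp
  rw [hg, h4, h3, comp_zero, zero_comp]

/-- **S9267** -/
theorem main (fs : List A) (hfs : LCI.IsKoszulRegularSeq A fs) (q : ℤ)
    (hq : q ≠ (fs.length : ℤ)) :
    IsZero (DerCA.extCechH fs (ModuleCat.of A A) q) := by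
  by_cases hq' : q < 0 ∨ (fs.length : ℤ) < q
  · exact Groth.Agent.Lib.Helper6.ExtCech.s9264 fs _ q hq'
  rw [not_or, not_lt, not_lt] at hq'
  have hlt : q < fs.length := lt_of_le_of_ne hq'.2 hq
  have htors : ∀ f ∈ fs.reverse,
      PowTors f (DRing.toD (DerCA.extCech (ModuleCat.of A A) fs)) :=
    fun f hf => powTors_extCech _ fs f (List.mem_reverse.1 hf)
  obtain ⟨B, a, b, c, hT, hB⟩ := exists_triangle' (ModuleCat.of A A) fs.reverse fs
    (fun f hf => List.mem_reverse.2 hf)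
  have hvan : ∀ n : ℤ, n ≤ (fs.length : ℤ) - 1 →
      ∀ ψ : (kos fs.reverse)⟦-n⟧ ⟶ DRing.toD (DerCA.extCech (ModuleCat.of A A) fs), ψ = 0 := by
    intro n hn
    apply hom_fibre_zero fs.reverse a b c hT hB (-n)
    apply zero_of_shift n
    have hm : n - (fs.length : ℤ) ≠ 0 := by omega
    have h0 := chain fs [] (n - (fs.length : ℤ)) (base fs _ (hfs _ hm))
    rw [List.append_nil] at h0
    have e : n - (fs.length : ℤ) + (fs.length : ℤ) = n := by ring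
    rw [e] at h0
    exact h0
  have hGE : (DRing.toD (DerCA.extCech (ModuleCat.of A A) fs)).IsGE
      ((fs.length : ℤ) - 1 + 1) :=
    isGE_of_kos_orth fs.reverse _ htors _ hvan
  rw [DerivedCategory.isGE_iff] at hGE
  exact (hGE q (by omega)).of_iso (Groth.Agent.Lib.Helper6.ExtCech.eH _ q).symm

end Groth.Agent.Helper3.KosCech
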