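import Mathlib
import Groth.Prelude.Def_Dual3
import Groth.Agent.Lib.Helper3.KosBC3

/-!
# A local complete intersection morphism to a Gorenstein scheme has Gorenstein source
-/

set_option autoImplicit false
universe u
open CategoryTheory CategoryTheory.Limits AlgebraicGeometry

namespace Groth.Agent.Helper3.KosSch

open LocCoh Groth.Agent.Helper8.GorFlat

/-- sections of a Gorenstein scheme over an affine open form a Gorenstein ring -/
theorem isGorensteinRing_sections {X : Scheme.{u}} (hX : Dual3.IsGorenstein X)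
    (V : X.affineOpens) : IsGorensteinRing Γ(X, V.1) := by
  obtain ⟨hN, hst⟩ := hX
  haveI := hN
  haveI : IsNoetherianRing Γ(X, V.1) := IsLocallyNoetherian.component_noetherian V
  refine { isGorensteinLocalRing_localization := fun p hp => ?_ }
  let y : PrimeSpectrum Γ(X, V.1) := ⟨p, hp⟩
  have hy : V.2.fromSpec y ∈ V.1 := by
    have h1 : V.2.fromSpec y ∈ Set.range V.2.fromSpec := ⟨y, rfl⟩
    rw [V.2.range_fromSpec] at h1
    exact h1
  letI := TopCat.Presheaf.algebra_section_stalk X.presheaf ⟨V.2.fromSpec y, hy⟩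
  haveI : IsLocalization.AtPrime (X.presheaf.stalk (V.2.fromSpec y)) p :=
    V.2.isLocalization_stalk' y hy
  exact isGorensteinLocalRing_of_ringEquiv
    (IsLocalization.algEquiv p.primeCompl (X.presheaf.stalk (V.2.fromSpec y))
      (Localization.AtPrime p)).toRingEquiv (hst _)

/-- a scheme covered by affine opens with Gorenstein rings of sections is Gorenstein -/
theorem isGorenstein_of_cover {Y : Scheme.{u}}
    (h : ∀ y : Y, ∃ U : Y.affineOpens, y ∈ U.1 ∧ IsGorensteinRing Γ(Y, U.1)) :
    Dual3.IsGorenstein Y := by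
  choose U hyU hG using h
  constructor
  · refine isLocallyNoetherian_of_affine_cover (S := U) ?_ (fun y => ?_)
    · rw [eq_top_iff]
      intro y _
      exact TopologicalSpace.Opens.mem_iSup.2 ⟨y, hyU y⟩
    · haveI := hG y
      infer_instance
  · intro y
    haveI := (U y).2.isLocalization_stalk ⟨y, hyU y⟩
    have h1 := (hG y).isGorensteinLocalRing_localization
      ((U y).2.primeIdealOf ⟨y, hyU y⟩).asIdeal
    letI := TopCat.Presheaf.algebra_section_stalk Y.presheaf ⟨y, hyU y⟩
    exact isGorensteinLocalRing_of_ringEquiv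
      (IsLocalization.algEquiv ((U y).2.primeIdealOf ⟨y, hyU y⟩).asIdeal.primeCompl
        (Localization.AtPrime ((U y).2.primeIdealOf ⟨y, hyU y⟩).asIdeal)
        (Y.presheaf.stalk y)).toRingEquiv h1

theorem main_S3623 (Y X : Scheme.{u}) (f : Y ⟶ X) (hf : Dual3.IsLCIMor f)
    (hX : Dual3.IsGorenstein X) : Dual3.IsGorenstein Y := by
  apply isGorenstein_of_cover
  intro y
  obtain ⟨U, V, e, hyU, hlci⟩ := hf y
  refine ⟨U, hyU, ?_⟩
  letI := (f.appLE V.1 U.1 e).hom.toAlgebra
  exact Groth.Agent.Helper3.KosBC.main_S1827 Γ(X, V.1) Γ(Y, U.1)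
    (isGorensteinRing_sections hX V) hlci

end Groth.Agent.Helper3.KosSch
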