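import Groth.Agent.Lib.Helper3.LambdaZ
import Groth.Prelude.Def_KRR

set_option autoImplicit false

namespace Groth.Agent.Helper3.SplitLib

open LambdaRing Groth.Agent.Helper3.LambdaLib

universe u

section Ample

open PowerSeries

variable {K : Type u} [CommRing K] [LambdaOps K] (P : PosStructure K)

omit [LambdaOps K] in
/-- the geometric series `Σ (-v)^i t^i` is inverse to `1 + v t` -/
theorem one_add_C_mul_X_mul_mk (v : K) :
    (1 + C v * X) * (PowerSeries.mk fun i => (-v) ^ i : PowerSeries K) = 1 := by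
  ext n
  rw [add_mul, one_mul, map_add, mul_assoc, coeff_C_mul]
  rcases n with _ | n
  · simp
  · rw [coeff_succ_X_mul, coeff_mk, coeff_mk, coeff_one, if_neg (Nat.succ_ne_zero n), pow_succ]
    ring

/-- a line element `v` with `-v = e - m`, `e` positive, satisfies `(1 - v)^m = 0` -/
theorem one_sub_line_pow_eq_zero {v : K} (hv : P.IsLine v) {e : K} (he : e ∈ P.pos) (m : ℕ)
    (h : -v = e - (m : K)) : (1 - v) ^ m = 0 := by
  have h1 := lam_one_eq_zero P
  have hm : (m : K) = e + v := by
    have : e = -v + (m : K) := by rw [h]; ring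
    rw [this]; ring
  have haug : P.aug e = (m : ℤ) - 1 := by
    have := congrArg P.aug hm
    rw [map_add, hv.2, map_natCast] at this
    omega
  have hlam : LambdaOps.lam m e = 0 := by
    apply P.lam_eq_zero e he
    rw [haug]; omega
  have hs : (1 + X : PowerSeries K) ^ m = lamSeries e * (1 + C v * X) := by
    rw [← lamSeries_natCast h1, hm, lamSeries_add, lamSeries_line P hv]
  have hs2 : lamSeries e = (1 + X : PowerSeries K) ^ m * (PowerSeries.mk fun i => (-v) ^ i) := by
    rw [hs, mul_assoc, one_add_C_mul_X_mul_mk, mul_one]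
  have hc := congrArg (coeff m) hs2
  rw [coeff_lamSeries, hlam, coeff_mul, Finset.Nat.sum_antidiagonal_eq_sum_range_succ_mk] at hc
  rw [sub_eq_add_neg, add_pow]
  rw [hc]
  apply Finset.sum_congr rfl
  intro j _
  rw [coeff_one_add_X_pow, coeff_mk, one_pow, one_mul, mul_comm]

theorem isNilpotent_line_sub_one_of_neg {v : K} (hv : P.IsLine v) {e : K} (he : e ∈ P.pos) (m : ℕ)
    (h : -v = e - (m : K)) : IsNilpotent (v - 1) := by
  refine ⟨m, ?_⟩
  have := one_sub_line_pow_eq_zero P hv he m h
  have h2 : (v - 1) ^ m = (-1) ^ m * (1 - v) ^ m := by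
    rw [← mul_pow]; congr 1; ring
  rw [h2, this, mul_zero]

theorem isUnit_of_isLine {v : K} (hv : P.IsLine v) : IsUnit v := by
  have := P.isUnit_lam v hv.1
  rw [hv.2] at this
  simpa [LambdaOps.lam_one] using this

/-- S3791 -/
theorem isNilpotent_line_sub_one_of_isAmpleElt (u : K) (hu : KRR.IsAmpleElt P u) (w : K)
    (hw : P.IsLine w) : IsNilpotent (w - 1) := by
  obtain ⟨hul, hamp⟩ := hu
  obtain ⟨n₁, hn₁⟩ := hamp (-w)
  obtain ⟨n₂, hn₂⟩ := hamp (-1)
  set n := max n₁ n₂ with hn
  obtain ⟨e, m, he, hem⟩ := hn₁ n (le_max_left _ _)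
  obtain ⟨e', m', he', hem'⟩ := hn₂ n (le_max_right _ _)
  have hun : P.IsLine (u ^ n) := isLine_pow P hul n
  have ha : IsNilpotent (u ^ n * w - 1) :=
    isNilpotent_line_sub_one_of_neg P (isLine_mul P hun hw) he m (by rw [← hem]; ring)
  have hb : IsNilpotent (u ^ n - 1) :=
    isNilpotent_line_sub_one_of_neg P hun he' m' (by rw [← hem']; ring)
  have hab : IsNilpotent (u ^ n * (w - 1)) := by
    have : u ^ n * (w - 1) = (u ^ n * w - 1) - (u ^ n - 1) := by ring
    rw [this]
    exact (Commute.all _ _).isNilpotent_sub ha hb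
  obtain ⟨N, hN⟩ := hab
  refine ⟨N, ?_⟩
  rw [mul_pow] at hN
  exact ((isUnit_of_isLine P hun).pow N).mul_right_eq_zero.1 hN

end Ample

end Groth.Agent.Helper3.SplitLib
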