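import Groth.Agent.Lib.Helper3.LambdaS

set_option autoImplicit false

namespace Groth.Agent.Helper3.SplitLib

open LambdaRing Groth.Agent.Helper3.LambdaLib

universe u

section SigmaRec

open PowerSeries

variable {K : Type u} [CommRing K] [LambdaOps K]

/-- `c_a = (-1)^a λ^a(e)` -/
def cc (e : K) (a : ℕ) : K := (-1 : K) ^ a * LambdaOps.lam a e

theorem cc_zero (e : K) : cc e 0 = 1 := by
  simp [cc, LambdaOps.lam_zero]

theorem rescale_lamSeries_mul_sigmaSeries (e : K) :
    rescale (-1 : K) (lamSeries e) * KRR.sigmaSeries e = 1 := by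
  unfold KRR.sigmaSeries
  apply mul_invOfUnit
  rw [← coeff_zero_eq_constantCoeff_apply, coeff_rescale, pow_zero, one_mul,
    coeff_zero_eq_constantCoeff_apply, constantCoeff_lamSeries]
  rfl

/-- `Σ_{a+b=k} c_a σ^b = δ_{k,0}` -/
theorem sum_cc_sigma (e : K) (k : ℕ) :
    ∑ a ∈ Finset.range (k + 1), cc e a * KRR.sigma (k - a) e = if k = 0 then 1 else 0 := by
  have h := congrArg (coeff k) (rescale_lamSeries_mul_sigmaSeries e)
  rw [coeff_mul, Finset.Nat.sum_antidiagonal_eq_sum_range_succ_mk, coeff_one] at h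
  rw [← h]
  refine Finset.sum_congr rfl fun a _ => ?_
  rw [coeff_rescale, coeff_lamSeries]
  rfl

theorem sigma_zero (e : K) : KRR.sigma 0 e = 1 := by
  have h := sum_cc_sigma e 0
  simpa [cc_zero] using h

/-- `σ^k = -Σ_{a<k} c_{a+1} σ^{k-(a+1)}` for `k ≥ 1` -/
theorem sigma_rec (e : K) (k : ℕ) (hk : 1 ≤ k) :
    KRR.sigma k e = -∑ a ∈ Finset.range k, cc e (a + 1) * KRR.sigma (k - (a + 1)) e := by
  have h := sum_cc_sigma e k
  rw [if_neg (by omega : k ≠ 0), Finset.sum_range_succ', cc_zero, one_mul, Nat.sub_zero] at h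
  rw [eq_neg_iff_add_eq_zero, add_comm]
  exact h

end SigmaRec

section Functional2

open Polynomial

variable {K : Type u} [CommRing K] [LambdaOps K] (P : PosStructure K)

theorem extPoly_eq (e : K) :
    KRR.extPoly P e = ∑ a ∈ Finset.range ((P.aug e).toNat + 1),
      C (cc e a) * X ^ ((P.aug e).toNat - a) := rfl

/-- the defining relation of the root: `Σ_a c_a • ℓ^{m-a} = 0` -/
theorem root_relation (e : K) :
    ∑ a ∈ Finset.range ((P.aug e).toNat + 1),
      cc e a • (AdjoinRoot.root (KRR.extPoly P e)) ^ ((P.aug e).toNat - a) = 0 := by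
  have h := AdjoinRoot.eval₂_root (KRR.extPoly P e)
  conv at h => lhs; arg 3; rw [extPoly_eq]
  rw [eval₂_finsetSum] at h
  rw [← h]
  refine Finset.sum_congr rfl fun a _ => ?_
  rw [eval₂_mul, eval₂_C, eval₂_pow, eval₂_X, Algebra.smul_def]
  rfl

theorem cc_eq_zero {e : K} (he : e ∈ P.pos) {a : ℕ} (ha : (P.aug e).toNat < a) : cc e a = 0 := by
  unfold cc
  rw [P.lam_eq_zero e he a, mul_zero]
  have := P.aug_pos e he
  omega

theorem functional_pow {e : K} (he : e ∈ P.pos) (r : ℕ) (hr : P.aug e = r + 1)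
    (f : AdjoinRoot (KRR.extPoly P e) →ₗ[K] K)
    (hf : ∀ i : ℕ, i ≤ r → f (AdjoinRoot.root (KRR.extPoly P e) ^ i) = KRR.sigma i e) (i : ℕ) :
    f (AdjoinRoot.root (KRR.extPoly P e) ^ i) = KRR.sigma i e := by
  have hm : (P.aug e).toNat = r + 1 := by rw [hr]; rfl
  induction i using Nat.strong_induction_on with
  | _ i ih =>
    rcases Nat.lt_or_ge r i with hi | hi
    swap
    · exact hf i hi
    set ℓ := AdjoinRoot.root (KRR.extPoly P e) with hℓ
    have hrel := root_relation P e
    rw [hm, Finset.sum_range_succ', cc_zero, one_smul, Nat.sub_zero] at hrel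
    have h1 : ℓ ^ (r + 1) = -∑ a ∈ Finset.range (r + 1), cc e (a + 1) • ℓ ^ (r + 1 - (a + 1)) := by
      rw [eq_neg_iff_add_eq_zero, add_comm]
      exact hrel
    have h2 : ℓ ^ i = -∑ a ∈ Finset.range (r + 1), cc e (a + 1) • ℓ ^ (i - (a + 1)) := by
      have : ℓ ^ i = ℓ ^ (i - (r + 1)) * ℓ ^ (r + 1) := by rw [← pow_add]; congr 1; omega
      rw [this, h1, mul_neg, Finset.mul_sum]
      congr 1
      refine Finset.sum_congr rfl fun a ha => ?_
      have ha' : a < r + 1 := Finset.mem_range.1 ha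
      rw [mul_smul_comm, ← pow_add]
      congr 2
      omega
    rw [h2, map_neg, map_sum, sigma_rec e i (by omega)]
    congr 1
    have h3 : ∀ a ∈ Finset.range (r + 1), f (cc e (a + 1) • ℓ ^ (i - (a + 1))) =
        cc e (a + 1) * KRR.sigma (i - (a + 1)) e := by
      intro a _
      rw [map_smul, smul_eq_mul, ih (i - (a + 1)) (by omega)]
    rw [Finset.sum_congr rfl h3]
    apply Finset.sum_subset (Finset.range_subset_range.2 (by omega))
    intro a _ ha
    rw [Finset.mem_range, not_lt] at ha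
    rw [cc_eq_zero P he (by omega), zero_mul]

end Functional2


section Functional3

open Polynomial

variable {K : Type u} [CommRing K] [LambdaOps K] (P : PosStructure K)

theorem pow_mul_linv_pow {A : Type*} [CommRing A] (ℓ linv : A) (h : linv * ℓ = 1) (a b : ℕ) :
    ℓ ^ a * linv ^ b = if b ≤ a then ℓ ^ (a - b) else linv ^ (b - a) := by
  split_ifs with hab
  · obtain ⟨c, rfl⟩ := Nat.exists_eq_add_of_le hab
    rw [Nat.add_sub_cancel_left, pow_add, mul_comm (ℓ ^ b), mul_assoc, ← mul_pow, mul_comm ℓ, h,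
      one_pow, mul_one]
  · push Not at hab
    obtain ⟨c, rfl⟩ := Nat.exists_eq_add_of_le hab.le
    rw [Nat.add_sub_cancel_left, pow_add, ← mul_assoc, ← mul_pow, mul_comm ℓ, h, one_pow, one_mul]

theorem functional_linv_pow {e : K} (he : e ∈ P.pos) (r : ℕ) (hr : P.aug e = r + 1)
    (f : AdjoinRoot (KRR.extPoly P e) →ₗ[K] K)
    (hf : ∀ i : ℕ, i ≤ r → f (AdjoinRoot.root (KRR.extPoly P e) ^ i) = KRR.sigma i e)
    (linv : AdjoinRoot (KRR.extPoly P e)) (hlinv : linv * AdjoinRoot.root (KRR.extPoly P e) = 1)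
    (n : ℕ) (hn1 : 1 ≤ n) (hnr : n ≤ r) : f (linv ^ n) = 0 := by
  have hm : (P.aug e).toNat = r + 1 := by rw [hr]; rfl
  have hfall := functional_pow P he r hr f hf
  induction n using Nat.strong_induction_on with
  | _ n ih =>
    set ℓ := AdjoinRoot.root (KRR.extPoly P e) with hℓ
    have hrel := root_relation P e
    rw [hm] at hrel
    have h1 := congrArg (fun z => f (z * linv ^ n)) hrel
    simp only [zero_mul, map_zero, Finset.sum_mul, map_sum, smul_mul_assoc, map_smul,
      smul_eq_mul] at h1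
    -- evaluate each term
    have h2 : ∀ a ∈ Finset.range (r + 1), cc e a * f (ℓ ^ (r + 1 - a) * linv ^ n) =
        if a ≤ r + 1 - n then cc e a * KRR.sigma (r + 1 - n - a) e else 0 := by
      intro a ha
      have ha' : a < r + 1 := Finset.mem_range.1 ha
      rw [pow_mul_linv_pow ℓ linv hlinv]
      split_ifs with h3 h4 h5
      · rw [hfall]
        congr 2
        omega
      · omega
      · omega
      · rw [ih (n - (r + 1 - a)) (by omega) (by omega) (by omega), mul_zero]
    rw [Finset.sum_range_succ, Finset.sum_congr rfl h2, Nat.sub_self, pow_zero, one_mul] at h1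
    have h6 : ∑ a ∈ Finset.range (r + 1),
        (if a ≤ r + 1 - n then cc e a * KRR.sigma (r + 1 - n - a) e else 0) = 0 := by
      rw [← Finset.sum_filter]
      have : Finset.filter (fun a => a ≤ r + 1 - n) (Finset.range (r + 1)) =
          Finset.range (r + 1 - n + 1) := by
        ext a
        simp only [Finset.mem_filter, Finset.mem_range]
        omega
      rw [this, sum_cc_sigma, if_neg (by omega)]
    rw [h6, zero_add] at h1
    -- c_m is a unit
    have hu : IsUnit (cc e (r + 1)) := by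
      unfold cc
      have := P.isUnit_lam e he
      rw [hm] at this
      exact ((isUnit_one.neg).pow _).mul this
    exact (hu.mul_right_eq_zero).1 h1

end Functional3

section Quot

open PowerSeries

variable {K : Type u} [CommRing K] [LambdaOps K] (P : PosStructure K)

theorem functional_lam_quot {e : K} (he : e ∈ P.pos) (r : ℕ) (hr : P.aug e = r + 1)
    (inst : LambdaOps (AdjoinRoot (KRR.extPoly P e)))
    (hext : ∀ (i : ℕ) (x : K), @LambdaOps.lam _ _ inst i (AdjoinRoot.of (KRR.extPoly P e) x) =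
      AdjoinRoot.of (KRR.extPoly P e) (LambdaOps.lam i x))
    (hroot : ∀ i : ℕ, 2 ≤ i → @LambdaOps.lam _ _ inst i (AdjoinRoot.root (KRR.extPoly P e)) = 0)
    (f : AdjoinRoot (KRR.extPoly P e) →ₗ[K] K)
    (hf : ∀ i : ℕ, i ≤ r → f (AdjoinRoot.root (KRR.extPoly P e) ^ i) = KRR.sigma i e) (i : ℕ) :
    f (@LambdaOps.lam _ _ inst i
      (AdjoinRoot.of (KRR.extPoly P e) e - AdjoinRoot.root (KRR.extPoly P e))) =
      if i = 0 then 1 else 0 := by
  have hfall := functional_pow P he r hr f hf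
  set ℓ := AdjoinRoot.root (KRR.extPoly P e) with hℓ
  set e' := AdjoinRoot.of (KRR.extPoly P e) e with he'
  have h1 : lamSeries (e' - ℓ) * lamSeries ℓ = lamSeries e' := lamSeries_sub_mul e' ℓ
  rw [lamSeries_of_line ℓ hroot] at h1
  have h2 : lamSeries (e' - ℓ) = lamSeries e' * PowerSeries.mk (fun k => (-ℓ) ^ k) := by
    have h3 : (1 + C ℓ * X : PowerSeries (AdjoinRoot (KRR.extPoly P e))) *
        PowerSeries.mk (fun k => (-ℓ) ^ k) = 1 := by
      rw [← invOfUnit_one_add_C_mul_X]
      exact mul_invOfUnit _ 1 (by simp)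
    rw [← h1, mul_assoc, h3, mul_one]
  have h4 : @LambdaOps.lam _ _ inst i (e' - ℓ) =
      ∑ a ∈ Finset.range (i + 1), ((-1 : K) ^ (i - a) * LambdaOps.lam a e) • ℓ ^ (i - a) := by
    rw [← coeff_lamSeries, h2, coeff_mul, Finset.Nat.sum_antidiagonal_eq_sum_range_succ_mk]
    refine Finset.sum_congr rfl fun a _ => ?_
    rw [coeff_lamSeries, coeff_mk, he', hext, Algebra.smul_def, map_mul, map_pow, map_neg, map_one,
      neg_pow ℓ]
    show AdjoinRoot.of (KRR.extPoly P e) (LambdaOps.lam a e) * ((-1) ^ (i - a) * ℓ ^ (i - a)) =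
      (-1) ^ (i - a) * AdjoinRoot.of (KRR.extPoly P e) (LambdaOps.lam a e) * ℓ ^ (i - a)
    ring
  rw [h4, map_sum]
  have h5 : ∀ a ∈ Finset.range (i + 1),
      f (((-1 : K) ^ (i - a) * LambdaOps.lam a e) • ℓ ^ (i - a)) =
        (-1) ^ i * (cc e a * KRR.sigma (i - a) e) := by
    intro a ha
    have ha' : a < i + 1 := Finset.mem_range.1 ha
    rw [map_smul, hfall, smul_eq_mul]
    unfold cc
    have : (-1 : K) ^ i = (-1) ^ (i - a) * (-1) ^ a := by rw [← pow_add]; congr 1; omega
    rw [this]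
    have h6 : ((-1 : K) ^ a) * (-1) ^ a = 1 := by rw [← mul_pow]; simp
    calc (-1 : K) ^ (i - a) * LambdaOps.lam a e * KRR.sigma (i - a) e
        = (-1) ^ (i - a) * (((-1 : K) ^ a) * (-1) ^ a) * LambdaOps.lam a e *
            KRR.sigma (i - a) e := by rw [h6, mul_one]
      _ = _ := by ring
  rw [Finset.sum_congr rfl h5, ← Finset.mul_sum, sum_cc_sigma]
  split_ifs with hi
  · subst hi; simp
  · simp

end Quot

end Groth.Agent.Helper3.SplitLib
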