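import Groth.Agent.Lib.Helper3.KrrA
import Groth.Agent.Lib.Helper3.LambdaY

set_option autoImplicit false

namespace Groth.Agent.Helper3.SplitLib

open LambdaRing Groth.Agent.Helper3.LambdaLib

universe u

section ExtPolyBasics

open Polynomial

variable {K : Type u} [CommRing K] [LambdaOps K] (P : PosStructure K)

theorem extPoly_monic (e : K) : (KRR.extPoly P e).Monic := by
  rw [extPoly_eq, Finset.sum_range_succ', cc_zero, map_one, one_mul, Nat.sub_zero, add_comm]
  apply monic_X_pow_add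
  apply (degree_sum_le _ _).trans_lt
  rw [Finset.sup_lt_iff (WithBot.bot_lt_coe _)]
  intro a ha
  refine (degree_C_mul_X_pow_le _ _).trans_lt ?_
  have := Finset.mem_range.1 ha
  exact_mod_cast (by omega : (P.aug e).toNat - (a + 1) < (P.aug e).toNat)

/-- the polynomial `(p_e(T) - p_e(1))/(T - 1)` -/
noncomputable def quotPoly (e : K) (m : ℕ) : K[X] :=
  ∑ a ∈ Finset.range m, C (cc e a) * ∑ k ∈ Finset.range (m - a), X ^ k

theorem X_sub_one_mul_quotPoly (e : K) :
    (X - 1) * quotPoly e (P.aug e).toNat =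
      KRR.extPoly P e - C (∑ a ∈ Finset.range ((P.aug e).toNat + 1), cc e a) := by
  set m := (P.aug e).toNat with hm
  rw [extPoly_eq, quotPoly, Finset.mul_sum, map_sum, ← Finset.sum_sub_distrib,
    Finset.sum_range_succ _ m]
  have hlast : C (cc e m) * X ^ (m - m) - C (cc e m) = (0 : K[X]) := by
    rw [Nat.sub_self, pow_zero, mul_one, sub_self]
  rw [hlast, add_zero]
  apply Finset.sum_congr rfl
  intro a _
  rw [mul_left_comm, mul_geom_sum, mul_sub, mul_one]

end ExtPolyBasics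

section AnnRoot

open Polynomial

variable {K : Type u} [CommRing K] [LambdaOps K] (P : PosStructure K)

omit [LambdaOps K] in
/-- in `R[T]/(p)`, `p` monic with `(T - 1) G = p - p(1)`: the elements killed by `1 - ℓ` are
multiples of `G(ℓ)` -/
theorem exists_eq_mul_of_mul_one_sub_root (p G : K[X]) (S : K) (hmonic : p.Monic)
    (hG : (X - 1) * G = p - C S) (z : AdjoinRoot p) (hz : z * (1 - AdjoinRoot.root p) = 0) :
    ∃ b : K, z = AdjoinRoot.of p b * AdjoinRoot.mk p G := by
  by_cases hp1 : p = 1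
  · have h10 : (1 : AdjoinRoot p) = 0 := by
      calc (1 : AdjoinRoot p) = AdjoinRoot.mk p 1 := (map_one _).symm
        _ = AdjoinRoot.mk p p := congrArg (AdjoinRoot.mk p) hp1.symm
        _ = 0 := AdjoinRoot.mk_self
    have : Subsingleton (AdjoinRoot p) := subsingleton_of_zero_eq_one h10.symm
    exact ⟨0, Subsingleton.elim _ _⟩
  obtain ⟨Z₀, rfl⟩ := AdjoinRoot.mk_surjective (g := p) z
  have hZmk : AdjoinRoot.mk p (Z₀ %ₘ p) = AdjoinRoot.mk p Z₀ := by
    rw [AdjoinRoot.mk_eq_mk]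
    have := modByMonic_add_div Z₀ p
    exact ⟨-(Z₀ /ₘ p), by linear_combination this⟩
  have hdeg : (Z₀ %ₘ p).natDegree < p.natDegree := natDegree_modByMonic_lt Z₀ hmonic hp1
  have hdvd : p ∣ (Z₀ %ₘ p) * (1 - X) := by
    rw [← AdjoinRoot.mk_eq_zero, map_mul, map_sub, map_one, AdjoinRoot.mk_X, hZmk]
    exact hz
  obtain ⟨q, hq⟩ := hdvd
  have hq0 : q.natDegree = 0 := by
    by_cases hq00 : q = 0
    · rw [hq00, natDegree_zero]
    · have h1 := hmonic.natDegree_mul' hq00
      have h2 : ((Z₀ %ₘ p) * (1 - X)).natDegree ≤ (Z₀ %ₘ p).natDegree + 1 := by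
        refine natDegree_mul_le.trans ?_
        have : (1 - X : K[X]).natDegree ≤ 1 := by
          refine (natDegree_sub_le _ _).trans ?_
          rw [natDegree_one]
          exact max_le (Nat.zero_le _) natDegree_X_le
        omega
      rw [hq] at h2
      omega
  obtain ⟨a, rfl⟩ : ∃ a, q = C a := ⟨_, eq_C_of_natDegree_eq_zero hq0⟩
  -- evaluate at 1
  have heval : a * S = 0 := by
    have h1 := congrArg (eval 1) hq
    rw [eval_mul, eval_sub, eval_one, eval_X, sub_self, mul_zero, eval_mul, eval_C] at h1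
    have h2 := congrArg (eval 1) hG
    rw [eval_mul, eval_sub, eval_X, eval_one, sub_self, zero_mul, eval_sub, eval_C] at h2
    have h3 : eval 1 p = S := sub_eq_zero.1 h2.symm
    rw [h3, mul_comm] at h1
    exact h1.symm
  have hZG : Z₀ %ₘ p = -(C a * G) := by
    have h1 : (X - 1) * (Z₀ %ₘ p + C a * G) = 0 := by
      have h2 : (X - 1) * (Z₀ %ₘ p) = -(p * C a) := by rw [← hq]; ring
      have h3 : C a * C S = 0 := by rw [← C_mul, heval, map_zero]
      rw [mul_add, h2, mul_left_comm, hG]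
      linear_combination (-1 : K[X]) * h3
    have hmon : (X - 1 : K[X]).Monic := by
      have := monic_X_sub_C (1 : K)
      rwa [map_one] at this
    have := hmon.mul_right_eq_zero_iff.1 h1
    exact eq_neg_of_add_eq_zero_left this
  refine ⟨-a, ?_⟩
  rw [← hZmk, hZG, map_neg, map_mul, AdjoinRoot.mk_C, map_neg, neg_mul]

end AnnRoot

section LamQuot

open PowerSeries

variable {K : Type u} [CommRing K] [LambdaOps K] (P : PosStructure K)

theorem lam_quot_formula (e : K)
    (inst : LambdaOps (AdjoinRoot (KRR.extPoly P e)))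
    (hext : ∀ (i : ℕ) (x : K), @LambdaOps.lam _ _ inst i (AdjoinRoot.of (KRR.extPoly P e) x) =
      AdjoinRoot.of (KRR.extPoly P e) (LambdaOps.lam i x))
    (hroot : ∀ i : ℕ, 2 ≤ i → @LambdaOps.lam _ _ inst i (AdjoinRoot.root (KRR.extPoly P e)) = 0)
    (i : ℕ) :
    (-1 : AdjoinRoot (KRR.extPoly P e)) ^ i * @LambdaOps.lam _ _ inst i
      (AdjoinRoot.of (KRR.extPoly P e) e - AdjoinRoot.root (KRR.extPoly P e)) =
      ∑ a ∈ Finset.range (i + 1), AdjoinRoot.of (KRR.extPoly P e) (cc e a) *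
        AdjoinRoot.root (KRR.extPoly P e) ^ (i - a) := by
  set ℓ := AdjoinRoot.root (KRR.extPoly P e) with hℓ
  set e' := AdjoinRoot.of (KRR.extPoly P e) e with he'
  have h1 : lamSeries (e' - ℓ) * lamSeries ℓ = lamSeries e' := lamSeries_sub_mul e' ℓ
  rw [lamSeries_of_line ℓ hroot] at h1
  have h2 : lamSeries (e' - ℓ) = lamSeries e' * PowerSeries.mk (fun k => (-ℓ) ^ k) := by
    have h3 : (1 + C ℓ * X : PowerSeries (AdjoinRoot (KRR.extPoly P e))) *
        PowerSeries.mk (fun k => (-ℓ) ^ k) = 1 := one_add_C_mul_X_mul_mk ℓ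
    rw [← h1, mul_assoc, h3, mul_one]
  rw [← coeff_lamSeries, h2, coeff_mul, Finset.Nat.sum_antidiagonal_eq_sum_range_succ_mk,
    Finset.mul_sum]
  refine Finset.sum_congr rfl fun a ha => ?_
  have ha' : a < i + 1 := Finset.mem_range.1 ha
  rw [coeff_lamSeries, coeff_mk, he', hext, neg_pow ℓ]
  unfold cc
  rw [map_mul, map_pow, map_neg, map_one]
  have h4 : (-1 : AdjoinRoot (KRR.extPoly P e)) ^ i = (-1) ^ (i - a) * (-1) ^ a := by
    rw [← pow_add]; congr 1; omega
  have h5 : ((-1 : AdjoinRoot (KRR.extPoly P e)) ^ (i - a)) * (-1) ^ (i - a) = 1 := by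
    rw [← mul_pow]; simp
  calc (-1 : AdjoinRoot (KRR.extPoly P e)) ^ i *
        (AdjoinRoot.of (KRR.extPoly P e) (LambdaOps.lam a e) * ((-1) ^ (i - a) * ℓ ^ (i - a)))
      = (((-1 : AdjoinRoot (KRR.extPoly P e)) ^ (i - a)) * (-1) ^ (i - a)) * ((-1) ^ a *
          AdjoinRoot.of (KRR.extPoly P e) (LambdaOps.lam a e) * ℓ ^ (i - a)) := by
        rw [h4]; ring
    _ = _ := by rw [h5, one_mul]

/-- `Σ_{i ≤ r} (-1)^i λ^i(e - ℓ) = quotPoly(ℓ)` -/
theorem sum_lam_quot_eq_quotPoly (e : K)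
    (inst : LambdaOps (AdjoinRoot (KRR.extPoly P e)))
    (hext : ∀ (i : ℕ) (x : K), @LambdaOps.lam _ _ inst i (AdjoinRoot.of (KRR.extPoly P e) x) =
      AdjoinRoot.of (KRR.extPoly P e) (LambdaOps.lam i x))
    (hroot : ∀ i : ℕ, 2 ≤ i → @LambdaOps.lam _ _ inst i (AdjoinRoot.root (KRR.extPoly P e)) = 0)
    (m : ℕ) :
    ∑ i ∈ Finset.range m, (-1 : AdjoinRoot (KRR.extPoly P e)) ^ i * @LambdaOps.lam _ _ inst i
      (AdjoinRoot.of (KRR.extPoly P e) e - AdjoinRoot.root (KRR.extPoly P e)) =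
      AdjoinRoot.mk (KRR.extPoly P e) (quotPoly e m) := by
  rw [Finset.sum_congr rfl (fun i _ => lam_quot_formula P e inst hext hroot i)]
  rw [Finset.sum_range_diag_flip m (fun a k => AdjoinRoot.of (KRR.extPoly P e) (cc e a) *
        AdjoinRoot.root (KRR.extPoly P e) ^ k)]
  rw [quotPoly, map_sum]
  refine Finset.sum_congr rfl fun a _ => ?_
  rw [map_mul, AdjoinRoot.mk_C, map_sum, Finset.mul_sum]
  refine Finset.sum_congr rfl fun k _ => ?_
  rw [map_pow, AdjoinRoot.mk_X]

end LamQuot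

end Groth.Agent.Helper3.SplitLib

namespace Groth.Agent.Helper3.SplitLib

open LambdaRing Groth.Agent.Helper3.LambdaLib

universe u

section S3802

variable {K : Type u} [CommRing K] [LambdaOps K] (P : PosStructure K)

/-- S3802 -/
theorem eq_functional_mul_lamAlt (c : K) (hc : c ∈ P.pos) (r : ℕ) (hr : P.aug c = r + 1)
    (inst : LambdaOps (AdjoinRoot (KRR.extPoly P c))) (Pc : @PosStructure _ _ inst)
    (hext : @IsExtension K _ _ _ _ inst P Pc (AdjoinRoot.of (KRR.extPoly P c)))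
    (hroot : ∀ i : ℕ, 2 ≤ i → @LambdaOps.lam _ _ inst i (AdjoinRoot.root (KRR.extPoly P c)) = 0)
    (hline : @PosStructure.IsLine _ _ inst Pc (AdjoinRoot.root (KRR.extPoly P c)))
    (f : AdjoinRoot (KRR.extPoly P c) →ₗ[K] K)
    (hf : ∀ i : ℕ, i ≤ r → f (AdjoinRoot.root (KRR.extPoly P c) ^ i) = KRR.sigma i c)
    (z : AdjoinRoot (KRR.extPoly P c)) (hz : z * (1 - AdjoinRoot.root (KRR.extPoly P c)) = 0) :
    z = AdjoinRoot.of (KRR.extPoly P c) (f z) *
      @KRR.lamAlt _ _ inst Pc (AdjoinRoot.of (KRR.extPoly P c) c -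
        AdjoinRoot.root (KRR.extPoly P c)) := by
  have hm : (P.aug c).toNat = r + 1 := by rw [hr]; rfl
  have hext' : ∀ (i : ℕ) (x : K), @LambdaOps.lam _ _ inst i (AdjoinRoot.of (KRR.extPoly P c) x) =
      AdjoinRoot.of (KRR.extPoly P c) (LambdaOps.lam i x) :=
    fun i x => (hext.isLambdaHom i x).symm
  have haug : (Pc.aug (AdjoinRoot.of (KRR.extPoly P c) c -
      AdjoinRoot.root (KRR.extPoly P c))).toNat = r := by
    rw [map_sub, hext.aug_comp, hline.2, hr]
    simp
  have hΛ : @KRR.lamAlt _ _ inst Pc (AdjoinRoot.of (KRR.extPoly P c) c -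
      AdjoinRoot.root (KRR.extPoly P c)) =
      AdjoinRoot.mk (KRR.extPoly P c) (quotPoly c (r + 1)) := by
    unfold KRR.lamAlt
    rw [haug]
    exact sum_lam_quot_eq_quotPoly P c inst hext' hroot (r + 1)
  have hfΛ : f (@KRR.lamAlt _ _ inst Pc (AdjoinRoot.of (KRR.extPoly P c) c -
      AdjoinRoot.root (KRR.extPoly P c))) = 1 := by
    unfold KRR.lamAlt
    rw [haug, map_sum]
    have h1 : ∀ i ∈ Finset.range (r + 1), f ((-1 : AdjoinRoot (KRR.extPoly P c)) ^ i *
        @LambdaOps.lam _ _ inst i (AdjoinRoot.of (KRR.extPoly P c) c -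
          AdjoinRoot.root (KRR.extPoly P c))) = if i = 0 then 1 else 0 := by
      intro i _
      have h2 : (-1 : AdjoinRoot (KRR.extPoly P c)) ^ i * @LambdaOps.lam _ _ inst i
          (AdjoinRoot.of (KRR.extPoly P c) c - AdjoinRoot.root (KRR.extPoly P c)) =
          ((-1 : K) ^ i) • @LambdaOps.lam _ _ inst i
          (AdjoinRoot.of (KRR.extPoly P c) c - AdjoinRoot.root (KRR.extPoly P c)) := by
        rw [Algebra.smul_def, map_pow, map_neg, map_one]
      rw [h2, map_smul, functional_lam_quot P hc r hr inst hext' hroot f hf i, smul_eq_mul]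
      split_ifs with hi
      · subst hi; simp
      · simp
    rw [Finset.sum_congr rfl h1, Finset.sum_ite_eq' (Finset.range (r + 1)) 0 (fun _ => (1 : K)),
      if_pos (Finset.mem_range.2 (Nat.succ_pos r))]
  obtain ⟨b, hb⟩ := exists_eq_mul_of_mul_one_sub_root (KRR.extPoly P c)
    (quotPoly c (P.aug c).toNat) _ (extPoly_monic P c) (X_sub_one_mul_quotPoly P c) z hz
  rw [hm, ← hΛ] at hb
  have hsm : ∀ y : AdjoinRoot (KRR.extPoly P c),
      AdjoinRoot.of (KRR.extPoly P c) b * y = b • y := fun y => by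
    rw [Algebra.smul_def, AdjoinRoot.algebraMap_eq]
  have hfz : f z = b := by
    rw [hb, hsm, map_smul, hfΛ, smul_eq_mul, mul_one]
  rw [hfz]
  exact hb

end S3802

end Groth.Agent.Helper3.SplitLib
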