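import Groth.Agent.Lib.Helper3.KrrB
import Groth.Agent.Lib.Helper3.LambdaP

set_option autoImplicit false

namespace Groth.Agent.Helper3.SplitLib

open LambdaRing Groth.Agent.Helper3.LambdaLib

universe u

section Det

variable {K : Type u} [CommRing K] [LambdaOps K] (P : PosStructure K)

open Classical in
/-- the top exterior power of a positive element, as a unit -/
noncomputable def detPos (e : K) : Kˣ :=
  if h : e ∈ P.pos then (P.isUnit_lam e h).unit else 1

theorem detPos_val {e : K} (he : e ∈ P.pos) :
    ((detPos P e : Kˣ) : K) = LambdaOps.lam (P.aug e).toNat e := by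
  unfold detPos
  rw [dif_pos he]
  rfl

theorem lam_top_add {e f : K} (he : e ∈ P.pos) (hf : f ∈ P.pos) :
    LambdaOps.lam (P.aug (e + f)).toNat (e + f) =
      LambdaOps.lam (P.aug e).toNat e * LambdaOps.lam (P.aug f).toNat f := by
  have h1 := P.aug_pos e he
  have h2 := P.aug_pos f hf
  have h3 : (P.aug (e + f)).toNat = (P.aug e).toNat + (P.aug f).toNat := by
    rw [map_add]; omega
  rw [h3, LambdaOps.lam_add]
  rw [Finset.sum_eq_single (P.aug e).toNat]
  · rw [Nat.add_sub_cancel_left]
  · intro i hi hne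
    have hi' : i < (P.aug e).toNat + (P.aug f).toNat + 1 := Finset.mem_range.1 hi
    rcases Nat.lt_or_gt_of_ne hne with hlt | hgt
    · rw [P.lam_eq_zero f hf ((P.aug e).toNat + (P.aug f).toNat - i) (by omega), mul_zero]
    · rw [P.lam_eq_zero e he i (by omega), zero_mul]
  · intro h
    exact absurd (Finset.mem_range.2 (by omega)) h

theorem detPos_add {e f : K} (he : e ∈ P.pos) (hf : f ∈ P.pos) :
    detPos P (e + f) = detPos P e * detPos P f := by
  apply Units.ext
  rw [Units.val_mul, detPos_val P (P.add_mem e f he hf), detPos_val P he, detPos_val P hf,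
    lam_top_add P he hf]

/-- the determinant `K → Kˣ` -/
noncomputable def detU (x : K) : Kˣ :=
  detPos P (Classical.choose (P.exists_sub x)) *
    (detPos P (Classical.choose (Classical.choose_spec (P.exists_sub x))))⁻¹

theorem detU_eq {x e f : K} (he : e ∈ P.pos) (hf : f ∈ P.pos) (h : x = e - f) :
    detU P x = detPos P e * (detPos P f)⁻¹ := by
  obtain ⟨he0, hf0, h0⟩ := Classical.choose_spec (Classical.choose_spec (P.exists_sub x))
  set e0 := Classical.choose (P.exists_sub x) with he0def
  set f0 := Classical.choose (Classical.choose_spec (P.exists_sub x)) with hf0def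
  have h1 : e0 + f = e + f0 := by
    have : e0 - f0 = e - f := by rw [← h0, h]
    linear_combination this
  have h2 : detPos P e0 * detPos P f = detPos P e * detPos P f0 := by
    rw [← detPos_add P he0 hf, ← detPos_add P he hf0, h1]
  show detPos P e0 * (detPos P f0)⁻¹ = detPos P e * (detPos P f)⁻¹
  rw [mul_inv_eq_iff_eq_mul, mul_assoc, mul_comm (detPos P f)⁻¹, ← mul_assoc, ← h2, mul_assoc,
    mul_inv_cancel, mul_one]

theorem detU_add (x y : K) : detU P (x + y) = detU P x * detU P y := by
  obtain ⟨e, f, he, hf, rfl⟩ := P.exists_sub x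
  obtain ⟨e', f', he', hf', rfl⟩ := P.exists_sub y
  rw [detU_eq P (P.add_mem e e' he he') (P.add_mem f f' hf hf') (by ring : e - f + (e' - f') =
    (e + e') - (f + f')), detU_eq P he hf rfl, detU_eq P he' hf' rfl, detPos_add P he he',
    detPos_add P hf hf', mul_inv]
  exact mul_mul_mul_comm _ _ _ _

theorem detU_zero : detU P (0 : K) = 1 := by
  have h := detU_add P 0 0
  rw [add_zero] at h
  exact (mul_eq_left.1 h.symm)

theorem detU_neg (x : K) : detU P (-x) = (detU P x)⁻¹ := by
  have h := detU_add P (-x) x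
  rw [neg_add_cancel, detU_zero] at h
  exact eq_inv_of_mul_eq_one_left h.symm

theorem detU_sub (x y : K) : detU P (x - y) = detU P x * (detU P y)⁻¹ := by
  rw [sub_eq_add_neg, detU_add, detU_neg]

theorem detU_pos {e : K} (he : e ∈ P.pos) : detU P e = detPos P e := by
  have h1 : (1 : K) ∈ P.pos := one_mem_pos P
  rw [detU_eq P (P.add_mem e 1 he h1) h1 (by ring : e = (e + 1) - 1), detPos_add P he h1,
    mul_assoc, mul_inv_cancel, mul_one]

theorem detU_line {w : K} (hw : P.IsLine w) : ((detU P w : Kˣ) : K) = w := by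
  rw [detU_pos P hw.1, detPos_val P hw.1, hw.2]
  simp [LambdaOps.lam_one]

theorem detU_mul_line {a : K} (ha : a ∈ Lin P) {w : K} (hw : P.IsLine w) :
    detU P (a * w) = detU P a * (detU P w) ^ (P.aug a) := by
  induction ha using AddSubgroup.closure_induction with
  | mem v hv =>
    apply Units.ext
    have hv' : P.IsLine v := hv
    rw [hv'.2, zpow_one, Units.val_mul, detU_line P (isLine_mul P hv' hw), detU_line P hv',
      detU_line P hw]
  | zero => rw [zero_mul, detU_zero, map_zero, zpow_zero, mul_one]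
  | add x y _ _ hx hy =>
    rw [add_mul, detU_add, hx, hy, detU_add, map_add, zpow_add]
    exact mul_mul_mul_comm _ _ _ _
  | neg x _ hx =>
    rw [neg_mul, detU_neg, hx, detU_neg, map_neg, zpow_neg, mul_inv]

theorem detU_mul_line_sub_one {a : K} (ha : a ∈ Lin P) (h0 : P.aug a = 0) {w : K}
    (hw : P.IsLine w) : detU P (a * (w - 1)) = 1 := by
  rw [mul_sub, mul_one, detU_sub, detU_mul_line P ha hw, h0, zpow_zero, mul_one, mul_inv_cancel]

theorem mul_line_mem_Lin {a : K} (ha : a ∈ Lin P) {w : K} (hw : P.IsLine w) : a * w ∈ Lin P := by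
  induction ha using AddSubgroup.closure_induction with
  | mem v hv => exact mem_Lin_of_isLine P (isLine_mul P hv hw)
  | zero => rw [zero_mul]; exact zero_mem _
  | add x y _ _ hx hy => rw [add_mul]; exact add_mem hx hy
  | neg x _ hx => rw [neg_mul]; exact neg_mem hx

theorem list_prod_sub_one_mem_Lin (l : List K) (hl : ∀ w ∈ l, P.IsLine w) :
    (l.map fun w => w - 1).prod ∈ Lin P := by
  induction l with
  | nil => simpa using mem_Lin_of_isLine P (one_isLine P)
  | cons w l ih =>
    have ih' := ih fun v hv => hl v (List.mem_cons_of_mem _ hv)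
    rw [List.map_cons, List.prod_cons, mul_comm, mul_sub, mul_one]
    exact sub_mem (mul_line_mem_Lin P ih' (hl w List.mem_cons_self)) ih'

theorem aug_list_prod_sub_one (l : List K) (hl : ∀ w ∈ l, P.IsLine w) (hne : l ≠ []) :
    P.aug (l.map fun w => w - 1).prod = 0 := by
  rcases l with _ | ⟨w, l⟩
  · exact absurd rfl hne
  · rw [List.map_cons, List.prod_cons, map_mul, map_sub, (hl w List.mem_cons_self).2, map_one,
      sub_self, zero_mul]

end Det

section JFil

variable {K : Type u} [CommRing K] [LambdaOps K] (P : PosStructure K)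

/-- generators: products of at least `n` factors `w - 1`, `w` a line element -/
def jGen (n : ℕ) : Set K :=
  {y | ∃ l : List K, (∀ w ∈ l, P.IsLine w) ∧ n ≤ l.length ∧ y = (l.map fun w => w - 1).prod}

/-- the additive subgroup generated by products of at least `n` factors `w - 1` -/
def JJ (n : ℕ) : AddSubgroup K := AddSubgroup.closure (jGen P n)

theorem jGen_mul {m n : ℕ} {x y : K} (hx : x ∈ jGen P m) (hy : y ∈ jGen P n) :
    x * y ∈ jGen P (m + n) := by
  obtain ⟨l, hl, hm, rfl⟩ := hx
  obtain ⟨l', hl', hn, rfl⟩ := hy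
  refine ⟨l ++ l', ?_, ?_, ?_⟩
  · intro p hp
    rcases List.mem_append.1 hp with h | h
    · exact hl p h
    · exact hl' p h
  · rw [List.length_append]; omega
  · rw [List.map_append, List.prod_append]

theorem JJ_anti {m n : ℕ} (h : m ≤ n) : JJ P n ≤ JJ P m := by
  apply AddSubgroup.closure_mono
  rintro y ⟨l, hl, hn, rfl⟩
  exact ⟨l, hl, le_trans h hn, rfl⟩

theorem JJ_mul {m n : ℕ} {x y : K} (hx : x ∈ JJ P m) (hy : y ∈ JJ P n) :
    x * y ∈ JJ P (m + n) := by
  unfold JJ at hx hy ⊢
  induction hx using AddSubgroup.closure_induction with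
  | mem x hx =>
    induction hy using AddSubgroup.closure_induction with
    | mem y hy => exact AddSubgroup.subset_closure (jGen_mul P hx hy)
    | zero => rw [mul_zero]; exact zero_mem _
    | add y z _ _ hy hz => rw [mul_add]; exact add_mem hy hz
    | neg y _ hy => rw [mul_neg]; exact neg_mem hy
  | zero => rw [zero_mul]; exact zero_mem _
  | add x z _ _ hx hz => rw [add_mul]; exact add_mem hx hz
  | neg x _ hx => rw [neg_mul]; exact neg_mem hx

theorem one_mem_JJ_zero : (1 : K) ∈ JJ P 0 :=
  AddSubgroup.subset_closure ⟨[], by simp, by simp, by simp⟩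

theorem sub_one_mem_JJ_one {w : K} (hw : P.IsLine w) : w - 1 ∈ JJ P 1 :=
  AddSubgroup.subset_closure ⟨[w], by simpa using hw, by simp, by simp⟩

theorem pow_sub_one_mem_JJ {w : K} (hw : P.IsLine w) (k : ℕ) : (w - 1) ^ k ∈ JJ P k := by
  induction k with
  | zero => simpa using one_mem_JJ_zero P
  | succ k ih => rw [pow_succ]; exact JJ_mul P ih (sub_one_mem_JJ_one P hw)

theorem detU_eq_one_of_mem_JJ {y : K} (hy : y ∈ JJ P 2) : detU P y = 1 := by
  unfold JJ at hy
  induction hy using AddSubgroup.closure_induction with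
  | mem y hy =>
    obtain ⟨l, hl, hn, rfl⟩ := hy
    rcases l with _ | ⟨w, l⟩
    · simp at hn
    · have hne : l ≠ [] := by
        rintro rfl
        simp at hn
      have hl' : ∀ v ∈ l, P.IsLine v := fun v hv => hl v (List.mem_cons_of_mem _ hv)
      rw [List.map_cons, List.prod_cons, mul_comm]
      exact detU_mul_line_sub_one P (list_prod_sub_one_mem_Lin P l hl')
        (aug_list_prod_sub_one P l hl' hne) (hl w List.mem_cons_self)
  | zero => exact detU_zero P
  | add x y _ _ hx hy => rw [detU_add, hx, hy, mul_one]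
  | neg x _ hx => rw [detU_neg, hx, inv_one]

/-- the subgroup generated by the `w - 1`, `w` a line element -/
def Lin0 : AddSubgroup K := AddSubgroup.closure {y | ∃ w, P.IsLine w ∧ y = w - 1}

theorem sub_aug_mem_Lin0 {x : K} (hx : x ∈ Lin P) : x - ((P.aug x : ℤ) : K) ∈ Lin0 P := by
  induction hx using AddSubgroup.closure_induction with
  | mem v hv =>
    have hv' : P.IsLine v := hv
    rw [hv'.2, Int.cast_one]
    exact AddSubgroup.subset_closure ⟨v, hv', rfl⟩
  | zero => simp
  | add x y _ _ hx hy =>
    have : x + y - ((P.aug (x + y) : ℤ) : K) =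
        (x - ((P.aug x : ℤ) : K)) + (y - ((P.aug y : ℤ) : K)) := by
      rw [map_add, Int.cast_add]; ring
    rw [this]
    exact add_mem hx hy
  | neg x _ hx =>
    have : -x - ((P.aug (-x) : ℤ) : K) = -(x - ((P.aug x : ℤ) : K)) := by
      rw [map_neg, Int.cast_neg]; ring
    rw [this]
    exact neg_mem hx

theorem mem_Lin0_of_mem_Lin {x : K} (hx : x ∈ Lin P) (h0 : P.aug x = 0) : x ∈ Lin0 P := by
  have := sub_aug_mem_Lin0 P hx
  rwa [h0, Int.cast_zero, sub_zero] at this

open PowerSeries in
theorem gamma_neg_line_sub_one {w : K} (hw : P.IsLine w) (k : ℕ) :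
    gamma k (-(w - 1)) = (-(w - 1)) ^ k := by
  have h1 := lam_one_eq_zero P
  have h2 : gammaSeries (-(w - 1)) * gammaSeries (w - 1) = 1 := by
    rw [← gammaSeries_add, neg_add_cancel, gammaSeries_zero]
  rw [gammaSeries_line_sub_one h1 w (lam_line P hw)] at h2
  have h3 : gammaSeries (-(w - 1)) = PowerSeries.mk fun i => (-(w - 1)) ^ i := by
    have h4 := one_add_C_mul_X_mul_mk (w - 1)
    calc gammaSeries (-(w - 1))
        = gammaSeries (-(w - 1)) * ((1 + C (w - 1) * X) *
            (PowerSeries.mk fun i => (-(w - 1)) ^ i)) := by rw [h4, mul_one]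
      _ = (gammaSeries (-(w - 1)) * (1 + C (w - 1) * X)) *
            (PowerSeries.mk fun i => (-(w - 1)) ^ i) := by ring
      _ = _ := by rw [h2, one_mul]
  rw [← coeff_gammaSeries, h3, coeff_mk]

open PowerSeries in
theorem gamma_line_sub_one {w : K} (hw : P.IsLine w) (k : ℕ) :
    gamma k (w - 1) = if k = 0 then 1 else if k = 1 then w - 1 else 0 := by
  have h1 := lam_one_eq_zero P
  rw [← coeff_gammaSeries, gammaSeries_line_sub_one h1 w (lam_line P hw)]
  rcases k with _ | _ | k
  · simp
  · simp
  · rw [map_add, coeff_one, coeff_succ_mul_X, coeff_C]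
    simp

theorem gamma_mem_JJ {x : K} (hx : x ∈ Lin0 P) : ∀ k : ℕ, gamma k x ∈ JJ P k := by
  unfold Lin0 at hx
  induction hx using AddSubgroup.closure_induction'' with
  | mem y hy =>
    obtain ⟨w, hw, rfl⟩ := hy
    intro k
    rw [gamma_line_sub_one P hw]
    split_ifs with h0 h1
    · subst h0; exact one_mem_JJ_zero P
    · subst h1; exact sub_one_mem_JJ_one P hw
    · exact zero_mem _
  | neg_mem y hy =>
    obtain ⟨w, hw, rfl⟩ := hy
    intro k
    rw [gamma_neg_line_sub_one P hw, neg_pow]
    have h := pow_sub_one_mem_JJ P hw k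
    have h2 : (-1 : K) ^ k * (w - 1) ^ k = ((-1 : ℤ) ^ k) • (w - 1) ^ k := by
      rw [zsmul_eq_mul]; push_cast; ring
    rw [h2]
    exact zsmul_mem h _
  | zero =>
    intro k
    rw [gamma_zero_right]
    split_ifs with h
    · subst h; exact one_mem_JJ_zero P
    · exact zero_mem _
  | add x y _ _ hx hy =>
    intro k
    rw [gamma_add]
    apply sum_mem
    intro i hi
    have hi' : i < k + 1 := Finset.mem_range.1 hi
    have := JJ_mul P (hx i) (hy (k - i))
    rwa [Nat.add_sub_cancel' (by omega)] at this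

theorem list_prod_gamma_mem_JJ (l : List (ℕ × K)) (hl : ∀ p ∈ l, p.2 ∈ Lin0 P) :
    (l.map fun p => gamma p.1 p.2).prod ∈ JJ P (l.map Prod.fst).sum := by
  induction l with
  | nil => simpa using one_mem_JJ_zero P
  | cons p l ih =>
    simp only [List.map_cons, List.prod_cons, List.sum_cons]
    exact JJ_mul P (gamma_mem_JJ P (hl p List.mem_cons_self) p.1)
      (ih fun q hq => hl q (List.mem_cons_of_mem _ hq))

end JFil

end Groth.Agent.Helper3.SplitLib
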