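import Groth.Agent.Lib.Helper3.LambdaR
import Groth.Prelude.Def_W4bkmilneecrracsp2Inv

set_option autoImplicit false

namespace Groth.Agent.Helper3.SplitLib

open LambdaRing Groth.Agent.Helper3.LambdaLib

universe u

section MultisetId

variable {A : Type*} [CommRing A]

theorem esymm_card (s : Multiset A) : s.esymm (Multiset.card s) = s.prod := by
  unfold Multiset.esymm
  rw [Multiset.powersetCard_self]
  simp

theorem sum_alt_esymm (s : Multiset A) :
    ∑ i ∈ Finset.range (Multiset.card s + 1), (-1 : A) ^ i * s.esymm i =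
      (s.map fun v => 1 - v).prod := by
  have h := congrArg (Polynomial.eval (1 : A)) (Multiset.prod_X_sub_X_eq_sum_esymm s)
  rw [Polynomial.eval_multiset_prod, Multiset.map_map, Polynomial.eval_finsetSum] at h
  have h2 : (Polynomial.eval (1 : A) ∘ fun t => (Polynomial.X - Polynomial.C t : Polynomial A)) =
      fun v => 1 - v := by
    funext v
    simp
  rw [h2] at h
  rw [h]
  refine Finset.sum_congr rfl fun i _ => ?_
  simp

/-- `e_{m-i}(u⁻¹) · ∏ u = e_i(u)` -/
theorem esymm_inv_mul_prod (s : Multiset A) (inv : A → A) (hinv : ∀ u ∈ s, inv u * u = 1)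
    (i : ℕ) (hi : i ≤ Multiset.card s) :
    (s.map inv).esymm (Multiset.card s - i) * s.prod = s.esymm i := by
  have h1 : (s.map fun u => (Polynomial.X + Polynomial.C u : Polynomial A)).prod =
      Polynomial.C s.prod *
        (s.map fun u => (1 + Polynomial.C (inv u) * Polynomial.X : Polynomial A)).prod := by
    rw [← Multiset.prod_hom s (Polynomial.C : A →+* Polynomial A), ← Multiset.prod_map_mul]
    refine congrArg _ (Multiset.map_congr rfl fun u hu => ?_)
    have := hinv u hu
    rw [mul_add, mul_one, ← mul_assoc, ← map_mul, mul_comm u, this, map_one, one_mul, add_comm]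
  have h2 := congrArg (fun p : Polynomial A => p.coeff (Multiset.card s - i)) h1
  rw [Multiset.prod_X_add_C_coeff s (Nat.sub_le _ _), Polynomial.coeff_C_mul,
    Nat.sub_sub_self hi] at h2
  rw [h2, mul_comm]
  congr 1
  -- coefficient of ∏ (1 + C v X) is esymm
  have h3 : ∀ (t : Multiset A) (k : ℕ),
      ((t.map fun v => (1 + Polynomial.C v * Polynomial.X : Polynomial A)).prod).coeff k =
        t.esymm k := by
    intro t k
    have h4 : (((t.map fun v => (1 + Polynomial.C v * Polynomial.X : Polynomial A)).prod :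
        Polynomial A) : PowerSeries A) =
        (t.map fun v => (1 + PowerSeries.C v * PowerSeries.X : PowerSeries A)).prod := by
      rw [← Polynomial.coeToPowerSeries.ringHom_apply, map_multiset_prod, Multiset.map_map]
      refine congrArg _ (Multiset.map_congr rfl fun v _ => ?_)
      simp
    rw [← Polynomial.coeff_coe, h4, coeff_multiset_prod_one_add]
  rw [← h3, Multiset.map_map]
  rfl

end MultisetId


section Inv

variable {K : Type u} [CommRing K] [LambdaOps K] {P : PosStructure K}

theorem inv_zero {inv : K → K} (hV : IsInvolution P inv) : inv 0 = 0 := by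
  have h := hV.map_add 0 0
  rw [add_zero] at h
  exact left_eq_add.mp h

theorem inv_multiset_sum {inv : K → K} (hV : IsInvolution P inv) (s : Multiset K) :
    inv s.sum = (s.map inv).sum := by
  induction s using Multiset.induction_on with
  | empty => simpa using inv_zero hV
  | cons a s ih => rw [Multiset.sum_cons, hV.map_add, ih, Multiset.map_cons, Multiset.sum_cons]

theorem exists_inv_split {inv : K → K} (hS : HasInvSplitting P inv) {e : K} (he : e ∈ P.pos) :
    ∃ (L : PosLambdaRing.{u}) (inv' : L.carrier → L.carrier) (f : K →+* L.carrier),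
      IsExtension P L.posStr f ∧ IsInvolution L.posStr inv' ∧ (∀ x : K, f (inv x) = inv' (f x)) ∧
      ∃ s : Multiset L.carrier, (∀ v ∈ s, L.posStr.IsLine v) ∧ s.sum = f e ∧
        Multiset.card s = (P.aug e).toNat := by
  obtain ⟨L, inv', f, hf, hV', hc, s, hs, hsum⟩ := hS e he
  refine ⟨L, inv', f, hf, hV', hc, s, hs, hsum, ?_⟩
  have := aug_multiset_sum L.posStr s hs
  rw [hsum, hf.aug_comp] at this
  rw [this]
  simp

theorem isLine_map_inv {inv : K → K} (hV : IsInvolution P inv) (s : Multiset K)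
    (hs : ∀ v ∈ s, P.IsLine v) : ∀ v ∈ s.map inv, P.IsLine v := by
  intro v hv
  obtain ⟨w, hw, rfl⟩ := Multiset.mem_map.1 hv
  exact hV.inv_line w (hs w hw)

theorem lam_eq_lam_inv_mul {inv : K → K} (hS : HasInvSplitting P inv) {e : K} (he : e ∈ P.pos)
    (i : ℕ) (hi : i ≤ (P.aug e).toNat) :
    LambdaOps.lam i e = LambdaOps.lam ((P.aug e).toNat - i) (inv e) *
      LambdaOps.lam (P.aug e).toNat e := by
  obtain ⟨L, inv', f, hf, hV', hc, s, hs, hsum, hcard⟩ := exists_inv_split hS he
  apply hf.injective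
  rw [map_mul, hf.isLambdaHom, hf.isLambdaHom, hf.isLambdaHom, hc, ← hsum, inv_multiset_sum hV',
    lam_multiset_sum _ s hs, lam_multiset_sum _ _ (isLine_map_inv hV' s hs), ← hcard,
    lam_multiset_sum _ s hs, esymm_card,
    esymm_inv_mul_prod s inv' (fun u hu => hV'.inv_mul_self u (hs u hu)) i (by rwa [hcard])]

theorem gamma_top_eq {inv : K → K} (hS : HasInvSplitting P inv) {e : K} (he : e ∈ P.pos) :
    gamma (P.aug e).toNat (e - ((P.aug e).toNat : K)) =
      (∑ i ∈ Finset.range ((P.aug e).toNat + 1), (-1 : K) ^ i * LambdaOps.lam i (inv e)) *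
        LambdaOps.lam (P.aug e).toNat e := by
  obtain ⟨L, inv', f, hf, hV', hc, s, hs, hsum, hcard⟩ := exists_inv_split hS he
  apply hf.injective
  rw [map_gamma f hf.isLambdaHom, map_sub, map_natCast, map_mul, map_sum, hf.isLambdaHom, ← hsum,
    ← hcard, gamma_multiset_sum _ s hs, lam_multiset_sum _ s hs, esymm_card]
  have h1 : ∀ i ∈ Finset.range (Multiset.card s + 1),
      f ((-1 : K) ^ i * LambdaOps.lam i (inv e)) = (-1) ^ i * (s.map inv').esymm i := by
    intro i _
    rw [map_mul, map_pow, map_neg, map_one, hf.isLambdaHom, hc, ← hsum, inv_multiset_sum hV',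
      lam_multiset_sum _ _ (isLine_map_inv hV' s hs)]
  rw [Finset.sum_congr rfl h1]
  have h2 := sum_alt_esymm (s.map inv')
  rw [Multiset.card_map] at h2
  rw [h2, Multiset.map_map]
  have h3 : Multiset.card (s.map fun u => u - 1) = Multiset.card s := Multiset.card_map _ _
  have h4 : s.prod = (s.map id).prod := by rw [Multiset.map_id]
  rw [← h3, esymm_card, h4, ← Multiset.prod_map_mul]
  refine congrArg _ (Multiset.map_congr rfl fun u hu => ?_)
  have := hV'.inv_mul_self u (hs u hu)
  simp only [Function.comp_apply, id]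
  rw [sub_mul, one_mul, this]

end Inv


section LamAlt

variable {K : Type u} [CommRing K] [LambdaOps K] (P : PosStructure K)

theorem prod_one_sub_eq {A : Type*} [CommRing A] (s : Multiset A) :
    (s.map fun u => 1 - u).prod = (-1) ^ (Multiset.card s) * (s.map fun u => u - 1).prod := by
  have h : (s.map fun u => 1 - u) = s.map fun u => (-1 : A) * (u - 1) :=
    Multiset.map_congr rfl fun u _ => by ring
  rw [h, Multiset.prod_map_mul, Multiset.map_const', Multiset.prod_replicate]

theorem lamAlt_eq_gamma (hK : HasSplitting K P) {q : K} (hq : q ∈ P.pos) :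
    ∑ i ∈ Finset.range ((P.aug q).toNat + 1), (-1 : K) ^ i * LambdaOps.lam i q =
      (-1) ^ (P.aug q).toNat * gamma (P.aug q).toNat (q - ((P.aug q).toNat : K)) := by
  obtain ⟨L, f, _, hf, s, hs, hsum⟩ := exists_split P hK q hq
  have hcard : Multiset.card s = (P.aug q).toNat := by
    have := aug_multiset_sum L.posStr s hs
    rw [hsum, hf.aug_comp] at this
    rw [this]
    simp
  apply hf.injective
  rw [map_sum, map_mul, map_pow, map_neg, map_one, map_gamma f hf.isLambdaHom, map_sub,
    map_natCast, ← hsum, ← hcard, gamma_multiset_sum _ s hs]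
  have h1 : ∀ i ∈ Finset.range (Multiset.card s + 1),
      f ((-1 : K) ^ i * LambdaOps.lam i q) = (-1) ^ i * s.esymm i := by
    intro i _
    rw [map_mul, map_pow, map_neg, map_one, hf.isLambdaHom, ← hsum, lam_multiset_sum _ s hs]
  rw [Finset.sum_congr rfl h1, sum_alt_esymm, prod_one_sub_eq]
  have h3 : Multiset.card (s.map fun u => u - 1) = Multiset.card s := Multiset.card_map _ _
  rw [← h3, esymm_card, h3]

theorem aug_natCast_toNat {q : K} (hq : q ∈ P.pos) :
    P.aug (q - ((P.aug q).toNat : K)) = 0 := by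
  rw [map_sub, map_natCast, Int.toNat_of_nonneg (le_of_lt (P.aug_pos q hq)), sub_self]

theorem lamAlt_mem_gammaFiltration (hK : HasSplitting K P) {q : K} (hq : q ∈ P.pos) :
    ∑ i ∈ Finset.range ((P.aug q).toNat + 1), (-1 : K) ^ i * LambdaOps.lam i q ∈
      gammaFiltration P (P.aug q).toNat := by
  rw [lamAlt_eq_gamma P hK hq]
  exact mul_mem_gammaFiltration_left P _ _
    (gamma_mem_gammaFiltration P (aug_natCast_toNat P hq) _)

end LamAlt

section Inv2

variable {K : Type u} [CommRing K] [LambdaOps K] {P : PosStructure K}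

theorem gamma_inv_eq {inv : K → K} (hS : HasInvSplitting P inv) {q : K} (hq : q ∈ P.pos) :
    gamma (P.aug q).toNat (inv q - ((P.aug q).toNat : K)) =
      LambdaOps.lam (P.aug q).toNat (inv q) *
        ∑ i ∈ Finset.range ((P.aug q).toNat + 1), (-1 : K) ^ i * LambdaOps.lam i q := by
  obtain ⟨L, inv', f, hf, hV', hc, s, hs, hsum, hcard⟩ := exists_inv_split hS hq
  apply hf.injective
  have hcard' : Multiset.card (s.map inv') = Multiset.card s := Multiset.card_map _ _
  rw [map_gamma f hf.isLambdaHom, map_sub, map_natCast, map_mul, map_sum, hf.isLambdaHom, hc,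
    ← hsum, inv_multiset_sum hV', ← hcard]
  nth_rewrite 1 2 3 [← hcard']
  rw [gamma_multiset_sum _ _ (isLine_map_inv hV' s hs),
    lam_multiset_sum _ _ (isLine_map_inv hV' s hs), esymm_card]
  have h1 : ∀ i ∈ Finset.range (Multiset.card s + 1),
      f ((-1 : K) ^ i * LambdaOps.lam i q) = (-1) ^ i * s.esymm i := by
    intro i _
    rw [map_mul, map_pow, map_neg, map_one, hf.isLambdaHom, ← hsum, lam_multiset_sum _ s hs]
  rw [Finset.sum_congr rfl h1, sum_alt_esymm]
  have h3 : Multiset.card ((s.map inv').map fun u => u - 1) = Multiset.card (s.map inv') :=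
    Multiset.card_map _ _
  rw [← h3, esymm_card, Multiset.map_map, ← Multiset.prod_map_mul]
  refine congrArg _ (Multiset.map_congr rfl fun u hu => ?_)
  have := hV'.inv_mul_self u (hs u hu)
  simp only [Function.comp_apply]
  rw [mul_sub, mul_one, this]

theorem aug_lam_top_inv {inv : K → K} (hS : HasInvSplitting P inv) {q : K} (hq : q ∈ P.pos) :
    P.aug (LambdaOps.lam (P.aug q).toNat (inv q)) = 1 := by
  obtain ⟨L, inv', f, hf, hV', hc, s, hs, hsum, hcard⟩ := exists_inv_split hS hq
  have hcard' : Multiset.card (s.map inv') = Multiset.card s := Multiset.card_map _ _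
  rw [← hf.aug_comp, hf.isLambdaHom, hc, ← hsum, inv_multiset_sum hV', ← hcard, ← hcard',
    lam_multiset_sum _ _ (isLine_map_inv hV' s hs), esymm_card, map_multiset_prod]
  apply Multiset.prod_eq_one
  intro x hx
  obtain ⟨v, hv, rfl⟩ := Multiset.mem_map.1 hx
  exact (isLine_map_inv hV' s hs v hv).2

theorem gamma_inv_sub_lamAlt_mem {inv : K → K} (hK : HasSplitting K P)
    (hS : HasInvSplitting P inv) {q : K} (hq : q ∈ P.pos) :
    gamma (P.aug q).toNat (inv q - ((P.aug q).toNat : K)) -
        (∑ i ∈ Finset.range ((P.aug q).toNat + 1), (-1 : K) ^ i * LambdaOps.lam i q) ∈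
      gammaFiltration P ((P.aug q).toNat + 1) := by
  rw [gamma_inv_eq hS hq]
  have h1 : LambdaOps.lam (P.aug q).toNat (inv q) *
        (∑ i ∈ Finset.range ((P.aug q).toNat + 1), (-1 : K) ^ i * LambdaOps.lam i q) -
      (∑ i ∈ Finset.range ((P.aug q).toNat + 1), (-1 : K) ^ i * LambdaOps.lam i q) =
      (∑ i ∈ Finset.range ((P.aug q).toNat + 1), (-1 : K) ^ i * LambdaOps.lam i q) *
        (LambdaOps.lam (P.aug q).toNat (inv q) - 1) := by ring
  rw [h1]
  apply mul_mem_gammaFiltration P (lamAlt_mem_gammaFiltration P hK hq)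
  apply mem_gammaFiltration_one
  rw [map_sub, aug_lam_top_inv hS hq, map_one, sub_self]

end Inv2


section Push

variable {KY KX : Type u} [CommRing KY] [LambdaOps KY] [CommRing KX] [LambdaOps KX]
  (PY : PosStructure KY) (PX : PosStructure KX)

theorem exists_lift_list (g : KY →+* KX) (hg : IsLambdaHom g)
    (hgaug : ∀ y : KY, PX.aug (g y) = PY.aug y) (hsurj : Function.Surjective g)
    (l : List (ℕ × KX)) (hl : ∀ p ∈ l, PX.aug p.2 = 0) :
    ∃ l' : List (ℕ × KY), (∀ p ∈ l', PY.aug p.2 = 0) ∧
      (l'.map Prod.fst).sum = (l.map Prod.fst).sum ∧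
      g ((l'.map fun p => gamma p.1 p.2).prod) = (l.map fun p => gamma p.1 p.2).prod := by
  induction l with
  | nil => exact ⟨[], by simp, rfl, by simp⟩
  | cons p l ih =>
    obtain ⟨l', h1, h2, h3⟩ := ih (fun q hq => hl q (List.mem_cons_of_mem _ hq))
    obtain ⟨y, hy⟩ := hsurj p.2
    refine ⟨(p.1, y) :: l', ?_, ?_, ?_⟩
    · intro q hq
      rcases List.mem_cons.1 hq with rfl | hq
      · show PY.aug y = 0
        rw [← hgaug, hy]
        exact hl p List.mem_cons_self
      · exact h1 q hq
    · simp [h2]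
    · simp only [List.map_cons, List.prod_cons, map_mul]
      rw [h3, map_gamma g hg, hy]

theorem exists_lift_gammaFiltration (g : KY →+* KX) (hg : IsLambdaHom g)
    (hgaug : ∀ y : KY, PX.aug (g y) = PY.aug y) (hsurj : Function.Surjective g)
    (m : ℕ) {x : KX} (hx : x ∈ gammaFiltration PX m) :
    ∃ y ∈ gammaFiltration PY m, g y = x := by
  rcases Nat.eq_zero_or_pos m with rfl | hm
  · obtain ⟨y, hy⟩ := hsurj x
    exact ⟨y, by rw [gammaFiltration_zero]; exact AddSubgroup.mem_top _, hy⟩
  · rw [gammaFiltration_of_ne PX (by omega : m ≠ 0)] at hx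
    rw [gammaFiltration_of_ne PY (by omega : m ≠ 0)]
    induction hx using AddSubgroup.closure_induction with
    | mem x hx =>
      obtain ⟨l, hl, hml, rfl⟩ := hx
      obtain ⟨l', h1, h2, h3⟩ := exists_lift_list PY PX g hg hgaug hsurj l hl
      exact ⟨_, AddSubgroup.subset_closure ⟨l', h1, by rw [h2]; exact hml, rfl⟩, h3⟩
    | zero => exact ⟨0, zero_mem _, map_zero g⟩
    | add x z _ _ hx hz =>
      obtain ⟨y, hy, rfl⟩ := hx
      obtain ⟨y', hy', rfl⟩ := hz
      exact ⟨y + y', add_mem hy hy', map_add g y y'⟩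
    | neg x _ hx =>
      obtain ⟨y, hy, rfl⟩ := hx
      exact ⟨-y, neg_mem hy, map_neg g y⟩

theorem push_mem_gammaFiltration (hY : HasSplitting KY PY)
    (g : KY →+* KX) (hg : IsLambdaHom g) (hgaug : ∀ y : KY, PX.aug (g y) = PY.aug y)
    (hgsurj : Function.Surjective g)
    (p : KX →+ KY) (hproj : ∀ (y : KY) (x : KX), p (g y * x) = y * p x)
    (q : KY) (hq : q ∈ PY.pos)
    (hp1 : p 1 = ∑ i ∈ Finset.range ((PY.aug q).toNat + 1), (-1 : KY) ^ i * LambdaOps.lam i q)
    (m : ℕ) (x : KX) (hx : x ∈ gammaFiltration PX m) :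
    p x ∈ gammaFiltration PY (m + (PY.aug q).toNat) := by
  obtain ⟨y, hy, rfl⟩ := exists_lift_gammaFiltration PY PX g hg hgaug hgsurj m hx
  have h := hproj y 1
  rw [mul_one] at h
  rw [h, hp1]
  exact mul_mem_gammaFiltration PY hy (lamAlt_mem_gammaFiltration PY hY hq)

end Push

end Groth.Agent.Helper3.SplitLib
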