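import Groth.Agent.Lib.Helper3.KrrC
import Groth.Agent.Lib.Helper3.LambdaT

set_option autoImplicit false

namespace Groth.Agent.Helper3.SplitLib

open LambdaRing Groth.Agent.Helper3.LambdaLib

universe u

section DetMap

variable {K : Type u} [CommRing K] [LambdaOps K] (P : PosStructure K)
  {K' : Type u} [CommRing K'] [LambdaOps K'] {P' : PosStructure K'}

theorem detPos_map {f : K →+* K'} (hf : IsExtension P P' f) {e : K} (he : e ∈ P.pos) :
    detPos P' (f e) = Units.map (f : K →* K') (detPos P e) := by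
  apply Units.ext
  rw [detPos_val P' (hf.pos_subset e he), Units.coe_map, detPos_val P he, hf.aug_comp]
  exact (hf.isLambdaHom _ _).symm

theorem detU_map {f : K →+* K'} (hf : IsExtension P P' f) (x : K) :
    detU P' (f x) = Units.map (f : K →* K') (detU P x) := by
  obtain ⟨e, e', he, he', rfl⟩ := P.exists_sub x
  rw [detU_eq P he he' rfl, detU_eq P' (hf.pos_subset e he) (hf.pos_subset e' he') (map_sub f e e'),
    detPos_map P hf he, detPos_map P hf he', map_mul, map_inv]

/-- generators of the γ-filtration map into the `J`-filtration of a suitable extension -/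
theorem exists_ext_gGenSet_mem_JJ (hK : HasSplitting K P) {n : ℕ} {y : K} (hy : y ∈ gGenSet P n) :
    ∃ (L : PosLambdaRing.{u}) (f : K →+* L.carrier), IsExtension P L.posStr f ∧
      f y ∈ JJ L.posStr n := by
  obtain ⟨l, hl, hn, rfl⟩ := hy
  obtain ⟨L, f, _, hf, hLin⟩ := exists_ext_mem_Lin P hK (l.map Prod.snd)
  refine ⟨L, f, hf, ?_⟩
  have h1 : f (l.map fun p => gamma p.1 p.2).prod =
      ((l.map fun p : ℕ × K => ((p.1, f p.2) : ℕ × L.carrier)).map
        fun q => gamma q.1 q.2).prod := by
    rw [map_list_prod, List.map_map, List.map_map]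
    congr 1
    apply List.map_congr_left
    intro p _
    exact map_gamma f hf.isLambdaHom p.1 p.2
  rw [h1]
  have h2 := list_prod_gamma_mem_JJ L.posStr
    (l.map fun p : ℕ × K => ((p.1, f p.2) : ℕ × L.carrier)) (by
      intro q hq
      obtain ⟨p, hp, rfl⟩ := List.mem_map.1 hq
      refine mem_Lin0_of_mem_Lin L.posStr (hLin p.2 (List.mem_map.2 ⟨p, hp, rfl⟩)) ?_
      show L.posStr.aug (f p.2) = 0
      rw [hf.aug_comp]
      exact hl p hp)
  refine JJ_anti L.posStr ?_ h2
  rw [List.map_map]
  exact hn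

theorem aug_eq_zero_of_mem_JJ_one {y : K} (hy : y ∈ JJ P 1) : P.aug y = 0 := by
  unfold JJ at hy
  induction hy using AddSubgroup.closure_induction with
  | mem y hy =>
    obtain ⟨l, hl, hn, rfl⟩ := hy
    exact aug_list_prod_sub_one P l hl (by rintro rfl; simp at hn)
  | zero => exact map_zero _
  | add x y _ _ hx hy => rw [map_add, hx, hy, add_zero]
  | neg x _ hx => rw [map_neg, hx, neg_zero]

theorem aug_eq_zero_of_mem_gammaFiltration_one (hK : HasSplitting K P) {y : K}
    (hy : y ∈ gammaFiltration P 1) : P.aug y = 0 := by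
  rw [gammaFiltration_of_ne P one_ne_zero] at hy
  induction hy using AddSubgroup.closure_induction with
  | mem y hy =>
    obtain ⟨L, f, hf, hfy⟩ := exists_ext_gGenSet_mem_JJ P hK hy
    rw [← hf.aug_comp]
    exact aug_eq_zero_of_mem_JJ_one L.posStr hfy
  | zero => exact map_zero _
  | add x y _ _ hx hy => rw [map_add, hx, hy, add_zero]
  | neg x _ hx => rw [map_neg, hx, neg_zero]

theorem detU_eq_one_of_mem_gammaFiltration_two (hK : HasSplitting K P) {y : K}
    (hy : y ∈ gammaFiltration P 2) : detU P y = 1 := by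
  rw [gammaFiltration_of_ne P two_ne_zero] at hy
  induction hy using AddSubgroup.closure_induction with
  | mem y hy =>
    obtain ⟨L, f, hf, hfy⟩ := exists_ext_gGenSet_mem_JJ P hK hy
    have h1 := detU_eq_one_of_mem_JJ L.posStr hfy
    rw [detU_map P hf] at h1
    apply Units.ext
    apply hf.injective
    have h2 := congrArg Units.val h1
    rw [Units.coe_map] at h2
    rw [Units.val_one, map_one]
    exact h2
  | zero => exact detU_zero P
  | add x y _ _ hx hy => rw [detU_add, hx, hy, mul_one]
  | neg x _ hx => rw [detU_neg, hx, inv_one]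

end DetMap

section S3781

variable {K : Type u} [CommRing K] [LambdaOps K] (P : PosStructure K)

/-- `det e ≡ 1 + (e - rank e)` modulo `F²` -/
theorem lam_top_sub_mem {e : K} (he : e ∈ P.pos) :
    LambdaOps.lam (P.aug e).toNat e - 1 - (e - ((P.aug e).toNat : K)) ∈ gammaFiltration P 2 := by
  have hpos := P.aug_pos e he
  obtain ⟨r, hr⟩ : ∃ r, (P.aug e).toNat = r + 1 := ⟨(P.aug e).toNat - 1, by omega⟩
  have h := congrArg (Polynomial.eval 1) (gamma_lam_poly P he)
  rw [Polynomial.eval_finsetSum, Polynomial.eval_finsetSum] at h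
  simp only [Polynomial.eval_mul, Polynomial.eval_C, Polynomial.eval_pow, Polynomial.eval_X,
    Polynomial.eval_sub, Polynomial.eval_one, one_pow, mul_one, sub_self] at h
  have h2 : ∑ i ∈ Finset.range ((P.aug e).toNat + 1),
      LambdaOps.lam i e * (0 : K) ^ ((P.aug e).toNat - i) = LambdaOps.lam (P.aug e).toNat e := by
    rw [Finset.sum_eq_single (P.aug e).toNat]
    · rw [Nat.sub_self, pow_zero, mul_one]
    · intro i hi hne
      have hi' : i < (P.aug e).toNat + 1 := Finset.mem_range.1 hi
      rw [zero_pow (by omega), mul_zero]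
    · intro h'
      exact absurd (Finset.mem_range.2 (Nat.lt_succ_self _)) h'
  rw [h2] at h
  have h0 : P.aug (e - ((P.aug e).toNat : K)) = 0 := aug_natCast_toNat P he
  rw [← h, hr, Finset.sum_range_succ', Finset.sum_range_succ']
  have h3 : gamma 0 (e - ((r + 1 : ℕ) : K)) = 1 := gamma_zero_left _
  have h4 : gamma (0 + 1) (e - ((r + 1 : ℕ) : K)) = e - ((r + 1 : ℕ) : K) := gamma_one _
  rw [h3, h4]
  have h5 : ∑ i ∈ Finset.range r, gamma (i + 1 + 1) (e - ((r + 1 : ℕ) : K)) +
      (e - ((r + 1 : ℕ) : K)) + 1 - 1 - (e - ((r + 1 : ℕ) : K)) =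
      ∑ i ∈ Finset.range r, gamma (i + 1 + 1) (e - ((r + 1 : ℕ) : K)) := by ring
  rw [h5]
  apply sum_mem
  intro i _
  rw [hr] at h0
  exact gammaFiltration_anti P (by omega) (gamma_mem_gammaFiltration P h0 (i + 1 + 1))

/-- S3781 -/
theorem lineElements_equiv_gr1 (hK : HasSplitting K P)
    (hLinv : ∀ w : K, P.IsLine w → ∃ w' : K, P.IsLine w' ∧ w * w' = 1)
    (hdet : ∀ e : K, e ∈ P.pos → LambdaOps.lam (P.aug e).toNat e ∈ P.pos) :
    (∀ x : K, x ∈ gammaFiltration P 1 →
      ∃ u : K, P.IsLine u ∧ x - (u - 1) ∈ gammaFiltration P 2) ∧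
    ∀ u v : K, P.IsLine u → P.IsLine v → u - v ∈ gammaFiltration P 2 → u = v := by
  constructor
  · intro x hx
    have hx0 := aug_eq_zero_of_mem_gammaFiltration_one P hK hx
    obtain ⟨e, f, he, hf, rfl⟩ := P.exists_sub x
    have haug : P.aug e = P.aug f := by
      rw [map_sub] at hx0
      exact sub_eq_zero.1 hx0
    have hdl : ∀ g : K, g ∈ P.pos → P.IsLine (LambdaOps.lam (P.aug g).toNat g) := by
      intro g hg
      refine ⟨hdet g hg, ?_⟩
      rw [aug_lam_of_pos P hK hg, Nat.choose_self]
      rfl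
    obtain ⟨w', hw', hfw⟩ := hLinv _ (hdl f hf)
    set de := LambdaOps.lam (P.aug e).toNat e with hde
    set df := LambdaOps.lam (P.aug f).toNat f with hdf
    refine ⟨de * w', isLine_mul P (hdl e he) hw', ?_⟩
    have h1 := lam_top_sub_mem P he
    have h2 := lam_top_sub_mem P hf
    rw [← hde] at h1
    rw [← hdf, ← haug] at h2
    have hu1 : de * w' - 1 ∈ gammaFiltration P 1 :=
      mem_gammaFiltration_one P (by
        rw [map_sub, map_one, (isLine_mul P (hdl e he) hw').2, sub_self])
    have hd1 : df - 1 ∈ gammaFiltration P 1 :=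
      mem_gammaFiltration_one P (by rw [map_sub, map_one, (hdl f hf).2, sub_self])
    have h3 := mul_mem_gammaFiltration P hu1 hd1
    have key : e - f - (de * w' - 1) =
        -(de - 1 - (e - ((P.aug e).toNat : K))) + (df - 1 - (f - ((P.aug e).toNat : K))) +
          (de * w' - 1) * (df - 1) := by
      have : de * w' * df = de := by rw [mul_assoc, mul_comm w', hfw, mul_one]
      linear_combination (-1 : K) * this
    rw [key]
    exact add_mem (add_mem (neg_mem h1) h2) h3
  · intro u v hu hv huv
    have h1 := detU_eq_one_of_mem_gammaFiltration_two P hK huv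
    rw [detU_sub, mul_inv_eq_one] at h1
    have h2 := congrArg Units.val h1
    rwa [detU_line P hu, detU_line P hv] at h2

end S3781

end Groth.Agent.Helper3.SplitLib
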