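import Mathlib

/-!
# Kummer coverings: maximal level and reducedness of the normalization (helper library for S14692)
-/

namespace Groth.Agent.Lib.Helper3.Kummer1

open Polynomial Finset

/-- arithmetic gap: `p^(s+c+1) ≤ p^s + (c+1)(p-1)p^(s+c)` with `p = q+1`. -/
lemma gap (q : ℕ) : ∀ (c s : ℕ),
    (q + 1) ^ (s + c + 1) ≤ (q + 1) ^ s + (c + 1) * q * (q + 1) ^ (s + c)
  | 0, s => by
      have : (q + 1) ^ (s + 0 + 1) = (q + 1) ^ s + (0 + 1) * q * (q + 1) ^ (s + 0) := by ring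
      exact this.le
  | c + 1, s => by
      have ih := gap q c s
      have h2 : (q + 1) ^ (s + c) ≤ (q + 1) ^ (s + c + 1) :=
        Nat.pow_le_pow_right (by omega) (by omega)
      have h1 : (q + 1) ^ (s + (c + 1) + 1) =
          (q + 1) ^ (s + c + 1) + q * (q + 1) ^ (s + c + 1) := by ring
      have h3 : (q + 1) ^ (s + (c + 1)) = (q + 1) ^ (s + c + 1) := rfl
      rw [h1, h3]
      have h4 : (c + 1) * q * (q + 1) ^ (s + c) ≤ (c + 1) * q * (q + 1) ^ (s + c + 1) :=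
        Nat.mul_le_mul_left _ h2
      nlinarith [ih, h4]

lemma pi_dvd_choose {R : Type*} [CommRing R] (ϖ : R) (p n' j : ℕ) (hp : p.Prime)
    (hj : ϖ ^ (p ^ n' * (p - 1) * (j + 1)) ∣ ((p : ℕ) : R)) (i k : ℕ) (hi : 0 < i) (hk : 0 < k)
    (hik : i + k = p ^ (n' + 1)) :
    ϖ ^ ((j + 1) * k) ∣ (((p ^ (n' + 1)).choose i : ℕ) : R) := by
  obtain ⟨q, rfl⟩ : ∃ q, p = q + 1 := ⟨p - 1, by have := hp.pos; omega⟩
  have hile : i ≤ (q + 1) ^ (n' + 1) := by omega
  have hfac := Nat.factorization_choose_prime_pow_add_factorization hp hile hi.ne'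
  have h1 : (q + 1) ^ (((q + 1) ^ (n' + 1)).choose i).factorization (q + 1) ∣
      ((q + 1) ^ (n' + 1)).choose i := Nat.ordProj_dvd _ _
  have h2 : (q + 1) ^ (i.factorization (q + 1)) ≤ i := Nat.le_of_dvd hi (Nat.ordProj_dvd _ _)
  generalize (((q + 1) ^ (n' + 1)).choose i).factorization (q + 1) = c at hfac h1
  generalize i.factorization (q + 1) = s at hfac h2
  rcases Nat.eq_zero_or_pos c with hc0 | hcpos
  · exfalso
    have : s = n' + 1 := by omega
    rw [this] at h2; omega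
  obtain ⟨c', hc'⟩ : ∃ c', c = c' + 1 := ⟨c - 1, by omega⟩
  have hg := gap q c' s
  have hsn : s + c' = n' := by omega
  rw [hsn] at hg
  have hk' : k ≤ (c' + 1) * q * (q + 1) ^ n' := by linarith
  have hexp : (j + 1) * k ≤ ((q + 1) ^ n' * (q + 1 - 1) * (j + 1)) * c := by
    rw [hc', Nat.add_sub_cancel]
    calc (j + 1) * k ≤ (j + 1) * ((c' + 1) * q * (q + 1) ^ n') := Nat.mul_le_mul_left _ hk'
      _ = _ := by ring
  calc ϖ ^ ((j + 1) * k) ∣ ϖ ^ (((q + 1) ^ n' * (q + 1 - 1) * (j + 1)) * c) := pow_dvd_pow _ hexp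
    _ = (ϖ ^ ((q + 1) ^ n' * (q + 1 - 1) * (j + 1))) ^ c := by rw [pow_mul]
    _ ∣ (((q + 1 : ℕ) : R)) ^ c := pow_dvd_pow_of_dvd hj c
    _ ∣ _ := by
        rw [← Nat.cast_pow]; exact Nat.cast_dvd_cast h1

lemma bin {S : Type*} [CommRing S] (ϖ : S) (ρ : ℕ → S) (j N' : ℕ)
    (hρ : ∀ i k, 0 < i → 0 < k → i + k = N' + 1 →
      (((N' + 1).choose i : ℕ) : S) = ϖ ^ ((j + 1) * k) * ρ i)
    (t : S) :
    (1 + ϖ ^ j * t) ^ (N' + 1) = 1 + ϖ ^ (j * (N' + 1)) *
        (t ^ (N' + 1) + ϖ * ∑ m ∈ range N', ϖ ^ (N' - 1 - m) * ρ (m + 1) * t ^ (m + 1)) ∧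
    (1 + ϖ ^ (j + 1) * t) ^ (N' + 1) = 1 + ϖ ^ ((j + 1) * (N' + 1)) *
        (t ^ (N' + 1) + ∑ m ∈ range N', ρ (m + 1) * t ^ (m + 1)) := by
  have expand : ∀ a : S, (1 + a * t) ^ (N' + 1) = 1 + (a * t) ^ (N' + 1) +
      ∑ m ∈ range N', (a * t) ^ (m + 1) * (((N' + 1).choose (m + 1) : ℕ) : S) := by
    intro a
    rw [add_comm 1 (a * t), add_pow, Finset.sum_range_succ, Finset.sum_range_succ']
    simp only [one_pow, mul_one, pow_zero, Nat.choose_zero_right, Nat.choose_self, Nat.cast_one,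
      one_mul]
    ring
  constructor
  · have hsum : ∑ m ∈ range N', (ϖ ^ j * t) ^ (m + 1) * (((N' + 1).choose (m + 1) : ℕ) : S) =
        ϖ ^ (j * (N' + 1)) *
          (ϖ * ∑ m ∈ range N', ϖ ^ (N' - 1 - m) * ρ (m + 1) * t ^ (m + 1)) := by
      rw [Finset.mul_sum, Finset.mul_sum]
      refine Finset.sum_congr rfl (fun m hm => ?_)
      obtain ⟨k', hk'⟩ := Nat.exists_eq_add_of_lt (Finset.mem_range.mp hm)
      rw [hρ (m + 1) (k' + 1) (by omega) (by omega) (by omega)]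
      have e1 : N' - 1 - m = k' := by omega
      rw [e1, hk']
      ring
    rw [expand, hsum]; ring
  · have hsum : ∑ m ∈ range N', (ϖ ^ (j + 1) * t) ^ (m + 1) *
          (((N' + 1).choose (m + 1) : ℕ) : S) =
        ϖ ^ ((j + 1) * (N' + 1)) * ∑ m ∈ range N', ρ (m + 1) * t ^ (m + 1) := by
      rw [Finset.mul_sum]
      refine Finset.sum_congr rfl (fun m hm => ?_)
      obtain ⟨k', hk'⟩ := Nat.exists_eq_add_of_lt (Finset.mem_range.mp hm)
      rw [hρ (m + 1) (k' + 1) (by omega) (by omega) (by omega), hk']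
      ring
    rw [expand, hsum]; ring

lemma locint {A : Type*} [CommRing A] [IsDomain A] [IsIntegrallyClosed A] (ϖ : A) (hϖ : ϖ ≠ 0)
    (Aϖ : Type*) [CommRing Aϖ] [Algebra A Aϖ] [IsLocalization.Away ϖ Aϖ] (x : Aϖ)
    (hx : IsIntegral A x) : ∃ c : A, algebraMap A Aϖ c = x := by
  have hle : Submonoid.powers ϖ ≤ nonZeroDivisors A :=
    powers_le_nonZeroDivisors_of_noZeroDivisors hϖ
  have hinjA : Function.Injective (algebraMap A Aϖ) := IsLocalization.injective Aϖ hle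
  have hu : IsUnit (algebraMap A (FractionRing A) ϖ) :=
    IsUnit.mk0 _ ((map_ne_zero_iff _ (IsFractionRing.injective A (FractionRing A))).mpr hϖ)
  let ψ0 : Aϖ →+* FractionRing A := IsLocalization.Away.lift ϖ hu
  let ψ : Aϖ →ₐ[A] FractionRing A :=
    { ψ0 with commutes' := fun r => IsLocalization.Away.lift_eq ϖ hu r }
  have hψinj : Function.Injective ψ0 := by
    rw [IsLocalization.injective_iff_map_algebraMap_eq (Submonoid.powers ϖ)]
    intro a b
    simp only [ψ0, IsLocalization.Away.lift_eq]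
    exact ⟨fun h => by rw [hinjA h],
      fun h => by rw [IsFractionRing.injective A (FractionRing A) h]⟩
  have hint : IsIntegral A (ψ x) := hx.map ψ
  obtain ⟨c, hc⟩ := IsIntegrallyClosed.algebraMap_eq_of_integral hint
  refine ⟨c, hψinj ?_⟩
  have h1 : ψ0 (algebraMap A Aϖ c) = algebraMap A (FractionRing A) c :=
    IsLocalization.Away.lift_eq ϖ hu c
  rw [h1, hc]
  rfl

lemma int_of_mul {A L : Type*} [CommRing A] [IsDomain A] [IsIntegrallyClosed A] [CommRing L]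
    [Algebra A L] (ϖ : A) (hϖ : ϖ ≠ 0) (Aϖ : Type*) [CommRing Aϖ] [Algebra A Aϖ] [Algebra Aϖ L]
    [IsScalarTower A Aϖ L] [IsLocalization.Away ϖ Aϖ]
    (hinj : Function.Injective (algebraMap Aϖ L))
    (a : A) (b : L) (hb : IsIntegral A b) (k : ℕ)
    (h : algebraMap A L a = (algebraMap A L ϖ) ^ k * b) :
    ∃ c : A, a = ϖ ^ k * c := by
  have hle : Submonoid.powers ϖ ≤ nonZeroDivisors A :=
    powers_le_nonZeroDivisors_of_noZeroDivisors hϖ
  have hinjA : Function.Injective (algebraMap A Aϖ) := IsLocalization.injective Aϖ hle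
  set v : Aϖ := IsLocalization.Away.invSelf ϖ with hv
  have hv1 : algebraMap A Aϖ ϖ * v = 1 := IsLocalization.Away.mul_invSelf ϖ
  set x : Aϖ := algebraMap A Aϖ a * v ^ k with hx
  have hxb : algebraMap Aϖ L x = b := by
    have h1 : algebraMap A L ϖ * algebraMap Aϖ L v = 1 := by
      rw [IsScalarTower.algebraMap_apply A Aϖ L, ← map_mul, hv1, map_one]
    rw [hx, map_mul, map_pow, ← IsScalarTower.algebraMap_apply A Aϖ L, h, mul_comm _ b,
      mul_assoc, ← mul_pow, h1, one_pow, mul_one]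
  have hxint : IsIntegral A x := by
    refine (isIntegral_algHom_iff (IsScalarTower.toAlgHom A Aϖ L) hinj).mp ?_
    rw [IsScalarTower.toAlgHom_apply, hxb]
    exact hb
  obtain ⟨c, hc⟩ := locint ϖ hϖ Aϖ x hxint
  refine ⟨c, hinjA ?_⟩
  rw [map_mul, map_pow, hc, hx, mul_left_comm, ← mul_pow, hv1, one_pow, mul_one]

end Groth.Agent.Lib.Helper3.Kummer1
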