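import Mathlib
import Groth.Agent.Lib.Helper3.Kummer1

/-!
# Kummer coverings: the key argument for S14692 in abstract form
-/

namespace Groth.Agent.Lib.Helper3.Kummer2

open Polynomial Finset Groth.Agent.Lib.Helper3.Kummer1

set_option maxHeartbeats 400000 in
theorem key {A L : Type*} [CommRing A] [IsDomain A] [IsIntegrallyClosed A] [CommRing L] [IsDomain L]
    [Algebra A L] (Aϖ : Type*) [CommRing Aϖ] [Algebra A Aϖ] [Algebra Aϖ L] [IsScalarTower A Aϖ L]
    (ϖ : A) [IsLocalization.Away ϖ Aϖ] (hinj : Function.Injective (algebraMap Aϖ L))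
    (ρ : ℕ → A) (p n' j N' : ℕ) (hp : p.Prime) (hN : p ^ (n' + 1) = N' + 1)
    (hρ : ∀ i k, 0 < i → 0 < k → i + k = N' + 1 →
      (((N' + 1).choose i : ℕ) : A) = ϖ ^ ((j + 1) * k) * ρ i)
    (hpϖ : ϖ ∣ ((p : ℕ) : A))
    (hlift : ∀ a : A, IsUnit (Ideal.Quotient.mk (Ideal.span {ϖ}) a) → IsUnit a)
    (f g : Aˣ) (f₀ : A) (hfg : (f : A) * (g : A) ^ (N' + 1) = 1 + ϖ ^ (j * (N' + 1)) * f₀)
    (hmax : ∀ (g' : Aˣ) (c : A),
      (f : A) * (g' : A) ^ (N' + 1) ≠ 1 + ϖ ^ ((j + 1) * (N' + 1)) * c)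
    (z : L) (hz : z ^ (N' + 1) = algebraMap A L f)
    (hred : (Ideal.span {algebraMap A (integralClosure A L) ϖ}).IsRadical) (g₀ : A) :
    f₀ - g₀ ^ (N' + 1) ∉ Ideal.span {ϖ} := by
  intro hmem
  obtain ⟨c₁, hc₁⟩ := Ideal.mem_span_singleton'.mp hmem
  obtain ⟨p', hp'⟩ := hpϖ
  have hϖL : IsUnit (algebraMap A L ϖ) := by
    rw [IsScalarTower.algebraMap_apply A Aϖ L]
    exact (IsLocalization.Away.algebraMap_isUnit ϖ).map _
  have hϖ0 : ϖ ≠ 0 := by
    rintro rfl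
    rw [map_zero] at hϖL
    exact not_isUnit_zero hϖL
  set ι := algebraMap A L with hι
  set B := integralClosure A L with hB
  have INT : ∀ (a : A) (b : B) (k : ℕ),
      algebraMap A B a = (algebraMap A B ϖ) ^ k * b → ∃ c : A, a = ϖ ^ k * c := by
    intro a b k h
    refine int_of_mul ϖ hϖ0 Aϖ hinj a (b : L) b.2 k ?_
    have := congrArg (Subtype.val) h
    simpa only [Subalgebra.coe_mul, Subalgebra.coe_pow, Subalgebra.coe_algebraMap] using this
  set w : L := z * ι g with hw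
  have hwN : w ^ (N' + 1) = ι (1 + ϖ ^ (j * (N' + 1)) * f₀) := by
    rw [hw, mul_pow, hz, ← map_pow, ← map_mul, hfg]
  obtain ⟨ϖi, hϖi⟩ := hϖL.exists_right_inv
  set y : L := (w - 1) * ϖi ^ j with hy
  have hwy : w = 1 + (ι ϖ) ^ j * y := by
    rw [hy, mul_left_comm, ← mul_pow, hϖi, one_pow, mul_one]; ring
  have hρL : ∀ i k, 0 < i → 0 < k → i + k = N' + 1 →
      (((N' + 1).choose i : ℕ) : L) = (ι ϖ) ^ ((j + 1) * k) * ι (ρ i) := by
    intro i k hi hk hik
    have := congrArg ι (hρ i k hi hk hik)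
    rwa [map_natCast, map_mul, map_pow] at this
  obtain ⟨hb1, -⟩ := bin (ι ϖ) (fun i => ι (ρ i)) j N' hρL y
  set Sy : L := ∑ m ∈ Finset.range N', (ι ϖ) ^ (N' - 1 - m) * ι (ρ (m + 1)) * y ^ (m + 1)
    with hSy
  have hy1 : y ^ (N' + 1) + ι ϖ * Sy = ι f₀ := by
    have h1 : (1 : L) + (ι ϖ) ^ (j * (N' + 1)) * (y ^ (N' + 1) + ι ϖ * Sy) =
        1 + (ι ϖ) ^ (j * (N' + 1)) * ι f₀ := by
      rw [← hb1, ← hwy, hwN, map_add, map_one, map_mul, map_pow]
    exact (hϖL.pow _).mul_left_cancel (add_left_cancel h1)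
  have hyint : IsIntegral A y := by
    let b : ℕ → A := fun m => ϖ * (ϖ ^ (N' - 1 - m) * ρ (m + 1))
    have hdeg : (∑ m ∈ Finset.range N', C (b m) * X ^ (m + 1) - C f₀ : A[X]).degree <
        ((N' + 1 : ℕ) : WithBot ℕ) := by
      refine (Polynomial.degree_sub_le _ _).trans_lt (max_lt ?_ ?_)
      · refine (Polynomial.degree_sum_le _ _).trans_lt ?_
        rw [Finset.sup_lt_iff (WithBot.bot_lt_coe _)]
        intro m hm
        refine (Polynomial.degree_C_mul_X_pow_le (m + 1) (b m)).trans_lt ?_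
        exact_mod_cast Nat.succ_lt_succ (Finset.mem_range.mp hm)
      · exact (Polynomial.degree_C_le).trans_lt (by exact_mod_cast Nat.succ_pos N')
    refine ⟨X ^ (N' + 1) + (∑ m ∈ Finset.range N', C (b m) * X ^ (m + 1) - C f₀),
      Polynomial.monic_X_pow_add hdeg, ?_⟩
    have hs : ∑ m ∈ Finset.range N', ι (b m) * y ^ (m + 1) = ι ϖ * Sy := by
      rw [hSy, Finset.mul_sum]
      refine Finset.sum_congr rfl (fun m _ => ?_)
      simp only [b, map_mul, map_pow]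
      ring
    simp only [Polynomial.eval₂_add, Polynomial.eval₂_sub, Polynomial.eval₂_finsetSum,
      Polynomial.eval₂_mul, Polynomial.eval₂_pow, Polynomial.eval₂_X, Polynomial.eval₂_C]
    rw [hs, ← hy1]
    ring
  let yB : B := ⟨y, hyint⟩
  have hSyB : Sy ∈ B := by
    rw [hSy]
    refine Subalgebra.sum_mem _ (fun m _ => ?_)
    exact mul_mem (mul_mem (pow_mem (Subalgebra.algebraMap_mem B ϖ) _)
      (Subalgebra.algebraMap_mem B _)) (pow_mem (show y ∈ B from hyint) _)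
  let SB : B := ⟨Sy, hSyB⟩
  set ϖB : B := algebraMap A B ϖ with hϖB
  have hyB : yB ^ (N' + 1) + ϖB * SB = algebraMap A B f₀ := by
    apply Subtype.ext
    simp only [Subalgebra.coe_add, Subalgebra.coe_mul, Subalgebra.coe_pow, hϖB,
      Subalgebra.coe_algebraMap]
    exact hy1
  have hc₁B : algebraMap A B c₁ * ϖB =
      algebraMap A B f₀ - (algebraMap A B g₀) ^ (N' + 1) := by
    rw [hϖB, ← map_mul, hc₁, map_sub, map_pow]
  have hpB : ((p : ℕ) : B) = ϖB * algebraMap A B p' := by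
    rw [hϖB, ← map_mul, ← hp', map_natCast]
  obtain ⟨r, hr⟩ := exists_add_pow_prime_pow_eq hp (yB - algebraMap A B g₀)
    (algebraMap A B g₀) (n' + 1)
  rw [sub_add_cancel, hN] at hr
  have hmemB : (yB - algebraMap A B g₀) ^ (N' + 1) ∈ Ideal.span {ϖB} := by
    rw [Ideal.mem_span_singleton']
    refine ⟨algebraMap A B c₁ - SB -
      algebraMap A B p' * (yB - algebraMap A B g₀) * algebraMap A B g₀ * r, ?_⟩
    linear_combination hr - hyB + hc₁B + (yB - algebraMap A B g₀) * algebraMap A B g₀ * r * hpB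
  have hy1mem : yB - algebraMap A B g₀ ∈ Ideal.span {ϖB} := hred ⟨N' + 1, hmemB⟩
  obtain ⟨y₁, hy₁⟩ := Ideal.mem_span_singleton'.mp hy1mem
  set u : A := 1 + ϖ ^ j * g₀ with hu
  set wB : B := 1 + ϖB ^ j * yB with hwB
  have hwBu : wB = algebraMap A B u + ϖB ^ (j + 1) * y₁ := by
    rw [hwB, hu, map_add, map_one, map_mul, map_pow]
    linear_combination (-(ϖB ^ j)) * hy₁
  have hwBN : wB ^ (N' + 1) = algebraMap A B ((f : A) * (g : A) ^ (N' + 1)) := by
    apply Subtype.ext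
    simp only [hwB, hϖB, Subalgebra.coe_pow, Subalgebra.coe_add, Subalgebra.coe_one,
      Subalgebra.coe_mul, Subalgebra.coe_algebraMap]
    rw [show ((yB : B) : L) = y from rfl, ← hwy, hwN, hfg]
  obtain ⟨e, he⟩ := sub_dvd_pow_sub_pow wB (algebraMap A B u) (N' + 1)
  obtain ⟨c₃, hc₃⟩ := INT ((f : A) * (g : A) ^ (N' + 1) - u ^ (N' + 1)) (ϖB ^ j * y₁ * e) 1 (by
    rw [map_sub, map_pow, ← hwBN, he, hwBu]; ring)
  have huunit : IsUnit u := by
    apply hlift
    have h1 : Ideal.Quotient.mk (Ideal.span {ϖ}) (u ^ (N' + 1)) =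
        Ideal.Quotient.mk (Ideal.span {ϖ}) ((f : A) * (g : A) ^ (N' + 1)) := by
      rw [eq_comm, Ideal.Quotient.eq, hc₃, pow_one]
      exact Ideal.mul_mem_right _ _ (Ideal.mem_span_singleton_self ϖ)
    have h2 : IsUnit (Ideal.Quotient.mk (Ideal.span {ϖ}) u ^ (N' + 1)) := by
      rw [← map_pow, h1]
      exact (f.isUnit.mul (g.isUnit.pow _)).map _
    exact (isUnit_pow_iff (Nat.succ_ne_zero N')).mp h2
  obtain ⟨uu, huu⟩ := huunit
  set g' : Aˣ := g * uu⁻¹ with hg'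
  set t : B := y₁ * algebraMap A B ((uu⁻¹ : Aˣ) : A) with ht
  have huinv : algebraMap A B u * algebraMap A B ((uu⁻¹ : Aˣ) : A) = 1 := by
    rw [← map_mul, ← huu, Units.mul_inv, map_one]
  have hρB : ∀ i k, 0 < i → 0 < k → i + k = N' + 1 →
      (((N' + 1).choose i : ℕ) : B) = ϖB ^ ((j + 1) * k) * algebraMap A B (ρ i) := by
    intro i k hi hk hik
    have := congrArg (algebraMap A B) (hρ i k hi hk hik)
    rwa [map_natCast, map_mul, map_pow] at this
  obtain ⟨-, hb2⟩ := bin ϖB (fun i => algebraMap A B (ρ i)) j N' hρB t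
  set bb : B := t ^ (N' + 1) + ∑ m ∈ Finset.range N', algebraMap A B (ρ (m + 1)) * t ^ (m + 1)
    with hbb
  have hfin : algebraMap A B ((f : A) * ((g' : Aˣ) : A) ^ (N' + 1) - 1) =
      ϖB ^ ((j + 1) * (N' + 1)) * bb := by
    have h1 : wB * algebraMap A B ((uu⁻¹ : Aˣ) : A) = 1 + ϖB ^ (j + 1) * t := by
      rw [hwBu, ht]; linear_combination huinv
    have h2 : algebraMap A B ((f : A) * ((g' : Aˣ) : A) ^ (N' + 1)) =
        (wB * algebraMap A B ((uu⁻¹ : Aˣ) : A)) ^ (N' + 1) := by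
      have e1 : ((g' : Aˣ) : A) = (g : A) * ((uu⁻¹ : Aˣ) : A) := by rw [hg', Units.val_mul]
      rw [e1, mul_pow wB, hwBN, ← map_pow, ← map_mul]
      congr 1; ring
    rw [map_sub, map_one, h2, h1, hb2]; ring
  obtain ⟨c, hc⟩ := INT _ bb _ hfin
  exact hmax g' c (by linear_combination hc)

end Groth.Agent.Lib.Helper3.Kummer2
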