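import Mathlib
import Groth.Prelude.Def_ega3
import Groth.Agent.Lib.Helper3.ExtKos

/-!
# The Koszul complex `K(xs; Y)` when `xs` kills `Y`: zero differentials, free terms
-/

set_option autoImplicit false
universe u
open CategoryTheory CategoryTheory.Limits CochainComplex CohIII

namespace Groth.Agent.Helper3.Kz1

open Groth.Agent.Helper3.ExtKos

variable {A : Type u} [CommRing A]

/-- the terms of `koszulCx Y xs` are finite direct sums of copies of `Y` -/
theorem koszulCx_X (Y : ModuleCat.{u} A) (xs : List A) :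
    ∀ n : ℤ, Nonempty ((koszulCx Y xs).X n ≃ₗ[A] (Fin (rk xs.length n) → Y)) := by
  induction xs with
  | nil =>
    intro n
    by_cases hn : n = 0
    · subst hn
      have h1 : rk ([] : List A).length 0 = 1 := by simp [rk]
      rw [h1]
      exact ⟨(HomologicalComplex.singleObjXSelf (ComplexShape.up ℤ) 0 Y).toLinearEquiv ≪≫ₗ
        (LinearEquiv.funUnique (Fin 1) A Y).symm⟩
    · have h1 : rk ([] : List A).length n = 0 := by
        unfold rk
        split_ifs with h
        · have : (-n).toNat ≠ 0 := by omega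
          simp [Nat.choose_eq_zero_iff, Nat.pos_of_ne_zero this]
        · rfl
      rw [h1]
      have hz : IsZero ((koszulCx Y ([] : List A)).X n) :=
        HomologicalComplex.isZero_single_obj_X _ _ _ _ hn
      haveI : Subsingleton ((koszulCx Y ([] : List A)).X n) :=
        ModuleCat.subsingleton_of_isZero hz
      exact ⟨LinearEquiv.ofSubsingleton _ _⟩
  | cons x xs ih =>
    intro n
    obtain ⟨e1⟩ := ih (n + 1)
    obtain ⟨e2⟩ := ih n
    have h1 : rk (x :: xs).length n = rk xs.length (n + 1) + rk xs.length n := by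
      rw [List.length_cons, rk_succ]
    rw [h1]
    refine ⟨coneXEquiv (x • 𝟙 (koszulCx Y xs)) n ≪≫ₗ (e1.prodCongr e2) ≪≫ₗ ?_⟩
    exact (LinearEquiv.sumArrowLequivProdArrow (Fin (rk xs.length (n + 1))) (Fin (rk xs.length n))
      A Y).symm ≪≫ₗ LinearEquiv.funCongrLeft A Y finSumFinEquiv.symm

/-- an element killing `Y` kills the terms of `koszulCx Y xs` -/
theorem smul_X_eq_zero (Y : ModuleCat.{u} A) (xs : List A) (a : A) (ha : ∀ y : Y, a • y = 0)
    (n : ℤ) (z : (koszulCx Y xs).X n) : a • z = 0 := by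
  obtain ⟨e⟩ := koszulCx_X Y xs n
  apply e.injective
  rw [map_smul, map_zero]
  ext j
  exact ha _

/-- if `xs` kills `Y`, all differentials of `koszulCx Y xs` vanish -/
theorem koszulCx_d_eq_zero (Y : ModuleCat.{u} A) (xs : List A)
    (hY : ∀ a ∈ xs, ∀ y : Y, a • y = 0) : ∀ n m : ℤ, (koszulCx Y xs).d n m = 0 := by
  induction xs with
  | nil =>
    intro n m
    exact HomologicalComplex.single_obj_d _ _ _ _ _
  | cons x xs ih =>
    intro n m
    have ih' := ih (fun a ha => hY a (List.mem_cons_of_mem x ha))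
    have hx : ∀ k : ℤ, (x • 𝟙 (koszulCx Y xs) : koszulCx Y xs ⟶ koszulCx Y xs).f k = 0 := by
      intro k
      ext z
      simp only [HomologicalComplex.smul_f_apply, HomologicalComplex.id_f]
      exact smul_X_eq_zero Y xs x (hY x List.mem_cons_self) k z
    by_cases hnm : n + 1 = m
    · subst hnm
      change (mappingCone (x • 𝟙 (koszulCx Y xs))).d n (n + 1) = 0
      apply mappingCone.ext_from _ (n + 1) n rfl
      · rw [comp_zero, mappingCone.inl_v_d _ (n + 1) n (n + 2) (by omega) (by omega), ih',
          zero_comp, hx, zero_comp, sub_zero]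
      · rw [comp_zero, mappingCone.inr_f_d, ih', zero_comp]
    · exact (koszulCx Y (x :: xs)).shape _ _ hnm

/-- if `xs` kills `Y`, the homology of `koszulCx Y xs` is a finite direct sum of copies of `Y` -/
theorem nonempty_homology_iso (Y : ModuleCat.{u} A) (xs : List A)
    (hY : ∀ a ∈ xs, ∀ y : Y, a • y = 0) (n : ℤ) :
    Nonempty ((koszulCx Y xs).homology n ≅ ModuleCat.of A (Fin (rk xs.length n) → Y)) := by
  obtain ⟨e⟩ := koszulCx_X Y xs n
  have hd := koszulCx_d_eq_zero Y xs hY
  have hf : ((koszulCx Y xs).sc n).f = 0 := hd _ _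
  have hg : ((koszulCx Y xs).sc n).g = 0 := hd _ _
  exact ⟨(ShortComplex.HomologyData.ofZeros ((koszulCx Y xs).sc n) hf hg).left.homologyIso ≪≫
    e.toModuleIso⟩

end Groth.Agent.Helper3.Kz1
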