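import Mathlib
import Groth.Prelude.Def_DRing2
import Groth.Prelude.Def_LCI2
import Groth.Prelude.Def_ega3
import Groth.Agent.Lib.Helper4.KosRes3
import Groth.Agent.Lib.Helper4.KosQuot2
import Groth.Agent.Lib.Helper9.KosLim.Top
import Groth.Agent.Lib.Helper3.Kz1
import Groth.Agent.Lib.Helper3.ExtP

/-!
# `Tor_i(A/(f,g), A/(f,h))` for `f,g`, `f,h`, `f,g,h` Koszul-regular: free over `A/(f,g,h)` of rank
`choose |f| i`
-/

set_option backward.isDefEq.respectTransparency.types false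
set_option synthInstance.maxHeartbeats 400000
set_option autoImplicit false
universe u
open CategoryTheory CategoryTheory.Limits CochainComplex CohIII

namespace Groth.Agent.Helper3.Kz2

open Groth.Agent.Helper1.TorL Groth.Agent.Lib.Helper4.KosRes2 Groth.Agent.Lib.Helper4.KosRes3
open Groth.Agent.Lib.Helper4.KosComp1 Groth.Agent.Lib.Helper4.KosQuot1
open Groth.Agent.Lib.Helper4.KosQuot2 Groth.Agent.Helper8.KoszulLib Groth.Agent.Helper9.KosLim
open Groth.Agent.Helper3.ExtKos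

variable {A : Type u} [CommRing A] (f g h : List A)

theorem isZero_homology_koszulCx_quot (hfh : LCI.IsKoszulRegularSeq A (f ++ h))
    (hfgh : LCI.IsKoszulRegularSeq A (f ++ g ++ h)) (q : ℤ) (hq : q ≠ 0) :
    IsZero ((koszulCx (ModuleCat.of A (A ⧸ Ideal.span {x | x ∈ f ++ h})) g).homology q) := by
  have hperm : (f ++ g ++ h).Perm (g ++ (f ++ h)) := by
    rw [← List.append_assoc]
    exact List.Perm.append_right h List.perm_append_comm
  have h1 := kr_of_perm hperm hfgh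
  have h2 := (koszul_append_iff_of_surjective (Ideal.Quotient.mk (Ideal.span {x | x ∈ f ++ h}))
    Ideal.Quotient.mk_surjective (f ++ h) hfh Ideal.mk_ker g).1 h1
  have h3 := isZero_homology_tensor_koszul A (A ⧸ Ideal.span {x | x ∈ f ++ h}) g h2 q hq
  exact h3.of_iso ((HomologicalComplex.homologyFunctor _ _ q).mapIso
    (tensorKoszulIso (ModuleCat.of A (A ⧸ Ideal.span {x | x ∈ f ++ h})) g)).symm

theorem exists_cyclic (hfg : LCI.IsKoszulRegularSeq A (f ++ g))
    (hfh : LCI.IsKoszulRegularSeq A (f ++ h))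
    (hfgh : LCI.IsKoszulRegularSeq A (f ++ g ++ h)) :
    ∃ 𝔠 : Ideal A, ∀ n : ℕ,
      Nonempty (T (n + 1) (ModuleCat.of A (A ⧸ Ideal.span {x | x ∈ f ++ g}))
          (ModuleCat.of A (A ⧸ Ideal.span {x | x ∈ f ++ h})) ≅
        ModuleCat.of A (Fin (f.length.choose (n + 1)) → A ⧸ 𝔠)) := by
  let N : ModuleCat.{u} A := ModuleCat.of A (A ⧸ Ideal.span {x | x ∈ f ++ h})
  have hK : ∀ i : ℤ, i ≠ 0 → IsZero ((koszulCx N g).homology i) :=
    isZero_homology_koszulCx_quot f g h hfh hfgh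
  obtain ⟨Y, K', φ, γ, hφ, hγ, ⟨eY⟩⟩ := exists_zigzag_single (koszulCx N g) hK
  obtain ⟨ψ1, hψ1⟩ := exists_kosOn_quasiIso φ hφ f
  obtain ⟨ψ2, hψ2⟩ := exists_kosOn_quasiIso γ hγ f
  have hN : ∀ a ∈ f, ∀ x : N, a • x = 0 := by
    intro a ha x
    obtain ⟨b, rfl⟩ := Ideal.Quotient.mk_surjective (I := Ideal.span {x | x ∈ f ++ h}) x
    change Ideal.Quotient.mk _ (a * b) = 0
    rw [Ideal.Quotient.eq_zero_iff_mem]
    exact Ideal.mul_mem_right _ _ (Ideal.subset_span (List.mem_append_left h ha))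
  have hH : ∀ a ∈ f, ∀ z : (koszulCx N g).homology 0, a • z = 0 := by
    intro a ha z
    obtain ⟨x, rfl⟩ := top_surjective N g z
    rw [← map_smul, hN a ha x, map_zero]
  have hY : ∀ a ∈ f, ∀ y : Y, a • y = 0 := by
    intro a ha y
    apply eY.toLinearEquiv.injective
    rw [map_smul, hH a ha, map_zero]
  let π : A →ₗ[A] Y := eY.symm.toLinearEquiv.toLinearMap ∘ₗ top N g ∘ₗ
    (Submodule.mkQ (Ideal.span {x | x ∈ f ++ h}))
  have hπ : Function.Surjective π :=
    eY.symm.toLinearEquiv.surjective.comp ((top_surjective N g).comp (Submodule.mkQ_surjective _))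
  let 𝔠 : Ideal A := LinearMap.ker π
  let eC : (A ⧸ 𝔠) ≃ₗ[A] Y := LinearMap.quotKerEquivOfSurjective π hπ
  refine ⟨𝔠, fun n => ?_⟩
  obtain ⟨e1⟩ := nonempty_tor_quotient_iso (f ++ g) hfg N n
  obtain ⟨e5⟩ := Kz1.nonempty_homology_iso Y f hY (-((n : ℤ) + 1))
  have hrk : rk f.length (-((n : ℤ) + 1)) = f.length.choose (n + 1) := by
    have := rk_neg f.length (n + 1)
    push_cast at this
    exact this
  rw [hrk] at e5
  exact ⟨e1 ≪≫ (HomologicalComplex.homologyFunctor _ _ _).mapIso (tensorKoszulIso N (f ++ g)) ≪≫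
    (HomologicalComplex.homologyFunctor _ _ _).mapIso (eqToIso (koszulCx_append N f g)) ≪≫
    (_root_.isoOfQuasiIsoAt ψ1 _).symm ≪≫ _root_.isoOfQuasiIsoAt ψ2 _ ≪≫
    (HomologicalComplex.homologyFunctor _ _ _).mapIso (eqToIso (kosOn_single Y f)) ≪≫ e5 ≪≫
    (LinearEquiv.piCongrRight (fun _ => eC.symm)).toModuleIso⟩

end Groth.Agent.Helper3.Kz2
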