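import Mathlib
import Groth.Agent.Lib.Helper4.LGRing3
import Groth.Agent.Lib.Helper8.AzFibre
import Groth.Agent.Lib.Lead.CSA5

/-!
# Azumaya algebras over LG rings: surjections between projective modules (helper3)

* `exists_surjective_of_families`: LG principle for finitely many `R`-linear maps.
* `exists_family`: `Hom_A(M, N)` is finitely generated over `R`.
* `exists_surjective_of_finrank_le`: modules over a simple finite-dimensional algebra.
* `exists_local_data`: local data at a maximal ideal for modules over an Azumaya algebra.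
* `exists_surjective_of_rank_le`, `nonempty_linearEquiv_of_rank_eq`: the main results.
-/

set_option autoImplicit false
set_option linter.unusedSectionVars false
set_option linter.style.haveILetI false
set_option linter.unusedSimpArgs false

universe u v w w₁ w₂

namespace Groth.Agent.Helper3.LGAz

open LGRing Groth.Agent.Lib.Helper4.LGRing1 Groth.Agent.Lib.Helper4.LGRing3
open scoped TensorProduct

section Families

variable {R : Type u} [CommRing R] {M₁ : Type v} {M₂ : Type w}
  [AddCommGroup M₁] [Module R M₁] [AddCommGroup M₂] [Module R M₂] {p q b : ℕ}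

/-- the polynomial matrix -/
noncomputable def polyMat (C : Fin p → Fin q → Matrix (Fin b) (Fin b) R)
    (D : Matrix (Fin b) (Fin b) R) :
    Matrix (Fin b) (Fin b) (MvPolynomial (Fin p ⊕ Fin q) R) :=
  Matrix.of fun a c => (∑ i, ∑ j, MvPolynomial.X (Sum.inl i) * MvPolynomial.X (Sum.inr j) *
    MvPolynomial.C (C i j a c)) + MvPolynomial.C (D a c)

lemma eval_polyMat (C : Fin p → Fin q → Matrix (Fin b) (Fin b) R) (D : Matrix (Fin b) (Fin b) R)
    (s : Fin p ⊕ Fin q → R) :
    (MvPolynomial.eval s).mapMatrix (polyMat C D) =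
      Matrix.of fun a c => (∑ i, ∑ j, s (Sum.inl i) * s (Sum.inr j) * C i j a c) + D a c := by
  ext a c
  simp [polyMat, map_sum]

lemma toMatrix_testEnd (f₂ : (Fin b → R) →ₗ[R] M₂) (g₂ : M₂ →ₗ[R] (Fin b → R))
    (h : Fin p → (M₁ →ₗ[R] M₂)) (k : Fin q → (M₂ →ₗ[R] M₁)) (s : Fin p → R) (t : Fin q → R) :
    LinearMap.toMatrix' (testEnd f₂ g₂ (∑ i, s i • h i) (∑ j, t j • k j)) =
      Matrix.of fun a c => (∑ i, ∑ j, s i * t j *
        LinearMap.toMatrix' (g₂ ∘ₗ h i ∘ₗ k j ∘ₗ f₂) a c) +
        (1 - LinearMap.toMatrix' (g₂ ∘ₗ f₂)) a c := by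
  classical
  ext a c
  simp only [LinearMap.toMatrix'_apply, Matrix.of_apply, Matrix.sub_apply, Matrix.one_apply,
    testEnd, LinearMap.add_apply, LinearMap.sub_apply, LinearMap.comp_apply, LinearMap.id_apply,
    LinearMap.sum_apply, LinearMap.smul_apply, map_sum, map_smul, Finset.smul_sum, smul_smul,
    Pi.add_apply, Pi.sub_apply, Finset.sum_apply, Pi.smul_apply, smul_eq_mul, Pi.single_apply]
  rw [Finset.sum_comm]
  congr 1
  refine Finset.sum_congr rfl fun i _ => Finset.sum_congr rfl fun j _ => ?_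
  rw [mul_comm (t j) (s i)]

theorem exists_poly (f₂ : (Fin b → R) →ₗ[R] M₂) (g₂ : M₂ →ₗ[R] (Fin b → R))
    (h : Fin p → (M₁ →ₗ[R] M₂)) (k : Fin q → (M₂ →ₗ[R] M₁)) :
    ∃ P : MvPolynomial (Fin p ⊕ Fin q) R, ∀ s : Fin p ⊕ Fin q → R,
      MvPolynomial.aeval s P = LinearMap.det (testEnd f₂ g₂
        (∑ i, s (Sum.inl i) • h i) (∑ j, s (Sum.inr j) • k j)) := by
  classical
  refine ⟨(polyMat (fun i j => LinearMap.toMatrix' (g₂ ∘ₗ h i ∘ₗ k j ∘ₗ f₂))
    (1 - LinearMap.toMatrix' (g₂ ∘ₗ f₂))).det, fun s => ?_⟩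
  rw [MvPolynomial.aeval_eq_eval, RingHom.map_det, eval_polyMat, ← LinearMap.det_toMatrix',
    toMatrix_testEnd]

/-- LG principle for finitely many linear maps: if at every maximal ideal some combinations
`φ = ∑ aᵢ hᵢ`, `ψ = ∑ cⱼ kⱼ` satisfy `φ ψ ≡ id` mod `m`, then some combination of the `hᵢ` is
surjective. -/
theorem exists_surjective_of_families (hR : IsLGRing R) [Module.Finite R M₂]
    [Module.Projective R M₂] (h : Fin p → (M₁ →ₗ[R] M₂)) (k : Fin q → (M₂ →ₗ[R] M₁))
    (hloc : ∀ (m : Ideal R) [m.IsMaximal], ∃ (a : Fin p → R) (c : Fin q → R),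
      ∀ y, (∑ i, a i • h i) ((∑ j, c j • k j) y) - y ∈ (m • ⊤ : Submodule R M₂)) :
    ∃ s : Fin p → R, Function.Surjective (∑ i, s i • h i : M₁ →ₗ[R] M₂) := by
  classical
  obtain ⟨bb, f₂, g₂, -, -, h₂⟩ := Module.Finite.exists_comp_eq_id_of_projective R M₂
  obtain ⟨P, hP⟩ := exists_poly f₂ g₂ h k
  obtain ⟨s, hs⟩ := lg_fintype hR P (fun m _ => by
    obtain ⟨a, c, hac⟩ := hloc m
    refine ⟨fun i => Ideal.Quotient.mkₐ R m (Sum.elim a c i), ?_⟩
    rw [← MvPolynomial.comp_aeval_apply, hP, Ideal.Quotient.mkₐ_eq_mk]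
    have := det_sub_one_mem m f₂ g₂ (∑ i, a i • h i) (∑ j, c j • k j) hac
    simp only [Sum.elim_inl, Sum.elim_inr]
    rw [this]
    exact isUnit_one)
  rw [hP] at hs
  exact ⟨fun i => s (Sum.inl i), surjective_of_isUnit_det f₂ g₂ h₂ _ _ hs⟩

end Families

section HomFinite

variable {R : Type u} [CommRing R] {A : Type v} [Ring A] [Algebra R A]
  (M : Type w₁) [AddCommGroup M] [Module A M] [Module R M] [IsScalarTower R A M]
  (N : Type w₂) [AddCommGroup N] [Module A N] [Module R N] [IsScalarTower R A N]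

theorem finite_hom [Module.Finite A M] [Module.Projective A M] [Module.Finite R N] :
    Module.Finite R (M →ₗ[A] N) := by
  obtain ⟨n, f, g, -, -, hfg⟩ := Module.Finite.exists_comp_eq_id_of_projective A M
  refine Module.Finite.of_surjective (LinearMap.lcomp R N g) (fun φ => ⟨φ ∘ₗ f, ?_⟩)
  rw [LinearMap.lcomp_apply', LinearMap.comp_assoc, hfg, LinearMap.comp_id]

theorem exists_family [Module.Finite A M] [Module.Projective A M] [Module.Finite R N] :
    ∃ (p : ℕ) (h : Fin p → (M →ₗ[A] N)), ∀ φ : M →ₗ[A] N,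
      ∃ a : Fin p → R, φ = ∑ i, a i • h i := by
  haveI := finite_hom (R := R) (A := A) M N
  obtain ⟨p, h, hh⟩ := Module.Finite.exists_fin (R := R) (M := M →ₗ[A] N)
  refine ⟨p, h, fun φ => ?_⟩
  have hφ : φ ∈ Submodule.span R (Set.range h) := by rw [hh]; trivial
  obtain ⟨a, ha⟩ := (Submodule.mem_span_range_iff_exists_fun R).mp hφ
  exact ⟨a, ha.symm⟩

end HomFinite

/-- projectivity is transitive along a projective algebra -/
theorem projective_of_tower (R : Type u) [CommRing R] (A : Type v) [Ring A] [Algebra R A]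
    [Module.Projective R A] (M : Type w) [AddCommGroup M] [Module A M] [Module R M]
    [IsScalarTower R A M] [Module.Projective A M] : Module.Projective R M := by
  classical
  obtain ⟨s, hs⟩ := Module.projective_def.mp (inferInstance : Module.Projective A M)
  haveI : Module.Projective R (M →₀ A) :=
    Module.Projective.of_equiv' (finsuppLequivDFinsupp R).symm
  exact Module.Projective.of_split (s.restrictScalars R)
    ((Finsupp.linearCombination A id).restrictScalars R) (LinearMap.ext fun x => hs x)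

section Fibre

/-- modules over a simple finite-dimensional algebra: a surjection exists as soon as the
dimensions allow it -/
theorem exists_surjective_of_finrank_le {κ : Type*} [Field κ] {B : Type*} [Ring B] [Algebra κ B]
    [IsSimpleRing B] [FiniteDimensional κ B]
    (V : Type*) (W : Type*) [AddCommGroup V] [Module B V] [Module κ V] [IsScalarTower κ B V]
    [FiniteDimensional κ V] [AddCommGroup W] [Module B W] [Module κ W] [IsScalarTower κ B W]
    [FiniteDimensional κ W] (h : Module.finrank κ W ≤ Module.finrank κ V) :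
    ∃ θ : V →ₗ[B] W, Function.Surjective θ := by
  haveI : IsArtinianRing B := IsArtinianRing.of_finite κ B
  obtain ⟨m, hm, S, hS, ⟨e⟩⟩ := (IsSimpleRing.isIsotypic B B).linearEquiv_fun
  haveI : Module.Finite B V := Module.Finite.of_restrictScalars_finite κ B V
  haveI : Module.Finite B W := Module.Finite.of_restrictScalars_finite κ B W
  obtain ⟨n₁, ⟨e₁⟩⟩ := (Groth.Agent.Lead.CSA.isIsotypicOfType_of_simple S V).linearEquiv_fun
  obtain ⟨n₂, ⟨e₂⟩⟩ := (Groth.Agent.Lead.CSA.isIsotypicOfType_of_simple S W).linearEquiv_fun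
  have h1 : Module.finrank κ V = n₁ * Module.finrank κ S := by
    rw [LinearEquiv.finrank_eq (e₁.restrictScalars κ), Module.finrank_pi_fintype]
    simp
  have h2 : Module.finrank κ W = n₂ * Module.finrank κ S := by
    rw [LinearEquiv.finrank_eq (e₂.restrictScalars κ), Module.finrank_pi_fintype]
    simp
  have hSpos : 0 < Module.finrank κ S := by
    haveI : Nontrivial S := IsSimpleModule.nontrivial B S
    exact Module.finrank_pos
  have hn : n₂ ≤ n₁ := by
    rw [h1, h2] at h
    exact Nat.le_of_mul_le_mul_right h hSpos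
  have h0 : Function.Surjective (LinearMap.funLeft B S (Fin.castLE hn)) :=
    LinearMap.funLeft_surjective_of_injective _ _ _ (Fin.castLE_injective hn)
  refine ⟨e₂.symm.toLinearMap ∘ₗ LinearMap.funLeft B S (Fin.castLE hn) ∘ₗ e₁.toLinearMap, ?_⟩
  intro w
  obtain ⟨x, hx⟩ := h0 (e₂ w)
  refine ⟨e₁.symm x, ?_⟩
  simp only [LinearMap.comp_apply, LinearEquiv.coe_coe, LinearEquiv.apply_symm_apply, hx,
    LinearEquiv.symm_apply_apply]

end Fibre

section LocalData

variable {R : Type u} [CommRing R] (A : Type v) [Ring A] [Algebra R A]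

/-- `m • M` as an `A`-submodule of `M`. -/
def smulTop (m : Ideal R) (M : Type w) [AddCommGroup M] [Module A M] [Module R M]
    [IsScalarTower R A M] : Submodule A M :=
  { (m • ⊤ : Submodule R M).toAddSubmonoid with
    smul_mem' := by
      intro a x hx
      have hx' : x ∈ (m • ⊤ : Submodule R M) := hx
      show a • x ∈ (m • ⊤ : Submodule R M)
      refine Submodule.smul_induction_on hx' (fun r hr y _ => ?_) (fun y z hy hz => ?_)
      · rw [smul_comm a r y]
        exact Submodule.smul_mem_smul hr Submodule.mem_top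
      · rw [smul_add]
        exact Submodule.add_mem _ hy hz }

variable (m : Ideal R) (M : Type w) [AddCommGroup M] [Module A M] [Module R M]
  [IsScalarTower R A M]

lemma mem_smulTop {x : M} : x ∈ smulTop A m M ↔ x ∈ (m • ⊤ : Submodule R M) := Iff.rfl

/-- the fibre `M / mM` as an `A`-module -/
abbrev Fib : Type w := M ⧸ smulTop A m M

lemma isTorsionBySet_fib : Module.IsTorsionBySet R (Fib A m M) (m : Set R) := by
  intro x a
  obtain ⟨y, rfl⟩ := Submodule.Quotient.mk_surjective _ x
  rw [← Submodule.Quotient.mk_smul, Submodule.Quotient.mk_eq_zero]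
  exact (mem_smulTop A m M).mpr (Submodule.smul_mem_smul a.2 Submodule.mem_top)

noncomputable scoped instance fibModule : Module (R ⧸ m) (Fib A m M) :=
  (isTorsionBySet_fib A m M).module

lemma mk_smul_fib (r : R) (x : Fib A m M) : (Ideal.Quotient.mk m r) • x = r • x := rfl

scoped instance fibTower : IsScalarTower R (R ⧸ m) (Fib A m M) :=
  Module.IsTorsionBySet.isScalarTower (isTorsionBySet_fib A m M)

scoped instance fibComm : SMulCommClass (R ⧸ m) A (Fib A m M) :=
  ⟨fun c a x => by
    obtain ⟨r, rfl⟩ := Ideal.Quotient.mk_surjective c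
    rw [mk_smul_fib, mk_smul_fib]
    exact smul_comm r a x⟩

noncomputable scoped instance fibTensorModule : Module ((R ⧸ m) ⊗[R] A) (Fib A m M) :=
  TensorProduct.Algebra.module

lemma tmul_smul_fib (c : R ⧸ m) (a : A) (x : Fib A m M) :
    (c ⊗ₜ[R] a) • x = c • a • x := rfl

scoped instance fibTensorTower : IsScalarTower (R ⧸ m) ((R ⧸ m) ⊗[R] A) (Fib A m M) :=
  ⟨fun c b x => by
    induction b using TensorProduct.induction_on with
    | zero =>
      have h0 : (0 : (R ⧸ m) ⊗[R] A) • x = 0 := zero_smul ((R ⧸ m) ⊗[R] A) x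
      rw [smul_zero, h0, smul_zero]
    | tmul k a =>
      rw [TensorProduct.smul_tmul', tmul_smul_fib, tmul_smul_fib, smul_eq_mul, mul_smul]
    | add b₁ b₂ h₁ h₂ => rw [smul_add, add_smul, add_smul, smul_add, h₁, h₂]⟩

lemma finrank_fib [hm : m.IsMaximal] [Module.Finite R M] [Module.Flat R M] :
    Module.finrank (R ⧸ m) (Fib A m M) = Module.rankAtStalk M ⟨m, hm.isPrime⟩ := by
  rw [← finrank_quot_eq_rankAtStalk m M]
  let f : (M ⧸ (m • ⊤ : Submodule R M)) →ₗ[R] Fib A m M :=
    Submodule.liftQ _ ((smulTop A m M).mkQ.restrictScalars R) (fun x hx => by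
      rw [LinearMap.mem_ker]
      exact (Submodule.Quotient.mk_eq_zero _).mpr ((mem_smulTop A m M).mpr hx))
  have hf : Function.Bijective f := by
    constructor
    · rw [← LinearMap.ker_eq_bot]
      apply Submodule.ker_liftQ_eq_bot
      intro x hx
      exact (mem_smulTop A m M).mp ((Submodule.Quotient.mk_eq_zero _).mp hx)
    · intro y
      obtain ⟨x, rfl⟩ := Submodule.Quotient.mk_surjective _ y
      exact ⟨Submodule.Quotient.mk x, rfl⟩
  exact ((LinearEquiv.ofBijective f hf).extendScalarsOfSurjective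
    Ideal.Quotient.mk_surjective).finrank_eq.symm

variable [IsAzumaya R A] [hm : m.IsMaximal]
  [Module.Finite A M] [Module.Projective A M]
  (N : Type w₂) [AddCommGroup N] [Module A N] [Module R N] [IsScalarTower R A N]
  [Module.Finite A N] [Module.Projective A N]

theorem exists_fibre_surjection
    (h : Module.rankAtStalk N ⟨m, hm.isPrime⟩ ≤ Module.rankAtStalk M ⟨m, hm.isPrime⟩) :
    ∃ θ : Fib A m M →ₗ[A] Fib A m N, Function.Surjective θ := by
  letI : Field (R ⧸ m) := Ideal.Quotient.field m
  haveI : Module.Finite R M := Module.Finite.trans A M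
  haveI : Module.Finite R N := Module.Finite.trans A N
  haveI : Module.Projective R M := projective_of_tower R A M
  haveI : Module.Projective R N := projective_of_tower R A N
  haveI : IsSimpleRing ((R ⧸ m) ⊗[R] A) :=
    (Groth.Agent.Helper8.fibre_csa_of_isAzumaya R A (R ⧸ m)).2
  haveI : FiniteDimensional (R ⧸ m) (Fib A m M) :=
    Module.Finite.of_restrictScalars_finite R (R ⧸ m) _
  haveI : FiniteDimensional (R ⧸ m) (Fib A m N) :=
    Module.Finite.of_restrictScalars_finite R (R ⧸ m) _
  haveI : FiniteDimensional (R ⧸ m) ((R ⧸ m) ⊗[R] A) := inferInstance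
  have h' : Module.finrank (R ⧸ m) (Fib A m N) ≤ Module.finrank (R ⧸ m) (Fib A m M) := by
    rw [finrank_fib, finrank_fib]
    exact h
  obtain ⟨θ, hθ⟩ := exists_surjective_of_finrank_le (κ := R ⧸ m) (B := (R ⧸ m) ⊗[R] A)
    (Fib A m M) (Fib A m N) h'
  refine ⟨{ toFun := θ, map_add' := θ.map_add, map_smul' := fun a x => ?_ }, hθ⟩
  have e1 : a • x = ((1 : R ⧸ m) ⊗ₜ[R] a) • x := by rw [tmul_smul_fib, one_smul]
  have e2 : a • θ x = ((1 : R ⧸ m) ⊗ₜ[R] a) • θ x := by rw [tmul_smul_fib, one_smul]
  simp only [RingHom.id_apply]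
  rw [e1, e2, θ.map_smul]

theorem exists_local_data
    (h : Module.rankAtStalk N ⟨m, hm.isPrime⟩ ≤ Module.rankAtStalk M ⟨m, hm.isPrime⟩) :
    ∃ (φ : M →ₗ[A] N) (ψ : N →ₗ[A] M), ∀ y, φ (ψ y) - y ∈ (m • ⊤ : Submodule R N) := by
  obtain ⟨θ, hθ⟩ := exists_fibre_surjection A m M N h
  let πM : M →ₗ[A] Fib A m M := (smulTop A m M).mkQ
  let πN : N →ₗ[A] Fib A m N := (smulTop A m N).mkQ
  have hπN : Function.Surjective πN := Submodule.mkQ_surjective _
  have hθπ : Function.Surjective (θ ∘ₗ πM) := hθ.comp (Submodule.mkQ_surjective _)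
  obtain ⟨φ, hφ⟩ := Module.projective_lifting_property πN (θ ∘ₗ πM) hπN
  obtain ⟨ψ, hψ⟩ := Module.projective_lifting_property (θ ∘ₗ πM) πN hθπ
  refine ⟨φ, ψ, fun y => ?_⟩
  have h1 : πN (φ (ψ y)) = πN y := by
    have e1 := LinearMap.congr_fun hφ (ψ y)
    have e2 := LinearMap.congr_fun hψ y
    simp only [LinearMap.comp_apply] at e1 e2
    rw [e1, e2]
  have h2 : φ (ψ y) - y ∈ smulTop A m N := by
    rw [← Submodule.Quotient.eq]
    exact h1
  exact (mem_smulTop A m N).mp h2

end LocalData

section Main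

variable {R : Type u} [CommRing R] (A : Type v) [Ring A] [Algebra R A] [IsAzumaya R A]
  (hR : IsLGRing R)
  (M : Type w₁) [AddCommGroup M] [Module A M] [Module R M] [IsScalarTower R A M]
  [Module.Finite A M] [Module.Projective A M]
  (N : Type w₂) [AddCommGroup N] [Module A N] [Module R N] [IsScalarTower R A N]
  [Module.Finite A N] [Module.Projective A N]

include hR in
/-- **Main theorem**: over an LG ring, for finitely generated projective modules `M`, `N` over an
Azumaya algebra, `N` is a quotient of `M` as soon as the `R`-ranks allow it. -/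
theorem exists_surjective_of_rank_le
    (h : ∀ (m : Ideal R) [hm : m.IsMaximal],
      Module.rankAtStalk N ⟨m, hm.isPrime⟩ ≤ Module.rankAtStalk M ⟨m, hm.isPrime⟩) :
    ∃ f : M →ₗ[A] N, Function.Surjective f := by
  haveI : Module.Finite R M := Module.Finite.trans A M
  haveI : Module.Finite R N := Module.Finite.trans A N
  haveI : Module.Projective R N := projective_of_tower R A N
  obtain ⟨p, hM, hMspan⟩ := exists_family (R := R) (A := A) M N
  obtain ⟨q, hN, hNspan⟩ := exists_family (R := R) (A := A) N M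
  obtain ⟨s, hs⟩ := exists_surjective_of_families hR
    (fun i => (hM i).restrictScalars R) (fun j => (hN j).restrictScalars R) (fun m hm => by
      obtain ⟨φ, ψ, hφψ⟩ := exists_local_data A m M N (h m)
      obtain ⟨a, ha⟩ := hMspan φ
      obtain ⟨c, hc⟩ := hNspan ψ
      refine ⟨a, c, fun y => ?_⟩
      have e : (∑ i, a i • (hM i).restrictScalars R) ((∑ j, c j • (hN j).restrictScalars R) y)
          = φ (ψ y) := by
        rw [ha, hc]
        simp only [LinearMap.sum_apply, LinearMap.smul_apply, LinearMap.restrictScalars_apply]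
      rw [e]
      exact hφψ y)
  refine ⟨∑ i, s i • hM i, fun y => ?_⟩
  obtain ⟨x, hx⟩ := hs y
  refine ⟨x, ?_⟩
  rw [← hx]
  simp only [LinearMap.sum_apply, LinearMap.smul_apply, LinearMap.restrictScalars_apply]

include hR in
/-- over an LG ring, finitely generated projective modules over an Azumaya algebra with the
same `R`-ranks are isomorphic. -/
theorem nonempty_linearEquiv_of_rank_eq
    (h : ∀ (m : Ideal R) [hm : m.IsMaximal],
      Module.rankAtStalk M ⟨m, hm.isPrime⟩ = Module.rankAtStalk N ⟨m, hm.isPrime⟩) :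
    Nonempty (M ≃ₗ[A] N) := by
  haveI : Module.Finite R M := Module.Finite.trans A M
  haveI : Module.Finite R N := Module.Finite.trans A N
  haveI : Module.Projective R M := projective_of_tower R A M
  haveI : Module.Projective R N := projective_of_tower R A N
  obtain ⟨f, hf⟩ := exists_surjective_of_rank_le A hR M N (fun m hm => (h m).ge)
  have hb : Function.Bijective (f.restrictScalars R) :=
    Module.bijective_of_surjective_of_rankAtStalk_eq (φ := f.restrictScalars R) hf
      (fun m hm => h m)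
  exact ⟨LinearEquiv.ofBijective f hb⟩

end Main

end Groth.Agent.Helper3.LGAz
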