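import Mathlib
import Groth.Agent.Lib.Helper3.LGAz1

/-!
# Indecomposable projective modules over an Azumaya algebra over a connected LG ring (helper3)
-/

set_option autoImplicit false
set_option linter.unusedSectionVars false
set_option linter.style.haveILetI false
set_option linter.unusedSimpArgs false

universe u v w

namespace Groth.Agent.Helper3.LGAz

open LGRing

/-- a surjection from an indecomposable module onto a non-zero projective module is bijective -/
theorem bijective_of_surjective_of_indecomposable {A : Type v} [Ring A] {P Q : Type w}
    [AddCommGroup P] [Module A P] [AddCommGroup Q] [Module A Q] [Module.Projective A Q]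
    [Nontrivial Q] (hP : ∀ e : Module.End A P, IsIdempotentElem e → e = 0 ∨ e = 1)
    (f : P →ₗ[A] Q) (hf : Function.Surjective f) : Function.Bijective f := by
  obtain ⟨s, hs⟩ := Module.projective_lifting_property f LinearMap.id hf
  have hs' : ∀ y, f (s y) = y := fun y => LinearMap.congr_fun hs y
  have hidem : IsIdempotentElem (s ∘ₗ f : Module.End A P) := by
    refine LinearMap.ext fun x => ?_
    rw [Module.End.mul_apply, LinearMap.comp_apply, LinearMap.comp_apply, hs']
  rcases hP _ hidem with h0 | h1
  · exfalso
    obtain ⟨y, hy⟩ := exists_ne (0 : Q)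
    apply hy
    obtain ⟨x, rfl⟩ := hf y
    have h2 := LinearMap.congr_fun h0 x
    rw [LinearMap.comp_apply, LinearMap.zero_apply] at h2
    rw [← hs' (f x), h2, map_zero]
  · refine ⟨fun x y hxy => ?_, hf⟩
    have hx := LinearMap.congr_fun h1 x
    have hy := LinearMap.congr_fun h1 y
    rw [LinearMap.comp_apply, Module.End.one_apply] at hx hy
    rw [← hx, ← hy, hxy]

/-- Over a connected LG ring, two indecomposable finitely generated projective modules over an
Azumaya algebra are isomorphic. -/
theorem nonempty_linearEquiv_of_indecomposable {R : Type u} [CommRing R]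
    (hR : IsLGRing R) [ConnectedSpace (PrimeSpectrum R)] {A : Type v} [Ring A] [Algebra R A]
    [IsAzumaya R A]
    (P Q : Type w) [AddCommGroup P] [Module A P] [Module.Finite A P] [Module.Projective A P]
    [Nontrivial P]
    [AddCommGroup Q] [Module A Q] [Module.Finite A Q] [Module.Projective A Q] [Nontrivial Q]
    (hP : ∀ e : Module.End A P, IsIdempotentElem e → e = 0 ∨ e = 1)
    (hQ : ∀ e : Module.End A Q, IsIdempotentElem e → e = 0 ∨ e = 1) : Nonempty (P ≃ₗ[A] Q) := by
  letI : Module R P := Module.compHom P (algebraMap R A)
  letI : Module R Q := Module.compHom Q (algebraMap R A)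
  haveI : IsScalarTower R A P := ⟨fun r a x => by
    change (r • a) • x = algebraMap R A r • a • x
    rw [Algebra.smul_def, mul_smul]⟩
  haveI : IsScalarTower R A Q := ⟨fun r a x => by
    change (r • a) • x = algebraMap R A r • a • x
    rw [Algebra.smul_def, mul_smul]⟩
  haveI : Module.Finite R P := Module.Finite.trans A P
  haveI : Module.Finite R Q := Module.Finite.trans A Q
  haveI : Module.Projective R P := projective_of_tower R A P
  haveI : Module.Projective R Q := projective_of_tower R A Q
  haveI : Module.FinitePresentation R P := Module.finitePresentation_of_projective R P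
  haveI : Module.FinitePresentation R Q := Module.finitePresentation_of_projective R Q
  have hcP : ∀ p q : PrimeSpectrum R, Module.rankAtStalk P p = Module.rankAtStalk P q :=
    (Module.isLocallyConstant_rankAtStalk (R := R) (M := P)).apply_eq_of_preconnectedSpace
  have hcQ : ∀ p q : PrimeSpectrum R, Module.rankAtStalk Q p = Module.rankAtStalk Q q :=
    (Module.isLocallyConstant_rankAtStalk (R := R) (M := Q)).apply_eq_of_preconnectedSpace
  obtain ⟨p₀⟩ : Nonempty (PrimeSpectrum R) := inferInstance
  rcases le_total (Module.rankAtStalk Q p₀) (Module.rankAtStalk P p₀) with hle | hle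
  · obtain ⟨f, hf⟩ := exists_surjective_of_rank_le A hR P Q (fun m hm => by
      rw [hcP _ p₀, hcQ _ p₀]; exact hle)
    exact ⟨LinearEquiv.ofBijective f (bijective_of_surjective_of_indecomposable hP f hf)⟩
  · obtain ⟨f, hf⟩ := exists_surjective_of_rank_le A hR Q P (fun m hm => by
      rw [hcP _ p₀, hcQ _ p₀]; exact hle)
    exact ⟨(LinearEquiv.ofBijective f (bijective_of_surjective_of_indecomposable hQ f hf)).symm⟩

end Groth.Agent.Helper3.LGAz
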