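import Mathlib
import Groth.Agent.Lib.Helper3.LGAz1
import Groth.Agent.Lib.Helper7.Azumaya.EndP
import Groth.Agent.Lib.Helper7.Azumaya.Tensor
import Groth.Agent.Lib.Helper7.Azumaya.BaseChange
import Groth.Agent.Lib.Helper2.Alg.RankOne

/-!
# Cancellation for Azumaya algebras over LG rings (helper3)

For an `R`-algebra `B` and a faithfully projective `R`-module `Q`, the module `B ⊗ Q` over
`B ⊗ End_R(Q)` is finitely generated projective with endomorphism ring `Bᵐᵒᵖ` (a piece of Morita
theory, done by hand and along an arbitrary isomorphism `ε : Λ ≃ B ⊗ End_R(Q)`).  Together with the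
classification of projective modules over Azumaya algebras over LG rings (`LGAz1`) this gives:
`A ⊗ End(P) ≃ B ⊗ End(Q)` and `rank A = rank B` imply `A ≃ B`.
-/

set_option autoImplicit false
set_option linter.unusedSectionVars false
set_option linter.style.haveILetI false
set_option linter.unusedSimpArgs false

universe u v w v' w' v''

namespace Groth.Agent.Helper3.LGAz

open LGRing MulOpposite
open scoped TensorProduct

section Action

variable {R : Type u} [CommRing R] {B : Type v} [Ring B] [Algebra R B] {Q : Type w}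
  [AddCommGroup Q] [Module R Q]

/-- the action of `B ⊗ End Q` on `B ⊗ Q` -/
noncomputable def rho : B ⊗[R] Module.End R Q →ₐ[R] Module.End R (B ⊗[R] Q) :=
  (Module.endTensorEndAlgHom (R := R) (S := R) (A := R) (M := B) (N := Q)).comp
    (Algebra.TensorProduct.map (Algebra.lmul R B) (AlgHom.id R (Module.End R Q)))

@[simp] lemma rho_tmul (b : B) (φ : Module.End R Q) (b' : B) (x : Q) :
    rho (b ⊗ₜ[R] φ) (b' ⊗ₜ[R] x) = (b * b') ⊗ₜ[R] φ x := by
  simp [rho, Module.endTensorEndAlgHom_apply]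

/-- rank one operators `y ↦ f y • x` -/
noncomputable def theta (f : Module.Dual R Q) : Q →ₗ[R] Module.End R Q :=
  (LinearMap.lcomp R Q f) ∘ₗ (LinearMap.lsmul R Q).flip

@[simp] lemma theta_apply (f : Module.Dual R Q) (x y : Q) : theta f x y = f y • x := rfl

lemma mul_theta (f : Module.Dual R Q) (φ : Module.End R Q) (x : Q) :
    φ * theta f x = theta f (φ x) := by
  ext y
  simp

/-- contraction `B ⊗ Q → B` against `f` -/
noncomputable def cmap (f : Module.Dual R Q) : B ⊗[R] Q →ₗ[R] B :=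
  (TensorProduct.rid R B).toLinearMap ∘ₗ LinearMap.lTensor B f

@[simp] lemma cmap_tmul (f : Module.Dual R Q) (b : B) (x : Q) :
    cmap f (b ⊗ₜ[R] x) = f x • b := by
  simp [cmap]

/-- `id ⊗ theta f` -/
noncomputable def tmap (f : Module.Dual R Q) : B ⊗[R] Q →ₗ[R] B ⊗[R] Module.End R Q :=
  TensorProduct.map LinearMap.id (theta f)

@[simp] lemma tmap_tmul (f : Module.Dual R Q) (b : B) (x : Q) :
    tmap f (b ⊗ₜ[R] x) = b ⊗ₜ[R] theta f x := by
  simp [tmap]

/-- right multiplication on the first factor -/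
noncomputable def rm : B →ₗ[R] Module.End R (B ⊗[R] Q) :=
  (LinearMap.rTensorHom Q) ∘ₗ (LinearMap.mul R B).flip

@[simp] lemma rm_tmul (c b : B) (x : Q) : rm c (b ⊗ₜ[R] x) = (b * c) ⊗ₜ[R] x := by
  simp [rm]

lemma rm_one : rm (R := R) (Q := Q) (1 : B) = LinearMap.id := by
  refine TensorProduct.ext' fun b x => ?_
  simp

lemma rm_mul (c c' : B) : rm (R := R) (Q := Q) (c' * c) = rm c ∘ₗ rm c' := by
  refine TensorProduct.ext' fun b x => ?_
  simp [mul_assoc]

lemma rm_algebraMap (r : R) (z : B ⊗[R] Q) : rm (algebraMap R B r) z = r • z := by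
  induction z using TensorProduct.induction_on with
  | zero => simp
  | tmul b x =>
    rw [rm_tmul, ← Algebra.commutes, ← Algebra.smul_def, TensorProduct.smul_tmul']
  | add z₁ z₂ h₁ h₂ => rw [map_add, h₁, h₂, smul_add]

/-- (K1) -/
lemma rho_theta (f : Module.Dual R Q) (b' : B) (x : Q) (w : B ⊗[R] Q) :
    rho (b' ⊗ₜ[R] theta f x) w = (b' * cmap f w) ⊗ₜ[R] x := by
  induction w using TensorProduct.induction_on with
  | zero => simp
  | tmul b'' y =>
    rw [rho_tmul, theta_apply, cmap_tmul, mul_smul_comm, TensorProduct.tmul_smul,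
      TensorProduct.smul_tmul']
  | add w₁ w₂ h₁ h₂ => rw [map_add, h₁, h₂, map_add, mul_add, TensorProduct.add_tmul]

/-- (K2) -/
lemma tmap_rho (f : Module.Dual R Q) (μ : B ⊗[R] Module.End R Q) (z : B ⊗[R] Q) :
    tmap f (rho μ z) = μ * tmap f z := by
  induction μ using TensorProduct.induction_on with
  | zero => simp
  | tmul b φ =>
    induction z using TensorProduct.induction_on with
    | zero => simp
    | tmul b' x =>
      rw [rho_tmul, tmap_tmul, tmap_tmul, Algebra.TensorProduct.tmul_mul_tmul, mul_theta]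
    | add z₁ z₂ h₁ h₂ => rw [map_add, map_add, h₁, h₂, map_add, mul_add]
  | add μ₁ μ₂ h₁ h₂ => rw [map_add, LinearMap.add_apply, map_add, h₁, h₂, add_mul]

/-- (K4) -/
lemma rm_rho (c : B) (μ : B ⊗[R] Module.End R Q) (z : B ⊗[R] Q) :
    rm c (rho μ z) = rho μ (rm c z) := by
  induction μ using TensorProduct.induction_on with
  | zero => simp
  | tmul b φ =>
    induction z using TensorProduct.induction_on with
    | zero => simp
    | tmul b' x => rw [rho_tmul, rm_tmul, rm_tmul, rho_tmul, mul_assoc]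
    | add z₁ z₂ h₁ h₂ => rw [map_add, map_add, h₁, h₂, map_add, map_add]
  | add μ₁ μ₂ h₁ h₂ =>
    rw [map_add, LinearMap.add_apply, map_add, h₁, h₂, LinearMap.add_apply]

/-- (K3) -/
lemma sum_rho_tmap {n : ℕ} (f : Fin n → Module.Dual R Q) (x : Fin n → Q)
    (hfx : ∑ j, f j (x j) = 1) (z : B ⊗[R] Q) :
    ∑ j, rho (tmap (f j) z) ((1 : B) ⊗ₜ[R] x j) = z := by
  induction z using TensorProduct.induction_on with
  | zero => simp
  | tmul b' y =>
    simp only [tmap_tmul, rho_tmul, theta_apply, mul_one]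
    rw [← TensorProduct.tmul_sum, ← Finset.sum_smul, hfx, one_smul]
  | add z₁ z₂ h₁ h₂ =>
    simp only [map_add, LinearMap.add_apply, Finset.sum_add_distrib, h₁, h₂]

variable [Module.Finite R Q] [Module.Projective R Q] [FaithfulSMul R Q]

theorem exists_dual_data :
    ∃ (n : ℕ) (f : Fin n → Module.Dual R Q) (x : Fin n → Q), ∑ j, f j (x j) = 1 := by
  obtain ⟨z, hz⟩ := Groth.Agent.Helper7.Azumaya.exists_contractLeft_eq_one R Q
  obtain ⟨S, rfl⟩ := TensorProduct.exists_finset z
  refine ⟨S.card, fun j => (S.equivFin.symm j).1.1, fun j => (S.equivFin.symm j).1.2, ?_⟩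
  rw [map_sum] at hz
  simp only [contractLeft_apply] at hz
  rw [← hz]
  exact (Equiv.sum_comp S.equivFin.symm (fun i : ↥S => i.1.1 i.1.2)).trans
    (Finset.sum_coe_sort S (fun i => i.1 i.2))

end Action

section TMod

variable {R : Type u} [CommRing R] {B : Type v} [Ring B] [Algebra R B] {Q : Type w}
  [AddCommGroup Q] [Module R Q] {Λ : Type v'} [Ring Λ] [Algebra R Λ]

/-- `B ⊗ Q` as a module over `Λ` through `ε : Λ ≃ B ⊗ End Q` -/
@[nolint unusedArguments]
def TMod (_ε : Λ ≃ₐ[R] B ⊗[R] Module.End R Q) : Type (max v w) := B ⊗[R] Q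

namespace TMod

variable (ε : Λ ≃ₐ[R] B ⊗[R] Module.End R Q)

noncomputable instance : AddCommGroup (TMod ε) := inferInstanceAs (AddCommGroup (B ⊗[R] Q))
noncomputable instance : Module R (TMod ε) := inferInstanceAs (Module R (B ⊗[R] Q))

/-- the identity map -/
noncomputable def of : B ⊗[R] Q ≃ₗ[R] TMod ε := LinearEquiv.refl R (B ⊗[R] Q)

noncomputable instance : Module Λ (TMod ε) :=
  Module.compHom (B ⊗[R] Q)
    ((rho (R := R) (B := B) (Q := Q)).toRingHom.comp ε.toAlgHom.toRingHom)

lemma smul_of (l : Λ) (z : B ⊗[R] Q) : l • of ε z = of ε (rho (ε l) z) := rfl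

lemma of_surjective (z : TMod ε) : ∃ z' : B ⊗[R] Q, of ε z' = z := ⟨(of ε).symm z, rfl⟩

instance : IsScalarTower R Λ (TMod ε) := ⟨fun r l z => by
  obtain ⟨z', rfl⟩ := of_surjective ε z
  rw [smul_of, smul_of, map_smul, map_smul, LinearMap.smul_apply, map_smul]⟩

/-- the generators -/
noncomputable def gen (x : Q) : TMod ε := of ε ((1 : B) ⊗ₜ[R] x)

/-- the coordinate maps -/
noncomputable def iMap (f : Module.Dual R Q) : TMod ε →ₗ[Λ] Λ where
  toFun z := ε.symm (tmap f ((of ε).symm z))
  map_add' z₁ z₂ := by rw [map_add, map_add, map_add]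
  map_smul' l z := by
    obtain ⟨z', rfl⟩ := of_surjective ε z
    rw [smul_of, LinearEquiv.symm_apply_apply, LinearEquiv.symm_apply_apply, tmap_rho, map_mul,
      AlgEquiv.symm_apply_apply]
    rfl

lemma iMap_of (f : Module.Dual R Q) (z : B ⊗[R] Q) : iMap ε f (of ε z) = ε.symm (tmap f z) := rfl

lemma sum_iMap_smul_gen {n : ℕ} (f : Fin n → Module.Dual R Q) (x : Fin n → Q)
    (hfx : ∑ j, f j (x j) = 1) (z : TMod ε) :
    ∑ j, iMap ε (f j) z • gen ε (x j) = z := by
  obtain ⟨z', rfl⟩ := of_surjective ε z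
  simp only [iMap_of, gen, smul_of, AlgEquiv.apply_symm_apply]
  rw [← map_sum, sum_rho_tmap f x hfx]

variable [Module.Finite R Q] [Module.Projective R Q] [FaithfulSMul R Q]

theorem exists_split : ∃ (n : ℕ) (i : TMod ε →ₗ[Λ] (Fin n → Λ)) (s : (Fin n → Λ) →ₗ[Λ] TMod ε),
    s ∘ₗ i = LinearMap.id := by
  obtain ⟨n, f, x, hfx⟩ := exists_dual_data (R := R) (Q := Q)
  refine ⟨n, LinearMap.pi (fun j => iMap ε (f j)),
    Fintype.linearCombination Λ (fun j => gen ε (x j)), LinearMap.ext fun z => ?_⟩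
  rw [LinearMap.comp_apply, Fintype.linearCombination_apply, LinearMap.id_apply]
  simp only [LinearMap.pi_apply]
  exact sum_iMap_smul_gen ε f x hfx z

instance : Module.Projective Λ (TMod ε) := by
  obtain ⟨n, i, s, hsi⟩ := exists_split ε
  exact Module.Projective.of_split i s hsi

instance : Module.Finite Λ (TMod ε) := by
  obtain ⟨n, i, s, hsi⟩ := exists_split ε
  exact Module.Finite.of_surjective s (fun z => ⟨i z, LinearMap.congr_fun hsi z⟩)

omit [Module.Finite R Q] [Module.Projective R Q] [FaithfulSMul R Q] in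
/-- right multiplication as a `Λ`-linear endomorphism -/
noncomputable def rmΛ (c : B) : Module.End Λ (TMod ε) where
  toFun z := of ε (rm c ((of ε).symm z))
  map_add' z₁ z₂ := by rw [map_add, map_add, map_add]
  map_smul' l z := by
    obtain ⟨z', rfl⟩ := of_surjective ε z
    rw [smul_of, LinearEquiv.symm_apply_apply, LinearEquiv.symm_apply_apply, rm_rho]
    rfl

omit [Module.Finite R Q] [Module.Projective R Q] [FaithfulSMul R Q] in
lemma rmΛ_of (c : B) (z : B ⊗[R] Q) : rmΛ ε c (of ε z) = of ε (rm c z) := rfl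

omit [Module.Finite R Q] [Module.Projective R Q] [FaithfulSMul R Q] in
/-- right multiplications form an algebra map `Bᵐᵒᵖ → End_Λ(B ⊗ Q)` -/
noncomputable def rmul : Bᵐᵒᵖ →ₐ[R] Module.End Λ (TMod ε) where
  toFun b₀ := rmΛ ε b₀.unop
  map_one' := by
    refine LinearMap.ext fun z => ?_
    obtain ⟨z', rfl⟩ := of_surjective ε z
    rw [unop_one, rmΛ_of, rm_one]
    rfl
  map_mul' b₀ b₁ := by
    refine LinearMap.ext fun z => ?_
    obtain ⟨z', rfl⟩ := of_surjective ε z
    rw [unop_mul, Module.End.mul_apply, rmΛ_of, rmΛ_of, rmΛ_of, rm_mul]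
    rfl
  map_zero' := by
    refine LinearMap.ext fun z => ?_
    obtain ⟨z', rfl⟩ := of_surjective ε z
    rw [unop_zero, rmΛ_of, map_zero]
    rfl
  map_add' b₀ b₁ := by
    refine LinearMap.ext fun z => ?_
    obtain ⟨z', rfl⟩ := of_surjective ε z
    rw [unop_add, LinearMap.add_apply, rmΛ_of, rmΛ_of, rmΛ_of, map_add]
    rfl
  commutes' r := by
    refine LinearMap.ext fun z => ?_
    obtain ⟨z', rfl⟩ := of_surjective ε z
    rw [MulOpposite.algebraMap_apply, unop_op, rmΛ_of, rm_algebraMap, Module.algebraMap_end_apply,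
      map_smul]

omit [Module.Finite R Q] [Module.Projective R Q] [FaithfulSMul R Q] in
lemma rmul_apply_of (b₀ : Bᵐᵒᵖ) (z : B ⊗[R] Q) : rmul ε b₀ (of ε z) = of ε (rm b₀.unop z) := rfl

theorem rmul_bijective : Function.Bijective (rmul ε) := by
  obtain ⟨n, f, x, hfx⟩ := exists_dual_data (R := R) (Q := Q)
  -- recover the element from the endomorphism
  have hrec : ∀ c : B, ∑ j, cmap (f j) (rm c ((1 : B) ⊗ₜ[R] x j)) = c := by
    intro c
    simp only [rm_tmul, one_mul, cmap_tmul]
    rw [← Finset.sum_smul, hfx, one_smul]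
  constructor
  · intro b₀ b₁ h
    apply unop_injective
    rw [← hrec b₀.unop, ← hrec b₁.unop]
    refine Finset.sum_congr rfl fun j _ => ?_
    have h2 := LinearMap.congr_fun h (gen ε (x j))
    rw [gen, rmul_apply_of, rmul_apply_of] at h2
    rw [(of ε).injective h2]
  · intro g
    let c : B := ∑ j, cmap (f j) ((of ε).symm (g (gen ε (x j))))
    refine ⟨op c, LinearMap.ext fun z => ?_⟩
    obtain ⟨z', rfl⟩ := of_surjective ε z
    rw [rmul_apply_of, unop_op]
    induction z' using TensorProduct.induction_on with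
    | zero => simp
    | tmul b' y =>
      have h1 : of ε (b' ⊗ₜ[R] y) = ∑ j, (ε.symm (b' ⊗ₜ[R] theta (f j) y)) • gen ε (x j) := by
        have := sum_iMap_smul_gen ε f x hfx (of ε (b' ⊗ₜ[R] y))
        simp only [iMap_of, tmap_tmul] at this
        exact this.symm
      have h2 : ∀ j, (ε.symm (b' ⊗ₜ[R] theta (f j) y)) • g (gen ε (x j)) =
          of ε ((b' * cmap (f j) ((of ε).symm (g (gen ε (x j))))) ⊗ₜ[R] y) := by
        intro j
        obtain ⟨w, hw⟩ := of_surjective ε (g (gen ε (x j)))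
        rw [← hw, smul_of, AlgEquiv.apply_symm_apply, rho_theta, LinearEquiv.symm_apply_apply]
      rw [rm_tmul]
      conv_rhs => rw [h1]
      rw [map_sum]
      simp only [map_smul, h2]
      rw [← map_sum, ← TensorProduct.sum_tmul, ← Finset.mul_sum]
    | add z₁ z₂ h₁ h₂ => rw [map_add, map_add, h₁, h₂, map_add, map_add]

/-- the endomorphism algebra of `B ⊗ Q` over `Λ ≃ B ⊗ End Q` is `Bᵐᵒᵖ` -/
theorem nonempty_algEquiv_end : Nonempty (Bᵐᵒᵖ ≃ₐ[R] Module.End Λ (TMod ε)) :=
  ⟨AlgEquiv.ofBijective (rmul ε) (rmul_bijective ε)⟩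

omit [FaithfulSMul R Q] in
lemma rankAtStalk_eq [Module.Finite R B] [Module.Flat R B] (p : PrimeSpectrum R) :
    Module.rankAtStalk (TMod ε) p = Module.rankAtStalk B p * Module.rankAtStalk Q p := by
  change Module.rankAtStalk (B ⊗[R] Q) p = _
  rw [Module.rankAtStalk_tensorProduct]
  rfl

end TMod

end TMod

section Cancel

variable {R : Type u} [CommRing R]

lemma rankAtStalk_end (P : Type w) [AddCommGroup P] [Module R P] [Module.Finite R P]
    [Module.Projective R P] (p : PrimeSpectrum R) :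
    Module.rankAtStalk (Module.End R P) p = Module.rankAtStalk P p * Module.rankAtStalk P p := by
  have h1 := congrFun (Module.rankAtStalk_eq_of_equiv (M := Module.Dual R P ⊗[R] P)
    (N := Module.End R P) (dualTensorHomEquiv R P P)) p
  rw [← h1, Module.rankAtStalk_tensorProduct, Pi.mul_apply,
    Groth.Agent.Helper2.RankOne.rankAtStalk_dual]

lemma rankAtStalk_pos_of_faithful (P : Type w) [AddCommGroup P] [Module R P] [Module.Finite R P]
    [Module.Projective R P] [FaithfulSMul R P] (p : PrimeSpectrum R) :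
    0 < Module.rankAtStalk P p := by
  rw [Module.rankAtStalk_pos_iff_mem_support, Module.support_eq_zeroLocus,
    (Module.annihilator_eq_bot).mpr inferInstance]
  simp

/-- **Cancellation**: over an LG ring, Azumaya algebras `A`, `B` of the same rank with
`A ⊗ End(P) ≃ B ⊗ End(Q)` are isomorphic. -/
theorem nonempty_algEquiv_of_tensor_end (hR : IsLGRing R)
    (A : Type v) [Ring A] [Algebra R A] [IsAzumaya R A]
    (B : Type v') [Ring B] [Algebra R B] [IsAzumaya R B]
    (hdeg : ∀ p : PrimeSpectrum R, Module.rankAtStalk A p = Module.rankAtStalk B p)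
    (P : Type w) [AddCommGroup P] [Module R P] [Module.Finite R P] [Module.Projective R P]
    [FaithfulSMul R P]
    (Q : Type w') [AddCommGroup Q] [Module R Q] [Module.Finite R Q] [Module.Projective R Q]
    [FaithfulSMul R Q]
    (e : A ⊗[R] Module.End R P ≃ₐ[R] B ⊗[R] Module.End R Q) : Nonempty (A ≃ₐ[R] B) := by
  haveI : IsAzumaya R (Module.End R P) := Groth.Agent.Helper7.Azumaya.endP R P
  haveI : IsAzumaya R (A ⊗[R] Module.End R P) := Groth.Agent.Helper7.Azumaya.tensor R A _
  have hPQ : ∀ p : PrimeSpectrum R, Module.rankAtStalk P p = Module.rankAtStalk Q p := by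
    intro p
    have h1 := congrFun (Module.rankAtStalk_eq_of_equiv e.toLinearEquiv) p
    rw [Module.rankAtStalk_tensorProduct, Module.rankAtStalk_tensorProduct, Pi.mul_apply,
      Pi.mul_apply, rankAtStalk_end, rankAtStalk_end, hdeg p] at h1
    have hB : 0 < Module.rankAtStalk B p := rankAtStalk_pos_of_faithful (R := R) B p
    exact Nat.mul_self_inj.mp (Nat.eq_of_mul_eq_mul_left hB h1)
  let εA : (A ⊗[R] Module.End R P) ≃ₐ[R] A ⊗[R] Module.End R P := AlgEquiv.refl
  obtain ⟨Φ⟩ := nonempty_linearEquiv_of_rank_eq (A ⊗[R] Module.End R P) hR (TMod εA) (TMod e)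
    (fun m hm => by rw [TMod.rankAtStalk_eq, TMod.rankAtStalk_eq, hdeg, hPQ])
  obtain ⟨eA⟩ := TMod.nonempty_algEquiv_end εA
  obtain ⟨eB⟩ := TMod.nonempty_algEquiv_end e
  exact ⟨AlgEquiv.unop ((eA.trans (LinearEquiv.conjAlgEquiv R Φ)).trans eB.symm)⟩

end Cancel

end Groth.Agent.Helper3.LGAz
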