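import Mathlib
import Groth.Agent.Lib.Helper3.LGAz3

/-!
# Cancellation for Azumaya algebras over LG rings: matrix and tensor forms (helper3)
-/

set_option autoImplicit false
set_option linter.unusedSectionVars false
set_option linter.style.haveILetI false
set_option linter.unusedSimpArgs false

universe u v

namespace Groth.Agent.Helper3.LGAz

open LGRing MulOpposite
open scoped TensorProduct

variable {R : Type u} [CommRing R]

/-- `A ⊗ C ≃ B ⊗ C` with `C` Azumaya implies `A ≃ B` over an LG ring. -/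
theorem nonempty_algEquiv_of_tensor_cancel (hR : IsLGRing R)
    (A B C : Type v) [Ring A] [Algebra R A] [IsAzumaya R A] [Ring B] [Algebra R B]
    [IsAzumaya R B] [Ring C] [Algebra R C] [IsAzumaya R C]
    (e : A ⊗[R] C ≃ₐ[R] B ⊗[R] C) : Nonempty (A ≃ₐ[R] B) := by
  let μC : C ⊗[R] Cᵐᵒᵖ ≃ₐ[R] Module.End R C :=
    AlgEquiv.ofBijective (AlgHom.mulLeftRight R C) IsAzumaya.bij
  let e1 : A ⊗[R] Module.End R C ≃ₐ[R] A ⊗[R] (C ⊗[R] Cᵐᵒᵖ) :=
    Algebra.TensorProduct.congr AlgEquiv.refl μC.symm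
  let e2 : A ⊗[R] (C ⊗[R] Cᵐᵒᵖ) ≃ₐ[R] (A ⊗[R] C) ⊗[R] Cᵐᵒᵖ :=
    (Algebra.TensorProduct.assoc R R R A C Cᵐᵒᵖ).symm
  let e3 : (A ⊗[R] C) ⊗[R] Cᵐᵒᵖ ≃ₐ[R] (B ⊗[R] C) ⊗[R] Cᵐᵒᵖ :=
    Algebra.TensorProduct.congr e AlgEquiv.refl
  let e4 : (B ⊗[R] C) ⊗[R] Cᵐᵒᵖ ≃ₐ[R] B ⊗[R] (C ⊗[R] Cᵐᵒᵖ) :=
    Algebra.TensorProduct.assoc R R R B C Cᵐᵒᵖ
  let e5 : B ⊗[R] (C ⊗[R] Cᵐᵒᵖ) ≃ₐ[R] B ⊗[R] Module.End R C :=
    Algebra.TensorProduct.congr AlgEquiv.refl μC
  have hdeg : ∀ p : PrimeSpectrum R, Module.rankAtStalk A p = Module.rankAtStalk B p := by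
    intro p
    have h1 := congrFun (Module.rankAtStalk_eq_of_equiv e.toLinearEquiv) p
    rw [Module.rankAtStalk_tensorProduct, Module.rankAtStalk_tensorProduct, Pi.mul_apply,
      Pi.mul_apply] at h1
    exact Nat.eq_of_mul_eq_mul_right (rankAtStalk_pos_of_faithful (R := R) C p) h1
  exact nonempty_algEquiv_of_tensor_end hR A B hdeg C C
    ((((e1.trans e2).trans e3).trans e4).trans e5)

lemma projective_pi_fin (n : ℕ) (A : Type v) [AddCommGroup A] [Module R A] [Module.Projective R A] :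
    Module.Projective R (Fin n → A) := by
  classical
  haveI : Module.Projective R (Fin n →₀ A) :=
    Module.Projective.of_equiv' (finsuppLequivDFinsupp R).symm
  exact Module.Projective.of_equiv' (Finsupp.linearEquivFunOnFinite R A (Fin n))

/-- `Mₙ(A) ≃ Mₙ(B)` implies `A ≃ B` for Azumaya algebras over an LG ring. -/
theorem nonempty_algEquiv_of_matrix (hR : IsLGRing R)
    (A B : Type v) [Ring A] [Algebra R A] [IsAzumaya R A] [Ring B] [Algebra R B]
    [IsAzumaya R B] (n : ℕ) (hn : 0 < n)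
    (e : Matrix (Fin n) (Fin n) A ≃ₐ[R] Matrix (Fin n) (Fin n) B) : Nonempty (A ≃ₐ[R] B) := by
  haveI : FaithfulSMul R (Fin n → R) := ⟨fun {r₁ r₂} h => by
    have := congrFun (h (fun _ => 1)) ⟨0, hn⟩
    simpa using this⟩
  let t : Matrix (Fin n) (Fin n) R ≃ₐ[R] Module.End R (Fin n → R) := Matrix.toLinAlgEquiv'
  let eA : A ⊗[R] Module.End R (Fin n → R) ≃ₐ[R] Matrix (Fin n) (Fin n) A :=
    (Algebra.TensorProduct.congr AlgEquiv.refl t.symm).trans (matrixEquivTensor (Fin n) R A).symm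
  let eB : Matrix (Fin n) (Fin n) B ≃ₐ[R] B ⊗[R] Module.End R (Fin n → R) :=
    (matrixEquivTensor (Fin n) R B).trans (Algebra.TensorProduct.congr AlgEquiv.refl t)
  have hdeg : ∀ p : PrimeSpectrum R, Module.rankAtStalk A p = Module.rankAtStalk B p := by
    intro p
    have h1 := congrFun (Module.rankAtStalk_eq_of_equiv e.toLinearEquiv) p
    change Module.rankAtStalk (Fin n → Fin n → A) p = Module.rankAtStalk (Fin n → Fin n → B) p
      at h1
    haveI := projective_pi_fin (R := R) n A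
    haveI := projective_pi_fin (R := R) n B
    rw [Module.rankAtStalk_pi (fun _ : Fin n => Fin n → A) p,
      Module.rankAtStalk_pi (fun _ : Fin n => Fin n → B) p, finsum_eq_sum_of_fintype,
      finsum_eq_sum_of_fintype, Module.rankAtStalk_pi (fun _ : Fin n => A) p,
      Module.rankAtStalk_pi (fun _ : Fin n => B) p, finsum_eq_sum_of_fintype,
      finsum_eq_sum_of_fintype] at h1
    simp only [Finset.sum_const, Finset.card_univ, Fintype.card_fin, smul_eq_mul] at h1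
    exact Nat.eq_of_mul_eq_mul_left hn (Nat.eq_of_mul_eq_mul_left hn h1)
  exact nonempty_algEquiv_of_tensor_end hR A B hdeg (Fin n → R) (Fin n → R)
    ((eA.trans e).trans eB)

end Groth.Agent.Helper3.LGAz
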