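import Mathlib
import Groth.Agent.Lib.Helper3.LTenDev

/-!
# Derived tensor products with finite length modules over a local ring
-/

namespace Groth.Agent.Helper3.LTenLoc

open CategoryTheory Limits DerivedCategory MonoidalCategory
open Groth.Agent.Helper5.TorAmp Groth.Agent.Helper5.FlatAcyc
open Groth.Agent.Helper3.PcLift Groth.Agent.Lib.Helper5.KProj Groth.Agent.Helper3.DerNak
open Groth.Agent.Helper3.ProjForm Groth.Agent.Helper3.NilTor Groth.Agent.Helper3.LTenDev

universe u

attribute [local instance] HasDerivedCategory.standard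

section Field

variable {k : Type u} [Field k]

lemma exactAt_TM_of_field (X : DRing.Cx k) (N : ModuleCat.{u} k) (i : ℤ) (h : X.ExactAt i) :
    ((TM N).obj X).ExactAt i := by
  have h1 : ((X.sc i).map (tensorRight N)).Exact :=
    Module.Flat.rTensor_shortComplex_exact N (X.sc i) h
  exact h1

end Field

section Local

variable {R : Type u} [CommRing R]

lemma pow_smul_eq_bot_of_isFiniteLength [IsLocalRing R] (N : Type u) [AddCommGroup N] [Module R N]
    (hN : IsFiniteLength R N) :
    ∃ n : ℕ, (IsLocalRing.maximalIdeal R) ^ n • (⊤ : Submodule R N) = ⊥ := by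
  obtain ⟨hNoeth, hArt⟩ := isFiniteLength_iff_isNoetherian_isArtinian.1 hN
  let f : ℕ →o (Submodule R N)ᵒᵈ :=
    ⟨fun n => OrderDual.toDual ((IsLocalRing.maximalIdeal R) ^ n • (⊤ : Submodule R N)),
      fun n n' hnn' => Submodule.smul_mono_left (Ideal.pow_le_pow_right hnn')⟩
  obtain ⟨n, hn⟩ := IsArtinian.monotone_stabilizes f
  refine ⟨n, ?_⟩
  have h1 : (IsLocalRing.maximalIdeal R) ^ n • (⊤ : Submodule R N) =
      (IsLocalRing.maximalIdeal R) ^ (n + 1) • (⊤ : Submodule R N) :=
    congrArg OrderDual.ofDual (hn (n + 1) (Nat.le_succ n))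
  refine Submodule.eq_bot_of_le_smul_of_le_jacobson_bot (IsLocalRing.maximalIdeal R) _
    (IsNoetherian.noetherian _) ?_ (IsLocalRing.maximalIdeal_le_jacobson ⊥)
  rw [← Submodule.mul_smul, ← pow_succ', ← h1]

end Local

section Main

variable {R : Type u} [CommRing R] (I : Ideal R) [hmax : I.IsMaximal]

include hmax in
theorem ltensor_vanishing [DRing.HasLBaseChange (Ideal.Quotient.mk I)] (P : Dual.D R) (a b : ℤ)
    (h : ∀ i : ℤ, (i < a ∨ b < i) →
      Subsingleton (Dual.HD (R ⧸ I) ((DRing.LBaseChange (Ideal.Quotient.mk I)).obj P) i))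
    (M : ModuleCat.{u} R) [DRing.HasLTensor R M] (n : ℕ)
    (hM : I ^ n • (⊤ : Submodule R M) = ⊥) (i : ℤ) (hi : i < a ∨ b < i) :
    Subsingleton (Dual.HD R ((DRing.LTensor R M).obj P) i) := by
  letI : Field (R ⧸ I) := Ideal.Quotient.field I
  obtain ⟨F, hF, hflat, ⟨e⟩⟩ := exists_kproj_flat_rep P
  have hex : ((bcCx (Ideal.Quotient.mk I)).obj F).ExactAt i := by
    rw [exactAt_iff_subsingleton_HD]
    exact subsingleton_HD_of_iso
      ((DRing.LBaseChange (Ideal.Quotient.mk I)).mapIso e.symm ≪≫ lbcIso _ F) i (h i hi)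
  have h1 : ((TM M).obj F).ExactAt i :=
    exactAt_of_pow' I F hflat i (fun N' => exactAt_TM_of_field _ N' i hex) n M hM
  rw [exactAt_iff_subsingleton_HD] at h1
  exact subsingleton_HD_of_iso ((ltIso _ F).symm ≪≫ (DRing.LTensor R M).mapIso e) i h1

end Main

theorem main_S15231 (R : Type u) [CommRing R]
    [IsLocalRing R] [DRing.HasLBaseChange (IsLocalRing.residue R)]
    [∀ M : ModuleCat.{u} R, DRing.HasLTensor R M]
    (P : Dual.D R) (a b : ℤ)
    (h : ∀ i : ℤ, (i < a ∨ b < i) →
      Subsingleton (Dual.HD (IsLocalRing.ResidueField R)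
        ((DRing.LBaseChange (IsLocalRing.residue R)).obj P) i))
    (N : Type u) [AddCommGroup N] [Module R N] (hN : IsFiniteLength R N) (i : ℤ)
    (hi : i < a ∨ b < i) :
    Subsingleton (Dual.HD R ((DRing.LTensor R (ModuleCat.of R N)).obj P) i) := by
  haveI : DRing.HasLBaseChange (Ideal.Quotient.mk (IsLocalRing.maximalIdeal R)) :=
    ‹DRing.HasLBaseChange (IsLocalRing.residue R)›
  obtain ⟨n, hn⟩ := pow_smul_eq_bot_of_isFiniteLength N hN
  exact ltensor_vanishing (IsLocalRing.maximalIdeal R) P a b h (ModuleCat.of R N) n hn i hi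

end Groth.Agent.Helper3.LTenLoc
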