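import Mathlib
import Groth.Agent.Lib.Helper3.LambdaA

open PowerSeries Finset

namespace Groth.Agent.Helper3.LambdaLib

universe u

open LambdaRing

section Adams

variable {K : Type u} [CommRing K] [LambdaRing.LambdaOps K]

theorem invOfUnit_eq_of_mul_eq_one {R : Type*} [CommRing R] (f g : PowerSeries R)
    (hf : constantCoeff f = 1) (hfg : g * f = 1) : f.invOfUnit 1 = g := by
  have h1 : f * f.invOfUnit 1 = 1 := mul_invOfUnit f 1 (by rw [hf]; rfl)
  calc f.invOfUnit 1 = (g * f) * f.invOfUnit 1 := by rw [hfg, one_mul]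
    _ = g := by rw [mul_assoc, h1, mul_one]

theorem lamSeries_invOfUnit (x : K) : (lamSeries x).invOfUnit 1 = lamSeries (-x) :=
  invOfUnit_eq_of_mul_eq_one _ _ (constantCoeff_lamSeries x) (lamSeries_neg_mul x)

theorem logDerivSeries_eq (x : K) :
    logDerivSeries x = derivative K (lamSeries x) * lamSeries (-x) := by
  rw [logDerivSeries, lamSeries_invOfUnit]

theorem logDerivSeries_add (x y : K) :
    logDerivSeries (x + y) = logDerivSeries x + logDerivSeries y := by
  rw [logDerivSeries_eq, logDerivSeries_eq, logDerivSeries_eq, lamSeries_add, neg_add,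
    lamSeries_add, Derivation.leibniz, smul_eq_mul, smul_eq_mul]
  have h1 := lamSeries_neg_mul x
  have h2 := lamSeries_neg_mul y
  calc (lamSeries x * derivative K (lamSeries y) + lamSeries y * derivative K (lamSeries x)) *
        (lamSeries (-x) * lamSeries (-y))
      = derivative K (lamSeries x) * lamSeries (-x) * (lamSeries (-y) * lamSeries y) +
        derivative K (lamSeries y) * lamSeries (-y) * (lamSeries (-x) * lamSeries x) := by ring
    _ = _ := by rw [h1, h2, mul_one, mul_one]

theorem adamsOp_add (k : ℕ) (x y : K) : adamsOp k (x + y) = adamsOp k x + adamsOp k y := by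
  rcases k with _ | k
  · simp [adamsOp]
  · simp only [adamsOp]
    rw [logDerivSeries_add, map_add, mul_add]

theorem adamsOp_succ (k : ℕ) (x : K) :
    adamsOp (k + 1) x = (-1) ^ k * coeff k (logDerivSeries x) := rfl

theorem adamsOp_one_eq (h1 : ∀ n : ℕ, 2 ≤ n → LambdaOps.lam n (1 : K) = 0) (k : ℕ) (hk : 1 ≤ k) :
    adamsOp k (1 : K) = 1 := by
  obtain ⟨k, rfl⟩ : ∃ m, k = m + 1 := ⟨k - 1, by omega⟩
  have hinv : lamSeries (-(1 : K)) = altSeries K := by
    have h2 := lamSeries_neg_mul (1 : K)
    rw [lamSeries_one h1] at h2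
    calc lamSeries (-(1 : K)) = lamSeries (-(1 : K)) * ((1 + X) * altSeries K) := by
          rw [mul_comm (1 + X), altSeries_mul, mul_one]
      _ = altSeries K := by rw [← mul_assoc, h2, one_mul]
  rw [adamsOp_succ, logDerivSeries_eq, lamSeries_one h1, hinv, map_add, Derivation.map_one_eq_zero,
    derivative_X, zero_add, one_mul, altSeries, coeff_mk, ← mul_pow]
  simp

end Adams

end Groth.Agent.Helper3.LambdaLib
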