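import Mathlib
import Groth.Agent.Lib.Helper3.LambdaB

open PowerSeries Finset

namespace Groth.Agent.Helper3.LambdaLib

universe u

set_option linter.unusedSectionVars false

open LambdaRing

section Subst

variable (R : Type*) [CommRing R]

/-- the series `X / (1 - X)` -/
noncomputable def bSer : PowerSeries R := X * PowerSeries.mk 1

theorem hasSubst_bSer : HasSubst (bSer R) :=
  HasSubst.of_constantCoeff_zero' (by simp [bSer])

theorem coeff_bSer_pow (d k : ℕ) :
    coeff k ((bSer R) ^ d) =
      if d = 0 then (if k = 0 then 1 else 0)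
      else if d ≤ k then ((k - 1).choose (d - 1) : R) else 0 := by
  rcases d with _ | d
  · simp [coeff_one]
  · rw [if_neg (Nat.succ_ne_zero d), bSer, mul_pow, coeff_X_pow_mul', mk_one_pow_eq_mk_choose_add]
    split_ifs with h
    · rw [coeff_mk]
      congr 2
      omega
    · rfl

theorem subst_one_bSer : (1 : PowerSeries R).subst (bSer R) = 1 := by
  rw [← coe_substAlgHom (hasSubst_bSer R)]
  exact map_one _

variable {R}

theorem coeff_subst_bSer (f : PowerSeries R) (k : ℕ) :
    coeff k (f.subst (bSer R)) =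
      if k = 0 then coeff 0 f
      else ∑ j ∈ range (k + 1), ((k - 1).choose (j - 1) : R) * (if j = 0 then 0 else coeff j f) := by
  rw [coeff_subst' (hasSubst_bSer R)]
  have hsupp : (Function.support fun d : ℕ => coeff d f • coeff k ((bSer R) ^ d)) ⊆
      ((range (k + 1) : Finset ℕ) : Set ℕ) := by
    intro d hd
    rw [Function.mem_support] at hd
    rw [Finset.coe_range, Set.mem_Iio]
    by_contra hlt
    apply hd
    rw [coeff_bSer_pow, if_neg (by omega), if_neg (by omega), smul_zero]
  rw [finsum_eq_sum_of_support_subset _ hsupp]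
  rcases k with _ | k
  · simp [coeff_bSer_pow]
  · rw [if_neg (Nat.succ_ne_zero k)]
    refine Finset.sum_congr rfl fun j hj => ?_
    have hj' : j ≤ k + 1 := Nat.lt_succ_iff.1 (Finset.mem_range.1 hj)
    rw [coeff_bSer_pow]
    rcases j with _ | j
    · simp
    · rw [if_neg (Nat.succ_ne_zero j), if_pos hj', if_neg (Nat.succ_ne_zero j), smul_eq_mul, mul_comm]

end Subst

section Gamma

variable {K : Type u} [CommRing K] [LambdaRing.LambdaOps K]

/-- the series `γ_t(x)` -/
noncomputable def gammaSeries (x : K) : PowerSeries K := PowerSeries.mk fun k => gamma k x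

theorem coeff_gammaSeries (k : ℕ) (x : K) : coeff k (gammaSeries x) = gamma k x := by
  simp [gammaSeries]

theorem gammaSeries_eq_subst (x : K) : gammaSeries x = (lamSeries x).subst (bSer K) := by
  ext k
  rw [coeff_gammaSeries, coeff_subst_bSer, gamma]
  split_ifs with h
  · rw [coeff_lamSeries, LambdaOps.lam_zero]
  · refine Finset.sum_congr rfl fun j _ => ?_
    rw [coeff_lamSeries]

theorem gammaSeries_add (x y : K) : gammaSeries (x + y) = gammaSeries x * gammaSeries y := by
  rw [gammaSeries_eq_subst, gammaSeries_eq_subst, gammaSeries_eq_subst, lamSeries_add,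
    subst_mul (hasSubst_bSer K)]

theorem gammaSeries_zero : gammaSeries (0 : K) = 1 := by
  rw [gammaSeries_eq_subst, lamSeries_zero]
  exact subst_one_bSer K

theorem gammaSeries_sum {ι : Type*} (s : Finset ι) (f : ι → K) :
    gammaSeries (∑ i ∈ s, f i) = ∏ i ∈ s, gammaSeries (f i) := by
  classical
  induction s using Finset.induction_on with
  | empty => simp [gammaSeries_zero]
  | insert a s ha ih => rw [Finset.sum_insert ha, Finset.prod_insert ha, gammaSeries_add, ih]

theorem gamma_add (k : ℕ) (x y : K) :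
    gamma k (x + y) = ∑ i ∈ range (k + 1), gamma i x * gamma (k - i) y := by
  rw [← coeff_gammaSeries, gammaSeries_add, coeff_mul,
    Finset.Nat.sum_antidiagonal_eq_sum_range_succ_mk]
  simp [coeff_gammaSeries]

theorem one_add_bSer : (1 : PowerSeries K) + bSer K = PowerSeries.mk 1 := by
  ext n
  rcases n with _ | n
  · simp [bSer]
  · simp [bSer, coeff_one, coeff_succ_X_mul]

theorem lamSeries_of_line (y : K) (hy : ∀ j : ℕ, 2 ≤ j → LambdaOps.lam j y = 0) :
    lamSeries y = 1 + C y * X := by
  ext n
  rw [coeff_lamSeries]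
  rcases n with _ | _ | n
  · simp [LambdaOps.lam_zero]
  · simp [LambdaOps.lam_one]
  · rw [hy (n + 2) (by omega)]
    simp [coeff_one]

theorem gammaSeries_line_sub_one (h1 : ∀ k : ℕ, 2 ≤ k → LambdaOps.lam k (1 : K) = 0)
    (y : K) (hy : ∀ j : ℕ, 2 ≤ j → LambdaOps.lam j y = 0) :
    gammaSeries (y - 1) = 1 + C (y - 1) * X := by
  have h2 := lamSeries_sub_mul y 1
  rw [lamSeries_one h1, lamSeries_of_line y hy] at h2
  have h3 := congrArg (PowerSeries.subst (bSer K)) h2
  have hs := hasSubst_bSer K
  rw [subst_mul hs, subst_add hs, subst_add hs, subst_mul hs, subst_X hs,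
    ← gammaSeries_eq_subst] at h3
  have hone : (1 : PowerSeries K).subst (bSer K) = 1 := subst_one_bSer K
  have hC : (C y : PowerSeries K).subst (bSer K) = C y := by
    have := subst_C (a := bSer K) y
    exact this
  rw [hone, hC, one_add_bSer] at h3
  -- h3 : gammaSeries (y - 1) * mk 1 = 1 + C y * bSer K
  have h4 : (PowerSeries.mk 1 : PowerSeries K) * (1 - X) = 1 := mk_one_mul_one_sub_eq_one K
  calc gammaSeries (y - 1) = gammaSeries (y - 1) * (PowerSeries.mk 1 * (1 - X)) := by
        rw [h4, mul_one]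
    _ = (1 + C y * bSer K) * (1 - X) := by rw [← mul_assoc, h3]
    _ = (1 - X) + C y * X * (PowerSeries.mk 1 * (1 - X)) := by rw [bSer]; ring
    _ = 1 + C (y - 1) * X := by rw [h4, map_sub, map_one]; ring

theorem coeff_prod_one_add_C_mul_X {n : ℕ} (c : Fin n → K) (k : ℕ) :
    coeff k (∏ i : Fin n, (1 + C (c i) * X : PowerSeries K)) =
      ∑ s ∈ (univ : Finset (Fin n)).powersetCard k, ∏ i ∈ s, c i := by
  classical
  have h : ∀ i : Fin n, (1 + C (c i) * X : PowerSeries K) = C (c i) * X + 1 := fun i => add_comm _ _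
  simp only [h]
  rw [Finset.prod_add]
  simp only [Finset.prod_const_one, mul_one, Finset.prod_mul_distrib, Finset.prod_const,
    ← map_prod, map_sum, coeff_C_mul_X_pow]
  rw [Finset.powersetCard_eq_filter, Finset.sum_filter]
  refine Finset.sum_congr rfl fun s _ => ?_
  by_cases hk : k = s.card
  · rw [if_pos hk, if_pos hk.symm]
  · rw [if_neg hk, if_neg (Ne.symm hk)]

theorem gamma_sum_sub_card (h1 : ∀ k : ℕ, 2 ≤ k → LambdaOps.lam k (1 : K) = 0) (n : ℕ)
    (y : Fin n → K) (hy : ∀ (i : Fin n) (j : ℕ), 2 ≤ j → LambdaOps.lam j (y i) = 0) (k : ℕ) :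
    gamma k (∑ i : Fin n, y i - (n : K)) =
      ∑ s ∈ (univ : Finset (Fin n)).powersetCard k, ∏ i ∈ s, (y i - 1) := by
  have hx : ∑ i : Fin n, y i - (n : K) = ∑ i : Fin n, (y i - 1) := by
    rw [Finset.sum_sub_distrib, Finset.sum_const, Finset.card_univ, Fintype.card_fin,
      nsmul_eq_mul, mul_one]
  rw [hx, ← coeff_gammaSeries, gammaSeries_sum]
  have : ∀ i : Fin n, gammaSeries (y i - 1) = 1 + C (y i - 1) * X :=
    fun i => gammaSeries_line_sub_one h1 (y i) (hy i)
  simp only [this]
  exact coeff_prod_one_add_C_mul_X _ k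

end Gamma

end Groth.Agent.Helper3.LambdaLib
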