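import Mathlib
import Groth.Agent.Lib.Helper3.LambdaC

open PowerSeries Finset

namespace Groth.Agent.Helper3.LambdaLib

universe u

set_option linter.unusedSectionVars false

open LambdaRing

section Blowup

variable {K : Type u} [CommRing K] [LambdaRing.LambdaOps K]

/-- truncated evaluation at `-1` -/
noncomputable def evTrunc (d : ℕ) (f : PowerSeries K) : K :=
  ∑ i ∈ range d, (-1 : K) ^ i * coeff i f

theorem evTrunc_add (d : ℕ) (f g : PowerSeries K) :
    evTrunc d (f + g) = evTrunc d f + evTrunc d g := by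
  simp only [evTrunc, map_add, mul_add, Finset.sum_add_distrib]

theorem evTrunc_C_mul (d : ℕ) (c : K) (g : PowerSeries K) :
    evTrunc d (C c * g) = c * evTrunc d g := by
  simp only [evTrunc, coeff_C_mul, Finset.mul_sum]
  refine Finset.sum_congr rfl fun i _ => ?_
  ring

theorem evTrunc_coe (d : ℕ) (p : Polynomial K) (hp : p.natDegree < d) :
    evTrunc d (p : PowerSeries K) = p.eval (-1) := by
  rw [evTrunc, Polynomial.eval_eq_sum_range' hp]
  refine Finset.sum_congr rfl fun i _ => ?_
  rw [Polynomial.coeff_coe, mul_comm]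

theorem one_sub_line_dvd (h1 : ∀ k : ℕ, 2 ≤ k → LambdaOps.lam k (1 : K) = 0) (d : ℕ) (hd : 2 ≤ d)
    (F L N' : K) (hL : ∀ j : ℕ, 2 ≤ j → LambdaOps.lam j L = 0)
    (hN' : ∀ i : ℕ, d - 1 ≤ i → LambdaOps.lam i N' = 0) (hrel : F + L = N' + 2) :
    (1 - L) ∣ ∑ i ∈ range d, (-1 : K) ^ i * LambdaOps.lam i F := by
  obtain ⟨e, rfl⟩ : ∃ e, d = e + 2 := ⟨d - 2, by omega⟩
  set A : PowerSeries K := lamSeries N' with hA
  set U : PowerSeries K := lamSeries L with hU
  set V : PowerSeries K := lamSeries (-L) with hV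
  have hUV : U * V = 1 := by rw [mul_comm]; exact lamSeries_neg_mul L
  have hUe : U = 1 + C L * X := lamSeries_of_line L hL
  have h2 : lamSeries (2 : K) = (1 + X) ^ 2 := by
    have := lamSeries_natCast h1 2
    simpa using this
  have hFU : lamSeries F * U = A * (1 + X) ^ 2 := by
    rw [← lamSeries_add, hrel, lamSeries_add, h2]
  set c : PowerSeries K := C (1 - L) with hc
  have h1X : (1 : PowerSeries K) + X = U + c * X := by
    rw [hUe, hc, map_sub, map_one]; ring
  have hF : lamSeries F = A * (U + 2 * c * X) + c ^ 2 * (X ^ 2 * A * V) := by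
    have e1 : lamSeries F = A * (1 + X) ^ 2 * V := by
      rw [← hFU, mul_assoc, hUV, mul_one]
    rw [e1, h1X]
    linear_combination (A * (U + 2 * c * X)) * hUV
  -- polynomial part
  let Ap : Polynomial K := trunc (e + 1) A
  have hAp : (Ap : PowerSeries K) = A := by
    ext n
    rw [Polynomial.coeff_coe, coeff_trunc]
    split_ifs with hn
    · rfl
    · rw [hA, coeff_lamSeries, hN' n (by omega)]
  let p : Polynomial K := Ap * (1 + Polynomial.C (2 - L) * Polynomial.X)
  have hp : (p : PowerSeries K) = A * (U + 2 * c * X) := by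
    rw [Polynomial.coe_mul, hAp, Polynomial.coe_add, Polynomial.coe_one, Polynomial.coe_mul,
      Polynomial.coe_C, Polynomial.coe_X, hUe, hc, map_sub, map_sub, map_one]
    have : (C (2 : K) : PowerSeries K) = 2 := by
      rw [show (2 : K) = ((2 : ℕ) : K) by norm_num, map_natCast]; norm_num
    rw [this]
    ring
  have hpdeg : p.natDegree < e + 2 := by
    have h3 : Ap.natDegree < e + 1 := natDegree_trunc_lt A e
    have h4 : (1 + Polynomial.C (2 - L) * Polynomial.X : Polynomial K).natDegree ≤ 1 := by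
      refine (Polynomial.natDegree_add_le _ _).trans ?_
      rw [Polynomial.natDegree_one]
      refine max_le (by omega) ?_
      refine (Polynomial.natDegree_C_mul_le _ _).trans ?_
      exact Polynomial.natDegree_X_le
    have h5 : p.natDegree ≤ Ap.natDegree +
        (1 + Polynomial.C (2 - L) * Polynomial.X : Polynomial K).natDegree :=
      Polynomial.natDegree_mul_le
    omega
  have hsum : ∑ i ∈ range (e + 2), (-1 : K) ^ i * LambdaOps.lam i F = evTrunc (e + 2) (lamSeries F) := by
    simp only [evTrunc, coeff_lamSeries]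
  have hc2 : c ^ 2 = C ((1 - L) ^ 2) := by rw [hc, map_pow]
  rw [hsum, hF, evTrunc_add, ← hp, evTrunc_coe _ p hpdeg, hc2, evTrunc_C_mul]
  refine ⟨-(Ap.eval (-1)) + (1 - L) * evTrunc (e + 2) (X ^ 2 * A * V), ?_⟩
  simp only [p, Polynomial.eval_mul, Polynomial.eval_add, Polynomial.eval_one, Polynomial.eval_C,
    Polynomial.eval_X]
  ring

end Blowup

end Groth.Agent.Helper3.LambdaLib
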