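import Mathlib
import Groth.Agent.Lib.Helper3.LambdaD

open PowerSeries Finset

namespace Groth.Agent.Helper3.LambdaLib

universe u

set_option linter.unusedSectionVars false

open LambdaRing

section ODE

variable {R : Type*} [CommRing R]

theorem derivative_map {S : Type*} [CommRing S] (φ : R →+* S) (g : PowerSeries R) :
    PowerSeries.map φ (derivative R g) = derivative S (PowerSeries.map φ g) := by
  ext n
  rw [coeff_map, coeff_derivative, coeff_derivative, coeff_map, map_mul, map_add, map_natCast,
    map_one]

variable [Algebra ℚ R]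

/-- uniqueness of solutions of `f' = g f`, `f(0) = 1` -/
theorem ode_unique (g f₁ f₂ : PowerSeries R) (h₁ : derivative R f₁ = g * f₁)
    (h₂ : derivative R f₂ = g * f₂) (c₁ : constantCoeff f₁ = 1) (c₂ : constantCoeff f₂ = 1) :
    f₁ = f₂ := by
  have : IsAddTorsionFree R := IsAddTorsionFree.of_module_rat R
  have hu₂ : IsUnit f₂ := isUnit_iff_constantCoeff.2 (by rw [c₂]; exact isUnit_one)
  obtain ⟨u, hu⟩ := hu₂
  set w : PowerSeries R := ↑u⁻¹ with hw
  have hwf : w * f₂ = 1 := by rw [← hu, hw]; exact u.inv_mul
  have hcw : constantCoeff w = 1 := by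
    have := congrArg constantCoeff hwf
    rwa [map_mul, c₂, mul_one, map_one] at this
  have hdw : derivative R w = - (w * g) := by
    have h3 := congrArg (derivative R) hwf
    rw [Derivation.leibniz, Derivation.map_one_eq_zero, smul_eq_mul, smul_eq_mul, h₂] at h3
    -- w * (g * f₂) + f₂ * d w = 0
    have h4 : (derivative R w + w * g) * f₂ = 0 := by linear_combination h3
    have h5 : derivative R w + w * g = 0 := by
      have := congrArg (· * w) h4
      simp only [zero_mul] at this
      rwa [mul_assoc, mul_comm f₂ w, hwf, mul_one] at this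
    linear_combination h5
  have hh : f₁ * w = 1 := by
    apply derivative.ext
    · rw [Derivation.leibniz, Derivation.map_one_eq_zero, smul_eq_mul, smul_eq_mul, h₁, hdw]
      ring
    · rw [map_mul, c₁, hcw, mul_one, map_one]
  calc f₁ = f₁ * (w * f₂) := by rw [hwf, mul_one]
    _ = f₂ := by rw [← mul_assoc, hh, one_mul]

/-- antiderivative -/
noncomputable def intSeries (g : PowerSeries R) : PowerSeries R :=
  PowerSeries.mk fun n => if n = 0 then 0 else algebraMap ℚ R (1 / (n : ℚ)) * coeff (n - 1) g

theorem constantCoeff_intSeries (g : PowerSeries R) : constantCoeff (intSeries g) = 0 := by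
  rw [← coeff_zero_eq_constantCoeff_apply, intSeries, coeff_mk, if_pos rfl]

theorem derivative_intSeries (g : PowerSeries R) : derivative R (intSeries g) = g := by
  ext n
  rw [coeff_derivative, intSeries, coeff_mk, if_neg (Nat.succ_ne_zero n), Nat.add_sub_cancel]
  have : algebraMap ℚ R (1 / ((n + 1 : ℕ) : ℚ)) * ((n : R) + 1) = 1 := by
    have h : ((n : R) + 1) = algebraMap ℚ R ((n + 1 : ℕ) : ℚ) := by
      rw [map_natCast]; push_cast; rfl
    rw [h, ← map_mul, one_div, inv_mul_cancel₀ (by exact_mod_cast Nat.succ_ne_zero n), map_one]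
  calc algebraMap ℚ R (1 / ((n + 1 : ℕ) : ℚ)) * coeff n g * ((n : R) + 1)
      = coeff n g * (algebraMap ℚ R (1 / ((n + 1 : ℕ) : ℚ)) * ((n : R) + 1)) := by ring
    _ = coeff n g := by rw [this, mul_one]

/-- existence of solutions of `f' = g f`, `f(0) = 1` -/
theorem ode_exists (g : PowerSeries R) :
    ∃ f : PowerSeries R, constantCoeff f = 1 ∧ derivative R f = g * f := by
  have hs : HasSubst (intSeries g) := HasSubst.of_constantCoeff_zero' (constantCoeff_intSeries g)
  refine ⟨(exp R).subst (intSeries g), ?_, ?_⟩
  · rw [← coeff_zero_eq_constantCoeff_apply, coeff_subst' hs, finsum_eq_single _ 0]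
    · simp
    · intro d hd
      rw [coeff_zero_eq_constantCoeff_apply, map_pow, constantCoeff_intSeries, zero_pow hd,
        smul_zero]
  · rw [derivative_subst hs, derivative_exp, derivative_intSeries, mul_comm]

end ODE

section Lam

variable {K : Type u} [CommRing K] [LambdaRing.LambdaOps K]

theorem derivative_lamSeries (x : K) :
    derivative K (lamSeries x) = logDerivSeries x * lamSeries x := by
  rw [logDerivSeries_eq, mul_assoc, lamSeries_neg_mul, mul_one]

theorem coeff_logDerivSeries (k : ℕ) (x : K) :
    coeff k (logDerivSeries x) = (-1) ^ k * adamsOp (k + 1) x := by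
  rw [adamsOp_succ, ← mul_assoc, ← mul_pow]
  simp

theorem map_lamSeries {K' : Type u} [CommRing K'] [LambdaRing.LambdaOps K'] (f : K →+* K')
    (hf : IsLambdaHom f) (x : K) : PowerSeries.map f (lamSeries x) = lamSeries (f x) := by
  ext n
  rw [coeff_map, coeff_lamSeries, coeff_lamSeries, hf]

theorem map_adamsOp {K' : Type u} [CommRing K'] [LambdaRing.LambdaOps K'] (f : K →+* K')
    (hf : IsLambdaHom f) (k : ℕ) (x : K) : f (adamsOp k x) = adamsOp k (f x) := by
  rcases k with _ | k
  · simp [adamsOp]
  · rw [adamsOp_succ, adamsOp_succ, map_mul, map_pow, map_neg, map_one, ← coeff_map,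
      logDerivSeries_eq, logDerivSeries_eq, map_mul, derivative_map, map_lamSeries f hf,
      map_lamSeries f hf, map_neg]

theorem isLambdaHom_of_map_adamsOp {K' : Type u} [CommRing K'] [LambdaRing.LambdaOps K']
    [Algebra ℚ K'] (f : K →+* K')
    (hf : ∀ k : ℕ, 1 ≤ k → ∀ x : K, f (adamsOp k x) = adamsOp k (f x)) : IsLambdaHom f := by
  intro i x
  have hlog : PowerSeries.map f (logDerivSeries x) = logDerivSeries (f x) := by
    ext k
    rw [coeff_map, coeff_logDerivSeries, coeff_logDerivSeries, map_mul, map_pow, map_neg, map_one,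
      hf (k + 1) (by omega)]
  have h1 : derivative K' (PowerSeries.map f (lamSeries x)) =
      logDerivSeries (f x) * PowerSeries.map f (lamSeries x) := by
    rw [← derivative_map, derivative_lamSeries, map_mul, hlog]
  have h2 := derivative_lamSeries (f x)
  have c1 : constantCoeff (PowerSeries.map f (lamSeries x)) = 1 := by
    rw [← coeff_zero_eq_constantCoeff_apply, coeff_map, coeff_zero_eq_constantCoeff_apply,
      constantCoeff_lamSeries, map_one]
  have := ode_unique _ _ _ h1 h2 c1 (constantCoeff_lamSeries (f x))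
  have h3 := congrArg (coeff i) this
  rwa [coeff_map, coeff_lamSeries, coeff_lamSeries] at h3

end Lam

section Recon

variable {K : Type u} [CommRing K] [Algebra ℚ K] (ψ : ℕ → K →+ K)

/-- the series `Σ (-1)^n ψ^{n+1}(x) t^n` -/
noncomputable def psiSeries (x : K) : PowerSeries K :=
  PowerSeries.mk fun n => (-1 : K) ^ n * ψ (n + 1) x

theorem psiSeries_add (x y : K) : psiSeries ψ (x + y) = psiSeries ψ x + psiSeries ψ y := by
  ext n
  simp only [psiSeries, coeff_mk, map_add, mul_add]

/-- the solution of `f' = psiSeries x * f` -/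
noncomputable def solSeries (x : K) : PowerSeries K := (ode_exists (psiSeries ψ x)).choose

theorem solSeries_const (x : K) : constantCoeff (solSeries ψ x) = 1 :=
  (ode_exists (psiSeries ψ x)).choose_spec.1

theorem solSeries_deriv (x : K) :
    derivative K (solSeries ψ x) = psiSeries ψ x * solSeries ψ x :=
  (ode_exists (psiSeries ψ x)).choose_spec.2

theorem solSeries_add (x y : K) : solSeries ψ (x + y) = solSeries ψ x * solSeries ψ y := by
  refine ode_unique (psiSeries ψ (x + y)) _ _ (solSeries_deriv ψ (x + y)) ?_
    (solSeries_const ψ (x + y)) ?_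
  · rw [Derivation.leibniz, smul_eq_mul, smul_eq_mul, solSeries_deriv, solSeries_deriv,
      psiSeries_add]
    ring
  · rw [map_mul, solSeries_const, solSeries_const, mul_one]

/-- the pre-λ-structure with prescribed Adams operations -/
@[reducible] noncomputable def lamOfPsi (hψ : ψ 1 = AddMonoidHom.id K) : LambdaOps K where
  lam n x := coeff n (solSeries ψ x)
  lam_zero x := by rw [coeff_zero_eq_constantCoeff_apply, solSeries_const]
  lam_one x := by
    have h := congrArg (coeff 0) (solSeries_deriv ψ x)
    rw [coeff_derivative, coeff_mul] at h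
    simp only [Finset.Nat.antidiagonal_zero, Finset.sum_singleton, Nat.cast_zero, zero_add,
      mul_one, coeff_zero_eq_constantCoeff_apply, solSeries_const] at h
    rw [h, ← coeff_zero_eq_constantCoeff_apply, psiSeries, coeff_mk, pow_zero, one_mul, hψ]
    rfl
  lam_add k x y := by
    rw [solSeries_add, coeff_mul, Finset.Nat.sum_antidiagonal_eq_sum_range_succ_mk]

theorem lambdaOps_ext (L L' : LambdaOps K)
    (h : ∀ n x, @LambdaOps.lam K _ L n x = @LambdaOps.lam K _ L' n x) : L = L' := by
  cases L with
  | mk lam a b c =>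
  cases L' with
  | mk lam' a' b' c' =>
  have : lam = lam' := funext fun n => funext fun x => h n x
  subst this
  rfl

theorem existsUnique_lambdaOps (hψ : ψ 1 = AddMonoidHom.id K) :
    ∃! L : LambdaOps K, ∀ k : ℕ, 1 ≤ k → ∀ x : K, @adamsOp K _ L k x = ψ k x := by
  refine ⟨lamOfPsi ψ hψ, ?_, ?_⟩
  · intro k hk x
    obtain ⟨k, rfl⟩ : ∃ m, k = m + 1 := ⟨k - 1, by omega⟩
    have hlam : @lamSeries K _ (lamOfPsi ψ hψ) x = solSeries ψ x := by
      ext n
      rw [@coeff_lamSeries K _ (lamOfPsi ψ hψ)]
      rfl
    have hlog : @logDerivSeries K _ (lamOfPsi ψ hψ) x = psiSeries ψ x := by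
      unfold logDerivSeries
      rw [hlam, solSeries_deriv, mul_assoc,
        mul_invOfUnit _ _ (by rw [solSeries_const]; rfl), mul_one]
    rw [@adamsOp_succ K _ (lamOfPsi ψ hψ), hlog, psiSeries, coeff_mk, ← mul_assoc, ← mul_pow]
    simp
  · intro L' hL'
    apply lambdaOps_ext
    intro n x
    have hlog : @logDerivSeries K _ L' x = psiSeries ψ x := by
      ext k
      rw [@coeff_logDerivSeries K _ L', hL' (k + 1) (by omega), psiSeries, coeff_mk]
    have h1 := @derivative_lamSeries K _ L' x
    rw [hlog] at h1
    have h2 := ode_unique _ _ _ h1 (solSeries_deriv ψ x) (@constantCoeff_lamSeries K _ L' x)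
      (solSeries_const ψ x)
    have h3 := congrArg (coeff n) h2
    rw [@coeff_lamSeries K _ L'] at h3
    exact h3

end Recon

end Groth.Agent.Helper3.LambdaLib
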