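import Mathlib

set_option autoImplicit false

namespace Groth.Agent.Helper3.LambdaLib

open MvPolynomial

section WH

variable {R : Type*} [CommRing R] {ι τ M : Type*} [AddCommMonoid M]

theorem isWeightedHomogeneous_aeval (w : ι → M) (w' : τ → M) (g : ι → MvPolynomial τ R)
    (hg : ∀ i, IsWeightedHomogeneous w' (g i) (w i)) (G : MvPolynomial ι R) (μ : M)
    (hG : IsWeightedHomogeneous w G μ) : IsWeightedHomogeneous w' (aeval g G) μ := by
  rw [G.as_sum, map_sum]
  apply IsWeightedHomogeneous.sum
  intro d hd
  rw [aeval_monomial, MvPolynomial.algebraMap_eq]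
  have hμ : Finsupp.weight w d = μ := hG (mem_support_iff.1 hd)
  apply IsWeightedHomogeneous.C_mul
  rw [← hμ, Finsupp.weight_apply, Finsupp.prod, Finsupp.sum]
  apply IsWeightedHomogeneous.prod
  intro i _
  exact (hg i).pow (d i)

theorem isWeightedHomogeneous_of_aeval_injective (w : ι → M) (w' : τ → M)
    (g : ι → MvPolynomial τ R) (hg : ∀ i, IsWeightedHomogeneous w' (g i) (w i))
    (hinj : Function.Injective (aeval g : MvPolynomial ι R →ₐ[R] MvPolynomial τ R))
    (G : MvPolynomial ι R) (ν : M)
    (h : IsWeightedHomogeneous w' (aeval g G) ν) : IsWeightedHomogeneous w G ν := by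
  classical
  have hfin := weightedHomogeneousComponent_finsupp (w := w) G
  set s := hfin.toFinset with hs
  have hsum : G = ∑ μ' ∈ s, weightedHomogeneousComponent w μ' G := by
    rw [← finsum_eq_sum _ hfin]
    exact (sum_weightedHomogeneousComponent w G).symm
  have hzero : ∀ μ, μ ≠ ν → weightedHomogeneousComponent w μ G = 0 := by
    intro μ hμ
    apply hinj
    rw [map_zero]
    have h1 : weightedHomogeneousComponent w' μ (aeval g G) = 0 :=
      h.weightedHomogeneousComponent_ne μ hμ
    have h2 : weightedHomogeneousComponent w' μ (aeval g G) =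
        ∑ μ' ∈ s, weightedHomogeneousComponent w' μ
          (aeval g (weightedHomogeneousComponent w μ' G)) := by
      conv_lhs => rw [hsum]
      rw [map_sum, map_sum]
    have h3 : ∀ μ' ∈ s, weightedHomogeneousComponent w' μ
          (aeval g (weightedHomogeneousComponent w μ' G)) =
        if μ' = μ then aeval g (weightedHomogeneousComponent w μ G) else 0 := by
      intro μ' _
      have hm : aeval g (weightedHomogeneousComponent w μ' G) ∈
          weightedHomogeneousSubmodule R w' μ' := by
        rw [mem_weightedHomogeneousSubmodule]
        exact isWeightedHomogeneous_aeval w w' g hg _ μ'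
          (weightedHomogeneousComponent_isWeightedHomogeneous μ' G)
      rw [weightedHomogeneousComponent_of_mem hm]
      by_cases hμμ : μ' = μ
      · subst hμμ
        simp
      · rw [if_neg (Ne.symm hμμ), if_neg hμμ]
    rw [h2, Finset.sum_congr rfl h3, Finset.sum_ite_eq' s μ] at h1
    by_cases hmem : μ ∈ s
    · rw [if_pos hmem] at h1
      exact h1
    · have : weightedHomogeneousComponent w μ G = 0 := by
        by_contra hne
        apply hmem
        rw [hs, Set.Finite.mem_toFinset]
        exact hne
      rw [this, map_zero]
  have hG : G = weightedHomogeneousComponent w ν G := by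
    conv_lhs => rw [hsum]
    by_cases hmem : ν ∈ s
    · rw [Finset.sum_eq_single ν]
      · intro μ _ hμ
        exact hzero μ hμ
      · intro h'; exact absurd hmem h'
    · have hν0 : weightedHomogeneousComponent w ν G = 0 := by
        by_contra hne
        apply hmem
        rw [hs, Set.Finite.mem_toFinset]
        exact hne
      rw [hν0]
      apply Finset.sum_eq_zero
      intro μ hμ
      by_cases hμν : μ = ν
      · rw [hμν, hν0]
      · exact hzero μ hμν
  rw [hG]
  exact weightedHomogeneousComponent_isWeightedHomogeneous ν G

end WH

end Groth.Agent.Helper3.LambdaLib
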