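import Groth.Agent.Lib.Helper3.LambdaF
import Groth.Prelude.Def_LambdaSp

set_option autoImplicit false

namespace Groth.Agent.Helper3.LambdaLib

open MvPolynomial Finset

section Gen

variable {R : Type*} [CommRing R] {I : Type*} [Fintype I]

theorem isWeightedHomogeneous_aeval_esymm {τ M : Type*} [AddCommMonoid M] (w' : τ → M)
    (f : I → MvPolynomial τ R) (c : M) (hf : ∀ s, IsWeightedHomogeneous w' (f s) c) (n : ℕ) :
    IsWeightedHomogeneous w' (aeval f (esymm I R n)) (n • c) := by
  rw [esymm, map_sum]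
  apply IsWeightedHomogeneous.sum
  intro t ht
  rw [map_prod]
  simp_rw [aeval_X]
  have h := IsWeightedHomogeneous.prod t f (fun _ => c) (fun s _ => hf s)
  rw [Finset.sum_const, (mem_powersetCard.1 ht).2] at h
  exact h

theorem isWeightedHomogeneous_esymm (n : ℕ) :
    IsWeightedHomogeneous (fun _ : I => (1 : ℕ)) (esymm I R n) n := by
  have h := isWeightedHomogeneous_aeval_esymm (R := R) (I := I) (fun _ : I => (1 : ℕ))
    (fun s => (X s : MvPolynomial I R)) 1 (fun s => isWeightedHomogeneous_X R _ s) n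
  rw [aeval_X_left, AlgHom.id_apply, smul_eq_mul, mul_one] at h
  exact h

theorem rename_aeval_esymm {τ : Type*} (f : I → MvPolynomial τ R) (e : τ → τ) (e' : I ≃ I)
    (h : ∀ s, rename e (f s) = f (e' s)) (n : ℕ) :
    rename e (aeval f (esymm I R n)) = aeval f (esymm I R n) := by
  have h1 : rename e (aeval f (esymm I R n)) = aeval (fun s => rename e (f s)) (esymm I R n) := by
    have := MvPolynomial.comp_aeval (R := R) f (rename e : MvPolynomial τ R →ₐ[R] MvPolynomial τ R)
    exact congrArg (fun φ : MvPolynomial I R →ₐ[R] MvPolynomial τ R => φ (esymm I R n)) this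
  rw [h1]
  have h2 : (fun s => rename e (f s)) = f ∘ e' := funext h
  rw [h2, ← aeval_rename, rename_esymm]

theorem aeval_esymm_specialize {S : Type*} [CommRing S] [Algebra R S] {I' : Type*} [Fintype I']
    (c : I' ↪ I) (f : I → S) (f' : I' → S) (h1 : ∀ s', f (c s') = f' s')
    (h0 : ∀ s, s ∉ Set.range c → f s = 0) (n : ℕ) :
    aeval f (esymm I R n) = aeval f' (esymm I' R n) := by
  classical
  simp only [esymm, map_sum, map_prod, aeval_X]
  have hsub : powersetCard n ((univ : Finset I').map c) ⊆ powersetCard n (univ : Finset I) :=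
    powersetCard_mono (subset_univ _)
  rw [← Finset.sum_subset hsub]
  · rw [powersetCard_map, Finset.sum_map]
    apply Finset.sum_congr rfl
    intro t' _
    show ∏ x ∈ t'.map c, f x = ∏ x ∈ t', f' x
    rw [Finset.prod_map]
    apply Finset.prod_congr rfl
    intro i' _
    exact h1 i'
  · intro t ht hnt
    rw [mem_powersetCard] at ht hnt
    have : ¬ t ⊆ (univ : Finset I').map c := fun hsub' => hnt ⟨hsub', ht.2⟩
    rw [Finset.not_subset] at this
    obtain ⟨i, hit, hi⟩ := this
    apply Finset.prod_eq_zero hit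
    apply h0
    rintro ⟨i', rfl⟩
    exact hi (mem_map_of_mem c (mem_univ i'))

theorem multiset_esymm_finset_eq_aeval {α S : Type*} [CommRing S] [Algebra R S] (T : Finset α)
    (g : α → S) (n : ℕ) :
    (T.val.map g).esymm n = aeval (fun s : T => g s.1) (esymm T R n) := by
  rw [aeval_esymm_eq_multiset_esymm]
  congr 1
  rw [Finset.univ_eq_attach, Finset.attach_val]
  exact (Multiset.attach_map_val' T.val g).symm

end Gen

section Single

open LambdaRing

/-- existence for symmetric homogeneous polynomials over ℤ, with isobaric weight -/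
theorem exists_esymm_poly (N d : ℕ) (f : MvPolynomial (Fin N) ℤ) (hs : f.IsSymmetric)
    (hh : IsWeightedHomogeneous (fun _ : Fin N => (1 : ℕ)) f d) :
    ∃ Q : MvPolynomial (Fin N) ℤ,
      aeval (fun k : Fin N => esymm (Fin N) ℤ ((k : ℕ) + 1)) Q = f ∧
      IsWeightedHomogeneous (fun k : Fin N => (k : ℕ) + 1) Q d := by
  obtain ⟨Q, hQ⟩ := (esymmAlgHom_fin_bijective ℤ N).2 ⟨f, hs⟩
  have hQ' : aeval (fun k : Fin N => esymm (Fin N) ℤ ((k : ℕ) + 1)) Q = f := by
    rw [← esymmAlgHom_apply, hQ]
  refine ⟨Q, hQ', ?_⟩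
  apply isWeightedHomogeneous_of_aeval_injective (fun k : Fin N => (k : ℕ) + 1)
    (fun _ : Fin N => (1 : ℕ)) (fun k : Fin N => esymm (Fin N) ℤ ((k : ℕ) + 1))
  · intro k
    exact isWeightedHomogeneous_esymm _
  · intro p q hpq
    apply esymmAlgHom_fin_injective ℤ (le_refl N)
    apply Subtype.ext
    rw [esymmAlgHom_apply, esymmAlgHom_apply]
    exact hpq
  · rw [hQ']
    exact hh

/-- `compGen` as an evaluation of an elementary symmetric polynomial -/
theorem compGen_eq_aeval (N i j : ℕ) :
    compGen N i j = aeval (fun s : ((Finset.univ : Finset (Fin N)).powersetCard i) =>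
      (∏ a ∈ s.1, X a : MvPolynomial (Fin N) ℤ)) (esymm _ ℤ j) := by
  unfold compGen
  exact multiset_esymm_finset_eq_aeval (R := ℤ) _ _ j

theorem compGen_isSymmetric (N i j : ℕ) : (compGen N i j).IsSymmetric := by
  classical
  intro e
  rw [compGen_eq_aeval]
  -- the induced permutation of i-subsets
  let e' : ((Finset.univ : Finset (Fin N)).powersetCard i) ≃
      ((Finset.univ : Finset (Fin N)).powersetCard i) :=
    { toFun := fun s => ⟨s.1.map e.toEmbedding, by
        rw [mem_powersetCard]; exact ⟨subset_univ _, by rw [card_map]; exact (mem_powersetCard.1 s.2).2⟩⟩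
      invFun := fun s => ⟨s.1.map e.symm.toEmbedding, by
        rw [mem_powersetCard]; exact ⟨subset_univ _, by rw [card_map]; exact (mem_powersetCard.1 s.2).2⟩⟩
      left_inv := by
        intro s
        apply Subtype.ext
        simp [Finset.map_map]
      right_inv := by
        intro s
        apply Subtype.ext
        simp [Finset.map_map] }
  apply rename_aeval_esymm _ e e'
  intro s
  rw [map_prod]
  simp only [rename_X]
  show ∏ a ∈ s.1, X (e a) = ∏ a ∈ s.1.map e.toEmbedding, X a
  rw [Finset.prod_map]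
  rfl

theorem compGen_isHomogeneous (N i j : ℕ) :
    IsWeightedHomogeneous (fun _ : Fin N => (1 : ℕ)) (compGen N i j) (i * j) := by
  rw [compGen_eq_aeval]
  have h := isWeightedHomogeneous_aeval_esymm (R := ℤ)
    (I := ((Finset.univ : Finset (Fin N)).powersetCard i)) (fun _ : Fin N => (1 : ℕ))
    (fun s => (∏ a ∈ s.1, X a : MvPolynomial (Fin N) ℤ)) i ?_ j
  · rw [smul_eq_mul, mul_comm] at h
    exact h
  · intro s
    have h2 := IsWeightedHomogeneous.prod (R := ℤ) s.1 (fun a => (X a : MvPolynomial (Fin N) ℤ))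
      (fun _ => 1) (w := fun _ : Fin N => (1 : ℕ)) (fun a _ => isWeightedHomogeneous_X ℤ _ a)
    rw [Finset.sum_const, (mem_powersetCard.1 s.2).2, smul_eq_mul, mul_one] at h2
    exact h2

theorem exists_compPoly (N i j : ℕ) :
    ∃ Q : MvPolynomial (Fin N) ℤ,
      aeval (fun k : Fin N => esymm (Fin N) ℤ ((k : ℕ) + 1)) Q = compGen N i j ∧
      IsWeightedHomogeneous (fun k : Fin N => (k : ℕ) + 1) Q (i * j) :=
  exists_esymm_poly N (i * j) _ (compGen_isSymmetric N i j) (compGen_isHomogeneous N i j)

end Single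

end Groth.Agent.Helper3.LambdaLib
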