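import Groth.Agent.Lib.Helper3.LambdaG

set_option autoImplicit false

namespace Groth.Agent.Helper3.LambdaLib

open MvPolynomial Finset

section Double

variable (N : ℕ)

/-- the double substitution `X_k ↦ e_k(T)`, `Y_k ↦ e_k(U)` -/
noncomputable def Phi : MvPolynomial (Fin N ⊕ Fin N) ℤ →ₐ[ℤ] MvPolynomial (Fin N ⊕ Fin N) ℤ :=
  aeval (Sum.elim (fun k : Fin N => rename Sum.inl (esymm (Fin N) ℤ ((k : ℕ) + 1)))
      (fun k : Fin N => rename Sum.inr (esymm (Fin N) ℤ ((k : ℕ) + 1))))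

/-- `sumRingEquiv` as a ring hom -/
noncomputable abbrev Th : MvPolynomial (Fin N ⊕ Fin N) ℤ →+* MvPolynomial (Fin N) (MvPolynomial (Fin N) ℤ) :=
  (sumRingEquiv ℤ (Fin N) (Fin N)).toRingHom

theorem Th_injective : Function.Injective (Th N) := (sumRingEquiv ℤ (Fin N) (Fin N)).injective

theorem Th_rename_inl (p : MvPolynomial (Fin N) ℤ) :
    Th N (rename Sum.inl p) = map (C : ℤ →+* MvPolynomial (Fin N) ℤ) p := by
  have h : (Th N).comp (rename (Sum.inl : Fin N → Fin N ⊕ Fin N) : MvPolynomial (Fin N) ℤ →ₐ[ℤ] _).toRingHom =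
      map (C : ℤ →+* MvPolynomial (Fin N) ℤ) := by
    apply MvPolynomial.ringHom_ext
    · intro r
      simp [Th]
    · intro i
      simp [Th]
  exact congrArg (fun φ : MvPolynomial (Fin N) ℤ →+* _ => φ p) h

theorem Th_rename_inr (p : MvPolynomial (Fin N) ℤ) :
    Th N (rename Sum.inr p) = C p := by
  have h : (Th N).comp (rename (Sum.inr : Fin N → Fin N ⊕ Fin N) : MvPolynomial (Fin N) ℤ →ₐ[ℤ] _).toRingHom =
      (C : MvPolynomial (Fin N) ℤ →+* MvPolynomial (Fin N) (MvPolynomial (Fin N) ℤ)) := by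
    apply MvPolynomial.ringHom_ext
    · intro r
      simp [Th]
    · intro i
      simp [Th]
  exact congrArg (fun φ : MvPolynomial (Fin N) ℤ →+* _ => φ p) h

/-- outer substitution, over the coefficient ring `ℤ[U]` -/
noncomputable abbrev E1 : MvPolynomial (Fin N) (MvPolynomial (Fin N) ℤ) →+*
    MvPolynomial (Fin N) (MvPolynomial (Fin N) ℤ) :=
  (aeval (fun k : Fin N => esymm (Fin N) (MvPolynomial (Fin N) ℤ) ((k : ℕ) + 1)) :
    MvPolynomial (Fin N) (MvPolynomial (Fin N) ℤ) →ₐ[MvPolynomial (Fin N) ℤ] _).toRingHom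

/-- inner substitution -/
noncomputable abbrev E0 : MvPolynomial (Fin N) ℤ →+* MvPolynomial (Fin N) ℤ :=
  (aeval (fun k : Fin N => esymm (Fin N) ℤ ((k : ℕ) + 1)) :
    MvPolynomial (Fin N) ℤ →ₐ[ℤ] _).toRingHom

theorem E1_injective : Function.Injective (E1 N) := by
  intro p q hpq
  apply esymmAlgHom_fin_injective (MvPolynomial (Fin N) ℤ) (le_refl N)
  apply Subtype.ext
  rw [esymmAlgHom_apply, esymmAlgHom_apply]
  exact hpq

theorem E0_injective : Function.Injective (E0 N) := by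
  intro p q hpq
  apply esymmAlgHom_fin_injective ℤ (le_refl N)
  apply Subtype.ext
  rw [esymmAlgHom_apply, esymmAlgHom_apply]
  exact hpq

theorem Th_Phi : (Th N).comp (Phi N).toRingHom = ((E1 N).comp (map (E0 N))).comp (Th N) := by
  apply MvPolynomial.ringHom_ext
  · intro r
    simp [Th, Phi, E1, E0]
  · rintro (k | k)
    · simp only [RingHom.comp_apply, AlgHom.toRingHom_eq_coe, RingHom.coe_coe, Phi, aeval_X,
        Sum.elim_inl]
      rw [Th_rename_inl, map_esymm]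
      simp [Th]
    · simp only [RingHom.comp_apply, AlgHom.toRingHom_eq_coe, RingHom.coe_coe, Phi, aeval_X,
        Sum.elim_inr]
      rw [Th_rename_inr]
      simp [Th]

theorem Th_Phi_apply (P : MvPolynomial (Fin N ⊕ Fin N) ℤ) :
    Th N (Phi N P) = E1 N (map (E0 N) (Th N P)) :=
  congrArg (fun φ : MvPolynomial (Fin N ⊕ Fin N) ℤ →+* _ => φ P) (Th_Phi N)

theorem Phi_injective : Function.Injective (Phi N) := by
  intro P Q hPQ
  apply Th_injective N
  apply map_injective (E0 N) (E0_injective N)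
  apply E1_injective N
  rw [← Th_Phi_apply, ← Th_Phi_apply, hPQ]

theorem Th_rename_left (π : Equiv.Perm (Fin N)) (f : MvPolynomial (Fin N ⊕ Fin N) ℤ) :
    Th N (rename (Sum.map π id) f) = rename π (Th N f) := by
  have h : (Th N).comp (rename (Sum.map π id) : MvPolynomial (Fin N ⊕ Fin N) ℤ →ₐ[ℤ] _).toRingHom =
      (rename π : MvPolynomial (Fin N) (MvPolynomial (Fin N) ℤ) →ₐ[_] _).toRingHom.comp (Th N) := by
    apply MvPolynomial.ringHom_ext
    · intro r
      simp [Th]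
    · rintro (k | k)
      · simp [Th]
      · simp [Th]
  exact congrArg (fun φ : MvPolynomial (Fin N ⊕ Fin N) ℤ →+* _ => φ f) h

theorem Th_rename_right (ρ : Equiv.Perm (Fin N)) (f : MvPolynomial (Fin N ⊕ Fin N) ℤ) :
    Th N (rename (Sum.map id ρ) f) =
      map (rename ρ : MvPolynomial (Fin N) ℤ →ₐ[ℤ] _).toRingHom (Th N f) := by
  have h : (Th N).comp (rename (Sum.map id ρ) : MvPolynomial (Fin N ⊕ Fin N) ℤ →ₐ[ℤ] _).toRingHom =
      (map (rename ρ : MvPolynomial (Fin N) ℤ →ₐ[ℤ] _).toRingHom).comp (Th N) := by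
    apply MvPolynomial.ringHom_ext
    · intro r
      simp [Th]
    · rintro (k | k)
      · simp [Th]
      · simp [Th]
  exact congrArg (fun φ : MvPolynomial (Fin N ⊕ Fin N) ℤ →+* _ => φ f) h

theorem map_E1 (φ : MvPolynomial (Fin N) ℤ →+* MvPolynomial (Fin N) ℤ)
    (g : MvPolynomial (Fin N) (MvPolynomial (Fin N) ℤ)) :
    map φ (E1 N g) = E1 N (map φ g) := by
  have h : (map φ).comp (E1 N) = (E1 N).comp (map φ) := by
    apply MvPolynomial.ringHom_ext
    · intro r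
      simp [E1]
    · intro k
      simp [E1, map_esymm]
  exact congrArg (fun ψ : MvPolynomial (Fin N) (MvPolynomial (Fin N) ℤ) →+* _ => ψ g) h

theorem exists_Phi_eq (f : MvPolynomial (Fin N ⊕ Fin N) ℤ)
    (hf : ∀ π ρ : Equiv.Perm (Fin N), rename (Sum.map π ρ) f = f) : ∃ P, Phi N P = f := by
  -- F is symmetric
  have hF : (Th N f).IsSymmetric := by
    intro π
    rw [← Th_rename_left]
    have := hf π (Equiv.refl _)
    rw [Equiv.coe_refl] at this
    rw [this]
  obtain ⟨g, hg⟩ := (esymmAlgHom_fin_bijective (MvPolynomial (Fin N) ℤ) N).2 ⟨Th N f, hF⟩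
  have hg' : E1 N g = Th N f := by
    have := congrArg Subtype.val hg
    rw [esymmAlgHom_apply] at this
    exact this
  -- coefficients of g are symmetric
  have hgsym : ∀ ρ : Equiv.Perm (Fin N),
      map (rename ρ : MvPolynomial (Fin N) ℤ →ₐ[ℤ] _).toRingHom g = g := by
    intro ρ
    apply E1_injective N
    rw [← map_E1, hg', ← Th_rename_right]
    have := hf (Equiv.refl _) ρ
    rw [Equiv.coe_refl] at this
    rw [this]
  have hcoef : ∀ m, (coeff m g).IsSymmetric := by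
    intro m ρ
    have := congrArg (coeff m) (hgsym ρ)
    rw [coeff_map] at this
    exact this
  have hrange : g ∈ Set.range (map (E0 N)) := by
    rw [mem_range_map_iff_coeffs_subset]
    intro c hc
    rw [Finset.mem_coe, mem_coeffs_iff] at hc
    obtain ⟨m, _, rfl⟩ := hc
    obtain ⟨q, hq⟩ := (esymmAlgHom_fin_bijective ℤ N).2 ⟨coeff m g, hcoef m⟩
    refine ⟨q, ?_⟩
    have := congrArg Subtype.val hq
    rw [esymmAlgHom_apply] at this
    exact this
  obtain ⟨g', hg''⟩ := hrange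
  refine ⟨(sumRingEquiv ℤ (Fin N) (Fin N)).symm g', ?_⟩
  apply Th_injective N
  rw [Th_Phi_apply]
  have : Th N ((sumRingEquiv ℤ (Fin N) (Fin N)).symm g') = g' :=
    (sumRingEquiv ℤ (Fin N) (Fin N)).apply_symm_apply g'
  rw [this, hg'', hg']

open LambdaRing

theorem mulGen_eq_aeval (k : ℕ) :
    mulGen N k = aeval (fun ab : Fin N × Fin N =>
      (X (Sum.inl ab.1) * X (Sum.inr ab.2) : MvPolynomial (Fin N ⊕ Fin N) ℤ))
      (esymm (Fin N × Fin N) ℤ k) := by
  unfold mulGen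
  rw [aeval_esymm_eq_multiset_esymm]

theorem mulGen_bisymmetric (k : ℕ) (π ρ : Equiv.Perm (Fin N)) :
    rename (Sum.map π ρ) (mulGen N k) = mulGen N k := by
  rw [mulGen_eq_aeval]
  apply rename_aeval_esymm _ (Sum.map π ρ) (Equiv.prodCongr π ρ)
  intro ab
  simp

/-- the bidegree weights on the variables `T`, `U` -/
def biW : Fin N ⊕ Fin N → ℕ × ℕ := Sum.elim (fun _ => (1, 0)) (fun _ => (0, 1))

/-- the isobaric weights on the variables `X_k`, `Y_k` -/
def isoW : Fin N ⊕ Fin N → ℕ × ℕ :=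
  Sum.elim (fun k : Fin N => (((k : ℕ) + 1, 0) : ℕ × ℕ)) (fun k : Fin N => ((0, (k : ℕ) + 1) : ℕ × ℕ))

theorem mulGen_bihomogeneous (k : ℕ) :
    IsWeightedHomogeneous (biW N) (mulGen N k) (k, k) := by
  rw [mulGen_eq_aeval]
  have h := isWeightedHomogeneous_aeval_esymm (R := ℤ) (I := Fin N × Fin N) (biW N)
    (fun ab : Fin N × Fin N =>
      (X (Sum.inl ab.1) * X (Sum.inr ab.2) : MvPolynomial (Fin N ⊕ Fin N) ℤ)) (1, 1) ?_ k
  · have e : k • ((1, 1) : ℕ × ℕ) = (k, k) := by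
      ext <;> simp
    rw [e] at h
    exact h
  · intro ab
    have h1 := isWeightedHomogeneous_X ℤ (biW N) (Sum.inl ab.1)
    have h2 := isWeightedHomogeneous_X ℤ (biW N) (Sum.inr ab.2)
    have h3 := h1.mul h2
    have e : biW N (Sum.inl ab.1) + biW N (Sum.inr ab.2) = (1, 1) := by
      simp [biW]
    rw [e] at h3
    exact h3

theorem Phi_gen_homogeneous (i : Fin N ⊕ Fin N) :
    IsWeightedHomogeneous (biW N)
      (Sum.elim (fun k : Fin N => rename Sum.inl (esymm (Fin N) ℤ ((k : ℕ) + 1)))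
        (fun k : Fin N => rename Sum.inr (esymm (Fin N) ℤ ((k : ℕ) + 1))) i :
          MvPolynomial (Fin N ⊕ Fin N) ℤ) (isoW N i) := by
  rcases i with k | k
  · have h := isWeightedHomogeneous_aeval_esymm (R := ℤ) (I := Fin N) (biW N)
      (fun s : Fin N => (X (Sum.inl s) : MvPolynomial (Fin N ⊕ Fin N) ℤ)) (1, 0)
      (fun s => isWeightedHomogeneous_X ℤ (biW N) (Sum.inl s)) ((k : ℕ) + 1)
    have e : ((k : ℕ) + 1) • ((1, 0) : ℕ × ℕ) = ((k : ℕ) + 1, 0) := by
      ext <;> simp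
    rw [e] at h
    have hr : rename (Sum.inl : Fin N → Fin N ⊕ Fin N) (esymm (Fin N) ℤ ((k : ℕ) + 1)) =
        aeval (fun s : Fin N => (X (Sum.inl s) : MvPolynomial (Fin N ⊕ Fin N) ℤ))
          (esymm (Fin N) ℤ ((k : ℕ) + 1)) := by
      rw [show (fun s : Fin N => (X (Sum.inl s) : MvPolynomial (Fin N ⊕ Fin N) ℤ)) =
        X ∘ Sum.inl from rfl, ← aeval_rename, aeval_X_left_apply]
    show IsWeightedHomogeneous (biW N) (rename Sum.inl (esymm (Fin N) ℤ ((k : ℕ) + 1))) ((k : ℕ) + 1, 0)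
    rw [hr]
    exact h
  · have h := isWeightedHomogeneous_aeval_esymm (R := ℤ) (I := Fin N) (biW N)
      (fun s : Fin N => (X (Sum.inr s) : MvPolynomial (Fin N ⊕ Fin N) ℤ)) (0, 1)
      (fun s => isWeightedHomogeneous_X ℤ (biW N) (Sum.inr s)) ((k : ℕ) + 1)
    have e : ((k : ℕ) + 1) • ((0, 1) : ℕ × ℕ) = (0, (k : ℕ) + 1) := by
      ext <;> simp
    rw [e] at h
    have hr : rename (Sum.inr : Fin N → Fin N ⊕ Fin N) (esymm (Fin N) ℤ ((k : ℕ) + 1)) =
        aeval (fun s : Fin N => (X (Sum.inr s) : MvPolynomial (Fin N ⊕ Fin N) ℤ))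
          (esymm (Fin N) ℤ ((k : ℕ) + 1)) := by
      rw [show (fun s : Fin N => (X (Sum.inr s) : MvPolynomial (Fin N ⊕ Fin N) ℤ)) =
        X ∘ Sum.inr from rfl, ← aeval_rename, aeval_X_left_apply]
    show IsWeightedHomogeneous (biW N) (rename Sum.inr (esymm (Fin N) ℤ ((k : ℕ) + 1))) (0, (k : ℕ) + 1)
    rw [hr]
    exact h

theorem isobaric_of_Phi_bihomogeneous (P : MvPolynomial (Fin N ⊕ Fin N) ℤ) (ν : ℕ × ℕ)
    (h : IsWeightedHomogeneous (biW N) (Phi N P) ν) : IsWeightedHomogeneous (isoW N) P ν :=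
  isWeightedHomogeneous_of_aeval_injective (isoW N) (biW N) _ (Phi_gen_homogeneous N)
    (Phi_injective N) P ν h

theorem exists_mulPoly (n : ℕ) :
    ∃ P : MvPolynomial (Fin N ⊕ Fin N) ℤ, Phi N P = mulGen N n ∧
      IsWeightedHomogeneous (isoW N) P (n, n) := by
  obtain ⟨P, hP⟩ := exists_Phi_eq N (mulGen N n) (fun π ρ => mulGen_bisymmetric N n π ρ)
  refine ⟨P, hP, ?_⟩
  apply isobaric_of_Phi_bihomogeneous
  rw [hP]
  exact mulGen_bihomogeneous N n

end Double

end Groth.Agent.Helper3.LambdaLib
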