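import Groth.Agent.Lib.Helper3.LambdaH

set_option autoImplicit false

namespace Groth.Agent.Helper3.LambdaLib

open MvPolynomial Finset LambdaRing

section Kill

/-- kill the variables of index `≥ m` -/
noncomputable def killFun (M' m : ℕ) : Fin M' → MvPolynomial (Fin m) ℤ :=
  fun a => if h : (a : ℕ) < m then X ⟨a, h⟩ else 0

/-- the specialization killing the variables of index `≥ m` -/
noncomputable def kill (M' m : ℕ) : MvPolynomial (Fin M') ℤ →ₐ[ℤ] MvPolynomial (Fin m) ℤ :=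
  aeval (killFun M' m)

theorem killFun_castLE {M' m : ℕ} (h : m ≤ M') (a : Fin m) :
    killFun M' m (Fin.castLE h a) = X a := by
  unfold killFun
  rw [dif_pos (by simp)]
  rfl

theorem killFun_of_notMem {M' m : ℕ} (h : m ≤ M') (a : Fin M')
    (ha : a ∉ Set.range (Fin.castLEEmb h)) : killFun M' m a = 0 := by
  unfold killFun
  rw [dif_neg]
  intro hlt
  apply ha
  exact ⟨⟨a, hlt⟩, by ext; rfl⟩

theorem kill_esymm {M' m : ℕ} (h : m ≤ M') (j : ℕ) :
    kill M' m (esymm (Fin M') ℤ j) = esymm (Fin m) ℤ j := by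
  unfold kill
  rw [aeval_esymm_specialize (R := ℤ) (Fin.castLEEmb h) (killFun M' m) (X : Fin m → MvPolynomial (Fin m) ℤ)
    (fun a => killFun_castLE h a) (fun a ha => killFun_of_notMem h a ha) j, aeval_X_left_apply]

theorem kill_compGen {M' m : ℕ} (h : m ≤ M') (i j : ℕ) :
    kill M' m (compGen M' i j) = compGen m i j := by
  classical
  rw [compGen_eq_aeval, compGen_eq_aeval]
  have h1 : kill M' m (aeval (fun s : ((Finset.univ : Finset (Fin M')).powersetCard i) =>
      (∏ a ∈ s.1, X a : MvPolynomial (Fin M') ℤ)) (esymm _ ℤ j)) =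
      aeval (fun s : ((Finset.univ : Finset (Fin M')).powersetCard i) =>
        kill M' m (∏ a ∈ s.1, X a : MvPolynomial (Fin M') ℤ)) (esymm _ ℤ j) := by
    have := MvPolynomial.comp_aeval (R := ℤ) (fun s : ((Finset.univ : Finset (Fin M')).powersetCard i) =>
      (∏ a ∈ s.1, X a : MvPolynomial (Fin M') ℤ)) (kill M' m)
    exact congrArg (fun φ : MvPolynomial _ ℤ →ₐ[ℤ] MvPolynomial (Fin m) ℤ => φ (esymm _ ℤ j)) this
  rw [h1]
  -- the embedding of i-subsets
  let c : ((Finset.univ : Finset (Fin m)).powersetCard i) ↪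
      ((Finset.univ : Finset (Fin M')).powersetCard i) :=
    { toFun := fun s => ⟨s.1.map (Fin.castLEEmb h), by
        rw [mem_powersetCard]
        exact ⟨subset_univ _, by rw [card_map]; exact (mem_powersetCard.1 s.2).2⟩⟩
      inj' := by
        intro s s' hss
        apply Subtype.ext
        have := congrArg Subtype.val hss
        exact Finset.map_injective _ this }
  apply aeval_esymm_specialize (R := ℤ) c
  · intro s'
    show kill M' m (∏ a ∈ s'.1.map (Fin.castLEEmb h), X a) = ∏ a ∈ s'.1, X a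
    rw [map_prod, Finset.prod_map]
    apply Finset.prod_congr rfl
    intro a _
    unfold kill
    rw [aeval_X]
    exact killFun_castLE h a
  · intro s hs
    rw [map_prod]
    have : ¬ s.1 ⊆ (Finset.univ : Finset (Fin m)).map (Fin.castLEEmb h) := by
      intro hsub
      rw [Finset.subset_map_iff] at hsub
      obtain ⟨u, _, hu⟩ := hsub
      apply hs
      refine ⟨⟨u, ?_⟩, ?_⟩
      · rw [mem_powersetCard]
        refine ⟨subset_univ _, ?_⟩
        have h2 := (mem_powersetCard.1 s.2).2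
        rw [hu, card_map] at h2
        exact h2
      · apply Subtype.ext
        exact hu.symm
    rw [Finset.not_subset] at this
    obtain ⟨a, has, ha⟩ := this
    apply Finset.prod_eq_zero has
    unfold kill
    rw [aeval_X]
    apply killFun_of_notMem h
    rintro ⟨a', rfl⟩
    exact ha (mem_map_of_mem _ (mem_univ a'))

end Kill

section StabQ

theorem vars_subset_of_isobaric {N n : ℕ} (h : n ≤ N) (Q' : MvPolynomial (Fin N) ℤ)
    (hQ' : IsWeightedHomogeneous (fun k : Fin N => (k : ℕ) + 1) Q' n) :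
    (Q'.vars : Set (Fin N)) ⊆ Set.range (Fin.castLE h) := by
  intro a ha
  rw [Finset.mem_coe, mem_vars_iff_mem_support] at ha
  obtain ⟨d, hd, had⟩ := ha
  have hw : Finsupp.weight (fun k : Fin N => (k : ℕ) + 1) d = n := hQ' (mem_support_iff.1 hd)
  rw [Finsupp.weight_apply, Finsupp.sum] at hw
  have h1 : d a • ((a : ℕ) + 1) ≤ n := by
    rw [← hw]
    exact Finset.single_le_sum (f := fun k => d k • ((k : ℕ) + 1)) (fun _ _ => Nat.zero_le _) had
  have h2 : d a ≠ 0 := Finsupp.mem_support_iff.1 had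
  have h3 : (a : ℕ) + 1 ≤ d a • ((a : ℕ) + 1) := by
    rw [smul_eq_mul]
    exact Nat.le_mul_of_pos_left _ (Nat.pos_of_ne_zero h2)
  have h4 : (a : ℕ) < n := by omega
  exact ⟨⟨a, h4⟩, by ext; rfl⟩

theorem kill_aeval {M' m n : ℕ} (g : Fin n → MvPolynomial (Fin M') ℤ) (Q : MvPolynomial (Fin n) ℤ) :
    kill M' m (aeval g Q) = aeval (fun k => kill M' m (g k)) Q := by
  have := MvPolynomial.comp_aeval (R := ℤ) g (kill M' m)
  exact congrArg (fun φ : MvPolynomial (Fin n) ℤ →ₐ[ℤ] MvPolynomial (Fin m) ℤ => φ Q) this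

theorem kill_aeval_esymm {M' m n : ℕ} (h : m ≤ M') (Q : MvPolynomial (Fin n) ℤ) :
    kill M' m (aeval (fun k : Fin n => esymm (Fin M') ℤ ((k : ℕ) + 1)) Q) =
      aeval (fun k : Fin n => esymm (Fin m) ℤ ((k : ℕ) + 1)) Q := by
  rw [kill_aeval]
  have hfun : ∀ k : Fin n, kill M' m (esymm (Fin M') ℤ ((k : ℕ) + 1)) = esymm (Fin m) ℤ ((k : ℕ) + 1) := by
    intro k
    exact kill_esymm h ((k : ℕ) + 1)
  simp_rw [hfun]

theorem compPoly_stable_aux (n i j : ℕ) (hn : i * j = n) (Q : MvPolynomial (Fin n) ℤ)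
    (hQ1 : aeval (fun k : Fin n => esymm (Fin n) ℤ ((k : ℕ) + 1)) Q = compGen n i j) (N : ℕ) :
    aeval (fun k : Fin n => esymm (Fin N) ℤ ((k : ℕ) + 1)) Q = compGen N i j := by
  rcases le_total n N with h | h
  · -- upward
    obtain ⟨Q', hQ'1, hQ'2⟩ := exists_compPoly N i j
    rw [hn] at hQ'2
    obtain ⟨Q'', hQ''⟩ := exists_rename_eq_of_vars_subset_range Q' (Fin.castLE h)
      (Fin.castLE_injective h) (vars_subset_of_isobaric h Q' hQ'2)
    have e1 : aeval (fun k : Fin N => esymm (Fin N) ℤ ((k : ℕ) + 1)) (rename (Fin.castLE h) Q'') =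
        aeval (fun k : Fin n => esymm (Fin N) ℤ ((k : ℕ) + 1)) Q'' := by
      rw [aeval_rename]
      rfl
    have e2 := kill_aeval_esymm h Q''
    have e3 : aeval (fun k : Fin n => esymm (Fin n) ℤ ((k : ℕ) + 1)) Q'' = compGen n i j := by
      rw [← e2, ← e1, hQ'', hQ'1, kill_compGen h]
    have e4 : Q'' = Q := by
      apply esymmAlgHom_fin_injective ℤ (le_refl n)
      apply Subtype.ext
      rw [esymmAlgHom_apply, esymmAlgHom_apply, e3, hQ1]
    rw [← e4, ← e1, hQ'', hQ'1]
  · -- downward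
    have e2 := kill_aeval_esymm h Q
    rw [← e2, hQ1, kill_compGen h]

theorem compPoly_stable (i j : ℕ) (Q : MvPolynomial (Fin (i * j)) ℤ) (hQ : IsCompPoly i j Q) (N : ℕ) :
    aeval (fun k : Fin (i * j) => esymm (Fin N) ℤ ((k : ℕ) + 1)) Q = compGen N i j :=
  compPoly_stable_aux (i * j) i j rfl Q hQ.1 N

end StabQ

section Kill2

/-- kill, in both families, the variables of index `≥ m` -/
noncomputable def kill2Fun (M' m : ℕ) : Fin M' ⊕ Fin M' → MvPolynomial (Fin m ⊕ Fin m) ℤ :=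
  Sum.elim (fun a => if h : (a : ℕ) < m then X (Sum.inl ⟨a, h⟩) else 0)
    (fun b => if h : (b : ℕ) < m then X (Sum.inr ⟨b, h⟩) else 0)

/-- the specialization killing, in both families, the variables of index `≥ m` -/
noncomputable def kill2 (M' m : ℕ) :
    MvPolynomial (Fin M' ⊕ Fin M') ℤ →ₐ[ℤ] MvPolynomial (Fin m ⊕ Fin m) ℤ :=
  aeval (kill2Fun M' m)

theorem kill2_rename_inl (M' m : ℕ) (p : MvPolynomial (Fin M') ℤ) :
    kill2 M' m (rename Sum.inl p) = rename Sum.inl (kill M' m p) := by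
  have h : (kill2 M' m).comp (rename Sum.inl) = (rename Sum.inl).comp (kill M' m) := by
    apply MvPolynomial.algHom_ext
    intro a
    simp only [AlgHom.comp_apply, rename_X, kill2, kill, aeval_X, kill2Fun, killFun, Sum.elim_inl]
    split_ifs
    · simp
    · simp
  exact congrArg (fun φ : MvPolynomial (Fin M') ℤ →ₐ[ℤ] _ => φ p) h

theorem kill2_rename_inr (M' m : ℕ) (p : MvPolynomial (Fin M') ℤ) :
    kill2 M' m (rename Sum.inr p) = rename Sum.inr (kill M' m p) := by
  have h : (kill2 M' m).comp (rename Sum.inr) = (rename Sum.inr).comp (kill M' m) := by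
    apply MvPolynomial.algHom_ext
    intro a
    simp only [AlgHom.comp_apply, rename_X, kill2, kill, aeval_X, kill2Fun, killFun, Sum.elim_inr]
    split_ifs
    · simp
    · simp
  exact congrArg (fun φ : MvPolynomial (Fin M') ℤ →ₐ[ℤ] _ => φ p) h

theorem kill2_aeval_gens {M' m n : ℕ} (h : m ≤ M') (P : MvPolynomial (Fin n ⊕ Fin n) ℤ) :
    kill2 M' m (aeval (Sum.elim (fun k : Fin n => rename Sum.inl (esymm (Fin M') ℤ ((k : ℕ) + 1)))
      (fun k : Fin n => rename Sum.inr (esymm (Fin M') ℤ ((k : ℕ) + 1)))) P) =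
    aeval (Sum.elim (fun k : Fin n => rename Sum.inl (esymm (Fin m) ℤ ((k : ℕ) + 1)))
      (fun k : Fin n => rename Sum.inr (esymm (Fin m) ℤ ((k : ℕ) + 1)))) P := by
  have h1 := MvPolynomial.comp_aeval (R := ℤ)
    (Sum.elim (fun k : Fin n => rename Sum.inl (esymm (Fin M') ℤ ((k : ℕ) + 1)))
      (fun k : Fin n => rename Sum.inr (esymm (Fin M') ℤ ((k : ℕ) + 1)))) (kill2 M' m)
  have h2 := congrArg (fun φ : MvPolynomial (Fin n ⊕ Fin n) ℤ →ₐ[ℤ] _ => φ P) h1
  simp only [AlgHom.comp_apply] at h2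
  rw [h2]
  have hfun : ∀ v : Fin n ⊕ Fin n,
      kill2 M' m (Sum.elim (fun k : Fin n => rename Sum.inl (esymm (Fin M') ℤ ((k : ℕ) + 1)))
      (fun k : Fin n => rename Sum.inr (esymm (Fin M') ℤ ((k : ℕ) + 1))) v) =
      Sum.elim (fun k : Fin n => rename Sum.inl (esymm (Fin m) ℤ ((k : ℕ) + 1)))
      (fun k : Fin n => rename Sum.inr (esymm (Fin m) ℤ ((k : ℕ) + 1))) v := by
    rintro (k | k)
    · simp only [Sum.elim_inl]
      rw [kill2_rename_inl, kill_esymm h]
    · simp only [Sum.elim_inr]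
      rw [kill2_rename_inr, kill_esymm h]
  simp_rw [hfun]

theorem kill2_mulGen {M' m : ℕ} (h : m ≤ M') (k : ℕ) :
    kill2 M' m (mulGen M' k) = mulGen m k := by
  rw [mulGen_eq_aeval, mulGen_eq_aeval]
  have h1 := MvPolynomial.comp_aeval (R := ℤ) (fun ab : Fin M' × Fin M' =>
      (X (Sum.inl ab.1) * X (Sum.inr ab.2) : MvPolynomial (Fin M' ⊕ Fin M') ℤ)) (kill2 M' m)
  have h2 := congrArg (fun φ : MvPolynomial (Fin M' × Fin M') ℤ →ₐ[ℤ] _ =>
    φ (esymm (Fin M' × Fin M') ℤ k)) h1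
  simp only [AlgHom.comp_apply] at h2
  rw [h2]
  apply aeval_esymm_specialize (R := ℤ) ((Fin.castLEEmb h).prodMap (Fin.castLEEmb h))
  · rintro ⟨a, b⟩
    simp only [Function.Embedding.coe_prodMap, Prod.map_apply, map_mul, kill2, aeval_X, kill2Fun,
      Sum.elim_inl, Sum.elim_inr, Fin.castLEEmb_apply, Fin.val_castLE]
    rw [dif_pos a.2, dif_pos b.2]
  · rintro ⟨a, b⟩ hab
    simp only [map_mul, kill2, aeval_X, kill2Fun, Sum.elim_inl, Sum.elim_inr]
    by_cases ha : (a : ℕ) < m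
    · by_cases hb : (b : ℕ) < m
      · exfalso
        apply hab
        exact ⟨(⟨a, ha⟩, ⟨b, hb⟩), by ext <;> rfl⟩
      · rw [dif_neg hb, mul_zero]
    · rw [dif_neg ha, zero_mul]

end Kill2

section StabP

theorem vars_subset_of_isobaric2 {N n : ℕ} (h : n ≤ N) (P' : MvPolynomial (Fin N ⊕ Fin N) ℤ)
    (hP' : IsWeightedHomogeneous (isoW N) P' (n, n)) :
    (P'.vars : Set (Fin N ⊕ Fin N)) ⊆ Set.range (Sum.map (Fin.castLE h) (Fin.castLE h)) := by
  intro v hv
  rw [Finset.mem_coe, mem_vars_iff_mem_support] at hv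
  obtain ⟨d, hd, hvd⟩ := hv
  have hw : Finsupp.weight (isoW N) d = (n, n) := hP' (mem_support_iff.1 hd)
  rw [Finsupp.weight_apply, Finsupp.sum] at hw
  have h2 : d v ≠ 0 := Finsupp.mem_support_iff.1 hvd
  have hw1 : ∑ x ∈ d.support, d x • (isoW N x).1 = n := by
    have := congrArg Prod.fst hw
    rw [Prod.fst_sum] at this
    simpa using this
  have hw2 : ∑ x ∈ d.support, d x • (isoW N x).2 = n := by
    have := congrArg Prod.snd hw
    rw [Prod.snd_sum] at this
    simpa using this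
  rcases v with a | b
  · have h1 : d (Sum.inl a) • (isoW N (Sum.inl a)).1 ≤ n := by
      rw [← hw1]
      exact Finset.single_le_sum (f := fun x => d x • (isoW N x).1) (fun _ _ => Nat.zero_le _) hvd
    have h3 : (a : ℕ) + 1 ≤ d (Sum.inl a) • ((a : ℕ) + 1) := by
      rw [smul_eq_mul]
      exact Nat.le_mul_of_pos_left _ (Nat.pos_of_ne_zero h2)
    have h4 : (a : ℕ) < n := by
      have : (isoW N (Sum.inl a)).1 = (a : ℕ) + 1 := rfl
      rw [this] at h1
      omega
    exact ⟨Sum.inl ⟨a, h4⟩, by simp [Sum.map]⟩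
  · have h1 : d (Sum.inr b) • (isoW N (Sum.inr b)).2 ≤ n := by
      rw [← hw2]
      exact Finset.single_le_sum (f := fun x => d x • (isoW N x).2) (fun _ _ => Nat.zero_le _) hvd
    have h3 : (b : ℕ) + 1 ≤ d (Sum.inr b) • ((b : ℕ) + 1) := by
      rw [smul_eq_mul]
      exact Nat.le_mul_of_pos_left _ (Nat.pos_of_ne_zero h2)
    have h4 : (b : ℕ) < n := by
      have : (isoW N (Sum.inr b)).2 = (b : ℕ) + 1 := rfl
      rw [this] at h1
      omega
    exact ⟨Sum.inr ⟨b, h4⟩, by simp [Sum.map]⟩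

theorem mulPoly_stable (n : ℕ) (P : MvPolynomial (Fin n ⊕ Fin n) ℤ) (hP : IsMulPoly n P) (N : ℕ) :
    aeval (Sum.elim (fun k : Fin n => rename Sum.inl (esymm (Fin N) ℤ ((k : ℕ) + 1)))
      (fun k : Fin n => rename Sum.inr (esymm (Fin N) ℤ ((k : ℕ) + 1)))) P = mulGen N n := by
  obtain ⟨hP1, hP2⟩ := hP
  rcases le_total n N with h | h
  · obtain ⟨P', hP'1, hP'2⟩ := exists_mulPoly N n
    obtain ⟨P'', hP''⟩ := exists_rename_eq_of_vars_subset_range P'
      (Sum.map (Fin.castLE h) (Fin.castLE h))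
      (Function.Injective.sumMap (Fin.castLE_injective h) (Fin.castLE_injective h))
      (vars_subset_of_isobaric2 h P' hP'2)
    have e1 : Phi N (rename (Sum.map (Fin.castLE h) (Fin.castLE h)) P'') =
        aeval (Sum.elim (fun k : Fin n => rename Sum.inl (esymm (Fin N) ℤ ((k : ℕ) + 1)))
          (fun k : Fin n => rename Sum.inr (esymm (Fin N) ℤ ((k : ℕ) + 1)))) P'' := by
      unfold Phi
      rw [aeval_rename, Sum.elim_comp_map]
      rfl
    have e2 := kill2_aeval_gens h P''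
    have e3 : Phi n P'' = mulGen n n := by
      unfold Phi
      rw [← e2, ← e1, hP'', hP'1, kill2_mulGen h]
    have e4 : P'' = P := by
      apply Phi_injective n
      rw [e3]
      exact hP1.symm
    rw [← e4, ← e1, hP'', hP'1]
  · have e2 := kill2_aeval_gens h P
    rw [← e2, hP1, kill2_mulGen h]

end StabP

end Groth.Agent.Helper3.LambdaLib
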