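import Groth.Agent.Lib.Helper3.LambdaE
import Groth.Agent.Lib.Helper3.LambdaI

set_option autoImplicit false

namespace Groth.Agent.Helper3.LambdaLib

open LambdaRing

universe u

section LogD

open PowerSeries

variable {A : Type*} [CommRing A]

/-- logarithmic derivative of a power series (meaningful when the constant coefficient is 1) -/
noncomputable def logD (f : PowerSeries A) : PowerSeries A :=
  derivative A f * f.invOfUnit 1

theorem logD_one : logD (1 : PowerSeries A) = 0 := by
  unfold logD
  rw [Derivation.map_one_eq_zero, zero_mul]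

theorem invOfUnit_mul (f g : PowerSeries A) (hf : constantCoeff f = 1) (hg : constantCoeff g = 1) :
    (f * g).invOfUnit 1 = f.invOfUnit 1 * g.invOfUnit 1 := by
  apply invOfUnit_eq_of_mul_eq_one
  · rw [map_mul, hf, hg, mul_one]
  · have h1 : f.invOfUnit 1 * f = 1 := by
      rw [mul_comm]; exact mul_invOfUnit f 1 (by rw [hf]; rfl)
    have h2 : g.invOfUnit 1 * g = 1 := by
      rw [mul_comm]; exact mul_invOfUnit g 1 (by rw [hg]; rfl)
    calc f.invOfUnit 1 * g.invOfUnit 1 * (f * g)
        = (f.invOfUnit 1 * f) * (g.invOfUnit 1 * g) := by ring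
      _ = 1 := by rw [h1, h2, mul_one]

theorem logD_mul (f g : PowerSeries A) (hf : constantCoeff f = 1) (hg : constantCoeff g = 1) :
    logD (f * g) = logD f + logD g := by
  unfold logD
  rw [invOfUnit_mul f g hf hg, Derivation.leibniz, smul_eq_mul, smul_eq_mul]
  have h1 : f * f.invOfUnit 1 = 1 := mul_invOfUnit f 1 (by rw [hf]; rfl)
  have h2 : g * g.invOfUnit 1 = 1 := mul_invOfUnit g 1 (by rw [hg]; rfl)
  calc (f * derivative A g + g * derivative A f) * (f.invOfUnit 1 * g.invOfUnit 1)
      = (f * f.invOfUnit 1) * (derivative A g * g.invOfUnit 1) +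
        (g * g.invOfUnit 1) * (derivative A f * f.invOfUnit 1) := by ring
    _ = derivative A f * f.invOfUnit 1 + derivative A g * g.invOfUnit 1 := by
        rw [h1, h2, one_mul, one_mul, add_comm]

theorem constantCoeff_multiset_prod (s : Multiset (PowerSeries A))
    (hs : ∀ f ∈ s, constantCoeff f = 1) : constantCoeff s.prod = 1 := by
  induction s using Multiset.induction_on with
  | empty => simp
  | cons a s ih =>
    rw [Multiset.prod_cons, map_mul, hs a (Multiset.mem_cons_self a s),
      ih (fun f hf => hs f (Multiset.mem_cons_of_mem hf)), mul_one]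

theorem logD_multiset_prod (s : Multiset (PowerSeries A))
    (hs : ∀ f ∈ s, constantCoeff f = 1) : logD s.prod = (s.map logD).sum := by
  induction s using Multiset.induction_on with
  | empty => simp [logD_one]
  | cons a s ih =>
    rw [Multiset.prod_cons, Multiset.map_cons, Multiset.sum_cons,
      logD_mul a s.prod (hs a (Multiset.mem_cons_self a s))
        (constantCoeff_multiset_prod s (fun f hf => hs f (Multiset.mem_cons_of_mem hf))),
      ih (fun f hf => hs f (Multiset.mem_cons_of_mem hf))]

theorem invOfUnit_one_add_C_mul_X (z : A) :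
    (1 + C z * X : PowerSeries A).invOfUnit 1 = PowerSeries.mk (fun k => (-z) ^ k) := by
  apply invOfUnit_eq_of_mul_eq_one
  · simp
  · ext n
    rw [mul_add, mul_one, map_add, ← mul_assoc, coeff_mk]
    rcases n with _ | n
    · simp
    · rw [coeff_succ_mul_X, coeff_mul_C, coeff_mk, coeff_one, if_neg (Nat.succ_ne_zero n)]
      ring

theorem coeff_logD_one_add_C_mul_X (z : A) (k : ℕ) :
    coeff k (logD (1 + C z * X : PowerSeries A)) = (-1) ^ k * z ^ (k + 1) := by
  unfold logD
  rw [invOfUnit_one_add_C_mul_X]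
  have hd : derivative A (1 + C z * X : PowerSeries A) = C z := by
    ext n
    rw [coeff_derivative, map_add, coeff_one, if_neg (Nat.succ_ne_zero n), zero_add,
      coeff_succ_mul_X, coeff_C]
    rcases n with _ | n
    · simp
    · simp
  rw [hd, coeff_C_mul, coeff_mk]
  ring

theorem esymm_cons (a : A) (s : Multiset A) (k : ℕ) :
    (a ::ₘ s).esymm (k + 1) = s.esymm (k + 1) + a * s.esymm k := by
  unfold Multiset.esymm
  rw [Multiset.powersetCard_cons, Multiset.map_add, Multiset.sum_add, Multiset.map_map]
  congr 1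
  have : (Multiset.prod ∘ Multiset.cons a) = fun t : Multiset A => a * t.prod := by
    funext t
    simp
  rw [this, Multiset.sum_map_mul_left]

theorem esymm_zero' (s : Multiset A) : s.esymm 0 = 1 := by
  unfold Multiset.esymm
  simp

theorem coeff_multiset_prod_one_add (s : Multiset A) (k : ℕ) :
    coeff k ((s.map (fun z => (1 + C z * X : PowerSeries A))).prod) = s.esymm k := by
  induction s using Multiset.induction_on generalizing k with
  | empty =>
    rcases k with _ | k
    · simp [esymm_zero']
    · simp [Multiset.esymm, coeff_one]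
  | cons a s ih =>
    rw [Multiset.map_cons, Multiset.prod_cons, add_mul, one_mul, map_add]
    rcases k with _ | k
    · rw [esymm_zero', ih 0, esymm_zero']
      simp
    · rw [esymm_cons, ih (k + 1)]
      congr 1
      rw [mul_assoc, coeff_C_mul, mul_comm X, coeff_succ_mul_X, ih k]

theorem coeff_logD_multiset_prod (s : Multiset A) (k : ℕ) :
    coeff k (logD ((s.map (fun z => (1 + C z * X : PowerSeries A))).prod)) =
      (-1) ^ k * (s.map (fun z => z ^ (k + 1))).sum := by
  rw [logD_multiset_prod, Multiset.map_map, map_multiset_sum, Multiset.map_map]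
  · have : (⇑(coeff k) ∘ logD ∘ fun z => (1 + C z * X : PowerSeries A)) =
        fun z => (-1) ^ k * z ^ (k + 1) := by
      funext z
      exact coeff_logD_one_add_C_mul_X z k
    rw [this, Multiset.sum_map_mul_left]
  · intro f hf
    rw [Multiset.mem_map] at hf
    obtain ⟨z, _, rfl⟩ := hf
    simp

theorem map_invOfUnit {B : Type*} [CommRing B] (φ : A →+* B) (f : PowerSeries A)
    (hf : constantCoeff f = 1) :
    PowerSeries.map φ (f.invOfUnit 1) = (PowerSeries.map φ f).invOfUnit 1 := by
  symm
  apply invOfUnit_eq_of_mul_eq_one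
  · rw [← coeff_zero_eq_constantCoeff_apply, coeff_map, coeff_zero_eq_constantCoeff_apply, hf,
      map_one]
  · rw [← map_mul, mul_comm, mul_invOfUnit f 1 (by rw [hf]; rfl), map_one]

theorem map_logD {B : Type*} [CommRing B] (φ : A →+* B) (f : PowerSeries A)
    (hf : constantCoeff f = 1) :
    PowerSeries.map φ (logD f) = logD (PowerSeries.map φ f) := by
  unfold logD
  rw [map_mul, derivative_map, map_invOfUnit φ f hf]

end LogD

section Univ

open MvPolynomial

/-- the universal series `1 + Σ X_i t^(i+1)` -/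
noncomputable def uSeries : PowerSeries (MvPolynomial ℕ ℤ) :=
  PowerSeries.mk (fun i => Nat.casesOn i 1 (fun j => X j))

theorem constantCoeff_uSeries : PowerSeries.constantCoeff uSeries = 1 := by
  rw [← PowerSeries.coeff_zero_eq_constantCoeff_apply, uSeries, PowerSeries.coeff_mk]
  rfl

/-- universal Adams polynomials: `nu k` evaluated at `λ^1 x, λ^2 x, …` is `ψ^k x` -/
noncomputable def nu : ℕ → MvPolynomial ℕ ℤ
  | 0 => 0
  | k + 1 => (-1) ^ k * PowerSeries.coeff k (logD uSeries)

theorem map_nu_succ {B : Type*} [CommRing B] (φ : MvPolynomial ℕ ℤ →+* B) (k : ℕ) :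
    φ (nu (k + 1)) = (-1) ^ k * PowerSeries.coeff k (logD (PowerSeries.map φ uSeries)) := by
  rw [nu, map_mul, map_pow, map_neg, map_one, ← map_logD φ uSeries constantCoeff_uSeries,
    PowerSeries.coeff_map]

variable {K : Type u} [CommRing K] [LambdaOps K]

/-- evaluation of a universal polynomial at `λ^1 x, λ^2 x, …` -/
noncomputable def evLam (x : K) : MvPolynomial ℕ ℤ →ₐ[ℤ] K :=
  aeval (fun i : ℕ => LambdaOps.lam (i + 1) x)

theorem map_evLam_uSeries (x : K) :
    PowerSeries.map (evLam x).toRingHom uSeries = lamSeries x := by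
  ext n
  rw [PowerSeries.coeff_map, uSeries, PowerSeries.coeff_mk, coeff_lamSeries]
  rcases n with _ | n
  · simp [LambdaOps.lam_zero]
  · simp [evLam]

theorem evLam_nu (k : ℕ) (x : K) : evLam x (nu k) = adamsOp k x := by
  rcases k with _ | k
  · simp [nu, adamsOp]
  · have := map_nu_succ (evLam x).toRingHom k
    rw [map_evLam_uSeries] at this
    rw [adamsOp_succ]
    exact this

/-- evaluation of a universal polynomial at the elementary symmetric functions of a multiset -/
theorem aeval_esymm_nu {B : Type*} [CommRing B] [Algebra ℤ B] (s : Multiset B) (k : ℕ) :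
    aeval (fun i : ℕ => s.esymm (i + 1)) (nu (k + 1)) = (s.map (fun z => z ^ (k + 1))).sum := by
  have h := map_nu_succ (aeval (fun i : ℕ => s.esymm (i + 1)) : MvPolynomial ℕ ℤ →ₐ[ℤ] B).toRingHom k
  have hmap : PowerSeries.map (aeval (fun i : ℕ => s.esymm (i + 1)) : MvPolynomial ℕ ℤ →ₐ[ℤ] B).toRingHom
      uSeries = (s.map (fun z => (1 + PowerSeries.C z * PowerSeries.X : PowerSeries B))).prod := by
    ext n
    rw [PowerSeries.coeff_map, uSeries, PowerSeries.coeff_mk, coeff_multiset_prod_one_add]
    rcases n with _ | n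
    · simp [esymm_zero']
    · simp
  rw [hmap, coeff_logD_multiset_prod, ← mul_assoc, ← mul_pow] at h
  simpa using h

end Univ

section Principle

open MvPolynomial

/-- substitution of the elementary symmetric functions of `N` variables -/
noncomputable def sN (N : ℕ) : MvPolynomial ℕ ℤ →ₐ[ℤ] MvPolynomial (Fin N) ℤ :=
  aeval (fun i : ℕ => esymm (Fin N) ℤ (i + 1))

/-- double substitution of elementary symmetric functions of two families of `N` variables -/
noncomputable def SN (N : ℕ) : MvPolynomial (ℕ ⊕ ℕ) ℤ →ₐ[ℤ] MvPolynomial (Fin N ⊕ Fin N) ℤ :=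
  aeval (Sum.elim (fun i : ℕ => rename Sum.inl (esymm (Fin N) ℤ (i + 1)))
    (fun i : ℕ => rename Sum.inr (esymm (Fin N) ℤ (i + 1))))

theorem eq_of_sN_eq (F G : MvPolynomial ℕ ℤ) (h : ∀ N, sN N F = sN N G) : F = G := by
  rw [← sub_eq_zero]
  set D := F - G with hD
  set N := D.vars.sup id + 1 with hN
  have hvars : (D.vars : Set ℕ) ⊆ Set.range (Fin.val : Fin N → ℕ) := by
    intro a ha
    have : a ≤ D.vars.sup id := Finset.le_sup (f := id) ha
    exact ⟨⟨a, by omega⟩, rfl⟩
  obtain ⟨q, hq⟩ := exists_rename_eq_of_vars_subset_range D Fin.val Fin.val_injective hvars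
  have h0 : sN N D = 0 := by rw [hD, map_sub, h N, sub_self]
  rw [← hq] at h0
  have h1 : sN N (rename Fin.val q) = aeval (fun k : Fin N => esymm (Fin N) ℤ ((k : ℕ) + 1)) q := by
    unfold sN
    rw [aeval_rename]
    rfl
  rw [h1] at h0
  have hq0 : q = 0 := by
    apply esymmAlgHom_fin_injective ℤ (le_refl N)
    apply Subtype.ext
    rw [esymmAlgHom_apply, map_zero, h0]
    rfl
  rw [← hq, hq0, map_zero]

theorem eq_of_SN_eq (F G : MvPolynomial (ℕ ⊕ ℕ) ℤ) (h : ∀ N, SN N F = SN N G) : F = G := by
  rw [← sub_eq_zero]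
  set D := F - G with hD
  set N := D.vars.sup (Sum.elim id id) + 1 with hN
  have hvars : (D.vars : Set (ℕ ⊕ ℕ)) ⊆
      Set.range (Sum.map (Fin.val : Fin N → ℕ) (Fin.val : Fin N → ℕ)) := by
    intro a ha
    have : Sum.elim id id a ≤ D.vars.sup (Sum.elim id id) := Finset.le_sup (f := Sum.elim id id) ha
    rcases a with a | a
    · exact ⟨Sum.inl ⟨a, by simp at this; omega⟩, rfl⟩
    · exact ⟨Sum.inr ⟨a, by simp at this; omega⟩, rfl⟩
  obtain ⟨q, hq⟩ := exists_rename_eq_of_vars_subset_range D
    (Sum.map (Fin.val : Fin N → ℕ) (Fin.val : Fin N → ℕ))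
    (Function.Injective.sumMap Fin.val_injective Fin.val_injective) hvars
  have h0 : SN N D = 0 := by rw [hD, map_sub, h N, sub_self]
  rw [← hq] at h0
  have h1 : SN N (rename (Sum.map (Fin.val : Fin N → ℕ) (Fin.val : Fin N → ℕ)) q) = Phi N q := by
    unfold SN Phi
    rw [aeval_rename, Sum.elim_comp_map]
    rfl
  rw [h1] at h0
  have hq0 : q = 0 := by
    apply Phi_injective N
    rw [h0, map_zero]
  rw [← hq, hq0, map_zero]

end Principle

end Groth.Agent.Helper3.LambdaLib
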