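import Groth.Agent.Lib.Helper3.LambdaJ

set_option autoImplicit false

namespace Groth.Agent.Helper3.LambdaLib

open LambdaRing MvPolynomial

universe u

section MulAdams

variable {K : Type u} [CommRing K] [LambdaOps K]

/-- evaluation of a universal polynomial in two families at `λ^i x`, `λ^i y` -/
noncomputable def evLam2 (x y : K) : MvPolynomial (ℕ ⊕ ℕ) ℤ →ₐ[ℤ] K :=
  aeval (Sum.elim (fun i : ℕ => LambdaOps.lam (i + 1) x) (fun i : ℕ => LambdaOps.lam (i + 1) y))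

theorem evLam2_rename_inl (x y : K) (F : MvPolynomial ℕ ℤ) :
    evLam2 x y (rename Sum.inl F) = evLam x F := by
  unfold evLam2 evLam
  rw [aeval_rename]
  rfl

theorem evLam2_rename_inr (x y : K) (F : MvPolynomial ℕ ℤ) :
    evLam2 x y (rename Sum.inr F) = evLam y F := by
  unfold evLam2 evLam
  rw [aeval_rename]
  rfl

/-- lift of a polynomial in `Fin n ⊕ Fin n` variables to `ℕ ⊕ ℕ` variables -/
noncomputable def liftP {n : ℕ} (P : MvPolynomial (Fin n ⊕ Fin n) ℤ) : MvPolynomial (ℕ ⊕ ℕ) ℤ :=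
  rename (Sum.map Fin.val Fin.val) P

theorem evLam2_liftP (hK : IsSpecial K) {n : ℕ} (P : MvPolynomial (Fin n ⊕ Fin n) ℤ)
    (hP : IsMulPoly n P) (x y : K) : evLam2 x y (liftP P) = LambdaOps.lam n (x * y) := by
  unfold evLam2 liftP
  rw [aeval_rename, Sum.elim_comp_map, hK.lam_mul n P hP x y]
  rfl

theorem SN_liftP {n : ℕ} (P : MvPolynomial (Fin n ⊕ Fin n) ℤ) (hP : IsMulPoly n P) (N : ℕ) :
    SN N (liftP P) = mulGen N n := by
  unfold SN liftP
  rw [aeval_rename, Sum.elim_comp_map, ← mulPoly_stable n P hP N]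
  rfl

theorem sN_nu (N k : ℕ) : sN N (nu (k + 1)) = ∑ a : Fin N, (X a : MvPolynomial (Fin N) ℤ) ^ (k + 1) := by
  unfold sN
  have h : (fun i : ℕ => esymm (Fin N) ℤ (i + 1)) =
      fun i : ℕ => ((Finset.univ : Finset (Fin N)).val.map (X : Fin N → MvPolynomial (Fin N) ℤ)).esymm (i + 1) := by
    funext i
    rw [esymm_eq_multiset_esymm]
  rw [h, aeval_esymm_nu, Multiset.map_map]
  rfl

theorem SN_rename_inl (N : ℕ) (F : MvPolynomial ℕ ℤ) :
    SN N (rename Sum.inl F) = rename Sum.inl (sN N F) := by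
  have h : (SN N).comp (rename Sum.inl) = (rename Sum.inl).comp (sN N) := by
    apply MvPolynomial.algHom_ext
    intro i
    simp [SN, sN]
  exact congrArg (fun φ : MvPolynomial ℕ ℤ →ₐ[ℤ] _ => φ F) h

theorem SN_rename_inr (N : ℕ) (F : MvPolynomial ℕ ℤ) :
    SN N (rename Sum.inr F) = rename Sum.inr (sN N F) := by
  have h : (SN N).comp (rename Sum.inr) = (rename Sum.inr).comp (sN N) := by
    apply MvPolynomial.algHom_ext
    intro i
    simp [SN, sN]
  exact congrArg (fun φ : MvPolynomial ℕ ℤ →ₐ[ℤ] _ => φ F) h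

theorem universal_mul (Pf : ∀ n : ℕ, MvPolynomial (Fin n ⊕ Fin n) ℤ)
    (hPf : ∀ n, IsMulPoly n (Pf n)) (k : ℕ) :
    aeval (fun i : ℕ => liftP (Pf (i + 1))) (nu (k + 1)) =
      rename Sum.inl (nu (k + 1)) * rename Sum.inr (nu (k + 1)) := by
  apply eq_of_SN_eq
  intro N
  have h1 : SN N (aeval (fun i : ℕ => liftP (Pf (i + 1))) (nu (k + 1))) =
      aeval (fun i : ℕ => SN N (liftP (Pf (i + 1)))) (nu (k + 1)) := by
    have := MvPolynomial.comp_aeval (R := ℤ) (fun i : ℕ => liftP (Pf (i + 1))) (SN N)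
    exact congrArg (fun φ : MvPolynomial ℕ ℤ →ₐ[ℤ] _ => φ (nu (k + 1))) this
  rw [h1]
  have h2 : ∀ i : ℕ, SN N (liftP (Pf (i + 1))) =
      ((Finset.univ : Finset (Fin N × Fin N)).val.map
        fun ab => (X (Sum.inl ab.1) * X (Sum.inr ab.2) : MvPolynomial (Fin N ⊕ Fin N) ℤ)).esymm (i + 1) := by
    intro i
    rw [SN_liftP _ (hPf (i + 1))]
    rfl
  simp_rw [h2]
  rw [aeval_esymm_nu, map_mul, SN_rename_inl, SN_rename_inr, sN_nu, map_sum, map_sum,
    Multiset.map_map]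
  simp only [map_pow, rename_X]
  rw [Finset.sum_mul_sum]
  show ∑ ab : Fin N × Fin N, (X (Sum.inl ab.1) * X (Sum.inr ab.2) : MvPolynomial (Fin N ⊕ Fin N) ℤ) ^ (k + 1) = _
  rw [Fintype.sum_prod_type]
  apply Finset.sum_congr rfl
  intro a _
  apply Finset.sum_congr rfl
  intro b _
  rw [mul_pow]

theorem adamsOp_mul_of_special (hK : IsSpecial K)
    (hP : ∀ n : ℕ, ∃ P : MvPolynomial (Fin n ⊕ Fin n) ℤ, IsMulPoly n P)
    (k : ℕ) (hk : 1 ≤ k) (x y : K) :
    adamsOp k (x * y) = adamsOp k x * adamsOp k y := by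
  obtain ⟨k, rfl⟩ : ∃ m, k = m + 1 := ⟨k - 1, by omega⟩
  choose Pf hPf using hP
  have hu := universal_mul Pf hPf k
  have h1 := congrArg (evLam2 x y) hu
  rw [map_mul, evLam2_rename_inl, evLam2_rename_inr, evLam_nu, evLam_nu] at h1
  rw [← h1]
  have h2 : evLam2 x y (aeval (fun i : ℕ => liftP (Pf (i + 1))) (nu (k + 1))) =
      aeval (fun i : ℕ => evLam2 x y (liftP (Pf (i + 1)))) (nu (k + 1)) := by
    have := MvPolynomial.comp_aeval (R := ℤ) (fun i : ℕ => liftP (Pf (i + 1))) (evLam2 x y)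
    exact congrArg (fun φ : MvPolynomial ℕ ℤ →ₐ[ℤ] _ => φ (nu (k + 1))) this
  rw [h2]
  have h3 : ∀ i : ℕ, evLam2 x y (liftP (Pf (i + 1))) = LambdaOps.lam (i + 1) (x * y) :=
    fun i => evLam2_liftP hK _ (hPf (i + 1)) x y
  simp_rw [h3]
  exact (evLam_nu (k + 1) (x * y)).symm

end MulAdams

end Groth.Agent.Helper3.LambdaLib
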