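import Groth.Agent.Lib.Helper3.LambdaK

set_option autoImplicit false

namespace Groth.Agent.Helper3.LambdaLib

open LambdaRing MvPolynomial

universe u

section CompAdams

variable {K : Type u} [CommRing K] [LambdaOps K]

/-- lift of a polynomial in `Fin n` variables to `ℕ` variables -/
noncomputable def liftQ {n : ℕ} (Q : MvPolynomial (Fin n) ℤ) : MvPolynomial ℕ ℤ :=
  rename Fin.val Q

theorem evLam_liftQ (hK : IsSpecial K) {i j : ℕ} (Q : MvPolynomial (Fin (i * j)) ℤ)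
    (hQ : IsCompPoly i j Q) (x : K) :
    evLam x (liftQ Q) = LambdaOps.lam j (LambdaOps.lam i x) := by
  unfold evLam liftQ
  rw [aeval_rename, hK.lam_lam i j Q hQ x]
  rfl

theorem sN_liftQ {i j : ℕ} (Q : MvPolynomial (Fin (i * j)) ℤ) (hQ : IsCompPoly i j Q) (N : ℕ) :
    sN N (liftQ Q) = compGen N i j := by
  unfold sN liftQ
  rw [aeval_rename, ← compPoly_stable i j Q hQ N]
  rfl

theorem evLam_aeval (x : K) (g : ℕ → MvPolynomial ℕ ℤ) (F : MvPolynomial ℕ ℤ) :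
    evLam x (aeval g F) = aeval (fun i => evLam x (g i)) F := by
  have := MvPolynomial.comp_aeval (R := ℤ) g (evLam x)
  exact congrArg (fun φ : MvPolynomial ℕ ℤ →ₐ[ℤ] K => φ F) this

theorem sN_aeval (N : ℕ) (g : ℕ → MvPolynomial ℕ ℤ) (F : MvPolynomial ℕ ℤ) :
    sN N (aeval g F) = aeval (fun i => sN N (g i)) F := by
  have := MvPolynomial.comp_aeval (R := ℤ) g (sN N)
  exact congrArg (fun φ : MvPolynomial ℕ ℤ →ₐ[ℤ] _ => φ F) this

/-- the universal polynomial for `ψ^k ∘ λ^i` -/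
noncomputable def Rpoly (Qf : ∀ i j : ℕ, MvPolynomial (Fin (i * j)) ℤ) (k i : ℕ) : MvPolynomial ℕ ℤ :=
  aeval (fun j : ℕ => liftQ (Qf i (j + 1))) (nu k)

theorem evLam_Rpoly (hK : IsSpecial K) (Qf : ∀ i j : ℕ, MvPolynomial (Fin (i * j)) ℤ)
    (hQf : ∀ i j, IsCompPoly i j (Qf i j)) (k i : ℕ) (x : K) :
    evLam x (Rpoly Qf k i) = adamsOp k (LambdaOps.lam i x) := by
  unfold Rpoly
  rw [evLam_aeval]
  have h : ∀ j : ℕ, evLam x (liftQ (Qf i (j + 1))) = LambdaOps.lam (j + 1) (LambdaOps.lam i x) :=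
    fun j => evLam_liftQ hK _ (hQf i (j + 1)) x
  simp_rw [h]
  exact evLam_nu k (LambdaOps.lam i x)

theorem sN_Rpoly (Qf : ∀ i j : ℕ, MvPolynomial (Fin (i * j)) ℤ)
    (hQf : ∀ i j, IsCompPoly i j (Qf i j)) (k i N : ℕ) :
    sN N (Rpoly Qf (k + 1) i) =
      ((Finset.univ : Finset (Fin N)).val.map
        (fun a => (X a : MvPolynomial (Fin N) ℤ) ^ (k + 1))).esymm i := by
  unfold Rpoly
  rw [sN_aeval]
  have h : ∀ j : ℕ, sN N (liftQ (Qf i (j + 1))) =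
      (((Finset.univ : Finset (Fin N)).powersetCard i).val.map
        fun s => (∏ a ∈ s, X a : MvPolynomial (Fin N) ℤ)).esymm (j + 1) := by
    intro j
    rw [sN_liftQ _ (hQf i (j + 1))]
    rfl
  simp_rw [h]
  rw [aeval_esymm_nu, Multiset.map_map, Finset.esymm_map_val]
  show ∑ s ∈ (Finset.univ : Finset (Fin N)).powersetCard i, (∏ a ∈ s, X a : MvPolynomial (Fin N) ℤ) ^ (k + 1) = _
  apply Finset.sum_congr rfl
  intro s _
  rw [Finset.prod_pow]

theorem universal_comp (Qf : ∀ i j : ℕ, MvPolynomial (Fin (i * j)) ℤ)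
    (hQf : ∀ i j, IsCompPoly i j (Qf i j)) (k k' : ℕ) :
    aeval (fun i : ℕ => Rpoly Qf (k + 1) (i + 1)) (nu (k' + 1)) = nu ((k + 1) * (k' + 1)) := by
  apply eq_of_sN_eq
  intro N
  rw [sN_aeval]
  simp_rw [sN_Rpoly Qf hQf]
  rw [aeval_esymm_nu, Multiset.map_map]
  have e : (k + 1) * (k' + 1) = (k * k' + k + k') + 1 := by ring
  rw [e, sN_nu]
  show ∑ a : Fin N, ((X a : MvPolynomial (Fin N) ℤ) ^ (k + 1)) ^ (k' + 1) = _
  apply Finset.sum_congr rfl
  intro a _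
  rw [← pow_mul, e]

/-- `ψ^k` as a ring endomorphism of a special λ-ring -/
noncomputable def psiHom (hK : IsSpecial K)
    (hP : ∀ n : ℕ, ∃ P : MvPolynomial (Fin n ⊕ Fin n) ℤ, IsMulPoly n P) (k : ℕ) (hk : 1 ≤ k) :
    K →+* K where
  toFun := adamsOp k
  map_one' := adamsOp_one_eq hK.lam_one_eq_zero k hk
  map_mul' := adamsOp_mul_of_special hK hP k hk
  map_zero' := by
    have := adamsOp_add k (0 : K) 0
    rw [add_zero] at this
    exact left_eq_add.mp this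
  map_add' := adamsOp_add k

theorem adamsOp_evLam (hK : IsSpecial K)
    (hP : ∀ n : ℕ, ∃ P : MvPolynomial (Fin n ⊕ Fin n) ℤ, IsMulPoly n P) (k : ℕ) (hk : 1 ≤ k)
    (x : K) (F : MvPolynomial ℕ ℤ) :
    adamsOp k (evLam x F) = aeval (fun i : ℕ => adamsOp k (LambdaOps.lam (i + 1) x)) F := by
  have h : (psiHom hK hP k hk).comp (evLam x).toRingHom =
      (aeval (fun i : ℕ => adamsOp k (LambdaOps.lam (i + 1) x)) : MvPolynomial ℕ ℤ →ₐ[ℤ] K).toRingHom := by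
    apply MvPolynomial.ringHom_ext
    · intro r
      simp
    · intro i
      simp [evLam, psiHom]
  exact congrArg (fun φ : MvPolynomial ℕ ℤ →+* K => φ F) h

theorem adamsOp_adamsOp_of_special (hK : IsSpecial K)
    (hP : ∀ n : ℕ, ∃ P : MvPolynomial (Fin n ⊕ Fin n) ℤ, IsMulPoly n P)
    (hQ : ∀ i j : ℕ, ∃ Q : MvPolynomial (Fin (i * j)) ℤ, IsCompPoly i j Q)
    (k k' : ℕ) (hk : 1 ≤ k) (hk' : 1 ≤ k') (x : K) :
    adamsOp k (adamsOp k' x) = adamsOp (k * k') x := by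
  obtain ⟨k, rfl⟩ : ∃ m, k = m + 1 := ⟨k - 1, by omega⟩
  obtain ⟨k', rfl⟩ : ∃ m, k' = m + 1 := ⟨k' - 1, by omega⟩
  choose Qf hQf using hQ
  rw [← evLam_nu (k' + 1) x, adamsOp_evLam hK hP (k + 1) hk]
  have h : ∀ i : ℕ, adamsOp (k + 1) (LambdaOps.lam (i + 1) x) = evLam x (Rpoly Qf (k + 1) (i + 1)) :=
    fun i => (evLam_Rpoly hK Qf hQf (k + 1) (i + 1) x).symm
  simp_rw [h]
  rw [← evLam_aeval, universal_comp Qf hQf k k', evLam_nu]

end CompAdams

end Groth.Agent.Helper3.LambdaLib
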