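import Groth.Agent.Lib.Helper3.LambdaL

set_option autoImplicit false

namespace Groth.Agent.Helper3.LambdaLib

open LambdaRing

universe u

section Newton

open PowerSeries

variable {A : Type*} [CommRing A]

theorem derivative_eq_logD_mul (f : PowerSeries A) (hf : constantCoeff f = 1) :
    derivative A f = logD f * f := by
  unfold logD
  rw [mul_assoc, mul_comm (f.invOfUnit 1) f, mul_invOfUnit f 1 (by rw [hf]; rfl), mul_one]

theorem newton_multiset (s : Multiset A) (n : ℕ) :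
    ((n : A) + 1) * s.esymm (n + 1) =
      ∑ p ∈ Finset.HasAntidiagonal.antidiagonal n,
        (-1) ^ p.1 * (s.map (fun z => z ^ (p.1 + 1))).sum * s.esymm p.2 := by
  set f := (s.map (fun z => (1 + C z * X : PowerSeries A))).prod with hf
  have hc : constantCoeff f = 1 := by
    apply constantCoeff_multiset_prod
    intro g hg
    rw [Multiset.mem_map] at hg
    obtain ⟨z, _, rfl⟩ := hg
    simp
  have h := congrArg (coeff n) (derivative_eq_logD_mul f hc)
  rw [coeff_derivative, coeff_mul] at h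
  simp_rw [hf, coeff_logD_multiset_prod, coeff_multiset_prod_one_add] at h
  rw [mul_comm]
  exact h

end Newton

section UnivId

open MvPolynomial

/-- the universal polynomial for `ψ^k x · ψ^k y` -/
noncomputable def pp (k : ℕ) : MvPolynomial (ℕ ⊕ ℕ) ℤ :=
  rename Sum.inl (nu k) * rename Sum.inr (nu k)

theorem SN_pp (N k : ℕ) :
    SN N (pp (k + 1)) =
      (((Finset.univ : Finset (Fin N × Fin N)).val.map
        fun ab => (X (Sum.inl ab.1) * X (Sum.inr ab.2) : MvPolynomial (Fin N ⊕ Fin N) ℤ)).map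
          (fun z => z ^ (k + 1))).sum := by
  unfold pp
  rw [map_mul, SN_rename_inl, SN_rename_inr, sN_nu, map_sum, map_sum, Multiset.map_map]
  simp only [map_pow, rename_X]
  rw [Finset.sum_mul_sum]
  show _ = ∑ ab : Fin N × Fin N, (X (Sum.inl ab.1) * X (Sum.inr ab.2) : MvPolynomial (Fin N ⊕ Fin N) ℤ) ^ (k + 1)
  rw [Fintype.sum_prod_type]
  apply Finset.sum_congr rfl
  intro a _
  apply Finset.sum_congr rfl
  intro b _
  rw [mul_pow]

theorem SN_liftP' {n : ℕ} (P : MvPolynomial (Fin n ⊕ Fin n) ℤ) (hP : IsMulPoly n P) (N : ℕ) :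
    SN N (liftP P) = ((Finset.univ : Finset (Fin N × Fin N)).val.map
        fun ab => (X (Sum.inl ab.1) * X (Sum.inr ab.2) : MvPolynomial (Fin N ⊕ Fin N) ℤ)).esymm n :=
  SN_liftP P hP N

theorem universal_newton_mul (Pf : ∀ n : ℕ, MvPolynomial (Fin n ⊕ Fin n) ℤ)
    (hPf : ∀ n, IsMulPoly n (Pf n)) (m : ℕ) :
    ((m : MvPolynomial (ℕ ⊕ ℕ) ℤ) + 1) * liftP (Pf (m + 1)) =
      ∑ p ∈ Finset.HasAntidiagonal.antidiagonal m, (-1) ^ p.1 * pp (p.1 + 1) * liftP (Pf p.2) := by
  apply eq_of_SN_eq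
  intro N
  rw [map_mul, map_add, map_natCast, map_one, map_sum]
  simp only [map_mul, map_pow, map_neg, map_one]
  simp_rw [SN_pp, SN_liftP' _ (hPf _)]
  exact newton_multiset _ m

theorem liftP_zero (P : MvPolynomial (Fin 0 ⊕ Fin 0) ℤ) (hP : IsMulPoly 0 P) : liftP P = 1 := by
  apply eq_of_SN_eq
  intro N
  rw [SN_liftP' P hP, map_one, esymm_zero']

theorem sN_liftQ' {i j : ℕ} (Q : MvPolynomial (Fin (i * j)) ℤ) (hQ : IsCompPoly i j Q) (N : ℕ) :
    sN N (liftQ Q) = (((Finset.univ : Finset (Fin N)).powersetCard i).val.map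
        fun s => (∏ a ∈ s, X a : MvPolynomial (Fin N) ℤ)).esymm j :=
  sN_liftQ Q hQ N

theorem liftQ_zero {i : ℕ} (Q : MvPolynomial (Fin (i * 0)) ℤ) (hQ : IsCompPoly i 0 Q) :
    liftQ Q = 1 := by
  apply eq_of_sN_eq
  intro N
  rw [sN_liftQ' Q hQ, map_one, esymm_zero']

theorem Rpoly_zero (Qf : ∀ i j : ℕ, MvPolynomial (Fin (i * j)) ℤ)
    (hQf : ∀ i j, IsCompPoly i j (Qf i j)) (k : ℕ) : Rpoly Qf (k + 1) 0 = 1 := by
  apply eq_of_sN_eq
  intro N
  rw [sN_Rpoly Qf hQf, map_one, esymm_zero']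

theorem universal_newton_psi (Qf : ∀ i j : ℕ, MvPolynomial (Fin (i * j)) ℤ)
    (hQf : ∀ i j, IsCompPoly i j (Qf i j)) (m i : ℕ) :
    ((i : MvPolynomial ℕ ℤ) + 1) * Rpoly Qf (m + 1) (i + 1) =
      ∑ p ∈ Finset.HasAntidiagonal.antidiagonal i,
        (-1) ^ p.1 * nu ((m + 1) * (p.1 + 1)) * Rpoly Qf (m + 1) p.2 := by
  apply eq_of_sN_eq
  intro N
  rw [map_mul, map_add, map_natCast, map_one, map_sum]
  simp only [map_mul, map_pow, map_neg, map_one]
  simp_rw [sN_Rpoly Qf hQf]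
  have h : ∀ a : ℕ, sN N (nu ((m + 1) * (a + 1))) =
      (((Finset.univ : Finset (Fin N)).val.map
        (fun c => (X c : MvPolynomial (Fin N) ℤ) ^ (m + 1))).map (fun z => z ^ (a + 1))).sum := by
    intro a
    have e : (m + 1) * (a + 1) = (m * a + m + a) + 1 := by ring
    rw [e, sN_nu, Multiset.map_map]
    show _ = ∑ c : Fin N, ((X c : MvPolynomial (Fin N) ℤ) ^ (m + 1)) ^ (a + 1)
    apply Finset.sum_congr rfl
    intro c _
    rw [← pow_mul, e]
  simp_rw [h]
  exact newton_multiset _ i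

theorem universal_newton_comp (Qf : ∀ i j : ℕ, MvPolynomial (Fin (i * j)) ℤ)
    (hQf : ∀ i j, IsCompPoly i j (Qf i j)) (i j : ℕ) :
    ((j : MvPolynomial ℕ ℤ) + 1) * liftQ (Qf i (j + 1)) =
      ∑ p ∈ Finset.HasAntidiagonal.antidiagonal j,
        (-1) ^ p.1 * Rpoly Qf (p.1 + 1) i * liftQ (Qf i p.2) := by
  apply eq_of_sN_eq
  intro N
  rw [map_mul, map_add, map_natCast, map_one, map_sum]
  simp only [map_mul, map_pow, map_neg, map_one]
  simp_rw [sN_liftQ' _ (hQf _ _)]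
  have h : ∀ a : ℕ, sN N (Rpoly Qf (a + 1) i) =
      ((((Finset.univ : Finset (Fin N)).powersetCard i).val.map
        fun s => (∏ c ∈ s, X c : MvPolynomial (Fin N) ℤ)).map (fun z => z ^ (a + 1))).sum := by
    intro a
    rw [sN_Rpoly Qf hQf, Multiset.map_map, Finset.esymm_map_val]
    show _ = ∑ s ∈ (Finset.univ : Finset (Fin N)).powersetCard i,
      (∏ c ∈ s, X c : MvPolynomial (Fin N) ℤ) ^ (a + 1)
    apply Finset.sum_congr rfl
    intro s _
    rw [Finset.prod_pow]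
  simp_rw [h]
  exact newton_multiset _ j

end UnivId

end Groth.Agent.Helper3.LambdaLib
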