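import Groth.Agent.Lib.Helper3.LambdaM

set_option autoImplicit false

namespace Groth.Agent.Helper3.LambdaLib

open LambdaRing

universe u

section ODEtf

open PowerSeries

variable {R : Type*} [CommRing R] [IsAddTorsionFree R]

/-- uniqueness of solutions of `f' = g f`, `f(0) = 1`, over a ring without additive torsion -/
theorem ode_unique_tf (g f₁ f₂ : PowerSeries R) (h₁ : derivative R f₁ = g * f₁)
    (h₂ : derivative R f₂ = g * f₂) (c₁ : constantCoeff f₁ = 1) (c₂ : constantCoeff f₂ = 1) :
    f₁ = f₂ := by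
  have hu₂ : IsUnit f₂ := isUnit_iff_constantCoeff.2 (by rw [c₂]; exact isUnit_one)
  obtain ⟨u, hu⟩ := hu₂
  set w : PowerSeries R := ↑u⁻¹ with hw
  have hwf : w * f₂ = 1 := by rw [← hu, hw]; exact u.inv_mul
  have hcw : constantCoeff w = 1 := by
    have := congrArg constantCoeff hwf
    rwa [map_mul, c₂, mul_one, map_one] at this
  have hdw : derivative R w = - (w * g) := by
    have h3 := congrArg (derivative R) hwf
    rw [Derivation.leibniz, Derivation.map_one_eq_zero, smul_eq_mul, smul_eq_mul, h₂] at h3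
    have h4 : (derivative R w + w * g) * f₂ = 0 := by linear_combination h3
    have h5 : derivative R w + w * g = 0 := by
      have := congrArg (· * w) h4
      simp only [zero_mul] at this
      rwa [mul_assoc, mul_comm f₂ w, hwf, mul_one] at this
    linear_combination h5
  have hh : f₁ * w = 1 := by
    apply derivative.ext
    · rw [Derivation.leibniz, Derivation.map_one_eq_zero, smul_eq_mul, smul_eq_mul, h₁, hdw]
      ring
    · rw [map_mul, c₁, hcw, mul_one, map_one]
  calc f₁ = f₁ * (w * f₂) := by rw [hwf, mul_one]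
    _ = f₂ := by rw [← mul_assoc, hh, one_mul]

end ODEtf

section Converse

variable {K : Type u} [CommRing K] [LambdaOps K]

theorem evLam2_liftP_eq (x y : K) {n : ℕ} (P : MvPolynomial (Fin n ⊕ Fin n) ℤ) :
    evLam2 x y (liftP P) =
      MvPolynomial.aeval (Sum.elim (fun k : Fin n => LambdaOps.lam ((k : ℕ) + 1) x)
        (fun k : Fin n => LambdaOps.lam ((k : ℕ) + 1) y)) P := by
  unfold evLam2 liftP
  rw [MvPolynomial.aeval_rename, Sum.elim_comp_map]
  rfl

theorem evLam_liftQ_eq (x : K) {n : ℕ} (Q : MvPolynomial (Fin n) ℤ) :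
    evLam x (liftQ Q) = MvPolynomial.aeval (fun k : Fin n => LambdaOps.lam ((k : ℕ) + 1) x) Q := by
  unfold evLam liftQ
  rw [MvPolynomial.aeval_rename]
  rfl

theorem evLam2_pp (x y : K) (k : ℕ) : evLam2 x y (pp k) = adamsOp k x * adamsOp k y := by
  unfold pp
  rw [map_mul, evLam2_rename_inl, evLam2_rename_inr, evLam_nu, evLam_nu]

variable [IsAddTorsionFree K]

open PowerSeries in
theorem lam_one_eq_zero_of_adams (h1 : ∀ k : ℕ, 1 ≤ k → adamsOp k (1 : K) = 1) (n : ℕ)
    (hn : 2 ≤ n) : LambdaOps.lam n (1 : K) = 0 := by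
  have hlog : logDerivSeries (1 : K) = altSeries K := by
    ext k
    rw [coeff_logDerivSeries, h1 (k + 1) (by omega), mul_one, altSeries, coeff_mk]
  have hode1 : derivative K (lamSeries (1 : K)) = altSeries K * lamSeries (1 : K) := by
    rw [derivative_lamSeries, hlog]
  have hode2 : derivative K (1 + X : PowerSeries K) = altSeries K * (1 + X) := by
    rw [altSeries_mul, map_add, Derivation.map_one_eq_zero, zero_add, derivative_X]
  have := ode_unique_tf (altSeries K) _ _ hode1 hode2 (constantCoeff_lamSeries 1) (by simp)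
  rw [← coeff_lamSeries, this]
  obtain ⟨n, rfl⟩ : ∃ m, n = m + 2 := ⟨n - 2, by omega⟩
  simp [coeff_one, coeff_X]

open PowerSeries in
theorem lam_mul_of_adams
    (hmul : ∀ k : ℕ, 1 ≤ k → ∀ x y : K, adamsOp k (x * y) = adamsOp k x * adamsOp k y)
    (n : ℕ) (P : MvPolynomial (Fin n ⊕ Fin n) ℤ) (hP : IsMulPoly n P) (x y : K) :
    LambdaOps.lam n (x * y) =
      MvPolynomial.aeval (Sum.elim (fun k : Fin n => LambdaOps.lam ((k : ℕ) + 1) x)
        (fun k : Fin n => LambdaOps.lam ((k : ℕ) + 1) y)) P := by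
  classical
  have hex : ∀ m : ℕ, ∃ P' : MvPolynomial (Fin m ⊕ Fin m) ℤ, IsMulPoly m P' := by
    intro m
    obtain ⟨P', h1, h2⟩ := exists_mulPoly m m
    exact ⟨P', h1, h2⟩
  choose Pf₀ hPf₀ using hex
  set Pf : ∀ m : ℕ, MvPolynomial (Fin m ⊕ Fin m) ℤ := Function.update Pf₀ n P with hPfdef
  have hPf : ∀ m, IsMulPoly m (Pf m) := by
    intro m
    by_cases hm : m = n
    · subst hm
      rw [hPfdef, Function.update_self]
      exact hP
    · rw [hPfdef, Function.update_of_ne hm]
      exact hPf₀ m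
  set Cser : PowerSeries K := PowerSeries.mk (fun m => evLam2 x y (liftP (Pf m))) with hC
  have hc0 : constantCoeff Cser = 1 := by
    rw [← coeff_zero_eq_constantCoeff_apply, hC, coeff_mk, liftP_zero _ (hPf 0), map_one]
  have hode : derivative K Cser = logDerivSeries (x * y) * Cser := by
    ext m
    rw [coeff_derivative, coeff_mul, hC, coeff_mk]
    have hu := congrArg (evLam2 x y) (universal_newton_mul Pf hPf m)
    rw [map_mul, map_add, map_natCast, map_one, map_sum] at hu
    rw [mul_comm, hu]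
    apply Finset.sum_congr rfl
    intro p _
    rw [map_mul, map_mul, map_pow, map_neg, map_one, evLam2_pp, coeff_logDerivSeries, coeff_mk,
      hmul (p.1 + 1) (by omega)]
  have := ode_unique_tf (logDerivSeries (x * y)) _ _ hode (derivative_lamSeries (x * y)) hc0
    (constantCoeff_lamSeries (x * y))
  have h2 := congrArg (coeff n) this
  rw [hC, coeff_mk, coeff_lamSeries] at h2
  rw [← h2, hPfdef, Function.update_self, evLam2_liftP_eq]

/-- `ψ^m` as a ring endomorphism, from the hypotheses on Adams operations -/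
noncomputable def psiHom' (h1 : ∀ k : ℕ, 1 ≤ k → adamsOp k (1 : K) = 1)
    (hmul : ∀ k : ℕ, 1 ≤ k → ∀ x y : K, adamsOp k (x * y) = adamsOp k x * adamsOp k y)
    (m : ℕ) (hm : 1 ≤ m) : K →+* K where
  toFun := adamsOp m
  map_one' := h1 m hm
  map_mul' := hmul m hm
  map_zero' := by
    have := adamsOp_add m (0 : K) 0
    rw [add_zero] at this
    exact left_eq_add.mp this
  map_add' := adamsOp_add m

open PowerSeries in
theorem adamsOp_lam_eq_of_adams (h1 : ∀ k : ℕ, 1 ≤ k → adamsOp k (1 : K) = 1)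
    (hmul : ∀ k : ℕ, 1 ≤ k → ∀ x y : K, adamsOp k (x * y) = adamsOp k x * adamsOp k y)
    (hcomp : ∀ k k' : ℕ, 1 ≤ k → 1 ≤ k' → ∀ x : K, adamsOp k (adamsOp k' x) = adamsOp (k * k') x)
    (Qf : ∀ i j : ℕ, MvPolynomial (Fin (i * j)) ℤ) (hQf : ∀ i j, IsCompPoly i j (Qf i j))
    (m i : ℕ) (x : K) :
    adamsOp (m + 1) (LambdaOps.lam i x) = evLam x (Rpoly Qf (m + 1) i) := by
  set φ := psiHom' h1 hmul (m + 1) (by omega) with hφ
  have hφa : ∀ z : K, φ z = adamsOp (m + 1) z := fun z => rfl
  set F : PowerSeries K := PowerSeries.map φ (lamSeries x) with hF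
  set G : PowerSeries K := PowerSeries.mk (fun i' => evLam x (Rpoly Qf (m + 1) i')) with hG
  set g : PowerSeries K := PowerSeries.map φ (logDerivSeries x) with hg
  have hgc : ∀ a : ℕ, coeff a g = (-1) ^ a * adamsOp ((m + 1) * (a + 1)) x := by
    intro a
    rw [hg, coeff_map, coeff_logDerivSeries, map_mul, map_pow, map_neg, map_one, hφa,
      hcomp (m + 1) (a + 1) (by omega) (by omega)]
  have hodeF : derivative K F = g * F := by
    rw [hF, ← derivative_map, derivative_lamSeries, map_mul]
  have hodeG : derivative K G = g * G := by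
    ext i'
    rw [coeff_derivative, coeff_mul, hG, coeff_mk]
    have hu := congrArg (evLam x) (universal_newton_psi Qf hQf m i')
    rw [map_mul, map_add, map_natCast, map_one, map_sum] at hu
    rw [mul_comm, hu]
    apply Finset.sum_congr rfl
    intro p _
    rw [map_mul, map_mul, map_pow, map_neg, map_one, evLam_nu, hgc, coeff_mk]
  have hcF : constantCoeff F = 1 := by
    rw [← coeff_zero_eq_constantCoeff_apply, hF, coeff_map, coeff_lamSeries, LambdaOps.lam_zero,
      map_one]
  have hcG : constantCoeff G = 1 := by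
    rw [← coeff_zero_eq_constantCoeff_apply, hG, coeff_mk, Rpoly_zero Qf hQf, map_one]
  have := ode_unique_tf g F G hodeF hodeG hcF hcG
  have h2 := congrArg (coeff i) this
  rw [hF, coeff_map, coeff_lamSeries, hG, coeff_mk, hφa] at h2
  exact h2

open PowerSeries in
theorem lam_lam_of_adams (h1 : ∀ k : ℕ, 1 ≤ k → adamsOp k (1 : K) = 1)
    (hmul : ∀ k : ℕ, 1 ≤ k → ∀ x y : K, adamsOp k (x * y) = adamsOp k x * adamsOp k y)
    (hcomp : ∀ k k' : ℕ, 1 ≤ k → 1 ≤ k' → ∀ x : K, adamsOp k (adamsOp k' x) = adamsOp (k * k') x)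
    (i j : ℕ) (Q : MvPolynomial (Fin (i * j)) ℤ) (hQ : IsCompPoly i j Q) (x : K) :
    LambdaOps.lam j (LambdaOps.lam i x) =
      MvPolynomial.aeval (fun k : Fin (i * j) => LambdaOps.lam ((k : ℕ) + 1) x) Q := by
  classical
  have hex : ∀ i' j' : ℕ, ∃ Q' : MvPolynomial (Fin (i' * j')) ℤ, IsCompPoly i' j' Q' := by
    intro i' j'
    obtain ⟨Q', h1, h2⟩ := exists_compPoly (i' * j') i' j'
    exact ⟨Q', h1, h2⟩
  choose Qf₀ hQf₀ using hex
  set Qf : ∀ i' j' : ℕ, MvPolynomial (Fin (i' * j')) ℤ :=
    Function.update Qf₀ i (Function.update (Qf₀ i) j Q) with hQfdef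
  have hQfij : Qf i j = Q := by
    rw [hQfdef, Function.update_self, Function.update_self]
  have hQf : ∀ i' j', IsCompPoly i' j' (Qf i' j') := by
    intro i' j'
    by_cases hi : i' = i
    · subst hi
      by_cases hj : j' = j
      · subst hj
        rw [hQfij]
        exact hQ
      · rw [hQfdef, Function.update_self, Function.update_of_ne hj]
        exact hQf₀ i' j'
    · rw [hQfdef, Function.update_of_ne hi]
      exact hQf₀ i' j'
  set Cser : PowerSeries K := PowerSeries.mk (fun j' => evLam x (liftQ (Qf i j'))) with hC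
  have hc0 : constantCoeff Cser = 1 := by
    rw [← coeff_zero_eq_constantCoeff_apply, hC, coeff_mk, liftQ_zero _ (hQf i 0), map_one]
  have hode : derivative K Cser = logDerivSeries (LambdaOps.lam i x) * Cser := by
    ext j'
    rw [coeff_derivative, coeff_mul, hC, coeff_mk]
    have hu := congrArg (evLam x) (universal_newton_comp Qf hQf i j')
    rw [map_mul, map_add, map_natCast, map_one, map_sum] at hu
    rw [mul_comm, hu]
    apply Finset.sum_congr rfl
    intro p _
    rw [map_mul, map_mul, map_pow, map_neg, map_one, coeff_logDerivSeries, coeff_mk,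
      adamsOp_lam_eq_of_adams h1 hmul hcomp Qf hQf p.1 i x]
  have := ode_unique_tf (logDerivSeries (LambdaOps.lam i x)) _ _ hode
    (derivative_lamSeries (LambdaOps.lam i x)) hc0 (constantCoeff_lamSeries (LambdaOps.lam i x))
  have h2 := congrArg (coeff j) this
  rw [hC, coeff_mk, coeff_lamSeries] at h2
  rw [← h2, hQfij, evLam_liftQ_eq]

theorem isSpecial_of_adams (h1 : ∀ k : ℕ, 1 ≤ k → adamsOp k (1 : K) = 1)
    (hmul : ∀ k : ℕ, 1 ≤ k → ∀ x y : K, adamsOp k (x * y) = adamsOp k x * adamsOp k y)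
    (hcomp : ∀ k k' : ℕ, 1 ≤ k → 1 ≤ k' → ∀ x : K, adamsOp k (adamsOp k' x) = adamsOp (k * k') x) :
    IsSpecial K where
  lam_one_eq_zero := lam_one_eq_zero_of_adams h1
  lam_mul := lam_mul_of_adams hmul
  lam_lam := lam_lam_of_adams h1 hmul hcomp

end Converse

end Groth.Agent.Helper3.LambdaLib
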