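import Groth.Agent.Lib.Helper3.LambdaJ

set_option autoImplicit false

namespace Groth.Agent.Helper3.SplitLib

open LambdaRing Groth.Agent.Helper3.LambdaLib

universe u

section Basic

variable {K : Type u} [CommRing K] [LambdaOps K] (P : PosStructure K)

theorem one_mem_pos : (1 : K) ∈ P.pos := by
  have h1 : ((1 : ℕ) : K) ∈ P.pos := P.natCast_mem 1 Nat.one_pos
  rwa [Nat.cast_one] at h1

include P in
theorem lam_one_eq_zero : ∀ k : ℕ, 2 ≤ k → LambdaOps.lam k (1 : K) = 0 := by
  intro k hk
  apply P.lam_eq_zero 1 (one_mem_pos P)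
  rw [map_one]
  exact_mod_cast hk

theorem one_isLine : P.IsLine 1 := ⟨one_mem_pos P, map_one _⟩

theorem lam_line {u : K} (hu : P.IsLine u) : ∀ j : ℕ, 2 ≤ j → LambdaOps.lam j u = 0 := by
  intro j hj
  apply P.lam_eq_zero u hu.1
  rw [hu.2]
  exact_mod_cast hj

theorem lamSeries_line {u : K} (hu : P.IsLine u) :
    lamSeries u = 1 + PowerSeries.C u * PowerSeries.X :=
  lamSeries_of_line u (lam_line P hu)

theorem isLine_mul {u v : K} (hu : P.IsLine u) (hv : P.IsLine v) : P.IsLine (u * v) :=
  ⟨P.mul_mem u v hu.1 hv.1, by rw [map_mul, hu.2, hv.2, mul_one]⟩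

theorem isLine_pow {u : K} (hu : P.IsLine u) (n : ℕ) : P.IsLine (u ^ n) := by
  induction n with
  | zero => rw [pow_zero]; exact one_isLine P
  | succ n ih => rw [pow_succ]; exact isLine_mul P ih hu

theorem lamSeries_multiset_sum (s : Multiset K) (hs : ∀ u ∈ s, P.IsLine u) :
    lamSeries s.sum =
      (s.map fun u => (1 + PowerSeries.C u * PowerSeries.X : PowerSeries K)).prod := by
  induction s using Multiset.induction_on with
  | empty => simp [lamSeries_zero]
  | cons a s ih =>
    rw [Multiset.sum_cons, lamSeries_add, Multiset.map_cons, Multiset.prod_cons,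
      ih (fun u hu => hs u (Multiset.mem_cons_of_mem hu)),
      lamSeries_line P (hs a (Multiset.mem_cons_self a s))]

theorem lam_multiset_sum (s : Multiset K) (hs : ∀ u ∈ s, P.IsLine u) (i : ℕ) :
    LambdaOps.lam i s.sum = s.esymm i := by
  rw [← coeff_lamSeries, lamSeries_multiset_sum P s hs, coeff_multiset_prod_one_add]

theorem aug_multiset_sum (s : Multiset K) (hs : ∀ u ∈ s, P.IsLine u) :
    P.aug s.sum = (Multiset.card s : ℤ) := by
  induction s using Multiset.induction_on with
  | empty => simp
  | cons a s ih =>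
    rw [Multiset.sum_cons, map_add, ih (fun u hu => hs u (Multiset.mem_cons_of_mem hu)),
      (hs a (Multiset.mem_cons_self a s)).2, Multiset.card_cons]
    push_cast
    ring

end Basic

section Ext

variable {K : Type u} [CommRing K] [LambdaOps K] {P : PosStructure K}
variable {K' : Type u} [CommRing K'] [LambdaOps K'] {P' : PosStructure K'}
variable {K'' : Type u} [CommRing K''] [LambdaOps K''] {P'' : PosStructure K''}

theorem isLine_map {f : K →+* K'} (hf : IsExtension P P' f) {u : K} (hu : P.IsLine u) :
    P'.IsLine (f u) :=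
  ⟨hf.pos_subset u hu.1, by rw [hf.aug_comp, hu.2]⟩

theorem isExtension_id (P : PosStructure K) : IsExtension P P (RingHom.id K) where
  isLambdaHom := fun _ _ => rfl
  injective := fun _ _ h => h
  aug_comp := fun _ => rfl
  pos_subset := fun _ he => he

theorem isExtension_comp {f : K →+* K'} {g : K' →+* K''} (hf : IsExtension P P' f)
    (hg : IsExtension P' P'' g) : IsExtension P P'' (g.comp f) where
  isLambdaHom := fun i x => by
    rw [RingHom.comp_apply, RingHom.comp_apply, hf.isLambdaHom, hg.isLambdaHom]
  injective := hg.injective.comp hf.injective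
  aug_comp := fun x => by rw [RingHom.comp_apply, hg.aug_comp, hf.aug_comp]
  pos_subset := fun e he => hg.pos_subset _ (hf.pos_subset e he)

end Ext

section Split

variable {K : Type u} [CommRing K] [LambdaOps K] (P : PosStructure K)

theorem exists_split (hK : HasSplitting K P) (e : K) (he : e ∈ P.pos) :
    ∃ (L : PosLambdaRing.{u}) (f : K →+* L.carrier), HasSplitting L.carrier L.posStr ∧
      IsExtension P L.posStr f ∧
      ∃ s : Multiset L.carrier, (∀ u ∈ s, L.posStr.IsLine u) ∧ s.sum = f e := by
  obtain ⟨C, hKC, hC⟩ := hK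
  obtain ⟨L', hL', f, hf, s, hs, hsum⟩ := hC ⟨K, P⟩ hKC e he
  exact ⟨L', f, ⟨C, hL', hC⟩, hf, s, hs, hsum⟩

theorem exists_split_list (hK : HasSplitting K P) (l : List K) (hl : ∀ e ∈ l, e ∈ P.pos) :
    ∃ (L : PosLambdaRing.{u}) (f : K →+* L.carrier), HasSplitting L.carrier L.posStr ∧
      IsExtension P L.posStr f ∧
      ∀ e ∈ l, ∃ s : Multiset L.carrier, (∀ u ∈ s, L.posStr.IsLine u) ∧ s.sum = f e := by
  induction l with
  | nil => exact ⟨⟨K, P⟩, RingHom.id K, hK, isExtension_id P, by simp⟩
  | cons e l ih =>
    obtain ⟨L, f, hL, hf, hsl⟩ := ih (fun e' he' => hl e' (List.mem_cons_of_mem _ he'))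
    obtain ⟨L', g, hL', hg, s, hs, hsum⟩ :=
      exists_split L.posStr hL (f e) (hf.pos_subset e (hl e List.mem_cons_self))
    refine ⟨L', g.comp f, hL', isExtension_comp hf hg, ?_⟩
    intro e' he'
    rcases List.mem_cons.1 he' with rfl | he'
    · exact ⟨s, hs, hsum⟩
    · obtain ⟨t, ht, htsum⟩ := hsl e' he'
      refine ⟨t.map g, ?_, ?_⟩
      · intro u hu
        obtain ⟨v, hv, rfl⟩ := Multiset.mem_map.1 hu
        exact isLine_map hg (ht v hv)
      · rw [← map_multiset_sum, htsum]
        rfl

end Split


section Adams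

open PowerSeries

variable {K : Type u} [CommRing K] [LambdaOps K] (P : PosStructure K)

omit [LambdaOps K] in
theorem derivative_rescale (a : K) (f : PowerSeries K) :
    derivative K (rescale a f) = C a * rescale a (derivative K f) := by
  ext n
  rw [coeff_derivative, coeff_rescale, coeff_C_mul, coeff_rescale, coeff_derivative, pow_succ]
  ring

omit [LambdaOps K] in
theorem rescale_invOfUnit (a : K) (f : PowerSeries K) (hf : constantCoeff f = 1) :
    (rescale a f).invOfUnit 1 = rescale a (f.invOfUnit 1) := by
  apply invOfUnit_eq_of_mul_eq_one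
  · rw [← coeff_zero_eq_constantCoeff_apply, coeff_rescale, pow_zero, one_mul,
      coeff_zero_eq_constantCoeff_apply, hf]
  · rw [← map_mul, mul_comm, mul_invOfUnit f 1 (by rw [hf]; rfl), map_one]

theorem adamsSeries_eq (x : K) :
    adamsSeries P x = C (P.aug x : K) + X * rescale (-1 : K) (logDerivSeries x) := by
  unfold adamsSeries logDerivSeries
  rw [derivative_rescale, rescale_invOfUnit _ _ (constantCoeff_lamSeries x), map_mul, map_neg,
    map_one]
  ring

theorem adams_zero (x : K) : adams P 0 x = (P.aug x : K) := by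
  unfold adams
  rw [adamsSeries_eq, map_add, coeff_zero_X_mul, add_zero, coeff_zero_C]

theorem adams_succ (k : ℕ) (x : K) : adams P (k + 1) x = adamsOp (k + 1) x := by
  unfold adams
  rw [adamsSeries_eq, map_add, coeff_succ_X_mul, coeff_C, if_neg (Nat.succ_ne_zero k), zero_add,
    coeff_rescale, adamsOp_succ]

theorem adams_of_pos {j : ℕ} (hj : 1 ≤ j) (x : K) : adams P j x = adamsOp j x := by
  obtain ⟨k, rfl⟩ : ∃ k, j = k + 1 := ⟨j - 1, by omega⟩
  exact adams_succ P k x

theorem adams_add (j : ℕ) (x y : K) : adams P j (x + y) = adams P j x + adams P j y := by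
  rcases j with _ | k
  · rw [adams_zero, adams_zero, adams_zero, map_add]
    push_cast
    rfl
  · rw [adams_succ, adams_succ, adams_succ, adamsOp_add]

/-- the Adams operation as an additive map -/
noncomputable def adamsAddHom (j : ℕ) : K →+ K where
  toFun := adams P j
  map_zero' := by
    have h := adams_add P j 0 0
    rw [add_zero] at h
    exact left_eq_add.mp h
  map_add' := adams_add P j

@[simp] theorem adamsAddHom_apply (j : ℕ) (x : K) : adamsAddHom P j x = adams P j x := rfl

theorem adams_neg (j : ℕ) (x : K) : adams P j (-x) = -adams P j x :=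
  map_neg (adamsAddHom P j) x

theorem adams_sub (j : ℕ) (x y : K) : adams P j (x - y) = adams P j x - adams P j y :=
  map_sub (adamsAddHom P j) x y

theorem adams_one (j : ℕ) : adams P j (1 : K) = 1 := by
  rcases j with _ | k
  · rw [adams_zero, map_one]
    simp
  · rw [adams_succ, adamsOp_one_eq (lam_one_eq_zero P) (k + 1) (by omega)]

theorem adams_line {u : K} (hu : P.IsLine u) (j : ℕ) : adams P j u = u ^ j := by
  rcases j with _ | k
  · rw [adams_zero, hu.2]
    simp
  · rw [adams_succ, adamsOp_succ]
    have h : logDerivSeries u = logD (1 + C u * X : PowerSeries K) := by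
      unfold logDerivSeries logD
      rw [lamSeries_line P hu]
    rw [h, coeff_logD_one_add_C_mul_X, ← mul_assoc, ← mul_pow]
    simp

theorem adams_multiset_sum (s : Multiset K) (hs : ∀ u ∈ s, P.IsLine u) (j : ℕ) :
    adams P j s.sum = (s.map fun u => u ^ j).sum := by
  induction s using Multiset.induction_on with
  | empty =>
    rw [Multiset.sum_zero, Multiset.map_zero, Multiset.sum_zero]
    exact map_zero (adamsAddHom P j)
  | cons a s ih =>
    rw [Multiset.sum_cons, adams_add, ih (fun u hu => hs u (Multiset.mem_cons_of_mem hu)),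
      adams_line P (hs a (Multiset.mem_cons_self a s)), Multiset.map_cons, Multiset.sum_cons]

theorem map_adams {K' : Type u} [CommRing K'] [LambdaOps K'] {P' : PosStructure K'}
    {f : K →+* K'} (hf : IsExtension P P' f) (j : ℕ) (x : K) :
    f (adams P j x) = adams P' j (f x) := by
  rcases j with _ | k
  · rw [adams_zero, adams_zero, hf.aug_comp]
    simp
  · rw [adams_succ, adams_succ, map_adamsOp f hf.isLambdaHom]

end Adams


section Lin

variable {K : Type u} [CommRing K] [LambdaOps K] (P : PosStructure K)

/-- the additive subgroup generated by the line elements -/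
def Lin : AddSubgroup K := AddSubgroup.closure {u | P.IsLine u}

theorem mem_Lin_of_isLine {u : K} (hu : P.IsLine u) : u ∈ Lin P :=
  AddSubgroup.subset_closure hu

theorem multiset_sum_mem_Lin (s : Multiset K) (hs : ∀ u ∈ s, P.IsLine u) : s.sum ∈ Lin P :=
  AddSubgroup.multiset_sum_mem _ _ (fun u hu => mem_Lin_of_isLine P (hs u hu))

theorem adams_zero_right (j : ℕ) : adams P j (0 : K) = 0 := map_zero (adamsAddHom P j)

theorem adams_mul_line_of_mem_Lin (j : ℕ) {a : K} (ha : a ∈ Lin P) {u : K} (hu : P.IsLine u) :
    adams P j (a * u) = adams P j a * u ^ j := by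
  induction ha using AddSubgroup.closure_induction with
  | mem v hv => rw [adams_line P (isLine_mul P hv hu), adams_line P hv, mul_pow]
  | zero => rw [zero_mul, adams_zero_right, zero_mul]
  | add x y _ _ hx hy => rw [add_mul, adams_add, hx, hy, adams_add, add_mul]
  | neg x _ hx => rw [neg_mul, adams_neg, hx, adams_neg, neg_mul]

theorem adams_mul_of_mem_Lin (j : ℕ) {a b : K} (ha : a ∈ Lin P) (hb : b ∈ Lin P) :
    adams P j (a * b) = adams P j a * adams P j b := by
  induction hb using AddSubgroup.closure_induction with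
  | mem v hv => rw [adams_mul_line_of_mem_Lin P j ha hv, adams_line P hv]
  | zero => rw [mul_zero, adams_zero_right, mul_zero]
  | add x y _ _ hx hy => rw [mul_add, adams_add, hx, hy, adams_add, mul_add]
  | neg x _ hx => rw [mul_neg, adams_neg, hx, adams_neg, mul_neg]

theorem adams_adams_of_mem_Lin (i j : ℕ) {a : K} (ha : a ∈ Lin P) :
    adams P i (adams P j a) = adams P (i * j) a := by
  induction ha using AddSubgroup.closure_induction with
  | mem v hv =>
    rw [adams_line P hv, adams_line P (isLine_pow P hv j), adams_line P hv, ← pow_mul, mul_comm]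
  | zero => rw [adams_zero_right, adams_zero_right, adams_zero_right]
  | add x y _ _ hx hy => rw [adams_add, adams_add, hx, hy, adams_add]
  | neg x _ hx => rw [adams_neg, adams_neg, hx, adams_neg]

theorem aug_adams_of_mem_Lin (j : ℕ) {a : K} (ha : a ∈ Lin P) :
    P.aug (adams P j a) = P.aug a := by
  induction ha using AddSubgroup.closure_induction with
  | mem v hv => rw [adams_line P hv, (isLine_pow P hv j).2, hv.2]
  | zero => rw [adams_zero_right]
  | add x y _ _ hx hy => rw [adams_add, map_add, hx, hy, map_add]
  | neg x _ hx => rw [adams_neg, map_neg, hx, map_neg]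

theorem map_mem_Lin {K' : Type u} [CommRing K'] [LambdaOps K'] {P' : PosStructure K'}
    {f : K →+* K'} (hf : IsExtension P P' f) {a : K} (ha : a ∈ Lin P) : f a ∈ Lin P' := by
  induction ha using AddSubgroup.closure_induction with
  | mem v hv => exact mem_Lin_of_isLine P' (isLine_map hf hv)
  | zero => rw [map_zero]; exact zero_mem _
  | add x y _ _ hx hy => rw [map_add]; exact add_mem hx hy
  | neg x _ hx => rw [map_neg]; exact neg_mem hx

/-- any finite list of elements lands in the span of line elements in a suitable extension -/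
theorem exists_ext_mem_Lin (hK : HasSplitting K P) (l : List K) :
    ∃ (L : PosLambdaRing.{u}) (f : K →+* L.carrier), HasSplitting L.carrier L.posStr ∧
      IsExtension P L.posStr f ∧ ∀ x ∈ l, f x ∈ Lin L.posStr := by
  induction l with
  | nil => exact ⟨⟨K, P⟩, RingHom.id K, hK, isExtension_id P, by simp⟩
  | cons x l ih =>
    obtain ⟨L, f, hL, hf, hl⟩ := ih
    obtain ⟨e, e', he, he', rfl⟩ := P.exists_sub x
    obtain ⟨L', g, hL', hg, hs⟩ := exists_split_list L.posStr hL [f e, f e'] (by
      intro y hy
      simp only [List.mem_cons, List.not_mem_nil, or_false] at hy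
      rcases hy with rfl | rfl
      · exact hf.pos_subset e he
      · exact hf.pos_subset e' he')
    refine ⟨L', g.comp f, hL', isExtension_comp hf hg, ?_⟩
    intro y hy
    rcases List.mem_cons.1 hy with rfl | hy
    · obtain ⟨s, hs1, hs2⟩ := hs (f e) (by simp)
      obtain ⟨s', hs1', hs2'⟩ := hs (f e') (by simp)
      rw [RingHom.comp_apply, map_sub, map_sub, ← hs2, ← hs2']
      exact sub_mem (multiset_sum_mem_Lin _ s hs1) (multiset_sum_mem_Lin _ s' hs1')
    · exact map_mem_Lin L.posStr hg (hl y hy)

theorem adams_mul (hK : HasSplitting K P) (j : ℕ) (x y : K) :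
    adams P j (x * y) = adams P j x * adams P j y := by
  obtain ⟨L, f, _, hf, hl⟩ := exists_ext_mem_Lin P hK [x, y]
  apply hf.injective
  rw [map_adams P hf, map_mul, map_mul, map_adams P hf, map_adams P hf]
  exact adams_mul_of_mem_Lin _ j (hl x (by simp)) (hl y (by simp))

theorem adams_adams (hK : HasSplitting K P) (i j : ℕ) (x : K) :
    adams P i (adams P j x) = adams P (i * j) x := by
  obtain ⟨L, f, _, hf, hl⟩ := exists_ext_mem_Lin P hK [x]
  apply hf.injective
  rw [map_adams P hf, map_adams P hf, map_adams P hf]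
  exact adams_adams_of_mem_Lin _ i j (hl x (by simp))

theorem aug_adams (hK : HasSplitting K P) (j : ℕ) (x : K) :
    P.aug (adams P j x) = P.aug x := by
  obtain ⟨L, f, _, hf, hl⟩ := exists_ext_mem_Lin P hK [x]
  rw [← hf.aug_comp, map_adams P hf, aug_adams_of_mem_Lin _ j (hl x (by simp)), hf.aug_comp]

/-- the Adams operation as a ring homomorphism, under the splitting property -/
noncomputable def adamsRingHom (hK : HasSplitting K P) (j : ℕ) : K →+* K where
  toFun := adams P j
  map_one' := adams_one P j
  map_mul' := adams_mul P hK j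
  map_zero' := adams_zero_right P j
  map_add' := adams_add P j

@[simp] theorem adamsRingHom_apply (hK : HasSplitting K P) (j : ℕ) (x : K) :
    adamsRingHom P hK j x = adams P j x := rfl

end Lin

end Groth.Agent.Helper3.SplitLib
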