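import Groth.Agent.Lib.Helper3.LambdaQ

set_option autoImplicit false

namespace Groth.Agent.Helper3.SplitLib

open LambdaRing Groth.Agent.Helper3.LambdaLib

universe u

section Aug

open PowerSeries

variable {K : Type u} [CommRing K] [LambdaOps K] (P : PosStructure K)

theorem map_aug_lamSeries_multiset_sum (s : Multiset K) (hs : ∀ u ∈ s, P.IsLine u) :
    PowerSeries.map P.aug (lamSeries s.sum) = (1 + X) ^ (Multiset.card s) := by
  rw [lamSeries_multiset_sum P s hs, map_multiset_prod, Multiset.map_map]
  have : ∀ u ∈ s, ((PowerSeries.map P.aug) ∘ fun u => (1 + C u * X : PowerSeries K)) u =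
      (fun _ => (1 + X : PowerSeries ℤ)) u := by
    intro u hu
    simp only [Function.comp_apply, map_add, map_one, map_mul, map_C, map_X, (hs u hu).2, one_mul]
  rw [Multiset.map_congr rfl this, Multiset.map_const', Multiset.prod_replicate]

theorem map_aug_lamSeries_of_pos (hK : HasSplitting K P) {e : K} (he : e ∈ P.pos) :
    PowerSeries.map P.aug (lamSeries e) = (1 + X) ^ (P.aug e).toNat := by
  obtain ⟨L, f, _, hf, s, hs, hsum⟩ := exists_split P hK e he
  have h1 : P.aug = L.posStr.aug.comp f := RingHom.ext fun x => (hf.aug_comp x).symm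
  have hcard : (P.aug e).toNat = Multiset.card s := by
    have := aug_multiset_sum L.posStr s hs
    rw [hsum, hf.aug_comp] at this
    rw [this]
    simp
  rw [h1, PowerSeries.map_comp, RingHom.comp_apply, map_lamSeries f hf.isLambdaHom, ← hsum,
    map_aug_lamSeries_multiset_sum L.posStr s hs, ← h1, hcard]

theorem aug_lam_of_pos (hK : HasSplitting K P) {e : K} (he : e ∈ P.pos) (i : ℕ) :
    P.aug (LambdaOps.lam i e) = ((P.aug e).toNat.choose i : ℤ) := by
  have h := congrArg (coeff i) (map_aug_lamSeries_of_pos P hK he)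
  rw [coeff_map, coeff_lamSeries, coeff_one_add_X_pow] at h
  exact h

end Aug

section Gamma

open PowerSeries

variable {K : Type u} [CommRing K] [LambdaOps K] (P : PosStructure K)

theorem map_gamma {K' : Type u} [CommRing K'] [LambdaOps K'] (f : K →+* K') (hf : IsLambdaHom f)
    (k : ℕ) (x : K) : f (gamma k x) = gamma k (f x) := by
  unfold gamma
  split_ifs with hk
  · exact map_one f
  · rw [map_sum]
    refine Finset.sum_congr rfl fun j _ => ?_
    rw [map_mul, map_natCast]
    split_ifs with hj
    · rw [map_zero]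
    · rw [hf]

theorem gamma_one (x : K) : gamma 1 x = x := by
  unfold gamma
  rw [if_neg one_ne_zero, Finset.sum_range_succ, Finset.sum_range_one]
  simp [LambdaOps.lam_one]

theorem gammaSeries_multiset_sum (s : Multiset K) (hs : ∀ u ∈ s, P.IsLine u) :
    gammaSeries (s.sum - (Multiset.card s : K)) =
      (s.map fun u => (1 + C (u - 1) * X : PowerSeries K)).prod := by
  induction s using Multiset.induction_on with
  | empty => simp [gammaSeries_zero]
  | cons a s ih =>
    have h : (a ::ₘ s).sum - (Multiset.card (a ::ₘ s) : K) =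
        (a - 1) + (s.sum - (Multiset.card s : K)) := by
      rw [Multiset.sum_cons, Multiset.card_cons]
      push_cast
      ring
    rw [h, gammaSeries_add, ih (fun u hu => hs u (Multiset.mem_cons_of_mem hu)),
      gammaSeries_line_sub_one (lam_one_eq_zero P) a
        (lam_line P (hs a (Multiset.mem_cons_self a s))), Multiset.map_cons, Multiset.prod_cons]

theorem gamma_multiset_sum (s : Multiset K) (hs : ∀ u ∈ s, P.IsLine u) (k : ℕ) :
    gamma k (s.sum - (Multiset.card s : K)) = (s.map fun u => u - 1).esymm k := by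
  rw [← coeff_gammaSeries, gammaSeries_multiset_sum P s hs, ← coeff_multiset_prod_one_add,
    Multiset.map_map]
  rfl

end Gamma


section Fil

variable {K : Type u} [CommRing K] [LambdaOps K] (P : PosStructure K)

/-- the generators of the n-th term of the γ-filtration -/
def gGenSet (n : ℕ) : Set K :=
  {y | ∃ (l : List (ℕ × K)), (∀ p ∈ l, P.aug p.2 = 0) ∧ n ≤ (l.map Prod.fst).sum ∧
        y = (l.map fun p => gamma p.1 p.2).prod}

theorem gammaFiltration_zero : gammaFiltration P 0 = ⊤ := if_pos rfl

theorem gammaFiltration_of_ne {n : ℕ} (hn : n ≠ 0) :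
    gammaFiltration P n = AddSubgroup.closure (gGenSet P n) := if_neg hn

theorem gGenSet_anti {m n : ℕ} (h : m ≤ n) : gGenSet P n ⊆ gGenSet P m := by
  rintro y ⟨l, hl, hn, rfl⟩
  exact ⟨l, hl, le_trans h hn, rfl⟩

theorem gammaFiltration_anti {m n : ℕ} (h : m ≤ n) :
    gammaFiltration P n ≤ gammaFiltration P m := by
  rcases Nat.eq_zero_or_pos m with rfl | hm
  · rw [gammaFiltration_zero]; exact le_top
  · rw [gammaFiltration_of_ne P (by omega : m ≠ 0), gammaFiltration_of_ne P (by omega : n ≠ 0)]
    exact AddSubgroup.closure_mono (gGenSet_anti P h)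

theorem gGenSet_mul {m n : ℕ} {x y : K} (hx : x ∈ gGenSet P m) (hy : y ∈ gGenSet P n) :
    x * y ∈ gGenSet P (m + n) := by
  obtain ⟨l, hl, hm, rfl⟩ := hx
  obtain ⟨l', hl', hn, rfl⟩ := hy
  refine ⟨l ++ l', ?_, ?_, ?_⟩
  · intro p hp
    rcases List.mem_append.1 hp with h | h
    · exact hl p h
    · exact hl' p h
  · rw [List.map_append, List.sum_append]; omega
  · rw [List.map_append, List.prod_append]

theorem gamma_mem_gGenSet {x : K} (hx : P.aug x = 0) (k : ℕ) : gamma k x ∈ gGenSet P k :=
  ⟨[(k, x)], by simpa using hx, by simp, by simp⟩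

theorem mem_gGenSet_one {x : K} (hx : P.aug x = 0) : x ∈ gGenSet P 1 := by
  have := gamma_mem_gGenSet P hx 1
  rwa [gamma_one] at this

theorem subset_gammaFiltration (n : ℕ) : gGenSet P n ⊆ gammaFiltration P n := by
  rcases Nat.eq_zero_or_pos n with rfl | hn
  · rw [gammaFiltration_zero]; exact fun _ _ => AddSubgroup.mem_top _
  · rw [gammaFiltration_of_ne P (by omega : n ≠ 0)]; exact AddSubgroup.subset_closure

theorem gamma_mem_gammaFiltration {x : K} (hx : P.aug x = 0) (k : ℕ) :
    gamma k x ∈ gammaFiltration P k :=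
  subset_gammaFiltration P k (gamma_mem_gGenSet P hx k)

theorem mem_gammaFiltration_one {x : K} (hx : P.aug x = 0) : x ∈ gammaFiltration P 1 :=
  subset_gammaFiltration P 1 (mem_gGenSet_one P hx)

theorem aug_sub_aug (a : K) : P.aug (a - ((P.aug a : ℤ) : K)) = 0 := by
  rw [map_sub, map_intCast]
  simp

/-- each term of the γ-filtration is an ideal -/
theorem mul_mem_gammaFiltration_left (n : ℕ) (a : K) {x : K} (hx : x ∈ gammaFiltration P n) :
    a * x ∈ gammaFiltration P n := by
  rcases Nat.eq_zero_or_pos n with rfl | hn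
  · rw [gammaFiltration_zero]; exact AddSubgroup.mem_top _
  · rw [gammaFiltration_of_ne P (by omega : n ≠ 0)] at hx ⊢
    induction hx using AddSubgroup.closure_induction with
    | mem y hy =>
      have h1 : a * y = (a - ((P.aug a : ℤ) : K)) * y + (P.aug a) • y := by
        rw [zsmul_eq_mul]; ring
      rw [h1]
      refine add_mem ?_ (zsmul_mem (AddSubgroup.subset_closure hy) _)
      have h2 := gGenSet_mul P (mem_gGenSet_one P (aug_sub_aug P a)) hy
      exact AddSubgroup.subset_closure (gGenSet_anti P (by omega) h2)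
    | zero => rw [mul_zero]; exact zero_mem _
    | add x y _ _ hx hy => rw [mul_add]; exact add_mem hx hy
    | neg x _ hx => rw [mul_neg]; exact neg_mem hx

theorem mul_mem_gammaFiltration {m n : ℕ} {x y : K} (hx : x ∈ gammaFiltration P m)
    (hy : y ∈ gammaFiltration P n) : x * y ∈ gammaFiltration P (m + n) := by
  rcases Nat.eq_zero_or_pos m with rfl | hm
  · rw [zero_add]; exact mul_mem_gammaFiltration_left P n x hy
  rcases Nat.eq_zero_or_pos n with rfl | hn
  · rw [add_zero, mul_comm]; exact mul_mem_gammaFiltration_left P m y hx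
  rw [gammaFiltration_of_ne P (by omega : m ≠ 0)] at hx
  rw [gammaFiltration_of_ne P (by omega : n ≠ 0)] at hy
  rw [gammaFiltration_of_ne P (by omega : m + n ≠ 0)]
  induction hx using AddSubgroup.closure_induction with
  | mem x hx =>
    induction hy using AddSubgroup.closure_induction with
    | mem y hy => exact AddSubgroup.subset_closure (gGenSet_mul P hx hy)
    | zero => rw [mul_zero]; exact zero_mem _
    | add y z _ _ hy hz => rw [mul_add]; exact add_mem hy hz
    | neg y _ hy => rw [mul_neg]; exact neg_mem hy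
  | zero => rw [zero_mul]; exact zero_mem _
  | add x z _ _ hx hz => rw [add_mul]; exact add_mem hx hz
  | neg x _ hx => rw [neg_mul]; exact neg_mem hx

theorem pow_mem_gammaFiltration {x : K} (hx : x ∈ gammaFiltration P 1) (n : ℕ) :
    x ^ n ∈ gammaFiltration P n := by
  induction n with
  | zero => rw [gammaFiltration_zero]; exact AddSubgroup.mem_top _
  | succ n ih => rw [pow_succ]; exact mul_mem_gammaFiltration P ih hx

end Fil

end Groth.Agent.Helper3.SplitLib
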