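import Groth.Agent.Lib.Helper3.LambdaR
import Groth.Prelude.Def_KRR

set_option autoImplicit false

namespace Groth.Agent.Helper3.SplitLib

open LambdaRing Groth.Agent.Helper3.LambdaLib

universe u

section Sigma

open PowerSeries

variable {K : Type u} [CommRing K] [LambdaOps K] (P : PosStructure K)

theorem map_aug_sigmaSeries (hK : HasSplitting K P) {e : K} (he : e ∈ P.pos) (r : ℕ)
    (hr : P.aug e = r + 1) :
    PowerSeries.map P.aug (KRR.sigmaSeries e) = (PowerSeries.mk 1 : PowerSeries ℤ) ^ (r + 1) := by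
  unfold KRR.sigmaSeries
  have hc : constantCoeff (rescale (-1 : K) (lamSeries e)) = 1 := by
    rw [← coeff_zero_eq_constantCoeff_apply, coeff_rescale, pow_zero, one_mul,
      coeff_zero_eq_constantCoeff_apply, constantCoeff_lamSeries]
  rw [map_invOfUnit P.aug _ hc]
  have h1 : PowerSeries.map P.aug (rescale (-1 : K) (lamSeries e)) = (1 - X) ^ (r + 1) := by
    have h2 := rescale_map P.aug (-1 : K) (lamSeries e)
    rw [map_neg, map_one] at h2
    rw [← h2, map_aug_lamSeries_of_pos P hK he, hr, map_pow, map_add, map_one, rescale_neg_one_X]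
    congr 1
  rw [h1]
  apply invOfUnit_eq_of_mul_eq_one
  · simp
  · rw [← mul_pow, mk_one_mul_one_sub_eq_one, one_pow]

theorem aug_sigma (hK : HasSplitting K P) {e : K} (he : e ∈ P.pos) (r : ℕ)
    (hr : P.aug e = r + 1) (j : ℕ) :
    P.aug (KRR.sigma j e) = ((r + j).choose j : ℤ) := by
  have h := congrArg (coeff j) (map_aug_sigmaSeries P hK he r hr)
  rw [coeff_map, mk_one_pow_eq_mk_choose_add, coeff_mk] at h
  unfold KRR.sigma
  rw [h, Nat.choose_symm_add]

end Sigma


section Functional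

open Finset Polynomial

theorem alt_choose_sum (r : ℕ) :
    ∑ m ∈ range (r + 1), (-1 : ℤ) ^ (m + r) * (r.choose m : ℤ) * ((r + m).choose m : ℤ) = 1 := by
  have h : (∑ m ∈ range (r + 1),
      C ((-1 : ℤ) ^ (m + r) * (r.choose m : ℤ)) * (1 + X : ℤ[X]) ^ (r + m)) =
      (1 + X) ^ r * X ^ r := by
    have h2 : (X : ℤ[X]) ^ r = ((1 + X) - 1) ^ r := by ring
    rw [h2, sub_pow, Finset.mul_sum]
    refine Finset.sum_congr rfl fun m _ => ?_
    rw [pow_add (1 + X : ℤ[X]) r m]
    simp only [one_pow, mul_one, map_mul, map_pow, map_neg, map_one, map_natCast]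
    ring
  have h3 := congrArg (fun p : ℤ[X] => p.coeff r) h
  have h4 : ((1 + X : ℤ[X]) ^ r * X ^ r).coeff r = 1 := by
    have := coeff_mul_X_pow ((1 + X : ℤ[X]) ^ r) r 0
    rw [zero_add] at this
    rw [this, Polynomial.coeff_one_add_X_pow]; simp
  simp only [finsetSum_coeff, coeff_C_mul, Polynomial.coeff_one_add_X_pow, h4] at h3
  refine Eq.trans (Finset.sum_congr rfl fun m _ => ?_) h3
  rw [Nat.choose_symm_add]

variable {K : Type u} [CommRing K] [LambdaOps K] (P : PosStructure K)

theorem aug_functional (hK : HasSplitting K P) {e : K} (he : e ∈ P.pos) (r : ℕ)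
    (hr : P.aug e = r + 1) (f : AdjoinRoot (KRR.extPoly P e) →ₗ[K] K)
    (hf : ∀ i : ℕ, i ≤ r → f (AdjoinRoot.root (KRR.extPoly P e) ^ i) = KRR.sigma i e) :
    P.aug (f ((AdjoinRoot.root (KRR.extPoly P e) - 1) ^ r)) = 1 := by
  have h1 : (AdjoinRoot.root (KRR.extPoly P e) - 1) ^ r =
      ∑ m ∈ range (r + 1), (((-1 : K) ^ (m + r) * (r.choose m : K)) •
        AdjoinRoot.root (KRR.extPoly P e) ^ m) := by
    rw [sub_pow]
    refine Finset.sum_congr rfl fun m _ => ?_
    rw [Algebra.smul_def, map_mul, map_pow, map_neg, map_one, map_natCast, one_pow]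
    ring
  rw [h1, map_sum, map_sum]
  have h2 : ∀ m ∈ range (r + 1), P.aug (f (((-1 : K) ^ (m + r) * (r.choose m : K)) •
      AdjoinRoot.root (KRR.extPoly P e) ^ m)) =
      (-1 : ℤ) ^ (m + r) * (r.choose m : ℤ) * ((r + m).choose m : ℤ) := by
    intro m hm
    rw [map_smul, hf m (Nat.lt_succ_iff.1 (Finset.mem_range.1 hm)), smul_eq_mul, map_mul,
      aug_sigma P hK he r hr, map_mul, map_pow, map_neg, map_one, map_natCast]
  rw [Finset.sum_congr rfl h2, alt_choose_sum]

end Functional

end Groth.Agent.Helper3.SplitLib
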