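import Groth.Agent.Lib.Helper3.LambdaU
import Groth.Agent.Lib.Helper3.LambdaT
import Groth.Agent.Lib.Helper3.LambdaP

set_option autoImplicit false

namespace Groth.Agent.Helper3.SplitLib

open LambdaRing Groth.Agent.Helper3.LambdaLib MvPolynomial

universe u

section AevalFil

variable {K : Type u} [CommRing K] [LambdaOps K] (P : PosStructure K)

theorem pow_mem_gammaFiltration' {a : ℕ} {x : K} (hx : x ∈ gammaFiltration P a) (n : ℕ) :
    x ^ n ∈ gammaFiltration P (n * a) := by
  induction n with
  | zero => rw [zero_mul, gammaFiltration_zero]; exact AddSubgroup.mem_top _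
  | succ n ih =>
    rw [pow_succ, Nat.succ_mul]
    exact mul_mem_gammaFiltration P ih hx

theorem prod_mem_gammaFiltration {ι : Type*} (s : Finset ι) (x : ι → K) (a : ι → ℕ)
    (h : ∀ i ∈ s, x i ∈ gammaFiltration P (a i)) :
    ∏ i ∈ s, x i ∈ gammaFiltration P (∑ i ∈ s, a i) := by
  classical
  induction s using Finset.induction_on with
  | empty => simp [gammaFiltration_zero]
  | insert i s hi ih =>
    rw [Finset.prod_insert hi, Finset.sum_insert hi]
    exact mul_mem_gammaFiltration P (h i (Finset.mem_insert_self i s))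
      (ih fun k hk => h k (Finset.mem_insert_of_mem hk))

theorem aeval_mem_gammaFiltration {ι : Type*} (g : ι → K) (w : ι → ℕ)
    (hg : ∀ i, g i ∈ gammaFiltration P (w i)) (Q : MvPolynomial ι ℤ) (n : ℕ)
    (hQ : ∀ d ∈ Q.support, n ≤ Finsupp.weight w d) :
    aeval g Q ∈ gammaFiltration P n := by
  rw [Q.as_sum, map_sum]
  refine sum_mem fun d hd => ?_
  rw [aeval_monomial, eq_intCast, ← zsmul_eq_mul]
  apply zsmul_mem
  apply gammaFiltration_anti P (hQ d hd)
  rw [Finsupp.weight_apply, Finsupp.prod, Finsupp.sum]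
  apply prod_mem_gammaFiltration
  intro i _
  rw [smul_eq_mul]
  exact pow_mem_gammaFiltration' P (hg i) (d i)

end AevalFil

section KL

variable {K : Type u} [CommRing K] [LambdaOps K] (P : PosStructure K)

theorem exists_fin_map {A : Type*} (s : Multiset A) :
    ∃ (N : ℕ) (v : Fin N → A), (Finset.univ.val.map v : Multiset A) = s := by
  obtain ⟨l, rfl⟩ := Quot.exists_rep s
  refine ⟨l.length, l.get, ?_⟩
  rw [Fin.univ_val_map, List.ofFn_get]
  rfl

/-- Key lemma: `ψ^j γ^r(e - m) ≡ j^r γ^r(e - m)` modulo `F^{r+1}` for positive `e` -/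
theorem adams_gamma_sub_mem (hK : HasSplitting K P) {e : K} (he : e ∈ P.pos) (j r : ℕ) :
    adams P j (gamma r (e - ((P.aug e).toNat : K))) -
        (j : K) ^ r * gamma r (e - ((P.aug e).toNat : K)) ∈ gammaFiltration P (r + 1) := by
  obtain ⟨L, f, hL, hf, s, hs, hsum⟩ := exists_split P hK e he
  have hcard : Multiset.card s = (P.aug e).toNat := by
    have := aug_multiset_sum L.posStr s hs
    rw [hsum, hf.aug_comp] at this
    rw [this]
    simp
  obtain ⟨N, v, hv⟩ := exists_fin_map s
  set z : K := e - ((P.aug e).toNat : K) with hz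
  have hfz : f z = s.sum - (Multiset.card s : L.carrier) := by
    rw [hz, map_sub, map_natCast, hsum, hcard]
  obtain ⟨Q, hQ1, hQ2⟩ := exists_adamsGammaPoly N r j
  -- evaluation at `y a = v a - 1`
  set ev : MvPolynomial (Fin N) ℤ →ₐ[ℤ] L.carrier := aeval (fun a => v a - 1) with hev
  have hγ : ∀ k : ℕ, ev (esymm (Fin N) ℤ k) = f (gamma k z) := by
    intro k
    rw [hev, aeval_esymm_eq_multiset_esymm, map_gamma f hf.isLambdaHom, hfz,
      gamma_multiset_sum _ s hs, ← hv, Multiset.map_map]
    rfl
  set ψ : L.carrier →+* L.carrier := adamsRingHom L.posStr hL j with hψ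
  have hψv : ∀ a : Fin N, ψ (v a - 1) = v a ^ j - 1 := by
    intro a
    have hline : L.posStr.IsLine (v a) := by
      apply hs
      rw [← hv]
      exact Multiset.mem_map_of_mem v (Finset.mem_univ_val a)
    rw [map_sub, map_one, hψ, adamsRingHom_apply, adams_line _ hline]
  have h1 : f (adams P j (gamma r z)) =
      ev (aeval (fun a : Fin N => (1 + X a : MvPolynomial (Fin N) ℤ) ^ j - 1)
        (esymm (Fin N) ℤ r)) := by
    rw [map_adams P hf, ← hγ r]
    have e1 : adams L.posStr j (ev (esymm (Fin N) ℤ r)) =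
        (ψ.toIntAlgHom.comp ev) (esymm (Fin N) ℤ r) := rfl
    have e2 : ev (aeval (fun a : Fin N => (1 + X a : MvPolynomial (Fin N) ℤ) ^ j - 1)
        (esymm (Fin N) ℤ r)) =
        (ev.comp (aeval (fun a : Fin N => (1 + X a : MvPolynomial (Fin N) ℤ) ^ j - 1)))
          (esymm (Fin N) ℤ r) := rfl
    rw [e1, e2, hev, comp_aeval, comp_aeval]
    congr 2
    funext a
    show ψ (v a - 1) = (aeval fun a => v a - 1) ((1 + X a : MvPolynomial (Fin N) ℤ) ^ j - 1)
    rw [hψv, map_sub, map_pow, map_add, map_one, aeval_X]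
    ring
  have h2 : f (adams P j (gamma r z) - (j : K) ^ r * gamma r z) = ev (adamsGammaPoly N r j) := by
    rw [map_sub, h1, map_mul, map_pow, map_natCast, ← hγ r]
    unfold adamsGammaPoly
    rw [map_sub, map_mul, map_pow, map_natCast]
  have h3 : ev (adamsGammaPoly N r j) =
      f (aeval (fun k : Fin N => gamma ((k : ℕ) + 1) z) Q) := by
    rw [← hQ1]
    have e1 : ev (aeval (fun k : Fin N => esymm (Fin N) ℤ ((k : ℕ) + 1)) Q) =
        (ev.comp (aeval (fun k : Fin N => esymm (Fin N) ℤ ((k : ℕ) + 1)))) Q := rfl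
    have e2 : f (aeval (fun k : Fin N => gamma ((k : ℕ) + 1) z) Q) =
        (f.toIntAlgHom.comp (aeval (fun k : Fin N => gamma ((k : ℕ) + 1) z))) Q := rfl
    rw [e1, e2, comp_aeval, comp_aeval]
    congr 2
    funext k
    rw [hγ]
    rfl
  have h4 : adams P j (gamma r z) - (j : K) ^ r * gamma r z =
      aeval (fun k : Fin N => gamma ((k : ℕ) + 1) z) Q := by
    apply hf.injective
    rw [h2, h3]
  rw [h4]
  apply aeval_mem_gammaFiltration P _ (fun k : Fin N => (k : ℕ) + 1) _ Q (r + 1) hQ2
  intro k
  exact gamma_mem_gammaFiltration P (aug_natCast_toNat P he) _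

end KL


section Good

variable {K : Type u} [CommRing K] [LambdaOps K] (P : PosStructure K) (j : ℕ)

/-- `x ∈ F^n` and `ψ^j x ≡ j^n x` modulo `F^{n+1}` -/
def Good (n : ℕ) (x : K) : Prop :=
  x ∈ gammaFiltration P n ∧ adams P j x - (j : K) ^ n * x ∈ gammaFiltration P (n + 1)

variable {P j}

theorem Good.adams_mem {n : ℕ} {x : K} (h : Good P j n x) : adams P j x ∈ gammaFiltration P n := by
  have h1 : adams P j x = (adams P j x - (j : K) ^ n * x) + (j : K) ^ n * x := by ring
  rw [h1]
  exact add_mem (gammaFiltration_anti P (Nat.le_succ n) h.2)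
    (mul_mem_gammaFiltration_left P n _ h.1)

theorem good_of_eq {m n : ℕ} (h : m = n) {x : K} (hx : Good P j m x) : Good P j n x := h ▸ hx

theorem good_mul (hK : HasSplitting K P) {m n : ℕ} {a b : K} (ha : Good P j m a)
    (hb : Good P j n b) : Good P j (m + n) (a * b) := by
  refine ⟨mul_mem_gammaFiltration P ha.1 hb.1, ?_⟩
  have h1 : adams P j (a * b) - (j : K) ^ (m + n) * (a * b) =
      (adams P j a - (j : K) ^ m * a) * adams P j b +
        ((j : K) ^ m * a) * (adams P j b - (j : K) ^ n * b) := by
    rw [adams_mul P hK, pow_add]; ring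
  rw [h1]
  refine add_mem ?_ ?_
  · have := mul_mem_gammaFiltration P ha.2 hb.adams_mem
    rwa [show m + 1 + n = m + n + 1 by omega] at this
  · have h2 := mul_mem_gammaFiltration P (m := m) (n := n + 1)
      (mul_mem_gammaFiltration_left P m ((j : K) ^ m) ha.1) hb.2
    exact h2

theorem good_zero (n : ℕ) : Good P j n (0 : K) := by
  refine ⟨zero_mem _, ?_⟩
  rw [adams_zero_right, mul_zero, sub_zero]
  exact zero_mem _

theorem good_add {n : ℕ} {a b : K} (ha : Good P j n a) (hb : Good P j n b) :
    Good P j n (a + b) := by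
  refine ⟨add_mem ha.1 hb.1, ?_⟩
  have h1 : adams P j (a + b) - (j : K) ^ n * (a + b) =
      (adams P j a - (j : K) ^ n * a) + (adams P j b - (j : K) ^ n * b) := by
    rw [adams_add]; ring
  rw [h1]
  exact add_mem ha.2 hb.2

theorem good_neg {n : ℕ} {a : K} (ha : Good P j n a) : Good P j n (-a) := by
  refine ⟨neg_mem ha.1, ?_⟩
  have h1 : adams P j (-a) - (j : K) ^ n * (-a) = -(adams P j a - (j : K) ^ n * a) := by
    rw [adams_neg]; ring
  rw [h1]
  exact neg_mem ha.2

theorem good_sum {ι : Type*} (s : Finset ι) {n : ℕ} (x : ι → K) (h : ∀ i ∈ s, Good P j n (x i)) :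
    Good P j n (∑ i ∈ s, x i) := by
  classical
  induction s using Finset.induction_on with
  | empty => rw [Finset.sum_empty]; exact good_zero n
  | insert i s hi ih =>
    rw [Finset.sum_insert hi]
    exact good_add (h i (Finset.mem_insert_self i s))
      (ih fun k hk => h k (Finset.mem_insert_of_mem hk))

theorem good_one : Good P j 0 (1 : K) := by
  refine ⟨by rw [gammaFiltration_zero]; exact AddSubgroup.mem_top _, ?_⟩
  rw [adams_one, pow_zero, mul_one, sub_self]
  exact zero_mem _

theorem good_gamma_pos (hK : HasSplitting K P) {e : K} (he : e ∈ P.pos) (r : ℕ) :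
    Good P j r (gamma r (e - ((P.aug e).toNat : K))) :=
  ⟨gamma_mem_gammaFiltration P (aug_natCast_toNat P he) r, adams_gamma_sub_mem P hK he j r⟩

theorem good_gamma_neg (hK : HasSplitting K P) {e : K} (he : e ∈ P.pos) (r : ℕ) :
    Good P j r (gamma r (-(e - ((P.aug e).toNat : K)))) := by
  induction r using Nat.strong_induction_on with
  | _ r ih =>
    rcases Nat.eq_zero_or_pos r with rfl | hr
    · rw [gamma_zero_left]; exact good_one
    · set z : K := e - ((P.aug e).toNat : K) with hz
      have h1 := gamma_add r z (-z)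
      rw [add_neg_cancel, gamma_zero_right, if_neg (by omega : r ≠ 0), Finset.sum_range_succ',
        gamma_zero_left, one_mul, Nat.sub_zero] at h1
      have h2 : gamma r (-z) =
          -∑ i ∈ Finset.range r, gamma (i + 1) z * gamma (r - (i + 1)) (-z) := by
        rw [eq_neg_iff_add_eq_zero, add_comm]
        exact h1.symm
      rw [h2]
      apply good_neg
      apply good_sum
      intro i hi
      have hi' : i < r := Finset.mem_range.1 hi
      exact good_of_eq (by omega : (i + 1) + (r - (i + 1)) = r)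
        (good_mul hK (good_gamma_pos hK he (i + 1)) (ih (r - (i + 1)) (by omega)))

theorem good_gamma (hK : HasSplitting K P) {y : K} (hy : P.aug y = 0) (r : ℕ) :
    Good P j r (gamma r y) := by
  obtain ⟨e, e', he, he', rfl⟩ := P.exists_sub y
  have haug : P.aug e = P.aug e' := by
    rw [map_sub] at hy
    exact sub_eq_zero.1 hy
  have h1 : e - e' = (e - ((P.aug e).toNat : K)) + -(e' - ((P.aug e').toNat : K)) := by
    rw [haug]; ring
  rw [h1, gamma_add]
  apply good_sum
  intro i hi
  have hi' : i < r + 1 := Finset.mem_range.1 hi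
  exact good_of_eq (by omega : i + (r - i) = r)
    (good_mul hK (good_gamma_pos hK he i) (good_gamma_neg hK he' (r - i)))

theorem good_list (hK : HasSplitting K P) (l : List (ℕ × K)) (hl : ∀ p ∈ l, P.aug p.2 = 0) :
    Good P j (l.map Prod.fst).sum (l.map fun p => gamma p.1 p.2).prod := by
  induction l with
  | nil => simpa using good_one
  | cons p l ih =>
    rw [List.map_cons, List.map_cons, List.sum_cons, List.prod_cons]
    exact good_mul hK (good_gamma hK (hl p List.mem_cons_self) p.1)
      (ih fun q hq => hl q (List.mem_cons_of_mem _ hq))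

theorem Good.diff_mem {N n : ℕ} (hNn : n ≤ N) {x : K} (h : Good P j N x) :
    adams P j x - (j : K) ^ n * x ∈ gammaFiltration P (n + 1) := by
  rcases Nat.eq_or_lt_of_le hNn with rfl | hlt
  · exact h.2
  · exact sub_mem (gammaFiltration_anti P hlt h.adams_mem)
      (mul_mem_gammaFiltration_left P _ _ (gammaFiltration_anti P hlt h.1))

/-- `ψ^j x - j^n x ∈ F^{n+1}` for `x ∈ F^n` -/
theorem adams_sub_mem (hK : HasSplitting K P) (j n : ℕ) {x : K} (hx : x ∈ gammaFiltration P n) :
    adams P j x - (j : K) ^ n * x ∈ gammaFiltration P (n + 1) := by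
  rcases Nat.eq_zero_or_pos n with rfl | hn
  · apply mem_gammaFiltration_one
    rw [pow_zero, one_mul, map_sub, aug_adams P hK, sub_self]
  · rw [gammaFiltration_of_ne P (by omega : n ≠ 0)] at hx
    induction hx using AddSubgroup.closure_induction with
    | mem y hy =>
      obtain ⟨l, hl, hnl, rfl⟩ := hy
      exact (good_list hK l hl).diff_mem hnl
    | zero =>
      rw [adams_zero_right, mul_zero, sub_zero]
      exact zero_mem _
    | add a b _ _ ha hb =>
      have h1 : adams P j (a + b) - (j : K) ^ n * (a + b) =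
          (adams P j a - (j : K) ^ n * a) + (adams P j b - (j : K) ^ n * b) := by
        rw [adams_add]; ring
      rw [h1]
      exact add_mem ha hb
    | neg a _ ha =>
      have h1 : adams P j (-a) - (j : K) ^ n * (-a) = -(adams P j a - (j : K) ^ n * a) := by
        rw [adams_neg]; ring
      rw [h1]
      exact neg_mem ha

end Good

end Groth.Agent.Helper3.SplitLib
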