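import Groth.Agent.Lib.Helper3.LambdaS
import Groth.Agent.Lib.Helper3.LambdaV

set_option autoImplicit false

namespace Groth.Agent.Helper3.SplitLib

open LambdaRing Groth.Agent.Helper3.LambdaLib MvPolynomial

universe u

section Bott

variable {K : Type u} [CommRing K] [LambdaOps K] (P : PosStructure K)

theorem aeval_esymm_bottPoly (j m : ℕ) :
    aeval (fun i : Fin m => esymm (Fin m) ℤ ((i : ℕ) + 1)) (KRR.bottPoly j m) = KRR.bottSym j m := by
  unfold KRR.bottPoly
  rw [← esymmAlgHom_apply]
  have : esymmAlgHom (Fin m) ℤ m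
      ((esymmAlgEquiv (Fin m) ℤ (Fintype.card_fin m)).symm
        ⟨KRR.bottSym j m, KRR.bottSym_isSymmetric j m⟩) =
      ⟨KRR.bottSym j m, KRR.bottSym_isSymmetric j m⟩ :=
    (esymmAlgEquiv (Fin m) ℤ (Fintype.card_fin m)).apply_symm_apply _
  rw [this]

theorem geom_mul {A : Type*} [CommRing A] (x : A) (j : ℕ) :
    (1 - x) * ∑ k ∈ Finset.range j, x ^ k = 1 - x ^ j := by
  exact mul_neg_geom_sum x j

theorem adams_lamAlt (hK : HasSplitting K P) {e : K} (he : e ∈ P.pos) (j : ℕ) :
    adams P j (KRR.lamAlt P e) = KRR.lamAlt P e * KRR.bott P j e := by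
  obtain ⟨L, f, hL, hf, s, hs, hsum⟩ := exists_split P hK e he
  have hcard : Multiset.card s = (P.aug e).toNat := by
    have := aug_multiset_sum L.posStr s hs
    rw [hsum, hf.aug_comp] at this
    rw [this]
    simp
  obtain ⟨N, v, hv⟩ := exists_fin_map s
  have hN : N = (P.aug e).toNat := by
    rw [← hcard, ← hv, Multiset.card_map]
    simp
  -- images under f
  have h1 : f (KRR.lamAlt P e) = (s.map fun u => 1 - u).prod := by
    unfold KRR.lamAlt
    rw [map_sum, ← hcard]
    have h1 : ∀ i ∈ Finset.range (Multiset.card s + 1),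
        f ((-1 : K) ^ i * LambdaOps.lam i e) = (-1) ^ i * s.esymm i := by
      intro i _
      rw [map_mul, map_pow, map_neg, map_one, hf.isLambdaHom, ← hsum, lam_multiset_sum _ s hs]
    rw [Finset.sum_congr rfl h1, sum_alt_esymm]
  have h2 : f (KRR.bott P j e) = (s.map fun u => ∑ k ∈ Finset.range j, u ^ k).prod := by
    unfold KRR.bott
    rw [← hN]
    have e2 : f (aeval (fun i : Fin N => LambdaOps.lam ((i : ℕ) + 1) e) (KRR.bottPoly j N)) =
        (f.toIntAlgHom.comp (aeval (fun i : Fin N => LambdaOps.lam ((i : ℕ) + 1) e)))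
          (KRR.bottPoly j N) := rfl
    rw [e2, comp_aeval]
    have e3 : (fun i : Fin N => f.toIntAlgHom (LambdaOps.lam ((i : ℕ) + 1) e)) =
        fun i : Fin N => aeval v (esymm (Fin N) ℤ ((i : ℕ) + 1)) := by
      funext i
      show f (LambdaOps.lam ((i : ℕ) + 1) e) = _
      rw [hf.isLambdaHom, ← hsum, lam_multiset_sum _ s hs, aeval_esymm_eq_multiset_esymm, hv]
    rw [e3]
    have e4 : aeval (fun i : Fin N => aeval v (esymm (Fin N) ℤ ((i : ℕ) + 1))) (KRR.bottPoly j N) =
        ((aeval v).comp (aeval (fun i : Fin N => esymm (Fin N) ℤ ((i : ℕ) + 1))))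
          (KRR.bottPoly j N) := by
      rw [comp_aeval]
    rw [e4, AlgHom.comp_apply, aeval_esymm_bottPoly]
    unfold KRR.bottSym
    rw [map_prod, ← hv, Multiset.map_map, Finset.prod_eq_multiset_prod]
    refine congrArg _ (Multiset.map_congr rfl fun a _ => ?_)
    simp
  apply hf.injective
  rw [map_adams P hf, map_mul, h1, h2, ← adamsRingHom_apply _ hL, map_multiset_prod,
    Multiset.map_map, ← Multiset.prod_map_mul]
  refine congrArg _ (Multiset.map_congr rfl fun u hu => ?_)
  simp only [Function.comp_apply]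
  rw [map_sub, map_one, adamsRingHom_apply, adams_line _ (hs u hu), geom_mul]

end Bott

end Groth.Agent.Helper3.SplitLib
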