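import Mathlib
import Groth.Prelude.Def_LCI2
import Groth.Prelude.Def_CAlgX
import Groth.Agent.Lib.Helper4.KosH1

/-! Koszul-regular ideals have vanishing `T²`: every linear map on the module of relations of a
finite generating family which kills the trivial relations extends to the free module
(helper3). -/

set_option autoImplicit false
set_option linter.style.haveILetI false
set_option linter.unusedSectionVars false
universe u

namespace Groth.Agent.Helper3.LciExt

section JF

variable {R' : Type*} [CommRing R'] {σ' : Type*} [Fintype σ'] (w : σ' → R')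

/-- `v ↦ Σ v s * w s` -/
noncomputable def jf : (σ' → R') →ₗ[R'] R' where
  toFun v := ∑ s, v s * w s
  map_add' v v' := by
    simp only [Pi.add_apply, add_mul, Finset.sum_add_distrib]
  map_smul' c v := by
    simp only [Pi.smul_apply, smul_eq_mul, RingHom.id_apply, Finset.mul_sum, mul_assoc]

theorem jf_apply (v : σ' → R') : jf w v = ∑ s, v s * w s := rfl

theorem jf_single [DecidableEq σ'] (i : σ') (x : R') : jf w (Pi.single i x) = x * w i := by
  rw [jf_apply, Finset.sum_eq_single i]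
  · rw [Pi.single_eq_same]
  · intro b _ hb
    rw [Pi.single_eq_of_ne hb, zero_mul]
  · intro h
    exact absurd (Finset.mem_univ i) h

end JF

section Gen

variable {R : Type u} [CommRing R]

theorem exists_uniform {τ : Type*} [Finite τ] (g : R) (x y : τ → R)
    (h : ∀ t, ∃ m : ℕ, g ^ m * x t = g ^ m * y t) :
    ∃ m : ℕ, ∀ t, g ^ m * x t = g ^ m * y t := by
  cases nonempty_fintype τ
  choose m hm using h
  refine ⟨Finset.univ.sup m, fun t => ?_⟩
  have hle : m t ≤ Finset.univ.sup m := Finset.le_sup (Finset.mem_univ t)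
  obtain ⟨d, hd⟩ := Nat.exists_eq_add_of_le hle
  calc g ^ (Finset.univ.sup m) * x t = g ^ d * (g ^ m t * x t) := by rw [hd, pow_add]; ring
    _ = g ^ d * (g ^ m t * y t) := by rw [hm t]
    _ = g ^ (Finset.univ.sup m) * y t := by rw [hd, pow_add]; ring

variable (g : R) (S : Type u) [CommRing S] [Algebra R S] [IsLocalization.Away g S]

theorem exists_pow_mul_eq {x y : R} (h : algebraMap R S x = algebraMap R S y) :
    ∃ m : ℕ, g ^ m * x = g ^ m * y := by
  obtain ⟨⟨_, m, rfl⟩, hc⟩ := (IsLocalization.eq_iff_exists (Submonoid.powers g) S).mp h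
  exact ⟨m, hc⟩

theorem exists_clear {τ : Type*} [Finite τ] (z : τ → S) :
    ∃ (d : ℕ) (Z : τ → R), ∀ t, algebraMap R S (Z t) = algebraMap R S (g ^ d) * z t := by
  obtain ⟨⟨_, d, rfl⟩, hb⟩ :=
    IsLocalization.exist_integer_multiples_of_finite (Submonoid.powers g) z
  have hb' : ∀ t, ∃ x : R, algebraMap R S x = (g ^ d) • z t := fun t => hb t
  choose Z hZ using hb'
  refine ⟨d, Z, fun t => ?_⟩
  rw [hZ t, Algebra.smul_def]

variable {σ : Type} [Fintype σ] [DecidableEq σ] (rel : σ → R)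

/-- the module of trivial relations -/
def Tr : Submodule R (σ → R) :=
  Submodule.span R {w | ∃ a b : σ → R, w = jf rel a • b - jf rel b • a}

theorem tr_le_ker : Tr rel ≤ LinearMap.ker (jf rel) := by
  rw [Tr, Submodule.span_le]
  rintro _ ⟨a, b, rfl⟩
  rw [SetLike.mem_coe, LinearMap.mem_ker, map_sub, map_smul, map_smul, smul_eq_mul, smul_eq_mul,
    mul_comm, sub_self]

/-- the comparison endomorphism -/
noncomputable def Th {c : ℕ} (A : Fin c → σ → R) (B : σ → Fin c → R) :
    (σ → R) →ₗ[R] (σ → R) :=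
  ∑ t, (jf (fun s => B s t)).smulRight (A t)

theorem Th_apply {c : ℕ} (A : Fin c → σ → R) (B : σ → Fin c → R) (v : σ → R) :
    Th A B v = ∑ t, jf (fun s => B s t) v • A t := by
  simp only [Th, LinearMap.sum_apply, LinearMap.smulRight_apply]

theorem jf_Th {c : ℕ} (A : Fin c → σ → R) (B : σ → Fin c → R) (v : σ → R) :
    jf rel (Th A B v) = ∑ s, v s * ∑ t, B s t * jf rel (A t) := by
  rw [Th_apply, map_sum]
  have h1 : ∀ t, jf rel (jf (fun s => B s t) v • A t) =
      ∑ s, v s * (B s t * jf rel (A t)) := by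
    intro t
    rw [map_smul, smul_eq_mul, jf_apply (fun s => B s t), Finset.sum_mul]
    apply Finset.sum_congr rfl
    intro s _
    rw [mul_assoc]
  rw [Finset.sum_congr rfl (fun t _ => h1 t), Finset.sum_comm]
  apply Finset.sum_congr rfl
  intro s _
  rw [Finset.mul_sum]

theorem descent_span {c : ℕ} (l : Fin c → S) (A : Fin c → σ → R) (da : ℕ)
    (hE1 : ∀ t, algebraMap R S (jf rel (A t)) = algebraMap R S (g ^ da) * l t)
    (r : Fin c → S)
    (hr : r ∈ Submodule.span S {v : Fin c → S | ∃ i j : Fin c,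
      v = Pi.single i (l j) - Pi.single j (l i)}) :
    ∃ (m : ℕ) (τ : σ → R), τ ∈ Tr rel ∧
      ∀ s', algebraMap R S (g ^ m) * jf (fun t => algebraMap R S (A t s')) r =
        algebraMap R S (τ s') := by
  refine Submodule.span_induction
    (p := fun r _ => ∃ (m : ℕ) (τ : σ → R), τ ∈ Tr rel ∧
      ∀ s', algebraMap R S (g ^ m) * jf (fun t => algebraMap R S (A t s')) r =
        algebraMap R S (τ s')) ?_ ?_ ?_ ?_ hr
  · rintro x ⟨i, j, rfl⟩
    refine ⟨da, jf rel (A j) • A i - jf rel (A i) • A j,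
      Submodule.subset_span ⟨A j, A i, rfl⟩, fun s' => ?_⟩
    have hR : algebraMap R S ((jf rel (A j) • A i - jf rel (A i) • A j) s') =
        algebraMap R S (g ^ da) * l j * algebraMap R S (A i s') -
          algebraMap R S (g ^ da) * l i * algebraMap R S (A j s') := by
      rw [Pi.sub_apply, Pi.smul_apply, Pi.smul_apply, smul_eq_mul, smul_eq_mul, map_sub, map_mul,
        map_mul, hE1, hE1]
    rw [hR, map_sub, jf_single, jf_single]
    ring
  · exact ⟨0, 0, Submodule.zero_mem _, fun s' => by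
      rw [map_zero, mul_zero, Pi.zero_apply, map_zero]⟩
  · rintro x y _ _ ⟨m₁, τ₁, hτ₁, h₁⟩ ⟨m₂, τ₂, hτ₂, h₂⟩
    refine ⟨m₁ + m₂, g ^ m₂ • τ₁ + g ^ m₁ • τ₂,
      Submodule.add_mem _ (Submodule.smul_mem _ _ hτ₁) (Submodule.smul_mem _ _ hτ₂), fun s' => ?_⟩
    simp only [map_add, Pi.add_apply, Pi.smul_apply, smul_eq_mul, map_mul, pow_add]
    rw [← h₁ s', ← h₂ s']
    ring
  · rintro z x _ ⟨m, τ, hτ, h⟩
    obtain ⟨⟨C, ⟨_, e, rfl⟩⟩, hz⟩ := IsLocalization.surj (Submonoid.powers g) z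
    have hz' : z * algebraMap R S (g ^ e) = algebraMap R S C := hz
    refine ⟨m + e, C • τ, Submodule.smul_mem _ _ hτ, fun s' => ?_⟩
    simp only [map_smul, Pi.smul_apply, smul_eq_mul, map_mul, pow_add]
    rw [← h s', ← hz']
    ring

theorem exists_pow_jf_Th {c : ℕ} (l : Fin c → S) (A : Fin c → σ → R) (B : σ → Fin c → R)
    (da db : ℕ) (b : σ → Fin c → S)
    (hb : ∀ s, ∑ t, b s t * l t = algebraMap R S (rel s))
    (hB : ∀ s t, algebraMap R S (B s t) = algebraMap R S (g ^ db) * b s t)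
    (hE1 : ∀ t, algebraMap R S (jf rel (A t)) = algebraMap R S (g ^ da) * l t) :
    ∃ m₁ : ℕ, ∀ v, g ^ m₁ * jf rel (Th A B v) = g ^ m₁ * (g ^ (da + db) * jf rel v) := by
  have hE2 : ∀ s, algebraMap R S (∑ t, B s t * jf rel (A t)) =
      algebraMap R S (g ^ (da + db) * rel s) := by
    intro s
    rw [map_sum, map_mul, pow_add, map_mul, ← hb s, Finset.mul_sum]
    apply Finset.sum_congr rfl
    intro t _
    rw [map_mul, hB, hE1]
    ring
  obtain ⟨m₁, hm₁⟩ := exists_uniform g (fun s => ∑ t, B s t * jf rel (A t))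
    (fun s => g ^ (da + db) * rel s) (fun s => exists_pow_mul_eq g S (hE2 s))
  refine ⟨m₁, fun v => ?_⟩
  calc g ^ m₁ * jf rel (Th A B v)
      = ∑ s, v s * (g ^ m₁ * ∑ t, B s t * jf rel (A t)) := by
        rw [jf_Th, Finset.mul_sum]
        apply Finset.sum_congr rfl
        intro s _
        ring
    _ = ∑ s, v s * (g ^ m₁ * (g ^ (da + db) * rel s)) := by
        apply Finset.sum_congr rfl
        intro s _
        exact congrArg (fun z => v s * z) (hm₁ s)
    _ = g ^ m₁ * (g ^ (da + db) * jf rel v) := by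
        rw [jf_apply, Finset.mul_sum, Finset.mul_sum]
        apply Finset.sum_congr rfl
        intro s _
        ring

theorem exists_pow_Th_mem {c : ℕ} (l : Fin c → S) (hl : CAlgX.IsH1Regular l)
    (A : Fin c → σ → R) (B : σ → Fin c → R) (da db : ℕ) (b : σ → Fin c → S)
    (hb : ∀ s, ∑ t, b s t * l t = algebraMap R S (rel s))
    (hB : ∀ s t, algebraMap R S (B s t) = algebraMap R S (g ^ db) * b s t)
    (hE1 : ∀ t, algebraMap R S (jf rel (A t)) = algebraMap R S (g ^ da) * l t)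
    (q : σ → R) (hq : jf rel q = 0) : ∃ n : ℕ, g ^ n • Th A B q ∈ Tr rel := by
  obtain ⟨r, hr⟩ : ∃ r : Fin c → S, ∀ t, r t = ∑ s, algebraMap R S (q s) * b s t :=
    ⟨fun t => ∑ s, algebraMap R S (q s) * b s t, fun _ => rfl⟩
  have hr0 : ∑ t, r t * l t = 0 := by
    have h1 : ∑ t, r t * l t = ∑ s, algebraMap R S (q s) * ∑ t, b s t * l t := by
      simp only [hr, Finset.sum_mul, Finset.mul_sum]
      rw [Finset.sum_comm]
      apply Finset.sum_congr rfl
      intro s _
      apply Finset.sum_congr rfl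
      intro t _
      ring
    rw [h1, ← map_zero (algebraMap R S), ← hq, jf_apply, map_sum]
    apply Finset.sum_congr rfl
    intro s _
    rw [hb s, map_mul]
  have hmem := hl r hr0
  obtain ⟨m, τ, hτ, h⟩ := descent_span g S rel l A da hE1 r hmem
  have hβ : ∀ t, algebraMap R S (jf (fun s => B s t) q) = algebraMap R S (g ^ db) * r t := by
    intro t
    rw [jf_apply, map_sum, hr t, Finset.mul_sum]
    apply Finset.sum_congr rfl
    intro s _
    rw [map_mul, hB]
    ring
  have hTh : ∀ s', algebraMap R S (Th A B q s') =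
      algebraMap R S (g ^ db) * jf (fun t => algebraMap R S (A t s')) r := by
    intro s'
    rw [Th_apply, Finset.sum_apply, map_sum, jf_apply, Finset.mul_sum]
    apply Finset.sum_congr rfl
    intro t _
    rw [Pi.smul_apply, smul_eq_mul, map_mul, hβ]
    ring
  obtain ⟨n, hn⟩ := exists_uniform g (fun s' => g ^ m * Th A B q s') (fun s' => g ^ db * τ s')
    (fun s' => exists_pow_mul_eq g S (by
      rw [map_mul, map_mul, hTh s', ← h s']
      ring))
  refine ⟨n + m, ?_⟩
  have h2 : g ^ (n + m) • Th A B q = g ^ n • g ^ db • τ := by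
    funext s'
    rw [Pi.smul_apply, Pi.smul_apply, Pi.smul_apply, smul_eq_mul, smul_eq_mul, smul_eq_mul,
      pow_add, mul_assoc]
    exact hn s'
  rw [h2]
  exact Submodule.smul_mem _ _ (Submodule.smul_mem _ _ hτ)

theorem uniform_fg (Q T : Submodule R (σ → R)) (hfg : Q.FG) (Θ : (σ → R) →ₗ[R] (σ → R))
    (h : ∀ q ∈ Q, ∃ n : ℕ, g ^ n • Θ q ∈ T) : ∃ n : ℕ, ∀ q ∈ Q, g ^ n • Θ q ∈ T := by
  obtain ⟨G, hG⟩ := hfg
  have h' : ∀ x : G, ∃ n : ℕ, g ^ n • Θ x.1 ∈ T := fun x =>
    h x.1 (by rw [← hG]; exact Submodule.subset_span (Finset.mem_coe.mpr x.2))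
  choose n hn using h'
  refine ⟨Finset.univ.sup n, fun q hq => ?_⟩
  rw [← hG] at hq
  refine Submodule.span_induction
    (p := fun y _ => g ^ (Finset.univ.sup n) • Θ y ∈ T) ?_ ?_ ?_ ?_ hq
  · intro x hx
    have hx' : x ∈ G := Finset.mem_coe.mp hx
    have hle : n ⟨x, hx'⟩ ≤ Finset.univ.sup n := Finset.le_sup (Finset.mem_univ _)
    obtain ⟨d, hd⟩ := Nat.exists_eq_add_of_le hle
    rw [hd, pow_add, mul_comm, mul_smul]
    exact Submodule.smul_mem _ _ (hn ⟨x, hx'⟩)
  · rw [map_zero, smul_zero]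
    exact Submodule.zero_mem _
  · intro x y _ _ hx hy
    rw [map_add, smul_add]
    exact Submodule.add_mem _ hx hy
  · intro a x _ hx
    rw [map_smul, smul_comm]
    exact Submodule.smul_mem _ _ hx

variable {N : Type*} [AddCommGroup N] [Module R N]

theorem local_claim (h : LinearMap.ker (jf rel) →ₗ[R] N)
    (htr : ∀ y (hy : y ∈ Tr rel), h ⟨y, tr_le_ker rel hy⟩ = 0)
    (D m₁ m₂ : ℕ) (Θ : (σ → R) →ₗ[R] (σ → R))
    (h1 : ∀ v, g ^ m₁ * jf rel (Θ v) = g ^ m₁ * (g ^ D * jf rel v))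
    (h2 : ∀ q ∈ LinearMap.ker (jf rel), g ^ m₂ • Θ q ∈ Tr rel) :
    ∃ γ : σ → N, ∀ q : LinearMap.ker (jf rel),
      g ^ (m₂ + m₁ + D) • h q = ∑ s, (q : σ → R) s • γ s := by
  obtain ⟨ωL, hωL⟩ : ∃ ωL : (σ → R) →ₗ[R] (σ → R),
      ωL = g ^ m₁ • (g ^ D • LinearMap.id - Θ) := ⟨_, rfl⟩
  have hω : ∀ v, ωL v ∈ LinearMap.ker (jf rel) := by
    intro v
    rw [LinearMap.mem_ker, hωL]
    simp only [LinearMap.smul_apply, LinearMap.sub_apply, LinearMap.id_apply, map_smul, map_sub,
      smul_eq_mul]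
    rw [mul_sub, h1, sub_self]
  obtain ⟨ωQ, hωQ⟩ : ∃ ωQ : (σ → R) →ₗ[R] LinearMap.ker (jf rel),
      ∀ v, ((ωQ v : LinearMap.ker (jf rel)) : σ → R) = ωL v :=
    ⟨ωL.codRestrict _ hω, fun v => rfl⟩
  refine ⟨fun s => g ^ m₂ • (h ∘ₗ ωQ) (fun j => if s = j then 1 else 0), fun q => ?_⟩
  have hkey : g ^ (m₂ + m₁ + D) • (q : σ → R) =
      g ^ m₂ • ωL q.1 + g ^ m₁ • (g ^ m₂ • Θ q.1) := by
    funext s
    simp only [hωL, Pi.add_apply, Pi.smul_apply, Pi.sub_apply, LinearMap.smul_apply,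
      LinearMap.sub_apply, LinearMap.id_apply, smul_eq_mul, pow_add]
    ring
  have hsub : g ^ (m₂ + m₁ + D) • q = g ^ m₂ • ωQ q.1 +
      g ^ m₁ • (⟨g ^ m₂ • Θ q.1, tr_le_ker rel (h2 q.1 q.2)⟩ : LinearMap.ker (jf rel)) := by
    apply Subtype.ext
    rw [Submodule.coe_smul, Submodule.coe_add, Submodule.coe_smul, Submodule.coe_smul, hωQ]
    exact hkey
  have h3 := congrArg h hsub
  rw [map_smul, map_add, map_smul, map_smul, htr _ (h2 q.1 q.2), smul_zero, add_zero] at h3
  rw [h3]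
  have h4 := LinearMap.pi_apply_eq_sum_univ (h ∘ₗ ωQ) (q : σ → R)
  rw [LinearMap.comp_apply] at h4
  rw [h4, Finset.smul_sum]
  apply Finset.sum_congr rfl
  intro s _
  rw [smul_comm]

theorem lci_local {c : ℕ} (l : Fin c → S) (hl : CAlgX.IsH1Regular l)
    (hI : Ideal.map (algebraMap R S) (Ideal.span (Set.range rel)) = Ideal.span (Set.range l))
    (hfg : (LinearMap.ker (jf rel)).FG)
    (h : LinearMap.ker (jf rel) →ₗ[R] N)
    (htr : ∀ y (hy : y ∈ Tr rel), h ⟨y, tr_le_ker rel hy⟩ = 0) :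
    ∃ (M : ℕ) (γ : σ → N), ∀ q : LinearMap.ker (jf rel),
      g ^ M • h q = ∑ s, (q : σ → R) s • γ s := by
  have hmapI : Ideal.map (algebraMap R S) (Ideal.span (Set.range rel)) =
      Ideal.span (Set.range ((algebraMap R S) ∘ rel)) := by
    rw [Ideal.map_span, ← Set.range_comp]
  have h1 : ∀ t, ∃ a : σ → S, ∑ s, a s * algebraMap R S (rel s) = l t := by
    intro t
    have h2 : l t ∈ Ideal.span (Set.range ((algebraMap R S) ∘ rel)) := by
      rw [← hmapI, hI]
      exact Ideal.subset_span ⟨t, rfl⟩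
    obtain ⟨a, ha⟩ := Ideal.mem_span_range_iff_exists_fun.mp h2
    exact ⟨a, ha⟩
  choose a ha using h1
  have h2 : ∀ s, ∃ b : Fin c → S, ∑ t, b t * l t = algebraMap R S (rel s) := by
    intro s
    have h3 : algebraMap R S (rel s) ∈ Ideal.span (Set.range l) := by
      rw [← hI]
      exact Ideal.mem_map_of_mem _ (Ideal.subset_span ⟨s, rfl⟩)
    exact Ideal.mem_span_range_iff_exists_fun.mp h3
  choose b hb using h2
  obtain ⟨da, A', hA'⟩ := exists_clear g S (fun ts : Fin c × σ => a ts.1 ts.2)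
  obtain ⟨db, B', hB'⟩ := exists_clear g S (fun st : σ × Fin c => b st.1 st.2)
  obtain ⟨A, hA⟩ : ∃ A : Fin c → σ → R, ∀ t s, A t s = A' (t, s) :=
    ⟨fun t s => A' (t, s), fun _ _ => rfl⟩
  obtain ⟨B, hB⟩ : ∃ B : σ → Fin c → R, ∀ s t, B s t = B' (s, t) :=
    ⟨fun s t => B' (s, t), fun _ _ => rfl⟩
  have hAφ : ∀ t s, algebraMap R S (A t s) = algebraMap R S (g ^ da) * a t s := fun t s => by
    rw [hA]
    exact hA' (t, s)
  have hBφ : ∀ s t, algebraMap R S (B s t) = algebraMap R S (g ^ db) * b s t := fun s t => by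
    rw [hB]
    exact hB' (s, t)
  have hE1 : ∀ t, algebraMap R S (jf rel (A t)) = algebraMap R S (g ^ da) * l t := by
    intro t
    rw [jf_apply, map_sum, ← ha t, Finset.mul_sum]
    apply Finset.sum_congr rfl
    intro s _
    rw [map_mul, hAφ]
    ring
  obtain ⟨m₁, hm₁⟩ := exists_pow_jf_Th g S rel l A B da db b hb hBφ hE1
  obtain ⟨m₂, hm₂⟩ := uniform_fg g (LinearMap.ker (jf rel)) (Tr rel) hfg (Th A B)
    (fun q hq => exists_pow_Th_mem g S rel l hl A B da db b hb hBφ hE1 q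
      (LinearMap.mem_ker.mp hq))
  obtain ⟨γ, hγ⟩ := local_claim g rel h htr (da + db) m₁ m₂ (Th A B) hm₁ hm₂
  exact ⟨_, γ, hγ⟩

end Gen

section Global

variable {R : Type u} [CommRing R] {σ : Type} [Fintype σ] [DecidableEq σ] (rel : σ → R)
  {N : Type*} [AddCommGroup N] [Module R N]

/-- the ideal of multipliers for which the extension problem is solvable -/
def Jid (h : LinearMap.ker (jf rel) →ₗ[R] N) : Ideal R where
  carrier := {x | ∃ γ : σ → N, ∀ q : LinearMap.ker (jf rel),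
    x • h q = ∑ s, (q : σ → R) s • γ s}
  add_mem' := by
    rintro x y ⟨γ, hγ⟩ ⟨γ', hγ'⟩
    refine ⟨γ + γ', fun q => ?_⟩
    rw [add_smul, hγ q, hγ' q, ← Finset.sum_add_distrib]
    apply Finset.sum_congr rfl
    intro s _
    rw [Pi.add_apply, smul_add]
  zero_mem' := by
    refine ⟨0, fun q => ?_⟩
    rw [zero_smul]
    symm
    apply Finset.sum_eq_zero
    intro s _
    rw [Pi.zero_apply, smul_zero]
  smul_mem' := by
    rintro c x ⟨γ, hγ⟩
    refine ⟨c • γ, fun q => ?_⟩
    rw [smul_eq_mul, mul_smul, hγ q, Finset.smul_sum]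
    apply Finset.sum_congr rfl
    intro s _
    rw [Pi.smul_apply, smul_comm]

theorem mem_Jid (h : LinearMap.ker (jf rel) →ₗ[R] N) (x : R) :
    x ∈ Jid rel h ↔ ∃ γ : σ → N, ∀ q : LinearMap.ker (jf rel),
      x • h q = ∑ s, (q : σ → R) s • γ s := Iff.rfl

theorem hext_fun [IsNoetherianRing R]
    (hK : LCI.IsKoszulRegularIdeal (Ideal.span (Set.range rel)))
    (h : LinearMap.ker (jf rel) →ₗ[R] N)
    (htriv : ∀ (a b : σ → R) (hm : jf rel a • b - jf rel b • a ∈ LinearMap.ker (jf rel)),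
      h ⟨_, hm⟩ = 0) :
    ∃ γ : σ → N, ∀ q : LinearMap.ker (jf rel), h q = ∑ s, (q : σ → R) s • γ s := by
  have htr : ∀ y (hy : y ∈ Tr rel), h ⟨y, tr_le_ker rel hy⟩ = 0 := by
    intro y hy
    have key : ∀ (hmem : y ∈ LinearMap.ker (jf rel)), h ⟨y, hmem⟩ = 0 := by
      refine Submodule.span_induction
        (p := fun y _ => ∀ hmem : y ∈ LinearMap.ker (jf rel), h ⟨y, hmem⟩ = 0) ?_ ?_ ?_ ?_ hy
      · rintro x ⟨a, b, rfl⟩ hmem
        exact htriv a b hmem
      · intro hmem
        have : (⟨0, hmem⟩ : LinearMap.ker (jf rel)) = 0 := rfl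
        rw [this, map_zero]
      · intro x y hx hy ihx ihy hmem
        have hx' : x ∈ LinearMap.ker (jf rel) := tr_le_ker rel hx
        have hy' : y ∈ LinearMap.ker (jf rel) := tr_le_ker rel hy
        have : (⟨x + y, hmem⟩ : LinearMap.ker (jf rel)) = ⟨x, hx'⟩ + ⟨y, hy'⟩ := rfl
        rw [this, map_add, ihx hx', ihy hy', add_zero]
      · intro r x hx ihx hmem
        have hx' : x ∈ LinearMap.ker (jf rel) := tr_le_ker rel hx
        have : (⟨r • x, hmem⟩ : LinearMap.ker (jf rel)) = r • ⟨x, hx'⟩ := rfl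
        rw [this, map_smul, ihx hx', smul_zero]
    exact key _
  have hfg : (LinearMap.ker (jf rel)).FG := IsNoetherian.noetherian _
  have htop : Jid rel h = ⊤ := by
    by_contra hne
    obtain ⟨𝔪, hmax, hle⟩ := Ideal.exists_le_maximal _ hne
    haveI : 𝔪.IsPrime := hmax.isPrime
    by_cases hI : Ideal.span (Set.range rel) ≤ 𝔪
    · obtain ⟨g, hg, l, hl, hspan⟩ := hK ⟨𝔪, inferInstance⟩ hI
      have hH1 := Groth.Agent.Lib.Helper4.KosH1.isH1Regular_of_koszul l hl
      have hspan' : Ideal.map (algebraMap R (Localization.Away g)) (Ideal.span (Set.range rel)) =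
          Ideal.span (Set.range l.get) := by
        rw [hspan, Set.range_list_get]
      obtain ⟨M, γ, hγ⟩ := lci_local g (Localization.Away g) rel l.get hH1 hspan' hfg h htr
      have hmem : g ^ M ∈ Jid rel h := ⟨γ, hγ⟩
      exact hg (Ideal.IsPrime.mem_of_pow_mem inferInstance M (hle hmem))
    · obtain ⟨g, hgI, hg𝔪⟩ := SetLike.not_le_iff_exists.mp hI
      obtain ⟨cv, hcv⟩ := Ideal.mem_span_range_iff_exists_fun.mp hgI
      have hjc : jf rel cv = g := hcv
      have hmem : g ∈ Jid rel h := by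
        refine ⟨0, fun q => ?_⟩
        have hq0 : jf rel (q : σ → R) = 0 := LinearMap.mem_ker.mp q.2
        have hm : jf rel cv • (q : σ → R) - jf rel (q : σ → R) • cv ∈
            LinearMap.ker (jf rel) := tr_le_ker rel (Submodule.subset_span ⟨cv, q, rfl⟩)
        have h5 : g • q = (⟨_, hm⟩ : LinearMap.ker (jf rel)) := by
          apply Subtype.ext
          rw [Submodule.coe_smul]
          show g • (q : σ → R) = jf rel cv • (q : σ → R) - jf rel (q : σ → R) • cv
          rw [hq0, zero_smul, sub_zero, hjc]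
        rw [← map_smul, h5, htriv cv q hm]
        symm
        apply Finset.sum_eq_zero
        intro s _
        rw [Pi.zero_apply, smul_zero]
      exact hg𝔪 (hle hmem)
  have h1 : (1 : R) ∈ Jid rel h := by
    rw [htop]
    trivial
  obtain ⟨γ, hγ⟩ := h1
  exact ⟨γ, fun q => by rw [← hγ q, one_smul]⟩

/-- the same statement for finitely supported functions -/
theorem hext_fs [IsNoetherianRing R]
    (hK : LCI.IsKoszulRegularIdeal (Ideal.span (Set.range rel)))
    (hbar : LinearMap.ker (Finsupp.linearCombination R rel) →ₗ[R] N)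
    (htriv : ∀ (a b : σ →₀ R)
      (hm : Finsupp.linearCombination R rel a • b - Finsupp.linearCombination R rel b • a ∈
        LinearMap.ker (Finsupp.linearCombination R rel)), hbar ⟨_, hm⟩ = 0) :
    ∃ γ : σ → N, ∀ q : LinearMap.ker (Finsupp.linearCombination R rel),
      hbar q = (q : σ →₀ R).sum (fun s c => c • γ s) := by
  obtain ⟨E, hE⟩ : ∃ E : (σ →₀ R) ≃ₗ[R] (σ → R), ∀ x s, E x s = x s :=
    ⟨Finsupp.linearEquivFunOnFinite R R σ, fun _ _ => rfl⟩
  have hEs : ∀ (v : σ → R) s, E.symm v s = v s := fun v s => by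
    rw [← hE, LinearEquiv.apply_symm_apply]
  have hjE : ∀ x : σ →₀ R, jf rel (E x) = Finsupp.linearCombination R rel x := by
    intro x
    rw [jf_apply, Finsupp.linearCombination_apply,
      Finsupp.sum_fintype x (fun i a => a • rel i) (fun s => zero_smul _ _)]
    apply Finset.sum_congr rfl
    intro s _
    rw [hE, smul_eq_mul]
  have hjEs : ∀ v : σ → R, Finsupp.linearCombination R rel (E.symm v) = jf rel v := by
    intro v
    rw [← hjE, LinearEquiv.apply_symm_apply]
  have hmemK : ∀ v ∈ LinearMap.ker (jf rel), (E.symm : (σ → R) →ₗ[R] (σ →₀ R)) v ∈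
      LinearMap.ker (Finsupp.linearCombination R rel) := by
    intro v hv
    rw [LinearMap.mem_ker]
    show Finsupp.linearCombination R rel (E.symm v) = 0
    rw [hjEs]
    exact LinearMap.mem_ker.mp hv
  obtain ⟨h, hh⟩ : ∃ h : LinearMap.ker (jf rel) →ₗ[R] N, ∀ (v : σ → R)
      (hv : v ∈ LinearMap.ker (jf rel)), h ⟨v, hv⟩ = hbar ⟨E.symm v, hmemK v hv⟩ :=
    ⟨hbar ∘ₗ (E.symm : (σ → R) →ₗ[R] (σ →₀ R)).restrict hmemK, fun v hv => rfl⟩
  have htriv' : ∀ (a b : σ → R) (hm : jf rel a • b - jf rel b • a ∈ LinearMap.ker (jf rel)),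
      h ⟨_, hm⟩ = 0 := by
    intro a b hm
    rw [hh]
    have hm' : Finsupp.linearCombination R rel (E.symm a) • E.symm b -
        Finsupp.linearCombination R rel (E.symm b) • E.symm a ∈
          LinearMap.ker (Finsupp.linearCombination R rel) := by
      rw [LinearMap.mem_ker, map_sub, map_smul, map_smul, smul_eq_mul, smul_eq_mul, mul_comm,
        sub_self]
    have h6 : (⟨E.symm (jf rel a • b - jf rel b • a), hmemK _ hm⟩ :
        LinearMap.ker (Finsupp.linearCombination R rel)) = ⟨_, hm'⟩ := by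
      apply Subtype.ext
      show E.symm (jf rel a • b - jf rel b • a) =
        Finsupp.linearCombination R rel (E.symm a) • E.symm b -
          Finsupp.linearCombination R rel (E.symm b) • E.symm a
      rw [map_sub, map_smul, map_smul, hjEs, hjEs]
    rw [h6]
    exact htriv _ _ hm'
  obtain ⟨γ, hγ⟩ := hext_fun rel hK h htriv'
  refine ⟨γ, fun q => ?_⟩
  have hq : E (q : σ →₀ R) ∈ LinearMap.ker (jf rel) := by
    rw [LinearMap.mem_ker, hjE]
    exact LinearMap.mem_ker.mp q.2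
  have h7 := hγ ⟨E (q : σ →₀ R), hq⟩
  rw [hh] at h7
  have h8 : (⟨E.symm (E (q : σ →₀ R)), hmemK _ hq⟩ :
      LinearMap.ker (Finsupp.linearCombination R rel)) = q :=
    Subtype.ext (E.symm_apply_apply _)
  rw [h8] at h7
  rw [h7, Finsupp.sum_fintype (q : σ →₀ R) (fun s c => c • γ s) (fun s => zero_smul _ _)]
  apply Finset.sum_congr rfl
  intro s _
  show E (q : σ →₀ R) s • γ s = _
  rw [hE]

end Global

end Groth.Agent.Helper3.LciExt
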