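import Mathlib
import Groth.Agent.Lib.Helper3.T2Lift1

/-! Lifting flat deformations of presented algebras over Artinian bases with residue map a ring
homomorphism (no coefficient field): bases and presentations (helper3). -/

set_option autoImplicit false
set_option linter.style.haveILetI false
set_option linter.unusedSectionVars false
universe u

namespace Groth.Agent.Helper3.LciLift

open MvPolynomial
open Groth.Agent.Helper3

section Basis

variable {k : Type u} [Field k] {B₀ : Type u} [CommRing B₀] [Algebra k B₀]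
  {A : Type u} [CommRing A] (e : A →+* k)
  {B : Type u} [CommRing B] [Algebra A B] (ι₀ : B →+* B₀)

theorem iota_lc {Λ : Type u} (bas : Module.Basis Λ k B₀)
    (hcomp : ∀ a, ι₀ (algebraMap A B a) = algebraMap k B₀ (e a))
    (E : Λ → B) (hE : ∀ l, ι₀ (E l) = bas l) (x : Λ →₀ A) :
    ι₀ (Finsupp.linearCombination A E x) =
      Finsupp.linearCombination k bas (Finsupp.mapRange e (map_zero e) x) := by
  induction x using Finsupp.induction_linear with
  | zero => simp
  | add x y hx hy =>
    rw [map_add, map_add, hx, hy, Finsupp.mapRange_add (map_add e), map_add]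
  | single s r =>
    rw [Finsupp.mapRange_single, Finsupp.linearCombination_single,
      Finsupp.linearCombination_single, Algebra.smul_def, map_mul, hcomp, hE, Algebra.smul_def]

/-- a lift of a basis of the closed fibre is a basis of a flat module over a nilpotent
thickening -/
theorem basis_lift_bijective [Module.Flat A B] (he : Function.Surjective e)
    (hnil : IsNilpotent (RingHom.ker e))
    (hker : RingHom.ker ι₀ = Ideal.map (algebraMap A B) (RingHom.ker e))
    (hcomp : ∀ a, ι₀ (algebraMap A B a) = algebraMap k B₀ (e a))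
    {Λ : Type u} (bas : Module.Basis Λ k B₀) (E : Λ → B) (hE : ∀ l, ι₀ (E l) = bas l) :
    Function.Bijective (Finsupp.linearCombination A E) := by
  apply Groth.Agent.Lead.DefoIso.bijective_of_flat_of_nilpotent (RingHom.ker e) hnil
  · intro y
    obtain ⟨x, hx⟩ := Finsupp.mapRange_surjective e (map_zero e) he (bas.repr (ι₀ y))
    refine ⟨x, ?_⟩
    rw [Ideal.smul_top_eq_map]
    show _ ∈ Ideal.map (algebraMap A B) (RingHom.ker e)
    rw [← hker, RingHom.mem_ker, map_sub, iota_lc e ι₀ bas hcomp E hE, hx,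
      Module.Basis.linearCombination_repr, sub_self]
  · intro x hx
    apply T2Lift.finsupp_mem_smul_top
    intro l
    have h1 : Finsupp.linearCombination k bas (Finsupp.mapRange e (map_zero e) x) = 0 := by
      rw [← iota_lc e ι₀ bas hcomp E hE, hx, map_zero]
    have h2 : Finsupp.mapRange e (map_zero e) x = 0 :=
      (linearIndependent_iff.mp bas.linearIndependent) _ h1
    have h3 := DFunLike.congr_fun h2 l
    rw [Finsupp.mapRange_apply, Finsupp.zero_apply] at h3
    exact h3

theorem projective_of_flat [Module.Flat A B] (he : Function.Surjective e)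
    (hnil : IsNilpotent (RingHom.ker e))
    (hι : Function.Surjective ι₀)
    (hker : RingHom.ker ι₀ = Ideal.map (algebraMap A B) (RingHom.ker e))
    (hcomp : ∀ a, ι₀ (algebraMap A B a) = algebraMap k B₀ (e a)) : Module.Projective A B := by
  obtain ⟨⟨Λ, bas⟩⟩ := Module.Free.exists_basis (R := k) (M := B₀)
  choose E hE using fun l => hι (bas l)
  have hb := basis_lift_bijective e ι₀ he hnil hker hcomp bas E hE
  exact Module.Projective.of_equiv' (LinearEquiv.ofBijective _ hb)

end Basis

section LevelA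

variable {k : Type u} [Field k] {ι σ : Type} {B₀ : Type u} [CommRing B₀] [Algebra k B₀]
  (f : MvPolynomial ι k →ₐ[k] B₀) (rel : σ → MvPolynomial ι k)
  {A : Type u} [CommRing A] (e : A →+* k)
  {B : Type u} [CommRing B] [Algebra A B] (ι₀ : B →+* B₀)

theorem mem_map_C_ker (G : MvPolynomial ι A) :
    G ∈ Ideal.map C (RingHom.ker e) ↔ map e G = 0 := by
  have h : RingHom.ker (map e : MvPolynomial ι A →+* MvPolynomial ι k) =
      Ideal.map C (RingHom.ker e) := MvPolynomial.ker_map e
  constructor
  · intro hG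
    rw [← h] at hG
    exact hG
  · intro hG
    rw [← h]
    exact hG

theorem f_C (c : k) : f (C c) = algebraMap k B₀ c := f.commutes c

theorem chi_eq (hcomp : ∀ a, ι₀ (algebraMap A B a) = algebraMap k B₀ (e a)) (b : ι → B)
    (hb : ∀ i, ι₀ (b i) = f (X i)) (G : MvPolynomial ι A) :
    ι₀ (aeval b G) = f (map e G) := by
  induction G using MvPolynomial.induction_on with
  | C a => rw [aeval_C, hcomp, map_C, f_C]
  | add p q hp hq => simp only [map_add, hp, hq]
  | mul_X p i hp => simp only [map_mul, hp, aeval_X, map_X, hb]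

/-- the `A`-linear map underlying a ring map out of the polynomial ring -/
noncomputable def psiLin (ψ : MvPolynomial ι A →+* B) (hψC : ∀ a, ψ (C a) = algebraMap A B a) :
    MvPolynomial ι A →ₗ[A] B :=
  { toFun := ψ
    map_add' := map_add ψ
    map_smul' := fun a G => by
      rw [smul_eq_C_mul, map_mul, hψC, RingHom.id_apply, Algebra.smul_def] }

theorem exists_psi (he : Function.Surjective e) (hf : Function.Surjective f)
    (hnil : IsNilpotent (RingHom.ker e)) (hι : Function.Surjective ι₀)
    (hker : RingHom.ker ι₀ = Ideal.map (algebraMap A B) (RingHom.ker e))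
    (hcomp : ∀ a, ι₀ (algebraMap A B a) = algebraMap k B₀ (e a)) :
    ∃ ψ : MvPolynomial ι A →+* B, (∀ a, ψ (C a) = algebraMap A B a) ∧
      (∀ G, ι₀ (ψ G) = f (map e G)) ∧ Function.Surjective ψ := by
  choose b hb using fun i => hι (f (X i))
  obtain ⟨ψ, hψ⟩ : ∃ ψ : MvPolynomial ι A →+* B, ∀ G, ψ G = aeval b G :=
    ⟨(aeval b : MvPolynomial ι A →ₐ[A] B).toRingHom, fun _ => rfl⟩
  have hψC : ∀ a, ψ (C a) = algebraMap A B a := fun a => by rw [hψ, aeval_C]
  have hψι : ∀ G, ι₀ (ψ G) = f (map e G) := fun G => by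
    rw [hψ, chi_eq f e ι₀ hcomp b hb]
  refine ⟨ψ, hψC, hψι, ?_⟩
  have h := Groth.Agent.Lead.DefoIso.eq_top_of_top_le_sup_smul (RingHom.ker e) hnil
    (LinearMap.range (psiLin ψ hψC)) ?_
  · intro y
    have h1 : y ∈ LinearMap.range (psiLin ψ hψC) := by rw [h]; trivial
    exact h1
  · intro y _
    obtain ⟨g, hg⟩ := hf (ι₀ y)
    obtain ⟨G, hG⟩ := MvPolynomial.map_surjective e he g
    have h1 : ι₀ (y - ψ G) = 0 := by
      rw [map_sub, hψι, hG, hg, sub_self]
    have h2 : y - ψ G ∈ (RingHom.ker e) • (⊤ : Submodule A B) := by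
      rw [Ideal.smul_top_eq_map]
      show _ ∈ Ideal.map (algebraMap A B) (RingHom.ker e)
      rw [← hker]
      exact h1
    have h3 : y = ψ G + (y - ψ G) := by abel
    rw [h3]
    exact Submodule.add_mem_sup ⟨G, rfl⟩ h2

variable [Module.Projective A B] (ψ : MvPolynomial ι A →+* B)
  (hψC : ∀ a, ψ (C a) = algebraMap A B a) (hψs : Function.Surjective ψ)

include hψC hψs in
theorem ker_inf (G : MvPolynomial ι A) (h1 : ψ G = 0) (h2 : map e G = 0) :
    G ∈ Ideal.map C (RingHom.ker e) * RingHom.ker ψ := by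
  have h3 : G ∈ (RingHom.ker e) • (⊤ : Submodule A (MvPolynomial ι A)) ⊓
      LinearMap.ker (psiLin ψ hψC) := by
    refine ⟨?_, h1⟩
    rw [Ideal.smul_top_eq_map]
    show G ∈ Ideal.map (algebraMap A (MvPolynomial ι A)) (RingHom.ker e)
    rw [MvPolynomial.algebraMap_eq, mem_map_C_ker]
    exact h2
  have h4 := T2Lift.smul_top_inf_ker_le (psiLin ψ hψC) hψs (RingHom.ker e) h3
  refine Submodule.smul_induction_on h4 ?_ ?_
  · intro a ha n hn
    rw [smul_eq_C_mul]
    exact Ideal.mul_mem_mul (Ideal.mem_map_of_mem _ ha) (show n ∈ RingHom.ker ψ from hn)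
  · intro x y hx hy
    exact Ideal.add_mem _ hx hy

include hψC hψs in
theorem ker_eq_span (he : Function.Surjective e)
    (hK₀ : ∀ g, f g = 0 ↔ g ∈ Ideal.span (Set.range rel))
    (hnil : IsNilpotent (RingHom.ker e))
    (hψι : ∀ G, ι₀ (ψ G) = f (map e G))
    (F : σ → MvPolynomial ι A) (hF1 : ∀ s, ψ (F s) = 0)
    (hF2 : ∀ s, map e (F s) = rel s) :
    RingHom.ker ψ = Ideal.span (Set.range F) := by
  have hms : Function.Surjective (map e : MvPolynomial ι A → MvPolynomial ι k) :=
    MvPolynomial.map_surjective e he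
  have hle : Ideal.span (Set.range F) ≤ RingHom.ker ψ := by
    rw [Ideal.span_le]
    rintro _ ⟨s, rfl⟩
    exact hF1 s
  apply le_antisymm
  · apply T2Lift.le_of_le_sup_smul_of_nilpotent (Ideal.map C (RingHom.ker e))
      (T2Lift.isNilpotent_map_C _ hnil)
    intro G hG
    have hG0 : ψ G = 0 := hG
    have h1 : map e G ∈ Ideal.span (Set.range rel) :=
      (hK₀ _).mp (by rw [← hψι, hG0, map_zero])
    obtain ⟨c, hc⟩ := Finsupp.mem_span_range_iff_exists_finsupp.mp h1
    obtain ⟨ct, hct⟩ := Finsupp.mapRange_surjective (map e) (map_zero _) hms c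
    obtain ⟨G1, hG1def⟩ : ∃ G1 : MvPolynomial ι A,
        G1 = Finsupp.linearCombination (MvPolynomial ι A) F ct := ⟨_, rfl⟩
    have hG1 : G1 ∈ Ideal.span (Set.range F) := by
      rw [hG1def]
      exact Finsupp.mem_span_range_iff_exists_finsupp.mpr ⟨ct, rfl⟩
    have hG1e : map e G1 = map e G := by
      rw [hG1def, T2Lift.lc_map (map e) F rel hF2, hct, ← hc,
        Finsupp.linearCombination_apply]
    have hG1ψ : ψ G1 = 0 := hle hG1
    have h2 := ker_inf e ψ hψC hψs (G - G1) (by rw [map_sub, hG0, hG1ψ, sub_zero])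
      (by rw [map_sub, hG1e, sub_self])
    have h3 : G = G1 + (G - G1) := by abel
    rw [h3]
    exact Submodule.add_mem_sup hG1 h2
  · exact hle

include hψC hψs in
theorem lift_rel (he : Function.Surjective e)
    (F : σ → MvPolynomial ι A) (hK : RingHom.ker ψ = Ideal.span (Set.range F))
    (hF2 : ∀ s, map e (F s) = rel s)
    (q : σ →₀ MvPolynomial ι k)
    (hq : Finsupp.linearCombination (MvPolynomial ι k) rel q = 0) :
    ∃ ρ : σ →₀ MvPolynomial ι A,
      Finsupp.mapRange (map e) (map_zero _) ρ = q ∧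
        Finsupp.linearCombination (MvPolynomial ι A) F ρ = 0 := by
  have hms : Function.Surjective (map e : MvPolynomial ι A → MvPolynomial ι k) :=
    MvPolynomial.map_surjective e he
  obtain ⟨qt, hqt⟩ := Finsupp.mapRange_surjective (map e) (map_zero _) hms q
  obtain ⟨G, hGdef⟩ : ∃ G : MvPolynomial ι A,
      G = Finsupp.linearCombination (MvPolynomial ι A) F qt := ⟨_, rfl⟩
  have hGK : ψ G = 0 := by
    have h1 : G ∈ Ideal.span (Set.range F) := by
      rw [hGdef]
      exact Finsupp.mem_span_range_iff_exists_finsupp.mpr ⟨qt, rfl⟩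
    rw [← hK] at h1
    exact h1
  have hGe : map e G = 0 := by
    rw [hGdef, T2Lift.lc_map (map e) F rel hF2, hqt, hq]
  have h2 := ker_inf e ψ hψC hψs G hGK hGe
  rw [hK] at h2
  have h3 : G ∈ Ideal.map C (RingHom.ker e) •
      Submodule.span (MvPolynomial ι A) (Set.range F) := h2
  obtain ⟨a, ha, hsum⟩ := (Submodule.mem_ideal_smul_span_iff_exists_sum _ F G).mp h3
  refine ⟨qt - a, ?_, ?_⟩
  · ext s : 1
    have h4 : map e (a s) = 0 := (mem_map_C_ker e (a s)).mp (ha s)
    have h5 := DFunLike.congr_fun hqt s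
    rw [Finsupp.mapRange_apply] at h5
    rw [Finsupp.mapRange_apply, Finsupp.sub_apply, map_sub, h4, sub_zero, h5]
  · rw [map_sub, ← hGdef, Finsupp.linearCombination_apply, hsum, sub_self]

include hψC hψs in
theorem rel_flat (F : σ → MvPolynomial ι A) (hK : RingHom.ker ψ = Ideal.span (Set.range F))
    (ρ : σ →₀ MvPolynomial ι A)
    (h1 : Finsupp.linearCombination (MvPolynomial ι A) F ρ = 0)
    (h2 : ∀ s, map e (ρ s) = 0) :
    ρ ∈ (RingHom.ker e) • (LinearMap.ker
      ((Finsupp.linearCombination (MvPolynomial ι A) F).restrictScalars A)) := by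
  haveI : Module.Projective A (LinearMap.ker (psiLin ψ hψC)) :=
    T2Lift.ker_projective (psiLin ψ hψC) hψs
  have hmem : ∀ ρ' : σ →₀ MvPolynomial ι A,
      ((Finsupp.linearCombination (MvPolynomial ι A) F).restrictScalars A) ρ' ∈
        LinearMap.ker (psiLin ψ hψC) := by
    intro ρ'
    have h3 : Finsupp.linearCombination (MvPolynomial ι A) F ρ' ∈ Ideal.span (Set.range F) :=
      Finsupp.mem_span_range_iff_exists_finsupp.mpr ⟨ρ', rfl⟩
    rw [← hK] at h3
    exact h3
  obtain ⟨ψ₂, hψ₂⟩ : ∃ ψ₂ : (σ →₀ MvPolynomial ι A) →ₗ[A] LinearMap.ker (psiLin ψ hψC),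
      ψ₂ = LinearMap.codRestrict (LinearMap.ker (psiLin ψ hψC))
        ((Finsupp.linearCombination (MvPolynomial ι A) F).restrictScalars A) hmem := ⟨_, rfl⟩
  have hsurj : Function.Surjective ψ₂ := by
    rintro ⟨G, hG⟩
    have h3 : G ∈ Ideal.span (Set.range F) := by
      rw [← hK]
      exact hG
    obtain ⟨c, hc⟩ := Finsupp.mem_span_range_iff_exists_finsupp.mp h3
    refine ⟨c, ?_⟩
    apply Subtype.ext
    rw [hψ₂]
    show Finsupp.linearCombination (MvPolynomial ι A) F c = G
    rw [Finsupp.linearCombination_apply, hc]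
  have hρtop : ρ ∈ (RingHom.ker e) • (⊤ : Submodule A (σ →₀ MvPolynomial ι A)) := by
    rw [← Finsupp.sum_single ρ]
    refine Submodule.sum_mem _ fun s _ => ?_
    have h3 : ρ s ∈ (RingHom.ker e) • (⊤ : Submodule A (MvPolynomial ι A)) := by
      rw [Ideal.smul_top_eq_map]
      show ρ s ∈ Ideal.map (algebraMap A (MvPolynomial ι A)) (RingHom.ker e)
      rw [MvPolynomial.algebraMap_eq, mem_map_C_ker]
      exact h2 s
    have h4 : Finsupp.lsingle (R := A) (M := MvPolynomial ι A) s (ρ s) ∈
        Submodule.map (Finsupp.lsingle (R := A) (M := MvPolynomial ι A) s)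
          ((RingHom.ker e) • ⊤) := Submodule.mem_map_of_mem h3
    rw [Submodule.map_smul''] at h4
    exact Submodule.smul_mono le_rfl le_top h4
  have hρker : ρ ∈ LinearMap.ker ψ₂ := by
    rw [LinearMap.mem_ker, hψ₂]
    apply Subtype.ext
    exact h1
  have h5 := T2Lift.smul_top_inf_ker_le ψ₂ hsurj (RingHom.ker e) ⟨hρtop, hρker⟩
  have h6 : LinearMap.ker ψ₂ = LinearMap.ker
      ((Finsupp.linearCombination (MvPolynomial ι A) F).restrictScalars A) := by
    rw [hψ₂, LinearMap.ker_codRestrict]
  rw [h6] at h5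
  exact h5

end LevelA

end Groth.Agent.Helper3.LciLift
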