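import Mathlib
import Groth.Agent.Lib.Helper3.LciB1

/-! Lifting flat deformations of presented algebras along a small extension, residue maps being
ring homomorphisms: the obstruction calculus (helper3). -/

set_option autoImplicit false
set_option linter.style.haveILetI false
set_option linter.unusedSectionVars false
universe u

namespace Groth.Agent.Helper3.LciLift

open MvPolynomial
open Groth.Agent.Helper3

section Theta

variable {k : Type u} [Field k] {ι σ : Type} {B₀ : Type u} [CommRing B₀] [Algebra k B₀]
  (f : MvPolynomial ι k →ₐ[k] B₀) (rel : σ → MvPolynomial ι k)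
  {A : Type u} [CommRing A] (e : A →+* k)
  {A' : Type u} [CommRing A'] (e' : A' →+* k) (he' : Function.Surjective e')
  (p : A' →+* A) (ε : A')

/-- a set-theoretic lift of a polynomial -/
noncomputable def lft (g : MvPolynomial ι k) : MvPolynomial ι A' :=
  Function.surjInv (MvPolynomial.map_surjective e' he') g

theorem map_lft (g : MvPolynomial ι k) : map e' (lft e' he' g) = g :=
  Function.surjInv_eq (MvPolynomial.map_surjective e' he') g

/-- `g ↦ ε · g`, from `k[X]` to `A'[X]` -/
noncomputable def theta (g : MvPolynomial ι k) : MvPolynomial ι A' :=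
  C ε * lft e' he' g

theorem theta_def (g : MvPolynomial ι k) : theta e' he' ε g = C ε * lft e' he' g := rfl

section

variable (hmε : ∀ a, e' a = 0 → a * ε = 0)
include hmε

theorem C_eps_mul_eq_zero (H : MvPolynomial ι A') (hH : map e' H = 0) :
    C ε * H = 0 := by
  ext m
  rw [coeff_C_mul, coeff_zero, mul_comm]
  apply hmε
  have h1 := congrArg (coeff m) hH
  rw [coeff_map, coeff_zero] at h1
  exact h1

theorem C_eps_mul (G : MvPolynomial ι A') : C ε * G = theta e' he' ε (map e' G) := by
  have h1 : C ε * (G - lft e' he' (map e' G)) = 0 := by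
    apply C_eps_mul_eq_zero e' ε hmε
    rw [map_sub, map_lft, sub_self]
  rw [mul_sub, sub_eq_zero] at h1
  rw [h1, theta_def]

theorem theta_zero : theta e' he' ε (0 : MvPolynomial ι k) = 0 := by
  rw [theta_def]
  apply C_eps_mul_eq_zero e' ε hmε
  rw [map_lft]

theorem theta_add (g h : MvPolynomial ι k) :
    theta e' he' ε (g + h) = theta e' he' ε g + theta e' he' ε h := by
  have h1 : C ε * (lft e' he' (g + h) - (lft e' he' g + lft e' he' h)) = 0 := by
    apply C_eps_mul_eq_zero e' ε hmε
    rw [map_sub, map_add, map_lft, map_lft, map_lft, sub_self]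
  rw [mul_sub, sub_eq_zero, mul_add] at h1
  rw [theta_def, theta_def, theta_def]
  exact h1

theorem theta_sub (g h : MvPolynomial ι k) :
    theta e' he' ε (g - h) = theta e' he' ε g - theta e' he' ε h := by
  have h1 : C ε * (lft e' he' (g - h) - (lft e' he' g - lft e' he' h)) = 0 := by
    apply C_eps_mul_eq_zero e' ε hmε
    rw [map_sub, map_sub, map_lft, map_lft, map_lft, sub_self]
  rw [mul_sub, sub_eq_zero, mul_sub] at h1
  rw [theta_def, theta_def, theta_def]
  exact h1

theorem theta_sum {τ : Type*} (t : Finset τ) (g : τ → MvPolynomial ι k) :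
    theta e' he' ε (∑ s ∈ t, g s) = ∑ s ∈ t, theta e' he' ε (g s) := by
  classical
  induction t using Finset.induction_on with
  | empty =>
    rw [Finset.sum_empty, Finset.sum_empty]
    exact theta_zero e' he' ε hmε
  | insert a t ha ih =>
    rw [Finset.sum_insert ha, Finset.sum_insert ha, theta_add e' he' ε hmε, ih]

theorem theta_mul (g : MvPolynomial ι k) (H : MvPolynomial ι A') :
    theta e' he' ε g * H = theta e' he' ε (g * map e' H) := by
  rw [theta_def, mul_assoc, C_eps_mul e' he' ε hmε, map_mul, map_lft]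

end

theorem theta_injective (hunit : ∀ a : A', e' a ≠ 0 → IsUnit a) (hε0 : ε ≠ 0)
    (g : MvPolynomial ι k) (h : theta e' he' ε g = 0) : g = 0 := by
  ext m
  by_contra hne
  rw [coeff_zero] at hne
  have h1 := congrArg (coeff m) h
  rw [theta_def, coeff_C_mul, coeff_zero] at h1
  apply hε0
  have h2 : e' (coeff m (lft e' he' g)) = coeff m g := by
    rw [← coeff_map, map_lft]
  have hu : IsUnit (coeff m (lft e' he' g)) := hunit _ (by rw [h2]; exact hne)
  exact hu.mul_left_eq_zero.mp h1

section

variable (hε : RingHom.ker p = Ideal.span {ε})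
include hε

theorem p_eps : p ε = 0 := by
  have h1 : ε ∈ RingHom.ker p := by
    rw [hε]
    exact Ideal.mem_span_singleton_self ε
  exact h1

theorem map_p_theta (g : MvPolynomial ι k) : map p (theta e' he' ε g) = 0 := by
  rw [theta_def, map_mul, map_C, p_eps p ε hε, C_0, zero_mul]

theorem exists_mul_of_map_eq_zero (G : MvPolynomial ι A')
    (hG : map p G = 0) : ∃ c : MvPolynomial ι A', G = C ε * c := by
  have h1 : G ∈ RingHom.ker (map p : MvPolynomial ι A' →+* MvPolynomial ι A) := hG
  rw [ker_map, hε, Ideal.map_span, Set.image_singleton] at h1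
  obtain ⟨c, hc⟩ := Ideal.mem_span_singleton'.mp h1
  exact ⟨c, by rw [← hc, mul_comm]⟩

theorem exists_theta_of_map_eq_zero (hmε : ∀ a, e' a = 0 → a * ε = 0) (G : MvPolynomial ι A')
    (hG : map p G = 0) : ∃ h : MvPolynomial ι k, G = theta e' he' ε h := by
  obtain ⟨c, hc⟩ := exists_mul_of_map_eq_zero p ε hε G hG
  exact ⟨_, by rw [hc, C_eps_mul e' he' ε hmε]⟩

end

/-- being `ε` times an element of the ideal of relations -/
def InTheta (G : MvPolynomial ι A') : Prop := ∃ c, f c = 0 ∧ G = theta e' he' ε c

section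

variable (hmε : ∀ a, e' a = 0 → a * ε = 0)
include hmε

theorem inTheta_zero : InTheta f e' he' ε (0 : MvPolynomial ι A') :=
  ⟨0, map_zero f, (theta_zero e' he' ε hmε).symm⟩

theorem inTheta_add {G H : MvPolynomial ι A'} (hG : InTheta f e' he' ε G)
    (hH : InTheta f e' he' ε H) : InTheta f e' he' ε (G + H) := by
  obtain ⟨c, hc, rfl⟩ := hG
  obtain ⟨d, hd, rfl⟩ := hH
  exact ⟨c + d, by rw [map_add, hc, hd, add_zero], (theta_add e' he' ε hmε c d).symm⟩

theorem inTheta_sum {τ : Type*} (t : Finset τ) (G : τ → MvPolynomial ι A')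
    (h : ∀ s ∈ t, InTheta f e' he' ε (G s)) : InTheta f e' he' ε (∑ s ∈ t, G s) := by
  classical
  induction t using Finset.induction_on with
  | empty =>
    rw [Finset.sum_empty]
    exact inTheta_zero f e' he' ε hmε
  | insert a t ha ih =>
    rw [Finset.sum_insert ha]
    exact inTheta_add f e' he' ε hmε (h a (Finset.mem_insert_self a t))
      (ih fun s hs => h s (Finset.mem_insert_of_mem hs))

end

variable (hε : RingHom.ker p = Ideal.span {ε})
  (hmε : ∀ a, e' a = 0 → a * ε = 0)
  (hrel0 : ∀ s, f (rel s) = 0)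
  (F' : σ → MvPolynomial ι A') (hF'e : ∀ s, map e' (F' s) = rel s)

include hε hmε hF'e hrel0 in
theorem inTheta_of_ker (κ : σ →₀ MvPolynomial ι A')
    (hκ : ∀ s, map p (κ s) = 0) :
    InTheta f e' he' ε (Finsupp.linearCombination (MvPolynomial ι A') F' κ) := by
  rw [Finsupp.linearCombination_apply]
  refine inTheta_sum f e' he' ε hmε _ _ fun s _ => ?_
  obtain ⟨h, hh⟩ := exists_theta_of_map_eq_zero e' he' p ε hε hmε (κ s) (hκ s)
  refine ⟨h * rel s, by rw [map_mul, hrel0, mul_zero], ?_⟩
  show κ s • F' s = _
  rw [smul_eq_mul, hh, theta_mul e' he' ε hmε, hF'e]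

variable (hp : Function.Surjective p) (hep : ∀ a, e (p a) = e' a)
  (F : σ → MvPolynomial ι A)
  (hrelflat : ∀ ρ : σ →₀ MvPolynomial ι A,
    Finsupp.linearCombination (MvPolynomial ι A) F ρ = 0 →
    (∀ s, map e (ρ s) = 0) →
    ρ ∈ (RingHom.ker e) • (LinearMap.ker
      ((Finsupp.linearCombination (MvPolynomial ι A) F).restrictScalars A)))
  (hF'p : ∀ s, map p (F' s) = F s)

include hep in
theorem map_e_map_p (G : MvPolynomial ι A') :
    map e (map p G) = map e' G := by
  have h1 : e.comp p = e' := RingHom.ext fun a => hep a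
  rw [MvPolynomial.map_map, h1]

include hε hmε hF'e hrel0 hp hep hrelflat hF'p in
/-- the key vanishing: lifts of relations which vanish on the closed fibre have obstruction in
the ideal of relations -/
theorem inTheta_of_lift_zero (δ : σ →₀ MvPolynomial ι A')
    (hδ1 : ∀ s, map e' (δ s) = 0)
    (hδ2 : map p (Finsupp.linearCombination (MvPolynomial ι A') F' δ) = 0) :
    InTheta f e' he' ε (Finsupp.linearCombination (MvPolynomial ι A') F' δ) := by
  have hps : Function.Surjective (map p :
      MvPolynomial ι A' → MvPolynomial ι A) := MvPolynomial.map_surjective p hp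
  have hρ1 : Finsupp.linearCombination (MvPolynomial ι A) F
      (Finsupp.mapRange (map p) (map_zero _) δ) = 0 := by
    rw [← T2Lift.lc_map (map p) F' F hF'p]
    exact hδ2
  have hρ2 : ∀ s, map e
      ((Finsupp.mapRange (map p) (map_zero _) δ) s) = 0 := fun s => by
    rw [Finsupp.mapRange_apply, map_e_map_p e e' p hep, hδ1]
  have hρ := hrelflat _ hρ1 hρ2
  have claim : ∀ ρ₀ ∈ (RingHom.ker e) • (LinearMap.ker
      ((Finsupp.linearCombination (MvPolynomial ι A) F).restrictScalars A)),
      ∀ δ'' : σ →₀ MvPolynomial ι A',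
        Finsupp.mapRange (map p) (map_zero _) δ'' = ρ₀ →
        InTheta f e' he' ε (Finsupp.linearCombination (MvPolynomial ι A') F' δ'') := by
    intro ρ₀ hρ₀
    refine Submodule.smul_induction_on hρ₀ ?_ ?_
    · intro μ hμ n hn δ'' hδ''
      obtain ⟨μ', hμ'⟩ := hp μ
      obtain ⟨n', hn'⟩ := Finsupp.mapRange_surjective (map p) (map_zero _) hps n
      have he'μ' : e' μ' = 0 := by
        rw [← hep, hμ']
        exact hμ
      obtain ⟨κ, hκdef⟩ : ∃ κ : σ →₀ MvPolynomial ι A',
          κ = δ'' - (C μ' : MvPolynomial ι A') • n' := ⟨_, rfl⟩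
      have hκ : ∀ s, map p (κ s) = 0 := by
        intro s
        have h1 := DFunLike.congr_fun hδ'' s
        have h2 := DFunLike.congr_fun hn' s
        rw [Finsupp.mapRange_apply] at h1 h2
        rw [hκdef, Finsupp.sub_apply, Finsupp.smul_apply, map_sub, smul_eq_mul, map_mul, map_C,
          h1, h2, Finsupp.smul_apply, smul_eq_C_mul, hμ', sub_self]
      have h3 : Finsupp.linearCombination (MvPolynomial ι A') F' δ'' =
          Finsupp.linearCombination (MvPolynomial ι A') F' κ := by
        have h4 : δ'' = κ + (C μ' : MvPolynomial ι A') • n' := by rw [hκdef, sub_add_cancel]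
        have h5 : map p
            (Finsupp.linearCombination (MvPolynomial ι A') F' n') = 0 := by
          rw [T2Lift.lc_map (map p) F' F hF'p, hn']
          exact hn
        obtain ⟨c, hc⟩ := exists_mul_of_map_eq_zero p ε hε _ h5
        conv_lhs => rw [h4]
        rw [map_add, map_smul, smul_eq_mul, hc, ← mul_assoc, ← C_mul, hmε μ' he'μ', C_0,
          zero_mul, add_zero]
      rw [h3]
      exact inTheta_of_ker f rel e' he' p ε hε hmε hrel0 F' hF'e κ hκ
    · intro x y hx hy δ'' hδ''
      obtain ⟨δ₁, hδ₁⟩ := Finsupp.mapRange_surjective (map p) (map_zero _) hps x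
      have hδ₂ : Finsupp.mapRange (map p) (map_zero _) (δ'' - δ₁) = y := by
        have h1 : Finsupp.mapRange (map p) (map_zero _) (δ'' - δ₁) =
            Finsupp.mapRange (map p) (map_zero _) δ'' -
              Finsupp.mapRange (map p) (map_zero _) δ₁ := by
          ext s : 1
          simp only [Finsupp.mapRange_apply, Finsupp.sub_apply, map_sub]
        rw [h1, hδ'', hδ₁, add_sub_cancel_left]
      have h2 : δ'' = δ₁ + (δ'' - δ₁) := by abel
      rw [h2, map_add]
      exact inTheta_add f e' he' ε hmε (hx δ₁ hδ₁) (hy _ hδ₂)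
  exact claim _ hρ δ rfl

end Theta

end Groth.Agent.Helper3.LciLift
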