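import Mathlib
import Groth.Agent.Lib.Helper3.LciB2

/-! Lifting flat deformations of presented algebras along a small extension, residue maps being
ring homomorphisms: the obstruction map and its vanishing under the extension property of linear
maps on relations (helper3). -/

set_option autoImplicit false
set_option linter.style.haveILetI false
set_option linter.unusedSectionVars false
universe u

namespace Groth.Agent.Helper3.LciLift

open MvPolynomial
open Groth.Agent.Helper3

section Hbar

variable {k : Type u} [Field k] {ι σ : Type} {B₀ : Type u} [CommRing B₀] [Algebra k B₀]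
  (f : MvPolynomial ι k →ₐ[k] B₀) (rel : σ → MvPolynomial ι k)
  [Module (MvPolynomial ι k) B₀]
  (hsm : ∀ (g : MvPolynomial ι k) (b : B₀), g • b = f g * b)
  {A : Type u} [CommRing A] (e : A →+* k)
  {A' : Type u} [CommRing A'] (e' : A' →+* k) (he' : Function.Surjective e')
  (p : A' →+* A) (ε : A')

/-- lifting data of a relation -/
def IsLift (F' : σ → MvPolynomial ι A') (q : σ →₀ MvPolynomial ι k)
    (ρ' : σ →₀ MvPolynomial ι A') (h : MvPolynomial ι k) : Prop :=
  Finsupp.mapRange (map e') (map_zero _) ρ' = q ∧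
    Finsupp.linearCombination (MvPolynomial ι A') F' ρ' = theta e' he' ε h

theorem lc_family_add {S : Type*} [CommRing S] (F₁ F₂ : σ → S) (ρ : σ →₀ S) :
    Finsupp.linearCombination S (fun s => F₁ s + F₂ s) ρ =
      Finsupp.linearCombination S F₁ ρ + Finsupp.linearCombination S F₂ ρ := by
  simp only [Finsupp.linearCombination_apply, Finsupp.sum, smul_add, Finset.sum_add_distrib]

variable (hunit : ∀ a : A', e' a ≠ 0 → IsUnit a)
  (hε0 : ε ≠ 0) (hε : RingHom.ker p = Ideal.span {ε})
  (hmε : ∀ a, e' a = 0 → a * ε = 0)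
  (hrel0 : ∀ s, f (rel s) = 0)
  (F' : σ → MvPolynomial ι A') (hF'e : ∀ s, map e' (F' s) = rel s)
  (hp : Function.Surjective p) (hep : ∀ a, e (p a) = e' a)
  (F : σ → MvPolynomial ι A)
  (hrelflat : ∀ ρ : σ →₀ MvPolynomial ι A,
    Finsupp.linearCombination (MvPolynomial ι A) F ρ = 0 →
    (∀ s, map e (ρ s) = 0) →
    ρ ∈ (RingHom.ker e) • (LinearMap.ker
      ((Finsupp.linearCombination (MvPolynomial ι A) F).restrictScalars A)))
  (hF'p : ∀ s, map p (F' s) = F s)
  (hlift : ∀ q : σ →₀ MvPolynomial ι k,
    Finsupp.linearCombination (MvPolynomial ι k) rel q = 0 →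
    ∃ ρ : σ →₀ MvPolynomial ι A,
      Finsupp.mapRange (map e) (map_zero _) ρ = q ∧
        Finsupp.linearCombination (MvPolynomial ι A) F ρ = 0)

include hε hmε hp hep hF'p hlift in
theorem exists_isLift (q : σ →₀ MvPolynomial ι k)
    (hq : Finsupp.linearCombination (MvPolynomial ι k) rel q = 0) :
    ∃ ρ' h, IsLift e' he' ε F' q ρ' h := by
  have hps : Function.Surjective (map p :
      MvPolynomial ι A' → MvPolynomial ι A) := MvPolynomial.map_surjective p hp
  obtain ⟨ρ, hρ1, hρ2⟩ := hlift q hq
  obtain ⟨ρ', hρ'⟩ := Finsupp.mapRange_surjective (map p) (map_zero _) hps ρ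
  have h1 : map p (Finsupp.linearCombination (MvPolynomial ι A') F' ρ') = 0 := by
    rw [T2Lift.lc_map (map p) F' F hF'p, hρ', hρ2]
  obtain ⟨h, hh⟩ := exists_theta_of_map_eq_zero e' he' p ε hε hmε _ h1
  refine ⟨ρ', h, ?_, hh⟩
  rw [← hρ1, ← hρ']
  ext s : 1
  rw [Finsupp.mapRange_apply, Finsupp.mapRange_apply, Finsupp.mapRange_apply,
    map_e_map_p e e' p hep]

include hunit hε0 hε hmε hrel0 hF'e hp hep hrelflat hF'p in
theorem isLift_unique (q : σ →₀ MvPolynomial ι k) (ρ₁ ρ₂ : σ →₀ MvPolynomial ι A')
    (h₁ h₂ : MvPolynomial ι k) (H1 : IsLift e' he' ε F' q ρ₁ h₁)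
    (H2 : IsLift e' he' ε F' q ρ₂ h₂) : f (h₁ - h₂) = 0 := by
  have hδ1 : ∀ s, map e' ((ρ₁ - ρ₂) s) = 0 := by
    intro s
    have a1 := DFunLike.congr_fun H1.1 s
    have a2 := DFunLike.congr_fun H2.1 s
    rw [Finsupp.mapRange_apply] at a1 a2
    rw [Finsupp.sub_apply, map_sub, a1, a2, sub_self]
  have hlc : Finsupp.linearCombination (MvPolynomial ι A') F' (ρ₁ - ρ₂) =
      theta e' he' ε (h₁ - h₂) := by
    rw [map_sub, H1.2, H2.2, theta_sub e' he' ε hmε]
  have hδ2 : map p
      (Finsupp.linearCombination (MvPolynomial ι A') F' (ρ₁ - ρ₂)) = 0 := by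
    rw [hlc, map_p_theta e' he' p ε hε]
  obtain ⟨c, hc, hc'⟩ := inTheta_of_lift_zero f rel e e' he' p ε hε hmε hrel0 F' hF'e hp hep F
    hrelflat hF'p (ρ₁ - ρ₂) hδ1 hδ2
  rw [hlc] at hc'
  have h3 : h₁ - h₂ - c = 0 := theta_injective e' he' ε hunit hε0 _
    (by rw [theta_sub e' he' ε hmε, hc', sub_self])
  rw [sub_eq_zero] at h3
  rw [h3]
  exact hc

include hsm hunit hε0 hε hmε hrel0 hF'e hp hep hrelflat hF'p hlift in
theorem exists_hbar : ∃ hbar : LinearMap.ker (Finsupp.linearCombination (MvPolynomial ι k) rel)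
      →ₗ[MvPolynomial ι k] B₀,
    ∀ (q : LinearMap.ker (Finsupp.linearCombination (MvPolynomial ι k) rel))
      (ρ' : σ →₀ MvPolynomial ι A') (h : MvPolynomial ι k),
      IsLift e' he' ε F' (q : σ →₀ MvPolynomial ι k) ρ' h → hbar q = f h := by
  have hE : ∀ q : LinearMap.ker (Finsupp.linearCombination (MvPolynomial ι k) rel),
      ∃ ρ' h, IsLift e' he' ε F' (q : σ →₀ MvPolynomial ι k) ρ' h := fun q =>
    exists_isLift rel e e' he' p ε hε hmε F' hp hep F hF'p hlift (q : σ →₀ MvPolynomial ι k)
      (LinearMap.mem_ker.mp q.2)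
  choose rho hh hL using hE
  have hW : ∀ (q : LinearMap.ker (Finsupp.linearCombination (MvPolynomial ι k) rel))
      (ρ' : σ →₀ MvPolynomial ι A') (h : MvPolynomial ι k),
      IsLift e' he' ε F' (q : σ →₀ MvPolynomial ι k) ρ' h → f (hh q) = f h := by
    intro q ρ' h H
    have h1 := isLift_unique f rel e e' he' p ε hunit hε0 hε hmε hrel0 F' hF'e hp hep F hrelflat
      hF'p _ _ _ _ _ (hL q) H
    rw [map_sub, sub_eq_zero] at h1
    exact h1
  refine ⟨{ toFun := fun q => f (hh q), map_add' := ?_, map_smul' := ?_ }, ?_⟩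
  · intro q₁ q₂
    have H : IsLift e' he' ε F'
        ((q₁ + q₂ : LinearMap.ker (Finsupp.linearCombination (MvPolynomial ι k) rel)) :
          σ →₀ MvPolynomial ι k) (rho q₁ + rho q₂) (hh q₁ + hh q₂) := by
      constructor
      · rw [Finsupp.mapRange_add (map_add _), (hL q₁).1, (hL q₂).1]
        rfl
      · rw [map_add, (hL q₁).2, (hL q₂).2, theta_add e' he' ε hmε]
    show f (hh (q₁ + q₂)) = f (hh q₁) + f (hh q₂)
    rw [hW _ _ _ H, map_add]
  · intro g q
    have H : IsLift e' he' ε F'
        ((g • q : LinearMap.ker (Finsupp.linearCombination (MvPolynomial ι k) rel)) :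
          σ →₀ MvPolynomial ι k) (lft e' he' g • rho q) (hh q * g) := by
      constructor
      · ext s : 1
        have a1 := DFunLike.congr_fun (hL q).1 s
        rw [Finsupp.mapRange_apply] at a1 ⊢
        rw [Finsupp.smul_apply, smul_eq_mul, map_mul, a1, map_lft]
        rfl
      · rw [map_smul, smul_eq_mul, (hL q).2, mul_comm, theta_mul e' he' ε hmε, map_lft]
    show f (hh (g • q)) = (RingHom.id _ g) • f (hh q)
    rw [hW _ _ _ H, map_mul, RingHom.id_apply, hsm, mul_comm]
  · intro q ρ' h H
    exact hW q ρ' h H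

include hsm hunit hε0 hε hmε hrel0 hF'e hp hep hrelflat hF'p hlift in
theorem exists_g (hf : Function.Surjective f)
    (HExt : ∀ hbar : LinearMap.ker (Finsupp.linearCombination (MvPolynomial ι k) rel)
        →ₗ[MvPolynomial ι k] B₀,
      (∀ (a b : σ →₀ MvPolynomial ι k)
        (hmem : Finsupp.linearCombination (MvPolynomial ι k) rel a • b -
          Finsupp.linearCombination (MvPolynomial ι k) rel b • a ∈
            LinearMap.ker (Finsupp.linearCombination (MvPolynomial ι k) rel)),
        hbar ⟨_, hmem⟩ = 0) →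
      ∃ gbar : σ → B₀, ∀ q : LinearMap.ker (Finsupp.linearCombination (MvPolynomial ι k) rel),
        hbar q = (q : σ →₀ MvPolynomial ι k).sum (fun s r => r • gbar s)) :
    ∃ g : σ → MvPolynomial ι k, ∀ (ρ' : σ →₀ MvPolynomial ι A') (h : MvPolynomial ι k),
      Finsupp.linearCombination (MvPolynomial ι A') F' ρ' = theta e' he' ε h →
      f (h - Finsupp.linearCombination (MvPolynomial ι k) g
        (Finsupp.mapRange (map e') (map_zero _) ρ')) = 0 := by
  have hms' : Function.Surjective (map e' : MvPolynomial ι A' → MvPolynomial ι k) :=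
    MvPolynomial.map_surjective e' he'
  obtain ⟨hbar, hbarW⟩ := exists_hbar f rel hsm e e' he' p ε hunit hε0 hε hmε hrel0 F' hF'e hp hep
    F hrelflat hF'p hlift
  have he'ε : e' ε = 0 := by
    rw [← hep, p_eps p ε hε, map_zero]
  have hlcrel : ∀ ρ' : σ →₀ MvPolynomial ι A',
      Finsupp.linearCombination (MvPolynomial ι k) rel
        (Finsupp.mapRange (map e') (map_zero _) ρ') =
      map e' (Finsupp.linearCombination (MvPolynomial ι A') F' ρ') := fun ρ' =>
    (T2Lift.lc_map (map e') F' rel hF'e ρ').symm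
  have htriv : ∀ (a b : σ →₀ MvPolynomial ι k)
      (hmem : Finsupp.linearCombination (MvPolynomial ι k) rel a • b -
        Finsupp.linearCombination (MvPolynomial ι k) rel b • a ∈
          LinearMap.ker (Finsupp.linearCombination (MvPolynomial ι k) rel)),
      hbar ⟨_, hmem⟩ = 0 := by
    intro a b hmem
    obtain ⟨a', hae⟩ := Finsupp.mapRange_surjective (map e') (map_zero _) hms' a
    obtain ⟨b', hbe⟩ := Finsupp.mapRange_surjective (map e') (map_zero _) hms' b
    have hja : map e' (Finsupp.linearCombination (MvPolynomial ι A') F' a') =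
        Finsupp.linearCombination (MvPolynomial ι k) rel a := by
      rw [← hlcrel, hae]
    have hjb : map e' (Finsupp.linearCombination (MvPolynomial ι A') F' b') =
        Finsupp.linearCombination (MvPolynomial ι k) rel b := by
      rw [← hlcrel, hbe]
    have H : IsLift e' he' ε F'
        ((⟨_, hmem⟩ : LinearMap.ker (Finsupp.linearCombination (MvPolynomial ι k) rel)) :
          σ →₀ MvPolynomial ι k)
        (Finsupp.linearCombination (MvPolynomial ι A') F' a' • b' -
          Finsupp.linearCombination (MvPolynomial ι A') F' b' • a') 0 := by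
      constructor
      · ext s : 1
        have a1 := DFunLike.congr_fun hae s
        have a2 := DFunLike.congr_fun hbe s
        rw [Finsupp.mapRange_apply] at a1 a2
        rw [Finsupp.mapRange_apply, Finsupp.sub_apply, Finsupp.smul_apply, Finsupp.smul_apply,
          smul_eq_mul, smul_eq_mul, map_sub, map_mul, map_mul, hja, hjb, a1, a2]
        rfl
      · rw [map_sub, map_smul, map_smul, smul_eq_mul, smul_eq_mul, mul_comm, sub_self,
          theta_zero e' he' ε hmε]
    rw [hbarW _ _ _ H, map_zero]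
  obtain ⟨gbar, hgbar⟩ := HExt hbar htriv
  choose g hg using fun s => hf (gbar s)
  refine ⟨g, fun ρ' h hh => ?_⟩
  have hq : (Finsupp.mapRange (map e') (map_zero _) ρ' : σ →₀ MvPolynomial ι k) ∈
      LinearMap.ker (Finsupp.linearCombination (MvPolynomial ι k) rel) := by
    rw [LinearMap.mem_ker, hlcrel ρ', hh, theta_def, map_mul, map_C, he'ε, C_0, zero_mul]
  have H : IsLift e' he' ε F'
      ((⟨_, hq⟩ : LinearMap.ker (Finsupp.linearCombination (MvPolynomial ι k) rel)) :
        σ →₀ MvPolynomial ι k) ρ' h := ⟨rfl, hh⟩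
  have h3 := hbarW _ _ _ H
  rw [hgbar] at h3
  rw [map_sub, sub_eq_zero, ← h3, Finsupp.linearCombination_apply, map_finsuppSum]
  apply Finsupp.sum_congr
  intro s _
  rw [smul_eq_mul, map_mul, hg, hsm]

include hmε in
theorem lc_theta (g : σ → MvPolynomial ι k) (ρ' : σ →₀ MvPolynomial ι A') :
    Finsupp.linearCombination (MvPolynomial ι A') (fun s => theta e' he' ε (g s)) ρ' =
      theta e' he' ε (Finsupp.linearCombination (MvPolynomial ι k) g
        (Finsupp.mapRange (map e') (map_zero _) ρ')) := by
  induction ρ' using Finsupp.induction_linear with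
  | zero =>
    rw [map_zero, Finsupp.mapRange_zero, map_zero, theta_zero e' he' ε hmε]
  | add x y hx hy =>
    rw [map_add, hx, hy, Finsupp.mapRange_add (map_add _), map_add, theta_add e' he' ε hmε]
  | single s r =>
    rw [Finsupp.mapRange_single, Finsupp.linearCombination_single,
      Finsupp.linearCombination_single, smul_eq_mul, smul_eq_mul, mul_comm,
      theta_mul e' he' ε hmε, mul_comm]

include hsm hunit hε0 hε hmε hrel0 hF'e hp hep hrelflat hF'p hlift in
/-- under the extension property the lifted relations can be corrected so that all relations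
lift -/
theorem exists_F'' (hf : Function.Surjective f)
    (HExt : ∀ hbar : LinearMap.ker (Finsupp.linearCombination (MvPolynomial ι k) rel)
        →ₗ[MvPolynomial ι k] B₀,
      (∀ (a b : σ →₀ MvPolynomial ι k)
        (hmem : Finsupp.linearCombination (MvPolynomial ι k) rel a • b -
          Finsupp.linearCombination (MvPolynomial ι k) rel b • a ∈
            LinearMap.ker (Finsupp.linearCombination (MvPolynomial ι k) rel)),
        hbar ⟨_, hmem⟩ = 0) →
      ∃ gbar : σ → B₀, ∀ q : LinearMap.ker (Finsupp.linearCombination (MvPolynomial ι k) rel),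
        hbar q = (q : σ →₀ MvPolynomial ι k).sum (fun s r => r • gbar s)) :
    ∃ F'' : σ → MvPolynomial ι A', (∀ s, map p (F'' s) = F s) ∧
      ∀ ρ' : σ →₀ MvPolynomial ι A',
        map p (Finsupp.linearCombination (MvPolynomial ι A') F'' ρ') = 0 →
        InTheta f e' he' ε (Finsupp.linearCombination (MvPolynomial ι A') F'' ρ') := by
  obtain ⟨g, hg⟩ := exists_g f rel hsm e e' he' p ε hunit hε0 hε hmε hrel0 F' hF'e hp hep F
    hrelflat hF'p hlift hf HExt
  refine ⟨fun s => F' s - theta e' he' ε (g s), fun s => ?_, fun ρ' hρ' => ?_⟩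
  · rw [map_sub, map_p_theta e' he' p ε hε, sub_zero, hF'p]
  · have h1 : Finsupp.linearCombination (MvPolynomial ι A') F' ρ' =
        Finsupp.linearCombination (MvPolynomial ι A')
          (fun s => F' s - theta e' he' ε (g s)) ρ' +
          Finsupp.linearCombination (MvPolynomial ι A') (fun s => theta e' he' ε (g s)) ρ' := by
      have hfam : (fun s => F' s - theta e' he' ε (g s) + theta e' he' ε (g s)) = F' :=
        funext fun s => sub_add_cancel _ _
      rw [← lc_family_add, hfam]
    rw [lc_theta e' he' ε hmε] at h1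
    have h2 : map p (Finsupp.linearCombination (MvPolynomial ι A') F' ρ') = 0 := by
      rw [h1, map_add, hρ', map_p_theta e' he' p ε hε, add_zero]
    obtain ⟨h, hh⟩ := exists_theta_of_map_eq_zero e' he' p ε hε hmε _ h2
    have h3 := hg ρ' h hh
    refine ⟨_, h3, ?_⟩
    rw [theta_sub e' he' ε hmε, ← hh, h1, add_sub_cancel_right]

end Hbar

end Groth.Agent.Helper3.LciLift
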