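import Mathlib
import Groth.Prelude.Def_ArtFun4
import Groth.Prelude.Def_LCI2
import Groth.Agent.Lib.Helper3.LciA
import Groth.Agent.Lib.Helper3.LciB4
import Groth.Agent.Lib.Helper3.FO4
import Groth.Agent.Lib.Helper3.ArtFunB

/-! Deformations of an affine local complete intersection lift along small extensions, and the
deformation functor is smooth (helper3). -/

set_option autoImplicit false
set_option linter.style.haveILetI false
set_option linter.unusedSectionVars false
universe u
open CategoryTheory CategoryTheory.Limits AlgebraicGeometry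

namespace Groth.Agent.Helper3.LciLift

open ArtFun ArtFun.Art
open Groth.Agent.Helper3

variable {Λ : Type u} {k : Type u} [CommRing Λ] [Field k] [Algebra Λ k]

theorem lift_small_aux (A₀ : Type u) [CommRing A₀] [Algebra k A₀] (n : ℕ)
    (f : MvPolynomial (Fin n) k →ₐ[k] A₀) (hfs : Function.Surjective f)
    (hK : LCI.IsKoszulRegularIdeal (RingHom.ker f.toRingHom))
    (x : Spec (CommRingCat.of A₀) ⟶ specPt k)
    (hx : x = Spec.map (CommRingCat.ofHom (algebraMap k A₀)))
    {A' A : Art Λ k} (p : A' ⟶ A) (hp : Art.IsSmallExt p)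
    (q : (defFunctor (Λ := Λ) (Spec (CommRingCat.of A₀)) x).obj A) :
    ∃ q', (defFunctor (Λ := Λ) (Spec (CommRingCat.of A₀)) x).map p q' = q := by
  -- the ring of the closed fibre
  obtain ⟨θ, hθdef⟩ : ∃ θ : A₀ →+* FO.ΓX x,
      θ = (Scheme.ΓSpecIso (CommRingCat.of A₀)).inv.hom := ⟨_, rfl⟩
  have hθbij : Function.Bijective θ := by
    rw [hθdef]
    exact ConcreteCategory.bijective_of_isIso (Scheme.ΓSpecIso (CommRingCat.of A₀)).inv
  have hθ : ∀ c : k, θ (algebraMap k A₀ c) = algebraMap k (FO.ΓX x) c := by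
    intro c
    have hnat := Scheme.ΓSpecIso_inv_naturality (CommRingCat.ofHom (algebraMap k A₀))
    rw [FO.algebraMap_ΓX, hθdef]
    subst hx
    exact congrArg (fun m => m.hom c) hnat
  obtain ⟨f', hf'⟩ : ∃ f' : MvPolynomial (Fin n) k →ₐ[k] FO.ΓX x, ∀ g, f' g = θ (f g) :=
    ⟨{ toRingHom := θ.comp f.toRingHom
       commutes' := fun c => by
          show θ (f (algebraMap k _ c)) = algebraMap k (FO.ΓX x) c
          rw [f.commutes, hθ] }, fun g => rfl⟩
  have hf's : Function.Surjective f' := by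
    intro y
    obtain ⟨a, rfl⟩ := hθbij.2 y
    obtain ⟨g, rfl⟩ := hfs a
    exact ⟨g, hf' g⟩
  -- generators of the kernel
  have hfg : (RingHom.ker f.toRingHom).FG := IsNoetherian.noetherian _
  obtain ⟨r, rel, hspan⟩ := Submodule.fg_iff_exists_fin_generating_family.mp hfg
  have hspan' : Ideal.span (Set.range rel) = RingHom.ker f.toRingHom := hspan
  have hK₀ : ∀ g, f' g = 0 ↔ g ∈ Ideal.span (Set.range rel) := by
    intro g
    rw [hspan', RingHom.mem_ker, hf']
    constructor
    · intro h
      apply hθbij.1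
      rw [map_zero]
      exact h
    · intro h
      have h' : f g = 0 := h
      rw [h', map_zero]
  have hKreg : LCI.IsKoszulRegularIdeal (Ideal.span (Set.range rel)) := by
    rw [hspan']
    exact hK
  letI : Module (MvPolynomial (Fin n) k) (FO.ΓX x) :=
    Module.compHom _ (f' : MvPolynomial (Fin n) k →+* FO.ΓX x)
  have hsm : ∀ (g : MvPolynomial (Fin n) k) (b : FO.ΓX x), g • b = f' g * b := fun g b => rfl
  have HExt : ∀ hbar : LinearMap.ker (Finsupp.linearCombination (MvPolynomial (Fin n) k) rel)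
        →ₗ[MvPolynomial (Fin n) k] FO.ΓX x,
      (∀ (a b : Fin r →₀ MvPolynomial (Fin n) k)
        (hmem : Finsupp.linearCombination (MvPolynomial (Fin n) k) rel a • b -
          Finsupp.linearCombination (MvPolynomial (Fin n) k) rel b • a ∈
            LinearMap.ker (Finsupp.linearCombination (MvPolynomial (Fin n) k) rel)),
        hbar ⟨_, hmem⟩ = 0) →
      ∃ gbar : Fin r → FO.ΓX x,
        ∀ q : LinearMap.ker (Finsupp.linearCombination (MvPolynomial (Fin n) k) rel),
          hbar q = (q : Fin r →₀ MvPolynomial (Fin n) k).sum (fun s c => c • gbar s) :=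
    fun hbar htriv => LciExt.hext_fs rel hKreg hbar htriv
  -- the deformation in ring terms
  induction q using Quotient.inductionOn with
  | h ζ =>
  obtain ⟨D, hD⟩ := FO.exists_ofRing x ζ
  obtain ⟨hps, hne, hprinc, hmker⟩ := hp
  obtain ⟨ε, hε⟩ := hprinc.1
  have hε' : RingHom.ker p.toAlgHom.toRingHom = Ideal.span {ε} := hε
  have hε0 : ε ≠ 0 := by
    intro h0
    apply hne
    rw [hε, h0]
    exact Submodule.span_zero_singleton A'
  have hmε : ∀ a : A', A'.res.toRingHom a = 0 → a * ε = 0 := by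
    intro a ha
    have h1 : a ∈ IsLocalRing.maximalIdeal A' := (Art.mem_maximalIdeal_iff A' a).mpr ha
    have h2 : ε ∈ RingHom.ker p.toAlgHom := by
      rw [hε]
      exact Submodule.mem_span_singleton_self ε
    have h3 := Ideal.mul_mem_mul h1 h2
    rw [hmker] at h3
    exact h3
  have hep : ∀ a : A', A.res.toRingHom (p.toAlgHom.toRingHom a) = A'.res.toRingHom a :=
    fun a => Art.res_app p a
  have hnil' : IsNilpotent (RingHom.ker A'.res.toRingHom) := by
    obtain ⟨m, hm⟩ := ArtFunLib.exists_pow_maximalIdeal_eq_bot A'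
    have hkm : RingHom.ker A'.res.toRingHom = IsLocalRing.maximalIdeal A' := by
      ext a
      exact RingHom.mem_ker.trans (Art.mem_maximalIdeal_iff A' a).symm
    refine ⟨m, ?_⟩
    rw [hkm]
    exact hm
  letI : Algebra A D.E := D.α.toAlgebra
  haveI : Module.Flat A D.E := D.hfl
  obtain ⟨B', _, _, _, π, hπs, hcompat, hkerπ, hkerιπ⟩ :=
    algLift f' rel hsm A.res.toRingHom A'.res.toRingHom A'.res_surjective p.toAlgHom.toRingHom ε
      hf's hK₀ HExt A.res_surjective hnil' hε0 hε' hmε hps hep D.ι D.hs D.hker D.hcomp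
  have hcomp' : ∀ a : A', (D.ι.comp π) (algebraMap A' B' a) =
      algebraMap k (FO.ΓX x) (A'.res a) := by
    intro a
    rw [RingHom.comp_apply, hcompat]
    have h1 := D.hcomp (p.toAlgHom.toRingHom a)
    rw [← Art.res_app p a]
    exact h1
  obtain ⟨D', hD'⟩ : ∃ D' : FO.RData x A', D' =
      (⟨B', algebraMap A' B', RingHom.flat_algebraMap_iff.mpr inferInstance, D.ι.comp π,
        D.hs.comp hπs, hkerιπ, hcomp'⟩ : FO.RData x A') := ⟨_, rfl⟩
  refine ⟨(FO.ofRing x D').cl, ?_⟩
  have h2 := FO.cl_eq_of_ringHom x p D' D (by rw [hD']; exact π)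
    (by
      subst hD'
      intro a
      exact hcompat a)
    (by
      subst hD'
      intro e
      rfl)
  rw [h2]
  exact hD.symm

theorem lift_small (A₀ : Type u) [CommRing A₀] [Algebra k A₀] (n : ℕ)
    (f : MvPolynomial (Fin n) k →ₐ[k] A₀) (hfs : Function.Surjective f)
    (hK : LCI.IsKoszulRegularIdeal (RingHom.ker f.toRingHom))
    {A' A : Art Λ k} (p : A' ⟶ A) (hp : Art.IsSmallExt p)
    (q : (defFunctor (Λ := Λ) (Spec (CommRingCat.of A₀))
      (Spec.map (CommRingCat.ofHom (algebraMap k A₀)))).obj A) :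
    ∃ q', (defFunctor (Λ := Λ) (Spec (CommRingCat.of A₀))
      (Spec.map (CommRingCat.ofHom (algebraMap k A₀)))).map p q' = q :=
  lift_small_aux A₀ n f hfs hK _ rfl p hp q

theorem smooth_of_isLCI (hk : Function.Surjective (algebraMap Λ k)) [IsNoetherianRing Λ]
    (A₀ : Type u) [CommRing A₀] [Algebra k A₀] (hA : LCI.IsLCI k A₀) :
    ArtFun.IsSmoothFunctor (ArtFun.defFunctor (Λ := Λ) (Spec (CommRingCat.of A₀))
      (Spec.map (CommRingCat.ofHom (algebraMap k A₀)))) := by
  obtain ⟨_, n, f, hfs, hK⟩ := hA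
  haveI : Module.Finite Λ k := Module.Finite.of_surjective (Algebra.linearMap Λ k) hk
  intro B A μ hμ
  refine ArtFunLib.smallExt_induction
    (P := fun A B g => Function.Surjective ((ArtFun.defFunctor (Λ := Λ)
      (Spec (CommRingCat.of A₀)) (Spec.map (CommRingCat.ofHom (algebraMap k A₀)))).map g))
    ?_ ?_ ?_ μ hμ
  · intro A B e he y
    haveI := he
    exact ⟨_, ArtFunLib.map_inv_map _ e y⟩
  · intro A B p hp q
    exact lift_small A₀ n f hfs hK p hp q
  · intro A B C p q hp hq y
    obtain ⟨z, hz⟩ := hq y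
    obtain ⟨w, hw⟩ := hp z
    exact ⟨w, by rw [ArtFunLib.map_comp_app, hw, hz]⟩

end Groth.Agent.Helper3.LciLift
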