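import Mathlib
import Groth.Prelude.Def_LefPen

set_option autoImplicit false
set_option linter.unusedVariables false
set_option linter.unusedSectionVars false
set_option linter.style.haveILetI false

/-! helper3: tuples of points imposing independent conditions on forms of degree d form a
Zariski-open generic set (S18464). -/

namespace Groth.Agent.Helper3.LefPen1

open MvPolynomial

universe u

variable {k : Type u} [Field k] {r d m : ℕ}

section PolyFun

theorem det_mem {V : Type u} (A : Subalgebra k (V → k)) {n : ℕ}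
    (M : V → Matrix (Fin n) (Fin n) k) (h : ∀ i j, (fun w => M w i j) ∈ A) :
    (fun w => (M w).det) ∈ A := by
  have hdet : (fun w => (M w).det) =
      ∑ σ : Equiv.Perm (Fin n), ((Equiv.Perm.sign σ : ℤˣ) : ℤ) • ∏ i, (fun w => M w (σ i) i) := by
    funext w
    rw [Matrix.det_apply, Finset.sum_apply]
    refine Finset.sum_congr rfl fun σ _ => ?_
    rw [Pi.smul_apply, Finset.prod_apply, Units.smul_def]
  rw [hdet]
  exact Subalgebra.sum_mem _ fun σ _ =>
    Subalgebra.zsmul_mem _ (Subalgebra.prod_mem _ fun i _ => h _ _) _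

theorem polyfun_aeval (i : Fin m) (P : MvPolynomial (Fin (r + 1)) k) :
    (fun w : Fin m → Fin (r + 1) → k => MvPolynomial.aeval (w i) P) ∈
      Algebra.adjoin k (Set.range (fun l : Module.Dual k (Fin m → Fin (r + 1) → k) =>
        (l : (Fin m → Fin (r + 1) → k) → k))) := by
  induction P using MvPolynomial.induction_on with
  | C a =>
    have h1 : (fun w : Fin m → Fin (r + 1) → k => MvPolynomial.aeval (w i) (MvPolynomial.C a)) =
        algebraMap k ((Fin m → Fin (r + 1) → k) → k) a := by
      funext w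
      simp
    rw [h1]
    exact Subalgebra.algebraMap_mem _ _
  | add p q hp hq =>
    have h1 : (fun w : Fin m → Fin (r + 1) → k => MvPolynomial.aeval (w i) (p + q)) =
        (fun w : Fin m → Fin (r + 1) → k => MvPolynomial.aeval (w i) p) +
          (fun w : Fin m → Fin (r + 1) → k => MvPolynomial.aeval (w i) q) := by
      funext w
      simp
    rw [h1]
    exact Subalgebra.add_mem _ hp hq
  | mul_X p j hp =>
    have h1 : (fun w : Fin m → Fin (r + 1) → k => MvPolynomial.aeval (w i) (p * MvPolynomial.X j)) =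
        (fun w : Fin m → Fin (r + 1) → k => MvPolynomial.aeval (w i) p) *
          (fun w : Fin m → Fin (r + 1) → k => w i j) := by
      funext w
      simp
    rw [h1]
    refine Subalgebra.mul_mem _ hp (Algebra.subset_adjoin
      ⟨((LinearMap.proj j : (Fin (r + 1) → k) →ₗ[k] k) ∘ₗ
        (LinearMap.proj i : (Fin m → Fin (r + 1) → k) →ₗ[k] (Fin (r + 1) → k))), rfl⟩)

end PolyFun

section Key

/-- evaluation of a form at a tuple of vectors -/
noncomputable def ev (w : Fin m → Fin (r + 1) → k) : LefPen.Form r k d →ₗ[k] (Fin m → k) :=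
  LinearMap.pi fun i =>
    (MvPolynomial.aeval (w i)).toLinearMap ∘ₗ (CohB1.polyGrading r k d).subtype

theorem ev_apply (w : Fin m → Fin (r + 1) → k) (G : LefPen.Form r k d) (i : Fin m) :
    ev w G i = MvPolynomial.aeval (w i) G.1 := rfl

instance finite_form : Module.Finite k (LefPen.Form r k d) :=
  Module.Finite.iff_fg.mpr (MvPolynomial.homogeneousSubmodule_fg _ _ d)

theorem key (x : Fin m → Fin (r + 1) → k)
    (hx : ∀ G : LefPen.Form r k d, (∀ i, MvPolynomial.aeval (x i) G.1 = 0) → G = 0) :
    ∃ f : (Fin m → Fin (r + 1) → k) → k, LefPen.IsPolyFun k f ∧ f x ≠ 0 ∧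
      ∀ w, f w ≠ 0 → ∀ G : LefPen.Form r k d,
        (∀ i, MvPolynomial.aeval (w i) G.1 = 0) → G = 0 := by
  classical
  let b := Module.finBasis k (LefPen.Form r k d)
  have hker : LinearMap.ker (ev (d := d) x) = ⊥ := by
    rw [LinearMap.ker_eq_bot']
    intro G hG
    exact hx G (fun i => congrFun hG i)
  obtain ⟨L, hL⟩ := LinearMap.exists_leftInverse_of_injective (ev (d := d) x) hker
  let T : (Fin m → k) →ₗ[k] (Fin (Module.finrank k (LefPen.Form r k d)) → k) :=
    b.equivFun.toLinearMap ∘ₗ L
  let M : (Fin m → Fin (r + 1) → k) →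
      Matrix (Fin (Module.finrank k (LefPen.Form r k d)))
        (Fin (Module.finrank k (LefPen.Form r k d))) k :=
    fun w => Matrix.of fun j' j => T (ev w (b j)) j'
  refine ⟨fun w => (M w).det, ?_, ?_, ?_⟩
  · apply det_mem
    intro j' j
    have hentry : (fun w : Fin m → Fin (r + 1) → k => M w j' j) =
        ∑ i, (fun w : Fin m → Fin (r + 1) → k => MvPolynomial.aeval (w i) (b j).1) *
          algebraMap k ((Fin m → Fin (r + 1) → k) → k)
            (T (fun l => if i = l then 1 else 0) j') := by
      funext w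
      show T (ev w (b j)) j' = _
      rw [LinearMap.pi_apply_eq_sum_univ T (ev w (b j)), Finset.sum_apply, Finset.sum_apply]
      refine Finset.sum_congr rfl fun i _ => ?_
      rw [Pi.smul_apply, Pi.mul_apply, Pi.algebraMap_apply, smul_eq_mul, ev_apply]
      rfl
    rw [hentry]
    exact Subalgebra.sum_mem _ fun i _ =>
      Subalgebra.mul_mem _ (polyfun_aeval i _) (Subalgebra.algebraMap_mem _ _)
  · have hM1 : M x = 1 := by
      ext j' j
      show b.equivFun (L (ev x (b j))) j' = _
      have h1 : L (ev x (b j)) = b j := LinearMap.congr_fun hL (b j)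
      rw [h1, b.equivFun_self, Matrix.one_apply]
      rcases eq_or_ne j j' with h | h
      · subst h
        simp
      · simp [h, h.symm]
    show (M x).det ≠ 0
    rw [hM1, Matrix.det_one]
    exact one_ne_zero
  · intro w hw G hG
    have hevG : ev w G = 0 := funext fun i => hG i
    obtain ⟨g, hg⟩ : ∃ g, g = b.equivFun G := ⟨_, rfl⟩
    have hsum : G = ∑ j, g j • b j := by
      rw [hg]
      exact (b.sum_equivFun G).symm
    have h1 : T (ev w G) = ∑ j, g j • T (ev w (b j)) := by
      conv_lhs => rw [hsum]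
      rw [map_sum, map_sum]
      refine Finset.sum_congr rfl fun j _ => ?_
      rw [map_smul, map_smul]
    rw [hevG, map_zero] at h1
    have hmul : (M w).mulVec g = 0 := by
      funext j'
      have h2 := congrFun h1 j'
      rw [Finset.sum_apply, Pi.zero_apply] at h2
      show ∑ j, M w j' j * g j = 0
      rw [h2]
      refine Finset.sum_congr rfl fun j _ => ?_
      show T (ev w (b j)) j' * g j = (g j • T (ev w (b j))) j'
      rw [Pi.smul_apply, smul_eq_mul, mul_comm]
    have hg0 : g = 0 := Matrix.eq_zero_of_mulVec_eq_zero hw hmul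
    rw [hg] at hg0
    exact b.equivFun.map_eq_zero_iff.mp hg0

end Key

section Points

theorem exists_points [Infinite k] (hm : Module.finrank k (LefPen.Form r k d) ≤ m) :
    ∃ x : Fin m → Fin (r + 1) → k, ∀ G : LefPen.Form r k d,
      (∀ i, MvPolynomial.aeval (x i) G.1 = 0) → G = 0 := by
  classical
  let φ : (Fin (r + 1) → k) → Module.Dual k (LefPen.Form r k d) := fun v =>
    (MvPolynomial.aeval v).toLinearMap ∘ₗ (CohB1.polyGrading r k d).subtype
  obtain ⟨b, hbs, hspan, hli⟩ := exists_linearIndependent k (Set.range φ)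
  haveI : Finite ↥b := hli.finite
  haveI : Fintype ↥b := Fintype.ofFinite _
  have hc : Fintype.card ↥b ≤ m :=
    le_trans (le_trans hli.fintype_card_le_finrank (le_of_eq Subspace.dual_finrank_eq)) hm
  have hv : ∀ β : ↥b, ∃ v, φ v = β.1 := fun β => hbs β.2
  choose v hv using hv
  let e := Fintype.equivFin ↥b
  refine ⟨fun i => if h : i.val < Fintype.card ↥b then v (e.symm ⟨i.val, h⟩) else 0, ?_⟩
  intro G hG
  have h1 : ∀ β : ↥b, β.1 G = 0 := by
    intro β
    have h2 := hG ⟨(e β).val, lt_of_lt_of_le (e β).isLt hc⟩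
    simp only [dif_pos (e β).isLt, Fin.eta, Equiv.symm_apply_apply] at h2
    rw [← hv β]
    exact h2
  have h2 : ∀ ψ ∈ Submodule.span k b, ψ G = 0 := by
    intro ψ hψ
    induction hψ using Submodule.span_induction with
    | mem ψ h => exact h1 ⟨ψ, h⟩
    | zero => rfl
    | add ψ₁ ψ₂ _ _ h₁ h₂ => rw [LinearMap.add_apply, h₁, h₂, add_zero]
    | smul a ψ _ h => rw [LinearMap.smul_apply, h, smul_zero]
  have h3 : ∀ w : Fin (r + 1) → k, MvPolynomial.eval w G.1 = 0 := by
    intro w
    exact h2 (φ w) (by rw [hspan]; exact Submodule.subset_span ⟨w, rfl⟩)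
  have h4 : G.1 = 0 := MvPolynomial.funext (fun w => by rw [h3 w, map_zero])
  exact Subtype.ext h4

end Points

theorem main_S18464 (k : Type u) [Field k] [Infinite k]
    (r d m : ℕ) (hm : Nat.choose (r + d) d ≤ m)
    (hfr : Module.finrank k (LefPen.Form r k d) = Nat.choose (r + d) d) :
    LefPen.IsZOpen k {x : Fin m → (Fin (r + 1) → k) |
      ∀ G : LefPen.Form r k d, (∀ i : Fin m, MvPolynomial.aeval (x i) G.1 = 0) → G = 0} ∧
    LefPen.IsGeneric k {x : Fin m → (Fin (r + 1) → k) |
      ∀ G : LefPen.Form r k d, (∀ i : Fin m, MvPolynomial.aeval (x i) G.1 = 0) → G = 0} := by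
  constructor
  · intro x hx
    obtain ⟨f, hf, hfx, hfS⟩ := key x hx
    exact ⟨f, hf, hfx, fun w hw => hfS w hw⟩
  · obtain ⟨x, hx⟩ := exists_points (k := k) (r := r) (d := d) (m := m) (by rw [hfr]; exact hm)
    obtain ⟨f, hf, hfx, hfS⟩ := key x hx
    exact ⟨f, hf, ⟨x, hfx⟩, fun w hw => hfS w hw⟩

end Groth.Agent.Helper3.LefPen1
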