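import Groth.Prelude.Def_DRing2
import Groth.Agent.Lib.Helper3.KProjLift

/-! Homotopy invariance of the Lefschetz number of an endomorphism of a bounded complex of finite
free modules. -/

namespace Groth.Agent.Helper3.Lefschetz

open CategoryTheory CategoryTheory.Limits

universe u

attribute [local instance] HasDerivedCategory.standard

variable {Λ : Type u} [CommRing Λ]

lemma tele {M : Type*} [AddCommGroup M] (v : ℤ → M) (a : ℤ) :
    ∀ c : ℤ, a ≤ c → ∑ i ∈ Finset.Icc a (c - 1), (v i - v (i + 1)) = v a - v c := by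
  intro c hc
  induction c, hc using Int.leInduction with
  | base => simp
  | succ c hc ih =>
    rw [add_sub_cancel_right, ← Finset.insert_Icc_sub_one_right_eq_Icc hc,
      Finset.sum_insert (by simp), ih]
    abel

/-- The Lefschetz number on `[a, b]`. -/
noncomputable def lef (a b : ℤ) {P : DRing.Cx Λ} (φ : P ⟶ P) : Λ :=
  ∑ i ∈ Finset.Icc a b, ((i.negOnePow : ℤˣ) : ℤ) • LinearMap.trace Λ (P.X i) (φ.f i).hom

lemma lef_comm (a b : ℤ) {P Q : DRing.Cx Λ} (hPf : DRing.TermwiseFiniteFree P)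
    (hQf : DRing.TermwiseFiniteFree Q) (x : P ⟶ Q) (y : Q ⟶ P) :
    lef a b (x ≫ y) = lef a b (y ≫ x) := by
  unfold lef
  refine Finset.sum_congr rfl (fun i _ => ?_)
  congr 1
  have := (hPf i).1
  have := (hPf i).2
  have := (hQf i).1
  have := (hQf i).2
  rw [HomologicalComplex.comp_f, HomologicalComplex.comp_f, ModuleCat.hom_comp,
    ModuleCat.hom_comp]
  exact LinearMap.trace_comp_comm' _ _

lemma trace_eq_zero_of_isZero {M : ModuleCat.{u} Λ} (hM : IsZero M) (f : M ⟶ M) :
    LinearMap.trace Λ M f.hom = 0 := by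
  rw [hM.eq_of_src f 0]
  simp

lemma lef_homotopy (a b : ℤ) {P : DRing.Cx Λ} (hP : DRing.VanishesOutside P a b)
    (hPf : DRing.TermwiseFiniteFree P) {φ ψ : P ⟶ P} (h : Homotopy φ ψ) :
    lef a b φ = lef a b ψ := by
  by_cases hab : a ≤ b + 1
  swap
  · unfold lef
    rw [Finset.Icc_eq_empty (by lia)]
    simp
  let w : ℤ → Λ := fun i =>
    LinearMap.trace Λ (P.X (i + 1)) (h.hom (i + 1) i ≫ P.d i (i + 1)).hom
  have hw : ∀ i j : ℤ, j + 1 = i →
      LinearMap.trace Λ (P.X i) (h.hom i j ≫ P.d j i).hom = w j := by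
    rintro i j rfl
    rfl
  have key : ∀ i : ℤ, LinearMap.trace Λ (P.X i) (φ.f i).hom =
      w i + w (i - 1) + LinearMap.trace Λ (P.X i) (ψ.f i).hom := by
    intro i
    have := (hPf i).1
    have := (hPf i).2
    have := (hPf (i + 1)).1
    have := (hPf (i + 1)).2
    rw [h.comm i, dNext_eq h.hom (show (ComplexShape.up ℤ).Rel i (i + 1) from rfl),
      prevD_eq h.hom (show (ComplexShape.up ℤ).Rel (i - 1) i by simp),
      ModuleCat.hom_add, ModuleCat.hom_add, map_add, map_add, hw i (i - 1) (by lia)]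
    congr 2
    rw [ModuleCat.hom_comp, LinearMap.trace_comp_comm', ← ModuleCat.hom_comp]
  let v : ℤ → Λ := fun i => ((i.negOnePow : ℤˣ) : ℤ) • w (i - 1)
  have hsum : lef a b φ - lef a b ψ = ∑ i ∈ Finset.Icc a (b + 1 - 1), (v i - v (i + 1)) := by
    unfold lef
    rw [add_sub_cancel_right, ← Finset.sum_sub_distrib]
    refine Finset.sum_congr rfl (fun i _ => ?_)
    rw [key i]
    dsimp only [v]
    rw [add_sub_cancel_right, Int.negOnePow_succ]
    simp only [Units.val_neg, neg_smul, smul_add]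
    abel
  have hva : v a = 0 := by
    dsimp only [v, w]
    have h0 : P.d (a - 1) (a - 1 + 1) = 0 := (hP (a - 1) (Or.inl (by lia))).eq_of_src _ _
    rw [h0, comp_zero]
    simp
  have hvb : v (b + 1) = 0 := by
    dsimp only [v, w]
    rw [trace_eq_zero_of_isZero (hP _ (Or.inr (by lia)))]
    simp
  rw [tele v a (b + 1) hab, hva, hvb, sub_zero] at hsum
  exact sub_eq_zero.1 hsum

theorem main (P Q : DRing.Cx Λ) (a b : ℤ) (hP : DRing.VanishesOutside P a b)
    (hQ : DRing.VanishesOutside Q a b) (hPf : DRing.TermwiseFiniteFree P)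
    (hQf : DRing.TermwiseFiniteFree Q) (f : P ⟶ P) (g : Q ⟶ Q)
    (α : DRing.toD P ≅ DRing.toD Q)
    (h : α.hom ≫ DerivedCategory.Q.map g = DerivedCategory.Q.map f ≫ α.hom) :
    lef a b f = lef a b g := by
  have projP : ∀ n, Projective (P.X n) := fun n => by
    have := (hPf n).2
    exact (IsProjective.iff_projective (R := Λ) (P := P.X n)).1 inferInstance
  have projQ : ∀ n, Projective (Q.X n) := fun n => by
    have := (hQf n).2
    exact (IsProjective.iff_projective (R := Λ) (P := Q.X n)).1 inferInstance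
  have : P.IsStrictlyLE b := (CochainComplex.isStrictlyLE_iff _ _).2 (fun i hi => hP i (Or.inr hi))
  have : Q.IsStrictlyLE b := (CochainComplex.isStrictlyLE_iff _ _).2 (fun i hi => hQ i (Or.inr hi))
  have : P.IsKProjective := CochainComplex.isKProjective_of_projective P b
  have : Q.IsKProjective := CochainComplex.isKProjective_of_projective Q b
  obtain ⟨x, hx⟩ := KProjLift.exists_map P Q α.hom
  obtain ⟨y, hy⟩ := KProjLift.exists_map Q P α.inv
  obtain ⟨h1⟩ := KProjLift.homotopy_of_eq P P (x ≫ y) (𝟙 P) (by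
    rw [Functor.map_comp, hx, hy, α.hom_inv_id, CategoryTheory.Functor.map_id])
  obtain ⟨h2⟩ := KProjLift.homotopy_of_eq Q Q (y ≫ x) (𝟙 Q) (by
    rw [Functor.map_comp, hx, hy, α.inv_hom_id, CategoryTheory.Functor.map_id])
  obtain ⟨h3⟩ := KProjLift.homotopy_of_eq P Q (x ≫ g) (f ≫ x) (by
    rw [Functor.map_comp, Functor.map_comp, hx, h])
  -- f ≃ f ≫ x ≫ y
  have e1 : lef a b f = lef a b (f ≫ x ≫ y) :=
    lef_homotopy a b hP hPf ((Homotopy.ofEq (Category.comp_id f).symm).trans (h1.symm.compLeft f))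
  have e2 : lef a b (f ≫ x ≫ y) = lef a b (y ≫ f ≫ x) := by
    rw [← Category.assoc]
    exact lef_comm a b hPf hQf (f ≫ x) y
  have e3 : lef a b (y ≫ f ≫ x) = lef a b (y ≫ x ≫ g) :=
    lef_homotopy a b hQ hQf (h3.symm.compLeft y)
  have e4 : lef a b (y ≫ x ≫ g) = lef a b g :=
    lef_homotopy a b hQ hQf ((Homotopy.ofEq (Category.assoc y x g).symm).trans
      ((h2.compRight g).trans (Homotopy.ofEq (Category.id_comp g))))
  rw [e1, e2, e3, e4]

end Groth.Agent.Helper3.Lefschetz
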