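import Mathlib
import Groth.Prelude.Def_Coh
import Groth.Agent.Lib.Helper3.SpSerre1
import Groth.Agent.Lib.Helper3.GSS
import Groth.Agent.Lib.Helper3.ExtRD
import Groth.Agent.Lib.Helper3.EdgeMod2
import Groth.Agent.Lib.Helper3.LerayCol4
import Groth.Agent.Lib.Helper1.RpushComp

/-!
# The Leray spectral sequence for modules and weak Serre classes of modules
-/

set_option autoImplicit false
universe u
open CategoryTheory CategoryTheory.Limits Opposite TopologicalSpace AlgebraicGeometry

namespace Groth.Agent.Helper3.LerayCoh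

open Groth.Agent.Helper3

variable {U X S : Scheme.{u}} (g : U ⟶ X) (f : X ⟶ S)

/-- the direct image of an injective module is acyclic for direct images -/
theorem hT [HasInjectiveResolutions X.Modules] (Q : U.Modules) (hQ : Injective Q) (q : ℕ)
    (hq : 0 < q) :
    IsZero (((Scheme.Modules.pushforward f).rightDerived q).obj
      ((Scheme.Modules.pushforward g).obj Q)) := by
  obtain ⟨m, rfl⟩ : ∃ m, q = m + 1 := ⟨q - 1, by omega⟩
  apply Groth.Agent.Helper1.RpushComp.isZero_of_toAb
  obtain ⟨e⟩ := Groth.Agent.Helper1.RpushComp.nonempty_iso f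
    ((Scheme.Modules.pushforward g).obj Q) (m + 1)
  refine IsZero.of_iso ?_ e
  haveI h1 : TopCat.Sheaf.IsFlasque (Coh.toAb Q) := EdgeMod.isFlasque_toAb_of_injective Q
  haveI h2 : TopCat.Sheaf.IsFlasque ((CohTop.push g.base).obj (Coh.toAb Q)) :=
    TopCat.Sheaf.IsFlasque.pushforward_isFlasque (Coh.toAb Q) g.base
  have h3 := LerayCol4.isZero_rpush_of_isFlasque f.base ((CohTop.push g.base).obj (Coh.toAb Q)) m
  exact IsZero.of_iso h3 ((Coh.RpushAb f (m + 1)).mapIso
    ((Groth.Agent.Helper1.RpushComp.pushIso g).app Q))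

/-- **Leray spectral sequence and weak Serre classes**: if `R^q g_* F ∈ P'` for `q ≤ n` implies
`R^p f_* R^q g_* F ∈ P` for all `p`, and `P` is a weak Serre class, then `R^i (g ≫ f)_* F ∈ P` for
`i ≤ n`. -/
theorem prop_rpush_comp [HasInjectiveResolutions U.Modules] [HasInjectiveResolutions X.Modules]
    (P : ObjectProperty S.Modules) [P.IsClosedUnderIsomorphisms]
    (hzero : ∀ M : S.Modules, IsZero M → P M)
    (hker : ∀ {M N : S.Modules} (φ : M ⟶ N), P M → P N → P (kernel φ))
    (hcoker : ∀ {M N : S.Modules} (φ : M ⟶ N), P M → P N → P (cokernel φ))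
    (hext : ∀ T : ShortComplex S.Modules, T.ShortExact → P T.X₁ → P T.X₃ → P T.X₂)
    (F : U.Modules) (n : ℕ)
    (h : ∀ p q : ℕ, q ≤ n → P ((Coh.Rpush f p).obj ((Coh.Rpush g q).obj F)))
    (i : ℕ) (hi : i ≤ n) : P ((Coh.Rpush (g ≫ f) i).obj F) := by
  haveI : PreservesFiniteLimits (Scheme.Modules.pushforward f) := inferInstance
  obtain ⟨E, a, hfin, -, hE2⟩ := GSS.main' (Scheme.Modules.pushforward g)
    (Scheme.Modules.pushforward f) (fun Q hQ q hq => hT g f Q hQ q hq) F
  have hinv : SpSerre.Inv P E (n : ℤ) 2 le_rfl := by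
    refine SpSerre.inv_base P hzero E (n : ℤ) 2 le_rfl ?_ ?_
    · intro p q hp
      obtain ⟨e⟩ := hE2 p q
      rw [if_neg (by omega)] at e
      exact (isZero_zero _).of_iso e
    · intro p q hq
      obtain ⟨e⟩ := hE2 p q
      by_cases hpq : 0 ≤ p ∧ 0 ≤ q
      · rw [if_pos hpq] at e
        refine P.prop_of_iso e.symm ?_
        exact h p.toNat q.toNat (by omega)
      · rw [if_neg hpq] at e
        exact hzero _ ((isZero_zero _).of_iso e)
  have key := SpSerre.prop_abut P hzero hker hcoker hext E a (n : ℤ) 2 le_rfl le_rfl hinv (i : ℤ)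
    (by exact_mod_cast hi) (hfin _)
  rw [if_pos (by omega)] at key
  simp only [Int.toNat_natCast] at key
  exact P.prop_of_iso ((ExtRD.rightDerivedNatIso (Scheme.Modules.pushforwardComp g f) i).app F) key

end Groth.Agent.Helper3.LerayCoh
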