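import Mathlib
import Groth.Prelude.Def_Coh
import Groth.Agent.Lib.Helper3.LerayCoh1
import Groth.Agent.Lib.Helper1.Dv28
import Groth.Agent.Lib.Helper1.CohAbel
import Groth.Agent.Lib.Helper4.RpushCoh1

/-!
# Coherence of `R^i (f ∘ g)_* F` in low degrees (S5186)
-/

set_option autoImplicit false
universe u
open CategoryTheory CategoryTheory.Limits Opposite TopologicalSpace AlgebraicGeometry

namespace Groth.Agent.Helper3.LerayCoh

open Groth.Agent.Helper1

/-- coherent modules on a locally Noetherian scheme form a weak Serre class; consequence for the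
Leray spectral sequence -/
theorem isCoh_rpush_comp {U X S : Scheme.{u}} (g : U ⟶ X) (f : X ⟶ S) [IsLocallyNoetherian S]
    [HasInjectiveResolutions U.Modules] [HasInjectiveResolutions X.Modules]
    (F : U.Modules) (n : ℕ)
    (h : ∀ p q : ℕ, q ≤ n → Coh.IsCoh ((Coh.Rpush f p).obj ((Coh.Rpush g q).obj F)))
    (i : ℕ) (hi : i ≤ n) : Coh.IsCoh ((Coh.Rpush (g ≫ f) i).obj F) := by
  let P : ObjectProperty S.Modules := fun M => Coh.IsCoh M
  haveI : P.IsClosedUnderIsomorphisms := ⟨fun e h => Dv.isCoh_of_iso e h⟩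
  exact prop_rpush_comp g f P
    (fun M hM => Dv.isCoh_of_isZero hM _ (Dv.isCoh_structureModule S))
    (fun φ hM hN => FtLocal.isCoh_kernel hM hN φ)
    (fun φ hM hN => FtLocal.isCoh_cokernel hM hN φ)
    (fun T hT h1 h3 => Dv.isCoh_mid hT h1 h3) F n h i hi

theorem S5186_main {X S : Scheme.{u}} (f : X ⟶ S) [IsProper f] [IsLocallyNoetherian S]
    (U : X.Opens) [HasInjectiveResolutions (U : Scheme.{u}).Modules]
    [HasInjectiveResolutions X.Modules] (F : (U : Scheme.{u}).Modules) (n : ℕ)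
    (hg : ∀ i : ℕ, i ≤ n → Coh.IsCoh ((Coh.Rpush U.ι i).obj F)) (i : ℕ) (hi : i ≤ n) :
    Coh.IsCoh ((Coh.Rpush (U.ι ≫ f) i).obj F) :=
  isCoh_rpush_comp U.ι f F n
    (fun p q hq => Groth.Agent.Lib.Helper4.RpushCoh1.s0036 f _ (hg q hq) p) i hi

end Groth.Agent.Helper3.LerayCoh
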