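import Mathlib
import Groth.Prelude.Def_Coh
import Groth.Agent.Lib.Helper3.LerayCol2
import Groth.Agent.Lib.Helper3.LerayCol4
import Groth.Agent.Lib.Helper1.RpushZero

/-!
# `R^p (g ∘ f)_* F ≅ g_* R^p f_* F` for `g` affine (S4457)
-/

set_option autoImplicit false
universe u
open CategoryTheory CategoryTheory.Limits Opposite TopologicalSpace AlgebraicGeometry

namespace Groth.Agent.Helper3.LerayCol5

open Groth.Agent.Helper3

/-- higher direct images along an affine morphism of the higher direct images of a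
quasi-coherent module along a qcqs morphism vanish -/
theorem isZero_rpushAb_rpushAb {X Y Z : Scheme.{u}} (f : X ⟶ Y) (g : Y ⟶ Z)
    [QuasiCompact f] [QuasiSeparated f] [IsAffineHom g] (M : X.Modules) [M.IsQuasicoherent]
    (q m : ℕ) :
    IsZero ((Coh.RpushAb g (m + 1)).obj ((Coh.RpushAb f q).obj (Coh.toAb M))) := by
  haveI := LerayCol.hasInjectiveResolutions X
  obtain ⟨e⟩ := Groth.Agent.Helper1.RpushComp.nonempty_iso f M q
  haveI : ((Coh.Rpush f q).obj M).IsQuasicoherent :=
    Groth.Agent.Lib.Helper5.RpushClassic.isQuasicoherent_rpush f M q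
  have h := Groth.Agent.Helper1.RpushZero.rpushAb_isZero g ((Coh.Rpush f q).obj M) m
  exact IsZero.of_iso h ((Coh.RpushAb g (m + 1)).mapIso e.symm)

theorem S4457_main {X Y Z : Scheme.{u}} (f : X ⟶ Y) (g : Y ⟶ Z)
    [IsSeparated f] [QuasiCompact f] [IsAffineHom g] (F : X.Modules) [Coh.IsQCoh F] (p : ℕ) :
    Nonempty ((Coh.RpushAb (f ≫ g) p).obj (Coh.toAb F) ≅
      (Coh.pushAb g).obj ((Coh.RpushAb f p).obj (Coh.toAb F))) := by
  refine LerayCol4.nonempty_iso_col f.base g.base (Coh.toAb F) ?_ p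
  intro q j hj
  obtain ⟨m, rfl⟩ : ∃ m, j = m + 1 := ⟨j - 1, by omega⟩
  exact isZero_rpushAb_rpushAb f g F q m

end Groth.Agent.Helper3.LerayCol5
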