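import Mathlib

set_option linter.unusedSectionVars false
set_option linter.unusedVariables false
set_option linter.unusedDecidableInType false

open LieAlgebra LieModule

namespace Groth.Agent.Lib.Helper3.LieHW

universe u v w

variable {ι : Type u} {K : Type v} {L : Type w} [Fintype ι] [Field K] [CharZero K]
    [IsAlgClosed K] [LieRing L] [LieAlgebra K L] [FiniteDimensional K L] [LieAlgebra.IsSimple K L]
    {H : LieSubalgebra K L} [H.IsCartanSubalgebra] (b : LieAlgebra.Basis ι H)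

/-! ### additive group helpers -/

lemma aux_sub {G : Type*} [AddCommGroup G] {a r C : G} (h : a + (r - C) = r) : r - C = r - a := by
  rw [← sub_eq_zero] at h ⊢
  rw [← h]; abel

lemma aux_sub2 {G : Type*} [AddCommGroup G] {a r C d : G} (h : a + (r - C) = r - d) :
    r - C = r - d - a := by
  rw [← sub_eq_zero] at h ⊢
  rw [← h]; abel

/-! ### integer combinations of simple roots -/

/-- integer combination of simple roots, in the dual -/
noncomputable def combD (c : ι → ℤ) : Module.Dual K H := ∑ i, (c i : K) • b.baseSupp i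

lemma combD_zero : combD b (0 : ι → ℤ) = 0 := by simp [combD]

lemma combD_add (c d : ι → ℤ) : combD b (c + d) = combD b c + combD b d := by
  simp [combD, add_smul, Finset.sum_add_distrib]

lemma combD_sub (c d : ι → ℤ) : combD b (c - d) = combD b c - combD b d := by
  unfold combD
  rw [← Finset.sum_sub_distrib]
  refine Finset.sum_congr rfl fun i _ => ?_
  rw [Pi.sub_apply, Int.cast_sub]
  exact sub_smul (c i : K) (d i : K) (b.baseSupp i)

lemma combD_single [DecidableEq ι] (i : ι) (n : ℤ) :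
    combD b (Pi.single i n) = (n : K) • b.baseSupp i := by
  unfold combD
  rw [Finset.sum_eq_single i]
  · simp
  · intro k _ hk; simp [Pi.single_eq_of_ne hk]
  · intro h; exact absurd (Finset.mem_univ i) h

lemma combD_eq_zero {c : ι → ℤ} (h : combD b c = 0) : c = 0 := by
  have := Fintype.linearIndependent_iff.mp b.linearIndependent_baseSupp (fun i => (c i : K)) h
  funext i
  exact_mod_cast this i

/-- integer combination of simple roots, as a function -/
noncomputable def comb (c : ι → ℤ) : H → K := ⇑(combD b c)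

lemma comb_zero : comb b (0 : ι → ℤ) = 0 := by
  unfold comb; rw [combD_zero]; rfl

lemma comb_add (c d : ι → ℤ) : comb b (c + d) = comb b c + comb b d := by
  unfold comb; rw [combD_add]; rfl

lemma comb_sub (c d : ι → ℤ) : comb b (c - d) = comb b c - comb b d := by
  unfold comb; rw [combD_sub]; rfl

lemma comb_single [DecidableEq ι] (i : ι) : comb b (Pi.single i 1) = ⇑(b.baseSupp i) := by
  unfold comb; rw [combD_single, Int.cast_one, one_smul]

lemma comb_eq_zero {c : ι → ℤ} (h : comb b c = 0) : c = 0 := by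
  apply combD_eq_zero b
  apply DFunLike.coe_injective
  exact h

lemma comb_injective : Function.Injective (comb b) := by
  intro c d h
  have h0 : comb b (c - d) = 0 := by rw [comb_sub, h, sub_self]
  exact sub_eq_zero.mp (comb_eq_zero b h0)

lemma baseSupp_ne_zero (i : ι) : (⇑(b.baseSupp i) : H → K) ≠ 0 := by
  intro h
  exact b.linearIndependent_baseSupp.ne_zero i (DFunLike.coe_injective h)

lemma baseSupp_ne_of_ne {i j : ι} (hij : i ≠ j) :
    (⇑(b.baseSupp i) : H → K) ≠ ⇑(b.baseSupp j) :=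
  fun h => hij (b.linearIndependent_baseSupp.injective (DFunLike.coe_injective h))

lemma baseSupp_add_ne_zero (i j : ι) :
    (⇑(b.baseSupp i) : H → K) + ⇑(b.baseSupp j) ≠ 0 := by
  classical
  intro h
  have h1 : comb b (Pi.single i 1 + Pi.single j 1) = 0 := by
    rw [comb_add, comb_single, comb_single, h]
  have h2 := congrFun (comb_eq_zero b h1) i
  simp only [Pi.add_apply, Pi.single_eq_same, Pi.zero_apply] at h2
  by_cases hij : i = j
  · subst hij; simp at h2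
  · rw [Pi.single_eq_of_ne hij] at h2; simp at h2

/-! ### root space membership -/

lemma lie_mem_add {χ₁ χ₂ χ₃ : H → K} {x y : L} (hx : x ∈ rootSpace H χ₁)
    (hy : y ∈ rootSpace H χ₂) (h : χ₁ + χ₂ = χ₃) : ⁅x, y⁆ ∈ rootSpace H χ₃ := by
  subst h
  exact LieAlgebra.lie_mem_genWeightSpace_of_mem_genWeightSpace hx hy

lemma e_mem (i : ι) : b.e i ∈ rootSpace H (b.baseSupp i) :=
  (mem_genWeightSpace _ _ _).mpr fun x ↦ ⟨1, by simp⟩

lemma f_mem (i : ι) : b.f i ∈ rootSpace H (-(⇑(b.baseSupp i) : H → K)) :=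
  (mem_genWeightSpace _ _ _).mpr fun ⟨z, hz⟩ ↦ ⟨1, by simp [← eq_neg_iff_add_eq_zero]⟩

lemma exists_ne_zero_of_ne_bot {N : LieSubmodule K H L} (h : N ≠ ⊥) : ∃ x ∈ N, x ≠ 0 := by
  by_contra hcon
  simp only [ne_eq, not_exists, not_and, not_not] at hcon
  exact h ((LieSubmodule.eq_bot_iff N).mpr hcon)

lemma ne_bot_of_mem {N : LieSubmodule K H L} {x : L} (hx : x ∈ N) (hx0 : x ≠ 0) : N ≠ ⊥ := by
  intro h
  rw [h, LieSubmodule.mem_bot] at hx
  exact hx0 hx

theorem eq_of_mem_of_mem {χ₁ χ₂ : H → K} {y : L} (h1 : y ∈ rootSpace H χ₁)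
    (h2 : y ∈ rootSpace H χ₂) (hy : y ≠ 0) : χ₁ = χ₂ := by
  by_contra hne
  have hd := LieModule.disjoint_genWeightSpace K H L hne
  have hy' : y ∈ (rootSpace H χ₁ ⊓ rootSpace H χ₂ : LieSubmodule K H L) :=
    (LieSubmodule.mem_inf _ _ _).mpr ⟨h1, h2⟩
  rw [disjoint_iff.mp hd, LieSubmodule.mem_bot] at hy'
  exact hy hy'

theorem weight_of_mem_sup {χ ψ₁ ψ₂ : H → K} {y : L} (hy : y ∈ rootSpace H χ)
    (hy' : y ∈ (rootSpace H ψ₁ ⊔ rootSpace H ψ₂ : LieSubmodule K H L)) (hy0 : y ≠ 0) :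
    χ = ψ₁ ∨ χ = ψ₂ := by
  by_contra hcon
  simp only [not_or] at hcon
  have hnot : χ ∉ ({ψ₁, ψ₂} : Set (H → K)) := by
    simp only [Set.mem_insert_iff, Set.mem_singleton_iff, not_or]
    exact hcon
  have hd := (LieModule.iSupIndep_genWeightSpace K H L).disjoint_biSup hnot
  have hd' : Disjoint (rootSpace H χ) (rootSpace H ψ₁ ⊔ rootSpace H ψ₂) := by
    simpa only [iSup_pair] using hd
  have hy'' : y ∈ (rootSpace H χ ⊓ (rootSpace H ψ₁ ⊔ rootSpace H ψ₂) : LieSubmodule K H L) :=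
    (LieSubmodule.mem_inf _ _ _).mpr ⟨hy, hy'⟩
  rw [disjoint_iff.mp hd', LieSubmodule.mem_bot] at hy''
  exact hy0 hy''

/-! ### one-dimensionality of root spaces -/

theorem exists_weight {χ : H → K} (hne : rootSpace H χ ≠ ⊥) :
    ∃ α : Weight K H L, (⇑α : H → K) = χ := ⟨⟨χ, hne⟩, rfl⟩

theorem finrank_rootSpace {χ : H → K} (hχ : χ ≠ 0) (hne : rootSpace H χ ≠ ⊥) :
    Module.finrank K (rootSpace H χ : Submodule K L) = 1 := by
  obtain ⟨α, hα⟩ := exists_weight hne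
  have hα0 : α.IsNonZero := by
    intro h0
    apply hχ
    rw [← hα]
    exact h0
  have h1 := LieAlgebra.IsKilling.finrank_rootSpace_eq_one α hα0
  rw [hα] at h1
  exact h1

theorem exists_smul_of_mem {χ : H → K} (hχ : χ ≠ 0) {u y : L}
    (hu : u ∈ rootSpace H χ) (hu0 : u ≠ 0) (hy : y ∈ rootSpace H χ) : ∃ a : K, y = a • u := by
  have h1 := finrank_rootSpace hχ (ne_bot_of_mem hu hu0)
  have hu' : (⟨u, hu⟩ : (rootSpace H χ : Submodule K L)) ≠ 0 := fun h => hu0 (congrArg Subtype.val h)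
  obtain ⟨a, ha⟩ := (finrank_eq_one_iff_of_nonzero' _ hu').mp h1 ⟨y, hy⟩
  exact ⟨a, (congrArg Subtype.val ha).symm⟩

theorem rootSpace_le_of_mem {χ : H → K} (hχ : χ ≠ 0) {y : L} (hy : y ∈ rootSpace H χ)
    (hy0 : y ≠ 0) {W : Submodule K L} (hyW : y ∈ W) : (rootSpace H χ : Submodule K L) ≤ W := by
  intro z hz
  obtain ⟨a, rfl⟩ := exists_smul_of_mem hχ hy hy0 hz
  exact W.smul_mem a hyW

/-! ### words in the `f i` -/

/-- iterated brackets with the `f i` -/
noncomputable def word (b : LieAlgebra.Basis ι H) (x : L) : List ι → L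
  | [] => x
  | i :: l => ⁅b.f i, word b x l⁆

lemma word_mem {χ : H → K} {x : L} (hx : x ∈ rootSpace H χ) (l : List ι) :
    ∃ c : ι → ℤ, (∀ i, 0 ≤ c i) ∧ word b x l ∈ rootSpace H (χ - comb b c) := by
  classical
  induction l with
  | nil => exact ⟨0, fun _ => le_rfl, by rw [comb_zero, sub_zero]; exact hx⟩
  | cons i l ih =>
    obtain ⟨c, hc, hm⟩ := ih
    refine ⟨c + Pi.single i 1, fun k => ?_, ?_⟩
    · have h1 : (0 : ℤ) ≤ (Pi.single i 1 : ι → ℤ) k := by
        by_cases h : k = i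
        · subst h; simp
        · simp [Pi.single_eq_of_ne h]
      have := add_nonneg (hc k) h1
      simpa using this
    · have h1 : ⁅b.f i, word b x l⁆ ∈ rootSpace H (χ - comb b (c + Pi.single i 1)) :=
        lie_mem_add (f_mem b i) hm (by rw [comb_add, comb_single]; abel)
      exact h1

theorem span_word_eq_top {χ : H → K} {x : L} (hx : x ∈ rootSpace H χ) (hx0 : x ≠ 0)
    (he : ∀ i, ⁅b.e i, x⁆ = 0) : Submodule.span K (Set.range (word b x)) = ⊤ := by
  have hf : ∀ i, ∀ t ∈ Submodule.span K (Set.range (word b x)),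
      ⁅b.f i, t⁆ ∈ Submodule.span K (Set.range (word b x)) := by
    intro i t ht
    induction ht using Submodule.span_induction with
    | mem y hy =>
      obtain ⟨l, rfl⟩ := hy
      exact Submodule.subset_span ⟨i :: l, rfl⟩
    | zero => rw [lie_zero]; exact zero_mem _
    | add y z _ _ hy hz => rw [lie_add]; exact add_mem hy hz
    | smul a y _ hy => rw [lie_smul]; exact Submodule.smul_mem _ a hy
  have hH : ∀ h : H, ∀ t ∈ Submodule.span K (Set.range (word b x)),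
      ⁅(h : L), t⁆ ∈ Submodule.span K (Set.range (word b x)) := by
    intro h t ht
    induction ht using Submodule.span_induction with
    | mem y hy =>
      obtain ⟨l, rfl⟩ := hy
      obtain ⟨c, -, hm⟩ := word_mem b hx l
      have := LieAlgebra.IsKilling.lie_eq_smul_of_mem_rootSpace hm h
      rw [LieSubalgebra.coe_bracket_of_module] at this
      rw [this]
      exact Submodule.smul_mem _ _ (Submodule.subset_span ⟨l, rfl⟩)
    | zero => rw [lie_zero]; exact zero_mem _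
    | add y z _ _ hy hz => rw [lie_add]; exact add_mem hy hz
    | smul a y _ hy => rw [lie_smul]; exact Submodule.smul_mem _ a hy
  have hew : ∀ i, ∀ l : List ι, ⁅b.e i, word b x l⁆ ∈ Submodule.span K (Set.range (word b x)) := by
    intro i l
    induction l with
    | nil =>
      show ⁅b.e i, x⁆ ∈ _
      rw [he i]; exact zero_mem _
    | cons k l ih =>
      show ⁅b.e i, ⁅b.f k, word b x l⁆⁆ ∈ _
      rw [leibniz_lie]
      refine add_mem ?_ (hf k _ ih)
      by_cases hik : i = k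
      · subst hik
        rw [(b.sl2 i).lie_e_f]
        exact hH (b.h' i) _ (Submodule.subset_span ⟨l, rfl⟩)
      · rw [b.lie_e_f_ne i k hik, zero_lie]; exact zero_mem _
  have heT : ∀ i, ∀ t ∈ Submodule.span K (Set.range (word b x)),
      ⁅b.e i, t⁆ ∈ Submodule.span K (Set.range (word b x)) := by
    intro i t ht
    induction ht using Submodule.span_induction with
    | mem y hy => obtain ⟨l, rfl⟩ := hy; exact hew i l
    | zero => rw [lie_zero]; exact zero_mem _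
    | add y z _ _ hy hz => rw [lie_add]; exact add_mem hy hz
    | smul a y _ hy => rw [lie_smul]; exact Submodule.smul_mem _ a hy
  have hall : ∀ y : L, ∀ t ∈ Submodule.span K (Set.range (word b x)),
      ⁅y, t⁆ ∈ Submodule.span K (Set.range (word b x)) := by
    intro y
    have hy : y ∈ LieSubalgebra.lieSpan K L (Set.range b.e ∪ Set.range b.f) := by
      rw [b.span_ef]; exact LieSubalgebra.mem_top _
    induction hy using LieSubalgebra.lieSpan_induction with
    | mem u hu =>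
      rcases hu with ⟨i, rfl⟩ | ⟨i, rfl⟩
      · exact heT i
      · exact hf i
    | zero => intro t _; rw [zero_lie]; exact zero_mem _
    | add u v _ _ hu hv => intro t ht; rw [add_lie]; exact add_mem (hu t ht) (hv t ht)
    | smul a u _ hu => intro t ht; rw [smul_lie]; exact Submodule.smul_mem _ a (hu t ht)
    | lie u v _ _ hu hv =>
      intro t ht
      rw [lie_lie]
      exact sub_mem (hu _ (hv t ht)) (hv _ (hu t ht))
  let I : LieIdeal K L :=
    { Submodule.span K (Set.range (word b x)) with lie_mem := fun {y t} ht => hall y t ht }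
  have hxT : x ∈ I := Submodule.subset_span ⟨[], rfl⟩
  rcases LieAlgebra.IsSimple.eq_bot_or_eq_top I with h | h
  · exfalso
    rw [h, LieSubmodule.mem_bot] at hxT
    exact hx0 hxT
  · have h2 : (I : Submodule K L) = ⊤ := by rw [h]; rfl
    exact h2

theorem hw_below {χ : H → K} {x : L} (hx : x ∈ rootSpace H χ) (hx0 : x ≠ 0)
    (he : ∀ i, ⁅b.e i, x⁆ = 0) {ψ : H → K} (hψ : rootSpace H ψ ≠ ⊥) :
    ∃ c : ι → ℤ, (∀ i, 0 ≤ c i) ∧ ψ = χ - comb b c := by
  have key : ∀ y ∈ Submodule.span K (Set.range (word b x)),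
      y ∈ ⨆ φ ∈ {φ : H → K | ∃ c : ι → ℤ, (∀ i, 0 ≤ c i) ∧ φ = χ - comb b c},
        rootSpace H φ := by
    intro y hy
    induction hy using Submodule.span_induction with
    | mem z hz =>
      obtain ⟨l, rfl⟩ := hz
      obtain ⟨c, hc, hm⟩ := word_mem b hx l
      refine LieSubmodule.mem_iSup_of_mem (N := fun φ : H → K =>
        ⨆ (_ : φ ∈ {φ : H → K | ∃ c : ι → ℤ, (∀ i, 0 ≤ c i) ∧ φ = χ - comb b c}),
          rootSpace H φ) (χ - comb b c) ?_
      exact LieSubmodule.mem_iSup_of_mem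
        (N := fun _ : (χ - comb b c) ∈
          {φ : H → K | ∃ c : ι → ℤ, (∀ i, 0 ≤ c i) ∧ φ = χ - comb b c} =>
          rootSpace H (χ - comb b c))
        ⟨c, hc, rfl⟩ hm
    | zero => exact zero_mem _
    | add y z _ _ hy hz => exact add_mem hy hz
    | smul a y _ hy => exact SMulMemClass.smul_mem a hy
  have hs : ⨆ φ ∈ {φ : H → K | ∃ c : ι → ℤ, (∀ i, 0 ≤ c i) ∧ φ = χ - comb b c},
      rootSpace H φ = ⊤ := by
    rw [eq_top_iff]
    intro y _
    exact key y (by rw [span_word_eq_top b hx hx0 he]; exact Submodule.mem_top)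
  exact (LieModule.iSupIndep_genWeightSpace K H L).mem_of_biSup_eq_top hs hψ

/-! ### the highest root -/

section HW

variable (ρ : H → K)

theorem lie_e_eq_zero (htop : ∀ i, rootSpace H (ρ + b.baseSupp i) = ⊥)
    {x : L} (hx : x ∈ rootSpace H ρ) (i : ι) : ⁅b.e i, x⁆ = 0 := by
  have h1 : ⁅b.e i, x⁆ ∈ rootSpace H (ρ + b.baseSupp i) :=
    lie_mem_add (e_mem b i) hx (add_comm _ _)
  rw [htop i, LieSubmodule.mem_bot] at h1
  exact h1

theorem exists_hw (hρ : rootSpace H ρ ≠ ⊥) (htop : ∀ i, rootSpace H (ρ + b.baseSupp i) = ⊥) :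
    ∃ x : L, x ∈ rootSpace H ρ ∧ x ≠ 0 ∧ ∀ i, ⁅b.e i, x⁆ = 0 := by
  obtain ⟨x, hx, hx0⟩ := exists_ne_zero_of_ne_bot hρ
  exact ⟨x, hx, hx0, fun i => lie_e_eq_zero b ρ htop hx i⟩

theorem below_of_ne_bot (hρ : rootSpace H ρ ≠ ⊥)
    (htop : ∀ i, rootSpace H (ρ + b.baseSupp i) = ⊥) {ψ : H → K} (hψ : rootSpace H ψ ≠ ⊥) :
    ∃ c : ι → ℤ, (∀ i, 0 ≤ c i) ∧ ψ = ρ - comb b c := by
  obtain ⟨x, hx, hx0, he⟩ := exists_hw b ρ hρ htop
  exact hw_below b hx hx0 he hψ

theorem hw_weight_eq (hρ : rootSpace H ρ ≠ ⊥) (htop : ∀ i, rootSpace H (ρ + b.baseSupp i) = ⊥)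
    {χ : H → K} {y : L} (hy : y ∈ rootSpace H χ) (hy0 : y ≠ 0)
    (he : ∀ i, ⁅b.e i, y⁆ = 0) : χ = ρ := by
  have hχ : rootSpace H χ ≠ ⊥ := ne_bot_of_mem hy hy0
  obtain ⟨c, hc, h1⟩ := hw_below b hy hy0 he hρ
  obtain ⟨d, hd, h2⟩ := below_of_ne_bot b ρ hρ htop hχ
  have hC : comb b c = χ - ρ := by rw [h1]; abel
  have hD : comb b d = ρ - χ := by rw [h2]; abel
  have h3 : comb b (c + d) = 0 := by rw [comb_add, hC, hD]; abel
  have h4 := comb_eq_zero b h3
  have hc0 : c = 0 := by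
    funext i
    have h5 := congrFun h4 i
    simp only [Pi.add_apply, Pi.zero_apply] at h5
    have h6 := hc i
    have h7 := hd i
    show c i = 0
    omega
  rw [hc0, comb_zero, sub_zero] at h1
  exact h1.symm

theorem nonneg_of_ne_bot (hρ : rootSpace H ρ ≠ ⊥)
    (htop : ∀ i, rootSpace H (ρ + b.baseSupp i) = ⊥) (c : ι → ℤ) (ψ : H → K)
    (hψ : ψ = ρ - comb b c) (hne : rootSpace H ψ ≠ ⊥) : ∀ i, 0 ≤ c i := by
  obtain ⟨d, hd, h'⟩ := below_of_ne_bot b ρ hρ htop hne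
  have h1 : comb b c = ρ - ψ := by rw [hψ]; abel
  have h2 : comb b d = ρ - ψ := by rw [h']; abel
  have h3 : c = d := comb_injective b (h1.trans h2.symm)
  rw [h3]; exact hd

theorem rootSpace_eq_bot_of_neg (hρ : rootSpace H ρ ≠ ⊥)
    (htop : ∀ i, rootSpace H (ρ + b.baseSupp i) = ⊥) (c : ι → ℤ) (k : ι) (hk : c k < 0)
    (ψ : H → K) (hψ : ψ = ρ - comb b c) : rootSpace H ψ = ⊥ := by
  by_contra hne
  have := nonneg_of_ne_bot b ρ hρ htop c ψ hψ hne k
  omega

/-- a minimal weight vector of `W` outside `W'` -/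
theorem exists_min_vector (hρ : rootSpace H ρ ≠ ⊥)
    (htop : ∀ i, rootSpace H (ρ + b.baseSupp i) = ⊥) (W W' : LieSubmodule K H L)
    (hnle : ¬ W ≤ W') (he : ∀ i, ∀ w ∈ W, ⁅b.e i, w⁆ ∈ W) :
    ∃ (c : ι → ℤ) (y : L), (∀ i, 0 ≤ c i) ∧ y ∈ W ∧ y ∈ rootSpace H (ρ - comb b c) ∧ y ∉ W' ∧
      ∀ i, ⁅b.e i, y⁆ ∈ W' := by
  classical
  have h1 : ∃ (c : ι → ℤ) (y : L), (∀ i, 0 ≤ c i) ∧ y ∈ W ∧
      y ∈ rootSpace H (ρ - comb b c) ∧ y ∉ W' := by
    by_contra hcon
    apply hnle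
    refine (LieModule.eq_iSup_inf_genWeightSpace K H L W).le.trans (iSup_le fun χ => ?_)
    intro y hy
    rw [LieSubmodule.mem_inf] at hy
    by_contra hy'
    apply hcon
    obtain ⟨c, hc, hχ⟩ := below_of_ne_bot b ρ hρ htop χ.genWeightSpace_ne_bot
    refine ⟨c, y, hc, hy.1, ?_, hy'⟩
    rw [← hχ]; exact hy.2
  have key : ∀ n : ℕ, ∀ (c : ι → ℤ) (y : L), (∀ i, 0 ≤ c i) → (∑ i, c i) = (n : ℤ) → y ∈ W →
      y ∈ rootSpace H (ρ - comb b c) → y ∉ W' →
      ∃ (c : ι → ℤ) (y : L), (∀ i, 0 ≤ c i) ∧ y ∈ W ∧ y ∈ rootSpace H (ρ - comb b c) ∧ y ∉ W' ∧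
        ∀ i, ⁅b.e i, y⁆ ∈ W' := by
    intro n
    induction n using Nat.strong_induction_on with
    | _ n ih =>
      intro c y hc hsum hyW hym hyn
      by_cases hall : ∀ i, ⁅b.e i, y⁆ ∈ W'
      · exact ⟨c, y, hc, hyW, hym, hyn, hall⟩
      · simp only [not_forall] at hall
        obtain ⟨i, hi⟩ := hall
        have hm' : ⁅b.e i, y⁆ ∈ rootSpace H (ρ - comb b (c - Pi.single i 1)) :=
          lie_mem_add (e_mem b i) hym (by rw [comb_sub, comb_single]; abel)
        have hne0 : ⁅b.e i, y⁆ ≠ 0 := fun h0 => hi (by rw [h0]; exact zero_mem _)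
        have hc' : ∀ k, 0 ≤ (c - Pi.single i 1 : ι → ℤ) k :=
          nonneg_of_ne_bot b ρ hρ htop (c - Pi.single i 1) (ρ - comb b (c - Pi.single i 1)) rfl
            (ne_bot_of_mem hm' hne0)
        have hci : 1 ≤ c i := by
          have := hc' i
          simp only [Pi.sub_apply, Pi.single_eq_same] at this
          omega
        have hle : c i ≤ ∑ k, c k :=
          Finset.single_le_sum (fun k _ => hc k) (Finset.mem_univ i)
        have hn1 : 1 ≤ n := by rw [hsum] at hle; omega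
        have h2 : ∑ k, (Pi.single i (1 : ℤ) : ι → ℤ) k = 1 := by
          rw [Finset.sum_pi_single']; simp
        have hsum' : ∑ k, (c - Pi.single i 1 : ι → ℤ) k = ((n - 1 : ℕ) : ℤ) := by
          simp only [Pi.sub_apply, Finset.sum_sub_distrib, h2, hsum]
          omega
        exact ih (n - 1) (by omega) _ _ hc' hsum' (he i y hyW) hm' hi
  obtain ⟨c0, y0, hc0, hy0W, hy0m, hy0n⟩ := h1
  have hn : 0 ≤ ∑ i, c0 i := Finset.sum_nonneg fun i _ => hc0 i
  obtain ⟨n, hn'⟩ := Int.eq_ofNat_of_zero_le hn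
  exact key n c0 y0 hc0 hn' hy0W hy0m hy0n

end HW

/-! ### root strings -/

theorem chain (χ : H → K) (hχ : rootSpace H χ ≠ ⊥) (i : ι)
    (ht : rootSpace H (χ + b.baseSupp i) = ⊥) :
    ∃ q : ℕ, χ (b.h' i) = (q : K) ∧
      ∀ m : ℕ, rootSpace H (χ - m • (⇑(b.baseSupp i) : H → K)) ≠ ⊥ ↔ m ≤ q := by
  obtain ⟨β, hβ⟩ := exists_weight hχ
  have hαne : rootSpace H (b.baseSupp i) ≠ ⊥ := ne_bot_of_mem (e_mem b i) (b.sl2 i).e_ne_zero
  obtain ⟨α, hαc⟩ := exists_weight hαne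
  have hα : α.IsNonZero := by
    intro h0
    apply baseSupp_ne_zero b i
    rw [← hαc]
    exact h0
  have hco : LieAlgebra.IsKilling.coroot α = b.h' i := by
    have h := b.coroot_eq_h' i
    have hαeq : α = (b.baseSupportEquiv i).1.1 := Weight.ext fun h => by rw [hαc]; rfl
    rw [hαeq]; exact h
  have key := fun n : ℤ => LieAlgebra.IsKilling.rootSpace_zsmul_add_ne_bot_iff α β hα n
  have hval := LieAlgebra.IsKilling.apply_coroot_eq_cast α β
  rw [hco] at hval
  obtain ⟨t, ht_def⟩ : ∃ t : ℕ, t = chainTopCoeff (⇑α) β := ⟨_, rfl⟩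
  obtain ⟨q, hq_def⟩ : ∃ q : ℕ, q = chainBotCoeff (⇑α) β := ⟨_, rfl⟩
  rw [← ht_def, ← hq_def] at hval
  simp only [← ht_def, ← hq_def] at key
  rw [hαc, hβ] at key
  have hβv : χ (b.h' i) = β (b.h' i) := (congrFun hβ (b.h' i)).symm
  have ht0 : t = 0 := by
    by_contra hne
    have h1 := (key 1).mpr ⟨by omega, by omega⟩
    rw [one_smul, add_comm] at h1
    exact h1 ht
  refine ⟨q, ?_, fun m => ?_⟩
  · rw [hβv, hval, ht0]; simp
  · have h1 := key (-(m : ℤ))
    have e : (-(m : ℤ)) • (⇑(b.baseSupp i) : H → K) + χ = χ - m • (⇑(b.baseSupp i) : H → K) := by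
      rw [neg_smul, natCast_zsmul]; abel
    rw [e] at h1
    rw [h1]
    constructor
    · rintro ⟨_, h2⟩; omega
    · intro h; constructor <;> omega

section HW2

variable (ρ : H → K)

theorem apply_ne_zero_of_sub_ne_bot (hρ : rootSpace H ρ ≠ ⊥)
    (htop : ∀ i, rootSpace H (ρ + b.baseSupp i) = ⊥) (i : ι)
    (h : rootSpace H (ρ - b.baseSupp i) ≠ ⊥) : ρ (b.h' i) ≠ 0 := by
  obtain ⟨q, hq, hm⟩ := chain b ρ hρ i (htop i)
  have h1 : 1 ≤ q := (hm 1).mp (by rw [one_nsmul]; exact h)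
  rw [hq]
  exact Nat.cast_ne_zero.mpr (by omega)

theorem sub_j_ne_bot (hρ : rootSpace H ρ ≠ ⊥)
    (htop : ∀ i, rootSpace H (ρ + b.baseSupp i) = ⊥) (j : ι) (hj : ρ (b.h' j) = 1) :
    rootSpace H (ρ - b.baseSupp j) ≠ ⊥ ∧
      rootSpace H (ρ - 2 • (⇑(b.baseSupp j) : H → K)) = ⊥ := by
  obtain ⟨q, hq, hm⟩ := chain b ρ hρ j (htop j)
  have hq1 : q = 1 := by rw [hj] at hq; exact_mod_cast hq.symm
  subst hq1
  constructor
  · have := (hm 1).mpr le_rfl
    rwa [one_nsmul] at this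
  · by_contra h
    have := (hm 2).mp h
    omega

theorem apply_hj (j : ι) : b.baseSupp j (b.h' j) = 2 := by
  have _i : IsAddTorsionFree L := .of_isTorsionFree K L
  rw [b.baseSupp_apply_h', b.A_diag_eq_two]; norm_num

theorem A_ne_zero_of_ne_bot (hρ : rootSpace H ρ ≠ ⊥)
    (htop : ∀ i, rootSpace H (ρ + b.baseSupp i) = ⊥) (j : ι)
    (hN : ∀ i, ρ (b.h' i) ≠ 0 ↔ i = j) (hj : ρ (b.h' j) = 1) (i : ι) (hij : i ≠ j)
    (h : rootSpace H (ρ - b.baseSupp j - b.baseSupp i) ≠ ⊥) : b.A i j ≠ 0 := by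
  have h0 : rootSpace H (ρ - b.baseSupp i) = ⊥ := by
    by_contra hne
    exact hij ((hN i).mp (apply_ne_zero_of_sub_ne_bot b ρ hρ htop i hne))
  have ht : rootSpace H (ρ - b.baseSupp j - b.baseSupp i + b.baseSupp j) = ⊥ := by
    have e : ρ - ⇑(b.baseSupp j) - ⇑(b.baseSupp i) + ⇑(b.baseSupp j) = ρ - ⇑(b.baseSupp i) := by
      abel
    rw [e]; exact h0
  obtain ⟨q, hq, -⟩ := chain b (ρ - ⇑(b.baseSupp j) - ⇑(b.baseSupp i)) h j ht
  have hv : (ρ - ⇑(b.baseSupp j) - ⇑(b.baseSupp i)) (b.h' j) = 1 - 2 - (b.A i j : K) := by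
    rw [Pi.sub_apply, Pi.sub_apply, hj, apply_hj, b.baseSupp_apply_h']
  intro hA
  rw [hv, hA] at hq
  have h1 : ((q + 1 : ℕ) : K) = 0 := by
    push_cast
    rw [← hq]; norm_num
  exact (Nat.cast_ne_zero (R := K)).mpr (Nat.succ_ne_zero q) h1

/-! ### stable subspaces -/

/-- an `H`-stable subspace as a Lie submodule -/
def toLie (W : Submodule K L) (hH : ∀ h : H, ∀ w ∈ W, ⁅(h : L), w⁆ ∈ W) : LieSubmodule K H L :=
  { W with lie_mem := fun {h w} hw => hH h w hw }

lemma e_mem_borel (i : ι) : b.e i ∈ (b.borelUpper : Submodule K L) := by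
  show b.e i ∈ (LieSubalgebra.lieSpan K L (Set.range b.e)).toSubmodule
  exact LieSubalgebra.subset_lieSpan (Set.mem_range_self i)

theorem stable_split (W : Submodule K L)
    (hst : ∀ x ∈ H.toSubmodule ⊔ (b.borelUpper : Submodule K L), ∀ w ∈ W, ⁅x, w⁆ ∈ W) :
    (∀ h : H, ∀ w ∈ W, ⁅(h : L), w⁆ ∈ W) ∧ (∀ i, ∀ w ∈ W, ⁅b.e i, w⁆ ∈ W) :=
  ⟨fun h w hw => hst _ (Submodule.mem_sup_left h.2) w hw,
   fun i w hw => hst _ (Submodule.mem_sup_right (e_mem_borel b i)) w hw⟩

theorem stable_of_split (W : Submodule K L) (hH : ∀ h : H, ∀ w ∈ W, ⁅(h : L), w⁆ ∈ W)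
    (he : ∀ i, ∀ w ∈ W, ⁅b.e i, w⁆ ∈ W) :
    ∀ x ∈ H.toSubmodule ⊔ (b.borelUpper : Submodule K L), ∀ w ∈ W, ⁅x, w⁆ ∈ W := by
  have hu : ∀ u ∈ LieSubalgebra.lieSpan K L (Set.range b.e), ∀ w ∈ W, ⁅u, w⁆ ∈ W := by
    intro u hu
    induction hu using LieSubalgebra.lieSpan_induction with
    | mem u hu => obtain ⟨i, rfl⟩ := hu; exact he i
    | zero => intro w _; rw [zero_lie]; exact zero_mem _
    | add u v _ _ hu hv => intro w hw; rw [add_lie]; exact add_mem (hu w hw) (hv w hw)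
    | smul a u _ hu => intro w hw; rw [smul_lie]; exact W.smul_mem a (hu w hw)
    | lie u v _ _ hu hv =>
      intro w hw; rw [lie_lie]; exact sub_mem (hu _ (hv w hw)) (hv _ (hu w hw))
  intro x hx w hw
  obtain ⟨h, hh, u, hu', rfl⟩ := Submodule.mem_sup.mp hx
  rw [add_lie]
  exact add_mem (hH ⟨h, hh⟩ w hw) (hu u hu' w hw)

theorem rho_ne_zero (j : ι) (hj : ρ (b.h' j) = 1) : ρ ≠ 0 := by
  intro h
  rw [h] at hj
  simp at hj

theorem beta_ne_zero (j : ι) (hj : ρ (b.h' j) = 1) : ρ - ⇑(b.baseSupp j) ≠ 0 := by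
  intro h
  have h1 := congrFun h (b.h' j)
  simp only [Pi.sub_apply, Pi.zero_apply, hj, apply_hj] at h1
  norm_num at h1

theorem rootSpace_le_of_stable (hρ : rootSpace H ρ ≠ ⊥)
    (htop : ∀ i, rootSpace H (ρ + b.baseSupp i) = ⊥) (hρ0 : ρ ≠ 0)
    (W : Submodule K L) (hW : W ≠ ⊥)
    (hH : ∀ h : H, ∀ w ∈ W, ⁅(h : L), w⁆ ∈ W) (he : ∀ i, ∀ w ∈ W, ⁅b.e i, w⁆ ∈ W) :
    (rootSpace H ρ : Submodule K L) ≤ W := by
  have hnle : ¬ toLie W hH ≤ ⊥ := fun h =>
    hW ((Submodule.eq_bot_iff W).mpr fun w hw => (LieSubmodule.mem_bot w).mp (h hw))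
  obtain ⟨c, y, hc, hyW, hym, hyn, hye⟩ :=
    exists_min_vector b ρ hρ htop (toLie W hH) ⊥ hnle he
  have hy0 : y ≠ 0 := fun h0 => hyn (by rw [h0]; exact zero_mem _)
  have hye0 : ∀ i, ⁅b.e i, y⁆ = 0 := fun i => (LieSubmodule.mem_bot _).mp (hye i)
  have hχ : ρ - comb b c = ρ := hw_weight_eq b ρ hρ htop hym hy0 hye0
  rw [hχ] at hym
  exact rootSpace_le_of_mem hρ0 hym hy0 hyW

theorem W2_le_of_stable (hρ : rootSpace H ρ ≠ ⊥)
    (htop : ∀ i, rootSpace H (ρ + b.baseSupp i) = ⊥) (j : ι)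
    (hN : ∀ i, ρ (b.h' i) ≠ 0 ↔ i = j) (hj : ρ (b.h' j) = 1)
    (W : Submodule K L) (hfr : 2 ≤ Module.finrank K W)
    (hH : ∀ h : H, ∀ w ∈ W, ⁅(h : L), w⁆ ∈ W) (he : ∀ i, ∀ w ∈ W, ⁅b.e i, w⁆ ∈ W) :
    (rootSpace H ρ : Submodule K L) ⊔ (rootSpace H (ρ - b.baseSupp j) : Submodule K L) ≤ W := by
  have hρ0 : ρ ≠ 0 := rho_ne_zero b ρ j hj
  have hW0 : W ≠ ⊥ := by
    rintro rfl
    simp at hfr
  have h1 : (rootSpace H ρ : Submodule K L) ≤ W :=
    rootSpace_le_of_stable b ρ hρ htop hρ0 W hW0 hH he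
  have hnle : ¬ toLie W hH ≤ rootSpace H ρ := by
    intro hle
    have h2 : W ≤ (rootSpace H ρ : Submodule K L) := fun w hw => hle hw
    have h3 := Submodule.finrank_mono h2
    rw [finrank_rootSpace hρ0 hρ] at h3
    omega
  obtain ⟨c, y, hc, hyW, hym, hyn, hye⟩ :=
    exists_min_vector b ρ hρ htop (toLie W hH) (rootSpace H ρ) hnle he
  have hy0 : y ≠ 0 := fun h0 => hyn (by rw [h0]; exact zero_mem _)
  have hex : ∃ i, ⁅b.e i, y⁆ ≠ 0 := by
    by_contra hcon
    simp only [not_exists, not_not] at hcon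
    have h2 := hw_weight_eq b ρ hρ htop hym hy0 hcon
    rw [h2] at hym
    exact hyn hym
  obtain ⟨i, hi⟩ := hex
  have hm1 : ⁅b.e i, y⁆ ∈ rootSpace H (⇑(b.baseSupp i) + (ρ - comb b c)) :=
    lie_mem_add (e_mem b i) hym rfl
  have heq : ⇑(b.baseSupp i) + (ρ - comb b c) = ρ := eq_of_mem_of_mem hm1 (hye i) hi
  rw [aux_sub heq] at hym
  have hij : i = j :=
    (hN i).mp (apply_ne_zero_of_sub_ne_bot b ρ hρ htop i (ne_bot_of_mem hym hy0))
  rw [hij] at hym
  exact sup_le h1 (rootSpace_le_of_mem (beta_ne_zero b ρ j hj) hym hy0 hyW)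

theorem finrank_W2 (hρ : rootSpace H ρ ≠ ⊥)
    (htop : ∀ i, rootSpace H (ρ + b.baseSupp i) = ⊥) (j : ι) (hj : ρ (b.h' j) = 1) :
    Module.finrank K
      ((rootSpace H ρ : Submodule K L) ⊔ (rootSpace H (ρ - b.baseSupp j) : Submodule K L) :
        Submodule K L) = 2 := by
  have hβne := (sub_j_ne_bot b ρ hρ htop j hj).1
  have h1 := finrank_rootSpace (rho_ne_zero b ρ j hj) hρ
  have h2 := finrank_rootSpace (beta_ne_zero b ρ j hj) hβne
  have hle := Submodule.finrank_add_le_finrank_add_finrank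
    (rootSpace H ρ : Submodule K L) (rootSpace H (ρ - b.baseSupp j) : Submodule K L)
  have hlt : (rootSpace H ρ : Submodule K L) <
      (rootSpace H ρ : Submodule K L) ⊔ (rootSpace H (ρ - b.baseSupp j) : Submodule K L) := by
    refine lt_of_le_of_ne le_sup_left fun heq => ?_
    obtain ⟨v, hv, hv0⟩ := exists_ne_zero_of_ne_bot hβne
    have hv' : v ∈ (rootSpace H ρ : Submodule K L) := by
      rw [heq]; exact Submodule.mem_sup_right hv
    have h3 : ρ = ρ - ⇑(b.baseSupp j) := eq_of_mem_of_mem hv' hv hv0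
    exact baseSupp_ne_zero b j (sub_eq_self.mp h3.symm)
  have h3 := Submodule.finrank_lt_finrank_of_lt hlt
  omega

theorem W2_stable (hρ : rootSpace H ρ ≠ ⊥)
    (htop : ∀ i, rootSpace H (ρ + b.baseSupp i) = ⊥) (j : ι) :
    (∀ h : H, ∀ w ∈ (rootSpace H ρ : Submodule K L) ⊔
        (rootSpace H (ρ - b.baseSupp j) : Submodule K L),
      ⁅(h : L), w⁆ ∈ (rootSpace H ρ : Submodule K L) ⊔
        (rootSpace H (ρ - b.baseSupp j) : Submodule K L)) ∧
    (∀ i, ∀ w ∈ (rootSpace H ρ : Submodule K L) ⊔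
        (rootSpace H (ρ - b.baseSupp j) : Submodule K L),
      ⁅b.e i, w⁆ ∈ (rootSpace H ρ : Submodule K L) ⊔
        (rootSpace H (ρ - b.baseSupp j) : Submodule K L)) := by
  classical
  constructor
  · intro h w hw
    obtain ⟨y, hy, z, hz, rfl⟩ := Submodule.mem_sup.mp hw
    rw [lie_add]
    exact add_mem (Submodule.mem_sup_left ((rootSpace H ρ).lie_mem (x := h) hy))
      (Submodule.mem_sup_right ((rootSpace H (ρ - b.baseSupp j)).lie_mem (x := h) hz))
  · intro i w hw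
    obtain ⟨y, hy, z, hz, rfl⟩ := Submodule.mem_sup.mp hw
    rw [lie_add, lie_e_eq_zero b ρ htop hy i, zero_add]
    by_cases hij : i = j
    · subst hij
      refine Submodule.mem_sup_left ?_
      have h1 : ⁅b.e i, z⁆ ∈ rootSpace H ρ := lie_mem_add (e_mem b i) hz (by abel)
      exact h1
    · have h1 : ⁅b.e i, z⁆ ∈ rootSpace H (⇑(b.baseSupp i) + (ρ - ⇑(b.baseSupp j))) :=
        lie_mem_add (e_mem b i) hz rfl
      rw [rootSpace_eq_bot_of_neg b ρ hρ htop (Pi.single j 1 - Pi.single i 1) i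
        (by simp [Pi.single_eq_of_ne hij]) _ (by
          rw [comb_sub, comb_single, comb_single]; abel),
        LieSubmodule.mem_bot] at h1
      rw [h1]; exact zero_mem _

theorem main2 (hρ : rootSpace H ρ ≠ ⊥)
    (htop : ∀ i, rootSpace H (ρ + b.baseSupp i) = ⊥) (j : ι)
    (hN : ∀ i, ρ (b.h' i) ≠ 0 ↔ i = j) (hj : ρ (b.h' j) = 1) (W : Submodule K L) :
    (Module.finrank K W = 2 ∧
        ∀ x ∈ H.toSubmodule ⊔ (b.borelUpper : Submodule K L), ∀ w ∈ W, ⁅x, w⁆ ∈ W) ↔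
      W = (rootSpace H ρ : Submodule K L) ⊔ (rootSpace H (ρ - b.baseSupp j) : Submodule K L) := by
  constructor
  · rintro ⟨hfr, hst⟩
    obtain ⟨hH, he⟩ := stable_split b W hst
    have hle := W2_le_of_stable b ρ hρ htop j hN hj W (by omega) hH he
    exact (Submodule.eq_of_le_of_finrank_eq hle
      (by rw [finrank_W2 b ρ hρ htop j hj, hfr])).symm
  · rintro rfl
    obtain ⟨hH, he⟩ := W2_stable b ρ hρ htop j
    exact ⟨finrank_W2 b ρ hρ htop j hj, stable_of_split b _ hH he⟩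

theorem main3 (hρ : rootSpace H ρ ≠ ⊥)
    (htop : ∀ i, rootSpace H (ρ + b.baseSupp i) = ⊥) (j : ι)
    (hN : ∀ i, ρ (b.h' i) ≠ 0 ↔ i = j) (hj : ρ (b.h' j) = 1) (W : Submodule K L)
    (hW : Module.finrank K W = 3)
    (hst : ∀ x ∈ H.toSubmodule ⊔ (b.borelUpper : Submodule K L), ∀ w ∈ W, ⁅x, w⁆ ∈ W) :
    (rootSpace H ρ : Submodule K L) ⊔ (rootSpace H (ρ - b.baseSupp j) : Submodule K L) ≤ W ∧
      ∃ i : ι, i ≠ j ∧ b.A i j ≠ 0 ∧ rootSpace H (ρ - b.baseSupp j - b.baseSupp i) ≠ ⊥ ∧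
        ρ - ⇑(b.baseSupp j) - ⇑(b.baseSupp i) ≠ 0 ∧
        W = (rootSpace H ρ : Submodule K L) ⊔ (rootSpace H (ρ - b.baseSupp j) : Submodule K L) ⊔
          (rootSpace H (ρ - b.baseSupp j - b.baseSupp i) : Submodule K L) := by
  obtain ⟨hH, he⟩ := stable_split b W hst
  have hle := W2_le_of_stable b ρ hρ htop j hN hj W (by omega) hH he
  refine ⟨hle, ?_⟩
  have hW₂ : ((rootSpace H ρ ⊔ rootSpace H (ρ - b.baseSupp j) : LieSubmodule K H L) :
      Submodule K L) = (rootSpace H ρ : Submodule K L) ⊔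
        (rootSpace H (ρ - b.baseSupp j) : Submodule K L) := LieSubmodule.sup_toSubmodule _ _
  have hnle : ¬ toLie W hH ≤ rootSpace H ρ ⊔ rootSpace H (ρ - b.baseSupp j) := by
    intro hle'
    have h2 : W ≤ ((rootSpace H ρ ⊔ rootSpace H (ρ - b.baseSupp j) : LieSubmodule K H L) :
      Submodule K L) := fun w hw => hle' hw
    have h3 := Submodule.finrank_mono h2
    rw [hW₂, finrank_W2 b ρ hρ htop j hj, hW] at h3
    omega
  obtain ⟨c, y, hc, hyW, hym, hyn, hye⟩ :=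
    exists_min_vector b ρ hρ htop (toLie W hH)
      (rootSpace H ρ ⊔ rootSpace H (ρ - b.baseSupp j)) hnle he
  have hy0 : y ≠ 0 := fun h0 => hyn (by rw [h0]; exact zero_mem _)
  have hex : ∃ i, ⁅b.e i, y⁆ ≠ 0 := by
    by_contra hcon
    simp only [not_exists, not_not] at hcon
    have h2 := hw_weight_eq b ρ hρ htop hym hy0 hcon
    rw [h2] at hym
    exact hyn (LieSubmodule.mem_sup_left hym)
  obtain ⟨i, hi⟩ := hex
  have hm1 : ⁅b.e i, y⁆ ∈ rootSpace H (⇑(b.baseSupp i) + (ρ - comb b c)) :=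
    lie_mem_add (e_mem b i) hym rfl
  rcases weight_of_mem_sup hm1 (hye i) hi with heq | heq
  · exfalso
    rw [aux_sub heq] at hym
    have hij : i = j :=
      (hN i).mp (apply_ne_zero_of_sub_ne_bot b ρ hρ htop i (ne_bot_of_mem hym hy0))
    rw [hij] at hym
    exact hyn (LieSubmodule.mem_sup_right hym)
  · rw [aux_sub2 heq] at hym
    have hnb := ne_bot_of_mem hym hy0
    have hij : i ≠ j := by
      intro hij'
      rw [hij'] at hnb
      have h2 := (sub_j_ne_bot b ρ hρ htop j hj).2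
      have e : ρ - ⇑(b.baseSupp j) - ⇑(b.baseSupp j) = ρ - 2 • (⇑(b.baseSupp j) : H → K) := by
        rw [two_nsmul]; abel
      rw [e] at hnb
      exact hnb h2
    have hγ0 : ρ - ⇑(b.baseSupp j) - ⇑(b.baseSupp i) ≠ 0 := by
      intro h0
      have h2 : ρ = ⇑(b.baseSupp i) + ⇑(b.baseSupp j) := by
        have h3 := sub_eq_zero.mp h0
        rw [sub_eq_iff_eq_add] at h3
        exact h3
      have e : ρ - ⇑(b.baseSupp i) = ⇑(b.baseSupp j) := by rw [h2]; abel
      have hne' : rootSpace H (ρ - b.baseSupp i) ≠ ⊥ := by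
        rw [e]; exact ne_bot_of_mem (e_mem b j) (b.sl2 j).e_ne_zero
      exact hij ((hN i).mp (apply_ne_zero_of_sub_ne_bot b ρ hρ htop i hne'))
    refine ⟨i, hij, A_ne_zero_of_ne_bot b ρ hρ htop j hN hj i hij hnb, hnb, hγ0, ?_⟩
    have hγle : (rootSpace H (ρ - b.baseSupp j - b.baseSupp i) : Submodule K L) ≤ W :=
      rootSpace_le_of_mem hγ0 hym hy0 hyW
    have hle3 : (rootSpace H ρ : Submodule K L) ⊔
        (rootSpace H (ρ - b.baseSupp j) : Submodule K L) ⊔
        (rootSpace H (ρ - b.baseSupp j - b.baseSupp i) : Submodule K L) ≤ W := sup_le hle hγle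
    symm
    apply Submodule.eq_of_le_of_finrank_le hle3
    have hlt : (rootSpace H ρ : Submodule K L) ⊔
        (rootSpace H (ρ - b.baseSupp j) : Submodule K L) <
        (rootSpace H ρ : Submodule K L) ⊔
        (rootSpace H (ρ - b.baseSupp j) : Submodule K L) ⊔
        (rootSpace H (ρ - b.baseSupp j - b.baseSupp i) : Submodule K L) := by
      refine lt_of_le_of_ne le_sup_left fun heq' => hyn ?_
      have h2 : y ∈ (rootSpace H ρ : Submodule K L) ⊔
          (rootSpace H (ρ - b.baseSupp j) : Submodule K L) := by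
        rw [heq']; exact Submodule.mem_sup_right hym
      rw [← hW₂] at h2
      exact h2
    have h3 := Submodule.finrank_lt_finrank_of_lt hlt
    rw [finrank_W2 b ρ hρ htop j hj] at h3
    rw [hW]; omega

end HW2

end Groth.Agent.Lib.Helper3.LieHW
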