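import Groth.Agent.Lib.Helper3.LieHW

set_option linter.unusedSectionVars false
set_option linter.unusedVariables false
set_option linter.unusedDecidableInType false

open LieAlgebra LieModule

namespace Groth.Agent.Lib.Helper3.LieQuad

open Groth.Agent.Lib.Helper3.LieHW

universe u v w

section Core

variable {K : Type v} [Field K] [CharZero K]

lemma two_zero {T : Type*} {ω ω' : T → K} (hne : ω ≠ ω') {s s' : K}
    (h : ∀ t, ∃ c : K, ω t * s = c * s ∧ ω' t * s' = c * s') : s = 0 ∨ s' = 0 := by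
  by_contra hcon
  simp only [not_or] at hcon
  obtain ⟨t, ht⟩ := Function.ne_iff.mp hne
  obtain ⟨c, h1, h2⟩ := h t
  exact ht ((mul_right_cancel₀ hcon.1 h1).trans (mul_right_cancel₀ hcon.2 h2).symm)

lemma add_self_ne {T : Type*} {χ ψ : T → K} (h : χ ≠ ψ) : χ + χ ≠ ψ + ψ := by
  intro h2
  apply h
  funext t
  have h3 := congrFun h2 t
  simp only [Pi.add_apply] at h3
  have h4 : 2 * χ t = 2 * ψ t := by rw [two_mul, two_mul]; exact h3
  exact mul_left_cancel₀ two_ne_zero h4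

variable {V : Type*} [AddCommGroup V] [Module K V] (q : QuadraticForm K V)

lemma single_eq {w : V} {a c : K} (hw : QuadraticMap.polar q (a • w) w = c * q w) :
    (a + a) * q w = c * q w := by
  rw [QuadraticMap.polar_smul_left, QuadraticMap.polar_self] at hw
  simp only [smul_eq_mul, nsmul_eq_mul, Nat.cast_ofNat] at hw
  linear_combination hw

lemma pair_eq {w1 w2 : V} {a a' c : K} (h1 : (a + a) * q w1 = c * q w1)
    (h2 : (a' + a') * q w2 = c * q w2)
    (h12 : QuadraticMap.polar q (a • w1 + a' • w2) (w1 + w2) = c * q (w1 + w2)) :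
    (a + a') * QuadraticMap.polar q w1 w2 = c * QuadraticMap.polar q w1 w2 := by
  rw [QuadraticMap.map_add (⇑q)] at h12
  simp only [QuadraticMap.polar_add_left, QuadraticMap.polar_add_right,
    QuadraticMap.polar_smul_left, QuadraticMap.polar_self, smul_eq_mul, nsmul_eq_mul,
    Nat.cast_ofNat] at h12
  rw [QuadraticMap.polar_comm (⇑q) w2 w1] at h12
  linear_combination h12 - h1 - h2

theorem quad_core {T : Type*} (bs : Module.Basis (Fin 3) K V)
    (ωu ωv ωz : T → K) (hne1 : ωu ≠ ωv) (hne2 : ωv ≠ ωz) (hne3 : ωu ≠ ωz)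
    (hne4 : ωu + ωz ≠ ωv + ωv)
    (D : T → V → V) (hDadd : ∀ t w w', D t (w + w') = D t w + D t w')
    (hDu : ∀ t, D t (bs 0) = ωu t • bs 0) (hDv : ∀ t, D t (bs 1) = ωv t • bs 1)
    (hDz : ∀ t, D t (bs 2) = ωz t • bs 2)
    (hD : ∀ t, ∃ c : K, ∀ w, QuadraticMap.polar q (D t w) w = c * q w)
    (Ej : V → V) (hEjadd : ∀ w w', Ej (w + w') = Ej w + Ej w') (μ : K) (hμ : μ ≠ 0)
    (hEjv : Ej (bs 1) = μ • bs 0) (hEjz : Ej (bs 2) = 0)
    (hEj : ∃ c : K, ∀ w, QuadraticMap.polar q (Ej w) w = c * q w)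
    (Ei : V → V) (ν : K) (hν : ν ≠ 0) (hEiz : Ei (bs 2) = ν • bs 1)
    (hEi : ∃ c : K, ∀ w, QuadraticMap.polar q (Ei w) w = c * q w) :
    ∃ (ℓ : Module.Dual K V) (c : K), ∀ w, q w = c * ℓ w ^ 2 := by
  have hA : ∀ t, ∃ c : K,
      (ωu t + ωu t) * q (bs 0) = c * q (bs 0) ∧ (ωv t + ωv t) * q (bs 1) = c * q (bs 1) ∧
      (ωz t + ωz t) * q (bs 2) = c * q (bs 2) ∧
      (ωu t + ωv t) * QuadraticMap.polar q (bs 0) (bs 1) =
        c * QuadraticMap.polar q (bs 0) (bs 1) ∧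
      (ωu t + ωz t) * QuadraticMap.polar q (bs 0) (bs 2) =
        c * QuadraticMap.polar q (bs 0) (bs 2) ∧
      (ωv t + ωz t) * QuadraticMap.polar q (bs 1) (bs 2) =
        c * QuadraticMap.polar q (bs 1) (bs 2) := by
    intro t
    obtain ⟨c, hc⟩ := hD t
    have e1 : (ωu t + ωu t) * q (bs 0) = c * q (bs 0) :=
      single_eq q (by rw [← hDu t]; exact hc _)
    have e2 : (ωv t + ωv t) * q (bs 1) = c * q (bs 1) :=
      single_eq q (by rw [← hDv t]; exact hc _)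
    have e3 : (ωz t + ωz t) * q (bs 2) = c * q (bs 2) :=
      single_eq q (by rw [← hDz t]; exact hc _)
    refine ⟨c, e1, e2, e3, pair_eq q e1 e2 ?_, pair_eq q e1 e3 ?_, pair_eq q e2 e3 ?_⟩
    · rw [← hDu t, ← hDv t, ← hDadd]; exact hc _
    · rw [← hDu t, ← hDz t, ← hDadd]; exact hc _
    · rw [← hDv t, ← hDz t, ← hDadd]; exact hc _
  obtain ⟨cj, hcj⟩ := hEj
  obtain ⟨ci, hci⟩ := hEi
  have E1 : μ * QuadraticMap.polar q (bs 0) (bs 1) = cj * q (bs 1) := by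
    have h := hcj (bs 1)
    rw [hEjv, QuadraticMap.polar_smul_left, smul_eq_mul] at h
    exact h
  have E2 : μ * (QuadraticMap.polar q (bs 0) (bs 1) + QuadraticMap.polar q (bs 0) (bs 2)) =
      cj * (q (bs 1) + q (bs 2) + QuadraticMap.polar q (bs 1) (bs 2)) := by
    have h := hcj (bs 1 + bs 2)
    rw [hEjadd, hEjv, hEjz, add_zero, QuadraticMap.polar_smul_left,
      QuadraticMap.polar_add_right, smul_eq_mul, QuadraticMap.map_add (⇑q)] at h
    exact h
  have E3 : ν * QuadraticMap.polar q (bs 1) (bs 2) = ci * q (bs 2) := by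
    have h := hci (bs 2)
    rw [hEiz, QuadraticMap.polar_smul_left, smul_eq_mul] at h
    exact h
  have hB12 : QuadraticMap.polar q (bs 0) (bs 1) = 0 := by
    by_contra hne
    have h2 : q (bs 1) = 0 :=
      (two_zero (ω := ωu + ωv) (ω' := ωv + ωv) (s := QuadraticMap.polar q (bs 0) (bs 1))
        (s' := q (bs 1)) (fun h => hne1 (add_right_cancel h)) (fun t => by
          obtain ⟨c, e1, e2, e3, e4, e5, e6⟩ := hA t; exact ⟨c, e4, e2⟩)).resolve_left hne
    rw [h2, mul_zero] at E1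
    exact hne ((mul_eq_zero.mp E1).resolve_left hμ)
  have hB23 : QuadraticMap.polar q (bs 1) (bs 2) = 0 := by
    by_contra hne
    have h3 : q (bs 2) = 0 :=
      (two_zero (ω := ωv + ωz) (ω' := ωz + ωz) (s := QuadraticMap.polar q (bs 1) (bs 2))
        (s' := q (bs 2)) (fun h => hne2 (add_right_cancel h)) (fun t => by
          obtain ⟨c, e1, e2, e3, e4, e5, e6⟩ := hA t; exact ⟨c, e6, e3⟩)).resolve_left hne
    rw [h3, mul_zero] at E3
    exact hne ((mul_eq_zero.mp E3).resolve_left hν)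
  have hB13 : QuadraticMap.polar q (bs 0) (bs 2) = 0 := by
    by_contra hne
    have h2 : q (bs 1) = 0 :=
      (two_zero (ω := ωu + ωz) (ω' := ωv + ωv) (s := QuadraticMap.polar q (bs 0) (bs 2))
        (s' := q (bs 1)) hne4 (fun t => by
          obtain ⟨c, e1, e2, e3, e4, e5, e6⟩ := hA t; exact ⟨c, e5, e2⟩)).resolve_left hne
    have h3 : q (bs 2) = 0 :=
      (two_zero (ω := ωu + ωz) (ω' := ωz + ωz) (s := QuadraticMap.polar q (bs 0) (bs 2))
        (s' := q (bs 2)) (fun h => hne3 (add_right_cancel h)) (fun t => by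
          obtain ⟨c, e1, e2, e3, e4, e5, e6⟩ := hA t; exact ⟨c, e5, e3⟩)).resolve_left hne
    rw [hB12, hB23, h2, h3] at E2
    simp only [zero_add, add_zero, mul_zero] at E2
    exact hne ((mul_eq_zero.mp E2).resolve_left hμ)
  have h12 : q (bs 0) = 0 ∨ q (bs 1) = 0 :=
    two_zero (ω := ωu + ωu) (ω' := ωv + ωv) (s := q (bs 0)) (s' := q (bs 1))
      (add_self_ne hne1) (fun t => by
        obtain ⟨c, e1, e2, e3, e4, e5, e6⟩ := hA t; exact ⟨c, e1, e2⟩)
  have h13 : q (bs 0) = 0 ∨ q (bs 2) = 0 :=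
    two_zero (ω := ωu + ωu) (ω' := ωz + ωz) (s := q (bs 0)) (s' := q (bs 2))
      (add_self_ne hne3) (fun t => by
        obtain ⟨c, e1, e2, e3, e4, e5, e6⟩ := hA t; exact ⟨c, e1, e3⟩)
  have h23 : q (bs 1) = 0 ∨ q (bs 2) = 0 :=
    two_zero (ω := ωv + ωv) (ω' := ωz + ωz) (s := q (bs 1)) (s' := q (bs 2))
      (add_self_ne hne2) (fun t => by
        obtain ⟨c, e1, e2, e3, e4, e5, e6⟩ := hA t; exact ⟨c, e2, e3⟩)
  have hexp : ∀ a1 a2 a3 : K, q (a1 • bs 0 + a2 • bs 1 + a3 • bs 2) =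
      a1 * a1 * q (bs 0) + a2 * a2 * q (bs 1) + a3 * a3 * q (bs 2) := by
    intro a1 a2 a3
    simp only [QuadraticMap.map_add (⇑q), QuadraticMap.map_smul, QuadraticMap.polar_add_left,
      QuadraticMap.polar_smul_left, QuadraticMap.polar_smul_right, hB12, hB13, hB23,
      smul_eq_mul, mul_zero, add_zero]
  have hform : ∀ w, q w = bs.repr w 0 * bs.repr w 0 * q (bs 0) +
      bs.repr w 1 * bs.repr w 1 * q (bs 1) + bs.repr w 2 * bs.repr w 2 * q (bs 2) := by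
    intro w
    have hw : bs.repr w 0 • bs 0 + bs.repr w 1 • bs 1 + bs.repr w 2 • bs 2 = w := by
      have := bs.sum_repr w
      rw [Fin.sum_univ_three] at this
      exact this
    calc q w = q (bs.repr w 0 • bs 0 + bs.repr w 1 • bs 1 + bs.repr w 2 • bs 2) := by rw [hw]
      _ = _ := hexp _ _ _
  by_cases h1 : q (bs 0) = 0
  · by_cases h2 : q (bs 1) = 0
    · exact ⟨bs.coord 2, q (bs 2), fun w => by
        rw [hform w, h1, h2, Module.Basis.coord_apply]; ring⟩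
    · have h3 : q (bs 2) = 0 := h23.resolve_left h2
      exact ⟨bs.coord 1, q (bs 1), fun w => by
        rw [hform w, h1, h3, Module.Basis.coord_apply]; ring⟩
  · have h2 : q (bs 1) = 0 := h12.resolve_left h1
    have h3 : q (bs 2) = 0 := h13.resolve_left h1
    exact ⟨bs.coord 0, q (bs 0), fun w => by
      rw [hform w, h2, h3, Module.Basis.coord_apply]; ring⟩

end Core

section Lie

variable {ι : Type u} {K : Type v} {L : Type w} [Fintype ι] [Field K] [CharZero K]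
    [IsAlgClosed K] [LieRing L] [LieAlgebra K L] [FiniteDimensional K L] [LieAlgebra.IsSimple K L]
    {H : LieSubalgebra K L} [H.IsCartanSubalgebra] (b : LieAlgebra.Basis ι H) (ρ : H → K)

theorem lie_e_beta (hρ : rootSpace H ρ ≠ ⊥)
    (htop : ∀ i, rootSpace H (ρ + b.baseSupp i) = ⊥) (j k : ι) (hkj : k ≠ j) {v : L}
    (hv : v ∈ rootSpace H (ρ - b.baseSupp j)) : ⁅b.e k, v⁆ = 0 := by
  classical
  have h1 : ⁅b.e k, v⁆ ∈ rootSpace H (⇑(b.baseSupp k) + (ρ - ⇑(b.baseSupp j))) :=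
    lie_mem_add (e_mem b k) hv rfl
  rw [rootSpace_eq_bot_of_neg b ρ hρ htop (Pi.single j 1 - Pi.single k 1) k
    (by simp [Pi.single_eq_of_ne hkj]) _ (by rw [comb_sub, comb_single, comb_single]; abel),
    LieSubmodule.mem_bot] at h1
  exact h1

theorem lie_e_gamma (hρ : rootSpace H ρ ≠ ⊥)
    (htop : ∀ i, rootSpace H (ρ + b.baseSupp i) = ⊥) (j : ι)
    (hN : ∀ i, ρ (b.h' i) ≠ 0 ↔ i = j) (i k : ι) (hij : i ≠ j) (hki : k ≠ i) {z : L}
    (hz : z ∈ rootSpace H (ρ - b.baseSupp j - b.baseSupp i)) : ⁅b.e k, z⁆ = 0 := by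
  classical
  by_cases hkj : k = j
  · rw [hkj]
    have h1 : ⁅b.e j, z⁆ ∈ rootSpace H (ρ - ⇑(b.baseSupp i)) :=
      lie_mem_add (e_mem b j) hz (by abel)
    have h0 : rootSpace H (ρ - ⇑(b.baseSupp i)) = ⊥ := by
      by_contra hne
      exact hij ((hN i).mp (apply_ne_zero_of_sub_ne_bot b ρ hρ htop i hne))
    rw [h0, LieSubmodule.mem_bot] at h1
    exact h1
  · have h1 : ⁅b.e k, z⁆ ∈
        rootSpace H (⇑(b.baseSupp k) + (ρ - ⇑(b.baseSupp j) - ⇑(b.baseSupp i))) :=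
      lie_mem_add (e_mem b k) hz rfl
    rw [rootSpace_eq_bot_of_neg b ρ hρ htop (Pi.single j 1 + Pi.single i 1 - Pi.single k 1) k
      (by simp [Pi.single_eq_of_ne hkj, Pi.single_eq_of_ne hki]) _ (by
        rw [comb_sub, comb_add, comb_single, comb_single, comb_single]; abel),
      LieSubmodule.mem_bot] at h1
    exact h1

theorem main_quad (hρ : rootSpace H ρ ≠ ⊥)
    (htop : ∀ i, rootSpace H (ρ + b.baseSupp i) = ⊥) (j : ι)
    (hN : ∀ i, ρ (b.h' i) ≠ 0 ↔ i = j) (hj : ρ (b.h' j) = 1)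
    (W : Submodule K L) (hW : Module.finrank K W = 3)
    (hst : ∀ x ∈ H.toSubmodule ⊔ (b.borelUpper : Submodule K L), ∀ w ∈ W, ⁅x, w⁆ ∈ W)
    (q : QuadraticForm K W)
    (hq : ∀ (x : L) (hx : x ∈ H.toSubmodule ⊔ (b.borelUpper : Submodule K L)), ∃ c : K, ∀ w : W,
      QuadraticMap.polar q ⟨⁅x, (w : L)⁆, hst x hx w w.property⟩ w = c * q w) :
    ∃ (ℓ : Module.Dual K W) (c : K), ∀ w : W, q w = c * ℓ w ^ 2 := by
  classical
  obtain ⟨hW2le, i, hij, hA, hγne, hγ0, hWeq⟩ := main3 b ρ hρ htop j hN hj W hW hst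
  have hρ0 := rho_ne_zero b ρ j hj
  have hβ0 := beta_ne_zero b ρ j hj
  have hβne := (sub_j_ne_bot b ρ hρ htop j hj).1
  obtain ⟨u, hu, hu0⟩ := exists_ne_zero_of_ne_bot hρ
  obtain ⟨v, hv, hv0⟩ := exists_ne_zero_of_ne_bot hβne
  obtain ⟨z, hz, hz0⟩ := exists_ne_zero_of_ne_bot hγne
  have huW : u ∈ W := hW2le (Submodule.mem_sup_left hu)
  have hvW : v ∈ W := hW2le (Submodule.mem_sup_right hv)
  have hzW : z ∈ W := by rw [hWeq]; exact Submodule.mem_sup_right hz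
  -- action of e_j
  have hejv : ⁅b.e j, v⁆ ∈ rootSpace H ρ := lie_mem_add (e_mem b j) hv (by abel)
  obtain ⟨μ, hμ⟩ := exists_smul_of_mem hρ0 hu hu0 hejv
  have hμ0 : μ ≠ 0 := by
    intro h0
    rw [h0, zero_smul] at hμ
    have h2 : ρ - ⇑(b.baseSupp j) = ρ := hw_weight_eq b ρ hρ htop hv hv0 (fun k => by
      by_cases hkj : k = j
      · rw [hkj]; exact hμ
      · exact lie_e_beta b ρ hρ htop j k hkj hv)
    exact baseSupp_ne_zero b j (sub_eq_self.mp h2)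
  have hejz : ⁅b.e j, z⁆ = 0 := lie_e_gamma b ρ hρ htop j hN i j hij (Ne.symm hij) hz
  -- action of e_i
  have heiz : ⁅b.e i, z⁆ ∈ rootSpace H (ρ - b.baseSupp j) :=
    lie_mem_add (e_mem b i) hz (by abel)
  obtain ⟨ν, hν⟩ := exists_smul_of_mem hβ0 hv hv0 heiz
  have hν0 : ν ≠ 0 := by
    intro h0
    rw [h0, zero_smul] at hν
    have h2 : ρ - ⇑(b.baseSupp j) - ⇑(b.baseSupp i) = ρ :=
      hw_weight_eq b ρ hρ htop hz hz0 (fun k => by
        by_cases hki : k = i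
        · rw [hki]; exact hν
        · exact lie_e_gamma b ρ hρ htop j hN i k hij hki hz)
    have h3 : ⇑(b.baseSupp j) + ⇑(b.baseSupp i) = (0 : H → K) := by
      rw [sub_sub] at h2; exact sub_eq_self.mp h2
    exact baseSupp_add_ne_zero b j i h3
  -- the weights are distinct
  have hne1 : ρ ≠ ρ - ⇑(b.baseSupp j) :=
    fun h => baseSupp_ne_zero b j (sub_eq_self.mp h.symm)
  have hne2 : ρ - ⇑(b.baseSupp j) ≠ ρ - ⇑(b.baseSupp j) - ⇑(b.baseSupp i) :=
    fun h => baseSupp_ne_zero b i (sub_eq_self.mp h.symm)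
  have hne3 : ρ ≠ ρ - ⇑(b.baseSupp j) - ⇑(b.baseSupp i) := by
    intro h
    rw [sub_sub] at h
    exact baseSupp_add_ne_zero b j i (sub_eq_self.mp h.symm)
  have hne4 : ρ + (ρ - ⇑(b.baseSupp j) - ⇑(b.baseSupp i)) ≠
      (ρ - ⇑(b.baseSupp j)) + (ρ - ⇑(b.baseSupp j)) := by
    intro h
    apply baseSupp_ne_of_ne b hij
    funext t
    have h2 := congrFun h t
    simp only [Pi.add_apply, Pi.sub_apply] at h2
    linear_combination -h2
  -- a basis of W
  have hspan : ⊤ ≤ Submodule.span K (Set.range ![(⟨u, huW⟩ : W), ⟨v, hvW⟩, ⟨z, hzW⟩]) := by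
    intro w _
    have hw : (w : L) ∈ (rootSpace H ρ : Submodule K L) ⊔
        (rootSpace H (ρ - b.baseSupp j) : Submodule K L) ⊔
        (rootSpace H (ρ - b.baseSupp j - b.baseSupp i) : Submodule K L) := by
      rw [← hWeq]; exact w.2
    obtain ⟨y12, hy12, y3, hy3, hsum⟩ := Submodule.mem_sup.mp hw
    obtain ⟨y1, hy1, y2, hy2, rfl⟩ := Submodule.mem_sup.mp hy12
    obtain ⟨a1, rfl⟩ := exists_smul_of_mem hρ0 hu hu0 hy1
    obtain ⟨a2, rfl⟩ := exists_smul_of_mem hβ0 hv hv0 hy2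
    obtain ⟨a3, rfl⟩ := exists_smul_of_mem hγ0 hz hz0 hy3
    have hw' : w = a1 • (⟨u, huW⟩ : W) + a2 • (⟨v, hvW⟩ : W) + a3 • (⟨z, hzW⟩ : W) :=
      Subtype.ext hsum.symm
    rw [hw']
    exact add_mem (add_mem (Submodule.smul_mem _ _ (Submodule.subset_span ⟨0, rfl⟩))
      (Submodule.smul_mem _ _ (Submodule.subset_span ⟨1, rfl⟩)))
      (Submodule.smul_mem _ _ (Submodule.subset_span ⟨2, rfl⟩))
  obtain ⟨bs, hbs⟩ : ∃ bs : Module.Basis (Fin 3) K W,
      ⇑bs = ![(⟨u, huW⟩ : W), ⟨v, hvW⟩, ⟨z, hzW⟩] :=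
    ⟨basisOfTopLeSpanOfCardEqFinrank _ hspan (by rw [hW]; simp),
      coe_basisOfTopLeSpanOfCardEqFinrank _ _ _⟩
  have hb0 : bs 0 = ⟨u, huW⟩ := by rw [hbs]; rfl
  have hb1 : bs 1 = ⟨v, hvW⟩ := by rw [hbs]; rfl
  have hb2 : bs 2 = ⟨z, hzW⟩ := by rw [hbs]; rfl
  exact quad_core q bs ρ (ρ - ⇑(b.baseSupp j)) (ρ - ⇑(b.baseSupp j) - ⇑(b.baseSupp i))
    hne1 hne2 hne3 hne4
    (fun (t : H) (w : W) =>
      (⟨⁅(t : L), (w : L)⁆, hst _ (Submodule.mem_sup_left t.2) w w.2⟩ : W))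
    (fun t w w' => Subtype.ext (lie_add _ _ _))
    (fun t => by
      rw [hb0]; exact Subtype.ext (LieAlgebra.IsKilling.lie_eq_smul_of_mem_rootSpace hu t))
    (fun t => by
      rw [hb1]; exact Subtype.ext (LieAlgebra.IsKilling.lie_eq_smul_of_mem_rootSpace hv t))
    (fun t => by
      rw [hb2]; exact Subtype.ext (LieAlgebra.IsKilling.lie_eq_smul_of_mem_rootSpace hz t))
    (fun t => hq (t : L) (Submodule.mem_sup_left t.2))
    (fun (w : W) =>
      (⟨⁅b.e j, (w : L)⁆, hst _ (Submodule.mem_sup_right (e_mem_borel b j)) w w.2⟩ : W))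
    (fun w w' => Subtype.ext (lie_add _ _ _)) μ hμ0
    (by rw [hb1, hb0]; exact Subtype.ext hμ) (by rw [hb2]; exact Subtype.ext hejz)
    (hq (b.e j) (Submodule.mem_sup_right (e_mem_borel b j)))
    (fun (w : W) =>
      (⟨⁅b.e i, (w : L)⁆, hst _ (Submodule.mem_sup_right (e_mem_borel b i)) w w.2⟩ : W))
    ν hν0 (by rw [hb2, hb1]; exact Subtype.ext hν)
    (hq (b.e i) (Submodule.mem_sup_right (e_mem_borel b i)))

end Lie

end Groth.Agent.Lib.Helper3.LieQuad
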