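import Groth.Agent.Lib.Helper3.LieHW

set_option linter.unusedSectionVars false
set_option linter.unusedVariables false
set_option linter.unusedDecidableInType false

open LieAlgebra LieModule

namespace Groth.Agent.Lib.Helper3.LieRad

open Groth.Agent.Lib.Helper3.LieHW

universe u v w

section Core

variable {K : Type*} {A' : Type*} [Field K] [CharZero K] [LieRing A'] [LieAlgebra K A']
  [FiniteDimensional K A']

theorem rad_core (e f h v g : A')
    (hspan : ∀ x : A', ∃ a1 a2 a3 a4 a5 : K, x = a1 • e + a2 • f + a3 • h + a4 • v + a5 • g)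
    (hli : ∀ a1 a2 a3 a4 a5 : K, a1 • e + a2 • f + a3 • h + a4 • v + a5 • g = 0 →
      a1 = 0 ∧ a2 = 0 ∧ a3 = 0 ∧ a4 = 0 ∧ a5 = 0)
    (hhe : ⁅h, e⁆ = (2 : K) • e) (hhf : ⁅h, f⁆ = -((2 : K) • f)) (hhv : ⁅h, v⁆ = v)
    (hhg : ⁅h, g⁆ = -g) (hef : ⁅e, f⁆ = h) (hev : ⁅e, v⁆ = 0) (heg : ⁅e, g⁆ = v)
    (hfv : ⁅f, v⁆ = g) (hfg : ⁅f, g⁆ = 0) (hvg : ⁅v, g⁆ = 0) :
    Module.finrank K A' = 5 ∧
      (LieAlgebra.radical K A').toSubmodule = Submodule.span K {v, g} ∧
      Module.finrank K (LieAlgebra.radical K A') = 2 := by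
  have heh : ⁅e, h⁆ = -((2 : K) • e) := by rw [← lie_skew, hhe]
  have hfe : ⁅f, e⁆ = -h := by rw [← lie_skew, hef]
  have hfh : ⁅f, h⁆ = (2 : K) • f := by rw [← lie_skew, hhf, neg_neg]
  have hve : ⁅v, e⁆ = 0 := by rw [← lie_skew, hev, neg_zero]
  have hge : ⁅g, e⁆ = -v := by rw [← lie_skew, heg]
  have hvf : ⁅v, f⁆ = -g := by rw [← lie_skew, hfv]
  have hgf : ⁅g, f⁆ = 0 := by rw [← lie_skew, hfg, neg_zero]
  have hvh : ⁅v, h⁆ = -v := by rw [← lie_skew, hhv]
  have hgh : ⁅g, h⁆ = g := by rw [← lie_skew, hhg, neg_neg]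
  have hgv : ⁅g, v⁆ = 0 := by rw [← lie_skew, hvg, neg_zero]
  have he0 : e ≠ 0 := by
    intro h0
    have := hli 1 0 0 0 0 (by simp [h0])
    exact one_ne_zero this.1
  -- the ideal R
  have hR : ∀ (x r : A'), r ∈ Submodule.span K {v, g} → ⁅x, r⁆ ∈ Submodule.span K {v, g} := by
    intro x r hr
    obtain ⟨a1, a2, a3, a4, a5, rfl⟩ := hspan x
    obtain ⟨c1, c2, rfl⟩ := Submodule.mem_span_pair.mp hr
    refine Submodule.mem_span_pair.mpr ⟨a1 * c2 + a3 * c1, a2 * c1 - a3 * c2, ?_⟩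
    simp only [add_lie, smul_lie, lie_add, lie_smul, hev, heg, hfv, hfg, hhv, hhg, lie_self,
      hvg, hgv]
    module
  let R : LieIdeal K A' :=
    { Submodule.span K {v, g} with lie_mem := fun {x r} hr => hR x r hr }
  have hRsolv : LieAlgebra.IsSolvable R := by
    have h1 : LieAlgebra.derivedSeriesOfIdeal K A' 1 R = ⊥ := by
      rw [LieAlgebra.derivedSeriesOfIdeal_succ, LieAlgebra.derivedSeriesOfIdeal_zero,
        LieSubmodule.lie_eq_bot_iff]
      intro x hx m hm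
      have hx' : x ∈ Submodule.span K {v, g} := hx
      have hm' : m ∈ Submodule.span K {v, g} := hm
      obtain ⟨c1, c2, rfl⟩ := Submodule.mem_span_pair.mp hx'
      obtain ⟨d1, d2, rfl⟩ := Submodule.mem_span_pair.mp hm'
      simp only [add_lie, smul_lie, lie_add, lie_smul, lie_self, hvg, hgv, smul_zero, add_zero]
    exact LieAlgebra.IsSolvable.mk (R := K) ((LieIdeal.derivedSeries_eq_bot_iff R 1).mpr h1)
  -- solvable ideals are contained in R
  have key : ∀ I : LieIdeal K A', LieAlgebra.IsSolvable I →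
      ∀ x ∈ I, x ∈ Submodule.span K {v, g} := by
    intro I hI
    obtain ⟨k, hk⟩ := LieAlgebra.IsSolvable.solvable K I
    rw [LieIdeal.derivedSeries_eq_bot_iff] at hk
    have hD : e ∈ I → f ∈ I → h ∈ I → ∀ n, e ∈ LieAlgebra.derivedSeriesOfIdeal K A' n I ∧
        f ∈ LieAlgebra.derivedSeriesOfIdeal K A' n I ∧
        h ∈ LieAlgebra.derivedSeriesOfIdeal K A' n I := by
      intro h1 h2 h3 n
      induction n with
      | zero => exact ⟨h1, h2, h3⟩
      | succ n ih =>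
        obtain ⟨i1, i2, i3⟩ := ih
        rw [LieAlgebra.derivedSeriesOfIdeal_succ]
        generalize LieAlgebra.derivedSeriesOfIdeal K A' n I = J at i1 i2 i3 ⊢
        have hh' : h ∈ ⁅J, J⁆ := by rw [← hef]; exact LieSubmodule.lie_mem_lie i1 i2
        have he' : (2 : K) • e ∈ ⁅J, J⁆ := by rw [← hhe]; exact LieSubmodule.lie_mem_lie i3 i1
        have hf' : -((2 : K) • f) ∈ ⁅J, J⁆ := by rw [← hhf]; exact LieSubmodule.lie_mem_lie i3 i2
        refine ⟨?_, ?_, hh'⟩
        · have := SMulMemClass.smul_mem ((2 : K)⁻¹) he'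
          rwa [smul_smul, inv_mul_cancel₀ two_ne_zero, one_smul] at this
        · have := SMulMemClass.smul_mem (-(2 : K)⁻¹) hf'
          have e1 : (-(2 : K)⁻¹) • -((2 : K) • f) = f := by
            rw [smul_neg, neg_smul, neg_neg, smul_smul, inv_mul_cancel₀ two_ne_zero, one_smul]
          rwa [e1] at this
    have hne_e : e ∉ I := by
      intro h1
      have h3 : h ∈ I := by rw [← hef]; exact lie_mem_left K A' I e f h1
      have h2' : -((2 : K) • f) ∈ I := by rw [← hhf]; exact lie_mem_left K A' I h f h3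
      have h2 : f ∈ I := by
        have := SMulMemClass.smul_mem (-(2 : K)⁻¹) h2'
        have e1 : (-(2 : K)⁻¹) • -((2 : K) • f) = f := by
          rw [smul_neg, neg_smul, neg_neg, smul_smul, inv_mul_cancel₀ two_ne_zero, one_smul]
        rwa [e1] at this
      have := (hD h1 h2 h3 k).1
      rw [hk, LieSubmodule.mem_bot] at this
      exact he0 this
    have hne_f : f ∉ I := by
      intro h2
      have h3 : h ∈ I := by rw [← hef]; exact lie_mem_right K A' I e f h2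
      have h1' : (2 : K) • e ∈ I := by rw [← hhe]; exact lie_mem_left K A' I h e h3
      have h1 : e ∈ I := by
        have := SMulMemClass.smul_mem ((2 : K)⁻¹) h1'
        rwa [smul_smul, inv_mul_cancel₀ two_ne_zero, one_smul] at this
      exact hne_e h1
    intro x hx
    obtain ⟨a1, a2, a3, a4, a5, hxe⟩ := hspan x
    have hex : ⁅e, x⁆ = a2 • h + (-2 * a3) • e + a5 • v := by
      rw [hxe]; simp only [lie_add, lie_smul, lie_self, hef, heh, hev, heg]; module
    have hfx : ⁅f, x⁆ = (-a1) • h + (2 * a3) • f + a4 • g := by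
      rw [hxe]; simp only [lie_add, lie_smul, lie_self, hfe, hfh, hfv, hfg]; module
    have ha2 : a2 = 0 := by
      by_contra hne
      have h1 : ⁅e, ⁅e, x⁆⁆ ∈ I := lie_mem_right K A' I e _ (lie_mem_right K A' I e x hx)
      have h2 : ⁅e, ⁅e, x⁆⁆ = (-2 * a2) • e := by
        rw [hex]; simp only [lie_add, lie_smul, lie_self, heh, hev]; module
      rw [h2] at h1
      have := SMulMemClass.smul_mem ((-2 * a2)⁻¹) h1
      rw [smul_smul, inv_mul_cancel₀ (mul_ne_zero (by norm_num) hne), one_smul] at this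
      exact hne_e this
    have ha1 : a1 = 0 := by
      by_contra hne
      have h1 : ⁅f, ⁅f, x⁆⁆ ∈ I := lie_mem_right K A' I f _ (lie_mem_right K A' I f x hx)
      have h2 : ⁅f, ⁅f, x⁆⁆ = (-2 * a1) • f := by
        rw [hfx]; simp only [lie_add, lie_smul, lie_self, hfh, hfg]; module
      rw [h2] at h1
      have := SMulMemClass.smul_mem ((-2 * a1)⁻¹) h1
      rw [smul_smul, inv_mul_cancel₀ (mul_ne_zero (by norm_num) hne), one_smul] at this
      exact hne_f this
    have ha3 : a3 = 0 := by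
      by_contra hne
      have h1 : ⁅e, x⁆ ∈ I := lie_mem_right K A' I e x hx
      have h2 : ⁅h, ⁅e, x⁆⁆ ∈ I := lie_mem_right K A' I h _ h1
      have h3 : ⁅h, ⁅e, x⁆⁆ - ⁅e, x⁆ = (-2 * a3) • e := by
        rw [hex, ha2]; simp only [lie_add, lie_smul, lie_self, hhe, hhv]; module
      have h4 : (-2 * a3) • e ∈ I := by rw [← h3]; exact sub_mem h2 h1
      have := SMulMemClass.smul_mem ((-2 * a3)⁻¹) h4
      rw [smul_smul, inv_mul_cancel₀ (mul_ne_zero (by norm_num) hne), one_smul] at this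
      exact hne_e this
    rw [hxe, ha1, ha2, ha3]
    simp only [zero_smul, zero_add]
    exact Submodule.mem_span_pair.mpr ⟨a4, a5, rfl⟩
  have hrad : LieAlgebra.radical K A' = R := by
    apply le_antisymm
    · intro x hx
      exact key _ (LieAlgebra.radicalIsSolvable K A') x hx
    · show R ≤ sSup {I : LieIdeal K A' | LieAlgebra.IsSolvable I}
      exact le_sSup hRsolv
  have hfin : Module.finrank K A' = 5 := by
    have hli' : LinearIndependent K ![e, f, h, v, g] := by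
      rw [Fintype.linearIndependent_iff]
      intro c hc
      rw [Fin.sum_univ_five] at hc
      obtain ⟨h1, h2, h3, h4, h5⟩ := hli (c 0) (c 1) (c 2) (c 3) (c 4) hc
      intro i
      fin_cases i <;> simp [h1, h2, h3, h4, h5]
    have hsp : ⊤ ≤ Submodule.span K (Set.range ![e, f, h, v, g]) := by
      intro x _
      obtain ⟨a1, a2, a3, a4, a5, rfl⟩ := hspan x
      exact add_mem (add_mem (add_mem (add_mem
        (Submodule.smul_mem _ _ (Submodule.subset_span ⟨0, rfl⟩))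
        (Submodule.smul_mem _ _ (Submodule.subset_span ⟨1, rfl⟩)))
        (Submodule.smul_mem _ _ (Submodule.subset_span ⟨2, rfl⟩)))
        (Submodule.smul_mem _ _ (Submodule.subset_span ⟨3, rfl⟩)))
        (Submodule.smul_mem _ _ (Submodule.subset_span ⟨4, rfl⟩))
    have := Module.finrank_eq_card_basis (Module.Basis.mk hli' hsp)
    simpa using this
  have hfin2 : Module.finrank K (Submodule.span K {v, g}) = 2 := by
    have hli2 : LinearIndependent K ![v, g] := by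
      rw [LinearIndependent.pair_iff]
      intro s t hst
      have := hli 0 0 0 s t (by simpa using hst)
      exact ⟨this.2.2.2.1, this.2.2.2.2⟩
    have h1 := finrank_span_eq_card hli2
    have h2 : Set.range ![v, g] = {v, g} := by
      ext z
      constructor
      · rintro ⟨i, rfl⟩
        fin_cases i <;> simp
      · rintro (rfl | rfl)
        exacts [⟨0, rfl⟩, ⟨1, rfl⟩]
    rw [h2] at h1
    simpa using h1
  refine ⟨hfin, ?_, ?_⟩
  · rw [hrad]
  · rw [hrad]
    exact hfin2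

end Core

section Lie

variable {ι : Type u} {K : Type v} {L : Type w} [Fintype ι] [Field K] [CharZero K]
    [IsAlgClosed K] [LieRing L] [LieAlgebra K L] [FiniteDimensional K L] [LieAlgebra.IsSimple K L]
    {H : LieSubalgebra K L} [H.IsCartanSubalgebra] (b : LieAlgebra.Basis ι H) (ρ : H → K)

lemma neg_ne_bot {χ : H → K} (h : rootSpace H χ ≠ ⊥) : rootSpace H (-χ) ≠ ⊥ := by
  obtain ⟨α, hα⟩ := exists_weight h
  have := (-α).genWeightSpace_ne_bot
  rw [LieModule.Weight.coe_neg, hα] at this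
  exact this

theorem rootSpace_rho_add_beta (hρ : rootSpace H ρ ≠ ⊥)
    (htop : ∀ i, rootSpace H (ρ + b.baseSupp i) = ⊥) (j : ι) (hj : ρ (b.h' j) = 1) :
    rootSpace H (ρ + (ρ - ⇑(b.baseSupp j))) = ⊥ := by
  classical
  have hαne : rootSpace H (b.baseSupp j) ≠ ⊥ := ne_bot_of_mem (e_mem b j) (b.sl2 j).e_ne_zero
  obtain ⟨c, hc, hce⟩ := below_of_ne_bot b ρ hρ htop hαne
  have hc0 : c ≠ 0 := by
    intro h0
    rw [h0, comb_zero, sub_zero] at hce
    have := congrFun hce (b.h' j)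
    rw [apply_hj, hj] at this
    norm_num at this
  obtain ⟨k, hk⟩ : ∃ k, c k ≠ 0 := by
    by_contra hcon
    simp only [not_exists, not_not] at hcon
    exact hc0 (funext hcon)
  have hk' : 0 < c k := lt_of_le_of_ne (hc k) (Ne.symm hk)
  apply rootSpace_eq_bot_of_neg b ρ hρ htop (0 - c) k (by simpa using hk')
  rw [comb_sub, comb_zero, hce]
  abel

theorem rootSpace_neg_rho_sub (htop : ∀ i, rootSpace H (ρ + b.baseSupp i) = ⊥) (j : ι) :
    rootSpace H (-ρ + -⇑(b.baseSupp j)) = ⊥ := by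
  by_contra hne
  have h1 := neg_ne_bot hne
  have e1 : -(-ρ + -⇑(b.baseSupp j)) = ρ + ⇑(b.baseSupp j) := by abel
  rw [e1] at h1
  exact h1 (htop j)

theorem beta_coroot (hρ : rootSpace H ρ ≠ ⊥)
    (htop : ∀ i, rootSpace H (ρ + b.baseSupp i) = ⊥) (j : ι) (hj : ρ (b.h' j) = 1)
    (ρw : Weight K H L) (hρw : (⇑ρw : H → K) = ρ) (hnz : ρw.IsNonZero) :
    (ρ - ⇑(b.baseSupp j)) (LieAlgebra.IsKilling.coroot ρw) = 1 := by
  have hβne := (sub_j_ne_bot b ρ hρ htop j hj).1
  obtain ⟨βw, hβw⟩ := exists_weight hβne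
  have key := fun n : ℤ => LieAlgebra.IsKilling.rootSpace_zsmul_add_ne_bot_iff ρw βw hnz n
  have hval := LieAlgebra.IsKilling.apply_coroot_eq_cast ρw βw
  obtain ⟨t, ht_def⟩ : ∃ t : ℕ, t = chainTopCoeff (⇑ρw) βw := ⟨_, rfl⟩
  obtain ⟨q, hq_def⟩ : ∃ q : ℕ, q = chainBotCoeff (⇑ρw) βw := ⟨_, rfl⟩
  rw [← ht_def, ← hq_def] at hval
  simp only [← ht_def, ← hq_def] at key
  rw [hρw, hβw] at key
  have e1 : rootSpace H ((1 : ℤ) • ρ + (ρ - ⇑(b.baseSupp j))) = ⊥ := by
    rw [one_smul]; exact rootSpace_rho_add_beta b ρ hρ htop j hj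
  have ht0 : t = 0 := by
    by_contra hne
    exact (key 1).mpr ⟨by omega, by omega⟩ e1
  have e2 : (-1 : ℤ) • ρ + (ρ - ⇑(b.baseSupp j)) = -⇑(b.baseSupp j) := by
    rw [neg_one_smul]; abel
  have h2 := (key (-1)).mp (by
    rw [e2]; exact ne_bot_of_mem (f_mem b j) (b.sl2 j).f_ne_zero)
  have e3 : (-2 : ℤ) • ρ + (ρ - ⇑(b.baseSupp j)) = -ρ + -⇑(b.baseSupp j) := by
    rw [neg_smul, two_smul]; abel
  have h3 : ¬ ((-2 : ℤ) ≤ t ∧ -(-2 : ℤ) ≤ q) := by
    intro h
    have := (key (-2)).mpr h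
    rw [e3] at this
    exact this (rootSpace_neg_rho_sub b ρ htop j)
  have hq1 : q = 1 := by omega
  have hβv : (ρ - ⇑(b.baseSupp j)) (LieAlgebra.IsKilling.coroot ρw) =
      βw (LieAlgebra.IsKilling.coroot ρw) := (congrFun hβw _).symm
  rw [hβv, hval, hq1, ht0]
  simp

theorem main_rad (hρ : rootSpace H ρ ≠ ⊥)
    (htop : ∀ i, rootSpace H (ρ + b.baseSupp i) = ⊥) (j : ι) (hj : ρ (b.h' j) = 1)
    (A : LieSubalgebra K L)
    (hA : A = LieSubalgebra.lieSpan K L
      ((rootSpace H ρ : Set L) ∪ (rootSpace H (-ρ) : Set L) ∪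
        (rootSpace H (ρ - b.baseSupp j) : Set L))) :
    Module.finrank K A = 5 ∧ Module.finrank K (LieAlgebra.radical K A) = 2 ∧
      (LieAlgebra.radical K A).toSubmodule.map (A.incl : A →ₗ⁅K⁆ L).toLinearMap =
        (rootSpace H (ρ - b.baseSupp j) : Submodule K L) ⊔
          (rootSpace H (-b.baseSupp j) : Submodule K L) := by
  classical
  have hρ0 := rho_ne_zero b ρ j hj
  have hβ0 := beta_ne_zero b ρ j hj
  have hβne := (sub_j_ne_bot b ρ hρ htop j hj).1
  obtain ⟨ρw, hρw⟩ := exists_weight hρ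
  have hnz : ρw.IsNonZero := by
    intro h0
    apply hρ0
    rw [← hρw]
    exact h0
  obtain ⟨h, e, f, hsl, he, hf⟩ :=
    LieAlgebra.IsKilling.exists_isSl2Triple_of_weight_isNonZero hnz
  have hh : h = (LieAlgebra.IsKilling.coroot ρw : L) := hsl.h_eq_coroot hnz he hf
  rw [hρw] at he
  rw [hρw] at hf
  obtain ⟨v, hv, hv0⟩ := exists_ne_zero_of_ne_bot hβne
  have hg : ⁅f, v⁆ ∈ rootSpace H (-⇑(b.baseSupp j)) := lie_mem_add hf hv (by abel)
  -- relations
  have hhe : ⁅h, e⁆ = (2 : K) • e := by rw [hsl.lie_h_e_nsmul, two_nsmul, two_smul]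
  have hhf : ⁅h, f⁆ = -((2 : K) • f) := by rw [hsl.lie_h_f_nsmul, two_nsmul, two_smul]
  have hef : ⁅e, f⁆ = h := hsl.lie_e_f
  have hev : ⁅e, v⁆ = 0 := by
    have h1 : ⁅e, v⁆ ∈ rootSpace H (ρ + (ρ - ⇑(b.baseSupp j))) := lie_mem_add he hv rfl
    rw [rootSpace_rho_add_beta b ρ hρ htop j hj, LieSubmodule.mem_bot] at h1
    exact h1
  have hβc := beta_coroot b ρ hρ htop j hj ρw hρw hnz
  have hρc : ρ (LieAlgebra.IsKilling.coroot ρw) = 2 := by
    rw [← hρw]; exact LieAlgebra.IsKilling.root_apply_coroot hnz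
  have hhv : ⁅h, v⁆ = v := by
    have h1 := LieAlgebra.IsKilling.lie_eq_smul_of_mem_rootSpace hv (LieAlgebra.IsKilling.coroot ρw)
    rw [hβc, one_smul] at h1
    rw [hh]; exact h1
  have hhg : ⁅h, ⁅f, v⁆⁆ = -⁅f, v⁆ := by
    have h1 := LieAlgebra.IsKilling.lie_eq_smul_of_mem_rootSpace hg (LieAlgebra.IsKilling.coroot ρw)
    have h2 : (-⇑(b.baseSupp j) : H → K) (LieAlgebra.IsKilling.coroot ρw) = -1 := by
      have h3 := hβc
      rw [Pi.sub_apply, hρc] at h3
      rw [Pi.neg_apply]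
      linear_combination h3
    rw [h2, neg_one_smul] at h1
    rw [hh]; exact h1
  have heg : ⁅e, ⁅f, v⁆⁆ = v := by
    rw [leibniz_lie, hef, hev, lie_zero, add_zero]; exact hhv
  have hfg : ⁅f, ⁅f, v⁆⁆ = 0 := by
    have h1 : ⁅f, ⁅f, v⁆⁆ ∈ rootSpace H (-ρ + -⇑(b.baseSupp j)) := lie_mem_add hf hg rfl
    rw [rootSpace_neg_rho_sub b ρ htop j, LieSubmodule.mem_bot] at h1
    exact h1
  have hvg : ⁅v, ⁅f, v⁆⁆ = 0 := by
    have h1 : ⁅v, ⁅f, v⁆⁆ ∈ rootSpace H (ρ - 2 • (⇑(b.baseSupp j) : H → K)) :=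
      lie_mem_add hv hg (by rw [two_nsmul]; abel)
    rw [(sub_j_ne_bot b ρ hρ htop j hj).2, LieSubmodule.mem_bot] at h1
    exact h1
  have hg0 : ⁅f, v⁆ ≠ 0 := by
    intro h0
    rw [h0, lie_zero] at heg
    exact hv0 heg.symm
  -- linear independence
  have hli : LinearIndependent K ![e, f, h, v, ⁅f, v⁆] := by
    apply Module.End.eigenvectors_linearIndependent' (LieAlgebra.ad K L h) ![(2 : K), -2, 0, 1, -1]
    · intro i i' hii
      fin_cases i <;> fin_cases i' <;> first | rfl | (exfalso; norm_num at hii)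
    · intro i
      fin_cases i
      · show (LieAlgebra.ad K L h).HasEigenvector (2 : K) e
        exact Module.End.hasEigenvector_iff.mpr ⟨Module.End.mem_eigenspace_iff.mpr hhe, hsl.e_ne_zero⟩
      · show (LieAlgebra.ad K L h).HasEigenvector (-2 : K) f
        exact Module.End.hasEigenvector_iff.mpr
          ⟨Module.End.mem_eigenspace_iff.mpr (by rw [neg_smul]; exact hhf), hsl.f_ne_zero⟩
      · show (LieAlgebra.ad K L h).HasEigenvector (0 : K) h
        exact Module.End.hasEigenvector_iff.mpr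
          ⟨Module.End.mem_eigenspace_iff.mpr (by rw [zero_smul]; exact lie_self h), hsl.h_ne_zero⟩
      · show (LieAlgebra.ad K L h).HasEigenvector (1 : K) v
        exact Module.End.hasEigenvector_iff.mpr
          ⟨Module.End.mem_eigenspace_iff.mpr (by rw [one_smul]; exact hhv), hv0⟩
      · show (LieAlgebra.ad K L h).HasEigenvector (-1 : K) ⁅f, v⁆
        exact Module.End.hasEigenvector_iff.mpr
          ⟨Module.End.mem_eigenspace_iff.mpr (by rw [neg_one_smul]; exact hhg), hg0⟩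
  -- the span
  have hmemS : ∀ x : L, x ∈ Submodule.span K (Set.range ![e, f, h, v, ⁅f, v⁆]) ↔
      ∃ a1 a2 a3 a4 a5 : K, x = a1 • e + a2 • f + a3 • h + a4 • v + a5 • ⁅f, v⁆ := by
    intro x
    rw [Submodule.mem_span_range_iff_exists_fun]
    constructor
    · rintro ⟨c, rfl⟩
      exact ⟨c 0, c 1, c 2, c 3, c 4, by rw [Fin.sum_univ_five]; rfl⟩
    · rintro ⟨a1, a2, a3, a4, a5, rfl⟩
      exact ⟨![a1, a2, a3, a4, a5], by rw [Fin.sum_univ_five]; rfl⟩
  have heS : e ∈ Submodule.span K (Set.range ![e, f, h, v, ⁅f, v⁆]) :=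
    Submodule.subset_span ⟨0, rfl⟩
  have hfS : f ∈ Submodule.span K (Set.range ![e, f, h, v, ⁅f, v⁆]) :=
    Submodule.subset_span ⟨1, rfl⟩
  have hhS : h ∈ Submodule.span K (Set.range ![e, f, h, v, ⁅f, v⁆]) :=
    Submodule.subset_span ⟨2, rfl⟩
  have hvS : v ∈ Submodule.span K (Set.range ![e, f, h, v, ⁅f, v⁆]) :=
    Submodule.subset_span ⟨3, rfl⟩
  have hgS : ⁅f, v⁆ ∈ Submodule.span K (Set.range ![e, f, h, v, ⁅f, v⁆]) :=
    Submodule.subset_span ⟨4, rfl⟩
  have heh : ⁅e, h⁆ = -((2 : K) • e) := by rw [← lie_skew, hhe]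
  have hfe : ⁅f, e⁆ = -h := by rw [← lie_skew, hef]
  have hfh : ⁅f, h⁆ = (2 : K) • f := by rw [← lie_skew, hhf, neg_neg]
  have hve : ⁅v, e⁆ = 0 := by rw [← lie_skew, hev, neg_zero]
  have hge : ⁅⁅f, v⁆, e⁆ = -v := by rw [← lie_skew, heg]
  have hvf : ⁅v, f⁆ = -⁅f, v⁆ := by rw [← lie_skew]
  have hgf : ⁅⁅f, v⁆, f⁆ = 0 := by rw [← lie_skew, hfg, neg_zero]
  have hvh : ⁅v, h⁆ = -v := by rw [← lie_skew, hhv]
  have hgh : ⁅⁅f, v⁆, h⁆ = ⁅f, v⁆ := by rw [← lie_skew, hhg, neg_neg]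
  have hgv : ⁅⁅f, v⁆, v⁆ = 0 := by rw [← lie_skew, hvg, neg_zero]
  have hclos : ∀ x ∈ Submodule.span K (Set.range ![e, f, h, v, ⁅f, v⁆]),
      ∀ y ∈ Submodule.span K (Set.range ![e, f, h, v, ⁅f, v⁆]),
      ⁅x, y⁆ ∈ Submodule.span K (Set.range ![e, f, h, v, ⁅f, v⁆]) := by
    intro x hx y hy
    obtain ⟨a1, a2, a3, a4, a5, rfl⟩ := (hmemS x).mp hx
    obtain ⟨b1, b2, b3, b4, b5, rfl⟩ := (hmemS y).mp hy
    rw [hmemS]
    refine ⟨2 * (a3 * b1 - a1 * b3), 2 * (a2 * b3 - a3 * b2), a1 * b2 - a2 * b1,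
      a1 * b5 - a5 * b1 + a3 * b4 - a4 * b3, a2 * b4 - a4 * b2 - a3 * b5 + a5 * b3, ?_⟩
    generalize hgdef : ⁅f, v⁆ = g at *
    simp only [add_lie, smul_lie, lie_add, lie_smul, lie_self, hhe, hhf, hhv, hhg, hef, hev,
      heg, hgdef, hfg, hvg, heh, hfe, hfh, hve, hge, hvf, hgf, hvh, hgh, hgv]
    module
  -- A equals the span
  have hAS' : (LieSubalgebra.lieSpan K L
      ((rootSpace H ρ : Set L) ∪ (rootSpace H (-ρ) : Set L) ∪
        (rootSpace H (ρ - b.baseSupp j) : Set L))).toSubmodule =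
      Submodule.span K (Set.range ![e, f, h, v, ⁅f, v⁆]) := by
    apply le_antisymm
    · let S' : LieSubalgebra K L :=
        { Submodule.span K (Set.range ![e, f, h, v, ⁅f, v⁆]) with
          lie_mem' := fun {x y} hx hy => hclos x hx y hy }
      have hle : LieSubalgebra.lieSpan K L
          ((rootSpace H ρ : Set L) ∪ (rootSpace H (-ρ) : Set L) ∪
            (rootSpace H (ρ - b.baseSupp j) : Set L)) ≤ S' := by
        rw [LieSubalgebra.lieSpan_le]
        rintro x ((hx | hx) | hx)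
        · obtain ⟨a, rfl⟩ := exists_smul_of_mem hρ0 he hsl.e_ne_zero hx
          exact Submodule.smul_mem _ a heS
        · have hnρ0 : -ρ ≠ 0 := fun h0 => hρ0 (neg_eq_zero.mp h0)
          obtain ⟨a, rfl⟩ := exists_smul_of_mem hnρ0 hf hsl.f_ne_zero hx
          exact Submodule.smul_mem _ a hfS
        · obtain ⟨a, rfl⟩ := exists_smul_of_mem hβ0 hv hv0 hx
          exact Submodule.smul_mem _ a hvS
      exact fun x hx => hle hx
    · rw [Submodule.span_le]
      have heA : e ∈ LieSubalgebra.lieSpan K L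
          ((rootSpace H ρ : Set L) ∪ (rootSpace H (-ρ) : Set L) ∪
            (rootSpace H (ρ - b.baseSupp j) : Set L)) :=
        LieSubalgebra.subset_lieSpan (Or.inl (Or.inl he))
      have hfA : f ∈ LieSubalgebra.lieSpan K L
          ((rootSpace H ρ : Set L) ∪ (rootSpace H (-ρ) : Set L) ∪
            (rootSpace H (ρ - b.baseSupp j) : Set L)) :=
        LieSubalgebra.subset_lieSpan (Or.inl (Or.inr hf))
      have hvA : v ∈ LieSubalgebra.lieSpan K L
          ((rootSpace H ρ : Set L) ∪ (rootSpace H (-ρ) : Set L) ∪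
            (rootSpace H (ρ - b.baseSupp j) : Set L)) :=
        LieSubalgebra.subset_lieSpan (Or.inr hv)
      rintro _ ⟨i, rfl⟩
      fin_cases i
      · exact heA
      · exact hfA
      · show h ∈ _
        rw [← hef]; exact LieSubalgebra.lie_mem _ heA hfA
      · exact hvA
      · exact LieSubalgebra.lie_mem _ hfA hvA
  have hAS : A.toSubmodule = Submodule.span K (Set.range ![e, f, h, v, ⁅f, v⁆]) := by
    rw [hA]; exact hAS'
  have hmemA : ∀ x : L, x ∈ A ↔
      ∃ a1 a2 a3 a4 a5 : K, x = a1 • e + a2 • f + a3 • h + a4 • v + a5 • ⁅f, v⁆ := by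
    intro x
    rw [← LieSubalgebra.mem_toSubmodule, hAS]
    exact hmemS x
  have heA : e ∈ A := by rw [← LieSubalgebra.mem_toSubmodule, hAS]; exact heS
  have hfA : f ∈ A := by rw [← LieSubalgebra.mem_toSubmodule, hAS]; exact hfS
  have hhA : h ∈ A := by rw [← LieSubalgebra.mem_toSubmodule, hAS]; exact hhS
  have hvA : v ∈ A := by rw [← LieSubalgebra.mem_toSubmodule, hAS]; exact hvS
  have hgA : ⁅f, v⁆ ∈ A := by rw [← LieSubalgebra.mem_toSubmodule, hAS]; exact hgS
  haveI : FiniteDimensional K A := FiniteDimensional.finiteDimensional_submodule A.toSubmodule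
  obtain ⟨r1, r2, r3⟩ := rad_core (K := K) (A' := A) ⟨e, heA⟩ ⟨f, hfA⟩ ⟨h, hhA⟩ ⟨v, hvA⟩
    ⟨⁅f, v⁆, hgA⟩
    (by
      intro x
      obtain ⟨a1, a2, a3, a4, a5, hx⟩ := (hmemA x).mp x.2
      exact ⟨a1, a2, a3, a4, a5, Subtype.ext hx⟩)
    (by
      intro a1 a2 a3 a4 a5 h0
      have h0' : a1 • e + a2 • f + a3 • h + a4 • v + a5 • ⁅f, v⁆ = 0 := congrArg Subtype.val h0
      have h1 := Fintype.linearIndependent_iff.mp hli ![a1, a2, a3, a4, a5]
        (by rw [Fin.sum_univ_five]; exact h0')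
      exact ⟨h1 0, h1 1, h1 2, h1 3, h1 4⟩)
    (Subtype.ext hhe) (Subtype.ext hhf) (Subtype.ext hhv) (Subtype.ext hhg) (Subtype.ext hef)
    (Subtype.ext hev) (Subtype.ext heg) (Subtype.ext rfl) (Subtype.ext hfg) (Subtype.ext hvg)
  refine ⟨r1, r3, ?_⟩
  rw [r2, Submodule.map_span, Set.image_pair]
  show Submodule.span K {v, ⁅f, v⁆} = _
  rw [Submodule.span_insert]
  congr 1
  · apply le_antisymm
    · exact (Submodule.span_singleton_le_iff_mem _ _).mpr hv
    · intro y hy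
      obtain ⟨a, rfl⟩ := exists_smul_of_mem hβ0 hv hv0 hy
      exact Submodule.mem_span_singleton.mpr ⟨a, rfl⟩
  · have hα0 : (-⇑(b.baseSupp j) : H → K) ≠ 0 := neg_ne_zero.mpr (baseSupp_ne_zero b j)
    apply le_antisymm
    · exact (Submodule.span_singleton_le_iff_mem _ _).mpr hg
    · intro y hy
      obtain ⟨a, rfl⟩ := exists_smul_of_mem hα0 hg hg0 hy
      exact Submodule.mem_span_singleton.mpr ⟨a, rfl⟩

end Lie

end Groth.Agent.Lib.Helper3.LieRad
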