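import Mathlib

/-!
# Elements of limits of complexes of abelian groups, and element-level homology

Helper library (helper3).  `comp`, `comp_d`, `comp_map`, `ext_of_comp`, `exists_of_compatible` describe
the elements of the terms of `limit K` for a diagram `K` of complexes of abelian groups;
`exactAt_iff_elt` is exactness in terms of elements; `IsCls` is the relation "the cycle `z` represents
the homology class `h`".
-/

set_option autoImplicit false
universe v v' u

open CategoryTheory CategoryTheory.Limits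

namespace Groth.Agent.Helper3.LimCplx

section elt

variable (C : HomologicalComplex AddCommGrpCat.{u} (ComplexShape.up ℤ))

/-- the differential as a homomorphism of groups -/
def dd (m n : ℤ) : C.X m →+ C.X n := (C.d m n).hom

lemma dd_dd (l m n : ℤ) (x : C.X l) : dd C m n (dd C l m x) = 0 := by
  have := C.d_comp_d l m n
  have h := congrArg (fun φ => φ.hom x) this
  exact h

lemma dd_map {C D : HomologicalComplex AddCommGrpCat.{u} (ComplexShape.up ℤ)} (φ : C ⟶ D)
    (m n : ℤ) (x : C.X m) : dd D m n ((φ.f m).hom x) = (φ.f n).hom (dd C m n x) := by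
  have := φ.comm m n
  have h := congrArg (fun ψ => ψ.hom x) this
  exact h

/-- exactness in terms of elements -/
lemma exactAt_iff_elt (m n p : ℤ) (hmn : m + 1 = n) (hnp : n + 1 = p) :
    C.ExactAt n ↔ ∀ x : C.X n, dd C n p x = 0 → ∃ y : C.X m, dd C m n y = x := by
  rw [HomologicalComplex.exactAt_iff' C m n p (by simp [← hmn]) (by simp [← hnp]),
    ShortComplex.ab_exact_iff]
  rfl

end elt

section limit

variable {J : Type v} [Category.{v'} J]
  (K : J ⥤ HomologicalComplex AddCommGrpCat.{u} (ComplexShape.up ℤ))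
  [HasLimitsOfShape J AddCommGrpCat.{u}]
  [PreservesLimitsOfShape J (forget AddCommGrpCat.{u})]

/-- the component at `j` of an element of the limit complex -/
noncomputable def comp (j : J) (q : ℤ) : (limit K).X q →+ (K.obj j).X q :=
  ((limit.π K j).f q).hom

lemma comp_d (j : J) (m n : ℤ) (x : (limit K).X m) :
    comp K j n (dd (limit K) m n x) = dd (K.obj j) m n (comp K j m x) :=
  (dd_map (limit.π K j) m n x).symm

lemma comp_map {j j' : J} (f : j ⟶ j') (q : ℤ) (x : (limit K).X q) :
    ((K.map f).f q).hom (comp K j q x) = comp K j' q x := by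
  have := limit.w K f
  have h := congrArg (fun φ => (φ.f q).hom x) this
  exact h

/-- the limit cone of the degree `q` terms, in `Type` -/
noncomputable def isLimitEval (q : ℤ) :
    IsLimit ((forget AddCommGrpCat.{u}).mapCone
      ((HomologicalComplex.eval AddCommGrpCat.{u} (ComplexShape.up ℤ) q).mapCone (limit.cone K))) :=
  isLimitOfPreserves (forget AddCommGrpCat.{u})
    (isLimitOfPreserves (HomologicalComplex.eval AddCommGrpCat.{u} (ComplexShape.up ℤ) q)
      (limit.isLimit K))

lemma ext_of_comp (q : ℤ) (x x' : (limit K).X q) (h : ∀ j, comp K j q x = comp K j q x') :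
    x = x' :=
  Concrete.isLimit_ext _ (isLimitOfPreserves (HomologicalComplex.eval AddCommGrpCat.{u}
    (ComplexShape.up ℤ) q) (limit.isLimit K)) x x' h

lemma exists_of_compatible (q : ℤ) (y : ∀ j, (K.obj j).X q)
    (hy : ∀ {j j' : J} (f : j ⟶ j'), ((K.map f).f q).hom (y j) = y j') :
    ∃ x : (limit K).X q, ∀ j, comp K j q x = y j := by
  let s : ((K ⋙ HomologicalComplex.eval AddCommGrpCat.{u} (ComplexShape.up ℤ) q) ⋙
      forget AddCommGrpCat.{u}).sections := ⟨y, fun {j j'} f => hy f⟩
  refine ⟨(Types.isLimitEquivSections (isLimitEval K q)).symm s, fun j => ?_⟩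
  exact Types.isLimitEquivSections_symm_apply (isLimitEval K q) s j

end limit

section cls

variable (C : HomologicalComplex AddCommGrpCat.{u} (ComplexShape.up ℤ))

/-- the cycle `z` represents the homology class `h` -/
def IsCls (n : ℤ) (z : C.X n) (h : C.homology n) : Prop :=
  ∃ c : C.cycles n, (C.iCycles n).hom c = z ∧ (C.homologyπ n).hom c = h

lemma iCycles_injective (n : ℤ) : Function.Injective (C.iCycles n).hom :=
  (AddCommGrpCat.mono_iff_injective _).1 inferInstance

lemma homologyπ_surjective (n : ℤ) : Function.Surjective (C.homologyπ n).hom :=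
  (AddCommGrpCat.epi_iff_surjective _).1 inferInstance

lemma exists_isCls_of_homology (n : ℤ) (h : C.homology n) : ∃ z, IsCls C n z h := by
  obtain ⟨c, hc⟩ := homologyπ_surjective C n h
  exact ⟨_, c, rfl, hc⟩

variable {C}

lemma IsCls.d_eq_zero {n : ℤ} {z : C.X n} {h : C.homology n} (hz : IsCls C n z h) (p : ℤ) :
    dd C n p z = 0 := by
  obtain ⟨c, rfl, -⟩ := hz
  have := C.iCycles_d n p
  exact congrArg (fun φ => φ.hom c) this

lemma IsCls.unique {n : ℤ} {z : C.X n} {h h' : C.homology n} (hz : IsCls C n z h)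
    (hz' : IsCls C n z h') : h = h' := by
  obtain ⟨c, hc, rfl⟩ := hz
  obtain ⟨c', hc', rfl⟩ := hz'
  rw [iCycles_injective C n (hc.trans hc'.symm)]

lemma IsCls.map {D : HomologicalComplex AddCommGrpCat.{u} (ComplexShape.up ℤ)} (φ : C ⟶ D)
    {n : ℤ} {z : C.X n} {h : C.homology n} (hz : IsCls C n z h) :
    IsCls D n ((φ.f n).hom z) ((HomologicalComplex.homologyMap φ n).hom h) := by
  obtain ⟨c, rfl, rfl⟩ := hz
  refine ⟨(HomologicalComplex.cyclesMap φ n).hom c, ?_, ?_⟩
  · have := HomologicalComplex.cyclesMap_i φ n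
    exact congrArg (fun ψ => ψ.hom c) this
  · have := HomologicalComplex.homologyπ_naturality φ n
    exact (congrArg (fun ψ => ψ.hom c) this).symm

lemma IsCls.add {n : ℤ} {z z' : C.X n} {h h' : C.homology n} (hz : IsCls C n z h)
    (hz' : IsCls C n z' h') : IsCls C n (z + z') (h + h') := by
  obtain ⟨c, rfl, rfl⟩ := hz
  obtain ⟨c', rfl, rfl⟩ := hz'
  exact ⟨c + c', map_add _ _ _, map_add _ _ _⟩

lemma IsCls.neg {n : ℤ} {z : C.X n} {h : C.homology n} (hz : IsCls C n z h) :
    IsCls C n (-z) (-h) := by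
  obtain ⟨c, rfl, rfl⟩ := hz
  exact ⟨-c, map_neg _ _, map_neg _ _⟩

lemma IsCls.sub {n : ℤ} {z z' : C.X n} {h h' : C.homology n} (hz : IsCls C n z h)
    (hz' : IsCls C n z' h') : IsCls C n (z - z') (h - h') := by
  rw [sub_eq_add_neg, sub_eq_add_neg]
  exact hz.add hz'.neg

variable (C)

lemma exists_isCls_of_cycle (n p : ℤ) (hnp : n + 1 = p) (z : C.X n) (hz : dd C n p z = 0) :
    ∃ h, IsCls C n z h := by
  let S : ShortComplex AddCommGrpCat.{u} := ShortComplex.mk (C.iCycles n) (C.d n p) (C.iCycles_d n p)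
  have hS : S.Exact := ShortComplex.exact_of_f_is_kernel S (C.cyclesIsKernel n p (by simp [← hnp]))
  obtain ⟨c, hc⟩ := (ShortComplex.ab_exact_iff S).1 hS z hz
  exact ⟨_, c, hc, rfl⟩

lemma isCls_boundary (m n : ℤ) (y : C.X m) : IsCls C n (dd C m n y) 0 := by
  refine ⟨(C.toCycles m n).hom y, ?_, ?_⟩
  · have := C.toCycles_i m n
    exact congrArg (fun φ => φ.hom y) this
  · have := C.toCycles_comp_homologyπ m n
    exact congrArg (fun φ => φ.hom y) this

variable {C}

lemma IsCls.exists_boundary {n : ℤ} {z : C.X n} (hz : IsCls C n z 0) (m : ℤ) (hmn : m + 1 = n) :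
    ∃ y : C.X m, dd C m n y = z := by
  obtain ⟨c, rfl, hc⟩ := hz
  let S : ShortComplex AddCommGrpCat.{u} :=
    ShortComplex.mk (C.toCycles m n) (C.homologyπ n) (C.toCycles_comp_homologyπ m n)
  have hS : S.Exact :=
    ShortComplex.exact_of_g_is_cokernel S (C.homologyIsCokernel m n (by simp [← hmn]))
  obtain ⟨y, hy⟩ := (ShortComplex.ab_exact_iff S).1 hS c hc
  refine ⟨y, ?_⟩
  have := C.toCycles_i m n
  have h2 := congrArg (fun φ => φ.hom y) this
  change (C.iCycles n).hom ((C.toCycles m n).hom y) = dd C m n y at h2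
  rw [← h2]
  exact congrArg _ hy

lemma IsCls.eq_zero_iff {n : ℤ} {z : C.X n} {h : C.homology n} (hz : IsCls C n z h) (m : ℤ)
    (hmn : m + 1 = n) : h = 0 ↔ ∃ y : C.X m, dd C m n y = z := by
  constructor
  · rintro rfl
    exact hz.exists_boundary m hmn
  · rintro ⟨y, rfl⟩
    exact hz.unique (isCls_boundary C m n y)

end cls

end Groth.Agent.Helper3.LimCplx
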