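import Mathlib
/-! helper3: descending morphisms from a cofiltered limit (affine transitions) to a target which is
only locally of FINITE TYPE, when the projections from the limit are scheme-theoretically dominant
(variant of Mathlib `Scheme.exists_π_app_comp_eq_of_locallyOfFinitePresentation`; the gluing part
of the proof is copied from Mathlib). Application: directed unions of subalgebras. -/

open CategoryTheory CategoryTheory.Limits

universe u
set_option linter.unusedSectionVars false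
set_option linter.style.haveILetI false

namespace AlgebraicGeometry

variable {I : Type u} [Category.{u} I] {S X : Scheme.{u}} (D : I ⥤ Scheme.{u})
  (t : D ⟶ (Functor.const I).obj S) (f : X ⟶ S) (c : Cone D) (hc : IsLimit c)

lemma h3_isSTD_resLE {X Y : Scheme.{u}} (f : X ⟶ Y) [IsSchemeTheoreticallyDominant f]
    [QuasiCompact f] (U : Y.Opens) (V : X.Opens) (e : V = f ⁻¹ᵁ U) :
    IsSchemeTheoreticallyDominant (f.resLE U V e.le) := by
  subst e
  rw [Scheme.Hom.resLE_eq_morphismRestrict]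
  exact IsSchemeTheoreticallyDominant.of_isPullback (isPullback_morphismRestrict f U).flip

lemma h3_isSTD_Spec_map {R S : CommRingCat.{u}} (φ : R ⟶ S) (h : Function.Injective φ.hom) :
    IsSchemeTheoreticallyDominant (Spec.map φ) := by
  rw [isSchemeTheoreticallyDominant_iff]
  refine Scheme.IdealSheafData.ext_of_isAffine ?_
  rw [Scheme.Hom.ker_apply]
  simp only [Scheme.IdealSheafData.ideal_bot, Pi.bot_apply]
  rw [← RingHom.injective_iff_ker_eq_bot]
  have h1 : (Spec.map φ).appTop = (Scheme.ΓSpecIso R).hom ≫ φ ≫ (Scheme.ΓSpecIso S).inv := by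
    rw [← Scheme.ΓSpecIso_naturality_assoc, Iso.hom_inv_id, Category.comp_id]
  have h2 : Function.Injective (Spec.map φ).appTop.hom := by
    rw [h1]
    simp only [CommRingCat.hom_comp, RingHom.coe_comp]
    exact ((ConcreteCategory.bijective_of_isIso (Scheme.ΓSpecIso S).inv).1.comp h).comp
      (ConcreteCategory.bijective_of_isIso (Scheme.ΓSpecIso R).hom).1
  exact h2

set_option maxSynthPendingDepth 3 in
set_option backward.defeqAttrib.useBackward true in
set_option backward.isDefEq.respectTransparency false in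
include hc in
/-- affine case, target of finite type, dominant projections -/
nonrec lemma Scheme.h3_exists_π_app_comp_eq_of_lft_of_isAffine
    [IsCofiltered I] [LocallyOfFiniteType f]
    [IsAffine S] [IsAffine X] [∀ i, IsAffine (D.obj i)]
    (hdom : ∀ i, IsSchemeTheoreticallyDominant (c.π.app i))
    (a : c.pt ⟶ X) (ha : c.π ≫ t = (Functor.const _).map (a ≫ f)) :
    ∃ (i : I) (g : D.obj i ⟶ X), c.π.app i ≫ g = a ∧ g ≫ f = t.app i := by
  wlog hS : ∃ R, S = Spec R generalizing S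
  · obtain ⟨i, g, hg, hg'⟩ := this (t ≫ ((Functor.const I).mapIso S.isoSpec).hom)
      (f ≫ S.isoSpec.hom) (by simp [reassoc_of% ha]) ⟨_, rfl⟩
    exact ⟨i, g, hg, by simpa using! congr($hg' ≫ S.isoSpec.inv)⟩
  obtain ⟨R, rfl⟩ := hS
  wlog hX : ∃ S, X = Spec S generalizing X
  · obtain ⟨i, f, hf⟩ := this (a ≫ X.isoSpec.hom) (X.isoSpec.inv ≫ f)
      (by simp [ha, -Functor.map_comp]) ⟨_, rfl⟩
    exact ⟨i, f ≫ X.isoSpec.inv, by simpa [← Iso.comp_inv_eq] using! hf⟩
  obtain ⟨B, rfl⟩ := hX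
  obtain ⟨φ, rfl⟩ := Spec.map_surjective f
  have hφ : φ.hom.FiniteType :=
    HasRingHomProperty.Spec_iff.mp ‹LocallyOfFiniteType (Spec.map φ)›
  letI : Algebra R B := φ.hom.toAlgebra
  have hft : Algebra.FiniteType R B := hφ
  obtain ⟨n, ψ, hψ⟩ := Algebra.FiniteType.iff_quotient_mvPolynomial''.mp hft
  let P : CommRingCat.{u} := CommRingCat.of (MvPolynomial (Fin n) R)
  let ι : Spec B ⟶ Spec P := Spec.map (CommRingCat.ofHom ψ.toRingHom)
  let f' : Spec P ⟶ Spec R :=
    Spec.map (CommRingCat.ofHom (algebraMap R (MvPolynomial (Fin n) R)))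
  have hιf : ι ≫ f' = Spec.map φ := by
    rw [← Spec.map_comp]
    congr 1
    ext x
    exact ψ.commutes x
  haveI : IsClosedImmersion ι := IsClosedImmersion.spec_of_surjective _ hψ
  haveI : LocallyOfFinitePresentation f' := by
    rw [HasRingHomProperty.Spec_iff (P := @LocallyOfFinitePresentation)]
    exact RingHom.finitePresentation_algebraMap.mpr inferInstance
  obtain ⟨i, g'', hg1, hg2⟩ :=
    Scheme.exists_π_app_comp_eq_of_locallyOfFinitePresentation D t f' c hc (a ≫ ι) (by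
      rw [Category.assoc, hιf]; exact ha)
  have H : ι.ker ≤ g''.ker := by
    have h1 : ι.ker ≤ (a ≫ ι).ker := Scheme.Hom.le_ker_comp a ι
    rw [← hg1, Scheme.Hom.ker_comp, (hdom i).ker_eq_bot, Scheme.IdealSheafData.map_bot] at h1
    exact h1
  refine ⟨i, IsClosedImmersion.lift ι g'' H, ?_, ?_⟩
  · rw [← cancel_mono ι, Category.assoc, IsClosedImmersion.lift_fac, hg1]
  · rw [← hιf, IsClosedImmersion.lift_fac_assoc, hg2]

set_option maxSynthPendingDepth 3 in
set_option backward.defeqAttrib.useBackward true in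
set_option backward.isDefEq.respectTransparency false in
open TopologicalSpace in
include hc in
/--
Given a cofiltered diagram of qcqs schemes `Dᵢ` over `S` with affine transition maps.
If `X` is locally of finite presentation over `S`, then any `S`-morphism `lim Dᵢ ⟶ X` factors
through some `lim Dᵢ ⟶ Dⱼ ⟶ X` for some `j`.
-/
lemma Scheme.h3_exists_π_app_comp_eq_of_lft
    [IsCofiltered I] [LocallyOfFiniteType f]
    [∀ {i j} (f : i ⟶ j), IsAffineHom (D.map f)]
    [∀ i, CompactSpace (D.obj i)] [∀ i, QuasiSeparatedSpace (D.obj i)]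
    (hdom : ∀ i, IsSchemeTheoreticallyDominant (c.π.app i))
    (a : c.pt ⟶ X) (ha : c.π ≫ t = (Functor.const _).map (a ≫ f)) :
    ∃ (i : I) (g : D.obj i ⟶ X), c.π.app i ≫ g = a ∧ g ≫ f = t.app i := by
  -- The open cover of `c := lim Dᵢ` indexed by triplets of affine opens `(U, V, W)` with
  -- `U ⊆ c`, `V ⊆ X`, `W ⊆ S` such that `U` maps to `V` maps to `W`.
  have 𝒰 := (c.pt.isBasis_affineOpens).isOpenCover_mem_and_le
    (((X.isBasis_affineOpens).isOpenCover_mem_and_le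
    ((S.isBasis_affineOpens).isOpenCover.comap f.base.hom)).comap a.base.hom)
  -- By qcqs, this cover descends to some finite affine open cover `𝒱` of `Dᵢ`.
  obtain ⟨i, s, 𝒱, h𝒱, h𝒱𝒰⟩ := Scheme.exists_isOpenCover_and_isAffine D c hc _ 𝒰 fun U ↦ U.2.1
  obtain ⟨i', fi'i, hi'⟩ : ∃ (i' : I) (fi'i : i' ⟶ i),
      ∀ j, D.map fi'i ⁻¹ᵁ 𝒱 j ≤ t.app i' ⁻¹ᵁ j.1.1.2.1.2.1 := by
    choose k fk hk using fun j ↦ exists_map_preimage_le_map_preimage D c hc (h𝒱𝒰 j).1.isCompact
      (V := t.app i ⁻¹ᵁ j.1.1.2.1.2.1) (by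
      rw [← Hom.comp_preimage, ← NatTrans.comp_app, ha]
      exact (h𝒱𝒰 j).2.symm.trans_le (j.1.prop.2.trans (a.preimage_mono j.1.1.2.prop.2)))
    obtain ⟨i', fi'i, fi', hfi'⟩ := IsCofiltered.wideCospan fk
    refine ⟨i', fi'i, fun j ↦ ?_⟩
    rw [← hfi', Functor.map_comp, Hom.comp_preimage]
    refine (Hom.preimage_mono _ (hk _)).trans ?_
    simp only [← Hom.comp_preimage, t.naturality, Functor.const_obj_obj,
      Functor.const_obj_map, Category.comp_id, le_refl]
  -- Using the affine version `exists_π_app_comp_eq_of_locallyOfFinitePresentation_of_isAffine`,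
  -- one can now factor `Dⱼ ⁻¹ 𝒱ⱼ ⟶ lim Dᵢ ⟶ X` through some `Dⱼₖ ⁻¹ 𝒱ⱼ` for each `𝒱ⱼ`,
  -- and by finite-ness we may chose a fixed `k` that works for every `j`.
  have : ∃ k, ∃ (fk : k ⟶ i), ∀ j, ∃ (ak : ↑(D.map fk ⁻¹ᵁ 𝒱 j) ⟶ X),
      ak ≫ f = Opens.ι _ ≫ t.app k ∧ c.π.app _ ∣_ _ ≫ ak = Opens.ι _ ≫ a := by
    let 𝒱' := (D.map fi'i ⁻¹ᵁ 𝒱 ·)
    have h𝒱'𝒰 (j : s) : c.π.app i' ⁻¹ᵁ 𝒱' j = j.1.1.1 := by
      rw [← Hom.comp_preimage, c.w fi'i]; exact (h𝒱𝒰 j).2.symm
    have _ (j k) : IsAffine ((opensDiagram D i' (𝒱' j)).obj k) := ((h𝒱𝒰 _).1.preimage _).preimage _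
    let t𝒱 (j : _) : opensDiagram D i' (𝒱' j) ⟶ (Functor.const (Over i')).obj j.1.1.2.1.2 :=
    { app k := (t.app k.left).resLE _ _ <| by
        refine (Hom.preimage_mono _ (hi' _)).trans ?_
        simp only [Functor.const_obj_obj, ← Hom.comp_preimage, t.naturality,
          Functor.const_obj_map, Category.comp_id, le_refl]
      naturality {k₁ k₂} f₁₂ := by simp [Hom.resLE_comp_resLE] }
    have (j : s) : IsAffine j.1.1.2.1.1 := j.1.1.2.prop.1
    choose k ak hk hk' using fun j ↦ h3_exists_π_app_comp_eq_of_lft_of_isAffine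
      _ (t𝒱 j) (f.resLE _ _ j.1.1.2.prop.2) _ (isLimitOpensCone D c hc i' (𝒱' j))
      (fun k ↦ by
        haveI := isAffineHom_π_app D c hc k.left
        haveI := hdom k.left
        exact h3_isSTD_resLE (c.π.app k.left) _ _ (by
          rw [← Hom.comp_preimage (c.π.app k.left) (D.map k.hom), c.w]))
      (a.resLE _ _ ((h𝒱'𝒰 _).trans_le j.1.prop.2)) (by
      ext k
      simp [t𝒱, Hom.resLE_comp_resLE, show c.π.app k.left ≫ t.app k.left = a ≫ f from
        congr(($ha).app k.left)])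
    obtain ⟨i'', fi''i', fi'', hi''⟩ := IsCofiltered.wideCospan fun j ↦ (k j).hom
    refine ⟨i'', fi''i' ≫ fi'i, fun j ↦
      ⟨Scheme.homOfLE _ ?_ ≫ D.map (fi'' _) ∣_ _ ≫ ak j ≫ Opens.ι _, ?_, ?_⟩⟩
    · simp only [← Hom.comp_preimage, ← Functor.map_comp, 𝒱', reassoc_of% hi'']; rfl
    · have : ak j ≫ Opens.ι _ ≫ f = Opens.ι _ ≫ t.app (k j).left := by
        simpa [t𝒱] using! congr($(hk' j) ≫ Opens.ι _)
      simp [this]
    · have e : c.π.app i'' ⁻¹ᵁ D.map (fi''i' ≫ fi'i) ⁻¹ᵁ 𝒱 j ≤ c.π.app i' ⁻¹ᵁ 𝒱' j := by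
        simp only [← Hom.comp_preimage, Cone.w, 𝒱']; rfl
      simpa [← AlgebraicGeometry.Scheme.Hom.resLE_eq_morphismRestrict,
        Scheme.Hom.resLE_comp_resLE_assoc] using! congr(Scheme.homOfLE _ e ≫ $(hk j) ≫ Opens.ι _)
  choose k fki ak hak hak' using this
  -- We may then find an `l` for each `j₁` and `j₂` such that the map `Dⱼ₁ₗ ⁻¹ 𝒱ⱼ₁ ⟶ X` and
  -- `Dⱼ₂ₗ ⁻¹ 𝒱ⱼ₂ ⟶ X` agrees on the intersection in `Dₗ`.
  -- And again by finiteness we may choose a global `l`.
  obtain ⟨l, flk, hl⟩ : ∃ (l : I) (flk : l ⟶ k), ∀ j₁ j₂, Scheme.homOfLE _ inf_le_left ≫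
      D.map flk ∣_ _ ≫ ak j₁ = Scheme.homOfLE _ inf_le_right ≫ D.map flk ∣_ _ ≫ ak j₂ := by
    let 𝒱' := (D.map fki ⁻¹ᵁ 𝒱 ·)
    have (j₁ j₂ : s) : ∃ (l : I) (flk : l ⟶ k), Scheme.homOfLE _ inf_le_left ≫ D.map flk ∣_ _ ≫
        ak j₁ = Scheme.homOfLE _ inf_le_right ≫ D.map flk ∣_ _ ≫ ak j₂ := by
      have _ (x) : CompactSpace ↥((opensDiagram D k (𝒱' j₁ ⊓ 𝒱' j₂)).obj x) :=
        isCompact_iff_compactSpace.mp (QuasiCompact.isCompact_preimage _ (𝒱' j₁ ⊓ 𝒱' j₂).isOpen
          (((h𝒱𝒰 _).1.preimage _).isCompact.inter_of_isOpen ((h𝒱𝒰 _).1.preimage _).isCompact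
            (D.map fki ⁻¹ᵁ 𝒱 j₁).2 (D.map fki ⁻¹ᵁ 𝒱 j₂).2))
      obtain ⟨⟨l, ⟨⟨⟩⟩, flk⟩, ⟨flk', ⟨⟨⟨⟩⟩⟩, h⟩, e⟩ :=
        Scheme.exists_hom_comp_eq_comp_of_locallyOfFiniteType _
          (opensDiagramι .. ≫ (Over.forget k).whiskerLeft t) f _
          (isLimitOpensCone D c hc k (𝒱' j₁ ⊓ 𝒱' j₂)) (i := .mk (𝟙 k))
          (Scheme.homOfLE _ (by simp [𝒱']) ≫ ak j₁) (Scheme.homOfLE _ (by simp [𝒱']) ≫ ak j₂)
          (by simp [hak]) (by simp [hak]) (by simp; simp [Hom.resLE, hak'])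
      obtain rfl : flk = flk' := by simpa using! h.symm
      refine ⟨l, flk, by simpa [← Scheme.Hom.resLE_eq_morphismRestrict] using! e⟩
    choose l flk hflk using this
    obtain ⟨l', fl'k, fl'l, hl'⟩ := IsCofiltered.wideCospan (I := s × s) fun x ↦ flk x.1 x.2
    refine ⟨l', fl'k, fun j₁ j₂ ↦ ?_⟩
    have H : (D.map fl'k ≫ D.map fki) ⁻¹ᵁ (𝒱 j₁ ⊓ 𝒱 j₂) ≤
        (D.map (fl'l (j₁, j₂)) ≫ D.map (flk j₁ j₂) ≫ D.map fki) ⁻¹ᵁ (𝒱 j₁ ⊓ 𝒱 j₂) := by
      simp only [← Functor.map_comp, reassoc_of% hl']; rfl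
    simpa [← Scheme.Hom.resLE_eq_morphismRestrict, Scheme.Hom.resLE_comp_resLE_assoc,
      ← Functor.map_comp, hl'] using! congr((D.map (fl'l (j₁, j₂))).resLE _ _ H ≫ $(hflk j₁ j₂))
  -- We may glue the morphisms into `Dₗ ⟶ X` and verify that it indeed satisfies the hypothesis.
  let h𝒲 := (h𝒱.comap (D.map fki).base.hom).comap (D.map flk).base.hom
  let 𝒲 := Scheme.openCoverOfIsOpenCover _ (D.map flk ⁻¹ᵁ D.map fki ⁻¹ᵁ 𝒱 ·) h𝒲
  let F := 𝒲.glueMorphisms (fun j ↦ D.map flk ∣_ D.map fki ⁻¹ᵁ 𝒱 j ≫ ak j) (fun j₁ j₂ ↦ by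
      rw [← cancel_epi (isPullback_opens_inf _ _).isoPullback.hom]
      simpa [𝒲] using! hl j₁ j₂)
  have hF (j : s) : (D.map flk ⁻¹ᵁ D.map fki ⁻¹ᵁ 𝒱 j).ι ≫ F = D.map flk ∣_ _ ≫ ak j :=
    Scheme.Cover.ι_glueMorphisms ..
  refine ⟨l, F, ?_, ?_⟩
  · refine Cover.hom_ext (𝒲.pullback₁ (c.π.app l)) _ _ fun j ↦ ?_
    rw [← cancel_epi (isPullback_morphismRestrict _ _).flip.isoPullback.hom]
    dsimp [𝒲]
    simp only [pullback.condition_assoc, IsPullback.isoPullback_hom_snd_assoc,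
      IsPullback.isoPullback_hom_fst_assoc, hF]
    have h : c.π.app l ⁻¹ᵁ D.map flk ⁻¹ᵁ D.map fki ⁻¹ᵁ 𝒱 j ≤ c.π.app k ⁻¹ᵁ D.map fki ⁻¹ᵁ 𝒱 j := by
      simp only [← Hom.comp_preimage, c.w_assoc, c.w]; rfl
    simpa [← Scheme.Hom.resLE_eq_morphismRestrict, Scheme.Hom.resLE_comp_resLE_assoc] using!
      congr(Scheme.homOfLE _ h ≫ $(hak' j))
  · refine 𝒲.hom_ext _ _ fun j ↦ ?_
    simp [F, Cover.ι_glueMorphisms_assoc, hak]; rfl


end AlgebraicGeometry

namespace H3LimFT

open AlgebraicGeometry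

section App

variable {ι : Type u} (A C : Type u) [CommRing A] [CommRing C] [Algebra A C]
  (S : ι → Subalgebra A C)

/-- the poset of members of the family -/
abbrev J := {B : Subalgebra A C // ∃ i, S i = B}

/-- the diagram of subalgebras in commutative rings -/
noncomputable def subFunctor : J A C S ⥤ CommRingCat.{u} where
  obj B := CommRingCat.of B.1
  map {B B'} h := CommRingCat.ofHom (Subalgebra.inclusion (leOfHom h)).toRingHom
  map_id B := by ext x; rfl
  map_comp f g := by ext x; rfl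

/-- the cocone with apex `C` -/
noncomputable def subCocone : Cocone (subFunctor A C S) where
  pt := CommRingCat.of C
  ι :=
    { app := fun B => CommRingCat.ofHom B.1.val.toRingHom
      naturality := fun B B' h => by ext x; rfl }

variable (hdir : Directed (· ≤ ·) S) (hcov : ∀ c : C, ∃ i, c ∈ S i)

include hcov in
lemma nonempty_J : Nonempty (J A C S) := ⟨⟨S (hcov 0).choose, _, rfl⟩⟩

include hdir in
lemma isDirected_J : IsDirected (J A C S) (· ≤ ·) := ⟨by
  rintro ⟨_, i, rfl⟩ ⟨_, j, rfl⟩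
  obtain ⟨k, hik, hjk⟩ := hdir i j
  exact ⟨⟨S k, k, rfl⟩, hik, hjk⟩⟩

noncomputable def subIsColimit : IsColimit (subCocone A C S) := by
  haveI := nonempty_J A C S hcov
  haveI := isDirected_J A C S hdir
  haveI : PreservesColimitsOfShape (J A C S) (forget CommRingCat.{u}) :=
    PreservesFilteredColimitsOfSize.preserves_filtered_colimits (J A C S)
  haveI : ReflectsColimit (subFunctor A C S) (forget CommRingCat.{u}) :=
    reflectsColimit_of_reflectsIsomorphisms _ _
  apply isColimitOfReflects (forget CommRingCat.{u})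
  apply Types.FilteredColimit.isColimitOf'
  · intro (x : C)
    obtain ⟨i, hi⟩ := hcov x
    exact ⟨⟨S i, i, rfl⟩, (⟨x, hi⟩ : S i), rfl⟩
  · intro L (x : L.1) (y : L.1) h
    refine ⟨L, 𝟙 L, ?_⟩
    have : x = y := Subtype.ext h
    rw [this]

/-- the diagram `Spec B` -/
noncomputable def specDiag : (J A C S)ᵒᵖ ⥤ Scheme.{u} := (subFunctor A C S).op ⋙ Scheme.Spec

/-- structure maps to `Spec A` -/
noncomputable def specDiagStr :
    specDiag A C S ⟶ (Functor.const (J A C S)ᵒᵖ).obj (Spec (CommRingCat.of A)) where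
  app L := Spec.map (CommRingCat.ofHom (algebraMap A L.unop.1))
  naturality L L' φ := by
    simp only [specDiag, Functor.comp_obj, Functor.op_obj, Scheme.Spec_obj, Functor.comp_map,
      Functor.op_map, Scheme.Spec_map, Functor.const_obj_obj, Functor.const_obj_map,
      Category.comp_id]
    rw [← Spec.map_comp]
    rfl

noncomputable def specCone : Cone (specDiag A C S) := Scheme.Spec.mapCone (subCocone A C S).op

noncomputable def specConeIsLimit : IsLimit (specCone A C S) :=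
  isLimitOfPreserves Scheme.Spec (subIsColimit A C S hdir hcov).op

theorem specCone_str (L : (J A C S)ᵒᵖ) :
    (specCone A C S).π.app L ≫ (specDiagStr A C S).app L =
      Spec.map (CommRingCat.ofHom (algebraMap A C)) := by
  show Spec.map (CommRingCat.ofHom L.unop.1.val.toRingHom) ≫
    Spec.map (CommRingCat.ofHom (algebraMap A L.unop.1)) = _
  rw [← Spec.map_comp]
  rfl

include hdir hcov in
theorem main (X : Scheme.{u}) (f : X ⟶ Spec (CommRingCat.of A)) [LocallyOfFiniteType f]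
    (g : Spec (CommRingCat.of C) ⟶ X)
    (hg : g ≫ f = Spec.map (CommRingCat.ofHom (algebraMap A C))) :
    ∃ (i : ι) (g' : Spec (CommRingCat.of (S i)) ⟶ X),
      g' ≫ f = Spec.map (CommRingCat.ofHom (algebraMap A (S i))) ∧
      Spec.map (CommRingCat.ofHom (S i).val.toRingHom) ≫ g' = g := by
  haveI := nonempty_J A C S hcov
  haveI := isDirected_J A C S hdir
  haveI : IsCofiltered (J A C S)ᵒᵖ := inferInstance
  have hdom : ∀ L, IsSchemeTheoreticallyDominant ((specCone A C S).π.app L) := fun L =>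
    h3_isSTD_Spec_map (CommRingCat.ofHom L.unop.1.val.toRingHom) Subtype.val_injective
  haveI : ∀ {i j : (J A C S)ᵒᵖ} (φ : i ⟶ j), IsAffineHom ((specDiag A C S).map φ) := fun φ =>
    (inferInstance : IsAffineHom (Spec.map ((subFunctor A C S).map φ.unop)))
  haveI : ∀ i, CompactSpace ((specDiag A C S).obj i) := fun i =>
    (inferInstance : CompactSpace (Spec ((subFunctor A C S).obj i.unop)))
  haveI : ∀ i, QuasiSeparatedSpace ((specDiag A C S).obj i) := fun i =>
    (inferInstance : QuasiSeparatedSpace (Spec ((subFunctor A C S).obj i.unop)))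
  obtain ⟨L, g', h1, h2⟩ := Scheme.h3_exists_π_app_comp_eq_of_lft (specDiag A C S)
    (specDiagStr A C S) f (specCone A C S) (specConeIsLimit A C S hdir hcov) hdom g (by
      ext L
      simp only [NatTrans.comp_app, Functor.const_obj_obj, Functor.const_map_app]
      exact (specCone_str A C S L).trans hg.symm)
  obtain ⟨⟨B, i, rfl⟩⟩ := L
  exact ⟨i, g', h2, h1⟩

end App

end H3LimFT
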