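import Mathlib
import Groth.Agent.Lib.Helper3.LimCplx
import Groth.Agent.Lib.Helper3.MLLim

/-!
# Cohomology of a limit of a tower of complexes of abelian groups (helper3)

`post_surjective_nat`: `Hⁿ(lim K) → lim Hⁿ(K)` is surjective if the tower `Kⁿ⁻¹` is Mittag-Leffler.
`post_injective_nat`: it is injective if the tower of cycles `Zⁿ⁻¹` is Mittag-Leffler.
-/

set_option autoImplicit false
universe u

open CategoryTheory CategoryTheory.Limits Opposite

namespace Groth.Agent.Helper3.LimHom

open Groth.Agent.Helper3.LimCplx Groth.Agent.Helper3.MLLim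

/-- the differential as a natural transformation between evaluation functors -/
noncomputable def dNat (m n : ℤ) :
    HomologicalComplex.eval AddCommGrpCat.{u} (ComplexShape.up ℤ) m ⟶
      HomologicalComplex.eval AddCommGrpCat.{u} (ComplexShape.up ℤ) n where
  app C := C.d m n
  naturality _ _ φ := (φ.comm m n)

/-- the inclusion of cycles as a natural transformation -/
noncomputable def iNat (n : ℤ) :
    HomologicalComplex.cyclesFunctor AddCommGrpCat.{u} (ComplexShape.up ℤ) n ⟶
      HomologicalComplex.eval AddCommGrpCat.{u} (ComplexShape.up ℤ) n where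
  app C := C.iCycles n
  naturality _ _ φ := HomologicalComplex.cyclesMap_i φ n

variable (K : ℕᵒᵖ ⥤ HomologicalComplex AddCommGrpCat.{u} (ComplexShape.up ℤ))

/-- the comparison map -/
noncomputable abbrev P (n : ℤ) :=
  limit.post K (HomologicalComplex.homologyFunctor AddCommGrpCat.{u} (ComplexShape.up ℤ) n)

lemma P_π (n : ℤ) (j : ℕ) (H : (limit K).homology n) :
    (limit.π (K ⋙ HomologicalComplex.homologyFunctor AddCommGrpCat.{u} (ComplexShape.up ℤ) n)
      (op j)).hom ((P K n).hom H) =
      (HomologicalComplex.homologyMap (limit.π K (op j)) n).hom H := by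
  have := limit.post_π K
    (HomologicalComplex.homologyFunctor AddCommGrpCat.{u} (ComplexShape.up ℤ) n) (op j)
  exact congrArg (fun φ => φ.hom H) this

lemma res_eval {i j : ℕ} (h : i ≤ j) (q : ℤ) (x : (K.obj (op j)).X q) :
    res (K ⋙ HomologicalComplex.eval AddCommGrpCat.{u} (ComplexShape.up ℤ) q) h x =
      ((K.map (homOfLE h).op).f q).hom x := rfl

lemma hy_of_succ (q : ℤ) (y : ∀ j : ℕ, (K.obj (op j)).X q)
    (hy : ∀ j, res (K ⋙ HomologicalComplex.eval AddCommGrpCat.{u} (ComplexShape.up ℤ) q)
      (Nat.le_succ j) (y (j + 1)) = y j) {j j' : ℕᵒᵖ} (f : j ⟶ j') :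
    ((K.map f).f q).hom (y j.unop) = y j'.unop := by
  have hle : j'.unop ≤ j.unop := f.unop.le
  have : f = (homOfLE hle).op := Subsingleton.elim _ _
  rw [this]
  exact res_of_succ (K ⋙ HomologicalComplex.eval AddCommGrpCat.{u} (ComplexShape.up ℤ) q) y hy hle

theorem post_surjective_nat (m n p : ℤ) (hmn : m + 1 = n) (hnp : n + 1 = p)
    (h1 : ((K ⋙ HomologicalComplex.eval _ _ m) ⋙ forget AddCommGrpCat).IsMittagLeffler) :
    Function.Surjective (P K n).hom := by
  intro h
  let hj : ∀ j : ℕ, (K.obj (op j)).homology n := fun j =>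
    (limit.π (K ⋙ HomologicalComplex.homologyFunctor AddCommGrpCat.{u} (ComplexShape.up ℤ) n)
      (op j)).hom h
  obtain ⟨y, hyT, hy⟩ := exists_compatible
    (A := K ⋙ HomologicalComplex.eval AddCommGrpCat.{u} (ComplexShape.up ℤ) m)
    (B := K ⋙ HomologicalComplex.eval AddCommGrpCat.{u} (ComplexShape.up ℤ) n)
    (Functor.whiskerLeft K (dNat m n)) h1
    (fun j => {z : (K.obj (op j)).X n | IsCls (K.obj (op j)) n z (hj j)})
    (fun j => exists_isCls_of_homology (K.obj (op j)) n (hj j))
    (fun {i j} hij (t : (K.obj (op j)).X n) ht => by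
      have h1 := IsCls.map (K.map (homOfLE hij).op) ht
      have h2 : (HomologicalComplex.homologyMap (K.map (homOfLE hij).op) n).hom (hj j) = hj i :=
        limit_π_res
          (K ⋙ HomologicalComplex.homologyFunctor AddCommGrpCat.{u} (ComplexShape.up ℤ) n) h hij
      rw [h2] at h1
      exact h1)
    (fun j (t t' : (K.obj (op j)).X n) ht ht' => by
      have h1 : IsCls (K.obj (op j)) n (t - t') (hj j - hj j) := IsCls.sub ht ht'
      rw [sub_self] at h1
      exact h1.exists_boundary m hmn)
    (fun j (t : (K.obj (op j)).X n) (α : (K.obj (op j)).X m) ht => by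
      have h1 : IsCls (K.obj (op j)) n (t + dd (K.obj (op j)) m n α) (hj j + 0) :=
        IsCls.add ht (isCls_boundary (K.obj (op j)) m n α)
      rw [add_zero] at h1
      exact h1)
  obtain ⟨Z, hZ⟩ := exists_of_compatible K n (fun j => y j.unop)
    (fun {j j'} f => hy_of_succ K n y hy f)
  have hdZ : dd (limit K) n p Z = 0 := by
    refine ext_of_comp K p _ _ (fun j => ?_)
    rw [comp_d, hZ j, map_zero]
    exact (hyT j.unop).d_eq_zero p
  obtain ⟨H, hH⟩ := exists_isCls_of_cycle (limit K) n p hnp Z hdZ
  refine ⟨H, limit_ext _ _ _ (fun j => ?_)⟩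
  rw [P_π]
  have h3 := IsCls.map (limit.π K (op j)) hH
  have h4 : ((limit.π K (op j)).f n).hom Z = y j := hZ (op j)
  rw [h4] at h3
  exact h3.unique (hyT j)

theorem post_injective_nat (m n : ℤ) (hmn : m + 1 = n)
    (hZ : ((K ⋙ HomologicalComplex.cyclesFunctor _ _ m) ⋙ forget AddCommGrpCat).IsMittagLeffler) :
    Function.Injective (P K n).hom := by
  rw [injective_iff_map_eq_zero]
  intro H hH
  obtain ⟨Z, hZH⟩ := exists_isCls_of_homology (limit K) n H
  have hbd : ∀ j : ℕ, IsCls (K.obj (op j)) n (comp K (op j) n Z) 0 := by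
    intro j
    have h3 := IsCls.map (limit.π K (op j)) hZH
    rw [← P_π, hH, map_zero] at h3
    exact h3
  obtain ⟨y, hyT, hy⟩ := exists_compatible
    (A := K ⋙ HomologicalComplex.cyclesFunctor AddCommGrpCat.{u} (ComplexShape.up ℤ) m)
    (B := K ⋙ HomologicalComplex.eval AddCommGrpCat.{u} (ComplexShape.up ℤ) m)
    (Functor.whiskerLeft K (iNat m)) hZ
    (fun j => {t : (K.obj (op j)).X m | dd (K.obj (op j)) m n t = comp K (op j) n Z})
    (fun j => (hbd j).exists_boundary m hmn)
    (fun {i j} hij (t : (K.obj (op j)).X m) ht => by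
      change dd (K.obj (op i)) m n (((K.map (homOfLE hij).op).f m).hom t) = comp K (op i) n Z
      rw [dd_map, show dd (K.obj (op j)) m n t = comp K (op j) n Z from ht]
      exact LimCplx.comp_map K _ n Z)
    (fun j (t t' : (K.obj (op j)).X m) ht ht' => by
      have h0 : dd (K.obj (op j)) m n (t - t') = 0 := by
        rw [map_sub, show dd (K.obj (op j)) m n t = comp K (op j) n Z from ht,
          show dd (K.obj (op j)) m n t' = comp K (op j) n Z from ht', sub_self]
      obtain ⟨h, c, hc, -⟩ := exists_isCls_of_cycle (K.obj (op j)) m n hmn (t - t') h0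
      exact ⟨c, hc⟩)
    (fun j (t : (K.obj (op j)).X m) (α : (K.obj (op j)).cycles m) ht => by
      change dd (K.obj (op j)) m n (t + ((K.obj (op j)).iCycles m).hom α) = comp K (op j) n Z
      have h0 : dd (K.obj (op j)) m n (((K.obj (op j)).iCycles m).hom α) = 0 := by
        have := (K.obj (op j)).iCycles_d m n
        exact congrArg (fun φ => φ.hom α) this
      rw [map_add, h0, add_zero]
      exact ht)
  obtain ⟨Y, hY⟩ := exists_of_compatible K m (fun j => y j.unop)
    (fun {j j'} f => hy_of_succ K m y hy f)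
  have hdY : dd (limit K) m n Y = Z := by
    refine ext_of_comp K n _ _ (fun j => ?_)
    rw [comp_d, hY j]
    exact hyT j.unop
  rw [← hdY] at hZH
  exact hZH.unique (isCls_boundary (limit K) m n Y)

end Groth.Agent.Helper3.LimHom
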