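import Mathlib
import Groth.Agent.S4793
import Groth.Agent.S4764
import Groth.Agent.Lib.Helper5.Stalk.FlatPull
import Groth.Agent.Lib.Helper1.QcAbel

/-! Vanishing and injectivity of pullbacks of modules to a limit of schemes with flat affine
transition maps (helper3): S4794. -/

set_option autoImplicit false
set_option backward.isDefEq.respectTransparency.types false
set_option synthInstance.maxHeartbeats 400000
set_option linter.style.haveILetI false
universe u

open AlgebraicGeometry CategoryTheory CategoryTheory.Limits TopologicalSpace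

namespace Groth.Agent.Helper3.LimMono

open Groth.Agent.Lib.Helper5.StalkAdj

section

variable {I : Type u} [SmallCategory I] [IsCofiltered I]
  (D : I ⥤ Scheme.{u}) (c : Limits.Cone D) (hc : Limits.IsLimit c)
  [∀ (i j : I) (f : i ⟶ j), IsAffineHom (D.map f)] (i₀ : I) [CompactSpace (D.obj i₀)]

/-- the zero endomorphism of a pullback is an epimorphism iff the pullback vanishes -/
theorem epi_pullback_zero_iff {X Y : Scheme.{u}} (g : X ⟶ Y) (K : Y.Modules) :
    Epi ((Scheme.Modules.pullback g).map (0 : K ⟶ K)) ↔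
      IsZero ((Scheme.Modules.pullback g).obj K) := by
  rw [Functor.map_zero]
  constructor
  · intro h
    exact IsZero.of_epi_eq_zero (0 : (Scheme.Modules.pullback g).obj K ⟶ _) rfl
  · intro h
    exact h.epi _

include hc in
/-- a quasi-coherent module of finite type on a quasi-compact stage whose pullback to the limit
vanishes already vanishes at some stage -/
theorem isZero_pullback_iff_eventually {K₀ : (D.obj i₀).Modules} [K₀.IsQuasicoherent]
    (hK : CohB1.IsFT K₀) :
    IsZero ((Scheme.Modules.pullback (c.π.app i₀)).obj K₀) ↔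
      ∃ (j : I) (φ : j ⟶ i₀), IsZero ((Scheme.Modules.pullback (D.map φ)).obj K₀) := by
  haveI : Coh.IsQCoh K₀ := ‹K₀.IsQuasicoherent›
  have h := Groth.Agent.S4793.result D c hc i₀ hK (0 : K₀ ⟶ K₀)
  rw [epi_pullback_zero_iff] at h
  rw [h]
  constructor
  · rintro ⟨j, φ, hj⟩
    exact ⟨j, φ, (epi_pullback_zero_iff _ _).1 hj⟩
  · rintro ⟨j, φ, hj⟩
    exact ⟨j, φ, (epi_pullback_zero_iff _ _).2 hj⟩

/-- for a flat morphism, the pullback of a map is a monomorphism iff the pullback of its kernel
vanishes -/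
theorem mono_pullback_iff_isZero {X Y : Scheme.{u}} (g : X ⟶ Y) [Flat g] {F G : Y.Modules}
    (f : F ⟶ G) :
    Mono ((Scheme.Modules.pullback g).map f) ↔
      IsZero ((Scheme.Modules.pullback g).obj (kernel f)) := by
  rw [Preadditive.mono_iff_isZero_kernel]
  exact (PreservesKernel.iso (Scheme.Modules.pullback g) f).symm.isZero_iff

include hc in
theorem S4794_main (hfl : ∀ (i j : I) (φ : i ⟶ j), Flat (D.map φ))
    {F₀ G₀ : (D.obj i₀).Modules} [F₀.IsQuasicoherent] [G₀.IsQuasicoherent] (f₀ : F₀ ⟶ G₀)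
    (hker : CohB1.IsFT (Limits.kernel f₀)) :
    Mono ((Scheme.Modules.pullback (c.π.app i₀)).map f₀) ↔
      ∃ (j : I) (φ : j ⟶ i₀), Mono ((Scheme.Modules.pullback (D.map φ)).map f₀) := by
  haveI : (kernel f₀).IsQuasicoherent := Groth.Agent.Helper1.QcAbel.isQuasicoherent_kernel f₀
  haveI : Flat (c.π.app i₀) := Groth.Agent.S4764.result D c hc i₀ fun j φ => hfl j i₀ φ
  rw [mono_pullback_iff_isZero, isZero_pullback_iff_eventually D c hc i₀ hker]
  constructor
  · rintro ⟨j, φ, hj⟩
    haveI : Flat (D.map φ) := hfl _ _ φ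
    exact ⟨j, φ, (mono_pullback_iff_isZero _ _).2 hj⟩
  · rintro ⟨j, φ, hj⟩
    haveI : Flat (D.map φ) := hfl _ _ φ
    exact ⟨j, φ, (mono_pullback_iff_isZero _ _).1 hj⟩

end

end Groth.Agent.Helper3.LimMono
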