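import Mathlib
import Groth.Agent.S4797
import Groth.Agent.Lib.Helper3.LimMono1

/-! Exactness of pullbacks of sequences of modules to a limit of schemes with flat affine
transition maps (helper3): S4840. -/

set_option autoImplicit false
set_option backward.isDefEq.respectTransparency.types false
set_option synthInstance.maxHeartbeats 400000
set_option linter.style.haveILetI false
universe u v v' u'

open AlgebraicGeometry CategoryTheory CategoryTheory.Limits TopologicalSpace

namespace Groth.Agent.Helper3.LimMono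

open Groth.Agent.Lib.Helper5.StalkAdj

section Abstract

variable {C : Type u'} [Category.{v} C] [Abelian C] {E : Type u} [Category.{v'} E] [Abelian E]
  (P : C ⥤ E) [P.Additive] [PreservesFiniteLimits P] [PreservesFiniteColimits P]

/-- an exact functor sends `F → G → H` to an exact complex iff it kills the two obstruction maps
`im f → H` and `ker g → coker f` -/
theorem exact_map_iff {F G H : C} (f : F ⟶ G) (g : G ⟶ H) :
    (∃ w : P.map f ≫ P.map g = 0, (ShortComplex.mk _ _ w).Exact) ↔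
      P.map (Limits.image.ι f ≫ g) = 0 ∧ P.map (kernel.ι g ≫ cokernel.π f) = 0 := by
  have hfac : P.map f ≫ P.map g = P.map (factorThruImage f) ≫ P.map (Limits.image.ι f ≫ g) := by
    rw [← P.map_comp, ← P.map_comp, ← Category.assoc, Limits.image.fac]
  have hkc : kernel.ι (P.map g) ≫ cokernel.π (P.map f) =
      (PreservesKernel.iso P g).inv ≫ P.map (kernel.ι g ≫ cokernel.π f) ≫
        (PreservesCokernel.iso P f).hom := by
    rw [Iso.eq_inv_comp, PreservesKernel.iso_hom, ← Category.assoc, kernelComparison_comp_ι,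
      ← Iso.comp_inv_eq, PreservesCokernel.iso_inv, Category.assoc, π_comp_cokernelComparison,
      P.map_comp]
  constructor
  · rintro ⟨w, hex⟩
    constructor
    · rw [hfac] at w
      haveI : Epi (P.map (factorThruImage f)) := inferInstance
      exact (cancel_epi (P.map (factorThruImage f))).1 (w.trans comp_zero.symm)
    · rw [ShortComplex.exact_iff_kernel_ι_comp_cokernel_π_zero] at hex
      have h1 : kernel.ι (P.map g) ≫ cokernel.π (P.map f) = 0 := hex
      rw [hkc] at h1
      have h2 := congrArg (fun t => (PreservesKernel.iso P g).hom ≫ t ≫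
        (PreservesCokernel.iso P f).inv) h1
      simpa using h2
  · rintro ⟨h1, h2⟩
    have w : P.map f ≫ P.map g = 0 := by rw [hfac, h1, comp_zero]
    refine ⟨w, ?_⟩
    rw [ShortComplex.exact_iff_kernel_ι_comp_cokernel_π_zero]
    show kernel.ι (P.map g) ≫ cokernel.π (P.map f) = 0
    rw [hkc, h2, zero_comp, comp_zero]

end Abstract

/-- vanishing of the pullback of a morphism is preserved by further pullback -/
theorem pullback_map_eq_zero_of_comp {X Y Z : Scheme.{u}} (a : X ⟶ Y) (b : Y ⟶ Z) {M N : Z.Modules}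
    (h : M ⟶ N) (h0 : (Scheme.Modules.pullback b).map h = 0) :
    (Scheme.Modules.pullback (a ≫ b)).map h = 0 := by
  have hnat := (Scheme.Modules.pullbackComp a b).hom.naturality h
  have h1 : (Scheme.Modules.pullback b ⋙ Scheme.Modules.pullback a).map h = 0 := by
    show (Scheme.Modules.pullback a).map ((Scheme.Modules.pullback b).map h) = 0
    rw [h0, Functor.map_zero]
  rw [h1, zero_comp] at hnat
  have h2 := congrArg (fun t => (Scheme.Modules.pullbackComp a b).inv.app M ≫ t) hnat
  simpa using h2.symm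

section

variable {I : Type u} [SmallCategory I] [IsCofiltered I]
  (D : I ⥤ Scheme.{u}) (c : Limits.Cone D) (hc : Limits.IsLimit c)
  [∀ (i j : I) (f : i ⟶ j), IsAffineHom (D.map f)] (i₀ : I) [CompactSpace (D.obj i₀)]

include hc in
/-- a map from a finite type module whose pullback to the limit vanishes vanishes at some stage -/
theorem pullback_map_eq_zero_iff_eventually {M N : (D.obj i₀).Modules} [M.IsQuasicoherent]
    [N.IsQuasicoherent] (hM : CohB1.IsFT M) (h : M ⟶ N) :
    (Scheme.Modules.pullback (c.π.app i₀)).map h = 0 ↔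
      ∃ (j : I) (φ : j ⟶ i₀), (Scheme.Modules.pullback (D.map φ)).map h = 0 := by
  haveI : Coh.IsQCoh M := ‹M.IsQuasicoherent›
  haveI : Coh.IsQCoh N := ‹N.IsQuasicoherent›
  have key := Groth.Agent.S4797.result D c hc i₀ hM h 0
  rw [Functor.map_zero] at key
  rw [key]
  constructor
  · rintro ⟨j, φ, hj⟩
    rw [Functor.map_zero] at hj
    exact ⟨j, φ, hj⟩
  · rintro ⟨j, φ, hj⟩
    refine ⟨j, φ, ?_⟩
    rw [Functor.map_zero]
    exact hj

include hc in
theorem S4840_main [∀ (i j : I) (f : i ⟶ j), Flat (D.map f)]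
    {F₀ G₀ H₀ : (D.obj i₀).Modules} [F₀.IsQuasicoherent] [G₀.IsQuasicoherent] [H₀.IsQuasicoherent]
    (f₀ : F₀ ⟶ G₀) (g₀ : G₀ ⟶ H₀)
    (hIm : CohB1.IsFT (Limits.image f₀)) (hKer : CohB1.IsFT (Limits.kernel g₀)) :
    (∃ w : (Scheme.Modules.pullback (c.π.app i₀)).map f₀ ≫
        (Scheme.Modules.pullback (c.π.app i₀)).map g₀ = 0, (ShortComplex.mk _ _ w).Exact) ↔
      ∃ (j : I) (φ : j ⟶ i₀) (w : (Scheme.Modules.pullback (D.map φ)).map f₀ ≫
        (Scheme.Modules.pullback (D.map φ)).map g₀ = 0), (ShortComplex.mk _ _ w).Exact := by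
  haveI : (kernel g₀).IsQuasicoherent := Groth.Agent.Helper1.QcAbel.isQuasicoherent_kernel g₀
  haveI : (cokernel f₀).IsQuasicoherent := Groth.Agent.Helper1.QcAbel.isQuasicoherent_cokernel f₀
  haveI : (Abelian.image f₀).IsQuasicoherent := Groth.Agent.Helper1.QcAbel.isQuasicoherent_image f₀
  haveI : (Limits.image f₀).IsQuasicoherent :=
    Groth.Agent.Helper1.QcAbel.isQuasicoherent_of_iso (Abelian.imageIsoImage f₀)
  haveI : Flat (c.π.app i₀) := Groth.Agent.S4764.result D c hc i₀ fun j φ => inferInstance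
  rw [exact_map_iff, pullback_map_eq_zero_iff_eventually D c hc i₀ hIm,
    pullback_map_eq_zero_iff_eventually D c hc i₀ hKer]
  constructor
  · rintro ⟨⟨j₁, φ₁, h₁⟩, ⟨j₂, φ₂, h₂⟩⟩
    let j := IsCofiltered.min j₁ j₂
    let ψ₁ : j ⟶ j₁ := IsCofiltered.minToLeft j₁ j₂
    let ψ₂ : j ⟶ j₂ := IsCofiltered.minToRight j₁ j₂
    let j' := IsCofiltered.eq (ψ₁ ≫ φ₁) (ψ₂ ≫ φ₂)
    let ρ : j' ⟶ j := IsCofiltered.eqHom (ψ₁ ≫ φ₁) (ψ₂ ≫ φ₂)
    have hρ : ρ ≫ ψ₁ ≫ φ₁ = ρ ≫ ψ₂ ≫ φ₂ := IsCofiltered.eq_condition _ _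
    refine ⟨j', ρ ≫ ψ₁ ≫ φ₁, ?_⟩
    rw [exact_map_iff]
    constructor
    · have := pullback_map_eq_zero_of_comp (D.map (ρ ≫ ψ₁)) (D.map φ₁) _ h₁
      rw [← D.map_comp, Category.assoc] at this
      exact this
    · have := pullback_map_eq_zero_of_comp (D.map (ρ ≫ ψ₂)) (D.map φ₂) _ h₂
      rw [← D.map_comp, Category.assoc, ← hρ] at this
      exact this
  · rintro ⟨j, φ, h⟩
    rw [exact_map_iff] at h
    exact ⟨⟨j, φ, h.1⟩, ⟨j, φ, h.2⟩⟩

end

end Groth.Agent.Helper3.LimMono
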