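import Mathlib
import Groth.Agent.Lib.Helper3.LocCoh
import Groth.Agent.S0452

set_option autoImplicit false
universe u
open CategoryTheory Limits Opposite TopologicalSpace

namespace Groth.Agent.Helper3.LocCohFl

variable {X : TopCat.{u}}

/-- a morphism out of `ℤ_W` into a flasque sheaf extends to `ℤ_V` -/
lemma exists_extension (G : CohTop.Ab X) [TopCat.Sheaf.IsFlasque G] {W V : Opens X} (h : W ≤ V)
    (y : CohCx.freeSheaf (Opens.grothendieckTopology X) W ⟶ G) :
    ∃ y' : CohCx.freeSheaf (Opens.grothendieckTopology X) V ⟶ G,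
      CohCx.freeSheafMap (Opens.grothendieckTopology X) (homOfLE h) ≫ y' = y := by
  have hsurj : Function.Surjective (G.obj.map (homOfLE h).op).hom :=
    (AddCommGrpCat.epi_iff_surjective _).1 (TopCat.Presheaf.IsFlasque.epi _)
  obtain ⟨s, hs⟩ := hsurj (CohFree.evalGen (Opens.grothendieckTopology X) W G y)
  refine ⟨CohFree.ofSect (Opens.grothendieckTopology X) V G s, ?_⟩
  rw [← CohFree.ofSect_evalGen (Opens.grothendieckTopology X) W G (_ ≫ _),
    CohFree.evalGen_freeSheafMap_comp, CohFree.evalGen_ofSect, hs, CohFree.ofSect_evalGen]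

/-- cohomology with supports of a flasque sheaf vanishes in positive degrees -/
theorem HZ_subsingleton (G : CohTop.Ab X) [TopCat.Sheaf.IsFlasque G] {W V : Opens X} (h : W ≤ V)
    (i : ℕ) (hi : 0 < i) : Subsingleton (LocCohZ.HZ G i h) := by
  obtain ⟨n, rfl⟩ : ∃ n, i = n + 1 := ⟨i - 1, by omega⟩
  have hS := LocCohZ.zqSeq_shortExact h
  suffices H : ∀ x : LocCohZ.HZ G (n + 1) h, x = 0 from ⟨fun a b => by rw [H a, H b]⟩
  intro x₃
  have h1 : (Abelian.Ext.mk₀ (LocCohZ.zqSeq h).g).comp x₃ (zero_add (n + 1)) = 0 := by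
    have : Subsingleton (CohTop.HU G (n + 1) V) := Groth.Agent.S0452.result G V n
    exact Subsingleton.elim (α := CohTop.HU G (n + 1) V) _ _
  obtain ⟨x₁, hx₁⟩ := Abelian.Ext.contravariant_sequence_exact₃ hS G x₃ h1 (n₀ := n) (by omega)
  rcases n with _ | m
  · obtain ⟨y, rfl⟩ := (Abelian.Ext.mk₀_bijective _ _).2 x₁
    obtain ⟨y', hy'⟩ := exists_extension G h y
    have hy2 : Abelian.Ext.mk₀ y = (Abelian.Ext.mk₀ (LocCohZ.zqSeq h).f).comp (Abelian.Ext.mk₀ y')
        (zero_add 0) := by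
      rw [Abelian.Ext.mk₀_comp_mk₀]
      exact congrArg _ hy'.symm
    rw [← hx₁, hy2, ← Abelian.Ext.comp_assoc_of_second_deg_zero,
      hS.extClass_comp, Abelian.Ext.zero_comp]
    rfl
  · have : Subsingleton (CohTop.HU G (m + 1) W) := Groth.Agent.S0452.result G W m
    have hx0 : x₁ = 0 := Subsingleton.elim (α := CohTop.HU G (m + 1) W) _ _
    rw [← hx₁, hx0, Abelian.Ext.comp_zero]
    rfl

end Groth.Agent.Helper3.LocCohFl
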