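import Mathlib
import Groth.Agent.Lib.Helper3.LocCoh

set_option autoImplicit false
universe u
open CategoryTheory Limits Opposite TopologicalSpace

namespace Groth.Agent.Helper3.LocCohPush

section general

variable {X : TopCat.{u}}

/-- morphisms out of `ℤ_V/ℤ_W` are the sections over `V` vanishing on `W` -/
noncomputable def homEquiv (G : CohTop.Ab X) {W V : Opens X} (h : W ≤ V) :
    (LocCohZ.zq h ⟶ G) ≃+ LocCohZ.sectZ G h :=
  (Abelian.Ext.addEquiv₀ (X := LocCohZ.zq h) (Y := G)).symm.trans (LocCohZ.sect0Equiv G h)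

lemma homEquiv_val (G : CohTop.Ab X) {W V : Opens X} (h : W ≤ V) (x : LocCohZ.zq h ⟶ G) :
    (homEquiv G h x).1 = CohFree.evalGen (Opens.grothendieckTopology X) V G
      (cokernel.π (CohCx.freeSheafMap (Opens.grothendieckTopology X) (homOfLE h)) ≫ x) := by
  change CohFree.evalGen _ V G (cokernel.π _ ≫
    Abelian.Ext.addEquiv₀ (Abelian.Ext.addEquiv₀.symm x)) = _
  rw [AddEquiv.apply_symm_apply]

lemma homEquiv_comp {G G' : CohTop.Ab X} (ψ : G ⟶ G') {W V : Opens X} (h : W ≤ V)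
    (x : LocCohZ.zq h ⟶ G) :
    (homEquiv G' h (x ≫ ψ)).1 = (ψ.hom.app (op V)).hom (homEquiv G h x).1 := by
  rw [homEquiv_val, homEquiv_val, ← LocCoh.evalGen_comp, Category.assoc]

end general

variable {X Y : TopCat.{u}} (f : X ⟶ Y) (V : Opens Y)

/-- global sections of `f_* G` vanishing on `V` are global sections of `G` vanishing on `f⁻¹ V` -/
noncomputable def sectEquiv (G : CohTop.Ab X) :
    LocCohZ.sectZ ((CohTop.push f).obj G) (le_top : V ≤ ⊤) ≃+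
      LocCohZ.sectZ G (le_top : (Opens.map f).obj V ≤ ⊤) where
  toFun s := ⟨s.1, s.2⟩
  invFun s := ⟨s.1, s.2⟩
  left_inv _ := rfl
  right_inv _ := rfl
  map_add' _ _ := rfl

/-- `Hom(ℤ_Y/ℤ_V, f_* G) ≃ Hom(ℤ_X/ℤ_{f⁻¹V}, G)` -/
noncomputable def eqv (G : CohTop.Ab X) :
    (LocCohZ.zq (le_top : V ≤ ⊤) ⟶ (CohTop.push f).obj G) ≃+
      (LocCohZ.zq (le_top : (Opens.map f).obj V ≤ ⊤) ⟶ G) :=
  ((homEquiv ((CohTop.push f).obj G) (le_top : V ≤ ⊤)).trans (sectEquiv f V G)).trans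
    (homEquiv G (le_top : (Opens.map f).obj V ≤ ⊤)).symm

lemma homEquiv_eqv (G : CohTop.Ab X) (x : LocCohZ.zq (le_top : V ≤ ⊤) ⟶ (CohTop.push f).obj G) :
    (homEquiv G (le_top : (Opens.map f).obj V ≤ ⊤) (eqv f V G x)).1 =
      (homEquiv ((CohTop.push f).obj G) (le_top : V ≤ ⊤) x).1 := by
  change ((homEquiv G _) ((homEquiv G _).symm _)).1 = _
  rw [AddEquiv.apply_symm_apply]
  rfl

lemma eqv_naturality {G G' : CohTop.Ab X} (ψ : G ⟶ G')
    (x : LocCohZ.zq (le_top : V ≤ ⊤) ⟶ (CohTop.push f).obj G) :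
    eqv f V G' (x ≫ (CohTop.push f).map ψ) = eqv f V G x ≫ ψ := by
  apply (homEquiv G' (le_top : (Opens.map f).obj V ≤ ⊤)).injective
  apply Subtype.ext
  rw [homEquiv_eqv, homEquiv_comp, homEquiv_comp, homEquiv_eqv]
  rfl

/-- `Hom(ℤ_Y/ℤ_V, f_* -) ≅ Hom(ℤ_X/ℤ_{f⁻¹V}, -)` -/
noncomputable def compIso :
    CohTop.push f ⋙ preadditiveCoyoneda.obj (op (LocCohZ.zq (le_top : V ≤ ⊤))) ≅
      preadditiveCoyoneda.obj (op (LocCohZ.zq (le_top : (Opens.map f).obj V ≤ ⊤))) :=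
  NatIso.ofComponents (fun G => AddEquiv.toAddCommGrpIso
      (X := AddCommGrpCat.of (LocCohZ.zq (le_top : V ≤ ⊤) ⟶ (CohTop.push f).obj G))
      (Y := AddCommGrpCat.of (LocCohZ.zq (le_top : (Opens.map f).obj V ≤ ⊤) ⟶ G))
      (eqv f V G))
    (fun {G G'} ψ => by
      ext x
      exact eqv_naturality f V ψ x)

end Groth.Agent.Helper3.LocCohPush
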