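import Mathlib
import Groth.Prelude.Def_SuppFam
import Groth.Agent.Lib.Helper3.LocCoh
import Groth.Agent.Lib.Helper3.LocCohPush
import Groth.Agent.Lib.Helper3.ShHom
import Groth.Agent.Lib.Helper3.CohPre

/-!
# Local cohomology sheaves with supports in a locally closed subset (helper3)

`ℋ^q_Z(F)`, `Z = V ∖ W`, is the sheaf associated to `V' ↦ H^q_{Z ∩ V'}(V', F)`.
-/

set_option autoImplicit false
universe u
open CategoryTheory Limits Opposite TopologicalSpace

namespace Groth.Agent.Helper3.LocCohLC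

open Groth.Agent.Lib.Helper6

variable {X : TopCat.{u}} {W V : Opens X} (h : W ≤ V)

/-- the open `V' ∩ V` of the subspace `V` -/
abbrev O (V V' : Opens X) : Opens (TopCat.of V) := (Opens.map (CohCx.incl V)).obj V'

/-- image in `X` of an open of the subspace `V` -/
noncomputable abbrev im (O' : Opens (TopCat.of V)) : Opens X :=
  V.isOpenEmbedding.isOpenMap.functor.obj O'

lemma im_O (V' : Opens X) : im (O V V') = V ⊓ V' := by
  ext x
  constructor
  · rintro ⟨y, hy, rfl⟩
    exact ⟨y.2, hy⟩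
  · rintro ⟨hx, hx'⟩
    exact ⟨⟨x, hx⟩, hx', rfl⟩

include h in
lemma im_O_inf (V' : Opens X) : im (O V V' ⊓ SuppFam.inOpen V W) = W ⊓ V' := by
  ext x
  constructor
  · rintro ⟨y, ⟨hy, hy'⟩, rfl⟩
    exact ⟨hy', hy⟩
  · rintro ⟨hx, hx'⟩
    exact ⟨⟨x, h hx⟩, ⟨hx', hx⟩, rfl⟩

/-- functoriality over a thin category -/
lemma thin (G : CohTop.Ab X) {A B C : (Opens X)ᵒᵖ} (f : A ⟶ B) (g : B ⟶ C) (k : A ⟶ C)
    (s : G.obj.obj A) :
    (G.obj.map g).hom ((G.obj.map f).hom s) = (G.obj.map k).hom s := by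
  have hk : f ≫ g = k := by
    apply Quiver.Hom.unop_inj
    exact Subsingleton.elim _ _
  rw [← hk, G.obj.map_comp]
  rfl

section tr

variable (G : CohTop.Ab X) (V' : Opens X)

/-- sections of `G|_V` over `V' ∩ V` vanishing on `W ∩ V'` are sections of `G` over `V ⊓ V'`
vanishing on `W ⊓ V'` -/
noncomputable def tr :
    LocCohZ.sectZ ((CohTop.restrFunctor V).obj G)
        (inf_le_left : O V V' ⊓ SuppFam.inOpen V W ≤ O V V') ≃+
      LocCohZ.sectZ G (inf_le_inf_right V' h : W ⊓ V' ≤ V ⊓ V') where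
  toFun s := ⟨(G.obj.map (homOfLE (le_of_eq (im_O V').symm)).op).hom
      (show G.obj.obj (op (im (O V V'))) from s.1), by
    rw [AddMonoidHom.mem_ker]
    have hs : (G.obj.map (V.isOpenEmbedding.isOpenMap.functor.map
        (homOfLE (inf_le_left : O V V' ⊓ SuppFam.inOpen V W ≤ O V V'))).op).hom
          (show G.obj.obj (op (im (O V V'))) from s.1) = 0 := s.2
    have hle : W ⊓ V' ≤ im (O V V') :=
      (inf_le_inf_right V' h).trans (le_of_eq (im_O V').symm)
    have e1 := thin G (homOfLE (le_of_eq (im_O V').symm)).op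
      (homOfLE (inf_le_inf_right V' h)).op (homOfLE hle).op
      (show G.obj.obj (op (im (O V V'))) from s.1)
    have e2 := thin G (V.isOpenEmbedding.isOpenMap.functor.map
        (homOfLE (inf_le_left : O V V' ⊓ SuppFam.inOpen V W ≤ O V V'))).op
      (homOfLE (le_of_eq (im_O_inf h V').symm)).op (homOfLE hle).op
      (show G.obj.obj (op (im (O V V'))) from s.1)
    exact e1.trans (e2.symm.trans ((congrArg _ hs).trans (map_zero _)))⟩
  invFun t := ⟨(G.obj.map (homOfLE (le_of_eq (im_O V'))).op).hom t.1, by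
    rw [AddMonoidHom.mem_ker]
    have ht : (G.obj.map (homOfLE (inf_le_inf_right V' h)).op).hom t.1 = 0 := t.2
    have hle : im (O V V' ⊓ SuppFam.inOpen V W) ≤ V ⊓ V' :=
      (le_of_eq (im_O_inf h V')).trans (inf_le_inf_right V' h)
    have e1 := thin G (homOfLE (le_of_eq (im_O V'))).op
      (V.isOpenEmbedding.isOpenMap.functor.map
        (homOfLE (inf_le_left : O V V' ⊓ SuppFam.inOpen V W ≤ O V V'))).op (homOfLE hle).op t.1
    have e2 := thin G (homOfLE (inf_le_inf_right V' h)).op
      (homOfLE (le_of_eq (im_O_inf h V'))).op (homOfLE hle).op t.1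
    exact e1.trans (e2.symm.trans ((congrArg _ ht).trans (map_zero _)))⟩
  left_inv s := by
    apply Subtype.ext
    have e1 := thin G (homOfLE (le_of_eq (im_O V').symm)).op (homOfLE (le_of_eq (im_O V'))).op
      (𝟙 _) (show G.obj.obj (op (im (O V V'))) from s.1)
    refine e1.trans ?_
    rw [G.obj.map_id]
    rfl
  right_inv t := by
    apply Subtype.ext
    have e1 := thin G (homOfLE (le_of_eq (im_O V'))).op (homOfLE (le_of_eq (im_O V').symm)).op
      (𝟙 _) t.1
    refine e1.trans ?_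
    rw [G.obj.map_id]
    rfl
  map_add' a b := Subtype.ext (map_add _ _ _)

lemma tr_symm_val (t : LocCohZ.sectZ G (inf_le_inf_right V' h : W ⊓ V' ≤ V ⊓ V')) :
    ((tr h G V').symm t).1 = (G.obj.map (homOfLE (le_of_eq (im_O V'))).op).hom t.1 := rfl

/-- morphisms out of `ℤ_{V ⊓ V'}/ℤ_{W ⊓ V'}` are the sections of `Γ_Z(G)` over `V'` -/
noncomputable def e' : (LocCohZ.zq (inf_le_inf_right V' h : W ⊓ V' ≤ V ⊓ V') ⟶ G) ≃+
    ((SuppFam.sectSuppLC h).obj G).obj.obj (op V') :=
  (LocCohPush.homEquiv G (inf_le_inf_right V' h)).trans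
    ((tr h G V').symm.trans
      (LocCoh.e2V (SuppFam.inOpen V W) ((CohTop.restrFunctor V).obj G) (O V V')).symm)

lemma e'_ι (x : LocCohZ.zq (inf_le_inf_right V' h : W ⊓ V' ≤ V ⊓ V') ⟶ G) :
    ((kernel.ι (SectSupp.η (SuppFam.inOpen V W) ((CohTop.restrFunctor V).obj G))).hom.app
        (op (O V V'))).hom (e' h G V' x) =
      (G.obj.map (homOfLE (le_of_eq (im_O V'))).op).hom
        (CohFree.evalGen (Opens.grothendieckTopology X) (V ⊓ V') G
          (cokernel.π (CohCx.freeSheafMap (Opens.grothendieckTopology X)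
            (homOfLE (inf_le_inf_right V' h))) ≫ x)) := by
  rw [← LocCohPush.homEquiv_val, ← tr_symm_val]
  change ((LocCoh.e2V (SuppFam.inOpen V W) ((CohTop.restrFunctor V).obj G) (O V V'))
    ((LocCoh.e2V (SuppFam.inOpen V W) ((CohTop.restrFunctor V).obj G) (O V V')).symm _)).1 = _
  rw [AddEquiv.apply_symm_apply]
  rfl

end tr

lemma e'_nat {G G' : CohTop.Ab X} (φ : G ⟶ G') (V' : Opens X)
    (x : LocCohZ.zq (inf_le_inf_right V' h : W ⊓ V' ≤ V ⊓ V') ⟶ G) :
    e' h G' V' (x ≫ φ) = (((SuppFam.sectSuppLC h).map φ).hom.app (op V')).hom (e' h G V' x) := by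
  apply SectSupp.ι_injective
    (SectSupp.η (SuppFam.inOpen V W) ((CohTop.restrFunctor V).obj G')) (O V V')
  refine (e'_ι h G' V' (x ≫ φ)).trans ?_
  refine Eq.trans ?_ (LocCoh.ι_mapV (SuppFam.inOpen V W) ((CohTop.restrFunctor V).map φ) (O V V')
    (e' h G V' x)).symm
  rw [e'_ι, ← Category.assoc, LocCoh.evalGen_comp]
  exact (ConcreteCategory.congr_hom (φ.hom.naturality (homOfLE (le_of_eq (im_O V'))).op) _).symm

lemma e'_res (G : CohTop.Ab X) {V' V'' : Opens X} (g : V'' ⟶ V')
    (x : LocCohZ.zq (inf_le_inf_right V' h : W ⊓ V' ≤ V ⊓ V') ⟶ G) :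
    e' h G V'' (LocCohZ.zqMap (inf_le_inf_right V' h) (inf_le_inf_right V'' h)
        (inf_le_inf_left W (leOfHom g)) (inf_le_inf_left V (leOfHom g)) ≫ x) =
      (((SuppFam.sectSuppLC h).obj G).obj.map g.op).hom (e' h G V' x) := by
  apply SectSupp.ι_injective
    (SectSupp.η (SuppFam.inOpen V W) ((CohTop.restrFunctor V).obj G)) (O V V'')
  refine (e'_ι h G V'' _).trans ?_
  have hnat := ConcreteCategory.congr_hom
    ((kernel.ι (SectSupp.η (SuppFam.inOpen V W) ((CohTop.restrFunctor V).obj G))).hom.naturality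
      ((Opens.map (CohCx.incl V)).map g).op) (e' h G V' x)
  refine Eq.trans ?_ hnat.symm
  rw [ConcreteCategory.comp_apply, e'_ι]
  have hπ : cokernel.π (CohCx.freeSheafMap (Opens.grothendieckTopology X)
        (homOfLE (inf_le_inf_right V'' h))) ≫
      LocCohZ.zqMap (inf_le_inf_right V' h) (inf_le_inf_right V'' h)
        (inf_le_inf_left W (leOfHom g)) (inf_le_inf_left V (leOfHom g)) =
      CohCx.freeSheafMap (Opens.grothendieckTopology X) (homOfLE (inf_le_inf_left V (leOfHom g))) ≫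
        cokernel.π (CohCx.freeSheafMap (Opens.grothendieckTopology X)
          (homOfLE (inf_le_inf_right V' h))) := by
    simp only [LocCohZ.zqMap, cokernel.map, cokernel.π_desc]
  rw [← Category.assoc, hπ, Category.assoc, CohFree.evalGen_freeSheafMap_comp]
  have hle : im (O V V'') ≤ V ⊓ V' :=
    (le_of_eq (im_O V'')).trans (inf_le_inf_left V (leOfHom g))
  have e1 := thin G (homOfLE (inf_le_inf_left V (leOfHom g))).op
    (homOfLE (le_of_eq (im_O V''))).op (homOfLE hle).op
    (CohFree.evalGen (Opens.grothendieckTopology X) (V ⊓ V') G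
      (cokernel.π (CohCx.freeSheafMap (Opens.grothendieckTopology X)
        (homOfLE (inf_le_inf_right V' h))) ≫ x))
  have e2 := thin G (homOfLE (le_of_eq (im_O V'))).op
    (V.isOpenEmbedding.isOpenMap.functor.map ((Opens.map (CohCx.incl V)).map g)).op
    (homOfLE hle).op
    (CohFree.evalGen (Opens.grothendieckTopology X) (V ⊓ V') G
      (cokernel.π (CohCx.freeSheafMap (Opens.grothendieckTopology X)
        (homOfLE (inf_le_inf_right V' h))) ≫ x))
  exact e1.trans e2.symm

section complexes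

variable {F : CohTop.Ab X} (I : InjectiveResolution F)

/-- `Γ_Z` applied to an injective resolution -/
noncomputable abbrev L : CochainComplex (CohTop.Ab X) ℕ :=
  ((SuppFam.sectSuppLC h).mapHomologicalComplex _).obj I.cocomplex

/-- the underlying complex of presheaves -/
noncomputable abbrev KP : CochainComplex ((Opens X)ᵒᵖ ⥤ AddCommGrpCat.{u}) ℕ :=
  ((sheafToPresheaf (Opens.grothendieckTopology X) AddCommGrpCat.{u}).mapHomologicalComplex _).obj
    (L h I)

/-- its sections over `V'` -/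
noncomputable abbrev KV (V' : Opens X) : CochainComplex AddCommGrpCat.{u} ℕ :=
  (((evaluation (Opens X)ᵒᵖ AddCommGrpCat.{u}).obj (op V')).mapHomologicalComplex _).obj (KP h I)

/-- restriction of sections -/
noncomputable abbrev res {V' V'' : Opens X} (g : V'' ⟶ V') : KV h I V' ⟶ KV h I V'' :=
  (NatTrans.mapHomologicalComplex ((evaluation (Opens X)ᵒᵖ AddCommGrpCat.{u}).map g.op) _).app
    (KP h I)

noncomputable def e (V' : Opens X) (n : ℕ) :
    (LocCohZ.zq (inf_le_inf_right V' h : W ⊓ V' ≤ V ⊓ V') ⟶ I.cocomplex.X n) ≃+ (KV h I V').X n :=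
  e' h (I.cocomplex.X n) V'

lemma he (V' : Opens X) (n : ℕ)
    (f : LocCohZ.zq (inf_le_inf_right V' h : W ⊓ V' ≤ V ⊓ V') ⟶ I.cocomplex.X n) :
    e h I V' (n + 1) (f ≫ I.cocomplex.d n (n + 1)) = (KV h I V').d n (n + 1) (e h I V' n f) :=
  e'_nat h (I.cocomplex.d n (n + 1)) V' f

lemma hc {V' V'' : Opens X} (g : V'' ⟶ V') (n : ℕ)
    (f : LocCohZ.zq (inf_le_inf_right V' h : W ⊓ V' ≤ V ⊓ V') ⟶ I.cocomplex.X n) :
    e h I V'' n (LocCohZ.zqMap (inf_le_inf_right V' h) (inf_le_inf_right V'' h)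
        (inf_le_inf_left W (leOfHom g)) (inf_le_inf_left V (leOfHom g)) ≫ f) =
      (res h I g).f n (e h I V' n f) :=
  e'_res h (I.cocomplex.X n) g f

/-- cohomology of the sections over `V'` of `Γ_Z(I^•)` is cohomology with supports -/
noncomputable def cZ (V' : Opens X) (q : ℕ) :
    (KV h I V').homology q ≅
      AddCommGrpCat.of (LocCohZ.HZ F q (inf_le_inf_right V' h : W ⊓ V' ≤ V ⊓ V')) :=
  ExtInj.homologyIso I (LocCohZ.zq (inf_le_inf_right V' h : W ⊓ V' ≤ V ⊓ V')) (KV h I V')
    (e h I V') (he h I V') q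

lemma cZ_naturality {V' V'' : Opens X} (g : V'' ⟶ V') (q : ℕ) :
    HomologicalComplex.homologyMap (res h I g) q ≫ (cZ h I V'' q).hom =
      (cZ h I V' q).hom ≫ AddCommGrpCat.ofHom
        ((Abelian.Ext.mk₀ (LocCohZ.zqMap (inf_le_inf_right V' h) (inf_le_inf_right V'' h)
          (inf_le_inf_left W (leOfHom g)) (inf_le_inf_left V (leOfHom g)))).precomp F (zero_add q)) :=
  ExtInj.homologyIso_naturality I _ (res h I g) (e h I V') (he h I V')
    (e h I V'') (he h I V'') (hc h I g) q

/-- the cohomology presheaf of `Γ_Z(I^•)` is the presheaf of cohomology with supports -/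
noncomputable def presheafIsoZ (q : ℕ) : (KP h I).homology q ≅ SuppFam.HZpre F q h :=
  NatIso.ofComponents (fun U => (CohPre.evH (KP h I) U.unop q).symm ≪≫ cZ h I U.unop q) (by
    intro U V'' φ
    obtain ⟨g, rfl⟩ : ∃ g : V''.unop ⟶ U.unop, φ = g.op := ⟨φ.unop, rfl⟩
    have h1 := CohPre.evH_naturality (KP h I) g q
    have h2 := cZ_naturality h I g q
    have h3 : (CohPre.evH (KP h I) U.unop q).inv ≫ HomologicalComplex.homologyMap (res h I g) q =
        ((KP h I).homology q).map g.op ≫ (CohPre.evH (KP h I) V''.unop q).inv := by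
      rw [Iso.inv_comp_eq, ← Category.assoc, Iso.eq_comp_inv]
      exact h1
    have h4 : (SuppFam.HZpre F q h).map g.op = AddCommGrpCat.ofHom
        ((Abelian.Ext.mk₀ (LocCohZ.zqMap (inf_le_inf_right U.unop h) (inf_le_inf_right V''.unop h)
          (inf_le_inf_left W (leOfHom g)) (inf_le_inf_left V (leOfHom g)))).precomp F
            (zero_add q)) := rfl
    change ((KP h I).homology q).map g.op ≫
      ((CohPre.evH (KP h I) V''.unop q).inv ≫ (cZ h I V''.unop q).hom) =
      ((CohPre.evH (KP h I) U.unop q).inv ≫ (cZ h I U.unop q).hom) ≫ (SuppFam.HZpre F q h).map g.op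
    exact (Category.assoc _ _ _).symm.trans ((congrArg (· ≫ (cZ h I V''.unop q).hom) h3.symm).trans
      ((Category.assoc _ _ _).trans ((congrArg ((CohPre.evH (KP h I) U.unop q).inv ≫ ·) h2).trans
        ((Category.assoc _ _ _).symm.trans (congrArg (_ ≫ ·) h4.symm))))))

end complexes

/-- **the local cohomology sheaf with supports in a locally closed subset is the sheaf associated
to the presheaf of cohomology groups with supports** -/
theorem main (F : CohTop.Ab X) (q : ℕ) :
    Nonempty ((SuppFam.HZshLC h q).obj F ≅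
      (presheafToSheaf (Opens.grothendieckTopology X) AddCommGrpCat.{u}).obj
        (SuppFam.HZpre F q h)) :=
  ⟨(injectiveResolution F).isoRightDerivedObj (SuppFam.sectSuppLC h) q ≪≫
    ShHom.homologyIsoSheafify (Opens.grothendieckTopology X) _ q ≪≫
    (presheafToSheaf (Opens.grothendieckTopology X) AddCommGrpCat.{u}).mapIso
      (presheafIsoZ h (injectiveResolution F) q)⟩

end Groth.Agent.Helper3.LocCohLC
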