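import Mathlib
import Groth.Prelude.Def_LocCohZ

set_option autoImplicit false
universe u
open CategoryTheory CategoryTheory.Limits TopologicalSpace Opposite

namespace Groth.Agent.Helper3.LocCohLES

variable {X : TopCat.{u}} (F : CohTop.Ab X) {W V : Opens X} (h : W ≤ V)

lemma res_apply (i : ℕ) (x : CohTop.HU F i V) :
    CohTop.res F i h x =
      (Abelian.Ext.mk₀ (LocCohZ.zqSeq h).f).comp (show Abelian.Ext (LocCohZ.zqSeq h).X₂ F i from x)
        (zero_add i) := rfl

lemma res_injective_of_subsingleton (i : ℕ) (hi : Subsingleton (LocCohZ.HZ F i h)) :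
    Function.Injective (CohTop.res F i h) := by
  have hS := LocCohZ.zqSeq_shortExact h
  rw [injective_iff_map_eq_zero]
  intro x hx
  rw [res_apply] at hx
  obtain ⟨x₃, hx₃⟩ := Abelian.Ext.contravariant_sequence_exact₂ hS F _ hx
  have h0 : x₃ = 0 := Subsingleton.elim (α := LocCohZ.HZ F i h) _ _
  rw [← hx₃, h0, Abelian.Ext.comp_zero]
  rfl

lemma res_surjective_of_subsingleton (i : ℕ) (hi : Subsingleton (LocCohZ.HZ F (i + 1) h)) :
    Function.Surjective (CohTop.res F i h) := by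
  have hS := LocCohZ.zqSeq_shortExact h
  intro x₁
  have h0 : hS.extClass.comp (show Abelian.Ext (LocCohZ.zqSeq h).X₁ F i from x₁)
      (by omega : 1 + i = i + 1) = 0 :=
    Subsingleton.elim (α := LocCohZ.HZ F (i + 1) h) _ _
  obtain ⟨x₂, hx₂⟩ := Abelian.Ext.contravariant_sequence_exact₁ hS F _ _ h0
  exact ⟨x₂, hx₂⟩

lemma subsingleton_zero (h0 : Function.Injective (CohTop.res F 0 h)) :
    Subsingleton (LocCohZ.HZ F 0 h) := by
  have hS := LocCohZ.zqSeq_shortExact h
  suffices H : ∀ x : LocCohZ.HZ F 0 h, x = 0 from ⟨fun a b => by rw [H a, H b]⟩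
  intro x₃
  have h1 : CohTop.res F 0 h ((Abelian.Ext.mk₀ (LocCohZ.zqSeq h).g).comp x₃ (zero_add 0)) = 0 := by
    rw [res_apply]
    change (Abelian.Ext.mk₀ (LocCohZ.zqSeq h).f).comp
      ((Abelian.Ext.mk₀ (LocCohZ.zqSeq h).g).comp x₃ (zero_add 0)) (zero_add 0) = 0
    rw [← Abelian.Ext.comp_assoc_of_second_deg_zero, Abelian.Ext.mk₀_comp_mk₀, (LocCohZ.zqSeq h).zero,
      Abelian.Ext.mk₀_zero, Abelian.Ext.zero_comp]
  have h2 : (Abelian.Ext.mk₀ (LocCohZ.zqSeq h).g).comp x₃ (zero_add 0) = 0 :=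
    h0 (h1.trans (map_zero _).symm)
  have := hS.epi_g
  apply Abelian.Ext.precomp_mk₀_injective_of_epi F (LocCohZ.zqSeq h).g
  refine Eq.trans (b := (0 : Abelian.Ext (LocCohZ.zqSeq h).X₂ F 0)) h2 ?_
  exact (Abelian.Ext.comp_zero _ _ _ _ (zero_add 0)).symm

lemma subsingleton_succ (i : ℕ) (hs : Function.Surjective (CohTop.res F i h))
    (hi : Function.Injective (CohTop.res F (i + 1) h)) :
    Subsingleton (LocCohZ.HZ F (i + 1) h) := by
  have hS := LocCohZ.zqSeq_shortExact h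
  suffices H : ∀ x : LocCohZ.HZ F (i + 1) h, x = 0 from ⟨fun a b => by rw [H a, H b]⟩
  intro x₃
  have h1 : CohTop.res F (i + 1) h
      ((Abelian.Ext.mk₀ (LocCohZ.zqSeq h).g).comp x₃ (zero_add (i + 1))) = 0 := by
    rw [res_apply]
    change (Abelian.Ext.mk₀ (LocCohZ.zqSeq h).f).comp
      ((Abelian.Ext.mk₀ (LocCohZ.zqSeq h).g).comp x₃ (zero_add (i + 1))) (zero_add (i + 1)) = 0
    rw [← Abelian.Ext.comp_assoc_of_second_deg_zero, Abelian.Ext.mk₀_comp_mk₀, (LocCohZ.zqSeq h).zero,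
      Abelian.Ext.mk₀_zero, Abelian.Ext.zero_comp]
  have h2 : (Abelian.Ext.mk₀ (LocCohZ.zqSeq h).g).comp x₃ (zero_add (i + 1)) = 0 :=
    hi (h1.trans (map_zero _).symm)
  obtain ⟨x₁, hx₁⟩ := Abelian.Ext.contravariant_sequence_exact₃ hS F x₃ h2 (n₀ := i) (by omega)
  obtain ⟨x₂, hx₂⟩ := hs x₁
  rw [← hx₁, ← hx₂, res_apply, ← Abelian.Ext.comp_assoc_of_second_deg_zero, hS.extClass_comp,
    Abelian.Ext.zero_comp]
  rfl

/-- `H^{i+1}_Z(V, F) ⟶ H^{i+1}(V, F)` is injective if `H^i(V, F) ⟶ H^i(W, F)` is surjective -/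
lemma toHU_injective_of_res_surjective (i : ℕ) (hs : Function.Surjective (CohTop.res F i h)) :
    Function.Injective ((Abelian.Ext.mk₀ (cokernel.π (CohCx.freeSheafMap
      (Opens.grothendieckTopology X) (homOfLE h)))).precomp F (zero_add (i + 1))) := by
  have hS := LocCohZ.zqSeq_shortExact h
  rw [injective_iff_map_eq_zero]
  intro x₃ h2
  obtain ⟨x₁, hx₁⟩ := Abelian.Ext.contravariant_sequence_exact₃ hS F x₃ h2 (n₀ := i) (by omega)
  obtain ⟨x₂, hx₂⟩ := hs x₁
  rw [← hx₁, ← hx₂, res_apply, ← Abelian.Ext.comp_assoc_of_second_deg_zero, hS.extClass_comp,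
    Abelian.Ext.zero_comp]
  rfl

/-- vanishing of cohomology with supports up to degree `N` in terms of restriction maps -/
theorem subsingleton_iff (N : ℕ) :
    (∀ i : ℕ, i ≤ N → Subsingleton (LocCohZ.HZ F i h)) ↔
      (∀ i : ℕ, i < N → Function.Bijective (CohTop.res F i h)) ∧
        Function.Injective (CohTop.res F N h) := by
  constructor
  · intro H
    refine ⟨fun i hi => ⟨res_injective_of_subsingleton F h i (H i hi.le),
      res_surjective_of_subsingleton F h i (H (i + 1) hi)⟩,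
      res_injective_of_subsingleton F h N (H N le_rfl)⟩
  · rintro ⟨H1, H2⟩ i hi
    have hinj : ∀ j, j ≤ N → Function.Injective (CohTop.res F j h) := by
      intro j hj
      rcases hj.lt_or_eq with h' | h'
      · exact (H1 j h').1
      · exact h' ▸ H2
    rcases i with _ | i
    · exact subsingleton_zero F h (hinj 0 hi)
    · exact subsingleton_succ F h i (H1 i (by omega)).2 (hinj (i + 1) hi)

end Groth.Agent.Helper3.LocCohLES
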