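import Mathlib
import Groth.Prelude.Def_LocCohZ
import Groth.Agent.Lib.Helper3.LocCohMod2
import Groth.Agent.Lib.Helper1.CovVan
import Groth.Agent.Lib.Helper1.RpushZero
import Groth.Agent.Lib.Helper1.QcsLoc

set_option autoImplicit false
universe u
open CategoryTheory CategoryTheory.Limits TopologicalSpace Opposite AlgebraicGeometry

namespace Groth.Agent.Helper3.LocCohMod

open Groth.Agent.Helper1

variable {X : Scheme.{u}}

/-- if `T = X ∖ U` is cut out in `V` by the functions `fs`, then `V' ∩ U` is the union of the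
basic opens of the `fs` in `V'`, for `V' ≤ V` -/
lemma inf_eq_iSup (U V V' : X.Opens) (fs : Finset Γ(X, V)) (hV' : V' ≤ V)
    (h : X.zeroLocus (U := V) (↑fs : Set Γ(X, V)) ∩ (V : Set ↥X) = (U : Set ↥X)ᶜ ∩ (V : Set ↥X)) :
    V' ⊓ U = ⨆ f : fs, V' ⊓ X.basicOpen f.1 := by
  ext y
  simp only [Opens.coe_inf, Set.mem_inter_iff, SetLike.mem_coe, Opens.coe_iSup, Set.mem_iUnion]
  constructor
  · rintro ⟨hy, hyU⟩
    have hyV : y ∈ V := hV' hy
    have h1 : y ∉ X.zeroLocus (U := V) (↑fs : Set Γ(X, V)) := by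
      intro hz
      have h2 : y ∈ (U : Set ↥X)ᶜ ∩ (V : Set ↥X) := by
        rw [← h]
        exact ⟨hz, hyV⟩
      exact h2.1 hyU
    rw [Scheme.mem_zeroLocus_iff] at h1
    push Not at h1
    obtain ⟨f, hf, hyf⟩ := h1
    exact ⟨⟨f, hf⟩, hy, hyf⟩
  · rintro ⟨f, hy, hyf⟩
    refine ⟨hy, ?_⟩
    by_contra hyU
    have h2 : y ∈ X.zeroLocus (U := V) (↑fs : Set Γ(X, V)) ∩ (V : Set ↥X) := by
      rw [h]
      exact ⟨hyU, hV' hy⟩
    exact (X.mem_zeroLocus_iff _ y).1 h2.1 f.1 f.2 hyf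

lemma isAffineOpen_inf_basicOpen {V V' : X.Opens} (hV' : V' ≤ V) (hV'aff : IsAffineOpen V')
    (f : Γ(X, V)) : IsAffineOpen (V' ⊓ X.basicOpen f) := by
  rw [← Scheme.basicOpen_res X f (homOfLE hV').op]
  exact hV'aff.basicOpen _

/-- vanishing of the cohomology of `j^* F` over `j⁻¹ V'` in degrees `≥ c`, `≥ 1` -/
theorem subsingleton_HU_preimage (U : X.Opens) (F : X.Modules) [F.IsQuasicoherent]
    (V V' : X.Opens) (fs : Finset Γ(X, V)) (hV' : V' ≤ V) (hV'aff : IsAffineOpen V')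
    (h : X.zeroLocus (U := V) (↑fs : Set Γ(X, V)) ∩ (V : Set ↥X) = (U : Set ↥X)ᶜ ∩ (V : Set ↥X))
    (p : ℕ) (hp : fs.card ≤ p) (hp1 : 1 ≤ p) :
    Subsingleton (CohTop.HU (Coh.toAb ((Scheme.Modules.restrictFunctor U.ι).obj F)) p
      ((Opens.map U.ι.base).obj V')) := by
  haveI : ((Scheme.Modules.restrictFunctor U.ι).obj F).IsQuasicoherent := inferInstance
  let 𝒜 : Set (U : Scheme.{u}).Opens :=
    {O | ∃ W : X.Opens, IsAffineOpen W ∧ W ≤ V' ∧ W ≤ U ∧ O = U.ι ⁻¹ᵁ W}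
  have hA : ∀ O ∈ 𝒜, IsAffineOpen O := by
    rintro O ⟨W, hW, -, hWU, rfl⟩
    exact hW.preimage_of_isOpenImmersion U.ι (by rw [Scheme.Opens.opensRange_ι]; exact hWU)
  have hinf : ∀ O ∈ 𝒜, ∀ O' ∈ 𝒜, O ⊓ O' ∈ 𝒜 := by
    rintro O ⟨W, hW, hWV', hWU, rfl⟩ O' ⟨W', hW', hW'V', hW'U, rfl⟩
    exact ⟨W ⊓ W', CovVan.inf_affine_of_le hV'aff hWV' hW'V' hW hW', inf_le_left.trans hWV',
      inf_le_left.trans hWU, rfl⟩
  have hpre : (Opens.map U.ι.base).obj V' = ⨆ f : fs, U.ι ⁻¹ᵁ (V' ⊓ X.basicOpen f.1) := by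
    have h1 : (Opens.map U.ι.base).obj V' = U.ι ⁻¹ᵁ (V' ⊓ U) := by
      ext y
      simp only [Scheme.Hom.coe_preimage, Opens.coe_inf, Set.mem_preimage, Set.mem_inter_iff,
        SetLike.mem_coe]
      constructor
      · intro hy
        exact ⟨hy, y.2⟩
      · intro hy
        exact hy.1
    rw [h1, inf_eq_iSup U V V' fs hV' h, Scheme.Hom.preimage_iSup]
  rw [hpre]
  have hmem : ∀ f : fs, U.ι ⁻¹ᵁ (V' ⊓ X.basicOpen f.1) ∈ 𝒜 := by
    intro f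
    refine ⟨V' ⊓ X.basicOpen f.1, isAffineOpen_inf_basicOpen hV' hV'aff f.1, inf_le_left, ?_, rfl⟩
    exact (le_iSup (fun f : fs => V' ⊓ X.basicOpen f.1) f).trans
      ((inf_eq_iSup U V V' fs hV' h).symm.le.trans inf_le_right)
  rcases Nat.eq_zero_or_pos fs.card with h0 | hpos
  · -- no equations: the open is empty
    have hempty : IsEmpty fs := by
      exact ⟨fun f => by
        have h1 : 0 < fs.card := Finset.card_pos.2 ⟨f.1, f.2⟩
        omega⟩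
    have hbot : (⨆ f : fs, U.ι ⁻¹ᵁ (V' ⊓ X.basicOpen f.1)) =
        ⨆ i : Fin (0 + 1), (fun _ => (⊥ : (U : Scheme.{u}).Opens)) i := by
      rw [iSup_of_empty]
      simp
    rw [hbot]
    refine CovVan.van_of_cover _ 𝒜 hA hinf 0 _ (fun i => ?_) p hp1
    exact ⟨⊥, isAffineOpen_bot X, bot_le, bot_le, by ext y; simp⟩
  · obtain ⟨t, ht⟩ : ∃ t, fs.card = t + 1 := ⟨fs.card - 1, by omega⟩
    let e : fs ≃ Fin (t + 1) := fs.equivFin.trans (finCongr ht)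
    have hre : (⨆ f : fs, U.ι ⁻¹ᵁ (V' ⊓ X.basicOpen f.1)) =
        ⨆ i : Fin (t + 1), (fun i => U.ι ⁻¹ᵁ (V' ⊓ X.basicOpen (e.symm i).1)) i :=
      (e.symm.iSup_comp (g := fun f : fs => U.ι ⁻¹ᵁ (V' ⊓ X.basicOpen f.1))).symm
    rw [hre]
    exact CovVan.van_of_cover _ 𝒜 hA hinf t _ (fun i => hmem (e.symm i)) p (by omega)

/-- `R^p j_* (j^* F) = 0` for `p ≥ c`, `p ≥ 1` when the complement of `U` is locally cut out by at
most `c` functions -/
theorem isZero_rpush_restrict_of_eqs (U : X.Opens)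
    [HasInjectiveResolutions (U : Scheme.{u}).Modules] (c : ℕ)
    (hT : ∀ x : X, ∃ (V : X.Opens) (fs : Finset Γ(X, V)), x ∈ V ∧ fs.card ≤ c ∧
      X.zeroLocus (U := V) (↑fs : Set Γ(X, V)) ∩ (V : Set ↥X) = (U : Set ↥X)ᶜ ∩ (V : Set ↥X))
    (F : X.Modules) [F.IsQuasicoherent] (p : ℕ) (hp : c ≤ p) (hp1 : 1 ≤ p) :
    IsZero ((Coh.Rpush U.ι p).obj ((Scheme.Modules.restrictFunctor U.ι).obj F)) := by
  obtain ⟨e⟩ := RpushComp.nonempty_iso U.ι ((Scheme.Modules.restrictFunctor U.ι).obj F) p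
  refine RpushComp.isZero_of_toAb _ (IsZero.of_iso ?_ e)
  refine RpushZero.isZero_of_basis U.ι.base _ p
    {V' | IsAffineOpen V' ∧ ∃ (V : X.Opens) (fs : Finset Γ(X, V)), V' ≤ V ∧ fs.card ≤ c ∧
      X.zeroLocus (U := V) (↑fs : Set Γ(X, V)) ∩ (V : Set ↥X) = (U : Set ↥X)ᶜ ∩ (V : Set ↥X)} ?_ ?_
  · rw [Opens.isBasis_iff_nbhd]
    intro O x hx
    obtain ⟨V, fs, hxV, hcard, h⟩ := hT x
    obtain ⟨_, ⟨V', hV'aff, rfl⟩, hxV', hV'le⟩ :=
      X.isBasis_affineOpens.exists_subset_of_mem_open (show x ∈ ((O ⊓ V : X.Opens) : Set X) from ⟨hx, hxV⟩)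
        (O ⊓ V).2
    refine ⟨V', ⟨hV'aff, V, fs, fun y hy => (hV'le hy).2, hcard, h⟩, hxV', fun y hy => (hV'le hy).1⟩
  · rintro V' ⟨hV'aff, V, fs, hV', hcard, h⟩
    exact subsingleton_HU_preimage U F V V' fs hV' hV'aff h p (hcard.trans hp) hp1

/-- `j_* j^* F = 0` when `U` is empty -/
theorem isZero_HH_of_eq_bot (U : X.Opens) (hU : U = ⊥) (F : X.Modules) :
    IsZero ((HH U.ι).obj F) := by
  rw [IsZero.iff_id_eq_zero]
  apply Scheme.Modules.hom_ext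
  intro O
  apply ConcreteCategory.hom_ext
  intro x
  have hcap : U.ι ''ᵁ (U.ι ⁻¹ᵁ O) = ⊥ := by
    rw [Scheme.Hom.image_preimage_eq_opensRange_inf, Scheme.Opens.opensRange_ι, hU, bot_inf_eq]
  have hs : Subsingleton Γ(F, U.ι ''ᵁ (U.ι ⁻¹ᵁ O)) := by
    rw [hcap]
    exact QcsLoc.subsingleton_bot F
  exact Subsingleton.elim (α := Γ(F, U.ι ''ᵁ (U.ι ⁻¹ᵁ O))) _ _

/-- no equations: `U` is empty -/
lemma eq_bot_of_eqs (U : X.Opens)
    (hT : ∀ x : X, ∃ (V : X.Opens) (fs : Finset Γ(X, V)), x ∈ V ∧ fs.card ≤ 0 ∧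
      X.zeroLocus (U := V) (↑fs : Set Γ(X, V)) ∩ (V : Set ↥X) = (U : Set ↥X)ᶜ ∩ (V : Set ↥X)) :
    U = ⊥ := by
  rw [eq_bot_iff]
  intro x hxU
  obtain ⟨V, fs, hxV, hcard, h⟩ := hT x
  have hfs : fs = ∅ := Finset.card_eq_zero.1 (by omega)
  have h1 : x ∈ X.zeroLocus (U := V) (↑fs : Set Γ(X, V)) ∩ (V : Set ↥X) := by
    refine ⟨?_, hxV⟩
    rw [Scheme.mem_zeroLocus_iff]
    intro f hf
    rw [hfs] at hf
    simp at hf
  rw [h] at h1
  exact (h1.1 hxU).elim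

variable [HasInjectiveResolutions X.Modules]

/-- **vanishing of local cohomology sheaves above the number of local equations** -/
theorem S7252_main (U : X.Opens) (c : ℕ)
    (hT : ∀ x : X, ∃ (V : X.Opens) (fs : Finset Γ(X, V)), x ∈ V ∧ fs.card ≤ c ∧
      X.zeroLocus (U := V) (↑fs : Set Γ(X, V)) ∩ (V : Set ↥X) = (U : Set ↥X)ᶜ ∩ (V : Set ↥X))
    (F : X.Modules) (hF : Coh.IsQCoh F) (i : ℕ) (hi : c < i) :
    IsZero (((DCoh.gammaZ U.ι).rightDerived i).obj F) := by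
  haveI : F.IsQuasicoherent := hF
  haveI := LerayCol.hasInjectiveResolutions (U : Scheme.{u})
  haveI : PreservesFiniteLimits (HH U.ι) := comp_preservesFiniteLimits _ _
  match i, hi with
  | 0, hi => exact absurd hi (by omega)
  | 1, hi =>
    have hc : c = 0 := by omega
    subst hc
    have hz := isZero_HH_of_eq_bot U (eq_bot_of_eqs U hT) F
    haveI := RDKer.epi_β_app (hyp U.ι) F
    exact IsZero.of_epi ((RDKer.β (hyp U.ι)).app F) hz
  | k + 2, hi =>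
    obtain ⟨e⟩ := nonempty_iso_HH U.ι F (k + 1)
    have e2 := (RDKer.natIso (hyp U.ι) k).app F
    exact IsZero.of_iso (isZero_rpush_restrict_of_eqs U c hT F (k + 1) (by omega) (by omega))
      (e2.symm ≪≫ e)

end Groth.Agent.Helper3.LocCohMod
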