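import Mathlib

set_option autoImplicit false
universe v v' u u'
open CategoryTheory CategoryTheory.Limits

/-!
# Right derived functors of the kernel of a natural transformation `H₁ ⟶ H₂`
which is an epimorphism on injective objects: the long exact sequence.
-/

namespace Groth.Agent.Helper3.RDKer3

variable {A : Type u} [Category.{v} A] [Abelian A] {B : Type u'} [Category.{v'} B] [Abelian B]
  (T H₁ H₂ : A ⥤ B) [T.Additive] [H₁.Additive] [H₂.Additive] (τ : T ⟶ H₁) (φ : H₁ ⟶ H₂)

/-- the hypotheses: `T` is the kernel of `φ`, and `φ` is epi on injectives -/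
structure Hyp : Prop where
  zero : ∀ X, τ.app X ≫ φ.app X = 0
  exact : ∀ X, (ShortComplex.mk (τ.app X) (φ.app X) (zero X)).Exact
  mono : ∀ X, Mono (τ.app X)
  epi : ∀ Q, Injective Q → Epi (φ.app Q)

variable {T H₁ H₂ τ φ}

/-- the short complex of complexes `T K ⟶ H₁ K ⟶ H₂ K` -/
noncomputable def SC (h : Hyp T H₁ H₂ τ φ) (K : CochainComplex A ℕ) :
    ShortComplex (CochainComplex B ℕ) :=
  ShortComplex.mk ((NatTrans.mapHomologicalComplex τ _).app K)
    ((NatTrans.mapHomologicalComplex φ _).app K) (by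
      ext n
      exact h.zero (K.X n))

lemma SC_shortExact (h : Hyp T H₁ H₂ τ φ) (K : CochainComplex A ℕ)
    (hK : ∀ n, Injective (K.X n)) : (SC h K).ShortExact := by
  apply HomologicalComplex.shortExact_of_degreewise_shortExact
  intro n
  have := h.mono (K.X n)
  have := h.epi (K.X n) (hK n)
  exact ShortComplex.ShortExact.mk' (h.exact (K.X n)) (h.mono (K.X n)) (h.epi (K.X n) (hK n))

variable [HasInjectiveResolutions A]

/-- **the five-term piece of the long exact sequence, as a closure property**: if a class `P` of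
objects of `B` is closed under isomorphisms and under "middle terms of five-term exact sequences",
and contains `R^q H₁ X`, `R^q H₂ X`, `R^{q+1} H₁ X`, `R^{q+1} H₂ X`, then it contains
`R^{q+1} T X`. -/
theorem prop_rightDerived_succ (h : Hyp T H₁ H₂ τ φ) (P : B → Prop)
    (hiso : ∀ {M N : B}, (M ≅ N) → P M → P N)
    (hfive : ∀ {X₁ X₂ X₃ X₄ X₅ : B} (f₁ : X₁ ⟶ X₂) (f₂ : X₂ ⟶ X₃) (f₃ : X₃ ⟶ X₄) (f₄ : X₄ ⟶ X₅)
      (w₁ : f₁ ≫ f₂ = 0) (w₂ : f₂ ≫ f₃ = 0) (w₃ : f₃ ≫ f₄ = 0),
      (ShortComplex.mk f₁ f₂ w₁).Exact → (ShortComplex.mk f₂ f₃ w₂).Exact →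
      (ShortComplex.mk f₃ f₄ w₃).Exact → P X₁ → P X₂ → P X₄ → P X₅ → P X₃)
    (X : A) (q : ℕ)
    (h₁ : P ((H₁.rightDerived q).obj X)) (h₂ : P ((H₂.rightDerived q).obj X))
    (h₁' : P ((H₁.rightDerived (q + 1)).obj X)) (h₂' : P ((H₂.rightDerived (q + 1)).obj X)) :
    P ((T.rightDerived (q + 1)).obj X) := by
  let I := injectiveResolution X
  have hS := SC_shortExact h I.cocomplex I.injective
  refine hiso (I.isoRightDerivedObj T (q + 1)).symm ?_
  refine hfive (HomologicalComplex.homologyMap (SC h I.cocomplex).g q)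
    (hS.δ q (q + 1) rfl)
    (HomologicalComplex.homologyMap (SC h I.cocomplex).f (q + 1))
    (HomologicalComplex.homologyMap (SC h I.cocomplex).g (q + 1))
    (hS.comp_δ q (q + 1) rfl) (hS.δ_comp q (q + 1) rfl) ?_
    (hS.homology_exact₃ q (q + 1) rfl) (hS.homology_exact₁ q (q + 1) rfl)
    (hS.homology_exact₂ (q + 1))
    (hiso (I.isoRightDerivedObj H₁ q) h₁) (hiso (I.isoRightDerivedObj H₂ q) h₂)
    (hiso (I.isoRightDerivedObj H₁ (q + 1)) h₁') (hiso (I.isoRightDerivedObj H₂ (q + 1)) h₂')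
  exact (HomologicalComplex.homologyMap_comp (SC h I.cocomplex).f (SC h I.cocomplex).g
    (q + 1)).symm.trans ((congrArg (fun t => HomologicalComplex.homologyMap t (q + 1))
      (SC h I.cocomplex).zero).trans (HomologicalComplex.homologyMap_zero _ _ _))

omit [HasInjectiveResolutions A] in
/-- the key lifting property -/
lemma exists_lift_of_hyp (h : Hyp T H₁ H₂ τ φ) [PreservesFiniteLimits H₁] [PreservesFiniteLimits H₂]
    (S : ShortComplex A) (hS : S.ShortExact) {W : B} (x : W ⟶ T.obj S.X₂)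
    (hx : x ≫ T.map S.g = 0) : ∃ z : W ⟶ T.obj S.X₁, z ≫ T.map S.f = x := by
  have hm2 := h.mono S.X₂
  have hmf := hS.mono_f
  have hHf : Mono (H₂.map S.f) := inferInstance
  have hH1 : ((S.map H₁).Exact ∧ Mono (H₁.map S.f)) :=
    (Functor.preservesFiniteLimits_iff_forall_exact_map_and_mono H₁).1 inferInstance S hS
  have hm1f : Mono (S.map H₁).f := hH1.2
  have e3 : τ.app S.X₂ ≫ H₁.map S.g = T.map S.g ≫ τ.app S.X₃ := (τ.naturality S.g).symm
  have h1 : (x ≫ τ.app S.X₂) ≫ (S.map H₁).g = 0 :=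
    (Category.assoc _ _ _).trans ((congrArg (x ≫ ·) e3).trans ((Category.assoc _ _ _).symm.trans
      ((congrArg (· ≫ τ.app S.X₃) hx).trans zero_comp)))
  let y : W ⟶ H₁.obj S.X₁ := hH1.1.lift (x ≫ τ.app S.X₂) h1
  have hy : y ≫ H₁.map S.f = x ≫ τ.app S.X₂ := hH1.1.lift_f _ _
  have e1 : φ.app S.X₁ ≫ H₂.map S.f = H₁.map S.f ≫ φ.app S.X₂ := (φ.naturality S.f).symm
  have h2 : y ≫ φ.app S.X₁ = 0 := by
    have h3 : (y ≫ φ.app S.X₁) ≫ H₂.map S.f = 0 ≫ H₂.map S.f := by
      refine (Category.assoc _ _ _).trans ((congrArg (y ≫ ·) e1).trans ?_)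
      refine (Category.assoc _ _ _).symm.trans ((congrArg (· ≫ φ.app S.X₂) hy).trans ?_)
      refine (Category.assoc _ _ _).trans ((congrArg (x ≫ ·) (h.zero S.X₂)).trans ?_)
      exact comp_zero.trans zero_comp.symm
    exact (cancel_mono (H₂.map S.f)).1 h3
  have hm1 := h.mono S.X₁
  let z : W ⟶ T.obj S.X₁ := (h.exact S.X₁).lift y h2
  have hz : z ≫ τ.app S.X₁ = y := (h.exact S.X₁).lift_f y h2
  refine ⟨z, ?_⟩
  have e2 : T.map S.f ≫ τ.app S.X₂ = τ.app S.X₁ ≫ H₁.map S.f := τ.naturality S.f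
  have h4 : (z ≫ T.map S.f) ≫ τ.app S.X₂ = x ≫ τ.app S.X₂ := by
    refine (Category.assoc _ _ _).trans ((congrArg (z ≫ ·) e2).trans ?_)
    refine (Category.assoc _ _ _).symm.trans ((congrArg (· ≫ H₁.map S.f) hz).trans hy)
  exact (cancel_mono (τ.app S.X₂)).1 h4

omit [HasInjectiveResolutions A] in
/-- in the setting of `Hyp`, if `H₁` and `H₂` are left exact then so is `T = ker (H₁ ⟶ H₂)` -/
theorem preservesFiniteLimits_of_hyp (h : Hyp T H₁ H₂ τ φ) [PreservesFiniteLimits H₁]
    [PreservesFiniteLimits H₂] : PreservesFiniteLimits T := by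
  rw [Functor.preservesFiniteLimits_iff_forall_exact_map_and_mono]
  intro S hS
  have hm1 := h.mono S.X₁
  have hm2 := h.mono S.X₂
  have hmf := hS.mono_f
  have hH1f : Mono (H₁.map S.f) := inferInstance
  have hmono : Mono (T.map S.f) := by
    have e : T.map S.f ≫ τ.app S.X₂ = τ.app S.X₁ ≫ H₁.map S.f := τ.naturality S.f
    have : Mono (T.map S.f ≫ τ.app S.X₂) := by rw [e]; exact mono_comp _ _
    exact mono_of_mono _ (τ.app S.X₂)
  refine ⟨?_, hmono⟩
  refine ShortComplex.exact_of_f_is_kernel _ ?_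
  refine KernelFork.IsLimit.ofι _ _ (fun {W} x hx => (exists_lift_of_hyp h S hS x hx).choose)
    (fun {W} x hx => (exists_lift_of_hyp h S hS x hx).choose_spec) (fun {W} x hx m hm => ?_)
  have : Mono (S.map T).f := hmono
  rw [← cancel_mono (S.map T).f]
  exact hm.trans (exists_lift_of_hyp h S hS x hx).choose_spec.symm

section KerF

variable (φ)

/-- the pointwise kernel of a natural transformation, as a functor -/
noncomputable def kerF : A ⥤ B where
  obj X := kernel (φ.app X)
  map {X Y} f := kernel.map _ _ (H₁.map f) (H₂.map f) (φ.naturality f).symm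
  map_id X := by
    apply equalizer.hom_ext
    simp
  map_comp f g := by
    apply equalizer.hom_ext
    simp

/-- the inclusion `ker φ ⟶ H₁` -/
noncomputable def kerFι : kerF φ ⟶ H₁ where
  app X := kernel.ι (φ.app X)
  naturality X Y f := by
    dsimp [kerF]
    exact kernel.lift_ι _ _ _

omit [HasInjectiveResolutions A] in
instance kerF_additive : (kerF φ).Additive where
  map_add := by
    intro X Y f g
    apply equalizer.hom_ext
    dsimp [kerF]
    simp only [kernel.map, H₁.map_add, Preadditive.comp_add, kernel.lift_ι]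
    erw [Preadditive.add_comp]
    simp only [kernel.lift_ι]

omit [HasInjectiveResolutions A] in
lemma hyp_kerF (hepi : ∀ Q, Injective Q → Epi (φ.app Q)) : Hyp (kerF φ) H₁ H₂ (kerFι φ) φ where
  zero X := kernel.condition _
  exact X := ShortComplex.exact_of_f_is_kernel _ (kernelIsKernel _)
  mono X := by
    change Mono (kernel.ι _)
    infer_instance
  epi := hepi

end KerF

end Groth.Agent.Helper3.RDKer3
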