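import Mathlib
import Groth.Prelude.Def_LocCohZ
import Groth.Agent.Lib.Helper3.LocCohMod2
import Groth.Agent.Lib.Helper3.RDKer3
import Groth.Agent.Lib.Helper5.QC.DQCTri

set_option autoImplicit false
universe u
open CategoryTheory CategoryTheory.Limits TopologicalSpace Opposite AlgebraicGeometry

namespace Groth.Agent.Helper3.LocCohMod

open Groth.Agent.Helper1 Groth.Agent.Lib.Helper5

variable {Y : Scheme.{u}} {W V : Y.Opens} (h : W ≤ V)

/-- `Γ_Z` for the locally closed `Z = V ∖ W`, on `O_Y`-modules: the kernel of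
`j_{V*} j_V^* ⟶ j_{W*} j_W^*` -/
noncomputable abbrev TLC : Y.Modules ⥤ Y.Modules := RDKer3.kerF (MV.σ h)

lemma epi_σ (Q : Y.Modules) [Injective Q] : Epi ((MV.σ h).app Q) := by
  apply MV.epi_of_app_surjective
  intro O
  rw [MV.σ_app_app]
  exact MV.surjective_res_of_injective Q _

lemma hypLC : RDKer3.Hyp (TLC h) (MV.GU V) (MV.GU W) (RDKer3.kerFι (MV.σ h)) (MV.σ h) :=
  RDKer3.hyp_kerF _ (fun Q _ => epi_σ h Q)

instance preservesFiniteLimits_GU (V : Y.Opens) : PreservesFiniteLimits (MV.GU V) :=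
  comp_preservesFiniteLimits _ _

instance preservesFiniteLimits_TLC : PreservesFiniteLimits (TLC h) :=
  RDKer3.preservesFiniteLimits_of_hyp (hypLC h)

variable [HasInjectiveResolutions Y.Modules]

/-- `R^q (j_* j^*) F` is quasi-coherent -/
theorem isQuasicoherent_rightDerived_GU (V : Y.Opens) [QuasiCompact V.ι] (F : Y.Modules)
    [F.IsQuasicoherent] (q : ℕ) : (((MV.GU V).rightDerived q).obj F).IsQuasicoherent := by
  haveI := LerayCol.hasInjectiveResolutions (V : Scheme.{u})
  haveI : ((Scheme.Modules.restrictFunctor V.ι).obj F).IsQuasicoherent := inferInstance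
  obtain ⟨e⟩ := nonempty_iso_HH V.ι F q
  haveI := RpushClassic.isQuasicoherent_rpush V.ι ((Scheme.Modules.restrictFunctor V.ι).obj F) q
  exact QcAbel.isQuasicoherent_of_iso e.symm

/-- **the module-level local cohomology sheaves along a locally closed subset with quasi-compact
defining opens are quasi-coherent** -/
theorem isQuasicoherent_rightDerived_TLC [QuasiCompact V.ι] [QuasiCompact W.ι] (F : Y.Modules)
    [F.IsQuasicoherent] (q : ℕ) : (((TLC h).rightDerived q).obj F).IsQuasicoherent := by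
  match q with
  | 0 =>
    have e : ((TLC h).rightDerived 0).obj F ≅ (TLC h).obj F :=
      (Functor.rightDerivedZeroIsoSelf _).app F
    haveI := isQuasicoherent_rightDerived_GU V F 0
    haveI := isQuasicoherent_rightDerived_GU W F 0
    haveI : ((MV.GU V).obj F).IsQuasicoherent :=
      QcAbel.isQuasicoherent_of_iso (((MV.GU V).rightDerivedZeroIsoSelf).app F)
    haveI : ((MV.GU W).obj F).IsQuasicoherent :=
      QcAbel.isQuasicoherent_of_iso (((MV.GU W).rightDerivedZeroIsoSelf).app F)
    haveI : ((TLC h).obj F).IsQuasicoherent := QcAbel.isQuasicoherent_kernel ((MV.σ h).app F)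
    exact QcAbel.isQuasicoherent_of_iso e.symm
  | q + 1 =>
    refine RDKer3.prop_rightDerived_succ (hypLC h) (fun M => M.IsQuasicoherent)
      (fun {M N} e hM => by haveI := hM; exact QcAbel.isQuasicoherent_of_iso e)
      (fun {X₁ X₂ X₃ X₄ X₅} f₁ f₂ f₃ f₄ w₁ w₂ w₃ e₁ e₂ e₃ p₁ p₂ p₄ p₅ => by
        haveI := p₁
        haveI := p₂
        haveI := p₄
        haveI := p₅
        exact QC.isQuasicoherent_five f₁ f₂ f₃ f₄ w₁ w₂ w₃ e₁ e₂ e₃)
      F q (isQuasicoherent_rightDerived_GU V F q) (isQuasicoherent_rightDerived_GU W F q)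
      (isQuasicoherent_rightDerived_GU V F (q + 1)) (isQuasicoherent_rightDerived_GU W F (q + 1))

end Groth.Agent.Helper3.LocCohMod
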