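import Mathlib
import Groth.Prelude.Def_SuppFam
import Groth.Prelude.Def_Coh
import Groth.Agent.Lib.Helper3.LocCohMod4
import Groth.Agent.Lib.Helper6.SectSupp
import Groth.Agent.Lib.Helper1.QcExt
import Groth.Agent.Lib.Helper3.LerayCol4
import Groth.Agent.Lib.Helper3.LocCohKer

set_option autoImplicit false
universe u
open CategoryTheory CategoryTheory.Limits TopologicalSpace Opposite AlgebraicGeometry

namespace Groth.Agent.Helper3.LocCohMod

open Groth.Agent.Helper1 Groth.Agent.Lib.Helper5 Groth.Agent.Lib.Helper6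

variable {Y : Scheme.{u}} {W V : Y.Opens} (h : W ≤ V)

/-- direct image along `V ⊆ Y` on abelian sheaves -/
noncomputable abbrev PP (V : Y.Opens) : CohTop.Ab (TopCat.of V) ⥤ CohTop.Ab Y.carrier :=
  CohTop.push (CohCx.incl (X := Y.carrier) V)

/-- restriction to `V` on abelian sheaves -/
noncomputable abbrev TT (V : Y.Opens) : CohTop.Ab Y.carrier ⥤ CohTop.Ab (TopCat.of V) :=
  CohTop.restrFunctor (X := Y.carrier) V

/-- the open `W ∩ V` of `V` -/
abbrev W' (V W : Y.Opens) : Opens (TopCat.of V) := SuppFam.inOpen (X := Y.carrier) V W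

variable (F : Y.Modules)

/-- the ambient sheaves agree on the nose -/
lemma ambient_eq : (PP V).obj ((TT V).obj (Coh.toAb F)) = Coh.toAb ((MV.GU V).obj F) := rfl

/-- the inclusion of `Γ_Z(A)` in `j_* (A|_V)` for `A` the underlying sheaf of `F` -/
noncomputable def m₂ : (SuppFam.sectSuppLC (X := Y.carrier) h).obj (Coh.toAb F) ⟶
    Coh.toAb ((MV.GU V).obj F) :=
  (PP V).map ((LocCohKer.ττ (W' V W)).app ((TT V).obj (Coh.toAb F)))

/-- the inclusion of the underlying sheaf of `Γ_Z(F)` in that of `j_* (F|_V)` -/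
noncomputable def m₁ : Coh.toAb ((TLC h).obj F) ⟶ Coh.toAb ((MV.GU V).obj F) :=
  (QcExt.T Y).map ((RDKer3.kerFι (MV.σ h)).app F)

/-- vanishing of a restriction follows from vanishing of a restriction to a bigger open -/
lemma res_zero_of_le {X : TopCat.{u}} (A : (Opens X)ᵒᵖ ⥤ AddCommGrpCat.{u}) {E E₂ E₁ : Opens X}
    (g₂ : E₂ ⟶ E) (g₁ : E₁ ⟶ E) (h12 : E₁ ≤ E₂) (t : A.obj (op E))
    (ht : (ConcreteCategory.hom (A.map g₂.op)) t = 0) :
    (ConcreteCategory.hom (A.map g₁.op)) t = 0 := by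
  have e : g₁ = homOfLE h12 ≫ g₂ := Subsingleton.elim _ _
  rw [e, op_comp, A.map_comp, ConcreteCategory.comp_apply, ht, map_zero]

/-- Mathlib's unit for the inclusion of `W ∩ V` in `V`, at the restriction of the sheaf of `F` -/
noncomputable abbrev η' : (TT V).obj (Coh.toAb F) ⟶
    (LocCohKer.HH (W' V W)).obj ((TT V).obj (Coh.toAb F)) :=
  (LocCohKer.ηη (W' V W)).app ((TT V).obj (Coh.toAb F))

lemma m₁_comp : m₁ h F ≫ (PP V).map (η' (V := V) (W := W) F) = 0 := by
  apply Sheaf.hom_ext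
  apply NatTrans.ext
  funext O
  apply ConcreteCategory.hom_ext
  intro s
  obtain ⟨O⟩ := O
  let t := (ConcreteCategory.hom ((m₁ h F).hom.app (op O))) s
  have hk : (QcExt.T Y).map ((RDKer3.kerFι (MV.σ h)).app F) ≫
      (QcExt.T Y).map ((MV.σ h).app F) = 0 :=
    ((QcExt.T Y).map_comp _ _).symm.trans ((congrArg (QcExt.T Y).map ((hypLC h).zero F)).trans
      (Functor.map_zero _ _ _))
  have ht : (ConcreteCategory.hom (((QcExt.T Y).map ((MV.σ h).app F)).hom.app (op O))) t = 0 := by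
    have := congrArg (fun φ => (ConcreteCategory.hom (φ.hom.app (op O))) s) hk
    exact this
  have hgoal : (ConcreteCategory.hom ((η' (V := V) (W := W) F).hom.app
      (op ((Opens.map (CohCx.incl (X := Y.carrier) V)).obj O)))) t = 0 := by
    refine (SectSupp.unit_zero_iff (W' V W) ((TT V).obj (Coh.toAb F)) _ t).2 ?_
    have ht' : (ConcreteCategory.hom ((Coh.toAb F).obj.map
        (homOfLE (MV.cap_mono h O)).op)) t = 0 := by
      have e := MV.σ_app_app h F O
      have e2 : (ConcreteCategory.hom (Scheme.Modules.Hom.app ((MV.σ h).app F) O)) t = 0 := ht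
      rw [e] at e2
      exact e2
    refine res_zero_of_le (X := Y.carrier) (Coh.toAb F).obj (homOfLE (MV.cap_mono h O)) _ ?_ t ht'
    rw [MV.cap_eq, SectSupp.W_eq]
    rintro y ⟨x, hx, rfl⟩
    exact ⟨hx.2, hx.1⟩
  exact hgoal

lemma m₂_comp : m₂ h F ≫ (QcExt.T Y).map ((MV.σ h).app F) = 0 := by
  apply Sheaf.hom_ext
  apply NatTrans.ext
  funext O
  apply ConcreteCategory.hom_ext
  intro s
  obtain ⟨O⟩ := O
  let t := (ConcreteCategory.hom ((m₂ h F).hom.app (op O))) s
  have hk : (PP V).map ((LocCohKer.ττ (W' V W)).app ((TT V).obj (Coh.toAb F))) ≫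
      (PP V).map (η' (V := V) (W := W) F) = 0 :=
    ((PP V).map_comp _ _).symm.trans ((congrArg (PP V).map
      ((LocCohKer.hyp (W' V W)).zero ((TT V).obj (Coh.toAb F)))).trans (Functor.map_zero _ _ _))
  have ht : (ConcreteCategory.hom ((η' (V := V) (W := W) F).hom.app
      (op ((Opens.map (CohCx.incl (X := Y.carrier) V)).obj O)))) t = 0 := by
    have := congrArg (fun φ => (ConcreteCategory.hom (φ.hom.app (op O))) s) hk
    exact this
  have ht' := (SectSupp.unit_zero_iff (W' V W) ((TT V).obj (Coh.toAb F)) _ t).1 ht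
  have hgoal : (ConcreteCategory.hom ((Coh.toAb F).obj.map
      (homOfLE (MV.cap_mono h O)).op)) t = 0 := by
    refine res_zero_of_le (X := Y.carrier) (Coh.toAb F).obj _ (homOfLE (MV.cap_mono h O)) ?_ t ht'
    rw [MV.cap_eq, SectSupp.W_eq]
    rintro y ⟨hyW, hyO⟩
    exact ⟨⟨y, h hyW⟩, ⟨hyO, hyW⟩, rfl⟩
  have e := MV.σ_app_app h F O
  have e2 : (ConcreteCategory.hom (Scheme.Modules.Hom.app ((MV.σ h).app F) O)) t = 0 := by
    rw [e]
    exact hgoal
  exact e2

instance PP_additive : (PP V).Additive := SuppFam.push_incl_additive (X := Y.carrier) V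

instance PP_preservesFiniteLimits : PreservesFiniteLimits (PP V) :=
  LerayCol4.preservesFiniteLimits_push (CohCx.incl (X := Y.carrier) V)

instance mono_m₁ : Mono (m₁ h F) := by
  haveI : (QcExt.T Y).PreservesMonomorphisms :=
    preservesMonomorphisms_of_preservesLimitsOfShape _
  haveI := (hypLC h).mono F
  exact Functor.map_mono (QcExt.T Y) ((RDKer3.kerFι (MV.σ h)).app F)

instance mono_m₂ : Mono (m₂ h F) := by
  haveI : (PP V).PreservesMonomorphisms :=
    preservesMonomorphisms_of_preservesLimitsOfShape _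
  haveI := (LocCohKer.hyp (W' V W)).mono ((TT V).obj (Coh.toAb F))
  exact Functor.map_mono (PP V) ((LocCohKer.ττ (W' V W)).app ((TT V).obj (Coh.toAb F)))

/-- `m₁` is a kernel of the underlying map of `σ` -/
noncomputable def isLimit₁ : IsLimit (KernelFork.ofι (m₁ h F)
    (show m₁ h F ≫ (QcExt.T Y).map ((MV.σ h).app F) = 0 from
      ((QcExt.T Y).map_comp _ _).symm.trans ((congrArg (QcExt.T Y).map ((hypLC h).zero F)).trans
        (Functor.map_zero _ _ _)))) :=
  haveI := (hypLC h).mono F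
  KernelFork.mapIsLimit _ ((hypLC h).exact F).fIsKernel (QcExt.T Y)

/-- `m₂` is a kernel of the direct image of Mathlib's unit -/
noncomputable def isLimit₂ : IsLimit (KernelFork.ofι (m₂ h F)
    (show m₂ h F ≫ (PP V).map (η' (V := V) (W := W) F) = 0 from
      ((PP V).map_comp _ _).symm.trans ((congrArg (PP V).map
        ((LocCohKer.hyp (W' V W)).zero ((TT V).obj (Coh.toAb F)))).trans
          (Functor.map_zero _ _ _)))) :=
  haveI := (LocCohKer.hyp (W' V W)).mono ((TT V).obj (Coh.toAb F))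
  KernelFork.mapIsLimit _ ((LocCohKer.hyp (W' V W)).exact ((TT V).obj (Coh.toAb F))).fIsKernel (PP V)

/-- the comparison map -/
noncomputable def κ : Coh.toAb ((TLC h).obj F) ⟶
    (SuppFam.sectSuppLC (X := Y.carrier) h).obj (Coh.toAb F) :=
  (KernelFork.IsLimit.lift' (isLimit₂ h F) (m₁ h F) (m₁_comp h F)).1

lemma κ_m₂ : κ h F ≫ m₂ h F = m₁ h F :=
  (KernelFork.IsLimit.lift' (isLimit₂ h F) (m₁ h F) (m₁_comp h F)).2

/-- the inverse comparison map -/
noncomputable def κ' : (SuppFam.sectSuppLC (X := Y.carrier) h).obj (Coh.toAb F) ⟶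
    Coh.toAb ((TLC h).obj F) :=
  (KernelFork.IsLimit.lift' (isLimit₁ h F) (m₂ h F) (m₂_comp h F)).1

lemma κ'_m₁ : κ' h F ≫ m₁ h F = m₂ h F :=
  (KernelFork.IsLimit.lift' (isLimit₁ h F) (m₂ h F) (m₂_comp h F)).2

/-- the comparison isomorphism -/
noncomputable def κIso : Coh.toAb ((TLC h).obj F) ≅
    (SuppFam.sectSuppLC (X := Y.carrier) h).obj (Coh.toAb F) where
  hom := κ h F
  inv := κ' h F
  hom_inv_id := by
    rw [← cancel_mono (m₁ h F), Category.assoc, κ'_m₁, κ_m₂, Category.id_comp]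
  inv_hom_id := by
    rw [← cancel_mono (m₂ h F), Category.assoc, κ_m₂, κ'_m₁, Category.id_comp]

variable {F} in
lemma m₁_naturality {F' : Y.Modules} (f : F ⟶ F') :
    (QcExt.T Y).map ((TLC h).map f) ≫ m₁ h F' = m₁ h F ≫ (QcExt.T Y).map ((MV.GU V).map f) := by
  exact ((QcExt.T Y).map_comp _ _).symm.trans ((congrArg (QcExt.T Y).map
    ((RDKer3.kerFι (MV.σ h)).naturality f)).trans ((QcExt.T Y).map_comp _ _))

variable {F} in
lemma m₂_naturality {F' : Y.Modules} (f : F ⟶ F') :
    (SuppFam.sectSuppLC (X := Y.carrier) h).map ((QcExt.T Y).map f) ≫ m₂ h F' =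
      m₂ h F ≫ (QcExt.T Y).map ((MV.GU V).map f) := by
  have h1 := (LocCohKer.ττ (W' V W)).naturality ((TT V).map ((QcExt.T Y).map f))
  have h2 := congrArg (PP V).map h1
  rw [Functor.map_comp, Functor.map_comp] at h2
  exact h2

/-- **the underlying abelian sheaf of `Γ_Z` on modules is `Γ_Z` of the underlying abelian sheaf**,
for locally closed `Z = V ∖ W` -/
noncomputable def κNat : TLC h ⋙ QcExt.T Y ≅ QcExt.T Y ⋙ SuppFam.sectSuppLC (X := Y.carrier) h :=
  NatIso.ofComponents (fun F => κIso h F) (by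
    intro F F' f
    change (QcExt.T Y).map ((TLC h).map f) ≫ κ h F' =
      κ h F ≫ (SuppFam.sectSuppLC (X := Y.carrier) h).map ((QcExt.T Y).map f)
    have e1 : ((QcExt.T Y).map ((TLC h).map f) ≫ κ h F') ≫ m₂ h F' =
        m₁ h F ≫ (QcExt.T Y).map ((MV.GU V).map f) :=
      (Category.assoc _ _ _).trans ((congrArg ((QcExt.T Y).map ((TLC h).map f) ≫ ·)
        (κ_m₂ h F')).trans (m₁_naturality h f))
    have e2 : (κ h F ≫ (SuppFam.sectSuppLC (X := Y.carrier) h).map ((QcExt.T Y).map f)) ≫ m₂ h F' =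
        m₁ h F ≫ (QcExt.T Y).map ((MV.GU V).map f) :=
      (Category.assoc _ _ _).trans ((congrArg (κ h F ≫ ·) (m₂_naturality h f)).trans
        ((Category.assoc _ _ _).symm.trans
          (congrArg (· ≫ (QcExt.T Y).map ((MV.GU V).map f)) (κ_m₂ h F))))
    exact (cancel_mono (m₂ h F')).1 (e1.trans e2.symm))

end Groth.Agent.Helper3.LocCohMod
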