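import Mathlib
import Groth.Agent.Lib.Helper3.LocCoh
import Groth.Agent.Lib.Helper3.ShHom
import Groth.Agent.Lib.Helper3.CohPre

set_option autoImplicit false
universe u
open CategoryTheory Limits Opposite TopologicalSpace

namespace Groth.Agent.Helper3.LocCohSh

variable {X : TopCat.{u}} (U : Opens X) {F : CohTop.Ab X} (I : InjectiveResolution F)

/-- `Γ_Z` applied to an injective resolution -/
noncomputable abbrev L : CochainComplex (CohTop.Ab X) ℕ :=
  ((LocCohZ.sectSuppF U).mapHomologicalComplex _).obj I.cocomplex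

/-- the underlying complex of presheaves -/
noncomputable abbrev KP : CochainComplex ((Opens X)ᵒᵖ ⥤ AddCommGrpCat.{u}) ℕ :=
  ((sheafToPresheaf (Opens.grothendieckTopology X) AddCommGrpCat.{u}).mapHomologicalComplex _).obj
    (L U I)

/-- its sections over `V` -/
noncomputable abbrev KV (V : Opens X) : CochainComplex AddCommGrpCat.{u} ℕ :=
  (((evaluation (Opens X)ᵒᵖ AddCommGrpCat.{u}).obj (op V)).mapHomologicalComplex _).obj (KP U I)

/-- sections with support of the terms of the resolution as morphisms out of `ℤ_V/ℤ_{V ⊓ U}` -/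
noncomputable def e (V : Opens X) (n : ℕ) :
    (LocCohZ.zq (inf_le_left : V ⊓ U ≤ V) ⟶ I.cocomplex.X n) ≃+ (KV U I V).X n :=
  LocCoh.eqvV U (I.cocomplex.X n) V

lemma he (V : Opens X) (n : ℕ) (f : LocCohZ.zq (inf_le_left : V ⊓ U ≤ V) ⟶ I.cocomplex.X n) :
    e U I V (n + 1) (f ≫ I.cocomplex.d n (n + 1)) = (KV U I V).d n (n + 1) (e U I V n f) :=
  LocCoh.eqvV_naturality U (I.cocomplex.d n (n + 1)) V f

/-- cohomology of the sections over `V` of `Γ_Z(I^•)` is cohomology with supports -/
noncomputable def cV (V : Opens X) (q : ℕ) :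
    (KV U I V).homology q ≅ AddCommGrpCat.of (LocCohZ.HZ F q (inf_le_left : V ⊓ U ≤ V)) :=
  ExtInj.homologyIso I (LocCohZ.zq (inf_le_left : V ⊓ U ≤ V)) (KV U I V) (e U I V) (he U I V) q

/-- sections of the cohomology presheaf of `Γ_Z(I^•)` -/
noncomputable def sectionIso (V : Opens X) (q : ℕ) :
    ((KP U I).homology q).obj (op V) ≅
      AddCommGrpCat.of (LocCohZ.HZ F q (inf_le_left : V ⊓ U ≤ V)) :=
  (CohPre.evH (KP U I) V q).symm ≪≫ cV U I V q

variable (F) in
/-- the local cohomology sheaf is the sheafification of `V ↦ H^q_{Z ∩ V}(V, F)` -/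
noncomputable def hzshIso (q : ℕ) :
    (LocCohZ.HZsh U q).obj F ≅
      (presheafToSheaf (Opens.grothendieckTopology X) AddCommGrpCat.{u}).obj
        ((KP U (injectiveResolution F)).homology q) :=
  (injectiveResolution F).isoRightDerivedObj (LocCohZ.sectSuppF U) q ≪≫
    ShHom.homologyIsoSheafify (Opens.grothendieckTopology X) _ q

variable (F) in
theorem isZero_HZsh (q : ℕ)
    (h : ∀ V : Opens X, Subsingleton (LocCohZ.HZ F q (inf_le_left : V ⊓ U ≤ V))) :
    IsZero ((LocCohZ.HZsh U q).obj F) := by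
  refine IsZero.of_iso ?_ (hzshIso U F q)
  apply Functor.map_isZero
  apply Functor.isZero
  intro V
  obtain ⟨V⟩ := V
  refine IsZero.of_iso ?_ (sectionIso U (injectiveResolution F) V q)
  have := h V
  exact AddCommGrpCat.isZero_of_subsingleton _

end Groth.Agent.Helper3.LocCohSh
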