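import Mathlib
import Groth.Prelude.Def_SuppFam
import Groth.Agent.Lib.Helper3.RDKer2
import Groth.Agent.Lib.Helper3.RDCompNat
import Groth.Agent.Lib.Helper3.LocCohKer
import Groth.Agent.Lib.Helper3.LocCohSh
import Groth.Agent.Lib.Helper3.LocCohFl
import Groth.Agent.Lib.Helper3.LerayCol4
import Groth.Agent.Lib.Helper6.SectSupp

set_option autoImplicit false
universe u
open CategoryTheory CategoryTheory.Limits TopologicalSpace Opposite

/-!
# Local cohomology sheaves along a locally closed subset: left exactness and vanishing on flasque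
sheaves
-/

namespace Groth.Agent.Helper3.LocCohLC

open Groth.Agent.Lib.Helper6

variable {X : TopCat.{u}}

/-- `Γ_Z` is left exact -/
theorem preservesFiniteLimits_sectSuppF (U : Opens X) :
    PreservesFiniteLimits (LocCohZ.sectSuppF U) := by
  haveI := LocCohKer.HH_additive U
  haveI := LocCohKer.preservesFiniteLimits_HH U
  exact RDKer.preservesFiniteLimits_of_hyp (LocCohKer.hyp U)

variable {W V : Opens X} (h : W ≤ V)

/-- `Γ_Z` for locally closed `Z` is left exact -/
theorem preservesFiniteLimits_sectSuppLC : PreservesFiniteLimits (SuppFam.sectSuppLC h) := by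
  obtain ⟨h1, h2, h3⟩ := LocCohKer.restr_instances V
  haveI : PreservesFiniteLimits (CohTop.restrFunctor V) := by
    have := (Groth.Agent.Lib.Helper5.Misc.ShriekTop.adjTop V).rightAdjoint_preservesLimits
    infer_instance
  haveI := preservesFiniteLimits_sectSuppF (SuppFam.inOpen V W)
  haveI := LerayCol4.preservesFiniteLimits_push (CohCx.incl V)
  unfold SuppFam.sectSuppLC
  infer_instance

/-- the local cohomology sheaves of a flasque sheaf along a locally closed subset vanish in
positive degrees -/
theorem isZero_HZshLC_of_isFlasque (A : CohTop.Ab X) [TopCat.Sheaf.IsFlasque A] (n : ℕ) :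
    IsZero ((SuppFam.HZshLC h (n + 1)).obj A) := by
  obtain ⟨h1, h2, h3⟩ := LocCohKer.restr_instances V
  haveI := preservesFiniteLimits_sectSuppF (SuppFam.inOpen V W)
  haveI := LerayCol4.preservesFiniteLimits_push (CohCx.incl V)
  let G := LocCohZ.sectSuppF (SuppFam.inOpen V W)
  let P := CohTop.push (CohCx.incl V)
  have e1 := (RDCompNat.preNatIso (CohTop.restrFunctor V) (G ⋙ P) (n + 1)).app A
  haveI : TopCat.Sheaf.IsFlasque ((CohTop.restrFunctor V).obj A) := LerayCol4.isFlasque_restr A V
  obtain ⟨e2⟩ := LerayCol3.nonempty_iso_row G P (fun Q hQ q hq => by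
      obtain ⟨m, rfl⟩ : ∃ m, q = m + 1 := ⟨q - 1, by omega⟩
      haveI : TopCat.Sheaf.IsFlasque Q := Groth.Agent.S0454.result Q
      haveI : TopCat.Sheaf.IsFlasque (G.obj Q) := SectSupp.sectSupp_isFlasque _ Q
      exact LerayCol4.isZero_rpush_of_isFlasque _ _ m)
    ((CohTop.restrFunctor V).obj A) (fun q hq =>
      LocCohSh.isZero_HZsh _ _ q (fun V' => LocCohFl.HZ_subsingleton _ _ q hq)) (n + 1)
  haveI : TopCat.Sheaf.IsFlasque (G.obj ((CohTop.restrFunctor V).obj A)) :=
    SectSupp.sectSupp_isFlasque _ _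
  have hz : IsZero ((P.rightDerived (n + 1)).obj (G.obj ((CohTop.restrFunctor V).obj A))) :=
    LerayCol4.isZero_rpush_of_isFlasque _ _ n
  exact IsZero.of_iso hz (e1 ≪≫ e2)

end Groth.Agent.Helper3.LocCohLC
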