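import Mathlib
import Groth.Prelude.Def_SuppFam
import Groth.Prelude.Def_Coh
import Groth.Agent.Lib.Helper3.LocCohMod5
import Groth.Agent.Lib.Helper3.LocCohMod6
import Groth.Agent.Lib.Helper3.EdgeMod2
import Groth.Agent.Lib.Helper1.DeltaComp

set_option autoImplicit false
universe u
open CategoryTheory CategoryTheory.Limits TopologicalSpace Opposite AlgebraicGeometry

namespace Groth.Agent.Helper3.LocCohMod

open Groth.Agent.Helper1 Groth.Agent.Lib.Helper5

/-- **local cohomology sheaves of a quasi-coherent module along a locally closed subset with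
quasi-compact defining opens are quasi-coherent** -/
theorem S13584_main (Y : Scheme.{u}) {V₂ V₁ : Y.Opens} (h : V₂ ≤ V₁)
    [QuasiCompact V₁.ι] [QuasiCompact V₂.ι] (F : Y.Modules) (hF : Coh.IsQCoh F) (i : ℕ) :
    ∃ M : Y.Modules, Coh.IsQCoh M ∧
      Nonempty (Coh.toAb M ≅ (SuppFam.HZshLC (X := Y.carrier) h i).obj (Coh.toAb F)) := by
  haveI : F.IsQuasicoherent := hF
  haveI := LerayCol.hasInjectiveResolutions Y
  haveI := LocCohLC.preservesFiniteLimits_sectSuppLC (X := Y.carrier) h
  haveI : PreservesFiniteLimits (SuppFam.sectSuppLC (X := Y.toTopCat) h) :=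
    LocCohLC.preservesFiniteLimits_sectSuppLC (X := Y.carrier) h
  obtain ⟨e⟩ := DeltaComp.nonempty_iso (A := Y.Modules) (B := CohTop.Ab Y.toTopCat)
    (A' := Y.Modules) (B' := CohTop.Ab Y.toTopCat) (TLC h)
    (SuppFam.sectSuppLC (X := Y.toTopCat) h)
    (QcExt.T Y) (QcExt.T Y) (κNat h) (fun I hI n => by
      haveI := EdgeMod.isFlasque_toAb_of_injective I
      exact LocCohLC.isZero_HZshLC_of_isFlasque (X := Y.carrier) h (Coh.toAb I) n) F i
  exact ⟨((TLC h).rightDerived i).obj F, isQuasicoherent_rightDerived_TLC h F i, ⟨e⟩⟩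

end Groth.Agent.Helper3.LocCohMod
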