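import Mathlib
import Groth.Prelude.Def_SpSeq
import Groth.Agent.Lib.Helper3.LocCoh
import Groth.Agent.Lib.Helper3.LocCohSh
import Groth.Agent.Lib.Helper3.GSS
import Groth.Agent.Lib.Helper3.ExtRD
import Groth.Agent.Lib.Helper3.AbutIf
import Groth.Agent.Lib.Helper3.SiteSec
import Groth.Agent.Lib.Helper3.SpVan
import Groth.Agent.S0452
import Groth.Agent.S0454

set_option autoImplicit false
universe u
open CategoryTheory CategoryTheory.Limits TopologicalSpace Opposite

namespace Groth.Agent.Helper3.LocCohSS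

open Groth.Agent.Lib.Helper6

variable {X : TopCat.{u}}

/-- the local-to-global spectral sequence over an open `V` -/
theorem exists_ss (F : CohTop.Ab X) (U V : Opens X) :
    ∃ (E : E₂CohomologicalSpectralSequence AddCommGrpCat.{u})
      (a : SpSeq.Abutment E (fun n : ℤ =>
        if 0 ≤ n then AddCommGrpCat.of (LocCohZ.HZ F n.toNat (inf_le_left : V ⊓ U ≤ V))
          else AddCommGrpCat.of PUnit.{u + 1})),
      (∀ n : ℤ, a.IsFinite n) ∧ SpSeq.IsBounded E ∧
      ∀ p q : ℤ, Nonempty ((E.page 2 le_rfl).X (p, q) ≅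
        (if 0 ≤ p ∧ 0 ≤ q then AddCommGrpCat.of (CohTop.HU ((LocCohZ.HZsh U q.toNat).obj F) p.toNat V)
          else AddCommGrpCat.of PUnit.{u + 1})) := by
  let J := Opens.grothendieckTopology X
  let Z := CohCx.freeSheaf J V
  let S := preadditiveCoyoneda.obj (op Z)
  let T := LocCohZ.sectSuppF U
  have hT : ∀ Q : CohTop.Ab X, Injective Q → ∀ q : ℕ, 0 < q →
      IsZero ((S.rightDerived q).obj (T.obj Q)) := by
    intro Q hQ q hq
    obtain ⟨m, rfl⟩ : ∃ m, q = m + 1 := ⟨q - 1, by omega⟩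
    have h1 : TopCat.Sheaf.IsFlasque Q := Groth.Agent.S0454.result Q
    have h2 : TopCat.Sheaf.IsFlasque (CohCx.sectSupp U Q) := SectSupp.sectSupp_isFlasque U Q
    have h3 : Subsingleton (CohTop.HU (CohCx.sectSupp U Q) (m + 1) V) :=
      Groth.Agent.S0452.result (CohCx.sectSupp U Q) V m
    refine IsZero.of_iso ?_ (ExtRD.rightDerivedIsoExt S Z (Iso.refl _) (T.obj Q) (m + 1))
    exact @AddCommGrpCat.isZero_of_subsingleton _ h3
  obtain ⟨E, a, hfin, hbdd, hE⟩ := GSS.main' T S hT F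
  let compIso : T ⋙ S ≅ preadditiveCoyoneda.obj (op (LocCohZ.zq (inf_le_left : V ⊓ U ≤ V))) :=
    Functor.isoWhiskerLeft T (SiteSec.coyonedaIsoΓ J V) ≪≫ LocCoh.compIsoV U V
  obtain ⟨a', ha'⟩ := AbutIf.exists_abutment_if
    (fun k => ((T ⋙ S).rightDerived k).obj F)
    (fun k => AddCommGrpCat.of (LocCohZ.HZ F k (inf_le_left : V ⊓ U ≤ V))) a hfin
    (fun k => ⟨ExtRD.rightDerivedIsoExt (T ⋙ S) _ compIso F k⟩)
  refine ⟨E, a', ha', hbdd, ?_⟩
  intro p q
  refine AbutIf.nonempty_iso_if _ (hE p q) ⟨?_⟩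
  exact ExtRD.rightDerivedIsoExt S Z (Iso.refl _) _ p.toNat

/-- vanishing of the local cohomology sheaves below `n` gives vanishing of the groups below `n` -/
theorem HZ_subsingleton_of_isZero_HZsh (F : CohTop.Ab X) (U : Opens X) (n : ℕ)
    (h : ∀ i : ℕ, i < n → IsZero ((LocCohZ.HZsh U i).obj F)) (V : Opens X) (i : ℕ) (hi : i < n) :
    Subsingleton (LocCohZ.HZ F i (inf_le_left : V ⊓ U ≤ V)) := by
  obtain ⟨E, a, hfin, -, hE⟩ := exists_ss F U V
  have hz : IsZero (if (0 : ℤ) ≤ (i : ℤ) then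
      AddCommGrpCat.of (LocCohZ.HZ F ((i : ℤ)).toNat (inf_le_left : V ⊓ U ≤ V))
      else AddCommGrpCat.of PUnit.{u + 1}) := by
    refine SpVan.isZero_abut E a 2 le_rfl (i : ℤ) (hfin _) ?_
    intro p
    obtain ⟨e⟩ := hE p ((i : ℤ) - p)
    refine IsZero.of_iso ?_ e
    by_cases hpq : 0 ≤ p ∧ 0 ≤ (i : ℤ) - p
    · rw [if_pos hpq]
      have hq : ((i : ℤ) - p).toNat < n := by omega
      have h0 := h _ hq
      exact (Abelian.extFunctorObj (CohCx.freeSheaf (Opens.grothendieckTopology X) V) p.toNat).map_isZero h0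
    · rw [if_neg hpq]
      exact AddCommGrpCat.isZero_of_subsingleton _
  rw [if_pos (by omega : (0 : ℤ) ≤ (i : ℤ))] at hz
  have h2 : ((i : ℤ)).toNat = i := by simp
  rw [h2] at hz
  exact AddCommGrpCat.subsingleton_of_isZero hz

end Groth.Agent.Helper3.LocCohSS
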