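import Mathlib
import Groth.Agent.Lib.Helper3.LocCohSh

set_option autoImplicit false
universe u
open CategoryTheory Limits Opposite TopologicalSpace

namespace Groth.Agent.Helper3.LocCohSh

open Groth.Agent.Lib.Helper6

variable {X : TopCat.{u}} (U : Opens X) {F : CohTop.Ab X} (I : InjectiveResolution F)

/-- the inclusion `Γ_Z(I^•) ⟶ I^•` -/
noncomputable def incl : L U I ⟶ I.cocomplex where
  f n := kernel.ι (SectSupp.η U (I.cocomplex.X n))
  comm' i j _ := by
    change kernel.ι _ ≫ I.cocomplex.d i j = (LocCohZ.sectSuppF U).map (I.cocomplex.d i j) ≫ kernel.ι _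
    dsimp [LocCohZ.sectSuppF]
    exact (kernel.lift_ι _ _ _).symm

/-- on presheaves -/
noncomputable abbrev inclP : KP U I ⟶ CohPre.KP (Opens.grothendieckTopology X) I :=
  ((sheafToPresheaf (Opens.grothendieckTopology X) AddCommGrpCat.{u}).mapHomologicalComplex _).map
    (incl U I)

/-- on sections over `V` -/
noncomputable abbrev inclV (V : Opens X) : KV U I V ⟶ CohPre.KU (Opens.grothendieckTopology X) I V :=
  (((evaluation (Opens X)ᵒᵖ AddCommGrpCat.{u}).obj (op V)).mapHomologicalComplex _).map (inclP U I)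

lemma hc (V : Opens X) (n : ℕ)
    (f : LocCohZ.zq (inf_le_left : V ⊓ U ≤ V) ⟶ I.cocomplex.X n) :
    CohPre.e (Opens.grothendieckTopology X) I V n
      (cokernel.π (CohCx.freeSheafMap (Opens.grothendieckTopology X)
        (homOfLE (inf_le_left : V ⊓ U ≤ V))) ≫ f) = (inclV U I V).f n (e U I V n f) :=
  (LocCoh.eqvV_ι U (I.cocomplex.X n) V f).symm

lemma cV_naturality (V : Opens X) (q : ℕ) :
    HomologicalComplex.homologyMap (inclV U I V) q ≫
        (CohPre.cU (Opens.grothendieckTopology X) I V q).hom =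
      (cV U I V q).hom ≫ AddCommGrpCat.ofHom
        ((Abelian.Ext.mk₀ (cokernel.π (CohCx.freeSheafMap (Opens.grothendieckTopology X)
          (homOfLE (inf_le_left : V ⊓ U ≤ V))))).precomp F (zero_add q)) :=
  ExtInj.homologyIso_naturality I _ (inclV U I V) (e U I V) (he U I V)
    (CohPre.e (Opens.grothendieckTopology X) I V) (CohPre.he (Opens.grothendieckTopology X) I V)
    (hc U I V) q

lemma mono_homologyMap_inclV (V : Opens X) (q : ℕ)
    (hinj : Function.Injective ((Abelian.Ext.mk₀ (cokernel.π (CohCx.freeSheafMap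
      (Opens.grothendieckTopology X) (homOfLE (inf_le_left : V ⊓ U ≤ V))))).precomp F (zero_add q))) :
    Mono (HomologicalComplex.homologyMap (inclV U I V) q) := by
  have h1 : Mono (AddCommGrpCat.ofHom
      ((Abelian.Ext.mk₀ (cokernel.π (CohCx.freeSheafMap (Opens.grothendieckTopology X)
        (homOfLE (inf_le_left : V ⊓ U ≤ V))))).precomp F (zero_add q))) :=
    (AddCommGrpCat.mono_iff_injective _).2 hinj
  have h2 : Mono (HomologicalComplex.homologyMap (inclV U I V) q ≫
      (CohPre.cU (Opens.grothendieckTopology X) I V q).hom) := by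
    rw [cV_naturality]
    infer_instance
  exact mono_of_mono _ (CohPre.cU (Opens.grothendieckTopology X) I V q).hom

lemma evH_naturality₂ {K K' : CochainComplex ((Opens X)ᵒᵖ ⥤ AddCommGrpCat.{u}) ℕ} (φ : K ⟶ K')
    (V : Opens X) (q : ℕ) :
    HomologicalComplex.homologyMap
      ((((evaluation (Opens X)ᵒᵖ AddCommGrpCat.{u}).obj (op V)).mapHomologicalComplex _).map φ) q ≫
        (CohPre.evH K' V q).hom =
      (CohPre.evH K V q).hom ≫ (HomologicalComplex.homologyMap φ q).app (op V) :=
  ShortComplex.mapHomologyIso_hom_naturality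
    (φ := (HomologicalComplex.shortComplexFunctor _ _ q).map φ)
    (F := (evaluation (Opens X)ᵒᵖ AddCommGrpCat.{u}).obj (op V))

lemma mono_homologyMap_inclP (q : ℕ)
    (hinj : ∀ V : Opens X, Function.Injective ((Abelian.Ext.mk₀ (cokernel.π (CohCx.freeSheafMap
      (Opens.grothendieckTopology X) (homOfLE (inf_le_left : V ⊓ U ≤ V))))).precomp F (zero_add q))) :
    Mono (HomologicalComplex.homologyMap (inclP U I) q) := by
  rw [NatTrans.mono_iff_mono_app]
  intro V
  obtain ⟨V⟩ := V
  have h1 := mono_homologyMap_inclV U I V q (hinj V)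
  have h2 := evH_naturality₂ (inclP U I) V q
  have h3 : Mono ((CohPre.evH (KP U I) V q).hom ≫
      (HomologicalComplex.homologyMap (inclP U I) q).app (op V)) := by
    rw [← h2]
    infer_instance
  have h4 : (HomologicalComplex.homologyMap (inclP U I) q).app (op V) =
      (CohPre.evH (KP U I) V q).inv ≫ ((CohPre.evH (KP U I) V q).hom ≫
        (HomologicalComplex.homologyMap (inclP U I) q).app (op V)) := by
    rw [Iso.inv_hom_id_assoc]
  rw [h4]
  infer_instance

variable (F) in
/-- if `H^N_Z(V, F) ⟶ H^N(V, F)` is injective for all `V` and `N > 0` then `ℋ^N_Z(F) = 0` -/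
theorem isZero_HZsh_of_injective (N : ℕ) (hN : 0 < N)
    (hinj : ∀ V : Opens X, Function.Injective ((Abelian.Ext.mk₀ (cokernel.π (CohCx.freeSheafMap
      (Opens.grothendieckTopology X) (homOfLE (inf_le_left : V ⊓ U ≤ V))))).precomp F (zero_add N))) :
    IsZero ((LocCohZ.HZsh U N).obj F) := by
  refine IsZero.of_iso ?_ (hzshIso U F N)
  let I := injectiveResolution F
  have h1 : Mono (HomologicalComplex.homologyMap (inclP U I) N) := mono_homologyMap_inclP U I N hinj
  have h2 : Mono ((presheafToSheaf (Opens.grothendieckTopology X) AddCommGrpCat.{u}).map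
      (HomologicalComplex.homologyMap (inclP U I) N)) := inferInstance
  have h3 : IsZero ((presheafToSheaf (Opens.grothendieckTopology X) AddCommGrpCat.{u}).obj
      ((CohPre.KP (Opens.grothendieckTopology X) I).homology N)) := by
    refine IsZero.of_iso ?_ (ShHom.homologyIsoSheafify (Opens.grothendieckTopology X) I.cocomplex N).symm
    obtain ⟨m, rfl⟩ : ∃ m, N = m + 1 := ⟨N - 1, by omega⟩
    exact (HomologicalComplex.exactAt_iff_isZero_homology _ _).1 (I.cocomplex_exactAt_succ m)
  exact IsZero.of_mono_eq_zero ((presheafToSheaf (Opens.grothendieckTopology X) AddCommGrpCat.{u}).map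
      (HomologicalComplex.homologyMap (inclP U I) N)) (h3.eq_of_tgt _ _)

end Groth.Agent.Helper3.LocCohSh
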