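import Mathlib

set_option autoImplicit false
universe u
open TensorProduct

namespace Groth.Agent.Helper3.LocCrit

section Transfer
variable {A : Type u} [CommRing A] (R : Type u) [CommRing R] [Algebra A R]
variable (k : Type u) [CommRing k] [Algebra A k] [Algebra R k] [IsScalarTower A R k]
variable {Z X : Type u} [AddCommGroup Z] [Module A Z] [AddCommGroup X] [Module A X]

/-- `k ⊗_R (R ⊗_A f)` is injective if `k ⊗_A f` is -/
theorem lTensor_baseChange_injective (f : Z →ₗ[A] X)
    (h : Function.Injective (f.lTensor k)) :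
    Function.Injective ((f.baseChange R).lTensor k) := by
  let eZ : k ⊗[R] (R ⊗[A] Z) ≃ₗ[k] k ⊗[A] Z := AlgebraTensorModule.cancelBaseChange A R k k Z
  let eX : k ⊗[R] (R ⊗[A] X) ≃ₗ[k] k ⊗[A] X := AlgebraTensorModule.cancelBaseChange A R k k X
  have hsq : ∀ t, eX ((f.baseChange R).lTensor k t) = f.lTensor k (eZ t) := by
    intro t
    induction t using TensorProduct.induction_on with
    | zero => simp
    | tmul c s =>
      induction s using TensorProduct.induction_on with
      | zero => simp
      | tmul r z =>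
        simp [eZ, eX]
      | add s₁ s₂ h₁ h₂ =>
        rw [tmul_add, map_add, map_add, map_add, map_add, h₁, h₂]
    | add t₁ t₂ h₁ h₂ => rw [map_add, map_add, map_add, map_add, h₁, h₂]
  intro t₁ t₂ ht
  apply eZ.injective
  apply h
  rw [← hsq, ← hsq, ht]

end Transfer

section Crit
variable {A : Type u} [CommRing A]
variable {X₀ X₁ X₂ : Type u} [AddCommGroup X₀] [Module A X₀] [AddCommGroup X₁] [Module A X₁]
  [AddCommGroup X₂] [Module A X₂]
variable (u : X₀ →ₗ[A] X₁) (v : X₁ →ₗ[A] X₂) (huv : v ∘ₗ u = 0)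

/-- the induced map `X₁ / im u → X₂` -/
noncomputable def vbar : (X₁ ⧸ LinearMap.range u) →ₗ[A] X₂ :=
  (LinearMap.range u).liftQ v (by
    rintro _ ⟨y, rfl⟩
    rw [LinearMap.mem_ker, ← LinearMap.comp_apply, huv]
    rfl)

theorem vbar_exact : Function.Exact (vbar u v huv) (LinearMap.range v).mkQ := by
  rw [LinearMap.exact_iff, Submodule.ker_mkQ]
  unfold vbar
  rw [Submodule.range_liftQ]

include huv in
theorem vbar_rTensor_injective (M : Type u) [AddCommGroup M] [Module A M]
    (hex : Function.Exact (u.rTensor M) (v.rTensor M)) :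
    Function.Injective ((vbar u v huv).rTensor M) := by
  rw [injective_iff_map_eq_zero]
  intro t ht
  obtain ⟨x, rfl⟩ := LinearMap.rTensor_surjective M (Submodule.mkQ_surjective (LinearMap.range u)) t
  have h1 : v.rTensor M x = 0 := by
    rw [← ht, ← LinearMap.comp_apply, ← LinearMap.rTensor_comp]
    rfl
  obtain ⟨y, rfl⟩ := (hex x).mp h1
  rw [← LinearMap.comp_apply, ← LinearMap.rTensor_comp]
  have : (LinearMap.range u).mkQ ∘ₗ u = 0 := by
    ext z
    exact (Submodule.Quotient.mk_eq_zero _).mpr ⟨z, rfl⟩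
  rw [this, LinearMap.rTensor_zero]
  rfl

variable [Module.Finite A X₁] [Module.Finite A X₂] [Module.Projective A X₂]
  [Module.FinitePresentation A (X₂ ⧸ LinearMap.range v)]

include huv in
theorem projective_coker
    (hex : ∀ (𝔪 : Ideal A) [𝔪.IsMaximal],
      Function.Exact (u.rTensor (A ⧸ 𝔪)) (v.rTensor (A ⧸ 𝔪))) :
    Module.Projective A (X₂ ⧸ LinearMap.range v) := by
  apply Module.projective_of_localization_maximal
  intro 𝔪 h𝔪
  haveI := h𝔪
  let R := Localization.AtPrime 𝔪
  let k := IsLocalRing.ResidueField R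
  have hfree : Module.Free R (R ⊗[A] (X₂ ⧸ LinearMap.range v)) := by
    have hg : Function.Surjective ((LinearMap.range v).mkQ.baseChange R) :=
      LinearMap.lTensor_surjective R (Submodule.mkQ_surjective _)
    have hexact : Function.Exact ((vbar u v huv).baseChange R)
        ((LinearMap.range v).mkQ.baseChange R) :=
      lTensor_exact R (vbar_exact u v huv) (Submodule.mkQ_surjective _)
    haveI : Module.Free R (R ⊗[A] X₂) := Module.free_of_flat_of_isLocalRing
    have h1 : Function.Injective ((vbar u v huv).rTensor (A ⧸ 𝔪)) :=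
      vbar_rTensor_injective u v huv (A ⧸ 𝔪) (hex 𝔪)
    have h2 : Function.Injective ((vbar u v huv).lTensor (A ⧸ 𝔪)) :=
      (LinearMap.lTensor_inj_iff_rTensor_inj _ _).mpr h1
    -- A/𝔪 ≃ k
    let e0 : (A ⧸ 𝔪) ≃ₗ[A ⧸ 𝔪] k :=
      LinearEquiv.ofBijective (Algebra.linearMap (A ⧸ 𝔪) 𝔪.ResidueField)
        (Ideal.bijective_algebraMap_quotient_residueField 𝔪)
    let e : (A ⧸ 𝔪) ≃ₗ[A] k := e0.restrictScalars A
    have h3 : Function.Injective ((vbar u v huv).lTensor k) := by
      have hsq : ((vbar u v huv).lTensor k) ∘ₗ (e.toLinearMap.rTensor _) =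
          (e.toLinearMap.rTensor _) ∘ₗ ((vbar u v huv).lTensor (A ⧸ 𝔪)) := by
        rw [LinearMap.lTensor_comp_rTensor, LinearMap.rTensor_comp_lTensor]
      have hbij : ∀ (Y : Type u) [AddCommGroup Y] [Module A Y],
          Function.Bijective (e.toLinearMap.rTensor Y) := fun Y _ _ =>
        (LinearEquiv.rTensor Y e).bijective
      intro t₁ t₂ ht
      obtain ⟨s₁, rfl⟩ := (hbij _).2 t₁
      obtain ⟨s₂, rfl⟩ := (hbij _).2 t₂
      have h4 := congrArg (fun φ => φ s₁) hsq
      have h5 := congrArg (fun φ => φ s₂) hsq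
      simp only [LinearMap.comp_apply] at h4 h5
      rw [h4, h5] at ht
      rw [h2 ((hbij _).1 ht)]
    have hf : Function.Injective (((vbar u v huv).baseChange R).lTensor k) :=
      lTensor_baseChange_injective R k (vbar u v huv) h3
    exact Module.free_of_lTensor_residueField_injective _ _ hg hexact hf
  have hmem : (⟨𝔪, h𝔪.isPrime⟩ : PrimeSpectrum A) ∈
      Module.freeLocus A (X₂ ⧸ LinearMap.range v) :=
    (Module.mem_freeLocus_iff_tensor ⟨𝔪, h𝔪.isPrime⟩ R).mpr hfree
  rw [Module.mem_freeLocus] at hmem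
  exact Module.Projective.of_free

end Crit

end Groth.Agent.Helper3.LocCrit
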