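import Mathlib
import Groth.Prelude.Def_Wider
import Groth.Prelude.Def_DualLC
import Groth.Agent.Lib.Helper3.LocDual5
import Groth.Agent.Lib.Helper1.MatlisL2

/-!
# Local duality VII: the local cohomology of a normalized dualizing complex
-/

set_option autoImplicit false
universe u
open CategoryTheory CategoryTheory.Limits Pretriangulated Opposite

attribute [local instance] HasDerivedCategory.standard

namespace Groth.Agent.Helper3.LocDual

open DerivedCategory Groth.Agent.Helper3.DualCx Groth.Agent.Helper3.DualFun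
  Groth.Agent.Helper3.DualFL
  Groth.Agent.Helper1.InjHullL Groth.Agent.Helper1.MatlisL Groth.Agent.Helper1.MatlisL2

section Tors

variable {A : Type u} [CommRing A] (I : Ideal A) (E : Type u) [AddCommGroup E] [Module A E]

/-- evaluation at one: `Hom(A/I, E) ≃ E[I]` -/
noncomputable def evOne : ((A ⧸ I) →ₗ[A] E) →ₗ[A] Submodule.torsionBySet A E (I : Set A) where
  toFun φ := ⟨φ (Submodule.Quotient.mk 1), by
    rw [Submodule.mem_torsionBySet_iff]
    rintro ⟨a, ha⟩
    rw [← map_smul, ← Submodule.Quotient.mk_smul, smul_eq_mul, mul_one,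
      (Submodule.Quotient.mk_eq_zero I).2 ha, map_zero]⟩
  map_add' φ ψ := rfl
  map_smul' a φ := rfl

lemma evOne_injective : Function.Injective (evOne I E) := by
  intro φ ψ h
  apply LinearMap.ext
  intro x
  obtain ⟨a, rfl⟩ := Submodule.Quotient.mk_surjective I x
  have h1 : φ (Submodule.Quotient.mk 1) = ψ (Submodule.Quotient.mk 1) := congrArg Subtype.val h
  have h2 : (Submodule.Quotient.mk a : A ⧸ I) = a • Submodule.Quotient.mk 1 := by
    rw [← Submodule.Quotient.mk_smul, smul_eq_mul, mul_one]
  rw [h2, map_smul, map_smul, h1]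

lemma evOne_surjective : Function.Surjective (evOne I E) := by
  rintro ⟨e, he⟩
  rw [Submodule.mem_torsionBySet_iff] at he
  refine ⟨Submodule.liftQ I (LinearMap.toSpanSingleton A E e) (fun a ha => ?_), ?_⟩
  · rw [LinearMap.mem_ker, LinearMap.toSpanSingleton_apply]
    exact he ⟨a, ha⟩
  · apply Subtype.ext
    change Submodule.liftQ I (LinearMap.toSpanSingleton A E e) _ (Submodule.Quotient.mk 1) = e
    rw [Submodule.liftQ_apply, LinearMap.toSpanSingleton_apply, one_smul]

end Tors

variable {A : Type u} [CommRing A] [IsLocalRing A] [IsNoetherianRing A]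
  {ω : Dual.D A} (hω : Dual.IsDualizing A ω) (hn : Dual.IsNormalized A ω)
  {E : Type u} [AddCommGroup E] [Module A E]
  (f : IsLocalRing.ResidueField A →ₗ[A] E) (hf : InjHull.IsInjectiveHull f)

include hω hn f hf in
/-- the image of `V n` in `E` is the `m^n`-torsion -/
lemma exists_jmap_eq_of_torsion (n : ℕ) (e : E)
    (he : ∀ a ∈ IsLocalRing.maximalIdeal A ^ n, a • e = 0) :
    ∃ v : V ω n, jmap hω hn f hf n v = e := by
  have hvan : ∀ (i : ℤ), i ≠ 0 → Van ω i (A ⧸ IsLocalRing.maximalIdeal A) :=
    fun i hi => van_residue hn i hi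
  obtain ⟨ε⟩ := nonempty_eps hω hn
  have hB : IsFiniteLength A (A ⧸ IsLocalRing.maximalIdeal A ^ n) :=
    isFiniteLength_quotient_of_pow_le _ n le_rfl
  -- the corestriction of `jmap n`
  have hmem : ∀ v : V ω n, jmap hω hn f hf n v ∈
      Submodule.torsionBySet A E ((IsLocalRing.maximalIdeal A ^ n : Ideal A) : Set A) := by
    intro v
    rw [Submodule.mem_torsionBySet_iff]
    rintro ⟨a, ha⟩
    have h1 : a ∈ Module.annihilator A (V ω n) := by
      apply annihilator_le_annihilator_ext
      rw [Ideal.annihilator_quotient]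
      exact ha
    change a • jmap hω hn f hf n v = 0
    rw [← map_smul, Module.mem_annihilator.1 h1 v, map_zero]
  let j' : V ω n →ₗ[A]
      Submodule.torsionBySet A E ((IsLocalRing.maximalIdeal A ^ n : Ideal A) : Set A) :=
    LinearMap.codRestrict _ (jmap hω hn f hf n) hmem
  have hj'inj : Function.Injective j' := by
    intro v w h
    exact jmap_injective hω hn f hf n (congrArg Subtype.val h)
  have hlenV : Module.length A (V ω n) = Module.length A (A ⧸ IsLocalRing.maximalIdeal A ^ n) :=
    length_F ω hvan ε _ hB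
  have hlenT : Module.length A
      (Submodule.torsionBySet A E ((IsLocalRing.maximalIdeal A ^ n : Ideal A) : Set A)) =
      Module.length A (A ⧸ IsLocalRing.maximalIdeal A ^ n) := by
    rw [← length_dual f hf _ hB]
    exact (LinearEquiv.ofBijective (evOne (IsLocalRing.maximalIdeal A ^ n) E)
      ⟨evOne_injective _ E, evOne_surjective _ E⟩).symm.length_eq
  have hsurj : Function.Surjective j' := by
    apply surjective_of_injective_of_length_le j' hj'inj
    · rw [hlenV, Module.length_ne_top_iff]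
      exact hB
    · rw [hlenT, hlenV]
  obtain ⟨v, hv⟩ := hsurj ⟨e, by
    rw [Submodule.mem_torsionBySet_iff]
    rintro ⟨a, ha⟩
    exact he a ha⟩
  exact ⟨v, congrArg Subtype.val hv⟩

include hω hn f hf in
lemma exists_jmap_eq (e : E) : ∃ (n : ℕ) (v : V ω n), jmap hω hn f hf n v = e := by
  obtain ⟨n, hn'⟩ := hull_isPowerTorsion f hf e
  obtain ⟨v, hv⟩ := exists_jmap_eq_of_torsion hω hn f hf n e hn'
  exact ⟨n, v, hv⟩

section Colim

open localCohomology

/-- the diagram defining `HDI` -/
noncomputable abbrev Gd (ω : Dual.D A) (i : ℤ) : ℕᵒᵖᵒᵖ ⥤ ModuleCat.{u + 1} A :=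
  (localCohomology.ringModIdeals (localCohomology.idealPowersDiagram (IsLocalRing.maximalIdeal A)) ⋙
      DerivedCategory.singleFunctor (ModuleCat.{u} A) 0).op ⋙
    (linearYoneda A (Dual.D A)).obj (ω⟦i⟧)

lemma Gd_map_apply (ω : Dual.D A) {n k : ℕ} (h : n ≤ k) (v : V ω n) :
    ((Gd ω 0).map ((homOfLE h).op.op : op (op n) ⟶ op (op k))).hom v = tau ω h v := rfl

include hn in
/-- the local cohomology of `ω` vanishes in nonzero degrees -/
theorem subsingleton_HDI (i : ℤ) (hi : i ≠ 0) :
    Subsingleton (Dual2.HDI A (IsLocalRing.maximalIdeal A) ω i) := by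
  have hvan : Van ω i (A ⧸ IsLocalRing.maximalIdeal A) := van_residue hn i hi
  have hz : ∀ j : ℕᵒᵖᵒᵖ, IsZero ((Gd ω i).obj j) := by
    intro j
    have hB : IsFiniteLength A (A ⧸ IsLocalRing.maximalIdeal A ^ j.unop.unop) :=
      isFiniteLength_quotient_of_pow_le _ _ le_rfl
    have hsub : Subsingleton (Dual.inD A (A ⧸ IsLocalRing.maximalIdeal A ^ j.unop.unop) ⟶ ω⟦i⟧) :=
      van_of_isFiniteLength ω i hvan _ hB
    exact @ModuleCat.isZero_of_subsingleton _ _ _ hsub
  have h0 : IsZero (colimit (Gd ω i)) := by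
    rw [IsZero.iff_id_eq_zero]
    apply colimit.hom_ext
    intro j
    exact (hz j).eq_of_src _ _
  exact ModuleCat.subsingleton_of_isZero h0

noncomputable instance inst1 : PreservesColimitsOfShape ℕᵒᵖᵒᵖ (forget AddCommGrpCat.{u + 1}) :=
  haveI := preservesSmallestFilteredColimits_of_preservesFilteredColimits
    (forget AddCommGrpCat.{u + 1})
  PreservesFilteredColimitsOfSize.preserves_filtered_colimits _

noncomputable instance inst2 :
    PreservesColimitsOfShape ℕᵒᵖᵒᵖ (forget (ModuleCat.{u + 1} A)) := by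
  have h : forget₂ (ModuleCat.{u + 1} A) AddCommGrpCat.{u + 1} ⋙ forget AddCommGrpCat.{u + 1} =
      forget (ModuleCat.{u + 1} A) := HasForget₂.forget_comp
  rw [← h]
  infer_instance

/-- `E ≃ ULift E` -/
noncomputable def upE (A : Type u) [CommRing A] (E : Type u) [AddCommGroup E] [Module A E] :
    E ≃ₗ[A] ULift.{u + 1} E := ULift.moduleEquiv.symm

/-- the cocone with point `E` -/
noncomputable def coconeE : Cocone (Gd ω 0) where
  pt := ModuleCat.of A (ULift.{u + 1} E)
  ι :=
    { app := fun j => ModuleCat.ofHom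
        ((upE A E).toLinearMap ∘ₗ jmap hω hn f hf j.unop.unop)
      naturality := by
        intro X Y g
        obtain ⟨⟨n⟩⟩ := X
        obtain ⟨⟨k⟩⟩ := Y
        have h : n ≤ k := leOfHom g.unop.unop
        have hg : g = (homOfLE h).op.op := Subsingleton.elim _ _
        subst hg
        apply ModuleCat.hom_ext
        apply LinearMap.ext
        intro v
        change upE A E (jmap hω hn f hf k (tau ω h v)) = upE A E (jmap hω hn f hf n v)
        rw [jmap_tau_apply] }

lemma coconeE_ι_apply (n : ℕ) (v : V ω n) :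
    ((coconeE hω hn f hf).ι.app (op (op n))).hom v = upE A E (jmap hω hn f hf n v) := rfl

/-- the comparison map `HDI → E` -/
noncomputable def PhiE : Dual2.HDI A (IsLocalRing.maximalIdeal A) ω 0 →ₗ[A] ULift.{u + 1} E :=
  (colimit.desc (Gd ω 0) (coconeE hω hn f hf)).hom

lemma PhiE_ι (n : ℕ) (v : V ω n) :
    PhiE hω hn f hf ((colimit.ι (Gd ω 0) (op (op n))).hom v) =
      upE A E (jmap hω hn f hf n v) := by
  have h := colimit.ι_desc (coconeE hω hn f hf) (op (op n))
  have h' := congrArg (fun α => α.hom v) h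
  exact h'

theorem PhiE_bijective : Function.Bijective (PhiE hω hn f hf) := by
  constructor
  · rw [injective_iff_map_eq_zero]
    intro x hx
    obtain ⟨j, y, rfl⟩ := Concrete.colimit_exists_rep (Gd ω 0) x
    obtain ⟨⟨n⟩⟩ := j
    have h1 := PhiE_ι hω hn f hf n y
    have h2 : upE A E (jmap hω hn f hf n y) = (0 : ULift.{u + 1} E) :=
      h1.symm.trans hx
    have h3 : jmap hω hn f hf n y = 0 := by
      have := congrArg (upE A E).symm h2
      rwa [LinearEquiv.symm_apply_apply, map_zero] at this
    have h4 : y = 0 := jmap_injective hω hn f hf n (h3.trans (map_zero _).symm)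
    rw [h4]
    exact map_zero _
  · intro e
    obtain ⟨n, v, hv⟩ := exists_jmap_eq hω hn f hf ((upE A E).symm e)
    refine ⟨(colimit.ι (Gd ω 0) (op (op n))).hom v, ?_⟩
    rw [PhiE_ι, hv, LinearEquiv.apply_symm_apply]

theorem main_S1718 (A : Type u) [CommRing A] [IsLocalRing A] [IsNoetherianRing A] (ω : Dual.D A)
    (hω : Dual.IsDualizing A ω) (hn : Dual.IsNormalized A ω) (E : Type u) [AddCommGroup E]
    [Module A E] (f : IsLocalRing.ResidueField A →ₗ[A] E) (hf : InjHull.IsInjectiveHull f) :
    Nonempty (Dual2.HDI A (IsLocalRing.maximalIdeal A) ω 0 ≃ₗ[A] E) ∧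
      ∀ i : ℤ, i ≠ 0 → Subsingleton (Dual2.HDI A (IsLocalRing.maximalIdeal A) ω i) :=
  ⟨⟨(LinearEquiv.ofBijective (PhiE hω hn f hf) (PhiE_bijective hω hn f hf)).trans
    (upE A E).symm⟩, fun i hi => subsingleton_HDI hn i hi⟩

end Colim

end Groth.Agent.Helper3.LocDual
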