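import Mathlib
import Groth.Prelude.Def_Wider
import Groth.Agent.Lib.Helper3.LocDual6
import Groth.Agent.Lib.Helper3.LocDual8

/-!
# Local duality: the completion form
-/

set_option autoImplicit false
universe u
open CategoryTheory

attribute [local instance] HasDerivedCategory.standard

namespace Groth.Agent.Helper3.LocDual

open Groth.Agent.Helper3.DDual

theorem main_S11176 (A : Type u) [CommRing A] [IsLocalRing A] [IsNoetherianRing A] (ω : Dual.D A)
    (hω : Dual.IsDualizing A ω) (hn : Dual.IsNormalized A ω) (E : Type u) [AddCommGroup E]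
    [Module A E] (f : IsLocalRing.ResidueField A →ₗ[A] E) (hf : InjHull.IsInjectiveHull f)
    (M : Type u) [AddCommGroup M] [Module A M] [Module.Finite A M] (i : ℕ) :
    Nonempty (AdicCompletion (IsLocalRing.maximalIdeal A) (Dual.inD A M ⟶ ω⟦(-(i : ℤ))⟧) ≃ₗ[A]
      (LocCoh.H (IsLocalRing.maximalIdeal A) i M →ₗ[A] E)) := by
  obtain ⟨e⟩ := main_S11172 A ω hω hn E f hf M i
  obtain ⟨N', _, _, eN, _⟩ := exists_model_ext hω M (-(i : ℤ))
  let e1 : AdicCompletion (IsLocalRing.maximalIdeal A) (Dual.inD A M ⟶ ω⟦(-(i : ℤ))⟧) ≃ₗ[A]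
      AdicCompletion (IsLocalRing.maximalIdeal A) N' :=
    (AdicCompletion.congr (IsLocalRing.maximalIdeal A) eN).restrictScalars A
  let e2 : (LocCoh.H (IsLocalRing.maximalIdeal A) i M →ₗ[A] E) ≃ₗ[A] ((N' →ₗ[A] E) →ₗ[A] E) :=
    LinearEquiv.arrowCongr (e.trans (LinearEquiv.arrowCongr eN (LinearEquiv.refl A E)))
      (LinearEquiv.refl A E)
  exact ⟨e1.trans ((ddEquiv f hf N').symm.trans e2.symm)⟩

end Groth.Agent.Helper3.LocDual
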