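import Mathlib
import Groth.Prelude.Def_CohCmp
import Groth.Agent.Lib.Helper3.EdgeAb1

/-!
# The restriction maps `CohPull.resLE` on cohomology over opens: compatibility with connecting maps
-/

set_option autoImplicit false
universe u
open CategoryTheory CategoryTheory.Limits Opposite TopologicalSpace AlgebraicGeometry
open CategoryTheory.Abelian
open AlgebraicGeometry.Scheme.Modules

namespace Groth.Agent.Helper3.ResLE

section Top

variable {X Y : TopCat.{u}} (f : X ⟶ Y)

/-- pullback on cohomology followed by a map out of the inverse image -/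
noncomputable def pullVia {M : CohTop.Ab Y} {N : CohTop.Ab X} (τ : (CohPull.inv f).obj M ⟶ N)
    (p : ℕ) : Sheaf.H M p →+ Sheaf.H N p :=
  (Sheaf.H.map τ p).comp (CohPull.pullAb f M p)

theorem pullVia_apply {M : CohTop.Ab Y} {N : CohTop.Ab X} (τ : (CohPull.inv f).obj M ⟶ N)
    (p : ℕ) (x : Sheaf.H M p) :
    pullVia f τ p x =
      ((Ext.mk₀ (CohPull.oneTo f)).comp (x.mapExactFunctor (CohPull.inv f)) (zero_add p)).comp
        (Ext.mk₀ τ) (add_zero p) := rfl

/-- compatibility with connecting homomorphisms -/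
theorem pullVia_delta {S : ShortComplex (CohTop.Ab Y)} (hS : S.ShortExact)
    {S' : ShortComplex (CohTop.Ab X)} (hS' : S'.ShortExact)
    (τ : S.map (CohPull.inv f) ⟶ S') (p : ℕ) (x : Sheaf.H S.X₃ p) :
    pullVia f τ.τ₁ (p + 1) (x.comp hS.extClass rfl) =
      (pullVia f τ.τ₃ p x).comp hS'.extClass rfl := by
  have hS'' : (S.map (CohPull.inv f)).ShortExact := hS.map_of_exact (CohPull.inv f)
  have hnat := ShortComplex.ShortExact.extClass_naturality hS'' hS' τ
  have e2 : Ext.mapExactFunctor (CohPull.inv f) hS.extClass = hS''.extClass :=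
    Ext.mapExactFunctor_extClass (CohPull.inv f) hS
  have e1 : Ext.mapExactFunctor (CohPull.inv f) (x.comp hS.extClass rfl) =
      (Ext.mapExactFunctor (CohPull.inv f) x).comp hS''.extClass rfl :=
    (Ext.mapExactFunctor_comp (CohPull.inv f) x hS.extClass rfl).trans
      (congrArg (fun t => (Ext.mapExactFunctor (CohPull.inv f) x).comp t rfl) e2)
  have step1 : pullVia f τ.τ₁ (p + 1) (x.comp hS.extClass rfl) =
      ((Ext.mk₀ (CohPull.oneTo f)).comp
        ((Ext.mapExactFunctor (CohPull.inv f) x).comp hS''.extClass rfl) (zero_add (p + 1))).comp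
        (Ext.mk₀ τ.τ₁) (add_zero (p + 1)) :=
    congrArg (fun t => ((Ext.mk₀ (CohPull.oneTo f)).comp t (zero_add (p + 1))).comp
        (Ext.mk₀ τ.τ₁) (add_zero (p + 1))) e1
  refine step1.trans ?_
  exact EdgeAb.assoc_chain (Ext.mk₀ (CohPull.oneTo f)) (Ext.mapExactFunctor (CohPull.inv f) x)
    hS''.extClass (Ext.mk₀ τ.τ₁) (Ext.mk₀ τ.τ₃) hS'.extClass hnat

end Top

section Sch

/-- naturality of `θ : g⁻¹M ⟶ g^*M` -/
theorem theta_naturality {X Y : Scheme.{u}} (g : X ⟶ Y) {M M' : Y.Modules} (φ : M ⟶ M') :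
    (CohPull.inv g.base).map ((SheafOfModules.toSheaf Y.ringCatSheaf).map φ) ≫
        CohPull.theta g M' =
      CohPull.theta g M ≫
        (SheafOfModules.toSheaf X.ringCatSheaf).map ((Scheme.Modules.pullback g).map φ) := by
  apply ((CohPull.invPushAdj g.base).homEquiv _ _).injective
  have h1 : ∀ N : Y.Modules, (CohPull.invPushAdj g.base).homEquiv _ _ (CohPull.theta g N) =
      (SheafOfModules.toSheaf Y.ringCatSheaf).map
        ((Scheme.Modules.pullbackPushforwardAdjunction g).unit.app N) :=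
    fun N => Equiv.apply_symm_apply _ _
  refine (Adjunction.homEquiv_naturality_left _ _ _).trans ?_
  refine Eq.trans ?_ (Adjunction.homEquiv_naturality_right _ _ _).symm
  have h3 := (Scheme.Modules.pullbackPushforwardAdjunction g).unit.naturality φ
  refine (congrArg (fun t => (SheafOfModules.toSheaf Y.ringCatSheaf).map φ ≫ t) (h1 M')).trans ?_
  refine Eq.trans ?_ (congrArg (fun t => t ≫ (CohTop.push g.base).map
    ((SheafOfModules.toSheaf X.ringCatSheaf).map ((Scheme.Modules.pullback g).map φ)))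
    (h1 M)).symm
  exact ((SheafOfModules.toSheaf Y.ringCatSheaf).map_comp _ _).symm.trans
    ((congrArg (SheafOfModules.toSheaf Y.ringCatSheaf).map h3).trans
      ((SheafOfModules.toSheaf Y.ringCatSheaf).map_comp _ _))

variable {X Y : Scheme.{u}}

/-- the natural isomorphism underlying `CohPull.pullOnIso` -/
noncomputable def pullOnNatIso (g : X ⟶ Y) (U : Y.Opens) (U' : X.Opens) (h : U' ≤ g ⁻¹ᵁ U) :
    restrictFunctor U.ι ⋙ Scheme.Modules.pullback (g.resLE U U' h) ≅
      Scheme.Modules.pullback g ⋙ restrictFunctor U'.ι :=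
  Functor.isoWhiskerRight (restrictFunctorIsoPullback U.ι) (Scheme.Modules.pullback (g.resLE U U' h)) ≪≫
    pullbackComp (g.resLE U U' h) U.ι ≪≫ pullbackCongr (Scheme.Hom.resLE_comp_ι g h) ≪≫
    (pullbackComp U'.ι g).symm ≪≫
    Functor.isoWhiskerLeft (Scheme.Modules.pullback g) (restrictFunctorIsoPullback U'.ι).symm

theorem pullOnIso_hom (g : X ⟶ Y) (U : Y.Opens) (U' : X.Opens) (h : U' ≤ g ⁻¹ᵁ U)
    (F : Y.Modules) :
    (CohPull.pullOnIso g U U' h F).hom = (pullOnNatIso g U U' h).hom.app F := rfl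

end Sch

section Res

variable {X : Scheme.{u}} {U U' : X.Opens}

theorem le_id_preimage (h : U' ≤ U) : U' ≤ (𝟙 X : X ⟶ X) ⁻¹ᵁ U := by rwa [Scheme.Hom.id_preimage]

variable (h : U' ≤ U)

/-- the inclusion `U' ⟶ U` used by `CohPull.resLE` -/
noncomputable abbrev jj : (U' : Scheme.{u}) ⟶ (U : Scheme.{u}) :=
  (𝟙 X : X ⟶ X).resLE U U' (le_id_preimage h)

/-- the comparison `j⁻¹(F|_U) ⟶ F|_{U'}` of abelian sheaves -/
noncomputable def τ (F : X.Modules) :
    (CohPull.inv (jj h).base).obj ((CohCmp.toAbOn X U).obj F) ⟶ (CohCmp.toAbOn X U').obj F :=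
  CohPull.theta (jj h) (F.restrict U.ι) ≫
    (SheafOfModules.toSheaf (U' : Scheme.{u}).ringCatSheaf).map
      ((CohPull.pullOnIso (𝟙 X) U U' (le_id_preimage h) F).hom ≫
        (restrictFunctor U'.ι).map ((pullbackId X).hom.app F))

theorem resLE_eq (F : X.Modules) (p : ℕ) (x : Coh.HHon X F U p) :
    CohPull.resLE F h p x = pullVia (jj h).base (τ h F) p x := by
  change Sheaf.H.map _ p (Sheaf.H.map _ p (Sheaf.H.map (CohPull.theta (jj h) (F.restrict U.ι)) p
    (CohPull.pullAb (jj h).base _ p x))) = Sheaf.H.map (τ h F) p (CohPull.pullAb (jj h).base _ p x)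
  rw [← Sheaf.H.map_comp_apply, ← Sheaf.H.map_comp_apply]
  rfl

theorem τ_naturality {F G : X.Modules} (ψ : F ⟶ G) :
    (CohPull.inv (jj h).base).map ((CohCmp.toAbOn X U).map ψ) ≫ τ h G =
      τ h F ≫ (CohCmp.toAbOn X U').map ψ := by
  have ha := theta_naturality (jj h) ((restrictFunctor U.ι).map ψ)
  have hb := (pullOnNatIso (𝟙 X) U U' (le_id_preimage h)).hom.naturality ψ
  have hc := (pullbackId X).hom.naturality ψ
  have hc' : (restrictFunctor U'.ι).map ((Scheme.Modules.pullback (𝟙 X)).map ψ) ≫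
      (restrictFunctor U'.ι).map ((pullbackId X).hom.app G) =
      (restrictFunctor U'.ι).map ((pullbackId X).hom.app F) ≫ (restrictFunctor U'.ι).map ψ := by
    rw [← Functor.map_comp, ← Functor.map_comp]
    exact congrArg _ hc
  have hbc : (Scheme.Modules.pullback (jj h)).map ((restrictFunctor U.ι).map ψ) ≫
      ((CohPull.pullOnIso (𝟙 X) U U' (le_id_preimage h) G).hom ≫
        (restrictFunctor U'.ι).map ((pullbackId X).hom.app G)) =
      ((CohPull.pullOnIso (𝟙 X) U U' (le_id_preimage h) F).hom ≫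
        (restrictFunctor U'.ι).map ((pullbackId X).hom.app F)) ≫ (restrictFunctor U'.ι).map ψ := by
    rw [pullOnIso_hom, pullOnIso_hom, Category.assoc, ← hc']
    exact (reassoc_of% hb) _
  unfold τ
  refine (Category.assoc _ _ _).symm.trans ?_
  refine (congrArg (fun t => t ≫ _) ha).trans ?_
  refine (Category.assoc _ _ _).trans ?_
  refine Eq.trans ?_ (Category.assoc _ _ _).symm
  refine congrArg (fun t => CohPull.theta (jj h) (F.restrict U.ι) ≫ t) ?_
  exact ((SheafOfModules.toSheaf (U' : Scheme.{u}).ringCatSheaf).map_comp _ _).symm.trans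
    ((congrArg (SheafOfModules.toSheaf (U' : Scheme.{u}).ringCatSheaf).map hbc).trans
      ((SheafOfModules.toSheaf (U' : Scheme.{u}).ringCatSheaf).map_comp _ _))

/-- the comparison as a morphism of short complexes -/
noncomputable def τS (S : ShortComplex X.Modules) :
    (S.map (CohCmp.toAbOn X U)).map (CohPull.inv (jj h).base) ⟶ S.map (CohCmp.toAbOn X U') where
  τ₁ := τ h S.X₁
  τ₂ := τ h S.X₂
  τ₃ := τ h S.X₃
  comm₁₂ := (τ_naturality h S.f).symm
  comm₂₃ := (τ_naturality h S.g).symm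

/-- **restriction commutes with the connecting homomorphisms** -/
theorem resLE_extδ (S : ShortComplex X.Modules)
    (hA : (S.map (CohCmp.toAbOn X U)).ShortExact) (hA' : (S.map (CohCmp.toAbOn X U')).ShortExact)
    (p : ℕ) (x : Coh.HHon X S.X₃ U p) :
    CohPull.resLE S.X₁ h (p + 1) (CohCmp.extδ hA p x) =
      CohCmp.extδ hA' p (CohPull.resLE S.X₃ h p x) := by
  rw [resLE_eq, resLE_eq]
  exact pullVia_delta (jj h).base hA hA' (τS h S) p x

/-- restriction is natural in the module -/
theorem resLE_mapH {F G : X.Modules} (ψ : F ⟶ G) (p : ℕ) (x : Coh.HHon X F U p) :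
    CohPull.resLE G h p (CohPull.mapH ((restrictFunctor U.ι).map ψ) p x) =
      CohPull.mapH ((restrictFunctor U'.ι).map ψ) p (CohPull.resLE F h p x) := by
  rw [resLE_eq, resLE_eq]
  change Sheaf.H.map (τ h G) p (CohPull.pullAb (jj h).base _ p
    (Sheaf.H.map ((CohCmp.toAbOn X U).map ψ) p x)) =
    Sheaf.H.map ((CohCmp.toAbOn X U').map ψ) p (Sheaf.H.map (τ h F) p
      (CohPull.pullAb (jj h).base _ p x))
  rw [EdgeAb.pullAb_map, ← Sheaf.H.map_comp_apply, ← Sheaf.H.map_comp_apply, τ_naturality]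

end Res

end Groth.Agent.Helper3.ResLE
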