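import Mathlib
import Groth.Prelude.Def_CohCmp
import Groth.Agent.Lib.Lead.BCU3
import Groth.Agent.Lib.Helper3.ResLE1

/-!
# `CohPull.resLE` in degree zero is restriction of sections
-/

set_option autoImplicit false
universe u
open CategoryTheory Opposite TopologicalSpace AlgebraicGeometry
open AlgebraicGeometry.Scheme.Modules
set_option backward.isDefEq.respectTransparency.types false

namespace Groth.Agent.Helper3.ResLE

open Groth.Agent.Lead.BCU Groth.Agent.Lead.CIU

variable {X : Scheme.{u}}

/-- the unit of pullback along the identity -/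
theorem unit_id (F : X.Modules) :
    (pullbackPushforwardAdjunction (𝟙 X)).unit.app F ≫
      (pushforward (𝟙 X)).map ((pullbackId X).hom.app F) = (pushforwardId X).inv.app F := by
  have h := unit_conjugateEquiv Adjunction.id (pullbackPushforwardAdjunction (𝟙 X))
    (pullbackId X).hom F
  rw [conjugateEquiv_pullbackId_hom] at h
  simpa using h.symm

theorem unit_id_apply (F : X.Modules) (O : X.Opens) (m : Γ(F, O)) :
    ((pullbackId X).hom.app F).app ((𝟙 X : X ⟶ X) ⁻¹ᵁ O)
      (((pullbackPushforwardAdjunction (𝟙 X)).unit.app F).app O m) = m := by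
  have h := congrArg (fun φ => Hom.app φ O) (unit_id F)
  simp only [Hom.comp_app, pushforward_map_app, pushforwardId_inv_app_app] at h
  exact congrArg (fun φ => φ m) h

/-- sections over `U` as sections of the restriction over `⊤` -/
noncomputable abbrev tr (F : X.Modules) (U : X.Opens) (s : Γ(F, U)) : Γ(F.restrict U.ι, ⊤) :=
  res F (le_of_eq U.ι_image_top) s

theorem sectH0_eq (F : X.Modules) (U : X.Opens) (s : Γ(F, U)) :
    CohPull.sectH0 F U s =
      (Sheaf.H.equiv₀ (Coh.toAb (F.restrict U.ι))
        (Limits.isTerminalTop : Limits.IsTerminal (⊤ : U.toScheme.Opens))).symm (tr F U s) := rfl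

theorem res_thin (F : X.Modules) {O₁ O₂ O₃ : X.Opens} (h₁ : O₂ ≤ O₁) (h₂ : O₃ ≤ O₂) (h₃ : O₃ ≤ O₁)
    (s : Γ(F, O₁)) : res F h₂ (res F h₁ s) = res F h₃ s := res_res F h₁ h₂ s


section Core

variable {U U' : X.Opens} (h : U' ≤ U) (F : X.Modules)

theorem top_le_preimage_ι (U : X.Opens) : (⊤ : (U : Scheme.{u}).Opens) ≤ U.ι ⁻¹ᵁ U := by
  intro y _
  exact y.2

/-- step 2: the comparison `F|_U ≅ ι^*F` on the transported section -/
theorem step2 (U : X.Opens) (s : Γ(F, U)) :
    ((restrictFunctorIsoPullback U.ι).hom.app F).app ⊤ (tr F U s) =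
      res ((pullback U.ι).obj F) (top_le_preimage_ι U)
        (((pullbackPushforwardAdjunction U.ι).unit.app F).app U s) := by
  have h1 := unit_openImm_apply U.ι F U s
  rw [h1]
  have h2 := app_res ((restrictFunctorIsoPullback U.ι).hom.app F) (top_le_preimage_ι U)
    (res F (U.ι.image_preimage_le U) s)
  refine Eq.trans ?_ h2
  congr 1
  exact (res_res F _ _ s).symm

end Core

end Groth.Agent.Helper3.ResLE
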