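import Mathlib
import Groth.Prelude.Def_CohCmp
import Groth.Agent.Lib.Lead.BCU3
import Groth.Agent.Lib.Helper3.ResLE2

/-!
# `CohPull.resLE` in degree zero is restriction of sections: the computation
-/

set_option autoImplicit false
universe u
open CategoryTheory Opposite TopologicalSpace AlgebraicGeometry
open AlgebraicGeometry.Scheme.Modules
set_option backward.isDefEq.respectTransparency.types false

namespace Groth.Agent.Helper3.ResLE

open Groth.Agent.Lead.BCU Groth.Agent.Lead.CIU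

variable {X : Scheme.{u}} {U U' : X.Opens} (h : U' ≤ U) (F : X.Modules)

include h in
theorem top_le₆ : (⊤ : (U' : Scheme.{u}).Opens) ≤ (U'.ι ≫ 𝟙 X) ⁻¹ᵁ U := by
  rw [Category.comp_id]
  intro y _
  exact h y.2

theorem top_le₅ : (⊤ : (U' : Scheme.{u}).Opens) ≤ (jj h ≫ U.ι) ⁻¹ᵁ U := by
  have e : jj h ≫ U.ι = U'.ι ≫ 𝟙 X := Scheme.Hom.resLE_comp_ι (𝟙 X) (le_id_preimage h)
  rw [e]
  exact top_le₆ h

theorem core1 (s : Γ(F, U)) :
    ((pullbackComp (jj h) U.ι).hom.app F).app ⊤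
      (((pullback (jj h)).map ((restrictFunctorIsoPullback U.ι).hom.app F)).app ⊤
        (((pullbackPushforwardAdjunction (jj h)).unit.app (F.restrict U.ι)).app ⊤ (tr F U s))) =
      res ((pullback (jj h ≫ U.ι)).obj F) (top_le₅ h)
        (((pullbackPushforwardAdjunction (jj h ≫ U.ι)).unit.app F).app U s) := by
  have s1 : ((pullback (jj h)).map ((restrictFunctorIsoPullback U.ι).hom.app F)).app ⊤
      (((pullbackPushforwardAdjunction (jj h)).unit.app (F.restrict U.ι)).app ⊤ (tr F U s)) =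
      ((pullbackPushforwardAdjunction (jj h)).unit.app ((pullback U.ι).obj F)).app ⊤
        (((restrictFunctorIsoPullback U.ι).hom.app F).app ⊤ (tr F U s)) := by
    have := (pullbackPushforwardAdjunction (jj h)).unit.naturality
      ((restrictFunctorIsoPullback U.ι).hom.app F)
    exact (congrArg (fun φ => (Hom.app φ ⊤) (tr F U s)) this).symm
  have s2 := step2 F U s
  have s3 := app_res ((pullbackPushforwardAdjunction (jj h)).unit.app ((pullback U.ι).obj F))
    (top_le_preimage_ι U) (((pullbackPushforwardAdjunction U.ι).unit.app F).app U s)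
  have s4 := unit_comp_apply (jj h) U.ι F U s
  have s5 := iso_cancel_res ((pullbackComp (jj h) U.ι).app F) (O := (jj h ≫ U.ι) ⁻¹ᵁ U)
    (O' := ⊤) (top_le₅ h) (((pullbackPushforwardAdjunction (jj h ≫ U.ι)).unit.app F).app U s)
  rw [s1, s2]
  refine Eq.trans (congrArg (fun z => ((pullbackComp (jj h) U.ι).hom.app F).app ⊤ z) s3) ?_
  refine Eq.trans ?_ s5
  refine congrArg (fun z => ((pullbackComp (jj h) U.ι).hom.app F).app ⊤ z) ?_
  exact congrArg (fun z => res ((pullback (jj h)).obj ((pullback U.ι).obj F)) (top_le₅ h) z) s4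


theorem comp_eq : jj h ≫ U.ι = U'.ι ≫ 𝟙 X := Scheme.Hom.resLE_comp_ι (𝟙 X) (le_id_preimage h)

theorem top_le₇ (U' : X.Opens) (O : X.Opens) (hO : U' ≤ O) :
    (⊤ : (U' : Scheme.{u}).Opens) ≤ U'.ι ⁻¹ᵁ O := by
  intro y _
  exact hO y.2

theorem core2 (s : Γ(F, U)) :
    ((pullbackComp U'.ι (𝟙 X)).inv.app F).app ⊤
      (((pullbackCongr (comp_eq h)).hom.app F).app ⊤
        (res ((pullback (jj h ≫ U.ι)).obj F) (top_le₅ h)
          (((pullbackPushforwardAdjunction (jj h ≫ U.ι)).unit.app F).app U s))) =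
      res ((pullback U'.ι).obj ((pullback (𝟙 X)).obj F)) (top_le₇ U' ((𝟙 X : X ⟶ X) ⁻¹ᵁ U) h)
        (((pullbackPushforwardAdjunction U'.ι).unit.app ((pullback (𝟙 X)).obj F)).app
          ((𝟙 X : X ⟶ X) ⁻¹ᵁ U) (((pullbackPushforwardAdjunction (𝟙 X)).unit.app F).app U s)) := by
  have s6 := congr_unit_res (comp_eq h) F U (O' := ⊤) (top_le₅ h) (top_le₆ h) s
  have s7 := unit_comp_apply U'.ι (𝟙 X) F U s
  have s7' := app_res ((pullbackComp U'.ι (𝟙 X)).inv.app F) (top_le₆ h)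
    (((pullbackPushforwardAdjunction (U'.ι ≫ 𝟙 X)).unit.app F).app U s)
  rw [s6]
  refine s7'.trans ?_
  exact congrArg (fun z => res ((pullback U'.ι).obj ((pullback (𝟙 X)).obj F)) (top_le₆ h) z)
    s7.symm


theorem image_top_le (U' O : X.Opens) (hO : U' ≤ O) : U'.ι ''ᵁ ⊤ ≤ O := by
  rw [U'.ι_image_top]
  exact hO

theorem core3 (s : Γ(F, U)) :
    ((restrictFunctor U'.ι).map ((pullbackId X).hom.app F)).app ⊤
      (((restrictFunctorIsoPullback U'.ι).inv.app ((pullback (𝟙 X)).obj F)).app ⊤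
        (res ((pullback U'.ι).obj ((pullback (𝟙 X)).obj F))
          (top_le₇ U' ((𝟙 X : X ⟶ X) ⁻¹ᵁ U) h)
          (((pullbackPushforwardAdjunction U'.ι).unit.app ((pullback (𝟙 X)).obj F)).app
            ((𝟙 X : X ⟶ X) ⁻¹ᵁ U)
            (((pullbackPushforwardAdjunction (𝟙 X)).unit.app F).app U s)))) =
      tr F U' (res F h s) := by
  have s8 := unit_openImm_apply U'.ι ((pullback (𝟙 X)).obj F) ((𝟙 X : X ⟶ X) ⁻¹ᵁ U)
    (((pullbackPushforwardAdjunction (𝟙 X)).unit.app F).app U s)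
  have s9 := iso_cancel_res ((restrictFunctorIsoPullback U'.ι).app ((pullback (𝟙 X)).obj F)).symm
    (O := U'.ι ⁻¹ᵁ ((𝟙 X : X ⟶ X) ⁻¹ᵁ U)) (O' := ⊤) (top_le₇ U' ((𝟙 X : X ⟶ X) ⁻¹ᵁ U) h)
    (res ((pullback (𝟙 X)).obj F) (U'.ι.image_preimage_le ((𝟙 X : X ⟶ X) ⁻¹ᵁ U))
      (((pullbackPushforwardAdjunction (𝟙 X)).unit.app F).app U s))
  rw [s8]
  refine Eq.trans (congrArg (fun z => ((restrictFunctor U'.ι).map ((pullbackId X).hom.app F)).app ⊤ z)
    s9) ?_
  have s10 := app_res ((pullbackId X).hom.app F) (image_top_le U' ((𝟙 X : X ⟶ X) ⁻¹ᵁ U) h)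
    (((pullbackPushforwardAdjunction (𝟙 X)).unit.app F).app U s)
  have s11 := unit_id_apply F U s
  have s12 : res (((pullback (𝟙 X)).obj F).restrict U'.ι)
      (top_le₇ U' ((𝟙 X : X ⟶ X) ⁻¹ᵁ U) h)
      (res ((pullback (𝟙 X)).obj F) (U'.ι.image_preimage_le ((𝟙 X : X ⟶ X) ⁻¹ᵁ U))
        (((pullbackPushforwardAdjunction (𝟙 X)).unit.app F).app U s)) =
      res ((pullback (𝟙 X)).obj F) (image_top_le U' ((𝟙 X : X ⟶ X) ⁻¹ᵁ U) h)
        (((pullbackPushforwardAdjunction (𝟙 X)).unit.app F).app U s) :=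
    res_res ((pullback (𝟙 X)).obj F) _ _ _
  refine Eq.trans (congrArg (fun z => ((restrictFunctor U'.ι).map ((pullbackId X).hom.app F)).app ⊤ z)
    s12) ?_
  refine s10.trans ?_
  refine (congrArg (fun z => res F (image_top_le U' U h) z) s11).trans ?_
  exact (res_res F h (le_of_eq U'.ι_image_top) s).symm

end Groth.Agent.Helper3.ResLE
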