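import Mathlib
import Groth.Prelude.Def_CohCmp
import Groth.Agent.Lib.Lead.BCU3
import Groth.Agent.Lib.Helper3.ResLE3

/-!
# `CohPull.resLE` in degree zero is restriction of sections
-/

set_option autoImplicit false
universe u
open CategoryTheory Opposite TopologicalSpace AlgebraicGeometry
open AlgebraicGeometry.Scheme.Modules
set_option backward.isDefEq.respectTransparency.types false

namespace Groth.Agent.Helper3.ResLE

open Groth.Agent.Lead.BCU Groth.Agent.Lead.CIU

variable {X : Scheme.{u}} {U U' : X.Opens} (h : U' ≤ U) (F : X.Modules)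

theorem pullOnIso_app_top (z : Γ((pullback (jj h)).obj (F.restrict U.ι), ⊤)) :
    (CohPull.pullOnIso (𝟙 X) U U' (le_id_preimage h) F).hom.app ⊤ z =
      ((restrictFunctorIsoPullback U'.ι).inv.app ((pullback (𝟙 X)).obj F)).app ⊤
        (((pullbackComp U'.ι (𝟙 X)).inv.app F).app ⊤
          (((pullbackCongr (comp_eq h)).hom.app F).app ⊤
            (((pullbackComp (jj h) U.ι).hom.app F).app ⊤
              (((pullback (jj h)).map ((restrictFunctorIsoPullback U.ι).hom.app F)).app ⊤ z)))) :=
  rfl

/-- the module-level computation -/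
theorem core (s : Γ(F, U)) :
    ((restrictFunctor U'.ι).map ((pullbackId X).hom.app F)).app ⊤
      ((CohPull.pullOnIso (𝟙 X) U U' (le_id_preimage h) F).hom.app ⊤
        (((pullbackPushforwardAdjunction (jj h)).unit.app (F.restrict U.ι)).app ⊤ (tr F U s))) =
      tr F U' (res F h s) := by
  refine (congrArg (fun z => ((restrictFunctor U'.ι).map ((pullbackId X).hom.app F)).app ⊤ z)
    (pullOnIso_app_top h F _)).trans ?_
  refine (congrArg (fun z => ((restrictFunctor U'.ι).map ((pullbackId X).hom.app F)).app ⊤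
    (((restrictFunctorIsoPullback U'.ι).inv.app ((pullback (𝟙 X)).obj F)).app ⊤
      (((pullbackComp U'.ι (𝟙 X)).inv.app F).app ⊤
        (((pullbackCongr (comp_eq h)).hom.app F).app ⊤ z)))) (core1 h F s)).trans ?_
  refine (congrArg (fun z => ((restrictFunctor U'.ι).map ((pullbackId X).hom.app F)).app ⊤
    (((restrictFunctorIsoPullback U'.ι).inv.app ((pullback (𝟙 X)).obj F)).app ⊤ z))
    (core2 h F s)).trans ?_
  exact core3 h F s

theorem resLE_apply (p : ℕ) (x : Coh.HHon X F U p) :
    CohPull.resLE F h p x =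
      CohPull.mapH ((restrictFunctor U'.ι).map ((pullbackId X).hom.app F)) p
        (CohPull.mapH (CohPull.pullOnIso (𝟙 X) U U' (le_id_preimage h) F).hom p
          (CohPull.pullMod (jj h) (F.restrict U.ι) p x)) := rfl

/-- **in degree zero, `resLE` is restriction of sections** -/
theorem resLE_sectH0 (s : Γ(F, U)) :
    CohPull.resLE F h 0 (CohPull.sectH0 F U s) = CohPull.sectH0 F U' (res F h s) := by
  rw [sectH0_eq, sectH0_eq, AddEquiv.eq_symm_apply, resLE_apply]
  have e2 := Sheaf.H.equiv₀_naturality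
    (Limits.isTerminalTop : Limits.IsTerminal (⊤ : U'.toScheme.Opens))
    ((SheafOfModules.toSheaf (U' : Scheme.{u}).ringCatSheaf).map
      ((restrictFunctor U'.ι).map ((pullbackId X).hom.app F)))
    (CohPull.mapH (CohPull.pullOnIso (𝟙 X) U U' (le_id_preimage h) F).hom 0
      (CohPull.pullMod (jj h) (F.restrict U.ι) 0
        ((Sheaf.H.equiv₀ (Coh.toAb (F.restrict U.ι))
          (Limits.isTerminalTop : Limits.IsTerminal (⊤ : U.toScheme.Opens))).symm (tr F U s))))
  refine e2.symm.trans ?_
  have e3 := Sheaf.H.equiv₀_naturality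
    (Limits.isTerminalTop : Limits.IsTerminal (⊤ : U'.toScheme.Opens))
    ((SheafOfModules.toSheaf (U' : Scheme.{u}).ringCatSheaf).map
      (CohPull.pullOnIso (𝟙 X) U U' (le_id_preimage h) F).hom)
    (CohPull.pullMod (jj h) (F.restrict U.ι) 0
        ((Sheaf.H.equiv₀ (Coh.toAb (F.restrict U.ι))
          (Limits.isTerminalTop : Limits.IsTerminal (⊤ : U.toScheme.Opens))).symm (tr F U s)))
  refine (congrArg (fun z => ((restrictFunctor U'.ι).map ((pullbackId X).hom.app F)).app ⊤ z)
    e3.symm).trans ?_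
  have e4 := CohPull.equiv₀_pullMod (jj h) (F.restrict U.ι)
    ((Sheaf.H.equiv₀ (Coh.toAb (F.restrict U.ι))
      (Limits.isTerminalTop : Limits.IsTerminal (⊤ : U.toScheme.Opens))).symm (tr F U s))
  rw [AddEquiv.apply_symm_apply] at e4
  refine (congrArg (fun z => ((restrictFunctor U'.ι).map ((pullbackId X).hom.app F)).app ⊤
    ((CohPull.pullOnIso (𝟙 X) U U' (le_id_preimage h) F).hom.app ⊤ z)) e4).trans ?_
  exact core h F s


/-- `sectH0` is natural in the module -/
theorem mapH_sectH0 {F G : X.Modules} (ψ : F ⟶ G) (U : X.Opens) (s : Γ(F, U)) :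
    CohPull.mapH ((restrictFunctor U.ι).map ψ) 0 (CohPull.sectH0 F U s) =
      CohPull.sectH0 G U (ψ.app U s) := by
  rw [sectH0_eq, sectH0_eq]
  refine (Sheaf.H.equiv₀_symm_naturality
    (Limits.isTerminalTop : Limits.IsTerminal (⊤ : U.toScheme.Opens))
    ((SheafOfModules.toSheaf (U : Scheme.{u}).ringCatSheaf).map ((restrictFunctor U.ι).map ψ))
    (tr F U s)).trans ?_
  congr 1
  exact app_res ψ (le_of_eq U.ι_image_top) s

end Groth.Agent.Helper3.ResLE
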