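import Mathlib
import Groth.Prelude.Def_Coh
import Groth.Agent.Lib.Helper1.QcExt
import Groth.Agent.Lib.Helper1.QcAbel
import Groth.Agent.Lib.Helper1.H1Ext
import Groth.Agent.Lib.Helper1.H1Surj
import Groth.Agent.Lib.Helper3.LerayCol2
import Groth.Agent.Lib.Helper5.QC.DQCTri

/-!
# Acyclicity lemmas for cohomology of `O`-modules, used for the comparison
`H^q(X, F) → Γ(S, R^q f_* F)`
-/

set_option autoImplicit false
universe u
open CategoryTheory CategoryTheory.Limits Opposite TopologicalSpace AlgebraicGeometry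
open CategoryTheory.Abelian

namespace Groth.Agent.Helper3.SectBij

open Groth.Agent.Helper1

variable {Y : Scheme.{u}}

/-- all higher cohomology groups vanish -/
def HAcyc (M : Y.Modules) : Prop := ∀ k : ℕ, Subsingleton (Coh.HH Y M (k + 1))

theorem hAcyc_of_iso {M N : Y.Modules} (e : M ≅ N) (h : HAcyc M) : HAcyc N := by
  intro k
  have hk : Subsingleton (Sheaf.H ((QcExt.T Y).obj M) (k + 1)) := h k
  exact @LerayCol.subsingleton_H_of_iso _ _ _ _ _ ((QcExt.T Y).mapIso e) (k + 1) hk

theorem hAcyc_of_isZero {M : Y.Modules} (h : IsZero M) : HAcyc M :=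
  fun k => H1Ext.subsingleton_HH_of_isZero h (k + 1)

theorem hAcyc_mid {S : ShortComplex Y.Modules} (hS : S.ShortExact) (h1 : HAcyc S.X₁)
    (h3 : HAcyc S.X₃) : HAcyc S.X₂ :=
  fun k => H1Ext.subsingleton_HH_mid hS (k + 1) (h1 k) (h3 k)

theorem hAcyc_right {S : ShortComplex Y.Modules} (hS : S.ShortExact) (h1 : HAcyc S.X₁)
    (h2 : HAcyc S.X₂) : HAcyc S.X₃ := by
  intro k
  have hSab := QcExt.Sab_shortExact hS
  refine subsingleton_of_forall_eq 0 fun x => ?_
  have hx : x.comp hSab.extClass (rfl : k + 1 + 1 = k + 1 + 1) = 0 :=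
    Subsingleton.elim (h := h1 (k + 1)) _ _
  obtain ⟨y, hy⟩ := Ext.covariant_sequence_exact₃ _ hSab x rfl hx
  have hy0 : y = 0 := Subsingleton.elim (h := h2 k) y 0
  rw [← hy, hy0, Ext.zero_comp]
  rfl

/-- sections of a kernel -/
theorem exists_kernel_section {M N : Y.Modules} (φ : M ⟶ N) (U : Y.Opens) (t : Γ(M, U))
    (ht : φ.app U t = 0) : ∃ k : Γ(kernel φ, U), (kernel.ι φ).app U k = t := by
  let S : ShortComplex Y.Modules := ShortComplex.mk (kernel.ι φ) φ (kernel.condition φ)
  have hS : S.Exact := ShortComplex.exact_of_f_is_kernel _ (kernelIsKernel φ)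
  haveI : Mono S.f := inferInstanceAs (Mono (kernel.ι φ))
  exact QcAbel.app_exact' hS U t ht

end Groth.Agent.Helper3.SectBij
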