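import Mathlib
import Groth.Prelude.Def_CohCmp
import Groth.Agent.Lib.Helper3.SectBij1
import Groth.Agent.Lib.Helper3.EdgeLS2
import Groth.Agent.Lib.Helper3.EdgeMod2
import Groth.Agent.Lib.Helper1.RpushComp
import Groth.Agent.Lib.Helper1.DimOneAff2
import Groth.Agent.Lib.Helper5.RpushCl.RpushClassic
import Groth.Agent.S11327

/-!
# The comparison `H^q(X, F) → Γ(S, R^q f_* F)` over an affine base is bijective
-/

set_option autoImplicit false
universe u
open CategoryTheory CategoryTheory.Limits Opposite TopologicalSpace AlgebraicGeometry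
open CategoryTheory.Abelian
open AlgebraicGeometry.Scheme.Modules

namespace Groth.Agent.Helper3.SectBij

open Groth.Agent.Helper1

variable {X Y : Scheme.{u}} (f : X ⟶ Y) [HasInjectiveResolutions X.Modules]
  {Δ : RDer.DerivedLES (pushforward f)} (E : CohCmp.SectCmp f Δ)

/-- the dimension shifting step -/
theorem eps_succ_bijective (V : Y.Opens) (S : ShortComplex X.Modules) (hS : S.ShortExact) (q : ℕ)
    (hL : Subsingleton (Coh.HHon X S.X₂ (f ⁻¹ᵁ V) (q + 1)))
    (h₂ : Function.Surjective (E.ε V S.X₂ q)) (h₃ : Function.Bijective (E.ε V S.X₃ q))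
    (hsurj : Function.Surjective ((Δ.δ S hS q (q + 1) rfl).app V))
    (hker : ∀ t, (Δ.δ S hS q (q + 1) rfl).app V t = 0 →
      ∃ t₂, ((Coh.Rpush f q).map S.g).app V t₂ = t) :
    Function.Bijective (E.ε V S.X₁ (q + 1)) := by
  have hA := EdgeLS.shortExact_toAbOn (f ⁻¹ᵁ V) hS
  constructor
  · rw [injective_iff_map_eq_zero]
    intro x hx
    have hx2 : x.comp (Ext.mk₀ (S.map (CohCmp.toAbOn X (f ⁻¹ᵁ V))).f) (add_zero (q + 1)) = 0 :=
      Subsingleton.elim (h := hL) _ _
    obtain ⟨x', hx'⟩ := Ext.covariant_sequence_exact₁ _ hA x hx2 (n₀ := q) rfl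
    have h1 := E.delta V S hS hA q x'
    have hx'' : CohCmp.extδ hA q x' = x := hx'
    obtain ⟨t₂, ht₂⟩ := hker (E.ε V S.X₃ q x') (by rw [← h1, hx'', hx])
    obtain ⟨x'', rfl⟩ := h₂ t₂
    have h2 := E.natural V S.g q x''
    have h3 := h₃.1 (h2.trans ht₂)
    rw [← hx', ← h3]
    exact (Ext.comp_assoc_of_second_deg_zero x''
      (Ext.mk₀ (S.map (CohCmp.toAbOn X (f ⁻¹ᵁ V))).g) hA.extClass rfl).trans
      ((congrArg (fun t => x''.comp t rfl) hA.comp_extClass).trans (Ext.comp_zero _ _ _ _ _))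
  · intro t
    obtain ⟨t', rfl⟩ := hsurj t
    obtain ⟨x', rfl⟩ := h₃.2 t'
    exact ⟨CohCmp.extδ hA q x', E.delta V S hS hA q x'⟩

/-- modules all of whose higher direct images have no higher cohomology on the base -/
def Acyc (G : X.Modules) : Prop := ∀ p : ℕ, HAcyc ((Coh.Rpush f p).obj G)

theorem acyc_of_injective (I : X.Modules) [Injective I] : Acyc f I := by
  intro p
  cases p with
  | zero =>
    refine hAcyc_of_iso (((pushforward f).rightDerivedZeroIsoSelf).app I).symm ?_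
    intro k
    exact EdgeMod.subsingleton_H_push_of_injective f I k
  | succ p => exact hAcyc_of_isZero (Functor.isZero_rightDerived_obj_injective_succ _ p I)

/-- `R^0 f_*` preserves monomorphisms -/
theorem mono_rpush_zero_map {G G' : X.Modules} (g : G ⟶ G') [Mono g] :
    Mono ((Coh.Rpush f 0).map g) := by
  let e := (pushforward f).rightDerivedZeroIsoSelf
  have h1 : (Coh.Rpush f 0).map g = e.hom.app G ≫ (pushforward f).map g ≫ e.inv.app G' := by
    rw [← Category.assoc, ← e.hom.naturality g, Category.assoc, Iso.hom_inv_id_app, Category.comp_id]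
  rw [h1]
  haveI : Mono ((pushforward f).map g) := inferInstance
  infer_instance

section ses

variable (S : ShortComplex X.Modules) (hS : S.ShortExact) [Injective S.X₂]

theorem isIso_delta (p : ℕ) : IsIso (Δ.δ S hS (p + 1) (p + 1 + 1) rfl) := by
  have hz : IsZero ((Coh.Rpush f (p + 1)).obj S.X₂) :=
    Functor.isZero_rightDerived_obj_injective_succ _ p S.X₂
  have hz' : IsZero ((Coh.Rpush f (p + 1 + 1)).obj S.X₂) :=
    Functor.isZero_rightDerived_obj_injective_succ _ (p + 1) S.X₂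
  haveI : Mono (Δ.δ S hS (p + 1) (p + 1 + 1) rfl) :=
    (Δ.exact₃ S hS (p + 1) (p + 1 + 1) rfl).mono_g (hz.eq_of_src _ _)
  haveI : Epi (Δ.δ S hS (p + 1) (p + 1 + 1) rfl) :=
    (Δ.exact₁ S hS (p + 1) (p + 1 + 1) rfl).epi_f (hz'.eq_of_tgt _ _)
  exact isIso_of_mono_of_epi _

theorem epi_delta_zero : Epi (Δ.δ S hS 0 1 rfl) := by
  have hz' : IsZero ((Coh.Rpush f 1).obj S.X₂) :=
    Functor.isZero_rightDerived_obj_injective_succ _ 0 S.X₂
  exact (Δ.exact₁ S hS 0 1 rfl).epi_f (hz'.eq_of_tgt _ _)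

include hS in
/-- the short exact sequence `0 → ker δ₀ → R^0 f_* X₃ → R^1 f_* X₁ → 0` -/
theorem ses₁_shortExact :
    (ShortComplex.mk (kernel.ι (Δ.δ S hS 0 1 rfl)) (Δ.δ S hS 0 1 rfl)
      (kernel.condition _)).ShortExact := by
  haveI := epi_delta_zero f S hS (Δ := Δ)
  exact ShortComplex.ShortExact.mk' (ShortComplex.exact_of_f_is_kernel _ (kernelIsKernel _))
    (inferInstanceAs (Mono (kernel.ι _))) (inferInstanceAs (Epi (Δ.δ S hS 0 1 rfl)))

/-- the short exact sequence `0 → ker b → R^0 f_* X₂ → ker δ₀ → 0` -/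
theorem ses₂_shortExact :
    (ShortComplex.mk (kernel.ι ((Coh.Rpush f 0).map S.g))
      (kernel.lift (Δ.δ S hS 0 1 rfl) ((Coh.Rpush f 0).map S.g) (Δ.comp_δ S hS 0 1 rfl)) (by
        rw [← cancel_mono (kernel.ι (Δ.δ S hS 0 1 rfl)), Category.assoc, kernel.lift_ι,
          kernel.condition, zero_comp])).ShortExact :=
  Groth.Agent.Lib.Helper5.QC.shortExact_kerKer _ _ (Δ.comp_δ S hS 0 1 rfl) (Δ.exact₃ S hS 0 1 rfl)

/-- `R^0 f_* X₁ ≅ ker (R^0 f_* X₂ → R^0 f_* X₃)` -/
noncomputable def kerIso :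
    (Coh.Rpush f 0).obj S.X₁ ≅ kernel ((Coh.Rpush f 0).map S.g) := by
  haveI := hS.mono_f
  haveI : Mono ((Coh.Rpush f 0).map S.f) := mono_rpush_zero_map f S.f
  exact IsLimit.conePointUniqueUpToIso (Δ.exact₂ S hS 0).fIsKernel
    (limit.isLimit (parallelPair ((Coh.Rpush f 0).map S.g) 0))

variable {S} in
include hS in
theorem hAcyc_kernel_delta (h₁ : Acyc f S.X₁) : HAcyc (kernel (Δ.δ S hS 0 1 rfl)) := by
  have hT := ses₂_shortExact f S hS (Δ := Δ)
  exact hAcyc_right hT (hAcyc_of_iso (kerIso f S hS (Δ := Δ)) (h₁ 0)) (acyc_of_injective f S.X₂ 0)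

variable {S} in
include hS in
theorem acyc_X₃ (Δ : RDer.DerivedLES (pushforward f)) (h₁ : Acyc f S.X₁) : Acyc f S.X₃ := by
  intro p
  cases p with
  | zero =>
    exact hAcyc_mid (ses₁_shortExact f S hS (Δ := Δ)) (hAcyc_kernel_delta f hS (Δ := Δ) h₁) (h₁ 1)
  | succ p =>
    haveI := isIso_delta f S hS p (Δ := Δ)
    exact hAcyc_of_iso (asIso (Δ.δ S hS (p + 1) (p + 1 + 1) rfl)).symm (h₁ (p + 1 + 1))

variable {S} in
include hS in
theorem delta_app_top_surjective (h₁ : Acyc f S.X₁) (q : ℕ) :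
    Function.Surjective ((Δ.δ S hS q (q + 1) rfl).app ⊤) := by
  cases q with
  | zero =>
    exact H1Surj.app_top_surjective_of_H1 (ses₁_shortExact f S hS (Δ := Δ))
      (hAcyc_kernel_delta f hS (Δ := Δ) h₁ 0)
  | succ q =>
    haveI := isIso_delta f S hS q (Δ := Δ)
    intro t
    refine ⟨(inv (Δ.δ S hS (q + 1) (q + 1 + 1) rfl)).app ⊤ t, ?_⟩
    change ((inv (Δ.δ S hS (q + 1) (q + 1 + 1) rfl)).app ⊤ ≫
      (Δ.δ S hS (q + 1) (q + 1 + 1) rfl).app ⊤) t = t
    rw [← Hom.comp_app, IsIso.inv_hom_id, Hom.id_app]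
    rfl

variable {S} in
include hS in
theorem delta_app_top_ker (h₁ : Acyc f S.X₁) (q : ℕ)
    (t : ((Coh.Rpush f q).obj S.X₃).presheaf.obj (op ⊤))
    (ht : (Δ.δ S hS q (q + 1) rfl).app ⊤ t = 0) :
    ∃ t₂, ((Coh.Rpush f q).map S.g).app ⊤ t₂ = t := by
  cases q with
  | zero =>
    obtain ⟨k, hk⟩ := exists_kernel_section (Δ.δ S hS 0 1 rfl) ⊤ t ht
    have hT := ses₂_shortExact f S hS (Δ := Δ)
    have hsurj := H1Surj.app_top_surjective_of_H1 hT
      (hAcyc_of_iso (kerIso f S hS (Δ := Δ)) (h₁ 0) 0)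
    obtain ⟨t₂, ht₂⟩ := hsurj k
    refine ⟨t₂, ?_⟩
    have h1 : kernel.lift (Δ.δ S hS 0 1 rfl) ((Coh.Rpush f 0).map S.g) (Δ.comp_δ S hS 0 1 rfl) ≫
        kernel.ι (Δ.δ S hS 0 1 rfl) = (Coh.Rpush f 0).map S.g := kernel.lift_ι _ _ _
    rw [← h1, Hom.comp_app]
    change (kernel.ι (Δ.δ S hS 0 1 rfl)).app ⊤ (_) = t
    rw [← hk]
    exact congrArg _ ht₂
  | succ q =>
    haveI := isIso_delta f S hS q (Δ := Δ)
    refine ⟨0, ?_⟩
    rw [map_zero]
    have h2 : ((Δ.δ S hS (q + 1) (q + 1 + 1) rfl).app ⊤ ≫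
      (inv (Δ.δ S hS (q + 1) (q + 1 + 1) rfl)).app ⊤) t = t := by
      rw [← Hom.comp_app, IsIso.hom_inv_id, Hom.id_app]
      rfl
    rw [← h2]
    change 0 = (inv (Δ.δ S hS (q + 1) (q + 1 + 1) rfl)).app ⊤ ((Δ.δ S hS (q + 1) (q + 1 + 1) rfl).app ⊤ t)
    rw [ht, map_zero]

end ses

/-- **the comparison over the whole base is bijective on modules all of whose higher direct
images are acyclic on the base** -/
theorem eps_top_bijective_of_acyc (q : ℕ) :
    ∀ G : X.Modules, Acyc f G → Function.Bijective (E.ε ⊤ G q) := by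
  haveI := GSS.enoughInjectives_of_hasInjectiveResolutions X.Modules
  induction q with
  | zero =>
    intro G _
    haveI : IsIso ((pushforward f).toRightDerivedZero.app G) := inferInstance
    have h1 : ∀ s, E.ε ⊤ G 0 (CohPull.sectH0 G (f ⁻¹ᵁ ⊤) s) =
        ((pushforward f).toRightDerivedZero.app G).app ⊤ s := E.zero ⊤ G
    have h2 : Function.Bijective (((pushforward f).toRightDerivedZero.app G).app ⊤) := by
      constructor
      · intro a b hab
        have := congrArg ((inv ((pushforward f).toRightDerivedZero.app G)).app ⊤) hab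
        change (((pushforward f).toRightDerivedZero.app G).app ⊤ ≫
          (inv ((pushforward f).toRightDerivedZero.app G)).app ⊤) a =
          (((pushforward f).toRightDerivedZero.app G).app ⊤ ≫
          (inv ((pushforward f).toRightDerivedZero.app G)).app ⊤) b at this
        rw [← Hom.comp_app, IsIso.hom_inv_id, Hom.id_app] at this
        exact this
      · intro t
        refine ⟨(inv ((pushforward f).toRightDerivedZero.app G)).app ⊤ t, ?_⟩
        change ((inv ((pushforward f).toRightDerivedZero.app G)).app ⊤ ≫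
          ((pushforward f).toRightDerivedZero.app G).app ⊤) t = t
        rw [← Hom.comp_app, IsIso.inv_hom_id, Hom.id_app]
        rfl
    have h3 : (E.ε ⊤ G 0 : _ → _) = (((pushforward f).toRightDerivedZero.app G).app ⊤) ∘
        (CohPull.sectH0 G (f ⁻¹ᵁ ⊤)).symm := by
      funext x
      obtain ⟨s, rfl⟩ := (CohPull.sectH0 G (f ⁻¹ᵁ ⊤)).surjective x
      rw [h1]
      exact congrArg _ ((CohPull.sectH0 G (f ⁻¹ᵁ ⊤)).symm_apply_apply s).symm
    rw [h3]
    exact h2.comp (CohPull.sectH0 G (f ⁻¹ᵁ ⊤)).symm.bijective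
  | succ q ih =>
    intro G hG
    let S := DeltaEff.sc (Injective.ι G)
    have hS : S.ShortExact := DeltaEff.sc_shortExact (Injective.ι G)
    haveI : Injective S.X₂ := inferInstanceAs (Injective (Injective.under G))
    have hG' : Acyc f S.X₁ := hG
    have hL : Subsingleton (Coh.HHon X S.X₂ (f ⁻¹ᵁ ⊤) (q + 1)) := by
      haveI : Injective (S.X₂.restrict (f ⁻¹ᵁ ⊤).ι) :=
        Groth.Agent.S11327.result X (f ⁻¹ᵁ ⊤) S.X₂ inferInstance
      exact EdgeMod.subsingleton_H_of_injective (S.X₂.restrict (f ⁻¹ᵁ ⊤).ι) q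
    exact eps_succ_bijective f E ⊤ S hS q hL (ih S.X₂ (acyc_of_injective f S.X₂)).2
      (ih S.X₃ (acyc_X₃ f hS Δ hG')) (delta_app_top_surjective f hS hG' q)
      (delta_app_top_ker f hS hG' q)

/-- **the comparison over an affine base is bijective on quasi-coherent modules** -/
theorem S16959_main {X S : Scheme.{u}} (f : X ⟶ S) [QuasiCompact f] [QuasiSeparated f] [IsAffine S]
    [HasInjectiveResolutions X.Modules]
    {Δ : RDer.DerivedLES (pushforward f)} (E : CohCmp.SectCmp f Δ) (F : X.Modules) [Coh.IsQCoh F]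
    (q : ℕ) : Function.Bijective (E.ε ⊤ F q) := by
  haveI : F.IsQuasicoherent := ‹Coh.IsQCoh F›
  refine eps_top_bijective_of_acyc f E q F ?_
  intro p k
  haveI := Groth.Agent.Lib.Helper5.RpushClassic.isQuasicoherent_rpush f F p
  exact DimOneAff.subsingleton_HH_of_isAffine S _ k

end Groth.Agent.Helper3.SectBij
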