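import Mathlib
import Groth.Prelude.Def_CohCmp
import Groth.Agent.Lib.Helper3.ResLE4
import Groth.Agent.Lib.Helper3.SectBij2

/-!
# The comparison maps `H^p(f⁻¹V, F) → Γ(V, R^p f_* F)` are locally injective
-/

set_option autoImplicit false
universe u
open CategoryTheory CategoryTheory.Limits Opposite TopologicalSpace AlgebraicGeometry
open CategoryTheory.Abelian
open AlgebraicGeometry.Scheme.Modules
set_option backward.isDefEq.respectTransparency.types false

namespace Groth.Agent.Helper3.LocInj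

open Groth.Agent.Lead.BCU (res res_res app_res)

section General

variable {Y : Scheme.{u}}

/-- local lifting along an exact sequence of modules -/
theorem exists_local_lift_of_exact (T : ShortComplex Y.Modules) (hT : T.Exact)
    (V : Y.Opens) (t : Γ(T.X₂, V)) (ht : T.g.app V t = 0) (y : Y) (hy : y ∈ V) :
    ∃ (W : Y.Opens) (hWV : W ≤ V), y ∈ W ∧
      ∃ t₁ : Γ(T.X₁, W), T.f.app W t₁ = res T.X₂ hWV t := by
  obtain ⟨k, hk⟩ := SectBij.exists_kernel_section T.g V t ht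
  haveI : Epi (kernel.lift T.g T.f T.zero) := T.exact_iff_epi_kernel_lift.1 hT
  obtain ⟨W, hWV, hyW, t₁, ht₁⟩ :=
    EdgeLS.exists_local_lift (kernel.lift T.g T.f T.zero) V k y hy
  refine ⟨W, hWV, hyW, t₁, ?_⟩
  have h1 : kernel.lift T.g T.f T.zero ≫ kernel.ι T.g = T.f := kernel.lift_ι _ _ _
  have h2 := congrArg (fun φ => (Hom.app φ W) t₁) h1
  refine h2.symm.trans ?_
  change (kernel.ι T.g).app W ((kernel.lift T.g T.f T.zero).app W t₁) = _
  rw [ht₁, ← hk]
  exact app_res (kernel.ι T.g) hWV k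

/-- a monomorphism of modules is injective on sections -/
theorem app_eq_zero_of_mono {M N : Y.Modules} (φ : M ⟶ N) [Mono φ] (W : Y.Opens) (t : Γ(M, W))
    (ht : φ.app W t = 0) : t = 0 := by
  obtain ⟨k, hk⟩ := SectBij.exists_kernel_section φ W t ht
  have h0 : kernel.ι φ = 0 := kernel.ι_of_mono φ
  have := congrArg (fun ψ => (Hom.app ψ W) k) h0
  exact hk.symm.trans this

end General

variable {X Y : Scheme.{u}} (f : X ⟶ Y) [HasInjectiveResolutions X.Modules]

theorem toRDZ_app_injective (G : X.Modules) (W : Y.Opens) :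
    Function.Injective (((pushforward f).toRightDerivedZero.app G).app W) := by
  haveI : IsIso ((pushforward f).toRightDerivedZero.app G) := inferInstance
  intro a b hab
  have := congrArg ((inv ((pushforward f).toRightDerivedZero.app G)).app W) hab
  change (((pushforward f).toRightDerivedZero.app G).app W ≫
    (inv ((pushforward f).toRightDerivedZero.app G)).app W) a =
    (((pushforward f).toRightDerivedZero.app G).app W ≫
    (inv ((pushforward f).toRightDerivedZero.app G)).app W) b at this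
  rw [← Hom.comp_app, IsIso.hom_inv_id, Hom.id_app] at this
  exact this

theorem toRDZ_app_surjective (G : X.Modules) (W : Y.Opens) :
    Function.Surjective (((pushforward f).toRightDerivedZero.app G).app W) := by
  haveI : IsIso ((pushforward f).toRightDerivedZero.app G) := inferInstance
  intro t
  refine ⟨(inv ((pushforward f).toRightDerivedZero.app G)).app W t, ?_⟩
  change ((inv ((pushforward f).toRightDerivedZero.app G)).app W ≫
    ((pushforward f).toRightDerivedZero.app G).app W) t = t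
  rw [← Hom.comp_app, IsIso.inv_hom_id, Hom.id_app]
  rfl

variable {Δ : RDer.DerivedLES (pushforward f)} (E : CohCmp.SectCmp f Δ)

/-- the strengthened local injectivity statement -/
def Inj' (p : ℕ) : Prop :=
  ∀ (F : X.Modules) (V : Y.Opens) (x : Coh.HHon X F (f ⁻¹ᵁ V) p) (W₀ : Y.Opens) (hW₀ : W₀ ≤ V),
    res ((Coh.Rpush f p).obj F) hW₀ (E.ε V F p x) = 0 → ∀ y : Y, y ∈ W₀ →
      ∃ (W : Y.Opens) (hW : W ≤ W₀), y ∈ W ∧
        CohPull.resLE F (f.preimage_mono (hW.trans hW₀)) p x = 0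

theorem base0 : Inj' f E 0 := by
  intro F V x W₀ hW₀ hx y hy
  refine ⟨W₀, le_rfl, hy, ?_⟩
  obtain ⟨s, rfl⟩ := (CohPull.sectH0 F (f ⁻¹ᵁ V)).surjective x
  rw [E.zero V F s] at hx
  have h1 := app_res ((pushforward f).toRightDerivedZero.app F) hW₀ s
  have h2 : res ((pushforward f).obj F) hW₀ s = 0 :=
    toRDZ_app_injective f F W₀ (h1.trans (hx.trans (map_zero _).symm))
  have h3 : res F (f.preimage_mono hW₀) s = 0 := h2
  rw [ResLE.resLE_sectH0, h3, map_zero]


theorem step (q : ℕ) (ih : Inj' f E (q + 1)) : Inj' f E (q + 2) := by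
  haveI := GSS.enoughInjectives_of_hasInjectiveResolutions X.Modules
  intro F V x W₀ hW₀ hx y hy
  let S := DeltaEff.sc (Injective.ι F)
  have hS : S.ShortExact := DeltaEff.sc_shortExact (Injective.ι F)
  haveI : Injective S.X₂ := inferInstanceAs (Injective (Injective.under F))
  have hA := EdgeLS.shortExact_toAbOn (f ⁻¹ᵁ V) hS
  have hL : Subsingleton (Coh.HHon X S.X₂ (f ⁻¹ᵁ V) (q + 1 + 1)) := by
    haveI : Injective (S.X₂.restrict (f ⁻¹ᵁ V).ι) :=
      Groth.Agent.S11327.result X (f ⁻¹ᵁ V) S.X₂ inferInstance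
    exact EdgeMod.subsingleton_H_of_injective (S.X₂.restrict (f ⁻¹ᵁ V).ι) (q + 1)
  have hx2 : Ext.comp (show Coh.HHon X S.X₁ (f ⁻¹ᵁ V) (q + 1 + 1) from x)
      (Ext.mk₀ (S.map (CohCmp.toAbOn X (f ⁻¹ᵁ V))).f) (add_zero (q + 1 + 1)) = 0 :=
    Subsingleton.elim (h := hL) _ _
  obtain ⟨x', hx'⟩ := Ext.covariant_sequence_exact₁ _ hA _ hx2 (n₀ := q + 1) rfl
  have hx'' : CohCmp.extδ hA (q + 1) x' = x := hx'
  have hd := E.delta V S hS hA (q + 1) x'
  have hz : IsZero ((Coh.Rpush f (q + 1)).obj S.X₂) :=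
    Functor.isZero_rightDerived_obj_injective_succ _ q S.X₂
  haveI : Mono (Δ.δ S hS (q + 1) (q + 1 + 1) rfl) :=
    (Δ.exact₃ S hS (q + 1) (q + 1 + 1) rfl).mono_g (hz.eq_of_src _ _)
  have h1 : (Δ.δ S hS (q + 1) (q + 1 + 1) rfl).app W₀
      (res ((Coh.Rpush f (q + 1)).obj S.X₃) hW₀ (E.ε V S.X₃ (q + 1) x')) = 0 := by
    rw [app_res, ← hd, hx'']
    exact hx
  have h2 := app_eq_zero_of_mono _ W₀ _ h1
  obtain ⟨W, hW, hyW, hres⟩ := ih S.X₃ V x' W₀ hW₀ h2 y hy
  refine ⟨W, hW, hyW, ?_⟩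
  have hA' := EdgeLS.shortExact_toAbOn (f ⁻¹ᵁ W) hS
  have h5 := ResLE.resLE_extδ (f.preimage_mono (hW.trans hW₀)) S hA hA' (q + 1) x'
  rw [hx''] at h5
  refine h5.trans ?_
  rw [hres]
  exact map_zero (CohCmp.extδ hA' (q + 1))

theorem base1 : Inj' f E 1 := by
  haveI := GSS.enoughInjectives_of_hasInjectiveResolutions X.Modules
  intro F V x W₀ hW₀ hx y hy
  let S := DeltaEff.sc (Injective.ι F)
  have hS : S.ShortExact := DeltaEff.sc_shortExact (Injective.ι F)
  haveI : Injective S.X₂ := inferInstanceAs (Injective (Injective.under F))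
  have hA := EdgeLS.shortExact_toAbOn (f ⁻¹ᵁ V) hS
  have hL : Subsingleton (Coh.HHon X S.X₂ (f ⁻¹ᵁ V) (0 + 1)) := by
    haveI : Injective (S.X₂.restrict (f ⁻¹ᵁ V).ι) :=
      Groth.Agent.S11327.result X (f ⁻¹ᵁ V) S.X₂ inferInstance
    exact EdgeMod.subsingleton_H_of_injective (S.X₂.restrict (f ⁻¹ᵁ V).ι) 0
  have hx2 : Ext.comp (show Coh.HHon X S.X₁ (f ⁻¹ᵁ V) (0 + 1) from x)
      (Ext.mk₀ (S.map (CohCmp.toAbOn X (f ⁻¹ᵁ V))).f) (add_zero (0 + 1)) = 0 :=
    Subsingleton.elim (h := hL) _ _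
  obtain ⟨x', hx'⟩ := Ext.covariant_sequence_exact₁ _ hA _ hx2 (n₀ := 0) rfl
  have hx'' : CohCmp.extδ hA 0 x' = x := hx'
  obtain ⟨s', rfl⟩ := (CohPull.sectH0 S.X₃ (f ⁻¹ᵁ V)).surjective x'
  have hd := E.delta V S hS hA 0 (CohPull.sectH0 S.X₃ (f ⁻¹ᵁ V) s')
  have hz0 := E.zero V S.X₃ s'
  have h1 : (Δ.δ S hS 0 (0 + 1) rfl).app W₀
      (res ((Coh.Rpush f 0).obj S.X₃) hW₀
        (((pushforward f).toRightDerivedZero.app S.X₃).app V s')) = 0 := by
    rw [app_res, ← hz0, ← hd, hx'']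
    exact hx
  obtain ⟨W, hW, hyW, t₂, ht₂⟩ := exists_local_lift_of_exact
    (ShortComplex.mk _ _ (Δ.comp_δ S hS 0 (0 + 1) rfl)) (Δ.exact₃ S hS 0 (0 + 1) rfl) W₀ _ h1 y hy
  obtain ⟨s₂, rfl⟩ := toRDZ_app_surjective f S.X₂ W t₂
  have hnat := (pushforward f).toRightDerivedZero.naturality S.g
  have h3 : ((pushforward f).toRightDerivedZero.app S.X₃).app W
        (((pushforward f).map S.g).app W s₂) =
      ((pushforward f).toRightDerivedZero.app S.X₃).app W
        (res ((pushforward f).obj S.X₃) (hW.trans hW₀) s') := by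
    have e1 := congrArg (fun φ => (Hom.app φ W) s₂) hnat
    refine e1.trans (ht₂.trans ?_)
    rw [res_res]
    exact (app_res ((pushforward f).toRightDerivedZero.app S.X₃) (hW.trans hW₀) s').symm
  have h4 : S.g.app (f ⁻¹ᵁ W) s₂ = res S.X₃ (f.preimage_mono (hW.trans hW₀)) s' :=
    toRDZ_app_injective f S.X₃ W h3
  refine ⟨W, hW, hyW, ?_⟩
  have hA' := EdgeLS.shortExact_toAbOn (f ⁻¹ᵁ W) hS
  have h5 := ResLE.resLE_extδ (f.preimage_mono (hW.trans hW₀)) S hA hA' 0
    (CohPull.sectH0 S.X₃ (f ⁻¹ᵁ V) s')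
  rw [hx''] at h5
  refine h5.trans ?_
  rw [ResLE.resLE_sectH0, ← h4, ← ResLE.mapH_sectH0]
  exact (Ext.comp_assoc_of_second_deg_zero (CohPull.sectH0 S.X₂ (f ⁻¹ᵁ W) s₂)
    (Ext.mk₀ (S.map (CohCmp.toAbOn X (f ⁻¹ᵁ W))).g) hA'.extClass rfl).trans
    ((congrArg (fun t => (CohPull.sectH0 S.X₂ (f ⁻¹ᵁ W) s₂).comp t rfl) hA'.comp_extClass).trans
      (Ext.comp_zero _ _ _ _ _))

theorem inj_all (p : ℕ) : Inj' f E p := by
  induction p using Nat.twoStepInduction with
  | zero => exact base0 f E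
  | one => exact base1 f E
  | more q _ ih => exact step f E q ih

/-- **the comparison maps are locally injective** -/
theorem locally_injective (F : X.Modules) (p : ℕ) (V : Y.Opens) (x : Coh.HHon X F (f ⁻¹ᵁ V) p)
    (hx : E.ε V F p x = 0) (y : Y) (hy : y ∈ V) :
    ∃ (W : Y.Opens) (hWV : W ≤ V), y ∈ W ∧
      CohPull.resLE F (f.preimage_mono hWV) p x = 0 := by
  have h0 : res ((Coh.Rpush f p).obj F) (le_refl V) (E.ε V F p x) = 0 := by
    rw [hx]; exact map_zero _
  obtain ⟨W, hW, hyW, h⟩ := inj_all f E p F V x V le_rfl h0 y hy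
  exact ⟨W, hW, hyW, h⟩

end Groth.Agent.Helper3.LocInj
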