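import Mathlib

/-! Flat surjective morphisms descend local integrality (S4647). -/

universe u

open CategoryTheory AlgebraicGeometry TopologicalSpace

namespace Groth.Agent.Helper3.LocInt

/-- Topological lemma: if `ζ` specializes to every generization of `y` and `y` has a Noetherian
open neighbourhood `U` in a space all of whose open subspaces are quasi-sober, then `y` has an open
neighbourhood contained in the closure of `ζ`. -/
theorem exists_open_subset_closure {X : Type*} [TopologicalSpace X] (U : Opens X)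
    [QuasiSober ↥U] [NoetherianSpace ↥U] (y ζ : X) (hy : y ∈ U)
    (hζ : ∀ y' : X, y' ⤳ y → ζ ⤳ y') :
    ∃ V : Opens X, y ∈ V ∧ (V : Set X) ⊆ closure {ζ} := by
  classical
  obtain ⟨S, hSf, hSirr, hS⟩ :=
    NoetherianSpace.exists_finite_set_closeds_irreducible (⊤ : Closeds ↥U)
  let y0 : ↥U := ⟨y, hy⟩
  let T : Set ↥U := ⋃ Z ∈ {Z ∈ S | y0 ∉ Z}, (Z : Set ↥U)
  have hTc : IsClosed T := by
    refine Set.Finite.isClosed_biUnion (hSf.subset (fun Z hZ => hZ.1)) ?_
    intro Z _
    exact Z.isClosed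
  have hTo : IsOpen (Subtype.val '' Tᶜ : Set X) :=
    U.isOpen.isOpenEmbedding_subtypeVal.isOpenMap _ hTc.isOpen_compl
  refine ⟨⟨_, hTo⟩, ?_, ?_⟩
  · refine ⟨y0, ?_, rfl⟩
    intro hmem
    simp only [T, Set.mem_iUnion] at hmem
    obtain ⟨Z, ⟨_, hZ⟩, hyZ⟩ := hmem
    exact hZ hyZ
  · rintro _ ⟨u, hu, rfl⟩
    have huS : u ∈ ((sSup S : Closeds ↥U) : Set ↥U) := by
      rw [← hS]; trivial
    obtain ⟨S', hS'⟩ : ∃ S' : Finset (Closeds ↥U), (S' : Set (Closeds ↥U)) = S :=
      ⟨hSf.toFinset, hSf.coe_toFinset⟩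
    subst hS'
    rw [← Finset.sup_id_eq_sSup, Closeds.coe_finset_sup] at huS
    obtain ⟨Z, hZS, huZ⟩ : ∃ Z ∈ S', u ∈ (Z : Set ↥U) := by
      simpa using huS
    have hyZ : y0 ∈ Z := by
      by_contra hcon
      apply hu
      simp only [T, Set.mem_iUnion]
      exact ⟨Z, ⟨hZS, hcon⟩, huZ⟩
    obtain ⟨η, hη⟩ := QuasiSober.sober (hSirr Z hZS) Z.isClosed
    have h1 : η ⤳ y0 := by
      rw [specializes_iff_mem_closure, hη.def]; exact hyZ
    have h2 : η ⤳ u := by
      rw [specializes_iff_mem_closure, hη.def]; exact huZ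
    have h1' : (η : X) ⤳ y := (subtype_specializes_iff _ _).mp h1
    have h2' : (η : X) ⤳ (u : X) := (subtype_specializes_iff _ _).mp h2
    exact ((hζ _ h1').trans h2').mem_closure


/-- If the stalk at `y` is a domain, the generizations of `y` have a common generization. -/
theorem exists_generic_of_isDomain_stalk {Y : Scheme.{u}} (y : Y)
    [IsDomain ↑(Y.presheaf.stalk y)] :
    ∃ ζ : Y, ∀ y' : Y, y' ⤳ y → ζ ⤳ y' := by
  let ξ : PrimeSpectrum (Y.presheaf.stalk y) := ⟨⊥, Ideal.isPrime_bot⟩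
  refine ⟨(Y.fromSpecStalk y) ξ, fun y' hy' => ?_⟩
  have hr : y' ∈ Set.range (Y.fromSpecStalk y) := by
    rw [Scheme.range_fromSpecStalk]; exact hy'
  obtain ⟨p, rfl⟩ := hr
  have hξp : ξ ⤳ p := (PrimeSpectrum.le_iff_specializes ξ p).mp bot_le
  exact hξp.map (Y.fromSpecStalk y).continuous

/-- Flat surjective morphisms descend the property "all stalks are domains". -/
theorem isDomain_stalk_of_flat_surjective {X Y : Scheme.{u}} (f : X ⟶ Y) [Flat f] [Surjective f]
    (hX : ∀ x : X, IsDomain ↑(X.presheaf.stalk x)) (y : Y) :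
    IsDomain ↑(Y.presheaf.stalk y) := by
  obtain ⟨x, rfl⟩ := f.surjective y
  have := hX x
  have hinj : Function.Injective (f.stalkMap x).hom := by
    algebraize [(f.stalkMap x).hom]
    have : Module.FaithfullyFlat (Y.presheaf.stalk (f x)) (X.presheaf.stalk x) :=
      @Module.FaithfullyFlat.of_flat_of_isLocalHom _ _ _ _ _ _ _
        (Flat.stalkMap f x) (f.toLRSHom.prop x)
    exact ‹RingHom.FaithfullyFlat _›.injective
  exact hinj.isDomain _

theorem S4647_main {X Y : Scheme.{u}} (f : X ⟶ Y) [Flat f] [Surjective f]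
    (hX : ∀ x : X, IsDomain ↑(X.presheaf.stalk x))
    (hY : ∀ y : Y, ∃ U : Y.Opens, y ∈ U ∧ TopologicalSpace.NoetherianSpace ↥U) (y : Y) :
    ∃ U : Y.Opens, y ∈ U ∧ IsIntegral (U : Scheme.{u}) := by
  have hdom := isDomain_stalk_of_flat_surjective f hX
  obtain ⟨U, hyU, hN⟩ := hY y
  have := hdom y
  obtain ⟨ζ, hζ⟩ := exists_generic_of_isDomain_stalk y
  have : QuasiSober ↥U := inferInstanceAs (QuasiSober ↥(U : Scheme.{u}))
  obtain ⟨V, hyV, hV⟩ := exists_open_subset_closure U y ζ hyU hζ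
  refine ⟨V, hyV, ?_⟩
  have : IsReduced Y := by
    have : ∀ y : Y, _root_.IsReduced (Y.presheaf.stalk y) := fun y => by
      have := hdom y; infer_instance
    exact isReduced_of_isReduced_stalk Y
  have hirr : IsIrreducible (V : Set Y) :=
    ⟨⟨y, hyV⟩, (isIrreducible_singleton.closure.isPreirreducible).open_subset V.isOpen hV⟩
  have : IrreducibleSpace ↥(V : Scheme.{u}) := by
    have : IrreducibleSpace ↥(V : Set Y) := (isIrreducible_iff_irreducibleSpace).mp hirr
    exact this
  exact isIntegral_of_irreducibleSpace_of_isReduced (V : Scheme.{u})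

end Groth.Agent.Helper3.LocInt
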