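import Mathlib

set_option autoImplicit false
set_option linter.unusedSectionVars false
universe v u

open CategoryTheory CategoryTheory.Limits CategoryTheory.Pretriangulated

namespace Groth.Agent.Helper3.MVGen

variable {C : Type u} [Category.{v} C] [Preadditive C] [HasZeroObject C] [HasShift C ℤ]
  [∀ n : ℤ, (shiftFunctor C n).Additive] [Pretriangulated C]

/-- the triangle `Y' ⟶ Z ⊞ Y' ⟶ Z ⟶ Y'⟦1⟧` -/
lemma inr_fst_distinguished (Z Y' : C) :
    Triangle.mk (biprod.inr : Y' ⟶ Z ⊞ Y') (biprod.fst : Z ⊞ Y' ⟶ Z) 0 ∈ distTriang C := by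
  refine isomorphic_distinguished _ (binaryBiproductTriangle_distinguished Y' Z) _ ?_
  refine Triangle.isoMk _ _ (Iso.refl _) (biprod.braiding Z Y') (Iso.refl _) ?_ ?_ ?_
  · change biprod.inr ≫ (biprod.braiding Z Y').hom = 𝟙 _ ≫ biprod.inl
    apply biprod.hom_ext <;> simp
  · change biprod.fst ≫ 𝟙 _ = (biprod.braiding Z Y').hom ≫ biprod.snd
    simp
  · change (0 : Z ⟶ _) ≫ _ = 𝟙 _ ≫ 0
    simp

/-- changing the signs of the first two maps -/
lemma neg_neg_distinguished {T : Triangle C} (hT : T ∈ distTriang C) :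
    Triangle.mk (-T.mor₁) (-T.mor₂) T.mor₃ ∈ distTriang C := by
  refine isomorphic_distinguished _ hT _ ?_
  refine Triangle.isoMk _ _ (Iso.refl _) (-(Iso.refl _)) (Iso.refl _) ?_ ?_ ?_
  · change (-T.mor₁) ≫ (-𝟙 _) = 𝟙 _ ≫ T.mor₁
    simp
  · change (-T.mor₂) ≫ 𝟙 _ = (-𝟙 _) ≫ T.mor₂
    simp
  · change T.mor₃ ≫ (shiftFunctor C (1 : ℤ)).map (𝟙 _) = 𝟙 _ ≫ T.mor₃
    simp

/-- changing the signs of the last two maps -/
lemma neg_neg_distinguished' {T : Triangle C} (hT : T ∈ distTriang C) :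
    Triangle.mk T.mor₁ (-T.mor₂) (-T.mor₃) ∈ distTriang C := by
  refine isomorphic_distinguished _ hT _ ?_
  refine Triangle.isoMk _ _ (Iso.refl _) (Iso.refl _) (-(Iso.refl _)) ?_ ?_ ?_
  · change T.mor₁ ≫ 𝟙 _ = 𝟙 _ ≫ T.mor₁
    simp
  · change (-T.mor₂) ≫ (-𝟙 _) = 𝟙 _ ≫ T.mor₂
    simp
  · change (-T.mor₃) ≫ (shiftFunctor C (1 : ℤ)).map (𝟙 _) = (-𝟙 _) ≫ T.mor₃
    simp

section Main

variable [IsTriangulated C]

/-- Mayer–Vietoris / homotopy cartesian square from a morphism of triangles with common fibre.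
Given a distinguished triangle `X ⟶ Y ⟶ Z ⟶ X⟦1⟧`, a morphism `g : Y ⟶ Y'` and a distinguished
triangle `X ⟶ Y' ⟶ Z' ⟶ X⟦1⟧` on `i ≫ g`, there is `h : Z ⟶ Z'` with `u ≫ h = g ≫ u'` and a
distinguished triangle `Y ⟶ Z ⊞ Y' ⟶ Z' ⟶ Y⟦1⟧`. -/
theorem mv_gen {X Y Z Y' Z' : C} (i : X ⟶ Y) (u : Y ⟶ Z) (δ : Z ⟶ (shiftFunctor C (1 : ℤ)).obj X)
    (hT1 : Triangle.mk i u δ ∈ distTriang C) (g : Y ⟶ Y') (u' : Y' ⟶ Z')
    (δ' : Z' ⟶ (shiftFunctor C (1 : ℤ)).obj X)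
    (hT2 : Triangle.mk (i ≫ g) u' δ' ∈ distTriang C) :
    ∃ (h : Z ⟶ Z') (d : Z' ⟶ (shiftFunctor C (1 : ℤ)).obj Y), u ≫ h = g ≫ u' ∧
      Triangle.mk (biprod.lift u g) (biprod.desc h (-u')) d ∈ distTriang C := by
  obtain ⟨Ca, b, wa, hTa⟩ := distinguished_cocone_triangle (biprod.lift u g)
  have comm : biprod.lift u g ≫ (biprod.fst : Z ⊞ Y' ⟶ Z) = u := biprod.lift_fst _ _
  have h₂₃ : Triangle.mk (biprod.fst : Z ⊞ Y' ⟶ Z) (0 : Z ⟶ (shiftFunctor C (1 : ℤ)).obj Y')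
      (-(shiftFunctor C (1 : ℤ)).map biprod.inr) ∈ distTriang C :=
    rot_of_distTriang _ (inr_fst_distinguished Z Y')
  have h₁₃ : Triangle.mk u δ (-(shiftFunctor C (1 : ℤ)).map i) ∈ distTriang C :=
    rot_of_distTriang _ hT1
  let o := Triangulated.someOctahedron comm hTa h₂₃ h₁₃
  have hm₃ : o.m₃ = (shiftFunctor C (1 : ℤ)).map (i ≫ g) := by
    have h4 := o.comm₄
    have h5 : o.m₃ ≫ (shiftFunctor C (1 : ℤ)).map (biprod.inr : Y' ⟶ Z ⊞ Y') =
        (shiftFunctor C (1 : ℤ)).map i ≫ (shiftFunctor C (1 : ℤ)).map (biprod.lift u g) := by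
      rw [Preadditive.neg_comp, Preadditive.comp_neg, neg_inj] at h4
      exact h4.symm
    have h6 := congrArg (fun φ => φ ≫ (shiftFunctor C (1 : ℤ)).map (biprod.snd : Z ⊞ Y' ⟶ Y')) h5
    simp only [Category.assoc, ← Functor.map_comp, biprod.inr_snd, biprod.lift_snd] at h6
    rw [CategoryTheory.Functor.map_id, Category.comp_id] at h6
    rw [h6, Functor.map_comp]
  have hmem := o.mem
  rw [hm₃] at hmem
  -- the triangle `X ⟶ Y' ⟶ Ca ⟶ X⟦1⟧`
  have hT3 : Triangle.mk (i ≫ g) (biprod.inr ≫ b) (-o.m₁) ∈ distTriang C := by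
    rw [rotate_distinguished_triangle, rotate_distinguished_triangle]
    have := neg_neg_distinguished hmem
    refine isomorphic_distinguished _ this _ ?_
    refine Triangle.isoMk _ _ (Iso.refl _) (Iso.refl _) (Iso.refl _) ?_ ?_ ?_
    · change (-o.m₁) ≫ 𝟙 _ = 𝟙 _ ≫ (-o.m₁)
      rw [Category.comp_id, Category.id_comp]
    · change (-(shiftFunctor C (1 : ℤ)).map (i ≫ g)) ≫ 𝟙 _ =
        𝟙 _ ≫ (-(shiftFunctor C (1 : ℤ)).map (i ≫ g))
      rw [Category.comp_id, Category.id_comp]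
    · change (-(shiftFunctor C (1 : ℤ)).map (biprod.inr ≫ b)) ≫
        (shiftFunctor C (1 : ℤ)).map (𝟙 _) =
        𝟙 _ ≫ ((-(shiftFunctor C (1 : ℤ)).map biprod.inr) ≫ (shiftFunctor C (1 : ℤ)).map b)
      rw [CategoryTheory.Functor.map_id, Category.comp_id, Category.id_comp, Functor.map_comp,
        Preadditive.neg_comp]
  obtain ⟨c, hc₁, hc₂⟩ : ∃ c : Ca ⟶ Z', (biprod.inr ≫ b) ≫ c = 𝟙 Y' ≫ u' ∧
      (-o.m₁) ≫ (shiftFunctor C (1 : ℤ)).map (𝟙 X) = c ≫ δ' :=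
    complete_distinguished_triangle_morphism _ _ hT3 hT2 (𝟙 X) (𝟙 Y')
    (by
      change (i ≫ g) ≫ 𝟙 Y' = 𝟙 X ≫ (i ≫ g)
      rw [Category.comp_id, Category.id_comp])
  have hc₁' : (biprod.inr ≫ b) ≫ c = u' := by
    have h : (biprod.inr ≫ b) ≫ c = 𝟙 Y' ≫ u' := hc₁
    rw [Category.id_comp] at h
    exact h
  have hciso : IsIso c := by
    let φ : Triangle.mk (i ≫ g) (biprod.inr ≫ b) (-o.m₁) ⟶ Triangle.mk (i ≫ g) u' δ' :=
      { hom₁ := 𝟙 X
        hom₂ := 𝟙 Y'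
        hom₃ := c
        comm₁ := by
          change (i ≫ g) ≫ 𝟙 Y' = 𝟙 X ≫ (i ≫ g)
          rw [Category.comp_id, Category.id_comp]
        comm₂ := hc₁
        comm₃ := hc₂ }
    exact isIso₃_of_isIso₁₂ φ hT3 hT2 (by change IsIso (𝟙 X); infer_instance)
      (by change IsIso (𝟙 Y'); infer_instance)
  -- the triangle (a, b ≫ c, inv c ≫ wa)
  have hT4 : Triangle.mk (biprod.lift u g) (b ≫ c) (inv c ≫ wa) ∈ distTriang C := by
    refine isomorphic_distinguished _ hTa _ ?_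
    refine Triangle.isoMk _ _ (Iso.refl _) (Iso.refl _) (asIso c).symm ?_ ?_ ?_
    · change biprod.lift u g ≫ 𝟙 _ = 𝟙 _ ≫ biprod.lift u g
      rw [Category.comp_id, Category.id_comp]
    · change (b ≫ c) ≫ inv c = 𝟙 _ ≫ b
      rw [Category.assoc, IsIso.hom_inv_id, Category.comp_id, Category.id_comp]
    · change (inv c ≫ wa) ≫ (shiftFunctor C (1 : ℤ)).map (𝟙 _) = inv c ≫ wa
      rw [CategoryTheory.Functor.map_id, Category.comp_id]
  have hT5 := neg_neg_distinguished' hT4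
  have hzero : biprod.lift u g ≫ b = 0 := comp_distTriang_mor_zero₁₂ _ hTa
  refine ⟨-(biprod.inl ≫ b ≫ c), -(inv c ≫ wa), ?_, ?_⟩
  · have h7 : (biprod.lift u g ≫ b) ≫ c = 0 := by rw [hzero, zero_comp]
    have h8 : biprod.lift u g = u ≫ biprod.inl + g ≫ biprod.inr := by
      apply biprod.hom_ext <;> simp
    rw [h8, Preadditive.add_comp, Preadditive.add_comp, Category.assoc, Category.assoc,
      Category.assoc, Category.assoc] at h7
    rw [Preadditive.comp_neg, ← hc₁', Category.assoc]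
    exact (neg_eq_of_add_eq_zero_right h7)
  · have h9 : biprod.desc (-(biprod.inl ≫ b ≫ c)) (-u') = -(b ≫ c) := by
      apply biprod.hom_ext'
      · simp
      · rw [biprod.inr_desc, Preadditive.comp_neg, ← hc₁', Category.assoc]
    rw [h9]
    exact hT5

end Main

end Groth.Agent.Helper3.MVGen
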