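import Mathlib
import Groth.Prelude.Def_W4c3perfectstacksMV
import Groth.Agent.Lib.Helper3.MVGen
import Groth.Agent.Lib.Helper3.HomZero

set_option autoImplicit false
set_option linter.unusedSectionVars false
universe v u

open CategoryTheory CategoryTheory.Limits CategoryTheory.Pretriangulated

namespace Groth.Agent.Helper3.MVSqLib

section Adj

variable {C D : Type*} [Category C] [Category D] [Preadditive C] [Preadditive D]
  {L : C ⥤ D} {G : D ⥤ C} (adj : L ⊣ G)

include adj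

/-- if `L` kills `y`, then `y` composed with any map into the image of the right adjoint vanishes -/
lemma adj_comp_eq_zero [L.PreservesZeroMorphisms] {A B : C} (y : A ⟶ B) {W : D} (x : B ⟶ G.obj W)
    (hy : L.map y = 0) : y ≫ x = 0 := by
  apply (adj.homEquiv A W).symm.injective
  rw [Adjunction.homEquiv_naturality_left_symm, hy, zero_comp]
  simp [Adjunction.homEquiv_counit]

lemma adj_eq_zero_of_comp [L.PreservesZeroMorphisms] {A B : C} (y : A ⟶ B) {W : D}
    (x : B ⟶ G.obj W) (hy : IsIso (L.map y)) (h : y ≫ x = 0) : x = 0 := by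
  have h1 := congrArg (adj.homEquiv A W).symm h
  rw [Adjunction.homEquiv_naturality_left_symm] at h1
  have h2 : (adj.homEquiv A W).symm 0 = 0 := by simp [Adjunction.homEquiv_counit]
  rw [h2] at h1
  have h3 : (adj.homEquiv B W).symm x = 0 := by
    rw [← cancel_epi (L.map y), h1, comp_zero]
  have h4 : (adj.homEquiv B W).symm 0 = 0 := by simp [Adjunction.homEquiv_counit]
  exact (adj.homEquiv B W).symm.injective (h3.trans h4.symm)

/-- full faithfulness of `L` on maps into objects with invertible unit -/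
lemma adj_map_bijective {A N : C} (hN : IsIso (adj.unit.app N)) :
    Function.Bijective (fun g : A ⟶ N => L.map g) := by
  have h : (fun g : A ⟶ N => L.map g) =
      (fun g : A ⟶ N => (adj.homEquiv A (L.obj N)).symm (g ≫ adj.unit.app N)) := by
    funext g
    rw [Adjunction.homEquiv_counit, Functor.map_comp, Category.assoc,
      adj.left_triangle_components, Category.comp_id]
  rw [h]
  refine (adj.homEquiv A (L.obj N)).symm.bijective.comp ?_
  constructor
  · intro g g' hgg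
    exact (cancel_mono (adj.unit.app N)).1 hgg
  · intro g
    exact ⟨g ≫ inv (adj.unit.app N), by simp⟩

end Adj

section Sq

open W4c3perfectstacks

variable {S S' R R' : Type u} [Category.{v} S] [Category.{v} S'] [Category.{v} R] [Category.{v} R']
    [Preadditive S] [Preadditive S'] [Preadditive R] [Preadditive R']
    [HasZeroObject S] [HasZeroObject S'] [HasZeroObject R] [HasZeroObject R']
    [HasShift S ℤ] [HasShift S' ℤ] [HasShift R ℤ] [HasShift R' ℤ]
    [∀ n : ℤ, (shiftFunctor S n).Additive] [∀ n : ℤ, (shiftFunctor S' n).Additive]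
    [∀ n : ℤ, (shiftFunctor R n).Additive] [∀ n : ℤ, (shiftFunctor R' n).Additive]
    [Pretriangulated S] [Pretriangulated S'] [Pretriangulated R] [Pretriangulated R']
    (q : MVSq S S' R R')
    [q.jst.CommShift ℤ] [q.fst.CommShift ℤ] [q.jpst.CommShift ℤ] [q.gst.CommShift ℤ]
    [q.jst.IsTriangulated] [q.fst.IsTriangulated] [q.jpst.IsTriangulated] [q.gst.IsTriangulated]

/-- the composite adjunction `j'^* f^* ⊣ f_* j'_*` -/
abbrev adjL : q.fst ⋙ q.jpst ⊣ q.jpls ⋙ q.fls := q.adjF.comp q.adjJp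

lemma L_map_eq_zero {A B : S} (y : A ⟶ B) (hy : q.jst.map y = 0) :
    (q.fst ⋙ q.jpst).map y = 0 := by
  have h := q.e.hom.naturality y
  have h1 : (q.jst ⋙ q.gst).map y = 0 := by
    change q.gst.map (q.jst.map y) = 0
    rw [hy, Functor.map_zero]
  rw [h1, zero_comp] at h
  rw [← cancel_epi (q.e.hom.app A), ← h, comp_zero]

lemma L_map_isIso {A B : S} (y : A ⟶ B) (hy : IsIso (q.jst.map y)) :
    IsIso ((q.fst ⋙ q.jpst).map y) := by
  have h1 : IsIso ((q.jst ⋙ q.gst).map y) := by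
    change IsIso (q.gst.map (q.jst.map y))
    infer_instance
  exact (NatIso.isIso_map_iff q.e y).1 h1

variable {q}

/-- maps into `f_* M'` with `M' ≅ j'_* W'` are killed by precomposition with maps killed by `j^*` -/
lemma comp_eq_zero_of {A B : S} (y : A ⟶ B) (hy : q.jst.map y = 0) {M' : S'} {W' : R'}
    (ι : M' ≅ q.jpls.obj W') (x : B ⟶ q.fls.obj M') : y ≫ x = 0 := by
  have h1 : y ≫ (x ≫ q.fls.map ι.hom) = 0 :=
    adj_comp_eq_zero (adjL q) y (W := W') (x ≫ q.fls.map ι.hom) (L_map_eq_zero q y hy)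
  rw [← Category.assoc] at h1
  rw [← cancel_mono (q.fls.map ι.hom), h1, zero_comp]

lemma eq_zero_of_comp {A B : S} (y : A ⟶ B) (hy : IsIso (q.jst.map y)) {M' : S'} {W' : R'}
    (ι : M' ≅ q.jpls.obj W') (x : B ⟶ q.fls.obj M') (h : y ≫ x = 0) : x = 0 := by
  have h1 : y ≫ (x ≫ q.fls.map ι.hom) = 0 := by rw [← Category.assoc, h, zero_comp]
  have h2 := adj_eq_zero_of_comp (adjL q) y (W := W') (x ≫ q.fls.map ι.hom)
    (L_map_isIso q y hy) h1
  rw [← cancel_mono (q.fls.map ι.hom), h2, zero_comp]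

lemma isIso_jst_unit (hq : q.IsMV) (N : S) : IsIso (q.jst.map (q.adjJ.unit.app N)) := by
  have := hq.isIso_counitJ
  have h := q.adjJ.left_triangle_components N
  have h' : q.jst.map (q.adjJ.unit.app N) = inv (q.adjJ.counit.app (q.jst.obj N)) := by
    rw [← cancel_mono (q.adjJ.counit.app (q.jst.obj N)), h, IsIso.inv_hom_id]
    rfl
  rw [h']
  infer_instance

end Sq

section Tri

variable {C D : Type*} [Category C] [Category D] [Preadditive C] [Preadditive D]
  [HasZeroObject C] [HasZeroObject D] [HasShift C ℤ] [HasShift D ℤ]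
  [∀ n : ℤ, (shiftFunctor C n).Additive] [∀ n : ℤ, (shiftFunctor D n).Additive]
  [Pretriangulated C] [Pretriangulated D] (F : C ⥤ D) [F.CommShift ℤ] [F.IsTriangulated]

/-- a triangulated functor turning the first map of a triangle into a split mono kills the
third map -/
lemma map_mor₃_eq_zero (T : Triangle C) (hT : T ∈ distTriang C) {P : C} (p : T.obj₂ ⟶ P)
    (hp : IsIso (F.map (T.mor₁ ≫ p))) : F.map T.mor₃ = 0 := by
  have hT' := F.map_distinguished T hT
  have h1 : (F.map T.mor₃ ≫ (F.commShiftIso (1 : ℤ)).hom.app T.obj₁) ≫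
      (shiftFunctor D (1 : ℤ)).map (F.map T.mor₁) = 0 := comp_distTriang_mor_zero₃₁ _ hT'
  have h2 : F.map T.mor₁ ≫ (F.map p ≫ inv (F.map (T.mor₁ ≫ p))) = 𝟙 _ := by
    rw [← Category.assoc, ← F.map_comp, IsIso.hom_inv_id]
  have hsm : IsSplitMono (F.map T.mor₁) := ⟨⟨⟨_, h2⟩⟩⟩
  have hm : Mono ((shiftFunctor D (1 : ℤ)).map (F.map T.mor₁)) := inferInstance
  have h3 : F.map T.mor₃ ≫ (F.commShiftIso (1 : ℤ)).hom.app T.obj₁ = 0 :=
    (cancel_mono ((shiftFunctor D (1 : ℤ)).map (F.map T.mor₁))).1 (h1.trans zero_comp.symm)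
  rw [← cancel_mono ((F.commShiftIso (1 : ℤ)).hom.app T.obj₁), h3, zero_comp]

end Tri

section Sq2

open W4c3perfectstacks

variable {S S' R R' : Type u} [Category.{v} S] [Category.{v} S'] [Category.{v} R] [Category.{v} R']
    [Preadditive S] [Preadditive S'] [Preadditive R] [Preadditive R']
    [HasZeroObject S] [HasZeroObject S'] [HasZeroObject R] [HasZeroObject R']
    [HasShift S ℤ] [HasShift S' ℤ] [HasShift R ℤ] [HasShift R' ℤ]
    [∀ n : ℤ, (shiftFunctor S n).Additive] [∀ n : ℤ, (shiftFunctor S' n).Additive]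
    [∀ n : ℤ, (shiftFunctor R n).Additive] [∀ n : ℤ, (shiftFunctor R' n).Additive]
    [Pretriangulated S] [Pretriangulated S'] [Pretriangulated R] [Pretriangulated R']
    {q : MVSq S S' R R'}
    [q.jst.CommShift ℤ] [q.fst.CommShift ℤ] [q.jpst.CommShift ℤ] [q.gst.CommShift ℤ]
    [q.jst.IsTriangulated] [q.fst.IsTriangulated] [q.jpst.IsTriangulated] [q.gst.IsTriangulated]

lemma exists_K_triangle (hq : q.IsMV) (N : S) :
    ∃ (N₀ : S) (i : N₀ ⟶ N) (δ : q.jls.obj (q.jst.obj N) ⟶ (shiftFunctor S (1 : ℤ)).obj N₀),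
      Triangle.mk i (q.adjJ.unit.app N) δ ∈ distTriang S ∧ IsZero (q.jst.obj N₀) := by
  obtain ⟨N₀, i, δ, hT⟩ := distinguished_cocone_triangle₁ (q.adjJ.unit.app N)
  refine ⟨N₀, i, δ, hT, ?_⟩
  have hT' := q.jst.map_distinguished _ hT
  exact (Triangle.isZero₁_iff_isIso₂ _ hT').2 (isIso_jst_unit hq N)

/-- `j^*` kills the connecting map of a Mayer–Vietoris triangle -/
lemma jst_map_d_eq_zero (hq : q.IsMV) (N : S) {E : S}
    (β : q.jls.obj (q.jst.obj N) ⊞ q.fls.obj (q.fst.obj N) ⟶ E)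
    (d : E ⟶ (shiftFunctor S (1 : ℤ)).obj N)
    (hT : Triangle.mk (biprod.lift (q.adjJ.unit.app N) (q.adjF.unit.app N)) β d ∈ distTriang S) :
    q.jst.map d = 0 := by
  refine map_mor₃_eq_zero q.jst _ hT (biprod.fst) ?_
  have : (Triangle.mk (biprod.lift (q.adjJ.unit.app N) (q.adjF.unit.app N)) β d).mor₁ ≫
      biprod.fst = q.adjJ.unit.app N := biprod.lift_fst _ _
  rw [this]
  exact isIso_jst_unit hq N

end Sq2

section Tri2

open Groth.Agent.Helper3.HomZero

variable {C D : Type*} [Category C] [Category D] [Preadditive C] [Preadditive D]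
  [HasZeroObject C] [HasZeroObject D] [HasShift C ℤ] [HasShift D ℤ]
  [∀ n : ℤ, (shiftFunctor C n).Additive] [∀ n : ℤ, (shiftFunctor D n).Additive]
  [Pretriangulated C] [Pretriangulated D]

/-- if `L A = 0` for a left adjoint `L` commuting with shifts, then `Hom(A, (G Q)⟦k⟧) = 0` -/
lemma hz_of_isZero {L : C ⥤ D} {G : D ⥤ C} (adj : L ⊣ G) [L.CommShift ℤ]
    [L.PreservesZeroMorphisms] {A : C}
    (hA : IsZero (L.obj A)) (Q : D) (k : ℤ) : HZ A (G.obj Q) k := by
  refine (HZ.of_left (-k) ?_).congr (neg_neg k)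
  intro ψ
  have hz : IsZero (L.obj ((shiftFunctor C (-k)).obj A)) :=
    IsZero.of_iso ((shiftFunctor D (-k)).map_isZero hA) ((L.commShiftIso (-k)).app A)
  have h1 : (adj.homEquiv _ _).symm ψ = 0 := hz.eq_of_src _ _
  have h2 : (adj.homEquiv _ Q).symm (0 : (shiftFunctor C (-k)).obj A ⟶ G.obj Q) = 0 :=
    hz.eq_of_src _ _
  exact (adj.homEquiv _ _).symm.injective (h1.trans h2.symm)

/-- composition with the first map of a distinguished triangle is bijective on maps out of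
an object with no maps to the third vertex and its desuspension -/
lemma comp_mor₁_bijective (T : Triangle C) (hT : T ∈ distTriang C) {A : C}
    (h0 : HZ A T.obj₃ 0) (h1 : HZ A T.obj₃ (-1)) :
    Function.Bijective (fun g : A ⟶ T.obj₁ => g ≫ T.mor₁) := by
  constructor
  · intro g g' hgg
    have h2 : (g - g') ≫ T.mor₁ = 0 := by
      rw [Preadditive.sub_comp]
      exact sub_eq_zero.2 hgg
    obtain ⟨x, hx⟩ := Triangle.coyoneda_exact₂ _ (inv_rot_of_distTriang _ hT) (g - g') h2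
    have hx0 : x = 0 := h1 x
    rw [hx0] at hx
    exact sub_eq_zero.1 (hx.trans zero_comp)
  · intro y
    have h2 : y ≫ T.mor₂ = 0 := h0.plain _
    obtain ⟨g, hg⟩ := Triangle.coyoneda_exact₂ _ hT y h2
    exact ⟨g, hg.symm⟩

end Tri2

section Sq3

open W4c3perfectstacks Groth.Agent.Helper3.HomZero

variable {S S' R R' : Type u} [Category.{v} S] [Category.{v} S'] [Category.{v} R] [Category.{v} R']
    [Preadditive S] [Preadditive S'] [Preadditive R] [Preadditive R']
    [HasZeroObject S] [HasZeroObject S'] [HasZeroObject R] [HasZeroObject R']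
    [HasShift S ℤ] [HasShift S' ℤ] [HasShift R ℤ] [HasShift R' ℤ]
    [∀ n : ℤ, (shiftFunctor S n).Additive] [∀ n : ℤ, (shiftFunctor S' n).Additive]
    [∀ n : ℤ, (shiftFunctor R n).Additive] [∀ n : ℤ, (shiftFunctor R' n).Additive]
    [Pretriangulated S] [Pretriangulated S'] [Pretriangulated R] [Pretriangulated R']
    {q : MVSq S S' R R'}
    [q.jst.CommShift ℤ] [q.fst.CommShift ℤ] [q.jpst.CommShift ℤ] [q.gst.CommShift ℤ]
    [q.jst.IsTriangulated] [q.fst.IsTriangulated] [q.jpst.IsTriangulated] [q.gst.IsTriangulated]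

lemma isZero_jst_fls (hq : q.IsMV) (M : S') (hM : IsZero (q.jpst.obj M)) :
    IsZero (q.jst.obj (q.fls.obj M)) := by
  have : q.gls.Additive := q.adjG.right_adjoint_additive
  have h1 : IsZero (q.gls.obj (q.jpst.obj M)) := q.gls.map_isZero hM
  have := hq.isIso_bcApp M
  exact IsZero.of_iso h1 (asIso (q.bcApp M))

lemma isZero_jpst_fst (A : S) (hA : IsZero (q.jst.obj A)) :
    IsZero (q.jpst.obj (q.fst.obj A)) := by
  have h1 : IsZero (q.gst.obj (q.jst.obj A)) := q.gst.map_isZero hA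
  exact IsZero.of_iso h1 (q.e.app A).symm

/-- S16409: for `M` killed by `j'^*`, `f^*` is bijective on maps `f_* M ⟶ N` -/
theorem fst_map_bijective (hq : q.IsMV) (M : S') (hM : IsZero (q.jpst.obj M)) (N : S) :
    Function.Bijective (fun g : q.fls.obj M ⟶ N => q.fst.map g) := by
  obtain ⟨N₀, i, δ, hT1, hN₀⟩ := exists_K_triangle hq N
  have hA : IsZero (q.jst.obj (q.fls.obj M)) := isZero_jst_fls hq M hM
  have hA' : IsZero (q.jpst.obj (q.fst.obj (q.fls.obj M))) := isZero_jpst_fst _ hA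
  -- top
  have htop : Function.Bijective (fun g : q.fls.obj M ⟶ N₀ => g ≫ i) :=
    comp_mor₁_bijective _ hT1 (hz_of_isZero q.adjJ hA _ 0) (hz_of_isZero q.adjJ hA _ (-1))
  -- bottom
  have hT1' := q.fst.map_distinguished _ hT1
  have := hq.isIso_bc2App (q.jst.obj N)
  have hbot : Function.Bijective
      (fun g : q.fst.obj (q.fls.obj M) ⟶ q.fst.obj N₀ => g ≫ q.fst.map i) :=
    comp_mor₁_bijective _ hT1'
      ((hz_of_isZero q.adjJp hA' _ 0).iso_right (asIso (q.bc2App (q.jst.obj N))).symm)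
      ((hz_of_isZero q.adjJp hA' _ (-1)).iso_right (asIso (q.bc2App (q.jst.obj N))).symm)
  -- left
  have hleft : Function.Bijective (fun g : q.fls.obj M ⟶ N₀ => q.fst.map g) :=
    adj_map_bijective q.adjF (hq.isIso_unitF N₀ hN₀)
  -- assemble
  have hcomp : (fun g : q.fls.obj M ⟶ N => q.fst.map g) ∘ (fun g : q.fls.obj M ⟶ N₀ => g ≫ i) =
      (fun g : q.fst.obj (q.fls.obj M) ⟶ q.fst.obj N₀ => g ≫ q.fst.map i) ∘
        (fun g : q.fls.obj M ⟶ N₀ => q.fst.map g) := by
    funext g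
    exact q.fst.map_comp g i
  have h1 : Function.Bijective ((fun g : q.fls.obj M ⟶ N => q.fst.map g) ∘
      (fun g : q.fls.obj M ⟶ N₀ => g ≫ i)) := by
    rw [hcomp]
    exact hbot.comp hleft
  exact (Function.Bijective.of_comp_iff _ htop).1 h1

end Sq3

section Tri3

open Groth.Agent.Helper3.HomZero

variable {C : Type*} [Category C] [Preadditive C]
  [HasZeroObject C] [HasShift C ℤ]
  [∀ n : ℤ, (shiftFunctor C n).Additive]
  [Pretriangulated C]

/-- In a distinguished triangle `X ⟶ B₁ ⊕ B₂ ⟶ Z` (with the decomposition of the middle term given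
abstractly), if `B₂ ⟶ Z` is an isomorphism then `X ⟶ B₁` is an isomorphism. -/
lemma isIso_comp_proj (T : Triangle C) (hT : T ∈ distTriang C) {B₁ B₂ : C}
    (ι₁ : B₁ ⟶ T.obj₂) (π₁ : T.obj₂ ⟶ B₁) (ι₂ : B₂ ⟶ T.obj₂) (π₂ : T.obj₂ ⟶ B₂)
    (h11 : ι₁ ≫ π₁ = 𝟙 _) (h21 : ι₂ ≫ π₁ = 0)
    (hsum : π₁ ≫ ι₁ + π₂ ≫ ι₂ = 𝟙 _) (hiso : IsIso (ι₂ ≫ T.mor₂)) : IsIso (T.mor₁ ≫ π₁) := by
  have hr : (inv (ι₂ ≫ T.mor₂) ≫ ι₂) ≫ T.mor₂ = 𝟙 _ := by
    rw [Category.assoc, IsIso.inv_hom_id]
  have hepi : Epi T.mor₂ := by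
    have : IsSplitEpi T.mor₂ := ⟨⟨⟨_, hr⟩⟩⟩
    infer_instance
  have hmor₃ : T.mor₃ = 0 := (Triangle.mor₃_eq_zero_iff_epi₂ T hT).2 hepi
  have hmono : Mono T.mor₁ := (Triangle.mor₃_eq_zero_iff_mono₁ T hT).1 hmor₃
  -- a section
  have hu : (ι₁ - ι₁ ≫ T.mor₂ ≫ inv (ι₂ ≫ T.mor₂) ≫ ι₂) ≫ T.mor₂ = 0 := by
    rw [Preadditive.sub_comp, Category.assoc, Category.assoc, Category.assoc, IsIso.inv_hom_id,
      Category.comp_id, sub_self]
  obtain ⟨w, hw⟩ := Triangle.coyoneda_exact₂ _ hT _ hu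
  have hwm : w ≫ (T.mor₁ ≫ π₁) = 𝟙 _ := by
    rw [← Category.assoc, ← hw, Preadditive.sub_comp, h11, Category.assoc, Category.assoc,
      Category.assoc, h21, comp_zero, comp_zero, comp_zero, sub_zero]
  -- mono
  have hm : Mono (T.mor₁ ≫ π₁) := by
    rw [Preadditive.mono_iff_cancel_zero]
    intro W x hx
    have hy : (x ≫ T.mor₁) ≫ π₂ = 0 := by
      have h1 : (x ≫ T.mor₁) ≫ T.mor₂ = 0 := by
        rw [Category.assoc, comp_distTriang_mor_zero₁₂ _ hT, comp_zero]
      have h2 : x ≫ T.mor₁ = (x ≫ T.mor₁) ≫ π₂ ≫ ι₂ := by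
        have h3 : (x ≫ T.mor₁) ≫ (π₁ ≫ ι₁ + π₂ ≫ ι₂) = x ≫ T.mor₁ := by
          rw [hsum, Category.comp_id]
        rw [Preadditive.comp_add, ← Category.assoc (x ≫ T.mor₁) π₁, Category.assoc x, hx,
          zero_comp, zero_add] at h3
        exact h3.symm
      rw [h2] at h1
      have h1' : ((x ≫ T.mor₁) ≫ π₂) ≫ (ι₂ ≫ T.mor₂) = 0 := by
        simpa only [Category.assoc] using h1
      exact (cancel_mono (ι₂ ≫ T.mor₂)).1 (h1'.trans zero_comp.symm)
    have hy' : x ≫ T.mor₁ = 0 := by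
      have h3 : (x ≫ T.mor₁) ≫ (π₁ ≫ ι₁ + π₂ ≫ ι₂) = x ≫ T.mor₁ := by
        rw [hsum, Category.comp_id]
      rw [Preadditive.comp_add, ← Category.assoc (x ≫ T.mor₁) π₁, Category.assoc x, hx,
        zero_comp, zero_add, ← Category.assoc, hy, zero_comp] at h3
      exact h3.symm
    exact (cancel_mono T.mor₁).1 (hy'.trans zero_comp.symm)
  refine ⟨w, ?_, hwm⟩
  rw [← cancel_mono (T.mor₁ ≫ π₁), Category.assoc, hwm, Category.comp_id, Category.id_comp]

/-- If `ρ` induces bijections on maps out of `M` and `M⟦-1⟧`, then `M` has no nonzero maps to a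
cone of `ρ`. -/
lemma hom_cone_eq_zero (T : Triangle C) (hT : T ∈ distTriang C) {M : C}
    (hsurj : Function.Surjective (fun x : M ⟶ T.obj₁ => x ≫ T.mor₁))
    (hinj : Function.Injective
      (fun x : (shiftFunctor C (-1 : ℤ)).obj M ⟶ T.obj₁ => x ≫ T.mor₁))
    (z : M ⟶ T.obj₃) : z = 0 := by
  have hu : z ≫ T.mor₃ = 0 := by
    -- u := z ≫ mor₃ : M ⟶ obj₁⟦1⟧ is killed by mor₁⟦1⟧
    have h1 : (z ≫ T.mor₃) ≫ (shiftFunctor C (1 : ℤ)).map T.mor₁ = 0 := by
      rw [Category.assoc, comp_distTriang_mor_zero₃₁ _ hT, comp_zero]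
    let κ := shiftFunctorCompIsoId C (1 : ℤ) (-1) (by norm_num)
    have h2 : ((shiftFunctor C (-1 : ℤ)).map (z ≫ T.mor₃) ≫ κ.hom.app T.obj₁) ≫ T.mor₁ = 0 := by
      have hn := κ.hom.naturality T.mor₁
      rw [Category.assoc]
      change _ ≫ κ.hom.app T.obj₁ ≫ (𝟭 C).map T.mor₁ = 0
      rw [← hn]
      change _ ≫ (shiftFunctor C (-1 : ℤ)).map ((shiftFunctor C (1 : ℤ)).map T.mor₁) ≫ _ = 0
      rw [← Category.assoc, ← Functor.map_comp, h1, Functor.map_zero, zero_comp]
    have h3 : (shiftFunctor C (-1 : ℤ)).map (z ≫ T.mor₃) ≫ κ.hom.app T.obj₁ = 0 :=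
      hinj (h2.trans zero_comp.symm)
    have h4 : (shiftFunctor C (-1 : ℤ)).map (z ≫ T.mor₃) = 0 := by
      rw [← cancel_mono (κ.hom.app T.obj₁), h3, zero_comp]
    exact (shiftFunctor C (-1 : ℤ)).map_injective (h4.trans (Functor.map_zero _ _ _).symm)
  obtain ⟨y, hy⟩ := Triangle.coyoneda_exact₃ _ hT z hu
  obtain ⟨x, hx⟩ := hsurj y
  rw [hy, ← hx]
  change (x ≫ T.mor₁) ≫ T.mor₂ = 0
  rw [Category.assoc, comp_distTriang_mor_zero₁₂ _ hT, comp_zero]

end Tri3

section Sq4

open W4c3perfectstacks Groth.Agent.Helper3.HomZero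

variable {S S' R R' : Type u} [Category.{v} S] [Category.{v} S'] [Category.{v} R] [Category.{v} R']
    [Preadditive S] [Preadditive S'] [Preadditive R] [Preadditive R']
    [HasZeroObject S] [HasZeroObject S'] [HasZeroObject R] [HasZeroObject R']
    [HasShift S ℤ] [HasShift S' ℤ] [HasShift R ℤ] [HasShift R' ℤ]
    [∀ n : ℤ, (shiftFunctor S n).Additive] [∀ n : ℤ, (shiftFunctor S' n).Additive]
    [∀ n : ℤ, (shiftFunctor R n).Additive] [∀ n : ℤ, (shiftFunctor R' n).Additive]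
    [Pretriangulated S] [Pretriangulated S'] [Pretriangulated R] [Pretriangulated R']
    {q : MVSq S S' R R'}
    [q.jst.CommShift ℤ] [q.fst.CommShift ℤ] [q.jpst.CommShift ℤ] [q.gst.CommShift ℤ]
    [q.jst.IsTriangulated] [q.fst.IsTriangulated] [q.jpst.IsTriangulated] [q.gst.IsTriangulated]

lemma bcApp_naturality {M M' : S'} (ψ : M ⟶ M') :
    q.jst.map (q.fls.map ψ) ≫ q.bcApp M' = q.bcApp M ≫ q.gls.map (q.jpst.map ψ) := by
  simp only [MVSq.bcApp, Category.assoc]
  have h1 := q.adjG.unit.naturality (q.jst.map (q.fls.map ψ))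
  have h2 := q.e.hom.naturality (q.fls.map ψ)
  have h3 := q.adjF.counit.naturality ψ
  simp only [Functor.id_obj, Functor.id_map, Functor.comp_obj, Functor.comp_map] at h1 h2 h3
  rw [← Category.assoc, h1, Category.assoc, ← q.gls.map_comp, ← q.gls.map_comp,
    ← q.gls.map_comp, ← q.gls.map_comp, ← Category.assoc, h2, Category.assoc,
    ← q.jpst.map_comp, h3, q.jpst.map_comp]

lemma bc2App_naturality {P P' : R} (p : P ⟶ P') :
    q.fst.map (q.jls.map p) ≫ q.bc2App P' = q.bc2App P ≫ q.jpls.map (q.gst.map p) := by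
  simp only [MVSq.bc2App, Category.assoc]
  have h1 := q.adjJp.unit.naturality (q.fst.map (q.jls.map p))
  have h2 := q.e.inv.naturality (q.jls.map p)
  have h3 := q.adjJ.counit.naturality p
  simp only [Functor.id_obj, Functor.id_map, Functor.comp_obj, Functor.comp_map] at h1 h2 h3
  rw [← Category.assoc, h1, Category.assoc, ← q.jpls.map_comp, ← q.jpls.map_comp,
    ← q.jpls.map_comp, ← q.jpls.map_comp, ← Category.assoc, h2, Category.assoc,
    ← q.gst.map_comp, h3, q.gst.map_comp]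

lemma isIso_jpst_unit (hq : q.IsMV) (M : S') : IsIso (q.jpst.map (q.adjJp.unit.app M)) := by
  have := hq.isIso_counitJp
  have h := q.adjJp.left_triangle_components M
  have h' : q.jpst.map (q.adjJp.unit.app M) = inv (q.adjJp.counit.app (q.jpst.obj M)) := by
    rw [← cancel_mono (q.adjJp.counit.app (q.jpst.obj M)), h, IsIso.inv_hom_id]
    rfl
  rw [h']
  infer_instance

lemma isIso_jst_fls_map (hq : q.IsMV) {M M' : S'} (ψ : M ⟶ M') (h : IsIso (q.jpst.map ψ)) :
    IsIso (q.jst.map (q.fls.map ψ)) := by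
  have h1 := bcApp_naturality (q := q) ψ
  have := hq.isIso_bcApp M
  have := hq.isIso_bcApp M'
  have h2 : q.jst.map (q.fls.map ψ) = q.bcApp M ≫ q.gls.map (q.jpst.map ψ) ≫ inv (q.bcApp M') := by
    rw [← Category.assoc, ← h1, Category.assoc, IsIso.hom_inv_id, Category.comp_id]
  rw [h2]
  infer_instance

end Sq4

section Sq5

open W4c3perfectstacks Groth.Agent.Helper3.HomZero

lemma isIso_neg {C : Type*} [Category C] [Preadditive C] {X Y : C} (f : X ⟶ Y) (hf : IsIso f) :
    IsIso (-f) :=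
  ⟨-inv f, by simp, by simp⟩

variable {S S' R R' : Type u} [Category.{v} S] [Category.{v} S'] [Category.{v} R] [Category.{v} R']
    [Preadditive S] [Preadditive S'] [Preadditive R] [Preadditive R']
    [HasZeroObject S] [HasZeroObject S'] [HasZeroObject R] [HasZeroObject R']
    [HasShift S ℤ] [HasShift S' ℤ] [HasShift R ℤ] [HasShift R' ℤ]
    [∀ n : ℤ, (shiftFunctor S n).Additive] [∀ n : ℤ, (shiftFunctor S' n).Additive]
    [∀ n : ℤ, (shiftFunctor R n).Additive] [∀ n : ℤ, (shiftFunctor R' n).Additive]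
    [Pretriangulated S] [Pretriangulated S'] [Pretriangulated R] [Pretriangulated R']
    {q : MVSq S S' R R'}
    [q.jst.CommShift ℤ] [q.fst.CommShift ℤ] [q.jpst.CommShift ℤ] [q.gst.CommShift ℤ]
    [q.jst.IsTriangulated] [q.fst.IsTriangulated] [q.jpst.IsTriangulated] [q.gst.IsTriangulated]

variable (hq : q.IsMV) (NU : R) (N' : S') (δ : q.jpst.obj N' ≅ q.gst.obj NU) (N : S)
    (a : N ⟶ q.jls.obj NU ⊞ q.fls.obj N')
    (d : q.fls.obj (q.jpls.obj (q.gst.obj NU)) ⟶ (shiftFunctor S (1 : ℤ)).obj N)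
    (hT : Triangle.mk a
      (biprod.desc (q.adjF.unit.app (q.jls.obj NU) ≫ q.fls.map (q.bc2App NU))
        (-(q.fls.map (q.adjJp.unit.app N' ≫ q.jpls.map δ.hom)))) d ∈ distTriang S)

include hq hT in
theorem glue_isIso₁ : IsIso ((q.adjJ.homEquiv N NU).symm (a ≫ biprod.fst)) := by
  have hT' := q.jst.map_distinguished _ hT
  have hψ : IsIso (q.jpst.map (q.adjJp.unit.app N' ≫ q.jpls.map δ.hom)) := by
    rw [Functor.map_comp]
    have := isIso_jpst_unit hq N'
    infer_instance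
  have h2 : IsIso (q.jst.map (q.fls.map (q.adjJp.unit.app N' ≫ q.jpls.map δ.hom))) :=
    isIso_jst_fls_map hq _ hψ
  have hiso : IsIso (q.jst.map (biprod.inr : q.fls.obj N' ⟶ q.jls.obj NU ⊞ q.fls.obj N') ≫
      q.jst.map (biprod.desc (q.adjF.unit.app (q.jls.obj NU) ≫ q.fls.map (q.bc2App NU))
        (-(q.fls.map (q.adjJp.unit.app N' ≫ q.jpls.map δ.hom))))) := by
    rw [← Functor.map_comp, biprod.inr_desc, Functor.map_neg]
    exact isIso_neg _ h2
  have e11 : q.jst.map (biprod.inl : q.jls.obj NU ⟶ q.jls.obj NU ⊞ q.fls.obj N') ≫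
      q.jst.map biprod.fst = 𝟙 _ := by
    rw [← Functor.map_comp, biprod.inl_fst, CategoryTheory.Functor.map_id]
  have e21 : q.jst.map (biprod.inr : q.fls.obj N' ⟶ q.jls.obj NU ⊞ q.fls.obj N') ≫
      q.jst.map biprod.fst = 0 := by
    rw [← Functor.map_comp, biprod.inr_fst, Functor.map_zero]
  have esum : q.jst.map (biprod.fst : q.jls.obj NU ⊞ q.fls.obj N' ⟶ _) ≫ q.jst.map biprod.inl +
      q.jst.map (biprod.snd : q.jls.obj NU ⊞ q.fls.obj N' ⟶ _) ≫ q.jst.map biprod.inr = 𝟙 _ := by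
    rw [← Functor.map_comp, ← Functor.map_comp, ← Functor.map_add, biprod.total,
      CategoryTheory.Functor.map_id]
  have h3 : IsIso (q.jst.map a ≫ q.jst.map (biprod.fst : q.jls.obj NU ⊞ q.fls.obj N' ⟶ _)) :=
    isIso_comp_proj _ hT' (q.jst.map biprod.inl) (q.jst.map biprod.fst) (q.jst.map biprod.inr)
      (q.jst.map biprod.snd) e11 e21 esum hiso
  rw [Adjunction.homEquiv_counit, Functor.map_comp]
  have := hq.isIso_counitJ
  infer_instance

include hq hT in
theorem glue_jpst_isIso :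
    IsIso (q.jpst.map ((q.adjF.homEquiv N N').symm (a ≫ biprod.snd))) := by
  have hmap₁ := glue_isIso₁ hq NU N' δ N a d hT
  have hstar : (a ≫ biprod.fst) ≫ q.adjF.unit.app (q.jls.obj NU) ≫ q.fls.map (q.bc2App NU) =
      (a ≫ biprod.snd) ≫ q.fls.map (q.adjJp.unit.app N' ≫ q.jpls.map δ.hom) := by
    have h0 : a ≫ biprod.desc (q.adjF.unit.app (q.jls.obj NU) ≫ q.fls.map (q.bc2App NU))
        (-(q.fls.map (q.adjJp.unit.app N' ≫ q.jpls.map δ.hom))) = 0 :=
      comp_distTriang_mor_zero₁₂ _ hT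
    have h1 : a = (a ≫ biprod.fst) ≫ biprod.inl + (a ≫ biprod.snd) ≫ biprod.inr := by
      apply biprod.hom_ext <;> simp
    have h0' : ((a ≫ biprod.fst) ≫ biprod.inl + (a ≫ biprod.snd) ≫ biprod.inr) ≫
        biprod.desc (q.adjF.unit.app (q.jls.obj NU) ≫ q.fls.map (q.bc2App NU))
          (-(q.fls.map (q.adjJp.unit.app N' ≫ q.jpls.map δ.hom))) =
        (a ≫ biprod.fst) ≫ (q.adjF.unit.app (q.jls.obj NU) ≫ q.fls.map (q.bc2App NU)) +
          (a ≫ biprod.snd) ≫ (-(q.fls.map (q.adjJp.unit.app N' ≫ q.jpls.map δ.hom))) := by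
      rw [Preadditive.add_comp, Category.assoc (a ≫ biprod.fst), Category.assoc (a ≫ biprod.snd),
        biprod.inl_desc, biprod.inr_desc]
    have h0'' := h0'.symm.trans ((congrArg (fun z => z ≫
      biprod.desc (q.adjF.unit.app (q.jls.obj NU) ≫ q.fls.map (q.bc2App NU))
          (-(q.fls.map (q.adjJp.unit.app N' ≫ q.jpls.map δ.hom)))) h1.symm).trans h0)
    rw [Preadditive.comp_neg, ← sub_eq_add_neg, sub_eq_zero] at h0''
    exact h0''
  have hss : q.fst.map (a ≫ biprod.fst) ≫ q.bc2App NU =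
      (q.adjF.homEquiv N N').symm (a ≫ biprod.snd) ≫
        (q.adjJp.unit.app N' ≫ q.jpls.map δ.hom) := by
    have h1 := congrArg (q.adjF.homEquiv N _).symm hstar
    rw [← Category.assoc, Adjunction.homEquiv_naturality_right_symm,
      Adjunction.homEquiv_naturality_right_symm] at h1
    have h2 : (q.adjF.homEquiv N _).symm ((a ≫ biprod.fst) ≫ q.adjF.unit.app (q.jls.obj NU)) =
        q.fst.map (a ≫ biprod.fst) := by
      rw [Adjunction.homEquiv_counit, Functor.map_comp, Category.assoc]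
      erw [q.adjF.left_triangle_components]
      rw [Category.comp_id]
    rw [h2] at h1
    exact h1
  have hsss : q.jpst.map ((q.adjF.homEquiv N N').symm (a ≫ biprod.snd)) ≫ δ.hom =
      q.e.inv.app N ≫ q.gst.map ((q.adjJ.homEquiv N NU).symm (a ≫ biprod.fst)) := by
    have h1 := congrArg (q.adjJp.homEquiv _ _).symm hss
    rw [Adjunction.homEquiv_naturality_left_symm, Adjunction.homEquiv_naturality_left_symm] at h1
    have h2 : (q.adjJp.homEquiv _ _).symm (q.bc2App NU) =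
        q.e.inv.app (q.jls.obj NU) ≫ q.gst.map (q.adjJ.counit.app NU) := by
      rw [MVSq.bc2App, ← q.jpls.map_comp, ← Adjunction.homEquiv_unit, Equiv.symm_apply_apply]
    have h3 : (q.adjJp.homEquiv N' (q.gst.obj NU)).symm
        (q.adjJp.unit.app N' ≫ q.jpls.map δ.hom) = δ.hom := by
      rw [Equiv.symm_apply_eq, Adjunction.homEquiv_unit]
    rw [h2, h3] at h1
    rw [← h1]
    have h4 := q.e.inv.naturality (a ≫ biprod.fst)
    simp only [Functor.comp_map] at h4
    rw [← Category.assoc, h4, Category.assoc, ← q.gst.map_comp, Adjunction.homEquiv_counit]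
  have h5 : q.jpst.map ((q.adjF.homEquiv N N').symm (a ≫ biprod.snd)) =
      (q.e.inv.app N ≫ q.gst.map ((q.adjJ.homEquiv N NU).symm (a ≫ biprod.fst))) ≫ δ.inv := by
    rw [← hsss, Category.assoc, Iso.hom_inv_id, Category.comp_id]
  rw [h5]
  infer_instance

omit [q.jst.CommShift ℤ] [q.fst.CommShift ℤ] [q.jpst.CommShift ℤ] [q.gst.CommShift ℤ]
  [q.jst.IsTriangulated] [q.fst.IsTriangulated] [q.jpst.IsTriangulated] [q.gst.IsTriangulated] in
lemma precomp_iso_bijective {C : Type*} [Category C] {X Y Z : C} (f : X ⟶ Y) (hf : IsIso f) :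
    Function.Bijective (fun w : Y ⟶ Z => f ≫ w) := by
  constructor
  · intro w w' h
    exact (cancel_epi f).1 h
  · intro w
    exact ⟨inv f ≫ w, by simp⟩

include hq hT in
lemma glue_comp_bijective (M : S') (hM : IsZero (q.jpst.obj M)) :
    Function.Bijective (fun x : M ⟶ q.fst.obj N =>
      x ≫ (q.adjF.homEquiv N N').symm (a ≫ biprod.snd)) := by
  have hεM : IsIso (q.adjF.counit.app M) := hq.isIso_counitF M hM
  have hA : IsZero (q.jst.obj (q.fls.obj M)) := isZero_jst_fls hq M hM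
  have hA' : IsZero ((q.fst ⋙ q.jpst).obj (q.fls.obj M)) := isZero_jpst_fst _ hA
  have hΦ₁ : Function.Bijective
      (fun g : q.fls.obj M ⟶ N => inv (q.adjF.counit.app M) ≫ q.fst.map g) :=
    (precomp_iso_bijective (inv (q.adjF.counit.app M)) inferInstance).comp
      (fst_map_bijective hq M hM N)
  -- the second chain
  have hb1 : Function.Bijective (fun g : q.fls.obj M ⟶ N => g ≫ a) :=
    comp_mor₁_bijective _ hT (hz_of_isZero (adjL q) hA' _ 0) (hz_of_isZero (adjL q) hA' _ (-1))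
  have hb2 : Function.Bijective
      (fun y : q.fls.obj M ⟶ q.jls.obj NU ⊞ q.fls.obj N' => y ≫ biprod.snd) := by
    have hz : ∀ y : q.fls.obj M ⟶ q.jls.obj NU, y = 0 := (hz_of_isZero q.adjJ hA NU 0).plain
    constructor
    · intro y y' h
      apply biprod.hom_ext
      · rw [hz (y ≫ biprod.fst), hz (y' ≫ biprod.fst)]
      · exact h
    · intro z
      exact ⟨z ≫ biprod.inr, by simp⟩
  have hb3 : Function.Bijective (fun z : q.fls.obj M ⟶ q.fls.obj N' =>
      (q.adjF.homEquiv (q.fls.obj M) N').symm z) := (q.adjF.homEquiv _ _).symm.bijective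
  have hΦ₂ : Function.Bijective (fun g : q.fls.obj M ⟶ N =>
      inv (q.adjF.counit.app M) ≫ (q.adjF.homEquiv (q.fls.obj M) N').symm ((g ≫ a) ≫ biprod.snd)) :=
    (precomp_iso_bijective (inv (q.adjF.counit.app M)) inferInstance).comp
      (hb3.comp (hb2.comp hb1))
  have hcomp : (fun x : M ⟶ q.fst.obj N => x ≫ (q.adjF.homEquiv N N').symm (a ≫ biprod.snd)) ∘
      (fun g : q.fls.obj M ⟶ N => inv (q.adjF.counit.app M) ≫ q.fst.map g) =
      (fun g : q.fls.obj M ⟶ N =>
        inv (q.adjF.counit.app M) ≫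
          (q.adjF.homEquiv (q.fls.obj M) N').symm ((g ≫ a) ≫ biprod.snd)) := by
    funext g
    change (inv (q.adjF.counit.app M) ≫ q.fst.map g) ≫
      (q.adjF.homEquiv N N').symm (a ≫ biprod.snd) = _
    simp only [Adjunction.homEquiv_counit, Functor.map_comp, Category.assoc]
  rw [← hcomp] at hΦ₂
  exact (Function.Bijective.of_comp_iff _ hΦ₁).1 hΦ₂

include hq hT in
theorem glue_isIso₂ : IsIso ((q.adjF.homEquiv N N').symm (a ≫ biprod.snd)) := by
  obtain ⟨Z, p, w, hTρ⟩ := distinguished_cocone_triangle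
    ((q.adjF.homEquiv N N').symm (a ≫ biprod.snd))
  have hjZ : IsZero (q.jpst.obj Z) := by
    have hT' := q.jpst.map_distinguished _ hTρ
    exact (Triangle.isZero₃_iff_isIso₁ _ hT').2 (glue_jpst_isIso hq NU N' δ N a d hT)
  have hjZ' : IsZero (q.jpst.obj ((shiftFunctor S' (-1 : ℤ)).obj Z)) :=
    IsZero.of_iso ((shiftFunctor R' (-1 : ℤ)).map_isZero hjZ)
      ((q.jpst.commShiftIso (-1 : ℤ)).app Z)
  have h0 : 𝟙 Z = 0 := hom_cone_eq_zero _ hTρ
    (glue_comp_bijective hq NU N' δ N a d hT Z hjZ).2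
    (glue_comp_bijective hq NU N' δ N a d hT _ hjZ').1 (𝟙 Z)
  have hZ : IsZero Z := (IsZero.iff_id_eq_zero Z).2 h0
  exact (Triangle.isZero₃_iff_isIso₁ _ hTρ).1 hZ

end Sq5

end Groth.Agent.Helper3.MVSqLib
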