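import Mathlib
import Groth.Prelude.Def_W4c3perfectstacksMV
import Groth.Prelude.Def_CohDer
import Groth.Agent.Lib.Helper3.MVSqLib
import Groth.Agent.Lib.Helper3.Compact
import Groth.Agent.S16407
import Groth.Agent.S16408

set_option autoImplicit false
set_option linter.unusedSectionVars false
universe v u

open CategoryTheory CategoryTheory.Limits CategoryTheory.Pretriangulated

namespace Groth.Agent.Helper3.MVCompact

open Groth.Agent.Helper3.Compact

section General

variable {C D : Type u} [Category.{v} C] [Category.{v} D] [Preadditive C] [Preadditive D]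
  [HasCoproducts.{v} C] [HasCoproducts.{v} D]

/-- maps from a compact object into `L (∐ X)` are finite sums, for `L` preserving coproducts -/
lemma exists_finsum_of_compact (L : C ⥤ D) [∀ κ : Type v, PreservesColimitsOfShape (Discrete κ) L]
    {K' : D} (hK' : CohDer.IsCompactObject K') {κ : Type v} (X : κ → C)
    (y : K' ⟶ L.obj (∐ X)) :
    ∃ (S : Finset κ) (h : ∀ k, K' ⟶ L.obj (X k)), y = ∑ k ∈ S, h k ≫ L.map (Sigma.ι X k) := by
  rw [isCompact_iff] at hK'
  obtain ⟨S, h, hh⟩ := hK' κ (fun k => L.obj (X k)) (y ≫ (PreservesCoproduct.iso L X).hom)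
  refine ⟨S, h, ?_⟩
  have h1 : y = (y ≫ (PreservesCoproduct.iso L X).hom) ≫ sigmaComparison L X := by
    rw [← PreservesCoproduct.inv_hom, Category.assoc, Iso.hom_inv_id, Category.comp_id]
  rw [h1, hh, Preadditive.sum_comp]
  apply Finset.sum_congr rfl
  intro k _
  rw [Category.assoc, ι_comp_sigmaComparison]

/-- truncating `f` to a finite set containing the support of `L f` does not change `L f` -/
lemma map_trunc_eq (L : C ⥤ D) [L.Additive] {K : C} {κ : Type v} [DecidableEq κ] (X : κ → C)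
    (f : K ⟶ ∐ X) (S₁ S₀ : Finset κ) (hS : S₁ ⊆ S₀) (h : ∀ k, L.obj K ⟶ L.obj (X k))
    (hf : L.map f = ∑ k ∈ S₁, h k ≫ L.map (Sigma.ι X k)) :
    L.map (∑ k ∈ S₀, (f ≫ Sigma.π X k) ≫ Sigma.ι X k) = L.map f := by
  have hπ : ∀ k, L.map (f ≫ Sigma.π X k) = if k ∈ S₁ then h k else 0 := by
    intro k
    rw [Functor.map_comp, hf, Preadditive.sum_comp]
    by_cases hk : k ∈ S₁
    · rw [if_pos hk, Finset.sum_eq_single k]
      · rw [Category.assoc, ← Functor.map_comp, Sigma.ι_π_eq_id, CategoryTheory.Functor.map_id,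
          Category.comp_id]
      · intro m _ hm
        rw [Category.assoc, ← Functor.map_comp, Sigma.ι_π_of_ne _ hm, Functor.map_zero, comp_zero]
      · intro hk'
        exact absurd hk hk'
    · rw [if_neg hk]
      apply Finset.sum_eq_zero
      intro m hm
      have hmk : m ≠ k := fun e => hk (e ▸ hm)
      rw [Category.assoc, ← Functor.map_comp, Sigma.ι_π_of_ne _ hmk, Functor.map_zero, comp_zero]
  rw [Functor.map_sum, hf]
  have h2 : ∀ k ∈ S₀, L.map ((f ≫ Sigma.π X k) ≫ Sigma.ι X k) =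
      if k ∈ S₁ then h k ≫ L.map (Sigma.ι X k) else 0 := by
    intro k _
    rw [Functor.map_comp, hπ]
    split_ifs
    · rfl
    · rw [zero_comp]
  rw [Finset.sum_congr rfl h2, Finset.sum_ite, Finset.sum_const_zero, add_zero]
  apply Finset.sum_congr
  · ext k
    simp only [Finset.mem_filter]
    exact ⟨fun h => h.2, fun h => ⟨hS h, h⟩⟩
  · intro _ _
    rfl

/-- maps into `G (L (∐ X))` from `K` with `L K` compact are finite sums -/
lemma exists_finsum_adj {L : C ⥤ D} {G : D ⥤ C} (adj : L ⊣ G) [L.Additive]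
    {K : C} (hK : CohDer.IsCompactObject (L.obj K)) {κ : Type v} (X : κ → C)
    (x : K ⟶ G.obj (L.obj (∐ X))) :
    ∃ (S : Finset κ) (x' : ∀ k, K ⟶ G.obj (L.obj (X k))),
      x = ∑ k ∈ S, x' k ≫ G.map (L.map (Sigma.ι X k)) := by
  have : ∀ κ : Type v, PreservesColimitsOfShape (Discrete κ) L := fun κ =>
    adj.leftAdjoint_preservesColimits.preservesColimitsOfShape
  have : G.Additive := adj.right_adjoint_additive
  obtain ⟨S, h, hh⟩ := exists_finsum_of_compact L hK X ((adj.homEquiv _ _).symm x)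
  refine ⟨S, fun k => adj.homEquiv _ _ (h k), ?_⟩
  have h1 : x = adj.homEquiv _ _ ((adj.homEquiv _ _).symm x) := by simp
  rw [h1, hh, Adjunction.homEquiv_unit, Functor.map_sum, Preadditive.comp_sum]
  apply Finset.sum_congr rfl
  intro k _
  change _ = adj.homEquiv _ _ (h k) ≫ _
  rw [Functor.map_comp, Adjunction.homEquiv_unit, Category.assoc]

end General

section Sq

open W4c3perfectstacks

variable {S S' R R' : Type u} [Category.{v} S] [Category.{v} S'] [Category.{v} R] [Category.{v} R']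
    [Preadditive S] [Preadditive S'] [Preadditive R] [Preadditive R']
    [HasZeroObject S] [HasZeroObject S'] [HasZeroObject R] [HasZeroObject R']
    [HasShift S ℤ] [HasShift S' ℤ] [HasShift R ℤ] [HasShift R' ℤ]
    [∀ n : ℤ, (shiftFunctor S n).Additive] [∀ n : ℤ, (shiftFunctor S' n).Additive]
    [∀ n : ℤ, (shiftFunctor R n).Additive] [∀ n : ℤ, (shiftFunctor R' n).Additive]
    [Pretriangulated S] [Pretriangulated S'] [Pretriangulated R] [Pretriangulated R']
    [IsTriangulated S] [IsTriangulated S'] [IsTriangulated R] [IsTriangulated R']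
    {q : MVSq S S' R R'}
    [q.jst.CommShift ℤ] [q.fst.CommShift ℤ] [q.jpst.CommShift ℤ] [q.gst.CommShift ℤ]
    [q.jst.IsTriangulated] [q.fst.IsTriangulated] [q.jpst.IsTriangulated] [q.gst.IsTriangulated]

/-- comparison `f_* f^* j_* j^* Y ⟶ f_* j'_* j'^* f^* Y` -/
def nu (q : MVSq S S' R R') (Y : S) : q.fls.obj (q.fst.obj (q.jls.obj (q.jst.obj Y))) ⟶
    q.fls.obj (q.jpls.obj (q.jpst.obj (q.fst.obj Y))) :=
  q.fls.map (q.bc2App (q.jst.obj Y) ≫ q.jpls.map (q.e.hom.app Y))

lemma isIso_nu (hq : q.IsMV) (Y : S) : IsIso (nu q Y) := by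
  have := hq.isIso_bc2App (q.jst.obj Y)
  unfold nu
  infer_instance

lemma nu_naturality {Y Y' : S} (φ : Y ⟶ Y') :
    q.fls.map (q.fst.map (q.jls.map (q.jst.map φ))) ≫ nu q Y' =
      nu q Y ≫ q.fls.map (q.jpls.map (q.jpst.map (q.fst.map φ))) := by
  unfold nu
  rw [← Functor.map_comp, ← Functor.map_comp]
  congr 1
  rw [← Category.assoc, MVSqLib.bc2App_naturality, Category.assoc, Category.assoc,
    ← Functor.map_comp, ← Functor.map_comp]
  congr 2
  exact q.e.hom.naturality φ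

lemma nu_inv_naturality (hq : q.IsMV) {Y Y' : S} (φ : Y ⟶ Y') :
    q.fls.map (q.jpls.map (q.jpst.map (q.fst.map φ))) ≫ @inv _ _ _ _ (nu q Y') (isIso_nu hq Y') =
      @inv _ _ _ _ (nu q Y) (isIso_nu hq Y) ≫ q.fls.map (q.fst.map (q.jls.map (q.jst.map φ))) := by
  have := isIso_nu hq Y
  have := isIso_nu hq Y'
  rw [IsIso.comp_inv_eq, Category.assoc, nu_naturality, IsIso.inv_hom_id_assoc]

variable [HasCoproducts.{v} S] [HasCoproducts.{v} S'] [HasCoproducts.{v} R] [HasCoproducts.{v} R']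

theorem compact_of_restrictions (hq : q.IsMV) (N : S)
    (hU : CohDer.IsCompactObject (q.jst.obj N)) (hX' : CohDer.IsCompactObject (q.fst.obj N))
    (hU' : CohDer.IsCompactObject (q.gst.obj (q.jst.obj N))) :
    CohDer.IsCompactObject N := by
  classical
  rw [isCompact_iff']
  intro κ X f
  have pJ : ∀ κ : Type v, PreservesColimitsOfShape (Discrete κ) q.jst := fun κ =>
    q.adjJ.leftAdjoint_preservesColimits.preservesColimitsOfShape
  have pF : ∀ κ : Type v, PreservesColimitsOfShape (Discrete κ) q.fst := fun κ =>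
    q.adjF.leftAdjoint_preservesColimits.preservesColimitsOfShape
  have aJ : q.jls.Additive := q.adjJ.right_adjoint_additive
  have aF : q.fls.Additive := q.adjF.right_adjoint_additive
  have aJp : q.jpls.Additive := q.adjJp.right_adjoint_additive
  obtain ⟨S₁, h₁, hh₁⟩ := exists_finsum_of_compact q.jst hU X (q.jst.map f)
  obtain ⟨S₂, h₂, hh₂⟩ := exists_finsum_of_compact q.fst hX' X (q.fst.map f)
  obtain ⟨fS, hfS⟩ : ∃ fS : N ⟶ ∐ X, fS = ∑ k ∈ S₁ ∪ S₂, (f ≫ Sigma.π X k) ≫ Sigma.ι X k :=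
    ⟨_, rfl⟩
  have hJ : q.jst.map fS = q.jst.map f := by
    rw [hfS]
    exact map_trunc_eq q.jst X f S₁ (S₁ ∪ S₂) Finset.subset_union_left h₁ hh₁
  have hF : q.fst.map fS = q.fst.map f := by
    rw [hfS]
    exact map_trunc_eq q.fst X f S₂ (S₁ ∪ S₂) Finset.subset_union_right h₂ hh₂
  have hfS' : FinSupp N X fS := (finSupp_iff _ _ _).2 ⟨S₁ ∪ S₂, fun k => f ≫ Sigma.π X k, hfS⟩
  suffices hsuff : FinSupp N X (f - fS) by
    have h := hsuff.add hfS'
    rwa [sub_add_cancel] at h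
  obtain ⟨f', hf'⟩ : ∃ f' : N ⟶ ∐ X, f' = f - fS := ⟨_, rfl⟩
  rw [← hf']
  have hJ' : q.jst.map f' = 0 := by rw [hf', Functor.map_sub, hJ, sub_self]
  have hF' : q.fst.map f' = 0 := by rw [hf', Functor.map_sub, hF, sub_self]
  have hzJ : f' ≫ q.adjJ.unit.app (∐ X) = 0 := by
    have h := q.adjJ.unit.naturality f'
    simp only [Functor.id_obj, Functor.id_map, Functor.comp_obj, Functor.comp_map] at h
    rw [h, hJ', Functor.map_zero, comp_zero]
  have hzF : f' ≫ q.adjF.unit.app (∐ X) = 0 := by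
    have h := q.adjF.unit.naturality f'
    simp only [Functor.id_obj, Functor.id_map, Functor.comp_obj, Functor.comp_map] at h
    rw [h, hF', Functor.map_zero, comp_zero]
  have hz : f' ≫ biprod.lift (q.adjJ.unit.app (∐ X)) (q.adjF.unit.app (∐ X)) = 0 := by
    apply biprod.hom_ext
    · rw [Category.assoc, biprod.lift_fst, hzJ, zero_comp]
    · rw [Category.assoc, biprod.lift_snd, hzF, zero_comp]
  obtain ⟨dT, hdT, -⟩ := Groth.Agent.S16407.result S S' R R' q hq (∐ X)
  obtain ⟨g, hg⟩ : ∃ g : (shiftFunctor S (1 : ℤ)).obj N ⟶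
      q.fls.obj (q.fst.obj (q.jls.obj (q.jst.obj (∐ X)))),
      (shiftFunctor S (1 : ℤ)).map f' = g ≫ dT :=
    Triangle.coyoneda_exact₁ _ hdT ((shiftFunctor S (1 : ℤ)).map f') (by
    change (shiftFunctor S (1 : ℤ)).map f' ≫ (shiftFunctor S (1 : ℤ)).map
      (biprod.lift (q.adjJ.unit.app (∐ X)) (q.adjF.unit.app (∐ X))) = 0
    rw [← Functor.map_comp, hz, Functor.map_zero])
  -- compactness of `L (N⟦1⟧)`
  have hK : CohDer.IsCompactObject ((q.fst ⋙ q.jpst).obj ((shiftFunctor S (1 : ℤ)).obj N)) := by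
    have e1 : (shiftFunctor R' (1 : ℤ)).obj (q.gst.obj (q.jst.obj N)) ≅
        q.gst.obj ((shiftFunctor R (1 : ℤ)).obj (q.jst.obj N)) :=
      ((q.gst.commShiftIso (1 : ℤ)).app (q.jst.obj N)).symm
    have e2 : q.gst.obj ((shiftFunctor R (1 : ℤ)).obj (q.jst.obj N)) ≅
        q.gst.obj (q.jst.obj ((shiftFunctor S (1 : ℤ)).obj N)) :=
      q.gst.mapIso ((q.jst.commShiftIso (1 : ℤ)).app N).symm
    have e3 : q.gst.obj (q.jst.obj ((shiftFunctor S (1 : ℤ)).obj N)) ≅
        (q.fst ⋙ q.jpst).obj ((shiftFunctor S (1 : ℤ)).obj N) :=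
      q.e.app ((shiftFunctor S (1 : ℤ)).obj N)
    exact compact_of_iso (e1 ≪≫ e2 ≪≫ e3) (compact_shift hU' 1)
  have hnuT := isIso_nu hq (∐ X)
  have aL : (q.fst ⋙ q.jpst).Additive := inferInstance
  obtain ⟨S₃, x', hx'⟩ := exists_finsum_adj (MVSqLib.adjL q) hK X (g ≫ nu q (∐ X))
  -- the MV triangles of the summands
  have hd : ∀ k, ∃ d : q.fls.obj (q.fst.obj (q.jls.obj (q.jst.obj (X k)))) ⟶
      (shiftFunctor S (1 : ℤ)).obj (X k),
      Triangle.mk (biprod.lift (q.adjJ.unit.app (X k)) (q.adjF.unit.app (X k)))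
        (biprod.desc (q.adjF.unit.app (q.jls.obj (q.jst.obj (X k))))
          (-(q.fls.map (q.fst.map (q.adjJ.unit.app (X k)))))) d ∈ distTriang S := fun k =>
    (Groth.Agent.S16407.result S S' R R' q hq (X k)).exists
  choose d hd using hd
  have hnat : ∀ k, d k ≫ (shiftFunctor S (1 : ℤ)).map (Sigma.ι X k) =
      q.fls.map (q.fst.map (q.jls.map (q.jst.map (Sigma.ι X k)))) ≫ dT := fun k =>
    Groth.Agent.S16408.result S S' R R' q hq (X k) (∐ X) (Sigma.ι X k) (d k) dT (hd k) hdT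
  have hg2 : g = ∑ k ∈ S₃, (x' k ≫ @inv _ _ _ _ (nu q (X k)) (isIso_nu hq (X k))) ≫
      q.fls.map (q.fst.map (q.jls.map (q.jst.map (Sigma.ι X k)))) := by
    have h1 : g = (g ≫ nu q (∐ X)) ≫ inv (nu q (∐ X)) := by
      simp
    rw [h1, hx', Preadditive.sum_comp]
    apply Finset.sum_congr rfl
    intro k _
    rw [Category.assoc, Category.assoc]
    congr 1
    exact nu_inv_naturality hq (Sigma.ι X k)
  have hu : ∀ k, ∃ u : N ⟶ X k, (shiftFunctor S (1 : ℤ)).map u =
      (x' k ≫ @inv _ _ _ _ (nu q (X k)) (isIso_nu hq (X k))) ≫ d k := fun k =>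
    (shiftFunctor S (1 : ℤ)).map_surjective _
  choose u hu using hu
  have hfin : f' = ∑ k ∈ S₃, u k ≫ Sigma.ι X k := by
    apply (shiftFunctor S (1 : ℤ)).map_injective
    rw [hg, hg2, Functor.map_sum, Preadditive.sum_comp]
    apply Finset.sum_congr rfl
    intro k _
    rw [Functor.map_comp, hu, Category.assoc, Category.assoc, Category.assoc, hnat,
      Category.assoc]
  exact (finSupp_iff _ _ _).2 ⟨S₃, u, hfin⟩

end Sq

end Groth.Agent.Helper3.MVCompact
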