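import Mathlib
import Groth.Prelude.Def_CohCx

set_option autoImplicit false
universe u
open CategoryTheory Limits Pretriangulated Opposite

namespace Groth.Agent.Helper3.MVD

/-- exactness of a pair of composable maps of abelian groups -/
lemma exact_mk₂ {A B C : Type u} [AddCommGroup A] [AddCommGroup B] [AddCommGroup C]
    (φ : A →+ B) (ψ : B →+ C) (h0 : ∀ a, ψ (φ a) = 0) (h1 : ∀ b, ψ b = 0 → ∃ a, φ a = b) :
    (ComposableArrows.mk₂ (AddCommGrpCat.ofHom φ) (AddCommGrpCat.ofHom ψ)).Exact := by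
  have w : AddCommGrpCat.ofHom φ ≫ AddCommGrpCat.ofHom ψ = 0 := by
    ext a
    exact h0 a
  refine (ShortComplex.Exact.exact_toComposableArrows (S := ShortComplex.mk _ _ w) ?_)
  rw [ShortComplex.ab_exact_iff]
  intro b hb
  exact h1 b hb

variable {C : Type u} [SmallCategory C] {J : GrothendieckTopology C}
    [HasWeakSheafify J (Type u)] [HasDerivedCategory.{u} (Sheaf J AddCommGrpCat.{u})]
    (S : J.MayerVietorisSquare) (K : DerivedCategory (Sheaf J AddCommGrpCat.{u}))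

/-- the derived category -/
abbrev D (J : GrothendieckTopology C) [HasDerivedCategory.{u} (Sheaf J AddCommGrpCat.{u})] :=
  DerivedCategory (Sheaf J AddCommGrpCat.{u})

/-- the single functor -/
noncomputable abbrev s : Sheaf J AddCommGrpCat.{u} ⥤ D J :=
  DerivedCategory.singleFunctor (Sheaf J AddCommGrpCat.{u}) 0

/-- the free sheaves in the derived category -/
noncomputable abbrev Z (U : C) : D J := (s (J := J)).obj (CohCx.freeSheaf J U)

/-- the middle term -/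
noncomputable abbrev M : Sheaf J AddCommGrpCat.{u} :=
  CohCx.freeSheaf J S.X₂ ⊞ CohCx.freeSheaf J S.X₃

/-- the maps of the Mayer-Vietoris sequence -/
noncomputable abbrev fM : CohCx.freeSheaf J S.X₁ ⟶ M S :=
  biprod.lift (CohCx.freeSheafMap J S.f₁₂) (-(CohCx.freeSheafMap J S.f₁₃))

noncomputable abbrev gM : M S ⟶ CohCx.freeSheaf J S.X₄ :=
  biprod.desc (CohCx.freeSheafMap J S.f₂₄) (CohCx.freeSheafMap J S.f₃₄)

/-- the maps of the triangle -/
noncomputable def m₁ : Z (J := J) S.X₁ ⟶ (s (J := J)).obj (M S) := (s (J := J)).map (fM S)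
noncomputable def m₂ : (s (J := J)).obj (M S) ⟶ Z (J := J) S.X₄ := (s (J := J)).map (gM S)
noncomputable def m₃ : Z (J := J) S.X₄ ⟶ (Z (J := J) S.X₁)⟦(1 : ℤ)⟧ :=
  S.shortComplex_shortExact.singleδ

/-- the Mayer-Vietoris triangle -/
noncomputable abbrev T : Triangle (D J) := Triangle.mk (m₁ S) (m₂ S) (m₃ S)

lemma hT : T S ∈ distTriang _ := S.shortComplex_shortExact.singleTriangle_distinguished

lemma m₁_m₂ : m₁ S ≫ m₂ S = 0 := comp_distTriang_mor_zero₁₂ _ (hT S)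
lemma m₂_m₃ : m₂ S ≫ m₃ S = 0 := comp_distTriang_mor_zero₂₃ _ (hT S)
lemma m₃_m₁ : m₃ S ≫ (m₁ S)⟦(1 : ℤ)⟧' = 0 := comp_distTriang_mor_zero₃₁ _ (hT S)

/-- the connecting homomorphism -/
noncomputable def δ (n : ℤ) : CohCx.HDU K n S.X₁ →+ CohCx.HDU K (n + 1) S.X₄ :=
  (Preadditive.leftComp _ (m₃ S)).comp
    ((Preadditive.rightComp _ ((shiftFunctorAdd' _ n 1 (n + 1) rfl).inv.app K)).comp
      (shiftFunctor (D J) (1 : ℤ)).mapAddHom)

lemma δ_apply (n : ℤ) (x : CohCx.HDU K n S.X₁) :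
    δ S K n x = m₃ S ≫ x⟦(1 : ℤ)⟧' ≫ (shiftFunctorAdd' _ n 1 (n + 1) rfl).inv.app K := rfl

omit [HasWeakSheafify J (Type u)] in
lemma res_apply {n : ℤ} {U V : C} (f : V ⟶ U) (x : CohCx.HDU K n U) :
    CohCx.HDUres K n f x = (s (J := J)).map (CohCx.freeSheafMap J f) ≫ x := rfl

/-- the structure maps of the middle term -/
noncomputable def i₂ : Z (J := J) S.X₂ ⟶ (s (J := J)).obj (M S) := (s (J := J)).map biprod.inl
noncomputable def i₃ : Z (J := J) S.X₃ ⟶ (s (J := J)).obj (M S) := (s (J := J)).map biprod.inr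
noncomputable def p₂ : (s (J := J)).obj (M S) ⟶ Z (J := J) S.X₂ := (s (J := J)).map biprod.fst
noncomputable def p₃ : (s (J := J)).obj (M S) ⟶ Z (J := J) S.X₃ := (s (J := J)).map biprod.snd

lemma i₂_p₂ : i₂ S ≫ p₂ S = 𝟙 _ := by
  rw [i₂, p₂, ← CategoryTheory.Functor.map_comp, biprod.inl_fst, CategoryTheory.Functor.map_id]
lemma i₃_p₃ : i₃ S ≫ p₃ S = 𝟙 _ := by
  rw [i₃, p₃, ← CategoryTheory.Functor.map_comp, biprod.inr_snd, CategoryTheory.Functor.map_id]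
lemma i₂_p₃ : i₂ S ≫ p₃ S = 0 := by
  rw [i₂, p₃, ← CategoryTheory.Functor.map_comp, biprod.inl_snd, CategoryTheory.Functor.map_zero]
lemma i₃_p₂ : i₃ S ≫ p₂ S = 0 := by
  rw [i₃, p₂, ← CategoryTheory.Functor.map_comp, biprod.inr_fst, CategoryTheory.Functor.map_zero]
lemma total : p₂ S ≫ i₂ S + p₃ S ≫ i₃ S = 𝟙 ((s (J := J)).obj (M S)) := by
  rw [i₂, p₂, i₃, p₃, ← CategoryTheory.Functor.map_comp, ← CategoryTheory.Functor.map_comp,
    ← CategoryTheory.Functor.map_add, biprod.total, CategoryTheory.Functor.map_id]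

lemma res₂₄ : (s (J := J)).map (CohCx.freeSheafMap J S.f₂₄) = i₂ S ≫ m₂ S := by
  rw [i₂, m₂, ← CategoryTheory.Functor.map_comp, biprod.inl_desc]

lemma res₃₄ : (s (J := J)).map (CohCx.freeSheafMap J S.f₃₄) = i₃ S ≫ m₂ S := by
  rw [i₃, m₂, ← CategoryTheory.Functor.map_comp, biprod.inr_desc]

lemma res₁₂ : (s (J := J)).map (CohCx.freeSheafMap J S.f₁₂) = m₁ S ≫ p₂ S := by
  rw [m₁, p₂, ← CategoryTheory.Functor.map_comp, biprod.lift_fst]

lemma res₁₃ : -(s (J := J)).map (CohCx.freeSheafMap J S.f₁₃) = m₁ S ≫ p₃ S := by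
  rw [m₁, p₃, ← CategoryTheory.Functor.map_comp, biprod.lift_snd, CategoryTheory.Functor.map_neg]

/-- the class on the middle term attached to a pair of classes -/
noncomputable def mid {n : ℤ} (a : CohCx.HDU K n S.X₂) (b : CohCx.HDU K n S.X₃) :
    (s (J := J)).obj (M S) ⟶ (shiftFunctor _ n).obj K := p₂ S ≫ a + p₃ S ≫ b

lemma i₂_mid {n : ℤ} (a : CohCx.HDU K n S.X₂) (b : CohCx.HDU K n S.X₃) :
    i₂ S ≫ mid S K a b = a := by
  rw [mid, Preadditive.comp_add, ← Category.assoc, ← Category.assoc, i₂_p₂, i₂_p₃, Category.id_comp,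
    zero_comp, add_zero]

lemma i₃_mid {n : ℤ} (a : CohCx.HDU K n S.X₂) (b : CohCx.HDU K n S.X₃) :
    i₃ S ≫ mid S K a b = b := by
  rw [mid, Preadditive.comp_add, ← Category.assoc, ← Category.assoc, i₃_p₂, i₃_p₃, Category.id_comp,
    zero_comp, zero_add]

lemma mid_eta {n : ℤ} (y : (s (J := J)).obj (M S) ⟶ (shiftFunctor _ n).obj K) :
    mid S K (i₂ S ≫ y) (i₃ S ≫ y) = y := by
  rw [mid, ← Category.assoc, ← Category.assoc, ← Preadditive.add_comp, total, Category.id_comp]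

/-- the difference map is precomposition with the first map of the triangle -/
lemma ψ_apply {n : ℤ} (a : CohCx.HDU K n S.X₂) (b : CohCx.HDU K n S.X₃) :
    ((CohCx.HDUres K n S.f₁₂).coprod (-(CohCx.HDUres K n S.f₁₃))) (a, b) =
      m₁ S ≫ mid S K a b := by
  change (s (J := J)).map (CohCx.freeSheafMap J S.f₁₂) ≫ a +
    (-((s (J := J)).map (CohCx.freeSheafMap J S.f₁₃) ≫ b)) = _
  rw [mid, Preadditive.comp_add, ← Category.assoc, ← Category.assoc, ← res₁₂, ← res₁₃,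
    Preadditive.neg_comp]

lemma φ_apply {n : ℤ} (w : CohCx.HDU K n S.X₄) :
    ((CohCx.HDUres K n S.f₂₄).prod (CohCx.HDUres K n S.f₃₄)) w =
      (i₂ S ≫ m₂ S ≫ w, i₃ S ≫ m₂ S ≫ w) := by
  change ((s (J := J)).map (CohCx.freeSheafMap J S.f₂₄) ≫ w,
    (s (J := J)).map (CohCx.freeSheafMap J S.f₃₄) ≫ w) = _
  rw [res₂₄, res₃₄, Category.assoc, Category.assoc]

theorem exact₁ (n : ℤ) :
    (ComposableArrows.mk₂
      (AddCommGrpCat.ofHom ((CohCx.HDUres K n S.f₂₄).prod (CohCx.HDUres K n S.f₃₄)))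
      (AddCommGrpCat.ofHom ((CohCx.HDUres K n S.f₁₂).coprod (-(CohCx.HDUres K n S.f₁₃))))).Exact := by
  refine exact_mk₂ _ _ (fun w => ?_) (fun ab hab => ?_)
  · rw [φ_apply, ψ_apply, mid_eta, ← Category.assoc, m₁_m₂, zero_comp]
  · obtain ⟨a, b⟩ := ab
    rw [ψ_apply] at hab
    obtain ⟨w, hw⟩ := Triangle.yoneda_exact₂ _ (hT S) (mid S K a b) hab
    refine ⟨w, ?_⟩
    have hw' : mid S K a b = m₂ S ≫ w := hw
    rw [φ_apply, ← hw', i₂_mid, i₃_mid]

theorem exact₂ (n : ℤ) :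
    (ComposableArrows.mk₂
      (AddCommGrpCat.ofHom ((CohCx.HDUres K n S.f₁₂).coprod (-(CohCx.HDUres K n S.f₁₃))))
      (AddCommGrpCat.ofHom (δ S K n))).Exact := by
  refine exact_mk₂ _ _ (fun ab => ?_) (fun x hx => ?_)
  · obtain ⟨a, b⟩ := ab
    rw [ψ_apply, δ_apply, CategoryTheory.Functor.map_comp, ← Category.assoc, ← Category.assoc,
      m₃_m₁, zero_comp, zero_comp]
  · rw [δ_apply] at hx
    have hx' : m₃ S ≫ x⟦(1 : ℤ)⟧' = 0 := by
      have h := congrArg (· ≫ (shiftFunctorAdd' (D J) n 1 (n + 1) rfl).hom.app K) hx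
      simpa using h
    obtain ⟨g, hg'⟩ : ∃ g : ((s (J := J)).obj (M S))⟦(1 : ℤ)⟧ ⟶
        ((shiftFunctor (D J) n).obj K)⟦(1 : ℤ)⟧, x⟦(1 : ℤ)⟧' = (-(m₁ S)⟦(1 : ℤ)⟧') ≫ g :=
      Triangle.yoneda_exact₃ _ (rot_of_distTriang _ (hT S)) (x⟦(1 : ℤ)⟧') hx'
    obtain ⟨y', rfl⟩ : ∃ y' : (s (J := J)).obj (M S) ⟶ (shiftFunctor (D J) n).obj K,
        (shiftFunctor (D J) (1 : ℤ)).map y' = g := (shiftFunctor (D J) (1 : ℤ)).map_surjective g
    have hxy : x = m₁ S ≫ (-y') := by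
      apply (shiftFunctor (D J) (1 : ℤ)).map_injective
      rw [hg', CategoryTheory.Functor.map_comp, CategoryTheory.Functor.map_neg,
        Preadditive.neg_comp, Preadditive.comp_neg]
    refine ⟨(i₂ S ≫ (-y'), i₃ S ≫ (-y')), ?_⟩
    rw [ψ_apply, mid_eta, hxy]

theorem exact₃ (n : ℤ) :
    (ComposableArrows.mk₂ (AddCommGrpCat.ofHom (δ S K n))
      (AddCommGrpCat.ofHom ((CohCx.HDUres K (n + 1) S.f₂₄).prod
        (CohCx.HDUres K (n + 1) S.f₃₄)))).Exact := by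
  refine exact_mk₂ _ _ (fun x => ?_) (fun w hw => ?_)
  · rw [φ_apply, δ_apply, ← Category.assoc (m₂ S), m₂_m₃, zero_comp, comp_zero, comp_zero]
    rfl
  · rw [φ_apply] at hw
    have h2 : i₂ S ≫ m₂ S ≫ w = 0 := congrArg Prod.fst hw
    have h3 : i₃ S ≫ m₂ S ≫ w = 0 := congrArg Prod.snd hw
    have h0 : m₂ S ≫ w = 0 := by
      rw [← mid_eta S K (m₂ S ≫ w), h2, h3, mid, comp_zero, comp_zero, add_zero]
    obtain ⟨x', hx''⟩ : ∃ x' : (Z (J := J) S.X₁)⟦(1 : ℤ)⟧ ⟶ (shiftFunctor (D J) (n + 1)).obj K,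
        w = m₃ S ≫ x' := Triangle.yoneda_exact₃ _ (hT S) w h0
    obtain ⟨x, hx⟩ : ∃ x : Z (J := J) S.X₁ ⟶ (shiftFunctor (D J) n).obj K,
        (shiftFunctor (D J) (1 : ℤ)).map x =
          x' ≫ (shiftFunctorAdd' (D J) n 1 (n + 1) rfl).hom.app K :=
      (shiftFunctor (D J) (1 : ℤ)).map_surjective _
    refine ⟨x, ?_⟩
    rw [δ_apply, hx, Category.assoc, Iso.hom_inv_id_app, Category.comp_id, hx'']

end Groth.Agent.Helper3.MVD
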