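import Mathlib
import Groth.Prelude.Def_CohCx
import Groth.Agent.S0454

/-!
# The Mayer–Vietoris square of direct images of restrictions is cartesian
-/

set_option autoImplicit false
universe u
open CategoryTheory Limits TopologicalSpace Opposite

namespace Groth.Agent.Helper3.MVPush

variable {X Y : TopCat.{u}} (f : X ⟶ Y)

/-- `F ↦ (f|_U)_* (F|_U)` -/
noncomputable abbrev G (U : Opens X) : CohTop.Ab X ⥤ CohTop.Ab Y :=
  CohTop.restrFunctor U ⋙ CohTop.push (CohCx.incl U ≫ f)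

/-- the open `U ∩ f⁻¹ W` -/
noncomputable abbrev im (U : Opens X) (W : Opens Y) : Opens X :=
  U.isOpenEmbedding.isOpenMap.functor.obj ((Opens.map (CohCx.incl U ≫ f)).obj W)

lemma mem_im (U : Opens X) (W : Opens Y) (x : X) : x ∈ im f U W ↔ x ∈ U ∧ f x ∈ W := by
  constructor
  · rintro ⟨y, hy, rfl⟩
    exact ⟨y.2, hy⟩
  · rintro ⟨h1, h2⟩
    exact ⟨⟨x, h1⟩, h2, rfl⟩

lemma im_le (U : Opens X) (W : Opens Y) : im f U W ≤ (Opens.map f).obj W := fun x hx =>
  ((mem_im f U W x).1 hx).2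

lemma im_mono {U V : Opens X} (h : V ≤ U) (W : Opens Y) : im f V W ≤ im f U W := fun x hx =>
  (mem_im f U W x).2 ⟨h ((mem_im f V W x).1 hx).1, ((mem_im f V W x).1 hx).2⟩

lemma le_sup_im {U V : Opens X} (hUV : U ⊔ V = ⊤) (W : Opens Y) :
    (Opens.map f).obj W ≤ im f U W ⊔ im f V W := by
  intro x hx
  have hx' : x ∈ U ⊔ V := by rw [hUV]; trivial
  rcases hx' with h | h
  · exact Or.inl ((mem_im f U W x).2 ⟨h, hx⟩)
  · exact Or.inr ((mem_im f V W x).2 ⟨h, hx⟩)

lemma inf_im_le (U V : Opens X) (W : Opens Y) : im f U W ⊓ im f V W ≤ im f (U ⊓ V) W := by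
  rintro x ⟨h1, h2⟩
  exact (mem_im f (U ⊓ V) W x).2
    ⟨⟨((mem_im f U W x).1 h1).1, ((mem_im f V W x).1 h2).1⟩, ((mem_im f U W x).1 h1).2⟩

variable (U V : Opens X) (F : CohTop.Ab X)

lemma α_app (W : Opens Y) : ((CohCx.pushToRestrPush f U).app F).hom.app (op W) =
    F.obj.map (homOfLE (im_le f U W)).op := rfl

lemma β_app {U V : Opens X} (h : V ≤ U) (W : Opens Y) :
    ((CohCx.restrPushToRestrPush f h).app F).hom.app (op W) =
      F.obj.map (homOfLE (im_mono f h W)).op := rfl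

lemma hw : CohCx.pushToRestrPush f U ≫ CohCx.restrPushToRestrPush f (inf_le_left : U ⊓ V ≤ U) =
    CohCx.pushToRestrPush f V ≫ CohCx.restrPushToRestrPush f (inf_le_right : U ⊓ V ≤ V) := by
  apply NatTrans.ext
  funext F
  apply Sheaf.hom_ext
  apply NatTrans.ext
  funext W
  change F.obj.map _ ≫ F.obj.map _ = F.obj.map _ ≫ F.obj.map _
  rw [← F.obj.map_comp, ← F.obj.map_comp]
  rfl

section sections

variable {X : TopCat.{u}} (F : CohTop.Ab X)

lemma map_le_comp {A B C : Opens X} (h1 : A ≤ B) (h2 : B ≤ C) :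
    F.obj.map (homOfLE h2).op ≫ F.obj.map (homOfLE h1).op =
      F.obj.map (homOfLE (h1.trans h2)).op := by
  rw [← F.obj.map_comp]
  rfl

variable {A B P Q : Opens X} (hA : A ≤ P) (hB : B ≤ P) (hP : P ≤ A ⊔ B) (hQA : Q ≤ A) (hQB : Q ≤ B)
  (hQ : A ⊓ B ≤ Q)

include hP in
/-- sections over `P = A ∪ B` are determined by their restrictions to `A` and `B` -/
lemma jointly_mono {M : AddCommGrpCat.{u}} (x y : M ⟶ F.obj.obj (op P))
    (h₁ : x ≫ F.obj.map (homOfLE hA).op = y ≫ F.obj.map (homOfLE hA).op)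
    (h₂ : x ≫ F.obj.map (homOfLE hB).op = y ≫ F.obj.map (homOfLE hB).op) :
    x = y := by
  have hmono : Mono (F.obj.map (homOfLE (sup_le hA hB)).op) :=
    SplitMono.mono ⟨F.obj.map (homOfLE hP).op, by
      rw [map_le_comp]
      exact F.obj.map_id _⟩
  rw [← cancel_mono (F.obj.map (homOfLE (sup_le hA hB)).op)]
  apply PullbackCone.IsLimit.hom_ext (TopCat.Sheaf.isLimitPullbackCone F A B)
  · change (x ≫ F.obj.map (homOfLE (sup_le hA hB)).op) ≫ F.obj.map (homOfLE le_sup_left).op =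
      (y ≫ F.obj.map (homOfLE (sup_le hA hB)).op) ≫ F.obj.map (homOfLE le_sup_left).op
    rw [Category.assoc, Category.assoc, map_le_comp]
    exact h₁
  · change (x ≫ F.obj.map (homOfLE (sup_le hA hB)).op) ≫ F.obj.map (homOfLE le_sup_right).op =
      (y ≫ F.obj.map (homOfLE (sup_le hA hB)).op) ≫ F.obj.map (homOfLE le_sup_right).op
    rw [Category.assoc, Category.assoc, map_le_comp]
    exact h₂

variable {M : AddCommGrpCat.{u}} (a : M ⟶ F.obj.obj (op A)) (b : M ⟶ F.obj.obj (op B))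
  (hab : a ≫ F.obj.map (homOfLE hQA).op = b ≫ F.obj.map (homOfLE hQB).op)

include hQ hab in
lemma cond : a ≫ F.obj.map (homOfLE (inf_le_left : A ⊓ B ≤ A)).op =
    b ≫ F.obj.map (homOfLE (inf_le_right : A ⊓ B ≤ B)).op := by
  have e1 : F.obj.map (homOfLE (inf_le_left : A ⊓ B ≤ A)).op =
      F.obj.map (homOfLE hQA).op ≫ F.obj.map (homOfLE hQ).op := (map_le_comp F _ _).symm
  have e2 : F.obj.map (homOfLE (inf_le_right : A ⊓ B ≤ B)).op =
      F.obj.map (homOfLE hQB).op ≫ F.obj.map (homOfLE hQ).op := (map_le_comp F _ _).symm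
  rw [e1, e2, ← Category.assoc, ← Category.assoc, hab]

/-- the glued map on sections -/
noncomputable def glue : M ⟶ F.obj.obj (op P) :=
  PullbackCone.IsLimit.lift (TopCat.Sheaf.isLimitPullbackCone F A B) a b
    (cond F hQA hQB hQ a b hab) ≫ F.obj.map (homOfLE hP).op

lemma glue_fst : glue F hP hQA hQB hQ a b hab ≫ F.obj.map (homOfLE hA).op = a :=
  (Category.assoc _ _ _).trans ((congrArg (_ ≫ ·) (map_le_comp F _ _)).trans
    (PullbackCone.IsLimit.lift_fst _ _ _ _))

lemma glue_snd : glue F hP hQA hQB hQ a b hab ≫ F.obj.map (homOfLE hB).op = b :=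
  (Category.assoc _ _ _).trans ((congrArg (_ ≫ ·) (map_le_comp F _ _)).trans
    (PullbackCone.IsLimit.lift_snd _ _ _ _))

end sections

section lift

variable (hUV : U ⊔ V = ⊤)
variable {Z : CohTop.Ab Y} (t₁ : Z ⟶ (G f U).obj F) (t₂ : Z ⟶ (G f V).obj F)
  (ht : t₁ ≫ (CohCx.restrPushToRestrPush f (inf_le_left : U ⊓ V ≤ U)).app F =
    t₂ ≫ (CohCx.restrPushToRestrPush f (inf_le_right : U ⊓ V ≤ V)).app F)

/-- sections of `t₁` with normalised types -/
noncomputable def aW (W : Opens Y) : Z.obj.obj (op W) ⟶ F.obj.obj (op (im f U W)) :=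
  t₁.hom.app (op W)

include ht in
lemma hab (W : Opens Y) : aW f U F t₁ W ≫ F.obj.map (homOfLE (im_mono f inf_le_left W)).op =
    aW f V F t₂ W ≫ F.obj.map (homOfLE (im_mono f inf_le_right W)).op :=
  congrArg (fun φ => φ.hom.app (op W)) ht

/-- the glued map on sections -/
noncomputable def lW (W : Opens Y) : Z.obj.obj (op W) ⟶ F.obj.obj (op ((Opens.map f).obj W)) :=
  glue F (le_sup_im f hUV W) (im_mono f inf_le_left W) (im_mono f inf_le_right W)
    (inf_im_le f U V W) (aW f U F t₁ W) (aW f V F t₂ W) (hab f U V F t₁ t₂ ht W)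

lemma lW_fst (W : Opens Y) : lW f U V F hUV t₁ t₂ ht W ≫ F.obj.map (homOfLE (im_le f U W)).op =
    aW f U F t₁ W := glue_fst F (im_le f U W) _ _ _ _ _ _ _

lemma lW_snd (W : Opens Y) : lW f U V F hUV t₁ t₂ ht W ≫ F.obj.map (homOfLE (im_le f V W)).op =
    aW f V F t₂ W := glue_snd F (im_le f V W) _ _ _ _ _ _ _

omit V in
lemma aW_nat {W W' : Opens Y} (h : W' ≤ W) :
    Z.obj.map (homOfLE h).op ≫ aW f U F t₁ W' =
      aW f U F t₁ W ≫ F.obj.map (homOfLE (show im f U W' ≤ im f U W from fun x hx =>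
        (mem_im f U W x).2 ⟨((mem_im f U W' x).1 hx).1, h ((mem_im f U W' x).1 hx).2⟩)).op :=
  t₁.hom.naturality (homOfLE h).op

lemma lW_nat {W W' : Opens Y} (h : W' ≤ W) :
    Z.obj.map (homOfLE h).op ≫ lW f U V F hUV t₁ t₂ ht W' =
      lW f U V F hUV t₁ t₂ ht W ≫ F.obj.map (homOfLE (show (Opens.map f).obj W' ≤
        (Opens.map f).obj W from fun x hx => h hx)).op := by
  apply jointly_mono F (im_le f U W') (im_le f V W') (le_sup_im f hUV W')
  · rw [Category.assoc, lW_fst, Category.assoc, map_le_comp, aW_nat f U F t₁ h,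
      ← lW_fst f U V F hUV t₁ t₂ ht W, Category.assoc, map_le_comp]
  · rw [Category.assoc, lW_snd, Category.assoc, map_le_comp, aW_nat f V F t₂ h,
      ← lW_snd f U V F hUV t₁ t₂ ht W, Category.assoc, map_le_comp]

/-- the glued morphism of sheaves -/
noncomputable def lift : Z ⟶ (CohTop.push f).obj F :=
  ⟨{ app := fun W => lW f U V F hUV t₁ t₂ ht W.unop
     naturality := fun W W' i => lW_nat f U V F hUV t₁ t₂ ht (leOfHom i.unop) }⟩

lemma lift_fst : lift f U V F hUV t₁ t₂ ht ≫ (CohCx.pushToRestrPush f U).app F = t₁ := by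
  apply Sheaf.hom_ext
  apply NatTrans.ext
  funext W
  exact lW_fst f U V F hUV t₁ t₂ ht W.unop

lemma lift_snd : lift f U V F hUV t₁ t₂ ht ≫ (CohCx.pushToRestrPush f V).app F = t₂ := by
  apply Sheaf.hom_ext
  apply NatTrans.ext
  funext W
  exact lW_snd f U V F hUV t₁ t₂ ht W.unop

include hUV in
lemma hom_ext {Z : CohTop.Ab Y} (m m' : Z ⟶ (CohTop.push f).obj F)
    (h₁ : m ≫ (CohCx.pushToRestrPush f U).app F = m' ≫ (CohCx.pushToRestrPush f U).app F)
    (h₂ : m ≫ (CohCx.pushToRestrPush f V).app F = m' ≫ (CohCx.pushToRestrPush f V).app F) :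
    m = m' := by
  apply Sheaf.hom_ext
  apply NatTrans.ext
  funext W
  apply jointly_mono F (im_le f U W.unop) (im_le f V W.unop) (le_sup_im f hUV W.unop)
  · exact congrArg (fun φ => φ.hom.app W) h₁
  · exact congrArg (fun φ => φ.hom.app W) h₂

end lift

/-- the Mayer–Vietoris square is cartesian -/
theorem isPullback (hUV : U ⊔ V = ⊤) :
    IsPullback ((CohCx.pushToRestrPush f U).app F) ((CohCx.pushToRestrPush f V).app F)
      ((CohCx.restrPushToRestrPush f (inf_le_left : U ⊓ V ≤ U)).app F)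
      ((CohCx.restrPushToRestrPush f (inf_le_right : U ⊓ V ≤ V)).app F) := by
  have w := congrArg (fun γ => γ.app F) (hw f U V)
  refine IsPullback.of_isLimit (c := PullbackCone.mk _ _ w) ?_
  refine PullbackCone.IsLimit.mk w (fun s => lift f U V F hUV s.fst s.snd s.condition)
    (fun s => lift_fst f U V F hUV s.fst s.snd s.condition)
    (fun s => lift_snd f U V F hUV s.fst s.snd s.condition) ?_
  intro s m h₁ h₂
  apply hom_ext f U V F hUV
  · rw [h₁, lift_fst]
  · rw [h₂, lift_snd]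

/-- restriction to a smaller open is an epimorphism for a flasque sheaf -/
theorem epi_β [TopCat.Sheaf.IsFlasque F] {U V : Opens X} (h : V ≤ U) :
    Epi ((CohCx.restrPushToRestrPush f h).app F) := by
  apply Preadditive.epi_of_cancel_zero
  intro Z g hg
  apply Sheaf.hom_ext
  apply NatTrans.ext
  funext W
  apply AddCommGrpCat.hom_ext
  ext s
  have hepi : Epi (F.obj.map (homOfLE (im_mono f h W.unop)).op) :=
    TopCat.Presheaf.IsFlasque.epi (F := F.obj) _
  rw [AddCommGrpCat.epi_iff_surjective] at hepi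
  obtain ⟨s', rfl⟩ := hepi s
  have h2 := congrArg (fun φ => φ.hom.app W) hg
  exact ConcreteCategory.congr_hom h2 s'

end Groth.Agent.Helper3.MVPush
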