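import Mathlib
import Groth.Prelude.Def_Exal
import Groth.Agent.Lib.Lead.DefoIso
import Groth.Agent.Lib.Helper3.RigidDef

/-! Algebras all of whose square-zero extensions by themselves split are rigid: the algebraic
core (helper3).  Lifting sections along small extensions of the base by an Artinian induction. -/

set_option autoImplicit false
set_option linter.style.haveILetI false
universe u
open TensorProduct

namespace Groth.Agent.Helper3.RigidT1

section Colon

/-- flatness and colon ideals: if `x y ∈ J' B'` then `y ∈ (J' : x) B'`. -/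
theorem mem_map_of_mul_mem {A B' : Type*} [CommRing A] [CommRing B'] [Algebra A B']
    [Module.Flat A B'] (x : A) (J' m : Ideal A) (hcolon : ∀ a : A, a * x ∈ J' → a ∈ m)
    (y : B') (h : algebraMap A B' x * y ∈ J'.map (algebraMap A B')) :
    y ∈ m.map (algebraMap A B') := by
  have h' : algebraMap A B' x * y ∈ Submodule.span B' ((algebraMap A B') '' (J' : Set A)) := h
  obtain ⟨n, c, g, hcg⟩ := Submodule.mem_span_set'.mp h'
  choose a ha hag using fun i => (g i).2
  have hrel : ∑ l : Fin (n + 1), (Fin.cons x (fun i => - a i) : Fin (n + 1) → A) l •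
      (Fin.cons y c : Fin (n + 1) → B') l = 0 := by
    rw [Fin.sum_univ_succ]
    simp only [Fin.cons_zero, Fin.cons_succ]
    rw [Algebra.smul_def, ← hcg, ← Finset.sum_add_distrib]
    apply Finset.sum_eq_zero
    intro i _
    rw [neg_smul, smul_eq_mul, Algebra.smul_def, ← hag i]
    ring
  obtain ⟨κ, b, z, hz1, hz2⟩ := Module.Flat.isTrivialRelation_of_sum_smul_eq_zero (R := A)
    (M := B') (f := (Fin.cons x (fun i => - a i) : Fin (n + 1) → A))
    (x := (Fin.cons y c : Fin (n + 1) → B')) hrel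
  have hy : y = ∑ j, b 0 j • z j := by
    have := hz1 0
    simpa only [Fin.cons_zero] using this
  rw [hy]
  refine Ideal.sum_mem _ fun j _ => ?_
  rw [Algebra.smul_def]
  refine Ideal.mul_mem_right _ _ (Ideal.mem_map_of_mem _ (hcolon _ ?_))
  have h2 := hz2 j
  rw [Fin.sum_univ_succ] at h2
  simp only [Fin.cons_zero, Fin.cons_succ] at h2
  have h3 : b 0 j * x = ∑ i : Fin n, a i * b i.succ j := by
    have h4 : x * b 0 j = - ∑ i : Fin n, -a i * b i.succ j := eq_neg_of_add_eq_zero_left h2
    rw [mul_comm, h4, ← Finset.sum_neg_distrib]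
    apply Finset.sum_congr rfl
    intro i _
    ring
  rw [h3]
  exact Ideal.sum_mem _ fun i _ => Ideal.mul_mem_right _ _ (ha i : a i ∈ J')

end Colon

section Step

variable {k B' B₀ : Type u} [CommRing k] [CommRing B'] [Algebra k B'] [CommRing B₀]
  [Algebra k B₀]

/-- existence of a `k`-algebra section of `ι` modulo the ideal `I`. -/
def HasSec (ι : B' →ₐ[k] B₀) (I : Ideal B') : Prop :=
  ∃ s : B₀ →ₐ[k] (B' ⧸ I), ∀ (b : B₀) (y : B'), Ideal.Quotient.mk I y = s b → ι y = b

theorem step (ι : B' →ₐ[k] B₀) (hι : Function.Surjective ι)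
    (hT : ∀ E : Exal.Ext k B₀ B₀, E.IsTrivial)
    (I' I : Ideal B') (hI'I : I' ≤ I) (ξ : B') (hξI : ξ ∈ I)
    (hξker : ∀ y, ι y = 0 → ξ * y ∈ I') (hinj : ∀ y, ξ * y ∈ I' → ι y = 0)
    (hgen : I ≤ I' ⊔ Ideal.span {ξ}) (hP : HasSec ι I) : HasSec ι I' := by
  obtain ⟨s, hs⟩ := hP
  let π : B' ⧸ I' →ₐ[k] B' ⧸ I := Ideal.Quotient.factorₐ k hI'I
  have hπ : ∀ y : B', π (Ideal.Quotient.mk I' y) = Ideal.Quotient.mk I y := fun _ => rfl
  let g : B₀ → B' := Function.surjInv hι
  have hg : ∀ b, ι (g b) = b := Function.surjInv_eq hι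
  let t : B' → B' ⧸ I' := fun y => Ideal.Quotient.mk I' (ξ * y)
  have ht : ∀ y y', ι y = ι y' → t y = t y' := by
    intro y y' h
    show Ideal.Quotient.mk I' (ξ * y) = Ideal.Quotient.mk I' (ξ * y')
    rw [Ideal.Quotient.eq, ← mul_sub]
    exact hξker _ (by rw [map_sub, h, sub_self])
  have htadd : ∀ y y', t (y + y') = t y + t y' := by
    intro y y'
    show Ideal.Quotient.mk I' (ξ * (y + y')) =
      Ideal.Quotient.mk I' (ξ * y) + Ideal.Quotient.mk I' (ξ * y')
    rw [mul_add, map_add]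
  have hπt : ∀ y, π (t y) = 0 := by
    intro y
    show π (Ideal.Quotient.mk I' (ξ * y)) = 0
    rw [hπ, Ideal.Quotient.eq_zero_iff_mem]
    exact Ideal.mul_mem_right _ _ hξI
  let φ₁ : ((B' ⧸ I') × B₀) →ₐ[k] B' ⧸ I := π.comp (AlgHom.fst k (B' ⧸ I') B₀)
  let φ₂ : ((B' ⧸ I') × B₀) →ₐ[k] B' ⧸ I := s.comp (AlgHom.snd k (B' ⧸ I') B₀)
  let E : Subalgebra k ((B' ⧸ I') × B₀) := AlgHom.equalizer φ₁ φ₂
  have hE : ∀ p : (B' ⧸ I') × B₀, p ∈ E ↔ π p.1 = s p.2 := fun p => Iff.rfl
  let proj : E →ₐ[k] B₀ := (AlgHom.snd k (B' ⧸ I') B₀).comp E.val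
  have hmem0 : ∀ b : B₀, ((t (g b), (0 : B₀)) : (B' ⧸ I') × B₀) ∈ E := by
    intro b
    rw [hE]
    show π (t (g b)) = s 0
    rw [hπt, map_zero]
  let inclFun : B₀ → E := fun b => ⟨(t (g b), 0), hmem0 b⟩
  have hincl_eq : ∀ (b : B₀) (y : B'), ι y = b →
      (inclFun b : (B' ⧸ I') × B₀) = (t y, 0) := by
    intro b y hy
    show (t (g b), (0 : B₀)) = (t y, 0)
    rw [ht (g b) y (by rw [hg, hy])]
  have hincl_add : ∀ a b : B₀, inclFun (a + b) = inclFun a + inclFun b := by
    intro a b
    apply Subtype.ext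
    show (t (g (a + b)), (0 : B₀)) = (t (g a), (0 : B₀)) + (t (g b), (0 : B₀))
    rw [Prod.mk_add_mk, add_zero, ← htadd]
    rw [ht (g (a + b)) (g a + g b) (by rw [hg, map_add, hg, hg])]
  let incl : B₀ →+ E := AddMonoidHom.mk' inclFun hincl_add
  have hext : Exal.IsExtension proj incl := by
    refine ⟨?_, ?_, ?_, ?_⟩
    · intro b
      obtain ⟨y, hy⟩ := Ideal.Quotient.mk_surjective (s b)
      have hm : ((Ideal.Quotient.mk I' y, b) : (B' ⧸ I') × B₀) ∈ E := by
        rw [hE]
        show π (Ideal.Quotient.mk I' y) = s b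
        rw [hπ, hy]
      exact ⟨⟨_, hm⟩, rfl⟩
    · rw [injective_iff_map_eq_zero]
      intro b hb
      have h1 : t (g b) = 0 := congrArg (fun p : E => (p : (B' ⧸ I') × B₀).1) hb
      have h2 : ξ * g b ∈ I' := Ideal.Quotient.eq_zero_iff_mem.mp h1
      rw [← hg b]
      exact hinj _ h2
    · intro p
      constructor
      · intro hp
        obtain ⟨⟨u, b⟩, hub⟩ := p
        have hb : b = 0 := hp
        subst hb
        have hu : π u = 0 := ((hE _).mp hub).trans (map_zero s)
        obtain ⟨y, rfl⟩ := Ideal.Quotient.mk_surjective u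
        rw [hπ, Ideal.Quotient.eq_zero_iff_mem] at hu
        have hy := hgen hu
        rw [sup_comm, Ideal.mem_span_singleton_sup] at hy
        obtain ⟨a, y', hy', rfl⟩ := hy
        refine ⟨ι a, ?_⟩
        apply Subtype.ext
        have h1 := hincl_eq (ι a) a rfl
        show (inclFun (ι a) : (B' ⧸ I') × B₀) = (Ideal.Quotient.mk I' (a * ξ + y'), 0)
        rw [h1]
        show (Ideal.Quotient.mk I' (ξ * a), (0 : B₀)) = (Ideal.Quotient.mk I' (a * ξ + y'), 0)
        congr 1
        rw [Ideal.Quotient.eq]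
        have h2 : ξ * a - (a * ξ + y') = -y' := by ring
        rw [h2]
        exact neg_mem hy'
      · rintro ⟨z, rfl⟩
        rfl
    · intro p z
      obtain ⟨⟨u, b⟩, hub⟩ := p
      obtain ⟨y, rfl⟩ := Ideal.Quotient.mk_surjective u
      have hyb : ι y = b := hs b y ((hE _).mp hub)
      apply Subtype.ext
      have h2 : (inclFun (b * z) : (B' ⧸ I') × B₀) = (t (y * g z), 0) :=
        hincl_eq (b * z) (y * g z) (by rw [map_mul, hyb, hg])
      show ((Ideal.Quotient.mk I' y, b) : (B' ⧸ I') × B₀) * (t (g z), 0) =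
        (inclFun (b * z) : (B' ⧸ I') × B₀)
      rw [h2, Prod.mk_mul_mk, mul_zero]
      congr 1
      show Ideal.Quotient.mk I' y * Ideal.Quotient.mk I' (ξ * g z) =
        Ideal.Quotient.mk I' (ξ * (y * g z))
      rw [← map_mul]
      congr 1
      ring
  obtain ⟨σ, hσ⟩ := hT (Exal.Ext.mk (A := k) (B := B₀) (L := B₀) (↥E) proj incl hext)
  let σ' : B₀ →ₐ[k] E := σ
  have hσ' : ∀ b, ((σ' b : E) : (B' ⧸ I') × B₀).2 = b := hσ
  refine ⟨(AlgHom.fst k (B' ⧸ I') B₀).comp (E.val.comp σ'), ?_⟩
  intro b y hy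
  have hmem := (hE _).mp (σ' b).2
  have h1 : ((σ' b : E) : (B' ⧸ I') × B₀).1 = Ideal.Quotient.mk I' y := hy.symm
  rw [h1, hπ, hσ' b] at hmem
  exact hs b y hmem

end Step

section Artin

theorem exists_section_aux {k A B' B₀ : Type u} [CommRing k] [CommRing A] [IsLocalRing A]
    [IsArtinianRing A] [Algebra k A] [CommRing B'] [Algebra A B'] [Algebra k B']
    [IsScalarTower k A B'] [Module.Flat A B'] [CommRing B₀] [Algebra k B₀]
    (ι : B' →ₐ[k] B₀) (hι : Function.Surjective ι)
    (hker : RingHom.ker (ι : B' →+* B₀) =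
      (IsLocalRing.maximalIdeal A).map (algebraMap A B'))
    (hT : ∀ E : Exal.Ext k B₀ B₀, E.IsTrivial) :
    ∃ s : B₀ →ₐ[k] B', ∀ b, ι (s b) = b := by
  classical
  obtain ⟨m, hm⟩ : ∃ m : Ideal A, m = IsLocalRing.maximalIdeal A := ⟨_, rfl⟩
  rw [← hm] at hker
  have h0 : HasSec ι (m.map (algebraMap A B')) := by
    let g : B₀ → B' := Function.surjInv hι
    have hg : ∀ b, ι (g b) = b := Function.surjInv_eq hι
    have hmk : ∀ y y' : B', ι y = ι y' →
        Ideal.Quotient.mk (m.map (algebraMap A B')) y =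
          Ideal.Quotient.mk (m.map (algebraMap A B')) y' := by
      intro y y' h
      rw [Ideal.Quotient.eq, ← hker, RingHom.mem_ker]
      show ι (y - y') = 0
      rw [map_sub, h, sub_self]
    refine ⟨{ toFun := fun b => Ideal.Quotient.mk (m.map (algebraMap A B')) (g b)
              map_one' := ?_, map_mul' := ?_, map_zero' := ?_, map_add' := ?_,
              commutes' := ?_ }, ?_⟩
    · show Ideal.Quotient.mk (m.map (algebraMap A B')) (g 1) = 1
      rw [← map_one (Ideal.Quotient.mk (m.map (algebraMap A B')))]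
      exact hmk _ _ (by rw [hg, map_one])
    · intro a b
      show Ideal.Quotient.mk (m.map (algebraMap A B')) (g (a * b)) =
        Ideal.Quotient.mk (m.map (algebraMap A B')) (g a) *
          Ideal.Quotient.mk (m.map (algebraMap A B')) (g b)
      rw [← map_mul]
      exact hmk _ _ (by rw [hg, map_mul, hg, hg])
    · show Ideal.Quotient.mk (m.map (algebraMap A B')) (g 0) = 0
      rw [← map_zero (Ideal.Quotient.mk (m.map (algebraMap A B')))]
      exact hmk _ _ (by rw [hg, map_zero])
    · intro a b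
      show Ideal.Quotient.mk (m.map (algebraMap A B')) (g (a + b)) =
        Ideal.Quotient.mk (m.map (algebraMap A B')) (g a) +
          Ideal.Quotient.mk (m.map (algebraMap A B')) (g b)
      rw [← map_add]
      exact hmk _ _ (by rw [hg, map_add, hg, hg])
    · intro c
      show Ideal.Quotient.mk (m.map (algebraMap A B')) (g (algebraMap k B₀ c)) =
        Ideal.Quotient.mk (m.map (algebraMap A B')) (algebraMap k B' c)
      exact hmk _ _ (by rw [hg, AlgHom.commutes])
    · intro b y hy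
      have h1 : y - g b ∈ m.map (algebraMap A B') := Ideal.Quotient.eq.mp hy
      rw [← hker, RingHom.mem_ker] at h1
      have h2 : ι (y - g b) = 0 := h1
      rw [map_sub, sub_eq_zero] at h2
      rw [h2, hg]
  let S0 : Set (Ideal A) := {J | J ≤ m ∧ HasSec ι (Ideal.map (algebraMap A B') J)}
  have hS0 : S0.Nonempty := ⟨m, le_rfl, h0⟩
  obtain ⟨J, ⟨hJm, hJP⟩, hJmin⟩ := IsArtinian.set_has_minimal S0 hS0
  have hJbot : J = ⊥ := by
    by_contra hne
    let T0 : Set (Ideal A) := {J' | J' < J}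
    have hT0 : T0.Nonempty := ⟨⊥, bot_lt_iff_ne_bot.mpr hne⟩
    obtain ⟨J', hJ'J, hJ'max⟩ :=
      set_has_maximal_iff_noetherian.mpr (inferInstance : IsNoetherian A A) T0 hT0
    have hJ'J' : J' < J := hJ'J
    obtain ⟨x, hxJ, hxJ'⟩ := SetLike.exists_of_lt hJ'J'
    have hsup : J ≤ J' ⊔ Ideal.span {x} := by
      have hle : J' ⊔ Ideal.span {x} ≤ J :=
        sup_le hJ'J'.le ((Ideal.span_singleton_le_iff_mem _).mpr hxJ)
      rcases hle.lt_or_eq with hlt | heq
      · exfalso
        apply hJ'max _ (show J' ⊔ Ideal.span {x} ∈ T0 from hlt)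
        refine lt_of_le_of_ne le_sup_left ?_
        intro h
        apply hxJ'
        rw [h]
        exact Ideal.mem_sup_right (Ideal.mem_span_singleton_self x)
      · exact heq.ge
    have hmJ : m * J ≤ J' := by
      have hle : J' ⊔ m * J ≤ J := sup_le hJ'J'.le Ideal.mul_le_right
      rcases hle.lt_or_eq with hlt | heq
      · by_contra hnot
        apply hJ'max _ (show J' ⊔ m * J ∈ T0 from hlt)
        refine lt_of_le_of_ne le_sup_left ?_
        intro h
        apply hnot
        rw [h]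
        exact le_sup_right
      · exfalso
        have hjac : m ≤ Ideal.jacobson ⊥ := by
          rw [IsLocalRing.jacobson_eq_maximalIdeal ⊥ bot_ne_top, hm]
        have hfg : (J : Submodule A A).FG := IsNoetherian.noetherian J
        have hle' : J ≤ J' := Submodule.le_of_le_smul_of_le_jacobson_bot (N := J') (N' := J)
          hfg hjac (by rw [smul_eq_mul]; exact heq.ge)
        exact absurd hJ'J' (not_lt_of_ge hle')
    have hcolon : ∀ a : A, a * x ∈ J' → a ∈ m := by
      intro a ha
      by_contra hna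
      have hu : IsUnit a := by
        rw [hm] at hna
        exact IsLocalRing.notMem_maximalIdeal.mp hna
      obtain ⟨u, rfl⟩ := hu
      apply hxJ'
      have hx : x = (↑u⁻¹ : A) * (↑u * x) := by
        rw [← mul_assoc, Units.inv_mul, one_mul]
      rw [hx]
      exact Ideal.mul_mem_left _ _ ha
    have hP' : HasSec ι (Ideal.map (algebraMap A B') J') := by
      refine step ι hι hT (Ideal.map (algebraMap A B') J') (Ideal.map (algebraMap A B') J)
        (Ideal.map_mono hJ'J'.le) (algebraMap A B' x) (Ideal.mem_map_of_mem _ hxJ) ?_ ?_ ?_ hJP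
      · intro y hy
        have hy' : y ∈ m.map (algebraMap A B') := by
          rw [← hker]
          exact hy
        have h1 : algebraMap A B' x * y ∈ Ideal.map (algebraMap A B') (J * m) := by
          rw [Ideal.map_mul]
          exact Ideal.mul_mem_mul (Ideal.mem_map_of_mem _ hxJ) hy'
        exact Ideal.map_mono (by rw [mul_comm]; exact hmJ) h1
      · intro y hy
        have h1 := mem_map_of_mul_mem x J' m hcolon y hy
        rw [← hker] at h1
        exact h1
      · rw [← Set.image_singleton, ← Ideal.map_span, ← Ideal.map_sup]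
        exact Ideal.map_mono hsup
    exact hJmin J' ⟨hJ'J'.le.trans hJm, hP'⟩ hJ'J'
  rw [hJbot, Ideal.map_bot] at hJP
  obtain ⟨s, hs⟩ := hJP
  have hbij : Function.Bijective (Ideal.Quotient.mkₐ k (⊥ : Ideal B')) := by
    refine ⟨?_, Ideal.Quotient.mkₐ_surjective k _⟩
    rw [injective_iff_map_eq_zero]
    intro y hy
    have h1 : y ∈ (⊥ : Ideal B') := Ideal.Quotient.eq_zero_iff_mem.mp hy
    exact h1
  let ε : B' ≃ₐ[k] B' ⧸ (⊥ : Ideal B') :=
    AlgEquiv.ofBijective (Ideal.Quotient.mkₐ k (⊥ : Ideal B')) hbij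
  refine ⟨(ε.symm : (B' ⧸ (⊥ : Ideal B')) →ₐ[k] B').comp s, fun b => hs b _ ?_⟩
  show ε (ε.symm (s b)) = s b
  exact ε.apply_symm_apply _

variable (k : Type u) [Field k] (A : Type u) [CommRing A] [IsLocalRing A] [IsArtinianRing A]
  [Algebra k A] (e : A →ₐ[k] k)

theorem exists_section (B B' : Type u) [CommRing B] [CommRing B'] [Algebra k B]
    [Algebra A B'] [Module.Flat A B'] (hT : ∀ E : Exal.Ext k B B, E.IsTrivial) (ι : B' →+* B)
    (hι : Function.Surjective ι)
    (hker : RingHom.ker ι = Ideal.map (algebraMap A B') (RingHom.ker e))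
    (hcomp : ∀ a, ι (algebraMap A B' a) = algebraMap k B (e a)) :
    ∃ s : B →+* B', (∀ b, ι (s b) = b) ∧
      ∀ c : k, s (algebraMap k B c) = algebraMap A B' (algebraMap k A c) := by
  letI : Algebra k B' := ((algebraMap A B').comp (algebraMap k A)).toAlgebra
  haveI : IsScalarTower k A B' := IsScalarTower.of_algebraMap_eq (fun _ => rfl)
  let ιk : B' →ₐ[k] B :=
    { ι with
      commutes' := fun c => by
        show ι (algebraMap A B' (algebraMap k A c)) = algebraMap k B c
        rw [hcomp, e.commutes]; rfl }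
  have hIm : (RingHom.ker e).IsMaximal :=
    RingHom.ker_isMaximal_of_surjective e (fun c => ⟨algebraMap k A c, by simp⟩)
  have hkerk : RingHom.ker (ιk : B' →+* B) =
      Ideal.map (algebraMap A B') (IsLocalRing.maximalIdeal A) := by
    rw [← IsLocalRing.eq_maximalIdeal hIm, ← hker]; rfl
  obtain ⟨s, hs⟩ := exists_section_aux ιk hι hkerk hT
  exact ⟨(s : B →+* B'), hs, fun c => s.commutes c⟩

theorem core' (B B' : Type u) [CommRing B] [CommRing B'] [Algebra k B]
    [Algebra A B'] [Module.Flat A B'] (ι : B' →+* B)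
    (hker : RingHom.ker ι = Ideal.map (algebraMap A B') (RingHom.ker e))
    (hcomp : ∀ a, ι (algebraMap A B' a) = algebraMap k B (e a))
    (s0 : B →+* B') (hs : ∀ b, ι (s0 b) = b)
    (hsk : ∀ c : k, s0 (algebraMap k B c) = algebraMap A B' (algebraMap k A c)) :
    ∃ (Ψ : A ⊗[k] B ≃+* B'), (∀ a : A, Ψ (a ⊗ₜ 1) = algebraMap A B' a) ∧
      (∀ b : B, Ψ (1 ⊗ₜ b) = s0 b) := by
  letI : Algebra k B' := ((algebraMap A B').comp (algebraMap k A)).toAlgebra
  haveI : IsScalarTower k A B' := IsScalarTower.of_algebraMap_eq (fun _ => rfl)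
  have hInil := RigidDef.ker_isNilpotent k A e
  let s : B →ₐ[k] B' := { s0 with commutes' := hsk }
  have hss : ∀ b, s b = s0 b := fun _ => rfl
  let Ψ : A ⊗[k] B →ₐ[A] B' :=
    Algebra.TensorProduct.lift (Algebra.ofId A B') s (fun _ _ => Commute.all _ _)
  have hΨ : ∀ a b, Ψ (a ⊗ₜ b) = algebraMap A B' a * s b := fun a b => by
    simp [Ψ, Algebra.ofId_apply]
  have hbij : Function.Bijective Ψ.toLinearMap := by
    apply Groth.Agent.Lead.DefoIso.bijective_of_flat_of_nilpotent (RingHom.ker e) hInil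
    · intro y
      refine ⟨1 ⊗ₜ ι y, ?_⟩
      rw [Ideal.smul_top_eq_map]
      show y - Ψ (1 ⊗ₜ ι y) ∈ Ideal.map (algebraMap A B') (RingHom.ker e)
      rw [← hker, RingHom.mem_ker, map_sub, hΨ, map_one, one_mul, hss, hs, sub_self]
    · intro x hx
      have hx' : Ψ x = 0 := hx
      have key : ∀ x : A ⊗[k] B,
          x - 1 ⊗ₜ ι (Ψ x) ∈ (RingHom.ker e) • (⊤ : Submodule A (A ⊗[k] B)) := by
        intro x
        induction x using TensorProduct.induction_on with
        | zero => simp
        | tmul a b =>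
          have h1 : ι (Ψ (a ⊗ₜ b)) = e a • b := by
            rw [hΨ, map_mul, hcomp, hss, hs, Algebra.smul_def]
          have h2 : (a ⊗ₜ[k] b) - 1 ⊗ₜ[k] (e a • b) =
              (a - algebraMap k A (e a)) • ((1 : A) ⊗ₜ[k] b) := by
            rw [TensorProduct.smul_tmul', smul_eq_mul, mul_one, TensorProduct.sub_tmul,
              TensorProduct.tmul_smul, TensorProduct.smul_tmul', ← Algebra.algebraMap_eq_smul_one]
          rw [h1, h2]
          refine Submodule.smul_mem_smul ?_ Submodule.mem_top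
          rw [RingHom.mem_ker, map_sub, e.commutes]
          simp
        | add x y hx hy =>
          have : x + y - 1 ⊗ₜ ι (Ψ (x + y)) = (x - 1 ⊗ₜ ι (Ψ x)) + (y - 1 ⊗ₜ ι (Ψ y)) := by
            rw [map_add, map_add, TensorProduct.tmul_add]; abel
          rw [this]
          exact Submodule.add_mem _ hx hy
      have := key x
      rwa [hx', map_zero, TensorProduct.tmul_zero, sub_zero] at this
  refine ⟨RingEquiv.ofBijective (Ψ : A ⊗[k] B →+* B') hbij, ?_, ?_⟩
  · intro a
    show Ψ (a ⊗ₜ 1) = _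
    rw [hΨ, map_one, mul_one]
  · intro b
    show Ψ (1 ⊗ₜ b) = _
    rw [hΨ, map_one, one_mul]; rfl

end Artin

end Groth.Agent.Helper3.RigidT1
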