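import Mathlib
import Groth.Prelude.Def_ArtFun
import Groth.Agent.Lib.Helper3.RigidT1a

/-! First-order deformations of a formally smooth algebra with finitely many marked rational
points are trivial compatibly with the sections: the algebraic core (helper3). -/

set_option autoImplicit false
set_option linter.style.haveILetI false
universe u v
open TensorProduct

namespace Groth.Agent.Helper3.Mark

section Dual

variable (k : Type u) [Field k]

theorem dn_snd_mul (x y : DualNumber k) :
    (x * y).snd = x.fst * y.snd + y.fst * x.snd := by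
  rw [TrivSqZeroExt.snd_mul]
  simp [mul_comm]

theorem ker_fst_le (a : DualNumber k) (ha : a.fst = 0) :
    ∃ a' : DualNumber k, a = DualNumber.eps * a' := by
  refine ⟨TrivSqZeroExt.inl a.snd, ?_⟩
  ext
  · simp [ha]
  · simp

theorem snd_eps_mul (w : DualNumber k) : ((DualNumber.eps : DualNumber k) * w).snd = w.fst := by
  rw [dn_snd_mul]
  simp

end Dual

section Sub

variable {k : Type u} [Field k] {B' : Type u} [CommRing B'] [Algebra k B'] {J : Type v}

/-- the subalgebra of elements whose images under all the sections are constants -/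
def markSub (π' : J → (B' →+* DualNumber k))
    (hπ' : ∀ j c, (π' j (algebraMap k B' c)).snd = 0) : Subalgebra k B' where
  carrier := {b' | ∀ j, (π' j b').snd = 0}
  mul_mem' := fun {x y} hx hy j => by
    have hx' : (π' j x).snd = 0 := hx j
    have hy' : (π' j y).snd = 0 := hy j
    show (π' j (x * y)).snd = 0
    rw [map_mul, dn_snd_mul, hx', hy', mul_zero, mul_zero, add_zero]
  one_mem' := fun j => by
    show (π' j 1).snd = 0
    rw [map_one]; rfl
  add_mem' := fun {x y} hx hy j => by
    have hx' : (π' j x).snd = 0 := hx j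
    have hy' : (π' j y).snd = 0 := hy j
    show (π' j (x + y)).snd = 0
    rw [map_add, TrivSqZeroExt.snd_add, hx', hy', add_zero]
  zero_mem' := fun j => by
    show (π' j 0).snd = 0
    rw [map_zero]; rfl
  algebraMap_mem' := fun c j => hπ' j c

theorem mem_markSub (π' : J → (B' →+* DualNumber k))
    (hπ' : ∀ j c, (π' j (algebraMap k B' c)).snd = 0) (x : B') :
    x ∈ markSub π' hπ' ↔ ∀ j, (π' j x).snd = 0 := Iff.rfl

end Sub

section Main

theorem main_alg (k : Type u) [Field k] (B B' : Type u) [CommRing B] [CommRing B'] [Algebra k B]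
    [Algebra.FormallySmooth k B] [Algebra (DualNumber k) B'] [Module.Flat (DualNumber k) B']
    (ι : B' →+* B) (hι : Function.Surjective ι)
    (hker : RingHom.ker ι = Ideal.map (algebraMap (DualNumber k) B')
      (RingHom.ker (TrivSqZeroExt.fstHom k k k)))
    (hcomp : ∀ a, ι (algebraMap (DualNumber k) B' a) =
      algebraMap k B (TrivSqZeroExt.fstHom k k k a))
    {J : Type v} [Finite J] (π : J → (B →+* k)) (hπ : ∀ j c, π j (algebraMap k B c) = c)
    (hπinj : Function.Injective π)
    (π' : J → (B' →+* DualNumber k)) (hπ' : ∀ j a, π' j (algebraMap (DualNumber k) B' a) = a)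
    (hππ' : ∀ j b', (π' j b').fst = π j (ι b')) :
    ∃ (s : B →+* B') (Ψ : DualNumber k ⊗[k] B ≃+* B'),
      (∀ a, Ψ (a ⊗ₜ 1) = algebraMap (DualNumber k) B' a) ∧
      (∀ b, Ψ (1 ⊗ₜ b) = s b) ∧
      (∀ c : k, s (algebraMap k B c) =
        algebraMap (DualNumber k) B' (algebraMap k (DualNumber k) c)) ∧
      (∀ b, ι (s b) = b) ∧
      (∀ j b, π' j (s b) = algebraMap k (DualNumber k) (π j b)) := by
  classical
  haveI : IsArtinianRing (DualNumber k) := ArtFun.Art.isArtinianRing_tsze k k
  letI : Algebra k B' :=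
    ((algebraMap (DualNumber k) B').comp (algebraMap k (DualNumber k))).toAlgebra
  obtain ⟨ε', hε'⟩ : ∃ ε' : B', ε' = algebraMap (DualNumber k) B' DualNumber.eps := ⟨_, rfl⟩
  have hεε : ε' * ε' = 0 := by
    rw [hε', ← map_mul, DualNumber.eps_mul_eps, map_zero]
  have hιε : ι ε' = 0 := by
    rw [hε', hcomp]
    simp
  have hkerε : ∀ y, ι y = 0 → ∃ z, y = ε' * z := by
    intro y hy
    have hy' : y ∈ Ideal.map (algebraMap (DualNumber k) B')
        (RingHom.ker (TrivSqZeroExt.fstHom k k k)) := by
      rw [← hker]; exact hy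
    have hle : Ideal.map (algebraMap (DualNumber k) B')
        (RingHom.ker (TrivSqZeroExt.fstHom k k k)) ≤ Ideal.span {ε'} := by
      rw [Ideal.map_le_iff_le_comap]
      intro a ha
      rw [Ideal.mem_comap]
      have ha' : a.fst = 0 := by
        have := RingHom.mem_ker.mp ha
        simpa using this
      obtain ⟨a', rfl⟩ := ker_fst_le k a ha'
      rw [map_mul, ← hε']
      exact Ideal.mul_mem_right _ _ (Ideal.mem_span_singleton_self _)
    obtain ⟨z, hz⟩ := Ideal.mem_span_singleton'.mp (hle hy')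
    exact ⟨z, by rw [← hz, mul_comm]⟩
  have hsndε : ∀ j z, (π' j (ε' * z)).snd = π j (ι z) := by
    intro j z
    rw [map_mul, hε', hπ', snd_eps_mul, hππ']
  have hπ'k : ∀ j c, (π' j (algebraMap k B' c)).snd = 0 := by
    intro j c
    show (π' j (algebraMap (DualNumber k) B' (algebraMap k (DualNumber k) c))).snd = 0
    rw [hπ']
    simp [TrivSqZeroExt.algebraMap_eq_inl']
  let S : Subalgebra k B' := markSub π' hπ'k
  let ιk : B' →ₐ[k] B :=
    { ι with
      commutes' := fun c => by
        show ι (algebraMap (DualNumber k) B' (algebraMap k (DualNumber k) c)) = algebraMap k B c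
        rw [hcomp, (TrivSqZeroExt.fstHom k k k).commutes]; rfl }
  have hιk : ∀ x, ιk x = ι x := fun _ => rfl
  have hmax : ∀ j, (RingHom.ker (π j)).IsMaximal := fun j =>
    RingHom.ker_isMaximal_of_surjective (π j) (fun c => ⟨algebraMap k B c, hπ j c⟩)
  have hcop : Pairwise (Function.onFun IsCoprime (fun j => RingHom.ker (π j))) := by
    intro j1 j2 hne
    haveI := hmax j1
    haveI := hmax j2
    show IsCoprime (RingHom.ker (π j1)) (RingHom.ker (π j2))
    apply Ideal.isCoprime_of_isMaximal
    intro heq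
    apply hne
    apply hπinj
    refine RingHom.ext fun x => ?_
    have h1 : x - algebraMap k B (π j1 x) ∈ RingHom.ker (π j1) := by
      rw [RingHom.mem_ker, map_sub, hπ, sub_self]
    rw [heq, RingHom.mem_ker, map_sub, hπ, sub_eq_zero] at h1
    exact h1.symm
  have hsurjS : Function.Surjective (ιk.comp S.val) := by
    intro b
    obtain ⟨b', hb'⟩ := hι b
    obtain ⟨r, hr⟩ := Ideal.exists_forall_sub_mem_ideal (I := fun j => RingHom.ker (π j)) hcop
      (fun j => algebraMap k B ((π' j b').snd))
    have hr' : ∀ j, π j r = (π' j b').snd := by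
      intro j
      have h1 : r - algebraMap k B ((π' j b').snd) ∈ RingHom.ker (π j) := hr j
      rw [RingHom.mem_ker, map_sub, hπ, sub_eq_zero] at h1
      exact h1
    obtain ⟨z, hz⟩ := hι r
    have hmem : b' - ε' * z ∈ S := by
      rw [mem_markSub]
      intro j
      rw [map_sub, TrivSqZeroExt.snd_sub, hsndε, hz, hr', sub_self]
    refine ⟨⟨b' - ε' * z, hmem⟩, ?_⟩
    show ι (b' - ε' * z) = b
    rw [map_sub, map_mul, hιε, zero_mul, sub_zero, hb']
  have hnilS : IsNilpotent (RingHom.ker ((ιk.comp S.val : S →ₐ[k] B) : S →+* B)) := by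
    refine ⟨2, ?_⟩
    rw [Ideal.zero_eq_bot, eq_bot_iff, pow_two, Ideal.mul_le]
    intro x hx y hy
    rw [Ideal.mem_bot]
    have hx' : ι x.1 = 0 := RingHom.mem_ker.mp hx
    have hy' : ι y.1 = 0 := RingHom.mem_ker.mp hy
    obtain ⟨zx, hzx⟩ := hkerε x.1 hx'
    obtain ⟨zy, hzy⟩ := hkerε y.1 hy'
    apply Subtype.ext
    show x.1 * y.1 = 0
    rw [hzx, hzy]
    calc ε' * zx * (ε' * zy) = (ε' * ε') * (zx * zy) := by ring
      _ = 0 := by rw [hεε, zero_mul]
  let sS : B →ₐ[k] S :=
    Algebra.FormallySmooth.liftOfSurjective (AlgHom.id k B) (ιk.comp S.val) hsurjS hnilS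
  have hsS : ∀ b, ι ((sS b : S) : B') = b := fun b =>
    Algebra.FormallySmooth.liftOfSurjective_apply (AlgHom.id k B) (ιk.comp S.val) hsurjS hnilS b
  let sA : B →ₐ[k] B' := S.val.comp sS
  let s : B →+* B' := (sA : B →+* B')
  have hs : ∀ b, ι (s b) = b := hsS
  have hsk : ∀ c : k, s (algebraMap k B c) =
      algebraMap (DualNumber k) B' (algebraMap k (DualNumber k) c) := fun c => sA.commutes c
  have hsnd : ∀ j b, (π' j (s b)).snd = 0 := fun j b =>
    (mem_markSub π' hπ'k _).mp (sS b).2 j
  have hπs : ∀ j b, π' j (s b) = algebraMap k (DualNumber k) (π j b) := by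
    intro j b
    apply TrivSqZeroExt.ext
    · rw [hππ', hs]
      simp [TrivSqZeroExt.algebraMap_eq_inl']
    · rw [hsnd]
      simp [TrivSqZeroExt.algebraMap_eq_inl']
  obtain ⟨Ψ, hΨ1, hΨ2⟩ := RigidT1.core' k (DualNumber k) (TrivSqZeroExt.fstHom k k k) B B' ι
    hker hcomp s hs hsk
  exact ⟨s, Ψ, hΨ1, hΨ2, hsk, hs, hπs⟩

end Main

end Groth.Agent.Helper3.Mark
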