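import Mathlib
import Groth.Agent.Lib.Helper3.MarkA

/-! First-order deformations of a smooth affine scheme with finitely many marked rational
points are trivial compatibly with the sections: scheme level (helper3). -/

set_option autoImplicit false
set_option linter.style.haveILetI false
universe u v
open CategoryTheory CategoryTheory.Limits AlgebraicGeometry TensorProduct

namespace Groth.Agent.Helper3.Mark

theorem fact2 {X : Scheme.{u}} [IsAffine X] (R : CommRingCat.{u}) (f : Spec R ⟶ X) :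
    f = Spec.map (f.appTop ≫ (Scheme.ΓSpecIso R).hom) ≫ X.isoSpec.inv := by
  rw [Iso.eq_comp_inv, ← Scheme.isoSpec_hom_naturality, Scheme.isoSpec_Spec_hom, ← Spec.map_comp]

theorem specLevel (k : Type u) [Field k] (B B' : CommRingCat.{u})
    (kB : CommRingCat.of k ⟶ B) (AB' : CommRingCat.of (DualNumber k) ⟶ B') (ι : B' ⟶ B)
    (hpb : IsPullback (Spec.map ι) (Spec.map kB) (Spec.map AB')
      (Spec.map (CommRingCat.ofHom (TrivSqZeroExt.fstHom k k k).toRingHom)))
    (hsm : kB.hom.Smooth) (hfl : AB'.hom.Flat)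
    (hι : Function.Surjective ι.hom)
    {J : Type v} [Finite J] (π : J → (B ⟶ CommRingCat.of k)) (hπ : ∀ j, kB ≫ π j = 𝟙 _)
    (hπinj : Function.Injective π)
    (π' : J → (B' ⟶ CommRingCat.of (DualNumber k))) (hπ' : ∀ j, AB' ≫ π' j = 𝟙 _)
    (hππ' : ∀ j, ι ≫ π j =
      π' j ≫ CommRingCat.ofHom (TrivSqZeroExt.fstHom k k k).toRingHom) :
    ∃ s : B ⟶ B', IsPullback (Spec.map s) (Spec.map AB') (Spec.map kB)
        (Spec.map (CommRingCat.ofHom (algebraMap k (DualNumber k)))) ∧ s ≫ ι = 𝟙 B ∧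
      ∀ j, s ≫ π' j = π j ≫ CommRingCat.ofHom (algebraMap k (DualNumber k)) := by
  letI : Algebra k B := kB.hom.toAlgebra
  letI : Algebra (DualNumber k) B' := AB'.hom.toAlgebra
  haveI : Module.Flat (DualNumber k) B' := hfl
  haveI : Algebra.FormallySmooth k B := hsm.formallySmooth
  obtain ⟨e, he⟩ : ∃ e : DualNumber k →ₐ[k] k, e = TrivSqZeroExt.fstHom k k k := ⟨_, rfl⟩
  rw [← he] at hpb hππ'
  have hw : AB' ≫ ι = CommRingCat.ofHom e.toRingHom ≫ kB := by
    apply Spec.map_injective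
    rw [Spec.map_comp, Spec.map_comp]
    exact hpb.w
  have hcomp : ∀ a : DualNumber k, ι.hom (algebraMap (DualNumber k) B' a) =
      algebraMap k B (e a) := by
    intro a
    have := congrArg (fun m => m.hom a) hw
    exact this
  obtain ⟨I, hI⟩ : ∃ I : Ideal B', I = Ideal.map (algebraMap (DualNumber k) B') (RingHom.ker e) :=
    ⟨_, rfl⟩
  have hker : RingHom.ker ι.hom = Ideal.map (algebraMap (DualNumber k) B') (RingHom.ker e) := by
    rw [← hI]
    apply le_antisymm
    · refine RigidDef.ker_le_of_isPullback AB' (CommRingCat.ofHom e.toRingHom) kB ι hpb I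
        (CommRingCat.ofHom
          ((Ideal.Quotient.mk I).comp ((algebraMap (DualNumber k) B').comp
            (algebraMap k (DualNumber k))))) ?_
      refine CommRingCat.hom_ext (RingHom.ext fun a => ?_)
      show Ideal.Quotient.mk I (algebraMap (DualNumber k) B' a) =
        Ideal.Quotient.mk I (algebraMap (DualNumber k) B' (algebraMap k (DualNumber k) (e a)))
      rw [Ideal.Quotient.eq, ← map_sub, hI]
      apply Ideal.mem_map_of_mem
      rw [RingHom.mem_ker, map_sub, e.commutes]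
      simp
    · rw [hI, Ideal.map_le_iff_le_comap]
      intro a ha
      rw [Ideal.mem_comap, RingHom.mem_ker, hcomp, RingHom.mem_ker.mp ha, map_zero]
  have h1 : ∀ j c, (π j).hom (algebraMap k B c) = c := by
    intro j c
    have := congrArg (fun m => m.hom c) (hπ j)
    exact this
  have h2 : Function.Injective (fun j => (π j).hom) := by
    intro j1 j2 h
    apply hπinj
    exact CommRingCat.hom_ext h
  have h3 : ∀ j a, (π' j).hom (algebraMap (DualNumber k) B' a) = a := by
    intro j a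
    have := congrArg (fun m => m.hom a) (hπ' j)
    exact this
  have h4 : ∀ j b', ((π' j).hom b').fst = (π j).hom (ι.hom b') := by
    intro j b'
    have := congrArg (fun m => m.hom b') (hππ' j)
    rw [he] at this
    exact this.symm
  rw [he] at hker hcomp
  obtain ⟨s, Ψ, g1, g2, g3, g4, g5⟩ := main_alg k B B' ι.hom hι hker hcomp
    (fun j => (π j).hom) h1 h2 (fun j => (π' j).hom) h3 h4
  have hpo := RigidDef.isPushout_of_equiv k (DualNumber k) B B'
    (algebraMap (DualNumber k) B') s Ψ g1 g2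
  refine ⟨CommRingCat.ofHom s, ?_, ?_, ?_⟩
  · exact isPullback_SpecMap_of_isPushout kB (CommRingCat.ofHom (algebraMap k (DualNumber k)))
      (CommRingCat.ofHom s) AB' hpo
  · refine CommRingCat.hom_ext (RingHom.ext fun b => ?_)
    exact g4 b
  · intro j
    refine CommRingCat.hom_ext (RingHom.ext fun b => ?_)
    exact g5 j b

theorem main (k : Type u) [Field k] (X : Scheme.{u}) (hX : X ⟶ Spec (CommRingCat.of k))
    [IsAffine X] [Smooth hX]
    {ι : Type v} [Finite ι] (p : ι → (Spec (CommRingCat.of k) ⟶ X)) (hp : ∀ j, p j ≫ hX = 𝟙 _)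
    (hinj : Function.Injective p)
    (X' : Scheme.{u}) (g : X' ⟶ Spec (CommRingCat.of (DualNumber k))) [Flat g] (i : X ⟶ X')
    (hsq : IsPullback i hX g
      (Spec.map (CommRingCat.ofHom (TrivSqZeroExt.fstHom k k k).toRingHom)))
    (p' : ι → (Spec (CommRingCat.of (DualNumber k)) ⟶ X')) (hp' : ∀ j, p' j ≫ g = 𝟙 _)
    (hpp' : ∀ j, p j ≫ i =
      Spec.map (CommRingCat.ofHom (TrivSqZeroExt.fstHom k k k).toRingHom) ≫ p' j) :
    ∃ r : X' ⟶ X,
      IsPullback r g hX (Spec.map (CommRingCat.ofHom (algebraMap k (DualNumber k)))) ∧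
      i ≫ r = 𝟙 X ∧
      ∀ j, p' j ≫ r = Spec.map (CommRingCat.ofHom (algebraMap k (DualNumber k))) ≫ p j := by
  haveI : IsArtinianRing (DualNumber k) := ArtFun.Art.isArtinianRing_tsze k k
  obtain ⟨e, he⟩ : ∃ e : DualNumber k →ₐ[k] k, e = TrivSqZeroExt.fstHom k k k := ⟨_, rfl⟩
  rw [← he] at hsq hpp'
  have hes : Function.Surjective e := fun c => ⟨algebraMap k (DualNumber k) c, by simp⟩
  haveI : IsClosedImmersion (Spec.map (CommRingCat.ofHom e.toRingHom)) :=
    IsClosedImmersion.spec_of_surjective _ hes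
  haveI : IsClosedImmersion i :=
    MorphismProperty.of_isPullback (P := @IsClosedImmersion) hsq.flip inferInstance
  haveI : Surjective (Spec.map (CommRingCat.ofHom e.toRingHom)) := by
    refine ⟨fun p => ?_⟩
    have key : ∀ q : PrimeSpectrum (DualNumber k), ∃ q' : PrimeSpectrum k,
        PrimeSpectrum.comap e.toRingHom q' = q := by
      intro q
      haveI : q.asIdeal.IsMaximal := inferInstance
      have hIm : (RingHom.ker e).IsMaximal := RingHom.ker_isMaximal_of_surjective e hes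
      have hq : q.asIdeal = RingHom.ker e := by
        rw [IsLocalRing.eq_maximalIdeal hIm, IsLocalRing.eq_maximalIdeal ‹q.asIdeal.IsMaximal›]
      refine ⟨⟨⊥, Ideal.isPrime_bot⟩, ?_⟩
      apply PrimeSpectrum.ext
      show Ideal.comap e.toRingHom ⊥ = q.asIdeal
      rw [hq]; rfl
    obtain ⟨q', hq'⟩ := key p
    exact ⟨q', hq'⟩
  haveI : Surjective i :=
    MorphismProperty.of_isPullback (P := @Surjective) hsq.flip inferInstance
  haveI : IsAffine X' := H9ThickAff.isAffine_of_thickening i ‹Surjective i›.surj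
  obtain ⟨kB, hkB⟩ : ∃ kB : CommRingCat.of k ⟶ Γ(X, ⊤),
      kB = (Scheme.ΓSpecIso (CommRingCat.of k)).inv ≫ hX.appTop := ⟨_, rfl⟩
  obtain ⟨AB', hAB'⟩ : ∃ AB' : CommRingCat.of (DualNumber k) ⟶ Γ(X', ⊤),
      AB' = (Scheme.ΓSpecIso (CommRingCat.of (DualNumber k))).inv ≫ g.appTop := ⟨_, rfl⟩
  have F1 : hX = X.isoSpec.hom ≫ Spec.map kB := by rw [hkB]; exact RigidDef.fact1 _ hX
  have F2 : g = X'.isoSpec.hom ≫ Spec.map AB' := by rw [hAB']; exact RigidDef.fact1 _ g
  have hpb : IsPullback (Spec.map i.appTop) (Spec.map kB) (Spec.map AB')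
      (Spec.map (CommRingCat.ofHom e.toRingHom)) := by
    refine hsq.of_iso X.isoSpec X'.isoSpec (Iso.refl _) (Iso.refl _) ?_ ?_ ?_ ?_
    · exact (Scheme.isoSpec_hom_naturality i).symm
    · rw [Iso.refl_hom, Category.comp_id]; exact F1
    · rw [Iso.refl_hom, Category.comp_id]; exact F2
    · simp
  have hsm : kB.hom.Smooth := by
    have h1 : RingHom.Smooth hX.appTop.hom :=
      (HasRingHomProperty.iff_of_isAffine (P := @Smooth)).mp inferInstance
    rw [hkB]
    show RingHom.Smooth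
      (hX.appTop.hom.comp (Scheme.ΓSpecIso (CommRingCat.of k)).inv.hom)
    exact RingHom.Smooth.comp (RingHom.Smooth.of_bijective
      (ConcreteCategory.bijective_of_isIso (Scheme.ΓSpecIso (CommRingCat.of k)).inv)) h1
  have hfl : AB'.hom.Flat := by
    have h1 : RingHom.Flat g.appTop.hom :=
      (HasRingHomProperty.iff_of_isAffine (P := @Flat)).mp inferInstance
    rw [hAB']
    show RingHom.Flat
      (g.appTop.hom.comp (Scheme.ΓSpecIso (CommRingCat.of (DualNumber k))).inv.hom)
    exact RingHom.Flat.comp (RingHom.Flat.of_bijective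
      (ConcreteCategory.bijective_of_isIso
        (Scheme.ΓSpecIso (CommRingCat.of (DualNumber k))).inv)) h1
  have hι : Function.Surjective i.appTop.hom :=
    (IsClosedImmersion.isAffine_surjective_of_isAffine i).2
  obtain ⟨πc, hπc⟩ : ∃ πc : ι → (Γ(X, ⊤) ⟶ CommRingCat.of k),
      πc = fun j => (p j).appTop ≫ (Scheme.ΓSpecIso (CommRingCat.of k)).hom := ⟨_, rfl⟩
  obtain ⟨πc', hπc'⟩ : ∃ πc' : ι → (Γ(X', ⊤) ⟶ CommRingCat.of (DualNumber k)),
      πc' = fun j => (p' j).appTop ≫ (Scheme.ΓSpecIso (CommRingCat.of (DualNumber k))).hom :=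
    ⟨_, rfl⟩
  have E1 : ∀ j, p j = Spec.map (πc j) ≫ X.isoSpec.inv := by
    intro j; rw [hπc]; exact fact2 _ (p j)
  have E2 : ∀ j, p' j = Spec.map (πc' j) ≫ X'.isoSpec.inv := by
    intro j; rw [hπc']; exact fact2 _ (p' j)
  have G1 : ∀ j, kB ≫ πc j = 𝟙 _ := by
    intro j
    have h1 : hX.appTop ≫ (p j).appTop = 𝟙 _ := congrArg Scheme.Hom.appTop (hp j)
    rw [hkB, hπc]
    show ((Scheme.ΓSpecIso (CommRingCat.of k)).inv ≫ hX.appTop) ≫
      (p j).appTop ≫ (Scheme.ΓSpecIso (CommRingCat.of k)).hom = 𝟙 _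
    rw [Category.assoc, ← Category.assoc hX.appTop, h1, Category.id_comp, Iso.inv_hom_id]
  have G2 : Function.Injective πc := by
    intro j1 j2 h
    apply hinj
    apply ext_of_isAffine
    rw [hπc] at h
    exact (cancel_mono (Scheme.ΓSpecIso (CommRingCat.of k)).hom).mp h
  have G3 : ∀ j, AB' ≫ πc' j = 𝟙 _ := by
    intro j
    have h1 : g.appTop ≫ (p' j).appTop = 𝟙 _ := congrArg Scheme.Hom.appTop (hp' j)
    rw [hAB', hπc']
    show ((Scheme.ΓSpecIso (CommRingCat.of (DualNumber k))).inv ≫ g.appTop) ≫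
      (p' j).appTop ≫ (Scheme.ΓSpecIso (CommRingCat.of (DualNumber k))).hom = 𝟙 _
    rw [Category.assoc, ← Category.assoc g.appTop, h1, Category.id_comp, Iso.inv_hom_id]
  have G4 : ∀ j, i.appTop ≫ πc j = πc' j ≫ CommRingCat.ofHom e.toRingHom := by
    intro j
    have h1 : i.appTop ≫ (p j).appTop =
        (p' j).appTop ≫ (Spec.map (CommRingCat.ofHom e.toRingHom)).appTop :=
      congrArg Scheme.Hom.appTop (hpp' j)
    rw [hπc, hπc']
    show i.appTop ≫ (p j).appTop ≫ (Scheme.ΓSpecIso (CommRingCat.of k)).hom =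
      ((p' j).appTop ≫ (Scheme.ΓSpecIso (CommRingCat.of (DualNumber k))).hom) ≫
        CommRingCat.ofHom e.toRingHom
    rw [← Category.assoc, h1, Category.assoc, Category.assoc, Scheme.ΓSpecIso_naturality]
  rw [he] at hpb G4
  obtain ⟨s, hs, hsι, hsπ⟩ := specLevel k Γ(X, ⊤) Γ(X', ⊤) kB AB' i.appTop hpb hsm hfl hι
    πc G1 G2 πc' G3 G4
  refine ⟨X'.isoSpec.hom ≫ Spec.map s ≫ X.isoSpec.inv, ?_, ?_, ?_⟩
  · refine hs.of_iso X'.isoSpec.symm X.isoSpec.symm (Iso.refl _) (Iso.refl _) ?_ ?_ ?_ ?_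
    · simp
    · rw [Iso.refl_hom, Category.comp_id, Iso.symm_hom, Iso.eq_inv_comp]; exact F2.symm
    · rw [Iso.refl_hom, Category.comp_id, Iso.symm_hom, Iso.eq_inv_comp]; exact F1.symm
    · simp
  · rw [← Category.assoc, ← Scheme.isoSpec_hom_naturality, Category.assoc,
      ← Category.assoc (Spec.map i.appTop), ← Spec.map_comp, hsι, Spec.map_id, Category.id_comp,
      Iso.hom_inv_id]
  · intro j
    calc p' j ≫ X'.isoSpec.hom ≫ Spec.map s ≫ X.isoSpec.inv
        = (Spec.map (πc' j) ≫ X'.isoSpec.inv) ≫ X'.isoSpec.hom ≫ Spec.map s ≫ X.isoSpec.inv := by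
          rw [← E2 j]
      _ = Spec.map (s ≫ πc' j) ≫ X.isoSpec.inv := by
          rw [Category.assoc, Iso.inv_hom_id_assoc, ← Category.assoc, ← Spec.map_comp]
      _ = Spec.map (πc j ≫ CommRingCat.ofHom (algebraMap k (DualNumber k))) ≫ X.isoSpec.inv := by
          rw [hsπ j]
      _ = Spec.map (CommRingCat.ofHom (algebraMap k (DualNumber k))) ≫
            Spec.map (πc j) ≫ X.isoSpec.inv := by
          rw [Spec.map_comp, Category.assoc]
      _ = Spec.map (CommRingCat.ofHom (algebraMap k (DualNumber k))) ≫ p j := by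
          rw [← E1 j]

end Groth.Agent.Helper3.Mark
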