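import Mathlib

/-!
# Glueing algebras at finitely many maximal ideals, part 1: maximal ideals and torsion
-/

set_option autoImplicit false
universe u

namespace Groth.Agent.Helper3.MaxGlue

section Basics

variable {A : Type u} [CommRing A] {r : ℕ} (m : Fin r → Ideal A) (hm : ∀ i, (m i).IsMaximal)
  (hinj : Function.Injective m)

/-- the intersection of the given maximal ideals -/
def II : Ideal A := ⨅ i, m i

theorem II_pow_le (i : Fin r) (n : ℕ) : (II m) ^ n ≤ (m i) ^ n :=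
  Ideal.pow_right_mono (iInf_le m i) n

include hm in
theorem exists_eq_of_pow_le {𝔫 : Ideal A} (h𝔫 : 𝔫.IsMaximal) {n : ℕ} (h : (II m) ^ n ≤ 𝔫) :
    ∃ i, m i = 𝔫 := by
  haveI hp : 𝔫.IsPrime := h𝔫.isPrime
  have h1 : II m ≤ 𝔫 := Ideal.IsPrime.le_of_pow_le h
  rw [II, ← Finset.inf_univ_eq_iInf] at h1
  obtain ⟨i, -, hi⟩ := hp.inf_le'.mp h1
  exact ⟨i, (hm i).eq_of_le h𝔫.ne_top hi⟩

include hm hinj in
theorem exists_mem_pow_notMem {i j : Fin r} (hij : j ≠ i) (n : ℕ) :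
    ∃ e ∈ (m j) ^ n, e ∉ m i := by
  have hi : (m i).IsPrime := (hm i).isPrime
  have hnle : ¬ m j ≤ m i := fun hle => hij (hinj ((hm j).eq_of_le (hm i).ne_top hle))
  obtain ⟨x, hxj, hxi⟩ := SetLike.not_le_iff_exists.mp hnle
  exact ⟨x ^ n, Ideal.pow_mem_pow hxj n, fun h => hxi (hi.mem_of_pow_mem n h)⟩

include hm in
theorem exists_mem_pow_notMem' (i : Fin r) {𝔫 : Ideal A} (h𝔫 : 𝔫.IsMaximal) (hne : m i ≠ 𝔫)
    (n : ℕ) : ∃ e ∈ (m i) ^ n, e ∉ 𝔫 := by
  have hp : 𝔫.IsPrime := h𝔫.isPrime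
  have hnle : ¬ m i ≤ 𝔫 := fun hle => hne ((hm i).eq_of_le h𝔫.ne_top hle)
  obtain ⟨x, hxj, hxi⟩ := SetLike.not_le_iff_exists.mp hnle
  exact ⟨x ^ n, Ideal.pow_mem_pow hxj n, fun h => hxi (hp.mem_of_pow_mem n h)⟩

include hm in
theorem exists_mem_II_pow_notMem {𝔫 : Ideal A} (h𝔫 : 𝔫.IsMaximal) (hne : ∀ i, m i ≠ 𝔫) (n : ℕ) :
    ∃ y ∈ (II m) ^ n, y ∉ 𝔫 := by
  by_contra hcon
  push Not at hcon
  obtain ⟨i, hi⟩ := exists_eq_of_pow_le m hm h𝔫 (n := n) (fun y hy => hcon y hy)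
  exact hne i hi

include hm hinj in
theorem exists_cofactor (j : Fin r) (n : ℕ) :
    ∃ w : A, w ∉ m j ∧ ∀ z ∈ (m j) ^ n, z * w ∈ (II m) ^ n := by
  classical
  have hj : (m j).IsPrime := (hm j).isPrime
  have hex : ∀ j' : Fin r, j' ≠ j → ∃ e ∈ (m j') ^ n, e ∉ m j := fun j' h =>
    exists_mem_pow_notMem m hm hinj h n
  choose! e he1 he2 using hex
  refine ⟨∏ j' ∈ Finset.univ.erase j, e j', ?_, fun z hz => ?_⟩
  · intro h
    obtain ⟨j', hj', h'⟩ := (Ideal.IsPrime.prod_mem_iff (hp := hj)).mp h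
    exact he2 j' (Finset.ne_of_mem_erase hj') h'
  · have h1 : z * ∏ j' ∈ Finset.univ.erase j, e j' ∈ ∏ j' : Fin r, (m j') ^ n := by
      rw [← Finset.mul_prod_erase Finset.univ (fun j' => (m j') ^ n) (Finset.mem_univ j)]
      exact Ideal.mul_mem_mul hz
        (Ideal.prod_mem_prod fun j' hj' => he1 j' (Finset.ne_of_mem_erase hj'))
    have h2 : ∏ j' : Fin r, (m j') ^ n ≤ (II m) ^ n := by
      rw [Finset.prod_pow]
      apply Ideal.pow_right_mono
      rw [II, ← Finset.inf_univ_eq_iInf]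
      exact Ideal.prod_le_inf
    exact h2 h1

/-- the maximal ideals other than the `m i` -/
def X : Type u := {𝔫 : MaximalSpectrum A // ∀ i, m i ≠ 𝔫.asIdeal}

include hm in
theorem eq_zero_of_local (a : A)
    (h1 : ∀ 𝔫 : X m, algebraMap A (Localization.AtPrime 𝔫.1.asIdeal) a = 0)
    (h2 : ∀ i, algebraMap A (Localization.AtPrime (m i)) a = 0) : a = 0 := by
  by_contra ha
  let J : Ideal A := LinearMap.ker (LinearMap.toSpanSingleton A A a)
  have hJ : ∀ s : A, s ∈ J ↔ s * a = 0 := by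
    intro s
    simp only [J, LinearMap.mem_ker, LinearMap.toSpanSingleton_apply, smul_eq_mul]
  have hJne : J ≠ ⊤ := by
    intro htop
    have h3 : (1 : A) ∈ J := by rw [htop]; exact Submodule.mem_top
    rw [hJ, one_mul] at h3
    exact ha h3
  obtain ⟨𝔫, h𝔫, hle⟩ := Ideal.exists_le_maximal J hJne
  by_cases hex : ∃ i, m i = 𝔫
  · obtain ⟨i, rfl⟩ := hex
    obtain ⟨⟨s, hs⟩, hsa⟩ := (IsLocalization.map_eq_zero_iff (m i).primeCompl _ a).mp (h2 i)
    exact hs (hle ((hJ s).mpr hsa))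
  · push Not at hex
    haveI := h𝔫.isPrime
    obtain ⟨⟨s, hs⟩, hsa⟩ := (IsLocalization.map_eq_zero_iff 𝔫.primeCompl
      (Localization.AtPrime 𝔫) a).mp (h1 ⟨⟨𝔫, h𝔫⟩, hex⟩)
    exact hs (hle ((hJ s).mpr hsa))

include hm in
theorem exists_lift_torsion [IsNoetherianRing A] (i : Fin r) (N : ℕ)
    (x : Localization.AtPrime (m i))
    (hx : ∀ y ∈ (m i) ^ N, algebraMap A (Localization.AtPrime (m i)) y * x = 0) :
    ∃ a : A, algebraMap A (Localization.AtPrime (m i)) a = x ∧ ∀ y ∈ (m i) ^ N, y * a = 0 := by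
  classical
  have hi : (m i).IsPrime := (hm i).isPrime
  haveI := hm i
  obtain ⟨⟨a₀, ⟨s₀, hs₀⟩⟩, h0⟩ := IsLocalization.surj (m i).primeCompl x
  replace h0 : x * algebraMap A (Localization.AtPrime (m i)) s₀
      = algebraMap A (Localization.AtPrime (m i)) a₀ := h0
  have h1 : ∀ y ∈ (m i) ^ N, ∃ t : A, t ∉ m i ∧ t * (y * a₀) = 0 := by
    intro y hy
    have h2 : algebraMap A (Localization.AtPrime (m i)) (y * a₀) = 0 := by
      rw [map_mul, ← h0, ← mul_assoc, hx y hy, zero_mul]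
    obtain ⟨⟨t, ht⟩, h4⟩ := (IsLocalization.map_eq_zero_iff (m i).primeCompl _ _).mp h2
    exact ⟨t, ht, h4⟩
  choose! t ht1 ht2 using h1
  obtain ⟨S, hS⟩ := (IsNoetherian.noetherian ((m i) ^ N) : ((m i) ^ N).FG)
  have hSmem : ∀ y ∈ S, y ∈ (m i) ^ N := fun y hy => by
    rw [← hS]; exact Submodule.subset_span hy
  let T : A := ∏ y ∈ S, t y
  have hT : T ∉ m i := by
    intro h
    obtain ⟨y, hy, h'⟩ := (Ideal.IsPrime.prod_mem_iff (hp := hi)).mp h
    exact ht1 y (hSmem y hy) h'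
  let a₁ : A := T * a₀
  have ha₁ : ∀ y ∈ (m i) ^ N, y * a₁ = 0 := by
    have hle : (m i) ^ N ≤ LinearMap.ker (LinearMap.toSpanSingleton A A a₁) := by
      rw [← hS]
      refine Submodule.span_le.mpr fun y hy => ?_
      rw [SetLike.mem_coe, LinearMap.mem_ker, LinearMap.toSpanSingleton_apply, smul_eq_mul]
      have h3 : T = (∏ y' ∈ S.erase y, t y') * t y := (Finset.prod_erase_mul S t hy).symm
      calc y * a₁ = (∏ y' ∈ S.erase y, t y') * (t y * (y * a₀)) := by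
            simp only [a₁, h3]; ring
        _ = 0 := by rw [ht2 y (hSmem y hy), mul_zero]
    intro y hy
    have := hle hy
    rwa [LinearMap.mem_ker, LinearMap.toSpanSingleton_apply, smul_eq_mul] at this
  have hs : s₀ * T ∉ m i := fun h => (hi.mem_or_mem h).elim hs₀ hT
  obtain ⟨c, w, hw, hcw⟩ := Ideal.IsMaximal.exists_inv_pow (m i) hs N
  refine ⟨c * a₁, ?_, fun y hy => ?_⟩
  · have hunit : IsUnit (algebraMap A (Localization.AtPrime (m i)) (s₀ * T)) :=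
      IsLocalization.map_units _ (⟨s₀ * T, hs⟩ : (m i).primeCompl)
    apply hunit.mul_left_cancel
    have h5 : (s₀ * T) * (c * a₁) = a₁ := by
      have h6 : c * (s₀ * T) = 1 - w := by rw [← hcw]; ring
      calc (s₀ * T) * (c * a₁) = (c * (s₀ * T)) * a₁ := by ring
        _ = a₁ - w * a₁ := by rw [h6]; ring
        _ = a₁ := by rw [ha₁ w hw, sub_zero]
    rw [← map_mul, h5]
    simp only [a₁, map_mul]
    rw [← h0]
    ring
  · calc y * (c * a₁) = c * (y * a₁) := by ring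
      _ = 0 := by rw [ha₁ y hy, mul_zero]

include hm hinj in
theorem map_eq_zero_of_torsion {i j : Fin r} (hij : j ≠ i) (N : ℕ) (a : A)
    (ha : ∀ y ∈ (m i) ^ N, y * a = 0) :
    algebraMap A (Localization.AtPrime (m j)) a = 0 := by
  obtain ⟨e, he1, he2⟩ := exists_mem_pow_notMem m hm hinj (i := j) (j := i) hij.symm N
  exact (IsLocalization.map_eq_zero_iff (m j).primeCompl _ a).mpr ⟨⟨e, he2⟩, ha e he1⟩

include hm in
theorem map_eq_zero_of_torsion' (i : Fin r) (𝔫 : X m) (N : ℕ) (a : A)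
    (ha : ∀ y ∈ (m i) ^ N, y * a = 0) :
    algebraMap A (Localization.AtPrime 𝔫.1.asIdeal) a = 0 := by
  obtain ⟨e, he1, he2⟩ := exists_mem_pow_notMem' m hm i 𝔫.1.isMaximal (𝔫.2 i) N
  exact (IsLocalization.map_eq_zero_iff 𝔫.1.asIdeal.primeCompl _ a).mpr ⟨⟨e, he2⟩, ha e he1⟩

end Basics

end Groth.Agent.Helper3.MaxGlue
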