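import Groth.Agent.Lib.Helper3.MaxGlue1

/-!
# Glueing algebras at finitely many maximal ideals, part 2: the glued algebra
-/

set_option autoImplicit false
universe u

namespace Groth.Agent.Helper3.MaxGlue

section Setup

variable {A : Type u} [CommRing A] [IsNoetherianRing A] {r : ℕ} (m : Fin r → Ideal A)
  (hm : ∀ i, (m i).IsMaximal) (hinj : Function.Injective m)
  (B : Fin r → Type u) [∀ i, CommRing (B i)] [∀ i, Algebra (Localization.AtPrime (m i)) (B i)]
  [∀ i, Algebra A (B i)] [∀ i, IsScalarTower A (Localization.AtPrime (m i)) (B i)]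

/-- the ambient product ring -/
abbrev P : Type u := (∀ 𝔫 : X m, Localization.AtPrime 𝔫.1.asIdeal) × (∀ i, B i)

/-- membership predicate of the glued algebra -/
def InC (c : P m B) : Prop :=
  ∃ n : ℕ, ∀ y ∈ (II m) ^ n, ∃ a : A, algebraMap A (P m B) a = y • c

theorem InC_algebraMap (a : A) : InC m B (algebraMap A (P m B) a) :=
  ⟨0, fun y _ => ⟨y * a, by rw [map_mul, Algebra.smul_def]⟩⟩

theorem InC_smul (t : A) {c : P m B} (hc : InC m B c) : InC m B (t • c) := by
  obtain ⟨n, hn⟩ := hc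
  refine ⟨n, fun y hy => ?_⟩
  obtain ⟨a, ha⟩ := hn y hy
  exact ⟨t * a, by rw [map_mul, ha, ← Algebra.smul_def, smul_comm]⟩

theorem InC_add {c c' : P m B} (hc : InC m B c) (hc' : InC m B c') : InC m B (c + c') := by
  obtain ⟨n, hn⟩ := hc
  obtain ⟨n', hn'⟩ := hc'
  refine ⟨max n n', fun y hy => ?_⟩
  obtain ⟨a, ha⟩ := hn y (Ideal.pow_le_pow_right (le_max_left n n') hy)
  obtain ⟨a', ha'⟩ := hn' y (Ideal.pow_le_pow_right (le_max_right n n') hy)
  exact ⟨a + a', by rw [map_add, ha, ha', smul_add]⟩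

theorem InC_neg {c : P m B} (hc : InC m B c) : InC m B (-c) := by
  obtain ⟨n, hn⟩ := hc
  refine ⟨n, fun y hy => ?_⟩
  obtain ⟨a, ha⟩ := hn y hy
  exact ⟨-a, by rw [map_neg, ha, smul_neg]⟩

theorem InC_sub {c c' : P m B} (hc : InC m B c) (hc' : InC m B c') : InC m B (c - c') := by
  rw [sub_eq_add_neg]
  exact InC_add m B hc (InC_neg m B hc')

theorem InC_mul {c c' : P m B} (hc : InC m B c) (hc' : InC m B c') : InC m B (c * c') := by
  obtain ⟨n, hn⟩ := hc
  obtain ⟨n', hn'⟩ := hc'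
  refine ⟨n + n', fun y hy => ?_⟩
  rw [pow_add] at hy
  refine Submodule.mul_induction_on hy ?_ ?_
  · intro y hy y' hy'
    obtain ⟨a, ha⟩ := hn y hy
    obtain ⟨a', ha'⟩ := hn' y' hy'
    refine ⟨a * a', ?_⟩
    rw [map_mul, ha, ha', smul_mul_smul_comm]
  · rintro z z' ⟨a, ha⟩ ⟨a', ha'⟩
    exact ⟨a + a', by rw [map_add, ha, ha', add_smul]⟩

/-- the glued algebra -/
def CC : Subalgebra A (P m B) where
  carrier := {c | InC m B c}
  mul_mem' := fun hc hc' => InC_mul m B hc hc'
  add_mem' := fun hc hc' => InC_add m B hc hc'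
  algebraMap_mem' := fun a => InC_algebraMap m B a

theorem mem_CC (c : P m B) : c ∈ CC m B ↔ InC m B c := Iff.rfl

variable (N : ℕ)
  (hK : ∀ i (x : Localization.AtPrime (m i)),
      algebraMap (Localization.AtPrime (m i)) (B i) x = 0 →
      ∀ y ∈ (m i) ^ N, algebraMap A (Localization.AtPrime (m i)) y * x = 0)
  (hQ : ∀ i, ∀ y ∈ (m i) ^ N, ∀ b : B i, ∃ x : Localization.AtPrime (m i),
      algebraMap (Localization.AtPrime (m i)) (B i) x = y • b)

include hm hinj in
theorem algebraMap_eq_zero_of_torsion (i : Fin r) (a : A) (ha : ∀ y ∈ (m i) ^ N, y * a = 0)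
    (ha' : algebraMap (Localization.AtPrime (m i)) (B i)
      (algebraMap A (Localization.AtPrime (m i)) a) = 0) :
    algebraMap A (P m B) a = 0 := by
  refine Prod.ext (funext fun 𝔫 => ?_) (funext fun j => ?_)
  · exact map_eq_zero_of_torsion' m hm i 𝔫 N a ha
  · change algebraMap A (B j) a = 0
    rw [IsScalarTower.algebraMap_apply A (Localization.AtPrime (m j)) (B j)]
    by_cases hj : j = i
    · subst hj
      exact ha'
    · rw [map_eq_zero_of_torsion m hm hinj hj N a ha, map_zero]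

include hm hinj hK in
theorem lemmaZ (i : Fin r) (d : P m B) (hd : InC m B d) (hi : d.2 i = 0) :
    ∃ t : A, t ∉ m i ∧ t • d = 0 := by
  classical
  have hip : (m i).IsPrime := (hm i).isPrime
  obtain ⟨n, hn⟩ := hd
  have h1 : ∀ y ∈ (II m) ^ n, ∃ τ : A, τ ∉ m i ∧ τ • (y • d) = 0 := by
    intro y hy
    obtain ⟨a, ha⟩ := hn y hy
    have h2 : algebraMap (Localization.AtPrime (m i)) (B i)
        (algebraMap A (Localization.AtPrime (m i)) a) = 0 := by
      rw [← IsScalarTower.algebraMap_apply A (Localization.AtPrime (m i)) (B i)]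
      have h3 := congrArg (fun p : P m B => p.2 i) ha
      change algebraMap A (B i) a = y • d.2 i at h3
      rw [h3, hi, smul_zero]
    obtain ⟨k, hk1, hk2⟩ := exists_lift_torsion m hm i N
      (algebraMap A (Localization.AtPrime (m i)) a) (hK i _ h2)
    have hk0 : algebraMap A (P m B) k = 0 :=
      algebraMap_eq_zero_of_torsion m hm hinj B N i k hk2 (by rw [hk1]; exact h2)
    have h3 : algebraMap A (Localization.AtPrime (m i)) (a - k) = 0 := by
      rw [map_sub, hk1, sub_self]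
    obtain ⟨⟨τ, hτ⟩, h4⟩ := (IsLocalization.map_eq_zero_iff (m i).primeCompl _ _).mp h3
    refine ⟨τ, hτ, ?_⟩
    rw [← ha]
    have h5 : τ * a = τ * k := by
      have h6 : τ * (a - k) = 0 := h4
      linear_combination h6
    calc τ • algebraMap A (P m B) a = algebraMap A (P m B) (τ * a) := by
          rw [map_mul, Algebra.smul_def]
      _ = algebraMap A (P m B) (τ * k) := by rw [h5]
      _ = 0 := by rw [map_mul, hk0, mul_zero]
  choose! τ hτ1 hτ2 using h1
  obtain ⟨S, hS⟩ := (IsNoetherian.noetherian ((II m) ^ n) : ((II m) ^ n).FG)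
  have hSmem : ∀ y ∈ S, y ∈ (II m) ^ n := fun y hy => by
    rw [← hS]; exact Submodule.subset_span hy
  let T : A := ∏ y ∈ S, τ y
  have hT : T ∉ m i := by
    intro h
    obtain ⟨y, hy, h'⟩ := (Ideal.IsPrime.prod_mem_iff (hp := hip)).mp h
    exact hτ1 y (hSmem y hy) h'
  have h6 : ∀ y ∈ (II m) ^ n, y • (T • d) = 0 := by
    have hle : (II m) ^ n ≤ LinearMap.ker (LinearMap.toSpanSingleton A (P m B) (T • d)) := by
      rw [← hS]
      refine Submodule.span_le.mpr fun y hy => ?_
      rw [SetLike.mem_coe, LinearMap.mem_ker, LinearMap.toSpanSingleton_apply]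
      have h3 : T = (∏ y' ∈ S.erase y, τ y') * τ y := (Finset.prod_erase_mul S τ hy).symm
      calc y • (T • d) = (∏ y' ∈ S.erase y, τ y') • (τ y • (y • d)) := by
            rw [h3]
            simp only [smul_smul]
            congr 1
            ring
        _ = 0 := by rw [hτ2 y (hSmem y hy), smul_zero]
    intro y hy
    have h7 := hle hy
    rwa [LinearMap.mem_ker, LinearMap.toSpanSingleton_apply] at h7
  have h7 : ∀ 𝔫 : X m, (T • d).1 𝔫 = 0 := by
    intro 𝔫
    obtain ⟨y, hy1, hy2⟩ := exists_mem_II_pow_notMem m hm 𝔫.1.isMaximal 𝔫.2 n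
    have h8 : y • (T • d).1 𝔫 = 0 := congrArg (fun p : P m B => p.1 𝔫) (h6 y hy1)
    have hu : IsUnit (algebraMap A (Localization.AtPrime 𝔫.1.asIdeal) y) :=
      IsLocalization.map_units _ (⟨y, hy2⟩ : 𝔫.1.asIdeal.primeCompl)
    rw [Algebra.smul_def] at h8
    exact (hu.mul_right_eq_zero).mp h8
  have h9 : ∀ j, j ≠ i → ∃ ε : A, ε ∉ m i ∧ ε • (T • d).2 j = 0 := by
    intro j hj
    obtain ⟨z, hz1, hz2⟩ := exists_mem_pow_notMem m hm hinj hj n
    obtain ⟨w, hw1, hw2⟩ := exists_cofactor m hm hinj j n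
    refine ⟨z, hz2, ?_⟩
    have h10 : (z * w) • (T • d).2 j = 0 :=
      congrArg (fun p : P m B => p.2 j) (h6 _ (hw2 z hz1))
    have hu : IsUnit (algebraMap A (B j) w) := by
      rw [IsScalarTower.algebraMap_apply A (Localization.AtPrime (m j)) (B j)]
      exact (IsLocalization.map_units _ (⟨w, hw1⟩ : (m j).primeCompl)).map _
    rw [mul_comm, mul_smul, Algebra.smul_def] at h10
    exact (hu.mul_right_eq_zero).mp h10
  choose! ε hε1 hε2 using h9
  let E : A := ∏ j ∈ Finset.univ.erase i, ε j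
  have hE : E ∉ m i := by
    intro h
    obtain ⟨j, hj, h'⟩ := (Ideal.IsPrime.prod_mem_iff (hp := hip)).mp h
    exact hε1 j (Finset.ne_of_mem_erase hj) h'
  refine ⟨E * T, fun h => (hip.mem_or_mem h).elim hE hT, ?_⟩
  rw [mul_smul]
  refine Prod.ext (funext fun 𝔫 => ?_) (funext fun j => ?_)
  · change E • (T • d).1 𝔫 = 0
    rw [h7, smul_zero]
  · change E • (T • d).2 j = 0
    by_cases hj : j = i
    · have h11 : (T • d).2 j = 0 := by
        rw [hj]
        change T • d.2 i = 0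
        rw [hi, smul_zero]
      rw [h11, smul_zero]
    · have h3 : E = (∏ j' ∈ (Finset.univ.erase i).erase j, ε j') * ε j :=
        (Finset.prod_erase_mul _ ε (Finset.mem_erase.mpr ⟨hj, Finset.mem_univ _⟩)).symm
      rw [h3, mul_smul, hε2 j hj, smul_zero]

include hm hinj hK in
theorem lemmaW (d : P m B) (hd : InC m B d)
    (hr : ∀ j, ∃ x : Localization.AtPrime (m j),
      algebraMap (Localization.AtPrime (m j)) (B j) x = d.2 j) :
    ∃ a : A, algebraMap A (P m B) a = d := by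
  classical
  let J : Ideal A :=
    { carrier := {t | ∃ a : A, algebraMap A (P m B) a = t • d}
      add_mem' := by
        rintro t t' ⟨a, ha⟩ ⟨a', ha'⟩
        exact ⟨a + a', by rw [map_add, ha, ha', add_smul]⟩
      zero_mem' := ⟨0, by rw [map_zero, zero_smul]⟩
      smul_mem' := by
        rintro c t ⟨a, ha⟩
        exact ⟨c * a, by rw [map_mul, ha, smul_eq_mul, mul_smul, ← Algebra.smul_def]⟩ }
  have hJ : ∀ t : A, t ∈ J ↔ ∃ a : A, algebraMap A (P m B) a = t • d := fun t => Iff.rfl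
  suffices h : J = ⊤ by
    have h1 : (1 : A) ∈ J := by rw [h]; exact Submodule.mem_top
    obtain ⟨a, ha⟩ := (hJ 1).mp h1
    exact ⟨a, by rw [ha, one_smul]⟩
  by_contra hJne
  obtain ⟨𝔫, h𝔫, hle⟩ := Ideal.exists_le_maximal J hJne
  obtain ⟨n, hn⟩ := hd
  have hIn : (II m) ^ n ≤ 𝔫 := fun y hy => hle ((hJ y).mpr (hn y hy))
  obtain ⟨i, rfl⟩ := exists_eq_of_pow_le m hm h𝔫 hIn
  obtain ⟨x, hx⟩ := hr i
  obtain ⟨⟨α, ⟨σ, hσ⟩⟩, h0⟩ := IsLocalization.surj (m i).primeCompl x
  replace h0 : x * algebraMap A (Localization.AtPrime (m i)) σ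
      = algebraMap A (Localization.AtPrime (m i)) α := h0
  have hd' : InC m B (σ • d - algebraMap A (P m B) α) :=
    InC_sub m B (InC_smul m B σ ⟨n, hn⟩) (InC_algebraMap m B α)
  have hi' : (σ • d - algebraMap A (P m B) α).2 i = 0 := by
    change σ • d.2 i - algebraMap A (B i) α = 0
    rw [← hx, IsScalarTower.algebraMap_apply A (Localization.AtPrime (m i)) (B i) α, ← h0,
      map_mul, Algebra.smul_def,
      IsScalarTower.algebraMap_apply A (Localization.AtPrime (m i)) (B i) σ]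
    ring
  obtain ⟨t, ht, htd⟩ := lemmaZ m hm hinj B N hK i _ hd' hi'
  have h2 : t * σ ∈ J := by
    rw [hJ]
    refine ⟨t * α, ?_⟩
    rw [smul_sub, sub_eq_zero] at htd
    rw [mul_smul, htd, map_mul, Algebra.smul_def]
  exact (((hm i).isPrime.mem_or_mem (hle h2)).elim ht hσ)

include hm hinj hK hQ in
theorem claimU (c : P m B) (hc : InC m B c) :
    ∀ y ∈ (II m) ^ N, ∃ a : A, algebraMap A (P m B) a = y • c := by
  intro y hy
  exact lemmaW m hm hinj B N hK (y • c) (InC_smul m B y hc)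
    (fun j => hQ j y (II_pow_le m j N hy) (c.2 j))

end Setup

end Groth.Agent.Helper3.MaxGlue
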