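import Groth.Agent.Lib.Helper3.MaxGlue2

/-!
# Glueing algebras at finitely many maximal ideals, part 3: kernel, injectivity, surjectivity,
finiteness
-/

set_option autoImplicit false
universe u

namespace Groth.Agent.Helper3.MaxGlue

section Part3

variable {A : Type u} [CommRing A] [IsNoetherianRing A] {r : ℕ} (m : Fin r → Ideal A)
  (hm : ∀ i, (m i).IsMaximal) (hinj : Function.Injective m)
  (B : Fin r → Type u) [∀ i, CommRing (B i)] [∀ i, Algebra (Localization.AtPrime (m i)) (B i)]
  [∀ i, Algebra A (B i)] [∀ i, IsScalarTower A (Localization.AtPrime (m i)) (B i)]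

theorem algebraMap_P_fst (a : A) (𝔫 : X m) :
    (algebraMap A (P m B) a).1 𝔫 = algebraMap A (Localization.AtPrime 𝔫.1.asIdeal) a := rfl

theorem algebraMap_P_snd (a : A) (i : Fin r) :
    (algebraMap A (P m B) a).2 i = algebraMap (Localization.AtPrime (m i)) (B i)
      (algebraMap A (Localization.AtPrime (m i)) a) := by
  rw [← IsScalarTower.algebraMap_apply A (Localization.AtPrime (m i)) (B i)]
  rfl

include hm in
theorem algebraMap_P_injective
    (hinjφ : ∀ i, Function.Injective (algebraMap (Localization.AtPrime (m i)) (B i))) :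
    Function.Injective (algebraMap A (P m B)) := by
  rw [injective_iff_map_eq_zero]
  intro a ha
  apply eq_zero_of_local m hm
  · intro 𝔫
    rw [← algebraMap_P_fst m B a 𝔫, ha]
    rfl
  · intro i
    apply hinjφ i
    rw [← algebraMap_P_snd m hm B a i, ha, map_zero]
    rfl

variable (N : ℕ)
  (hK : ∀ i (x : Localization.AtPrime (m i)),
      algebraMap (Localization.AtPrime (m i)) (B i) x = 0 →
      ∀ y ∈ (m i) ^ N, algebraMap A (Localization.AtPrime (m i)) y * x = 0)
  (hQ : ∀ i, ∀ y ∈ (m i) ^ N, ∀ b : B i, ∃ x : Localization.AtPrime (m i),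
      algebraMap (Localization.AtPrime (m i)) (B i) x = y • b)

include hm hK in
theorem ker_torsion (a : A) (ha : algebraMap A (P m B) a = 0) :
    ∀ y ∈ (II m) ^ N, y * a = 0 := by
  intro y hy
  apply eq_zero_of_local m hm
  · intro 𝔫
    have h1 : algebraMap A (Localization.AtPrime 𝔫.1.asIdeal) a = 0 := by
      rw [← algebraMap_P_fst m B a 𝔫, ha]
      rfl
    rw [map_mul, h1, mul_zero]
  · intro i
    have h1 : algebraMap (Localization.AtPrime (m i)) (B i)
        (algebraMap A (Localization.AtPrime (m i)) a) = 0 := by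
      rw [← algebraMap_P_snd m hm B a i, ha]
      rfl
    rw [map_mul]
    exact hK i _ h1 y (II_pow_le m i N hy)

include hm hinj hK in
theorem algebraMap_surj_of
    (hsurj : ∀ i, Function.Surjective (algebraMap (Localization.AtPrime (m i)) (B i)))
    (c : P m B) (hc : InC m B c) : ∃ a : A, algebraMap A (P m B) a = c :=
  lemmaW m hm hinj B N hK c hc (fun j => hsurj j (c.2 j))

/-- the image of `A_i` in `B i` as an `A`-submodule -/
def RR (i : Fin r) : Submodule A (B i) where
  carrier := {b | ∃ x : Localization.AtPrime (m i),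
    algebraMap (Localization.AtPrime (m i)) (B i) x = b}
  add_mem' := by
    rintro b b' ⟨x, hx⟩ ⟨x', hx'⟩
    exact ⟨x + x', by rw [map_add, hx, hx']⟩
  zero_mem' := ⟨0, map_zero _⟩
  smul_mem' := by
    rintro a b ⟨x, hx⟩
    refine ⟨algebraMap A (Localization.AtPrime (m i)) a * x, ?_⟩
    rw [map_mul, hx, ← IsScalarTower.algebraMap_apply A (Localization.AtPrime (m i)) (B i),
      ← Algebra.smul_def]

theorem mem_RR (i : Fin r) (b : B i) : b ∈ RR m hm B i ↔
    ∃ x : Localization.AtPrime (m i), algebraMap (Localization.AtPrime (m i)) (B i) x = b :=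
  Iff.rfl

include hm hQ in
theorem finite_quot (i : Fin r) [Module.Finite (Localization.AtPrime (m i)) (B i)] :
    Module.Finite A (B i ⧸ RR m hm B i) := by
  classical
  haveI := hm i
  obtain ⟨S, hS⟩ :=
    (Module.Finite.fg_top : (⊤ : Submodule (Localization.AtPrime (m i)) (B i)).FG)
  let G : Submodule A (B i) := Submodule.span A (S : Set (B i))
  have key : ∀ b : B i, ∃ g ∈ G, b - g ∈ RR m hm B i := by
    intro b
    have hb : b ∈ Submodule.span (Localization.AtPrime (m i)) (S : Set (B i)) := by
      rw [hS]; exact Submodule.mem_top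
    induction hb using Submodule.span_induction with
    | mem b hb => exact ⟨b, Submodule.subset_span hb, by rw [sub_self]; exact zero_mem _⟩
    | zero => exact ⟨0, zero_mem _, by rw [sub_self]; exact zero_mem _⟩
    | add b b' _ _ ih ih' =>
      obtain ⟨g, hg, h⟩ := ih
      obtain ⟨g', hg', h'⟩ := ih'
      refine ⟨g + g', add_mem hg hg', ?_⟩
      have h2 : b + b' - (g + g') = (b - g) + (b' - g') := by abel
      rw [h2]
      exact add_mem h h'
    | smul x b _ ih =>
      obtain ⟨g, hg, x', hx'⟩ := ih
      obtain ⟨⟨a, ⟨s, hs⟩⟩, h0⟩ := IsLocalization.surj (m i).primeCompl x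
      replace h0 : x * algebraMap A (Localization.AtPrime (m i)) s
          = algebraMap A (Localization.AtPrime (m i)) a := h0
      obtain ⟨c, w, hw, hcw⟩ := Ideal.IsMaximal.exists_inv_pow (m i) hs N
      have hx : x = algebraMap A (Localization.AtPrime (m i)) (c * a)
          + algebraMap A (Localization.AtPrime (m i)) w * x := by
        have h1 : algebraMap A (Localization.AtPrime (m i)) (c * s + w) = 1 := by
          rw [hcw, map_one]
        rw [map_add, map_mul] at h1
        rw [map_mul, ← h0]
        linear_combination (-x) * h1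
      have h1 : x • g = (c * a) • g + w • (x • g) := by
        conv_lhs => rw [hx]
        rw [add_smul, mul_smul, algebraMap_smul, algebraMap_smul]
      obtain ⟨x'', hx''⟩ := hQ i w hw (x • g)
      refine ⟨(c * a) • g, Submodule.smul_mem _ _ hg, x'' + x * x', ?_⟩
      rw [map_add, map_mul, hx'', hx', ← Algebra.smul_def, smul_sub]
      have h2 : (c * a) • g = x • g - w • (x • g) := eq_sub_of_add_eq h1.symm
      rw [h2]
      abel
  haveI hGfin : Module.Finite A G := Module.Finite.span_of_finite A S.finite_toSet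
  let f : G →ₗ[A] (B i ⧸ RR m hm B i) := (RR m hm B i).mkQ.comp G.subtype
  refine Module.Finite.of_surjective f ?_
  intro q
  obtain ⟨b, rfl⟩ := (RR m hm B i).mkQ_surjective q
  obtain ⟨g, hg, h⟩ := key b
  refine ⟨⟨g, hg⟩, ?_⟩
  change (RR m hm B i).mkQ g = (RR m hm B i).mkQ b
  simp only [Submodule.mkQ_apply]
  exact ((Submodule.Quotient.eq _).mpr h).symm

/-- the map to the product of the cokernels -/
def Theta : ↥(CC m B) →ₗ[A] (∀ i, B i ⧸ RR m hm B i) where
  toFun c i := (RR m hm B i).mkQ (c.1.2 i)
  map_add' c c' := by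
    funext i
    change (RR m hm B i).mkQ (c.1.2 i + c'.1.2 i) = _
    rw [map_add]
    rfl
  map_smul' a c := by
    funext i
    change (RR m hm B i).mkQ (a • c.1.2 i) = _
    rw [map_smul]
    rfl

include hm hinj hK hQ in
theorem finite_CC [∀ i, Module.Finite (Localization.AtPrime (m i)) (B i)] :
    Module.Finite A ↥(CC m B) := by
  haveI : ∀ i, Module.Finite A (B i ⧸ RR m hm B i) := fun i => finite_quot m hm B N hQ i
  haveI : IsNoetherian A (∀ i, B i ⧸ RR m hm B i) := isNoetherian_of_isNoetherianRing_of_finite A _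
  have hker : LinearMap.ker (Theta m hm B) = LinearMap.range (Algebra.linearMap A ↥(CC m B)) := by
    apply le_antisymm
    · intro c hc
      rw [LinearMap.mem_ker] at hc
      have h1 : ∀ j, ∃ x : Localization.AtPrime (m j),
          algebraMap (Localization.AtPrime (m j)) (B j) x = c.1.2 j := by
        intro j
        have h2 := congrFun hc j
        change (RR m hm B j).mkQ (c.1.2 j) = 0 at h2
        rw [Submodule.mkQ_apply, Submodule.Quotient.mk_eq_zero] at h2
        exact h2
      obtain ⟨a, ha⟩ := lemmaW m hm hinj B N hK c.1 ((mem_CC m B c.1).mp c.2) h1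
      exact ⟨a, Subtype.ext ha⟩
    · rintro _ ⟨a, rfl⟩
      rw [LinearMap.mem_ker]
      funext j
      change (RR m hm B j).mkQ ((algebraMap A (P m B) a).2 j) = 0
      rw [Submodule.mkQ_apply, Submodule.Quotient.mk_eq_zero]
      exact ⟨algebraMap A _ a, (algebraMap_P_snd m hm B a j).symm⟩
  have h1 : (LinearMap.ker (Theta m hm B)).FG := by
    rw [hker, LinearMap.range_eq_map]
    exact (Module.Finite.fg_top).map _
  have h2 : (LinearMap.range (Theta m hm B)).FG := IsNoetherian.noetherian _
  refine ⟨Submodule.fg_of_fg_map_of_fg_inf_ker (Theta m hm B) ?_ ?_⟩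
  · rw [Submodule.map_top]
    exact h2
  · rw [top_inf_eq]
    exact h1

end Part3

end Groth.Agent.Helper3.MaxGlue
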