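import Groth.Agent.Lib.Helper3.MaxGlue3

/-!
# Glueing algebras at finitely many maximal ideals, part 4: the localizations of the glued algebra
-/

set_option autoImplicit false
universe u

namespace Groth.Agent.Helper3.MaxGlue

section Part4

variable {A : Type u} [CommRing A] [IsNoetherianRing A] {r : ℕ} (m : Fin r → Ideal A)
  (hm : ∀ i, (m i).IsMaximal) (hinj : Function.Injective m)
  (B : Fin r → Type u) [∀ i, CommRing (B i)] [∀ i, Algebra (Localization.AtPrime (m i)) (B i)]
  [∀ i, Algebra A (B i)] [∀ i, IsScalarTower A (Localization.AtPrime (m i)) (B i)]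
  (N : ℕ)
  (hK : ∀ i (x : Localization.AtPrime (m i)),
      algebraMap (Localization.AtPrime (m i)) (B i) x = 0 →
      ∀ y ∈ (m i) ^ N, algebraMap A (Localization.AtPrime (m i)) y * x = 0)
  (hQ : ∀ i, ∀ y ∈ (m i) ^ N, ∀ b : B i, ∃ x : Localization.AtPrime (m i),
      algebraMap (Localization.AtPrime (m i)) (B i) x = y • b)

include hm hinj hK hQ in
theorem exists_section (i : Fin r) (β : B i) :
    ∃ c : P m B, InC m B c ∧ ∃ t : A, t ∉ m i ∧ c.2 i = t • β := by
  classical
  haveI := hm i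
  have hip : (m i).IsPrime := (hm i).isPrime
  -- generators of `J = (m i) ^ N`
  obtain ⟨q, y, hy⟩ := Submodule.fg_iff_exists_fin_generating_family.mp
    (IsNoetherian.noetherian ((m i) ^ N) : ((m i) ^ N).FG)
  have hyJ : ∀ l, y l ∈ (m i) ^ N := fun l => by
    rw [← hy]; exact Submodule.subset_span ⟨l, rfl⟩
  have hx : ∀ l, ∃ x : Localization.AtPrime (m i),
      algebraMap (Localization.AtPrime (m i)) (B i) x = y l • β := fun l => hQ i (y l) (hyJ l) β
  choose x hx using hx
  obtain ⟨⟨σ, hσ⟩, hσx⟩ := IsLocalization.exist_integer_multiples_of_finite (m i).primeCompl x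
  have hσx' : ∀ l, ∃ α : A, algebraMap A (Localization.AtPrime (m i)) α = σ • x l :=
    fun l => RingHom.mem_rangeS.mp (hσx l)
  choose α hα using hσx'
  let g : (Fin q → A) →ₗ[A] A := Fintype.linearCombination A y
  let aa : (Fin q → A) →ₗ[A] A := Fintype.linearCombination A α
  have hg : ∀ v, g v = ∑ l, v l • y l := fun v => rfl
  have haa : ∀ v, aa v = ∑ l, v l • α l := fun v => rfl
  have hgJ : ∀ z ∈ (m i) ^ N, ∃ v, g v = z := by
    intro z hz
    rw [← hy, ← Fintype.range_linearCombination] at hz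
    exact LinearMap.mem_range.mp hz
  have hαB : ∀ l, algebraMap A (B i) (α l) = (σ * y l) • β := by
    intro l
    rw [IsScalarTower.algebraMap_apply A (Localization.AtPrime (m i)) (B i), hα l,
      Algebra.smul_def σ (x l), map_mul, hx l,
      ← IsScalarTower.algebraMap_apply A (Localization.AtPrime (m i)) (B i),
      ← Algebra.smul_def, smul_smul]
  have haaB : ∀ v, algebraMap A (B i) (aa v) = (σ * g v) • β := by
    intro v
    rw [haa, hg, map_sum, Finset.mul_sum, Finset.sum_smul]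
    refine Finset.sum_congr rfl fun l _ => ?_
    simp only [smul_eq_mul]
    rw [map_mul, hαB l, ← Algebra.smul_def, smul_smul]
    congr 1
    ring
  -- torsion lifting on the relations
  have hτ : ∀ v, g v = 0 → ∃ τ : A, τ ∉ m i ∧ τ • algebraMap A (P m B) (aa v) = 0 := by
    intro v hv
    have h2 : algebraMap (Localization.AtPrime (m i)) (B i)
        (algebraMap A (Localization.AtPrime (m i)) (aa v)) = 0 := by
      rw [← IsScalarTower.algebraMap_apply A (Localization.AtPrime (m i)) (B i), haaB v, hv,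
        mul_zero, zero_smul]
    obtain ⟨k, hk1, hk2⟩ := exists_lift_torsion m hm i N
      (algebraMap A (Localization.AtPrime (m i)) (aa v)) (hK i _ h2)
    have hk0 : algebraMap A (P m B) k = 0 :=
      algebraMap_eq_zero_of_torsion m hm hinj B N i k hk2 (by rw [hk1]; exact h2)
    have h3 : algebraMap A (Localization.AtPrime (m i)) (aa v - k) = 0 := by
      rw [map_sub, hk1, sub_self]
    obtain ⟨⟨τ, hτ⟩, h4⟩ := (IsLocalization.map_eq_zero_iff (m i).primeCompl _ _).mp h3
    refine ⟨τ, hτ, ?_⟩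
    have h5 : τ * aa v = τ * k := by
      have h6 : τ * (aa v - k) = 0 := h4
      linear_combination h6
    calc τ • algebraMap A (P m B) (aa v) = algebraMap A (P m B) (τ * aa v) := by
          rw [map_mul, Algebra.smul_def]
      _ = algebraMap A (P m B) (τ * k) := by rw [h5]
      _ = 0 := by rw [map_mul, hk0, mul_zero]
  obtain ⟨T, hT⟩ := (IsNoetherian.noetherian (LinearMap.ker g) : (LinearMap.ker g).FG)
  have hTmem : ∀ v ∈ T, g v = 0 := fun v hv => by
    have h1 : v ∈ LinearMap.ker g := by rw [← hT]; exact Submodule.subset_span hv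
    exact LinearMap.mem_ker.mp h1
  choose! τ hτ1 hτ2 using hτ
  obtain ⟨τT, hτTdef⟩ : ∃ τT : A, τT = ∏ v ∈ T, τ v := ⟨_, rfl⟩
  have hτT : τT ∉ m i := by
    intro h
    rw [hτTdef] at h
    obtain ⟨v, hv, h'⟩ := (Ideal.IsPrime.prod_mem_iff (hp := hip)).mp h
    exact hτ1 v (hTmem v hv) h'
  let h : (Fin q → A) →ₗ[A] P m B := τT • ((Algebra.linearMap A (P m B)).comp aa)
  have hh : ∀ v, h v = τT • algebraMap A (P m B) (aa v) := fun v => rfl
  have hker : LinearMap.ker g ≤ LinearMap.ker h := by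
    rw [← hT]
    refine Submodule.span_le.mpr fun v hv => ?_
    rw [SetLike.mem_coe, LinearMap.mem_ker, hh]
    have h3 : τT = (∏ v' ∈ T.erase v, τ v') * τ v := by
      rw [hτTdef]
      exact (Finset.prod_erase_mul T τ hv).symm
    rw [h3, mul_smul, hτ2 v (hTmem v hv), smul_zero]
  -- the map `θ`
  choose! vv hvv using hgJ
  let θ : A → P m B := fun z => h (vv z)
  have hθ1 : ∀ z : A, ∃ a : A, algebraMap A (P m B) a = θ z := fun z =>
    ⟨τT * aa (vv z), by rw [map_mul, ← Algebra.smul_def]; rfl⟩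
  have hθ2 : ∀ z ∈ (m i) ^ N, ∀ z' ∈ (m i) ^ N, z • θ z' = z' • θ z := by
    intro z hz z' hz'
    have h1 : z • vv z' - z' • vv z ∈ LinearMap.ker g := by
      rw [LinearMap.mem_ker, map_sub, map_smul, map_smul, hvv z hz, hvv z' hz', smul_eq_mul,
        smul_eq_mul]
      ring
    have h2 := hker h1
    rw [LinearMap.mem_ker, map_sub, map_smul, map_smul, sub_eq_zero] at h2
    exact h2
  have hθ3 : ∀ z ∈ (m i) ^ N, (θ z).2 i = (τT * σ * z) • β := by
    intro z hz
    change τT • algebraMap A (B i) (aa (vv z)) = _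
    rw [haaB, hvv z hz, smul_smul, mul_assoc]
  -- the auxiliary elements
  have hz𝔫 : ∀ 𝔫 : X m, ∃ z ∈ (m i) ^ N, z ∉ 𝔫.1.asIdeal := fun 𝔫 =>
    exists_mem_pow_notMem' m hm i 𝔫.1.isMaximal (𝔫.2 i) N
  choose z𝔫 hz𝔫1 hz𝔫2 using hz𝔫
  have hzj : ∀ j, j ≠ i → ∃ z ∈ (m i) ^ N, z ∉ m j := fun j hj =>
    exists_mem_pow_notMem m hm hinj (i := j) (j := i) hj.symm N
  choose! zj hzj1 hzj2 using hzj
  let c : P m B :=
    (fun 𝔫 => Ring.inverse (algebraMap A (Localization.AtPrime 𝔫.1.asIdeal) (z𝔫 𝔫))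
        * (θ (z𝔫 𝔫)).1 𝔫,
     Function.update (fun j => Ring.inverse (algebraMap A (B j) (zj j)) * (θ (zj j)).2 j) i
        ((τT * σ) • β))
  have hc : ∀ z ∈ (m i) ^ N, z • c = θ z := by
    intro z hz
    refine Prod.ext (funext fun 𝔫 => ?_) (funext fun j => ?_)
    · change z • (Ring.inverse (algebraMap A (Localization.AtPrime 𝔫.1.asIdeal) (z𝔫 𝔫))
        * (θ (z𝔫 𝔫)).1 𝔫) = (θ z).1 𝔫
      have hu : IsUnit (algebraMap A (Localization.AtPrime 𝔫.1.asIdeal) (z𝔫 𝔫)) :=
        IsLocalization.map_units _ (⟨z𝔫 𝔫, hz𝔫2 𝔫⟩ : 𝔫.1.asIdeal.primeCompl)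
      have h1 : z • (θ (z𝔫 𝔫)).1 𝔫 = (z𝔫 𝔫) • (θ z).1 𝔫 :=
        congrArg (fun p : P m B => p.1 𝔫) (hθ2 z hz (z𝔫 𝔫) (hz𝔫1 𝔫))
      rw [← mul_smul_comm, h1, Algebra.smul_def, Ring.inverse_mul_cancel_left _ _ hu]
    · by_cases hj : j = i
      · rw [hj]
        change z • Function.update
          (fun j => Ring.inverse (algebraMap A (B j) (zj j)) * (θ (zj j)).2 j) i
          ((τT * σ) • β) i = (θ z).2 i
        rw [Function.update_self, hθ3 z hz, smul_smul]
        congr 1
        ring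
      · change z • Function.update
          (fun j => Ring.inverse (algebraMap A (B j) (zj j)) * (θ (zj j)).2 j) i
          ((τT * σ) • β) j = (θ z).2 j
        rw [Function.update_of_ne hj]
        have hu : IsUnit (algebraMap A (B j) (zj j)) := by
          rw [IsScalarTower.algebraMap_apply A (Localization.AtPrime (m j)) (B j)]
          exact (IsLocalization.map_units _ (⟨zj j, hzj2 j hj⟩ : (m j).primeCompl)).map _
        have h1 : z • (θ (zj j)).2 j = (zj j) • (θ z).2 j :=
          congrArg (fun p : P m B => p.2 j) (hθ2 z hz (zj j) (hzj1 j hj))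
        rw [← mul_smul_comm, h1, Algebra.smul_def, Ring.inverse_mul_cancel_left _ _ hu]
  refine ⟨c, ⟨N, fun y' hy' => ?_⟩, τT * σ, fun hmem => (hip.mem_or_mem hmem).elim hτT hσ, ?_⟩
  · have hy'' := II_pow_le m i N hy'
    obtain ⟨a, ha⟩ := hθ1 y'
    exact ⟨a, by rw [ha, hc y' hy'']⟩
  · change Function.update
      (fun j => Ring.inverse (algebraMap A (B j) (zj j)) * (θ (zj j)).2 j) i
      ((τT * σ) • β) i = _
    rw [Function.update_self]

include hm hinj hK hQ in
theorem isLocalizedModule_proj (i : Fin r) (f : ↥(CC m B) →ₗ[A] B i)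
    (hf : ∀ c, f c = c.1.2 i) : IsLocalizedModule (m i).primeCompl f where
  map_units := by
    rintro ⟨s, hs⟩
    rw [Module.End.isUnit_iff]
    have hu : IsUnit (algebraMap A (B i) s) := by
      rw [IsScalarTower.algebraMap_apply A (Localization.AtPrime (m i)) (B i)]
      exact (IsLocalization.map_units _ (⟨s, hs⟩ : (m i).primeCompl)).map _
    constructor
    · intro b b' hbb
      simp only [Module.algebraMap_end_apply] at hbb
      rw [Algebra.smul_def, Algebra.smul_def] at hbb
      exact hu.mul_left_cancel hbb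
    · intro b
      obtain ⟨u, hu'⟩ := hu
      refine ⟨↑u⁻¹ * b, ?_⟩
      simp only [Module.algebraMap_end_apply]
      rw [Algebra.smul_def, ← hu', ← mul_assoc, Units.mul_inv, one_mul]
  surj := by
    intro β
    obtain ⟨c, hc, t, ht, hct⟩ := exists_section m hm hinj B N hK hQ i β
    refine ⟨(⟨c, hc⟩, ⟨t, ht⟩), ?_⟩
    rw [hf]
    exact hct.symm
  exists_of_eq := by
    intro c c' hcc
    rw [hf, hf] at hcc
    have hd : InC m B (c.1 - c'.1) := InC_sub m B c.2 c'.2
    have hi : (c.1 - c'.1).2 i = 0 := by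
      change c.1.2 i - c'.1.2 i = 0
      rw [hcc, sub_self]
    obtain ⟨t, ht, htd⟩ := lemmaZ m hm hinj B N hK i _ hd hi
    refine ⟨⟨t, ht⟩, Subtype.ext ?_⟩
    change t • c.1 = t • c'.1
    rw [smul_sub, sub_eq_zero] at htd
    exact htd

include hm hinj hK hQ in
theorem nonempty_algEquiv (i : Fin r) :
    Nonempty (TensorProduct A (Localization.AtPrime (m i)) ↥(CC m B)
      ≃ₐ[Localization.AtPrime (m i)] B i) := by
  let π : ↥(CC m B) →ₐ[A] B i :=
    ((Pi.evalAlgHom A B i).comp (AlgHom.snd A _ _)).comp (CC m B).val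
  letI : Algebra ↥(CC m B) (B i) := π.toRingHom.toAlgebra
  haveI : IsScalarTower A ↥(CC m B) (B i) :=
    IsScalarTower.of_algebraMap_eq (fun a => (π.commutes a).symm)
  haveI : IsLocalizedModule (m i).primeCompl
      (IsScalarTower.toAlgHom A ↥(CC m B) (B i)).toLinearMap :=
    isLocalizedModule_proj m hm hinj B N hK hQ i _ (fun c => rfl)
  haveI : Algebra.IsPushout A (Localization.AtPrime (m i)) ↥(CC m B) (B i) :=
    ⟨IsLocalizedModule.isBaseChange (m i).primeCompl (Localization.AtPrime (m i)) _⟩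
  exact ⟨Algebra.IsPushout.equiv A (Localization.AtPrime (m i)) ↥(CC m B) (B i)⟩

end Part4

section Main

open TensorProduct

theorem main37 (A : Type u) [CommRing A] [IsNoetherianRing A] (r : ℕ) (m : Fin r → Ideal A)
    (hm : ∀ i, (m i).IsMaximal) (hinj : Function.Injective m) (B : Fin r → Type u)
    [∀ i, CommRing (B i)] [∀ i, Algebra (Localization.AtPrime (m i)) (B i)]
    (hker : ∀ i, ∃ n : ℕ, ∀ x ∈ RingHom.ker (algebraMap (Localization.AtPrime (m i)) (B i)),
      ∀ y ∈ Ideal.map (algebraMap A (Localization.AtPrime (m i))) (m i) ^ n, y * x = 0)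
    (hcoker : ∀ i, ∃ n : ℕ,
      ∀ y ∈ Ideal.map (algebraMap A (Localization.AtPrime (m i))) (m i) ^ n, ∀ b : B i,
        y • b ∈ (algebraMap (Localization.AtPrime (m i)) (B i)).range) :
    ∃ (C : Type u) (_ : CommRing C) (_ : Algebra A C),
      (∀ i, Nonempty ((Localization.AtPrime (m i)) ⊗[A] C ≃ₐ[Localization.AtPrime (m i)] B i)) ∧
      (∃ n : ℕ, (∀ x ∈ RingHom.ker (algebraMap A C), ∀ y ∈ (⨅ i, m i) ^ n, y * x = 0) ∧
        (∀ y ∈ (⨅ i, m i) ^ n, ∀ c : C, y • c ∈ (algebraMap A C).range)) ∧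
      ((∀ i, (algebraMap (Localization.AtPrime (m i)) (B i)).Finite) →
        (algebraMap A C).Finite) ∧
      ((∀ i, Function.Injective (algebraMap (Localization.AtPrime (m i)) (B i))) →
        Function.Injective (algebraMap A C)) ∧
      ((∀ i, Function.Surjective (algebraMap (Localization.AtPrime (m i)) (B i))) →
        Function.Surjective (algebraMap A C)) := by
  letI : ∀ i, Algebra A (B i) := fun i =>
    ((algebraMap (Localization.AtPrime (m i)) (B i)).comp
      (algebraMap A (Localization.AtPrime (m i)))).toAlgebra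
  haveI : ∀ i, IsScalarTower A (Localization.AtPrime (m i)) (B i) := fun i =>
    IsScalarTower.of_algebraMap_eq (fun _ => rfl)
  choose n1 hn1 using hker
  choose n2 hn2 using hcoker
  obtain ⟨N, hN⟩ : ∃ N, ∀ i, n1 i ≤ N ∧ n2 i ≤ N :=
    ⟨Finset.univ.sup n1 ⊔ Finset.univ.sup n2, fun i =>
      ⟨le_sup_of_le_left (Finset.le_sup (Finset.mem_univ i)),
        le_sup_of_le_right (Finset.le_sup (Finset.mem_univ i))⟩⟩
  have hmap : ∀ i, ∀ y ∈ (m i) ^ N, ∀ n ≤ N, algebraMap A (Localization.AtPrime (m i)) y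
      ∈ (Ideal.map (algebraMap A (Localization.AtPrime (m i))) (m i)) ^ n := by
    intro i y hy n hn
    rw [← Ideal.map_pow]
    exact Ideal.mem_map_of_mem _ (Ideal.pow_le_pow_right hn hy)
  have hK : ∀ i (x : Localization.AtPrime (m i)),
      algebraMap (Localization.AtPrime (m i)) (B i) x = 0 →
      ∀ y ∈ (m i) ^ N, algebraMap A (Localization.AtPrime (m i)) y * x = 0 := by
    intro i x hx y hy
    exact hn1 i x (RingHom.mem_ker.mpr hx) _ (hmap i y hy _ (hN i).1)
  have hQ : ∀ i, ∀ y ∈ (m i) ^ N, ∀ b : B i, ∃ x : Localization.AtPrime (m i),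
      algebraMap (Localization.AtPrime (m i)) (B i) x = y • b := by
    intro i y hy b
    obtain ⟨x, hx⟩ := hn2 i _ (hmap i y hy _ (hN i).2) b
    exact ⟨x, by rw [hx, algebraMap_smul]⟩
  refine ⟨↥(CC m B), inferInstance, inferInstance,
    fun i => nonempty_algEquiv m hm hinj B N hK hQ i, ⟨N, ?_, ?_⟩, ?_, ?_, ?_⟩
  · intro x hx y hy
    exact ker_torsion m hm B N hK x (congrArg Subtype.val (RingHom.mem_ker.mp hx)) y hy
  · intro y hy c
    obtain ⟨a, ha⟩ := claimU m hm hinj B N hK hQ c.1 c.2 y hy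
    exact ⟨a, Subtype.ext ha⟩
  · intro h
    haveI : ∀ i, Module.Finite (Localization.AtPrime (m i)) (B i) := fun i =>
      RingHom.finite_algebraMap.mp (h i)
    exact RingHom.finite_algebraMap.mpr (finite_CC m hm hinj B N hK hQ)
  · intro h a a' haa
    exact algebraMap_P_injective m hm B h (congrArg Subtype.val haa)
  · intro h c
    obtain ⟨a, ha⟩ := algebraMap_surj_of m hm hinj B N hK h c.1 c.2
    exact ⟨a, Subtype.ext ha⟩

end Main

end Groth.Agent.Helper3.MaxGlue
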