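import Mathlib
import Groth.Agent.Lib.Helper3.SchlR

set_option linter.style.haveILetI false

universe u v w

open CategoryTheory

namespace Groth.Agent.Helper3.ArtFunLib

open ArtFun ArtFun.Art

variable {Λ : Type u} {k : Type u} [CommRing Λ] [Field k] [Algebra Λ k]

section FamExt

variable {R : Type u} [CommRing R] [Algebra Λ R] {resR : R →ₐ[Λ] k} {F : Art Λ k ⥤ Type v}

theorem family_ext_app {ξ ξ' : Family R resR F} (h : ∀ A a, ξ.app A a = ξ'.app A a) :
    ξ = ξ' := by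
  cases ξ with
  | mk app nat =>
    cases ξ' with
    | mk app' nat' =>
      have : app = app' := funext fun A => funext fun a => h A a
      subst this
      rfl

theorem along_comp {S T : Type u} [CommRing S] [Algebra Λ S] {resS : S →ₐ[Λ] k}
    [CommRing T] [Algebra Λ T] {resT : T →ₐ[Λ] k}
    (ξ : Family R resR F) (g : R →ₐ[Λ] S) (hg : resS.comp g = resR)
    (f : S →ₐ[Λ] T) (hf : resT.comp f = resS) (hfg : resT.comp (f.comp g) = resR) :
    (ξ.along g hg).along f hf = ξ.along (f.comp g) hfg := by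
  apply family_ext_app
  intro A a
  change ξ.app A _ = ξ.app A _
  exact congrArg (ξ.app A) (Subtype.ext (AlgHom.ext fun _ => rfl))

end FamExt

section RelLift

variable {R : Type u} [CommRing R] [Algebra Λ R] {resR : R →ₐ[Λ] k}

/-- two lifts of the same point along a small extension differ by a tangent vector -/
theorem exists_diff_point {B A : Art Λ k} (μ : B ⟶ A) (hμ : IsSmallExt μ) {t : B}
    (ht : RingHom.ker μ.toAlgHom = Ideal.span {t})
    (ψ₁ ψ₂ : HomSet R resR B) (h : HomSet.map μ ψ₁ = HomSet.map μ ψ₂) :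
    ∃ D : HomSet R resR (dual Λ k), ∀ (r : R) (b : B), B.res b = dsnd (D.1 r) →
      ψ₂.1 r = ψ₁.1 r + b * t := by
  have ht0 : t ≠ 0 := by
    intro h0
    apply hμ.2.1
    rw [ht, h0]
    exact Ideal.span_singleton_eq_bot.2 rfl
  have hann : ∀ m ∈ IsLocalRing.maximalIdeal B, m * t = 0 := by
    intro m hm
    have : m * t ∈ IsLocalRing.maximalIdeal B * RingHom.ker μ.toAlgHom :=
      Ideal.mul_mem_mul hm (by rw [ht]; exact Ideal.subset_span rfl)
    rw [hμ.2.2.2] at this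
    exact this
  have hmem : ∀ r : R, ψ₂.1 r - ψ₁.1 r ∈ Ideal.span {t} := fun r => by
    rw [← ht, RingHom.mem_ker, map_sub, sub_eq_zero]
    exact (congrArg (fun χ : HomSet R resR A => χ.1 r) h).symm
  have hres : ∀ (χ : HomSet R resR B) (r : R), B.res (χ.1 r) = resR r := fun χ r =>
    congrArg (fun g : R →ₐ[Λ] k => g r) χ.2
  let δ : R → k := fun r => coef t (ψ₂.1 r - ψ₁.1 r)
  have hadd : ∀ x y, δ (x + y) = δ x + δ y := fun x y => by
    change coef t (ψ₂.1 (x + y) - ψ₁.1 (x + y)) =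
      coef t (ψ₂.1 x - ψ₁.1 x) + coef t (ψ₂.1 y - ψ₁.1 y)
    have e : ψ₂.1 (x + y) - ψ₁.1 (x + y) = (ψ₂.1 x - ψ₁.1 x) + (ψ₂.1 y - ψ₁.1 y) := by
      rw [map_add, map_add]; ring
    rw [e, coef_add ht0 (hmem x) (hmem y)]
  have hleib : ∀ x y, δ (x * y) = resR x * δ y + resR y * δ x := fun x y => by
    change coef t (ψ₂.1 (x * y) - ψ₁.1 (x * y)) =
      resR x * coef t (ψ₂.1 y - ψ₁.1 y) + resR y * coef t (ψ₂.1 x - ψ₁.1 x)
    have e : ψ₂.1 (x * y) - ψ₁.1 (x * y) =
        ψ₂.1 x * (ψ₂.1 y - ψ₁.1 y) + ψ₁.1 y * (ψ₂.1 x - ψ₁.1 x) := by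
      rw [map_mul, map_mul]; ring
    rw [e, coef_add ht0 (Ideal.mul_mem_left _ _ (hmem y)) (Ideal.mul_mem_left _ _ (hmem x)),
      coef_smul ht0 _ (hmem y), coef_smul ht0 _ (hmem x), hres, hres]
  have hΛ : ∀ l : Λ, δ (algebraMap Λ R l) = 0 := fun l => by
    change coef t (ψ₂.1 (algebraMap Λ R l) - ψ₁.1 (algebraMap Λ R l)) = 0
    rw [ψ₂.1.commutes, ψ₁.1.commutes, sub_self, coef_zero ht0]
  refine ⟨homSetOfDeriv resR δ hadd hleib hΛ, ?_⟩
  intro r b hb
  have hb' : B.res b = coef t (ψ₂.1 r - ψ₁.1 r) := hb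
  obtain ⟨c, hc⟩ := Ideal.mem_span_singleton'.1 (hmem r)
  rw [← hc, coef_mul ht0] at hb'
  have h1 : b - c ∈ IsLocalRing.maximalIdeal B := by
    rw [Art.mem_maximalIdeal_iff, map_sub, hb', sub_self]
  have h2 := hann _ h1
  rw [sub_mul, sub_eq_zero] at h2
  rw [h2, hc]
  ring

/-- relative lifting along a small extension, given a retraction `s` of `g` -/
theorem exists_rel_lift_small {R' : Type u} [CommRing R'] [Algebra Λ R'] {resR' : R' →ₐ[Λ] k}
    (g : R' →ₐ[Λ] R) (hg : resR.comp g = resR') (s : R →ₐ[Λ] R') (hs : resR'.comp s = resR)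
    (hsg : ∀ r, s (g r) = r)
    {B A : Art Λ k} (μ : B ⟶ A) (hμ : IsSmallExt μ)
    (ψ₀ : HomSet R resR B) (y : HomSet R' resR' B)
    (h : HomSet.map μ (⟨ψ₀.1.comp g, by rw [← AlgHom.comp_assoc, ψ₀.2, hg]⟩ :
      HomSet R' resR' B) = HomSet.map μ y) :
    ∃ ψ : HomSet R resR B, HomSet.map μ ψ = HomSet.map μ ψ₀ ∧ ∀ r, ψ.1 (g r) = y.1 r := by
  obtain ⟨t, ht⟩ := hμ.2.2.1.principal
  have ht' : RingHom.ker μ.toAlgHom = Ideal.span {t} := ht
  have htmem : t ∈ RingHom.ker μ.toAlgHom := by rw [ht']; exact Ideal.subset_span rfl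
  obtain ⟨D, hD⟩ := exists_diff_point μ hμ ht' _ y h
  obtain ⟨ψ, hψ1, hψ2⟩ := exists_twist μ hμ htmem ψ₀
    (⟨D.1.comp s, by rw [← AlgHom.comp_assoc, D.2, hs]⟩ : HomSet R resR (dual Λ k))
  refine ⟨ψ, hψ1, fun r => ?_⟩
  obtain ⟨b, hb⟩ := B.res_surjective (dsnd (D.1 r))
  have h1 := hψ2 (g r) b (by
    rw [hb]
    change _ = dsnd (D.1 (s (g r)))
    rw [hsg])
  have h2 := hD r b hb
  exact h1.trans h2.symm

end RelLift

section Cut2

variable {F : Art Λ k ⥤ Type v}

/-- cutting a versal family by an element detected by a tangent vector killed by an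
endomorphism fixing the family keeps versality -/
theorem isVersal_quoFam_span (R : CRing Λ k) (ξ : Family R.carrier R.res F)
    (hv : IsVersal ξ) (ε : R.carrier →ₐ[Λ] R.carrier) (hε : R.res.comp ε = R.res)
    (hξε : ξ.along ε hε = ξ)
    (D : HomSet R.carrier R.res (dual Λ k)) (hDε : ∀ r, dsnd (D.1 (ε r)) = 0)
    (x : R.carrier) (hDx : dsnd (D.1 x) ≠ 0)
    (hJ : Ideal.span {x} ≤ IsLocalRing.maximalIdeal R.carrier) :
    IsVersal (quoFam ξ (Ideal.span {x}) hJ) := by
  rw [isVersal_iff_lifts]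
  refine NatFam.lifts_of_small _ ?_
  intro B A μ hμ
    (φ' : HomSet (quotCRing R (Ideal.span {x}) hJ).carrier (quotCRing R (Ideal.span {x}) hJ).res A)
    y hy
  have hy' : F.map μ y = ξ.app A (toP φ') := hy
  obtain ⟨ψ, hψ1, hψ2⟩ := hv μ hμ.1 (toP φ') y hy'
  obtain ⟨t₀, ht₀⟩ := hμ.2.2.1.principal
  have hspan : RingHom.ker μ.toAlgHom ≤ Ideal.span {t₀} := le_of_eq ht₀
  have ht₀mem : t₀ ∈ RingHom.ker μ.toAlgHom := (le_of_eq ht₀.symm) (Ideal.subset_span rfl)
  have hxker : ψ.1 x ∈ RingHom.ker μ.toAlgHom := by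
    rw [RingHom.mem_ker]
    have e1 : μ (ψ.1 x) = (toP φ').1 x :=
      congrArg (fun t : HomSet R.carrier R.res A => t.1 x) hψ1
    refine e1.trans ?_
    exact RingHom.mem_ker.1 (le_ker_toP φ' (Ideal.subset_span (Set.mem_singleton x)))
  obtain ⟨b₀, hb₀⟩ := Ideal.mem_span_singleton'.1 (hspan hxker)
  obtain ⟨ψ', hψ'1, hψ'2⟩ := exists_twist μ hμ ht₀mem ψ
    (HomSet.map (scale (-(B.res b₀) / dsnd (D.1 x))) D)
  have hDc : ∀ r, dsnd ((HomSet.map (scale (-(B.res b₀) / dsnd (D.1 x))) D).1 r) =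
      (-(B.res b₀) / dsnd (D.1 x)) * dsnd (D.1 r) := fun r => rfl
  have hle : Ideal.span {x} ≤ RingHom.ker ψ'.1 := by
    rw [Ideal.span_le, Set.singleton_subset_iff]
    change x ∈ RingHom.ker ψ'.1
    rw [RingHom.mem_ker, hψ'2 x (-b₀) (by
      rw [map_neg, hDc]
      field_simp), ← hb₀]
    ring
  obtain ⟨a, ha⟩ := exists_toP_eq (hJ := hJ) ψ' hle
  refine ⟨a, toP_injective ?_, ?_⟩
  · change toP (HomSet.map μ a) = toP φ'
    rw [toP_map, ha, hψ'1, hψ1]
  · change ξ.app B (toP a) = y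
    rw [ha, ← hψ2]
    have h1 : ∀ χ : HomSet R.carrier R.res B,
        ξ.app B ⟨χ.1.comp ε, by rw [← AlgHom.comp_assoc, χ.2, hε]⟩ = ξ.app B χ := fun χ =>
      congrArg (fun ζ : Family R.carrier R.res F => ζ.app B χ) hξε
    rw [← h1 ψ', ← h1 ψ]
    congr 1
    apply Subtype.ext
    apply AlgHom.ext
    intro r
    change ψ'.1 (ε r) = ψ.1 (ε r)
    rw [hψ'2 (ε r) 0 (by rw [map_zero, hDc, hDε, mul_zero]), zero_mul, add_zero]

end Cut2

section MinVersal2

variable {F : Art Λ k ⥤ Type v}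

/-- a versal family over a ring with the least possible embedding dimension is minimal -/
theorem isMinimalVersal_of_least (h0 : H0 F) (R' : CRing Λ k)
    (ξ' : Family R'.carrier R'.res F) (hv : IsVersal ξ')
    (hleast : ∀ (R₁ : CRing Λ k) (ξ₁ : Family R₁.carrier R₁.res F), IsVersal ξ₁ →
      (IsLocalRing.maximalIdeal R'.carrier).spanFinrank ≤
        (IsLocalRing.maximalIdeal R₁.carrier).spanFinrank) :
    ξ'.IsMinimalVersal := by
  refine ⟨hv, ?_⟩
  intro R₁ u f hf hpush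
  by_contra hns
  obtain ⟨s, hs, hsη⟩ := formalElt_induced h0 R' ξ' hv R₁ u
  have hε : R'.res.comp (f.comp s) = R'.res := by rw [← AlgHom.comp_assoc, hf, hs]
  have hfam : ξ'.along (f.comp s) hε = ξ' := by
    rw [← along_comp ξ' s hs f hf hε]
    apply family_ext_of_toFormalElt R'
    rw [along_toFormalElt, hsη, hpush]
  have hns' : ¬ Function.Surjective
      ((f.comp s : R'.carrier →ₐ[Λ] R'.carrier) : R'.carrier →+* R'.carrier) := fun h =>
    hns (fun y => by
      obtain ⟨r, hr⟩ := h y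
      exact ⟨s r, hr⟩)
  have hf' : (R'.res : R'.carrier →+* k).comp
      ((f.comp s : R'.carrier →ₐ[Λ] R'.carrier) : R'.carrier →+* R'.carrier) =
      (R'.res : R'.carrier →+* k) := by
    ext r
    exact congrArg (fun g : R'.carrier →ₐ[Λ] k => g r) hε
  have : IsPrecomplete (IsLocalRing.maximalIdeal R'.carrier) R'.carrier :=
    R'.isAdicComplete.toIsPrecomplete
  have : IsHausdorff (IsLocalRing.maximalIdeal R'.carrier) R'.carrier :=
    R'.isAdicComplete.toIsHausdorff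
  obtain ⟨δ, hadd, hleib0, hδf, z, hz⟩ :=
    ring_exists_deriv_of_not_surjective
      (R'.res : R'.carrier →+* k) (R'.res : R'.carrier →+* k)
      ((f.comp s : R'.carrier →ₐ[Λ] R'.carrier) : R'.carrier →+* R'.carrier) hf'
      R'.res_surjective R'.res_surjective hns'
  have hleib : ∀ a b, δ (a * b) = R'.res a * δ b + R'.res b * δ a := hleib0
  have hδf' : ∀ r, δ (f (s r)) = 0 := hδf
  have hΛ : ∀ l : Λ, δ (algebraMap Λ R'.carrier l) = 0 := fun l => by
    have h1 : algebraMap Λ R'.carrier l = f (s (algebraMap Λ R'.carrier l)) := by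
      rw [s.commutes, f.commutes]
    rw [h1]; exact hδf' _
  obtain ⟨x, hx⟩ : ∃ x : R'.carrier, x = z - f (s z) := ⟨_, rfl⟩
  have hδx : δ x = δ z := by
    have h1 : z = x + f (s z) := by rw [hx, sub_add_cancel]
    have h2 : δ z = δ x + δ (f (s z)) := by
      conv_lhs => rw [h1]
      exact hadd _ _
    rw [h2, hδf', add_zero]
  have hxm : x ∈ IsLocalRing.maximalIdeal R'.carrier := by
    rw [CRing.mem_maximalIdeal_iff, hx, map_sub, sub_eq_zero]
    exact (congrArg (fun g : R'.carrier →ₐ[Λ] k => g z) hε).symm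
  have hδsq : ∀ y ∈ IsLocalRing.maximalIdeal R'.carrier ^ 2, δ y = 0 := by
    intro y hy
    rw [pow_two] at hy
    refine Submodule.mul_induction_on hy ?_ ?_
    · intro a ha b hb
      rw [hleib, (CRing.mem_maximalIdeal_iff R' a).1 ha, (CRing.mem_maximalIdeal_iff R' b).1 hb,
        zero_mul, zero_mul, add_zero]
    · intro a b ha hb
      rw [hadd, ha, hb, add_zero]
  have hx2 : x ∉ IsLocalRing.maximalIdeal R'.carrier ^ 2 := fun h =>
    hz (by rw [← hδx]; exact hδsq x h)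
  have hJ : Ideal.span {x} ≤ IsLocalRing.maximalIdeal R'.carrier := by
    rw [Ideal.span_le, Set.singleton_subset_iff]; exact hxm
  have hcut := isVersal_quoFam_span R' ξ' hv (f.comp s) hε hfam
    (homSetOfDeriv R'.res δ hadd hleib hΛ) (fun r => hδf' r) x (by
      change δ x ≠ 0
      rw [hδx]; exact hz) hJ
  have h1 := hleast (quotCRing R' (Ideal.span {x}) hJ) (quoFam ξ' _ hJ) hcut
  have h2 := spanFinrank_map_succ_le_of_notMem_sq hxm hx2
  have h3 : IsLocalRing.maximalIdeal (quotCRing R' (Ideal.span {x}) hJ).carrier =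
      (IsLocalRing.maximalIdeal R'.carrier).map (Ideal.Quotient.mk (Ideal.span {x})) :=
    maximalIdeal_cring_quot R' (Ideal.span {x}) hJ
  rw [h3] at h1
  exact absurd (Nat.lt_of_lt_of_le (Nat.lt_of_succ_le h2) h1) (Nat.lt_irrefl _)

theorem exists_isMinimalVersal (h0 : H0 F) (V : VersalPair F) :
    ∃ (R' : CRing Λ k) (ξ' : Family R'.carrier R'.res F), ξ'.IsMinimalVersal := by
  classical
  let Pr : ℕ → Prop := fun r => ∃ (R₁ : CRing Λ k) (ξ₁ : Family R₁.carrier R₁.res F),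
    IsVersal ξ₁ ∧ (IsLocalRing.maximalIdeal R₁.carrier).spanFinrank = r
  have hex : ∃ r, Pr r := ⟨_, V.ring, V.family, V.versal, rfl⟩
  obtain ⟨R', ξ', hv, hr⟩ := Nat.find_spec hex
  refine ⟨R', ξ', isMinimalVersal_of_least h0 R' ξ' hv ?_⟩
  intro R₁ ξ₁ hv₁
  rw [hr]
  exact Nat.find_min' hex ⟨R₁, ξ₁, hv₁, rfl⟩

/-- if `g : R' → R` has a retraction and carries `ξ'` to the versal `ξ` then `h_R → h_{R'}` is
smooth -/
theorem isVersal_self_along {R' R : CRing Λ k}
    (ξ' : Family R'.carrier R'.res F) (ξ : Family R.carrier R.res F) (hξ : IsVersal ξ)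
    (g : R'.carrier →ₐ[Λ] R.carrier) (hg : R.res.comp g = R'.res) (hfam : ξ'.along g hg = ξ)
    (s : R.carrier →ₐ[Λ] R'.carrier) (hs : R'.res.comp s = R.res) (hsg : ∀ r, s (g r) = r) :
    IsVersal ((Family.self R'.carrier R'.res).along g hg) := by
  rw [isVersal_iff_lifts]
  refine NatFam.lifts_of_small _ ?_
  intro B A μ hμ (φ : HomSet R.carrier R.res A) (y : HomSet R'.carrier R'.res B) hy
  have hy' : HomSet.map μ y =
      (⟨φ.1.comp g, by rw [← AlgHom.comp_assoc, φ.2, hg]⟩ : HomSet R'.carrier R'.res A) := hy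
  have h1 : F.map μ (ξ'.app B y) = ξ.app A φ := by
    rw [← ξ'.natural, hy']
    exact congrArg (fun ζ : Family R.carrier R.res F => ζ.app A φ) hfam
  obtain ⟨ψ₀, hψ₀1, -⟩ := hξ μ hμ.1 φ (ξ'.app B y) h1
  obtain ⟨ψ, hψ1, hψ2⟩ := exists_rel_lift_small g hg s hs hsg μ hμ ψ₀ y (by
    rw [hy']
    apply Subtype.ext
    apply AlgHom.ext
    intro r
    exact congrArg (fun χ : HomSet R.carrier R.res A => χ.1 (g r)) hψ₀1)
  refine ⟨ψ, hψ1.trans hψ₀1, ?_⟩
  have h2 : ((Family.self R'.carrier R'.res).along g hg).app B ψ = y :=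
    Subtype.ext (AlgHom.ext fun r => hψ2 r)
  exact h2

theorem versal_along_powerSeries [IsNoetherianRing Λ] [Module.Finite Λ k]
    (h0 : H0 F) (V : VersalPair F)
    (R' : CRing Λ k) (ξ' : Family R'.carrier R'.res F) (hmin : ξ'.IsMinimalVersal) :
    ∃ (g : R'.carrier →ₐ[Λ] V.ring.carrier) (hg : V.ring.res.comp g = R'.res)
      (n : ℕ) (e : V.ring.carrier ≃ₐ[Λ] MvPowerSeries (Fin n) R'.carrier),
      (∀ a : R'.carrier, e (g a) = algebraMap R'.carrier (MvPowerSeries (Fin n) R'.carrier) a) ∧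
      (ξ'.along g hg).toFormalElt = V.family.toFormalElt := by
  obtain ⟨hv', hmin'⟩ := hmin
  obtain ⟨g, hg, hgη⟩ := formalElt_induced h0 R' ξ' hv' V.ring V.family.toFormalElt
  have hfam : ξ'.along g hg = V.family := family_ext_of_toFormalElt V.ring hgη
  obtain ⟨s₀, hs₀, hs₀η⟩ := formalElt_induced h0 V.ring V.family V.versal R' ξ'.toFormalElt
  have hfam₀ : V.family.along s₀ hs₀ = ξ' := family_ext_of_toFormalElt R' hs₀η
  have hσ : R'.res.comp (s₀.comp g) = R'.res := by rw [← AlgHom.comp_assoc, hs₀, hg]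
  have hfamσ : ξ'.along (s₀.comp g) hσ = ξ' := by
    rw [← along_comp ξ' g hg s₀ hs₀ hσ, hfam]
    exact hfam₀
  have hσs : Function.Surjective (s₀.comp g) := by
    apply hmin' R' ξ'.toFormalElt (s₀.comp g) hσ
    rw [← along_toFormalElt ξ' (s₀.comp g) hσ, hfamσ]
  have hσi : Function.Injective (s₀.comp g) :=
    ringHom_injective_of_surjective_endo
      ((s₀.comp g : R'.carrier →ₐ[Λ] R'.carrier) : R'.carrier →+* R'.carrier) hσs
  let τ : R'.carrier ≃ₐ[Λ] R'.carrier := AlgEquiv.ofBijective (s₀.comp g) ⟨hσi, hσs⟩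
  let s : V.ring.carrier →ₐ[Λ] R'.carrier := (τ.symm : R'.carrier →ₐ[Λ] R'.carrier).comp s₀
  have hsg : ∀ r, s (g r) = r := fun r => τ.symm_apply_apply r
  have hs : R'.res.comp s = V.ring.res := by
    apply AlgHom.ext
    intro x
    change R'.res (τ.symm (s₀ x)) = V.ring.res x
    have h1 : R'.res (τ.symm (s₀ x)) = R'.res (τ (τ.symm (s₀ x))) :=
      (congrArg (fun q : R'.carrier →ₐ[Λ] k => q (τ.symm (s₀ x))) hσ).symm
    rw [h1, τ.apply_symm_apply]
    exact congrArg (fun q : V.ring.carrier →ₐ[Λ] k => q x) hs₀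
  have hver := isVersal_self_along ξ' V.family V.versal g hg hfam s hs hsg
  have key : ∀ (g' : R'.carrier →ₐ[Λ] V.ring.carrier) (hg' : V.ring.res.comp g' = R'.res),
      g = g' → IsVersal ((Family.self R'.carrier R'.res).along g' hg') := by
    intro g' hg' hgg
    subst hgg
    exact hver
  letI : Algebra R'.carrier V.ring.carrier := (g : R'.carrier →+* V.ring.carrier).toAlgebra
  haveI : IsScalarTower Λ R'.carrier V.ring.carrier :=
    IsScalarTower.of_algebraMap_eq (fun l => (g.commutes l).symm)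
  have hto : g = IsScalarTower.toAlgHom Λ R'.carrier V.ring.carrier := AlgHom.ext fun _ => rfl
  have hRS : V.ring.res.comp (IsScalarTower.toAlgHom Λ R'.carrier V.ring.carrier) = R'.res := by
    rw [← hto]; exact hg
  have hver' := key _ hRS hto
  letI : Algebra R'.carrier k := R'.res.toRingHom.toAlgebra
  have halg : ∀ r, algebraMap R'.carrier k r = R'.res r := fun r => rfl
  haveI : Module.Finite R'.carrier k :=
    Module.Finite.of_surjective (Algebra.linearMap R'.carrier k) R'.res_surjective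
  haveI := R'.isAdicComplete
  obtain ⟨n, ⟨e₁⟩⟩ := exists_algEquiv_powerSeries_of_smooth (Λ := R'.carrier) (k := k)
    R'.res_surjective (relCRing R' V.ring hRS halg)
    (isSmoothFunctor_rel_of_isVersal R' V.ring hRS halg hver')
  have e₂ : V.ring.carrier ≃ₐ[R'.carrier] MvPowerSeries (Fin n) R'.carrier := e₁
  refine ⟨g, hg, n, AlgEquiv.restrictScalars Λ e₂, fun a => ?_, hgη⟩
  exact e₂.commutes a

end MinVersal2

end Groth.Agent.Helper3.ArtFunLib
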