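import Mathlib
import Groth.Prelude.Def_ModSite
import Groth.Prelude.Def_CohDer
import Groth.Prelude.Def_CohSite
import Groth.Agent.Lib.Helper3.QcSum4
import Groth.Agent.Lib.Helper3.CompDer6
import Groth.Agent.S0905

set_option autoImplicit false
universe u

open CategoryTheory Limits Opposite DerivedCategory

namespace Groth.Agent.Helper3.QcSum

open Groth.Agent.Helper3.CompDer Groth.Agent.Helper3.DCoprod

section ToSheaf'

variable {C : Type u} [SmallCategory C] {J : GrothendieckTopology C} (R : Sheaf J RingCat.{u})

/-- the forgetful functor from sheaves of modules to abelian sheaves preserves finite colimits -/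
theorem toSheaf_preservesFiniteColimits :
    PreservesFiniteColimits (SheafOfModules.toSheaf.{u} R) := by
  constructor
  intro K _ _
  exact preservesColimitsOfShape_of_reflective
    (PresheafOfModules.sheafification.{u} (𝟙 R.obj))
    (SheafOfModules.forget.{u} R ⋙ PresheafOfModules.restrictScalars (𝟙 R.obj))
    (PresheafOfModules.sheafificationAdjunction.{u} (𝟙 R.obj))
    (SheafOfModules.toSheaf.{u} R) (PresheafOfModules.toPresheaf.{u} R.obj)
    (presheafToSheaf J AddCommGrpCat.{u})
    (PresheafOfModules.sheafificationCompToSheaf.{u} (𝟙 R.obj))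

end ToSheaf'

section Proj

variable {C : Type u} [SmallCategory C] {J : GrothendieckTopology C}
  (O : Sheaf J CommRingCat.{u}) (U : C)

open Groth.Agent.Lib.Helper5.FreeOn

/-- `j_{U!} O_U` is projective when `U` is weakly contractible -/
theorem projective_freeOn (hwc : CohSite.IsWeaklyContractible J U) :
    Projective (ModSite.freeOn O U) where
  factors {F G} f e he := by
    haveI := toSheaf_preservesFiniteColimits (ModSite.ringSh O)
    haveI : Epi ((SheafOfModules.toSheaf (ModSite.ringSh O)).map e) := inferInstance
    obtain ⟨t, ht⟩ := Groth.Agent.S0905.surj_of_epi J U hwc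
      ((SheafOfModules.toSheaf (ModSite.ringSh O)).map e) (freeOnHomEquiv O U G f)
    refine ⟨(freeOnHomEquiv O U F).symm t, ?_⟩
    apply (freeOnHomEquiv O U G).injective
    rw [freeOnHomEquiv_naturality, Equiv.apply_symm_apply]
    exact ht

end Proj

section KP

universe v₁ u₁

variable {A : Type u₁} [Category.{v₁} A] [Abelian A]

lemma isKProjective_single_of_projective (P : A) [Projective P] :
    ((CochainComplex.singleFunctor A 0).obj P).IsKProjective := by
  haveI : ∀ n : ℤ, Projective (((CochainComplex.singleFunctor A 0).obj P).X n) := by
    intro n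
    by_cases h : n = 0
    · subst h
      exact Projective.of_iso (HomologicalComplex.singleObjXSelf (ComplexShape.up ℤ) 0 P).symm
        inferInstance
    · exact (HomologicalComplex.isZero_single_obj_X (ComplexShape.up ℤ) 0 P n h).projective
  exact CochainComplex.isKProjective_of_projective _ 0

end KP

section AB4

variable {C : Type u} [SmallCategory C] {J : GrothendieckTopology C}
  (O : Sheaf J CommRingCat.{u})

/-- coproducts are exact in the category of `O`-modules -/
theorem hasExactColimitsOfShape_discrete (I : Type u) :
    HasExactColimitsOfShape (Discrete I) (ModSite.Mod O) := by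
  haveI := toSheaf_preservesColimitsOfShape (ModSite.ringSh O) (Discrete I)
  exact HasExactColimitsOfShape.domain_of_functor (Discrete I)
    (SheafOfModules.toSheaf (ModSite.ringSh O))

end AB4

section Main

variable {C : Type u} [SmallCategory C] {J : GrothendieckTopology C}
  (O : Sheaf J CommRingCat.{u}) (U : C)

open Classical in
lemma h0_freeOn
    (hqc : CohCx.IsQcObject ((presheafToSheaf J (Type u)).obj (yoneda.obj U)))
    {I : Type u} (X : I → ModSite.Mod O) :
    Function.Bijective (Φ (ModSite.freeOn O U) X) := by
  haveI := s9103_main O U hqc I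
  have hc := isColimitOfHasCoproductOfPreservesColimit
    (preadditiveCoyoneda.obj (op (ModSite.freeOn O U))) X
  exact bijective_of_isColimit
    (fun i => (preadditiveCoyoneda.obj (op (ModSite.freeOn O U))).obj (X i)) _ hc

theorem s9037_main
    [HasDerivedCategory.{u} (ModSite.Mod O)] [HasCoproducts.{u} (DerivedCategory (ModSite.Mod O))]
    (hqc : CohCx.IsQcObject ((presheafToSheaf J (Type u)).obj (yoneda.obj U)))
    (hwc : CohSite.IsWeaklyContractible J U) :
    CohDer.IsCompactObject
      ((DerivedCategory.singleFunctor (ModSite.Mod O) 0).obj (ModSite.freeOn O U)) := by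
  intro ι X
  haveI := projective_freeOn O U hwc
  haveI : ((CochainComplex.singleFunctor (ModSite.Mod O) 0).obj (ModSite.freeOn O U)).IsKProjective :=
    isKProjective_single_of_projective (ModSite.freeOn O U)
  haveI := hasExactColimitsOfShape_discrete O ι
  let L : ι → CochainComplex (ModSite.Mod O) ℤ := fun i => Q.objPreimage (X i)
  have e : ∀ i, X i ≅ Q.obj (L i) := fun i => (Q.objObjPreimageIso (X i)).symm
  have hb := bijective_of_kprojective (ModSite.freeOn O U) (fun X => h0_freeOn O U hqc X) L
  exact bijective_homSumToHomCoprod_of_iso _ X (fun i => Q.obj (L i)) _ (isColimitCofan L) e hb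

end Main

end Groth.Agent.Helper3.QcSum
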