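import Mathlib
import Groth.Prelude.Def_ModSite
import Groth.Agent.Lib.Helper5.Misc.FreeOn
import Groth.Agent.Lib.Helper3.QcSum5

/-!
# Free modules `j_{U!} O_U` on a ringed site: sections, restriction maps, local lifting
-/

set_option autoImplicit false
universe u

open CategoryTheory Limits Opposite

namespace Groth.Agent.Helper3.ModLim

open Groth.Agent.Lib.Helper5.FreeOn Groth.Agent.Helper3.QcSum

variable {C : Type u} [SmallCategory C] {J : GrothendieckTopology C}
  (O : Sheaf J CommRingCat.{u})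

/-- morphisms out of `j_{U!} O_U` are sections over `U` -/
noncomputable abbrev sec (U : C) (F : ModSite.Mod O) :
    (ModSite.freeOn O U ⟶ F) ≃ F.val.obj (op U) := freeOnHomEquiv O U F

lemma sec_comp (U : C) {F G : ModSite.Mod O} (a : ModSite.freeOn O U ⟶ F) (b : F ⟶ G) :
    sec O U G (a ≫ b) = b.val.app (op U) (sec O U F a) :=
  freeOnHomEquiv_naturality O U a b

/-- the universal section of `j_{U!} O_U` over `U` -/
noncomputable def univSec (U : C) : (ModSite.freeOn O U).val.obj (op U) := sec O U _ (𝟙 _)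

lemma sec_eq (U : C) {F : ModSite.Mod O} (a : ModSite.freeOn O U ⟶ F) :
    sec O U F a = a.val.app (op U) (univSec O U) := by
  have := sec_comp O U (𝟙 _) a
  rwa [Category.id_comp] at this

/-- the map `j_{V!} O_V ⟶ j_{U!} O_U` attached to `f : V ⟶ U` -/
noncomputable def frMap {U V : C} (f : V ⟶ U) : ModSite.freeOn O V ⟶ ModSite.freeOn O U :=
  (sec O V _).symm ((ModSite.freeOn O U).val.map f.op (univSec O U))

lemma sec_map_comp {U V : C} (f : V ⟶ U) {F : ModSite.Mod O} (a : ModSite.freeOn O U ⟶ F) :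
    sec O V F (frMap O f ≫ a) = F.val.map f.op (sec O U F a) := by
  rw [sec_comp, frMap, Equiv.apply_symm_apply, sec_eq O U a]
  exact PresheafOfModules.naturality_apply a.val f.op (univSec O U)

lemma sec_add (U : C) {F : ModSite.Mod O} (a b : ModSite.freeOn O U ⟶ F) :
    sec O U F (a + b) = sec O U F a + sec O U F b := freeOnHomEquiv_add O U a b

lemma sec_zero (U : C) (F : ModSite.Mod O) : sec O U F 0 = 0 := by
  have := sec_add O U (0 : ModSite.freeOn O U ⟶ F) 0
  rw [add_zero] at this
  exact left_eq_add.mp this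

/-- the underlying abelian sheaf -/
noncomputable abbrev tAb : ModSite.Mod O ⥤ Sheaf J AddCommGrpCat.{u} :=
  SheafOfModules.toSheaf (ModSite.ringSh O)

lemma exists_local_lift {U : C} {P' : ModSite.Mod O} (π : P' ⟶ ModSite.freeOn O U) [Epi π] :
    ∃ S ∈ J U, ∀ ⦃V : C⦄ (f : V ⟶ U), S f →
      ∃ t : ModSite.freeOn O V ⟶ P', t ≫ π = frMap O f := by
  haveI := toSheaf_preservesFiniteColimits (ModSite.ringSh O)
  haveI : Epi ((tAb O).map π) := inferInstance
  have h1 : Sheaf.IsLocallySurjective ((tAb O).map π) :=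
    (Sheaf.isLocallySurjective_iff_epi' AddCommGrpCat.{u} ((tAb O).map π)).2 inferInstance
  refine ⟨Presheaf.imageSieve ((tAb O).map π).hom (univSec O U),
    Presheaf.imageSieve_mem J ((tAb O).map π).hom _, ?_⟩
  rintro V f ⟨p, hp⟩
  refine ⟨(sec O V P').symm p, ?_⟩
  apply (sec O V _).injective
  rw [sec_comp, Equiv.apply_symm_apply]
  refine Eq.trans hp ?_
  rw [frMap, Equiv.apply_symm_apply]
  rfl

/-- a section of a sheaf of modules which is locally zero is zero -/
lemma eq_zero_of_locally_zero (H : ModSite.Mod O) {U : C}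
    (s : H.val.obj (op U)) (S : Sieve U) (hS : S ∈ J U)
    (h : ∀ ⦃V : C⦄ (f : V ⟶ U), S f → H.val.map f.op s = 0) : s = 0 := by
  have hsh := (Presheaf.isSheaf_iff_isSheaf_forget J ((tAb O).obj H).obj
    (forget AddCommGrpCat.{u})).1 ((tAb O).obj H).property
  have hsep := (hsh.isSheafFor S hS).isSeparatedFor
  refine hsep.ext (t₁ := s) (t₂ := (0 : H.val.obj (op U))) ?_
  intro V f hf
  have h1 := h f hf
  have h2 : H.val.map f.op (0 : H.val.obj (op U)) = 0 := map_zero _
  exact h1.trans h2.symm

end Groth.Agent.Helper3.ModLim
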