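import Groth.Agent.Lib.Helper3.TrLim4

/-!
# An object of the derived category of abelian sheaves is the derived limit of its truncations
-/

universe u

open CategoryTheory Limits Opposite Pretriangulated

namespace Groth.Agent.Helper3.TrLim

section HoLim

variable {T : Type*} [Category T] [Preadditive T] [HasZeroObject T] [HasShift T ℤ]
  [∀ n : ℤ, (shiftFunctor T n).Additive] [Pretriangulated T]
  (K : ℕ → T) (t : ∀ n, K (n + 1) ⟶ K n) [HasProduct K]

/-- a homotopy limit exists and receives a map from every compatible cone -/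
lemma exists_holim (E : T) (a : ∀ n, E ⟶ K n) (ha : ∀ n, a (n + 1) ≫ t n = a n) :
    ∃ (L : T) (a' : ∀ n, L ⟶ K n) (f : E ⟶ L), CohCx.IsRlimVia K t L a' ∧
      ∀ n, f ≫ a' n = a n := by
  obtain ⟨L, i, c, hT⟩ := distinguished_cocone_triangle₁
    (Pi.lift fun n => Pi.π K n - Pi.π K (n + 1) ≫ t n)
  have h0 : Pi.lift a ≫ (Pi.lift fun n => Pi.π K n - Pi.π K (n + 1) ≫ t n) = 0 := by
    apply Pi.hom_ext
    intro n
    rw [Category.assoc, Pi.lift_π, Preadditive.comp_sub, Pi.lift_π, Pi.lift_π_assoc, ha, sub_self,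
      zero_comp]
  obtain ⟨f, hf⟩ : ∃ f : E ⟶ L, Pi.lift a = f ≫ i :=
    Triangle.coyoneda_exact₂ _ hT (Pi.lift a) h0
  refine ⟨L, fun n => i ≫ Pi.π K n, f, ⟨c, ?_⟩, fun n => ?_⟩
  · have : Pi.lift (fun n => i ≫ Pi.π K n) = i := by
      apply Pi.hom_ext; intro n; rw [Pi.lift_π]
    rw [this]
    exact hT
  · rw [← Category.assoc, ← hf, Pi.lift_π]

variable {K t}

lemma isRlimVia_of_iso {L E : T} {a' : ∀ n, L ⟶ K n} {a : ∀ n, E ⟶ K n}
    (hL : CohCx.IsRlimVia K t L a') (f : E ⟶ L) (hiso : IsIso f) (hf : ∀ n, f ≫ a' n = a n) :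
    CohCx.IsRlimVia K t E a := by
  obtain ⟨c, hc⟩ := hL
  refine ⟨c ≫ (shiftFunctor T (1 : ℤ)).map (inv f), isomorphic_distinguished _ hc _ ?_⟩
  let e : E ≅ L := asIso f
  refine Triangle.isoMk _ _ e (Iso.refl _) (Iso.refl _) ?_ ?_ ?_
  · change Pi.lift a ≫ 𝟙 _ = f ≫ Pi.lift a'
    rw [Category.comp_id]
    apply Pi.hom_ext; intro n
    rw [Pi.lift_π, Category.assoc, Pi.lift_π, hf]
  · change _ ≫ 𝟙 _ = 𝟙 _ ≫ _
    rw [Category.comp_id, Category.id_comp]
    rfl
  · change (c ≫ (shiftFunctor T (1 : ℤ)).map (inv f)) ≫ (shiftFunctor T (1 : ℤ)).map f = 𝟙 _ ≫ c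
    rw [Category.assoc, ← Functor.map_comp, IsIso.inv_hom_id, CategoryTheory.Functor.map_id,
      Category.id_comp]
    exact Category.comp_id _

end HoLim

section Site

variable {C : Type u} [SmallCategory C] {J : GrothendieckTopology C}
  [HasDerivedCategory.{u} (Sheaf J AddCommGrpCat.{u})]

lemma truncTower_compat (E : DerivedCategory (Sheaf J AddCommGrpCat.{u})) (n : ℕ) :
    CohCx.toTruncTower E (n + 1) ≫ CohCx.truncTowerMap E n = CohCx.toTruncTower E n :=
  (tS (A := Sheaf J AddCommGrpCat.{u})).π_natTransTruncGEOfLE_app _ _ _ E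

/-- `Hᵐ(E) → Hᵐ(τ_{≥ -n}E)` is an isomorphism as soon as `-n ≤ m` -/
lemma isIso_homology_toTruncTower (E : DerivedCategory (Sheaf J AddCommGrpCat.{u})) (m : ℤ)
    (n : ℕ) (h : -(n : ℤ) ≤ m) :
    IsIso ((DerivedCategory.homologyFunctor _ m).map (CohCx.toTruncTower E n)) :=
  isIso_homology_truncGEπ E (-(n : ℤ)) m h

/-- key step: given the injectivity of `Hᵐ(L) → Hᵐ(K n)` on sections over `Y` for some `n` with
`-n ≤ m`, sections of `Hᵐ(L)` over `Y` come from `Hᵐ(E)` -/
lemma exists_preimage_section (E L : DerivedCategory (Sheaf J AddCommGrpCat.{u}))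
    (a' : ∀ n, L ⟶ CohCx.truncTower E n) (f : E ⟶ L)
    (hf : ∀ n, f ≫ a' n = CohCx.toTruncTower E n) (m : ℤ) (n : ℕ) (hn : -(n : ℤ) ≤ m) (Y : C)
    (hinj : Function.Injective
      (((DerivedCategory.homologyFunctor _ m).map (a' n)).hom.app (op Y)))
    (s : ToType (((DerivedCategory.homologyFunctor _ m).obj L).obj.obj (op Y))) :
    ∃ u : ToType (((DerivedCategory.homologyFunctor _ m).obj E).obj.obj (op Y)),
      ((DerivedCategory.homologyFunctor _ m).map f).hom.app (op Y) u = s := by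
  haveI := isIso_homology_toTruncTower E m n hn
  let φ := (DerivedCategory.homologyFunctor (Sheaf J AddCommGrpCat.{u}) m).map
    (CohCx.toTruncTower E n)
  let u := (inv φ).hom.app (op Y)
    (((DerivedCategory.homologyFunctor _ m).map (a' n)).hom.app (op Y) s)
  refine ⟨u, hinj ?_⟩
  have h1 : (DerivedCategory.homologyFunctor _ m).map f ≫
      (DerivedCategory.homologyFunctor _ m).map (a' n) = φ := by
    rw [← Functor.map_comp, hf]
  have h2 := ConcreteCategory.congr_hom (congrArg (fun ψ => ψ.hom.app (op Y)) h1) u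
  refine h2.trans ?_
  have h3 : inv φ ≫ φ = 𝟙 _ := IsIso.inv_hom_id φ
  exact ConcreteCategory.congr_hom (congrArg (fun ψ => ψ.hom.app (op Y)) h3) _

theorem s0881_main (E : DerivedCategory (Sheaf J AddCommGrpCat.{u}))
    [HasProduct (CohCx.truncTower E)] (B : Set C)
    (hB : ∀ U : C, ∃ (ι : Type u) (Y : ι → C) (f : ∀ i, Y i ⟶ U),
      Sieve.ofArrows Y f ∈ J U ∧ ∀ i, Y i ∈ B)
    (h : ∀ V ∈ B, ∃ p : ℤ → ℤ, ∀ T ∈ J V, ∃ (ι : Type u) (Y : ι → C) (f : ∀ i, Y i ⟶ V),
      (∀ i, T.arrows (f i)) ∧ Sieve.ofArrows Y f ∈ J V ∧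
      ∀ (i : ι) (m : ℤ) (k : ℕ), p m < k →
        Subsingleton (CohSite.HU (CohCx.HD E (m - k)) k (Y i))) :
    CohCx.IsRlimVia (CohCx.truncTower E) (CohCx.truncTowerMap E) E (CohCx.toTruncTower E) := by
  obtain ⟨L, a', f, hL, hf⟩ := exists_holim (CohCx.truncTower E) (CohCx.truncTowerMap E) E
    (CohCx.toTruncTower E) (truncTower_compat E)
  refine isRlimVia_of_iso hL f ?_ hf
  rw [DerivedCategory.isIso_iff]
  intro m
  -- mono
  haveI hmono : Mono ((DerivedCategory.homologyFunctor _ m).map f) := by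
    haveI := isIso_homology_toTruncTower E m (-m).toNat (by
      have := Int.self_le_toNat (-m); omega)
    have h1 : (DerivedCategory.homologyFunctor _ m).map f ≫
        (DerivedCategory.homologyFunctor _ m).map (a' (-m).toNat) =
        (DerivedCategory.homologyFunctor _ m).map (CohCx.toTruncTower E (-m).toNat) := by
      rw [← Functor.map_comp, hf]
    haveI : Mono ((DerivedCategory.homologyFunctor _ m).map f ≫
        (DerivedCategory.homologyFunctor _ m).map (a' (-m).toNat)) := by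
      rw [h1]; infer_instance
    exact mono_of_mono _ ((DerivedCategory.homologyFunctor _ m).map (a' (-m).toNat))
  -- epi
  haveI hepi : Epi ((DerivedCategory.homologyFunctor _ m).map f) := by
    rw [← Sheaf.isLocallySurjective_iff_epi' AddCommGrpCat.{u}]
    constructor
    intro V s
    obtain ⟨ι, Y, g, hcov, hY⟩ := hB V
    refine J.superset_covering ?_ hcov
    intro V' g' hg'
    obtain ⟨i, b, rfl⟩ := (Sieve.mem_ofArrows_iff Y g g').1 hg'
    apply Sieve.downward_closed
    obtain ⟨p, hp⟩ := h (Y i) (hY i)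
    have hn : -((max (-m).toNat (thr p m) : ℕ) : ℤ) ≤ m := by
      have h1 := Int.self_le_toNat (-m)
      have h2 : ((-m).toNat : ℤ) ≤ ((max (-m).toNat (thr p m) : ℕ) : ℤ) := by
        exact_mod_cast le_max_left _ _
      omega
    have hinj := DLimInj.s0880_main (CohCx.truncTowerMap E) L a' hL (Y i) m
      (max (-m).toNat (thr p m)) (by
        intro T hT
        obtain ⟨ι', Y', f', hT', hcov', hvan⟩ := hp T hT
        refine ⟨ι', Y', f', hT', hcov', fun j => ⟨?_, fun k => ?_⟩⟩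
        · exact cond1 E (Y' j) p (hvan j) m
        · exact cond2 E (Y' j) p (hvan j) m _ (le_max_right _ _) k)
    exact exists_preimage_section E L a' f hf m _ hn (Y i) hinj _
  exact isIso_of_mono_of_epi _

end Site

end Groth.Agent.Helper3.TrLim
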