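import Groth.Agent.Lib.Helper3.ModLim5

/-!
# `E = Rlim τ_{≥ -n} E` in `D(O)`: the two criteria
-/

set_option autoImplicit false
universe u

open CategoryTheory Limits Opposite

namespace Groth.Agent.Helper3.ModLim

variable {C : Type u} [SmallCategory C] {J : GrothendieckTopology C}

/-- every covering sieve contains a covering family by members of a covering class -/
lemma exists_refinement (B : Set C)
    (hB : ∀ U : C, ∃ (ι : Type u) (Y : ι → C) (f : ∀ i, Y i ⟶ U),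
      Sieve.ofArrows Y f ∈ J U ∧ ∀ i, Y i ∈ B) (V : C) (T : Sieve V) (hT : T ∈ J V) :
    ∃ (ι : Type u) (Y : ι → C) (f : ∀ i, Y i ⟶ V), (∀ i, T.arrows (f i)) ∧
      Sieve.ofArrows Y f ∈ J V ∧ ∀ i, Y i ∈ B := by
  choose ιU YU fU hcovU hYU using hB
  refine ⟨Σ (W : C) (_ : {g : W ⟶ V // T.arrows g}), ιU W,
    fun x => YU x.1 x.2.2, fun x => fU x.1 x.2.2 ≫ x.2.1.1, ?_, ?_, ?_⟩
  · rintro ⟨W, g, i⟩
    exact T.downward_closed g.2 _
  · refine J.transitive hT _ ?_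
    intro W g hg
    refine J.superset_covering ?_ (hcovU W)
    intro W' k hk
    obtain ⟨i, b, rfl⟩ := (Sieve.mem_ofArrows_iff (YU W) (fU W) k).1 hk
    change (Sieve.ofArrows _ _).arrows ((b ≫ fU W i) ≫ g)
    rw [Category.assoc]
    apply Sieve.downward_closed
    exact Sieve.ofArrows_mk _ _ (⟨W, ⟨g, hg⟩, i⟩ : Σ (W : C) (_ : {g : W ⟶ V // T.arrows g}), ιU W)
  · rintro ⟨W, g, i⟩
    exact hYU W i

variable (O : Sheaf J CommRingCat.{u}) [HasDerivedCategory.{u} (ModSite.Mod O)]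

theorem s9042_main (E : DerivedCategory (ModSite.Mod O))
    [HasProduct (CohCx.truncTower E)] (B : Set C)
    (hB : ∀ U : C, ∃ (ι : Type u) (Y : ι → C) (f : ∀ i, Y i ⟶ U), Sieve.ofArrows Y f ∈ J U ∧ ∀ i, Y i ∈ B)
    (p : ℤ → ℤ)
    (h : ∀ V ∈ B, ∀ (m : ℤ) (k : ℕ), p m < k →
      Subsingleton (ModSite.HU O ((DerivedCategory.homologyFunctor (ModSite.Mod O) (m - k)).obj E) k V)) :
    CohCx.IsRlimVia (CohCx.truncTower E) (CohCx.truncTowerMap E) E (CohCx.toTruncTower E) := by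
  refine main O E B hB ?_
  intro V _
  refine ⟨p, fun T hT => ?_⟩
  obtain ⟨ι, Y, f, hf, hcov, hY⟩ := exists_refinement B hB V T hT
  exact ⟨ι, Y, f, hf, hcov, fun i m k hk => h (Y i) (hY i) m k hk⟩

theorem s9043_main (E : DerivedCategory (ModSite.Mod O))
    [HasProduct (CohCx.truncTower E)] (B : Set C)
    (hB : ∀ U : C, ∃ (ι : Type u) (Y : ι → C) (f : ∀ i, Y i ⟶ U), Sieve.ofArrows Y f ∈ J U ∧ ∀ i, Y i ∈ B)
    (h : ∀ V ∈ B, ∃ d : ℕ, ∀ T ∈ J V, ∃ (ι : Type u) (Y : ι → C) (f : ∀ i, Y i ⟶ V),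
      (∀ i, T.arrows (f i)) ∧ Sieve.ofArrows Y f ∈ J V ∧
      ∀ (i : ι) (q : ℤ) (k : ℕ), q < 0 → d < k →
        Subsingleton (ModSite.HU O ((DerivedCategory.homologyFunctor (ModSite.Mod O) q).obj E) k (Y i))) :
    CohCx.IsRlimVia (CohCx.truncTower E) (CohCx.truncTowerMap E) E (CohCx.toTruncTower E) := by
  refine main O E B hB ?_
  intro V hV
  obtain ⟨d, hd⟩ := h V hV
  refine ⟨fun m => max (d : ℤ) m, fun T hT => ?_⟩
  obtain ⟨ι, Y, f, hf, hcov, hvan⟩ := hd T hT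
  refine ⟨ι, Y, f, hf, hcov, fun i m k hk => ?_⟩
  have h1 : (d : ℤ) < k := lt_of_le_of_lt (le_max_left _ _) hk
  have h2 : m < k := lt_of_le_of_lt (le_max_right _ _) hk
  exact hvan i (m - k) k (by omega) (by exact_mod_cast h1)

end Groth.Agent.Helper3.ModLim
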