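import Groth.Agent.Lib.Helper3.ModLim1
import Groth.Agent.Lib.Helper6.DRef.Refine

/-!
# `H⁰(M)` of an object of `D(O)` is the sheafification of `U ↦ Hom(j_{U!} O_U[0], M)`
(local injectivity and local surjectivity of the comparison map)
-/

set_option autoImplicit false
universe w u

open CategoryTheory Limits Opposite HomologicalComplex DerivedCategory

namespace Groth.Agent.Helper3.ModLimW

open Groth.Agent.Helper3.ModLim

open Groth.Agent.Helper6.DRef

variable {C : Type u} [SmallCategory C] {J : GrothendieckTopology C}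
  (O : Sheaf J CommRingCat.{u}) [HasDerivedCategory.{w} (ModSite.Mod O)]

/-- the single functor in degree zero -/
noncomputable abbrev sg : ModSite.Mod O ⥤ DerivedCategory (ModSite.Mod O) :=
  DerivedCategory.singleFunctor (ModSite.Mod O) 0

/-- `H⁰` on the derived category of `O`-modules -/
noncomputable abbrev H0 : DerivedCategory (ModSite.Mod O) ⥤ ModSite.Mod O :=
  DerivedCategory.homologyFunctor (ModSite.Mod O) 0

/-- a morphism out of `j_{U!} O_U[0]` as a morphism out of `Q (j_{U!} O_U[0])`. -/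
noncomputable def toQ {M : DerivedCategory (ModSite.Mod O)} {U : C}
    (ξ : (sg O).obj (ModSite.freeOn O U) ⟶ M) : Q.obj (sgl (ModSite.freeOn O U)) ⟶ M := ξ

/-- the comparison map on sections -/
noncomputable def phiFun (M : DerivedCategory (ModSite.Mod O)) (U : C)
    (ξ : (sg O).obj (ModSite.freeOn O U) ⟶ M) : ((H0 O).obj M).val.obj (op U) :=
  sec O U _ (cls (toQ O ξ))

lemma phiFun_add (M : DerivedCategory (ModSite.Mod O)) (U : C)
    (ξ ξ' : (sg O).obj (ModSite.freeOn O U) ⟶ M) :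
    phiFun O M U (ξ + ξ') = phiFun O M U ξ + phiFun O M U ξ' := by
  unfold phiFun
  rw [← sec_add, ← cls_add]
  rfl

lemma phiFun_zero (M : DerivedCategory (ModSite.Mod O)) (U : C) :
    phiFun O M U 0 = 0 := by
  have := phiFun_add O M U 0 0
  rw [add_zero] at this
  exact left_eq_add.mp this

lemma phiFun_map (M : DerivedCategory (ModSite.Mod O)) {U V : C} (f : V ⟶ U)
    (ξ : (sg O).obj (ModSite.freeOn O U) ⟶ M) :
    phiFun O M V ((sg O).map (frMap O f) ≫ ξ) =
      ((H0 O).obj M).val.map f.op (phiFun O M U ξ) := by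
  unfold phiFun
  rw [← sec_map_comp, ← cls_precomp]
  rfl

lemma phiFun_postcomp {M M' : DerivedCategory (ModSite.Mod O)} (κ : M ⟶ M') (U : C)
    (ξ : (sg O).obj (ModSite.freeOn O U) ⟶ M) :
    phiFun O M' U (ξ ≫ κ) = ((H0 O).map κ).val.app (op U) (phiFun O M U ξ) := by
  unfold phiFun
  have : cls (toQ O (ξ ≫ κ)) = cls (toQ O ξ) ≫ (H0 O).map κ := cls_postcomp (toQ O ξ) κ
  rw [this, sec_comp]

lemma phiFun_eq_zero_iff (M : DerivedCategory (ModSite.Mod O)) (U : C)
    (ξ : (sg O).obj (ModSite.freeOn O U) ⟶ M) :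
    phiFun O M U ξ = 0 ↔ cls (toQ O ξ) = 0 := by
  unfold phiFun
  rw [← sec_zero O U, (sec O U _).apply_eq_iff_eq]

/-- local injectivity of the comparison map -/
theorem phi_locInj (M : DerivedCategory (ModSite.Mod O)) (U : C)
    (x : (sg O).obj (ModSite.freeOn O U) ⟶ M) (h0 : phiFun O M U x = 0) :
    ∃ S ∈ J U, ∀ ⦃V : C⦄ (f : V ⟶ U), S f → (sg O).map (frMap O f) ≫ x = 0 := by
  rw [phiFun_eq_zero_iff] at h0
  obtain ⟨P', π, hπ, hk⟩ := exists_epi_kill (toQ O x) h0
  obtain ⟨S, hS, hlift⟩ := exists_local_lift O π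
  refine ⟨S, hS, ?_⟩
  intro V f hf
  obtain ⟨t, ht⟩ := hlift f hf
  rw [← ht, Functor.map_comp, Category.assoc]
  have hk' : (sg O).map π ≫ x = 0 := hk
  rw [hk', comp_zero]

/-- local surjectivity of the comparison map -/
theorem phi_locSurj (M : DerivedCategory (ModSite.Mod O)) (U : C)
    (s : ((H0 O).obj M).val.obj (op U)) :
    ∃ S ∈ J U, ∀ ⦃V : C⦄ (f : V ⟶ U), S f →
      ∃ ξ : (sg O).obj (ModSite.freeOn O V) ⟶ M,
        phiFun O M V ξ = ((H0 O).obj M).val.map f.op s := by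
  obtain ⟨P', π, hπ, ξ, hξ⟩ := exists_epi_lift ((sec O U _).symm s)
  obtain ⟨S, hS, hlift⟩ := exists_local_lift O π
  refine ⟨S, hS, ?_⟩
  intro V f hf
  obtain ⟨t, ht⟩ := hlift f hf
  let ξ' : (sg O).obj (ModSite.freeOn O V) ⟶ M := (sg O).map t ≫ ξ
  refine ⟨ξ', ?_⟩
  unfold phiFun
  have h1 : cls (toQ O ξ') = t ≫ cls ξ := cls_precomp t ξ
  rw [h1, hξ, ← Category.assoc, ht, sec_map_comp, Equiv.apply_symm_apply]

end Groth.Agent.Helper3.ModLimW
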