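import Groth.Agent.Lib.Helper3.ModLimW4
import Groth.Agent.Lib.Helper3.ModLim6
import Groth.Agent.Lib.Helper3.TrLim5

/-!
# An object of the derived category of `O`-modules is the derived limit of its truncations
-/

set_option autoImplicit false
universe w u

open CategoryTheory Limits Opposite Pretriangulated

namespace Groth.Agent.Helper3.ModLimW

open Groth.Agent.Helper3.ModLim

open Groth.Agent.Helper3.TrLim Groth.Agent.Helper3.QcSum

variable {C : Type u} [SmallCategory C] {J : GrothendieckTopology C}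
  (O : Sheaf J CommRingCat.{u}) [HasExt.{u} (ModSite.Mod O)] [HasDerivedCategory.{w} (ModSite.Mod O)]

lemma truncTower_compat (E : DerivedCategory (ModSite.Mod O)) (n : ℕ) :
    CohCx.toTruncTower E (n + 1) ≫ CohCx.truncTowerMap E n = CohCx.toTruncTower E n :=
  (tS (A := ModSite.Mod O)).π_natTransTruncGEOfLE_app _ _ _ E

/-- `Hᵐ(E) → Hᵐ(τ_{≥ -n}E)` is an isomorphism as soon as `-n ≤ m` -/
lemma isIso_homology_toTruncTower (E : DerivedCategory (ModSite.Mod O)) (m : ℤ)
    (n : ℕ) (h : -(n : ℤ) ≤ m) :
    IsIso ((DerivedCategory.homologyFunctor _ m).map (CohCx.toTruncTower E n)) :=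
  isIso_homology_truncGEπ E (-(n : ℤ)) m h

variable {O}

/-- key step: given the injectivity of `Hᵐ(L) → Hᵐ(K n)` on sections over `Y` for some `n` with
`-n ≤ m`, sections of `Hᵐ(L)` over `Y` come from `Hᵐ(E)` -/
lemma exists_preimage_section (E L : DerivedCategory (ModSite.Mod O))
    (a' : ∀ n, L ⟶ CohCx.truncTower E n) (f : E ⟶ L)
    (hf : ∀ n, f ≫ a' n = CohCx.toTruncTower E n) (m : ℤ) (n : ℕ) (hn : -(n : ℤ) ≤ m) (Y : C)
    (hinj : Function.Injective
      (((DerivedCategory.homologyFunctor _ m).map (a' n)).val.app (op Y)))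
    (s : ((DerivedCategory.homologyFunctor _ m).obj L).val.obj (op Y)) :
    ∃ u : ((DerivedCategory.homologyFunctor _ m).obj E).val.obj (op Y),
      ((DerivedCategory.homologyFunctor _ m).map f).val.app (op Y) u = s := by
  haveI := isIso_homology_toTruncTower O E m n hn
  let φ := (DerivedCategory.homologyFunctor (ModSite.Mod O) m).map (CohCx.toTruncTower E n)
  let u := (inv φ).val.app (op Y)
    (((DerivedCategory.homologyFunctor _ m).map (a' n)).val.app (op Y) s)
  refine ⟨u, hinj ?_⟩
  have h1 : (DerivedCategory.homologyFunctor _ m).map f ≫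
      (DerivedCategory.homologyFunctor _ m).map (a' n) = φ := by
    rw [← Functor.map_comp, hf]
  have h2 := ConcreteCategory.congr_hom (congrArg (fun ψ => ψ.val.app (op Y)) h1) u
  refine h2.trans ?_
  have h3 : inv φ ≫ φ = 𝟙 _ := IsIso.inv_hom_id φ
  exact ConcreteCategory.congr_hom (congrArg (fun ψ => ψ.val.app (op Y)) h3) _

variable (O)

theorem main (E : DerivedCategory (ModSite.Mod O))
    [HasProduct (CohCx.truncTower E)] (B : Set C)
    (hB : ∀ U : C, ∃ (ι : Type u) (Y : ι → C) (f : ∀ i, Y i ⟶ U),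
      Sieve.ofArrows Y f ∈ J U ∧ ∀ i, Y i ∈ B)
    (h : ∀ V ∈ B, ∃ p : ℤ → ℤ, ∀ T ∈ J V, ∃ (ι : Type u) (Y : ι → C) (f : ∀ i, Y i ⟶ V),
      (∀ i, T.arrows (f i)) ∧ Sieve.ofArrows Y f ∈ J V ∧
      ∀ (i : ι) (m : ℤ) (k : ℕ), p m < k →
        Subsingleton (ModSite.HU O
          ((DerivedCategory.homologyFunctor (ModSite.Mod O) (m - k)).obj E) k (Y i))) :
    CohCx.IsRlimVia (CohCx.truncTower E) (CohCx.truncTowerMap E) E (CohCx.toTruncTower E) := by
  obtain ⟨L, a', f, hL, hf⟩ := exists_holim (CohCx.truncTower E) (CohCx.truncTowerMap E) E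
    (CohCx.toTruncTower E) (truncTower_compat O E)
  refine isRlimVia_of_iso hL f ?_ hf
  rw [DerivedCategory.isIso_iff]
  intro m
  -- mono
  haveI hmono : Mono ((DerivedCategory.homologyFunctor _ m).map f) := by
    haveI := isIso_homology_toTruncTower O E m (-m).toNat (by
      have := Int.self_le_toNat (-m); omega)
    have h1 : (DerivedCategory.homologyFunctor _ m).map f ≫
        (DerivedCategory.homologyFunctor _ m).map (a' (-m).toNat) =
        (DerivedCategory.homologyFunctor _ m).map (CohCx.toTruncTower E (-m).toNat) := by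
      rw [← Functor.map_comp, hf]
    haveI : Mono ((DerivedCategory.homologyFunctor _ m).map f ≫
        (DerivedCategory.homologyFunctor _ m).map (a' (-m).toNat)) := by
      rw [h1]; infer_instance
    exact mono_of_mono _ ((DerivedCategory.homologyFunctor _ m).map (a' (-m).toNat))
  -- epi
  haveI hepi : Epi ((DerivedCategory.homologyFunctor _ m).map f) := by
    haveI : (tAb O).Faithful := by dsimp only [tAb]; infer_instance
    apply (tAb O).epi_of_epi_map
    rw [← Sheaf.isLocallySurjective_iff_epi' AddCommGrpCat.{u}]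
    constructor
    intro V s
    obtain ⟨ι, Y, g, hcov, hY⟩ := hB V
    refine J.superset_covering ?_ hcov
    intro V' g' hg'
    obtain ⟨i, b, rfl⟩ := (Sieve.mem_ofArrows_iff Y g g').1 hg'
    apply Sieve.downward_closed
    obtain ⟨p, hp⟩ := h (Y i) (hY i)
    have hn : -((max (-m).toNat (thr p m) : ℕ) : ℤ) ≤ m := by
      have h1 := Int.self_le_toNat (-m)
      have h2 : ((-m).toNat : ℤ) ≤ ((max (-m).toNat (thr p m) : ℕ) : ℤ) := by
        exact_mod_cast le_max_left _ _
      omega
    have hinj := injective_homology (CohCx.truncTowerMap E) L a' hL (Y i) m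
      (max (-m).toNat (thr p m)) (by
        intro T hT
        obtain ⟨ι', Y', f', hT', hcov', hvan⟩ := hp T hT
        refine ⟨ι', Y', f', hT', hcov', fun j => ⟨?_, fun k => ?_⟩⟩
        · exact cond1 O E (Y' j) p (hvan j) m
        · exact cond2 O E (Y' j) p (hvan j) m _ (le_max_right _ _) k)
    exact exists_preimage_section E L a' f hf m _ hn (Y i) hinj _
  exact isIso_of_mono_of_epi _

end Groth.Agent.Helper3.ModLimW
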