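import Mathlib
import Groth.Agent.Lib.Lead.MP3

/-!
# Minimality of the first factor of a minimal composite of ambient morphisms of modulus pairs
-/

set_option autoImplicit false
universe u

namespace Groth.Agent.Helper3.ModPairMin1

open CategoryTheory CategoryTheory.Limits AlgebraicGeometry TopologicalSpace
open Groth.Agent.Helper4 Groth.Agent.Lead.MP

/-- a locally principal ideal sheaf containing an effective Cartier ideal is effective Cartier. -/
theorem isEffCartier_of_le {Y : Scheme.{u}} {J J' : Y.IdealSheafData}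
    (hJ : BlowUp.IsEffCartierIdeal J) (hloc : LocPrincipal J') (hle : J ≤ J') :
    BlowUp.IsEffCartierIdeal J' := by
  intro y
  obtain ⟨W, hyW, b, hb⟩ := hloc y
  obtain ⟨V, hyV, hVW, a, ha, hJa⟩ := EffCartier.shrink hJ y W.1 hyW
  have hJ'V : J'.ideal V = Ideal.span {(Y.presheaf.map (homOfLE hVW).op).hom b} := by
    rw [← J'.map_ideal (U := V) (V := W) hVW, hb, Ideal.map_span, Set.image_singleton]
    rfl
  have haJ' : a ∈ J'.ideal V := hle V (hJa ▸ Ideal.subset_span rfl)
  rw [hJ'V] at haJ'
  obtain ⟨c, hc⟩ := Ideal.mem_span_singleton'.mp haJ'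
  refine ⟨V, hyV, _, ?_, hJ'V⟩
  rw [← hc] at ha
  exact (mul_mem_nonZeroDivisors.mp ha).2

theorem main {X Y Z : Scheme.{u}}
    (I : X.IdealSheafData) (J : Y.IdealSheafData) (K : Z.IdealSheafData)
    (hI : BlowUp.IsEffCartierIdeal I) (hJ : BlowUp.IsEffCartierIdeal J)
    (hK : BlowUp.IsEffCartierIdeal K) (f : X ⟶ Y) (g : Y ⟶ Z)
    (hf : ModPair.IsAmbient I J f) (hg : ModPair.IsAmbient J K g)
    (hfg : ModPair.IsMinimal I K (f ≫ g)) :
    ModPair.IsMinimal I J f ∧
      ∃ U : Y.Opens, QuasiCompact U.ι ∧ Set.range f.base ⊆ (U : Set Y) ∧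
        ModPair.IsMinimal (J.comap U.ι) K (U.ι ≫ g) := by
  have hf' : I ≤ J.comap f := hf
  have hg' : J ≤ K.comap g := hg
  have hfg' : I = K.comap (f ≫ g) := hfg
  have hmin : I = J.comap f := by
    apply le_antisymm hf'
    calc J.comap f ≤ (K.comap g).comap f := Scheme.IdealSheafData.comap_mono f hg'
      _ = K.comap (f ≫ g) := (Scheme.IdealSheafData.comap_comp K f g).symm
      _ = I := hfg'.symm
  refine ⟨hmin, ?_⟩
  have hlocJ' : LocPrincipal (K.comap g) := (LocPrincipal.of_isEffCartier hK).comap g
  have hJ'eff : BlowUp.IsEffCartierIdeal (K.comap g) := isEffCartier_of_le hJ hlocJ' hg'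
  have hCmul := colonSheaf_mul J (K.comap g) hJ'eff hg'
  set C := colonSheaf J (K.comap g) (fg_of_locPrincipal (LocPrincipal.of_isEffCartier hJ'eff))
    with hC
  have hCeff : BlowUp.IsEffCartierIdeal C := isEffCartier_of_mul hJ'eff hJ hCmul
  have hUaff : IsAffineHom (ModPair.interior C).ι :=
    isAffineHom_of_locPrincipal (LocPrincipal.of_isEffCartier hCeff) (ModPair.interior C)
      (fun x => Iff.rfl)
  refine ⟨ModPair.interior C, inferInstance, ?_, ?_⟩
  · have h1 : C.comap f * (K.comap g).comap f = J.comap f := by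
      rw [← EffCartier.comap_mul, hCmul]
    have h2 : (K.comap g).comap f = I := by
      rw [← Scheme.IdealSheafData.comap_comp]; exact hfg'.symm
    have h3 : C.comap f * I = ⊤ * I := by
      rw [← Scheme.IdealSheafData.one_eq_top, one_mul]
      rw [h2, ← hmin] at h1
      exact h1
    have hCf : C.comap f = ⊤ := eq_of_mul_eq_mul_right hI h3
    rintro _ ⟨x, rfl⟩
    show f x ∉ C.support
    intro hx
    have hx' : x ∈ (C.comap f).support := by
      rw [Scheme.IdealSheafData.support_comap]; exact hx
    rw [hCf] at hx'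
    exact hx'
  · show J.comap (ModPair.interior C).ι = K.comap ((ModPair.interior C).ι ≫ g)
    have hCU : C.comap (ModPair.interior C).ι = ⊤ := by
      rw [← Scheme.IdealSheafData.support_eq_bot_iff]
      ext z
      simp only [Scheme.IdealSheafData.support_comap, Closeds.coe_preimage, Set.mem_preimage,
        Closeds.coe_bot, Set.mem_empty_iff_false, iff_false]
      exact z.2
    have h1 : C.comap (ModPair.interior C).ι * (K.comap g).comap (ModPair.interior C).ι =
        J.comap (ModPair.interior C).ι := by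
      rw [← EffCartier.comap_mul, hCmul]
    rw [hCU, ← Scheme.IdealSheafData.one_eq_top, one_mul] at h1
    rw [← h1, Scheme.IdealSheafData.comap_comp]

end Groth.Agent.Helper3.ModPairMin1
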