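import Mathlib
import Groth.Agent.Lib.Lead.MP2
import Groth.Agent.Lib.Helper7.VCov3

/-!
# A modulus is trivial if it is trivial along all valuation rings
-/

set_option autoImplicit false
universe u

namespace Groth.Agent.Helper3.ModPairVal1

open CategoryTheory CategoryTheory.Limits AlgebraicGeometry TopologicalSpace
open Groth.Agent.Helper4

theorem main {X : Scheme.{u}} (I : X.IdealSheafData) (hI : BlowUp.IsEffCartierIdeal I)
    (h : ∀ (R : Type u) [CommRing R] [IsDomain R] [ValuationRing R]
      (p : Spec (CommRingCat.of R) ⟶ X), BlowUp.IsEffCartierIdeal (I.comap p) → I.comap p = ⊤) :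
    I = ⊤ := by
  rw [← Scheme.IdealSheafData.support_eq_bot_iff]
  by_contra hne
  have hsupp : (I.support : Set X).Nonempty := by
    rw [Set.nonempty_iff_ne_empty]
    intro h0
    apply hne
    apply TopologicalSpace.Closeds.ext
    exact h0.trans TopologicalSpace.Closeds.coe_bot.symm
  obtain ⟨x, hx⟩ := hsupp
  obtain ⟨s', hs's, hs'int⟩ := Groth.Agent.Lead.MP.exists_generization_mem_interior I hI x
  obtain ⟨W, _, _, p, hp1, hp2⟩ :=
    Groth.Agent.Helper7.VCov.exists_valuationRing_of_specializes hs's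
  obtain ⟨V, hxV, a, ha, hIa⟩ := hI x
  have e : (⊤ : (Spec W).Opens) ≤ p ⁻¹ᵁ V.1 := by
    intro y _
    show p y ∈ V.1
    have hy : y ⤳ IsLocalRing.closedPoint W := IsLocalRing.specializes_closedPoint y
    have h1 := hy.map p.continuous
    rw [hp2] at h1
    exact h1.mem_open V.1.2 hxV
  let U : (Spec W).affineOpens := ⟨⊤, isAffineOpen_top _⟩
  have hideal := IdealComap.ideal_comap_eq_map p I U V e
  rw [hIa, Ideal.map_span, Set.image_singleton] at hideal
  have hf0 : (p.appLE V.1 U.1 e).hom a ≠ 0 := by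
    intro h0
    have hs'V : s' ∈ V.1 := hs's.mem_open V.1.2 hxV
    have h1 : s' ∈ X.basicOpen a :=
      (EffCartier.mem_basicOpen_iff_not_mem_support V a hIa s' hs'V).mpr hs'int
    have h2 : (⟨⊥, Ideal.isPrime_bot⟩ : PrimeSpectrum W) ∈ p ⁻¹ᵁ X.basicOpen a := by
      show p (⟨⊥, Ideal.isPrime_bot⟩ : PrimeSpectrum W) ∈ X.basicOpen a
      rw [hp1]; exact h1
    rw [Scheme.preimage_basicOpen] at h2
    have h3 : (Spec W).basicOpen ((p.appLE V.1 U.1 e).hom a) = ⊥ := by
      rw [h0]; exact Scheme.basicOpen_zero _ _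
    have h4 : (Spec W).basicOpen ((p.appLE V.1 U.1 e).hom a) =
        (Spec W).basicOpen ((p.app V.1).hom a) := by
      rw [Scheme.Hom.appLE, CommRingCat.hom_comp, RingHom.comp_apply, Scheme.basicOpen_res]
      exact top_inf_eq _
    rw [← h4, h3] at h2
    exact h2
  have heff : BlowUp.IsEffCartierIdeal (I.comap p) := by
    intro y
    exact ⟨U, trivial, _, mem_nonZeroDivisors_of_ne_zero hf0, hideal⟩
  have htop := h W p heff
  have hx' : IsLocalRing.closedPoint W ∈ (I.comap p).support := by
    rw [Scheme.IdealSheafData.support_comap]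
    show p (IsLocalRing.closedPoint W) ∈ I.support
    rw [hp2]; exact hx
  rw [htop] at hx'
  exact hx'

end Groth.Agent.Helper3.ModPairVal1
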