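import Groth.Agent.Lib.Helper3.MooreCore

/-!
# Surjective homomorphisms of simplicial abelian groups are Kan fibrations (helper3)
-/

namespace Groth.Agent.Helper3.Moore

open CategoryTheory Simplicial SSet Opposite

universe u

section Ab

variable (X : SimplicialObject AddCommGrpCat.{u})

lemma ab_hDD {m : ℕ} (i j : Fin (m + 2)) (a b : Fin (m + 3)) (ha : a.val = j.val + 1)
    (hb : b.val = i.val) (hij : i.val ≤ j.val) (y : X _⦋m + 1 + 1⦌) :
    (X.δ i).hom ((X.δ a).hom y) = (X.δ j).hom ((X.δ b).hom y) := by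
  obtain rfl : a = j.succ := Fin.ext (by simp [ha])
  obtain rfl : b = i.castSucc := Fin.ext (by simp [hb])
  have H : i ≤ j := hij
  have := congrArg (fun g => g.hom y) (X.δ_comp_δ H)
  simpa using this

lemma ab_hDSlt {m : ℕ} (j : Fin (m + 3)) (r : Fin (m + 2)) (j' : Fin (m + 2)) (r' : Fin (m + 1))
    (hj : j'.val = j.val) (hr : r.val = r'.val + 1) (hjr : j.val < r.val) (z : X _⦋m + 1⦌) :
    (X.δ j).hom ((X.σ r).hom z) = (X.σ r').hom ((X.δ j').hom z) := by
  obtain rfl : j = j'.castSucc := Fin.ext (by simp [hj])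
  obtain rfl : r = r'.succ := Fin.ext (by simp [hr])
  have H : j' ≤ r'.castSucc := by
    rw [Fin.le_iff_val_le_val]
    simp only [Fin.val_castSucc, Fin.val_succ] at hjr ⊢
    omega
  have := congrArg (fun g => g.hom z) (X.δ_comp_σ_of_le H)
  simpa using this

lemma ab_hDSeq {m : ℕ} (j : Fin (m + 3)) (r : Fin (m + 2))
    (h : j.val = r.val ∨ j.val = r.val + 1) (z : X _⦋m + 1⦌) :
    (X.δ j).hom ((X.σ r).hom z) = z := by
  rcases h with h | h
  · obtain rfl : j = r.castSucc := Fin.ext (by simp [h])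
    have := congrArg (fun g => g.hom z) (X.δ_comp_σ_self (i := r))
    simpa using this
  · obtain rfl : j = r.succ := Fin.ext (by simp [h])
    have := congrArg (fun g => g.hom z) (X.δ_comp_σ_succ (i := r))
    simpa using this

lemma ab_hDSgt {m : ℕ} (j : Fin (m + 3)) (r : Fin (m + 2)) (j' : Fin (m + 2)) (r' : Fin (m + 1))
    (hj : j.val = j'.val + 1) (hr : r.val = r'.val) (hjr : r.val + 1 < j.val) (z : X _⦋m + 1⦌) :
    (X.δ j).hom ((X.σ r).hom z) = (X.σ r').hom ((X.δ j').hom z) := by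
  obtain rfl : j = j'.succ := Fin.ext (by simp [hj])
  obtain rfl : r = r'.castSucc := Fin.ext (by simp [hr])
  have H : r'.castSucc < j' := by
    rw [Fin.lt_def]
    simp only [Fin.val_castSucc, Fin.val_succ] at hjr ⊢
    omega
  have := congrArg (fun g => g.hom z) (X.δ_comp_σ_of_gt H)
  simpa using this

lemma ab_hds0 (j : Fin 2) (z : X _⦋0⦌) : (X.δ j).hom ((X.σ 0).hom z) = z := by
  fin_cases j
  · have := congrArg (fun g => g.hom z) (X.δ_comp_σ_self (i := (0 : Fin 1)))
    simpa using this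
  · have := congrArg (fun g => g.hom z) (X.δ_comp_σ_succ (i := (0 : Fin 1)))
    simpa using this

variable {X} {Y : SimplicialObject AddCommGrpCat.{u}} (f : X ⟶ Y)

lemma ab_f_δ {n : ℕ} (j : Fin (n + 2)) (w : X _⦋n + 1⦌) :
    (f.app (op ⦋n⦌)).hom ((X.δ j).hom w) = (Y.δ j).hom ((f.app (op ⦋n + 1⦌)).hom w) := by
  have := congrArg (fun g => g.hom w) (f.naturality (SimplexCategory.δ j).op)
  simpa [SimplicialObject.δ] using this

lemma ab_f_σ {n : ℕ} (j : Fin (n + 1)) (w : X _⦋n⦌) :
    (f.app (op ⦋n + 1⦌)).hom ((X.σ j).hom w) = (Y.σ j).hom ((f.app (op ⦋n⦌)).hom w) := by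
  have := congrArg (fun g => g.hom w) (f.naturality (SimplexCategory.σ j).op)
  simpa [SimplicialObject.σ] using this

variable {G H : SimplicialObject AddCommGrpCat.{u}} (f : G ⟶ H)

/-- A degreewise surjective homomorphism of simplicial abelian groups is a Kan fibration. -/
theorem kanFibration_of_surjective
    (hf : ∀ n : SimplexCategoryᵒᵖ, Function.Surjective (f.app n)) :
    SSet.modelCategoryQuillen.J.rlp (X := G ⋙ forget AddCommGrpCat.{u})
      (Y := H ⋙ forget AddCommGrpCat.{u}) (Functor.whiskerRight f (forget AddCommGrpCat.{u})) := by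
  intro A B g hg
  simp only [SSet.modelCategoryQuillen.J, MorphismProperty.iSup_iff] at hg
  obtain ⟨n, ⟨i⟩⟩ := hg
  refine ⟨fun {t b} sq => ?_⟩
  -- the target simplex and a lift
  let y : H _⦋n + 1⦌ := SSet.yonedaEquiv b
  obtain ⟨w₀, hw₀⟩ := hf (op ⦋n + 1⦌) y
  have hw₀' : (f.app (op ⦋n + 1⦌)).hom w₀ = y := hw₀
  -- the faces of the horn
  let fj : ∀ (j : Fin (n + 2)) (_ : j ≠ i), Δ[n] ⟶ (G ⋙ forget AddCommGrpCat.{u}) :=
    fun j hj => horn.ι i j hj ≫ t
  have hcompat : horn.IsCompatible fj := horn.IsCompatible.of_hom t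
  have hkey : ∀ (j : Fin (n + 2)) (hj : j ≠ i),
      (f.app (op ⦋n⦌)).hom (SSet.yonedaEquiv (fj j hj) : G _⦋n⦌) = (H.δ j).hom y := by
    intro j hj
    have h1 : fj j hj ≫ Functor.whiskerRight f (forget AddCommGrpCat.{u}) = stdSimplex.δ j ≫ b := by
      simp only [fj, Category.assoc, sq.w]
      rw [← Category.assoc, horn.ι_ι]
    have h2 := congrArg SSet.yonedaEquiv h1
    rw [stdSimplex.yonedaEquiv_δ_comp] at h2
    exact h2
  -- it suffices to find `w`
  suffices h : ∃ w : G _⦋n + 1⦌, (∀ (j : Fin (n + 2)) (hj : j ≠ i),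
      (G.δ j).hom w = (SSet.yonedaEquiv (fj j hj) : G _⦋n⦌)) ∧
      (f.app (op ⦋n + 1⦌)).hom w = y by
    obtain ⟨w, hw, hfw⟩ := h
    refine ⟨⟨{ l := SSet.yonedaEquiv.symm (w : (G ⋙ forget AddCommGrpCat.{u}) _⦋n + 1⦌)
               fac_left := ?_
               fac_right := ?_ }⟩⟩
    · apply horn.hom_ext'
      intro j hj
      rw [← Category.assoc, horn.ι_ι, stdSimplex.δ_comp_yonedaEquiv_symm]
      have : SimplicialObject.δ (G ⋙ forget AddCommGrpCat.{u}) j w =
          SSet.yonedaEquiv (fj j hj) := hw j hj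
      rw [this]
      exact SSet.yonedaEquiv.symm_apply_apply _
    · rw [SSet.yonedaEquiv_symm_comp]
      have : (Functor.whiskerRight f (forget AddCommGrpCat.{u})).app (op ⦋n + 1⦌) w =
          SSet.yonedaEquiv b := hfw
      rw [this]
      exact SSet.yonedaEquiv.symm_apply_apply _
  obtain _ | m := n
  · -- dimension one
    obtain ⟨l, hl⟩ : ∃ l : Fin 2, l ≠ i := by
      by_cases h : i = 0
      · exact ⟨1, by rw [h]; decide⟩
      · exact ⟨0, fun h' => h h'.symm⟩
    have key : ∀ (j l k : Fin 2), j ≠ k → l ≠ k → j = l := by decide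
    let x : G _⦋0⦌ := SSet.yonedaEquiv (fj l hl)
    obtain ⟨w, hw, hQw⟩ := add_moore_zero (fun j : Fin 2 => (G.δ j).hom) (G.σ 0).hom (ab_hds0 G) i x
      (fun w' => (f.app (op ⦋0 + 1⦌)).hom w' = y) w₀ hw₀'
      (by
        intro w' l' hl' hQ
        obtain rfl : l' = l := key l' l i hl' hl
        simp only [map_add, map_neg, hQ, ab_f_σ, ab_f_δ]
        rw [hkey l' hl]
        simp)
    refine ⟨w, ?_, hQw⟩
    intro j hj
    obtain rfl : j = l := key j l i hj hl
    exact hw j hj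
  · let x : Fin (m + 3) → G _⦋m + 1⦌ := fun j =>
      if hj : j = i then 0 else SSet.yonedaEquiv (fj j hj)
    have hxj : ∀ (j : Fin (m + 3)) (hj : j ≠ i), x j = SSet.yonedaEquiv (fj j hj) := by
      intro j hj
      simp only [x, dif_neg hj]
    rw [horn.isCompatible_iff] at hcompat
    obtain ⟨w, hw, hQw⟩ := add_moore_core (fun j : Fin (m + 3) => (G.δ j).hom)
      (fun r : Fin (m + 2) => (G.σ r).hom) (fun j : Fin (m + 2) => (G.δ j).hom)
      (fun r : Fin (m + 1) => (G.σ r).hom) (ab_hDD G) (ab_hDSlt G) (ab_hDSeq G) (ab_hDSgt G)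
      i x
      (by
        intro j l j' l' hj hl hjl hj' hl'
        have hjl' : j < l := hjl
        have h := hcompat j l hj hl hjl'
        have h2 := congrArg SSet.yonedaEquiv h
        rw [stdSimplex.yonedaEquiv_δ_comp, stdSimplex.yonedaEquiv_δ_comp] at h2
        obtain rfl : l' = l.pred (Fin.ne_zero_of_lt hjl') := Fin.ext (by simp; omega)
        obtain rfl : j' = j.castPred (Fin.ne_last_of_lt hjl') := Fin.ext (by simp [hj'])
        rw [hxj j hj, hxj l hl]
        exact h2)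
      (fun w' => (f.app (op ⦋m + 1 + 1⦌)).hom w' = y) w₀ hw₀'
      (by
        intro w' l r hl hQ
        simp only [map_add, map_neg, hQ, ab_f_σ, ab_f_δ]
        rw [hxj l hl, hkey l hl]
        simp)
    refine ⟨w, ?_, hQw⟩
    intro j hj
    rw [← hxj j hj]
    exact hw j hj

end Ab

end Groth.Agent.Helper3.Moore
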