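import Mathlib

/-!
# Moore's horn-filling lemma for simplicial groups, in an abstract (three-level) form (helper3)
-/

namespace Groth.Agent.Helper3.Moore

/-- Horn filling in dimension one. -/
@[to_additive add_moore_zero]
theorem moore_zero {G1 G2 : Type*} [Group G1] [Group G2]
    (d2 : Fin 2 → G2 →* G1) (s1 : G1 →* G2)
    (hds : ∀ (j : Fin 2) (z : G1), d2 j (s1 z) = z)
    (k : Fin 2) (x : G1) (Q : G2 → Prop) (w₀ : G2) (hQ0 : Q w₀)
    (hQ : ∀ (w' : G2) (l : Fin 2), l ≠ k → Q w' → Q (w' * (s1 (d2 l w'))⁻¹ * s1 x)) :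
    ∃ w : G2, (∀ j : Fin 2, j ≠ k → d2 j w = x) ∧ Q w := by
  obtain ⟨l, hl⟩ : ∃ l : Fin 2, l ≠ k := by
    by_cases h : k = 0
    · exact ⟨1, by rw [h]; decide⟩
    · exact ⟨0, fun h' => h h'.symm⟩
  refine ⟨w₀ * (s1 (d2 l w₀))⁻¹ * s1 x, ?_, hQ w₀ l hl hQ0⟩
  intro j hj
  have key : ∀ (j l k : Fin 2), j ≠ k → l ≠ k → j = l := by decide
  have hjl : j = l := key j l k hj hl
  subst hjl
  simp [map_mul, hds]

/-- Moore's lemma: horn filling in a simplicial group, with three consecutive levels `G0, G1, G2`
(`G1` in dimension `m+1`), and an invariant `Q` preserved by the elementary corrections. -/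
@[to_additive add_moore_core]
theorem moore_core {G0 G1 G2 : Type*} [Group G0] [Group G1] [Group G2] {m : ℕ}
    (d2 : Fin (m + 3) → G2 →* G1) (s1 : Fin (m + 2) → G1 →* G2)
    (d1 : Fin (m + 2) → G1 →* G0) (s0 : Fin (m + 1) → G0 →* G1)
    (hDD : ∀ (i j : Fin (m + 2)) (a b : Fin (m + 3)), a.val = j.val + 1 → b.val = i.val →
      i.val ≤ j.val → ∀ y, d1 i (d2 a y) = d1 j (d2 b y))
    (hDSlt : ∀ (j : Fin (m + 3)) (r : Fin (m + 2)) (j' : Fin (m + 2)) (r' : Fin (m + 1)),
      j'.val = j.val → r.val = r'.val + 1 → j.val < r.val → ∀ z, d2 j (s1 r z) = s0 r' (d1 j' z))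
    (hDSeq : ∀ (j : Fin (m + 3)) (r : Fin (m + 2)), (j.val = r.val ∨ j.val = r.val + 1) →
      ∀ z, d2 j (s1 r z) = z)
    (hDSgt : ∀ (j : Fin (m + 3)) (r : Fin (m + 2)) (j' : Fin (m + 2)) (r' : Fin (m + 1)),
      j.val = j'.val + 1 → r.val = r'.val → r.val + 1 < j.val →
      ∀ z, d2 j (s1 r z) = s0 r' (d1 j' z))
    (k : Fin (m + 3)) (x : Fin (m + 3) → G1)
    (hx : ∀ (j l : Fin (m + 3)) (j' l' : Fin (m + 2)), j ≠ k → l ≠ k → j.val < l.val →
      j'.val = j.val → l'.val + 1 = l.val → d1 l' (x j) = d1 j' (x l))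
    (Q : G2 → Prop) (w₀ : G2) (hQ0 : Q w₀)
    (hQ : ∀ (w' : G2) (l : Fin (m + 3)) (r : Fin (m + 2)), l ≠ k → Q w' →
      Q (w' * (s1 r (d2 l w'))⁻¹ * s1 r (x l))) :
    ∃ w : G2, (∀ j : Fin (m + 3), j ≠ k → d2 j w = x j) ∧ Q w := by
  -- Phase 1
  have phase1 : ∀ a : ℕ, a ≤ k.val →
      ∃ w : G2, Q w ∧ ∀ j : Fin (m + 3), j.val < a → d2 j w = x j := by
    intro a
    induction a with
    | zero => exact fun _ => ⟨w₀, hQ0, fun j hj => absurd hj (Nat.not_lt_zero _)⟩
    | succ a ih =>
      intro ha
      obtain ⟨w, hQw, hw⟩ := ih (by omega)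
      have hk := k.isLt
      let r : Fin (m + 2) := ⟨a, by omega⟩
      let l : Fin (m + 3) := ⟨a, by omega⟩
      have hlk : l ≠ k := fun h => by
        have := congrArg Fin.val h
        simp only [l] at this
        omega
      refine ⟨w * (s1 r (d2 l w))⁻¹ * s1 r (x l), hQ w l r hlk hQw, ?_⟩
      intro j hj
      rcases Nat.lt_succ_iff_lt_or_eq.mp hj with hja | hja
      · -- j < a
        have ha1 : 1 ≤ a := by omega
        let r' : Fin (m + 1) := ⟨a - 1, by omega⟩
        let j' : Fin (m + 2) := ⟨j.val, by omega⟩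
        let l' : Fin (m + 2) := ⟨a - 1, by omega⟩
        have hjk : j ≠ k := fun h => by
          have := congrArg Fin.val h
          omega
        have e1 : ∀ z, d2 j (s1 r z) = s0 r' (d1 j' z) :=
          hDSlt j r j' r' rfl (by simp only [r, r']; omega) (by simp only [r]; omega)
        have e2 : d1 j' (d2 l w) = d1 j' (x l) := by
          have h1 := hDD j' l' l j (by simp only [l, l']; omega) rfl
            (by simp only [j', l']; omega) w
          rw [h1, hw j hja]
          exact hx j l j' l' hjk hlk (by simp only [l]; omega) rfl (by simp only [l, l']; omega)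
        rw [map_mul, map_mul, map_inv, e1, e1, e2, hw j hja]
        simp
      · -- j = a
        have hjl : j = l := Fin.ext (by simp only [l]; omega)
        subst hjl
        have e1 : ∀ z, d2 l (s1 r z) = z := hDSeq l r (Or.inl rfl)
        rw [map_mul, map_mul, map_inv, e1, e1]
        simp
  -- Phase 2
  have phase2 : ∀ c : ℕ, c ≤ m + 2 - k.val →
      ∃ w : G2, Q w ∧ (∀ j : Fin (m + 3), j.val < k.val → d2 j w = x j) ∧
        (∀ j : Fin (m + 3), m + 2 - c < j.val → d2 j w = x j) := by
    intro c
    induction c with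
    | zero =>
      intro _
      obtain ⟨w, hQw, hw⟩ := phase1 k.val le_rfl
      exact ⟨w, hQw, hw, fun j hj => by have := j.isLt; omega⟩
    | succ c ih =>
      intro hc
      obtain ⟨w, hQw, hw1, hw2⟩ := ih (by omega)
      have hk := k.isLt
      -- the new face index is b + 1 where b = m + 2 - (c + 1)
      let l : Fin (m + 3) := ⟨m + 2 - c, by omega⟩
      let r : Fin (m + 2) := ⟨m + 1 - c, by omega⟩
      have hlk : l ≠ k := fun h => by
        have := congrArg Fin.val h
        simp only [l] at this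
        omega
      refine ⟨w * (s1 r (d2 l w))⁻¹ * s1 r (x l), hQ w l r hlk hQw, ?_, ?_⟩
      · intro j hj
        have hr1 : 1 ≤ m + 1 - c := by omega
        let r' : Fin (m + 1) := ⟨m + 1 - c - 1, by omega⟩
        let j' : Fin (m + 2) := ⟨j.val, by omega⟩
        let l' : Fin (m + 2) := ⟨m + 1 - c, by omega⟩
        have hjk : j ≠ k := fun h => by
          have := congrArg Fin.val h
          omega
        have e1 : ∀ z, d2 j (s1 r z) = s0 r' (d1 j' z) :=
          hDSlt j r j' r' rfl (by simp only [r, r']; omega) (by simp only [r]; omega)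
        have e2 : d1 j' (d2 l w) = d1 j' (x l) := by
          have h1 := hDD j' l' l j (by simp only [l, l']; omega) rfl
            (by simp only [j', l']; omega) w
          rw [h1, hw1 j hj]
          exact hx j l j' l' hjk hlk (by simp only [l]; omega) rfl (by simp only [l, l']; omega)
        rw [map_mul, map_mul, map_inv, e1, e1, e2, hw1 j hj]
        simp
      · intro j hj
        have hjlt := j.isLt
        rcases Nat.lt_or_ge (m + 2 - c) j.val with hjc | hjc
        · -- j > l
          let r' : Fin (m + 1) := ⟨m + 1 - c, by omega⟩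
          let j' : Fin (m + 2) := ⟨j.val - 1, by omega⟩
          let l'' : Fin (m + 2) := ⟨m + 2 - c, by omega⟩
          have hjk : j ≠ k := fun h => by
            have := congrArg Fin.val h
            omega
          have e1 : ∀ z, d2 j (s1 r z) = s0 r' (d1 j' z) :=
            hDSgt j r j' r' (by simp only [j']; omega) rfl (by simp only [r]; omega)
          have e2 : d1 j' (d2 l w) = d1 j' (x l) := by
            have h1 := hDD l'' j' j l (by simp only [j']; omega) rfl
              (by simp only [j', l'']; omega) w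
            rw [← h1, hw2 j hjc]
            exact (hx l j l'' j' hlk hjk (by simp only [l]; omega) rfl
              (by simp only [j']; omega)).symm
          rw [map_mul, map_mul, map_inv, e1, e1, e2, hw2 j hjc]
          simp
        · -- j = l
          have hjl : j = l := Fin.ext (by simp only [l]; omega)
          subst hjl
          have e1 : ∀ z, d2 l (s1 r z) = z :=
            hDSeq l r (Or.inr (by simp only [l, r]; omega))
          rw [map_mul, map_mul, map_inv, e1, e1]
          simp
  obtain ⟨w, hQw, hw1, hw2⟩ := phase2 (m + 2 - k.val) le_rfl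
  refine ⟨w, ?_, hQw⟩
  intro j hj
  have hk := k.isLt
  rcases Nat.lt_or_ge j.val k.val with h | h
  · exact hw1 j h
  · have hne : j.val ≠ k.val := fun h' => hj (Fin.ext h')
    exact hw2 j (by omega)

end Groth.Agent.Helper3.Moore
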