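import Groth.Agent.Lib.Helper3.MooreCore

/-!
# Simplicial groups are Kan complexes (helper3)
-/

namespace Groth.Agent.Helper3.Moore

open CategoryTheory Simplicial SSet Opposite

universe u

section Grp

variable (X : SimplicialObject GrpCat.{u})

lemma grp_hDD {m : ℕ} (i j : Fin (m + 2)) (a b : Fin (m + 3)) (ha : a.val = j.val + 1)
    (hb : b.val = i.val) (hij : i.val ≤ j.val) (y : X _⦋m + 1 + 1⦌) :
    (X.δ i).hom ((X.δ a).hom y) = (X.δ j).hom ((X.δ b).hom y) := by
  obtain rfl : a = j.succ := Fin.ext (by simp [ha])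
  obtain rfl : b = i.castSucc := Fin.ext (by simp [hb])
  have H : i ≤ j := hij
  have := congrArg (fun g => g.hom y) (X.δ_comp_δ H)
  simpa using this

lemma grp_hDSlt {m : ℕ} (j : Fin (m + 3)) (r : Fin (m + 2)) (j' : Fin (m + 2)) (r' : Fin (m + 1))
    (hj : j'.val = j.val) (hr : r.val = r'.val + 1) (hjr : j.val < r.val) (z : X _⦋m + 1⦌) :
    (X.δ j).hom ((X.σ r).hom z) = (X.σ r').hom ((X.δ j').hom z) := by
  obtain rfl : j = j'.castSucc := Fin.ext (by simp [hj])
  obtain rfl : r = r'.succ := Fin.ext (by simp [hr])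
  have H : j' ≤ r'.castSucc := by
    rw [Fin.le_iff_val_le_val]
    simp only [Fin.val_castSucc, Fin.val_succ] at hjr ⊢
    omega
  have := congrArg (fun g => g.hom z) (X.δ_comp_σ_of_le H)
  simpa using this

lemma grp_hDSeq {m : ℕ} (j : Fin (m + 3)) (r : Fin (m + 2))
    (h : j.val = r.val ∨ j.val = r.val + 1) (z : X _⦋m + 1⦌) :
    (X.δ j).hom ((X.σ r).hom z) = z := by
  rcases h with h | h
  · obtain rfl : j = r.castSucc := Fin.ext (by simp [h])
    have := congrArg (fun g => g.hom z) (X.δ_comp_σ_self (i := r))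
    simpa using this
  · obtain rfl : j = r.succ := Fin.ext (by simp [h])
    have := congrArg (fun g => g.hom z) (X.δ_comp_σ_succ (i := r))
    simpa using this

lemma grp_hDSgt {m : ℕ} (j : Fin (m + 3)) (r : Fin (m + 2)) (j' : Fin (m + 2)) (r' : Fin (m + 1))
    (hj : j.val = j'.val + 1) (hr : r.val = r'.val) (hjr : r.val + 1 < j.val) (z : X _⦋m + 1⦌) :
    (X.δ j).hom ((X.σ r).hom z) = (X.σ r').hom ((X.δ j').hom z) := by
  obtain rfl : j = j'.succ := Fin.ext (by simp [hj])
  obtain rfl : r = r'.castSucc := Fin.ext (by simp [hr])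
  have H : r'.castSucc < j' := by
    rw [Fin.lt_def]
    simp only [Fin.val_castSucc, Fin.val_succ] at hjr ⊢
    omega
  have := congrArg (fun g => g.hom z) (X.δ_comp_σ_of_gt H)
  simpa using this

lemma grp_hds0 (j : Fin 2) (z : X _⦋0⦌) : (X.δ j).hom ((X.σ 0).hom z) = z := by
  fin_cases j
  · have := congrArg (fun g => g.hom z) (X.δ_comp_σ_self (i := (0 : Fin 1)))
    simpa using this
  · have := congrArg (fun g => g.hom z) (X.δ_comp_σ_succ (i := (0 : Fin 1)))
    simpa using this

/-- Moore's theorem: the underlying simplicial set of a simplicial group is a Kan complex. -/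
theorem kanComplex_of_simplicialGroup : SSet.KanComplex (X ⋙ forget GrpCat.{u}) := by
  rw [SSet.KanComplex.iff]
  intro n i f hf
  obtain _ | m := n
  · -- dimension one
    obtain ⟨l, hl⟩ : ∃ l : Fin 2, l ≠ i := by
      by_cases h : i = 0
      · exact ⟨1, by rw [h]; decide⟩
      · exact ⟨0, fun h' => h h'.symm⟩
    let x : X _⦋0⦌ := SSet.yonedaEquiv (f l hl)
    obtain ⟨w, hw, -⟩ := moore_zero (fun j : Fin 2 => (X.δ j).hom) (X.σ 0).hom (grp_hds0 X) i x
      (fun _ => True) 1 trivial (fun _ _ _ _ => trivial)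
    refine ⟨SSet.yonedaEquiv.symm (w : (X ⋙ forget GrpCat.{u}) _⦋0 + 1⦌), ?_⟩
    intro j hj
    have key : ∀ (j l k : Fin 2), j ≠ k → l ≠ k → j = l := by decide
    obtain rfl : j = l := key j l i hj hl
    rw [stdSimplex.δ_comp_yonedaEquiv_symm]
    have : SimplicialObject.δ (X ⋙ forget GrpCat.{u}) j w = x := hw j hj
    rw [this]
    exact SSet.yonedaEquiv.symm_apply_apply _
  · -- higher dimensions
    let x : Fin (m + 3) → X _⦋m + 1⦌ := fun j =>
      if hj : j = i then 1 else SSet.yonedaEquiv (f j hj)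
    have hxj : ∀ (j : Fin (m + 3)) (hj : j ≠ i), x j = SSet.yonedaEquiv (f j hj) := by
      intro j hj
      simp only [x, dif_neg hj]
    rw [horn.isCompatible_iff] at hf
    obtain ⟨w, hw, -⟩ := moore_core (fun j : Fin (m + 3) => (X.δ j).hom)
      (fun r : Fin (m + 2) => (X.σ r).hom) (fun j : Fin (m + 2) => (X.δ j).hom)
      (fun r : Fin (m + 1) => (X.σ r).hom) (grp_hDD X) (grp_hDSlt X) (grp_hDSeq X) (grp_hDSgt X)
      i x
      (by
        intro j l j' l' hj hl hjl hj' hl'
        have hjl' : j < l := hjl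
        have h := hf j l hj hl hjl'
        have h2 := congrArg SSet.yonedaEquiv h
        rw [stdSimplex.yonedaEquiv_δ_comp, stdSimplex.yonedaEquiv_δ_comp] at h2
        obtain rfl : l' = l.pred (Fin.ne_zero_of_lt hjl') := Fin.ext (by simp; omega)
        obtain rfl : j' = j.castPred (Fin.ne_last_of_lt hjl') := Fin.ext (by simp [hj'])
        rw [hxj j hj, hxj l hl]
        exact h2)
      (fun _ => True) 1 trivial (fun _ _ _ _ _ => trivial)
    refine ⟨SSet.yonedaEquiv.symm (w : (X ⋙ forget GrpCat.{u}) _⦋m + 1 + 1⦌), ?_⟩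
    intro j hj
    rw [stdSimplex.δ_comp_yonedaEquiv_symm]
    have : SimplicialObject.δ (X ⋙ forget GrpCat.{u}) j w = x j := hw j hj
    rw [this, hxj j hj]
    exact SSet.yonedaEquiv.symm_apply_apply _

end Grp

end Groth.Agent.Helper3.Moore
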