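import Groth.Agent.Lib.Helper3.MooreAb

/-!
# Surjective quasi-isomorphisms of simplicial abelian groups are trivial Kan fibrations (helper3)
-/

namespace Groth.Agent.Helper3.Moore

open CategoryTheory Simplicial SSet Opposite Limits AlgebraicTopology

universe u

lemma ab_hom_sum_apply {M N : AddCommGrpCat.{u}} {ι : Type*} (s : Finset ι) (g : ι → (M ⟶ N))
    (x : M) : (∑ i ∈ s, g i).hom x = ∑ i ∈ s, (g i).hom x := by
  classical
  induction s using Finset.induction_on with
  | empty => simp
  | insert a s ha ih =>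
    rw [Finset.sum_insert ha, Finset.sum_insert ha, AddCommGrpCat.hom_add, AddMonoidHom.add_apply, ih]

section Triv

variable {G H : SimplicialObject AddCommGrpCat.{u}} (f : G ⟶ H)

/-- Part A: a cycle of the alternating face map complex lying in the kernel of `f` is the boundary
of an element of the kernel of `f`. -/
lemma exists_boundary_in_ker
    (hf : ∀ n : SimplexCategoryᵒᵖ, Function.Surjective (f.app n))
    (hq : QuasiIso ((alternatingFaceMapComplex AddCommGrpCat.{u}).map f))
    (n : ℕ) (z : G _⦋n⦌) (hfz : (f.app (op ⦋n⦌)).hom z = 0)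
    (hdz : ∀ k, (((alternatingFaceMapComplex AddCommGrpCat.{u}).obj G).d n k).hom z = 0) :
    ∃ v : G _⦋n + 1⦌, (f.app (op ⦋n + 1⦌)).hom v = 0 ∧
      (((alternatingFaceMapComplex AddCommGrpCat.{u}).obj G).d (n + 1) n).hom v = z := by
  set KX := (alternatingFaceMapComplex AddCommGrpCat.{u}).obj G with hKX
  set KY := (alternatingFaceMapComplex AddCommGrpCat.{u}).obj H with hKY
  set Cf : KX ⟶ KY := (alternatingFaceMapComplex AddCommGrpCat.{u}).map f with hCf
  have hCff : ∀ i, Cf.f i = f.app (op ⦋i⦌) := fun i => rfl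
  let S : ShortComplex (ChainComplex AddCommGrpCat.{u} ℕ) :=
    ShortComplex.mk (kernel.ι Cf) Cf (kernel.condition Cf)
  have hepi : Epi Cf := HomologicalComplex.epi_of_epi_f _ (fun i => by
    rw [hCff i]
    exact (AddCommGrpCat.epi_iff_surjective _).mpr (hf _))
  have hS : S.ShortExact :=
    { exact := ShortComplex.exact_of_f_is_kernel S (kernelIsKernel Cf)
      mono_f := inferInstanceAs (Mono (kernel.ι Cf))
      epi_g := hepi }
  have hac : S.X₁.Acyclic := hS.acyclic_X₁ hq
  have hdeg : ∀ i, (S.map (HomologicalComplex.eval _ _ i)).ShortExact :=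
    (HomologicalComplex.shortExact_iff_degreewise_shortExact S).mp hS
  -- notation
  set K' := kernel Cf with hK'
  set ι : K' ⟶ KX := kernel.ι Cf with hι
  -- (a) lifting to the kernel
  have ha : ∀ (i : ℕ) (x : G _⦋i⦌), (f.app (op ⦋i⦌)).hom x = 0 → ∃ x' : K'.X i, (ι.f i).hom x' = x := by
    intro i x hx
    have := (ShortComplex.ab_exact_iff _).mp (hdeg i).exact x hx
    exact this
  -- (b) injectivity
  have hb : ∀ i : ℕ, Function.Injective (ι.f i).hom := by
    intro i
    have : Mono (ι.f i) := (hdeg i).mono_f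
    exact (AddCommGrpCat.mono_iff_injective _).mp this
  obtain ⟨z', hz'⟩ := ha n z hfz
  -- z' is a cycle
  have hz'd : ∀ k, (K'.d n k).hom z' = 0 := by
    intro k
    apply hb k
    rw [map_zero]
    have h1 := congrArg (fun g => g.hom z') (ι.comm n k)
    simp only [AddCommGrpCat.hom_comp, AddMonoidHom.coe_comp, Function.comp_apply] at h1
    rw [← h1, hz']
    exact hdz k
  -- acyclicity
  have hex : (K'.sc' (n + 1) n ((ComplexShape.down ℕ).next n)).Exact :=
    (K'.exactAt_iff' (n + 1) n _ (by simp) rfl).mp (hac n)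
  obtain ⟨v', hv'⟩ := (ShortComplex.ab_exact_iff _).mp hex z' (hz'd _)
  refine ⟨(ι.f (n + 1)).hom v', ?_, ?_⟩
  · have h1 := congrArg (fun g => (g.f (n + 1)).hom v') (kernel.condition Cf)
    simp only [HomologicalComplex.comp_f, AddCommGrpCat.hom_comp, AddMonoidHom.coe_comp,
      Function.comp_apply] at h1
    exact h1
  · have h1 := congrArg (fun g => g.hom v') (ι.comm (n + 1) n)
    simp only [AddCommGrpCat.hom_comp, AddMonoidHom.coe_comp, Function.comp_apply] at h1
    have : (K'.d (n + 1) n).hom v' = z' := hv'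
    have h2 : (KX.d (n + 1) n).hom ((ι.f (n + 1)).hom v') = z := by
      rw [h1, this, hz']
    exact h2

open AlgebraicTopology.DoldKan in
/-- Part B: an element of the kernel of `f`, fixed by `PInfty` and which is a cycle, is the
`0`-th face of an element of the kernel of `f` whose other faces vanish. -/
lemma exists_normalized_filler
    (hf : ∀ n : SimplexCategoryᵒᵖ, Function.Surjective (f.app n))
    (hq : QuasiIso ((alternatingFaceMapComplex AddCommGrpCat.{u}).map f))
    (n : ℕ) (z : G _⦋n⦌) (hfz : (f.app (op ⦋n⦌)).hom z = 0)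
    (hdz : ∀ k, (((alternatingFaceMapComplex AddCommGrpCat.{u}).obj G).d n k).hom z = 0)
    (hP : ((PInfty : AlternatingFaceMapComplex.obj G ⟶ AlternatingFaceMapComplex.obj G).f n).hom z = z) :
    ∃ u : G _⦋n + 1⦌, (f.app (op ⦋n + 1⦌)).hom u = 0 ∧ (G.δ 0).hom u = z ∧
      ∀ j : Fin (n + 1), (G.δ j.succ).hom u = 0 := by
  obtain ⟨v, hfv, hdv⟩ := exists_boundary_in_ker f hf hq n z hfz hdz
  have hvan : ∀ j : Fin (n + 1),
      (G.δ j.succ).hom (((PInfty : AlternatingFaceMapComplex.obj G ⟶ AlternatingFaceMapComplex.obj G).f (n + 1)).hom v) = 0 := by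
    intro j
    have h1 : (PInfty : AlternatingFaceMapComplex.obj G ⟶ AlternatingFaceMapComplex.obj G).f (n + 1) ≫ G.δ j.succ = 0 := by
      rw [PInfty_f]
      exact HigherFacesVanish.of_P (n + 1) n j (by omega)
    have h2 := congrArg (fun g => g.hom v) h1
    simpa using h2
  refine ⟨((PInfty : AlternatingFaceMapComplex.obj G ⟶ AlternatingFaceMapComplex.obj G).f (n + 1)).hom v, ?_, ?_, hvan⟩
  · have h1 := congrArg (fun g => g.hom v) (PInfty_f_naturality (n + 1) f)
    simp only [AddCommGrpCat.hom_comp, AddMonoidHom.coe_comp, Function.comp_apply] at h1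
    rw [← h1, hfv, map_zero]
  · -- the differential of `PInfty v` is its zeroth face
    have h1 : ((AlternatingFaceMapComplex.obj G).d (n + 1) n).hom (((PInfty : AlternatingFaceMapComplex.obj G ⟶ AlternatingFaceMapComplex.obj G).f (n + 1)).hom v) =
        (G.δ 0).hom (((PInfty : AlternatingFaceMapComplex.obj G ⟶ AlternatingFaceMapComplex.obj G).f (n + 1)).hom v) := by
      rw [AlternatingFaceMapComplex.obj_d_eq, ab_hom_sum_apply, Fin.sum_univ_succ]
      rw [Finset.sum_eq_zero, add_zero]
      · simp
      · intro j _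
        rw [AddCommGrpCat.hom_zsmul, AddMonoidHom.smul_apply, hvan j, smul_zero]
    rw [← h1]
    have h2 := congrArg (fun g => g.hom v) ((PInfty : AlternatingFaceMapComplex.obj G ⟶ AlternatingFaceMapComplex.obj G).comm (n + 1) n)
    simp only [AddCommGrpCat.hom_comp, AddMonoidHom.coe_comp, Function.comp_apply] at h2
    rw [h2]
    have h3 : ((AlternatingFaceMapComplex.obj G).d (n + 1) n).hom v = z := hdv
    rw [h3, hP]

lemma horn_le_boundary' (n : ℕ) (i : Fin (n + 2)) : Λ[n + 1, i] ≤ (∂Δ[n + 1] : Subcomplex.{u} _) := by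
  rw [horn_eq_iSup, iSup_le_iff]
  intro j
  exact face_singleton_compl_le_boundary j.1

/-- The inclusion of a horn in the boundary. -/
noncomputable def hornToBoundary (n : ℕ) (i : Fin (n + 2)) :
    (Λ[n + 1, i] : SSet.{u}) ⟶ (∂Δ[n + 1] : SSet.{u}) :=
  Subcomplex.homOfLE (horn_le_boundary' n i)

lemma hornToBoundary_ι (n : ℕ) (i : Fin (n + 2)) :
    hornToBoundary.{u} n i ≫ (∂Δ[n + 1] : Subcomplex.{u} _).ι = Λ[n + 1, i].ι := rfl

lemma horn_ι_hornToBoundary (n : ℕ) (i j : Fin (n + 2)) (hj : j ≠ i) :
    horn.ι.{u} i j hj ≫ hornToBoundary n i = boundary.ι j := by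
  rw [← cancel_mono (∂Δ[n + 1] : Subcomplex.{u} _).ι, Category.assoc, hornToBoundary_ι, horn.ι_ι,
    boundary.ι_ι]

open AlgebraicTopology.DoldKan in
/-- A degreewise surjective homomorphism of simplicial abelian groups which is a quasi-isomorphism
on alternating face map complexes is a trivial Kan fibration. -/
theorem trivialKanFibration_of_surjective_of_quasiIso
    (hf : ∀ n : SimplexCategoryᵒᵖ, Function.Surjective (f.app n))
    (hq : QuasiIso ((alternatingFaceMapComplex AddCommGrpCat.{u}).map f)) :
    SSet.modelCategoryQuillen.I.rlp (X := G ⋙ forget AddCommGrpCat.{u})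
      (Y := H ⋙ forget AddCommGrpCat.{u}) (Functor.whiskerRight f (forget AddCommGrpCat.{u})) := by
  intro A B g hg
  obtain ⟨n⟩ := hg
  refine ⟨fun {t b} sq => ?_⟩
  obtain _ | n := n
  · -- dimension zero: the boundary is empty
    let y : H _⦋0⦌ := SSet.yonedaEquiv b
    obtain ⟨w₀, hw₀⟩ := hf (op ⦋0⦌) y
    refine ⟨⟨{ l := SSet.yonedaEquiv.symm (w₀ : (G ⋙ forget AddCommGrpCat.{u}) _⦋0⦌)
               fac_left := boundary.hom_ext₀
               fac_right := ?_ }⟩⟩
    rw [SSet.yonedaEquiv_symm_comp]
    have : (Functor.whiskerRight f (forget AddCommGrpCat.{u})).app (op ⦋0⦌) w₀ =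
        SSet.yonedaEquiv b := hw₀
    rw [this]
    exact SSet.yonedaEquiv.symm_apply_apply _
  · -- the faces and the target simplex
    let y : H _⦋n + 1⦌ := SSet.yonedaEquiv b
    let x : Fin (n + 2) → G _⦋n⦌ := fun j => SSet.yonedaEquiv (boundary.ι j ≫ t)
    have hxy : ∀ j : Fin (n + 2), (f.app (op ⦋n⦌)).hom (x j) = (H.δ j).hom y := by
      intro j
      have h1 : (boundary.ι j ≫ t) ≫ Functor.whiskerRight f (forget AddCommGrpCat.{u}) =
          stdSimplex.δ j ≫ b := by
        rw [Category.assoc, sq.w, ← Category.assoc, boundary.ι_ι]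
      have h2 := congrArg SSet.yonedaEquiv h1
      rw [stdSimplex.yonedaEquiv_δ_comp] at h2
      exact h2
    -- Step 1: fill the horn `Λ[n + 1, 0]`
    have hfib := kanFibration_of_surjective f hf
    have hlp : HasLiftingProperty (Λ[n + 1, (0 : Fin (n + 2))].ι)
        (Functor.whiskerRight f (forget AddCommGrpCat.{u})) :=
      hfib _ (SSet.modelCategoryQuillen.horn_ι_mem_J (n + 1) 0)
    have sq' : CommSq (hornToBoundary n 0 ≫ t) (Λ[n + 1, (0 : Fin (n + 2))].ι)
        (Functor.whiskerRight f (forget AddCommGrpCat.{u})) b :=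
      ⟨by rw [Category.assoc, sq.w, ← Category.assoc, hornToBoundary_ι]⟩
    let l' : Δ[n + 1] ⟶ G ⋙ forget AddCommGrpCat.{u} := sq'.lift
    let w' : G _⦋n + 1⦌ := SSet.yonedaEquiv l'
    have hw'f : (f.app (op ⦋n + 1⦌)).hom w' = y := by
      have h1 : l' ≫ Functor.whiskerRight f (forget AddCommGrpCat.{u}) = b := sq'.fac_right
      exact congrArg SSet.yonedaEquiv h1
    have hw'd : ∀ j : Fin (n + 2), j ≠ 0 → (G.δ j).hom w' = x j := by
      intro j hj
      have h1 : stdSimplex.δ j ≫ l' = boundary.ι j ≫ t := by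
        rw [← horn.ι_ι 0 j hj, Category.assoc, sq'.fac_left, ← Category.assoc,
          horn_ι_hornToBoundary]
      have h2 := congrArg SSet.yonedaEquiv h1
      rw [stdSimplex.yonedaEquiv_δ_comp] at h2
      exact h2
    -- Step 2: the defect
    let z : G _⦋n⦌ := x 0 - (G.δ 0).hom w'
    have hfz : (f.app (op ⦋n⦌)).hom z = 0 := by
      simp only [z, map_sub, hxy, ab_f_δ, hw'f, sub_self]
    have hzP : (∀ k, (((alternatingFaceMapComplex AddCommGrpCat.{u}).obj G).d n k).hom z = 0) ∧
        ((PInfty : AlternatingFaceMapComplex.obj G ⟶ AlternatingFaceMapComplex.obj G).f n).hom z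
          = z := by
      obtain _ | m := n
      · constructor
        · intro k
          rw [((alternatingFaceMapComplex AddCommGrpCat.{u}).obj G).shape 0 k (by simp)]
          rfl
        · rw [PInfty_f_0]
          rfl
      · -- all the faces of `z` vanish
        have hface : ∀ j : Fin (m + 2), (G.δ j).hom z = 0 := by
          intro j
          have e1 : (G.δ j).hom ((G.δ 0).hom w') = (G.δ 0).hom (x j.succ) := by
            have h1 := congrArg (fun g => g.hom w')
              (G.δ_comp_δ (i := (0 : Fin (m + 2))) (j := j) (Fin.zero_le _))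
            simp only [AddCommGrpCat.hom_comp, AddMonoidHom.coe_comp, Function.comp_apply,
              Fin.castSucc_zero] at h1
            rw [← h1, hw'd j.succ (Fin.succ_ne_zero j)]
          have e2 : (G.δ j).hom (x 0) = (G.δ 0).hom (x j.succ) := by
            have h1 : stdSimplex.δ j ≫ (boundary.ι 0 ≫ t) =
                stdSimplex.δ 0 ≫ (boundary.ι j.succ ≫ t) := by
              rw [← Category.assoc, ← Category.assoc]
              congr 1
              rw [← cancel_mono (∂Δ[m + 1 + 1] : Subcomplex.{u} _).ι, Category.assoc,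
                Category.assoc, boundary.ι_ι, boundary.ι_ι]
              have := stdSimplex.{u}.δ_comp_δ (i := (0 : Fin (m + 2))) (j := j) (Fin.zero_le _)
              rw [Fin.castSucc_zero] at this
              exact this.symm
            have h2 := congrArg SSet.yonedaEquiv h1
            rw [stdSimplex.yonedaEquiv_δ_comp, stdSimplex.yonedaEquiv_δ_comp] at h2
            exact h2
          simp only [z, map_sub, e1, e2, sub_self]
        constructor
        · intro k
          by_cases hk : k = m
          · subst hk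
            have : ((alternatingFaceMapComplex AddCommGrpCat.{u}).obj G).d (k + 1) k =
                ∑ i : Fin (k + 2), (-1 : ℤ) ^ (i : ℕ) • G.δ i :=
              AlternatingFaceMapComplex.obj_d_eq G k
            rw [this, ab_hom_sum_apply]
            refine Finset.sum_eq_zero fun i _ => ?_
            rw [AddCommGrpCat.hom_zsmul, AddMonoidHom.smul_apply, hface i, smul_zero]
          · rw [((alternatingFaceMapComplex AddCommGrpCat.{u}).obj G).shape (m + 1) k
              (by simp; omega)]
            rfl
        · let N : AddSubgroup (G _⦋m + 1⦌) := ⨅ j : Fin (m + 1), (G.δ j.succ).hom.ker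
          have hzN : z ∈ N := by
            rw [AddSubgroup.mem_iInf]
            intro j
            exact hface j.succ
          let φ : AddCommGrpCat.of N ⟶ G _⦋m + 1⦌ := AddCommGrpCat.ofHom N.subtype
          have hφ : HigherFacesVanish (m + 1) φ := by
            intro j _
            ext ⟨a, ha⟩
            rw [AddSubgroup.mem_iInf] at ha
            exact ha j
          have h1 := hφ.comp_P_eq_self
          have h2 := congrArg (fun g => g.hom ⟨z, hzN⟩) h1
          rw [PInfty_f]
          exact h2
    obtain ⟨u, hfu, hu0, huj⟩ := exists_normalized_filler f hf hq n z hfz hzP.1 hzP.2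
    -- the solution
    have hwd : ∀ j : Fin (n + 2), (G.δ j).hom (w' + u) = x j := by
      intro j
      refine Fin.cases ?_ (fun i => ?_) j
      · rw [map_add, hu0]
        simp only [z]
        abel
      · rw [map_add, huj i, add_zero, hw'd i.succ (Fin.succ_ne_zero i)]
    have hwf : (f.app (op ⦋n + 1⦌)).hom (w' + u) = y := by
      rw [map_add, hw'f, hfu, add_zero]
    refine ⟨⟨{ l := SSet.yonedaEquiv.symm ((w' + u : G _⦋n + 1⦌) :
                  (G ⋙ forget AddCommGrpCat.{u}) _⦋n + 1⦌)
               fac_left := ?_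
               fac_right := ?_ }⟩⟩
    · apply boundary.hom_ext
      intro j
      rw [← Category.assoc, boundary.ι_ι, stdSimplex.δ_comp_yonedaEquiv_symm]
      have : SimplicialObject.δ (G ⋙ forget AddCommGrpCat.{u}) j (w' + u : G _⦋n + 1⦌) =
          SSet.yonedaEquiv (boundary.ι j ≫ t) := hwd j
      rw [this]
      exact SSet.yonedaEquiv.symm_apply_apply _
    · rw [SSet.yonedaEquiv_symm_comp]
      have : (Functor.whiskerRight f (forget AddCommGrpCat.{u})).app (op ⦋n + 1⦌)
          (w' + u : G _⦋n + 1⦌) = SSet.yonedaEquiv b := hwf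
      rw [this]
      exact SSet.yonedaEquiv.symm_apply_apply _

end Triv

end Groth.Agent.Helper3.Moore
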