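import Mathlib
import Groth.Agent.Lib.Helper3.NFlat7

/-!
# Regular sequences along a normally flat filtration
-/

set_option autoImplicit false

namespace Groth.Agent.Helper3.NFlat

open TensorProduct Pointwise RingTheory.Sequence

universe u v

section

variable {A : Type u} [CommRing A] (J : Ideal A) (f : A) (M : Type v) [AddCommGroup M] [Module A M]

theorem isSMulRegular_Npow [IsNoetherianRing A] [IsLocalRing A] (hJ : J ≠ ⊤) [Module.Finite A M]
    (hreg : ∀ j, Reg J f M j) (k : ℕ) : IsSMulRegular ↥(Npow J M k) f := by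
  rw [isSMulRegular_iff_right_eq_zero_of_smul]
  intro y hy
  have h0 : (y : M) ∈ (⨅ i : ℕ, J ^ i • ⊤ : Submodule A M) := by
    rw [Submodule.mem_iInf]
    intro i
    apply mem_Npow_of_smul_mem (x := f) (fun j _ => hreg j)
    have : f • (y : M) = 0 := by
      have := congrArg Subtype.val hy
      simpa using this
    rw [this]
    exact Submodule.zero_mem _
  rw [Ideal.iInf_pow_smul_eq_bot_of_isLocalRing J hJ] at h0
  exact Subtype.ext ((Submodule.mem_bot A).mp h0)

/-- `J^k (M / fM)` is the image of `J^k M`. -/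
theorem Npow_quot_eq_map (k : ℕ) :
    Npow J (QuotSMulTop f M) k = (Npow J M k).map (Submodule.mkQ (f • (⊤ : Submodule A M))) := by
  unfold Npow
  rw [Submodule.map_smul'', Submodule.map_top, Submodule.range_mkQ]

/-- restriction of the quotient map -/
noncomputable def rhoK (k : ℕ) : ↥(Npow J M k) →ₗ[A] ↥(Npow J (QuotSMulTop f M) k) :=
  (Submodule.mkQ (f • (⊤ : Submodule A M))).restrict (fun y hy => by
    rw [Npow_quot_eq_map]
    exact Submodule.mem_map_of_mem hy)

theorem rhoK_coe (k : ℕ) (y : ↥(Npow J M k)) :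
    ((rhoK J f M k y : ↥(Npow J (QuotSMulTop f M) k)) : QuotSMulTop f M) =
      Submodule.Quotient.mk (y : M) := rfl

theorem rhoK_surjective (k : ℕ) : Function.Surjective (rhoK J f M k) := by
  rintro ⟨z, hz⟩
  rw [Npow_quot_eq_map] at hz
  obtain ⟨y, hy, rfl⟩ := hz
  exact ⟨⟨y, hy⟩, Subtype.ext rfl⟩

theorem smul_eq_zero_quot (z : QuotSMulTop f M) : f • z = 0 := by
  obtain ⟨m, rfl⟩ := Submodule.Quotient.mk_surjective _ z
  rw [← Submodule.Quotient.mk_smul, Submodule.Quotient.mk_eq_zero]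
  exact Submodule.smul_mem_pointwise_smul m f ⊤ Submodule.mem_top

theorem ker_rhoK (k : ℕ) (hreg : ∀ j < k, Reg J f M j) :
    LinearMap.ker (rhoK J f M k) = f • (⊤ : Submodule A ↥(Npow J M k)) := by
  ext y
  rw [LinearMap.mem_ker]
  constructor
  · intro h
    have h1 : (Submodule.Quotient.mk (y : M) : QuotSMulTop f M) = 0 := by
      rw [← rhoK_coe, h]; rfl
    rw [Submodule.Quotient.mk_eq_zero, Submodule.mem_smul_pointwise_iff_exists] at h1
    obtain ⟨m, -, hm⟩ := h1
    have hmk : m ∈ Npow J M k := mem_Npow_of_smul_mem hreg (by rw [hm]; exact y.2)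
    rw [Submodule.mem_smul_pointwise_iff_exists]
    exact ⟨⟨m, hmk⟩, Submodule.mem_top, Subtype.ext hm⟩
  · intro h
    rw [Submodule.mem_smul_pointwise_iff_exists] at h
    obtain ⟨y', -, rfl⟩ := h
    apply Subtype.ext
    rw [map_smul]
    change f • ((rhoK J f M k y' : ↥(Npow J (QuotSMulTop f M) k)) : QuotSMulTop f M) = 0
    exact smul_eq_zero_quot f M _

/-- (α) -/
noncomputable def quotNpowEquiv (k : ℕ) (hreg : ∀ j < k, Reg J f M j) :
    QuotSMulTop f ↥(Npow J M k) ≃ₗ[A] ↥(Npow J (QuotSMulTop f M) k) :=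
  (Submodule.quotEquivOfEq _ _ (ker_rhoK J f M k hreg).symm) ≪≫ₗ
    (rhoK J f M k).quotKerEquivOfSurjective (rhoK_surjective J f M k)

/-- the induced map on graded pieces -/
noncomputable def gammaK (k : ℕ) :
    GrQ J (Npow J M k) →ₗ[A] GrQ J (Npow J (QuotSMulTop f M) k) :=
  grMap J (rhoK J f M k)

theorem gammaK_surjective (k : ℕ) : Function.Surjective (gammaK J f M k) := by
  intro t
  obtain ⟨z, rfl⟩ := Submodule.Quotient.mk_surjective _ t
  obtain ⟨y, rfl⟩ := rhoK_surjective J f M k z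
  exact ⟨Submodule.Quotient.mk y, rfl⟩

theorem ker_gammaK (k : ℕ) (hreg : ∀ j < k, Reg J f M j) :
    LinearMap.ker (gammaK J f M k) = f • (⊤ : Submodule A (GrQ J (Npow J M k))) := by
  ext t
  rw [LinearMap.mem_ker]
  constructor
  · intro h
    obtain ⟨y, rfl⟩ := Submodule.Quotient.mk_surjective _ t
    change (Submodule.Quotient.mk (rhoK J f M k y) : GrQ J (Npow J (QuotSMulTop f M) k)) = 0 at h
    rw [grQ_mk_eq_zero, ← Npow_succ, Npow_quot_eq_map] at h
    obtain ⟨z, hz, hzy⟩ := h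
    rw [rhoK_coe] at hzy
    have h1 : (Submodule.Quotient.mk ((y : M) - z) : QuotSMulTop f M) = 0 := by
      rw [Submodule.Quotient.mk_sub]
      change Submodule.Quotient.mk (y : M) - Submodule.mkQ _ z = 0
      rw [hzy, sub_self]
    rw [Submodule.Quotient.mk_eq_zero, Submodule.mem_smul_pointwise_iff_exists] at h1
    obtain ⟨m, -, hm⟩ := h1
    have hzk : z ∈ Npow J M k := Npow_antitone J M (Nat.le_succ k) hz
    have hmk : m ∈ Npow J M k :=
      mem_Npow_of_smul_mem hreg (by rw [hm]; exact Submodule.sub_mem _ y.2 hzk)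
    rw [Submodule.mem_smul_pointwise_iff_exists]
    refine ⟨Submodule.Quotient.mk ⟨m, hmk⟩, Submodule.mem_top, ?_⟩
    rw [← Submodule.Quotient.mk_smul]
    have hy : y = f • (⟨m, hmk⟩ : ↥(Npow J M k)) + ⟨z, hzk⟩ := by
      apply Subtype.ext
      change (y : M) = f • m + z
      rw [hm]; abel
    rw [hy, Submodule.Quotient.mk_add]
    have hz0 : (Submodule.Quotient.mk (⟨z, hzk⟩ : ↥(Npow J M k)) : GrQ J (Npow J M k)) = 0 := by
      rw [grQ_mk_eq_zero, ← Npow_succ]
      exact hz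
    rw [hz0, add_zero]
  · intro h
    rw [Submodule.mem_smul_pointwise_iff_exists] at h
    obtain ⟨t', -, rfl⟩ := h
    rw [map_smul]
    obtain ⟨w, hw⟩ := Submodule.Quotient.mk_surjective _ (gammaK J f M k t')
    rw [← hw, ← Submodule.Quotient.mk_smul]
    have : f • w = 0 := by
      apply Subtype.ext
      change f • (w : QuotSMulTop f M) = 0
      exact smul_eq_zero_quot f M _
    rw [this, Submodule.Quotient.mk_zero]

/-- (β) -/
noncomputable def grQuotEquiv (k : ℕ) (hreg : ∀ j < k, Reg J f M j) :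
    QuotSMulTop f (GrQ J (Npow J M k)) ≃ₗ[A] GrQ J (Npow J (QuotSMulTop f M) k) :=
  (Submodule.quotEquivOfEq _ _ (ker_gammaK J f M k hreg).symm) ≪≫ₗ
    (gammaK J f M k).quotKerEquivOfSurjective (gammaK_surjective J f M k)

end

section main

variable {A : Type u} [CommRing A] [IsNoetherianRing A] [IsLocalRing A] (J : Ideal A) (hJ : J ≠ ⊤)

include hJ in
theorem isWeaklyRegular_Npow : ∀ (fs : List A) (M : Type v) [AddCommGroup M] [Module A M]
    [Module.Finite A M], (∀ k, IsWeaklyRegular (GrQ J (Npow J M k)) fs) →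
    ∀ k, IsWeaklyRegular ↥(Npow J M k) fs := by
  intro fs
  induction fs with
  | nil => intro M _ _ _ _ k; exact IsWeaklyRegular.nil A _
  | cons f fs ih =>
    intro M _ _ _ h k
    have hreg : ∀ j, Reg J f M j := by
      intro j
      rw [reg_iff]
      exact ((isWeaklyRegular_cons_iff _ _ _).mp (h j)).1
    rw [isWeaklyRegular_cons_iff]
    refine ⟨isSMulRegular_Npow J f M hJ hreg k, ?_⟩
    rw [(quotNpowEquiv J f M k (fun j _ => hreg j)).isWeaklyRegular_congr]
    apply ih (QuotSMulTop f M)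
    intro k'
    rw [← (grQuotEquiv J f M k' (fun j _ => hreg j)).isWeaklyRegular_congr]
    exact ((isWeaklyRegular_cons_iff _ _ _).mp (h k')).2

theorem isWeaklyRegular_of_flat_quotient (M : Type v) [AddCommGroup M] [Module A M]
    [Module (A ⧸ J) M] [IsScalarTower A (A ⧸ J) M] [Module.Flat (A ⧸ J) M] (fs : List A)
    (hreg : IsWeaklyRegular (A ⧸ J) fs) : IsWeaklyRegular M fs := by
  have h1 : IsWeaklyRegular (A ⧸ J) (fs.map (algebraMap A (A ⧸ J))) :=
    (isWeaklyRegular_map_algebraMap_iff (S := A ⧸ J) (M := A ⧸ J) fs).mpr hreg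
  have h2 : IsWeaklyRegular (M ⊗[A ⧸ J] (A ⧸ J)) (fs.map (algebraMap A (A ⧸ J))) :=
    h1.isWeaklyRegular_lTensor (M₂ := M)
  have h3 : IsWeaklyRegular M (fs.map (algebraMap A (A ⧸ J))) :=
    ((TensorProduct.rid (A ⧸ J) M).isWeaklyRegular_congr _).mp h2
  exact (isWeaklyRegular_map_algebraMap_iff (S := A ⧸ J) (M := M) fs).mp h3

theorem main_S5182 (A : Type u) [CommRing A] [IsLocalRing A] [IsNoetherianRing A] (J : Ideal A)
    (hJ : J ≠ ⊤)
    (hflat : ∀ k : ℕ, Module.Flat (A ⧸ J) (↥(J ^ k) ⧸ (J • (⊤ : Submodule A ↥(J ^ k)))))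
    (fs : List A) (hreg : IsWeaklyRegular (A ⧸ J) fs) (k : ℕ) :
    IsWeaklyRegular (↥(J ^ k)) fs ∧
      IsWeaklyRegular (↥(J ^ k) ⧸ (J • (⊤ : Submodule A ↥(J ^ k)))) fs := by
  have hgr : ∀ k : ℕ, IsWeaklyRegular (↥(J ^ k) ⧸ (J • (⊤ : Submodule A ↥(J ^ k)))) fs := by
    intro k
    haveI := hflat k
    exact isWeaklyRegular_of_flat_quotient J _ fs hreg
  refine ⟨?_, hgr k⟩
  have key : ∀ (V : ℕ → Submodule A A), (∀ k, V k = Npow J A k) →
      (∀ k, IsWeaklyRegular (GrQ J (V k)) fs) → ∀ k, IsWeaklyRegular ↥(V k) fs := by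
    intro V hV
    obtain rfl : V = fun k => Npow J A k := funext hV
    exact isWeaklyRegular_Npow J hJ fs A
  refine key (fun k => (J ^ k : Ideal A)) ?_ hgr k
  intro k
  change (J ^ k : Ideal A) = J ^ k • (⊤ : Ideal A)
  rw [smul_eq_mul, Ideal.mul_top]

end main

end Groth.Agent.Helper3.NFlat
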