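import Mathlib

/-!
# Two-term complexes `double f` in degrees `-1, 0`: maps, homotopies (helper3)
-/

set_option autoImplicit false
universe u
open CategoryTheory Limits HomologicalComplex

namespace Groth.Agent.Helper3.NLDbl

theorem rel : (ComplexShape.up ℤ).Rel (-1) 0 := by simp
theorem ne : (-1 : ℤ) ≠ 0 := by decide

section General

variable {C : Type*} [Category C] [Preadditive C] [HasZeroObject C]

/-- The two-term complex `X₀ ⟶ X₁` placed in degrees `-1, 0`. -/
noncomputable abbrev dbl {X₀ X₁ : C} (f : X₀ ⟶ X₁) : CochainComplex C ℤ := double f rel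

variable {X₀ X₁ Y₀ Y₁ Z₀ Z₁ : C} {f : X₀ ⟶ X₁} {g : Y₀ ⟶ Y₁} {k : Z₀ ⟶ Z₁}

/-- The chain map between two-term complexes given by a commutative square. -/
noncomputable def map (a₀ : X₀ ⟶ Y₀) (a₁ : X₁ ⟶ Y₁) (comm : a₀ ≫ g = f ≫ a₁) : dbl f ⟶ dbl g :=
  mkHomFromDouble rel ne (a₀ ≫ (doubleXIso₀ g rel).inv) (a₁ ≫ (doubleXIso₁ g rel ne).inv)
    (by rw [double_d g rel ne, Category.assoc, Iso.inv_hom_id_assoc, reassoc_of% comm])
    (fun k _ => by rw [double_d_eq_zero₀ g rel 0 k (by decide), comp_zero])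

@[simp] lemma map_f₀ (a₀ : X₀ ⟶ Y₀) (a₁ : X₁ ⟶ Y₁) (comm : a₀ ≫ g = f ≫ a₁) :
    (map a₀ a₁ comm).f (-1) = (doubleXIso₀ f rel).hom ≫ a₀ ≫ (doubleXIso₀ g rel).inv :=
  mkHomFromDouble_f₀ ..

@[simp] lemma map_f₁ (a₀ : X₀ ⟶ Y₀) (a₁ : X₁ ⟶ Y₁) (comm : a₀ ≫ g = f ≫ a₁) :
    (map a₀ a₁ comm).f 0 = (doubleXIso₁ f rel ne).hom ≫ a₁ ≫ (doubleXIso₁ g rel ne).inv :=
  mkHomFromDouble_f₁ ..

lemma map_comp (a₀ : X₀ ⟶ Y₀) (a₁ : X₁ ⟶ Y₁) (comm : a₀ ≫ g = f ≫ a₁)
    (b₀ : Y₀ ⟶ Z₀) (b₁ : Y₁ ⟶ Z₁) (comm' : b₀ ≫ k = g ≫ b₁) :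
    map a₀ a₁ comm ≫ map b₀ b₁ comm' = map (a₀ ≫ b₀) (a₁ ≫ b₁)
      (by rw [Category.assoc, comm', reassoc_of% comm]) := by
  apply from_double_hom_ext <;> simp

lemma map_id : map (𝟙 X₀) (𝟙 X₁) (by simp) = 𝟙 (dbl f) := by
  apply from_double_hom_ext <;> simp

lemma map_zero : map (0 : X₀ ⟶ Y₀) (0 : X₁ ⟶ Y₁) (by simp) = (0 : dbl f ⟶ dbl g) := by
  apply from_double_hom_ext <;> simp

/-- A homotopy between maps of two-term complexes. -/
noncomputable def htpy (a b : dbl f ⟶ dbl g) (h : X₁ ⟶ Y₀)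
    (h₀ : a.f (-1) = (doubleXIso₀ f rel).hom ≫ f ≫ h ≫ (doubleXIso₀ g rel).inv + b.f (-1))
    (h₁ : a.f 0 = (doubleXIso₁ f rel ne).hom ≫ h ≫ g ≫ (doubleXIso₁ g rel ne).inv + b.f 0) :
    Homotopy a b where
  hom i j := if hij : i = 0 ∧ j = -1 then
      eqToHom (by rw [hij.1]) ≫ (doubleXIso₁ f rel ne).hom ≫ h ≫ (doubleXIso₀ g rel).inv ≫
        eqToHom (by rw [hij.2])
    else 0
  zero i j hij := dif_neg (fun h' => hij (by rw [h'.1, h'.2]; simp))
  comm i := by
    by_cases h0 : i = -1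
    · subst h0
      rw [dNext_eq _ rel, prevD_eq _ (show (ComplexShape.up ℤ).Rel (-2) (-1) by simp)]
      rw [dif_pos ⟨rfl, rfl⟩, dif_neg (by decide)]
      simp [double_d f rel ne, h₀]
    · by_cases h1 : i = 0
      · subst h1
        rw [dNext_eq _ (show (ComplexShape.up ℤ).Rel 0 1 by simp), prevD_eq _ rel]
        rw [dif_neg (by decide), dif_pos ⟨rfl, rfl⟩]
        simp [double_d g rel ne, h₁]
      · exact (isZero_double_X f rel i h0 h1).eq_of_src _ _

/-- Homotopy between maps given by squares. -/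
noncomputable def htpyMap (a₀ : X₀ ⟶ Y₀) (a₁ : X₁ ⟶ Y₁) (comm : a₀ ≫ g = f ≫ a₁)
    (b₀ : X₀ ⟶ Y₀) (b₁ : X₁ ⟶ Y₁) (comm' : b₀ ≫ g = f ≫ b₁) (h : X₁ ⟶ Y₀)
    (h₀ : a₀ = f ≫ h + b₀) (h₁ : a₁ = h ≫ g + b₁) :
    Homotopy (map a₀ a₁ comm) (map b₀ b₁ comm') :=
  htpy _ _ h (by simp [h₀]) (by simp [h₁])

end General

section NL

open Algebra

variable {A B : Type u} [CommRing A] [CommRing B] [Algebra A B]

/-- The naive cotangent complex of an extension as a two-term cochain complex. -/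
noncomputable abbrev nlCx (E : Extension.{u} A B) : CochainComplex (ModuleCat.{u} B) ℤ :=
  dbl (ModuleCat.ofHom E.cotangentComplex)

/-- Functoriality of the naive cotangent complex in the extension. -/
noncomputable def nlMap {E E' : Extension.{u} A B} (φ : E.Hom E') : nlCx E ⟶ nlCx E' :=
  map (ModuleCat.ofHom (Extension.Cotangent.map φ)) (ModuleCat.ofHom (Extension.CotangentSpace.map φ))
    (by
      ext x
      exact (Extension.CotangentSpace.map_cotangentComplex φ x).symm)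

attribute [local instance] HasDerivedCategory.standard

/-- Any two maps of extensions induce the same map on naive cotangent complexes in `D(B)`. -/
theorem Q_nlMap_eq {E E' : Extension.{u} A B} (φ ψ : E.Hom E') :
    DerivedCategory.Q.map (nlMap φ) = DerivedCategory.Q.map (nlMap ψ) := by
  apply DerivedCategory.Q_map_eq_of_homotopy
  refine htpyMap _ _ _ _ _ _ (ModuleCat.ofHom (φ.sub ψ)) ?_ ?_
  · ext x
    have := LinearMap.congr_fun (Extension.Cotangent.map_sub_map φ ψ) x
    simp only [LinearMap.sub_apply, LinearMap.coe_comp, Function.comp_apply] at this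
    simp only [ModuleCat.hom_add, ModuleCat.hom_comp, ModuleCat.hom_ofHom, LinearMap.add_apply,
      LinearMap.coe_comp, Function.comp_apply]
    rw [← this]; abel
  · refine ModuleCat.hom_ext (LinearMap.ext fun x => ?_)
    have := LinearMap.congr_fun (Extension.CotangentSpace.map_sub_map φ ψ) x
    simp only [LinearMap.sub_apply, LinearMap.coe_comp, Function.comp_apply,
      LinearMap.coe_restrictScalars] at this
    simp only [ModuleCat.hom_add, ModuleCat.hom_comp, ModuleCat.hom_ofHom, LinearMap.add_apply,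
      LinearMap.coe_comp, Function.comp_apply]
    rw [← this]; abel

theorem nlMap_id (E : Extension.{u} A B) : nlMap (Extension.Hom.id E) = 𝟙 (nlCx E) := by
  rw [← map_id]
  unfold nlMap
  congr 1
  · rw [Extension.Cotangent.map_id]; rfl
  · rw [Extension.CotangentSpace.map_id]; rfl

theorem nlMap_comp {E E' E'' : Extension.{u} A B} (φ : E.Hom E') (ψ : E'.Hom E'') :
    nlMap (ψ.comp φ) = nlMap φ ≫ nlMap ψ := by
  unfold nlMap
  rw [map_comp]
  congr 1
  · rw [Extension.Cotangent.map_comp]; rfl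
  · rw [Extension.CotangentSpace.map_comp]; rfl

/-- The comparison maps between the naive cotangent complexes of two extensions are mutually
inverse in `D(B)`. -/
theorem Q_nlMap_comp_eq_id {E E' : Extension.{u} A B} (φ : E.Hom E') (ψ : E'.Hom E) :
    DerivedCategory.Q.map (nlMap φ) ≫ DerivedCategory.Q.map (nlMap ψ) = 𝟙 _ := by
  rw [← Functor.map_comp, ← nlMap_comp, Q_nlMap_eq (ψ.comp φ) (Extension.Hom.id E), nlMap_id,
    CategoryTheory.Functor.map_id]

end NL

section Kill

attribute [local instance] HasDerivedCategory.standard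

variable {C : Type*} [Category C] [Abelian C]

/-- No maps from a projective object in degree `0` to a module shifted by one. -/
theorem hom_single_projective_eq_zero {P N : C} [Projective P]
    (χ : DerivedCategory.Q.obj ((CochainComplex.singleFunctor C 0).obj P) ⟶
      ((DerivedCategory.singleFunctor C 0).obj N)⟦(1 : ℤ)⟧) : χ = 0 := by
  let e : ((DerivedCategory.singleFunctor C 0).obj N)⟦(1 : ℤ)⟧ ≅
      (DerivedCategory.singleFunctor C (-1)).obj N :=
    ((DerivedCategory.singleFunctors C).shiftIso 1 (-1) 0 (by norm_num)).app N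
  have h : χ ≫ e.hom = 0 :=
    DerivedCategory.from_singleFunctor_obj_eq_zero_of_projective
      (L := (CochainComplex.singleFunctor C (-1)).obj N) (χ ≫ e.hom) (-1) (by decide)
  rw [← cancel_mono e.hom, h, zero_comp]

variable {R : Type*} [Ring R] [Linear R C]
variable {M F : C} (d : M ⟶ F) (r : R) (k : F ⟶ M)

/-- `r • 𝟙` on a two-term complex as a map of squares. -/
lemma smul_id_eq : r • 𝟙 (dbl d) = map (r • 𝟙 M) (r • 𝟙 F) (by simp) := by
  apply from_double_hom_ext <;> simp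

/-- If `d ≫ k = r` and `k ≫ d = r` then `r` kills the two-term complex in the derived
category. -/
theorem smul_id_Q_eq_zero (h₀ : d ≫ k = r • 𝟙 M) (h₁ : k ≫ d = r • 𝟙 F) :
    r • 𝟙 (DerivedCategory.Q.obj (dbl d)) = 0 := by
  have h : DerivedCategory.Q.map (r • 𝟙 (dbl d)) = 0 := by
    have h' : DerivedCategory.Q.map (map (f := d) (g := d) (r • 𝟙 M) (r • 𝟙 F) (by simp)) =
        DerivedCategory.Q.map (map (f := d) (g := d) (0 : M ⟶ M) (0 : F ⟶ F) (by simp)) :=
      DerivedCategory.Q_map_eq_of_homotopy _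
        (htpyMap _ _ _ _ _ _ k (by rw [h₀, add_zero]) (by rw [h₁, add_zero]))
    rw [smul_id_eq, h', map_zero, Functor.map_zero]
  rw [← h, Functor.map_smul, CategoryTheory.Functor.map_id]

/-- If `d ≫ k = r` and the degree-zero term is projective, then `r` kills every morphism from
the two-term complex to a module shifted by one. -/
theorem smul_hom_eq_zero [Projective F] (h₀ : d ≫ k = r • 𝟙 M) {N : C}
    (ψ : DerivedCategory.Q.obj (dbl d) ⟶ ((DerivedCategory.singleFunctor C 0).obj N)⟦(1 : ℤ)⟧) :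
    r • ψ = 0 := by
  have hθ : d ≫ (r • 𝟙 F - k ≫ d) = 0 := by
    rw [Preadditive.comp_sub, Linear.comp_smul, Category.comp_id, ← Category.assoc, h₀,
      Linear.smul_comp, Category.id_comp, sub_self]
  let incl : (CochainComplex.singleFunctor C 0).obj F ⟶ dbl d :=
    mkHomFromSingle ((doubleXIso₁ d rel ne).inv)
      (fun j _ => by rw [double_d_eq_zero₀ d rel 0 j (by decide), comp_zero])
  let θ' : dbl d ⟶ (CochainComplex.singleFunctor C 0).obj F :=
    mkHomFromDouble rel ne 0 ((r • 𝟙 F - k ≫ d) ≫ (singleObjXSelf (ComplexShape.up ℤ) 0 F).inv)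
      (by rw [zero_comp, reassoc_of% hθ, zero_comp])
      (fun j _ => by simp)
  have hfac : map (0 : M ⟶ M) (r • 𝟙 F - k ≫ d) (by rw [zero_comp, hθ]) = θ' ≫ incl := by
    apply from_double_hom_ext
    · simp [θ', incl]
    · rw [map_f₁, comp_f, mkHomFromDouble_f₁, mkHomFromSingle_f]
      simp only [Category.assoc]
      erw [Iso.inv_hom_id_assoc]
  have h1 : DerivedCategory.Q.map (r • 𝟙 (dbl d)) =
      DerivedCategory.Q.map (map (0 : M ⟶ M) (r • 𝟙 F - k ≫ d) (by rw [zero_comp, hθ])) := by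
    rw [smul_id_eq]
    apply DerivedCategory.Q_map_eq_of_homotopy
    exact htpyMap _ _ _ _ _ _ k (by rw [h₀, add_zero]) (by abel)
  have h2 : DerivedCategory.Q.map incl ≫ ψ = 0 := hom_single_projective_eq_zero _
  calc r • ψ = (r • 𝟙 _) ≫ ψ := by rw [Linear.smul_comp, Category.id_comp]
    _ = DerivedCategory.Q.map (r • 𝟙 (dbl d)) ≫ ψ := by
        rw [Functor.map_smul, CategoryTheory.Functor.map_id]
    _ = 0 := by
        rw [h1, hfac, Functor.map_comp, Category.assoc, h2, comp_zero]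

end Kill

end Groth.Agent.Helper3.NLDbl
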