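import Mathlib
import Groth.Agent.Lib.Helper3.NLDbl

/-!
# The Jacobian determinant kills `Ext¹(NL, -)` (helper3)
-/

set_option autoImplicit false
universe u
open CategoryTheory Limits MvPolynomial Algebra

namespace Groth.Agent.Helper3.NLJac

variable {A : Type u} [CommRing A] {n m : ℕ} (hmn : m ≤ n) (f : Fin m → MvPolynomial (Fin n) A)

/-- The quotient ring `A[x₁..xₙ]/(f₁..fₘ)`. -/
abbrev Bq : Type u := MvPolynomial (Fin n) A ⧸ Ideal.span (Set.range f)

/-- The standard generators of the quotient. -/
noncomputable def gens : Generators A (Bq f) (Fin n) where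
  val i := Ideal.Quotient.mk _ (X i)
  σ' b := Quotient.out b
  aeval_val_σ' b := by
    have h : ∀ p : MvPolynomial (Fin n) A,
        aeval (fun i => Ideal.Quotient.mk (Ideal.span (Set.range f)) (X i)) p =
          Ideal.Quotient.mk (Ideal.span (Set.range f)) p := by
      intro p
      induction p using MvPolynomial.induction_on with
      | C a => simp; rfl
      | add p q hp hq => simp [hp, hq]
      | mul_X p i hp => simp [hp]
    rw [h]
    exact Quotient.out_eq b
  algebra := inferInstance
  algebraMap_eq := by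
    apply MvPolynomial.ringHom_ext
    · intro r; simp; rfl
    · intro i; simp

lemma aeval_gens (p : MvPolynomial (Fin n) A) :
    aeval (gens f).val p = Ideal.Quotient.mk (Ideal.span (Set.range f)) p := by
  rw [← (gens f).algebraMap_apply]
  rfl

lemma mem_ker (j : Fin m) : f j ∈ (gens f).toExtension.ker := by
  show f j ∈ RingHom.ker (algebraMap (MvPolynomial (Fin n) A) (Bq f))
  rw [RingHom.mem_ker]
  exact Ideal.Quotient.eq_zero_iff_mem.mpr (Ideal.subset_span ⟨j, rfl⟩)

lemma ker_eq : (gens f).toExtension.ker = Ideal.span (Set.range f) := by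
  show RingHom.ker (algebraMap (MvPolynomial (Fin n) A) (Bq f)) = _
  exact Ideal.mk_ker

/-- The Jacobian matrix (first `m` variables) with entries in the quotient. -/
noncomputable def Jb : Matrix (Fin m) (Fin m) (Bq f) :=
  (Matrix.of (fun i j : Fin m => pderiv (Fin.castLE hmn i) (f j))).map
    (Ideal.Quotient.mk (Ideal.span (Set.range f)))

lemma det_Jb : (Jb hmn f).det = Ideal.Quotient.mk (Ideal.span (Set.range f))
    (Matrix.det (Matrix.of (fun i j : Fin m => pderiv (Fin.castLE hmn i) (f j)))) := by
  unfold Jb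
  rw [RingHom.map_det]
  rfl

/-- `Bᵐ → I/I²`, `e_j ↦ [f_j]`. -/
noncomputable def sMap : (Fin m → Bq f) →ₗ[Bq f] (gens f).toExtension.Cotangent :=
  Fintype.linearCombination (Bq f) (fun j => Extension.Cotangent.mk ⟨f j, mem_ker f j⟩)

lemma sMap_apply (v : Fin m → Bq f) :
    sMap f v = ∑ j, v j • Extension.Cotangent.mk (P := (gens f).toExtension) ⟨f j, mem_ker f j⟩ := by
  simp [sMap, Fintype.linearCombination_apply]

/-- The coordinates of the first `m` variables. -/
noncomputable def prMap : (gens f).toExtension.CotangentSpace →ₗ[Bq f] (Fin m → Bq f) :=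
  LinearMap.pi (fun i => (Finsupp.lapply (Fin.castLE hmn i)) ∘ₗ
    (gens f).cotangentSpaceBasis.repr.toLinearMap)

lemma prMap_apply (y : (gens f).toExtension.CotangentSpace) (i : Fin m) :
    prMap hmn f y i = (gens f).cotangentSpaceBasis.repr y (Fin.castLE hmn i) := rfl

lemma sMap_surjective : Function.Surjective (sMap f) := by
  intro x
  obtain ⟨y, rfl⟩ := Extension.Cotangent.mk_surjective x
  have hy : (y.1 : MvPolynomial (Fin n) A) ∈ Ideal.span (Set.range f) :=
    (SetLike.ext_iff.mp (ker_eq f) y.1).mp y.2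
  obtain ⟨c, hc⟩ := (Ideal.mem_span_range_iff_exists_fun).mp hy
  refine ⟨fun j => Ideal.Quotient.mk _ (c j), ?_⟩
  rw [sMap_apply]
  have h1 : y = ∑ j, c j • (⟨f j, mem_ker f j⟩ : (gens f).toExtension.ker) := by
    apply Subtype.ext
    rw [← hc]
    simp [smul_eq_mul]
    rfl
  rw [h1, map_sum]
  refine Finset.sum_congr rfl (fun j _ => ?_)
  rw [map_smul]
  exact (algebraMap_smul (Bq f) (c j) _)

lemma pr_d_s (v : Fin m → Bq f) :
    prMap hmn f ((gens f).toExtension.cotangentComplex (sMap f v)) = (Jb hmn f).mulVec v := by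
  ext i
  rw [prMap_apply, sMap_apply, map_sum, map_sum, Finsupp.finsetSum_apply, Matrix.mulVec,
    dotProduct]
  refine Finset.sum_congr rfl (fun j _ => ?_)
  rw [map_smul, map_smul, Extension.cotangentComplex_mk, Finsupp.smul_apply,
    Generators.cotangentSpaceBasis_repr_one_tmul, aeval_gens, smul_eq_mul, mul_comm]
  rfl

/-- The contracting map `Ω ⊗ B → I/I²` built from the adjugate of the Jacobian. -/
noncomputable def kMap : (gens f).toExtension.CotangentSpace →ₗ[Bq f]
    (gens f).toExtension.Cotangent :=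
  sMap f ∘ₗ (Matrix.mulVecLin (Jb hmn f).adjugate) ∘ₗ prMap hmn f

lemma k_d (x : (gens f).toExtension.Cotangent) :
    kMap hmn f ((gens f).toExtension.cotangentComplex x) = (Jb hmn f).det • x := by
  obtain ⟨v, rfl⟩ := sMap_surjective f x
  simp only [kMap, LinearMap.coe_comp, Function.comp_apply, Matrix.mulVecLin_apply]
  rw [pr_d_s, Matrix.mulVec_mulVec, Matrix.adjugate_mul, Matrix.smul_mulVec, Matrix.one_mulVec,
    map_smul]

lemma prMap_injective (hnm : n = m) : Function.Injective (prMap hmn f) := by
  intro y y' h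
  apply (gens f).cotangentSpaceBasis.repr.injective
  ext j
  have hj : j = Fin.castLE hmn ⟨j.1, by omega⟩ := Fin.ext rfl
  have := congrFun h ⟨j.1, by omega⟩
  rw [prMap_apply, prMap_apply, ← hj] at this
  exact this

lemma d_k (hnm : n = m) (y : (gens f).toExtension.CotangentSpace) :
    (gens f).toExtension.cotangentComplex (kMap hmn f y) = (Jb hmn f).det • y := by
  apply prMap_injective hmn f hnm
  simp only [kMap, LinearMap.coe_comp, Function.comp_apply, Matrix.mulVecLin_apply]
  rw [pr_d_s, Matrix.mulVec_mulVec, Matrix.mul_adjugate, Matrix.smul_mulVec, Matrix.one_mulVec,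
    map_smul]

attribute [local instance] HasDerivedCategory.standard

open Groth.Agent.Helper3.NLDbl

instance : Projective (ModuleCat.of (Bq f) (gens f).toExtension.CotangentSpace) :=
  (IsProjective.iff_projective _).mp inferInstance

/-- The Jacobian determinant kills `Hom(NL, N[1])` for the standard presentation. -/
theorem kill1_gens (N : ModuleCat.{u} (Bq f))
    (ψ : DerivedCategory.Q.obj (nlCx (gens f).toExtension) ⟶
      ((DerivedCategory.singleFunctor (ModuleCat.{u} (Bq f)) 0).obj N)⟦(1 : ℤ)⟧) :
    (Jb hmn f).det • ψ = 0 := by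
  apply smul_hom_eq_zero (ModuleCat.ofHom (gens f).toExtension.cotangentComplex) (Jb hmn f).det
    (ModuleCat.ofHom (kMap hmn f))
  refine ModuleCat.hom_ext (LinearMap.ext fun x => ?_)
  exact k_d hmn f x

theorem kill2_gens (hnm : n = m) :
    (Jb hmn f).det • 𝟙 (DerivedCategory.Q.obj (nlCx (gens f).toExtension)) = 0 := by
  apply smul_id_Q_eq_zero (ModuleCat.ofHom (gens f).toExtension.cotangentComplex) (Jb hmn f).det
    (ModuleCat.ofHom (kMap hmn f))
  · refine ModuleCat.hom_ext (LinearMap.ext fun x => ?_)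
    exact k_d hmn f x
  · refine ModuleCat.hom_ext (LinearMap.ext fun x => ?_)
    exact d_k hmn f hnm x

/-- The comparison maps with the canonical presentation. -/
noncomputable def αHom : (gens f).toExtension.Hom (Generators.self A (Bq f)).toExtension :=
  ((gens f).defaultHom (Generators.self A (Bq f))).toExtensionHom

noncomputable def βHom : (Generators.self A (Bq f)).toExtension.Hom (gens f).toExtension :=
  Extension.defaultHom A (Bq f) (gens f).toExtension

theorem kill1 (N : ModuleCat.{u} (Bq f))
    (φ : DerivedCategory.Q.obj (nlCx (Generators.self A (Bq f)).toExtension) ⟶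
      ((DerivedCategory.singleFunctor (ModuleCat.{u} (Bq f)) 0).obj N)⟦(1 : ℤ)⟧) :
    (Jb hmn f).det • φ = 0 := by
  have hid := Q_nlMap_comp_eq_id (βHom f) (αHom f)
  have h1 := kill1_gens hmn f N (DerivedCategory.Q.map (nlMap (αHom f)) ≫ φ)
  calc (Jb hmn f).det • φ = (Jb hmn f).det • ((DerivedCategory.Q.map (nlMap (βHom f)) ≫
        DerivedCategory.Q.map (nlMap (αHom f))) ≫ φ) := by rw [hid, Category.id_comp]
    _ = DerivedCategory.Q.map (nlMap (βHom f)) ≫
        ((Jb hmn f).det • (DerivedCategory.Q.map (nlMap (αHom f)) ≫ φ)) := by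
        rw [Category.assoc, Linear.comp_smul]
    _ = 0 := by rw [h1, comp_zero]

theorem kill2 (hnm : n = m) :
    (Jb hmn f).det • 𝟙 (DerivedCategory.Q.obj (nlCx (Generators.self A (Bq f)).toExtension)) = 0 := by
  have hid := Q_nlMap_comp_eq_id (βHom f) (αHom f)
  have h1 := kill2_gens hmn f hnm
  calc (Jb hmn f).det • 𝟙 _ = (Jb hmn f).det • (DerivedCategory.Q.map (nlMap (βHom f)) ≫
        𝟙 _ ≫ DerivedCategory.Q.map (nlMap (αHom f))) := by rw [Category.id_comp, hid]
    _ = DerivedCategory.Q.map (nlMap (βHom f)) ≫ ((Jb hmn f).det • 𝟙 _) ≫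
        DerivedCategory.Q.map (nlMap (αHom f)) := by
        rw [Linear.smul_comp, Linear.comp_smul]
    _ = 0 := by rw [h1, zero_comp, comp_zero]

end Groth.Agent.Helper3.NLJac
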