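import Mathlib
import Groth.Prelude.Def_LCI2
import Groth.Prelude.Def_PP16
import Groth.Prelude.Def_CAlgX
import Groth.Agent.Lib.Helper3.NLDbl
import Groth.Agent.Lib.Helper8.QRLoc3
import Groth.Agent.Lib.Helper8.QRLoc4
import Groth.Agent.Lib.Helper4.QReg1
import Groth.Agent.Lib.Helper4.KosH1

/-!
# The naive cotangent complex of a local complete intersection is perfect of tor amplitude
`[-1, 0]` (helper3)
-/

set_option autoImplicit false
universe u
open CategoryTheory Limits HomologicalComplex Algebra MvPolynomial

namespace Groth.Agent.Helper3.NLLci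

open Groth.Agent.Helper3.NLDbl

attribute [local instance] HasDerivedCategory.standard

/-- A Koszul-regular ideal is locally generated by quasi-regular sequences. -/
theorem isLocallyQuasiRegular_of_kr {R : Type u} [CommRing R] (J : Ideal R)
    (h : LCI.IsKoszulRegularIdeal J) : PP16.IsLocallyQuasiRegular R J := by
  intro P hP hJP
  obtain ⟨g, hg, l, hl, hspan⟩ := h ⟨P, hP⟩ hJP
  refine ⟨g, hg, l.length, l.get, ?_, ?_⟩
  · exact Groth.Agent.Lib.Helper4.QReg1.S2103_main _
      (Groth.Agent.Lib.Helper4.KosH1.isH1Regular_of_koszul l hl)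
  · rw [hspan]
    congr 1
    ext x
    simp only [Set.mem_range, Set.mem_setOf_eq]
    exact List.mem_iff_get.symm

section Transfer

variable {A B : Type u} [CommRing A] [CommRing B] [Algebra A B] (E : Extension.{u} A B)

theorem finite_cotangent (h : E.ker.FG) : Module.Finite B E.Cotangent := by
  haveI : Module.Finite E.Ring ↥E.ker := Module.Finite.iff_fg.2 h
  haveI : Module.Finite E.Ring E.Cotangent :=
    Module.Finite.of_surjective Extension.Cotangent.mk Extension.Cotangent.mk_surjective
  exact Module.Finite.of_restrictScalars_finite E.Ring B E.Cotangent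

theorem projective_cotangent (h : Module.Projective (E.Ring ⧸ E.ker) E.ker.Cotangent) :
    Module.Projective B E.Cotangent := by
  let e₁ : (E.Ring ⧸ E.ker) ≃+* B := RingHom.quotientKerEquivOfSurjective E.algebraMap_surjective
  letI i1 : RingHomInvPair (e₁ : (E.Ring ⧸ E.ker) →+* B) (e₁.symm : B →+* (E.Ring ⧸ E.ker)) :=
    RingHomInvPair.of_ringEquiv e₁
  letI i2 : RingHomInvPair (e₁.symm : B →+* (E.Ring ⧸ E.ker)) (e₁ : (E.Ring ⧸ E.ker) →+* B) :=
    RingHomInvPair.of_ringEquiv e₁.symm
  let e₂ : E.ker.Cotangent ≃ₛₗ[(e₁ : (E.Ring ⧸ E.ker) →+* B)] E.Cotangent :=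
    { toFun := Extension.Cotangent.of
      invFun := Extension.Cotangent.val
      left_inv := fun _ => rfl
      right_inv := fun _ => rfl
      map_add' := fun _ _ => rfl
      map_smul' := by
        intro r x
        obtain ⟨p, rfl⟩ := Ideal.Quotient.mk_surjective r
        apply Extension.Cotangent.ext
        have h1 : (e₁ : (E.Ring ⧸ E.ker) →+* B) (Ideal.Quotient.mk _ p) = algebraMap E.Ring B p :=
          RingHom.quotientKerEquivOfSurjective_apply_mk E.algebraMap_surjective p
        have h2 : (Ideal.Quotient.mk E.ker p) • x = p • x := by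
          rw [← Ideal.Quotient.algebraMap_eq, algebraMap_smul]
        rw [h1, algebraMap_smul, Extension.Cotangent.val_smul']
        exact h2 }
  exact Module.Projective.of_equiv e₂

end Transfer

section Main

variable {A B : Type u} [CommRing A] [CommRing B] [Algebra A B]

/-- If the kernel of a finite presentation is Koszul-regular, `NL_{B/A}` is perfect of tor
amplitude in `[-1, 0]`. -/
theorem main_of_gens {n : ℕ} (G : Generators A B (Fin n))
    (hI : LCI.IsKoszulRegularIdeal G.toExtension.ker) :
    DRing.IsPerfect B (LCI.NL A B) ∧ DRing.HasTorAmplitudeIn B (-1) 0 (LCI.NL A B) := by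
  have hqr := isLocallyQuasiRegular_of_kr _ hI
  have hfg : G.toExtension.ker.FG := Groth.Agent.Helper8.QRLoc.fg_of_isLocallyQuasiRegular hqr
  have hproj := Groth.Agent.Helper8.QRLoc.projective_of_isLocallyQuasiRegular hqr
  haveI hF : Module.Finite B G.toExtension.Cotangent := finite_cotangent _ hfg
  haveI hP : Module.Projective B G.toExtension.Cotangent := projective_cotangent _ hproj
  haveI hF' : Module.Finite B G.toExtension.CotangentSpace :=
    Module.Finite.of_basis G.cotangentSpaceBasis
  haveI hP' : Module.Projective B G.toExtension.CotangentSpace :=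
    Module.Projective.of_basis G.cotangentSpaceBasis
  -- the comparison with the canonical presentation
  let α : G.toExtension.Hom (Generators.self A B).toExtension :=
    (G.defaultHom (Generators.self A B)).toExtensionHom
  let β : (Generators.self A B).toExtension.Hom G.toExtension :=
    Extension.defaultHom A B G.toExtension
  let e : DRing.toD (nlCx G.toExtension) ≅ LCI.NL A B :=
    { hom := DerivedCategory.Q.map (nlMap α)
      inv := DerivedCategory.Q.map (nlMap β)
      hom_inv_id := Q_nlMap_comp_eq_id α β
      inv_hom_id := Q_nlMap_comp_eq_id β α }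
  have hvan : DRing.VanishesOutside (nlCx G.toExtension) (-1) 0 := by
    intro i hi
    exact isZero_double_X _ rel i (by omega) (by omega)
  have hterm : DRing.TermwiseFiniteProjective (nlCx G.toExtension) := by
    intro i
    by_cases h0 : i = -1
    · subst h0
      let l := (doubleXIso₀ (ModuleCat.ofHom G.toExtension.cotangentComplex) rel).symm.toLinearEquiv
      exact ⟨Module.Finite.equiv l, Module.Projective.of_equiv' l⟩
    · by_cases h1 : i = 0
      · subst h1
        let l := (doubleXIso₁ (ModuleCat.ofHom G.toExtension.cotangentComplex) rel ne).symm.toLinearEquiv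
        exact ⟨Module.Finite.equiv l, Module.Projective.of_equiv' l⟩
      · haveI : Subsingleton ((nlCx G.toExtension).X i) :=
          ModuleCat.subsingleton_of_isZero (isZero_double_X _ rel i h0 h1)
        exact ⟨inferInstance, inferInstance⟩
  refine ⟨⟨nlCx G.toExtension, -1, 0, hvan, hterm, ⟨e⟩⟩, ⟨nlCx G.toExtension, hvan, fun i => ?_, ⟨e⟩⟩⟩
  haveI := (hterm i).2
  infer_instance

theorem main (h : LCI.IsLCI A B) :
    DRing.IsPerfect B (LCI.NL A B) ∧ DRing.HasTorAmplitudeIn B (-1) 0 (LCI.NL A B) := by
  obtain ⟨-, n, f, hf, hI⟩ := h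
  have hae : (MvPolynomial.aeval (fun i => f (X i)) : MvPolynomial (Fin n) A →ₐ[A] B) = f := by
    apply MvPolynomial.algHom_ext
    intro i
    simp
  let G : Generators A B (Fin n) :=
    Generators.ofSurjective (fun i => f (X i)) (by rw [hae]; exact hf)
  have hker : G.toExtension.ker = RingHom.ker f.toRingHom := by
    ext p
    simp only [RingHom.mem_ker]
    have h1 : algebraMap G.toExtension.Ring B p = f p := by
      have h2 := Generators.algebraMap_apply G p
      rw [show G.val = fun i => f (X i) from rfl, hae] at h2
      exact h2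
    rw [h1]
    rfl
  apply main_of_gens G
  rw [hker]
  exact hI

end Main

end Groth.Agent.Helper3.NLLci
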