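import Mathlib
/-! helper3: closed subsets avoiding a fibre spread out to a finitely presented (polynomial) base
(S9224). Elementary: affine charts `Spec (C ⊗ B)` of the fibre product and a prime-avoidance argument. -/

open CategoryTheory CategoryTheory.Limits AlgebraicGeometry TensorProduct

universe u
set_option linter.unusedSectionVars false
set_option linter.style.haveILetI false

namespace H3NhdAvoid

section Alg

variable {A B C : Type u} [CommRing A] [CommRing B] [CommRing C] [Algebra A B] [Algebra A C]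

lemma exists_finset_lift (m : C ⊗[A] B) :
    ∃ F : Finset B, ∀ (R : Type u) [CommRing R] [Algebra A R] (ψ : R →ₐ[A] B),
      ((↑F : Set B) ⊆ Set.range ψ) →
        ∃ m' : C ⊗[A] R, Algebra.TensorProduct.map (AlgHom.id A C) ψ m' = m := by
  classical
  induction m using TensorProduct.induction_on with
  | zero => exact ⟨∅, fun R _ _ ψ _ => ⟨0, map_zero _⟩⟩
  | tmul c b =>
    refine ⟨{b}, fun R _ _ ψ h => ?_⟩
    obtain ⟨b', hb'⟩ := h (show b ∈ (↑({b} : Finset B) : Set B) by simp)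
    exact ⟨c ⊗ₜ b', by simp [hb']⟩
  | add x y hx hy =>
    obtain ⟨F1, h1⟩ := hx
    obtain ⟨F2, h2⟩ := hy
    refine ⟨F1 ∪ F2, fun R _ _ ψ h => ?_⟩
    obtain ⟨x', hx'⟩ := h1 R ψ ((Finset.coe_subset.mpr Finset.subset_union_left).trans h)
    obtain ⟨y', hy'⟩ := h2 R ψ ((Finset.coe_subset.mpr Finset.subset_union_right).trans h)
    exact ⟨x' + y', by rw [map_add, hx', hy']⟩

lemma exists_finset_lift_map (𝔭 : Ideal B) (y : C ⊗[A] B)
    (hy : y ∈ Ideal.map (Algebra.TensorProduct.includeRight : B →ₐ[A] C ⊗[A] B) 𝔭) :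
    ∃ F : Finset B, ∀ (R : Type u) [CommRing R] [Algebra A R] (ψ : R →ₐ[A] B),
      ((↑F : Set B) ⊆ Set.range ψ) → ∃ y' : C ⊗[A] R,
        Algebra.TensorProduct.map (AlgHom.id A C) ψ y' = y ∧
        y' ∈ Ideal.map (Algebra.TensorProduct.includeRight : R →ₐ[A] C ⊗[A] R) (𝔭.comap ψ) := by
  classical
  refine Submodule.span_induction (p := fun y _ => ∃ F : Finset B,
      ∀ (R : Type u) [CommRing R] [Algebra A R] (ψ : R →ₐ[A] B),
      ((↑F : Set B) ⊆ Set.range ψ) → ∃ y' : C ⊗[A] R,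
        Algebra.TensorProduct.map (AlgHom.id A C) ψ y' = y ∧
        y' ∈ Ideal.map (Algebra.TensorProduct.includeRight : R →ₐ[A] C ⊗[A] R) (𝔭.comap ψ))
    ?_ ?_ ?_ ?_ hy
  · rintro x ⟨p, hp, rfl⟩
    refine ⟨{p}, fun R _ _ ψ h => ?_⟩
    obtain ⟨p', hp'⟩ := h (show p ∈ (↑({p} : Finset B) : Set B) by simp)
    refine ⟨Algebra.TensorProduct.includeRight p', by simp [hp'], Ideal.mem_map_of_mem _ ?_⟩
    show ψ p' ∈ 𝔭
    rw [hp']; exact hp
  · exact ⟨∅, fun R _ _ ψ _ => ⟨0, map_zero _, zero_mem _⟩⟩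
  · rintro x y _ _ ⟨F1, h1⟩ ⟨F2, h2⟩
    refine ⟨F1 ∪ F2, fun R _ _ ψ h => ?_⟩
    obtain ⟨x', hx', hx''⟩ := h1 R ψ ((Finset.coe_subset.mpr Finset.subset_union_left).trans h)
    obtain ⟨y', hy', hy''⟩ := h2 R ψ ((Finset.coe_subset.mpr Finset.subset_union_right).trans h)
    exact ⟨x' + y', by rw [map_add, hx', hy'], add_mem hx'' hy''⟩
  · rintro a x _ ⟨F2, h2⟩
    obtain ⟨F1, h1⟩ := exists_finset_lift (A := A) (B := B) (C := C) a
    refine ⟨F1 ∪ F2, fun R _ _ ψ h => ?_⟩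
    obtain ⟨a', ha'⟩ := h1 R ψ ((Finset.coe_subset.mpr Finset.subset_union_left).trans h)
    obtain ⟨x', hx', hx''⟩ := h2 R ψ ((Finset.coe_subset.mpr Finset.subset_union_right).trans h)
    exact ⟨a' * x', by rw [map_mul, ha', hx', smul_eq_mul], Ideal.mul_mem_left _ _ hx''⟩

theorem per_k (𝔭 : Ideal B) [𝔭.IsPrime] (I : Ideal (C ⊗[A] B))
    (hI : ∀ q : Ideal (C ⊗[A] B), q.IsPrime → I ≤ q →
      q.comap (Algebra.TensorProduct.includeRight : B →ₐ[A] C ⊗[A] B) ≠ 𝔭) :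
    ∃ F : Finset B, ∀ (R : Type u) [CommRing R] [Algebra A R] (ψ : R →ₐ[A] B),
      ((↑F : Set B) ⊆ Set.range ψ) → ∃ x' : C ⊗[A] R,
        Algebra.TensorProduct.map (AlgHom.id A C) ψ x' ∈ I ∧
        ∀ q' : Ideal (C ⊗[A] R), q'.IsPrime → x' ∈ q' →
          q'.comap (Algebra.TensorProduct.includeRight : R →ₐ[A] C ⊗[A] R) ≠ 𝔭.comap ψ := by
  classical
  obtain ⟨s, hs, hsJ⟩ : ∃ s : B, s ∉ 𝔭 ∧
      (Algebra.TensorProduct.includeRight : B →ₐ[A] C ⊗[A] B) s ∈
        I ⊔ Ideal.map (Algebra.TensorProduct.includeRight : B →ₐ[A] C ⊗[A] B) 𝔭 := by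
    by_contra hcon
    push_neg at hcon
    have hdisj : Disjoint
        ((I ⊔ Ideal.map (Algebra.TensorProduct.includeRight : B →ₐ[A] C ⊗[A] B) 𝔭 :
          Ideal (C ⊗[A] B)) : Set (C ⊗[A] B))
        ((Submonoid.map (Algebra.TensorProduct.includeRight : B →ₐ[A] C ⊗[A] B) 𝔭.primeCompl :
          Submonoid (C ⊗[A] B)) : Set (C ⊗[A] B)) := by
      rw [Set.disjoint_left]
      rintro x hx ⟨s, hs, rfl⟩
      exact hcon s hs hx
    obtain ⟨q, hq, hJq, hqd⟩ := Ideal.exists_le_prime_disjoint _ _ hdisj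
    refine hI q hq (le_sup_left.trans hJq) ?_
    apply le_antisymm
    · intro b hb
      by_contra hb'
      exact Set.disjoint_left.mp hqd hb ⟨b, hb', rfl⟩
    · intro b hb
      exact hJq (Ideal.mem_sup_right (Ideal.mem_map_of_mem _ hb))
  obtain ⟨x, hx, y, hy, hxy⟩ := Submodule.mem_sup.mp hsJ
  obtain ⟨F, hF⟩ := exists_finset_lift_map (A := A) (C := C) 𝔭 y hy
  refine ⟨insert s F, fun R _ _ ψ h => ?_⟩
  obtain ⟨s', hs'⟩ := h (show s ∈ (↑(insert s F : Finset B) : Set B) by simp)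
  obtain ⟨y', hy', hy''⟩ := hF R ψ ((Finset.coe_subset.mpr (Finset.subset_insert _ _)).trans h)
  refine ⟨(Algebra.TensorProduct.includeRight : R →ₐ[A] C ⊗[A] R) s' - y', ?_, ?_⟩
  · rw [map_sub, hy']
    have h1 : Algebra.TensorProduct.map (AlgHom.id A C) ψ
        ((Algebra.TensorProduct.includeRight : R →ₐ[A] C ⊗[A] R) s') =
        (Algebra.TensorProduct.includeRight : B →ₐ[A] C ⊗[A] B) s := by
      simp [hs']
    rw [h1, ← hxy, add_sub_cancel_right]
    exact hx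
  · intro q' hq' hxq' heq
    have hy3 : y' ∈ q' := by
      have h2 := Ideal.map_mono (f := (Algebra.TensorProduct.includeRight : R →ₐ[A] C ⊗[A] R))
        heq.ge hy''
      exact Ideal.map_comap_le h2
    have hs3 : (Algebra.TensorProduct.includeRight : R →ₐ[A] C ⊗[A] R) s' ∈ q' := by
      have h3 := add_mem hxq' hy3
      rwa [sub_add_cancel] at h3
    have h4 : s' ∈ 𝔭.comap ψ := by rw [← heq]; exact hs3
    exact hs (by rw [← hs']; exact h4)

end Alg

section Chart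

variable {X S Y : Scheme.{u}} (f : X ⟶ S) (h : Y ⟶ S)
  (A B C : Type u) [CommRing A] [CommRing B] [CommRing C] [Algebra A B] [Algebra A C]
  (ιU : Spec (CommRingCat.of A) ⟶ S)
  (j : Spec (CommRingCat.of C) ⟶ X)
  (hj : j ≫ f = Spec.map (CommRingCat.ofHom (algebraMap A C)) ≫ ιU)
  (y : Spec (CommRingCat.of B) ⟶ Y)
  (hy : y ≫ h = Spec.map (CommRingCat.ofHom (algebraMap A B)) ≫ ιU)

/-- `C ⟶ C ⊗ B` -/
abbrev incL : CommRingCat.of C ⟶ CommRingCat.of (C ⊗[A] B) :=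
  CommRingCat.ofHom Algebra.TensorProduct.includeLeftRingHom

/-- `B ⟶ C ⊗ B` -/
abbrev incR : CommRingCat.of B ⟶ CommRingCat.of (C ⊗[A] B) :=
  CommRingCat.ofHom (Algebra.TensorProduct.includeRight : B →ₐ[A] C ⊗[A] B).toRingHom

lemma inc_w : CommRingCat.ofHom (algebraMap A C) ≫ incL A B C =
    CommRingCat.ofHom (algebraMap A B) ≫ incR A B C :=
  (CommRingCat.isPushout_tensorProduct A C B).w

include hj hy in
lemma chart_w : (Spec.map (incL A B C) ≫ j) ≫ f = (Spec.map (incR A B C) ≫ y) ≫ h := by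
  rw [Category.assoc, hj, Category.assoc, hy, ← Category.assoc, ← Category.assoc,
    ← Spec.map_comp, ← Spec.map_comp, inc_w]

/-- the chart `Spec (C ⊗ B) ⟶ X ×_S Y` -/
noncomputable def chart : Spec (CommRingCat.of (C ⊗[A] B)) ⟶ pullback f h :=
  pullback.lift (Spec.map (incL A B C) ≫ j) (Spec.map (incR A B C) ≫ y)
    (chart_w f h A B C ιU j hj y hy)

lemma chart_fst : chart f h A B C ιU j hj y hy ≫ pullback.fst f h = Spec.map (incL A B C) ≫ j :=
  pullback.lift_fst _ _ _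

lemma chart_snd : chart f h A B C ιU j hj y hy ≫ pullback.snd f h = Spec.map (incR A B C) ≫ y :=
  pullback.lift_snd _ _ _

lemma chart_isPullback [Mono ιU] [IsIso y] :
    IsPullback (chart f h A B C ιU j hj y hy) (Spec.map (incL A B C)) (pullback.fst f h) j := by
  have P0 : IsPullback (Spec.map (incL A B C)) (Spec.map (incR A B C))
      (Spec.map (CommRingCat.ofHom (algebraMap A C)))
      (Spec.map (CommRingCat.ofHom (algebraMap A B))) :=
    isPullback_SpecMap_of_isPushout _ _ _ _ (CommRingCat.isPushout_tensorProduct A C B)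
  have P1 : IsPullback (Spec.map (incL A B C)) (Spec.map (incR A B C))
      (Spec.map (CommRingCat.ofHom (algebraMap A C)) ≫ ιU)
      (Spec.map (CommRingCat.ofHom (algebraMap A B)) ≫ ιU) :=
    IsPullback.of_isLimit (PullbackCone.isLimitOfCompMono _ _ ιU _ P0.isLimit)
  have Q : IsPullback (Spec.map (CommRingCat.ofHom (algebraMap A B)) ≫ ιU) y (𝟙 S) h :=
    IsPullback.of_vert_isIso ⟨by rw [Category.comp_id, hy]⟩
  have P2 := P1.paste_vert Q
  rw [Category.comp_id, ← hj] at P2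
  refine IsPullback.of_right (h₁₂ := pullback.snd f h) (h₂₂ := f) (v₁₃ := h) ?_
    (chart_fst f h A B C ιU j hj y hy) (IsPullback.of_hasPullback f h).flip
  rw [chart_snd]
  exact P2.flip

lemma chart_isOpenImmersion [Mono ιU] [IsIso y] [IsOpenImmersion j] :
    IsOpenImmersion (chart f h A B C ιU j hj y hy) :=
  MorphismProperty.of_isPullback (P := @IsOpenImmersion)
    (chart_isPullback f h A B C ιU j hj y hy).flip inferInstance

lemma chart_surj [Mono ιU] [IsIso y] (p : ↥(pullback f h))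
    (hp : (pullback.fst f h).base p ∈ Set.range j.base) :
    ∃ Q, (chart f h A B C ιU j hj y hy).base Q = p := by
  obtain ⟨c, hc⟩ := hp
  have sq := chart_isPullback f h A B C ιU j hj y hy
  obtain ⟨w, hw1, hw2⟩ := Scheme.Pullback.exists_preimage_pullback
    (f := pullback.fst f h) (g := j) p c hc.symm
  refine ⟨sq.isoPullback.inv.base w, ?_⟩
  rw [← Scheme.Hom.comp_apply, sq.isoPullback_inv_fst]
  exact hw1

end Chart

section Core

theorem core {X S V : Scheme.{u}} (f : X ⟶ S) (gV : V ⟶ S)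
    (A B : Type u) [CommRing A] [CommRing B] [Algebra A B]
    (ιU : Spec (CommRingCat.of A) ⟶ S) [IsOpenImmersion ιU]
    (y : Spec (CommRingCat.of B) ⟶ V) [IsIso y]
    (hy : y ≫ gV = Spec.map (CommRingCat.ofHom (algebraMap A B)) ≫ ιU)
    (K : Type u) [Finite K] (C : K → Type u) [∀ k, CommRing (C k)] [∀ k, Algebra A (C k)]
    (j : ∀ k, Spec (CommRingCat.of (C k)) ⟶ X) [∀ k, IsOpenImmersion (j k)]
    (hj : ∀ k, j k ≫ f = Spec.map (CommRingCat.ofHom (algebraMap A (C k))) ≫ ιU)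
    (hcov : ∀ x : X, f.base x ∈ Set.range ιU.base → ∃ k, x ∈ Set.range (j k).base)
    (tV : V) (ZV : Set ↥(pullback f gV)) (hZ : IsClosed ZV)
    (hZt : ∀ z ∈ ZV, (pullback.snd f gV).base z ≠ tV) :
    ∃ (σ : Type u) (_ : Finite σ) (ψ : MvPolynomial σ A →ₐ[A] B)
      (Z' : Set ↥(pullback f
        (Spec.map (CommRingCat.ofHom (algebraMap A (MvPolynomial σ A))) ≫ ιU))),
      IsClosed Z' ∧
      (∀ z' ∈ Z', (pullback.snd f
        (Spec.map (CommRingCat.ofHom (algebraMap A (MvPolynomial σ A))) ≫ ιU)).base z' ≠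
          (inv y ≫ Spec.map (CommRingCat.ofHom ψ.toRingHom)).base tV) ∧
      ∀ (m : pullback f gV ⟶ pullback f
          (Spec.map (CommRingCat.ofHom (algebraMap A (MvPolynomial σ A))) ≫ ιU)),
        m ≫ pullback.fst f _ = pullback.fst f gV →
        m ≫ pullback.snd f _ =
          pullback.snd f gV ≫ inv y ≫ Spec.map (CommRingCat.ofHom ψ.toRingHom) →
        ∀ z ∈ ZV, m.base z ∈ Z' := by
  classical
  obtain ⟨tB, htB⟩ : ∃ tB : ↥(Spec (CommRingCat.of B)), tB = (inv y).base tV := ⟨_, rfl⟩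
  have hytB : y.base tB = tV := by
    rw [htB, ← Scheme.Hom.comp_apply, IsIso.inv_hom_id]; rfl
  haveI : tB.asIdeal.IsPrime := tB.isPrime
  -- charts over V
  have hu_snd : ∀ k, chart f gV A B (C k) ιU (j k) (hj k) y hy ≫ pullback.snd f gV =
      Spec.map (incR A B (C k)) ≫ y := fun k => chart_snd _ _ _ _ _ _ _ _ _ _
  have hu_fst : ∀ k, chart f gV A B (C k) ιU (j k) (hj k) y hy ≫ pullback.fst f gV =
      Spec.map (incL A B (C k)) ≫ j k := fun k => chart_fst _ _ _ _ _ _ _ _ _ _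
  have hclosed : ∀ k, IsClosed ((chart f gV A B (C k) ιU (j k) (hj k) y hy).base ⁻¹' ZV) :=
    fun k => hZ.preimage (chart f gV A B (C k) ιU (j k) (hj k) y hy).continuous
  have hI : ∀ k, ∀ q : Ideal (C k ⊗[A] B), q.IsPrime →
      PrimeSpectrum.vanishingIdeal ((chart f gV A B (C k) ιU (j k) (hj k) y hy).base ⁻¹' ZV) ≤ q →
      q.comap (Algebra.TensorProduct.includeRight : B →ₐ[A] C k ⊗[A] B) ≠ tB.asIdeal := by
    intro k q hq hIq heq
    obtain ⟨Q, hQdef⟩ : ∃ Q : ↥(Spec (CommRingCat.of (C k ⊗[A] B))),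
        Q = (⟨q, hq⟩ : PrimeSpectrum (C k ⊗[A] B)) := ⟨_, rfl⟩
    have hQ : Q ∈ (chart f gV A B (C k) ιU (j k) (hj k) y hy).base ⁻¹' ZV := by
      have h0 : (⟨q, hq⟩ : PrimeSpectrum (C k ⊗[A] B)) ∈ PrimeSpectrum.zeroLocus
          ((PrimeSpectrum.vanishingIdeal
            ((chart f gV A B (C k) ιU (j k) (hj k) y hy).base ⁻¹' ZV) : Ideal (C k ⊗[A] B)) :
              Set (C k ⊗[A] B)) := hIq
      rw [PrimeSpectrum.zeroLocus_vanishingIdeal_eq_closure] at h0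
      rw [hQdef]
      exact (hclosed k).closure_subset h0
    apply hZt _ hQ
    have h1 : (pullback.snd f gV).base ((chart f gV A B (C k) ιU (j k) (hj k) y hy).base Q) =
        y.base ((Spec.map (incR A B (C k))).base Q) := by
      rw [← Scheme.Hom.comp_apply, hu_snd, Scheme.Hom.comp_apply]
    rw [h1, ← hytB]
    congr 1
    rw [hQdef]
    exact PrimeSpectrum.ext heq
  choose F hF using fun k => per_k (A := A) (B := B) (C := C k) tB.asIdeal
    (PrimeSpectrum.vanishingIdeal ((chart f gV A B (C k) ιU (j k) (hj k) y hy).base ⁻¹' ZV)) (hI k)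
  have hFfin : (⋃ k, (↑(F k) : Set B)).Finite := Set.finite_iUnion (fun k => (F k).finite_toSet)
  haveI : Finite ↥(⋃ k, (↑(F k) : Set B)) := hFfin.to_subtype
  obtain ⟨ψ, hψdef⟩ : ∃ ψ : MvPolynomial ↥(⋃ k, (↑(F k) : Set B)) A →ₐ[A] B,
      ψ = MvPolynomial.aeval (fun b : ↥(⋃ k, (↑(F k) : Set B)) => (b : B)) := ⟨_, rfl⟩
  have hψ : ∀ k, (↑(F k) : Set B) ⊆ Set.range ψ := fun k b hb =>
    ⟨MvPolynomial.X ⟨b, Set.mem_iUnion.mpr ⟨k, hb⟩⟩, by rw [hψdef]; simp⟩
  choose x' hx'I hx'q using fun k => hF k (MvPolynomial ↥(⋃ k, (↑(F k) : Set B)) A) ψ (hψ k)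
  -- charts over T'
  have hy' : 𝟙 (Spec (CommRingCat.of (MvPolynomial ↥(⋃ k, (↑(F k) : Set B)) A))) ≫
      (Spec.map (CommRingCat.ofHom (algebraMap A (MvPolynomial ↥(⋃ k, (↑(F k) : Set B)) A))) ≫ ιU) =
      Spec.map (CommRingCat.ofHom (algebraMap A (MvPolynomial ↥(⋃ k, (↑(F k) : Set B)) A))) ≫ ιU :=
    Category.id_comp _
  have hu'_snd : ∀ k, chart f _ A (MvPolynomial ↥(⋃ k, (↑(F k) : Set B)) A) (C k) ιU (j k) (hj k)
      (𝟙 _) hy' ≫ pullback.snd f _ = Spec.map (incR A _ (C k)) ≫ 𝟙 _ :=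
    fun k => chart_snd _ _ _ _ _ _ _ _ _ _
  have hu'_fst : ∀ k, chart f _ A (MvPolynomial ↥(⋃ k, (↑(F k) : Set B)) A) (C k) ιU (j k) (hj k)
      (𝟙 _) hy' ≫ pullback.fst f _ = Spec.map (incL A _ (C k)) ≫ j k :=
    fun k => chart_fst _ _ _ _ _ _ _ _ _ _
  haveI hu'oi : ∀ k, IsOpenImmersion (chart f _ A (MvPolynomial ↥(⋃ k, (↑(F k) : Set B)) A) (C k)
      ιU (j k) (hj k) (𝟙 _) hy') := fun k => chart_isOpenImmersion _ _ _ _ _ _ _ _ _ _
  refine ⟨↥(⋃ k, (↑(F k) : Set B)), inferInstance, ψ,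
    (⋃ k, (chart f _ A (MvPolynomial ↥(⋃ k, (↑(F k) : Set B)) A) (C k) ιU (j k) (hj k)
      (𝟙 _) hy').base '' (PrimeSpectrum.basicOpen (x' k) : Set (PrimeSpectrum _)))ᶜ, ?_, ?_, ?_⟩
  · rw [isClosed_compl_iff]
    refine isOpen_iUnion fun k => ?_
    exact (chart f _ A (MvPolynomial ↥(⋃ k, (↑(F k) : Set B)) A) (C k) ιU (j k) (hj k)
      (𝟙 _) hy').isOpenEmbedding.isOpenMap _ (PrimeSpectrum.basicOpen (x' k)).isOpen
  · intro z' hz' heq
    apply hz'
    have h1 : f.base ((pullback.fst f _).base z') ∈ Set.range ιU.base := by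
      rw [← Scheme.Hom.comp_apply, pullback.condition, Scheme.Hom.comp_apply,
        Scheme.Hom.comp_apply]
      exact ⟨_, rfl⟩
    obtain ⟨k, hk⟩ := hcov _ h1
    obtain ⟨Q', hQ'⟩ := chart_surj f _ A (MvPolynomial ↥(⋃ k, (↑(F k) : Set B)) A) (C k) ιU (j k)
      (hj k) (𝟙 _) hy' z' hk
    refine Set.mem_iUnion.mpr ⟨k, Q', ?_, hQ'⟩
    show x' k ∉ Q'.asIdeal
    intro hmem
    refine hx'q k Q'.asIdeal Q'.isPrime hmem ?_
    have h2 : (Spec.map (incR A (MvPolynomial ↥(⋃ k, (↑(F k) : Set B)) A) (C k))).base Q' =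
        (Spec.map (CommRingCat.ofHom ψ.toRingHom)).base tB := by
      have h3 := congrArg (pullback.snd f _).base hQ'
      rw [← Scheme.Hom.comp_apply, hu'_snd, Category.comp_id] at h3
      rw [h3, heq, Scheme.Hom.comp_apply, htB]
    exact congrArg PrimeSpectrum.asIdeal h2
  · intro m hm1 hm2 z hz hmz
    obtain ⟨k, Q', hQ'x, hQ'⟩ := Set.mem_iUnion.mp hmz
    have h3 : (pullback.fst f gV).base z ∈ Set.range (j k).base := by
      rw [← hm1, Scheme.Hom.comp_apply, ← hQ', ← Scheme.Hom.comp_apply, hu'_fst,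
        Scheme.Hom.comp_apply]
      exact ⟨_, rfl⟩
    obtain ⟨Q, hQ⟩ := chart_surj f gV A B (C k) ιU (j k) (hj k) y hy z h3
    have hcompat : chart f gV A B (C k) ιU (j k) (hj k) y hy ≫ m =
        Spec.map (CommRingCat.ofHom
          (Algebra.TensorProduct.map (AlgHom.id A (C k)) ψ).toRingHom) ≫
        chart f _ A (MvPolynomial ↥(⋃ k, (↑(F k) : Set B)) A) (C k) ιU (j k) (hj k) (𝟙 _) hy' := by
      apply pullback.hom_ext
      · rw [Category.assoc, hm1, hu_fst, Category.assoc, hu'_fst, ← Category.assoc,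
          ← Spec.map_comp]
        congr 2
        ext c
        simp
      · rw [Category.assoc, hm2, ← Category.assoc, hu_snd, Category.assoc, Category.assoc,
          hu'_snd, Category.comp_id, IsIso.hom_inv_id_assoc, ← Spec.map_comp, ← Spec.map_comp]
        congr 1
    have h4 : (chart f _ A (MvPolynomial ↥(⋃ k, (↑(F k) : Set B)) A) (C k) ιU (j k) (hj k)
        (𝟙 _) hy').base ((Spec.map (CommRingCat.ofHom
          (Algebra.TensorProduct.map (AlgHom.id A (C k)) ψ).toRingHom)).base Q) =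
        (chart f _ A (MvPolynomial ↥(⋃ k, (↑(F k) : Set B)) A) (C k) ιU (j k) (hj k)
        (𝟙 _) hy').base Q' := by
      rw [← Scheme.Hom.comp_apply, ← hcompat, Scheme.Hom.comp_apply, hQ, hQ']
    have h5 := (chart f _ A (MvPolynomial ↥(⋃ k, (↑(F k) : Set B)) A) (C k) ιU (j k) (hj k)
        (𝟙 _) hy').isOpenEmbedding.injective h4
    have h6 : (Algebra.TensorProduct.map (AlgHom.id A (C k)) ψ) (x' k) ∉ Q.asIdeal := by
      intro h7
      apply hQ'x
      rw [← h5]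
      exact h7
    apply h6
    exact (PrimeSpectrum.mem_vanishingIdeal _ _).mp (hx'I k) Q
      (by show (chart f gV A B (C k) ιU (j k) (hj k) y hy).base Q ∈ ZV; rw [hQ]; exact hz)

end Core

section Main

theorem main {X S T : Scheme.{u}} (f : X ⟶ S) [QuasiCompact f] (g : T ⟶ S) (t : T)
    (Z : Set ↥(pullback f g)) (hZ : IsClosed Z) (hZt : ∀ z ∈ Z, (pullback.snd f g).base z ≠ t) :
    ∃ (V : T.Opens) (ht : t ∈ V) (T' : Scheme.{u}) (b : T' ⟶ S) (a : (V : Scheme.{u}) ⟶ T')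
      (n : pullback f (V.ι ≫ g) ⟶ pullback f g) (m : pullback f (V.ι ≫ g) ⟶ pullback f b)
      (Z' : Set ↥(pullback f b)),
      IsAffineOpen V ∧ IsAffine T' ∧ LocallyOfFinitePresentation b ∧ a ≫ b = V.ι ≫ g ∧
      n ≫ pullback.fst f g = pullback.fst f (V.ι ≫ g) ∧ n ≫ pullback.snd f g = pullback.snd f (V.ι ≫ g) ≫ V.ι ∧
      m ≫ pullback.fst f b = pullback.fst f (V.ι ≫ g) ∧ m ≫ pullback.snd f b = pullback.snd f (V.ι ≫ g) ≫ a ∧
      IsClosed Z' ∧ (∀ z' ∈ Z', (pullback.snd f b).base z' ≠ a.base ⟨t, ht⟩) ∧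
      ∀ z : ↥(pullback f (V.ι ≫ g)), n.base z ∈ Z → m.base z ∈ Z' := by
  classical
  obtain ⟨U, hU, hgtU, -⟩ := exists_isAffineOpen_mem_and_subset (x := g.base t) (U := ⊤) trivial
  obtain ⟨V, hV, htV, hVU⟩ := exists_isAffineOpen_mem_and_subset (x := t) (U := g ⁻¹ᵁ U) hgtU
  have hVU' : V ≤ g ⁻¹ᵁ U := hVU
  have hc : IsCompact ((f ⁻¹ᵁ U : X.Opens) : Set X) :=
    QuasiCompact.isCompact_preimage (f := f) _ U.isOpen hU.isCompact
  obtain ⟨s, hs, hsU⟩ := isCompact_iff_finite_and_eq_biUnion_affineOpens.mp hc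
  haveI : Finite ↥s := hs.to_subtype
  have hWU : ∀ k : ↥s, (k.1 : X.Opens) ≤ f ⁻¹ᵁ U := fun k => by
    rw [hsU]
    exact le_iSup₂ (f := fun (i : X.affineOpens) (_ : i ∈ s) => (i : X.Opens)) k.1 k.2
  letI : Algebra Γ(S, U) Γ(T, V) := (g.appLE U V hVU').hom.toAlgebra
  letI : ∀ k : ↥s, Algebra Γ(S, U) Γ(X, k.1.1) := fun k => (f.appLE U k.1.1 (hWU k)).hom.toAlgebra
  have hy : hV.isoSpec.inv ≫ (V.ι ≫ g) =
      Spec.map (CommRingCat.ofHom (algebraMap Γ(S, U) Γ(T, V))) ≫ hU.fromSpec := by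
    rw [← Category.assoc]
    exact (IsAffineOpen.SpecMap_appLE_fromSpec g hU hV hVU').symm
  have hj : ∀ k : ↥s, k.1.2.fromSpec ≫ f =
      Spec.map (CommRingCat.ofHom (algebraMap Γ(S, U) Γ(X, k.1.1))) ≫ hU.fromSpec := fun k =>
    (IsAffineOpen.SpecMap_appLE_fromSpec f hU k.1.2 (hWU k)).symm
  have hcov : ∀ x : X, f.base x ∈ Set.range hU.fromSpec.base →
      ∃ k : ↥s, x ∈ Set.range (k.1.2.fromSpec).base := by
    intro x hx
    rw [hU.range_fromSpec] at hx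
    have hx' : x ∈ f ⁻¹ᵁ U := hx
    rw [hsU] at hx'
    simp only [TopologicalSpace.Opens.mem_iSup] at hx'
    obtain ⟨i, hi, hxi⟩ := hx'
    refine ⟨⟨i, hi⟩, ?_⟩
    rw [i.2.range_fromSpec]
    exact hxi
  -- the maps n, ZV
  have hnw : pullback.fst f (V.ι ≫ g) ≫ f = (pullback.snd f (V.ι ≫ g) ≫ V.ι) ≫ g := by
    rw [pullback.condition, Category.assoc]
  have hZV : IsClosed ((pullback.lift _ _ hnw).base ⁻¹' Z) :=
    hZ.preimage (pullback.lift _ _ hnw).continuous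
  have hZVt : ∀ z ∈ (pullback.lift _ _ hnw).base ⁻¹' Z,
      (pullback.snd f (V.ι ≫ g)).base z ≠ ⟨t, htV⟩ := by
    intro z hz heq
    apply hZt _ hz
    rw [← Scheme.Hom.comp_apply, pullback.lift_snd, Scheme.Hom.comp_apply, heq]
    rfl
  obtain ⟨σ, hσ, ψ, Z', hZ'c, hZ't, hZ'm⟩ := core f (V.ι ≫ g) Γ(S, U) Γ(T, V) hU.fromSpec
    hV.isoSpec.inv hy ↥s (fun k => Γ(X, k.1.1)) (fun k => k.1.2.fromSpec) hj hcov ⟨t, htV⟩ _ hZV hZVt
  have hab : (inv hV.isoSpec.inv ≫ Spec.map (CommRingCat.ofHom ψ.toRingHom)) ≫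
      (Spec.map (CommRingCat.ofHom (algebraMap Γ(S, U) (MvPolynomial σ Γ(S, U)))) ≫ hU.fromSpec) =
      V.ι ≫ g := by
    rw [Category.assoc, ← Category.assoc (Spec.map _), ← Spec.map_comp]
    have h1 : CommRingCat.ofHom (algebraMap Γ(S, U) (MvPolynomial σ Γ(S, U))) ≫
        CommRingCat.ofHom ψ.toRingHom = CommRingCat.ofHom (algebraMap Γ(S, U) Γ(T, V)) := by
      ext a
      exact ψ.commutes a
    rw [h1, ← hy, IsIso.inv_hom_id_assoc]
  have hmw : pullback.fst f (V.ι ≫ g) ≫ f =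
      (pullback.snd f (V.ι ≫ g) ≫ inv hV.isoSpec.inv ≫ Spec.map (CommRingCat.ofHom ψ.toRingHom)) ≫
      (Spec.map (CommRingCat.ofHom (algebraMap Γ(S, U) (MvPolynomial σ Γ(S, U)))) ≫ hU.fromSpec) := by
    rw [Category.assoc, hab, pullback.condition]
  haveI : LocallyOfFinitePresentation
      (Spec.map (CommRingCat.ofHom (algebraMap Γ(S, U) (MvPolynomial σ Γ(S, U))))) := by
    rw [HasRingHomProperty.Spec_iff (P := @LocallyOfFinitePresentation)]
    exact RingHom.finitePresentation_algebraMap.mpr inferInstance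
  refine ⟨V, htV, Spec (CommRingCat.of (MvPolynomial σ Γ(S, U))),
    Spec.map (CommRingCat.ofHom (algebraMap Γ(S, U) (MvPolynomial σ Γ(S, U)))) ≫ hU.fromSpec,
    inv hV.isoSpec.inv ≫ Spec.map (CommRingCat.ofHom ψ.toRingHom),
    pullback.lift _ _ hnw, pullback.lift _ _ hmw, Z', hV, inferInstance, inferInstance, hab,
    pullback.lift_fst _ _ _, pullback.lift_snd _ _ _, pullback.lift_fst _ _ _,
    pullback.lift_snd _ _ _, hZ'c, hZ't, ?_⟩
  intro z hz
  exact hZ'm _ (pullback.lift_fst _ _ _) (pullback.lift_snd _ _ _) z hz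

end Main

end H3NhdAvoid
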