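import Mathlib
import Groth.Agent.Lib.Helper3.DerNakLift

/-!
# Finiteness modulo a nilpotent ideal; perfectness descends
-/

namespace Groth.Agent.Helper3.NilFin

open CategoryTheory Limits DerivedCategory Groth.Agent.Helper3.ProjLiftNil
open Groth.Agent.Helper3.PcLift

universe u

variable {A : Type u} [CommRing A] (I : Ideal A)

/-- Nakayama for a nilpotent ideal -/
lemma eq_top_of_sup_smul_eq_top (hI : IsNilpotent I) {Y : Type*} [AddCommGroup Y] [Module A Y]
    (N : Submodule A Y) (h : N ⊔ (I • ⊤ : Submodule A Y) = ⊤) : N = ⊤ := by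
  obtain ⟨n, hn⟩ := hI
  have key : ∀ k : ℕ, N ⊔ (I ^ k • ⊤ : Submodule A Y) = ⊤ := by
    intro k
    induction k with
    | zero => simp
    | succ k ih =>
      rw [eq_top_iff]
      calc (⊤ : Submodule A Y) = N ⊔ (I ^ k • ⊤ : Submodule A Y) := ih.symm
        _ = N ⊔ (I ^ k • (N ⊔ (I • ⊤ : Submodule A Y)) : Submodule A Y) := by rw [h]
        _ ≤ N ⊔ (I ^ (k + 1) • ⊤ : Submodule A Y) := by
              rw [Submodule.smul_sup, ← Submodule.mul_smul, ← pow_succ]
              refine sup_le le_sup_left (sup_le ?_ le_sup_right)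
              exact le_trans Submodule.smul_le_right le_sup_left
  have := key n
  rw [hn, Ideal.zero_eq_bot, Submodule.bot_smul, sup_bot_eq] at this
  exact this

lemma isZero_of_isZero_E (hI : IsNilpotent I) (X : ModuleCat.{u} A)
    (h : IsZero ((E I).obj X)) : IsZero X := by
  have h1 := smul_top_eq_top_of_isZero I h
  have h2 : (⊥ : Submodule A X) = ⊤ :=
    eq_top_of_sup_smul_eq_top I hI ⊥ (by rw [h1]; exact sup_top_eq _)
  have : Subsingleton X := by
    refine ⟨fun x y => ?_⟩
    have hx : x ∈ (⊥ : Submodule A X) := by rw [h2]; trivial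
    have hy : y ∈ (⊥ : Submodule A X) := by rw [h2]; trivial
    rw [(Submodule.mem_bot A).1 hx, (Submodule.mem_bot A).1 hy]
  exact ModuleCat.isZero_of_subsingleton X

lemma finite_of_finite_E (hI : IsNilpotent I) (X : ModuleCat.{u} A)
    [Module.Finite (A ⧸ I) ((E I).obj X)] : Module.Finite A X := by
  obtain ⟨S, hS⟩ := (Module.Finite.fg_top : (⊤ : Submodule (A ⧸ I) ((E I).obj X)).FG)
  choose x hx using fun s : ((E I).obj X) => unit_surjective I X s
  let F : ModuleCat.{u} A := ModuleCat.of A (↥S →₀ A)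
  let f : F ⟶ X := ModuleCat.ofHom (Finsupp.linearCombination A (fun s : ↥S => x s.1))
  have hsurj : Function.Surjective ((E I).map f).hom := by
    rw [← LinearMap.range_eq_top, eq_top_iff, ← hS, Submodule.span_le]
    intro s hs
    refine ⟨((adj I).unit.app F).hom (Finsupp.single ⟨s, hs⟩ 1), ?_⟩
    have h1 := congrArg (fun g => g.hom (Finsupp.single ⟨s, hs⟩ (1 : A))) (unit_nat I f)
    simp only [ModuleCat.hom_comp, LinearMap.comp_apply] at h1
    have h2 : f.hom (Finsupp.single ⟨s, hs⟩ (1 : A)) = x s := by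
      change Finsupp.linearCombination A (fun s : ↥S => x s.1) (Finsupp.single ⟨s, hs⟩ (1 : A)) = _
      rw [Finsupp.linearCombination_single, one_smul]
    rw [h2, hx] at h1
    exact h1.symm
  have h3 := range_sup_eq_top I f hsurj
  have h4 := eq_top_of_sup_smul_eq_top I hI _ h3
  exact Module.Finite.of_surjective f.hom (LinearMap.range_eq_top.1 h4)

attribute [local instance] HasDerivedCategory.standard

theorem main_S6979 (R : Type u) [CommRing R] (I : Ideal R)
    (hI : IsNilpotent I) [DRing.HasLBaseChange (Ideal.Quotient.mk I)] (K : Dual.D R)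
    (hK : DRing.IsPerfect (R ⧸ I) ((DRing.LBaseChange (Ideal.Quotient.mk I)).obj K)) :
    DRing.IsPerfect R K := by
  obtain ⟨N₀, a, b, hE1, hE2, ⟨e⟩⟩ := hK
  obtain ⟨P, b', -, hP2, ⟨eP⟩, ⟨eE⟩⟩ := Groth.Agent.Helper3.DerNak.main_S6970 R I hI K N₀ b
    (fun i hi => hE1 i (Or.inr hi)) (fun i => (hE2 i).2) ⟨e⟩
  have eX : ∀ i, (E I).obj (P.X i) ≅ N₀.X i := fun i =>
    (HomologicalComplex.eval _ _ i).mapIso eE
  refine ⟨P, a, b, ?_, ?_, ⟨eP⟩⟩
  · intro i hi
    exact isZero_of_isZero_E I hI _ ((hE1 i hi).of_iso (eX i))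
  · intro i
    refine ⟨?_, hP2 i⟩
    have := (hE2 i).1
    have : Module.Finite (R ⧸ I) ((E I).obj (P.X i)) :=
      Module.Finite.equiv (eX i).symm.toLinearEquiv
    exact finite_of_finite_E I hI (P.X i)

end Groth.Agent.Helper3.NilFin
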