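import Mathlib
import Groth.Agent.Lib.Lead.DefoIso

/-! The node `xy = 0`: pure algebra for the non-prorepresentability of its deformation
functor (helper3). -/

set_option autoImplicit false
set_option linter.style.haveILetI false
set_option linter.unusedSectionVars false
universe u

namespace Groth.Agent.Helper3.Node

open MvPolynomial

section Gen

variable {k : Type u} [Field k] {A' : Type u} [CommRing A'] [Algebra k A'] (T : A')
  (res' : A' →ₐ[k] k)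

theorem res_algebraMap (c : k) : res' (algebraMap k A' c) = c := res'.commutes c

theorem gen3 (hT3 : T ^ 3 = 0) (hres : ∀ a, res' a = 0 → ∃ b, a = T * b) (a : A') :
    ∃ c₀ c₁ c₂ : k, a = algebraMap k A' c₀ + algebraMap k A' c₁ * T +
      algebraMap k A' c₂ * T ^ 2 := by
  have step : ∀ a : A', ∃ (c : k) (b : A'), a = algebraMap k A' c + T * b := by
    intro a
    obtain ⟨b, hb⟩ := hres (a - algebraMap k A' (res' a)) (by
      rw [map_sub, res_algebraMap, sub_self])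
    exact ⟨res' a, b, by rw [← hb]; ring⟩
  obtain ⟨c₀, b₀, h₀⟩ := step a
  obtain ⟨c₁, b₁, h₁⟩ := step b₀
  obtain ⟨c₂, b₂, h₂⟩ := step b₁
  refine ⟨c₀, c₁, c₂, ?_⟩
  have h3 : T * (algebraMap k A' c₁ + T * (algebraMap k A' c₂ + T * b₂)) =
      algebraMap k A' c₁ * T + algebraMap k A' c₂ * T ^ 2 + T ^ 3 * b₂ := by ring
  rw [h₀, h₁, h₂, h3, hT3]
  ring

theorem mul_sq (hT3 : T ^ 3 = 0) (hres : ∀ a, res' a = 0 → ∃ b, a = T * b) (a : A') :
    a * T ^ 2 = algebraMap k A' (res' a) * T ^ 2 := by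
  obtain ⟨b, hb⟩ := hres (a - algebraMap k A' (res' a)) (by
    rw [map_sub, res_algebraMap, sub_self])
  have h1 : a = algebraMap k A' (res' a) + T * b := by rw [← hb]; ring
  have h2 : (algebraMap k A' (res' a) + T * b) * T ^ 2 =
      algebraMap k A' (res' a) * T ^ 2 + T ^ 3 * b := by ring
  conv_lhs => rw [h1]
  rw [h2, hT3, zero_mul, add_zero]

end Gen

theorem decomp {k : Type u} [Field k] (q : MvPolynomial (Fin 2) k) :
    ∃ (c : k) (F G : MvPolynomial (Fin 2) k), q = C c + X 0 * F + X 1 * G := by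
  induction q using MvPolynomial.induction_on with
  | C a => exact ⟨a, 0, 0, by rw [mul_zero, mul_zero, add_zero, add_zero]⟩
  | add p q hp hq =>
    obtain ⟨c, F, G, rfl⟩ := hp
    obtain ⟨c', F', G', rfl⟩ := hq
    exact ⟨c + c', F + F', G + G', by rw [C_add]; ring⟩
  | mul_X p i hp =>
    have h : ∀ i : Fin 2, ∃ (c : k) (F G : MvPolynomial (Fin 2) k),
        p * X i = C c + X 0 * F + X 1 * G := by
      refine Fin.forall_fin_two.mpr ⟨⟨0, p, 0, ?_⟩, ⟨0, 0, p, ?_⟩⟩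
      · rw [C_0, mul_zero, zero_add, add_zero, mul_comm]
      · rw [C_0, mul_zero, zero_add, zero_add, mul_comm]
    exact h i

section Key

variable {k : Type u} [Field k] {A' : Type u} [CommRing A'] [Algebra k A'] (T : A')
  (res' : A' →ₐ[k] k) (J : Ideal (MvPolynomial (Fin 2) k))
  [Algebra A' (MvPolynomial (Fin 2) k ⧸ J)]
  {B₀ : Type u} [CommRing B₀] [Algebra k B₀] (ι₃ : (MvPolynomial (Fin 2) k ⧸ J) →+* B₀)
  {B' : Type u} [CommRing B'] [Algebra A' B'] [Module.Flat A' B'] (ι' : B' →+* B₀)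

theorem key (hT3 : T ^ 3 = 0) (hresT : res' T = 0) (hres : ∀ a, res' a = 0 → ∃ b, a = T * b)
    (hJ : J = Ideal.span {((X 0 * X 1 : MvPolynomial (Fin 2) k)) ^ 3})
    (hAk : ∀ c : k, algebraMap A' (MvPolynomial (Fin 2) k ⧸ J) (algebraMap k A' c) =
      Ideal.Quotient.mk J (C c))
    (hAT : algebraMap A' (MvPolynomial (Fin 2) k ⧸ J) T = Ideal.Quotient.mk J (X 0 * X 1))
    (hι₃k : ∀ c : k, ι₃ (Ideal.Quotient.mk J (C c)) = algebraMap k B₀ c)
    (hι₃s : Function.Surjective ι₃)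
    (hι₃ker : RingHom.ker ι₃ =
      Ideal.map (algebraMap A' (MvPolynomial (Fin 2) k ⧸ J)) (RingHom.ker res'))
    (hι's : Function.Surjective ι')
    (hι'ker : RingHom.ker ι' = Ideal.map (algebraMap A' B') (RingHom.ker res'))
    (hι'c : ∀ a, ι' (algebraMap A' B' a) = algebraMap k B₀ (res' a))
    (x' y' c : B') (hx' : ι' x' = ι₃ (Ideal.Quotient.mk J (X 0)))
    (hy' : ι' y' = ι₃ (Ideal.Quotient.mk J (X 1)))
    (hxy : x' * y' = algebraMap A' B' T + algebraMap A' B' (T ^ 2) * c) :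
    ∃ Ψ : (MvPolynomial (Fin 2) k ⧸ J) ≃+* B',
      (∀ a, Ψ (algebraMap A' (MvPolynomial (Fin 2) k ⧸ J) a) = algebraMap A' B' a) ∧
      ∀ b, ι' (Ψ b) = ι₃ b := by
  obtain ⟨τ, hτ⟩ : ∃ τ : B', τ = algebraMap A' B' T := ⟨_, rfl⟩
  have hτ3 : τ ^ 3 = 0 := by rw [hτ, ← map_pow, hT3, map_zero]
  have hιτ : ι' τ = 0 := by rw [hτ, hι'c, hresT, map_zero]
  have hxy' : x' * y' = τ + τ ^ 2 * c := by rw [hxy, map_pow, ← hτ]
  have hkerle : RingHom.ker res' ≤ Ideal.span {T} := by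
    intro a ha
    obtain ⟨b, rfl⟩ := hres a (RingHom.mem_ker.mp ha)
    exact Ideal.mem_span_singleton'.mpr ⟨b, mul_comm _ _⟩
  have hS : ∀ b : B', ι' b = 0 → τ ^ 2 * b = 0 := by
    intro b hb
    have h1 : b ∈ RingHom.ker ι' := RingHom.mem_ker.mpr hb
    rw [hι'ker] at h1
    have h2 := Ideal.map_mono (f := algebraMap A' B') hkerle h1
    rw [Ideal.map_span, Set.image_singleton, ← hτ] at h2
    obtain ⟨b', rfl⟩ := Ideal.mem_span_singleton'.mp h2
    have h3 : τ ^ 2 * (b' * τ) = b' * τ ^ 3 := by ring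
    rw [h3, hτ3, mul_zero]
  obtain ⟨m, hm⟩ : ∃ m : MvPolynomial (Fin 2) k →+* B₀, m = ι₃.comp (Ideal.Quotient.mk J) :=
    ⟨_, rfl⟩
  have hmq : ∀ q, ι₃ (Ideal.Quotient.mk J q) = m q := fun q => by rw [hm]; rfl
  have hmC : ∀ c : k, m (C c) = algebraMap k B₀ c := fun c => by rw [← hmq, hι₃k]
  rw [hmq] at hx' hy'
  obtain ⟨qb, hqb⟩ := hι₃s (ι' c)
  obtain ⟨q, rfl⟩ := Ideal.Quotient.mk_surjective qb
  rw [hmq] at hqb
  obtain ⟨c₀, F, G, hq⟩ := decomp q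
  obtain ⟨F', hF'⟩ := hι's (m F)
  obtain ⟨G', hG'⟩ := hι's (m G)
  obtain ⟨κ, hκ⟩ : ∃ κ : B', κ = algebraMap A' B' (algebraMap k A' c₀) := ⟨_, rfl⟩
  have hικ : ι' κ = algebraMap k B₀ c₀ := by rw [hκ, hι'c, res_algebraMap]
  have hz : ι' (c - G' * y' - F' * x' - κ) = 0 := by
    have e0 : q - G * X 1 - F * X 0 - C c₀ = 0 := by rw [hq]; ring
    have e1 := congrArg m e0
    rw [map_zero, map_sub, map_sub, map_sub, map_mul, map_mul, hmC] at e1
    rw [map_sub, map_sub, map_sub, map_mul, map_mul, hG', hF', hx', hy', hικ, ← hqb]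
    exact e1
  have hS' : τ ^ 2 * (c - G' * y' - F' * x') = τ ^ 2 * κ := by
    have h1 := hS _ hz
    rw [mul_sub] at h1
    exact sub_eq_zero.mp h1
  have hprod : (x' - τ ^ 2 * G') * (y' - τ ^ 2 * F') = τ + τ ^ 2 * κ := by
    have e : (x' - τ ^ 2 * G') * (y' - τ ^ 2 * F') =
        x' * y' - τ ^ 2 * (G' * y' + F' * x') + τ ^ 3 * (τ * (G' * F')) := by ring
    have e2 : τ + τ ^ 2 * c - τ ^ 2 * (G' * y' + F' * x') =
        τ + τ ^ 2 * (c - G' * y' - F' * x') := by ring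
    rw [e, hτ3, zero_mul, add_zero, hxy', e2, hS']
  obtain ⟨s, hs⟩ : ∃ s : A', s = algebraMap k A' c₀ * T := ⟨_, rfl⟩
  have hs3 : s ^ 3 = 0 := by rw [hs, mul_pow, hT3, mul_zero]
  have huv : (1 - s + s ^ 2) * (1 + s) = 1 := by
    have h1 : (1 - s + s ^ 2) * (1 + s) = 1 + s ^ 3 := by ring
    rw [h1, hs3, add_zero]
  have hτκ : τ + τ ^ 2 * κ = τ * algebraMap A' B' (1 + s) := by
    rw [map_add, map_one, hs, map_mul, ← hκ, ← hτ]
    ring
  have hress : res' s = 0 := by rw [hs, map_mul, hresT, mul_zero]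
  have hresv : res' (1 - s + s ^ 2) = 1 := by
    rw [map_add, map_sub, map_one, map_pow, hress, sub_zero, zero_pow two_ne_zero, add_zero]
  obtain ⟨x3, hx3⟩ : ∃ x3 : B',
      x3 = algebraMap A' B' (1 - s + s ^ 2) * (x' - τ ^ 2 * G') := ⟨_, rfl⟩
  obtain ⟨y2, hy2⟩ : ∃ y2 : B', y2 = y' - τ ^ 2 * F' := ⟨_, rfl⟩
  have hx3y2 : x3 * y2 = τ := by
    rw [hx3, hy2, mul_assoc, hprod, hτκ, mul_left_comm, ← map_mul, huv, map_one, mul_one]
  have hιx3 : ι' x3 = m (X 0) := by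
    rw [hx3, map_mul, hι'c, hresv, map_one, one_mul, map_sub, map_mul, map_pow, hιτ,
      zero_pow two_ne_zero, zero_mul, sub_zero, hx']
  have hιy2 : ι' y2 = m (X 1) := by
    rw [hy2, map_sub, map_mul, map_pow, hιτ, zero_pow two_ne_zero, zero_mul, sub_zero, hy']
  obtain ⟨f₀, hf₀⟩ : ∃ f₀ : k →+* B', f₀ = (algebraMap A' B').comp (algebraMap k A') :=
    ⟨_, rfl⟩
  obtain ⟨E, hE⟩ : ∃ E : MvPolynomial (Fin 2) k →+* B', E = eval₂Hom f₀ ![x3, y2] := ⟨_, rfl⟩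
  have hEC : ∀ c, E (C c) = algebraMap A' B' (algebraMap k A' c) := fun c => by
    rw [hE, eval₂Hom_C, hf₀]
    rfl
  have hEX0 : E (X 0) = x3 := by
    rw [hE, eval₂Hom_X']
    rfl
  have hEX1 : E (X 1) = y2 := by
    rw [hE, eval₂Hom_X']
    rfl
  have hEJ : ∀ a ∈ J, E a = 0 := by
    intro a ha
    rw [hJ] at ha
    obtain ⟨b, rfl⟩ := Ideal.mem_span_singleton'.mp ha
    rw [map_mul, map_pow, map_mul, hEX0, hEX1, hx3y2, hτ3, mul_zero]
  obtain ⟨Ψ₀, hΨ₀⟩ : ∃ Ψ₀ : (MvPolynomial (Fin 2) k ⧸ J) →+* B',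
      Ψ₀ = Ideal.Quotient.lift J E hEJ := ⟨_, rfl⟩
  have hΨmk : ∀ q, Ψ₀ (Ideal.Quotient.mk J q) = E q := fun q => by
    rw [hΨ₀]
    rfl
  have hΨA : ∀ a, Ψ₀ (algebraMap A' (MvPolynomial (Fin 2) k ⧸ J) a) = algebraMap A' B' a := by
    intro a
    obtain ⟨d₀, d₁, d₂, rfl⟩ := gen3 T res' hT3 hres a
    have hT' : Ψ₀ (algebraMap A' (MvPolynomial (Fin 2) k ⧸ J) T) = algebraMap A' B' T := by
      rw [hAT, hΨmk, map_mul, hEX0, hEX1, hx3y2, hτ]
    have hk' : ∀ c, Ψ₀ (algebraMap A' (MvPolynomial (Fin 2) k ⧸ J) (algebraMap k A' c)) =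
        algebraMap A' B' (algebraMap k A' c) := fun c => by rw [hAk, hΨmk, hEC]
    simp only [map_add, map_mul, map_pow, hT', hk']
  have hιΨ : ∀ b, ι' (Ψ₀ b) = ι₃ b := by
    intro b
    obtain ⟨q, rfl⟩ := Ideal.Quotient.mk_surjective b
    rw [hΨmk, hmq]
    have hX : ∀ i : Fin 2, ι' (E (X i)) = m (X i) :=
      Fin.forall_fin_two.mpr ⟨(congrArg ι' hEX0).trans hιx3, (congrArg ι' hEX1).trans hιy2⟩
    have h1 : ι'.comp E = m := by
      apply MvPolynomial.ringHom_ext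
      · intro c
        rw [RingHom.comp_apply, hEC, hι'c, res_algebraMap, hmC]
      · intro i
        rw [RingHom.comp_apply]
        exact hX i
    exact congrArg (fun f => f q) h1
  obtain ⟨I, hI⟩ : ∃ I : Ideal A', I = Ideal.span {T} := ⟨_, rfl⟩
  have hInil : IsNilpotent I := by
    refine ⟨3, ?_⟩
    rw [hI, Ideal.span_singleton_pow, hT3, Ideal.zero_eq_bot]
    exact Ideal.span_singleton_eq_bot.mpr rfl
  have hkerI : RingHom.ker res' ≤ I := by rw [hI]; exact hkerle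
  let g : (MvPolynomial (Fin 2) k ⧸ J) →ₗ[A'] B' :=
    { toFun := Ψ₀
      map_add' := map_add Ψ₀
      map_smul' := fun a b => by
        rw [RingHom.id_apply, Algebra.smul_def, map_mul, hΨA, ← Algebra.smul_def] }
  have hbij : Function.Bijective g := by
    refine Groth.Agent.Lead.DefoIso.bijective_of_flat_of_nilpotent I hInil g ?_ ?_
    · intro y
      obtain ⟨x, hx⟩ := hι₃s (ι' y)
      refine ⟨x, ?_⟩
      have h1 : y - Ψ₀ x ∈ RingHom.ker ι' := by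
        rw [RingHom.mem_ker, map_sub, hιΨ, hx, sub_self]
      rw [hι'ker] at h1
      rw [Ideal.smul_top_eq_map]
      exact Ideal.map_mono hkerI h1
    · intro x hx
      have hx' : Ψ₀ x = 0 := hx
      have h1 : x ∈ RingHom.ker ι₃ := by
        rw [RingHom.mem_ker, ← hιΨ, hx', map_zero]
      rw [hι₃ker] at h1
      rw [Ideal.smul_top_eq_map]
      exact Ideal.map_mono hkerI h1
  exact ⟨RingEquiv.ofBijective Ψ₀ hbij, hΨA, hιΨ⟩

end Key

section NonTriv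

theorem nontriv_alg {D : Type u} [CommRing D] (ε : D) (hε2 : ε * ε = 0)
    (hann : ∀ a : D, ε * a = 0 → ∃ a', a = ε * a')
    {B : Type u} [CommRing B] [Algebra D B] [Module.Flat D B] {B₀ : Type u} [CommRing B₀]
    (ι₀ : B →+* B₀) (hι₀ε : ι₀ (algebraMap D B ε) = 0)
    (hker : ∀ b, ι₀ b = 0 → ∃ b', b = algebraMap D B ε * b')
    (x₂ y₂ xs ys : B) (h2 : x₂ * y₂ = algebraMap D B ε) (hs : xs * ys = 0)
    (hx : ι₀ xs = ι₀ x₂) (hy : ι₀ ys = ι₀ y₂) :
    ∃ a b : B₀, 1 + a * ι₀ y₂ + b * ι₀ x₂ = 0 := by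
  obtain ⟨e, he⟩ : ∃ e : B, e = algebraMap D B ε := ⟨_, rfl⟩
  have he2 : e * e = 0 := by rw [he, ← map_mul, hε2, map_zero]
  obtain ⟨a, ha⟩ := hker (xs - x₂) (by rw [map_sub, hx, sub_self])
  obtain ⟨b, hb⟩ := hker (ys - y₂) (by rw [map_sub, hy, sub_self])
  rw [← he] at ha hb h2 hι₀ε
  have hxs : xs = x₂ + e * a := by rw [← ha]; ring
  have hys : ys = y₂ + e * b := by rw [← hb]; ring
  obtain ⟨z, hz⟩ : ∃ z : B, z = 1 + a * y₂ + b * x₂ := ⟨_, rfl⟩
  have hez : ε • z = 0 := by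
    rw [Algebra.smul_def, ← he, hz]
    have h3 : e * (1 + a * y₂ + b * x₂) =
        (x₂ + e * a) * (y₂ + e * b) - x₂ * y₂ + e - e * e * (a * b) := by ring
    rw [h3, ← hxs, ← hys, hs, h2, he2]
    ring
  have hsum : ∑ i : Unit, (fun _ : Unit => ε) i • (fun _ : Unit => z) i = 0 := by
    rw [Fintype.sum_unique]
    exact hez
  obtain ⟨n, A, Y, hY, hA⟩ := Module.Flat.isTrivialRelation_of_sum_smul_eq_zero (R := D) (M := B)
    (f := fun _ : Unit => ε) (x := fun _ : Unit => z) hsum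
  have hY' : z = ∑ j, A () j • Y j := hY ()
  have hιz : ι₀ z = 0 := by
    rw [hY', map_sum]
    refine Finset.sum_eq_zero fun j _ => ?_
    have h1 : ε * A () j = 0 := by
      have h4 := hA j
      rw [Fintype.sum_unique] at h4
      exact h4
    obtain ⟨a', ha'⟩ := hann _ h1
    rw [Algebra.smul_def, map_mul, ha', map_mul, map_mul, ← he, hι₀ε, zero_mul, zero_mul]
  refine ⟨ι₀ a, ι₀ b, ?_⟩
  have h5 : ι₀ z = 1 + ι₀ a * ι₀ y₂ + ι₀ b * ι₀ x₂ := by
    rw [hz, map_add, map_add, map_one, map_mul, map_mul]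
  rw [← h5, hιz]

end NonTriv

end Groth.Agent.Helper3.Node
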