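import Mathlib
import Groth.Prelude.Def_CotT
import Groth.Agent.Lib.Lead.CotTA4

/-! Splitting of the naive cotangent complex up to a multiple: transfer along a surjective base
change, along a change of presentation and along a flat base change equipped with a functional
(helper3). -/

set_option autoImplicit false
set_option linter.style.haveILetI false
set_option linter.unusedSectionVars false

universe u v w w' m

open TensorProduct Algebra.Extension

namespace Groth.Agent.Helper3.RigSm

open Groth.Agent.Lib.Lead.CotTA1 Groth.Agent.Lib.Lead.CotTA2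

section General

variable {A : Type u} {B : Type v} [CommRing A] [CommRing B] [Algebra A B]

/-- the cotangent complex of `Q` is split up to multiplication by `b` -/
def Split (Q : Algebra.Extension.{w} A B) (b : B) : Prop :=
  ∃ χ : Q.CotangentSpace →ₗ[B] Q.Cotangent, χ ∘ₗ Q.cotangentComplex = b • LinearMap.id

lemma Split.killsE {Q : Algebra.Extension.{w} A B} {b : B} (h : Split Q b)
    (M : Type m) [AddCommGroup M] [Module B M] : KillsE Q M b := by
  obtain ⟨χ, hχ⟩ := h
  intro φ
  refine ⟨φ ∘ₗ χ, ?_⟩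
  rw [LinearMap.comp_assoc, hχ]
  ext y
  simp

lemma split_of_killsE {Q : Algebra.Extension.{w} A B} {b : B}
    (h : KillsE Q Q.Cotangent b) : Split Q b := by
  obtain ⟨χ, hχ⟩ := h LinearMap.id
  exact ⟨χ, hχ.symm⟩

lemma Split.of_homs {Q : Algebra.Extension.{w} A B} {Q' : Algebra.Extension.{w'} A B}
    (F : Q.Hom Q') (G : Q'.Hom Q) {b : B} (h : Split Q b) : Split Q' b :=
  split_of_killsE (KillsE.of_homs F G _ b (h.killsE _))

end General

section Surj

variable {A B R' S' : Type u} [CommRing A] [CommRing B] [Algebra A B]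
  [CommRing R'] [CommRing S'] [Algebra R' S']
  [Algebra A R'] [Algebra B S'] [Algebra A S'] [IsScalarTower A R' S'] [IsScalarTower A B S']
  {ι : Type w} (G : Algebra.Generators A B ι) (G' : Algebra.Generators R' S' ι)

/-- the morphism of generators `X i ↦ X i` -/
noncomputable def varHom (hval : ∀ i, G'.val i = algebraMap B S' (G.val i)) :
    Algebra.Generators.Hom G G' where
  val i := MvPolynomial.X i
  aeval_val i := by rw [MvPolynomial.aeval_X]; exact hval i

lemma varHom_toAlgHom (hval : ∀ i, G'.val i = algebraMap B S' (G.val i))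
    (p : MvPolynomial ι A) :
    (varHom G G' hval).toAlgHom p = MvPolynomial.map (algebraMap A R') p := by
  induction p using MvPolynomial.induction_on with
  | C a => rw [Algebra.Generators.Hom.toAlgHom_C, MvPolynomial.map_C]
  | add p q hp hq => rw [map_add, map_add, hp, hq]
  | mul_X p i hp =>
    rw [map_mul, map_mul, hp, Algebra.Generators.Hom.toAlgHom_X, MvPolynomial.map_X]
    rfl

lemma exists_poly_of_mem_map (b : B)
    (hb : b ∈ Ideal.map (algebraMap A B) (RingHom.ker (algebraMap A R'))) :
    ∃ q : MvPolynomial ι A, MvPolynomial.aeval G.val q = b ∧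
      MvPolynomial.map (algebraMap A R') q = 0 := by
  let T : Ideal B :=
    { carrier := {b | ∃ q : MvPolynomial ι A, MvPolynomial.aeval G.val q = b ∧
        MvPolynomial.map (algebraMap A R') q = 0}
      add_mem' := by
        rintro _ _ ⟨q₁, rfl, h₁⟩ ⟨q₂, rfl, h₂⟩
        exact ⟨q₁ + q₂, map_add _ _ _, by rw [map_add, h₁, h₂, add_zero]⟩
      zero_mem' := ⟨0, map_zero _, map_zero _⟩
      smul_mem' := by
        rintro c _ ⟨q, rfl, h⟩
        refine ⟨G.σ c * q, ?_, ?_⟩
        · rw [map_mul, G.aeval_val_σ, smul_eq_mul]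
        · rw [map_mul, h, mul_zero] }
  have hle : Ideal.map (algebraMap A B) (RingHom.ker (algebraMap A R')) ≤ T := by
    rw [Ideal.map_le_iff_le_comap]
    intro a ha
    change ∃ q : MvPolynomial ι A, MvPolynomial.aeval G.val q = algebraMap A B a ∧
      MvPolynomial.map (algebraMap A R') q = 0
    refine ⟨MvPolynomial.C a, ?_, ?_⟩
    · rw [MvPolynomial.aeval_C]
    · rw [MvPolynomial.map_C, RingHom.mem_ker.mp ha, map_zero]
  exact hle hb

lemma cotangent_map_surjective (hval : ∀ i, G'.val i = algebraMap B S' (G.val i))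
    (hA : Function.Surjective (algebraMap A R'))
    (hker : RingHom.ker (algebraMap B S') ≤
      Ideal.map (algebraMap A B) (RingHom.ker (algebraMap A R'))) :
    Function.Surjective (Cotangent.map (varHom G G' hval).toExtensionHom) := by
  intro y
  obtain ⟨p', rfl⟩ := Cotangent.mk_surjective y
  obtain ⟨p, hp⟩ := MvPolynomial.map_surjective (algebraMap A R') hA (p'.1 : MvPolynomial ι R')
  have h0 : MvPolynomial.aeval G'.val (p'.1 : MvPolynomial ι R') = 0 := by
    have h : (p'.1 : G'.toExtension.Ring) ∈ RingHom.ker (algebraMap G'.toExtension.Ring S') := p'.2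
    rw [RingHom.mem_ker] at h
    rw [← Algebra.Generators.algebraMap_apply]
    exact h
  have h1 : algebraMap B S' (MvPolynomial.aeval G.val p) = 0 := by
    rw [← Algebra.Generators.Hom.algebraMap_toAlgHom (varHom G G' hval), varHom_toAlgHom, hp, h0]
  obtain ⟨q, hq1, hq2⟩ := exists_poly_of_mem_map (R' := R') G _ (hker (RingHom.mem_ker.mpr h1))
  have hmem : (p - q : G.toExtension.Ring) ∈ G.toExtension.ker := by
    refine RingHom.mem_ker.mpr ?_
    show algebraMap G.Ring B (p - q) = 0
    rw [Algebra.Generators.algebraMap_apply, map_sub, hq1, sub_self]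
  refine ⟨Cotangent.mk ⟨p - q, hmem⟩, ?_⟩
  rw [Cotangent.map_mk]
  congr 1
  apply Subtype.ext
  show (varHom G G' hval).toExtensionHom.toAlgHom (p - q) = p'.1
  rw [Algebra.Generators.Hom.toExtensionHom_toAlgHom_apply, varHom_toAlgHom, map_sub, hp, hq2,
    sub_zero]

theorem split_of_surjective (hval : ∀ i, G'.val i = algebraMap B S' (G.val i))
    (hA : Function.Surjective (algebraMap A R'))
    (hker : RingHom.ker (algebraMap B S') ≤
      Ideal.map (algebraMap A B) (RingHom.ker (algebraMap A R')))
    {b : B} (h : Split G.toExtension b) :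
    Split G'.toExtension (algebraMap B S' b) := by
  classical
  obtain ⟨χ₀, hχ₀⟩ := h
  let χ' : G'.toExtension.CotangentSpace →ₗ[S'] G'.toExtension.Cotangent :=
    G'.cotangentSpaceBasis.constr S'
      (fun i => Cotangent.map (varHom G G' hval).toExtensionHom (χ₀ (G.cotangentSpaceBasis i)))
  have hbasis : ∀ i, CotangentSpace.map (varHom G G' hval).toExtensionHom
      (G.cotangentSpaceBasis i) = G'.cotangentSpaceBasis i := by
    intro i
    have h3 := CotangentSpace.map_tmul (varHom G G' hval).toExtensionHom (1 : B)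
      (MvPolynomial.X i : G.toExtension.Ring)
    rw [Algebra.Generators.cotangentSpaceBasis_apply, Algebra.Generators.cotangentSpaceBasis_apply]
    refine h3.trans ?_
    rw [map_one]
    congr 2
    show (varHom G G' hval).toAlgHom (MvPolynomial.X i) = MvPolynomial.X i
    exact Algebra.Generators.Hom.toAlgHom_X _ i
  have key : (χ'.restrictScalars B) ∘ₗ CotangentSpace.map (varHom G G' hval).toExtensionHom =
      Cotangent.map (varHom G G' hval).toExtensionHom ∘ₗ χ₀ := by
    apply G.cotangentSpaceBasis.ext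
    intro i
    simp only [LinearMap.coe_comp, Function.comp_apply, LinearMap.coe_restrictScalars]
    rw [hbasis, Module.Basis.constr_basis]
  refine ⟨χ', LinearMap.ext fun y => ?_⟩
  obtain ⟨x, rfl⟩ := cotangent_map_surjective G G' hval hA hker y
  have h1 := LinearMap.congr_fun key (G.toExtension.cotangentComplex x)
  have h2 := LinearMap.congr_fun hχ₀ x
  simp only [LinearMap.coe_comp, Function.comp_apply, LinearMap.coe_restrictScalars,
    LinearMap.smul_apply, LinearMap.id_coe, id_eq] at h1 h2 ⊢
  rw [← CotangentSpace.map_cotangentComplex, h1, h2, map_smul, algebraMap_smul]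

end Surj

section Transfer

variable {R' S₁ : Type u} [CommRing R'] [CommRing S₁] [Algebra R' S₁]

theorem split_generators {ι : Type w} {ι' : Type w'} (G₁ : Algebra.Generators R' S₁ ι)
    (G₂ : Algebra.Generators R' S₁ ι') {b : S₁} (h : Split G₁.toExtension b) :
    Split G₂.toExtension b :=
  h.of_homs (Algebra.Generators.defaultHom G₁ G₂).toExtensionHom
    (Algebra.Generators.defaultHom G₂ G₁).toExtensionHom

theorem split_baseChange {k B₀ : Type u} [CommRing k] [CommRing B₀] [Algebra k B₀] {ι₀ : Type w}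
    (G₀ : Algebra.Generators k B₀ ι₀) (T : Type u) [CommRing T] [Algebra k T] {b : T ⊗[k] B₀}
    (h : Split (G₀.baseChange T).toExtension b) :
    Split (G₀.toExtension.baseChange (T := T)) b :=
  h.of_homs (G₀.baseChangeToBaseChange T) (G₀.baseChangeFromBaseChange T)

end Transfer

section Descend

attribute [local instance] Algebra.TensorProduct.rightAlgebra

variable {k B₀ : Type u} [Field k] [CommRing B₀] [Algebra k B₀]
  (Q₀ : Algebra.Extension.{w} k B₀) (T : Type u) [CommRing T] [Algebra k T]

theorem split_descend (τ : T) (lam : T →ₗ[k] k) (hlam : lam τ = 1)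
    (h : Split (Q₀.baseChange (T := T)) (algebraMap T (T ⊗[k] B₀) τ)) :
    Split Q₀ 1 := by
  obtain ⟨χ₁, hχ₁⟩ := h
  let g : Q₀.Hom (Q₀.baseChange (T := T)) := Q₀.toBaseChange T
  let θ : T ⊗[k] Q₀.Cotangent ≃ₗ[T] (Q₀.baseChange (T := T)).Cotangent :=
    Q₀.tensorCotangentOfFlat T
  have hθ : ∀ (r : T) (x : Q₀.Cotangent), θ (r ⊗ₜ x) = r • Cotangent.map g x :=
    fun r x => Q₀.tensorCotangentOfFlat_tmul T r x
  let ρ₀ : T ⊗[k] Q₀.Cotangent →ₗ[k] Q₀.Cotangent :=
    TensorProduct.lift ((LinearMap.lsmul k Q₀.Cotangent).comp lam)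
  have hρ₀ : ∀ (r : T) (x : Q₀.Cotangent), ρ₀ (r ⊗ₜ x) = lam r • x := fun r x => by
    simp [ρ₀]
  let μ : B₀ → (T ⊗[k] Q₀.Cotangent →ₗ[k] T ⊗[k] Q₀.Cotangent) := fun b =>
    TensorProduct.map LinearMap.id ((LinearMap.lsmul B₀ Q₀.Cotangent b).restrictScalars k)
  have hμ : ∀ (b : B₀) (r : T) (x : Q₀.Cotangent), μ b (r ⊗ₜ x) = r ⊗ₜ (b • x) :=
    fun b r x => by simp [μ]
  have hcomm : ∀ (r : T) (b : B₀) (v : (Q₀.baseChange (T := T)).Cotangent),
      r • b • v = b • r • v := by
    intro r b v
    calc r • b • v = (algebraMap T (T ⊗[k] B₀) r) • (algebraMap B₀ (T ⊗[k] B₀) b) • v := by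
          rw [algebraMap_smul, algebraMap_smul]
      _ = (algebraMap B₀ (T ⊗[k] B₀) b) • (algebraMap T (T ⊗[k] B₀) r) • v := by
          rw [smul_smul, smul_smul, mul_comm]
      _ = b • r • v := by rw [algebraMap_smul, algebraMap_smul]
  have hA : ∀ (b : B₀) (z : T ⊗[k] Q₀.Cotangent), θ (μ b z) = b • θ z := by
    intro b z
    induction z using TensorProduct.induction_on with
    | zero => simp
    | tmul r x => rw [hμ, hθ, hθ, map_smul, hcomm]
    | add z₁ z₂ h₁ h₂ => rw [map_add, map_add, h₁, h₂, map_add, smul_add]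
  have hB : ∀ (b : B₀) (z : T ⊗[k] Q₀.Cotangent), ρ₀ (μ b z) = b • ρ₀ z := by
    intro b z
    induction z using TensorProduct.induction_on with
    | zero => simp
    | tmul r x =>
      rw [hμ, hρ₀, hρ₀]
      exact (smul_algebra_smul_comm (lam r) b x).symm
    | add z₁ z₂ h₁ h₂ => rw [map_add, map_add, h₁, h₂, map_add, smul_add]
  have hρ : ∀ (b : B₀) (y : (Q₀.baseChange (T := T)).Cotangent),
      ρ₀ (θ.symm (b • y)) = b • ρ₀ (θ.symm y) := by
    intro b y
    have h1 : b • y = θ (μ b (θ.symm y)) := by rw [hA, θ.apply_symm_apply]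
    rw [h1, θ.symm_apply_apply, hB]
  let χ : Q₀.CotangentSpace →ₗ[B₀] Q₀.Cotangent :=
    { toFun := fun e => ρ₀ (θ.symm (χ₁ (CotangentSpace.map g e)))
      map_add' := fun e₁ e₂ => by simp only [map_add]
      map_smul' := fun b e => by
        simp only [RingHom.id_apply]
        rw [map_smul, LinearMap.map_smul_of_tower, hρ] }
  refine ⟨χ, LinearMap.ext fun x => ?_⟩
  rw [LinearMap.comp_apply, LinearMap.smul_apply, LinearMap.id_apply, one_smul]
  show ρ₀ (θ.symm (χ₁ (CotangentSpace.map g (Q₀.cotangentComplex x)))) = x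
  rw [CotangentSpace.map_cotangentComplex]
  have h2 := LinearMap.congr_fun hχ₁ (Cotangent.map g x)
  simp only [LinearMap.coe_comp, Function.comp_apply, LinearMap.smul_apply, LinearMap.id_coe,
    id_eq] at h2
  rw [h2, algebraMap_smul, ← hθ, θ.symm_apply_apply, hρ₀, hlam, one_smul]

end Descend

section Smooth

theorem formallySmooth_of_split {k B₀ : Type u} [CommRing k] [CommRing B₀] [Algebra k B₀]
    {ι₀ : Type w} (G₀ : Algebra.Generators k B₀ ι₀) (h : Split G₀.toExtension 1) :
    Algebra.FormallySmooth k B₀ := by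
  obtain ⟨χ, hχ⟩ := h
  haveI : Algebra.FormallySmooth k G₀.toExtension.Ring :=
    inferInstanceAs (Algebra.FormallySmooth k (MvPolynomial ι₀ k))
  rw [G₀.toExtension.formallySmooth_iff_split_injection]
  exact ⟨χ, by rw [hχ, one_smul]⟩

end Smooth

end Groth.Agent.Helper3.RigSm
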