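import Mathlib
import Groth.Prelude.Def_CotT
import Groth.Prelude.Def_Exal
import Groth.Agent.Lib.Lead.CotTA4
import Groth.Agent.Lib.Helper9.CotLib4
import Groth.Agent.Lib.Helper3.RigidT1a
import Groth.Agent.Lib.Helper3.RigSm1

/-! A rigid singular affine scheme has no affine smoothing over a smooth curve: the set-up
(trivialisation of the infinitesimal neighbourhoods of the special fibre) and the main theorem
(helper3). -/

set_option autoImplicit false
set_option linter.style.haveILetI false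
set_option linter.unusedSectionVars false

universe u

open TensorProduct Algebra.Extension

namespace Groth.Agent.Helper3.RigSm

section Triv

/-- vanishing of `T¹(B₀/k, B₀)` forces all extensions of `B₀` by `B₀` to be trivial -/
theorem isTrivial_of_T1 (k B₀ : Type u) [CommRing k] [CommRing B₀] [Algebra k B₀]
    (h : Subsingleton (CotT.T1 (CotT.canon k B₀) B₀)) (E : Exal.Ext k B₀ B₀) : E.IsTrivial := by
  obtain ⟨ε, -⟩ := Groth.Agent.Helper9.CotLib.main12292 k B₀ B₀ (CotT.canon k B₀)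
  haveI : Subsingleton (Exal.Exalcom k B₀ B₀) := ε.subsingleton
  have hcl : E.cl = (Exal.Ext.trivial k B₀ B₀).cl := Subsingleton.elim _ _
  obtain ⟨eq⟩ : Nonempty (Exal.Ext.Equiv E (Exal.Ext.trivial k B₀ B₀)) := Quotient.exact hcl
  exact Groth.Agent.Helper9.ExalBaer.isTrivial_of_equiv eq
    Groth.Agent.Helper9.ExalBaer.trivial_isTrivial

end Triv

section Elem

theorem pow_not_mem {A : Type u} [CommRing A] [IsDomain A] (t : A) (ht0 : t ≠ 0)
    (htu : ¬ IsUnit t) (m : ℕ) : t ^ m ∉ Ideal.span {t ^ (m + 1)} := by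
  intro h
  obtain ⟨a, ha⟩ := Ideal.mem_span_singleton'.mp h
  have h1 : (t * a - 1) * t ^ m = 0 := by
    calc (t * a - 1) * t ^ m = a * t ^ (m + 1) - t ^ m := by ring
      _ = 0 := by rw [ha, sub_self]
  rcases mul_eq_zero.mp h1 with h2 | h2
  · exact htu (IsUnit.of_mul_eq_one a (sub_eq_zero.mp h2))
  · exact pow_ne_zero m ht0 h2

theorem t_ne_zero {A : Type u} [CommRing A] (hdim : ringKrullDim A = 1) (t : A)
    (ht : (Ideal.span {t}).IsMaximal) : t ≠ 0 := by
  rintro rfl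
  rw [Ideal.span_singleton_eq_bot.mpr rfl] at ht
  have h0 : Ring.KrullDimLE 0 A := Ring.krullDimLE_zero_iff.mpr (fun I hI => by
    have h1 : ⊥ = I := ht.eq_of_le hI.ne_top bot_le
    rw [← h1]; exact ht)
  have h2 := Ring.krullDimLE_iff.mp h0
  rw [hdim] at h2
  norm_num at h2

theorem exists_functional {k V : Type*} [Field k] [AddCommGroup V] [Module k V] (v : V)
    (hv : v ≠ 0) : ∃ lam : V →ₗ[k] k, lam v = 1 := by
  obtain ⟨g, hg⟩ := (LinearMap.toSpanSingleton k V v).exists_leftInverse_of_injective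
    (LinearMap.ker_toSpanSingleton k hv)
  refine ⟨g, ?_⟩
  have h1 := LinearMap.congr_fun hg 1
  simpa using h1

theorem exists_one_tmul' {A B : Type u} [CommRing A] [CommRing B] [Algebra A B] (J : Ideal A)
    (y : (A ⧸ J) ⊗[A] B) : ∃ b : B, y = 1 ⊗ₜ b := by
  induction y using TensorProduct.induction_on with
  | zero => exact ⟨0, (TensorProduct.tmul_zero _ _).symm⟩
  | tmul r b =>
    obtain ⟨a, rfl⟩ := Ideal.Quotient.mk_surjective r
    refine ⟨a • b, ?_⟩
    have h1 : Ideal.Quotient.mk J a = a • (1 : A ⧸ J) := by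
      rw [Algebra.smul_def, mul_one]; rfl
    rw [h1, TensorProduct.smul_tmul]
  | add x y hx hy =>
    obtain ⟨b₁, rfl⟩ := hx
    obtain ⟨b₂, rfl⟩ := hy
    exact ⟨b₁ + b₂, (TensorProduct.tmul_add _ _ _).symm⟩

end Elem

section Quot

variable (k : Type u) [Field k] [IsAlgClosed k] (A : Type u) [CommRing A] [IsDomain A]
  [Algebra k A] [Algebra.FiniteType k A] (t : A)

theorem residue_bijective (ht : (Ideal.span {t}).IsMaximal) :
    Function.Bijective (algebraMap k (A ⧸ Ideal.span {t})) := by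
  haveI := ht
  letI : Field (A ⧸ Ideal.span {t}) := Ideal.Quotient.field _
  haveI : Algebra.FiniteType k (A ⧸ Ideal.span {t}) :=
    (inferInstance : Algebra.FiniteType k A).of_surjective (Ideal.Quotient.mkₐ k _)
      (Ideal.Quotient.mkₐ_surjective k _)
  haveI : Module.Finite k (A ⧸ Ideal.span {t}) :=
    finite_of_finite_type_of_isJacobsonRing k (A ⧸ Ideal.span {t})
  haveI : Algebra.IsIntegral k (A ⧸ Ideal.span {t}) := Algebra.IsIntegral.of_finite k _
  exact IsAlgClosed.algebraMap_bijective_of_isIntegral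

theorem exists_resHom (ht : (Ideal.span {t}).IsMaximal) :
    ∃ ψ : A →ₐ[k] k, ∀ a, ψ a = 0 ↔ a ∈ Ideal.span {t} := by
  let ε : k ≃ₐ[k] (A ⧸ Ideal.span {t}) :=
    AlgEquiv.ofBijective (Algebra.ofId k _) (residue_bijective k A t ht)
  refine ⟨ε.symm.toAlgHom.comp (Ideal.Quotient.mkₐ k _), fun a => ?_⟩
  show ε.symm (Ideal.Quotient.mk _ a) = 0 ↔ _
  rw [EmbeddingLike.map_eq_zero_iff, Ideal.Quotient.eq_zero_iff_mem]

variable {k A t}

theorem exists_aug (ψ : A →ₐ[k] k) (hψ : ∀ a, ψ a = 0 ↔ a ∈ Ideal.span {t}) (m : ℕ) :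
    ∃ e' : (A ⧸ Ideal.span {t ^ (m + 1)}) →ₐ[k] k,
      ∀ a, e' (Ideal.Quotient.mk _ a) = ψ a := by
  have ht0 : ψ t = 0 := (hψ t).mpr (Ideal.mem_span_singleton_self t)
  refine ⟨Ideal.Quotient.liftₐ _ ψ (fun a ha => ?_), fun a => rfl⟩
  obtain ⟨c, rfl⟩ := Ideal.mem_span_singleton'.mp ha
  rw [map_mul, map_pow, ht0, zero_pow (Nat.succ_ne_zero m), mul_zero]

theorem local_artinian (ψ : A →ₐ[k] k) (hψ : ∀ a, ψ a = 0 ↔ a ∈ Ideal.span {t}) (m : ℕ)
    (e' : (A ⧸ Ideal.span {t ^ (m + 1)}) →ₐ[k] k)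
    (he' : ∀ a, e' (Ideal.Quotient.mk _ a) = ψ a) :
    IsLocalRing (A ⧸ Ideal.span {t ^ (m + 1)}) ∧ IsArtinianRing (A ⧸ Ideal.span {t ^ (m + 1)}) := by
  have hle : RingHom.ker e' ≤ Ideal.span {Ideal.Quotient.mk (Ideal.span {t ^ (m + 1)}) t} := by
    intro x hx
    obtain ⟨a, rfl⟩ := Ideal.Quotient.mk_surjective x
    rw [RingHom.mem_ker, he'] at hx
    obtain ⟨c, rfl⟩ := Ideal.mem_span_singleton'.mp ((hψ a).mp hx)
    rw [map_mul]
    exact Ideal.mem_span_singleton'.mpr ⟨_, rfl⟩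
  have hpow : RingHom.ker e' ^ (m + 1) = ⊥ := by
    rw [eq_bot_iff]
    refine (Ideal.pow_right_mono hle (m + 1)).trans ?_
    rw [Ideal.span_singleton_pow, ← map_pow,
      Ideal.Quotient.eq_zero_iff_mem.mpr (Ideal.mem_span_singleton_self _),
      Ideal.span_singleton_eq_bot.mpr rfl]
  have hmax : (RingHom.ker e').IsMaximal :=
    RingHom.ker_isMaximal_of_surjective e' (fun c => ⟨algebraMap k _ c, e'.commutes c⟩)
  have hloc : IsLocalRing (A ⧸ Ideal.span {t ^ (m + 1)}) := by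
    refine IsLocalRing.of_unique_max_ideal ⟨RingHom.ker e', hmax, fun I hI => ?_⟩
    have h1 : RingHom.ker e' ≤ I := by
      intro x hx
      refine hI.isPrime.mem_of_pow_mem (m + 1) ?_
      have h2 : x ^ (m + 1) ∈ RingHom.ker e' ^ (m + 1) := Ideal.pow_mem_pow hx _
      rw [hpow] at h2
      rw [(Submodule.mem_bot _).mp h2]
      exact I.zero_mem
    exact (hmax.eq_of_le hI.ne_top h1).symm
  refine ⟨hloc, ?_⟩
  haveI := hloc
  haveI : IsNoetherianRing A := Algebra.FiniteType.isNoetherianRing k A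
  rw [isArtinianRing_iff_isNilpotent_maximalIdeal, ← IsLocalRing.eq_maximalIdeal hmax]
  exact ⟨m + 1, hpow⟩

end Quot

section Trivialise

variable {k : Type u} [Field k] [IsAlgClosed k] {B₀ : Type u} [CommRing B₀] [Algebra k B₀]
  {A B : Type u} [CommRing A] [CommRing B] [IsDomain A] [Algebra k A] [Algebra.FiniteType k A]
  [Algebra A B] [Module.Flat A B] [Algebra k B] [IsScalarTower k A B]

/-- the `m`-th infinitesimal neighbourhood of the special fibre of a flat family with rigid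
special fibre is trivial -/
theorem exists_triv (t : A) (ht : (Ideal.span {t}).IsMaximal)
    (e : (B ⧸ Ideal.span {algebraMap A B t}) ≃ₐ[k] B₀)
    (hT : ∀ E : Exal.Ext k B₀ B₀, E.IsTrivial) (m : ℕ) :
    ∃ π : B →+* (A ⧸ Ideal.span {t ^ (m + 1)}) ⊗[k] B₀, Function.Surjective π ∧
      RingHom.ker π ≤ Ideal.map (algebraMap A B) (Ideal.span {t ^ (m + 1)}) ∧
      ∀ a : A, π (algebraMap A B a) = (Ideal.Quotient.mk _ a) ⊗ₜ 1 := by
  classical
  obtain ⟨ψ, hψ⟩ := exists_resHom k A t ht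
  obtain ⟨e', he'⟩ := exists_aug ψ hψ m
  obtain ⟨hloc, hart⟩ := local_artinian ψ hψ m e' he'
  haveI := hloc
  haveI := hart
  have ht0 : ψ t = 0 := (hψ t).mpr (Ideal.mem_span_singleton_self t)
  let φ : B →+* B₀ := (e : (B ⧸ Ideal.span {algebraMap A B t}) →+* B₀).comp (Ideal.Quotient.mk _)
  have hφ : ∀ b, φ b = e (Ideal.Quotient.mk _ b) := fun _ => rfl
  have hφsurj : Function.Surjective φ := fun y => by
    obtain ⟨x, rfl⟩ := e.surjective y
    obtain ⟨b, rfl⟩ := Ideal.Quotient.mk_surjective x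
    exact ⟨b, rfl⟩
  have hφker : ∀ b, φ b = 0 ↔ b ∈ Ideal.span {algebraMap A B t} := fun b => by
    rw [hφ, EmbeddingLike.map_eq_zero_iff, Ideal.Quotient.eq_zero_iff_mem]
  have hφk : ∀ c : k, φ (algebraMap k B c) = algebraMap k B₀ c := fun c => by
    rw [hφ]
    exact e.commutes c
  have hφA : ∀ a : A, φ (algebraMap A B a) = algebraMap k B₀ (ψ a) := by
    intro a
    have h1 : ψ (a - algebraMap k A (ψ a)) = 0 := by
      rw [map_sub, AlgHom.commutes]
      simp
    obtain ⟨c, hc⟩ := Ideal.mem_span_singleton'.mp ((hψ _).mp h1)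
    have h2 : algebraMap A B a =
        algebraMap A B c * algebraMap A B t + algebraMap k B (ψ a) := by
      rw [← map_mul, hc, map_sub, ← IsScalarTower.algebraMap_apply k A B]
      ring
    rw [h2, map_add, map_mul, (hφker _).mpr (Ideal.mem_span_singleton_self _), mul_zero, zero_add,
      hφk]
  -- the base change to the Artinian quotient
  letI algAB₀ : Algebra A B₀ := (φ.comp (algebraMap A B)).toAlgebra
  have halg : ∀ a : A, algebraMap A B₀ a = φ (algebraMap A B a) := fun _ => rfl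
  let f : (A ⧸ Ideal.span {t ^ (m + 1)}) →ₐ[A] B₀ :=
    Ideal.Quotient.liftₐ _ (Algebra.ofId A B₀) (fun a ha => by
      obtain ⟨c, rfl⟩ := Ideal.mem_span_singleton'.mp ha
      show algebraMap A B₀ (c * t ^ (m + 1)) = 0
      rw [halg, hφA, map_mul, map_pow, ht0, zero_pow (Nat.succ_ne_zero m), mul_zero, map_zero])
  have hf : ∀ a : A, f (Ideal.Quotient.mk _ a) = φ (algebraMap A B a) := fun _ => rfl
  let g : B →ₐ[A] B₀ := { φ with commutes' := fun _ => rfl }
  have hg : ∀ b, g b = φ b := fun _ => rfl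
  let ιA : (A ⧸ Ideal.span {t ^ (m + 1)}) ⊗[A] B →ₐ[A] B₀ :=
    Algebra.TensorProduct.lift f g (fun _ _ => Commute.all _ _)
  have hιA : ∀ r b, ιA (r ⊗ₜ b) = f r * g b := fun r b => by
    simp [ιA]
  let ι : (A ⧸ Ideal.span {t ^ (m + 1)}) ⊗[A] B →+* B₀ := ιA.toRingHom
  have hι : ∀ r b, ι (r ⊗ₜ b) = f r * φ b := fun r b => hιA r b
  have hιsurj : Function.Surjective ι := fun y => by
    obtain ⟨b, rfl⟩ := hφsurj y
    exact ⟨1 ⊗ₜ b, by rw [hι, map_one, one_mul]⟩
  have hcomp : ∀ r : A ⧸ Ideal.span {t ^ (m + 1)},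
      ι (algebraMap _ ((A ⧸ Ideal.span {t ^ (m + 1)}) ⊗[A] B) r) = algebraMap k B₀ (e' r) := by
    intro r
    obtain ⟨a, rfl⟩ := Ideal.Quotient.mk_surjective r
    rw [Algebra.TensorProduct.algebraMap_apply, Algebra.algebraMap_self, RingHom.id_apply, hι,
      map_one, mul_one, hf, hφA, he']
  have hmk : e' (Ideal.Quotient.mk _ t) = 0 := by rw [he', ht0]
  have hker : RingHom.ker ι = Ideal.map
      (algebraMap (A ⧸ Ideal.span {t ^ (m + 1)}) ((A ⧸ Ideal.span {t ^ (m + 1)}) ⊗[A] B))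
      (RingHom.ker e') := by
    apply le_antisymm
    · intro y hy
      obtain ⟨b, rfl⟩ := exists_one_tmul' _ y
      rw [RingHom.mem_ker, hι, map_one, one_mul, hφker] at hy
      obtain ⟨c, rfl⟩ := Ideal.mem_span_singleton'.mp hy
      have h1 : ((1 : A ⧸ Ideal.span {t ^ (m + 1)}) ⊗ₜ[A] (c * algebraMap A B t)) =
          algebraMap (A ⧸ Ideal.span {t ^ (m + 1)}) ((A ⧸ Ideal.span {t ^ (m + 1)}) ⊗[A] B)
            (Ideal.Quotient.mk _ t) * (1 ⊗ₜ c) := by
        rw [Algebra.TensorProduct.algebraMap_apply, Algebra.algebraMap_self, RingHom.id_apply,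
          Algebra.TensorProduct.tmul_mul_tmul, mul_one, one_mul, mul_comm c,
          ← Algebra.smul_def, ← TensorProduct.smul_tmul]
        congr 1
        rw [Algebra.smul_def, mul_one]
        rfl
      rw [h1]
      exact Ideal.mul_mem_right _ _ (Ideal.mem_map_of_mem _ (RingHom.mem_ker.mpr hmk))
    · rw [Ideal.map_le_iff_le_comap]
      intro r hr
      rw [Ideal.mem_comap, RingHom.mem_ker, hcomp, RingHom.mem_ker.mp hr, map_zero]
  obtain ⟨s, hs1, hs2⟩ := Groth.Agent.Helper3.RigidT1.exists_section k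
    (A ⧸ Ideal.span {t ^ (m + 1)}) e' B₀ ((A ⧸ Ideal.span {t ^ (m + 1)}) ⊗[A] B) hT ι hιsurj
    hker hcomp
  obtain ⟨Ψ, hΨ1, -⟩ := Groth.Agent.Helper3.RigidT1.core' k
    (A ⧸ Ideal.span {t ^ (m + 1)}) e' B₀ ((A ⧸ Ideal.span {t ^ (m + 1)}) ⊗[A] B) ι hker hcomp
    s hs1 hs2
  let incl : B →+* (A ⧸ Ideal.span {t ^ (m + 1)}) ⊗[A] B :=
    (Algebra.TensorProduct.includeRight : B →ₐ[A] (A ⧸ Ideal.span {t ^ (m + 1)}) ⊗[A] B).toRingHom
  have hincl : ∀ b, incl b = 1 ⊗ₜ b := fun _ => rfl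
  refine ⟨(Ψ.symm : _ →+* _).comp incl, ?_, ?_, ?_⟩
  · intro y
    obtain ⟨b, hb⟩ := exists_one_tmul' _ (Ψ y)
    refine ⟨b, ?_⟩
    rw [RingHom.comp_apply, hincl, ← hb]
    exact Ψ.symm_apply_apply y
  · intro b hb
    rw [RingHom.mem_ker, RingHom.comp_apply, hincl] at hb
    have hb0 : ((1 : A ⧸ Ideal.span {t ^ (m + 1)}) ⊗ₜ[A] b) = 0 :=
      (RingEquiv.map_eq_zero_iff Ψ.symm).mp hb
    have h1 : (TensorProduct.quotTensorEquivQuotSMul B (Ideal.span {t ^ (m + 1)})) (1 ⊗ₜ b) = 0 := by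
      rw [hb0, map_zero]
    rw [TensorProduct.quotTensorEquivQuotSMul_mk_one_tmul, Submodule.Quotient.mk_eq_zero,
      Ideal.smul_top_eq_map] at h1
    exact h1
  · intro a
    rw [RingHom.comp_apply, hincl]
    have h1 : ((1 : A ⧸ Ideal.span {t ^ (m + 1)}) ⊗ₜ[A] algebraMap A B a) =
        Ψ ((Ideal.Quotient.mk _ a) ⊗ₜ 1) := by
      rw [hΨ1, Algebra.TensorProduct.algebraMap_apply, Algebra.algebraMap_self, RingHom.id_apply,
        Algebra.algebraMap_eq_smul_one, ← TensorProduct.smul_tmul]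
      congr 1
      rw [Algebra.smul_def, mul_one]
      rfl
    rw [h1]
    exact Ψ.symm_apply_apply _

end Trivialise

end Groth.Agent.Helper3.RigSm
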