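import Mathlib
import Groth.Prelude.Def_ArtFun4
import Groth.Agent.Lib.Helper3.RigSm2
import Groth.Agent.Lib.Helper3.T2Lift7
import Groth.Agent.Lib.Helper3.NodeA

/-! The node `xy = 0`: the Artinian rings `k[T]/(T³)`, `k[ε]` and the standard deformation
`xy = T` (helper3). -/

set_option autoImplicit false
set_option linter.style.haveILetI false
set_option linter.unusedSectionVars false
universe u

namespace Groth.Agent.Helper3.Node

open MvPolynomial CategoryTheory CategoryTheory.Limits AlgebraicGeometry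
open scoped TensorProduct

section Poly

variable (k : Type u) [Field k]

/-- `T ↦ xy` -/
noncomputable def gPM : Polynomial k →ₐ[k] MvPolynomial (Fin 2) k :=
  Polynomial.aeval (X 0 * X 1)

theorem gPM_X : gPM k Polynomial.X = X 0 * X 1 := Polynomial.aeval_X _

theorem gPM_C (c : k) : gPM k (Polynomial.C c) = C c := by
  rw [gPM, Polynomial.aeval_C, MvPolynomial.algebraMap_eq]

theorem gPM_injective : Function.Injective (gPM k) := by
  have h : (MvPolynomial.aeval ![(Polynomial.X : Polynomial k), 1] :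
      MvPolynomial (Fin 2) k →ₐ[k] Polynomial k).comp (gPM k) = AlgHom.id k _ := by
    apply Polynomial.algHom_ext
    rw [AlgHom.comp_apply, gPM_X, map_mul, MvPolynomial.aeval_X, MvPolynomial.aeval_X]
    simp
  intro a b hab
  have h1 := congrArg (MvPolynomial.aeval ![(Polynomial.X : Polynomial k), 1]) hab
  have ha := DFunLike.congr_fun h a
  have hb := DFunLike.congr_fun h b
  rw [AlgHom.comp_apply, AlgHom.id_apply] at ha hb
  rw [← ha, ← hb, h1]

/-- `k[x, y]` as an algebra over `k[T]` through `T ↦ xy` -/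
@[reducible] noncomputable def algPM : Algebra (Polynomial k) (MvPolynomial (Fin 2) k) :=
  (gPM k).toRingHom.toAlgebra

attribute [local instance] algPM

theorem algebraMap_PM (f : Polynomial k) :
    algebraMap (Polynomial k) (MvPolynomial (Fin 2) k) f = gPM k f := rfl

theorem torsionFreePM : Module.IsTorsionFree (Polynomial k) (MvPolynomial (Fin 2) k) := by
  refine ⟨fun r hr m₁ m₂ h => ?_⟩
  have hr0 : r ≠ 0 := hr.ne_zero
  have hg0 : algebraMap (Polynomial k) (MvPolynomial (Fin 2) k) r ≠ 0 := by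
    rw [algebraMap_PM]
    intro h0
    exact hr0 (gPM_injective k (h0.trans (map_zero _).symm))
  have h' : algebraMap (Polynomial k) (MvPolynomial (Fin 2) k) r * m₁ =
      algebraMap (Polynomial k) (MvPolynomial (Fin 2) k) r * m₂ := by
    rw [← Algebra.smul_def, ← Algebra.smul_def]
    exact h
  exact mul_left_cancel₀ hg0 h'

theorem flatPM : Module.Flat (Polynomial k) (MvPolynomial (Fin 2) k) := by
  haveI := torsionFreePM k
  infer_instance

/-- the ideal `(T³)` -/
noncomputable abbrev I3 : Ideal (Polynomial k) := Ideal.span {(Polynomial.X : Polynomial k) ^ (2 + 1)}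

/-- `k[T]/(T³)` -/
abbrev A3 : Type u := Polynomial k ⧸ I3 k

/-- the ideal `((xy)³)` -/
noncomputable abbrev J3 : Ideal (MvPolynomial (Fin 2) k) :=
  Ideal.map (algebraMap (Polynomial k) (MvPolynomial (Fin 2) k)) (I3 k)

/-- `k[x, y]/((xy)³)` -/
abbrev B3 : Type u := MvPolynomial (Fin 2) k ⧸ J3 k

/-- `k[x, y]/(xy)` -/
abbrev B0 : Type u :=
  MvPolynomial (Fin 2) k ⧸ Ideal.span {(X 0 * X 1 : MvPolynomial (Fin 2) k)}

noncomputable instance instAlgA3B3 : Algebra (A3 k) (B3 k) := inferInstance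

theorem flatA3B3 : Module.Flat (A3 k) (B3 k) := by
  haveI := flatPM k
  exact Module.Flat.of_linearEquiv
    (Algebra.TensorProduct.quotIdealMapEquivQuotTensor (MvPolynomial (Fin 2) k)
      (I3 k)).toLinearEquiv

instance : Module.Flat (A3 k) (B3 k) := flatA3B3 k

/-- the class of `T` -/
noncomputable def T3 : A3 k := Ideal.Quotient.mk _ Polynomial.X

theorem T3_pow : T3 k ^ 3 = 0 := by
  rw [T3, ← map_pow]
  exact Ideal.Quotient.eq_zero_iff_mem.mpr (Ideal.mem_span_singleton_self _)

/-- the augmentation `T ↦ 0` -/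
noncomputable def res3 : A3 k →ₐ[k] k :=
  Ideal.Quotient.liftₐ (I3 k) (Polynomial.aeval (0 : k)) (fun a ha => by
    obtain ⟨c, rfl⟩ := Ideal.mem_span_singleton'.mp ha
    rw [map_mul, map_pow, Polynomial.aeval_X, zero_pow (Nat.succ_ne_zero 2), mul_zero])

theorem res3_mk (f : Polynomial k) :
    res3 k (Ideal.Quotient.mk _ f) = Polynomial.aeval (0 : k) f := rfl

theorem res3_T3 : res3 k (T3 k) = 0 := by rw [T3, res3_mk, Polynomial.aeval_X]

theorem aeval_zero_iff (f : Polynomial k) :
    Polynomial.aeval (0 : k) f = 0 ↔ f ∈ Ideal.span {(Polynomial.X : Polynomial k)} := by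
  rw [Polynomial.coe_aeval_eq_eval, ← Polynomial.coeff_zero_eq_eval_zero,
    ← Polynomial.X_dvd_iff, Ideal.mem_span_singleton]

theorem hres3 (a : A3 k) (ha : res3 k a = 0) : ∃ b, a = T3 k * b := by
  obtain ⟨f, rfl⟩ := Ideal.Quotient.mk_surjective a
  rw [res3_mk, aeval_zero_iff, Ideal.mem_span_singleton] at ha
  obtain ⟨g, rfl⟩ := ha
  exact ⟨Ideal.Quotient.mk _ g, by rw [T3, ← map_mul]⟩

theorem ker_res3 : RingHom.ker (res3 k) = Ideal.span {T3 k} := by
  apply le_antisymm
  · intro a ha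
    obtain ⟨b, rfl⟩ := hres3 k a (RingHom.mem_ker.mp ha)
    exact Ideal.mem_span_singleton'.mpr ⟨b, mul_comm _ _⟩
  · rw [Ideal.span_singleton_le_iff_mem]
    exact RingHom.mem_ker.mpr (res3_T3 k)

theorem T3sq_ne : T3 k ^ 2 ≠ 0 := by
  rw [T3, ← map_pow, Ne, Ideal.Quotient.eq_zero_iff_mem, Ideal.mem_span_singleton,
    Polynomial.X_pow_dvd_iff]
  intro h
  have h1 := h 2 (by norm_num)
  rw [Polynomial.coeff_X_pow] at h1
  simp at h1

theorem algA3B3_mk (f : Polynomial k) :
    algebraMap (A3 k) (B3 k) (Ideal.Quotient.mk _ f) = Ideal.Quotient.mk _ (gPM k f) := rfl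

theorem algA3B3_T3 :
    algebraMap (A3 k) (B3 k) (T3 k) = Ideal.Quotient.mk _ (X 0 * X 1) := by
  rw [T3, algA3B3_mk, gPM_X]

theorem algA3B3_k (c : k) :
    algebraMap (A3 k) (B3 k) (algebraMap k (A3 k) c) = Ideal.Quotient.mk _ (C c) := by
  show algebraMap (A3 k) (B3 k) (Ideal.Quotient.mk _ (Polynomial.C c)) = _
  rw [algA3B3_mk, gPM_C]

theorem J3_eq : J3 k = Ideal.span {((X 0 * X 1 : MvPolynomial (Fin 2) k)) ^ 3} := by
  show Ideal.map (algebraMap (Polynomial k) (MvPolynomial (Fin 2) k))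
    (Ideal.span {(Polynomial.X : Polynomial k) ^ (2 + 1)}) = _
  rw [Ideal.map_span, Set.image_singleton, map_pow, algebraMap_PM, gPM_X]

theorem J3_le : J3 k ≤ Ideal.span {(X 0 * X 1 : MvPolynomial (Fin 2) k)} := by
  rw [J3_eq, Ideal.span_singleton_le_iff_mem]
  exact Ideal.mem_span_singleton'.mpr ⟨(X 0 * X 1) ^ 2, by ring⟩

/-- reduction modulo `xy` -/
noncomputable def ι3 : B3 k →+* B0 k := Ideal.Quotient.factor (J3_le k)

theorem ι3_mk (q : MvPolynomial (Fin 2) k) :
    ι3 k (Ideal.Quotient.mk _ q) = Ideal.Quotient.mk _ q := rfl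

theorem ι3_surjective : Function.Surjective (ι3 k) := Ideal.Quotient.factor_surjective _

theorem ι3_C (c : k) : ι3 k (Ideal.Quotient.mk _ (C c)) = algebraMap k (B0 k) c := rfl

theorem ker_ι3 : RingHom.ker (ι3 k) =
    Ideal.map (algebraMap (A3 k) (B3 k)) (RingHom.ker (res3 k)) := by
  rw [ker_res3, Ideal.map_span, Set.image_singleton, algA3B3_T3]
  show RingHom.ker (Ideal.Quotient.factor (J3_le k)) = _
  rw [Ideal.Quotient.factor_ker, Ideal.map_span, Set.image_singleton]

theorem ι3_comp (a : A3 k) :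
    ι3 k (algebraMap (A3 k) (B3 k) a) = algebraMap k (B0 k) (res3 k a) := by
  obtain ⟨f, rfl⟩ := Ideal.Quotient.mk_surjective a
  rw [algA3B3_mk, ι3_mk, res3_mk]
  have h : ((Ideal.Quotient.mkₐ k
      (Ideal.span {(X 0 * X 1 : MvPolynomial (Fin 2) k)})).comp (gPM k)) =
      (Algebra.ofId k (B0 k)).comp (Polynomial.aeval (0 : k)) := by
    apply Polynomial.algHom_ext
    rw [AlgHom.comp_apply, AlgHom.comp_apply, gPM_X, Polynomial.aeval_X, map_zero]
    exact Ideal.Quotient.eq_zero_iff_mem.mpr (Ideal.mem_span_singleton_self _)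
  exact DFunLike.congr_fun h f

/-- evaluation at the origin -/
noncomputable def ev0 : B0 k →+* k :=
  Ideal.Quotient.lift _ (MvPolynomial.eval (fun _ : Fin 2 => (0 : k))) (fun a ha => by
    obtain ⟨c, rfl⟩ := Ideal.mem_span_singleton'.mp ha
    rw [map_mul, map_mul, MvPolynomial.eval_X, zero_mul, mul_zero])

theorem ev0_X (i : Fin 2) : ev0 k (Ideal.Quotient.mk _ (X i)) = 0 := by
  show MvPolynomial.eval (fun _ : Fin 2 => (0 : k)) (X i) = 0
  rw [MvPolynomial.eval_X]

end Poly

section Dual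

variable (k : Type u) [Field k]

theorem dn_snd_mul (x y : DualNumber k) :
    (x * y).snd = x.fst * y.snd + y.fst * x.snd := by
  rw [TrivSqZeroExt.snd_mul]
  simp [mul_comm]

theorem ker_fst_le (a : DualNumber k) (ha : a.fst = 0) :
    ∃ a' : DualNumber k, a = DualNumber.eps * a' := by
  refine ⟨TrivSqZeroExt.inl a.snd, ?_⟩
  ext
  · simp [ha]
  · simp

theorem hannD (a : DualNumber k) (ha : (DualNumber.eps : DualNumber k) * a = 0) :
    ∃ a' : DualNumber k, a = DualNumber.eps * a' := by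
  apply ker_fst_le
  have h1 := congrArg TrivSqZeroExt.snd ha
  simpa using h1

/-- the dual numbers as an object of `Art`, reducibly -/
@[reducible] noncomputable def D2obj : ArtFun.Art k k :=
  { carrier := DualNumber k
    isArtinianRing := ArtFun.Art.isArtinianRing_tsze k k
    res := TrivSqZeroExt.fstHom k k k
    res_surjective := fun a => ⟨TrivSqZeroExt.inl a, rfl⟩ }

theorem ker_resD_le : RingHom.ker (D2obj k).res ≤ Ideal.span {(DualNumber.eps : DualNumber k)} := by
  intro a ha
  have h1 : a.fst = 0 := RingHom.mem_ker.mp ha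
  obtain ⟨a', rfl⟩ := ker_fst_le k a h1
  exact Ideal.mem_span_singleton'.mpr ⟨a', mul_comm _ _⟩

/-- `T ↦ ε` -/
noncomputable def pHom : A3 k →ₐ[k] DualNumber k :=
  Ideal.Quotient.liftₐ (I3 k) (Polynomial.aeval (DualNumber.eps : DualNumber k)) (fun a ha => by
    obtain ⟨c, rfl⟩ := Ideal.mem_span_singleton'.mp ha
    rw [map_mul, map_pow, Polynomial.aeval_X, pow_succ, pow_two, DualNumber.eps_mul_eps,
      zero_mul, mul_zero])

theorem pHom_mk (f : Polynomial k) :
    pHom k (Ideal.Quotient.mk _ f) = Polynomial.aeval (DualNumber.eps : DualNumber k) f := rfl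

theorem pHom_T3 : pHom k (T3 k) = DualNumber.eps := by
  rw [T3, pHom_mk, Polynomial.aeval_X]

end Dual

section Obj

variable (k : Type u) [Field k] [IsAlgClosed k]

theorem la3 : IsLocalRing (A3 k) ∧ IsArtinianRing (A3 k) :=
  RigSm.local_artinian (k := k) (A := Polynomial k) (t := Polynomial.X)
    (Polynomial.aeval (0 : k)) (aeval_zero_iff k) 2 (res3 k) (fun _ => rfl)

/-- `k[T]/(T³)` as an object of `Art` -/
@[reducible] noncomputable def A3obj : ArtFun.Art k k :=
  { carrier := A3 k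
    isLocalRing := (la3 k).1
    isArtinianRing := (la3 k).2
    res := res3 k
    res_surjective := fun c => ⟨algebraMap k _ c, (res3 k).commutes c⟩ }

/-- `T ↦ ε` as a morphism of `Art` -/
noncomputable def p3 : A3obj k ⟶ D2obj k :=
  ArtFun.Art.homMk (pHom k) (by
    apply Ideal.Quotient.algHom_ext
    apply Polynomial.algHom_ext
    show TrivSqZeroExt.fst (pHom k (Ideal.Quotient.mk _ Polynomial.X)) =
      res3 k (Ideal.Quotient.mk _ Polynomial.X)
    rw [pHom_mk, res3_mk, Polynomial.aeval_X, Polynomial.aeval_X, DualNumber.fst_eps])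

theorem p3_apply (a : A3 k) : (p3 k).toAlgHom a = pHom k a := rfl

theorem p3_surjective : Function.Surjective (p3 k).toAlgHom := by
  intro z
  refine ⟨algebraMap k _ z.fst + algebraMap k _ z.snd * T3 k, ?_⟩
  rw [p3_apply, map_add, map_mul, AlgHom.commutes, AlgHom.commutes, pHom_T3]
  ext
  · simp [TrivSqZeroExt.algebraMap_eq_inl']
  · simp [TrivSqZeroExt.algebraMap_eq_inl']

theorem ker_p3_le : RingHom.ker (p3 k).toAlgHom ≤ Ideal.span {T3 k ^ 2} := by
  intro a ha
  obtain ⟨c₀, c₁, c₂, rfl⟩ := gen3 (T3 k) (res3 k) (T3_pow k) (hres3 k) a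
  have h : pHom k (algebraMap k (A3 k) c₀ + algebraMap k (A3 k) c₁ * T3 k +
      algebraMap k (A3 k) c₂ * T3 k ^ 2) = 0 := RingHom.mem_ker.mp ha
  rw [map_add, map_add, map_mul, map_mul, map_pow, AlgHom.commutes, AlgHom.commutes,
    AlgHom.commutes, pHom_T3, pow_two, DualNumber.eps_mul_eps, mul_zero, add_zero] at h
  have h0 : c₀ = 0 := by
    have h1 := congrArg TrivSqZeroExt.fst h
    simpa [TrivSqZeroExt.algebraMap_eq_inl'] using h1
  have h1 : c₁ = 0 := by
    have h2 := congrArg TrivSqZeroExt.snd h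
    simpa [TrivSqZeroExt.algebraMap_eq_inl'] using h2
  rw [h0, h1, map_zero, zero_mul, zero_add, zero_add]
  exact Ideal.mem_span_singleton'.mpr ⟨_, rfl⟩

theorem hpb3 : IsPullback (Spec.map (CommRingCat.ofHom (ι3 k)))
    (Spec.map (CommRingCat.ofHom (algebraMap k (B0 k))))
    (Spec.map (CommRingCat.ofHom (algebraMap (A3obj k) (B3 k))))
    (ArtFun.Art.specRes (A3obj k)) := by
  have hpo : IsPushout (CommRingCat.ofHom (algebraMap (A3obj k) (B3 k)))
      (CommRingCat.ofHom (A3obj k).res.toRingHom) (CommRingCat.ofHom (ι3 k))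
      (CommRingCat.ofHom (algebraMap k (B0 k))) := by
    refine T2Lift.isPushout_of_surjective (A3obj k).res.toRingHom (A3obj k).res_surjective
      (algebraMap (A3obj k) (B3 k)) (ι3 k) (ι3_surjective k) (algebraMap k (B0 k)) ?_
      (ker_ι3 k)
    refine RingHom.ext fun a => ?_
    exact ι3_comp k a
  exact isPullback_SpecMap_of_isPushout _ _ _ _ hpo

/-- the standard deformation `xy = T` over `k[T]/(T³)` -/
noncomputable def X3 : ArtFun.DefSch (Spec (CommRingCat.of (B0 k)))
    (Spec.map (CommRingCat.ofHom (algebraMap k (B0 k)))) (A3obj k) :=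
  T2Lift.mkDef (B0 k) (A3obj k) (B3 k) (ι3 k) (hpb3 k)

end Obj

end Groth.Agent.Helper3.Node
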