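import Mathlib
import Groth.Prelude.Def_CotT

/-! Cochain description of `T¹` of a presentation (helper3). -/

set_option autoImplicit false
set_option linter.style.haveILetI false
universe u

namespace Groth.Agent.Helper3.T1Tors

open TensorProduct

section Bridge

variable {k B₀ ι σ : Type u} [CommRing k] [CommRing B₀] [Algebra k B₀]
  (P : Algebra.Presentation k B₀ ι σ) {M : Type u} [AddCommGroup M] [Module B₀ M]

/-- evaluate a family of elements of `M` on an element of the free module on the relations -/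
noncomputable def ev (c : σ → M) (x : CotT.relMod P) : M :=
  x.sum (fun s r => algebraMap P.toExtension.Ring B₀ r • c s)

theorem ev_zero (c : σ → M) : ev P c 0 = 0 := Finsupp.sum_zero_index

theorem ev_add (c : σ → M) (x y : CotT.relMod P) : ev P c (x + y) = ev P c x + ev P c y := by
  unfold ev
  exact Finsupp.sum_add_index' (fun s => by rw [map_zero, zero_smul])
    (fun s r r' => by rw [map_add, add_smul])

theorem ev_single (c : σ → M) (s : σ) (r : P.toExtension.Ring) :
    ev P c (Finsupp.single s r) = algebraMap P.toExtension.Ring B₀ r • c s := by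
  unfold ev
  exact Finsupp.sum_single_index (by rw [map_zero, zero_smul])

/-- the linear map on `L₁` with given values on the basis -/
noncomputable def cochain (c : σ → M) : CotT.L1 P →ₗ[B₀] M := (CotT.L1basis P).constr B₀ c

theorem cochain_basis (c : σ → M) (s : σ) :
    cochain P c ((1 : B₀) ⊗ₜ[P.toExtension.Ring]
      (Finsupp.single s (1 : P.toExtension.Ring) : CotT.relMod P)) = c s := by
  have h := (CotT.L1basis P).constr_basis B₀ c s
  rw [CotT.L1basis_apply] at h
  exact h

theorem one_tmul_single (s : σ) (r : P.toExtension.Ring) :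
    (1 : B₀) ⊗ₜ[P.toExtension.Ring] (Finsupp.single s r : CotT.relMod P) =
      algebraMap P.toExtension.Ring B₀ r • ((1 : B₀) ⊗ₜ[P.toExtension.Ring]
        (Finsupp.single s (1 : P.toExtension.Ring) : CotT.relMod P)) := by
  rw [TensorProduct.smul_tmul', smul_eq_mul, mul_one, ← Finsupp.smul_single_one s r,
    ← TensorProduct.smul_tmul, Algebra.smul_def, mul_one]

theorem cochain_one_tmul (c : σ → M) (x : CotT.relMod P) :
    cochain P c ((1 : B₀) ⊗ₜ[P.toExtension.Ring] x) = ev P c x := by
  induction x using Finsupp.induction_linear with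
  | zero => rw [TensorProduct.tmul_zero, map_zero, ev_zero]
  | add x y hx hy => rw [TensorProduct.tmul_add, map_add, hx, hy, ev_add]
  | single s r => rw [one_tmul_single, map_smul, cochain_basis, ev_single]

theorem cochain_tmul (c : σ → M) (b : B₀) (x : CotT.relMod P) :
    cochain P c (b ⊗ₜ[P.toExtension.Ring] x) = b • ev P c x := by
  have h : b ⊗ₜ[P.toExtension.Ring] x = b • ((1 : B₀) ⊗ₜ[P.toExtension.Ring] x) := by
    rw [TensorProduct.smul_tmul', smul_eq_mul, mul_one]
  rw [h, map_smul, cochain_one_tmul]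

theorem cochain_mem (c : σ → M) (hc : ∀ q : CotT.relKer P, ev P c (q : CotT.relMod P) = 0) :
    cochain P c ∈ CotT.cocycles1 P M := by
  rw [LinearMap.mem_ker, CotT.d2Star_apply]
  refine Submodule.linearMap_qext _ ?_
  rw [LinearMap.comp_assoc, CotT.d2_comp_mkQ, LinearMap.zero_comp]
  refine LinearMap.ext fun x => ?_
  induction x using TensorProduct.induction_on with
  | zero => rw [map_zero, map_zero]
  | tmul b q =>
    rw [LinearMap.comp_apply, LinearMap.baseChange_tmul, Submodule.coe_subtype,
      LinearMap.zero_apply, cochain_tmul, hc, smul_zero]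
  | add x y hx hy => rw [map_add, hx, hy, map_add]

theorem vanish_of_mem (φ : CotT.L1 P →ₗ[B₀] M) (hφ : φ ∈ CotT.cocycles1 P M)
    (q : CotT.relKer P) :
    φ ((1 : B₀) ⊗ₜ[P.toExtension.Ring] (q : CotT.relMod P)) = 0 := by
  have h := LinearMap.mem_ker.mp hφ
  rw [CotT.d2Star_apply] at h
  have h2 := LinearMap.congr_fun h
    (Submodule.Quotient.mk ((1 : B₀) ⊗ₜ[P.toExtension.Ring] q))
  rw [LinearMap.comp_apply, CotT.d2_mk_tmul, LinearMap.zero_apply] at h2
  exact h2

theorem cochain_self (φ : CotT.L1 P →ₗ[B₀] M) :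
    cochain P (fun s => φ ((1 : B₀) ⊗ₜ[P.toExtension.Ring]
      (Finsupp.single s (1 : P.toExtension.Ring) : CotT.relMod P))) = φ := by
  apply (CotT.L1basis P).ext
  intro s
  rw [CotT.L1basis_apply, cochain_basis]

theorem exists_rep (t : CotT.T1 P M) :
    ∃ (c : σ → M) (hc : ∀ q : CotT.relKer P, ev P c (q : CotT.relMod P) = 0),
      t = Submodule.Quotient.mk ⟨cochain P c, cochain_mem P c hc⟩ := by
  obtain ⟨z, rfl⟩ := Submodule.Quotient.mk_surjective _ t
  obtain ⟨φ, hφ⟩ := z
  refine ⟨fun s => φ ((1 : B₀) ⊗ₜ[P.toExtension.Ring]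
    (Finsupp.single s (1 : P.toExtension.Ring) : CotT.relMod P)), ?_, ?_⟩
  · intro q
    rw [← cochain_one_tmul, cochain_self]
    exact vanish_of_mem P φ hφ q
  · exact congrArg _ (Subtype.ext (cochain_self P φ).symm)

/-- the derivation-like map attached to a family `η`, evaluated through `L₀` -/
noncomputable def dEta (η : ι → M) (g : P.toExtension.Ring) : M :=
  (P.cotangentSpaceBasis.constr B₀ η)
    ((1 : B₀) ⊗ₜ[P.toExtension.Ring] KaehlerDifferential.D k P.toExtension.Ring g)

theorem one_tmul_smul (r : P.toExtension.Ring) (y : Ω[P.toExtension.Ring⁄k]) :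
    ((1 : B₀) ⊗ₜ[P.toExtension.Ring] (r • y) : P.toExtension.CotangentSpace) =
      algebraMap P.toExtension.Ring B₀ r • ((1 : B₀) ⊗ₜ[P.toExtension.Ring] y) := by
  rw [TensorProduct.smul_tmul', smul_eq_mul, mul_one, ← TensorProduct.smul_tmul,
    Algebra.smul_def, mul_one]

theorem dEta_add (η : ι → M) (g h : P.toExtension.Ring) :
    dEta P η (g + h) = dEta P η g + dEta P η h := by
  unfold dEta
  rw [map_add, TensorProduct.tmul_add, map_add]

theorem dEta_mul (η : ι → M) (g h : P.toExtension.Ring) :
    dEta P η (g * h) = algebraMap P.toExtension.Ring B₀ g • dEta P η h +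
      algebraMap P.toExtension.Ring B₀ h • dEta P η g := by
  unfold dEta
  rw [Derivation.leibniz, TensorProduct.tmul_add, one_tmul_smul, one_tmul_smul, map_add,
    map_smul, map_smul]

theorem dEta_X (η : ι → M) (i : ι) : dEta P η (MvPolynomial.X i) = η i :=
  (congrArg (P.cotangentSpaceBasis.constr B₀ η)
    (Algebra.Generators.cotangentSpaceBasis_apply P.toGenerators i).symm).trans
    (P.cotangentSpaceBasis.constr_basis B₀ η i)

theorem dEta_C (η : ι → M) (a : k) : dEta P η (MvPolynomial.C a) = 0 := by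
  have h : (MvPolynomial.C a : P.toExtension.Ring) = algebraMap k P.toExtension.Ring a := rfl
  unfold dEta
  rw [h, Derivation.map_algebraMap, TensorProduct.tmul_zero, map_zero]

theorem d1_basis (s : σ) :
    CotT.d1 P ((1 : B₀) ⊗ₜ[P.toExtension.Ring]
      (Finsupp.single s (1 : P.toExtension.Ring) : CotT.relMod P)) =
    (1 : B₀) ⊗ₜ[P.toExtension.Ring] KaehlerDifferential.D k P.toExtension.Ring (P.relation s) := by
  rw [CotT.d1_tmul, one_smul, CotT.jmap_single, one_mul]

theorem mk_eq_mk_iff (c c' : σ → M)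
    (hc : ∀ q : CotT.relKer P, ev P c (q : CotT.relMod P) = 0)
    (hc' : ∀ q : CotT.relKer P, ev P c' (q : CotT.relMod P) = 0) :
    (Submodule.Quotient.mk ⟨cochain P c, cochain_mem P c hc⟩ : CotT.T1 P M) =
        Submodule.Quotient.mk ⟨cochain P c', cochain_mem P c' hc'⟩ ↔
      ∃ η : ι → M, ∀ s, c s - c' s = dEta P η (P.relation s) := by
  rw [Submodule.Quotient.eq, Submodule.mem_comap, LinearMap.mem_range]
  constructor
  · rintro ⟨ψ, hψ⟩
    refine ⟨fun i => ψ (P.cotangentSpaceBasis i), fun s => ?_⟩
    have h1 := LinearMap.congr_fun hψ ((1 : B₀) ⊗ₜ[P.toExtension.Ring]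
      (Finsupp.single s (1 : P.toExtension.Ring) : CotT.relMod P))
    rw [CotT.d1Star_apply, LinearMap.comp_apply, d1_basis] at h1
    have h2 : ((CotT.cocycles1 P M).subtype
        (⟨cochain P c, cochain_mem P c hc⟩ - ⟨cochain P c', cochain_mem P c' hc'⟩))
        ((1 : B₀) ⊗ₜ[P.toExtension.Ring]
          (Finsupp.single s (1 : P.toExtension.Ring) : CotT.relMod P)) = c s - c' s := by
      show (cochain P c - cochain P c') _ = _
      rw [LinearMap.sub_apply, cochain_basis, cochain_basis]
    rw [h2] at h1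
    rw [← h1]
    unfold dEta
    rw [Module.Basis.constr_self]
  · rintro ⟨η, hη⟩
    refine ⟨P.cotangentSpaceBasis.constr B₀ η, ?_⟩
    apply (CotT.L1basis P).ext
    intro s
    rw [CotT.L1basis_apply, CotT.d1Star_apply, LinearMap.comp_apply, d1_basis]
    show dEta P η (P.relation s) = (cochain P c - cochain P c') _
    rw [LinearMap.sub_apply, cochain_basis, cochain_basis, hη]

/-- the class in `T¹` of a cocycle given by a family -/
noncomputable def cls (c : σ → M) (hc : ∀ q : CotT.relKer P, ev P c (q : CotT.relMod P) = 0) :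
    CotT.T1 P M :=
  Submodule.Quotient.mk ⟨cochain P c, cochain_mem P c hc⟩

theorem exists_rep' (t : CotT.T1 P M) :
    ∃ (c : σ → M) (hc : ∀ q : CotT.relKer P, ev P c (q : CotT.relMod P) = 0),
      t = cls P c hc :=
  exists_rep P t

theorem cls_eq_iff (c c' : σ → M)
    (hc : ∀ q : CotT.relKer P, ev P c (q : CotT.relMod P) = 0)
    (hc' : ∀ q : CotT.relKer P, ev P c' (q : CotT.relMod P) = 0) :
    cls P c hc = cls P c' hc' ↔ ∃ η : ι → M, ∀ s, c s - c' s = dEta P η (P.relation s) :=
  mk_eq_mk_iff P c c' hc hc'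

end Bridge

end Groth.Agent.Helper3.T1Tors
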