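import Mathlib
import Groth.Agent.Lib.Helper3.T2Lift1

/-! The multiplication map `B₀ ⊗ J → B'` of an extension of a deformation (helper3). -/

set_option autoImplicit false
set_option linter.style.haveILetI false
universe u

namespace Groth.Agent.Helper3.T1Tors

open TensorProduct

section Mu

variable {k : Type u} [Field k] (B₀ : Type u) [CommRing B₀] [Algebra k B₀]
  {C : Type u} [CommRing C] [Algebra k C]
  {C' : Type u} [CommRing C'] [Algebra k C'] (e' : C' →ₐ[k] k) (p : C' →ₐ[k] C)

/-- the data needed to define the multiplication map `B₀ ⊗ J → B'` -/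
structure MuData (B' : Type u) [CommRing B'] [Algebra C' B'] where
  ι' : B' →+* B₀
  surj : Function.Surjective ι'
  comp : ∀ a, ι' (algebraMap C' B' a) = algebraMap k B₀ (e' a)
  kill : ∀ (j : C') (y : B'), p j = 0 → ι' y = 0 → algebraMap C' B' j * y = 0

namespace MuData

variable {B₀ e' p}
variable {B' : Type u} [CommRing B'] [Algebra C' B'] (X : MuData B₀ e' p B')

theorem kill_sub (j : ↥(RingHom.ker p)) (y y' : B') (h : X.ι' y = X.ι' y') :
    algebraMap C' B' (j : C') * y = algebraMap C' B' (j : C') * y' := by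
  have h1 := X.kill (j : C') (y - y') (RingHom.mem_ker.mp j.2) (by rw [map_sub, h, sub_self])
  rw [mul_sub, sub_eq_zero] at h1
  exact h1

noncomputable def muAux (b : B₀) : ↥(RingHom.ker p) →+ B' where
  toFun j := algebraMap C' B' (j : C') * Function.surjInv X.surj b
  map_zero' := by simp
  map_add' j j' := by simp [add_mul]

noncomputable def mu₀ : B₀ →+ ↥(RingHom.ker p) →+ B' where
  toFun b := X.muAux b
  map_zero' := by
    ext j
    show algebraMap C' B' (j : C') * Function.surjInv X.surj 0 = 0
    have h := X.kill_sub j (Function.surjInv X.surj 0) 0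
      (by rw [Function.surjInv_eq X.surj, map_zero])
    rw [h, mul_zero]
  map_add' b b' := by
    ext j
    show algebraMap C' B' (j : C') * Function.surjInv X.surj (b + b') =
      algebraMap C' B' (j : C') * Function.surjInv X.surj b +
        algebraMap C' B' (j : C') * Function.surjInv X.surj b'
    rw [← mul_add]
    exact X.kill_sub j _ _ (by
      rw [map_add, Function.surjInv_eq X.surj, Function.surjInv_eq X.surj, Function.surjInv_eq X.surj])

/-- the multiplication map `b ⊗ j ↦ j · (lift of b)` -/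
noncomputable def mu : B₀ ⊗[k] ↥(RingHom.ker p) →+ B' :=
  TensorProduct.liftAddHom X.mu₀ (by
    intro r b j
    show algebraMap C' B' (j : C') * Function.surjInv X.surj (r • b) =
      algebraMap C' B' ((r • j : ↥(RingHom.ker p)) : C') * Function.surjInv X.surj b
    have h1 : ((r • j : ↥(RingHom.ker p)) : C') = (j : C') * algebraMap k C' r := by
      rw [Submodule.coe_smul_of_tower, Algebra.smul_def, mul_comm]
    have he : e' (algebraMap k C' r) = r := e'.commutes r
    rw [h1, map_mul, mul_assoc]
    exact X.kill_sub j _ _ (by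
      rw [Function.surjInv_eq X.surj, map_mul, X.comp, he, Function.surjInv_eq X.surj, Algebra.smul_def]))

theorem mu_tmul (b : B₀) (j : ↥(RingHom.ker p)) (y : B') (hy : X.ι' y = b) :
    X.mu (b ⊗ₜ[k] j) = algebraMap C' B' (j : C') * y := by
  show algebraMap C' B' (j : C') * Function.surjInv X.surj b = _
  exact X.kill_sub j _ _ (by rw [Function.surjInv_eq X.surj, hy])

theorem mu_smul (y : B') (m : B₀ ⊗[k] ↥(RingHom.ker p)) : X.mu (X.ι' y • m) = y * X.mu m := by
  induction m using TensorProduct.induction_on with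
  | zero => rw [smul_zero, map_zero, mul_zero]
  | tmul b j =>
    obtain ⟨y', hy'⟩ := X.surj b
    rw [TensorProduct.smul_tmul', smul_eq_mul,
      X.mu_tmul _ j (y * y') (by rw [map_mul, hy']), X.mu_tmul b j y' hy']
    ring
  | add m m' h h' => rw [smul_add, map_add, h, h', map_add, mul_add]

theorem mu_mem (m : B₀ ⊗[k] ↥(RingHom.ker p)) :
    X.mu m ∈ Ideal.map (algebraMap C' B') (RingHom.ker p) := by
  induction m using TensorProduct.induction_on with
  | zero =>
    rw [map_zero]
    exact Ideal.zero_mem _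
  | tmul b j =>
    obtain ⟨y', hy'⟩ := X.surj b
    rw [X.mu_tmul b j y' hy']
    exact Ideal.mul_mem_right _ _ (Ideal.mem_map_of_mem _ j.2)
  | add m m' h h' =>
    rw [map_add]
    exact Ideal.add_mem _ h h'

theorem exists_mu_eq (y : B') (hy : y ∈ Ideal.map (algebraMap C' B') (RingHom.ker p)) :
    ∃ m, X.mu m = y := by
  have hy' : y ∈ Ideal.span ((algebraMap C' B') '' (RingHom.ker p : Set C')) := hy
  refine Submodule.span_induction (p := fun y _ => ∃ m, X.mu m = y) ?_ ?_ ?_ ?_ hy'
  · rintro _ ⟨j, hj, rfl⟩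
    exact ⟨(1 : B₀) ⊗ₜ[k] ⟨j, hj⟩, by rw [X.mu_tmul 1 ⟨j, hj⟩ 1 (map_one _), mul_one]⟩
  · exact ⟨0, map_zero _⟩
  · rintro x y _ _ ⟨m, hm⟩ ⟨m', hm'⟩
    exact ⟨m + m', by rw [map_add, hm, hm']⟩
  · rintro a x _ ⟨m, hm⟩
    exact ⟨X.ι' a • m, by rw [X.mu_smul, hm, smul_eq_mul]⟩

theorem mu_compat {B'' : Type u} [CommRing B''] [Algebra C' B''] (X' : MuData B₀ e' p B'')
    (Ψ : B' →+* B'') (hC : ∀ a, Ψ (algebraMap C' B' a) = algebraMap C' B'' a)
    (hι : ∀ y, X'.ι' (Ψ y) = X.ι' y) (m : B₀ ⊗[k] ↥(RingHom.ker p)) :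
    X'.mu m = Ψ (X.mu m) := by
  induction m using TensorProduct.induction_on with
  | zero => rw [map_zero, map_zero, map_zero]
  | tmul b j =>
    obtain ⟨y', hy'⟩ := X.surj b
    rw [X.mu_tmul b j y' hy', map_mul, hC,
      X'.mu_tmul b j (Ψ y') (by rw [hι, hy'])]
  | add m m' h h' => rw [map_add, h, h', map_add, map_add]

theorem mu_injective [Module.Flat C' B'] (hnil' : IsNilpotent (RingHom.ker e'))
    (hker' : RingHom.ker X.ι' = Ideal.map (algebraMap C' B') (RingHom.ker e')) :
    Function.Injective X.mu := by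
  rw [injective_iff_map_eq_zero]
  intro m hm
  obtain ⟨⟨Λ, bas⟩⟩ := Module.Free.exists_basis (R := k) (M := B₀)
  choose E hE using fun l => X.surj (bas l)
  have hbij := T2Lift.basis_lift_bijective e' X.ι' hnil' hker' X.comp bas E hE
  obtain ⟨c, rfl⟩ := TensorProduct.eq_repr_basis_left bas m
  have h1 : X.mu (c.sum fun l n => bas l ⊗ₜ[k] n) =
      Finsupp.linearCombination C' E
        (Finsupp.mapRange (Subtype.val : ↥(RingHom.ker p) → C') rfl c) := by
    rw [map_finsuppSum, Finsupp.linearCombination_apply,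
      Finsupp.sum_mapRange_index (fun l => by rw [zero_smul])]
    apply Finsupp.sum_congr
    intro l _
    rw [X.mu_tmul (bas l) (c l) (E l) (hE l), Algebra.smul_def]
  rw [h1] at hm
  have h2 := hbij.1 (hm.trans (map_zero _).symm)
  have h3 : c = 0 := by
    ext l
    have h4 := DFunLike.congr_fun h2 l
    rw [Finsupp.mapRange_apply, Finsupp.zero_apply] at h4
    exact h4
  rw [h3, Finsupp.sum_zero_index]

end MuData

end Mu

end Groth.Agent.Helper3.T1Tors
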