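import Mathlib
import Groth.Prelude.Def_CotT
import Groth.Agent.Lib.Helper3.T2Lift4
import Groth.Agent.Lib.Helper3.T1Tors1
import Groth.Agent.Lib.Helper3.T1Tors2

/-! Extensions of a flat deformation of a presented algebra over a semismall extension:
presentations, the Taylor formula (helper3). -/

set_option autoImplicit false
set_option linter.style.haveILetI false
set_option linter.unusedSectionVars false
universe u

namespace Groth.Agent.Helper3.T1Tors

open MvPolynomial TensorProduct

theorem equiv_of_ker_eq {R S T : Type*} [CommRing R] [CommRing S] [CommRing T] (f : R →+* S)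
    (g : R →+* T) (hf : Function.Surjective f) (hg : Function.Surjective g)
    (h : RingHom.ker f = RingHom.ker g) : ∃ Ψ : S ≃+* T, ∀ r, Ψ (f r) = g r := by
  refine ⟨(RingHom.quotientKerEquivOfSurjective hf).symm.trans
    ((Ideal.quotEquivOfEq h).trans (RingHom.quotientKerEquivOfSurjective hg)), fun r => ?_⟩
  rw [RingEquiv.trans_apply, RingHom.quotientKerEquivOfSurjective_symm_apply,
    RingEquiv.trans_apply, Ideal.quotEquivOfEq_mk,
    RingHom.quotientKerEquivOfSurjective_apply_mk]

section Setup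

variable {k : Type u} [Field k] {ι σ : Type u} {B₀ : Type u} [CommRing B₀] [Algebra k B₀]
  (P : Algebra.Presentation k B₀ ι σ)
  {A : Type u} [CommRing A] [Algebra k A] (e : A →ₐ[k] k)
  {A' : Type u} [CommRing A'] [Algebra k A'] (e' : A' →ₐ[k] k)
  (p : A' →ₐ[k] A)
  {B : Type u} [CommRing B] [Algebra A B] (ι₀ : B →+* B₀)

/-- the standing hypotheses: a semismall extension `A' → A` of augmented algebras and a
deformation `B` of `B₀` over `A` -/
structure Ctx : Prop where
  hp : Function.Surjective p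
  hep : ∀ a, e (p a) = e' a
  hmJ : ∀ a j : A', e' a = 0 → p j = 0 → a * j = 0
  hnil : IsNilpotent (RingHom.ker e)
  hnil' : IsNilpotent (RingHom.ker e')
  hι : Function.Surjective ι₀
  hker : RingHom.ker ι₀ = Ideal.map (algebraMap A B) (RingHom.ker e)
  hcomp : ∀ a, ι₀ (algebraMap A B a) = algebraMap k B₀ (e a)

/-- `α : B' → B` exhibits `B'` as an extension of `B` over `A'` (flatness apart) -/
structure IsExt {B' : Type u} [CommRing B'] [Algebra A' B'] (α : B' →+* B) : Prop where
  surj : Function.Surjective α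
  comp : ∀ a, α (algebraMap A' B' a) = algebraMap A B (p a)
  ker : RingHom.ker α = Ideal.map (algebraMap A' B') (RingHom.ker p)

/-- a presentation of `B` over `A` lifting the presentation `P` -/
structure BPres (ψ : MvPolynomial ι A →+* B) (F : σ → MvPolynomial ι A) : Prop where
  hC : ∀ a, ψ (C a) = algebraMap A B a
  hι : ∀ G, ι₀ (ψ G) = aeval P.val (map (e : A →+* k) G)
  surj : Function.Surjective ψ
  ker : RingHom.ker ψ = Ideal.span (Set.range F)
  hF : ∀ s, map (e : A →+* k) (F s) = P.relation s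

/-- a surjection from the polynomial ring onto an extension, compatible with `ψ` -/
structure EPres {B' : Type u} [CommRing B'] [Algebra A' B'] (α : B' →+* B)
    (ψ : MvPolynomial ι A →+* B) (ψ' : MvPolynomial ι A' →+* B') : Prop where
  hC : ∀ a, ψ' (C a) = algebraMap A' B' a
  hα : ∀ G, α (ψ' G) = ψ (map (p : A' →+* A) G)

variable {P e e' p ι₀}

theorem Ctx.surj_e' (K : Ctx e e' p ι₀) : Function.Surjective e' :=
  fun c => ⟨algebraMap k A' c, e'.commutes c⟩

theorem Ctx.ker_p_le (K : Ctx e e' p ι₀) : RingHom.ker p ≤ RingHom.ker e' := by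
  intro j hj
  rw [RingHom.mem_ker] at hj ⊢
  rw [← K.hep, hj, map_zero]

theorem Ctx.map_ker (K : Ctx e e' p ι₀) :
    RingHom.ker e = Ideal.map (p : A' →+* A) (RingHom.ker e') := by
  apply le_antisymm
  · intro c hc
    obtain ⟨a, rfl⟩ := K.hp c
    refine Ideal.mem_map_of_mem _ ?_
    rw [RingHom.mem_ker, ← K.hep]
    exact hc
  · rw [Ideal.map_le_iff_le_comap]
    intro a ha
    rw [Ideal.mem_comap, RingHom.mem_ker]
    show e (p a) = 0
    rw [K.hep]
    exact ha

theorem mem_map_C_ker' (G : MvPolynomial ι A') :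
    G ∈ Ideal.map C (RingHom.ker p) ↔ map (p : A' →+* A) G = 0 := by
  rw [← RingHom.mem_ker, ker_map]
  exact Iff.rfl

section Ext

variable {B' : Type u} [CommRing B'] [Algebra A' B'] {α : B' →+* B}

theorem ker_comp_eq (K : Ctx e e' p ι₀) (hα : IsExt p α) :
    RingHom.ker (ι₀.comp α) = Ideal.map (algebraMap A' B') (RingHom.ker e') := by
  apply le_antisymm
  · intro y hy
    have h1 : α y ∈ Ideal.map (algebraMap A B) (RingHom.ker e) := by
      rw [← K.hker]
      exact hy
    have h2 : Ideal.map (algebraMap A B) (RingHom.ker e) =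
        Ideal.map α (Ideal.map (algebraMap A' B') (RingHom.ker e')) := by
      rw [Ideal.map_map]
      have h3 : α.comp (algebraMap A' B') = (algebraMap A B).comp (p : A' →+* A) :=
        RingHom.ext fun a => hα.comp a
      rw [h3, ← Ideal.map_map, ← K.map_ker]
    rw [h2, Ideal.mem_map_iff_of_surjective α hα.surj] at h1
    obtain ⟨z, hz, hzy⟩ := h1
    have h4 : y - z ∈ RingHom.ker α := by
      rw [RingHom.mem_ker, map_sub, hzy, sub_self]
    rw [hα.ker] at h4
    have h5 : y = z + (y - z) := by abel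
    rw [h5]
    exact Ideal.add_mem _ hz (Ideal.map_mono K.ker_p_le h4)
  · rw [Ideal.map_le_iff_le_comap]
    intro a ha
    rw [Ideal.mem_comap, RingHom.mem_ker, RingHom.comp_apply, hα.comp, K.hcomp, K.hep,
      RingHom.mem_ker.mp ha, map_zero]

/-- the data defining the multiplication map of an extension -/
noncomputable def muData (K : Ctx e e' p ι₀) (hα : IsExt p α) : MuData B₀ e' p B' where
  ι' := ι₀.comp α
  surj := K.hι.comp hα.surj
  comp := fun a => by rw [RingHom.comp_apply, hα.comp, K.hcomp, K.hep]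
  kill := fun j y hj hy => by
    have hy' : y ∈ Ideal.map (algebraMap A' B') (RingHom.ker e') := by
      rw [← ker_comp_eq K hα]
      exact hy
    have hy'' : y ∈ Ideal.span ((algebraMap A' B') '' (RingHom.ker e' : Set A')) := hy'
    refine Submodule.span_induction (p := fun y _ => algebraMap A' B' j * y = 0) ?_ ?_ ?_ ?_ hy''
    · rintro _ ⟨a, ha, rfl⟩
      rw [← map_mul, mul_comm, K.hmJ a j ha hj, map_zero]
    · rw [mul_zero]
    · intro x y _ _ hx hy
      rw [mul_add, hx, hy, add_zero]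
    · intro a x _ hx
      rw [smul_eq_mul, mul_left_comm, hx, mul_zero]

theorem muData_ι' (K : Ctx e e' p ι₀) (hα : IsExt p α) (y : B') :
    (muData K hα).ι' y = ι₀ (α y) := rfl

end Ext

/-- a ring map from a polynomial ring which induces the presentation on the closed fibre is
surjective -/
theorem psi_surjective (P : Algebra.Presentation k B₀ ι σ) {R : Type u} [CommRing R]
    [Algebra k R] (ε : R →ₐ[k] k) {S : Type u} [CommRing S] [Algebra R S] (j₀ : S →+* B₀)
    (hnil : IsNilpotent (RingHom.ker ε))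
    (hker : RingHom.ker j₀ = Ideal.map (algebraMap R S) (RingHom.ker ε))
    (ψ : MvPolynomial ι R →+* S) (hψC : ∀ a, ψ (C a) = algebraMap R S a)
    (hψι : ∀ G, j₀ (ψ G) = aeval P.val (map (ε : R →+* k) G)) : Function.Surjective ψ := by
  have h := Groth.Agent.Lead.DefoIso.eq_top_of_top_le_sup_smul (RingHom.ker ε) hnil
    (LinearMap.range (T2Lift.psiLin ψ hψC)) ?_
  · intro y
    have h1 : y ∈ LinearMap.range (T2Lift.psiLin ψ hψC) := by rw [h]; trivial
    exact h1
  · intro y _
    obtain ⟨g, hg⟩ := P.aeval_val_surjective (j₀ y)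
    obtain ⟨G, hG⟩ : ∃ G : MvPolynomial ι R, G = map (algebraMap k R) g := ⟨_, rfl⟩
    have h1 : j₀ (y - ψ G) = 0 := by
      rw [map_sub, hψι, hG, T2Lift.map_e_map_algebraMap, hg, sub_self]
    have h2 : y - ψ G ∈ (RingHom.ker ε) • (⊤ : Submodule R S) := by
      rw [Ideal.smul_top_eq_map]
      show _ ∈ Ideal.map (algebraMap R S) (RingHom.ker ε)
      rw [← hker]
      exact h1
    have h3 : y = ψ G + (y - ψ G) := by abel
    rw [h3]
    exact Submodule.add_mem_sup ⟨G, rfl⟩ h2

theorem exists_bpres (P : Algebra.Presentation k B₀ ι σ) (K : Ctx e e' p ι₀)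
    [Module.Flat A B] : ∃ ψ F, BPres P e ι₀ ψ F := by
  haveI : Module.Projective A B :=
    T2Lift.projective_of_flat e ι₀ K.hnil K.hι K.hker K.hcomp
  obtain ⟨ψ, hψC, hψι, hψs⟩ := T2Lift.exists_psi P e ι₀ K.hnil K.hι K.hker K.hcomp
  have hF : ∀ s, ∃ Fs : MvPolynomial ι A, ψ Fs = 0 ∧ map (e : A →+* k) Fs = P.relation s := by
    intro s
    obtain ⟨ft, hft⟩ : ∃ ft : MvPolynomial ι A, ft = map (algebraMap k A) (P.relation s) :=
      ⟨_, rfl⟩
    have h1 : ι₀ (ψ ft) = 0 := by
      rw [hψι, hft, T2Lift.map_e_map_algebraMap, P.aeval_val_relation]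
    have h2 : ψ ft ∈ Ideal.map (algebraMap A B) (RingHom.ker e) := by
      rw [← K.hker]
      exact h1
    have h3 : Ideal.map (algebraMap A B) (RingHom.ker e) =
        Ideal.map ψ (Ideal.map (C : A →+* MvPolynomial ι A) (RingHom.ker e)) := by
      rw [Ideal.map_map]
      have h4 : algebraMap A B = ψ.comp (C : A →+* MvPolynomial ι A) :=
        RingHom.ext fun a => (hψC a).symm
      rw [h4]
    rw [h3, Ideal.mem_map_iff_of_surjective ψ hψs] at h2
    obtain ⟨G, hG, hGψ⟩ := h2
    refine ⟨ft - G, by rw [map_sub, hGψ, sub_self], ?_⟩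
    rw [map_sub, (T2Lift.mem_map_C_ker e G).mp hG, sub_zero, hft, T2Lift.map_e_map_algebraMap]
  choose F hF1 hF2 using hF
  have hK := T2Lift.ker_eq_span P e ι₀ ψ hψC hψs K.hnil hψι F hF1 hF2
  exact ⟨ψ, F, hψC, hψι, hψs, hK, hF2⟩

section Pres

variable {B' : Type u} [CommRing B'] [Algebra A' B'] {α : B' →+* B}
  {ψ : MvPolynomial ι A →+* B} {F : σ → MvPolynomial ι A}

theorem BPres.psi_F (hB : BPres P e ι₀ ψ F) (s : σ) : ψ (F s) = 0 := by
  have h1 : F s ∈ RingHom.ker ψ := by
    rw [hB.ker]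
    exact Ideal.subset_span ⟨s, rfl⟩
  exact h1

theorem EPres.hι {ψ' : MvPolynomial ι A' →+* B'} (E' : EPres p α ψ ψ') (K : Ctx e e' p ι₀)
    (hB : BPres P e ι₀ ψ F) (G : MvPolynomial ι A') :
    ι₀ (α (ψ' G)) = aeval P.val (map (e' : A' →+* k) G) := by
  rw [E'.hα, hB.hι, T2Lift.map_e_map_p e e' p K.hep]

theorem EPres.surj {ψ' : MvPolynomial ι A' →+* B'} (E' : EPres p α ψ ψ') (K : Ctx e e' p ι₀)
    (hα : IsExt p α) (hB : BPres P e ι₀ ψ F) : Function.Surjective ψ' :=
  psi_surjective P e' (ι₀.comp α) K.hnil' (ker_comp_eq K hα) ψ' E'.hC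
    (fun G => E'.hι K hB G)

theorem exists_epres (hα : IsExt p α) (hB : BPres P e ι₀ ψ F) :
    ∃ ψ' : MvPolynomial ι A' →+* B', EPres p α ψ ψ' := by
  choose b hb using fun i => hα.surj (ψ (X i))
  refine ⟨(aeval b : MvPolynomial ι A' →ₐ[A'] B').toRingHom, fun a => ?_, fun G => ?_⟩
  · show aeval b (C a) = _
    rw [aeval_C]
  · show α (aeval b G) = ψ (map (p : A' →+* A) G)
    induction G using MvPolynomial.induction_on with
    | C a =>
      rw [aeval_C, hα.comp, map_C, hB.hC]
      rfl
    | add f g hf hg => rw [map_add, map_add, hf, hg, map_add, map_add]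
    | mul_X f i hf => rw [map_mul, map_mul, hf, aeval_X, hb, map_mul, map_X, map_mul]

theorem exists_F1 (K : Ctx e e' p ι₀) (hα : IsExt p α) (hB : BPres P e ι₀ ψ F)
    {ψ' : MvPolynomial ι A' →+* B'} (E' : EPres p α ψ ψ') :
    ∃ F' : σ → MvPolynomial ι A', (∀ s, ψ' (F' s) = 0) ∧
      ∀ s, map (p : A' →+* A) (F' s) = F s := by
  have hps : Function.Surjective (map (p : A' →+* A) :
      MvPolynomial ι A' → MvPolynomial ι A) := MvPolynomial.map_surjective (p : A' →+* A) K.hp
  have hs := E'.surj K hα hB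
  have h : ∀ s, ∃ Fs : MvPolynomial ι A', ψ' Fs = 0 ∧ map (p : A' →+* A) Fs = F s := by
    intro s
    obtain ⟨G, hG⟩ := hps (F s)
    have h1 : ψ' G ∈ RingHom.ker α := by
      rw [RingHom.mem_ker, E'.hα, hG, hB.psi_F]
    have h3 : Ideal.map (algebraMap A' B') (RingHom.ker p) =
        Ideal.map ψ' (Ideal.map (C : A' →+* MvPolynomial ι A') (RingHom.ker p)) := by
      rw [Ideal.map_map]
      have h4 : algebraMap A' B' = ψ'.comp (C : A' →+* MvPolynomial ι A') :=
        RingHom.ext fun a => (E'.hC a).symm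
      rw [h4]
    rw [hα.ker, h3, Ideal.mem_map_iff_of_surjective ψ' hs] at h1
    obtain ⟨H, hH, hHψ⟩ := h1
    refine ⟨G - H, by rw [map_sub, hHψ, sub_self], ?_⟩
    rw [map_sub, (mem_map_C_ker' H).mp hH, sub_zero, hG]
  choose F' h1 h2 using h
  exact ⟨F', h1, h2⟩

/-- first order Taylor formula for two presentations of the same extension -/
theorem taylor (K : Ctx e e' p ι₀) (hα : IsExt p α) (hB : BPres P e ι₀ ψ F)
    {ψ' ψ'' : MvPolynomial ι A' →+* B'} (E' : EPres p α ψ ψ') (E'' : EPres p α ψ ψ'')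
    (η : ι → B₀ ⊗[k] ↥(RingHom.ker p))
    (hη : ∀ i, (muData K hα).mu (η i) = ψ'' (X i) - ψ' (X i)) (G : MvPolynomial ι A') :
    ψ'' G - ψ' G = (muData K hα).mu (dEta P η (map (e' : A' →+* k) G)) := by
  induction G using MvPolynomial.induction_on with
  | C a => rw [E'.hC, E''.hC, sub_self, map_C, dEta_C, map_zero]
  | add f g hf hg =>
    have hadd : dEta P η (map (e' : A' →+* k) f + map (e' : A' →+* k) g) =
        dEta P η (map (e' : A' →+* k) f) + dEta P η (map (e' : A' →+* k) g) :=
      dEta_add P η _ _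
    rw [map_add, map_add, map_add, hadd, map_add, ← hf, ← hg]
    ring
  | mul_X f i hf =>
    have h1 : algebraMap P.toExtension.Ring B₀ (map (e' : A' →+* k) f) =
        (muData K hα).ι' (ψ' f) := by
      rw [CotT.algebraMap_toExtension]
      exact (E'.hι K hB f).symm
    have h2 : algebraMap P.toExtension.Ring B₀ (X i) = (muData K hα).ι' (ψ'' (X i)) := by
      rw [CotT.algebraMap_toExtension]
      exact ((E''.hι K hB (X i)).trans (by rw [map_X])).symm
    have h3 : dEta P η (map (e' : A' →+* k) (f * X i)) =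
        (muData K hα).ι' (ψ' f) • η i +
          (muData K hα).ι' (ψ'' (X i)) • dEta P η (map (e' : A' →+* k) f) := by
      have hm : map (e' : A' →+* k) (f * X i) = map (e' : A' →+* k) f * X i := by
        rw [map_mul, map_X]
      have hmul := dEta_mul P η (map (e' : A' →+* k) f) (X i)
      rw [dEta_X, h1, h2] at hmul
      exact (congrArg (dEta P η) hm).trans hmul
    rw [h3, map_add, (muData K hα).mu_smul, (muData K hα).mu_smul, hη, ← hf, map_mul, map_mul]
    ring

end Pres

/-- every element of `B₀ ⊗ J` is the image of a polynomial with coefficients in `J`,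
uniformly for all extensions -/
theorem exists_poly_of_M (P : Algebra.Presentation k B₀ ι σ) (he' : Function.Surjective e')
    (m : B₀ ⊗[k] ↥(RingHom.ker p)) :
    ∃ H : MvPolynomial ι A', map (p : A' →+* A) H = 0 ∧
      ∀ {B' : Type u} [CommRing B'] [Algebra A' B'] (Y : MuData B₀ e' p B')
        (ψ' : MvPolynomial ι A' →+* B'), (∀ a, ψ' (C a) = algebraMap A' B' a) →
        (∀ G, Y.ι' (ψ' G) = aeval P.val (map (e' : A' →+* k) G)) → ψ' H = Y.mu m := by
  induction m using TensorProduct.induction_on with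
  | zero => exact ⟨0, map_zero _, fun Y ψ' _ _ => by rw [map_zero, map_zero]⟩
  | tmul b j =>
    obtain ⟨g, hg⟩ := P.aeval_val_surjective b
    obtain ⟨G, hG⟩ := MvPolynomial.map_surjective (e' : A' →+* k) he' g
    refine ⟨C (j : A') * G, ?_, fun Y ψ' h1 h2 => ?_⟩
    · rw [map_mul, map_C]
      have h0 : (p : A' →+* A) (j : A') = 0 := j.2
      rw [h0, C_0, zero_mul]
    · rw [map_mul, h1, Y.mu_tmul b j (ψ' G) (by rw [h2, hG, hg])]
  | add m m' h h' =>
    obtain ⟨H, hH1, hH2⟩ := h
    obtain ⟨H', hH'1, hH'2⟩ := h'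
    exact ⟨H + H', by rw [map_add, hH1, hH'1, add_zero], fun Y ψ' h1 h2 => by
      rw [map_add, map_add, hH2 Y ψ' h1 h2, hH'2 Y ψ' h1 h2]⟩

end Setup

end Groth.Agent.Helper3.T1Tors
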