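import Mathlib
import Groth.Prelude.Def_CotT
import Groth.Agent.Lib.Helper3.T2Lift5
import Groth.Agent.Lib.Helper3.T1Tors3

/-! Extensions of a flat deformation of a presented algebra over a semismall extension:
the class in `T¹` of an extension relative to a base extension (helper3). -/

set_option autoImplicit false
set_option linter.style.haveILetI false
set_option linter.unusedSectionVars false
universe u

namespace Groth.Agent.Helper3.T1Tors

open MvPolynomial TensorProduct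

section Setup

variable {k : Type u} [Field k] {ι σ : Type u} {B₀ : Type u} [CommRing B₀] [Algebra k B₀]
  {P : Algebra.Presentation k B₀ ι σ}
  {A : Type u} [CommRing A] [Algebra k A] {e : A →ₐ[k] k}
  {A' : Type u} [CommRing A'] [Algebra k A'] {e' : A' →ₐ[k] k}
  {p : A' →ₐ[k] A}
  {B : Type u} [CommRing B] [Algebra A B] {ι₀ : B →+* B₀}

/-- a base extension with a presentation and generators of its kernel lifting `F` -/
structure BaseData (p : A' →ₐ[k] A) {B₁ : Type u} [CommRing B₁] [Algebra A' B₁] (α₁ : B₁ →+* B)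
    (ψ : MvPolynomial ι A →+* B) (F : σ → MvPolynomial ι A)
    (ψ₁ : MvPolynomial ι A' →+* B₁) (F₁ : σ → MvPolynomial ι A') : Prop where
  flat : Module.Flat A' B₁
  ext : IsExt p α₁
  pres : EPres p α₁ ψ ψ₁
  zero : ∀ s, ψ₁ (F₁ s) = 0
  lift : ∀ s, map (p : A' →+* A) (F₁ s) = F s

variable {B₁ : Type u} [CommRing B₁] [Algebra A' B₁] {α₁ : B₁ →+* B}
  {ψ : MvPolynomial ι A →+* B} {F : σ → MvPolynomial ι A}
  {ψ₁ : MvPolynomial ι A' →+* B₁} {F₁ : σ → MvPolynomial ι A'}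

theorem BaseData.hFe (D : BaseData p α₁ ψ F ψ₁ F₁) (K : Ctx e e' p ι₀)
    (hB : BPres P e ι₀ ψ F) (s : σ) : map (e' : A' →+* k) (F₁ s) = P.relation s := by
  rw [← T2Lift.map_e_map_p e e' p K.hep, D.lift, hB.hF]

theorem BaseData.lift_rel (D : BaseData p α₁ ψ F ψ₁ F₁) (K : Ctx e e' p ι₀)
    (hB : BPres P e ι₀ ψ F) (q : σ →₀ MvPolynomial ι k)
    (hq : Finsupp.linearCombination (MvPolynomial ι k) P.relation q = 0) :
    ∃ ρ : σ →₀ MvPolynomial ι A',
      Finsupp.mapRange (map (e' : A' →+* k)) (map_zero _) ρ = q ∧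
        Finsupp.linearCombination (MvPolynomial ι A') F₁ ρ = 0 := by
  haveI := D.flat
  have hker₁ := ker_comp_eq K D.ext
  haveI : Module.Projective A' B₁ :=
    T2Lift.projective_of_flat e' (ι₀.comp α₁) K.hnil' (K.hι.comp D.ext.surj) hker₁
      (muData K D.ext).comp
  have hs := D.pres.surj K D.ext hB
  have hK₁ := T2Lift.ker_eq_span P e' (ι₀.comp α₁) ψ₁ D.pres.hC hs K.hnil'
    (fun G => D.pres.hι K hB G) F₁ D.zero (D.hFe K hB)
  exact T2Lift.lift_rel P e' ψ₁ D.pres.hC hs F₁ hK₁ (D.hFe K hB) q hq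

/-- `t` is the class of the extension `α` (relative to the base extension) -/
def Cls (P : Algebra.Presentation k B₀ ι σ) (K : Ctx e e' p ι₀) (ψ : MvPolynomial ι A →+* B)
    (F₁ : σ → MvPolynomial ι A') {B' : Type u} [CommRing B'] [Algebra A' B'] (α : B' →+* B)
    (t : CotT.T1 P (B₀ ⊗[k] ↥(RingHom.ker p))) : Prop :=
  ∃ (_ : Module.Flat A' B') (hα : IsExt p α) (ψ' : MvPolynomial ι A' →+* B')
    (_ : EPres p α ψ ψ') (c : σ → B₀ ⊗[k] ↥(RingHom.ker p))
    (hc : ∀ q : CotT.relKer P, ev P c (q : CotT.relMod P) = 0),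
    (∀ s, (muData K hα).mu (c s) = ψ' (F₁ s)) ∧
      t = cls P c hc

section One

variable {B' : Type u} [CommRing B'] [Algebra A' B'] {α : B' →+* B}

theorem mu_ev (K : Ctx e e' p ι₀) (hB : BPres P e ι₀ ψ F) (hα : IsExt p α)
    {ψ' : MvPolynomial ι A' →+* B'} (E' : EPres p α ψ ψ')
    (c : σ → B₀ ⊗[k] ↥(RingHom.ker p)) (Z : σ → MvPolynomial ι A')
    (hZ : ∀ s, (muData K hα).mu (c s) = ψ' (Z s)) (ρ : σ →₀ MvPolynomial ι A') :
    (muData K hα).mu (ev P c (Finsupp.mapRange (map (e' : A' →+* k)) (map_zero _) ρ)) =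
      ψ' (Finsupp.linearCombination (MvPolynomial ι A') Z ρ) := by
  induction ρ using Finsupp.induction_linear with
  | zero =>
    have h0 : ev P c (Finsupp.mapRange (map (e' : A' →+* k)) (map_zero _)
        (0 : σ →₀ MvPolynomial ι A')) = 0 :=
      (congrArg (ev P c) Finsupp.mapRange_zero).trans (ev_zero P c)
    rw [h0, map_zero, map_zero, map_zero]
  | add x y hx hy =>
    have ha : ev P c (Finsupp.mapRange (map (e' : A' →+* k)) (map_zero _) (x + y)) =
        ev P c (Finsupp.mapRange (map (e' : A' →+* k)) (map_zero _) x) +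
          ev P c (Finsupp.mapRange (map (e' : A' →+* k)) (map_zero _) y) :=
      (congrArg (ev P c) (Finsupp.mapRange_add (map_add _) x y)).trans (ev_add P c _ _)
    rw [ha, map_add, hx, hy, map_add, map_add]
  | single s G =>
    have hs : ev P c (Finsupp.mapRange (map (e' : A' →+* k)) (map_zero _)
        (Finsupp.single s G)) =
        algebraMap P.toExtension.Ring B₀ (map (e' : A' →+* k) G) • c s :=
      (congrArg (ev P c) Finsupp.mapRange_single).trans (ev_single P c s _)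
    rw [hs, Finsupp.linearCombination_single, smul_eq_mul, map_mul, ← hZ]
    have h := (muData K hα).mu_smul (ψ' G) (c s)
    have h' : (muData K hα).ι' (ψ' G) =
        algebraMap P.toExtension.Ring B₀ (map (e' : A' →+* k) G) := by
      rw [CotT.algebraMap_toExtension]
      exact E'.hι K hB G
    rw [h'] at h
    exact h

theorem cocycle_of_cochain (K : Ctx e e' p ι₀) (hB : BPres P e ι₀ ψ F)
    (D : BaseData p α₁ ψ F ψ₁ F₁) [Module.Flat A' B'] (hα : IsExt p α)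
    {ψ' : MvPolynomial ι A' →+* B'} (E' : EPres p α ψ ψ')
    (c : σ → B₀ ⊗[k] ↥(RingHom.ker p)) (hc : ∀ s, (muData K hα).mu (c s) = ψ' (F₁ s))
    (q : CotT.relKer P) : ev P c (q : CotT.relMod P) = 0 := by
  apply (muData K hα).mu_injective K.hnil' (ker_comp_eq K hα)
  rw [map_zero]
  obtain ⟨ρ, hρ1, hρ2⟩ := D.lift_rel K hB (q : CotT.relMod P) (LinearMap.mem_ker.mp q.2)
  have hq : ev P c (q : CotT.relMod P) =
      ev P c (Finsupp.mapRange (map (e' : A' →+* k)) (map_zero _) ρ) :=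
    congrArg (ev P c) hρ1.symm
  rw [hq, mu_ev K hB hα E' c F₁ hc ρ, hρ2, map_zero]

theorem cls_exists (K : Ctx e e' p ι₀) (hB : BPres P e ι₀ ψ F)
    (D : BaseData p α₁ ψ F ψ₁ F₁) (hfl : Module.Flat A' B') (hα : IsExt p α) :
    ∃ t, Cls P K ψ F₁ α t := by
  obtain ⟨ψ', E'⟩ := exists_epres hα hB
  have hmem : ∀ s, ψ' (F₁ s) ∈ Ideal.map (algebraMap A' B') (RingHom.ker p) := fun s => by
    rw [← hα.ker, RingHom.mem_ker, E'.hα, D.lift, hB.psi_F]
  choose c hc using fun s => (muData K hα).exists_mu_eq _ (hmem s)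
  exact ⟨_, hfl, hα, ψ', E', c, cocycle_of_cochain K hB D hα E' c hc, hc, rfl⟩

theorem cls_unique (K : Ctx e e' p ι₀) (hB : BPres P e ι₀ ψ F)
    (D : BaseData p α₁ ψ F ψ₁ F₁) {t t' : CotT.T1 P (B₀ ⊗[k] ↥(RingHom.ker p))}
    (h : Cls P K ψ F₁ α t) (h' : Cls P K ψ F₁ α t') : t = t' := by
  obtain ⟨hfl, hα, ψ', E', c', hc', hμ', rfl⟩ := h
  obtain ⟨_, hα2, ψ'', E'', c'', hc'', hμ'', rfl⟩ := h'
  haveI := hfl
  have hμ2 : ∀ s, (muData K hα).mu (c'' s) = ψ'' (F₁ s) := hμ''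
  rw [cls_eq_iff P c' c'' hc' hc'']
  have hmem : ∀ i, ψ' (X i) - ψ'' (X i) ∈ Ideal.map (algebraMap A' B') (RingHom.ker p) :=
    fun i => by rw [← hα.ker, RingHom.mem_ker, map_sub, E'.hα, E''.hα, sub_self]
  choose η hη using fun i => (muData K hα).exists_mu_eq _ (hmem i)
  refine ⟨η, fun s => ?_⟩
  apply (muData K hα).mu_injective K.hnil' (ker_comp_eq K hα)
  rw [map_sub, hμ', hμ2, taylor K hα hB E'' E' η hη (F₁ s), D.hFe K hB]

end One

section Two

variable {B' : Type u} [CommRing B'] [Algebra A' B'] {α : B' →+* B}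
  {B'' : Type u} [CommRing B''] [Algebra A' B''] {α'' : B'' →+* B}

theorem cls_equiv (K : Ctx e e' p ι₀) (Ψ : B' ≃+* B'')
    (hΨC : ∀ a, Ψ (algebraMap A' B' a) = algebraMap A' B'' a) (hΨα : ∀ y, α'' (Ψ y) = α y)
    (hfl'' : Module.Flat A' B'') (hα'' : IsExt p α'')
    {t : CotT.T1 P (B₀ ⊗[k] ↥(RingHom.ker p))} (h : Cls P K ψ F₁ α t) :
    Cls P K ψ F₁ α'' t := by
  obtain ⟨hfl, hα, ψ', E', c, hc, hμ, rfl⟩ := h
  refine ⟨hfl'', hα'', (Ψ : B' →+* B'').comp ψ', ⟨fun a => ?_, fun G => ?_⟩, c, hc,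
    fun s => ?_, rfl⟩
  · rw [RingHom.comp_apply, E'.hC]
    exact hΨC a
  · rw [RingHom.comp_apply]
    show α'' (Ψ (ψ' G)) = _
    rw [hΨα, E'.hα]
  · rw [RingHom.comp_apply, ← hμ s]
    exact (muData K hα).mu_compat (muData K hα'') (Ψ : B' →+* B'') hΨC (fun y => by
      show ι₀ (α'' (Ψ y)) = ι₀ (α y)
      rw [hΨα]) (c s)

theorem equiv_of_cls (K : Ctx e e' p ι₀) (hB : BPres P e ι₀ ψ F)
    (D : BaseData p α₁ ψ F ψ₁ F₁) {t : CotT.T1 P (B₀ ⊗[k] ↥(RingHom.ker p))}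
    (h' : Cls P K ψ F₁ α t) (h'' : Cls P K ψ F₁ α'' t) :
    ∃ Ψ : B' ≃+* B'', (∀ a, Ψ (algebraMap A' B' a) = algebraMap A' B'' a) ∧
      ∀ y, α'' (Ψ y) = α y := by
  obtain ⟨hfl', hα', ψ', E', c', hc', hμ', rfl⟩ := h'
  obtain ⟨hfl'', hα'', ψ'', E'', c'', hc'', hμ'', heq⟩ := h''
  haveI := hfl'
  haveI := hfl''
  rw [cls_eq_iff P c' c'' hc' hc''] at heq
  obtain ⟨η, hη⟩ := heq
  obtain ⟨ψn, hψn⟩ : ∃ ψn : MvPolynomial ι A' →+* B'',
      ψn = (aeval (fun i => ψ'' (X i) + (muData K hα'').mu (η i)) :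
        MvPolynomial ι A' →ₐ[A'] B'').toRingHom := ⟨_, rfl⟩
  have hψnX : ∀ i, ψn (X i) = ψ'' (X i) + (muData K hα'').mu (η i) := fun i => by
    rw [hψn]
    exact aeval_X _ i
  have hψnC : ∀ a, ψn (C a) = algebraMap A' B'' a := fun a => by
    rw [hψn]
    exact aeval_C _ a
  have hαμ : ∀ m, α'' ((muData K hα'').mu m) = 0 := fun m => by
    have h := (muData K hα'').mu_mem m
    rw [← hα''.ker] at h
    exact h
  have En : EPres p α'' ψ ψn := by
    refine ⟨hψnC, fun G => ?_⟩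
    induction G using MvPolynomial.induction_on with
    | C a =>
      rw [hψnC, hα''.comp, map_C, hB.hC]
      rfl
    | add f g hf hg => rw [map_add, map_add, hf, hg, map_add, map_add]
    | mul_X f i hf =>
      have h1 : α'' (ψn (X i)) = ψ (map (p : A' →+* A) (X i)) := by
        rw [hψnX, map_add, hαμ, add_zero, E''.hα]
      calc α'' (ψn (f * X i)) = α'' (ψn f) * α'' (ψn (X i)) := by rw [map_mul, map_mul]
        _ = ψ (map (p : A' →+* A) f) * ψ (map (p : A' →+* A) (X i)) := by rw [hf, h1]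
        _ = ψ (map (p : A' →+* A) (f * X i)) := by rw [← map_mul, ← map_mul]
  have hηn : ∀ i, (muData K hα'').mu (η i) = ψn (X i) - ψ'' (X i) := fun i => by
    rw [hψnX, add_sub_cancel_left]
  have hμn : ∀ s, (muData K hα'').mu (c' s) = ψn (F₁ s) := by
    intro s
    have ht := taylor K hα'' hB E'' En η hηn (F₁ s)
    rw [D.hFe K hB, ← hη s, map_sub, hμ''] at ht
    exact (sub_left_inj.mp ht).symm
  choose ct hct1 hct2 using fun s => exists_poly_of_M (p := p) P K.surj_e' (c' s)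
  obtain ⟨F2, hF2def⟩ : ∃ F2 : σ → MvPolynomial ι A', F2 = fun s => F₁ s - ct s := ⟨_, rfl⟩
  have hF2 : ∀ s, F2 s = F₁ s - ct s := fun s => by rw [hF2def]
  have hF2e : ∀ s, map (e' : A' →+* k) (F2 s) = P.relation s := fun s => by
    rw [hF2, map_sub, D.hFe K hB, ← T2Lift.map_e_map_p e e' p K.hep (ct s), hct1, map_zero,
      sub_zero]
  have h1 : ∀ s, ψ' (F2 s) = 0 := fun s => by
    rw [hF2, map_sub, hct2 s (muData K hα') ψ' E'.hC (fun G => E'.hι K hB G), hμ', sub_self]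
  have h2 : ∀ s, ψn (F2 s) = 0 := fun s => by
    rw [hF2, map_sub, hct2 s (muData K hα'') ψn En.hC (fun G => En.hι K hB G), hμn, sub_self]
  have hs' := E'.surj K hα' hB
  have hsn := En.surj K hα'' hB
  haveI : Module.Projective A' B' :=
    T2Lift.projective_of_flat e' (ι₀.comp α) K.hnil' (K.hι.comp hα'.surj) (ker_comp_eq K hα')
      (muData K hα').comp
  haveI : Module.Projective A' B'' :=
    T2Lift.projective_of_flat e' (ι₀.comp α'') K.hnil' (K.hι.comp hα''.surj)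
      (ker_comp_eq K hα'') (muData K hα'').comp
  have hk' := T2Lift.ker_eq_span P e' (ι₀.comp α) ψ' E'.hC hs' K.hnil'
    (fun G => E'.hι K hB G) F2 h1 hF2e
  have hkn := T2Lift.ker_eq_span P e' (ι₀.comp α'') ψn En.hC hsn K.hnil'
    (fun G => En.hι K hB G) F2 h2 hF2e
  obtain ⟨Ψ, hΨ⟩ := equiv_of_ker_eq ψ' ψn hs' hsn (hk'.trans hkn.symm)
  refine ⟨Ψ, fun a => ?_, fun y => ?_⟩
  · rw [← E'.hC, hΨ, En.hC]
  · obtain ⟨G, rfl⟩ := hs' y
    rw [hΨ, En.hα, E'.hα]

end Two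

end Setup

end Groth.Agent.Helper3.T1Tors
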