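import Mathlib
import Groth.Prelude.Def_CotT
import Groth.Agent.Lib.Helper3.T1Tors4

/-! Extensions of a flat deformation of a presented algebra over a semismall extension:
every class in `T¹` is realised, and the algebraic torsor theorem (helper3). -/

set_option autoImplicit false
set_option linter.style.haveILetI false
set_option linter.unusedSectionVars false
universe u

namespace Groth.Agent.Helper3.T1Tors

open MvPolynomial TensorProduct

section Setup

variable {k : Type u} [Field k] {ι σ : Type u} {B₀ : Type u} [CommRing B₀] [Algebra k B₀]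
  {P : Algebra.Presentation k B₀ ι σ}
  {A : Type u} [CommRing A] [Algebra k A] {e : A →ₐ[k] k}
  {A' : Type u} [CommRing A'] [Algebra k A'] {e' : A' →ₐ[k] k}
  {p : A' →ₐ[k] A}
  {B : Type u} [CommRing B] [Algebra A B] {ι₀ : B →+* B₀}
  {B₁ : Type u} [CommRing B₁] [Algebra A' B₁] {α₁ : B₁ →+* B}
  {ψ : MvPolynomial ι A →+* B} {F : σ → MvPolynomial ι A}
  {ψ₁ : MvPolynomial ι A' →+* B₁} {F₁ : σ → MvPolynomial ι A'}

theorem cls_surj (K : Ctx e e' p ι₀) (hB : BPres P e ι₀ ψ F)
    (D : BaseData p α₁ ψ F ψ₁ F₁) [Module.Flat A B]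
    (t : CotT.T1 P (B₀ ⊗[k] ↥(RingHom.ker p))) :
    ∃ (B' : Type u) (_ : CommRing B') (_ : Algebra A' B') (α : B' →+* B),
      Cls P K ψ F₁ α t := by
  classical
  obtain ⟨c, hc, rfl⟩ := exists_rep' P t
  choose ct hct1 hct2 using fun s => exists_poly_of_M (p := p) P K.surj_e' (c s)
  obtain ⟨F2, hF2def⟩ : ∃ F2 : σ → MvPolynomial ι A', F2 = fun s => F₁ s - ct s := ⟨_, rfl⟩
  have hF2 : ∀ s, F2 s = F₁ s - ct s := fun s => by rw [hF2def]
  have hF2p : ∀ s, map (p : A' →+* A) (F2 s) = F s := fun s => by
    rw [hF2, map_sub, D.lift, hct1, sub_zero]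
  have hF2e : ∀ s, map (e' : A' →+* k) (F2 s) = P.relation s := fun s => by
    rw [← T2Lift.map_e_map_p e e' p K.hep, hF2p, hB.hF]
  obtain ⟨I₂, hI₂⟩ : ∃ I₂ : Ideal (MvPolynomial ι A'), I₂ = Ideal.span (Set.range F2) :=
    ⟨_, rfl⟩
  have hps : Function.Surjective (map (p : A' →+* A) :
      MvPolynomial ι A' → MvPolynomial ι A) := MvPolynomial.map_surjective (p : A' →+* A) K.hp
  have hπ0 : ∀ G ∈ I₂, (ψ.comp (map (p : A' →+* A))) G = 0 := by
    intro G hG
    have h1 : I₂ ≤ RingHom.ker (ψ.comp (map (p : A' →+* A))) := by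
      rw [hI₂, Ideal.span_le]
      rintro _ ⟨s, rfl⟩
      show ψ (map (p : A' →+* A) (F2 s)) = 0
      rw [hF2p, hB.psi_F]
    exact h1 hG
  obtain ⟨α₂, hα₂mk⟩ : ∃ α₂ : (MvPolynomial ι A' ⧸ I₂) →+* B,
      ∀ G, α₂ (Ideal.Quotient.mk I₂ G) = ψ (map (p : A' →+* A) G) :=
    ⟨Ideal.Quotient.lift I₂ (ψ.comp (map (p : A' →+* A))) hπ0,
      fun G => Ideal.Quotient.lift_mk _ _ _⟩
  have halg : ∀ a : A', algebraMap A' (MvPolynomial ι A' ⧸ I₂) a =
      Ideal.Quotient.mk I₂ (C a) := fun a => rfl
  have hsm : ∀ (a : A') (y : MvPolynomial ι A' ⧸ I₂),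
      a • y = algebraMap A' (MvPolynomial ι A' ⧸ I₂) a * y := by
    intro a y
    obtain ⟨G, rfl⟩ := Ideal.Quotient.mk_surjective y
    rw [halg, ← map_mul, ← smul_eq_C_mul]
    rfl
  have hα₂ : IsExt p α₂ := by
    refine ⟨?_, ?_, ?_⟩
    · intro y
      obtain ⟨G, rfl⟩ := hB.surj y
      obtain ⟨G', rfl⟩ := hps G
      exact ⟨Ideal.Quotient.mk I₂ G', hα₂mk G'⟩
    · intro a
      rw [halg, hα₂mk, map_C, hB.hC]
      rfl
    · apply le_antisymm
      · intro y hy
        obtain ⟨G, rfl⟩ := Ideal.Quotient.mk_surjective y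
        have h1 : ψ (map (p : A' →+* A) G) = 0 := by
          rw [← hα₂mk]
          exact hy
        have h2 : map (p : A' →+* A) G ∈ Ideal.span (Set.range F) := by
          rw [← hB.ker]
          exact h1
        obtain ⟨c₀, hc₀⟩ := Finsupp.mem_span_range_iff_exists_finsupp.mp h2
        obtain ⟨c₁, hc₁⟩ :=
          Finsupp.mapRange_surjective (map (p : A' →+* A)) (map_zero _) hps c₀
        obtain ⟨G₂, hG₂⟩ : ∃ G₂ : MvPolynomial ι A',
            G₂ = Finsupp.linearCombination (MvPolynomial ι A') F2 c₁ := ⟨_, rfl⟩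
        have hG₂K : G₂ ∈ I₂ := by
          rw [hI₂, hG₂]
          exact Finsupp.mem_span_range_iff_exists_finsupp.mpr ⟨c₁, rfl⟩
        have h3 : map (p : A' →+* A) (G - G₂) = 0 := by
          rw [map_sub, hG₂, T2Lift.lc_map (map (p : A' →+* A)) F2 F hF2p, hc₁,
            Finsupp.linearCombination_apply, hc₀, sub_self]
        have h4 : G - G₂ ∈ Ideal.map C (RingHom.ker p) := (mem_map_C_ker' _).mpr h3
        have h5 : Ideal.Quotient.mk I₂ G = Ideal.Quotient.mk I₂ (G - G₂) := by
          rw [map_sub, Ideal.Quotient.eq_zero_iff_mem.mpr hG₂K, sub_zero]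
        rw [h5]
        have h6 : Ideal.map (algebraMap A' (MvPolynomial ι A' ⧸ I₂)) (RingHom.ker p) =
            Ideal.map (Ideal.Quotient.mk I₂) (Ideal.map C (RingHom.ker p)) := by
          rw [Ideal.map_map]
          rfl
        rw [h6]
        exact Ideal.mem_map_of_mem _ h4
      · rw [Ideal.map_le_iff_le_comap]
        intro j hj
        rw [Ideal.mem_comap, RingHom.mem_ker, halg, hα₂mk, map_C]
        have h0 : (p : A' →+* A) j = 0 := hj
        rw [h0, C_0, map_zero]
  have hker₂ := ker_comp_eq K hα₂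
  have hι₂mk : ∀ G, ι₀ (α₂ (Ideal.Quotient.mk I₂ G)) =
      aeval P.val (map (e' : A' →+* k) G) := fun G => by
    rw [hα₂mk, hB.hι, T2Lift.map_e_map_p e e' p K.hep]
  have hflat : Module.Flat A' (MvPolynomial ι A' ⧸ I₂) := by
    obtain ⟨⟨Λ, bas⟩⟩ := Module.Free.exists_basis (R := k) (M := B₀)
    choose g hg using fun l => P.aeval_val_surjective (bas l)
    choose Gl hGl using fun l => MvPolynomial.map_surjective (e' : A' →+* k) K.surj_e' (g l)
    have hGlb : ∀ l, aeval P.val (map (e' : A' →+* k) (Gl l)) = bas l := fun l => by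
      rw [hGl, hg]
    obtain ⟨E', hE'def⟩ : ∃ E' : Λ → MvPolynomial ι A' ⧸ I₂,
        E' = fun l => Ideal.Quotient.mk I₂ (Gl l) := ⟨_, rfl⟩
    have hE'l : ∀ l, E' l = Ideal.Quotient.mk I₂ (Gl l) := fun l => by rw [hE'def]
    have hE' : ∀ l, (ι₀.comp α₂) (E' l) = bas l := fun l => by
      rw [hE'l, RingHom.comp_apply, hι₂mk, hGlb]
    have hΦ'bij : Function.Bijective (Finsupp.linearCombination A' E') := by
      constructor
      · rw [injective_iff_map_eq_zero]
        intro x hx
        obtain ⟨H, hH⟩ : ∃ H : MvPolynomial ι A', H = Finsupp.linearCombination A' Gl x :=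
          ⟨_, rfl⟩
        have hαlc : ∀ x : Λ →₀ A', α₂ (Finsupp.linearCombination A' E' x) =
            Finsupp.linearCombination A (fun l => α₂ (E' l))
              (Finsupp.mapRange p (map_zero p) x) := by
          intro x
          induction x using Finsupp.induction_linear with
          | zero => simp
          | add x y hx hy =>
            rw [map_add, map_add, hx, hy, Finsupp.mapRange_add (map_add p), map_add]
          | single l a =>
            rw [Finsupp.mapRange_single, Finsupp.linearCombination_single,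
              Finsupp.linearCombination_single, hsm, map_mul, hα₂.comp, Algebra.smul_def]
        have hΦbij := T2Lift.basis_lift_bijective e ι₀ K.hnil K.hker K.hcomp bas
          (fun l => α₂ (E' l)) (fun l => hE' l)
        have h1 : Finsupp.mapRange p (map_zero p) x = 0 := by
          apply hΦbij.1
          rw [← hαlc, hx, map_zero, map_zero]
        have hplc : ∀ x : Λ →₀ A', map (p : A' →+* A) (Finsupp.linearCombination A' Gl x) =
            Finsupp.linearCombination A (fun l => map (p : A' →+* A) (Gl l))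
              (Finsupp.mapRange p (map_zero p) x) := by
          intro x
          induction x using Finsupp.induction_linear with
          | zero => simp
          | add x y hx hy =>
            rw [map_add, map_add, hx, hy, Finsupp.mapRange_add (map_add p), map_add]
          | single l a =>
            rw [Finsupp.mapRange_single, Finsupp.linearCombination_single,
              Finsupp.linearCombination_single, smul_eq_C_mul, smul_eq_C_mul, map_mul, map_C]
            rfl
        have hHp : map (p : A' →+* A) H = 0 := by rw [hH, hplc, h1, map_zero]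
        have hmklc : ∀ x : Λ →₀ A', Ideal.Quotient.mk I₂ (Finsupp.linearCombination A' Gl x) =
            Finsupp.linearCombination A' E' x := by
          intro x
          induction x using Finsupp.induction_linear with
          | zero => simp
          | add x y hx hy => rw [map_add, map_add, hx, hy, map_add]
          | single l a =>
            rw [Finsupp.linearCombination_single, Finsupp.linearCombination_single,
              smul_eq_C_mul, map_mul, hsm, halg, hE'l]
        have hHI : H ∈ I₂ := by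
          rw [← Ideal.Quotient.eq_zero_iff_mem, hH, hmklc, hx]
        rw [hI₂] at hHI
        obtain ⟨ρ, hρ⟩ := Finsupp.mem_span_range_iff_exists_finsupp.mp hHI
        have hρ' : Finsupp.linearCombination (MvPolynomial ι A') F2 ρ = H := by
          rw [Finsupp.linearCombination_apply]
          exact hρ
        have hq : Finsupp.linearCombination (MvPolynomial ι k) P.relation
            (Finsupp.mapRange (map (e' : A' →+* k)) (map_zero _) ρ) = 0 := by
          rw [← T2Lift.lc_map (map (e' : A' →+* k)) F2 P.relation hF2e, hρ',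
            ← T2Lift.map_e_map_p e e' p K.hep, hHp, map_zero]
        have hqmem : (Finsupp.mapRange (map (e' : A' →+* k)) (map_zero _) ρ :
            CotT.relMod P) ∈ CotT.relKer P := hq
        have hev : ev P c (Finsupp.mapRange (map (e' : A' →+* k)) (map_zero _) ρ :
            CotT.relMod P) = 0 := hc ⟨_, hqmem⟩
        have hψ₁F : ψ₁ (Finsupp.linearCombination (MvPolynomial ι A') F₁ ρ) = 0 := by
          rw [Finsupp.linearCombination_apply, map_finsuppSum, Finsupp.sum]
          apply Finset.sum_eq_zero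
          intro s _
          show ψ₁ (ρ s • F₁ s) = 0
          rw [smul_eq_mul, map_mul, D.zero, mul_zero]
        have hψ₁ct : ψ₁ (Finsupp.linearCombination (MvPolynomial ι A') ct ρ) = 0 := by
          rw [← mu_ev K hB D.ext D.pres c ct
            (fun s => (hct2 s (muData K D.ext) ψ₁ D.pres.hC
              (fun G => D.pres.hι K hB G)).symm) ρ, hev, map_zero]
        have hlcsub : Finsupp.linearCombination (MvPolynomial ι A') F2 ρ =
            Finsupp.linearCombination (MvPolynomial ι A') F₁ ρ -
              Finsupp.linearCombination (MvPolynomial ι A') ct ρ := by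
          have hfam : (fun s => F2 s + ct s) = F₁ := funext fun s => by
            rw [hF2, sub_add_cancel]
          have h := T2Lift.lc_family_add F2 ct ρ
          rw [hfam] at h
          exact eq_sub_of_add_eq h.symm
        have hψ₁H : ψ₁ H = 0 := by
          rw [← hρ', hlcsub, map_sub, hψ₁F, hψ₁ct, sub_zero]
        haveI := D.flat
        have hψ₁lc : ∀ x : Λ →₀ A', ψ₁ (Finsupp.linearCombination A' Gl x) =
            Finsupp.linearCombination A' (fun l => ψ₁ (Gl l)) x := by
          intro x
          induction x using Finsupp.induction_linear with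
          | zero => simp
          | add x y hx hy => rw [map_add, map_add, hx, hy, map_add]
          | single l a =>
            rw [Finsupp.linearCombination_single, Finsupp.linearCombination_single,
              smul_eq_C_mul, map_mul, D.pres.hC, Algebra.smul_def]
        have hΦ1bij := T2Lift.basis_lift_bijective e' (ι₀.comp α₁) K.hnil'
          (ker_comp_eq K D.ext) (muData K D.ext).comp bas (fun l => ψ₁ (Gl l)) (fun l => by
            show ι₀ (α₁ (ψ₁ (Gl l))) = bas l
            rw [D.pres.hι K hB, hGlb])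
        apply hΦ1bij.1
        rw [← hψ₁lc, ← hH, hψ₁H, map_zero]
      · rw [← LinearMap.range_eq_top]
        apply Groth.Agent.Lead.DefoIso.eq_top_of_top_le_sup_smul (RingHom.ker e') K.hnil'
        intro y _
        obtain ⟨x, hx⟩ : ∃ x : Λ →₀ A',
            x = Finsupp.mapRange (algebraMap k A') (map_zero _)
              (bas.repr ((ι₀.comp α₂) y)) := ⟨_, rfl⟩
        have h1 : (ι₀.comp α₂) (y - Finsupp.linearCombination A' E' x) = 0 := by
          rw [map_sub, T2Lift.iota_lc e' (ι₀.comp α₂) bas (muData K hα₂).comp E' hE', hx,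
            T2Lift.mapRange_e_algebraMap, Module.Basis.linearCombination_repr, sub_self]
        have h2 : y - Finsupp.linearCombination A' E' x ∈
            (RingHom.ker e') • (⊤ : Submodule A' (MvPolynomial ι A' ⧸ I₂)) := by
          rw [Ideal.smul_top_eq_map]
          show _ ∈ Ideal.map (algebraMap A' (MvPolynomial ι A' ⧸ I₂)) (RingHom.ker e')
          rw [← hker₂]
          exact h1
        have h3 : y = Finsupp.linearCombination A' E' x +
            (y - Finsupp.linearCombination A' E' x) := by abel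
        rw [h3]
        exact Submodule.add_mem_sup ⟨x, rfl⟩ h2
    exact Module.Flat.of_linearEquiv (LinearEquiv.ofBijective _ hΦ'bij).symm
  refine ⟨MvPolynomial ι A' ⧸ I₂, inferInstance, inferInstance, α₂, hflat, hα₂,
    Ideal.Quotient.mk I₂, ⟨fun a => rfl, hα₂mk⟩, c, hc, fun s => ?_, rfl⟩
  rw [← hct2 s (muData K hα₂) (Ideal.Quotient.mk I₂) (fun a => rfl) (fun G => hι₂mk G)]
  refine (Ideal.Quotient.eq.mpr ?_).symm
  rw [← hF2, hI₂]
  exact Ideal.subset_span ⟨s, rfl⟩

/-- the algebraic torsor theorem, packaged as a classification relation -/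
theorem main_alg (P : Algebra.Presentation k B₀ ι σ) (K : Ctx e e' p ι₀) [Module.Flat A B]
    (hne : ∃ (B₁ : Type u) (_ : CommRing B₁) (_ : Algebra A' B₁) (α₁ : B₁ →+* B),
      Module.Flat A' B₁ ∧ IsExt p α₁) :
    ∃ Cl : (∀ (B' : Type u) [CommRing B'] [Algebra A' B'], (B' →+* B) →
        CotT.T1 P (B₀ ⊗[k] ↥(RingHom.ker p)) → Prop),
      (∀ (B' : Type u) [CommRing B'] [Algebra A' B'] (α : B' →+* B),
        Module.Flat A' B' → IsExt p α → ∃ t, Cl B' α t) ∧
      (∀ (B' : Type u) [CommRing B'] [Algebra A' B'] (α : B' →+* B)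
        (t t' : CotT.T1 P (B₀ ⊗[k] ↥(RingHom.ker p))), Cl B' α t → Cl B' α t' → t = t') ∧
      (∀ (B' B'' : Type u) [CommRing B'] [Algebra A' B'] [CommRing B''] [Algebra A' B'']
        (α : B' →+* B) (α'' : B'' →+* B) (Ψ : B' ≃+* B''),
        (∀ a, Ψ (algebraMap A' B' a) = algebraMap A' B'' a) → (∀ y, α'' (Ψ y) = α y) →
        Module.Flat A' B'' → IsExt p α'' →
        ∀ t : CotT.T1 P (B₀ ⊗[k] ↥(RingHom.ker p)), Cl B' α t → Cl B'' α'' t) ∧
      (∀ (B' B'' : Type u) [CommRing B'] [Algebra A' B'] [CommRing B''] [Algebra A' B'']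
        (α : B' →+* B) (α'' : B'' →+* B) (t : CotT.T1 P (B₀ ⊗[k] ↥(RingHom.ker p))),
        Cl B' α t → Cl B'' α'' t →
        ∃ Ψ : B' ≃+* B'', (∀ a, Ψ (algebraMap A' B' a) = algebraMap A' B'' a) ∧
          ∀ y, α'' (Ψ y) = α y) ∧
      (∀ t : CotT.T1 P (B₀ ⊗[k] ↥(RingHom.ker p)),
        ∃ (B' : Type u) (_ : CommRing B') (_ : Algebra A' B') (α : B' →+* B),
          Module.Flat A' B' ∧ IsExt p α ∧ Cl B' α t) := by
  obtain ⟨B₁, _, _, α₁, hfl₁, hext₁⟩ := hne
  obtain ⟨ψ, F, hB⟩ := exists_bpres P K
  obtain ⟨ψ₁, E₁⟩ := exists_epres hext₁ hB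
  obtain ⟨F₁, h0, hl⟩ := exists_F1 K hext₁ hB E₁
  have D : BaseData p α₁ ψ F ψ₁ F₁ := ⟨hfl₁, hext₁, E₁, h0, hl⟩
  refine ⟨fun B' _ _ α t => Cls P K ψ F₁ α t, ?_, ?_, ?_, ?_, ?_⟩
  · intro B' _ _ α hfl hα
    exact cls_exists K hB D hfl hα
  · intro B' _ _ α t t' h h'
    exact cls_unique K hB D h h'
  · intro B' B'' _ _ _ _ α α'' Ψ h1 h2 hfl hα t h
    exact cls_equiv K Ψ h1 h2 hfl hα h
  · intro B' B'' _ _ _ _ α α'' t h h'
    exact equiv_of_cls K hB D h h'
  · intro t
    obtain ⟨B', i1, i2, α, h⟩ := cls_surj K hB D t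
    obtain ⟨hfl, hα, _⟩ := id h
    exact ⟨B', i1, i2, α, hfl, hα, h⟩

end Setup

end Groth.Agent.Helper3.T1Tors
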