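import Mathlib
import Groth.Prelude.Def_CotT
import Groth.Prelude.Def_ArtFun4
import Groth.Agent.Lib.Helper3.RigidDef
import Groth.Agent.Lib.Helper3.T2Lift7
import Groth.Agent.Lib.Helper3.T1Tors5

/-! Extensions of an affine deformation over a semismall extension: translation between
schemes and algebras (helper3). -/

set_option autoImplicit false
set_option linter.style.haveILetI false
set_option linter.unusedSectionVars false
universe u
open CategoryTheory CategoryTheory.Limits AlgebraicGeometry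

namespace Groth.Agent.Helper3.T1Tors

section Abstract

variable {𝒞 : Type*} [Category 𝒞] [HasPullbacks 𝒞]

theorem abs_square {T' S S' X Y Y' : 𝒞} (f' : T' ⟶ S') (s : S ⟶ S') (fX : X ⟶ S)
    (θ : pullback f' s ≅ X) (hθ : θ.hom ≫ fX = pullback.snd f' s)
    (φ : X ≅ Y) (gY : Y ⟶ S) (hg : fX = φ.hom ≫ gY)
    (φ' : T' ≅ Y') (gY' : Y' ⟶ S') (hg' : f' = φ'.hom ≫ gY')
    (m : Y ⟶ Y') (hm : φ.inv ≫ θ.inv ≫ pullback.fst f' s ≫ φ'.hom = m) :
    IsPullback m gY gY' s := by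
  refine (IsPullback.of_hasPullback f' s).of_iso (θ ≪≫ φ) φ' (Iso.refl S) (Iso.refl S')
    ?_ ?_ ?_ ?_
  · rw [← hm]
    simp
  · rw [Iso.refl_hom, Category.comp_id, Iso.trans_hom, Category.assoc, ← hg, hθ]
  · rw [Iso.refl_hom, Category.comp_id]
    exact hg'
  · simp

theorem abs_equiv {Ta Tb S S' X Y Ya Yb : 𝒞} (fa : Ta ⟶ S') (fb : Tb ⟶ S') (s : S ⟶ S')
    (θa : pullback fa s ≅ X) (θb : pullback fb s ≅ X) (φ : X ≅ Y) (φa : Ta ≅ Ya)
    (φb : Tb ≅ Yb) (ga : Ya ⟶ S') (gb : Yb ⟶ S') (ma : Y ⟶ Ya) (mb : Y ⟶ Yb)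
    (hfa : fa = φa.hom ≫ ga) (hfb : fb = φb.hom ≫ gb)
    (hma : φ.inv ≫ θa.inv ≫ pullback.fst fa s ≫ φa.hom = ma)
    (hmb : φ.inv ≫ θb.inv ≫ pullback.fst fb s ≫ φb.hom = mb)
    (ψ₀ : Ta ≅ Tb) (hψf : ψ₀.hom ≫ fb = fa)
    (hψθ : θa.inv ≫ pullback.fst fa s ≫ ψ₀.hom = θb.inv ≫ pullback.fst fb s) :
    (φa.symm ≪≫ ψ₀ ≪≫ φb).hom ≫ gb = ga ∧ ma ≫ (φa.symm ≪≫ ψ₀ ≪≫ φb).hom = mb := by
  constructor
  · simp only [Iso.trans_hom, Iso.symm_hom, Category.assoc]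
    rw [← hfb, hψf, hfa, Iso.inv_hom_id_assoc]
  · have key : θa.inv ≫ pullback.fst fa s ≫ ψ₀.hom ≫ φb.hom =
        θb.inv ≫ pullback.fst fb s ≫ φb.hom := by
      have h := congrArg (· ≫ φb.hom) hψθ
      simpa only [Category.assoc] using h
    subst hma
    subst hmb
    simp only [Iso.trans_hom, Iso.symm_hom, Category.assoc, Iso.hom_inv_id_assoc]
    rw [key]

theorem abs_iso {X₀ Ta Tb S S' X Y Ya Yb : 𝒞} (fa : Ta ⟶ S') (fb : Tb ⟶ S') (s : S ⟶ S')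
    (θa : pullback fa s ≅ X) (θb : pullback fb s ≅ X) (φ : X ≅ Y) (φa : Ta ≅ Ya)
    (φb : Tb ≅ Yb) (ga : Ya ⟶ S') (gb : Yb ⟶ S') (ma : Y ⟶ Ya) (mb : Y ⟶ Yb)
    (hfa : fa = φa.hom ≫ ga) (hfb : fb = φb.hom ≫ gb)
    (hma : φ.inv ≫ θa.inv ≫ pullback.fst fa s ≫ φa.hom = ma)
    (hmb : φ.inv ≫ θb.inv ≫ pullback.fst fb s ≫ φb.hom = mb)
    (fX : X ⟶ S) (hθa : θa.hom ≫ fX = pullback.snd fa s)
    (hθb : θb.hom ≫ fX = pullback.snd fb s)
    (iX : X₀ ⟶ X) (ia : X₀ ⟶ Ta) (ib : X₀ ⟶ Tb) (ja : X₀ ⟶ pullback fa s)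
    (jb : X₀ ⟶ pullback fb s) (hja1 : ja ≫ θa.hom = iX) (hja2 : ja ≫ pullback.fst fa s = ia)
    (hjb1 : jb ≫ θb.hom = iX) (hjb2 : jb ≫ pullback.fst fb s = ib)
    (w : Ya ≅ Yb) (hwg : w.hom ≫ gb = ga) (hwm : ma ≫ w.hom = mb) :
    ∃ (ψ₀ : Ta ≅ Tb) (h1 : ψ₀.hom ≫ fb = fa), ia ≫ ψ₀.hom = ib ∧
      pullback.lift (pullback.fst fa s ≫ ψ₀.hom) (pullback.snd fa s)
        (by rw [Category.assoc, h1, pullback.condition]) ≫ θb.hom = θa.hom := by
  have fstA : pullback.fst fa s ≫ φa.hom = θa.hom ≫ φ.hom ≫ ma := by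
    rw [← hma]
    simp
  have fstB : pullback.fst fb s = θb.hom ≫ φ.hom ≫ mb ≫ φb.inv := by
    rw [← hmb]
    simp
  have fstA' : pullback.fst fa s ≫ φa.hom ≫ w.hom ≫ φb.inv =
      θa.hom ≫ φ.hom ≫ mb ≫ φb.inv := by
    rw [← Category.assoc, fstA, ← hwm]
    simp only [Category.assoc]
  have h1 : (φa ≪≫ w ≪≫ φb.symm).hom ≫ fb = fa := by
    simp only [Iso.trans_hom, Iso.symm_hom, Category.assoc]
    rw [hfb, Iso.inv_hom_id_assoc, hwg, hfa]
  refine ⟨φa ≪≫ w ≪≫ φb.symm, h1, ?_, ?_⟩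
  · simp only [Iso.trans_hom, Iso.symm_hom]
    rw [← hja2, Category.assoc, fstA', ← hjb2, fstB, ← Category.assoc ja, hja1,
      ← Category.assoc jb, hjb1]
  · have h2 : pullback.lift (pullback.fst fa s ≫ (φa ≪≫ w ≪≫ φb.symm).hom) (pullback.snd fa s)
        (by rw [Category.assoc, h1, pullback.condition]) = θa.hom ≫ θb.inv := by
      apply pullback.hom_ext
      · rw [pullback.lift_fst, Category.assoc]
        simp only [Iso.trans_hom, Iso.symm_hom]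
        rw [fstA']
        conv_rhs => rw [fstB]
        simp
      · rw [pullback.lift_snd, Category.assoc, ← hθb, Iso.inv_hom_id_assoc, hθa]
    rw [h2, Category.assoc, Iso.inv_hom_id, Category.comp_id]

end Abstract

section Ring

theorem surjective_of_isClosedImmersion_SpecMap {R S : CommRingCat.{u}} (f : R ⟶ S)
    [IsClosedImmersion (Spec.map f)] : Function.Surjective f.hom := by
  have h1 : Function.Surjective (Spec.map f).appTop.hom :=
    (IsClosedImmersion.isAffine_surjective_of_isAffine (Spec.map f)).2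
  have h2 : f = (Scheme.ΓSpecIso R).inv ≫ (Spec.map f).appTop ≫ (Scheme.ΓSpecIso S).hom := by
    rw [Scheme.ΓSpecIso_naturality, Iso.inv_hom_id_assoc]
  have h3 : f.hom = (Scheme.ΓSpecIso S).hom.hom.comp
      ((Spec.map f).appTop.hom.comp (Scheme.ΓSpecIso R).inv.hom) :=
    congrArg CommRingCat.Hom.hom h2
  rw [h3, RingHom.coe_comp, RingHom.coe_comp]
  exact (ConcreteCategory.bijective_of_isIso (Scheme.ΓSpecIso S).hom).2.comp
    (h1.comp (ConcreteCategory.bijective_of_isIso (Scheme.ΓSpecIso R).inv).2)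

theorem ringEquiv_of_specIso {R S : Type u} [CommRing R] [CommRing S]
    (n : Spec (CommRingCat.of R) ≅ Spec (CommRingCat.of S)) :
    ∃ Ψ : S ≃+* R, Spec.map (CommRingCat.ofHom (Ψ : S →+* R)) = n.hom := by
  obtain ⟨u, hu⟩ := Spec.map_surjective n.hom
  obtain ⟨v, hv⟩ := Spec.map_surjective n.inv
  have h1 : u ≫ v = 𝟙 _ := by
    apply Spec.map_injective
    rw [Spec.map_comp, hu, hv, Iso.inv_hom_id, Spec.map_id]
  have h2 : v ≫ u = 𝟙 _ := by
    apply Spec.map_injective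
    rw [Spec.map_comp, hu, hv, Iso.hom_inv_id, Spec.map_id]
  refine ⟨RingEquiv.ofRingHom u.hom v.hom ?_ ?_, ?_⟩
  · exact congrArg CommRingCat.Hom.hom h2
  · exact congrArg CommRingCat.Hom.hom h1
  · rw [← hu]
    rfl

end Ring

section Sch

variable {k : Type u} [Field k] {B₀ : Type u} [CommRing B₀] [Algebra k B₀]

theorem affineData' (A : ArtFun.Art k k)
    (ξ : ArtFun.DefSch (Spec (CommRingCat.of B₀))
      (Spec.map (CommRingCat.ofHom (algebraMap k B₀))) A) :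
    ∃ (B : Type u) (_ : CommRing B) (_ : Algebra A B)
      (φ : ξ.total ≅ Spec (CommRingCat.of B)) (ι₀ : B →+* B₀),
      ξ.f = φ.hom ≫ Spec.map (CommRingCat.ofHom (algebraMap A B)) ∧
      ξ.i ≫ φ.hom = Spec.map (CommRingCat.ofHom ι₀) ∧
      Module.Flat A B ∧ Function.Surjective ι₀ ∧
      RingHom.ker ι₀ = Ideal.map (algebraMap A B) (RingHom.ker A.res) ∧
      ∀ a, ι₀ (algebraMap A B a) = algebraMap k B₀ (A.res a) := by
  obtain ⟨B, AB, ι', φ, hg, hi, hfl, hιs, hker, hcomp⟩ :=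
    T2Lift.affineData k B₀ A A.res ξ.total ξ.f ξ.i ξ.isPullback
  exact ⟨B, inferInstance, AB.hom.toAlgebra, φ, ι'.hom, hg, hi, hfl, hιs, hker, hcomp⟩

variable {C' C : ArtFun.Art k k} (p : C' ⟶ C)
  {𝒳 : ArtFun.DefSch (Spec (CommRingCat.of B₀))
    (Spec.map (CommRingCat.ofHom (algebraMap k B₀))) C}
  {B : Type u} [CommRing B] [Algebra C B] (φ : 𝒳.total ≅ Spec (CommRingCat.of B))

/-- the extensions of the deformation `𝒳` along `p` -/
abbrev Ext (p : C' ⟶ C)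
    (𝒳 : ArtFun.DefSch (Spec (CommRingCat.of B₀))
      (Spec.map (CommRingCat.ofHom (algebraMap k B₀))) C) : Type (u + 1) :=
  Σ 𝒳' : ArtFun.DefSch (Spec (CommRingCat.of B₀))
    (Spec.map (CommRingCat.ofHom (algebraMap k B₀))) C', (𝒳'.baseChange p).Iso 𝒳

/-- `α : B' → B` is an algebraic model of the extension `a` -/
def HasAlg (a : Ext p 𝒳) {B' : Type u} [CommRing B'] [Algebra C' B'] (α : B' →+* B) : Prop :=
  ∃ φ' : a.1.total ≅ Spec (CommRingCat.of B'),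
    a.1.f = φ'.hom ≫ Spec.map (CommRingCat.ofHom (algebraMap C' B')) ∧
    φ.inv ≫ a.2.iso.inv ≫ pullback.fst a.1.f (ArtFun.Art.specMap p) ≫ φ'.hom =
      Spec.map (CommRingCat.ofHom α)

theorem hasAlg_exists (a : Ext p 𝒳) :
    ∃ (B' : Type u) (_ : CommRing B') (_ : Algebra C' B') (α : B' →+* B), HasAlg p φ a α := by
  obtain ⟨B', _, _, φ', ι', hg', -, -, -, -, -⟩ := affineData' C' a.1
  obtain ⟨αc, hαc⟩ := Spec.map_surjective
    (φ.inv ≫ a.2.iso.inv ≫ pullback.fst a.1.f (ArtFun.Art.specMap p) ≫ φ'.hom)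
  exact ⟨B', inferInstance, inferInstance, αc.hom, φ', hg', hαc.symm⟩

theorem isExt_of_hasAlg (hp : Function.Surjective p.toAlgHom)
    (hg : 𝒳.f = φ.hom ≫ Spec.map (CommRingCat.ofHom (algebraMap C B)))
    (a : Ext p 𝒳) {B' : Type u} [CommRing B'] [Algebra C' B'] {α : B' →+* B}
    (h : HasAlg p φ a α) : Module.Flat C' B' ∧ IsExt p.toAlgHom α := by
  obtain ⟨φ', hg', hm⟩ := h
  have hsq : IsPullback (Spec.map (CommRingCat.ofHom α))
      (Spec.map (CommRingCat.ofHom (algebraMap C B)))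
      (Spec.map (CommRingCat.ofHom (algebraMap C' B')))
      (Spec.map (CommRingCat.ofHom p.toAlgHom.toRingHom)) :=
    abs_square a.1.f (ArtFun.Art.specMap p) 𝒳.f a.2.iso a.2.hom_f φ _ hg φ' _ hg' _ hm
  have hcomp : ∀ c, α (algebraMap C' B' c) = algebraMap C B (p.toAlgHom c) := by
    have hw := hsq.w
    rw [← Spec.map_comp, ← Spec.map_comp] at hw
    have hw' := Spec.map_injective hw
    intro c
    exact congrArg (fun m => m.hom c) hw'
  constructor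
  · have h1 : Flat (Spec.map (CommRingCat.ofHom (algebraMap C' B'))) := by
      have h2 : Spec.map (CommRingCat.ofHom (algebraMap C' B')) = φ'.inv ≫ a.1.f := by
        rw [hg', Iso.inv_hom_id_assoc]
      rw [h2]
      infer_instance
    exact RingHom.flat_algebraMap_iff.mp (Flat.SpecMap_iff.mp h1)
  · refine ⟨?_, hcomp, ?_⟩
    · haveI : IsClosedImmersion (Spec.map (CommRingCat.ofHom p.toAlgHom.toRingHom)) :=
        IsClosedImmersion.spec_of_surjective _ hp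
      haveI : IsClosedImmersion (Spec.map (CommRingCat.ofHom α)) :=
        MorphismProperty.of_isPullback (P := @IsClosedImmersion) hsq.flip inferInstance
      exact surjective_of_isClosedImmersion_SpecMap (CommRingCat.ofHom α)
    · apply le_antisymm
      · obtain ⟨J, hJ⟩ : ∃ J : Ideal B',
            J = Ideal.map (algebraMap C' B') (RingHom.ker p.toAlgHom) := ⟨_, rfl⟩
        rw [← hJ]
        have hle : RingHom.ker p.toAlgHom.toRingHom ≤
            RingHom.ker ((Ideal.Quotient.mk J).comp (algebraMap C' B')) := by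
          intro j hj
          rw [RingHom.mem_ker, RingHom.comp_apply, Ideal.Quotient.eq_zero_iff_mem, hJ]
          exact Ideal.mem_map_of_mem _ hj
        refine RigidDef.ker_le_of_isPullback (CommRingCat.ofHom (algebraMap C' B'))
          (CommRingCat.ofHom p.toAlgHom.toRingHom) (CommRingCat.ofHom (algebraMap C B))
          (CommRingCat.ofHom α) hsq J
          (CommRingCat.ofHom (RingHom.liftOfSurjective p.toAlgHom.toRingHom hp ⟨_, hle⟩)) ?_
        ext c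
        show Ideal.Quotient.mk J (algebraMap C' B' c) =
          RingHom.liftOfSurjective p.toAlgHom.toRingHom hp ⟨_, hle⟩ (p.toAlgHom.toRingHom c)
        exact (RingHom.liftOfSurjective_comp_apply p.toAlgHom.toRingHom hp ⟨_, hle⟩ c).symm
      · rw [Ideal.map_le_iff_le_comap]
        intro j hj
        rw [Ideal.mem_comap, RingHom.mem_ker, hcomp, RingHom.mem_ker.mp hj, map_zero]

theorem equiv_of_iso (a b : Ext p 𝒳) {Ba : Type u} [CommRing Ba] [Algebra C' Ba]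
    {αa : Ba →+* B} {Bb : Type u} [CommRing Bb] [Algebra C' Bb] {αb : Bb →+* B}
    (ha : HasAlg p φ a αa) (hb : HasAlg p φ b αb) (ψ₀ : a.1.total ≅ b.1.total)
    (hψf : ψ₀.hom ≫ b.1.f = a.1.f)
    (hψθ : a.2.iso.inv ≫ pullback.fst a.1.f (ArtFun.Art.specMap p) ≫ ψ₀.hom =
      b.2.iso.inv ≫ pullback.fst b.1.f (ArtFun.Art.specMap p)) :
    ∃ Ψ : Ba ≃+* Bb, (∀ c, Ψ (algebraMap C' Ba c) = algebraMap C' Bb c) ∧
      ∀ y, αb (Ψ y) = αa y := by
  obtain ⟨φa, hga, hma⟩ := ha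
  obtain ⟨φb, hgb, hmb⟩ := hb
  have key := abs_equiv a.1.f b.1.f (ArtFun.Art.specMap p) a.2.iso b.2.iso φ φa φb _ _ _ _
    hga hgb hma hmb ψ₀ hψf hψθ
  obtain ⟨n, hn⟩ : ∃ n : Spec (CommRingCat.of Ba) ≅ Spec (CommRingCat.of Bb),
      n = φa.symm ≪≫ ψ₀ ≪≫ φb := ⟨_, rfl⟩
  rw [← hn] at key
  obtain ⟨Ψ, hΨ⟩ := ringEquiv_of_specIso n.symm
  have k1 : Spec.map (CommRingCat.ofHom (Ψ : Ba →+* Bb)) ≫
      Spec.map (CommRingCat.ofHom (algebraMap C' Ba)) =
      Spec.map (CommRingCat.ofHom (algebraMap C' Bb)) := by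
    rw [hΨ, Iso.symm_hom, ← key.1, Iso.inv_hom_id_assoc]
  have k2 : Spec.map (CommRingCat.ofHom αb) ≫ Spec.map (CommRingCat.ofHom (Ψ : Ba →+* Bb)) =
      Spec.map (CommRingCat.ofHom αa) := by
    rw [hΨ, Iso.symm_hom, ← key.2, Category.assoc, Iso.hom_inv_id, Category.comp_id]
  rw [← Spec.map_comp] at k1 k2
  have k1' := Spec.map_injective k1
  have k2' := Spec.map_injective k2
  exact ⟨Ψ, fun c => congrArg (fun m => m.hom c) k1', fun y => congrArg (fun m => m.hom y) k2'⟩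

theorem equiv_of_rel (a b : Ext p 𝒳) {Ba : Type u} [CommRing Ba] [Algebra C' Ba]
    {αa : Ba →+* B} {Bb : Type u} [CommRing Bb] [Algebra C' Bb] {αb : Bb →+* B}
    (ha : HasAlg p φ a αa) (hb : HasAlg p φ b αb) (ψ : a.1.Iso b.1)
    (heq : ((ψ.baseChange p).trans b.2).iso = a.2.iso) :
    ∃ Ψ : Ba ≃+* Bb, (∀ c, Ψ (algebraMap C' Ba c) = algebraMap C' Bb c) ∧
      ∀ y, αb (Ψ y) = αa y := by
  refine equiv_of_iso p φ a b ha hb ψ.iso ψ.hom_f ?_
  have h1 : a.2.iso.inv = b.2.iso.inv ≫ (ψ.baseChange p).iso.inv := by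
    rw [← heq]
    rfl
  have h2 : (ψ.baseChange p).iso.inv ≫ pullback.fst a.1.f (ArtFun.Art.specMap p) =
      pullback.fst b.1.f (ArtFun.Art.specMap p) ≫ ψ.iso.inv :=
    ArtFun.DefSch.pullMap_fst ψ.iso.inv ψ.symm.hom_f p
  rw [h1, Category.assoc, ← Category.assoc (ψ.baseChange p).iso.inv, h2, Category.assoc,
    Iso.inv_hom_id, Category.comp_id]

theorem rel_of_equiv (a b : Ext p 𝒳) {Ba : Type u} [CommRing Ba] [Algebra C' Ba]
    {αa : Ba →+* B} {Bb : Type u} [CommRing Bb] [Algebra C' Bb] {αb : Bb →+* B}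
    (ha : HasAlg p φ a αa) (hb : HasAlg p φ b αb) (Ψ : Ba ≃+* Bb)
    (hΨC : ∀ c, Ψ (algebraMap C' Ba c) = algebraMap C' Bb c) (hΨα : ∀ y, αb (Ψ y) = αa y) :
    ∃ ψ : a.1.Iso b.1, ((ψ.baseChange p).trans b.2).iso = a.2.iso := by
  obtain ⟨φa, hga, hma⟩ := ha
  obtain ⟨φb, hgb, hmb⟩ := hb
  have e1 : (Ψ.symm : Bb →+* Ba).comp (Ψ : Ba →+* Bb) = RingHom.id Ba :=
    RingHom.ext fun y => Ψ.symm_apply_apply y
  have e2 : (Ψ : Ba →+* Bb).comp (Ψ.symm : Bb →+* Ba) = RingHom.id Bb :=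
    RingHom.ext fun y => Ψ.apply_symm_apply y
  obtain ⟨w, hw⟩ : ∃ w : Spec (CommRingCat.of Ba) ≅ Spec (CommRingCat.of Bb),
      w.hom = Spec.map (CommRingCat.ofHom (Ψ.symm : Bb →+* Ba)) := by
    refine ⟨⟨Spec.map (CommRingCat.ofHom (Ψ.symm : Bb →+* Ba)),
      Spec.map (CommRingCat.ofHom (Ψ : Ba →+* Bb)), ?_, ?_⟩, rfl⟩
    · rw [← Spec.map_comp, ← CommRingCat.ofHom_comp, e1, CommRingCat.ofHom_id, Spec.map_id]
    · rw [← Spec.map_comp, ← CommRingCat.ofHom_comp, e2, CommRingCat.ofHom_id, Spec.map_id]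
  have hwg : w.hom ≫ Spec.map (CommRingCat.ofHom (algebraMap C' Bb)) =
      Spec.map (CommRingCat.ofHom (algebraMap C' Ba)) := by
    rw [hw, ← Spec.map_comp, ← CommRingCat.ofHom_comp]
    congr 2
    ext c
    show Ψ.symm (algebraMap C' Bb c) = algebraMap C' Ba c
    rw [← hΨC, Ψ.symm_apply_apply]
  have hwm : Spec.map (CommRingCat.ofHom αa) ≫ w.hom = Spec.map (CommRingCat.ofHom αb) := by
    rw [hw, ← Spec.map_comp, ← CommRingCat.ofHom_comp]
    congr 2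
    ext y
    show αa (Ψ.symm y) = αb y
    rw [← hΨα, Ψ.apply_symm_apply]
  obtain ⟨ψ₀, h1, h2, h3⟩ := abs_iso a.1.f b.1.f (ArtFun.Art.specMap p) a.2.iso b.2.iso φ φa
    φb _ _ _ _ hga hgb hma hmb 𝒳.f a.2.hom_f b.2.hom_f 𝒳.i a.1.i b.1.i
    (a.1.baseChange p).i (b.1.baseChange p).i a.2.i_hom
    (ArtFun.DefSch.baseChange_i_fst a.1 p) b.2.i_hom (ArtFun.DefSch.baseChange_i_fst b.1 p)
    w hwg hwm
  refine ⟨⟨ψ₀, h1, h2⟩, ?_⟩
  apply Iso.ext
  exact h3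

end Sch

end Groth.Agent.Helper3.T1Tors
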