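import Mathlib
import Groth.Prelude.Def_ArtFun4
import Groth.Agent.Lib.Helper3.T1Tors6
import Groth.Agent.Lib.Helper3.NodeB

/-! The node `xy = 0`: the fibre of `Def(k[T]/T³) → Def(k[ε])` over `xy = ε` is a point, and
`xy = ε` is not the trivial deformation (helper3). -/

set_option autoImplicit false
set_option linter.style.haveILetI false
set_option linter.unusedSectionVars false
universe u

namespace Groth.Agent.Helper3.Node

open MvPolynomial CategoryTheory CategoryTheory.Limits AlgebraicGeometry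

section Gen

variable {k : Type u} [Field k] {B₀ : Type u} [CommRing B₀] [Algebra k B₀]

theorem hasAlg_of_model {C' C : ArtFun.Art k k} (p : C' ⟶ C)
    {𝒳 : ArtFun.DefSch (Spec (CommRingCat.of B₀))
      (Spec.map (CommRingCat.ofHom (algebraMap k B₀))) C}
    {B : Type u} [CommRing B] [Algebra C B] (φ : 𝒳.total ≅ Spec (CommRingCat.of B))
    (ι₀ : B →+* B₀) (hi : 𝒳.i ≫ φ.hom = Spec.map (CommRingCat.ofHom ι₀))
    (a : T1Tors.Ext p 𝒳) {B' : Type u} [CommRing B'] [Algebra C' B']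
    (φ' : a.1.total ≅ Spec (CommRingCat.of B')) (ι₀' : B' →+* B₀)
    (hg' : a.1.f = φ'.hom ≫ Spec.map (CommRingCat.ofHom (algebraMap C' B')))
    (hi' : a.1.i ≫ φ'.hom = Spec.map (CommRingCat.ofHom ι₀')) :
    ∃ α : B' →+* B, T1Tors.HasAlg p φ a α ∧ ∀ b, ι₀ (α b) = ι₀' b := by
  obtain ⟨αc, hαc⟩ := Spec.map_surjective
    (φ.inv ≫ a.2.iso.inv ≫ pullback.fst a.1.f (ArtFun.Art.specMap p) ≫ φ'.hom)
  refine ⟨αc.hom, ⟨φ', hg', hαc.symm⟩, ?_⟩
  have h1 : 𝒳.i ≫ a.2.iso.inv = (a.1.baseChange p).i := by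
    rw [← a.2.i_hom, Category.assoc, Iso.hom_inv_id, Category.comp_id]
  have h2 : Spec.map (CommRingCat.ofHom ι₀) ≫ Spec.map αc =
      Spec.map (CommRingCat.ofHom ι₀') := by
    rw [hαc, ← hi, Category.assoc, Iso.hom_inv_id_assoc, ← Category.assoc, h1,
      ← Category.assoc, ArtFun.DefSch.baseChange_i_fst, hi']
  rw [← Spec.map_comp] at h2
  have h3 := Spec.map_injective h2
  intro b
  exact congrArg (fun m => m.hom b) h3

theorem iso_of_ringEquiv {C' : ArtFun.Art k k}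
    (𝒳' 𝒴 : ArtFun.DefSch (Spec (CommRingCat.of B₀))
      (Spec.map (CommRingCat.ofHom (algebraMap k B₀))) C')
    {B' : Type u} [CommRing B'] [Algebra C' B'] (φ' : 𝒳'.total ≅ Spec (CommRingCat.of B'))
    (ι' : B' →+* B₀)
    (hg' : 𝒳'.f = φ'.hom ≫ Spec.map (CommRingCat.ofHom (algebraMap C' B')))
    (hi' : 𝒳'.i ≫ φ'.hom = Spec.map (CommRingCat.ofHom ι'))
    {B'' : Type u} [CommRing B''] [Algebra C' B'']
    (φ'' : 𝒴.total ≅ Spec (CommRingCat.of B'')) (ι'' : B'' →+* B₀)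
    (hg'' : 𝒴.f = φ''.hom ≫ Spec.map (CommRingCat.ofHom (algebraMap C' B'')))
    (hi'' : 𝒴.i ≫ φ''.hom = Spec.map (CommRingCat.ofHom ι''))
    (Ψ : B'' ≃+* B') (hΨC : ∀ c, Ψ (algebraMap C' B'' c) = algebraMap C' B' c)
    (hΨι : ∀ b, ι' (Ψ b) = ι'' b) : Nonempty (𝒳'.Iso 𝒴) := by
  have e1 : (Ψ.symm : B' →+* B'').comp (Ψ : B'' →+* B') = RingHom.id B'' :=
    RingHom.ext fun y => Ψ.symm_apply_apply y
  have e2 : (Ψ : B'' →+* B').comp (Ψ.symm : B' →+* B'') = RingHom.id B' :=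
    RingHom.ext fun y => Ψ.apply_symm_apply y
  obtain ⟨w, hw⟩ : ∃ w : Spec (CommRingCat.of B') ≅ Spec (CommRingCat.of B''),
      w.hom = Spec.map (CommRingCat.ofHom (Ψ : B'' →+* B')) := by
    refine ⟨⟨Spec.map (CommRingCat.ofHom (Ψ : B'' →+* B')),
      Spec.map (CommRingCat.ofHom (Ψ.symm : B' →+* B'')), ?_, ?_⟩, rfl⟩
    · rw [← Spec.map_comp, ← CommRingCat.ofHom_comp, e2, CommRingCat.ofHom_id, Spec.map_id]
    · rw [← Spec.map_comp, ← CommRingCat.ofHom_comp, e1, CommRingCat.ofHom_id, Spec.map_id]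
  have hwg : w.hom ≫ Spec.map (CommRingCat.ofHom (algebraMap C' B'')) =
      Spec.map (CommRingCat.ofHom (algebraMap C' B')) := by
    rw [hw, ← Spec.map_comp, ← CommRingCat.ofHom_comp]
    congr 2
    ext c
    show Ψ (algebraMap C' B'' c) = algebraMap C' B' c
    exact hΨC c
  have hwi : Spec.map (CommRingCat.ofHom ι') ≫ w.hom = Spec.map (CommRingCat.ofHom ι'') := by
    rw [hw, ← Spec.map_comp, ← CommRingCat.ofHom_comp]
    congr 2
    ext b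
    show ι' (Ψ b) = ι'' b
    exact hΨι b
  refine ⟨⟨φ' ≪≫ w ≪≫ φ''.symm, ?_, ?_⟩⟩
  · rw [Iso.trans_hom, Iso.trans_hom, Iso.symm_hom, Category.assoc, Category.assoc, hg'',
      Iso.inv_hom_id_assoc, hwg, hg']
  · rw [Iso.trans_hom, Iso.trans_hom, Iso.symm_hom, ← Category.assoc, hi', ← Category.assoc,
      hwi, ← hi'', Category.assoc, Iso.hom_inv_id, Category.comp_id]

theorem retraction_alg {C : ArtFun.Art k k}
    (𝒳 : ArtFun.DefSch (Spec (CommRingCat.of B₀))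
      (Spec.map (CommRingCat.ofHom (algebraMap k B₀))) C)
    {B : Type u} [CommRing B] (φ : 𝒳.total ≅ Spec (CommRingCat.of B))
    (ι₀ : B →+* B₀) (hi : 𝒳.i ≫ φ.hom = Spec.map (CommRingCat.ofHom ι₀))
    (r : 𝒳.total ⟶ Spec (CommRingCat.of B₀)) (hr : 𝒳.i ≫ r = 𝟙 _) :
    ∃ ρ : B₀ →+* B, ∀ b, ι₀ (ρ b) = b := by
  obtain ⟨ρc, hρc⟩ := Spec.map_surjective (φ.inv ≫ r)
  refine ⟨ρc.hom, ?_⟩
  have h2 : Spec.map (CommRingCat.ofHom ι₀) ≫ Spec.map ρc =
      Spec.map (𝟙 (CommRingCat.of B₀)) := by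
    rw [hρc, ← hi, Category.assoc, Iso.hom_inv_id_assoc, hr, Spec.map_id]
  rw [← Spec.map_comp] at h2
  have h3 := Spec.map_injective h2
  intro b
  exact congrArg (fun m => m.hom b) h3

end Gen

section Node

variable (k : Type u) [Field k] [IsAlgClosed k]

theorem fibre_singleton
    (𝒳' : ArtFun.DefSch (Spec (CommRingCat.of (B0 k)))
      (Spec.map (CommRingCat.ofHom (algebraMap k (B0 k)))) (A3obj k))
    (θ : (𝒳'.baseChange (p3 k)).Iso ((X3 k).baseChange (p3 k))) :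
    Nonempty (𝒳'.Iso (X3 k)) := by
  obtain ⟨B, _, _, φ, ι₀, hg, hi, hfl, hιs, hker, hcomp⟩ :=
    T1Tors.affineData' (D2obj k) ((X3 k).baseChange (p3 k))
  obtain ⟨α₃, hα₃, hια₃⟩ := hasAlg_of_model (p3 k) φ ι₀ hi
    (⟨X3 k, ArtFun.DefSch.Iso.refl _⟩ : T1Tors.Ext (p3 k) ((X3 k).baseChange (p3 k)))
    (B' := B3 k) (Iso.refl _) (ι3 k) (Category.id_comp _).symm (Category.comp_id _)
  obtain ⟨-, hext₃⟩ := T1Tors.isExt_of_hasAlg (p3 k) φ (p3_surjective k) hg _ hα₃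
  obtain ⟨B', _, _, φ', ι₀', hg', hi', hfl', hιs', hker', hcomp'⟩ :=
    T1Tors.affineData' (A3obj k) 𝒳'
  obtain ⟨α', hα', hια'⟩ := hasAlg_of_model (p3 k) φ ι₀ hi
    (⟨𝒳', θ⟩ : T1Tors.Ext (p3 k) ((X3 k).baseChange (p3 k))) φ' ι₀' hg' hi'
  obtain ⟨-, hext'⟩ := T1Tors.isExt_of_hasAlg (p3 k) φ (p3_surjective k) hg _ hα'
  haveI := hfl'
  obtain ⟨x', hx'⟩ := hext'.surj (α₃ (Ideal.Quotient.mk _ (X 0)))
  obtain ⟨y', hy'⟩ := hext'.surj (α₃ (Ideal.Quotient.mk _ (X 1)))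
  have h1 : x' * y' - algebraMap (A3obj k) B' (T3 k) ∈ RingHom.ker α' := by
    rw [RingHom.mem_ker, map_sub, map_mul, hx', hy', hext'.comp, ← map_mul, ← map_mul,
      ← algA3B3_T3, hext₃.comp, sub_self]
  rw [hext'.ker] at h1
  have h2 := Ideal.map_mono (f := algebraMap (A3obj k) B') (ker_p3_le k) h1
  rw [Ideal.map_span, Set.image_singleton] at h2
  obtain ⟨c, hc⟩ := Ideal.mem_span_singleton'.mp h2
  have hxy : x' * y' = algebraMap (A3obj k) B' (T3 k) +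
      algebraMap (A3obj k) B' (T3 k ^ 2) * c := by
    rw [mul_comm _ c, hc]
    ring
  have hx'' : ι₀' x' = ι3 k (Ideal.Quotient.mk _ (X 0)) := by rw [← hια', hx', hια₃]
  have hy'' : ι₀' y' = ι3 k (Ideal.Quotient.mk _ (X 1)) := by rw [← hια', hy', hια₃]
  obtain ⟨Ψ, hΨA, hΨι⟩ := key (T3 k) (res3 k) (J3 k) (ι3 k) ι₀' (T3_pow k) (res3_T3 k)
    (hres3 k) (J3_eq k) (algA3B3_k k) (algA3B3_T3 k) (ι3_C k) (ι3_surjective k) (ker_ι3 k)
    hιs' hker' hcomp' x' y' c hx'' hy'' hxy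
  exact iso_of_ringEquiv 𝒳' (X3 k) φ' ι₀' hg' hi' (B'' := B3 k) (Iso.refl _) (ι3 k)
    (Category.id_comp _).symm (Category.comp_id _) Ψ hΨA hΨι

theorem no_retraction
    (r : ((X3 k).baseChange (p3 k)).total ⟶ Spec (CommRingCat.of (B0 k)))
    (hr : ((X3 k).baseChange (p3 k)).i ≫ r = 𝟙 _) : False := by
  obtain ⟨B, _, _, φ, ι₀, hg, hi, hfl, hιs, hker, hcomp⟩ :=
    T1Tors.affineData' (D2obj k) ((X3 k).baseChange (p3 k))
  obtain ⟨α₃, hα₃, hια₃⟩ := hasAlg_of_model (p3 k) φ ι₀ hi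
    (⟨X3 k, ArtFun.DefSch.Iso.refl _⟩ : T1Tors.Ext (p3 k) ((X3 k).baseChange (p3 k)))
    (B' := B3 k) (Iso.refl _) (ι3 k) (Category.id_comp _).symm (Category.comp_id _)
  obtain ⟨-, hext₃⟩ := T1Tors.isExt_of_hasAlg (p3 k) φ (p3_surjective k) hg _ hα₃
  obtain ⟨ρ, hρ⟩ := retraction_alg _ φ ι₀ hi r hr
  haveI := hfl
  have hεker : ∀ b, ι₀ b = 0 →
      ∃ b', b = algebraMap (D2obj k) B (DualNumber.eps : DualNumber k) * b' := by
    intro b hb
    have h1 : b ∈ RingHom.ker ι₀ := RingHom.mem_ker.mpr hb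
    rw [hker] at h1
    have h2 := Ideal.map_mono (f := algebraMap (D2obj k) B) (ker_resD_le k) h1
    rw [Ideal.map_span, Set.image_singleton] at h2
    obtain ⟨b', rfl⟩ := Ideal.mem_span_singleton'.mp h2
    exact ⟨b', mul_comm _ _⟩
  have hι₀ε : ι₀ (algebraMap (D2obj k) B (DualNumber.eps : DualNumber k)) = 0 := by
    rw [hcomp]
    show algebraMap k (B0 k) (TrivSqZeroExt.fst (DualNumber.eps : DualNumber k)) = 0
    rw [DualNumber.fst_eps, map_zero]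
  have h2 : α₃ (Ideal.Quotient.mk _ (X 0)) * α₃ (Ideal.Quotient.mk _ (X 1)) =
      algebraMap (D2obj k) B (DualNumber.eps : DualNumber k) := by
    rw [← map_mul, ← map_mul, ← algA3B3_T3, hext₃.comp, p3_apply, pHom_T3]
  have hs : ρ (Ideal.Quotient.mk _ (X 0)) * ρ (Ideal.Quotient.mk _ (X 1)) = 0 := by
    rw [← map_mul, ← map_mul,
      Ideal.Quotient.eq_zero_iff_mem.mpr (Ideal.mem_span_singleton_self _), map_zero]
  have hx : ι₀ (ρ (Ideal.Quotient.mk _ (X 0))) = ι₀ (α₃ (Ideal.Quotient.mk _ (X 0))) := by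
    rw [hρ, hια₃, ι3_mk]
  have hy : ι₀ (ρ (Ideal.Quotient.mk _ (X 1))) = ι₀ (α₃ (Ideal.Quotient.mk _ (X 1))) := by
    rw [hρ, hια₃, ι3_mk]
  obtain ⟨a, b, hab⟩ := nontriv_alg (DualNumber.eps : DualNumber k) DualNumber.eps_mul_eps
    (hannD k) ι₀ hι₀ε hεker _ _ _ _ h2 hs hx hy
  rw [hια₃, hια₃, ι3_mk, ι3_mk] at hab
  have h3 := congrArg (ev0 k) hab
  rw [map_add, map_add, map_one, map_mul, map_mul, ev0_X, ev0_X, mul_zero, mul_zero, add_zero,
    add_zero, map_zero] at h3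
  exact one_ne_zero h3

theorem flat_x0 : Flat (Spec.map (CommRingCat.ofHom (algebraMap k (B0 k)))) :=
  Flat.SpecMap_iff.mpr (RingHom.flat_algebraMap_iff.mpr inferInstance)

theorem cl_ne : ((X3 k).baseChange (p3 k)).cl ≠
    (ArtFun.DefSch.trivial (Spec (CommRingCat.of (B0 k)))
      (Spec.map (CommRingCat.ofHom (algebraMap k (B0 k)))) (flat_x0 k) (D2obj k)).cl := by
  intro h
  obtain ⟨e⟩ := Quotient.exact h
  refine no_retraction k (e.iso.hom ≫ pullback.fst _ _) ?_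
  rw [← Category.assoc, e.i_hom]
  exact ArtFun.DefSch.baseChange_i_fst (ArtFun.DefSch.self _ _ (flat_x0 k))
    (ArtFun.Art.ofBase (D2obj k))

end Node

end Groth.Agent.Helper3.Node
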