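import Mathlib
import Groth.Prelude.Def_ArtFun4
import Groth.Prelude.Def_ArtFun2
import Groth.Agent.Lib.Helper3.NodeC

/-! The node `xy = 0`: its deformation functor is not pro-representable (helper3). -/

set_option autoImplicit false
set_option linter.style.haveILetI false
set_option linter.unusedSectionVars false
universe u

namespace Groth.Agent.Helper3.Node

open MvPolynomial CategoryTheory CategoryTheory.Limits AlgebraicGeometry

variable (k : Type u) [Field k] [IsAlgClosed k]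

theorem main {R : Type u} [CommRing R] [Algebra k R] (resR : R →ₐ[k] k)
    (ξ : ArtFun.Family R resR (ArtFun.defFunctor (Λ := k) (Spec (CommRingCat.of (B0 k)))
      (Spec.map (CommRingCat.ofHom (algebraMap k (B0 k))))))
    (hξ : ∀ A, Function.Bijective (ξ.app A)) : False := by
  obtain ⟨⟨f₁, hf₁⟩, hφ₁⟩ := (hξ (D2obj k)).2 ((X3 k).baseChange (p3 k)).cl
  obtain ⟨⟨f₂, hf₂⟩, hφ₂⟩ := (hξ (D2obj k)).2 (ArtFun.DefSch.trivial
      (Spec (CommRingCat.of (B0 k)))
      (Spec.map (CommRingCat.ofHom (algebraMap k (B0 k)))) (flat_x0 k) (D2obj k)).cl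
  obtain ⟨⟨ψf, hψf⟩, hψ⟩ := (hξ (A3obj k)).2 (X3 k).cl
  have hne : (⟨f₁, hf₁⟩ : ArtFun.HomSet R resR (D2obj k)) ≠ ⟨f₂, hf₂⟩ :=
    fun h => cl_ne k (by rw [← hφ₁, ← hφ₂, h])
  obtain ⟨d, hd⟩ : ∃ d : R → k, ∀ r, d r =
      TrivSqZeroExt.snd (f₁ r : DualNumber k) - TrivSqZeroExt.snd (f₂ r : DualNumber k) :=
    ⟨_, fun _ => rfl⟩
  have hfst₁ : ∀ r, TrivSqZeroExt.fst (f₁ r : DualNumber k) = resR r :=
    fun r => DFunLike.congr_fun hf₁ r
  have hfst₂ : ∀ r, TrivSqZeroExt.fst (f₂ r : DualNumber k) = resR r :=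
    fun r => DFunLike.congr_fun hf₂ r
  have hd0 : ∃ r₀, d r₀ ≠ 0 := by
    by_contra hcon
    push_neg at hcon
    apply hne
    apply Subtype.ext
    apply AlgHom.ext
    intro r
    show f₁ r = f₂ r
    exact TrivSqZeroExt.ext ((hfst₁ r).trans (hfst₂ r).symm)
      (sub_eq_zero.mp ((hd r).symm.trans (hcon r)))
  have hdadd : ∀ r s, d (r + s) = d r + d s := by
    intro r s
    rw [hd, hd, hd, map_add, map_add]
    show TrivSqZeroExt.snd ((f₁ r : DualNumber k) + (f₁ s : DualNumber k)) -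
      TrivSqZeroExt.snd ((f₂ r : DualNumber k) + (f₂ s : DualNumber k)) = _
    rw [TrivSqZeroExt.snd_add, TrivSqZeroExt.snd_add]
    ring
  have hdmul : ∀ r s, d (r * s) = resR r * d s + resR s * d r := by
    intro r s
    rw [hd, hd, hd, map_mul, map_mul]
    show TrivSqZeroExt.snd ((f₁ r : DualNumber k) * (f₁ s : DualNumber k)) -
      TrivSqZeroExt.snd ((f₂ r : DualNumber k) * (f₂ s : DualNumber k)) = _
    rw [dn_snd_mul, dn_snd_mul, hfst₁, hfst₁, hfst₂, hfst₂]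
    ring
  have hdalg : ∀ c, d (algebraMap k R c) = 0 := by
    intro c
    rw [hd, AlgHom.commutes, AlgHom.commutes, sub_self]
  have hd1 : d 1 = 0 := by
    have h := hdalg 1
    rwa [map_one] at h
  have hd00 : d 0 = 0 := by
    have h := hdalg 0
    rwa [map_zero] at h
  obtain ⟨ψg, hψg⟩ : ∃ ψg : R →ₐ[k] A3 k, ψg = ψf := ⟨_, rfl⟩
  have hresψ : ∀ r, res3 k (ψg r) = resR r := fun r => by
    rw [hψg]
    exact DFunLike.congr_fun hψf r
  have ht22 : T3 k ^ 2 * T3 k ^ 2 = 0 := by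
    have h : T3 k ^ 2 * T3 k ^ 2 = T3 k ^ 3 * T3 k := by ring
    rw [h, T3_pow, zero_mul]
  have hK : ∀ a : A3 k, a * T3 k ^ 2 = algebraMap k (A3 k) (res3 k a) * T3 k ^ 2 :=
    mul_sq (T3 k) (res3 k) (T3_pow k) (hres3 k)
  have hsm : ∀ (c : k) (z : A3 k), c • z = algebraMap k (A3 k) c * z :=
    fun c z => Algebra.smul_def c z
  let ψ' : R →ₐ[k] A3 k :=
    { toFun := fun r => ψg r + d r • T3 k ^ 2
      map_one' := by rw [map_one, hd1, zero_smul, add_zero]
      map_mul' := fun r s => by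
        rw [map_mul, hdmul, hsm, hsm, hsm]
        have e : (ψg r + algebraMap k (A3 k) (d r) * T3 k ^ 2) *
            (ψg s + algebraMap k (A3 k) (d s) * T3 k ^ 2) =
            ψg r * ψg s + algebraMap k (A3 k) (d s) * (ψg r * T3 k ^ 2) +
            algebraMap k (A3 k) (d r) * (ψg s * T3 k ^ 2) +
            algebraMap k (A3 k) (d r) * algebraMap k (A3 k) (d s) *
              (T3 k ^ 2 * T3 k ^ 2) := by ring
        rw [e, hK (ψg r), hK (ψg s), ht22, mul_zero, add_zero, hresψ, hresψ, map_add, map_mul,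
          map_mul]
        ring
      map_zero' := by rw [map_zero, hd00, zero_smul, add_zero]
      map_add' := fun r s => by
        rw [map_add, hdadd, add_smul]
        abel
      commutes' := fun c => by rw [AlgHom.commutes, hdalg, zero_smul, add_zero] }
  have hψ'app : ∀ r, ψ' r = ψg r + d r • T3 k ^ 2 := fun _ => rfl
  have hψ'res : (A3obj k).res.comp ψ' = resR := by
    apply AlgHom.ext
    intro r
    show res3 k (ψ' r) = resR r
    rw [hψ'app, map_add, map_smul, map_pow, res3_T3, zero_pow two_ne_zero, smul_zero, add_zero,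
      hresψ]
  have h1 : ArtFun.HomSet.map (p3 k) (⟨ψ', hψ'res⟩ : ArtFun.HomSet R resR (A3obj k)) =
      ArtFun.HomSet.map (p3 k) ⟨ψf, hψf⟩ := by
    apply Subtype.ext
    apply AlgHom.ext
    intro r
    show pHom k (ψ' r) = pHom k (ψf r)
    rw [hψ'app, map_add, map_smul, map_pow, pHom_T3, pow_two, DualNumber.eps_mul_eps, smul_zero,
      add_zero, hψg]
  have h2 : (ArtFun.defFunctor (Λ := k) (Spec (CommRingCat.of (B0 k)))
      (Spec.map (CommRingCat.ofHom (algebraMap k (B0 k))))).map (p3 k)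
        (ξ.app (A3obj k) ⟨ψ', hψ'res⟩) = ((X3 k).baseChange (p3 k)).cl := by
    rw [← ξ.natural, h1, ξ.natural, hψ]
    rfl
  obtain ⟨𝒳', h𝒳'⟩ := Quotient.exists_rep (ξ.app (A3obj k) ⟨ψ', hψ'res⟩)
  rw [← h𝒳'] at h2
  have h2' : (𝒳'.baseChange (p3 k)).cl = ((X3 k).baseChange (p3 k)).cl := h2
  obtain ⟨θ⟩ := Quotient.exact h2'
  obtain ⟨e⟩ := fibre_singleton k 𝒳' θ
  have h3 : ξ.app (A3obj k) ⟨ψ', hψ'res⟩ = ξ.app (A3obj k) ⟨ψf, hψf⟩ := by
    rw [hψ, ← h𝒳']
    exact Quotient.sound ⟨e⟩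
  have h4 := (hξ (A3obj k)).1 h3
  have h4' : ψ' = ψf := congrArg Subtype.val h4
  obtain ⟨r₀, hr₀⟩ := hd0
  have h5 : ψ' r₀ = ψg r₀ := by
    rw [h4', hψg]
  have h6 : d r₀ • T3 k ^ 2 = 0 := by
    rw [hψ'app] at h5
    exact add_left_cancel (a := ψg r₀) (by rw [h5, add_zero])
  have h7 : T3 k ^ 2 = 0 := by
    rw [← one_smul k (T3 k ^ 2), ← inv_mul_cancel₀ hr₀, mul_smul, h6, smul_zero]
  exact T3sq_ne k h7

end Groth.Agent.Helper3.Node
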