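import Mathlib
import Groth.Prelude.Def_CotT
import Groth.Agent.Lib.Helper3.T2Lift5

/-! Obstruction classes in `T²` of a presentation along a semismall extension: coefficientwise
functionals and the obstruction map (helper3). -/

set_option autoImplicit false
set_option linter.style.haveILetI false
set_option linter.unusedSectionVars false
universe u

namespace Groth.Agent.Helper3.Obs

open MvPolynomial TensorProduct
open Groth.Agent.Helper3.T2Lift

section T2cls

variable {k B₀ ι σ : Type u} [CommRing k] [CommRing B₀] [Algebra k B₀]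
  (P : Algebra.Presentation k B₀ ι σ)

theorem exists_L2 (hbar : CotT.relKer P →ₗ[P.toExtension.Ring] B₀)
    (htriv : ∀ (a b : CotT.relMod P)
      (hmem : CotT.jmap P a • b - CotT.jmap P b • a ∈ CotT.relKer P), hbar ⟨_, hmem⟩ = 0) :
    ∃ H : CotT.L2 P →ₗ[B₀] B₀, ∀ (b : B₀) (q : CotT.relKer P),
      H (Submodule.Quotient.mk (b ⊗ₜ[P.toExtension.Ring] q)) = b • hbar q := by
  have h1 : ∀ (y : CotT.relMod P) (_ : y ∈ CotT.trivRel P) (hmem : y ∈ CotT.relKer P),
      hbar ⟨y, hmem⟩ = 0 := by
    intro y hy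
    refine Submodule.span_induction
      (p := fun y _ => ∀ hmem : y ∈ CotT.relKer P, hbar ⟨y, hmem⟩ = 0) ?_ ?_ ?_ ?_ hy
    · rintro x ⟨a, b, rfl⟩ hmem
      exact htriv a b hmem
    · intro hmem
      have : (⟨0, hmem⟩ : CotT.relKer P) = 0 := rfl
      rw [this, map_zero]
    · intro x y hx hy ihx ihy hmem
      have hx' : x ∈ CotT.relKer P := CotT.trivRel_le_relKer P hx
      have hy' : y ∈ CotT.relKer P := CotT.trivRel_le_relKer P hy
      have : (⟨x + y, hmem⟩ : CotT.relKer P) = ⟨x, hx'⟩ + ⟨y, hy'⟩ := rfl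
      rw [this, map_add, ihx hx', ihy hy', add_zero]
    · intro r x hx ihx hmem
      have hx' : x ∈ CotT.relKer P := CotT.trivRel_le_relKer P hx
      have : (⟨r • x, hmem⟩ : CotT.relKer P) = r • ⟨x, hx'⟩ := rfl
      rw [this, map_smul, ihx hx', smul_zero]
  obtain ⟨lift0, hlift0⟩ : ∃ l : B₀ ⊗[P.toExtension.Ring] (CotT.relKer P) →ₗ[B₀] B₀,
      ∀ (b : B₀) (q : CotT.relKer P), l (b ⊗ₜ q) = b • hbar q :=
    ⟨LinearMap.liftBaseChange B₀ hbar, fun b q => LinearMap.liftBaseChange_tmul _ _ _ _⟩
  have hle : LinearMap.range ((CotT.trivRelKer P).subtype.baseChange B₀) ≤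
      LinearMap.ker lift0 := by
    rw [LinearMap.range_le_ker_iff]
    refine TensorProduct.AlgebraTensorModule.ext fun b t => ?_
    simp only [LinearMap.coe_comp, Function.comp_apply, LinearMap.baseChange_tmul,
      Submodule.coe_subtype, LinearMap.zero_apply]
    rw [hlift0]
    have ht : ((t : CotT.relKer P) : CotT.relMod P) ∈ CotT.trivRel P := t.2
    have h2 := h1 _ ht (t : CotT.relKer P).2
    have h3 : (⟨((t : CotT.relKer P) : CotT.relMod P), (t : CotT.relKer P).2⟩ :
        CotT.relKer P) = (t : CotT.relKer P) := rfl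
    rw [h3] at h2
    rw [h2, smul_zero]
  obtain ⟨H, hH⟩ : ∃ H : CotT.L2 P →ₗ[B₀] B₀, ∀ x, H (Submodule.Quotient.mk x) = lift0 x :=
    ⟨Submodule.liftQ _ lift0 hle, fun x => Submodule.liftQ_apply _ _ _⟩
  exact ⟨H, fun b q => by rw [hH, hlift0]⟩

theorem gbar_of_range (hbar : CotT.relKer P →ₗ[P.toExtension.Ring] B₀)
    (H : CotT.L2 P →ₗ[B₀] B₀)
    (hH : ∀ (b : B₀) (q : CotT.relKer P),
      H (Submodule.Quotient.mk (b ⊗ₜ[P.toExtension.Ring] q)) = b • hbar q)
    (h0 : H ∈ LinearMap.range (CotT.d2Star P B₀)) :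
    ∃ gbar : σ → B₀, ∀ q : CotT.relKer P,
      hbar q = (q : CotT.relMod P).sum
        (fun s r => algebraMap P.toExtension.Ring B₀ r * gbar s) := by
  obtain ⟨φ, hφ⟩ := h0
  rw [CotT.d2Star_apply] at hφ
  refine ⟨fun s => φ ((1 : B₀) ⊗ₜ[P.toExtension.Ring]
    (Finsupp.single s (1 : P.toExtension.Ring) : CotT.relMod P)), ?_⟩
  have key : ∀ x : CotT.relMod P, φ ((1 : B₀) ⊗ₜ[P.toExtension.Ring] x) =
      x.sum (fun s r => algebraMap P.toExtension.Ring B₀ r *
        φ ((1 : B₀) ⊗ₜ[P.toExtension.Ring]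
          (Finsupp.single s (1 : P.toExtension.Ring) : CotT.relMod P))) := by
    intro x
    induction x using Finsupp.induction_linear with
    | zero => simp
    | add x y hx hy =>
      rw [TensorProduct.tmul_add, map_add, hx, hy,
        Finsupp.sum_add_index' (by intro s; rw [map_zero, zero_mul])
          (by intro s r r'; rw [map_add, add_mul])]
    | single s r =>
      rw [Finsupp.sum_single_index (by rw [map_zero, zero_mul])]
      have h4 : (1 : B₀) ⊗ₜ[P.toExtension.Ring] (Finsupp.single s r : CotT.relMod P) =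
          algebraMap P.toExtension.Ring B₀ r • ((1 : B₀) ⊗ₜ[P.toExtension.Ring]
            (Finsupp.single s (1 : P.toExtension.Ring) : CotT.relMod P)) := by
        rw [TensorProduct.smul_tmul', smul_eq_mul, mul_one, ← Finsupp.smul_single_one s r,
          ← TensorProduct.smul_tmul, Algebra.smul_def, mul_one]
      rw [h4, map_smul, smul_eq_mul]
  intro q
  have h5 : hbar q = H (Submodule.Quotient.mk ((1 : B₀) ⊗ₜ[P.toExtension.Ring] q)) := by
    rw [hH, one_smul]
  rw [h5, ← hφ, LinearMap.comp_apply, CotT.d2_mk_tmul, key]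

theorem L2_ext (H₁ H₂ : CotT.L2 P →ₗ[B₀] B₀)
    (h : ∀ (b : B₀) (q : CotT.relKer P),
      H₁ (Submodule.Quotient.mk (b ⊗ₜ[P.toExtension.Ring] q)) =
        H₂ (Submodule.Quotient.mk (b ⊗ₜ[P.toExtension.Ring] q))) : H₁ = H₂ := by
  refine Submodule.linearMap_qext _ ?_
  refine TensorProduct.AlgebraTensorModule.ext fun b q => ?_
  exact h b q

end T2cls

section Lam

variable {k : Type u} [Field k] {ι : Type u} {A' : Type u} [CommRing A'] [Algebra k A']

/-- apply a linear functional to the coefficients of a polynomial -/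
noncomputable def Lam (l : A' →ₗ[k] k) (G : MvPolynomial ι A') : MvPolynomial ι k :=
  ∑ m ∈ G.support, monomial m (l (coeff m G))

theorem coeff_Lam (l : A' →ₗ[k] k) (G : MvPolynomial ι A') (m : ι →₀ ℕ) :
    coeff m (Lam l G) = l (coeff m G) := by
  classical
  unfold Lam
  rw [coeff_sum]
  simp only [coeff_monomial]
  rw [Finset.sum_ite_eq']
  split_ifs with h
  · rfl
  · rw [notMem_support_iff.mp h, map_zero]

theorem Lam_zero (l : A' →ₗ[k] k) : Lam l (0 : MvPolynomial ι A') = 0 := by
  ext m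
  rw [coeff_Lam, coeff_zero, coeff_zero, map_zero]

theorem Lam_add (l : A' →ₗ[k] k) (G H : MvPolynomial ι A') :
    Lam l (G + H) = Lam l G + Lam l H := by
  ext m
  rw [coeff_add, coeff_Lam, coeff_Lam, coeff_Lam, coeff_add, map_add]

theorem Lam_sub (l : A' →ₗ[k] k) (G H : MvPolynomial ι A') :
    Lam l (G - H) = Lam l G - Lam l H := by
  ext m
  rw [coeff_sub, coeff_Lam, coeff_Lam, coeff_Lam, coeff_sub, map_sub]

theorem Lam_sum {τ : Type*} (l : A' →ₗ[k] k) (t : Finset τ) (G : τ → MvPolynomial ι A') :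
    Lam l (∑ s ∈ t, G s) = ∑ s ∈ t, Lam l (G s) := by
  ext m
  rw [coeff_Lam, coeff_sum, coeff_sum, map_sum]
  exact Finset.sum_congr rfl fun s _ => (coeff_Lam l (G s) m).symm

theorem Lam_add_left (l l' : A' →ₗ[k] k) (G : MvPolynomial ι A') :
    Lam (l + l') G = Lam l G + Lam l' G := by
  ext m
  rw [coeff_add, coeff_Lam, coeff_Lam, coeff_Lam, LinearMap.add_apply]

theorem Lam_smul_left (c : k) (l : A' →ₗ[k] k) (G : MvPolynomial ι A') :
    Lam (c • l) G = C c * Lam l G := by
  ext m
  rw [coeff_C_mul, coeff_Lam, coeff_Lam, LinearMap.smul_apply, smul_eq_mul]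

end Lam

section Main

variable {k : Type u} [Field k] {ι σ : Type u} {B₀ : Type u} [CommRing B₀] [Algebra k B₀]
  (P : Algebra.Presentation k B₀ ι σ)
  {A : Type u} [CommRing A] [Algebra k A] (e : A →ₐ[k] k)
  {A' : Type u} [CommRing A'] [Algebra k A'] (e' : A' →ₐ[k] k)
  (p : A' →ₐ[k] A)

variable (hmK : ∀ a x : A', e' a = 0 → p x = 0 → a * x = 0)

include hmK in
theorem mul_eq_smul (a x : A') (hx : p x = 0) : a * x = e' a • x := by
  have h1 : e' (a - algebraMap k A' (e' a)) = 0 := by
    rw [map_sub, AlgHom.commutes]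
    exact sub_self _
  have h2 := hmK _ x h1 hx
  rw [Algebra.smul_def]
  linear_combination h2

include hmK in
theorem C_mul_eq_zero (a : A') (ha : e' a = 0) (G : MvPolynomial ι A')
    (hG : map (p : A' →+* A) G = 0) : (C a : MvPolynomial ι A') * G = 0 := by
  ext m
  rw [coeff_C_mul, coeff_zero]
  apply hmK a _ ha
  have h1 := congrArg (coeff m) hG
  rw [coeff_map, coeff_zero] at h1
  exact h1

include hmK in
theorem Lam_mul (l : A' →ₗ[k] k) (H G : MvPolynomial ι A')
    (hG : map (p : A' →+* A) G = 0) :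
    Lam l (H * G) = map (e' : A' →+* k) H * Lam l G := by
  classical
  have hc : ∀ m, p (coeff m G) = 0 := fun m => by
    have h1 := congrArg (coeff m) hG
    rw [coeff_map, coeff_zero] at h1
    exact h1
  ext m
  rw [coeff_Lam, coeff_mul, coeff_mul, map_sum]
  refine Finset.sum_congr rfl fun x _ => ?_
  rw [mul_eq_smul e' p hmK _ _ (hc x.2), map_smul, coeff_map, coeff_Lam, smul_eq_mul]
  rfl

variable (F' : σ → MvPolynomial ι A') (hF'e : ∀ s, map (e' : A' →+* k) (F' s) = P.relation s)

include hmK hF'e in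
theorem Lam_lc_ker (l : A' →ₗ[k] k) (κ : σ →₀ MvPolynomial ι A')
    (hκ : ∀ s, map (p : A' →+* A) (κ s) = 0) :
    Lam l (Finsupp.linearCombination (MvPolynomial ι A') F' κ) ∈ P.ker := by
  rw [Finsupp.linearCombination_apply, Finsupp.sum, Lam_sum]
  refine Ideal.sum_mem _ fun s _ => ?_
  rw [smul_eq_mul, mul_comm, Lam_mul e' p hmK l (F' s) (κ s) (hκ s), hF'e]
  exact Ideal.mul_mem_right _ _ (P.relation_mem_ker s)

variable (hp : Function.Surjective p) (hep : ∀ a, e (p a) = e' a)
  (F : σ → MvPolynomial ι A)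
  (hrelflat : ∀ ρ : σ →₀ MvPolynomial ι A,
    Finsupp.linearCombination (MvPolynomial ι A) F ρ = 0 →
    (∀ s, map (e : A →+* k) (ρ s) = 0) →
    ρ ∈ (RingHom.ker e) • (LinearMap.ker
      ((Finsupp.linearCombination (MvPolynomial ι A) F).restrictScalars A)))
  (hF'p : ∀ s, map (p : A' →+* A) (F' s) = F s)

include hmK hF'e hp hep hrelflat hF'p in
theorem Lam_lc_lift_zero (l : A' →ₗ[k] k) (δ : σ →₀ MvPolynomial ι A')
    (hδ1 : ∀ s, map (e' : A' →+* k) (δ s) = 0)
    (hδ2 : map (p : A' →+* A) (Finsupp.linearCombination (MvPolynomial ι A') F' δ) = 0) :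
    Lam l (Finsupp.linearCombination (MvPolynomial ι A') F' δ) ∈ P.ker := by
  have hps : Function.Surjective (map (p : A' →+* A) :
      MvPolynomial ι A' → MvPolynomial ι A) := MvPolynomial.map_surjective (p : A' →+* A) hp
  have hρ1 : Finsupp.linearCombination (MvPolynomial ι A) F
      (Finsupp.mapRange (map (p : A' →+* A)) (map_zero _) δ) = 0 := by
    rw [← lc_map (map (p : A' →+* A)) F' F hF'p]
    exact hδ2
  have hρ2 : ∀ s, map (e : A →+* k)
      ((Finsupp.mapRange (map (p : A' →+* A)) (map_zero _) δ) s) = 0 := fun s => by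
    rw [Finsupp.mapRange_apply, map_e_map_p e e' p hep, hδ1]
  have hρ := hrelflat _ hρ1 hρ2
  have claim : ∀ ρ₀ ∈ (RingHom.ker e) • (LinearMap.ker
      ((Finsupp.linearCombination (MvPolynomial ι A) F).restrictScalars A)),
      ∀ δ'' : σ →₀ MvPolynomial ι A',
        Finsupp.mapRange (map (p : A' →+* A)) (map_zero _) δ'' = ρ₀ →
        Lam l (Finsupp.linearCombination (MvPolynomial ι A') F' δ'') ∈ P.ker := by
    intro ρ₀ hρ₀
    refine Submodule.smul_induction_on hρ₀ ?_ ?_
    · intro μ hμ n hn δ'' hδ''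
      obtain ⟨μ', hμ'⟩ := hp μ
      obtain ⟨n', hn'⟩ := Finsupp.mapRange_surjective (map (p : A' →+* A)) (map_zero _) hps n
      have he'μ' : e' μ' = 0 := by
        rw [← hep, hμ']
        exact hμ
      obtain ⟨κ, hκdef⟩ : ∃ κ : σ →₀ MvPolynomial ι A',
          κ = δ'' - (C μ' : MvPolynomial ι A') • n' := ⟨_, rfl⟩
      have hκ : ∀ s, map (p : A' →+* A) (κ s) = 0 := by
        intro s
        have h1 := DFunLike.congr_fun hδ'' s
        have h2 := DFunLike.congr_fun hn' s
        rw [Finsupp.mapRange_apply] at h1 h2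
        rw [hκdef, Finsupp.sub_apply, Finsupp.smul_apply, map_sub, smul_eq_mul, map_mul, map_C,
          h1, h2, Finsupp.smul_apply, smul_eq_C_mul]
        have h3 : (p : A' →+* A) μ' = μ := hμ'
        rw [h3, sub_self]
      have h3 : Finsupp.linearCombination (MvPolynomial ι A') F' δ'' =
          Finsupp.linearCombination (MvPolynomial ι A') F' κ := by
        have h4 : δ'' = κ + (C μ' : MvPolynomial ι A') • n' := by rw [hκdef, sub_add_cancel]
        have h5 : map (p : A' →+* A)
            (Finsupp.linearCombination (MvPolynomial ι A') F' n') = 0 := by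
          rw [lc_map (map (p : A' →+* A)) F' F hF'p, hn']
          exact hn
        conv_lhs => rw [h4]
        rw [map_add, map_smul, smul_eq_mul, C_mul_eq_zero e' p hmK μ' he'μ' _ h5, add_zero]
      rw [h3]
      exact Lam_lc_ker P e' p hmK F' hF'e l κ hκ
    · intro x y hx hy δ'' hδ''
      obtain ⟨δ₁, hδ₁⟩ := Finsupp.mapRange_surjective (map (p : A' →+* A)) (map_zero _) hps x
      have hδ₂ : Finsupp.mapRange (map (p : A' →+* A)) (map_zero _) (δ'' - δ₁) = y := by
        have h1 : Finsupp.mapRange (map (p : A' →+* A)) (map_zero _) (δ'' - δ₁) =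
            Finsupp.mapRange (map (p : A' →+* A)) (map_zero _) δ'' -
              Finsupp.mapRange (map (p : A' →+* A)) (map_zero _) δ₁ := by
          ext s : 1
          simp only [Finsupp.mapRange_apply, Finsupp.sub_apply, map_sub]
        rw [h1, hδ'', hδ₁, add_sub_cancel_left]
      have h2 : δ'' = δ₁ + (δ'' - δ₁) := by abel
      rw [h2, map_add, Lam_add]
      exact Ideal.add_mem _ (hx δ₁ hδ₁) (hy _ hδ₂)
  exact claim _ hρ δ rfl

variable (hlift : ∀ q : σ →₀ MvPolynomial ι k,
    Finsupp.linearCombination (MvPolynomial ι k) P.relation q = 0 →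
    ∃ ρ : σ →₀ MvPolynomial ι A,
      Finsupp.mapRange (map (e : A →+* k)) (map_zero _) ρ = q ∧
        Finsupp.linearCombination (MvPolynomial ι A) F ρ = 0)

include hmK hF'e hp hep hrelflat hF'p hlift in
/-- the obstruction map: a `k`-linear map from functionals to `T²`, whose vanishing at `l` gives a
correction of the lifted relations modulo the kernel of `l` -/
theorem exists_obs :
    ∃ Φ : (A' →ₗ[k] k) →ₗ[k] CotT.T2 P B₀, ∀ l, Φ l = 0 →
      ∃ gbar : σ → B₀, ∀ ρ'' : σ →₀ MvPolynomial ι A',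
        map (p : A' →+* A) (Finsupp.linearCombination (MvPolynomial ι A') F' ρ'') = 0 →
        aeval P.val (Lam l (Finsupp.linearCombination (MvPolynomial ι A') F' ρ'')) =
          (Finsupp.mapRange (map (e' : A' →+* k)) (map_zero _) ρ'').sum
            (fun s r => aeval P.val r * gbar s) := by
  classical
  have hps : Function.Surjective (map (p : A' →+* A) :
      MvPolynomial ι A' → MvPolynomial ι A) := MvPolynomial.map_surjective (p : A' →+* A) hp
  have hE : ∀ q : CotT.relKer P, ∃ ρ' : σ →₀ MvPolynomial ι A',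
      Finsupp.mapRange (map (e' : A' →+* k)) (map_zero _) ρ' = (q : CotT.relMod P) ∧
      map (p : A' →+* A) (Finsupp.linearCombination (MvPolynomial ι A') F' ρ') = 0 := by
    intro q
    obtain ⟨ρ, hρ1, hρ2⟩ := hlift (q : CotT.relMod P) (LinearMap.mem_ker.mp q.2)
    obtain ⟨ρ', hρ'⟩ := Finsupp.mapRange_surjective (map (p : A' →+* A)) (map_zero _) hps ρ
    refine ⟨ρ', ?_, ?_⟩
    · rw [← hρ1, ← hρ']
      ext s : 1
      rw [Finsupp.mapRange_apply, Finsupp.mapRange_apply, Finsupp.mapRange_apply,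
        map_e_map_p e e' p hep]
    · rw [lc_map (map (p : A' →+* A)) F' F hF'p, hρ', hρ2]
  choose rho hrho1 hrho2 using hE
  have hU : ∀ (l : A' →ₗ[k] k) (q : CotT.relKer P) (ρ'' : σ →₀ MvPolynomial ι A'),
      Finsupp.mapRange (map (e' : A' →+* k)) (map_zero _) ρ'' = (q : CotT.relMod P) →
      map (p : A' →+* A) (Finsupp.linearCombination (MvPolynomial ι A') F' ρ'') = 0 →
      aeval P.val (Lam l (Finsupp.linearCombination (MvPolynomial ι A') F' ρ'')) =
        aeval P.val (Lam l (Finsupp.linearCombination (MvPolynomial ι A') F' (rho q))) := by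
    intro l q ρ'' h1 h2
    have hδ1 : ∀ s, map (e' : A' →+* k) ((ρ'' - rho q) s) = 0 := by
      intro s
      have a1 := DFunLike.congr_fun h1 s
      have a2 := DFunLike.congr_fun (hrho1 q) s
      rw [Finsupp.mapRange_apply] at a1 a2
      rw [Finsupp.sub_apply, map_sub, a1, a2, sub_self]
    have hδ2 : map (p : A' →+* A)
        (Finsupp.linearCombination (MvPolynomial ι A') F' (ρ'' - rho q)) = 0 := by
      rw [map_sub, map_sub, h2, hrho2 q, sub_self]
    have h3 := Lam_lc_lift_zero P e e' p hmK F' hF'e hp hep F hrelflat hF'p l _ hδ1 hδ2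
    rw [map_sub, Lam_sub, P.ker_eq_ker_aeval_val, RingHom.mem_ker, map_sub, sub_eq_zero] at h3
    exact h3
  have hlcrel : ∀ ρ' : σ →₀ MvPolynomial ι A',
      Finsupp.linearCombination (MvPolynomial ι k) P.relation
        (Finsupp.mapRange (map (e' : A' →+* k)) (map_zero _) ρ') =
      map (e' : A' →+* k) (Finsupp.linearCombination (MvPolynomial ι A') F' ρ') := fun ρ' =>
    (lc_map (map (e' : A' →+* k)) F' P.relation hF'e ρ').symm
  have hbex : ∀ l : A' →ₗ[k] k, ∃ hb : CotT.relKer P →ₗ[P.toExtension.Ring] B₀,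
      ∀ q, hb q = aeval P.val
        (Lam l (Finsupp.linearCombination (MvPolynomial ι A') F' (rho q))) := by
    intro l
    refine ⟨{ toFun := fun q => aeval P.val
                (Lam l (Finsupp.linearCombination (MvPolynomial ι A') F' (rho q)))
              map_add' := ?_
              map_smul' := ?_ }, fun q => rfl⟩
    · intro q₁ q₂
      have h1 : Finsupp.mapRange (map (e' : A' →+* k)) (map_zero _) (rho q₁ + rho q₂) =
          ((q₁ + q₂ : CotT.relKer P) : CotT.relMod P) := by
        rw [Finsupp.mapRange_add (map_add _), hrho1 q₁, hrho1 q₂]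
        rfl
      have h2 : map (p : A' →+* A)
          (Finsupp.linearCombination (MvPolynomial ι A') F' (rho q₁ + rho q₂)) = 0 := by
        rw [map_add, map_add, hrho2 q₁, hrho2 q₂, add_zero]
      show aeval P.val (Lam l (Finsupp.linearCombination (MvPolynomial ι A') F'
          (rho (q₁ + q₂)))) =
        aeval P.val (Lam l (Finsupp.linearCombination (MvPolynomial ι A') F' (rho q₁))) +
          aeval P.val (Lam l (Finsupp.linearCombination (MvPolynomial ι A') F' (rho q₂)))
      rw [← hU l (q₁ + q₂) _ h1 h2, map_add, Lam_add, map_add]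
    · intro g q
      obtain ⟨g', hg'⟩ : ∃ g' : MvPolynomial ι k, g' = g := ⟨g, rfl⟩
      have h1 : Finsupp.mapRange (map (e' : A' →+* k)) (map_zero _)
          (map (algebraMap k A') g' • rho q) = ((g • q : CotT.relKer P) : CotT.relMod P) := by
        ext s : 1
        have a1 := DFunLike.congr_fun (hrho1 q) s
        rw [Finsupp.mapRange_apply] at a1 ⊢
        rw [Finsupp.smul_apply, smul_eq_mul, map_mul, a1, map_e_map_algebraMap, hg']
        rfl
      have h2 : map (p : A' →+* A) (Finsupp.linearCombination (MvPolynomial ι A') F'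
          (map (algebraMap k A') g' • rho q)) = 0 := by
        rw [map_smul, smul_eq_mul, map_mul, hrho2 q, mul_zero]
      show aeval P.val (Lam l (Finsupp.linearCombination (MvPolynomial ι A') F'
          (rho (g • q)))) =
        (RingHom.id _ g) • aeval P.val
          (Lam l (Finsupp.linearCombination (MvPolynomial ι A') F' (rho q)))
      rw [← hU l (g • q) _ h1 h2, map_smul, smul_eq_mul, Lam_mul e' p hmK l _ _ (hrho2 q),
        map_e_map_algebraMap, map_mul, RingHom.id_apply, Algebra.smul_def,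
        CotT.algebraMap_toExtension, hg']
  choose hb hhb using hbex
  have htriv : ∀ (l : A' →ₗ[k] k) (a b : CotT.relMod P)
      (hmem : CotT.jmap P a • b - CotT.jmap P b • a ∈ CotT.relKer P),
      hb l ⟨_, hmem⟩ = 0 := by
    intro l a b hmem
    obtain ⟨a', ha'⟩ : ∃ a' : σ →₀ MvPolynomial ι A',
        a' = Finsupp.mapRange (map (algebraMap k A')) (map_zero _)
          (a : σ →₀ MvPolynomial ι k) := ⟨_, rfl⟩
    obtain ⟨b', hb'⟩ : ∃ b' : σ →₀ MvPolynomial ι A',
        b' = Finsupp.mapRange (map (algebraMap k A')) (map_zero _)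
          (b : σ →₀ MvPolynomial ι k) := ⟨_, rfl⟩
    have hae : Finsupp.mapRange (map (e' : A' →+* k)) (map_zero _) a' = a := by
      rw [ha', mapRange_map_e]
    have hbe : Finsupp.mapRange (map (e' : A' →+* k)) (map_zero _) b' = b := by
      rw [hb', mapRange_map_e]
    have hja : map (e' : A' →+* k) (Finsupp.linearCombination (MvPolynomial ι A') F' a') =
        CotT.jmap P a := by
      rw [← hlcrel, hae]
      rfl
    have hjb : map (e' : A' →+* k) (Finsupp.linearCombination (MvPolynomial ι A') F' b') =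
        CotT.jmap P b := by
      rw [← hlcrel, hbe]
      rfl
    have h1 : Finsupp.mapRange (map (e' : A' →+* k)) (map_zero _)
        (Finsupp.linearCombination (MvPolynomial ι A') F' a' • b' -
          Finsupp.linearCombination (MvPolynomial ι A') F' b' • a') =
        ((⟨_, hmem⟩ : CotT.relKer P) : CotT.relMod P) := by
      ext s : 1
      have a1 := DFunLike.congr_fun hae s
      have a2 := DFunLike.congr_fun hbe s
      rw [Finsupp.mapRange_apply] at a1 a2
      rw [Finsupp.mapRange_apply, Finsupp.sub_apply, Finsupp.smul_apply, Finsupp.smul_apply,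
        smul_eq_mul, smul_eq_mul, map_sub, map_mul, map_mul, hja, hjb, a1, a2]
      rfl
    have h2 : Finsupp.linearCombination (MvPolynomial ι A') F'
        (Finsupp.linearCombination (MvPolynomial ι A') F' a' • b' -
          Finsupp.linearCombination (MvPolynomial ι A') F' b' • a') = 0 := by
      rw [map_sub, map_smul, map_smul, smul_eq_mul, smul_eq_mul, mul_comm, sub_self]
    rw [hhb, ← hU l ⟨_, hmem⟩ _ h1 (by rw [h2, map_zero]), h2, Lam_zero, map_zero]
  have hHex : ∀ l, ∃ H : CotT.L2 P →ₗ[B₀] B₀, ∀ (b : B₀) (q : CotT.relKer P),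
      H (Submodule.Quotient.mk (b ⊗ₜ[P.toExtension.Ring] q)) = b • hb l q :=
    fun l => exists_L2 P (hb l) (htriv l)
  choose H hH using hHex
  have hHadd : ∀ l l', H (l + l') = H l + H l' := by
    intro l l'
    apply L2_ext P
    intro b q
    rw [LinearMap.add_apply, hH, hH, hH, hhb, hhb, hhb, Lam_add_left, map_add, smul_add]
  have hHsmul : ∀ (c : k) l, H (c • l) = c • H l := by
    intro c l
    apply L2_ext P
    intro b q
    rw [LinearMap.smul_apply, hH, hH, hhb, hhb, Lam_smul_left, map_mul, aeval_C, smul_eq_mul,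
      smul_eq_mul, Algebra.smul_def]
    ring
  refine ⟨{ toFun := fun l => (Submodule.Quotient.mk (H l) : CotT.T2 P B₀)
            map_add' := fun l l' => by rw [hHadd]; rfl
            map_smul' := fun c l => by rw [hHsmul]; rfl }, ?_⟩
  intro l hl
  have hl' : (Submodule.Quotient.mk (H l) : CotT.T2 P B₀) = 0 := hl
  rw [Submodule.Quotient.mk_eq_zero] at hl'
  obtain ⟨gbar, hgbar⟩ := gbar_of_range P (hb l) (H l) (hH l) hl'
  refine ⟨gbar, fun ρ'' hρ'' => ?_⟩
  have hq : (Finsupp.mapRange (map (e' : A' →+* k)) (map_zero _) ρ'' :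
      σ →₀ MvPolynomial ι k) ∈ CotT.relKer P := by
    show CotT.jmap P _ = 0
    have h1 := hlcrel ρ''
    rw [← map_e_map_p e e' p hep, hρ'', map_zero] at h1
    exact h1
  have h3 := hU l ⟨_, hq⟩ ρ'' rfl hρ''
  rw [h3, ← hhb, hgbar]
  apply Finsupp.sum_congr
  intro s _
  rw [CotT.algebraMap_toExtension]

end Main

end Groth.Agent.Helper3.Obs
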