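import Mathlib
import Groth.Prelude.Def_CotT
import Groth.Agent.Lib.Helper3.T2Lift6
import Groth.Agent.Lib.Helper3.ObsA

/-! Lifting a flat presented algebra to the quotient of a semismall extension by the kernel of a
functional on which the obstruction vanishes (helper3). -/

set_option autoImplicit false
set_option linter.style.haveILetI false
set_option linter.unusedSectionVars false
universe u

namespace Groth.Agent.Helper3.Obs

open MvPolynomial TensorProduct
open Groth.Agent.Helper3.T2Lift

section Final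

variable {k : Type u} [Field k] {ι σ : Type u} {B₀ : Type u} [CommRing B₀] [Algebra k B₀]
  (P : Algebra.Presentation k B₀ ι σ)
  {A : Type u} [CommRing A] [Algebra k A] (e : A →ₐ[k] k)
  {A' : Type u} [CommRing A'] [Algebra k A'] [IsLocalRing A'] (e' : A' →ₐ[k] k)
  (p : A' →ₐ[k] A) (ε : A')

/-- the second half of the lifting theorem: corrected relations all of whose relations lift give
a flat lift -/
theorem algLift_of_F'' [IsLocalRing A] [IsArtinianRing A] [IsArtinianRing A']
    (hε0 : ε ≠ 0) (hε : RingHom.ker (p : A' →+* A) = Ideal.span {ε})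
    (hmε : ∀ a, e' a = 0 → a * ε = 0) (hp : Function.Surjective p) (hep : ∀ a, e (p a) = e' a)
    {B : Type u} [CommRing B] [Algebra A B] [Module.Flat A B] (ι₀ : B →+* B₀)
    (hι : Function.Surjective ι₀)
    (hker : RingHom.ker ι₀ = Ideal.map (algebraMap A B) (RingHom.ker e))
    (hcomp : ∀ a, ι₀ (algebraMap A B a) = algebraMap k B₀ (e a))
    (ψ : MvPolynomial ι A →+* B) (hψC : ∀ a, ψ (C a) = algebraMap A B a)
    (hψι : ∀ G, ι₀ (ψ G) = aeval P.val (map (e : A →+* k) G)) (hψs : Function.Surjective ψ)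
    (F : σ → MvPolynomial ι A) (hF1 : ∀ s, ψ (F s) = 0)
    (hK : RingHom.ker ψ = Ideal.span (Set.range F))
    (F'' : σ → MvPolynomial ι A') (hF''p : ∀ s, map (p : A' →+* A) (F'' s) = F s)
    (hF''e : ∀ s, map (e' : A' →+* k) (F'' s) = P.relation s)
    (hF''Θ : ∀ ρ' : σ →₀ MvPolynomial ι A',
        map (p : A' →+* A) (Finsupp.linearCombination (MvPolynomial ι A') F'' ρ') = 0 →
        InTheta P ε (Finsupp.linearCombination (MvPolynomial ι A') F'' ρ')) :
    ∃ (B' : Type u) (_ : CommRing B') (_ : Algebra A' B') (_ : Module.Flat A' B')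
      (π : B' →+* B), Function.Surjective π ∧
        (∀ a, π (algebraMap A' B' a) = algebraMap A B (p a)) ∧
        RingHom.ker π = Ideal.map (algebraMap A' B') (RingHom.ker (p : A' →+* A)) ∧
        RingHom.ker (ι₀.comp π) = Ideal.map (algebraMap A' B') (RingHom.ker e') := by
  classical
  have hnil : IsNilpotent (RingHom.ker e) := RigidDef.ker_isNilpotent k A e
  have hnil' : IsNilpotent (RingHom.ker e') := RigidDef.ker_isNilpotent k A' e'
  have hps : Function.Surjective (map (p : A' →+* A) :
      MvPolynomial ι A' → MvPolynomial ι A) := MvPolynomial.map_surjective (p : A' →+* A) hp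
  have hpε : p ε = 0 := p_eps p ε hε
  obtain ⟨K'', hK''⟩ : ∃ K'' : Ideal (MvPolynomial ι A'), K'' = Ideal.span (Set.range F'') :=
    ⟨_, rfl⟩
  have hπ0 : ∀ G ∈ K'', (ψ.comp (map (p : A' →+* A))) G = 0 := by
    intro G hG
    have h1 : K'' ≤ RingHom.ker (ψ.comp (map (p : A' →+* A))) := by
      rw [hK'', Ideal.span_le]
      rintro _ ⟨s, rfl⟩
      show ψ (map (p : A' →+* A) (F'' s)) = 0
      rw [hF''p, hF1]
    exact h1 hG
  obtain ⟨π, hπ⟩ : ∃ π : (MvPolynomial ι A' ⧸ K'') →+* B,
      ∀ G, π (Ideal.Quotient.mk K'' G) = ψ (map (p : A' →+* A) G) :=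
    ⟨Ideal.Quotient.lift K'' (ψ.comp (map (p : A' →+* A))) hπ0,
      fun G => Ideal.Quotient.lift_mk _ _ _⟩
  have hπs : Function.Surjective π := by
    intro y
    obtain ⟨G, rfl⟩ := hψs y
    obtain ⟨G', rfl⟩ := hps G
    exact ⟨Ideal.Quotient.mk K'' G', hπ G'⟩
  have halg : ∀ a : A', algebraMap A' (MvPolynomial ι A' ⧸ K'') a =
      Ideal.Quotient.mk K'' (C a) := fun a => rfl
  have hsm : ∀ (a : A') (y : MvPolynomial ι A' ⧸ K''),
      a • y = algebraMap A' (MvPolynomial ι A' ⧸ K'') a * y := by
    intro a y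
    obtain ⟨G, rfl⟩ := Ideal.Quotient.mk_surjective y
    rw [halg, ← map_mul, ← smul_eq_C_mul]
    rfl
  have hcompat : ∀ a, π (algebraMap A' (MvPolynomial ι A' ⧸ K'') a) = algebraMap A B (p a) := by
    intro a
    rw [halg, hπ, map_C, hψC]
    rfl
  have hkerπ : RingHom.ker π = Ideal.map (algebraMap A' (MvPolynomial ι A' ⧸ K''))
      (RingHom.ker (p : A' →+* A)) := by
    rw [hε, Ideal.map_span, Set.image_singleton]
    apply le_antisymm
    · intro y hy
      obtain ⟨G, rfl⟩ := Ideal.Quotient.mk_surjective y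
      have h1 : ψ (map (p : A' →+* A) G) = 0 := by
        rw [← hπ]
        exact hy
      have h2 : map (p : A' →+* A) G ∈ Ideal.span (Set.range F) := by
        rw [← hK]
        exact h1
      obtain ⟨c, hc⟩ := Finsupp.mem_span_range_iff_exists_finsupp.mp h2
      obtain ⟨c', hc'⟩ :=
        Finsupp.mapRange_surjective (map (p : A' →+* A)) (map_zero _) hps c
      obtain ⟨G₂, hG₂⟩ : ∃ G₂ : MvPolynomial ι A',
          G₂ = Finsupp.linearCombination (MvPolynomial ι A') F'' c' := ⟨_, rfl⟩
      have hG₂K : G₂ ∈ K'' := by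
        rw [hK'', hG₂]
        exact Finsupp.mem_span_range_iff_exists_finsupp.mpr ⟨c', rfl⟩
      have h3 : map (p : A' →+* A) (G - G₂) = 0 := by
        rw [map_sub, hG₂, lc_map (map (p : A' →+* A)) F'' F hF''p, hc',
          Finsupp.linearCombination_apply, hc, sub_self]
      obtain ⟨c₀, hc₀⟩ := exists_mul_of_map_eq_zero p ε hε _ h3
      have h4 : Ideal.Quotient.mk K'' G =
          Ideal.Quotient.mk K'' (C ε) * Ideal.Quotient.mk K'' c₀ := by
        rw [← map_mul, ← hc₀, map_sub, Ideal.Quotient.eq_zero_iff_mem.mpr hG₂K, sub_zero]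
      rw [h4]
      exact Ideal.mul_mem_right _ _ (Ideal.mem_span_singleton_self _)
    · rw [Ideal.span_le, Set.singleton_subset_iff]
      show π (algebraMap A' _ ε) = 0
      rw [hcompat, hpε, map_zero]
  obtain ⟨ι', hι'def⟩ : ∃ ι' : (MvPolynomial ι A' ⧸ K'') →+* B₀, ι' = ι₀.comp π := ⟨_, rfl⟩
  have hι'mk : ∀ G, ι' (Ideal.Quotient.mk K'' G) = aeval P.val (map (e' : A' →+* k) G) := by
    intro G
    rw [hι'def, RingHom.comp_apply, hπ, hψι, map_e_map_p e e' p hep]
  have hι's : Function.Surjective ι' := by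
    rw [hι'def]
    exact hι.comp hπs
  have hcomp' : ∀ a, ι' (algebraMap A' (MvPolynomial ι A' ⧸ K'') a) =
      algebraMap k B₀ (e' a) := by
    intro a
    rw [hι'def, RingHom.comp_apply, hcompat, hcomp, hep]
  have hkey : ∀ G : MvPolynomial ι A', Ideal.Quotient.mk K'' (C ε * G) = 0 →
      ι' (Ideal.Quotient.mk K'' G) = 0 := by
    intro G hG
    have h1 : C ε * G ∈ Ideal.span (Set.range F'') := by
      rw [← hK'']
      exact Ideal.Quotient.eq_zero_iff_mem.mp hG
    obtain ⟨ρ', hρ'⟩ := Finsupp.mem_span_range_iff_exists_finsupp.mp h1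
    have hρ'' : Finsupp.linearCombination (MvPolynomial ι A') F'' ρ' = C ε * G := by
      rw [Finsupp.linearCombination_apply]
      exact hρ'
    have h2 : map (p : A' →+* A)
        (Finsupp.linearCombination (MvPolynomial ι A') F'' ρ') = 0 := by
      rw [hρ'', map_mul, map_C]
      have h3 : (p : A' →+* A) ε = 0 := hpε
      rw [h3, C_0, zero_mul]
    obtain ⟨c, hc, hc'⟩ := hF''Θ ρ' h2
    have h3 : C ε * (G - map (algebraMap k A') c) = 0 := by
      rw [mul_sub, ← hρ'', hc', theta, sub_self]
    have h4 := map_e'_eq_zero_of_C_eps_mul e' ε hε0 _ h3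
    rw [map_sub, map_e_map_algebraMap, sub_eq_zero] at h4
    rw [hι'mk, h4]
    exact P.aeval_val_eq_zero hc
  have hker' : RingHom.ker ι' = Ideal.map (algebraMap A' (MvPolynomial ι A' ⧸ K''))
      (RingHom.ker e') := by
    apply le_antisymm
    · intro y hy
      obtain ⟨G, rfl⟩ := Ideal.Quotient.mk_surjective y
      have h1 : aeval P.val (map (e' : A' →+* k) G) = 0 := by
        rw [← hι'mk]
        exact hy
      have h2 : map (e' : A' →+* k) G ∈ P.ker := by
        rw [P.ker_eq_ker_aeval_val]
        exact h1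
      rw [← P.span_range_relation_eq_ker] at h2
      obtain ⟨c, hc⟩ := Finsupp.mem_span_range_iff_exists_finsupp.mp h2
      obtain ⟨ct, hct⟩ : ∃ ct : σ →₀ MvPolynomial ι A',
          ct = Finsupp.mapRange (map (algebraMap k A')) (map_zero _) c := ⟨_, rfl⟩
      obtain ⟨G₂, hG₂⟩ : ∃ G₂ : MvPolynomial ι A',
          G₂ = Finsupp.linearCombination (MvPolynomial ι A') F'' ct := ⟨_, rfl⟩
      have hG₂K : G₂ ∈ K'' := by
        rw [hK'', hG₂]
        exact Finsupp.mem_span_range_iff_exists_finsupp.mpr ⟨ct, rfl⟩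
      have h3 : map (e' : A' →+* k) (G - G₂) = 0 := by
        rw [map_sub, hG₂, lc_map (map (e' : A' →+* k)) F'' P.relation hF''e, hct,
          mapRange_map_e, Finsupp.linearCombination_apply, hc, sub_self]
      have h4 : G - G₂ ∈ Ideal.map C (RingHom.ker e') := (mem_map_C_ker e' _).mpr h3
      have h5 : Ideal.Quotient.mk K'' G = Ideal.Quotient.mk K'' (G - G₂) := by
        rw [map_sub, Ideal.Quotient.eq_zero_iff_mem.mpr hG₂K, sub_zero]
      rw [h5]
      have h6 : Ideal.map (algebraMap A' (MvPolynomial ι A' ⧸ K'')) (RingHom.ker e') =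
          Ideal.map (Ideal.Quotient.mk K'') (Ideal.map C (RingHom.ker e')) := by
        rw [Ideal.map_map]
        rfl
      rw [h6]
      exact Ideal.mem_map_of_mem _ h4
    · rw [Ideal.map_le_iff_le_comap]
      intro a ha
      rw [Ideal.mem_comap, RingHom.mem_ker, hcomp']
      have h1 : e' a = 0 := ha
      rw [h1, map_zero]
  obtain ⟨⟨Λ, bas⟩⟩ := Module.Free.exists_basis (R := k) (M := B₀)
  choose E' hE' using fun l => hι's (bas l)
  have hΦ'bij : Function.Bijective (Finsupp.linearCombination A' E') := by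
    constructor
    · rw [injective_iff_map_eq_zero]
      intro x hx
      have hπlc : ∀ x : Λ →₀ A', π (Finsupp.linearCombination A' E' x) =
          Finsupp.linearCombination A (fun l => π (E' l))
            (Finsupp.mapRange p (map_zero p) x) := by
        intro x
        induction x using Finsupp.induction_linear with
        | zero => simp
        | add x y hx hy =>
          rw [map_add, map_add, hx, hy, Finsupp.mapRange_add (map_add p), map_add]
        | single l a =>
          rw [Finsupp.mapRange_single, Finsupp.linearCombination_single,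
            Finsupp.linearCombination_single, hsm, map_mul, hcompat,
            Algebra.smul_def]
      have hΦbij := basis_lift_bijective e ι₀ hnil hker hcomp bas (fun l => π (E' l))
        (fun l => by
          have h1 := hE' l
          rw [hι'def] at h1
          exact h1)
      have h1 : Finsupp.mapRange p (map_zero p) x = 0 := by
        apply hΦbij.1
        rw [← hπlc, hx, map_zero, map_zero]
      have h2 : x ∈ Set.range (Finsupp.mapRange (fun a : A' => ε * a) (mul_zero ε)) := by
        rw [Finsupp.range_mapRange]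
        intro l
        have h3 := DFunLike.congr_fun h1 l
        rw [Finsupp.mapRange_apply, Finsupp.zero_apply] at h3
        have h4 : x l ∈ RingHom.ker (p : A' →+* A) := h3
        rw [hε] at h4
        obtain ⟨c, hc⟩ := Ideal.mem_span_singleton'.mp h4
        exact ⟨c, by rw [← hc, mul_comm]⟩
      obtain ⟨c, rfl⟩ := h2
      have h5 : Finsupp.linearCombination A' E'
          (Finsupp.mapRange (fun a : A' => ε * a) (mul_zero ε) c) =
          algebraMap A' (MvPolynomial ι A' ⧸ K'') ε * Finsupp.linearCombination A' E' c := by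
        have h6 : Finsupp.mapRange (fun a : A' => ε * a) (mul_zero ε) c = ε • c := by
          ext l
          simp
        rw [h6, map_smul, hsm]
      obtain ⟨G, hG⟩ := Ideal.Quotient.mk_surjective (Finsupp.linearCombination A' E' c)
      have h6 : Ideal.Quotient.mk K'' (C ε * G) = 0 := by
        rw [map_mul, hG, ← halg, ← h5]
        exact hx
      have h7 := hkey G h6
      rw [hG, iota_lc e' ι' bas hcomp' E' hE'] at h7
      have h8 : Finsupp.mapRange e' (map_zero e') c = 0 :=
        (linearIndependent_iff.mp bas.linearIndependent) _ h7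
      ext l
      have h9 := DFunLike.congr_fun h8 l
      rw [Finsupp.mapRange_apply, Finsupp.zero_apply] at h9
      rw [Finsupp.mapRange_apply, Finsupp.zero_apply, mul_comm]
      exact hmε _ h9
    · rw [← LinearMap.range_eq_top]
      apply Groth.Agent.Lead.DefoIso.eq_top_of_top_le_sup_smul (RingHom.ker e') hnil'
      intro y _
      obtain ⟨x, hx⟩ : ∃ x : Λ →₀ A',
          x = Finsupp.mapRange (algebraMap k A') (map_zero _) (bas.repr (ι' y)) := ⟨_, rfl⟩
      have h1 : ι' (y - Finsupp.linearCombination A' E' x) = 0 := by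
        rw [map_sub, iota_lc e' ι' bas hcomp' E' hE', hx, mapRange_e_algebraMap,
          Module.Basis.linearCombination_repr, sub_self]
      have h2 : y - Finsupp.linearCombination A' E' x ∈
          (RingHom.ker e') • (⊤ : Submodule A' (MvPolynomial ι A' ⧸ K'')) := by
        rw [Ideal.smul_top_eq_map]
        show _ ∈ Ideal.map (algebraMap A' (MvPolynomial ι A' ⧸ K'')) (RingHom.ker e')
        rw [← hker']
        exact h1
      have h3 : y = Finsupp.linearCombination A' E' x +
          (y - Finsupp.linearCombination A' E' x) := by abel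
      rw [h3]
      exact Submodule.add_mem_sup ⟨x, rfl⟩ h2
  have hflat : Module.Flat A' (MvPolynomial ι A' ⧸ K'') :=
    Module.Flat.of_linearEquiv (LinearEquiv.ofBijective _ hΦ'bij).symm
  rw [hι'def] at hker'
  exact ⟨MvPolynomial ι A' ⧸ K'', inferInstance, inferInstance, hflat, π, hπs, hcompat, hkerπ,
    hker'⟩

end Final

section Quot

variable {k : Type u} [Field k] {ι σ : Type u} {B₀ : Type u} [CommRing B₀] [Algebra k B₀]
  (P : Algebra.Presentation k B₀ ι σ)
  {A : Type u} [CommRing A] [Algebra k A] (e : A →ₐ[k] k)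
  {A' : Type u} [CommRing A'] [Algebra k A'] (e' : A' →ₐ[k] k)
  (p : A' →ₐ[k] A)
  {A'' : Type u} [CommRing A''] [Algebra k A''] [IsLocalRing A''] (e'' : A'' →ₐ[k] k)
  (p'' : A'' →ₐ[k] A) (π : A' →ₐ[k] A'')
  (l : A' →ₗ[k] k) (ε : A')

variable (hpε : p ε = 0) (hlε : l ε = 1)
  (hkerπ : ∀ x, π x = 0 ↔ (p x = 0 ∧ l x = 0))

include hpε hlε hkerπ in
theorem pi_eq (c : A') (hc : p c = 0) : π c = π ε * algebraMap k A'' (l c) := by
  have h1 : π (c - l c • ε) = 0 := by
    rw [hkerπ]
    constructor
    · rw [map_sub, map_smul, hc, hpε, smul_zero, sub_zero]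
    · rw [map_sub, map_smul, hlε, smul_eq_mul, mul_one, sub_self]
  rw [map_sub, map_smul, sub_eq_zero] at h1
  rw [h1, Algebra.smul_def, mul_comm]

include hpε hlε hkerπ in
theorem map_pi_eq_theta (G : MvPolynomial ι A') (hG : map (p : A' →+* A) G = 0) :
    map (π : A' →+* A'') G = theta (π ε) (Lam l G) := by
  ext m
  have hc : p (coeff m G) = 0 := by
    have h1 := congrArg (coeff m) hG
    rw [coeff_map, coeff_zero] at h1
    exact h1
  rw [coeff_map, theta, coeff_C_mul, coeff_map, coeff_Lam]
  exact pi_eq p π l ε hpε hlε hkerπ _ hc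

include hpε hlε hkerπ in
/-- if the obstruction vanishes at `l`, the deformation lifts to the quotient by the kernel of
`l` -/
theorem lift_quot [IsLocalRing A] [IsArtinianRing A] [IsArtinianRing A'']
    (hmK : ∀ a x : A', e' a = 0 → p x = 0 → a * x = 0)
    (hp : Function.Surjective p) (hep : ∀ a, e (p a) = e' a)
    {B : Type u} [CommRing B] [Algebra A B] [Module.Flat A B] (ι₀ : B →+* B₀)
    (hι : Function.Surjective ι₀)
    (hker : RingHom.ker ι₀ = Ideal.map (algebraMap A B) (RingHom.ker e))
    (hcomp : ∀ a, ι₀ (algebraMap A B a) = algebraMap k B₀ (e a))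
    (ψ : MvPolynomial ι A →+* B) (hψC : ∀ a, ψ (C a) = algebraMap A B a)
    (hψι : ∀ G, ι₀ (ψ G) = aeval P.val (map (e : A →+* k) G)) (hψs : Function.Surjective ψ)
    (F : σ → MvPolynomial ι A) (hF1 : ∀ s, ψ (F s) = 0)
    (hF2 : ∀ s, map (e : A →+* k) (F s) = P.relation s)
    (hK : RingHom.ker ψ = Ideal.span (Set.range F))
    (F' : σ → MvPolynomial ι A') (hF'p : ∀ s, map (p : A' →+* A) (F' s) = F s)
    (hπs : Function.Surjective π) (he'' : ∀ a, e'' (π a) = e' a) (hp'' : ∀ a, p'' (π a) = p a)
    (gbar : σ → B₀)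
    (hgbar : ∀ ρ'' : σ →₀ MvPolynomial ι A',
        map (p : A' →+* A) (Finsupp.linearCombination (MvPolynomial ι A') F' ρ'') = 0 →
        aeval P.val (Lam l (Finsupp.linearCombination (MvPolynomial ι A') F' ρ'')) =
          (Finsupp.mapRange (map (e' : A' →+* k)) (map_zero _) ρ'').sum
            (fun s r => aeval P.val r * gbar s)) :
    ∃ (B'' : Type u) (_ : CommRing B'') (_ : Algebra A'' B'') (_ : Module.Flat A'' B'')
      (π' : B'' →+* B), Function.Surjective π' ∧
        (∀ a, π' (algebraMap A'' B'' a) = algebraMap A B (p'' a)) ∧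
        RingHom.ker π' = Ideal.map (algebraMap A'' B'') (RingHom.ker (p'' : A'' →+* A)) ∧
        RingHom.ker (ι₀.comp π') = Ideal.map (algebraMap A'' B'') (RingHom.ker e'') := by
  classical
  have hε0 : π ε ≠ 0 := by
    intro h0
    have h1 := ((hkerπ ε).mp h0).2
    rw [hlε] at h1
    exact one_ne_zero h1
  have hp''s : Function.Surjective p'' := by
    intro y
    obtain ⟨x, rfl⟩ := hp y
    exact ⟨π x, hp'' x⟩
  have hep'' : ∀ a, e (p'' a) = e'' a := by
    intro a
    obtain ⟨x, rfl⟩ := hπs a
    rw [hp'', he'', hep]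
  have hε : RingHom.ker (p'' : A'' →+* A) = Ideal.span {π ε} := by
    apply le_antisymm
    · intro y hy
      obtain ⟨x, rfl⟩ := hπs y
      have hx : p x = 0 := by
        have h1 : p'' (π x) = 0 := hy
        rw [hp''] at h1
        exact h1
      rw [pi_eq p π l ε hpε hlε hkerπ x hx]
      exact Ideal.mul_mem_right _ _ (Ideal.mem_span_singleton_self _)
    · rw [Ideal.span_le, Set.singleton_subset_iff]
      show p'' (π ε) = 0
      rw [hp'', hpε]
  have hmε : ∀ a, e'' a = 0 → a * π ε = 0 := by
    intro a ha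
    obtain ⟨x, rfl⟩ := hπs a
    rw [he''] at ha
    rw [← map_mul, hmK x ε ha hpε, map_zero]
  have hπp : (p'' : A'' →+* A).comp (π : A' →+* A'') = (p : A' →+* A) :=
    RingHom.ext fun a => hp'' a
  have hπe : (e'' : A'' →+* k).comp (π : A' →+* A'') = (e' : A' →+* k) :=
    RingHom.ext fun a => he'' a
  have hmpp : ∀ G : MvPolynomial ι A',
      map (p'' : A'' →+* A) (map (π : A' →+* A'') G) = map (p : A' →+* A) G := by
    intro G
    rw [MvPolynomial.map_map, hπp]
  have hmpe : ∀ G : MvPolynomial ι A',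
      map (e'' : A'' →+* k) (map (π : A' →+* A'') G) = map (e' : A' →+* k) G := by
    intro G
    rw [MvPolynomial.map_map, hπe]
  have hF'e : ∀ s, map (e' : A' →+* k) (F' s) = P.relation s := fun s => by
    rw [← map_e_map_p e e' p hep, hF'p, hF2]
  choose g hg using fun s => P.aeval_val_surjective (gbar s)
  obtain ⟨Fb, hFb⟩ : ∃ Fb : σ → MvPolynomial ι A'',
      Fb = fun s => map (π : A' →+* A'') (F' s) := ⟨_, rfl⟩
  obtain ⟨F'', hF''⟩ : ∃ F'' : σ → MvPolynomial ι A'',
      F'' = fun s => Fb s - theta (π ε) (g s) := ⟨_, rfl⟩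
  have hFbp : ∀ s, map (p'' : A'' →+* A) (Fb s) = F s := fun s => by
    rw [hFb]
    show map (p'' : A'' →+* A) (map (π : A' →+* A'') (F' s)) = F s
    rw [hmpp, hF'p]
  have hF''p : ∀ s, map (p'' : A'' →+* A) (F'' s) = F s := fun s => by
    rw [hF'']
    show map (p'' : A'' →+* A) (Fb s - theta (π ε) (g s)) = F s
    rw [map_sub, map_p_theta p'' (π ε) hε, sub_zero, hFbp]
  have hF''e : ∀ s, map (e'' : A'' →+* k) (F'' s) = P.relation s := fun s => by
    rw [← map_e_map_p e e'' p'' hep'', hF''p, hF2]
  have hps' : Function.Surjective (map (π : A' →+* A'') :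
      MvPolynomial ι A' → MvPolynomial ι A'') := MvPolynomial.map_surjective (π : A' →+* A'') hπs
  have hfam : Fb = fun s => F'' s + theta (π ε) (g s) := by
    rw [hF'']
    funext s
    exact (sub_add_cancel _ _).symm
  have hF''Θ : ∀ ρ'' : σ →₀ MvPolynomial ι A'',
      map (p'' : A'' →+* A) (Finsupp.linearCombination (MvPolynomial ι A'') F'' ρ'') = 0 →
      InTheta P (π ε) (Finsupp.linearCombination (MvPolynomial ι A'') F'' ρ'') := by
    intro ρ'' hρ''
    obtain ⟨ρ', hρ'⟩ :=
      Finsupp.mapRange_surjective (map (π : A' →+* A'')) (map_zero _) hps' ρ''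
    obtain ⟨G', hG'⟩ : ∃ G' : MvPolynomial ι A',
        G' = Finsupp.linearCombination (MvPolynomial ι A') F' ρ' := ⟨_, rfl⟩
    have hq : Finsupp.mapRange (map (e' : A' →+* k)) (map_zero _) ρ' =
        Finsupp.mapRange (map (e'' : A'' →+* k)) (map_zero _) ρ'' := by
      rw [← hρ']
      ext s : 1
      rw [Finsupp.mapRange_apply, Finsupp.mapRange_apply, Finsupp.mapRange_apply, hmpe]
    have h1 : Finsupp.linearCombination (MvPolynomial ι A'') Fb ρ'' =
        Finsupp.linearCombination (MvPolynomial ι A'') F'' ρ'' +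
          theta (π ε) (Finsupp.linearCombination (MvPolynomial ι k) g
            (Finsupp.mapRange (map (e'' : A'' →+* k)) (map_zero _) ρ'')) := by
      rw [hfam, lc_family_add, lc_theta e'' (π ε) hmε]
    have h2 : map (π : A' →+* A'') G' =
        Finsupp.linearCombination (MvPolynomial ι A'') Fb ρ'' := by
      rw [hG', lc_map (map (π : A' →+* A'')) F' Fb (fun s => by rw [hFb]), hρ']
    have h3 : map (p : A' →+* A) G' = 0 := by
      rw [← hmpp, h2, h1, map_add, hρ'', map_p_theta p'' (π ε) hε, add_zero]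
    have h4 : map (π : A' →+* A'') G' = theta (π ε) (Lam l G') :=
      map_pi_eq_theta p π l ε hpε hlε hkerπ G' h3
    have h5 := hgbar ρ' (by rw [← hG']; exact h3)
    rw [← hG', hq] at h5
    have h6 : aeval P.val (Finsupp.linearCombination (MvPolynomial ι k) g
        (Finsupp.mapRange (map (e'' : A'' →+* k)) (map_zero _) ρ'')) =
        (Finsupp.mapRange (map (e'' : A'' →+* k)) (map_zero _) ρ'').sum
          (fun s r => aeval P.val r * gbar s) := by
      rw [Finsupp.linearCombination_apply, map_finsuppSum]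
      apply Finsupp.sum_congr
      intro s _
      rw [smul_eq_mul, map_mul, hg]
    refine ⟨Lam l G' - Finsupp.linearCombination (MvPolynomial ι k) g
        (Finsupp.mapRange (map (e'' : A'' →+* k)) (map_zero _) ρ''), ?_, ?_⟩
    · rw [P.ker_eq_ker_aeval_val, RingHom.mem_ker, map_sub, h5, h6, sub_self]
    · rw [theta_sub, ← h4, h2, h1, add_sub_cancel_right]
  exact algLift_of_F'' P e e'' p'' (π ε) hε0 hε hmε hp''s hep'' ι₀ hι hker hcomp ψ hψC hψι hψs F
    hF1 hK F'' hF''p hF''e hF''Θ

end Quot

end Groth.Agent.Helper3.Obs
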