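import Mathlib
import Groth.Prelude.Def_CotT
import Groth.Prelude.Def_ArtFun4
import Groth.Agent.Lib.Helper3.ObsB
import Groth.Agent.Lib.Helper3.FO4

/-! A weak obstruction theory with values in `T²` for the deformation functor of an affine scheme
with a presentation (helper3). -/

set_option autoImplicit false
set_option linter.style.haveILetI false
set_option linter.unusedSectionVars false
universe u
open CategoryTheory CategoryTheory.Limits AlgebraicGeometry

namespace Groth.Agent.Helper3.Obs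

open ArtFun ArtFun.Art MvPolynomial
open Groth.Agent.Helper3 Groth.Agent.Helper3.T2Lift

theorem weakObs_aux {k : Type u} [Field k] (B₀ : Type u) [CommRing B₀] [Algebra k B₀]
    {ι σ : Type u} (P : Algebra.Presentation k B₀ ι σ)
    (x : Spec (CommRingCat.of B₀) ⟶ specPt k)
    (hx : x = Spec.map (CommRingCat.ofHom (algebraMap k B₀)))
    {A' A : Art k k} (p : A' ⟶ A) (hp : Art.IsSemismallExt p)
    (u : (defFunctor (Λ := k) (Spec (CommRingCat.of B₀)) x).obj A) :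
    ∃ Φ : Module.Dual k ↥(RingHom.ker p.toAlgHom) →ₗ[k] CotT.T2 P B₀,
      ∀ l : Module.Dual k ↥(RingHom.ker p.toAlgHom), l ≠ 0 → Φ l = 0 →
        ∀ (K₀ : Ideal A') (hK : K₀ ≤ IsLocalRing.maximalIdeal (A' : Type u))
          (hKJ : K₀ ≤ RingHom.ker p.toAlgHom),
          (∀ y, y ∈ K₀ ↔ ∃ h : y ∈ RingHom.ker p.toAlgHom, l ⟨y, h⟩ = 0) →
          ∃ u'' : (defFunctor (Λ := k) (Spec (CommRingCat.of B₀)) x).obj (Art.quot A' K₀ hK),
            (defFunctor (Λ := k) (Spec (CommRingCat.of B₀)) x).map (Art.quotFactor hK p hKJ) u'' =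
              u := by
  classical
  -- the ring of the closed fibre
  obtain ⟨θ, hθdef⟩ : ∃ θ : B₀ →+* FO.ΓX x,
      θ = (Scheme.ΓSpecIso (CommRingCat.of B₀)).inv.hom := ⟨_, rfl⟩
  have hθbij : Function.Bijective θ := by
    rw [hθdef]
    exact ConcreteCategory.bijective_of_isIso (Scheme.ΓSpecIso (CommRingCat.of B₀)).inv
  have hθ : ∀ c : k, θ (algebraMap k B₀ c) = algebraMap k (FO.ΓX x) c := by
    intro c
    have hnat := Scheme.ΓSpecIso_inv_naturality (CommRingCat.ofHom (algebraMap k B₀))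
    rw [FO.algebraMap_ΓX, hθdef]
    subst hx
    exact congrArg (fun m => m.hom c) hnat
  obtain ⟨Θ, hΘ⟩ : ∃ Θ : B₀ ≃+* FO.ΓX x, ∀ b, Θ b = θ b :=
    ⟨RingEquiv.ofBijective θ hθbij, fun b => rfl⟩
  induction u using Quotient.inductionOn with
  | h ζ =>
  obtain ⟨D, hD⟩ := FO.exists_ofRing x ζ
  letI : Algebra A D.E := D.α.toAlgebra
  haveI : Module.Flat A D.E := D.hfl
  obtain ⟨ι₀, hι₀⟩ : ∃ ι₀ : D.E →+* B₀, ι₀ = (Θ.symm : FO.ΓX x →+* B₀).comp D.ι := ⟨_, rfl⟩
  have hι₀a : ∀ y, ι₀ y = Θ.symm (D.ι y) := fun y => by rw [hι₀]; rfl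
  have hι : Function.Surjective ι₀ := by
    intro b
    obtain ⟨y, hy⟩ := D.hs (Θ b)
    exact ⟨y, by rw [hι₀a, hy, RingEquiv.symm_apply_apply]⟩
  have hkerι : RingHom.ker ι₀ = RingHom.ker D.ι := by
    ext y
    rw [RingHom.mem_ker, RingHom.mem_ker, hι₀a]
    exact Θ.symm.map_eq_zero_iff
  have hker : RingHom.ker ι₀ = Ideal.map (algebraMap A D.E) (RingHom.ker A.res) := by
    rw [hkerι]
    exact D.hker
  have hcomp : ∀ a, ι₀ (algebraMap A D.E a) = algebraMap k B₀ (A.res a) := by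
    intro a
    rw [hι₀a]
    have h1 : D.ι (algebraMap A D.E a) = algebraMap k (FO.ΓX x) (A.res a) := D.hcomp a
    rw [h1, ← hθ, ← hΘ, RingEquiv.symm_apply_apply]
  have hnil : IsNilpotent (RingHom.ker A.res) := RigidDef.ker_isNilpotent k A A.res
  haveI : Module.Projective A D.E := projective_of_flat A.res ι₀ hnil hι hker hcomp
  obtain ⟨ψ, hψC, hψι, hψs⟩ := exists_psi P A.res ι₀ hnil hι hker hcomp
  have hF : ∀ s, ∃ Fs : MvPolynomial ι A, ψ Fs = 0 ∧
      map (A.res : A →+* k) Fs = P.relation s := by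
    intro s
    obtain ⟨ft, hft⟩ : ∃ ft : MvPolynomial ι A, ft = map (algebraMap k A) (P.relation s) :=
      ⟨_, rfl⟩
    have h1 : ι₀ (ψ ft) = 0 := by
      rw [hψι, hft, map_e_map_algebraMap, P.aeval_val_relation]
    have h2 : ψ ft ∈ Ideal.map (algebraMap A D.E) (RingHom.ker A.res) := by
      rw [← hker]
      exact h1
    have h3 : Ideal.map (algebraMap A D.E) (RingHom.ker A.res) =
        Ideal.map ψ (Ideal.map (C : A →+* MvPolynomial ι A) (RingHom.ker A.res)) := by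
      rw [Ideal.map_map]
      have h4 : algebraMap A D.E = ψ.comp (C : A →+* MvPolynomial ι A) :=
        RingHom.ext fun a => (hψC a).symm
      rw [h4]
    rw [h3, Ideal.mem_map_iff_of_surjective ψ hψs] at h2
    obtain ⟨G, hG, hGψ⟩ := h2
    refine ⟨ft - G, by rw [map_sub, hGψ, sub_self], ?_⟩
    rw [map_sub, (mem_map_C_ker A.res G).mp hG, sub_zero, hft, map_e_map_algebraMap]
  choose F hF1 hF2 using hF
  have hKψ := ker_eq_span P A.res ι₀ ψ hψC hψs hnil hψι F hF1 hF2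
  have hlift := fun q hq => lift_rel P A.res ψ hψC hψs F hKψ hF2 q hq
  have hrelflat := fun ρ h1 h2 => rel_flat A.res ψ hψC hψs F hKψ ρ h1 h2
  have hps : Function.Surjective (map (p.toAlgHom : A' →+* A) :
      MvPolynomial ι A' → MvPolynomial ι A) :=
    MvPolynomial.map_surjective (p.toAlgHom : A' →+* A) hp.1
  choose F' hF'p using fun s => hps (F s)
  have hep : ∀ a : A', A.res (p.toAlgHom a) = A'.res a := fun a => Art.res_app p a
  have hF'e : ∀ s, map (A'.res : A' →+* k) (F' s) = P.relation s := fun s => by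
    rw [← map_e_map_p A.res A'.res p.toAlgHom hep, hF'p, hF2]
  have hmK : ∀ a y : A', A'.res a = 0 → p.toAlgHom y = 0 → a * y = 0 := by
    intro a y ha hy
    have h1 : a ∈ IsLocalRing.maximalIdeal A' := (Art.mem_maximalIdeal_iff A' a).mpr ha
    have h2 : y ∈ RingHom.ker p.toAlgHom := hy
    have h3 := Ideal.mul_mem_mul h1 h2
    rw [hp.2] at h3
    exact h3
  obtain ⟨Φ₀, hΦ₀⟩ := exists_obs P A.res A'.res p.toAlgHom hmK F' hF'e hp.1 hep F hrelflat
    hF'p hlift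
  -- a linear projection onto the kernel
  obtain ⟨incl, hincl⟩ : ∃ incl : ↥(RingHom.ker p.toAlgHom) →ₗ[k] A',
      ∀ y, incl y = (y : A') :=
    ⟨{ toFun := fun y => (y : A')
       map_add' := fun _ _ => rfl
       map_smul' := fun _ _ => rfl }, fun _ => rfl⟩
  have hinclinj : LinearMap.ker incl = ⊥ := by
    rw [LinearMap.ker_eq_bot]
    intro y y' h
    rw [hincl, hincl] at h
    exact Subtype.ext h
  obtain ⟨πK, hπK⟩ := incl.exists_leftInverse_of_injective hinclinj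
  have hπK' : ∀ y : ↥(RingHom.ker p.toAlgHom), πK (y : A') = y := by
    intro y
    have h1 := LinearMap.congr_fun hπK y
    rw [LinearMap.comp_apply, hincl] at h1
    exact h1
  refine ⟨Φ₀ ∘ₗ LinearMap.lcomp k k πK, ?_⟩
  intro l hl0 hΦl K₀ hK hKJ hK₀
  have hΦl' : Φ₀ (l ∘ₗ πK) = 0 := hΦl
  obtain ⟨gbar, hgbar⟩ := hΦ₀ _ hΦl'
  obtain ⟨e₀, he₀⟩ : ∃ e₀ : ↥(RingHom.ker p.toAlgHom), l e₀ ≠ 0 := by
    by_contra hcon
    apply hl0
    apply LinearMap.ext
    intro y
    by_contra hy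
    exact hcon ⟨y, hy⟩
  obtain ⟨ε₀, hε₀⟩ : ∃ ε₀ : ↥(RingHom.ker p.toAlgHom), ε₀ = (l e₀)⁻¹ • e₀ := ⟨_, rfl⟩
  have hlε₀ : l ε₀ = 1 := by rw [hε₀, map_smul, smul_eq_mul, inv_mul_cancel₀ he₀]
  have hpε : p.toAlgHom (ε₀ : A') = 0 := ε₀.2
  have hlε : (l ∘ₗ πK) (ε₀ : A') = 1 := by rw [LinearMap.comp_apply, hπK', hlε₀]
  have hkerπ : ∀ y : A', (Art.quotMk A' K₀ hK).toAlgHom y = 0 ↔
      (p.toAlgHom y = 0 ∧ (l ∘ₗ πK) y = 0) := by
    intro y
    have h1 : (Art.quotMk A' K₀ hK).toAlgHom y = 0 ↔ y ∈ K₀ := Ideal.Quotient.eq_zero_iff_mem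
    rw [h1, hK₀]
    constructor
    · rintro ⟨h, hl⟩
      refine ⟨h, ?_⟩
      have h2 : πK y = ⟨y, h⟩ := hπK' ⟨y, h⟩
      rw [LinearMap.comp_apply, h2]
      exact hl
    · rintro ⟨h, hl⟩
      have h' : y ∈ RingHom.ker p.toAlgHom := h
      refine ⟨h', ?_⟩
      have h2 : πK y = ⟨y, h'⟩ := hπK' ⟨y, h'⟩
      rw [LinearMap.comp_apply, h2] at hl
      exact hl
  obtain ⟨B'', _, _, _, π', hπ's, hcompat, hkerπ', hkerιπ⟩ :=
    lift_quot P A.res A'.res p.toAlgHom (Art.quot A' K₀ hK).res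
      (Art.quotFactor hK p hKJ).toAlgHom (Art.quotMk A' K₀ hK).toAlgHom (l ∘ₗ πK) (ε₀ : A')
      hpε hlε hkerπ hmK hp.1 hep ι₀ hι hker hcomp ψ hψC hψι hψs F hF1 hF2 hKψ F' hF'p
      (Art.quotMk_surjective A' K₀ hK) (fun a => Art.res_app (Art.quotMk A' K₀ hK) a)
      (fun a => rfl) gbar hgbar
  have hcomp'' : ∀ a : (Art.quot A' K₀ hK : Type u),
      (D.ι.comp π') (algebraMap (Art.quot A' K₀ hK : Type u) B'' a) =
        algebraMap k (FO.ΓX x) ((Art.quot A' K₀ hK).res a) := by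
    intro a
    rw [RingHom.comp_apply, hcompat]
    have h1 := D.hcomp ((Art.quotFactor hK p hKJ).toAlgHom a)
    rw [← Art.res_app (Art.quotFactor hK p hKJ) a]
    exact h1
  have hkerD : RingHom.ker (D.ι.comp π') =
      Ideal.map (algebraMap (Art.quot A' K₀ hK : Type u) B'')
        (RingHom.ker (Art.quot A' K₀ hK).res.toRingHom) := by
    have h1 : RingHom.ker (D.ι.comp π') = RingHom.ker (ι₀.comp π') := by
      ext y
      rw [RingHom.mem_ker, RingHom.mem_ker, RingHom.comp_apply, RingHom.comp_apply, hι₀a]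
      exact (Θ.symm.map_eq_zero_iff).symm
    rw [h1]
    exact hkerιπ
  obtain ⟨D'', hD''⟩ : ∃ D'' : FO.RData x (Art.quot A' K₀ hK), D'' =
      (⟨B'', algebraMap (Art.quot A' K₀ hK : Type u) B'',
        RingHom.flat_algebraMap_iff.mpr inferInstance, D.ι.comp π',
        D.hs.comp hπ's, hkerD, hcomp''⟩ : FO.RData x (Art.quot A' K₀ hK)) := ⟨_, rfl⟩
  refine ⟨(FO.ofRing x D'').cl, ?_⟩
  have h2 := FO.cl_eq_of_ringHom x (Art.quotFactor hK p hKJ) D'' D (by rw [hD'']; exact π')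
    (by
      subst hD''
      intro a
      exact hcompat a)
    (by
      subst hD''
      intro e
      rfl)
  rw [h2]
  exact hD.symm

end Groth.Agent.Helper3.Obs
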