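import Mathlib
import Groth.Agent.Lib.Helper3.SchlQ

/-! Dimension bounds from a weak obstruction theory (helper3). -/

set_option linter.style.haveILetI false
set_option autoImplicit false

universe u v w

open CategoryTheory TensorProduct

namespace Groth.Agent.Helper3.ArtFunLib

open ArtFun ArtFun.Art

section WeakObsSec

variable {k : Type u} [Field k]

/-- a weak obstruction theory: for every semismall extension and every element a linear map from
the dual of the kernel to `V` whose vanishing at a nonzero functional forces a lift to the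
quotient by the kernel of the functional -/
def WeakObs (F : Art k k ⥤ Type v) (V : Type u) [AddCommGroup V] [Module k V] : Prop :=
  ∀ ⦃C' C : Art k k⦄ (p : C' ⟶ C) (_ : IsSemismallExt p) (u : F.obj C),
    ∃ Φ : Module.Dual k ↥(RingHom.ker p.toAlgHom) →ₗ[k] V,
      ∀ l : Module.Dual k ↥(RingHom.ker p.toAlgHom), l ≠ 0 → Φ l = 0 →
        ∀ (K₀ : Ideal C') (hK : K₀ ≤ IsLocalRing.maximalIdeal (C' : Type u))
          (hKJ : K₀ ≤ RingHom.ker p.toAlgHom),
          (∀ y, y ∈ K₀ ↔ ∃ h : y ∈ RingHom.ker p.toAlgHom, l ⟨y, h⟩ = 0) →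
          ∃ u'' : F.obj (Art.quot C' K₀ hK), F.map (Art.quotFactor hK p hKJ) u'' = u

variable {F : Art k k ⥤ Type v}

theorem finrank_ker_le_of_no_lift' {V : Type u} [AddCommGroup V] [Module k V] [Module.Finite k V]
    (T : WeakObs F V) {C' C : Art k k} (p : C' ⟶ C) (hp : IsSemismallExt p) (u : F.obj C)
    (hno : ∀ (K₀ : Ideal C') (hK : K₀ ≤ IsLocalRing.maximalIdeal (C' : Type u))
      (hKJ : K₀ ≤ RingHom.ker p.toAlgHom),
      (∃ u'' : F.obj (Art.quot C' K₀ hK), F.map (Art.quotFactor hK p hKJ) u'' = u) →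
        RingHom.ker p.toAlgHom ≤ K₀) :
    Module.Finite k ↥(RingHom.ker p.toAlgHom) ∧
      Module.finrank k ↥(RingHom.ker p.toAlgHom) ≤ Module.finrank k V := by
  set K : Ideal C' := RingHom.ker p.toAlgHom with hKdef
  obtain ⟨Φ, hΦ⟩ : ∃ Φ : Module.Dual k ↥K →ₗ[k] V,
      ∀ l : Module.Dual k ↥K, l ≠ 0 → Φ l = 0 →
        ∀ (K₀ : Ideal C') (hK : K₀ ≤ IsLocalRing.maximalIdeal (C' : Type u)) (hKJ : K₀ ≤ K),
          (∀ y, y ∈ K₀ ↔ ∃ h : y ∈ K, l ⟨y, h⟩ = 0) →
          ∃ u'' : F.obj (Art.quot C' K₀ hK), F.map (Art.quotFactor hK p hKJ) u'' = u :=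
    T p hp u
  have hinj : Function.Injective Φ := by
    rw [injective_iff_map_eq_zero]
    intro l hl
    by_contra hl0
    obtain ⟨e₀, he₀⟩ : ∃ e : ↥K, l e ≠ 0 := by
      by_contra hcon
      apply hl0
      apply LinearMap.ext
      intro x
      by_contra hx
      exact hcon ⟨x, hx⟩
    set e : ↥K := (l e₀)⁻¹ • e₀ with he
    have hle : l e = 1 := by rw [he, map_smul, smul_eq_mul, inv_mul_cancel₀ he₀]
    let K₀ : Ideal C' :=
      { carrier := {x | ∃ h : x ∈ K, l ⟨x, h⟩ = 0}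
        add_mem' := by
          rintro x y ⟨hx, hx0⟩ ⟨hy, hy0⟩
          refine ⟨K.add_mem hx hy, ?_⟩
          have : (⟨x + y, K.add_mem hx hy⟩ : ↥K) = ⟨x, hx⟩ + ⟨y, hy⟩ := rfl
          rw [this, map_add, hx0, hy0, add_zero]
        zero_mem' := ⟨K.zero_mem, by
          have : (⟨0, K.zero_mem⟩ : ↥K) = 0 := rfl
          rw [this, map_zero]⟩
        smul_mem' := by
          rintro c x ⟨hx, hx0⟩
          have hcx : c • x = (C'.res c) • x := semismall_mul_eq_smul p hp.2 c hx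
          refine ⟨K.smul_mem c hx, ?_⟩
          have : (⟨c • x, K.smul_mem c hx⟩ : ↥K) = (C'.res c) • (⟨x, hx⟩ : ↥K) :=
            Subtype.ext hcx
          rw [this, map_smul, hx0, smul_zero] }
    have hK₀mem : ∀ x, x ∈ K₀ ↔ ∃ h : x ∈ K, l ⟨x, h⟩ = 0 := fun _ => Iff.rfl
    have hKJ : K₀ ≤ K := fun x hx => by
      obtain ⟨h, _⟩ := (hK₀mem x).1 hx
      exact h
    have hKm : K ≤ IsLocalRing.maximalIdeal (C' : Type u) :=
      IsLocalRing.le_maximalIdeal (RingHom.ker_ne_top _)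
    have hK : K₀ ≤ IsLocalRing.maximalIdeal (C' : Type u) := hKJ.trans hKm
    obtain ⟨u'', hu''⟩ := hΦ l hl0 hl K₀ hK hKJ hK₀mem
    have hle' := hno K₀ hK hKJ ⟨u'', hu''⟩
    obtain ⟨h, h0⟩ := (hK₀mem _).1 (hle' e.2)
    have : l e = 0 := h0
    rw [hle] at this
    exact one_ne_zero this
  haveI : Module.Finite k (Module.Dual k ↥K) := Module.Finite.of_injective Φ hinj
  haveI hfin : Module.Finite k ↥K := (Module.finite_dual_iff k).1 inferInstance
  refine ⟨hfin, ?_⟩
  rw [← Subspace.dual_finrank_eq]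
  exact LinearMap.finrank_le_finrank_of_injective hinj

end WeakObsSec

section Presentation'

variable {k : Type u} [Field k] {F : Art k k ⥤ Type v}
variable {P : Type u} [CommRing P] [IsLocalRing P] [IsNoetherianRing P] [Algebra k P]
  (resP : P →ₐ[k] k)

/-- the obstruction space bounds the number of relations of a presentation whose relations lie in
the square of the maximal ideal -/
theorem exists_gens_card_le' {V : Type u} [AddCommGroup V] [Module k V] [Module.Finite k V]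
    (T : WeakObs F V)
    {R : Type u} [CommRing R] [Algebra k R] (resR : R →ₐ[k] k) (g : P →ₐ[k] R)
    (hg : resR.comp g = resP) (hgs : Function.Surjective g)
    (hJ : RingHom.ker g ≤ IsLocalRing.maximalIdeal P ^ 2)
    (ξ : Family R resR F) (hξ : IsVersal ξ) :
    ∃ s : Finset P, Ideal.span (s : Set P) = RingHom.ker g ∧ s.card ≤ Module.finrank k V := by
  obtain ⟨n, hn1, hn⟩ := exists_pow_inf_le_mul (RingHom.ker (g : P →+* R))
  have hJm : RingHom.ker (g : P →+* R) ≤ IsLocalRing.maximalIdeal P :=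
    hJ.trans (Ideal.pow_le_self two_ne_zero)
  have hpow : IsLocalRing.maximalIdeal P ^ n ≤ IsLocalRing.maximalIdeal P :=
    Ideal.pow_le_self (by omega)
  have h𝔞' : AdmG (IsLocalRing.maximalIdeal P * RingHom.ker (g : P →+* R) ⊔
      IsLocalRing.maximalIdeal P ^ n) := ⟨sup_le Ideal.mul_le_left hpow, n, le_sup_right⟩
  have h𝔞 : AdmG (RingHom.ker (g : P →+* R) ⊔ IsLocalRing.maximalIdeal P ^ n) :=
    ⟨sup_le hJm hpow, n, le_sup_right⟩
  have hle : IsLocalRing.maximalIdeal P * RingHom.ker (g : P →+* R) ⊔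
      IsLocalRing.maximalIdeal P ^ n ≤
      RingHom.ker (g : P →+* R) ⊔ IsLocalRing.maximalIdeal P ^ n :=
    sup_le_sup_right Ideal.mul_le_right _
  have hmul : IsLocalRing.maximalIdeal P *
      (RingHom.ker (g : P →+* R) ⊔ IsLocalRing.maximalIdeal P ^ n) ≤
      IsLocalRing.maximalIdeal P * RingHom.ker (g : P →+* R) ⊔
      IsLocalRing.maximalIdeal P ^ n := by
    rw [Ideal.mul_sup]
    exact sup_le_sup_left Ideal.mul_le_right _
  have hp := isSemismallExt_quoMapG resP h𝔞' h𝔞 hle hmul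
  obtain ⟨φ, hφ⟩ := exists_homSet_factor resP resR g hg hgs (quoPtG resP _ h𝔞) (by
    intro x hx
    refine RingHom.mem_ker.2 ?_
    exact Ideal.Quotient.eq_zero_iff_mem.2 (le_sup_left (a := RingHom.ker (g : P →+* R)) hx))
  have hno : ∀ (K₀ : Ideal (quoArtG resP _ h𝔞' : Type u))
      (hK : K₀ ≤ IsLocalRing.maximalIdeal (quoArtG resP _ h𝔞' : Type u))
      (hKJ : K₀ ≤ RingHom.ker (quoMapG resP h𝔞' h𝔞 hle).toAlgHom),
      (∃ u'' : F.obj (Art.quot _ K₀ hK),
        F.map (Art.quotFactor hK (quoMapG resP h𝔞' h𝔞 hle) hKJ) u'' = ξ.app _ φ) →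
        RingHom.ker (quoMapG resP h𝔞' h𝔞 hle).toAlgHom ≤ K₀ := by
    rintro K₀ hK hKJ ⟨u'', hu''⟩
    have hq := isSemismallExt_quotFactor _ hp K₀ hK hKJ
    obtain ⟨ψ, hψ1, hψ2⟩ := hξ (Art.quotFactor hK (quoMapG resP h𝔞' h𝔞 hle) hKJ) hq.1 φ u'' hu''
    let χ : HomSet P resP (Art.quot _ K₀ hK) :=
      ⟨ψ.1.comp g, by rw [← AlgHom.comp_assoc, ψ.2, hg]⟩
    let χ' : HomSet P resP (Art.quot _ K₀ hK) :=
      HomSet.map (Art.quotMk _ K₀ hK) (quoPtG resP _ h𝔞')
    have hχ : HomSet.map (Art.quotFactor hK (quoMapG resP h𝔞' h𝔞 hle) hKJ) χ =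
        HomSet.map (Art.quotFactor hK (quoMapG resP h𝔞' h𝔞 hle) hKJ) χ' := by
      apply Subtype.ext
      apply AlgHom.ext
      intro x
      have h1 : (Art.quotFactor hK (quoMapG resP h𝔞' h𝔞 hle) hKJ) (ψ.1 (g x)) = φ.1 (g x) :=
        congrArg (fun t : HomSet R resR _ => t.1 (g x)) hψ1
      change (Art.quotFactor hK (quoMapG resP h𝔞' h𝔞 hle) hKJ) (ψ.1 (g x)) = _
      rw [h1, hφ]
      rfl
    intro z hz
    obtain ⟨a, ha, rfl⟩ := (mem_ker_quoMapG resP h𝔞' h𝔞 hle z).1 hz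
    obtain ⟨j, hj, t, ht, rfl⟩ := Submodule.mem_sup.1 ha
    have ht0 : (quoPtG resP _ h𝔞').1 t = 0 :=
      Ideal.Quotient.eq_zero_iff_mem.2 (le_sup_right (a := IsLocalRing.maximalIdeal P *
        RingHom.ker (g : P →+* R)) ht)
    rw [map_add, ht0, add_zero]
    have hagree := aug_lifts_agree_on_sq resP _ hq.2 χ χ' hχ (hJ hj)
    have h0 : χ.1 j = 0 := by
      change ψ.1 (g j) = 0
      rw [(RingHom.mem_ker.1 hj : g j = 0), map_zero]
    rw [h0] at hagree
    have h2 : Ideal.Quotient.mk K₀ ((quoPtG resP _ h𝔞').1 j) = 0 := hagree.symm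
    exact Ideal.Quotient.eq_zero_iff_mem.1 h2
  obtain ⟨hfin, hrank⟩ := finrank_ker_le_of_no_lift' T _ hp (ξ.app _ φ) hno
  haveI := hfin
  let b : Module.Basis (Fin (Module.finrank k
      ↥(RingHom.ker (quoMapG resP h𝔞' h𝔞 hle).toAlgHom))) k
      ↥(RingHom.ker (quoMapG resP h𝔞' h𝔞 hle).toAlgHom) := Module.finBasis k _
  have hlift : ∀ i, ∃ j ∈ RingHom.ker (g : P →+* R),
      (quoPtG resP _ h𝔞').1 j = ((b i : ↥(RingHom.ker (quoMapG resP h𝔞' h𝔞 hle).toAlgHom)) :
        (quoArtG resP _ h𝔞' : Type u)) := by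
    intro i
    obtain ⟨a, ha, hab⟩ := (mem_ker_quoMapG resP h𝔞' h𝔞 hle _).1 (b i).2
    obtain ⟨j, hj, t, ht, rfl⟩ := Submodule.mem_sup.1 ha
    refine ⟨j, hj, ?_⟩
    have ht0 : (quoPtG resP _ h𝔞').1 t = 0 :=
      Ideal.Quotient.eq_zero_iff_mem.2 (le_sup_right (a := IsLocalRing.maximalIdeal P *
        RingHom.ker (g : P →+* R)) ht)
    rw [← hab, map_add, ht0, add_zero]
  choose j hjJ hjb using hlift
  classical
  refine ⟨Finset.image j Finset.univ, ?_, ?_⟩
  · rw [Finset.coe_image, Finset.coe_univ, Set.image_univ]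
    apply le_antisymm
    · rw [Ideal.span_le]
      rintro _ ⟨i, rfl⟩
      exact hjJ i
    · apply Submodule.le_of_le_smul_of_le_jacobson_bot
        (I := IsLocalRing.maximalIdeal P) (IsNoetherian.noetherian _)
        (by rw [IsLocalRing.jacobson_eq_maximalIdeal ⊥ bot_ne_top])
      intro y hy
      have hyK : (quoPtG resP _ h𝔞').1 y ∈ RingHom.ker (quoMapG resP h𝔞' h𝔞 hle).toAlgHom :=
        (mem_ker_quoMapG resP h𝔞' h𝔞 hle _).2 ⟨y, Ideal.mem_sup_left hy, rfl⟩
      have hrepr := b.sum_repr ⟨_, hyK⟩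
      have hrepr' : ∑ i, (((b.repr ⟨_, hyK⟩ i) • b i :
          ↥(RingHom.ker (quoMapG resP h𝔞' h𝔞 hle).toAlgHom)) : (quoArtG resP _ h𝔞' : Type u)) =
          (quoPtG resP _ h𝔞').1 y := by
        rw [← Submodule.coe_sum]
        exact congrArg Subtype.val hrepr
      have h1 : (quoPtG resP _ h𝔞').1 (y - ∑ i, algebraMap k P (b.repr ⟨_, hyK⟩ i) * j i) = 0 := by
        rw [map_sub, map_sum, sub_eq_zero]
        refine hrepr'.symm.trans ?_
        apply Finset.sum_congr rfl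
        intro i _
        rw [map_mul, AlgHom.commutes, hjb, Submodule.coe_smul_of_tower, Algebra.smul_def]
      have h2 : y - ∑ i, algebraMap k P (b.repr ⟨_, hyK⟩ i) * j i ∈
          IsLocalRing.maximalIdeal P * RingHom.ker (g : P →+* R) ⊔
            IsLocalRing.maximalIdeal P ^ n := Ideal.Quotient.eq_zero_iff_mem.1 h1
      have hsum : ∑ i, algebraMap k P (b.repr ⟨_, hyK⟩ i) * j i ∈
          Ideal.span (Set.range j) :=
        Ideal.sum_mem _ fun i _ => Ideal.mul_mem_left _ _ (Ideal.subset_span ⟨i, rfl⟩)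
      have hspanJ : Ideal.span (Set.range j) ≤ RingHom.ker (g : P →+* R) := by
        rw [Ideal.span_le]
        rintro _ ⟨i, rfl⟩
        exact hjJ i
      have h3 : y - ∑ i, algebraMap k P (b.repr ⟨_, hyK⟩ i) * j i ∈
          RingHom.ker (g : P →+* R) := Ideal.sub_mem _ hy (hspanJ hsum)
      have h4 : y - ∑ i, algebraMap k P (b.repr ⟨_, hyK⟩ i) * j i ∈
          IsLocalRing.maximalIdeal P * RingHom.ker (g : P →+* R) := by
        have h5 : y - ∑ i, algebraMap k P (b.repr ⟨_, hyK⟩ i) * j i ∈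
            (IsLocalRing.maximalIdeal P * RingHom.ker (g : P →+* R) ⊔
              IsLocalRing.maximalIdeal P ^ n) ⊓ RingHom.ker (g : P →+* R) := ⟨h2, h3⟩
        rw [sup_inf_assoc_of_le _ (Ideal.mul_le_right)] at h5
        exact (sup_le le_rfl hn) h5
      have : y = ∑ i, algebraMap k P (b.repr ⟨_, hyK⟩ i) * j i +
          (y - ∑ i, algebraMap k P (b.repr ⟨_, hyK⟩ i) * j i) := by ring
      rw [this]
      exact Submodule.add_mem_sup hsum h4
  · refine Finset.card_image_le.trans ?_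
    rw [Finset.card_univ, Fintype.card_fin]
    exact hrank

theorem dim_le_of_weakObs {V : Type u} [AddCommGroup V] [Module k V] [Module.Finite k V]
    (T : WeakObs F V)
    {R : Type u} [CommRing R] [Algebra k R] (resR : R →ₐ[k] k) (g : P →ₐ[k] R)
    (hg : resR.comp g = resP) (hgs : Function.Surjective g)
    (hJ : RingHom.ker g ≤ IsLocalRing.maximalIdeal P ^ 2)
    (ξ : Family R resR F) (hξ : IsVersal ξ) :
    ringKrullDim P ≤ ringKrullDim R + (Module.finrank k V : WithBot ℕ∞) := by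
  obtain ⟨s, hs, hcard⟩ := exists_gens_card_le' resP T resR g hg hgs hJ ξ hξ
  have hquot : ringKrullDim (P ⧸ Ideal.span (s : Set P)) = ringKrullDim R := by
    rw [hs]
    exact ringKrullDim_eq_of_ringEquiv (RingHom.quotientKerEquivOfSurjective hgs)
  have hsjac : (s : Set P) ⊆ Ring.jacobson P := by
    intro x hx
    rw [IsLocalRing.ringJacobson_eq_maximalIdeal]
    have hx' : x ∈ RingHom.ker g := by
      rw [← hs]
      exact Ideal.subset_span hx
    exact (Ideal.pow_le_self two_ne_zero) (hJ hx')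
  have hkey : ringKrullDim P ≤ ringKrullDim R + (s.card : WithBot ℕ∞) := by
    rw [← hquot]
    exact ringKrullDim_le_ringKrullDim_quotient_add_card s hsjac
  have hcard' : (s.card : WithBot ℕ∞) ≤ (Module.finrank k V : WithBot ℕ∞) := by
    exact_mod_cast hcard
  exact hkey.trans (by gcongr)

end Presentation'

end Groth.Agent.Helper3.ArtFunLib
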