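import Mathlib
import Groth.Agent.Lib.Helper3.FO6

/-! Two first-order models `E φ`, `E ψ` of deformations of an affine scheme are isomorphic exactly
when `φ - ψ` is the restriction of a derivation (helper3). -/

set_option autoImplicit false
set_option linter.style.haveILetI false
set_option linter.unusedSectionVars false
universe u
open CategoryTheory CategoryTheory.Limits AlgebraicGeometry TensorProduct TrivSqZeroExt

namespace Groth.Agent.Helper3.FO

open ArtFun ArtFun.Art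

section Der

variable {k B₀ : Type u} [Field k] [CommRing B₀] [Algebra k B₀] (Q : Algebra.Extension.{u} k B₀)
  (φ ψ : Q.ker →ₗ[Q.Ring] B₀)

theorem exists_der_of_hom (R : E Q ψ →+* E Q φ)
    (hα : ∀ a : TrivSqZeroExt k k,
      R (αE Q ψ (ν₁ k B₀) (hν₁ Q) a) = αE Q φ (ν₁ k B₀) (hν₁ Q) a)
    (hι : ∀ e, ιE Q φ (R e) = ιE Q ψ e) :
    ∃ (d : Q.Ring → B₀) (hadd : ∀ p q, d (p + q) = d p + d q)
      (hmul : ∀ p q, d (p * q) = p • d q + q • d p),
      (∀ c : k, d (algebraMap k Q.Ring c) = 0) ∧ φ = ψ + dK Q d hadd hmul := by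
  have hex : ∀ p : Q.Ring, ∃ m : B₀,
      inclE Q φ m = R (mkE Q ψ (pr Q p 0)) - mkE Q φ (pr Q p 0) := by
    intro p
    apply exact_E
    rw [map_sub, hι, ιE_mk, ιE_mk]
    exact sub_self _
  choose d hd using hex
  have hinj := inclE_injective Q φ
  have h1 : ∀ χ : Q.ker →ₗ[Q.Ring] B₀,
      αE Q χ (ν₁ k B₀) (hν₁ Q) (inr 1) = inclE Q χ (1 : B₀) := by
    intro χ
    rw [αE_apply, inclE_apply, fst_inr, snd_inr, map_zero, ν₁_apply, map_one]
  have hRincl : ∀ m : B₀, R (inclE Q ψ m) = inclE Q φ m := by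
    intro m
    obtain ⟨e, he⟩ := ιE_surjective Q ψ m
    have e1 : inclE Q ψ m = e * inclE Q ψ 1 := by
      rw [mul_inclE, he, smul_eq_mul, mul_one]
    rw [e1, map_mul, ← h1 ψ, hα, h1 φ, mul_inclE, hι, he, smul_eq_mul, mul_one]
  have hmkg : ∀ (χ : Q.ker →ₗ[Q.Ring] B₀) (g : Q.ker),
      mkE Q χ (pr Q (g : Q.Ring) 0) = - inclE Q χ (χ g) := by
    intro χ g
    have h0 : mkE Q χ (pr Q (g : Q.Ring) (χ g)) = 0 := (mkE_eq_zero_iff Q χ _).mpr ⟨g, rfl⟩
    have h2 : pr Q (g : Q.Ring) (χ g) = pr Q (g : Q.Ring) 0 + pr Q 0 (χ g) := by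
      rw [pr_add, add_zero, zero_add]
    rw [h2, map_add, ← inclE_apply] at h0
    exact eq_neg_of_add_eq_zero_left h0
  have hadd : ∀ p q, d (p + q) = d p + d q := by
    intro p q
    apply hinj
    have h2 : pr Q (p + q) (0 : B₀) = pr Q p 0 + pr Q q 0 := by rw [pr_add, add_zero]
    rw [map_add, hd, hd, hd, h2, map_add, map_add, map_add]
    abel
  have hmul : ∀ p q, d (p * q) = p • d q + q • d p := by
    intro p q
    apply hinj
    have hpq : pr Q (p * q) (0 : B₀) = pr Q p 0 * pr Q q 0 := by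
      rw [pr_mul, smul_zero, smul_zero, add_zero]
    have ea : R (mkE Q ψ (pr Q p 0)) = mkE Q φ (pr Q p 0) + inclE Q φ (d p) := by
      rw [hd]; abel
    have eb : R (mkE Q ψ (pr Q q 0)) = mkE Q φ (pr Q q 0) + inclE Q φ (d q) := by
      rw [hd]; abel
    have e1 : mkE Q φ (pr Q p 0) * inclE Q φ (d q) = inclE Q φ (p • d q) := by
      rw [mul_inclE, ιE_mk, tfst_pr, algebraMap_smul]
    have e2 : mkE Q φ (pr Q q 0) * inclE Q φ (d p) = inclE Q φ (q • d p) := by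
      rw [mul_inclE, ιE_mk, tfst_pr, algebraMap_smul]
    have e3 : inclE Q φ (d p) * inclE Q φ (d q) = 0 := by
      rw [mul_inclE, ιE_inclE, zero_smul, map_zero]
    have hR : R (mkE Q ψ (pr Q p 0 * pr Q q 0)) =
        R (mkE Q ψ (pr Q p 0)) * R (mkE Q ψ (pr Q q 0)) := by rw [map_mul, map_mul]
    have hφm : mkE Q φ (pr Q p 0 * pr Q q 0) = mkE Q φ (pr Q p 0) * mkE Q φ (pr Q q 0) :=
      map_mul _ _ _
    rw [hd, hpq, hR, hφm, ea, eb, map_add, ← e1, ← e2]
    linear_combination e3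
  have hC : ∀ c : k, d (algebraMap k Q.Ring c) = 0 := by
    intro c
    apply hinj
    have e1 : ∀ χ : Q.ker →ₗ[Q.Ring] B₀, mkE Q χ (pr Q (algebraMap k Q.Ring c) 0) =
        αE Q χ (ν₁ k B₀) (hν₁ Q) (inl c) := by
      intro χ
      rw [αE_apply, fst_inl, snd_inl, map_zero]
    rw [hd, e1 ψ, hα, ← e1 φ, sub_self, map_zero]
  refine ⟨d, hadd, hmul, hC, ?_⟩
  refine LinearMap.ext fun g => ?_
  rw [LinearMap.add_apply, dK_apply]
  apply hinj
  have h3 := hd (g : Q.Ring)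
  rw [hmkg ψ g, hmkg φ g, map_neg, hRincl] at h3
  rw [map_add, h3]
  abel

end Der

section Cl

variable {Λ : Type u} {k : Type u} [CommRing Λ] [Field k] [Algebra Λ k]
variable {X : Scheme.{u}} [IsAffine X] (x : X ⟶ specPt k)

theorem exists_ringHom_of_cl_eq {A : Art Λ k} (D D' : RData x A)
    (h : (ofRing x D).cl = (ofRing x D').cl) :
    ∃ R : D'.E →+* D.E, (∀ a, R (D'.α a) = D.α a) ∧ ∀ e, D.ι (R e) = D'.ι e := by
  have hab : Quotient.mk (DefSch.setoid X x A) (ofRing x D) =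
      Quotient.mk (DefSch.setoid X x A) (ofRing x D') := h
  obtain ⟨e⟩ := Quotient.exact hab
  obtain ⟨ρ, hρ⟩ : ∃ ρ : CommRingCat.of D'.E ⟶ CommRingCat.of D.E, Spec.map ρ = e.iso.hom :=
    Spec.map_surjective _
  have h1 : Spec.map ρ ≫ Spec.map (CommRingCat.ofHom D'.α) = Spec.map (CommRingCat.ofHom D.α) := by
    rw [hρ]
    exact e.hom_f
  rw [← Spec.map_comp] at h1
  have h1' := Spec.map_injective h1
  have h2 : X.isoSpec.hom ≫ (Spec.map (CommRingCat.ofHom D.ι) ≫ Spec.map ρ) =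
      X.isoSpec.hom ≫ Spec.map (CommRingCat.ofHom D'.ι) := by
    rw [← Category.assoc, hρ]
    exact e.i_hom
  have h2' := (cancel_epi X.isoSpec.hom).mp h2
  rw [← Spec.map_comp] at h2'
  have h2'' := Spec.map_injective h2'
  refine ⟨ρ.hom, fun a => ?_, fun y => ?_⟩
  · exact congrArg (fun m => m.hom a) h1'
  · exact congrArg (fun m => m.hom y) h2''

variable (Q : Algebra.Extension.{u} k (ΓX x))

theorem Xi_eq_imp (φ ψ : Q.ker →ₗ[Q.Ring] ΓX x) (h : Xi Λ x Q φ = Xi Λ x Q ψ) :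
    ∃ (d : Q.Ring → ΓX x) (hadd : ∀ p q, d (p + q) = d p + d q)
      (hmul : ∀ p q, d (p * q) = p • d q + q • d p),
      (∀ c : k, d (algebraMap k Q.Ring c) = 0) ∧ φ = ψ + dK Q d hadd hmul := by
  obtain ⟨R, hR1, hR2⟩ := exists_ringHom_of_cl_eq x (rdata1 (Λ := Λ) x Q φ)
    (rdata1 (Λ := Λ) x Q ψ) h
  exact exists_der_of_hom Q φ ψ R (fun a => hR1 a) (fun e => hR2 e)

end Cl

end Groth.Agent.Helper3.FO
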