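import Mathlib
import Groth.Prelude.Def_CotT
import Groth.Agent.Lib.Helper3.T1Tors1
import Groth.Agent.Lib.Helper3.ObsE

/-! The tangent space of the deformation functor of an affine scheme with a presentation is `T¹`,
as a vector space (helper3). -/

set_option autoImplicit false
set_option linter.style.haveILetI false
set_option linter.unusedSectionVars false
universe u
open CategoryTheory CategoryTheory.Limits AlgebraicGeometry

namespace Groth.Agent.Helper3.Obs

open Groth.Agent.Helper3 Groth.Agent.Helper3.T1Tors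

section T1side

variable {k B₀ B₁ ι σ : Type u} [Field k] [CommRing B₀] [Algebra k B₀] [CommRing B₁] [Algebra k B₁]
  (P : Algebra.Presentation k B₀ ι σ) (Θ : B₀ ≃ₐ[k] B₁)

/-- the structure map of the transported extension -/
noncomputable abbrev tAlgHom : P.toExtension.Ring →ₐ[k] B₁ :=
  (Θ : B₀ →ₐ[k] B₁).comp (IsScalarTower.toAlgHom k P.toExtension.Ring B₀)

/-- the presentation transported along an isomorphism, as an extension -/
noncomputable abbrev tExt : Algebra.Extension.{u} k B₁ where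
  Ring := P.toExtension.Ring
  algebra₂ := (tAlgHom P Θ).toAlgebra
  isScalarTower :=
    letI := (tAlgHom P Θ).toAlgebra
    IsScalarTower.of_algebraMap_eq' (tAlgHom P Θ).comp_algebraMap.symm
  σ b := P.toExtension.σ (Θ.symm b)
  algebraMap_σ b := by
    show Θ (algebraMap P.toExtension.Ring B₀ (P.toExtension.σ (Θ.symm b))) = b
    rw [P.toExtension.algebraMap_σ, Θ.apply_symm_apply]

theorem algebraMap_tExt (g : P.toExtension.Ring) :
    algebraMap (tExt P Θ).Ring B₁ g = Θ (algebraMap P.toExtension.Ring B₀ g) := rfl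

/-- identity map, to help the elaborator -/
@[reducible] def toT (r : P.toExtension.Ring) : (tExt P Θ).Ring := r

/-- the variables, typed in the extension ring -/
@[reducible] noncomputable def Xv (i : ι) : P.toExtension.Ring := (MvPolynomial.X i : MvPolynomial ι k)

theorem ring_induction {motive : P.toExtension.Ring → Prop}
    (hC : ∀ a : k, motive (algebraMap k P.toExtension.Ring a))
    (hadd : ∀ p q : P.toExtension.Ring, motive p → motive q → motive (p + q))
    (hX : ∀ (p : P.toExtension.Ring) (i : ι), motive p → motive (p * Xv P i))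
    (g : P.toExtension.Ring) : motive g :=
  MvPolynomial.induction_on (motive := motive) g hC hadd hX

theorem mem_ker_tExt (g : P.toExtension.Ring) :
    g ∈ (tExt P Θ).ker ↔ algebraMap P.toExtension.Ring B₀ g = 0 := by
  constructor
  · intro h
    have h1 : algebraMap (tExt P Θ).Ring B₁ g = 0 := RingHom.mem_ker.mp h
    rw [algebraMap_tExt] at h1
    exact (EmbeddingLike.map_eq_zero_iff (f := Θ)).mp h1
  · intro h
    refine RingHom.mem_ker.mpr ?_
    rw [algebraMap_tExt, h, map_zero]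

theorem rel_mem (s : σ) : P.relation s ∈ (tExt P Θ).ker :=
  (mem_ker_tExt P Θ _).mpr (CotT.algebraMap_rel P s)

theorem jmap_mem (y : CotT.relMod P) : CotT.jmap P y ∈ (tExt P Θ).ker :=
  (mem_ker_tExt P Θ _).mpr (CotT.algebraMap_jmap P y)

theorem exists_jmap_eq (g : (tExt P Θ).ker) :
    ∃ y : CotT.relMod P, CotT.jmap P y = (g : P.toExtension.Ring) := by
  have h1 : (g : P.toExtension.Ring) ∈ LinearMap.range (CotT.jmap P) := by
    rw [CotT.range_jmap]
    exact RingHom.mem_ker.mpr ((mem_ker_tExt P Θ _).mp g.2)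
  exact h1

/-- the cochain attached to a linear map on the kernel -/
noncomputable def cOf (φ : (tExt P Θ).ker →ₗ[(tExt P Θ).Ring] B₁) (s : σ) : B₀ :=
  Θ.symm (φ ⟨P.relation s, rel_mem P Θ s⟩)

theorem Theta_cOf (φ : (tExt P Θ).ker →ₗ[(tExt P Θ).Ring] B₁) (s : σ) :
    Θ (cOf P Θ φ s) = φ ⟨P.relation s, rel_mem P Θ s⟩ :=
  Θ.apply_symm_apply _

theorem ev_cOf (φ : (tExt P Θ).ker →ₗ[(tExt P Θ).Ring] B₁) (y : CotT.relMod P) :
    Θ (ev P (cOf P Θ φ) y) = φ ⟨CotT.jmap P y, jmap_mem P Θ y⟩ := by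
  induction y using Finsupp.induction_linear with
  | zero =>
    have h0 : (⟨CotT.jmap P 0, jmap_mem P Θ 0⟩ : (tExt P Θ).ker) = 0 :=
      Subtype.ext (by show CotT.jmap P 0 = 0; exact map_zero _)
    rw [ev_zero, map_zero, h0, map_zero]
  | add y z hy hz =>
    have h0 : (⟨CotT.jmap P (y + z), jmap_mem P Θ (y + z)⟩ : (tExt P Θ).ker) =
        ⟨CotT.jmap P y, jmap_mem P Θ y⟩ + ⟨CotT.jmap P z, jmap_mem P Θ z⟩ :=
      Subtype.ext (by
        show CotT.jmap P (y + z) = CotT.jmap P y + CotT.jmap P z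
        exact map_add _ _ _)
    rw [ev_add, map_add, hy, hz, h0, map_add]
  | single s r =>
    have h0 : (⟨CotT.jmap P (Finsupp.single s r), jmap_mem P Θ _⟩ : (tExt P Θ).ker) =
        toT P Θ r • (⟨P.relation s, rel_mem P Θ s⟩ : (tExt P Θ).ker) :=
      Subtype.ext (by
        show CotT.jmap P (Finsupp.single s r) = r * CotT.rel P s
        exact CotT.jmap_single P s r)
    rw [ev_single, smul_eq_mul, map_mul, Theta_cOf, h0, map_smul, Algebra.smul_def,
      algebraMap_tExt]

theorem cOf_cocycle (φ : (tExt P Θ).ker →ₗ[(tExt P Θ).Ring] B₁) (q : CotT.relKer P) :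
    ev P (cOf P Θ φ) (q : CotT.relMod P) = 0 := by
  apply Θ.injective
  have hq : CotT.jmap P (q : CotT.relMod P) = 0 := q.2
  have h0 : (⟨CotT.jmap P q, jmap_mem P Θ q⟩ : (tExt P Θ).ker) = 0 := Subtype.ext hq
  rw [ev_cOf, h0, map_zero, map_zero]

/-- the class in `T¹` attached to a linear map on the kernel -/
noncomputable def Tmap (φ : (tExt P Θ).ker →ₗ[(tExt P Θ).Ring] B₁) : CotT.T1 P B₀ :=
  cls P (cOf P Θ φ) (cOf_cocycle P Θ φ)

theorem cls_congr {c c' : σ → B₀} (h : c = c')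
    (hc : ∀ q : CotT.relKer P, ev P c (q : CotT.relMod P) = 0)
    (hc' : ∀ q : CotT.relKer P, ev P c' (q : CotT.relMod P) = 0) :
    cls P c hc = cls P c' hc' := by
  subst h
  rfl

theorem cochain_add (c c' : σ → B₀) : cochain P (c + c') = cochain P c + cochain P c' := by
  apply (CotT.L1basis P).ext
  intro s
  rw [CotT.L1basis_apply, LinearMap.add_apply, cochain_basis, cochain_basis, cochain_basis]
  rfl

theorem cochain_ksmul (a : k) (c : σ → B₀) : cochain P (a • c) = a • cochain P c := by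
  apply (CotT.L1basis P).ext
  intro s
  rw [CotT.L1basis_apply, LinearMap.smul_apply, cochain_basis, cochain_basis]
  rfl

theorem cls_add (c c' : σ → B₀)
    (hc : ∀ q : CotT.relKer P, ev P c (q : CotT.relMod P) = 0)
    (hc' : ∀ q : CotT.relKer P, ev P c' (q : CotT.relMod P) = 0)
    (hcc' : ∀ q : CotT.relKer P, ev P (c + c') (q : CotT.relMod P) = 0) :
    cls P (c + c') hcc' = cls P c hc + cls P c' hc' := by
  unfold cls
  rw [← Submodule.Quotient.mk_add]
  exact congrArg _ (Subtype.ext (by exact cochain_add P c c'))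

theorem cls_ksmul (a : k) (c : σ → B₀)
    (hc : ∀ q : CotT.relKer P, ev P c (q : CotT.relMod P) = 0)
    (hac : ∀ q : CotT.relKer P, ev P (a • c) (q : CotT.relMod P) = 0) :
    cls P (a • c) hac = a • cls P c hc := by
  unfold cls
  rw [← Submodule.Quotient.mk_smul]
  exact congrArg _ (Subtype.ext (by exact cochain_ksmul P a c))

theorem cOf_add (φ ψ : (tExt P Θ).ker →ₗ[(tExt P Θ).Ring] B₁) :
    cOf P Θ (φ + ψ) = cOf P Θ φ + cOf P Θ ψ := by
  funext s
  show Θ.symm ((φ + ψ) _) = Θ.symm (φ _) + Θ.symm (ψ _)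
  rw [LinearMap.add_apply, map_add]

theorem cOf_smul (a : k) (φ : (tExt P Θ).ker →ₗ[(tExt P Θ).Ring] B₁) :
    cOf P Θ (algebraMap k (tExt P Θ).Ring a • φ) = a • cOf P Θ φ := by
  funext s
  show Θ.symm ((algebraMap k (tExt P Θ).Ring a • φ) _) = a • Θ.symm (φ _)
  rw [LinearMap.smul_apply, algebraMap_smul, map_smul]

theorem Tmap_add (φ ψ : (tExt P Θ).ker →ₗ[(tExt P Θ).Ring] B₁) :
    Tmap P Θ (φ + ψ) = Tmap P Θ φ + Tmap P Θ ψ := by
  have hcc : ∀ q : CotT.relKer P,
      ev P (cOf P Θ φ + cOf P Θ ψ) (q : CotT.relMod P) = 0 := by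
    intro q
    rw [← cOf_add]
    exact cOf_cocycle P Θ (φ + ψ) q
  unfold Tmap
  rw [cls_congr P (cOf_add P Θ φ ψ) _ hcc]
  exact cls_add P _ _ _ _ _

theorem Tmap_smul (a : k) (φ : (tExt P Θ).ker →ₗ[(tExt P Θ).Ring] B₁) :
    Tmap P Θ (algebraMap k (tExt P Θ).Ring a • φ) = a • Tmap P Θ φ := by
  have hcc : ∀ q : CotT.relKer P, ev P (a • cOf P Θ φ) (q : CotT.relMod P) = 0 := by
    intro q
    rw [← cOf_smul]
    exact cOf_cocycle P Θ _ q
  unfold Tmap
  rw [cls_congr P (cOf_smul P Θ a φ) _ hcc]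
  exact cls_ksmul P _ _ _ _

theorem ev_smul (c : σ → B₀) (r : P.toExtension.Ring) (y : CotT.relMod P) :
    ev P c (r • y) = algebraMap P.toExtension.Ring B₀ r • ev P c y := by
  induction y using Finsupp.induction_linear with
  | zero => rw [smul_zero, ev_zero, smul_zero]
  | add y z hy hz => rw [smul_add, ev_add, hy, hz, ev_add, smul_add]
  | single s r' =>
    rw [Finsupp.smul_single, ev_single, ev_single, show r • r' = r * r' from rfl, map_mul,
      mul_smul]

theorem ev_add_fun (c c' : σ → B₀) (y : CotT.relMod P) :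
    ev P (c + c') y = ev P c y + ev P c' y := by
  induction y using Finsupp.induction_linear with
  | zero => rw [ev_zero, ev_zero, ev_zero, add_zero]
  | add y z hy hz =>
    rw [ev_add, hy, hz, ev_add, ev_add]
    abel
  | single s r => rw [ev_single, ev_single, ev_single, Pi.add_apply, smul_add]

theorem dEta_zero (η : ι → B₀) : dEta P η 0 = 0 := by
  have h := dEta_add P η 0 0
  rw [add_zero] at h
  exact left_eq_add.mp h

theorem ev_dEta (η : ι → B₀) (y : CotT.relMod P) :
    ev P (fun s => dEta P η (P.relation s)) y = dEta P η (CotT.jmap P y) := by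
  induction y using Finsupp.induction_linear with
  | zero => rw [ev_zero, map_zero, dEta_zero]
  | add y z hy hz => rw [ev_add, hy, hz, map_add, dEta_add]
  | single s r =>
    rw [ev_single, CotT.jmap_single, dEta_mul, CotT.algebraMap_rel, zero_smul, add_zero]

theorem Tmap_surjective (t : CotT.T1 P B₀) : ∃ φ, Tmap P Θ φ = t := by
  obtain ⟨c, hc, rfl⟩ := exists_rep' P t
  choose yg hyg using exists_jmap_eq P Θ
  have hwd : ∀ y y' : CotT.relMod P, CotT.jmap P y = CotT.jmap P y' →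
      ev P c y = ev P c y' := by
    intro y y' h
    have h1 : y - y' ∈ CotT.relKer P :=
      LinearMap.mem_ker.mpr (by rw [map_sub, h, sub_self])
    have h2 : ev P c (y - y') = 0 := hc ⟨y - y', h1⟩
    have h3 : ev P c y = ev P c ((y - y') + y') := by rw [sub_add_cancel]
    rw [h3, ev_add, h2, zero_add]
  let φ : (tExt P Θ).ker →ₗ[(tExt P Θ).Ring] B₁ :=
    { toFun := fun g => Θ (ev P c (yg g))
      map_add' := fun g g' => by
        rw [← map_add, ← ev_add]
        congr 1
        apply hwd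
        rw [hyg, map_add, hyg, hyg]
        rfl
      map_smul' := fun r g => by
        show Θ (ev P c (yg (r • g))) = r • Θ (ev P c (yg g))
        rw [Algebra.smul_def, algebraMap_tExt, ← map_mul, ← smul_eq_mul, ← ev_smul]
        congr 1
        apply hwd
        rw [hyg, map_smul, hyg]
        rfl }
  have hφ : ∀ g, φ g = Θ (ev P c (yg g)) := fun g => rfl
  refine ⟨φ, ?_⟩
  have hcOf : cOf P Θ φ = c := by
    funext s
    apply Θ.injective
    rw [Theta_cOf, hφ]
    congr 1
    have h1 : ev P c (Finsupp.single s 1) = c s := by rw [ev_single, map_one, one_smul]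
    exact (hwd _ _ (by rw [hyg, CotT.jmap_single, one_mul])).trans h1
  unfold Tmap
  exact cls_congr P hcOf _ hc

theorem smul_Theta (p : P.toExtension.Ring) (b : B₀) :
    toT P Θ p • Θ b = Θ (algebraMap P.toExtension.Ring B₀ p • b) := by
  rw [Algebra.smul_def, algebraMap_tExt, smul_eq_mul, map_mul]

theorem symm_smul (p : P.toExtension.Ring) (b : B₁) :
    Θ.symm (toT P Θ p • b) = algebraMap P.toExtension.Ring B₀ p • Θ.symm b := by
  apply Θ.injective
  rw [← smul_Theta, Θ.apply_symm_apply, Θ.apply_symm_apply]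

theorem exists_der_of_Tmap_eq (φ ψ : (tExt P Θ).ker →ₗ[(tExt P Θ).Ring] B₁)
    (h : Tmap P Θ φ = Tmap P Θ ψ) :
    ∃ (d : (tExt P Θ).Ring → B₁) (hadd : ∀ p q, d (p + q) = d p + d q)
      (hmul : ∀ p q, d (p * q) = p • d q + q • d p),
      (∀ c : k, d (algebraMap k (tExt P Θ).Ring c) = 0) ∧
        φ = ψ + FO.dK (tExt P Θ) d hadd hmul := by
  obtain ⟨η, hη⟩ := (cls_eq_iff P _ _ (cOf_cocycle P Θ φ) (cOf_cocycle P Θ ψ)).mp h
  refine ⟨fun g => Θ (dEta P η g), ?_, ?_, ?_, ?_⟩
  · intro p q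
    show Θ (dEta P η (p + q)) = Θ (dEta P η p) + Θ (dEta P η q)
    rw [dEta_add, map_add]
  · intro p q
    show Θ (dEta P η (p * q)) = p • Θ (dEta P η q) + q • Θ (dEta P η p)
    rw [dEta_mul, map_add, smul_Theta, smul_Theta]
  · intro c
    show Θ (dEta P η (algebraMap k (tExt P Θ).Ring c)) = 0
    have h1 : (algebraMap k (tExt P Θ).Ring c : P.toExtension.Ring) =
        (MvPolynomial.C c : P.toExtension.Ring) := rfl
    rw [h1, dEta_C, map_zero]
  · refine LinearMap.ext fun g => ?_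
    rw [LinearMap.add_apply, FO.dK_apply]
    show φ g = ψ g + Θ (dEta P η (g : P.toExtension.Ring))
    obtain ⟨y, hy⟩ := exists_jmap_eq P Θ g
    have hg : (⟨CotT.jmap P y, jmap_mem P Θ y⟩ : (tExt P Θ).ker) = g := Subtype.ext hy
    have h1 : φ g = Θ (ev P (cOf P Θ φ) y) := by rw [ev_cOf, hg]
    have h2 : ψ g = Θ (ev P (cOf P Θ ψ) y) := by rw [ev_cOf, hg]
    have e1 : cOf P Θ φ = cOf P Θ ψ + fun s => dEta P η (P.relation s) := by
      funext s
      rw [Pi.add_apply]
      exact sub_eq_iff_eq_add'.mp (hη s)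
    have e2 : ev P (cOf P Θ φ) y = ev P (cOf P Θ ψ) y + dEta P η (CotT.jmap P y) := by
      rw [e1, ev_add_fun, ev_dEta]
    rw [h1, h2, e2, map_add, hy]

theorem Tmap_eq_of_der (φ ψ : (tExt P Θ).ker →ₗ[(tExt P Θ).Ring] B₁)
    (d : (tExt P Θ).Ring → B₁) (hadd : ∀ p q, d (p + q) = d p + d q)
    (hmul : ∀ p q, d (p * q) = p • d q + q • d p)
    (hC : ∀ c : k, d (algebraMap k (tExt P Θ).Ring c) = 0)
    (h : φ = ψ + FO.dK (tExt P Θ) d hadd hmul) : Tmap P Θ φ = Tmap P Θ ψ := by
  have key : ∀ g : P.toExtension.Ring,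
      Θ.symm (d g) = dEta P (fun i => Θ.symm (d (Xv P i))) g := by
    intro g
    refine ring_induction P (motive := fun g => Θ.symm (d g) =
      dEta P (fun i => Θ.symm (d (Xv P i))) g) ?_ ?_ ?_ g
    · intro a
      have h1 : d (algebraMap k P.toExtension.Ring a) = 0 := hC a
      have h2 : dEta P (fun i => Θ.symm (d (Xv P i))) (algebraMap k P.toExtension.Ring a) = 0 :=
        dEta_C P _ a
      rw [h1, h2, map_zero]
    · intro p q hp hq
      have h1 : d (p + q) = d p + d q := hadd p q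
      rw [h1, map_add, hp, hq, dEta_add]
    · intro p i hp
      have h1 : d (p * Xv P i) = toT P Θ p • d (Xv P i) + toT P Θ (Xv P i) • d p := hmul p (Xv P i)
      have h2 : dEta P (fun i => Θ.symm (d (Xv P i))) (Xv P i) = Θ.symm (d (Xv P i)) :=
        dEta_X P _ i
      rw [h1, map_add, symm_smul, symm_smul, dEta_mul, h2, hp]
  unfold Tmap
  refine (cls_eq_iff P _ _ _ _).mpr ⟨fun i => Θ.symm (d (Xv P i)), fun s => ?_⟩
  rw [← key]
  subst h
  unfold cOf
  rw [LinearMap.add_apply, FO.dK_apply, map_add, add_sub_cancel_left]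

end T1side

section Assembly

open ArtFun ArtFun.Art

variable {k : Type u} [Field k] (B₀ : Type u) [CommRing B₀] [Algebra k B₀] {ι σ : Type u}
  (P : Algebra.Presentation k B₀ ι σ)

theorem tangent_equiv_T1 (x : Spec (CommRingCat.of B₀) ⟶ specPt k)
    (hx : x = Spec.map (CommRingCat.ofHom (algebraMap k B₀)))
    [T : TangentStr (defFunctor (Λ := k) (Spec (CommRingCat.of B₀)) x)] :
    Nonempty (TangentSpace (defFunctor (Λ := k) (Spec (CommRingCat.of B₀)) x) ≃ₗ[k]
      CotT.T1 P B₀) := by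
  classical
  obtain ⟨θ, hθdef⟩ : ∃ θ : B₀ →+* FO.ΓX x,
      θ = (Scheme.ΓSpecIso (CommRingCat.of B₀)).inv.hom := ⟨_, rfl⟩
  have hθbij : Function.Bijective θ := by
    rw [hθdef]
    exact ConcreteCategory.bijective_of_isIso (Scheme.ΓSpecIso (CommRingCat.of B₀)).inv
  have hθ : ∀ c : k, θ (algebraMap k B₀ c) = algebraMap k (FO.ΓX x) c := by
    intro c
    have hnat := Scheme.ΓSpecIso_inv_naturality (CommRingCat.ofHom (algebraMap k B₀))
    rw [FO.algebraMap_ΓX, hθdef]
    subst hx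
    exact congrArg (fun m => m.hom c) hnat
  obtain ⟨Θ, -⟩ : ∃ Θ : B₀ ≃ₐ[k] FO.ΓX x, ∀ b, Θ b = θ b :=
    ⟨AlgEquiv.ofRingEquiv (f := RingEquiv.ofBijective θ hθbij) hθ, fun b => rfl⟩
  haveI : Algebra.FormallySmooth k (tExt P Θ).Ring :=
    inferInstanceAs (Algebra.FormallySmooth k (MvPolynomial ι k))
  have hXT : ∀ φ ψ : (tExt P Θ).ker →ₗ[(tExt P Θ).Ring] FO.ΓX x,
      FO.Xi k x (tExt P Θ) φ = FO.Xi k x (tExt P Θ) ψ ↔ Tmap P Θ φ = Tmap P Θ ψ := by
    intro φ ψ
    constructor
    · intro h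
      obtain ⟨d, hadd, hmul, hC, he⟩ := FO.Xi_eq_imp x (tExt P Θ) φ ψ h
      exact Tmap_eq_of_der P Θ φ ψ d hadd hmul hC he
    · intro h
      obtain ⟨d, hadd, hmul, hC, he⟩ := exists_der_of_Tmap_eq P Θ φ ψ h
      rw [he]
      exact FO.Xi_shift x (tExt P Θ) ψ d hadd hmul hC
  choose φz hφz using FO.Xi_surjective (Λ := k) x (tExt P Θ)
  have hΨ : ∀ φ, Tmap P Θ (φz (FO.Xi k x (tExt P Θ) φ)) = Tmap P Θ φ :=
    fun φ => (hXT _ _).mp (hφz _)
  let Ψ : TangentSpace (defFunctor (Λ := k) (Spec (CommRingCat.of B₀)) x) →ₗ[k] CotT.T1 P B₀ :=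
    { toFun := fun z => Tmap P Θ (φz z)
      map_add' := fun z w => by
        have e1 : z + w = FO.Xi k x (tExt P Θ) (φz z + φz w) := by
          rw [FO.Xi_add, hφz, hφz]
        show Tmap P Θ (φz (z + w)) = Tmap P Θ (φz z) + Tmap P Θ (φz w)
        rw [e1, hΨ, Tmap_add]
      map_smul' := fun c z => by
        have e1 : c • z = FO.Xi k x (tExt P Θ) (algebraMap k (tExt P Θ).Ring c • φz z) := by
          rw [FO.Xi_smul, hφz]
        show Tmap P Θ (φz (c • z)) = c • Tmap P Θ (φz z)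
        rw [e1, hΨ, Tmap_smul] }
  have hΨa : ∀ z, Ψ z = Tmap P Θ (φz z) := fun z => rfl
  have hinj : Function.Injective Ψ := by
    intro z w hzw
    rw [hΨa, hΨa] at hzw
    have h1 := (hXT _ _).mpr hzw
    rw [hφz, hφz] at h1
    exact h1
  have hsurj : Function.Surjective Ψ := by
    intro t
    obtain ⟨φ, rfl⟩ := Tmap_surjective P Θ t
    exact ⟨FO.Xi k x (tExt P Θ) φ, by rw [hΨa, hΨ]⟩
  exact ⟨LinearEquiv.ofBijective Ψ ⟨hinj, hsurj⟩⟩

end Assembly

end Groth.Agent.Helper3.Obs
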