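import Mathlib
import Groth.Agent.Lib.Helper3.ObsD
import Groth.Agent.Lib.Helper3.ArtFunD
import Groth.Agent.Lib.Helper3.SchlE
import Groth.Agent.Lib.Helper3.SchlO

/-! Dimension of a hull from the tangent space and a weak obstruction theory (helper3). -/

set_option linter.style.haveILetI false
set_option autoImplicit false

universe u v

open CategoryTheory

namespace Groth.Agent.Helper3.ArtFunLib

open ArtFun ArtFun.Art

section HullTangent

variable {k : Type u} [Field k] {F : Art k k ⥤ Type v}

/-- the tangent space of a functor with a family bijective on tangent spaces over a ring with a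
minimal presentation by `r` power series variables has dimension `r` -/
theorem finrank_tangent_eq [TangentStr F] (R : CRing k k) (ξ : Family R.carrier R.res F)
    (hbij : Function.Bijective (ξ.app (dual k k))) (r : ℕ)
    (g : (psCRing k r).carrier →ₐ[k] R.carrier) (hg : R.res.comp g = (psCRing k r).res)
    (hgs : Function.Surjective g)
    (hker : RingHom.ker g ≤ IsLocalRing.maximalIdeal (psCRing k r).carrier ^ 2) :
    Module.finrank k (TangentSpace F) = r := by
  classical
  letI : Algebra R.carrier k := R.res.toRingHom.toAlgebra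
  haveI : IsScalarTower k R.carrier k :=
    IsScalarTower.of_algebraMap_eq (fun l => (R.res.commutes l).symm)
  let pt : Derivation k R.carrier k → HomSet R.carrier R.res (dual k k) := fun D =>
    homSetOfDeriv R.res D (map_add D) (fun x y => by
      rw [Derivation.leibniz]; rfl) (fun l => D.map_algebraMap l)
  have hpt_snd : ∀ D y, dsnd ((pt D).1 y) = D y := fun _ _ => rfl
  let Φ : Derivation k R.carrier k →ₗ[k] TangentSpace F :=
    { toFun := fun D => ξ.app _ (pt D)
      map_add' := fun D D' => by
        obtain ⟨χ, h1, h2⟩ := IsFibreProd.exists_lift_homSet (isFibreProd_dual2 (Λ := k) (k := k))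
          (pt D) (pt D') (Subsingleton.elim (h := subsingleton_hR_base) _ _)
        have e := TangentStr.add_eq (F := F) (ξ.app _ χ)
        rw [← ξ.natural, ← ξ.natural, ← ξ.natural, h1, h2] at e
        have e3 : HomSet.map plus χ = pt (D + D') := by
          apply Subtype.ext
          apply AlgHom.ext
          intro y
          have hy1 := congrArg (fun t : HomSet R.carrier R.res (dual k k) => t.1 y) h1
          have hy2 := congrArg (fun t : HomSet R.carrier R.res (dual k k) => t.1 y) h2
          apply dual_ext
          · rw [dfst_homSet, dfst_homSet]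
          · have a1 : dsnd (pr₁ (χ.1 y)) = D y := congrArg dsnd hy1
            have a2 : dsnd (pr₂ (χ.1 y)) = D' y := congrArg dsnd hy2
            change dsnd (pr₁ (χ.1 y)) + dsnd (pr₂ (χ.1 y)) = D y + D' y
            rw [a1, a2]
        rw [e3] at e
        exact e.symm
      map_smul' := fun c D => by
        have e1 : pt (c • D) = HomSet.map (scale c) (pt D) :=
          Subtype.ext (AlgHom.ext fun y => dual_ext rfl rfl)
        change ξ.app _ (pt (c • D)) = c • (show TangentSpace F from ξ.app _ (pt D))
        rw [e1, ξ.natural]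
        exact (TangentStr.smul_eq (F := F) c _).symm }
  have hΦa : ∀ D, Φ D = ξ.app _ (pt D) := fun _ => rfl
  have hΦinj : Function.Injective Φ := by
    intro D D' h
    rw [hΦa, hΦa] at h
    have h1 : pt D = pt D' := hbij.1 h
    ext y
    rw [← hpt_snd D y, ← hpt_snd D' y, h1]
  -- derivations from points
  have hder : ∀ a : HomSet R.carrier R.res (dual k k),
      ∃ D : Derivation k R.carrier k, ∀ y, D y = dsnd (a.1 y) := by
    intro a
    let Dl : R.carrier →ₗ[k] k :=
      { toFun := fun y => dsnd (a.1 y)
        map_add' := fun y y' => by rw [map_add, dsnd_add]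
        map_smul' := fun l y => by
          rw [map_smul, dsnd_smul]; rfl }
    exact ⟨Derivation.mk' Dl (fun y y' => by
      change dsnd (a.1 (y * y')) = y • dsnd (a.1 y') + y' • dsnd (a.1 y)
      rw [map_mul, dsnd_mul, dfst_homSet, dfst_homSet]
      rfl), fun y => rfl⟩
  have hΦsurj : Function.Surjective Φ := by
    intro x
    obtain ⟨a, ha⟩ := hbij.2 x
    obtain ⟨D, hD⟩ := hder a
    refine ⟨D, ?_⟩
    rw [hΦa, ← ha]
    congr 1
    apply Subtype.ext
    apply AlgHom.ext
    intro y
    exact dual_ext ((dfst_homSet _ y).trans (dfst_homSet a y).symm) ((hpt_snd D y).trans (hD y))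
  let Ψ : Derivation k R.carrier k →ₗ[k] (Fin r → k) :=
    { toFun := fun D j => D (g ((psFreeData k r).gen j))
      map_add' := fun D D' => rfl
      map_smul' := fun c D => rfl }
  have hΨa : ∀ D j, Ψ D j = D (g ((psFreeData k r).gen j)) := fun _ _ => rfl
  -- points of `R` are determined by their values on the generators
  have hext : ∀ a a' : HomSet R.carrier R.res (dual k k),
      (∀ j, a.1 (g ((psFreeData k r).gen j)) = a'.1 (g ((psFreeData k r).gen j))) → a = a' := by
    intro a a' h
    let aP : HomSet (psCRing k r).carrier (psCRing k r).res (dual k k) :=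
      ⟨a.1.comp g, by rw [← AlgHom.comp_assoc, a.2, hg]⟩
    let aP' : HomSet (psCRing k r).carrier (psCRing k r).res (dual k k) :=
      ⟨a'.1.comp g, by rw [← AlgHom.comp_assoc, a'.2, hg]⟩
    have h1 : aP = aP' := (psFreeData k r).point_ext (dual k k) aP aP' (fun j => h j)
    apply Subtype.ext
    apply AlgHom.ext
    intro y
    obtain ⟨p, rfl⟩ := hgs y
    exact congrArg (fun t : HomSet (psCRing k r).carrier (psCRing k r).res (dual k k) => t.1 p) h1
  have hΨinj : Function.Injective Ψ := by
    intro D D' h
    have h1 : pt D = pt D' := by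
      apply hext
      intro j
      apply dual_ext
      · rw [dfst_homSet, dfst_homSet]
      · rw [hpt_snd, hpt_snd, ← hΨa, ← hΨa, h]
    ext y
    rw [← hpt_snd D y, ← hpt_snd D' y, h1]
  have hΨsurj : Function.Surjective Ψ := by
    intro v
    obtain ⟨χ, hχ⟩ := (psFreeData k r).exists_point (dual k k)
      (fun j => (show (dual k k) from (TrivSqZeroExt.inr (v j) : TrivSqZeroExt k k)))
      (fun j => (Art.mem_maximalIdeal_iff (dual k k) _).mpr (TrivSqZeroExt.fst_inr k (v j)))
    have hb : RingHom.ker g ≤ RingHom.ker χ.1 := fun p hp =>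
      RingHom.mem_ker.mpr (homSet_apply_eq_zero (psCRing k r) maximalIdeal_dual_sq χ p (hker hp))
    obtain ⟨φ, hφ⟩ := exists_homSet_factor (psCRing k r).res R.res g hg hgs χ hb
    obtain ⟨D, hD⟩ := hder φ
    refine ⟨D, funext fun j => ?_⟩
    rw [hΨa, hD, hφ, hχ]
    rfl
  have e1 := (LinearEquiv.ofBijective Φ ⟨hΦinj, hΦsurj⟩).finrank_eq
  have e2 := (LinearEquiv.ofBijective Ψ ⟨hΨinj, hΨsurj⟩).finrank_eq
  rw [← e1, e2, Module.finrank_fin_fun]

end HullTangent

section HullBounds

variable {k : Type u} [Field k] {F : Art k k ⥤ Type v}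

theorem hull_bounds (h0 : H0 F) [TangentStr F] (H : Hull F)
    {V₁ : Type u} [AddCommGroup V₁] [Module k V₁] (e₁ : TangentSpace F ≃ₗ[k] V₁)
    {V₂ : Type u} [AddCommGroup V₂] [Module k V₂] (W : WeakObs F V₂) :
    ringKrullDim H.ring.carrier ≤ ((Module.finrank k V₁ : ℕ∞) : WithBot ℕ∞) ∧
      (Module.Finite k V₂ →
        ((Module.finrank k V₁ : ℕ∞) : WithBot ℕ∞) ≤
          ringKrullDim H.ring.carrier + ((Module.finrank k V₂ : ℕ∞) : WithBot ℕ∞)) ∧
      (ringKrullDim H.ring.carrier = ((Module.finrank k V₁ : ℕ∞) : WithBot ℕ∞) ↔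
        IsSmoothFunctor F) := by
  classical
  obtain ⟨R, ξ, hv, hbij⟩ := H
  show ringKrullDim R.carrier ≤ ((Module.finrank k V₁ : ℕ∞) : WithBot ℕ∞) ∧
      (Module.Finite k V₂ →
        ((Module.finrank k V₁ : ℕ∞) : WithBot ℕ∞) ≤
          ringKrullDim R.carrier + ((Module.finrank k V₂ : ℕ∞) : WithBot ℕ∞)) ∧
      (ringKrullDim R.carrier = ((Module.finrank k V₁ : ℕ∞) : WithBot ℕ∞) ↔
        IsSmoothFunctor F)
  have hk : Function.Surjective (algebraMap k k) := Function.surjective_id
  have hbot : ∀ (S : Type u) [CommRing S] [Algebra k S],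
      (IsLocalRing.maximalIdeal k).map (algebraMap k S) = ⊥ := by
    intro S _ _
    rw [IsLocalRing.maximalIdeal_eq_bot, Ideal.map_bot]
  obtain ⟨r, x, hxm, hx, hmin⟩ := exists_min_gens (IsLocalRing.maximalIdeal R.carrier ^ 2 ⊔
          (IsLocalRing.maximalIdeal k).map (algebraMap k R.carrier))
  have hfd : IsLocalRing.maximalIdeal (psCRing k r).carrier ≤
      Ideal.span (Set.range (psFreeData k r).gen) ⊔
        (IsLocalRing.maximalIdeal k).map (algebraMap k (psCRing k r).carrier) := by
    refine le_trans (le_of_eq ?_) le_sup_left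
    exact maximalIdeal_ps k r
  obtain ⟨g, hg, hgs, -, hgmin⟩ :=
    minimal_presentation_of_gens hk (psFreeData k r) hfd R x hxm hx hmin
  have hkm : RingHom.ker g ≤ IsLocalRing.maximalIdeal (psCRing k r).carrier := by
    intro p hp
    rw [← cring_hom_mem_maximalIdeal_iff g hg, RingHom.mem_ker.1 hp]
    exact Ideal.zero_mem _
  have hker : RingHom.ker g ≤ IsLocalRing.maximalIdeal (psCRing k r).carrier ^ 2 := by
    intro p hp
    have h2 := hgmin p (hkm hp) (by rw [RingHom.mem_ker.1 hp]; exact Ideal.zero_mem _)
    rw [hbot, sup_bot_eq] at h2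
    exact h2
  have hfr : Module.finrank k (TangentSpace F) = r :=
    finrank_tangent_eq R ξ hbij r g hg hgs hker
  have hfr1 : Module.finrank k V₁ = r := by rw [← e₁.finrank_eq, hfr]
  have hdimP : ringKrullDim (psCRing k r).carrier = (r : WithBot ℕ∞) := ringKrullDim_ps k r
  have hcast : ((r : ℕ∞) : WithBot ℕ∞) = (r : WithBot ℕ∞) := rfl
  rw [hfr1, hcast]
  refine ⟨?_, ?_, ?_⟩
  · have h1 := ringKrullDim_le_spanFinrank_maximalIdeal R.carrier
    have h2 : (IsLocalRing.maximalIdeal R.carrier).spanFinrank =
        (IsLocalRing.maximalIdeal (psCRing k r).carrier).spanFinrank :=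
      spanFinrank_maximalIdeal_eq_of_ker_le_sq (g : (psCRing k r).carrier →+* R.carrier) hgs hker
    have h3 : (IsLocalRing.maximalIdeal (psCRing k r).carrier).spanFinrank ≤ r :=
      spanFinrank_maximalIdeal_ps_le k r
    refine h1.trans ?_
    rw [h2]
    exact_mod_cast h3
  · intro hfin
    haveI := hfin
    have h := dim_le_of_weakObs (psCRing k r).res W R.res g hg hgs hker ξ hv
    rw [hdimP] at h
    have hcast2 : ((Module.finrank k V₂ : ℕ∞) : WithBot ℕ∞) =
        (Module.finrank k V₂ : WithBot ℕ∞) := rfl
    rw [hcast2]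
    exact h
  · constructor
    · intro hdim
      -- `g` is injective
      have hinj : Function.Injective g := by
        rw [injective_iff_map_eq_zero]
        intro f hf
        by_contra hf0
        have hfnz : f ∈ nonZeroDivisors (psCRing k r).carrier := by
          haveI : NoZeroDivisors (psCRing k r).carrier :=
            inferInstanceAs (NoZeroDivisors (MvPowerSeries (Fin r) k))
          exact mem_nonZeroDivisors_of_ne_zero hf0
        have h1 := ringKrullDim_quotient_succ_le_of_nonZeroDivisor hfnz
        have hle : Ideal.span {f} ≤ RingHom.ker (g : (psCRing k r).carrier →+* R.carrier) := by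
          rw [Ideal.span_le]
          intro y hy
          rw [Set.mem_singleton_iff.mp hy]
          exact RingHom.mem_ker.mpr hf
        have h2 : ringKrullDim R.carrier ≤
            ringKrullDim ((psCRing k r).carrier ⧸ Ideal.span {f}) :=
          ringKrullDim_le_of_surjective
            (Ideal.Quotient.lift (Ideal.span {f}) (g : (psCRing k r).carrier →+* R.carrier)
              (fun a ha => RingHom.mem_ker.mp (hle ha)))
            (Ideal.Quotient.lift_surjective_of_surjective _ _ hgs)
        have h3 : (r : WithBot ℕ∞) + 1 ≤ (r : WithBot ℕ∞) := by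
          calc (r : WithBot ℕ∞) + 1 = ringKrullDim R.carrier + 1 := by rw [hdim]
            _ ≤ ringKrullDim ((psCRing k r).carrier ⧸ Ideal.span {f}) + 1 := by gcongr
            _ ≤ ringKrullDim (psCRing k r).carrier := h1
            _ = (r : WithBot ℕ∞) := hdimP
        have h4 : ((r + 1 : ℕ) : WithBot ℕ∞) ≤ ((r : ℕ) : WithBot ℕ∞) := by
          push_cast
          exact h3
        have h5 : r + 1 ≤ r := by exact_mod_cast h4
        omega
      have hkerbot : RingHom.ker g = ⊥ := (RingHom.injective_iff_ker_eq_bot _).1 hinj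
      intro B A μ hμ y
      obtain ⟨a, ha⟩ := surjective_app_of_isVersal h0 ξ hv A y
      let aP : HomSet (psCRing k r).carrier (psCRing k r).res A :=
        ⟨a.1.comp g, by rw [← AlgHom.comp_assoc, a.2, hg]⟩
      obtain ⟨χ, hχ⟩ := (psFreeData k r).exists_lift μ hμ aP
      have hb : RingHom.ker g ≤ RingHom.ker χ.1 := by
        rw [hkerbot]
        exact bot_le
      obtain ⟨φ, hφ⟩ := exists_homSet_factor (psCRing k r).res R.res g hg hgs χ hb
      have hmap : HomSet.map μ φ = a := by
        apply Subtype.ext
        apply AlgHom.ext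
        intro z
        obtain ⟨p, rfl⟩ := hgs z
        have h1 := congrArg
          (fun t : HomSet (psCRing k r).carrier (psCRing k r).res A => t.1 p) hχ
        change μ (χ.1 p) = a.1 (g p) at h1
        change μ (φ.1 (g p)) = a.1 (g p)
        rw [hφ, h1]
      refine ⟨ξ.app B φ, ?_⟩
      rw [← ξ.natural, hmap, ha]
    · intro hsm
      have hsmR : IsSmoothFunctor (hR R.carrier R.res) := by
        intro B A μ hμ a
        obtain ⟨y, hy⟩ := hsm μ hμ (ξ.app A a)
        obtain ⟨ψ, h1, -⟩ := hv μ hμ a y hy
        exact ⟨ψ, h1⟩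
      have hker' : RingHom.ker g ≤ IsLocalRing.maximalIdeal (psCRing k r).carrier ^ 2 ⊔
          (IsLocalRing.maximalIdeal k).map (algebraMap k (psCRing k r).carrier) :=
        hker.trans le_sup_left
      have hinj := injective_of_smooth_of_minimal hk g hg hgs hker' hsmR
      have h1 := ringKrullDim_eq_of_ringEquiv
        (RingEquiv.ofBijective (g : (psCRing k r).carrier →+* R.carrier) ⟨hinj, hgs⟩)
      rw [← h1, hdimP]

end HullBounds

end Groth.Agent.Helper3.ArtFunLib
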