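import Mathlib
import Groth.Prelude.Def_ega3
import Groth.Agent.Lib.Helper3.LocCrit

set_option autoImplicit false
universe u
open CategoryTheory Limits MonoidalCategory TensorProduct
open Groth.Agent.Helper3.LocCrit

namespace Groth.Agent.Helper3.OpcProj

theorem main_S14611 (A : Type u) [CommRing A] [IsNoetherianRing A]
    (Q : CochainComplex (ModuleCat.{u} A) ℤ)
    (hQ : ∀ i, Module.Finite A (Q.X i) ∧ Module.Projective A (Q.X i)) (d : ℤ)
    (h1 : ∀ p < d, IsZero (Q.homology p))
    (h2 : ∀ (m : Ideal A) [m.IsMaximal], ∀ p < d,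
      IsZero ((CohIII.tensorObj Q (ModuleCat.of A (A ⧸ m))).homology p)) :
    Module.Projective A (Q.opcycles d) := by
  obtain ⟨b, hb⟩ : ∃ b : ℤ, b + 1 = d := ⟨d - 1, by omega⟩
  obtain ⟨a, ha⟩ : ∃ a : ℤ, a + 1 = b := ⟨b - 1, by omega⟩
  have hprev_b : (ComplexShape.up ℤ).prev b = a := by simp [← ha]
  have hnext_b : (ComplexShape.up ℤ).next b = d := by simp [← hb]
  have hprev_d : (ComplexShape.up ℤ).prev d = b := by simp [← hb]
  let u : Q.X a →ₗ[A] Q.X b := (Q.d a b).hom
  let v : Q.X b →ₗ[A] Q.X d := (Q.d b d).hom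
  have huv : v ∘ₗ u = 0 := by
    have := Q.d_comp_d a b d
    have h := congrArg ModuleCat.Hom.hom this
    exact h
  haveI := (hQ b).1
  haveI := (hQ d).1
  haveI := (hQ d).2
  haveI : Module.FinitePresentation A (Q.X d ⧸ LinearMap.range v) :=
    Module.finitePresentation_of_finite A _
  have hex : ∀ (𝔪 : Ideal A) [𝔪.IsMaximal],
      Function.Exact (u.rTensor (A ⧸ 𝔪)) (v.rTensor (A ⧸ 𝔪)) := by
    intro 𝔪 _
    have hz := h2 𝔪 b (by omega)
    have hE := (HomologicalComplex.exactAt_iff_isZero_homology _ _).mpr hz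
    rw [HomologicalComplex.exactAt_iff' _ a b d hprev_b hnext_b] at hE
    exact (ShortComplex.ShortExact.moduleCat_exact_iff_function_exact _).mp hE
  have hproj := projective_coker u v huv hex
  -- identify the cokernel with opcycles
  have hS : (ShortComplex.mk (Q.d b d) (Q.pOpcycles d) (Q.d_pOpcycles b d)).Exact :=
    ShortComplex.exact_of_g_is_cokernel _ (Q.opcyclesIsCokernel b d hprev_d)
  have hfe := (ShortComplex.ShortExact.moduleCat_exact_iff_function_exact _).mp hS
  have hker : LinearMap.ker (Q.pOpcycles d).hom = LinearMap.range v :=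
    (LinearMap.exact_iff).mp hfe
  have hsurj : Function.Surjective (Q.pOpcycles d).hom :=
    (ModuleCat.epi_iff_surjective _).mp inferInstance
  let e : (Q.X d ⧸ LinearMap.range v) ≃ₗ[A] Q.opcycles d :=
    (Submodule.quotEquivOfEq _ _ hker.symm).trans
      (LinearMap.quotKerEquivOfSurjective (Q.pOpcycles d).hom hsurj)
  exact Module.Projective.of_equiv e

end Groth.Agent.Helper3.OpcProj
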