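import Mathlib.CategoryTheory.Localization.CalculusOfFractions
import Mathlib.CategoryTheory.Comma.Over.Basic

/-! Localization of slice categories under a right calculus of fractions. -/

set_option linter.unusedSectionVars false

open CategoryTheory

universe u₁ v₁ u₂ v₂ u₃ v₃

namespace Groth.Agent.Helper3.OverLoc

variable {C : Type u₁} [Category.{v₁} C] (W : MorphismProperty C) (S : C)

instance hasRightCalculusOfFractions_over [W.HasRightCalculusOfFractions] :
    (W.inverseImage (Over.forget S)).HasRightCalculusOfFractions where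
  exists_rightFraction X Y φ := by
    obtain ⟨ψ, hψ⟩ := MorphismProperty.HasRightCalculusOfFractions.exists_rightFraction
      (W := W) (MorphismProperty.LeftFraction.mk φ.f.left φ.s.left φ.hs)
    dsimp at hψ
    have h1 : ψ.f ≫ Y.hom = ψ.s ≫ X.hom := by
      rw [← Over.w φ.s, ← Over.w φ.f, ← Category.assoc, ← hψ, Category.assoc]
    refine ⟨⟨Over.homMk (U := Over.mk (ψ.s ≫ X.hom)) ψ.s rfl, ψ.hs,
      Over.homMk (U := Over.mk (ψ.s ≫ X.hom)) ψ.f h1⟩, ?_⟩
    ext
    exact hψ
  ext X Y Y' f₁ f₂ s hs h := by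
    obtain ⟨X', t, ht, fac⟩ := MorphismProperty.HasRightCalculusOfFractions.ext (W := W)
      f₁.left f₂.left s.left hs (by rw [← Over.comp_left, h, Over.comp_left])
    exact ⟨Over.mk (t ≫ X.hom), Over.homMk t rfl, ht, by ext; exact fac⟩

end Groth.Agent.Helper3.OverLoc

namespace Groth.Agent.Helper3.OverLoc

section general

variable {A : Type*} {B : Type*} {C' : Type*} [Category A] [Category B] [Category C']

lemma full_of_essSurj_comp (F : A ⥤ B) (G : B ⥤ C') [F.EssSurj]
    (h : ∀ (a b : A) (φ : G.obj (F.obj a) ⟶ G.obj (F.obj b)),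
      ∃ ψ : F.obj a ⟶ F.obj b, G.map ψ = φ) : G.Full where
  map_surjective {X Y} φ := by
    obtain ⟨ψ, hψ⟩ := h (F.objPreimage X) (F.objPreimage Y)
      (G.map (F.objObjPreimageIso X).hom ≫ φ ≫ G.map (F.objObjPreimageIso Y).inv)
    refine ⟨(F.objObjPreimageIso X).inv ≫ ψ ≫ (F.objObjPreimageIso Y).hom, ?_⟩
    simp only [Functor.map_comp, hψ, Category.assoc]
    rw [← G.map_comp, Iso.inv_hom_id, G.map_id, Category.comp_id, ← G.map_comp_assoc,
      Iso.inv_hom_id, G.map_id, Category.id_comp]

lemma faithful_of_essSurj_comp (F : A ⥤ B) (G : B ⥤ C') [F.EssSurj]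
    (h : ∀ (a b : A) (φ ψ : F.obj a ⟶ F.obj b), G.map φ = G.map ψ → φ = ψ) : G.Faithful where
  map_injective {X Y} φ ψ hφψ := by
    have := h (F.objPreimage X) (F.objPreimage Y)
      ((F.objObjPreimageIso X).hom ≫ φ ≫ (F.objObjPreimageIso Y).inv)
      ((F.objObjPreimageIso X).hom ≫ ψ ≫ (F.objObjPreimageIso Y).inv)
      (by simp only [Functor.map_comp, hφψ])
    simpa using this

end general

end Groth.Agent.Helper3.OverLoc

namespace Groth.Agent.Helper3.OverLoc

section main

variable {C : Type u₁} [Category.{v₁} C] (W : MorphismProperty C) [W.HasRightCalculusOfFractions]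
  (S : C) {D : Type u₂} [Category.{v₂} D] (L : C ⥤ D) [L.IsLocalization W]
  {E : Type u₃} [Category.{v₃} E] (L' : Over S ⥤ E)
  [L'.IsLocalization (W.inverseImage (Over.forget S))]
  (Φ : E ⥤ Over (L.obj S)) (e : L' ⋙ Φ ≅ Over.post L)

/-- forget a right fraction in `Over S` to a right fraction in `C`. -/
def forgetFrac {a b : Over S} (ρ : (W.inverseImage (Over.forget S)).RightFraction a b) :
    W.RightFraction a.left b.left :=
  ⟨ρ.s.left, ρ.hs, ρ.f.left⟩

include e in
lemma key {a b : Over S} (ρ : (W.inverseImage (Over.forget S)).RightFraction a b) :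
    ((e.inv.app a ≫ Φ.map (ρ.map L' (Localization.inverts _ _)) ≫ e.hom.app b).left :
      L.obj a.left ⟶ L.obj b.left) =
      (forgetFrac W S ρ).map L (Localization.inverts _ _) := by
  have h1 : (Over.post L).map ρ.s ≫ e.inv.app a ≫
      Φ.map (ρ.map L' (Localization.inverts _ _)) ≫ e.hom.app b = (Over.post L).map ρ.f := by
    have := e.inv.naturality ρ.s
    rw [← Category.assoc, this]
    dsimp
    rw [Category.assoc, ← Φ.map_comp_assoc, MorphismProperty.RightFraction.map_s_comp_map]
    have := e.hom.naturality ρ.f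
    dsimp at this
    rw [this, Iso.inv_hom_id_app_assoc]
  have h2 := congrArg CommaMorphism.left h1
  have : IsIso (L.map ρ.s.left) := Localization.inverts L W _ ρ.hs
  refine (cancel_epi (L.map ρ.s.left)).1 ?_
  refine Eq.trans ?_ (MorphismProperty.RightFraction.map_s_comp_map (forgetFrac W S ρ) L
    (Localization.inverts _ _)).symm
  exact h2

lemma rel_lift {a b : Over S} (ρ₁ ρ₂ : (W.inverseImage (Over.forget S)).RightFraction a b)
    (h : MorphismProperty.RightFractionRel (forgetFrac W S ρ₁) (forgetFrac W S ρ₂)) :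
    MorphismProperty.RightFractionRel ρ₁ ρ₂ := by
  obtain ⟨Z, t₁, t₂, hs, hf, ht⟩ := h
  dsimp [forgetFrac] at t₁ t₂ hs hf ht
  have h2 : t₂ ≫ ρ₂.X'.hom = t₁ ≫ ρ₁.X'.hom := by
    rw [← Over.w ρ₂.s, ← Over.w ρ₁.s, ← Category.assoc, ← hs, Category.assoc]
  refine ⟨Over.mk (t₁ ≫ ρ₁.X'.hom), Over.homMk t₁ rfl, Over.homMk t₂ h2, ?_, ?_, ?_⟩
  · ext; exact hs
  · ext; exact hf
  · exact ht

include W L e in
lemma faithful : Φ.Faithful := by
  have : L'.EssSurj := Localization.essSurj L' (W.inverseImage (Over.forget S))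
  refine faithful_of_essSurj_comp L' Φ ?_
  intro a b g₁ g₂ h
  obtain ⟨ρ₁, rfl⟩ := Localization.exists_rightFraction L' (W.inverseImage (Over.forget S)) g₁
  obtain ⟨ρ₂, rfl⟩ := Localization.exists_rightFraction L' (W.inverseImage (Over.forget S)) g₂
  rw [MorphismProperty.RightFraction.map_eq_iff]
  apply rel_lift
  rw [← MorphismProperty.RightFraction.map_eq_iff L, ← key W S L L' Φ e ρ₁, ← key W S L L' Φ e ρ₂, h]

include W L e in
lemma full : Φ.Full := by
  have : L'.EssSurj := Localization.essSurj L' (W.inverseImage (Over.forget S))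
  refine full_of_essSurj_comp L' Φ ?_
  intro a b h
  let h' : (Over.post L).obj a ⟶ (Over.post L).obj b := e.inv.app a ≫ h ≫ e.hom.app b
  obtain ⟨φ, hφ⟩ := Localization.exists_rightFraction L W
    (h'.left : L.obj a.left ⟶ L.obj b.left)
  have hw : L.map (φ.f ≫ b.hom) = L.map (φ.s ≫ a.hom) := by
    have := Over.w h'
    have h3 : (h'.left : L.obj a.left ⟶ L.obj b.left) ≫ L.map b.hom = L.map a.hom := this
    have h4 : φ.map L (Localization.inverts _ _) ≫ L.map b.hom = L.map a.hom := by
      rw [← hφ]; exact h3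
    calc L.map (φ.f ≫ b.hom) = L.map φ.s ≫ φ.map L (Localization.inverts _ _) ≫ L.map b.hom := by
          rw [MorphismProperty.RightFraction.map_s_comp_map_assoc, L.map_comp]
      _ = L.map (φ.s ≫ a.hom) := by rw [h4, L.map_comp]
  rw [MorphismProperty.map_eq_iff_precomp L W] at hw
  obtain ⟨X, t, ht, fac⟩ := hw
  let ρ : (W.inverseImage (Over.forget S)).RightFraction a b :=
    ⟨Over.homMk (U := Over.mk (t ≫ φ.s ≫ a.hom)) (t ≫ φ.s) (by simp),
      W.comp_mem _ _ ht φ.hs,
      Over.homMk (U := Over.mk (t ≫ φ.s ≫ a.hom)) (t ≫ φ.f) (by simpa using fac)⟩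
  refine ⟨ρ.map L' (Localization.inverts _ _), ?_⟩
  have hk := key W S L L' Φ e ρ
  have : (forgetFrac W S ρ).map L (Localization.inverts _ _) =
      φ.map L (Localization.inverts _ _) := by
    rw [MorphismProperty.RightFraction.map_eq_iff]
    exact ⟨X, 𝟙 _, t, by simp [forgetFrac, ρ], by simp [forgetFrac, ρ], by
      simpa [forgetFrac, ρ] using W.comp_mem _ _ ht φ.hs⟩
  rw [this, ← hφ] at hk
  have hk' : e.inv.app a ≫ Φ.map (ρ.map L' (Localization.inverts _ _)) ≫ e.hom.app b = h' := by
    ext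
    exact hk
  have := congrArg (fun x => e.hom.app a ≫ x ≫ e.inv.app b) hk'
  simpa [h'] using this

include W e in
lemma essSurj : Φ.EssSurj where
  mem_essImage Y := by
    have : L.EssSurj := Localization.essSurj L W
    let i := L.objObjPreimageIso Y.left
    obtain ⟨φ, hφ⟩ := Localization.exists_rightFraction L W (i.hom ≫ Y.hom)
    have hiso : IsIso (L.map φ.s) := Localization.inverts L W _ φ.hs
    have hw : (L.map φ.s ≫ i.hom) ≫ Y.hom = L.map φ.f := by
      rw [Category.assoc, hφ, MorphismProperty.RightFraction.map_s_comp_map]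
    let k : L.obj φ.X' ≅ Y.left := asIso (L.map φ.s) ≪≫ i
    let j : (Over.post L).obj (Over.mk φ.f) ≅ Y :=
      Over.isoMk k hw
    exact ⟨L'.obj (Over.mk φ.f), ⟨e.app _ ≪≫ j⟩⟩

include W e in
theorem isEquivalence : Φ.IsEquivalence :=
  have := faithful W S L L' Φ e
  have := full W S L L' Φ e
  have := essSurj W S L L' Φ e
  {}

end main

end Groth.Agent.Helper3.OverLoc
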