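import Mathlib

set_option autoImplicit false
universe u
open CategoryTheory Limits Opposite

namespace Groth.Agent.Helper3.OverPostProd

variable {C D : Type u} [SmallCategory C] [SmallCategory D] (Φ : C ⥤ D) (U : C)

/-- `Over.post Φ` preserves the terminal object -/
instance preservesTerminal_overPost [HasFiniteProducts (Over U)] [HasFiniteProducts (Over (Φ.obj U))] :
    PreservesLimitsOfShape (Discrete.{0} PEmpty) (Over.post (X := U) Φ) := by
  have h1 : IsTerminal ((Over.post (X := U) Φ).obj (Over.mk (𝟙 U))) := by
    have e : (Over.post (X := U) Φ).obj (Over.mk (𝟙 U)) = Over.mk (𝟙 (Φ.obj U)) := by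
      change Over.mk (Φ.map (𝟙 U)) = _
      rw [Φ.map_id]
    rw [e]
    exact Over.mkIdTerminal
  have e2 : (Over.post (X := U) Φ).obj (⊤_ (Over U)) ≅ ⊤_ (Over (Φ.obj U)) :=
    (Over.post (X := U) Φ).mapIso (terminalIsTerminal.uniqueUpToIso Over.mkIdTerminal) ≪≫
      h1.uniqueUpToIso terminalIsTerminal
  have := preservesTerminal_of_iso (Over.post (X := U) Φ) e2
  exact preservesLimitsOfShape_pempty_of_preservesTerminal _

/-- `Over.post Φ` preserves finite products when `Φ` preserves pullbacks -/
instance preservesFiniteProducts_overPost [HasFiniteProducts (Over U)] [HasFiniteProducts (Over (Φ.obj U))]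
    [PreservesLimitsOfShape WalkingCospan Φ] :
    PreservesFiniteProducts (Over.post (X := U) Φ) :=
  Limits.PreservesFiniteProducts.of_preserves_binary_and_terminal _

end Groth.Agent.Helper3.OverPostProd
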