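import Mathlib

set_option autoImplicit false
universe u
open CategoryTheory Limits Opposite

namespace Groth.Agent.Helper3.OverPostProd2

variable {C D : Type u} [SmallCategory C] [SmallCategory D] (Φ : C ⥤ D) (U : C)

/-- `Over.post Φ` preserves the terminal object (no assumption on the target) -/
lemma preservesTerminal_overPost :
    PreservesLimitsOfShape (Discrete.{0} PEmpty) (Over.post (X := U) Φ) := by
  have h1 : IsTerminal ((Over.post (X := U) Φ).obj (Over.mk (𝟙 U))) := by
    have e : (Over.post (X := U) Φ).obj (Over.mk (𝟙 U)) = Over.mk (𝟙 (Φ.obj U)) := by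
      change Over.mk (Φ.map (𝟙 U)) = _
      rw [Φ.map_id]
    rw [e]
    exact Over.mkIdTerminal
  have : PreservesLimit (Functor.empty.{0} (Over U)) (Over.post (X := U) Φ) :=
    preservesLimit_of_preserves_limit_cone (Over.mkIdTerminal (X := U))
      ((isLimitMapConeEmptyConeEquiv _ _).symm h1)
  exact preservesLimitsOfShape_pempty_of_preservesTerminal _

/-- `Over.post Φ` preserves finite products when `Φ` preserves pullbacks -/
lemma preservesFiniteProducts_overPost [HasFiniteProducts (Over U)]
    [PreservesLimitsOfShape WalkingCospan Φ] :
    PreservesFiniteProducts (Over.post (X := U) Φ) := by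
  have := preservesTerminal_overPost Φ U
  exact Limits.PreservesFiniteProducts.of_preserves_binary_and_terminal _

end Groth.Agent.Helper3.OverPostProd2
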