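import Mathlib
import Groth.Prelude.Def_FibDesc
import Groth.Agent.Lib.Helper3.DC5
import Groth.Agent.Lib.Helper3.DC22

/-!
# The inverse image of sheaves on the total site along a morphism of simplicial spaces
-/

set_option autoImplicit false
set_option backward.isDefEq.respectTransparency false
open CategoryTheory Limits Opposite TopologicalSpace Pseudofunctor.CoGrothendieck Simplicial

universe u
namespace Groth.Agent.Helper3.PC1

open DC2 DC5 DC22

noncomputable section

variable {Y Z : W' ⥤ TopCat.{u}} (α : Z ⟶ Y)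

/-- the component of the morphism at a simplicial level -/
abbrev αn (n : SimplexCategoryᵒᵖ) : Z.obj (tA n) ⟶ Y.obj (tA n) := α.app (tA n)

lemma map_pre {n m : SimplexCategoryᵒᵖ} (φ : n ⟶ m) (U : Opens (Y.obj (tA m))) :
    (Opens.map (Z.map ((FibDesc.toAug SimplexCategory).map φ))).obj ((Opens.map (αn α m)).obj U) =
      (Opens.map (αn α n)).obj
        ((Opens.map (Y.map ((FibDesc.toAug SimplexCategory).map φ))).obj U) := by
  have h := α.naturality ((FibDesc.toAug SimplexCategory).map φ)
  change (Opens.map (Z.map ((FibDesc.toAug SimplexCategory).map φ) ≫ αn α m)).obj U =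
    (Opens.map (αn α n ≫ Y.map ((FibDesc.toAug SimplexCategory).map φ))).obj U
  rw [h]

/-- constructor for morphisms of the total category -/
def homP (Y : W' ⥤ TopCat.{u}) {t t' : TP Y} (φ : t.base ⟶ t'.base)
    (h : fibP Y t ≤ (Opens.map (Y.map ((FibDesc.toAug SimplexCategory).map φ))).obj (fibP Y t')) :
    t ⟶ t' :=
  ⟨φ, (homOfLE h : fibP Y t ⟶
    (Opens.map (Y.map ((FibDesc.toAug SimplexCategory).map φ))).obj (fibP Y t'))⟩

lemma le_of_homP (Y : W' ⥤ TopCat.{u}) {t t' : TP Y} (g : t ⟶ t') :
    fibP Y t ≤ (Opens.map (Y.map ((FibDesc.toAug SimplexCategory).map g.base))).obj (fibP Y t') :=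
  leOfHom g.fiber

/-- the object `(n, U)` -/
abbrev objP (Y : W' ⥤ TopCat.{u}) (n : SimplexCategoryᵒᵖ) (U : Opens (Y.obj (tA n))) : TP Y := ⟨n, U⟩

/-- the preimage functor on the total categories -/
def uP : TP Y ⥤ TP Z where
  obj t := objP Z t.base ((Opens.map (αn α t.base)).obj (fibP Y t))
  map {t t'} g := homP Z (t := objP Z t.base ((Opens.map (αn α t.base)).obj (fibP Y t)))
    (t' := objP Z t'.base ((Opens.map (αn α t'.base)).obj (fibP Y t'))) g.base (by
    have h := le_of_homP Y g
    have h' : (Opens.map (αn α t.base)).obj (fibP Y t) ≤ (Opens.map (αn α t.base)).obj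
      ((Opens.map (Y.map ((FibDesc.toAug SimplexCategory).map g.base))).obj (fibP Y t')) :=
      fun _ hx => h hx
    exact h'.trans (le_of_eq (map_pre α g.base (fibP Y t')).symm))
  map_id t := homP_ext Z _ _ rfl
  map_comp f g := homP_ext Z _ _ rfl

/-- the topology of the total site of the simplicial part -/
abbrev KP (Y : W' ⥤ TopCat.{u}) : GrothendieckTopology (TP Y) :=
  FibDesc.totPart (FibDesc.topAug Y) (FibDesc.topAugTop Y)

/-- the inclusion of a level -/
abbrev ιP (Y : W' ⥤ TopCat.{u}) (n : SimplexCategoryᵒᵖ) : Opens (Y.obj (tA n)) ⥤ TP Y :=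
  ι (FibDesc.part (FibDesc.topAug Y)) n

/-- compatibility with the inclusions of the levels -/
def ιuP (n : SimplexCategoryᵒᵖ) : ιP Y n ⋙ uP α ≅ Opens.map (αn α n) ⋙ ιP Z n :=
  NatIso.ofComponents (fun U => Iso.refl _) (fun {U V} g => homP_ext Z _ _ (by
    change ((ιP Y n ⋙ uP α).map g ≫ 𝟙 _).base = (𝟙 _ ≫ (Opens.map (αn α n) ⋙ ιP Z n).map g).base
    rw [Category.comp_id, Category.id_comp]
    rfl))

instance uP_continuous : (uP α).IsContinuous (KP Y) (KP Z) := by
  rw [Groth.Agent.Lib.Helper5.FibTot.isContinuous_iff _ (isPreFibSite_part Y)]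
  intro n
  haveI h0 : (ιP Z n).IsContinuous (Opens.grothendieckTopology (Z.obj (tA n))) (KP Z) :=
    ι_part_continuous Z n
  haveI : (Opens.map (αn α n) ⋙ ιP Z n).IsContinuous
      (Opens.grothendieckTopology (Y.obj (tA n))) (KP Z) :=
    Functor.isContinuous_comp (Opens.map (αn α n)) (ιP Z n)
      (Opens.grothendieckTopology (Y.obj (tA n))) (Opens.grothendieckTopology (Z.obj (tA n))) (KP Z)
  exact Functor.isContinuous_of_iso (ιuP α n).symm _ _

/-- the base component of a structured arrow -/
abbrev saBase {t' : TP Z} (A : StructuredArrow t' (uP α)) : t'.base ⟶ A.right.base := A.hom.base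

/-- the open set of the level of `t'` attached to a structured arrow -/
abbrev saOpen {t' : TP Z} (A : StructuredArrow t' (uP α)) : Opens (Y.obj (tA t'.base)) :=
  (Opens.map (Y.map ((FibDesc.toAug SimplexCategory).map (saBase α A)))).obj (fibP Y A.right)

lemma le_saOpen {t' : TP Z} (A : StructuredArrow t' (uP α)) :
    fibP Z t' ≤ (Opens.map (αn α t'.base)).obj (saOpen α A) := by
  have h := le_of_homP Z A.hom
  exact h.trans (le_of_eq (map_pre α (saBase α A) (fibP Y A.right)))

lemma map_id_obj (Y : W' ⥤ TopCat.{u}) (n : SimplexCategoryᵒᵖ) (U : Opens (Y.obj (tA n))) :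
    (Opens.map (Y.map ((FibDesc.toAug SimplexCategory).map (𝟙 n)))).obj U = U := by
  rw [CategoryTheory.Functor.map_id, CategoryTheory.Functor.map_id]
  rfl

/-- the structured arrow at the level of `t'` attached to an open set -/
def saMk (t' : TP Z) (W : Opens (Y.obj (tA t'.base)))
    (h : fibP Z t' ≤ (Opens.map (αn α t'.base)).obj W) : StructuredArrow t' (uP α) :=
  StructuredArrow.mk (Y := objP Y t'.base W)
    (homP Z (t := t') (t' := (uP α).obj (objP Y t'.base W)) (𝟙 t'.base)
      (h.trans (le_of_eq (map_id_obj Z t'.base _).symm)))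

/-- the map from the structured arrow at the level of `t'` -/
def saHom {t' : TP Z} (A : StructuredArrow t' (uP α)) (W : Opens (Y.obj (tA t'.base)))
    (h : fibP Z t' ≤ (Opens.map (αn α t'.base)).obj W) (hW : W ≤ saOpen α A) :
    saMk α t' W h ⟶ A :=
  StructuredArrow.homMk (homP Y (t := objP Y t'.base W) (t' := A.right) (saBase α A) hW)
    (homP_ext Z _ _ (Category.id_comp _))

instance uP_flat : RepresentablyFlat (uP α) where
  cofiltered t' := by
    haveI : Nonempty (StructuredArrow t' (uP α)) :=
      ⟨saMk α t' ⊤ (fun _ _ => trivial)⟩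
    haveI : IsCofilteredOrEmpty (StructuredArrow t' (uP α)) := by
      refine ⟨?_, ?_⟩
      · intro A B
        refine ⟨saMk α t' (saOpen α A ⊓ saOpen α B) (fun x hx => ⟨le_saOpen α A hx, le_saOpen α B hx⟩),
          saHom α A _ _ inf_le_left, saHom α B _ _ inf_le_right, trivial⟩
      · intro A B f g
        refine ⟨saMk α t' (saOpen α A) (le_saOpen α A), saHom α A _ _ le_rfl, ?_⟩
        apply StructuredArrow.ext
        apply homP_ext Y
        have hf := congrArg Hom.base (StructuredArrow.w f)
        have hg := congrArg Hom.base (StructuredArrow.w g)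
        exact hf.trans hg.symm
    exact {}

/-- the direct image of sheaves on the total sites -/
abbrev uS : DShY Z ⥤ DShY Y :=
  (uP α).sheafPushforwardContinuous AddCommGrpCat.{u} (KP Y) (KP Z)

instance uS_isRightAdjoint : (uS α).IsRightAdjoint := by
  infer_instance

/-- the inverse image of sheaves on the total sites -/
abbrev ΦP : DShY Y ⥤ DShY Z :=
  (uP α).sheafPullback AddCommGrpCat.{u} (KP Y) (KP Z)

/-- the adjunction -/
abbrev adjΦ : ΦP α ⊣ uS α :=
  (uP α).sheafAdjunctionContinuous AddCommGrpCat.{u} (KP Y) (KP Z)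

instance ΦP_preservesFiniteLimits : PreservesFiniteLimits (ΦP α) :=
  Functor.SmallCategories.instPreservesFiniteLimitsSheafSheafPullbackOfRepresentablyFlat
    (uP α) AddCommGrpCat.{u} (KP Y) (KP Z)

instance ΦP_preservesFiniteColimits : PreservesFiniteColimits (ΦP α) := by
  haveI : (ΦP α).IsLeftAdjoint := (adjΦ α).isLeftAdjoint
  infer_instance

instance ΦP_additive : (ΦP α).Additive := Functor.additive_of_preserves_binary_products _

end

end Groth.Agent.Helper3.PC1
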