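import Mathlib
import Groth.Prelude.Def_FibDesc
import Groth.Agent.Lib.Helper3.PC1

/-!
# Points of the total site of a simplicial space, and the stalks of the inverse image
-/

set_option autoImplicit false
set_option backward.isDefEq.respectTransparency false
open CategoryTheory Limits Opposite TopologicalSpace Pseudofunctor.CoGrothendieck Simplicial

universe u
namespace Groth.Agent.Helper3.PC2

open DC2 DC5 DC22 PC1

noncomputable section

variable (Z : W' ⥤ TopCat.{u}) (n : SimplexCategoryᵒᵖ) (z : Z.obj (tA n))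

/-- the structure map of a morphism of indices -/
abbrev sm {a b : SimplexCategoryᵒᵖ} (φ : a ⟶ b) : Z.obj (tA a) ⟶ Z.obj (tA b) :=
  Z.map ((FibDesc.toAug SimplexCategory).map φ)

lemma sm_comp {a b c : SimplexCategoryᵒᵖ} (φ : a ⟶ b) (ψ : b ⟶ c) (x : Z.obj (tA a)) :
    sm Z (φ ≫ ψ) x = sm Z ψ (sm Z φ x) := by
  change Z.map ((FibDesc.toAug SimplexCategory).map (φ ≫ ψ)) x = _
  rw [Functor.map_comp, Functor.map_comp]
  rfl

lemma sm_id (a : SimplexCategoryᵒᵖ) (x : Z.obj (tA a)) : sm Z (𝟙 a) x = x := by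
  change Z.map ((FibDesc.toAug SimplexCategory).map (𝟙 a)) x = _
  rw [CategoryTheory.Functor.map_id, CategoryTheory.Functor.map_id]
  rfl

/-- the fibre of the point `(n, z)` of the total site -/
@[ext]
structure Fib (t : TP Z) where
  φ : n ⟶ t.base
  mem : sm Z φ z ∈ fibP Z t

/-- the fibre functor of the point `(n, z)` -/
def fibFun : TP Z ⥤ Type u where
  obj t := ULift.{u} (Fib Z n z t)
  map {t t'} g := ↾fun x => ⟨⟨x.down.φ ≫ g.base, by
    rw [sm_comp]
    exact le_of_homP Z g x.down.mem⟩⟩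
  map_id t := by
    ext x
    exact Category.comp_id _
  map_comp f g := by
    ext x
    exact (Category.assoc _ _ _).symm

lemma fibFun_map_φ {t t' : TP Z} (g : t ⟶ t') (x : (fibFun Z n z).obj t) :
    ((fibFun Z n z).map g x).down.φ = x.down.φ ≫ g.base := rfl

lemma fibFun_ext {t : TP Z} (x y : (fibFun Z n z).obj t) (h : x.down.φ = y.down.φ) : x = y :=
  ULift.ext _ _ (Fib.ext h)

/-- the element of the fibre functor attached to an open neighbourhood of `z` -/
def elt (W : Opens (Z.obj (tA n))) (hz : z ∈ W) : (fibFun Z n z).Elements :=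
  ⟨objP Z n W, ⟨⟨𝟙 n, by rw [sm_id]; exact hz⟩⟩⟩

/-- the open neighbourhood of `z` attached to an element of the fibre functor -/
def eltOpen (e : (fibFun Z n z).Elements) : Opens (Z.obj (tA n)) :=
  (Opens.map (sm Z e.2.down.φ)).obj (fibP Z e.1)

lemma mem_eltOpen (e : (fibFun Z n z).Elements) : z ∈ eltOpen Z n z e := e.2.down.mem

/-- the canonical map from the element attached to a small open neighbourhood -/
def eltHom (e : (fibFun Z n z).Elements) (W : Opens (Z.obj (tA n))) (hz : z ∈ W)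
    (hW : W ≤ eltOpen Z n z e) : elt Z n z W hz ⟶ e :=
  CategoryOfElements.homMk _ _ (homP Z (t := objP Z n W) (t' := e.1) e.2.down.φ hW)
    (fibFun_ext Z n z _ _ (Category.id_comp _))

instance : IsCofiltered (fibFun Z n z).Elements where
  nonempty := ⟨elt Z n z ⊤ trivial⟩
  cone_objs A B := ⟨elt Z n z (eltOpen Z n z A ⊓ eltOpen Z n z B)
    ⟨mem_eltOpen Z n z A, mem_eltOpen Z n z B⟩, eltHom Z n z A _ _ inf_le_left,
    eltHom Z n z B _ _ inf_le_right, trivial⟩
  cone_maps A B f g := ⟨elt Z n z (eltOpen Z n z A) (mem_eltOpen Z n z A),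
    eltHom Z n z A _ _ le_rfl, by
      apply Subtype.ext
      apply homP_ext Z
      have hf := congrArg (fun x => x.down.φ) f.2
      have hg := congrArg (fun x => x.down.φ) g.2
      exact hf.trans hg.symm⟩

/-- the point `(n, z)` of the total site -/
def ptP : GrothendieckTopology.Point.{u} (KP Z) where
  fiber := fibFun Z n z
  initiallySmall := initiallySmall_of_essentiallySmall _
  jointly_surjective {t} R hR x := by
    obtain ⟨R₀, hR₀, hle⟩ := (Groth.Agent.Lib.Helper5.FibTot.mem_totalTopology_iff _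
      (isPreFibSite_part Z) t R).1 hR
    obtain ⟨V, f, hf, hV⟩ := hR₀ (sm Z x.down.φ z) x.down.mem
    refine ⟨(ιP Z t.base).obj V, (ιP Z t.base).map f, hle _ (Sieve.image_mem_functorPushforward _ _ hf),
      ⟨⟨x.down.φ, hV⟩⟩, ?_⟩
    exact fibFun_ext Z n z _ _ (Category.comp_id _)

section germs

variable (P : (TP Z)ᵒᵖ ⥤ AddCommGrpCat.{u})

/-- the canonical element of the fibre functor at a neighbourhood of `z` at the level `n` -/
def x₀ (W : Opens (Z.obj (tA n))) (hz : z ∈ W) : (ptP Z n z).fiber.obj (objP Z n W) :=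
  (elt Z n z W hz).2

/-- the germ at `(n, z)` of a section over a neighbourhood of `z` at the level `n` -/
def gP (W : Opens (Z.obj (tA n))) (hz : z ∈ W) :
    P.obj (op (objP Z n W)) ⟶ (ptP Z n z).presheafFiber.obj P :=
  (ptP Z n z).toPresheafFiber (objP Z n W) (x₀ Z n z W hz) P

/-- restriction at the level `n` -/
abbrev rP {W W' : Opens (Z.obj (tA n))} (h : W' ≤ W) :
    P.obj (op (objP Z n W)) ⟶ P.obj (op (objP Z n W')) :=
  P.map ((ιP Z n).map (homOfLE h)).op

lemma gP_res {W W' : Opens (Z.obj (tA n))} (h : W' ≤ W) (hz : z ∈ W') :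
    rP Z n P h ≫ gP Z n z P W' hz = gP Z n z P W (h hz) := by
  have := (ptP Z n z).toPresheafFiber_w ((ιP Z n).map (homOfLE h)) (x₀ Z n z W' hz) P
  refine this.trans ?_
  congr 1

lemma gP_res_apply {W W' : Opens (Z.obj (tA n))} (h : W' ≤ W) (hz : z ∈ W')
    (s : P.obj (op (objP Z n W))) :
    (gP Z n z P W' hz).hom ((rP Z n P h).hom s) = (gP Z n z P W (h hz)).hom s :=
  congrArg (fun m => m.hom s) (gP_res Z n z P h hz)

/-- every germ comes from the level `n` -/
lemma exists_gP (p : ↑(((ptP Z n z).presheafFiber (A := AddCommGrpCat.{u})).obj P)) :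
    ∃ (W : Opens (Z.obj (tA n))) (hz : z ∈ W) (s : P.obj (op (objP Z n W))),
      (gP Z n z P W hz).hom s = p := by
  obtain ⟨t, x, s, rfl⟩ := (ptP Z n z).toPresheafFiber_jointly_surjective p
  let e : (fibFun Z n z).Elements := ⟨t, x⟩
  let r := eltHom Z n z e (eltOpen Z n z e) (mem_eltOpen Z n z e) le_rfl
  refine ⟨eltOpen Z n z e, mem_eltOpen Z n z e, (P.map r.1.op).hom s, ?_⟩
  have h := (ptP Z n z).toPresheafFiber_w r.1 (x₀ Z n z _ (mem_eltOpen Z n z e)) P
  have h' := congrArg (fun m => m.hom s) h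
  refine h'.trans ?_
  have hx : (ptP Z n z).fiber.map r.1 (x₀ Z n z _ (mem_eltOpen Z n z e)) = x := r.2
  rw [hx]

/-- two sections at the level `n` with the same germ agree on a neighbourhood -/
lemma exists_of_gP_eq (W : Opens (Z.obj (tA n))) (hz : z ∈ W) (s₁ s₂ : P.obj (op (objP Z n W)))
    (h : (gP Z n z P W hz).hom s₁ = (gP Z n z P W hz).hom s₂) :
    ∃ (W' : Opens (Z.obj (tA n))) (_ : z ∈ W') (hW : W' ≤ W),
      (rP Z n P hW).hom s₁ = (rP Z n P hW).hom s₂ := by
  obtain ⟨t', f, y, hy, he⟩ := ((ptP Z n z).toPresheafFiber_eq_iff' _ _ s₁ s₂).1 h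
  let e' : (fibFun Z n z).Elements := ⟨t', y⟩
  let W' := eltOpen Z n z e' ⊓ W
  have hz' : z ∈ W' := ⟨mem_eltOpen Z n z e', hz⟩
  let r' := eltHom Z n z e' W' hz' inf_le_left
  have hcomp : r'.1 ≫ f = (ιP Z n).map (homOfLE (inf_le_right : W' ≤ W)) := by
    apply homP_ext Z
    have h1 := congrArg (fun x => x.down.φ) hy
    exact h1
  refine ⟨W', hz', inf_le_right, ?_⟩
  change (P.map ((ιP Z n).map (homOfLE (inf_le_right : W' ≤ W))).op).hom s₁ =
    (P.map ((ιP Z n).map (homOfLE (inf_le_right : W' ≤ W))).op).hom s₂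
  rw [← hcomp, op_comp, P.map_comp]
  exact congrArg (P.map r'.1.op).hom he

end germs

section comap

variable {Y Z : W' ⥤ TopCat.{u}} (α : Z ⟶ Y)

lemma coverPreserving_uP : CoverPreserving (KP Y) (KP Z) (uP α) where
  cover_preserve {t S} hS := by
    obtain ⟨R₀, hR₀, hle⟩ := (Groth.Agent.Lib.Helper5.FibTot.mem_totalTopology_iff _
      (isPreFibSite_part Y) t S).1 hS
    refine (Groth.Agent.Lib.Helper5.FibTot.mem_totalTopology_iff _
      (isPreFibSite_part Z) _ _).2
      ⟨Sieve.functorPushforward (Opens.map (αn α t.base)) R₀, ?_, ?_⟩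
    · intro x hx
      obtain ⟨V, f, hf, hV⟩ := hR₀ (αn α t.base x) hx
      exact ⟨(Opens.map (αn α t.base)).obj V, (Opens.map (αn α t.base)).map f,
        Sieve.image_mem_functorPushforward _ _ hf, hV⟩
    · rintro t'' g ⟨V', c, b, hc, rfl⟩
      obtain ⟨V₀, c₀, b', hc₀, rfl⟩ := hc
      refine ⟨(ιP Y t.base).obj V₀, (ιP Y t.base).map c₀, b ≫ (ιP Z t.base).map b',
        hle _ (Sieve.image_mem_functorPushforward _ _ hc₀), ?_⟩
      rw [Functor.map_comp, ← Category.assoc]
      congr 1

section unit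

variable {C : Type u} [SmallCategory C] {J : GrothendieckTopology C}
  (Ψ : GrothendieckTopology.Point.{u} J)

/-- the unit of the skyscraper adjunction, componentwise -/
lemma unit_π (H : Sheaf J AddCommGrpCat.{u}) (t : C) (x : Ψ.fiber.obj t) :
    (Ψ.skyscraperSheafAdjunction.unit.app H).hom.app (op t) ≫
      Pi.π (fun _ : Ψ.fiber.obj t => Ψ.sheafFiber.obj H) x = Ψ.toPresheafFiber t x H.obj := by
  have h1 : Ψ.skyscraperSheafAdjunction.unit.app H =
      (Ψ.skyscraperSheafAdjunction.homEquiv H _) (𝟙 _) := by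
    rw [Adjunction.homEquiv_unit, CategoryTheory.Functor.map_id]
    exact (Category.comp_id _).symm
  have h2 := Ψ.skyscraperSheafAdjunction_homEquiv_apply_hom (F := H) (𝟙 (Ψ.presheafFiber.obj H.obj))
  rw [h1]
  refine (congrArg (fun m => m.app (op t) ≫ Pi.π _ x) h2).trans ?_
  refine (Ψ.skyscraperPresheafHomEquiv_app_π _ t x).trans ?_
  exact Category.comp_id _

end unit

variable (n : SimplexCategoryᵒᵖ) (z : Z.obj (tA n))

instance : InitiallySmall.{u} (uP α ⋙ (ptP Z n z).fiber).Elements :=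
  initiallySmall_of_essentiallySmall _

/-- the inverse image of the point `(n, z)` -/
def ptC : GrothendieckTopology.Point.{u} (KP Y) :=
  (ptP Z n z).comap (uP α) (coverPreserving_uP α)

/-- the stalks of the inverse image -/
def fibIso : (ptC α n z).sheafFiber ≅ ΦP α ⋙ (ptP Z n z).sheafFiber :=
  (ptP Z n z).sheafFiberComapIso (uP α) (coverPreserving_uP α) AddCommGrpCat.{u}

/-- the isomorphism of stalks is induced by the unit -/
lemma toPresheafFiber_fibIso (G : DShY Y) (t : TP Y) (x : (ptC α n z).fiber.obj t) :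
    (ptC α n z).toPresheafFiber t x G.obj ≫ (fibIso α n z).hom.app G =
      ((adjΦ α).unit.app G).hom.app (op t) ≫
        (ptP Z n z).toPresheafFiber ((uP α).obj t) x ((ΦP α).obj G).obj := by
  let adj₁ := (adjΦ α).comp ((ptP Z n z).skyscraperSheafAdjunction (A := AddCommGrpCat.{u}))
  let adj₂ := (ptC α n z).skyscraperSheafAdjunction (A := AddCommGrpCat.{u})
  let β := ((ptP Z n z).skyscraperSheafFunctorCompSheafPushforwardContinuous (uP α)
    (coverPreserving_uP α) AddCommGrpCat.{u}).hom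
  have key := unit_conjugateEquiv_symm adj₁ adj₂ β G
  let γ := (fibIso α n z).hom.app G
  have hL : (adj₁.unit.app G ≫ β.app _).hom.app (op t) ≫
      Pi.π (fun _ : (ptC α n z).fiber.obj t => (ptP Z n z).sheafFiber.obj ((ΦP α).obj G)) x =
      ((adjΦ α).unit.app G).hom.app (op t) ≫
        (ptP Z n z).toPresheafFiber ((uP α).obj t) x ((ΦP α).obj G).obj := by
    have e1 : adj₁.unit.app G = (adjΦ α).unit.app G ≫ (uS α).map
        (((ptP Z n z).skyscraperSheafAdjunction (A := AddCommGrpCat.{u})).unit.app ((ΦP α).obj G)) :=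
      Adjunction.comp_unit_app _ _ _
    have e1' := congrArg (fun m => m.hom.app (op t)) e1
    have s1 : (adj₁.unit.app G ≫ β.app _).hom.app (op t) = (adj₁.unit.app G).hom.app (op t) := by
      change (adj₁.unit.app G).hom.app (op t) ≫ 𝟙 _ = _
      exact Category.comp_id _
    refine (congrArg (fun m => m ≫ Pi.π (fun _ : (ptC α n z).fiber.obj t =>
      (ptP Z n z).sheafFiber.obj ((ΦP α).obj G)) x) (s1.trans e1')).trans ?_
    exact (Category.assoc _ _ _).trans (congrArg (fun m => ((adjΦ α).unit.app G).hom.app (op t) ≫ m)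
      (unit_π (ptP Z n z) ((ΦP α).obj G) ((uP α).obj t) x))
  have hR : (adj₂.unit.app G ≫ (ptC α n z).skyscraperSheafFunctor.map γ).hom.app (op t) ≫
      Pi.π (fun _ : (ptC α n z).fiber.obj t => (ptP Z n z).sheafFiber.obj ((ΦP α).obj G)) x =
      (ptC α n z).toPresheafFiber t x G.obj ≫ γ := by
    have h3 : ((ptC α n z).skyscraperPresheafFunctor.map γ).app (op t) ≫
        Pi.π (fun _ : (ptC α n z).fiber.obj t => (ptP Z n z).sheafFiber.obj ((ΦP α).obj G)) x =
        Pi.π (fun _ : (ptC α n z).fiber.obj t => (ptC α n z).sheafFiber.obj G) x ≫ γ := by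
      simp
    refine (Category.assoc ((adj₂.unit.app G).hom.app (op t))
      (((ptC α n z).skyscraperPresheafFunctor.map γ).app (op t)) _).trans ?_
    refine (congrArg (fun m => (adj₂.unit.app G).hom.app (op t) ≫ m) h3).trans ?_
    refine (Category.assoc _ _ _).symm.trans ?_
    exact congrArg (fun m => m ≫ γ) (unit_π (ptC α n z) G t x)
  have key' := congrArg (fun m => m.hom.app (op t) ≫
    Pi.π (fun _ : (ptC α n z).fiber.obj t => (ptP Z n z).sheafFiber.obj ((ΦP α).obj G)) x) key
  exact (hR.symm.trans key'.symm).trans hL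

lemma α_sm {a b : SimplexCategoryᵒᵖ} (φ : a ⟶ b) (x : Z.obj (tA a)) :
    αn α b (sm Z φ x) = sm Y φ (αn α a x) :=
  ConcreteCategory.congr_hom (α.naturality ((FibDesc.toAug SimplexCategory).map φ)) x

/-- the fibres of the two points: one direction -/
def fibTo (t : TP Y) (x : Fib Y n (αn α n z) t) : Fib Z n z ((uP α).obj t) :=
  ⟨x.φ, by
    change αn α t.base (sm Z x.φ z) ∈ fibP Y t
    rw [α_sm]
    exact x.mem⟩

/-- the fibres of the two points: the other direction -/
def fibFrom (t : TP Y) (x : Fib Z n z ((uP α).obj t)) : Fib Y n (αn α n z) t :=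
  ⟨(x.φ : n ⟶ t.base), by
    have h : αn α t.base (sm Z (x.φ : n ⟶ t.base) z) ∈ fibP Y t := x.mem
    have e := α_sm α (x.φ : n ⟶ t.base) z
    exact e ▸ h⟩

/-- the inverse image of the point `(n, z)` is the point `(n, α z)`: one direction -/
def ptHom : ptC α n z ⟶ ptP Y n (αn α n z) where
  hom :=
    { app := fun t => ↾fun x => ⟨fibTo α n z t x.down⟩
      naturality := fun t t' g => by
        ext x
        rfl }

/-- the inverse image of the point `(n, z)` is the point `(n, α z)`: the other direction -/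
def ptInv : ptP Y n (αn α n z) ⟶ ptC α n z where
  hom :=
    { app := fun t => ↾fun x => ⟨fibFrom α n z t (ULift.down (α := Fib Z n z ((uP α).obj t)) x)⟩
      naturality := fun t t' g => by
        ext x
        rfl }

lemma ptHom_ptInv : ptHom α n z ≫ ptInv α n z = 𝟙 _ := by
  apply GrothendieckTopology.Point.hom_ext
  ext t x
  rfl

lemma ptInv_ptHom : ptInv α n z ≫ ptHom α n z = 𝟙 _ := by
  apply GrothendieckTopology.Point.hom_ext
  ext t x
  rfl

instance isIso_ptHom_presheafFiber (P : (TP Y)ᵒᵖ ⥤ AddCommGrpCat.{u}) :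
    IsIso ((ptHom α n z).presheafFiber.app P) := by
  refine ⟨(ptInv α n z).presheafFiber.app P, ?_, ?_⟩
  · have h := GrothendieckTopology.Point.Hom.presheafFiber_comp (A := AddCommGrpCat.{u})
      (ptInv α n z) (ptHom α n z)
    rw [ptInv_ptHom, GrothendieckTopology.Point.Hom.presheafFiber_id] at h
    exact (congrArg (fun m => m.app P) h).symm
  · have h := GrothendieckTopology.Point.Hom.presheafFiber_comp (A := AddCommGrpCat.{u})
      (ptHom α n z) (ptInv α n z)
    rw [ptHom_ptInv, GrothendieckTopology.Point.Hom.presheafFiber_id] at h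
    exact (congrArg (fun m => m.app P) h).symm

/-- the comparison of the stalks at `(n, α z)` and `(n, z)` -/
def cmpFib (G : DShY Y) : (ptP Y n (αn α n z)).presheafFiber.obj G.obj ⟶
    (ptP Z n z).presheafFiber.obj ((ΦP α).obj G).obj :=
  (ptHom α n z).presheafFiber.app G.obj ≫ (fibIso α n z).hom.app G

instance isIso_cmpFib (G : DShY Y) : IsIso (cmpFib α n z G) := by
  unfold cmpFib
  infer_instance

/-- the unit of the adjunction on sections at the level `n` -/
abbrev θs (G : DShY Y) (U : Opens (Y.obj (tA n))) :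
    G.obj.obj (op (objP Y n U)) ⟶ ((ΦP α).obj G).obj.obj (op (objP Z n ((Opens.map (αn α n)).obj U))) :=
  ((adjΦ α).unit.app G).hom.app (op (objP Y n U))

lemma gP_cmpFib (G : DShY Y) (U : Opens (Y.obj (tA n))) (hU : αn α n z ∈ U) :
    gP Y n (αn α n z) G.obj U hU ≫ cmpFib α n z G =
      θs α n G U ≫ gP Z n z ((ΦP α).obj G).obj ((Opens.map (αn α n)).obj U) hU := by
  unfold cmpFib gP
  rw [← Category.assoc]
  have h1 : (ptP Y n (αn α n z)).toPresheafFiber (objP Y n U) (x₀ Y n (αn α n z) U hU) G.obj ≫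
      (ptHom α n z).presheafFiber.app G.obj =
      (ptC α n z).toPresheafFiber (objP Y n U) ((ptHom α n z).hom.app _ (x₀ Y n (αn α n z) U hU))
        G.obj := by
    simp [GrothendieckTopology.Point.Hom.presheafFiber]
  rw [h1]
  exact toPresheafFiber_fibIso α n z G (objP Y n U) _

end comap

end

end Groth.Agent.Helper3.PC2
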