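import Mathlib
import Groth.Prelude.Def_FibDesc
import Groth.Prelude.Def_CohTop
import Groth.Agent.Lib.Helper3.PC2
import Groth.Agent.Lib.Helper3.PB4

/-!
# The unit of the inverse image on the total site is locally bijective at every level
-/

set_option autoImplicit false
set_option backward.isDefEq.respectTransparency false
open CategoryTheory Limits Opposite TopologicalSpace Pseudofunctor.CoGrothendieck Simplicial

universe u
namespace Groth.Agent.Helper3.PC3

open DC2 DC5 DC22 PC1 PC2 PB3 PB4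

noncomputable section

variable {Y Z : W' ⥤ TopCat.{u}} (α : Z ⟶ Y) (G : DShY Y) (n : SimplexCategoryᵒᵖ)

/-- the level `n` of a sheaf on the total site -/
abbrev lev (Y : W' ⥤ TopCat.{u}) (n : SimplexCategoryᵒᵖ) (G : DShY Y) : CohTop.Ab (Y.obj (tA n)) :=
  (restrN Y n).obj G

/-- the unit of the adjunction at the level `n` -/
def θn : lev Y n G ⟶ (CohTop.push (αn α n)).obj (lev Z n ((ΦP α).obj G)) :=
  ⟨{ app := fun U => θs α n G U.unop
     naturality := fun U V g => by
       have h := ((adjΦ α).unit.app G).hom.naturality ((ιP Y n).map g.unop).op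
       exact h }⟩

lemma θn_apply (U : Opens (Y.obj (tA n))) (s : (lev Y n G).obj.obj (op U)) :
    θU (αn α n) (θn α G n) U s = (θs α n G U).hom s := rfl

lemma res_eq_rP (Y : W' ⥤ TopCat.{u}) (n : SimplexCategoryᵒᵖ) (G : DShY Y)
    {W W' : Opens (Y.obj (tA n))} (h : W' ≤ W) (s : (lev Y n G).obj.obj (op W)) :
    res (lev Y n G) h s = (rP Y n G.obj h).hom s := rfl

theorem locIso_θn : LocIso (αn α n) (θn α G n) where
  surj z V hz t := by
    let p := (gP Z n z ((ΦP α).obj G).obj V hz).hom t
    let q := (inv (cmpFib α n z G)).hom p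
    obtain ⟨U, hU, s, hs⟩ := exists_gP Y n (αn α n z) G.obj q
    have h1 : (cmpFib α n z G).hom ((gP Y n (αn α n z) G.obj U hU).hom s) = p := by
      rw [hs]
      exact congrArg (fun m => m.hom p) (IsIso.inv_hom_id (cmpFib α n z G))
    have h2 : (gP Z n z ((ΦP α).obj G).obj ((Opens.map (αn α n)).obj U) hU).hom
        ((θs α n G U).hom s) = p :=
      (congrArg (fun m => m.hom s) (gP_cmpFib α n z G U hU)).symm.trans h1
    let W₀ : Opens (Z.obj (tA n)) := (Opens.map (αn α n)).obj U ⊓ V
    have hz₀ : z ∈ W₀ := ⟨hU, hz⟩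
    have h3 : (gP Z n z ((ΦP α).obj G).obj W₀ hz₀).hom
        ((rP Z n ((ΦP α).obj G).obj (inf_le_left : W₀ ≤ _)).hom ((θs α n G U).hom s)) =
        (gP Z n z ((ΦP α).obj G).obj W₀ hz₀).hom
        ((rP Z n ((ΦP α).obj G).obj (inf_le_right : W₀ ≤ V)).hom t) := by
      rw [gP_res_apply, gP_res_apply]
      exact h2
    obtain ⟨W', hz', hW', e⟩ := exists_of_gP_eq Z n z _ W₀ hz₀ _ _ h3
    refine ⟨U, hU, s, W', hz', hW'.trans inf_le_right, hW'.trans inf_le_left, ?_⟩
    have e' : res (lev Z n ((ΦP α).obj G)) hW' (res (lev Z n ((ΦP α).obj G))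
        (inf_le_left : W₀ ≤ _) ((θs α n G U).hom s)) =
        res (lev Z n ((ΦP α).obj G)) hW' (res (lev Z n ((ΦP α).obj G))
        (inf_le_right : W₀ ≤ V) t) := e
    rw [res_res, res_res] at e'
    exact e'
  inj z U hU s W hz hWU h0 := by
    have h1 : (gP Z n z ((ΦP α).obj G).obj ((Opens.map (αn α n)).obj U) hU).hom
        ((θs α n G U).hom s) = 0 := by
      rw [← gP_res_apply Z n z _ hWU hz]
      have : (rP Z n ((ΦP α).obj G).obj hWU).hom ((θs α n G U).hom s) = 0 := h0
      rw [this, map_zero]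
    have h2 : (cmpFib α n z G).hom ((gP Y n (αn α n z) G.obj U hU).hom s) = 0 :=
      (congrArg (fun m => m.hom s) (gP_cmpFib α n z G U hU)).trans h1
    have hinj : Function.Injective (cmpFib α n z G).hom :=
      (ConcreteCategory.bijective_of_isIso (cmpFib α n z G)).1
    have h3 : (gP Y n (αn α n z) G.obj U hU).hom s = (gP Y n (αn α n z) G.obj U hU).hom 0 := by
      apply hinj
      rw [h2, map_zero, map_zero]
    obtain ⟨U', hU', hle, e⟩ := exists_of_gP_eq Y n (αn α n z) _ U hU _ _ h3
    refine ⟨U', hU', hle, ?_⟩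
    have e' : res (lev Y n G) hle s = res (lev Y n G) hle 0 := e
    rw [e', res_zero]

end

end Groth.Agent.Helper3.PC3
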