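import Mathlib
import Groth.Prelude.Def_FibDesc
import Groth.Prelude.Def_CohTop
import Groth.Agent.Lib.Helper3.PC3
import Groth.Agent.Lib.Helper3.PB6
import Groth.Agent.Lib.Helper3.PB7

/-!
# The Čech-type complexes of an inverse image on the total site: comparison with the germs at a point
of the base
-/

set_option autoImplicit false
set_option backward.isDefEq.respectTransparency false
open CategoryTheory Limits Opposite TopologicalSpace Pseudofunctor.CoGrothendieck Simplicial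

universe u
namespace Groth.Agent.Helper3.PC4

open DC2 DC4 DC5 DC22 PC1 PC2 PC3 PB1 PB3 PB4 PB6

noncomputable section

section generic

variable {C C' : Type u} [SmallCategory C] [SmallCategory C'] (F : C ⥤ C')
  {N : Cᵒᵖ ⥤ AddCommGrpCat.{u}} {N' : C'ᵒᵖ ⥤ AddCommGrpCat.{u}} (η : N ⟶ F.op ⋙ N')
  {σ : SimplicialObject C} {σ' : SimplicialObject C'} (ρ : σ' ⟶ σ ⋙ F)

/-- the map of cosimplicial groups attached to a map of presheaves over a functor and a map of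
simplicial objects -/
def cosMap : σ.rightOp ⋙ N ⟶ σ'.rightOp ⋙ N' where
  app k := η.app (op (σ.obj (op k))) ≫ N'.map (ρ.app (op k)).op
  naturality k k' f := by
    change N.map (σ.map f.op).op ≫ η.app _ ≫ N'.map (ρ.app (op k')).op =
      (η.app _ ≫ N'.map (ρ.app (op k)).op) ≫ N'.map (σ'.map f.op).op
    have h1 : N.map (σ.map f.op).op ≫ η.app (op (σ.obj (op k'))) =
        η.app (op (σ.obj (op k))) ≫ N'.map (F.map (σ.map f.op)).op := η.naturality (σ.map f.op).op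
    have h2 : σ'.map f.op ≫ ρ.app (op k) = ρ.app (op k') ≫ F.map (σ.map f.op) := ρ.naturality f.op
    rw [← Category.assoc, h1, Category.assoc, Category.assoc, ← N'.map_comp, ← N'.map_comp,
      ← op_comp, ← op_comp, h2]

/-- the map of cochain complexes -/
def cxMap : (CCF σ).obj N ⟶ (CCF σ').obj N' :=
  (AlgebraicTopology.alternatingCofaceMapComplex _).map (cosMap F η ρ)

lemma cxMap_f (k : ℕ) :
    (cxMap F η ρ).f k = η.app (op (σ.obj (op ⦋k⦌))) ≫ N'.map (ρ.app (op ⦋k⦌)).op := rfl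

lemma cxMap_d (k : ℕ) (x : N.obj (op (σ.obj (op ⦋k⦌)))) :
    (((CCF σ').obj N').d k (k + 1)).hom (((cxMap F η ρ).f k).hom x) =
      ((cxMap F η ρ).f (k + 1)).hom ((((CCF σ).obj N).d k (k + 1)).hom x) :=
  ConcreteCategory.congr_hom ((cxMap F η ρ).comm k (k + 1)) x

end generic

section elementwise

lemma exists_of_isZero_homology (K : CochainComplex AddCommGrpCat.{u} ℕ) (k : ℕ)
    (hK : IsZero (K.homology (k + 1))) (x : K.X (k + 1)) (hx : (K.d (k + 1) (k + 2)).hom x = 0) :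
    ∃ y : K.X k, (K.d k (k + 1)).hom y = x := by
  rw [← HomologicalComplex.exactAt_iff_isZero_homology,
    HomologicalComplex.exactAt_iff' _ k (k + 1) (k + 2) (by simp) (by simp),
    ShortComplex.ab_exact_iff] at hK
  exact hK x hx

lemma isZero_homology_of_forall (K : CochainComplex AddCommGrpCat.{u} ℕ) (k : ℕ)
    (h : ∀ x : K.X (k + 1), (K.d (k + 1) (k + 2)).hom x = 0 → ∃ y : K.X k, (K.d k (k + 1)).hom y = x) :
    IsZero (K.homology (k + 1)) := by
  rw [← HomologicalComplex.exactAt_iff_isZero_homology,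
    HomologicalComplex.exactAt_iff' _ k (k + 1) (k + 2) (by simp) (by simp),
    ShortComplex.ab_exact_iff]
  exact h

end elementwise

variable {Y Z : W' ⥤ TopCat.{u}} (α : Z ⟶ Y)

/-- the component of the morphism over the base -/
abbrev αb : S₀ Z ⟶ S₀ Y := α.app (FibDesc.bot SimplexCategory)

lemma aug_αn (n : SimplexCategoryᵒᵖ) (x : Z.obj (tA n)) :
    aug Y (tA n) (αn α n x) = αb α (aug Z (tA n) x) :=
  (ConcreteCategory.congr_hom (α.naturality (toBot (tA n))) x).symm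

lemma pre_le (V : Opens (S₀ Y)) (V' : Opens (S₀ Z)) (hV : V' ≤ (Opens.map (αb α)).obj V)
    (n : SimplexCategoryᵒᵖ) : preU Z V' n ≤ (Opens.map (αn α n)).obj (preU Y V n) := by
  intro x hx
  have h1 : αb α (aug Z (tA n) x) ∈ V := hV hx
  change aug Y (tA n) (αn α n x) ∈ V
  rw [aug_αn]
  exact h1

/-- the comparison of the simplicial objects of sections -/
def ρs (V : Opens (S₀ Y)) (V' : Opens (S₀ Z)) (hV : V' ≤ (Opens.map (αb α)).obj V) :
    sec Z V' ⟶ sec Y V ⋙ uP α where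
  app n := (ιP Z n).map (homOfLE (pre_le α V V' hV n))
  naturality n m φ := homP_ext Z _ _ (by
    change ((sec Z V').map φ).base ≫ 𝟙 m = 𝟙 n ≫ ((uP α).map ((sec Y V).map φ)).base
    exact (Category.comp_id _).trans (Category.id_comp _).symm)

/-- the comparison of the Čech-type complexes -/
def κ (G : DShY Y) (V : Opens (S₀ Y)) (V' : Opens (S₀ Z)) (hV : V' ≤ (Opens.map (αb α)).obj V) :
    (CxU Y V).obj G ⟶ (CxU Z V').obj ((ΦP α).obj G) :=
  cxMap (uP α) ((adjΦ α).unit.app G).hom (ρs α V V' hV)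

lemma κ_apply (G : DShY Y) (V : Opens (S₀ Y)) (V' : Opens (S₀ Z))
    (hV : V' ≤ (Opens.map (αb α)).obj V) (k : ℕ) (x : G.obj.obj (op ((sec Y V) _⦋k⦌))) :
    ((κ α G V V' hV).f k).hom x = res (lev Z (op ⦋k⦌) ((ΦP α).obj G)) (pre_le α V V' hV (op ⦋k⦌))
      (θU (αn α (op ⦋k⦌)) (θn α G (op ⦋k⦌)) (preU Y V (op ⦋k⦌)) x) := rfl

lemma κ_d (G : DShY Y) (V : Opens (S₀ Y)) (V' : Opens (S₀ Z))
    (hV : V' ≤ (Opens.map (αb α)).obj V) (k : ℕ) (x : G.obj.obj (op ((sec Y V) _⦋k⦌))) :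
    ((((CxU Z V').obj ((ΦP α).obj G))).d k (k + 1)).hom (((κ α G V V' hV).f k).hom x) =
      ((κ α G V V' hV).f (k + 1)).hom ((((CxU Y V).obj G).d k (k + 1)).hom x) :=
  cxMap_d _ _ _ k x

variable (Y) in
lemma preU_mono {V₁ V₂ : Opens (S₀ Y)} (h : V₂ ≤ V₁) (n : SimplexCategoryᵒᵖ) :
    preU Y V₂ n ≤ preU Y V₁ n := fun _ hx => h hx

variable (Y) in
/-- restriction of the open set of the base: the simplicial objects -/
def secRes {V₁ V₂ : Opens (S₀ Y)} (h : V₂ ≤ V₁) : sec Y V₂ ⟶ sec Y V₁ where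
  app n := (ιP Y n).map (homOfLE (preU_mono Y h n))
  naturality n m φ := homP_ext Y _ _ (by
    change ((sec Y V₂).map φ).base ≫ 𝟙 m = 𝟙 n ≫ ((sec Y V₁).map φ).base
    exact (Category.comp_id _).trans (Category.id_comp _).symm)

variable (Y) in
/-- restriction of the open set of the base: the complexes -/
def resV (N : (TP Y)ᵒᵖ ⥤ AddCommGrpCat.{u}) {V₁ V₂ : Opens (S₀ Y)} (h : V₂ ≤ V₁) :
    (CCF (sec Y V₁)).obj N ⟶ (CCF (sec Y V₂)).obj N :=
  (AlgebraicTopology.alternatingCofaceMapComplex _).map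
    (Functor.whiskerRight (NatTrans.rightOp (secRes Y h)) N)

lemma resV_apply (G : DShY Y) {V₁ V₂ : Opens (S₀ Y)} (h : V₂ ≤ V₁) (k : ℕ)
    (x : G.obj.obj (op ((sec Y V₁) _⦋k⦌))) :
    ((resV Y G.obj h).f k).hom x = res (lev Y (op ⦋k⦌) G) (preU_mono Y h (op ⦋k⦌)) x := rfl

lemma resV_d (N : (TP Y)ᵒᵖ ⥤ AddCommGrpCat.{u}) {V₁ V₂ : Opens (S₀ Y)} (h : V₂ ≤ V₁) (k : ℕ)
    (x : N.obj (op ((sec Y V₁) _⦋k⦌))) :
    (((CCF (sec Y V₂)).obj N).d k (k + 1)).hom (((resV Y N h).f k).hom x) =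
      ((resV Y N h).f (k + 1)).hom ((((CCF (sec Y V₁)).obj N).d k (k + 1)).hom x) :=
  ConcreteCategory.congr_hom ((resV Y N h).comm k (k + 1)) x

lemma κ_resV (G : DShY Y) {V₁ V₂ : Opens (S₀ Y)} (h : V₂ ≤ V₁) (V' : Opens (S₀ Z))
    (hV₁ : V' ≤ (Opens.map (αb α)).obj V₁) (hV₂ : V' ≤ (Opens.map (αb α)).obj V₂) (k : ℕ)
    (x : G.obj.obj (op ((sec Y V₁) _⦋k⦌))) :
    ((κ α G V₂ V' hV₂).f k).hom (((resV Y G.obj h).f k).hom x) = ((κ α G V₁ V' hV₁).f k).hom x := by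
  rw [κ_apply, κ_apply, resV_apply, θU_res, res_res]

section fibre

variable (s₀ : S₀ Y) (hb : ∀ b : S₀ Z, αb α b = s₀)
  (hinj : ∀ n, Function.Injective (αn α n))
  (hcpt : ∀ n, CompactSpace (Z.obj (tA n)))
  (hsep : ∀ n (a b : Z.obj (tA n)), a ≠ b → Sep (αn α n a) (αn α n b))
  (hnb : ∀ n (U : Opens (Y.obj (tA n))), (∀ z, αn α n z ∈ U) →
    ∃ V : Opens (S₀ Y), s₀ ∈ V ∧ preU Y V n ≤ U)

include hb in
lemma hTop (V : Opens (S₀ Y)) (hs : s₀ ∈ V) : (⊤ : Opens (S₀ Z)) ≤ (Opens.map (αb α)).obj V := by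
  intro b _
  change αb α b ∈ V
  rw [hb b]
  exact hs

include hb hinj hcpt hsep hnb in
/-- every cochain of the inverse image is the image of a cochain near the fibre -/
lemma exists_κ_eq (G : DShY Y) (k : ℕ) (c : ((CxU Z ⊤).obj ((ΦP α).obj G)).X k) :
    ∃ (V : Opens (S₀ Y)) (hs : s₀ ∈ V) (x : ((CxU Y V).obj G).X k),
      ((κ α G V ⊤ (hTop α s₀ hb V hs)).f k).hom x = c := by
  haveI := hcpt (op ⦋k⦌)
  obtain ⟨U, x, W, hWV, hWU, hAW, e⟩ := (locIso_θn α G (op ⦋k⦌)).exists_extension (hinj _)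
    (isCompact_univ) (fun a _ b _ hab => hsep _ a b hab) (preU Z ⊤ (op ⦋k⦌))
    (fun _ _ => trivial) c
  obtain rfl : W = preU Z ⊤ (op ⦋k⦌) := le_antisymm hWV (fun x _ => hAW (Set.mem_univ x))
  obtain ⟨V, hs, hVU⟩ := hnb (op ⦋k⦌) U (fun z => hWU (hAW (Set.mem_univ z)))
  refine ⟨V, hs, res (lev Y (op ⦋k⦌) G) hVU x, ?_⟩
  rw [κ_apply, θU_res, res_res]
  exact e.trans (res_self (lev Z (op ⦋k⦌) ((ΦP α).obj G)) c)

include hb hnb in
/-- a cochain near the fibre with vanishing image vanishes nearer the fibre -/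
lemma exists_resV_eq_zero (G : DShY Y) (k : ℕ) (V : Opens (S₀ Y)) (hs : s₀ ∈ V)
    (y : ((CxU Y V).obj G).X k) (h0 : ((κ α G V ⊤ (hTop α s₀ hb V hs)).f k).hom y = 0) :
    ∃ (V' : Opens (S₀ Y)) (_ : s₀ ∈ V') (h : V' ≤ V), ((resV Y G.obj h).f k).hom y = 0 := by
  rw [κ_apply] at h0
  obtain ⟨U', hU', hA, e⟩ := (locIso_θn α G (op ⦋k⦌)).exists_res_eq_zero Set.univ
    (preU Y V (op ⦋k⦌)) y (preU Z ⊤ (op ⦋k⦌)) (fun _ _ => trivial) _ h0
  obtain ⟨V₂, hs₂, hV₂⟩ := hnb (op ⦋k⦌) U' (fun z => hA z (Set.mem_univ z))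
  refine ⟨V ⊓ V₂, ⟨hs, hs₂⟩, inf_le_left, ?_⟩
  rw [resV_apply]
  have h1 : preU Y (V ⊓ V₂) (op ⦋k⦌) ≤ U' := fun x hx => hV₂ hx.2
  have h2 := congrArg (res (lev Y (op ⦋k⦌) G) h1) e
  rw [res_res, res_zero] at h2
  exact h2

include hb hinj hcpt hsep hnb in
/-- the Čech-type complex of the inverse image of an injective sheaf is exact in positive degrees -/
theorem isZero_homology_Φ (I : DShY Y) [Injective I] (k : ℕ) :
    IsZero (((CxU Z ⊤).obj ((ΦP α).obj I)).homology (k + 1)) := by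
  apply isZero_homology_of_forall
  intro c hc
  obtain ⟨V₁, hs₁, x₁, hx₁⟩ := exists_κ_eq α s₀ hb hinj hcpt hsep hnb I (k + 1) c
  have h0 : ((κ α I V₁ ⊤ (hTop α s₀ hb V₁ hs₁)).f (k + 2)).hom
      ((((CxU Y V₁).obj I).d (k + 1) (k + 2)).hom x₁) = 0 := by
    rw [← κ_d, hx₁]
    exact hc
  obtain ⟨V₃, hs₃, h31, e⟩ := exists_resV_eq_zero α s₀ hb hnb I (k + 2) V₁ hs₁ _ h0
  have hd : (((CxU Y V₃).obj I).d (k + 1) (k + 2)).hom (((resV Y I.obj h31).f (k + 1)).hom x₁) = 0 :=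
    (resV_d I.obj h31 (k + 1) x₁).trans e
  obtain ⟨b, hb'⟩ := exists_of_isZero_homology _ k (isZero_homology_CxU_of_injective Y I V₃ k) _ hd
  refine ⟨((κ α I V₃ ⊤ (hTop α s₀ hb V₃ hs₃)).f k).hom b, ?_⟩
  rw [κ_d, hb', κ_resV α I h31 ⊤ (hTop α s₀ hb V₁ hs₁)]
  exact hx₁

end fibre

section lemmaA

variable (Z)

/-- levelwise soft sheaves -/
def LevelSoft (N : DShY Z) : Prop := ∀ n : SimplexCategoryᵒᵖ, IsSoft (lev Z n N)

lemma subsingleton_bot (N : DShY Z) (k : ℕ) :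
    Subsingleton (N.obj.obj (op ((sec Z ⊥) _⦋k⦌))) := by
  have h : IsTerminal ((lev Z (op ⦋k⦌) N).obj.obj (op (preU Z ⊥ (op ⦋k⦌)))) :=
    TopCat.Sheaf.isTerminalOfEqEmpty (lev Z (op ⦋k⦌) N) rfl
  exact AddCommGrpCat.subsingleton_of_isZero h.isZero

lemma isZero_homology_bot (N : DShY Z) (k : ℕ) :
    IsZero (((CxU Z ⊥).obj N).homology (k + 1)) := by
  apply isZero_homology_of_forall
  intro x _
  haveI : Subsingleton (((CxU Z ⊥).obj N).X (k + 1)) := subsingleton_bot Z N (k + 1)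
  exact ⟨0, Subsingleton.elim _ _⟩

variable [∀ n : SimplexCategoryᵒᵖ, CompactSpace (Z.obj (tA n))]
  [∀ n : SimplexCategoryᵒᵖ, T2Space (Z.obj (tA n))]
  (hU : ∀ U : Opens (S₀ Z), U = ⊥ ∨ U = ⊤)

lemma levelSoft_of_injective (I : DShY Z) [Injective I] : LevelSoft Z I := fun n => by
  haveI : TopCat.Sheaf.IsFlasque (X := Z.obj (tA n)) (lev Z n I) := levelFlasque_of_injective Z I n
  exact PB7.isSoft_of_isFlasque _

include hU in
lemma h𝔉Z (S : ShortComplex (DShY Z)) (hS : S.ShortExact) (h1 : LevelSoft Z S.X₁)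
    (h2 : Injective S.X₂) :
    LevelSoft Z S.X₃ ∧ ∀ U : Opens (S₀ Z), (S.map (CxU Z U)).ShortExact := by
  have h2' := levelSoft_of_injective Z S.X₂
  constructor
  · intro n
    exact isSoft_X₃ (S := S.map (restrN Z n)) (shortExact_restrN Z hS n) (h1 n) (h2' n)
  · intro U
    apply HomologicalComplex.shortExact_of_degreewise_shortExact
    intro k
    have hl := ((Functor.preservesFiniteLimits_tfae (secAt Z ((sec Z U) _⦋k⦌))).out 1 3 rfl rfl).mpr
      inferInstance S ⟨hS.exact, hS.mono_f⟩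
    have he : Epi ((S.map (secAt Z ((sec Z U) _⦋k⦌))).g) := by
      rw [AddCommGrpCat.epi_iff_surjective]
      intro t
      rcases hU U with rfl | rfl
      · have hss : Subsingleton (S.X₃.obj.obj (op ((sec Z ⊥) _⦋k⦌))) := subsingleton_bot Z S.X₃ k
        exact ⟨0, hss.elim _ _⟩
      · obtain ⟨s, hs⟩ := exists_lift_top (S := S.map (restrN Z (op ⦋k⦌)))
          (shortExact_restrN Z hS _) (h1 _) t
        exact ⟨s, hs⟩
    exact ShortComplex.ShortExact.mk' hl.1 hl.2 he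

include hU in
/-- levelwise soft sheaves whose Čech-type complex is exact in positive degrees are acyclic for the
direct image to a one-point base -/
theorem isZero_rightDerived_pushZ (N : DShY Z) (hN : LevelSoft Z N)
    (hC : ∀ k : ℕ, IsZero (((CxU Z ⊤).obj N).homology (k + 1))) (n : ℕ) :
    IsZero (((pushY Z).rightDerived (n + 1)).obj N) := by
  haveI : PreservesFiniteLimits (pushY Z) := PreservesLimitsOfSize.preservesFiniteLimits _
  refine DC3.isZero_rightDerived (FibDesc.topAugTop Z (FibDesc.bot SimplexCategory)) (pushY Z)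
    (fun U => CxU Z U) ?_ (LevelSoft Z) (h𝔉Z Z hU) ?_ n N hN ?_
  · intro N N' g h
    exact epi_push_map Z g h
  · intro I hI U k hk
    obtain ⟨k, rfl⟩ := Nat.exists_eq_succ_of_ne_zero (Nat.pos_iff_ne_zero.1 hk)
    exact isZero_homology_CxU_of_injective Z I U k
  · intro U k hk
    obtain ⟨k, rfl⟩ := Nat.exists_eq_succ_of_ne_zero (Nat.pos_iff_ne_zero.1 hk)
    rcases hU U with rfl | rfl
    · exact isZero_homology_bot Z N k
    · exact hC k

end lemmaA

section main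

variable (s₀ : S₀ Y) (hb : ∀ b : S₀ Z, αb α b = s₀)
  (hinj : ∀ n, Function.Injective (αn α n))
  (hcpt : ∀ n, CompactSpace (Z.obj (tA n)))
  (hsep : ∀ n (a b : Z.obj (tA n)), a ≠ b → Sep (αn α n a) (αn α n b))
  (hnb : ∀ n (U : Opens (Y.obj (tA n))), (∀ z, αn α n z ∈ U) →
    ∃ V : Opens (S₀ Y), s₀ ∈ V ∧ preU Y V n ≤ U)
  (hU : ∀ U : Opens (S₀ Z), U = ⊥ ∨ U = ⊤)

include hsep in
lemma t2Space_of_sep (n : SimplexCategoryᵒᵖ) : T2Space (Z.obj (tA n)) :=
  ⟨fun a b hab => sep_of_sep_image (hsep n a b hab)⟩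

include hinj hcpt hsep in
lemma levelSoft_Φ (I : DShY Y) [Injective I] : LevelSoft Z ((ΦP α).obj I) := fun n => by
  haveI := hcpt n
  haveI : TopCat.Sheaf.IsFlasque (X := Y.obj (tA n)) (lev Y n I) := levelFlasque_of_injective Y I n
  exact isSoft_of_locIso (locIso_θn α I n) (hinj n) (hsep n)

include hb hinj hcpt hsep hnb hU in
/-- the inverse image of an injective sheaf is acyclic for the direct image to the base -/
theorem isZero_rightDerived_pushZ_Φ (I : DShY Y) [Injective I] (n : ℕ) :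
    IsZero (((pushY Z).rightDerived (n + 1)).obj ((ΦP α).obj I)) := by
  haveI := hcpt
  haveI : ∀ n : SimplexCategoryᵒᵖ, T2Space (Z.obj (tA n)) := t2Space_of_sep α hsep
  exact isZero_rightDerived_pushZ Z hU _ (levelSoft_Φ α hinj hcpt hsep I)
    (isZero_homology_Φ α s₀ hb hinj hcpt hsep hnb I) n

end main

end

end Groth.Agent.Helper3.PC4
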