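import Mathlib
import Groth.Prelude.Def_FibDesc
import Groth.Prelude.Def_CohTop
import Groth.Agent.Lib.Helper3.PC4

/-!
# The direct image to the base commutes with the direct image along a morphism of simplicial spaces
-/

set_option autoImplicit false
set_option backward.isDefEq.respectTransparency false
open CategoryTheory Limits Opposite TopologicalSpace Pseudofunctor.CoGrothendieck Simplicial

universe u
namespace Groth.Agent.Helper3.PC5

open DC2 DC4 DC5 DC22 PC1 PC2 PC3 PC4 PB3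

noncomputable section

section cyc

variable (Y : W' ⥤ TopCat.{u}) (U : Opens (S₀ Y)) (N : (TP Y)ᵒᵖ ⥤ AddCommGrpCat.{u})

/-- the right Kan extension along the inclusion of the simplicial part -/
abbrev RN : (TA Y)ᵒᵖ ⥤ AddCommGrpCat.{u} := (FibDesc.incl (FibDesc.topAug Y)).op.ran.obj N

/-- the counit of the right Kan extension -/
abbrev εN : (FibDesc.incl (FibDesc.topAug Y)).op ⋙ RN Y N ⟶ N :=
  ((FibDesc.incl (FibDesc.topAug Y)).op.ranAdjunction AddCommGrpCat.{u}).counit.app N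

/-- the `0`-cochain attached to a section, as a homomorphism -/
def cycHom : (RN Y N).obj (op ((FibDesc.eps (FibDesc.topAug Y)).obj U)) ⟶ N.obj (op ((sec Y U) _⦋0⦌)) :=
  (RN Y N).map (cAug Y U (op ⦋0⦌)).op ≫ (εN Y N).app (op ((sec Y U) _⦋0⦌))

lemma cycOf_eq (y : (RN Y N).obj (op ((FibDesc.eps (FibDesc.topAug Y)).obj U))) :
    cycOf Y U N y = (cycHom Y U N).hom y := by
  unfold cycOf
  rw [yE_apply]
  change ((secEquiv (FibDesc.incl (FibDesc.topAug Y)) N _ y).app _).hom
    ((((πU Y U).f 0).app _).hom (FreeAbelianGroup.of (𝟙 _))) = _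
  rw [πU_f_zero_app_of]
  have h1 : secEquiv (FibDesc.incl (FibDesc.topAug Y)) N ((FibDesc.eps (FibDesc.topAug Y)).obj U) y =
      Functor.whiskerLeft (FibDesc.incl (FibDesc.topAug Y)).op
        ((yE ((FibDesc.eps (FibDesc.topAug Y)).obj U) (RN Y N)).symm y) ≫ εN Y N := by
    change (((FibDesc.incl (FibDesc.topAug Y)).op.ranAdjunction AddCommGrpCat.{u}).homEquiv _ N).symm
      ((yE ((FibDesc.eps (FibDesc.topAug Y)).obj U) (RN Y N)).symm y) = _
    exact Adjunction.homEquiv_counit _ _ _ _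
  rw [h1]
  change ((εN Y N).app _).hom ((((yE ((FibDesc.eps (FibDesc.topAug Y)).obj U) (RN Y N)).symm y).app _).hom
    (FreeAbelianGroup.of _)) = _
  rw [yE_symm_app_of]
  have h2 : (FibDesc.incl (FibDesc.topAug Y)).map (𝟙 ((sec Y U) _⦋0⦌)) ≫ cAug Y U (op ⦋0⦌) =
      cAug Y U (op ⦋0⦌) := hom_eps_ext Y _ _
  rw [h2]
  rfl

lemma cycOf_add (y y' : (RN Y N).obj (op ((FibDesc.eps (FibDesc.topAug Y)).obj U))) :
    cycOf Y U N (y + y') = cycOf Y U N y + cycOf Y U N y' := by
  rw [cycOf_eq, cycOf_eq, cycOf_eq, map_add]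

lemma cycOf_res {U₁ U₂ : Opens (S₀ Y)} (h : U₂ ≤ U₁)
    (y : (RN Y N).obj (op ((FibDesc.eps (FibDesc.topAug Y)).obj U₁))) :
    cycOf Y U₂ N (((RN Y N).map ((FibDesc.eps (FibDesc.topAug Y)).map (homOfLE h : U₂ ⟶ U₁)).op).hom y) =
      (N.map ((secRes Y h).app (op ⦋0⦌)).op).hom (cycOf Y U₁ N y) := by
  rw [cycOf_eq, cycOf_eq]
  have h1 : cAug Y U₂ (op ⦋0⦌) ≫ (FibDesc.eps (FibDesc.topAug Y)).map (homOfLE h : U₂ ⟶ U₁) =
      (FibDesc.incl (FibDesc.topAug Y)).map ((secRes Y h).app (op ⦋0⦌)) ≫ cAug Y U₁ (op ⦋0⦌) :=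
    hom_eps_ext Y _ _
  have h2 : (RN Y N).map ((FibDesc.eps (FibDesc.topAug Y)).map (homOfLE h : U₂ ⟶ U₁)).op ≫ cycHom Y U₂ N =
      cycHom Y U₁ N ≫ N.map ((secRes Y h).app (op ⦋0⦌)).op := by
    unfold cycHom
    rw [← Category.assoc, ← (RN Y N).map_comp, ← op_comp, h1, op_comp, (RN Y N).map_comp,
      Category.assoc, Category.assoc]
    congr 1
    exact (εN Y N).naturality ((secRes Y h).app (op ⦋0⦌)).op
  exact ConcreteCategory.congr_hom h2 y

end cyc

section bc

variable {Y Z : W' ⥤ TopCat.{u}} (α : Z ⟶ Y)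

/-- the preimage of an open set of the base -/
abbrev Ub (U : Opens (S₀ Y)) : Opens (S₀ Z) := (Opens.map (αb α)).obj U

lemma pre_ge (U : Opens (S₀ Y)) (n : SimplexCategoryᵒᵖ) :
    (Opens.map (αn α n)).obj (preU Y U n) ≤ preU Z (Ub α U) n := by
  intro x hx
  change αb α (aug Z (tA n) x) ∈ U
  rw [← aug_αn]
  exact hx

/-- the comparison of the simplicial objects of sections, for the preimage of an open set -/
abbrev ρU (U : Opens (S₀ Y)) : sec Z (Ub α U) ⟶ sec Y U ⋙ uP α := ρs α U (Ub α U) le_rfl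

instance isIso_ρU_app (U : Opens (S₀ Y)) (n : SimplexCategoryᵒᵖ) : IsIso ((ρU α U).app n) := by
  refine ⟨(ιP Z n).map (homOfLE (pre_ge α U n)), ?_, ?_⟩
  · change (ιP Z n).map _ ≫ (ιP Z n).map _ = _
    rw [← Functor.map_comp]
    exact (congrArg (ιP Z n).map (Subsingleton.elim _ _)).trans ((ιP Z n).map_id _)
  · change (ιP Z n).map _ ≫ (ιP Z n).map _ = _
    rw [← Functor.map_comp]
    exact (congrArg (ιP Z n).map (Subsingleton.elim _ _)).trans ((ιP Z n).map_id _)

variable (H : DShY Z)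

/-- the comparison of the Čech-type complexes -/
def βcx (U : Opens (S₀ Y)) :
    (CCF (sec Y U)).obj ((uS α).obj H).obj ⟶ (CCF (sec Z (Ub α U))).obj H.obj :=
  cxMap (uP α) (𝟙 ((uP α).op ⋙ H.obj)) (ρU α U)

lemma βcx_f (U : Opens (S₀ Y)) (k : ℕ) (x : H.obj.obj (op ((uP α).obj ((sec Y U) _⦋k⦌)))) :
    ((βcx α H U).f k).hom x = (H.obj.map ((ρU α U).app (op ⦋k⦌)).op).hom x := rfl

lemma βcx_bijective (U : Opens (S₀ Y)) (k : ℕ) : Function.Bijective ((βcx α H U).f k).hom := by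
  haveI : IsIso ((βcx α H U).f k) := by
    have h : (βcx α H U).f k = H.obj.map ((ρU α U).app (op ⦋k⦌)).op := by
      refine (cxMap_f _ _ _ k).trans ?_
      exact Category.id_comp _
    rw [h]
    infer_instance
  exact ConcreteCategory.bijective_of_isIso ((βcx α H U).f k)

/-- sections of the direct image of the direct image, over an open set of the base -/
abbrev SecL (U : Opens (S₀ Y)) : AddCommGrpCat.{u} :=
  ((pushY Y).obj ((uS α).obj H)).obj.obj (op U)

/-- sections of the direct image over the preimage of an open set of the base -/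
abbrev SecR (U : Opens (S₀ Y)) : AddCommGrpCat.{u} :=
  ((pushY Z).obj H).obj.obj (op (Ub α U))

lemma exists_β (U : Opens (S₀ Y)) (y : SecL α H U) :
    ∃ y' : SecR α H U, cycOf Z (Ub α U) H.obj y' =
      ((βcx α H U).f 0).hom (cycOf Y U ((uS α).obj H).obj y) := by
  apply exists_cycOf
  have h := cxMap_d (uP α) (𝟙 ((uP α).op ⋙ H.obj)) (ρU α U) 0 (cycOf Y U ((uS α).obj H).obj y)
  refine h.trans ?_
  exact (congrArg ((cxMap (uP α) (𝟙 ((uP α).op ⋙ H.obj)) (ρU α U)).f (0 + 1)).hom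
    (d_cycOf Y U ((uS α).obj H).obj y)).trans (map_zero _)

/-- the comparison on sections -/
def βfun (U : Opens (S₀ Y)) (y : SecL α H U) : SecR α H U := Classical.choose (exists_β α H U y)

lemma cycOf_βfun (U : Opens (S₀ Y)) (y : SecL α H U) :
    cycOf Z (Ub α U) H.obj (βfun α H U y) = ((βcx α H U).f 0).hom (cycOf Y U ((uS α).obj H).obj y) :=
  Classical.choose_spec (exists_β α H U y)

lemma βfun_bijective (U : Opens (S₀ Y)) : Function.Bijective (βfun α H U) := by
  constructor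
  · intro y₁ y₂ h
    apply cycOf_injective Y U ((uS α).obj H).obj
    apply (βcx_bijective α H U 0).1
    rw [← cycOf_βfun, ← cycOf_βfun, h]
  · intro y'
    obtain ⟨x, hx⟩ := (βcx_bijective α H U 0).2 (cycOf Z (Ub α U) H.obj y')
    have hd : (((CCF (sec Y U)).obj ((uS α).obj H).obj).d 0 1).hom x = 0 := by
      apply (βcx_bijective α H U 1).1
      rw [map_zero]
      have h := cxMap_d (uP α) (𝟙 ((uP α).op ⋙ H.obj)) (ρU α U) 0 x
      refine h.symm.trans ?_
      change (((CCF (sec Z (Ub α U))).obj H.obj).d 0 1).hom (((βcx α H U).f 0).hom x) = 0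
      rw [hx, d_cycOf]
    obtain ⟨y, hy⟩ := exists_cycOf Y U ((uS α).obj H).obj x hd
    refine ⟨y, ?_⟩
    apply cycOf_injective Z (Ub α U) H.obj
    rw [cycOf_βfun, hy, hx]

/-- the comparison on sections, as a homomorphism -/
def βhom (U : Opens (S₀ Y)) : SecL α H U ⟶ SecR α H U :=
  AddCommGrpCat.ofHom
    { toFun := βfun α H U
      map_zero' := by
        apply cycOf_injective Z (Ub α U) H.obj
        rw [cycOf_βfun, cycOf_eq, cycOf_eq, map_zero, map_zero, map_zero]
      map_add' := fun y₁ y₂ => by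
        apply cycOf_injective Z (Ub α U) H.obj
        rw [cycOf_βfun, cycOf_add, cycOf_add, map_add, cycOf_βfun, cycOf_βfun] }

lemma βhom_apply (U : Opens (S₀ Y)) (y : SecL α H U) : (βhom α H U).hom y = βfun α H U y := rfl

instance isIso_βhom (U : Opens (S₀ Y)) : IsIso (βhom α H U) := by
  rw [ConcreteCategory.isIso_iff_bijective]
  exact βfun_bijective α H U

lemma Ub_mono {U₁ U₂ : Opens (S₀ Y)} (h : U₂ ≤ U₁) : Ub α U₂ ≤ Ub α U₁ := fun _ hx => h hx

lemma ρU_res {U₁ U₂ : Opens (S₀ Y)} (h : U₂ ≤ U₁) (n : SimplexCategoryᵒᵖ) :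
    (ρU α U₂).app n ≫ (uP α).map ((secRes Y h).app n) =
      (secRes Z (Ub_mono α h)).app n ≫ (ρU α U₁).app n :=
  homP_ext Z _ _ rfl

lemma βfun_res {U₁ U₂ : Opens (S₀ Y)} (h : U₂ ≤ U₁) (y : SecL α H U₁) :
    βfun α H U₂ ((((pushY Y).obj ((uS α).obj H)).obj.map (homOfLE h).op).hom y) =
      (((pushY Z).obj H).obj.map (homOfLE (Ub_mono α h)).op).hom (βfun α H U₁ y) := by
  apply cycOf_injective Z (Ub α U₂) H.obj
  rw [cycOf_βfun]
  have e1 := cycOf_res Y ((uS α).obj H).obj h y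
  have e2 := cycOf_res Z H.obj (Ub_mono α h) (βfun α H U₁ y)
  refine (congrArg ((βcx α H U₂).f 0).hom e1).trans (Eq.trans ?_ e2.symm)
  rw [cycOf_βfun, βcx_f, βcx_f]
  change (H.obj.map ((uP α).map ((secRes Y h).app (op ⦋0⦌))).op ≫
    H.obj.map ((ρU α U₂).app (op ⦋0⦌)).op).hom _ =
    (H.obj.map ((ρU α U₁).app (op ⦋0⦌)).op ≫
      H.obj.map ((secRes Z (Ub_mono α h)).app (op ⦋0⦌)).op).hom _
  rw [← H.obj.map_comp, ← H.obj.map_comp, ← op_comp, ← op_comp, ρU_res]
  rfl

/-- the comparison as a morphism of sheaves on the base -/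
def βsh : (pushY Y).obj ((uS α).obj H) ⟶ (CohTop.push (αb α)).obj ((pushY Z).obj H) :=
  ⟨{ app := fun U => βhom α H U.unop
     naturality := fun (U₁ U₂ : (Opens (S₀ Y))ᵒᵖ) (i : U₁ ⟶ U₂) => by
       ext y
       have hi : i = (homOfLE (leOfHom i.unop)).op := Subsingleton.elim _ _
       rw [hi]
       exact βfun_res α H (leOfHom i.unop) y }⟩

instance isIso_βsh : IsIso (βsh α H) := by
  rw [DC19.isIso_sheafHom_iff]
  intro V
  exact βfun_bijective α H V.unop

variable {H} in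
lemma βsh_naturality {H' : DShY Z} (g : H ⟶ H') :
    (pushY Y).map ((uS α).map g) ≫ βsh α H' =
      βsh α H ≫ (CohTop.push (αb α)).map ((pushY Z).map g) := by
  apply Sheaf.hom_ext
  ext U y
  apply cycOf_injective Z (Ub α U.unop) H'.obj
  change cycOf Z (Ub α U.unop) H'.obj (βfun α H' U.unop
      ((((pushY Y).map ((uS α).map g)).hom.app U).hom y)) =
    cycOf Z (Ub α U.unop) H'.obj ((((pushY Z).map g).hom.app (op (Ub α U.unop))).hom
      (βfun α H U.unop y))
  rw [cycOf_βfun]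
  have e1 := cycOf_naturality Y U.unop ((uS α).map g).hom y
  have e2 := cycOf_naturality Z (Ub α U.unop) g.hom (βfun α H U.unop y)
  refine (congrArg ((βcx α H' U.unop).f 0).hom e1).trans (Eq.trans ?_ e2.symm)
  rw [cycOf_βfun, βcx_f, βcx_f]
  exact (ConcreteCategory.congr_hom (g.hom.naturality ((ρU α U.unop).app (op ⦋0⦌)).op) _).symm

/-- the direct image to the base commutes with the direct image along a morphism of simplicial
spaces -/
def βiso : uS α ⋙ pushY Y ≅ pushY Z ⋙ CohTop.push (αb α) :=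
  NatIso.ofComponents (fun H => asIso (βsh α H)) (fun g => βsh_naturality α g)

lemma βiso_hom_app : (βiso α).hom.app H = βsh α H := rfl

end bc

end

end Groth.Agent.Helper3.PC5
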