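import Mathlib
import Groth.Prelude.Def_FibDesc
import Groth.Prelude.Def_CohTop
import Groth.Prelude.Def_CohPull
import Groth.Agent.Lib.Helper3.PC4
import Groth.Agent.Lib.Helper3.PC5
import Groth.Agent.Lib.Helper3.PC6
import Groth.Agent.Lib.Helper3.DC11
import Groth.Agent.Lib.Helper3.DC12

/-!
# Base change to a fibre for the direct image from the total site of a simplicial space
-/

set_option autoImplicit false
set_option backward.isDefEq.respectTransparency false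
open CategoryTheory Limits Opposite TopologicalSpace Pseudofunctor.CoGrothendieck Simplicial

universe u
namespace Groth.Agent.Helper3.PC7

open DC2 DC4 DC5 DC22 PC1 PC2 PC3 PC4 PC5 PC6 PB1 PB3 PB4

noncomputable section

variable {Y Z : W' ⥤ TopCat.{u}} (α : Z ⟶ Y)

/-- the comparison of the Čech-type complexes of a direct image -/
def γcx (H : DShY Z) (V : Opens (S₀ Y)) (V' : Opens (S₀ Z)) (hV : V' ≤ (Opens.map (αb α)).obj V) :
    (CCF (sec Y V)).obj ((uS α).obj H).obj ⟶ (CCF (sec Z V')).obj H.obj :=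
  cxMap (uP α) (𝟙 ((uP α).op ⋙ H.obj)) (ρs α V V' hV)

lemma γcx_f (H : DShY Z) (V : Opens (S₀ Y)) (V' : Opens (S₀ Z))
    (hV : V' ≤ (Opens.map (αb α)).obj V) (k : ℕ)
    (x : H.obj.obj (op ((uP α).obj ((sec Y V) _⦋k⦌)))) :
    ((γcx α H V V' hV).f k).hom x = (H.obj.map ((ρs α V V' hV).app (op ⦋k⦌)).op).hom x := rfl

lemma κ_eq_γcx (G : DShY Y) (V : Opens (S₀ Y)) (V' : Opens (S₀ Z))
    (hV : V' ≤ (Opens.map (αb α)).obj V) (k : ℕ) (x : G.obj.obj (op ((sec Y V) _⦋k⦌))) :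
    ((κ α G V V' hV).f k).hom x = ((γcx α ((ΦP α).obj G) V V' hV).f k).hom
      ((((adjΦ α).unit.app G).hom.app (op ((sec Y V) _⦋k⦌))).hom x) := rfl

lemma γcx_d (H : DShY Z) (V : Opens (S₀ Y)) (V' : Opens (S₀ Z))
    (hV : V' ≤ (Opens.map (αb α)).obj V) (k : ℕ)
    (x : H.obj.obj (op ((uP α).obj ((sec Y V) _⦋k⦌)))) :
    (((CCF (sec Z V')).obj H.obj).d k (k + 1)).hom (((γcx α H V V' hV).f k).hom x) =
      ((γcx α H V V' hV).f (k + 1)).hom
        ((((CCF (sec Y V)).obj ((uS α).obj H).obj).d k (k + 1)).hom x) :=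
  cxMap_d (uP α) (𝟙 ((uP α).op ⋙ H.obj)) (ρs α V V' hV) k x

lemma γcx_res (H : DShY Z) {V₁ V₂ : Opens (S₀ Y)} (h : V₂ ≤ V₁) (V' : Opens (S₀ Z))
    (hV₁ : V' ≤ (Opens.map (αb α)).obj V₁) (hV₂ : V' ≤ (Opens.map (αb α)).obj V₂) (k : ℕ)
    (x : H.obj.obj (op ((uP α).obj ((sec Y V₁) _⦋k⦌)))) :
    ((γcx α H V₂ V' hV₂).f k).hom
      ((((uS α).obj H).obj.map ((secRes Y h).app (op ⦋k⦌)).op).hom x) =
      ((γcx α H V₁ V' hV₁).f k).hom x := by
  rw [γcx_f, γcx_f]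
  change (H.obj.map ((uP α).map ((secRes Y h).app (op ⦋k⦌))).op ≫
    H.obj.map ((ρs α V₂ V' hV₂).app (op ⦋k⦌)).op).hom x = _
  rw [← H.obj.map_comp, ← op_comp]
  have e : (ρs α V₂ V' hV₂).app (op ⦋k⦌) ≫ (uP α).map ((secRes Y h).app (op ⦋k⦌)) =
      (ρs α V₁ V' hV₁).app (op ⦋k⦌) := homP_ext Z _ _ rfl
  rw [e]
  rfl

section fibre

variable (s₀ : S₀ Y) (hb : ∀ b : S₀ Z, αb α b = s₀)
  (hinj : ∀ n, Function.Injective (αn α n))
  (hcpt : ∀ n, CompactSpace (Z.obj (tA n)))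
  (hsep : ∀ n (a b : Z.obj (tA n)), a ≠ b → Sep (αn α n a) (αn α n b))
  (hnb : ∀ n (U : Opens (Y.obj (tA n))), (∀ z, αn α n z ∈ U) →
    ∃ V : Opens (S₀ Y), s₀ ∈ V ∧ preU Y V n ≤ U)

include hb in
lemma γcx_top_injective (H : DShY Z) (V : Opens (S₀ Y)) (hs : s₀ ∈ V) (k : ℕ) :
    Function.Injective ((γcx α H V ⊤ (hTop α s₀ hb V hs)).f k).hom := by
  haveI : IsIso ((ρs α V ⊤ (hTop α s₀ hb V hs)).app (op ⦋k⦌)) := by
    refine ⟨(ιP Z (op ⦋k⦌)).map (homOfLE (fun _ _ => trivial)), ?_, ?_⟩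
    · change (ιP Z (op ⦋k⦌)).map _ ≫ (ιP Z (op ⦋k⦌)).map _ = _
      rw [← Functor.map_comp]
      exact (congrArg (ιP Z (op ⦋k⦌)).map (Subsingleton.elim _ _)).trans ((ιP Z (op ⦋k⦌)).map_id _)
    · change (ιP Z (op ⦋k⦌)).map _ ≫ (ιP Z (op ⦋k⦌)).map _ = _
      rw [← Functor.map_comp]
      exact (congrArg (ιP Z (op ⦋k⦌)).map (Subsingleton.elim _ _)).trans ((ιP Z (op ⦋k⦌)).map_id _)
  haveI : IsIso ((γcx α H V ⊤ (hTop α s₀ hb V hs)).f k) := by
    have h : (γcx α H V ⊤ (hTop α s₀ hb V hs)).f k =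
        H.obj.map ((ρs α V ⊤ (hTop α s₀ hb V hs)).app (op ⦋k⦌)).op := by
      refine (cxMap_f _ _ _ k).trans ?_
      exact Category.id_comp _
    rw [h]
    infer_instance
  exact (ConcreteCategory.bijective_of_isIso _).1

lemma cycOf_zero (Y : W' ⥤ TopCat.{u}) (U : Opens (S₀ Y)) (N : (TP Y)ᵒᵖ ⥤ AddCommGrpCat.{u}) :
    cycOf Y U N 0 = 0 := by
  rw [cycOf_eq, map_zero]

/-- the sheaf `pushY N` on the base -/
abbrev PN (N : DShY Y) : CohTop.Ab (S₀ Y) := (pushY Y).obj N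

/-- the map of sheaves on the base induced by the unit -/
abbrev gU (N : DShY Y) : PN N ⟶ PN ((uS α).obj ((ΦP α).obj N)) :=
  (pushY Y).map ((adjΦ α).unit.app N)

lemma cycOf_gU (N : DShY Y) (V : Opens (S₀ Y)) (y : (PN N).obj.obj (op V)) :
    cycOf Y V ((uS α).obj ((ΦP α).obj N)).obj (((gU α N).hom.app (op V)).hom y) =
      (((adjΦ α).unit.app N).hom.app (op ((sec Y V) _⦋0⦌))).hom (cycOf Y V N.obj y) :=
  cycOf_naturality Y V ((adjΦ α).unit.app N).hom y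

lemma cycOf_res' (N : DShY Y) {V₁ V₂ : Opens (S₀ Y)} (h : V₂ ≤ V₁) (y : (PN N).obj.obj (op V₁)) :
    cycOf Y V₂ N.obj (res (PN N) h y) =
      (N.obj.map ((secRes Y h).app (op ⦋0⦌)).op).hom (cycOf Y V₁ N.obj y) :=
  cycOf_res Y N.obj h y

lemma gU_res (N : DShY Y) {V₁ V₂ : Opens (S₀ Y)} (h : V₂ ≤ V₁) (y : (PN N).obj.obj (op V₁)) :
    ((gU α N).hom.app (op V₂)).hom (res (PN N) h y) =
      res (PN ((uS α).obj ((ΦP α).obj N))) h (((gU α N).hom.app (op V₁)).hom y) :=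
  ConcreteCategory.congr_hom ((gU α N).hom.naturality (homOfLE h).op) y

include hb hnb in
lemma stalk_gU_injective (N : DShY Y) :
    Function.Injective ((stk s₀).map (gU α N)).hom := by
  rw [injective_iff_map_eq_zero]
  intro σ hσ
  obtain ⟨V, hs, y, rfl⟩ := exists_gm_eq (PN N) s₀ σ
  have h1 : gm (PN ((uS α).obj ((ΦP α).obj N))) s₀ hs (((gU α N).hom.app (op V)).hom y) =
      gm (PN ((uS α).obj ((ΦP α).obj N))) s₀ hs 0 := by
    exact ((TopCat.Presheaf.stalkFunctor_map_germ_apply V s₀ hs (gU α N).hom y).symm.trans hσ).trans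
      (map_zero _).symm
  obtain ⟨W, hsW, hWV, hWV', e⟩ := exists_res_eq_of_gm_eq _ s₀ hs hs _ _ h1
  rw [res_zero, ← gU_res] at e
  -- the cocycle of the restriction
  let yW := res (PN N) hWV y
  let x := cycOf Y W N.obj yW
  have hx : (((adjΦ α).unit.app N).hom.app (op ((sec Y W) _⦋0⦌))).hom x = 0 := by
    rw [← cycOf_gU, e, cycOf_zero]
  have hκ : ((κ α N W ⊤ (hTop α s₀ hb W hsW)).f 0).hom x = 0 := by
    rw [κ_eq_γcx, hx, map_zero]
  obtain ⟨V', hs', hV'W, e'⟩ := exists_resV_eq_zero α s₀ hb hnb N 0 W hsW x hκ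
  have hy0 : res (PN N) hV'W yW = 0 := by
    apply cycOf_injective Y V' N.obj
    rw [cycOf_res', cycOf_zero]
    exact e'
  rw [← gm_res (PN N) hWV s₀ hsW y, ← gm_res (PN N) hV'W s₀ hs' yW, hy0]
  exact map_zero _

include hb hinj hcpt hsep hnb in
lemma stalk_gU_surjective (N : DShY Y) :
    Function.Surjective ((stk s₀).map (gU α N)).hom := by
  intro σ'
  obtain ⟨V, hs, y', rfl⟩ := exists_gm_eq (PN ((uS α).obj ((ΦP α).obj N))) s₀ σ'
  let c := cycOf Y V ((uS α).obj ((ΦP α).obj N)).obj y'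
  let c'' := ((γcx α ((ΦP α).obj N) V ⊤ (hTop α s₀ hb V hs)).f 0).hom c
  have hdc'' : (((CxU Z ⊤).obj ((ΦP α).obj N)).d 0 1).hom c'' = 0 := by
    refine (γcx_d α ((ΦP α).obj N) V ⊤ (hTop α s₀ hb V hs) 0 c).trans ?_
    exact (congrArg ((γcx α ((ΦP α).obj N) V ⊤ (hTop α s₀ hb V hs)).f (0 + 1)).hom
      (d_cycOf Y V ((uS α).obj ((ΦP α).obj N)).obj y')).trans (map_zero _)
  obtain ⟨V₁, hs₁, x₁, hx₁⟩ := exists_κ_eq α s₀ hb hinj hcpt hsep hnb N 0 c''
  -- restrict to `V ⊓ V₁`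
  let W := V ⊓ V₁
  have hsW : s₀ ∈ W := ⟨hs, hs₁⟩
  let x := ((resV Y N.obj (inf_le_right : W ≤ V₁)).f 0).hom x₁
  have hx : ((κ α N W ⊤ (hTop α s₀ hb W hsW)).f 0).hom x = c'' :=
    (κ_resV α N (inf_le_right : W ≤ V₁) ⊤ (hTop α s₀ hb V₁ hs₁) (hTop α s₀ hb W hsW) 0 x₁).trans hx₁
  have hκd : ((κ α N W ⊤ (hTop α s₀ hb W hsW)).f 1).hom ((((CxU Y W).obj N).d 0 1).hom x) = 0 := by
    rw [← κ_d, hx]
    exact hdc''
  obtain ⟨V₂, hs₂, hV₂W, e₂⟩ := exists_resV_eq_zero α s₀ hb hnb N 1 W hsW _ hκd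
  let x₂ := ((resV Y N.obj hV₂W).f 0).hom x
  have hdx₂ : (((CCF (sec Y V₂)).obj N.obj).d 0 1).hom x₂ = 0 :=
    (resV_d N.obj hV₂W 0 x).trans e₂
  obtain ⟨y₂, hy₂⟩ := exists_cycOf Y V₂ N.obj x₂ hdx₂
  have hV₂V : V₂ ≤ V := hV₂W.trans inf_le_left
  have key : ((gU α N).hom.app (op V₂)).hom y₂ =
      res (PN ((uS α).obj ((ΦP α).obj N))) hV₂V y' := by
    apply cycOf_injective Y V₂ ((uS α).obj ((ΦP α).obj N)).obj
    rw [cycOf_gU, cycOf_res', hy₂]
    apply γcx_top_injective α s₀ hb ((ΦP α).obj N) V₂ hs₂ 0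
    rw [γcx_res α ((ΦP α).obj N) hV₂V ⊤ (hTop α s₀ hb V hs) (hTop α s₀ hb V₂ hs₂) 0 c, ← κ_eq_γcx]
    exact (κ_resV α N hV₂W ⊤ (hTop α s₀ hb W hsW) (hTop α s₀ hb V₂ hs₂) 0 x).trans hx
  refine ⟨gm (PN N) s₀ hs₂ y₂, ?_⟩
  refine (TopCat.Presheaf.stalkFunctor_map_germ_apply V₂ s₀ hs₂ (gU α N).hom y₂).trans ?_
  rw [key]
  exact gm_res (PN ((uS α).obj ((ΦP α).obj N))) hV₂V s₀ hs₂ y'

include hb hinj hcpt hsep hnb in
/-- the unit of the inverse image induces an isomorphism on the stalks at `s₀` of the direct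
images to the base -/
theorem isIso_stalk_gU (N : DShY Y) : IsIso ((stk s₀).map (gU α N)) := by
  rw [ConcreteCategory.isIso_iff_bijective]
  exact ⟨stalk_gU_injective α s₀ hb hnb N, stalk_gU_surjective α s₀ hb hinj hcpt hsep hnb N⟩

section main

variable (hU : ∀ U : Opens (S₀ Z), U = ⊥ ∨ U = ⊤) (hind : Topology.IsInducing (αb α)) (z₀ : S₀ Z)

include hb hinj hcpt hsep hnb in
lemma hL (N : DShY Y) :
    IsIso ((CohTop.pull (αb α)).map ((pushY Y).map ((adjΦ α).unit.app N))) := by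
  apply isIso_pull_map
  intro z
  have h := isIso_stalk_gU α s₀ hb hinj hcpt hsep hnb N
  have e : αb α z = s₀ := hb z
  rw [e]
  exact h

include hb hinj hcpt hsep hnb hind z₀ in
/-- the unit of the augmentation of `Y` is an isomorphism on the stalks at `s₀`, when `Z` is of
cohomological descent -/
theorem isIso_stalk_unit (hZ : FibDesc.IsCohDescentTop Z) (M : DC12.BSh Y) :
    IsIso ((stk s₀).map ((DC12.adjY Y).unit.app M)) := by
  haveI := CohPull.additive_pull (αb α)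
  haveI := CohPull.preservesFiniteLimits_pull (αb α)
  haveI := CohPull.preservesFiniteColimits_pull (αb α)
  haveI : IsIso (PB2.adj (αb α)).counit := isIso_counit_of_isInducing _ hind
  haveI : IsIso ((CohTop.pull (αb α)).map ((DC12.adjY Y).unit.app M)) :=
    DC11.isIso_rS_unit (DC12.adjY Y) (DC12.adjY Z) (PB2.adj (αb α)) (adjΦ α) (βiso α)
      (hL α s₀ hb hinj hcpt hsep hnb)
      (fun M' => DC12.isIso_unit_of_isCohDescentTop hZ M') M
  have h := isIso_stalk_of_isIso_pull (αb α) ((DC12.adjY Y).unit.app M) z₀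
  have e : αb α z₀ = s₀ := hb z₀
  rw [e] at h
  exact h

include hb hinj hcpt hsep hnb hU hind z₀ in
/-- the higher direct images of the inverse image of a sheaf on the base vanish on the stalks at
`s₀`, when `Z` is of cohomological descent -/
theorem isZero_stalk_rightDerived (hZ : FibDesc.IsCohDescentTop Z) (M : DC12.BSh Y) (n : ℕ)
    (hn : 0 < n) :
    IsZero ((stk s₀).obj (((pushY Y).rightDerived n).obj ((DC12.pullY Y).obj M))) := by
  haveI := CohPull.additive_pull (αb α)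
  haveI := CohPull.preservesFiniteLimits_pull (αb α)
  haveI := CohPull.preservesFiniteColimits_pull (αb α)
  haveI : IsIso (PB2.adj (αb α)).counit := isIso_counit_of_isInducing _ hind
  have h := DC11.isZero_rS_rightDerived_pull (DC12.adjY Y) (DC12.adjY Z) (PB2.adj (αb α)) (adjΦ α)
    (βiso α) (hL α s₀ hb hinj hcpt hsep hnb)
    (fun I hI k hk => by
      obtain ⟨k, rfl⟩ := Nat.exists_eq_succ_of_ne_zero (Nat.pos_iff_ne_zero.1 hk)
      haveI := hI
      exact isZero_rightDerived_pushZ_Φ α s₀ hb hinj hcpt hsep hnb hU I k)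
    (fun M' n hn => DC12.isZero_rightDerived_of_isCohDescentTop hZ M' n hn) M n hn
  have h' := isZero_stalk_of_isZero_pull (αb α) _ h z₀
  have e : αb α z₀ = s₀ := hb z₀
  rw [e] at h'
  exact h'

end main

end fibre

end

end Groth.Agent.Helper3.PC7
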