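import Mathlib
import Groth.Prelude.Def_FibDesc
import Groth.Prelude.Def_CohTop
import Groth.Agent.Lib.Helper3.PC7
import Groth.Agent.Lib.Helper3.PC8
import Groth.Agent.Lib.Helper3.DC8
import Groth.Agent.Lib.Helper3.DC9
import Groth.Agent.Lib.Helper3.DC27

/-!
# A proper separated surjective map of topological spaces is of cohomological descent
-/

set_option autoImplicit false
set_option backward.isDefEq.respectTransparency false
open CategoryTheory Limits Opposite TopologicalSpace Topology Simplicial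

universe u
namespace Groth.Agent.Helper3.PC9

open DC2 DC5 DC22 PC1 PC4 PC6 PC7 PC8 PB1

noncomputable section

variable {X S : TopCat.{u}} (f : X ⟶ S)

/-- the level `n` of the Čech nerve -/
lemma isProperMap_aug (hf : IsProperMap f) (n : SimplexCategoryᵒᵖ) :
    IsProperMap (aug (FibDesc.cechAug f) (tA n)) :=
  isProperMap_wb n.unop.len hf

lemma sep_aug (hs : ∀ x x' : X, f x = f x' → x ≠ x' → Sep x x') (n : SimplexCategoryᵒᵖ)
    (w w' : (FibDesc.cechAug f).obj (tA n))
    (hb : aug (FibDesc.cechAug f) (tA n) w = aug (FibDesc.cechAug f) (tA n) w') (hne : w ≠ w') :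
    Sep w w' :=
  wp_sep n.unop.len hs w w' hb hne

section fibre

variable (s : S)

/-- the inclusion of the point `s` -/
abbrev ks : pt.{u} ⟶ S := cst s

/-- the fibre of `f` at `s` -/
abbrev Ps : TopCat.{u} := pullback f (ks s)

/-- the Čech nerve of the fibre -/
abbrev Zs : W' ⥤ TopCat.{u} := FibDesc.cechAug (pullback.snd f (ks s))

lemma sqs : IsPullback (pullback.fst f (ks s)) (pullback.snd f (ks s)) f (ks s) :=
  IsPullback.of_hasPullback f (ks s)

/-- the morphism from the Čech nerve of the fibre -/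
abbrev αs : Zs f s ⟶ FibDesc.cechAug f := DC27.cechHomSq (sqs f s).w

lemma sq_level (i : W') : IsPullback ((αs f s).app i) (aug (Zs f s) i) (aug (FibDesc.cechAug f) i)
    (ks s) :=
  DC27.isPullback_cechHomSq (sqs f s) i

variable (hf : IsProperMap f) (hs : ∀ x x' : X, f x = f x' → x ≠ x' → Sep x x')
  (hsurj : Function.Surjective f)

include hsurj in
lemma isCohDescentTop_Zs : FibDesc.IsCohDescentTop (Zs f s) := by
  obtain ⟨x₀, hx₀⟩ := hsurj s
  obtain ⟨p₀, -, -⟩ := sq_exists (sqs f s) x₀ PUnit.unit hx₀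
  exact DC9.isCohDescentMap_of_splitEpi (pullback.snd f (ks s))
    ⟨cst p₀, by ext t⟩

lemma hb_s (b : S₀ (Zs f s)) : αb (αs f s) b = s := rfl

lemma hinj_s (n : SimplexCategoryᵒᵖ) : Function.Injective (αn (αs f s) n) :=
  fst_injective (sq_level f s (tA n))

include hf in
lemma hcpt_s (n : SimplexCategoryᵒᵖ) : CompactSpace ((Zs f s).obj (tA n)) :=
  compactSpace_of_isProperMap (sq_level f s (tA n)) (isProperMap_aug f hf n)

include hs in
lemma hsep_s (n : SimplexCategoryᵒᵖ) (a b : (Zs f s).obj (tA n)) (hab : a ≠ b) :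
    Sep (αn (αs f s) n a) (αn (αs f s) n b) := by
  apply sep_aug f hs n
  · exact (f_fst (sq_level f s (tA n)) a).trans (f_fst (sq_level f s (tA n)) b).symm
  · exact fun h => hab (hinj_s f s n h)

include hf in
lemma hnb_s (n : SimplexCategoryᵒᵖ) (U : Opens ((FibDesc.cechAug f).obj (tA n)))
    (hU : ∀ z, αn (αs f s) n z ∈ U) :
    ∃ V : Opens (S₀ (FibDesc.cechAug f)), s ∈ V ∧ preU (FibDesc.cechAug f) V n ≤ U := by
  have hcl : IsClosed (aug (FibDesc.cechAug f) (tA n) '' (U : Set _)ᶜ) :=
    (isProperMap_aug f hf n).isClosedMap _ U.isOpen.isClosed_compl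
  refine ⟨⟨(aug (FibDesc.cechAug f) (tA n) '' (U : Set _)ᶜ)ᶜ, hcl.isOpen_compl⟩, ?_, ?_⟩
  · rintro ⟨y, hy, hys⟩
    obtain ⟨z, hz⟩ := exists_fst_eq (sq_level f s (tA n)) y hys
    exact hy (hz ▸ hU z)
  · intro y hy
    by_contra hyU
    exact hy ⟨y, hyU, rfl⟩

include hf hs hsurj in
theorem isIso_stalk_unit_s (M : DC12.BSh (FibDesc.cechAug f)) :
    IsIso ((stk s).map ((DC12.adjY (FibDesc.cechAug f)).unit.app M)) :=
  isIso_stalk_unit (αs f s) s (hb_s f s) (hinj_s f s) (hcpt_s f s hf) (hsep_s f s hs)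
    (hnb_s f s hf) (isInducing_pt (ks s)) PUnit.unit (isCohDescentTop_Zs f s hsurj) M

include hf hs hsurj in
theorem isZero_stalk_rightDerived_s (M : DC12.BSh (FibDesc.cechAug f)) (n : ℕ) (hn : 0 < n) :
    IsZero ((stk s).obj (((pushY (FibDesc.cechAug f)).rightDerived n).obj
      ((DC12.pullY (FibDesc.cechAug f)).obj M))) :=
  isZero_stalk_rightDerived (αs f s) s (hb_s f s) (hinj_s f s) (hcpt_s f s hf) (hsep_s f s hs)
    (hnb_s f s hf) opens_pt (isInducing_pt (ks s)) PUnit.unit (isCohDescentTop_Zs f s hsurj) M n hn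

end fibre

/-- a proper, separated, surjective map is of cohomological descent -/
theorem isCohDescentMap_of_proper (hf : IsProperMap f)
    (hs : ∀ x x' : X, f x = f x' → x ≠ x' → Sep x x') (hsurj : Function.Surjective f) :
    FibDesc.IsCohDescentMap f := by
  apply DC8.isCohDescentTop_of_acyclic
  · intro M
    haveI : ∀ s : S, IsIso ((TopCat.Presheaf.stalkFunctor AddCommGrpCat.{u} s).map
        ((DC12.adjY (FibDesc.cechAug f)).unit.app M).hom) :=
      fun s => isIso_stalk_unit_s f s hf hs hsurj M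
    exact TopCat.Presheaf.isIso_of_stalkFunctor_map_iso
      ((DC12.adjY (FibDesc.cechAug f)).unit.app M)
  · intro M n hn
    rw [TopCat.Sheaf.isZero_iff_stalkFunctor_obj_isZero]
    intro s
    exact isZero_stalk_rightDerived_s f s hf hs hsurj M n hn

end

end Groth.Agent.Helper3.PC9
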