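import Mathlib
import Groth.Prelude.Def_MoreMor
import Groth.Agent.Lib.Helper3.PCLoc3
import Groth.Agent.Lib.Helper5.DRing.RelPC4

/-! Finite pseudo-coherent ring maps and morphisms (S7170). -/

set_option autoImplicit false
universe u
open CategoryTheory CategoryTheory.Limits TensorProduct DerivedCategory AlgebraicGeometry

attribute [local instance] HasDerivedCategory.standard

namespace Groth.Agent.Helper3.PCLoc
open Groth.Agent.Helper5.PCHom Groth.Agent.Helper5.PCRes Groth.Agent.Helper3.PerfHom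

section finite

variable {A B : Type u} [CommRing A] [CommRing B] [Algebra A B]

theorem pcHom_id : MoreMor.IsPseudoCoherentHom A A := by
  haveI : IsLocalization.Away (1 : A) A :=
    IsLocalization.away_of_isUnit_of_bijective _ isUnit_one Function.bijective_id
  exact pcHom_of_away (1 : A)

theorem pcHom_finite_iff [Module.Finite A B] :
    MoreMor.IsPseudoCoherentHom A B ↔ DRing.IsPseudoCoherentModule' A B := by
  rw [pcHom_iff_relpcAll, ← allPC_iff_pcModule']
  have key : ∀ m : ℤ, DerCA.IsRelPseudoCoherent A B m (Dual.inD B B) ↔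
      DRing.IsPseudoCoherent A m (Dual.inD A B) := by
    intro m
    rw [relpc_finite_iff (R := A) (A := A) (B := B), s7071 (pcHom_id (A := A))]
    have e : (DRing.restrictD (algebraMap A B)).obj (Dual.inD B B) ≅ Dual.inD A B :=
      restrictDSingle (algebraMap A B) (ModuleCat.of B B) ≪≫
        (DerivedCategory.singleFunctor (ModuleCat.{u} A) 0).mapIso
          (algEquiv (B := A) (C := B)).toModuleIso
    exact ⟨fun h => Groth.Agent.S2087.pc_of_iso e h, fun h => Groth.Agent.S2087.pc_of_iso e.symm h⟩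
  exact ⟨fun h m => (key m).1 (h m), fun h m => (key m).2 (h m)⟩

end finite

/-- S7170 -/
theorem S7170_main {X S : Scheme.{u}} (f : X ⟶ S) [IsFinite f] :
    MoreMor.IsPseudoCoherentMor f ↔ ∀ (V : S.Opens), IsAffineOpen V →
      (letI := (f.app V).hom.toAlgebra
       DRing.IsPseudoCoherentModule' Γ(S, V) Γ(X, f ⁻¹ᵁ V)) := by
  have key : ∀ (V : S.Opens) (hV : IsAffineOpen V),
      (letI := (f.app V).hom.toAlgebra
       MoreMor.IsPseudoCoherentHom Γ(S, V) Γ(X, f ⁻¹ᵁ V)) ↔
      (letI := (f.app V).hom.toAlgebra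
       DRing.IsPseudoCoherentModule' Γ(S, V) Γ(X, f ⁻¹ᵁ V)) := by
    intro V hV
    letI := (f.app V).hom.toAlgebra
    haveI : Module.Finite Γ(S, V) Γ(X, f ⁻¹ᵁ V) := f.finite_app V hV
    exact pcHom_finite_iff
  have happ : ∀ V : S.Opens, (f.appLE V (f ⁻¹ᵁ V) le_rfl) = f.app V := fun V =>
    (Scheme.Hom.app_eq_appLE f).symm
  constructor
  · intro h V hV
    rw [← key V hV]
    have h1 := h (f ⁻¹ᵁ V) V (hV.preimage f) hV le_rfl
    rw [happ V] at h1
    exact h1
  · intro h
    rw [S7166_main]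
    intro x
    obtain ⟨V, hV, hxV, -⟩ := TopologicalSpace.Opens.isBasis_iff_nbhd.mp S.isBasis_affineOpens
      (TopologicalSpace.Opens.mem_top (f x))
    refine ⟨f ⁻¹ᵁ V, V, le_rfl, hV.preimage f, hV, hxV, ?_⟩
    rw [happ V]
    exact (key V hV).2 (h V hV)

end Groth.Agent.Helper3.PCLoc
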