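import Mathlib
import Groth.Prelude.Def_MoreMor
import Groth.Agent.Lib.Helper3.PCLoc5

/-! Faithfully flat descent of pseudo-coherent and perfect ring maps. -/

set_option autoImplicit false
universe u
open CategoryTheory CategoryTheory.Limits TensorProduct DerivedCategory

attribute [local instance] HasDerivedCategory.standard

namespace Groth.Agent.Helper3.PCLoc
open Groth.Agent.Helper5.PCHom Groth.Agent.Helper5.PCRes Groth.Agent.Helper3.PerfHom
open Groth.Agent.Helper5.TorAmp Groth.Agent.Helper5.FlatBC Groth.Agent.Helper5.PerfHom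

section moddescent

variable {R R' : Type u} [CommRing R] [CommRing R'] [Algebra R R'] [Module.FaithfullyFlat R R']

theorem allPC_descent (M : Type u) [AddCommGroup M] [Module R M]
    (h : AllPC (ModuleCat.of R' (R' ⊗[R] M))) : AllPC (ModuleCat.of R M) := by
  intro m
  have h1 := pc_descent R'
    ((HomologicalComplex.single (ModuleCat.{u} R) (ComplexShape.up ℤ) 0).obj (ModuleCat.of R M)) m
    (Groth.Agent.S2087.pc_of_iso
      ((DerivedCategory.singleFunctor (ModuleCat.{u} R') 0).mapIso (eqvT R' M).toModuleIso ≪≫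
        (singleIso R' (ModuleCat.of R M)).symm) (h m))
  exact Groth.Agent.S2087.pc_of_iso ((singleFunctorIsoCompQ (ModuleCat.{u} R) 0).app _).symm h1

theorem ftd_descent (M : Type u) [AddCommGroup M] [Module R M]
    (h : DRing.HasFiniteTorDim R' (R' ⊗[R] M)) : DRing.HasFiniteTorDim R M := by
  rw [finTorDim_iff] at h ⊢
  obtain ⟨a, b, hab⟩ := h
  refine ⟨a, b, ?_⟩
  have h1 := s6950 R'
    ((HomologicalComplex.single (ModuleCat.{u} R) (ComplexShape.up ℤ) 0).obj (ModuleCat.of R M)) a b
    (hasTorAmplitudeIn_of_iso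
      ((DerivedCategory.singleFunctor (ModuleCat.{u} R') 0).mapIso (eqvT R' M).toModuleIso ≪≫
        (singleIso R' (ModuleCat.of R M)).symm) hab)
  exact hasTorAmplitudeIn_of_iso ((singleFunctorIsoCompQ (ModuleCat.{u} R) 0).app _).symm h1

end moddescent

section bc

attribute [local instance] MvPolynomial.algebraMvPolynomial

variable {R R' S S' : Type u} [CommRing R] [CommRing R'] [CommRing S] [CommRing S']
  [Algebra R R'] [Algebra R S] [Algebra R' S'] [Algebra S S'] [Algebra R S']
  [IsScalarTower R R' S'] [IsScalarTower R S S']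

/-- base change of a presentation -/
theorem exists_presentation_baseChange (hpo : Algebra.IsPushout R R' S S') {n : ℕ}
    (α : MvPolynomial (Fin n) R →ₐ[R] S) (hα : Function.Surjective α) :
    ∃ α' : MvPolynomial (Fin n) R' →ₐ[R'] S', Function.Surjective α' ∧
      (letI := α.toRingHom.toAlgebra
       letI := α'.toRingHom.toAlgebra
       Nonempty (MvPolynomial (Fin n) R' ⊗[MvPolynomial (Fin n) R] S ≃ₗ[MvPolynomial (Fin n) R']
        S')) := by
  let α' : MvPolynomial (Fin n) R' →ₐ[R'] S' :=
    MvPolynomial.aeval (fun i => algebraMap S S' (α (MvPolynomial.X i)))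
  letI : Algebra (MvPolynomial (Fin n) R) S := α.toRingHom.toAlgebra
  letI : Algebra (MvPolynomial (Fin n) R') S' := α'.toRingHom.toAlgebra
  letI : Algebra (MvPolynomial (Fin n) R) S' := ((algebraMap S S').comp α.toRingHom).toAlgebra
  haveI : IsScalarTower (MvPolynomial (Fin n) R) S S' :=
    IsScalarTower.of_algebraMap_eq (fun _ => rfl)
  have hcomp : (algebraMap S S').comp α.toRingHom =
      α'.toRingHom.comp (algebraMap (MvPolynomial (Fin n) R) (MvPolynomial (Fin n) R')) := by
    rw [MvPolynomial.algebraMap_def]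
    apply MvPolynomial.ringHom_ext
    · intro r
      show algebraMap S S' (α (MvPolynomial.C r)) =
        α' (MvPolynomial.map (algebraMap R R') (MvPolynomial.C r))
      rw [MvPolynomial.map_C, ← MvPolynomial.algebraMap_eq, ← MvPolynomial.algebraMap_eq,
        α.commutes, α'.commutes, ← IsScalarTower.algebraMap_apply,
        ← IsScalarTower.algebraMap_apply]
    · intro i
      show algebraMap S S' (α (MvPolynomial.X i)) =
        α' (MvPolynomial.map (algebraMap R R') (MvPolynomial.X i))
      rw [MvPolynomial.map_X]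
      simp [α']
  haveI : IsScalarTower (MvPolynomial (Fin n) R) (MvPolynomial (Fin n) R') S' :=
    IsScalarTower.of_algebraMap_eq (fun x => by
      show ((algebraMap S S').comp α.toRingHom) x = _
      rw [hcomp]
      rfl)
  haveI : IsScalarTower R' (MvPolynomial (Fin n) R') S' :=
    IsScalarTower.of_algebraMap_eq (fun r => (α'.commutes r).symm)
  haveI : IsScalarTower R (MvPolynomial (Fin n) R) S :=
    IsScalarTower.of_algebraMap_eq (fun r => (α.commutes r).symm)
  haveI : IsScalarTower R (MvPolynomial (Fin n) R') S' :=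
    IsScalarTower.of_algebraMap_eq (fun r => by
      rw [IsScalarTower.algebraMap_apply R R' S',
        IsScalarTower.algebraMap_apply R R' (MvPolynomial (Fin n) R'),
        ← IsScalarTower.algebraMap_apply R' (MvPolynomial (Fin n) R') S'])
  have h1 : Algebra.IsPushout (MvPolynomial (Fin n) R) S (MvPolynomial (Fin n) R') S' :=
    (Algebra.IsPushout.comp_iff R (MvPolynomial (Fin n) R) R' (S' := MvPolynomial (Fin n) R')
      (T := S) (T' := S')).1 hpo.symm
  have h2 : Algebra.IsPushout (MvPolynomial (Fin n) R) (MvPolynomial (Fin n) R') S S' := h1.symm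
  have hα' : Function.Surjective α' := by
    intro x
    refine hpo.out.inductionOn x _ ?_ ?_ ?_ ?_
    · exact ⟨0, map_zero _⟩
    · intro s
      obtain ⟨p, rfl⟩ := hα s
      refine ⟨algebraMap (MvPolynomial (Fin n) R) (MvPolynomial (Fin n) R') p, ?_⟩
      have := congrArg (fun φ => φ p) hcomp
      exact this.symm
    · rintro r' y ⟨p, rfl⟩
      exact ⟨MvPolynomial.C r' * p, by
        rw [map_mul, Algebra.smul_def]
        congr 1
        exact α'.commutes r'⟩
    · rintro y z ⟨p, rfl⟩ ⟨q, rfl⟩
      exact ⟨p + q, map_add _ _ _⟩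
  exact ⟨α', hα', ⟨h2.out.equiv⟩⟩

theorem faithfullyFlat_mvPolynomial [Module.FaithfullyFlat R R'] (n : ℕ) :
    Module.FaithfullyFlat (MvPolynomial (Fin n) R) (MvPolynomial (Fin n) R') := by
  have h3 : Algebra.IsPushout R (MvPolynomial (Fin n) R) R' (MvPolynomial (Fin n) R') :=
    inferInstance
  exact Module.FaithfullyFlat.of_linearEquiv (M := MvPolynomial (Fin n) R ⊗[R] R')
    (MvPolynomial (Fin n) R) h3.out.equiv.symm

/-- faithfully flat descent of pseudo-coherent ring maps -/
theorem pcHom_descent [Module.FaithfullyFlat R R'] (hpo : Algebra.IsPushout R R' S S')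
    (h : MoreMor.IsPseudoCoherentHom R' S') : MoreMor.IsPseudoCoherentHom R S := by
  haveI : Algebra.FiniteType R S := by
    haveI : Algebra.FiniteType R' S' := finiteType_of_pcHom h
    haveI : Algebra.FiniteType R' (R' ⊗[R] S) :=
      Algebra.FiniteType.equiv inferInstance hpo.equiv.symm
    exact Algebra.FiniteType.of_finiteType_tensorProduct_of_faithfullyFlat R'
  obtain ⟨n, α, hα⟩ := Algebra.FiniteType.iff_quotient_mvPolynomial''.1
    (inferInstance : Algebra.FiniteType R S)
  obtain ⟨α', hα', he⟩ := exists_presentation_baseChange hpo α hα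
  rw [pcHom_iff_of_presentation α' hα'] at h
  rw [pcHom_iff_of_presentation α hα]
  letI := α.toRingHom.toAlgebra
  letI := α'.toRingHom.toAlgebra
  obtain ⟨e⟩ := he
  haveI := faithfullyFlat_mvPolynomial (R := R) (R' := R') n
  have h1 : AllPC (ModuleCat.of (MvPolynomial (Fin n) R') S') := pchom_iff_alg.1 h
  exact pchom_iff_alg.2 (allPC_descent (R' := MvPolynomial (Fin n) R') S
    (allPC_of_iso e.symm.toModuleIso h1))

/-- faithfully flat descent of perfect ring maps -/
theorem perfectHom_descent [Module.FaithfullyFlat R R'] (hpo : Algebra.IsPushout R R' S S')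
    (h : MoreMor.IsPerfectHom R' S') : MoreMor.IsPerfectHom R S :=
  ⟨pcHom_descent hpo h.1, ftd_descent (R' := R') S (ftd_of_equiv hpo.out.equiv.symm h.2)⟩

end bc

end Groth.Agent.Helper3.PCLoc
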