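import Mathlib
import Groth.Prelude.Def_MoreMor
import Groth.Agent.Lib.Helper3.PCLoc6
import Groth.Agent.Lib.Helper3.PCLoc7

/-! fpqc descent of pseudo-coherent and perfect morphisms (S1505, S1511). -/

set_option autoImplicit false
universe u
open CategoryTheory CategoryTheory.Limits TensorProduct DerivedCategory AlgebraicGeometry
open MorphismProperty

attribute [local instance] HasDerivedCategory.standard

namespace Groth.Agent.Helper3.PCLoc

/-- fpqc descent for a local ring hom property which is only stable under flat base change -/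
theorem descendsAlong_of_flatBC (P : MorphismProperty Scheme.{u})
    {Q : ∀ {R S : Type u} [CommRing R] [CommRing S], (R →+* S) → Prop} [HasRingHomProperty P Q]
    (hbc : ∀ {X S X' S' : Scheme.{u}} (f : X ⟶ S) (f' : X' ⟶ S') (g' : X' ⟶ X) (g : S' ⟶ S)
      [Flat g], IsPullback g' f' f g → P f → P f')
    (h : RingHom.CodescendsAlong Q RingHom.FaithfullyFlat) :
    P.DescendsAlong (@Surjective ⊓ @Flat ⊓ @QuasiCompact) := by
  apply IsZariskiLocalAtTarget.descendsAlong
  intro R X Y f g hf hfst
  wlog hX : ∃ T, X = Spec T generalizing X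
  · have _ : CompactSpace X := by simpa [← quasiCompact_iff_compactSpace f] using hf.2
    obtain ⟨Y', p, hsurj, hP', hY'⟩ := X.exists_hom_isAffine_of_isZariskiLocalAtSource @IsLocalIso
    refine this (f := (Y'.isoSpec.inv ≫ p) ≫ f) ?_ ?_ ⟨_, rfl⟩
    · have hle : (@IsLocalIso : MorphismProperty Scheme.{u}) ≤ @Flat :=
        IsLocalIso.le_of_isZariskiLocalAtSource @Flat
      have h1 : (@Surjective ⊓ @Flat : MorphismProperty Scheme.{u}) p := ⟨hsurj, hle _ _ p hP'⟩
      refine ⟨?_, inferInstance⟩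
      rw [Category.assoc,
        (@Surjective ⊓ @Flat : MorphismProperty Scheme.{u}).cancel_left_of_respectsIso]
      exact (@Surjective ⊓ @Flat : MorphismProperty Scheme.{u}).comp_mem _ _ h1 hf.1
    · rw [← pullbackRightPullbackFstIso_inv_fst f g _, P.cancel_left_of_respectsIso]
      haveI : Flat (Y'.isoSpec.inv ≫ p) := by
        have hle : (@IsLocalIso : MorphismProperty Scheme.{u}) ≤ @Flat :=
          IsLocalIso.le_of_isZariskiLocalAtSource @Flat
        haveI : Flat p := hle _ _ p hP'
        infer_instance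
      exact hbc (pullback.fst f g) (pullback.fst (Y'.isoSpec.inv ≫ p) (pullback.fst f g))
        (pullback.snd _ _) (Y'.isoSpec.inv ≫ p) (IsPullback.of_hasPullback _ _).flip hfst
  obtain ⟨T, rfl⟩ := hX
  obtain ⟨φ, rfl⟩ := Spec.map_surjective f
  wlog hY : ∃ S, Y = Spec S generalizing Y
  · rw [IsZariskiLocalAtSource.iff_of_openCover (P := P) Y.affineCover]
    intro i
    have heq : pullback.fst (Spec.map φ) (Y.affineCover.f i ≫ g) =
        pullback.map _ _ _ _ (𝟙 _) (Y.affineCover.f i) (𝟙 _) (by simp) (by simp) ≫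
          pullback.fst (Spec.map φ) g := (pullback.lift_fst _ _ _).symm
    exact this _ (heq ▸ AlgebraicGeometry.IsZariskiLocalAtSource.comp hfst _) ⟨_, rfl⟩
  obtain ⟨S, rfl⟩ := hY
  refine of_pullback_fst_Spec_of_codescendsAlong (P := P)
    (P' := (@Surjective ⊓ @Flat ⊓ @QuasiCompact : MorphismProperty Scheme.{u})) h ?_ ?_ hf hfst
  · intro R S f hf
    rw [RingHom.FaithfullyFlat.iff_flat_and_comap_surjective]
    haveI := hf.1.1
    refine ⟨?_, (Spec.map f).surjective⟩
    have := hf.1.2
    rwa [HasRingHomProperty.Spec_iff (P := @Flat)] at this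
  · intro R S f
    exact HasRingHomProperty.Spec_iff (P := P)

theorem pc_codescendsAlong : RingHom.CodescendsAlong @PC RingHom.FaithfullyFlat := by
  intro R S R' S' _ _ _ _ _ _ _ _ _ _ _ hpo hff h
  rw [RingHom.faithfullyFlat_algebraMap_iff] at hff
  rw [pc_iff] at h ⊢
  exact pcHom_descent hpo.symm h

theorem perf_codescendsAlong : RingHom.CodescendsAlong @Perf RingHom.FaithfullyFlat := by
  intro R S R' S' _ _ _ _ _ _ _ _ _ _ _ hpo hff h
  rw [RingHom.faithfullyFlat_algebraMap_iff] at hff
  rw [perf_iff] at h ⊢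
  exact perfectHom_descent hpo.symm h

/-- S1505 -/
theorem S1505_main {X S X' S' : Scheme.{u}} (f : X ⟶ S) (f' : X' ⟶ S') (g' : X' ⟶ X)
    (g : S' ⟶ S) [Flat g] [Surjective g] [QuasiCompact g] (hc : IsPullback g' f' f g)
    (hf' : MoreMor.IsPseudoCoherentMor f') : MoreMor.IsPseudoCoherentMor f := by
  rw [pcMor_iff] at hf' ⊢
  haveI := descendsAlong_of_flatBC (affineLocally @PC)
    (fun f f' g' g _ hc hf => (pcMor_iff f').1 (S7167_main f f' g' g hc ((pcMor_iff f).2 hf)))
    pc_codescendsAlong
  exact MorphismProperty.of_isPullback_of_descendsAlong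
    (Q := (@Surjective ⊓ @Flat ⊓ @QuasiCompact : MorphismProperty Scheme.{u})) hc.flip
    ⟨⟨inferInstance, inferInstance⟩, inferInstance⟩ hf'

/-- S1511 -/
theorem S1511_main {X S X' S' : Scheme.{u}} (f : X ⟶ S) (f' : X' ⟶ S') (g' : X' ⟶ X)
    (g : S' ⟶ S) [Flat g] [Surjective g] [QuasiCompact g] (hc : IsPullback g' f' f g)
    (hf' : MoreMor.IsPerfectMor f') : MoreMor.IsPerfectMor f := by
  rw [perfMor_iff] at hf' ⊢
  haveI := descendsAlong_of_flatBC (affineLocally @Perf)
    (fun f f' g' g _ hc hf => (perfMor_iff f').1 (S1513_main f f' g' g hc ((perfMor_iff f).2 hf)))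
    perf_codescendsAlong
  exact MorphismProperty.of_isPullback_of_descendsAlong
    (Q := (@Surjective ⊓ @Flat ⊓ @QuasiCompact : MorphismProperty Scheme.{u})) hc.flip
    ⟨⟨inferInstance, inferInstance⟩, inferInstance⟩ hf'

end Groth.Agent.Helper3.PCLoc
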