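import Mathlib
import Groth.Prelude.Def_DRing2
import Groth.Agent.Lib.Helper3.FiltFree
import Groth.Agent.Lib.Helper3.PhiCoc

set_option autoImplicit false
universe u
open CategoryTheory CategoryTheory.Limits DerivedCategory CochainComplex CochainComplex.HomComplex
open Groth.Agent.Helper3.FiltFree Groth.Agent.Helper3.PhiCoc

attribute [local instance] HasDerivedCategory.standard

namespace Groth.Agent.Helper3.PCohColimB

variable {R : Type u} [CommRing R] {J : Type u} [SmallCategory J] [IsFiltered J]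
  (F : J ⥤ ModuleCat.{u} R) (c : Cocone F) (hc : IsColimit c)

lemma toSingleMk_congr {E : CochainComplex (ModuleCat.{u} R) ℤ} {M : ModuleCat.{u} R} {p q n : ℤ}
    (f f' : E.X p ⟶ M) (hff : f = f') (h : p + n = q) (p' : ℤ) (hp' : p' + 1 = p)
    (hf : E.d p' p ≫ f = 0) (hf' : E.d p' p ≫ f' = 0) :
    Cocycle.toSingleMk f h p' hp' hf = Cocycle.toSingleMk f' h p' hp' hf' := by
  subst hff; rfl

variable (E : CochainComplex (ModuleCat.{u} R) ℤ) [E.IsKProjective]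
  (hE : ∀ i : ℤ, Module.Finite R (E.X i) ∧ Module.Free R (E.X i))

include hc hE in
theorem stepB_surj (n : ℤ)
    (x : Q.obj E ⟶ (Q.obj ((CochainComplex.singleFunctor (ModuleCat.{u} R) 0).obj c.pt))⟦n⟧) :
    ∃ (j : J) (y : Q.obj E ⟶
        (Q.obj ((CochainComplex.singleFunctor (ModuleCat.{u} R) 0).obj (F.obj j)))⟦n⟧),
      y ≫ (Q.map ((CochainComplex.singleFunctor (ModuleCat.{u} R) 0).map (c.ι.app j)))⟦n⟧' = x := by
  obtain ⟨z, rfl⟩ := Φ_surjective x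
  have hpn : (-n) + n = 0 := by omega
  obtain ⟨f, hf, rfl⟩ := Cocycle.toSingleMk_surjective z (-n) hpn (-n - 1) (by omega)
  haveI := (hE (-n)).1
  haveI := (hE (-n)).2
  haveI := (hE (-n - 1)).1
  haveI := (hE (-n - 1)).2
  obtain ⟨j, ψ, hψ⟩ := exists_lift F c hc (E.X (-n)) f
  have h0 : (E.d (-n - 1) (-n) ≫ ψ) ≫ c.ι.app j = (0 : E.X (-n - 1) ⟶ F.obj j) ≫ c.ι.app j := by
    rw [Category.assoc, hψ, hf, zero_comp]
  obtain ⟨j', g, hg⟩ := exists_eq_hom F c hc (E.X (-n - 1)) _ _ h0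
  have hψ' : E.d (-n - 1) (-n) ≫ (ψ ≫ F.map g) = 0 := by
    rw [← Category.assoc, hg, zero_comp]
  refine ⟨j', Φ (Cocycle.toSingleMk (ψ ≫ F.map g) hpn (-n - 1) (by omega) hψ'), ?_⟩
  rw [← Φ_postcomp, ← Cocycle.toSingleMk_postcomp]
  congr 1
  refine toSingleMk_congr _ _ ?_ _ _ _ _ _
  rw [Category.assoc, c.w, hψ]

include hc hE in
theorem stepB_inj (n : ℤ) (j : J)
    (y : Q.obj E ⟶ (Q.obj ((CochainComplex.singleFunctor (ModuleCat.{u} R) 0).obj (F.obj j)))⟦n⟧)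
    (h : y ≫ (Q.map ((CochainComplex.singleFunctor (ModuleCat.{u} R) 0).map (c.ι.app j)))⟦n⟧' = 0) :
    ∃ (j' : J) (f : j ⟶ j'),
      y ≫ (Q.map ((CochainComplex.singleFunctor (ModuleCat.{u} R) 0).map (F.map f)))⟦n⟧' = 0 := by
  obtain ⟨z, rfl⟩ := Φ_surjective y
  have hpn : (-n) + n = 0 := by omega
  obtain ⟨ψ, hψ, rfl⟩ := Cocycle.toSingleMk_surjective z (-n) hpn (-n - 1) (by omega)
  haveI := (hE (-n)).1
  haveI := (hE (-n)).2
  haveI := (hE (-n + 1)).1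
  haveI := (hE (-n + 1)).2
  rw [← Φ_postcomp, ← Cocycle.toSingleMk_postcomp, Φ_eq_zero_iff,
    Cocycle.toSingleMk_mem_coboundaries_iff _ hpn (-n - 1) (by omega) _ (-n + 1) rfl] at h
  obtain ⟨g, hg⟩ := h
  obtain ⟨k, γ, hγ⟩ := exists_lift F c hc (E.X (-n + 1)) g
  have h0 : (ψ ≫ F.map (IsFiltered.leftToMax j k)) ≫ c.ι.app (IsFiltered.max j k) =
      (E.d (-n) (-n + 1) ≫ γ ≫ F.map (IsFiltered.rightToMax j k)) ≫
        c.ι.app (IsFiltered.max j k) := by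
    rw [Category.assoc, Category.assoc, Category.assoc, c.w, c.w, hγ, hg]
  obtain ⟨j₂, f₂, hf₂⟩ := exists_eq_hom F c hc (E.X (-n)) _ _ h0
  refine ⟨j₂, IsFiltered.leftToMax j k ≫ f₂, ?_⟩
  rw [← Φ_postcomp, ← Cocycle.toSingleMk_postcomp, Φ_eq_zero_iff,
    Cocycle.toSingleMk_mem_coboundaries_iff _ hpn (-n - 1) (by omega) _ (-n + 1) rfl]
  refine ⟨γ ≫ F.map (IsFiltered.rightToMax j k) ≫ F.map f₂, ?_⟩
  rw [F.map_comp, ← Category.assoc ψ, hf₂]
  simp only [Category.assoc]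

end Groth.Agent.Helper3.PCohColimB
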