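import Mathlib
import Groth.Prelude.Def_DRing2
import Groth.Agent.Lib.Helper3.PCohColimB
import Groth.Agent.Lib.Helper5.TorAmp.Char

set_option autoImplicit false
universe v w u
open CategoryTheory CategoryTheory.Limits DerivedCategory Pretriangulated
open Groth.Agent.Helper3.PCohColimB

attribute [local instance] HasDerivedCategory.standard

namespace Groth.Agent.Helper3.PCohColim

section General
variable {C : Type w} [Category.{v} C] [Abelian C]

lemma inj_of_tri (T : Triangle (DerivedCategory C)) (hT : T ∈ distTriang _) (a b : ℤ) (hab : a < b)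
    [T.obj₃.IsLE a] (Y : DerivedCategory C) [Y.IsGE b] (f : T.obj₂ ⟶ Y) (hf : T.mor₁ ≫ f = 0) :
    f = 0 := by
  obtain ⟨g, rfl⟩ := Triangle.yoneda_exact₂ T hT f hf
  have : g = 0 := TStructure.t.zero_of_isLE_of_isGE g a b hab inferInstance inferInstance
  rw [this, comp_zero]

lemma surj_of_tri (T : Triangle (DerivedCategory C)) (hT : T ∈ distTriang _) (a b : ℤ)
    (hab : a + 1 < b) [T.obj₃.IsLE a] (Y : DerivedCategory C) [Y.IsGE b] (h : T.obj₁ ⟶ Y) :
    ∃ f : T.obj₂ ⟶ Y, T.mor₁ ≫ f = h := by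
  have hT' := inv_rot_of_distTriang T hT
  haveI : (T.invRotate.obj₁).IsLE (a + 1) := by
    change (T.obj₃⟦(-1 : ℤ)⟧).IsLE (a + 1)
    exact TStructure.t.isLE_shift T.obj₃ a (-1) (a + 1) (by omega)
  have h0 : T.invRotate.mor₁ ≫ h = 0 :=
    TStructure.t.zero_of_isLE_of_isGE _ (a + 1) b hab inferInstance inferInstance
  obtain ⟨g, hg⟩ := Triangle.yoneda_exact₂ T.invRotate hT' h h0
  exact ⟨g, hg.symm⟩

/-- the cone of a map which is an isomorphism on `H^i` for `i > m` and epi on `H^m` -/
lemma isLE_cone (T : Triangle (DerivedCategory C)) (hT : T ∈ distTriang _) (m : ℤ)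
    (hiso : ∀ i : ℤ, m < i → IsIso ((homologyFunctor C i).map T.mor₁))
    (hepi : Epi ((homologyFunctor C m).map T.mor₁)) : T.obj₃.IsLE (m - 1) := by
  rw [isLE_iff]
  intro i hi
  have hepi' : Epi ((homologyFunctor C i).map T.mor₁) := by
    rcases eq_or_lt_of_le (show m ≤ i by omega) with h | h
    · subst h; exact hepi
    · haveI := hiso i h; infer_instance
  haveI := hiso (i + 1) (by omega)
  have hex3 := HomologySequence.exact₃ T hT i (i + 1) rfl
  have h2 : (homologyFunctor C i).map T.mor₂ = 0 := by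
    have := HomologySequence.comp_δ T hT i (i + 1) rfl
    rw [← cancel_epi ((homologyFunctor C i).map T.mor₁), comp_zero, ← Functor.map_comp,
      comp_distTriang_mor_zero₁₂ T hT, Functor.map_zero]
  have h3 : HomologySequence.δ T i (i + 1) rfl = 0 := by
    rw [← cancel_mono ((homologyFunctor C (i + 1)).map T.mor₁), zero_comp]
    exact HomologySequence.δ_comp T hT i (i + 1) rfl
  exact hex3.isZero_X₂ h2 h3

end General

section Ring
variable {R : Type u} [CommRing R]

lemma isKProjective_of_pc (E : DRing.Cx R) (a b : ℤ) (h1 : DRing.VanishesOutside E a b)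
    (h2 : DRing.TermwiseFiniteFree E) : E.IsKProjective := by
  have hv : DRing.VanishesAbove E b := fun i hi => h1 i (Or.inr hi)
  have : E.IsStrictlyLE b := Groth.Agent.Helper5.TorAmp.isStrictlyLE_of_vanishesAbove hv
  have : ∀ n, Projective (E.X n) := fun n => by
    haveI := (h2 n).2
    haveI : Module.Projective R (E.X n) := Module.Projective.of_free
    exact ModuleCat.projective_of_categoryTheory_projective _
  exact CochainComplex.isKProjective_of_projective E b

theorem main_S6999 (R : Type u) [CommRing R] (m : ℤ) (K : Dual.D R)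
    (hK : DRing.IsPseudoCoherent R m K) {J : Type u} [SmallCategory J] [IsFiltered J]
    (F : J ⥤ ModuleCat.{u} R) (c : Cocone F) (hc : IsColimit c) :
    (∀ n : ℤ, n < -m → ∀ x : K ⟶ (shiftFunctor (Dual.D R) n).obj (Dual.inD R c.pt),
      ∃ (j : J) (y : K ⟶ (shiftFunctor (Dual.D R) n).obj (Dual.inD R (F.obj j))),
        y ≫ (shiftFunctor (Dual.D R) n).map
          ((DerivedCategory.singleFunctor (ModuleCat.{u} R) 0).map (c.ι.app j)) = x) ∧
    (∀ n : ℤ, n ≤ -m → ∀ (j : J) (y : K ⟶ (shiftFunctor (Dual.D R) n).obj (Dual.inD R (F.obj j))),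
      y ≫ (shiftFunctor (Dual.D R) n).map
          ((DerivedCategory.singleFunctor (ModuleCat.{u} R) 0).map (c.ι.app j)) = 0 →
      ∃ (j' : J) (f : j ⟶ j'), y ≫ (shiftFunctor (Dual.D R) n).map
          ((DerivedCategory.singleFunctor (ModuleCat.{u} R) 0).map (F.map f)) = 0) := by
  obtain ⟨E, a, b, α, hE1, hE2, hiso, hepi⟩ := hK
  haveI : E.IsKProjective := isKProjective_of_pc E a b hE1 hE2
  obtain ⟨Z, β, γ, hT⟩ := distinguished_cocone_triangle α
  haveI hZ : (Triangle.mk α β γ).obj₃.IsLE (m - 1) := isLE_cone _ hT m hiso hepi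
  have hGE : ∀ (n : ℤ) (M : ModuleCat.{u} R),
      ((shiftFunctor (Dual.D R) n).obj (Dual.inD R M)).IsGE (-n) := by
    intro n M
    exact TStructure.t.isGE_shift (Dual.inD R M) 0 n (-n) (by omega)
  constructor
  · intro n hn x
    obtain ⟨j, yE, hyE⟩ := stepB_surj F c hc E hE2 n (α ≫ x)
    haveI := hGE n (F.obj j)
    haveI := hGE n c.pt
    obtain ⟨y, hy⟩ := surj_of_tri (Triangle.mk α β γ) hT (m - 1) (-n) (by omega)
      ((shiftFunctor (Dual.D R) n).obj (Dual.inD R (F.obj j))) yE
    refine ⟨j, y, ?_⟩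
    rw [← sub_eq_zero]
    refine inj_of_tri (Triangle.mk α β γ) hT (m - 1) (-n) (by omega) _ _ ?_
    change α ≫ _ = 0
    change α ≫ y = yE at hy
    rw [Preadditive.comp_sub, ← Category.assoc, hy, sub_eq_zero]
    exact hyE
  · intro n hn j y hy
    haveI := hGE n (F.obj j)
    have h1 : (α ≫ y) ≫ (shiftFunctor (Dual.D R) n).map
          ((DerivedCategory.singleFunctor (ModuleCat.{u} R) 0).map (c.ι.app j)) = 0 := by
      rw [Category.assoc, hy, comp_zero]
    obtain ⟨j', f, hf⟩ := stepB_inj F c hc E hE2 n j (α ≫ y) h1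
    haveI := hGE n (F.obj j')
    refine ⟨j', f, ?_⟩
    refine inj_of_tri (Triangle.mk α β γ) hT (m - 1) (-n) (by omega) _ _ ?_
    change α ≫ _ = 0
    rw [← Category.assoc]
    exact hf

end Ring

end Groth.Agent.Helper3.PCohColim
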