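import Mathlib
import Groth.Prelude.Def_PCoh
import Groth.Agent.Lib.Helper3.PCohL

/-!
# `n`-finite presentation versus `(-n)`-pseudo-coherence of a single object
-/

open CategoryTheory Limits HomologicalComplex ZeroObject

universe w v u

namespace Groth.Agent.Helper3.PCohFP

open Groth.Agent.Helper3.PCohA Groth.Agent.Helper3.PCohB Groth.Agent.Helper3.PCohE
  Groth.Agent.Helper3.PCohF Groth.Agent.Helper3.PCohI Groth.Agent.Helper3.PCohL DerivedCategory

variable {C : Type u} [Category.{v} C] [Abelian C]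

lemma epi_toCycles_of_exactAt (K : ChainComplex C ℕ) (j : ℕ) (h : K.ExactAt j) :
    Epi (K.toCycles (j + 1) j) := by
  rw [epi_iff_surjective_up_to_refinements]
  intro A z
  rw [exactAt_iff_exact_up_to_refinements K (j + 1) j ((ComplexShape.down ℕ).next j)
    (by simp) rfl] at h
  obtain ⟨A', π, hπ, x₁, hx₁⟩ := h (z ≫ K.iCycles j) (by simp)
  refine ⟨A', π, hπ, x₁, ?_⟩
  rw [← cancel_mono (K.iCycles j), Category.assoc, Category.assoc, toCycles_i, hx₁]

lemma cycles_shortExact (K : ChainComplex C ℕ) (j : ℕ) (h : K.ExactAt j) :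
    (ShortComplex.mk (K.iCycles (j + 1)) (K.toCycles (j + 1) j) (by
      rw [← cancel_mono (K.iCycles j), Category.assoc, toCycles_i, iCycles_d,
        zero_comp])).ShortExact := by
  have := epi_toCycles_of_exactAt K j h
  refine { exact := ?_, mono_f := inferInstanceAs (Mono (K.iCycles (j + 1))), epi_g := this }
  rw [ShortComplex.exact_iff_exact_up_to_refinements]
  intro A x hx
  dsimp at x hx ⊢
  have hx' : x ≫ K.d (j + 1) j = 0 := by
    rw [← toCycles_i, ← Category.assoc, hx, zero_comp]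
  exact ⟨A, 𝟙 A, inferInstance, K.liftCycles x j (by simp) hx', by simp⟩

/-- the invariant used to build a finite presentation -/
def Inv (P : ObjectProperty C) (n : ℕ) (F : C) : Prop :=
  ∃ (K : ChainComplex C ℕ) (ε : K.X 0 ⟶ F) (w : K.d 1 0 ≫ ε = 0), Epi ε ∧
    (1 ≤ n → (ShortComplex.mk (K.d 1 0) ε w).Exact) ∧
    (∀ j : ℕ, 1 ≤ j → j < n → K.ExactAt j) ∧ (∀ j : ℕ, n < j → IsZero (K.X j)) ∧
    (∀ j : ℕ, j ≤ n → P (K.X j))

theorem final {P : ObjectProperty C} {n : ℕ} {F : C} (h : Inv P n F) :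
    ∃ K : ChainComplex C ℕ, Nonempty (K.X 0 ≅ F) ∧ (∀ j : ℕ, j ≤ n → K.ExactAt j) ∧
      (∀ j : ℕ, n + 1 < j → IsZero (K.X j)) ∧ (∀ j : ℕ, 1 ≤ j → j ≤ n + 1 → P (K.X j)) := by
  obtain ⟨K, ε, w, hε, hex1, hex, hz, hP⟩ := h
  refine ⟨ChainComplex.augment K ε w, ⟨Iso.refl _⟩, fun j hj => ?_, fun j hj => ?_,
    fun j hj1 hj2 => ?_⟩
  · rcases j with _ | _ | j'
    · rw [exactAt_iff_exact_up_to_refinements _ 1 0 0 (by simp) (by simp)]
      intro A x₂ _
      rw [epi_iff_surjective_up_to_refinements] at hε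
      obtain ⟨A', π, hπ, x, hx⟩ := hε x₂
      exact ⟨A', π, hπ, x, hx⟩
    · rw [exactAt_iff_exact_up_to_refinements _ 2 1 0 (by simp) (by simp)]
      intro A x₂ hx₂
      have h1 := hex1 (by lia)
      rw [ShortComplex.exact_iff_exact_up_to_refinements] at h1
      obtain ⟨A', π, hπ, x₁, hx₁⟩ := h1 x₂ hx₂
      exact ⟨A', π, hπ, x₁, hx₁⟩
    · have hd2 : (ChainComplex.augment K ε w).d (j' + 2) (j' + 1) = K.d (j' + 1) j' :=
        ChainComplex.augment_d_succ_succ K ε w (j' + 1) j'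
      have hd3 : (ChainComplex.augment K ε w).d (j' + 3) (j' + 2) = K.d (j' + 2) (j' + 1) :=
        ChainComplex.augment_d_succ_succ K ε w (j' + 2) (j' + 1)
      have h1 := hex (j' + 1) (by lia) (by lia)
      rw [exactAt_iff_exact_up_to_refinements _ (j' + 2) (j' + 1) j' (by simp) (by simp)] at h1
      rw [exactAt_iff_exact_up_to_refinements _ (j' + 3) (j' + 2) (j' + 1) (by simp) (by simp)]
      intro A x₂ hx₂
      rw [hd2] at hx₂
      obtain ⟨A', π, hπ, x₁, hx₁⟩ := h1 x₂ hx₂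
      refine ⟨A', π, hπ, x₁, ?_⟩
      rw [hd3]
      exact hx₁
  · obtain ⟨j', rfl⟩ : ∃ j', j = j' + 1 := ⟨j - 1, by lia⟩
    exact hz j' (by lia)
  · obtain ⟨j', rfl⟩ : ∃ j', j = j' + 1 := ⟨j - 1, by lia⟩
    exact hP j' (by lia)

variable [HasDerivedCategory.{w} C]

variable {P : ObjectProperty C} [P.IsClosedUnderIsomorphisms] [P.ContainsZero]
  (hsum : ∀ X Y : C, P X → P Y → P (X ⨯ Y))
  (hqs : PCoh.IsQuasiStableUnderKernels P) (hql : PCoh.IsQuasiLiftable P)

include hsum hqs hql in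
lemma isNPC_zero_single_of_isOfFiniteType {Y : C} (h : PCoh.IsOfFiniteType P Y) :
    IsNPC P 0 ((DerivedCategory.singleFunctor C 0).obj Y) := by
  rw [isNPC_iff_isOfFiniteType hsum hqs hql _ _ (fun i hi =>
    DerivedCategory.isZero_of_isLE _ 0 i hi)]
  exact isOfFiniteType_of_iso ((singleFunctorCompHomologyFunctorIso C 0).app Y).symm h

include hsum hqs hql in
theorem isNPC_of_resolution (K : ChainComplex C ℕ) (n : ℕ)
    (hex : ∀ j : ℕ, j ≤ n → K.ExactAt j) (hP : ∀ j : ℕ, 1 ≤ j → j ≤ n + 1 → P (K.X j)) :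
    ∀ (k j : ℕ), k + j = n →
      IsNPC P (-(k : ℤ)) ((DerivedCategory.singleFunctor C 0).obj (K.cycles j)) := by
  intro k
  induction k with
  | zero =>
    intro j hj
    obtain rfl : j = n := by lia
    have := epi_toCycles_of_exactAt K j (hex j le_rfl)
    have hft : PCoh.IsOfFiniteType P (K.cycles j) :=
      ⟨K.X (j + 1), K.toCycles (j + 1) j, hP (j + 1) (by lia) le_rfl, this⟩
    have e0 : -((0 : ℕ) : ℤ) = 0 := by simp
    rw [e0]
    exact isNPC_zero_single_of_isOfFiniteType hsum hqs hql hft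
  | succ k ih =>
    intro j hj
    have h1 := ih (j + 1) (by lia)
    have hS := cycles_shortExact K j (hex j (by lia))
    have hT := hS.singleTriangle_distinguished
    have e : -((k + 1 : ℕ) : ℤ) + 1 = -(k : ℤ) := by push_cast; ring
    exact isNPC_obj₃ hsum hqs hql _ _ hT (by rw [e]; exact h1)
      (isNPC_single_of_prop (hP (j + 1) (by lia) (by lia)) _)

include hsum hqs hql in
theorem inv_of_isNPC : ∀ (n : ℕ) (F : C),
    IsNPC P (-(n : ℤ)) ((DerivedCategory.singleFunctor C 0).obj F) → Inv P n F := by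
  intro n
  induction n with
  | zero =>
    intro F hF
    have e0 : -((0 : ℕ) : ℤ) = 0 := by simp
    rw [e0] at hF
    obtain ⟨L, π, hL, hπ⟩ := isOfFiniteType_of_isNPC_single hqs hF
    refine ⟨(ChainComplex.single₀ C).obj L,
      (HomologicalComplex.singleObjXSelf (ComplexShape.down ℕ) 0 L).hom ≫ π, (by simp; exact zero_comp),
      epi_comp _ _, fun h => absurd h (by lia), fun j h1 h2 => absurd h2 (by lia),
      fun j hj => ?_, fun j hj => ?_⟩
    · exact isZero_single_obj_X _ _ _ _ (by lia)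
    · obtain rfl : j = 0 := by lia
      exact P.prop_of_iso (HomologicalComplex.singleObjXSelf (ComplexShape.down ℕ) 0 L).symm hL
  | succ n ih =>
    intro F hF
    have hF0 : IsNPC P 0 ((DerivedCategory.singleFunctor C 0).obj F) :=
      hF.of_le (by push_cast; lia)
    obtain ⟨L, π, hL, hπ⟩ := isOfFiniteType_of_isNPC_single hqs hF0
    let S : ShortComplex C := ShortComplex.mk (kernel.ι π) π (kernel.condition π)
    have hS : S.ShortExact := { exact := ShortComplex.exact_kernel π }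
    have hT := hS.singleTriangle_distinguished
    have e : -((n + 1 : ℕ) : ℤ) + 1 = -(n : ℤ) := by push_cast; ring
    have h1 : IsNPC P (-(n : ℤ)) ((DerivedCategory.singleFunctor C 0).obj (kernel π)) := by
      have := isNPC_obj₁ hsum hqs hql (-((n + 1 : ℕ) : ℤ)) _ hT (isNPC_single_of_prop hL _) hF
      rwa [e] at this
    obtain ⟨K', ε', w', hε', hex1, hex, hz, hP⟩ := ih _ h1
    have w'' : K'.d 1 0 ≫ ε' ≫ kernel.ι π = 0 := by rw [← Category.assoc, w', zero_comp]
    have hw : (ChainComplex.augment K' (ε' ≫ kernel.ι π) w'').d 1 0 ≫ π = 0 := by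
      change (ε' ≫ kernel.ι π) ≫ π = 0
      rw [Category.assoc, kernel.condition, comp_zero]
    refine ⟨ChainComplex.augment K' (ε' ≫ kernel.ι π) w'', π, hw, hπ, fun _ => ?_,
      fun j hj1 hj2 => ?_, fun j hj => ?_, fun j hj => ?_⟩
    · rw [ShortComplex.exact_iff_exact_up_to_refinements]
      intro A x₂ hx₂
      dsimp at x₂ hx₂ ⊢
      rw [epi_iff_surjective_up_to_refinements] at hε'
      obtain ⟨A', π', hπ', x₁, hx₁⟩ := hε' (kernel.lift π x₂ hx₂)
      refine ⟨A', π', hπ', x₁, ?_⟩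
      rw [← Category.assoc, ← hx₁, Category.assoc, kernel.lift_ι]
    · rcases j with _ | _ | j'
      · lia
      · rw [exactAt_iff_exact_up_to_refinements _ 2 1 0 (by simp) (by simp)]
        intro A x₂ hx₂
        have hx₂' : x₂ ≫ ε' = 0 := by
          change x₂ ≫ (ε' ≫ kernel.ι π) = 0 at hx₂
          rw [← cancel_mono (kernel.ι π), Category.assoc, hx₂, zero_comp]
        have h2 := hex1 (by lia)
        rw [ShortComplex.exact_iff_exact_up_to_refinements] at h2
        obtain ⟨A', π', hπ', x₁, hx₁⟩ := h2 x₂ hx₂'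
        exact ⟨A', π', hπ', x₁, hx₁⟩
      · have hd2 : (ChainComplex.augment K' (ε' ≫ kernel.ι π) w'').d (j' + 2) (j' + 1) =
            K'.d (j' + 1) j' := ChainComplex.augment_d_succ_succ K' _ w'' (j' + 1) j'
        have hd3 : (ChainComplex.augment K' (ε' ≫ kernel.ι π) w'').d (j' + 3) (j' + 2) =
            K'.d (j' + 2) (j' + 1) := ChainComplex.augment_d_succ_succ K' _ w'' (j' + 2) (j' + 1)
        have h2 := hex (j' + 1) (by lia) (by lia)
        rw [exactAt_iff_exact_up_to_refinements _ (j' + 2) (j' + 1) j' (by simp) (by simp)] at h2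
        rw [exactAt_iff_exact_up_to_refinements _ (j' + 3) (j' + 2) (j' + 1) (by simp) (by simp)]
        intro A x₂ hx₂
        rw [hd2] at hx₂
        obtain ⟨A', π', hπ', x₁, hx₁⟩ := h2 x₂ hx₂
        refine ⟨A', π', hπ', x₁, ?_⟩
        rw [hd3]
        exact hx₁
    · obtain ⟨j', rfl⟩ : ∃ j', j = j' + 1 := ⟨j - 1, by lia⟩
      exact hz j' (by lia)
    · rcases j with _ | j'
      · exact hL
      · exact hP j' (by lia)

include hsum hqs hql in
theorem main (F : C) (n : ℕ) :
    (∃ K : ChainComplex C ℕ, Nonempty (K.X 0 ≅ F) ∧ (∀ j : ℕ, j ≤ n → K.ExactAt j) ∧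
        (∀ j : ℕ, n + 1 < j → IsZero (K.X j)) ∧ (∀ j : ℕ, 1 ≤ j → j ≤ n + 1 → P (K.X j))) ↔
      IsNPC P (-(n : ℤ)) ((DerivedCategory.singleFunctor C 0).obj F) := by
  constructor
  · rintro ⟨K, ⟨e⟩, hex, _, hP⟩
    have h := isNPC_of_resolution hsum hqs hql K n hex hP n 0 (by lia)
    have : IsIso (K.iCycles 0) := by
      apply ShortComplex.isIso_iCycles
      exact K.shape _ _ (by simp)
    exact h.of_iso ((DerivedCategory.singleFunctor C 0).mapIso (asIso (K.iCycles 0) ≪≫ e))
  · intro h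
    exact final (inv_of_isNPC hsum hqs hql n F h)

end Groth.Agent.Helper3.PCohFP
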