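import Mathlib
import Groth.Prelude.Def_PCoh
import Groth.Prelude.Def_DRing2
import Groth.Agent.Lib.Helper3.PCohMod

/-!
# Pseudo-coherence over a finite free algebra, detected after restriction of scalars
-/

open CategoryTheory Limits HomologicalComplex CochainComplex HomComplex ZeroObject

universe u

attribute [local instance] HasDerivedCategory.standard

namespace Groth.Agent.Helper3.PCohModB

open Groth.Agent.Helper3.PCohA Groth.Agent.Helper3.PCohB Groth.Agent.Helper3.PCohD
  Groth.Agent.Helper3.PCohE Groth.Agent.Helper3.PCohF Groth.Agent.Helper3.PCohG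
  Groth.Agent.Helper3.PCohI Groth.Agent.Helper3.PCohJ DerivedCategory
  Groth.Agent.Helper3.PCohMod

variable (A : Type u) [CommRing A] (R : Type u) [Ring R] [Algebra A R]

noncomputable abbrev res : ModuleCat.{u} R ⥤ ModuleCat.{u} A := ModuleCat.restrictScalars.{u} (algebraMap A R)

lemma h1 [Module.Finite A R] [Module.Free A R] (E : ModuleCat.{u} R) (hE : Pff R E) :
    Pff A ((res A R).obj E) := by
  obtain ⟨hE1, hE2⟩ := hE
  let _ : Module A E := Module.compHom E (algebraMap A R)
  have : IsScalarTower A R E := ⟨fun a r x => by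
    change (a • r) • x = (algebraMap A R a) • (r • x)
    rw [Algebra.smul_def, mul_smul]⟩
  have f1 : Module.Finite A E := Module.Finite.trans R E
  have f2 : Module.Free A E := Module.Free.trans (R := A) (S := R) (M := E)
  exact ⟨f1, f2⟩

lemma h2 (X : ModuleCat.{u} R) (hX : PCoh.IsOfFiniteType (Pff A) ((res A R).obj X)) :
    PCoh.IsOfFiniteType (Pff R) X := by
  obtain ⟨E, π, ⟨hE1, hE2⟩, hπ⟩ := hX
  rw [ModuleCat.epi_iff_surjective] at hπ
  let _ : Module A X := Module.compHom X (algebraMap A R)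
  have : IsScalarTower A R X := ⟨fun a r x => by
    change (a • r) • x = (algebraMap A R a) • (r • x)
    rw [Algebra.smul_def, mul_smul]⟩
  have hfinA : Module.Finite A X := Module.Finite.of_surjective π.hom hπ
  have hfin : Module.Finite R X := Module.Finite.of_restrictScalars_finite A R X
  obtain ⟨n, f, hf⟩ := Module.Finite.exists_fin' R X
  refine ⟨ModuleCat.of R (Fin n → R), ModuleCat.ofHom f, ⟨?_, ?_⟩, ?_⟩
  · exact inferInstanceAs (Module.Finite R (Fin n → R))
  · exact inferInstanceAs (Module.Free R (Fin n → R))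
  · rw [ModuleCat.epi_iff_surjective]
    exact hf

lemma h0 (X : ModuleCat.{u} R) (hX : IsZero ((res A R).obj X)) : IsZero X := by
  have : Subsingleton ((res A R).obj X) := ModuleCat.subsingleton_of_isZero hX
  have : Subsingleton X := this
  exact ModuleCat.isZero_of_subsingleton _

theorem main [Module.Finite A R] [Module.Free A R]
    [PreservesFiniteLimits (res A R)] [PreservesFiniteColimits (res A R)]
    (M : DerivedCategory (ModuleCat.{u} R))
    (hM : DRing.IsPseudoCoherent' A ((res A R).mapDerivedCategory.obj M)) :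
    ∃ (F : CochainComplex (ModuleCat.{u} R) ℤ) (b : ℤ), (∀ i : ℤ, b < i → IsZero (F.X i)) ∧
      (∀ i : ℤ, Module.Finite R (F.X i) ∧ Module.Free R (F.X i)) ∧
        Nonempty (DerivedCategory.Q.obj F ≅ M) := by
  obtain ⟨E, b, hb, hE, ⟨e⟩⟩ := hM
  have hPC' : PCoh.IsPC (Pff A) ((res A R).mapDerivedCategory.obj M) := fun n =>
    ⟨E, ⟨⟨b, hb⟩, fun i _ => hE i⟩, ⟨e⟩⟩
  have hPC : PCoh.IsPC (Pff R) M :=
    PCohN.descent_isPC (res A R) (hsum R) (hqs R) (hql R) (hsum A) (hqs A) (hql A)
      (h1 A R) (h2 A R) (h0 A R) M hPC'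
  obtain ⟨F, ⟨⟨c, hc⟩, hF⟩, hiso⟩ := exists_strictPCAll (hsum R) (hqs R) (hql R) M hPC
  exact ⟨F, c, hc, hF, hiso⟩

end Groth.Agent.Helper3.PCohModB
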