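import Mathlib
import Groth.Agent.Lib.Helper3.SurjTr
import Groth.Agent.Lib.Helper3.NilFin
import Groth.Agent.Lib.Helper3.StabFree

/-!
# Pseudo-coherence descends along surjections with nilpotent kernel
-/

namespace Groth.Agent.Helper3.PCohNil

open CategoryTheory Limits DerivedCategory Groth.Agent.Helper3.ProjLiftNil
open Groth.Agent.Helper3.PcLift Groth.Agent.Lib.Helper5.KProj

universe u

section Modules

variable {A : Type u} [CommRing A] {I : Ideal A}

/-- a module in the class whose reduction is finite free is finite free -/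
lemma finite_free_of_E {Pc : ObjectProperty (ModuleCat.{u} A)} (H : PcHyp I Pc)
    (hPc : ∀ Y : ModuleCat.{u} A, Module.Finite A Y → Module.Free A Y → Pc Y)
    (X : ModuleCat.{u} A) (hX : Pc X)
    (M : ModuleCat.{u} (A ⧸ I)) [Module.Finite (A ⧸ I) M] [Module.Free (A ⧸ I) M]
    (e : (E I).obj X ≅ M) : Module.Finite A X ∧ Module.Free A X := by
  obtain ⟨XF, hXF1, hXF2, ⟨eF⟩⟩ := Groth.Agent.Helper3.StabFree.exists_free_lift I M
  have hXFp' : Module.Projective A XF := Module.Projective.of_free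
  have hXFp : Projective XF := ModuleCat.projective_of_categoryTheory_projective _
  obtain ⟨f, hf⟩ := exists_lift_hom I (eF.hom ≫ e.inv)
  have : IsIso f := H.isIso_of_map_isIso (hPc XF hXF1 hXF2) hX f (by rw [hf]; infer_instance)
  exact ⟨Module.Finite.equiv (asIso f).toLinearEquiv, Module.Free.of_equiv (asIso f).toLinearEquiv⟩

end Modules

attribute [local instance] HasDerivedCategory.standard

theorem main_S6971 {R' R : Type u} [CommRing R'] [CommRing R]
    (φ : R' →+* R) (hφ : Function.Surjective φ) (hnil : IsNilpotent (RingHom.ker φ))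
    [DRing.HasLBaseChange φ] (K' : Dual.D R') :
    DRing.IsPseudoCoherent' R ((DRing.LBaseChange φ).obj K') ↔ DRing.IsPseudoCoherent' R' K' := by
  constructor
  · intro h
    haveI := Groth.Agent.Helper3.SurjTr.hasLBaseChange (Ideal.Quotient.mk (RingHom.ker φ))
    obtain ⟨N₀, b, h0, ht, ⟨e⟩⟩ := Groth.Agent.Helper3.SurjTr.isPseudoCoherent'_ρD φ hφ _ h
    obtain ⟨t⟩ := Groth.Agent.Helper3.SurjTr.lbc_transport φ hφ K'
    obtain ⟨P, b', hP0, hPp, ⟨eP⟩, ⟨eE⟩⟩ := Groth.Agent.Helper3.DerNak.main_S6970 R'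
      (RingHom.ker φ) hnil K' N₀ b h0 (fun i => by
        obtain ⟨h1, h2⟩ := ht i
        exact Module.Projective.of_free) ⟨e ≪≫ t⟩
    refine ⟨P, b', hP0, fun i => ?_, ⟨eP⟩⟩
    obtain ⟨h1, h2⟩ := ht i
    exact finite_free_of_E (pcHyp_projective hnil)
      (fun Y _ _ => Module.Projective.of_free) (P.X i) (hPp i) (N₀.X i)
      ((HomologicalComplex.eval _ _ i).mapIso eE)
  · rintro ⟨F, b, h0, ht, ⟨e⟩⟩
    haveI : F.IsKProjective := isKProjective_of_bdd F b h0 (fun i => by
      obtain ⟨h1, h2⟩ := ht i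
      exact Module.Projective.of_free)
    exact ⟨(bcCx φ).obj F, b, vanishesAbove_bcCx φ F b h0, termwiseFiniteFree_bcCx φ F ht,
      ⟨(lbcIso φ F).symm ≪≫ (DRing.LBaseChange φ).mapIso e⟩⟩

end Groth.Agent.Helper3.PCohNil
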