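import Mathlib

/-!
# The p-adic dilatation algebra (S19616)

For a commutative ring `A`, a natural number `p` and `a : Fin n → A`, we construct the universal
`p`-adically complete, `p`-torsion-free `A`-algebra in which every `a i` is divisible by `p`:
take `A[X_1..X_n]/(p X_i - a_i)`, kill the `p`-power torsion, and `p`-adically complete.

* `mem_span_pow_iff`, `span_fg`: basics on the ideal `(p)`.
* `comp_complete`, `comp_regular`, `exists_lift`, `hom_ext`: the `p`-adic completion of a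
  `p`-torsion-free ring is complete, `p`-torsion-free, and has the expected universal property.
* `ptors`, `quot_regular`, `le_ker`: the `p`-power torsion ideal.
* `Dil`, `ι`, `exists_algHom`, `ringHom_ext'`: the composite construction.
* `Pres`, `tgen`, `pres_exists`, `pres_ext`: the presentation `A[X]/(pX_i - a_i)`.
* `main`: the assembled statement.
-/

set_option autoImplicit false

universe u

namespace Groth.Agent.Helper3.PDil

section Completion

variable (p : ℕ) (R : Type*) [CommRing R]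

theorem mem_span_pow_iff (x : R) (n : ℕ) :
    x ∈ (Ideal.span {(p : R)}) ^ n ↔ ∃ z, x = (p : R) ^ n * z := by
  rw [Ideal.span_singleton_pow, Ideal.mem_span_singleton']
  constructor
  · rintro ⟨z, rfl⟩; exact ⟨z, mul_comm _ _⟩
  · rintro ⟨z, rfl⟩; exact ⟨z, mul_comm _ _⟩

theorem span_fg : (Ideal.span {(p : R)}).FG := ⟨{(p : R)}, by simp⟩

theorem cauchy_sub_mem (c : AdicCompletion.AdicCauchySequence (Ideal.span {(p : R)}) R)
    {m n : ℕ} (hmn : m ≤ n) : c.val m - c.val n ∈ (Ideal.span {(p : R)}) ^ m := by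
  have h3 := c.2 hmn
  rw [SModEq.sub_mem, smul_eq_mul, Ideal.mul_top] at h3
  exact h3

theorem comp_complete :
    IsAdicComplete (Ideal.span {((p : ℕ) : AdicCompletion (Ideal.span {(p : R)}) R)})
      (AdicCompletion (Ideal.span {(p : R)}) R) := by
  have h := AdicCompletion.isAdicComplete_self (Ideal.span {(p : R)}) (span_fg p R)
  rwa [Ideal.map_span, Set.image_singleton, map_natCast] at h

theorem comp_regular (h : IsSMulRegular R (p : R)) :
    IsSMulRegular (AdicCompletion (Ideal.span {(p : R)}) R)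
      ((p : ℕ) : AdicCompletion (Ideal.span {(p : R)}) R) := by
  rw [isSMulRegular_iff_right_eq_zero_of_smul]
  intro w hw
  obtain ⟨c, rfl⟩ := AdicCompletion.mk_surjective _ _ w
  refine AdicCompletion.ext_evalₐ fun n => ?_
  rw [AdicCompletion.evalₐ_mk, map_zero, Ideal.Quotient.eq_zero_iff_mem]
  have h1 := congrArg (AdicCompletion.evalₐ (Ideal.span {(p : R)}) (n + 1)) hw
  rw [smul_eq_mul, map_mul, map_natCast, AdicCompletion.evalₐ_mk, map_zero,
    ← map_natCast (Ideal.Quotient.mk (Ideal.span {(p : R)} ^ (n + 1))) p, ← map_mul,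
    Ideal.Quotient.eq_zero_iff_mem, mem_span_pow_iff] at h1
  obtain ⟨z, hz⟩ := h1
  have h2 : c.val (n + 1) = (p : R) ^ n * z := by
    apply h
    simp only [smul_eq_mul]
    rw [hz, pow_succ]; ring
  have h3 := cauchy_sub_mem p R c (Nat.le_succ n)
  have h4 : c.val n = (c.val n - c.val (n + 1)) + c.val (n + 1) := by ring
  rw [h4]
  refine Ideal.add_mem _ h3 ?_
  rw [h2, mem_span_pow_iff]; exact ⟨z, rfl⟩

theorem exists_lift {S : Type*} [CommRing S] [IsAdicComplete (Ideal.span {(p : S)}) S]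
    (ψ : R →+* S) :
    ∃ Ψ : AdicCompletion (Ideal.span {(p : R)}) R →+* S,
      ∀ x, Ψ (algebraMap R (AdicCompletion (Ideal.span {(p : R)}) R) x) = ψ x := by
  have hle : ∀ n, (Ideal.span {(p : R)}) ^ n ≤ ((Ideal.span {(p : S)}) ^ n).comap ψ := by
    intro n x hx
    rw [mem_span_pow_iff] at hx
    obtain ⟨z, rfl⟩ := hx
    rw [Ideal.mem_comap, map_mul, map_pow, map_natCast, mem_span_pow_iff]
    exact ⟨_, rfl⟩
  let f : (n : ℕ) → AdicCompletion (Ideal.span {(p : R)}) R →+* S ⧸ (Ideal.span {(p : S)}) ^ n :=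
    fun n => (Ideal.quotientMap _ ψ (hle n)).comp
      (AdicCompletion.evalₐ (Ideal.span {(p : R)}) n).toRingHom
  have hf : ∀ {m n : ℕ} (hmn : m ≤ n),
      (Ideal.Quotient.factorPow (Ideal.span {(p : S)}) hmn).comp (f n) = f m := by
    intro m n hmn
    ext w
    obtain ⟨c, rfl⟩ := AdicCompletion.mk_surjective _ _ w
    simp only [f, RingHom.comp_apply, AlgHom.toRingHom_eq_coe, RingHom.coe_coe,
      AdicCompletion.evalₐ_mk, Ideal.quotientMap_mk, Ideal.Quotient.factor_mk]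
    rw [Ideal.Quotient.eq, ← map_sub, ← Ideal.mem_comap]
    apply hle m
    have h3 := cauchy_sub_mem p R c hmn
    have h4 : c.val n - c.val m = -(c.val m - c.val n) := by ring
    rw [h4]; exact neg_mem h3
  refine ⟨IsAdicComplete.liftRingHom (Ideal.span {(p : S)}) f hf, ?_⟩
  intro x
  have key : (fun x => IsAdicComplete.liftRingHom (Ideal.span {(p : S)}) f hf
      (algebraMap R (AdicCompletion (Ideal.span {(p : R)}) R) x)) = (fun x => ψ x) := by
    apply IsHausdorff.funext' (Ideal.span {(p : S)})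
    intro n r
    show Ideal.Quotient.mk _ (IsAdicComplete.liftRingHom (Ideal.span {(p : S)}) f hf
      (algebraMap R (AdicCompletion (Ideal.span {(p : R)}) R) r)) = Ideal.Quotient.mk _ (ψ r)
    rw [IsAdicComplete.mk_liftRingHom]
    show Ideal.quotientMap _ ψ (hle n)
      (AdicCompletion.evalₐ _ n (AdicCompletion.of _ R r)) = _
    rw [AdicCompletion.evalₐ_of, Ideal.quotientMap_mk]
  exact congrFun key x

theorem hom_ext {S : Type*} [CommRing S] [IsHausdorff (Ideal.span {(p : S)}) S]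
    (Ψ₁ Ψ₂ : AdicCompletion (Ideal.span {(p : R)}) R →+* S)
    (h : ∀ x, Ψ₁ (algebraMap R (AdicCompletion (Ideal.span {(p : R)}) R) x) =
      Ψ₂ (algebraMap R (AdicCompletion (Ideal.span {(p : R)}) R) x)) : Ψ₁ = Ψ₂ := by
  apply DFunLike.coe_injective
  apply IsHausdorff.funext' (Ideal.span {(p : S)})
  intro n w
  obtain ⟨y, hy⟩ := Submodule.mkQ_surjective _
    (AdicCompletion.eval (Ideal.span {(p : R)}) R n w)
  have h1 : w - algebraMap R (AdicCompletion (Ideal.span {(p : R)}) R) y ∈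
      (Ideal.span {(p : R)} ^ n • ⊤ :
        Submodule R (AdicCompletion (Ideal.span {(p : R)}) R)) := by
    rw [AdicCompletion.pow_smul_top_eq_ker_eval (span_fg p R), LinearMap.mem_ker, map_sub]
    show _ - AdicCompletion.eval _ R n (AdicCompletion.of _ R y) = 0
    rw [AdicCompletion.eval_of, hy, sub_self]
  rw [Ideal.span_singleton_pow, Submodule.ideal_span_singleton_smul,
    Submodule.mem_smul_pointwise_iff_exists] at h1
  obtain ⟨z, -, hz⟩ := h1
  have h2 : w = algebraMap R (AdicCompletion (Ideal.span {(p : R)}) R) y +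
      ((p : ℕ) : AdicCompletion (Ideal.span {(p : R)}) R) ^ n * z := by
    rw [← sub_eq_iff_eq_add', ← hz, Algebra.smul_def, map_pow, map_natCast]
  have h3 : ∀ Ψ : AdicCompletion (Ideal.span {(p : R)}) R →+* S,
      Ideal.Quotient.mk (Ideal.span {(p : S)} ^ n) (Ψ w) =
        Ideal.Quotient.mk _ (Ψ (algebraMap R (AdicCompletion (Ideal.span {(p : R)}) R) y)) := by
    intro Ψ
    rw [h2, map_add, map_mul, map_pow, map_natCast, map_add, add_eq_left,
      Ideal.Quotient.eq_zero_iff_mem, mem_span_pow_iff]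
    exact ⟨_, rfl⟩
  rw [h3 Ψ₁, h3 Ψ₂, h]

end Completion

section Tors

variable (p : ℕ) (R₀ : Type*) [CommRing R₀]

/-- The ideal of `p`-power torsion elements. -/
def ptors : Ideal R₀ where
  carrier := {x | ∃ k : ℕ, (p : R₀) ^ k * x = 0}
  add_mem' := by
    rintro x y ⟨k, hk⟩ ⟨l, hl⟩
    refine ⟨k + l, ?_⟩
    linear_combination (p : R₀) ^ l * hk + (p : R₀) ^ k * hl
  zero_mem' := ⟨0, by simp⟩
  smul_mem' := by
    rintro c x ⟨k, hk⟩
    refine ⟨k, ?_⟩
    show (p : R₀) ^ k * (c * x) = 0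
    linear_combination c * hk

theorem mem_ptors (x : R₀) : x ∈ ptors p R₀ ↔ ∃ k : ℕ, (p : R₀) ^ k * x = 0 := Iff.rfl

theorem quot_regular : IsSMulRegular (R₀ ⧸ ptors p R₀) ((p : ℕ) : R₀ ⧸ ptors p R₀) := by
  rw [isSMulRegular_iff_right_eq_zero_of_smul]
  intro m hm
  obtain ⟨x, rfl⟩ := Ideal.Quotient.mk_surjective m
  rw [smul_eq_mul, ← map_natCast (Ideal.Quotient.mk (ptors p R₀)) p, ← map_mul,
    Ideal.Quotient.eq_zero_iff_mem, mem_ptors] at hm
  obtain ⟨k, hk⟩ := hm
  rw [Ideal.Quotient.eq_zero_iff_mem, mem_ptors]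
  exact ⟨k + 1, by rw [pow_succ, mul_assoc]; exact hk⟩

variable {p R₀} in
theorem le_ker {B : Type*} [CommRing B] (hB : IsSMulRegular B (p : B)) (φ : R₀ →+* B) :
    ∀ x ∈ ptors p R₀, φ x = 0 := by
  rintro x ⟨k, hk⟩
  apply (hB.pow k).right_eq_zero_of_smul
  rw [smul_eq_mul, ← map_natCast φ, ← map_pow, ← map_mul, hk, map_zero]

end Tors

section Dil

variable (p : ℕ) (R₀ : Type*) [CommRing R₀]

/-- The `p`-adic completion of the quotient of `R₀` by its `p`-power torsion. -/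
abbrev Dil : Type _ :=
  AdicCompletion (Ideal.span {((p : ℕ) : R₀ ⧸ ptors p R₀)}) (R₀ ⧸ ptors p R₀)

/-- The canonical ring map `R₀ → Dil p R₀`. -/
noncomputable def ι : R₀ →+* Dil p R₀ :=
  (algebraMap (R₀ ⧸ ptors p R₀) (Dil p R₀)).comp (Ideal.Quotient.mk (ptors p R₀))

theorem ι_algebraMap {A : Type*} [CommRing A] [Algebra A R₀] (r : A) :
    ι p R₀ (algebraMap A R₀ r) = algebraMap A (Dil p R₀) r := rfl

theorem dil_complete : IsAdicComplete (Ideal.span {((p : ℕ) : Dil p R₀)}) (Dil p R₀) :=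
  comp_complete p (R₀ ⧸ ptors p R₀)

theorem dil_regular : IsSMulRegular (Dil p R₀) ((p : ℕ) : Dil p R₀) :=
  comp_regular p (R₀ ⧸ ptors p R₀) (quot_regular p R₀)

theorem exists_algHom {A : Type*} [CommRing A] [Algebra A R₀]
    {B : Type*} [CommRing B] [Algebra A B] [IsAdicComplete (Ideal.span {(p : B)}) B]
    (hB : IsSMulRegular B (p : B)) (φ : R₀ →ₐ[A] B) :
    ∃ Φ : Dil p R₀ →ₐ[A] B, ∀ x, Φ (ι p R₀ x) = φ x := by
  obtain ⟨Ψ, hΨ⟩ := exists_lift p (R₀ ⧸ ptors p R₀)
    (Ideal.Quotient.lift (ptors p R₀) φ.toRingHom (le_ker hB φ.toRingHom))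
  refine ⟨{ toRingHom := Ψ, commutes' := fun r => ?_ }, fun x => ?_⟩
  · show Ψ (algebraMap A (Dil p R₀) r) = _
    rw [← ι_algebraMap, ι, RingHom.comp_apply, hΨ, Ideal.Quotient.lift_mk]
    exact φ.commutes r
  · show Ψ (ι p R₀ x) = _
    rw [ι, RingHom.comp_apply, hΨ, Ideal.Quotient.lift_mk]
    rfl

theorem ringHom_ext' {B : Type*} [CommRing B] [IsHausdorff (Ideal.span {(p : B)}) B]
    (Φ₁ Φ₂ : Dil p R₀ →+* B) (h : ∀ x, Φ₁ (ι p R₀ x) = Φ₂ (ι p R₀ x)) : Φ₁ = Φ₂ := by
  apply hom_ext p (R₀ ⧸ ptors p R₀)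
  intro y
  obtain ⟨x, rfl⟩ := Ideal.Quotient.mk_surjective y
  exact h x

end Dil

section Pres

variable (p : ℕ) {A : Type*} [CommRing A] {n : ℕ} (a : Fin n → A)

/-- The ideal `(p X_i - a_i)` of `A[X_1, …, X_n]`. -/
noncomputable def relIdeal : Ideal (MvPolynomial (Fin n) A) :=
  Ideal.span (Set.range fun i =>
    ((p : ℕ) : MvPolynomial (Fin n) A) * MvPolynomial.X i - MvPolynomial.C (a i))

/-- `A[X_1, …, X_n]/(p X_i - a_i)`. -/
abbrev Pres : Type _ := MvPolynomial (Fin n) A ⧸ relIdeal p a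

/-- The class of `X_i`. -/
noncomputable def tgen (i : Fin n) : Pres p a := Ideal.Quotient.mk _ (MvPolynomial.X i)

theorem tgen_spec (i : Fin n) :
    ((p : ℕ) : Pres p a) * tgen p a i = algebraMap A (Pres p a) (a i) := by
  show _ = Ideal.Quotient.mk _ (MvPolynomial.C (a i))
  rw [tgen, ← map_natCast (Ideal.Quotient.mk (relIdeal p a)) p, ← map_mul, Ideal.Quotient.eq]
  exact Ideal.subset_span ⟨i, rfl⟩

theorem pres_exists {B : Type*} [CommRing B] [Algebra A B] (b : Fin n → B)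
    (hb : ∀ i, (p : B) * b i = algebraMap A B (a i)) :
    ∃ φ : Pres p a →ₐ[A] B, ∀ i, φ (tgen p a i) = b i := by
  have hker : relIdeal p a ≤
      RingHom.ker (MvPolynomial.aeval b : MvPolynomial (Fin n) A →ₐ[A] B) := by
    rw [relIdeal, Ideal.span_le]
    rintro _ ⟨i, rfl⟩
    rw [SetLike.mem_coe, RingHom.mem_ker, map_sub, map_mul, map_natCast, MvPolynomial.aeval_X,
      MvPolynomial.aeval_C, hb, sub_self]
  refine ⟨Ideal.Quotient.liftₐ (relIdeal p a) (MvPolynomial.aeval b) (fun x hx => hker hx),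
    fun i => ?_⟩
  rw [tgen, Ideal.Quotient.liftₐ_apply, Ideal.Quotient.lift_mk]
  exact MvPolynomial.aeval_X b i

theorem pres_ext {B : Type*} [CommRing B] [Algebra A B] (φ₁ φ₂ : Pres p a →ₐ[A] B)
    (h : ∀ i, φ₁ (tgen p a i) = φ₂ (tgen p a i)) : φ₁ = φ₂ := by
  apply Ideal.Quotient.algHom_ext
  apply MvPolynomial.algHom_ext
  intro i
  exact h i

end Pres

section Main

/-- The assembled statement, for an abstract presentation `(R₀, t)`. -/
theorem main_aux (p : ℕ) (A : Type u) [CommRing A] {n : ℕ} (a : Fin n → A)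
    (R₀ : Type u) [CommRing R₀] [Algebra A R₀] (t : Fin n → R₀)
    (ht : ∀ i, ((p : ℕ) : R₀) * t i = algebraMap A R₀ (a i))
    (U1 : ∀ (B : Type u) [CommRing B] [Algebra A B] (b : Fin n → B),
      (∀ i, (p : B) * b i = algebraMap A B (a i)) → ∃ φ : R₀ →ₐ[A] B, ∀ i, φ (t i) = b i)
    (U2 : ∀ (B : Type u) [CommRing B] [Algebra A B] (φ₁ φ₂ : R₀ →ₐ[A] B),
      (∀ i, φ₁ (t i) = φ₂ (t i)) → φ₁ = φ₂) :
    ∃ (D : Type u) (_ : CommRing D) (_ : Algebra A D),
      IsAdicComplete (Ideal.span {(p : D)}) D ∧ IsSMulRegular D (p : D) ∧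
      (∀ i, algebraMap A D (a i) ∈ Ideal.span {(p : D)}) ∧
      ∀ (B : Type u) [CommRing B] [Algebra A B] [IsAdicComplete (Ideal.span {(p : B)}) B],
        IsSMulRegular B (p : B) → (∀ i, algebraMap A B (a i) ∈ Ideal.span {(p : B)}) →
          Nonempty (D →ₐ[A] B) ∧ Subsingleton (D →ₐ[A] B) ∧
            (Function.Surjective (algebraMap A B) →
              ∀ f : D →ₐ[A] B, Function.Surjective f) := by
  refine ⟨Dil p R₀, inferInstance, inferInstance, dil_complete p R₀, dil_regular p R₀, ?_, ?_⟩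
  · intro i
    rw [Ideal.mem_span_singleton']
    refine ⟨ι p R₀ (t i), ?_⟩
    rw [mul_comm, ← ι_algebraMap, ← ht i, map_mul, map_natCast]
  · intro B _ _ _ hB hdiv
    refine ⟨?_, ⟨fun Φ₁ Φ₂ => ?_⟩, ?_⟩
    · have hb : ∀ i, ∃ b : B, (p : B) * b = algebraMap A B (a i) := by
        intro i
        obtain ⟨b, hb⟩ := Ideal.mem_span_singleton'.mp (hdiv i)
        exact ⟨b, by rw [mul_comm]; exact hb⟩
      choose b hb using hb
      obtain ⟨φ, -⟩ := U1 B b hb
      obtain ⟨Φ, -⟩ := exists_algHom p R₀ hB φ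
      exact ⟨Φ⟩
    · have mkφ : ∀ Φ : Dil p R₀ →ₐ[A] B, ∃ φ : R₀ →ₐ[A] B, ∀ x, φ x = Φ (ι p R₀ x) := by
        intro Φ
        refine ⟨{ toRingHom := Φ.toRingHom.comp (ι p R₀), commutes' := fun r => ?_ },
          fun x => rfl⟩
        show Φ (ι p R₀ (algebraMap A R₀ r)) = _
        rw [ι_algebraMap]
        exact Φ.commutes r
      obtain ⟨φ₁, h₁⟩ := mkφ Φ₁
      obtain ⟨φ₂, h₂⟩ := mkφ Φ₂
      have hval : ∀ (Φ : Dil p R₀ →ₐ[A] B) (i : Fin n),
          (p : B) * Φ (ι p R₀ (t i)) = algebraMap A B (a i) := by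
        intro Φ i
        rw [← map_natCast Φ p, ← map_mul, ← map_natCast (ι p R₀) p, ← map_mul, ht i,
          ι_algebraMap]
        exact Φ.commutes (a i)
      have hφ : φ₁ = φ₂ := by
        apply U2 B
        intro i
        rw [h₁, h₂]
        apply hB
        simp only [smul_eq_mul]
        rw [hval Φ₁ i, hval Φ₂ i]
      have hr : Φ₁.toRingHom = Φ₂.toRingHom := by
        apply ringHom_ext' p R₀
        intro x
        show Φ₁ (ι p R₀ x) = Φ₂ (ι p R₀ x)
        rw [← h₁, ← h₂, hφ]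
      exact AlgHom.ext fun x => RingHom.congr_fun hr x
    · intro hs f b
      obtain ⟨r, rfl⟩ := hs b
      exact ⟨algebraMap A (Dil p R₀) r, f.commutes r⟩

theorem main (p : ℕ) (A : Type u) [CommRing A] {n : ℕ} (a : Fin n → A) :
    ∃ (D : Type u) (_ : CommRing D) (_ : Algebra A D),
      IsAdicComplete (Ideal.span {(p : D)}) D ∧ IsSMulRegular D (p : D) ∧
      (∀ i, algebraMap A D (a i) ∈ Ideal.span {(p : D)}) ∧
      ∀ (B : Type u) [CommRing B] [Algebra A B] [IsAdicComplete (Ideal.span {(p : B)}) B],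
        IsSMulRegular B (p : B) → (∀ i, algebraMap A B (a i) ∈ Ideal.span {(p : B)}) →
          Nonempty (D →ₐ[A] B) ∧ Subsingleton (D →ₐ[A] B) ∧
            (Function.Surjective (algebraMap A B) →
              ∀ f : D →ₐ[A] B, Function.Surjective f) :=
  main_aux p A a (Pres p a) (tgen p a) (tgen_spec p a)
    (fun B _ _ b hb => pres_exists p a b hb)
    (fun B _ _ φ₁ φ₂ h => pres_ext p a φ₁ φ₂ h)

end Main

end Groth.Agent.Helper3.PDil
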