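import Mathlib
import Groth.Prelude.Def_CurvBase
import Groth.Agent.Lib.Helper6.Normal.InsepAlg
import Groth.Agent.Lib.Helper7.SmoothBC.MinPrime
import Groth.Agent.Lib.Helper7.LimRed2
import Groth.Agent.Lib.Helper4.MaxGeomRed1

/-!
# A finite purely inseparable extension making the reduction geometrically reduced (helper3)

For a scheme `X` locally of finite type over a field `k` with finitely many irreducible components
there is a finite purely inseparable extension `k'` such that `(X_{k'})_red` is geometrically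
reduced over `k'`.
-/

set_option autoImplicit false
set_option backward.isDefEq.respectTransparency.types false
set_option synthInstance.maxHeartbeats 400000
set_option maxHeartbeats 4000000
set_option linter.unusedSectionVars false
set_option linter.style.haveILetI false
set_option linter.unusedVariables false

open CategoryTheory CategoryTheory.Limits AlgebraicGeometry TensorProduct
open Groth.Agent.Lib.Helper6.Normal

namespace Groth.Agent.Lib.Helper3.PIRed1

universe u

section Alg

/-- family version of `exists_finite_purelyInseparable_algebra_aux` -/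
theorem exists_family_aux (k : Type u) [Field k] {ι : Type u} [Finite ι] (A : ι → Type u)
    [∀ i, CommRing (A i)] [∀ i, Algebra k (A i)] (P : Type u) [Field P] [Algebra k P]
    [IsPurelyInseparable k P] [PerfectField P] [∀ i, IsNoetherianRing (P ⊗[k] A i)] :
    ∃ (k' : Type u) (_ : Field k') (_ : Algebra k k'),
      FiniteDimensional k k' ∧ IsPurelyInseparable k k' ∧
        ∀ i, Algebra.IsGeometricallyReduced k' ((k' ⊗[k] A i) ⧸ nilradical (k' ⊗[k] A i)) := by
  classical
  have h1 : ∀ i, ∃ s : Finset (P ⊗[k] A i),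
      Submodule.span (P ⊗[k] A i) (s : Set (P ⊗[k] A i)) = nilradical (P ⊗[k] A i) :=
    fun i => IsNoetherian.noetherian (nilradical (P ⊗[k] A i))
  choose s hs using h1
  have h2 : ∀ i, ∃ t : Finset P, ((s i : Finset (P ⊗[k] A i)) : Set (P ⊗[k] A i)) ⊆
      Set.range (adjMap k (A i) P t) := fun i => exists_subset_range_adjMap k (A i) P (s i)
  choose t ht using h2
  haveI : Fintype ι := Fintype.ofFinite ι
  let T : Finset P := Finset.univ.biUnion t
  have halg : Algebra.IsAlgebraic k P := inferInstance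
  have hfin : FiniteDimensional k (IntermediateField.adjoin k (T : Set P)) :=
    IntermediateField.finiteDimensional_adjoin fun x _ => Algebra.IsIntegral.isIntegral x
  have hpi : IsPurelyInseparable k (IntermediateField.adjoin k (T : Set P)) :=
    IsPurelyInseparable.tower_bot k _ P
  have halg' : Algebra.IsAlgebraic (IntermediateField.adjoin k (T : Set P)) P :=
    Algebra.IsAlgebraic.tower_top (K := k) _
  refine ⟨IntermediateField.adjoin k (T : Set P), inferInstance, inferInstance, hfin, hpi,
    fun i => ?_⟩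
  refine isGeometricallyReduced_quotient_nilradicalA k (A i) P
    (IntermediateField.adjoin k (T : Set P)) ?_
  rw [← hs i, Ideal.submodule_span_eq, Ideal.span_le]
  intro b hb
  have hsub : t i ⊆ T := Finset.subset_biUnion_of_mem t (Finset.mem_univ i)
  obtain ⟨z, hz⟩ := adjMap_range_mono k (A i) P hsub (ht i hb)
  have hbN : IsNilpotent b := by
    have : b ∈ nilradical (P ⊗[k] A i) := by
      rw [← hs i]
      exact Submodule.subset_span hb
    exact mem_nilradical.mp this
  have hnat : natMapA k (A i) P (IntermediateField.adjoin k (T : Set P)) z = b := hz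
  have hzN : IsNilpotent z := by
    rw [← hnat] at hbN
    exact (IsNilpotent.map_iff
      (natMapA_injective k (A i) P (IntermediateField.adjoin k (T : Set P)))).mp hbN
  rw [← hnat]
  exact Ideal.mem_map_of_mem _ (mem_nilradical.mpr hzN)

theorem exists_family (k : Type u) [Field k] {ι : Type u} [Finite ι] (A : ι → Type u)
    [∀ i, CommRing (A i)] [∀ i, Algebra k (A i)] [∀ i, Algebra.FiniteType k (A i)] :
    ∃ (k' : Type u) (_ : Field k') (_ : Algebra k k'),
      FiniteDimensional k k' ∧ IsPurelyInseparable k k' ∧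
        ∀ i, Algebra.IsGeometricallyReduced k' ((k' ⊗[k] A i) ⧸ nilradical (k' ⊗[k] A i)) := by
  haveI : ∀ i, IsNoetherianRing (perfectClosure k (AlgebraicClosure k) ⊗[k] A i) := fun i =>
    Algebra.FiniteType.isNoetherianRing (perfectClosure k (AlgebraicClosure k))
      (perfectClosure k (AlgebraicClosure k) ⊗[k] A i)
  exact exists_family_aux k A (perfectClosure k (AlgebraicClosure k))

end Alg

section Sch

/-- The nilradical is contained in the kernel of any morphism from a reduced scheme. -/
theorem nilradical_le_ker {P Z : Scheme.{u}} [IsReduced P] (g : P ⟶ Z) : Z.nilradical ≤ g.ker := by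
  change _ ≤ Scheme.IdealSheafData.ofIdeals _
  rw [Scheme.IdealSheafData.le_ofIdeals_iff]
  intro U x hx
  rw [Groth.Agent.Helper7.LimRed2.nilradical_ideal] at hx
  rw [RingHom.mem_ker]
  have h1 : IsNilpotent ((g.app U).hom x) := (mem_nilradical.mp hx).map _
  exact h1.eq_zero

/-- a reduced scheme mapping by a surjective closed immersion onto an open subscheme `V` of `Y`
is an open subscheme of `Y_red` -/
theorem isOpenImmersion_lift_red {P V Y : Scheme.{u}} [IsReduced P] (c : P ⟶ V)
    [IsClosedImmersion c] [Surjective c] (j : V ⟶ Y) [IsOpenImmersion j]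
    (t : P ⟶ Y.nilradical.subscheme) (ht : t ≫ Y.nilradical.subschemeι = c ≫ j) :
    IsOpenImmersion t := by
  let ιY := Y.nilradical.subschemeι
  let p1 := pullback.fst j ιY
  let p2 := pullback.snd j ιY
  let h : P ⟶ pullback j ιY := pullback.lift c t ht.symm
  have h1 : h ≫ p1 = c := pullback.lift_fst _ _ _
  have h2 : h ≫ p2 = t := pullback.lift_snd _ _ _
  have : IsReduced (pullback j ιY) := isReduced_of_isOpenImmersion p2
  have : IsClosedImmersion (h ≫ p1) := by rw [h1]; infer_instance
  have : IsClosedImmersion h := IsClosedImmersion.of_comp h p1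
  have : Surjective h := by
    constructor
    intro p
    obtain ⟨x, hx⟩ := c.surjective (p1 p)
    refine ⟨x, p1.isEmbedding.injective ?_⟩
    have : p1 (h x) = (h ≫ p1) x := rfl
    rw [this, h1, hx]
  have : IsIso h := isIso_of_isClosedImmersion_of_surjective h
  rw [← h2]
  infer_instance

theorem main (k : Type u) [Field k] {X : Scheme.{u}} (s : X ⟶ Spec (CommRingCat.of k))
    [LocallyOfFiniteType s] (hirr : (irreducibleComponents (X : Type u)).Finite) :
    ∃ (k' : Type u) (_ : Field k') (_ : Algebra k k'),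
      FiniteDimensional k k' ∧ IsPurelyInseparable k k' ∧
      GeometricallyReduced
        ((pullback s (Spec.map (CommRingCat.ofHom (algebraMap k k')))).nilradical.subschemeι ≫
          pullback.snd s (Spec.map (CommRingCat.ofHom (algebraMap k k')))) := by
  classical
  let 𝒜 := X.affineOpenCover
  let ι := ↥(irreducibleComponents (X : Type u))
  haveI : Finite ι := hirr.to_subtype
  have hne : ∀ i : ι, ∃ (j : 𝒜.I₀) (a : ↥(Spec (𝒜.X j))), (𝒜.f j) a ∈ i.1 := by
    intro i
    obtain ⟨x, hx⟩ := i.2.1.1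
    obtain ⟨j, a, rfl⟩ := 𝒜.openCover.exists_eq x
    exact ⟨j, a, hx⟩
  choose J a ha using hne
  have hφ0 : ∀ i, ∃ φ : CommRingCat.of k ⟶ 𝒜.X (J i), Spec.map φ = 𝒜.f (J i) ≫ s :=
    fun i => Spec.map_surjective _
  choose φ hφ using hφ0
  letI alg : ∀ i, Algebra k (𝒜.X (J i)) := fun i => (φ i).hom.toAlgebra
  have hφ' : ∀ i, Spec.map (CommRingCat.ofHom (algebraMap k (𝒜.X (J i)))) = 𝒜.f (J i) ≫ s :=
    fun i => by rw [← hφ i]; rfl
  haveI ft : ∀ i, Algebra.FiniteType k (𝒜.X (J i)) := by
    intro i
    have : LocallyOfFiniteType (Spec.map (φ i)) := by rw [hφ i]; infer_instance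
    exact (HasRingHomProperty.Spec_iff (P := @LocallyOfFiniteType)).mp this
  obtain ⟨k', fld, algk', hfin, hpi, hgr⟩ := exists_family k (fun i => 𝒜.X (J i))
  refine ⟨k', fld, algk', hfin, hpi, ?_⟩
  let g := Spec.map (CommRingCat.ofHom (algebraMap k k'))
  let pr : pullback s g ⟶ X := pullback.fst s g
  let q : pullback s g ⟶ Spec (CommRingCat.of k') := pullback.snd s g
  let ιZ : (pullback s g).nilradical.subscheme ⟶ pullback s g :=
    (pullback s g).nilradical.subschemeι
  change GeometricallyReduced (ιZ ≫ q)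
  haveI : Subsingleton ↥(Spec (CommRingCat.of k)) :=
    inferInstanceAs (Subsingleton (PrimeSpectrum k))
  haveI : UniversallyOpen g := inferInstance
  haveI : UniversallyOpen pr := inferInstance
  refine Groth.Agent.Lib.Helper4.MaxGeomRed1.geometricallyReduced_of_dense_sep (k := k')
    (ιZ ≫ q) ?_
  intro V hV
  obtain ⟨z, hz⟩ := hV
  obtain ⟨V₀, hV₀o, hV₀⟩ := ιZ.isEmbedding.isInducing.isOpen_iff.mp V.isOpen
  have hopen : IsOpen (pr '' V₀) := pr.isOpenMap _ hV₀o
  have hz0 : ιZ z ∈ V₀ := by
    have : z ∈ ιZ ⁻¹' V₀ := by rw [hV₀]; exact hz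
    exact this
  let x₀ : X := pr (ιZ z)
  let i : ι := ⟨irreducibleComponent x₀, irreducibleComponent_mem_irreducibleComponents x₀⟩
  have hpre : IsPreirreducible (irreducibleComponent x₀) :=
    isIrreducible_irreducibleComponent.2
  obtain ⟨x₁, hx₁c, hx₁V, hx₁U⟩ := hpre (pr '' V₀) (Set.range (𝒜.f (J i))) hopen
    (𝒜.f (J i)).isOpenEmbedding.isOpen_range
    ⟨x₀, mem_irreducibleComponent, ⟨ιZ z, hz0, rfl⟩⟩ ⟨_, ha i, ⟨a i, rfl⟩⟩
  obtain ⟨y₁, hy₁V, rfl⟩ := hx₁V
  obtain ⟨z₁, rfl⟩ := ιZ.surjective y₁
  have hz₁V : z₁ ∈ V := by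
    have : z₁ ∈ ιZ ⁻¹' V₀ := hy₁V
    rwa [hV₀] at this
  -- the chart
  let fi := 𝒜.f (J i)
  let E : pullback fi pr ≅ Spec (CommRingCat.of ((𝒜.X (J i)) ⊗[k] k')) :=
    pullbackRightPullbackFstIso s g fi ≪≫ pullback.congrHom (hφ' i).symm rfl ≪≫
      pullbackSpecIso k (𝒜.X (J i)) k'
  let jY : Spec (CommRingCat.of ((𝒜.X (J i)) ⊗[k] k')) ⟶ pullback s g :=
    E.inv ≫ pullback.snd fi pr
  haveI : IsOpenImmersion jY := inferInstance
  have hjq : jY ≫ q = Spec.map (CommRingCat.ofHom (RingHomClass.toRingHom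
      (Algebra.TensorProduct.includeRight : k' →ₐ[k] (𝒜.X (J i)) ⊗[k] k'))) := by
    simp only [jY, E, q, pr, fi, Iso.trans_inv, Category.assoc,
      pullbackRightPullbackFstIso_inv_snd_snd, pullback.congrHom_inv]
    rw [pullback.lift_snd, Category.comp_id]
    exact pullbackSpecIso_inv_snd k (𝒜.X (J i)) k'
  let B := (k' ⊗[k] (𝒜.X (J i))) ⧸ nilradical (k' ⊗[k] (𝒜.X (J i)))
  haveI hgri : Algebra.IsGeometricallyReduced k' B := hgr i
  haveI hBred : _root_.IsReduced B := Algebra.isReduced_of_isGeometricallyReduced k'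
  let ψ : (𝒜.X (J i)) ⊗[k] k' →+* B :=
    (Ideal.Quotient.mk (nilradical (k' ⊗[k] (𝒜.X (J i))))).comp
      (Algebra.TensorProduct.comm k (𝒜.X (J i)) k').toRingEquiv.toRingHom
  have hψsurj : Function.Surjective ψ :=
    Ideal.Quotient.mk_surjective.comp (Algebra.TensorProduct.comm k (𝒜.X (J i)) k').surjective
  have hψker : ∀ r, ψ r = 0 → IsNilpotent r := by
    intro r hr
    have h1 : (Algebra.TensorProduct.comm k (𝒜.X (J i)) k') r ∈
        nilradical (k' ⊗[k] (𝒜.X (J i))) := Ideal.Quotient.eq_zero_iff_mem.mp hr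
    have h2 : IsNilpotent ((Algebra.TensorProduct.comm k (𝒜.X (J i)) k') r) :=
      mem_nilradical.mp h1
    have h3 := h2.map (Algebra.TensorProduct.comm k (𝒜.X (J i)) k').symm
    simpa using h3
  let c : Spec (CommRingCat.of B) ⟶ Spec (CommRingCat.of ((𝒜.X (J i)) ⊗[k] k')) :=
    Spec.map (CommRingCat.ofHom ψ)
  haveI : IsClosedImmersion c := IsClosedImmersion.spec_of_surjective _ hψsurj
  haveI : Surjective c := by
    constructor
    intro p
    have hker : RingHom.ker ψ ≤ p.asIdeal := fun r hr => by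
      obtain ⟨n, hn⟩ := hψker r hr
      exact p.isPrime.mem_of_pow_mem n (hn ▸ p.asIdeal.zero_mem)
    have hmem : p ∈ Set.range (PrimeSpectrum.comap ψ) := by
      rw [range_comap_of_surjective _ ψ hψsurj]
      exact hker
    obtain ⟨p', hp'⟩ := hmem
    exact ⟨p', hp'⟩
  haveI : IsReduced (Spec (CommRingCat.of B)) := inferInstance
  have hker : ιZ.ker ≤ (c ≫ jY).ker := by
    rw [Scheme.IdealSheafData.ker_subschemeι]
    exact nilradical_le_ker _
  let t : Spec (CommRingCat.of B) ⟶ (pullback s g).nilradical.subscheme :=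
    IsClosedImmersion.lift ιZ (c ≫ jY) hker
  have ht : t ≫ ιZ = c ≫ jY := IsClosedImmersion.lift_fac _ _ _
  haveI : IsOpenImmersion t := isOpenImmersion_lift_red c jY t ht
  have htq : t ≫ (ιZ ≫ q) = Spec.map (CommRingCat.ofHom (algebraMap k' B)) := by
    rw [← Category.assoc, ht, Category.assoc, hjq, ← Spec.map_comp]
    congr 1
  -- z₁ lies in the range of t
  have hmem : ιZ z₁ ∈ Set.range (pullback.snd fi pr) := by
    rw [IsOpenImmersion.range_pullbackSnd]
    exact hx₁U
  obtain ⟨w0, hw0⟩ := hmem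
  have hjw0 : jY (E.hom w0) = (pullback.snd fi pr) w0 := by
    rw [← Scheme.Hom.comp_apply]
    simp [jY]
  obtain ⟨w, hw⟩ := c.surjective (E.hom w0)
  have htw : t w = z₁ := by
    apply ιZ.isEmbedding.injective
    rw [← Scheme.Hom.comp_apply, ht, Scheme.Hom.comp_apply, hw, hjw0, hw0]
  have hwV : w ∈ (t ⁻¹ᵁ V : (Spec (CommRingCat.of B)).Opens) := by
    change t w ∈ V
    rw [htw]; exact hz₁V
  -- a separable point
  obtain ⟨q₀, hq₀, hq₀w⟩ := Ideal.exists_minimalPrimes_le (I := ⊥) (J := w.asIdeal) bot_le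
  haveI hqp : q₀.IsPrime := hq₀.1.1
  haveI : Ring.KrullDimLE 0 (Localization.AtPrime q₀) := .of_isLocalization _ hq₀ _
  letI fldL : Field (Localization.AtPrime q₀) := Ring.KrullDimLE.isField_of_isReduced.toField
  haveI : _root_.IsReduced (AlgebraicClosure k' ⊗[k'] Localization.AtPrime q₀) :=
    Groth.Agent.Helper7.SmoothBC.isReduced_tensor_of_isLocalization k' (AlgebraicClosure k') B
      (Localization.AtPrime q₀) q₀.primeCompl
  have hgrL : Algebra.IsGeometricallyReduced k' (Localization.AtPrime q₀) :=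
    (Algebra.isGeometricallyReduced_field_iff k' _).mpr this
  let x : Spec (CommRingCat.of (Localization.AtPrime q₀)) ⟶ Spec (CommRingCat.of B) :=
    Spec.map (CommRingCat.ofHom (algebraMap B (Localization.AtPrime q₀)))
  refine ⟨Localization.AtPrime q₀, fldL, inferInstance, hgrL, x ≫ t, ?_, ?_⟩
  · rw [Category.assoc, htq, ← Spec.map_comp, ← CommRingCat.ofHom_comp,
      ← IsScalarTower.algebraMap_eq]
  · intro t'
    haveI : Subsingleton ↥(Spec (CommRingCat.of (Localization.AtPrime q₀))) :=
      inferInstanceAs (Subsingleton (PrimeSpectrum (Localization.AtPrime q₀)))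
    have ht' : t' = IsLocalRing.closedPoint (Localization.AtPrime q₀) := Subsingleton.elim _ _
    have h1 : x (IsLocalRing.closedPoint (Localization.AtPrime q₀)) = ⟨q₀, hqp⟩ := by
      apply PrimeSpectrum.ext
      exact IsLocalization.AtPrime.under_maximalIdeal (Localization.AtPrime q₀) q₀
    have h2 : (⟨q₀, hqp⟩ : PrimeSpectrum B) ⤳ w := by
      rw [← PrimeSpectrum.le_iff_specializes]
      exact hq₀w
    have h3 : x t' ∈ (t ⁻¹ᵁ V : (Spec (CommRingCat.of B)).Opens) := by
      rw [ht', h1]
      exact h2.mem_open (t ⁻¹ᵁ V).isOpen hwV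
    exact h3

end Sch

end Groth.Agent.Lib.Helper3.PIRed1
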