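import Mathlib
import Groth.Prelude.Def_OmegaPn
import Groth.Prelude.Def_DiffOp
import Groth.Agent.Lib.Lead.PP2
import Groth.Agent.Lib.Lead.PP7e
import Groth.Agent.Lib.Lead.OmU13b
import Groth.Agent.S2796
import Groth.Agent.S2798
import Groth.Agent.S2799

/-!
# The canonical map `δ : P^{n+n'} ⟶ P^{n'}(P^n)` of sheaves of principal parts
-/

set_option autoImplicit false
set_option backward.isDefEq.respectTransparency.types false
set_option linter.style.haveILetI false
set_option linter.unusedSectionVars false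
set_option synthInstance.maxHeartbeats 400000
set_option maxHeartbeats 4000000

universe u
open CategoryTheory CategoryTheory.Limits AlgebraicGeometry TopologicalSpace Opposite
open TensorProduct

namespace Groth.Agent.Helper3.PPDelta

open PrinPart OmegaSh Groth.Agent.Lead.OmU Groth.Agent.Lead.PP Groth.Agent.Lead.PP7

section Chart

variable {X S : Scheme.{u}} (f : X ⟶ S) (n n' : ℕ)
  {U : X.Opens} (hU : IsAffineOpen U) {V : S.Opens} (hV : IsAffineOpen V) (e : U ≤ f ⁻¹ᵁ V)

theorem dn_map (m : ℕ) {U₁ U₂ : X.Opens} (h : U₂ ≤ U₁) (b : Γ(X, U₁)) :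
    dn f m U₂ (X.presheaf.map (homOfLE h).op b) =
      (P f m).presheaf.map (homOfLE h).op (dn f m U₁ b) :=
  PrinPart.dP_map f m (Coh.structureModule X) h (strSect X U₁ b)

include hU hV e in
theorem exists_δU :
    ∃ δU : Γ(P f (n + n'), U) →ₗ[Γ(X, U)] Γ(PMod f n' (P f n), U),
      ∀ b : Γ(X, U), δU (dn f (n + n') U b) = dP f n' (P f n) U (dn f n U b) := by
  letI algAB : Algebra Γ(S, V) Γ(X, U) := (f.appLE V U e).hom.toAlgebra
  letI modP : Module Γ(S, V) Γ(P f n, U) := Module.compHom _ (algebraMap Γ(S, V) Γ(X, U))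
  haveI towP : IsScalarTower Γ(S, V) Γ(X, U) Γ(P f n, U) := IsScalarTower.of_compHom _ _ _
  letI modT : Module Γ(S, V) Γ(PMod f n' (P f n), U) :=
    Module.compHom _ (algebraMap Γ(S, V) Γ(X, U))
  haveI towT : IsScalarTower Γ(S, V) Γ(X, U) Γ(PMod f n' (P f n), U) :=
    IsScalarTower.of_compHom _ _ _
  let D₁ : Γ(X, U) →ₗ[Γ(S, V)] Γ(P f n, U) :=
    { toFun := fun b => dn f n U b
      map_add' := fun b b' => map_add _ b b'
      map_smul' := fun a b => by
        change dn f n U (f.appLE V U e a * b) = (f.appLE V U e a) • dn f n U b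
        exact dP_base_smul f n (Coh.structureModule X) V a U e (strSect X U b) }
  let D₂ : Γ(P f n, U) →ₗ[Γ(S, V)] Γ(PMod f n' (P f n), U) :=
    { toFun := fun t => dP f n' (P f n) U t
      map_add' := fun t t' => map_add _ t t'
      map_smul' := fun a t => by
        change dP f n' (P f n) U ((f.appLE V U e a) • t) =
          (f.appLE V U e a) • dP f n' (P f n) U t
        exact dP_base_smul f n' (P f n) V a U e t }
  have hD₁ : Diff16.IsDiffOpLE Γ(S, V) Γ(X, U) Γ(X, U) Γ(P f n, U) n D₁ := by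
    rw [Groth.Agent.S2798.result]
    intro b t
    exact alt_sum_dP f n (Coh.structureModule X) U b (strSect X U t)
  have hD₂ : Diff16.IsDiffOpLE Γ(S, V) Γ(X, U) Γ(P f n, U) Γ(PMod f n' (P f n), U) n' D₂ := by
    rw [Groth.Agent.S2798.result]
    intro b t
    exact alt_sum_dP f n' (P f n) U b t
  have hcomp := Groth.Agent.S2799.result Γ(S, V) Γ(X, U) Γ(X, U) Γ(P f n, U)
    Γ(PMod f n' (P f n), U) n n' D₁ D₂ hD₁ hD₂
  have hvan := (Groth.Agent.S2796.result Γ(S, V) Γ(X, U) Γ(PMod f n' (P f n), U) (n + n')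
    (D₂ ∘ₗ D₁)).1 hcomp
  let L := Diff16.linearize Γ(S, V) Γ(X, U) Γ(X, U) Γ(PMod f n' (P f n), U) (D₂ ∘ₗ D₁)
  have hL : ∀ b b' : Γ(X, U),
      L (b ⊗ₜ[Γ(S, V)] b') = b • dP f n' (P f n) U (dn f n U b') :=
    fun b b' => rfl
  obtain ⟨ψ, hψ⟩ := exists_ψ f (n + n') hU hV e
  obtain ⟨hψs, hψk⟩ := chart f (n + n') hU hV e ψ hψ
  have hψlin := ψ_lin f (n + n') e ψ hψ
  have hLψ : ∀ t t', ψ t = ψ t' → L t = L t' := by
    intro t t' h
    have h1 : t - t' ∈ ψ.ker := by
      rw [AddMonoidHom.mem_ker, map_sub, h, sub_self]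
    rw [hψk] at h1
    have h2 := hvan (t - t') h1
    rw [map_sub, sub_eq_zero] at h2
    exact h2
  have hLmul : ∀ (x : Γ(X, U)) (t : Γ(X, U) ⊗[Γ(S, V)] Γ(X, U)),
      L ((x ⊗ₜ[Γ(S, V)] (1 : Γ(X, U))) * t) = x • L t := by
    intro x t
    induction t using TensorProduct.induction_on with
    | zero => rw [mul_zero, map_zero, smul_zero]
    | tmul b b' => rw [Algebra.TensorProduct.tmul_mul_tmul, one_mul, hL, hL, mul_smul]
    | add s t hs ht => rw [mul_add, map_add, map_add, hs, ht, smul_add]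
  let δf : Γ(P f (n + n'), U) → Γ(PMod f n' (P f n), U) :=
    fun p => L (Classical.choose (hψs p))
  have hδf : ∀ t, δf (ψ t) = L t := fun t => hLψ _ _ (Classical.choose_spec (hψs (ψ t)))
  refine ⟨{ toFun := δf, map_add' := ?_, map_smul' := ?_ }, ?_⟩
  · intro p p'
    obtain ⟨t, rfl⟩ := hψs p
    obtain ⟨t', rfl⟩ := hψs p'
    rw [← map_add, hδf, hδf, hδf, map_add]
  · intro x p
    obtain ⟨t, rfl⟩ := hψs p
    change δf (x • ψ t) = x • δf (ψ t)
    rw [← hψlin, hδf, hδf, hLmul]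
  · intro b
    have h1 : dn f (n + n') U b = ψ ((1 : Γ(X, U)) ⊗ₜ[Γ(S, V)] b) := by rw [hψ, one_smul]
    change δf (dn f (n + n') U b) = _
    rw [h1, hδf, hL, one_smul]

end Chart

section Glue

variable {X S : Scheme.{u}} (f : X ⟶ S) (n n' : ℕ)

/-- affine charts of a morphism -/
structure AChart where
  U : X.Opens
  V : S.Opens
  e : U ≤ f ⁻¹ᵁ V
  hU : IsAffineOpen U
  hV : IsAffineOpen V

variable {f}

/-- the chart maps -/
noncomputable def δc (c : AChart f) :
    Γ(P f (n + n'), c.U) →ₗ[Γ(X, c.U)] Γ(PMod f n' (P f n), c.U) :=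
  Classical.choose (exists_δU f n n' c.hU c.hV c.e)

theorem δc_dn (c : AChart f) (b : Γ(X, c.U)) :
    δc n n' c (dn f (n + n') c.U b) = dP f n' (P f n) c.U (dn f n c.U b) :=
  Classical.choose_spec (exists_δU f n n' c.hU c.hV c.e) b

theorem δc_nat (c c' : AChart f) (h : c'.U ≤ c.U) (m : Γ(P f (n + n'), c.U)) :
    δc n n' c' ((P f (n + n')).presheaf.map (homOfLE h).op m) =
      (PMod f n' (P f n)).presheaf.map (homOfLE h).op (δc n n' c m) := by
  have hm : m ∈ Submodule.span Γ(X, c.U) (Set.range (dn f (n + n') c.U)) := by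
    rw [span_range_dn f (n + n') c.hU c.hV c.e]
    exact Submodule.mem_top
  induction hm using Submodule.span_induction with
  | mem m hm =>
    obtain ⟨b, rfl⟩ := hm
    rw [← dn_map f (n + n') h b, δc_dn, δc_dn, dn_map f n h b]
    exact PrinPart.dP_map f n' (P f n) h (dn f n c.U b)
  | zero => simp only [map_zero]
  | add x y _ _ hx hy => simp only [map_add, hx, hy]
  | smul r x _ hx =>
    rw [Scheme.Modules.map_smul, (δc n n' c').map_smul, (δc n n' c).map_smul,
      Scheme.Modules.map_smul, hx]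

variable (f)

theorem exists_achart (x : X) (O : X.Opens) (hx : x ∈ O) :
    ∃ c : AChart f, x ∈ c.U ∧ c.U ≤ O := by
  obtain ⟨_, ⟨V, hV, rfl⟩, hxV, -⟩ := S.isBasis_affineOpens.exists_subset_of_mem_open
    (Set.mem_univ (f.base x)) isOpen_univ
  have hx2 : x ∈ ((O ⊓ f ⁻¹ᵁ V : X.Opens) : Set X) := ⟨hx, hxV⟩
  obtain ⟨_, ⟨U, hU, rfl⟩, hxU, hUle⟩ :=
    X.isBasis_affineOpens.exists_subset_of_mem_open hx2 (O ⊓ f ⁻¹ᵁ V).2
  exact ⟨⟨U, V, fun y hy => (hUle hy).2, hU, hV⟩, hxU, fun y hy => (hUle hy).1⟩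

/-- **the canonical map `δ : P^{n+n'} ⟶ P^{n'}(P^n)`** -/
theorem existsUnique_δ :
    ∃! δ : P f (n + n') ⟶ PMod f n' (P f n),
      ∀ (U : X.Opens) (t : Γ(X, U)),
        δ.app U (dn f (n + n') U t) = dP f n' (P f n) U (dn f n U t) := by
  let B : AChart f → X.Opens := fun c => c.U
  have hB : Opens.IsBasis (Set.range B) := by
    rw [Opens.isBasis_iff_nbhd]
    intro O x hx
    obtain ⟨c, hxc, hcO⟩ := exists_achart f x O hx
    exact ⟨c.U, ⟨c, rfl⟩, hxc, hcO⟩
  let a : ∀ c : AChart f, Γ(P f (n + n'), B c) →+ Γ(PMod f n' (P f n), B c) :=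
    fun c => (δc n n' c).toAddMonoidHom
  have hnat : ∀ (i j : AChart f) (h : B j ≤ B i) (m : Γ(P f (n + n'), B i)),
      a j ((P f (n + n')).presheaf.map (homOfLE h).op m) =
        (PMod f n' (P f n)).presheaf.map (homOfLE h).op (a i m) :=
    fun i j h m => δc_nat n n' i j h m
  have hlin : ∀ (i : AChart f) (r : Γ(X, B i)) (m : Γ(P f (n + n'), B i)),
      a i (r • m) = r • a i m := fun i r m => (δc n n' i).map_smul r m
  refine ⟨glueHom B hB a hnat hlin, ?_, ?_⟩
  · intro W t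
    apply section_ext (PMod f n' (P f n))
    intro x hx
    obtain ⟨c, hxc, hcW⟩ := exists_achart f x W hx
    refine ⟨c.U, hcW, hxc, ?_⟩
    rw [← hom_app_res, ← dn_map f (n + n') hcW t,
      ← PrinPart.dP_map f n' (P f n) hcW (dn f n W t), ← dn_map f n hcW t]
    exact (glueHom_basis B hB a hnat hlin c _).trans (δc_dn n n' c _)
  · intro δ' hδ'
    apply hom_ext_of_nhds
    intro x O hx
    obtain ⟨c, hxc, hcO⟩ := exists_achart f x O hx
    refine ⟨c.U, hxc, hcO, ?_⟩
    intro m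
    rw [glueHom_basis B hB a hnat hlin c]
    change δ'.app c.U m = δc n n' c m
    have hm : m ∈ Submodule.span Γ(X, c.U) (Set.range (dn f (n + n') c.U)) := by
      rw [span_range_dn f (n + n') c.hU c.hV c.e]
      exact Submodule.mem_top
    induction hm using Submodule.span_induction with
    | mem m hm =>
      obtain ⟨b, rfl⟩ := hm
      rw [hδ', δc_dn]
    | zero => simp only [map_zero]
    | add x y _ _ hx hy => simp only [map_add, hx, hy]
    | smul r x _ hx => rw [Scheme.Modules.Hom.app_smul, (δc n n' c).map_smul, hx]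

end Glue

end Groth.Agent.Helper3.PPDelta
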