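import Mathlib
import Groth.Prelude.Def_OmegaPn
import Groth.Agent.Lib.Lead.PP2
import Groth.Agent.Lib.Lead.PP7e
import Groth.Agent.Lib.Helper5.FtDesc.Main

/-!
# `P^n_{X/S}(F)` is generated by the image of `d^n`, for an arbitrary `O_X`-module `F`

Every local section of `P^n_{X/S}(F) = (p₁)_* (p₂)^* F` is, locally on `X`, an `O_X`-linear
combination (left structure) of sections `d^n t`.  Proof: stalks of the pullback are tensor
products (helper5), and on an affine chart the functions on the infinitesimal neighbourhood are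
`O_X`-combinations of functions `p₂♯ b` (lead, `span_range_dn`).
-/

set_option autoImplicit false
set_option backward.isDefEq.respectTransparency.types false
set_option linter.style.haveILetI false
set_option linter.unusedSectionVars false
set_option synthInstance.maxHeartbeats 400000
set_option maxHeartbeats 4000000

universe u
open CategoryTheory CategoryTheory.Limits AlgebraicGeometry TopologicalSpace Opposite
open TensorProduct

namespace Groth.Agent.Helper3.PPGen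

open PrinPart OmegaSh Groth.Agent.Lead.PP Groth.Agent.Lead.PP7
open Groth.Agent.Lib.Helper5.FtDesc (pm etaSec tm1 stalkPullbackIso_gm)
open Groth.Agent.Lib.Helper5.Misc.StalkTensor (St gm gm_smul gm_exists)
open Groth.Agent.Lib.Helper5.StalkAdj (stalkSh stalkPullbackIso)

section Alg

theorem mem_span_one_tmul {R S N : Type*} [CommRing R] [CommRing S] [Algebra R S]
    [AddCommGroup N] [Module R N] (w : S ⊗[R] N) :
    w ∈ Submodule.span S (Set.range fun t : N => (1 : S) ⊗ₜ[R] t) := by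
  induction w using TensorProduct.induction_on with
  | zero => exact Submodule.zero_mem _
  | tmul s t =>
    have h : s ⊗ₜ[R] t = s • ((1 : S) ⊗ₜ[R] t) := by
      rw [TensorProduct.smul_tmul', smul_eq_mul, mul_one]
    rw [h]
    exact Submodule.smul_mem _ _ (Submodule.subset_span ⟨t, rfl⟩)
  | add a b ha hb => exact Submodule.add_mem _ ha hb

theorem span_tm1 {R S : Type u} [CommRing R] [CommRing S] (g : R →+* S) (N : ModuleCat.{u} R) :
    Submodule.span S (Set.range (tm1 g N)) = ⊤ := by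
  letI := g.toAlgebra
  rw [eq_top_iff]
  intro w _
  exact mem_span_one_tmul (R := R) (S := S) (N := N) w

end Alg

variable {X S : Scheme.{u}} (f : X ⟶ S) (n : ℕ) (F : X.Modules)

/-- `p₂^* F` on the infinitesimal neighbourhood. -/
noncomputable abbrev NN : (nbhd f n).Modules := (Scheme.Modules.pullback (pr2 f n)).obj F

/-- the span of the image of `d^n` -/
noncomputable abbrev SpanD (U : X.Opens) : Submodule Γ(X, U) Γ(PMod f n F, U) :=
  Submodule.span Γ(X, U) (Set.range (dP f n F U))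

/-- multiplication by functions on the infinitesimal neighbourhood -/
noncomputable def ysmul (U : X.Opens) (c : Γ(nbhd f n, pr1 f n ⁻¹ᵁ U)) (m : Γ(PMod f n F, U)) :
    Γ(PMod f n F, U) :=
  (show Γ(NN f n F, pr1 f n ⁻¹ᵁ U) from c • (show Γ(NN f n F, pr1 f n ⁻¹ᵁ U) from m))

theorem smul_eq_ysmul (U : X.Opens) (b : Γ(X, U)) (m : Γ(PMod f n F, U)) :
    b • m = ysmul f n F U (((pr1 f n).app U).hom b) m := rfl

theorem ysmul_add (U : X.Opens) (c c' : Γ(nbhd f n, pr1 f n ⁻¹ᵁ U)) (m : Γ(PMod f n F, U)) :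
    ysmul f n F U (c + c') m = ysmul f n F U c m + ysmul f n F U c' m :=
  add_smul c c' (show Γ(NN f n F, pr1 f n ⁻¹ᵁ U) from m)

theorem ysmul_zero_left (U : X.Opens) (m : Γ(PMod f n F, U)) : ysmul f n F U 0 m = 0 :=
  zero_smul _ (show Γ(NN f n F, pr1 f n ⁻¹ᵁ U) from m)

theorem ysmul_mul (U : X.Opens) (c c' : Γ(nbhd f n, pr1 f n ⁻¹ᵁ U)) (m : Γ(PMod f n F, U)) :
    ysmul f n F U (c * c') m = ysmul f n F U c (ysmul f n F U c' m) :=
  mul_smul c c' (show Γ(NN f n F, pr1 f n ⁻¹ᵁ U) from m)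

theorem ysmul_add_right (U : X.Opens) (c : Γ(nbhd f n, pr1 f n ⁻¹ᵁ U)) (m m' : Γ(PMod f n F, U)) :
    ysmul f n F U c (m + m') = ysmul f n F U c m + ysmul f n F U c m' :=
  smul_add c (show Γ(NN f n F, pr1 f n ⁻¹ᵁ U) from m) (show Γ(NN f n F, pr1 f n ⁻¹ᵁ U) from m')

theorem ysmul_zero_right (U : X.Opens) (c : Γ(nbhd f n, pr1 f n ⁻¹ᵁ U)) :
    ysmul f n F U c 0 = 0 :=
  (smul_zero c : c • (0 : Γ(NN f n F, pr1 f n ⁻¹ᵁ U)) = 0)

theorem ysmul_smul_comm (U : X.Opens) (c : Γ(nbhd f n, pr1 f n ⁻¹ᵁ U)) (b : Γ(X, U))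
    (m : Γ(PMod f n F, U)) :
    ysmul f n F U c (b • m) = b • ysmul f n F U c m := by
  rw [smul_eq_ysmul, smul_eq_ysmul, ← ysmul_mul, ← ysmul_mul, mul_comm]

theorem dP_smul' (U : X.Opens) (a : Γ(X, U)) (t : Γ(F, U)) :
    dP f n F U (a • t) =
      ysmul f n F U (((pr2 f n).appLE U (pr1 f n ⁻¹ᵁ U) (preimage_pr1 f n U).le).hom a)
        (dP f n F U t) :=
  Groth.Agent.Lead.PP.dP_smul f n F U a t

theorem spanD_res {U U' : X.Opens} (h : U' ≤ U) {m : Γ(PMod f n F, U)}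
    (hm : m ∈ SpanD f n F U) :
    (PMod f n F).presheaf.map (homOfLE h).op m ∈ SpanD f n F U' := by
  induction hm using Submodule.span_induction with
  | mem m hm =>
    obtain ⟨t, rfl⟩ := hm
    rw [← PrinPart.dP_map f n F h t]
    exact Submodule.subset_span ⟨_, rfl⟩
  | zero => rw [map_zero]; exact Submodule.zero_mem _
  | add x y _ _ hx hy => rw [map_add]; exact Submodule.add_mem _ hx hy
  | smul r x _ hx => rw [Scheme.Modules.map_smul]; exact Submodule.smul_mem _ _ hx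

section Chart

variable {U : X.Opens} (hU : IsAffineOpen U) {V : S.Opens} (hV : IsAffineOpen V)
  (e : U ≤ f ⁻¹ᵁ V)

include hU hV e in
theorem ysmul_εP_dP_mem (y0 : Γ(P f n, U)) (τ : Γ(F, U)) :
    ysmul f n F U (εP f n U y0) (dP f n F U τ) ∈ SpanD f n F U := by
  have hy0 : y0 ∈ Submodule.span Γ(X, U) (Set.range (dn f n U)) := by
    rw [span_range_dn f n hU hV e]; exact Submodule.mem_top
  induction hy0 using Submodule.span_induction with
  | mem y hy =>
    obtain ⟨b', rfl⟩ := hy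
    rw [εP_dn, ← dP_smul']
    exact Submodule.subset_span ⟨_, rfl⟩
  | zero => rw [map_zero, ysmul_zero_left]; exact Submodule.zero_mem _
  | add y y' _ _ hy hy' => rw [map_add, ysmul_add]; exact Submodule.add_mem _ hy hy'
  | smul b y _ hy =>
    rw [εP_smul, ysmul_mul, ← smul_eq_ysmul]
    exact Submodule.smul_mem _ _ hy

include hU hV e in
theorem ysmul_mem (c : Γ(nbhd f n, pr1 f n ⁻¹ᵁ U)) {m : Γ(PMod f n F, U)}
    (hm : m ∈ SpanD f n F U) : ysmul f n F U c m ∈ SpanD f n F U := by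
  obtain ⟨y0, rfl⟩ := (εP_bijective f n U).2 c
  induction hm using Submodule.span_induction with
  | mem m hm =>
    obtain ⟨τ, rfl⟩ := hm
    exact ysmul_εP_dP_mem f n F hU hV e y0 τ
  | zero => rw [ysmul_zero_right]; exact Submodule.zero_mem _
  | add m m' _ _ hm hm' => rw [ysmul_add_right]; exact Submodule.add_mem _ hm hm'
  | smul b m _ hm => rw [ysmul_smul_comm]; exact Submodule.smul_mem _ _ hm

end Chart

/-- affine charts of a morphism -/
structure AChart where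
  U : X.Opens
  V : S.Opens
  e : U ≤ f ⁻¹ᵁ V
  hU : IsAffineOpen U
  hV : IsAffineOpen V

theorem exists_achart (x : X) (O : X.Opens) (hx : x ∈ O) :
    ∃ c : AChart f, x ∈ c.U ∧ c.U ≤ O := by
  obtain ⟨_, ⟨V, hV, rfl⟩, hxV, -⟩ := S.isBasis_affineOpens.exists_subset_of_mem_open
    (Set.mem_univ (f.base x)) isOpen_univ
  have hx2 : x ∈ ((O ⊓ f ⁻¹ᵁ V : X.Opens) : Set X) := ⟨hx, hxV⟩
  obtain ⟨_, ⟨U, hU, rfl⟩, hxU, hUle⟩ :=
    X.isBasis_affineOpens.exists_subset_of_mem_open hx2 (O ⊓ f ⁻¹ᵁ V).2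
  exact ⟨⟨U, V, fun y hy => (hUle hy).2, hU, hV⟩, hxU, fun y hy => (hUle hy).1⟩

theorem pr1_toNbhd (x : X) : pr1 f n (toNbhd f n x) = x := by
  have h := congrArg (fun g : X ⟶ X => g x) (toNbhd_pr1 f n)
  first
    | exact h
    | simpa using h

theorem toNbhd_pr1_apply (y : nbhd f n) : toNbhd f n (pr1 f n y) = y := by
  obtain ⟨x, rfl⟩ := toInfNbhd_surjective (diagCl f) n y
  exact congrArg (toNbhd f n) (pr1_toNbhd f n x)

theorem preimage_preimage (W : (nbhd f n).Opens) :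
    pr1 f n ⁻¹ᵁ (toNbhd f n ⁻¹ᵁ W) = W := by
  ext y
  change toNbhd f n (pr1 f n y) ∈ W ↔ y ∈ W
  rw [toNbhd_pr1_apply]

/-- germs of sections of `P^n(F)`, at a point of the infinitesimal neighbourhood -/
noncomputable def gP (y : nbhd f n) (U : X.Opens) (hy : y ∈ pr1 f n ⁻¹ᵁ U)
    (m : Γ(PMod f n F, U)) : St (pm (NN f n F)) y :=
  gm (pm (NN f n F)) y (pr1 f n ⁻¹ᵁ U) hy (show Γ(NN f n F, pr1 f n ⁻¹ᵁ U) from m)

theorem gP_add (y : nbhd f n) (U : X.Opens) (hy : y ∈ pr1 f n ⁻¹ᵁ U)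
    (m m' : Γ(PMod f n F, U)) :
    gP f n F y U hy (m + m') = gP f n F y U hy m + gP f n F y U hy m' :=
  map_add (gm (pm (NN f n F)) y (pr1 f n ⁻¹ᵁ U) hy) _ _

theorem gP_zero (y : nbhd f n) (U : X.Opens) (hy : y ∈ pr1 f n ⁻¹ᵁ U) :
    gP f n F y U hy 0 = 0 :=
  map_zero (gm (pm (NN f n F)) y (pr1 f n ⁻¹ᵁ U) hy)

theorem gP_res (y : nbhd f n) {U U' : X.Opens} (h : U' ≤ U) (hy : y ∈ pr1 f n ⁻¹ᵁ U')
    (m : Γ(PMod f n F, U)) :
    gP f n F y U' hy ((PMod f n F).presheaf.map (homOfLE h).op m) =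
      gP f n F y U ((pr1 f n).preimage_mono h hy) m :=
  TopCat.Presheaf.germ_res_apply (NN f n F).presheaf
    (homOfLE ((pr1 f n).preimage_mono h)) y hy m

theorem gP_ysmul (y : nbhd f n) (U : X.Opens) (hy : y ∈ pr1 f n ⁻¹ᵁ U)
    (c : Γ(nbhd f n, pr1 f n ⁻¹ᵁ U)) (m : Γ(PMod f n F, U)) :
    gP f n F y U hy (ysmul f n F U c m) =
      ((nbhd f n).presheaf.germ (pr1 f n ⁻¹ᵁ U) y hy c) • gP f n F y U hy m :=
  gm_smul (pm (NN f n F)) y (pr1 f n ⁻¹ᵁ U) hy c m

/-- a germ of `p₂^* F` is the germ of a combination of sections `d^n t`. -/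
def Good (y : nbhd f n) (z : St (pm (NN f n F)) y) : Prop :=
  ∃ (U : X.Opens) (hy : y ∈ pr1 f n ⁻¹ᵁ U) (m : Γ(PMod f n F, U)),
    m ∈ SpanD f n F U ∧ gP f n F y U hy m = z

theorem good_zero (y : nbhd f n) : Good f n F y 0 :=
  ⟨⊤, Opens.mem_top y, 0, Submodule.zero_mem _, gP_zero f n F y ⊤ _⟩

theorem good_add {y : nbhd f n} {z z' : St (pm (NN f n F)) y} (hz : Good f n F y z)
    (hz' : Good f n F y z') : Good f n F y (z + z') := by
  obtain ⟨U, hy, m, hm, rfl⟩ := hz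
  obtain ⟨U', hy', m', hm', rfl⟩ := hz'
  refine ⟨U ⊓ U', (show pr1 f n y ∈ U ⊓ U' from ⟨hy, hy'⟩),
    (PMod f n F).presheaf.map (homOfLE inf_le_left).op m +
      (PMod f n F).presheaf.map (homOfLE inf_le_right).op m', ?_, ?_⟩
  · exact Submodule.add_mem _ (spanD_res f n F inf_le_left hm) (spanD_res f n F inf_le_right hm')
  · rw [gP_add, gP_res, gP_res]

theorem good_smul {y : nbhd f n} (s : (nbhd f n).presheaf.stalk y) {z : St (pm (NN f n F)) y}
    (hz : Good f n F y z) : Good f n F y (s • z) := by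
  obtain ⟨U, hy, m, hm, rfl⟩ := hz
  obtain ⟨W0, hy0, c0, rfl⟩ := TopCat.Presheaf.exists_germ_eq (nbhd f n).presheaf s
  have hyU0 : pr1 f n y ∈ toNbhd f n ⁻¹ᵁ W0 := by
    change toNbhd f n (pr1 f n y) ∈ W0
    rw [toNbhd_pr1_apply]
    exact hy0
  obtain ⟨c, hxc, hcle⟩ := exists_achart f (pr1 f n y) (toNbhd f n ⁻¹ᵁ W0 ⊓ U) ⟨hyU0, hy⟩
  have h0 : c.U ≤ toNbhd f n ⁻¹ᵁ W0 := hcle.trans inf_le_left
  have h1 : c.U ≤ U := hcle.trans inf_le_right
  have hW : pr1 f n ⁻¹ᵁ c.U ≤ W0 :=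
    ((pr1 f n).preimage_mono h0).trans (preimage_preimage f n W0).le
  refine ⟨c.U, hxc, ysmul f n F c.U ((nbhd f n).presheaf.map (homOfLE hW).op c0)
    ((PMod f n F).presheaf.map (homOfLE h1).op m), ?_, ?_⟩
  · exact ysmul_mem f n F c.hU c.hV c.e _ (spanD_res f n F h1 hm)
  · rw [gP_ysmul, gP_res, TopCat.Presheaf.germ_res_apply]

theorem good_all (y : nbhd f n) (z : St (pm (NN f n F)) y) : Good f n F y z := by
  let Φ := ((stalkPullbackIso (pr2 f n) y).app F).toLinearEquiv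
  have key : ∀ w, Good f n F y (Φ.symm w) := by
    intro w
    have hw : w ∈ Submodule.span ((nbhd f n).presheaf.stalk y)
        (Set.range (tm1 ((pr2 f n).stalkMap y).hom ((stalkSh X (pr2 f n y)).obj F))) := by
      rw [span_tm1]; exact Submodule.mem_top
    induction hw using Submodule.span_induction with
    | mem w hw =>
      obtain ⟨t, rfl⟩ := hw
      obtain ⟨V, hV, τ, rfl⟩ := gm_exists (pm F) (pr2 f n y) t
      have h1 : Φ (gm (pm (NN f n F)) y (pr2 f n ⁻¹ᵁ V) hV (etaSec (pr2 f n) F V τ)) =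
          tm1 ((pr2 f n).stalkMap y).hom ((stalkSh X (pr2 f n y)).obj F)
            (gm (pm F) (pr2 f n y) V hV τ) :=
        stalkPullbackIso_gm (pr2 f n) y F V hV τ
      refine ⟨V, (preimage_pr1 f n V).ge hV, dP f n F V τ, Submodule.subset_span ⟨τ, rfl⟩, ?_⟩
      have h3 : gP f n F y V ((preimage_pr1 f n V).ge hV) (dP f n F V τ) =
          gm (pm (NN f n F)) y (pr2 f n ⁻¹ᵁ V) hV (etaSec (pr2 f n) F V τ) :=
        TopCat.Presheaf.germ_res_apply (NN f n F).presheaf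
          (homOfLE (preimage_pr1 f n V).le) y ((preimage_pr1 f n V).ge hV)
          (OmegaSh.pullSect (pr2 f n) F V τ)
      refine h3.trans ?_
      exact ((LinearEquiv.symm_apply_eq Φ).2 h1.symm).symm
    | zero => rw [map_zero]; exact good_zero f n F y
    | add w w' _ _ hw hw' => rw [map_add]; exact good_add f n F hw hw'
    | smul s w _ hw => rw [map_smul]; exact good_smul f n F s hw
  have h := key (Φ z)
  rwa [LinearEquiv.symm_apply_apply] at h

/-- **local generation**: every section of `P^n(F)` is locally a combination of `d^n t`'s. -/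
theorem exists_res_mem (U : X.Opens) (s : Γ(PMod f n F, U)) (x : X) (hx : x ∈ U) :
    ∃ (U3 : X.Opens) (_ : x ∈ U3) (hle : U3 ≤ U),
      (PMod f n F).presheaf.map (homOfLE hle).op s ∈ SpanD f n F U3 := by
  have hyU : toNbhd f n x ∈ pr1 f n ⁻¹ᵁ U := by
    change pr1 f n (toNbhd f n x) ∈ U
    rw [pr1_toNbhd]
    exact hx
  obtain ⟨U', hy', m, hm, hgm⟩ :=
    good_all f n F (toNbhd f n x) (gP f n F (toNbhd f n x) U hyU s)
  obtain ⟨W, hyW, iU', iU, heq⟩ := TopCat.Presheaf.germ_eq (NN f n F).presheaf (toNbhd f n x)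
    hy' hyU m s hgm
  have hW3 : pr1 f n ⁻¹ᵁ (toNbhd f n ⁻¹ᵁ W) ≤ W := (preimage_preimage f n W).le
  have hleU : toNbhd f n ⁻¹ᵁ W ≤ U := by
    intro x3 hx3
    have h3 : pr1 f n (toNbhd f n x3) ∈ U := iU.le hx3
    rwa [pr1_toNbhd] at h3
  have hleU' : toNbhd f n ⁻¹ᵁ W ≤ U' := by
    intro x3 hx3
    have h3 : pr1 f n (toNbhd f n x3) ∈ U' := iU'.le hx3
    rwa [pr1_toNbhd] at h3
  refine ⟨toNbhd f n ⁻¹ᵁ W, hyW, hleU, ?_⟩
  have e1 : (PMod f n F).presheaf.map (homOfLE hleU).op s =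
      (NN f n F).presheaf.map (homOfLE hW3).op ((NN f n F).presheaf.map iU.op s) := by
    rw [OmegaSh.resM_resM]; rfl
  have e2 : (PMod f n F).presheaf.map (homOfLE hleU').op m =
      (NN f n F).presheaf.map (homOfLE hW3).op ((NN f n F).presheaf.map iU'.op m) := by
    rw [OmegaSh.resM_resM]; rfl
  have e3 : (PMod f n F).presheaf.map (homOfLE hleU).op s =
      (PMod f n F).presheaf.map (homOfLE hleU').op m := by
    rw [e1, e2, heq]
  rw [e3]
  exact spanD_res f n F hleU' hm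

/-- **`P^n_{X/S}(F)` is generated by the image of `d^n`** (any `O_X`-module `F`). -/
theorem hom_ext_of_dP (G : X.Modules) (a b : PMod f n F ⟶ G)
    (h : ∀ (U : X.Opens) (t : Γ(F, U)), a.app U (dP f n F U t) = b.app U (dP f n F U t)) :
    a = b := by
  have hA : ∀ (U : X.Opens) (m : Γ(PMod f n F, U)), m ∈ SpanD f n F U →
      a.app U m = b.app U m := by
    intro U m hm
    induction hm using Submodule.span_induction with
    | mem m hm =>
      obtain ⟨t, rfl⟩ := hm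
      exact h U t
    | zero => rw [map_zero, map_zero]
    | add m m' _ _ hm hm' => rw [map_add, map_add, hm, hm']
    | smul r m _ hm => rw [Scheme.Modules.Hom.app_smul, Scheme.Modules.Hom.app_smul, hm]
  apply Scheme.Modules.hom_ext
  intro U
  ext s
  choose U3 hx3 hle3 hmem3 using fun x : U => exists_res_mem f n F U s x.1 x.2
  refine TopCat.Sheaf.eq_of_locally_eq' (⟨G.presheaf, G.isSheaf⟩ : TopCat.Sheaf Ab X) U3 U
    (fun x => homOfLE (hle3 x)) ?_ _ _ ?_
  · intro x hx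
    exact Opens.mem_iSup.2 ⟨⟨x, hx⟩, hx3 ⟨x, hx⟩⟩
  · intro x
    change G.presheaf.map (homOfLE (hle3 x)).op (a.app U s) =
      G.presheaf.map (homOfLE (hle3 x)).op (b.app U s)
    rw [← Groth.Agent.Lead.CIU.hom_naturality_apply a (hle3 x) s,
      ← Groth.Agent.Lead.CIU.hom_naturality_apply b (hle3 x) s]
    exact hA _ _ (hmem3 x)

end Groth.Agent.Helper3.PPGen
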