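import Mathlib
import Groth.Prelude.Def_OmegaPn
import Groth.Prelude.Def_DiffOp
import Groth.Agent.Lib.Lead.PP2
import Groth.Agent.Lib.Lead.PP7e
import Groth.Agent.Lib.Lead.OmU13b
import Groth.Agent.Lib.Helper1.TwistSec
import Groth.Agent.Lib.Helper3.PPGenA
import Groth.Agent.S2796
import Groth.Agent.S2798
import Groth.Agent.S2799

/-!
# Linearisation of differential operators on arbitrary `O_X`-modules

Let `D : F ⟶ G` be a homomorphism of sheaves of abelian groups between two arbitrary `O_X`-modules,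
linear over the functions coming from `S` and satisfying the alternating sum relations of order
`≤ n`.  We construct the `O_X`-linear `u : P^n_{X/S}(F) ⟶ G` with `D = u ∘ d^n`.

Strategy: on an affine chart `U` the ring `Γ(X^{(n)}, p₁⁻¹U)` is `P^n_{B/A}` (lead, `chart`), so for
every section `t` of `F` over `U` the ring-level linearisation of `b ↦ D(b t)` gives
`ψ_t : Γ(X^{(n)}, p₁⁻¹U) → G(U)`.  Passing to germs gives a biadditive balanced pairing
`O_{X^{(n)},y} × F_x → G_x`, hence (helper5: stalks of a pullback are tensor products) an additive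
map `(p₂^* F)_y → G_x`.  This shows that `Σ a_i D(t_i)` only depends on `Σ a_i d^n t_i`; since
sections of `P^n(F)` are locally of this form (`PPGenA`), gluing in the sheaf `G` gives `u`.
-/

set_option autoImplicit false
set_option backward.isDefEq.respectTransparency.types false
set_option linter.style.haveILetI false
set_option linter.unusedSectionVars false
set_option synthInstance.maxHeartbeats 400000
set_option maxHeartbeats 4000000

universe u
open CategoryTheory CategoryTheory.Limits AlgebraicGeometry TopologicalSpace Opposite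
open TensorProduct

namespace Groth.Agent.Helper3.PPLin

open PrinPart OmegaSh Groth.Agent.Lead.OmU Groth.Agent.Lead.PP Groth.Agent.Lead.PP7
open Groth.Agent.Lib.Helper5.FtDesc (pm etaSec tm1 stalkPullbackIso_gm)
open Groth.Agent.Lib.Helper5.Misc.StalkTensor (St gm gm_smul gm_exists)
open Groth.Agent.Lib.Helper5.StalkAdj (stalkSh stalkPullbackIso)
open Groth.Agent.Helper3.PPGen

section Alg

theorem exists_lift {R S N P : Type*} [CommRing R] [CommRing S] [Algebra R S]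
    [AddCommGroup N] [Module R N] [AddCommGroup P]
    (φ : S →+ N →+ P)
    (hφ : ∀ (r : R) (s : S) (t : N), φ (algebraMap R S r * s) t = φ s (r • t)) :
    ∃ Λ : S ⊗[R] N →+ P, ∀ (s : S) (t : N), Λ (s • ((1 : S) ⊗ₜ[R] t)) = φ s t := by
  refine ⟨TensorProduct.liftAddHom φ (fun r s t => ?_), fun s t => ?_⟩
  · rw [Algebra.smul_def]
    exact hφ r s t
  · rw [TensorProduct.smul_tmul', smul_eq_mul, mul_one, TensorProduct.liftAddHom_tmul]

theorem res_comp {Z : Scheme.{u}} {W1 W2 W3 : Z.Opens} (i : W2 ⟶ W1) (j : W3 ⟶ W2)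
    (k : W3 ⟶ W1) (r : Γ(Z, W1)) :
    Z.presheaf.map j.op (Z.presheaf.map i.op r) = Z.presheaf.map k.op r := by
  have e : Z.presheaf.map i.op ≫ Z.presheaf.map j.op = Z.presheaf.map k.op := by
    rw [← Functor.map_comp]
    first
      | rfl
      | exact congrArg _ (Subsingleton.elim _ _)
  exact congr($e r)

theorem appLE_res {Y Z : Scheme.{u}} (g : Y ⟶ Z) {U U' : Z.Opens} {W W' : Y.Opens}
    (e : W ≤ g ⁻¹ᵁ U) (e' : W' ≤ g ⁻¹ᵁ U') (hle : U' ≤ U) (k : W' ≤ W) (b : Γ(Z, U)) :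
    Y.presheaf.map (homOfLE k).op ((g.appLE U W e).hom b) =
      (g.appLE U' W' e').hom (Z.presheaf.map (homOfLE hle).op b) := by
  have h1 : g.appLE U W e ≫ Y.presheaf.map (homOfLE k).op =
      Z.presheaf.map (homOfLE hle).op ≫ g.appLE U' W' e' := by
    rw [Scheme.Hom.appLE_map, Scheme.Hom.map_appLE]
  exact congr($h1 b)

theorem res_res' {X : Scheme.{u}} (M : X.Modules) {A B C : X.Opens} (h1 : B ≤ A) (h2 : C ≤ B)
    (x : Γ(M, A)) :
    M.presheaf.map (homOfLE h2).op (M.presheaf.map (homOfLE h1).op x) =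
      M.presheaf.map (homOfLE (h2.trans h1)).op x := by
  rw [OmegaSh.resM_resM]
  rfl

end Alg

variable {X S : Scheme.{u}} (f : X ⟶ S) (n : ℕ) {F G : X.Modules} (D : F.presheaf ⟶ G.presheaf)

/-- the hypotheses on `D`: linearity over the base and the alternating sum relations. -/
structure Hyp : Prop where
  lin : ∀ (V : S.Opens) (s : Γ(S, V)) (U : X.Opens) (hU : U ≤ f ⁻¹ᵁ V) (t : Γ(F, U)),
      D.app (op U) (X.presheaf.map (homOfLE hU).op (f.app V s) • t) =
        X.presheaf.map (homOfLE hU).op (f.app V s) • D.app (op U) t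
  alt : ∀ (U : X.Opens) (a : Fin (n + 1) → Γ(X, U)) (t : Γ(F, U)),
      (∑ H : Finset (Fin (n + 1)),
        ((-1 : ℤ) ^ H.card) • ((∏ i ∈ H, a i) • D.app (op U) ((∏ i ∈ Hᶜ, a i) • t))) = 0

/-- `D` on sections, as an additive map. -/
noncomputable def Dm (U : X.Opens) : Γ(F, U) →+ Γ(G, U) := (D.app (op U)).hom

theorem Dm_res {U U' : X.Opens} (hle : U' ≤ U) (t : Γ(F, U)) :
    Dm D U' (F.presheaf.map (homOfLE hle).op t) = G.presheaf.map (homOfLE hle).op (Dm D U t) := by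
  have e := D.naturality (homOfLE hle).op
  exact congr($e t)

/-- `p₁♯` on sections -/
noncomputable abbrev p1s (U : X.Opens) : Γ(X, U) →+* Γ(nbhd f n, pr1 f n ⁻¹ᵁ U) :=
  ((pr1 f n).app U).hom

/-- `p₂♯` on sections -/
noncomputable abbrev p2s (U : X.Opens) : Γ(X, U) →+* Γ(nbhd f n, pr1 f n ⁻¹ᵁ U) :=
  ((pr2 f n).appLE U (pr1 f n ⁻¹ᵁ U) (preimage_pr1 f n U).le).hom

theorem p1s_res {U U' : X.Opens} (hle : U' ≤ U) (b : Γ(X, U)) :
    (nbhd f n).presheaf.map (homOfLE ((pr1 f n).preimage_mono hle)).op (p1s f n U b) =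
      p1s f n U' (X.presheaf.map (homOfLE hle).op b) := by
  have e := appLE_res (pr1 f n) (le_refl (pr1 f n ⁻¹ᵁ U)) (le_refl (pr1 f n ⁻¹ᵁ U')) hle
    ((pr1 f n).preimage_mono hle) b
  rw [Scheme.Hom.appLE_eq_app, Scheme.Hom.appLE_eq_app] at e
  exact e

theorem p2s_res {U U' : X.Opens} (hle : U' ≤ U) (b : Γ(X, U)) :
    (nbhd f n).presheaf.map (homOfLE ((pr1 f n).preimage_mono hle)).op (p2s f n U b) =
      p2s f n U' (X.presheaf.map (homOfLE hle).op b) :=
  appLE_res (pr2 f n) (preimage_pr1 f n U).le (preimage_pr1 f n U').le hle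
    ((pr1 f n).preimage_mono hle) b

section Chart

variable {U : X.Opens} (hU : IsAffineOpen U) {V : S.Opens} (hV : IsAffineOpen V) (e : U ≤ f ⁻¹ᵁ V)

include hU hV e in
theorem gen_induction {motive : Γ(nbhd f n, pr1 f n ⁻¹ᵁ U) → Prop} (h0 : motive 0)
    (hadd : ∀ r r', motive r → motive r' → motive (r + r'))
    (hgen : ∀ b b' : Γ(X, U), motive (p1s f n U b * p2s f n U b'))
    (r : Γ(nbhd f n, pr1 f n ⁻¹ᵁ U)) : motive r := by
  letI algAB : Algebra Γ(S, V) Γ(X, U) := (f.appLE V U e).hom.toAlgebra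
  obtain ⟨ψ0, hψ0⟩ := exists_ψ f n hU hV e
  obtain ⟨hψs, -⟩ := chart f n hU hV e ψ0 hψ0
  obtain ⟨p, rfl⟩ := (εP_bijective f n U).2 r
  obtain ⟨z, rfl⟩ := hψs p
  induction z using TensorProduct.induction_on with
  | zero => rw [map_zero, map_zero]; exact h0
  | tmul b b' => rw [hψ0, εP_smul_dn]; exact hgen b b'
  | add z z' hz hz' => rw [map_add, map_add]; exact hadd _ _ hz hz'

include hU hV e in
theorem exists_psi (h : Hyp f n D) (t : Γ(F, U)) :
    ∃ ψ : Γ(nbhd f n, pr1 f n ⁻¹ᵁ U) →+ Γ(G, U),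
      ∀ b b' : Γ(X, U), ψ (p1s f n U b * p2s f n U b') = b • Dm D U (b' • t) := by
  letI algAB : Algebra Γ(S, V) Γ(X, U) := (f.appLE V U e).hom.toAlgebra
  letI modG : Module Γ(S, V) Γ(G, U) := Module.compHom _ (algebraMap Γ(S, V) Γ(X, U))
  haveI towG : IsScalarTower Γ(S, V) Γ(X, U) Γ(G, U) := IsScalarTower.of_compHom _ _ _
  let E : Γ(X, U) →ₗ[Γ(S, V)] Γ(G, U) :=
    { toFun := fun b => Dm D U (b • t)
      map_add' := fun b b' => by rw [add_smul, map_add]
      map_smul' := fun a b => by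
        change Dm D U ((f.appLE V U e a * b) • t) = (f.appLE V U e a) • Dm D U (b • t)
        rw [mul_smul]
        exact h.lin V a U e (b • t) }
  have hE : Diff16.IsDiffOpLE Γ(S, V) Γ(X, U) Γ(X, U) Γ(G, U) n E := by
    rw [Groth.Agent.S2798.result]
    intro a b
    refine Eq.trans (Finset.sum_congr rfl fun H _ => ?_) (h.alt U a (b • t))
    have e1 : E ((∏ i ∈ Hᶜ, a i) • b) = D.app (op U) ((∏ i ∈ Hᶜ, a i) • b • t) := by
      change Dm D U (((∏ i ∈ Hᶜ, a i) • b) • t) = _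
      rw [smul_assoc]
      rfl
    rw [e1]
  have hvan := (Groth.Agent.S2796.result Γ(S, V) Γ(X, U) Γ(G, U) n E).1 hE
  let L := Diff16.linearize Γ(S, V) Γ(X, U) Γ(X, U) Γ(G, U) E
  have hL : ∀ b b' : Γ(X, U), L (b ⊗ₜ[Γ(S, V)] b') = b • Dm D U (b' • t) := fun b b' => rfl
  obtain ⟨ψ0, hψ0⟩ := exists_ψ f n hU hV e
  obtain ⟨hψs, hψk⟩ := chart f n hU hV e ψ0 hψ0
  have hb := εP_bijective f n U
  have hLψ : ∀ z z', ψ0 z = ψ0 z' → L z = L z' := by
    intro z z' hz
    have h1 : z - z' ∈ ψ0.ker := by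
      rw [AddMonoidHom.mem_ker, map_sub, hz, sub_self]
    rw [hψk] at h1
    have h2 := hvan (z - z') h1
    rw [map_sub, sub_eq_zero] at h2
    exact h2
  have hsurj : ∀ r : Γ(nbhd f n, pr1 f n ⁻¹ᵁ U), ∃ z, εP f n U (ψ0 z) = r := by
    intro r
    obtain ⟨p, hp⟩ := hb.2 r
    obtain ⟨z, hz⟩ := hψs p
    exact ⟨z, by rw [hz, hp]⟩
  let g : Γ(nbhd f n, pr1 f n ⁻¹ᵁ U) → Γ(G, U) := fun r => L (Classical.choose (hsurj r))
  have hg : ∀ z, g (εP f n U (ψ0 z)) = L z := fun z =>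
    hLψ _ _ (hb.1 (Classical.choose_spec (hsurj (εP f n U (ψ0 z)))))
  have hgadd : ∀ r r', g (r + r') = g r + g r' := by
    intro r r'
    obtain ⟨z, rfl⟩ := hsurj r
    obtain ⟨z', rfl⟩ := hsurj r'
    have e1 : εP f n U (ψ0 z) + εP f n U (ψ0 z') = εP f n U (ψ0 (z + z')) := by
      rw [map_add, map_add]
    rw [e1, hg, hg, hg, map_add]
  refine ⟨AddMonoidHom.mk' g hgadd, fun b b' => ?_⟩
  have e2 : p1s f n U b * p2s f n U b' = εP f n U (ψ0 (b ⊗ₜ[Γ(S, V)] b')) := by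
    rw [hψ0, εP_smul_dn]
  change g (p1s f n U b * p2s f n U b') = _
  rw [e2, hg, hL]

end Chart

section Psi

variable {f n D}
variable (h : Hyp f n D)

/-- the chartwise linearisation of `b ↦ D (b t)` -/
noncomputable def psi (c : AChart f) (t : Γ(F, c.U)) :
    Γ(nbhd f n, pr1 f n ⁻¹ᵁ c.U) →+ Γ(G, c.U) :=
  Classical.choose (exists_psi f n D c.hU c.hV c.e h t)

theorem psi_gen (c : AChart f) (t : Γ(F, c.U)) (b b' : Γ(X, c.U)) :
    psi h c t (p1s f n c.U b * p2s f n c.U b') = b • Dm D c.U (b' • t) :=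
  Classical.choose_spec (exists_psi f n D c.hU c.hV c.e h t) b b'

theorem psi_add_t (c : AChart f) (t t' : Γ(F, c.U)) (r : Γ(nbhd f n, pr1 f n ⁻¹ᵁ c.U)) :
    psi h c (t + t') r = psi h c t r + psi h c t' r := by
  refine gen_induction f n c.hU c.hV c.e
    (motive := fun r => psi h c (t + t') r = psi h c t r + psi h c t' r) ?_ ?_ ?_ r
  · beta_reduce
    rw [map_zero, map_zero, map_zero, add_zero]
  · intro r r' hr hr'
    beta_reduce at hr hr' ⊢
    rw [map_add, map_add, map_add, hr, hr']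
    abel
  · intro b b'
    beta_reduce
    rw [psi_gen, psi_gen, psi_gen, smul_add, map_add, smul_add]

theorem psi_bal (c : AChart f) (a : Γ(X, c.U)) (t : Γ(F, c.U))
    (r : Γ(nbhd f n, pr1 f n ⁻¹ᵁ c.U)) :
    psi h c t (p2s f n c.U a * r) = psi h c (a • t) r := by
  refine gen_induction f n c.hU c.hV c.e
    (motive := fun r => psi h c t (p2s f n c.U a * r) = psi h c (a • t) r) ?_ ?_ ?_ r
  · beta_reduce
    rw [mul_zero, map_zero, map_zero]
  · intro r r' hr hr'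
    beta_reduce at hr hr' ⊢
    rw [mul_add, map_add, map_add, hr, hr']
  · intro b b'
    beta_reduce
    have e1 : p2s f n c.U a * (p1s f n c.U b * p2s f n c.U b') =
        p1s f n c.U b * p2s f n c.U (a * b') := by
      rw [map_mul]
      ring
    rw [e1, psi_gen, psi_gen, mul_comm a b', mul_smul]

theorem psi_res (c c' : AChart f) (hle : c'.U ≤ c.U) (t : Γ(F, c.U))
    (r : Γ(nbhd f n, pr1 f n ⁻¹ᵁ c.U)) :
    psi h c' (F.presheaf.map (homOfLE hle).op t)
      ((nbhd f n).presheaf.map (homOfLE ((pr1 f n).preimage_mono hle)).op r) =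
      G.presheaf.map (homOfLE hle).op (psi h c t r) := by
  refine gen_induction f n c.hU c.hV c.e
    (motive := fun r => psi h c' (F.presheaf.map (homOfLE hle).op t)
      ((nbhd f n).presheaf.map (homOfLE ((pr1 f n).preimage_mono hle)).op r) =
      G.presheaf.map (homOfLE hle).op (psi h c t r)) ?_ ?_ ?_ r
  · beta_reduce
    rw [map_zero, map_zero, map_zero, map_zero]
  · intro r r' hr hr'
    beta_reduce at hr hr' ⊢
    rw [map_add, map_add, map_add, map_add, hr, hr']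
  · intro b b'
    beta_reduce
    rw [map_mul, p1s_res f n hle, p2s_res f n hle, psi_gen, psi_gen, Scheme.Modules.map_smul,
      ← Dm_res, Scheme.Modules.map_smul]

end Psi

section Stalk

variable {f n D}
variable (h : Hyp f n D) (y : nbhd f n)

theorem mem1 {U : X.Opens} (hx : pr2 f n y ∈ U) : y ∈ pr1 f n ⁻¹ᵁ U :=
  (preimage_pr1 f n U).ge hx

/-- germs of functions on the infinitesimal neighbourhood -/
noncomputable def gR (U : X.Opens) (hx : pr2 f n y ∈ U) :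
    Γ(nbhd f n, pr1 f n ⁻¹ᵁ U) →+* (nbhd f n).presheaf.stalk y :=
  ((nbhd f n).presheaf.germ (pr1 f n ⁻¹ᵁ U) y (mem1 y hx)).hom

theorem gR_res {U U' : X.Opens} (hle : U' ≤ U) (hx : pr2 f n y ∈ U')
    (r : Γ(nbhd f n, pr1 f n ⁻¹ᵁ U)) :
    gR y U' hx ((nbhd f n).presheaf.map (homOfLE ((pr1 f n).preimage_mono hle)).op r) =
      gR y U (hle hx) r :=
  TopCat.Presheaf.germ_res_apply (nbhd f n).presheaf
    (homOfLE ((pr1 f n).preimage_mono hle)) y (mem1 y hx) r

theorem stalkMap_germ (U : X.Opens) (hx : pr2 f n y ∈ U) (b : Γ(X, U)) :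
    ((pr2 f n).stalkMap y).hom (X.presheaf.germ U (pr2 f n y) hx b) =
      gR y U hx (p2s f n U b) := by
  have h1 := Scheme.Hom.germ_stalkMap_apply (pr2 f n) U y hx b
  refine h1.trans ?_
  exact (TopCat.Presheaf.germ_res_apply (nbhd f n).presheaf
    (homOfLE (preimage_pr1 f n U).le) y (mem1 y hx) ((pr2 f n).app U b)).symm

/-- the value of the pairing on representatives over a chart -/
noncomputable def val (c : AChart f) (hx : pr2 f n y ∈ c.U)
    (r : Γ(nbhd f n, pr1 f n ⁻¹ᵁ c.U)) (t : Γ(F, c.U)) : St (pm G) (pr2 f n y) :=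
  gm (pm G) (pr2 f n y) c.U hx (psi h c t r)

theorem val_res (c c' : AChart f) (hle : c'.U ≤ c.U) (hx' : pr2 f n y ∈ c'.U)
    (r : Γ(nbhd f n, pr1 f n ⁻¹ᵁ c.U)) (t : Γ(F, c.U)) :
    val h y c' hx' ((nbhd f n).presheaf.map (homOfLE ((pr1 f n).preimage_mono hle)).op r)
      (F.presheaf.map (homOfLE hle).op t) = val h y c (hle hx') r t := by
  unfold val
  rw [psi_res h c c' hle t r]
  exact TopCat.Presheaf.germ_res_apply G.presheaf (homOfLE hle) (pr2 f n y) hx' (psi h c t r)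

theorem toNbhd_pr2_apply : toNbhd f n (pr2 f n y) = y := by
  rw [← pr1_apply f n y, Groth.Agent.Helper3.PPGen.toNbhd_pr1_apply]

theorem val_unique (c c' : AChart f) (hx : pr2 f n y ∈ c.U) (hx' : pr2 f n y ∈ c'.U)
    (r : Γ(nbhd f n, pr1 f n ⁻¹ᵁ c.U)) (r' : Γ(nbhd f n, pr1 f n ⁻¹ᵁ c'.U))
    (t : Γ(F, c.U)) (t' : Γ(F, c'.U))
    (hr : gR y c.U hx r = gR y c'.U hx' r')
    (ht : gm (pm F) (pr2 f n y) c.U hx t = gm (pm F) (pr2 f n y) c'.U hx' t') :
    val h y c hx r t = val h y c' hx' r' t' := by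
  obtain ⟨W, hyW, iU, iU', heq⟩ := TopCat.Presheaf.germ_eq (nbhd f n).presheaf y
    (mem1 y hx) (mem1 y hx') r r' hr
  obtain ⟨O, hxO, jU, jU', heq'⟩ := TopCat.Presheaf.germ_eq F.presheaf (pr2 f n y)
    hx hx' t t' ht
  have hxW : pr2 f n y ∈ toNbhd f n ⁻¹ᵁ W := by
    change toNbhd f n (pr2 f n y) ∈ W
    rw [toNbhd_pr2_apply]
    exact hyW
  obtain ⟨c'', hx'', hc''⟩ := exists_achart f (pr2 f n y) (toNbhd f n ⁻¹ᵁ W ⊓ O) ⟨hxW, hxO⟩
  have hW : pr1 f n ⁻¹ᵁ c''.U ≤ W :=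
    ((pr1 f n).preimage_mono (hc''.trans inf_le_left)).trans (preimage_preimage f n W).le
  have hO : c''.U ≤ O := hc''.trans inf_le_right
  have hle : c''.U ≤ c.U := hO.trans jU.le
  have hle' : c''.U ≤ c'.U := hO.trans jU'.le
  rw [← val_res h y c c'' hle hx'' r t, ← val_res h y c' c'' hle' hx'' r' t']
  have e1 : (nbhd f n).presheaf.map (homOfLE ((pr1 f n).preimage_mono hle)).op r =
      (nbhd f n).presheaf.map (homOfLE ((pr1 f n).preimage_mono hle')).op r' := by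
    rw [← res_comp iU (homOfLE hW) (homOfLE ((pr1 f n).preimage_mono hle)) r,
      ← res_comp iU' (homOfLE hW) (homOfLE ((pr1 f n).preimage_mono hle')) r', heq]
  have e2 : F.presheaf.map (homOfLE hle).op t = F.presheaf.map (homOfLE hle').op t' := by
    have a1 : F.presheaf.map (homOfLE hle).op t =
        F.presheaf.map (homOfLE hO).op (F.presheaf.map jU.op t) := by
      rw [OmegaSh.resM_resM]; rfl
    have a2 : F.presheaf.map (homOfLE hle').op t' =
        F.presheaf.map (homOfLE hO).op (F.presheaf.map jU'.op t') := by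
      rw [OmegaSh.resM_resM]; rfl
    rw [a1, a2, heq']
  rw [e1, e2]

theorem exists_rep (ρ ρ' : (nbhd f n).presheaf.stalk y) (s : X.presheaf.stalk (pr2 f n y))
    (τ τ' : St (pm F) (pr2 f n y)) :
    ∃ (c : AChart f) (hx : pr2 f n y ∈ c.U) (r r' : Γ(nbhd f n, pr1 f n ⁻¹ᵁ c.U))
      (b : Γ(X, c.U)) (t t' : Γ(F, c.U)),
      gR y c.U hx r = ρ ∧ gR y c.U hx r' = ρ' ∧
      X.presheaf.germ c.U (pr2 f n y) hx b = s ∧
      gm (pm F) (pr2 f n y) c.U hx t = τ ∧ gm (pm F) (pr2 f n y) c.U hx t' = τ' := by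
  obtain ⟨W1, hy1, r1, rfl⟩ := TopCat.Presheaf.exists_germ_eq (nbhd f n).presheaf ρ
  obtain ⟨W2, hy2, r2, rfl⟩ := TopCat.Presheaf.exists_germ_eq (nbhd f n).presheaf ρ'
  obtain ⟨O3, hx3, b3, rfl⟩ := TopCat.Presheaf.exists_germ_eq X.presheaf s
  obtain ⟨O4, hx4, t4, rfl⟩ := gm_exists (pm F) (pr2 f n y) τ
  obtain ⟨O5, hx5, t5, rfl⟩ := gm_exists (pm F) (pr2 f n y) τ'
  have hx1 : pr2 f n y ∈ toNbhd f n ⁻¹ᵁ W1 := by
    change toNbhd f n (pr2 f n y) ∈ W1
    rw [toNbhd_pr2_apply]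
    exact hy1
  have hx2 : pr2 f n y ∈ toNbhd f n ⁻¹ᵁ W2 := by
    change toNbhd f n (pr2 f n y) ∈ W2
    rw [toNbhd_pr2_apply]
    exact hy2
  obtain ⟨c, hxc, hc⟩ := exists_achart f (pr2 f n y)
    (toNbhd f n ⁻¹ᵁ W1 ⊓ toNbhd f n ⁻¹ᵁ W2 ⊓ O3 ⊓ O4 ⊓ O5) ⟨⟨⟨⟨hx1, hx2⟩, hx3⟩, hx4⟩, hx5⟩
  have l1 : c.U ≤ toNbhd f n ⁻¹ᵁ W1 :=
    hc.trans (inf_le_left.trans (inf_le_left.trans (inf_le_left.trans inf_le_left)))
  have l2 : c.U ≤ toNbhd f n ⁻¹ᵁ W2 :=
    hc.trans (inf_le_left.trans (inf_le_left.trans (inf_le_left.trans inf_le_right)))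
  have l3 : c.U ≤ O3 := hc.trans (inf_le_left.trans (inf_le_left.trans inf_le_right))
  have l4 : c.U ≤ O4 := hc.trans (inf_le_left.trans inf_le_right)
  have l5 : c.U ≤ O5 := hc.trans inf_le_right
  have k1 : pr1 f n ⁻¹ᵁ c.U ≤ W1 :=
    ((pr1 f n).preimage_mono l1).trans (preimage_preimage f n W1).le
  have k2 : pr1 f n ⁻¹ᵁ c.U ≤ W2 :=
    ((pr1 f n).preimage_mono l2).trans (preimage_preimage f n W2).le
  refine ⟨c, hxc, (nbhd f n).presheaf.map (homOfLE k1).op r1,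
    (nbhd f n).presheaf.map (homOfLE k2).op r2, X.presheaf.map (homOfLE l3).op b3,
    F.presheaf.map (homOfLE l4).op t4, F.presheaf.map (homOfLE l5).op t5, ?_, ?_, ?_, ?_, ?_⟩
  · exact TopCat.Presheaf.germ_res_apply (nbhd f n).presheaf (homOfLE k1) y (mem1 y hxc) r1
  · exact TopCat.Presheaf.germ_res_apply (nbhd f n).presheaf (homOfLE k2) y (mem1 y hxc) r2
  · exact TopCat.Presheaf.germ_res_apply X.presheaf (homOfLE l3) (pr2 f n y) hxc b3
  · exact TopCat.Presheaf.germ_res_apply F.presheaf (homOfLE l4) (pr2 f n y) hxc t4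
  · exact TopCat.Presheaf.germ_res_apply F.presheaf (homOfLE l5) (pr2 f n y) hxc t5

theorem exists_val (ρ : (nbhd f n).presheaf.stalk y) (τ : St (pm F) (pr2 f n y)) :
    ∃ g : St (pm G) (pr2 f n y), ∀ (c : AChart f) (hx : pr2 f n y ∈ c.U)
      (r : Γ(nbhd f n, pr1 f n ⁻¹ᵁ c.U)) (t : Γ(F, c.U)),
      gR y c.U hx r = ρ → gm (pm F) (pr2 f n y) c.U hx t = τ → val h y c hx r t = g := by
  obtain ⟨c0, hx0, r0, -, -, t0, -, hr0, -, -, ht0, -⟩ := exists_rep y ρ 0 0 τ 0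
  refine ⟨val h y c0 hx0 r0 t0, fun c hx r t hr ht => ?_⟩
  exact val_unique h y c c0 hx hx0 r r0 t t0 (hr.trans hr0.symm) (ht.trans ht0.symm)

/-- the pairing on germs -/
noncomputable def phi (ρ : (nbhd f n).presheaf.stalk y) (τ : St (pm F) (pr2 f n y)) :
    St (pm G) (pr2 f n y) :=
  Classical.choose (exists_val h y ρ τ)

theorem phi_spec (c : AChart f) (hx : pr2 f n y ∈ c.U)
    (r : Γ(nbhd f n, pr1 f n ⁻¹ᵁ c.U)) (t : Γ(F, c.U)) :
    phi h y (gR y c.U hx r) (gm (pm F) (pr2 f n y) c.U hx t) = val h y c hx r t :=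
  (Classical.choose_spec (exists_val h y _ _) c hx r t rfl rfl).symm

theorem phi_add_left (ρ ρ' : (nbhd f n).presheaf.stalk y) (τ : St (pm F) (pr2 f n y)) :
    phi h y (ρ + ρ') τ = phi h y ρ τ + phi h y ρ' τ := by
  obtain ⟨c, hx, r, r', -, t, -, rfl, rfl, -, rfl, -⟩ := exists_rep y ρ ρ' 0 τ 0
  have e1 : gR y c.U hx r + gR y c.U hx r' = gR y c.U hx (r + r') := (map_add _ _ _).symm
  rw [e1, phi_spec, phi_spec, phi_spec]
  unfold val
  rw [map_add (psi h c t)]
  exact map_add (gm (pm G) (pr2 f n y) c.U hx) _ _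

theorem phi_add_right (ρ : (nbhd f n).presheaf.stalk y) (τ τ' : St (pm F) (pr2 f n y)) :
    phi h y ρ (τ + τ') = phi h y ρ τ + phi h y ρ τ' := by
  obtain ⟨c, hx, r, -, -, t, t', rfl, -, -, rfl, rfl⟩ := exists_rep y ρ 0 0 τ τ'
  have e1 : gm (pm F) (pr2 f n y) c.U hx t + gm (pm F) (pr2 f n y) c.U hx t' =
      gm (pm F) (pr2 f n y) c.U hx (t + t') := (map_add _ _ _).symm
  rw [e1, phi_spec, phi_spec, phi_spec]
  unfold val
  rw [psi_add_t]
  exact map_add (gm (pm G) (pr2 f n y) c.U hx) _ _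

theorem phi_bal (s : X.presheaf.stalk (pr2 f n y)) (ρ : (nbhd f n).presheaf.stalk y)
    (τ : St (pm F) (pr2 f n y)) :
    phi h y (((pr2 f n).stalkMap y).hom s * ρ) τ = phi h y ρ (s • τ) := by
  obtain ⟨c, hx, r, -, b, t, -, rfl, -, rfl, rfl, -⟩ := exists_rep y ρ 0 s τ 0
  have e1 : ((pr2 f n).stalkMap y).hom (X.presheaf.germ c.U (pr2 f n y) hx b) * gR y c.U hx r =
      gR y c.U hx (p2s f n c.U b * r) := by
    rw [stalkMap_germ, map_mul]
  have e2 : (X.presheaf.germ c.U (pr2 f n y) hx b : X.presheaf.stalk (pr2 f n y)) •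
      gm (pm F) (pr2 f n y) c.U hx t = gm (pm F) (pr2 f n y) c.U hx (b • t) :=
    (gm_smul (pm F) (pr2 f n y) c.U hx b t).symm
  rw [e1, e2, phi_spec, phi_spec]
  unfold val
  rw [psi_bal]

theorem phi_val (U : X.Opens) (hx : pr2 f n y ∈ U) (a : Γ(X, U)) (t : Γ(F, U)) :
    phi h y (gR y U hx (p1s f n U a)) (gm (pm F) (pr2 f n y) U hx t) =
      gm (pm G) (pr2 f n y) U hx (a • Dm D U t) := by
  obtain ⟨c, hxc, hle⟩ := exists_achart f (pr2 f n y) U hx
  have e1 : gR y U hx (p1s f n U a) =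
      gR y c.U hxc (p1s f n c.U (X.presheaf.map (homOfLE hle).op a)) := by
    rw [← p1s_res f n hle a, gR_res y hle]
  have e2 : gm (pm F) (pr2 f n y) U hx t =
      gm (pm F) (pr2 f n y) c.U hxc (F.presheaf.map (homOfLE hle).op t) :=
    (TopCat.Presheaf.germ_res_apply F.presheaf (homOfLE hle) (pr2 f n y) hxc t).symm
  have e3 : gm (pm G) (pr2 f n y) U hx (a • Dm D U t) =
      gm (pm G) (pr2 f n y) c.U hxc (G.presheaf.map (homOfLE hle).op (a • Dm D U t)) :=
    (TopCat.Presheaf.germ_res_apply G.presheaf (homOfLE hle) (pr2 f n y) hxc _).symm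
  rw [e1, e2, e3, phi_spec]
  unfold val
  congr 1
  have e4 : p1s f n c.U (X.presheaf.map (homOfLE hle).op a) =
      p1s f n c.U (X.presheaf.map (homOfLE hle).op a) * p2s f n c.U 1 := by
    rw [map_one, mul_one]
  rw [e4, psi_gen, one_smul, Scheme.Modules.map_smul, ← Dm_res]

/-- the pairing as a biadditive map -/
noncomputable def phiHom :
    (nbhd f n).presheaf.stalk y →+ St (pm F) (pr2 f n y) →+ St (pm G) (pr2 f n y) :=
  AddMonoidHom.mk' (fun ρ => AddMonoidHom.mk' (fun τ => phi h y ρ τ) (phi_add_right h y ρ))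
    (fun ρ ρ' => by
      ext τ
      exact phi_add_left h y ρ ρ' τ)

theorem Phi_gP_dP (U : X.Opens) (hx : pr2 f n y ∈ U) (t : Γ(F, U)) :
    ((stalkPullbackIso (pr2 f n) y).app F).toLinearEquiv
        (gP f n F y U (mem1 y hx) (dP f n F U t)) =
      tm1 ((pr2 f n).stalkMap y).hom ((stalkSh X (pr2 f n y)).obj F)
        (gm (pm F) (pr2 f n y) U hx t) := by
  have h1 := stalkPullbackIso_gm (pr2 f n) y F U hx t
  have h3 : gP f n F y U (mem1 y hx) (dP f n F U t) =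
      gm (pm (NN f n F)) y (pr2 f n ⁻¹ᵁ U) hx (etaSec (pr2 f n) F U t) :=
    TopCat.Presheaf.germ_res_apply (NN f n F).presheaf
      (homOfLE (preimage_pr1 f n U).le) y (mem1 y hx) (OmegaSh.pullSect (pr2 f n) F U t)
  rw [h3]
  exact h1

include h in
theorem exists_lam :
    ∃ Λ : St (pm (NN f n F)) y →+ St (pm G) (pr2 f n y),
      ∀ (U : X.Opens) (hx : pr2 f n y ∈ U) (a : Γ(X, U)) (t : Γ(F, U)),
        Λ (gP f n F y U (mem1 y hx) (a • dP f n F U t)) =
          gm (pm G) (pr2 f n y) U hx (a • Dm D U t) := by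
  letI := ((pr2 f n).stalkMap y).hom.toAlgebra
  obtain ⟨Λ0, hΛ0⟩ := exists_lift (R := X.presheaf.stalk (pr2 f n y))
    (S := (nbhd f n).presheaf.stalk y) (N := (stalkSh X (pr2 f n y)).obj F)
    (phiHom h y) (fun s ρ τ => phi_bal h y s ρ τ)
  refine ⟨AddMonoidHom.mk'
    (fun z => Λ0 (((stalkPullbackIso (pr2 f n) y).app F).toLinearEquiv z))
    (fun z z' => (congrArg Λ0
      (map_add (((stalkPullbackIso (pr2 f n) y).app F).toLinearEquiv) z z')).trans
      (map_add Λ0 _ _)), fun U hx a t => ?_⟩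
  change Λ0 (((stalkPullbackIso (pr2 f n) y).app F).toLinearEquiv
    (gP f n F y U (mem1 y hx) (a • dP f n F U t))) = _
  have e1 : gP f n F y U (mem1 y hx) (a • dP f n F U t) =
      (gR y U hx (p1s f n U a)) • gP f n F y U (mem1 y hx) (dP f n F U t) := by
    rw [smul_eq_ysmul, gP_ysmul]
    rfl
  have e5 : ((stalkPullbackIso (pr2 f n) y).app F).toLinearEquiv
      (gP f n F y U (mem1 y hx) (a • dP f n F U t)) =
      (gR y U hx (p1s f n U a)) • tm1 ((pr2 f n).stalkMap y).hom ((stalkSh X (pr2 f n y)).obj F)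
        (gm (pm F) (pr2 f n y) U hx t) :=
    (congrArg (((stalkPullbackIso (pr2 f n) y).app F).toLinearEquiv) e1).trans
      ((map_smul (((stalkPullbackIso (pr2 f n) y).app F).toLinearEquiv)
        (gR y U hx (p1s f n U a)) (gP f n F y U (mem1 y hx) (dP f n F U t))).trans
      (congrArg (fun w => gR y U hx (p1s f n U a) • w) (Phi_gP_dP y U hx t)))
  refine (congrArg Λ0 e5).trans ?_
  rw [← phi_val h y U hx a t]
  exact hΛ0 _ _

/-- the stalkwise linearisation -/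
noncomputable def lam : St (pm (NN f n F)) y →+ St (pm G) (pr2 f n y) :=
  Classical.choose (exists_lam h y)

theorem lam_spec (U : X.Opens) (hx : pr2 f n y ∈ U) (a : Γ(X, U)) (t : Γ(F, U)) :
    lam h y (gP f n F y U (mem1 y hx) (a • dP f n F U t)) =
      gm (pm G) (pr2 f n y) U hx (a • Dm D U t) :=
  Classical.choose_spec (exists_lam h y) U hx a t

end Stalk

/-- the graph of the linearisation on sections which are combinations of `d^n t`'s -/
inductive Gr {X S : Scheme.{u}} (f : X ⟶ S) (n : ℕ) {F G : X.Modules}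
    (D : F.presheaf ⟶ G.presheaf) (U : X.Opens) : Γ(PMod f n F, U) → Γ(G, U) → Prop
  | gen (a : Γ(X, U)) (t : Γ(F, U)) : Gr f n D U (a • dP f n F U t) (a • Dm D U t)
  | zero : Gr f n D U 0 0
  | add {m m' : Γ(PMod f n F, U)} {g g' : Γ(G, U)} :
      Gr f n D U m g → Gr f n D U m' g' → Gr f n D U (m + m') (g + g')

section Graph

theorem Gr_smul {U : X.Opens} (r : Γ(X, U)) {m : Γ(PMod f n F, U)} {g : Γ(G, U)}
    (hg : Gr f n D U m g) : Gr f n D U (r • m) (r • g) := by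
  induction hg with
  | gen a t =>
    rw [← mul_smul, ← mul_smul]
    exact Gr.gen _ _
  | zero =>
    rw [smul_zero, smul_zero]
    exact Gr.zero
  | add _ _ ih1 ih2 =>
    rw [smul_add, smul_add]
    exact Gr.add ih1 ih2

theorem Gr_res {U U' : X.Opens} (hle : U' ≤ U) {m : Γ(PMod f n F, U)} {g : Γ(G, U)}
    (hg : Gr f n D U m g) :
    Gr f n D U' ((PMod f n F).presheaf.map (homOfLE hle).op m)
      (G.presheaf.map (homOfLE hle).op g) := by
  induction hg with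
  | gen a t =>
    rw [Scheme.Modules.map_smul, Scheme.Modules.map_smul, ← dP_map f n F hle t,
      ← Dm_res D hle t]
    exact Gr.gen _ _
  | zero =>
    rw [map_zero, map_zero]
    exact Gr.zero
  | add _ _ ih1 ih2 =>
    rw [map_add, map_add]
    exact Gr.add ih1 ih2

theorem Gr_of_span {U : X.Opens} {m : Γ(PMod f n F, U)} (hm : m ∈ SpanD f n F U) :
    ∃ g, Gr f n D U m g := by
  induction hm using Submodule.span_induction with
  | mem m hm =>
    obtain ⟨t, rfl⟩ := hm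
    refine ⟨Dm D U t, ?_⟩
    have h1 := Gr.gen (f := f) (n := n) (D := D) (U := U) 1 t
    rwa [one_smul, one_smul] at h1
  | zero => exact ⟨0, Gr.zero⟩
  | add x y _ _ hx hy =>
    obtain ⟨g, hg⟩ := hx
    obtain ⟨g', hg'⟩ := hy
    exact ⟨g + g', Gr.add hg hg'⟩
  | smul r x _ hx =>
    obtain ⟨g, hg⟩ := hx
    exact ⟨r • g, Gr_smul f n D r hg⟩

variable {f n D}
variable (h : Hyp f n D)

theorem Gr_germ {U : X.Opens} {m : Γ(PMod f n F, U)} {g : Γ(G, U)} (hg : Gr f n D U m g)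
    (y : nbhd f n) (hx : pr2 f n y ∈ U) :
    lam h y (gP f n F y U (mem1 y hx) m) = gm (pm G) (pr2 f n y) U hx g := by
  induction hg with
  | gen a t => exact lam_spec h y U hx a t
  | zero =>
    rw [gP_zero, map_zero]
    exact (map_zero (gm (pm G) (pr2 f n y) U hx)).symm
  | add _ _ ih1 ih2 =>
    rw [gP_add, map_add, ih1, ih2]
    exact (map_add (gm (pm G) (pr2 f n y) U hx) _ _).symm

include h in
theorem Gr_unique {U : X.Opens} {m : Γ(PMod f n F, U)} {g g' : Γ(G, U)}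
    (h1 : Gr f n D U m g) (h2 : Gr f n D U m g') : g = g' := by
  apply Groth.Agent.Lead.OmU.section_ext G
  intro x hx
  have hx2 : pr2 f n (toNbhd f n x) = x :=
    (pr1_apply f n (toNbhd f n x)).symm.trans (pr1_toNbhd f n x)
  have hxU : pr2 f n (toNbhd f n x) ∈ U := by
    rw [hx2]
    exact hx
  have e := (Gr_germ h h1 (toNbhd f n x) hxU).symm.trans (Gr_germ h h2 (toNbhd f n x) hxU)
  obtain ⟨W, hW, i1, i2, heq⟩ := TopCat.Presheaf.germ_eq G.presheaf (pr2 f n (toNbhd f n x))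
    hxU hxU g g' e
  rw [hx2] at hW
  exact ⟨W, i1.le, hW, heq⟩

/-- `g` is locally the linearisation of `σ` -/
def LocGr (f : X ⟶ S) (n : ℕ) (D : F.presheaf ⟶ G.presheaf) (U : X.Opens)
    (σ : Γ(PMod f n F, U)) (g : Γ(G, U)) : Prop :=
  ∀ x ∈ U, ∃ (V : X.Opens) (hV : V ≤ U), x ∈ V ∧
    Gr f n D V ((PMod f n F).presheaf.map (homOfLE hV).op σ) (G.presheaf.map (homOfLE hV).op g)

include h in
theorem locGr_unique {U : X.Opens} {σ : Γ(PMod f n F, U)} {g g' : Γ(G, U)}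
    (h1 : LocGr f n D U σ g) (h2 : LocGr f n D U σ g') : g = g' := by
  apply Groth.Agent.Lead.OmU.section_ext G
  intro x hx
  obtain ⟨V, hV, hxV, k1⟩ := h1 x hx
  obtain ⟨V', hV', hxV', k2⟩ := h2 x hx
  refine ⟨V ⊓ V', inf_le_left.trans hV, ⟨hxV, hxV'⟩, ?_⟩
  have a1 := Gr_res f n D (inf_le_left : V ⊓ V' ≤ V) k1
  have a2 := Gr_res f n D (inf_le_right : V ⊓ V' ≤ V') k2
  rw [res_res', res_res'] at a1 a2
  exact Gr_unique h a1 a2

include h in
theorem locGr_exists (U : X.Opens) (σ : Γ(PMod f n F, U)) : ∃ g, LocGr f n D U σ g := by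
  choose V hxV hle hmem using fun x : U => exists_res_mem f n F U σ x.1 x.2
  choose gl hgl using fun x : U => Gr_of_span f n D (hmem x)
  have hcov : U ≤ ⨆ x, V x := fun x hx => Opens.mem_iSup.2 ⟨⟨x, hx⟩, hxV ⟨x, hx⟩⟩
  obtain ⟨g, hg⟩ := Groth.Agent.Helper1.TwistSec.glue_of_compatible G V U hle hcov gl (by
    intro x x'
    have a1 := Gr_res f n D (inf_le_left : V x ⊓ V x' ≤ V x) (hgl x)
    have a2 := Gr_res f n D (inf_le_right : V x ⊓ V x' ≤ V x') (hgl x')
    rw [res_res'] at a1 a2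
    exact Gr_unique h a1 a2)
  refine ⟨g, fun x hx => ⟨V ⟨x, hx⟩, hle ⟨x, hx⟩, hxV ⟨x, hx⟩, ?_⟩⟩
  have e1 : G.presheaf.map (homOfLE (hle ⟨x, hx⟩)).op g = gl ⟨x, hx⟩ := hg ⟨x, hx⟩
  rw [e1]
  exact hgl ⟨x, hx⟩

theorem locGr_add {U : X.Opens} {σ σ' : Γ(PMod f n F, U)} {g g' : Γ(G, U)}
    (h1 : LocGr f n D U σ g) (h2 : LocGr f n D U σ' g') :
    LocGr f n D U (σ + σ') (g + g') := by
  intro x hx
  obtain ⟨V, hV, hxV, k1⟩ := h1 x hx
  obtain ⟨V', hV', hxV', k2⟩ := h2 x hx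
  refine ⟨V ⊓ V', inf_le_left.trans hV, ⟨hxV, hxV'⟩, ?_⟩
  have a1 := Gr_res f n D (inf_le_left : V ⊓ V' ≤ V) k1
  have a2 := Gr_res f n D (inf_le_right : V ⊓ V' ≤ V') k2
  rw [res_res', res_res'] at a1 a2
  rw [map_add, map_add]
  exact Gr.add a1 a2

theorem locGr_smul {U : X.Opens} (r : Γ(X, U)) {σ : Γ(PMod f n F, U)} {g : Γ(G, U)}
    (h1 : LocGr f n D U σ g) : LocGr f n D U (r • σ) (r • g) := by
  intro x hx
  obtain ⟨V, hV, hxV, k1⟩ := h1 x hx
  refine ⟨V, hV, hxV, ?_⟩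
  rw [Scheme.Modules.map_smul, Scheme.Modules.map_smul]
  exact Gr_smul f n D _ k1

theorem locGr_res {U U' : X.Opens} (hle : U' ≤ U) {σ : Γ(PMod f n F, U)} {g : Γ(G, U)}
    (h1 : LocGr f n D U σ g) :
    LocGr f n D U' ((PMod f n F).presheaf.map (homOfLE hle).op σ)
      (G.presheaf.map (homOfLE hle).op g) := by
  intro x hx
  obtain ⟨V, hV, hxV, k1⟩ := h1 x (hle hx)
  refine ⟨V ⊓ U', inf_le_right, ⟨hxV, hx⟩, ?_⟩
  have a1 := Gr_res f n D (inf_le_left : V ⊓ U' ≤ V) k1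
  rw [res_res', res_res'] at a1
  rw [res_res', res_res']
  exact a1

theorem locGr_dP (U : X.Opens) (t : Γ(F, U)) : LocGr f n D U (dP f n F U t) (Dm D U t) := by
  intro x hx
  refine ⟨U, le_rfl, hx, ?_⟩
  have h1 := Gr.gen (f := f) (n := n) (D := D) (U := U) 1 t
  rw [one_smul, one_smul] at h1
  exact Gr_res f n D le_rfl h1

end Graph

section Main

/-- **existence of the linearisation** -/
theorem exists_u (h : Hyp f n D) :
    ∃ u : PMod f n F ⟶ G, ∀ (U : X.Opens) (t : Γ(F, U)),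
      D.app (op U) t = u.app U (dP f n F U t) := by
  let B : X.Opens → X.Opens := fun U => U
  have hB : Opens.IsBasis (Set.range B) := by
    rw [Opens.isBasis_iff_nbhd]
    intro O x hx
    exact ⟨O, ⟨O, rfl⟩, hx, le_rfl⟩
  let us : ∀ U : X.Opens, Γ(PMod f n F, U) → Γ(G, U) :=
    fun U σ => Classical.choose (locGr_exists h U σ)
  have hus : ∀ U σ, LocGr f n D U σ (us U σ) :=
    fun U σ => Classical.choose_spec (locGr_exists h U σ)
  have hus_eq : ∀ (U : X.Opens) (σ : Γ(PMod f n F, U)) (g : Γ(G, U)),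
      LocGr f n D U σ g → us U σ = g := fun U σ g hg => locGr_unique h (hus U σ) hg
  let a : ∀ U : X.Opens, Γ(PMod f n F, B U) →+ Γ(G, B U) := fun U =>
    AddMonoidHom.mk' (us U) (fun σ σ' => hus_eq U _ _ (locGr_add (hus U σ) (hus U σ')))
  have hnat : ∀ (i j : X.Opens) (hle : B j ≤ B i) (m : Γ(PMod f n F, B i)),
      a j ((PMod f n F).presheaf.map (homOfLE hle).op m) =
        G.presheaf.map (homOfLE hle).op (a i m) :=
    fun i j hle m => hus_eq j _ _ (locGr_res hle (hus i m))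
  have hlin : ∀ (i : X.Opens) (r : Γ(X, B i)) (m : Γ(PMod f n F, B i)),
      a i (r • m) = r • a i m :=
    fun i r m => hus_eq i _ _ (locGr_smul r (hus i m))
  refine ⟨glueHom B hB a hnat hlin, fun U t => ?_⟩
  have e := glueHom_basis B hB a hnat hlin U (dP f n F U t)
  exact ((hus_eq U _ _ (locGr_dP U t)).symm.trans e.symm)

/-- the image of `d^n` satisfies the alternating sum relations, hence so does `u ∘ d^n`. -/
theorem alt_of_u (u : PMod f n F ⟶ G)
    (hu : ∀ (U : X.Opens) (t : Γ(F, U)), D.app (op U) t = u.app U (dP f n F U t))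
    (U : X.Opens) (a : Fin (n + 1) → Γ(X, U)) (t : Γ(F, U)) :
    (∑ H : Finset (Fin (n + 1)),
      ((-1 : ℤ) ^ H.card) • ((∏ i ∈ H, a i) • D.app (op U) ((∏ i ∈ Hᶜ, a i) • t))) = 0 := by
  have h0 := alt_sum_dP f n F U a t
  have h1 : u.app U (∑ H : Finset (Fin (n + 1)),
      ((-1 : ℤ) ^ H.card) • ((∏ i ∈ H, a i) • dP f n F U ((∏ i ∈ Hᶜ, a i) • t))) = 0 := by
    rw [h0, map_zero]
  rw [map_sum] at h1
  refine Eq.trans (Finset.sum_congr rfl fun H _ => ?_) h1
  rw [hu, map_zsmul, Scheme.Modules.Hom.app_smul]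

/-- `u ∘ d^n` is linear over the functions coming from the base. -/
theorem lin_of_u (u : PMod f n F ⟶ G)
    (hu : ∀ (U : X.Opens) (t : Γ(F, U)), D.app (op U) t = u.app U (dP f n F U t))
    (V : S.Opens) (s : Γ(S, V)) (U : X.Opens) (hU : U ≤ f ⁻¹ᵁ V) (t : Γ(F, U)) :
    D.app (op U) (X.presheaf.map (homOfLE hU).op (f.app V s) • t) =
      X.presheaf.map (homOfLE hU).op (f.app V s) • D.app (op U) t := by
  rw [hu, hu]
  have e : dP f n F U (X.presheaf.map (homOfLE hU).op (f.app V s) • t) =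
      X.presheaf.map (homOfLE hU).op (f.app V s) • dP f n F U t :=
    dP_base_smul f n F V s U hU t
  rw [e, Scheme.Modules.Hom.app_smul]

/-- **S5960** -/
theorem s5960 (f : X ⟶ S) (F G : X.Modules) (n : ℕ) (D : F.presheaf ⟶ G.presheaf)
    (hlin : ∀ (V : S.Opens) (s : Γ(S, V)) (U : X.Opens) (hU : U ≤ f ⁻¹ᵁ V) (t : Γ(F, U)),
      D.app (op U) (X.presheaf.map (homOfLE hU).op (f.app V s) • t) =
        X.presheaf.map (homOfLE hU).op (f.app V s) • D.app (op U) t) :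
    PrinPart.IsDiffOpLE f F G n D ↔
      ∀ (U : X.Opens) (a : Fin (n + 1) → Γ(X, U)) (t : Γ(F, U)),
        (∑ H : Finset (Fin (n + 1)),
          ((-1 : ℤ) ^ H.card) • ((∏ i ∈ H, a i) • D.app (op U) ((∏ i ∈ Hᶜ, a i) • t))) = 0 := by
  constructor
  · rintro ⟨u, hu⟩
    exact alt_of_u f n D u hu
  · intro halt
    exact exists_u f n D ⟨hlin, halt⟩

end Main

end Groth.Agent.Helper3.PPLin
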