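import Mathlib
import Groth.Agent.Lib.Helper3.PPLinA

/-!
# Composition of differential operators between arbitrary `O_X`-modules

`D` of order `≤ n` followed by `D'` of order `≤ n'` has order `≤ n + n'`: on sections over any open
`U` the alternating sum relations of order `n + n'` follow from the ring-level composition theorem
(S2798, S2799, over the ring `Γ(S, ⊤)`), and `PPLinA.exists_u` linearises the composite.
-/

set_option autoImplicit false
set_option backward.isDefEq.respectTransparency.types false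
set_option linter.style.haveILetI false
set_option linter.unusedSectionVars false
set_option synthInstance.maxHeartbeats 400000
set_option maxHeartbeats 4000000

universe u
open CategoryTheory CategoryTheory.Limits AlgebraicGeometry TopologicalSpace Opposite
open TensorProduct

namespace Groth.Agent.Helper3.PPLin

open PrinPart OmegaSh

/-- **S5955** -/
theorem s5955 {X S : Scheme.{u}} (f : X ⟶ S) (F G H : X.Modules) (n n' : ℕ)
    (D : F.presheaf ⟶ G.presheaf) (D' : G.presheaf ⟶ H.presheaf)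
    (hD : PrinPart.IsDiffOpLE f F G n D) (hD' : PrinPart.IsDiffOpLE f G H n' D') :
    PrinPart.IsDiffOpLE f F H (n + n') (D ≫ D') := by
  obtain ⟨u, hu⟩ := hD
  obtain ⟨u', hu'⟩ := hD'
  have hlinD := lin_of_u f n D u hu
  have hlinD' := lin_of_u f n' D' u' hu'
  have haltD := alt_of_u f n D u hu
  have haltD' := alt_of_u f n' D' u' hu'
  refine exists_u f (n + n') (D ≫ D') ⟨?_, ?_⟩
  · intro V s U hU t
    change D'.app (op U) (D.app (op U) (X.presheaf.map (homOfLE hU).op (f.app V s) • t)) =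
      X.presheaf.map (homOfLE hU).op (f.app V s) • D'.app (op U) (D.app (op U) t)
    rw [hlinD V s U hU t, hlinD' V s U hU _]
  · intro U a t
    have e : U ≤ f ⁻¹ᵁ (⊤ : S.Opens) := fun _ _ => trivial
    letI algAB : Algebra Γ(S, ⊤) Γ(X, U) := (f.appLE ⊤ U e).hom.toAlgebra
    letI modF : Module Γ(S, ⊤) Γ(F, U) := Module.compHom _ (algebraMap Γ(S, ⊤) Γ(X, U))
    haveI towF : IsScalarTower Γ(S, ⊤) Γ(X, U) Γ(F, U) := IsScalarTower.of_compHom _ _ _
    letI modG : Module Γ(S, ⊤) Γ(G, U) := Module.compHom _ (algebraMap Γ(S, ⊤) Γ(X, U))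
    haveI towG : IsScalarTower Γ(S, ⊤) Γ(X, U) Γ(G, U) := IsScalarTower.of_compHom _ _ _
    letI modH : Module Γ(S, ⊤) Γ(H, U) := Module.compHom _ (algebraMap Γ(S, ⊤) Γ(X, U))
    haveI towH : IsScalarTower Γ(S, ⊤) Γ(X, U) Γ(H, U) := IsScalarTower.of_compHom _ _ _
    let D₁ : Γ(F, U) →ₗ[Γ(S, ⊤)] Γ(G, U) :=
      { toFun := fun t => D.app (op U) t
        map_add' := fun t t' => map_add (D.app (op U)).hom t t'
        map_smul' := fun s t => by
          change D.app (op U) ((f.appLE ⊤ U e s) • t) = (f.appLE ⊤ U e s) • D.app (op U) t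
          exact hlinD ⊤ s U e t }
    let D₂ : Γ(G, U) →ₗ[Γ(S, ⊤)] Γ(H, U) :=
      { toFun := fun t => D'.app (op U) t
        map_add' := fun t t' => map_add (D'.app (op U)).hom t t'
        map_smul' := fun s t => by
          change D'.app (op U) ((f.appLE ⊤ U e s) • t) = (f.appLE ⊤ U e s) • D'.app (op U) t
          exact hlinD' ⊤ s U e t }
    have hD₁ : Diff16.IsDiffOpLE Γ(S, ⊤) Γ(X, U) Γ(F, U) Γ(G, U) n D₁ := by
      rw [Groth.Agent.S2798.result]
      intro b t
      exact haltD U b t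
    have hD₂ : Diff16.IsDiffOpLE Γ(S, ⊤) Γ(X, U) Γ(G, U) Γ(H, U) n' D₂ := by
      rw [Groth.Agent.S2798.result]
      intro b t
      exact haltD' U b t
    have hcomp := Groth.Agent.S2799.result Γ(S, ⊤) Γ(X, U) Γ(F, U) Γ(G, U) Γ(H, U) n n'
      D₁ D₂ hD₁ hD₂
    exact (Groth.Agent.S2798.result Γ(S, ⊤) Γ(X, U) Γ(F, U) Γ(H, U) (n + n')
      (D₂ ∘ₗ D₁)).1 hcomp a t

end Groth.Agent.Helper3.PPLin
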