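import Mathlib
import Groth.Prelude.Def_OmegaPn
import Groth.Agent.Lib.Lead.PP1
import Groth.Agent.Lib.Lead.PP7e
import Groth.Agent.Lib.Helper3.ConSecA

/-!
# Base change of the sheaves of principal parts

For a cartesian square `X' = X ×_S S'` the canonical map `u^* P^n_{X/S} ⟶ P^n_{X'/S'}` is an
isomorphism.  Built on lead's chart description `PP7.chart` of `P^n` on affine charts.
-/

set_option autoImplicit false
set_option backward.isDefEq.respectTransparency.types false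
set_option linter.style.haveILetI false
set_option linter.unusedSectionVars false
set_option synthInstance.maxHeartbeats 400000
set_option maxHeartbeats 4000000

universe u
open CategoryTheory CategoryTheory.Limits AlgebraicGeometry TopologicalSpace Opposite
open TensorProduct

namespace Groth.Agent.Helper3.PPbc

open OmegaSh Groth.Agent.Lead.DerU Groth.Agent.Lead.IdM Groth.Agent.Lead.OmU
  Groth.Agent.Lead.BCU Groth.Agent.Lead.ConMap Groth.Agent.Lead.ConChart Groth.Agent.Lead.PbI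
  Groth.Agent.Lead.ConPb

section AlgPP

variable {A B A' B' : Type u} [CommRing A] [CommRing B] [CommRing A'] [CommRing B']
  [Algebra A B] [Algebra A' B'] (θ : A →+* A') (ū : B →+* B')
  (hcomm : ū.comp (algebraMap A B) = (algebraMap A' B').comp θ)
  (hpo : IsPushout (CommRingCat.ofHom (algebraMap A B)) (CommRingCat.ofHom θ)
      (CommRingCat.ofHom ū) (CommRingCat.ofHom (algebraMap A' B')))
  (n : ℕ)
  {P₁ : Type u} [AddCommGroup P₁] [Module B P₁] (δ : B → P₁) (ψ : B ⊗[A] B →+ P₁)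
  (hψ : ∀ b b' : B, ψ (b ⊗ₜ[A] b') = b • δ b')
  (hψs : Function.Surjective ψ)
  (hψk : ψ.ker = (KaehlerDifferential.ideal A B ^ (n + 1)).toAddSubgroup)
  {P₂ : Type u} [AddCommGroup P₂] [Module B' P₂] (δ' : B' → P₂) (ψ' : B' ⊗[A'] B' →+ P₂)
  (hψ' : ∀ b b' : B', ψ' (b ⊗ₜ[A'] b') = b • δ' b')
  (hψ's : Function.Surjective ψ')
  (hψ'k : ψ'.ker = (KaehlerDifferential.ideal A' B' ^ (n + 1)).toAddSubgroup)
  {Q : Type u} [AddCommGroup Q] [Module B' Q] (l : P₁ → Q) (hl : IsBC ū l)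
  (φ : Q →ₗ[B'] P₂) (hφ : ∀ b : B, φ (l (δ b)) = δ' (ū b))

include hcomm hpo hψ hψs hψk hψ' hψ's hψ'k hl hφ in
/-- the algebra of base change for modules of principal parts. -/
theorem bijective_pp : Function.Bijective φ := by
  letI algAA' : Algebra A A' := θ.toAlgebra
  letI algBB' : Algebra B B' := ū.toAlgebra
  letI algAB' : Algebra A B' := (ū.comp (algebraMap A B)).toAlgebra
  haveI : IsScalarTower A B B' := IsScalarTower.of_algebraMap_eq' rfl
  haveI : IsScalarTower A A' B' := IsScalarTower.of_algebraMap_eq' hcomm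
  have hP : Algebra.IsPushout A A' B B' := CommRingCat.isPushout_iff_isPushout.mp hpo.flip
  have hbc : IsBaseChange A' (IsScalarTower.toAlgHom A B B').toLinearMap := hP.out
  have hcomm' : ∀ a : A, ū (algebraMap A B a) = algebraMap A' B' (θ a) :=
    fun a => congrArg (fun χ => χ a) hcomm
  letI modBQ : Module B Q := Module.compHom Q ū
  haveI : IsScalarTower B B' Q := ⟨fun a a' q => by
    change (ū a * a') • q = ū a • a' • q
    exact mul_smul _ _ _⟩
  obtain ⟨l', hl', hbl⟩ := hl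
  letI modA'Q : Module A' Q := Module.compHom Q (algebraMap A' B')
  haveI : IsScalarTower A' B' Q := ⟨fun a a' q => by
    change (a • a') • q = algebraMap A' B' a • (a' • q)
    rw [Algebra.smul_def, mul_smul]⟩
  letI modAQ : Module A Q := Module.compHom Q (algebraMap A B')
  haveI : IsScalarTower A A' Q := ⟨fun a a' q => by
    change (algebraMap A' B' (θ a * a')) • q =
      ū (algebraMap A B a) • (algebraMap A' B' a') • q
    rw [map_mul, mul_smul, hcomm']⟩
  -- the operators `δ`, `δ'`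
  have hδ : ∀ b, δ b = ψ ((1 : B) ⊗ₜ[A] b) := fun b => by rw [hψ, one_smul]
  have hδ_add : ∀ b₁ b₂, δ (b₁ + b₂) = δ b₁ + δ b₂ := fun b₁ b₂ => by
    rw [hδ, hδ, hδ, TensorProduct.tmul_add, map_add]
  have hδ_smul : ∀ (a : A) (b : B), δ (a • b) = algebraMap A B a • δ b := fun a b => by
    rw [hδ, ← TensorProduct.smul_tmul, hψ, Algebra.algebraMap_eq_smul_one]
  have hδ' : ∀ b, δ' b = ψ' ((1 : B') ⊗ₜ[A'] b) := fun b => by rw [hψ', one_smul]
  have hδ'_add : ∀ b₁ b₂, δ' (b₁ + b₂) = δ' b₁ + δ' b₂ := fun b₁ b₂ => by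
    rw [hδ', hδ', hδ', TensorProduct.tmul_add, map_add]
  have hδ'_smul : ∀ (a : A') (b : B'), δ' (a • b) = algebraMap A' B' a • δ' b := fun a b => by
    rw [hδ', ← TensorProduct.smul_tmul, hψ', Algebra.algebraMap_eq_smul_one]
  have hδ'_zero : δ' 0 = 0 := by rw [hδ', TensorProduct.tmul_zero, map_zero]
  let lam0 : B →ₗ[A] Q :=
    { toFun := fun b => l' (δ b)
      map_add' := fun b₁ b₂ => by rw [hδ_add, map_add]
      map_smul' := fun a b => by
        rw [hδ_smul, l'.map_smul]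
        rfl }
  let lam : B' →ₗ[A'] Q := hbc.lift lam0
  have hlam : ∀ b : B, lam (ū b) = l' (δ b) := fun b => hbc.lift_eq lam0 b
  let Ψ₀ : B' ⊗[A'] B' →ₗ[B'] Q := LinearMap.liftBaseChange B' lam
  have hΨ₀t : ∀ b₁ b₂ : B', Ψ₀ (b₁ ⊗ₜ[A'] b₂) = b₁ • lam b₂ := fun _ _ => rfl
  have hφlam : ∀ b' : B', φ (lam b') = δ' b' := by
    intro b'
    induction b' using hbc.inductionOn with
    | zero => rw [map_zero, map_zero, hδ'_zero]
    | tmul b =>
      change φ (lam (ū b)) = δ' (ū b)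
      rw [hlam, hl', hφ]
    | smul a' b' ih =>
      rw [lam.map_smul, hδ'_smul, ← ih]
      change φ (algebraMap A' B' a' • lam b') = _
      rw [φ.map_smul]
    | add b₁ b₂ h₁ h₂ => rw [map_add, map_add, h₁, h₂, hδ'_add]
  have hφΨ : ∀ t', φ (Ψ₀ t') = ψ' t' := by
    intro t'
    induction t' using TensorProduct.induction_on with
    | zero => rw [map_zero, map_zero, map_zero]
    | tmul b₁ b₂ => rw [hΨ₀t, φ.map_smul, hφlam, hψ']
    | add x y hx hy => rw [map_add, map_add, map_add, hx, hy]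
  -- the ring map `B ⊗[A] B → B' ⊗[A'] B'`
  let fL : B →ₐ[A] B' ⊗[A'] B' :=
    { toRingHom := (Algebra.TensorProduct.includeLeftRingHom : B' →+* B' ⊗[A'] B').comp ū
      commutes' := fun a => by
        rw [Algebra.TensorProduct.algebraMap_apply]
        rfl }
  let fR : B →ₐ[A] B' ⊗[A'] B' :=
    { toRingHom :=
        ((Algebra.TensorProduct.includeRight : B' →ₐ[A'] B' ⊗[A'] B') : B' →+* B' ⊗[A'] B').comp ū
      commutes' := fun a => by
        rw [Algebra.TensorProduct.algebraMap_apply]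
        change (1 : B') ⊗ₜ[A'] ū (algebraMap A B a) = ū (algebraMap A B a) ⊗ₜ[A'] (1 : B')
        rw [hcomm', Algebra.algebraMap_eq_smul_one, TensorProduct.smul_tmul] }
  let ω : B ⊗[A] B →ₐ[A] B' ⊗[A'] B' :=
    Algebra.TensorProduct.lift fL fR (fun _ _ => Commute.all _ _)
  have hω : ∀ b₁ b₂ : B, ω (b₁ ⊗ₜ[A] b₂) = ū b₁ ⊗ₜ[A'] ū b₂ := by
    intro b₁ b₂
    change fL b₁ * fR b₂ = _
    change (ū b₁ ⊗ₜ[A'] (1 : B')) * ((1 : B') ⊗ₜ[A'] ū b₂) = _
    rw [Algebra.TensorProduct.tmul_mul_tmul, mul_one, one_mul]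
  have hΨω : ∀ t, Ψ₀ (ω t) = l' (ψ t) := by
    intro t
    induction t using TensorProduct.induction_on with
    | zero => rw [map_zero, map_zero, map_zero, map_zero]
    | tmul b₁ b₂ =>
      rw [hω, hΨ₀t, hlam, hψ, l'.map_smul]
      rfl
    | add x y hx hy => rw [map_add, map_add, map_add, map_add, hx, hy]
  have hΨs : Function.Surjective Ψ₀ := by
    intro q
    induction q using hbl.inductionOn with
    | zero => exact ⟨0, map_zero _⟩
    | tmul p₁ =>
      obtain ⟨t, rfl⟩ := hψs p₁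
      exact ⟨ω t, hΨω t⟩
    | smul b' q ih =>
      obtain ⟨t', rfl⟩ := ih
      exact ⟨b' • t', map_smul _ _ _⟩
    | add q₁ q₂ h₁ h₂ =>
      obtain ⟨t₁, rfl⟩ := h₁
      obtain ⟨t₂, rfl⟩ := h₂
      exact ⟨t₁ + t₂, map_add _ _ _⟩
  have hspan : ∀ t' : B' ⊗[A'] B', t' ∈ Submodule.span A' (Set.range ω) := by
    have h1 : ∀ (b₁ : B) (b₂' : B'), (ū b₁) ⊗ₜ[A'] b₂' ∈ Submodule.span A' (Set.range ω) := by
      intro b₁ b₂'
      induction b₂' using hbc.inductionOn with
      | zero =>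
        rw [TensorProduct.tmul_zero]
        exact Submodule.zero_mem _
      | tmul b₂ => exact Submodule.subset_span ⟨b₁ ⊗ₜ b₂, hω b₁ b₂⟩
      | smul a' b'' ih =>
        rw [TensorProduct.tmul_smul]
        exact Submodule.smul_mem _ a' ih
      | add x y hx hy =>
        rw [TensorProduct.tmul_add]
        exact Submodule.add_mem _ hx hy
    have h2 : ∀ (b₁' b₂' : B'), b₁' ⊗ₜ[A'] b₂' ∈ Submodule.span A' (Set.range ω) := by
      intro b₁' b₂'
      induction b₁' using hbc.inductionOn with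
      | zero =>
        rw [TensorProduct.zero_tmul]
        exact Submodule.zero_mem _
      | tmul b₁ => exact h1 b₁ b₂'
      | smul a' b'' ih =>
        rw [← TensorProduct.smul_tmul']
        exact Submodule.smul_mem _ a' ih
      | add x y hx hy =>
        rw [TensorProduct.add_tmul]
        exact Submodule.add_mem _ hx hy
    intro t'
    induction t' using TensorProduct.induction_on with
    | zero => exact Submodule.zero_mem _
    | tmul x y => exact h2 x y
    | add x y hx hy => exact Submodule.add_mem _ hx hy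
  let K : Submodule A' (B' ⊗[A'] B') := Submodule.span A'
    (ω '' ((KaehlerDifferential.ideal A B ^ (n + 1) : Ideal (B ⊗[A] B)) : Set (B ⊗[A] B)))
  have hKmul : ∀ c : B' ⊗[A'] B', ∀ y ∈ K, c * y ∈ K := by
    intro c
    have hc := hspan c
    induction hc using Submodule.span_induction with
    | mem c hc =>
      obtain ⟨t, rfl⟩ := hc
      intro y hy
      induction hy using Submodule.span_induction with
      | mem y hy =>
        obtain ⟨z, hz, rfl⟩ := hy
        rw [← map_mul]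
        exact Submodule.subset_span ⟨t * z, Ideal.mul_mem_left _ t hz, rfl⟩
      | zero =>
        rw [mul_zero]
        exact Submodule.zero_mem _
      | add y₁ y₂ _ _ h₁ h₂ =>
        rw [mul_add]
        exact Submodule.add_mem _ h₁ h₂
      | smul a' y _ ih =>
        rw [mul_smul_comm]
        exact Submodule.smul_mem _ a' ih
    | zero =>
      intro y _
      rw [zero_mul]
      exact Submodule.zero_mem _
    | add c₁ c₂ _ _ h₁ h₂ =>
      intro y hy
      rw [add_mul]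
      exact Submodule.add_mem _ (h₁ y hy) (h₂ y hy)
    | smul a' c _ ih =>
      intro y hy
      rw [smul_mul_assoc]
      exact Submodule.smul_mem _ a' (ih y hy)
  let Kid : Ideal (B' ⊗[A'] B') :=
    { carrier := K
      add_mem' := fun ha hb => K.add_mem ha hb
      zero_mem' := K.zero_mem
      smul_mem' := fun c y hy => hKmul c y hy }
  have hI' : KaehlerDifferential.ideal A' B' ≤ Ideal.map ω (KaehlerDifferential.ideal A B) := by
    rw [← KaehlerDifferential.span_range_eq_ideal A' B', Ideal.span_le]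
    rintro _ ⟨b', rfl⟩
    change ((1 : B') ⊗ₜ[A'] b' - b' ⊗ₜ[A'] (1 : B')) ∈
      Ideal.map ω (KaehlerDifferential.ideal A B)
    induction b' using hbc.inductionOn with
    | zero =>
      rw [TensorProduct.tmul_zero, TensorProduct.zero_tmul, sub_zero]
      exact Ideal.zero_mem _
    | tmul b =>
      have e1 : ((1 : B') ⊗ₜ[A'] (ū b) - (ū b) ⊗ₜ[A'] (1 : B')) =
          ω ((1 : B) ⊗ₜ[A] b - b ⊗ₜ[A] (1 : B)) := by
        rw [map_sub, hω, hω, map_one]
      change ((1 : B') ⊗ₜ[A'] (ū b) - (ū b) ⊗ₜ[A'] (1 : B')) ∈ _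
      rw [e1]
      exact Ideal.mem_map_of_mem ω (KaehlerDifferential.one_smul_sub_smul_one_mem_ideal A b)
    | smul a' b'' ih =>
      have e1 : ((1 : B') ⊗ₜ[A'] (a' • b'') - (a' • b'') ⊗ₜ[A'] (1 : B')) =
          a' • ((1 : B') ⊗ₜ[A'] b'' - b'' ⊗ₜ[A'] (1 : B')) := by
        rw [smul_sub, TensorProduct.tmul_smul, ← TensorProduct.smul_tmul']
      rw [e1, Algebra.smul_def]
      exact Ideal.mul_mem_left _ _ ih
    | add x y hx hy =>
      have e1 : ((1 : B') ⊗ₜ[A'] (x + y) - (x + y) ⊗ₜ[A'] (1 : B')) =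
          ((1 : B') ⊗ₜ[A'] x - x ⊗ₜ[A'] (1 : B')) +
            ((1 : B') ⊗ₜ[A'] y - y ⊗ₜ[A'] (1 : B')) := by
        rw [TensorProduct.tmul_add, TensorProduct.add_tmul]
        abel
      rw [e1]
      exact Ideal.add_mem _ hx hy
  have hle : KaehlerDifferential.ideal A' B' ^ (n + 1) ≤ Kid := by
    refine le_trans (Ideal.pow_right_mono hI' (n + 1)) ?_
    rw [← Ideal.map_pow, Ideal.map_le_iff_le_comap]
    intro z hz
    exact Submodule.subset_span ⟨z, hz, rfl⟩
  have hΨsmul : ∀ (a' : A') (y : B' ⊗[A'] B'), Ψ₀ (a' • y) = a' • Ψ₀ y := by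
    intro a' y
    induction y using TensorProduct.induction_on with
    | zero => rw [smul_zero, map_zero, smul_zero]
    | tmul b₁ b₂ =>
      rw [TensorProduct.smul_tmul', hΨ₀t, hΨ₀t, Algebra.smul_def, mul_smul]
      rfl
    | add x y hx hy => rw [smul_add, map_add, map_add, hx, hy, smul_add]
  have hΨK : ∀ y ∈ K, Ψ₀ y = 0 := by
    intro y hy
    induction hy using Submodule.span_induction with
    | mem y hy =>
      obtain ⟨z, hz, rfl⟩ := hy
      rw [hΨω]
      have hz' : z ∈ ψ.ker := by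
        rw [hψk]
        exact hz
      rw [AddMonoidHom.mem_ker.1 hz', map_zero]
    | zero => exact map_zero _
    | add y₁ y₂ _ _ h₁ h₂ => rw [map_add, h₁, h₂, add_zero]
    | smul a' y _ ih => rw [hΨsmul, ih, smul_zero]
  constructor
  · rw [injective_iff_map_eq_zero]
    intro q hq
    obtain ⟨t', rfl⟩ := hΨs q
    rw [hφΨ] at hq
    have h1 : t' ∈ ψ'.ker := AddMonoidHom.mem_ker.2 hq
    rw [hψ'k] at h1
    exact hΨK t' (hle h1)
  · intro p₂
    obtain ⟨t', rfl⟩ := hψ's p₂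
    exact ⟨Ψ₀ t', hφΨ t'⟩

end AlgPP

section SchPP

variable {X S X' S' : Scheme.{u}} (f : X ⟶ S) (g : S' ⟶ S) (u : X' ⟶ X) (f' : X' ⟶ S')
  (hsq : IsPullback u f' f g) (n : ℕ)
  (φ : (Scheme.Modules.pullback u).obj (PrinPart.P f n) ⟶ PrinPart.P f' n)
  (hφ : PrinPart.IsPMap f f' u n φ)

include hsq in
theorem exists_chart_bc (x' : X') :
    ∃ (V : S.Opens) (V' : S'.Opens) (U : X.Opens) (U' : X'.Opens),
      IsAffineOpen V ∧ IsAffineOpen V' ∧ IsAffineOpen U ∧ IsAffineOpen U' ∧ V' ≤ g ⁻¹ᵁ V ∧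
        U ≤ f ⁻¹ᵁ V ∧ U' = u ⁻¹ᵁ U ⊓ f' ⁻¹ᵁ V' ∧ x' ∈ U' := by
  obtain ⟨_, ⟨V, hV, rfl⟩, hxV, -⟩ := S.isBasis_affineOpens.exists_subset_of_mem_open
    (Set.mem_univ (f.base (u.base x'))) isOpen_univ
  have hcomm : g.base (f'.base x') = f.base (u.base x') := by
    have := congrArg (fun χ => χ.base x') hsq.w
    exact this.symm
  have hx1 : f'.base x' ∈ ((g ⁻¹ᵁ V : S'.Opens) : Set S') := by
    change g.base (f'.base x') ∈ V
    rw [hcomm]
    exact hxV
  obtain ⟨_, ⟨V', hV', rfl⟩, hxV', hV'le⟩ :=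
    S'.isBasis_affineOpens.exists_subset_of_mem_open hx1 (g ⁻¹ᵁ V).2
  have hx2 : u.base x' ∈ ((f ⁻¹ᵁ V : X.Opens) : Set X) := hxV
  obtain ⟨_, ⟨U, hU, rfl⟩, hxU, hUle⟩ :=
    X.isBasis_affineOpens.exists_subset_of_mem_open hx2 (f ⁻¹ᵁ V).2
  have hV'V : V' ≤ g ⁻¹ᵁ V := fun y hy => hV'le hy
  have hUV : U ≤ f ⁻¹ᵁ V := fun y hy => hUle hy
  refine ⟨V, V', U, u ⁻¹ᵁ U ⊓ f' ⁻¹ᵁ V', hV, hV', hU, ?_, hV'V, hUV, rfl, ?_⟩
  · exact Groth.Agent.Helper3.ConSec.isAffineOpen_of_isPullback hsq hV'V hUV rfl hV hV' hU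
  · exact (Groth.Agent.Helper3.ConSec.mem_inf_iff _ _ _).2 ⟨hxU, hxV'⟩

include hsq hφ in
theorem φ_bijective_chart_pp {V : S.Opens} {V' : S'.Opens} {U : X.Opens} {U' : X'.Opens}
    (hV : IsAffineOpen V) (hV' : IsAffineOpen V') (hU : IsAffineOpen U) (hU' : IsAffineOpen U')
    (hV'V : V' ≤ g ⁻¹ᵁ V) (hUV : U ≤ f ⁻¹ᵁ V) (hU'eq : U' = u ⁻¹ᵁ U ⊓ f' ⁻¹ᵁ V') :
    Function.Bijective (φ.app U') := by
  have e : U' ≤ u ⁻¹ᵁ U := by
    rw [hU'eq]
    exact inf_le_left
  have hU'V' : U' ≤ f' ⁻¹ᵁ V' := by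
    rw [hU'eq]
    exact inf_le_right
  haveI : (Coh.structureModule X).IsQuasicoherent := inferInstance
  haveI : (PrinPart.P f n).IsQuasicoherent :=
    Groth.Agent.Lead.PP.isQCoh_PMod f n _ inferInstance
  letI algAB := (f.appLE V U hUV).hom.toAlgebra
  letI algA'B' := (f'.appLE V' U' hU'V').hom.toAlgebra
  obtain ⟨ψ, hψ⟩ := Groth.Agent.Lead.PP7.exists_ψ f n hU hV hUV
  obtain ⟨hψs, hψk⟩ := Groth.Agent.Lead.PP7.chart f n hU hV hUV ψ hψ
  obtain ⟨ψ', hψ'⟩ := Groth.Agent.Lead.PP7.exists_ψ f' n hU' hV' hU'V'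
  obtain ⟨hψ's, hψ'k⟩ := Groth.Agent.Lead.PP7.chart f' n hU' hV' hU'V' ψ' hψ'
  have hbc := isBC_unitRes u (PrinPart.P f n) hU hU' e
  have hiso := isIso_pushoutSection_of_isAffineOpen hsq hV'V hUV hU'eq hV hV' hU
  have hpo := (isIso_pushoutSection_iff hsq hV'V hUV hU'eq).1 hiso
  have hcomm : (u.appLE U U' e).hom.comp (f.appLE V U hUV).hom =
      (f'.appLE V' U' hU'V').hom.comp (g.appLE V V' hV'V).hom := by
    rw [← CommRingCat.hom_comp, ← CommRingCat.hom_comp, Scheme.Hom.appLE_comp_appLE,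
      Scheme.Hom.appLE_comp_appLE]
    exact congrArg CommRingCat.Hom.hom
      (Groth.Agent.Helper3.ConSec.appLE_congr' _ _ hsq.w _ _ _ _)
  let φlin : Γ((Scheme.Modules.pullback u).obj (PrinPart.P f n), U') →ₗ[Γ(X', U')]
      Γ(PrinPart.P f' n, U') :=
    { toFun := fun t => φ.app U' t
      map_add' := fun x y => map_add _ x y
      map_smul' := fun r x => by
        rw [Scheme.Modules.Hom.app_smul]
        rfl }
  have hφ' : ∀ b : Γ(X, U), φlin (unitRes u (PrinPart.P f n) e (PrinPart.dn f n U b)) =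
      PrinPart.dn f' n U' ((u.appLE U U' e).hom b) := by
    intro b
    change φ.app U' (res ((Scheme.Modules.pullback u).obj (PrinPart.P f n)) e
      (pullSect u (PrinPart.P f n) U (PrinPart.dn f n U b))) = _
    rw [app_res, hφ U b]
    have h1 := PrinPart.dP_map f' n (Coh.structureModule X') e
      (strSect X' (u ⁻¹ᵁ U) (u.app U b))
    exact h1.symm
  exact bijective_pp (g.appLE V V' hV'V).hom (u.appLE U U' e).hom hcomm hpo n
    (PrinPart.dn f n U) ψ hψ hψs hψk (PrinPart.dn f' n U') ψ' hψ' hψ's hψ'k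
    (unitRes u (PrinPart.P f n) e) hbc φlin hφ'

include hsq hφ in
/-- **Base change of the sheaves of principal parts.** -/
theorem isIso_pMap_baseChange : IsIso φ := by
  haveI : (Coh.structureModule X).IsQuasicoherent := inferInstance
  haveI : (PrinPart.P f n).IsQuasicoherent :=
    Groth.Agent.Lead.PP.isQCoh_PMod f n _ inferInstance
  haveI : ((Scheme.Modules.pullback u).obj (PrinPart.P f n)).IsQuasicoherent :=
    Groth.Agent.Lead.PB.isQuasicoherent_pullback _ _
  haveI : (Coh.structureModule X').IsQuasicoherent := inferInstance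
  haveI : (PrinPart.P f' n).IsQuasicoherent :=
    Groth.Agent.Lead.PP.isQCoh_PMod f' n _ inferInstance
  apply Groth.Agent.Lead.QcIso.isIso_of_bijective_affine
  intro x'
  obtain ⟨V, V', U, U', hV, hV', hU, hU', hV'V, hUV, hU'eq, hx'⟩ :=
    exists_chart_bc f g u f' hsq x'
  exact ⟨U', hU', hx', φ_bijective_chart_pp f g u f' hsq n φ hφ hV hV' hU hU' hV'V hUV hU'eq⟩

end SchPP

end Groth.Agent.Helper3.PPbc
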