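import Mathlib
import Groth.Agent.Lib.Helper3.IResDual
/-!
# Factorization of maps of bounded above complexes through `P`-resolutions
-/
set_option autoImplicit false
universe v u
open CategoryTheory CategoryTheory.Limits

namespace Groth.Agent.Helper3.PTower1

variable {A : Type u} [Category.{v} A] [Abelian A]

section Split

/-- composite of two split short complexes -/
noncomputable def splittingComp {X Y Z Wa Wb : A} (a : X ⟶ Y) (ga : Y ⟶ Wa) (wa : a ≫ ga = 0)
    (b : Y ⟶ Z) (gb : Z ⟶ Wb) (wb : b ≫ gb = 0)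
    (σa : (ShortComplex.mk a ga wa).Splitting) (σb : (ShortComplex.mk b gb wb).Splitting)
    (w : (a ≫ b) ≫ biprod.lift (σb.r ≫ ga) gb = 0) :
    (ShortComplex.mk (a ≫ b) (biprod.lift (σb.r ≫ ga) gb) w).Splitting where
  r := σb.r ≫ σa.r
  s := biprod.desc (σa.s ≫ b) σb.s
  f_r := by
    have h1 : b ≫ σb.r = 𝟙 _ := σb.f_r
    have h2 : a ≫ σa.r = 𝟙 _ := σa.f_r
    change (a ≫ b) ≫ σb.r ≫ σa.r = 𝟙 _
    rw [Category.assoc, reassoc_of% h1, h2]
  s_g := by
    have h1 : b ≫ σb.r = 𝟙 _ := σb.f_r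
    have h2 : σa.s ≫ ga = 𝟙 _ := σa.s_g
    have h3 : σb.s ≫ gb = 𝟙 _ := σb.s_g
    have h4 : σb.s ≫ σb.r = 0 := σb.s_r
    change biprod.desc (σa.s ≫ b) σb.s ≫ biprod.lift (σb.r ≫ ga) gb = 𝟙 _
    apply biprod.hom_ext'
    · apply biprod.hom_ext
      · simp [reassoc_of% h1, h2]
      · simp [wb]
    · apply biprod.hom_ext
      · simp [reassoc_of% h4]
      · simp [h3]
  id := by
    have h5 : σa.r ≫ a + ga ≫ σa.s = 𝟙 _ := σa.id
    have h6 : σb.r ≫ b + gb ≫ σb.s = 𝟙 _ := σb.id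
    change (σb.r ≫ σa.r) ≫ (a ≫ b) + biprod.lift (σb.r ≫ ga) gb ≫ biprod.desc (σa.s ≫ b) σb.s = 𝟙 _
    rw [biprod.lift_desc]
    calc (σb.r ≫ σa.r) ≫ a ≫ b + ((σb.r ≫ ga) ≫ σa.s ≫ b + gb ≫ σb.s)
        = σb.r ≫ (σa.r ≫ a + ga ≫ σa.s) ≫ b + gb ≫ σb.s := by
          simp only [Preadditive.add_comp, Preadditive.comp_add, Category.assoc, add_assoc]
      _ = 𝟙 _ := by rw [h5, Category.id_comp, h6]

variable (P : ObjectProperty A) [P.IsClosedUnderIsomorphisms]

lemma prop_cokernel_of_splitting (S : ShortComplex A) (σ : S.Splitting) (h : P S.X₃) :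
    P (cokernel S.f) :=
  P.prop_of_iso ((colimit.isColimit _).coconePointUniqueUpToIso σ.gIsCokernel).symm h

lemma prop_of_splitting (hPsum : ∀ X Y : A, P X → P Y → P (X ⊞ Y))
    (S : ShortComplex A) (σ : S.Splitting) (h1 : P S.X₁) (h3 : P S.X₃) : P S.X₂ :=
  P.prop_of_iso σ.isoBinaryBiproduct.symm (hPsum _ _ h1 h3)

end Split


section Cone

open CochainComplex HomComplex

/-- the degreewise splitting of the mapping cone -/
noncomputable def coneSplitting {F G : CochainComplex A ℤ} (φ : F ⟶ G) (i : ℤ) :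
    (ShortComplex.mk ((mappingCone.inr φ).f i) ((mappingCone.fst φ).1.v i (i + 1) rfl)
      (mappingCone.inr_f_fst_v φ i (i + 1) rfl)).Splitting where
  r := (mappingCone.snd φ).v i i (add_zero i)
  s := (mappingCone.inl φ).v (i + 1) i (by omega)
  f_r := mappingCone.inr_f_snd_v φ i
  s_g := mappingCone.inl_v_fst_v φ (i + 1) i rfl
  id := by
    have h := mappingCone.id_X φ i (i + 1) rfl
    dsimp only
    rw [add_comm]
    exact h

/-- the degreewise splitting of a biproduct of complexes -/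
noncomputable def biprodSplitting (Q S : CochainComplex A ℤ) (i : ℤ) :
    (ShortComplex.mk ((biprod.inl : Q ⟶ Q ⊞ S).f i) ((biprod.snd : Q ⊞ S ⟶ S).f i)
      (by rw [← HomologicalComplex.comp_f, biprod.inl_snd, HomologicalComplex.zero_f])).Splitting where
  r := (biprod.fst : Q ⊞ S ⟶ Q).f i
  s := (biprod.inr : S ⟶ Q ⊞ S).f i
  f_r := by
    dsimp only
    rw [← HomologicalComplex.comp_f, biprod.inl_fst, HomologicalComplex.id_f]
  s_g := by
    dsimp only
    rw [← HomologicalComplex.comp_f, biprod.inr_snd, HomologicalComplex.id_f]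
  id := by
    dsimp only
    have h := HomologicalComplex.congr_hom (biprod.total (X := Q) (Y := S)) i
    rw [HomologicalComplex.add_f_apply, HomologicalComplex.comp_f, HomologicalComplex.comp_f,
      HomologicalComplex.id_f] at h
    exact h

/-- the induced map on mapping cones is a quasi-isomorphism when both components are -/
lemma quasiIso_map {K₁ L₁ K₂ L₂ : CochainComplex A ℤ} (φ₁ : K₁ ⟶ L₁) (φ₂ : K₂ ⟶ L₂)
    (a : K₁ ⟶ K₂) (b : L₁ ⟶ L₂) (comm : φ₁ ≫ b = a ≫ φ₂) [QuasiIso a] [QuasiIso b] :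
    QuasiIso (mappingCone.map φ₁ φ₂ a b comm) := by
  letI : HasDerivedCategory A := HasDerivedCategory.standard A
  rw [← DerivedCategory.isIso_Q_map_iff_quasiIso]
  have h1 : IsIso (DerivedCategory.Q.map a) := by
    rw [DerivedCategory.isIso_Q_map_iff_quasiIso]; infer_instance
  have h2 : IsIso (DerivedCategory.Q.map b) := by
    rw [DerivedCategory.isIso_Q_map_iff_quasiIso]; infer_instance
  exact Pretriangulated.isIso₃_of_isIso₁₂
    (DerivedCategory.Q.mapTriangle.map (mappingCone.triangleMap φ₁ φ₂ a b comm))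
    (DerivedCategory.mappingCone_triangle_distinguished φ₁)
    (DerivedCategory.mappingCone_triangle_distinguished φ₂) h1 h2

end Cone


section Main

open CochainComplex HomComplex

variable (P : ObjectProperty A) [P.IsClosedUnderIsomorphisms]

lemma isStrictlyLE_biprod (Q S : CochainComplex A ℤ) (b : ℤ) [Q.IsStrictlyLE b] [S.IsStrictlyLE b] :
    (Q ⊞ S).IsStrictlyLE b := by
  rw [CochainComplex.isStrictlyLE_iff]
  intro i hi
  rw [IsZero.iff_id_eq_zero]
  have h : (biprod.fst : Q ⊞ S ⟶ Q).f i ≫ (biprod.inl : Q ⟶ Q ⊞ S).f i +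
      (biprod.snd : Q ⊞ S ⟶ S).f i ≫ (biprod.inr : S ⟶ Q ⊞ S).f i = 𝟙 _ := (biprodSplitting Q S i).id
  rw [← h, (CochainComplex.isZero_of_isStrictlyLE Q b i hi).eq_of_tgt
      ((biprod.fst : Q ⊞ S ⟶ Q).f i) 0,
    (CochainComplex.isZero_of_isStrictlyLE S b i hi).eq_of_tgt
      ((biprod.snd : Q ⊞ S ⟶ S).f i) 0, zero_comp, zero_comp, add_zero]

lemma isStrictlyLE_kernel {X Y : CochainComplex A ℤ} (f : X ⟶ Y) (b : ℤ) [X.IsStrictlyLE b] :
    (kernel f).IsStrictlyLE b := by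
  rw [CochainComplex.isStrictlyLE_iff]
  intro i hi
  rw [IsZero.iff_id_eq_zero, ← cancel_mono ((kernel.ι f).f i)]
  exact (CochainComplex.isZero_of_isStrictlyLE X b i hi).eq_of_tgt _ _

lemma isStrictlyLE_mappingCone {F G : CochainComplex A ℤ} (φ : F ⟶ G) (b : ℤ)
    [F.IsStrictlyLE b] [G.IsStrictlyLE b] : (mappingCone φ).IsStrictlyLE b := by
  rw [CochainComplex.isStrictlyLE_iff]
  intro i hi
  rw [mappingCone.isZero_X_iff]
  exact ⟨CochainComplex.isZero_of_isStrictlyLE F b (i + 1) (by omega),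
    CochainComplex.isZero_of_isStrictlyLE G b i hi⟩

/-- **Factorization**: a map of bounded above complexes, with source having terms in `P`,
factors as a termwise split monomorphism with cokernels in `P` followed by a termwise
surjective quasi-isomorphism from a bounded above complex with terms in `P`. -/
theorem exists_factorization
    (hP0 : ∃ Z : A, IsZero Z ∧ P Z) (hPsum : ∀ X Y : A, P X → P Y → P (X ⊞ Y))
    (hP : ∀ X : A, ∃ (Y : A) (π : Y ⟶ X), P Y ∧ Epi π)
    {Q T : CochainComplex A ℤ} (f : Q ⟶ T) (b : ℤ) [Q.IsStrictlyLE b] [T.IsStrictlyLE b]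
    (hQ : ∀ i, P (Q.X i)) :
    ∃ (E : CochainComplex A ℤ) (ι : Q ⟶ E) (π : E ⟶ T),
      ι ≫ π = f ∧ QuasiIso π ∧ (∀ i, Epi (π.f i)) ∧ E.IsStrictlyLE b ∧ (∀ i, P (E.X i)) ∧
      ∀ i, (∃ r : E.X i ⟶ Q.X i, ι.f i ≫ r = 𝟙 _) ∧ P (cokernel (ι.f i)) := by
  obtain ⟨S, σ, hSb, hSP, hσe, hσq⟩ := IResDual.exists_left_resolution_int P hP0 hP T b
  haveI := hSb
  haveI : (Q ⊞ S).IsStrictlyLE b := isStrictlyLE_biprod Q S b
  let f₁ : Q ⊞ S ⟶ T := biprod.desc f σ
  have hf₁e : ∀ i, Epi (f₁.f i) := by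
    intro i
    haveI := hσe i
    have h : (biprod.inr : S ⟶ Q ⊞ S).f i ≫ f₁.f i = σ.f i := by
      rw [← HomologicalComplex.comp_f, biprod.inr_desc]
    exact epi_of_epi_fac h
  haveI : Epi f₁ := HomologicalComplex.epi_of_epi_f _ hf₁e
  haveI : (kernel f₁).IsStrictlyLE b := isStrictlyLE_kernel f₁ b
  obtain ⟨R, ρ, hRb, hRP, hρe, hρq⟩ := IResDual.exists_left_resolution_int P hP0 hP (kernel f₁) b
  haveI := hRb
  haveI := hρq
  let φ : R ⟶ Q ⊞ S := ρ ≫ kernel.ι f₁
  have hφ : φ ≫ f₁ = 0 := by rw [Category.assoc, kernel.condition, comp_zero]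
  let S₁ : ShortComplex (CochainComplex A ℤ) := ShortComplex.mk φ f₁ hφ
  let S₂ : ShortComplex (CochainComplex A ℤ) := ShortComplex.mk (kernel.ι f₁) f₁ (kernel.condition f₁)
  have hS₂ : S₂.ShortExact := { exact := ShortComplex.exact_kernel f₁ }
  let τ : S₁ ⟶ S₂ :=
    { τ₁ := ρ
      τ₂ := 𝟙 _
      τ₃ := 𝟙 _
      comm₁₂ := by simp [S₁, S₂, φ]
      comm₂₃ := by simp [S₁, S₂] }
  let π : mappingCone φ ⟶ T := mappingCone.descShortComplex S₁
  have hπ : mappingCone.map S₁.f S₂.f τ.τ₁ τ.τ₂ τ.comm₁₂.symm ≫ mappingCone.descShortComplex S₂ = π := by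
    rw [mappingCone.map_descShortComplex]
    exact Category.comp_id _
  have hπq : QuasiIso π := by
    rw [← hπ]
    haveI : QuasiIso τ.τ₁ := hρq
    haveI : QuasiIso τ.τ₂ := by dsimp [τ]; infer_instance
    haveI := quasiIso_map S₁.f S₂.f τ.τ₁ τ.τ₂ τ.comm₁₂.symm
    haveI := mappingCone.quasiIso_descShortComplex hS₂
    infer_instance
  have hinr : mappingCone.inr φ ≫ π = f₁ := mappingCone.inr_descShortComplex S₁
  haveI : (mappingCone φ).IsStrictlyLE b := isStrictlyLE_mappingCone φ b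
  have hQS : ∀ i, P ((Q ⊞ S).X i) := fun i =>
    prop_of_splitting P hPsum _ (biprodSplitting Q S i) (hQ i) (hSP i)
  refine ⟨mappingCone φ, biprod.inl ≫ mappingCone.inr φ, π, ?_, hπq, ?_, inferInstance, ?_, ?_⟩
  · rw [Category.assoc, hinr, biprod.inl_desc]
  · intro i
    haveI := hf₁e i
    have h : (mappingCone.inr φ).f i ≫ π.f i = f₁.f i := by
      rw [← HomologicalComplex.comp_f, hinr]
    exact epi_of_epi_fac h
  · intro i
    exact prop_of_splitting P hPsum _ (coneSplitting φ i) (hQS i) (hRP (i + 1))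
  · intro i
    have w : ((biprod.inl : Q ⟶ Q ⊞ S).f i ≫ (mappingCone.inr φ).f i) ≫
        biprod.lift ((coneSplitting φ i).r ≫ (biprod.snd : Q ⊞ S ⟶ S).f i)
          ((mappingCone.fst φ).1.v i (i + 1) rfl) = 0 := by
      have h1 : (mappingCone.inr φ).f i ≫ (coneSplitting φ i).r = 𝟙 _ := (coneSplitting φ i).f_r
      have h2 : (biprod.inl : Q ⟶ Q ⊞ S).f i ≫ (biprod.snd : Q ⊞ S ⟶ S).f i = 0 := by
        rw [← HomologicalComplex.comp_f, biprod.inl_snd, HomologicalComplex.zero_f]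
      apply biprod.hom_ext
      · simp only [Category.assoc, biprod.lift_fst, zero_comp]
        rw [reassoc_of% h1, h2]
      · simp only [Category.assoc, biprod.lift_snd, zero_comp]
        rw [mappingCone.inr_f_fst_v, comp_zero]
    let σc := splittingComp _ _ _ _ _ _ (biprodSplitting Q S i) (coneSplitting φ i) w
    refine ⟨⟨σc.r, ?_⟩, ?_⟩
    · rw [HomologicalComplex.comp_f]
      exact σc.f_r
    · have h := prop_cokernel_of_splitting P _ σc (hPsum _ _ (hSP i) (hRP (i + 1)))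
      rw [HomologicalComplex.comp_f]
      exact h

end Main

end Groth.Agent.Helper3.PTower1
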