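import Mathlib
import Groth.Agent.Lib.Helper3.PTower1
/-!
# Towers of bounded above `P`-resolutions of the truncations of a complex
-/
set_option autoImplicit false
universe v u
open CategoryTheory CategoryTheory.Limits

namespace Groth.Agent.Helper3.PTower2

open Groth.Agent.Helper3.PTower1

variable {A : Type u} [Category.{v} A] [Abelian A]

section Trunc

variable (K : CochainComplex A ℤ)

/-- the transition maps of the canonical truncations -/
noncomputable def gmap {m m' : ℤ} (h : m ≤ m') : K.truncLE m ⟶ K.truncLE m' :=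
  haveI : (K.truncLE m).IsStrictlyLE m' := CochainComplex.isStrictlyLE_of_le _ m m' h
  inv ((K.truncLE m).ιTruncLE m') ≫ CochainComplex.truncLEMap (K.ιTruncLE m) m'

@[reassoc]
lemma gmap_ι {m m' : ℤ} (h : m ≤ m') : gmap K h ≫ K.ιTruncLE m' = K.ιTruncLE m := by
  haveI : (K.truncLE m).IsStrictlyLE m' := CochainComplex.isStrictlyLE_of_le _ m m' h
  unfold gmap
  rw [Category.assoc, CochainComplex.ιTruncLE_naturality, IsIso.inv_hom_id_assoc]

end Trunc

section Tower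

variable (P : ObjectProperty A) [P.IsClosedUnderIsomorphisms]
  (hP0 : ∃ Z : A, IsZero Z ∧ P Z) (hPsum : ∀ X Y : A, P X → P Y → P (X ⊞ Y))
  (hP : ∀ X : A, ∃ (Y : A) (π : Y ⟶ X), P Y ∧ Epi π)
  (K : CochainComplex A ℤ) (a : ℕ → ℤ) (ha : ∀ n, a n ≤ a (n + 1))

/-- a stage of the tower -/
structure Stage (n : ℕ) where
  /-- the complex -/
  Q : CochainComplex A ℤ
  /-- the resolution map -/
  π : Q ⟶ K.truncLE (a n)
  /-- a bound -/
  b : ℤ
  hb : Q.IsStrictlyLE b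
  hq : QuasiIso π
  he : ∀ i, Epi (π.f i)
  hP : ∀ i, P (Q.X i)

include hP0 hP in
lemma exists_stage_zero : Nonempty (Stage P K a 0) := by
  obtain ⟨Q, π, hb, hQP, he, hq⟩ := IResDual.exists_left_resolution_int P hP0 hP (K.truncLE (a 0)) (a 0)
  exact ⟨⟨Q, π, a 0, hb, hq, he, hQP⟩⟩

include hP0 hPsum hP ha in
lemma exists_next {n : ℕ} (s : Stage P K a n) :
    ∃ (t : Stage P K a (n + 1)) (ι : s.Q ⟶ t.Q), ι ≫ t.π = s.π ≫ gmap K (ha n) ∧
      ∀ i, (∃ r : t.Q.X i ⟶ s.Q.X i, ι.f i ≫ r = 𝟙 _) ∧ P (cokernel (ι.f i)) := by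
  let b' : ℤ := max s.b (a (n + 1))
  haveI := s.hb
  haveI : s.Q.IsStrictlyLE b' := CochainComplex.isStrictlyLE_of_le _ s.b b' (le_max_left _ _)
  haveI : (K.truncLE (a (n + 1))).IsStrictlyLE b' :=
    CochainComplex.isStrictlyLE_of_le _ (a (n + 1)) b' (le_max_right _ _)
  obtain ⟨E, ι, π, h1, h2, h3, h4, h5, h6⟩ :=
    exists_factorization P hP0 hPsum hP (s.π ≫ gmap K (ha n)) b' s.hP
  exact ⟨⟨E, π, b', h4, h2, h3, h5⟩, ι, h1, h6⟩

/-- the next stage -/
noncomputable def next {n : ℕ} (s : Stage P K a n) : Stage P K a (n + 1) :=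
  (exists_next P hP0 hPsum hP K a ha s).choose

/-- the transition map -/
noncomputable def ιn {n : ℕ} (s : Stage P K a n) : s.Q ⟶ (next P hP0 hPsum hP K a ha s).Q :=
  (exists_next P hP0 hPsum hP K a ha s).choose_spec.choose

lemma ιn_π {n : ℕ} (s : Stage P K a n) :
    ιn P hP0 hPsum hP K a ha s ≫ (next P hP0 hPsum hP K a ha s).π = s.π ≫ gmap K (ha n) :=
  (exists_next P hP0 hPsum hP K a ha s).choose_spec.choose_spec.1

lemma ιn_split {n : ℕ} (s : Stage P K a n) (i : ℤ) :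
    (∃ r : (next P hP0 hPsum hP K a ha s).Q.X i ⟶ s.Q.X i,
      (ιn P hP0 hPsum hP K a ha s).f i ≫ r = 𝟙 _) ∧
      P (cokernel ((ιn P hP0 hPsum hP K a ha s).f i)) :=
  (exists_next P hP0 hPsum hP K a ha s).choose_spec.choose_spec.2 i

/-- the stages -/
noncomputable def stage : ∀ n : ℕ, Stage P K a n
  | 0 => (exists_stage_zero P hP0 hP K a).some
  | n + 1 => next P hP0 hPsum hP K a ha (stage n)

include hP0 hPsum hP ha in
/-- **The tower of resolutions** -/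
theorem exists_tower :
    ∃ (Q : ℕ → CochainComplex A ℤ) (ι : ∀ n, Q n ⟶ Q (n + 1)) (π : ∀ n : ℕ, Q n ⟶ K.truncLE (a n)),
      (∀ n, QuasiIso (π n) ∧ ∀ i, Epi ((π n).f i)) ∧
      (∀ n, ∃ b : ℤ, (Q n).IsStrictlyLE b) ∧ (∀ n i, P ((Q n).X i)) ∧
      (∀ n i, (∃ r : (Q (n + 1)).X i ⟶ (Q n).X i, (ι n).f i ≫ r = 𝟙 _) ∧ P (cokernel ((ι n).f i))) ∧
      (∀ n : ℕ, π n ≫ K.ιTruncLE (a n) = ι n ≫ π (n + 1) ≫ K.ιTruncLE (a (n + 1))) := by
  refine ⟨fun n => (stage P hP0 hPsum hP K a ha n).Q,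
    fun n => ιn P hP0 hPsum hP K a ha (stage P hP0 hPsum hP K a ha n),
    fun n => (stage P hP0 hPsum hP K a ha n).π, ?_, ?_, ?_, ?_, ?_⟩
  · intro n
    exact ⟨(stage P hP0 hPsum hP K a ha n).hq, (stage P hP0 hPsum hP K a ha n).he⟩
  · intro n
    exact ⟨_, (stage P hP0 hPsum hP K a ha n).hb⟩
  · intro n i
    exact (stage P hP0 hPsum hP K a ha n).hP i
  · intro n i
    exact ιn_split P hP0 hPsum hP K a ha (stage P hP0 hPsum hP K a ha n) i
  · intro n
    have h := ιn_π P hP0 hPsum hP K a ha (stage P hP0 hPsum hP K a ha n)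
    change _ = ιn P hP0 hPsum hP K a ha (stage P hP0 hPsum hP K a ha n) ≫
      (next P hP0 hPsum hP K a ha (stage P hP0 hPsum hP K a ha n)).π ≫ K.ιTruncLE (a (n + 1))
    rw [reassoc_of% h, gmap_ι]

end Tower

end Groth.Agent.Helper3.PTower2
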