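import Groth.Agent.Lib.Helper3.ModLimW5
import Groth.Agent.Lib.Helper3.EvC3
import Groth.Agent.Lib.Helper3.KInjProd
import Groth.Agent.Lib.Helper3.ModGroth
import Groth.Prelude.Def_WeakSerre

/-!
# Maps out of `j_{U!}O_U[0]` into an object of `D_A(O)` and into its truncations
-/

set_option autoImplicit false
universe w u

open CategoryTheory Limits Opposite Pretriangulated

namespace Groth.Agent.Helper3.RTr

open Groth.Agent.Helper3.ModLim Groth.Agent.Helper3.TrLim

variable {C : Type u} [SmallCategory C] {J : GrothendieckTopology C}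
  (O : Sheaf J CommRingCat.{u}) [HasDerivedCategory.{w} (ModSite.Mod O)]

/-- countable products in `D(O)` -/
theorem hasProductsOfShape_nat : HasProductsOfShape ℕ (DerivedCategory (ModSite.Mod O)) := by
  haveI := Groth.Agent.Helper3.ModGroth.isGrothendieckAbelian J (ModSite.ringSh O)
  haveI : HasProductsOfShape (ULift.{u} ℕ) (DerivedCategory (ModSite.Mod O)) :=
    Groth.Agent.Helper3.KInjProd.hasProductsOfShape (A := ModSite.Mod O) (ULift.{u} ℕ)
  exact hasLimitsOfShape_of_equivalence (Discrete.equivalence Equiv.ulift)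

variable (A : ObjectProperty (ModSite.Mod O))

/-- an object of `D_A(O)` is the derived limit of its truncations -/
theorem isRlimVia_truncTower (X : DerivedCategory (ModSite.Mod O)) (hX : WSerre.cohIn A X)
    [HasProduct (CohCx.truncTower X)] (B : Set C)
    (hB : ∀ U : C, ∃ (ι : Type u) (Y : ι → C) (g : ∀ i, Y i ⟶ U),
      Sieve.ofArrows Y g ∈ J U ∧ ∀ i, Y i ∈ B)
    (hA : ∀ V ∈ B, ∃ d : ℕ, ∀ T ∈ J V, ∃ (ι : Type u) (Y : ι → C) (g : ∀ i, Y i ⟶ V),
      (∀ i, T.arrows (g i)) ∧ Sieve.ofArrows Y g ∈ J V ∧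
      ∀ (i : ι) (F : ModSite.Mod O), A F → ∀ k : ℕ, d < k →
        Subsingleton (ModSite.HU O F k (Y i))) :
    CohCx.IsRlimVia (CohCx.truncTower X) (CohCx.truncTowerMap X) X (CohCx.toTruncTower X) := by
  haveI := Groth.Agent.Helper3.ModGroth.isGrothendieckAbelian J (ModSite.ringSh O)
  refine ModLimW.main O X B hB ?_
  intro V hV
  obtain ⟨d, hd⟩ := hA V hV
  refine ⟨fun _ => (d : ℤ), fun T hT => ?_⟩
  obtain ⟨ι, Y, g, hg, hcov, hvan⟩ := hd T hT
  exact ⟨ι, Y, g, hg, hcov, fun i m k hk => hvan i _ (hX _) k (by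
    have hk' : (d : ℤ) < k := hk
    exact_mod_cast hk')⟩

/-- maps out of `j_{U!}O_U[0]` into `X⟦j⟧` and `(τ_{≥ -m}X)⟦j⟧` agree for `m` large, when `U` has
finite cohomological dimension on `A` -/
theorem bijective_toTruncTower (X : DerivedCategory (ModSite.Mod O)) (hX : WSerre.cohIn A X)
    [HasProduct (CohCx.truncTower X)]
    (hL : CohCx.IsRlimVia (CohCx.truncTower X) (CohCx.truncTowerMap X) X (CohCx.toTruncTower X))
    (U : C) (d : ℕ)
    (hU : ∀ F : ModSite.Mod O, A F → ∀ k : ℕ, d < k → Subsingleton (ModSite.HU O F k U))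
    (j : ℤ) (m : ℕ) (hm : (d : ℤ) - j + 1 ≤ m) :
    Function.Bijective (Preadditive.rightComp ((ModLimW.sg O).obj (ModSite.freeOn O U))
      ((CohCx.toTruncTower X m)⟦j⟧') :
        ((ModLimW.sg O).obj (ModSite.freeOn O U) ⟶ X⟦j⟧) →
          ((ModLimW.sg O).obj (ModSite.freeOn O U) ⟶ (CohCx.truncTower X m)⟦j⟧)) := by
  haveI := Groth.Agent.Helper3.ModGroth.isGrothendieckAbelian J (ModSite.ringSh O)
  have hv : ∀ (q : ℤ) (k : ℕ), (fun _ : ℤ => (d : ℤ)) q < k →
      Subsingleton (ModSite.HU O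
        ((DerivedCategory.homologyFunctor (ModSite.Mod O) (q - k)).obj X) k U) :=
    fun q k hk => hU _ (hX _) k (by
      have hk' : (d : ℤ) < k := hk
      exact_mod_cast hk')
  have hthr : ∀ q : ℤ, (d : ℤ) - q ≤ m → thr (fun _ : ℤ => (d : ℤ)) q ≤ m := by
    intro q hq
    unfold thr
    rw [Int.toNat_le]
    simp only [max_self]
    apply max_le
    · exact hq
    · have : (0 : ℤ) ≤ d := Int.natCast_nonneg d
      omega
  refine EvC.bijective_of_eventually_bijective hL _ j m ?_ ?_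
  · intro n hn
    exact ModLimW.bijective_step O X U _ hv j n ((hthr j (by omega)).trans hn)
  · intro n hn
    exact (ModLimW.bijective_step O X U _ hv (j - 1) n ((hthr (j - 1) (by omega)).trans hn)).2

end Groth.Agent.Helper3.RTr
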