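import Groth.Agent.Lib.Helper3.RTr5
import Groth.Agent.Lib.Helper3.RTr1
import Groth.Agent.Lib.Helper3.EvC4

/-!
# `Hʲ(Rf_* X) → Hʲ(Rf_* τ_{≥ -n} X)` is an isomorphism for `j ≥ N - n`
-/

set_option autoImplicit false
universe w w' u

open CategoryTheory Limits Opposite DerivedCategory

namespace Groth.Agent.Helper3.RTr

open Groth.Agent.Helper3.ModLim Groth.Agent.Helper3.TotRD

section Free

variable {C : Type u} [SmallCategory C] {J : GrothendieckTopology C}
  {O : Sheaf J CommRingCat.{u}}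

lemma mono_of_injective_sections {M N : ModSite.Mod O} (φ : M ⟶ N)
    (h : ∀ U : C, Function.Injective (φ.val.app (op U))) : Mono φ := by
  haveI : (tAb O).Faithful := by dsimp only [tAb]; infer_instance
  apply (tAb O).mono_of_mono_map
  haveI : Mono ((tAb O).map φ).hom := by
    apply (config := { allowSynthFailures := true }) NatTrans.mono_of_mono_app
    intro U
    rw [AddCommGrpCat.mono_iff_injective]
    exact h U.unop
  exact Sheaf.Hom.mono_of_presheaf_mono _ _ _

lemma mono_of_free {M N : ModSite.Mod O} (φ : M ⟶ N)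
    (h : ∀ (U : C) (b : ModSite.freeOn O U ⟶ M), b ≫ φ = 0 → b = 0) : Mono φ := by
  refine mono_of_injective_sections φ (fun U => ?_)
  intro x y hxy
  have h0 : φ.val.app (op U) (x - y) = 0 := by
    rw [map_sub, hxy, sub_self]
  have h1 : (sec O U M).symm (x - y) ≫ φ = 0 := by
    apply (sec O U N).injective
    rw [sec_comp, sec_zero, Equiv.apply_symm_apply]
    exact h0
  have h2 := h U _ h1
  have h3 : x - y = 0 := by
    have := congrArg (sec O U M) h2
    rwa [Equiv.apply_symm_apply, sec_zero] at this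
  exact sub_eq_zero.1 h3

lemma epi_of_free_local {M N : ModSite.Mod O} (φ : M ⟶ N)
    (h : ∀ (U : C) (b' : ModSite.freeOn O U ⟶ N), ∃ S ∈ J U, ∀ ⦃W : C⦄ (g : W ⟶ U), S g →
      ∃ b : ModSite.freeOn O W ⟶ M, b ≫ φ = frMap O g ≫ b') : Epi φ := by
  haveI : (tAb O).Faithful := by dsimp only [tAb]; infer_instance
  apply (tAb O).epi_of_epi_map
  rw [← Sheaf.isLocallySurjective_iff_epi' AddCommGrpCat.{u}]
  constructor
  intro U s
  obtain ⟨S, hS, hl⟩ := h U ((sec O U N).symm s)
  refine J.superset_covering ?_ hS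
  intro W g hg
  obtain ⟨b, hb⟩ := hl g hg
  have h1 := congrArg (sec O W N) hb
  rw [sec_comp, sec_map_comp, Equiv.apply_symm_apply] at h1
  exact ⟨sec O W M b, h1⟩

end Free

variable {C : Type u} [SmallCategory C] {J : GrothendieckTopology C}
  {D : Type u} [SmallCategory D] {K : GrothendieckTopology D}
  {O_C : Sheaf J CommRingCat.{u}} {O_D : Sheaf K CommRingCat.{u}} (f : ModSite.RMor O_C O_D)
  [HasInjectiveResolutions (ModSite.Mod O_C)]
  [HasDerivedCategory.{w} (ModSite.Mod O_C)] [HasDerivedCategory.{w'} (ModSite.Mod O_D)]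
  (RF : DerivedCategory (ModSite.Mod O_C) ⥤ DerivedCategory (ModSite.Mod O_D))
  (α : FKh f.push ⟶ DerivedCategory.Qh ⋙ RF)
  [RF.IsRightDerivedFunctor α (HomotopyCategory.quasiIso (ModSite.Mod O_C) (ComplexShape.up ℤ))]

include α in
theorem s9066_main (A : ObjectProperty (ModSite.Mod O_C)) (B : Set C) (B' : Set D)
    (hB : ∀ U : C, ∃ (ι : Type u) (Y : ι → C) (g : ∀ i, Y i ⟶ U),
      Sieve.ofArrows Y g ∈ J U ∧ ∀ i, Y i ∈ B)
    (hA : ∀ V ∈ B, ∃ d : ℕ, ∀ T ∈ J V, ∃ (ι : Type u) (Y : ι → C) (g : ∀ i, Y i ⟶ V),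
      (∀ i, T.arrows (g i)) ∧ Sieve.ofArrows Y g ∈ J V ∧
      ∀ (i : ι) (F : ModSite.Mod O_C), A F → ∀ k : ℕ, d < k →
        Subsingleton (ModSite.HU O_C F k (Y i)))
    (hB' : ∀ U : D, ∃ (ι : Type u) (Y : ι → D) (g : ∀ i, Y i ⟶ U),
      Sieve.ofArrows Y g ∈ K U ∧ ∀ i, Y i ∈ B')
    (hA' : ∀ V ∈ B', ∃ d : ℕ, ∀ T ∈ K V, ∃ (ι : Type u) (Y : ι → D) (g : ∀ i, Y i ⟶ V),
      (∀ i, T.arrows (g i)) ∧ Sieve.ofArrows Y g ∈ K V ∧
      ∀ (i : ι) (F : ModSite.Mod O_C), A F → ∀ k : ℕ, d < k →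
        Subsingleton (ModSite.HU O_C F k (f.fn.obj (Y i))))
    (N : ℤ)
    (h3 : ∀ F : ModSite.Mod O_C, A F → ∀ p : ℕ, N < (p : ℤ) → IsZero ((f.Rpush p).obj F))
    (X : DerivedCategory (ModSite.Mod O_C)) (hX : WSerre.cohIn A X) (n : ℕ) (j : ℤ)
    (hj : N - (n : ℤ) ≤ j) :
    IsIso ((homologyFunctor (ModSite.Mod O_D) j).map
      (RF.map ((DerivedCategory.TStructure.t.truncGEπ (-(n : ℤ))).app X))) := by
  haveI := hasProductsOfShape_nat O_C
  haveI : HasProduct (CohCx.truncTower X) := inferInstance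
  have hL := isRlimVia_truncTower O_C A X hX B hB hA
  have hN : ∀ (q : ℤ) (k : ℕ), N < k →
      IsZero ((f.push.rightDerived k).obj ((homologyFunctor (ModSite.Mod O_C) q).obj X)) :=
    fun q k hk => h3 _ (hX q) k hk
  let H := homologyFunctor (ModSite.Mod O_D) j
  -- the local statement at a member of `B'`
  have key : ∀ V ∈ B', ∃ m : ℕ, n ≤ m ∧
      ∀ T ∈ K V, ∃ (ι : Type u) (Y : ι → D) (g : ∀ i, Y i ⟶ V),
      (∀ i, T.arrows (g i)) ∧ Sieve.ofArrows Y g ∈ K V ∧ ∀ i,
        Function.Bijective (Preadditive.rightComp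
          ((ModLimW.sg O_C).obj (ModSite.freeOn O_C (f.fn.obj (Y i))))
          ((CohCx.toTruncTower X m)⟦j⟧') :
            ((ModLimW.sg O_C).obj (ModSite.freeOn O_C (f.fn.obj (Y i))) ⟶ X⟦j⟧) →
              ((ModLimW.sg O_C).obj (ModSite.freeOn O_C (f.fn.obj (Y i))) ⟶
                (CohCx.truncTower X m)⟦j⟧)) := by
    intro V hV
    obtain ⟨d, hd⟩ := hA' V hV
    refine ⟨max n ((d : ℤ) - j + 1).toNat, le_max_left _ _, fun T hT => ?_⟩
    obtain ⟨ι, Y, g, hg, hcov, hvan⟩ := hd T hT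
    refine ⟨ι, Y, g, hg, hcov, fun i => ?_⟩
    refine bijective_toTruncTower O_C A X hX hL (f.fn.obj (Y i)) d (hvan i) j _ ?_
    have h1 := Int.self_le_toNat ((d : ℤ) - j + 1)
    have h2 : (((d : ℤ) - j + 1).toNat : ℤ) ≤ ((max n ((d : ℤ) - j + 1).toNat : ℕ) : ℤ) := by
      exact_mod_cast le_max_right _ _
    exact h1.trans h2
  -- factorisation through a later stage
  have hfac : ∀ k : ℕ, H.map (RF.map (CohCx.toTruncTower X n)) =
      H.map (RF.map (CohCx.toTruncTower X (n + k))) ≫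
        H.map (RF.map (CohCx.transition (CohCx.truncTower X) (CohCx.truncTowerMap X) n k)) := by
    intro k
    rw [← Functor.map_comp, ← Functor.map_comp, toTruncTower_transition]
  change IsIso (H.map (RF.map (CohCx.toTruncTower X n)))
  haveI : Mono (H.map (RF.map (CohCx.toTruncTower X n))) := by
    refine mono_of_free _ (fun U b hb => ?_)
    obtain ⟨ι, Y, g, hcov, hY⟩ := hB' U
    refine eq_zero_of_frMap_comp O_D b Y g hcov (fun i => ?_)
    obtain ⟨m, hm, hgood⟩ := key (Y i) (hY i)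
    obtain ⟨k, rfl⟩ := Nat.exists_eq_add_of_le hm
    haveI := isIso_homology_rf_transition f.push RF α X N hN n j hj k
    refine eq_zero_of_comp_homology_map f RF α (CohCx.toTruncTower X (n + k)) j (Y i) hgood _ ?_
    rw [← cancel_mono (H.map (RF.map
      (CohCx.transition (CohCx.truncTower X) (CohCx.truncTowerMap X) n k))), Category.assoc,
      Category.assoc, ← hfac, hb, comp_zero, zero_comp]
  haveI : Epi (H.map (RF.map (CohCx.toTruncTower X n))) := by
    refine epi_of_free_local _ (fun U b' => ?_)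
    obtain ⟨ι, Y, g, hcov, hY⟩ := hB' U
    -- the sieve of arrows over which `b'` lifts
    let S : Sieve U :=
      { arrows := fun W h => ∃ b : ModSite.freeOn O_D W ⟶ H.obj (RF.obj X),
          b ≫ H.map (RF.map (CohCx.toTruncTower X n)) = frMap O_D h ≫ b'
        downward_closed := by
          rintro W W' h ⟨b, hb⟩ c
          exact ⟨frMap O_D c ≫ b, by rw [Category.assoc, hb, frMap_comp, Category.assoc]⟩ }
    refine ⟨S, ?_, fun W h hh => hh⟩
    refine K.transitive hcov S ?_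
    intro W h hh
    obtain ⟨i, c, rfl⟩ := (Sieve.mem_ofArrows_iff Y g h).1 hh
    rw [Sieve.pullback_comp]
    apply K.pullback_stable
    obtain ⟨m, hm, hgood⟩ := key (Y i) (hY i)
    obtain ⟨k, rfl⟩ := Nat.exists_eq_add_of_le hm
    haveI := isIso_homology_rf_transition f.push RF α X N hN n j hj k
    obtain ⟨ι', Y', g', hcov', hpre⟩ := exists_local_preimage_homology_map f RF α
      (CohCx.toTruncTower X (n + k)) j (Y i) hgood
      ((frMap O_D (g i) ≫ b') ≫ inv (H.map (RF.map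
        (CohCx.transition (CohCx.truncTower X) (CohCx.truncTowerMap X) n k))))
    refine K.superset_covering ?_ hcov'
    intro W' h' hh'
    obtain ⟨i', c', rfl⟩ := (Sieve.mem_ofArrows_iff Y' g' h').1 hh'
    obtain ⟨b, hb⟩ := hpre i'
    refine ⟨frMap O_D c' ≫ b, ?_⟩
    rw [hfac k, Category.assoc, ← Category.assoc b, hb]
    simp only [Category.assoc, IsIso.inv_hom_id, Category.comp_id]
    rw [frMap_comp, frMap_comp, Category.assoc, Category.assoc]
  exact isIso_of_mono_of_epi _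

end Groth.Agent.Helper3.RTr
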