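import Mathlib
import Groth.Prelude.Def_KFlatSite
import Groth.Agent.Lib.Helper3.PTower2
import Groth.Agent.Lib.Helper3.RTr6
import Groth.Agent.Lib.Helper3.KInjA
import Groth.Agent.Lib.Helper3.ModGroth
/-!
# Resolutions by direct sums of modules `j_! O_U` on a ringed site
-/
set_option autoImplicit false
universe u
open CategoryTheory CategoryTheory.Limits Opposite

namespace Groth.Agent.Helper3.PTower3

open Groth.Agent.Helper3.ModLim Groth.Agent.Helper3.RTr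

variable {C : Type u} [SmallCategory C] {J : GrothendieckTopology C} (O : Sheaf J CommRingCat.{u})

/-- direct sums of modules of the form `j_{U!} O_U` -/
def PF : ObjectProperty (ModSite.Mod O) := fun M =>
  ∃ (ι : Type u) (U : ι → C), Nonempty (M ≅ ∐ fun j => ModSite.freeOn O (U j))

instance : (PF O).IsClosedUnderIsomorphisms where
  of_iso := by
    rintro X Y e ⟨ι, U, ⟨f⟩⟩
    exact ⟨ι, U, ⟨e.symm ≪≫ f⟩⟩

lemma PF_zero : ∃ Z : ModSite.Mod O, IsZero Z ∧ PF O Z := by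
  refine ⟨∐ fun j : PEmpty.{u + 1} => ModSite.freeOn O (PEmpty.elim j), ?_,
    ⟨PEmpty.{u + 1}, fun j => PEmpty.elim j, ⟨Iso.refl _⟩⟩⟩
  rw [IsZero.iff_id_eq_zero]
  exact Sigma.hom_ext _ _ (fun j => j.elim)

lemma PF_epi (M : ModSite.Mod O) : ∃ (Y : ModSite.Mod O) (π : Y ⟶ M), PF O Y ∧ Epi π := by
  refine ⟨∐ fun x : (Σ U : C, (ModSite.freeOn O U ⟶ M)) => ModSite.freeOn O x.1,
    Sigma.desc (fun x => x.2),
    ⟨(Σ U : C, (ModSite.freeOn O U ⟶ M)), fun x => x.1, ⟨Iso.refl _⟩⟩, ?_⟩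
  apply epi_of_free_local
  intro U b'
  refine ⟨⊤, J.top_mem U, fun W g _ => ?_⟩
  exact ⟨Sigma.ι (fun x : (Σ U : C, (ModSite.freeOn O U ⟶ M)) => ModSite.freeOn O x.1)
    ⟨W, frMap O g ≫ b'⟩, by simp⟩


lemma PF_sum (X Y : ModSite.Mod O) (hX : PF O X) (hY : PF O Y) : PF O (X ⊞ Y) := by
  obtain ⟨ι₁, U₁, ⟨e₁⟩⟩ := hX
  obtain ⟨ι₂, U₂, ⟨e₂⟩⟩ := hY
  refine ⟨ι₁ ⊕ ι₂, Sum.elim U₁ U₂, ⟨?_⟩⟩
  let F : ι₁ ⊕ ι₂ → ModSite.Mod O := fun j => ModSite.freeOn O (Sum.elim U₁ U₂ j)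
  let inj : ∀ j : ι₁ ⊕ ι₂, F j ⟶ X ⊞ Y := fun j =>
    match j with
    | .inl a => Sigma.ι (fun a => ModSite.freeOn O (U₁ a)) a ≫ e₁.inv ≫ biprod.inl
    | .inr b => Sigma.ι (fun b => ModSite.freeOn O (U₂ b)) b ≫ e₂.inv ≫ biprod.inr
  let c : Cofan F := Cofan.mk (X ⊞ Y) inj
  have hc : IsColimit c := by
    refine Cofan.IsColimit.mk c
      (fun s => biprod.desc (e₁.hom ≫ Sigma.desc (fun a => s.inj (.inl a)))
        (e₂.hom ≫ Sigma.desc (fun b => s.inj (.inr b)))) ?_ ?_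
    · intro s j
      cases j with
      | inl a =>
        change (Sigma.ι (fun a => ModSite.freeOn O (U₁ a)) a ≫ e₁.inv ≫ biprod.inl) ≫ _ = _
        simp
      | inr b =>
        change (Sigma.ι (fun b => ModSite.freeOn O (U₂ b)) b ≫ e₂.inv ≫ biprod.inr) ≫ _ = _
        simp
    · intro s m hm
      apply biprod.hom_ext'
      · rw [biprod.inl_desc, ← cancel_epi e₁.inv, Iso.inv_hom_id_assoc]
        apply Sigma.hom_ext
        intro a
        rw [Sigma.ι_desc]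
        have := hm (.inl a)
        change (Sigma.ι (fun a => ModSite.freeOn O (U₁ a)) a ≫ e₁.inv ≫ biprod.inl) ≫ m = _ at this
        simpa using this
      · rw [biprod.inr_desc, ← cancel_epi e₂.inv, Iso.inv_hom_id_assoc]
        apply Sigma.hom_ext
        intro b
        rw [Sigma.ι_desc]
        have := hm (.inr b)
        change (Sigma.ι (fun b => ModSite.freeOn O (U₂ b)) b ≫ e₂.inv ≫ biprod.inr) ≫ m = _ at this
        simpa using this
  exact hc.coconePointUniqueUpToIso (coproductIsCoproduct F)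


section EventuallyIso

variable {B : Type*} [Category B]

/-- a map out of a sequential colimit which is eventually an isomorphism on the terms is an
isomorphism -/
lemma isIso_of_eventually {F : ℕ ⥤ B} {cc : Cocone F} (hcc : IsColimit cc) {Y : B} (φ : cc.pt ⟶ Y)
    (N : ℕ) (h : ∀ n, N ≤ n → IsIso (cc.ι.app n ≫ φ)) : IsIso φ := by
  haveI := h N le_rfl
  have key : ∀ m (hm : N ≤ m), inv (cc.ι.app N ≫ φ) ≫ cc.ι.app N =
      (haveI := h m hm; inv (cc.ι.app m ≫ φ)) ≫ cc.ι.app m := by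
    intro m hm
    haveI := h m hm
    have h1 : cc.ι.app N = F.map (homOfLE hm) ≫ cc.ι.app m := (cc.w (homOfLE hm)).symm
    have h2 : inv (cc.ι.app N ≫ φ) ≫ F.map (homOfLE hm) = inv (cc.ι.app m ≫ φ) := by
      rw [← cancel_mono (cc.ι.app m ≫ φ), IsIso.inv_hom_id, Category.assoc,
        ← Category.assoc (F.map (homOfLE hm)), ← h1, IsIso.inv_hom_id]
    calc inv (cc.ι.app N ≫ φ) ≫ cc.ι.app N
        = inv (cc.ι.app N ≫ φ) ≫ F.map (homOfLE hm) ≫ cc.ι.app m := by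
          exact congrArg (fun t => inv (cc.ι.app N ≫ φ) ≫ t) h1
      _ = inv (cc.ι.app m ≫ φ) ≫ cc.ι.app m := by rw [← Category.assoc, h2]
  refine ⟨inv (cc.ι.app N ≫ φ) ≫ cc.ι.app N, ?_, ?_⟩
  · apply hcc.hom_ext
    intro n
    have hm : N ≤ max n N := le_max_right _ _
    haveI := h _ hm
    have h1 : cc.ι.app n = F.map (homOfLE (le_max_left n N)) ≫ cc.ι.app (max n N) :=
      (cc.w (homOfLE (le_max_left n N))).symm
    rw [key _ hm, Category.comp_id]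
    conv_lhs => rw [h1]
    rw [Category.assoc, ← Category.assoc (cc.ι.app (max n N)), ← Category.assoc (cc.ι.app (max n N) ≫ φ),
      IsIso.hom_inv_id, Category.id_comp, ← h1]
  · rw [Category.assoc, IsIso.inv_hom_id]

end EventuallyIso


section Main

open Groth.Agent.Helper3.PTower2

/-- **Resolutions by direct sums of `j_! O_U`** -/
theorem main (G : CochainComplex (ModSite.Mod O) ℤ) :
    ∃ (Kc : ℕ ⥤ CochainComplex (ModSite.Mod O) ℤ) (π : ∀ n : ℕ, Kc.obj n ⟶ G.truncLE ((n : ℤ) + 1)),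
      (∀ n : ℕ, Kc.map (homOfLE (Nat.le_succ n)) ≫ π (n + 1) ≫ G.ιTruncLE (((n + 1 : ℕ) : ℤ) + 1) =
        π n ≫ G.ιTruncLE ((n : ℤ) + 1)) ∧
      (∀ n : ℕ, QuasiIso (π n) ∧ ∀ i : ℤ, Epi ((π n).f i)) ∧
      (∀ n : ℕ, ∃ b : ℤ, (Kc.obj n).IsStrictlyLE b) ∧
      (∀ (n : ℕ) (i : ℤ), ∃ (ι : Type u) (U : ι → C),
        Nonempty ((Kc.obj n).X i ≅ ∐ fun j => ModSite.freeOn O (U j))) ∧
      (∀ (n : ℕ) (i : ℤ), ∃ r : (Kc.obj (n + 1)).X i ⟶ (Kc.obj n).X i,
        (Kc.map (homOfLE (Nat.le_succ n))).f i ≫ r = 𝟙 _ ∧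
        ∃ (ι : Type u) (U : ι → C),
          Nonempty (cokernel ((Kc.map (homOfLE (Nat.le_succ n))).f i) ≅ ∐ fun j => ModSite.freeOn O (U j))) ∧
      ∃ c : colimit Kc ⟶ G, (∀ n : ℕ, colimit.ι Kc n ≫ c = π n ≫ G.ιTruncLE ((n : ℤ) + 1)) ∧ QuasiIso c := by
  obtain ⟨Q, ι, π, h1, h2, h3, h4, h5⟩ := exists_tower (PF O) (PF_zero O) (PF_sum O) (PF_epi O) G
    (fun n : ℕ => (n : ℤ) + 1) (fun n => by push_cast; omega)
  let Kc : ℕ ⥤ CochainComplex (ModSite.Mod O) ℤ := Functor.ofSequence ι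
  have hmap : ∀ n : ℕ, Kc.map (homOfLE (Nat.le_succ n)) = ι n :=
    fun n => Functor.ofSequence_map_homOfLE_succ ι n
  have hcompat : ∀ n : ℕ, Kc.map (homOfLE (Nat.le_succ n)) ≫ π (n + 1) ≫
      G.ιTruncLE (((n + 1 : ℕ) : ℤ) + 1) = π n ≫ G.ιTruncLE ((n : ℤ) + 1) := by
    intro n
    rw [hmap]
    exact (h5 n).symm
  -- the cocone to `G`
  let app : ∀ n : ℕ, Kc.obj n ⟶ ((Functor.const ℕ).obj G).obj n :=
    fun n => π n ≫ G.ιTruncLE ((n : ℤ) + 1)
  let α : Kc ⟶ (Functor.const ℕ).obj G := NatTrans.ofSequence app (by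
    intro n
    change Kc.map (homOfLE _) ≫ π (n + 1) ≫ G.ιTruncLE (((n + 1 : ℕ) : ℤ) + 1) =
      (π n ≫ G.ιTruncLE ((n : ℤ) + 1)) ≫ 𝟙 G
    rw [Category.comp_id]
    exact hcompat n)
  let cG : Cocone Kc := ⟨G, α⟩
  let c : colimit Kc ⟶ G := colimit.desc Kc cG
  have hc : ∀ n : ℕ, colimit.ι Kc n ≫ c = π n ≫ G.ιTruncLE ((n : ℤ) + 1) := by
    intro n
    exact colimit.ι_desc cG n
  refine ⟨Kc, π, hcompat, h1, h2, h3, ?_, c, hc, ?_⟩
  · intro n i
    obtain ⟨⟨r, hr⟩, hcok⟩ := h4 n i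
    refine ⟨r, ?_, ?_⟩
    · rw [hmap]; exact hr
    · rw [hmap]; exact hcok
  · rw [quasiIso_iff]
    intro i
    rw [quasiIsoAt_iff_isIso_homologyMap]
    have hcol := isColimitOfPreserves
      (HomologicalComplex.homologyFunctor (ModSite.Mod O) (ComplexShape.up ℤ) i) (colimit.isColimit Kc)
    refine isIso_of_eventually hcol (HomologicalComplex.homologyMap c i) (i.toNat) ?_
    intro n hn
    have hin : i ≤ (n : ℤ) + 1 := by
      have := Int.self_le_toNat i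
      omega
    change IsIso (HomologicalComplex.homologyMap (colimit.ι Kc n) i ≫ HomologicalComplex.homologyMap c i)
    haveI := (h1 n).1
    haveI : QuasiIsoAt (G.ιTruncLE ((n : ℤ) + 1)) i := G.quasiIsoAt_ιTruncLE _ _ hin
    have e2 : IsIso (HomologicalComplex.homologyMap (π n ≫ G.ιTruncLE ((n : ℤ) + 1)) i) := by
      rw [HomologicalComplex.homologyMap_comp]
      haveI : IsIso (HomologicalComplex.homologyMap (π n) i) := by
        rw [← quasiIsoAt_iff_isIso_homologyMap]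
        exact (quasiIso_iff (π n)).1 (h1 n).1 i
      haveI : IsIso (HomologicalComplex.homologyMap (G.ιTruncLE ((n : ℤ) + 1)) i) := by
        rw [← quasiIsoAt_iff_isIso_homologyMap]
        infer_instance
      infer_instance
    rw [← HomologicalComplex.homologyMap_comp, hc]
    exact e2

end Main

end Groth.Agent.Helper3.PTower3
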