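import Mathlib
import Groth.Prelude.Def_DDual2
import Groth.Agent.Lib.Helper5.KProj.LBC

/-!
# Descent of perfect complexes along filtered colimits of rings

A bounded complex of finite projective modules over `colim R_j` is, up to isomorphism of complexes,
the base change of a bounded complex of finite projective modules over some `R_j`.
-/

set_option autoImplicit false
universe u
open CategoryTheory Limits
attribute [local instance] HasDerivedCategory.standard

namespace Groth.Agent.Helper3.PerfDesc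

open Groth.Agent.Lib.Helper5.KProj

/-! ### A. descent of finite data along a filtered colimit of commutative rings -/
section descent
variable {J : Type u} [SmallCategory J] [IsFiltered J] (F : J ⥤ CommRingCat.{u}) (c : Cocone F)
  (hc : IsColimit c)

include hc in
lemma exists_rep (x : c.pt) : ∃ (j : J) (y : F.obj j), (c.ι.app j).hom y = x :=
  Concrete.isColimit_exists_rep F hc x

include hc in
lemma exists_map_eq_zero (j : J) (z : F.obj j) (hz : (c.ι.app j).hom z = 0) :
    ∃ (k : J) (f : j ⟶ k), (F.map f).hom z = 0 := by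
  have h' : (c.ι.app j).hom z = (c.ι.app j).hom (0 : F.obj j) := hz.trans (map_zero _).symm
  obtain ⟨k, f, g, hfg⟩ := Concrete.isColimit_exists_of_rep_eq F hc z (0 : F.obj j) h'
  exact ⟨k, f, hfg.trans (map_zero _)⟩

lemma w_apply {j k : J} (f : j ⟶ k) (y : F.obj j) :
    (c.ι.app k).hom ((F.map f).hom y) = (c.ι.app j).hom y :=
  congrArg (fun g => g.hom y) (c.w f)

include hc in
lemma exists_rep_finset {I : Type*} [DecidableEq I] (s : Finset I) (x : I → c.pt) :
    ∃ (j : J) (y : I → F.obj j), ∀ i ∈ s, (c.ι.app j).hom (y i) = x i := by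
  induction s using Finset.induction_on with
  | empty =>
    exact ⟨(IsFiltered.nonempty (C := J)).some, fun _ => 0,
      fun i hi => absurd hi (Finset.notMem_empty i)⟩
  | insert i₀ s hi₀ ih =>
    obtain ⟨j, y, hy⟩ := ih
    obtain ⟨j₁, y₁, hy₁⟩ := exists_rep F c hc (x i₀)
    refine ⟨IsFiltered.max j j₁, fun i => if i = i₀ then
      (F.map (IsFiltered.rightToMax j j₁)).hom y₁
      else (F.map (IsFiltered.leftToMax j j₁)).hom (y i), fun i hi => ?_⟩
    by_cases h : i = i₀
    · subst h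
      show (c.ι.app _).hom (if i = i then _ else _) = _
      rw [if_pos rfl, w_apply, hy₁]
    · show (c.ι.app _).hom (if i = i₀ then _ else _) = _
      rw [if_neg h, w_apply, hy i ((Finset.mem_insert.1 hi).resolve_left h)]

include hc in
lemma exists_map_eq_zero_finset {I : Type*} [DecidableEq I] (s : Finset I) (j : J)
    (z : I → F.obj j) (hz : ∀ i ∈ s, (c.ι.app j).hom (z i) = 0) :
    ∃ (k : J) (f : j ⟶ k), ∀ i ∈ s, (F.map f).hom (z i) = 0 := by
  induction s using Finset.induction_on with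
  | empty => exact ⟨j, 𝟙 j, fun i hi => absurd hi (Finset.notMem_empty i)⟩
  | insert i₀ s hi₀ ih =>
    obtain ⟨k, f, hf⟩ := ih (fun i hi => hz i (Finset.mem_insert_of_mem hi))
    have h0 : (c.ι.app k).hom ((F.map f).hom (z i₀)) = 0 := by
      rw [w_apply, hz i₀ (Finset.mem_insert_self _ _)]
    obtain ⟨k', g, hg⟩ := exists_map_eq_zero F c hc k _ h0
    refine ⟨k', f ≫ g, fun i hi => ?_⟩
    have hcomp : (F.map (f ≫ g)).hom (z i) = (F.map g).hom ((F.map f).hom (z i)) := by
      rw [F.map_comp]; rfl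
    rw [hcomp]
    rcases Finset.mem_insert.1 hi with h | hi'
    · rw [h]; exact hg
    · rw [hf i hi', map_zero]

end descent

/-! ### B. standard complexes of free modules given by matrices -/
section std
variable (A : Type u) [CommRing A] (N : ℕ)

/-- the free module `A^N` -/
abbrev fr : ModuleCat.{u} A := ModuleCat.of A (Fin N → A)

variable {A N}

/-- the endomorphism of `A^N` given by a matrix -/
noncomputable abbrev mh (M : Matrix (Fin N) (Fin N) A) : fr A N ⟶ fr A N :=
  ModuleCat.ofHom M.mulVecLin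

lemma mh_comp (M M' : Matrix (Fin N) (Fin N) A) : mh M ≫ mh M' = mh (M' * M) := by
  show ModuleCat.ofHom M.mulVecLin ≫ ModuleCat.ofHom M'.mulVecLin =
    ModuleCat.ofHom (M' * M).mulVecLin
  rw [← ModuleCat.ofHom_comp, Matrix.mulVecLin_mul]

lemma mh_zero : mh (0 : Matrix (Fin N) (Fin N) A) = 0 := by
  show ModuleCat.ofHom (0 : Matrix (Fin N) (Fin N) A).mulVecLin = 0
  rw [Matrix.mulVecLin_zero]; rfl

lemma mh_toMatrix' (g : (Fin N → A) →ₗ[A] (Fin N → A)) :
    mh (LinearMap.toMatrix' g) = ModuleCat.ofHom g := by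
  show ModuleCat.ofHom (LinearMap.toMatrix' g).mulVecLin = ModuleCat.ofHom g
  rw [← Matrix.toLin'_apply', Matrix.toLin'_toMatrix']

variable (A N)

/-- the complex with all terms `A^N` and differentials given by the matrices `D k` -/
noncomputable def stdCx (D : ℤ → Matrix (Fin N) (Fin N) A) (hD : ∀ k, D (k + 1) * D k = 0) :
    DRing.Cx A :=
  CochainComplex.of (fun _ => fr A N) (fun k => mh (D k))
    (fun k => by rw [mh_comp, hD, mh_zero])

lemma stdCx_d (D : ℤ → Matrix (Fin N) (Fin N) A) (hD : ∀ k, D (k + 1) * D k = 0) (k : ℤ) :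
    (stdCx A N D hD).d k (k + 1) = mh (D k) := by
  unfold stdCx
  exact CochainComplex.of_d (V := ModuleCat.{u} A) (fun _ => fr A N) (fun k => mh (D k)) k

/-- the morphism of standard complexes given by matrices -/
noncomputable def stdHom {D D' : ℤ → Matrix (Fin N) (Fin N) A}
    (hD : ∀ k, D (k + 1) * D k = 0) (hD' : ∀ k, D' (k + 1) * D' k = 0)
    (e : ℤ → Matrix (Fin N) (Fin N) A) (he : ∀ k, e (k + 1) * D k = D' k * e k) :
    stdCx A N D hD ⟶ stdCx A N D' hD' :=
  CochainComplex.ofHom (fun k => mh (e k)) (fun k => by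
    rw [stdCx_d, stdCx_d]
    exact (mh_comp (e k) (D' k)).trans
      ((congrArg mh (he k).symm).trans (mh_comp (D k) (e (k + 1))).symm))

end std

/-! ### C. transporting retracts along a functor -/
section retract
variable {C D : Type*} [Category C] [Category D] (G : C ⥤ D)

/-- If `X` is the image of the idempotent `p ≫ i` of `L`, `Y` is the image of the idempotent
`p' ≫ i'` of `L'` and `G L ≅ L'` intertwines the idempotents, then `G X ≅ Y`. -/
def retractIso {X L : C} {Y L' : D} (i : X ⟶ L) (p : L ⟶ X) (hip : i ≫ p = 𝟙 X)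
    (i' : Y ⟶ L') (p' : L' ⟶ Y) (hip' : i' ≫ p' = 𝟙 Y) (θ : G.obj L ≅ L')
    (hθ : G.map (p ≫ i) ≫ θ.hom = θ.hom ≫ (p' ≫ i')) : G.obj X ≅ Y where
  hom := G.map i ≫ θ.hom ≫ p'
  inv := i' ≫ θ.inv ≫ G.map p
  hom_inv_id := by
    have h1 : θ.hom ≫ p' ≫ i' ≫ θ.inv = G.map (p ≫ i) := by
      rw [← Category.assoc p' i', ← Category.assoc θ.hom, ← hθ, Category.assoc, Iso.hom_inv_id,
        Category.comp_id]
    calc (G.map i ≫ θ.hom ≫ p') ≫ i' ≫ θ.inv ≫ G.map p
        = G.map i ≫ (θ.hom ≫ p' ≫ i' ≫ θ.inv) ≫ G.map p := by simp only [Category.assoc]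
      _ = G.map i ≫ G.map (p ≫ i) ≫ G.map p := by rw [h1]
      _ = G.map ((i ≫ p) ≫ (i ≫ p)) := by simp only [Functor.map_comp, Category.assoc]
      _ = 𝟙 _ := by rw [hip, Category.comp_id, G.map_id]
  inv_hom_id := by
    have h2 : θ.inv ≫ G.map (p ≫ i) ≫ θ.hom = p' ≫ i' := by
      rw [hθ, Iso.inv_hom_id_assoc]
    calc (i' ≫ θ.inv ≫ G.map p) ≫ G.map i ≫ θ.hom ≫ p'
        = i' ≫ (θ.inv ≫ G.map (p ≫ i) ≫ θ.hom) ≫ p' := by
          simp only [Functor.map_comp, Category.assoc]
      _ = i' ≫ (p' ≫ i') ≫ p' := by rw [h2]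
      _ = (i' ≫ p') ≫ (i' ≫ p') := by simp only [Category.assoc]
      _ = 𝟙 _ := by rw [hip', Category.comp_id]

end retract

/-! ### B2. base change of standard complexes -/
section theta
open ModuleCat ChangeOfRings TensorProduct
variable {A B : Type u} [CommRing A] [CommRing B] (φ : A →+* B) (N : ℕ)

/-- pure tensors in the extension of scalars -/
noncomputable abbrev tm {M : ModuleCat.{u} A} (b : B) (x : M) : (ModuleCat.extendScalars.{u, u, u} φ).obj M :=
  b ⊗ₜ[A,φ] x

/-- `v ↦ φ ∘ v` as a morphism to the restriction of scalars -/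
noncomputable def resMap : fr A N ⟶ (ModuleCat.restrictScalars φ).obj (fr B N) :=
  ModuleCat.ofHom (Y := (ModuleCat.restrictScalars φ).obj (fr B N))
    { toFun := fun v => (fun i => φ (v i) : Fin N → B)
      map_add' := fun v w => by funext i; exact map_add φ _ _
      map_smul' := fun a v => by
        funext i
        exact map_mul φ a (v i) }

/-- the comparison `B ⊗_A A^N ⟶ B^N` -/
noncomputable def thetaHom : (ModuleCat.extendScalars.{u, u, u} φ).obj (fr A N) ⟶ fr B N :=
  ((ModuleCat.extendRestrictScalarsAdj.{u, u, u} φ).homEquiv _ _).symm (resMap φ N)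

lemma thetaHom_one_tmul (v : Fin N → A) :
    (thetaHom φ N).hom (tm φ (1 : B) (M := fr A N) v) = fun i => φ (v i) := by
  have h := Equiv.apply_symm_apply
    ((ModuleCat.extendRestrictScalarsAdj.{u, u, u} φ).homEquiv (fr A N) (fr B N)) (resMap φ N)
  exact congrArg (fun g => g.hom v) h

/-- the inverse comparison `B^N ⟶ B ⊗_A A^N` -/
noncomputable def thetaInv : fr B N ⟶ (ModuleCat.extendScalars.{u, u, u} φ).obj (fr A N) :=
  ModuleCat.ofHom (Y := (ModuleCat.extendScalars.{u, u, u} φ).obj (fr A N))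
    (Fintype.linearCombination B
      (fun k : Fin N => tm φ (1 : B) (M := fr A N) (Pi.single k (1 : A) : Fin N → A)))

lemma thetaInv_single (k : Fin N) :
    (thetaInv φ N).hom (Pi.single k (1 : B) : Fin N → B) =
      tm φ (1 : B) (M := fr A N) (Pi.single k (1 : A) : Fin N → A) := by
  classical
  show Fintype.linearCombination B _ (Pi.single k (1 : B)) = _
  rw [Fintype.linearCombination_apply_single]
  exact one_smul B _

lemma unit_eq : (ModuleCat.extendRestrictScalarsAdj.{u, u, u} φ).unit.app (fr A N) =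
    resMap φ N ≫ (ModuleCat.restrictScalars φ).map (thetaInv φ N) := by
  classical
  apply ModuleCat.hom_ext
  apply (Pi.basisFun A (Fin N)).ext
  intro k
  rw [Pi.basisFun_apply]
  show tm φ (1 : B) (M := fr A N) (Pi.single k (1 : A) : Fin N → A) =
    (thetaInv φ N).hom (fun i => φ ((Pi.single k (1 : A) : Fin N → A) i))
  have h : (fun i => φ ((Pi.single k (1 : A) : Fin N → A) i)) = (Pi.single k (1 : B) : Fin N → B) := by
    funext i
    simp [Pi.single_apply]
  rw [h, thetaInv_single]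

lemma theta_hom_inv : thetaHom φ N ≫ thetaInv φ N = 𝟙 _ := by
  apply ModuleCat.ExtendScalars.hom_ext
  intro m
  show (thetaInv φ N).hom ((thetaHom φ N).hom (tm φ (1 : B) (M := fr A N) m)) =
    tm φ (1 : B) (M := fr A N) m
  rw [thetaHom_one_tmul]
  exact (congrArg (fun g => g.hom m) (unit_eq φ N)).symm

lemma theta_inv_hom : thetaInv φ N ≫ thetaHom φ N = 𝟙 _ := by
  classical
  apply ModuleCat.hom_ext
  apply (Pi.basisFun B (Fin N)).ext
  intro k
  rw [Pi.basisFun_apply]
  show (thetaHom φ N).hom ((thetaInv φ N).hom (Pi.single k 1)) = Pi.single k 1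
  rw [thetaInv_single, thetaHom_one_tmul]
  funext i
  simp [Pi.single_apply]

/-- `B ⊗_A A^N ≅ B^N` -/
noncomputable def theta : (ModuleCat.extendScalars.{u, u, u} φ).obj (fr A N) ≅ fr B N where
  hom := thetaHom φ N
  inv := thetaInv φ N
  hom_inv_id := theta_hom_inv φ N
  inv_hom_id := theta_inv_hom φ N

lemma theta_nat (M : Matrix (Fin N) (Fin N) A) :
    (ModuleCat.extendScalars.{u, u, u} φ).map (mh M) ≫ thetaHom φ N =
      thetaHom φ N ≫ mh (M.map φ) := by
  apply ModuleCat.ExtendScalars.hom_ext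
  intro m
  show (thetaHom φ N).hom (((ModuleCat.extendScalars.{u, u, u} φ).map (mh M)).hom
    (tm φ (1 : B) (M := fr A N) m)) =
      (mh (M.map φ)).hom ((thetaHom φ N).hom (tm φ (1 : B) (M := fr A N) m))
  have h1 : ((ModuleCat.extendScalars.{u, u, u} φ).map (mh M)).hom
      (tm φ (1 : B) (M := fr A N) m) =
      tm φ (1 : B) (M := fr A N) (Matrix.mulVec M (m : Fin N → A)) := rfl
  rw [h1, thetaHom_one_tmul, thetaHom_one_tmul]
  funext i
  exact RingHom.map_mulVec φ M m i

variable {N}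

/-- base change of a standard complex -/
noncomputable def Theta (D : ℤ → Matrix (Fin N) (Fin N) A) (hD : ∀ k, D (k + 1) * D k = 0)
    (hD' : ∀ k, (D (k + 1)).map φ * (D k).map φ = 0) :
    (bcCx φ).obj (stdCx A N D hD) ≅ stdCx B N (fun k => (D k).map φ) hD' :=
  HomologicalComplex.Hom.isoOfComponents (fun _ => theta φ N) (by
    intro i j hij
    obtain rfl : i + 1 = j := hij
    show thetaHom φ N ≫ (stdCx B N _ hD').d i (i + 1) =
      (ModuleCat.extendScalars.{u, u, u} φ).map ((stdCx A N D hD).d i (i + 1)) ≫ thetaHom φ N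
    rw [stdCx_d, stdCx_d]
    exact (theta_nat φ N (D i)).symm)

lemma Theta_nat (D : ℤ → Matrix (Fin N) (Fin N) A) (hD : ∀ k, D (k + 1) * D k = 0)
    (hD' : ∀ k, (D (k + 1)).map φ * (D k).map φ = 0)
    (e : ℤ → Matrix (Fin N) (Fin N) A) (he : ∀ k, e (k + 1) * D k = D k * e k)
    (he' : ∀ k, (e (k + 1)).map φ * (D k).map φ = (D k).map φ * (e k).map φ) :
    (bcCx φ).map (stdHom A N hD hD e he) ≫ (Theta φ D hD hD').hom =
      (Theta φ D hD hD').hom ≫ stdHom B N hD' hD' (fun k => (e k).map φ) he' := by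
  ext k : 1
  exact theta_nat φ N (e k)

end theta

/-! ### D. a bounded complex of finite projectives is a retract of a standard complex -/
section fromE
variable {R : Type u} [CommRing R]

lemma exists_data (E : DRing.Cx R) (a b : ℤ) (h1 : DRing.VanishesOutside E a b)
    (h2 : DRing.TermwiseFiniteProjective E) :
    ∃ (N : ℕ) (D e : ℤ → Matrix (Fin N) (Fin N) R) (hD : ∀ k, D (k + 1) * D k = 0)
      (he : ∀ k, e (k + 1) * D k = D k * e k),
      (∀ k, e k * e k = e k) ∧ (∀ k, k ∉ Finset.Icc a b → D k = 0 ∧ e k = 0) ∧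
      ∃ (i : E ⟶ stdCx R N D hD) (p : stdCx R N D hD ⟶ E), i ≫ p = 𝟙 E ∧
        p ≫ i = stdHom R N hD hD e he := by
  classical
  haveI : ∀ k, Module.Finite R (E.X k) := fun k => (h2 k).1
  haveI : ∀ k, Module.Projective R (E.X k) := fun k => (h2 k).2
  have hss : ∀ k, k ∉ Finset.Icc a b → Subsingleton (E.X k) := fun k hk =>
    ModuleCat.subsingleton_of_isZero (h1 k (by rw [Finset.mem_Icc] at hk; omega))
  choose m π₀ hπ₀ using fun k => Module.Finite.exists_fin' R (E.X k)
  let N := ∑ k ∈ Finset.Icc a b, m k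
  have key : ∀ k, ∃ π : (Fin N → R) →ₗ[R] E.X k, Function.Surjective π := by
    intro k
    by_cases hk : k ∈ Finset.Icc a b
    · have hle : m k ≤ N := Finset.single_le_sum (f := m) (fun _ _ => Nat.zero_le _) hk
      refine ⟨π₀ k ∘ₗ LinearMap.funLeft R R (Fin.castLE hle), (hπ₀ k).comp ?_⟩
      exact LinearMap.funLeft_surjective_of_injective R R _ (Fin.castLE_injective hle)
    · haveI := hss k hk
      exact ⟨0, fun x => ⟨0, Subsingleton.elim _ _⟩⟩
  choose π hπ using key
  choose ι hι using fun k => Module.projective_lifting_property (π k) LinearMap.id (hπ k)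
  have hι' : ∀ k x, π k (ι k x) = x := fun k x => LinearMap.congr_fun (hι k) x
  let δ : ∀ k : ℤ, (Fin N → R) →ₗ[R] (Fin N → R) := fun k =>
    ι (k + 1) ∘ₗ (E.d k (k + 1)).hom ∘ₗ π k
  let ε : ∀ k : ℤ, (Fin N → R) →ₗ[R] (Fin N → R) := fun k => ι k ∘ₗ π k
  have hδ : ∀ k x, δ k x = ι (k + 1) ((E.d k (k + 1)).hom (π k x)) := fun k x => rfl
  have hε : ∀ k x, ε k x = ι k (π k x) := fun k x => rfl
  have hdd : ∀ k x, (E.d (k + 1) (k + 1 + 1)).hom ((E.d k (k + 1)).hom x) = 0 := fun k x =>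
    congrArg (fun f => f.hom x) (E.d_comp_d k (k + 1) (k + 1 + 1))
  have e1 : ∀ k, δ (k + 1) ∘ₗ δ k = 0 := by
    intro k
    refine LinearMap.ext fun x => ?_
    rw [LinearMap.comp_apply, hδ, hδ, hι', hdd, map_zero, LinearMap.zero_apply]
  have e2 : ∀ k, ε (k + 1) ∘ₗ δ k = δ k ∘ₗ ε k := by
    intro k
    refine LinearMap.ext fun x => ?_
    simp only [LinearMap.comp_apply, hε, hδ, hι']
  have e3 : ∀ k, ε k ∘ₗ ε k = ε k := by
    intro k
    refine LinearMap.ext fun x => ?_
    simp only [LinearMap.comp_apply, hε, hι']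
  have hπ0 : ∀ k, k ∉ Finset.Icc a b → π k = 0 := fun k hk => by
    haveI := hss k hk
    exact LinearMap.ext fun x => Subsingleton.elim _ _
  have hδ0 : ∀ k, k ∉ Finset.Icc a b → δ k = 0 := fun k hk => by
    refine LinearMap.ext fun x => ?_
    rw [hδ, hπ0 k hk, LinearMap.zero_apply, map_zero, map_zero, LinearMap.zero_apply]
  have hε0 : ∀ k, k ∉ Finset.Icc a b → ε k = 0 := fun k hk => by
    refine LinearMap.ext fun x => ?_
    rw [hε, hπ0 k hk, LinearMap.zero_apply, map_zero, LinearMap.zero_apply]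
  have hD : ∀ k, LinearMap.toMatrix' (δ (k + 1)) * LinearMap.toMatrix' (δ k) = 0 := fun k => by
    rw [← LinearMap.toMatrix'_comp, e1, map_zero]
  have he : ∀ k, LinearMap.toMatrix' (ε (k + 1)) * LinearMap.toMatrix' (δ k) =
      LinearMap.toMatrix' (δ k) * LinearMap.toMatrix' (ε k) := fun k => by
    rw [← LinearMap.toMatrix'_comp, ← LinearMap.toMatrix'_comp, e2]
  refine ⟨N, fun k => LinearMap.toMatrix' (δ k), fun k => LinearMap.toMatrix' (ε k), hD, he,
    fun k => by rw [← LinearMap.toMatrix'_comp, e3],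
    fun k hk => ⟨by show LinearMap.toMatrix' (δ k) = 0; rw [hδ0 k hk, map_zero],
      by show LinearMap.toMatrix' (ε k) = 0; rw [hε0 k hk, map_zero]⟩, ?_⟩
  let L := stdCx R N (fun k => LinearMap.toMatrix' (δ k)) hD
  have hLd : ∀ k, L.d k (k + 1) = ModuleCat.ofHom (δ k) := fun k => by
    rw [stdCx_d, mh_toMatrix']
  let ii : E ⟶ L := CochainComplex.ofHom (fun k => (ModuleCat.ofHom (ι k) : E.X k ⟶ fr R N))
    (fun k => by
      rw [hLd]
      refine ModuleCat.hom_ext (LinearMap.ext fun x => ?_)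
      show δ k (ι k x) = ι (k + 1) ((E.d k (k + 1)).hom x)
      rw [hδ, hι'])
  let pp : L ⟶ E := CochainComplex.ofHom (fun k => (ModuleCat.ofHom (π k) : fr R N ⟶ E.X k))
    (fun k => by
      rw [hLd]
      refine ModuleCat.hom_ext (LinearMap.ext fun x => ?_)
      show (E.d k (k + 1)).hom (π k x) = π (k + 1) (δ k x)
      rw [hδ, hι'])
  refine ⟨ii, pp, ?_, ?_⟩
  · ext k : 1
    refine ModuleCat.hom_ext (LinearMap.ext fun x => ?_)
    exact hι' k x
  · ext k : 1
    show (ModuleCat.ofHom (π k) : fr R N ⟶ E.X k) ≫ (ModuleCat.ofHom (ι k) : E.X k ⟶ fr R N) =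
      mh (LinearMap.toMatrix' (ε k))
    rw [mh_toMatrix']
    rfl

end fromE

/-! ### E. descent of the matrices -/
section descentMat
variable {J : Type u} [SmallCategory J] [IsFiltered J] (F : J ⥤ CommRingCat.{u}) (c : Cocone F)
  (hc : IsColimit c)

include hc in
lemma descend_matrices (N : ℕ) (a b : ℤ) (D e : ℤ → Matrix (Fin N) (Fin N) c.pt)
    (hD : ∀ k, D (k + 1) * D k = 0) (he : ∀ k, e (k + 1) * D k = D k * e k)
    (hee : ∀ k, e k * e k = e k) (hz : ∀ k, k ∉ Finset.Icc a b → D k = 0 ∧ e k = 0) :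
    ∃ (j : J) (D' e' : ℤ → Matrix (Fin N) (Fin N) (F.obj j)),
      (∀ k, D' (k + 1) * D' k = 0) ∧ (∀ k, e' (k + 1) * D' k = D' k * e' k) ∧
      (∀ k, e' k * e' k = e' k) ∧ (∀ k, k ∉ Finset.Icc a b → e' k = 0) ∧
      (fun k => (D' k).map (c.ι.app j).hom) = D ∧ (fun k => (e' k).map (c.ι.app j).hom) = e := by
  classical
  let S := Finset.Icc a b
  -- step 1: lift the entries
  let x : ℤ × Bool × Fin N × Fin N → c.pt := fun t =>
    if t.2.1 then e t.1 t.2.2.1 t.2.2.2 else D t.1 t.2.2.1 t.2.2.2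
  obtain ⟨j₀, y, hy⟩ := exists_rep_finset F c hc
    (S ×ˢ (Finset.univ : Finset (Bool × Fin N × Fin N))) x
  let φ₀ : F.obj j₀ →+* c.pt := (c.ι.app j₀).hom
  let D0 : ℤ → Matrix (Fin N) (Fin N) (F.obj j₀) := fun k =>
    if k ∈ S then Matrix.of (fun i l => y (k, false, i, l)) else 0
  let e0 : ℤ → Matrix (Fin N) (Fin N) (F.obj j₀) := fun k =>
    if k ∈ S then Matrix.of (fun i l => y (k, true, i, l)) else 0
  have hD0z : ∀ k, k ∉ S → D0 k = 0 := fun k hk => if_neg hk
  have he0z : ∀ k, k ∉ S → e0 k = 0 := fun k hk => if_neg hk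
  have hD0 : ∀ k, (D0 k).map φ₀ = D k := by
    intro k
    by_cases hk : k ∈ S
    · ext i l
      have h := hy (k, false, i, l) (Finset.mem_product.2 ⟨hk, Finset.mem_univ _⟩)
      have h3 : D0 k = Matrix.of (fun i l => y (k, false, i, l)) := if_pos hk
      rw [h3, Matrix.map_apply, Matrix.of_apply]
      exact h
    · rw [hD0z k hk, (hz k hk).1]
      exact Matrix.map_zero _ (map_zero φ₀)
  have he0 : ∀ k, (e0 k).map φ₀ = e k := by
    intro k
    by_cases hk : k ∈ S
    · ext i l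
      have h := hy (k, true, i, l) (Finset.mem_product.2 ⟨hk, Finset.mem_univ _⟩)
      have h3 : e0 k = Matrix.of (fun i l => y (k, true, i, l)) := if_pos hk
      rw [h3, Matrix.map_apply, Matrix.of_apply]
      exact h
    · rw [he0z k hk, (hz k hk).2]
      exact Matrix.map_zero _ (map_zero φ₀)
  -- step 2: the equations
  let Z : ℤ → Fin 3 → Matrix (Fin N) (Fin N) (F.obj j₀) := fun k =>
    ![D0 (k + 1) * D0 k, e0 (k + 1) * D0 k - D0 k * e0 k, e0 k * e0 k - e0 k]
  have hZ0 : ∀ k, Z k 0 = D0 (k + 1) * D0 k := fun k => rfl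
  have hZ1 : ∀ k, Z k 1 = e0 (k + 1) * D0 k - D0 k * e0 k := fun k => rfl
  have hZ2 : ∀ k, Z k 2 = e0 k * e0 k - e0 k := fun k => rfl
  have hZφ : ∀ k t, (Z k t).map φ₀ = 0 := by
    intro k t
    fin_cases t
    · show (Z k 0).map φ₀ = 0
      rw [hZ0, Matrix.map_mul, hD0, hD0, hD]
    · show (Z k 1).map φ₀ = 0
      rw [hZ1, Matrix.map_sub _ (map_sub φ₀), Matrix.map_mul, Matrix.map_mul, hD0, he0, he0, he,
        sub_self]
    · show (Z k 2).map φ₀ = 0
      rw [hZ2, Matrix.map_sub _ (map_sub φ₀), Matrix.map_mul, he0, hee, sub_self]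
  have hZz : ∀ k, k ∉ S → ∀ t, Z k t = 0 := by
    intro k hk t
    fin_cases t
    · show Z k 0 = 0
      rw [hZ0, hD0z k hk, mul_zero]
    · show Z k 1 = 0
      rw [hZ1, hD0z k hk, mul_zero, zero_mul, sub_self]
    · show Z k 2 = 0
      rw [hZ2, he0z k hk, mul_zero, sub_self]
  let z : ℤ × Fin 3 × Fin N × Fin N → F.obj j₀ := fun t => Z t.1 t.2.1 t.2.2.1 t.2.2.2
  have hz0 : ∀ t ∈ S ×ˢ (Finset.univ : Finset (Fin 3 × Fin N × Fin N)),
      (c.ι.app j₀).hom (z t) = 0 := by
    intro t _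
    have := congrFun (congrFun (hZφ t.1 t.2.1) t.2.2.1) t.2.2.2
    exact this
  obtain ⟨j, f, hf⟩ := exists_map_eq_zero_finset F c hc _ j₀ z hz0
  let ψ : F.obj j₀ →+* F.obj j := (F.map f).hom
  have hZψ : ∀ k t, (Z k t).map ψ = 0 := by
    intro k t
    by_cases hk : k ∈ S
    · ext i l
      exact hf (k, t, i, l) (Finset.mem_product.2 ⟨hk, Finset.mem_univ _⟩)
    · rw [hZz k hk t]
      exact Matrix.map_zero _ (map_zero ψ)
  have hcomp : ∀ M : Matrix (Fin N) (Fin N) (F.obj j₀),
      (M.map ψ).map (c.ι.app j).hom = M.map φ₀ := by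
    intro M
    ext i l
    exact w_apply F c f (M i l)
  refine ⟨j, fun k => (D0 k).map ψ, fun k => (e0 k).map ψ, ?_, ?_, ?_, ?_, ?_, ?_⟩
  · intro k
    have := hZψ k 0
    rwa [hZ0, Matrix.map_mul] at this
  · intro k
    have := hZψ k 1
    rw [hZ1, Matrix.map_sub _ (map_sub ψ), Matrix.map_mul, Matrix.map_mul] at this
    exact sub_eq_zero.1 this
  · intro k
    have := hZψ k 2
    rw [hZ2, Matrix.map_sub _ (map_sub ψ), Matrix.map_mul] at this
    exact sub_eq_zero.1 this
  · intro k hk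
    show (e0 k).map ψ = 0
    rw [he0z k hk]
    exact Matrix.map_zero _ (map_zero ψ)
  · funext k
    rw [hcomp, hD0]
  · funext k
    rw [hcomp, he0]

end descentMat

/-! ### F. the main results -/
section main
variable {J : Type u} [SmallCategory J] [IsFiltered J] (F : J ⥤ CommRingCat.{u}) (c : Cocone F)
  (hc : IsColimit c)

include hc in
theorem descend_perfect_cx (E : DRing.Cx c.pt) (a b : ℤ) (h1 : DRing.VanishesOutside E a b)
    (h2 : DRing.TermwiseFiniteProjective E) :
    ∃ (j : J) (Kj : DRing.Cx (F.obj j)), DRing.VanishesOutside Kj a b ∧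
      DRing.TermwiseFiniteProjective Kj ∧
      Nonempty ((bcCx (c.ι.app j).hom).obj Kj ≅ E) := by
  obtain ⟨N, D, e, hD, he, hee, hz, i, p, hip, hpi⟩ := exists_data E a b h1 h2
  obtain ⟨j, D', e', hD', he', hee', hz', rfl, rfl⟩ :=
    descend_matrices F c hc N a b D e hD he hee hz
  let L' : DRing.Cx (F.obj j) := stdCx (F.obj j) N D' hD'
  let ε' : L' ⟶ L' := stdHom (F.obj j) N hD' hD' e' he'
  have hε' : ε' ≫ ε' = ε' := by
    ext k : 1
    show mh (e' k) ≫ mh (e' k) = mh (e' k)
    rw [mh_comp, hee']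
  obtain ⟨Kj, i', p', hip', hpi'⟩ := IsIdempotentComplete.idempotents_split L' ε' hε'
  have hk1 : ∀ k, i'.f k ≫ p'.f k = 𝟙 (Kj.X k) := fun k => HomologicalComplex.congr_hom hip' k
  have hk2 : ∀ k, p'.f k ≫ i'.f k = mh (e' k) := fun k => HomologicalComplex.congr_hom hpi' k
  refine ⟨j, Kj, ?_, ?_, ⟨retractIso (bcCx (c.ι.app j).hom) i' p' hip' i p hip
    (Theta (c.ι.app j).hom D' hD' hD) ?_⟩⟩
  · intro k hk
    have hk' : k ∉ Finset.Icc a b := by rw [Finset.mem_Icc]; omega
    rw [IsZero.iff_id_eq_zero]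
    calc 𝟙 (Kj.X k) = i'.f k ≫ (p'.f k ≫ i'.f k) ≫ p'.f k := by
          rw [Category.assoc, hk1, Category.comp_id, hk1]
      _ = 0 := by
          have h0 : p'.f k ≫ i'.f k = 0 := by
            rw [hk2, hz' k hk']; exact mh_zero
          rw [h0, zero_comp, comp_zero]
  · intro k
    have hs : (p'.f k).hom ∘ₗ (i'.f k).hom = LinearMap.id := by
      have := congrArg ModuleCat.Hom.hom (hk1 k)
      simpa using this
    haveI : Module.Finite (F.obj j) (L'.X k) :=
      inferInstanceAs (Module.Finite (F.obj j) (Fin N → F.obj j))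
    haveI : Module.Projective (F.obj j) (L'.X k) :=
      inferInstanceAs (Module.Projective (F.obj j) (Fin N → F.obj j))
    constructor
    · refine Module.Finite.of_surjective (p'.f k).hom (fun x => ⟨(i'.f k).hom x, ?_⟩)
      exact LinearMap.congr_fun hs x
    · exact Module.Projective.of_split (i'.f k).hom (p'.f k).hom hs
  · rw [hpi', hpi]
    exact Theta_nat (c.ι.app j).hom D' hD' hD e' he' he

include hc in
/-- A perfect object of `D(colim R_j)` is the derived base change of a perfect object of some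
`D(R_j)`. -/
theorem main [∀ j : J, DRing.HasLBaseChange (c.ι.app j).hom] (K : Dual.D c.pt)
    (hK : DRing.IsPerfect c.pt K) :
    ∃ (j : J) (Kj : Dual.D (F.obj j)), DRing.IsPerfect (F.obj j) Kj ∧
      Nonempty ((DRing.LBaseChange (c.ι.app j).hom).obj Kj ≅ K) := by
  obtain ⟨E, a, b, h1, h2, ⟨eK⟩⟩ := hK
  obtain ⟨j, Kj, g1, g2, ⟨eE⟩⟩ := descend_perfect_cx F c hc E a b h1 h2
  haveI : Kj.IsKProjective := Groth.Agent.Helper5.DRingCone.PerfClass.kproj Kj ⟨a, b, g1, g2⟩
  exact ⟨j, DRing.toD Kj, ⟨Kj, a, b, g1, g2, ⟨Iso.refl _⟩⟩,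
    ⟨lbcIso (c.ι.app j).hom Kj ≪≫ DerivedCategory.Q.mapIso eE ≪≫ eK⟩⟩

end main

end Groth.Agent.Helper3.PerfDesc
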