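import Mathlib

/-!
# Perfectly finitely presented algebras, part 1

Helpers on `p`-power maps, the category of perfect `B`-algebras as a full subcategory of `Under B`,
a recognition lemma for filtered colimits there, and the first step: a finitely presentable perfect
`B`-algebra is perfectly finitely generated.
-/

set_option autoImplicit false
universe u
open CategoryTheory CategoryTheory.Limits

namespace Groth.Agent.Helper3.PerfFP

section helpers
variable {p : ℕ} [hp : Fact p.Prime]

theorem add_pow_pn {L : Type*} [CommRing L] (h0 : (p : L) = 0) (x y : L) (n : ℕ) :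
    (x + y) ^ p ^ n = x ^ p ^ n + y ^ p ^ n := by
  obtain ⟨r, hr⟩ := exists_add_pow_prime_pow_eq hp.out x y n
  rw [hr, h0]; ring

theorem sub_pow_pn {L : Type*} [CommRing L] (h0 : (p : L) = 0) (x y : L) (n : ℕ) :
    (x - y) ^ p ^ n = x ^ p ^ n - y ^ p ^ n := by
  have h := add_pow_pn (p := p) h0 (x - y) y n
  rw [sub_add_cancel] at h
  rw [h]; ring

theorem pow_pn_inj {L : Type*} [Monoid L] (hinj : Function.Injective fun y : L => y ^ p) (n : ℕ) :
    Function.Injective fun y : L => y ^ p ^ n := by
  induction n with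
  | zero => intro a b h; simpa using h
  | succ n ih =>
    intro a b h
    apply ih
    apply hinj
    show (a ^ p ^ n) ^ p = (b ^ p ^ n) ^ p
    rw [← pow_mul, ← pow_mul, ← pow_succ]
    exact h

omit hp in
theorem pow_pn_surj {L : Type*} [Monoid L] (hs : Function.Surjective fun y : L => y ^ p) (n : ℕ) :
    Function.Surjective fun y : L => y ^ p ^ n := by
  induction n with
  | zero => intro a; exact ⟨a, by simp⟩
  | succ n ih =>
    intro a
    obtain ⟨b, hb⟩ := hs a
    obtain ⟨c, hc⟩ := ih b
    refine ⟨c, ?_⟩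
    show c ^ p ^ (n + 1) = a
    have hc' : c ^ p ^ n = b := hc
    have hb' : b ^ p = a := hb
    rw [pow_succ, pow_mul, hc', hb']

theorem eq_zero_of_pow_eq_zero_of_inj {L : Type*} [CommRing L]
    (hinj : Function.Injective fun y : L => y ^ p) {x : L} {n : ℕ} (h : x ^ n = 0) : x = 0 := by
  have h1 : n ≤ p ^ n := (Nat.lt_pow_self (n := n) hp.out.one_lt).le
  have h2 : x ^ p ^ n = 0 := by
    rw [← Nat.sub_add_cancel h1, pow_add, h, mul_zero]
  apply pow_pn_inj hinj n
  show x ^ p ^ n = 0 ^ p ^ n
  rw [h2, zero_pow (pow_pos hp.out.pos n).ne']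

end helpers

section cat
variable (p : ℕ) (B : CommRingCat.{u})

/-- The category of perfect `B`-algebras, as in the statement. -/
abbrev PerfCat := ObjectProperty.FullSubcategory
  fun Y : Under B => (p : Y.right) = 0 ∧ Function.Bijective fun y : Y.right => y ^ p

variable {p B}

/-- Build an object of `PerfCat`. -/
def mkObj {L : Type u} [CommRing L] (f : B →+* L) (h0 : (p : L) = 0)
    (hb : Function.Bijective fun y : L => y ^ p) : PerfCat p B :=
  ⟨Under.mk (CommRingCat.ofHom f : B ⟶ CommRingCat.of L), h0, hb⟩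

/-- Build a morphism of `PerfCat`. -/
def mkHom {X Y : PerfCat p B} (g : X.obj.right →+* Y.obj.right)
    (hg : ∀ b, g (X.obj.hom.hom b) = Y.obj.hom.hom b) : X ⟶ Y :=
  ObjectProperty.homMk (Under.homMk (CommRingCat.ofHom g : X.obj.right ⟶ Y.obj.right)
    (by ext b; exact hg b))

@[simp] theorem mkHom_hom {X Y : PerfCat p B} (g : X.obj.right →+* Y.obj.right)
    (hg : ∀ b, g (X.obj.hom.hom b) = Y.obj.hom.hom b) : (mkHom g hg).hom.right.hom = g := rfl

theorem comp_apply' {X Y Z : PerfCat p B} (f : X ⟶ Y) (g : Y ⟶ Z) (x : X.obj.right) :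
    (f ≫ g).hom.right.hom x = g.hom.right.hom (f.hom.right.hom x) := rfl

theorem id_apply' (X : PerfCat p B) (x : X.obj.right) :
    (InducedCategory.Hom.hom (𝟙 X)).right.hom x = x := rfl

theorem mkObj_hom {L : Type u} [CommRing L] (f : B →+* L) (h0 : (p : L) = 0)
    (hb : Function.Bijective fun y : L => y ^ p) (b : B) :
    (mkObj f h0 hb).obj.hom.hom b = f b := rfl

theorem hom_ext' {X Y : PerfCat p B} {f g : X ⟶ Y}
    (h : ∀ x : X.obj.right, f.hom.right.hom x = g.hom.right.hom x) : f = g := by
  apply ObjectProperty.hom_ext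
  apply Under.UnderMorphism.ext
  apply CommRingCat.hom_ext
  exact RingHom.ext h

theorem hom_comm {X Y : PerfCat p B} (f : X ⟶ Y) (b : B) :
    f.hom.right.hom (X.obj.hom.hom b) = Y.obj.hom.hom b := by
  have h := Under.w f.hom
  exact congrArg (fun g => g.hom b) h

/-- Recognising filtered colimits in `PerfCat` elementwise. -/
theorem nonempty_isColimit {J : Type u} [SmallCategory J] [IsFiltered J] (D : J ⥤ PerfCat p B)
    (c : Cocone D)
    (hsurj : ∀ x : c.pt.obj.right, ∃ (j : J) (y : (D.obj j).obj.right),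
      (c.ι.app j).hom.right.hom y = x)
    (hinj : ∀ (j : J) (y z : (D.obj j).obj.right),
      (c.ι.app j).hom.right.hom y = (c.ι.app j).hom.right.hom z →
        ∃ (k : J) (f : j ⟶ k), (D.map f).hom.right.hom y = (D.map f).hom.right.hom z) :
    Nonempty (IsColimit c) := by
  haveI : IsConnected J := IsFiltered.isConnected J
  let G1 := ObjectProperty.ι
    (fun Y : Under B => (p : Y.right) = 0 ∧ Function.Bijective fun y : Y.right => y ^ p)
  let G2 := Under.forget B
  let G3 := forget CommRingCat.{u}
  have h3 : IsColimit (G3.mapCocone (G2.mapCocone (G1.mapCocone c))) := by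
    refine Types.FilteredColimit.isColimitOf' _ _ (fun x => ?_) (fun j y z h => ?_)
    · obtain ⟨j, y, h⟩ := hsurj x
      exact ⟨j, y, h.symm⟩
    · exact hinj j y z h
  haveI : ReflectsColimit ((D ⋙ G1) ⋙ G2) G3 := reflectsColimit_of_reflectsIsomorphisms _ _
  have h2 : IsColimit (G2.mapCocone (G1.mapCocone c)) := isColimitOfReflects G3 h3
  have h1 : IsColimit (G1.mapCocone c) := isColimitOfReflects G2 h2
  exact ⟨isColimitOfReflects G1 h1⟩

end cat

end Groth.Agent.Helper3.PerfFP
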