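import Mathlib
import Groth.Agent.Lib.Helper3.PerfFP1

/-!
# Perfectly finitely presented algebras, part 2

A finitely presentable object of the category of perfect `B`-algebras is a perfect closure of a
finitely presented `B`-algebra.
-/

set_option autoImplicit false
set_option maxHeartbeats 400000
universe u
open CategoryTheory CategoryTheory.Limits

noncomputable section

namespace Groth.Agent.Helper3.PerfFP

section step1
variable {p : ℕ} [hp : Fact p.Prime] {B : CommRingCat.{u}} (A : PerfCat p B)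

/-- The subring generated by the image of `B` and a finite set `S`. -/
def TS (S : Finset A.obj.right) : Subring A.obj.right :=
  Subring.closure (Set.range A.obj.hom.hom ∪ ↑S)

theorem pow_pn_add {L : Type*} [Monoid L] (a : L) (n m : ℕ) :
    a ^ p ^ (n + m) = (a ^ p ^ n) ^ p ^ m := by
  rw [← pow_mul, ← pow_add]

theorem pow_pn_add' {L : Type*} [Monoid L] (a : L) (n m : ℕ) :
    a ^ p ^ (n + m) = (a ^ p ^ m) ^ p ^ n := by
  rw [add_comm, pow_pn_add]

/-- The perfect subalgebra of elements having a `p`-power in `TS S`. -/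
def AS (S : Finset A.obj.right) : Subring A.obj.right where
  carrier := {a | ∃ n : ℕ, a ^ p ^ n ∈ TS A S}
  mul_mem' := by
    rintro a b ⟨n, ha⟩ ⟨m, hb⟩
    refine ⟨n + m, ?_⟩
    rw [mul_pow, pow_pn_add a n m, pow_pn_add' b n m]
    exact Subring.mul_mem _ (Subring.pow_mem _ ha _) (Subring.pow_mem _ hb _)
  one_mem' := ⟨0, by rw [one_pow]; exact Subring.one_mem _⟩
  add_mem' := by
    rintro a b ⟨n, ha⟩ ⟨m, hb⟩
    refine ⟨n + m, ?_⟩
    rw [add_pow_pn (p := p) A.property.1, pow_pn_add a n m, pow_pn_add' b n m]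
    exact Subring.add_mem _ (Subring.pow_mem _ ha _) (Subring.pow_mem _ hb _)
  zero_mem' := ⟨0, by rw [pow_zero, pow_one]; exact Subring.zero_mem _⟩
  neg_mem' := by
    rintro a ⟨n, ha⟩
    refine ⟨n, ?_⟩
    rw [neg_pow]
    exact Subring.mul_mem _ (Subring.pow_mem _ (Subring.neg_mem _ (Subring.one_mem _)) _) ha

theorem mem_AS (S : Finset A.obj.right) {a : A.obj.right} :
    a ∈ AS A S ↔ ∃ n : ℕ, a ^ p ^ n ∈ TS A S := Iff.rfl

theorem AS_mono {S S' : Finset A.obj.right} (h : S ≤ S') : AS A S ≤ AS A S' := by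
  intro a ha
  obtain ⟨n, hn⟩ := (mem_AS A S).mp ha
  exact (mem_AS A S').mpr ⟨n, Subring.closure_mono
    (Set.union_subset_union_right _ (Finset.coe_subset.mpr h)) hn⟩

theorem hom_mem_AS (S : Finset A.obj.right) (b : B) : A.obj.hom.hom b ∈ AS A S :=
  (mem_AS A S).mpr ⟨0, by
    rw [pow_zero, pow_one]; exact Subring.subset_closure (Or.inl ⟨b, rfl⟩)⟩

theorem AS_frob_bij (S : Finset A.obj.right) :
    Function.Bijective fun y : ↥(AS A S) => y ^ p := by
  constructor
  · intro a b h
    apply Subtype.ext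
    apply A.property.2.1
    have := congrArg Subtype.val h
    simpa using this
  · intro a
    obtain ⟨n, hn⟩ := (mem_AS A S).mp a.2
    obtain ⟨c, hc⟩ := A.property.2.2 a.1
    have hc' : c ^ p = a.1 := hc
    refine ⟨⟨c, (mem_AS A S).mpr ⟨n + 1, ?_⟩⟩, Subtype.ext hc'⟩
    rw [pow_succ', pow_mul, hc']; exact hn

/-- The objects of the first diagram. -/
def F1 (S : Finset A.obj.right) : PerfCat p B :=
  mkObj (L := ↥(AS A S)) (A.obj.hom.hom.codRestrict (AS A S) (fun b => hom_mem_AS A S b))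
    (Subtype.ext (by
      rw [SubringClass.coe_natCast, ZeroMemClass.coe_zero]; exact A.property.1))
    (AS_frob_bij A S)

theorem coe_incl {R : Type*} [Ring R] {S T : Subring R} (h : S ≤ T) (x : ↥S) :
    ((Subring.inclusion h x : ↥T) : R) = x := rfl

/-- Transition maps of the first diagram. -/
def mp1 {S S' : Finset A.obj.right} (h : S ≤ S') : F1 A S ⟶ F1 A S' :=
  mkHom (X := F1 A S) (Y := F1 A S') (Subring.inclusion (AS_mono A h)) (fun b => rfl)

theorem mp1_apply {S S' : Finset A.obj.right} (h : S ≤ S') (x : ↥(AS A S)) :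
    (mp1 A h).hom.right.hom x = Subring.inclusion (AS_mono A h) x := rfl

/-- The first diagram: perfect subalgebras perfectly generated by finite sets. -/
def D1 : Finset A.obj.right ⥤ PerfCat p B where
  obj S := F1 A S
  map {S S'} f := mp1 A (leOfHom f)
  map_id S := hom_ext' (fun (x : ↥(AS A S)) => by
    rw [id_apply', mp1_apply]; exact Subtype.ext (coe_incl _ x))
  map_comp {S S' S''} f g := hom_ext' (fun (x : ↥(AS A S)) => by
    rw [comp_apply', mp1_apply, mp1_apply, mp1_apply]
    exact Subtype.ext (by rw [coe_incl, coe_incl, coe_incl]))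

theorem D1_map_apply {S S' : Finset A.obj.right} (f : S ⟶ S') (x : ↥(AS A S)) :
    ((D1 A).map f).hom.right.hom x = Subring.inclusion (AS_mono A (leOfHom f)) x := rfl

/-- Legs of the first cocone. -/
def inc1 (S : Finset A.obj.right) : F1 A S ⟶ A :=
  mkHom (X := F1 A S) (Y := A) (AS A S).subtype (fun b => rfl)

theorem inc1_apply (S : Finset A.obj.right) (x : ↥(AS A S)) :
    (inc1 A S).hom.right.hom x = (x : A.obj.right) := rfl

/-- The cocone of inclusions. -/
def c1 : Cocone (D1 A) where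
  pt := A
  ι :=
    { app := fun S => inc1 A S
      naturality := fun S S' f => hom_ext' (fun (x : ↥(AS A S)) => by
        rw [comp_apply', comp_apply', Functor.const_obj_map, id_apply']
        show (inc1 A S').hom.right.hom (((D1 A).map f).hom.right.hom x) =
          (inc1 A S).hom.right.hom x
        rw [inc1_apply, inc1_apply, D1_map_apply]
        exact coe_incl _ x) }

theorem c1_app (S : Finset A.obj.right) : (c1 A).ι.app S = inc1 A S := rfl

theorem step1 [IsFinitelyPresentable.{u} A] :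
    ∃ S : Finset A.obj.right, ∀ x : A.obj.right, ∃ n : ℕ, x ^ p ^ n ∈ TS A S := by
  classical
  have hsurj : ∀ x : A.obj.right, ∃ (j : Finset A.obj.right) (y : ((D1 A).obj j).obj.right),
      ((c1 A).ι.app j).hom.right.hom y = x := by
    intro x
    have hx : x ∈ AS A {x} := (mem_AS A {x}).mpr ⟨0, by
      rw [pow_zero, pow_one]
      exact Subring.subset_closure (Or.inr (Finset.mem_coe.mpr (Finset.mem_singleton_self x)))⟩
    exact ⟨{x}, (⟨x, hx⟩ : ↥(AS A {x})), inc1_apply A {x} ⟨x, hx⟩⟩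
  have hinj : ∀ (j : Finset A.obj.right) (y z : ((D1 A).obj j).obj.right),
      ((c1 A).ι.app j).hom.right.hom y = ((c1 A).ι.app j).hom.right.hom z →
        ∃ (k : Finset A.obj.right) (f : j ⟶ k),
          ((D1 A).map f).hom.right.hom y = ((D1 A).map f).hom.right.hom z := by
    intro S (y : ↥(AS A S)) (z : ↥(AS A S)) h
    have h2 : (y : A.obj.right) = z := h
    have h' : y = z := Subtype.ext h2
    exact ⟨S, 𝟙 S, by rw [h']⟩
  obtain ⟨hc⟩ := nonempty_isColimit (D1 A) (c1 A) hsurj hinj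
  obtain ⟨S, q, hq⟩ := IsFinitelyPresentable.exists_hom_of_isColimit hc (𝟙 A)
  refine ⟨S, fun x => ?_⟩
  let y : ↥(AS A S) := q.hom.right.hom x
  have h1 : (inc1 A S).hom.right.hom y = x := congrArg (fun f => f.hom.right.hom x) hq
  rw [inc1_apply] at h1
  have h3 := y.2
  rw [h1] at h3
  exact (mem_AS A S).mp h3

end step1

section step2
variable {p : ℕ} [hp : Fact p.Prime] {B : CommRingCat.{u}} [CharP B p] (A : PerfCat p B)
  [CharP A.obj.right p] [PerfectRing A.obj.right p] (S : Finset A.obj.right)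

/-- The polynomial ring on `S`. -/
abbrev P0 := MvPolynomial (↥S) B

/-- Evaluation at the elements of `S`. -/
def π0 : P0 A S →+* A.obj.right := MvPolynomial.eval₂Hom A.obj.hom.hom (fun s => s.1)

theorem π0_C (b : B) : π0 A S (MvPolynomial.C b) = A.obj.hom.hom b :=
  MvPolynomial.eval₂Hom_C _ _ _

theorem π0_X (i : ↥S) : π0 A S (MvPolynomial.X i) = i.1 :=
  MvPolynomial.eval₂Hom_X' _ _ _

theorem TS_le_range : TS A S ≤ (π0 A S).range := by
  refine Subring.closure_le.mpr ?_
  rintro x (⟨b, rfl⟩ | hx)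
  · exact ⟨MvPolynomial.C b, π0_C A S b⟩
  · exact ⟨MvPolynomial.X ⟨x, hx⟩, π0_X A S ⟨x, hx⟩⟩

/-- The perfect closure of the polynomial ring. -/
abbrev PP := PerfectClosure (P0 A S) p

/-- The canonical map from the perfect closure. -/
def π : PP A S →+* A.obj.right := PerfectClosure.lift (P0 A S) p A.obj.right (π0 A S)

theorem π_of (f : P0 A S) : π A S (PerfectClosure.of (P0 A S) p f) = π0 A S f := by
  have h := (PerfectClosure.lift (P0 A S) p A.obj.right).symm_apply_apply (π0 A S)
  exact RingHom.congr_fun h f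

theorem hroot (z : PP A S) : ∃ (n : ℕ) (f : P0 A S), z ^ p ^ n = PerfectClosure.of (P0 A S) p f := by
  refine PerfectClosure.induction_on z (fun x => ?_)
  obtain ⟨n, f⟩ := x
  exact ⟨n, f, by rw [← iterate_frobenius, PerfectClosure.iterate_frobenius_mk]⟩

theorem of_eq_zero {f : P0 A S} (h : PerfectClosure.of (P0 A S) p f = 0) :
    ∃ m : ℕ, f ^ p ^ m = 0 := by
  rw [PerfectClosure.of_apply, PerfectClosure.zero_def, PerfectClosure.mk_eq_iff] at h
  obtain ⟨m, hm⟩ := h
  refine ⟨m, ?_⟩
  dsimp only at hm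
  rw [iterate_frobenius, iterate_frobenius, zero_add, zero_pow (pow_pos hp.out.pos m).ne'] at hm
  exact hm

theorem h0P : (p : PP A S) = 0 := CharP.cast_eq_zero _ p

theorem π_surj (hgen : ∀ x : A.obj.right, ∃ n : ℕ, x ^ p ^ n ∈ TS A S) :
    Function.Surjective (π A S) := by
  intro x
  obtain ⟨n, hn⟩ := hgen x
  obtain ⟨f, hf⟩ := TS_le_range A S hn
  obtain ⟨z, hz⟩ := pow_pn_surj (p := p)
    (inferInstance : PerfectRing (PP A S) p).bijective_frobenius.2 n
    (PerfectClosure.of (P0 A S) p f)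
  have hz' : z ^ p ^ n = PerfectClosure.of (P0 A S) p f := hz
  refine ⟨z, ?_⟩
  apply pow_pn_inj (p := p) A.property.2.1 n
  show π A S z ^ p ^ n = x ^ p ^ n
  rw [← map_pow, hz', π_of, hf]

theorem ker_rad {z : PP A S} {n : ℕ} (h : z ^ n ∈ RingHom.ker (π A S)) :
    z ∈ RingHom.ker (π A S) := by
  rw [RingHom.mem_ker, map_pow] at h
  exact RingHom.mem_ker.mpr (eq_zero_of_pow_eq_zero_of_inj (p := p) A.property.2.1 h)

/-- The radical ideal generated by a finite subset of the kernel. -/
def IW (W : Finset ↥(RingHom.ker (π A S))) : Ideal (PP A S) :=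
  (Ideal.span ((fun w : ↥(RingHom.ker (π A S)) => (w : PP A S)) '' (W : Set _))).radical

theorem IW_mono {W W' : Finset ↥(RingHom.ker (π A S))} (h : W ≤ W') : IW A S W ≤ IW A S W' :=
  Ideal.radical_mono (Ideal.span_mono (Set.image_mono (Finset.coe_subset.mpr h)))

theorem IW_le_ker (W : Finset ↥(RingHom.ker (π A S))) : IW A S W ≤ RingHom.ker (π A S) := by
  intro z hz
  obtain ⟨n, hn⟩ := hz
  refine ker_rad A S (n := n) ((Ideal.span_le.mpr ?_) hn)
  rintro _ ⟨w, -, rfl⟩
  exact w.2

theorem mem_IW_of_pow {W : Finset ↥(RingHom.ker (π A S))} {z : PP A S} {n : ℕ}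
    (h : z ^ n ∈ IW A S W) : z ∈ IW A S W := by
  have : z ∈ (IW A S W).radical := ⟨n, h⟩
  rwa [IW, Ideal.radical_idem] at this

theorem mem_IW_of_mem {W : Finset ↥(RingHom.ker (π A S))} (w : ↥(RingHom.ker (π A S)))
    (hw : w ∈ W) : (w : PP A S) ∈ IW A S W :=
  Ideal.le_radical (Ideal.subset_span ⟨w, hw, rfl⟩)

theorem h0Q (W : Finset ↥(RingHom.ker (π A S))) : (p : PP A S ⧸ IW A S W) = 0 := by
  rw [← map_natCast (Ideal.Quotient.mk (IW A S W)) p, h0P, map_zero]

theorem hbQ (W : Finset ↥(RingHom.ker (π A S))) :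
    Function.Bijective fun y : PP A S ⧸ IW A S W => y ^ p := by
  constructor
  · intro a b h
    obtain ⟨a', rfl⟩ := Ideal.Quotient.mk_surjective a
    obtain ⟨b', rfl⟩ := Ideal.Quotient.mk_surjective b
    have h' : Ideal.Quotient.mk (IW A S W) (a' ^ p) = Ideal.Quotient.mk _ (b' ^ p) := by
      rw [map_pow, map_pow]; exact h
    rw [Ideal.Quotient.eq] at h' ⊢
    have e : a' ^ p - b' ^ p = (a' - b') ^ p := by
      have := sub_pow_pn (p := p) (h0P A S) a' b' 1
      rw [pow_one] at this; exact this.symm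
    rw [e] at h'
    exact mem_IW_of_pow A S h'
  · intro a
    obtain ⟨a', rfl⟩ := Ideal.Quotient.mk_surjective a
    obtain ⟨c, hc⟩ := (inferInstance : PerfectRing (PP A S) p).bijective_frobenius.2 a'
    have hc' : c ^ p = a' := hc
    exact ⟨Ideal.Quotient.mk _ c, by
      show (Ideal.Quotient.mk _ c) ^ p = _
      rw [← map_pow, hc']⟩

/-- The structure maps of the quotients. -/
def ψ (W : Finset ↥(RingHom.ker (π A S))) : B →+* PP A S ⧸ IW A S W :=
  (Ideal.Quotient.mk (IW A S W)).comp ((PerfectClosure.of (P0 A S) p).comp MvPolynomial.C)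

/-- The objects of the second diagram. -/
def F2 (W : Finset ↥(RingHom.ker (π A S))) : PerfCat p B :=
  mkObj (ψ A S W) (h0Q A S W) (hbQ A S W)

theorem F2_hom (W : Finset ↥(RingHom.ker (π A S))) (b : B) :
    (F2 A S W).obj.hom.hom b = ψ A S W b := rfl

/-- Transition maps of the second diagram. -/
def mp2 {W W' : Finset ↥(RingHom.ker (π A S))} (h : W ≤ W') : F2 A S W ⟶ F2 A S W' :=
  mkHom (X := F2 A S W) (Y := F2 A S W') (Ideal.Quotient.factor (IW_mono A S h)) (fun b => rfl)

theorem mp2_apply {W W' : Finset ↥(RingHom.ker (π A S))} (h : W ≤ W')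
    (x : PP A S ⧸ IW A S W) :
    (mp2 A S h).hom.right.hom x = Ideal.Quotient.factor (IW_mono A S h) x := rfl

/-- The second diagram: quotients of the perfect closure by finitely generated radical ideals. -/
def D2 : Finset ↥(RingHom.ker (π A S)) ⥤ PerfCat p B where
  obj W := F2 A S W
  map {W W'} f := mp2 A S (leOfHom f)
  map_id W := hom_ext' (fun (x : PP A S ⧸ IW A S W) => by
    obtain ⟨x', rfl⟩ := Ideal.Quotient.mk_surjective x
    rw [id_apply', mp2_apply, Ideal.Quotient.factor_mk])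
  map_comp {W W' W''} f g := hom_ext' (fun (x : PP A S ⧸ IW A S W) => by
    obtain ⟨x', rfl⟩ := Ideal.Quotient.mk_surjective x
    rw [comp_apply', mp2_apply, mp2_apply, mp2_apply, Ideal.Quotient.factor_mk,
      Ideal.Quotient.factor_mk, Ideal.Quotient.factor_mk])

theorem D2_map_apply {W W' : Finset ↥(RingHom.ker (π A S))} (f : W ⟶ W')
    (x : PP A S ⧸ IW A S W) :
    ((D2 A S).map f).hom.right.hom x = Ideal.Quotient.factor (IW_mono A S (leOfHom f)) x := rfl

/-- The leg maps. -/
def leg (W : Finset ↥(RingHom.ker (π A S))) : PP A S ⧸ IW A S W →+* A.obj.right :=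
  Ideal.Quotient.lift (IW A S W) (π A S) (fun a ha => RingHom.mem_ker.mp (IW_le_ker A S W ha))

theorem leg_mk (W : Finset ↥(RingHom.ker (π A S))) (z : PP A S) :
    leg A S W (Ideal.Quotient.mk (IW A S W) z) = π A S z := rfl

/-- Legs of the second cocone. -/
def inc2 (W : Finset ↥(RingHom.ker (π A S))) : F2 A S W ⟶ A :=
  mkHom (X := F2 A S W) (Y := A) (leg A S W) (fun b => by
    rw [F2_hom]
    show π A S (PerfectClosure.of _ p (MvPolynomial.C b)) = _
    rw [π_of, π0_C])

theorem inc2_apply (W : Finset ↥(RingHom.ker (π A S))) (x : PP A S ⧸ IW A S W) :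
    (inc2 A S W).hom.right.hom x = leg A S W x := rfl

/-- The cocone of the second diagram. -/
def c2 : Cocone (D2 A S) where
  pt := A
  ι :=
    { app := fun W => inc2 A S W
      naturality := fun W W' f => hom_ext' (fun (x : PP A S ⧸ IW A S W) => by
        rw [comp_apply', comp_apply', Functor.const_obj_map, id_apply']
        show (inc2 A S W').hom.right.hom (((D2 A S).map f).hom.right.hom x) =
          (inc2 A S W).hom.right.hom x
        obtain ⟨x', rfl⟩ := Ideal.Quotient.mk_surjective x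
        rw [inc2_apply, inc2_apply, D2_map_apply, Ideal.Quotient.factor_mk, leg_mk, leg_mk]) }

theorem c2_app (W : Finset ↥(RingHom.ker (π A S))) : (c2 A S).ι.app W = inc2 A S W := rfl

theorem step2 [IsFinitelyPresentable.{u} A]
    (hgen : ∀ x : A.obj.right, ∃ n : ℕ, x ^ p ^ n ∈ TS A S) :
    ∃ W : Finset ↥(RingHom.ker (π A S)), RingHom.ker (π A S) = IW A S W := by
  classical
  have hsurj : ∀ x : A.obj.right, ∃ (j : Finset ↥(RingHom.ker (π A S)))
      (y : ((D2 A S).obj j).obj.right), ((c2 A S).ι.app j).hom.right.hom y = x := by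
    intro x
    obtain ⟨z, hz⟩ := π_surj A S hgen x
    exact ⟨∅, Ideal.Quotient.mk (IW A S ∅) z,
      (inc2_apply A S ∅ _).trans ((leg_mk A S ∅ z).trans hz)⟩
  have hinj : ∀ (j : Finset ↥(RingHom.ker (π A S))) (y z : ((D2 A S).obj j).obj.right),
      ((c2 A S).ι.app j).hom.right.hom y = ((c2 A S).ι.app j).hom.right.hom z →
        ∃ (k : Finset ↥(RingHom.ker (π A S))) (f : j ⟶ k),
          ((D2 A S).map f).hom.right.hom y = ((D2 A S).map f).hom.right.hom z := by
    intro W (y : PP A S ⧸ IW A S W) (z : PP A S ⧸ IW A S W) h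
    obtain ⟨y', rfl⟩ := Ideal.Quotient.mk_surjective y
    obtain ⟨z', rfl⟩ := Ideal.Quotient.mk_surjective z
    have h2 : π A S y' = π A S z' := h
    have hk : y' - z' ∈ RingHom.ker (π A S) := by
      rw [RingHom.mem_ker, map_sub, h2, sub_self]
    refine ⟨insert ⟨y' - z', hk⟩ W, homOfLE (Finset.subset_insert _ _), ?_⟩
    rw [D2_map_apply, D2_map_apply, Ideal.Quotient.factor_mk, Ideal.Quotient.factor_mk]
    exact Ideal.Quotient.eq.mpr
      (mem_IW_of_mem A S ⟨y' - z', hk⟩ (Finset.mem_insert_self _ _))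
  obtain ⟨hc⟩ := nonempty_isColimit (D2 A S) (c2 A S) hsurj hinj
  obtain ⟨W, q, hq⟩ := IsFinitelyPresentable.exists_hom_of_isColimit hc (𝟙 A)
  let s : A.obj.right →+* PP A S ⧸ IW A S W := q.hom.right.hom
  have hrs : ∀ x, leg A S W (s x) = x := fun x => by
    have h : (inc2 A S W).hom.right.hom (s x) = x := congrArg (fun f => f.hom.right.hom x) hq
    rw [inc2_apply] at h
    exact h
  have hsφ : ∀ b, s (A.obj.hom.hom b) = ψ A S W b := fun b =>
    (hom_comm q b).trans (F2_hom A S W b)
  have hlift : ∀ i : ↥S, ∃ y : PP A S, Ideal.Quotient.mk (IW A S W) y = s i.1 :=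
    fun i => Ideal.Quotient.mk_surjective _
  choose y hy using hlift
  have hw : ∀ i : ↥S, y i - PerfectClosure.of (P0 A S) p (MvPolynomial.X i) ∈
      RingHom.ker (π A S) := fun i => by
    have h1 : π A S (y i) = i.1 := by
      have := hrs i.1
      rw [← hy i, leg_mk] at this
      exact this
    rw [RingHom.mem_ker, map_sub, h1, π_of, π0_X, sub_self]
  let W' : Finset ↥(RingHom.ker (π A S)) :=
    W ∪ Finset.univ.image (fun i : ↥S => (⟨_, hw i⟩ : ↥(RingHom.ker (π A S))))
  have hWW' : W ≤ W' := Finset.subset_union_left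
  refine ⟨W', le_antisymm ?_ (IW_le_ker A S W')⟩
  let t : PP A S ⧸ IW A S W →+* PP A S ⧸ IW A S W' := Ideal.Quotient.factor (IW_mono A S hWW')
  have key : (t.comp (s.comp (π0 A S))) =
      (Ideal.Quotient.mk (IW A S W')).comp (PerfectClosure.of (P0 A S) p) := by
    apply MvPolynomial.ringHom_ext
    · intro b
      show t (s (π0 A S (MvPolynomial.C b))) = _
      rw [π0_C, hsφ]; rfl
    · intro i
      show t (s (π0 A S (MvPolynomial.X i))) =
        Ideal.Quotient.mk (IW A S W') (PerfectClosure.of (P0 A S) p (MvPolynomial.X i))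
      rw [π0_X, ← hy i]
      show Ideal.Quotient.mk (IW A S W') (y i) = _
      rw [Ideal.Quotient.eq]
      refine mem_IW_of_mem A S ⟨_, hw i⟩ ?_
      exact Finset.mem_union_right _ (Finset.mem_image_of_mem _ (Finset.mem_univ i))
  intro z hz
  obtain ⟨n, f, hf⟩ := hroot A S z
  have h1 : π0 A S f = 0 := by
    rw [← π_of, ← hf, map_pow, RingHom.mem_ker.mp hz, zero_pow (pow_pos hp.out.pos n).ne']
  have h2 : Ideal.Quotient.mk (IW A S W') (PerfectClosure.of (P0 A S) p f) = 0 := by
    have h3 : t (s (π0 A S f)) =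
        Ideal.Quotient.mk (IW A S W') (PerfectClosure.of (P0 A S) p f) := RingHom.congr_fun key f
    rw [← h3, h1, map_zero, map_zero]
  rw [Ideal.Quotient.eq_zero_iff_mem, ← hf] at h2
  exact mem_IW_of_pow A S h2

end step2

section final
variable (p : ℕ) [hp : Fact p.Prime] (B : CommRingCat.{u}) [CharP B p] [PerfectRing B p]

theorem main (A : PerfCat p B) [IsFinitelyPresentable.{u} A] :
    ∃ (A₀ : Type u) (_ : CommRing A₀) (_ : Algebra B A₀) (_ : Algebra.FinitePresentation B A₀)
      (k : A₀ →+* A.obj.right), k.comp (algebraMap B A₀) = A.obj.hom.hom ∧ IsPRadical k p := by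
  rcases subsingleton_or_nontrivial A.obj.right with hsub | hnt
  · haveI : Subsingleton (B ⧸ (⊤ : Ideal B)) := Ideal.Quotient.subsingleton_iff.mpr rfl
    refine ⟨B ⧸ (⊤ : Ideal B), inferInstance, inferInstance, ?_,
      Ideal.Quotient.lift ⊤ A.obj.hom.hom (fun a _ => Subsingleton.elim _ _),
      RingHom.ext fun x => Subsingleton.elim _ _, ?_⟩
    · exact Algebra.FinitePresentation.quotient (Module.Finite.fg_top)
    · exact ⟨fun x => ⟨0, 0, Subsingleton.elim _ _⟩, fun x _ => by
        rw [Subsingleton.elim x 0]; exact zero_mem _⟩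
  · haveI : CharP A.obj.right p := (CharP.charP_iff_prime_eq_zero hp.out).mpr A.property.1
    haveI : PerfectRing A.obj.right p := ⟨A.property.2⟩
    obtain ⟨S, hgen⟩ := step1 A
    obtain ⟨W, hW⟩ := step2 A S hgen
    choose nn ff hff using hroot A S
    let 𝔞 : Ideal (P0 A S) :=
      Ideal.span ((fun w : ↥(RingHom.ker (π A S)) => ff w.1) '' (W : Set _))
    have h𝔞 : ∀ a ∈ 𝔞, π0 A S a = 0 := by
      intro a ha
      have hle : 𝔞 ≤ RingHom.ker (π0 A S) := by
        rw [Ideal.span_le]
        rintro _ ⟨w, -, rfl⟩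
        show π0 A S (ff w.1) = 0
        rw [← π_of, ← hff, map_pow, RingHom.mem_ker.mp w.2,
          zero_pow (pow_pos hp.out.pos _).ne']
      exact hle ha
    have hp0 : (p : P0 A S) = 0 := CharP.cast_eq_zero _ p
    have claim : ∀ z ∈ Ideal.span
        ((fun w : ↥(RingHom.ker (π A S)) => (w : PP A S)) '' (W : Set _)),
        ∃ (N : ℕ) (g : P0 A S), g ∈ 𝔞 ∧ z ^ p ^ N = PerfectClosure.of (P0 A S) p g := by
      intro z hz
      induction hz using Submodule.span_induction with
      | mem x hx =>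
        obtain ⟨w, hw, rfl⟩ := hx
        exact ⟨nn w.1, ff w.1, Ideal.subset_span ⟨w, hw, rfl⟩, hff w.1⟩
      | zero => exact ⟨0, 0, zero_mem _, by rw [pow_zero, pow_one, map_zero]⟩
      | add x y _ _ hx hy =>
        obtain ⟨N1, g1, hg1, e1⟩ := hx
        obtain ⟨N2, g2, hg2, e2⟩ := hy
        refine ⟨N1 + N2, g1 ^ p ^ N2 + g2 ^ p ^ N1,
          add_mem (Ideal.pow_mem_of_mem _ hg1 _ (pow_pos hp.out.pos _))
            (Ideal.pow_mem_of_mem _ hg2 _ (pow_pos hp.out.pos _)), ?_⟩
        rw [add_pow_pn (p := p) (h0P A S), pow_pn_add x N1 N2, pow_pn_add' y N1 N2, e1, e2,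
          map_add, map_pow, map_pow]
      | smul c x _ hx =>
        obtain ⟨N, g, hg, e⟩ := hx
        refine ⟨nn c + N, ff c ^ p ^ N * g ^ p ^ nn c,
          Ideal.mul_mem_left _ _ (Ideal.pow_mem_of_mem _ hg _ (pow_pos hp.out.pos _)), ?_⟩
        rw [smul_eq_mul, mul_pow, pow_pn_add c (nn c) N, pow_pn_add' x (nn c) N, hff c, e,
          map_mul, map_pow, map_pow]
    refine ⟨P0 A S ⧸ 𝔞, inferInstance, inferInstance, ?_,
      Ideal.Quotient.lift 𝔞 (π0 A S) h𝔞, ?_, ?_⟩
    · exact Algebra.FinitePresentation.quotient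
        (Submodule.fg_span (Set.Finite.image _ W.finite_toSet))
    · refine RingHom.ext fun b => ?_
      show Ideal.Quotient.lift 𝔞 (π0 A S) h𝔞 (algebraMap B (P0 A S ⧸ 𝔞) b) = _
      rw [← Ideal.Quotient.mk_algebraMap, Ideal.Quotient.lift_mk, MvPolynomial.algebraMap_eq,
        π0_C]
    · constructor
      · intro x
        obtain ⟨z, rfl⟩ := π_surj A S hgen x
        refine ⟨nn z, Ideal.Quotient.mk 𝔞 (ff z), ?_⟩
        rw [Ideal.Quotient.lift_mk, ← π_of, ← hff, map_pow]
      · intro y hy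
        obtain ⟨f, rfl⟩ := Ideal.Quotient.mk_surjective y
        rw [RingHom.mem_ker, Ideal.Quotient.lift_mk] at hy
        have h1 : PerfectClosure.of (P0 A S) p f ∈ IW A S W := by
          rw [← hW, RingHom.mem_ker, π_of, hy]
        obtain ⟨m, hm⟩ := h1
        obtain ⟨N, g, hg𝔞, hg⟩ := claim _ hm
        have h2 : PerfectClosure.of (P0 A S) p (f ^ (m * p ^ N) - g) = 0 := by
          rw [map_sub, map_pow, pow_mul, hg, sub_self]
        obtain ⟨M, hM⟩ := of_eq_zero A S h2
        rw [sub_pow_pn (p := p) hp0, sub_eq_zero] at hM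
        rw [pNilradical_eq_nilradical hp.out.one_lt, mem_nilradical]
        refine ⟨m * p ^ N * p ^ M, ?_⟩
        rw [← map_pow, pow_mul, hM, Ideal.Quotient.eq_zero_iff_mem]
        exact Ideal.pow_mem_of_mem _ hg𝔞 _ (pow_pos hp.out.pos _)

end final

end Groth.Agent.Helper3.PerfFP
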