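import Mathlib
import Groth.Prelude.Def_DDual2
import Groth.Agent.Lib.Helper3.PerfHom1
import Groth.Agent.Lib.Helper5.DRing.PCRes

/-! Pseudo-coherence along a surjection of flat finitely presented algebras (S7100). -/

set_option autoImplicit false
universe u
open CategoryTheory CategoryTheory.Limits TensorProduct DerivedCategory

attribute [local instance] HasDerivedCategory.standard

namespace Groth.Agent.Helper3.PerfHom

/-- a quotient of a flat finitely presented algebra which is again flat and finitely presented over
the base is a pseudo-coherent module -/
theorem pc'_of_surjective (R B A : Type u) [CommRing R] [CommRing B] [CommRing A]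
    [Algebra R B] [Algebra R A] [Algebra B A] [IsScalarTower R B A]
    (hφ : Function.Surjective (algebraMap B A))
    [Module.Flat R B] [Algebra.FinitePresentation R B] [Module.Flat R A]
    [Algebra.FinitePresentation R A] : DRing.IsPseudoCoherentModule' B A := by
  have hker : (RingHom.ker (IsScalarTower.toAlgHom R B A).toRingHom).FG :=
    Algebra.FinitePresentation.ker_fG_of_surjective (IsScalarTower.toAlgHom R B A) hφ
  haveI : Module.FinitePresentation B A := by
    refine Module.finitePresentation_of_surjective (Algebra.linearMap B A) hφ ?_
    have : LinearMap.ker (Algebra.linearMap B A) =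
        RingHom.ker (IsScalarTower.toAlgHom R B A).toRingHom := by
      ext x
      rfl
    rw [this]
    exact hker
  obtain ⟨Res, hRes⟩ := Groth.Agent.Helper3.FinRes.S5929_main R B A
  exact pc'_of_res A Res hRes

/-- **S7100** -/
theorem S7100_main (R B A : Type u) [CommRing R] [CommRing B] [CommRing A]
    [Algebra R B] [Algebra R A] [Algebra B A] [IsScalarTower R B A]
    (hφ : Function.Surjective (algebraMap B A))
    [Module.Flat R B] [Algebra.FinitePresentation R B] [Module.Flat R A]
    [Algebra.FinitePresentation R A]
    (K : Dual.D A) :
    (DRing.IsPseudoCoherent' A K ↔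
        DRing.IsPseudoCoherent' B ((DRing.restrictD (algebraMap B A)).obj K)) ∧
      ∀ m : ℤ, (DRing.IsPseudoCoherent A m K ↔
        DRing.IsPseudoCoherent B m ((DRing.restrictD (algebraMap B A)).obj K)) := by
  have hpc := pc'_of_surjective R B A hφ
  exact ⟨(Groth.Agent.Helper5.PCRes.s6940 hpc K 0).2,
    fun m => (Groth.Agent.Helper5.PCRes.s6940 hpc K m).1⟩

end Groth.Agent.Helper3.PerfHom
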