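import Mathlib
import Groth.Prelude.Def_LCI2
import Groth.Prelude.Def_MoreMor
import Groth.Prelude.Def_Mor2
import Groth.Agent.Lib.Helper3.PerfHom6

/-! Local complete intersection morphisms are locally of finite presentation and perfect (S1514). -/

set_option autoImplicit false
universe u
open CategoryTheory CategoryTheory.Limits TensorProduct DerivedCategory AlgebraicGeometry

attribute [local instance] HasDerivedCategory.standard

namespace Groth.Agent.Helper3.PerfHom

theorem fg_of_koszulRegularIdeal {A : Type u} [CommRing A] (I : Ideal A)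
    (hI : LCI.IsKoszulRegularIdeal I) : I.FG := by
  classical
  have hloc : ∀ 𝔭 : PrimeSpectrum A, ∃ g : A, g ∉ 𝔭.asIdeal ∧
      (I.map (algebraMap A (Localization.Away g))).FG := by
    intro 𝔭
    by_cases h𝔭 : I ≤ 𝔭.asIdeal
    · obtain ⟨g, hg, l, hl, hIl⟩ := hI 𝔭 h𝔭
      refine ⟨g, hg, ?_⟩
      rw [hIl]
      refine ⟨l.toFinset, ?_⟩
      congr 1
      ext x
      simp
    · obtain ⟨g, hgI, hg⟩ := Set.not_subset.1 h𝔭
      refine ⟨g, hg, ?_⟩
      have : I.map (algebraMap A (Localization.Away g)) = ⊤ := by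
        apply Ideal.eq_top_of_isUnit_mem _ (Ideal.mem_map_of_mem _ hgI)
        exact IsLocalization.Away.algebraMap_isUnit g
      rw [this]
      exact ⟨{1}, by simp⟩
  choose g hg hgP using hloc
  have htop : Ideal.span (Set.range g) = ⊤ := by
    by_contra hne
    obtain ⟨m, hm, hle⟩ := Ideal.exists_le_maximal _ hne
    exact hg ⟨m, hm.isPrime⟩ (hle (Ideal.subset_span ⟨_, rfl⟩))
  refine Ideal.fg_of_localizationSpan _ htop ?_
  rintro ⟨_, 𝔭, rfl⟩
  exact hgP 𝔭

theorem finitePresentation_of_isLCI (A B : Type u) [CommRing A] [CommRing B] [Algebra A B]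
    (h : LCI.IsLCI A B) : Algebra.FinitePresentation A B := by
  obtain ⟨-, n, φ, hφ, hI⟩ := h
  exact Algebra.FinitePresentation.of_surjective hφ (fg_of_koszulRegularIdeal _ hI)

/-- S1514 -/
theorem S1514_main {X S : Scheme.{u}} (f : X ⟶ S)
    (hf : (∀ (U : X.Opens) (V : S.Opens) (hU : IsAffineOpen U) (hV : IsAffineOpen V)
        (hUV : U ≤ f ⁻¹ᵁ V),
        letI := (f.appLE V U hUV).hom.toAlgebra
        LCI.IsLCI Γ(S, V) Γ(X, U))) :
    LocallyOfFinitePresentation f ∧ MoreMor.IsPseudoCoherentMor f ∧ MoreMor.IsPerfectMor f := by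
  have hperf : MoreMor.IsPerfectMor f := by
    intro U V hU hV hUV
    letI := (f.appLE V U hUV).hom.toAlgebra
    exact S7070_main _ _ (hf U V hU hV hUV)
  refine ⟨⟨fun {V} hV {U} hU e => ?_⟩, fun U V hU hV hUV => (hperf U V hU hV hUV).1, hperf⟩
  letI := (f.appLE V U e).hom.toAlgebra
  exact finitePresentation_of_isLCI _ _ (hf U V hU hV e)

end Groth.Agent.Helper3.PerfHom
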