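import Mathlib
import Groth.Prelude.Def_MoreMor
import Groth.Prelude.Def_Mor2
import Groth.Agent.Lib.Helper3.PerfLoc3

/-! Regular closed immersions are perfect (S1509). -/

set_option autoImplicit false
universe u
open CategoryTheory CategoryTheory.Limits TensorProduct DerivedCategory AlgebraicGeometry

attribute [local instance] HasDerivedCategory.standard

namespace Groth.Agent.Helper3.PCLoc
open Groth.Agent.Helper3.PerfHom Groth.Agent.Helper5.PCHom Groth.Agent.Helper5.PCRes
open Groth.Agent.Helper5.TorAmp Groth.Agent.Helper5.PerfHom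

section surj

variable {T T' : Type u} [CommRing T] [CommRing T'] [Algebra T T']

theorem perfectHom_surjective_iff (h : Function.Surjective (algebraMap T T')) :
    MoreMor.IsPerfectHom T T' ↔ DRing.IsPerfectModule T T' := by
  unfold MoreMor.IsPerfectHom DRing.IsPerfectModule
  rw [s6954, pcHom_surjective_iff h, allPC_iff_pcModule', finTorDim_iff]
  rfl

/-- a surjection whose kernel is generated by a Koszul-regular sequence is perfect -/
theorem perfectHom_of_koszulRegular_ker (h : Function.Surjective (algebraMap T T'))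
    (rs : List T) (hrs : LCI.IsKoszulRegularSeq T rs)
    (hker : RingHom.ker (algebraMap T T') = Ideal.ofList rs) : MoreMor.IsPerfectHom T T' := by
  rw [perfectHom_surjective_iff h]
  have h1 := perfect_of_koszulRegular rs hrs
  rw [← hker] at h1
  exact isPerfectModule_of_equiv
    (Ideal.quotientKerAlgEquivOfSurjective (f := Algebra.ofId T T') h).toLinearEquiv h1

end surj

/-- S1509 -/
theorem S1509_main {Z X : Scheme.{u}} (i : Z ⟶ X) (hi : Mor2.IsRegularClosedImmersion i) :
    MoreMor.IsPerfectMor i := by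
  obtain ⟨hcl, hloc⟩ := hi
  rw [S7171_main]
  intro z
  obtain ⟨U, hU, hzU, rs, hreg, hker⟩ := hloc z
  refine ⟨i ⁻¹ᵁ U, U, le_rfl, hU.preimage i, hU, hzU, ?_⟩
  letI := (i.appLE U (i ⁻¹ᵁ U) le_rfl).hom.toAlgebra
  have happ : (i.appLE U (i ⁻¹ᵁ U) le_rfl) = i.app U := (Scheme.Hom.app_eq_appLE i).symm
  have hsurj : Function.Surjective (algebraMap Γ(X, U) Γ(Z, i ⁻¹ᵁ U)) := by
    show Function.Surjective (i.appLE U (i ⁻¹ᵁ U) le_rfl).hom
    rw [happ]
    exact i.app_surjective U hU
  refine perfectHom_of_koszulRegular_ker hsurj rs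
    (Groth.Agent.Helper8.KoszulLib.koszul_regular rs hreg.toIsWeaklyRegular).1 ?_
  rw [← hker, Scheme.Hom.ker_apply]
  show RingHom.ker (i.appLE U (i ⁻¹ᵁ U) le_rfl).hom = _
  rw [happ]

end Groth.Agent.Helper3.PCLoc
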