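import Mathlib
import Groth.Prelude.Def_MoreMor
import Groth.Prelude.Def_RegImm
import Groth.Agent.Lib.Helper3.PerfLoc4

/-! Koszul-regular immersions and Koszul morphisms are perfect (S8663). -/

set_option autoImplicit false
universe u
open CategoryTheory CategoryTheory.Limits TensorProduct DerivedCategory AlgebraicGeometry

attribute [local instance] HasDerivedCategory.standard

namespace Groth.Agent.Helper3.PCLoc
open Groth.Agent.Helper3.PerfHom

theorem app_surjective_of_restrict {Z P : Scheme.{u}} (i : Z ⟶ P) (U : P.Opens)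
    (hU : IsAffineOpen U) [IsClosedImmersion (i ∣_ U)] :
    Function.Surjective (i.app U).hom ∧ IsAffineOpen (i ⁻¹ᵁ U) := by
  haveI : IsAffine U.toScheme := hU
  obtain ⟨h1, h2⟩ := IsClosedImmersion.isAffine_surjective_of_isAffine (f := i ∣_ U)
  refine ⟨?_, h1⟩
  rw [morphismRestrict_appTop] at h2
  have h3 : Function.Surjective (i.app (U.ι ''ᵁ ⊤)).hom := by
    intro y
    obtain ⟨x, hx⟩ := h2 (Z.presheaf.map (eqToHom (image_morphismRestrict_preimage i U ⊤)).op y)
    refine ⟨x, ?_⟩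
    have hinj : Function.Injective
        (Z.presheaf.map (eqToHom (image_morphismRestrict_preimage i U ⊤)).op).hom :=
      ((ConcreteCategory.isIso_iff_bijective _).1 inferInstance).1
    exact hinj hx
  have h4 : U.ι ''ᵁ ⊤ = U := by simp
  rw [h4] at h3
  exact h3

theorem perfectMor_of_koszulRegularImmersion {Z P : Scheme.{u}} (i : Z ⟶ P)
    (hi : RegImm.IsRegularImmersion .koszul i) : MoreMor.IsPerfectMor i := by
  rw [S7171_main]
  intro z
  obtain ⟨U, hzU, hcl, rs, hrs, hker⟩ := hi.2 z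
  haveI := hcl
  obtain ⟨hsurj, haff⟩ := app_surjective_of_restrict i U.1 U.2
  refine ⟨i ⁻¹ᵁ U.1, U.1, le_rfl, haff, U.2, hzU, ?_⟩
  letI := (i.appLE U.1 (i ⁻¹ᵁ U.1) le_rfl).hom.toAlgebra
  have happ : (i.appLE U.1 (i ⁻¹ᵁ U.1) le_rfl) = i.app U.1 := (Scheme.Hom.app_eq_appLE i).symm
  have hsurj' : Function.Surjective (algebraMap Γ(P, U.1) Γ(Z, i ⁻¹ᵁ U.1)) := by
    show Function.Surjective (i.appLE U.1 (i ⁻¹ᵁ U.1) le_rfl).hom
    rw [happ]
    exact hsurj
  refine perfectHom_of_koszulRegular_ker hsurj' rs hrs ?_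
  rw [← hker]
  show RingHom.ker (i.appLE U.1 (i ⁻¹ᵁ U.1) le_rfl).hom = _
  rw [happ]

/-- S8663 -/
theorem S8663_main {X Y : Scheme.{u}} (f : X ⟶ Y) (hf : ∀ x : X, Synt.IsKoszulAt f x) :
    MoreMor.IsPerfectMor f := by
  choose U P i π hxU hft hi hπ hfac using hf
  rw [perfMor_iff, IsZariskiLocalAtSource.iff_of_iSup_eq_top (P := affineLocally @Perf) U
    (eq_top_iff.2 (fun x _ => TopologicalSpace.Opens.mem_iSup.2 ⟨x, hxU x⟩))]
  intro x
  rw [← hfac x, ← perfMor_iff]
  haveI := hπ x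
  exact S1508_main _ _ (perfectMor_of_koszulRegularImmersion _ (hi x)) (S7172_main (π x))

end Groth.Agent.Helper3.PCLoc
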