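import Mathlib
import Groth.Prelude.Def_DRing2
import Groth.Agent.Lib.Helper3.PCohMod
import Groth.Agent.Lib.Helper3.PCohM

/-!
# A module is perfect iff it has a finite resolution by finite projective modules
-/

open CategoryTheory Limits HomologicalComplex

universe u

namespace Groth.Agent.Helper3.PerfRes

open Groth.Agent.Helper3.PCohMod Groth.Agent.Helper3.PCohM

attribute [local instance] HasDerivedCategory.standard

variable (R : Type u) [CommRing R]

instance : (Pfp R).IsClosedUnderIsomorphisms where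
  of_iso {M N} e h := by
    obtain ⟨h1, h2⟩ := h
    exact ⟨Module.Finite.equiv e.toLinearEquiv, Module.Projective.of_equiv e.toLinearEquiv⟩

instance : (Pfp R).ContainsZero where
  exists_zero := ⟨ModuleCat.of R PUnit.{u + 1}, ModuleCat.isZero_of_subsingleton _,
    pff_le_pfp R ⟨inferInstanceAs (Module.Finite R PUnit.{u + 1}),
      inferInstanceAs (Module.Free R PUnit.{u + 1})⟩⟩

lemma hst_pfp : ∀ (E F : ModuleCat.{u} R) (u : E ⟶ F), Epi u → Pfp R E → Pfp R F →
    Pfp R (kernel u) := by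
  intro E F u hu hE hF
  exact pfp_X₁ R (S := ShortComplex.mk (kernel.ι u) u (kernel.condition u))
    { exact := ShortComplex.exact_kernel u
      mono_f := inferInstanceAs (Mono (kernel.ι u))
      epi_g := hu } hE hF

variable (M : Type u) [AddCommGroup M] [Module R M]

/-- a finite resolution by finite projective modules gives a perfect module -/
theorem perfect_of_resolution (P : ProjectiveResolution (ModuleCat.of R M)) (d : ℕ)
    (hz : ∀ i : ℕ, d < i → IsZero (P.complex.X i))
    (hf : ∀ i : ℕ, Module.Finite R (P.complex.X i)) :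
    DRing.IsPerfectModule R M := by
  refine ⟨P.cochainComplex, -(d : ℤ), 0, ?_, ?_, ⟨?_⟩⟩
  · intro i hi
    rcases hi with hi | hi
    · obtain ⟨k, rfl⟩ : ∃ k : ℕ, i = -(k : ℤ) := ⟨i.natAbs, by omega⟩
      exact IsZero.of_iso (hz k (by omega)) (P.cochainComplexXIso (-(k : ℤ)) k rfl)
    · exact CochainComplex.isZero_of_isStrictlyLE _ 0 _ hi
  · intro i
    by_cases hi : i ≤ 0
    · obtain ⟨k, rfl⟩ := Int.exists_eq_neg_ofNat hi
      have h1 : Pfp R (P.complex.X k) := by
        have := P.projective k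
        exact ⟨hf k, inferInstance⟩
      exact (Pfp R).prop_of_iso (P.cochainComplexXIso (-(k : ℤ)) k rfl).symm h1
    · exact (Pfp R).prop_of_isZero (CochainComplex.isZero_of_isStrictlyLE _ 0 _ (by omega))
  · have : IsIso (DerivedCategory.Q.map P.π') :=
      (DerivedCategory.isIso_Q_map_iff_quasiIso (φ := P.π')).2 inferInstance
    exact asIso (DerivedCategory.Q.map P.π') ≪≫
      ((DerivedCategory.singleFunctorIsoCompQ (ModuleCat.{u} R) 0).app (ModuleCat.of R M)).symm

/-- the cohomology of a complex representing `M[0]` -/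
lemma homology_of_iso (E : DRing.Cx R) (φ : DRing.toD E ≅ Dual.inD R M) :
    (∀ i : ℤ, i ≠ 0 → E.ExactAt i) ∧ Nonempty (E.homology 0 ≅ ModuleCat.of R M) := by
  have iso1 : ∀ n : ℤ, Nonempty (E.homology n ≅
      ((HomologicalComplex.single (ModuleCat.{u} R) (ComplexShape.up ℤ) 0).obj
        (ModuleCat.of R M)).homology n) := fun n =>
    ⟨((DerivedCategory.homologyFunctorFactors (ModuleCat.{u} R) n).app E).symm ≪≫
      (DerivedCategory.homologyFunctor (ModuleCat.{u} R) n).mapIso
        (φ ≪≫ (DerivedCategory.singleFunctorIsoCompQ (ModuleCat.{u} R) 0).app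
          (ModuleCat.of R M)) ≪≫
      (DerivedCategory.homologyFunctorFactors (ModuleCat.{u} R) n).app
        ((CochainComplex.singleFunctor (ModuleCat.{u} R) 0).obj (ModuleCat.of R M))⟩
  refine ⟨fun i hi => ?_, ?_⟩
  · obtain ⟨e⟩ := iso1 i
    rw [HomologicalComplex.exactAt_iff_isZero_homology]
    exact IsZero.of_iso
      (HomologicalComplex.isZero_single_obj_homology (ComplexShape.up ℤ) 0 _ i hi) e
  · obtain ⟨e⟩ := iso1 0
    exact ⟨e ≪≫ HomologicalComplex.singleObjHomologySelfIso (ComplexShape.up ℤ) 0 _⟩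

/-- the embedding `n ↦ -n` -/
abbrev e₀ : (ComplexShape.down ℕ).Embedding (ComplexShape.up ℤ) :=
  ComplexShape.embeddingUpIntLE 0

/-- a perfect module has a finite resolution by finite projective modules -/
theorem resolution_of_perfect (h : DRing.IsPerfectModule R M) :
    ∃ (P : ProjectiveResolution (ModuleCat.of R M)) (d : ℕ),
      (∀ i : ℕ, d < i → IsZero (P.complex.X i)) ∧ ∀ i : ℕ, Module.Finite R (P.complex.X i) := by
  obtain ⟨E, a, b, hv, hfp, ⟨φ⟩⟩ := h
  obtain ⟨hEx, ⟨h0⟩⟩ := homology_of_iso R M E φ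
  -- the truncated complex
  let P : ChainComplex (ModuleCat.{u} R) ℕ := HomologicalComplex.truncLE' E e₀
  have hb : ∀ k : ℕ, e₀.BoundaryLE k ↔ k = 0 := fun k =>
    ComplexShape.boundaryLE_embeddingUpIntLE_iff 0 k
  have hf : ∀ k : ℕ, e₀.f k = -(k : ℤ) := fun k => by simp [e₀]
  let xi : ∀ k : ℕ, 1 ≤ k → (P.X k ≅ E.X (-(k : ℤ))) := fun k hk =>
    E.truncLE'XIso e₀ (hf k) (by rw [hb]; omega)
  let c : P.X 0 ≅ E.cycles 0 := E.truncLE'XIsoCycles e₀ (by simp [e₀]) ((hb 0).2 rfl)
  -- the terms are finite projective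
  have hc0 : Pfp R (E.cycles 0) :=
    prop_cycles (hst_pfp R) E 0 b (fun i _ => hfp i) (fun i hi => hv i (Or.inr hi))
      (fun i hi => hEx i (by omega)) (b + 1).toNat 0 le_rfl (by
        have := Int.self_le_toNat (b + 1)
        omega)
  have hPfp : ∀ k : ℕ, Pfp R (P.X k) := by
    intro k
    by_cases hk : 1 ≤ k
    · exact (Pfp R).prop_of_iso (xi k hk).symm (hfp _)
    · obtain rfl : k = 0 := by omega
      exact (Pfp R).prop_of_iso c.symm hc0
  -- exactness in positive degrees
  have hPex : ∀ k : ℕ, 1 ≤ k → P.ExactAt k := by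
    intro k hk
    have h1 : E.ExactAt (e₀.f k) := hEx _ (by rw [hf]; omega)
    have h2 : (HomologicalComplex.truncLE E e₀).ExactAt (e₀.f k) :=
      (exactAt_iff_of_quasiIsoAt (HomologicalComplex.ιTruncLE E e₀) (e₀.f k)).2 h1
    have h3 : ((HomologicalComplex.truncLE' E e₀).extend e₀).ExactAt (e₀.f k) :=
      (exactAt_iff_of_quasiIsoAt (HomologicalComplex.truncLEIso E e₀).hom (e₀.f k)).1 h2
    exact (HomologicalComplex.extend_exactAt_iff _ e₀ rfl).1 h3
  -- the differential `P₁ ⟶ P₀`
  have hd : P.d 1 0 = (xi 1 le_rfl).hom ≫ E.toCycles (-1) 0 ≫ c.inv :=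
    E.truncLE'_d_eq_toCycles e₀ (i := 1) (j := 0) (by simp) (hf 1) (by simp [e₀]) ((hb 0).2 rfl)
  -- the augmentation
  let π₀ : P.X 0 ⟶ ModuleCat.of R M := c.hom ≫ E.homologyπ 0 ≫ h0.hom
  have hπ₀ : P.d 1 0 ≫ π₀ = 0 := by
    rw [hd]
    simp [π₀]
  let π : P ⟶ (ChainComplex.single₀ (ModuleCat.{u} R)).obj (ModuleCat.of R M) :=
    (ChainComplex.toSingle₀Equiv P _).symm ⟨π₀, hπ₀⟩
  have hπf : π.f 0 = π₀ := ChainComplex.toSingle₀Equiv_symm_apply_f_zero _ _
  have hq0 : QuasiIsoAt π 0 := by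
    rw [ChainComplex.quasiIsoAt₀_iff, ShortComplex.quasiIso_iff_of_zeros']
    · let S₀ : ShortComplex (ModuleCat.{u} R) :=
        ShortComplex.mk (E.toCycles (-1) 0) (E.homologyπ 0) (E.toCycles_comp_homologyπ (-1) 0)
      have hS₀ : S₀.Exact := S₀.exact_of_g_is_cokernel (E.homologyIsCokernel (-1) 0 (by simp))
      have hS₀' : Epi S₀.g := inferInstanceAs (Epi (E.homologyπ 0))
      refine (ShortComplex.exact_and_epi_g_iff_of_iso ?_).2 ⟨hS₀, hS₀'⟩
      refine ShortComplex.isoMk (xi 1 le_rfl) c h0.symm ?_ ?_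
      · change (xi 1 le_rfl).hom ≫ E.toCycles (-1) 0 = P.d 1 0 ≫ c.hom
        rw [hd]
        simp
      · change c.hom ≫ E.homologyπ 0 = π.f 0 ≫ h0.inv
        rw [hπf]
        simp [π₀]
    · exact P.shape _ _ (by simp)
    · rfl
    · rfl
  have hq : QuasiIso π := ⟨fun n => by
    cases n with
    | zero => exact hq0
    | succ n =>
      rw [quasiIsoAt_iff_exactAt']
      · exact hPex (n + 1) (by omega)
      · apply ChainComplex.exactAt_succ_single_obj⟩
  have hproj : ∀ k : ℕ, Projective (P.X k) := fun k => by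
    have := (hPfp k).2
    infer_instance
  refine ⟨{ complex := P, projective := hproj, π := π, quasiIso := hq }, (-a).toNat, ?_, ?_⟩
  · intro k hk
    have hk1 : 1 ≤ k := by omega
    have hka : -(k : ℤ) < a := by
      have := Int.self_le_toNat (-a)
      omega
    exact IsZero.of_iso (hv _ (Or.inl hka)) (xi k hk1)
  · intro k
    exact (hPfp k).1

end Groth.Agent.Helper3.PerfRes
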