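import Mathlib
import Groth.Prelude.Def_HTop

set_option autoImplicit false
set_option linter.style.haveILetI false

universe w w' u

open AlgebraicGeometry CategoryTheory CategoryTheory.Limits Opposite HTop

namespace Groth.Agent.Helper3.PhSheaf

/-- Zariski coverings, together with the presieves containing a proper surjective morphism -/
def Kzp : Precoverage Scheme.{u} where
  coverings X := {R | R ∈ Scheme.zariskiPrecoverage X ∨
    ∃ (V : Scheme.{u}) (g : V ⟶ X), R g ∧ IsProper g ∧ Surjective g}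

/-- the topology generated by Zariski coverings and proper surjective morphisms -/
abbrev Jzp : GrothendieckTopology Scheme.{u} := Kzp.toGrothendieck

/-- a sieve containing a proper surjective morphism -/
theorem isSheafFor_of_mem_proper (F : Scheme.{u}ᵒᵖ ⥤ Type w)
    (h₂ : ∀ (U V : Scheme.{u}) (f : V ⟶ U), IsProper f → Surjective f →
      Presieve.IsSheafFor F (Presieve.singleton f))
    {Y V : Scheme.{u}} (R : Sieve Y) (g : V ⟶ Y) (hg : R g) [IsProper g] [Surjective g] :
    Presieve.IsSheafFor F R.arrows := by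
  refine Presieve.isSheafFor_subsieve F (S := Sieve.generate (Presieve.singleton g)) ?_ ?_
  · have : Sieve.generate (Presieve.singleton g) ≤ R := by
      rw [Sieve.generate_le_iff]
      rintro W _ ⟨⟩
      exact hg
    exact this
  · intro Y' f'
    rw [← Sieve.pullbackArrows_comm, ← Presieve.isSheafFor_iff_generate,
      Presieve.pullback_singleton]
    exact h₂ _ _ _ inferInstance inferInstance

theorem isSheaf_Jzp (F : Scheme.{u}ᵒᵖ ⥤ Type w)
    (h₁ : Presieve.IsSheaf Scheme.zariskiTopology F)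
    (h₂ : ∀ (U V : Scheme.{u}) (f : V ⟶ U), IsProper f → Surjective f →
      Presieve.IsSheafFor F (Presieve.singleton f)) :
    Presieve.IsSheaf Jzp.{u} F := by
  rw [Precoverage.isSheaf_toGrothendieck_iff]
  intro X Y f R hR
  rcases hR with hR | ⟨V, g, hRg, hgp, hgs⟩
  · apply h₁
    exact Scheme.zariskiTopology.pullback_stable f (Precoverage.generate_mem_toGrothendieck hR)
  · haveI := hgp
    haveI := hgs
    refine isSheafFor_of_mem_proper F h₂ ((Sieve.generate R).pullback f) (pullback.snd g f) ?_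
    change (Sieve.generate R) (pullback.snd g f ≫ f)
    rw [← pullback.condition]
    exact ⟨V, pullback.fst g f, g, hRg, rfl⟩

/-- the affine open covering of a scheme -/
noncomputable abbrev affCov (Y : Scheme.{u}) : Y.OpenCover :=
  Y.openCoverOfIsOpenCover (fun U : Y.affineOpens => (U : Y.Opens)) (iSup_affineOpens_eq_top Y)

theorem zariski_le_Jzp : Scheme.zariskiTopology.{u} ≤ Jzp.{u} :=
  Precoverage.toGrothendieck_mono (fun _ _ hR => Or.inl hR)

/-- a standard ph covering generates a covering sieve -/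
theorem generate_mem_Jzp_of_isStandardPh {T : Scheme.{u}} (G : PreZeroHypercover.{w'} T)
    (hG : IsStandardPh G) (R : Sieve T) (hR : ∀ j, R (G.f j)) : R ∈ Jzp.{u} T := by
  obtain ⟨P, p, ι, hp, hps, hι, hιp, hcov⟩ := hG.exists_proper
  have h1 : Sieve.generate (Presieve.singleton p) ∈ Jzp.{u} T :=
    Precoverage.generate_mem_toGrothendieck (Or.inr ⟨P, p, ⟨⟩, hp, hps⟩)
  refine Jzp.transitive h1 R ?_
  rintro Y f ⟨W, b, _, ⟨⟩, rfl⟩
  rw [Sieve.pullback_comp]
  apply Jzp.pullback_stable
  apply zariski_le_Jzp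
  let 𝒰 : P.OpenCover := Scheme.Cover.mkOfCovers G.I₀ G.X ι
    (fun x => by obtain ⟨j, y, hy⟩ := hcov x; exact ⟨j, y, hy⟩) (fun j => hι j)
  refine Scheme.zariskiTopology.superset_covering ?_ 𝒰.mem_grothendieckTopology
  rw [Sieve.ofArrows, Sieve.generate_le_iff]
  rintro W _ ⟨j⟩
  change R (ι j ≫ p)
  rw [hιp]
  exact hR j

/-- a ph covering generates a covering sieve -/
theorem generate_mem_Jzp_of_isPhCover {X : Scheme.{u}} (E : PreZeroHypercover.{w'} X)
    (hE : IsPhCover E) : Sieve.generate E.presieve₀ ∈ Jzp.{u} X := by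
  have h0 : Sieve.ofArrows (affCov X).X (affCov X).f ∈ Jzp.{u} X :=
    zariski_le_Jzp _ (affCov X).mem_grothendieckTopology
  refine Jzp.transitive h0 _ ?_
  rintro Y f ⟨W, a, _, ⟨U₀⟩, rfl⟩
  let U : X.affineOpens := U₀
  rw [Sieve.pullback_comp]
  apply Jzp.pullback_stable
  obtain ⟨G, hG, href⟩ := hE.2 U
  refine generate_mem_Jzp_of_isStandardPh G hG _ (fun j => ?_)
  obtain ⟨i, h, hh⟩ := href j
  change (Sieve.generate E.presieve₀) (G.f j ≫ (U : X.Opens).ι)
  rw [← hh]
  exact ⟨E.X i, h, E.f i, ⟨i⟩, rfl⟩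

theorem S7501_main (F : Scheme.{u}ᵒᵖ ⥤ Type w)
    (h₁ : Presieve.IsSheaf Scheme.zariskiTopology F)
    (h₂ : ∀ (U V : Scheme.{u}) (f : V ⟶ U), IsProper f → Surjective f →
      Presieve.IsSheafFor F (Presieve.singleton f)) : HTop.IsPhSheaf F := by
  intro X R hR
  rw [HTop.phPrecoverage, PreZeroHypercoverFamily.mem_precoverage_iff] at hR
  obtain ⟨E, hE, rfl⟩ := hR
  exact (isSheaf_Jzp F h₁ h₂).isSheafFor _ (generate_mem_Jzp_of_isPhCover E hE)

end Groth.Agent.Helper3.PhSheaf
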