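import Mathlib
import Groth.Agent.Lib.Helper3.PiFlat2

/-! Properties of base changes descend to fibres; universal property of the isomorphism locus
(S17076). -/

set_option autoImplicit false
universe u
namespace Groth.Agent.Helper3.PiFlat

open CategoryTheory CategoryTheory.Limits AlgebraicGeometry Opposite

variable {X Y S : Scheme.{u}}

/-- a property satisfying fpqc descent which holds after base change to `T` holds on the fibres
over the image of `T` -/
theorem fibre_of_baseChange (P : MorphismProperty Scheme.{u}) [P.IsStableUnderBaseChange]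
    [P.DescendsAlong (@Surjective ⊓ @Flat ⊓ @QuasiCompact)]
    (f : X ⟶ S) (π : Y ⟶ X) {T : Scheme.{u}} (φ : T ⟶ S) (t : T)
    (hfl : P (pullback.snd π (pullback.fst f φ))) :
    P (pullback.snd π (f.fiberι (φ t))) := by
  have hc : IsPullback (pullback.fst f φ) (pullback.snd f φ) f φ := IsPullback.of_hasPullback f φ
  have hP := isPullback_fiberToSpecResidueField_of_isPullback hc t
  obtain ⟨m, hm⟩ : ∃ m : (pullback.snd f φ).fiber t ⟶ f.fiber (φ t),
      m = pullback.map (pullback.snd f φ) (T.fromSpecResidueField t) f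
        (S.fromSpecResidueField (φ t))
        (pullback.fst f φ) (Spec.map (φ.residueFieldMap t)) φ hc.w.symm (by simp) := ⟨_, rfl⟩
  rw [← hm] at hP
  haveI : Flat (Spec.map (φ.residueFieldMap t)) := flat_SpecMap_of_field (Field.toIsField _) _
  haveI : Surjective (Spec.map (φ.residueFieldMap t)) := by
    constructor
    intro z
    exact ⟨IsLocalRing.closedPoint _, Subsingleton.elim (α := PrimeSpectrum _) _ _⟩
  have h1 : QuasiCompact m :=
    MorphismProperty.of_isPullback (P := @QuasiCompact) hP.flip inferInstance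
  have h2 : Flat m :=
    MorphismProperty.of_isPullback (P := @Flat) hP.flip inferInstance
  have h3 : Surjective m :=
    MorphismProperty.of_isPullback (P := @Surjective) hP.flip inferInstance
  have hmι : (pullback.snd f φ).fiberι t ≫ pullback.fst f φ = m ≫ f.fiberι (φ t) := by
    rw [hm]
    exact (pullback.lift_fst _ _ _).symm
  exact descend_snd P (@Surjective ⊓ @Flat ⊓ @QuasiCompact) π (pullback.fst f φ)
    (f.fiberι (φ t)) ((pullback.snd f φ).fiberι t) m hmι ⟨⟨h3, h2⟩, h1⟩ hfl

theorem S17076_main {S : Scheme.{u}} [IsLocallyNoetherian S] (X Y : Over S) [IsProper X.hom]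
    [IsProper Y.hom] [Flat X.hom] (f : X ⟶ Y) :
    ∃ S₀ : S.Opens, ∀ (S' : Scheme.{u}) [IsLocallyNoetherian S'] (h : S' ⟶ S),
      Set.range h ⊆ (S₀ : Set S) ↔ IsIso ((Over.pullback h).map f).left := by
  haveI := IsoLoc.lfp_of_lft_of_isLocallyNoetherian X.hom
  haveI := IsoLoc.lfp_of_lft_of_isLocallyNoetherian Y.hom
  have w : f.left ≫ Y.hom = X.hom := Over.w f
  obtain ⟨U, hU, hiso⟩ := IsoLoc.S10888_main X.hom Y.hom f.left w
  refine ⟨U, fun S' _ h => ?_⟩
  have hmap : ((Over.pullback h).map f).left = pullback.map X.hom h Y.hom h f.left (𝟙 _) (𝟙 _)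
      ((Category.comp_id _).trans w.symm)
      ((Category.comp_id _).trans (Category.id_comp _).symm) := by
    apply pullback.hom_ext
    · simp [Over.pullback, pullback.map]
    · simp [Over.pullback, pullback.map]
  rw [hmap, IsoLoc.isIso_map_iff X.hom Y.hom f.left w h]
  constructor
  · intro hr
    refine IsoLoc.isIso_snd_of_isIso_restrict f.left (Y.hom ⁻¹ᵁ U) (pullback.fst Y.hom h) ?_
    rintro _ ⟨z, rfl⟩
    change Y.hom (pullback.fst Y.hom h z) ∈ U
    rw [← Scheme.Hom.comp_apply, pullback.condition, Scheme.Hom.comp_apply]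
    exact hr ⟨_, rfl⟩
  · intro hi
    rintro _ ⟨s', rfl⟩
    rw [SetLike.mem_coe, hU, IsoLoc.fibreCond_iff X.hom Y.hom f.left w]
    exact fibre_of_baseChange (MorphismProperty.isomorphisms Scheme) Y.hom f.left h s' hi

end Groth.Agent.Helper3.PiFlat
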