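import Mathlib
import Groth.Agent.Lib.Helper1.CoextL
import Groth.Agent.Lib.Helper1.InjHullL

/-!
# The coinduced resolution `0 → E[x] → Hom_A(A[x], E[x]) → Hom_A(A[x], E[x]) → 0`
-/

set_option autoImplicit false
universe u

namespace Groth.Agent.Helper3.PolyInj

open Polynomial TensorProduct
open Groth.Agent.Helper1.CoextL Groth.Agent.Helper1.InjHullL

variable (A : Type u) [CommRing A] (E : Type u) [AddCommGroup E] [Module A E]

/-- `E[x]` is injective over `A` (Bass). -/
theorem injective_poly_tensor [IsNoetherianRing A] [Module.Injective A E] :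
    Module.Injective A (A[X] ⊗[A] E) := by
  have h1 : Module.Injective A (DirectSum (ULift.{u} ℕ) fun _ => E) :=
    injective_directSum (fun _ : ULift.{u} ℕ => E) (fun _ => inferInstance)
  let e : (A[X] ⊗[A] E) ≃ₗ[A] (DirectSum (ULift.{u} ℕ) fun _ => E) :=
    (TensorProduct.congr ((Polynomial.basisMonomials A).repr) (LinearEquiv.refl A E)) ≪≫ₗ
      TensorProduct.finsuppScalarLeft A E ℕ ≪≫ₗ
      Finsupp.domLCongr Equiv.ulift.symm ≪≫ₗ finsuppLEquivDirectSum A E (ULift.{u} ℕ)
  exact (Module.Baer.of_equiv e.symm (Module.Baer.of_injective h1)).injective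

/-- `Hom_A(A[x], E[x])` as an `A[x]`-module. -/
abbrev J : Type u := Coext A A[X] (A[X] ⊗[A] E)

theorem injective_J [IsNoetherianRing A] [Module.Injective A E] :
    Module.Injective A[X] (J A E) := by
  haveI := injective_poly_tensor A E
  exact injective_coext

variable {A E}

/-- `p ↦ (f ↦ f • p)` -/
noncomputable def iota : (A[X] ⊗[A] E) →ₗ[A[X]] J A E where
  toFun p := ofLin ((LinearMap.toSpanSingleton A[X] (A[X] ⊗[A] E) p).restrictScalars A)
  map_add' p q := by
    ext b
    simp only [ev_ofLin, ev_add, LinearMap.coe_restrictScalars, LinearMap.toSpanSingleton_apply,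
      smul_add]
  map_smul' g p := by
    ext b
    simp only [ev_ofLin, ev_smul, LinearMap.coe_restrictScalars, LinearMap.toSpanSingleton_apply,
      RingHom.id_apply, mul_smul]

@[simp] theorem ev_iota (p : A[X] ⊗[A] E) (f : A[X]) : ev (iota p) f = f • p := rfl

theorem iota_injective : Function.Injective (iota (A := A) (E := E)) := by
  intro p q h
  have := congrArg (fun φ => ev φ 1) h
  simpa using this

/-- multiplication by `X` on `E[x]` as an `A`-linear map -/
noncomputable def mulX : (A[X] ⊗[A] E) →ₗ[A] (A[X] ⊗[A] E) :=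
  (LinearMap.lsmul A[X] (A[X] ⊗[A] E) X).restrictScalars A

@[simp] theorem mulX_apply (p : A[X] ⊗[A] E) : mulX p = (X : A[X]) • p := rfl

theorem ev_sub (g h : J A E) (b : A[X]) : ev (g - h) b = ev g b - ev h b :=
  map_sub (ModuleCat.CoextendScalars.equiv (algebraMap A A[X]) (ModuleCat.of A (A[X] ⊗[A] E))).toLinearMap g h |> fun H => by
    have := congrArg (fun l => l b) H
    exact this

/-- `φ ↦ (f ↦ φ (X f) - X φ(f))` -/
noncomputable def delta : J A E →ₗ[A[X]] J A E where
  toFun φ := (X : A[X]) • φ - ofLin (mulX ∘ₗ toLin φ)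
  map_add' φ ψ := by
    ext b
    simp only [ev_sub, ev_add, ev_smul, ev_ofLin, LinearMap.comp_apply, toLin_apply, mulX_apply,
      smul_add]
    abel
  map_smul' g φ := by
    ext b
    simp only [ev_sub, ev_smul, ev_ofLin, LinearMap.comp_apply, toLin_apply, mulX_apply,
      RingHom.id_apply]
    congr 2
    ring

@[simp] theorem ev_delta (φ : J A E) (f : A[X]) :
    ev (delta φ) f = ev φ (f * X) - (X : A[X]) • ev φ f := by
  show ev ((X : A[X]) • φ - ofLin (mulX ∘ₗ toLin φ)) f = _
  rw [ev_sub, ev_smul, ev_ofLin]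
  rfl

theorem delta_iota (p : A[X] ⊗[A] E) : delta (iota p) = 0 := by
  ext f
  rw [ev_delta, ev_iota, ev_iota, ev_zero, mul_smul, smul_smul, smul_smul, mul_comm, sub_self]

theorem ev_eq_smul_of_delta_eq_zero (φ : J A E) (h : delta φ = 0) (f : A[X]) :
    ev φ f = f • ev φ 1 := by
  have hX : ∀ g : A[X], ev φ (g * X) = (X : A[X]) • ev φ g := by
    intro g
    have := congrArg (fun ψ => ev ψ g) h
    simp only [ev_delta, ev_zero] at this
    exact sub_eq_zero.mp this
  induction f using Polynomial.induction_on with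
  | C a =>
    have h1 : (C a : A[X]) = a • (1 : A[X]) := by
      rw [Algebra.smul_def, mul_one]; rfl
    rw [h1, ev_map_smul, smul_assoc, one_smul]
  | add p q hp hq => rw [ev_map_add, hp, hq, add_smul]
  | monomial n a ih =>
    rw [pow_succ, ← mul_assoc, hX, ih, smul_smul, mul_comm]

theorem ker_delta_le : LinearMap.ker (delta (A := A) (E := E)) ≤ LinearMap.range iota := by
  intro φ hφ
  rw [LinearMap.mem_ker] at hφ
  refine ⟨ev φ 1, ?_⟩
  ext f
  rw [ev_iota, ev_eq_smul_of_delta_eq_zero φ hφ f]

theorem exact_iota_delta : Function.Exact (iota (A := A) (E := E)) delta := by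
  rw [LinearMap.exact_iff]
  apply le_antisymm ker_delta_le
  rintro _ ⟨p, rfl⟩
  rw [LinearMap.mem_ker, delta_iota]

/-- the recursively defined values of a preimage under `delta` -/
noncomputable def preVal (ψ : J A E) : ℕ → A[X] ⊗[A] E
  | 0 => 0
  | n + 1 => (X : A[X]) • preVal ψ n + ev ψ (X ^ n)

theorem delta_surjective : Function.Surjective (delta (A := A) (E := E)) := by
  intro ψ
  let φ₀ : A[X] →ₗ[A] (A[X] ⊗[A] E) := (Polynomial.basisMonomials A).constr A (preVal ψ)
  have hφ₀ : ∀ n : ℕ, φ₀ (X ^ n) = preVal ψ n := by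
    intro n
    have h1 := (Polynomial.basisMonomials A).constr_basis A (preVal ψ) n
    rw [Polynomial.coe_basisMonomials] at h1
    simp only at h1
    rw [← Polynomial.monomial_one_right_eq_X_pow]
    exact h1
  refine ⟨ofLin φ₀, ?_⟩
  -- compare the two `A`-linear maps on monomials
  have key : (toLin (delta (ofLin φ₀))) = toLin ψ := by
    apply Polynomial.lhom_ext'
    intro n
    apply LinearMap.ext_ring
    simp only [LinearMap.comp_apply, toLin_apply, ev_delta, ev_ofLin,
      Polynomial.monomial_one_right_eq_X_pow]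
    rw [← pow_succ, hφ₀, hφ₀]
    show (X : A[X]) • preVal ψ n + ev ψ (X ^ n) - _ = _
    abel
  ext f
  have := congrArg (fun l => l f) key
  exact this

end Groth.Agent.Helper3.PolyInj
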