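import Mathlib
import Groth.Prelude.Def_Wider
import Groth.Prelude.Def_DRing2
import Groth.Agent.Lib.Helper3.GorDual
import Groth.Agent.Lib.Helper3.PolyInj1
import Groth.Agent.Lib.Helper5.ProjAmp.InjAmp

/-!
# `A[x] ⊗ E` has injective amplitude in `[0, 1]`
-/

set_option autoImplicit false
universe u
open CategoryTheory CategoryTheory.Limits Pretriangulated Triangulated

attribute [local instance] HasDerivedCategory.standard

namespace Groth.Agent.Helper3.PolyInj

open DerivedCategory Polynomial TensorProduct Groth.Agent.Helper1.CoextL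

/-- `Ext^k(N, X₁) = 0` for `k ≥ 2` when `0 → X₁ → X₂ → X₃ → 0` with `X₂`, `X₃` injective -/
theorem subsingleton_ext_of_shortExact {R : Type u} [CommRing R]
    (S : ShortComplex (ModuleCat.{u} R)) (hS : S.ShortExact) [Injective S.X₂] [Injective S.X₃]
    (N : ModuleCat.{u} R) (k : ℕ) (hk : 2 ≤ k) :
    letI := HasExt.standard (ModuleCat.{u} R)
    Subsingleton (Abelian.Ext N S.X₁ k) := by
  letI := HasExt.standard (ModuleCat.{u} R)
  obtain ⟨n, rfl⟩ : ∃ n : ℕ, k = n + 1 + 1 := ⟨k - 2, by omega⟩
  refine ⟨fun x y => ?_⟩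
  suffices ∀ x : Abelian.Ext N S.X₁ (n + 1 + 1), x = 0 by rw [this x, this y]
  intro x
  have h1 : x.comp (Abelian.Ext.mk₀ S.f) (add_zero (n + 1 + 1)) = 0 :=
    Abelian.Ext.eq_zero_of_injective _
  obtain ⟨x₃, hx₃⟩ := Abelian.Ext.covariant_sequence_exact₁ N hS x h1 (n₀ := n + 1) rfl
  rw [← hx₃, Abelian.Ext.eq_zero_of_injective x₃, Abelian.Ext.zero_comp]

theorem subsingleton_hom_of_shortExact {R : Type u} [CommRing R]
    (S : ShortComplex (ModuleCat.{u} R)) (hS : S.ShortExact) [Injective S.X₂] [Injective S.X₃]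
    (N : ModuleCat.{u} R) (i : ℤ) (hi : i < 0 ∨ 1 < i) :
    Subsingleton ((DerivedCategory.singleFunctor (ModuleCat.{u} R) 0).obj N ⟶
      ((DerivedCategory.singleFunctor (ModuleCat.{u} R) 0).obj S.X₁)⟦i⟧) := by
  rcases hi with hi | hi
  · exact Groth.Agent.Helper3.RegDual.subsingleton_single_neg N S.X₁ i hi
  · obtain ⟨k, rfl⟩ : ∃ k : ℕ, i = (k : ℤ) := ⟨i.toNat, by omega⟩
    exact (Groth.Agent.Helper3.GorDual.subsingleton_ext_iff S.X₁ N k).1
      (subsingleton_ext_of_shortExact S hS N k (by omega))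

variable (A : Type u) [CommRing A] [IsNoetherianRing A] (E : Type u) [AddCommGroup E] [Module A E]
  [Module.Injective A E]

/-- the short complex `E[x] → J → J` -/
noncomputable def sc : ShortComplex (ModuleCat.{u} A[X]) :=
  ShortComplex.mk (ModuleCat.ofHom (iota (A := A) (E := E)))
    (ModuleCat.ofHom (delta (A := A) (E := E))) (by
      apply ModuleCat.hom_ext
      apply LinearMap.ext
      intro p
      exact delta_iota p)

theorem sc_shortExact : (sc A E).ShortExact := by
  have hex : (sc A E).Exact := by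
    rw [ShortComplex.ShortExact.moduleCat_exact_iff_function_exact]
    exact exact_iota_delta
  haveI : Mono (sc A E).f := (ModuleCat.mono_iff_injective _).2 iota_injective
  haveI : Epi (sc A E).g := (ModuleCat.epi_iff_surjective _).2 delta_surjective
  exact ShortComplex.ShortExact.mk hex

theorem main_S1748 : DRing.HasInjAmplitudeIn A[X] 0 1 (Dual.inD A[X] (A[X] ⊗[A] E)) := by
  apply Groth.Agent.Helper5.InjAmp.injAmp_of_three
  intro I i hi
  haveI hJ : Injective (ModuleCat.of A[X] (J A E)) :=
    haveI := injective_J A E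
    Module.injective_object_of_injective_module A[X] (J A E)
  haveI : Injective (sc A E).X₂ := hJ
  haveI : Injective (sc A E).X₃ := hJ
  exact subsingleton_hom_of_shortExact (sc A E) (sc_shortExact A E)
    (ModuleCat.of A[X] (A[X] ⧸ I)) i hi

end Groth.Agent.Helper3.PolyInj
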